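import Mathlib
import Cfsg.Agent.Lib.FeitCoherence
import Cfsg.Agent.Lib.FeitCount
import Cfsg.Agent.Lib.FourCoherence
import Cfsg.Agent.Lib.CharBasicInt

/-!
Zassenhaus groups with two-point stabilisers of odd order and kernel of odd order.
-/

set_option autoImplicit false

namespace Cfsg.Agent.Feit

open MulAction Zassenhaus Finset Cfsg
open scoped ComplexConjugate
open CharBasic CharBasicOrth CharBasicDecomp

universe u v

variable {G : Type u} {Ω : Type v} [Group G] [MulAction G Ω]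

/-- The complex conjugate of an irreducible character. -/
noncomputable def cIrr {K : Type u} [Group K] [Finite K] (χ : Cfsg.IrrCharacter K) :
    Cfsg.IrrCharacter K :=
  ⟨fun g => conj ((χ : K → ℂ) g), isIrrCharacter_conj χ.2⟩

theorem cIrr_cIrr {K : Type u} [Group K] [Finite K] (χ : Cfsg.IrrCharacter K) :
    cIrr (cIrr χ) = χ :=
  Subtype.ext (funext fun _ => Complex.conj_conj _)

theorem cIrr_triv {K : Type u} [Group K] [Finite K] : cIrr (trivIrr K) = trivIrr K :=
  Subtype.ext (funext fun _ => map_one _)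

theorem dg_cIrr {K : Type u} [Group K] [Finite K] (χ : Cfsg.IrrCharacter K) :
    dg (cIrr χ) = dg χ := by
  have h1 : ((dg (cIrr χ) : ℕ) : ℂ) = ((dg χ : ℕ) : ℂ) := by
    rw [← CharAverage.irr_apply_one, ← CharAverage.irr_apply_one]
    show conj ((χ : K → ℂ) 1) = _
    rw [CharAverage.irr_apply_one, Complex.conj_natCast]
  exact_mod_cast h1

theorem nu_re_le {K : Type u} [Group K] [Finite K] (χ : Cfsg.IrrCharacter K) :
    (RealChars.nu (χ : K → ℂ)).re ≤ 1 := by
  by_cases hr : ∀ g, ((χ : K → ℂ) g).im = 0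
  · rcases RealChars.nu_eq_one_or_neg_one χ hr with h1 | h1 <;> simp [h1]
  · simp [RealChars.nu_eq_zero χ hr]

theorem cIrr_of_nu {K : Type u} [Group K] [Finite K] (χ : Cfsg.IrrCharacter K)
    (h : RealChars.nu (χ : K → ℂ) ≠ 0) : cIrr χ = χ :=
  Subtype.ext (funext fun g => Complex.conj_eq_iff_im.2 (RealChars.real_of_nu_ne_zero χ h g))

variable [Fintype G] [Fintype Ω] {a b : Ω} {H : Subgroup G} [Fintype H] {h e j : ℕ}

theorem mult_cIrr (χ : Cfsg.IrrCharacter G) (φ : Cfsg.IrrCharacter H) :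
    mult H (cIrr χ) φ = mult H χ (cIrr φ) := by
  have h1 := mult_spec H (cIrr χ) φ
  have h2 := congrArg conj (mult_spec H χ (cIrr φ))
  rw [map_natCast, Cfsg.classInner, map_mul, map_inv₀, map_natCast, map_sum] at h2
  rw [Cfsg.classInner] at h1
  have h3 : ((mult H (cIrr χ) φ : ℕ) : ℂ) = ((mult H χ (cIrr φ) : ℕ) : ℂ) := by
    rw [← h1, ← h2]
    congr 1
    exact Finset.sum_congr rfl fun u _ => by simp [cIrr]
  exact_mod_cast h3

/-- Conjugation on `PP`. -/
noncomputable def cP (φ : PP H) : PP H :=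
  ⟨cIrr φ.1, fun h => φ.2 (by rw [← cIrr_cIrr φ.1, h, cIrr_triv])⟩

/-- Conjugation on `CC`. -/
noncomputable def cC (χ : CC (G := G) H) : CC (G := G) H :=
  ⟨cIrr χ.1, by rw [mult_cIrr, cIrr_triv]; exact χ.2⟩

variable (S : Sim a b H h e j)
include S

namespace Sim

theorem hodd_all : ∀ c d : Ω, c ≠ d → Odd (Nat.card (two G c d)) :=
  odd_all S.hZ S.hab S.odd_e

theorem swap_sq : ∀ c d : Ω, c ≠ d → ∀ s : G, s • c = d → s • d = c → s * s = 1 := by
  intro c d hcd s hsc hsd
  have hm : s * s ∈ two G c d := ⟨by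
    show (s * s) • c = c
    rw [mul_smul, hsc, hsd], by
    show (s * s) • d = d
    rw [mul_smul, hsd, hsc]⟩
  have e1 := S.hinv c d hcd s hsc hsd _ hm
  rw [show s * (s * s) * s⁻¹ = s * s by group, eq_inv_iff_mul_eq_one, ← pow_two] at e1
  have h1 : orderOf (⟨s * s, hm⟩ : two G c d) ∣ 2 := orderOf_dvd_of_pow_eq_one (Subtype.ext e1)
  exact congrArg Subtype.val (orderOf_eq_one_iff.1 (Nat.eq_one_of_dvd_coprimes
    (Nat.coprime_two_left.2 (S.hodd_all c d hcd)) h1 (orderOf_dvd_natCard _)))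

variable (hodd : Odd h)
include hodd

theorem free_invol {g : G} (hg : g * g = 1) (hg1 : g ≠ 1) (c : Ω) : g • c ≠ c := by
  classical
  refine nfix_eq_zero_iff.1 ?_ c
  rw [invol_nfix S.hZ S.hodd_all hg hg1, ← Nat.card_eq_fintype_card, S.hΩ, ← Nat.even_iff,
    Nat.even_add_one, Nat.not_even_iff_odd]
  exact hodd

theorem card_invol_odd [DecidableEq G] :
    (Finset.univ.filter fun g : G => g * g = 1 ∧ g ≠ 1).card = e * h := by
  classical
  rw [card_invol S.hZ S.hodd_all S.swap_sq S.hab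
    (by rw [← Nat.card_eq_fintype_card, S.hΩ]) S.he, if_neg (Nat.not_even_iff_odd.2 hodd)]

theorem cP_ne (φ : PP H) : ¬ Rel a H φ.1 (cP φ).1 := by
  rintro ⟨x, hx, ex⟩
  have hx' : x * x ∈ H := by
    by_contra hn
    refine φ.2 (S.eq_triv_of_cj_eq (by rw [mul_smul, hx, hx]) hn ?_)
    rw [← S.cj_cj hx hx]
    have e2 : cj H x (φ.1 : H → ℂ) = ((cP φ).1 : H → ℂ) := by
      funext u
      have := congrFun ex u
      rw [S.cj_apply hx] at this
      rw [S.cj_apply hx]
      have h3 := congrArg conj this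
      simp only [cP, cIrr, Complex.conj_conj] at h3 ⊢
      exact h3
    rw [e2, ex]
  have hxH : x ∈ H := by
    by_contra hn
    set A := stabilizer G a
    set K := H.subgroupOf A
    haveI hK : K.Normal :=
      ⟨fun k hk g => kernel_conj_mem S.hZ S.hHa S.hHcard S.hfix g.2 hk⟩
    have hidx : K.index = e := by
      have := Subgroup.card_mul_index K
      rw [S.card_stab, Nat.card_congr (Subgroup.subgroupOfEquivOfLe S.hHa).toEquiv, S.hH] at this
      exact Nat.eq_of_mul_eq_mul_left (by have := S.two_le_h; omega) this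
    have h1 : (x ^ e : G) ∈ H := (hidx ▸ Subgroup.pow_index_mem K (⟨x, hx⟩ : A) :)
    rw [S.hj, pow_succ, pow_mul, pow_two] at h1
    exact hn ((H.mul_mem_cancel_left (H.pow_mem hx' j)).1 h1)
  rw [S.cj_of_mem hxH (RealChars.isCF _)] at ex
  have hr : ((φ.1 : Cfsg.IrrCharacter H) : H → ℂ) = fun _ => 1 :=
    FourCoherence.eq_one_of_real (by rw [S.hH]; exact hodd) φ.1 fun d => congrFun ex d
  exact φ.2 (Subtype.ext hr)

theorem sqrt_count {u : G} (hu : u ∈ H) [DecidableEq G] :
    Nat.card {x : G // x * x = u} = if u = 1 then e * h + 1 else 1 := by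
  classical
  split_ifs with h1
  · subst h1
    rw [Nat.card_eq_fintype_card, Fintype.card_subtype,
      show Finset.univ.filter (fun x : G => x * x = 1) =
        insert 1 (Finset.univ.filter fun g : G => g * g = 1 ∧ g ≠ 1) by
          ext x; by_cases hx : x = 1 <;> simp [hx],
      Finset.card_insert_of_notMem (by simp), S.card_invol_odd hodd]
  · have hpow : u ^ h = 1 := by
      rw [← S.hH]
      exact congrArg Subtype.val (pow_card_eq_one' (x := (⟨u, hu⟩ : H)))
    obtain ⟨k, hk⟩ := hodd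
    have hr : u ^ (k + 1) * u ^ (k + 1) = u := by
      rw [← pow_add, show k + 1 + (k + 1) = h + 1 by omega, pow_succ, hpow, one_mul]
    rw [show Nat.card {x : G // x * x = u} = Nat.card {x : G // x = u ^ (k + 1)} from
      Nat.card_congr (Equiv.subtypeEquivRight fun x => ⟨fun hx => ?_, fun hx => hx ▸ hr⟩)]
    · simp
    · have hxH : x ∈ H := S.mem_of_comm hu h1 (by rw [← hx]; group)
      have hxpow : x ^ h = 1 := by
        rw [← S.hH]
        exact congrArg Subtype.val (pow_card_eq_one' (x := (⟨x, hxH⟩ : H)))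
      rw [← hx, ← pow_two, ← pow_mul, show 2 * (k + 1) = h + 1 by omega, pow_succ, hxpow, one_mul]

/-- Weighted indicator sums of a linear column. -/
theorem nu_col (φ : Cfsg.IrrCharacter H) (hφ : φ ≠ trivIrr H) :
    ∑ χ, (mult H χ φ : ℂ) * RealChars.nu (χ : G → ℂ) = (e : ℂ) * dg φ := by
  classical
  rw [col_eq]
  have h1 : ∀ u : H, ∑ χ : Cfsg.IrrCharacter G, RealChars.nu (χ : G → ℂ) * conj ((χ : G → ℂ) u) =
      1 + if u = 1 then (e : ℂ) * h else 0 := by
    intro u
    have h2 := congrArg conj (RealChars.sqrtCount_eq (u : G))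
    simp only [map_natCast, map_sum, map_mul, RealChars.conj_nu] at h2
    rw [← h2, S.sqrt_count hodd u.2]
    by_cases hu : u = 1
    · subst hu
      simp [add_comm]
    · rw [if_neg hu, if_neg fun h' : (u : G) = 1 => hu (Subtype.ext h')]
      simp
  have h3 : ∑ u : H, (φ : H → ℂ) u = 0 := by
    have h4 := card_mul_classInner (φ : H → ℂ) (trivIrr H : H → ℂ)
    rw [classInner_irr_ne φ.2 (trivIrr H).2 (fun h' => hφ (Subtype.ext h')), mul_zero] at h4
    rw [h4]
    exact Finset.sum_congr rfl fun u _ => by simp [trivIrr]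
  rw [Finset.sum_congr rfl fun u _ => by rw [h1 u, mul_add, mul_one, mul_ite, mul_zero],
    Finset.sum_add_distrib, h3, zero_add, Finset.sum_ite_eq', if_pos (mem_univ _),
    CharAverage.irr_apply_one, S.hH]
  have h0 : (h : ℂ) ≠ 0 := Nat.cast_ne_zero.2 (by have := S.two_le_h; omega)
  field_simp

/-- The base for a kernel of odd order. -/
theorem exists_base_odd [Fintype (CC (G := G) H)] [DecidableEq (CC (G := G) H)] [Fintype (PP H)] :
    ∃ W : CC (G := G) H → ℕ, ∑ χ, W χ * W χ = j ∧ (∀ χ, W χ ≤ 1) ∧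
      (∀ χ, cC χ ≠ χ → W χ = 0) ∧ ∀ φ : PP H, dg φ.1 = 1 →
      Good (fun (χ : CC (G := G) H) (φ : PP H) => mult H χ.1 φ.1) (fun φ => dg φ.1) W φ := by
  classical
  set B := Finset.univ.filter fun φ : PP H => dg φ.1 = 1 with hBdef
  have hBne : B.Nonempty := by
    obtain ⟨-, hL⟩ := S.index_commutator
    have h1 : 1 ≤ ((Finset.univ.filter fun φ : Cfsg.IrrCharacter H => dg φ = 1).erase
        (trivIrr H)).card := by
      rw [Finset.card_erase_of_mem (by simp [dg_triv]), card_dg_one]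
      omega
    obtain ⟨φ, hφ⟩ := Finset.card_pos.1 h1
    obtain ⟨hne, hφ⟩ := mem_erase.1 hφ
    exact ⟨⟨φ, hne⟩, mem_filter.2 ⟨mem_univ _, (mem_filter.1 hφ).2⟩⟩
  obtain ⟨ε, T, hεne, htT, heT, hcard, -, -, hset, hvals, -⟩ := S.exists_sj
  have hreal : ∀ φ ∈ B, j ≤ ∑ χ : CC (G := G) H, if cC χ = χ then mult H χ.1 φ.1 else 0 := by
    intro φ hφ
    have hf : Cfsg.charDegree (φ.1 : H → ℂ) = 1 := (mem_filter.1 hφ).2
    have h1 := S.nu_col hodd φ.1 φ.2
    rw [S.sum_cc _ _ ε T ⟨hεne, htT, heT⟩ hset, (hvals φ.1 φ.2).1, (hvals φ.1 φ.2).2.1,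
      Finset.sum_congr rfl (g := fun χ : Cfsg.IrrCharacter G => RealChars.nu (χ : G → ℂ))
        (fun χ hχ => by rw [(hvals φ.1 φ.2).2.2 χ hχ, hf, Nat.cast_one, one_mul]),
      show dg φ.1 = 1 from hf, hf, Nat.cast_zero, zero_mul, zero_add, Nat.cast_one, one_mul,
      mul_one] at h1
    have h2 := congrArg Complex.re h1
    simp only [Complex.add_re, Complex.re_sum, Complex.natCast_re] at h2
    have h3 : ∑ χ ∈ T, (RealChars.nu (χ : G → ℂ)).re ≤ j := by
      refine (Finset.sum_le_sum fun χ _ => nu_re_le χ).trans ?_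
      simp [hcard]
    have h4 : ∑ χ : CC (G := G) H, ((mult H χ.1 φ.1 : ℂ) * RealChars.nu (χ.1 : G → ℂ)).re ≤
        ∑ χ : CC (G := G) H, ((if cC χ = χ then mult H χ.1 φ.1 else 0 : ℕ) : ℝ) := by
      refine Finset.sum_le_sum fun χ _ => ?_
      by_cases hν : RealChars.nu (χ.1 : G → ℂ) = 0
      · simp only [hν, mul_zero, Complex.zero_re]
        exact Nat.cast_nonneg _
      · rw [if_pos (Subtype.ext (cIrr_of_nu χ.1 hν) : cC χ = χ), Complex.mul_re,
          Complex.natCast_re, Complex.natCast_im, zero_mul, sub_zero]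
        exact mul_le_of_le_one_right (Nat.cast_nonneg _) (nu_re_le χ.1)
    have h5 : (j : ℝ) ≤ ∑ χ : CC (G := G) H, ((if cC χ = χ then mult H χ.1 φ.1 else 0 : ℕ) : ℝ) := by
      have := nu_re_le ε
      have he : (e : ℝ) = 2 * j + 1 := by exact_mod_cast S.hj
      linarith
    exact_mod_cast h5
  obtain ⟨W, hW, hW1, hW0, hgood⟩ := S.gramData.exists_base_real
    (cC : CC (G := G) H → CC (G := G) H) (fun χ => Subtype.ext (cIrr_cIrr χ.1)) B hBne
    (fun φ hφ => (mem_filter.1 hφ).2) cP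
    (fun φ hφ => mem_filter.2 ⟨mem_univ _, (dg_cIrr φ.1).trans (mem_filter.1 hφ).2⟩)
    (fun φ _ χ => mult_cIrr χ.1 φ.1) (fun φ _ => S.cP_ne hodd φ) hreal
  exact ⟨W, hW, hW1, hW0, fun φ hφ => hgood φ (mem_filter.2 ⟨mem_univ _, hφ⟩)⟩

omit hodd in
/-- Class sums at an element. -/
theorem degree_dvd (χ : Cfsg.IrrCharacter G) (t : G) (z : ℤ) (hz : (χ : G → ℂ) t = z) :
    Cfsg.charDegree (χ : G → ℂ) ∣ Nat.card {x : G // IsConj t x} * z.natAbs := by
  classical
  obtain ⟨n, ρ, hirr, he⟩ := χ.2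
  haveI := hirr
  have hd : (Module.finrank ℂ (Fin n → ℂ) : ℂ) = (Cfsg.charDegree (χ : G → ℂ) : ℂ) := by
    rw [← CharAverage.irr_apply_one, ← he]
    exact (Representation.char_one ρ).symm
  have h1 := CharBasicInt.isIntegral_classSum ρ t
  have hidx : (Subgroup.centralizer ({t} : Set G)).index = Nat.card {x : G // IsConj t x} := by
    refine Nat.eq_of_mul_eq_mul_right (Nat.card_pos
      (α := Subgroup.centralizer ({t} : Set G))) ?_
    rw [card_conj_mul_card_centralizer, Subgroup.index_mul_card]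
  rw [hd, congrFun he t, hz, hidx] at h1
  refine CharBasicInt.dvd_of_isIntegral_div (CharAverage.irr_degree_pos χ).ne' ?_
  rw [Nat.cast_mul]
  rcases Int.natAbs_eq z with hh | hh <;> rw [hh] at h1
  · rw [Int.cast_natCast] at h1
    exact h1
  · rw [Int.cast_neg, Int.cast_natCast] at h1
    have := h1.neg
    rwa [mul_neg, neg_div, neg_neg] at this

theorem card_class_invol {t : G} (ht : t * t = 1) (ht1 : t ≠ 1) :
    Nat.card {x : G // IsConj t x} = e * h := by
  classical
  rw [← S.card_invol_odd hodd, Nat.card_eq_fintype_card, Fintype.card_subtype]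
  congr 1
  ext x
  simp only [mem_filter, mem_univ, true_and]
  constructor
  · intro hx
    obtain ⟨k, rfl⟩ := isConj_iff.1 hx
    refine ⟨?_, fun e' => ht1 (conj_eq_one_iff.1 e')⟩
    rw [show k * t * k⁻¹ * (k * t * k⁻¹) = k * (t * t) * k⁻¹ by group, ht]
    group
  · rintro ⟨hx, hx1⟩
    exact invol_conj S.hZ S.hodd_all S.swap_sq ht ht1 hx hx1

theorem inv_product_not_conj {s t u : G} (hs : s * s = 1) (ht : t * t = 1) (ht1 : t ≠ 1)
    (hu : u ∈ H) (hu1 : u ≠ 1) : ¬ IsConj (s * t) u := by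
  intro hc
  obtain ⟨k, hk⟩ := isConj_iff.1 hc.symm
  have hz : ∀ c, (s * t) • c = c → c = k • a := by
    intro c hc'
    rw [← hk, mul_smul, mul_smul] at hc'
    rw [← S.hfix u hu hu1 (k⁻¹ • c) (eq_inv_smul_iff.2 hc'), smul_inv_smul]
  have hfc : (s * t) • (k • a) = k • a := by
    rw [← hk, mul_smul, mul_smul, inv_smul_smul, show u • a = a from S.hHa hu]
  refine S.free_invol hodd ht ht1 (k • a) (hz (t • (k • a)) ?_)
  have e1 : t • (k • a) = s • (k • a) := by
    have := congrArg (fun c => s • c) hfc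
    simpa [← mul_smul, ← mul_assoc, hs] using this
  rw [← mul_smul, mul_assoc, ht, mul_one, ← e1]

/-- The values at an involution on a column. -/
theorem invol_col [Fintype (CC (G := G) H)] {t : G} (ht : t * t = 1) (ht1 : t ≠ 1) (φ : PP H) :
    ∑ χ : CC (G := G) H, (mult H χ.1 φ.1 : ℂ) * (χ.1 : G → ℂ) t = dg φ.1 ∧
    ∑ χ : CC (G := G) H, (mult H χ.1 φ.1 : ℂ) *
      ((χ.1 : G → ℂ) t * (χ.1 : G → ℂ) t / (χ.1 : G → ℂ) 1) = dg φ.1 := by
  classical
  obtain ⟨ε, T, hεne, htT, heT, -, hεv, -, hset, hvals, hfree⟩ := S.exists_sj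
  obtain ⟨hεt, hTt⟩ := hfree t (S.free_invol hodd ht ht1)
  have htu : ∀ u : H, ¬ IsConj t (u : G) := by
    intro u hc
    obtain ⟨k, hk⟩ := isConj_iff.1 hc.symm
    exact S.free_invol hodd ht ht1 (k • a) (by
      rw [← hk, mul_smul, mul_smul, inv_smul_smul, show (u : G) • a = a from S.hHa u.2])
  have h0 : (h : ℂ) ≠ 0 := Nat.cast_ne_zero.2 (by have := S.two_le_h; omega)
  constructor
  · have h1 := col_eq (fun χ : Cfsg.IrrCharacter G => (χ : G → ℂ) t) φ.1
    rw [S.sum_cc _ _ ε T ⟨hεne, htT, heT⟩ hset, (hvals φ.1 φ.2).1, (hvals φ.1 φ.2).2.1, hεt,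
      Finset.sum_eq_zero (s := T) (fun χ hχ => by rw [hTt χ hχ, mul_zero]),
      Finset.sum_eq_zero (s := (Finset.univ : Finset H))
        (fun u _ => by rw [sum_irr_mul_conj, if_neg (htu u), mul_zero]),
      mul_zero, Nat.cast_zero, zero_mul, zero_add, add_zero] at h1
    linear_combination h1
  · have hu : ∀ u : H, ∑ χ : Cfsg.IrrCharacter G,
        (χ : G → ℂ) t * (χ : G → ℂ) t / (χ : G → ℂ) 1 * conj ((χ : G → ℂ) u) =
          if u = 1 then ((h : ℂ) + 1) else 0 := by
      intro u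
      split_ifs with hu1
      · subst hu1
        have h2 : ∀ χ : Cfsg.IrrCharacter G,
            (χ : G → ℂ) t * (χ : G → ℂ) t / (χ : G → ℂ) 1 * conj ((χ : G → ℂ) ((1 : H) : G)) =
              (χ : G → ℂ) t * conj ((χ : G → ℂ) t) := by
          intro χ
          obtain ⟨z, hz⟩ := CharAverage.apply_involution_eq_int (RealChars.isChar χ) ht
          have hd := CharAverage.irr_one_ne_zero χ
          rw [CharAverage.irr_apply_one] at hd
          rw [OneMemClass.coe_one, hz, CharAverage.irr_apply_one, Complex.conj_natCast,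
            map_intCast]
          field_simp
        rw [Finset.sum_congr rfl fun χ _ => h2 χ, sum_irr_mul_conj, if_pos (IsConj.refl t)]
        have h3 := card_conj_mul_card_centralizer t
        rw [S.card_class_invol hodd ht ht1, S.card_G] at h3
        have h4 : Nat.card (Subgroup.centralizer ({t} : Set G)) = h + 1 :=
          Nat.eq_of_mul_eq_mul_left (Nat.mul_pos (by rw [S.hj]; omega) (by have := S.two_le_h; omega))
            (h3.trans (by ring))
        rw [h4]
        push_cast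
        ring
      · have h2 : ∀ χ : Cfsg.IrrCharacter G,
            (χ : G → ℂ) t * (χ : G → ℂ) t / (χ : G → ℂ) 1 * conj ((χ : G → ℂ) u) =
              (Nat.card G : ℂ)⁻¹ * ∑ x : G, (χ : G → ℂ) (x * t * x⁻¹ * t) * conj ((χ : G → ℂ) u) := by
          intro χ
          have hG : (Nat.card G : ℂ) ≠ 0 := Nat.cast_ne_zero.2 Nat.card_pos.ne'
          have hd := CharAverage.irr_one_ne_zero χ
          rw [← Finset.sum_mul, CharAverage.sum_conj_mul]
          field_simp
        rw [Finset.sum_congr rfl fun χ _ => h2 χ, ← Finset.mul_sum, Finset.sum_comm,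
          Finset.sum_eq_zero (fun x _ => by
            rw [sum_irr_mul_conj, if_neg (S.inv_product_not_conj hodd
              (by rw [show x * t * x⁻¹ * (x * t * x⁻¹) = x * (t * t) * x⁻¹ by group, ht]; group)
              ht ht1 u.2 (fun h' => hu1 (Subtype.ext h')))]), mul_zero]
    have h1 := col_eq (fun χ : Cfsg.IrrCharacter G =>
      (χ : G → ℂ) t * (χ : G → ℂ) t / (χ : G → ℂ) 1) φ.1
    rw [S.sum_cc _ _ ε T ⟨hεne, htT, heT⟩ hset, (hvals φ.1 φ.2).1, (hvals φ.1 φ.2).2.1, hεt,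
      hεv.1, Finset.sum_eq_zero (s := T) (fun χ hχ => by rw [hTt χ hχ]; ring),
      Finset.sum_congr (s₁ := (Finset.univ : Finset H)) rfl fun u _ => by rw [hu u, mul_ite, mul_zero],
      Finset.sum_ite_eq', if_pos (mem_univ _), CharAverage.irr_apply_one φ.1, S.hH,
      Nat.cast_zero, zero_mul, zero_add, add_zero] at h1
    have hh : (h : ℂ)⁻¹ * h = 1 := inv_mul_cancel₀ h0
    linear_combination h1 + (Cfsg.charDegree (φ.1 : H → ℂ) : ℂ) * hh

end Sim

end Cfsg.Agent.Feit
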