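import Mathlib
import Cfsg.Agent.Lib.FeitOdd

/-!
Zassenhaus groups with two-point stabilisers of odd order: the kernel is not a non-abelian group of
odd prime power order.
-/

set_option autoImplicit false

namespace Cfsg.Agent.Feit

open MulAction Zassenhaus Finset Cfsg
open scoped ComplexConjugate
open CharBasic CharBasicOrth CharBasicDecomp

universe u v

variable {G : Type u} {Ω : Type v} [Group G] [MulAction G Ω]
variable [Fintype G] [Fintype Ω] {a b : Ω} {H : Subgroup G} [Fintype H] {h e j : ℕ}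
variable (S : Sim a b H h e j)
include S

namespace Sim

theorem false_of_pgroup (hodd : Odd h) {p : ℕ} [Fact p.Prime] (hP : IsPGroup p H)
    (hnab : ∃ u v : H, u * v ≠ v * u) : False := by
  classical
  have hp : p.Prime := Fact.out
  haveI := Fintype.ofFinite (CC (G := G) H)
  haveI := Fintype.ofFinite (PP H)
  obtain ⟨k, hk⟩ := hP.exists_card_eq
  have h2 := S.two_le_h
  rw [S.hH] at hk
  have hk0 : k ≠ 0 := by rintro rfl; rw [pow_zero] at hk; omega
  have hph : p ∣ h := hk ▸ dvd_pow_self p hk0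
  have he1 : 1 ≤ e := by rw [S.hj]; omega
  have hpe : ¬ p ∣ e := fun hd => by
    have h1 : p ∣ h - 1 := hd.trans S.e_dvd
    have := Nat.dvd_sub hph h1
    rw [show h - (h - 1) = 1 by omega] at this
    exact hp.one_lt.ne' (Nat.eq_one_of_dvd_one this)
  obtain ⟨hLd, hL2⟩ := S.index_commutator
  set L := (_root_.commutator H).index with hLdef
  have hLdvd : L ∣ h := S.hH ▸ Subgroup.index_dvd_card _
  obtain ⟨iL, -, hiL⟩ := (Nat.dvd_prime_pow hp).1 (hk ▸ hLdvd)
  -- a lower bound for `h`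
  have hbig : (2 * e + 1) * (2 * e + 1) ≤ h := by
    have key : ∀ d : ℕ, d ∣ h → 2 ≤ d → e ∣ d - 1 → 2 * e + 1 ≤ d := by
      intro d hd hd2 hde
      have hdo : Odd d := hodd.of_dvd_nat hd
      obtain ⟨i, hi⟩ := hdo
      have h2d : 2 ∣ d - 1 := ⟨i, by omega⟩
      have hcop : Nat.Coprime 2 e := Nat.coprime_two_left.2 ⟨j, S.hj⟩
      have := Nat.le_of_dvd (by omega) (hcop.mul_dvd_of_dvd_of_dvd h2d hde)
      omega
    have hmul : L * Nat.card (_root_.commutator H) = h := by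
      rw [← S.hH, mul_comm]
      exact Subgroup.card_mul_index _
    set D := Nat.card (_root_.commutator H)
    have hD2 : 2 ≤ D := by
      obtain ⟨u, v, huv⟩ := hnab
      by_contra hc
      have h1 : D = 1 := le_antisymm (by omega) Nat.card_pos
      have h3 : _root_.commutator H = ⊥ := Subgroup.eq_bot_of_card_eq _ h1
      refine huv (commutatorElement_eq_one_iff_mul_comm.1 ?_)
      rw [← Subgroup.mem_bot, ← h3, commutator_eq_closure]
      exact Subgroup.subset_closure ⟨u, v, rfl⟩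
    have hDd : e ∣ D - 1 := by
      have h1 : e ∣ L * D - 1 := hmul.symm ▸ S.e_dvd
      have h3 : L * D - 1 = (D - 1) + (L - 1) * D := by
        have : D ≤ L * D := Nat.le_mul_of_pos_left _ (by omega)
        rw [Nat.sub_one_mul]
        omega
      rw [h3] at h1
      exact (Nat.dvd_add_left (hLd.mul_right D)).1 h1
    have hLle := key L hLdvd hL2 hLd
    have hDle := key D (hmul ▸ dvd_mul_left D L) hD2 hDd
    rw [← hmul]
    exact Nat.mul_le_mul hLle hDle
  obtain ⟨W, hW, hW1, hW0, hgood⟩ := S.exists_base_odd hodd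
  have hG : GramData (fun (χ : CC (G := G) H) (φ : PP H) => mult H χ.1 φ.1) (fun φ => dg φ.1)
      (fun φ ψ => Rel a H φ.1 ψ.1) e j := S.gramData
  -- a linear character and its conjugate
  obtain ⟨φ₀, hφ₀⟩ : ∃ φ : PP H, dg φ.1 = 1 := by
    have h1 : 1 ≤ ((Finset.univ.filter fun φ : Cfsg.IrrCharacter H => dg φ = 1).erase
        (trivIrr H)).card := by
      rw [Finset.card_erase_of_mem (by simp [dg_triv]), card_dg_one]
      omega
    obtain ⟨φ, hφ⟩ := Finset.card_pos.1 h1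
    obtain ⟨hne, hφ⟩ := mem_erase.1 hφ
    exact ⟨⟨φ, hne⟩, (mem_filter.1 hφ).2⟩
  obtain ⟨X, hWX, hX⟩ := hgood φ₀ hφ₀
  simp only [hφ₀, one_mul] at hX
  have hWc : ∀ χ, W (cC χ) = W χ := by
    intro χ
    by_cases hc : cC χ = χ
    · rw [hc]
    · rw [hW0 χ hc, hW0 (cC χ) (fun h' => hc (by
        have h3 : cC (cC χ) = χ := Subtype.ext (cIrr_cIrr χ.1)
        rw [h3] at h'
        exact h'.symm))]
  have hφ₀' : dg (cP φ₀).1 = 1 := (dg_cIrr φ₀.1).trans hφ₀
  have hcc : ∀ χ : CC (G := G) H, cC (cC χ) = χ := fun χ => Subtype.ext (cIrr_cIrr χ.1)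
  have hX' : ∀ χ, mult H χ.1 (cP φ₀).1 = W χ + if χ = cC X then 1 else 0 := by
    intro χ
    rw [show mult H χ.1 (cP φ₀).1 = mult H (cC χ).1 φ₀.1 from (mult_cIrr χ.1 φ₀.1).symm,
      hX (cC χ), hWc]
    congr 1
    exact if_congr ⟨fun h' => by rw [← h', hcc], fun h' => by rw [h', hcc]⟩ rfl rfl
  have hXne : cC X ≠ X := by
    intro hc
    refine S.cP_ne hodd φ₀ (hG.rel_of_eq (φ := φ₀) (ψ := cP φ₀) fun χ => ?_)
    rw [hX χ, hX' χ, hc]
  have hWX' : W (cC X) = 0 := by rw [hWc, hWX]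
  -- every column puts weight on the common part
  have hlow : ∀ Y, W Y ≠ 0 → ∀ φ : PP H, dg φ.1 ≤ 4 * mult H Y.1 φ.1 := by
    intro Y hY φ
    have hWY : W Y = 1 := le_antisymm (hW1 Y) (Nat.one_le_iff_ne_zero.2 hY)
    have hYX : Y ≠ X := fun h' => hY (h' ▸ hWX)
    have hYX' : Y ≠ cC X := fun h' => hY (h' ▸ hWX')
    by_cases hr : Rel a H φ.1 φ₀.1
    · rw [hG.eq_of_rel hr Y, hX Y, if_neg hYX, hWY, show dg φ.1 = dg φ₀.1 from hG.resp φ φ₀ hr]
      show dg φ₀.1 ≤ _
      omega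
    by_cases hr' : Rel a H φ.1 (cP φ₀).1
    · rw [hG.eq_of_rel hr' Y, hX' Y, if_neg hYX', hWY, show dg φ.1 = dg (cP φ₀).1 from hG.resp φ (cP φ₀) hr']
      show dg (cP φ₀).1 ≤ _
      omega
    set f := dg φ.1
    set c : ℤ := -(∑ χ, (W χ : ℤ) * ((mult H χ.1 φ.1 : ℤ) - f * W χ)) with hc
    have hdX : (mult H X.1 φ.1 : ℤ) = c := by
      have := hG.dev_exc hW hr (x := X) (ψ := φ₀) (fun χ => by rw [hφ₀, one_mul]; exact hX χ)
      simp only [hφ₀, Nat.cast_one, one_mul] at this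
      exact this
    have hdX' : (mult H (cC X).1 φ.1 : ℤ) = c := by
      have := hG.dev_exc hW hr' (x := cC X) (ψ := cP φ₀)
        (fun χ => by rw [hφ₀', one_mul]; exact hX' χ)
      simp only [hφ₀', Nat.cast_one, one_mul] at this
      exact this
    have hnorm := hG.dev_norm hW φ
    obtain ⟨y, hy, hyX, hyX', hym⟩ : ∃ y, cC y ≠ y ∧ y ≠ X ∧ y ≠ cC X ∧ mult H y.1 φ.1 ≠ 0 := by
      by_contra hcon
      push Not at hcon
      refine S.cP_ne hodd φ (hG.rel_of_eq (φ := φ) (ψ := cP φ) fun χ => ?_)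
      rw [show mult H χ.1 (cP φ).1 = mult H (cC χ).1 φ.1 from (mult_cIrr χ.1 φ.1).symm]
      by_cases h1 : χ = X
      · subst h1; exact_mod_cast hdX.trans hdX'.symm
      by_cases h2 : χ = cC X
      · subst h2; rw [hcc]; exact_mod_cast hdX'.trans hdX.symm
      by_cases h3 : cC χ = χ
      · rw [h3]
      rw [hcon χ h3 h1 h2, hcon (cC χ) (fun h' => h3 (by rw [hcc] at h'; exact h'.symm))
        (fun h' => h2 (by rw [← h', hcc])) (fun h' => h1 (by
          have := congrArg cC h'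
          rwa [hcc, hcc] at this))]
    have hyY : y ≠ Y := by
      intro h'
      exact hY (h' ▸ hW0 y hy)
    set δ : CC (G := G) H → ℤ := fun χ => (mult H χ.1 φ.1 : ℤ) - f * W χ with hδ
    have h4 : δ Y ^ 2 + (δ y ^ 2 + (δ X ^ 2 + δ (cC X) ^ 2)) ≤ ∑ χ, δ χ ^ 2 := by
      rw [show δ Y ^ 2 + (δ y ^ 2 + (δ X ^ 2 + δ (cC X) ^ 2)) =
        ∑ χ ∈ ({Y, y, X, cC X} : Finset _), δ χ ^ 2 by
          rw [sum_insert (by simp [hyY.symm, hYX, hYX']), sum_insert (by simp [hyX, hyX']),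
            sum_pair hXne.symm]]
      exact Finset.sum_le_sum_of_subset_of_nonneg (subset_univ _) fun _ _ _ => sq_nonneg _
    have h5 : ∑ χ, δ χ ^ 2 = 1 + 2 * (f : ℤ) * c := hnorm
    have h6 : δ X = c := by simp [hδ, hWX, hdX]
    have h7 : δ (cC X) = c := by simp [hδ, hWX', hdX']
    have h8 : 1 ≤ δ y ^ 2 := by
      have : δ y = (mult H y.1 φ.1 : ℤ) := by simp [hδ, hW0 y hy]
      rw [this]
      have : (1 : ℤ) ≤ mult H y.1 φ.1 := by exact_mod_cast Nat.one_le_iff_ne_zero.2 hym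
      nlinarith
    have h9 : δ Y = (mult H Y.1 φ.1 : ℤ) - f := by simp [hδ, hWY]
    rw [h6, h7] at h4
    by_contra hlt
    push Not at hlt
    have h10 : 4 * (mult H Y.1 φ.1 : ℤ) + 1 ≤ f := by exact_mod_cast hlt
    nlinarith [sq_nonneg (2 * c - f), h4, h5, h8, h9]
  have hlarge : ∀ Y, W Y ≠ 0 → h - 1 ≤ 4 * Cfsg.charDegree (Y.1 : G → ℂ) := by
    intro Y hY
    rw [degree_cc Y, Finset.mul_sum, show h - 1 = ∑ φ : PP H, dg φ.1 * dg φ.1 by
      have := S.sum_pp_sq; omega]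
    exact Finset.sum_le_sum fun φ _ => by
      rw [← mul_assoc]
      exact Nat.mul_le_mul_right _ (hlow Y hY φ)
  -- congruences for the degrees
  have hdiv : ∀ (φ : Cfsg.IrrCharacter H), dg φ ≠ 1 → p ∣ dg φ := by
    intro φ hφ
    obtain ⟨i, -, hi⟩ := (Nat.dvd_prime_pow hp).1 (hk ▸ S.hH ▸ CharAverage.charDegree_dvd_card φ)
    rcases i with _ | i
    · exact absurd hi hφ
    · rw [show dg φ = p ^ (i + 1) from hi]
      exact dvd_pow_self p (by omega)
  set B := Finset.univ.filter fun φ : PP H => dg φ.1 = 1 with hB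
  have hsplit : ∀ χ : CC (G := G) H, ∃ r, Cfsg.charDegree (χ.1 : G → ℂ) =
      (∑ φ ∈ B, mult H χ.1 φ.1) + p * r := by
    intro χ
    obtain ⟨r, hr⟩ : p ∣ ∑ φ ∈ Finset.univ.filter (fun φ : PP H => ¬ dg φ.1 = 1),
        mult H χ.1 φ.1 * dg φ.1 :=
      Finset.dvd_sum fun φ hφ => dvd_mul_of_dvd_right (hdiv φ.1 (mem_filter.1 hφ).2) _
    refine ⟨r, ?_⟩
    rw [degree_cc χ, ← Finset.sum_filter_add_sum_filter_not Finset.univ
      (fun φ : PP H => dg φ.1 = 1), hr]
    congr 1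
    exact Finset.sum_congr rfl fun φ hφ => by rw [(mem_filter.1 hφ).2, mul_one]
  have hBcard : B.card + 1 = L := by
    have h1 := sum_pp (H := H) (fun φ => dg φ = 1) fun _ : Cfsg.IrrCharacter H => 1
    simp only [← Finset.card_eq_sum_ones] at h1
    rw [h1, show Finset.univ.filter (fun φ : Cfsg.IrrCharacter H => φ ≠ trivIrr H ∧ dg φ = 1) =
      (Finset.univ.filter fun φ : Cfsg.IrrCharacter H => dg φ = 1).erase (trivIrr H) by
        ext φ; simp, Finset.card_erase_of_mem (by simp [dg_triv]), card_dg_one]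
    omega
  have hYp : ∀ Y, W Y ≠ 0 → ¬ p ∣ Cfsg.charDegree (Y.1 : G → ℂ) := by
    intro Y hY hd
    obtain ⟨r, hr⟩ := hsplit Y
    have hsum : ∑ φ ∈ B, mult H Y.1 φ.1 = B.card := by
      rw [Finset.card_eq_sum_ones]
      refine Finset.sum_congr rfl fun φ hφ => ?_
      obtain ⟨x, hx, hm⟩ := hgood φ (mem_filter.1 hφ).2
      have hm' := hm Y
      simp only [(mem_filter.1 hφ).2, one_mul,
        if_neg (show Y ≠ x from fun h' => hY (h' ▸ hx)), add_zero] at hm'
      rw [hm']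
      exact le_antisymm (hW1 Y) (Nat.one_le_iff_ne_zero.2 hY)
    rw [hr, hsum, Nat.dvd_add_left (dvd_mul_right p r)] at hd
    have hpL : p ∣ L := by
      rcases iL with _ | i
      · rw [pow_zero] at hiL; omega
      · exact hiL ▸ dvd_pow_self p (by omega)
    rw [← hBcard] at hpL
    exact hp.one_lt.ne' (Nat.eq_one_of_dvd_one ((Nat.dvd_add_right hd).1 hpL))
  have hO : (B.filter fun φ => Rel a H φ.1 φ₀.1).card = e := by
    rw [← S.card_orbit φ₀.2, ← Finset.card_map (Function.Embedding.subtype _)]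
    congr 1
    ext φ
    simp only [mem_map, mem_filter, mem_univ, true_and, B]
    constructor
    · rintro ⟨ψ, ⟨-, hr⟩, rfl⟩; exact hr
    · intro hr
      refine ⟨⟨φ, fun h' => φ₀.2 (S.rel_triv (S.rel_symm (h' ▸ hr) ))⟩, ⟨?_, hr⟩, rfl⟩
      exact (S.rel_deg hr).trans hφ₀
  have hXsum : ∑ φ ∈ B, mult H X.1 φ.1 = e := by
    rw [← hO, Finset.card_filter]
    refine Finset.sum_congr rfl fun φ hφ => ?_
    have hφ1 := (mem_filter.1 hφ).2
    obtain ⟨x, hx, hm⟩ := hgood φ hφ1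
    simp only [hφ1, one_mul] at hm
    rw [hm X, hWX, zero_add]
    refine if_congr ⟨fun h' => ?_, fun hr => ?_⟩ rfl rfl
    · exact hG.rel_of_same hW hWX (φ := φ) (ψ := φ₀)
        (fun χ => by rw [hφ1, one_mul, hm χ, h']) (fun χ => by rw [hφ₀, one_mul]; exact hX χ)
    · have h1 := hG.eq_of_rel hr X
      rw [hm X, hX X, if_pos rfl] at h1
      by_contra hne
      rw [if_neg hne] at h1
      omega
  have hXp : ¬ p ∣ Cfsg.charDegree (X.1 : G → ℂ) := by
    obtain ⟨r, hr⟩ := hsplit X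
    rw [hr, hXsum, Nat.dvd_add_left (dvd_mul_right p r)]
    exact hpe
  have hXe : e ≤ Cfsg.charDegree (X.1 : G → ℂ) := by
    obtain ⟨r, hr⟩ := hsplit X
    rw [hr, hXsum]
    omega
  -- the equations at an involution
  obtain ⟨t, ht, ht1, -, -⟩ := exists_involution_swap S.hZ S.hab
  obtain ⟨hA, hB'⟩ := S.invol_col hodd ht ht1 φ₀
  choose z hz using fun χ : CC (G := G) H =>
    CharAverage.apply_involution_eq_int (RealChars.isChar χ.1) ht
  let d : CC (G := G) H → ℕ := fun χ => Cfsg.charDegree (χ.1 : G → ℂ)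
  have hA' : ∑ χ, (W χ : ℤ) * z χ + z X = 1 := by
    rw [Finset.sum_congr rfl (g := fun χ : CC (G := G) H =>
      ((W χ : ℂ) * (z χ : ℂ)) + if χ = X then (z χ : ℂ) else 0) (fun χ _ => by
        rw [hX χ, hz χ]; split_ifs <;> push_cast <;> ring),
      Finset.sum_add_distrib, Finset.sum_ite_eq', if_pos (mem_univ _), hφ₀] at hA
    exact_mod_cast hA
  have hB'' : ∑ χ, (W χ : ℝ) * ((z χ : ℝ) * z χ / d χ) + (z X : ℝ) * z X / d X = 1 := by
    rw [Finset.sum_congr rfl (g := fun χ : CC (G := G) H =>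
      ((W χ : ℂ) * ((z χ : ℂ) * z χ / d χ)) + if χ = X then (z χ : ℂ) * z χ / d χ else 0)
      (fun χ _ => by
        rw [hX χ, hz χ, CharAverage.irr_apply_one]; split_ifs <;> push_cast <;> ring),
      Finset.sum_add_distrib, Finset.sum_ite_eq', if_pos (mem_univ _), hφ₀] at hB'
    have := congrArg Complex.re hB'
    rw [← Complex.ofReal_re (∑ χ, (W χ : ℝ) * ((z χ : ℝ) * z χ / d χ) + (z X : ℝ) * z X / d X)]
    refine Eq.trans ?_ (this.trans (by simp))
    congr 1
    push_cast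
    rfl
  have hnn : ∀ χ, 0 ≤ (z χ : ℝ) * z χ / d χ := fun χ =>
    div_nonneg (mul_self_nonneg _) (Nat.cast_nonneg _)
  have hdpos : ∀ χ, 0 < (d χ : ℝ) := fun χ => Nat.cast_pos.2 (CharAverage.irr_degree_pos χ.1)
  have hzero : ∀ Y, W Y ≠ 0 → z Y = 0 := by
    intro Y hY
    by_contra hzY
    have hle : (z Y : ℝ) * z Y / d Y ≤ 1 := by
      rw [← hB'']
      refine le_trans ?_ (le_add_of_nonneg_right (hnn X))
      refine le_trans ?_ (Finset.single_le_sum
        (f := fun χ => (W χ : ℝ) * ((z χ : ℝ) * z χ / d χ))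
        (fun χ _ => mul_nonneg (Nat.cast_nonneg _) (hnn χ)) (mem_univ Y))
      rw [show W Y = 1 from le_antisymm (hW1 Y) (Nat.one_le_iff_ne_zero.2 hY), Nat.cast_one, one_mul]
    rw [div_le_one (hdpos Y)] at hle
    have hle' : z Y * z Y ≤ (d Y : ℤ) := by exact_mod_cast hle
    have hdv : d Y ∣ e * (z Y).natAbs := by
      have h1 := S.degree_dvd Y.1 t (z Y) (hz Y)
      rw [S.card_class_invol hodd ht ht1, hk] at h1
      refine Nat.Coprime.dvd_of_dvd_mul_right
        (((hp.coprime_iff_not_dvd).2 (hYp Y hY)).symm.pow_right k) ?_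
      rwa [mul_right_comm] at h1
    have hle2 := Nat.le_of_dvd (Nat.mul_pos (by omega) (Int.natAbs_pos.2 hzY)) hdv
    have h3 : (d Y : ℤ) * d Y ≤ (e : ℤ) * e * (z Y * z Y) := by
      rw [← Int.natAbs_mul_self' (z Y)]
      have : (d Y : ℤ) ≤ (e : ℤ) * (z Y).natAbs := by exact_mod_cast hle2
      nlinarith
    have hd0 : (0 : ℤ) < d Y := by exact_mod_cast CharAverage.irr_degree_pos Y.1
    have h4 : (d Y : ℤ) ≤ e * e := by
      refine le_of_mul_le_mul_right ?_ hd0
      calc (d Y : ℤ) * d Y ≤ e * e * (z Y * z Y) := h3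
        _ ≤ e * e * d Y := mul_le_mul_of_nonneg_left hle' (by positivity)
    have h5 := hlarge Y hY
    have h6 : d Y ≤ e * e := by exact_mod_cast h4
    have h7 : (2 * e + 1) * (2 * e + 1) = 4 * (e * e) + 4 * e + 1 := by ring
    simp only [d] at h6
    omega
  have hsum0 : ∀ χ, (W χ : ℤ) * z χ = 0 := fun χ => by
    by_cases hc : W χ = 0
    · simp [hc]
    · simp [hzero χ hc]
  have hzX : z X = 1 := by
    rw [Finset.sum_eq_zero fun χ _ => hsum0 χ, zero_add] at hA'
    exact hA'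
  rw [Finset.sum_eq_zero fun χ _ => by
    by_cases hc : W χ = 0
    · simp [hc]
    · simp [hzero χ hc], zero_add, hzX, Int.cast_one, one_mul, div_eq_one_iff_eq (hdpos X).ne'] at hB''
  have h8 : d X = 1 := by exact_mod_cast hB''.symm
  have h9 := S.one_le_j
  have h10 := S.hj
  simp only [d] at h8
  omega

end Sim

end Cfsg.Agent.Feit
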