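import Mathlib
import Cfsg.Agent.Lib.FeitOddPGroup
import Cfsg.Agent.Lib.ZassenhausKernel

/-!
Zassenhaus groups with two-point stabilisers of odd order: the inequality of Feit.
-/

set_option autoImplicit false

namespace Cfsg.Agent.Feit

open MulAction Zassenhaus Finset Cfsg
open scoped ComplexConjugate
open CharBasic CharBasicOrth CharBasicDecomp

universe u v

section

variable {G : Type u} {Ω : Type v} [Group G] [MulAction G Ω]
variable [Fintype G] [Fintype Ω] {a b : Ω} {H : Subgroup G} [Fintype H] {h e j : ℕ}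
variable (S : Sim a b H h e j)
include S

namespace Sim

/-- For an abelian kernel of even order. -/
theorem sq_le_of_comm (heven : Even h) (hlt : 2 * e < h - 1)
    (hcomm : ∀ u v : H, u * v = v * u) : (e + 1) * (e + 1) ≤ h := by
  classical
  have hn : Odd (Nat.card Ω) := by rw [S.hΩ]; exact heven.add_one
  have hn' : Odd (Fintype.card Ω) := by rwa [← Nat.card_eq_fintype_card]
  let I : Subgroup H :=
    { carrier := {x | x * x = 1}
      one_mem' := one_mul 1
      mul_mem' := fun {x y} hx hy => by
        show x * y * (x * y) = 1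
        rw [show x * y * (x * y) = x * (y * x) * y by group, hcomm y x,
          show x * (x * y) * y = (x * x) * (y * y) by group,
          show x * x = 1 from hx, show y * y = 1 from hy, one_mul]
      inv_mem' := fun {x} hx => by
        show x⁻¹ * x⁻¹ = 1
        rw [← mul_inv_rev, show x * x = 1 from hx, inv_one] }
  have hI : Nat.card I = e + 1 := by
    rw [← S.he, ← card_invol_fix S.hZ S.hodd_all S.swap_sq S.hab hn' a]
    have hni : (1 : G) ∉ Finset.univ.filter fun g : G => (g * g = 1 ∧ g ≠ 1) ∧ g • a = a := by simp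
    rw [← Finset.card_insert_of_notMem hni, ← Nat.card_eq_finsetCard]
    refine Nat.card_congr
      { toFun := fun x => ⟨((x : H) : G), ?_⟩
        invFun := fun g => ⟨⟨g.1, ?_⟩, ?_⟩
        left_inv := fun x => rfl
        right_inv := fun g => rfl }
    · simp only [mem_insert, mem_filter, mem_univ, true_and]
      by_cases h1 : ((x : H) : G) = 1
      · exact Or.inl h1
      · exact Or.inr ⟨⟨congrArg Subtype.val x.2, h1⟩, S.hHa (x : H).2⟩
    · obtain hg | hg := mem_insert.1 g.2
      · rw [hg]; exact H.one_mem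
      · exact (invol_central S.hZ S.hHa S.hHcard S.hfix S.hab S.hodd_all S.swap_sq hn
          (mem_filter.1 hg).2.1.1 (mem_filter.1 hg).2.2).1
    · obtain hg | hg := mem_insert.1 g.2
      · exact Subtype.ext (show g.1 * g.1 = 1 by rw [hg, one_mul])
      · exact Subtype.ext (mem_filter.1 hg).2.1.1
  obtain ⟨D, hD⟩ : e + 1 ∣ h := hI ▸ S.hH ▸ Subgroup.card_subgroup_dvd_card I
  rcases D with _ | _ | D
  · have := S.two_le_h
    omega
  · omega
  · have h1 : e ∣ D + 1 := by
      have h2 := S.e_dvd
      rw [hD, show (e + 1) * (D + 1 + 1) - 1 = e * (D + 2) + (D + 1) by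
        rw [show (e + 1) * (D + 1 + 1) = e * (D + 2) + (D + 1) + 1 by ring, Nat.add_sub_cancel]] at h2
      exact (Nat.dvd_add_right (dvd_mul_right _ _)).1 h2
    have := Nat.le_of_dvd (by omega) h1
    rw [hD]
    exact Nat.mul_le_mul_left _ (by omega)

theorem comm_dg_one (hcomm : ∀ u v : H, u * v = v * u) (φ : Cfsg.IrrCharacter H) : dg φ = 1 :=
  (dg_eq_one_iff φ).2 (CharBasicLinear.apply_one_eq_one_of_comm hcomm φ.2)

/-- The main result for the simple case. -/
theorem main (hlt : 2 * e < h - 1) :
    IsPGroup 2 H ∧ (∃ u v : H, u * v ≠ v * u) ∧ (_root_.commutator H).index ≤ 4 * e ^ 2 + 1 := by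
  classical
  haveI := Fintype.ofFinite (CC (G := G) H)
  haveI := Fintype.ofFinite (PP H)
  have hj := S.hj
  have hmany : (e + 1) * (e + 1) ≤ (_root_.commutator H).index →
      ∃ W : CC (G := G) H → ℕ, ∑ χ, W χ * W χ = j ∧ ∀ φ : PP H, dg φ.1 = 1 →
      Good (fun (χ : CC (G := G) H) (φ : PP H) => mult H χ.1 φ.1) (fun φ => dg φ.1) W φ := by
    intro hL
    refine S.exists_base_many (lt_of_lt_of_le ?_ hL)
    nlinarith
  by_cases hpg : ∃ p, p.Prime ∧ IsPGroup p H
  swap
  · push Not at hpg
    exfalso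
    have hcrit := S.crit_nonp hpg
    rcases Nat.even_or_odd h with heven | hodd
    · haveI := Fact.mk Nat.prime_two
      obtain ⟨A, B, ε, -, -, hA, hB⟩ := S.split (p := 2) (even_iff_two_dvd.1 heven) (hpg 2 Nat.prime_two)
      have hsub : ((Finset.univ.filter fun α : Cfsg.IrrCharacter A => dg α = 1) ×ˢ
          (Finset.univ.filter fun β : Cfsg.IrrCharacter B => dg β = 1)).image
            (FeitProduct.tensIrr ε) ⊆
          Finset.univ.filter fun φ : Cfsg.IrrCharacter H => dg φ = 1 := by
        intro φ hφ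
        obtain ⟨q, hq, rfl⟩ := mem_image.1 hφ
        simp only [mem_product, mem_filter, mem_univ, true_and] at hq ⊢
        show Cfsg.charDegree _ = 1
        rw [FeitProduct.deg_tensIrr, show Cfsg.charDegree (q.1 : A → ℂ) = 1 from hq.1,
          show Cfsg.charDegree (q.2 : B → ℂ) = 1 from hq.2]
      have hc := Finset.card_le_card hsub
      rw [Finset.card_image_of_injective _ (FeitProduct.tensIrr_bijective ε).1,
        Finset.card_product, card_dg_one, card_dg_one, card_dg_one] at hc
      obtain ⟨W, hW, hb⟩ := hmany ((Nat.mul_le_mul hA hB).trans hc)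
      have := S.le_of_base hW hb hcrit
      omega
    · obtain ⟨W, hW, -, -, hb⟩ := S.exists_base_odd hodd
      have := S.le_of_base hW hb hcrit
      omega
  obtain ⟨p, hp, hP⟩ := hpg
  haveI := Fact.mk hp
  by_cases hcomm : ∀ u v : H, u * v = v * u
  · exfalso
    have hcrit : ∀ φ : Cfsg.IrrCharacter H, dg φ ≠ 1 → 2 * e * dg φ <
        ∑ ψ ∈ Finset.univ.filter (fun ψ : Cfsg.IrrCharacter H => ψ ≠ trivIrr H ∧ dg ψ < dg φ),
          dg ψ * dg ψ := fun φ hφ => absurd (S.comm_dg_one hcomm φ) hφ
    rcases Nat.even_or_odd h with heven | hodd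
    · have hidx : (_root_.commutator H).index = h := by
        rw [← card_dg_one, Finset.filter_true_of_mem (fun φ _ => S.comm_dg_one hcomm φ),
          Finset.card_univ]
        have h1 := sum_dg_sq (H := H)
        simp only [S.comm_dg_one hcomm, mul_one, Finset.sum_const, Finset.card_univ, smul_eq_mul,
          S.hH] at h1
        exact h1
      obtain ⟨W, hW, hb⟩ := hmany (hidx ▸ S.sq_le_of_comm heven hlt hcomm)
      have := S.le_of_base hW hb hcrit
      omega
    · obtain ⟨W, hW, -, -, hb⟩ := S.exists_base_odd hodd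
      have := S.le_of_base hW hb hcrit
      omega
  push Not at hcomm
  rcases Nat.even_or_odd h with heven | hodd
  · obtain ⟨k, hk⟩ := hP.exists_card_eq
    have hp2 : p = 2 := by
      rw [S.hH] at hk
      exact ((Nat.prime_dvd_prime_iff_eq Nat.prime_two hp).1
        (Nat.prime_two.dvd_of_dvd_pow (hk ▸ even_iff_two_dvd.1 heven))).symm
    subst hp2
    refine ⟨hP, hcomm, ?_⟩
    by_contra hL
    push Not at hL
    obtain ⟨W, hW, hb⟩ := hmany (by
      have : (e + 1) * (e + 1) ≤ 4 * e ^ 2 + 1 + 1 := by nlinarith [S.one_le_j]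
      omega)
    have := S.le_of_base hW hb (S.crit_p hP hL)
    omega
  · exact absurd (S.false_of_pgroup hodd hP hcomm) not_false

end Sim

end

/-- Feit's inequality. -/
theorem feit_inequality {Ω : Type v} [Finite Ω] :
    ∀ (n : ℕ) {G : Type u} [Group G] [Finite G] [MulAction G Ω] (_ : Nat.card G = n)
      (_ : Cfsg.IsZassenhausGroup G Ω) {a b : Ω} (_ : a ≠ b) (h e : ℕ) (_ : Nat.card Ω = h + 1)
      (_ : Nat.card (two G a b) = e) (_ : Odd e) (H : Subgroup G) (_ : H ≤ stabilizer G a)
      (_ : Nat.card H = h) (_ : ∀ u ∈ H, u ≠ 1 → ∀ c : Ω, u • c = c → c = a),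
      h - 1 ≤ 2 * e ∨ (IsPGroup 2 H ∧ (∃ u v : H, u * v ≠ v * u) ∧
        (_root_.commutator H).index ≤ 4 * e ^ 2 + 1) := by
  intro n
  induction n using Nat.strong_induction_on with
  | _ n ih =>
    intro G _ _ _ hn hZ a b hab h e hΩ he hodd H hHa hH hfix
    rcases le_or_gt (h - 1) (2 * e) with hle | hlt
    · exact Or.inl hle
    have hcardH : Nat.card H + 1 = Nat.card Ω := by rw [hH, hΩ]
    by_cases hsimple : IsSimpleGroup G
    · haveI := Fintype.ofFinite G
      haveI := Fintype.ofFinite Ω
      haveI := Fintype.ofFinite H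
      obtain ⟨j, hj⟩ := hodd
      exact Or.inr ((Sim.of_simple hZ hab hHa hH hΩ he hj hfix).main hlt)
    have hGnt : Nontrivial G := by
      obtain ⟨g, hg, -⟩ := hZ.2.2.2.1
      exact ⟨⟨g, 1, hg⟩⟩
    obtain ⟨N, hN, hN1, hN2⟩ : ∃ N : Subgroup G, N.Normal ∧ N ≠ ⊥ ∧ N ≠ ⊤ := by
      by_contra hcon
      push Not at hcon
      exact hsimple ⟨fun K hK => or_iff_not_imp_left.2 (hcon K hK)⟩
    haveI := hN
    have hZN := isZassenhaus_normal hZ N hN1
    obtain ⟨K, hKa, hKcard, hKfix⟩ := exists_kernel_subgroup hZN hab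
    have hKH : K.map N.subtype = H := by
      refine Subgroup.eq_of_le_of_card_ge ?_ ?_
      · rintro _ ⟨u, hu, rfl⟩
        refine (kernel_mem_iff hZ hHa hcardH hfix _).2 ⟨hKa hu, ?_⟩
        by_cases h1 : u = 1
        · exact Or.inl (congrArg Subtype.val h1)
        · exact Or.inr fun c hc => hKfix u hu h1 c hc
      · rw [Subgroup.card_map_of_injective N.subtype_injective]
        omega
    set eN := Nat.card (two N a b)
    have hdvd : eN ∣ e := by
      have h1 := Subgroup.card_dvd_of_le (show (two N a b).map N.subtype ≤ two G a b from by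
        rintro _ ⟨x, hx, rfl⟩
        exact ⟨hx.1, hx.2⟩)
      rwa [Subgroup.card_map_of_injective N.subtype_injective, he] at h1
    have hle : eN ≤ e := Nat.le_of_dvd (he ▸ Nat.card_pos) hdvd
    have hlt' : Nat.card N < n := by
      rw [← hn]
      exact lt_of_le_of_ne (Nat.le_of_dvd Nat.card_pos (Subgroup.card_subgroup_dvd_card N))
        (fun h' => hN2 (Subgroup.eq_top_of_card_eq N h'))
    rcases ih (Nat.card N) hlt' (G := N) rfl hZN hab h eN hΩ rfl (hodd.of_dvd_nat hdvd) K hKa
      (by omega) hKfix with h1 | ⟨h1, h2, h3⟩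
    · omega
    · let f : K ≃* H := (K.equivMapOfInjective _ N.subtype_injective).trans
        (MulEquiv.subgroupCongr hKH)
      refine Or.inr ⟨h1.of_equiv f, ?_, ?_⟩
      · obtain ⟨u, v, huv⟩ := h2
        exact ⟨f u, f v, fun hc => huv (f.injective (by rw [map_mul, map_mul, hc]))⟩
      · rw [← CharBasicLinear.card_hom_units, ← Nat.card_congr (⟨fun m => m.comp f.toMonoidHom,
          fun m => m.comp f.symm.toMonoidHom, fun m => by ext x; simp, fun m => by ext x; simp⟩ :
            (H →* ℂˣ) ≃ (K →* ℂˣ)).symm, CharBasicLinear.card_hom_units]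
        have := Nat.pow_le_pow_left hle 2
        omega

end Cfsg.Agent.Feit
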