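import Mathlib
import Cfsg.Agent.Lib.PSLCard

/-!
Recognition of `PSL₂(q)`, `q ≡ 3 mod 4`, as a group of permutations of the projective line.
-/

set_option autoImplicit false

open scoped OnePoint MatrixGroups

namespace Cfsg.Agent.ZassenhausPSL2

open Matrix

variable {R : Type*} [Field R]

/-- Two-point doubly transitive group generated like `PSL₂`. -/
theorem nonempty_mulEquiv_three [Fintype R] {G : Type*} [Group G] [Finite G]
    (ρ : G →* Equiv.Perm (OnePoint R)) (hinj : Function.Injective ρ)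
    (h2 : (2 : R) ≠ 0) (hneg : ¬ IsSquare (-1 : R))
    (hcard : 2 * Nat.card G = Fintype.card R * (Fintype.card R ^ 2 - 1))
    (hτ : ∀ c : R, ∃ g, ρ g ∞ = ∞ ∧ ∀ x : R, ρ g x = ((x + c : R) : OnePoint R))
    (hσ : ∀ s : R, s ≠ 0 → IsSquare s →
      ∃ g, ρ g ∞ = ∞ ∧ ∀ x : R, ρ g x = ((s * x : R) : OnePoint R))
    (hstab : ∀ g, ρ g ∞ = ∞ → ∃ s : R, s ≠ 0 ∧ IsSquare s ∧
      ∃ c : R, ∀ x : R, ρ g x = ((s * x + c : R) : OnePoint R))
    (hex : ∃ t, ρ t ∞ = ((0 : R) : OnePoint R) ∧ ρ t ((0 : R) : OnePoint R) = ∞)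
    (hswap : ∀ t, ρ t ∞ = ((0 : R) : OnePoint R) → ρ t ((0 : R) : OnePoint R) = ∞ →
      t * t = 1 ∧ ∀ x : R, ρ t x ≠ x) :
    Nonempty (G ≃* ProjectiveSpecialLinearGroup (Fin 2) R) := by
  classical
  have hinvsq : ∀ {x : R}, IsSquare x → IsSquare x⁻¹ := fun {x} ⟨r, hr⟩ =>
    ⟨r⁻¹, by rw [hr, mul_inv]⟩
  have hnn : ∀ {x : R}, ¬ IsSquare x → IsSquare (-x) := by
    intro x hx
    have hx0 : x ≠ 0 := fun h => hx (h ▸ ⟨0, by simp⟩)
    rw [← quadraticChar_neg_one_iff_not_isSquare] at hx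
    have hm := quadraticChar_neg_one_iff_not_isSquare.2 hneg
    rw [← quadraticChar_one_iff_isSquare (neg_ne_zero.2 hx0), show -x = -1 * x by ring, map_mul,
      hx, hm]
    norm_num
  have hscale : ∀ t, ρ t ∞ = ((0 : R) : OnePoint R) → ρ t ((0 : R) : OnePoint R) = ∞ →
      ∀ s : R, s ≠ 0 → IsSquare s → ∀ x y : R, ρ t x = y → ρ t (s * x : R) = (s⁻¹ * y : R) := by
    intro t ht1 ht2 s hs0 hsq x y hxy
    obtain ⟨g, hg1, hg2⟩ := hσ s hs0 hsq
    have htt : t * t = 1 := (hswap t ht1 ht2).1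
    have hgt : (t * g) * (t * g) = 1 := by
      refine (hswap (t * g) ?_ ?_).1
      · rw [map_mul, Equiv.Perm.mul_apply, hg1, ht1]
      · rw [map_mul, Equiv.Perm.mul_apply, hg2, mul_zero, ht2]
    have e : t * g = g⁻¹ * t :=
      (inv_eq_of_mul_eq_one_left hgt).symm.trans ((_root_.mul_inv_rev t g).trans
        (congrArg (g⁻¹ * ·) (inv_eq_of_mul_eq_one_left htt)))
    have hkey : ρ t (s * x : R) = ρ g⁻¹ y := by
      rw [← hg2, ← Equiv.Perm.mul_apply, ← map_mul, e, map_mul, Equiv.Perm.mul_apply, hxy]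
    rw [hkey, map_inv, Equiv.Perm.inv_eq_iff_eq, hg2, mul_inv_cancel_left₀ hs0]
  have fin : ∀ t, ρ t ∞ = ((0 : R) : OnePoint R) → ρ t ((0 : R) : OnePoint R) = ∞ →
      ∀ x : R, x ≠ 0 → ∃ y : R, y ≠ 0 ∧ ρ t x = y := by
    intro t ht1 ht2 x hx
    cases h : ρ t x with
    | infty => exact absurd (OnePoint.coe_injective ((ρ t).injective (h.trans ht2.symm))) hx
    | coe y =>
      refine ⟨y, fun hy => ?_, rfl⟩
      subst hy
      exact OnePoint.coe_ne_infty x ((ρ t).injective (h.trans ht1.symm))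
  have back : ∀ t, ρ t ∞ = ((0 : R) : OnePoint R) → ρ t ((0 : R) : OnePoint R) = ∞ →
      ∀ x y : OnePoint R, ρ t x = y → ρ t y = x := fun t ht1 ht2 x y h => by
    rw [← h, ← Equiv.Perm.mul_apply, ← map_mul, (hswap t ht1 ht2).1, map_one]
    rfl
  obtain ⟨t₀, ht₁, ht₂⟩ := hex
  obtain ⟨c, hc0, htc⟩ := fin t₀ ht₁ ht₂ 1 one_ne_zero
  -- `t₀` maps squares to non-squares
  have hcsq : ¬ IsSquare c := by
    rintro ⟨r, hr⟩
    have hr0 : r ≠ 0 := fun h => hc0 (by rw [hr, h, mul_zero])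
    obtain ⟨r', hr', hsq'⟩ : ∃ r', r' * r' = c ∧ IsSquare r' := by
      by_cases hrs : IsSquare r
      · exact ⟨r, hr.symm, hrs⟩
      · exact ⟨-r, by rw [neg_mul_neg, ← hr], hnn hrs⟩
    have hr'0 : r' ≠ 0 := fun h => hc0 (by rw [← hr', h, mul_zero])
    have h1 := hscale t₀ ht₁ ht₂ r' hr'0 hsq' 1 c htc
    rw [mul_one, ← hr', inv_mul_cancel_left₀ hr'0] at h1
    exact (hswap t₀ ht₁ ht₂).2 r' h1
  obtain ⟨g₀, hg₁, hg₂⟩ := hσ (-c⁻¹) (neg_ne_zero.2 (inv_ne_zero hc0))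
    (hnn fun h => hcsq (by simpa using hinvsq h))
  set t := g₀ * t₀ with ht
  have hT1 : ρ t ∞ = ((0 : R) : OnePoint R) := by
    rw [ht, map_mul, Equiv.Perm.mul_apply, ht₁, hg₂, mul_zero]
  have hT2 : ρ t ((0 : R) : OnePoint R) = ∞ := by
    rw [ht, map_mul, Equiv.Perm.mul_apply, ht₂, hg₁]
  have hone : ρ t ((1 : R) : OnePoint R) = ((-1 : R) : OnePoint R) := by
    rw [ht, map_mul, Equiv.Perm.mul_apply, htc, hg₂]
    congr 1
    field_simp
  have hmone := back t hT1 hT2 _ _ hone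
  have htval : ∀ x : R, x ≠ 0 → ρ t x = ((-x⁻¹ : R) : OnePoint R) := by
    intro x hx0
    by_cases hx : IsSquare x
    · have := hscale t hT1 hT2 x hx0 hx 1 (-1) hone
      rw [mul_one] at this
      rw [this]
      congr 1
      ring
    · have := hscale t hT1 hT2 (-x) (neg_ne_zero.2 hx0) (hnn hx) (-1) 1 hmone
      rw [neg_mul_neg, mul_one, mul_one, inv_neg] at this
      exact this
  obtain ⟨g₁, hg₁1, hg₁2⟩ := hτ 1
  -- comparison with `SL₂`
  let φ : SpecialLinearGroup (Fin 2) R →* Equiv.Perm (OnePoint R) :=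
    (MulAction.toPermHom (GL (Fin 2) R) (OnePoint R)).comp SpecialLinearGroup.toGL
  have hφ : ∀ (A : SpecialLinearGroup (Fin 2) R) (x : OnePoint R),
      φ A x = SpecialLinearGroup.toGL A • x := fun _ _ => rfl
  have hφi : ∀ A : SpecialLinearGroup (Fin 2) R, φ A ∞ =
      if A.1 1 0 = 0 then ∞ else ((A.1 0 0 / A.1 1 0 : R) : OnePoint R) := fun A => by
    rw [hφ, OnePoint.smul_infty_eq_ite]
    rfl
  have hφs : ∀ (A : SpecialLinearGroup (Fin 2) R) (x : R), φ A x =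
      if A.1 1 0 * x + A.1 1 1 = 0 then ∞ else
        (((A.1 0 0 * x + A.1 0 1) / (A.1 1 0 * x + A.1 1 1) : R) : OnePoint R) := fun A x => by
    rw [hφ, OnePoint.smul_some_eq_ite]
    rfl
  have hcen : Subgroup.center (SpecialLinearGroup (Fin 2) R) ≤ φ.ker := by
    intro A hA
    obtain ⟨r, hr, hA'⟩ := Matrix.SpecialLinearGroup.mem_center_iff.1 hA
    have hr0 : r ≠ 0 := by rintro rfl; simp at hr
    rw [MonoidHom.mem_ker]
    ext x
    cases x with
    | infty => rw [hφi]; simp [← hA']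
    | coe x => rw [hφs]; simp [← hA', hr0]
  have hTmem : ρ t ∈ φ.range := by
    let A : SpecialLinearGroup (Fin 2) R := ⟨!![0, -1; 1, 0], by simp [det_fin_two]⟩
    refine ⟨A, ?_⟩
    have hA : A.1 = !![0, -1; 1, 0] := rfl
    ext x
    cases x with
    | infty => rw [hφi, hT1, hA]; simp
    | coe x =>
      rw [hφs, hA]
      by_cases hx : x = 0
      · subst hx; rw [hT2]; simp
      · rw [htval x hx]
        simp [hx, neg_div]
  have hBmem : ∀ g, ρ g ∞ = ∞ → ρ g ∈ φ.range := by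
    intro g hg
    obtain ⟨s, hs0, ⟨r, hr⟩, e, he⟩ := hstab g hg
    have hr0 : r ≠ 0 := fun h => hs0 (by rw [hr, h, mul_zero])
    let A : SpecialLinearGroup (Fin 2) R :=
      ⟨!![r, e * r⁻¹; 0, r⁻¹], by simp [det_fin_two, hr0]⟩
    refine ⟨A, ?_⟩
    have hA : A.1 = !![r, e * r⁻¹; 0, r⁻¹] := rfl
    ext x
    cases x with
    | infty => rw [hφi, hg, hA]; simp
    | coe x =>
      rw [hφs, he, hA]
      simp [hr0]
      rw [hr]
      field_simp
  have hle : ρ.range ≤ φ.range := by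
    rintro _ ⟨g, rfl⟩
    cases h : ρ g ∞ with
    | infty => exact hBmem g h
    | coe y =>
      obtain ⟨k, hk1, hk2⟩ := hτ (-y)
      have hfix : ρ (t * k * g) ∞ = ∞ := by
        rw [map_mul, map_mul, Equiv.Perm.mul_apply, Equiv.Perm.mul_apply, h, hk2, add_neg_cancel,
          hT2]
      have h3 := φ.range.mul_mem (φ.range.inv_mem (hBmem k hk1))
        (φ.range.mul_mem (φ.range.inv_mem hTmem) (hBmem _ hfix))
      rwa [← map_inv, ← map_inv, ← map_mul, ← map_mul,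
        show k⁻¹ * (t⁻¹ * (t * k * g)) = g by group] at h3
  let ψ : ProjectiveSpecialLinearGroup (Fin 2) R →* Equiv.Perm (OnePoint R) :=
    QuotientGroup.lift _ φ hcen
  have hψr : ψ.range = φ.range := by
    apply le_antisymm
    · rintro _ ⟨x, rfl⟩
      obtain ⟨A, rfl⟩ := QuotientGroup.mk_surjective x
      exact ⟨A, rfl⟩
    · rintro _ ⟨A, rfl⟩
      exact ⟨QuotientGroup.mk A, rfl⟩
  have hGcard : Nat.card G = Nat.card (ProjectiveSpecialLinearGroup (Fin 2) R) := by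
    have h := PSLCard.card_PSL2_mul (F := R)
    rw [Nat.card_eq_fintype_card (α := R)] at h
    have hodd : Nat.gcd 2 (Fintype.card R - 1) = 2 := by
      apply Nat.gcd_eq_left
      have hqq : Fintype.card R % 2 = 1 := FiniteField.odd_card_of_char_ne_two
        (fun h => h2 (by rw [← Nat.cast_two, ← h, ringChar.Nat.cast_ringChar]))
      omega
    rw [hodd, ← hcard] at h
    omega
  let f : G →* ψ.range := ρ.codRestrict _ fun g => hψr ▸ hle ⟨g, rfl⟩
  have hf : Function.Injective f := fun g g' h => hinj (congrArg Subtype.val h)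
  have hψc : Nat.card ψ.range ≤ Nat.card (ProjectiveSpecialLinearGroup (Fin 2) R) :=
    Nat.card_le_card_of_surjective _ ψ.rangeRestrict_surjective
  have hfc := Nat.card_le_card_of_injective f hf
  have hψb : Function.Bijective ψ.rangeRestrict :=
    (Nat.bijective_iff_surjective_and_card _).2 ⟨ψ.rangeRestrict_surjective, by omega⟩
  exact ⟨(MulEquiv.ofBijective f ((Nat.bijective_iff_injective_and_card f).2 ⟨hf, by omega⟩)).trans
    (MulEquiv.ofBijective _ hψb).symm⟩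

end Cfsg.Agent.ZassenhausPSL2
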