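import Mathlib

/-!
Automorphisms of odd order of generalized quaternion groups.
-/

set_option autoImplicit false

namespace Cfsg.Agent.QuaternionOddAut

open QuaternionGroup

variable {n : ℕ}

theorem eq_one_of_apply [NeZero n] {φ : MulAut (QuaternionGroup n)}
    (h1 : φ (a 1) = a 1) (h2 : φ (xa 0) = xa 0) : φ = 1 := by
  have ha : ∀ k : ℕ, φ (a (k : ZMod (2 * n))) = a k := by
    intro k
    rw [← a_one_pow, map_pow, h1]
  have ha' : ∀ i : ZMod (2 * n), φ (a i) = a i := by
    intro i
    rw [← ZMod.natCast_zmod_val i]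
    exact ha _
  ext q
  rcases q with i | i
  · exact ha' i
  · have : xa i = xa 0 * (a i : QuaternionGroup n) := by rw [xa_mul_a, zero_add]
    rw [this, map_mul, h2, ha']
    rfl

theorem pow_apply_a [NeZero n] {φ : MulAut (QuaternionGroup n)} {r : ZMod (2 * n)}
    (h : φ (a 1) = a r) (i : ZMod (2 * n)) : φ (a i) = a (r * i) := by
  obtain ⟨k, rfl⟩ : ∃ k : ℕ, (k : ZMod (2 * n)) = i := ⟨i.val, ZMod.natCast_zmod_val i⟩
  rw [← a_one_pow k, map_pow, h]
  induction k with
  | zero => simp
  | succ j ih =>
    rw [pow_succ, ih, a_mul_a]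
    congr 1
    push_cast
    ring

/-- An automorphism of odd order preserving the cyclic subgroup is trivial. -/
theorem eq_one_of_cyclic_invariant {m : ℕ} (hn : n = 2 ^ m) {φ : MulAut (QuaternionGroup n)}
    (hodd : Odd (orderOf φ)) {r : ZMod (2 * n)} (h : φ (a 1) = a r) : φ = 1 := by
  haveI : NeZero n := ⟨by rw [hn]; positivity⟩
  have hpow : ∀ k : ℕ, (φ ^ k) (a 1) = a (r ^ k) := by
    intro k
    induction k with
    | zero => simp
    | succ k ih =>
      rw [pow_succ', MulAut.mul_apply, ih, pow_apply_a h, ← pow_succ']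
  have hk := hpow (orderOf φ)
  rw [pow_orderOf_eq_one, MulAut.one_apply, a.injEq] at hk
  -- `r` is a unit of odd order in a group of 2-power order
  have hu : IsUnit r := by
    refine IsUnit.of_mul_eq_one (r ^ (orderOf φ - 1)) ?_
    rw [← pow_succ', Nat.sub_add_cancel hodd.pos, ← hk]
  obtain ⟨u, rfl⟩ := hu
  have hu1 : u ^ orderOf φ = 1 := Units.ext (by rw [Units.val_pow_eq_pow_val, ← hk, Units.val_one])
  have hcop : (orderOf φ).Coprime (Fintype.card (ZMod (2 * n))ˣ) := by
    rw [ZMod.card_units_eq_totient]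
    rw [show 2 * n = 2 ^ (m + 1) by rw [hn, pow_succ, mul_comm],
      Nat.totient_prime_pow_succ Nat.prime_two]
    simpa using (hodd.coprime_two_right.pow_right m)
  have hu0 : u = 1 := by
    have h1 := orderOf_dvd_of_pow_eq_one hu1
    have h2 : orderOf u ∣ Fintype.card (ZMod (2 * n))ˣ := orderOf_dvd_card
    exact orderOf_eq_one_iff.1 (Nat.eq_one_of_dvd_coprimes hcop h1 h2)
  subst hu0
  rw [Units.val_one] at h
  have hj : ∃ j, φ (xa 0) = xa j := by
    cases hq : φ (xa 0) with
    | a j =>
      exfalso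
      have := congrArg φ.symm hq
      rw [MulEquiv.symm_apply_apply] at this
      have h' : φ (a j) = a j := by rw [pow_apply_a h, one_mul]
      rw [← h', MulEquiv.symm_apply_apply] at this
      cases this
    | xa j => exact ⟨j, rfl⟩
  obtain ⟨j, hj⟩ := hj
  have hjk : ∀ k : ℕ, (φ ^ k) (xa 0) = xa ((k : ZMod (2 * n)) * j) := by
    intro k
    induction k with
    | zero => simp
    | succ k ih =>
      rw [pow_succ', MulAut.mul_apply, ih,
        show xa ((k : ZMod (2 * n)) * j) = xa 0 * (a ((k : ZMod (2 * n)) * j) : QuaternionGroup n) by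
          rw [xa_mul_a, zero_add],
        map_mul, hj, pow_apply_a h, one_mul, xa_mul_a]
      congr 1
      push_cast
      ring
  have hk' := hjk (orderOf φ)
  rw [pow_orderOf_eq_one, MulAut.one_apply, xa.injEq] at hk'
  have hunit : IsUnit ((orderOf φ : ℕ) : ZMod (2 * n)) := by
    rw [ZMod.isUnit_iff_coprime, show 2 * n = 2 ^ (m + 1) by rw [hn, pow_succ, mul_comm]]
    exact hodd.coprime_two_right.pow_right _
  refine eq_one_of_apply h ?_
  rw [hj, show j = 0 from hunit.mul_right_eq_zero.1 hk'.symm]

theorem eq_one_of_ne_one {m : ℕ} (hn : n = 2 ^ m) (hm : m ≠ 1) {φ : MulAut (QuaternionGroup n)}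
    (hodd : Odd (orderOf φ)) : φ = 1 := by
  haveI : NeZero n := ⟨by rw [hn]; positivity⟩
  cases hq : φ (a 1) with
  | a r => exact eq_one_of_cyclic_invariant hn hodd hq
  | xa j =>
    exfalso
    have h1 : orderOf (φ (a 1)) = orderOf (a 1 : QuaternionGroup n) :=
      orderOf_injective φ.toMonoidHom φ.injective _
    rw [hq, orderOf_xa, orderOf_a_one] at h1
    rcases Nat.eq_zero_or_pos m with hm0 | hm0
    · rw [hn, hm0] at h1; omega
    · have : 2 ^ 2 ≤ 2 ^ m := Nat.pow_le_pow_right (by norm_num) (by omega)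
      omega

theorem sq_q8 : ∀ q : QuaternionGroup 2, q * q ≠ 1 → q * q = a 2 := by decide

theorem pow_three_eq_one_q8 {φ : MulAut (QuaternionGroup 2)} (hodd : Odd (orderOf φ)) :
    φ ^ 3 = 1 := by
  have hz : φ (a 2) = a 2 := by
    have h1 : φ (a 1 * a 1) = a 2 := by
      rw [map_mul]
      refine sq_q8 _ fun h => ?_
      rw [← map_mul, map_eq_one_iff φ φ.injective] at h
      exact absurd h (by decide)
    exact h1
  have key : ∀ q : QuaternionGroup 2, q * q ≠ 1 → (φ ^ 3) q = q := by
    intro q hq
    have hord : ∀ k : ℕ, (φ ^ k) q * (φ ^ k) q ≠ 1 := fun k h => by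
      rw [← map_mul, map_eq_one_iff _ (φ ^ k).injective] at h
      exact hq h
    -- the orbit of `q` never contains both `x` and `x⁻¹`
    have hanti : ∀ k : ℕ, (φ ^ k) q ≠ q * a 2 := by
      intro k hk
      have hstep : ∀ i : ℕ, (φ ^ i) (a 2) = a 2 := by
        intro i
        induction i with
        | zero => rfl
        | succ i ih => rw [pow_succ', MulAut.mul_apply, ih, hz]
      have h2 : (φ ^ (k + k)) q = q := by
        rw [pow_add, MulAut.mul_apply, hk, map_mul, hk, hstep, mul_assoc]
        have : (a 2 : QuaternionGroup 2) * a 2 = 1 := by decide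
        rw [this, mul_one]
      have h3 : Function.Periodic (fun i => (φ ^ i) q) (orderOf φ) := fun i => by
        show (φ ^ (i + orderOf φ)) q = _
        rw [pow_add, pow_orderOf_eq_one, mul_one]
      obtain ⟨i, hi⟩ := hodd
      have h4 : (φ ^ (k * orderOf φ)) q = q := by
        rw [mul_comm, pow_mul, pow_orderOf_eq_one, one_pow]
        rfl
      have h5 : ∀ c : ℕ, (φ ^ ((k + k) * c)) q = q := by
        intro c
        induction c with
        | zero => simp
        | succ c ih => rw [mul_add, mul_one, pow_add, MulAut.mul_apply, h2, ih]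
      have : k * orderOf φ = (k + k) * i + k := by rw [hi]; ring
      rw [this, pow_add, MulAut.mul_apply, hk, map_mul, h5, hstep] at h4
      have : (a 2 : QuaternionGroup 2) = 1 := mul_eq_left.1 h4
      exact absurd this (by decide)
    -- hence the orbit has at most three points
    let pairIdx : QuaternionGroup 2 → Fin 3 := fun x =>
      match x with
      | .a _ => 0
      | .xa j => if j = 0 ∨ j = 2 then 1 else 2
    have hpair : ∀ x y : QuaternionGroup 2, x * x ≠ 1 → y * y ≠ 1 → pairIdx x = pairIdx y →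
        y = x ∨ y = x * a 2 := by decide
    have hsmall : ∃ k, 0 < k ∧ k ≤ 3 ∧ (φ ^ k) q = q := by
      obtain ⟨i, j, hij, e⟩ := Fintype.exists_ne_map_eq_of_card_lt
        (fun i : Fin 4 => pairIdx ((φ ^ (i : ℕ)) q)) (by simp)
      wlog hlt : i < j generalizing i j
      · exact this j i hij.symm e.symm (lt_of_le_of_ne (not_lt.1 hlt) hij.symm)
      have he : (φ ^ (j : ℕ)) q = (φ ^ (i : ℕ)) ((φ ^ ((j : ℕ) - i)) q) := by
        rw [← MulAut.mul_apply, ← pow_add, Nat.add_sub_cancel' (le_of_lt hlt)]
      rcases hpair _ _ (hord _) (hord _) e with h | h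
      · refine ⟨(j : ℕ) - i, Nat.sub_pos_of_lt hlt, by omega, ?_⟩
        rw [he] at h
        exact (φ ^ (i : ℕ)).injective h
      · exfalso
        have hstep : (φ ^ (i : ℕ)) (a 2) = a 2 := by
          induction (i : ℕ) with
          | zero => rfl
          | succ i ih => rw [pow_succ', MulAut.mul_apply, ih, hz]
        rw [he, ← hstep, ← map_mul] at h
        exact hanti _ ((φ ^ (i : ℕ)).injective h)
    obtain ⟨k, hk0, hk3, hk⟩ := hsmall
    have hmul : ∀ c : ℕ, (φ ^ (k * c)) q = q := by
      intro c
      induction c with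
      | zero => simp
      | succ c ih => rw [mul_add, mul_one, pow_add, MulAut.mul_apply, hk, ih]
    interval_cases k
    · simpa using hmul 3
    · have h1 : (φ ^ orderOf φ) q = q := by rw [pow_orderOf_eq_one]; rfl
      obtain ⟨i, hi⟩ := hodd
      have h2 : (φ ^ (1 : ℕ)) q = q := by
        rw [hi, add_comm, pow_add, MulAut.mul_apply, hmul] at h1
        exact h1
      rw [pow_one] at h2
      rw [pow_succ, pow_two, MulAut.mul_apply, h2, MulAut.mul_apply, h2, h2]
    · exact hk
  exact eq_one_of_apply (key _ (by decide)) (key _ (by decide))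

/-- An automorphism of odd order of a generalized quaternion group of order `2 ^ (m + 2)` has
cube one, and is trivial unless the group is the quaternion group of order eight. -/
theorem main {Q : Type*} [Group Q] {m : ℕ} (e : Q ≃* QuaternionGroup (2 ^ m)) {φ : MulAut Q}
    (hodd : Odd (orderOf φ)) : φ ^ 3 = 1 ∧ (m ≠ 1 → φ = 1) := by
  have hψ : Odd (orderOf (MulAut.congr e φ)) := by
    rwa [← MulEquiv.coe_toMonoidHom (MulAut.congr e),
      orderOf_injective _ (MulAut.congr e).injective]
  refine ⟨?_, fun hm => (MulAut.congr e).injective ?_⟩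
  · refine (MulAut.congr e).injective ?_
    rw [map_pow, map_one]
    by_cases hm : m = 1
    · subst hm
      exact pow_three_eq_one_q8 hψ
    · rw [eq_one_of_ne_one rfl hm hψ, one_pow]
  · rw [map_one, eq_one_of_ne_one rfl hm hψ]

end Cfsg.Agent.QuaternionOddAut
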