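import Mathlib
import Cfsg.Agent.Lib.ZassenhausKernel

/-!
Affine coordinates for doubly transitive groups with trivial three-point stabilisers and abelian
kernel: the points become `OnePoint V`, the kernel the translations, the two-point stabiliser a
group of fixed-point-free additive automorphisms.
-/

set_option autoImplicit false

open scoped OnePoint

namespace Cfsg.Agent.Zassenhaus

open MulAction

universe u

variable {G : Type u} [Group G] {V : Type*} [AddCommGroup V]

/-- Affine coordinates. -/
structure Affine (ρ : G →* Equiv.Perm (OnePoint V)) (H : Subgroup G)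
    (act : H →* AddMonoid.End V) : Prop where
  inj : Function.Injective ρ
  tr : ∀ v : V, ∃ g, ρ g ∞ = ∞ ∧ ∀ x : V, ρ g x = ((x + v : V) : OnePoint V)
  lin : ∀ (h : H) (x : V), ρ h x = ((act h x : V) : OnePoint V)
  stab : ∀ g, ρ g ∞ = ∞ → ∃ h : H, ∃ v : V, ∀ x : V, ρ g x = ((act h x + v : V) : OnePoint V)
  mem : ∀ g, g ∈ H ↔ ρ g ∞ = ∞ ∧ ρ g ((0 : V) : OnePoint V) = ((0 : V) : OnePoint V)
  three : ∀ g, ∀ x y z : OnePoint V, x ≠ y → y ≠ z → x ≠ z →
    ρ g x = x → ρ g y = y → ρ g z = z → g = 1
  two : ∀ x y x' y' : OnePoint V, x ≠ y → x' ≠ y' → ∃ g, ρ g x = x' ∧ ρ g y = y'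

namespace Affine

variable {ρ : G →* Equiv.Perm (OnePoint V)} {H : Subgroup G} {act : H →* AddMonoid.End V}
variable (hA : Affine ρ H act)
include hA

lemma lin_infty (h : H) : ρ h ∞ = ∞ := ((hA.mem h).1 h.2).1

lemma free {h : H} {x : V} (hx : x ≠ 0) (e : act h x = x) : h = 1 := by
  refine Subtype.ext (hA.three h ∞ ((0 : V) : OnePoint V) (x : OnePoint V) (by simp)
    (fun e => hx (OnePoint.coe_injective e).symm) (by simp) (hA.lin_infty h)
    ((hA.mem h).1 h.2).2 ?_)
  rw [hA.lin, e]

lemma act_injective [Nontrivial V] : Function.Injective act := by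
  intro h k e
  obtain ⟨x, hx⟩ := _root_.exists_ne (0 : V)
  have : act (h⁻¹ * k) x = x := by
    rw [map_mul, ← e, ← map_mul, inv_mul_cancel, map_one]
    rfl
  exact inv_mul_eq_one.1 (hA.free hx this)

lemma act_eq_zero_iff (h : H) {x : V} : act h x = 0 ↔ x = 0 := by
  refine ⟨fun e => ?_, fun e => by rw [e, map_zero]⟩
  have : act (h⁻¹ * h) x = 0 := by
    rw [map_mul]
    show act h⁻¹ (act h x) = 0
    rw [e, map_zero]
  simpa using this

lemma card_mem_invariant [Finite G] [Finite V] (S : Set V) (h0 : (0 : V) ∉ S)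
    (hS : ∀ h : H, ∀ x ∈ S, act h x ∈ S) : Nat.card H ∣ S.ncard := by
  classical
  let _ : MulAction H S :=
    { smul := fun h x => ⟨act h x, hS h x x.2⟩
      one_smul := fun x => Subtype.ext (show act 1 (x : V) = x by rw [map_one]; rfl)
      mul_smul := fun h k x => Subtype.ext
        (show act (h * k) (x : V) = act h (act k x) by rw [map_mul]; rfl) }
  rw [← Nat.card_coe_set_eq]
  have e : S ≃ orbitRel.Quotient H S × H :=
    selfEquivOrbitsQuotientProd fun x => (Subgroup.eq_bot_iff_forall _).2 fun h hh =>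
      hA.free (fun e => h0 (e ▸ x.2)) (congrArg Subtype.val hh)
  exact ⟨_, (Nat.card_congr e).trans ((Nat.card_prod _ _).trans (Nat.mul_comm _ _))⟩

lemma card_dvd [Finite G] [Finite V] : Nat.card H ∣ Nat.card V - 1 := by
  have := hA.card_mem_invariant ({0}ᶜ) (by simp) fun h x hx e => hx ((hA.act_eq_zero_iff h).1 e)
  rwa [Set.ncard_compl, Set.ncard_singleton] at this

/-- With at most two orbits on non-zero vectors, the action is irreducible. -/
lemma irreducible [Finite G] [Finite V] (hd : Nat.card V - 1 ≤ 2 * Nat.card H)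
    (W : AddSubgroup V) (hW : ∀ h : H, ∀ x ∈ W, act h x ∈ W) : W = ⊥ ∨ W = ⊤ := by
  by_contra hc
  push Not at hc
  have hH : 0 < Nat.card H := Nat.card_pos
  have hWc : (W : Set V).ncard = Nat.card W := (Nat.card_coe_set_eq _).symm
  have h1 := hA.card_mem_invariant ((W : Set V) \ {0}) (by simp)
    fun h x hx => ⟨hW h x hx.1, fun e => hx.2 ((hA.act_eq_zero_iff h).1 e)⟩
  have h2 := hA.card_mem_invariant ((W : Set V))ᶜ (by simp)
    fun h x hx e => hx (by
      have := hW h⁻¹ _ e
      rwa [show act h⁻¹ (act h x) = act (h⁻¹ * h) x by rw [map_mul]; rfl, inv_mul_cancel,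
        map_one] at this)
  rw [Set.ncard_sdiff_singleton_of_mem W.zero_mem, hWc] at h1
  rw [Set.ncard_compl, hWc] at h2
  have hW1 : 1 < Nat.card W := W.one_lt_card_iff_ne_bot.2 hc.1
  have hlt : Nat.card W < Nat.card V :=
    lt_of_le_of_ne (Nat.card_le_card_of_injective _ (Subtype.val_injective (p := (· ∈ W)))) fun e => hc.2 (W.eq_top_of_card_eq e)
  have h1' := Nat.le_of_dvd (by omega) h1
  have h2' := Nat.le_of_dvd (by omega) h2
  obtain ⟨c, hc'⟩ := W.card_addSubgroup_dvd_card
  rcases c with _ | _ | c
  · omega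
  · omega
  · have e1 : Nat.card W = Nat.card H + 1 := by omega
    have e2 : Nat.card V = 2 * Nat.card H + 1 := by omega
    rw [e1, e2] at hc'
    nlinarith

end Affine

/-- Existence of affine coordinates. -/
theorem exists_affine {Ω : Type*} [MulAction G Ω] (hP : Pre G Ω) {a b : Ω} (hab : a ≠ b)
    {K : Subgroup G} (hle : K ≤ stabilizer G a)
    (hn : ∀ g ∈ stabilizer G a, ∀ k ∈ K, g * k * g⁻¹ ∈ K)
    (ht : ∀ y z : Ω, y ≠ a → z ≠ a → ∃ k ∈ K, k • y = z)
    (hf : ∀ k ∈ K, ∀ y, y ≠ a → k • y = y → k = 1)
    (hc : ∀ x ∈ K, ∀ y ∈ K, x * y = y * x) :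
    ∃ (V : Type u) (_ : AddCommGroup V) (ρ : G →* Equiv.Perm (OnePoint V))
      (act : two G a b →* AddMonoid.End V) (e : OnePoint V ≃ Ω),
      Affine ρ (two G a b) act ∧ (∀ g x, e (ρ g x) = g • e x) ∧ e ∞ = a ∧
      e ((0 : V) : OnePoint V) = b ∧
      ∀ n : ℕ, (∀ k ∈ K, k ^ n = 1) → ∀ v : V, n • v = 0 := by
  let cg : CommGroup K :=
    { (inferInstance : Group K) with mul_comm := fun x y => Subtype.ext (hc _ x.2 _ y.2) }
  let addc : AddCommGroup (Additive K) := @Additive.addCommGroup K cg
  refine ⟨Additive K, addc, ?_⟩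
  let pt : OnePoint (Additive K) → Ω := fun x =>
    x.elim a fun v => ((Additive.toMul v : K) : G) • b
  have hne : ∀ v : Additive K, ((Additive.toMul v : K) : G) • b ≠ a := fun v e => hab
    (smul_left_cancel _ (e.trans (hle (Additive.toMul v : K).2).symm)).symm
  have hbij : Function.Bijective pt := by
    constructor
    · intro x y h
      cases x with
      | infty =>
        cases y with
        | infty => rfl
        | coe w => exact absurd h.symm (hne w)
      | coe v =>
        cases y with
        | infty => exact absurd h (hne v)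
        | coe w =>
          have h' : ((Additive.toMul v : K) : G) • b = ((Additive.toMul w : K) : G) • b := h
          have : ((Additive.toMul w : K) : G)⁻¹ * (Additive.toMul v : K) = 1 :=
            hf _ (K.mul_mem (K.inv_mem (Additive.toMul w : K).2) (Additive.toMul v : K).2) b
              hab.symm (by rw [mul_smul, h', inv_smul_smul])
          exact congrArg _ (Additive.toMul.injective (Subtype.ext (inv_mul_eq_one.1 this).symm))
    · intro z
      by_cases hz : z = a
      · exact ⟨∞, hz.symm⟩
      · obtain ⟨k, hk, e⟩ := ht b z hab.symm hz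
        exact ⟨((Additive.ofMul (⟨k, hk⟩ : K) : Additive K) : OnePoint (Additive K)), e⟩
  let e := Equiv.ofBijective pt hbij
  let ρ : G →* Equiv.Perm (OnePoint (Additive K)) :=
    { toFun := fun g => e.trans ((toPerm g).trans e.symm)
      map_one' := by ext x; simp
      map_mul' := fun g g' => by ext x; simp [mul_smul] }
  have hρ : ∀ g x, e (ρ g x) = g • e x := fun g x => e.apply_symm_apply _
  let act : two G a b →* AddMonoid.End (Additive K) :=
    { toFun := fun h =>
        { toFun := fun v => Additive.ofMul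
            (⟨(h : G) * (Additive.toMul v : K) * (h : G)⁻¹, hn _ h.2.1 _ (Additive.toMul v : K).2⟩ : K)
          map_zero' := congrArg Additive.ofMul
            (Subtype.ext (show (h : G) * ((1 : K) : G) * (h : G)⁻¹ = 1 by simp))
          map_add' := fun v w => congrArg Additive.ofMul
            (Subtype.ext (show (h : G) * (((Additive.toMul v : K) : G) * (Additive.toMul w : K)) *
              (h : G)⁻¹ = (h : G) * (Additive.toMul v : K) * (h : G)⁻¹ *
              ((h : G) * (Additive.toMul w : K) * (h : G)⁻¹) by group)) }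
      map_one' := AddMonoidHom.ext fun v => congrArg Additive.ofMul
        (Subtype.ext (show ((1 : two G a b) : G) * (Additive.toMul v : K) * ((1 : two G a b) : G)⁻¹ =
          ((Additive.toMul v : K) : G) by simp))
      map_mul' := fun h k => AddMonoidHom.ext fun v => congrArg Additive.ofMul
        (Subtype.ext (show ((h * k : two G a b) : G) * (Additive.toMul v : K) * ((h * k : two G a b) : G)⁻¹ =
          (h : G) * ((k : G) * (Additive.toMul v : K) * (k : G)⁻¹) * (h : G)⁻¹ by simp [mul_assoc])) }
  have h0 : e ((0 : Additive K) : OnePoint (Additive K)) = b := one_smul G b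
  have hlin : ∀ (h : two G a b) (x : Additive K), ρ h x = ((act h x : Additive K) : OnePoint _) := by
    intro h x
    apply e.injective
    rw [hρ]
    show (h : G) • ((Additive.toMul x : K) : G) • b =
      ((h : G) * (Additive.toMul x : K) * (h : G)⁻¹) • b
    rw [mul_smul, mul_smul, inv_smul_eq_iff.2 h.2.2.symm]
  refine ⟨ρ, act, e, ⟨?_, ?_, hlin, ?_, ?_, ?_, ?_⟩, hρ, rfl, h0, ?_⟩
  · intro g g' h
    haveI := hP.faithful
    refine eq_of_smul_eq_smul (α := Ω) fun x => ?_
    obtain ⟨y, rfl⟩ := e.surjective x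
    rw [← hρ, ← hρ, h]
  · intro v
    refine ⟨((Additive.toMul v : K) : G), ?_, fun x => ?_⟩
    · apply e.injective
      rw [hρ]
      exact hle (Additive.toMul v : K).2
    · apply e.injective
      rw [hρ]
      show ((Additive.toMul v : K) : G) • ((Additive.toMul x : K) : G) • b =
        (((Additive.toMul x : K) : G) * (Additive.toMul v : K)) • b
      rw [← mul_smul, hc _ (Additive.toMul v : K).2 _ (Additive.toMul x : K).2]
  · intro g hg
    have hga : g • a = a := by
      have := congrArg e hg
      rwa [hρ] at this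
    have hgb : g • b ≠ a := fun h' => hab (smul_left_cancel g (h'.trans hga.symm)).symm
    obtain ⟨k, hk, hkb⟩ := ht b (g • b) hab.symm hgb
    refine ⟨⟨k⁻¹ * g, ?_, ?_⟩, Additive.ofMul (⟨k, hk⟩ : K), fun x => ?_⟩
    · show (k⁻¹ * g) • a = a
      rw [mul_smul, hga, inv_smul_eq_iff.2 (hle hk).symm]
    · show (k⁻¹ * g) • b = b
      rw [mul_smul, ← hkb, inv_smul_smul]
    · apply e.injective
      rw [hρ]
      show g • ((Additive.toMul x : K) : G) • b =
        (((k⁻¹ * g) * (Additive.toMul x : K) * (k⁻¹ * g)⁻¹) * k) • b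
      have hcx : ((k⁻¹ * g) * (Additive.toMul x : K) * (k⁻¹ * g)⁻¹) * k =
          k * ((k⁻¹ * g) * (Additive.toMul x : K) * (k⁻¹ * g)⁻¹) := by
        refine hc _ (hn _ ?_ _ (Additive.toMul x : K).2) _ hk
        exact mem_stabilizer_iff.2 (by rw [mul_smul, hga, inv_smul_eq_iff.2 (hle hk).symm])
      rw [hcx]
      have hb : (k⁻¹ * g) • b = b := by rw [mul_smul, ← hkb, inv_smul_smul]
      rw [mul_smul k, mul_smul, mul_smul, inv_smul_eq_iff.2 hb.symm, mul_smul, smul_inv_smul]
  · intro g
    rw [mem_two]
    constructor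
    · rintro ⟨h1, h2⟩
      refine ⟨e.injective ?_, e.injective ?_⟩
      · rw [hρ]; exact h1
      · rw [hρ, h0]; exact h2
    · rintro ⟨h1, h2⟩
      refine ⟨?_, ?_⟩
      · have := congrArg e h1
        rwa [hρ] at this
      · have := congrArg e h2
        rwa [hρ, h0] at this
  · intro g x y z hxy hyz hxz h1 h2 h3
    refine hP.three g (e x) (e y) (e z) (e.injective.ne hxy) (e.injective.ne hyz)
      (e.injective.ne hxz) ?_ ?_ ?_ <;> rw [← hρ]
    · rw [h1]
    · rw [h2]
    · rw [h3]
  · intro x y x' y' hxy hxy'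
    obtain ⟨g, h1, h2⟩ := hP.smul_pair _ _ _ _ (e.injective.ne hxy) (e.injective.ne hxy')
    exact ⟨g, e.injective (by rw [hρ, h1]), e.injective (by rw [hρ, h2])⟩
  · intro n hkn v
    exact congrArg Additive.ofMul
      (Subtype.ext (show ((Additive.toMul v : K) : G) ^ n = 1 from hkn _ (Additive.toMul v : K).2))

/-- A commuting family of endomorphisms without invariant subgroups generates a ring of
bijective maps. -/
theorem bijective_of_mem_closure {V : Type*} [AddCommGroup V] [Finite V] (S T : Set (AddMonoid.End V))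
    (hST : ∀ s ∈ S, ∀ t ∈ T, s * t = t * s)
    (hirr : ∀ W : AddSubgroup V, (∀ t ∈ T, ∀ x ∈ W, t x ∈ W) → W = ⊥ ∨ W = ⊤)
    {r : AddMonoid.End V} (hr : r ∈ Subring.closure S) (hr0 : r ≠ 0) :
    Function.Bijective r := by
  have hrT : ∀ t ∈ T, r * t = t * r := by
    intro t ht
    induction hr using Subring.closure_induction with
    | mem x hx => exact hST x hx t ht
    | zero => rw [zero_mul, mul_zero]
    | one => rw [one_mul, mul_one]
    | add x y _ _ hx hy =>
      have hx' : x * t = t * x := by
        by_cases h : x = 0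
        · rw [h, zero_mul, mul_zero]
        · exact hx h
      have hy' : y * t = t * y := by
        by_cases h : y = 0
        · rw [h, zero_mul, mul_zero]
        · exact hy h
      rw [add_mul, mul_add, hx', hy']
    | neg x _ hx =>
      rw [neg_mul, mul_neg]
      exact congrArg _ (hx (by simpa using hr0))
    | mul x y _ _ hx hy =>
      rw [mul_assoc, hy (by rintro rfl; simp at hr0), ← mul_assoc,
        hx (by rintro rfl; simp at hr0), mul_assoc]
  refine Finite.injective_iff_bijective.1 ?_
  rw [injective_iff_map_eq_zero]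
  rcases hirr (AddMonoidHom.ker (r : V →+ V)) (fun t ht x hx => by
    show r (t x) = 0
    have h1 : (r * t) x = (t * r) x := by rw [hrT t ht]
    simp only [AddMonoid.End.coe_mul, Function.comp_apply] at h1
    rw [h1]
    have hx' : r x = 0 := hx
    exact (congrArg t hx').trans (map_zero t)) with h | h
  · intro x hx
    have : x ∈ AddMonoidHom.ker (r : V →+ V) := hx
    rwa [h, AddSubgroup.mem_bot] at this
  · exfalso
    apply hr0
    ext x
    exact (h ▸ AddSubgroup.mem_top x : x ∈ AddMonoidHom.ker (r : V →+ V))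

end Cfsg.Agent.Zassenhaus
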