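import Mathlib
import Cfsg.Agent.Lib.PSLCard

/-!
Recognition of `PSL₂(q)`, `q ≡ 1 mod 4`, as a group of permutations of the projective line.
-/

set_option autoImplicit false

open scoped OnePoint MatrixGroups

namespace Cfsg.Agent.ZassenhausPSL2

open Matrix

variable {R : Type*} [Field R]

/-- Two-point doubly transitive group generated like `PSL₂`. -/
theorem nonempty_mulEquiv [Fintype R] {G : Type*} [Group G] [Finite G]
    (ρ : G →* Equiv.Perm (OnePoint R)) (hinj : Function.Injective ρ)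
    (h2 : (2 : R) ≠ 0) (hneg : IsSquare (-1 : R))
    (hcard : 2 * Nat.card G = Fintype.card R * (Fintype.card R ^ 2 - 1))
    (hτ : ∀ c : R, ∃ g, ρ g ∞ = ∞ ∧ ∀ x : R, ρ g x = ((x + c : R) : OnePoint R))
    (hσ : ∀ s : R, s ≠ 0 → IsSquare s →
      ∃ g, ρ g ∞ = ∞ ∧ ∀ x : R, ρ g x = ((s * x : R) : OnePoint R))
    (hstab : ∀ g, ρ g ∞ = ∞ → ∃ s : R, s ≠ 0 ∧ IsSquare s ∧
      ∃ c : R, ∀ x : R, ρ g x = ((s * x + c : R) : OnePoint R))
    (hex : ∃ t, ρ t ∞ = ((0 : R) : OnePoint R) ∧ ρ t ((0 : R) : OnePoint R) = ∞)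
    (hswap : ∀ t, ρ t ∞ = ((0 : R) : OnePoint R) → ρ t ((0 : R) : OnePoint R) = ∞ →
      t * t = 1 ∧ ∃ x : R, ρ t x = x) :
    Nonempty (G ≃* ProjectiveSpecialLinearGroup (Fin 2) R) := by
  classical
  obtain ⟨i, hi⟩ := hneg
  have hi0 : i ≠ 0 := by rintro rfl; simp at hi
  have hmulsq : ∀ {x y : R}, IsSquare x → IsSquare y → IsSquare (x * y) := fun hx hy => hx.mul hy
  have hnegsq : ∀ {x : R}, IsSquare x → IsSquare (-x) := fun {x} hx => by
    simpa using hmulsq (⟨i, hi⟩ : IsSquare (-1 : R)) hx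
  have hinvsq : ∀ {x : R}, IsSquare x → IsSquare x⁻¹ := fun {x} ⟨r, hr⟩ =>
    ⟨r⁻¹, by rw [hr, mul_inv]⟩
  -- swappers and scalings
  have hscale : ∀ t, ρ t ∞ = ((0 : R) : OnePoint R) → ρ t ((0 : R) : OnePoint R) = ∞ →
      ∀ s : R, s ≠ 0 → IsSquare s → ∀ x y : R, ρ t x = y → ρ t (s * x : R) = (s⁻¹ * y : R) := by
    intro t ht1 ht2 s hs0 hsq x y hxy
    obtain ⟨g, hg1, hg2⟩ := hσ s hs0 hsq
    have htt : t * t = 1 := (hswap t ht1 ht2).1
    have hgt : (t * g) * (t * g) = 1 := by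
      refine (hswap (t * g) ?_ ?_).1
      · rw [map_mul, Equiv.Perm.mul_apply, hg1, ht1]
      · rw [map_mul, Equiv.Perm.mul_apply, hg2, mul_zero, ht2]
    have e : t * g = g⁻¹ * t :=
      (inv_eq_of_mul_eq_one_left hgt).symm.trans ((_root_.mul_inv_rev t g).trans
        (congrArg (g⁻¹ * ·) (inv_eq_of_mul_eq_one_left htt)))
    have hkey : ρ t (s * x : R) = ρ g⁻¹ y := by
      rw [← hg2, ← Equiv.Perm.mul_apply, ← map_mul, e, map_mul, Equiv.Perm.mul_apply, hxy]
    rw [hkey, map_inv, Equiv.Perm.inv_eq_iff_eq, hg2, mul_inv_cancel_left₀ hs0]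
  obtain ⟨ν, hν⟩ : ∃ ν : R, ¬ IsSquare ν :=
    FiniteField.exists_nonsquare (fun h => h2 (by rw [← Nat.cast_two, ← h, ringChar.Nat.cast_ringChar]))
  have hν0 : ν ≠ 0 := fun h => hν (h ▸ ⟨0, by simp⟩)
  have hns : ∀ {x : R}, ¬ IsSquare x → ∃ s : R, s ≠ 0 ∧ IsSquare s ∧ x = s * ν := by
    intro x hx
    have hx0 : x ≠ 0 := fun h => hx (h ▸ ⟨0, by simp⟩)
    refine ⟨x * ν⁻¹, mul_ne_zero hx0 (inv_ne_zero hν0), ?_, by field_simp⟩
    rw [← quadraticChar_one_iff_isSquare (mul_ne_zero hx0 (inv_ne_zero hν0)), map_mul]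
    rw [← quadraticChar_neg_one_iff_not_isSquare] at hx
    have hν' : ¬ IsSquare ν⁻¹ := fun h => hν (by simpa using hinvsq h)
    rw [← quadraticChar_neg_one_iff_not_isSquare] at hν'
    rw [hx, hν']
    norm_num
  have fin : ∀ t, ρ t ∞ = ((0 : R) : OnePoint R) → ρ t ((0 : R) : OnePoint R) = ∞ →
      ∀ x : R, x ≠ 0 → ∃ y : R, y ≠ 0 ∧ ρ t x = y := by
    intro t ht1 ht2 x hx
    cases h : ρ t x with
    | infty => exact absurd (OnePoint.coe_injective ((ρ t).injective (h.trans ht2.symm))) hx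
    | coe y =>
      refine ⟨y, fun hy => ?_, rfl⟩
      subst hy
      exact OnePoint.coe_ne_infty x ((ρ t).injective (h.trans ht1.symm))
  have back : ∀ t, ρ t ∞ = ((0 : R) : OnePoint R) → ρ t ((0 : R) : OnePoint R) = ∞ →
      ∀ x y : OnePoint R, ρ t x = y → ρ t y = x := fun t ht1 ht2 x y h => by
    rw [← h, ← Equiv.Perm.mul_apply, ← map_mul, (hswap t ht1 ht2).1, map_one]
    rfl
  obtain ⟨t₀, ht₁, ht₂⟩ := hex
  obtain ⟨c, hc0, htc⟩ := fin t₀ ht₁ ht₂ 1 one_ne_zero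
  -- `t₀` maps squares to squares
  have hcsq : IsSquare c := by
    by_contra hcn
    obtain ⟨s, hs0, hsq, hcs⟩ := hns hcn
    obtain ⟨-, x, hx⟩ := hswap t₀ ht₁ ht₂
    have hx0 : x ≠ 0 := by
      rintro rfl
      rw [ht₂] at hx
      exact OnePoint.infty_ne_coe 0 hx
    by_cases hxsq : IsSquare x
    · have := hscale t₀ ht₁ ht₂ x hx0 hxsq 1 c htc
      rw [mul_one, hx] at this
      have e : x = x⁻¹ * c := OnePoint.coe_injective this
      apply hcn
      have : c = x * x := by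
        conv_rhs => arg 2; rw [e]
        field_simp
      exact ⟨x, this⟩
    · obtain ⟨r, hr0, hrsq, hxr⟩ := hns hxsq
      have hcone := back t₀ ht₁ ht₂ _ _ htc
      have h1 := hscale t₀ ht₁ ht₂ (r * s⁻¹) (mul_ne_zero hr0 (inv_ne_zero hs0))
        (hmulsq hrsq (hinvsq hsq)) c 1 hcone
      rw [show r * s⁻¹ * c = x by rw [hcs, hxr]; field_simp, hx] at h1
      have e : x = (r * s⁻¹)⁻¹ * 1 := OnePoint.coe_injective h1
      exact hxsq (e ▸ (hinvsq (hmulsq hrsq (hinvsq hsq))).mul IsSquare.one)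
  obtain ⟨g₀, hg₁, hg₂⟩ := hσ (-c⁻¹) (neg_ne_zero.2 (inv_ne_zero hc0)) (hnegsq (hinvsq hcsq))
  set t := g₀ * t₀ with ht
  have hT1 : ρ t ∞ = ((0 : R) : OnePoint R) := by
    rw [ht, map_mul, Equiv.Perm.mul_apply, ht₁, hg₂, mul_zero]
  have hT2 : ρ t ((0 : R) : OnePoint R) = ∞ := by
    rw [ht, map_mul, Equiv.Perm.mul_apply, ht₂, hg₁]
  have hone : ρ t ((1 : R) : OnePoint R) = ((-1 : R) : OnePoint R) := by
    rw [ht, map_mul, Equiv.Perm.mul_apply, htc, hg₂]
    congr 1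
    field_simp
  -- values on squares
  have hsqval : ∀ x : R, x ≠ 0 → IsSquare x → ρ t x = ((-x⁻¹ : R) : OnePoint R) := by
    intro x hx0 hx
    have := hscale t hT1 hT2 x hx0 hx 1 (-1) hone
    rw [mul_one] at this
    rw [this]
    congr 1
    ring
  obtain ⟨μ, hμ0, hμ⟩ := fin t hT1 hT2 ν hν0
  set l := -(ν * μ) with hl
  have hnsval : ∀ x : R, ¬ IsSquare x → ρ t x = ((-(l * x⁻¹) : R) : OnePoint R) := by
    intro x hx
    obtain ⟨s, hs0, hsq, rfl⟩ := hns hx
    rw [hscale t hT1 hT2 s hs0 hsq ν μ hμ, hl]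
    congr 1
    field_simp
  obtain ⟨g₁, hg₁1, hg₁2⟩ := hτ 1
  -- the fundamental identity
  have hident : ∀ x : R, ρ t (ρ g₁ (ρ t (ρ g₁ (ρ t x)))) = ((x - 1 : R) : OnePoint R) := by
    have hfix : ρ (t * g₁ * t * g₁ * t) ∞ = ∞ := by
      simp only [map_mul, Equiv.Perm.mul_apply, hT1]
      rw [hg₁2, zero_add, hone, hg₁2, neg_add_cancel, hT2]
    obtain ⟨s, -, -, e, he⟩ := hstab _ hfix
    have e0 := he 0
    simp only [map_mul, Equiv.Perm.mul_apply, hT2, hg₁1, hT1, mul_zero, zero_add] at e0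
    rw [hg₁2, zero_add, hone] at e0
    have he1 : e = -1 := (OnePoint.coe_injective e0).symm
    have e1 := he 1
    simp only [map_mul, Equiv.Perm.mul_apply, hone, mul_one] at e1
    rw [hg₁2, neg_add_cancel, hT2, hg₁1, hT1] at e1
    have hs1 : s = 1 := by linear_combination -(OnePoint.coe_injective e1) - he1
    intro x
    have := he x
    simp only [map_mul, Equiv.Perm.mul_apply] at this
    rw [this, hs1, he1, one_mul, ← sub_eq_add_neg]
  have hl1 : l = 1 := by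
    obtain ⟨x, hx0, hx, hx1⟩ : ∃ x : R, x ≠ 0 ∧ IsSquare x ∧ ¬ IsSquare (x - 1) := by
      by_contra hcon
      push Not at hcon
      have hsub : ∀ y s : R, IsSquare y → IsSquare s → IsSquare (y - s) := by
        intro y s hy hs
        by_cases hy0 : y = 0
        · rw [hy0, zero_sub]; exact hnegsq hs
        by_cases hs0 : s = 0
        · rw [hs0, sub_zero]; exact hy
        · have := hmulsq hs (hcon (y * s⁻¹) (mul_ne_zero hy0 (inv_ne_zero hs0)) (hmulsq hy (hinvsq hs)))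
          rwa [show s * (y * s⁻¹ - 1) = y - s by field_simp] at this
      apply hν
      have := hsub (((ν + 1) / 2) * ((ν + 1) / 2)) (((ν - 1) / 2) * ((ν - 1) / 2)) ⟨_, rfl⟩ ⟨_, rfl⟩
      rwa [show ((ν + 1) / 2) * ((ν + 1) / 2) - ((ν - 1) / 2) * ((ν - 1) / 2) = ν by field_simp; ring] at this
    have hy : ¬ IsSquare (-x⁻¹ + 1) := by
      intro h
      apply hx1
      have := hmulsq hx h
      rwa [show x * (-x⁻¹ + 1) = x - 1 by field_simp; ring] at this
    have h1 := hident x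
    rw [hsqval x hx0 hx, hg₁2, hnsval _ hy, hg₁2] at h1
    have h2' := back t hT1 hT2 _ _ h1
    rw [hnsval _ hx1] at h2'
    have h3 := OnePoint.coe_injective h2'
    have hxm : x - 1 ≠ 0 := fun h => hx1 (h ▸ ⟨0, by simp⟩)
    have hy0 : -x⁻¹ + 1 ≠ 0 := fun h => hy (h ▸ ⟨0, by simp⟩)
    have e : (l - 1) * (x - 1) = 0 := by
      field_simp at h3
      rw [show -1 + x = x - 1 by ring] at h3
      field_simp at h3
      linear_combination h3
    rcases mul_eq_zero.1 e with e | e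
    · exact sub_eq_zero.1 e
    · exact absurd e hxm
  have htval : ∀ x : R, x ≠ 0 → ρ t x = ((-x⁻¹ : R) : OnePoint R) := by
    intro x hx0
    by_cases hx : IsSquare x
    · exact hsqval x hx0 hx
    · rw [hnsval x hx, hl1, one_mul]
  -- comparison with `SL₂`
  let φ : SpecialLinearGroup (Fin 2) R →* Equiv.Perm (OnePoint R) :=
    (MulAction.toPermHom (GL (Fin 2) R) (OnePoint R)).comp SpecialLinearGroup.toGL
  have hφ : ∀ (A : SpecialLinearGroup (Fin 2) R) (x : OnePoint R),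
      φ A x = SpecialLinearGroup.toGL A • x := fun _ _ => rfl
  have hφi : ∀ A : SpecialLinearGroup (Fin 2) R, φ A ∞ =
      if A.1 1 0 = 0 then ∞ else ((A.1 0 0 / A.1 1 0 : R) : OnePoint R) := fun A => by
    rw [hφ, OnePoint.smul_infty_eq_ite]
    rfl
  have hφs : ∀ (A : SpecialLinearGroup (Fin 2) R) (x : R), φ A x =
      if A.1 1 0 * x + A.1 1 1 = 0 then ∞ else
        (((A.1 0 0 * x + A.1 0 1) / (A.1 1 0 * x + A.1 1 1) : R) : OnePoint R) := fun A x => by
    rw [hφ, OnePoint.smul_some_eq_ite]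
    rfl
  have hcen : Subgroup.center (SpecialLinearGroup (Fin 2) R) ≤ φ.ker := by
    intro A hA
    obtain ⟨r, hr, hA'⟩ := Matrix.SpecialLinearGroup.mem_center_iff.1 hA
    have hr0 : r ≠ 0 := by rintro rfl; simp at hr
    rw [MonoidHom.mem_ker]
    ext x
    cases x with
    | infty => rw [hφi]; simp [← hA']
    | coe x => rw [hφs]; simp [← hA', hr0]
  have hTmem : ρ t ∈ φ.range := by
    let A : SpecialLinearGroup (Fin 2) R := ⟨!![0, -1; 1, 0], by simp [det_fin_two]⟩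
    refine ⟨A, ?_⟩
    have hA : A.1 = !![0, -1; 1, 0] := rfl
    ext x
    cases x with
    | infty => rw [hφi, hT1, hA]; simp
    | coe x =>
      rw [hφs, hA]
      by_cases hx : x = 0
      · subst hx; rw [hT2]; simp
      · rw [htval x hx]
        simp [hx, neg_div]
  have hBmem : ∀ g, ρ g ∞ = ∞ → ρ g ∈ φ.range := by
    intro g hg
    obtain ⟨s, hs0, ⟨r, hr⟩, e, he⟩ := hstab g hg
    have hr0 : r ≠ 0 := fun h => hs0 (by rw [hr, h, mul_zero])
    let A : SpecialLinearGroup (Fin 2) R :=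
      ⟨!![r, e * r⁻¹; 0, r⁻¹], by simp [det_fin_two, hr0]⟩
    refine ⟨A, ?_⟩
    have hA : A.1 = !![r, e * r⁻¹; 0, r⁻¹] := rfl
    ext x
    cases x with
    | infty => rw [hφi, hg, hA]; simp
    | coe x =>
      rw [hφs, he, hA]
      simp [hr0]
      rw [hr]
      field_simp
  have hle : ρ.range ≤ φ.range := by
    rintro _ ⟨g, rfl⟩
    cases h : ρ g ∞ with
    | infty => exact hBmem g h
    | coe y =>
      obtain ⟨k, hk1, hk2⟩ := hτ (-y)
      have hfix : ρ (t * k * g) ∞ = ∞ := by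
        rw [map_mul, map_mul, Equiv.Perm.mul_apply, Equiv.Perm.mul_apply, h, hk2, add_neg_cancel,
          hT2]
      have h3 := φ.range.mul_mem (φ.range.inv_mem (hBmem k hk1))
        (φ.range.mul_mem (φ.range.inv_mem hTmem) (hBmem _ hfix))
      rwa [← map_inv, ← map_inv, ← map_mul, ← map_mul,
        show k⁻¹ * (t⁻¹ * (t * k * g)) = g by group] at h3
  let ψ : ProjectiveSpecialLinearGroup (Fin 2) R →* Equiv.Perm (OnePoint R) :=
    QuotientGroup.lift _ φ hcen
  have hψr : ψ.range = φ.range := by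
    apply le_antisymm
    · rintro _ ⟨x, rfl⟩
      obtain ⟨A, rfl⟩ := QuotientGroup.mk_surjective x
      exact ⟨A, rfl⟩
    · rintro _ ⟨A, rfl⟩
      exact ⟨QuotientGroup.mk A, rfl⟩
  have hGcard : Nat.card G = Nat.card (ProjectiveSpecialLinearGroup (Fin 2) R) := by
    have h := PSLCard.card_PSL2_mul (F := R)
    rw [Nat.card_eq_fintype_card (α := R)] at h
    have hodd : Nat.gcd 2 (Fintype.card R - 1) = 2 := by
      apply Nat.gcd_eq_left
      have hqq : Fintype.card R % 2 = 1 := FiniteField.odd_card_of_char_ne_two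
        (fun h => h2 (by rw [← Nat.cast_two, ← h, ringChar.Nat.cast_ringChar]))
      omega
    rw [hodd, ← hcard] at h
    omega
  let f : G →* ψ.range := ρ.codRestrict _ fun g => hψr ▸ hle ⟨g, rfl⟩
  have hf : Function.Injective f := fun g g' h => hinj (congrArg Subtype.val h)
  have hψc : Nat.card ψ.range ≤ Nat.card (ProjectiveSpecialLinearGroup (Fin 2) R) :=
    Nat.card_le_card_of_surjective _ ψ.rangeRestrict_surjective
  have hfc := Nat.card_le_card_of_injective f hf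
  have hψb : Function.Bijective ψ.rangeRestrict :=
    (Nat.bijective_iff_surjective_and_card _).2 ⟨ψ.rangeRestrict_surjective, by omega⟩
  exact ⟨(MulEquiv.ofBijective f ((Nat.bijective_iff_injective_and_card f).2 ⟨hf, by omega⟩)).trans
    (MulEquiv.ofBijective _ hψb).symm⟩

end Cfsg.Agent.ZassenhausPSL2
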