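import Mathlib
import Cfsg.Agent.Lib.ZassenhausCoord
import Cfsg.Agent.Lib.ZassenhausPSL2

/-!
Doubly transitive groups with abelian kernel and two-point stabilisers of even order.
-/

set_option autoImplicit false

open scoped OnePoint

namespace Cfsg.Agent.Zassenhaus

open MulAction

/-- Counting involutions: if every pair of points is fixed by exactly one involution and every
involution fixes exactly two points, each pair is swapped by `(n-2)/2` involutions. -/
theorem two_mul_card_swappers {G X : Type*} [Group G] [Finite G] [Fintype X] [DecidableEq X]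
    (ρ : G →* Equiv.Perm X)
    (hpair : ∀ x y x' y' : X, x ≠ y → x' ≠ y' → ∃ g, ρ g x = x' ∧ ρ g y = y')
    (huniq : ∀ x y : X, x ≠ y → ∃! g : G, (g * g = 1 ∧ g ≠ 1) ∧ ρ g x = x ∧ ρ g y = y)
    (hfix : ∀ g : G, g * g = 1 → g ≠ 1 → ∃ x y : X, x ≠ y ∧ ρ g x = x ∧ ρ g y = y ∧
      ∀ z, ρ g z = z → z = x ∨ z = y) {a b : X} (hab : a ≠ b) :
    2 * {g : G | (g * g = 1 ∧ g ≠ 1) ∧ ρ g a = b}.ncard = Fintype.card X - 2 := by
  classical
  haveI := Fintype.ofFinite G
  let T : Finset G := Finset.univ.filter fun g => g * g = 1 ∧ g ≠ 1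
  let M : Finset (X × X) := (Finset.univ : Finset X).offDiag
  have h1 : M.card * 1 = T.card * 2 := by
    refine Finset.card_mul_eq_card_mul (fun (p : X × X) (g : G) => ρ g p.1 = p.1 ∧ ρ g p.2 = p.2) ?_ ?_
    · intro p hp
      obtain ⟨g, hg, hu⟩ := huniq p.1 p.2 (Finset.mem_offDiag.1 hp).2.2
      rw [Finset.card_eq_one]
      refine ⟨g, Finset.ext fun g' => ?_⟩
      simp only [Finset.mem_bipartiteAbove, T, Finset.mem_filter, Finset.mem_univ, true_and,
        Finset.mem_singleton]
      exact ⟨fun h => hu g' ⟨h.1, h.2⟩, fun h => h ▸ ⟨hg.1, hg.2⟩⟩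
    · intro g hg
      simp only [T, Finset.mem_filter, Finset.mem_univ, true_and] at hg
      obtain ⟨x, y, hxy, hx, hy, hF⟩ := hfix g hg.1 hg.2
      have : Finset.bipartiteBelow (fun (p : X × X) (g : G) => ρ g p.1 = p.1 ∧ ρ g p.2 = p.2) M g =
          {(x, y), (y, x)} := by
        ext ⟨u, v⟩
        simp only [Finset.mem_bipartiteBelow, M, Finset.mem_offDiag, Finset.mem_univ, true_and,
          Finset.mem_insert, Finset.mem_singleton, Prod.mk.injEq]
        constructor
        · rintro ⟨hne, hu, hv⟩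
          rcases hF u hu with rfl | rfl <;> rcases hF v hv with rfl | rfl <;> simp_all
        · rintro (⟨rfl, rfl⟩ | ⟨rfl, rfl⟩)
          · exact ⟨hxy, hx, hy⟩
          · exact ⟨Ne.symm hxy, hy, hx⟩
      rw [this, Finset.card_pair]
      simp [hxy]
  have h2 : T.card * (Fintype.card X - 2) =
      M.card * {g : G | (g * g = 1 ∧ g ≠ 1) ∧ ρ g a = b}.ncard := by
    refine Finset.card_mul_eq_card_mul (fun (g : G) (p : X × X) => ρ g p.1 = p.2) ?_ ?_
    · intro g hg
      simp only [T, Finset.mem_filter, Finset.mem_univ, true_and] at hg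
      obtain ⟨x, y, hxy, hx, hy, hF⟩ := hfix g hg.1 hg.2
      rw [← Finset.card_pair hxy, ← Finset.card_compl]
      refine Finset.card_bij (fun p _ => p.1) ?_ ?_ ?_
      · intro p hp
        simp only [Finset.mem_bipartiteAbove, M, Finset.mem_offDiag, Finset.mem_univ, true_and] at hp
        simp only [Finset.mem_compl, Finset.mem_insert, Finset.mem_singleton]
        rintro (h | h) <;> rw [h] at hp
        · exact hp.1 (hx.symm.trans hp.2)
        · exact hp.1 (hy.symm.trans hp.2)
      · intro p hp q hq e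
        simp only [Finset.mem_bipartiteAbove] at hp hq
        refine Prod.ext e ?_
        rw [← hp.2, ← hq.2, e]
      · intro u hu
        simp only [Finset.mem_compl, Finset.mem_insert, Finset.mem_singleton, not_or] at hu
        refine ⟨(u, ρ g u), ?_, rfl⟩
        simp only [Finset.mem_bipartiteAbove, M, Finset.mem_offDiag, Finset.mem_univ, true_and,
          and_true]
        exact fun e => (hF u e.symm).elim hu.1 hu.2
    · intro p hp
      obtain ⟨k, hk1, hk2⟩ := hpair p.1 p.2 a b (Finset.mem_offDiag.1 hp).2.2 hab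
      have e : (↑(Finset.bipartiteBelow (fun (g : G) (p : X × X) => ρ g p.1 = p.2) T p) : Set G) =
          (fun g => k⁻¹ * g * k) '' {g : G | (g * g = 1 ∧ g ≠ 1) ∧ ρ g a = b} := by
        ext g
        simp only [Finset.mem_coe, Finset.mem_bipartiteBelow, T, Finset.mem_filter, Finset.mem_univ,
          true_and, Set.mem_image, Set.mem_setOf_eq]
        constructor
        · rintro ⟨⟨h1, h2⟩, h3⟩
          refine ⟨k * g * k⁻¹, ⟨⟨?_, fun h => h2 (conj_eq_one_iff.1 h)⟩, ?_⟩, by group⟩
          · calc k * g * k⁻¹ * (k * g * k⁻¹) = k * (g * g) * k⁻¹ := by group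
              _ = 1 := by rw [h1]; group
          · rw [map_mul, map_mul, map_inv, Equiv.Perm.mul_apply, Equiv.Perm.mul_apply,
              Equiv.Perm.inv_eq_iff_eq.2 hk1.symm, h3, hk2]
        · rintro ⟨g, ⟨⟨h1, h2⟩, h3⟩, rfl⟩
          refine ⟨⟨?_, fun h => h2 ?_⟩, ?_⟩
          · calc k⁻¹ * g * k * (k⁻¹ * g * k) = k⁻¹ * (g * g) * k := by group
              _ = 1 := by rw [h1]; group
          · calc g = k * (k⁻¹ * g * k) * k⁻¹ := by group
              _ = 1 := by rw [h]; group
          · rw [map_mul, map_mul, map_inv, Equiv.Perm.mul_apply, Equiv.Perm.mul_apply, hk1, h3,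
              Equiv.Perm.inv_eq_iff_eq, hk2]
      rw [← Set.ncard_coe_finset, e, Set.ncard_image_of_injective]
      intro x y h
      exact mul_left_cancel (mul_right_cancel h)
  have hM : 0 < M.card := Finset.card_pos.2 ⟨(a, b), Finset.mem_offDiag.2
    ⟨Finset.mem_univ _, Finset.mem_univ _, hab⟩⟩
  rw [mul_one] at h1
  rw [h1, mul_assoc] at h2
  exact (Nat.eq_of_mul_eq_mul_left (by omega) h2).symm

/-- A homomorphism from a simple group of order more than two to signs is trivial. -/
theorem hom_units_int_eq_one {G : Type*} [Group G] [Finite G] [IsSimpleGroup G]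
    (hG : 2 < Nat.card G) (f : G →* ℤˣ) (g : G) : f g = 1 := by
  rcases f.normal_ker.eq_bot_or_eq_top with h | h
  · have := Nat.card_le_card_of_injective f ((MonoidHom.ker_eq_bot_iff f).1 h)
    rw [Nat.card_eq_fintype_card (α := ℤˣ)] at this
    simp at this
    omega
  · exact MonoidHom.mem_ker.1 (h ▸ Subgroup.mem_top g)

theorem sign_involution {X : Type*} [Fintype X] [DecidableEq X] {σ : Equiv.Perm X}
    (hσ : σ * σ = 1) {m : ℕ} (hm : {x : X | σ x = x}.ncard + 2 * m = Fintype.card X) :
    Equiv.Perm.sign σ = (-1) ^ m := by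
  rw [Equiv.Perm.sign_of_pow_two_eq_one (by rw [pow_two]; exact hσ)]
  congr 1
  have : Fintype.card (Function.fixedPoints σ) = {x : X | σ x = x}.ncard := by
    rw [← Nat.card_eq_fintype_card, Nat.card_coe_set_eq]
    rfl
  omega

namespace Affine

universe u

variable {G : Type u} [Group G] [Finite G] {V : Type*} [AddCommGroup V] [Finite V]
variable {ρ : G →* Equiv.Perm (OnePoint V)} {H : Subgroup G} {act : H →* AddMonoid.End V}
variable (hA : Affine ρ H act) (heven : Even (Nat.card H))
include hA heven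

omit hA heven [Finite G] in
lemma card_onePoint : Nat.card (OnePoint V) = Nat.card V + 1 := Finite.card_option

lemma odd_card [Nontrivial V] : Odd (Nat.card V) := by
  obtain ⟨c, hc⟩ := hA.card_dvd
  have hV : 0 < Nat.card V := Nat.card_pos
  obtain ⟨e, he⟩ := heven
  rw [Nat.odd_iff]
  have : Nat.card V - 1 = 2 * (e * c) := by rw [hc, he]; ring
  omega

lemma eq_zero_of_add_self [Nontrivial V] {x : V} (h : x + x = 0) : x = 0 := by
  obtain ⟨i, hi⟩ := hA.odd_card heven
  have h1 : Nat.card V • x = 0 := card_nsmul_eq_zero'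
  rwa [hi, add_nsmul, one_nsmul, mul_nsmul, two_nsmul, h, nsmul_zero, zero_add] at h1

lemma act_involution [Nontrivial V] {h : H} (h2 : h * h = 1) (h1 : h ≠ 1) (x : V) :
    act h x = -x := by
  rw [eq_neg_iff_add_eq_zero]
  by_contra hne
  refine h1 (hA.free hne ?_)
  rw [map_add, show act h (act h x) = act (h * h) x by rw [map_mul]; rfl, h2, map_one]
  exact add_comm _ _

end Affine

end Cfsg.Agent.Zassenhaus
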