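import Mathlib
import Cfsg.Agent.Lib.ZassenhausEven
import Cfsg.Agent.Lib.QuaternionOddAut
import Cfsg.Agent.Lib.PGroupsCyclic
import Cfsg.Agent.Lib.TransferAlperin

/-!
Affine groups in which every involution has a fixed point: the half-size case is `PSL₂(q)`, the
full-size (sharply triply transitive) case is never simple.
-/

set_option autoImplicit false

open scoped OnePoint

namespace Cfsg.Agent.Zassenhaus.Affine

open MulAction

universe u

variable {G : Type u} [Group G] [Finite G] {V : Type*} [AddCommGroup V] [Finite V]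
variable {ρ : G →* Equiv.Perm (OnePoint V)} {H : Subgroup G} {act : H →* AddMonoid.End V}

omit [Finite G] in
lemma rho_mul (g h : G) (x : OnePoint V) : ρ (g * h) x = ρ g (ρ h x) := by
  rw [map_mul, Equiv.Perm.mul_apply]

omit [Finite G] in
lemma rho_one (x : OnePoint V) : ρ 1 x = x := by rw [map_one]; rfl

omit [Finite G] in
lemma rho_inv {g : G} {x y : OnePoint V} (h : ρ g x = y) : ρ g⁻¹ y = x := by
  rw [map_inv, Equiv.Perm.inv_eq_iff_eq, h]

local instance finiteOnePoint {W : Type*} [Finite W] : Finite (OnePoint W) :=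
  inferInstanceAs (Finite (Option W))

variable (hA : Affine ρ H act) (heven : Even (Nat.card H))
  (hnf : ∀ g : G, g * g = 1 → g ≠ 1 → ∃ x, ρ g x = x)
include hA heven

omit hnf in
lemma exists_z [Nontrivial V] : ∃ z : H, z * z = 1 ∧ z ≠ 1 := by
  haveI : Fact (Nat.Prime 2) := ⟨Nat.prime_two⟩
  obtain ⟨z, hz⟩ := exists_prime_orderOf_dvd_card' 2 heven.two_dvd
  rw [orderOf_eq_iff (by norm_num)] at hz
  exact ⟨z, by rw [← pow_two]; exact hz.1, by simpa using hz.2 1 (by norm_num) (by norm_num)⟩

omit hnf in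
lemma involution_unique [Nontrivial V] {h k : H} (h2 : h * h = 1) (h1 : h ≠ 1) (k2 : k * k = 1)
    (k1 : k ≠ 1) : h = k :=
  hA.act_injective (AddMonoidHom.ext fun x =>
    (hA.act_involution heven h2 h1 x).trans (hA.act_involution heven k2 k1 x).symm)

include hnf

lemma fix_exactly_two [Nontrivial V] (g : G) (h2 : g * g = 1) (h1 : g ≠ 1) :
    ∃ x y, x ≠ y ∧ ρ g x = x ∧ ρ g y = y ∧ ∀ z, ρ g z = z → z = x ∨ z = y := by
  classical
  haveI := Fintype.ofFinite V
  obtain ⟨x, hx⟩ := hnf g h2 h1
  have hmod : {u | ρ g u = u}.ncard % 2 = Nat.card (OnePoint V) % 2 := by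
    letI : MulAction G (OnePoint V) := MulAction.compHom _ ρ
    have := card_fixedBy_modEq (Ω := OnePoint V) h2
    rwa [Nat.card_coe_set_eq] at this
  have hn : Nat.card (OnePoint V) % 2 = 0 := by
    rw [card_onePoint]
    obtain ⟨i, hi⟩ := hA.odd_card heven
    omega
  obtain ⟨y, hy, hyx⟩ : ∃ y, ρ g y = y ∧ y ≠ x := by
    by_contra hc
    push Not at hc
    have e : {u | ρ g u = u} = {x} := Set.ext fun u => ⟨fun h => hc u h, fun h => h ▸ hx⟩
    rw [e, Set.ncard_singleton] at hmod
    omega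
  refine ⟨x, y, hyx.symm, hx, hy, fun z hz => ?_⟩
  by_contra hc
  push Not at hc
  exact h1 (hA.three g x y z hyx.symm hc.2.symm hc.1.symm hx hy hz)

lemma two_mul_swappers [Nontrivial V] :
    2 * {g : G | (g * g = 1 ∧ g ≠ 1) ∧ ρ g ∞ = ((0 : V) : OnePoint V)}.ncard =
      Nat.card V - 1 := by
  classical
  haveI := Fintype.ofFinite (OnePoint V)
  have h := two_mul_card_swappers ρ hA.two ?_ (fun g h2 h1 => hA.fix_exactly_two heven hnf g h2 h1)
    (OnePoint.infty_ne_coe (0 : V))
  · rw [h, ← Nat.card_eq_fintype_card, card_onePoint]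
    omega
  · intro x y hxy
    obtain ⟨k, hk1, hk2⟩ := hA.two ∞ ((0 : V) : OnePoint V) x y (OnePoint.infty_ne_coe _) hxy
    obtain ⟨z, hz, hz1⟩ := hA.exists_z heven
    have hz0 := (hA.mem z).1 z.2
    have hz' : (z : G) * z = 1 := congrArg Subtype.val hz
    refine ⟨k * z * k⁻¹, ⟨⟨?_, fun h => hz1 (Subtype.ext (conj_eq_one_iff.1 h))⟩, ?_, ?_⟩, ?_⟩
    · calc k * z * k⁻¹ * (k * z * k⁻¹) = k * ((z : G) * z) * k⁻¹ := by group
        _ = 1 := by rw [hz']; group
    · rw [rho_mul, rho_mul, rho_inv hk1, hz0.1, hk1]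
    · rw [rho_mul, rho_mul, rho_inv hk2, hz0.2, hk2]
    · rintro g ⟨⟨hg2, hg1⟩, hgx, hgy⟩
      have hm : k⁻¹ * g * k ∈ H := (hA.mem _).2
        ⟨by rw [rho_mul, rho_mul, hk1, hgx, rho_inv hk1],
          by rw [rho_mul, rho_mul, hk2, hgy, rho_inv hk2]⟩
      have e := hA.involution_unique heven (h := ⟨_, hm⟩) (k := z) (Subtype.ext (by
        show k⁻¹ * g * k * (k⁻¹ * g * k) = 1
        calc k⁻¹ * g * k * (k⁻¹ * g * k) = k⁻¹ * (g * g) * k := by group
          _ = 1 := by rw [hg2]; group)) (fun h => hg1 (by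
        calc g = k * (k⁻¹ * g * k) * k⁻¹ := by group
          _ = 1 := by rw [show k⁻¹ * g * k = 1 from congrArg Subtype.val h]; group)) hz hz1
      rw [← e]
      group

omit heven hnf [Finite G] in
lemma swap_zero {t : G} (ht : t * t = 1) (h : ρ t ∞ = ((0 : V) : OnePoint V)) :
    ρ t ((0 : V) : OnePoint V) = ∞ := by
  rw [← h, ← rho_mul, ht, rho_one]

omit heven hnf [Finite G] in
lemma swap_conj_mem {t : G} (ht : t * t = 1) (h : ρ t ∞ = ((0 : V) : OnePoint V)) {g : G}
    (hg : g ∈ H) : t * g * t ∈ H := by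
  have h' := hA.swap_zero ht h
  have hg0 := (hA.mem g).1 hg
  exact (hA.mem _).2 ⟨by rw [rho_mul, rho_mul, h, hg0.2, h'], by rw [rho_mul, rho_mul, h', hg0.1, h]⟩

lemma exists_swap [Nontrivial V] : ∃ t : G, t * t = 1 ∧ t ≠ 1 ∧ ρ t ∞ = ((0 : V) : OnePoint V) := by
  have h := hA.two_mul_swappers heven hnf
  have hV : 1 < Nat.card V := Finite.one_lt_card
  obtain ⟨i, hi⟩ := hA.odd_card heven
  obtain ⟨t, ⟨ht, ht1⟩, ht2⟩ := Set.nonempty_of_ncard_ne_zero
    (s := {g : G | (g * g = 1 ∧ g ≠ 1) ∧ ρ g ∞ = ((0 : V) : OnePoint V)}) (by omega)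
  exact ⟨t, ht, ht1, ht2⟩

lemma card_inverted [Nontrivial V] {t : G} (ht : t * t = 1)
    (htinf : ρ t ∞ = ((0 : V) : OnePoint V)) :
    2 * {h : G | h ∈ H ∧ t * h * t = h⁻¹}.ncard = Nat.card V - 1 := by
  rw [← hA.two_mul_swappers heven hnf]
  congr 1
  refine Set.ncard_congr (fun h _ => t * h) ?_ (fun _ _ _ _ e => mul_left_cancel e) ?_
  · rintro h ⟨hh, e⟩
    have h0 : ρ (t * h) ∞ = ((0 : V) : OnePoint V) := by
      rw [rho_mul, ((hA.mem h).1 hh).1, htinf]
    refine ⟨⟨?_, fun e1 => ?_⟩, h0⟩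
    · calc t * h * (t * h) = (t * h * t) * h := by group
        _ = 1 := by rw [e, inv_mul_cancel]
    · rw [e1, rho_one] at h0
      exact OnePoint.infty_ne_coe _ h0
  · rintro g ⟨⟨hg, hg1⟩, hg0⟩
    refine ⟨t * g, ⟨(hA.mem _).2 ⟨?_, ?_⟩, ?_⟩, by rw [← mul_assoc, ht, one_mul]⟩
    · rw [rho_mul, hg0, hA.swap_zero ht htinf]
    · rw [rho_mul, hA.swap_zero hg hg0, htinf]
    · rw [mul_inv_rev, inv_eq_of_mul_eq_one_left ht, inv_eq_of_mul_eq_one_left hg, ← mul_assoc t t g,
        ht, one_mul]

omit hnf in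
lemma card_group [Nontrivial V] :
    Nat.card G = Nat.card H * ((Nat.card V + 1) * Nat.card V) := by
  classical
  haveI := Fintype.ofFinite (OnePoint V)
  let f : G ⧸ H → {p : OnePoint V × OnePoint V // p.1 ≠ p.2} := Quotient.lift
    (fun g => ⟨(ρ g ∞, ρ g ((0 : V) : OnePoint V)), (ρ g).injective.ne (OnePoint.infty_ne_coe _)⟩)
    (fun g g' h => by
      have h' := (hA.mem _).1 (QuotientGroup.leftRel_apply.1 h)
      refine Subtype.ext (Prod.ext ?_ ?_)
      · show ρ g ∞ = ρ g' ∞
        conv_lhs => rw [← h'.1, ← rho_mul, mul_inv_cancel_left]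
      · show ρ g ((0 : V) : OnePoint V) = ρ g' ((0 : V) : OnePoint V)
        conv_lhs => rw [← h'.2, ← rho_mul, mul_inv_cancel_left])
  have hf : Function.Bijective f := by
    constructor
    · intro x y
      induction x using QuotientGroup.induction_on with
      | H g =>
      induction y using QuotientGroup.induction_on with
      | H g' =>
      intro e
      have e' : (ρ g ∞, ρ g ((0 : V) : OnePoint V)) = (ρ g' ∞, ρ g' ((0 : V) : OnePoint V)) :=
        congrArg Subtype.val e
      simp only [Prod.mk.injEq] at e'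
      refine QuotientGroup.eq.2 ((hA.mem _).2 ⟨?_, ?_⟩)
      · rw [rho_mul, ← e'.1, ← rho_mul, inv_mul_cancel, rho_one]
      · rw [rho_mul, ← e'.2, ← rho_mul, inv_mul_cancel, rho_one]
    · rintro ⟨⟨x, y⟩, hxy⟩
      obtain ⟨g, h1, h2⟩ := hA.two ∞ ((0 : V) : OnePoint V) x y (OnePoint.infty_ne_coe _) hxy
      exact ⟨QuotientGroup.mk g, Subtype.ext (Prod.ext h1 h2)⟩
  rw [Subgroup.card_eq_card_quotient_mul_card_subgroup H, Nat.card_congr (Equiv.ofBijective f hf),
    mul_comm]
  congr 1
  have e : Nat.card {p : OnePoint V × OnePoint V // p.1 ≠ p.2} =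
      (Finset.univ : Finset (OnePoint V)).offDiag.card := by
    rw [Nat.card_eq_fintype_card, Fintype.card_subtype]
    congr 1
    ext p
    simp
  rw [e, Finset.offDiag_card, Finset.card_univ, ← Nat.card_eq_fintype_card, card_onePoint]
  rw [← Nat.mul_sub_one]
  simp

/-- The half-size case is `PSL₂`. -/
theorem half_psl2 [Nontrivial V] (hcard : Nat.card V = 2 * Nat.card H + 1) :
    ∃ (F : Type) (_ : Field F) (_ : Fintype F), Fintype.card F = Nat.card V ∧
      Nonempty (G ≃* Matrix.ProjectiveSpecialLinearGroup (Fin 2) F) := by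
  classical
  obtain ⟨t, ht, ht1, htinf⟩ := hA.exists_swap heven hnf
  have hinv : ∀ h ∈ H, t * h * t = h⁻¹ := by
    have h1 := hA.card_inverted heven hnf ht htinf
    have e : {h : G | h ∈ H ∧ t * h * t = h⁻¹} = (H : Set G) := by
      refine Set.eq_of_subset_of_ncard_le (fun h hh => hh.1) ?_
      rw [show (H : Set G).ncard = Nat.card H from (Nat.card_coe_set_eq _).symm]
      omega
    intro h hh
    have : h ∈ {h : G | h ∈ H ∧ t * h * t = h⁻¹} := e.symm ▸ hh
    exact this.2
  have hti : t⁻¹ = t := inv_eq_of_mul_eq_one_left ht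
  have hcomm : ∀ h k : H, h * k = k * h := by
    intro h k
    refine Subtype.ext (show (h : G) * k = k * h from ?_)
    have e := hinv _ (H.mul_mem h.2 k.2)
    rw [show t * ((h : G) * k) * t = (t * h * t) * (t * k * t) by
      rw [show t * (h : G) * t * (t * k * t) = t * h * (t * t) * k * t by group, ht]; group,
      hinv _ h.2, hinv _ k.2, ← mul_inv_rev, inv_inj] at e
    exact e.symm
  set S : Set (AddMonoid.End V) := Set.range act
  have hS : ∀ x ∈ S, ∀ y ∈ S, x * y = y * x := by
    rintro _ ⟨h, rfl⟩ _ ⟨k, rfl⟩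
    rw [← map_mul, ← map_mul, hcomm]
  letI : CommRing (Subring.closure S) := Subring.closureCommRingOfComm hS
  have hbij : ∀ r ∈ Subring.closure S, r ≠ 0 → Function.Bijective (r : V → V) := fun r hr hr0 =>
    bijective_of_mem_closure S S hS (fun W hW => hA.irreducible (by omega) W
      fun h x hx => hW _ ⟨h, rfl⟩ x hx) hr hr0
  obtain ⟨e₁, he₁⟩ := _root_.exists_ne (0 : V)
  let ev : Subring.closure S →+ V :=
    { toFun := fun r => (r : AddMonoid.End V) e₁
      map_zero' := rfl
      map_add' := fun _ _ => rfl }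
  have hev : Function.Bijective ev := by
    have hinj : Function.Injective ev := by
      rw [injective_iff_map_eq_zero]
      intro r hr
      by_contra hr0
      have := (hbij r r.2 (fun h => hr0 (Subtype.ext h))).1
        (hr.trans (map_zero (r : AddMonoid.End V)).symm : (r : AddMonoid.End V) e₁ = (r : AddMonoid.End V) 0)
      exact he₁ this
    refine ⟨hinj, ?_⟩
    rcases hA.irreducible (by omega) ev.range (fun h x ⟨r, hr⟩ =>
      ⟨⟨act h, Subring.subset_closure ⟨h, rfl⟩⟩ * r, by
        show act h ((r : AddMonoid.End V) e₁) = act h x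
        rw [← hr]; rfl⟩) with h | h
    · exfalso
      have h1 : ev 1 ∈ ev.range := ⟨1, rfl⟩
      rw [h, AddSubgroup.mem_bot] at h1
      exact he₁ h1
    · exact AddMonoidHom.range_eq_top.1 h
  haveI : Finite (Subring.closure S) := Finite.of_injective _ hev.1
  haveI : Nontrivial (Subring.closure S) :=
    ⟨⟨0, 1, fun h => he₁ ((congrArg ev h).symm.trans (map_zero ev))⟩⟩
  haveI : NoZeroDivisors (Subring.closure S) := ⟨fun {r s} h => by
    by_contra hc
    push Not at hc
    refine hc.2 (Subtype.ext (AddMonoidHom.ext fun v => ?_))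
    exact (hbij r r.2 (fun e => hc.1 (Subtype.ext e))).1
      ((congrArg (fun x : Subring.closure S => (x : AddMonoid.End V) v) h).trans (map_zero _).symm)⟩
  haveI : IsDomain (Subring.closure S) := NoZeroDivisors.to_isDomain _
  haveI := Fintype.ofFinite (Subring.closure S)
  letI : Field (Subring.closure S) := Fintype.fieldOfDomain _
  let E : Subring.closure S ≃+ V := AddEquiv.ofBijective ev hev
  let χ₀ : H →* Subring.closure S :=
    { toFun := fun h => ⟨act h, Subring.subset_closure ⟨h, rfl⟩⟩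
      map_one' := Subtype.ext (map_one act)
      map_mul' := fun h k => Subtype.ext (map_mul act h k) }
  have hχ : ∀ (h : H) (r : Subring.closure S), act h (E r) = E (χ₀ h * r) := fun _ _ => rfl
  have hχinj : Function.Injective χ₀ := fun h k e => hA.act_injective (congrArg Subtype.val e)
  let χ : H →* (Subring.closure S)ˣ := χ₀.toHomUnits
  have hcardR : Fintype.card (Subring.closure S) = 2 * Nat.card H + 1 := by
    rw [← hcard, ← Nat.card_eq_fintype_card]
    exact Nat.card_congr E.toEquiv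
  have h2R : (2 : (Subring.closure S)) ≠ 0 := by
    intro h
    have h1 : E 1 + E 1 = 0 := by rw [← map_add, one_add_one_eq_two, h, map_zero]
    have := hA.eq_zero_of_add_self heven h1
    rw [← map_zero E] at this
    exact one_ne_zero (E.injective this)
  have hχr : χ.range.index = 2 := by
    have h1 : Nat.card χ.range = Nat.card H := Nat.card_congr
      (MonoidHom.ofInjective (f := χ) fun h k e => hχinj (congrArg Units.val e)).toEquiv.symm
    have h2 := Subgroup.card_mul_index χ.range
    rw [Nat.card_units, Nat.card_eq_fintype_card (α := (Subring.closure S)), hcardR, h1] at h2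
    have hpos : 0 < Nat.card H := Nat.card_pos
    exact Nat.eq_of_mul_eq_mul_left hpos (by omega)
  have hsqrange : ∀ s : (Subring.closure S), s ≠ 0 → IsSquare s → ∃ h : H, χ₀ h = s := by
    rintro s hs ⟨r, rfl⟩
    have hr : r ≠ 0 := left_ne_zero_of_mul hs
    obtain ⟨h, hh⟩ := Subgroup.sq_mem_of_index_two hχr (Units.mk0 r hr)
    refine ⟨h, ?_⟩
    have := congrArg Units.val hh
    simpa [χ, pow_two] using this
  have hrangesq : ∀ h : H, IsSquare (χ₀ h) := by
    have hsub : ((powMonoidHom 2 : (Subring.closure S)ˣ →* (Subring.closure S)ˣ).range) ≤ χ.range := by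
      rintro _ ⟨u, rfl⟩
      exact Subgroup.sq_mem_of_index_two hχr u
    have heq : (powMonoidHom 2 : (Subring.closure S)ˣ →* (Subring.closure S)ˣ).range = χ.range := by
      refine Subgroup.eq_of_le_of_card_ge hsub ?_
      have hk : Nat.card (powMonoidHom 2 : (Subring.closure S)ˣ →* (Subring.closure S)ˣ).ker ≤ 2 := by
        have hsub2 : ((powMonoidHom 2 : (Subring.closure S)ˣ →* (Subring.closure S)ˣ).ker : Set (Subring.closure S)ˣ) ⊆ {1, -1} := by
          intro u hu
          have h1 : (u : (Subring.closure S)) * u = 1 := by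
            rw [← Units.val_mul, ← pow_two, show u ^ 2 = 1 from hu, Units.val_one]
          rcases mul_self_eq_one_iff.1 h1 with h | h
          · exact Or.inl (Units.ext h)
          · exact Or.inr (Units.ext h)
        calc Nat.card (powMonoidHom 2 : (Subring.closure S)ˣ →* (Subring.closure S)ˣ).ker
            = ((powMonoidHom 2 : (Subring.closure S)ˣ →* (Subring.closure S)ˣ).ker : Set (Subring.closure S)ˣ).ncard := Nat.card_coe_set_eq _
          _ ≤ _ := (Set.ncard_le_ncard hsub2).trans
            ((Set.ncard_insert_le _ _).trans (by rw [Set.ncard_singleton]))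
      have h1 := Subgroup.card_mul_index (powMonoidHom 2 : (Subring.closure S)ˣ →* (Subring.closure S)ˣ).ker
      rw [Subgroup.index_ker] at h1
      have h2 := Subgroup.card_mul_index χ.range
      rw [hχr, ← h1] at h2
      have := Nat.mul_le_mul_right (Nat.card (powMonoidHom 2 : (Subring.closure S)ˣ →* (Subring.closure S)ˣ).range) hk
      omega
    intro h
    have : χ h ∈ (powMonoidHom 2 : (Subring.closure S)ˣ →* (Subring.closure S)ˣ).range := heq.symm ▸ ⟨h, rfl⟩
    obtain ⟨u, hu⟩ := this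
    exact ⟨u, by simpa [χ, pow_two] using (congrArg Units.val hu).symm⟩
  -- transport
  let Eo : OnePoint (Subring.closure S) ≃ OnePoint V := Equiv.optionCongr E.toEquiv
  have hEi : Eo ∞ = ∞ := rfl
  have hEc : ∀ x : Subring.closure S, Eo x = ((E x : V) : OnePoint V) := fun x => rfl
  let ρ' : G →* Equiv.Perm (OnePoint (Subring.closure S)) := (Equiv.permCongrHom Eo.symm).toMonoidHom.comp ρ
  have hρ' : ∀ g x, ρ' g x = Eo.symm (ρ g (Eo x)) := fun g x => rfl
  have hsw : ∀ s : G, ρ' s ∞ = ((0 : (Subring.closure S)) : OnePoint (Subring.closure S)) → ρ' s ((0 : (Subring.closure S)) : OnePoint (Subring.closure S)) = ∞ →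
      s * s = 1 ∧ ∃ x : (Subring.closure S), ρ' s x = x := by
    intro s h1 h2
    have h1' : ρ s ∞ = ((0 : V) : OnePoint V) := by
      have := congrArg Eo h1
      rw [hρ', Equiv.apply_symm_apply] at this
      simpa [hEi, hEc] using this
    have h2' : ρ s ((0 : V) : OnePoint V) = ∞ := by
      have := congrArg Eo h2
      rw [hρ', Equiv.apply_symm_apply] at this
      simpa [hEi, hEc] using this
    have hh : t * s ∈ H := (hA.mem _).2
      ⟨by rw [rho_mul, h1', hA.swap_zero ht htinf], by rw [rho_mul, h2', htinf]⟩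
    have hs : s * s = 1 := by
      have e := hinv _ hh
      rw [← mul_assoc t t s, ht, one_mul, mul_inv_rev, hti] at e
      exact mul_eq_one_iff_eq_inv.2 (mul_right_cancel e)
    have hs1 : s ≠ 1 := fun e => by
      rw [e, rho_one] at h1'
      exact OnePoint.infty_ne_coe _ h1'
    obtain ⟨x, hx⟩ := hnf s hs hs1
    refine ⟨hs, ?_⟩
    cases x with
    | infty => rw [h1'] at hx; exact absurd hx.symm (OnePoint.infty_ne_coe _)
    | coe v =>
      refine ⟨E.symm v, ?_⟩
      rw [hρ']
      apply Eo.injective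
      rw [Equiv.apply_symm_apply]
      simpa [hEi, hEc] using hx
  obtain ⟨p, hchar⟩ := CharP.exists (Subring.closure S)
  have hiso := ZassenhausPSL2.nonempty_mulEquiv (R := Subring.closure S) ρ'
    (fun g g' e => hA.inj ((Equiv.permCongrHom Eo.symm).injective e)) h2R ?_ ?_ ?_ ?_ ?_ ?_ hsw
  · obtain ⟨iso⟩ := hiso
    obtain ⟨p, hp, n, hn, hpn⟩ := FiniteField.card' (Subring.closure S)
    haveI := Fact.mk hn
    haveI : Fintype (GaloisField p n) := Fintype.ofFinite _
    have hcF : Fintype.card (Subring.closure S) = Fintype.card (GaloisField p n) := by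
      rw [hpn, ← Nat.card_eq_fintype_card, GaloisField.card p n n.ne_zero]
    refine ⟨GaloisField p n, inferInstance, inferInstance, ?_, ⟨iso.trans
      (PSLCard.pslEquiv (ι := Fin 2) (FiniteField.ringEquivOfCardEq hcF))⟩⟩
    rw [← hcF, hcard, hcardR]
  · obtain ⟨z, hz, hz1⟩ := hA.exists_z heven
    have h1 : χ₀ z * χ₀ z = 1 := by rw [← map_mul, hz, map_one]
    rcases mul_self_eq_one_iff.1 h1 with h | h
    · exact absurd (hχinj (h.trans (map_one χ₀).symm)) hz1
    · exact h ▸ hrangesq z
  · rw [hA.card_group heven, hcard, hcardR]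
    obtain ⟨i, hi⟩ : ∃ i, (2 * Nat.card H + 1) ^ 2 = i + 1 := ⟨_, (Nat.sub_add_cancel
      (Nat.one_le_pow _ _ (by omega))).symm⟩
    rw [hi, Nat.add_sub_cancel]
    have : i = 2 * Nat.card H * (2 * Nat.card H + 2) := by nlinarith
    rw [this]
    ring
  · intro c
    obtain ⟨g, h1, h2⟩ := hA.tr (E c)
    refine ⟨g, ?_, fun x => ?_⟩ <;> rw [hρ'] <;> apply Eo.injective <;>
      rw [Equiv.apply_symm_apply]
    · simpa [hEi, hEc] using h1
    · simpa [hEi, hEc] using h2 (E x)
  · intro s hs hsq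
    obtain ⟨h, hh⟩ := hsqrange s hs hsq
    refine ⟨h, ?_, fun x => ?_⟩ <;> rw [hρ'] <;> apply Eo.injective <;>
      rw [Equiv.apply_symm_apply]
    · simpa [hEi, hEc] using hA.lin_infty h
    · have := hA.lin h (E x)
      rw [hχ, hh] at this
      simpa [hEi, hEc] using this
  · intro g hg
    have hg' : ρ g ∞ = ∞ := by
      have := congrArg Eo hg
      rw [hρ', Equiv.apply_symm_apply] at this
      simpa [hEi, hEc] using this
    obtain ⟨h, v, hv⟩ := hA.stab g hg'
    refine ⟨χ₀ h, fun e => ?_, hrangesq h, E.symm v, fun x => ?_⟩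
    · have : χ₀ h * χ₀ h⁻¹ = 1 := by rw [← map_mul, mul_inv_cancel, map_one]
      rw [e, zero_mul] at this
      exact zero_ne_one this
    · rw [hρ']
      apply Eo.injective
      rw [Equiv.apply_symm_apply]
      have := hv (E x)
      rw [hχ] at this
      simpa [hEi, hEc] using this
  · refine ⟨t, ?_, ?_⟩ <;> rw [hρ'] <;> apply Eo.injective <;> rw [Equiv.apply_symm_apply]
    · simpa [hEi, hEc] using htinf
    · simpa [hEi, hEc] using hA.swap_zero ht htinf

end Cfsg.Agent.Zassenhaus.Affine
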