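import Mathlib
import Cfsg.Agent.Lib.ZassenhausSharp
import Cfsg.Agent.Lib.ZassenhausPSL2Three

/-!
The half-size case with two-point stabilisers of odd order is `PSL₂`.
-/

set_option autoImplicit false

open scoped OnePoint

namespace Cfsg.Agent.Zassenhaus.Affine

open MulAction

universe u

variable {G : Type u} [Group G] [Finite G] {V : Type*} [AddCommGroup V] [Finite V]
variable {ρ : G →* Equiv.Perm (OnePoint V)} {H : Subgroup G} {act : H →* AddMonoid.End V}

theorem odd_half_psl2 [Nontrivial V] (hA : Affine ρ H act) (hodd : Odd (Nat.card H))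
    (hcard : Nat.card V = 2 * Nat.card H + 1)
    (hcardG : Nat.card G = Nat.card H * ((Nat.card V + 1) * Nat.card V))
    (hcomm : ∀ h k : H, h * k = k * h)
    (hex : ∃ t, ρ t ∞ = ((0 : V) : OnePoint V) ∧ ρ t ((0 : V) : OnePoint V) = ∞)
    (hswap : ∀ t, ρ t ∞ = ((0 : V) : OnePoint V) → ρ t ((0 : V) : OnePoint V) = ∞ →
      t * t = 1 ∧ ∀ v : V, ρ t v ≠ v) :
    ∃ (F : Type) (_ : Field F) (_ : Fintype F), Fintype.card F = Nat.card V ∧
      Nonempty (G ≃* Matrix.ProjectiveSpecialLinearGroup (Fin 2) F) := by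
  classical
  have hz2 : ∀ v : V, v + v = 0 → v = 0 := fun v hv => by
    have h1 : addOrderOf v ∣ 2 := addOrderOf_dvd_of_nsmul_eq_zero (by rw [two_nsmul, hv])
    have h2 : Nat.Coprime 2 (Nat.card V) := Nat.coprime_two_left.2 ⟨Nat.card H, hcard⟩
    exact AddMonoid.addOrderOf_eq_one_iff.1
      (Nat.eq_one_of_dvd_coprimes h2 h1 (addOrderOf_dvd_natCard v))
  set S : Set (AddMonoid.End V) := Set.range act
  have hS : ∀ x ∈ S, ∀ y ∈ S, x * y = y * x := by
    rintro _ ⟨h, rfl⟩ _ ⟨k, rfl⟩
    rw [← map_mul, ← map_mul, hcomm]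
  letI : CommRing (Subring.closure S) := Subring.closureCommRingOfComm hS
  have hbij : ∀ r ∈ Subring.closure S, r ≠ 0 → Function.Bijective (r : V → V) := fun r hr hr0 =>
    bijective_of_mem_closure S S hS (fun W hW => hA.irreducible (by omega) W
      fun h x hx => hW _ ⟨h, rfl⟩ x hx) hr hr0
  obtain ⟨e₁, he₁⟩ := _root_.exists_ne (0 : V)
  let ev : Subring.closure S →+ V :=
    { toFun := fun r => (r : AddMonoid.End V) e₁
      map_zero' := rfl
      map_add' := fun _ _ => rfl }
  have hev : Function.Bijective ev := by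
    have hinj : Function.Injective ev := by
      rw [injective_iff_map_eq_zero]
      intro r hr
      by_contra hr0
      have := (hbij r r.2 (fun h => hr0 (Subtype.ext h))).1
        (hr.trans (map_zero (r : AddMonoid.End V)).symm : (r : AddMonoid.End V) e₁ = (r : AddMonoid.End V) 0)
      exact he₁ this
    refine ⟨hinj, ?_⟩
    rcases hA.irreducible (by omega) ev.range (fun h x ⟨r, hr⟩ =>
      ⟨⟨act h, Subring.subset_closure ⟨h, rfl⟩⟩ * r, by
        show act h ((r : AddMonoid.End V) e₁) = act h x
        rw [← hr]; rfl⟩) with h | h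
    · exfalso
      have h1 : ev 1 ∈ ev.range := ⟨1, rfl⟩
      rw [h, AddSubgroup.mem_bot] at h1
      exact he₁ h1
    · exact AddMonoidHom.range_eq_top.1 h
  haveI : Finite (Subring.closure S) := Finite.of_injective _ hev.1
  haveI : Nontrivial (Subring.closure S) :=
    ⟨⟨0, 1, fun h => he₁ ((congrArg ev h).symm.trans (map_zero ev))⟩⟩
  haveI : NoZeroDivisors (Subring.closure S) := ⟨fun {r s} h => by
    by_contra hc
    push Not at hc
    refine hc.2 (Subtype.ext (AddMonoidHom.ext fun v => ?_))
    exact (hbij r r.2 (fun e => hc.1 (Subtype.ext e))).1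
      ((congrArg (fun x : Subring.closure S => (x : AddMonoid.End V) v) h).trans (map_zero _).symm)⟩
  haveI : IsDomain (Subring.closure S) := NoZeroDivisors.to_isDomain _
  haveI := Fintype.ofFinite (Subring.closure S)
  letI : Field (Subring.closure S) := Fintype.fieldOfDomain _
  let E : Subring.closure S ≃+ V := AddEquiv.ofBijective ev hev
  let χ₀ : H →* Subring.closure S :=
    { toFun := fun h => ⟨act h, Subring.subset_closure ⟨h, rfl⟩⟩
      map_one' := Subtype.ext (map_one act)
      map_mul' := fun h k => Subtype.ext (map_mul act h k) }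
  have hχ : ∀ (h : H) (r : Subring.closure S), act h (E r) = E (χ₀ h * r) := fun _ _ => rfl
  have hχinj : Function.Injective χ₀ := fun h k e => hA.act_injective (congrArg Subtype.val e)
  let χ : H →* (Subring.closure S)ˣ := χ₀.toHomUnits
  have hcardR : Fintype.card (Subring.closure S) = 2 * Nat.card H + 1 := by
    rw [← hcard, ← Nat.card_eq_fintype_card]
    exact Nat.card_congr E.toEquiv
  have h2R : (2 : (Subring.closure S)) ≠ 0 := by
    intro h
    have h1 : E 1 + E 1 = 0 := by rw [← map_add, one_add_one_eq_two, h, map_zero]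
    have := hz2 _ h1
    rw [← map_zero E] at this
    exact one_ne_zero (E.injective this)
  have hχr : χ.range.index = 2 := by
    have h1 : Nat.card χ.range = Nat.card H := Nat.card_congr
      (MonoidHom.ofInjective (f := χ) fun h k e => hχinj (congrArg Units.val e)).toEquiv.symm
    have h2 := Subgroup.card_mul_index χ.range
    rw [Nat.card_units, Nat.card_eq_fintype_card (α := (Subring.closure S)), hcardR, h1] at h2
    have hpos : 0 < Nat.card H := Nat.card_pos
    exact Nat.eq_of_mul_eq_mul_left hpos (by omega)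
  have hsqrange : ∀ s : (Subring.closure S), s ≠ 0 → IsSquare s → ∃ h : H, χ₀ h = s := by
    rintro s hs ⟨r, rfl⟩
    have hr : r ≠ 0 := left_ne_zero_of_mul hs
    obtain ⟨h, hh⟩ := Subgroup.sq_mem_of_index_two hχr (Units.mk0 r hr)
    refine ⟨h, ?_⟩
    have := congrArg Units.val hh
    simpa [χ, pow_two] using this
  have hrangesq : ∀ h : H, IsSquare (χ₀ h) := by
    have hsub : ((powMonoidHom 2 : (Subring.closure S)ˣ →* (Subring.closure S)ˣ).range) ≤ χ.range := by
      rintro _ ⟨u, rfl⟩
      exact Subgroup.sq_mem_of_index_two hχr u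
    have heq : (powMonoidHom 2 : (Subring.closure S)ˣ →* (Subring.closure S)ˣ).range = χ.range := by
      refine Subgroup.eq_of_le_of_card_ge hsub ?_
      have hk : Nat.card (powMonoidHom 2 : (Subring.closure S)ˣ →* (Subring.closure S)ˣ).ker ≤ 2 := by
        have hsub2 : ((powMonoidHom 2 : (Subring.closure S)ˣ →* (Subring.closure S)ˣ).ker : Set (Subring.closure S)ˣ) ⊆ {1, -1} := by
          intro u hu
          have h1 : (u : (Subring.closure S)) * u = 1 := by
            rw [← Units.val_mul, ← pow_two, show u ^ 2 = 1 from hu, Units.val_one]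
          rcases mul_self_eq_one_iff.1 h1 with h | h
          · exact Or.inl (Units.ext h)
          · exact Or.inr (Units.ext h)
        calc Nat.card (powMonoidHom 2 : (Subring.closure S)ˣ →* (Subring.closure S)ˣ).ker
            = ((powMonoidHom 2 : (Subring.closure S)ˣ →* (Subring.closure S)ˣ).ker : Set (Subring.closure S)ˣ).ncard := Nat.card_coe_set_eq _
          _ ≤ _ := (Set.ncard_le_ncard hsub2).trans
            ((Set.ncard_insert_le _ _).trans (by rw [Set.ncard_singleton]))
      have h1 := Subgroup.card_mul_index (powMonoidHom 2 : (Subring.closure S)ˣ →* (Subring.closure S)ˣ).ker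
      rw [Subgroup.index_ker] at h1
      have h2 := Subgroup.card_mul_index χ.range
      rw [hχr, ← h1] at h2
      have := Nat.mul_le_mul_right (Nat.card (powMonoidHom 2 : (Subring.closure S)ˣ →* (Subring.closure S)ˣ).range) hk
      omega
    intro h
    have : χ h ∈ (powMonoidHom 2 : (Subring.closure S)ˣ →* (Subring.closure S)ˣ).range := heq.symm ▸ ⟨h, rfl⟩
    obtain ⟨u, hu⟩ := this
    exact ⟨u, by simpa [χ, pow_two] using (congrArg Units.val hu).symm⟩
  -- transport
  let Eo : OnePoint (Subring.closure S) ≃ OnePoint V := Equiv.optionCongr E.toEquiv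
  have hEi : Eo ∞ = ∞ := rfl
  have hEc : ∀ x : Subring.closure S, Eo x = ((E x : V) : OnePoint V) := fun x => rfl
  let ρ' : G →* Equiv.Perm (OnePoint (Subring.closure S)) := (Equiv.permCongrHom Eo.symm).toMonoidHom.comp ρ
  have hρ' : ∀ g x, ρ' g x = Eo.symm (ρ g (Eo x)) := fun g x => rfl
  have hsw : ∀ s : G, ρ' s ∞ = ((0 : (Subring.closure S)) : OnePoint (Subring.closure S)) → ρ' s ((0 : (Subring.closure S)) : OnePoint (Subring.closure S)) = ∞ →
      s * s = 1 ∧ ∀ x : (Subring.closure S), ρ' s x ≠ x := by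
    intro s h1 h2
    have h1' : ρ s ∞ = ((0 : V) : OnePoint V) := by
      have := congrArg Eo h1
      rw [hρ', Equiv.apply_symm_apply] at this
      simpa [hEi, hEc] using this
    have h2' : ρ s ((0 : V) : OnePoint V) = ∞ := by
      have := congrArg Eo h2
      rw [hρ', Equiv.apply_symm_apply] at this
      simpa [hEi, hEc] using this
    obtain ⟨hs, hfree⟩ := hswap s h1' h2'
    refine ⟨hs, fun x hx => hfree (E x) ?_⟩
    have := congrArg Eo hx
    rw [hρ', Equiv.apply_symm_apply] at this
    simpa [hEi, hEc] using this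
  have hiso := ZassenhausPSL2.nonempty_mulEquiv_three (R := Subring.closure S) ρ'
    (fun g g' e => hA.inj ((Equiv.permCongrHom Eo.symm).injective e)) h2R ?_ ?_ ?_ ?_ ?_ ?_ hsw
  · obtain ⟨iso⟩ := hiso
    obtain ⟨p, hp, n, hn, hpn⟩ := FiniteField.card' (Subring.closure S)
    haveI := Fact.mk hn
    haveI : Fintype (GaloisField p n) := Fintype.ofFinite _
    have hcF : Fintype.card (Subring.closure S) = Fintype.card (GaloisField p n) := by
      rw [hpn, ← Nat.card_eq_fintype_card, GaloisField.card p n n.ne_zero]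
    refine ⟨GaloisField p n, inferInstance, inferInstance, ?_, ⟨iso.trans
      (PSLCard.pslEquiv (ι := Fin 2) (FiniteField.ringEquivOfCardEq hcF))⟩⟩
    rw [← hcF, hcard, hcardR]
  · rintro ⟨u, hu⟩
    have hu0 : u ≠ 0 := fun h => by rw [h, mul_zero] at hu; exact neg_ne_zero.2 one_ne_zero hu
    obtain ⟨h, hh⟩ := hsqrange (u * u) (mul_ne_zero hu0 hu0) ⟨u, rfl⟩
    have h1 : χ₀ (h * h) = χ₀ 1 := by rw [map_mul, hh, ← hu, map_one, neg_mul_neg, one_mul]
    have h2 : h = 1 := by
      have := hχinj h1
      rw [← pow_two] at this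
      exact orderOf_eq_one_iff.1 (Nat.eq_one_of_dvd_coprimes (Nat.coprime_two_left.2 hodd)
        (orderOf_dvd_of_pow_eq_one this) (orderOf_dvd_natCard h))
    rw [h2, map_one, ← hu] at hh
    exact h2R (by linear_combination hh)
  · rw [hcardG, hcard, hcardR]
    obtain ⟨i, hi⟩ : ∃ i, (2 * Nat.card H + 1) ^ 2 = i + 1 := ⟨_, (Nat.sub_add_cancel
      (Nat.one_le_pow _ _ (by omega))).symm⟩
    rw [hi, Nat.add_sub_cancel]
    have : i = 2 * Nat.card H * (2 * Nat.card H + 2) := by nlinarith
    rw [this]
    ring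
  · intro c
    obtain ⟨g, h1, h2⟩ := hA.tr (E c)
    refine ⟨g, ?_, fun x => ?_⟩ <;> rw [hρ'] <;> apply Eo.injective <;>
      rw [Equiv.apply_symm_apply]
    · simpa [hEi, hEc] using h1
    · simpa [hEi, hEc] using h2 (E x)
  · intro s hs hsq
    obtain ⟨h, hh⟩ := hsqrange s hs hsq
    refine ⟨h, ?_, fun x => ?_⟩ <;> rw [hρ'] <;> apply Eo.injective <;>
      rw [Equiv.apply_symm_apply]
    · simpa [hEi, hEc] using hA.lin_infty h
    · have := hA.lin h (E x)
      rw [hχ, hh] at this
      simpa [hEi, hEc] using this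
  · intro g hg
    have hg' : ρ g ∞ = ∞ := by
      have := congrArg Eo hg
      rw [hρ', Equiv.apply_symm_apply] at this
      simpa [hEi, hEc] using this
    obtain ⟨h, v, hv⟩ := hA.stab g hg'
    refine ⟨χ₀ h, fun e => ?_, hrangesq h, E.symm v, fun x => ?_⟩
    · have : χ₀ h * χ₀ h⁻¹ = 1 := by rw [← map_mul, mul_inv_cancel, map_one]
      rw [e, zero_mul] at this
      exact zero_ne_one this
    · rw [hρ']
      apply Eo.injective
      rw [Equiv.apply_symm_apply]
      have := hv (E x)
      rw [hχ] at this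
      simpa [hEi, hEc] using this
  · obtain ⟨t, htinf, htz⟩ := hex
    refine ⟨t, ?_, ?_⟩ <;> rw [hρ'] <;> apply Eo.injective <;> rw [Equiv.apply_symm_apply]
    · simpa [hEi, hEc] using htinf
    · simpa [hEi, hEc] using htz

end Cfsg.Agent.Zassenhaus.Affine
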