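import Mathlib
import Cfsg.Agent.Lib.QuaternionOddAut
import Cfsg.Agent.Lib.PGroupsCyclic
import Cfsg.Agent.Lib.TransferAlperin

/-!
The abstract group-theoretic part of the proof that a sharply triply transitive group with an
unexpected involution structure is not simple: a group with a unique involution, central elements of
order three, cyclic centre, no quotient of order two and an almost fixed-point-free automorphism
of order two has centre of index at most twelve.
-/

set_option autoImplicit false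

namespace Cfsg.Agent.Zassenhaus

open Subgroup

/-- A subgroup of index two gives a non-trivial sign character. -/
theorem exists_hom_of_index_two {H : Type*} [Group H] {K : Subgroup H} (h : K.index = 2) :
    ∃ χ : H →* ℤˣ, ∃ x, χ x ≠ 1 := by
  classical
  refine ⟨
    { toFun := fun x => if x ∈ K then 1 else -1
      map_one' := if_pos K.one_mem
      map_mul' := fun a b => by
        simp only [Subgroup.mul_mem_iff_of_index_two h]
        by_cases ha : a ∈ K <;> by_cases hb : b ∈ K <;> simp [ha, hb] }, ?_⟩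
  obtain ⟨x, hx⟩ : ∃ x, x ∉ K := by
    by_contra hc
    push Not at hc
    rw [show K = ⊤ from eq_top_iff.2 fun x _ => hc x, index_top] at h
    exact absurd h (by norm_num)
  exact ⟨x, by simp [hx]⟩

/-- A group with a non-trivial two-group quotient has a non-trivial sign character. -/
theorem exists_hom_of_index_pow {H : Type*} [Group H] [Finite H] (N : Subgroup H) [N.Normal]
    {k : ℕ} (h : N.index = 2 ^ (k + 1)) : ∃ χ : H →* ℤˣ, ∃ x, χ x ≠ 1 := by
  haveI : Fact (Nat.Prime 2) := ⟨Nat.prime_two⟩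
  have hq : Nat.card (H ⧸ N) = 2 ^ (k + 1) := h
  obtain ⟨M, hM⟩ := Sylow.exists_subgroup_card_pow_prime 2 (G := H ⧸ N) (n := k)
    (by rw [hq]; exact pow_dvd_pow 2 k.le_succ)
  refine exists_hom_of_index_two (K := M.comap (QuotientGroup.mk' N)) ?_
  rw [index_comap_of_surjective _ (QuotientGroup.mk'_surjective N)]
  have := card_mul_index M
  rw [hq, hM, pow_succ] at this
  exact Nat.eq_of_mul_eq_mul_left (by positivity) this

/-- An involutory map of a finite group without fixed points on an invariant subgroup inverts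
it. -/
theorem inverts_of_fixed {H : Type*} [Group H] [Finite H] (φ : H →* H) (h2 : ∀ h, φ (φ h) = h)
    {O : Subgroup H} (hO : ∀ o ∈ O, φ o ∈ O) (hfix : ∀ o ∈ O, φ o = o → o = 1) {o : H}
    (ho : o ∈ O) : φ o = o⁻¹ := by
  let f : O → O := fun x => ⟨(x : H)⁻¹ * φ x, O.mul_mem (O.inv_mem x.2) (hO _ x.2)⟩
  have hinj : Function.Injective f := by
    intro a b e
    have e' : (a : H)⁻¹ * φ a = (b : H)⁻¹ * φ b := congrArg Subtype.val e
    refine Subtype.ext (mul_inv_eq_one.1 (hfix _ (O.mul_mem a.2 (O.inv_mem b.2)) ?_))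
    rw [map_mul, map_inv]
    calc φ a * (φ b)⁻¹ = a * ((a : H)⁻¹ * φ a) * (φ b)⁻¹ := by group
      _ = a * ((b : H)⁻¹ * φ b) * (φ b)⁻¹ := by rw [e']
      _ = a * (b : H)⁻¹ := by group
  obtain ⟨x, hx⟩ := (Finite.injective_iff_surjective.1 hinj) ⟨o, ho⟩
  have hx' : (x : H)⁻¹ * φ x = o := congrArg Subtype.val hx
  rw [← hx', map_mul, map_inv, h2, mul_inv_rev, inv_inv]

variable {H : Type*} [Group H] [Finite H]

/-- A two-subgroup of a group with a unique involution: odd elements normalising it centralise it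
up to cubes, and centralise it unless it has order eight. -/
theorem cube_centralizes {z : H} (huniq : ∀ h : H, h * h = 1 → h ≠ 1 → h = z) {Q : Subgroup H}
    (hQ : IsPGroup 2 Q) {g : H} (hg : g ∈ normalizer (Q : Set H)) (hodd : Odd (orderOf g)) :
    g ^ 3 ∈ centralizer (Q : Set H) ∧ (g ∉ centralizer (Q : Set H) → Nat.card Q = 8) := by
  haveI : Fact (Nat.Prime 2) := ⟨Nat.prime_two⟩
  let φ : MulAut Q := Q.normalizerMonoidHom ⟨g, hg⟩
  have hφ : ∀ n : ℕ, φ ^ n = 1 → g ^ n ∈ centralizer (Q : Set H) := by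
    intro n hn
    have h1 : (⟨g, hg⟩ : normalizer (Q : Set H)) ^ n ∈ Q.normalizerMonoidHom.ker := by
      rw [MonoidHom.mem_ker, map_pow]
      exact hn
    rw [normalizerMonoidHom_ker, mem_subgroupOf] at h1
    simpa using h1
  have hφodd : Odd (orderOf φ) := by
    refine hodd.of_dvd_nat ?_
    have h1 := orderOf_map_dvd Q.normalizerMonoidHom ⟨g, hg⟩
    rwa [Subgroup.orderOf_mk] at h1
  have hsub : ∀ A : Subgroup Q, Nat.card A = 2 → ∀ x : Q, x ∈ A ↔ x = 1 ∨ (x : H) = z := by
    intro A hA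
    obtain ⟨a, ha, hA'⟩ : ∃ a : Q, a ∈ A ∧ (a : H) = z := by
      obtain ⟨a, ha⟩ := exists_prime_orderOf_dvd_card' (G := A) 2 (by rw [hA])
      have h1 : a ^ 2 = 1 := by rw [← ha]; exact pow_orderOf_eq_one a
      refine ⟨a, a.2, huniq _ ?_ ?_⟩
      · have := congrArg (fun x : A => ((x : Q) : H)) h1
        simpa [pow_two] using this
      · intro e
        rw [show a = 1 from Subtype.ext (Subtype.ext e), orderOf_one] at ha
        exact absurd ha (by norm_num)
    intro x
    constructor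
    · intro hx
      by_cases h1 : x = 1
      · exact Or.inl h1
      refine Or.inr (huniq _ ?_ (fun e => h1 (Subtype.ext e)))
      have : (⟨x, hx⟩ : A) ^ 2 = 1 := by rw [← hA]; exact pow_card_eq_one'
      have := congrArg (fun x : A => ((x : Q) : H)) this
      simpa [pow_two] using this
    · rintro (rfl | h)
      · exact one_mem _
      · rwa [show x = a from Subtype.ext (h.trans hA'.symm)]
  rcases PGroupsCyclic.isCyclic_or_quaternion hQ (fun A B hA hB => by
      ext x
      rw [hsub A hA, hsub B hB]) with hc | ⟨-, m, ⟨e⟩⟩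
  · haveI := hc
    obtain ⟨k, hk⟩ := hQ.exists_card_eq
    have h1 : φ = 1 := by
      rw [← orderOf_eq_one_iff]
      have hd : orderOf φ ∣ Nat.card (MulAut Q) := orderOf_dvd_natCard φ
      rw [hc.card_mulAut, hk] at hd
      rcases Nat.eq_zero_or_pos k with rfl | h0
      · simpa using hd
      · rw [Nat.totient_prime_pow Nat.prime_two h0] at hd
        norm_num at hd
        obtain ⟨j, -, hj⟩ := (Nat.dvd_prime_pow Nat.prime_two).1 hd
        rcases j with _ | j
        · simpa using hj
        · rw [hj] at hφodd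
          exact absurd hφodd (Nat.not_odd_iff_even.2 ⟨2 ^ j, by ring⟩)
    refine ⟨hφ 3 (by rw [h1, one_pow]), fun hn => absurd ?_ hn⟩
    simpa using hφ 1 (by rw [h1, one_pow])
  · obtain ⟨h3, hne⟩ := QuaternionOddAut.main e hφodd
    refine ⟨hφ 3 h3, fun hn => ?_⟩
    have hm : m = 1 := by
      by_contra hm
      exact hn (by simpa using hφ 1 (by rw [hne hm, one_pow]))
    subst hm
    rw [Nat.card_congr e.toEquiv, Nat.card_eq_fintype_card, QuaternionGroup.card]
    norm_num

/-- If the elements of order three are central and the centre is cyclic, a Sylow three-subgroup is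
cyclic and central in its normaliser. -/
theorem sylow_three [Fact (Nat.Prime 3)] (hcen : IsCyclic (center H))
    (h3 : ∀ u : H, u ^ 3 = 1 → u ∈ center H) (L : Sylow 3 H) :
    IsCyclic L ∧ normalizer (L : Set H) ≤ centralizer (L : Set H) := by
  have hcyc : IsCyclic L := by
    refine (PGroupsCyclic.isCyclic_or_quaternion L.isPGroup' fun A B hA hB => ?_).resolve_right
      (by norm_num)
    have key : ∀ A : Subgroup L, Nat.card A = 3 → A.map (L : Subgroup H).subtype ≤ center H := by
      intro A hA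
      rintro _ ⟨x, hx, rfl⟩
      refine h3 _ ?_
      rw [← map_pow]
      have : (⟨x, hx⟩ : A) ^ 3 = 1 :=
        (congrArg ((⟨x, hx⟩ : A) ^ ·) hA).symm.trans pow_card_eq_one'
      exact (congrArg _ (congrArg Subtype.val this : x ^ 3 = 1)).trans (map_one _)
    have e : ∀ A : Subgroup L, Nat.card (A.map (L : Subgroup H).subtype) = Nat.card A :=
      fun A => card_map_of_injective (L : Subgroup H).subtype_injective
    exact map_injective (L : Subgroup H).subtype_injective
      (PGroupsCyclic.eq_of_card_eq_of_isCyclic hcen (key A hA) (key B hB)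
        (by rw [e, e, hA, hB]))
  refine ⟨hcyc, fun g hg => ?_⟩
  haveI := hcyc
  obtain ⟨k, hk⟩ := L.isPGroup'.exists_card_eq
  let φ : MulAut L := (L : Subgroup H).normalizerMonoidHom ⟨g, hg⟩
  have hmem : ∀ x : L, (φ x : H) = g * x * g⁻¹ := fun x => rfl
  suffices h : φ = 1 by
    have h1 : (⟨g, hg⟩ : normalizer (L : Set H)) ∈ (L : Subgroup H).normalizerMonoidHom.ker := h
    rw [normalizerMonoidHom_ker, mem_subgroupOf] at h1
    exact h1
  -- the order of `φ` is prime to three
  have hcop : Nat.Coprime (orderOf φ) 3 := by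
    have key := card_dvd_of_injective _
      (QuotientGroup.kerLift_injective (L : Subgroup H).normalizerMonoidHom)
    have h1 : orderOf φ ∣ (L : Subgroup H).normalizerMonoidHom.ker.index := by
      rw [index_ker]
      exact (orderOf_mk (H := (L : Subgroup H).normalizerMonoidHom.range) φ ⟨_, rfl⟩) ▸
        orderOf_dvd_natCard _
    rw [normalizerMonoidHom_ker, ← relIndex] at h1
    have h2 := h1.trans ((relIndex_dvd_of_le_left _ L.le_centralizer).trans
      (relIndex_dvd_index_of_le L.le_normalizer))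
    rw [Nat.coprime_comm, Nat.Prime.coprime_iff_not_dvd Fact.out]
    exact fun h => L.not_dvd_index (h.trans h2)
  have hsq : φ ^ 2 = 1 := by
    rw [← orderOf_dvd_iff_pow_eq_one]
    have hd : orderOf φ ∣ Nat.card (MulAut L) := orderOf_dvd_natCard φ
    rw [hcyc.card_mulAut, hk] at hd
    rcases Nat.eq_zero_or_pos k with rfl | h0
    · exact (by simpa using hd : orderOf φ = 1) ▸ one_dvd _
    · rw [Nat.totient_prime_pow Fact.out h0] at hd
      exact (Nat.Coprime.pow_right _ hcop).dvd_of_dvd_mul_left hd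
  haveI : IsMulCommutative L := hcyc.isMulCommutative
  refine MulEquiv.ext fun x => ?_
  show φ x = x
  by_contra hne
  set w : L := x⁻¹ * φ x with hw
  have hw1 : w ≠ 1 := fun e => hne (inv_mul_eq_one.1 e).symm
  have hφw : φ w = w⁻¹ := by
    have : φ (φ x) = x := by
      rw [← MulAut.mul_apply, ← pow_two, hsq]
      rfl
    rw [hw, map_mul, map_inv, this, mul_inv_rev, inv_inv]
  obtain ⟨j, hj⟩ := L.isPGroup' w
  classical
  have hex : ∃ j, w ^ (3 ^ j) = 1 := ⟨j, hj⟩
  obtain ⟨i, hi⟩ : ∃ i, Nat.find hex = i + 1 := Nat.exists_eq_succ_of_ne_zero fun e => hw1 (by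
    simpa [e] using Nat.find_spec hex)
  set v : L := w ^ (3 ^ i) with hv
  have hv1 : v ≠ 1 := fun e => Nat.find_min hex (by omega : i < Nat.find hex) e
  have hv3 : v ^ 3 = 1 := by
    rw [hv, ← pow_mul, ← pow_succ, ← hi]
    exact Nat.find_spec hex
  have hfix : φ v = v := Subtype.ext (by
    rw [hmem, mem_center_iff.1 (h3 v (by rw [← SubmonoidClass.coe_pow, hv3]; rfl)) g]
    group)
  have hinv : φ v = v⁻¹ := by rw [hv, map_pow, hφw, inv_pow]
  rw [hfix, eq_inv_iff_mul_eq_one, ← pow_two] at hinv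
  refine hv1 ?_
  calc v = v ^ 3 * (v ^ 2)⁻¹ := by group
    _ = 1 := by rw [hv3, hinv]; group

/-- Main group-theoretic bound. -/
theorem nearfield_group_bound {z : H} (hz2 : z * z = 1) (hz1 : z ≠ 1)
    (huniq : ∀ h : H, h * h = 1 → h ≠ 1 → h = z) (τ : H →* H) (hτ : ∀ h, τ (τ h) = h)
    (hJ : Subgroup.closure {j : H | τ j = j⁻¹} = ⊤)
    (hfix : ∀ j : H, τ j = j⁻¹ → ∀ h : H, j⁻¹ * τ h * j = h → h = 1 ∨ h = z)
    (h3 : ∀ u : H, u ^ 3 = 1 → u ∈ center H) (hcen : IsCyclic (center H))
    (hno : ∀ χ : H →* ℤˣ, ∀ x, χ x = 1) :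
    72 ∣ Nat.card H ∧ Nat.card H ≤ 12 * Nat.card (center H) ∧ 6 ≤ Nat.card (center H) ∧
      center H ≠ ⊤ := by
  haveI : Fact (Nat.Prime 2) := ⟨Nat.prime_two⟩
  haveI : Fact (Nat.Prime 3) := ⟨Nat.prime_three⟩
  have hzc : z ∈ center H := mem_center_iff.2 fun g => by
    have e : g * z * g⁻¹ = z := huniq _ (by
      calc g * z * g⁻¹ * (g * z * g⁻¹) = g * (z * z) * g⁻¹ := by group
        _ = 1 := by rw [hz2]; group) (fun e => hz1 (conj_eq_one_iff.1 e))
    calc g * z = g * z * g⁻¹ * g := by group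
      _ = z * g := by rw [e]
  have hzo : orderOf z = 2 := orderOf_eq_prime (by rw [pow_two]; exact hz2) hz1
  have hnn : ¬ Cfsg.HasNormalPComplement 2 H := by
    rintro ⟨P, N, hN, hc⟩
    obtain ⟨k, hk⟩ := P.isPGroup'.exists_card_eq
    rcases k with _ | k
    · have h1 := P.dvd_card_of_dvd_card (hzo ▸ orderOf_dvd_natCard z)
      rw [hk] at h1
      norm_num at h1
    · obtain ⟨χ, x, hx⟩ := exists_hom_of_index_pow N (k := k) (by
        rw [hc.symm.index_eq_card, hk])
      exact hx (hno χ x)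
  obtain ⟨P⟩ : Nonempty (Sylow 2 H) := inferInstance
  obtain ⟨Q, hQP, g, hgN, hgodd, hgC⟩ : ∃ Q : Subgroup H, Q ≤ P ∧ ∃ g ∈ normalizer (Q : Set H),
      Odd (orderOf g) ∧ g ∉ centralizer (Q : Set H) := by
    by_contra hc
    push Not at hc
    exact hnn ((TransferAlperin.hasNormalPComplement_iff_centralizer P).2 fun Q hQ g hg hcop =>
      hc Q hQ g hg (Nat.coprime_two_right.1 hcop))
  have hQ : IsPGroup 2 Q := P.isPGroup'.to_le hQP
  obtain ⟨hg3, hQ8⟩ := cube_centralizes huniq hQ hgN hgodd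
  -- an element of order nine
  have h9 : 9 ∣ orderOf g := by
    have hd3 : 3 ∣ orderOf g := by
      by_contra hc
      have hcop : Nat.Coprime 3 (orderOf g) := (Nat.prime_three.coprime_iff_not_dvd).2 hc
      obtain ⟨n, hn⟩ := exists_pow_eq_self_of_coprime hcop
      exact hgC (hn ▸ pow_mem hg3 n)
    obtain ⟨m, hm⟩ := hd3
    by_contra hc
    have hcop : Nat.Coprime 3 m := (Nat.prime_three.coprime_iff_not_dvd).2
      fun ⟨c, e⟩ => hc ⟨c, by rw [hm, e]; ring⟩
    have hu : g ^ m ∈ centralizer (Q : Set H) := by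
      refine center_le_centralizer _ (h3 _ ?_)
      rw [← pow_mul, mul_comm, ← hm, pow_orderOf_eq_one]
    obtain ⟨a, b, hab⟩ := Int.isCoprime_iff_gcd_eq_one.2 (by exact_mod_cast hcop : Int.gcd 3 m = 1)
    refine hgC ?_
    have : g = (g ^ 3) ^ a * (g ^ m) ^ b := by
      rw [← zpow_natCast g m, ← zpow_natCast g 3, ← zpow_mul, ← zpow_mul, ← zpow_add]
      conv_lhs => rw [← zpow_one g, ← hab]
      congr 1
      push_cast
      ring
    rw [this]
    exact mul_mem (zpow_mem hg3 a) (zpow_mem hu b)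
  -- the normal three-complement
  obtain ⟨L⟩ : Nonempty (Sylow 3 H) := inferInstance
  obtain ⟨hLcyc, hLN⟩ := sylow_three hcen h3 L
  set N3 : Subgroup H := (MonoidHom.transferSylow L hLN).ker
  have hN3L : N3.IsComplement' (L : Subgroup H) := MonoidHom.ker_transferSylow_isComplement' L hLN
  have hN3 : ¬ 3 ∣ Nat.card N3 := MonoidHom.not_dvd_card_ker_transferSylow L hLN
  obtain ⟨b, hb⟩ := L.isPGroup'.exists_card_eq
  have hcard3 : Nat.card N3 * 3 ^ b = Nat.card H := by rw [← hb]; exact hN3L.card_mul_card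
  have hmem3 : ∀ h : H, h ∈ N3 ↔ Nat.Coprime (orderOf h) 3 := by
    intro h
    constructor
    · intro hh
      rw [Nat.coprime_comm, Nat.prime_three.coprime_iff_not_dvd]
      exact fun hd => hN3 (hd.trans (orderOf_mk h hh ▸ orderOf_dvd_natCard (⟨h, hh⟩ : N3)))
    · intro hh
      rw [MonoidHom.mem_ker, ← orderOf_eq_one_iff]
      exact Nat.eq_one_of_dvd_coprimes (hh.pow_right b) (orderOf_map_dvd _ h)
        (hb ▸ orderOf_dvd_natCard _)
  have hR3 : ∀ R : Sylow 2 H, (R : Subgroup H) ≤ N3 := fun R x hx => (hmem3 x).2 (by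
    obtain ⟨i, hi⟩ := R.isPGroup' ⟨x, hx⟩
    have hd : orderOf x ∣ 2 ^ i := orderOf_dvd_of_pow_eq_one (congrArg Subtype.val hi)
    exact (Nat.Coprime.pow_left i (by norm_num)).coprime_dvd_left hd)
  have hP3 := hR3 P
  have hn2 : Cfsg.HasNormalPComplement 2 N3 := by
    obtain ⟨P'⟩ : Nonempty (Sylow 2 N3) := inferInstance
    refine (TransferAlperin.hasNormalPComplement_iff_centralizer P').2 fun T hT y hy hcop => ?_
    have hT' : IsPGroup 2 (T.map N3.subtype) := (P'.isPGroup'.to_le hT).map _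
    have hy' : (y : H) ∈ normalizer ((T.map N3.subtype : Subgroup H) : Set H) :=
      le_normalizer_map N3.subtype ⟨y, hy, rfl⟩
    have hodd : Odd (orderOf (y : H)) := by
      rw [Subgroup.orderOf_coe]
      exact Nat.coprime_two_right.1 hcop
    obtain ⟨n, hn⟩ := exists_pow_eq_self_of_coprime ((hmem3 _).1 y.2).symm
    have hyc : (y : H) ∈ centralizer ((T.map N3.subtype : Subgroup H) : Set H) :=
      hn ▸ pow_mem (cube_centralizes huniq hT' hy' hodd).1 n
    exact mem_centralizer_iff.2 fun t ht =>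
      Subtype.ext (mem_centralizer_iff.1 hyc _ (mem_map_of_mem N3.subtype ht))
  obtain ⟨P', N, hN, hc⟩ := hn2
  have hfac : (Nat.card N3).factorization 2 = (Nat.card H).factorization 2 := by
    rw [← hcard3, Nat.factorization_mul Nat.card_pos.ne' (by positivity), Finsupp.add_apply,
      Nat.prime_three.factorization_pow, Finsupp.single_apply, if_neg (by norm_num), add_zero]
  have hP' : Nat.card P' = Nat.card P := by
    rw [P'.card_eq_multiplicity, P.card_eq_multiplicity, hfac]
  have hcardN : Nat.card N * Nat.card P = Nat.card N3 := hP' ▸ hc.card_mul_card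
  have hNodd : ¬ 2 ∣ Nat.card N := hc.index_eq_card ▸ P'.not_dvd_index
  set O : Subgroup H := N.map N3.subtype
  have hOcard : Nat.card O = Nat.card N := card_map_of_injective N3.subtype_injective
  have hmemO : ∀ h : H, h ∈ O ↔ Nat.Coprime (orderOf h) 2 ∧ Nat.Coprime (orderOf h) 3 := by
    intro h
    constructor
    · rintro ⟨x, hx, rfl⟩
      refine ⟨?_, (hmem3 _).1 x.2⟩
      rw [Nat.coprime_comm, Nat.prime_two.coprime_iff_not_dvd]
      intro hd
      refine hNodd (hd.trans ?_)
      show orderOf (x : H) ∣ _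
      rw [Subgroup.orderOf_coe, ← orderOf_mk x hx]
      exact orderOf_dvd_natCard _
    · rintro ⟨h2', h3'⟩
      refine ⟨⟨h, (hmem3 h).2 h3'⟩, ?_, rfl⟩
      rw [SetLike.mem_coe, ← QuotientGroup.eq_one_iff, ← orderOf_eq_one_iff]
      obtain ⟨i, hi⟩ := P'.isPGroup'.exists_card_eq
      refine Nat.eq_one_of_dvd_coprimes (h2'.pow_right i) ?_ ?_
      · exact (orderOf_map_dvd (QuotientGroup.mk' N) ⟨h, _⟩).trans (orderOf_mk h _).dvd
      · exact (_root_.orderOf_dvd_natCard _).trans (dvd_of_eq (by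
          rw [← index, hc.symm.index_eq_card, hi]))
  -- `O` is central
  have hOc : O ≤ center H := by
    have key : ∀ j : H, τ j = j⁻¹ → ∀ o ∈ O, j⁻¹ * τ o * j = o⁻¹ := by
      intro j hj o ho
      let φ : H →* H := (MulAut.conj j⁻¹).toMonoidHom.comp τ
      have hφ : ∀ h, φ h = j⁻¹ * τ h * j := fun h => by simp [φ]
      rw [← hφ]
      refine inverts_of_fixed φ (fun h => ?_) (fun x hx => ?_) (fun x hx e => ?_) ho
      · rw [hφ, hφ, map_mul, map_mul, map_inv, hj, hτ]
        group
      · rw [hmemO] at hx ⊢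
        have h1 : orderOf (φ x) ∣ orderOf x := orderOf_map_dvd φ x
        exact ⟨hx.1.coprime_dvd_left h1, hx.2.coprime_dvd_left h1⟩
      · refine (hfix j hj x (hφ x ▸ e)).resolve_right fun e' => ?_
        have := ((hmemO x).1 hx).1
        rw [e', hzo] at this
        exact absurd this (by norm_num)
    intro o ho
    rw [mem_center_iff]
    intro x
    have h1 : τ o = o⁻¹ := by simpa using key 1 (by rw [map_one, inv_one]) o ho
    have hle : Subgroup.closure {j : H | τ j = j⁻¹} ≤ centralizer {o} := by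
      rw [closure_le]
      intro j hj
      rw [SetLike.mem_coe, mem_centralizer_singleton_iff]
      have h2 := key j hj o ho
      rw [h1] at h2
      have h4 : o⁻¹ * j = j * o⁻¹ := by
        calc o⁻¹ * j = j * (j⁻¹ * o⁻¹ * j) := by group
          _ = j * o⁻¹ := by rw [h2]
      exact (Commute.inv_left_iff.1 (h4 : Commute o⁻¹ j)).symm
    rw [hJ] at hle
    exact mem_centralizer_singleton_iff.1 (hle (mem_top x))
  -- the Sylow two-subgroup is normal
  have hNP : N3 ≤ normalizer (P : Set H) := by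
    have h1 : O ≤ normalizer (P : Set H) ⊓ N3 := by
      refine le_inf (hOc.trans fun x hx => ?_) (map_subtype_le N)
      exact centralizer_le_normalizer _ (center_le_centralizer _ hx)
    have h2 : (P : Subgroup H) ≤ normalizer (P : Set H) ⊓ N3 := le_inf P.le_normalizer hP3
    obtain ⟨i, hi⟩ := P.isPGroup'.exists_card_eq
    have hcop : Nat.Coprime (Nat.card O) (Nat.card P) := by
      rw [hOcard, hi]
      exact Nat.Coprime.pow_right i ((Nat.prime_two.coprime_iff_not_dvd.2 hNodd).symm)
    have h3 : Nat.card N3 ∣ Nat.card (normalizer (P : Set H) ⊓ N3 : Subgroup H) := by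
      rw [← hcardN, ← hOcard]
      exact hcop.mul_dvd_of_dvd_of_dvd (card_dvd_of_le h1) (card_dvd_of_le h2)
    have h4 := eq_of_le_of_card_ge (inf_le_right : normalizer (P : Set H) ⊓ N3 ≤ N3)
      (Nat.le_of_dvd Nat.card_pos h3)
    exact h4 ▸ inf_le_left
  have hPnorm : ∀ h : H, h ∈ normalizer (P : Set H) := by
    intro h
    rw [← Sylow.smul_eq_iff_mem_normalizer]
    have hle : ((h • P : Sylow 2 H) : Subgroup H) ≤ normalizer (P : Set H) :=
      (hR3 _).trans hNP
    have e := P.is_maximal' (IsPGroup.to_sup_of_normal_right' (h • P).isPGroup' P.isPGroup' hle)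
      le_sup_right
    exact Sylow.ext ((h • P).is_maximal' P.isPGroup' (e ▸ le_sup_left)).symm
  have hP8 : Nat.card P = 8 := (cube_centralizes huniq P.isPGroup' (hPnorm g) hgodd).2
    fun h => hgC (mem_centralizer_iff.2 fun t ht => mem_centralizer_iff.1 h t (hQP ht))
  -- counting
  obtain ⟨l, hl⟩ := hLcyc.exists_generator
  have hlo : orderOf (l : H) = 3 ^ b := by
    rw [Subgroup.orderOf_coe, orderOf_eq_card_of_forall_mem_zpowers hl, hb]
  have h9' : 9 ∣ Nat.card H := h9.trans (orderOf_dvd_natCard g)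
  have hb2 : 2 ≤ b := by
    have h1 : 9 ∣ 3 ^ b := by
      rw [← hcard3] at h9'
      exact (Nat.Coprime.pow_left 2 ((Nat.prime_three.coprime_iff_not_dvd).2 hN3)).dvd_of_dvd_mul_left
        h9'
    rwa [show (9 : ℕ) = 3 ^ 2 from rfl, Nat.pow_dvd_pow_iff_le_right (by norm_num)] at h1
  have hl3c : (l : H) ^ 3 ∈ center H := by
    have hlodd : Odd (orderOf (l : H)) := hlo ▸ (by decide : Odd 3).pow
    have hCP : (P : Subgroup H) ≤ centralizer {(l : H) ^ 3} := by
      intro x hx
      rw [mem_centralizer_singleton_iff]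
      exact mem_centralizer_iff.1 (cube_centralizes huniq P.isPGroup' (hPnorm l) hlodd).1 x hx
    have hCL : (L : Subgroup H) ≤ centralizer {(l : H) ^ 3} := by
      intro x hx
      rw [mem_centralizer_singleton_iff]
      haveI := hLcyc
      haveI : IsMulCommutative L := hLcyc.isMulCommutative
      exact congrArg Subtype.val (mul_comm' (⟨x, hx⟩ : L) (l ^ 3))
    have hCO : O ≤ centralizer {(l : H) ^ 3} := hOc.trans (center_le_centralizer _)
    have hc1 : Nat.Coprime (Nat.card O) (Nat.card P) := by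
      rw [hP8, hOcard]
      exact Nat.Coprime.pow_right 3 ((Nat.prime_two.coprime_iff_not_dvd.2 hNodd).symm)
    have hc2 : Nat.Coprime (Nat.card O * Nat.card P) (Nat.card L) := by
      rw [hOcard, hcardN, hb]
      exact Nat.Coprime.pow_right b ((Nat.prime_three.coprime_iff_not_dvd.2 hN3).symm)
    have hd := hc2.mul_dvd_of_dvd_of_dvd
      (hc1.mul_dvd_of_dvd_of_dvd (card_dvd_of_le hCO) (card_dvd_of_le hCP)) (card_dvd_of_le hCL)
    rw [hOcard, hcardN, hb, hcard3] at hd
    have htop : centralizer {(l : H) ^ 3} = (⊤ : Subgroup H) :=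
      eq_top_of_le_card _ (Nat.le_of_dvd Nat.card_pos hd)
    exact mem_center_iff.2 fun x => mem_centralizer_singleton_iff.1 (htop ▸ mem_top x)
  have hl3o : orderOf ((l : H) ^ 3) = 3 ^ (b - 1) := by
    rw [orderOf_pow' _ (by norm_num), hlo]
    obtain ⟨c, rfl⟩ : ∃ c, b = c + 1 := ⟨b - 1, by omega⟩
    rw [Nat.gcd_eq_right (dvd_pow_self 3 (by omega)), Nat.add_sub_cancel, pow_succ,
      Nat.mul_div_cancel _ (by norm_num)]
  have hZd : Nat.card N * 2 * 3 ^ (b - 1) ∣ Nat.card (center H) := by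
    refine Nat.Coprime.mul_dvd_of_dvd_of_dvd ?_ (Nat.Coprime.mul_dvd_of_dvd_of_dvd ?_ ?_ ?_) ?_
    · refine Nat.Coprime.pow_right _ (Nat.Coprime.mul_left ?_ (by norm_num))
      exact (Nat.prime_three.coprime_iff_not_dvd.2 fun hd =>
        hN3 (hd.trans ⟨_, hcardN.symm⟩)).symm
    · exact (Nat.prime_two.coprime_iff_not_dvd.2 hNodd).symm
    · exact hOcard ▸ card_dvd_of_le hOc
    · exact hzo ▸ orderOf_mk z hzc ▸ orderOf_dvd_natCard _
    · exact hl3o ▸ orderOf_mk _ hl3c ▸ orderOf_dvd_natCard _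
  have hH : Nat.card H = Nat.card N * 8 * 3 ^ b := by rw [← hcard3, ← hcardN, hP8]
  have hN0 : 0 < Nat.card N := Nat.card_pos
  refine ⟨?_, ?_, ?_, ?_⟩
  · rw [hH, show (72 : ℕ) = 8 * 3 ^ 2 from rfl]
    exact Nat.mul_dvd_mul ⟨Nat.card N, by ring⟩ (pow_dvd_pow 3 hb2)
  · calc Nat.card H = 12 * (Nat.card N * 2 * 3 ^ (b - 1)) := by
          obtain ⟨c, rfl⟩ : ∃ c, b = c + 1 := ⟨b - 1, by omega⟩
          rw [hH, Nat.add_sub_cancel, pow_succ]
          ring
      _ ≤ _ := Nat.mul_le_mul_left _ (Nat.le_of_dvd Nat.card_pos hZd)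
  · refine le_trans ?_ (Nat.le_of_dvd Nat.card_pos hZd)
    have : 3 ^ 1 ≤ 3 ^ (b - 1) := Nat.pow_le_pow_right (by norm_num) (by omega)
    calc 6 = 1 * 2 * 3 ^ 1 := rfl
      _ ≤ _ := Nat.mul_le_mul (Nat.mul_le_mul hN0 le_rfl) this
  · intro htop
    refine hgC (mem_centralizer_iff.2 fun t _ => ?_)
    exact mem_center_iff.1 (htop ▸ mem_top g) t

end Cfsg.Agent.Zassenhaus
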