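import Mathlib
import Cfsg.Agent.Lib.ZassenhausSharp
import Cfsg.Agent.Lib.ZassenhausNearfieldGroup

/-!
A sharply triply transitive group in which every involution has a fixed point has a quotient of
order two.
-/

set_option autoImplicit false

open scoped OnePoint

namespace Cfsg.Agent.Zassenhaus.Affine

open MulAction

universe u

variable {G : Type u} [Group G] [Finite G] {V : Type*} [AddCommGroup V] [Finite V]
variable {ρ : G →* Equiv.Perm (OnePoint V)} {H : Subgroup G} {act : H →* AddMonoid.End V}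
variable (hA : Affine ρ H act) (heven : Even (Nat.card H))
  (hnf : ∀ g : G, g * g = 1 → g ≠ 1 → ∃ x, ρ g x = x)
include hA heven hnf

omit hnf in
lemma fix_z [Nontrivial V] {z : H} (hz : z * z = 1) (hz1 : z ≠ 1) {x : OnePoint V}
    (hx : ρ z x = x) : x = ∞ ∨ x = ((0 : V) : OnePoint V) := by
  cases x with
  | infty => exact Or.inl rfl
  | coe v =>
    rw [hA.lin, hA.act_involution heven hz hz1] at hx
    have h := OnePoint.coe_injective hx
    rw [neg_eq_iff_add_eq_zero] at h
    exact Or.inr (by rw [hA.eq_zero_of_add_self heven h])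

lemma swap_fixed [Nontrivial V] {t : G} (ht : t * t = 1)
    (htinf : ρ t ∞ = ((0 : V) : OnePoint V)) {h : H} (hc : t * h * t = h) :
    h * h = 1 := by
  have ht1 : t ≠ 1 := fun e => by
    rw [e, rho_one] at htinf
    exact OnePoint.infty_ne_coe _ htinf
  have h0 := hA.swap_zero ht htinf
  obtain ⟨x, y, hxy, hx, hy, hF⟩ := hA.fix_exactly_two heven hnf t ht ht1
  have hcomm : ∀ v, ρ t v = v → ρ t (ρ (h : G) v) = ρ (h : G) v := by
    intro v hv
    rw [← rho_mul]
    have : t * h = h * t := by
      calc t * (h : G) = t * h * (t * t) := by rw [ht, mul_one]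
        _ = (t * h * t) * t := by group
        _ = h * t := by rw [hc]
    rw [this, rho_mul, hv]
  have hhx : ρ ((h * h : H) : G) x = x := by
    rw [Subgroup.coe_mul, rho_mul]
    rcases hF _ (hcomm x hx) with e | e
    · rw [e, e]
    · rw [e]
      rcases hF _ (hcomm y hy) with e' | e'
      · exact e'
      · exact absurd ((ρ (h : G)).injective (e.trans e'.symm)) hxy
  refine Subtype.ext (hA.three _ ∞ ((0 : V) : OnePoint V) x (OnePoint.infty_ne_coe _) ?_ ?_
    (hA.lin_infty _) ((hA.mem _).1 (h * h).2).2 hhx)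
  · rintro rfl
    rw [h0] at hx
    exact OnePoint.infty_ne_coe _ hx
  · rintro rfl
    rw [htinf] at hx
    exact OnePoint.infty_ne_coe _ hx.symm

omit hnf heven [Finite G] [Finite V] in
lemma three_sum {w : H} (hw : w ^ 3 = 1) (h1 : w ≠ 1) (v : V) :
    v + act w v + act (w * w) v = 0 := by
  by_contra hne
  refine h1 (hA.free hne ?_)
  have e : act w (act w v) = act (w * w) v := by rw [map_mul]; rfl
  have e' : act w (act (w * w) v) = v := by
    rw [show act w (act (w * w) v) = act (w * (w * w)) v by rw [map_mul act w (w * w)]; rfl,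
      show w * (w * w) = 1 by rw [← hw, pow_succ, pow_two, mul_assoc], map_one]
    rfl
  rw [map_add, map_add, e, e']
  abel

lemma swap_inverts_three [Nontrivial V] {t : G} (ht : t * t = 1)
    (htinf : ρ t ∞ = ((0 : V) : OnePoint V)) {u : H} (hu : u ^ 3 = 1) :
    t * u * t = (u : G)⁻¹ := by
  rcases eq_or_ne u 1 with rfl | hu1
  · simp [ht]
  have h0 := hA.swap_zero ht htinf
  have ht1 : t ≠ 1 := fun e => by
    rw [e, rho_one] at htinf
    exact OnePoint.infty_ne_coe _ htinf
  obtain ⟨e, he⟩ : ∃ e : V, ρ t e = e := by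
    obtain ⟨x, hx⟩ := hnf t ht ht1
    cases x with
    | infty => rw [htinf] at hx; exact absurd hx.symm (OnePoint.infty_ne_coe _)
    | coe v => exact ⟨v, hx⟩
  have he0 : e ≠ 0 := by
    rintro rfl
    rw [h0] at he
    exact OnePoint.infty_ne_coe _ he
  obtain ⟨z, hz, hz1⟩ := hA.exists_z heven
  have hzn : ∀ (h : H) (v : V), act (z * h) v = -act h v := fun h v => by
    rw [map_mul]
    exact hA.act_involution heven hz hz1 _
  let τ : H → H := fun h => ⟨t * h * t, hA.swap_conj_mem ht htinf h.2⟩
  have hττ : ∀ h, τ (τ h) = h := fun h => Subtype.ext (by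
    show t * (t * (h : G) * t) * t = h
    rw [show t * (t * (h : G) * t) * t = (t * t) * h * (t * t) by group, ht]
    group)
  have hτmul : ∀ h k, τ (h * k) = τ h * τ k := fun h k => Subtype.ext (by
    show t * ((h : G) * k) * t = t * h * t * (t * k * t)
    rw [show t * (h : G) * t * (t * k * t) = t * h * (t * t) * k * t by group, ht]
    group)
  have hteq : ∀ h : H, ρ t (act h e : V) = ((act (τ h) e : V) : OnePoint V) := fun h => by
    rw [← hA.lin, ← hA.lin, ← rho_mul]
    show ρ (t * h) e = ρ (t * h * t) e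
    rw [rho_mul (t * h) t, he]
  have hτz : τ z = z := by
    refine hA.involution_unique heven ?_ (fun h => hz1 ?_) hz hz1
    · rw [← hτmul, hz]
      exact Subtype.ext (show t * 1 * t = 1 by rw [mul_one, ht])
    · rw [← hττ z, h]
      exact Subtype.ext (show t * 1 * t = 1 by rw [mul_one, ht])
  obtain ⟨T, hTi, hT⟩ := hA.tr e
  set s : G := T * z with hs
  have hsv : ∀ v : V, ρ s v = ((-v + e : V) : OnePoint V) := fun v => by
    rw [hs, rho_mul, hA.lin, hA.act_involution heven hz hz1, hT]
  have hsi : ρ s ∞ = ∞ := by rw [hs, rho_mul, hA.lin_infty, hTi]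
  have hs2 : s * s = 1 := by
    refine hA.inj (Equiv.ext fun x => ?_)
    rw [rho_mul, rho_one]
    cases x with
    | infty => rw [hsi, hsi]
    | coe v => rw [hsv, hsv]; congr 1; abel
  have hbraid : t * s * t = s * t * s := by
    have h1 : (t * s) * ((t * s) * (t * s)) = 1 := by
      refine hA.three _ ∞ ((0 : V) : OnePoint V) (e : OnePoint V) (OnePoint.infty_ne_coe _)
        (fun h => he0 (OnePoint.coe_injective h).symm) (OnePoint.infty_ne_coe _) ?_ ?_ ?_
      all_goals
        simp only [rho_mul, hsi, htinf, hsv, neg_zero, zero_add, he, neg_add_cancel, h0]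
    calc t * s * t = t * s * t * ((s * t * s) * (s * t * s)) := by
          rw [show (s * t * s) * (s * t * s) = 1 by
            rw [show s * t * s * (s * t * s) = s * t * (s * s) * t * s by group, hs2, mul_one,
              mul_assoc s t t, ht, mul_one, hs2], mul_one]
      _ = (t * s) * ((t * s) * (t * s)) * (s * t * s) := by group
      _ = s * t * s := by rw [h1, one_mul]
  -- evaluate at `-(u e)`
  set w := τ u with hw
  have hw3 : w ^ 3 = 1 := by
    rw [pow_succ, pow_two, hw, ← hτmul, ← hτmul, ← pow_two, ← pow_succ, hu]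
    exact Subtype.ext (show t * 1 * t = 1 by rw [mul_one, ht])
  have hw1 : w ≠ 1 := fun h => hu1 (by
    rw [← hττ u, ← hw, h]
    exact Subtype.ext (show t * 1 * t = 1 by rw [mul_one, ht]))
  have hτzu : ∀ h : H, τ (z * h) = z * τ h := fun h => by rw [hτmul, hτz]
  have su : -(-act u e) + e = act (z * (u * u)) e := by
    rw [hzn, neg_neg, eq_neg_iff_add_eq_zero, add_comm (act u e) e]
    exact hA.three_sum hu hu1 e
  have sw : -(-act w e) + e = act (z * (w * w)) e := by
    rw [hzn, neg_neg, eq_neg_iff_add_eq_zero, add_comm (act w e) e]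
    exact hA.three_sum hw3 hw1 e
  have hL : ρ (t * s * t) ((-act u e : V) : OnePoint V) =
      ((act (z * (u * u)) e : V) : OnePoint V) := by
    rw [rho_mul, rho_mul, ← hzn, hteq, hτzu, ← hw, hzn, hsv, sw, hteq, hτzu, hτmul, hw, hττ]
  have hR : ρ (s * t * s) ((-act u e : V) : OnePoint V) = ((act (z * w) e : V) : OnePoint V) := by
    rw [rho_mul, rho_mul, hsv, su, hteq, hτzu, hτmul, ← hw, hsv]
    congr 1
    rw [hzn, neg_neg, hzn, eq_neg_iff_add_eq_zero, add_assoc, add_comm (act (w * w) e)]
    exact hA.three_sum hw3 hw1 e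
  rw [hbraid, hR] at hL
  have h1 := OnePoint.coe_injective hL
  rw [hzn, hzn, neg_inj] at h1
  have h2 : w⁻¹ * (u * u) = 1 := by
    refine hA.free he0 ?_
    rw [map_mul]
    show act w⁻¹ (act (u * u) e) = e
    rw [← h1, show act w⁻¹ (act w e) = act (w⁻¹ * w) e by rw [map_mul]; rfl, inv_mul_cancel,
      map_one]
    rfl
  have h3 : w = u⁻¹ := by
    rw [inv_mul_eq_one.1 h2]
    exact eq_inv_of_mul_eq_one_left (by rw [← hu, pow_succ, pow_two])
  exact congrArg Subtype.val h3

lemma no_character [Nontrivial V] (hG : ∀ f : G →* ℤˣ, ∀ g, f g = 1) {t : G} (ht : t * t = 1)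
    (htinf : ρ t ∞ = ((0 : V) : OnePoint V))
    (hJf : ∀ j : H, t * j * t = (j : G)⁻¹ → ∃ h : H, (j : G) = (h : G)⁻¹ * (t * h * t))
    (χ : H →* ℤˣ) : ∀ h, χ h = 1 := by
  classical
  intro h₀
  by_contra hne
  have hmem := fun g (hg : g ∈ H) => hA.swap_conj_mem ht htinf hg
  let τ : H →* H :=
    { toFun := fun h => ⟨t * h * t, hmem _ h.2⟩
      map_one' := Subtype.ext (show t * 1 * t = 1 by rw [mul_one, ht])
      map_mul' := fun a b => Subtype.ext (show t * ((a : G) * b) * t = t * a * t * (t * b * t) by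
        rw [show t * (a : G) * t * (t * b * t) = t * a * (t * t) * b * t by group, ht]; group) }
  have hττ : ∀ h, τ (τ h) = h := fun h => Subtype.ext (by
    show t * (t * (h : G) * t) * t = h
    rw [show t * (t * (h : G) * t) * t = (t * t) * h * (t * t) by group, ht]
    group)
  -- an invariant character
  obtain ⟨ψ, hψ, h₁, hψ1⟩ : ∃ ψ : H →* ℤˣ, (∀ h, ψ (τ h) = ψ h) ∧ ∃ h, ψ h ≠ 1 := by
    by_cases hc : ∀ h, χ (τ h) = χ h
    · exact ⟨χ, hc, h₀, hne⟩
    push Not at hc
    obtain ⟨h, hh⟩ := hc
    refine ⟨χ * χ.comp τ, fun a => by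
      simp only [MonoidHom.mul_apply, MonoidHom.comp_apply, hττ, mul_comm], h, fun e => hh ?_⟩
    rw [MonoidHom.mul_apply, MonoidHom.comp_apply] at e
    rcases Int.units_eq_one_or (χ h) with a | a <;>
      rcases Int.units_eq_one_or (χ (τ h)) with b | b <;> simp [a, b] at e ⊢
  have hψJ : ∀ j : H, t * j * t = (j : G)⁻¹ → ψ j = 1 := by
    intro j hj
    obtain ⟨h, hh⟩ := hJf j hj
    have : j = h⁻¹ * τ h := Subtype.ext hh
    rw [this, map_mul, map_inv, hψ, inv_mul_cancel]
  obtain ⟨z, hz, hz1⟩ := hA.exists_z heven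
  have hzG : (z : G) * z = 1 := congrArg Subtype.val hz
  have hτz : τ z = z := by
    refine hA.involution_unique heven (by rw [← map_mul, hz, map_one]) (fun e => hz1 ?_) hz hz1
    rw [← hττ z, e, map_one]
  have hψz : ψ z = 1 := hψJ z (by
    rw [show t * (z : G) * t = z from congrArg Subtype.val hτz]
    exact eq_inv_of_mul_eq_one_left hzG)
  have hti : t⁻¹ = t := inv_eq_of_mul_eq_one_left ht
  -- the stabiliser of the pair
  let D : Subgroup G :=
    { carrier := {g | g ∈ H ∨ t * g ∈ H}
      one_mem' := Or.inl H.one_mem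
      mul_mem' := by
        rintro a b (ha | ha) (hb | hb)
        · exact Or.inl (H.mul_mem ha hb)
        · refine Or.inr ?_
          rw [show t * (a * b) = (t * a * t) * (t⁻¹ * b) by group, hti]
          exact H.mul_mem (hmem _ ha) hb
        · refine Or.inr ?_
          rw [← mul_assoc]
          exact H.mul_mem ha hb
        · refine Or.inl ?_
          rw [show a * b = (t⁻¹ * (t * a) * t⁻¹) * (t * b) by group, hti]
          exact H.mul_mem (hmem _ ha) hb
      inv_mem' := by
        rintro a (ha | ha)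
        · exact Or.inl (H.inv_mem ha)
        · refine Or.inr ?_
          rw [show t * a⁻¹ = t * (t * a)⁻¹ * t by group]
          exact hmem _ (H.inv_mem ha) }
  have htH : ∀ g, t * g ∈ H → g ∉ H := by
    intro g h1 h2
    have : t ∈ H := by
      have := H.mul_mem h1 (H.inv_mem h2)
      rwa [mul_inv_cancel_right] at this
    rw [hA.mem, htinf] at this
    exact OnePoint.infty_ne_coe _ this.1.symm
  let F : D → ℤˣ := fun d => if hd : (d : G) ∈ H then ψ ⟨d, hd⟩ else
    ψ ⟨t * d, d.2.resolve_left hd⟩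
  have hFp : ∀ (d : G) (hD : d ∈ D) (hd : d ∈ H), F ⟨d, hD⟩ = ψ ⟨d, hd⟩ :=
    fun d hD hd => dif_pos (c := ((⟨d, hD⟩ : D) : G) ∈ H) hd
  have hFn : ∀ (d : G) (hD : d ∈ D) (hd : t * d ∈ H), F ⟨d, hD⟩ = ψ ⟨t * d, hd⟩ :=
    fun d hD hd => dif_neg (c := ((⟨d, hD⟩ : D) : G) ∈ H) (htH _ hd)
  let φ : D →* ℤˣ :=
    { toFun := F
      map_one' := by
        exact (hFp 1 D.one_mem H.one_mem).trans (map_one ψ)
      map_mul' := by
        rintro ⟨a, ha | ha⟩ ⟨b, hb | hb⟩
        · have h1 : a * b ∈ H := H.mul_mem ha hb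
          exact (hFp (a * b) _ h1).trans ((map_mul ψ ⟨a, ha⟩ ⟨b, hb⟩).trans
            (congrArg₂ (· * ·) (hFp a _ ha).symm (hFp b _ hb).symm))
        · have h1 : t * (a * b) = (t * a * t) * (t * b) := by
            rw [show (t * a * t) * (t * b) = t * a * (t * t) * b by group, ht]; group
          have h2 : a * b ∉ H := htH _ (h1 ▸ H.mul_mem (hmem _ ha) hb)
          refine (hFn (a * b) _ (h1 ▸ H.mul_mem (hmem _ ha) hb)).trans (Eq.trans ?_
            (congrArg₂ (· * ·) (hFp a _ ha).symm (hFn b _ hb).symm))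
          rw [← hψ ⟨a, ha⟩]
          exact Eq.trans (congrArg ψ (Subtype.ext h1)) (map_mul ψ _ _)
        · have h2 : a * b ∉ H := htH _ (mul_assoc t a b ▸ H.mul_mem ha hb)
          refine (hFn (a * b) _ (mul_assoc t a b ▸ H.mul_mem ha hb)).trans (Eq.trans ?_
            (congrArg₂ (· * ·) (hFn a _ ha).symm (hFp b _ hb).symm))
          exact Eq.trans (congrArg ψ (Subtype.ext (mul_assoc t a b).symm)) (map_mul ψ _ _)
        · have h1 : a * b = (t * (t * a) * t) * (t * b) := by
            rw [show t * (t * a) * t * (t * b) = (t * t) * a * (t * t) * b by group, ht]; group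
          have h2 : a * b ∈ H := h1 ▸ H.mul_mem (hmem _ ha) hb
          refine (hFp (a * b) _ h2).trans (Eq.trans ?_
            (congrArg₂ (· * ·) (hFn a _ ha).symm (hFn b _ hb).symm))
          rw [← hψ ⟨t * a, ha⟩]
          exact Eq.trans (congrArg ψ (Subtype.ext h1)) (map_mul ψ _ _) }
  have hφH : ∀ (g : H) (hg : (g : G) ∈ D), φ ⟨g, hg⟩ = ψ g := fun g hg => hFp g hg g.2
  have hφinv : ∀ d : D, (d : G) * d = 1 → φ d = 1 := by
    rintro ⟨d, hd⟩ h2
    by_cases hdH : d ∈ H
    · rw [hφH ⟨d, hdH⟩ hd]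
      by_cases h1 : (⟨d, hdH⟩ : H) = 1
      · rw [h1, map_one]
      · rw [hA.involution_unique heven (Subtype.ext h2) h1 hz hz1, hψz]
    · refine (hFn d hd (hd.resolve_left hdH)).trans (hψJ _ ?_)
      show t * (t * d) * t = (t * d)⁻¹
      rw [mul_inv_rev, hti, inv_eq_of_mul_eq_one_left h2, ← mul_assoc t t, ht, one_mul]
  -- an element of two-power order
  obtain ⟨k, m, hm, hkm⟩ := Nat.exists_eq_two_pow_mul_odd (n := orderOf h₁) (orderOf_pos h₁).ne'
  set x : H := h₁ ^ m with hx
  have hx2 : x ^ (2 ^ k) = 1 := by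
    rw [hx, ← pow_mul, mul_comm, ← hkm, pow_orderOf_eq_one]
  have hψx : ψ x = -1 := by
    rw [hx, map_pow, (Int.units_eq_one_or (ψ h₁)).resolve_left hψ1, hm.neg_one_pow]
  haveI : D.FiniteIndex := inferInstance
  haveI := Fintype.ofFinite (Quotient (orbitRel (Subgroup.zpowers (x : G)) (G ⧸ D)))
  have hval := hG (MonoidHom.transfer φ) (x : G)
  rw [MonoidHom.transfer_eq_prod_quotient_orbitRel_zpowers_quot φ (x : G)] at hval
  let q₀ : Quotient (orbitRel (Subgroup.zpowers (x : G)) (G ⧸ D)) :=
    Quotient.mk _ ((1 : G) : G ⧸ D)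
  have hout : ∀ q : Quotient (orbitRel (Subgroup.zpowers (x : G)) (G ⧸ D)),
      q.out.out ∈ D → q.out = ((1 : G) : G ⧸ D) := by
    intro q hq
    rw [← QuotientGroup.out_eq' q.out, QuotientGroup.eq, mul_one]
    exact D.inv_mem hq
  rw [Fintype.prod_eq_single q₀] at hval
  · have hq0 : q₀.out = ((1 : G) : G ⧸ D) := by
      obtain ⟨⟨g, hg⟩, hge⟩ := Quotient.exact (Quotient.out_eq q₀)
      rw [← hge]
      show g • ((1 : G) : G ⧸ D) = _
      obtain ⟨i, rfl⟩ := hg
      refine (QuotientGroup.eq.2 ?_ : (((x : G) ^ i * 1 : G) : G ⧸ D) = _)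
      rw [mul_one, mul_one]
      exact D.inv_mem (D.zpow_mem (Or.inl x.2) i)
    have hr : q₀.out.out ∈ D := by
      have := QuotientGroup.eq.1 ((QuotientGroup.out_eq' q₀.out).trans hq0)
      simpa using D.inv_mem this
    have hper : Function.minimalPeriod ((x : G) • ·) q₀.out = 1 := by
      rw [Function.minimalPeriod_eq_one_iff_isFixedPt, hq0]
      refine (QuotientGroup.eq.2 ?_ : (((x : G) * 1 : G) : G ⧸ D) = _)
      rw [mul_one, mul_one]
      exact D.inv_mem (Or.inl x.2)
    have hd : (⟨q₀.out.out⁻¹ * (x : G) ^ Function.minimalPeriod ((x : G) • ·) q₀.out * q₀.out.out,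
        QuotientGroup.out_conj_pow_minimalPeriod_mem D (x : G) q₀.out⟩ : D) =
        (⟨_, hr⟩ : D)⁻¹ * ⟨x, Or.inl x.2⟩ * ⟨_, hr⟩ := Subtype.ext (by
      show q₀.out.out⁻¹ * (x : G) ^ Function.minimalPeriod ((x : G) • ·) q₀.out * q₀.out.out = _
      rw [hper, pow_one]; rfl)
    rw [hd, map_mul, map_mul, map_inv, mul_comm ((φ _)⁻¹), inv_mul_cancel_right, hφH, hψx] at hval
    exact absurd hval (by decide)
  · intro q hq
    set r := q.out.out
    set n := Function.minimalPeriod ((x : G) • ·) q.out
    have hrD : r ∉ D := fun hr => hq (by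
      rw [← Quotient.out_eq q, hout q hr])
    have hmemD := QuotientGroup.out_conj_pow_minimalPeriod_mem D (x : G) q.out
    refine hφinv _ ?_
    show r⁻¹ * (x : G) ^ n * r * (r⁻¹ * (x : G) ^ n * r) = 1
    rw [show r⁻¹ * (x : G) ^ n * r * (r⁻¹ * (x : G) ^ n * r) =
      r⁻¹ * ((x : G) ^ n * (x : G) ^ n) * r by group]
    suffices hy : (x ^ n * x ^ n : H) = 1 by
      have := congrArg Subtype.val hy
      rw [Subgroup.coe_mul, SubmonoidClass.coe_pow, Subgroup.coe_one] at this
      rw [this]
      group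
    by_contra hy
    have hex : ∃ i, (x ^ n * x ^ n) ^ (2 ^ i) = 1 := ⟨k, by
      rw [← pow_add, ← pow_mul, mul_comm, pow_mul, hx2, one_pow]⟩
    obtain ⟨i, hi⟩ : ∃ i, Nat.find hex = i + 1 := Nat.exists_eq_succ_of_ne_zero fun e => hy (by
      simpa [e] using Nat.find_spec hex)
    have hzy : (x ^ n * x ^ n) ^ (2 ^ i) = z := by
      refine hA.involution_unique heven ?_
        (fun e => Nat.find_min hex (by omega : i < Nat.find hex) e) hz hz1
      rw [← pow_two, ← pow_mul, ← pow_succ, ← hi]
      exact Nat.find_spec hex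
    -- `r` normalises `⟨z⟩`
    have hsq : ∀ d : G, d ∈ D → d * d ∈ H := by
      rintro d (hd | hd)
      · exact H.mul_mem hd hd
      · rw [show d * d = (t⁻¹ * (t * d) * t⁻¹) * (t * d) by group, hti]
        exact H.mul_mem (hmem _ hd) hd
    have hz' : r⁻¹ * (z : G) * r ∈ H := by
      have h1 : (z : G) = ((x : G) ^ n * (x : G) ^ n) ^ (2 ^ i) := by
        rw [← hzy]; rfl
      have h2 : r⁻¹ * (z : G) * r = (r⁻¹ * (x : G) ^ n * r * (r⁻¹ * (x : G) ^ n * r)) ^ (2 ^ i) := by
        rw [h1, show r⁻¹ * (x : G) ^ n * r * (r⁻¹ * (x : G) ^ n * r) =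
          MulAut.conj r⁻¹ ((x : G) ^ n * (x : G) ^ n) by simp only [MulAut.conj_apply]; group,
          ← map_pow, MulAut.conj_apply, inv_inv]
      rw [h2]
      exact H.pow_mem (hsq _ hmemD) _
    have hcz : r⁻¹ * (z : G) * r = z := congrArg Subtype.val
      (hA.involution_unique heven (h := ⟨_, hz'⟩) (Subtype.ext (by
        show r⁻¹ * (z : G) * r * (r⁻¹ * (z : G) * r) = 1
        rw [show r⁻¹ * (z : G) * r * (r⁻¹ * (z : G) * r) = r⁻¹ * ((z : G) * z) * r by group, hzG]
        group)) (fun e => hz1 (Subtype.ext (by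
        have e' : r⁻¹ * (z : G) * r = 1 := congrArg Subtype.val e
        calc (z : G) = r * (r⁻¹ * z * r) * r⁻¹ := by group
          _ = 1 := by rw [e']; group))) hz hz1)
    have hcom : (z : G) * r = r * z := by
      calc (z : G) * r = r * (r⁻¹ * z * r) := by group
        _ = r * z := by rw [hcz]
    have hz0 := (hA.mem z).1 z.2
    have ha := hA.fix_z heven hz hz1 (x := ρ r ∞) (by rw [← rho_mul, hcom, rho_mul, hz0.1])
    have hb := hA.fix_z heven hz hz1 (x := ρ r ((0 : V) : OnePoint V))
      (by rw [← rho_mul, hcom, rho_mul, hz0.2])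
    have hne' := (ρ r).injective.ne (OnePoint.infty_ne_coe (0 : V))
    refine hrD ?_
    rcases ha with ha | ha <;> rcases hb with hb | hb
    · exact absurd (ha.trans hb.symm) hne'
    · exact Or.inl ((hA.mem r).2 ⟨ha, hb⟩)
    · exact Or.inr ((hA.mem _).2 ⟨by rw [rho_mul, ha, hA.swap_zero ht htinf],
        by rw [rho_mul, hb, htinf]⟩)
    · exact absurd (ha.trans hb.symm) hne'

/-- The sharply triply transitive case. -/
theorem sharp_false [Nontrivial V] (hcard : Nat.card V = Nat.card H + 1)
    (hG : ∀ f : G →* ℤˣ, ∀ g, f g = 1) : False := by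
  classical
  obtain ⟨t, ht, ht1, htinf⟩ := hA.exists_swap heven hnf
  obtain ⟨z, hz, hz1⟩ := hA.exists_z heven
  let τ : H →* H :=
    { toFun := fun h => ⟨t * h * t, hA.swap_conj_mem ht htinf h.2⟩
      map_one' := Subtype.ext (show t * 1 * t = 1 by rw [mul_one, ht])
      map_mul' := fun a b => Subtype.ext (show t * ((a : G) * b) * t = t * a * t * (t * b * t) by
        rw [show t * (a : G) * t * (t * b * t) = t * a * (t * t) * b * t by group, ht]; group) }
  have hττ : ∀ h, τ (τ h) = h := fun h => Subtype.ext (by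
    show t * (t * (h : G) * t) * t = h
    rw [show t * (t * (h : G) * t) * t = (t * t) * h * (t * t) by group, ht]
    group)
  have hfix : ∀ h, τ h = h → h = 1 ∨ h = z := by
    intro h e
    have h2 := hA.swap_fixed heven hnf ht htinf (congrArg Subtype.val e)
    exact (em (h = 1)).imp_right fun h1 => hA.involution_unique heven h2 h1 hz hz1
  set J : Set H := {j | τ j = j⁻¹} with hJdef
  have hJiff : ∀ j : H, j ∈ J ↔ t * j * t = (j : G)⁻¹ := fun j =>
    ⟨fun e => congrArg Subtype.val e, fun e => Subtype.ext e⟩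
  have hJcard : 2 * J.ncard = Nat.card H := by
    have e : {h : G | h ∈ H ∧ t * h * t = h⁻¹} = Subtype.val '' J := by
      ext h
      exact ⟨fun ⟨h1, h2⟩ => ⟨⟨h, h1⟩, (hJiff _).2 h2, rfl⟩,
        fun ⟨j, hj, e⟩ => e ▸ ⟨j.2, (hJiff j).1 hj⟩⟩
    have := hA.card_inverted heven hnf ht htinf
    rwa [e, Set.ncard_image_of_injective _ Subtype.val_injective, hcard, Nat.add_sub_cancel] at this
  -- every element of `J` is a commutator with `t`
  have hJf : ∀ j ∈ J, ∃ h : H, h⁻¹ * τ h = j := by
    haveI := Fintype.ofFinite H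
    let f : H → H := fun h => h⁻¹ * τ h
    have hsub : f '' Set.univ ⊆ J := by
      rintro _ ⟨h, -, rfl⟩
      show τ (h⁻¹ * τ h) = (h⁻¹ * τ h)⁻¹
      rw [map_mul, map_inv, hττ, mul_inv_rev, inv_inv]
    have hle : Nat.card H ≤ 2 * (f '' Set.univ).ncard := by
      have h1 := Finset.card_le_mul_card_image (s := (Finset.univ : Finset H)) (f := f) 2
        fun y hy => by
          obtain ⟨h, -, rfl⟩ := Finset.mem_image.1 hy
          have : ∀ k ∈ Finset.univ.filter (fun k => f k = f h), k ∈ ({h, z * h} : Finset H) := by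
            intro k hk
            have e : k⁻¹ * τ k = h⁻¹ * τ h := (Finset.mem_filter.1 hk).2
            have := hfix (k * h⁻¹) (by
              rw [map_mul, map_inv]
              calc τ k * (τ h)⁻¹ = k * (k⁻¹ * τ k) * (τ h)⁻¹ := by group
                _ = k * h⁻¹ := by rw [e]; group)
            rcases this with e' | e'
            · rw [mul_inv_eq_one.1 e']; simp
            · rw [← e']; simp
          exact (Finset.card_le_card this).trans Finset.card_le_two
      rw [Finset.card_univ, ← Nat.card_eq_fintype_card] at h1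
      rw [show f '' Set.univ = ↑(Finset.univ.image f) by simp, Set.ncard_coe_finset]
      exact h1
    intro j hj
    rw [← Set.eq_of_subset_of_ncard_le hsub (by omega)] at hj
    obtain ⟨h, -, e⟩ := hj
    exact ⟨h, e⟩
  have hno : ∀ χ : H →* ℤˣ, ∀ h, χ h = 1 := hA.no_character heven hnf hG ht htinf fun j hj =>
    (hJf j ((hJiff j).2 hj)).imp fun h e => (congrArg Subtype.val e).symm
  have hJtop : Subgroup.closure J = ⊤ := by
    by_contra hne
    have h1 := Subgroup.card_mul_index (Subgroup.closure J)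
    have h2 : J.ncard ≤ Nat.card (Subgroup.closure J) := by
      rw [← Nat.card_coe_set_eq J]
      exact Nat.card_le_card_of_injective (Set.inclusion Subgroup.subset_closure)
        (Set.inclusion_injective _)
    have h3 : (Subgroup.closure J).index ≤ 2 := by
      have : 0 < Nat.card H := Nat.card_pos
      nlinarith
    have h4 : (Subgroup.closure J).index ≠ 1 := fun e => hne (Subgroup.index_eq_one.1 e)
    have h5 : (Subgroup.closure J).index ≠ 0 := Subgroup.index_ne_zero_of_finite
    obtain ⟨χ, x, hx⟩ := exists_hom_of_index_two (K := Subgroup.closure J) (by omega)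
    exact hx (hno χ x)
  -- the swapper `t * j`
  have hswap : ∀ j ∈ J, (t * (j : G)) * (t * j) = 1 ∧
      ρ (t * j) ∞ = ((0 : V) : OnePoint V) := by
    intro j hj
    refine ⟨?_, by rw [rho_mul, hA.lin_infty, htinf]⟩
    rw [show t * (j : G) * (t * j) = (t * j * t) * j by group, (hJiff j).1 hj, inv_mul_cancel]
  have hconj : ∀ j ∈ J, ∀ h : H, (t * (j : G)) * h * (t * j) = ((j⁻¹ * τ h * j : H) : G) := by
    intro j hj h
    rw [show (t * (j : G)) * h * (t * j) = (t * j * t) * (t⁻¹ * h * t) * j by group,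
      (hJiff j).1 hj, inv_eq_of_mul_eq_one_left ht]
    rfl
  have h3 : ∀ u : H, u ^ 3 = 1 → u ∈ Subgroup.center H := by
    intro u hu
    rw [Subgroup.mem_center_iff]
    intro x
    have hle : Subgroup.closure J ≤ Subgroup.centralizer {u} := by
      rw [Subgroup.closure_le]
      intro j hj
      rw [SetLike.mem_coe, Subgroup.mem_centralizer_singleton_iff]
      have h1 : τ u = u⁻¹ := Subtype.ext (hA.swap_inverts_three heven hnf ht htinf hu)
      have h2 : j⁻¹ * τ u * j = u⁻¹ := Subtype.ext ((hconj j hj u).symm.trans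
        (hA.swap_inverts_three heven hnf (hswap j hj).1 (hswap j hj).2 hu))
      rw [h1] at h2
      have h4 : u⁻¹ * j = j * u⁻¹ := by
        calc u⁻¹ * j = j * (j⁻¹ * u⁻¹ * j) := by group
          _ = j * u⁻¹ := by rw [h2]
      exact (Commute.inv_left_iff.1 (h4 : Commute u⁻¹ j)).symm
    rw [hJtop] at hle
    exact Subgroup.mem_centralizer_singleton_iff.1 (hle (Subgroup.mem_top x))
  -- the ring generated by the centre
  set S : Set (AddMonoid.End V) := act '' (Subgroup.center H : Set H) with hSdef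
  have hST : ∀ x ∈ S, ∀ y ∈ Set.range act, x * y = y * x := by
    rintro _ ⟨h, hh, rfl⟩ _ ⟨k, rfl⟩
    rw [← map_mul, ← map_mul, Subgroup.mem_center_iff.1 hh k]
  letI : CommRing (Subring.closure S) := Subring.closureCommRingOfComm fun x hx y hy =>
    hST x hx y (Set.image_subset_range _ _ hy)
  have hirr : ∀ W : AddSubgroup V, (∀ f ∈ Set.range act, ∀ x ∈ W, f x ∈ W) → W = ⊥ ∨ W = ⊤ :=
    fun W hW => hA.irreducible (by omega) W fun h x hx => hW _ ⟨h, rfl⟩ x hx
  have hbij : ∀ r ∈ Subring.closure S, r ≠ 0 → Function.Bijective (r : V → V) := fun r hr hr0 =>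
    bijective_of_mem_closure S _ hST hirr hr hr0
  obtain ⟨e, he⟩ := _root_.exists_ne (0 : V)
  let ev : Subring.closure S →+ V :=
    { toFun := fun r => (r : AddMonoid.End V) e
      map_zero' := rfl
      map_add' := fun _ _ => rfl }
  have hev : Function.Injective ev := by
    rw [injective_iff_map_eq_zero]
    intro r hr
    by_contra hr0
    exact he ((hbij r r.2 (fun h => hr0 (Subtype.ext h))).1
      (hr.trans (map_zero (r : AddMonoid.End V)).symm :
        (r : AddMonoid.End V) e = (r : AddMonoid.End V) 0))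
  haveI : Finite (Subring.closure S) := Finite.of_injective _ hev
  haveI : Nontrivial (Subring.closure S) :=
    ⟨⟨0, 1, fun h => he ((congrArg ev h).symm.trans (map_zero ev))⟩⟩
  haveI : NoZeroDivisors (Subring.closure S) := ⟨fun {r s} h => by
    by_contra hc
    push Not at hc
    refine hc.2 (Subtype.ext (AddMonoidHom.ext fun v => ?_))
    exact (hbij r r.2 (fun e => hc.1 (Subtype.ext e))).1
      ((congrArg (fun x : Subring.closure S => (x : AddMonoid.End V) v) h).trans (map_zero _).symm)⟩
  haveI : IsDomain (Subring.closure S) := NoZeroDivisors.to_isDomain _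
  let χ₀ : Subgroup.center H →* Subring.closure S :=
    { toFun := fun h => ⟨act (h : H), Subring.subset_closure ⟨h, h.2, rfl⟩⟩
      map_one' := Subtype.ext (map_one act)
      map_mul' := fun h k => Subtype.ext (map_mul act (h : H) k) }
  have hχ : Function.Injective χ₀ := fun h k e =>
    Subtype.ext (hA.act_injective (congrArg Subtype.val e))
  have hcen : IsCyclic (Subgroup.center H) := isCyclic_of_subgroup_isDomain χ₀ hχ
  obtain ⟨h72, h12, h6, hnc⟩ := nearfield_group_bound hz hz1
    (fun h h2 h1 => hA.involution_unique heven h2 h1 hz hz1) τ hττ hJtop (fun j hj h e => by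
      have h2 := hA.swap_fixed heven hnf (hswap j hj).1 (hswap j hj).2
        (h := h) ((hconj j hj h).trans (congrArg Subtype.val e))
      exact (em (h = 1)).imp_right fun h1 => hA.involution_unique heven h2 h1 hz hz1)
    h3 hcen hno
  set r := Nat.card (Subring.closure S) with hr
  have hZr : Nat.card (Subgroup.center H) < r := by
    refine lt_of_lt_of_le (Nat.lt_succ_self _) ?_
    rw [Nat.succ_eq_add_one, hr, ← Finite.card_option]
    refine Nat.card_le_card_of_injective (fun o => o.elim 0 χ₀) ?_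
    have hne0 : ∀ h, χ₀ h ≠ 0 := fun h h0 => by
      have : act (h : H) e = 0 := congrArg (fun x : Subring.closure S => (x : AddMonoid.End V) e) h0
      exact he ((hA.act_eq_zero_iff _).1 this)
    rintro (_ | a) (_ | b) h
    · rfl
    · exact absurd h.symm (hne0 b)
    · exact absurd h (hne0 a)
    · exact congrArg some (hχ h)
  have hdvd : r ∣ Nat.card V := by
    rw [hr, Nat.card_congr (AddMonoidHom.ofInjective hev).toEquiv]
    exact ev.range.card_addSubgroup_dvd_card
  obtain ⟨v, hv⟩ : ∃ v, v ∉ ev.range := by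
    by_contra hc
    push Not at hc
    refine hnc ((Subgroup.eq_top_iff' _).2 fun h => Subgroup.mem_center_iff.2 fun k =>
      hA.act_injective ?_)
    obtain ⟨r₁, hr₁⟩ := hc (act h e)
    have key : ∀ k : H, ∀ s : Subring.closure S,
        act k ((s : AddMonoid.End V) e) = (s : AddMonoid.End V) (act k e) := by
      intro k s
      have : (s : AddMonoid.End V) * act k = act k * s := by
        suffices ∀ f ∈ Subring.closure S, f * act k = act k * f from this _ s.2
        intro f hs
        induction hs using Subring.closure_induction with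
        | mem x hx => exact hST x hx _ ⟨k, rfl⟩
        | zero => rw [zero_mul, mul_zero]
        | one => rw [one_mul, mul_one]
        | add x y _ _ hx hy => rw [add_mul, mul_add, hx, hy]
        | neg x _ hx => rw [neg_mul, mul_neg, hx]
        | mul x y _ _ hx hy => rw [mul_assoc, hy, ← mul_assoc, hx, mul_assoc]
      exact (congrArg (fun f : AddMonoid.End V => f e) this).symm
    have hall : ∀ (h : H) (a : Subring.closure S), (a : AddMonoid.End V) e = act h e →
        act h = a := by
      intro h a ha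
      refine AddMonoidHom.ext fun x => ?_
      obtain ⟨s, rfl⟩ := hc x
      show act h ((s : AddMonoid.End V) e) = (a : AddMonoid.End V) ((s : AddMonoid.End V) e)
      rw [key, ← ha]
      exact congrArg (fun f : Subring.closure S => (f : AddMonoid.End V) e) (mul_comm s a)
    obtain ⟨r₂, hr₂⟩ := hc (act k e)
    rw [map_mul, map_mul, hall h r₁ hr₁, hall k r₂ hr₂]
    exact congrArg Subtype.val (mul_comm r₂ r₁)
  have hsq : r * r ≤ Nat.card V := by
    rw [hr, ← Nat.card_prod]
    refine Nat.card_le_card_of_injective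
      (fun p => (p.1 : AddMonoid.End V) e + (p.2 : AddMonoid.End V) v) ?_
    have key : ∀ a b : Subring.closure S,
        (a : AddMonoid.End V) e + (b : AddMonoid.End V) v = 0 → a = 0 ∧ b = 0 := by
      intro a b h
      by_cases hb : b = 0
      · subst hb
        refine ⟨hev ?_, rfl⟩
        rw [map_zero]
        show (a : AddMonoid.End V) e = 0
        simpa using h
      refine absurd ?_ hv
      have hsurj : Function.Surjective fun s : Subring.closure S => b * s :=
        Finite.injective_iff_surjective.1 (mul_right_injective₀ hb)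
      obtain ⟨s, hs⟩ := hsurj (-a)
      refine ⟨s, (hbij b b.2 fun h => hb (Subtype.ext h)).1 ?_⟩
      show ((b * s : Subring.closure S) : AddMonoid.End V) e = (b : AddMonoid.End V) v
      rw [show b * s = -a from hs]
      exact neg_eq_of_add_eq_zero_right h
    rintro ⟨a, b⟩ ⟨a', b'⟩ h
    obtain ⟨h1, h2⟩ := key (a - a') (b - b') (by
      show (a : AddMonoid.End V) e - (a' : AddMonoid.End V) e +
        ((b : AddMonoid.End V) v - (b' : AddMonoid.End V) v) = 0
      rw [sub_add_sub_comm, sub_eq_zero]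
      exact h)
    rw [sub_eq_zero] at h1 h2
    rw [h1, h2]
  -- arithmetic
  obtain ⟨c, hc⟩ := h72
  have hr11 : r ≤ 11 := by nlinarith
  have hc1 : c = 1 := by
    have : 0 < Nat.card H := Nat.card_pos
    omega
  subst hc1
  have hV : Nat.card V = 73 := by omega
  rw [hV] at hdvd hsq
  have : r ≤ 8 := by nlinarith
  have h7 : 7 ≤ r := by omega
  interval_cases r <;> omega

end Cfsg.Agent.Zassenhaus.Affine
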