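import Mathlib
import Cfsg.Agent.Lib.ZassenhausNearfield
import Cfsg.Agent.S0738
import Cfsg.Agent.S0741

/-!
Zassenhaus groups with two-point stabilisers of even order: affine coordinates and the sign of the
permutation representation.
-/

set_option autoImplicit false

open scoped OnePoint

namespace Cfsg.Agent.Zassenhaus

open MulAction

/-- Coordinates for a Zassenhaus group with two-point stabilisers of even order. -/
theorem even_coordinates.{u, v} {G : Type u} {Ω : Type v} [Group G] [Finite G] [MulAction G Ω]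
    [Fintype Ω] (hZ : Cfsg.IsZassenhausGroup G Ω) {a b : Ω} (hab : a ≠ b)
    (heven : Even (Nat.card (two G a b))) :
    ∃ (V : Type u) (_ : AddCommGroup V) (_ : Finite V) (_ : Nontrivial V)
      (ρ : G →* Equiv.Perm (OnePoint V)) (act : two G a b →* AddMonoid.End V)
      (e : OnePoint V ≃ Ω) (p f : ℕ), Affine ρ (two G a b) act ∧ (∀ g x, e (ρ g x) = g • e x) ∧
      e ∞ = a ∧ e ((0 : V) : OnePoint V) = b ∧ Fintype.card Ω = Nat.card V + 1 ∧ p.Prime ∧ p ≠ 2 ∧
      Nat.card V = p ^ f ∧
      (Nat.card V = Nat.card (two G a b) + 1 ∨ Nat.card V = 2 * Nat.card (two G a b) + 1) := by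
  classical
  have hP := pre_of_isZassenhaus hZ
  obtain ⟨K, hle, hn, ht, hf⟩ := hP.exists_kernel hab
  have hKn : (K.subgroupOf (stabilizer G a)).Normal :=
    ⟨fun k hk g => hn _ g.2 _ hk⟩
  have hreg : ∀ y z : Ω, y ≠ a → z ≠ a → ∃! u : K, (u : G) • y = z := by
    intro y z hy hz
    obtain ⟨k, hk, e⟩ := ht y z hy hz
    refine ⟨⟨k, hk⟩, e, fun u hu => Subtype.ext (inv_mul_eq_one.1 (hf _
      (K.mul_mem (K.inv_mem hk) u.2) y hy ?_)).symm⟩
    rw [mul_smul, show (u : G) • y = z from hu, ← e, inv_smul_smul]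
  have hd := Cfsg.Agent.S0741.result hZ hab heven
  obtain ⟨hcomm, p, f, hp, -, hcard⟩ :=
    Cfsg.Agent.S0738.result hZ hab hd K hle hKn hreg
  obtain ⟨V, hVg, ρ, act, e, hA, he, hea, heb, -⟩ := exists_affine hP hab hle hn ht hf
    fun x hx y hy => congrArg Subtype.val (hcomm.is_comm.comm (⟨x, hx⟩ : K) ⟨y, hy⟩)
  haveI : Finite (OnePoint V) := Finite.of_equiv Ω e.symm
  haveI : Finite V := Finite.of_injective (fun v : V => (v : OnePoint V)) OnePoint.coe_injective
  haveI : Nontrivial V := by
    obtain ⟨c, hca, hcb⟩ := hP.exists_third hab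
    by_contra hn
    rw [not_nontrivial_iff_subsingleton] at hn
    obtain ⟨x, rfl⟩ := e.surjective c
    cases x with
    | infty => exact hca hea
    | coe v => exact hcb (by rw [Subsingleton.elim v 0, heb])
  have hΩ : Fintype.card Ω = Nat.card V + 1 := by
    rw [← Nat.card_eq_fintype_card, ← Nat.card_congr e, Affine.card_onePoint]
  have hVp : Nat.card V = p ^ f := by omega
  have hodd := hA.odd_card heven
  have hp2 : p ≠ 2 := by
    rintro rfl
    rcases f with _ | f
    · have : 1 < Nat.card V := Finite.one_lt_card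
      omega
    · rw [hVp, pow_succ'] at hodd
      exact absurd hodd (Nat.not_odd_iff_even.2 ⟨2 ^ f, by ring⟩)
  refine ⟨V, hVg, inferInstance, inferInstance, ρ, act, e, p, f, hA, he, hea, heb, hΩ, hp, hp2,
    hVp, ?_⟩
  have hV1 : 1 < Nat.card V := Finite.one_lt_card
  have hH : 0 < Nat.card (two G a b) := Nat.card_pos
  obtain ⟨c, hc⟩ := hA.card_dvd
  rw [hΩ] at hd
  change Nat.card V + 1 - 2 ≤ 2 * Nat.card (two G a b) at hd
  rcases c with _ | _ | _ | c
  · omega
  · omega
  · omega
  · exfalso
    rw [show c + 1 + 1 + 1 = c + 3 from rfl, Nat.mul_add] at hc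
    omega

namespace Affine

universe u

variable {G : Type u} [Group G] [Finite G] {V : Type*} [AddCommGroup V] [Finite V]
variable {ρ : G →* Equiv.Perm (OnePoint V)} {H : Subgroup G} {act : H →* AddMonoid.End V}
variable (hA : Affine ρ H act) (heven : Even (Nat.card H))
include hA heven

/-- The signs of the involution of `H` and of a fixed-point-free involution. -/
lemma sign_facts [Nontrivial V] [Fintype (OnePoint V)] [DecidableEq (OnePoint V)] :
    (∀ z : H, z * z = 1 → z ≠ 1 →
      Equiv.Perm.sign (ρ z) = (-1) ^ ((Nat.card V - 1) / 2)) ∧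
    ∀ g : G, g * g = 1 → (∀ x, ρ g x ≠ x) →
      Equiv.Perm.sign (ρ g) = (-1) ^ ((Nat.card V + 1) / 2) := by
  obtain ⟨i, hi⟩ := hA.odd_card heven
  constructor
  · intro z hz hz1
    refine sign_involution (by rw [← map_mul, show (z : G) * z = 1 from congrArg Subtype.val hz,
      map_one]) ?_
    have e : {x : OnePoint V | ρ z x = x} = {∞, ((0 : V) : OnePoint V)} := by
      ext x
      constructor
      · intro hx
        cases x with
        | infty => exact Or.inl rfl
        | coe v =>
          rw [Set.mem_ofPred_eq, hA.lin, hA.act_involution heven hz hz1] at hx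
          have h := OnePoint.coe_injective hx
          rw [neg_eq_iff_add_eq_zero] at h
          exact Or.inr (by rw [hA.eq_zero_of_add_self heven h]; rfl)
      · rintro (rfl | rfl)
        · exact hA.lin_infty z
        · exact ((hA.mem z).1 z.2).2
    rw [e, Set.ncard_pair (OnePoint.infty_ne_coe _), ← Nat.card_eq_fintype_card, card_onePoint]
    have : 1 < Nat.card V := Finite.one_lt_card
    omega
  · intro g hg hfree
    refine sign_involution (by rw [← map_mul, hg, map_one]) ?_
    rw [show {x : OnePoint V | ρ g x = x} = ∅ from Set.eq_empty_iff_forall_notMem.2 hfree,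
      Set.ncard_empty, ← Nat.card_eq_fintype_card, card_onePoint]
    omega

/-- If every sign character is trivial, every involution has a fixed point. -/
lemma noFree_of_no_sign [Nontrivial V] (hG : ∀ f : G →* ℤˣ, ∀ g, f g = 1) :
    ∀ g : G, g * g = 1 → g ≠ 1 → ∃ x, ρ g x = x := by
  classical
  haveI : Finite (OnePoint V) := inferInstanceAs (Finite (Option V))
  haveI := Fintype.ofFinite (OnePoint V)
  intro g hg _
  by_contra hc
  push Not at hc
  obtain ⟨hz', hw⟩ := hA.sign_facts heven
  obtain ⟨z, hz, hz1⟩ := hA.exists_z heven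
  have h1 : ((-1 : ℤˣ)) ^ ((Nat.card V - 1) / 2) = 1 :=
    (hz' z hz hz1).symm.trans (hG (Equiv.Perm.sign.comp ρ) z)
  have h2 : ((-1 : ℤˣ)) ^ ((Nat.card V + 1) / 2) = 1 :=
    (hw g hg hc).symm.trans (hG (Equiv.Perm.sign.comp ρ) g)
  obtain ⟨i, hi⟩ := hA.odd_card heven
  rw [hi, show (2 * i + 1 - 1) / 2 = i by omega] at h1
  rw [hi, show (2 * i + 1 + 1) / 2 = i + 1 by omega, pow_succ, h1] at h2
  exact absurd h2 (by decide)

end Affine

end Cfsg.Agent.Zassenhaus
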