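import Cfsg.Agent.Lib.BSWMain84
import Cfsg.Agent.S0731

/-!
A simple group with the subgroup structure of the Brauer-Suzuki-Wall theorem is `PSL₂(q)`, `q` odd.
-/

set_option autoImplicit false
set_option linter.unusedSectionVars false

namespace Cfsg.Agent.BSW84

open MulAction

universe u

/-- The order of a sharply triply transitive group. -/
theorem card_of_sharp {H Ω : Type*} [Group H] [Finite H] [MulAction H Ω] [Finite Ω]
    (h3 : IsMultiplyPretransitive H Ω 3) (h : ∀ t : Fin 3 ↪ Ω, stabilizer H t = ⊥) {a b c : Ω}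
    (hab : a ≠ b) (hbc : b ≠ c) (hac : a ≠ c) :
    Nat.card H = Nat.card Ω * (Nat.card Ω - 1) * (Nat.card Ω - 2) := by
  classical
  haveI := Fintype.ofFinite Ω
  let t : Fin 3 ↪ Ω := ⟨![a, b, c], by
    intro i j e
    fin_cases i <;> fin_cases j <;>
      first
      | rfl
      | exact absurd e hab
      | exact absurd e.symm hab
      | exact absurd e hbc
      | exact absurd e.symm hbc
      | exact absurd e hac
      | exact absurd e.symm hac⟩
  have h4 := index_stabilizer H t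
  rw [h t, Subgroup.index_bot, orbit_eq_univ, Set.ncard_univ, Nat.card_eq_fintype_card (α := Fin 3 ↪ Ω),
    Fintype.card_embedding_eq, Fintype.card_fin] at h4
  rw [h4, Nat.card_eq_fintype_card]
  simp [Nat.descFactorial_succ]
  ring

variable {G : Type u} [Group G] [Finite G] [IsSimpleGroup G]

/-- A simple group is not of order twelve with a self-normalizing subgroup of order three. -/
theorem not_self_normal_three {Q : Subgroup G} (hQ : Nat.card Q = 3) (hG : Nat.card G = 12)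
    (hN : Subgroup.normalizer (Q : Set G) = Q) : False := by
  haveI : Fact (Nat.Prime 3) := ⟨Nat.prime_three⟩
  have hidx : Q.index = 4 := by
    have := Q.card_mul_index
    rw [hQ, hG] at this
    omega
  let P : Sylow 3 G :=
    (IsPGroup.of_card (n := 1) (by rw [hQ, pow_one]) : IsPGroup 3 Q).toSylow (by rw [hidx]; norm_num)
  have hP : (P : Subgroup G) = Q := rfl
  haveI : IsCyclic (P : Subgroup G) := isCyclic_of_prime_card (p := 3) (by rw [hP, hQ])
  have hle : Subgroup.normalizer ((P : Subgroup G) : Set G) ≤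
      Subgroup.centralizer ((P : Subgroup G) : Set G) := by
    rw [hP, hN]
    intro x hx
    rw [Subgroup.mem_centralizer_iff]
    intro y hy
    have : IsCyclic Q := isCyclic_of_prime_card (p := 3) hQ
    exact congrArg Subtype.val (this.isMulCommutative.is_comm.comm (⟨y, hy⟩ : Q) ⟨x, hx⟩)
  have hc := MonoidHom.ker_transferSylow_isComplement' P hle
  have hk := hc.card_mul
  rw [show Nat.card (P : Subgroup G) = 3 from hQ, hG] at hk
  rcases (MonoidHom.normal_ker (MonoidHom.transferSylow P hle)).eq_bot_or_eq_top with h | h <;>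
    rw [h] at hk
  · rw [Subgroup.card_bot] at hk; omega
  · rw [Subgroup.card_top, hG] at hk; omega

/-- Recognition of `PSL₂(q)`. -/
theorem Concl.exists_psl2 (h : Concl G) :
    ∃ (F : Type) (_ : Field F) (_ : Fintype F), Odd (Fintype.card F) ∧
      Nonempty (G ≃* Matrix.ProjectiveSpecialLinearGroup (Fin 2) F) := by
  classical
  obtain ⟨Q, D, hcard, hself, hDab, hq, hQD, hN, hX⟩ := h
  set N := Subgroup.normalizer (Q : Set G) with hNdef
  set q := Nat.card Q with hqdef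
  set d := Nat.card D with hddef
  have hd0 : 0 < d := Nat.card_pos
  have hG : Nat.card G = q * d * (q + 1) := by
    rw [show q - 1 = 2 * d by omega] at hcard
    have : 2 * Nat.card G = 2 * (q * d * (q + 1)) := by rw [hcard]; ring
    omega
  have hDN : D ≤ N := hN ▸ le_sup_right
  have hQN : Q ≤ N := hN ▸ le_sup_left
  have hmem : ∀ n ∈ N, ∃ a ∈ Q, ∃ δ ∈ D, a * δ = n := by
    intro n hn
    rw [hN, ← SetLike.mem_coe, Subgroup.coe_mul_of_right_le_normalizer_left Q D hDN] at hn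
    obtain ⟨a, ha, δ, hδ, rfl⟩ := hn
    exact ⟨a, ha, δ, hδ, rfl⟩
  have hone : ∀ x ∈ Q, x ∈ D → x = 1 := fun x hx hx' =>
    (Subgroup.eq_bot_iff_forall _).1 hQD x ⟨hx, hx'⟩
  have hconjQ : ∀ δ ∈ D, ∀ a ∈ Q, δ * a * δ⁻¹ ∈ Q := fun δ hδ a ha =>
    (Subgroup.mem_normalizer_iff.1 (hDN hδ) a).1 ha
  have hNcard : Nat.card N = q * d := by
    rw [hqdef, hddef, ← Nat.card_prod]
    symm
    refine Nat.card_congr (Equiv.ofBijective
      (fun p : Q × D => (⟨(p.1 : G) * p.2, N.mul_mem (hQN p.1.2) (hDN p.2.2)⟩ : N)) ⟨?_, ?_⟩)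
    · intro p p' e
      have e' : (p.1 : G) * p.2 = p'.1 * p'.2 := congrArg Subtype.val e
      have e1 : (p'.1 : G)⁻¹ * p.1 = p'.2 * (p.2 : G)⁻¹ := by
        rw [eq_mul_inv_iff_mul_eq, mul_assoc, e', inv_mul_cancel_left]
      have h1 := hone _ (Q.mul_mem (Q.inv_mem p'.1.2) p.1.2) (e1 ▸ D.mul_mem p'.2.2 (D.inv_mem p.2.2))
      have h2 : (p.1 : G) = p'.1 := (inv_mul_eq_one.1 h1).symm
      rw [h2] at e'
      exact Prod.ext (Subtype.ext h2) (Subtype.ext (mul_left_cancel e'))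
    · rintro ⟨n, hn⟩
      obtain ⟨a, ha, δ, hδ, e⟩ := hmem n hn
      exact ⟨(⟨a, ha⟩, ⟨δ, hδ⟩), Subtype.ext e⟩
  have hidx : N.index = q + 1 := by
    have := N.card_mul_index
    rw [hNcard, hG] at this
    exact Nat.eq_of_mul_eq_mul_left (Nat.mul_pos Nat.card_pos hd0) this
  have hd2 : 2 ≤ d := by
    by_contra hlt
    have hd1 : d = 1 := by omega
    have hDbot : D = ⊥ := Subgroup.card_eq_one.1 hd1
    refine not_self_normal_three (Q := Q) (by omega) ?_ (by rw [← hNdef, hN, hDbot, sup_bot_eq])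
    rw [hG, hd1, show q = 3 by omega]
  have hq3 : 5 ≤ q := by omega
  have hpow : ∀ n ∈ N, n ^ q = 1 → n ∈ Q := by
    intro n hn hn1
    obtain ⟨a, ha, δ, hδ, rfl⟩ := hmem n hn
    have key : ∀ i : ℕ, (a * δ) ^ i * (δ ^ i)⁻¹ ∈ Q := by
      intro i
      induction i with
      | zero => simp
      | succ i ih =>
        have e : (a * δ) ^ (i + 1) * (δ ^ (i + 1))⁻¹ =
            a * (δ * ((a * δ) ^ i * (δ ^ i)⁻¹) * δ⁻¹) := by
          rw [pow_succ', pow_succ']; group
        rw [e]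
        exact Q.mul_mem ha (hconjQ δ hδ _ ih)
    have h1 := key q
    rw [hn1, one_mul] at h1
    have h2 : δ ^ q = 1 := inv_eq_one.1 (hone _ h1 (D.inv_mem (D.pow_mem hδ q)))
    have h3 : orderOf δ ∣ d := by
      have := orderOf_dvd_natCard (⟨δ, hδ⟩ : D)
      rwa [Subgroup.orderOf_mk] at this
    have h4 : Nat.Coprime q d := by
      rw [show q = 1 + 2 * d by omega, Nat.coprime_add_mul_right_left]
      exact Nat.coprime_one_left d
    have : δ = 1 :=
      orderOf_eq_one_iff.1 (Nat.eq_one_of_dvd_coprimes h4 (orderOf_dvd_of_pow_eq_one h2) h3)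
    simpa [this] using ha
  set x₀ : G ⧸ N := ((1 : G) : G ⧸ N) with hx₀
  have hstab : ∀ g : G, g • x₀ = x₀ ↔ g ∈ N := by
    intro g
    rw [hx₀, MulAction.Quotient.smul_mk, QuotientGroup.eq]
    simp
  have hfree : ∀ k ∈ Q, ∀ y, y ≠ x₀ → k • y = y → k = 1 := by
    intro k hk y hy hky
    induction y using QuotientGroup.induction_on with
    | H g =>
      by_contra hk1
      rw [MulAction.Quotient.smul_mk, QuotientGroup.eq] at hky
      have h1 : g⁻¹ * k * g ∈ N := by
        have := N.inv_mem hky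
        simpa [mul_assoc] using this
      have h2 : g⁻¹ * k * g ∈ Q := by
        refine hpow _ h1 ?_
        have e : g⁻¹ * k * g = g⁻¹ * k * (g⁻¹)⁻¹ := by rw [inv_inv]
        rw [e, conj_pow, show k ^ q = 1 from congrArg Subtype.val
          (pow_card_eq_one' (x := (⟨k, hk⟩ : Q))), mul_one, mul_inv_cancel]
      have h3 : g⁻¹ ∈ N := self_normal hself hk hk1 (by rwa [inv_inv])
      refine hy ((QuotientGroup.eq (s := N)).2 ?_)
      simpa using h3
  have hΩ : Nat.card (G ⧸ N) = q + 1 := hidx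
  obtain ⟨δ₀, hδ₀, hδ₀1⟩ := (Subgroup.bot_or_exists_ne_one D).resolve_left fun e => by
    rw [hddef, e, Subgroup.card_bot] at hd2
    omega
  obtain ⟨-, u, hu2, huD, huinv, -⟩ := hX D le_rfl fun e => hδ₀1 (Subgroup.mem_bot.1 (e ▸ hδ₀))
  set b : G ⧸ N := u • x₀ with hb
  have huN : u ∉ N := by
    intro hu
    obtain ⟨a, ha, δ, hδ, e⟩ := hmem u hu
    have h1 : a * δ₀ * a⁻¹ ∈ D := by
      have : a * δ₀ * a⁻¹ = u * (δ⁻¹ * δ₀ * δ) * u⁻¹ := by rw [← e]; group
      rw [this, huinv _ (D.mul_mem (D.mul_mem (D.inv_mem hδ) hδ₀) hδ)]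
      exact D.inv_mem (D.mul_mem (D.mul_mem (D.inv_mem hδ) hδ₀) hδ)
    have h2 : a * δ₀ * a⁻¹ * δ₀⁻¹ = 1 := by
      refine hone _ ?_ (D.mul_mem h1 (D.inv_mem hδ₀))
      rw [show a * δ₀ * a⁻¹ * δ₀⁻¹ = a * (δ₀ * a⁻¹ * δ₀⁻¹) by group]
      exact Q.mul_mem ha (hconjQ δ₀ hδ₀ _ (Q.inv_mem ha))
    have ha1 : a = 1 := by
      by_contra ha1
      have : δ₀ ∈ Subgroup.centralizer ({a} : Set G) := by
        rw [Subgroup.mem_centralizer_singleton_iff]
        exact (mul_inv_eq_iff_eq_mul.1 (mul_inv_eq_one.1 h2)).symm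
      rw [hself a ha ha1] at this
      exact hδ₀1 (hone _ this hδ₀)
    rw [ha1, one_mul] at e
    exact huD (e ▸ hδ)
  have hbx : b ≠ x₀ := fun e => huN ((hstab u).1 e)
  have hQx : ∀ k ∈ Q, k • x₀ = x₀ := fun k hk => (hstab k).2 (hQN hk)
  have hne : ∀ k ∈ Q, ∀ y, y ≠ x₀ → k • y ≠ x₀ := fun k hk y hy e =>
    hy (smul_left_cancel k (e.trans (hQx k hk).symm))
  have hreg : ∀ y z : G ⧸ N, y ≠ x₀ → z ≠ x₀ → ∃! k : Q, (k : G) • y = z := by
    intro y z hy hz
    haveI := Fintype.ofFinite (G ⧸ N)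
    let f : Q → {w : G ⧸ N // w ≠ x₀} := fun k => ⟨(k : G) • y, hne k k.2 y hy⟩
    have hf : Function.Bijective f := by
      refine (Nat.bijective_iff_injective_and_card f).2 ⟨fun k l e => ?_, ?_⟩
      · have e' : (k : G) • y = (l : G) • y := congrArg Subtype.val e
        refine Subtype.ext (inv_mul_eq_one.1 ?_).symm
        refine hfree _ (Q.mul_mem (Q.inv_mem l.2) k.2) y hy ?_
        rw [mul_smul, e', inv_smul_smul]
      · rw [← hqdef, Nat.card_eq_fintype_card (α := {w : G ⧸ N // w ≠ x₀}),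
          Fintype.card_subtype_compl, Fintype.card_subtype_eq, ← Nat.card_eq_fintype_card, hΩ]
        omega
    obtain ⟨k, hk⟩ := hf.2 ⟨z, hz⟩
    exact ⟨k, congrArg Subtype.val hk, fun l hl => hf.1 (Subtype.ext (hl.trans (congrArg Subtype.val hk).symm))⟩
  have hpair : ∀ y z : G ⧸ N, y ≠ z → ∃ g : G, g • y = x₀ ∧ g • z = b := by
    intro y z hyz
    obtain ⟨g, hg⟩ := MulAction.exists_smul_eq G y x₀
    have hz : g • z ≠ x₀ := fun e => hyz (smul_left_cancel g (hg.trans e.symm))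
    obtain ⟨k, hk, -⟩ := hreg (g • z) b hz hbx
    exact ⟨k * g, by rw [mul_smul, hg, hQx k k.2], by rw [mul_smul, hk]⟩
  have hDb : ∀ δ ∈ D, δ • b = b := by
    intro δ hδ
    have h1 : u⁻¹ * δ * u ∈ N := by
      refine hDN ?_
      have e : u⁻¹ = u := inv_of_two hu2
      have : u⁻¹ * δ * u = u * δ * u⁻¹ := by rw [e]
      rw [this, huinv δ hδ]
      exact D.inv_mem hδ
    rw [hb, ← mul_smul, show δ * u = u * (u⁻¹ * δ * u) by group, mul_smul, (hstab _).2 h1]
  have htwo : ∀ g : G, g • x₀ = x₀ → g • b = b → g ∈ D := by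
    intro g hg hgb
    obtain ⟨a, ha, δ, hδ, rfl⟩ := hmem g ((hstab g).1 hg)
    rw [mul_smul, hDb δ hδ] at hgb
    rw [hfree a ha b hbx hgb, one_mul]
    exact hδ
  have hthree : ∀ g : G, ∀ a c e : G ⧸ N, a ≠ c → c ≠ e → a ≠ e →
      g • a = a → g • c = c → g • e = e → g = 1 := by
    intro g a c e hac hce hae hga hgc hge
    obtain ⟨h, hha, hhc⟩ := hpair a c hac
    set δ := h * g * h⁻¹ with hδdef
    have hδfix : ∀ w : G ⧸ N, g • w = w → δ • (h • w) = h • w := fun w hw => by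
      rw [hδdef, ← mul_smul, show h * g * h⁻¹ * h = h * g by group, mul_smul, hw]
    have hδ : δ ∈ D := htwo δ (hha ▸ hδfix a hga) (hhc ▸ hδfix c hgc)
    have he1 : h • e ≠ x₀ := fun e' => hae (smul_left_cancel h (hha.trans e'.symm))
    have he2 : h • e ≠ b := fun e' => hce (smul_left_cancel h (hhc.trans e'.symm))
    obtain ⟨k, hk, -⟩ := hreg b (h • e) hbx he1
    have h1 : δ * k * δ⁻¹ = k := by
      obtain ⟨w, -, hw⟩ := hreg b (h • e) hbx he1
      have e1 : (⟨δ * k * δ⁻¹, hconjQ δ hδ k k.2⟩ : Q) = w := hw _ (by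
        show (δ * k * δ⁻¹) • b = h • e
        rw [mul_smul, mul_smul, inv_smul_eq_iff.2 (hDb δ hδ).symm, hk, hδfix e hge])
      exact congrArg Subtype.val (e1.trans (hw k hk).symm)
    have hk1 : (k : G) ≠ 1 := fun e' => he2 (by rw [← hk, e', one_smul])
    have : δ ∈ Subgroup.centralizer ({(k : G)} : Set G) := by
      rw [Subgroup.mem_centralizer_singleton_iff]
      exact mul_inv_eq_iff_eq_mul.1 h1
    rw [hself k k.2 hk1] at this
    have hδ1 : δ = 1 := hone δ this hδ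
    rw [hδdef] at hδ1
    exact conj_eq_one_iff.1 hδ1
  have hfaith : FaithfulSMul G (G ⧸ N) := by
    refine ⟨fun {g g'} hg => ?_⟩
    have h1 : ∀ y : G ⧸ N, (g'⁻¹ * g) • y = y := fun y => by rw [mul_smul, hg, inv_smul_smul]
    obtain ⟨k, hk, hk1⟩ : ∃ k ∈ Q, k ≠ 1 := (Subgroup.bot_or_exists_ne_one Q).resolve_left fun e => by
      rw [hqdef, e, Subgroup.card_bot] at hq3
      omega
    refine (inv_mul_eq_one.1 (hthree (g'⁻¹ * g) x₀ b (k • b) hbx.symm
      (fun e => hk1 (hfree k hk b hbx e.symm)) (hne k hk b hbx).symm (h1 _) (h1 _) (h1 _))).symm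
  have hZ : Cfsg.IsZassenhausGroup G (G ⧸ N) := by
    refine ⟨hfaith, ?_, hthree, ⟨δ₀, hδ₀1, x₀, b, hbx.symm, (hstab δ₀).2 (hDN hδ₀), hDb δ₀ hδ₀⟩, ?_⟩
    · rw [is_two_pretransitive_iff]
      intro a c e f hac hef
      obtain ⟨g, hg1, hg2⟩ := hpair a c hac
      obtain ⟨g', hg1', hg2'⟩ := hpair e f hef
      exact ⟨g'⁻¹ * g, by rw [mul_smul, hg1, inv_smul_eq_iff, hg1'],
        by rw [mul_smul, hg2, inv_smul_eq_iff, hg2']⟩
    · intro M hM hMt
      rcases hM.eq_bot_or_eq_top with rfl | rfl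
      · exfalso
        obtain ⟨⟨m, hm⟩, hm'⟩ := hMt.exists_smul_eq x₀ b
        rw [Subgroup.mem_bot] at hm
        subst hm
        have e : (1 : G) • x₀ = b := hm'
        exact hbx (by rw [← e, one_smul])
      · refine ⟨x₀, fun e => hδ₀1 ?_⟩
        have h1 : (⟨δ₀, Subgroup.mem_top δ₀⟩ : (⊤ : Subgroup G)) ∈
            MulAction.stabilizer (⊤ : Subgroup G) x₀ := (hstab δ₀).2 (hDN hδ₀)
        exact congrArg Subtype.val ((Subgroup.eq_bot_iff_forall _).1 e _ h1)
  have hQab : IsMulCommutative Q := by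
    refine ⟨⟨fun a c => Subtype.ext ?_⟩⟩
    show (a : G) * c = c * a
    by_cases ha : (a : G) = 1
    · simp [ha]
    · have : (c : G) ∈ Subgroup.centralizer ({(a : G)} : Set G) := by rw [hself a a.2 ha]; exact c.2
      exact (Subgroup.mem_centralizer_singleton_iff.1 this).symm
  have hQn : (Q.subgroupOf (MulAction.stabilizer G x₀)).Normal := by
    refine ⟨fun k hk g => ?_⟩
    have hgN : (g : G) ∈ N := (hstab g).1 g.2
    exact (Subgroup.mem_normalizer_iff.1 hgN _).1 hk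
  rcases Cfsg.Agent.S0731.result hZ x₀ Q (fun k hk => hQx k hk) hQn hQab hreg with
    ⟨h3, h3'⟩ | ⟨F, hF, hFf, hchar, hiso⟩
  · exfalso
    haveI := Fintype.ofFinite (G ⧸ N)
    obtain ⟨k, hk, hk1⟩ : ∃ k ∈ Q, k ≠ 1 := (Subgroup.bot_or_exists_ne_one Q).resolve_left fun e => by
      rw [hqdef, e, Subgroup.card_bot] at hq3
      omega
    have hkb : k • b ≠ b := fun e => hk1 (hfree k hk b hbx e)
    have h2 := card_of_sharp h3 h3' hbx.symm hkb.symm (hne k hk b hbx).symm
    rw [hΩ, show q + 1 - 1 = q by omega, show q + 1 - 2 = q - 1 by omega] at h2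
    rw [show q - 1 = 2 * d by omega, hG] at h2
    have hp : 0 < q * d * (q + 1) := by positivity
    have : q * d * (q + 1) = 2 * (q * d * (q + 1)) := by linear_combination h2
    omega
  · exact ⟨F, hF, hFf, Nat.odd_iff.2 (FiniteField.odd_card_of_char_ne_two hchar), hiso⟩

end Cfsg.Agent.BSW84
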