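import Mathlib
import Cfsg.Agent.Lib.ComponentsBasic
import Cfsg.Agent.Lib.ComponentsCores
import Cfsg.Agent.Lib.ComponentsFitting

/-! Structure of subnormal subgroups of the generalised Fitting subgroup. -/

set_option autoImplicit false

open Cfsg Subgroup
open scoped Pointwise commutatorElement IsMulCommutative

namespace Cfsg.Agent.GenFittingStructure

open Cfsg.Agent.ComponentsBasic Cfsg.Agent.ComponentsFitting Cfsg.Agent.ComponentsCores

variable {G : Type*} [Group G] [Finite G]

/-- An element normalising every member of a family normalises its join. -/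
theorem le_normalizer_sSup {K : Subgroup G} (S : Set (Subgroup G))
    (h : ∀ L ∈ S, K ≤ normalizer (L : Set G)) : K ≤ normalizer ((sSup S : Subgroup G) : Set G) := by
  have key : ∀ k ∈ K, ∀ y ∈ sSup S, k * y * k⁻¹ ∈ sSup S := by
    intro k hk y hy
    have hle : sSup S ≤ (sSup S).comap (MulAut.conj k).toMonoidHom :=
      sSup_le fun L hL y hy => (le_sSup hL : L ≤ sSup S) ((mem_normalizer_iff.mp (h L hL hk) y).mp hy)
    exact hle hy
  intro k hk
  rw [mem_normalizer_iff]
  refine fun y => ⟨key k hk y, fun hy => ?_⟩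
  have h2 := key k⁻¹ (inv_mem hk) _ hy
  simpa [mul_assoc] using h2

theorem subnormal_of_le_gen {S : Subgroup G} (hS : S ≤ generalizedFittingSubgroup G)
    (hsn : (S.subgroupOf (generalizedFittingSubgroup G)).IsSubnormal) : S.IsSubnormal := by
  have := isSubnormal_map_normal (K := generalizedFittingSubgroup G) hsn
  rwa [map_subgroupOf_eq_of_le hS] at this

theorem exists_mem_layer_fitting {x : G} (hx : x ∈ generalizedFittingSubgroup G) :
    ∃ e ∈ layer G, ∃ f ∈ fittingSubgroup G, x = e * f := by
  have hn : layer G ≤ normalizer (fittingSubgroup G : Set G) :=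
    (layer_le_centralizer_fitting).trans (centralizer_le_normalizer _)
  have : x ∈ ((layer G : Set G) * (fittingSubgroup G : Set G)) := by
    rw [← coe_mul_of_left_le_normalizer_right _ _ hn]
    exact hx
  obtain ⟨e, he, f, hf, rfl⟩ := Set.mem_mul.mp this
  exact ⟨e, he, f, hf, rfl⟩

theorem center_layer_le_fitting :
    (center ↥(layer G)).map (layer G).subtype ≤ fittingSubgroup G := by
  haveI : ((center ↥(layer G)).map (layer G).subtype).Normal := inferInstance
  refine le_fitting ?_
  refine (isNilpotent_map_subtype_iff _).mpr ?_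
  infer_instance

theorem fitting_inf_layer :
    (center ↥(layer G)).map (layer G).subtype = fittingSubgroup G ⊓ layer G := by
  refine le_antisymm (le_inf center_layer_le_fitting (map_subtype_le _)) ?_
  intro x hx
  refine ⟨⟨x, hx.2⟩, mem_center_iff.mpr fun y => Subtype.ext ?_, rfl⟩
  exact (mem_centralizer_iff.mp (layer_le_centralizer_fitting y.2) x hx.1).symm

/-- A solvable subnormal subgroup inside the generalised Fitting subgroup lies in the Fitting subgroup. -/
theorem solvable_le_fitting {T : Subgroup G} (hT : T.IsSubnormal)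
    [Group.IsSolvable T] (hle : T ≤ generalizedFittingSubgroup G) : T ≤ fittingSubgroup G := by
  intro t ht
  obtain ⟨e, he, f, hf, rfl⟩ := exists_mem_layer_fitting (hle ht)
  refine mul_mem (center_layer_le_fitting (G := G) ⟨⟨e, he⟩, mem_center_iff.mpr fun y => Subtype.ext ?_, rfl⟩) hf
  have hc := commutator_eq_bot_iff_le_centralizer.mp (layer_commute_solvable hT) y.2
  have h1 : e * f * (y : G) = (y : G) * (e * f) := mem_centralizer_iff.mp hc _ ht
  have h2 : f * (y : G) = (y : G) * f := mem_centralizer_iff.mp (layer_le_centralizer_fitting y.2) f hf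
  show (y : G) * e = e * (y : G)
  calc (y : G) * e = (y : G) * (e * f) * f⁻¹ := by group
    _ = e * (f * (y : G)) * f⁻¹ := by rw [← h1]; group
    _ = e * (y : G) := by rw [h2]; group

/-- A subnormal subgroup of `F*(G)` is the join of its own layer and Fitting subgroup. -/
theorem subnormal_gen_eq {S : Subgroup G} (hS : S.IsSubnormal)
    (hle : S ≤ generalizedFittingSubgroup G) :
    (fittingSubgroup S).map S.subtype ⊔ (layer S).map S.subtype = S := by
  refine le_antisymm (sup_le (map_subtype_le _) (map_subtype_le _)) ?_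
  set E2 := sSup {L : Subgroup G | IsComponent L ∧ ¬ L ≤ S}
  set E1 := sSup {L : Subgroup G | IsComponent L ∧ L ≤ S}
  set F := fittingSubgroup G
  set X := generalizedFittingSubgroup G
  have hE2 : S ≤ centralizer (E2 : Set G) := by
    rw [le_centralizer_iff]
    exact sSup_le fun L hL => commutator_eq_bot_iff_le_centralizer.mp
      ((component_le_or_commute hL.1 hS).resolve_left hL.2)
  have hE2X : E2 ≤ layer G := sSup_le fun L hL => component_le_layer hL.1
  have hX : X ≤ normalizer (E2 : Set G) := by
    refine le_normalizer_sSup _ fun L hL => sup_le (layer_le_normalizer_component hL.1) ?_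
    refine le_trans ?_ (centralizer_le_normalizer _)
    rw [le_centralizer_iff]
    exact (component_le_layer hL.1).trans layer_le_centralizer_fitting
  have hE1X : E1 ≤ X := sSup_le fun L hL => component_le_gen hL.1
  have hlay : layer G ≤ E1 ⊔ E2 := sSup_le fun L hL => by
    by_cases h : L ≤ S
    · exact le_sup_of_le_left (le_sSup ⟨hL, h⟩)
    · exact le_sup_of_le_right (le_sSup ⟨hL, h⟩)
  set R := E2 ⊔ F
  have hR : X ≤ normalizer (R : Set G) := by
    intro x hx
    rw [mem_normalizer_iff]
    have key : ∀ z ∈ X, ∀ y ∈ R, z * y * z⁻¹ ∈ R := by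
      intro z hz y hy
      have hle : R ≤ R.comap (MulAut.conj z).toMonoidHom := sup_le
        (fun y hy => mem_sup_left ((mem_normalizer_iff.mp (hX hz) y).mp hy))
        (fun y hy => mem_sup_right ((inferInstance : F.Normal).conj_mem y hy z))
      exact hle hy
    refine fun y => ⟨key x hx y, fun hy => ?_⟩
    have h2 := key x⁻¹ (inv_mem hx) _ hy
    simpa [mul_assoc] using h2
  have hXle : X ≤ E1 ⊔ R := sup_le (hlay.trans (sup_le le_sup_left (le_sup_of_le_right le_sup_left)))
    (le_sup_of_le_right le_sup_right)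
  have hT : (S ⊓ R).IsSubnormal := by
    refine isSubnormal_of_le_normalizer inf_le_left hS fun s hs => ?_
    rw [mem_normalizer_iff]
    intro y
    simp only [SetLike.mem_coe, mem_inf]
    rw [← mem_normalizer_iff.mp (hR (hle hs)) y, ← mem_normalizer_iff.mp (le_normalizer hs) y]
  have hTT : ∀ a ∈ S ⊓ R, ∀ b ∈ S ⊓ R, a * b * a⁻¹ * b⁻¹ ∈ F := by
    intro a ha b hb
    have hn : E2 ≤ normalizer (F : Set G) :=
      hE2X.trans (layer_le_centralizer_fitting.trans (centralizer_le_normalizer _))
    have : b ∈ ((E2 : Set G) * (F : Set G)) := by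
      rw [← coe_mul_of_left_le_normalizer_right _ _ hn]; exact hb.2
    obtain ⟨e, he, f, hf, rfl⟩ := Set.mem_mul.mp this
    have hae : e * a = a * e := mem_centralizer_iff.mp (hE2 ha.1) e he
    have h1 : a * (e * f) * a⁻¹ * (e * f)⁻¹ = e * (a * f * a⁻¹ * f⁻¹) * e⁻¹ := by
      calc a * (e * f) * a⁻¹ * (e * f)⁻¹ = (a * e) * f * a⁻¹ * f⁻¹ * e⁻¹ := by group
        _ = _ := by rw [← hae]; group
    rw [h1]
    exact (inferInstance : F.Normal).conj_mem _
      (mul_mem ((inferInstance : F.Normal).conj_mem f hf a) (inv_mem hf)) e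
  haveI : Group.IsSolvable ↥(S ⊓ R) := by
    let f := (QuotientGroup.mk' F).comp (S ⊓ R).subtype
    haveI : Group.IsSolvable f.ker := by
      have hk : f.ker = F.subgroupOf (S ⊓ R) := by ext; simp [f, mem_subgroupOf]
      rw [hk]
      haveI : Group.IsSolvable ↥F := inferInstance
      refine Group.isSolvable_of_isSolvable_injective (f :=
        (((S ⊓ R).subtype.comp (F.subgroupOf (S ⊓ R)).subtype).codRestrict F fun x => x.2)) ?_
      intro a b h
      have h' := congrArg Subtype.val h
      exact Subtype.ext (Subtype.ext h')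
    haveI : Group.IsSolvable f.range := by
      haveI : IsMulCommutative f.range := ⟨⟨by
        rintro ⟨_, a, rfl⟩ ⟨_, b, rfl⟩
        apply Subtype.ext
        show QuotientGroup.mk' F (a : G) * QuotientGroup.mk' F (b : G) = _
        show QuotientGroup.mk' F (a : G) * QuotientGroup.mk' F (b : G) = QuotientGroup.mk' F (b : G) * QuotientGroup.mk' F (a : G)
        rw [← map_mul, ← map_mul]
        refine QuotientGroup.eq_iff_div_mem.mpr ?_
        have := hTT _ a.2 _ b.2
        simpa [div_eq_mul_inv, mul_inv_rev, mul_assoc] using this⟩⟩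
      exact isSolvable_of_commutative
    exact Group.isSolvable_of_ker_le_range f.ker.subtype f.rangeRestrict (by simp [MonoidHom.ker_rangeRestrict])
  have hTF : S ⊓ R ≤ F := solvable_le_fitting hT (inf_le_left.trans hle)
  intro s hs
  have hn : E1 ≤ normalizer (R : Set G) := hE1X.trans hR
  have : s ∈ ((E1 : Set G) * (R : Set G)) := by
    rw [← coe_mul_of_left_le_normalizer_right _ _ hn]
    exact hXle (hle hs)
  obtain ⟨e, he, r, hr, rfl⟩ := Set.mem_mul.mp this
  have heS : e ∈ S := (sSup_le fun L hL => hL.2 : E1 ≤ S) he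
  have hrS : r ∈ S := (mul_mem_cancel_left heS).mp hs
  refine mul_mem (mem_sup_right ?_) (mem_sup_left ?_)
  · rw [layer_map_subtype hS]; exact he
  · rw [fitting_map_subtype_eq hS]
    exact ⟨hTF ⟨hrS, hr⟩, hrS⟩

end Cfsg.Agent.GenFittingStructure
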