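import Mathlib
import Cfsg.Prelude.Def_Balance
import Cfsg.Agent.Lib.HallCore
import Cfsg.Agent.Lib.ComponentsBasic
import Cfsg.Agent.Lib.ComponentsCores
import Cfsg.Agent.Lib.ComponentsFitting
import Cfsg.Agent.Lib.ComponentsNormalizer
import Cfsg.Agent.Lib.GenFittingStructure
import Cfsg.Agent.Lib.ThompsonAQ
import Cfsg.Agent.Lib.CoprimeGen

/-! Components of a group with trivial `p'`-core under the action of `p`-local subgroups. -/

set_option autoImplicit false
set_option linter.style.haveILetI false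

open Cfsg Subgroup
open scoped Pointwise commutatorElement

namespace Cfsg.Agent.LayerBalance

open Cfsg.Agent.ComponentsBasic Cfsg.Agent.ComponentsCores Cfsg.Agent.ComponentsFitting

variable {G : Type*} [Group G]

/-- The preimage in `H` of the layer of `H / O_{p'}(H)`. -/
def layerPre (p : ℕ) (H : Type*) [Group H] : Subgroup H :=
  (layer (H ⧸ pPrimeCore p H)).comap (QuotientGroup.mk' (pPrimeCore p H))

/-- Conjugation `L^g = g L g⁻¹`. -/
abbrev cj (g : G) (L : Subgroup G) : Subgroup G := L.map (MulAut.conj g).toMonoidHom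

theorem cj_mul (g h : G) (L : Subgroup G) : cj g (cj h L) = cj (g * h) L := by
  rw [cj, cj, cj, Subgroup.map_map]
  congr 1
  ext x
  simp [mul_assoc]

theorem cj_one (L : Subgroup G) : cj (1 : G) L = L := by
  ext x
  simp [cj]

theorem cj_eq_iff {g : G} {L : Subgroup G} : cj g L = L ↔ g ∈ normalizer (L : Set G) :=
  mem_normalizer_iff_map_conj_eq.symm

variable [Finite G] {p : ℕ} [hp : Fact p.Prime]

theorem coprime_of_pGroup {K : Subgroup G} (hK : IsPGroup p K) {D : Subgroup G}
    (hD : (Nat.card D).Coprime p) : (Nat.card K).Coprime (Nat.card D) := by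
  obtain ⟨n, hn⟩ := IsPGroup.iff_card.1 hK
  rw [hn]; exact hD.symm.pow_left n

theorem eq_one_of_pPower_coprime {g : G} {k n : ℕ} (h1 : g ^ p ^ k = 1) (h2 : orderOf g ∣ n)
    (hn : n.Coprime p) : g = 1 :=
  orderOf_eq_one_iff.mp
    (Nat.eq_one_of_dvd_coprimes (hn.symm.pow_left k) (orderOf_dvd_of_pow_eq_one h1) h2)

theorem isPGroup_quotient_or (H : Type*) [Group H] [Finite H] (K : Subgroup H) [K.Normal]
    (h : ∀ x : H, (orderOf x).Coprime p → x ∈ K) : IsPGroup p (H ⧸ K) := by
  rintro ⟨x⟩
  obtain ⟨k, m, hm, he⟩ := Nat.exists_eq_pow_mul_and_not_dvd (orderOf_pos x).ne' p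
    (Fact.out : p.Prime).ne_one
  refine ⟨k, ?_⟩
  show ((QuotientGroup.mk x : H ⧸ K)) ^ p ^ k = 1
  rw [← QuotientGroup.mk_pow, QuotientGroup.eq_one_iff]
  refine h _ ?_
  rw [orderOf_pow' x (pow_ne_zero k (Fact.out : p.Prime).pos.ne'), he, Nat.gcd_mul_right_left,
    Nat.mul_div_cancel_left _ (pow_pos (Fact.out : p.Prime).pos k)]
  exact ((Fact.out : p.Prime).coprime_iff_not_dvd.mpr hm).symm

/-! ### The preimage of the layer of `H/O_{p'}(H)` -/

theorem layerPre_le_closure (H : Type*) [Group H] [Finite H] :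
    layerPre p H ≤ closure {x | x ∈ layerPre p H ∧ (orderOf x).Coprime p} := by
  set X := layerPre p H
  set S : Set X := {x | (orderOf x).Coprime p}
  set K := closure S
  haveI hKn : K.Normal := by
    constructor
    intro n hn g
    have : K ≤ K.comap (MulAut.conj g).toMonoidHom := by
      rw [closure_le]
      intro s hs
      refine mem_comap.mpr (subset_closure ?_)
      show (orderOf ((MulAut.conj g) s)).Coprime p
      rw [MulEquiv.orderOf_eq]
      exact hs
    exact this hn
  have hp' : IsPGroup p (X ⧸ K) := isPGroup_quotient_or X K fun x hx => subset_closure hx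
  have hD : (pPrimeCore p H).subgroupOf X ≤ K := by
    intro d hd
    refine subset_closure ?_
    show (orderOf d).Coprime p
    rw [← orderOf_coe]
    exact (HallCore.coprime_card_pPrimeCore p H).coprime_dvd_left (orderOf_dvd_natCard _ hd)
  have htop : K = ⊤ := by
    by_contra hne
    haveI : Nontrivial (X ⧸ K) := QuotientGroup.nontrivial_iff.mpr hne
    haveI := hp'.isNilpotent
    haveI : Group.IsSolvable (X ⧸ K) := inferInstance
    apply (Group.IsSolvable.commutator_lt_top_of_nontrivial (X ⧸ K)).ne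
    rw [eq_top_iff]
    rintro ⟨x⟩ -
    -- lift to the perfect layer of the quotient
    have hx : QuotientGroup.mk' (pPrimeCore p H) (x : H) ∈
        (⁅X, X⁆).map (QuotientGroup.mk' (pPrimeCore p H)) := by
      rw [map_commutator, show X.map (QuotientGroup.mk' (pPrimeCore p H)) = layer (H ⧸ pPrimeCore p H)
        from map_comap_eq_self_of_surjective (QuotientGroup.mk'_surjective _) _, layer_perfect]
      exact x.2
    obtain ⟨c, hc, hcx⟩ := hx
    rw [show ⁅X, X⁆ = (commutator X).map X.subtype by rw [map_subtype_commutator]] at hc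
    obtain ⟨c, hc, rfl⟩ := hc
    have hcd : c⁻¹ * x ∈ K := hD (by
      rw [mem_subgroupOf]
      exact QuotientGroup.eq.mp hcx)
    have : (QuotientGroup.mk x : X ⧸ K) = QuotientGroup.mk c := (QuotientGroup.eq.mpr hcd).symm
    show (QuotientGroup.mk x : X ⧸ K) ∈ commutator (X ⧸ K)
    rw [this]
    have h3 := map_derivedSeries_le_derivedSeries (QuotientGroup.mk' K) 1
    rw [derivedSeries_one, derivedSeries_one] at h3
    exact h3 ⟨c, hc, rfl⟩
  intro x hx
  have h1 : (⟨x, hx⟩ : X) ∈ K := htop ▸ mem_top _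
  have h2 := mem_map_of_mem X.subtype h1
  rw [MonoidHom.map_closure] at h2
  refine closure_mono ?_ h2
  rintro _ ⟨s, hs, rfl⟩
  exact ⟨s.2, show (orderOf (s : H)).Coprime p by rw [orderOf_coe]; exact hs⟩

/-- The preimage of the layer centralises every normal `p`-subgroup. -/
theorem layerPre_commute_normal (H : Type*) [Group H] [Finite H] (T : Subgroup H) [T.Normal]
    (hT : IsPGroup p T) : layerPre p H ≤ centralizer (T : Set H) := by
  rw [← commutator_eq_bot_iff_le_centralizer, eq_bot_iff, commutator_le]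
  intro x hx t ht
  have h1 : ⁅x, t⁆ ∈ T := by
    rw [commutatorElement_def]
    exact mul_mem ((inferInstance : T.Normal).conj_mem t ht x) (inv_mem ht)
  haveI : (T.map (QuotientGroup.mk' (pPrimeCore p H))).Normal :=
    Normal.map inferInstance _ (QuotientGroup.mk'_surjective _)
  haveI : Group.IsSolvable ↥(T.map (QuotientGroup.mk' (pPrimeCore p H))) := by
    haveI := (hT.map (QuotientGroup.mk' (pPrimeCore p H))).isNilpotent
    infer_instance
  have h2 : ⁅x, t⁆ ∈ pPrimeCore p H := by
    rw [← QuotientGroup.eq_one_iff]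
    show QuotientGroup.mk' (pPrimeCore p H) ⁅x, t⁆ = 1
    rw [map_commutatorElement, ← mem_bot,
      ← layer_commute_solvable (H := T.map (QuotientGroup.mk' (pPrimeCore p H))) (Normal.isSubnormal inferInstance)]
    exact commutator_mem_commutator hx (mem_map_of_mem _ ht)
  have h3 := inf_eq_bot_of_coprime (coprime_of_pGroup hT (HallCore.coprime_card_pPrimeCore p H))
  exact h3.le ⟨h1, h2⟩

/-! ### Facts about a group with trivial `p'`-core -/

theorem fitting_eq_pCore (hO : pPrimeCore p G = ⊥) : fittingSubgroup G = pCore p G := by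
  refine le_antisymm ?_ (pCore_le_fitting Fact.out)
  rw [fittingSubgroup_eq_iSup]
  refine iSup_le fun ⟨q, hq⟩ => ?_
  have hq' := Nat.prime_of_mem_primeFactors hq
  haveI := Fact.mk hq'
  rcases eq_or_ne q p with rfl | hne
  · exact le_rfl
  · refine le_trans (HallCore.le_pPrimeCore (p := p) ?_) (hO.le.trans bot_le)
    obtain ⟨n, hn⟩ := IsPGroup.iff_card.mp (ComponentsCores.isPGroup_pCore (G := G) q)
    rw [hn]
    exact ((Nat.coprime_primes hq' Fact.out).mpr hne).pow_left n

theorem center_layer_le (hO : pPrimeCore p G = ⊥) :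
    (center ↥(layer G)).map (layer G).subtype ≤ pCore p G :=
  fitting_eq_pCore hO ▸ GenFittingStructure.center_layer_le_fitting

/-- An element of the layer centralising all components is in the centre of the layer. -/
theorem mem_center_layer {u : G} (hu : u ∈ layer G)
    (h : ∀ L : Subgroup G, IsComponent L → u ∈ centralizer (L : Set G)) :
    u ∈ (center ↥(layer G)).map (layer G).subtype := by
  refine ⟨⟨u, hu⟩, mem_center_iff.mpr fun y => Subtype.ext ?_, rfl⟩
  have : layer G ≤ centralizer ({u} : Set G) := sSup_le fun L hL x hx =>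
    mem_centralizer_singleton_iff.mpr (mem_centralizer_iff.mp (h L hL) x hx)
  exact mem_centralizer_singleton_iff.mp (this y.2)

/-- A component of a group with trivial `p'`-core has order divisible by `p`. -/
theorem component_dvd (hO : pPrimeCore p G = ⊥) {L : Subgroup G} (hL : IsComponent L) :
    ¬ (Nat.card L).Coprime p := fun h =>
  IsComponent.ne_bot hL (le_bot_iff.mp (hO ▸ subnormal_coprime_le_pPrimeCore hL.1 h))

/-- A quasisimple group of order divisible by `p` has a non-central `p`-element. -/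
theorem exists_noncentral_pElement {K : Type*} [Group K] [Finite K] (hK : IsQuasisimple K)
    (hpK : ¬ (Nat.card K).Coprime p) : ∃ x : K, (∃ k : ℕ, x ^ p ^ k = 1) ∧ x ∉ center K := by
  by_contra hcon
  push Not at hcon
  obtain ⟨T⟩ : Nonempty (Sylow p K) := inferInstance
  have hT : (T : Subgroup K) ≤ center K := fun x hx => by
    obtain ⟨k, hk⟩ := T.2 ⟨x, hx⟩
    exact hcon x ⟨k, congrArg Subtype.val hk⟩
  haveI : (T : Subgroup K).Normal := ⟨fun n hn g => by
    rw [show g * n * g⁻¹ = n by rw [mem_center_iff.mp (hT hn) g]; group]; exact hn⟩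
  obtain ⟨C, hC⟩ := exists_right_complement'_of_coprime T.card_coprime_index
  have hCn : C.Normal := by
    constructor
    intro c hc g
    obtain ⟨⟨t, c₀⟩, htc⟩ := hC.2 g
    replace htc : (t : K) * c₀ = g := htc
    rw [← htc]
    have := mem_center_iff.mp (hT t.2) ((c₀ : K) * c * (c₀ : K)⁻¹)
    rw [show (t : K) * c₀ * c * ((t : K) * c₀)⁻¹ = (t : K) * ((c₀ : K) * c * (c₀ : K)⁻¹) * (t : K)⁻¹ by group,
      ← this]
    simpa [mul_assoc] using mul_mem (mul_mem c₀.2 hc) (inv_mem c₀.2)
  rcases normal_le_center_or_eq_top hK C with h | h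
  · refine isQuasisimple_center_ne_top hK (eq_top_iff.mpr fun g _ => ?_)
    obtain ⟨⟨t, c₀⟩, htc⟩ := hC.2 g
    rw [← htc]
    exact mul_mem (hT t.2) (h c₀.2)
  · have hbot : (T : Subgroup K) = ⊥ := by
      have := hC.disjoint
      rw [h, disjoint_iff, inf_top_eq] at this
      exact this
    apply hpK
    refine ((Fact.out : p.Prime).coprime_iff_not_dvd.mpr fun hd => ?_).symm
    have := Sylow.ne_bot_of_dvd_card T hd
    exact this hbot

/-- `u ∈ L` is non-central in `L` iff it is non-central in the layer; one direction. -/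
theorem not_mem_center_layer {L : Subgroup G} (hL : IsComponent L) {x : L} (hx : x ∉ center L) :
    (x : G) ∉ (center ↥(layer G)).map (layer G).subtype := by
  rintro ⟨z, hz, hzx⟩
  refine hx (mem_center_iff.mpr fun y => Subtype.ext ?_)
  have := congrArg Subtype.val (mem_center_iff.mp hz ⟨y, component_le_layer hL y.2⟩)
  simp only [Subgroup.coe_mul] at this ⊢
  rw [← hzx]
  exact this

/-- The join of the `P`-conjugates of `L`. -/
def orbitSup (P L : Subgroup G) : Subgroup G := sSup {K | ∃ a ∈ P, K = cj a L}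

theorem le_orbitSup (P L : Subgroup G) : L ≤ orbitSup P L :=
  le_sSup ⟨1, one_mem P, (cj_one L).symm⟩

theorem orbitSup_le_layer {P L : Subgroup G} (hL : IsComponent L) : orbitSup P L ≤ layer G :=
  sSup_le fun _ ⟨a, _, h⟩ => h ▸ component_le_layer (isComponent_conj hL a)

/-- Some `p`-element of the orbit sup, non-central in the layer, normalises `P ⊔ O_p(G)`. -/
theorem exists_orbit_element (hO : pPrimeCore p G = ⊥) {P L : Subgroup G} (hP : IsPGroup p P)
    (hL : IsComponent L) :
    ∃ u ∈ orbitSup P L, (∃ k : ℕ, u ^ p ^ k = 1) ∧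
      u ∉ (center ↥(layer G)).map (layer G).subtype ∧
      u ∈ normalizer ((P ⊔ pCore p G : Subgroup G) : Set G) := by
  set Q := pCore p G
  set E := orbitSup P L
  set Z := (center ↥(layer G)).map (layer G).subtype
  have hPE : P ⊔ Q ≤ normalizer (E : Set G) := by
    refine sup_le ?_ ?_
    · have key : ∀ b ∈ P, ∀ y ∈ E, b * y * b⁻¹ ∈ E := by
        intro b hb y hy
        have hle : E ≤ E.comap (MulAut.conj b).toMonoidHom := sSup_le fun K ⟨a, ha, hK⟩ x hx => by
          refine (le_sSup ⟨b * a, mul_mem hb ha, rfl⟩ : cj (b * a) L ≤ E) ?_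
          rw [← cj_mul, ← hK]
          exact mem_map_of_mem _ hx
        exact hle hy
      intro b hb
      rw [mem_normalizer_iff]
      refine fun y => ⟨key b hb y, fun hy => ?_⟩
      have h2 := key b⁻¹ (inv_mem hb) _ hy
      simpa [mul_assoc] using h2
    · refine le_trans ?_ (centralizer_le_normalizer _)
      rw [le_centralizer_iff]
      refine (orbitSup_le_layer hL).trans (layer_le_centralizer_fitting.trans ?_)
      exact centralizer_le (pCore_le_fitting Fact.out)
  set H := (P ⊔ Q) ⊔ E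
  have hR₀ : IsPGroup p ↥(P ⊔ Q : Subgroup G) :=
    hP.to_sup_of_normal_right (ComponentsCores.isPGroup_pCore p)
  obtain ⟨R, hR⟩ := (hR₀.comap_of_injective H.subtype H.subtype_injective).exists_le_sylow
  set R' := (R : Subgroup H).map H.subtype
  have hPR : P ⊔ Q ≤ R' := by
    rw [← map_subgroupOf_eq_of_le (le_sup_left : P ⊔ Q ≤ H)]
    exact map_mono hR
  have hHE : H ≤ normalizer (E : Set G) := sup_le hPE le_normalizer
  have hZn : Z.Normal := inferInstance
  -- a non-central element of `R' ⊓ E`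
  obtain ⟨x, ⟨k, hxk⟩, hxc⟩ := exists_noncentral_pElement hL.2 (component_dvd hO hL)
  have hxG := not_mem_center_layer hL hxc
  have hxH : (x : G) ∈ H := mem_sup_right (le_orbitSup P L x.2)
  have hxp : IsPGroup p ↥(zpowers (⟨x, hxH⟩ : H)) := by
    refine IsPGroup.of_card_dvd_pow (n := k) ?_
    rw [Nat.card_zpowers]
    exact orderOf_dvd_of_pow_eq_one (Subtype.ext (by simpa using congrArg Subtype.val hxk))
  obtain ⟨R₂, hR₂⟩ := hxp.exists_le_sylow
  obtain ⟨g, hg⟩ := MulAction.exists_smul_eq H R₂ R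
  set y : G := (g : G) * x * (g : G)⁻¹
  have hyR : y ∈ R' := by
    refine ⟨g * ⟨x, hxH⟩ * g⁻¹, ?_, rfl⟩
    rw [← hg]
    exact ⟨⟨x, hxH⟩, hR₂ (mem_zpowers _), rfl⟩
  have hyE : y ∈ E := (mem_normalizer_iff.mp (hHE g.2) x).mp (le_orbitSup P L x.2)
  have hyZ : y ∉ Z := fun h => hxG (by
    have h' := hZn.conj_mem y h (g : G)⁻¹
    have e : (g : G)⁻¹ * y * ((g : G)⁻¹)⁻¹ = (x : G) := by simp only [y]; group
    rwa [e] at h')
  -- a central element of `(R' ⊓ E) Z / Z`
  haveI : Group.IsNilpotent R' := (R.2.map H.subtype).isNilpotent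
  haveI hEn : (E.subgroupOf R').Normal := by
    refine ⟨fun n hn r => ?_⟩
    exact (mem_normalizer_iff.mp (hHE (map_subtype_le _ r.2)) (n : G)).mp hn
  haveI : (Z.subgroupOf R').Normal := Subgroup.normal_subgroupOf
  set f := QuotientGroup.mk' (Z.subgroupOf R')
  haveI : ((E.subgroupOf R').map f).Normal := Normal.map inferInstance _ (QuotientGroup.mk'_surjective _)
  have hne : (E.subgroupOf R').map f ≠ ⊥ := by
    rw [Ne, Subgroup.map_eq_bot_iff, QuotientGroup.ker_mk']
    intro h
    exact hyZ (h (x := (⟨y, hyR⟩ : R')) hyE)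
  obtain ⟨_, ⟨u, huE, rfl⟩, hu1, huc⟩ := ThompsonAQ.exists_central_mem hne
  obtain ⟨k', hk'⟩ := (R.2.map H.subtype) u
  refine ⟨u, huE, ⟨k', congrArg Subtype.val hk'⟩,
    fun h => hu1 ((QuotientGroup.eq_one_iff u).mpr h), ?_⟩
  -- `u` normalises `P ⊔ Q`
  have key : ∀ v : R', f v ∈ center (R' ⧸ Z.subgroupOf R') → ∀ w ∈ P ⊔ Q,
      (v : G) * w * (v : G)⁻¹ ∈ P ⊔ Q := by
    intro v hv w hw
    have h1 := mem_center_iff.mp hv (f ⟨w, hPR hw⟩)
    have h2 : f (v * ⟨w, hPR hw⟩ * v⁻¹ * (⟨w, hPR hw⟩)⁻¹) = 1 := by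
      simp only [map_mul, map_inv]
      rw [← h1]; group
    have h3 : ((v : G) * w * (v : G)⁻¹ * w⁻¹) ∈ Z :=
      ((QuotientGroup.eq_one_iff (N := Z.subgroupOf R') _).mp h2 :)
    have := mul_mem (mem_sup_right (S := P) (center_layer_le hO h3)) hw
    simpa using this
  rw [mem_normalizer_iff]
  refine fun w => ⟨key u huc w, fun hw => ?_⟩
  have := key u⁻¹ (by rw [map_inv]; exact inv_mem huc) _ hw
  simpa [mul_assoc] using this

/-! ### A `p`-local subgroup `C(P) ≤ H ≤ N(P)` -/

section Local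

variable (p)
/-- `C(P) ∩ C(O_p(G))`. -/
def cent (P : Subgroup G) : Subgroup G := centralizer (P : Set G) ⊓ centralizer (pCore p G : Set G)

variable {p}
variable (hO : pPrimeCore p G = ⊥) {P H : Subgroup G} (hP : IsPGroup p P)
  (hPH : P ≤ H) (hCH : centralizer (P : Set G) ≤ H) (hHN : H ≤ normalizer (P : Set G))

include hP hPH hCH hHN

theorem normal_P : (P.subgroupOf H).Normal := normal_subgroupOf_of_le_normalizer hHN

theorem cent_normal : ((cent p P).subgroupOf H).Normal := by
  refine ⟨fun c hc g => ?_⟩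
  obtain ⟨h1, h2⟩ := hc
  have hQ : (centralizer (pCore p G : Set G)).Normal := inferInstance
  refine ⟨?_, hQ.conj_mem _ h2 g⟩
  refine mem_centralizer_iff.mpr fun y hy => ?_
  have hy' : (g : G)⁻¹ * y * (g : G) ∈ P := by
    simpa using (mem_normalizer_iff.mp (inv_mem (hHN g.2)) y).mp hy
  have h3 := mem_centralizer_iff.mp h1 _ hy'
  show y * ((g : G) * c * (g : G)⁻¹) = (g : G) * c * (g : G)⁻¹ * y
  change (g : G)⁻¹ * y * g * (c : G) = c * ((g : G)⁻¹ * y * g) at h3
  calc y * ((g : G) * c * (g : G)⁻¹) = (g : G) * (((g : G)⁻¹ * y * g) * c) * (g : G)⁻¹ := by group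
    _ = (g : G) * (c * ((g : G)⁻¹ * y * g)) * (g : G)⁻¹ := by rw [h3]
    _ = _ := by group

theorem cent_le : cent p P ≤ H := inf_le_left.trans hCH

theorem mem_cent_of_coprime {x : H} (hx : (orderOf x).Coprime p)
    (h : ∀ T : Subgroup H, T.Normal → IsPGroup p T → x ∈ centralizer (T : Set H)) :
    (x : G) ∈ cent p P := by
  have h1 : ∀ T : Subgroup G, T ≤ H → IsPGroup p T → (T.subgroupOf H).Normal →
      ⁅zpowers (x : G), T⁆ = ⊥ := by
    intro T hT hTp hTn
    rw [commutator_eq_bot_iff_le_centralizer, zpowers_le, mem_centralizer_iff]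
    intro t ht
    exact congrArg Subtype.val (mem_centralizer_iff.mp
      (h _ hTn (hTp.of_equiv (subgroupOfEquivOfLe hT).symm)) (⟨t, hT ht⟩ : H) ht)
  have hPc := h1 P hPH hP (normal_P hP hPH hCH hHN)
  have hxP : (x : G) ∈ centralizer (P : Set G) := by
    rw [← zpowers_le, ← commutator_eq_bot_iff_le_centralizer]; exact hPc
  refine ⟨hxP, ?_⟩
  have hA : (Nat.card (zpowers (x : G))).Coprime p := by
    rw [Nat.card_zpowers, orderOf_coe]; exact hx
  have hle : zpowers (x : G) ≤ centralizer (pCore p G : Set G) := by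
    refine CoprimeGen.le_centralizer_of_prod_action (B := P) (ComponentsCores.isPGroup_pCore p) hP
      ((Fact.out : p.Prime).coprime_iff_not_dvd.mp hA.symm) ?_ ?_ ?_ ?_
    · rw [normalizer_eq_top_iff.2 inferInstance]; exact le_top
    · rw [normalizer_eq_top_iff.2 inferInstance]; exact le_top
    · rw [zpowers_le]; exact hxP
    · refine (le_centralizer_iff).mp ?_
      rw [← commutator_eq_bot_iff_le_centralizer]
      refine h1 _ (inf_le_right.trans hCH) ((ComponentsCores.isPGroup_pCore p).to_le inf_le_left) ?_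
      refine ⟨fun c hc g => ⟨(inferInstance : (pCore p G).Normal).conj_mem _ hc.1 g, ?_⟩⟩
      refine mem_centralizer_iff.mpr fun y hy => ?_
      have hy' : (g : G)⁻¹ * y * (g : G) ∈ P := by
        simpa using (mem_normalizer_iff.mp (inv_mem (hHN g.2)) y).mp hy
      have h3 := mem_centralizer_iff.mp hc.2 _ hy'
      show y * ((g : G) * c * (g : G)⁻¹) = (g : G) * c * (g : G)⁻¹ * y
      calc y * ((g : G) * c * (g : G)⁻¹) = (g : G) * (((g : G)⁻¹ * y * g) * c) * (g : G)⁻¹ := by group
        _ = (g : G) * (c * ((g : G)⁻¹ * y * g)) * (g : G)⁻¹ := by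
              show _ * (((g : G)⁻¹ * y * g) * (H.subtype c)) * _ = _
              rw [show ((g : G)⁻¹ * y * g) * (H.subtype c) = (H.subtype c) * ((g : G)⁻¹ * y * g) from h3]
              rfl
        _ = _ := by group
  exact hle (mem_zpowers _)

/-- `O_{p'}(H)` centralises `P` and `O_p(G)`. -/
theorem core_le_cent : (pPrimeCore p H).map H.subtype ≤ cent p P := by
  rintro _ ⟨d, hd, rfl⟩
  refine mem_cent_of_coprime hP hPH hCH hHN
    ((HallCore.coprime_card_pPrimeCore p H).coprime_dvd_left (orderOf_dvd_natCard _ hd)) fun T hT hTp => ?_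
  refine mem_centralizer_iff.mpr fun t ht => ?_
  exact commute_of_normal_of_disjoint _ _ hT inferInstance
    (disjoint_of_coprime_natCard (coprime_of_pGroup hTp (HallCore.coprime_card_pPrimeCore p H))) t d ht hd

/-- The preimage of the layer of `H/O_{p'}(H)` centralises `P` and `O_p(G)`. -/
theorem layerPre_le_cent : (layerPre p H).map H.subtype ≤ cent p P := by
  refine (map_mono (layerPre_le_closure H)).trans ?_
  rw [map_le_iff_le_comap, closure_le]
  rintro x ⟨hx, hx'⟩
  exact mem_cent_of_coprime hP hPH hCH hHN hx' fun T hT hTp => layerPre_commute_normal H T hTp hx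

/-- `O_{p'}(H)` is `O_{p'}` of `C(P) ∩ C(O_p(G))`. -/
theorem core_eq_core_cent :
    (pPrimeCore p H).map H.subtype = (pPrimeCore p ↥(cent p P)).map (cent p P).subtype := by
  have hle := core_le_cent hP hPH hCH hHN
  have hC := cent_le hP hPH hCH hHN
  haveI hCn := cent_normal hP hPH hCH hHN
  apply le_antisymm
  · rw [← map_subgroupOf_eq_of_le hle]
    refine map_mono ?_
    haveI : (((pPrimeCore p H).map H.subtype).subgroupOf (cent p P)).Normal := by
      refine ⟨fun c hc g => ?_⟩
      obtain ⟨d, hd, hdc⟩ := hc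
      refine ⟨⟨(g : G), hC g.2⟩ * d * (⟨(g : G), hC g.2⟩ : H)⁻¹,
        (inferInstance : (pPrimeCore p H).Normal).conj_mem d hd _, ?_⟩
      simp only [map_mul, map_inv, hdc]
      rfl
    refine ComponentsCores.le_pPrimeCore' ?_
    rw [Nat.card_congr (subgroupOfEquivOfLe hle).toEquiv, card_map_of_injective H.subtype_injective]
    exact HallCore.coprime_card_pPrimeCore p H
  · have hCsub : (pPrimeCore p ↥(cent p P)).map (cent p P).subtype ≤ H := (map_subtype_le _).trans hC
    rw [← map_subgroupOf_eq_of_le hCsub]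
    refine map_mono ?_
    haveI := ComponentsCores.map_subtype_normal_subgroupOf (K := H) hCn hC (pPrimeCore p ↥(cent p P))
    refine ComponentsCores.le_pPrimeCore' ?_
    rw [Nat.card_congr (subgroupOfEquivOfLe hCsub).toEquiv,
      card_map_of_injective (cent p P).subtype_injective]
    exact HallCore.coprime_card_pPrimeCore p _

/-- `N(P ⊔ O_p(G))` normalises `C(P) ∩ C(O_p(G))` and `O_{p'}(H)`. -/
theorem normalizer_sup_le :
    normalizer ((P ⊔ pCore p G : Subgroup G) : Set G) ≤
      normalizer ((cent p P : Subgroup G) : Set G) ⊓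
        normalizer (((pPrimeCore p H).map H.subtype : Subgroup G) : Set G) := by
  have h1 : cent p P = centralizer ((P ⊔ pCore p G : Subgroup G) : Set G) := by
    refine le_antisymm ?_ (le_inf (centralizer_le (SetLike.coe_subset_coe.mpr le_sup_left)) (centralizer_le (SetLike.coe_subset_coe.mpr le_sup_right)))
    refine le_centralizer_iff.mp (sup_le ?_ ?_)
    · exact le_centralizer_iff.mp inf_le_left
    · exact le_centralizer_iff.mp inf_le_right
  have h2 : normalizer ((P ⊔ pCore p G : Subgroup G) : Set G) ≤ normalizer ((cent p P : Subgroup G) : Set G) := by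
    rw [h1]
    intro g hg
    rw [← cj_eq_iff, cj]
    refine le_antisymm ?_ ?_
    · refine (map_centralizer_le_centralizer_image _ _).trans ?_
      rw [← coe_map]
      exact le_of_eq (by rw [show map (MulEquiv.toMonoidHom (MulAut.conj g)) (P ⊔ pCore p G) = P ⊔ pCore p G from cj_eq_iff.mpr hg])
    · intro x hx
      refine ⟨g⁻¹ * x * g, mem_centralizer_iff.mpr fun y hy => ?_, by simp [mul_assoc]⟩
      have := mem_centralizer_iff.mp hx (g * y * g⁻¹) ((mem_normalizer_iff.mp hg y).mp hy)
      calc y * (g⁻¹ * x * g) = g⁻¹ * ((g * y * g⁻¹) * x) * g := by group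
        _ = g⁻¹ * (x * (g * y * g⁻¹)) * g := by rw [this]
        _ = _ := by group
  refine le_inf h2 ?_
  rw [core_eq_core_cent hP hPH hCH hHN]
  exact h2.trans (ComponentsCores.normalizer_le_normalizer_map_subtype _ _)

include hO

/-- The key: an element of `C(P) ∩ C(O_p(G))` almost centralising the orbit element fixes the orbit. -/
theorem orbit_fixed {L : Subgroup G} (hL : IsComponent L) {g u : G} (hu : u ∈ orbitSup P L)
    (hup : ∃ k : ℕ, u ^ p ^ k = 1) (huZ : u ∉ (center ↥(layer G)).map (layer G).subtype)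
    (hgu : ⁅g, u⁆ ∈ (pPrimeCore p H).map H.subtype) (hg : g ∈ cent p P) :
    ∃ a ∈ P, cj g L = cj a L := by
  by_contra hcon
  apply huZ
  have hcon' : ∀ a ∈ P, cj g L ≠ cj a L := fun a ha h => hcon ⟨a, ha, h⟩
  -- the two orbits are disjoint
  have hdis : ∀ a ∈ P, ∀ b ∈ P, cj a L ≠ cj (g * b) L := by
    intro a ha b hb h
    refine hcon' (b⁻¹ * a) (mul_mem (inv_mem hb) ha) ?_
    have hgb : g * b = b * g := (mem_centralizer_iff.mp hg.1 b hb).symm
    rw [← cj_mul, h, cj_mul, hgb]
    congr 1
    group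
  set v := g * u * g⁻¹
  have hcomp : ∀ a : G, IsComponent (cj a L) := fun a => isComponent_conj hL a
  have hu' : ∀ K : Subgroup G, IsComponent K → (∀ a ∈ P, K ≠ cj a L) → u ∈ centralizer (K : Set G) := by
    intro K hK hne
    refine (?_ : orbitSup P L ≤ centralizer (K : Set G)) hu
    refine sSup_le ?_
    rintro _ ⟨a, ha, rfl⟩
    exact commutator_eq_bot_iff_le_centralizer.mp (components_commute (hcomp a) hK (hne a ha).symm)
  have hv' : ∀ K : Subgroup G, IsComponent K → (∀ a ∈ P, K ≠ cj (g * a) L) →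
      v ∈ centralizer (K : Set G) := by
    intro K hK hne
    refine (?_ : cj g (orbitSup P L) ≤ centralizer (K : Set G)) (mem_map_of_mem _ hu)
    rw [cj, map_le_iff_le_comap]
    refine sSup_le ?_
    rintro _ ⟨a, ha, rfl⟩
    rw [← map_le_iff_le_comap]
    show cj g (cj a L) ≤ _
    rw [cj_mul]
    exact commutator_eq_bot_iff_le_centralizer.mp (components_commute (hcomp _) hK (hne a ha).symm)
  have huv : Commute v u := by
    have : orbitSup P L ≤ centralizer ({v} : Set G) := by
      refine sSup_le ?_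
      rintro _ ⟨a, ha, rfl⟩ x hx
      exact mem_centralizer_singleton_iff.mpr
        (mem_centralizer_iff.mp (hv' _ (hcomp a) fun b hb => hdis a ha b hb) x hx)
    exact (mem_centralizer_singleton_iff.mp (this hu)).symm
  obtain ⟨k, hk⟩ := hup
  have hk' : (⁅g, u⁆) ^ p ^ k = 1 := by
    rw [show ⁅g, u⁆ = v * u⁻¹ by simp [v, commutatorElement_def, mul_assoc], huv.inv_right.mul_pow,
      show v ^ p ^ k = g * u ^ p ^ k * g⁻¹ from conj_pow, inv_pow, hk]
    group
  obtain ⟨d, hd, hde⟩ := hgu
  have hdvd : orderOf ⁅g, u⁆ ∣ Nat.card (pPrimeCore p H) := by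
    rw [← hde, orderOf_injective H.subtype H.subtype_injective]
    exact orderOf_dvd_natCard _ hd
  have hgu1 := eq_one_of_pPower_coprime hk' hdvd (HallCore.coprime_card_pPrimeCore p H)
  have hveq : v = u := commutatorElement_eq_one_iff_mul_comm.mp hgu1 |> fun h => by
    show g * u * g⁻¹ = u
    rw [h]; group
  refine mem_center_layer (orbitSup_le_layer hL hu) fun K hK => ?_
  by_cases hK' : ∀ a ∈ P, K ≠ cj a L
  · exact hu' K hK hK'
  · push Not at hK'
    obtain ⟨a, ha, rfl⟩ := hK'
    rw [← hveq]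
    exact hv' _ hK fun b hb => hdis a ha b hb

/-- A `p'`-element of `C(P) ∩ C(O_p(G))` fixing each orbit fixes each component. -/
theorem fixed_of_orbit_fixed {L : Subgroup G} {g : G} (hgo : (orderOf g).Coprime p)
    (hgP : ∀ a ∈ P, g * a = a * g) {a : G} (ha : a ∈ P) (h : cj g L = cj a L) : cj g L = L := by
  have hpow : ∀ k : ℕ, cj (g ^ k) L = cj (a ^ k) L := by
    intro k
    induction k with
    | zero => simp
    | succ k ih =>
      rw [pow_succ', ← cj_mul, ih, cj_mul, hgP _ (pow_mem ha k), ← cj_mul, h, cj_mul, ← pow_succ]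
  have hn : a ^ orderOf g ∈ normalizer (L : Set G) := by
    rw [← cj_eq_iff, ← hpow, pow_orderOf_eq_one, cj_one]
  obtain ⟨k, hk⟩ := hP ⟨a, ha⟩
  have hk' : a ^ p ^ k = 1 := congrArg Subtype.val hk
  obtain ⟨m, hm⟩ := exists_pow_eq_self_of_coprime (n := orderOf g) (x := a)
    ((hgo.pow_right k).coprime_dvd_right (orderOf_dvd_of_pow_eq_one hk'))
  rw [h, cj_eq_iff, ← hm]
  exact pow_mem hn m

theorem core_orbit {L : Subgroup G} (hL : IsComponent L) {d : G}
    (hd : d ∈ (pPrimeCore p H).map H.subtype) : ∃ a ∈ P, cj d L = cj a L := by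
  obtain ⟨u, hu, hup, huZ, huN⟩ := exists_orbit_element hO hP hL
  have hn := (normalizer_sup_le hP hPH hCH hHN huN).2
  refine orbit_fixed hO hP hPH hCH hHN hL hu hup huZ ?_ (core_le_cent hP hPH hCH hHN hd)
  rw [show ⁅d, u⁆ = d * (u * d⁻¹ * u⁻¹) by simp [commutatorElement_def, mul_assoc]]
  exact mul_mem hd ((mem_normalizer_iff.mp hn _).mp (inv_mem hd))

/-- `O_{p'}(H)` fixes every component. -/
theorem core_le_normalizer {L : Subgroup G} (hL : IsComponent L) :
    (pPrimeCore p H).map H.subtype ≤ normalizer (L : Set G) := by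
  intro d hd
  obtain ⟨a, ha, h⟩ := core_orbit hO hP hPH hCH hHN hL hd
  obtain ⟨e, he, rfl⟩ := hd
  rw [← cj_eq_iff]
  refine fixed_of_orbit_fixed hO hP hPH hCH hHN ?_ (fun b hb => ?_) ha h
  · rw [orderOf_injective H.subtype H.subtype_injective]
    exact (HallCore.coprime_card_pPrimeCore p H).coprime_dvd_left (orderOf_dvd_natCard _ he)
  · exact (mem_centralizer_iff.mp (core_le_cent hP hPH hCH hHN ⟨e, he, rfl⟩).1 b hb).symm

theorem layerPre_orbit {L : Subgroup G} (hL : IsComponent L) {x : G}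
    (hx : x ∈ (layerPre p H).map H.subtype) : ∃ a ∈ P, cj x L = cj a L := by
  set C := cent p P
  set D := pPrimeCore p H
  set q := QuotientGroup.mk' D
  set DG := D.map H.subtype
  have hC := cent_le hP hPH hCH hHN
  -- the elements of `C` fixing all orbits form a subgroup
  let S : Subgroup G :=
    { carrier := {y | y ∈ C ∧ ∀ K : Subgroup G, IsComponent K → ∃ a ∈ P, cj y K = cj a K}
      one_mem' := ⟨one_mem C, fun K _ => ⟨1, one_mem P, rfl⟩⟩
      mul_mem' := fun {y z} hy hz => ⟨mul_mem hy.1 hz.1, fun K hK => by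
        obtain ⟨a, ha, h1⟩ := hz.2 K hK
        obtain ⟨b, hb, h2⟩ := hy.2 K hK
        refine ⟨a * b, mul_mem ha hb, ?_⟩
        have hya : y * a = a * y := (mem_centralizer_iff.mp hy.1.1 a ha).symm
        rw [← cj_mul, h1, cj_mul, hya, ← cj_mul, h2, cj_mul]⟩
      inv_mem' := fun {y} hy => ⟨inv_mem hy.1, fun K hK => by
        obtain ⟨a, ha, h1⟩ := hy.2 (cj y⁻¹ K) (isComponent_conj hK _)
        refine ⟨a⁻¹, inv_mem ha, ?_⟩
        rw [cj_mul, mul_inv_cancel, cj_one, cj_mul] at h1
        have : cj a⁻¹ K = cj a⁻¹ (cj (a * y⁻¹) K) := congrArg (cj a⁻¹) h1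
        rw [cj_mul, inv_mul_cancel_left] at this
        exact this.symm⟩ }
  suffices hsuff : (layerPre p H).map H.subtype ≤ S from (hsuff hx).2 L hL
  rw [map_le_iff_le_comap]
  suffices hcomp : ∀ Kb : Subgroup (H ⧸ D), IsComponent Kb → Kb.comap q ≤ S.comap H.subtype by
    intro y hy
    have hmap : layer (H ⧸ D) ≤ (S.comap H.subtype).map q := sSup_le fun Kb hKb => by
      rw [← map_comap_eq_self_of_surjective (f := q) (QuotientGroup.mk'_surjective D) Kb]
      exact map_mono (hcomp Kb hKb)
    obtain ⟨z, hz, hzy⟩ := hmap hy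
    have hd : z⁻¹ * y ∈ D := QuotientGroup.eq.mp hzy
    have hd' : ((z⁻¹ * y : H) : G) ∈ S := ⟨core_le_cent hP hPH hCH hHN (mem_map_of_mem _ hd),
      fun K hK => core_orbit hO hP hPH hCH hHN hK (mem_map_of_mem _ hd)⟩
    have := mul_mem (show (z : G) ∈ S from hz) hd'
    show (y : G) ∈ S
    simpa using this
  intro Kb hKb y hy
  have hyX : y ∈ layerPre p H := component_le_layer hKb hy
  have hyC : (y : G) ∈ C := layerPre_le_cent hP hPH hCH hHN (mem_map_of_mem _ hyX)
  refine ⟨hyC, fun L hL => ?_⟩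
  set M : Subgroup H := (layer G ⊓ C).subgroupOf H with hM
  haveI hMn : M.Normal := by
    rw [hM]
    refine ⟨fun c hc g => ⟨(inferInstance : (layer G).Normal).conj_mem _ hc.1 g, ?_⟩⟩
    exact (cent_normal hP hPH hCH hHN).conj_mem c hc.2 g
  haveI : (M.map q).Normal := Normal.map hMn q (QuotientGroup.mk'_surjective D)
  rcases component_le_or_commute_normal hKb (M.map q) with hle | hcm
  · obtain ⟨m, hm, hmy⟩ := hle hy
    have hd : m⁻¹ * y ∈ D := QuotientGroup.eq.mp hmy
    obtain ⟨a, ha, h⟩ := core_orbit hO hP hPH hCH hHN hL (mem_map_of_mem H.subtype hd)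
    refine ⟨a, ha, ?_⟩
    have e : (y : G) = (m : G) * H.subtype (m⁻¹ * y) := by simp
    show cj (y : G) L = cj a L
    rw [e, ← cj_mul, h, cj_eq_iff]
    exact layer_le_normalizer_component (isComponent_conj hL a) hm.1
  · obtain ⟨u, hu, hup, huZ, huN⟩ := exists_orbit_element hO hP hL
    refine orbit_fixed hO hP hPH hCH hHN hL hu hup huZ ?_ hyC
    obtain ⟨huC, huD⟩ := normalizer_sup_le hP hPH hCH hHN huN
    -- work in the normaliser of `DG`
    set N := normalizer (DG : Set G)
    set K := (Kb.comap q).map H.subtype with hK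
    have hKC : K ≤ C := (map_mono (fun z hz => component_le_layer hKb hz : Kb.comap q ≤ layerPre p H)).trans
      (layerPre_le_cent hP hPH hCH hHN)
    have hHN' : H ≤ N := by
      intro g hg
      rw [← cj_eq_iff]
      apply le_antisymm
      · rintro _ ⟨_, ⟨d, hd, rfl⟩, rfl⟩
        exact ⟨⟨g, hg⟩ * d * (⟨g, hg⟩ : H)⁻¹, (inferInstance : D.Normal).conj_mem d hd _, rfl⟩
      · rintro _ ⟨d, hd, rfl⟩
        refine ⟨H.subtype ((⟨g, hg⟩ : H)⁻¹ * d * ⟨g, hg⟩), mem_map_of_mem _ ?_, ?_⟩
        · simpa using (inferInstance : D.Normal).conj_mem d hd (⟨g, hg⟩ : H)⁻¹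
        · simp [mul_assoc]
    have huN' : u ∈ N := huD
    haveI : (DG.subgroupOf N).Normal := normal_subgroupOf_of_le_normalizer le_rfl
    set f := QuotientGroup.mk' (DG.subgroupOf N)
    have hf : ∀ g : N, f g = 1 ↔ (g : G) ∈ DG := fun g => by
      show QuotientGroup.mk' _ g = 1 ↔ _
      rw [QuotientGroup.mk'_apply, QuotientGroup.eq_one_iff]
      rfl
    set A := (K.subgroupOf N).map f
    set B := (zpowers (⟨u, huN'⟩ : N)).map f
    have hKN : K ≤ N := (map_subtype_le _).trans hHN'
    -- commutators of `K` with `M` vanish modulo `D`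
    have hKM : ⁅A, ((layer G ⊓ C).subgroupOf N).map f⁆ = ⊥ := by
      rw [← map_commutator, eq_bot_iff, map_le_iff_le_comap, commutator_le]
      rintro ⟨k, hkN⟩ ⟨k', hk', rfl⟩ ⟨v, hvN⟩ hv
      rw [MonoidHom.comap_bot, MonoidHom.mem_ker, hf]
      have hvH : v ∈ H := hC hv.2
      refine ⟨⁅k', (⟨v, hvH⟩ : H)⁆, ?_, rfl⟩
      show ⁅k', (⟨v, hvH⟩ : H)⁆ ∈ D
      rw [← QuotientGroup.eq_one_iff]
      show q ⁅k', (⟨v, hvH⟩ : H)⁆ = 1
      rw [map_commutatorElement, ← mem_bot, ← hcm]
      exact commutator_mem_commutator hk' (mem_map_of_mem _ (show (⟨v, hvH⟩ : H) ∈ M from hv))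
    have h1 : ⁅⁅A, B⁆, A⁆ = ⊥ := by
      rw [← le_bot_iff, ← hKM, commutator_comm A (((layer G ⊓ C).subgroupOf N).map f)]
      refine commutator_mono ?_ le_rfl
      rw [← map_commutator]
      refine map_mono ?_
      rw [commutator_le]
      rintro ⟨k, hkN⟩ hk ⟨w, hwN⟩ hw
      rw [mem_subgroupOf]
      show ⁅k, w⁆ ∈ layer G ⊓ C
      have hwE : w ∈ layer G := by
        obtain ⟨n, hn⟩ := hw
        have : u ^ n = w := congrArg Subtype.val hn
        rw [← this]
        exact zpow_mem (orbitSup_le_layer hL hu) n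
      have hwC : w ∈ normalizer (C : Set G) := by
        obtain ⟨n, hn⟩ := hw
        have : u ^ n = w := congrArg Subtype.val hn
        rw [← this]
        exact (normalizer (C : Set G)).zpow_mem huC n
      refine mem_inf.mpr ⟨commutator_le_right (⊤ : Subgroup G) (layer G) (commutator_mem_commutator (mem_top _) hwE), ?_⟩
      rw [commutatorElement_def, mul_assoc, mul_assoc, ← mul_assoc w]
      exact mul_mem (hKC (show k ∈ K from hk)) (by simpa [mul_assoc] using (mem_normalizer_iff.mp hwC _).mp (inv_mem (hKC (show k ∈ K from hk))))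
    have h2 : ⁅⁅B, A⁆, A⁆ = ⊥ := by rwa [commutator_comm B A]
    have h3 : ⁅⁅A, A⁆, B⁆ = ⊥ := commutator_commutator_eq_bot_of_rotate h1 h2
    -- `K` is perfect modulo `D`
    have hyK : (y : G) ∈ K := mem_map_of_mem _ hy
    have hAA : f ⟨y, hKN hyK⟩ ∈ ⁅A, A⁆ := by
      have hy' : q y ∈ (⁅Kb.comap q, Kb.comap q⁆).map q := by
        rw [map_commutator, map_comap_eq_self_of_surjective (QuotientGroup.mk'_surjective D),
          IsComponent.perfect hKb]
        exact hy
      obtain ⟨c, hc, hcy⟩ := hy'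
      have hd : c⁻¹ * y ∈ D := QuotientGroup.eq.mp hcy
      let i : H →* N := inclusion hHN'
      have hi : f ⟨y, hKN hyK⟩ = f (i c) := by
        symm
        refine QuotientGroup.eq.mpr ?_
        rw [mem_subgroupOf]
        exact ⟨_, hd, rfl⟩
      rw [hi, ← map_commutator]
      refine mem_map_of_mem _ ?_
      have := mem_map_of_mem i hc
      rw [map_commutator] at this
      refine commutator_mono ?_ ?_ this <;>
      · rintro _ ⟨z, hz, rfl⟩
        exact mem_map_of_mem H.subtype hz
    have h4 : f ⁅(⟨y, hKN hyK⟩ : N), ⟨u, huN'⟩⁆ = 1 := by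
      rw [map_commutatorElement, ← mem_bot, ← h3]
      exact commutator_mem_commutator hAA (mem_map_of_mem _ (mem_zpowers _))
    exact (hf _).mp h4

/-- The preimage of the layer of `H/O_{p'}(H)` fixes every component. -/
theorem layerPre_le_normalizer {L : Subgroup G} (hL : IsComponent L) :
    (layerPre p H).map H.subtype ≤ normalizer (L : Set G) := by
  refine (map_mono (layerPre_le_closure H)).trans ?_
  rw [map_le_iff_le_comap, closure_le]
  rintro x ⟨hx, hx'⟩
  obtain ⟨a, ha, h⟩ := layerPre_orbit hO hP hPH hCH hHN hL (mem_map_of_mem H.subtype hx)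
  show (x : G) ∈ normalizer (L : Set G)
  rw [← cj_eq_iff]
  refine fixed_of_orbit_fixed hO hP hPH hCH hHN ?_ (fun b hb => ?_) ha h
  · rw [orderOf_coe]; exact hx'
  · exact (mem_centralizer_iff.mp (layerPre_le_cent hP hPH hCH hHN (mem_map_of_mem H.subtype hx)).1 b hb).symm

end Local

end Cfsg.Agent.LayerBalance
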