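import Mathlib
import Cfsg.Agent.Lib.LayerBalance

/-! Balance for an element of order `p` in a group with trivial `p'`-core, through its components. -/

set_option autoImplicit false
set_option linter.style.haveILetI false

open Cfsg Subgroup
open scoped Pointwise commutatorElement

namespace Cfsg.Agent.ComponentBalance

open Cfsg.Agent.ComponentsBasic Cfsg.Agent.ComponentsCores Cfsg.Agent.ComponentsFitting
open Cfsg.Agent.LayerBalance

variable {G : Type*} [Group G] [Finite G] {p : ℕ} [hp : Fact p.Prime]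

theorem centralizer_zpowers_eq (x : G) :
    centralizer ((zpowers x : Subgroup G) : Set G) = centralizer ({x} : Set G) := by
  refine le_antisymm (centralizer_le (Set.singleton_subset_iff.mpr (mem_zpowers x))) ?_
  refine le_centralizer_iff.mp ?_
  rw [zpowers_le, mem_centralizer_iff]
  intro y hy
  exact mem_centralizer_singleton_iff.mp hy

theorem isPGroup_zpowers {x : G} (hx : orderOf x = p) : IsPGroup p ↥(zpowers x) :=
  IsPGroup.of_card (n := 1) (by rw [Nat.card_zpowers, hx, pow_one])

section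

variable {x : G} (hx : orderOf x = p)

include hx

theorem local_hyps : IsPGroup p ↥(zpowers x) ∧ zpowers x ≤ centralizer ({x} : Set G) ∧
    centralizer ((zpowers x : Subgroup G) : Set G) ≤ centralizer ({x} : Set G) ∧
    centralizer ({x} : Set G) ≤ normalizer ((zpowers x : Subgroup G) : Set G) := by
  refine ⟨isPGroup_zpowers hx, ?_, (centralizer_zpowers_eq x).le, ?_⟩
  · rw [zpowers_le, mem_centralizer_singleton_iff]
  · rw [← centralizer_zpowers_eq x]; exact centralizer_le_normalizer _

theorem cppc_le_cent : centralizerPPrimeCore p x ≤ cent p (zpowers x) :=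
  let ⟨h1, h2, h3, h4⟩ := local_hyps hx
  core_le_cent h1 h2 h3 h4

theorem cppc_le_normalizer (hO : pPrimeCore p G = ⊥) {L : Subgroup G} (hL : IsComponent L) :
    centralizerPPrimeCore p x ≤ normalizer (L : Set G) :=
  let ⟨h1, h2, h3, h4⟩ := local_hyps hx
  core_le_normalizer hO h1 h2 h3 h4 hL

omit hx in
theorem coprime_card_cppc : (Nat.card (centralizerPPrimeCore p x)).Coprime p := by
  rw [centralizerPPrimeCore, card_map_of_injective (subtype_injective _)]
  exact HallCore.coprime_card_pPrimeCore p _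

omit hx hp [Finite G] in
theorem centralizer_le_normalizer_cppc :
    centralizer ({x} : Set G) ≤ normalizer (centralizerPPrimeCore p x : Set G) := by
  intro g hg
  have key : ∀ g ∈ centralizer ({x} : Set G), ∀ d ∈ centralizerPPrimeCore p x,
      g * d * g⁻¹ ∈ centralizerPPrimeCore p x := by
    rintro g hg _ ⟨d, hd, rfl⟩
    exact ⟨⟨g, hg⟩ * d * (⟨g, hg⟩ : centralizer ({x} : Set G))⁻¹,
      (HallCore.pPrimeCore_normal p _).conj_mem d hd _, rfl⟩
  rw [mem_normalizer_iff]
  refine fun d => ⟨key g hg d, fun hd => ?_⟩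
  have := key g⁻¹ (inv_mem hg) _ hd
  simpa [mul_assoc] using this

omit hp hx [Finite G] in
/-- Conjugation by the elements of the layer acts on a component as that component does. -/
theorem layer_le_sup_centralizer {L : Subgroup G} (hL : IsComponent L) :
    layer G ≤ L ⊔ centralizer (L : Set G) := sSup_le fun K hK => by
  by_cases h : K = L
  · exact h ▸ le_sup_left
  · exact le_sup_of_le_right (commutator_eq_bot_iff_le_centralizer.mp (components_commute hK hL h))

omit hx in
/-- A subgroup of order prime to `p` inside the layer, normalised by enough elements to induce all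
inner automorphisms of `L`, centralises `L`. -/
theorem le_centralizer_of_coprime (hO : pPrimeCore p G = ⊥) {L W : Subgroup G} (hL : IsComponent L)
    (hW : (Nat.card W).Coprime p) (hWE : W ≤ layer G)
    (hdiag : ∀ l ∈ L, ∃ e ∈ normalizer (W : Set G), l⁻¹ * e ∈ centralizer (L : Set G)) :
    W ≤ centralizer (L : Set G) := by
  set C := centralizer (L : Set G)
  have hWN : W ≤ normalizer (L : Set G) := hWE.trans (layer_le_normalizer_component hL)
  have hCn : normalizer (L : Set G) ≤ normalizer (C : Set G) := by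
    have key : ∀ g ∈ normalizer (L : Set G), ∀ c ∈ C, g * c * g⁻¹ ∈ C := by
      intro g hg c hc
      refine mem_centralizer_iff.mpr fun y hy => ?_
      have hy' : g⁻¹ * y * g ∈ L := by simpa using (mem_normalizer_iff.mp (inv_mem hg) y).mp hy
      calc y * (g * c * g⁻¹) = g * ((g⁻¹ * y * g) * c) * g⁻¹ := by group
        _ = g * (c * (g⁻¹ * y * g)) * g⁻¹ := by rw [mem_centralizer_iff.mp hc _ hy']
        _ = _ := by group
    intro g hg
    rw [mem_normalizer_iff]
    refine fun c => ⟨key g hg c, fun hc => ?_⟩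
    simpa [mul_assoc] using key g⁻¹ (inv_mem hg) _ hc
  have hWC : W ≤ normalizer (C : Set G) := hWN.trans hCn
  -- `L₀ = L ∩ W C`
  have hn : ((L ⊓ (W ⊔ C)).subgroupOf L).Normal := by
    refine ⟨fun n hn' l => ?_⟩
    have hn : (n : G) ∈ L ∧ (n : G) ∈ W ⊔ C := mem_inf.mp (mem_subgroupOf.mp hn')
    rw [mem_subgroupOf]
    refine mem_inf.mpr ⟨mul_mem (mul_mem l.2 hn.1) (inv_mem l.2), ?_⟩
    obtain ⟨e, he, hec⟩ := hdiag l l.2
    obtain ⟨w, hw, c, hc, hwc⟩ : ∃ w ∈ W, ∃ c ∈ C, w * c = (n : G) := by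
      have h := hn.2
      rw [← SetLike.mem_coe, coe_mul_of_left_le_normalizer_right W C hWC] at h
      obtain ⟨w, hw, c, hc, h⟩ := Set.mem_mul.mp h
      exact ⟨w, hw, c, hc, h⟩
    show (l : G) * (n : G) * (l : G)⁻¹ ∈ W ⊔ C
    have he' : e ∈ normalizer (C : Set G) := by
      have hl : e = (l : G) * ((l : G)⁻¹ * e) := by group
      rw [hl]; exact mul_mem (hCn (le_normalizer l.2)) (le_normalizer hec)
    set c' := (e⁻¹ * (l : G)) with hc'
    have hc'C : c' ∈ C := by
      have := inv_mem hec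
      simpa [hc'] using this
    have h1 : c' * (n : G) * c'⁻¹ ∈ W ⊔ C := by
      exact mul_mem (mul_mem (mem_sup_right hc'C) hn.2) (inv_mem (mem_sup_right hc'C))
    rw [← SetLike.mem_coe, coe_mul_of_left_le_normalizer_right W C hWC] at h1
    obtain ⟨w', hw', c₂, hc₂, h2⟩ := Set.mem_mul.mp h1
    have e1 : (l : G) * (n : G) * (l : G)⁻¹ = (e * w' * e⁻¹) * (e * c₂ * e⁻¹) := by
      calc (l : G) * (n : G) * (l : G)⁻¹ = e * (c' * (n : G) * c'⁻¹) * e⁻¹ := by
            simp only [hc']; group
        _ = _ := by rw [← h2]; group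
    rw [e1]
    exact mul_mem (mem_sup_left ((mem_normalizer_iff.mp he w').mp hw'))
      (mem_sup_right ((mem_normalizer_iff.mp he' c₂).mp hc₂))
  haveI := hn
  rcases normal_le_center_or_eq_top hL.2 ((L ⊓ (W ⊔ C)).subgroupOf L) with h | h
  · intro w hw
    have hmem : w ∈ L ⊔ C := layer_le_sup_centralizer hL (hWE hw)
    have hLC : L ≤ normalizer (C : Set G) := le_normalizer.trans hCn
    rw [← SetLike.mem_coe, coe_mul_of_left_le_normalizer_right L C hLC] at hmem
    obtain ⟨l, hl, c, hc, rfl⟩ := Set.mem_mul.mp hmem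
    have hl0 : l ∈ L ⊓ (W ⊔ C) := mem_inf.mpr ⟨hl, by
      simpa using mul_mem (mem_sup_left (T := C) hw) (inv_mem (mem_sup_right hc))⟩
    have hlc : (⟨l, hl⟩ : L) ∈ center L := h (mem_subgroupOf.mpr hl0)
    refine mul_mem (mem_centralizer_iff.mpr fun y hy => ?_) hc
    exact congrArg Subtype.val (mem_center_iff.mp hlc ⟨y, hy⟩)
  · exfalso
    obtain ⟨z, ⟨k, hzk⟩, hz⟩ := exists_noncentral_pElement hL.2 (component_dvd hO hL)
    have hz' : (z : G) ∈ W ⊔ C := by
      have : z ∈ (L ⊓ (W ⊔ C)).subgroupOf L := h ▸ mem_top z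
      exact this.2
    rw [← SetLike.mem_coe, coe_mul_of_left_le_normalizer_right W C hWC] at hz'
    obtain ⟨w, hw, c, hc, hwc⟩ := Set.mem_mul.mp hz'
    set N := normalizer (L : Set G)
    haveI : (C.subgroupOf N).Normal := normal_subgroupOf_of_le_normalizer hCn
    set f := QuotientGroup.mk' (C.subgroupOf N)
    have hfz : f ⟨z, le_normalizer z.2⟩ = f ⟨w, hWN hw⟩ := by
      refine QuotientGroup.eq.mpr ?_
      rw [mem_subgroupOf]
      show (z : G)⁻¹ * w ∈ C
      rw [← hwc]; simpa using inv_mem hc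
    have h1 : (f ⟨w, hWN hw⟩) ^ p ^ k = 1 := by
      rw [← hfz, ← map_pow, show (⟨(z : G), le_normalizer z.2⟩ : N) ^ p ^ k = 1 from
        Subtype.ext (by simpa using congrArg Subtype.val hzk), map_one]
    have h2 : orderOf (f ⟨w, hWN hw⟩) ∣ Nat.card W := by
      refine (orderOf_map_dvd f _).trans ?_
      rw [← orderOf_coe]
      exact orderOf_dvd_natCard W hw
    have h3 := eq_one_of_pPower_coprime h1 h2 hW
    rw [← hfz] at h3
    have h4 : (z : G) ∈ C := (QuotientGroup.eq_one_iff (N := C.subgroupOf N) _).mp h3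
    exact hz (mem_center_iff.mpr fun y => Subtype.ext (mem_centralizer_iff.mp h4 y y.2))

/-- A component `L` with `[L,x] ≠ L` is centralised by `O_{p'}(C(x))`. -/
theorem component_centralized (hO : pPrimeCore p G = ⊥) {L : Subgroup G} (hL : IsComponent L)
    (hne : ⁅L, zpowers x⁆ ≠ L) : centralizerPPrimeCore p x ≤ centralizer (L : Set G) := by
  set Dx := centralizerPPrimeCore p x with hDx
  set CL := centralizer (L : Set G)
  by_cases hfix : x ∈ normalizer (L : Set G)
  · have hxN : zpowers x ≤ normalizer (L : Set G) := zpowers_le.mpr hfix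
    have hle : ⁅L, zpowers x⁆ ≤ L := commutator_le_left_of_normalizes hxN
    -- `⁅L, x⁆` is normal in `L`, hence central
    have hn : ((⁅L, zpowers x⁆).subgroupOf L).Normal := by
      refine ⟨fun n hn l => ?_⟩
      have hsub : ⁅L, zpowers x⁆ ≤ (⁅L, zpowers x⁆).comap (MulAut.conj (l : G)).toMonoidHom := by
        rw [commutator_le]
        intro a ha b hb
        show (l : G) * ⁅a, b⁆ * (l : G)⁻¹ ∈ ⁅L, zpowers x⁆
        have : (l : G) * ⁅a, b⁆ * (l : G)⁻¹ = ⁅(l : G) * a, b⁆ * (⁅(l : G), b⁆)⁻¹ := by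
          simp only [commutatorElement_def]; group
        rw [this]
        exact mul_mem (commutator_mem_commutator (mul_mem l.2 ha) hb)
          (inv_mem (commutator_mem_commutator l.2 hb))
      exact hsub hn
    have hcen : ⁅⁅L, zpowers x⁆, L⁆ = ⊥ := by
      haveI := hn
      rcases normal_le_center_or_eq_top hL.2 ((⁅L, zpowers x⁆).subgroupOf L) with h | h
      · rw [commutator_eq_bot_iff_le_centralizer]
        intro y hy
        refine mem_centralizer_iff.mpr fun l hl => ?_
        exact congrArg Subtype.val (mem_center_iff.mp (h (x := (⟨y, hle hy⟩ : L)) hy) ⟨l, hl⟩)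
      · exact absurd (le_antisymm hle (subgroupOf_eq_top.mp h)) hne
    have hLx : L ≤ centralizer ({x} : Set G) := by
      have h3 : ⁅⁅L, L⁆, zpowers x⁆ = ⊥ :=
        commutator_commutator_eq_bot_of_rotate hcen (by rwa [commutator_comm (zpowers x) L])
      rw [IsComponent.perfect hL, commutator_eq_bot_iff_le_centralizer, centralizer_zpowers_eq] at h3
      exact h3
    set K := centralizer ({x} : Set G)
    have hLK := isComponent_subgroupOf hL hLx
    rcases component_le_or_commute hLK (Normal.isSubnormal (H := pPrimeCore p K) inferInstance) with h | h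
    · exfalso
      refine component_dvd hO hL (Nat.Coprime.coprime_dvd_left ?_ (HallCore.coprime_card_pPrimeCore p K))
      rw [← Nat.card_congr (subgroupOfEquivOfLe hLx).toEquiv]
      exact card_dvd_of_le h
    · have h' := congrArg (Subgroup.map K.subtype) h
      rw [map_commutator, map_subgroupOf_eq_of_le hLx, Subgroup.map_bot, commutator_comm,
        commutator_eq_bot_iff_le_centralizer] at h'
      exact h'
  -- `x` moves `L`
  have hmove : ∀ i : ℕ, ¬ p ∣ i → cj (x ^ i) L ≠ L := by
    intro i hi h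
    rw [cj_eq_iff] at h
    obtain ⟨m, hm⟩ := exists_pow_eq_self_of_coprime (n := i) (x := x)
      (by rw [hx]; exact ((Fact.out : p.Prime).coprime_iff_not_dvd.mpr hi).symm)
    exact hfix (hm ▸ pow_mem h m)
  intro d hd
  have hdN : d ∈ normalizer (L : Set G) := cppc_le_normalizer hx hO hL hd
  set W := Dx ⊓ layer G
  have hdiag : ∀ l ∈ L, ∃ e ∈ centralizer ({x} : Set G) ⊓ layer G, l⁻¹ * e ∈ CL := by
    intro l hl
    let F : ℕ → G := fun k => Nat.rec 1 (fun _ r => l * (x * r * x⁻¹)) k
    have hFsucc : ∀ k, F (k + 1) = l * (x * F k * x⁻¹) := fun k => rfl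
    have hF : ∀ k, F k ∈ layer G := by
      intro k
      induction k with
      | zero => exact one_mem _
      | succ k ih =>
        rw [hFsucc]
        exact mul_mem (component_le_layer hL hl) ((inferInstance : (layer G).Normal).conj_mem _ ih x)
    -- factors `1 ≤ i ≤ k` centralise `L`
    have hG : ∀ k, k < p → ∀ j : ℕ, 1 ≤ j → j + k ≤ p → x ^ j * F k * (x ^ j)⁻¹ ∈ CL := by
      intro k
      induction k with
      | zero => intro _ j _ _; simp [F]
      | succ k ih =>
        intro hk j hj hjk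
        rw [hFsucc, show x ^ j * (l * (x * F k * x⁻¹)) * (x ^ j)⁻¹ =
          (x ^ j * l * (x ^ j)⁻¹) * (x ^ (j + 1) * F k * (x ^ (j + 1))⁻¹) by rw [pow_succ]; group]
        refine mul_mem ?_ (ih (by omega) (j + 1) (by omega) (by omega))
        refine commutator_eq_bot_iff_le_centralizer.mp (components_commute (isComponent_conj hL _) hL
          (hmove j fun hd => ?_)) (mem_map_of_mem _ hl)
        have := Nat.le_of_dvd (by omega) hd
        omega
    obtain ⟨q, hq⟩ : ∃ q, p = q + 1 := ⟨p - 1, by have := (Fact.out : p.Prime).one_lt; omega⟩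
    have hr : x * F q * x⁻¹ ∈ CL := by
      simpa using hG q (by omega) 1 le_rfl (by omega)
    refine ⟨F p, mem_inf.mpr ⟨?_, hF p⟩, by rw [hq, hFsucc]; simpa using hr⟩
    -- `x` fixes the product
    have hF' : ∀ k, F (k + 1) = F k * (x ^ k * l * (x ^ k)⁻¹) := by
      intro k
      induction k with
      | zero => simp [F]
      | succ k ih =>
        calc F (k + 1 + 1) = l * (x * F (k + 1) * x⁻¹) := hFsucc (k + 1)
          _ = l * (x * (F k * (x ^ k * l * (x ^ k)⁻¹)) * x⁻¹) := by rw [ih]
          _ = (l * (x * F k * x⁻¹)) * (x ^ (k + 1) * l * (x ^ (k + 1))⁻¹) := by rw [pow_succ']; group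
          _ = _ := by rw [← hFsucc]
    have hxp : x ^ (q + 1) = 1 := by rw [← hq, ← hx, pow_orderOf_eq_one]
    have hcomm : l * (x * F q * x⁻¹) = x * F q * x⁻¹ * l := mem_centralizer_iff.mp hr l hl
    rw [mem_centralizer_singleton_iff, hq]
    have : x * F (q + 1) * x⁻¹ = F (q + 1) := by
      calc x * F (q + 1) * x⁻¹ = x * (F q * (x ^ q * l * (x ^ q)⁻¹)) * x⁻¹ := by rw [hF']
        _ = (x * F q * x⁻¹) * (x ^ (q + 1) * l * (x ^ (q + 1))⁻¹) := by rw [pow_succ']; group
        _ = (x * F q * x⁻¹) * l := by rw [hxp]; group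
        _ = F (q + 1) := by rw [← hcomm, ← hFsucc]
    calc F (q + 1) * x = (x * F (q + 1) * x⁻¹) * x := by rw [this]
      _ = x * F (q + 1) := by group
  have hW : W ≤ CL := by
    refine le_centralizer_of_coprime hO hL ?_ inf_le_right fun l hl => ?_
    · exact (coprime_card_cppc (p := p) (x := x)).coprime_dvd_left (card_dvd_of_le inf_le_left)
    · obtain ⟨e, he, hec⟩ := hdiag l hl
      refine ⟨e, ?_, hec⟩
      rw [mem_normalizer_iff]
      intro w
      simp only [SetLike.mem_coe, W, mem_inf]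
      exact and_congr (mem_normalizer_iff.mp (centralizer_le_normalizer_cppc (p := p) (x := x) he.1) w)
        (mem_normalizer_iff.mp (le_normalizer he.2) w)
  have hCLn : ∀ g ∈ normalizer (L : Set G), ∀ c ∈ CL, g * c * g⁻¹ ∈ CL := by
    intro g hg c hc
    refine mem_centralizer_iff.mpr fun y hy => ?_
    have hy' : g⁻¹ * y * g ∈ L := by simpa using (mem_normalizer_iff.mp (inv_mem hg) y).mp hy
    calc y * (g * c * g⁻¹) = g * ((g⁻¹ * y * g) * c) * g⁻¹ := by group
      _ = g * (c * (g⁻¹ * y * g)) * g⁻¹ := by rw [mem_centralizer_iff.mp hc _ hy']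
      _ = _ := by group
  -- `[d, L]` is central
  have hdl : ∀ l ∈ L, d * l * d⁻¹ * l⁻¹ ∈ CL := by
    intro l hl
    obtain ⟨e, he, hec⟩ := hdiag l hl
    have hde : ⁅d, e⁆ ∈ W := by
      refine mem_inf.mpr ⟨?_, ?_⟩
      · rw [show ⁅d, e⁆ = d * (e * d⁻¹ * e⁻¹) by simp [commutatorElement_def, mul_assoc]]
        exact mul_mem hd ((mem_normalizer_iff.mp (centralizer_le_normalizer_cppc he.1) _).mp (inv_mem hd))
      · exact commutator_le_right (⊤ : Subgroup G) (layer G) (commutator_mem_commutator (mem_top d) he.2)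
    have h1 := hW hde
    set c := l⁻¹ * e
    have e1 : d * l * d⁻¹ * l⁻¹ = ⁅d, e⁆ * (l * (c * (d * c⁻¹ * d⁻¹)) * l⁻¹) := by
      simp only [c, commutatorElement_def]; group
    rw [e1]
    exact mul_mem h1 (hCLn l (le_normalizer hl) _ (mul_mem hec (hCLn d hdN _ (inv_mem hec))))
  have h1 : ⁅⁅zpowers d, L⁆, L⁆ = ⊥ := by
    rw [commutator_eq_bot_iff_le_centralizer, commutator_le]
    intro g hg l hl
    let S : Subgroup G :=
      { carrier := {g | g ∈ normalizer (L : Set G) ∧ ∀ m ∈ L, g * m * g⁻¹ * m⁻¹ ∈ CL}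
        one_mem' := ⟨one_mem _, fun m _ => by simp⟩
        mul_mem' := fun {a b} ha hb => ⟨mul_mem ha.1 hb.1, fun m hm => by
          have e : a * b * m * (a * b)⁻¹ * m⁻¹ =
              (a * (b * m * b⁻¹ * m⁻¹) * a⁻¹) * (a * m * a⁻¹ * m⁻¹) := by group
          rw [e]
          exact mul_mem (hCLn a ha.1 _ (hb.2 m hm)) (ha.2 m hm)⟩
        inv_mem' := fun {a} ha => ⟨inv_mem ha.1, fun m hm => by
          have e : a⁻¹ * m * (a⁻¹)⁻¹ * m⁻¹ = a⁻¹ * (a * m * a⁻¹ * m⁻¹)⁻¹ * a⁻¹⁻¹ := by group
          rw [e]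
          exact hCLn _ (inv_mem ha.1) _ (inv_mem (ha.2 m hm))⟩ }
    have : zpowers d ≤ S := zpowers_le.mpr ⟨hdN, hdl⟩
    exact (this hg).2 l hl
  have h3 : ⁅⁅L, L⁆, zpowers d⁆ = ⊥ :=
    commutator_commutator_eq_bot_of_rotate (by rwa [commutator_comm L (zpowers d)]) h1
  rw [IsComponent.perfect hL, commutator_comm, commutator_eq_bot_iff_le_centralizer, zpowers_le] at h3
  exact h3

end

end Cfsg.Agent.ComponentBalance
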