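import Mathlib
import Cfsg.Prelude.Def_BaumannBlocks
import Cfsg.Agent.Lib.BaumannBlockBasics

/-!
The two natural modules of `B(T)`-blocks are irreducible and faithful for `E / O_p(E)`.
-/

set_option autoImplicit false

namespace Cfsg.Agent.BaumannBlockModules

open Subgroup Cfsg BaumannBlockBasics
open scoped commutatorElement

/-! ### The natural module of the derived group of `SL₂(F)` -/

section SL2

variable {F : Type*} [Field F]

/-- Upper unitriangular element. -/
def up (x : F) : Matrix.SpecialLinearGroup (Fin 2) F :=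
  ⟨!![1, x; 0, 1], by simp [Matrix.det_fin_two]⟩

/-- Lower unitriangular element. -/
def low (x : F) : Matrix.SpecialLinearGroup (Fin 2) F :=
  ⟨!![1, 0; x, 1], by simp [Matrix.det_fin_two]⟩

/-- Diagonal element. -/
def diag (t : F) (ht : t ≠ 0) : Matrix.SpecialLinearGroup (Fin 2) F :=
  ⟨!![t, 0; 0, t⁻¹], by simp [Matrix.det_fin_two, ht]⟩

theorem up_coe (x : F) : (up x : Matrix (Fin 2) (Fin 2) F) = !![1, x; 0, 1] := rfl

theorem low_coe (x : F) : (low x : Matrix (Fin 2) (Fin 2) F) = !![1, 0; x, 1] := rfl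

theorem diag_coe (t : F) (ht : t ≠ 0) : (diag t ht : Matrix (Fin 2) (Fin 2) F) = !![t, 0; 0, t⁻¹] := rfl

theorem up_mem {t : F} (ht : t ≠ 0) (ht2 : t * t ≠ 1) (y : F) :
    up y ∈ commutator (Matrix.SpecialLinearGroup (Fin 2) F) := by
  obtain ⟨c, rfl⟩ : ∃ c, c * (t * t - 1) = y := ⟨_, div_mul_cancel₀ y (sub_ne_zero.2 ht2)⟩
  have h : ⁅diag t ht, up c⁆ = up (c * (t * t - 1)) := by
    rw [commutatorElement_def, mul_inv_eq_iff_eq_mul, mul_inv_eq_iff_eq_mul]
    apply Subtype.ext
    simp only [Matrix.SpecialLinearGroup.coe_mul, up_coe, diag_coe]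
    ext i j
    fin_cases i <;> fin_cases j <;> simp [Matrix.mul_apply, Fin.sum_univ_two] <;> field_simp <;> ring
  rw [← h]
  exact commutator_mem_commutator (mem_top _) (mem_top _)

theorem low_mem {t : F} (ht : t ≠ 0) (ht2 : t * t ≠ 1) (y : F) :
    low y ∈ commutator (Matrix.SpecialLinearGroup (Fin 2) F) := by
  obtain ⟨c, rfl⟩ : ∃ c, c * (t * t - 1) = y := ⟨_, div_mul_cancel₀ y (sub_ne_zero.2 ht2)⟩
  have h : ⁅diag t⁻¹ (inv_ne_zero ht), low c⁆ = low (c * (t * t - 1)) := by
    rw [commutatorElement_def, mul_inv_eq_iff_eq_mul, mul_inv_eq_iff_eq_mul]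
    apply Subtype.ext
    simp only [Matrix.SpecialLinearGroup.coe_mul, low_coe, diag_coe]
    ext i j
    fin_cases i <;> fin_cases j <;> simp [Matrix.mul_apply, Fin.sum_univ_two] <;> field_simp <;> ring
  rw [← h]
  exact commutator_mem_commutator (mem_top _) (mem_top _)

theorem twist_mem :
    ∃ g : Matrix.SpecialLinearGroup (Fin 2) F,
      g ∈ commutator (Matrix.SpecialLinearGroup (Fin 2) F) ∧
      (g : Matrix (Fin 2) (Fin 2) F) = !![3, -1; 1, 0] := by
  refine ⟨⁅up (1 : F), low (1 : F)⁆, ?_, ?_⟩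
  · exact commutator_mem_commutator (mem_top _) (mem_top _)
  · rw [commutatorElement_def]
    simp only [Matrix.SpecialLinearGroup.coe_mul, Matrix.SpecialLinearGroup.coe_inv, up_coe, low_coe,
      Matrix.adjugate_fin_two]
    ext i j
    fin_cases i <;> fin_cases j <;> simp [Matrix.mul_apply, Fin.sum_univ_two] <;> ring

/-- The natural module of `SL₂(F)'` has no proper invariant additive subgroup. -/
theorem sl2_irreducible (M : AddSubgroup (Fin 2 → F))
    (hM : ∀ g ∈ commutator (Matrix.SpecialLinearGroup (Fin 2) F), ∀ v ∈ M,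
      (g : Matrix (Fin 2) (Fin 2) F).mulVec v ∈ M) : M = ⊥ ∨ M = ⊤ := by
  by_cases hbot : M = ⊥
  · exact Or.inl hbot
  right
  obtain ⟨v, hv, hv0⟩ : ∃ v ∈ M, v ≠ 0 := by
    by_contra h
    push_neg at h
    exact hbot (eq_bot_iff.2 fun x hx => by simpa using h x hx)
  rw [eq_top_iff]
  intro w _
  by_cases hex : ∃ t : F, t ≠ 0 ∧ t * t ≠ 1
  · obtain ⟨t, ht, ht2⟩ := hex
    have hU : ∀ u ∈ M, ∀ y : F, ![y * u 1, 0] ∈ M := by
      intro u hu y
      have h := sub_mem (hM _ (up_mem ht ht2 y) u hu) hu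
      convert h using 1
      ext i
      fin_cases i <;> simp [up_coe, Matrix.mulVec, dotProduct, Fin.sum_univ_two]
    have hL : ∀ u ∈ M, ∀ y : F, ![0, y * u 0] ∈ M := by
      intro u hu y
      have h := sub_mem (hM _ (low_mem ht ht2 y) u hu) hu
      convert h using 1
      ext i
      fin_cases i <;> simp [low_coe, Matrix.mulVec, dotProduct, Fin.sum_univ_two]
    have hfst : ∀ a : F, ![a, 0] ∈ M := by
      intro a
      by_cases h1 : v 1 = 0
      · have h0 : v 0 ≠ 0 := fun h0 => hv0 (by ext i; fin_cases i <;> simpa)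
        have h2 : ![0, (1 : F)] ∈ M := by simpa [h0] using hL v hv (v 0)⁻¹
        simpa using hU _ h2 a
      · simpa [h1, mul_assoc] using hU v hv (a * (v 1)⁻¹)
    have hsnd : ![0, w 1] ∈ M := by simpa using hL _ (hfst 1) (w 1)
    convert add_mem (hfst (w 0)) hsnd using 1
    ext i
    fin_cases i <;> simp
  · push_neg at hex
    have htri : ∀ a : F, a = 0 ∨ a = 1 ∨ a = -1 := by
      intro a
      by_cases ha : a = 0
      · exact Or.inl ha
      · exact Or.inr (mul_self_eq_one_iff.1 (hex a ha))
    have hsmul : ∀ (a : F) (u : Fin 2 → F), u ∈ M → a • u ∈ M := by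
      intro a u hu
      rcases htri a with rfl | rfl | rfl
      · simp
      · simpa using hu
      · simpa using neg_mem hu
    obtain ⟨g, hg, hge⟩ := twist_mem (F := F)
    have hgv := hM g hg v hv
    rw [hge] at hgv
    have h5 : (5 : F) ≠ 0 := by
      intro h
      rcases htri (2 : F) with e | e | e
      · exact one_ne_zero (α := F) (by linear_combination h - 2 * e)
      · exact one_ne_zero (α := F) (by linear_combination e)
      · exact one_ne_zero (α := F) (by linear_combination 2 * e - h)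
    have hdet : v 0 * v 0 - 3 * v 0 * v 1 + v 1 * v 1 ≠ 0 := by
      intro h
      by_cases h0 : v 0 = 0
      · refine hv0 ?_
        ext i
        fin_cases i
        · simpa using h0
        · simpa [h0] using h
      · have hh := hex _ h0
        rcases htri (v 1 * v 0) with e | e | e
        · have h1 : v 1 = 0 := by simpa [h0] using e
          rw [h1] at h
          simp [hh] at h
        · have h1 : v 1 = v 0 := by linear_combination (v 0) * e - (v 1) * hh
          rw [h1] at h
          exact one_ne_zero (α := F) (by linear_combination -h - hh)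
        · have h1 : v 1 = -v 0 := by linear_combination (v 0) * e - (v 1) * hh
          rw [h1] at h
          exact h5 (by linear_combination h - 5 * hh)
    have key : (v 0 * v 0 - 3 * v 0 * v 1 + v 1 * v 1) • w =
        (w 0 * v 0 - w 1 * (3 * v 0 - v 1)) • v +
          (w 1 * v 0 - w 0 * v 1) • (!![3, -1; 1, 0] : Matrix (Fin 2) (Fin 2) F).mulVec v := by
      ext i
      fin_cases i <;> simp [Matrix.mulVec, dotProduct, Fin.sum_univ_two] <;> ring
    have h := hsmul (v 0 * v 0 - 3 * v 0 * v 1 + v 1 * v 1)⁻¹ _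
      (key ▸ add_mem (hsmul _ _ hv) (hsmul _ _ hgv))
    rwa [smul_smul, inv_mul_cancel₀ hdet, one_smul] at h

theorem sl2_faithful (g : Matrix.SpecialLinearGroup (Fin 2) F)
    (h : ∀ v : Fin 2 → F, (g : Matrix (Fin 2) (Fin 2) F).mulVec v = v) : g = 1 := by
  apply Subtype.ext
  rw [Matrix.SpecialLinearGroup.coe_one]
  exact Matrix.ext_iff_mulVec.2 fun v => by rw [h v, Matrix.one_mulVec]

end SL2

/-! ### The even-weight permutation module of `Aₙ`, `n` odd -/

section Alt

variable {n : ℕ}

/-- The even-weight vector with support `{a, b}`. -/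
def pr (a b : Fin n) : Fin n → ZMod 2 := Pi.single a 1 + Pi.single b 1

theorem three_cycle_mem {a b c : Fin n} (hab : a ≠ b) (hbc : b ≠ c) :
    Equiv.swap a b * Equiv.swap b c ∈ alternatingGroup (Fin n) := by
  rw [Equiv.Perm.mem_alternatingGroup]
  simp [Equiv.Perm.sign_swap hab, Equiv.Perm.sign_swap hbc]

theorem alt_irreducible (hn : Odd n) (h3 : 3 ≤ n) (M : AddSubgroup (Fin n → ZMod 2))
    (heven : ∀ v ∈ M, ∑ i, v i = 0)
    (hM : ∀ σ ∈ alternatingGroup (Fin n), ∀ v ∈ M, (fun i => v (σ⁻¹ i)) ∈ M) :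
    M = ⊥ ∨ ∀ v : Fin n → ZMod 2, ∑ i, v i = 0 → v ∈ M := by
  classical
  by_cases hbot : M = ⊥
  · exact Or.inl hbot
  right
  obtain ⟨v, hv, hv0⟩ : ∃ v ∈ M, v ≠ 0 := by
    by_contra h
    push_neg at h
    exact hbot (eq_bot_iff.2 fun x hx => by simpa using h x hx)
  obtain ⟨i, j, hij⟩ : ∃ i j, v i ≠ v j := by
    by_contra h
    push_neg at h
    apply hv0
    ext i
    have hs := heven v hv
    rw [Finset.sum_congr rfl fun x _ => h x i] at hs
    have hn1 : (n : ZMod 2) = 1 := ZMod.natCast_eq_one_iff_odd.2 hn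
    simpa [hn1] using hs
  have hne : i ≠ j := fun e => hij (by rw [e])
  obtain ⟨k, hki, hkj⟩ : ∃ k, k ≠ i ∧ k ≠ j := by
    by_contra h
    push_neg at h
    have hcard : Fintype.card (Fin n) ≤ ({i, j} : Finset (Fin n)).card := by
      rw [← Finset.card_univ]
      refine Finset.card_le_card fun x _ => ?_
      rw [Finset.mem_insert, Finset.mem_singleton]
      exact or_iff_not_imp_left.2 (h x)
    have := (Finset.card_insert_le i ({j} : Finset (Fin n)))
    rw [Finset.card_singleton] at this
    rw [Fintype.card_fin] at hcard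
    omega
  have hσm : (Equiv.swap i j * Equiv.swap j k)⁻¹ ∈ alternatingGroup (Fin n) :=
    inv_mem (three_cycle_mem hne hkj.symm)
  have hw : (fun x => v x + v (Equiv.swap i j (Equiv.swap j k x))) ∈ M := by
    have h := add_mem hv (hM _ hσm v hv)
    rw [inv_inv] at h
    exact h
  -- a weight two vector
  have step1 : ∃ a b, a ≠ b ∧ pr a b ∈ M := by
    have e1 : Equiv.swap i j (Equiv.swap j k i) = j := by
      rw [Equiv.swap_apply_of_ne_of_ne hne hki.symm, Equiv.swap_apply_left]
    have e2 : Equiv.swap i j (Equiv.swap j k j) = k := by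
      rw [Equiv.swap_apply_left, Equiv.swap_apply_of_ne_of_ne hki hkj]
    have e3 : Equiv.swap i j (Equiv.swap j k k) = i := by
      rw [Equiv.swap_apply_right, Equiv.swap_apply_right]
    have eo : ∀ x, x ≠ i → x ≠ j → x ≠ k → Equiv.swap i j (Equiv.swap j k x) = x := fun x a b c => by
      rw [Equiv.swap_apply_of_ne_of_ne b c, Equiv.swap_apply_of_ne_of_ne a b]
    have h01 : ∀ x : ZMod 2, x = 0 ∨ x = 1 := by decide
    have hsame : ∀ a b, (a ≠ b ∧ (∀ x, v x + v (Equiv.swap i j (Equiv.swap j k x)) = pr a b x)) → ∃ a b, a ≠ b ∧ pr a b ∈ M :=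
      fun a b h => ⟨a, b, h.1, by rw [← funext h.2]; exact hw⟩
    rcases h01 (v i) with hi | hi <;> rcases h01 (v j) with hj | hj
    · exact absurd (hi.trans hj.symm) hij
    · rcases h01 (v k) with hk | hk
      · refine hsame i j ⟨hne, fun x => ?_⟩
        by_cases a : x = i
        · subst a; simp [pr, e1, hi, hj, hne]
        by_cases b : x = j
        · subst b; rw [e2]; simp [pr, hj, hk, a, hne, hne.symm, hki, hki.symm, hkj, hkj.symm]
        by_cases c : x = k
        · subst c; simp [pr, e3, hi, hk, a, b]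
        · simp [pr, eo x a b c, a, b, CharTwo.add_self_eq_zero]
      · refine hsame i k ⟨hki.symm, fun x => ?_⟩
        by_cases a : x = i
        · subst a; simp [pr, e1, hi, hj, hki.symm]
        by_cases b : x = j
        · subst b; rw [e2]; simp [pr, hj, hk, a, hkj.symm, CharTwo.add_self_eq_zero]
        by_cases c : x = k
        · subst c; simp [pr, e3, hi, hk, a]
        · simp [pr, eo x a b c, a, c, CharTwo.add_self_eq_zero]
    · rcases h01 (v k) with hk | hk
      · refine hsame i k ⟨hki.symm, fun x => ?_⟩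
        by_cases a : x = i
        · subst a; simp [pr, e1, hi, hj, hki.symm]
        by_cases b : x = j
        · subst b; rw [e2]; simp [pr, hj, hk, a, hkj.symm]
        by_cases c : x = k
        · subst c; simp [pr, e3, hi, hk, a]
        · simp [pr, eo x a b c, a, c, CharTwo.add_self_eq_zero]
      · refine hsame i j ⟨hne, fun x => ?_⟩
        by_cases a : x = i
        · subst a; simp [pr, e1, hi, hj, hne]
        by_cases b : x = j
        · subst b; rw [e2]; simp [pr, hj, hk, a, hne, hne.symm, hki, hki.symm, hkj, hkj.symm]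
        by_cases c : x = k
        · subst c; simp [pr, e3, hi, hk, a, b, CharTwo.add_self_eq_zero]
        · simp [pr, eo x a b c, a, b, CharTwo.add_self_eq_zero]
    · exact absurd (hi.trans hj.symm) hij
  obtain ⟨a, b, hab, habM⟩ := step1
  have hrot : ∀ {a b c : Fin n}, a ≠ b → a ≠ c → b ≠ c → pr a b ∈ M → pr a c ∈ M := by
    intro a b c hab hac hbc h
    have h1 := hM _ (three_cycle_mem hab hbc) _ h
    convert add_mem h h1 using 1
    ext x
    simp only [mul_inv_rev, Equiv.swap_inv, Equiv.Perm.mul_apply, Pi.add_apply]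
    by_cases p1 : x = a
    · subst p1
      rw [Equiv.swap_apply_left, Equiv.swap_apply_left]
      simp [pr, hab, hac, hab.symm, hac.symm, hbc, hbc.symm]
    by_cases p2 : x = b
    · subst p2
      rw [Equiv.swap_apply_right, Equiv.swap_apply_of_ne_of_ne hab hac]
      simp [pr, hab, hac, hab.symm, hac.symm, hbc, hbc.symm, CharTwo.add_self_eq_zero]
    by_cases p3 : x = c
    · subst p3
      rw [Equiv.swap_apply_of_ne_of_ne hac.symm hbc.symm, Equiv.swap_apply_right]
      simp [pr, hab, hac, hab.symm, hac.symm, hbc, hbc.symm]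
    · rw [Equiv.swap_apply_of_ne_of_ne p1 p2, Equiv.swap_apply_of_ne_of_ne p2 p3]
      simp [pr, p1, p2, p3]
  intro u hu
  have key : u = ∑ x, u x • pr a x := by
    ext y
    simp only [Finset.sum_apply, Pi.smul_apply, pr, Pi.add_apply, smul_eq_mul, mul_add,
      Finset.sum_add_distrib, ← Finset.sum_mul, hu]
    simp [Pi.single_apply]
  rw [key]
  refine sum_mem fun x _ => ?_
  have h01 : ∀ c : ZMod 2, c = 0 ∨ c = 1 := by decide
  rcases h01 (u x) with e | e
  · simp [e]
  rw [e, one_smul]
  by_cases hxa : x = a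
  · subst hxa
    convert zero_mem M
    ext y; simp [pr, CharTwo.add_self_eq_zero]
  by_cases hxb : x = b
  · subst hxb; exact habM
  exact hrot hab (Ne.symm hxa) (Ne.symm hxb) habM

theorem alt_faithful (h3 : 3 ≤ n) (σ : Equiv.Perm (Fin n))
    (h : ∀ v : Fin n → ZMod 2, ∑ i, v i = 0 → ∀ i, v (σ⁻¹ i) = v i) : σ = 1 := by
  classical
  ext a : 1
  by_contra hne
  rw [Equiv.Perm.one_apply] at hne
  obtain ⟨b, hb⟩ : ∃ b, b ∉ ({a, σ a} : Finset (Fin n)) := by
    by_contra h'
    push_neg at h'
    have h1 := Finset.card_le_card (s := Finset.univ) fun x _ => h' x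
    have h2 := Finset.card_insert_le a ({σ a} : Finset (Fin n))
    rw [Finset.card_singleton] at h2
    rw [Finset.card_univ, Fintype.card_fin] at h1
    omega
  simp only [Finset.mem_insert, Finset.mem_singleton, not_or] at hb
  have h1 := h (pr a b) (by
    simp [pr, Finset.sum_add_distrib, Pi.single_apply, CharTwo.add_self_eq_zero]) (σ a)
  simp [pr, hne, Ne.symm hb.2, Ne.symm hb.1] at h1

end Alt

end Cfsg.Agent.BaumannBlockModules
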