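import Mathlib
import Cfsg.Prelude.Def_LocalStructure
import Cfsg.Agent.Lib.LocalBasics
import Cfsg.Agent.Lib.PGroupsBasic

/-! Weakly closed and large subgroups (`IsWeaklyClosedSubgroup`, `IsLarge`). -/

set_option autoImplicit false

namespace Cfsg.Agent.LocalLarge57

open Subgroup
open Cfsg.Agent.LocalBasics
open scoped commutatorElement

variable {G : Type*} [Group G] {p : ℕ}

/-- `conjBy g X = g X g⁻¹`. -/
abbrev conjBy (g : G) (X : Subgroup G) : Subgroup G := X.map (MulAut.conj g).toMonoidHom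

theorem mem_conjBy {g x : G} {X : Subgroup G} : x ∈ conjBy g X ↔ g⁻¹ * x * g ∈ X := by
  constructor
  · rintro ⟨y, hy, rfl⟩
    simpa [mul_assoc] using hy
  · intro h
    exact ⟨_, h, by simp [mul_assoc]⟩

theorem conjBy_conjBy (a b : G) (X : Subgroup G) : conjBy a (conjBy b X) = conjBy (a * b) X := by
  ext x
  rw [mem_conjBy, mem_conjBy, mem_conjBy]
  simp [mul_assoc]

theorem conjBy_one (X : Subgroup G) : conjBy (1 : G) X = X := by
  ext x; rw [mem_conjBy]; simp

theorem conjBy_inv_self (g : G) (X : Subgroup G) : conjBy g⁻¹ (conjBy g X) = X := by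
  rw [conjBy_conjBy, inv_mul_cancel, conjBy_one]

theorem conjBy_self_inv (g : G) (X : Subgroup G) : conjBy g (conjBy g⁻¹ X) = X := by
  rw [conjBy_conjBy, mul_inv_cancel, conjBy_one]

theorem conjBy_mono (g : G) {X Y : Subgroup G} (h : X ≤ Y) : conjBy g X ≤ conjBy g Y := map_mono h

theorem conjBy_le_iff {g : G} {X Y : Subgroup G} : conjBy g X ≤ Y ↔ X ≤ conjBy g⁻¹ Y := by
  constructor
  · intro h; have := conjBy_mono g⁻¹ h; rwa [conjBy_inv_self] at this
  · intro h; have := conjBy_mono g h; rwa [conjBy_self_inv] at this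

theorem card_conjBy (g : G) (X : Subgroup G) : Nat.card ↥(conjBy g X) = Nat.card ↥X :=
  card_map_of_injective (MulEquiv.injective _)

theorem mem_normalizer_iff_conjBy {g : G} {X : Subgroup G} :
    g ∈ normalizer (X : Set G) ↔ conjBy g X = X :=
  mem_normalizer_iff_map_conj_eq

theorem normalizer_conjBy (g : G) (X : Subgroup G) :
    normalizer ((conjBy g X : Subgroup G) : Set G) = conjBy g (normalizer (X : Set G)) := by
  ext x
  rw [mem_normalizer_iff_conjBy, mem_conjBy, mem_normalizer_iff_conjBy]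
  constructor
  · intro h
    have := congrArg (conjBy g⁻¹) h
    rwa [conjBy_inv_self, conjBy_conjBy, conjBy_conjBy] at this
  · intro h
    have := congrArg (conjBy g) h
    rwa [conjBy_conjBy, mul_assoc, mul_inv_cancel_left, ← conjBy_conjBy] at this

theorem centralizer_conjBy (g : G) (X : Subgroup G) :
    centralizer ((conjBy g X : Subgroup G) : Set G) = conjBy g (centralizer (X : Set G)) := by
  ext x
  rw [mem_conjBy]
  constructor
  · intro h y hy
    have h1 : g * y * g⁻¹ * x = x * (g * y * g⁻¹) := h _ ⟨y, hy, rfl⟩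
    calc y * (g⁻¹ * x * g) = g⁻¹ * (g * y * g⁻¹ * x) * g := by group
      _ = g⁻¹ * (x * (g * y * g⁻¹)) * g := by rw [h1]
      _ = g⁻¹ * x * g * y := by group
  · intro h
    rintro _ ⟨y, hy, rfl⟩
    have h1 := h y hy
    show g * y * g⁻¹ * x = x * (g * y * g⁻¹)
    calc g * y * g⁻¹ * x = g * (y * (g⁻¹ * x * g)) * g⁻¹ := by group
      _ = g * (g⁻¹ * x * g * y) * g⁻¹ := by rw [h1]
      _ = x * (g * y * g⁻¹) := by group

theorem le_normalizer_pCoreOf_of_le_normalizer [Finite G] {X K : Subgroup G}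
    (h : X ≤ normalizer (K : Set G)) :
    X ≤ normalizer ((Cfsg.pCoreOf p K : Subgroup G) : Set G) := by
  intro x hx
  have key : ∀ y ∈ X, conjBy y (Cfsg.pCoreOf p K) ≤ Cfsg.pCoreOf p K := by
    intro y hy
    have hK : conjBy y K = K := mem_normalizer_iff_conjBy.mp (h hy)
    refine le_pCoreOf ?_ ?_ ((isPGroup_pCoreOf p K).map _)
    · exact (conjBy_mono y (pCoreOf_le p K)).trans hK.le
    · rw [normalizer_conjBy]
      exact hK.ge.trans (conjBy_mono y (le_normalizer_pCoreOf p K))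
  rw [mem_normalizer_iff_conjBy]
  refine le_antisymm (key x hx) ?_
  have := key x⁻¹ (inv_mem hx)
  rwa [conjBy_le_iff, inv_inv] at this

/-- A normal subgroup's `O_p` lies in `O_p`. -/
theorem pCoreOf_le_pCoreOf [Finite G] {A B : Subgroup G} (hAB : A ≤ B)
    (hn : B ≤ normalizer (A : Set G)) : Cfsg.pCoreOf p A ≤ Cfsg.pCoreOf p B :=
  le_pCoreOf ((pCoreOf_le p A).trans hAB) (le_normalizer_pCoreOf_of_le_normalizer hn)
    (isPGroup_pCoreOf p A)

theorem eq_one_of_coprime_isPGroup [Fact p.Prime] {P : Subgroup G} (hP : IsPGroup p ↥P) {x : G}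
    (hx : x ∈ P) (hc : (orderOf x).Coprime p) : x = 1 := by
  obtain ⟨k, hk⟩ := hP ⟨x, hx⟩
  exact orderOf_eq_one_iff.mp (Nat.eq_one_of_dvd_coprimes (hc.pow_right k) dvd_rfl
    (orderOf_dvd_of_pow_eq_one (congrArg Subtype.val hk :)))

theorem isPGroup_sup_normalizing {A B : Subgroup G} (hA : IsPGroup p ↥A) (hB : IsPGroup p ↥B)
    (h : B ≤ normalizer (A : Set G)) : IsPGroup p ↥(A ⊔ B) :=
  hA.to_sup_of_normal_left' hB h

/-- A nontrivial `p`-group normalized by the `p`-group `Q` contains nontrivial fixed points. -/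
theorem inf_centralizer_ne_bot [Finite G] [Fact p.Prime] {U Q : Subgroup G} (hU : IsPGroup p ↥U)
    (hQ : IsPGroup p ↥Q) (h : Q ≤ normalizer (U : Set G)) (hne : U ≠ ⊥) :
    U ⊓ centralizer (Q : Set G) ≠ ⊥ := by
  set W := U ⊔ Q
  have hW : IsPGroup p ↥W := isPGroup_sup_normalizing hU hQ h
  haveI : (U.subgroupOf W).Normal := normal_subgroupOf_of_le (sup_le le_normalizer h)
  have hne' : U.subgroupOf W ≠ ⊥ := by
    intro h0
    apply hne
    have := congrArg (Subgroup.map W.subtype) h0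
    rwa [map_subgroupOf_eq_of_le le_sup_left, Subgroup.map_bot] at this
  obtain ⟨x, hx⟩ := Subgroup.ne_bot_iff_exists_ne_one.mp (PGroupsBasic.inf_center_ne_bot hW hne')
  intro hbot
  apply hx
  obtain ⟨hxU, hxZ⟩ := x.2
  have : ((x : ↥W) : G) ∈ U ⊓ centralizer (Q : Set G) := ⟨hxU, fun q hq =>
    congrArg Subtype.val (Subgroup.mem_center_iff.mp hxZ ⟨q, mem_sup_right hq⟩)⟩
  rw [hbot, mem_bot] at this
  exact Subtype.ext (Subtype.ext this)

/-! ### Weakly closed subgroups -/

theorem commutator_le_inf {A B : Subgroup G} (h1 : A ≤ normalizer (B : Set G))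
    (h2 : B ≤ normalizer (A : Set G)) : ⁅A, B⁆ ≤ A ⊓ B :=
  le_inf (le_normalizer_iff_commutator_le_left.mp h2) (le_normalizer_iff_commutator_le_right.mp h1)

theorem wc_of_sylow [Finite G] [Fact p.Prime] {Q : Subgroup G} (h : Cfsg.IsWeaklyClosedSubgroup p Q)
    (T : Sylow p G) (hQT : Q ≤ (T : Subgroup G)) : Cfsg.IsWeaklyClosed Q (T : Subgroup G) := by
  obtain ⟨T₀, hQT₀, huniq⟩ := h
  obtain ⟨g, hg⟩ := MulAction.exists_smul_eq G T₀ T
  have hgT : (T : Subgroup G) = conjBy g (T₀ : Subgroup G) := by rw [← hg]; rfl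
  have key : ∀ a : G, conjBy a Q ≤ (T : Subgroup G) → conjBy (g⁻¹ * a) Q = Q := by
    intro a ha
    rw [hgT] at ha
    have := conjBy_mono g⁻¹ ha
    rw [conjBy_inv_self, conjBy_conjBy] at this
    exact huniq _ this
  refine ⟨hQT, fun a ha => ?_⟩
  have h1 : conjBy g⁻¹ Q = Q := by
    have := key 1 (by rwa [conjBy_one])
    rwa [mul_one] at this
  have h2 := congrArg (conjBy g) (key a ha)
  rw [← conjBy_conjBy g⁻¹, conjBy_self_inv] at h2
  rw [h1.symm] at h2
  rw [conjBy_self_inv] at h2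
  show conjBy a Q = Q
  rw [h1] at h2
  exact h2

/-- Uniqueness of `Q` in `p`-subgroups. -/
theorem unique_of_wc [Finite G] [Fact p.Prime] {Q : Subgroup G}
    (h : Cfsg.IsWeaklyClosedSubgroup p Q) {R : Subgroup G} (hR : IsPGroup p ↥R) (hQR : Q ≤ R)
    {g : G} (hg : conjBy g Q ≤ R) : conjBy g Q = Q := by
  obtain ⟨T, hT⟩ := hR.exists_le_sylow
  exact (wc_of_sylow h T (hQR.trans hT)).2 g (hg.trans hT)

theorem normalizer_le_of_wc [Finite G] [Fact p.Prime] {Q : Subgroup G}
    (h : Cfsg.IsWeaklyClosedSubgroup p Q) {R : Subgroup G} (hR : IsPGroup p ↥R) (hQR : Q ≤ R) :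
    normalizer (R : Set G) ≤ normalizer (Q : Set G) := by
  intro n hn
  rw [mem_normalizer_iff_conjBy] at hn ⊢
  exact unique_of_wc h hR hQR ((conjBy_mono n hQR).trans hn.le)

theorem le_normalizer_of_wc [Finite G] [Fact p.Prime] {Q : Subgroup G}
    (h : Cfsg.IsWeaklyClosedSubgroup p Q) {R : Subgroup G} (hR : IsPGroup p ↥R) (hQR : Q ≤ R) :
    R ≤ normalizer (Q : Set G) :=
  le_normalizer.trans (normalizer_le_of_wc h hR hQR)

theorem eq_of_wc_of_normalizing [Finite G] [Fact p.Prime] {Q : Subgroup G}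
    (h : Cfsg.IsWeaklyClosedSubgroup p Q) (hQ : IsPGroup p ↥Q) {g : G}
    (h2 : conjBy g Q ≤ normalizer (Q : Set G)) : conjBy g Q = Q :=
  unique_of_wc h (isPGroup_sup_normalizing hQ (hQ.map _) h2) le_sup_left le_sup_right

theorem le_normalizer_of_commutator {A B : Subgroup G} (h : ⁅A, B⁆ ≤ A ⊓ B) :
    B ≤ normalizer (A : Set G) :=
  le_normalizer_iff_commutator_le_left.mpr (h.trans inf_le_left)

/-- From "`N(R) ≤ N(Q)` for all `p`-groups `R ≥ Q`" to "no mutually normalizing conjugates". -/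
theorem eq_of_normalizer_cond [Finite G] [Fact p.Prime] {Q : Subgroup G} (hQ : IsPGroup p ↥Q)
    (h : ∀ R : Subgroup G, IsPGroup p ↥R → Q ≤ R → normalizer (R : Set G) ≤ normalizer (Q : Set G))
    {g : G} (h2 : conjBy g Q ≤ normalizer (Q : Set G)) : conjBy g Q = Q := by
  obtain ⟨T, hT⟩ := (isPGroup_sup_normalizing hQ (hQ.map _) h2).exists_le_sylow
  have hTQ : (T : Subgroup G) ≤ normalizer (Q : Set G) :=
    le_normalizer.trans (h _ T.isPGroup' (le_sup_left.trans hT))
  set P := conjBy g Q with hP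
  have hgT : conjBy g (T : Subgroup G) ≤ normalizer (P : Set G) := by
    rw [normalizer_conjBy]; exact conjBy_mono g hTQ
  have hTP : (T : Subgroup G) ≤ normalizer (P : Set G) := by
    have h1 : Q ≤ conjBy g⁻¹ (T : Subgroup G) := conjBy_le_iff.mp (le_sup_right.trans hT)
    have h3 : conjBy g⁻¹ (T : Subgroup G) ≤ normalizer (Q : Set G) :=
      le_normalizer.trans (h _ (T.isPGroup'.map _) h1)
    rw [normalizer_conjBy, ← conjBy_self_inv g (T : Subgroup G)]
    exact conjBy_mono g h3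
  set N := normalizer (P : Set G)
  have hgT' : ((g • T : Sylow p G) : Subgroup G) ≤ N := hgT
  obtain ⟨n, hn⟩ := MulAction.exists_smul_eq ↥N ((g • T).subtype hgT') (T.subtype hTP)
  rw [Sylow.smul_subtype] at hn
  have hn' : ((n : G) * g) • T = T := by
    rw [mul_smul]
    exact Sylow.subtype_injective hn
  have hng : conjBy ((n : G) * g) Q = Q := by
    refine mem_normalizer_iff_conjBy.mp (h _ T.isPGroup' (le_sup_left.trans hT) ?_)
    exact mem_normalizer_iff_conjBy.mpr (congrArg Sylow.toSubgroup hn')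
  rw [← conjBy_conjBy, mem_normalizer_iff_conjBy.mp n.2] at hng
  exact hng

/-- A criterion for weakly closed subgroups. -/
theorem wc_of_eq_cond [Finite G] [Fact p.Prime] {Q : Subgroup G} (hQ : IsPGroup p ↥Q)
    (h : ∀ g : G, ⁅Q, conjBy g Q⁆ ≤ Q ⊓ conjBy g Q → conjBy g Q = Q) :
    Cfsg.IsWeaklyClosedSubgroup p Q := by
  have main : ∀ n : ℕ, ∀ R : Subgroup G, Nat.card R ≤ n → IsPGroup p ↥R → Q ≤ R → ∀ g : G,
      conjBy g Q ≤ R → conjBy g Q = Q := by
    intro n
    induction n with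
    | zero => intro R hR; exact absurd hR (Nat.not_le.mpr Nat.card_pos)
    | succ n ih =>
      have hnorm : ∀ R : Subgroup G, Nat.card R ≤ n + 1 → IsPGroup p ↥R → Q ≤ R →
          R ≤ normalizer (Q : Set G) := by
        intro R hn hR hQR
        rcases eq_or_ne Q R with rfl | hne
        · exact le_normalizer
        have hne' : Q.subgroupOf R ≠ ⊤ := fun ht => hne (le_antisymm hQR (subgroupOf_eq_top.mp ht))
        obtain ⟨M, hM, hQM⟩ := PGroupsBasic.exists_isCoatom_ge hne'
        have hMn := PGroupsBasic.normal_of_isCoatom hR hM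
        have hMG : M.map R.subtype < R :=
          lt_of_le_of_ne (map_subtype_le M) fun he => hM.1 (by
            apply map_injective R.subtype_injective
            rw [he, ← MonoidHom.range_eq_map, range_subtype])
        have hQM' : Q ≤ M.map R.subtype := by
          rw [← map_subgroupOf_eq_of_le hQR]; exact map_mono hQM
        have hcard : Nat.card ↥(M.map R.subtype) ≤ n := by
          have : Nat.card ↥(M.map R.subtype) < Nat.card R :=
            Set.ncard_lt_ncard (s := ((M.map R.subtype : Subgroup G) : Set G)) (t := (R : Set G))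
              (SetLike.coe_ssubset_coe.mpr hMG) (Set.toFinite _)
          omega
        intro x hx
        rw [mem_normalizer_iff_conjBy]
        refine ih _ hcard (hR.to_le hMG.le) hQM' x ?_
        have hxn := le_normalizer_map_normal R M hx
        rw [mem_normalizer_iff_conjBy] at hxn
        exact (conjBy_mono x hQM').trans hxn.le
      intro R hn hR hQR g hg
      apply h
      refine commutator_le_inf ?_ (hg.trans (hnorm R hn hR hQR))
      have h1 : Q ≤ conjBy g⁻¹ R := conjBy_le_iff.mp hg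
      have h2 := hnorm (conjBy g⁻¹ R) (by rw [card_conjBy]; exact hn) (hR.map _) h1
      rw [normalizer_conjBy]
      have h3 := conjBy_mono g h2
      rw [conjBy_self_inv] at h3
      exact hQR.trans h3
  obtain ⟨T, hT⟩ := hQ.exists_le_sylow
  exact ⟨T, hT, fun g hg => main _ _ le_rfl T.isPGroup' hT g hg⟩

theorem wc_of_normalizer_cond [Finite G] [Fact p.Prime] {Q : Subgroup G} (hQ : IsPGroup p ↥Q)
    (h : ∀ R : Subgroup G, IsPGroup p ↥R → Q ≤ R → normalizer (R : Set G) ≤ normalizer (Q : Set G)) :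
    Cfsg.IsWeaklyClosedSubgroup p Q :=
  wc_of_eq_cond hQ fun _ hg => eq_of_normalizer_cond hQ h (le_normalizer_of_commutator hg)

/-- In a subgroup containing `Q`, conjugates of `Q` are conjugate in the subgroup. -/
theorem exists_conj_of_wc [Finite G] [Fact p.Prime] {Q K : Subgroup G}
    (h : Cfsg.IsWeaklyClosedSubgroup p Q) (hQ : IsPGroup p ↥Q) (hQK : Q ≤ K) {g : G}
    (hg : conjBy g Q ≤ K) : ∃ k ∈ K, conjBy g Q = conjBy k Q := by
  obtain ⟨S, hS⟩ := (hQ.comap_subtype (K := K)).exists_le_sylow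
  obtain ⟨S', hS'⟩ := ((hQ.map (MulAut.conj g).toMonoidHom).comap_subtype (K := K)).exists_le_sylow
  obtain ⟨k, hk⟩ := MulAction.exists_smul_eq ↥K S' S
  refine ⟨(k : G)⁻¹, K.inv_mem k.2, ?_⟩
  have h1 : conjBy ((k : G) * g) Q ≤ (S : Subgroup ↥K).map K.subtype := by
    rw [← hk, ← conjBy_conjBy]
    rintro _ ⟨y, hy, rfl⟩
    exact ⟨k * ⟨y, hg hy⟩ * k⁻¹, ⟨⟨y, hg hy⟩, hS' hy, rfl⟩, rfl⟩
  have h2 : Q ≤ (S : Subgroup ↥K).map K.subtype := fun q hq => ⟨⟨q, hQK hq⟩, hS hq, rfl⟩
  have h3 := unique_of_wc h (S.isPGroup'.map _) h2 h1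
  rw [← conjBy_conjBy] at h3
  have := congrArg (conjBy (k : G)⁻¹) h3
  rwa [conjBy_inv_self] at this

/-! ### Weak closure -/

theorem conjBy_le_weakClosure {Q L : Subgroup G} {g : G} (h : conjBy g Q ≤ L) :
    conjBy g Q ≤ Cfsg.weakClosure Q L :=
  le_iSup (fun x : {x : G // Q.map (MulAut.conj x).toMonoidHom ≤ L} =>
    Q.map (MulAut.conj (x : G)).toMonoidHom) ⟨g, h⟩

theorem weakClosure_le (Q L : Subgroup G) : Cfsg.weakClosure Q L ≤ L := iSup_le fun x => x.2

theorem le_weakClosure {Q L : Subgroup G} (h : Q ≤ L) : Q ≤ Cfsg.weakClosure Q L := by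
  have := conjBy_le_weakClosure (Q := Q) (L := L) (g := 1) (by rwa [conjBy_one])
  rwa [conjBy_one] at this

theorem weakClosure_mono {Q L M : Subgroup G} (h : ∀ g : G, conjBy g Q ≤ L → conjBy g Q ≤ M) :
    Cfsg.weakClosure Q L ≤ Cfsg.weakClosure Q M :=
  iSup_le fun x => conjBy_le_weakClosure (h x x.2)

theorem le_normalizer_weakClosure (Q L : Subgroup G) :
    L ≤ normalizer ((Cfsg.weakClosure Q L : Subgroup G) : Set G) := by
  refine le_normalizer_of_conj fun l hl k hk => ?_
  have h1 : Cfsg.weakClosure Q L ≤ (Cfsg.weakClosure Q L).comap (MulAut.conj l).toMonoidHom := by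
    refine iSup_le fun x => ?_
    rw [← map_le_iff_le_comap]
    show conjBy l (conjBy (x : G) Q) ≤ _
    rw [conjBy_conjBy]
    refine conjBy_le_weakClosure ?_
    rw [← conjBy_conjBy]
    exact (conjBy_mono l x.2).trans (mem_normalizer_iff_conjBy.mp (le_normalizer hl)).le
  exact h1 hk

/-! ### Large subgroups -/

theorem large_conjBy {Q : Subgroup G} (h : Cfsg.IsLarge Q) (g : G) :
    Cfsg.IsLarge (conjBy g Q) := by
  refine ⟨?_, fun U hU hU1 => ?_⟩
  · rw [centralizer_conjBy]; exact conjBy_mono g h.1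
  · rw [centralizer_conjBy] at hU
    have h1 : conjBy g⁻¹ U ≤ centralizer (Q : Set G) := by
      have := conjBy_mono g⁻¹ hU; rwa [conjBy_inv_self] at this
    have h2 : conjBy g⁻¹ U ≠ ⊥ := fun h0 => hU1 (by
      have := congrArg (conjBy g) h0
      rwa [conjBy_self_inv, conjBy, Subgroup.map_bot] at this)
    have h3 := conjBy_mono g (h.2 _ h1 h2)
    rw [← normalizer_conjBy, ← normalizer_conjBy, conjBy_self_inv] at h3
    exact h3

theorem large_normalizer_cond [Finite G] [Fact p.Prime] {Q : Subgroup G} (h : Cfsg.IsLarge Q)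
    (hQ1 : Q ≠ ⊥) {R : Subgroup G} (hR : IsPGroup p ↥R) (hQR : Q ≤ R) :
    normalizer (R : Set G) ≤ normalizer (Q : Set G) := by
  have hR1 : R ≠ ⊥ := fun h0 => hQ1 (le_bot_iff.mp (h0 ▸ hQR))
  have hne := inf_centralizer_ne_bot hR hR le_normalizer hR1
  refine le_trans ?_ (h.2 _ (inf_le_right.trans (centralizer_le hQR)) hne)
  exact le_normalizer_inf le_rfl (le_normalizer_centralizer le_rfl)

theorem wc_of_large [Finite G] [Fact p.Prime] {Q : Subgroup G} (h : Cfsg.IsLarge Q)
    (hQ : IsPGroup p ↥Q) (hQ1 : Q ≠ ⊥) : Cfsg.IsWeaklyClosedSubgroup p Q :=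
  wc_of_normalizer_cond hQ fun _ hR hQR => large_normalizer_cond h hQ1 hR hQR

/-- The `Q!`-property applied to a normalized `p`-subgroup: `C(U) ≤ N(Q)`. -/
theorem centralizer_le_of_large [Finite G] [Fact p.Prime] {Q U : Subgroup G} (h : Cfsg.IsLarge Q)
    (hQ : IsPGroup p ↥Q) (hU : IsPGroup p ↥U) (hU1 : U ≠ ⊥) (hn : Q ≤ normalizer (U : Set G)) :
    centralizer (U : Set G) ≤ normalizer (Q : Set G) := by
  have hne := inf_centralizer_ne_bot hU hQ hn hU1
  refine le_trans ?_ (h.2 _ inf_le_right hne)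
  exact (centralizer_le (SetLike.coe_subset_coe.mpr inf_le_left)).trans (LocalBasics.centralizer_le_normalizer _)

/-- Conjugates of a large subgroup normalizing each other are equal. -/
theorem eq_of_large [Finite G] [Fact p.Prime] {Q : Subgroup G} (h : Cfsg.IsLarge Q)
    (hQ : IsPGroup p ↥Q) (hQ1 : Q ≠ ⊥) {g : G} (h2 : conjBy g Q ≤ normalizer (Q : Set G)) :
    conjBy g Q = Q :=
  eq_of_wc_of_normalizing (wc_of_large h hQ hQ1) hQ h2

end Cfsg.Agent.LocalLarge57
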