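import Mathlib
import Cfsg.Prelude.Def_BaumannBlocks
import Cfsg.Agent.Lib.BaumannBlockBasics
import Cfsg.Agent.Lib.BaumannBlockModules
import Cfsg.Agent.Lib.LocalLarge57

/-!
The section `W / Z` of a `B(T)`-block, its commutator module `[W, E]`, and the consequences for
groups of characteristic `p`.
-/

set_option autoImplicit false

namespace Cfsg.Agent.BaumannBlockStructure

open Subgroup Cfsg BaumannBlockBasics BaumannBlockModules
open scoped commutatorElement

variable {G : Type*} [Group G]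

/-- `E` normalises `W`, and `W / Z` is irreducible with kernel inside `Q`. -/
structure NatSection (E Q W Z : Subgroup G) : Prop where
  norm : E ≤ normalizer (W : Set G)
  zle : Z ≤ W
  irred : ∀ U : Subgroup G, Z ≤ U → U ≤ W → E ≤ normalizer (U : Set G) → U = Z ∨ U = W
  ker : ∀ e ∈ E, (∀ w ∈ W, ⁅e, w⁆ ∈ Z) → e ∈ Q

theorem natSection_of_action [Finite G] {p : ℕ} [Fact p.Prime] {E W Z : Subgroup G} {K : Type*}
    [Group K] {V : Type*} [AddCommGroup V] {R : Subgroup K} (act : K → V → V)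
    (hn : E ≤ normalizer (W : Set G)) (hz : Z ≤ W) (ρ : ↥E →* K) (ψ : ↥W →* Multiplicative V)
    (M0 : AddSubgroup V) (hρ : ρ.range = R)
    (hM0 : ∀ v, v ∈ M0 ↔ ∃ u : ↥W, Multiplicative.toAdd (ψ u) = v)
    (hker : ∀ u : ↥W, ψ u = 1 ↔ (u : G) ∈ Z)
    (hact : ∀ (e : ↥E) (u : ↥W), ∃ w : ↥W, (w : G) = (e : G) * (u : G) * (e : G)⁻¹ ∧
      Multiplicative.toAdd (ψ w) = act (ρ e) (Multiplicative.toAdd (ψ u)))
    (hirr : ∀ M : AddSubgroup V, M ≤ M0 → (∀ k ∈ R, ∀ v ∈ M, act k v ∈ M) → M = ⊥ ∨ M = M0)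
    (hfaith : ∀ k : K, (∀ v ∈ M0, act k v = v) → k = 1)
    (iso : Nonempty (↥E ⧸ pCore p ↥E ≃* ↥R)) (hWc : W ≤ centralizer (pCoreOf p E : Set G)) :
    NatSection E (pCoreOf p E) W Z where
  norm := hn
  zle := hz
  irred U hZU hUW hEU := by
    let M : AddSubgroup V :=
      { carrier := {v | ∃ u : ↥W, (u : G) ∈ U ∧ Multiplicative.toAdd (ψ u) = v}
        zero_mem' := ⟨1, one_mem U, by simp⟩
        add_mem' := by
          rintro _ _ ⟨a, ha, rfl⟩ ⟨b, hb, rfl⟩
          exact ⟨a * b, mul_mem ha hb, by simp⟩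
        neg_mem' := by
          rintro _ ⟨a, ha, rfl⟩
          exact ⟨a⁻¹, inv_mem ha, by simp⟩ }
    have hle : M ≤ M0 := fun v ⟨u, _, hu⟩ => (hM0 v).2 ⟨u, hu⟩
    have hinv : ∀ k ∈ R, ∀ v ∈ M, act k v ∈ M := by
      rintro k hk _ ⟨u, hu, rfl⟩
      rw [← hρ] at hk
      obtain ⟨e, rfl⟩ := hk
      obtain ⟨w, hw, hval⟩ := hact e u
      exact ⟨w, by rw [hw]; exact LocalBasics.conj_mem_of_le_normalizer hEU e.2 hu, hval⟩
    rcases hirr M hle hinv with h | h
    · refine Or.inl (le_antisymm (fun x hx => ?_) hZU)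
      have hm : Multiplicative.toAdd (ψ ⟨x, hUW hx⟩) ∈ M := ⟨_, hx, rfl⟩
      rw [h, AddSubgroup.mem_bot] at hm
      exact (hker ⟨x, hUW hx⟩).1 (by simpa using hm)
    · refine Or.inr (le_antisymm hUW fun x hx => ?_)
      have hm : Multiplicative.toAdd (ψ ⟨x, hx⟩) ∈ M := by rw [h]; exact (hM0 _).2 ⟨_, rfl⟩
      obtain ⟨u, hu, he⟩ := hm
      have h1 : ψ (⟨x, hx⟩ * u⁻¹) = 1 := by
        rw [map_mul, map_inv, Multiplicative.toAdd.injective he, mul_inv_cancel]
      have h2 := mul_mem (hZU ((hker _).1 h1)) hu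
      simpa using h2
  ker := by
    have hfix : ∀ e : ↥E, (∀ w ∈ W, ⁅(e : G), w⁆ ∈ Z) → ρ e = 1 := by
      intro e he
      refine hfaith _ fun v hv => ?_
      obtain ⟨u, rfl⟩ := (hM0 v).1 hv
      obtain ⟨w, hw, hval⟩ := hact e u
      rw [← hval]
      have h1 : ψ (w * u⁻¹) = 1 := (hker _).2 (by
        have := he u u.2
        rw [commutatorElement_def] at this
        simpa [hw] using this)
      rw [map_mul, map_inv, mul_inv_eq_one] at h1
      rw [h1]
    have hle : pCore p ↥E ≤ ρ.ker := by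
      intro q hq
      refine MonoidHom.mem_ker.2 (hfix q fun w hw => ?_)
      have hc : (q : G) * w = w * q := hWc hw (q : G) ⟨q, hq, rfl⟩
      have : ⁅(q : G), w⁆ = 1 := commutatorElement_eq_one_iff_mul_comm.2 hc
      rw [this]
      exact one_mem _
    obtain ⟨i⟩ := iso
    have hcard : Nat.card (↥E ⧸ ρ.ker) = Nat.card (↥E ⧸ pCore p ↥E) := by
      rw [Nat.card_congr (QuotientGroup.quotientKerEquivRange ρ).toEquiv, hρ,
        Nat.card_congr i.toEquiv]
    have heq : pCore p ↥E = ρ.ker := by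
      refine Subgroup.eq_of_le_of_card_ge hle (le_of_eq ?_)
      have h1 := Subgroup.card_eq_card_quotient_mul_card_subgroup ρ.ker
      have h2 := Subgroup.card_eq_card_quotient_mul_card_subgroup (pCore p ↥E)
      rw [h1, hcard] at h2
      exact Nat.eq_of_mul_eq_mul_left Nat.card_pos h2
    intro e he hew
    exact ⟨⟨e, he⟩, by rw [heq]; exact hfix ⟨e, he⟩ hew, rfl⟩

variable [Finite G] {p : ℕ} [Fact p.Prime] {T E : Subgroup G}

theorem ne_bot_of_block (h : IsBaumannBlock p T E) : E ≠ ⊥ := by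
  intro he
  apply h.2.2.2.1
  rw [he, commutator_bot_left]

theorem not_isPGroup (h : IsBaumannBlock p T E) : ¬ IsPGroup p ↥E := by
  intro hp
  apply ne_bot_of_block h
  rw [← h.1, pResidualOf_eq_closure, Subgroup.closure_eq_bot_iff]
  intro g hg
  obtain ⟨k, hk⟩ := hp ⟨g, hg.1⟩
  have hd : orderOf g ∣ p ^ k := orderOf_dvd_of_pow_eq_one (congrArg Subtype.val hk)
  exact orderOf_eq_one_iff.1 (Nat.eq_one_of_dvd_coprimes (hg.2.pow_right k) dvd_rfl hd)

/-- The section `W / Z` of a block. -/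
theorem natSection (h : IsBaumannBlock p T E) :
    NatSection E (pCoreOf p E) (omegaOneCenter p (pCoreOf p E))
      (omegaOneCenter p (pCoreOf p E) ⊓ centralizer (E : Set G)) := by
  classical
  have hWc : omegaOneCenter p (pCoreOf p E) ≤ centralizer (pCoreOf p E : Set G) :=
    (Offenders.omegaOne_le _).trans inf_le_right
  rcases h.2.2.2.2 with ⟨F, _, _, n, _, hiso, ⟨hn, hz, ρ, ψ, hρ, hsur, hker, hact⟩, _⟩ |
    ⟨hp, m, hiso, ⟨hn, hz, ρ, ψ, hρ, heven, hsur, hker, hact⟩, _⟩
  · refine natSection_of_action (fun (k : Matrix.SpecialLinearGroup (Fin 2) F) v =>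
      (k : Matrix (Fin 2) (Fin 2) F).mulVec v) hn hz ρ ψ ⊤ hρ
      (fun v => ⟨fun _ => ?_, fun _ => trivial⟩) hker hact (fun M _ hM => sl2_irreducible M hM)
      (fun k hk => sl2_faithful k fun v => hk v trivial) hiso hWc
    obtain ⟨u, hu⟩ := hsur (Multiplicative.ofAdd v)
    exact ⟨u, by rw [hu]; rfl⟩
  · rcases Nat.eq_zero_or_pos m with rfl | hm
    · exfalso
      apply not_isPGroup h
      obtain ⟨i⟩ := hiso
      have hone : Nat.card (↥E ⧸ pCore p ↥E) = 1 := by
        rw [Nat.card_congr i.toEquiv]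
        have h1 : Nat.card (Equiv.Perm (Fin (2 * 0 + 1))) = 1 := by
          rw [Nat.card_eq_fintype_card, Fintype.card_perm, Fintype.card_fin]; rfl
        have h2 := Subgroup.card_subgroup_dvd_card (alternatingGroup (Fin (2 * 0 + 1)))
        rw [h1] at h2
        exact Nat.eq_one_of_dvd_one h2
      have htop : pCore p ↥E = ⊤ := Subgroup.index_eq_one.1 hone
      have hQ : IsPGroup p ↥(pCoreOf p E) := LocalBasics.isPGroup_pCoreOf p E
      rw [pCoreOf, htop, ← MonoidHom.range_eq_map, Subgroup.range_subtype] at hQ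
      exact hQ
    let M0 : AddSubgroup (Fin (2 * m + 1) → ZMod 2) :=
      { carrier := {v | ∑ i, v i = 0}
        zero_mem' := by simp
        add_mem' := fun {a b} (ha : ∑ i, a i = 0) (hb : ∑ i, b i = 0) => by
          simp [Finset.sum_add_distrib, ha, hb]
        neg_mem' := fun {a} (ha : ∑ i, a i = 0) => by simp [Finset.sum_neg_distrib, ha] }
    refine natSection_of_action (fun k v i => v (k⁻¹ i)) hn hz ρ ψ M0 hρ
      (fun v => ⟨fun hv => hsur v hv, fun ⟨u, hu⟩ => hu ▸ heven u⟩) hker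
      (fun e u => ?_) (fun M hM hinv => ?_)
      (fun k hk => alt_faithful (by omega) k fun v hv => congrFun (hk v hv)) hiso hWc
    · obtain ⟨w, hw, hval⟩ := hact e u
      exact ⟨w, hw, funext hval⟩
    · rcases alt_irreducible ⟨m, rfl⟩ (by omega) M (fun v hv => hM hv) hinv with h' | h'
      · exact Or.inl h'
      · exact Or.inr (le_antisymm hM fun v hv => h' v hv)

/-! ### Consequences in characteristic `p` -/

/-- `W_E = [Ω₁(Z(O_p(E))), E]`. -/
abbrev wE (p : ℕ) (E : Subgroup G) : Subgroup G := ⁅omegaOneCenter p (pCoreOf p E), E⁆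

theorem normalizer_le_omega (p : ℕ) (K : Subgroup G) :
    normalizer (K : Set G) ≤ normalizer (omegaOneCenter p K : Set G) := by
  refine LocalBasics.le_normalizer_of_conj fun n hn v hv => ?_
  have h : omegaOneCenter p K ≤ (omegaOneCenter p K).comap (MulAut.conj n).toMonoidHom := by
    refine (closure_le _).2 fun x hx => ?_
    refine Offenders.mem_omegaOne
      (LocalBasics.conj_mem_of_le_normalizer (LocalBasics.le_normalizer_inf le_rfl
        (LocalBasics.le_normalizer_centralizer le_rfl)) hn hx.1) ?_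
    show (n * x * n⁻¹) ^ p = 1
    rw [conj_pow, hx.2, mul_one, mul_inv_cancel]
  exact h hv

theorem omega_le (p : ℕ) (K : Subgroup G) : omegaOneCenter p K ≤ K :=
  (Offenders.omegaOne_le _).trans inf_le_left

theorem omega_comm (p : ℕ) (K : Subgroup G) {x y : G} (hx : x ∈ omegaOneCenter p K)
    (hy : y ∈ omegaOneCenter p K) : x * y = y * x :=
  ((Offenders.omegaOne_le _ hy).2 x (omega_le p K hx))

theorem omega_pow (p : ℕ) (K : Subgroup G) {x : G} (hx : x ∈ omegaOneCenter p K) : x ^ p = 1 :=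
  ((Offenders.ea_iff _).1 (Offenders.omegaOne_ea (K := K ⊓ centralizer (K : Set G))
    fun _ ha _ hb => hb.2 _ ha.1)).2 x hx

theorem le_normalizer_omega {X : Subgroup G} (h : X ≤ normalizer (E : Set G)) :
    X ≤ normalizer (omegaOneCenter p (pCoreOf p E) : Set G) :=
  (LocalLarge57.le_normalizer_pCoreOf_of_le_normalizer h).trans (normalizer_le_omega p _)

theorem le_normalizer_wE {X : Subgroup G} (h : X ≤ normalizer (E : Set G)) :
    X ≤ normalizer (wE p E : Set G) := by
  refine LocalBasics.le_normalizer_of_conj fun x hx v hv => ?_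
  have hle : wE p E ≤ (wE p E).comap (MulAut.conj x).toMonoidHom := by
    refine commutator_le.2 fun a ha b hb => ?_
    rw [mem_comap, map_commutatorElement]
    exact commutator_mem_commutator
      (LocalBasics.conj_mem_of_le_normalizer (le_normalizer_omega h) hx ha)
      (LocalBasics.conj_mem_of_le_normalizer h hx hb)
  exact hle hv

theorem block_le_normalizer (h : IsBaumannBlock p T E) :
    baumannSubgroupOf p T ≤ normalizer (E : Set G) := by
  have := le_sup_right.trans (le_normalizer_commutator E (baumannSubgroupOf p T))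
  rwa [h.2.1] at this

theorem le_normalizer_cz :
    E ≤ normalizer ((omegaOneCenter p (pCoreOf p E) ⊓ centralizer (E : Set G) : Subgroup G) : Set G) :=
  LocalBasics.le_normalizer_inf (le_normalizer_omega le_normalizer)
    (LocalBasics.le_normalizer_centralizer le_normalizer)

theorem wE_le (h : IsBaumannBlock p T E) : wE p E ≤ omegaOneCenter p (pCoreOf p E) :=
  (Subgroup.le_normalizer_iff_commutator_le_left).1 (natSection h).norm

/-- `W = W_E Z`. -/
theorem wE_sup (h : IsBaumannBlock p T E) :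
    wE p E ⊔ (omegaOneCenter p (pCoreOf p E) ⊓ centralizer (E : Set G)) =
      omegaOneCenter p (pCoreOf p E) := by
  refine ((natSection h).irred _ le_sup_right (sup_le (wE_le h) inf_le_left)
    (LocalBasics.le_normalizer_sup (le_normalizer_wE le_normalizer) le_normalizer_cz)).resolve_left ?_
  intro he
  apply not_isPGroup h
  refine (LocalBasics.isPGroup_pCoreOf p E).to_le fun e he' => (natSection h).ker e he' fun w hw => ?_
  rw [← inv_mem_iff, commutatorElement_inv]
  exact he ▸ mem_sup_left (commutator_mem_commutator hw he')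

/-- An element centralising `W_E` and normalising `E` acts trivially on `W / Z`; in `E` it lies in `O_p(E)`. -/
theorem mem_core_of_centralizes (h : IsBaumannBlock p T E) {e : G} (he : e ∈ E)
    (hc : ∀ v ∈ wE p E, e * v = v * e) : e ∈ pCoreOf p E := by
  refine (natSection h).ker e he fun w hw => ?_
  have hle : omegaOneCenter p (pCoreOf p E) ≤ centralizer ({e} : Set G) := by
    rw [← wE_sup h]
    refine sup_le (fun v hv => ?_) fun v hv => ?_
    · intro y hy; rw [Set.mem_singleton_iff] at hy; subst hy; exact hc v hv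
    · intro y hy; rw [Set.mem_singleton_iff] at hy; subst hy; exact hv.2 y he
  have := commutatorElement_eq_one_iff_mul_comm.2 (hle hw e rfl)
  rw [this]
  exact one_mem _

/-- A fixed point lemma: a p-group normalising `E` and centralising `E / O_p(E)` acts trivially on `W / Z`. -/
theorem commutator_le_cz (h : IsBaumannBlock p T E) {R : Subgroup G} (hR : IsPGroup p ↥R)
    (hRE : R ≤ normalizer (E : Set G)) (hEQ : ⁅R, E⁆ ≤ pCoreOf p E) :
    ⁅R, omegaOneCenter p (pCoreOf p E)⁆ ≤
      omegaOneCenter p (pCoreOf p E) ⊓ centralizer (E : Set G) := by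
  set W := omegaOneCenter p (pCoreOf p E) with hW
  set Z := W ⊓ centralizer (E : Set G) with hZ
  have hRW : R ≤ normalizer (W : Set G) := le_normalizer_omega hRE
  have hRZ : R ≤ normalizer (Z : Set G) :=
    LocalBasics.le_normalizer_inf hRW (LocalBasics.le_normalizer_centralizer hRE)
  let U : Subgroup G :=
    { carrier := {w | w ∈ W ∧ ∀ r ∈ R, ⁅r, w⁆ ∈ Z}
      one_mem' := ⟨one_mem _, fun r _ => by simp [one_mem]⟩
      mul_mem' := fun {x y} hx hy => ⟨mul_mem hx.1 hy.1, fun r hr => by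
        have hxy : x * ⁅r, y⁆ * x⁻¹ = ⁅r, y⁆ := by
          rw [omega_comm p _ hx.1 (hy.2 r hr).1]; group
        have e : ⁅r, x * y⁆ = ⁅r, x⁆ * (x * ⁅r, y⁆ * x⁻¹) := by
          simp only [commutatorElement_def]; group
        rw [e, hxy]
        exact mul_mem (hx.2 r hr) (hy.2 r hr)⟩
      inv_mem' := fun {x} hx => ⟨inv_mem hx.1, fun r hr => by
        have hxy : x⁻¹ * ⁅r, x⁆⁻¹ * x = ⁅r, x⁆⁻¹ := by
          rw [omega_comm p _ (inv_mem hx.1) (inv_mem (hx.2 r hr).1)]; group
        have e : ⁅r, x⁻¹⁆ = x⁻¹ * ⁅r, x⁆⁻¹ * x := by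
          simp only [commutatorElement_def]; group
        rw [e, hxy]
        exact inv_mem (hx.2 r hr)⟩ }
  have hZU : Z ≤ U := fun z hz => ⟨hz.1, fun r hr => by
    rw [commutatorElement_def]
    exact mul_mem (LocalBasics.conj_mem_of_le_normalizer hRZ hr hz) (inv_mem hz)⟩
  have hUW : U ≤ W := fun u hu => hu.1
  have hEU : E ≤ normalizer (U : Set G) := by
    refine LocalBasics.le_normalizer_of_conj fun e he u hu => ?_
    refine ⟨LocalBasics.conj_mem_of_le_normalizer (natSection h).norm he hu.1, fun r hr => ?_⟩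
    -- `r = r' q` modulo an element of `O_p(E)`, which centralises `W`
    have hq : ⁅r, e⁆ ∈ pCoreOf p E := hEQ (commutator_mem_commutator hr he)
    have hc : ⁅r, e⁆ * (e * ⁅r, u⁆ * e⁻¹) = (e * ⁅r, u⁆ * e⁻¹) * ⁅r, e⁆ :=
      (Offenders.omegaOne_le _ ((LocalBasics.conj_mem_of_le_normalizer
        (natSection h).norm he (hu.2 r hr).1))).2 _ hq
    have hd : ⁅r, e⁆ * (e * u * e⁻¹) = (e * u * e⁻¹) * ⁅r, e⁆ :=
      (Offenders.omegaOne_le _ ((LocalBasics.conj_mem_of_le_normalizer
        (natSection h).norm he hu.1))).2 _ hq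
    have e1 : ⁅r, e * u * e⁻¹⁆ = ⁅r, e⁆ * (e * ⁅r, u⁆ * e⁻¹) *
        ((e * u * e⁻¹) * ⁅r, e⁆⁻¹ * (e * u * e⁻¹)⁻¹) := by
      simp only [commutatorElement_def]; group
    have e2 : (e * u * e⁻¹) * ⁅r, e⁆⁻¹ * (e * u * e⁻¹)⁻¹ = ⁅r, e⁆⁻¹ := by
      rw [← (show Commute ⁅r, e⁆ (e * u * e⁻¹) from hd).inv_left.eq, mul_inv_cancel_right]
    rw [e1, e2, hc, mul_inv_cancel_right]
    exact LocalBasics.conj_mem_of_le_normalizer le_normalizer_cz he (hu.2 r hr)
  rcases (natSection h).irred U hZU hUW hEU with hUZ | hUW'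
  · refine commutator_le.2 fun r hr w hw => ?_
    by_contra hrw
    have hWZ : ¬ W ≤ Z := fun hle => hrw (by
      rw [commutatorElement_def]
      exact mul_mem (LocalBasics.conj_mem_of_le_normalizer hRZ hr (hle hw)) (inv_mem (hle hw)))
    have hP : IsPGroup p ↥(W ⊔ R : Subgroup G) :=
      ((LocalBasics.isPGroup_pCoreOf p E).to_le (omega_le p _)).to_sup_of_normal_left' hR hRW
    have := IsPGroup.isNilpotent hP
    obtain ⟨n, hn⟩ := Subgroup.isNilpotent_iff_lowerCentralSeries (W ⊔ R) |>.1 this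
    classical
    let C : ℕ → Subgroup G := fun k => (W ⊔ R).lowerCentralSeries k
    have hex : ∃ k, C k ⊓ W ≤ Z := ⟨n, by
      show (W ⊔ R).lowerCentralSeries n ⊓ W ≤ Z
      rw [hn, bot_inf_eq]; exact bot_le⟩
    obtain ⟨k, hk, hmin⟩ : ∃ k, C k ⊓ W ≤ Z ∧ ∀ j < k, ¬ C j ⊓ W ≤ Z :=
      ⟨Nat.find hex, Nat.find_spec hex, fun j hj => Nat.find_min hex hj⟩
    rcases k with _ | k
    · exact hWZ fun x hx => hk ⟨mem_sup_left hx, hx⟩
    · apply hmin k (Nat.lt_succ_self k)
      intro x hx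
      have hx' : x ∈ (W ⊔ R).lowerCentralSeries k := hx.1
      have hxW : x ∈ W := hx.2
      have hmem : ∀ y, y ∈ U → y ∈ Z := fun y hy => hUZ.le hy
      apply hmem
      refine ⟨hxW, fun s hs => hk ⟨?_, ?_⟩⟩
      · show ⁅s, x⁆ ∈ (W ⊔ R).lowerCentralSeries (k + 1)
        rw [Subgroup.lowerCentralSeries_succ, ← commutatorElement_inv x s]
        exact inv_mem (commutator_mem_commutator hx' (mem_sup_right hs))
      · show ⁅s, x⁆ ∈ W
        rw [commutatorElement_def]
        exact mul_mem (LocalBasics.conj_mem_of_le_normalizer hRW hs hxW) (inv_mem hxW)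
  · refine commutator_le.2 fun r hr w hw => ?_
    exact (hUW'.ge hw).2 r hr

end Cfsg.Agent.BaumannBlockStructure
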