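import Mathlib
import Cfsg.Prelude.Def_BaumannBlocks
import Cfsg.Agent.Lib.BaumannBlockBasics
import Cfsg.Agent.Lib.BaumannBlockStructure

/-!
`B(T)`-blocks in groups of characteristic `p`.
-/

set_option autoImplicit false

namespace Cfsg.Agent.BaumannBlockCharP

open Subgroup Cfsg BaumannBlockBasics BaumannBlockStructure
open scoped commutatorElement

variable {G : Type*} [Group G] [Finite G] {p : ℕ} [Fact p.Prime] {T : Sylow p G} {E : Subgroup G}

theorem le_normalizer (h : IsBaumannBlock p (T : Subgroup G) E) {Q : Subgroup G} (hQ : IsPGroup p ↥Q)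
    (hB : baumannSubgroupOf p (T : Subgroup G) ≤ normalizer (Q : Set G))
    (hE : E ≤ normalizer (Q : Set G)) : Q ≤ normalizer (E : Set G) :=
  le_normalizer_of_invariant h.1 h.2.1 (T.isPGroup'.to_le (baumann_le p _)) hB hE
    (le_normalizer_baumann_of_invariant T hQ hB)

theorem pCore_le_normalizer (h : IsBaumannBlock p (T : Subgroup G) E) :
    pCore p G ≤ normalizer (E : Set G) := by
  have hn : ∀ X : Subgroup G, X ≤ normalizer (pCore p G : Set G) := fun X => by
    rw [Subgroup.normalizer_eq_top]; exact le_top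
  exact le_normalizer h (HallCore.isPGroup_pCore p G) (hn _) (hn _)

theorem commutator_pCore_le (h : IsBaumannBlock p (T : Subgroup G) E) :
    ⁅pCore p G, E⁆ ≤ pCoreOf p E :=
  LocalBasics.le_pCoreOf ((le_normalizer_iff_commutator_le_right).1 (pCore_le_normalizer h))
    (le_sup_right.trans (le_normalizer_commutator _ _))
    ((HallCore.isPGroup_pCore p G).to_le (commutator_le_left _ _))

theorem residual_sup_pCore (h : IsBaumannBlock p (T : Subgroup G) E) :
    pResidualOf p (E ⊔ pCore p G) = E :=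
  residual_sup_eq h.1 (pCore_le_normalizer h) (HallCore.isPGroup_pCore p G)

/-- `W_E` centralises `O_p(G)`. -/
theorem wE_le_centralizer (h : IsBaumannBlock p (T : Subgroup G) E) :
    wE p E ≤ centralizer (pCore p G : Set G) := by
  rw [← commutator_eq_bot_iff_le_centralizer]
  refine commutator_commutator_eq_bot_of_rotate ?_ ?_
  · -- `[E, R, W] ≤ [O_p(E), W] = 1`
    rw [eq_bot_iff]
    refine (commutator_mono ((commutator_comm E (pCore p G)).le.trans (commutator_pCore_le h))
      le_rfl).trans ?_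
    rw [le_bot_iff, commutator_comm, commutator_eq_bot_iff_le_centralizer]
    exact (Offenders.omegaOne_le _).trans inf_le_right
  · -- `[R, W, E] ≤ [Z, E] = 1`
    rw [eq_bot_iff]
    refine (commutator_mono (commutator_le_cz h (HallCore.isPGroup_pCore p G) (pCore_le_normalizer h)
      (commutator_pCore_le h)) le_rfl).trans ?_
    rw [le_bot_iff, commutator_eq_bot_iff_le_centralizer]
    exact inf_le_right

theorem wE_le_pCore (hG : centralizer (pCore p G : Set G) ≤ pCore p G)
    (h : IsBaumannBlock p (T : Subgroup G) E) : wE p E ≤ omegaOneCenter p (pCore p G) := fun x hx =>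
  Offenders.mem_omegaOne ⟨hG (wE_le_centralizer h hx), wE_le_centralizer h hx⟩
    (omega_pow p _ (wE_le h hx))

theorem commutator_thompson_ne_bot (hG : centralizer (pCore p G : Set G) ≤ pCore p G)
    (h : IsBaumannBlock p (T : Subgroup G) E) :
    ⁅wE p E, thompsonSubgroupOf p (T : Subgroup G)⁆ ≠ ⊥ := by
  intro hJ
  rw [commutator_eq_bot_iff_le_centralizer] at hJ
  have hB : ∀ b ∈ baumannSubgroupOf p (T : Subgroup G), ∀ v ∈ wE p E, b * v = v * b := by
    intro b hb v hv
    have hvp : v ^ p = 1 := omega_pow p _ (wE_le h hv)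
    have hvJ : v ∈ thompsonSubgroupOf p (T : Subgroup G) := by
      obtain ⟨A, hA⟩ := Offenders.exists_max (G := G) p
      obtain ⟨S, hS⟩ := Offenders.exists_mem_sylow hA.1
      obtain ⟨g, hg⟩ := MulAction.exists_smul_eq G S T
      let c := (MulAut.conj g)
      have hA' : A.map c.toMonoidHom ∈ maxElementaryAbelianSubgroups p G := Offenders.max_map_equiv hA c
      have hAT : A.map c.toMonoidHom ≤ (T : Subgroup G) := by
        rintro _ ⟨a, ha, rfl⟩
        rw [← hg]
        exact Subgroup.smul_mem_pointwise_smul a (MulAut.conj g) (S : Subgroup G) (hS ha)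
      have hle : A.map c.toMonoidHom ≤ thompsonSubgroupOf p (T : Subgroup G) := by
        rw [Offenders.thompsonOf_eq]
        exact le_sSup (Offenders.max_maxIn hA' hAT)
      exact hle (Offenders.mem_max_of_commute hA' hvp fun a ha => hJ hv a (hle ha))
    exact (hb.2 v (Offenders.mem_omegaOne ⟨hvJ, hJ hv⟩ hvp)).symm
  apply not_isPGroup h
  refine (LocalBasics.isPGroup_pCoreOf p E).to_le fun e he => mem_core_of_centralizes h he ?_
  have hle : ⁅E, baumannSubgroupOf p (T : Subgroup G)⁆ ≤ centralizer (wE p E : Set G) := by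
    refine commutator_le.2 fun a ha b hb => ?_
    rw [commutatorElement_def]
    refine mul_mem ?_ (inv_mem fun v hv => (hB b hb v hv).symm)
    refine LocalBasics.conj_mem_of_le_normalizer (LocalBasics.le_normalizer_centralizer
      (le_normalizer_wE Subgroup.le_normalizer)) ha (fun v hv => (hB b hb v hv).symm)
  rw [h.2.1] at hle
  exact fun v hv => (hle he v hv).symm

/-- If `[O_p(G), E] ≤ W_E` then `C_G(W_E)` normalises `E`. -/
theorem centralizer_le_normalizer_of_le (hG : centralizer (pCore p G : Set G) ≤ pCore p G)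
    (h : IsBaumannBlock p (T : Subgroup G) E) (hle : ⁅pCore p G, E⁆ ≤ wE p E) :
    centralizer (wE p E : Set G) ≤ normalizer (E : Set G) := by
  set R := pCore p G with hR
  set V := wE p E with hV
  have hVR : V ≤ R := (wE_le_pCore hG h).trans (omega_le p _)
  have hRn : ∀ g : G, ∀ r ∈ R, g * r * g⁻¹ ∈ R := fun g r hr =>
    Subgroup.Normal.conj_mem inferInstance r hr g
  -- the elements centralising `V` and `R / V`
  let D : Subgroup G :=
    { carrier := {g | g ∈ centralizer (V : Set G) ∧ ∀ r ∈ R, g * r * g⁻¹ * r⁻¹ ∈ V}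
      one_mem' := ⟨one_mem _, fun r _ => by simp [one_mem]⟩
      mul_mem' := fun {x y} hx hy => ⟨mul_mem hx.1 hy.1, fun r hr => by
        have h1 := hy.2 r hr
        have h2 := hx.2 r hr
        have h3 : x * (y * r * y⁻¹ * r⁻¹) * x⁻¹ = y * r * y⁻¹ * r⁻¹ := by
          rw [← hx.1 _ h1, mul_inv_cancel_right]
        have e : x * y * r * (x * y)⁻¹ * r⁻¹ =
            x * (y * r * y⁻¹ * r⁻¹) * x⁻¹ * (x * r * x⁻¹ * r⁻¹) := by group
        rw [e, h3]
        exact mul_mem h1 h2⟩
      inv_mem' := fun {x} hx => ⟨inv_mem hx.1, fun r hr => by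
        have h2 := inv_mem (hx.2 r hr)
        have h3 : x⁻¹ * (x * r * x⁻¹ * r⁻¹)⁻¹ * x = (x * r * x⁻¹ * r⁻¹)⁻¹ := by
          rw [mul_assoc, hx.1 _ h2, inv_mul_cancel_left]
        have e : x⁻¹ * r * x⁻¹⁻¹ * r⁻¹ = x⁻¹ * (x * r * x⁻¹ * r⁻¹)⁻¹ * x := by group
        rw [e, h3]
        exact h2⟩ }
  have hDp : IsPGroup p ↥D := by
    intro x
    obtain ⟨m, hm, hdvd⟩ : ∃ m : ℕ, (m.Coprime p) ∧ orderOf x.1 ∣ p ^ (orderOf x.1).factorization p * m :=
      ⟨orderOf x.1 / p ^ (orderOf x.1).factorization p,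
        (Nat.coprime_ordCompl Fact.out (orderOf_pos x.1).ne').symm,
        dvd_of_eq (Nat.ordProj_mul_ordCompl_eq_self _ p).symm⟩
    refine ⟨(orderOf x.1).factorization p, ?_⟩
    set y := x ^ p ^ (orderOf x.1).factorization p with hy
    have hym : (y : G) ^ m = 1 := by
      rw [hy, SubmonoidClass.coe_pow, ← pow_mul]
      exact orderOf_dvd_iff_pow_eq_one.1 hdvd
    have hyc : (y : G) ∈ centralizer (R : Set G) := by
      intro r hr
      set v := (y : G) * r * (y : G)⁻¹ * r⁻¹ with hv
      have hvV : v ∈ V := y.2.2 r hr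
      have hyv : (y : G) * v = v * y := (y.2.1 v hvV).symm
      have key : ∀ k : ℕ, (y : G) ^ k * r * ((y : G) ^ k)⁻¹ = v ^ k * r := by
        intro k
        induction k with
        | zero => simp
        | succ k ih =>
          calc (y : G) ^ (k + 1) * r * ((y : G) ^ (k + 1))⁻¹
              = (y : G) * ((y : G) ^ k * r * ((y : G) ^ k)⁻¹) * (y : G)⁻¹ := by
                rw [pow_succ']; group
            _ = ((y : G) * v ^ k) * r * (y : G)⁻¹ := by rw [ih]; group
            _ = v ^ k * ((y : G) * r * (y : G)⁻¹) := by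
                rw [(show Commute (y : G) v from hyv).pow_right k |>.eq]; group
            _ = v ^ k * (v * r) := by rw [hv, inv_mul_cancel_right]
            _ = v ^ (k + 1) * r := by rw [pow_succ]; group
      have h1 := key m
      rw [hym] at h1
      have hvm : v ^ m = 1 := by simpa using h1.symm
      have hvp : v ^ p = 1 := omega_pow p _ (wE_le h hvV)
      have hv1 : v = 1 := by
        have := pow_gcd_eq_one.2 ⟨hvm, hvp⟩
        rwa [hm, pow_one] at this
      have := key 1
      rw [hv1, pow_one, one_pow, one_mul, mul_inv_eq_iff_eq_mul] at this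
      exact this.symm
    obtain ⟨k, hk⟩ := HallCore.isPGroup_pCore p G ⟨(y : G), hG hyc⟩
    have hk' : (y : G) ^ p ^ k = 1 := congrArg Subtype.val hk
    have := pow_gcd_eq_one.2 ⟨hym, hk'⟩
    rw [(hm.pow_right k), pow_one] at this
    exact Subtype.ext this
  have hnorm : ∀ g : G, g ∈ normalizer (V : Set G) → ∀ d ∈ D, g * d * g⁻¹ ∈ D := by
    intro g hg d hd
    refine ⟨LocalBasics.conj_mem_of_le_normalizer (LocalBasics.le_normalizer_centralizer le_rfl) hg hd.1,
      fun r hr => ?_⟩
    have h1 := hd.2 (g⁻¹ * r * g) (by simpa using hRn g⁻¹ r hr)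
    have h2 := LocalBasics.conj_mem_of_le_normalizer le_rfl hg h1
    have e : g * d * g⁻¹ * r * (g * d * g⁻¹)⁻¹ * r⁻¹ =
        g * (d * (g⁻¹ * r * g) * d⁻¹ * (g⁻¹ * r * g)⁻¹) * g⁻¹ := by group
    rw [e]
    exact h2
  have hBn : baumannSubgroupOf p (T : Subgroup G) ≤ normalizer (V : Set G) :=
    le_normalizer_wE (block_le_normalizer h)
  have hEn : E ≤ normalizer (V : Set G) := le_normalizer_wE Subgroup.le_normalizer
  have hDE : D ≤ normalizer (E : Set G) :=
    le_normalizer h hDp (LocalBasics.le_normalizer_of_conj fun b hb => hnorm b (hBn hb))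
      (LocalBasics.le_normalizer_of_conj fun e he => hnorm e (hEn he))
  intro c hc
  refine mem_normalizer_of_residual h.1 hDE hDp fun e he => ?_
  have hcV : c ∈ normalizer (V : Set G) := LocalBasics.centralizer_le_normalizer _ hc
  suffices hmem : c * e * c⁻¹ * e⁻¹ ∈ D by
    have := mul_mem (mem_sup_right (S := E) hmem) (mem_sup_left (T := D) he)
    simpa using this
  refine ⟨?_, fun r hr => ?_⟩
  · have := mul_mem hc (LocalBasics.conj_mem_of_le_normalizer
      (LocalBasics.le_normalizer_centralizer hEn) he (inv_mem hc))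
    simpa [mul_assoc] using this
  · have heR : ∀ s ∈ R, ∀ f ∈ E, f * s * f⁻¹ * s⁻¹ ∈ V := by
      intro s hs f hf
      have := inv_mem (hle (commutator_mem_commutator hs hf))
      rw [commutatorElement_inv, commutatorElement_def] at this
      exact this
    have h1 := heR r hr e⁻¹ (inv_mem he)
    set w := e⁻¹ * r * e⁻¹⁻¹ * r⁻¹ with hw
    have hs : c⁻¹ * r * c ∈ R := by simpa using hRn c⁻¹ r hr
    have h2 := heR (c⁻¹ * r * c) hs e he
    have h2' := LocalBasics.conj_mem_of_le_normalizer le_rfl hcV h2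
    have hx : c * e * c⁻¹ ∈ normalizer (V : Set G) :=
      mul_mem (mul_mem hcV (hEn he)) (inv_mem hcV)
    have h3 := mul_mem (LocalBasics.conj_mem_of_le_normalizer le_rfl hx h1) h2'
    have e2 : c * e * c⁻¹ * e⁻¹ * r * (c * e * c⁻¹ * e⁻¹)⁻¹ * r⁻¹ =
        c * e * c⁻¹ * w * (c * e * c⁻¹)⁻¹ *
          (c * (e * (c⁻¹ * r * c) * e⁻¹ * (c⁻¹ * r * c)⁻¹) * c⁻¹) := by
      rw [hw]; group
    rw [e2]
    exact h3

end Cfsg.Agent.BaumannBlockCharP
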