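import Mathlib
import Cfsg.Prelude.Def_BaumannBlocks
import Cfsg.Agent.Lib.BaumannBlockBasics
import Cfsg.Agent.Lib.LocalBasics

/-!
General lemmas for subnormal `B(T)`-blocks: stabilisers of sections, a fixed point lemma for
elements of p'-order, nilpotent actions on small sections, and commutativity of the endomorphisms
commuting with an irreducible action.
-/

set_option autoImplicit false
set_option linter.style.haveILetI false

namespace Cfsg.Agent.BaumannSubnormal58

open Subgroup Cfsg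
open scoped commutatorElement

variable {G : Type*} [Group G]

theorem conj_mem' {K : Subgroup G} {x : G} (hx : x ∈ normalizer (K : Set G)) {k : G}
    (hk : k ∈ K) : x * k * x⁻¹ ∈ K :=
  LocalBasics.conj_mem_of_le_normalizer le_rfl hx hk

theorem commutatorElement_mem {K : Subgroup G} {x : G} (hx : x ∈ normalizer (K : Set G)) {k : G}
    (hk : k ∈ K) : ⁅x, k⁆ ∈ K := by
  rw [commutatorElement_def]
  exact mul_mem (conj_mem' hx hk) (inv_mem hk)

/-! ### The elements acting trivially on a section -/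

/-- The elements normalising `X` and `Y` and moving each element of `X` by an element of `Y`. -/
def cent (X Y : Subgroup G) : Subgroup G where
  carrier := {g | g ∈ normalizer (X : Set G) ∧ g ∈ normalizer (Y : Set G) ∧ ∀ x ∈ X, ⁅g, x⁆ ∈ Y}
  one_mem' := ⟨one_mem _, one_mem _, fun x _ => by simp⟩
  mul_mem' := fun {a b} ha hb => ⟨mul_mem ha.1 hb.1, mul_mem ha.2.1 hb.2.1, fun x hx => by
    have e : ⁅a * b, x⁆ = a * ⁅b, x⁆ * a⁻¹ * ⁅a, x⁆ := by
      simp only [commutatorElement_def]; group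
    rw [e]
    exact mul_mem (conj_mem' ha.2.1 (hb.2.2 x hx)) (ha.2.2 x hx)⟩
  inv_mem' := fun {a} ha => ⟨inv_mem ha.1, inv_mem ha.2.1, fun x hx => by
    have e : ⁅a⁻¹, x⁆ = a⁻¹ * ⁅a, x⁆⁻¹ * a⁻¹⁻¹ := by
      simp only [commutatorElement_def]; group
    rw [e]
    exact conj_mem' (inv_mem ha.2.1) (inv_mem (ha.2.2 x hx))⟩

theorem mem_cent {X Y : Subgroup G} {g : G} : g ∈ cent X Y ↔
    g ∈ normalizer (X : Set G) ∧ g ∈ normalizer (Y : Set G) ∧ ∀ x ∈ X, ⁅g, x⁆ ∈ Y :=
  Iff.rfl

theorem le_normalizer_cent {X Y K : Subgroup G} (hX : K ≤ normalizer (X : Set G))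
    (hY : K ≤ normalizer (Y : Set G)) : K ≤ normalizer (cent X Y : Set G) := by
  refine LocalBasics.le_normalizer_of_conj fun a ha g hg =>
    ⟨mul_mem (mul_mem (hX ha) hg.1) (inv_mem (hX ha)),
      mul_mem (mul_mem (hY ha) hg.2.1) (inv_mem (hY ha)), fun x hx => ?_⟩
  have h := hg.2.2 (a⁻¹ * x * a) (by simpa using conj_mem' (inv_mem (hX ha)) hx)
  have e : ⁅a * g * a⁻¹, x⁆ = a * ⁅g, a⁻¹ * x * a⁆ * a⁻¹ := by
    simp only [commutatorElement_def]; group
  rw [e]
  exact conj_mem' (hY ha) h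

theorem le_cent {K X Y : Subgroup G} (hX : K ≤ normalizer (X : Set G))
    (hY : K ≤ normalizer (Y : Set G)) (h : ⁅K, X⁆ ≤ Y) : K ≤ cent X Y := fun g hg =>
  ⟨hX hg, hY hg, fun x hx => h (commutator_mem_commutator hg hx)⟩

theorem commutator_le_of_le_cent {K X Y : Subgroup G} (h : K ≤ cent X Y) : ⁅K, X⁆ ≤ Y :=
  commutator_le.2 fun _ hg x hx => (h hg).2.2 x hx

/-! ### Elements of p'-order -/

/-- If `x` is of p'-order and moves `q` by an element fixed mod `N` and of p-power order mod `N`,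
then it fixes `q` mod `N`. -/
theorem mem_of_stab {p : ℕ} [Fact p.Prime] {N : Subgroup G} {x q : G}
    (hx : (orderOf x).Coprime p) (hxN : x ∈ normalizer (N : Set G))
    (hw : ⁅x, ⁅x, q⁆⁆ ∈ N) (hwN : ⁅x, q⁆ ∈ normalizer (N : Set G))
    (hpw : ∃ k : ℕ, ⁅x, q⁆ ^ p ^ k ∈ N) : ⁅x, q⁆ ∈ N := by
  classical
  let K : Subgroup G := normalizer (N : Set G)
  haveI : (N.subgroupOf K).Normal := LocalBasics.normal_subgroupOf_of_le le_rfl
  let π := QuotientGroup.mk' (N.subgroupOf K)
  let X : ↥K := ⟨x, hxN⟩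
  let W : ↥K := ⟨⁅x, q⁆, hwN⟩
  have hcomm : π X * π W = π W * π X := by
    have h1 : π ⁅X, W⁆ = 1 := (QuotientGroup.eq_one_iff _).2 hw
    rw [map_commutatorElement] at h1
    exact commutatorElement_eq_one_iff_mul_comm.1 h1
  have key : ∀ j : ℕ, ∃ a : ↥K, (a : G) = x ^ j * q * (x ^ j)⁻¹ * q⁻¹ ∧ π a = π W ^ j := by
    intro j
    induction j with
    | zero => exact ⟨1, by simp, by simp⟩
    | succ j ih =>
      obtain ⟨a, ha, hπ⟩ := ih
      refine ⟨X * a * X⁻¹ * W, ?_, ?_⟩
      · show x * (a : G) * x⁻¹ * ⁅x, q⁆ = _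
        rw [ha, pow_succ', commutatorElement_def]
        group
      · rw [map_mul, map_mul, map_mul, map_inv, hπ,
          (show Commute (π X) (π W) from hcomm).pow_right j |>.eq, mul_inv_cancel_right, pow_succ]
  obtain ⟨a, ha, hπ⟩ := key (orderOf x)
  rw [pow_orderOf_eq_one] at ha
  have ha1 : a = 1 := Subtype.ext (by simpa using ha)
  rw [ha1, map_one] at hπ
  obtain ⟨k, hk⟩ := hpw
  have hk' : π W ^ p ^ k = 1 := by
    rw [← map_pow]; exact (QuotientGroup.eq_one_iff _).2 hk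
  have h1 := pow_gcd_eq_one.2 ⟨hπ.symm, hk'⟩
  rw [(hx.pow_right k), pow_one] at h1
  exact (QuotientGroup.eq_one_iff (N := N.subgroupOf K) W).1 h1

theorem eq_one_of_stab {p : ℕ} [Fact p.Prime] {x q : G} (hx : (orderOf x).Coprime p)
    (hw : x * ⁅x, q⁆ = ⁅x, q⁆ * x) (hpw : ∃ k : ℕ, ⁅x, q⁆ ^ p ^ k = 1) : ⁅x, q⁆ = 1 := by
  have h := mem_of_stab (N := (⊥ : Subgroup G)) (q := q) hx (by rw [normalizer_eq_top]; trivial)
    (mem_bot.2 (commutatorElement_eq_one_iff_mul_comm.2 hw)) (by rw [normalizer_eq_top]; trivial)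
    (by simpa using hpw)
  simpa using h

/-- A p-group that is moved only trivially by its own elements. -/
theorem le_of_residual {p : ℕ} {F S : Subgroup G} (hF : pResidualOf p F = F)
    (h : ∀ x ∈ F, (orderOf x).Coprime p → x ∈ S) : F ≤ S := by
  conv_lhs => rw [← hF, BaumannBlockBasics.pResidualOf_eq_closure]
  exact (closure_le _).2 fun x hx => h x hx.1 hx.2

/-! ### Nilpotent actions -/

theorem eq_of_le_commutator_sup [Finite G] {p : ℕ} [Fact p.Prime] {P B M N : Subgroup G}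
    (hP : IsPGroup p ↥P) (hMP : M ≤ P) (hBP : B ≤ P) (hNM : N ≤ M)
    (hBN : B ≤ normalizer (N : Set G)) (h : M ≤ ⁅M, B⁆ ⊔ N) : M = N := by
  refine le_antisymm ?_ hNM
  have hnil := IsPGroup.isNilpotent hP
  obtain ⟨n, hn⟩ := Subgroup.isNilpotent_iff_lowerCentralSeries P |>.1 hnil
  have key : ∀ k, M ≤ P.lowerCentralSeries k ⊔ N := by
    intro k
    induction k with
    | zero => exact le_sup_of_le_left (by simpa using hMP)
    | succ k ih =>
      refine h.trans (sup_le ?_ le_sup_right)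
      refine commutator_le.2 fun m hm b hb => ?_
      have hNP : N ≤ P := hNM.trans hMP
      have hnorm : N ≤ normalizer ((P.lowerCentralSeries k : Subgroup G) : Set G) :=
        hNP.trans (le_normalizer_iff_commutator_le_left.2 (by
          rw [← Subgroup.lowerCentralSeries_succ]
          exact (P.lowerCentralSeries_antitone (Nat.le_succ k))))
      have hm' := ih hm
      rw [← SetLike.mem_coe, Subgroup.coe_mul_of_right_le_normalizer_left _ N hnorm] at hm'
      obtain ⟨a, ha, c, hc, rfl⟩ := hm'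
      have hc2 : ⁅c, b⁆ ∈ N := by
        rw [← commutatorElement_inv]; exact inv_mem (commutatorElement_mem (hBN hb) hc)
      have hab : ⁅a, b⁆ ∈ P.lowerCentralSeries (k + 1) := by
        rw [Subgroup.lowerCentralSeries_succ]
        exact commutator_mem_commutator ha (hBP hb)
      have hac : ⁅a, ⁅c, b⁆⁆ ∈ P.lowerCentralSeries (k + 1) := by
        rw [Subgroup.lowerCentralSeries_succ]
        exact commutator_mem_commutator ha (hNP hc2)
      have e : ⁅a * c, b⁆ = ⁅a, ⁅c, b⁆⁆ * ⁅c, b⁆ * ⁅a, b⁆ := by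
        simp only [commutatorElement_def]; group
      rw [e]
      exact mul_mem (mul_mem (mem_sup_left hac) (mem_sup_right hc2)) (mem_sup_left hab)
  have := key n
  rwa [hn, bot_sup_eq] at this

/-- An element of p-power order acting on a section of order `p²` acts quadratically. -/
theorem commutator_commutator_le_of_relIndex [Finite G] {p : ℕ} [hp : Fact p.Prime]
    {B M N : Subgroup G} (hB : IsPGroup p ↥B) (hM : IsPGroup p ↥M) (hNM : N ≤ M)
    (hBM : B ≤ normalizer (M : Set G)) (hBN : B ≤ normalizer (N : Set G))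
    (hidx : N.relIndex M = p ^ 2) : ⁅⁅M, B⁆ ⊔ N, B⁆ ≤ N := by
  have hP : IsPGroup p ↥(M ⊔ B : Subgroup G) := hM.to_sup_of_normal_left' hB hBM
  have hstep : ∀ X : Subgroup G, N ≤ X → X ≤ M → B ≤ normalizer (X : Set G) →
      ⁅X, B⁆ ⊔ N ≤ X ∧ (X ≤ ⁅X, B⁆ ⊔ N → X = N) ∧
        B ≤ normalizer ((⁅X, B⁆ ⊔ N : Subgroup G) : Set G) := by
    intro X hNX hXM hBX
    exact ⟨sup_le ((le_normalizer_iff_commutator_le_left).1 hBX) hNX,
      eq_of_le_commutator_sup hP (hXM.trans le_sup_left) le_sup_right hNX hBN,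
      LocalBasics.le_normalizer_sup (le_sup_right.trans (BaumannBlockBasics.le_normalizer_commutator X B))
        hBN⟩
  obtain ⟨h1, h1', h1n⟩ := hstep M hNM le_rfl hBM
  set M1 := ⁅M, B⁆ ⊔ N with hM1
  obtain ⟨h2, h2', -⟩ := hstep M1 le_sup_right h1 h1n
  set M2 := ⁅M1, B⁆ ⊔ N with hM2
  suffices h : M2 = N from h ▸ le_sup_left
  by_contra hne
  have hne1 : M1 ≠ N := fun e => hne (le_antisymm (h2.trans e.le) le_sup_right)
  have ne1 : ¬ M ≤ M1 := fun hle => hne1 (le_antisymm (h1.trans (h1' hle).le) le_sup_right)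
  have ne2 : ¬ M1 ≤ M2 := fun hle => hne1 (h2' hle)
  have ne3 : ¬ M2 ≤ N := fun hle => hne (le_antisymm hle le_sup_right)
  have m1 := relIndex_mul_relIndex N M2 M1 le_sup_right h2
  have m2 := relIndex_mul_relIndex N M1 M le_sup_right h1
  have a1 : M1.relIndex M ≠ 1 := fun e => ne1 (relIndex_eq_one.1 e)
  have a2 : M2.relIndex M1 ≠ 1 := fun e => ne2 (relIndex_eq_one.1 e)
  have a3 : N.relIndex M2 ≠ 1 := fun e => ne3 (relIndex_eq_one.1 e)
  rw [hidx, ← m1] at m2
  have hd : ∀ a : ℕ, a ∣ p ^ 2 → a ≠ 1 → p ∣ a := by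
    intro a ha ha1
    obtain ⟨i, -, rfl⟩ := (Nat.dvd_prime_pow hp.out).1 ha
    rcases i with _ | i
    · simp at ha1
    · exact dvd_pow_self _ (Nat.succ_ne_zero i)
  have hdiv : p * p * p ∣ p ^ 2 := by
    rw [← m2]
    have d1 : N.relIndex M2 * M2.relIndex M1 * M1.relIndex M ∣ p ^ 2 := dvd_of_eq m2
    exact mul_dvd_mul (mul_dvd_mul
      (hd _ (((dvd_mul_right _ _).trans (dvd_mul_right _ _)).trans d1) a3)
      (hd _ (((dvd_mul_left _ _).trans (dvd_mul_right _ _)).trans d1) a2))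
      (hd _ ((dvd_mul_left _ _).trans d1) a1)
  have hle := Nat.le_of_dvd (pow_pos hp.out.pos 2) hdiv
  have := hp.out.two_le
  nlinarith [pow_two p]

/-! ### Commuting with an irreducible action -/

/-- The elements commuting with an irreducible action on an abelian section commute among
themselves on that section. -/
theorem commutator_mem_cent [Finite G] {U U₀ E : Subgroup G} (h0 : U₀ ≤ U)
    (hU0 : U ≤ normalizer (U₀ : Set G)) (hab : ⁅U, U⁆ ≤ U₀)
    (hEU : E ≤ normalizer (U : Set G)) (hEU0 : E ≤ normalizer (U₀ : Set G))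
    (hirr : ∀ X : Subgroup G, U₀ ≤ X → X ≤ U → E ≤ normalizer (X : Set G) → X = U₀ ∨ X = U)
    {a b : G} (haU : a ∈ normalizer (U : Set G)) (haU0 : a ∈ normalizer (U₀ : Set G))
    (hbU : b ∈ normalizer (U : Set G)) (hbU0 : b ∈ normalizer (U₀ : Set G))
    (hae : ∀ e ∈ E, ⁅a, e⁆ ∈ cent U U₀) (hbe : ∀ e ∈ E, ⁅b, e⁆ ∈ cent U U₀) :
    ⁅a, b⁆ ∈ cent U U₀ := by
  classical
  by_cases hUU : U = U₀
  · subst hUU
    exact ⟨mul_mem (mul_mem (mul_mem haU hbU) (inv_mem haU)) (inv_mem hbU),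
      mul_mem (mul_mem (mul_mem haU hbU) (inv_mem haU)) (inv_mem hbU),
      fun x hx => commutatorElement_mem (mul_mem (mul_mem (mul_mem haU hbU) (inv_mem haU))
        (inv_mem hbU)) hx⟩
  haveI hn : (U₀.subgroupOf U).Normal := LocalBasics.normal_subgroupOf_of_le hU0
  let q : CommGroup (↥U ⧸ U₀.subgroupOf U) :=
    { (inferInstance : Group (↥U ⧸ U₀.subgroupOf U)) with
      mul_comm := by
        intro x y
        induction x using QuotientGroup.induction_on with
        | _ x =>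
          induction y using QuotientGroup.induction_on with
          | _ y =>
            have h1 : (QuotientGroup.mk' (U₀.subgroupOf U)) ⁅x, y⁆ = 1 :=
              (QuotientGroup.eq_one_iff _).2 (hab (commutator_mem_commutator x.2 y.2))
            rw [map_commutatorElement] at h1
            exact commutatorElement_eq_one_iff_mul_comm.1 h1 }
  letI := q
  let K : Subgroup G := normalizer (U : Set G) ⊓ normalizer (U₀ : Set G)
  let cU : ↥K → (↥U →* ↥U) := fun g =>
    { toFun := fun u => ⟨g * u * (g : G)⁻¹, conj_mem' g.2.1 u.2⟩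
      map_one' := Subtype.ext (by simp)
      map_mul' := fun u v => Subtype.ext (by simp [mul_assoc]) }
  have hcU : ∀ g : ↥K, U₀.subgroupOf U ≤ (U₀.subgroupOf U).comap (cU g) := fun g u hu =>
    conj_mem' g.2.2 (show (u : G) ∈ U₀ from hu)
  let Φ : ↥K → AddMonoid.End (Additive (↥U ⧸ U₀.subgroupOf U)) := fun g =>
    MonoidHom.toAdditive (QuotientGroup.map _ _ (cU g) (hcU g))
  have hval : ∀ (g : ↥K) (u : ↥U),
      Φ g (Additive.ofMul (QuotientGroup.mk u)) = Additive.ofMul (QuotientGroup.mk (cU g u)) :=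
    fun g u => rfl
  have hext : ∀ f₁ f₂ : AddMonoid.End (Additive (↥U ⧸ U₀.subgroupOf U)),
      (∀ u : ↥U, f₁ (Additive.ofMul (QuotientGroup.mk u)) = f₂ (Additive.ofMul (QuotientGroup.mk u))) →
      f₁ = f₂ := by
    intro f₁ f₂ h
    refine AddMonoidHom.ext fun x => ?_
    obtain ⟨x, rfl⟩ := Additive.ofMul.surjective x
    induction x using QuotientGroup.induction_on with
    | _ u => exact h u
  have hmul : ∀ g g' : ↥K, Φ (g * g') = Φ g * Φ g' := fun g g' => hext _ _ fun u => by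
    show _ = Φ g (Φ g' (Additive.ofMul (QuotientGroup.mk u)))
    rw [hval, hval, hval]
    congr 2
    exact Subtype.ext (by simp [cU, mul_assoc])
  have hone : ∀ g : ↥K, Φ g = 1 ↔ (g : G) ∈ cent U U₀ := by
    intro g
    constructor
    · intro h
      refine ⟨g.2.1, g.2.2, fun x hx => ?_⟩
      have h1 : Φ g (Additive.ofMul (QuotientGroup.mk ⟨x, hx⟩)) =
          Additive.ofMul (QuotientGroup.mk ⟨x, hx⟩) := by rw [h]; rfl
      rw [hval, Additive.ofMul.injective.eq_iff, eq_comm, QuotientGroup.eq] at h1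
      have h2 : x⁻¹ * ((g : G) * x * (g : G)⁻¹) ∈ U₀ := h1
      have h3 := conj_mem' (hU0 hx) h2
      rw [commutatorElement_def]
      simpa [mul_assoc] using h3
    · intro h
      refine hext _ _ fun u => ?_
      show _ = Additive.ofMul (QuotientGroup.mk u)
      rw [hval, Additive.ofMul.injective.eq_iff, eq_comm, QuotientGroup.eq]
      show (u : G)⁻¹ * ((g : G) * u * (g : G)⁻¹) ∈ U₀
      have h3 := conj_mem' (inv_mem (hU0 u.2)) (h.2.2 u u.2)
      simpa [commutatorElement_def, mul_assoc] using h3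
  let C : Subring (AddMonoid.End (Additive (↥U ⧸ U₀.subgroupOf U))) :=
    Subring.centralizer (Φ '' {g : ↥K | (g : G) ∈ E})
  have hzero : ∀ s ∈ C, s ≠ 0 → Function.Injective s := by
    intro s hs hs0
    let X : Subgroup G := ((MonoidHom.ker
      ((AddMonoidHom.toMultiplicative s).comp (QuotientGroup.mk' (U₀.subgroupOf U))))).map U.subtype
    have hX : ∀ u : ↥U, (u : G) ∈ X ↔ s (Additive.ofMul (QuotientGroup.mk u)) = 0 := by
      intro u
      constructor
      · rintro ⟨v, hv, he⟩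
        obtain rfl : v = u := Subtype.ext he
        exact hv
      · exact fun h => ⟨u, h, rfl⟩
    have hXU : X ≤ U := map_subtype_le _
    have h0X : U₀ ≤ X := fun x hx => (hX ⟨x, h0 hx⟩).2 (by
      rw [(QuotientGroup.eq_one_iff _).2 (show (⟨x, h0 hx⟩ : ↥U) ∈ U₀.subgroupOf U from hx)]
      exact map_zero s)
    have hEX : E ≤ normalizer (X : Set G) := by
      refine LocalBasics.le_normalizer_of_conj fun e he x hx => ?_
      let g : ↥K := ⟨e, hEU he, hEU0 he⟩
      refine (hX (cU g ⟨x, hXU hx⟩)).2 ?_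
      rw [← hval]
      have hc := (Subring.mem_centralizer_iff.1 hs) (Φ g) ⟨g, he, rfl⟩
      show (s * Φ g) _ = 0
      rw [← hc]
      show Φ g (s _) = 0
      rw [(hX ⟨x, hXU hx⟩).1 hx, map_zero]
    rcases hirr X h0X hXU hEX with hb | hb
    · rw [injective_iff_map_eq_zero]
      intro x hx
      obtain ⟨x, rfl⟩ := Additive.ofMul.surjective x
      induction x using QuotientGroup.induction_on with
      | _ u =>
        have hu : (u : G) ∈ U₀ := hb ▸ (hX u).2 hx
        rw [(QuotientGroup.eq_one_iff u).2 hu]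
        rfl
    · refine absurd (hext s 0 fun u => ?_) hs0
      exact (hX u).1 (hb.ge u.2)
  obtain ⟨u1, hu1, hu1'⟩ := SetLike.not_le_iff_exists.1 (fun h => hUU (le_antisymm h h0))
  haveI : Nontrivial C := ⟨⟨0, 1, fun h => hu1' (by
    have h1 : (0 : AddMonoid.End (Additive (↥U ⧸ U₀.subgroupOf U)))
        (Additive.ofMul (QuotientGroup.mk (⟨u1, hu1⟩ : ↥U))) =
      (1 : AddMonoid.End (Additive (↥U ⧸ U₀.subgroupOf U)))
        (Additive.ofMul (QuotientGroup.mk (⟨u1, hu1⟩ : ↥U))) :=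
      congrArg (fun f : C => (f.1 : AddMonoid.End (Additive (↥U ⧸ U₀.subgroupOf U)))
        (Additive.ofMul (QuotientGroup.mk (⟨u1, hu1⟩ : ↥U)))) h
    exact (QuotientGroup.eq_one_iff (⟨u1, hu1⟩ : ↥U)).1 (Additive.ofMul.injective h1.symm))⟩⟩
  haveI : NoZeroDivisors C := ⟨fun {s t} hst => by
    rw [or_iff_not_imp_left]
    intro hs
    have hinj := hzero s.1 s.2 fun h => hs (Subtype.ext h)
    refine Subtype.ext (AddMonoidHom.ext fun x => hinj ?_)
    have h1 := congrArg (fun f : C => (f.1 : AddMonoid.End _) x) hst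
    exact h1.trans (map_zero _).symm⟩
  haveI : IsDomain C := NoZeroDivisors.to_isDomain C
  haveI : Finite C := by
    haveI : Finite (Additive (↥U ⧸ U₀.subgroupOf U)) :=
      Finite.of_surjective Additive.ofMul Additive.ofMul.surjective
    exact Finite.of_injective (fun c : C => ⇑(c.1 : AddMonoid.End _))
      fun c d h => Subtype.ext (DFunLike.coe_injective h)
  let A : ↥K := ⟨a, haU, haU0⟩
  let B : ↥K := ⟨b, hbU, hbU0⟩
  have hmemC : ∀ g : ↥K, (∀ e ∈ E, ⁅(g : G), e⁆ ∈ cent U U₀) → Φ g ∈ C := by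
    intro g hg
    refine Subring.mem_centralizer_iff.2 ?_
    rintro _ ⟨e, he, rfl⟩
    have h1 := (hone ⁅g, e⁆).2 (hg e he)
    have h2 : Φ (g * e) = Φ (⁅g, e⁆ * (e * g)) := by
      congr 1; simp only [commutatorElement_def]; group
    rw [hmul, hmul, h1, one_mul, hmul] at h2
    exact h2.symm
  have hcomm : Φ A * Φ B = Φ B * Φ A :=
    congrArg Subtype.val ((Finite.isDomain_to_isField C).mul_comm ⟨_, hmemC A hae⟩ ⟨_, hmemC B hbe⟩)
  refine (hone ⁅A, B⁆).1 ?_
  rw [← hmul, ← hmul] at hcomm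
  have e : ⁅A, B⁆ = (A * B) * (B * A)⁻¹ := by simp only [commutatorElement_def]; group
  rw [e, hmul, hcomm, ← hmul, mul_inv_cancel]
  exact (hone 1).2 (one_mem _)

end Cfsg.Agent.BaumannSubnormal58
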