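import Cfsg.Agent.Lib.SL2Torus
import Cfsg.Agent.Lib.PSL2SylowTwo

/-!
Centralisers and normalisers of Sylow subgroups of `SL(2, q)`, `q` odd.
-/

set_option autoImplicit false

namespace Cfsg.Agent.SL2SylowNormalizer

open Matrix Cfsg.Agent.PSL2Elements Cfsg.Agent.SL2Torus
open scoped MatrixGroups

variable {F : Type*} [Field F] [Finite F]

/-- Centraliser and normaliser of a subgroup of a torus having a noncentral element. -/
theorem subgroup_of_tor (h2 : (2 : F) ≠ 0) {z : SL(2, F)} (hz : tr z ^ 2 ≠ 4)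
    {P : Subgroup SL(2, F)} (hzP : z ∈ P) (hP : P ≤ tor z) :
    Subgroup.centralizer (P : Set SL(2, F)) = tor z ∧
      Subgroup.normalizer (P : Set SL(2, F)) = Subgroup.normalizer (tor z : Set SL(2, F)) := by
  obtain ⟨n, hn⟩ := exists_inverter hz
  refine ⟨le_antisymm (fun g hg => Subgroup.mem_centralizer_singleton_iff.2
      (Subgroup.mem_centralizer_iff.1 hg z hzP).symm)
    (fun g hg => Subgroup.mem_centralizer_iff.2 fun b hb => tor_comm hz (hP hb) hg),
    le_antisymm (fun g hg => ?_) (fun g hg => ?_)⟩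
  · exact (mem_normalizer_iff_or h2 hz hn).2
      (mem_or_mem h2 hz hn (hP ((Subgroup.mem_normalizer_iff.1 hg z).1 hzP)))
  · have key : ∀ g ∈ Subgroup.normalizer (tor z : Set SL(2, F)), ∀ a ∈ P, g * a * g⁻¹ ∈ P := by
      intro g hg a ha
      by_cases hgT : g ∈ tor z
      · rw [tor_comm hz hgT (hP ha), mul_inv_cancel_right]; exact ha
      · rw [inverts h2 hz hg hgT a (hP ha)]; exact inv_mem ha
    rw [Subgroup.mem_normalizer_iff]
    refine fun a => ⟨key g hg a, fun ha => ?_⟩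
    have := key g⁻¹ (inv_mem hg) _ ha
    rwa [show g⁻¹ * (g * a * g⁻¹) * g⁻¹⁻¹ = a by group] at this

theorem exists_char (h2 : (2 : F) ≠ 0) :
    ∃ (p : ℕ) (_ : Fact p.Prime) (_ : CharP F p), p ≠ 2 :=
  ⟨ringChar F, ⟨CharP.char_is_prime F _⟩, inferInstance, fun h => h2 (by
    have : CharP F 2 := ringChar.of_eq h
    exact CharP.cast_eq_zero F 2)⟩

/-- Structure of a Sylow subgroup for an odd prime dividing `q ± 1`. -/
theorem sylow_odd (hq : Odd (Nat.card F)) (l : ℕ) [Fact l.Prime] (hl : l ≠ 2)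
    (P : Sylow l SL(2, F)) (hdvd : l ∣ Nat.card F - 1 ∨ l ∣ Nat.card F + 1) :
    ∃ z : SL(2, F), Subgroup.centralizer ((P : Subgroup SL(2, F)) : Set SL(2, F)) = tor z ∧
      IsCyclic (tor z) ∧
      Nat.card (Subgroup.normalizer ((P : Subgroup SL(2, F)) : Set SL(2, F))) =
        2 * Nat.card (tor z) ∧
      (l ∣ Nat.card F - 1 → Nat.card (tor z) = Nat.card F - 1) ∧
      (l ∣ Nat.card F + 1 → Nat.card (tor z) = Nat.card F + 1) := by
  have h2 := PSL2SylowTwo.two_ne_zero_of_odd hq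
  obtain ⟨p, _, _, hp2⟩ := exists_char h2
  obtain ⟨n, hn0, hn⟩ := PSL2Sylow.card_field_eq (F := F) p
  have hlp : l ≠ p := by
    rintro rfl
    have hlq : l ∣ Nat.card F := hn ▸ dvd_pow_self l (by omega)
    have hl1 : l ∣ 1 := by
      rcases hdvd with h | h
      · have := Nat.dvd_sub hlq h
        rwa [show Nat.card F - (Nat.card F - 1) = 1 by have := PSLCard.one_lt_card F; omega] at this
      · exact (Nat.dvd_add_right hlq).1 h
    exact Nat.Prime.ne_one Fact.out (Nat.dvd_one.1 hl1)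
  have hcyc := PSL2Sylow.isCyclic_sylow (p := p) l hl hlp P
  have hlG : l ∣ Nat.card SL(2, F) := by
    rw [PSLCard.card_SL2, show Nat.card F ^ 2 - 1 = (Nat.card F + 1) * (Nat.card F - 1) by
      rw [← Nat.sq_sub_sq, one_pow]]
    exact dvd_mul_of_dvd_right (hdvd.elim (fun h => dvd_mul_of_dvd_right h _)
      (fun h => dvd_mul_of_dvd_left h _)) _
  obtain ⟨⟨z, hzP⟩, hz1⟩ : ∃ z : (P : Subgroup SL(2, F)), z ≠ 1 := by
    have hne := P.ne_bot_of_dvd_card hlG
    obtain ⟨z, hz, hz1⟩ := (Subgroup.bot_or_exists_ne_one _).resolve_left hne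
    exact ⟨⟨z, hz⟩, fun h => hz1 (congrArg Subtype.val h)⟩
  obtain ⟨k, hk⟩ := IsPGroup.iff_orderOf.1 P.2 ⟨z, hzP⟩
  rw [Subgroup.orderOf_mk] at hk
  have hk0 : k ≠ 0 := fun h => hz1 (Subtype.ext (orderOf_eq_one_iff.1 (by rw [hk, h, pow_zero])))
  have hlz : l ∣ orderOf z := hk ▸ dvd_pow_self l hk0
  have hz : tr z ^ 2 ≠ 4 := tr_sq_ne_of_coprime h2 p (hk ▸
      Nat.Coprime.pow_left k ((Nat.coprime_primes Fact.out Fact.out).2 hlp))
    (fun h => hz1 (Subtype.ext h)) (fun h => by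
      have : l ∣ 2 := by
        refine hlz.trans (orderOf_dvd_of_pow_eq_one ?_)
        rw [h, neg_one_sq]
      exact hl ((Nat.prime_dvd_prime_iff_eq Fact.out Nat.prime_two).1 this))
  have hPle : (P : Subgroup SL(2, F)) ≤ tor z := fun g hg => by
    have := hcyc.isMulCommutative
    exact Subgroup.mem_centralizer_singleton_iff.2 (congrArg Subtype.val
      (mul_comm' (⟨g, hg⟩ : (P : Subgroup SL(2, F))) ⟨z, hzP⟩))
  obtain ⟨hC, hN⟩ := subgroup_of_tor h2 hz hzP hPle
  obtain ⟨hcy, hcard⟩ := centralizer_semisimple hz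
  have hlT : l ∣ Nat.card (tor z) := hlz.trans (Subgroup.orderOf_dvd_natCard _ (self_mem z))
  have hboth : l ∣ Nat.card F - 1 → l ∣ Nat.card F + 1 → False := fun h h' => by
    have := Nat.dvd_sub h' h
    rw [show Nat.card F + 1 - (Nat.card F - 1) = 2 by
      have := PSLCard.one_lt_card F; omega] at this
    exact hl ((Nat.prime_dvd_prime_iff_eq Fact.out Nat.prime_two).1 this)
  refine ⟨z, hC, hcy, by rw [hN, card_normalizer h2 hz], fun h => ?_, fun h => ?_⟩
  · rcases hcard with ⟨-, e⟩ | ⟨-, e⟩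
    · exact e
    · exact (hboth h (e ▸ hlT)).elim
  · rcases hcard with ⟨-, e⟩ | ⟨-, e⟩
    · exact (hboth (e ▸ hlT) h).elim
    · exact e

/-- Generators of a Sylow 2-subgroup. -/
theorem sylow_two_gens (hq : Odd (Nat.card F)) (S : Sylow 2 SL(2, F)) :
    ∃ (k : ℕ) (c y : SL(2, F)), 1 ≤ k ∧ c ∈ S ∧ y ∈ S ∧ tr c ^ 2 ≠ 4 ∧
      orderOf c = 2 * 2 ^ k ∧ y * c * y⁻¹ = c⁻¹ ∧ y ∉ tor c ∧ orderOf y = 4 ∧
      Nat.card S = 4 * 2 ^ k ∧
      ∀ s ∈ S, (∃ i : ℕ, s = c ^ i) ∨ (orderOf s = 4 ∧ ∃ i : ℕ, s = y * c ^ i) := by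
  have h2 := PSL2SylowTwo.two_ne_zero_of_odd hq
  obtain ⟨k, hk, ⟨e⟩⟩ := PSL2SylowTwo.sylow_two_quaternion hq S
  have : NeZero (2 ^ k) := ⟨by positivity⟩
  let φ : QuaternionGroup (2 ^ k) →* SL(2, F) :=
    (S : Subgroup SL(2, F)).subtype.comp e.symm.toMonoidHom
  have hφ : Function.Injective φ := Subtype.val_injective.comp e.symm.injective
  have hmem : ∀ q, φ q ∈ S := fun q => (e.symm q).2
  set c := φ (QuaternionGroup.a 1) with hc
  set y := φ (QuaternionGroup.xa 0) with hy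
  have hoc : orderOf c = 2 * 2 ^ k := by
    rw [hc, orderOf_injective φ hφ, QuaternionGroup.orderOf_a_one]
  have hoy : orderOf y = 4 := by
    rw [hy, orderOf_injective φ hφ, QuaternionGroup.orderOf_xa]
  have h4 : 4 ≤ 2 * 2 ^ k := by
    have : 2 ^ 1 ≤ 2 ^ k := Nat.pow_le_pow_right two_pos hk
    omega
  obtain ⟨p, _, _, hp2⟩ := exists_char h2
  have hsq : c ^ 2 ≠ 1 := fun h => by
    have := Nat.le_of_dvd two_pos (orderOf_dvd_of_pow_eq_one h)
    omega
  have hz : tr c ^ 2 ≠ 4 := by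
    refine tr_sq_ne_of_coprime h2 p ?_ (fun h => hsq ?_) (fun h => hsq ?_)
    · rw [hoc, ← pow_succ']
      exact Nat.Coprime.pow_left _ ((Nat.coprime_primes Nat.prime_two Fact.out).2 hp2.symm)
    · rw [h, one_pow]
    · rw [h, neg_one_sq]
  have hyc : y * c * y⁻¹ = c⁻¹ := by
    rw [mul_inv_eq_iff_eq_mul, eq_inv_mul_iff_mul_eq, hc, hy, ← map_mul, ← map_mul]
    congr 1
    simp
  refine ⟨k, c, y, hk, hmem _, hmem _, hz, hoc, hyc, fun h => ?_, hoy, ?_, fun s hs => ?_⟩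
  · rw [Subgroup.mem_centralizer_singleton_iff.1 h, mul_inv_cancel_right] at hyc
    refine hsq ?_
    rw [sq]; nth_rw 2 [hyc]; exact mul_inv_cancel c
  · rw [show Nat.card S = Nat.card (QuaternionGroup (2 ^ k)) from Nat.card_congr e.toEquiv,
      Nat.card_eq_fintype_card, QuaternionGroup.card]
  · obtain ⟨q, rfl⟩ : ∃ q, φ q = s := ⟨e ⟨s, hs⟩, by simp [φ]⟩
    rcases q with i | i
    · refine Or.inl ⟨i.val, ?_⟩
      rw [hc, ← map_pow, QuaternionGroup.a_one_pow, ZMod.natCast_zmod_val]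
    · refine Or.inr ⟨by rw [orderOf_injective φ hφ, QuaternionGroup.orderOf_xa], i.val, ?_⟩
      rw [hc, hy, ← map_pow, ← map_mul, QuaternionGroup.a_one_pow, ZMod.natCast_zmod_val,
        QuaternionGroup.xa_mul_a, zero_add]

omit [Finite F] in
/-- A 2-element normalising a Sylow 2-subgroup lies in it. -/
theorem mem_of_sq_mem (S : Sylow 2 SL(2, F)) {g : SL(2, F)}
    (hg : g ∈ Subgroup.normalizer ((S : Subgroup SL(2, F)) : Set SL(2, F))) (h : g * g ∈ S) :
    g ∈ S := by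
  obtain ⟨i, hi⟩ := IsPGroup.iff_orderOf.1 S.2 ⟨g * g, h⟩
  rw [Subgroup.orderOf_mk] at hi
  have hg1 : g ^ (2 ^ (i + 1)) = 1 := by
    rw [pow_succ', pow_mul, sq, ← hi, pow_orderOf_eq_one]
  have hp : IsPGroup 2 (Subgroup.zpowers g) := by
    obtain ⟨j, -, hj⟩ := (Nat.dvd_prime_pow Nat.prime_two).1 (orderOf_dvd_of_pow_eq_one hg1)
    exact IsPGroup.of_card (by rw [Nat.card_zpowers, hj])
  have : g ∈ Subgroup.zpowers g ⊓ Subgroup.normalizer ((S : Subgroup SL(2, F)) : Set SL(2, F)) :=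
    ⟨Subgroup.mem_zpowers g, hg⟩
  exact ((hp.inf_normalizer_sylow S).le this).2

/-- An element normalising `S` and conjugating `c` into its torus lies in `S`. -/
theorem mem_of_conj_mem_tor (h2 : (2 : F) ≠ 0) (S : Sylow 2 SL(2, F)) {c y g : SL(2, F)}
    (hz : tr c ^ 2 ≠ 4) (hy : y ∈ S) (hyc : y * c * y⁻¹ = c⁻¹) (hyT : y ∉ tor c)
    (hg : g ∈ Subgroup.normalizer ((S : Subgroup SL(2, F)) : Set SL(2, F)))
    (hgc : g * c * g⁻¹ ∈ tor c) : g ∈ S := by
  obtain ⟨n, hn⟩ := exists_inverter hz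
  have hyn : y * n⁻¹ ∈ tor c :=
    (mem_or_mem h2 hz hn (hyc ▸ inv_mem (self_mem c))).resolve_left hyT
  have hyN : y ∈ Subgroup.normalizer (tor c : Set SL(2, F)) :=
    (mem_normalizer_iff_or h2 hz hn).2 (Or.inr hyn)
  have hinv := inverts h2 hz hyN hyT
  have main : ∀ t ∈ tor c, t ∈ Subgroup.normalizer ((S : Subgroup SL(2, F)) : Set SL(2, F)) →
      t ∈ S := by
    intro t ht htN
    refine mem_of_sq_mem S htN ?_
    have h1 : t * y * t⁻¹ ∈ S := (Subgroup.mem_normalizer_iff.1 htN y).1 hy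
    have h3 : y * t⁻¹ = t * y := by
      rw [← mul_inv_eq_iff_eq_mul, hinv _ (inv_mem ht), inv_inv]
    rw [show t * y * t⁻¹ = t * (y * t⁻¹) by group, h3, ← mul_assoc] at h1
    have := mul_mem h1 (inv_mem hy)
    rwa [mul_inv_cancel_right] at this
  rcases mem_or_mem h2 hz hn hgc with h | h
  · exact main g h hg
  · have h1 : g * y⁻¹ ∈ tor c := by
      have := mul_mem h (inv_mem hyn)
      rwa [show g * n⁻¹ * (y * n⁻¹)⁻¹ = g * y⁻¹ by group] at this
    have := mul_mem (main _ h1 (mul_mem hg (inv_mem (Subgroup.le_normalizer hy)))) hy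
    rwa [inv_mul_cancel_right] at this

theorem centralizer_sylow_two (hq : Odd (Nat.card F)) (S : Sylow 2 SL(2, F)) :
    Subgroup.centralizer ((S : Subgroup SL(2, F)) : Set SL(2, F)) =
      Subgroup.center SL(2, F) := by
  obtain ⟨k, c, y, -, hc, hy, hz, -, -, hyT, -, -, -⟩ := sylow_two_gens hq S
  refine le_antisymm (fun g hg => ?_) (Subgroup.center_le_centralizer _)
  by_contra hn
  refine hyT ?_
  have hgc : g ∈ tor c :=
    Subgroup.mem_centralizer_singleton_iff.2 (Subgroup.mem_centralizer_iff.1 hg c hc).symm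
  rw [← tor_eq_of_mem hz hgc hn]
  exact Subgroup.mem_centralizer_singleton_iff.2 (Subgroup.mem_centralizer_iff.1 hg y hy)

theorem eight_dvd (hq : Odd (Nat.card F)) : ∃ r, Nat.card F ^ 2 - 1 = 8 * r ∧
    ((Nat.card F % 8 = 1 ∨ Nat.card F % 8 = 7) → 2 ∣ r) ∧
    ((Nat.card F % 8 = 3 ∨ Nat.card F % 8 = 5) → ¬ 2 ∣ r) := by
  obtain ⟨j, hj⟩ := hq
  have h16 : Nat.card F % 16 = 1 ∨ Nat.card F % 16 = 3 ∨ Nat.card F % 16 = 5 ∨
      Nat.card F % 16 = 7 ∨ Nat.card F % 16 = 9 ∨ Nat.card F % 16 = 11 ∨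
      Nat.card F % 16 = 13 ∨ Nat.card F % 16 = 15 := by omega
  refine ⟨(Nat.card F ^ 2 - 1) / 8, ?_, ?_, ?_⟩
  · rcases h16 with h | h | h | h | h | h | h | h <;>
      (have := Nat.pow_mod (Nat.card F) 2 16; rw [h] at this; norm_num at this; omega)
  · intro h8
    rcases h16 with h | h | h | h | h | h | h | h <;>
      (have := Nat.pow_mod (Nat.card F) 2 16; rw [h] at this; norm_num at this; omega)
  · intro h8
    rcases h16 with h | h | h | h | h | h | h | h <;>
      (have := Nat.pow_mod (Nat.card F) 2 16; rw [h] at this; norm_num at this; omega)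

/-- For `q ≡ ±1 mod 8` Sylow 2-subgroups are self-normalising. -/
theorem normalizer_sylow_two_self (hq : Odd (Nat.card F))
    (h8 : Nat.card F % 8 = 1 ∨ Nat.card F % 8 = 7) (S : Sylow 2 SL(2, F)) :
    Subgroup.normalizer ((S : Subgroup SL(2, F)) : Set SL(2, F)) = S := by
  have h2 := PSL2SylowTwo.two_ne_zero_of_odd hq
  obtain ⟨k, c, y, hk, hc, hy, hz, hoc, hyc, hyT, -, hcard, hS⟩ := sylow_two_gens hq S
  have hk2 : 2 ≤ k := by
    obtain ⟨r, hr, hr2, -⟩ := eight_dvd hq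
    obtain ⟨r', rfl⟩ := hr2 h8
    have h16 : 2 ^ 4 ∣ Nat.card SL(2, F) := by
      rw [PSLCard.card_SL2, hr]
      exact ⟨Nat.card F * r', by ring⟩
    have := (S.card_eq_multiplicity ▸ ((Nat.prime_two.pow_dvd_iff_dvd_ordProj
      Nat.card_pos.ne').1 h16) : 2 ^ 4 ∣ Nat.card S)
    rw [hcard] at this
    by_contra hlt
    interval_cases k
    norm_num at this
  refine le_antisymm (fun g hg => ?_) Subgroup.le_normalizer
  have hgc : g * c * g⁻¹ ∈ S := (Subgroup.mem_normalizer_iff.1 hg c).1 hc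
  refine mem_of_conj_mem_tor h2 S hz hy hyc hyT hg ?_
  rcases hS _ hgc with ⟨i, hi⟩ | ⟨ho, -⟩
  · rw [hi]; exact pow_mem (self_mem c) i
  · exfalso
    have : orderOf (g * c * g⁻¹) = orderOf c :=
      (orderOf_injective (MulAut.conj g).toMonoidHom (MulAut.conj g).injective c)
    rw [ho, hoc] at this
    have : 2 ^ 2 ≤ 2 ^ k := Nat.pow_le_pow_right two_pos hk2
    omega

/-- The element of order three permuting `i, j, ij`. -/
theorem exists_triality (h2 : (2 : F) ≠ 0) {c y : SL(2, F)} (hc : c * c = -1) (hy : y * y = -1)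
    (hyc : y * c * y⁻¹ = c⁻¹) :
    ∃ W : SL(2, F), W ^ 3 = 1 ∧ W * y * W⁻¹ = c ∧ W * c * W⁻¹ = c * y := by
  have hi : c.1 * c.1 = -1 := by rw [← coe_mul', hc]; rfl
  have hj : y.1 * y.1 = -1 := by rw [← coe_mul', hy]; rfl
  have hji : y.1 * c.1 = -(c.1 * y.1) := by
    have hcinv : c⁻¹ = -c := inv_eq_of_mul_eq_one_right (by rw [mul_neg, hc, neg_neg])
    rw [hcinv, mul_inv_eq_iff_eq_mul] at hyc
    rw [← coe_mul', hyc, coe_mul', coe_neg', neg_mul]
  set i := c.1
  set j := y.1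
  have hiij : ∀ M : Matrix (Fin 2) (Fin 2) F, i * (i * M) = -M := fun M => by
    rw [← mul_assoc, hi, neg_one_mul]
  have hjjM : ∀ M : Matrix (Fin 2) (Fin 2) F, j * (j * M) = -M := fun M => by
    rw [← mul_assoc, hj, neg_one_mul]
  have hjiM : ∀ M : Matrix (Fin 2) (Fin 2) F, j * (i * M) = -(i * (j * M)) := fun M => by
    rw [← mul_assoc, hji, neg_mul, mul_assoc]
  set v : Matrix (Fin 2) (Fin 2) F := -1 + i + j + i * j with hv
  have e1 : v * j = i * v := by
    simp only [hv, add_mul, mul_add, mul_assoc, neg_mul, mul_neg, one_mul, mul_one, hi, hj,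
      hiij, hjjM]
    abel
  have e2 : v * i = i * j * v := by
    simp only [hv, add_mul, mul_add, mul_assoc, neg_mul, mul_neg, one_mul, mul_one, hi, hj, hji,
      hiij, hjjM, hjiM, neg_neg]
    abel
  have e3 : v * v = -v - v - (1 + 1 + 1 + 1) := by
    simp only [hv, add_mul, mul_add, mul_assoc, neg_mul, mul_neg, one_mul, mul_one, hi, hj, hji,
      hiij, hjjM, hjiM, neg_neg]
    abel
  set u : Matrix (Fin 2) (Fin 2) F := (2 : F)⁻¹ • v with hu
  have u2 : u * u = -u - 1 := by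
    rw [hu, smul_mul_smul_comm, e3, ← sub_eq_zero]
    ext a b
    simp [Matrix.one_apply]
    split_ifs <;> field_simp <;> ring
  have u3 : u * u * u = 1 := by
    rw [u2, sub_mul, neg_mul, u2, one_mul]; abel
  have hdet : u.det ^ 3 = 1 := by
    have := congrArg Matrix.det u3
    rw [Matrix.det_mul, Matrix.det_mul, Matrix.det_one] at this
    rw [← this]; ring
  let W : SL(2, F) := ⟨u.det • u, by
    rw [Matrix.det_smul, Fintype.card_fin, ← pow_succ]
    exact hdet⟩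
  have hW : W.1 = (u.det * (2 : F)⁻¹) • v := by
    show u.det • u = _
    rw [hu, smul_smul]
  refine ⟨W, ?_, ?_, ?_⟩
  · refine Subtype.ext ?_
    show (W ^ 3).1 = (1 : Matrix (Fin 2) (Fin 2) F)
    rw [coe_pow', show W.1 = u.det • u from rfl, smul_pow, hdet, one_smul, pow_succ, pow_two, u3]
  · rw [mul_inv_eq_iff_eq_mul]
    refine Subtype.ext ?_
    rw [coe_mul', coe_mul', hW, smul_mul_assoc, mul_smul_comm, e1]
  · rw [mul_inv_eq_iff_eq_mul]
    refine Subtype.ext ?_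
    rw [coe_mul', coe_mul', coe_mul', hW, smul_mul_assoc, mul_smul_comm, e2]

/-- Data for a Sylow 2-subgroup when `q ≡ ±3 mod 8`: the normaliser has order `24`. -/
theorem sylow_two_three (hq : Odd (Nat.card F))
    (h8 : Nat.card F % 8 = 3 ∨ Nat.card F % 8 = 5) (S : Sylow 2 SL(2, F)) :
    Nat.card S = 8 ∧
    Nat.card (Subgroup.normalizer ((S : Subgroup SL(2, F)) : Set SL(2, F))) = 3 * Nat.card S ∧
    ∃ c y W : SL(2, F), c ∈ S ∧ y ∈ S ∧ c * c = -1 ∧ orderOf W = 3 ∧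
      W ∈ Subgroup.normalizer ((S : Subgroup SL(2, F)) : Set SL(2, F)) ∧
      W * y * W⁻¹ = c ∧ W * c * W⁻¹ = c * y ∧
      ∀ s ∈ S, s ∈ Subgroup.center SL(2, F) ∨ s = c ∨ s = c⁻¹ ∨ s = y ∨ s = y⁻¹ ∨
        s = c * y ∨ s = (c * y)⁻¹ := by
  classical
  have h2 := PSL2SylowTwo.two_ne_zero_of_odd hq
  obtain ⟨k, c, y, hk, hc, hy, hz, hoc, hyc, hyT, hoy, hcard, hS⟩ := sylow_two_gens hq S
  obtain ⟨r, hr, -, hr2⟩ := eight_dvd hq
  have hG : Nat.card SL(2, F) = 2 ^ 3 * (Nat.card F * r) := by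
    rw [PSLCard.card_SL2, hr]; ring
  have hodd : ¬ 2 ∣ Nat.card F * r := fun h => by
    rcases Nat.prime_two.dvd_mul.1 h with h | h
    · omega
    · exact hr2 h8 h
  have hS8 : Nat.card S = 8 := by
    rw [PSL2Sylow.sylow_card_eq hG hodd S]; norm_num
  have hk1 : k = 1 := by
    rw [hcard] at hS8
    have : 2 ^ k = 2 ^ 1 := by omega
    exact Nat.pow_right_injective le_rfl this
  subst hk1
  have sqn : ∀ g : SL(2, F), orderOf g = 4 → g * g = -1 := by
    intro g hg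
    refine (eq_one_or_neg_one_of_sq_eq_one h2 ?_).resolve_left fun h => ?_
    · rw [← sq, ← pow_mul, show 2 * 2 = orderOf g by rw [hg], pow_orderOf_eq_one]
    · have := Nat.le_of_dvd two_pos (orderOf_dvd_of_pow_eq_one (show g ^ 2 = 1 by rwa [sq]))
      omega
  have hc2 := sqn c (by rw [hoc]; norm_num)
  have hy2 := sqn y hoy
  obtain ⟨W, hW3, hWy, hWc⟩ := exists_triality h2 hc2 hy2 hyc
  have hcy : c * y ∈ S := mul_mem hc hy
  have hc4 : ∀ i : ℕ, c ^ i = c ^ (i % 4) := fun i => by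
    rw [show (4 : ℕ) = orderOf c by rw [hoc]; norm_num, pow_mod_orderOf]
  have hlist : ∀ s ∈ S, s ∈ Subgroup.center SL(2, F) ∨ s = c ∨ s = c⁻¹ ∨ s = y ∨ s = y⁻¹ ∨
      s = c * y ∨ s = (c * y)⁻¹ := by
    intro s hs
    have hcinv : c⁻¹ = c ^ 3 := inv_eq_of_mul_eq_one_right (by
      rw [← pow_succ', show 3 + 1 = orderOf c by rw [hoc]; norm_num, pow_orderOf_eq_one])
    have hyinv : y⁻¹ = y * c ^ 2 := inv_eq_of_mul_eq_one_right (by
      rw [← mul_assoc, hy2, sq, hc2, neg_one_mul, neg_neg])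
    have hcy' : c * y = y * c ^ 3 := by
      rw [← hcinv, ← inv_mul_eq_iff_eq_mul]
      have := congrArg (fun g => g⁻¹) hyc
      calc y⁻¹ * (c * y) = (y⁻¹ * c * y) := by group
        _ = c⁻¹ := by
          have h1 : y * c⁻¹ * y⁻¹ = c := by rw [← conj_inv, hyc, inv_inv]
          calc y⁻¹ * c * y = y⁻¹ * (y * c⁻¹ * y⁻¹) * y := by rw [h1]
            _ = c⁻¹ := by group
    have hcyinv : (c * y)⁻¹ = y * c := by
      rw [_root_.mul_inv_rev, hyinv, hcinv, mul_assoc, ← pow_add, hc4 (2 + 3)]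
      norm_num
    rcases hS s hs with ⟨i, rfl⟩ | ⟨-, i, rfl⟩
    · rw [hc4 i]
      have : i % 4 < 4 := Nat.mod_lt _ (by norm_num)
      interval_cases h : i % 4
      · exact Or.inl (by rw [pow_zero]; exact one_mem _)
      · exact Or.inr (Or.inl (pow_one c))
      · exact Or.inl ((mem_center_iff _).2 (Or.inr (by rw [sq, hc2])))
      · exact Or.inr (Or.inr (Or.inl hcinv.symm))
    · rw [hc4 i]
      have : i % 4 < 4 := Nat.mod_lt _ (by norm_num)
      interval_cases h : i % 4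
      · exact Or.inr (Or.inr (Or.inr (Or.inl (by rw [pow_zero, mul_one]))))
      · exact Or.inr (Or.inr (Or.inr (Or.inr (Or.inr (Or.inr (by rw [pow_one, hcyinv]))))))
      · exact Or.inr (Or.inr (Or.inr (Or.inr (Or.inl hyinv.symm))))
      · exact Or.inr (Or.inr (Or.inr (Or.inr (Or.inr (Or.inl hcy'.symm)))))
  set N := Subgroup.normalizer ((S : Subgroup SL(2, F)) : Set SL(2, F)) with hN
  have hWN : W ∈ N := by
    have hmap : (S : Subgroup SL(2, F)).map (MulAut.conj W).toMonoidHom ≤ S := by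
      rintro _ ⟨s, hs, rfl⟩
      rcases hS s hs with ⟨i, rfl⟩ | ⟨-, i, rfl⟩
      · rw [map_pow]
        refine pow_mem ?_ i
        show W * c * W⁻¹ ∈ S
        rw [hWc]; exact hcy
      · rw [map_mul, map_pow]
        refine mul_mem ?_ (pow_mem ?_ i)
        · show W * y * W⁻¹ ∈ S
          rw [hWy]; exact hc
        · show W * c * W⁻¹ ∈ S
          rw [hWc]; exact hcy
    have heq : (S : Subgroup SL(2, F)).map (MulAut.conj W).toMonoidHom = S :=
      Subgroup.eq_of_le_of_card_ge hmap (by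
        rw [Nat.card_congr ((S : Subgroup SL(2, F)).equivMapOfInjective
          (MulAut.conj W).toMonoidHom (MulAut.conj W).injective).toEquiv])
    rw [hN, Subgroup.mem_normalizer_iff]
    intro s
    refine ⟨fun hs => hmap ⟨s, hs, rfl⟩, fun hs => ?_⟩
    rw [← heq] at hs
    obtain ⟨t, ht, hts⟩ := hs
    have : t = s := (MulAut.conj W).injective hts
    exact this ▸ ht
  have hWS : W ∉ S := fun h => by
    obtain ⟨n, hn⟩ := exists_inverter hz
    have hyN : y ∈ Subgroup.normalizer (tor c : Set SL(2, F)) := (mem_normalizer_iff_or h2 hz hn).2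
      (Or.inr ((mem_or_mem h2 hz hn (hyc ▸ inv_mem (self_mem c))).resolve_left hyT))
    have hWT : W ∈ Subgroup.normalizer (tor c : Set SL(2, F)) := by
      rcases hS W h with ⟨i, hi⟩ | ⟨-, i, hi⟩ <;> rw [hi]
      · exact tor_le_normalizer h2 hz (pow_mem (self_mem c) i)
      · exact mul_mem hyN (tor_le_normalizer h2 hz (pow_mem (self_mem c) i))
    have h3 : W * c * W⁻¹ ∈ tor c := (Subgroup.mem_normalizer_iff.1 hWT c).1 (self_mem c)
    rw [hWc] at h3
    exact hyT (by simpa using mul_mem (inv_mem (self_mem c)) h3)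
  have hoW : orderOf W = 3 := orderOf_eq_prime hW3 fun h => hWS (h ▸ one_mem _)
  refine ⟨hS8, ?_, c, y, W, hc, hy, hc2, hoW, hWN, hWy, hWc, hlist⟩
  -- upper bound for the order of the normaliser
  have := Fintype.ofFinite N
  let D : Finset (SL(2, F)) := {c, c⁻¹, y, y⁻¹, c * y, (c * y)⁻¹}
  have hD : ∀ g : N, (g : SL(2, F)) * c * (g : SL(2, F))⁻¹ ∈ D := by
    intro g
    have hgS : (g : SL(2, F)) * c * (g : SL(2, F))⁻¹ ∈ S :=
      (Subgroup.mem_normalizer_iff.1 g.2 c).1 hc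
    rcases hlist _ hgS with h | h | h | h | h | h | h
    · exfalso
      refine not_center hz ?_
      have h' := Subgroup.Normal.conj_mem inferInstance _ h (g : SL(2, F))⁻¹
      rwa [show (g : SL(2, F))⁻¹ * (g * c * (g : SL(2, F))⁻¹) * (g : SL(2, F))⁻¹⁻¹ = c by group] at h'
    all_goals (simp only [D, Finset.mem_insert, Finset.mem_singleton, h, true_or, or_true])
  have hfib : ∀ b ∈ (Finset.univ : Finset N).image
      (fun g : N => (g : SL(2, F)) * c * (g : SL(2, F))⁻¹),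
      ((Finset.univ : Finset N).filter
        fun g : N => (g : SL(2, F)) * c * (g : SL(2, F))⁻¹ = b).card ≤ 4 := by
    intro b hb
    simp only [Finset.mem_image, Finset.mem_univ, true_and] at hb
    obtain ⟨g₀, rfl⟩ := hb
    have h4 : Nat.card ((S : Subgroup SL(2, F)) ⊓ tor c : Subgroup SL(2, F)) ≤ 4 := by
      have hdvd := Subgroup.card_dvd_of_le
        (inf_le_left : (S : Subgroup SL(2, F)) ⊓ tor c ≤ S)
      have hne : Nat.card ((S : Subgroup SL(2, F)) ⊓ tor c : Subgroup SL(2, F)) ≠ 8 := fun h => by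
        have := Subgroup.eq_of_le_of_card_ge
          (inf_le_left : (S : Subgroup SL(2, F)) ⊓ tor c ≤ S) (by rw [h]; exact hS8.le)
        rw [inf_eq_left] at this
        exact hyT (this hy)
      rw [hS8] at hdvd
      have := Nat.le_of_dvd (by norm_num) hdvd
      generalize Nat.card ((S : Subgroup SL(2, F)) ⊓ tor c : Subgroup SL(2, F)) = m at *
      interval_cases m <;> simp_all
    refine le_trans ?_ h4
    rw [← Fintype.card_subtype, ← Nat.card_eq_fintype_card]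
    have hin : ∀ g : N, (g : SL(2, F)) * c * (g : SL(2, F))⁻¹ = g₀.1 * c * (g₀.1)⁻¹ →
        (g₀.1)⁻¹ * g.1 ∈ (S : Subgroup SL(2, F)) ⊓ tor c := by
      intro g hg
      have h1 : (g₀.1)⁻¹ * g.1 * c * ((g₀.1)⁻¹ * g.1)⁻¹ = c := by
        calc (g₀.1)⁻¹ * g.1 * c * ((g₀.1)⁻¹ * g.1)⁻¹ = (g₀.1)⁻¹ * (g.1 * c * (g.1)⁻¹) * g₀.1 := by
              group
          _ = c := by rw [hg]; group
      exact ⟨mem_of_conj_mem_tor h2 S hz hy hyc hyT (mul_mem (inv_mem g₀.2) g.2)
        (by rw [h1]; exact self_mem c),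
        Subgroup.mem_centralizer_singleton_iff.2 (mul_inv_eq_iff_eq_mul.1 h1)⟩
    refine Nat.card_le_card_of_injective (fun g => ⟨_, hin g.1 g.2⟩) fun g g' h => ?_
    exact Subtype.ext (Subtype.ext (mul_left_cancel (congrArg Subtype.val h)))
  have hle : Nat.card N ≤ 24 := by
    rw [Nat.card_eq_fintype_card, ← Finset.card_univ]
    refine le_trans (Finset.card_le_mul_card_image _ 4 hfib) ?_
    refine le_trans (Nat.mul_le_mul_left 4 (Finset.card_le_card
      (show _ ⊆ D from fun b hb => ?_))) (show 4 * D.card ≤ 24 from ?_)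
    · simp only [Finset.mem_image, Finset.mem_univ, true_and] at hb
      obtain ⟨g, rfl⟩ := hb
      exact hD g
    · have : D.card ≤ 6 := Finset.card_le_six
      omega
  have h8N : 8 ∣ Nat.card N := hS8 ▸ Subgroup.card_dvd_of_le Subgroup.le_normalizer
  have h3N : 3 ∣ Nat.card N := hoW ▸ Subgroup.orderOf_dvd_natCard _ hWN
  have h24 : 24 ∣ Nat.card N := Nat.Coprime.mul_dvd_of_dvd_of_dvd (by norm_num) h8N h3N
  have := Nat.le_of_dvd Nat.card_pos h24
  omega

end Cfsg.Agent.SL2SylowNormalizer
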