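import Mathlib
import Cfsg.Prelude.Def_BaumannBlocks
import Cfsg.Agent.Lib.BaumannBlockCharP
import Cfsg.Agent.Lib.BaumannSubnormal58Basic
import Cfsg.Agent.Lib.ComponentsBasic
import Cfsg.Agent.Lib.PSLSimple
import Cfsg.Agent.S2427

/-!
The properties of `B(T)`-blocks used for subnormal blocks, stated without reference to `T` and
preserved by automorphisms.
-/

set_option autoImplicit false
set_option linter.style.haveILetI false

namespace Cfsg.Agent.BaumannSubnormal58

open Subgroup Cfsg BaumannBlockStructure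
open scoped commutatorElement

variable {G : Type*} [Group G]

/-- `Q_E = O_p(E)`. -/
abbrev Qo (p : ℕ) (E : Subgroup G) : Subgroup G := pCoreOf p E

/-- `W = Ω₁(Z(Q_E))`. -/
abbrev Wo (p : ℕ) (E : Subgroup G) : Subgroup G := omegaOneCenter p (pCoreOf p E)

/-- `Z = C_W(E)`. -/
abbrev Zo (p : ℕ) (E : Subgroup G) : Subgroup G := Wo p E ⊓ centralizer (E : Set G)

/-- The exceptional shape. -/
structure Exc (p : ℕ) (E : Subgroup G) : Prop where
  three : p = 3
  natU : NatSection E (Qo p E) (Qo p E) (Wo p E)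
  comm : ⁅Qo p E, Qo p E⁆ = Zo p E
  zne : Zo p E ≠ ⊥
  pow_mem : ∀ q ∈ Qo p E, q ^ p ∈ Wo p E
  quad : ∃ b : G, b ∈ normalizer (Qo p E : Set G) ∧ b ∈ normalizer (wE p E : Set G) ∧
    b ∈ normalizer (Zo p E : Set G) ∧ (∃ k : ℕ, b ^ p ^ k = 1) ∧
    ¬ ⁅⁅Qo p E, zpowers b⁆, zpowers b⁆ ≤ Zo p E

/-- The smallest blocks: `E / Q` of order 3 (`p = 2`) or a quaternion group (`p = 3`). -/
structure Small (p : ℕ) (E : Subgroup G) : Prop where
  card : (p = 2 ∧ (Qo p E).relIndex E = 3) ∨ (p = 3 ∧ (Qo p E).relIndex E = 8)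
  sec : (Zo p E).relIndex (Wo p E) = p ^ 2
  sec2 : Qo p E = Wo p E ∨ (Wo p E).relIndex (Qo p E) = p ^ 2
  inv : p = 3 → ∀ x ∈ E, x ∉ Qo p E →
    (∀ w ∈ Wo p E, x * w * x⁻¹ * w ∈ Zo p E) ∨
      (∀ w ∈ Wo p E, x ^ 2 * w * (x ^ 2)⁻¹ * w ∈ Zo p E)

/-- What is used about a block. -/
structure Blk (p : ℕ) (E : Subgroup G) : Prop where
  res : pResidualOf p E = E
  comm : ⁅Qo p E, E⁆ = Qo p E
  nR : pCore p G ≤ normalizer (E : Set G)
  comR : ⁅pCore p G, E⁆ ≤ Qo p E
  natW : NatSection E (Qo p E) (Wo p E) (Zo p E)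
  cenR : wE p E ≤ centralizer (pCore p G : Set G)
  notP : ¬ IsPGroup p ↥E
  invn : ∀ P : Subgroup G, IsPGroup p ↥P →
    normalizer (Qo p E : Set G) ⊓ normalizer (wE p E : Set G) ≤ normalizer (P : Set G) →
    P ≤ normalizer (E : Set G)
  shape : Qo p E = Wo p E ∨ Exc p E
  abel : ⁅E, E⁆ ≤ Qo p E → p = 2 ∧ Small p E

/-! ### Transport along automorphisms -/

section transport

variable (c : G ≃* G) {p : ℕ}

theorem map_pCoreOf [Finite G] (E : Subgroup G) :
    (pCoreOf p E).map c.toMonoidHom = pCoreOf p (E.map c.toMonoidHom) := by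
  have key : ∀ (d : G ≃* G) (F : Subgroup G),
      (pCoreOf p F).map d.toMonoidHom ≤ pCoreOf p (F.map d.toMonoidHom) := fun d F =>
    LocalBasics.le_pCoreOf (map_mono (LocalBasics.pCoreOf_le p F))
      (by rw [← map_equiv_normalizer_eq]; exact map_mono (LocalBasics.le_normalizer_pCoreOf p F))
      ((LocalBasics.isPGroup_pCoreOf p F).map _)
  refine le_antisymm (key c E) fun x hx => ?_
  have h := key c.symm (E.map c.toMonoidHom) ⟨x, hx, rfl⟩
  rw [map_map, show c.symm.toMonoidHom.comp c.toMonoidHom = MonoidHom.id G by ext; simp,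
    map_id] at h
  exact ⟨_, h, c.apply_symm_apply x⟩

theorem map_Wo [Finite G] (E : Subgroup G) :
    (Wo p E).map c.toMonoidHom = Wo p (E.map c.toMonoidHom) := by
  rw [Wo, Wo, omegaOneCenter, omegaOneCenter, Offenders.omegaOne_map c.injective,
    map_inf _ _ _ c.injective, BaumannBlockBasics.map_centralizer_conj, map_pCoreOf]

theorem map_Zo [Finite G] (E : Subgroup G) :
    (Zo p E).map c.toMonoidHom = Zo p (E.map c.toMonoidHom) := by
  rw [Zo, Zo, map_inf _ _ _ c.injective, BaumannBlockBasics.map_centralizer_conj, map_Wo]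

theorem map_wE [Finite G] (E : Subgroup G) :
    (wE p E).map c.toMonoidHom = wE p (E.map c.toMonoidHom) := by
  show (⁅Wo p E, E⁆ : Subgroup G).map c.toMonoidHom = ⁅Wo p (E.map c.toMonoidHom), E.map c.toMonoidHom⁆
  rw [map_commutator, map_Wo]

theorem mem_map_normalizer {K : Subgroup G} {x : G} (h : x ∈ normalizer (K : Set G)) :
    c x ∈ normalizer ((K.map c.toMonoidHom : Subgroup G) : Set G) := by
  rw [← map_equiv_normalizer_eq]; exact ⟨x, h, rfl⟩

theorem map_le_normalizer {K L : Subgroup G} (h : K ≤ normalizer (L : Set G)) :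
    K.map c.toMonoidHom ≤ normalizer ((L.map c.toMonoidHom : Subgroup G) : Set G) := by
  rw [← map_equiv_normalizer_eq]; exact map_mono h

theorem natSection_map {E Q W Z : Subgroup G} (h : NatSection E Q W Z) :
    NatSection (E.map c.toMonoidHom) (Q.map c.toMonoidHom) (W.map c.toMonoidHom)
      (Z.map c.toMonoidHom) where
  norm := map_le_normalizer c h.norm
  zle := map_mono h.zle
  irred U hZU hUW hEU := by
    have hU : (U.comap c.toMonoidHom).map c.toMonoidHom = U :=
      map_comap_eq_self_of_surjective c.surjective U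
    rcases h.irred (U.comap c.toMonoidHom) (fun z hz => hZU ⟨z, hz, rfl⟩)
      (fun u hu => by
        obtain ⟨w, hw, he⟩ := hUW hu
        rwa [← c.injective he])
      (LocalBasics.le_normalizer_of_conj fun e he u hu => by
        show c (e * u * e⁻¹) ∈ U
        rw [map_mul, map_mul, map_inv]
        exact conj_mem' (hEU ⟨e, he, rfl⟩) hu) with h1 | h1
    · exact Or.inl (by rw [← hU, h1])
    · exact Or.inr (by rw [← hU, h1])
  ker := by
    rintro _ ⟨e, he, rfl⟩ hk
    refine ⟨e, h.ker e he fun w hw => ?_, rfl⟩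
    have h1 := hk (c w) ⟨w, hw, rfl⟩
    obtain ⟨z, hz, hze⟩ := h1
    have : z = ⁅e, w⁆ := c.injective (by rw [map_commutatorElement]; exact hze)
    exact this ▸ hz

variable [Finite G]

theorem exc_map {E : Subgroup G} (h : Exc p E) : Exc p (E.map c.toMonoidHom) where
  three := h.three
  natU := by rw [Qo, ← map_pCoreOf, ← map_Wo]; exact natSection_map c h.natU
  comm := by rw [Qo, ← map_pCoreOf, ← map_commutator, h.comm, map_Zo]
  zne := by
    rw [← map_Zo, Ne, Subgroup.map_eq_bot_iff_of_injective _ c.injective]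
    exact h.zne
  pow_mem q hq := by
    rw [Qo, ← map_pCoreOf] at hq
    obtain ⟨q, hq, rfl⟩ := hq
    rw [← map_Wo, ← map_pow]
    exact ⟨_, h.pow_mem q hq, rfl⟩
  quad := by
    obtain ⟨b, h1, h2, h3, ⟨k, hk⟩, h4⟩ := h.quad
    refine ⟨c b, ?_, ?_, ?_, ⟨k, by rw [← map_pow, hk, map_one]⟩, ?_⟩
    · rw [Qo, ← map_pCoreOf]; exact mem_map_normalizer c h1
    · rw [← map_wE]; exact mem_map_normalizer c h2
    · rw [← map_Zo]; exact mem_map_normalizer c h3
    · rw [Qo, ← map_pCoreOf, ← map_Zo, show zpowers (c b) = (zpowers b).map c.toMonoidHom from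
        (MonoidHom.map_zpowers c.toMonoidHom b).symm, ← map_commutator, ← map_commutator,
        map_le_map_iff_of_injective c.injective]
      exact h4

theorem small_map {E : Subgroup G} (h : Small p E) : Small p (E.map c.toMonoidHom) where
  card := by
    rw [Qo, ← map_pCoreOf, relIndex_map_map_of_injective _ _ c.injective]
    exact h.card
  sec := by rw [← map_Zo, ← map_Wo, relIndex_map_map_of_injective _ _ c.injective]; exact h.sec
  sec2 := by
    rw [Qo, ← map_pCoreOf, ← map_Wo, relIndex_map_map_of_injective _ _ c.injective]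
    rcases h.sec2 with h1 | h1
    · exact Or.inl (congrArg (Subgroup.map c.toMonoidHom) h1)
    · exact Or.inr h1
  inv hp := by
    rintro _ ⟨x, hx, rfl⟩ hxQ
    rw [Qo, ← map_pCoreOf] at hxQ
    have hxQ' : x ∉ Qo p E := fun h' => hxQ ⟨x, h', rfl⟩
    rcases h.inv hp x hx hxQ' with h1 | h1 <;> [left; right] <;> intro w hw <;>
      rw [← map_Wo] at hw <;> obtain ⟨w, hw, rfl⟩ := hw <;> rw [← map_Zo]
    · exact ⟨_, h1 w hw, by simp⟩
    · exact ⟨_, h1 w hw, by simp⟩

theorem blk_map {E : Subgroup G} (h : Blk p E) : Blk p (E.map c.toMonoidHom) where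
  res := by
    rw [BaumannBlockBasics.pResidualOf_eq_closure]
    conv_rhs => rw [← h.res, BaumannBlockBasics.pResidualOf_eq_closure, MonoidHom.map_closure]
    congr 1
    ext x
    constructor
    · rintro ⟨⟨y, hy, rfl⟩, ho⟩
      exact ⟨y, ⟨hy, by rwa [orderOf_injective c.toMonoidHom c.injective] at ho⟩, rfl⟩
    · rintro ⟨y, ⟨hy, ho⟩, rfl⟩
      exact ⟨⟨y, hy, rfl⟩, by rwa [orderOf_injective c.toMonoidHom c.injective]⟩
  comm := by rw [Qo, ← map_pCoreOf, ← map_commutator, h.comm]
  nR := by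
    rw [← HallCore.map_equiv_pCore (p := p) c]
    exact map_le_normalizer c h.nR
  comR := by
    rw [← HallCore.map_equiv_pCore (p := p) c, ← map_commutator, Qo, ← map_pCoreOf]
    exact map_mono h.comR
  natW := by rw [Qo, ← map_pCoreOf, ← map_Wo, ← map_Zo]; exact natSection_map c h.natW
  cenR := by
    rw [← map_wE, ← HallCore.map_equiv_pCore (p := p) c, ← BaumannBlockBasics.map_centralizer_conj]
    exact map_mono h.cenR
  notP hP := h.notP (hP.of_equiv (E.equivMapOfInjective c.toMonoidHom c.injective).symm)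
  invn P hP hN := by
    rw [Qo, ← map_pCoreOf, ← map_wE, ← map_equiv_normalizer_eq, ← map_equiv_normalizer_eq,
      ← map_inf _ _ _ c.injective] at hN
    have hP' : P = (P.comap c.toMonoidHom).map c.toMonoidHom :=
      (map_comap_eq_self_of_surjective c.surjective P).symm
    rw [hP'] at hN ⊢
    rw [← map_equiv_normalizer_eq, map_le_map_iff_of_injective c.injective] at hN
    exact map_le_normalizer c (h.invn _ (hP.comap_of_injective _ c.injective) hN)
  shape := by
    rcases h.shape with h1 | h1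
    · exact Or.inl (by rw [Qo, ← map_pCoreOf, ← map_Wo]; exact congrArg _ h1)
    · exact Or.inr (exc_map c h1)
  abel hc := by
    rw [Qo, ← map_pCoreOf, ← map_commutator, map_le_map_iff_of_injective c.injective] at hc
    exact ⟨(h.abel hc).1, small_map c (h.abel hc).2⟩

end transport

/-! ### Facts on `SL₂` over the fields of order 2 and 3 -/

section models

/-- The isomorphism of special linear groups given by a ring isomorphism. -/
def slEquiv {R S : Type*} [CommRing R] [CommRing S] (e : R ≃+* S) :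
    Matrix.SpecialLinearGroup (Fin 2) R ≃* Matrix.SpecialLinearGroup (Fin 2) S :=
  { Matrix.SpecialLinearGroup.map (n := Fin 2) e.toRingHom with
    invFun := Matrix.SpecialLinearGroup.map e.symm.toRingHom
    left_inv := fun g => Subtype.ext (Matrix.ext fun i j => e.symm_apply_apply _)
    right_inv := fun g => Subtype.ext (Matrix.ext fun i j => e.apply_symm_apply _) }

theorem slEquiv_coe {R S : Type*} [CommRing R] [CommRing S] (e : R ≃+* S)
    (g : Matrix.SpecialLinearGroup (Fin 2) R) (i j : Fin 2) :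
    (slEquiv e g : Matrix (Fin 2) (Fin 2) S) i j = e ((g : Matrix (Fin 2) (Fin 2) R) i j) := rfl

abbrev SL23 := Matrix.SpecialLinearGroup (Fin 2) (ZMod 3)

theorem sl23_square : ∀ g : SL23, g * g * (g * g) * (g * g * (g * g)) = 1 → g ≠ 1 →
    g.1 = -1 ∨ (g * g).1 = -1 := by decide

theorem sl23_noncomm : ∃ a b : SL23, a ∈ commutator SL23 ∧ b ∈ commutator SL23 ∧ a * b ≠ b * a := by
  let u : SL23 := ⟨!![1, 1; 0, 1], by decide⟩
  let l : SL23 := ⟨!![1, 0; 1, 1], by decide⟩
  let a : SL23 := ⁅u, l⁆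
  refine ⟨a, u * a * u⁻¹, commutator_mem_commutator (mem_top _) (mem_top _), ?_, ?_⟩
  · exact Subgroup.Normal.conj_mem inferInstance _
      (commutator_mem_commutator (mem_top _) (mem_top _)) _
  · simp only [a, commutatorElement_def, u, l]
    decide

abbrev SL22 := Matrix.SpecialLinearGroup (Fin 2) (ZMod 2)

theorem card_commutator_sl22 : Nat.card ↥(commutator SL22) = 3 := by
  let u : SL22 := ⟨!![1, 1; 0, 1], by decide⟩
  let l : SL22 := ⟨!![1, 0; 1, 1], by decide⟩
  let a : SL22 := ⁅u, l⁆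
  have h3 : a ^ 3 = 1 := by simp only [a, commutatorElement_def, u, l]; decide
  have h1 : a ≠ 1 := by simp only [a, commutatorElement_def, u, l]; decide
  have hall : ∀ x y : SL22, x * y * x⁻¹ * y⁻¹ = 1 ∨ x * y * x⁻¹ * y⁻¹ = a ∨
      x * y * x⁻¹ * y⁻¹ = a * a := by simp only [a, commutatorElement_def, u, l]; decide
  have he : commutator SL22 = zpowers a := by
    refine le_antisymm ?_ ((zpowers_le).2 (commutator_mem_commutator (mem_top _) (mem_top _)))
    rw [commutator_def, commutator_le]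
    intro x _ y _
    rw [commutatorElement_def]
    rcases hall x y with h | h | h <;> rw [h]
    · exact one_mem _
    · exact mem_zpowers a
    · exact mul_mem (mem_zpowers a) (mem_zpowers a)
  haveI : Fact (Nat.Prime 3) := ⟨Nat.prime_three⟩
  rw [he, Nat.card_zpowers, orderOf_eq_prime h3 h1]

variable {F : Type*} [Field F] [Fintype F]

theorem commutator_equiv {A B : Type*} [Group A] [Group B] (e : A ≃* B) :
    (commutator A).map e.toMonoidHom = commutator B := by
  rw [commutator_def, commutator_def, map_commutator,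
    ← MonoidHom.range_eq_map, MonoidHom.range_eq_top.2 e.surjective]

theorem card_commutator_two (hF : Fintype.card F = 2) :
    Nat.card ↥(commutator (Matrix.SpecialLinearGroup (Fin 2) F)) = 3 := by
  have e := slEquiv (ZMod.ringEquivOfPrime F Nat.prime_two hF)
  rw [← commutator_equiv e, card_map_of_injective e.injective, card_commutator_sl22]

theorem card_commutator_three (hF : Fintype.card F = 3) :
    Nat.card ↥(commutator (Matrix.SpecialLinearGroup (Fin 2) F)) = 8 := by
  have e := slEquiv (ZMod.ringEquivOfPrime F Nat.prime_three hF)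
  rw [← commutator_equiv e, card_map_of_injective e.injective]
  exact S2427.result.2.2.1

theorem noncomm_three (hF : Fintype.card F = 3) :
    ∃ a b : ↥(commutator (Matrix.SpecialLinearGroup (Fin 2) F)), a * b ≠ b * a := by
  have e := slEquiv (ZMod.ringEquivOfPrime F Nat.prime_three hF)
  obtain ⟨a, b, ha, hb, hab⟩ := sl23_noncomm
  refine ⟨⟨e a, commutator_equiv e ▸ mem_map_of_mem e.toMonoidHom ha⟩,
    ⟨e b, commutator_equiv e ▸ mem_map_of_mem e.toMonoidHom hb⟩, fun h => hab (e.injective ?_)⟩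
  rw [map_mul, map_mul]
  exact congrArg Subtype.val h

/-- An element `g ≠ 1` of the quaternion group in `SL₂(3)`: `g` or `g²` is `-1`. -/
theorem mulVec_three (hF : Fintype.card F = 3) (g : Matrix.SpecialLinearGroup (Fin 2) F)
    (hg : g ∈ commutator (Matrix.SpecialLinearGroup (Fin 2) F)) (h1 : g ≠ 1) :
    (∀ v, (g : Matrix (Fin 2) (Fin 2) F).mulVec v = -v) ∨
      ∀ v, ((g * g : Matrix.SpecialLinearGroup (Fin 2) F) : Matrix (Fin 2) (Fin 2) F).mulVec v = -v := by
  have h8 : g ^ 8 = 1 := by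
    have := pow_card_eq_one' (G := ↥(commutator (Matrix.SpecialLinearGroup (Fin 2) F))) (x := ⟨g, hg⟩)
    rw [card_commutator_three hF] at this
    exact congrArg Subtype.val this
  let σ : F ≃+* ZMod 3 := (ZMod.ringEquivOfPrime F Nat.prime_three hF).symm
  let e := slEquiv σ
  have h8' : e g * e g * (e g * e g) * (e g * e g * (e g * e g)) = 1 := by
    rw [← map_mul, ← map_mul, ← map_mul, ← map_one e]
    congr 1
    rw [← h8]
    simp only [pow_succ, pow_zero, one_mul, mul_assoc]
  have key : ∀ x : Matrix.SpecialLinearGroup (Fin 2) F, (e x).1 = -1 →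
      ∀ v, (x : Matrix (Fin 2) (Fin 2) F).mulVec v = -v := by
    intro x hx v
    have hx' : (x : Matrix (Fin 2) (Fin 2) F) = -1 := by
      ext i j
      apply σ.injective
      have := congrFun (congrFun hx i) j
      rw [slEquiv_coe] at this
      rw [this]
      fin_cases i <;> fin_cases j <;> simp
    rw [hx', Matrix.neg_mulVec, Matrix.one_mulVec]
  rcases sl23_square (e g) h8' (fun h => h1 (e.injective (h.trans (map_one e).symm))) with h | h
  · exact Or.inl (key g h)
  · rw [← map_mul] at h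
    exact Or.inr (key _ h)

end models

/-! ### Blocks have these properties -/

section ofBlock

variable [Finite G] {p : ℕ} [Fact p.Prime] {T : Sylow p G} {E : Subgroup G}

theorem relIndex_section {U U₀ : Subgroup G} {V : Type*} [AddCommGroup V]
    (ψ : ↥U →* Multiplicative V) (M : Set V)
    (hM : ∀ v, v ∈ M ↔ ∃ u, Multiplicative.toAdd (ψ u) = v)
    (hker : ∀ u : ↥U, ψ u = 1 ↔ (u : G) ∈ U₀) : U₀.relIndex U = Nat.card M := by
  have h1 : U₀.subgroupOf U = ψ.ker := by ext u; exact (hker u).symm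
  rw [relIndex, h1, index_ker]
  exact Nat.card_congr
    { toFun := fun v => ⟨Multiplicative.toAdd v.1, (hM _).2 (by
        obtain ⟨u, hu⟩ := v.2
        exact ⟨u, by rw [hu]⟩)⟩
      invFun := fun v => ⟨Multiplicative.ofAdd v.1, by
        obtain ⟨u, hu⟩ := (hM _).1 v.2
        exact ⟨u, by rw [← hu]; rfl⟩⟩
      left_inv := fun v => rfl
      right_inv := fun v => rfl }

theorem relIndex_core (E : Subgroup G) :
    (Qo p E).relIndex E = Nat.card (↥E ⧸ pCore p ↥E) := by
  rw [relIndex, LocalBasics.pCoreOf_subgroupOf, index_eq_card]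

theorem commutator_le_core_iff (E : Subgroup G) :
    ⁅E, E⁆ ≤ Qo p E ↔ ∀ a b : ↥E ⧸ pCore p ↥E, a * b = b * a := by
  constructor
  · intro h a b
    induction a using QuotientGroup.induction_on with
    | _ a =>
      induction b using QuotientGroup.induction_on with
      | _ b =>
        have h1 : (QuotientGroup.mk' (pCore p ↥E)) ⁅a, b⁆ = 1 :=
          (QuotientGroup.eq_one_iff _).2 (by
            rw [← LocalBasics.pCoreOf_subgroupOf]
            exact h (commutator_mem_commutator a.2 b.2))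
        rw [map_commutatorElement] at h1
        exact commutatorElement_eq_one_iff_mul_comm.1 h1
  · intro h
    refine commutator_le.2 fun a ha b hb => ?_
    have h1 := commutatorElement_eq_one_iff_mul_comm.2
      (h (QuotientGroup.mk' _ ⟨a, ha⟩) (QuotientGroup.mk' _ ⟨b, hb⟩))
    rw [← map_commutatorElement] at h1
    exact ⟨_, (QuotientGroup.eq_one_iff _).1 h1, rfl⟩

theorem small_linear {F : Type} [Field F] [Fintype F] {n : ℕ} (hcard : Fintype.card F = p ^ n)
    (h : IsBaumannBlock p (T : Subgroup G) E)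
    (hiso : Nonempty (↥E ⧸ pCore p ↥E ≃* ↥(commutator (Matrix.SpecialLinearGroup (Fin 2) F))))
    (hW : ActsAsSL2OnSection F (commutator (Matrix.SpecialLinearGroup (Fin 2) F)) E (Wo p E) (Zo p E))
    (hQ : Qo p E = Wo p E ∨
      ActsAsSL2OnSection F (commutator (Matrix.SpecialLinearGroup (Fin 2) F)) E (Qo p E) (Wo p E))
    (h3 : Fintype.card F ≤ 3) :
    Small p E ∧ (p = 3 → ¬ ⁅E, E⁆ ≤ Qo p E) := by
  obtain ⟨i⟩ := hiso
  have hp := (Fact.out : p.Prime)
  have h1 := Fintype.one_lt_card (α := F)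
  have hn : n ≠ 0 := by rintro rfl; simp at hcard; omega
  have hpd : p ∣ Fintype.card F := hcard ▸ dvd_pow_self p hn
  have hFp : (Fintype.card F = 2 ∧ p = 2) ∨ (Fintype.card F = 3 ∧ p = 3) := by
    obtain hc | hc : Fintype.card F = 2 ∨ Fintype.card F = 3 := by omega
    · exact Or.inl ⟨hc, (Nat.prime_dvd_prime_iff_eq hp Nat.prime_two).1 (hc ▸ hpd)⟩
    · exact Or.inr ⟨hc, (Nat.prime_dvd_prime_iff_eq hp Nat.prime_three).1 (hc ▸ hpd)⟩
  have hFc : Fintype.card F = p := by rcases hFp with ⟨a, rfl⟩ | ⟨a, rfl⟩ <;> exact a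
  have hcardV : Nat.card (Set.univ : Set (Fin 2 → F)) = p ^ 2 := by
    rw [Nat.card_congr (Equiv.Set.univ _), Nat.card_eq_fintype_card, Fintype.card_fun,
      Fintype.card_fin, hFc]
  obtain ⟨hn', hz, ρ, ψ, hρ, hsur, hker, hact⟩ := hW
  have hrel : ∀ (U U₀ : Subgroup G) (χ : ↥U →* Multiplicative (Fin 2 → F)),
      Function.Surjective χ → (∀ u : ↥U, χ u = 1 ↔ (u : G) ∈ U₀) → U₀.relIndex U = p ^ 2 := by
    intro U U₀ χ hs hk
    rw [relIndex_section χ Set.univ (fun v => ⟨fun _ => by
      obtain ⟨u, hu⟩ := hs (Multiplicative.ofAdd v)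
      exact ⟨u, by rw [hu]; rfl⟩, fun _ => trivial⟩) hk, hcardV]
  have hρker : ∀ (x : ↥E), ρ x = 1 → (x : G) ∈ Qo p E := by
    intro x hx
    refine (natSection h).ker x x.2 fun w hw => ?_
    obtain ⟨u, hu, hval⟩ := hact x ⟨w, hw⟩
    rw [hx] at hval
    simp only [Matrix.SpecialLinearGroup.coe_one, Matrix.one_mulVec] at hval
    have h1' : ψ (u * (⟨w, hw⟩ : ↥(Wo p E))⁻¹) = 1 := by
      rw [map_mul, map_inv, Multiplicative.toAdd.injective hval, mul_inv_cancel]
    have h2 := (hker _).1 h1'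
    rw [commutatorElement_def]
    simpa [hu] using h2
  refine ⟨⟨?_, hrel _ _ ψ hsur hker, ?_, ?_⟩, ?_⟩
  · rw [relIndex_core, Nat.card_congr i.toEquiv]
    rcases hFp with ⟨a, rfl⟩ | ⟨a, rfl⟩
    · exact Or.inl ⟨rfl, card_commutator_two a⟩
    · exact Or.inr ⟨rfl, card_commutator_three a⟩
  · rcases hQ with hQ | ⟨-, -, ρ', ψ', -, hs', hk', -⟩
    · exact Or.inl hQ
    · exact Or.inr (hrel _ _ ψ' hs' hk')
  · intro hp3 x hx hxQ
    have hF3 : Fintype.card F = 3 := hFc.trans hp3
    have hinv : ∀ y : ↥E,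
        (∀ v, ((ρ y : Matrix.SpecialLinearGroup (Fin 2) F) : Matrix (Fin 2) (Fin 2) F).mulVec v = -v) →
        ∀ w ∈ Wo p E, (y : G) * w * (y : G)⁻¹ * w ∈ Zo p E := by
      intro y hy w hw
      obtain ⟨u, hu, hval⟩ := hact y ⟨w, hw⟩
      rw [hy] at hval
      have h1' : ψ (u * ⟨w, hw⟩) = 1 := by
        apply Multiplicative.toAdd.injective
        rw [map_mul, toAdd_mul, hval, neg_add_cancel, toAdd_one]
      have h2 := (hker _).1 h1'
      simpa [hu] using h2
    have hmem : ρ ⟨x, hx⟩ ∈ commutator (Matrix.SpecialLinearGroup (Fin 2) F) := hρ ▸ ⟨_, rfl⟩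
    rcases mulVec_three hF3 _ hmem (fun h1' => hxQ (hρker _ h1')) with hv | hv
    · exact Or.inl (hinv ⟨x, hx⟩ hv)
    · refine Or.inr ?_
      have := hinv (⟨x, hx⟩ * ⟨x, hx⟩) (by rwa [map_mul])
      simpa [pow_two] using this
  · intro hp3 hc
    rw [commutator_le_core_iff] at hc
    obtain ⟨a, b, hab⟩ := noncomm_three (F := F) (hFc.trans hp3)
    exact hab (i.symm.injective (by rw [map_mul, map_mul]; exact hc _ _))

theorem small_alt {m : ℕ} (hm : m = 1) (hp : p = 2) (h : IsBaumannBlock p (T : Subgroup G) E)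
    (hiso : Nonempty (↥E ⧸ pCore p ↥E ≃* ↥(alternatingGroup (Fin (2 * m + 1)))))
    (hW : ActsAsOddPermModuleOnSection (2 * m + 1) (alternatingGroup (Fin (2 * m + 1))) E
      (Wo p E) (Zo p E))
    (hQ : Qo p E = Wo p E) : Small p E := by
  subst hm
  obtain ⟨i⟩ := hiso
  obtain ⟨-, -, ρ, ψ, hρ, heven, hsur, hker, -⟩ := hW
  refine ⟨Or.inl ⟨hp, ?_⟩, ?_, Or.inl hQ, fun h3 => absurd (hp.symm.trans h3) (by decide)⟩
  · rw [relIndex_core, Nat.card_congr i.toEquiv, nat_card_alternatingGroup, Nat.card_fin]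
    rfl
  · rw [relIndex_section ψ {v : Fin (2 * 1 + 1) → ZMod 2 | ∑ j, v j = 0}
      (fun v => ⟨fun hv => hsur v hv, fun ⟨u, hu⟩ => hu ▸ heven u⟩) hker, hp,
      Nat.card_eq_fintype_card]
    decide

theorem quasisimple_sl {F : Type} [Field F] [Fintype F] (h4 : 4 ≤ Fintype.card F) :
    IsQuasisimple ↥(commutator (Matrix.SpecialLinearGroup (Fin 2) F)) := by
  have h4' : (2 : ℕ) = 2 → 4 ≤ Nat.card F := fun _ => by rwa [Nat.card_eq_fintype_card]
  have htop : commutator (Matrix.SpecialLinearGroup (Fin 2) F) = ⊤ :=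
    PSLSimple.commutator_SL_fin_eq_top le_rfl fun h => PSLSimple.exists_sq_ne_one (h4' h)
  refine ComponentsBasic.isQuasisimple_of_mulEquiv
    ((Subgroup.topEquiv).symm.trans (MulEquiv.subgroupCongr htop.symm)) ?_
  exact ⟨⟨htop⟩, PSLSimple.isSimpleGroup_PSL_fin' le_rfl h4'⟩

theorem quasisimple_alt {m : ℕ} (hm : 2 ≤ m) :
    IsQuasisimple ↥(alternatingGroup (Fin (2 * m + 1))) := by
  refine ComponentsBasic.isQuasisimple_of_simple
    (alternatingGroup.isSimpleGroup (by rw [Nat.card_fin]; omega)) fun hc => ?_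
  have h3 : Equiv.swap (⟨0, by omega⟩ : Fin (2 * m + 1)) ⟨1, by omega⟩ *
      Equiv.swap ⟨1, by omega⟩ ⟨2, by omega⟩ ∈ alternatingGroup (Fin (2 * m + 1)) :=
    BaumannBlockModules.three_cycle_mem (by simp [Fin.ext_iff]) (by simp [Fin.ext_iff])
  have h3' : Equiv.swap (⟨0, by omega⟩ : Fin (2 * m + 1)) ⟨2, by omega⟩ *
      Equiv.swap ⟨2, by omega⟩ ⟨3, by omega⟩ ∈ alternatingGroup (Fin (2 * m + 1)) :=
    BaumannBlockModules.three_cycle_mem (by simp [Fin.ext_iff]) (by simp [Fin.ext_iff])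
  have := congrArg (fun g : ↥(alternatingGroup (Fin (2 * m + 1))) =>
    (g : Equiv.Perm (Fin (2 * m + 1))) (⟨0, by omega⟩ : Fin (2 * m + 1)))
    (hc.is_comm.comm ⟨_, h3⟩ ⟨_, h3'⟩)
  simp [Equiv.swap_apply_def, Fin.ext_iff] at this

/-- The two types of blocks. -/
theorem block_type (h : IsBaumannBlock p (T : Subgroup G) E) :
    IsQuasisimple (↥E ⧸ pCore p ↥E) ∨ (Small p E ∧ (p = 3 → ¬ ⁅E, E⁆ ≤ Qo p E)) := by
  rcases h.2.2.2.2 with ⟨F, _, _, n, hcard, hiso, hW, hQ⟩ | ⟨hp, m, hiso, hW, hQ⟩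
  · rcases Nat.lt_or_ge (Fintype.card F) 4 with h3 | h4
    · exact Or.inr (small_linear hcard h hiso hW (hQ.imp id fun hq => hq.2.1) (by omega))
    · obtain ⟨i⟩ := hiso
      exact Or.inl (ComponentsBasic.isQuasisimple_of_mulEquiv i.symm (quasisimple_sl h4))
  · rcases Nat.lt_or_ge m 2 with hm | hm
    · have hm1 : m = 1 := by
        rcases Nat.eq_zero_or_pos m with rfl | h0
        · exfalso
          obtain ⟨i⟩ := hiso
          apply BaumannBlockStructure.not_isPGroup h
          have hone : Nat.card (↥E ⧸ pCore p ↥E) = 1 := by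
            rw [Nat.card_congr i.toEquiv]
            haveI : Subsingleton (Equiv.Perm (Fin (2 * 0 + 1))) :=
              ⟨fun a b => Equiv.ext fun x => Fin.ext (by omega)⟩
            exact Nat.card_of_subsingleton 1
          have htop : pCore p ↥E = ⊤ := Subgroup.index_eq_one.1 hone
          have hQ' : IsPGroup p ↥(pCoreOf p E) := LocalBasics.isPGroup_pCoreOf p E
          rw [pCoreOf, htop, ← MonoidHom.range_eq_map, Subgroup.range_subtype] at hQ'
          exact hQ'
        · omega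
      exact Or.inr ⟨small_alt hm1 hp h hiso hW hQ, fun h3 => absurd (hp.symm.trans h3) (by decide)⟩
    · obtain ⟨i⟩ := hiso
      exact Or.inl (ComponentsBasic.isQuasisimple_of_mulEquiv i.symm (quasisimple_alt hm))

theorem exc_of_block (hG : centralizer (pCore p G : Set G) ≤ pCore p G)
    (h : IsBaumannBlock p (T : Subgroup G) E) (hne : Qo p E ≠ Wo p E) : Exc p E := by
  rcases h.2.2.2.2 with ⟨F, _, _, n, hcard, hiso, hW, hQ⟩ | ⟨-, m, -, -, hQ⟩
  swap; · exact absurd hQ hne
  obtain ⟨hp3, ⟨hn, hz, ρ, ψ, hρ, hsur, hker, hact⟩, hcomm, -, hZ, hZcard, hquad⟩ :=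
    hQ.resolve_left hne
  have h1 := Fintype.one_lt_card (α := F)
  have hn0 : n ≠ 0 := by rintro rfl; simp at hcard; omega
  have hpF : (p : F) = 0 := by
    have h0 : ((Fintype.card F : ℕ) : F) = 0 := Nat.cast_card_eq_zero F
    rw [hcard, Nat.cast_pow] at h0
    exact eq_zero_of_pow_eq_zero h0
  have hQQ : ∀ q ∈ Qo p E, ∀ u ∈ Qo p E, ⁅q, u⁆ ∈ Wo p E := fun q hq u hu =>
    (hcomm.le (commutator_mem_commutator hq hu)).1
  refine ⟨hp3, ⟨hn, hz, fun U hZU hUQ hEU => ?_, fun e he hk => ?_⟩, hcomm, fun hb => ?_,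
    fun q hq => ?_, ?_⟩
  · -- irreducibility of `Q / W`
    let M : AddSubgroup (Fin 2 → F) :=
      { carrier := {v | ∃ u : ↥(Qo p E), (u : G) ∈ U ∧ Multiplicative.toAdd (ψ u) = v}
        zero_mem' := ⟨1, one_mem U, by simp⟩
        add_mem' := by
          rintro _ _ ⟨a, ha, rfl⟩ ⟨b, hb, rfl⟩
          exact ⟨a * b, mul_mem ha hb, by simp⟩
        neg_mem' := by
          rintro _ ⟨a, ha, rfl⟩
          exact ⟨a⁻¹, inv_mem ha, by simp⟩ }
    have hinv : ∀ g ∈ commutator (Matrix.SpecialLinearGroup (Fin 2) F), ∀ v ∈ M,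
        (g : Matrix (Fin 2) (Fin 2) F).mulVec v ∈ M := by
      rintro g hg _ ⟨u, hu, rfl⟩
      rw [← hρ] at hg
      obtain ⟨e, rfl⟩ := hg
      obtain ⟨w, hw, hval⟩ := hact e u
      exact ⟨w, by rw [hw]; exact conj_mem' (hEU e.2) hu, hval⟩
    rcases BaumannBlockModules.sl2_irreducible M hinv with hM | hM
    · refine Or.inl (le_antisymm (fun x hx => ?_) hZU)
      have hm : Multiplicative.toAdd (ψ ⟨x, hUQ hx⟩) ∈ M := ⟨_, hx, rfl⟩
      rw [hM, AddSubgroup.mem_bot] at hm
      exact (hker ⟨x, hUQ hx⟩).1 (by simpa using hm)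
    · refine Or.inr (le_antisymm hUQ fun x hx => ?_)
      have hm : Multiplicative.toAdd (ψ ⟨x, hx⟩) ∈ M := by rw [hM]; trivial
      obtain ⟨u, hu, he⟩ := hm
      have h1 : ψ (⟨x, hx⟩ * u⁻¹) = 1 := by
        rw [map_mul, map_inv, Multiplicative.toAdd.injective he, mul_inv_cancel]
      simpa using mul_mem (hZU ((hker _).1 h1)) hu
  · -- the kernel of the action on `Q / W`
    have hfix : ∀ e : ↥E, (∀ q ∈ Qo p E, ⁅(e : G), q⁆ ∈ Wo p E) → ρ e = 1 := by
      intro e he
      refine BaumannBlockModules.sl2_faithful _ fun v => ?_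
      obtain ⟨u, hu⟩ := hsur (Multiplicative.ofAdd v)
      obtain ⟨w, hw, hval⟩ := hact e u
      rw [hu, toAdd_ofAdd] at hval
      rw [← hval]
      have h1 : ψ (w * u⁻¹) = 1 := (hker _).2 (by
        have := he u u.2
        rw [commutatorElement_def] at this
        simpa [hw] using this)
      rw [map_mul, map_inv, mul_inv_eq_one] at h1
      rw [h1, hu, toAdd_ofAdd]
    have hle : pCore p ↥E ≤ ρ.ker := fun x hx =>
      MonoidHom.mem_ker.2 (hfix x fun q hq => hQQ _ ⟨x, hx, rfl⟩ q hq)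
    obtain ⟨i⟩ := hiso
    have hc : Nat.card (↥E ⧸ ρ.ker) = Nat.card (↥E ⧸ pCore p ↥E) := by
      rw [Nat.card_congr (QuotientGroup.quotientKerEquivRange ρ).toEquiv, hρ,
        Nat.card_congr i.toEquiv]
    have heq : pCore p ↥E = ρ.ker := by
      refine Subgroup.eq_of_le_of_card_ge hle (le_of_eq ?_)
      have h1 := Subgroup.card_eq_card_quotient_mul_card_subgroup ρ.ker
      have h2 := Subgroup.card_eq_card_quotient_mul_card_subgroup (pCore p ↥E)
      rw [h1, hc] at h2
      exact Nat.eq_of_mul_eq_mul_left Nat.card_pos h2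
    exact ⟨⟨e, he⟩, by rw [heq]; exact hfix ⟨e, he⟩ hk, rfl⟩
  · rw [show Zo p E = E ⊓ centralizer (E : Set G) from hZ.symm] at hb
    rw [hb, Subgroup.card_bot] at hZcard
    have := Nat.one_lt_pow hn0 (show 1 < 3 by norm_num)
    omega
  · have hψ : ψ ((⟨q, hq⟩ : ↥(Qo p E)) ^ p) = 1 := by
      apply Multiplicative.toAdd.injective
      rw [map_pow, toAdd_pow, toAdd_one]
      ext j
      simp [nsmul_eq_mul, hpF]
    exact (hker _).1 hψ
  · have hB : baumannSubgroupOf p (T : Subgroup G) ≤ normalizer (E : Set G) := block_le_normalizer h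
    have hex : ∃ b ∈ baumannSubgroupOf p (T : Subgroup G), b ∉ centralizer (Wo p E : Set G) := by
      by_contra hcon
      push Not at hcon
      apply BaumannBlockCharP.commutator_thompson_ne_bot hG h
      rw [commutator_eq_bot_iff_le_centralizer]
      intro v hv j hj
      exact (hcon j (BaumannBlockBasics.thompson_le_baumann p _ hj) v (wE_le h hv)).symm
    obtain ⟨b, hb, hbW⟩ := hex
    refine ⟨b, LocalLarge57.le_normalizer_pCoreOf_of_le_normalizer hB hb,
      le_normalizer_wE hB hb,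
      LocalBasics.le_normalizer_inf (le_normalizer_omega hB)
        (LocalBasics.le_normalizer_centralizer hB) hb, ?_, ?_⟩
    · obtain ⟨k, hk⟩ := T.isPGroup' ⟨b, BaumannBlockBasics.baumann_le p _ hb⟩
      exact ⟨k, congrArg Subtype.val hk⟩
    · have := hquad b hb hbW
      rwa [hZ] at this

theorem blk_of_block (hG : centralizer (pCore p G : Set G) ≤ pCore p G)
    (h : IsBaumannBlock p (T : Subgroup G) E) : Blk p E where
  res := h.1
  comm := h.2.2.1
  nR := BaumannBlockCharP.pCore_le_normalizer h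
  comR := BaumannBlockCharP.commutator_pCore_le h
  natW := natSection h
  cenR := BaumannBlockCharP.wE_le_centralizer h
  notP := BaumannBlockStructure.not_isPGroup h
  invn P hP hN := by
    refine BaumannBlockCharP.le_normalizer h hP (le_trans (le_inf ?_ ?_) hN) (le_trans (le_inf ?_ ?_) hN)
    · exact LocalLarge57.le_normalizer_pCoreOf_of_le_normalizer (block_le_normalizer h)
    · exact le_normalizer_wE (block_le_normalizer h)
    · exact LocalBasics.le_normalizer_pCoreOf p E
    · exact le_normalizer_wE Subgroup.le_normalizer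
  shape := or_iff_not_imp_left.2 (exc_of_block hG h)
  abel hc := by
    rcases block_type h with hq | ⟨hs, h3⟩
    · exfalso
      exact ComponentsBasic.isQuasisimple_not_commutative hq
        ⟨⟨(commutator_le_core_iff E).1 hc⟩⟩
    · rcases hs.card with ⟨hp, -⟩ | ⟨hp, -⟩
      · exact ⟨hp, hs⟩
      · exact absurd hc (h3 hp)

end ofBlock

end Cfsg.Agent.BaumannSubnormal58
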