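import Mathlib
import Cfsg.Prelude.Def_BaumannBlocks
import Cfsg.Agent.Lib.BaumannSubnormal58Data

/-!
Two blocks with `[E, F] ≤ O_p(G)` are equal or commute; facts about the smallest blocks.
-/

set_option autoImplicit false
set_option linter.style.haveILetI false

namespace Cfsg.Agent.BaumannSubnormal58

open Subgroup Cfsg
open BaumannBlockStructure (wE omega_le omega_comm omega_pow normalizer_le_omega le_normalizer_omega
  le_normalizer_wE le_normalizer_cz NatSection)
open scoped commutatorElement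

variable {G : Type*} [Group G] [Finite G] {p : ℕ} [Fact p.Prime] {E F : Subgroup G}

/-! ### Elementary facts -/

theorem qo_le (E : Subgroup G) : Qo p E ≤ E := LocalBasics.pCoreOf_le p E

theorem qo_pGroup (E : Subgroup G) : IsPGroup p ↥(Qo p E) := LocalBasics.isPGroup_pCoreOf p E

theorem wo_le (E : Subgroup G) : Wo p E ≤ Qo p E := omega_le p _

theorem wo_commute (E : Subgroup G) {w q : G} (hw : w ∈ Wo p E) (hq : q ∈ Qo p E) :
    q * w = w * q := (Offenders.omegaOne_le _ hw).2 q hq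

theorem qo_le_normalizer_wo (E : Subgroup G) : Qo p E ≤ normalizer (Wo p E : Set G) :=
  fun _ hq => normalizer_le_omega p _ (Subgroup.le_normalizer hq)

theorem wo_le_normalizer (E : Subgroup G) {K : Subgroup G} (hK : K ≤ Wo p E) :
    Qo p E ≤ normalizer (K : Set G) :=
  LocalBasics.le_normalizer_of_conj fun q hq k hk => by
    rwa [wo_commute E (hK hk) hq, mul_inv_cancel_right]

theorem inf_pCore_le (E : Subgroup G) : E ⊓ pCore p G ≤ Qo p E :=
  LocalBasics.le_pCoreOf inf_le_left
    (LocalBasics.le_normalizer_inf Subgroup.le_normalizer (LocalBasics.le_normalizer_of_normal E))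
    ((HallCore.isPGroup_pCore p G).to_le inf_le_right)

theorem le_normalizer_qo {X : Subgroup G} (h : X ≤ normalizer (E : Set G)) :
    X ≤ normalizer (Qo p E : Set G) :=
  LocalLarge57.le_normalizer_pCoreOf_of_le_normalizer h

theorem wE_le (h : Blk p E) : wE p E ≤ Wo p E :=
  (Subgroup.le_normalizer_iff_commutator_le_left).1 h.natW.norm

theorem wE_sup (h : Blk p E) : wE p E ⊔ Zo p E = Wo p E := by
  refine (h.natW.irred _ le_sup_right (sup_le (wE_le h) inf_le_left)
    (LocalBasics.le_normalizer_sup (le_normalizer_wE Subgroup.le_normalizer) le_normalizer_cz)).resolve_left ?_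
  intro he
  apply h.notP
  refine (qo_pGroup E).to_le fun e he' => h.natW.ker e he' fun w hw => ?_
  rw [← inv_mem_iff, commutatorElement_inv]
  exact he ▸ mem_sup_left (commutator_mem_commutator hw he')

theorem exists_decomp (h : Blk p E) {w : G} (hw : w ∈ Wo p E) :
    ∃ a ∈ wE p E, ∃ z ∈ Zo p E, w = a * z := by
  rw [← wE_sup h, ← SetLike.mem_coe, Subgroup.coe_mul_of_right_le_normalizer_left _ (Zo p E)
    ((inf_le_left.trans (wo_le E)).trans (wo_le_normalizer E (wE_le h)))] at hw
  obtain ⟨a, ha, z, hz, rfl⟩ := hw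
  exact ⟨a, ha, z, hz, rfl⟩

theorem mem_core_of_centralizes (h : Blk p E) {e : G} (he : e ∈ E)
    (hc : ∀ v ∈ wE p E, e * v = v * e) : e ∈ Qo p E := by
  refine h.natW.ker e he fun w hw => ?_
  obtain ⟨a, ha, z, hz, rfl⟩ := exists_decomp h hw
  have : Commute e (a * z) := (show Commute e a from hc a ha).mul_right (hz.2 e he)
  rw [commutatorElement_eq_one_iff_mul_comm.2 this]
  exact one_mem _

/-- `[W, E] = [W_E, E] = W_E`. -/
theorem wE_idem (h : Blk p E) : ⁅wE p E, E⁆ = wE p E := by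
  refine le_antisymm ((Subgroup.le_normalizer_iff_commutator_le_left).1
    (le_normalizer_wE Subgroup.le_normalizer)) (commutator_le.2 fun w hw e he => ?_)
  obtain ⟨a, ha, z, hz, rfl⟩ := exists_decomp h hw
  have : ⁅a * z, e⁆ = ⁅a, e⁆ := by
    rw [commutatorElement_def, commutatorElement_def, mul_inv_rev]
    have h1 : z * e * z⁻¹ = e := by
      rw [← hz.2 e he, mul_inv_cancel_right]
    calc a * z * e * (z⁻¹ * a⁻¹) * e⁻¹ = a * (z * e * z⁻¹) * a⁻¹ * e⁻¹ := by group
      _ = _ := by rw [h1]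
  rw [this]
  exact commutator_mem_commutator ha he

theorem eq_wE_of_ordinary (h : Blk p E) (ho : Qo p E = Wo p E) : Qo p E = wE p E := by
  have := h.comm
  rw [ho] at this ⊢
  exact this.symm

theorem commutator_qo_le (h : Blk p E) : ⁅Qo p E, Qo p E⁆ ≤ Zo p E := by
  rcases h.shape with ho | hx
  · refine commutator_le.2 fun a ha b hb => ?_
    rw [commutatorElement_eq_one_iff_mul_comm.2 (wo_commute E (ho ▸ hb) ha)]
    exact one_mem _
  · exact hx.comm.le

theorem qo_le_cent (h : Blk p E) : Qo p E ≤ cent (Qo p E) (Wo p E) :=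
  le_cent Subgroup.le_normalizer (qo_le_normalizer_wo E) ((commutator_qo_le h).trans inf_le_left)

theorem irred_qo (h : Blk p E) (X : Subgroup G) (h1 : Wo p E ≤ X) (h2 : X ≤ Qo p E)
    (h3 : E ≤ normalizer (X : Set G)) : X = Wo p E ∨ X = Qo p E := by
  rcases h.shape with ho | hx
  · exact Or.inr (le_antisymm h2 (ho.le.trans h1))
  · exact hx.natU.irred X h1 h2 h3

/-- `V = Ω₁(Z(O_p(G)))`. -/
abbrev Vo (p : ℕ) (G : Type*) [Group G] : Subgroup G := omegaOneCenter p (pCore p G)

theorem le_normalizer_vo (X : Subgroup G) : X ≤ normalizer (Vo p G : Set G) :=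
  (le_of_le_of_eq le_top (Subgroup.normalizer_eq_top (pCore p G)).symm).trans
    (normalizer_le_omega p _)

theorem wE_le_vo (hG : centralizer (pCore p G : Set G) ≤ pCore p G) (h : Blk p E) :
    wE p E ≤ Vo p G := fun _ hx =>
  Offenders.mem_omegaOne ⟨hG (h.cenR hx), h.cenR hx⟩ (omega_pow p _ (wE_le h hx))

/-- `[V, E] ≤ W_E`. -/
theorem commutator_vo_le (h : Blk p E) (hQR : Qo p E ≤ pCore p G) :
    ⁅Vo p G, E⁆ ≤ wE p E := by
  have hW : ∀ v ∈ Vo p G, ∀ e ∈ E, ⁅e, v⁆ ∈ Wo p E := by
    intro v hv e he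
    have hcv : ⁅e, v⁆ ∈ Vo p G := commutatorElement_mem (le_normalizer_vo E he) hv
    have hq : ⁅e, v⁆ ∈ Qo p E := by
      rw [← commutatorElement_inv]
      exact inv_mem (h.comR (commutator_mem_commutator (omega_le p _ hv) he))
    exact Offenders.mem_omegaOne
      ⟨hq, fun q hq' => (Offenders.omegaOne_le _ hcv).2 q (hQR hq')⟩ (omega_pow p _ hcv)
  have hle : E ≤ E ⊓ cent (Vo p G) (wE p E) := by
    refine le_of_residual h.res fun x hx hxo => ⟨hx, le_normalizer_vo E hx,
      le_normalizer_wE Subgroup.le_normalizer hx, fun v hv => ?_⟩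
    have hw := hW v hv x hx
    refine mem_of_stab hxo (le_normalizer_wE Subgroup.le_normalizer hx) ?_
      (wo_le_normalizer E (wE_le h) (wo_le E hw)) ⟨1, by rw [pow_one, omega_pow p _ hw]; exact one_mem _⟩
    rw [← commutatorElement_inv]
    exact inv_mem (commutator_mem_commutator hw hx)
  rw [commutator_comm]
  exact commutator_le_of_le_cent (hle.trans inf_le_right)

theorem normalizes_of_commutator_le (h : Blk p E) {X : Subgroup G}
    (hX : ⁅E, X⁆ ≤ pCore p G) : X ≤ normalizer (E : Set G) := by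
  intro x hx
  refine BaumannBlockBasics.mem_normalizer_of_residual h.res h.nR (HallCore.isPGroup_pCore p G)
    fun e he => ?_
  have h1 : ⁅x, e⁆ ∈ pCore p G := by
    rw [← commutatorElement_inv]
    exact inv_mem (hX (commutator_mem_commutator he hx))
  have := mul_mem (mem_sup_right (S := E) h1) (mem_sup_left (T := pCore p G) he)
  simpa [commutatorElement_def] using this

/-- A p'-element of `E P` lies in `E`. -/
theorem le_of_le_sup (hn : pCore p G ≤ normalizer (E : Set G)) (hF : pResidualOf p F = F)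
    (h : F ≤ E ⊔ pCore p G) : F ≤ E :=
  le_of_residual hF fun _ hx hxo =>
    BaumannBlockBasics.mem_of_coprime_of_sup hn (HallCore.isPGroup_pCore p G) (h hx) hxo

/-- If `F` centralises `Q / W` and `W_E` it centralises `W`. -/
theorem centralizes_wo (h : Blk p E) {f : G} (hw : ∀ v ∈ wE p E, f * v = v * f)
    (hq : ∀ q ∈ Qo p E, ⁅f, q⁆ ∈ Wo p E) {w : G} (hw' : w ∈ Wo p E) : f * w = w * f := by
  obtain ⟨a, ha, z, hz, rfl⟩ := exists_decomp h hw'
  suffices hzf : Commute f z from (show Commute f a from hw a ha).mul_right hzf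
  rcases h.shape with ho | hx
  · exact hw z (eq_wE_of_ordinary h ho ▸ wo_le E hz.1)
  · have hle : ⁅Qo p E, Qo p E⁆ ≤ centralizer ({f} : Set G) := by
      refine commutator_le.2 fun a ha b hb => mem_centralizer_singleton_iff.2 ?_
      have hca : f * a * f⁻¹ = ⁅f, a⁆ * a := by rw [commutatorElement_def]; group
      have hcb : f * b * f⁻¹ = ⁅f, b⁆ * b := by rw [commutatorElement_def]; group
      have e : f * ⁅a, b⁆ * f⁻¹ = ⁅⁅f, a⁆ * a, ⁅f, b⁆ * b⁆ := by
        rw [← hca, ← hcb]; simp only [commutatorElement_def]; group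
      have c1 : Commute a ⁅f, b⁆ := wo_commute E (hq b hb) ha
      have c2 : Commute b ⁅f, b⁆ := wo_commute E (hq b hb) hb
      have c3 : Commute a ⁅f, a⁆ := wo_commute E (hq a ha) ha
      have c4 : Commute b ⁅f, a⁆ := wo_commute E (hq a ha) hb
      have c5 : Commute ⁅f, a⁆ ⁅f, b⁆ := wo_commute E (hq b hb) (wo_le E (hq a ha))
      have hr : ⁅⁅f, a⁆ * a, ⁅f, b⁆ * b⁆ = ⁅a, b⁆ := by
        have e1 : ⁅f, a⁆ * a * (⁅f, b⁆ * b) * (⁅f, a⁆ * a)⁻¹ = ⁅f, b⁆ * (a * b * a⁻¹) := by
          have k1 : ⁅f, a⁆ * a * ⁅f, b⁆ = ⁅f, b⁆ * (⁅f, a⁆ * a) := (c5.mul_left c1).eq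
          calc _ = (⁅f, a⁆ * a * ⁅f, b⁆) * b * (a⁻¹ * ⁅f, a⁆⁻¹) := by group
            _ = ⁅f, b⁆ * (⁅f, a⁆ * (a * b * a⁻¹)) * ⁅f, a⁆⁻¹ := by rw [k1]; group
            _ = ⁅f, b⁆ * ((a * b * a⁻¹) * ⁅f, a⁆) * ⁅f, a⁆⁻¹ := by
              rw [((c3.mul_left c4).mul_left c3.inv_left).eq]
            _ = _ := by group
        rw [commutatorElement_def, commutatorElement_def a b, e1]
        calc ⁅f, b⁆ * (a * b * a⁻¹) * (⁅f, b⁆ * b)⁻¹
            = (⁅f, b⁆ * (a * b * a⁻¹ * b⁻¹)) * ⁅f, b⁆⁻¹ := by group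
          _ = (a * b * a⁻¹ * b⁻¹) * ⁅f, b⁆ * ⁅f, b⁆⁻¹ := by
            rw [(((c1.mul_left c2).mul_left c1.inv_left).mul_left c2.inv_left).eq]
          _ = _ := by group
      rw [hr, mul_inv_eq_iff_eq_mul] at e
      exact e.symm
    exact (mem_centralizer_singleton_iff.1 (hle (hx.comm.ge hz))).symm

/-! ### Two blocks commuting modulo `O_p(G)` -/

section pair

variable (hG : centralizer (pCore p G : Set G) ≤ pCore p G) (hE : Blk p E) (hF : Blk p F)
  (hFR : Qo p F ≤ pCore p G) (hER : Qo p E ≤ pCore p G)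

theorem commutator_le_qo (hnEF : F ≤ normalizer (E : Set G)) (hEF : ⁅E, F⁆ ≤ pCore p G) :
    ⁅E, F⁆ ≤ Qo p E :=
  (le_inf ((Subgroup.le_normalizer_iff_commutator_le_left).1 hnEF) hEF).trans (inf_pCore_le E)

include hG hE hF hFR in
theorem wE_cases (hnEF : F ≤ normalizer (E : Set G)) (hnFE : E ≤ normalizer (F : Set G))
    (hEF : ⁅E, F⁆ ≤ pCore p G) : ⁅wE p E, F⁆ = ⊥ ∨ wE p E ≤ wE p F := by
  set X := wE p E ⊓ wE p F with hX
  have hXW : X ≤ Wo p E := inf_le_left.trans (wE_le hE)
  have hEX : E ≤ normalizer (X : Set G) :=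
    LocalBasics.le_normalizer_inf (le_normalizer_wE Subgroup.le_normalizer) (le_normalizer_wE hnFE)
  rcases hE.natW.irred (X ⊔ Zo p E) le_sup_right (sup_le hXW inf_le_left)
    (LocalBasics.le_normalizer_sup hEX le_normalizer_cz) with hc | hc
  · left
    have hWF : ⁅F, Wo p E⁆ ≤ Zo p E := by
      refine commutator_le.2 fun f hf w hw => ?_
      obtain ⟨a, ha, z, hz, rfl⟩ := exists_decomp hE hw
      have h1 : ⁅f, a⁆ ∈ Zo p E := by
        refine hc.le (mem_sup_left (show ⁅f, a⁆ ∈ X from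
          mem_inf.2 ⟨commutatorElement_mem (le_normalizer_wE hnEF hf) ha, ?_⟩))
        rw [← commutatorElement_inv]
        exact (wE p F).inv_mem (commutator_vo_le hF hFR (commutator_mem_commutator (wE_le_vo hG hE ha) hf))
      have hnZ : F ≤ normalizer (Zo p E : Set G) := LocalBasics.le_normalizer_inf
        (le_normalizer_omega hnEF) (LocalBasics.le_normalizer_centralizer hnEF)
      have h2 : ⁅f, z⁆ ∈ Zo p E := commutatorElement_mem (hnZ hf) hz
      have e : ⁅f, a * z⁆ = ⁅f, a⁆ * (a * ⁅f, z⁆ * a⁻¹) := by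
        simp only [commutatorElement_def]; group
      rw [e, ← omega_comm p _ h2.1 (wE_le hE ha), mul_inv_cancel_right]
      exact mul_mem h1 h2
    refine commutator_commutator_eq_bot_of_rotate (H₁ := Wo p E) (H₂ := E) (H₃ := F) ?_ ?_
    · rw [eq_bot_iff]
      refine (commutator_mono (commutator_le_qo hnEF hEF) le_rfl).trans ?_
      rw [le_bot_iff, commutator_comm, commutator_eq_bot_iff_le_centralizer]
      exact fun w hw q hq => wo_commute E hw hq
    · rw [eq_bot_iff]
      refine (commutator_mono hWF le_rfl).trans ?_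
      rw [le_bot_iff, commutator_eq_bot_iff_le_centralizer]
      exact inf_le_right
  · right
    have hle : wE p E ≤ X := by
      refine commutator_le.2 fun w hw e he => ?_
      have hw' : w ∈ X ⊔ Zo p E := hc.ge hw
      rw [← SetLike.mem_coe, Subgroup.coe_mul_of_right_le_normalizer_left _ (Zo p E)
        ((inf_le_left.trans (wo_le E)).trans (wo_le_normalizer E hXW))] at hw'
      obtain ⟨a, ha, z, hz, rfl⟩ := hw'
      have h1 : z * e * z⁻¹ = e := by rw [← hz.2 e he, mul_inv_cancel_right]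
      have : ⁅a * z, e⁆ = ⁅a, e⁆ := by
        rw [commutatorElement_def, commutatorElement_def, mul_inv_rev]
        calc a * z * e * (z⁻¹ * a⁻¹) * e⁻¹ = a * (z * e * z⁻¹) * a⁻¹ * e⁻¹ := by group
          _ = _ := by rw [h1]
      rw [this, ← commutatorElement_inv]
      exact inv_mem (commutatorElement_mem (hEX he) ha)
    exact hle.trans inf_le_right

include hE hF hER in
theorem commute_of_centralizes (hnEF : F ≤ normalizer (E : Set G))
    (hnFE : E ≤ normalizer (F : Set G)) (hEF : ⁅E, F⁆ ≤ pCore p G)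
    (h1 : ⁅wE p E, F⁆ = ⊥) : ⁅E, F⁆ = ⊥ := by
  have hFQ : F ≤ normalizer (Qo p E : Set G) := le_normalizer_qo hnEF
  have hEQF : E ≤ normalizer (Qo p F : Set G) := le_normalizer_qo hnFE
  set X := Qo p E ⊓ Qo p F with hX
  have hU : E ≤ normalizer ((X ⊔ Wo p E : Subgroup G) : Set G) :=
    LocalBasics.le_normalizer_sup
      (LocalBasics.le_normalizer_inf (LocalBasics.le_normalizer_pCoreOf p E) hEQF) hE.natW.norm
  have hcX : ∀ f ∈ F, ∀ q ∈ Qo p E, ⁅f, q⁆ ∈ X := fun f hf q hq =>
    mem_inf.2 ⟨commutatorElement_mem (hFQ hf) hq, by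
      rw [← commutatorElement_inv]
      exact (Qo p F).inv_mem (hF.comR (commutator_mem_commutator (hER hq) hf))⟩
  have hwc : ∀ f ∈ F, ∀ v ∈ wE p E, f * v = v * f := fun f hf v hv =>
    ((commutator_eq_bot_iff_le_centralizer.1 h1) hv f hf)
  by_cases hXW : X ≤ Wo p E
  · have hFQc : F ≤ centralizer (Qo p E : Set G) := by
      refine le_of_residual hF.res fun x hx hxo q hq => ?_
      have hw : ⁅x, q⁆ ∈ Wo p E := hXW (hcX x hx q hq)
      have := eq_one_of_stab hxo
        (centralizes_wo hE (hwc x hx) (fun q' hq' => hXW (hcX x hx q' hq')) hw)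
        ⟨1, by rw [pow_one]; exact omega_pow p _ hw⟩
      exact (commutatorElement_eq_one_iff_mul_comm.1 this).symm
    rw [commutator_eq_bot_iff_le_centralizer]
    intro e he f hf
    have hle : F ≤ centralizer ({e} : Set G) := by
      refine le_of_residual hF.res fun x hx hxo => mem_centralizer_singleton_iff.2 ?_
      have hq : ⁅x, e⁆ ∈ Qo p E := by
        rw [← commutatorElement_inv]
        exact inv_mem (commutator_le_qo hnEF hEF (commutator_mem_commutator he hx))
      obtain ⟨k, hk⟩ := qo_pGroup E ⟨_, hq⟩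
      exact commutatorElement_eq_one_iff_mul_comm.1
        (eq_one_of_stab hxo ((hFQc hx _ hq).symm) ⟨k, congrArg Subtype.val hk⟩)
    exact mem_centralizer_singleton_iff.1 (hle hf)
  · -- `Q = X W`, both blocks exceptional with commuting natural actions
    exfalso
    have hne : Qo p E ≠ Wo p E := fun e => hXW (inf_le_left.trans e.le)
    have hxE := hE.shape.resolve_left hne
    have hc : X ⊔ Wo p E = Qo p E :=
      (irred_qo hE _ le_sup_right (sup_le inf_le_left (wo_le E)) hU).resolve_left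
        fun e => hXW (le_sup_left.trans e.le)
    have hnab : ¬ ∀ x ∈ X, ∀ y ∈ X, x * y = y * x := by
      intro hab
      apply hxE.zne
      rw [← hxE.comm, eq_bot_iff, commutator_le]
      intro a ha b hb
      have hdec : ∀ q ∈ Qo p E, ∃ x ∈ X, ∃ w ∈ Wo p E, q = x * w := by
        intro q hq
        have := hc.ge hq
        rw [← SetLike.mem_coe, Subgroup.coe_mul_of_left_le_normalizer_right X _
          (inf_le_left.trans (qo_le_normalizer_wo E))] at this
        obtain ⟨x, hx, w, hw, rfl⟩ := this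
        exact ⟨x, hx, w, hw, rfl⟩
      obtain ⟨x, hx', w, hw, rfl⟩ := hdec a ha
      obtain ⟨y, hy, v, hv, rfl⟩ := hdec b hb
      rw [mem_bot, commutatorElement_eq_one_iff_mul_comm]
      have c1 : Commute x y := hab x hx' y hy
      have c2 : Commute x v := wo_commute E hv hx'.1
      have c3 : Commute y w := wo_commute E hw hy.1
      have c4 : Commute w v := wo_commute E hv (wo_le E hw)
      exact ((c1.mul_right c2).mul_left (c3.symm.mul_right c4))
    have habW : ∀ (K : Subgroup G), X ≤ Wo p K → ∀ x ∈ X, ∀ y ∈ X, x * y = y * x :=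
      fun K hK x hx y hy => omega_comm p _ (hK hx) (hK hy)
    have hneF : Qo p F ≠ Wo p F := fun e => hnab (habW F (inf_le_right.trans e.le))
    have hFX : F ≤ normalizer (X : Set G) :=
      LocalBasics.le_normalizer_inf hFQ (LocalBasics.le_normalizer_pCoreOf p F)
    have hcF : X ⊔ Wo p F = Qo p F :=
      (irred_qo hF _ le_sup_right (sup_le inf_le_right (wo_le F))
        (LocalBasics.le_normalizer_sup hFX hF.natW.norm)).resolve_left
          fun e => hnab (habW F (le_sup_left.trans e.le))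
    have hXW' : X ⊓ Wo p E ≤ Wo p F := by
      rintro x ⟨hxX, hxW⟩
      refine Offenders.mem_omegaOne ⟨hxX.2, ?_⟩ (omega_pow p _ hxW)
      show x ∈ centralizer (Qo p F : Set G)
      rw [← hcF]
      intro y hy
      have hy' : y ∈ X ⊔ Wo p F := hy
      rw [← SetLike.mem_coe, Subgroup.coe_mul_of_left_le_normalizer_right X _
        (inf_le_right.trans (qo_le_normalizer_wo F))] at hy'
      obtain ⟨u, hu, v, hv, rfl⟩ := hy'
      exact ((show Commute u x from wo_commute E hxW hu.1).mul_left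
        (wo_commute F hv hxX.2).symm)
    have hker : ⁅F, F⁆ ≤ Qo p F := by
      refine commutator_le.2 fun a ha b hb => ?_
      have hmem : ∀ g ∈ F, ∀ e ∈ E, ⁅g, e⁆ ∈ cent (Qo p E) (Wo p E) := fun g hg e he =>
        qo_le_cent hE (by
          rw [← commutatorElement_inv]
          exact inv_mem (commutator_le_qo hnEF hEF (commutator_mem_commutator he hg)))
      have hFW : F ≤ normalizer (Wo p E : Set G) := le_normalizer_omega hnEF
      have hcc := commutator_mem_cent (wo_le E) (qo_le_normalizer_wo E)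
        ((commutator_qo_le hE).trans inf_le_left) (LocalBasics.le_normalizer_pCoreOf p E)
        hE.natW.norm hxE.natU.irred (hFQ ha) (hFW ha) (hFQ hb) (hFW hb) (hmem a ha) (hmem b hb)
      set c := ⁅a, b⁆ with hcdef
      have hcF' : c ∈ F := by
        rw [hcdef, commutatorElement_def]
        exact mul_mem (mul_mem (mul_mem ha hb) (inv_mem ha)) (inv_mem hb)
      refine (hF.shape.resolve_left hneF).natU.ker c hcF' fun y hy => ?_
      have hy' := hcF.ge hy
      rw [← SetLike.mem_coe, Subgroup.coe_mul_of_left_le_normalizer_right X _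
        (inf_le_right.trans (qo_le_normalizer_wo F))] at hy'
      obtain ⟨x, hx, v, hv, rfl⟩ := hy'
      have h1' : ⁅c, x⁆ ∈ Wo p F := hXW' ⟨commutatorElement_mem (hFX hcF') hx, hcc.2.2 x hx.1⟩
      have h2' : ⁅c, v⁆ ∈ Wo p F := commutatorElement_mem (hF.natW.norm hcF') hv
      have e : ⁅c, x * v⁆ = ⁅c, x⁆ * (x * ⁅c, v⁆ * x⁻¹) := by
        simp only [commutatorElement_def]; group
      rw [e, wo_commute F h2' hx.2, mul_inv_cancel_right]
      exact mul_mem h1' h2'
    have := (hF.abel hker).1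
    have := hxE.three
    omega

end pair

/-! ### The smallest blocks -/

/-- `g` inverts the section `M / N`. -/
def Inverts (M N : Subgroup G) (g : G) : Prop := ∀ w ∈ M, g * w * g⁻¹ * w ∈ N

theorem inverts_inv {M N : Subgroup G} (hN : M ≤ normalizer (N : Set G)) {g : G}
    (hgM : g ∈ normalizer (M : Set G)) (h : Inverts M N g) : Inverts M N g⁻¹ := by
  intro w hw
  have h1 : g⁻¹ * w * g ∈ M := by simpa using conj_mem' (inv_mem hgM) hw
  have h2 := h _ h1
  have h3 := conj_mem' (hN h1) h2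
  convert h3 using 1
  group

theorem inverts_conj {M N : Subgroup G} {g e : G} (heM : e ∈ normalizer (M : Set G))
    (heN : e ∈ normalizer (N : Set G)) (h : Inverts M N g) : Inverts M N (e * g * e⁻¹) := by
  intro w hw
  have h1 : e⁻¹ * w * e ∈ M := by simpa using conj_mem' (inv_mem heM) hw
  have h2 := conj_mem' heN (h _ h1)
  convert h2 using 1
  group

theorem inverts_mul {M N : Subgroup G} (hMN : M ≤ normalizer (N : Set G)) (hab : ⁅M, M⁆ ≤ N)
    {a b : G} (haM : a ∈ normalizer (M : Set G)) (haN : a ∈ normalizer (N : Set G))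
    (hbM : b ∈ normalizer (M : Set G)) (hbN : b ∈ normalizer (N : Set G))
    (ha : Inverts M N a) (hb : Inverts M N b) : a * b ∈ cent M N := by
  refine ⟨mul_mem haM hbM, mul_mem haN hbN, fun w hw => ?_⟩
  set y := b * w * b⁻¹ with hy
  have hyM : y ∈ M := conj_mem' hbM hw
  have hA : a * y * a⁻¹ ∈ M := conj_mem' haM hyM
  have h1 : a * y * a⁻¹ * y ∈ N := ha y hyM
  have h2 : y * w ∈ N := hb w hw
  have h4 : a * y * a⁻¹ * w⁻¹ = (a * y * a⁻¹ * y) * (w * (y * w)⁻¹ * w⁻¹) := by group
  have e : ⁅a * b, w⁆ = a * y * a⁻¹ * w⁻¹ := by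
    rw [hy, commutatorElement_def]; group
  rw [e, h4]
  exact mul_mem h1 (conj_mem' (hMN hw) (inv_mem h2))

theorem coprime_pow {x : G} (hx : (orderOf x).Coprime p) (k : ℕ) :
    (orderOf (x ^ k)).Coprime p :=
  hx.coprime_dvd_left (orderOf_pow_dvd k)

theorem exists_coprime_notMem (h : Blk p E) :
    ∃ x ∈ E, x ∉ Qo p E ∧ (orderOf x).Coprime p := by
  by_contra hcon
  push Not at hcon
  exact h.notP ((qo_pGroup E).to_le (le_of_residual h.res fun x hx hxo => by
    by_contra hxQ; exact hcon x hx hxQ hxo))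

section small

variable (h : Blk p E) (hS : Small p E)

include h in
/-- If `z` is central modulo `Q` and not in `Q` it fixes no nontrivial element of `W / Z`. -/
theorem central_fixed {z : G} (hz : z ∈ E) (hzQ : z ∉ Qo p E)
    (hc : ∀ e ∈ E, ⁅e, z⁆ ∈ Qo p E) {w : G} (hw : w ∈ Wo p E) (hzw : ⁅z, w⁆ ∈ Zo p E) :
    w ∈ Zo p E := by
  have hzW := h.natW.norm hz
  have hzZ : z ∈ normalizer (Zo p E : Set G) := le_normalizer_cz hz
  let S : Subgroup G :=
    { carrier := {w | w ∈ Wo p E ∧ ⁅z, w⁆ ∈ Zo p E}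
      one_mem' := ⟨one_mem _, by simp [one_mem]⟩
      mul_mem' := fun {x y} hx hy => ⟨mul_mem hx.1 hy.1, by
        have e : ⁅z, x * y⁆ = ⁅z, x⁆ * (x * ⁅z, y⁆ * x⁻¹) := by
          simp only [commutatorElement_def]; group
        rw [e, ← omega_comm p _ hy.2.1 hx.1, mul_inv_cancel_right]
        exact mul_mem hx.2 hy.2⟩
      inv_mem' := fun {x} hx => ⟨inv_mem hx.1, by
        have e : ⁅z, x⁻¹⁆ = x⁻¹ * ⁅z, x⁆⁻¹ * x := by
          simp only [commutatorElement_def]; group
        rw [e, ← omega_comm p _ (inv_mem hx.2.1) (inv_mem hx.1), inv_mul_cancel_right]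
        exact inv_mem hx.2⟩ }
  have hZS : Zo p E ≤ S := fun y hy => ⟨hy.1, commutatorElement_mem hzZ hy⟩
  have hES : E ≤ normalizer (S : Set G) := by
    refine LocalBasics.le_normalizer_of_conj fun e he y hy => ⟨conj_mem' (h.natW.norm he) hy.1, ?_⟩
    have hq : ⁅e⁻¹, z⁆ ∈ Qo p E := hc _ (inv_mem he)
    have hfix : ⁅e⁻¹, z⁆ * ⁅z, y⁆ * ⁅e⁻¹, z⁆⁻¹ = ⁅z, y⁆ := by
      rw [wo_commute E hy.2.1 hq, mul_inv_cancel_right]
    have hfix2 : ⁅⁅e⁻¹, z⁆, y⁆ = 1 :=
      commutatorElement_eq_one_iff_mul_comm.2 (wo_commute E hy.1 hq)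
    have e1 : ⁅z, e * y * e⁻¹⁆ = e * (⁅e⁻¹, z⁆ * ⁅z, y⁆ * ⁅e⁻¹, z⁆⁻¹ * ⁅⁅e⁻¹, z⁆, y⁆) * e⁻¹ := by
      simp only [commutatorElement_def]; group
    rw [e1, hfix, hfix2, mul_one]
    exact conj_mem' (le_normalizer_cz he) hy.2
  rcases h.natW.irred S hZS (fun y hy => hy.1) hES with hc' | hc'
  · exact hc'.le ⟨hw, hzw⟩
  · exact absurd (h.natW.ker z hz fun y hy => (hc'.ge hy).2) hzQ

include h hS in
/-- A p'-element central modulo `Q`; for `p = 3` it inverts `W / Z`. -/
theorem exists_central : ∃ z ∈ E, z ∉ Qo p E ∧ (orderOf z).Coprime p ∧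
    ∀ e ∈ E, ⁅e, z⁆ ∈ Qo p E := by
  obtain ⟨x, hx, hxQ, hxo⟩ := exists_coprime_notMem h
  rcases hS.card with ⟨-, hc⟩ | ⟨hp, -⟩
  · refine ⟨x, hx, hxQ, hxo, fun e he => ?_⟩
    haveI : Fact (Nat.Prime 3) := ⟨Nat.prime_three⟩
    have hcard : Nat.card (↥E ⧸ pCore p ↥E) = 3 := by rw [← relIndex_core]; exact hc
    haveI := isCyclic_of_prime_card (p := 3) hcard
    letI := IsCyclic.commGroup (α := ↥E ⧸ pCore p ↥E)
    exact (commutator_le_core_iff E).2 (fun a b => mul_comm a b) (commutator_mem_commutator he hx)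
  · have hmk : ∀ z ∈ E, Inverts (Wo p E) (Zo p E) z →
        z ∉ Qo p E ∧ ∀ e ∈ E, ⁅e, z⁆ ∈ Qo p E := by
      intro z hz hi
      have hWZ : Wo p E ≤ normalizer (Zo p E : Set G) :=
        (wo_le E).trans (wo_le_normalizer E inf_le_left)
      have hab : ⁅Wo p E, Wo p E⁆ ≤ Zo p E := commutator_le.2 fun a ha b hb => by
        rw [commutatorElement_eq_one_iff_mul_comm.2 (omega_comm p _ ha hb)]; exact one_mem _
      refine ⟨fun hzQ => hxQ (h.natW.ker x hx fun w hw => ?_), fun e he => ?_⟩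
      · have h2 := hi w hw
        rw [wo_commute E hw hzQ, mul_inv_cancel_right] at h2
        have h3 : w = w ^ p * ((w * w))⁻¹ := by rw [hp]; group
        rw [h3, omega_pow p _ hw, one_mul]
        exact commutatorElement_mem (le_normalizer_cz hx) (inv_mem h2)
      · have he' : e * z * e⁻¹ ∈ E := mul_mem (mul_mem he hz) (inv_mem he)
        have := inverts_mul hWZ hab (h.natW.norm he') (le_normalizer_cz he')
          (inv_mem (h.natW.norm hz)) (inv_mem (le_normalizer_cz hz))
          (inverts_conj (h.natW.norm he) (le_normalizer_cz he) hi)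
          (inverts_inv hWZ (h.natW.norm hz) hi)
        rw [commutatorElement_def]
        exact h.natW.ker _ (mul_mem he' (inv_mem hz)) this.2.2
    rcases hS.inv hp x hx hxQ with hi | hi
    · exact ⟨x, hx, hxQ, hxo, (hmk x hx hi).2⟩
    · exact ⟨x ^ 2, pow_mem hx 2, (hmk _ (pow_mem hx 2) hi).1, coprime_pow hxo 2,
        (hmk _ (pow_mem hx 2) hi).2⟩

include h hS in
/-- `W_E ∩ Z = 1`. -/
theorem wE_inf_zo : wE p E ⊓ Zo p E = ⊥ := by
  obtain ⟨z, hz, hzQ, hzo, hc⟩ := exists_central h hS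
  let I : Subgroup G :=
    { carrier := {a | ∃ w ∈ Wo p E, ⁅z, w⁆ = a}
      one_mem' := ⟨1, one_mem _, by simp⟩
      mul_mem' := by
        rintro _ _ ⟨u, hu, rfl⟩ ⟨v, hv, rfl⟩
        refine ⟨u * v, mul_mem hu hv, ?_⟩
        have e : ⁅z, u * v⁆ = ⁅z, u⁆ * (u * ⁅z, v⁆ * u⁻¹) := by
          simp only [commutatorElement_def]; group
        rw [e, ← omega_comm p _ (commutatorElement_mem (h.natW.norm hz) hv) hu, mul_inv_cancel_right]
      inv_mem' := by
        rintro _ ⟨u, hu, rfl⟩
        refine ⟨u⁻¹, inv_mem hu, ?_⟩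
        have e : ⁅z, u⁻¹⁆ = u⁻¹ * ⁅z, u⁆⁻¹ * u := by
          simp only [commutatorElement_def]; group
        rw [e, ← omega_comm p _ (inv_mem (commutatorElement_mem (h.natW.norm hz) hu)) (inv_mem hu),
          inv_mul_cancel_right] }
  have hIW : I ≤ Wo p E := by
    rintro _ ⟨u, hu, rfl⟩; exact commutatorElement_mem (h.natW.norm hz) hu
  have hEI : E ≤ normalizer (I : Set G) := by
    refine LocalBasics.le_normalizer_of_conj ?_
    rintro e he _ ⟨w, hw, rfl⟩
    refine ⟨e * w * e⁻¹, conj_mem' (h.natW.norm he) hw, ?_⟩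
    have hew : e * w * e⁻¹ ∈ Wo p E := conj_mem' (h.natW.norm he) hw
    have h1 : z * (e * w * e⁻¹) * z⁻¹ ∈ Wo p E := conj_mem' (h.natW.norm hz) hew
    have hq : ⁅e, z⁆ ∈ Qo p E := hc e he
    have e1 : e * ⁅z, w⁆ * e⁻¹ =
        ⁅e, z⁆ * (z * (e * w * e⁻¹) * z⁻¹) * ⁅e, z⁆⁻¹ * (e * w * e⁻¹)⁻¹ := by
      simp only [commutatorElement_def]; group
    rw [e1, wo_commute E h1 hq, mul_inv_cancel_right, commutatorElement_def]
  have hJ : I ⊔ Zo p E = Wo p E :=
    (h.natW.irred _ le_sup_right (sup_le hIW inf_le_left)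
      (LocalBasics.le_normalizer_sup hEI le_normalizer_cz)).resolve_left fun he =>
        hzQ (h.natW.ker z hz fun w hw => he.le (mem_sup_left ⟨w, hw, rfl⟩))
  have hle : wE p E ≤ I := by
    refine commutator_le.2 fun w hw e he => ?_
    have hw' := hJ.ge hw
    rw [← SetLike.mem_coe, Subgroup.coe_mul_of_right_le_normalizer_left _ (Zo p E)
      ((inf_le_left.trans (wo_le E)).trans (wo_le_normalizer E hIW))] at hw'
    obtain ⟨a, ha, y, hy, rfl⟩ := hw'
    have h1 : y * e * y⁻¹ = e := by rw [← hy.2 e he, mul_inv_cancel_right]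
    have : ⁅a * y, e⁆ = ⁅a, e⁆ := by
      rw [commutatorElement_def, commutatorElement_def, mul_inv_rev]
      calc a * y * e * (y⁻¹ * a⁻¹) * e⁻¹ = a * (y * e * y⁻¹) * a⁻¹ * e⁻¹ := by group
        _ = _ := by rw [h1]
    rw [this, ← commutatorElement_inv]
    exact inv_mem (commutatorElement_mem (hEI he) ha)
  rw [eq_bot_iff]
  intro a ha
  obtain ⟨w, hw, rfl⟩ := hle ha.1
  exact mem_bot.2 (eq_one_of_stab hzo (ha.2.2 z hz)
    ⟨1, by rw [pow_one]; exact omega_pow p _ ha.2.1⟩)

include h hS in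
/-- An element of `E` outside `Q` fixes no nontrivial element of `W_E`. -/
theorem fpf {x : G} (hx : x ∈ E) (hxQ : x ∉ Qo p E) {w : G} (hw : w ∈ wE p E)
    (hc : x * w = w * x) : w = 1 := by
  have hwW := wE_le h hw
  suffices hZ : w ∈ Zo p E by
    have hmem : w ∈ wE p E ⊓ Zo p E := mem_inf.2 ⟨hw, hZ⟩
    rwa [wE_inf_zo h hS, mem_bot] at hmem
  rcases hS.card with ⟨-, hc3⟩ | ⟨hp, -⟩
  · refine central_fixed h hx hxQ (fun e he => ?_) hwW ?_
    · haveI : Fact (Nat.Prime 3) := ⟨Nat.prime_three⟩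
      have hcard : Nat.card (↥E ⧸ pCore p ↥E) = 3 := by rw [← relIndex_core]; exact hc3
      haveI := isCyclic_of_prime_card (p := 3) hcard
      letI := IsCyclic.commGroup (α := ↥E ⧸ pCore p ↥E)
      exact (commutator_le_core_iff E).2 (fun a b => mul_comm a b) (commutator_mem_commutator he hx)
    · rw [commutatorElement_eq_one_iff_mul_comm.2 hc]; exact one_mem _
  · have h3 : w = w ^ p * (w * w)⁻¹ * 1 := by rw [hp]; group
    have key : w * w ∈ Zo p E := by
      rcases hS.inv hp x hx hxQ with hi | hi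
      · have := hi w hwW
        rwa [hc, mul_inv_cancel_right] at this
      · have hc2 : x ^ 2 * w = w * x ^ 2 := ((show Commute x w from hc).pow_left 2).eq
        have := hi w hwW
        rwa [hc2, mul_inv_cancel_right] at this
    rw [h3, omega_pow p _ hwW, one_mul, mul_one]
    exact inv_mem key

include h hS in
theorem sub_irred {X : Subgroup G} (hX : X ≤ wE p E) (hEX : E ≤ normalizer (X : Set G))
    (hne : X ≠ ⊥) : wE p E ≤ X := by
  rcases h.natW.irred (X ⊔ Zo p E) le_sup_right (sup_le (hX.trans (wE_le h)) inf_le_left)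
    (LocalBasics.le_normalizer_sup hEX le_normalizer_cz) with hc | hc
  · exact absurd (eq_bot_iff.2 ((le_inf hX (le_sup_left.trans hc.le)).trans (wE_inf_zo h hS).le)) hne
  · refine commutator_le.2 fun w hw e he => ?_
    have hw' := hc.ge hw
    rw [← SetLike.mem_coe, Subgroup.coe_mul_of_right_le_normalizer_left _ (Zo p E)
      ((inf_le_left.trans (wo_le E)).trans (wo_le_normalizer E (hX.trans (wE_le h))))] at hw'
    obtain ⟨a, ha, y, hy, rfl⟩ := hw'
    have h1 : y * e * y⁻¹ = e := by rw [← hy.2 e he, mul_inv_cancel_right]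
    have : ⁅a * y, e⁆ = ⁅a, e⁆ := by
      rw [commutatorElement_def, commutatorElement_def, mul_inv_rev]
      calc a * y * e * (y⁻¹ * a⁻¹) * e⁻¹ = a * (y * e * y⁻¹) * a⁻¹ * e⁻¹ := by group
        _ = _ := by rw [h1]
    rw [this, ← commutatorElement_inv]
    exact inv_mem (commutatorElement_mem (hEX he) ha)

include h hS in
theorem card_wE : Nat.card ↥(wE p E) = p ^ 2 := by
  rw [← hS.sec, relIndex, index_eq_card]
  let f : ↥(wE p E) → ↥(Wo p E) ⧸ (Zo p E).subgroupOf (Wo p E) :=
    fun a => QuotientGroup.mk ⟨a, wE_le h a.2⟩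
  refine Nat.card_congr (Equiv.ofBijective f ⟨fun a b hab => ?_, fun x => ?_⟩)
  · have h1 := QuotientGroup.eq.1 hab
    rw [mem_subgroupOf] at h1
    have h2 : (a : G)⁻¹ * b ∈ wE p E ⊓ Zo p E :=
      mem_inf.2 ⟨(wE p E).mul_mem ((wE p E).inv_mem a.2) b.2, h1⟩
    rw [wE_inf_zo h hS, mem_bot, inv_mul_eq_one] at h2
    exact Subtype.ext h2
  · induction x using QuotientGroup.induction_on with
    | _ w =>
      obtain ⟨a, ha, y, hy, he⟩ := exists_decomp h w.2
      refine ⟨⟨a, ha⟩, QuotientGroup.eq.2 ?_⟩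
      rw [mem_subgroupOf]
      show a⁻¹ * (w : G) ∈ Zo p E
      rw [he, inv_mul_cancel_left]
      exact hy

include h hS in
theorem exists_conj_eq {u v : G} (hu : u ∈ wE p E) (hu1 : u ≠ 1) (hv : v ∈ wE p E)
    (hv1 : v ≠ 1) : ∃ e ∈ E, e * u * e⁻¹ = v := by
  classical
  let g : ↥E → {x : ↥(wE p E) // x ≠ 1} := fun e =>
    ⟨⟨e * u * (e : G)⁻¹, conj_mem' (le_normalizer_wE Subgroup.le_normalizer e.2) hu⟩,
      fun hh => hu1 (conj_eq_one_iff.1 (congrArg Subtype.val hh))⟩
  have hwell : ∀ a b : ↥E, (QuotientGroup.mk a : ↥E ⧸ pCore p ↥E) = QuotientGroup.mk b ↔ g a = g b := by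
    intro a b
    rw [QuotientGroup.eq, ← LocalBasics.pCoreOf_subgroupOf, mem_subgroupOf]
    have key : g a = g b ↔ ((a : G)⁻¹ * b) * u = u * ((a : G)⁻¹ * b) := by
      rw [Subtype.ext_iff, Subtype.ext_iff]
      show (a : G) * u * (a : G)⁻¹ = b * u * (b : G)⁻¹ ↔ _
      constructor
      · intro e
        calc (a : G)⁻¹ * b * u = (a : G)⁻¹ * (b * u * (b : G)⁻¹) * b := by group
          _ = _ := by rw [← e]; group
      · intro e
        calc (a : G) * u * (a : G)⁻¹ = a * (u * ((a : G)⁻¹ * b)) * (b : G)⁻¹ := by group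
          _ = _ := by rw [← e]; group
    rw [key]
    refine ⟨fun hq => wo_commute E (wE_le h hu) hq, fun hc => ?_⟩
    by_contra hq
    exact hu1 (fpf h hS (mul_mem (inv_mem a.2) b.2) hq hu hc)
  let g' : ↥E ⧸ pCore p ↥E → {x : ↥(wE p E) // x ≠ 1} := fun x => g x.out
  have hinj : Function.Injective g' := fun x y hxy => by
    have := (hwell x.out y.out).2 hxy
    rwa [QuotientGroup.out_eq', QuotientGroup.out_eq'] at this
  have hcard : Nat.card (↥E ⧸ pCore p ↥E) = Nat.card {x : ↥(wE p E) // x ≠ 1} := by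
    haveI := Fintype.ofFinite ↥(wE p E)
    rw [← relIndex_core, Nat.card_eq_fintype_card (α := {x : ↥(wE p E) // x ≠ 1}),
      Fintype.card_subtype_compl, Fintype.card_subtype_eq, ← Nat.card_eq_fintype_card,
      card_wE h hS]
    rcases hS.card with ⟨hp, hc⟩ | ⟨hp, hc⟩ <;> rw [hc, hp] <;> rfl
  obtain ⟨x, hx⟩ := ((Nat.bijective_iff_injective_and_card g').2 ⟨hinj, hcard⟩).2
    ⟨⟨v, hv⟩, fun e => hv1 (congrArg Subtype.val e)⟩
  exact ⟨(x.out : ↥E), (x.out : ↥E).2, congrArg (fun z => ((z.1 : ↥(wE p E)) : G)) hx⟩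

include h hS in
theorem inverts_wE {x : G} (hx : x ∈ E) (hi : Inverts (Wo p E) (Zo p E) x) {w : G}
    (hw : w ∈ wE p E) : x * w * x⁻¹ = w⁻¹ := by
  have hmem : x * w * x⁻¹ * w ∈ wE p E ⊓ Zo p E :=
    ⟨mul_mem (conj_mem' (le_normalizer_wE Subgroup.le_normalizer hx) hw) hw, hi w (wE_le h hw)⟩
  rw [wE_inf_zo h hS, mem_bot] at hmem
  exact mul_eq_one_iff_eq_inv.1 hmem

end small

/-- Two small blocks with the same `W` act on it by the same automorphisms. -/
theorem exists_same_action (hE : Blk p E) (hsE : Small p E) (hF : Blk p F) (hsF : Small p F)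
    (hWW : wE p E = wE p F) {f : G} (hf : f ∈ F) (hfo : (orderOf f).Coprime p) :
    ∃ e ∈ E, ∀ w ∈ wE p E, (e⁻¹ * f) * w = w * (e⁻¹ * f) := by
  by_cases hfQ : f ∈ Qo p F
  · refine ⟨1, one_mem _, fun w hw => ?_⟩
    rw [inv_one, one_mul]
    exact wo_commute F (wE_le hF (hWW ▸ hw)) hfQ
  have hp := (Fact.out : p.Prime)
  obtain ⟨u, hu, hu1⟩ : ∃ u ∈ wE p E, u ≠ 1 := by
    by_contra hcon
    push Not at hcon
    have hc := card_wE hE hsE
    rw [show wE p E = ⊥ from eq_bot_iff.2 (fun x hx => mem_bot.2 (hcon x hx)), Subgroup.card_bot] at hc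
    exact absurd hc.symm (Nat.one_lt_pow (by decide) hp.one_lt).ne'
  have hfN : f ∈ normalizer (wE p E : Set G) := hWW ▸ le_normalizer_wE Subgroup.le_normalizer hf
  set v := f * u * f⁻¹ with hv
  have hvU : v ∈ wE p E := conj_mem' hfN hu
  have hv1 : v ≠ 1 := fun hh => hu1 (conj_eq_one_iff.1 hh)
  have hvu : v ≠ u := fun hh =>
    hu1 (fpf hF hsF hf hfQ (hWW ▸ hu) (mul_inv_eq_iff_eq_mul.1 hh))
  obtain ⟨e, he, heu⟩ := exists_conj_eq hE hsE hu hu1 hvU hv1
  have heQ : e ∉ Qo p E := fun hh => hvu (by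
    rw [← heu, wo_commute E (wE_le hE hu) hh, mul_inv_cancel_right])
  refine ⟨e, he, ?_⟩
  by_cases hvinv : v = u⁻¹
  · -- both invert
    have hp3 : p = 3 := by
      rcases hsE.card with ⟨hp2, -⟩ | ⟨hp3, -⟩
      · exfalso
        have h2 : u * u = 1 := by
          have := omega_pow p _ (wE_le hE hu); rwa [hp2, pow_two] at this
        exact hvu (hvinv.trans (inv_eq_of_mul_eq_one_right h2))
      · exact hp3
    have key : ∀ (K : Subgroup G), Blk p K → Small p K → u ∈ wE p K → ∀ x ∈ K, x ∉ Qo p K →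
        x * u * x⁻¹ = u⁻¹ → ∀ w ∈ wE p K, x * w * x⁻¹ = w⁻¹ := by
      intro K hK hsK huK x hx hxQ hxu
      rcases hsK.inv hp3 x hx hxQ with hi | hi
      · exact fun w hw => inverts_wE hK hsK hx hi hw
      · exfalso
        have h2 := inverts_wE hK hsK (pow_mem hx 2) hi huK
        have h3 : x ^ 2 * u * (x ^ 2)⁻¹ = u := by
          calc x ^ 2 * u * (x ^ 2)⁻¹ = x * (x * u * x⁻¹) * x⁻¹ := by rw [pow_two]; group
            _ = (x * u * x⁻¹)⁻¹ := by conv_lhs => rw [hxu]
                                      group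
            _ = u := by rw [hxu, inv_inv]
        rw [h3] at h2
        have hu3 : u ^ 3 = 1 := hp3 ▸ omega_pow p _ (wE_le hE hu)
        apply hu1
        calc u = u ^ 3 * (u * u)⁻¹ := by group
          _ = 1 := by rw [hu3, one_mul, inv_eq_one]; exact mul_eq_one_iff_eq_inv.2 h2
    intro w hw
    have hF' := key F hF hsF (hWW ▸ hu) f hf hfQ (hv ▸ hvinv) w (hWW ▸ hw)
    have hE' := key E hE hsE hu e he heQ (heu.trans hvinv) w hw
    calc e⁻¹ * f * w = e⁻¹ * (f * w * f⁻¹) * f := by group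
      _ = e⁻¹ * (e * w * e⁻¹) * f := by rw [hF', hE']
      _ = w * (e⁻¹ * f) := by group
  · -- `u` and `v` generate
    have hfv : f * v * f⁻¹ = e * v * e⁻¹ := by
      rcases hsE.card with ⟨hp2, -⟩ | ⟨hp3, -⟩
      · have hthird : ∀ (K : Subgroup G), Blk p K → Small p K → wE p K = wE p E → ∀ x ∈ K,
            x ∉ Qo p K → x * u * x⁻¹ = v → x * v * x⁻¹ = u * v := by
          intro K hK hsK hKW x hx hxQ hxu
          have hxU : x ∈ normalizer (wE p E : Set G) := hKW ▸ le_normalizer_wE Subgroup.le_normalizer hx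
          have hsq : ∀ a ∈ wE p E, a * a = 1 := fun a ha => by
            have := omega_pow p _ (wE_le hE ha); rwa [hp2, pow_two] at this
          have hxv : x * v * x⁻¹ ∈ wE p E := conj_mem' hxU hvU
          have n1 : x * v * x⁻¹ ≠ 1 := fun hh => hv1 (conj_eq_one_iff.1 hh)
          have n2 : x * v * x⁻¹ ≠ v := fun hh =>
            hv1 (fpf hK hsK hx hxQ (hKW ▸ hvU) (mul_inv_eq_iff_eq_mul.1 hh))
          have n3 : x * v * x⁻¹ ≠ u := by
            intro hh
            have hfix : x ^ 2 * u = u * x ^ 2 := by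
              calc x ^ 2 * u = x * (x * u * x⁻¹) * x := by rw [pow_two]; group
                _ = (x * v * x⁻¹) * x ^ 2 := by rw [hxu, pow_two]; group
                _ = _ := by rw [hh]
            have hx2 : x ^ 2 ∈ Qo p K := by
              by_contra hx2
              exact hu1 (fpf hK hsK (pow_mem hx 2) hx2 (hKW ▸ hu) hfix)
            have hx3 : x ^ 3 ∈ Qo p K := by
              rcases hsK.card with ⟨-, hc⟩ | ⟨hp3, -⟩
              · have := pow_mem hx 3
                have h3 : (QuotientGroup.mk' (pCore p ↥K)) (⟨x, hx⟩ ^ 3) = 1 := by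
                  rw [map_pow, ← hc, relIndex_core]
                  exact pow_card_eq_one'
                exact ⟨_, (QuotientGroup.eq_one_iff _).1 h3, rfl⟩
              · omega
            apply hxQ
            have hxe : x = x ^ 3 * (x ^ 2)⁻¹ := by group
            rw [hxe]
            exact mul_mem hx3 (inv_mem hx2)
          by_contra n4
          classical
          have hsub : ({1, u, v, u * v, x * v * x⁻¹} : Finset G) ⊆
              (Set.toFinite (wE p E : Set G)).toFinset := by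
            intro a ha
            simp only [Finset.mem_insert, Finset.mem_singleton] at ha
            rw [Set.Finite.mem_toFinset]
            rcases ha with rfl | rfl | rfl | rfl | rfl
            · exact one_mem _
            · exact hu
            · exact hvU
            · exact mul_mem hu hvU
            · exact hxv
          have h5 := Finset.card_le_card hsub
          have huv : u * v ≠ 1 := fun hh => hvu (by
            rw [← mul_right_inj u, hh, hsq u hu])
          rw [Finset.card_insert_of_notMem, Finset.card_insert_of_notMem,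
            Finset.card_insert_of_notMem, Finset.card_insert_of_notMem, Finset.card_singleton,
            ← Nat.card_eq_card_finite_toFinset, show Nat.card ↥(wE p E : Set G) = 4 from by
              rw [show ((4 : ℕ)) = p ^ 2 by rw [hp2]; rfl]; exact card_wE hE hsE] at h5
          · omega
          all_goals simp only [Finset.mem_insert, Finset.mem_singleton, not_or]
          · exact fun hh => n4 hh.symm
          · exact ⟨fun hh => hu1 (mul_eq_right.1 hh.symm), fun hh => n2 hh.symm⟩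
          · exact ⟨Ne.symm hvu, fun hh => hv1 (mul_eq_left.1 hh.symm), fun hh => n3 hh.symm⟩
          · exact ⟨Ne.symm hu1, Ne.symm hv1, Ne.symm huv, Ne.symm n1⟩
        rw [hthird F hF hsF hWW.symm f hf hfQ rfl, hthird E hE hsE rfl e he heQ heu]
      · have key : ∀ (K : Subgroup G), Blk p K → Small p K → wE p K = wE p E → ∀ x ∈ K,
            x ∉ Qo p K → x * u * x⁻¹ = v → x * v * x⁻¹ = u⁻¹ := by
          intro K hK hsK hKW x hx hxQ hxu
          rcases hsK.inv hp3 x hx hxQ with hi | hi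
          · exact absurd (hxu.symm.trans (inverts_wE hK hsK hx hi (hKW ▸ hu))) hvinv
          · have huK : u ∈ wE p K := hKW.symm ▸ hu
            rw [← inverts_wE hK hsK (pow_mem hx 2) hi huK, ← hxu, pow_two]
            group
        rw [key F hF hsF hWW.symm f hf hfQ rfl, key E hE hsE rfl e he heQ heu]
    set y := e⁻¹ * f with hy
    let S : Subgroup G := wE p E ⊓ centralizer ({y} : Set G)
    have hyu : y * u * y⁻¹ = u := by
      calc y * u * y⁻¹ = e⁻¹ * (f * u * f⁻¹) * e := by rw [hy]; group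
        _ = u := by rw [← hv, ← heu]; group
    have hyv : y * v * y⁻¹ = v := by
      calc y * v * y⁻¹ = e⁻¹ * (f * v * f⁻¹) * e := by rw [hy]; group
        _ = v := by rw [hfv]; group
    have huS : u ∈ S := ⟨hu, mem_centralizer_singleton_iff.2 (mul_inv_eq_iff_eq_mul.1 hyu).symm⟩
    have hvS : v ∈ S := ⟨hvU, mem_centralizer_singleton_iff.2 (mul_inv_eq_iff_eq_mul.1 hyv).symm⟩
    have hSU : S = wE p E := by
      refine Subgroup.eq_of_le_of_card_ge inf_le_left ?_
      rw [card_wE hE hsE]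
      have hd : Nat.card ↥S ∣ p ^ 2 := card_wE hE hsE ▸ Subgroup.card_dvd_of_le inf_le_left
      obtain ⟨i, hi, hS⟩ := (Nat.dvd_prime_pow hp).1 hd
      rw [hS]
      have hzS : zpowers u ≤ S := zpowers_le.2 huS
      have hou : orderOf u = p := orderOf_eq_prime (omega_pow p _ (wE_le hE hu)) hu1
      rcases (show i = 0 ∨ i = 1 ∨ i = 2 by omega) with rfl | rfl | rfl
      · exfalso
        rw [pow_zero] at hS
        have := Subgroup.eq_bot_of_card_eq _ hS
        exact hu1 (mem_bot.1 (this ▸ huS))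
      · exfalso
        have hzeq : zpowers u = S := Subgroup.eq_of_le_of_card_ge hzS (by
          rw [hS, Nat.card_zpowers, hou, pow_one])
        have hvz : v ∈ zpowers u := hzeq ▸ hvS
        rcases hsE.card with ⟨hp2, -⟩ | ⟨hp3, -⟩
        · obtain ⟨k, hk⟩ := mem_zpowers_iff.1 hvz
          rw [← zpow_mod_orderOf, hou, hp2] at hk
          rcases Int.emod_two_eq_zero_or_one k with h0 | h0 <;>
            simp only [Nat.cast_ofNat, h0, zpow_zero, zpow_one] at hk
          · exact hv1 hk.symm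
          · exact hvu hk.symm
        · obtain ⟨k, hk⟩ := mem_zpowers_iff.1 hvz
          rw [← zpow_mod_orderOf, hou, hp3] at hk
          rcases (show k % 3 = 0 ∨ k % 3 = 1 ∨ k % 3 = 2 by omega) with h0 | h0 | h0 <;>
            simp only [Nat.cast_ofNat, h0, zpow_zero, zpow_one] at hk
          · exact hv1 hk.symm
          · exact hvu hk.symm
          · apply hvinv
            have hu3 : u ^ 3 = 1 := hp3 ▸ omega_pow p _ (wE_le hE hu)
            rw [← hk]
            exact eq_inv_of_mul_eq_one_left (by rw [show (2 : ℤ) = ((2 : ℕ) : ℤ) from rfl,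
              zpow_natCast, ← pow_succ, hu3])
      · exact le_rfl
    intro w hw
    exact (mem_centralizer_singleton_iff.1 ((hSU.ge hw).2)).symm

/-! ### The subgroup `D` -/

/-- The elements centralising `W_E` and acting trivially on `O_p(G) / Q` and `Q / W`. -/
def Dgrp (p : ℕ) (E : Subgroup G) : Subgroup G :=
  centralizer (wE p E : Set G) ⊓ cent (pCore p G) (Qo p E) ⊓ cent (Qo p E) (Wo p E)

theorem dgrp_pGroup (hG : centralizer (pCore p G : Set G) ≤ pCore p G) (hE : Blk p E) :
    IsPGroup p ↥(Dgrp p E) := by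
  intro g
  obtain ⟨m, hm, hdvd⟩ : ∃ m : ℕ, (m.Coprime p) ∧
      orderOf g.1 ∣ p ^ (orderOf g.1).factorization p * m :=
    ⟨orderOf g.1 / p ^ (orderOf g.1).factorization p,
      (Nat.coprime_ordCompl Fact.out (orderOf_pos g.1).ne').symm,
      dvd_of_eq (Nat.ordProj_mul_ordCompl_eq_self _ p).symm⟩
  refine ⟨(orderOf g.1).factorization p, ?_⟩
  set y := g ^ p ^ (orderOf g.1).factorization p with hy
  have hym : (y : G) ^ m = 1 := by
    rw [hy, SubmonoidClass.coe_pow, ← pow_mul]
    exact orderOf_dvd_iff_pow_eq_one.1 hdvd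
  have hyo : (orderOf (y : G)).Coprime p := hm.coprime_dvd_left (orderOf_dvd_of_pow_eq_one hym)
  obtain ⟨⟨hyc, hyR⟩, hyQ⟩ := y.2
  have hyW : ∀ w ∈ Wo p E, (y : G) * w = w * y := fun w hw =>
    centralizes_wo hE (fun v hv => (hyc v hv).symm) hyQ.2.2 hw
  have hyQ' : ∀ q ∈ Qo p E, (y : G) * q = q * y := fun q hq => by
    have hw := hyQ.2.2 q hq
    exact commutatorElement_eq_one_iff_mul_comm.1
      (eq_one_of_stab hyo (hyW _ hw) ⟨1, by rw [pow_one]; exact omega_pow p _ hw⟩)
  have hyC : (y : G) ∈ centralizer (pCore p G : Set G) := fun r hr => by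
    have hq := hyR.2.2 r hr
    obtain ⟨k, hk⟩ := qo_pGroup E ⟨_, hq⟩
    exact (commutatorElement_eq_one_iff_mul_comm.1
      (eq_one_of_stab hyo (hyQ' _ hq) ⟨k, congrArg Subtype.val hk⟩)).symm
  obtain ⟨k, hk⟩ := HallCore.isPGroup_pCore p G ⟨(y : G), hG hyC⟩
  have hk' : (y : G) ^ p ^ k = 1 := congrArg Subtype.val hk
  have := pow_gcd_eq_one.2 ⟨hym, hk'⟩
  rw [(hm.pow_right k), pow_one] at this
  exact Subtype.ext this

theorem le_normalizer_dgrp (E : Subgroup G) :
    normalizer (Qo p E : Set G) ⊓ normalizer (wE p E : Set G) ≤ normalizer (Dgrp p E : Set G) := by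
  refine LocalBasics.le_normalizer_inf (LocalBasics.le_normalizer_inf
    (LocalBasics.le_normalizer_centralizer inf_le_right) ?_) ?_
  · exact le_normalizer_cent (LocalBasics.le_normalizer_of_normal _) inf_le_left
  · exact le_normalizer_cent inf_le_left (inf_le_left.trans (normalizer_le_omega p _))

theorem dgrp_le_normalizer (hG : centralizer (pCore p G : Set G) ≤ pCore p G) (hE : Blk p E) :
    Dgrp p E ≤ normalizer (E : Set G) :=
  hE.invn _ (dgrp_pGroup hG hE) (le_normalizer_dgrp E)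

theorem le_cent_pCore (hE : Blk p E) : E ≤ cent (pCore p G) (Qo p E) :=
  le_cent (LocalBasics.le_normalizer_of_normal E) (LocalBasics.le_normalizer_pCoreOf p E)
    ((commutator_comm _ _).le.trans hE.comR)

section pair

variable (hG : centralizer (pCore p G : Set G) ≤ pCore p G) (hE : Blk p E) (hF : Blk p F)
  (hFR : Qo p F ≤ pCore p G) (hER : Qo p E ≤ pCore p G)

include hG hE hF in
/-- Small blocks with equal `Q` and `W_E` are nested if the elements in question act trivially on
`Q / W`. -/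
theorem le_of_same (hsE : Small p E) (hsF : Small p F) (hnEF : F ≤ normalizer (E : Set G))
    (hQQ : Qo p F = Qo p E) (hWW : wE p E = wE p F)
    (hc : ∀ c ∈ E ⊔ F, c ∈ centralizer (wE p E : Set G) → c ∈ cent (Qo p E) (Wo p E)) : F ≤ E := by
  refine le_of_residual hF.res fun f hf hfo => ?_
  obtain ⟨e, he, hcen⟩ := exists_same_action hE hsE hF hsF hWW hf hfo
  have hC : e⁻¹ * f ∈ centralizer (wE p E : Set G) := fun w hw => (hcen w hw).symm
  have h1 : e⁻¹ * f ∈ cent (pCore p G) (Qo p E) :=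
    Subgroup.mul_mem _ (Subgroup.inv_mem _ (le_cent_pCore hE he)) (hQQ ▸ le_cent_pCore hF hf)
  have h2 : e⁻¹ * f ∈ E ⊔ F :=
    Subgroup.mul_mem _ (Subgroup.inv_mem _ (mem_sup_left he)) (mem_sup_right hf)
  have hD : e⁻¹ * f ∈ Dgrp p E := mem_inf.2 ⟨mem_inf.2 ⟨hC, h1⟩, hc _ h2 hC⟩
  refine BaumannBlockBasics.mem_of_coprime_of_sup (dgrp_le_normalizer hG hE) (dgrp_pGroup hG hE) ?_ hfo
  have := mul_mem (mem_sup_left (T := Dgrp p E) he) (mem_sup_right (S := E) hD)
  simpa using this

include hG hE hF in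
theorem eq_of_two (hp : p = 2) (hsE : Small p E) (hsF : Small p F)
    (hnEF : F ≤ normalizer (E : Set G)) (hnFE : E ≤ normalizer (F : Set G))
    (hWW : wE p E = wE p F) : E = F := by
  have hord : ∀ K : Subgroup G, Blk p K → Qo p K = Wo p K := fun K hK =>
    hK.shape.resolve_right fun hx => by have := hx.three; omega
  have hQQ : Qo p F = Qo p E := by
    rw [eq_wE_of_ordinary hF (hord F hF), eq_wE_of_ordinary hE (hord E hE), hWW]
  have key : ∀ K L : Subgroup G, Blk p K → K ⊔ L ≤ normalizer (K : Set G) →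
      ∀ c ∈ K ⊔ L, c ∈ centralizer (wE p K : Set G) → c ∈ cent (Qo p K) (Wo p K) := by
    intro K L hK hN c hc hcen
    refine ⟨le_normalizer_qo hN hc, le_normalizer_omega hN hc, fun q hq => ?_⟩
    rw [commutatorElement_eq_one_iff_mul_comm.2 (hcen q (eq_wE_of_ordinary hK (hord K hK) ▸ hq)).symm]
    exact one_mem _
  exact le_antisymm
    (le_of_same hG hF hE hsF hsE hnFE hQQ.symm hWW.symm
      (key F E hF (sup_le Subgroup.le_normalizer hnFE)))
    (le_of_same hG hE hF hsE hsF hnEF hQQ hWW (key E F hE (sup_le Subgroup.le_normalizer hnEF)))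

include hG hE hF hER hFR in
theorem eq_or_commute_of_commutator_le (hEF : ⁅E, F⁆ ≤ pCore p G) : E = F ∨ ⁅E, F⁆ = ⊥ := by
  have hnEF : F ≤ normalizer (E : Set G) := normalizes_of_commutator_le hE hEF
  have hFE : ⁅F, E⁆ ≤ pCore p G := by rwa [commutator_comm]
  have hnFE : E ≤ normalizer (F : Set G) := normalizes_of_commutator_le hF hFE
  rcases wE_cases hG hE hF hFR hnEF hnFE hEF with h1 | h1
  · exact Or.inr (commute_of_centralizes hE hF hER hnEF hnFE hEF h1)
  rcases wE_cases hG hF hE hER hnFE hnEF hFE with h2 | h2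
  · exact Or.inr ((commutator_comm E F).trans (commute_of_centralizes hF hE hFR hnFE hnEF hFE h2))
  have hWW : wE p E = wE p F := le_antisymm h1 h2
  have habel : ∀ A B : Subgroup G, Blk p A → Blk p B → B ≤ normalizer (A : Set G) →
      ⁅A, B⁆ ≤ pCore p G → wE p A = wE p B → ⁅B, B⁆ ≤ Qo p B := by
    intro A B hA hB hn hAB hW
    have hBW : B ≤ normalizer (Wo p A : Set G) := le_normalizer_omega hn
    have hBZ : B ≤ normalizer (Zo p A : Set G) := LocalBasics.le_normalizer_inf hBW
      (LocalBasics.le_normalizer_centralizer hn)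
    have hWZ : Wo p A ≤ normalizer (Zo p A : Set G) :=
      (wo_le A).trans (wo_le_normalizer A inf_le_left)
    have hab : ⁅Wo p A, Wo p A⁆ ≤ Zo p A := commutator_le.2 fun x hx y hy => by
      rw [commutatorElement_eq_one_iff_mul_comm.2 (omega_comm p _ hx hy)]; exact one_mem _
    have hQc : Qo p A ≤ cent (Wo p A) (Zo p A) := fun q hq =>
      ⟨qo_le_normalizer_wo A hq, le_normalizer_cz (qo_le A hq), fun w hw => by
        rw [commutatorElement_eq_one_iff_mul_comm.2 (wo_commute A hw hq)]; exact one_mem _⟩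
    have hmem : ∀ g ∈ B, ∀ e ∈ A, ⁅g, e⁆ ∈ cent (Wo p A) (Zo p A) := fun g hg e he => hQc (by
      rw [← commutatorElement_inv]
      exact inv_mem (commutator_le_qo hn hAB (commutator_mem_commutator he hg)))
    have hB' : ⁅B, B⁆ ≤ cent (Wo p A) (Zo p A) := commutator_le.2 fun a ha b hb =>
      commutator_mem_cent inf_le_left hWZ hab hA.natW.norm le_normalizer_cz hA.natW.irred
        (hBW ha) (hBZ ha) (hBW hb) (hBZ hb) (hmem a ha) (hmem b hb)
    have h3 : ⁅wE p A, ⁅B, B⁆⁆ = ⊥ := by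
      refine commutator_commutator_eq_bot_of_rotate (H₁ := Wo p A) (H₂ := A) (H₃ := ⁅B, B⁆) ?_ ?_
      · rw [eq_bot_iff]
        refine (commutator_mono ((commutator_mono le_rfl commutator_le_self').trans
          (commutator_le_qo hn hAB)) le_rfl).trans ?_
        rw [le_bot_iff, commutator_comm, commutator_eq_bot_iff_le_centralizer]
        exact fun w hw q hq => wo_commute A hw hq
      · rw [eq_bot_iff]
        refine (commutator_mono (commutator_le_of_le_cent hB') le_rfl).trans ?_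
        rw [le_bot_iff, commutator_eq_bot_iff_le_centralizer]
        exact inf_le_right
    intro c hc
    refine mem_core_of_centralizes hB (commutator_le_self' hc) fun v hv => ?_
    exact (commutator_eq_bot_iff_le_centralizer.1 h3 (hW ▸ hv) c hc)
  obtain ⟨hp, hsF⟩ := hF.abel (habel E F hE hF hnEF hEF hWW)
  obtain ⟨-, hsE⟩ := hE.abel (habel F E hF hE hnFE hFE hWW.symm)
  exact Or.inl (eq_of_two hG hE hF hp hsE hsF hnEF hnFE hWW)
where
  commutator_le_self' {K : Subgroup G} : ⁅K, K⁆ ≤ K :=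
    commutator_le.2 fun a ha b hb => mul_mem (mul_mem (mul_mem ha hb) (inv_mem ha)) (inv_mem hb)

end pair

end Cfsg.Agent.BaumannSubnormal58
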