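import Mathlib
import Cfsg.Prelude.Def_BaumannBlocks
import Cfsg.Agent.Lib.BaumannSubnormal58Core

/-!
Subnormal `B(T)`-blocks are equal or commute.
-/

set_option autoImplicit false
set_option linter.style.haveILetI false

namespace Cfsg.Agent.BaumannSubnormal58

open Subgroup Cfsg
open BaumannBlockStructure (wE omega_le omega_comm omega_pow normalizer_le_omega le_normalizer_omega
  le_normalizer_wE le_normalizer_cz NatSection)
open scoped commutatorElement

variable {G : Type*} [Group G] [Finite G] {p : ℕ} [Fact p.Prime] {E F : Subgroup G}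

/-- `O_p(G)` acts trivially on `Q / W`. -/
theorem pCore_le_cent (h : Blk p E) (hQR : Qo p E ≤ pCore p G) :
    pCore p G ≤ cent (Qo p E) (Wo p E) := by
  have hQ : pCore p G ≤ normalizer (Qo p E : Set G) := le_normalizer_qo h.nR
  have hW : pCore p G ≤ normalizer (Wo p E : Set G) := le_normalizer_omega h.nR
  refine le_cent hQ hW ?_
  have hEn : E ≤ normalizer ((⁅Qo p E, pCore p G⁆ ⊔ Wo p E : Subgroup G) : Set G) := by
    refine LocalBasics.le_normalizer_sup (LocalBasics.le_normalizer_of_conj fun e he x hx => ?_)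
      h.natW.norm
    have hle : ⁅Qo p E, pCore p G⁆ ≤ (⁅Qo p E, pCore p G⁆).comap (MulAut.conj e).toMonoidHom := by
      refine commutator_le.2 fun a ha b hb => ?_
      rw [mem_comap, map_commutatorElement]
      exact commutator_mem_commutator (conj_mem' (LocalBasics.le_normalizer_pCoreOf p E he) ha)
        ((inferInstance : (pCore p G).Normal).conj_mem b hb e)
    exact hle hx
  rcases irred_qo h _ le_sup_right
    (sup_le ((le_normalizer_iff_commutator_le_left).1 hQ) (wo_le E)) hEn with hc | hc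
  · exact (commutator_comm _ _).le.trans (le_sup_left.trans hc.le)
  · have := eq_of_le_commutator_sup (HallCore.isPGroup_pCore p G) hQR le_rfl (wo_le E) hW hc.ge
    rw [this]
    exact (le_normalizer_iff_commutator_le_right).1 hW

theorem exc_sup (hE : Blk p E) (hF : Blk p F) (hER : Qo p E ≤ pCore p G)
    (hne : Qo p E ≠ Wo p E) (hnFE : E ≤ normalizer (F : Set G)) {x : G} (hxE : x ∈ E)
    (hxF : x ∈ F) (hxQ : x ∉ Qo p E) : (Qo p E ⊓ Qo p F) ⊔ Wo p E = Qo p E := by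
  refine (irred_qo hE _ le_sup_right (sup_le inf_le_left (wo_le E))
    (LocalBasics.le_normalizer_sup (LocalBasics.le_normalizer_inf
      (LocalBasics.le_normalizer_pCoreOf p E) (le_normalizer_qo hnFE)) hE.natW.norm)).resolve_left
    fun he => hxQ ((hE.shape.resolve_left hne).natU.ker x hxE fun q hq => ?_)
  refine he.le (mem_sup_left (mem_inf.2
    ⟨commutatorElement_mem (LocalBasics.le_normalizer_pCoreOf p E hxE) hq, ?_⟩))
  rw [← commutatorElement_inv]
  exact (Qo p F).inv_mem (hF.comR (commutator_mem_commutator (hER hq) hxF))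

theorem wo_le_normalizer_of_qo (E : Subgroup G) {M : Subgroup G} (hM : M ≤ Qo p E) :
    Wo p E ≤ normalizer (M : Set G) :=
  LocalBasics.le_normalizer_of_conj fun w hw m hm => by
    rwa [show w * m = m * w from (wo_commute E hw (hM hm)).symm, mul_inv_cancel_right]

theorem exists_decomp_sup {X : Subgroup G} (hX : X ≤ Qo p E) {q : G} (hq : q ∈ X ⊔ Wo p E) :
    ∃ x ∈ X, ∃ w ∈ Wo p E, q = x * w := by
  rw [← SetLike.mem_coe, Subgroup.coe_mul_of_left_le_normalizer_right X _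
    (hX.trans (qo_le_normalizer_wo E))] at hq
  obtain ⟨x, hx, w, hw, rfl⟩ := hq
  exact ⟨x, hx, w, hw, rfl⟩

/-- Overlapping exceptional small blocks have the same `Q`. -/
theorem qo_eq (hE : Blk p E) (hF : Blk p F) (hER : Qo p E ≤ pCore p G) (hFR : Qo p F ≤ pCore p G)
    (hnEF : F ≤ normalizer (E : Set G)) (hnFE : E ≤ normalizer (F : Set G)) {x : G} (hxE : x ∈ E)
    (hxF : x ∈ F) (hxQE : x ∉ Qo p E) (hxQF : x ∉ Qo p F) (hWW : wE p E = wE p F) :
    Qo p F = Qo p E := by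
  have hordne : ∀ A B : Subgroup G, Blk p A → Blk p B → Qo p A ≤ pCore p G →
      A ≤ normalizer (B : Set G) → x ∈ A → x ∈ B → x ∉ Qo p A →
      Qo p A ≠ Wo p A → Qo p B ≠ Wo p B := by
    intro A B hA hB hAR hn hxA hxB hxQ hne hord
    have hX := exc_sup hA hB hAR hne hn hxA hxB hxQ
    have hxA' := hA.shape.resolve_left hne
    apply hxA'.zne
    rw [← hxA'.comm, eq_bot_iff, commutator_le]
    intro a ha b hb
    obtain ⟨a', ha', w, hw, rfl⟩ := exists_decomp_sup inf_le_left (hX.ge ha)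
    obtain ⟨b', hb', v, hv, rfl⟩ := exists_decomp_sup inf_le_left (hX.ge hb)
    rw [mem_bot, commutatorElement_eq_one_iff_mul_comm]
    have c1 : Commute a' b' := wo_commute B (hord ▸ hb'.2) ha'.2
    have c2 : Commute a' v := wo_commute A hv ha'.1
    have c3 : Commute b' w := wo_commute A hw hb'.1
    have c4 : Commute w v := wo_commute A hv (wo_le A hw)
    exact (c1.mul_right c2).mul_left (c3.symm.mul_right c4)
  by_cases hneE : Qo p E = Wo p E
  · by_cases hneF : Qo p F = Wo p F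
    · rw [eq_wE_of_ordinary hE hneE, eq_wE_of_ordinary hF hneF, hWW]
    · exact absurd hneE (hordne F E hF hE hFR hnEF hxF hxE hxQF hneF)
  · have hneF := hordne E F hE hF hER hnFE hxE hxF hxQE hneE
    have hXE := exc_sup hE hF hER hneE hnFE hxE hxF hxQE
    have hXF := exc_sup hF hE hFR hneF hnEF hxF hxE hxQF
    rw [inf_comm] at hXF
    set X := Qo p E ⊓ Qo p F with hX
    have hZ : ∀ (K : Subgroup G), Blk p K → Qo p K ≠ Wo p K → X ≤ Qo p K → X ⊔ Wo p K = Qo p K →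
        Zo p K = ⁅X, X⁆ := by
      intro K hK hne hXK hsup
      rw [← (hK.shape.resolve_left hne).comm]
      refine le_antisymm (commutator_le.2 fun a ha b hb => ?_) (commutator_mono hXK hXK)
      obtain ⟨a', ha', w, hw, rfl⟩ := exists_decomp_sup hXK (hsup.ge ha)
      obtain ⟨b', hb', v, hv, rfl⟩ := exists_decomp_sup hXK (hsup.ge hb)
      have c2 : Commute a' v := wo_commute K hv (hXK ha')
      have c3 : Commute b' w := wo_commute K hw (hXK hb')
      have c4 : Commute w v := wo_commute K hv (wo_le K hw)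
      have c5 : Commute a' w := wo_commute K hw (hXK ha')
      have c6 : Commute b' v := wo_commute K hv (hXK hb')
      have e : ⁅a' * w, b' * v⁆ = ⁅a', b'⁆ := by
        have h1 : a' * w * (b' * v) * (a' * w)⁻¹ = a' * (b' * v) * a'⁻¹ := by
          calc a' * w * (b' * v) * (a' * w)⁻¹ = a' * (w * (b' * v)) * w⁻¹ * a'⁻¹ := by group
            _ = a' * ((b' * v) * w) * w⁻¹ * a'⁻¹ := by rw [(c3.symm.mul_right c4).eq]
            _ = _ := by group
        rw [commutatorElement_def, h1, commutatorElement_def]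
        calc a' * (b' * v) * a'⁻¹ * (b' * v)⁻¹ = a' * b' * (v * a'⁻¹) * v⁻¹ * b'⁻¹ := by group
          _ = a' * b' * (a'⁻¹ * v) * v⁻¹ * b'⁻¹ := by rw [(c2.inv_left).eq]
          _ = _ := by group
      rw [e]
      exact commutator_mem_commutator ha' hb'
    have hW : Wo p E = Wo p F := by
      rw [← wE_sup hE, ← wE_sup hF, hWW, hZ E hE hneE inf_le_left hXE,
        hZ F hF hneF inf_le_right hXF]
    rw [← hXE, ← hXF, hW]

theorem exists_last_pow {S : Subgroup G} {c : G} (hc : c ∉ S) {j : ℕ} (hj : c ^ 2 ^ j ∈ S) :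
    ∃ i, c ^ 2 ^ i ∉ S ∧ c ^ 2 ^ (i + 1) ∈ S := by
  induction j with
  | zero => rw [pow_zero, pow_one] at hj; exact absurd hj hc
  | succ j ih =>
    by_cases h : c ^ 2 ^ j ∈ S
    · exact ih h
    · exact ⟨j, h, hj⟩

section exceptional

variable (hE : Blk p E)

include hE in
/-- An element centralising `W_E`, normalising `E`, trivial on `O_p(G) / Q`, inverting `Q / W` and
commuting modulo `Z` with an element of `D` cannot exist. -/
theorem no_inversion (hsE : Small p E) (hER : Qo p E ≤ pCore p G) (hne : Qo p E ≠ Wo p E)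
    {c : G} (hcW : c ∈ centralizer (wE p E : Set G)) (hcQ : c ∈ normalizer (Qo p E : Set G))
    (hcZ : c ∈ normalizer (Zo p E : Set G))
    (hcR : c ∈ cent (pCore p G) (Qo p E)) (hinv : Inverts (Qo p E) (Wo p E) c)
    (hcomm : ∀ d ∈ Dgrp p E, ⁅d, c⁆ ∈ cent (Qo p E) (Zo p E)) : False := by
  have hx := hE.shape.resolve_left hne
  have hp := hx.three
  obtain ⟨b, hbQ, hbW, hbZ, ⟨k, hbk⟩, hquad⟩ := hx.quad
  have hbWo : b ∈ normalizer (Wo p E : Set G) := normalizer_le_omega p _ hbQ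
  have hcWo : c ∈ normalizer (Wo p E : Set G) := normalizer_le_omega p _ hcQ
  have hQW : Qo p E ≤ normalizer (Wo p E : Set G) := qo_le_normalizer_wo E
  have hQQW : ⁅Qo p E, Qo p E⁆ ≤ Wo p E := (commutator_qo_le hE).trans inf_le_left
  have hQQZ : ∀ a ∈ Qo p E, ∀ b ∈ Qo p E, ⁅a, b⁆ ∈ Zo p E := fun a ha b hb =>
    commutator_qo_le hE (commutator_mem_commutator ha hb)
  have hQZ : Qo p E ≤ normalizer (Zo p E : Set G) := wo_le_normalizer E inf_le_left
  have hexp : ∀ w ∈ Wo p E, w * w ∈ Zo p E → w ∈ Zo p E := by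
    intro w hw h2
    have h3 : w = w ^ p * (w * w)⁻¹ := by rw [hp]; group
    rw [h3, omega_pow p _ hw, one_mul]
    exact inv_mem h2
  have hcWfix : ∀ w ∈ Wo p E, ⁅c, w⁆ ∈ Zo p E := by
    intro w hw
    obtain ⟨a, ha, z, hz, rfl⟩ := exists_decomp hE hw
    have e : ⁅c, a * z⁆ = ⁅c, a⁆ * (a * ⁅c, z⁆ * a⁻¹) := by
      simp only [commutatorElement_def]; group
    rw [e, commutatorElement_eq_one_iff_mul_comm.2 (hcW a ha).symm, one_mul]
    exact conj_mem' (hQZ (wo_le E (wE_le hE ha))) (commutatorElement_mem hcZ hz)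
  -- the element `d = [c, b]`
  set d := ⁅c, b⁆ with hd
  have hbc : b * c⁻¹ * b⁻¹ ∈ centralizer (wE p E : Set G) :=
    conj_mem' (LocalBasics.le_normalizer_centralizer (le_refl _) hbW) (inv_mem hcW)
  have hde : d = c * (b * c⁻¹ * b⁻¹) := by rw [hd, commutatorElement_def]; group
  have hdD : d ∈ Dgrp p E := by
    refine mem_inf.2 ⟨mem_inf.2 ⟨?_, ?_⟩, ?_⟩
    · rw [hde]; exact mul_mem hcW hbc
    · rw [hde]
      refine mul_mem hcR (conj_mem' ?_ (inv_mem hcR))
      exact le_normalizer_cent (LocalBasics.le_normalizer_of_normal _) le_rfl hbQ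
    · rw [hde]
      exact inverts_mul hQW hQQW hcQ hcWo
        (mul_mem (mul_mem hbQ (inv_mem hcQ)) (inv_mem hbQ))
        (mul_mem (mul_mem hbWo (inv_mem hcWo)) (inv_mem hbWo)) hinv
        (inverts_conj hbQ hbWo (inverts_inv hQW hcQ hinv))
  -- `[Q, d] ≤ Z`
  have hdQ : ∀ q ∈ Qo p E, ⁅d, q⁆ ∈ Zo p E := by
    intro q hq
    have hψ : ⁅d, q⁆ ∈ Wo p E := hdD.2.2.2 q hq
    have hdN : d ∈ normalizer (Qo p E : Set G) := hdD.2.1
    have hdZ : d ∈ normalizer (Zo p E : Set G) := by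
      rw [hde]
      exact mul_mem hcZ (mul_mem (mul_mem hbZ (inv_mem hcZ)) (inv_mem hbZ))
    refine hexp _ hψ ?_
    set a := c * q * c⁻¹ with ha
    have haQ : a ∈ Qo p E := conj_mem' hcQ hq
    set i := a * q with hi
    have hiW : i ∈ Wo p E := hinv q hq
    have haiq : a = i * q⁻¹ := by rw [hi, mul_inv_cancel_right]
    have hL : c * ⁅d, q⁆ * c⁻¹ = ⁅⁅c, d⁆ * d, a⁆ := by
      rw [ha]; simp only [commutatorElement_def]; group
    have h1 : ⁅c, d⁆ ∈ cent (Qo p E) (Zo p E) := by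
      rw [← commutatorElement_inv]; exact inv_mem (hcomm d hdD)
    have hψa : ⁅d, a⁆ = ⁅d, i⁆ * (i * ⁅d, q⁻¹⁆ * i⁻¹) := by
      rw [haiq]; simp only [commutatorElement_def]; group
    have hdi : ⁅d, i⁆ ∈ Zo p E := by
      obtain ⟨u, hu, z, hz, hie⟩ := exists_decomp hE hiW
      have hdu : ⁅d, u⁆ = 1 := commutatorElement_eq_one_iff_mul_comm.2 (hdD.1.1 u hu).symm
      have e : ⁅d, u * z⁆ = ⁅d, u⁆ * (u * ⁅d, z⁆ * u⁻¹) := by
        simp only [commutatorElement_def]; group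
      rw [hie, e, hdu, one_mul]
      exact conj_mem' (hQZ (wo_le E (wE_le hE hu))) (commutatorElement_mem hdZ hz)
    have hdq' : ⁅d, q⁻¹⁆ = ⁅d, q⁆⁻¹ := by
      have e : ⁅d, q⁻¹⁆ = q⁻¹ * ⁅d, q⁆⁻¹ * q := by simp only [commutatorElement_def]; group
      rw [e, wo_commute E (inv_mem hψ) (inv_mem hq), inv_mul_cancel_right]
    rw [hdq'] at hψa
    have hψi : i * ⁅d, q⁆⁻¹ * i⁻¹ = ⁅d, q⁆⁻¹ := by
      rw [wo_commute E (inv_mem hψ) (wo_le E hiW), mul_inv_cancel_right]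
    rw [hψi] at hψa
    have h2 : ⁅⁅c, d⁆ * d, a⁆ = ⁅c, d⁆ * ⁅d, a⁆ * ⁅c, d⁆⁻¹ * ⁅⁅c, d⁆, a⁆ := by
      simp only [commutatorElement_def]; group
    have hdaW : ⁅d, a⁆ ∈ Wo p E := by
      rw [hψa]; exact mul_mem hdi.1 (inv_mem hψ)
    have h3 : ⁅c, d⁆ * ⁅d, a⁆ * ⁅c, d⁆⁻¹ = ⁅⁅c, d⁆, ⁅d, a⁆⁆ * ⁅d, a⁆ := by
      simp only [commutatorElement_def]; group
    have hR : c * ⁅d, q⁆ * c⁻¹ = ⁅c, ⁅d, q⁆⁆ * ⁅d, q⁆ := by
      simp only [commutatorElement_def]; group
    rw [hR, h2, h3, hψa] at hL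
    have t1 : ⁅c, ⁅d, q⁆⁆ ∈ Zo p E := hcWfix _ hψ
    have t2 : ⁅⁅c, d⁆, ⁅d, i⁆ * ⁅d, q⁆⁻¹⁆ ∈ Zo p E :=
      h1.2.2 _ (mul_mem (wo_le E hdi.1) (inv_mem (wo_le E hψ)))
    have t4 : ⁅⁅c, d⁆, a⁆ ∈ Zo p E := h1.2.2 a haQ
    set ψ := ⁅d, q⁆ with hψd
    set A := ⁅c, ψ⁆ with hA
    set B := ⁅⁅c, d⁆, ⁅d, i⁆ * ψ⁻¹⁆ with hB
    set D := ⁅⁅c, d⁆, a⁆ with hD
    have e : ψ * ψ = A⁻¹ * (B * ⁅d, i⁆ * D) := by
      have k1 : Commute ψ D := (wo_commute E t4.1 (wo_le E hψ))
      calc ψ * ψ = A⁻¹ * (A * ψ) * ψ := by group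
        _ = A⁻¹ * (B * (⁅d, i⁆ * ψ⁻¹) * D) * ψ := by rw [hL]
        _ = A⁻¹ * (B * ⁅d, i⁆ * (ψ⁻¹ * (D * ψ))) := by group
        _ = A⁻¹ * (B * ⁅d, i⁆ * (ψ⁻¹ * (ψ * D))) := by rw [k1.eq]
        _ = _ := by group
    rw [e]
    exact mul_mem (inv_mem t1) (mul_mem (mul_mem t2 hdi) t4)
  -- `b` is quadratic
  apply hquad
  let K0 : Subgroup G :=
    { carrier := {q | q ∈ Qo p E ∧ c * q * c⁻¹ * q ∈ Zo p E}
      one_mem' := ⟨one_mem _, by simp [one_mem]⟩
      mul_mem' := fun {x y} hx hy => ⟨mul_mem hx.1 hy.1, by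
        have e : c * (x * y) * c⁻¹ * (x * y) = (c * x * c⁻¹ * x) *
            (x⁻¹ * ⁅c * y * c⁻¹, x⁆ * x⁻¹⁻¹) * (c * y * c⁻¹ * y) := by
          simp only [commutatorElement_def]; group
        rw [e]
        exact mul_mem (mul_mem hx.2 (conj_mem' (hQZ (inv_mem hx.1))
          (hQQZ _ (conj_mem' hcQ hy.1) x hx.1))) hy.2⟩
      inv_mem' := fun {x} hx => ⟨inv_mem hx.1, by
        have e : c * x⁻¹ * c⁻¹ * x⁻¹ = x * (c * x * c⁻¹ * x)⁻¹ * x⁻¹ := by group
        rw [e]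
        exact conj_mem' (hQZ hx.1) (inv_mem hx.2)⟩ }
  set B := zpowers b with hBdef
  have hBQ : B ≤ normalizer (Qo p E : Set G) := zpowers_le.2 hbQ
  have hBW : B ≤ normalizer (Wo p E : Set G) := zpowers_le.2 hbWo
  have hBZ : B ≤ normalizer (Zo p E : Set G) := zpowers_le.2 hbZ
  have hBp : IsPGroup p ↥B := IsPGroup.of_card_dvd_pow (n := k) (by
    rw [Nat.card_zpowers]; exact orderOf_dvd_of_pow_eq_one hbk)
  have hBK : B ≤ normalizer (K0 : Set G) := by
    refine zpowers_le.2 (mem_normalizer_fintype fun q hq => ⟨conj_mem' hbQ hq.1, ?_⟩)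
    set y := b * (c * q * c⁻¹) * b⁻¹ with hy
    have hyQ : y ∈ Qo p E := conj_mem' hbQ (conj_mem' hcQ hq.1)
    have e : c * (b * q * b⁻¹) * c⁻¹ * (b * q * b⁻¹) =
        ⁅d, y⁆ * (b * (c * q * c⁻¹ * q) * b⁻¹) := by
      rw [hd, hy]; simp only [commutatorElement_def]; group
    rw [e]
    exact mul_mem (hdQ y hyQ) (conj_mem' hbZ hq.2)
  have hKW : ∀ w ∈ K0, w ∈ Wo p E → w ∈ Zo p E := by
    intro w hw hwW
    refine hexp w hwW ?_
    have e : w * w = ⁅c, w⁆⁻¹ * (c * w * c⁻¹ * w) := by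
      simp only [commutatorElement_def]; group
    rw [e]
    exact mul_mem (inv_mem (hcWfix w hwW)) hw.2
  have hdec : ∀ q ∈ Qo p E, ∃ a ∈ K0, ∃ w ∈ Wo p E, q = a * w := by
    intro q hq
    set i := c * q * c⁻¹ * q with hi
    have hiW : i ∈ Wo p E := hinv q hq
    have k1 : Commute q i := wo_commute E hiW hq
    have haQ : ⁅c, q⁆ ∈ Qo p E := commutatorElement_mem hcQ hq
    refine ⟨⁅c, q⁆, ⟨haQ, ?_⟩, ⁅c, q⁆⁻¹ * q, ?_, (mul_inv_cancel_left _ _).symm⟩
    · have ha : ⁅c, q⁆ = i * q⁻¹ * q⁻¹ := by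
        rw [hi]; simp only [commutatorElement_def]; group
      have e : c * ⁅c, q⁆ * c⁻¹ * ⁅c, q⁆ = ⁅c, i⁆ := by
        have e1 : c * (i * q⁻¹ * q⁻¹) * c⁻¹ =
            ⁅c, i⁆ * i * ((c * q * c⁻¹)⁻¹ * (c * q * c⁻¹)⁻¹) := by
          simp only [commutatorElement_def]; group
        have e2 : c * q * c⁻¹ = i * q⁻¹ := by rw [hi, mul_inv_cancel_right]
        rw [ha, e1, e2]
        have k2 : Commute i (q * q) := (k1.mul_left k1).symm
        calc ⁅c, i⁆ * i * ((i * q⁻¹)⁻¹ * (i * q⁻¹)⁻¹) * (i * q⁻¹ * q⁻¹)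
            = ⁅c, i⁆ * i * ((q * i⁻¹) * (q * i⁻¹)) * (i * q⁻¹ * q⁻¹) := by group
          _ = ⁅c, i⁆ * i * ((i⁻¹ * q) * (q * i⁻¹)) * (i * q⁻¹ * q⁻¹) := by
            rw [show i⁻¹ * q = q * i⁻¹ from (k1.inv_right).eq.symm]
          _ = _ := by group
      rw [e]
      exact hcWfix i hiW
    · have e : ⁅c, q⁆⁻¹ * q = q * (q * i⁻¹) * q := by
        rw [hi]; simp only [commutatorElement_def]; group
      rw [e, show q * i⁻¹ = i⁻¹ * q from (k1.inv_right).eq, ← mul_assoc,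
        show q * i⁻¹ = i⁻¹ * q from (k1.inv_right).eq]
      have h3 : i⁻¹ * q * q * q = i⁻¹ * q ^ p := by rw [hp, pow_three, mul_assoc, mul_assoc]
      rw [h3]
      exact mul_mem (inv_mem hiW) (hx.pow_mem q hq)
  have hmul : ∀ a ∈ Qo p E, ∀ w ∈ Wo p E, ∀ x ∈ B, ⁅a * w, x⁆ = ⁅w, x⁆ * ⁅a, x⁆ := by
    intro a ha w hw x hx'
    have h1 : ⁅w, x⁆ ∈ Wo p E := by
      rw [← commutatorElement_inv]; exact inv_mem (commutatorElement_mem (hBW hx') hw)
    have e : ⁅a * w, x⁆ = a * ⁅w, x⁆ * a⁻¹ * ⁅a, x⁆ := by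
      simp only [commutatorElement_def]; group
    rw [e, wo_commute E h1 ha, mul_inv_cancel_right]
  have hWQ : Wo p E ≤ Qo p E := wo_le E
  have hZW : Zo p E ≤ Wo p E := inf_le_left
  have hZK : Zo p E ≤ K0 := fun z hz =>
    ⟨hWQ hz.1, mul_mem (conj_mem' hcZ hz) hz⟩
  set M1 := ⁅K0, B⁆ ⊔ Zo p E with hM1
  set N1 := ⁅Wo p E, B⁆ ⊔ Zo p E with hN1
  have hM1K : M1 ≤ K0 := sup_le ((le_normalizer_iff_commutator_le_left).1 hBK) hZK
  have hN1W : N1 ≤ Wo p E := sup_le ((le_normalizer_iff_commutator_le_left).1 hBW) hZW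
  have hQB : ⁅Qo p E, B⁆ ≤ M1 ⊔ N1 := by
    refine commutator_le.2 fun q hq x hx' => ?_
    obtain ⟨a, ha, w, hw, rfl⟩ := hdec q hq
    rw [hmul a ha.1 w hw x hx']
    exact mul_mem (mem_sup_right (mem_sup_left (commutator_mem_commutator hw hx')))
      (mem_sup_left (mem_sup_left (commutator_mem_commutator ha hx')))
  have hN1Z : ⁅N1, B⁆ ≤ Zo p E :=
    commutator_commutator_le_of_relIndex hBp ((qo_pGroup E).to_le hWQ) hZW hBW hBZ hsE.sec
  have hM1W : ⁅M1, B⁆ ≤ Wo p E := by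
    refine le_trans (commutator_mono ?_ le_rfl) (commutator_commutator_le_of_relIndex hBp
      (qo_pGroup E) hWQ hBQ hBW (hsE.sec2.resolve_left hne))
    exact sup_le_sup (commutator_mono (fun q hq => hq.1) le_rfl) hZW
  refine le_trans (commutator_mono hQB le_rfl) (commutator_le.2 fun g hg x hx' => ?_)
  rw [← SetLike.mem_coe, Subgroup.coe_mul_of_right_le_normalizer_left M1 N1
    (fun n hn => wo_le_normalizer_of_qo E (fun q hq => (hM1K hq).1) (hN1W hn))] at hg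
  obtain ⟨m, hm, n, hn, rfl⟩ := hg
  rw [hmul m (hM1K hm).1 n (hN1W hn) x hx']
  refine mul_mem (hN1Z (commutator_mem_commutator hn hx')) (hKW _ ?_ ?_)
  · exact (le_normalizer_iff_commutator_le_left).1 hBK (commutator_mem_commutator (hM1K hm) hx')
  · exact hM1W (commutator_mem_commutator hm hx')

end exceptional

/-- Two small blocks for `p = 3` normalising each other and overlapping outside `O_p(G)`. -/
theorem mutual_three (hG : centralizer (pCore p G : Set G) ≤ pCore p G) (hE : Blk p E) (hF : Blk p F)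
    (hsE : Small p E) (hsF : Small p F) (hER : Qo p E ≤ pCore p G) (hFR : Qo p F ≤ pCore p G)
    (hnEF : F ≤ normalizer (E : Set G)) (hnFE : E ≤ normalizer (F : Set G)) {x : G} (hxE : x ∈ E)
    (hxF : x ∈ F) (hxQE : x ∉ Qo p E) (hxQF : x ∉ Qo p F) (hWW : wE p E = wE p F)
    (hr : ∀ g ∈ E ⊔ F, ∃ j, g ^ 2 ^ j ∈ pCore p G) : F ≤ E := by
  have hQQ := qo_eq hE hF hER hFR hnEF hnFE hxE hxF hxQE hxQF hWW
  have hN : E ⊔ F ≤ normalizer (E : Set G) := sup_le Subgroup.le_normalizer hnEF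
  refine le_of_same hG hE hF hsE hsF hnEF hQQ hWW fun c hc hcU => ?_
  have hNQ : E ⊔ F ≤ normalizer (Qo p E : Set G) := le_normalizer_qo hN
  have hNW : E ⊔ F ≤ normalizer (Wo p E : Set G) := le_normalizer_omega hN
  by_cases hne : Qo p E = Wo p E
  · refine ⟨hNQ hc, hNW hc, fun q hq => ?_⟩
    rw [commutatorElement_eq_one_iff_mul_comm.2 (hcU q (eq_wE_of_ordinary hE hne ▸ hq)).symm]
    exact one_mem _
  by_contra hcn
  obtain ⟨j, hj⟩ := hr c hc
  obtain ⟨i, hi, hi2⟩ := exists_last_pow hcn (pCore_le_cent hE hER hj)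
  set c' := c ^ 2 ^ i with hc'
  have hc'2 : c' * c' ∈ cent (Qo p E) (Wo p E) := by
    rwa [hc', ← pow_add, ← two_mul, ← pow_succ']
  have hc'm : c' ∈ E ⊔ F := pow_mem hc _
  have hc'U : c' ∈ centralizer (wE p E : Set G) := pow_mem hcU _
  have hEFc : E ⊔ F ≤ cent (pCore p G) (Qo p E) :=
    sup_le (le_cent_pCore hE) (hQQ ▸ le_cent_pCore hF)
  have hx := hE.shape.resolve_left hne
  have hQQW : ⁅Qo p E, Qo p E⁆ ≤ Wo p E := (commutator_qo_le hE).trans inf_le_left
  have hinv : Inverts (Qo p E) (Wo p E) c' := by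
    let S : Subgroup G :=
      { carrier := {q | q ∈ Qo p E ∧ ⁅c', q⁆ ∈ Wo p E}
        one_mem' := ⟨one_mem _, by simp [one_mem]⟩
        mul_mem' := fun {a b} ha hb => ⟨mul_mem ha.1 hb.1, by
          have e : ⁅c', a * b⁆ = ⁅c', a⁆ * (a * ⁅c', b⁆ * a⁻¹) := by
            simp only [commutatorElement_def]; group
          rw [e]
          exact mul_mem ha.2 (conj_mem' (qo_le_normalizer_wo E ha.1) hb.2)⟩
        inv_mem' := fun {a} ha => ⟨inv_mem ha.1, by
          have e : ⁅c', a⁻¹⁆ = a⁻¹ * ⁅c', a⁆⁻¹ * a⁻¹⁻¹ := by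
            simp only [commutatorElement_def]; group
          rw [e]
          exact conj_mem' (qo_le_normalizer_wo E (inv_mem ha.1)) (inv_mem ha.2)⟩ }
    have hES : E ≤ normalizer (S : Set G) := by
      refine LocalBasics.le_normalizer_of_conj fun e he q hq =>
        ⟨conj_mem' (LocalBasics.le_normalizer_pCoreOf p E he) hq.1, ?_⟩
      have hk : ⁅c', e⁆ ∈ cent (Qo p E) (Wo p E) := by
        refine qo_le_cent hE (mem_core_of_centralizes hE (commutatorElement_mem (hN hc'm) he) ?_)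
        have h1 : ⁅c', e⁆ ∈ centralizer (wE p E : Set G) := by
          have e1 : ⁅c', e⁆ = c' * (e * c'⁻¹ * e⁻¹) := by
            simp only [commutatorElement_def]; group
          rw [e1]
          exact mul_mem hc'U (conj_mem' (LocalBasics.le_normalizer_centralizer
            (le_normalizer_wE Subgroup.le_normalizer) he) (inv_mem hc'U))
        exact fun v hv => (h1 v hv).symm
      have e1 : ⁅c', e * q * e⁻¹⁆ = ⁅c', e⁆ * (e * ⁅c', q⁆ * e⁻¹) * ⁅c', e⁆⁻¹ *
          ⁅⁅c', e⁆, e * q * e⁻¹⁆ := by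
        simp only [commutatorElement_def]; group
      rw [e1]
      exact mul_mem (conj_mem' hk.2.1 (conj_mem' (hE.natW.norm he) hq.2))
        (hk.2.2 _ (conj_mem' (LocalBasics.le_normalizer_pCoreOf p E he) hq.1))
    have hS : S = Wo p E := by
      refine (irred_qo hE S (fun w hw => ⟨wo_le E hw, commutatorElement_mem (hNW hc'm) hw⟩)
        (fun q hq => hq.1) hES).resolve_right fun he => hi ⟨hNQ hc'm, hNW hc'm, fun q hq => ?_⟩
      exact (he.ge hq).2
    intro q hq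
    set a := c' * q * c'⁻¹ with ha
    have haQ : a ∈ Qo p E := conj_mem' (hNQ hc'm) hq
    refine hS.le ⟨mul_mem haQ hq, ?_⟩
    have e : ⁅c', a * q⁆ = ⁅c' * c', q⁆ * ⁅q, a⁆ := by
      rw [ha]; simp only [commutatorElement_def]; group
    rw [e]
    exact mul_mem (hc'2.2.2 q hq) (hQQW (commutator_mem_commutator hq haQ))
  have hne' : Qo p F ≠ Wo p F := by
    show Qo p F ≠ omegaOneCenter p (Qo p F)
    rw [hQQ]; exact hne
  have hZZ : Zo p F = Zo p E := by
    rw [← hx.comm, ← (hF.shape.resolve_left hne').comm, hQQ]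
  have hNZ : E ⊔ F ≤ normalizer (Zo p E : Set G) :=
    LocalBasics.le_normalizer_inf hNW (LocalBasics.le_normalizer_centralizer hN)
  refine no_inversion hE hsE hER hne hc'U (hNQ hc'm) (hNZ hc'm) (hEFc hc'm) hinv fun d hd => ?_
  have hdU : ∀ K : Subgroup G, Blk p K → wE p K = wE p E → d ∈ normalizer (K : Set G) →
      ∀ e ∈ K, ⁅d, e⁆ ∈ Qo p K := by
    intro K hK hKW hdK e he
    refine mem_core_of_centralizes hK (commutatorElement_mem hdK he) fun v hv => ?_
    have e1 : ⁅d, e⁆ = d * (e * d⁻¹ * e⁻¹) := by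
      simp only [commutatorElement_def]; group
    have h1 : ⁅d, e⁆ ∈ centralizer (wE p E : Set G) := by
      rw [e1]
      exact mul_mem hd.1.1 (conj_mem' (LocalBasics.le_normalizer_centralizer
        (hKW ▸ le_normalizer_wE Subgroup.le_normalizer) he) (inv_mem hd.1.1))
    exact (h1 v (hKW ▸ hv)).symm
  have hdF : d ∈ Dgrp p F := by
    refine mem_inf.2 ⟨mem_inf.2 ⟨hWW ▸ hd.1.1, hQQ.symm ▸ hd.1.2⟩, ?_⟩
    show d ∈ cent (Qo p F) (omegaOneCenter p (Qo p F))
    rw [hQQ]; exact hd.2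
  let T : Subgroup G :=
    { carrier := {g | g ∈ normalizer (Qo p E : Set G) ∧ g ∈ normalizer (Zo p E : Set G) ∧
        ⁅d, g⁆ ∈ cent (Qo p E) (Zo p E)}
      one_mem' := ⟨one_mem _, one_mem _, by simp [one_mem]⟩
      mul_mem' := fun {a b} ha hb => ⟨mul_mem ha.1 hb.1, mul_mem ha.2.1 hb.2.1, by
        have e : ⁅d, a * b⁆ = ⁅d, a⁆ * (a * ⁅d, b⁆ * a⁻¹) := by
          simp only [commutatorElement_def]; group
        rw [e]
        exact mul_mem ha.2.2 (conj_mem' (le_normalizer_cent (zpowers_le.2 ha.1)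
          (zpowers_le.2 ha.2.1) (mem_zpowers a)) hb.2.2)⟩
      inv_mem' := fun {a} ha => ⟨inv_mem ha.1, inv_mem ha.2.1, by
        have e : ⁅d, a⁻¹⁆ = a⁻¹ * ⁅d, a⁆⁻¹ * a⁻¹⁻¹ := by
          simp only [commutatorElement_def]; group
        rw [e]
        exact conj_mem' (inv_mem (le_normalizer_cent (zpowers_le.2 ha.1)
          (zpowers_le.2 ha.2.1) (mem_zpowers a))) (inv_mem ha.2.2)⟩ }
  have hQc : Qo p E ≤ cent (Qo p E) (Zo p E) :=
    le_cent Subgroup.le_normalizer (wo_le_normalizer E inf_le_left) (commutator_qo_le hE)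
  have hT : E ⊔ F ≤ T := by
    refine sup_le (fun e he => ?_) fun f hf => ?_
    · exact ⟨hNQ (mem_sup_left he), hNZ (mem_sup_left he),
        hQc (hdU E hE rfl (dgrp_le_normalizer hG hE hd) e he)⟩
    · exact ⟨hNQ (mem_sup_right hf), hNZ (mem_sup_right hf),
        hQc (hQQ ▸ hdU F hF hWW.symm (dgrp_le_normalizer hG hF hdF) f hf)⟩
  exact (hT hc'm).2.2

end Cfsg.Agent.BaumannSubnormal58
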