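import Mathlib
import Cfsg.Prelude.Def_BaumannBlocks
import Cfsg.Agent.Lib.BaumannSubnormal58

/-!
Subnormal `B(T)`-blocks: the smallest blocks by induction, and the general dichotomy.
-/

set_option autoImplicit false
set_option linter.style.haveILetI false

namespace Cfsg.Agent.BaumannSubnormal58

open Subgroup Cfsg
open BaumannBlockStructure (wE le_normalizer_wE)
open scoped commutatorElement

variable {G : Type*} [Group G] [Finite G] {p : ℕ} [Fact p.Prime] {E F : Subgroup G}

theorem exists_wE_ne_one (h : Blk p E) (hS : Small p E) : ∃ w ∈ wE p E, w ≠ 1 := by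
  by_contra hcon
  push Not at hcon
  have hc := card_wE h hS
  rw [show wE p E = ⊥ from eq_bot_iff.2 (fun x hx => mem_bot.2 (hcon x hx)), Subgroup.card_bot] at hc
  exact absurd hc.symm (Nat.one_lt_pow (by decide) (Fact.out : p.Prime).one_lt).ne'

theorem wE_le_of_overlap (hG : centralizer (pCore p G : Set G) ≤ pCore p G) (hE : Blk p E)
    (hF : Blk p F) (hsE : Small p E) (hFR : Qo p F ≤ pCore p G)
    (hnFE : E ≤ normalizer (F : Set G)) {x : G} (hxE : x ∈ E) (hxF : x ∈ F) (hxQ : x ∉ Qo p E) :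
    wE p E ≤ wE p F := by
  refine (sub_irred hE hsE (X := wE p E ⊓ wE p F) inf_le_left (LocalBasics.le_normalizer_inf
    (le_normalizer_wE Subgroup.le_normalizer) (le_normalizer_wE hnFE)) fun hb => ?_).trans inf_le_right
  obtain ⟨w, hw, hw1⟩ := exists_wE_ne_one hE hsE
  have hm : ⁅x, w⁆ ∈ wE p E ⊓ wE p F := by
    refine mem_inf.2 ⟨commutatorElement_mem (le_normalizer_wE Subgroup.le_normalizer hxE) hw, ?_⟩
    rw [← commutatorElement_inv]
    exact (wE p F).inv_mem (commutator_vo_le hF hFR (commutator_mem_commutator (wE_le_vo hG hE hw) hxF))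
  rw [hb, mem_bot, commutatorElement_eq_one_iff_mul_comm] at hm
  exact hw1 (fpf hE hsE hxE hxQ hw hm)

theorem inf_pCore_eq (hs : E.IsSubnormal) : E ⊓ pCore p G = Qo p E :=
  le_antisymm (inf_pCore_le E) (le_inf (qo_le E) (LocalBasics.pCoreOf_le_of_subnormal p hs))

theorem card_map_core (hs : E.IsSubnormal) :
    Nat.card ↥(E.map (QuotientGroup.mk' (pCore p G))) = (Qo p E).relIndex E := by
  rw [← inf_pCore_eq hs, inf_comm, inf_relIndex_right, ← relIndex_ker, QuotientGroup.ker_mk']

theorem small_map_pGroup (hs : E.IsSubnormal) (hS : Small p E) :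
    ∃ r : ℕ, r.Prime ∧ IsPGroup r ↥(E.map (QuotientGroup.mk' (pCore p G))) ∧ (p = 3 → r = 2) := by
  rcases hS.card with ⟨hp, hc⟩ | ⟨hp, hc⟩
  · exact ⟨3, Nat.prime_three, IsPGroup.of_card (n := 1) (by rw [card_map_core hs, hc]; rfl),
      fun h => absurd (hp.symm.trans h) (by decide)⟩
  · exact ⟨2, Nat.prime_two, IsPGroup.of_card (n := 3) (by rw [card_map_core hs, hc]; rfl),
      fun _ => rfl⟩

theorem exists_pow_two_mem (hp : p = 3) (hsE : E.IsSubnormal) (hE : Small p E)
    (hsF : F.IsSubnormal) (hF : Small p F) {g : G} (hg : g ∈ E ⊔ F) :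
    ∃ j, g ^ 2 ^ j ∈ pCore p G := by
  set π := QuotientGroup.mk' (pCore p G) with hπ
  have key : ∀ K : Subgroup G, K.IsSubnormal → Small p K → K.map π ≤ pCore 2 (G ⧸ pCore p G) := by
    intro K hK hKs
    obtain ⟨r, -, hr, hr2⟩ := small_map_pGroup hK hKs
    haveI : Fact (Nat.Prime 2) := ⟨Nat.prime_two⟩
    rw [hr2 hp] at hr
    exact LocalBasics.le_pCore_of_subnormal (hK.map (QuotientGroup.mk'_surjective _)) hr
  have hmem : π g ∈ pCore 2 (G ⧸ pCore p G) := by
    have : π g ∈ (E ⊔ F).map π := mem_map_of_mem π hg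
    rw [Subgroup.map_sup] at this
    exact sup_le (key E hsE hE) (key F hsF hF) this
  haveI : Fact (Nat.Prime 2) := ⟨Nat.prime_two⟩
  obtain ⟨j, hj⟩ := HallCore.isPGroup_pCore 2 (G ⧸ pCore p G) ⟨π g, hmem⟩
  refine ⟨j, (QuotientGroup.eq_one_iff _).1 ?_⟩
  have h1 : (π g) ^ 2 ^ j = 1 := congrArg Subtype.val hj
  rw [← map_pow] at h1
  exact h1

/-- Small blocks normalising each other are equal or commute. -/
theorem mutual_small (hG : centralizer (pCore p G : Set G) ≤ pCore p G) (hE : Blk p E)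
    (hF : Blk p F) (hsE : Small p E) (hsF : Small p F) (hEs : E.IsSubnormal) (hFs : F.IsSubnormal)
    (hnEF : F ≤ normalizer (E : Set G)) (hnFE : E ≤ normalizer (F : Set G)) :
    E = F ∨ ⁅E, F⁆ = ⊥ := by
  have hER := LocalBasics.pCoreOf_le_of_subnormal p hEs
  have hFR := LocalBasics.pCoreOf_le_of_subnormal p hFs
  by_cases hi : E ⊓ F ≤ pCore p G
  · refine eq_or_commute_of_commutator_le hG hE hF hFR hER (le_trans (le_inf ?_ ?_) hi)
    · exact (le_normalizer_iff_commutator_le_left).1 hnEF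
    · exact (le_normalizer_iff_commutator_le_right).1 hnFE
  · obtain ⟨x, ⟨hxE, hxF⟩, hxR⟩ := SetLike.not_le_iff_exists.1 hi
    have hxQE : x ∉ Qo p E := fun h => hxR (hER h)
    have hxQF : x ∉ Qo p F := fun h => hxR (hFR h)
    have hWW : wE p E = wE p F := le_antisymm
      (wE_le_of_overlap hG hE hF hsE hFR hnFE hxE hxF hxQE)
      (wE_le_of_overlap hG hF hE hsF hER hnEF hxF hxE hxQF)
    left
    rcases hsE.card with ⟨hp, -⟩ | ⟨hp, -⟩
    · exact eq_of_two hG hE hF hp hsE hsF hnEF hnFE hWW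
    · exact le_antisymm
        (mutual_three hG hF hE hsF hsE hFR hER hnFE hnEF hxF hxE hxQF hxQE hWW.symm
          fun g hg => exists_pow_two_mem hp hFs hsF hEs hsE hg)
        (mutual_three hG hE hF hsE hsF hER hFR hnEF hnFE hxE hxF hxQE hxQF hWW
          fun g hg => exists_pow_two_mem hp hEs hsE hFs hsF hg)

theorem wE_inf_centralizer (hE : Blk p E) (hsE : Small p E) :
    wE p E ⊓ centralizer (E : Set G) = ⊥ := by
  rw [eq_bot_iff, ← wE_inf_zo hE hsE]
  exact fun u hu => mem_inf.2 ⟨hu.1, mem_inf.2 ⟨wE_le hE hu.1, hu.2⟩⟩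

/-- A small block is not moved by a small block, given the result for smaller joins. -/
theorem normalizes_of_ih (hG : centralizer (pCore p G : Set G) ≤ pCore p G) (hE : Blk p E)
    (hF : Blk p F) (hsE : Small p E) (hsF : Small p F) (hEs : E.IsSubnormal) (hFs : F.IsSubnormal)
    (IH : ∀ K L : Subgroup G, Blk p K → Blk p L → Small p K → Small p L → K.IsSubnormal →
      L.IsSubnormal →
      Nat.card ↥(K ⊔ L ⊔ pCore p G) < Nat.card ↥(E ⊔ F ⊔ pCore p G) → K = L ∨ ⁅K, L⁆ = ⊥) :
    F ≤ normalizer (E : Set G) := by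
  by_contra hcon
  obtain ⟨f, hf, hfE⟩ := SetLike.not_le_iff_exists.1 hcon
  set H := E ⊔ F ⊔ pCore p G with hH
  have hnle : ¬ F ≤ E ⊔ pCore p G := fun h =>
    hcon ((le_of_le_sup hE.nR hF.res h).trans Subgroup.le_normalizer)
  -- a proper normal subgroup of `H` containing `E R`
  obtain ⟨M, hMn, hEM, hRM, hMcard⟩ : ∃ M : Subgroup G, H ≤ normalizer (M : Set G) ∧ E ≤ M ∧
      pCore p G ≤ M ∧ Nat.card ↥M < Nat.card ↥H := by
    have hS : ((E ⊔ pCore p G).subgroupOf H).IsSubnormal :=
      (ComponentsBasic.isSubnormal_sup_normal hEs (pCore p G)).subgroupOf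
    have hne : (E ⊔ pCore p G).subgroupOf H ≠ ⊤ := fun h =>
      hnle (le_trans (le_sup_right.trans le_sup_left) (subgroupOf_eq_top.1 h))
    obtain ⟨K, hK, hle, hlt⟩ := hS.exists_normal_and_le_and_lt_top_of_ne hne
    haveI := hK
    refine ⟨K.map H.subtype, LocalBasics.le_normalizer_map_normal H K, ?_, ?_, ?_⟩
    · exact fun e he => ⟨⟨e, mem_sup_left (mem_sup_left he)⟩, hle (mem_sup_left he), rfl⟩
    · exact fun e he => ⟨⟨e, mem_sup_right he⟩, hle (mem_sup_right he), rfl⟩
    · rw [card_map_of_injective H.subtype_injective]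
      exact lt_of_le_of_ne (Subgroup.card_le_card_group K) fun h => hlt.ne (eq_top_of_card_eq K h)
  let cj : G → Subgroup G := fun a => E.map (MulAut.conj a).toMonoidHom
  have hcjB : ∀ a, Blk p (cj a) := fun a => blk_map (MulAut.conj a) hE
  have hcjS : ∀ a, Small p (cj a) := fun a => small_map (MulAut.conj a) hsE
  have hcjs : ∀ a, (cj a).IsSubnormal := fun a => ComponentsBasic.isSubnormal_conj hEs a
  have hcjM : ∀ a ∈ F, cj a ≤ M := by
    rintro a ha _ ⟨e, he, rfl⟩
    exact conj_mem' (hMn (mem_sup_left (mem_sup_right ha))) (hEM he)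
  have hdich : ∀ a ∈ F, ∀ b ∈ F, cj a = cj b ∨ ⁅cj a, cj b⁆ = ⊥ := fun a ha b hb =>
    IH _ _ (hcjB a) (hcjB b) (hcjS a) (hcjS b) (hcjs a) (hcjs b)
      (lt_of_le_of_lt (Subgroup.card_le_of_le (sup_le (sup_le (hcjM a ha) (hcjM b hb)) hRM)) hMcard)
  have hcj1 : cj 1 = E := by
    show E.map (MulAut.conj (1 : G)).toMonoidHom = E
    ext x
    simp
  have hcj_eq : ∀ a b, cj a = cj b → a⁻¹ * b ∈ normalizer (E : Set G) := by
    intro a b h
    refine mem_normalizer_fintype fun n hn => ?_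
    obtain ⟨m, hm, hme⟩ := h.ge (mem_map_of_mem (MulAut.conj b).toMonoidHom hn)
    have e : a⁻¹ * b * n * (a⁻¹ * b)⁻¹ = m := by
      have hme' : a * m * a⁻¹ = b * n * b⁻¹ := hme
      calc a⁻¹ * b * n * (a⁻¹ * b)⁻¹ = a⁻¹ * (b * n * b⁻¹) * a := by group
        _ = _ := by rw [← hme']; group
    rw [e]; exact hm
  have hmove : ∀ g ∈ F, g ∉ normalizer (E : Set G) → ⁅E, cj g⁆ = ⊥ := by
    intro g hg hgE
    rcases hdich 1 (one_mem _) g hg with h | h
    · exact absurd (by simpa using hcj_eq 1 g h) hgE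
    · rwa [hcj1] at h
  have hUcj : ∀ g, ∀ w ∈ wE p E, g * w * g⁻¹ ∈ wE p (cj g) := fun g w hw =>
    (map_wE (p := p) (MulAut.conj g) E).le ⟨w, hw, rfl⟩
  have hleK : ∀ {K : Subgroup G}, Blk p K → wE p K ≤ K := fun hK =>
    (wE_le hK).trans ((wo_le _).trans (qo_le _))
  have hcomm : ∀ (K L : Subgroup G), ⁅K, L⁆ = ⊥ → L ≤ centralizer (K : Set G) := fun K L h =>
    commutator_eq_bot_iff_le_centralizer.1 ((commutator_comm L K).trans h)
  have hUF : ∀ g ∈ F, ∀ w ∈ wE p E, ⁅g, w⁆ ∈ wE p F := by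
    intro g hg w hw
    rw [← commutatorElement_inv]
    exact inv_mem (commutator_vo_le hF (LocalBasics.pCoreOf_le_of_subnormal p hFs)
      (commutator_mem_commutator (wE_le_vo hG hE hw) hg))
  have hsurj : ∀ g ∈ F, g ∉ normalizer (E : Set G) → ∀ z ∈ wE p F,
      ∃ w ∈ wE p E, ⁅g, w⁆ = z := by
    intro g hg hgE
    let φ : ↥(wE p E) → ↥(wE p F) := fun w => ⟨⁅g, (w : G)⁆, hUF g hg w w.2⟩
    have hinj : Function.Injective φ := by
      intro a b hab
      have h1 : ⁅g, (a : G)⁆ = ⁅g, (b : G)⁆ := congrArg Subtype.val hab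
      have h2 : g * ((b : G)⁻¹ * a) * g⁻¹ = (b : G)⁻¹ * a := by
        have hc : Commute ((g * b * g⁻¹)⁻¹) ((a : G)) := by
          refine Commute.inv_left ?_
          exact omega_comm' (wE_le_vo hG (hcjB g) (hUcj g b b.2)) (wE_le_vo hG hE a.2)
        calc g * ((b : G)⁻¹ * a) * g⁻¹ = (g * b * g⁻¹)⁻¹ * (⁅g, (a : G)⁆ * a) := by
              simp only [commutatorElement_def]; group
          _ = (g * b * g⁻¹)⁻¹ * (⁅g, (b : G)⁆ * a) := by rw [h1]
          _ = (g * b * g⁻¹)⁻¹ * ((g * b * g⁻¹) * (b : G)⁻¹ * a) := by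
              simp only [commutatorElement_def]
          _ = _ := by group
      have hu : ((b : G)⁻¹ * a) ∈ wE p E ⊓ centralizer (E : Set G) := by
        refine mem_inf.2 ⟨(wE p E).mul_mem ((wE p E).inv_mem b.2) a.2, ?_⟩
        rw [← h2]
        exact hcomm E (cj g) (hmove g hg hgE)
          (hleK (hcjB g) (hUcj g _ (mul_mem (inv_mem b.2) a.2)))
      rw [wE_inf_centralizer hE hsE, mem_bot, inv_mul_eq_one] at hu
      exact Subtype.ext hu.symm
    intro z hz
    obtain ⟨w, hw⟩ := ((Nat.bijective_iff_injective_and_card φ).2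
      ⟨hinj, (card_wE hE hsE).trans (card_wE hF hsF).symm⟩).2 ⟨z, hz⟩
    exact ⟨w, w.2, congrArg Subtype.val hw⟩
  -- all movers move `E` to the same block
  have hsame : ∀ g ∈ F, g ∉ normalizer (E : Set G) → cj g = cj f := by
    intro g hg hgE
    refine (hdich g hg f hf).resolve_right fun hc => ?_
    obtain ⟨w, hw, hw1⟩ := exists_wE_ne_one hE hsE
    obtain ⟨v, hv, hve⟩ := hsurj g hg hgE _ (hUF f hf w hw)
    have hfw : f * w * f⁻¹ = g * v * g⁻¹ * v⁻¹ * w := by
      calc f * w * f⁻¹ = ⁅f, w⁆ * w := by simp only [commutatorElement_def]; group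
        _ = _ := by rw [← hve, commutatorElement_def]
    have hcE : wE p E ≤ centralizer (cj f : Set G) :=
      (hleK hE).trans (commutator_eq_bot_iff_le_centralizer.1 (hmove f hf hfE))
    have hcg : g * v * g⁻¹ ∈ centralizer (cj f : Set G) :=
      commutator_eq_bot_iff_le_centralizer.1 hc (hleK (hcjB g) (hUcj g v hv))
    have hmem : f * w * f⁻¹ ∈ wE p (cj f) ⊓ centralizer (cj f : Set G) := by
      refine mem_inf.2 ⟨hUcj f w hw, ?_⟩
      rw [hfw]
      exact mul_mem (mul_mem hcg ((centralizer _).inv_mem (hcE hv))) (hcE hw)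
    rw [wE_inf_centralizer (hcjB f) (hcjS f), mem_bot] at hmem
    exact hw1 (conj_eq_one_iff.1 hmem)
  -- the stabiliser of `E` in `F` is `Q_F`
  have hstab : ∀ k ∈ F, k ∈ normalizer (E : Set G) → k ∈ Qo p F := by
    intro k hk hkE
    have hkf : k * f ∉ normalizer (E : Set G) := fun h =>
      hfE (by simpa using mul_mem (inv_mem hkE) h)
    have hkN : k ∈ normalizer (cj f : Set G) := by
      refine mem_normalizer_fintype ?_
      rintro _ ⟨e, he, rfl⟩
      show k * (f * e * f⁻¹) * k⁻¹ ∈ cj f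
      rw [← hsame (k * f) (mul_mem hk hf) hkf]
      refine ⟨e, he, ?_⟩
      show k * f * e * (k * f)⁻¹ = _
      group
    have hkU : ∀ K : Subgroup G, k ∈ normalizer (K : Set G) → k ∈ normalizer (wE p K : Set G) :=
      fun K h => le_normalizer_wE (zpowers_le.2 h) (mem_zpowers k)
    have hbot : wE p E ⊓ wE p (cj f) = ⊥ := by
      rw [eq_bot_iff, ← wE_inf_centralizer hE hsE]
      exact fun u hu => mem_inf.2 ⟨hu.1, hcomm E (cj f) (hmove f hf hfE) (hleK (hcjB f) hu.2)⟩
    have hcE : ∀ w ∈ wE p E, k * w = w * k := by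
      intro w hw
      obtain ⟨v, hv, hve⟩ := hsurj f hf hfE _ (hUF k hk w hw)
      have hm : f * v * f⁻¹ ∈ wE p E ⊓ wE p (cj f) := by
        refine mem_inf.2 ⟨?_, hUcj f v hv⟩
        have e : f * v * f⁻¹ = ⁅k, w⁆ * v := by
          rw [← hve]; simp only [commutatorElement_def]; group
        rw [e]
        exact mul_mem (commutatorElement_mem (hkU E hkE) hw) hv
      rw [hbot, mem_bot] at hm
      rw [conj_eq_one_iff.1 hm] at hve
      exact commutatorElement_eq_one_iff_mul_comm.1 (hve.symm.trans (by simp))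
    have hcf : ∀ w ∈ wE p E, k * (f * w * f⁻¹) = (f * w * f⁻¹) * k := by
      intro w hw
      have hu : f * w * f⁻¹ ∈ wE p (cj f) := hUcj f w hw
      have hz : ⁅k, f * w * f⁻¹⁆ ∈ wE p F := by
        rw [← commutatorElement_inv]
        exact inv_mem (commutator_vo_le hF (LocalBasics.pCoreOf_le_of_subnormal p hFs)
          (commutator_mem_commutator (wE_le_vo hG (hcjB f) hu) hk))
      obtain ⟨v, hv, hve⟩ := hsurj f hf hfE _ hz
      have hm : v⁻¹ ∈ wE p E ⊓ wE p (cj f) := by
        refine mem_inf.2 ⟨(wE p E).inv_mem hv, ?_⟩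
        have e : v⁻¹ = (f * v * f⁻¹)⁻¹ * ⁅k, f * w * f⁻¹⁆ := by
          rw [← hve]; simp only [commutatorElement_def]; group
        rw [e]
        exact mul_mem (inv_mem (hUcj f v hv)) (commutatorElement_mem (hkU (cj f) hkN) hu)
      rw [hbot, mem_bot, inv_eq_one] at hm
      rw [hm] at hve
      exact commutatorElement_eq_one_iff_mul_comm.1 (hve.symm.trans (by simp))
    refine mem_core_of_centralizes hF hk fun z hz => ?_
    obtain ⟨w, hw, rfl⟩ := hsurj f hf hfE z hz
    rw [commutatorElement_def]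
    exact ((show Commute k (f * w * f⁻¹) from hcf w hw).mul_right
      (show Commute k w from hcE w hw).inv_right).eq
  -- so `F / Q_F` has order at most two
  obtain ⟨x, hxF, hxQ, -⟩ := exists_coprime_notMem hF
  have hxN : x ∉ normalizer (E : Set G) := fun h => hxQ (hstab x hxF h)
  have hle2 : Nat.card (↥F ⧸ pCore p ↥F) ≤ Nat.card Bool := by
    refine Nat.card_le_card_of_surjective
      (fun b : Bool => if b then 1 else QuotientGroup.mk ⟨x, hxF⟩) fun y => ?_
    induction y using QuotientGroup.induction_on with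
    | _ y =>
      by_cases hy : (y : G) ∈ Qo p F
      · refine ⟨true, ?_⟩
        simp only [↓reduceIte]
        rw [eq_comm]
        refine (QuotientGroup.eq_one_iff _).2 ?_
        rw [← LocalBasics.pCoreOf_subgroupOf]
        exact hy
      · refine ⟨false, ?_⟩
        simp only [Bool.false_eq_true, ↓reduceIte]
        rw [QuotientGroup.eq, ← LocalBasics.pCoreOf_subgroupOf]
        refine hstab _ (mul_mem (inv_mem hxF) y.2) (hcj_eq x y ?_)
        rw [hsame x hxF hxN, hsame y y.2 fun h => hy (hstab y y.2 h)]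
  rw [← relIndex_core, Nat.card_eq_fintype_card, Fintype.card_bool] at hle2
  rcases hsF.card with ⟨-, h⟩ | ⟨-, h⟩ <;> omega
where
  omega_comm' {a b : G} (ha : a ∈ Vo p G) (hb : b ∈ Vo p G) : Commute a b :=
    BaumannBlockStructure.omega_comm p _ ha hb

/-- Subnormal small blocks are equal or commute. -/
theorem small_pair (hG : centralizer (pCore p G : Set G) ≤ pCore p G) :
    ∀ n : ℕ, ∀ E F : Subgroup G, Blk p E → Blk p F → Small p E → Small p F → E.IsSubnormal →
      F.IsSubnormal → Nat.card ↥(E ⊔ F ⊔ pCore p G) = n → E = F ∨ ⁅E, F⁆ = ⊥ := by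
  intro n
  induction n using Nat.strong_induction_on with
  | _ n ih =>
    intro E F hE hF hsE hsF hEs hFs hn
    have IH : ∀ K L : Subgroup G, Blk p K → Blk p L → Small p K → Small p L → K.IsSubnormal →
        L.IsSubnormal → Nat.card ↥(K ⊔ L ⊔ pCore p G) < n → K = L ∨ ⁅K, L⁆ = ⊥ :=
      fun K L a b c d e f g => ih _ g K L a b c d e f rfl
    exact mutual_small hG hE hF hsE hsF hEs hFs
      (normalizes_of_ih hG hE hF hsE hsF hEs hFs (hn.symm ▸ IH))
      (normalizes_of_ih hG hF hE hsF hsE hFs hEs (by rw [sup_comm F E, hn]; exact IH))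

theorem component_map (hs : E.IsSubnormal) (hq : IsQuasisimple (↥E ⧸ pCore p ↥E)) :
    IsComponent (E.map (QuotientGroup.mk' (pCore p G))) := by
  refine ⟨hs.map (QuotientGroup.mk'_surjective _), ?_⟩
  let f := (QuotientGroup.mk' (pCore p G)).subgroupMap E
  have hker : f.ker = pCore p ↥E := by
    rw [← LocalBasics.pCoreOf_subgroupOf p E]
    ext x
    have hx : f x = 1 ↔ (x : G) ∈ pCore p G := by
      rw [← QuotientGroup.eq_one_iff (N := pCore p G), ← Subtype.coe_inj]
      rfl
    rw [MonoidHom.mem_ker, hx, mem_subgroupOf]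
    exact ⟨fun h => inf_pCore_le E ⟨x.2, h⟩,
      fun h => LocalBasics.pCoreOf_le_of_subnormal p hs h⟩
  exact ComponentsBasic.isQuasisimple_of_mulEquiv ((QuotientGroup.quotientMulEquivOfEq hker).symm.trans
    (QuotientGroup.quotientKerEquivOfSurjective f (MonoidHom.subgroupMap_surjective _ E))) hq

/-- Subnormal blocks of a group of characteristic `p` are equal or commute. -/
theorem blocks_eq_or_commute (hG : centralizer (pCore p G : Set G) ≤ pCore p G)
    {T T' : Sylow p G} (hE : IsBaumannBlock p (T : Subgroup G) E)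
    (hF : IsBaumannBlock p (T' : Subgroup G) F) (hEs : E.IsSubnormal) (hFs : F.IsSubnormal) :
    E = F ∨ ⁅E, F⁆ = ⊥ := by
  have bE := blk_of_block hG hE
  have bF := blk_of_block hG hF
  have hER := LocalBasics.pCoreOf_le_of_subnormal p hEs
  have hFR := LocalBasics.pCoreOf_le_of_subnormal p hFs
  have hcom : ⁅E.map (QuotientGroup.mk' (pCore p G)), F.map (QuotientGroup.mk' (pCore p G))⁆ = ⊥ →
      E = F ∨ ⁅E, F⁆ = ⊥ := by
    intro h
    refine eq_or_commute_of_commutator_le hG bE bF hFR hER ?_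
    rwa [← map_commutator, Subgroup.map_eq_bot_iff, QuotientGroup.ker_mk'] at h
  rcases block_type hE with qE | ⟨sE, -⟩ <;> rcases block_type hF with qF | ⟨sF, -⟩
  · rcases ComponentsBasic.component_le_or_commute (component_map hEs qE)
      (hFs.map (QuotientGroup.mk'_surjective (pCore p G))) with h | h
    · have he := ComponentsBasic.component_eq_of_le (component_map hEs qE) (component_map hFs qF) h
      rw [Subgroup.map_eq_map_iff, QuotientGroup.ker_mk'] at he
      left
      exact le_antisymm (le_of_le_sup bF.nR bE.res (le_sup_left.trans he.le))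
        (le_of_le_sup bE.nR bF.res (le_sup_left.trans he.ge))
    · exact hcom h
  · obtain ⟨r, hr, hP, -⟩ := small_map_pGroup hFs sF
    haveI : Fact r.Prime := ⟨hr⟩
    haveI := IsPGroup.isNilpotent hP
    exact hcom (ComponentsBasic.component_commute_solvable (component_map hEs qE)
      (hFs.map (QuotientGroup.mk'_surjective (pCore p G))))
  · obtain ⟨r, hr, hP, -⟩ := small_map_pGroup hEs sE
    haveI : Fact r.Prime := ⟨hr⟩
    haveI := IsPGroup.isNilpotent hP
    refine hcom ((commutator_comm _ _).trans ?_)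
    exact ComponentsBasic.component_commute_solvable (component_map hFs qF)
      (hEs.map (QuotientGroup.mk'_surjective (pCore p G)))
  · exact small_pair hG _ E F bE bF sE sF hEs hFs rfl

end Cfsg.Agent.BaumannSubnormal58
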