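import Mathlib
import Cfsg.Prelude.Def_OddOrderLocal
import Cfsg.Prelude.Def_CaseTheorems
import Cfsg.Agent.Lib.OddLocalBase
import Cfsg.Agent.Lib.CoprimeAction
import Cfsg.Agent.Lib.SignalizerBasic
import Cfsg.Agent.Lib.ComponentsFitting
import Cfsg.Agent.Lib.HallCore
import Cfsg.Agent.Lib.HallSolvable
import Cfsg.Agent.Lib.HallNilpotentConj

/-!
Bender's uniqueness lemma for a maximal local subgroup whose Fitting subgroup involves
at least two primes.
-/

set_option autoImplicit false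

open scoped commutatorElement

namespace Cfsg.Agent.BenderPiUniqueness

variable {G : Type*} [Group G]

theorem fittingOf_le (H : Subgroup G) : Cfsg.fittingOf H ≤ H := Subgroup.map_subtype_le _

theorem isNilpotent_fittingOf [Finite G] (H : Subgroup G) :
    Group.IsNilpotent (Cfsg.fittingOf H) :=
  (Cfsg.Agent.ComponentsCores.isNilpotent_map_subtype_iff _).mpr inferInstance

theorem le_normalizer_fittingOf (H : Subgroup G) :
    H ≤ Subgroup.normalizer (Cfsg.fittingOf H : Set G) := by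
  haveI : (Cfsg.fittingSubgroup H).Normal := Subgroup.sSup_normal _ (fun _ h => h.1)
  intro h hh
  rw [Subgroup.mem_normalizer_iff]
  have key : ∀ b : H, ∀ x ∈ Cfsg.fittingOf H, (b : G) * x * (b : G)⁻¹ ∈ Cfsg.fittingOf H := by
    rintro b _ ⟨x, hx, rfl⟩
    exact ⟨b * x * b⁻¹, Subgroup.Normal.conj_mem inferInstance x hx b, rfl⟩
  intro x
  refine ⟨key ⟨h, hh⟩ x, fun hx => ?_⟩
  have := key ⟨h⁻¹, H.inv_mem hh⟩ _ hx
  simpa [mul_assoc] using this

/-- The `p`-part of the centre of `F`. -/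
def zPart (F : Subgroup G) (p : ℕ) : Subgroup G where
  carrier := {z | z ∈ F ∧ z ∈ Subgroup.centralizer (F : Set G) ∧ ∃ k : ℕ, z ^ p ^ k = 1}
  one_mem' := ⟨F.one_mem, Subgroup.one_mem _, 0, by simp⟩
  mul_mem' := by
    rintro a b ⟨haF, haC, k, hk⟩ ⟨hbF, hbC, l, hl⟩
    refine ⟨F.mul_mem haF hbF, Subgroup.mul_mem _ haC hbC, k + l, ?_⟩
    have hc : Commute a b := (haC b hbF).symm
    rw [hc.mul_pow, pow_add, pow_mul, hk, one_pow, mul_comm (p ^ k) (p ^ l), pow_mul, hl, one_pow,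
      one_mul]
  inv_mem' := by
    rintro a ⟨haF, haC, k, hk⟩
    exact ⟨F.inv_mem haF, Subgroup.inv_mem _ haC, k, by rw [inv_pow, hk, inv_one]⟩

theorem zPart_le (F : Subgroup G) (p : ℕ) : zPart F p ≤ F := fun _ h => h.1

theorem zPart_comm {F : Subgroup G} {p : ℕ} {a b : G} (ha : a ∈ zPart F p) (hb : b ∈ zPart F p) :
    a * b = b * a :=
  (ha.2.1 b hb.1).symm

theorem isPGroup_zPart (F : Subgroup G) (p : ℕ) : IsPGroup p (zPart F p) := fun z => by
  obtain ⟨k, hk⟩ := z.2.2.2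
  exact ⟨k, Subtype.ext (by simpa using hk)⟩

theorem conj_mem_zPart {F : Subgroup G} {p : ℕ} {h z : G}
    (hh : h ∈ Subgroup.normalizer (F : Set G)) (hz : z ∈ zPart F p) :
    h * z * h⁻¹ ∈ zPart F p := by
  obtain ⟨hzF, hzC, k, hk⟩ := hz
  refine ⟨(Subgroup.mem_normalizer_iff.1 hh z).1 hzF, ?_, k, ?_⟩
  · intro f hf
    have hf' : h⁻¹ * f * h ∈ F := by
      have := (Subgroup.mem_normalizer_iff.1
        ((Subgroup.normalizer (F : Set G)).inv_mem hh) f).1 hf
      simpa using this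
    have := hzC _ hf'
    calc f * (h * z * h⁻¹) = h * ((h⁻¹ * f * h) * z) * h⁻¹ := by group
      _ = h * (z * (h⁻¹ * f * h)) * h⁻¹ := by rw [this]
      _ = h * z * h⁻¹ * f := by group
  · rw [conj_pow, hk, mul_one, mul_inv_cancel]

theorem le_normalizer_zPart (H : Subgroup G) (p : ℕ) :
    H ≤ Subgroup.normalizer (zPart (Cfsg.fittingOf H) p : Set G) := by
  intro h hh
  rw [Subgroup.mem_normalizer_iff]
  refine fun z => ⟨conj_mem_zPart (le_normalizer_fittingOf H hh), fun hz => ?_⟩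
  have := conj_mem_zPart (le_normalizer_fittingOf H (H.inv_mem hh)) hz
  simpa [mul_assoc] using this

theorem mem_of_split [Finite G] {F A B : Subgroup G} {p : ℕ} [Fact p.Prime] (hA : IsPGroup p A)
    (hsup : A ⊔ B = F) (hBC : B ≤ Subgroup.centralizer (A : Set G))
    (hB : (Nat.card B).Coprime p) (hN : F ≤ Subgroup.normalizer (A : Set G))
    {x : G} (hx : x ∈ F) (hxp : (orderOf x).Coprime p) : x ∈ B := by
  have hx' : x ∈ (↑(A ⊔ B) : Set G) := by rw [hsup]; exact hx
  rw [Subgroup.coe_mul_of_right_le_normalizer_left A B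
    ((le_sup_right.trans hsup.le).trans hN)] at hx'
  obtain ⟨α, hα, β, hβ, rfl⟩ := Set.mem_mul.1 hx'
  suffices α = 1 by rw [this, one_mul]; exact hβ
  have hc : Commute α β := hBC hβ α hα
  set k := orderOf (α * β) * Nat.card B with hk
  have h1 : α ^ k = 1 := by
    have h2 : (α * β) ^ k = 1 := by rw [hk, pow_mul, pow_orderOf_eq_one, one_pow]
    have h3 : β ^ k = 1 :=
      orderOf_dvd_iff_pow_eq_one.1 ((Subgroup.orderOf_dvd_natCard B hβ).trans (dvd_mul_left _ _))
    rwa [hc.mul_pow, h3, mul_one] at h2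
  obtain ⟨j, hj⟩ := IsPGroup.iff_orderOf.mp hA ⟨α, hα⟩
  rw [Subgroup.orderOf_mk] at hj
  rw [← orderOf_eq_one_iff]
  refine Nat.Coprime.eq_one_of_dvd ?_ (orderOf_dvd_of_pow_eq_one h1)
  rw [hj]
  exact ((Nat.Coprime.mul_left hxp hB).symm).pow_left j

/-- In a nilpotent group the `p'`-elements are closed under multiplication. -/
theorem coprime_orderOf_mul [Finite G] (F : Subgroup G) (hF : Group.IsNilpotent F) (p : ℕ)
    [Fact p.Prime] {x y : G} (hx : x ∈ F) (hy : y ∈ F) (hxp : (orderOf x).Coprime p)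
    (hyp : (orderOf y).Coprime p) : (orderOf (x * y)).Coprime p := by
  haveI := hF
  obtain ⟨A, B, hA, hsup, hBC, hB, -, hN⟩ := Cfsg.Agent.HallNilpotentConj.exists_split F p
  exact hB.coprime_dvd_left (Subgroup.orderOf_dvd_natCard B (B.mul_mem
    (mem_of_split hA hsup hBC hB hN hx hxp) (mem_of_split hA hsup hBC hB hN hy hyp)))

theorem zPart_ne_bot [Finite G] (F : Subgroup G) (hF : Group.IsNilpotent F) (p : ℕ)
    [hp : Fact p.Prime] (hdvd : p ∣ Nat.card F) : zPart F p ≠ ⊥ := by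
  haveI := hF
  obtain ⟨A, B, hA, hsup, hBC, hB, hcard, -⟩ := Cfsg.Agent.HallNilpotentConj.exists_split F p
  have hAnt : Nontrivial A := by
    rw [← Finite.one_lt_card_iff_nontrivial]
    by_contra hlt
    have hA1 : Nat.card A = 1 := le_antisymm (not_lt.1 hlt) Nat.card_pos
    rw [← hcard, hA1, one_mul] at hdvd
    exact (Nat.Prime.coprime_iff_not_dvd hp.out).1 hB.symm hdvd
  haveI := hA.center_nontrivial
  obtain ⟨z, hz⟩ := exists_ne (1 : Subgroup.center A)
  intro hbot
  apply hz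
  have hmem : ((z : A) : G) ∈ zPart F p := by
    refine ⟨hsup ▸ Subgroup.mem_sup_left (z : A).2, ?_, ?_⟩
    · have hle : F ≤ Subgroup.centralizer ({((z : A) : G)} : Set G) := by
        rw [← hsup]
        refine sup_le (fun a ha => ?_) (fun b hb => ?_)
        · exact Subgroup.mem_centralizer_singleton_iff.2
            (congrArg Subtype.val (Subgroup.mem_center_iff.1 z.2 ⟨a, ha⟩))
        · exact Subgroup.mem_centralizer_singleton_iff.2 (hBC hb _ (z : A).2).symm
      exact fun f hf => Subgroup.mem_centralizer_singleton_iff.1 (hle hf)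
    · obtain ⟨k, hk⟩ := hA (z : A)
      exact ⟨k, by simpa using congrArg Subtype.val hk⟩
  rw [hbot, Subgroup.mem_bot] at hmem
  exact Subtype.ext (Subtype.ext hmem)

theorem piNat_piCoreOf [Finite G] (π : Set ℕ) (R : Subgroup G) :
    HallCore.PiNat π (Nat.card (Cfsg.piCoreOf π R)) := by
  rw [Cfsg.piCoreOf, Subgroup.card_map_of_injective R.subtype_injective]
  exact HallCore.piNat_card_piCore π R

variable [Finite G]

theorem inf_centralizer_le (H : Subgroup G) (R : Subgroup G) (hR : Group.IsSolvable R)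
    (hXR : H ⊓ Subgroup.centralizer (Cfsg.fittingOf H : Set G) ≤ Subgroup.normalizer (R : Set G)) :
    R ⊓ (H ⊓ Subgroup.centralizer (Cfsg.fittingOf H : Set G)) ≤ Cfsg.fittingOf H := by
  set F := Cfsg.fittingOf H with hF
  set X := H ⊓ Subgroup.centralizer (F : Set G) with hX
  have hXn : H ≤ Subgroup.normalizer (X : Set G) := by
    have hmem : ∀ h ∈ H, ∀ x ∈ X, h * x * h⁻¹ ∈ X := by
      intro h hh x hx
      refine ⟨H.mul_mem (H.mul_mem hh hx.1) (H.inv_mem hh), fun f hf => ?_⟩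
      have hf' : h⁻¹ * f * h ∈ F := by
        have := (Subgroup.mem_normalizer_iff.1 (le_normalizer_fittingOf H (H.inv_mem hh)) f).1 hf
        simpa using this
      have := hx.2 _ hf'
      calc f * (h * x * h⁻¹) = h * ((h⁻¹ * f * h) * x) * h⁻¹ := by group
        _ = h * (x * (h⁻¹ * f * h)) * h⁻¹ := by rw [this]
        _ = h * x * h⁻¹ * f := by group
    intro h hh
    rw [Subgroup.mem_normalizer_iff]
    refine fun x => ⟨hmem h hh x, fun hx => ?_⟩
    have := hmem h⁻¹ (H.inv_mem hh) _ hx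
    simpa [mul_assoc] using this
  haveI : (X.subgroupOf H).Normal := Subgroup.normal_subgroupOf_of_le_normalizer hXn
  set K := (R ⊓ X).subgroupOf H with hK
  have hKn : (K.subgroupOf (X.subgroupOf H)).Normal := by
    refine ⟨fun k hk x => ?_⟩
    have hk' : ((k : H) : G) ∈ R ⊓ X := hk
    refine ⟨(Subgroup.mem_normalizer_iff.1 (hXR x.2) _).1 hk'.1, ?_⟩
    exact X.mul_mem (X.mul_mem x.2 hk'.2) (X.inv_mem x.2)
  have hKX : K ≤ X.subgroupOf H := fun k hk => (show (k : G) ∈ R ⊓ X from hk).2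
  have hsub : K.IsSubnormal :=
    Subgroup.IsSubnormal.step K (X.subgroupOf H) hKX (Subgroup.Normal.isSubnormal inferInstance) hKn
  have hfit := Cfsg.Agent.ComponentsFitting.fitting_map_subtype_le hsub
  haveI : Group.IsSolvable K := by
    haveI := hR
    let f : K →* R :=
      { toFun := fun k => ⟨((k : H) : G), (show ((k : H) : G) ∈ R ⊓ X from k.2).1⟩
        map_one' := rfl
        map_mul' := fun _ _ => rfl }
    exact solvable_of_solvable_injective (f := f) (fun a b h => Subtype.ext (Subtype.ext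
      (congrArg (fun t : R => (t : G)) h)))
  intro y hy
  let k : K := ⟨⟨y, hy.2.1⟩, hy⟩
  have hk : k ∈ Subgroup.centralizer (Cfsg.fittingSubgroup K : Set K) := by
    intro u hu
    have hu' : ((u : H) : G) ∈ F := ⟨(u : H), hfit ⟨u, hu, rfl⟩, rfl⟩
    exact Subtype.ext (Subtype.ext (hy.2.2 _ hu'))
  have hkF := Cfsg.Agent.ComponentsFitting.centralizer_fitting_le_of_solvable hk
  exact ⟨(k : H), hfit ⟨k, hkF, rfl⟩, rfl⟩

section main

variable {H M R : Subgroup G} {q : ℕ}

/-- The hypotheses of the uniqueness lemma. -/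
structure Data (H M R : Subgroup G) : Prop where
  loc : Cfsg.IsLocalSubgroup H
  maxLoc : ∀ L : Subgroup G, Cfsg.IsLocalSubgroup L → H ≤ L → L = H
  two : 2 ≤ (Nat.card (Cfsg.fittingOf H)).primeFactors.card
  le : M ≤ Cfsg.fittingOf H
  cent : Cfsg.fittingOf H ⊓ Subgroup.centralizer (M : Set G) ≤ M
  solv : Group.IsSolvable R
  normM : M ≤ Subgroup.normalizer (R : Set G)
  normX : H ⊓ Subgroup.centralizer (Cfsg.fittingOf H : Set G) ≤ Subgroup.normalizer (R : Set G)

theorem Data.zPart_le_M (d : Data H M R) (p : ℕ) : zPart (Cfsg.fittingOf H) p ≤ M := fun _ hz =>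
  d.cent ⟨hz.1, fun m hm => hz.2.1 m (d.le hm)⟩

theorem Data.centralizer_zPart_le (d : Data H M R) (p : ℕ) [hp : Fact p.Prime]
    (hdvd : p ∣ Nat.card (Cfsg.fittingOf H)) :
    Subgroup.centralizer (zPart (Cfsg.fittingOf H) p : Set G) ≤ H := by
  have hne := zPart_ne_bot _ (isNilpotent_fittingOf H) p hdvd
  have := d.maxLoc _ ⟨p, _, hp.out, isPGroup_zPart _ p, hne, rfl⟩ (le_normalizer_zPart H p)
  conv_rhs => rw [← this]
  exact Set.Subset.trans subset_rfl (Subgroup.centralizer_le_normalizer _)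

theorem Data.exists_prime (d : Data H M R) :
    ∃ p : ℕ, p.Prime ∧ p ∣ Nat.card (Cfsg.fittingOf H) := by
  obtain ⟨p, hp⟩ := Finset.card_pos.1 (lt_of_lt_of_le two_pos d.two)
  exact ⟨p, Nat.prime_of_mem_primeFactors hp, Nat.dvd_of_mem_primeFactors hp⟩

theorem Data.eq_one_of_centralizes (d : Data H M R) {x : G} (hxR : x ∈ R)
    (hxM : x ∈ Subgroup.centralizer (M : Set G))
    (hcop : (orderOf x).Coprime (Nat.card (Cfsg.fittingOf H))) : x = 1 := by
  set F := Cfsg.fittingOf H with hF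
  obtain ⟨p, hp, hpd⟩ := d.exists_prime
  haveI := Fact.mk hp
  have hxH : x ∈ H := d.centralizer_zPart_le p hpd fun t ht => hxM t (d.zPart_le_M p ht)
  set A := Subgroup.zpowers x
  have hAn : A ≤ Subgroup.normalizer (F : Set G) :=
    Subgroup.zpowers_le.2 (le_normalizer_fittingOf H hxH)
  have hMC : M ≤ F ⊓ Subgroup.centralizer (A : Set G) := fun m hm => ⟨d.le hm, by
    rintro _ ⟨i, rfl⟩
    exact ((show Commute m x from hxM m hm).zpow_right i).symm.eq⟩
  have hC := Cfsg.Agent.OddLocalBase.le_centralizer_of_centralizer_le F A (isNilpotent_fittingOf H)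
    hAn (by rwa [Nat.card_zpowers]) (fun y hy => hMC (d.cent ⟨hy.1, fun m hm => hy.2 m (hMC hm)⟩))
  have hxF : x ∈ F :=
    inf_centralizer_le H R d.solv d.normX ⟨hxR, hxH, hC (Subgroup.mem_zpowers x)⟩
  exact orderOf_eq_one_iff.1 (Nat.Coprime.eq_one_of_dvd hcop (Subgroup.orderOf_dvd_natCard F hxF))

/-- The image of `O_{p'}(R ⊔ M)` in `G`. -/
abbrev coreL (R M : Subgroup G) (p : ℕ) : Subgroup G :=
  (Cfsg.pPrimeCore p ↥(R ⊔ M)).map (R ⊔ M).subtype

theorem Data.isSolvable_L (d : Data H M R) : Group.IsSolvable ↥(R ⊔ M) := by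
  haveI := isNilpotent_fittingOf H
  exact SignalizerBasic.isSolvable_sup d.solv
    (solvable_of_solvable_injective (f := Subgroup.inclusion d.le)
      (Subgroup.inclusion_injective d.le)) d.normM

theorem Data.mem_coreL (d : Data H M R) (p : ℕ) [hp : Fact p.Prime]
    (hdvd : p ∣ Nat.card (Cfsg.fittingOf H)) {a : G} (ha : a ∈ M)
    (hap : (orderOf a).Coprime p) : a ∈ coreL R M p := by
  haveI := d.isSolvable_L
  set L := R ⊔ M with hL
  set N := Cfsg.pPrimeCore p L with hN
  haveI : N.Normal := HallCore.pPrimeCore_normal p _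
  set f := QuotientGroup.mk' N with hf
  set V := Cfsg.pCore p (↥L ⧸ N) with hV
  haveI : V.Normal := HallCore.pCore_normal p _
  have hCV : Subgroup.centralizer (V : Set (↥L ⧸ N)) ≤ V :=
    HallSolvable.centralizer_pCore_le (HallSolvable.isPSolvable_of_solvable p)
      (HallCore.pPrimeCore_quotient_self p L)
  set T := zPart (Cfsg.fittingOf H) p with hT
  have hTM : T ≤ M := d.zPart_le_M p
  set T' := T.subgroupOf L with hT'
  have hT'p : IsPGroup p T' :=
    (isPGroup_zPart _ p).of_equiv (Subgroup.subgroupOfEquivOfLe (hTM.trans le_sup_right)).symm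
  set B := T'.map f with hB
  have hBp : IsPGroup p B := hT'p.map f
  have hBcomm : ∀ b ∈ B, ∀ b' ∈ B, b * b' = b' * b := by
    rintro _ ⟨t, ht, rfl⟩ _ ⟨t', ht', rfl⟩
    rw [← map_mul, ← map_mul]
    exact congrArg f (Subtype.ext (zPart_comm ht ht'))
  set W := V ⊔ B with hW
  have hWp : IsPGroup p W := (HallCore.isPGroup_pCore p _).to_sup_of_normal_left hBp
  set a' : L := ⟨a, le_sup_right (a := R) ha⟩ with ha'
  have haC : ∀ b ∈ B, f a' * b = b * f a' := by
    rintro _ ⟨t, ht, rfl⟩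
    rw [← map_mul, ← map_mul]
    exact congrArg f (Subtype.ext ((show (t : G) ∈ T from ht).2.1 a (d.le ha)))
  set A := Subgroup.zpowers (f a') with hA
  have hordf : (orderOf (f a')).Coprime p := by
    refine hap.coprime_dvd_left ?_
    exact (orderOf_map_dvd f a').trans (Subgroup.orderOf_coe a').symm.dvd
  -- the key claim: `f a'` centralizes `C_V(B)`
  have key : ∀ v ∈ V, (∀ b ∈ B, b * v = v * b) → f a' * v = v * f a' := by
    intro v hv hvB
    obtain ⟨l, rfl⟩ := QuotientGroup.mk'_surjective N v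
    obtain ⟨c, hcT, hlc⟩ := CoprimeAction.exists_fixed_mem_coset (A := T') (D := N)
      (Subgroup.normalizer_eq_top (H := N) ▸ le_top)
      (by
        obtain ⟨k, hk⟩ := IsPGroup.iff_card.1 hT'p
        rw [hk]
        exact ((HallCore.coprime_card_pPrimeCore p L).symm).pow_left k)
      (Or.inl (CoprimeAction.isSolvable_of_isPGroup hT'p)) l (fun t ht => by
        rw [← QuotientGroup.eq_one_iff]
        change f (l⁻¹ * t * l * t⁻¹) = 1
        have hc := hvB (f t) ⟨t, ht, rfl⟩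
        simp only [← hf] at hc
        rw [map_mul, map_mul, map_mul, map_inv, map_inv, mul_assoc ((f l)⁻¹), hc]
        group)
    have hfc : f c = f l := by
      have h1 : f (l⁻¹ * c) = 1 := (QuotientGroup.eq_one_iff _).2 hlc
      rw [map_mul, map_inv, inv_mul_eq_one] at h1
      exact h1.symm
    have hcH : (c : G) ∈ H := d.centralizer_zPart_le p hdvd fun t ht =>
      congrArg Subtype.val (hcT ⟨t, le_sup_right (a := R) (hTM ht)⟩ ht)
    have hFa := d.le ha
    have hFca : (c : G) * a * (c : G)⁻¹ ∈ Cfsg.fittingOf H :=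
      (Subgroup.mem_normalizer_iff.1 (le_normalizer_fittingOf H hcH) a).1 hFa
    have hord : (orderOf ((c : G) * a * (c : G)⁻¹ * a⁻¹)).Coprime p := by
      refine coprime_orderOf_mul _ (isNilpotent_fittingOf H) p hFca (inv_mem hFa) ?_
        (by rwa [orderOf_inv])
      have : orderOf ((c : G) * a * (c : G)⁻¹) = orderOf a :=
        orderOf_injective (MulAut.conj (c : G)).toMonoidHom (MulAut.conj (c : G)).injective a
      rwa [this]
    set e : L := c * a' * c⁻¹ * a'⁻¹ with he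
    have heV : f e ∈ V := by
      have h1 : f a' * (f c)⁻¹ * (f a')⁻¹ ∈ V :=
        Subgroup.Normal.conj_mem inferInstance _ (V.inv_mem (hfc ▸ hv)) (f a')
      have h2 : f e = f c * (f a' * (f c)⁻¹ * (f a')⁻¹) := by
        rw [he, map_mul, map_mul, map_mul, map_inv, map_inv]; group
      rw [h2]
      exact V.mul_mem (hfc ▸ hv) h1
    have he1 : f e = 1 := by
      obtain ⟨j, hj⟩ := IsPGroup.iff_orderOf.mp (HallCore.isPGroup_pCore p _) ⟨f e, heV⟩
      rw [Subgroup.orderOf_mk] at hj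
      rw [← orderOf_eq_one_iff]
      refine Nat.Coprime.eq_one_of_dvd ?_ (orderOf_map_dvd f e)
      rw [hj, ← Subgroup.orderOf_coe e]
      exact (Nat.Coprime.symm hord).pow_left j
    rw [he, map_mul, map_mul, map_mul, map_inv, map_inv, mul_inv_eq_one, mul_inv_eq_iff_eq_mul,
      hfc] at he1
    exact he1.symm
  have hAW : A ≤ Subgroup.normalizer (W : Set (↥L ⧸ N)) := by
    refine Subgroup.zpowers_le.2 ?_
    have hBA : f a' ∈ Subgroup.normalizer (B : Set (↥L ⧸ N)) :=
      Subgroup.centralizer_le_normalizer _ fun b hb => (haC b hb).symm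
    have hVA : f a' ∈ Subgroup.normalizer (V : Set (↥L ⧸ N)) := by
      rw [Subgroup.normalizer_eq_top]; exact Subgroup.mem_top _
    exact SignalizerCoprime.le_normalizer_sup (A := A) (Subgroup.zpowers_le.2 hVA)
      (Subgroup.zpowers_le.2 hBA) (Subgroup.mem_zpowers _)
  have hC := Cfsg.Agent.OddLocalBase.le_centralizer_of_centralizer_le W A hWp.isNilpotent hAW (by
    obtain ⟨k, hk⟩ := IsPGroup.iff_card.1 hWp
    rw [hk, hA, Nat.card_zpowers]
    exact hordf.pow_right k) (by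
      intro x hx
      have hx' : x ∈ (↑(V ⊔ B) : Set (↥L ⧸ N)) := hx.1
      rw [Subgroup.normal_mul] at hx'
      obtain ⟨v, hv, b, hb, rfl⟩ := Set.mem_mul.1 hx'
      have hBA : ∀ b ∈ B, b ∈ Subgroup.centralizer (A : Set (↥L ⧸ N)) := by
        intro b hb
        rintro _ ⟨i, rfl⟩
        exact ((show Commute (f a') b from haC b hb).zpow_left i).eq
      have hvB : ∀ b' ∈ B, b' * v = v * b' := by
        intro b' hb'
        have h1 := hx.2 b' ⟨Subgroup.mem_sup_right hb', hBA b' hb'⟩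
        have h2 := hBcomm b hb b' hb'
        refine mul_right_cancel (b := b) ?_
        calc b' * v * b = b' * (v * b) := mul_assoc _ _ _
          _ = (v * b) * b' := h1
          _ = v * (b * b') := mul_assoc _ _ _
          _ = v * (b' * b) := by rw [h2]
          _ = v * b' * b := (mul_assoc _ _ _).symm
      refine ⟨hx.1, Subgroup.mul_mem _ ?_ (hBA b hb)⟩
      rintro _ ⟨i, rfl⟩
      exact ((show Commute (f a') v from key v hv hvB).zpow_left i).eq)
  have haV : f a' ∈ V := hCV fun v hv => hC (Subgroup.mem_zpowers _) v (Subgroup.mem_sup_left hv)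
  have h1 : f a' = 1 := by
    obtain ⟨j, hj⟩ := IsPGroup.iff_orderOf.mp (HallCore.isPGroup_pCore p _) ⟨f a', haV⟩
    rw [Subgroup.orderOf_mk] at hj
    rw [← orderOf_eq_one_iff]
    refine Nat.Coprime.eq_one_of_dvd ?_ dvd_rfl
    conv_lhs => rw [hj]
    exact hordf.symm.pow_left j
  exact ⟨a', (QuotientGroup.eq_one_iff _).1 h1, rfl⟩

theorem Data.le_piCoreOf (d : Data H M R) [hq : Fact q.Prime]
    (hqn : ¬ q ∣ Nat.card (Cfsg.fittingOf H)) {Q : Subgroup G}
    (hQ : Q ∈ Cfsg.invSubgroups R M {q}) :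
    Q ≤ Cfsg.piCoreOf (Cfsg.primesNotDvd (Nat.card (Cfsg.fittingOf H))) R := by
  set F := Cfsg.fittingOf H with hF
  set n := Nat.card F with hn
  obtain ⟨hQR, hQπ, hMQ⟩ := hQ
  have hQn : (Nat.card Q).Coprime n := Nat.coprime_of_dvd fun k hk h1 h2 =>
    hqn ((Set.mem_singleton_iff.1 (hQπ k hk h1)) ▸ h2)
  suffices hmain : ∀ p, p.Prime → p ∣ n → Q.subgroupOf R ≤ Cfsg.pPrimeCore p R by
    set J : Subgroup R := ⨅ p ∈ n.primeFactors, Cfsg.pPrimeCore p R with hJ
    haveI : J.Normal :=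
      Subgroup.normal_iInf_normal fun p => Subgroup.normal_iInf_normal fun _ =>
        HallCore.pPrimeCore_normal p _
    have hJπ : J ≤ Cfsg.piCore (Cfsg.primesNotDvd n) R := HallCore.le_piCore fun r hr hrJ => by
      refine ⟨hr, fun hrn => ?_⟩
      have hle : J ≤ Cfsg.pPrimeCore r R :=
        iInf₂_le r (Nat.mem_primeFactors.2 ⟨hr, hrn, Nat.card_pos.ne'⟩)
      haveI := Fact.mk hr
      exact HallCore.not_dvd_card_pPrimeCore r R (hrJ.trans (Subgroup.card_dvd_of_le hle))
    intro y hy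
    refine ⟨⟨y, hQR hy⟩, hJπ ?_, rfl⟩
    simp only [hJ, Subgroup.mem_iInf]
    exact fun p hp => hmain p (Nat.prime_of_mem_primeFactors hp) (Nat.dvd_of_mem_primeFactors hp) hy
  intro p hp hpn
  haveI := Fact.mk hp
  obtain ⟨s, hs, hsp⟩ := Finset.exists_mem_ne
    (lt_of_lt_of_le one_lt_two d.two) p
  haveI := Fact.mk (Nat.prime_of_mem_primeFactors hs)
  set T := zPart F s with hT
  set N := coreL R M p with hN
  have hTM : T ≤ M := d.zPart_le_M s
  have hTN : T ≤ N := by
    intro t ht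
    refine d.mem_coreL p hpn (hTM ht) ?_
    obtain ⟨k, hk⟩ := IsPGroup.iff_orderOf.mp (isPGroup_zPart F s) ⟨t, ht⟩
    rw [Subgroup.orderOf_mk] at hk
    rw [hk]
    exact ((Nat.coprime_primes (Nat.prime_of_mem_primeFactors hs) hp).2 hsp).pow_left k
  haveI : (Cfsg.pPrimeCore p ↥(R ⊔ M)).Normal := HallCore.pPrimeCore_normal p _
  have hLN : R ⊔ M ≤ Subgroup.normalizer (N : Set G) := by
    have hmem : ∀ g ∈ R ⊔ M, ∀ x ∈ N, g * x * g⁻¹ ∈ N := by
      rintro g hg _ ⟨x, hx, rfl⟩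
      exact ⟨⟨g, hg⟩ * x * ⟨g, hg⟩⁻¹, Subgroup.Normal.conj_mem inferInstance x hx _, rfl⟩
    intro g hg
    rw [Subgroup.mem_normalizer_iff]
    refine fun x => ⟨hmem g hg x, fun hx => ?_⟩
    have := hmem g⁻¹ (inv_mem hg) _ hx
    simpa [mul_assoc] using this
  have hQT : T ≤ Subgroup.normalizer (Q : Set G) := hTM.trans hMQ
  have hcomm : ⁅Q, T⁆ ≤ R ⊓ N := by
    refine le_inf ((CoprimeAction.commutator_le_self_of_le_normalizer hQT).trans hQR) ?_
    rw [Subgroup.commutator_le]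
    intro y hy t ht
    rw [commutatorElement_def]
    exact N.mul_mem ((Subgroup.mem_normalizer_iff.1 (hLN (Subgroup.mem_sup_left (hQR hy))) t).1
      (hTN ht)) (N.inv_mem (hTN ht))
  have hfix : Q ⊓ Subgroup.centralizer (T : Set G) ≤ ⊥ := by
    rintro y ⟨hyQ, hyT⟩
    rw [Subgroup.mem_bot]
    have hyH : y ∈ H := d.centralizer_zPart_le s (Nat.dvd_of_mem_primeFactors hs) hyT
    refine d.eq_one_of_centralizes (hQR hyQ) (fun m hm => ?_)
      (hQn.coprime_dvd_left (Subgroup.orderOf_dvd_natCard Q hyQ))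
    have h1 : y * m * y⁻¹ * m⁻¹ ∈ F := F.mul_mem
      ((Subgroup.mem_normalizer_iff.1 (le_normalizer_fittingOf H hyH) m).1 (d.le hm))
      (F.inv_mem (d.le hm))
    have h2 : y * m * y⁻¹ * m⁻¹ ∈ Q := by
      have := Q.mul_mem hyQ ((Subgroup.mem_normalizer_iff.1 (hMQ hm) y⁻¹).1 (Q.inv_mem hyQ))
      simpa [mul_assoc] using this
    have h3 : y * m * y⁻¹ * m⁻¹ = 1 := by
      have : y * m * y⁻¹ * m⁻¹ ∈ Q ⊓ F := ⟨h2, h1⟩
      rwa [Subgroup.inf_eq_bot_of_coprime hQn, Subgroup.mem_bot] at this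
    rw [mul_inv_eq_one, mul_inv_eq_iff_eq_mul] at h3
    exact h3.symm
  have hQ' : Q ≤ R ⊓ N := by
    have hcop : (Nat.card T).Coprime (Nat.card Q) :=
      (hQn.coprime_dvd_right (Subgroup.card_dvd_of_le (zPart_le F s))).symm
    have h := CoprimeAction.commutator_sup_centralizer_eq (A := T) (K := Q) hQT hcop
      (Or.inl (CoprimeAction.isSolvable_of_isPGroup (isPGroup_zPart F s)))
    exact h.symm.le.trans (sup_le hcomm (hfix.trans bot_le))
  haveI : ((R ⊓ N).subgroupOf R).Normal := by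
    refine ⟨fun x hx g => ?_⟩
    have hx' : (x : G) ∈ R ⊓ N := hx
    exact ⟨R.mul_mem (R.mul_mem g.2 hx'.1) (R.inv_mem g.2),
      (Subgroup.mem_normalizer_iff.1 (hLN (Subgroup.mem_sup_left g.2)) _).1 hx'.2⟩
  have hle : (R ⊓ N).subgroupOf R ≤ Cfsg.pPrimeCore p R := by
    refine HallCore.le_pPrimeCore ?_
    refine Nat.Coprime.coprime_dvd_left ((HallCore.card_subgroupOf_dvd _ _).trans
      (Subgroup.card_dvd_of_le inf_le_right)) ?_
    rw [hN, Subgroup.card_map_of_injective (R ⊔ M).subtype_injective]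
    exact HallCore.coprime_card_pPrimeCore p _
  exact fun y hy => hle (hQ' hy)

theorem uniqueness (d : Data H M R) [hq : Fact q.Prime]
    (hqn : ¬ q ∣ Nat.card (Cfsg.fittingOf H)) :
    ∃! Q : Subgroup G, Q ∈ Cfsg.maxInvSubgroups R M {q} ∧
      (∀ Q' : Subgroup G, Q' ∈ Cfsg.maxInvSubgroups R M {q} →
        Q' ≤ Cfsg.piCoreOf (Cfsg.primesNotDvd (Nat.card (Cfsg.fittingOf H))) R ∧
        ¬ q ∣ Q'.relIndex
          (Cfsg.piCoreOf (Cfsg.primesNotDvd (Nat.card (Cfsg.fittingOf H))) R)) := by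
  set n := Nat.card (Cfsg.fittingOf H) with hn
  set K := Cfsg.piCoreOf (Cfsg.primesNotDvd n) R with hK
  have hKR : K ≤ R := Subgroup.map_subtype_le _
  have hKn : (Nat.card K).Coprime n :=
    Nat.coprime_of_dvd fun k hk h1 h2 => ((piNat_piCoreOf _ R) k hk h1).2 h2
  haveI := HallCore.piCore_characteristic (Cfsg.primesNotDvd n) R
  have hMK : M ≤ Subgroup.normalizer (K : Set G) :=
    OddLocalBase.le_normalizer_map_characteristic d.normM (Cfsg.piCore (Cfsg.primesNotDvd n) R)
  have hcop : (Nat.card M).Coprime (Nat.card K) :=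
    (hKn.coprime_dvd_right (Subgroup.card_dvd_of_le d.le)).symm
  have hMsolv : Group.IsSolvable M ∨ Group.IsSolvable K := by
    haveI := d.solv
    exact Or.inr (solvable_of_solvable_injective (f := Subgroup.inclusion hKR)
      (Subgroup.inclusion_injective hKR))
  obtain ⟨P, hP⟩ := CoprimeAction.exists_invariant_sylow hMK hcop hMsolv q
  have hinv : ∀ S : Sylow q K, M ≤ Subgroup.normalizer ((S : Subgroup K).map K.subtype : Set G) →
      (S : Subgroup K).map K.subtype ∈ Cfsg.invSubgroups R M {q} := by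
    intro S hS
    refine ⟨(Subgroup.map_subtype_le _).trans hKR, fun r hr hrd => ?_, hS⟩
    rw [CoprimeAction.card_map_sylow] at hrd
    exact Set.mem_singleton_iff.2 ((Nat.prime_dvd_prime_iff_eq hr hq.out).1 (hr.dvd_of_dvd_pow hrd))
  have hall : ∀ Q' ∈ Cfsg.maxInvSubgroups R M {q}, Q' = (P : Subgroup K).map K.subtype := by
    rintro Q' ⟨hQ', hmax⟩
    have hQ'q : IsPGroup q Q' :=
      HallCore.isPGroup_iff_piNat.2 fun r hr h => hQ'.2.1 r hr h
    obtain ⟨S, hQS, hS⟩ := CoprimeAction.exists_invariant_sylow_ge hMK hcop hMsolv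
      (d.le_piCoreOf hqn hQ') hQ'q hQ'.2.2
    rw [← hmax _ (hinv S hS) hQS]
    obtain ⟨c, hc, hcS⟩ := CoprimeAction.invariant_sylow_conj hMK hcop hMsolv S P hS hP
    have hc1 : c = 1 := Subtype.ext (d.eq_one_of_centralizes (hKR c.2) hc
      (hKn.coprime_dvd_left (Subgroup.orderOf_dvd_natCard K c.2)))
    rw [hc1, map_one, one_smul] at hcS
    rw [hcS]
  have hPmax : (P : Subgroup K).map K.subtype ∈ Cfsg.maxInvSubgroups R M {q} := by
    refine ⟨hinv P hP, fun Q' hQ' hle => le_antisymm ?_ hle⟩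
    have hQ'K := d.le_piCoreOf hqn hQ'
    have hQ'q : IsPGroup q (Q'.subgroupOf K) :=
      (HallCore.isPGroup_iff_piNat.2 fun r hr h => hQ'.2.1 r hr h : IsPGroup q Q').of_equiv
        (Subgroup.subgroupOfEquivOfLe hQ'K).symm
    have hPQ : (P : Subgroup K) ≤ Q'.subgroupOf K := fun x hx => hle ⟨x, hx, rfl⟩
    intro y hy
    exact ⟨⟨y, hQ'K hy⟩, P.3 hQ'q hPQ ▸ hy, rfl⟩
  refine ⟨(P : Subgroup K).map K.subtype, ⟨hPmax, fun Q' hQ' => ⟨?_, ?_⟩⟩,
    fun Q hQ => hall Q hQ.1⟩
  · exact d.le_piCoreOf hqn hQ'.1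
  · rw [hall Q' hQ', Subgroup.relIndex, Subgroup.subgroupOf,
      Subgroup.comap_map_eq_self_of_injective K.subtype_injective]
    exact P.not_dvd_index

end main

end Cfsg.Agent.BenderPiUniqueness
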