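import Mathlib
import Cfsg.Prelude.Def_OddOrder
import Cfsg.Agent.Lib.BenderPiUniqueness

/-!
Bender's uniqueness argument for two maximal subgroups whose Fitting subgroups contain
each other's supports: an elementary route to equality.
-/

set_option autoImplicit false

open scoped commutatorElement

namespace Cfsg.Agent.BenderMaxUniqueness

open Cfsg.Agent.BenderPiUniqueness

variable {G : Type*} [Group G]

/-- `O_p(H)` as a subgroup of `G`. -/
def fPart (H : Subgroup G) (p : ℕ) : Subgroup G :=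
  (Cfsg.pCore p H).map H.subtype

theorem fPart_le (H : Subgroup G) (p : ℕ) : fPart H p ≤ H := Subgroup.map_subtype_le _

theorem le_normalizer_fPart (H : Subgroup G) (p : ℕ) :
    H ≤ Subgroup.normalizer (fPart H p : Set G) := by
  have hnor : (Cfsg.pCore p H).Normal := HallCore.pCore_normal p H
  have key : ∀ b : H, ∀ x ∈ fPart H p, (b : G) * x * (b : G)⁻¹ ∈ fPart H p := by
    rintro b _ ⟨x, hx, rfl⟩
    exact ⟨b * x * b⁻¹, hnor.conj_mem x hx b, rfl⟩
  intro h hh
  rw [Subgroup.mem_normalizer_iff]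
  intro x
  refine ⟨key ⟨h, hh⟩ x, fun hx => ?_⟩
  have := key ⟨h⁻¹, H.inv_mem hh⟩ _ hx
  simpa [mul_assoc] using this

variable [Finite G]

theorem isPGroup_fPart (H : Subgroup G) (p : ℕ) : IsPGroup p (fPart H p) :=
  (HallCore.isPGroup_pCore p H).map _

theorem fPart_le_fittingOf (H : Subgroup G) {p : ℕ} (hp : p.Prime) :
    fPart H p ≤ Cfsg.fittingOf H :=
  Subgroup.map_mono (Cfsg.Agent.ComponentsFitting.pCore_le_fitting hp)

theorem fittingOf_le_of_forall (H : Subgroup G) {K : Subgroup G}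
    (h : ∀ p : ℕ, p.Prime → fPart H p ≤ K) : Cfsg.fittingOf H ≤ K := by
  rw [Cfsg.fittingOf, Cfsg.Agent.ComponentsFitting.fittingSubgroup_eq_iSup, Subgroup.map_iSup]
  exact iSup_le fun p => h p (Nat.prime_of_mem_primeFactors p.2)

theorem zPart_le_fPart (H : Subgroup G) (p : ℕ) :
    zPart (Cfsg.fittingOf H) p ≤ fPart H p := by
  have hle : zPart (Cfsg.fittingOf H) p ≤ H := (zPart_le _ p).trans (fittingOf_le H)
  have hn : ((zPart (Cfsg.fittingOf H) p).subgroupOf H).Normal :=
    Subgroup.normal_subgroupOf_of_le_normalizer (le_normalizer_zPart H p)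
  intro z hz
  exact ⟨⟨z, hle hz⟩, HallCore.le_pCore (hN := hn)
    ((isPGroup_zPart _ p).of_equiv (Subgroup.subgroupOfEquivOfLe hle).symm) hz, rfl⟩

/-- Elements of a `p`-group of order prime to `p` are trivial. -/
theorem eq_one_of_mem_pGroup {P : Subgroup G} {p : ℕ} (hP : IsPGroup p P) {x : G} (hx : x ∈ P)
    (hxp : (orderOf x).Coprime p) : x = 1 := by
  obtain ⟨j, hj⟩ := hP ⟨x, hx⟩
  rw [← orderOf_eq_one_iff]
  exact Nat.Coprime.eq_one_of_dvd (hxp.pow_right j)
    (orderOf_dvd_of_pow_eq_one (by simpa using congrArg Subtype.val hj))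

theorem coprime_orderOf_of_mem_pGroup {P : Subgroup G} {q p : ℕ} (hq : q.Prime) (hp : p.Prime)
    (hqp : q ≠ p) (hP : IsPGroup q P) {x : G} (hx : x ∈ P) : (orderOf x).Coprime p := by
  obtain ⟨j, hj⟩ := hP ⟨x, hx⟩
  exact (((Nat.coprime_primes hq hp).2 hqp).pow_left j).coprime_dvd_left
    (orderOf_dvd_of_pow_eq_one (by simpa using congrArg Subtype.val hj))

theorem commute_of_pGroups {P Q : Subgroup G} {p q : ℕ} (hq : q.Prime) (hp : p.Prime)
    (hqp : q ≠ p) (hP : IsPGroup p P) (hQ : IsPGroup q Q) {x y : G} (hx : x ∈ P) (hy : y ∈ Q)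
    (hxQ : x ∈ Subgroup.normalizer (Q : Set G)) (hyP : y ∈ Subgroup.normalizer (P : Set G)) :
    Commute x y := by
  have h1 : ⁅x, y⁆ ∈ Q := by
    rw [commutatorElement_def]
    exact Q.mul_mem ((Subgroup.mem_normalizer_iff.1 hxQ y).1 hy) (Q.inv_mem hy)
  have h2 : ⁅x, y⁆ ∈ P := by
    have := P.mul_mem hx ((Subgroup.mem_normalizer_iff.1 hyP x⁻¹).1 (P.inv_mem hx))
    simpa [commutatorElement_def, mul_assoc] using this
  exact commutatorElement_eq_one_iff_commute.1
    (eq_one_of_mem_pGroup hP h2 (coprime_orderOf_of_mem_pGroup hq hp hqp hQ h1))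

theorem exists_prime_parts (z : G) (p : ℕ) [hp : Fact p.Prime] :
    ∃ z₁ z₂ : G, z = z₁ * z₂ ∧ z₁ ∈ Subgroup.zpowers z ∧ z₂ ∈ Subgroup.zpowers z ∧
      (∃ k : ℕ, z₁ ^ p ^ k = 1) ∧ (orderOf z₂).Coprime p := by
  set n := orderOf z with hn
  have hn0 : n ≠ 0 := (orderOf_pos z).ne'
  set a := p ^ n.factorization p with ha
  set b := n / a with hb
  have hab : a * b = n := Nat.ordProj_mul_ordCompl_eq_self n p
  have hbp : b.Coprime p := (Nat.coprime_ordCompl hp.out hn0).symm
  have hgcd : a.Coprime b := (hbp.symm).pow_left _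
  set u := Nat.gcdA a b
  set v := Nat.gcdB a b
  have hbez : (1 : ℤ) = a * u + b * v := by
    have := Nat.gcd_eq_gcd_ab a b
    rwa [hgcd.gcd_eq_one, Nat.cast_one] at this
  have hz : z ^ ((a : ℤ) * b) = 1 := by
    rw [← Nat.cast_mul, hab, zpow_natCast, hn, pow_orderOf_eq_one]
  refine ⟨z ^ ((b : ℤ) * v), z ^ ((a : ℤ) * u), ?_, ⟨_, rfl⟩, ⟨_, rfl⟩,
    ⟨n.factorization p, ?_⟩, ?_⟩
  · rw [← zpow_add, add_comm, ← hbez, zpow_one]
  · rw [← ha, ← zpow_natCast, ← zpow_mul, show (b : ℤ) * v * a = (a * b : ℤ) * v by ring, zpow_mul,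
      hz, one_zpow]
  · refine hbp.coprime_dvd_left (orderOf_dvd_of_pow_eq_one ?_)
    rw [← zpow_natCast, ← zpow_mul, show (a : ℤ) * u * b = (a * b : ℤ) * u by ring, zpow_mul,
      hz, one_zpow]

/-- The centralizers of the central parts of `F(H)` lie in `H`. -/
def Controls (H : Subgroup G) : Prop :=
  ∀ p : ℕ, p.Prime → p ∣ Nat.card (Cfsg.fittingOf H) →
    Subgroup.centralizer (zPart (Cfsg.fittingOf H) p : Set G) ≤ H

theorem zPart_le_centralizer_fPart {H L : Subgroup G} (hH : Controls H) {p s : ℕ}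
    (hp : p.Prime) (hs : s.Prime) (hsp : s ≠ p) (hpd : p ∣ Nat.card (Cfsg.fittingOf H))
    (hTp : zPart (Cfsg.fittingOf H) p ≤ L) (hTs : zPart (Cfsg.fittingOf H) s ≤ L) :
    zPart (Cfsg.fittingOf H) s ≤ Subgroup.centralizer (fPart L p : Set G) := by
  have hpf := Fact.mk hp
  set F := Cfsg.fittingOf H
  set V := fPart L p with hV
  set T := zPart F p with hT
  intro t ht
  have hTV : T ≤ Subgroup.normalizer (V : Set G) := hTp.trans (le_normalizer_fPart L p)
  set W := V ⊔ T with hW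
  have hWp : IsPGroup p W :=
    (isPGroup_fPart L p).to_sup_of_normal_left' (isPGroup_zPart F p) hTV
  set A := Subgroup.zpowers t with hA
  have htC : ∀ b ∈ T, b * t = t * b := fun b hb => ht.2.1 b hb.1
  have hAW : A ≤ Subgroup.normalizer (W : Set G) := by
    refine SignalizerCoprime.le_normalizer_sup (Subgroup.zpowers_le.2
      (le_normalizer_fPart L p (hTs ht))) (Subgroup.zpowers_le.2 ?_)
    exact Subgroup.centralizer_le_normalizer _ htC
  have htp : (orderOf t).Coprime p :=
    coprime_orderOf_of_mem_pGroup hs hp hsp (isPGroup_zPart F s) ht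
  have hAT : ∀ b ∈ T, b ∈ Subgroup.centralizer (A : Set G) := by
    intro b hb
    rintro _ ⟨i, rfl⟩
    exact ((show Commute t b from (htC b hb).symm).zpow_left i).eq
  have hC := Cfsg.Agent.OddLocalBase.le_centralizer_of_centralizer_le W A hWp.isNilpotent hAW (by
      obtain ⟨k, hk⟩ := IsPGroup.iff_card.1 hWp
      rw [hk, hA, Nat.card_zpowers]
      exact htp.pow_right k) (by
    intro x hx
    have hx' : x ∈ (↑(V ⊔ T) : Set G) := hx.1
    rw [Subgroup.coe_mul_of_right_le_normalizer_left V T hTV] at hx'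
    obtain ⟨v, hv, b, hb, rfl⟩ := Set.mem_mul.1 hx'
    have hvT : v ∈ Subgroup.centralizer (T : Set G) := by
      intro b' hb'
      have h1 := hx.2 b' ⟨Subgroup.mem_sup_right hb', hAT b' hb'⟩
      have h2 := zPart_comm hb hb'
      refine mul_right_cancel (b := b) ?_
      calc b' * v * b = b' * (v * b) := mul_assoc _ _ _
        _ = (v * b) * b' := h1
        _ = v * (b * b') := mul_assoc _ _ _
        _ = v * (b' * b) := by rw [h2]
        _ = v * b' * b := (mul_assoc _ _ _).symm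
    have hvH : v ∈ H := hH p hp hpd hvT
    have hvt : Commute v t := commute_of_pGroups hs hp hsp (isPGroup_fPart L p)
      (isPGroup_zPart F s) hv ht (le_normalizer_zPart H s hvH) (le_normalizer_fPart L p (hTs ht))
    refine ⟨hx.1, Subgroup.mul_mem _ ?_ (hAT b hb)⟩
    rintro _ ⟨i, rfl⟩
    exact (hvt.symm.zpow_left i).eq)
  exact fun v hv => hC (Subgroup.mem_zpowers t) v (Subgroup.mem_sup_left hv)

/-- The `q`-elements of `H` centralizing all `O_p(H)`, `p ≠ q`. -/
def qSet (H : Subgroup G) (q : ℕ) : Set G :=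
  {x | x ∈ H ∧ (∃ k : ℕ, x ^ q ^ k = 1) ∧
    ∀ p : ℕ, p.Prime → p ≠ q → x ∈ Subgroup.centralizer (fPart H p : Set G)}

theorem qSet_subset {H L : Subgroup G} (hsolv : Group.IsSolvable H) (hL : Controls L) {q : ℕ}
    (hq : q.Prime) (hFL : Cfsg.fittingOf H ≤ L) (hUH : Cfsg.fittingOf L ≤ H)
    (hex : ∃ p : ℕ, p.Prime ∧ p ≠ q ∧ p ∣ Nat.card (Cfsg.fittingOf L)) :
    qSet H q ⊆ qSet L q := by
  rintro x ⟨hxH, hxq, hxC⟩
  set F := Cfsg.fittingOf H with hF
  have main : ∀ p : ℕ, p.Prime → p ≠ q → x ∈ Subgroup.centralizer (fPart L p : Set G) := by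
    intro p hp hpq u hu
    have hpf := Fact.mk hp
    have huH : u ∈ H := hUH (fPart_le_fittingOf L hp hu)
    have hur : ∀ r : ℕ, r.Prime → r ≠ p → ∀ f ∈ fPart H r, Commute u f := fun r hr hrp f hf =>
      commute_of_pGroups hr hp hrp (isPGroup_fPart L p) (isPGroup_fPart H r) hu hf
        (le_normalizer_fPart H r huH)
        (le_normalizer_fPart L p (hFL (fPart_le_fittingOf H hr hf)))
    set z := x * u * x⁻¹ * u⁻¹ with hz
    have hzH : z ∈ H := H.mul_mem (H.mul_mem (H.mul_mem hxH huH) (H.inv_mem hxH)) (H.inv_mem huH)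
    have hzC : z ∈ Subgroup.centralizer (F : Set G) := by
      have hle : F ≤ Subgroup.centralizer ({z} : Set G) := by
        refine fittingOf_le_of_forall H fun r hr f hf => Subgroup.mem_centralizer_singleton_iff.2 ?_
        suffices Commute f z from this.eq
        by_cases hrq : r = q
        · have hrp : r ≠ p := fun h => hpq (h.symm.trans hrq)
          have hc : ∀ g ∈ fPart H r, Commute u g := hur r hr hrp
          have hf' : x⁻¹ * f * x ∈ fPart H r := by
            have := (Subgroup.mem_normalizer_iff.1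
              (le_normalizer_fPart H r (H.inv_mem hxH)) f).1 hf
            simpa using this
          have h1 : Commute f (x * u * x⁻¹) := by
            have h2 := (hc _ hf').eq
            calc f * (x * u * x⁻¹) = x * ((x⁻¹ * f * x) * u) * x⁻¹ := by group
              _ = x * (u * (x⁻¹ * f * x)) * x⁻¹ := by rw [h2]
              _ = x * u * x⁻¹ * f := by group
          exact h1.mul_right (hc f hf).symm.inv_right
        · have hc : ∀ g ∈ fPart H r, Commute g x := fun g hg => hxC r hr hrq g hg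
          have hf' : u⁻¹ * f * u ∈ fPart H r := by
            have := (Subgroup.mem_normalizer_iff.1
              (le_normalizer_fPart H r (H.inv_mem huH)) f).1 hf
            simpa using this
          have h1 : Commute f (u * x⁻¹ * u⁻¹) := by
            have h2 := (hc _ hf').inv_right.eq
            calc f * (u * x⁻¹ * u⁻¹) = u * ((u⁻¹ * f * u) * x⁻¹) * u⁻¹ := by group
              _ = u * (x⁻¹ * (u⁻¹ * f * u)) * u⁻¹ := by rw [h2]
              _ = u * x⁻¹ * u⁻¹ * f := by group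
          have h3 : z = x * (u * x⁻¹ * u⁻¹) := by rw [hz]; group
          rw [h3]
          exact (hc f hf).mul_right h1
      exact fun f hf => Subgroup.mem_centralizer_singleton_iff.1 (hle hf)
    have hzF : z ∈ F := by
      have hk : (⟨z, hzH⟩ : H) ∈ Subgroup.centralizer (Cfsg.fittingSubgroup H : Set H) :=
        fun w hw => Subtype.ext (hzC _ ⟨w, hw, rfl⟩)
      haveI := hsolv
      exact ⟨_, Cfsg.Agent.ComponentsFitting.centralizer_fitting_le_of_solvable hk, rfl⟩
    obtain ⟨z₁, z₂, hz12, hz1, hz2, ⟨k, hk⟩, hord⟩ := exists_prime_parts z p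
    have hzpF : Subgroup.zpowers z ≤ F := Subgroup.zpowers_le.2 hzF
    have hzpC : Subgroup.zpowers z ≤ Subgroup.centralizer (F : Set G) :=
      Subgroup.zpowers_le.2 hzC
    have hz1T : z₁ ∈ zPart F p := ⟨hzpF hz1, hzpC hz1, k, hk⟩
    have hz2L : z₂ ∈ L := hFL (hzpF hz2)
    have huz2 : Commute u z₂ := by
      have h1 : u * z₂ * u⁻¹ * z₂⁻¹ ∈ fPart L p := by
        have := (fPart L p).mul_mem hu ((Subgroup.mem_normalizer_iff.1
          (le_normalizer_fPart L p hz2L) u⁻¹).1 ((fPart L p).inv_mem hu))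
        simpa [mul_assoc] using this
      have h2 : (orderOf (u * z₂ * u⁻¹ * z₂⁻¹)).Coprime p := by
        refine coprime_orderOf_mul F (isNilpotent_fittingOf H) p
          ((Subgroup.mem_normalizer_iff.1 (le_normalizer_fittingOf H huH) z₂).1 (hzpF hz2))
          (F.inv_mem (hzpF hz2)) ?_ (by rwa [orderOf_inv])
        have : orderOf (u * z₂ * u⁻¹) = orderOf z₂ :=
          orderOf_injective (MulAut.conj u).toMonoidHom (MulAut.conj u).injective z₂
        rwa [this]
      have h3 := eq_one_of_mem_pGroup (isPGroup_fPart L p) h1 h2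
      rw [mul_inv_eq_one, mul_inv_eq_iff_eq_mul] at h3
      exact h3
    have hT : IsPGroup p (zPart F p ⊔ fPart L p : Subgroup G) :=
      (isPGroup_zPart F p).to_sup_of_normal_left' (isPGroup_fPart L p)
        (fun v hv => le_normalizer_zPart H p (hUH (fPart_le_fittingOf L hp hv)))
    have hw : z₁ * u ∈ zPart F p ⊔ fPart L p :=
      mul_mem (Subgroup.mem_sup_left hz1T) (Subgroup.mem_sup_right hu)
    have hz2eq : z₂ = 1 := by
      have hcomm : Commute z₂ (z₁ * u) := by
        have h1 : Commute z₂ z₁ := (hz1T.2.1 z₂ (hzpF hz2))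
        exact h1.mul_right huz2.symm
      have hzu : z₂ * (z₁ * u) = x * u * x⁻¹ := by
        have h1 : z₂ * z₁ = z := by rw [hz12]; exact hz1T.2.1 z₂ (hzpF hz2)
        rw [← mul_assoc, h1, hz, inv_mul_cancel_right]
      obtain ⟨j, hj⟩ := IsPGroup.iff_orderOf.mp hT ⟨_, hw⟩
      obtain ⟨i, hi⟩ := IsPGroup.iff_orderOf.mp (isPGroup_fPart L p) ⟨u, hu⟩
      rw [Subgroup.orderOf_mk] at hj hi
      have e1 : u ^ p ^ (i + j) = 1 :=
        orderOf_dvd_iff_pow_eq_one.1 (by rw [hi]; exact pow_dvd_pow p (Nat.le_add_right i j))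
      have e2 : (z₁ * u) ^ p ^ (i + j) = 1 :=
        orderOf_dvd_iff_pow_eq_one.1 (by rw [hj]; exact pow_dvd_pow p (Nat.le_add_left j i))
      have h5 : (z₂ * (z₁ * u)) ^ p ^ (i + j) = 1 := by
        rw [hzu, conj_pow, e1, mul_one, mul_inv_cancel]
      rw [hcomm.mul_pow, e2, mul_one] at h5
      rw [← orderOf_eq_one_iff]
      exact Nat.Coprime.eq_one_of_dvd (hord.pow_right (i + j)) (orderOf_dvd_of_pow_eq_one h5)
    have hzT : z ∈ zPart F p := by rw [hz12, hz2eq, mul_one]; exact hz1T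
    have hxz : Commute x z :=
      (hxC p hp hpq z (zPart_le_fPart H p hzT)).symm
    have hconj : ∀ n : ℕ, x ^ n * u * (x ^ n)⁻¹ = z ^ n * u := by
      intro n
      induction n with
      | zero => simp
      | succ n ih =>
        calc x ^ (n + 1) * u * (x ^ (n + 1))⁻¹ = x * (x ^ n * u * (x ^ n)⁻¹) * x⁻¹ := by
              rw [pow_succ' x n]; group
          _ = (x * z ^ n) * u * x⁻¹ := by rw [ih]; group
          _ = (z ^ n * x) * u * x⁻¹ := by rw [(hxz.pow_right n).eq]
          _ = z ^ n * (z * u) := by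
              rw [show z * u = x * u * x⁻¹ by rw [hz]; group]; simp only [mul_assoc]
          _ = z ^ (n + 1) * u := by rw [pow_succ, mul_assoc (z ^ n)]
    obtain ⟨m, hm⟩ := hxq
    have hz1' : z = 1 := by
      have h1 := hconj (q ^ m)
      rw [hm, one_mul, inv_one, mul_one, right_eq_mul] at h1
      refine eq_one_of_mem_pGroup (isPGroup_zPart F p) hzT ?_ |>.trans rfl
      exact (((Nat.coprime_primes hq hp).2 (Ne.symm hpq)).pow_left m).coprime_dvd_left
        (orderOf_dvd_of_pow_eq_one h1)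
    rw [hz, mul_inv_eq_one, mul_inv_eq_iff_eq_mul] at hz1'
    exact hz1'.symm
  obtain ⟨p, hp, hpq, hpd⟩ := hex
  exact ⟨hL p hp hpd fun t ht => main p hp hpq t (zPart_le_fPart L p ht), hxq, main⟩

theorem normalizer_eq_of_isCoatom (hs : IsSimpleGroup G) {H S : Subgroup G} (hH : IsCoatom H)
    (hSH : S ≤ H) (hS : S ≠ ⊥) (hn : H ≤ Subgroup.normalizer (S : Set G)) :
    Subgroup.normalizer (S : Set G) = H := by
  rcases lt_or_eq_of_le hn with hlt | heq
  · exfalso
    have hnor : S.Normal := Subgroup.normalizer_eq_top_iff.1 (hH.2 _ hlt)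
    rcases hs.eq_bot_or_eq_top_of_normal S hnor with h | h
    · exact hS h
    · exact hH.1 (top_le_iff.1 (h.symm.le.trans hSH))
  · exact heq.symm

theorem controls_of_isCoatom (hs : IsSimpleGroup G) {H : Subgroup G} (hH : IsCoatom H) :
    Controls H := by
  intro p hp hpd
  have hpf := Fact.mk hp
  have h := normalizer_eq_of_isCoatom hs hH ((zPart_le _ p).trans (fittingOf_le H))
    (zPart_ne_bot _ (isNilpotent_fittingOf H) p hpd) (le_normalizer_zPart H p)
  exact Set.Subset.trans (Subgroup.centralizer_le_normalizer _) h.le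

theorem le_normalizer_closure_qSet (H : Subgroup G) (q : ℕ) :
    H ≤ Subgroup.normalizer (Subgroup.closure (qSet H q) : Set G) := by
  have hq : ∀ h ∈ H, ∀ x ∈ qSet H q, h * x * h⁻¹ ∈ qSet H q := by
    rintro h hh x ⟨hxH, ⟨k, hk⟩, hxC⟩
    refine ⟨H.mul_mem (H.mul_mem hh hxH) (H.inv_mem hh),
      ⟨k, by rw [conj_pow, hk, mul_one, mul_inv_cancel]⟩, fun p hp hpq f hf => ?_⟩
    have hf' : h⁻¹ * f * h ∈ fPart H p := by
      have := (Subgroup.mem_normalizer_iff.1 (le_normalizer_fPart H p (H.inv_mem hh)) f).1 hf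
      simpa using this
    have h2 := hxC p hp hpq _ hf'
    calc f * (h * x * h⁻¹) = h * ((h⁻¹ * f * h) * x) * h⁻¹ := by group
      _ = h * (x * (h⁻¹ * f * h)) * h⁻¹ := by rw [h2]
      _ = h * x * h⁻¹ * f := by group
  have hmem : ∀ h ∈ H, ∀ x ∈ Subgroup.closure (qSet H q),
      h * x * h⁻¹ ∈ Subgroup.closure (qSet H q) := by
    intro h hh x hx
    have hle : Subgroup.closure (qSet H q) ≤
        (Subgroup.closure (qSet H q)).comap (MulAut.conj h).toMonoidHom :=
      (Subgroup.closure_le _).2 fun y hy => Subgroup.subset_closure (hq h hh y hy)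
    exact hle hx
  intro h hh
  rw [Subgroup.mem_normalizer_iff]
  refine fun x => ⟨hmem h hh x, fun hx => ?_⟩
  have := hmem h⁻¹ (H.inv_mem hh) _ hx
  simpa [mul_assoc] using this

theorem eq_of_cross (hs : IsSimpleGroup G) {H L : Subgroup G} (hH : IsCoatom H) (hL : IsCoatom L)
    (hHs : Group.IsSolvable H) (hLs : Group.IsSolvable L)
    (hFL : Cfsg.fittingOf H ≤ L) (hUH : Cfsg.fittingOf L ≤ H)
    (hF2 : 2 ≤ (Nat.card (Cfsg.fittingOf H)).primeFactors.card)
    (hπ : ∀ p : ℕ, p.Prime → p ∣ Nat.card (Cfsg.fittingOf H) →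
      p ∣ Nat.card (Cfsg.fittingOf L)) : L = H := by
  obtain ⟨q, hq⟩ := Finset.card_pos.1 (lt_of_lt_of_le two_pos hF2)
  obtain ⟨p, hp, hpq⟩ := Finset.exists_mem_ne (lt_of_lt_of_le one_lt_two hF2) q
  have hq' := Nat.prime_of_mem_primeFactors hq
  have hqf := Fact.mk hq'
  have hp' := Nat.prime_of_mem_primeFactors hp
  have heq : qSet H q = qSet L q := Set.Subset.antisymm
    (qSet_subset hHs (controls_of_isCoatom hs hL) hq' hFL hUH
      ⟨p, hp', hpq, hπ p hp' (Nat.dvd_of_mem_primeFactors hp)⟩)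
    (qSet_subset hLs (controls_of_isCoatom hs hH) hq' hUH hFL
      ⟨p, hp', hpq, Nat.dvd_of_mem_primeFactors hp⟩)
  set S := Subgroup.closure (qSet H q) with hS
  have hSH : S ≤ H := (Subgroup.closure_le _).2 fun x hx => hx.1
  have hne : S ≠ ⊥ := by
    intro h
    refine zPart_ne_bot _ (isNilpotent_fittingOf H) q (Nat.dvd_of_mem_primeFactors hq) ?_
    rw [eq_bot_iff, ← h]
    intro z hz
    exact Subgroup.subset_closure ⟨fittingOf_le H hz.1, hz.2.2,
      fun r hr _ f hf => hz.2.1 f (fPart_le_fittingOf H hr hf)⟩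
  rw [← normalizer_eq_of_isCoatom hs hH hSH hne (le_normalizer_closure_qSet H q)]
  refine (normalizer_eq_of_isCoatom hs hL ?_ hne ?_).symm
  · rw [hS, heq]; exact (Subgroup.closure_le _).2 fun x hx => hx.1
  · rw [hS, heq]; exact le_normalizer_closure_qSet L q

theorem main (hG : Cfsg.IsMinSimpleOddOrder G) (H : Subgroup G) (hH : IsCoatom H)
    (hF2 : 2 ≤ (Nat.card (Cfsg.fittingOf H)).primeFactors.card) (M : Subgroup G)
    (hM : M ≤ Cfsg.fittingOf H)
    (hZM : Cfsg.fittingOf H ⊓ Subgroup.centralizer (Cfsg.fittingOf H : Set G) ≤ M)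
    (hinv : ∀ Y ∈ Cfsg.invSubgroups ⊤ M
      (Cfsg.primesNotDvd (Nat.card (Cfsg.fittingOf H))), Y = ⊥) :
    ∀ L : Subgroup G, IsCoatom L → M ≤ L → L = H := by
  intro L hL hML
  have hs := hG.2.1
  have hHs := hG.2.2.2 H hH.1
  have hLs := hG.2.2.2 L hL.1
  have hcH := controls_of_isCoatom hs hH
  have hcL := controls_of_isCoatom hs hL
  set F := Cfsg.fittingOf H
  set U := Cfsg.fittingOf L with hU
  have hT : ∀ p : ℕ, zPart F p ≤ L := fun p z hz => hML (hZM ⟨hz.1, hz.2.1⟩)
  have hUF : ∀ r : ℕ, r.Prime → r ∣ Nat.card U → r ∣ Nat.card F := by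
    intro r hr hrU
    by_contra hrF
    have hrf := Fact.mk hr
    have hY : fPart L r = ⊥ := hinv _ ⟨le_top, fun k hk hkY => by
      have hkr : k = r := by
        obtain ⟨j, hj⟩ := IsPGroup.iff_card.1 (isPGroup_fPart L r)
        rw [hj] at hkY
        exact (Nat.prime_dvd_prime_iff_eq hk hr).1 (hk.dvd_of_dvd_pow hkY)
      exact hkr ▸ ⟨hr, hrF⟩, hML.trans (le_normalizer_fPart L r)⟩
    exact zPart_ne_bot U (isNilpotent_fittingOf L) r hrU
      (le_bot_iff.1 ((zPart_le_fPart L r).trans hY.le))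
  have hbot : ∀ p : ℕ, p.Prime → ¬ p ∣ Nat.card U → fPart L p = ⊥ := by
    intro p hp hpU
    have hpf := Fact.mk hp
    obtain ⟨j, hj⟩ := IsPGroup.iff_card.1 (isPGroup_fPart L p)
    have hd : p ^ j ∣ Nat.card U := hj ▸ Subgroup.card_dvd_of_le (fPart_le_fittingOf L hp)
    rcases Nat.eq_zero_or_pos j with h0 | h0
    · exact Subgroup.card_eq_one.1 (by rw [hj, h0, pow_zero])
    · exact absurd ((dvd_pow_self p h0.ne').trans hd) hpU
  have hcent : ∀ p s : ℕ, p.Prime → s.Prime → s ≠ p →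
      zPart F s ≤ Subgroup.centralizer (fPart L p : Set G) := by
    intro p s hp hs' hsp
    by_cases hpU : p ∣ Nat.card U
    · exact zPart_le_centralizer_fPart hcH hp hs' hsp (hUF p hp hpU) (hT p) (hT s)
    · rw [hbot p hp hpU]
      intro t _ b hb
      rw [Subgroup.mem_bot.1 hb, one_mul, mul_one]
  have hFU : ∀ s : ℕ, s.Prime → s ∣ Nat.card F → s ∣ Nat.card U := by
    intro s hs' hsF
    by_contra hsU
    have hsf := Fact.mk hs'
    apply zPart_ne_bot F (isNilpotent_fittingOf H) s hsF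
    rw [eq_bot_iff]
    intro t ht
    have hle : U ≤ Subgroup.centralizer ({t} : Set G) := by
      refine fittingOf_le_of_forall L fun p hp f hf => Subgroup.mem_centralizer_singleton_iff.2 ?_
      by_cases hps : s = p
      · rw [hbot p hp (hps ▸ hsU), Subgroup.mem_bot] at hf
        rw [hf, one_mul, mul_one]
      · exact hcent p s hp hs' hps ht f hf
    have htU : t ∈ U := by
      have hk : (⟨t, hT s ht⟩ : L) ∈ Subgroup.centralizer (Cfsg.fittingSubgroup L : Set L) :=
        fun w hw => Subtype.ext (Subgroup.mem_centralizer_singleton_iff.1 (hle ⟨w, hw, rfl⟩))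
      haveI := hLs
      exact ⟨_, Cfsg.Agent.ComponentsFitting.centralizer_fitting_le_of_solvable hk, rfl⟩
    refine Subgroup.mem_bot.2 (eq_one_of_mem_pGroup (isPGroup_zPart F s) ht ?_)
    exact (((Nat.Prime.coprime_iff_not_dvd hs').2 hsU).symm).coprime_dvd_left
      (Subgroup.orderOf_dvd_natCard U htU)
  have hUH : U ≤ H := by
    refine fittingOf_le_of_forall L fun p hp u hu => ?_
    obtain ⟨s, hs', hsp⟩ := Finset.exists_mem_ne (lt_of_lt_of_le one_lt_two hF2) p
    exact hcH s (Nat.prime_of_mem_primeFactors hs') (Nat.dvd_of_mem_primeFactors hs')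
      fun t ht => (hcent p s hp (Nat.prime_of_mem_primeFactors hs') hsp ht u hu).symm
  have hTU : ∀ p : ℕ, zPart U p ≤ H := fun p => (zPart_le U p).trans hUH
  have hFL : F ≤ L := by
    refine fittingOf_le_of_forall H fun p hp u hu => ?_
    rcases eq_or_ne u 1 with rfl | hu1
    · exact L.one_mem
    have hpF : p ∣ Nat.card F := by
      have hpf := Fact.mk hp
      obtain ⟨j, hj⟩ := IsPGroup.iff_orderOf.mp (isPGroup_fPart H p) ⟨u, hu⟩
      rw [Subgroup.orderOf_mk] at hj
      rcases Nat.eq_zero_or_pos j with h0 | h0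
      · rw [h0, pow_zero, orderOf_eq_one_iff] at hj; exact absurd hj hu1
      · exact ((dvd_pow_self p h0.ne').trans hj.symm.dvd).trans
          (Subgroup.orderOf_dvd_natCard F (fPart_le_fittingOf H hp hu))
    obtain ⟨s, hs', hsp⟩ := Finset.exists_mem_ne (lt_of_lt_of_le one_lt_two hF2) p
    exact hcL s (Nat.prime_of_mem_primeFactors hs')
      (hFU s (Nat.prime_of_mem_primeFactors hs') (Nat.dvd_of_mem_primeFactors hs')) fun t ht =>
      (zPart_le_centralizer_fPart hcL hp (Nat.prime_of_mem_primeFactors hs') hsp (hFU p hp hpF)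
        (hTU p) (hTU s) ht u hu).symm
  exact eq_of_cross hs hH hL hHs hLs hFL hUH hF2 hFU

end Cfsg.Agent.BenderMaxUniqueness
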