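import Cfsg.Agent.Lib.BergerImpl30
import Cfsg.Agent.Lib.CharInducedCorr

/-!
Berger's theorem, core step: an induced quasi-primitive character is induced from a subgroup
with larger core (helper30).
-/

set_option autoImplicit false
set_option linter.unusedSectionVars false

open scoped commutatorElement

namespace Cfsg.Agent.BergerCore30

open Cfsg Cfsg.Agent.CharBasic Cfsg.Agent.CharBasicOrth Cfsg.Agent.CharBasicDecomp
  Cfsg.Agent.CharInduced Cfsg.Agent.BergerIsotypic30 Cfsg.Agent.BergerImpl30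

universe u

noncomputable local instance (priority := 100) fintypeOfFin {α : Type*} [Finite α] : Fintype α :=
  Fintype.ofFinite α

variable {G : Type u} [Group G] [Finite G]

theorem exists_isQ (L : Subgroup G) [L.Normal] {E : Type*} [AddCommGroup E] [Module ℂ E]
    [FiniteDimensional ℂ E] (φ : Representation ℂ L E)
    (hφg : ∀ (g : G) (l : L), φ.character (MulAut.conjNormal g l) = φ.character l) (g : G) :
    ∃ Q : (Module.End ℂ E)ˣ, IsQ L φ g Q := by
  let φg : Representation ℂ L E := φ.comp (MulAut.conjNormal g : L ≃* L).toMonoidHom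
  obtain ⟨P⟩ := nonempty_equiv_of_character_eq φ φg
    (funext fun l => (hφg g l).symm : φ.character = φg.character)
  refine ⟨⟨P.toLinearEquiv.toLinearMap, P.toLinearEquiv.symm.toLinearMap,
    LinearMap.ext fun v => P.toLinearEquiv.apply_symm_apply v,
    LinearMap.ext fun v => P.toLinearEquiv.symm_apply_apply v⟩, fun l => ?_⟩
  exact LinearMap.ext fun v => P.toIntertwiningMap.isIntertwining _ _ l v

theorem scalar_inv {E : Type*} [AddCommGroup E] [Module ℂ E] {A : (Module.End ℂ E)ˣ} {c : ℂ}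
    (h : (A : Module.End ℂ E) = c • 1) : ∃ d : ℂ, (↑A⁻¹ : Module.End ℂ E) = d • 1 := by
  by_cases hc : c = 0
  · refine ⟨0, ?_⟩
    have h1 := Units.mul_inv A
    rw [h, hc, zero_smul, zero_mul] at h1
    rw [zero_smul, ← one_mul (↑A⁻¹ : Module.End ℂ E), ← h1, zero_mul]
  · refine ⟨c⁻¹, ?_⟩
    rw [Units.inv_eq_of_mul_eq_one_right]
    rw [h, smul_mul_assoc, one_mul, smul_smul, mul_inv_cancel₀ hc, one_smul]

variable {d n t r : ℕ}

set_option maxHeartbeats 1600000 in
theorem core (H L K M : Subgroup G) [L.Normal] [K.Normal] [M.Normal]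
    (hKL : K ≤ L) (hKH : K ≤ H) (hinf : H ⊓ L ≤ K) (hprod : ∀ g : G, ∃ h ∈ H, ∃ l ∈ L, g = h * l)
    (hLM : L ≤ M) (hMc : ∀ a ∈ M, ∀ b ∈ M, ⁅a, b⁆ ∈ L) {q : ℕ} (hq : q.Prime)
    (hMq : ∀ x ∈ M, ∃ i, x ^ q ^ i ∈ L) (hidx : Nat.Coprime H.index q) (hidx1 : 1 < H.index)
    (hmin : ∀ N : Subgroup G, N.Normal → K ≤ N → N ≤ L → N = K ∨ N = L)
    (hnc : ∃ a ∈ M ⊓ H, ∃ l ∈ L, ⁅a, l⁆ ∉ K)
    (ρ : Representation ℂ G (Fin d → ℂ)) [ρ.IsIrreducible]
    (φ : Representation ℂ L (Fin n → ℂ)) [φ.IsIrreducible]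
    (θ : Representation ℂ K (Fin t → ℂ)) [θ.IsIrreducible]
    (σ : Representation ℂ H (Fin r → ℂ)) {f e : ℕ}
    (hρL : ∀ l : L, ρ.character (l : G) = (f : ℂ) * φ.character l)
    (hφK : (resK L K φ hKL).character = (e : ℂ) • θ.character)
    (ι : (Fin r → ℂ) →ₗ[ℂ] (Fin d → ℂ)) (π : (Fin d → ℂ) →ₗ[ℂ] (Fin r → ℂ))
    (hπι : ∀ y, π (ι y) = y) (hι : ∀ (h : H) y, ρ (h : G) (ι y) = ι (σ h y))
    (hπ : ∀ (h : H) v, π (ρ (h : G) v) = σ h (π v))
    (hoff : ∀ l : L, (l : G) ∉ K → ∀ y, π (ρ (l : G) (ι y)) = 0)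
    (hsum : ∀ v, ∑ l : L, ρ (l : G) (ι (π (ρ (l : G)⁻¹ v))) = (Nat.card K : ℂ) • v)
    (hdim : d = H.index * r) :
    ∃ U : Subgroup G, U ≠ ⊤ ∧ M ≤ U ∧ ∃ ξ : U → ℂ, IsCharacter U ξ ∧
      indFun U ξ = ρ.character := by
  classical
  -- degrees
  have hd : 0 < d := by simpa using finrank_pos_of_irreducible ρ
  have hn : 0 < n := by simpa using finrank_pos_of_irreducible φ
  have ht : 0 < t := by simpa using finrank_pos_of_irreducible θ
  have hdn : d = f * n := by
    have h := hρL 1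
    rw [OneMemClass.coe_one, Representation.char_one, Representation.char_one,
      Module.finrank_fin_fun, Module.finrank_fin_fun] at h
    exact_mod_cast h
  have hnet : n = e * t := by
    have h := congrFun hφK 1
    rw [Pi.smul_apply, smul_eq_mul, Representation.char_one, Representation.char_one,
      Module.finrank_fin_fun, Module.finrank_fin_fun] at h
    exact_mod_cast h
  have hf : (f : ℂ) ≠ 0 := by
    rintro h
    rw [Nat.cast_eq_zero] at h
    rw [h, zero_mul] at hdn
    omega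
  have he : (e : ℂ) ≠ 0 := by
    rintro h
    rw [Nat.cast_eq_zero] at h
    rw [h, zero_mul] at hnet
    omega
  have hρK : ∀ k : K, ρ.character (k : G) = (f : ℂ) * ((e : ℂ) * θ.character k) := fun k => by
    rw [show (k : G) = ((Subgroup.inclusion hKL k : L) : G) from rfl, hρL]
    congr 1
    exact congrFun hφK k
  have hφg : ∀ (g : G) (l : L), φ.character (MulAut.conjNormal g l) = φ.character l := by
    intro g l
    have h1 := hρL (MulAut.conjNormal g l)
    rw [MulAut.conjNormal_apply, Representation.char_conj, hρL] at h1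
    exact (mul_left_cancel₀ hf h1).symm
  have hθg : ∀ (g : G) (k : K), θ.character (MulAut.conjNormal g k) = θ.character k := by
    intro g k
    have h1 := hρK (MulAut.conjNormal g k)
    rw [MulAut.conjNormal_apply, Representation.char_conj, hρK] at h1
    exact (mul_left_cancel₀ he (mul_left_cancel₀ hf h1)).symm
  set α := resK L K φ hKL with hα
  let σK : Representation ℂ K (Fin r → ℂ) := σ.comp (Subgroup.inclusion hKH)
  let ρK : Representation ℂ K (Fin d → ℂ) := ρ.comp K.subtype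
  have hρKc : ρK.character = ((f : ℂ) * e) • θ.character := funext fun k => by
    rw [Pi.smul_apply, smul_eq_mul, mul_assoc]
    exact hρK k
  -- the restriction of `σ` to `K`
  obtain ⟨m, hm⟩ : ∃ m : ℕ, σK.character = (m : ℂ) • θ.character := by
    refine ⟨Module.finrank ℂ (homSpace θ σK), ?_⟩
    rw [← finrank_homSpace]
    have hc := isClassFunction_of_isCharacter (isCharacter_of_rep σK)
    refine (eq_sum_classInner hc).trans ?_
    have hθm : IsIrrCharacter K θ.character := isIrrCharacter_of_rep θ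
    rw [Finset.sum_eq_single ⟨θ.character, hθm⟩]
    · rintro ⟨η, hη⟩ - hne
      by_cases h : classInner σK.character η = 0
      · simp only [h, zero_smul]
      exfalso
      obtain ⟨k, τ, hτ, rfl⟩ := hη
      rw [finrank_homSpace, Nat.cast_eq_zero] at h
      have : Nontrivial (homSpace τ σK) := Module.finrank_pos_iff.1 (Nat.pos_of_ne_zero h)
      obtain ⟨⟨j, hj⟩, hj0⟩ := exists_ne (0 : homSpace τ σK)
      have h1 := constituent_ne_zero τ ρK (f := ι ∘ₗ j) (fun g w => by
        show ι (j (τ g w)) = ρ (g : G) (ι (j w))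
        rw [hj g w]
        exact (hι (Subgroup.inclusion hKH g) (j w)).symm) (fun h0 => hj0 (by
          refine Subtype.ext (LinearMap.ext fun w => ?_)
          have := congrArg π (LinearMap.congr_fun h0 w)
          simpa [hπι] using this))
      rw [hρKc, CharBasicOrth.classInner_smul_left, classInner_irr_ne hθm
        (isIrrCharacter_of_rep τ) (fun h' => hne (Subtype.ext h'.symm)), mul_zero] at h1
      exact h1 rfl
    · simp
  have hrmt : r = m * t := by
    have h := congrFun hm 1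
    rw [Pi.smul_apply, smul_eq_mul, Representation.char_one, Representation.char_one,
      Module.finrank_fin_fun, Module.finrank_fin_fun] at h
    exact_mod_cast h
  have hm0 : m ≠ 0 := by
    rintro rfl
    rw [zero_mul] at hrmt
    rw [hrmt, mul_zero] at hdim
    omega
  have hσθ : classInner σK.character θ.character ≠ 0 := by
    rw [hm, CharBasicOrth.classInner_smul_left, classInner_character_irreducible_self, mul_one]
    exact Nat.cast_ne_zero.2 hm0
  -- equivariant maps
  let X : Submodule ℂ ((Fin n → ℂ) →ₗ[ℂ] (Fin d → ℂ)) := homSpace φ (ρ.comp L.subtype)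
  let X' : Submodule ℂ ((Fin n → ℂ) →ₗ[ℂ] (Fin r → ℂ)) := homSpace α σK
  have hX : Module.finrank ℂ X = f := by
    have h := finrank_homSpace φ (ρ.comp L.subtype)
    rw [show Representation.character (ρ.comp L.subtype) = (f : ℂ) • φ.character from
      funext fun l => hρL l, CharBasicOrth.classInner_smul_left,
      classInner_character_irreducible_self, mul_one] at h
    exact (Nat.cast_injective h).symm
  have hX' : Module.finrank ℂ X' = m * e := by
    have h := finrank_homSpace α σK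
    rw [hm, hφK, CharBasicOrth.classInner_smul_left, CharBasicOrth.classInner_smul_right,
      classInner_character_irreducible_self, mul_one, Complex.conj_natCast] at h
    exact_mod_cast h.symm
  have hπX : ∀ x ∈ X, π ∘ₗ x ∈ X' := by
    intro x hx k w
    show π (x (φ (Subgroup.inclusion hKL k) w)) = σ (Subgroup.inclusion hKH k) (π (x w))
    rw [hx, ← hπ]
    rfl
  have hinj : ∀ x ∈ X, π ∘ₗ x = 0 → x = 0 := by
    intro x hx h0
    refine LinearMap.ext fun w => ?_
    have h1 := hsum (x w)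
    rw [Finset.sum_eq_zero fun l _ => ?_] at h1
    · rcases smul_eq_zero.1 h1.symm with h2 | h2
      · exact absurd (Nat.cast_eq_zero.1 h2) Nat.card_pos.ne'
      · exact h2
    · have h2 : ρ (l : G)⁻¹ (x w) = x (φ l⁻¹ w) := (hx l⁻¹ w).symm
      rw [h2, show π (x (φ l⁻¹ w)) = 0 from LinearMap.congr_fun h0 _, map_zero, map_zero]
  have hsurj : ∀ x' ∈ X', ∃ x ∈ X, π ∘ₗ x = x' := by
    intro x' hx'
    refine ⟨(Nat.card K : ℂ)⁻¹ • ∑ l : L, ρ (l : G) ∘ₗ ι ∘ₗ x' ∘ₗ φ l⁻¹, fun l w => ?_, ?_⟩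
    · simp only [LinearMap.smul_apply, LinearMap.sum_apply, LinearMap.comp_apply, map_smul, map_sum]
      congr 1
      refine Fintype.sum_equiv (Equiv.mulLeft l⁻¹) _ _ fun k => ?_
      show ρ (k : G) (ι (x' (φ k⁻¹ (φ l w)))) =
        ρ (l : G) (ρ ((l⁻¹ * k : L) : G) (ι (x' (φ (l⁻¹ * k)⁻¹ w))))
      rw [← Module.End.mul_apply (ρ (l : G)), ← map_mul, Subgroup.coe_mul,
        Subgroup.coe_inv, mul_inv_cancel_left, mul_inv_rev, inv_inv, map_mul φ k⁻¹ l]
      rfl
    · refine LinearMap.ext fun w => ?_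
      simp only [LinearMap.comp_apply, LinearMap.smul_apply, LinearMap.sum_apply, map_smul,
        map_sum]
      rw [← Finset.sum_subset (Finset.subset_univ (Finset.univ.filter fun l : L => (l : G) ∈ K))
        fun l _ hl => hoff l (by simpa using hl) _]
      rw [Finset.sum_congr rfl (g := fun _ => x' w) fun l hl => ?_, Finset.sum_const,
        ← Nat.cast_smul_eq_nsmul ℂ, smul_smul]
      · have hcard : (Finset.univ.filter fun l : L => (l : G) ∈ K).card = Nat.card K := by
          rw [← Fintype.card_subtype, ← Nat.card_eq_fintype_card]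
          exact Nat.card_congr
            { toFun := fun l => ⟨l.1, l.2⟩
              invFun := fun k => ⟨⟨k, hKL k.2⟩, k.2⟩
              left_inv := fun l => rfl
              right_inv := fun k => rfl }
        rw [hcard, inv_mul_cancel₀ (Nat.cast_ne_zero.2 Nat.card_pos.ne'), one_smul]
      · have hlK : (l : G) ∈ K := (Finset.mem_filter.1 hl).2
        have h1 := hx' ⟨(l : G), hlK⟩ (φ l⁻¹ w)
        rw [show ρ (l : G) = ρ ((⟨(l : G), hKH hlK⟩ : H) : G) from rfl, hπ, hπι]
        refine h1.symm.trans (congrArg x' ?_)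
        show φ l (φ l⁻¹ w) = w
        rw [Representation.self_inv_apply]
  have hfem : f = m * e := by
    rw [← hX, ← hX']
    let Φ : X →ₗ[ℂ] X' :=
      { toFun := fun x => ⟨π ∘ₗ x.1, hπX x.1 x.2⟩
        map_add' := fun a b => Subtype.ext (LinearMap.comp_add _ _ _)
        map_smul' := fun c a => Subtype.ext (LinearMap.comp_smul _ _ _) }
    refine (LinearEquiv.ofBijective Φ ⟨?_, fun x' => ?_⟩).finrank_eq
    · intro a b h
      refine Subtype.ext (sub_eq_zero.1 (hinj _ (sub_mem a.2 b.2) ?_))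
      rw [LinearMap.comp_sub, sub_eq_zero]
      exact congrArg Subtype.val h
    · obtain ⟨x, hx, hxe⟩ := hsurj x'.1 x'.2
      exact ⟨⟨x, hx⟩, Subtype.ext hxe⟩
  have hee : H.index = e * e := by
    have h1 : m * t * (e * e) = m * t * H.index :=
      calc m * t * (e * e) = f * n := by rw [hfem, hnet]; ring
        _ = m * t * H.index := by rw [← hdn, hdim, hrmt]; ring
    exact (Nat.eq_of_mul_eq_mul_left (Nat.mul_pos (Nat.pos_of_ne_zero hm0) ht) h1).symm
  -- intertwiners and implementers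
  choose Q hQ using exists_isQ L φ hφg
  have hsplit := fun g => exists_split hφK hθg (hQ g)
  choose y y' A hA hAy hQA using hsplit
  have hscal : ∀ {g : G} {B : (Module.End ℂ (Fin n → ℂ))ˣ}, Impl L K φ hKL g B →
      ∃ c : ℂ, (B : Module.End ℂ (Fin n → ℂ)) = c • (A g : Module.End ℂ (Fin n → ℂ)) :=
    fun hB => impl_unique hφK hθg (hA _) hB
  let H1 : Subgroup G := M ⊓ H
  have hH1H : ∀ {a : G}, a ∈ H1 → a ∈ H := fun h => h.2
  have hcommK : ∀ a ∈ H1, ∀ b ∈ H1, ⁅a, b⁆ ∈ K := by
    intro a ha b hb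
    refine hinf (Subgroup.mem_inf.2 ⟨?_, hMc a ha.1 b hb.1⟩)
    rw [commutatorElement_def]
    exact mul_mem (mul_mem (mul_mem (hH1H ha) (hH1H hb)) (inv_mem (hH1H ha))) (inv_mem (hH1H hb))
  have hpowK : ∀ a ∈ H1, ∃ i, a ^ q ^ i ∈ K := by
    intro a ha
    obtain ⟨i, hi⟩ := hMq a ha.1
    exact ⟨i, hinf ⟨pow_mem (hH1H ha) _, hi⟩⟩
  have hpowA : ∀ a ∈ H1, ∃ (N : ℕ) (c : ℂ), N ≠ 0 ∧ (∃ i, N = q ^ i) ∧ c ≠ 0 ∧
      ((A a : Module.End ℂ (Fin n → ℂ)) ^ N) = c • 1 := by
    intro a ha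
    obtain ⟨i, hi⟩ := hpowK a ha
    obtain ⟨c, hc⟩ := impl_unique hφK hθg (impl_of_mem (φ := φ) (hKL := hKL) hi)
      ((hA a).pow (q ^ i))
    rw [Units.val_one, Units.val_pow_eq_pow_val] at hc
    refine ⟨q ^ i, c, pow_ne_zero _ hq.ne_zero, ⟨i, rfl⟩, fun hc0 => ?_, hc⟩
    have : Nonempty (Fin n) := ⟨⟨0, hn⟩⟩
    refine (A a ^ q ^ i).ne_zero ?_
    rw [Units.val_pow_eq_pow_val, hc, hc0, zero_smul]
  -- commuting
  have hAcomm : ∀ a ∈ H1, ∀ b ∈ H1,
      Commute (A a : Module.End ℂ (Fin n → ℂ)) (A b : Module.End ℂ (Fin n → ℂ)) := by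
    intro a ha b hb
    have hab : Impl L K φ hKL ⁅a, b⁆ (A a * A b * (A a)⁻¹ * (A b)⁻¹) :=
      (((hA a).mul (hA b)).mul (hA a).inv).mul (hA b).inv
    obtain ⟨c, hc⟩ := impl_unique hφK hθg (impl_of_mem (φ := φ) (hKL := hKL) (hcommK a ha b hb)) hab
    rw [Units.val_one] at hc
    have h1 : (A a : Module.End ℂ (Fin n → ℂ)) * A b = c • ((A b : Module.End ℂ (Fin n → ℂ)) * A a) := by
      have h := congrArg (fun T : Module.End ℂ (Fin n → ℂ) => T * (A b * A a)) hc
      simp only [Units.val_mul, mul_assoc, Units.inv_mul_cancel_left, Units.inv_mul, mul_one,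
        smul_mul_assoc, one_mul] at h
      exact h
    obtain ⟨N, cN, hN0, ⟨i, rfl⟩, hcN, hAN⟩ := hpowA a ha
    have : Nonempty (Fin n) := ⟨⟨0, hn⟩⟩
    have hpw : ∀ j, (A a : Module.End ℂ (Fin n → ℂ)) ^ j * A b =
        c ^ j • ((A b : Module.End ℂ (Fin n → ℂ)) * (A a : Module.End ℂ (Fin n → ℂ)) ^ j) := by
      intro j
      induction j with
      | zero => simp
      | succ j ih =>
        rw [pow_succ' (A a : Module.End ℂ (Fin n → ℂ)), mul_assoc, ih, mul_smul_comm, ← mul_assoc,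
          h1, smul_mul_assoc, smul_smul, mul_assoc, ← pow_succ c j]
    have hcq : c ^ q ^ i = 1 := by
      have h := hpw (q ^ i)
      rw [hAN, smul_mul_assoc, one_mul, mul_smul_comm, mul_one, smul_smul] at h
      have h2 : (cN : ℂ) • (A b : Module.End ℂ (Fin n → ℂ)) = (c ^ q ^ i * cN) • (A b : Module.End ℂ (Fin n → ℂ)) := h
      have h3 := smul_left_injective ℂ (A b).ne_zero h2
      exact (mul_eq_right₀ hcN).1 h3.symm
    -- determinant on `Hom_K(θ, φ)`
    let W := homSpace θ α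
    have : Module.Free ℂ ↥W := Module.Free.of_divisionRing ℂ ↥W
    let Lm : ∀ T : Module.End ℂ (Fin n → ℂ), Comm L K φ hKL T → Module.End ℂ W := fun T hT =>
      { toFun := fun x => ⟨T ∘ₗ x.1, fun k w => by
          show T (x.1 (θ k w)) = α k (T (x.1 w))
          rw [x.2 k w, ← Module.End.mul_apply, hT k]; rfl⟩
        map_add' := fun x x' => Subtype.ext (LinearMap.comp_add _ _ _)
        map_smul' := fun z x => Subtype.ext (LinearMap.comp_smul _ _ _) }
    have hWe : Module.finrank ℂ W = e := by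
      have h := finrank_homSpace θ α
      rw [hφK, CharBasicOrth.classInner_smul_left, classInner_character_irreducible_self,
        mul_one] at h
      exact (Nat.cast_injective h).symm
    have hunit : ∀ (B : (Module.End ℂ (Fin n → ℂ))ˣ) (hB : Comm L K φ hKL (B : Module.End ℂ (Fin n → ℂ))),
        LinearMap.det (Lm _ hB) ≠ 0 := by
      intro B hB h0
      have h2 : Lm _ hB * Lm _ hB.inv = 1 := LinearMap.ext fun x => Subtype.ext (LinearMap.ext
        fun w => by
          show (B : Module.End ℂ (Fin n → ℂ)) ((↑B⁻¹ : Module.End ℂ (Fin n → ℂ)) (x.1 w)) = x.1 w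
          rw [← Module.End.mul_apply, Units.mul_inv]; rfl)
      have h3 := congrArg (fun T : Module.End ℂ W => LinearMap.det T) h2
      rw [map_mul, h0, zero_mul, map_one] at h3
      exact zero_ne_one h3
    have h4 : Lm _ (hA a).1 * Lm _ (hA b).1 = c • (Lm _ (hA b).1 * Lm _ (hA a).1) :=
      LinearMap.ext fun x => Subtype.ext (LinearMap.ext fun w => by
        exact LinearMap.congr_fun h1 (x.1 w))
    have hce : c ^ e = 1 := by
      have h5 := congrArg (fun T : Module.End ℂ W => LinearMap.det T) h4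
      simp only [LinearMap.det_smul, hWe, map_mul] at h5
      refine mul_right_cancel₀ (mul_ne_zero (hunit _ (hA a).1) (hunit _ (hA b).1)) ?_
      linear_combination -h5
    have hgcd : Nat.Coprime (q ^ i) e := by
      refine Nat.Coprime.pow_left _ ?_
      rw [hee] at hidx
      exact (Nat.Coprime.coprime_mul_left hidx).symm
    have hc1 : c = 1 := by
      have := pow_gcd_eq_one.2 (⟨hcq, hce⟩ : c ^ q ^ i = 1 ∧ c ^ e = 1)
      rwa [Nat.Coprime.gcd_eq_one hgcd, pow_one] at this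
    show _ * _ = _ * _
    rw [h1, hc1, one_smul]
  -- some implementer is not scalar
  obtain ⟨a₀, ha₀, hns⟩ : ∃ a ∈ H1, ∀ c : ℂ, (A a : Module.End ℂ (Fin n → ℂ)) ≠ c • 1 := by
    by_contra hcon
    push Not at hcon
    let L1 : Subgroup G :=
      { carrier := {g | g ∈ L ∧ ∃ B : (Module.End ℂ (Fin n → ℂ))ˣ, Impl L K φ hKL g B ∧
          ∃ c : ℂ, (B : Module.End ℂ (Fin n → ℂ)) = c • 1}
        one_mem' := ⟨one_mem L, 1, impl_of_mem (one_mem K), 1, by rw [one_smul]; rfl⟩
        mul_mem' := by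
          rintro g g' ⟨hg, B, hB, c, hc⟩ ⟨hg', B', hB', c', hc'⟩
          exact ⟨mul_mem hg hg', B * B', hB.mul hB', c * c',
            by rw [Units.val_mul, hc, hc', smul_mul_smul_comm, one_mul]⟩
        inv_mem' := by
          rintro g ⟨hg, B, hB, c, hc⟩
          exact ⟨inv_mem hg, B⁻¹, hB.inv, scalar_inv hc⟩ }
    have hL1n : L1.Normal := ⟨fun x hx g => by
      obtain ⟨hxL, B, hB, c, hc⟩ := hx
      refine ⟨Subgroup.Normal.conj_mem ‹L.Normal› x hxL g, A g * B * (A g)⁻¹,
        ((hA g).mul hB).mul (hA g).inv, c, ?_⟩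
      rw [Units.val_mul, Units.val_mul, hc, mul_smul_comm, mul_one, smul_mul_assoc, Units.mul_inv]⟩
    rcases hmin L1 hL1n (fun k hk => ⟨hKL hk, 1, impl_of_mem hk, 1, by rw [one_smul]; rfl⟩)
      (fun x hx => hx.1) with h | h
    · obtain ⟨a, ha, l, hl, hal⟩ := hnc
      refine hal ?_
      rw [← h]
      obtain ⟨c, hc⟩ := hcon a ha
      refine ⟨?_, _, (((hA a).mul (hA l)).mul (hA a).inv).mul (hA l).inv, 1, ?_⟩
      · rw [commutatorElement_def]
        exact mul_mem (Subgroup.Normal.conj_mem ‹L.Normal› l hl a) (inv_mem hl)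
      · obtain ⟨c', hc'⟩ := scalar_inv hc
        have hci : c * c' = 1 := by
          have hm1 := Units.mul_inv (A a)
          rw [hc, hc', smul_mul_smul_comm, one_mul] at hm1
          have : Nonempty (Fin n) := ⟨⟨0, hn⟩⟩
          exact smul_left_injective ℂ (one_ne_zero (α := Module.End ℂ (Fin n → ℂ)))
            (show (c * c') • (1 : Module.End ℂ (Fin n → ℂ)) = (1 : ℂ) • 1 by rw [hm1, one_smul])
        simp only [Units.val_mul, hc, hc', smul_mul_assoc, one_mul, mul_smul_comm, mul_one,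
          smul_smul]
        rw [mul_comm c', hci, one_smul, Units.mul_inv, one_smul]
    · -- then `φ` restricted to `K` would be irreducible
      have hK : α.IsIrreducible := by
        have hnt := nontrivial_of_irreducible φ
        have : Nontrivial (Subrepresentation α) :=
          ⟨⊥, ⊤, fun e => bot_ne_top (α := Submodule ℂ (Fin n → ℂ))
            (congrArg Subrepresentation.toSubmodule e)⟩
        refine ⟨fun S => ?_⟩
        have hS : ∀ (l : L) ⦃v⦄, v ∈ S.toSubmodule → φ l v ∈ S.toSubmodule := by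
          intro l v hv
          have hl1 : (l : G) ∈ L1 := by rw [h]; exact l.2
          obtain ⟨-, B, hB, c, hc⟩ := hl1
          obtain ⟨y₁, y₂, A', hA', -, hl⟩ := exists_split hφK hθg (isQ_unitOf (L := L) (φ := φ) l)
          obtain ⟨c', hc'⟩ := impl_unique hφK hθg hB hA'
          rw [← coe_unitOf (φ := φ) l, hl, hc', hc, Module.End.mul_apply, smul_smul]
          refine Submodule.smul_mem _ _ ?_
          rw [Module.End.one_apply]
          have hSy : ∀ z : MonoidAlgebra ℂ K, α.asAlgebraHom z v ∈ S.toSubmodule := by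
            intro z
            induction z using MonoidAlgebra.induction_on with
            | of k =>
              rw [MonoidAlgebra.of_apply, Representation.asAlgebraHom_single_one]
              exact S.apply_mem_toSubmodule k hv
            | add a b ha hb => rw [map_add, LinearMap.add_apply]; exact add_mem ha hb
            | smul z a ha => rw [map_smul, LinearMap.smul_apply]; exact Submodule.smul_mem _ _ ha
          exact hSy y₂
        rcases eq_bot_or_eq_top (⟨S.toSubmodule, hS⟩ : Subrepresentation φ) with e' | e'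
        · exact Or.inl (Subrepresentation.toSubmodule_injective
            (congrArg (fun T : Subrepresentation φ => T.toSubmodule) e' :
              S.toSubmodule = (⊥ : Submodule ℂ (Fin n → ℂ))))
        · exact Or.inr (Subrepresentation.toSubmodule_injective
            (congrArg (fun T : Subrepresentation φ => T.toSubmodule) e' :
              S.toSubmodule = (⊤ : Submodule ℂ (Fin n → ℂ))))
      have h1 := classInner_character_irreducible_self α
      rw [hφK, CharBasicOrth.classInner_smul_left, CharBasicOrth.classInner_smul_right,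
        classInner_character_irreducible_self, mul_one, Complex.conj_natCast, ← Nat.cast_mul,
        Nat.cast_eq_one, ← hee] at h1
      omega
  -- joint eigenspaces
  let Af : H1 → Module.End ℂ (Fin n → ℂ) := fun a => (A (a : G) : Module.End ℂ (Fin n → ℂ))
  let Es : (H1 → ℂ) → Submodule ℂ (Fin n → ℂ) := fun μ =>
    ⨅ a, (Af a).maxGenEigenspace (μ a)
  have hmaps : ∀ i j z, Set.MapsTo (Af i) ((Af j).maxGenEigenspace z) ((Af j).maxGenEigenspace z) :=
    fun i j z => Module.End.mapsTo_maxGenEigenspace_of_comm (hAcomm _ j.2 _ i.2) z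
  have hind : iSupIndep Es :=
    Module.End.independent_iInf_maxGenEigenspace_of_forall_mapsTo Af hmaps
  have htop : (⨆ μ, Es μ) = ⊤ :=
    Module.End.iSup_iInf_maxGenEigenspace_eq_top_of_forall_mapsTo Af hmaps
      fun a => Module.End.iSup_maxGenEigenspace_eq_top (Af a)
  have hEK : ∀ μ (k : K) v, v ∈ Es μ → α k v ∈ Es μ := by
    intro μ k v hv
    simp only [Es, Submodule.mem_iInf] at hv ⊢
    exact fun a => Module.End.mapsTo_maxGenEigenspace_of_comm ((hA (a : G)).1 k) _ (hv a)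
  -- intertwiners permute them
  have hperm : ∀ h ∈ H, ∀ R, IsQ L φ h R → ∀ μ, ∃ μ', (Es μ).map (R : Module.End ℂ (Fin n → ℂ)) ≤ Es μ' := by
    intro h hh R hR μ
    have hback : ∀ b : H1, ∃ (a : H1) (z : ℂ),
        (R : Module.End ℂ (Fin n → ℂ)) * Af a * ↑R⁻¹ = z • Af b ∧ z ≠ 0 := by
      intro b
      refine ⟨⟨h⁻¹ * b * h, Subgroup.mem_inf.2 ⟨Subgroup.Normal.conj_mem' ‹M.Normal› _ b.2.1 h,
        mul_mem (mul_mem (inv_mem hh) (hH1H b.2)) hh⟩⟩, ?_⟩
      have hi := ((hA h).mul (hA (h⁻¹ * b * h))).mul (hA h).inv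
      rw [show h * (h⁻¹ * b * h) * h⁻¹ = (b : G) by simp [mul_assoc]] at hi
      obtain ⟨z, hz⟩ := impl_unique hφK hθg (hA (b : G)) hi
      refine ⟨z, ?_, fun hz0 => ?_⟩
      · rw [(hA h).conj_eq hR (hA _).1, ← Units.val_mul, ← Units.val_mul]
        exact hz
      · have : Nonempty (Fin n) := ⟨⟨0, hn⟩⟩
        exact (A h * A (h⁻¹ * ↑b * h) * (A h)⁻¹).ne_zero (by rw [hz, hz0, zero_smul])
    choose a z hz hz0 using hback
    refine ⟨fun b => μ (a b) / z b, ?_⟩
    rintro _ ⟨v, hv, rfl⟩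
    simp only [SetLike.mem_coe, Es, Submodule.mem_iInf, Module.End.mem_maxGenEigenspace] at hv ⊢
    intro b
    obtain ⟨k, hk⟩ := hv (a b)
    refine ⟨k, ?_⟩
    have hrel : Af b - (μ (a b) / z b) • (1 : Module.End ℂ (Fin n → ℂ)) =
        (z b)⁻¹ • ((R : Module.End ℂ (Fin n → ℂ)) * (Af (a b) - μ (a b) • 1) * ↑R⁻¹) := by
      rw [mul_sub, sub_mul, hz b, mul_smul_comm, mul_one, smul_mul_assoc, Units.mul_inv, smul_sub,
        smul_smul, smul_smul, inv_mul_cancel₀ (hz0 b), one_smul, div_eq_inv_mul]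
    rw [hrel, smul_pow, Units.conj_pow, LinearMap.smul_apply, Module.End.mul_apply,
      Module.End.mul_apply, ← Module.End.mul_apply (↑R⁻¹ : Module.End ℂ (Fin n → ℂ)),
      Units.inv_mul, Module.End.one_apply, hk, map_zero, smul_zero]
  have hperm' : ∀ h ∈ H, ∀ R, IsQ L φ h R → ∀ μ, Es μ ≠ ⊥ →
      ∃ μ', (Es μ).map (R : Module.End ℂ (Fin n → ℂ)) = Es μ' := by
    intro h hh R hR μ hμ
    obtain ⟨μ', h1⟩ := hperm h hh R hR μ
    obtain ⟨μ'', h2⟩ := hperm h⁻¹ (inv_mem hh) R⁻¹ hR.inv μ'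
    have h3 : μ'' = μ := by
      by_contra hne
      obtain ⟨v, hv, hv0⟩ := Submodule.exists_mem_ne_zero_of_ne_bot hμ
      refine hv0 (Submodule.disjoint_def.1 (hind.pairwiseDisjoint (Ne.symm hne)) v hv ?_)
      have h4 := h2 ⟨_, h1 ⟨v, hv, rfl⟩, rfl⟩
      rwa [← Module.End.mul_apply, Units.inv_mul, Module.End.one_apply] at h4
    refine ⟨μ', le_antisymm h1 fun w hw => ⟨(↑R⁻¹ : Module.End ℂ (Fin n → ℂ)) w,
      h3 ▸ h2 ⟨w, hw, rfl⟩, ?_⟩⟩
    rw [← Module.End.mul_apply, Units.mul_inv, Module.End.one_apply]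
  have hfixH1 : ∀ a ∈ H1, ∀ R, IsQ L φ a R → ∀ μ,
      (Es μ).map (R : Module.End ℂ (Fin n → ℂ)) = Es μ := by
    have hle : ∀ a ∈ H1, ∀ R, IsQ L φ a R → ∀ μ,
        (Es μ).map (R : Module.End ℂ (Fin n → ℂ)) ≤ Es μ := by
      intro a ha R hR μ
      rintro _ ⟨v, hv, rfl⟩
      simp only [SetLike.mem_coe, Es, Submodule.mem_iInf] at hv ⊢
      intro b
      have h1 : (R : Module.End ℂ (Fin n → ℂ)) * Af b * ↑R⁻¹ = Af b := by
        show _ * (A (b : G) : Module.End ℂ (Fin n → ℂ)) * _ = _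
        rw [(hA a).conj_eq hR (hA (b : G)).1, (hAcomm a ha b b.2).eq, mul_assoc, Units.mul_inv,
          mul_one]
      refine Module.End.mapsTo_maxGenEigenspace_of_comm (f := Af b) ?_ _ (hv b)
      show _ * _ = _ * _
      rw [Units.mul_inv_eq_iff_eq_mul] at h1
      exact h1.symm
    intro a ha R hR μ
    refine le_antisymm (hle a ha R hR μ) fun w hw => ⟨(↑R⁻¹ : Module.End ℂ (Fin n → ℂ)) w,
      hle a⁻¹ (inv_mem ha) R⁻¹ hR.inv μ ⟨w, hw, rfl⟩, ?_⟩
    rw [← Module.End.mul_apply, Units.mul_inv, Module.End.one_apply]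
  -- a weight
  obtain ⟨μ, hμ⟩ : ∃ μ, Es μ ≠ ⊥ := by
    by_contra hcon
    push Not at hcon
    simp only [hcon, iSup_bot] at htop
    have : Nonempty (Fin n) := ⟨⟨0, hn⟩⟩
    exact bot_ne_top htop
  -- the stabiliser
  let UH : Subgroup G :=
    { carrier := {h | h ∈ H ∧ ∀ R, IsQ L φ h R → (Es μ).map (R : Module.End ℂ (Fin n → ℂ)) = Es μ}
      one_mem' := ⟨one_mem H, fun R hR => hfixH1 1 (one_mem H1) R hR μ⟩
      mul_mem' := by
        rintro g g' ⟨hg, h1⟩ ⟨hg', h2⟩
        refine ⟨mul_mem hg hg', fun R hR => ?_⟩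
        obtain ⟨c, hc⟩ := isQ_unique ((hQ g).mul (hQ g')) hR
        have hc0 : c ≠ 0 := fun h0 => by
          have : Nonempty (Fin n) := ⟨⟨0, hn⟩⟩
          exact R.ne_zero (by rw [hc, h0, zero_smul])
        rw [hc, Submodule.map_smul _ _ _ hc0, Units.val_mul, Module.End.mul_eq_comp,
          Submodule.map_comp, h2 _ (hQ g'), h1 _ (hQ g)]
      inv_mem' := by
        rintro g ⟨hg, h1⟩
        refine ⟨inv_mem hg, fun R hR => ?_⟩
        have h2 := h1 R⁻¹ (by simpa using hR.inv)
        conv_lhs => rw [← h2]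
        rw [← Submodule.map_comp, ← Module.End.mul_eq_comp, Units.mul_inv,
          Module.End.one_eq_id, Submodule.map_id] }
  let U : Subgroup G := L ⊔ UH
  have hUH : ∀ h ∈ H, h ∈ U → h ∈ UH := by
    intro h hh hU
    obtain ⟨l, hl, u, hu, rfl⟩ := Subgroup.mem_sup_of_normal_left.1 hU
    have hlH : l ∈ H := by simpa using mul_mem hh (inv_mem hu.1)
    have hlK : l ∈ K := hinf ⟨hlH, hl⟩
    have hlU : l ∈ UH := ⟨hlH, fun R hR => hfixH1 l ⟨hLM hl, hlH⟩ R hR μ⟩
    exact mul_mem hlU hu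
  -- the weight spaces
  let Xs : (H1 → ℂ) → Submodule ℂ ((Fin n → ℂ) →ₗ[ℂ] (Fin d → ℂ)) := fun ν =>
    { carrier := {x | x ∈ X ∧ ∀ ν', ν' ≠ ν → ∀ v ∈ Es ν', π (x v) = 0}
      add_mem' := fun {a b} ha hb => ⟨add_mem ha.1 hb.1, fun ν' hν v hv => by
        simp [ha.2 ν' hν v hv, hb.2 ν' hν v hv]⟩
      zero_mem' := ⟨zero_mem X, fun _ _ v _ => by simp⟩
      smul_mem' := fun c a ha => ⟨Submodule.smul_mem X c ha.1, fun ν' hν v hv => by
        simp [ha.2 ν' hν v hv]⟩ }
  have htr : ∀ h ∈ H, ∀ R, IsQ L φ h R → ∀ x ∈ X,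
      ρ h ∘ₗ x ∘ₗ (↑R⁻¹ : Module.End ℂ (Fin n → ℂ)) ∈ X ∧
      ∀ v, π ((ρ h ∘ₗ x ∘ₗ (↑R⁻¹ : Module.End ℂ (Fin n → ℂ))) ((R : Module.End ℂ (Fin n → ℂ)) v)) =
        (fun y => π (ρ h y)) (x v) := by
    intro h hh R hR x hx
    refine ⟨fun l w => ?_, fun v => ?_⟩
    · show ρ h (x ((↑R⁻¹ : Module.End ℂ (Fin n → ℂ)) (φ l w))) = ρ (l : G) (ρ h (x _))
      rw [← Module.End.mul_apply, hR.inv l, Module.End.mul_apply, hx]
      show ρ h (ρ ((MulAut.conjNormal h⁻¹ l : L) : G) _) = _
      rw [MulAut.conjNormal_apply, inv_inv, ← Module.End.mul_apply, ← map_mul,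
        ← mul_assoc, mul_inv_cancel_left, map_mul, Module.End.mul_apply]
    · show π (ρ h (x ((↑R⁻¹ : Module.End ℂ (Fin n → ℂ)) ((R : Module.End ℂ (Fin n → ℂ)) v)))) = _
      rw [← Module.End.mul_apply, Units.inv_mul, Module.End.one_apply]
  have hmove : ∀ h ∈ H, ∀ R, IsQ L φ h R → ∀ ν ν',
      (Es ν).map (R : Module.End ℂ (Fin n → ℂ)) = Es ν' → Es ν ≠ ⊥ → ∀ x ∈ Xs ν,
        ρ h ∘ₗ x ∘ₗ (↑R⁻¹ : Module.End ℂ (Fin n → ℂ)) ∈ Xs ν' := by
    intro h hh R hR ν ν' hνν hν x hx
    obtain ⟨h1, h2⟩ := htr h hh R hR x hx.1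
    refine ⟨h1, fun ν'' hne w hw => ?_⟩
    by_cases hw0 : Es ν'' = ⊥
    · rw [hw0, Submodule.mem_bot] at hw
      rw [hw, map_zero, map_zero]
    obtain ⟨ν₀, h3⟩ := hperm' h⁻¹ (inv_mem hh) R⁻¹ hR.inv ν'' hw0
    have hv : (↑R⁻¹ : Module.End ℂ (Fin n → ℂ)) w ∈ Es ν₀ := h3 ▸ ⟨w, hw, rfl⟩
    have hne0 : ν₀ ≠ ν := by
      rintro rfl
      rw [← h3, ← Submodule.map_comp, ← Module.End.mul_eq_comp, Units.mul_inv,
        Module.End.one_eq_id, Submodule.map_id] at hνν
      obtain ⟨v, hv', hv0⟩ := Submodule.exists_mem_ne_zero_of_ne_bot hw0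
      exact hv0 (Submodule.disjoint_def.1 (hind.pairwiseDisjoint hne) v hv' (hνν ▸ hv'))
    show π (ρ h (x ((↑R⁻¹ : Module.End ℂ (Fin n → ℂ)) w))) = 0
    rw [show ρ h = ρ ((⟨h, hh⟩ : H) : G) from rfl, hπ, hx.2 ν₀ hne0 _ hv, map_zero]
  have : Module.Free ℂ ↥(Xs μ) := Module.Free.of_divisionRing ℂ ↥(Xs μ)
  let b := Module.finBasis ℂ (Xs μ)
  let Φ : (Fin (Module.finrank ℂ (Xs μ)) → Fin n → ℂ) →ₗ[ℂ] (Fin d → ℂ) :=
    ∑ i, (b i).1 ∘ₗ LinearMap.proj i
  let VZ : Submodule ℂ (Fin d → ℂ) := LinearMap.range Φ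
  have hVZ : ∀ x ∈ Xs μ, ∀ v, x v ∈ VZ := by
    intro x hx v
    refine ⟨fun i => b.repr ⟨x, hx⟩ i • v, ?_⟩
    have h1 : (∑ i, b.repr ⟨x, hx⟩ i • (b i).1) = x := by
      refine Eq.trans ?_ (congrArg (Xs μ).subtype (b.sum_repr ⟨x, hx⟩))
      rw [map_sum]
      rfl
    conv_rhs => rw [← h1]
    simp [Φ]
  have hVdim : Module.finrank ℂ VZ ≤ Module.finrank ℂ (Xs μ) * n := by
    refine (LinearMap.finrank_range_le Φ).trans (le_of_eq ?_)
    simp [Module.finrank_pi_fintype]
  have hstab : ∀ g ∈ U, ∀ w ∈ VZ, ρ g w ∈ VZ := by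
    intro g hg w hw
    obtain ⟨l, hl, u, hu, rfl⟩ := Subgroup.mem_sup_of_normal_left.1 hg
    obtain ⟨c, rfl⟩ := hw
    simp only [Φ, LinearMap.sum_apply, LinearMap.comp_apply, LinearMap.proj_apply, map_sum]
    refine sum_mem fun i _ => ?_
    obtain ⟨huH, hu'⟩ := hu
    have h2 := hmove u huH (Q u) (hQ u) μ μ (hu' _ (hQ u)) hμ _ (b i).2
    have h3 := hVZ _ h2 ((Q u : Module.End ℂ (Fin n → ℂ)) (c i))
    rw [LinearMap.comp_apply, LinearMap.comp_apply, ← Module.End.mul_apply
      (↑(Q u)⁻¹ : Module.End ℂ (Fin n → ℂ)), Units.inv_mul, Module.End.one_apply] at h3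
    rw [map_mul, Module.End.mul_apply]
    have hlin : ∀ w ∈ VZ, ρ l w ∈ VZ := by
      rintro _ ⟨c', rfl⟩
      simp only [Φ, LinearMap.sum_apply, LinearMap.comp_apply, LinearMap.proj_apply, map_sum]
      refine sum_mem fun j _ => ?_
      rw [show ρ l ((b j).1 (c' j)) = (b j).1 (φ ⟨l, hl⟩ (c' j)) from
        ((b j).2.1 ⟨l, hl⟩ (c' j)).symm]
      exact hVZ _ (b j).2 _
    exact hlin _ h3
  -- projection onto a weight space: `Xs μ ≠ 0`
  have hcompl : IsCompl (Es μ) (⨆ (ν) (_ : ν ≠ μ), Es ν) := by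
    refine ⟨hind μ, codisjoint_iff.2 (eq_top_iff.2 ?_)⟩
    rw [← htop]
    refine iSup_le fun ν => ?_
    by_cases h : ν = μ
    · rw [h]; exact le_sup_left
    · exact le_sup_of_le_right (le_iSup₂_of_le ν h le_rfl)
  obtain ⟨x₀, hx₀, hx₀0⟩ : ∃ x ∈ Xs μ, x ≠ 0 := by
    obtain ⟨v, hv, hv0⟩ := Submodule.exists_mem_ne_zero_of_ne_bot hμ
    obtain ⟨x', hx', hxv⟩ := exists_hom_apply_ne hφK σK hσθ hv0
    set p := (Es μ).projection _ hcompl with hp
    have hCK : ∀ (k : K) w, w ∈ (⨆ (ν) (_ : ν ≠ μ), Es ν) →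
        α k w ∈ (⨆ (ν) (_ : ν ≠ μ), Es ν) := by
      intro k w hw
      have h1 : (⨆ (ν) (_ : ν ≠ μ), Es ν) ≤ (⨆ (ν) (_ : ν ≠ μ), Es ν).comap (α k) :=
        iSup₂_le fun ν hν z hz => le_iSup₂ (f := fun ν (_ : ν ≠ μ) => Es ν) ν hν (hEK ν k z hz)
      exact h1 hw
    have hpc : ∀ (k : K) w, p (α k w) = α k (p w) := by
      intro k w
      obtain ⟨a, ha, c, hc, rfl⟩ :=
        Submodule.mem_sup.1 (hcompl.sup_eq_top.ge (Submodule.mem_top (x := w)))
      simp only [hp, map_add, Submodule.projection_apply_of_mem_left hcompl ha,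
        Submodule.projection_apply_of_mem_left hcompl (hEK μ k a ha),
        Submodule.projection_apply_of_mem_right hcompl hc,
        Submodule.projection_apply_of_mem_right hcompl (hCK k c hc), map_zero]
    have hxp : x' ∘ₗ p ∈ X' := fun k w => by
      show x' (p (α k w)) = σK k (x' (p w))
      rw [hpc, hx']
    obtain ⟨x, hx, hxe⟩ := hsurj _ hxp
    refine ⟨x, ⟨hx, fun ν hν w hw => ?_⟩, fun h0 => hxv ?_⟩
    · have := LinearMap.congr_fun hxe w
      simp only [LinearMap.comp_apply, hp, Submodule.projection_apply_of_mem_right hcompl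
        (le_iSup₂ (f := fun ν (_ : ν ≠ μ) => Es ν) ν hν hw), map_zero] at this
      exact this
    · have := LinearMap.congr_fun hxe v
      simp only [LinearMap.comp_apply, hp, Submodule.projection_apply_of_mem_left hcompl hv,
        h0, LinearMap.zero_apply, map_zero] at this
      exact this.symm
  have hVne : VZ ≠ ⊥ := by
    obtain ⟨v, hv⟩ : ∃ v, x₀ v ≠ 0 := by
      by_contra h; push Not at h; exact hx₀0 (LinearMap.ext h)
    exact fun h => hv ((Submodule.eq_bot_iff _).1 h _ (hVZ x₀ hx₀ v))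
  -- properness
  have hUne : U ≠ ⊤ := by
    intro hU
    have hVtop : VZ = ⊤ := by
      rcases eq_bot_or_eq_top (⟨VZ, fun g w hw => hstab g (hU ▸ Subgroup.mem_top g) w hw⟩ :
        Subrepresentation ρ) with h | h
      · exact absurd (congrArg Subrepresentation.toSubmodule h) hVne
      · exact congrArg Subrepresentation.toSubmodule h
    have hle : Xs μ ≤ X := fun x hx => hx.1
    have heq : Xs μ = X := by
      refine Submodule.eq_of_le_of_finrank_le hle ?_
      rw [hX]
      have h1 := hVdim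
      rw [hVtop, finrank_top, Module.finrank_fin_fun] at h1
      exact Nat.le_of_mul_le_mul_right (hdn.ge.trans h1) hn
    have hone : ∀ ν, ν ≠ μ → Es ν = ⊥ := by
      intro ν hν
      by_contra h
      obtain ⟨v, hv, hv0⟩ := Submodule.exists_mem_ne_zero_of_ne_bot h
      obtain ⟨x', hx', hxv⟩ := exists_hom_apply_ne hφK σK hσθ hv0
      obtain ⟨x, hx, hxe⟩ := hsurj x' hx'
      refine hxv ?_
      rw [← hxe]
      exact ((heq ▸ hx : x ∈ Xs μ)).2 ν hν v hv
    have hμtop : Es μ = ⊤ := by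
      refine eq_top_iff.2 (htop ▸ iSup_le fun ν => ?_)
      by_cases h : ν = μ
      · rw [h]
      · rw [hone ν h]; exact bot_le
    obtain ⟨N, c, hN, -, hc, hAN⟩ := hpowA a₀ ha₀
    have hss : (A a₀ : Module.End ℂ (Fin n → ℂ)).IsSemisimple := by
      refine Module.End.isSemisimple_of_squarefree_aeval_eq_zero
        (Polynomial.separable_X_pow_sub_C c (Nat.cast_ne_zero.2 hN) hc).squarefree ?_
      rw [map_sub, map_pow, Polynomial.aeval_X, Polynomial.aeval_C, hAN,
        Algebra.algebraMap_eq_smul_one, sub_self]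
    refine hns (μ ⟨a₀, ha₀⟩) (LinearMap.ext fun v => ?_)
    have hv : v ∈ Es μ := hμtop ▸ Submodule.mem_top
    simp only [Es, Submodule.mem_iInf] at hv
    have h2 := hv ⟨a₀, ha₀⟩
    rw [hss.isFinitelySemisimple.maxGenEigenspace_eq_eigenspace,
      Module.End.mem_eigenspace_iff] at h2
    simpa using h2
  -- index
  have hcoset : ∀ c : G ⧸ U, ∃ h ∈ H, (h : G ⧸ U) = c := by
    intro c
    obtain ⟨g, rfl⟩ := QuotientGroup.mk_surjective c
    obtain ⟨h, hh, l, hl, rfl⟩ := hprod g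
    refine ⟨h, hh, QuotientGroup.eq.2 ?_⟩
    rw [inv_mul_cancel_left]
    exact Subgroup.mem_sup_left hl
  choose hc hhc hhc' using hcoset
  have hw : ∀ c, ∃ ν, (Es μ).map (Q (hc c) : Module.End ℂ (Fin n → ℂ)) = Es ν :=
    fun c => hperm' _ (hhc c) _ (hQ _) μ hμ
  choose w hw using hw
  have hwinj : Function.Injective w := by
    intro c c' h
    rw [← hhc' c, ← hhc' c']
    refine QuotientGroup.eq.2 (Subgroup.mem_sup_right ⟨mul_mem (inv_mem (hhc c)) (hhc c'),
      fun R hR => ?_⟩)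
    obtain ⟨z, hz⟩ := isQ_unique ((hQ (hc c)).inv.mul (hQ (hc c'))) hR
    have hz0 : z ≠ 0 := fun h0 => by
      have : Nonempty (Fin n) := ⟨⟨0, hn⟩⟩
      exact R.ne_zero (by rw [hz, h0, zero_smul])
    rw [hz, Submodule.map_smul _ _ _ hz0, Units.val_mul, Module.End.mul_eq_comp,
      Submodule.map_comp, hw, ← h, ← hw c, ← Submodule.map_comp, ← Module.End.mul_eq_comp,
      Units.inv_mul, Module.End.one_eq_id, Submodule.map_id]
  have hcount : U.index * Module.finrank ℂ (Xs μ) ≤ f := by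
    rw [← hX]
    let S : (G ⧸ U → Xs μ) →ₗ[ℂ] X :=
      { toFun := fun x => ∑ c, ⟨ρ (hc c) ∘ₗ (x c).1 ∘ₗ
            (↑(Q (hc c))⁻¹ : Module.End ℂ (Fin n → ℂ)), (htr _ (hhc c) _ (hQ _) _ (x c).2.1).1⟩
        map_add' := fun x x' => by
          rw [← Finset.sum_add_distrib]
          exact Finset.sum_congr rfl fun c _ => Subtype.ext (LinearMap.ext fun v => by simp)
        map_smul' := fun z x => by
          rw [RingHom.id_apply, Finset.smul_sum]
          exact Finset.sum_congr rfl fun c _ => Subtype.ext (LinearMap.ext fun v => by simp) }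
    have hSinj : Function.Injective S := by
      suffices hker : ∀ x, S x = 0 → x = 0 from fun a b h =>
        sub_eq_zero.1 (hker (a - b) (by
          have hsub : S (a - b) + S b = S a := by
            rw [← LinearMap.map_add]
            exact congrArg S (funext fun c => sub_add_cancel (a c) (b c))
          exact add_eq_right.1 (hsub.trans h)))
      refine fun x hx => funext fun c => ?_
      refine Subtype.ext (hinj _ (x c).2.1 ?_)
      refine LinearMap.ext fun v => ?_
      have hall : (⊤ : Submodule ℂ (Fin n → ℂ)) ≤ LinearMap.ker (π ∘ₗ (x c).1) := by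
        rw [← htop]
        refine iSup_le fun ν v hv => ?_
        by_cases hν : ν = μ
        · subst hν
          have h1 := congrArg (fun z : X => π (z.1 ((Q (hc c) : Module.End ℂ (Fin n → ℂ)) v))) hx
          simp only [S, LinearMap.coe_mk, AddHom.coe_mk, Submodule.coe_sum, LinearMap.sum_apply,
            map_sum, ZeroMemClass.coe_zero, LinearMap.zero_apply, map_zero] at h1
          rw [Finset.sum_eq_single c] at h1
          · rw [(htr _ (hhc c) _ (hQ _) _ (x c).2.1).2 v] at h1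
            simp only [show ρ (hc c) = ρ ((⟨hc c, hhc c⟩ : H) : G) from rfl, hπ] at h1
            rw [LinearMap.mem_ker, LinearMap.comp_apply]
            have h2 := congrArg (σ (⟨hc c, hhc c⟩ : H)⁻¹) h1
            rwa [map_zero, Representation.inv_self_apply] at h2
          · intro c' _ hne
            exact (hmove _ (hhc c') _ (hQ _) ν (w c') (hw c') hμ _ (x c').2).2 (w c)
              (hwinj.ne (Ne.symm hne)) _ (hw c ▸ ⟨v, hv, rfl⟩)
          · simp
        · rw [LinearMap.mem_ker, LinearMap.comp_apply]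
          exact (x c).2.2 ν hν v hv
      exact LinearMap.mem_ker.1 (hall Submodule.mem_top)
    have h1 := LinearMap.finrank_le_finrank_of_injective hSinj
    rwa [Module.finrank_pi_fintype, Finset.sum_const, Finset.card_univ, smul_eq_mul,
      ← Nat.card_eq_fintype_card, ← Subgroup.index] at h1
  -- the inducing character
  let ρU : Representation ℂ U (Fin d → ℂ) := ρ.comp U.subtype
  let S : Subrepresentation ρU := ⟨VZ, fun g v hv => hstab g g.2 v hv⟩
  refine ⟨U, hUne, fun g hg => ?_, S.toRepresentation.character, isCharacter_of_rep _, ?_⟩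
  · obtain ⟨h, hh, l, hl, rfl⟩ := hprod g
    refine mul_mem (Subgroup.mem_sup_right ⟨hh, fun R hR => hfixH1 h ⟨?_, hh⟩ R hR μ⟩)
      (Subgroup.mem_sup_left hl)
    simpa using mul_mem hg (inv_mem (hLM hl))
  have hSc := isCharacter_of_rep S.toRepresentation
  refine eq_of_constituent_of_apply_one_le (isCharacter_ind U hSc) (isIrrCharacter_of_rep ρ) ?_ ?_
  · rw [inner_ind_left U _ (isClassFunction_of_isCharacter (isCharacter_of_rep ρ)),
      ← CharInduced.inner_conj_symm, Ne, map_eq_zero]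
    show classInner ρU.character S.toRepresentation.character ≠ 0
    rw [finrank_homSpace, Nat.cast_ne_zero]
    have : Nontrivial (homSpace S.toRepresentation ρU) := by
      refine ⟨⟨S.toSubmodule.subtype, fun g v => rfl⟩, 0, fun h => ?_⟩
      obtain ⟨v, hv, hv0⟩ := Submodule.exists_mem_ne_zero_of_ne_bot hVne
      exact hv0 (LinearMap.congr_fun (congrArg Subtype.val h) ⟨v, hv⟩)
    exact (Module.finrank_pos (R := ℂ) (M := ↥(homSpace S.toRepresentation ρU))).ne'
  · rw [ind_one_apply, Representation.char_one, Representation.char_one, ← Nat.cast_mul,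
      Complex.natCast_re, Complex.natCast_re, Nat.cast_le, Module.finrank_fin_fun]
    calc U.index * Module.finrank ℂ S.toSubmodule ≤ U.index * (Module.finrank ℂ (Xs μ) * n) :=
          Nat.mul_le_mul_left _ hVdim
      _ = U.index * Module.finrank ℂ (Xs μ) * n := (mul_assoc _ _ _).symm
      _ ≤ f * n := Nat.mul_le_mul_right _ hcount
      _ = d := hdn.symm

end Cfsg.Agent.BergerCore30
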