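import Cfsg.Agent.Lib.BergerIsotypic30

/-!
The projective action of `G` on the commutant of `K` in a `G`-invariant irreducible
representation of `L` (helper30).
-/

set_option autoImplicit false
set_option linter.unusedSectionVars false

namespace Cfsg.Agent.BergerImpl30

open Cfsg Cfsg.Agent.CharBasic Cfsg.Agent.CharBasicOrth Cfsg.Agent.CharBasicDecomp
  Cfsg.Agent.BergerIsotypic30

universe u v w

variable {G : Type u} [Group G] [Finite G] (L K : Subgroup G) [L.Normal] [K.Normal]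
  {E : Type v} [AddCommGroup E] [Module ℂ E] [FiniteDimensional ℂ E]
  (φ : Representation ℂ L E) (hKL : K ≤ L)

/-- the restriction to `K` -/
noncomputable def resK : Representation ℂ K E := φ.comp (Subgroup.inclusion hKL)

/-- intertwiners of `φ` and its conjugate -/
def IsQ (g : G) (Q : (Module.End ℂ E)ˣ) : Prop :=
  ∀ l : L, (Q : Module.End ℂ E) * φ l = φ (MulAut.conjNormal g l) * Q

/-- commuting with `K` -/
def Comm (T : Module.End ℂ E) : Prop := ∀ k : K, T * resK L K φ hKL k = resK L K φ hKL k * T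

/-- implementers of the conjugation action on the commutant of `K` -/
def Impl (g : G) (A : (Module.End ℂ E)ˣ) : Prop :=
  Comm L K φ hKL (A : Module.End ℂ E) ∧ ∃ Q : (Module.End ℂ E)ˣ, IsQ L φ g Q ∧
    ∀ T : Module.End ℂ E, Comm L K φ hKL T →
      (A : Module.End ℂ E) * T * ↑A⁻¹ = (Q : Module.End ℂ E) * T * ↑Q⁻¹

variable {L K φ hKL}

theorem IsQ.mul {g h : G} {Q R : (Module.End ℂ E)ˣ} (hQ : IsQ L φ g Q) (hR : IsQ L φ h R) :
    IsQ L φ (g * h) (Q * R) := by
  intro l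
  rw [Units.val_mul, mul_assoc, hR l, ← mul_assoc, hQ, mul_assoc, map_mul MulAut.conjNormal g h]
  rfl

theorem IsQ.inv {g : G} {Q : (Module.End ℂ E)ˣ} (hQ : IsQ L φ g Q) : IsQ L φ g⁻¹ Q⁻¹ := by
  intro l
  have h := hQ (MulAut.conjNormal g⁻¹ l)
  rw [← MulAut.mul_apply, ← map_mul, mul_inv_cancel, map_one, MulAut.one_apply] at h
  rw [Units.inv_mul_eq_iff_eq_mul, ← mul_assoc, h, mul_assoc, Units.mul_inv, mul_one]

variable (L φ) in
/-- the unit of an element of `L` -/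
noncomputable def unitOf (l : L) : (Module.End ℂ E)ˣ := MonoidHom.toHomUnits φ l

theorem coe_unitOf (l : L) : ((unitOf L φ l : (Module.End ℂ E)ˣ) : Module.End ℂ E) = φ l := rfl

theorem isQ_unitOf (l : L) : IsQ L φ (l : G) (unitOf L φ l) := by
  intro m
  rw [coe_unitOf, ← map_mul, ← map_mul]
  refine congrArg φ (Subtype.ext ?_)
  simp [MulAut.conjNormal_apply, mul_assoc]

theorem comm_resK_conj {g : G} {Q : (Module.End ℂ E)ˣ} (hQ : IsQ L φ g Q) (k : K) :
    (Q : Module.End ℂ E) * resK L K φ hKL k =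
      resK L K φ hKL (MulAut.conjNormal g k) * Q := by
  show (Q : Module.End ℂ E) * φ (Subgroup.inclusion hKL k) = φ (Subgroup.inclusion hKL _) * Q
  rw [hQ]
  congr 2

theorem Comm.conjQ {g : G} {Q : (Module.End ℂ E)ˣ} (hQ : IsQ L φ g Q) {T : Module.End ℂ E}
    (hT : Comm L K φ hKL T) :
    Comm L K φ hKL ((Q : Module.End ℂ E) * T * ↑Q⁻¹) := by
  intro k
  rw [mul_assoc _ _ (resK L K φ hKL k), comm_resK_conj hQ.inv k, mul_assoc _ T, ← mul_assoc T,
    hT, ← mul_assoc, ← mul_assoc, ← mul_assoc, comm_resK_conj hQ, ← MulAut.mul_apply, ← map_mul,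
    mul_inv_cancel, map_one, MulAut.one_apply]
  simp only [mul_assoc]

theorem Comm.mul {S T : Module.End ℂ E} (hS : Comm L K φ hKL S) (hT : Comm L K φ hKL T) :
    Comm L K φ hKL (S * T) := fun k => by rw [mul_assoc, hT k, ← mul_assoc, hS k, mul_assoc]

theorem Comm.inv {A : (Module.End ℂ E)ˣ} (hA : Comm L K φ hKL (A : Module.End ℂ E)) :
    Comm L K φ hKL (↑A⁻¹ : Module.End ℂ E) := fun k => by
  rw [Units.inv_mul_eq_iff_eq_mul, ← mul_assoc, hA k, mul_assoc, Units.mul_inv, mul_one]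

theorem Comm.algebraHom {T : Module.End ℂ E} (hT : Comm L K φ hKL T) (y : MonoidAlgebra ℂ K) :
    T * (resK L K φ hKL).asAlgebraHom y = (resK L K φ hKL).asAlgebraHom y * T := by
  induction y using MonoidAlgebra.induction_on with
  | of k => rw [MonoidAlgebra.of_apply, Representation.asAlgebraHom_single_one]; exact hT k
  | add a b ha hb => rw [map_add, mul_add, ha, hb, add_mul]
  | smul c a ha => rw [map_smul, mul_smul_comm, ha, smul_mul_assoc]

theorem isQ_unique [φ.IsIrreducible] {g : G} {Q R : (Module.End ℂ E)ˣ} (hQ : IsQ L φ g Q)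
    (hR : IsQ L φ g R) : ∃ c : ℂ, (R : Module.End ℂ E) = c • (Q : Module.End ℂ E) := by
  have h : ∀ (l : L) v, ((↑Q⁻¹ : Module.End ℂ E) * R) (φ l v) =
      φ l (((↑Q⁻¹ : Module.End ℂ E) * R) v) := by
    intro l v
    rw [← Module.End.mul_apply, ← Module.End.mul_apply, mul_assoc, hR l, ← mul_assoc, hQ.inv,
      ← MulAut.mul_apply, ← map_mul, inv_mul_cancel, map_one, MulAut.one_apply, mul_assoc]
  obtain ⟨c, hc, -⟩ := exists_scalar_of_commute φ _ h
  refine ⟨c, ?_⟩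
  rw [show (R : Module.End ℂ E) = (Q : Module.End ℂ E) * ((↑Q⁻¹ : Module.End ℂ E) * R) by
    rw [← mul_assoc, Units.mul_inv, one_mul], hc, mul_smul_comm]
  rfl

theorem conj_smul_units {Q R : (Module.End ℂ E)ˣ} {c : ℂ}
    (h : (R : Module.End ℂ E) = c • (Q : Module.End ℂ E)) (T : Module.End ℂ E) :
    (R : Module.End ℂ E) * T * ↑R⁻¹ = (Q : Module.End ℂ E) * T * ↑Q⁻¹ := by
  rw [Units.mul_inv_eq_iff_eq_mul, h, mul_smul_comm, mul_assoc _ _ (Q : Module.End ℂ E),
    Units.inv_mul, mul_one, smul_mul_assoc]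

theorem Impl.conj_eq [φ.IsIrreducible] {g : G} {A : (Module.End ℂ E)ˣ}
    (hA : Impl L K φ hKL g A) {Q : (Module.End ℂ E)ˣ} (hQ : IsQ L φ g Q) {T : Module.End ℂ E}
    (hT : Comm L K φ hKL T) :
    (Q : Module.End ℂ E) * T * ↑Q⁻¹ = (A : Module.End ℂ E) * T * ↑A⁻¹ := by
  obtain ⟨-, Q', hQ', h⟩ := hA
  obtain ⟨c, hc⟩ := isQ_unique hQ hQ'
  rw [h T hT, conj_smul_units hc]

theorem Impl.mul {g h : G} {A B : (Module.End ℂ E)ˣ} (hA : Impl L K φ hKL g A)
    (hB : Impl L K φ hKL h B) : Impl L K φ hKL (g * h) (A * B) := by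
  obtain ⟨hcA, Q, hQ, h1⟩ := hA
  obtain ⟨hcB, R, hR, h2⟩ := hB
  refine ⟨by rw [Units.val_mul]; exact hcA.mul hcB, Q * R, hQ.mul hR, fun T hT => ?_⟩
  have key : ∀ (a b : (Module.End ℂ E)ˣ), ((a * b : (Module.End ℂ E)ˣ) : Module.End ℂ E) * T *
      ↑(a * b)⁻¹ = (a : Module.End ℂ E) * ((b : Module.End ℂ E) * T * ↑b⁻¹) * ↑a⁻¹ := fun a b => by
    simp only [mul_inv_rev, Units.val_mul, mul_assoc]
  rw [key, key, h2 T hT]
  exact h1 _ (hT.conjQ hR)

theorem Impl.inv {g : G} {A : (Module.End ℂ E)ˣ} (hA : Impl L K φ hKL g A) :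
    Impl L K φ hKL g⁻¹ A⁻¹ := by
  obtain ⟨hcA, Q, hQ, h⟩ := hA
  refine ⟨hcA.inv, Q⁻¹, hQ.inv, fun T hT => ?_⟩
  have h1 := h _ (hT.conjQ hQ.inv)
  simp only [inv_inv] at h1 ⊢
  rw [show (Q : Module.End ℂ E) * (↑Q⁻¹ * T * ↑Q) * ↑Q⁻¹ = T by simp [mul_assoc],
    Units.mul_inv_eq_iff_eq_mul] at h1
  calc (↑A⁻¹ : Module.End ℂ E) * T * ↑A = ↑A⁻¹ * (T * ↑A) := mul_assoc _ _ _
    _ = ↑A⁻¹ * (↑A * (↑Q⁻¹ * T * ↑Q)) := by rw [h1]
    _ = _ := by rw [← mul_assoc, Units.inv_mul, one_mul]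

theorem impl_of_mem {k : G} (hk : k ∈ K) : Impl L K φ hKL k 1 := by
  refine ⟨fun m => by simp, unitOf L φ ⟨k, hKL hk⟩, isQ_unitOf _, fun T hT => ?_⟩
  rw [inv_one, Units.val_one, one_mul, mul_one, eq_comm, Units.mul_inv_eq_iff_eq_mul]
  exact (hT ⟨k, hk⟩).symm

theorem Impl.pow {g : G} {A : (Module.End ℂ E)ˣ} (hA : Impl L K φ hKL g A) :
    ∀ n : ℕ, Impl L K φ hKL (g ^ n) (A ^ n)
  | 0 => by rw [pow_zero, pow_zero]; exact impl_of_mem (one_mem K)
  | n + 1 => by rw [pow_succ, pow_succ]; exact (Impl.pow hA n).mul hA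

section isotypic

variable {W : Type w} [AddCommGroup W] [Module ℂ W] [FiniteDimensional ℂ W]
  {θ : Representation ℂ K W} [θ.IsIrreducible] {e : ℕ}
  (hφK : (resK L K φ hKL).character = (e : ℂ) • θ.character)
  (hθg : ∀ (g : G) (k : K), θ.character (MulAut.conjNormal g k) = θ.character k)

include hφK hθg in
/-- Every intertwiner splits as an implementer times an element of the image of `ℂ[K]`. -/
theorem exists_split {g : G} {Q : (Module.End ℂ E)ˣ} (hQ : IsQ L φ g Q) :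
    ∃ y y' : MonoidAlgebra ℂ K, ∃ A : (Module.End ℂ E)ˣ, Impl L K φ hKL g A ∧
      (A : Module.End ℂ E) = (Q : Module.End ℂ E) * (resK L K φ hKL).asAlgebraHom y ∧
      (Q : Module.End ℂ E) = (A : Module.End ℂ E) * (resK L K φ hKL).asAlgebraHom y' := by
  classical
  set α := resK L K φ hKL
  have := Fintype.ofFinite K
  let θg : Representation ℂ K W := θ.comp (MulAut.conjNormal g⁻¹ : K ≃* K).toMonoidHom
  have hθg' : θg.character = θ.character := funext fun k => hθg g⁻¹ k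
  obtain ⟨P⟩ := nonempty_equiv_of_character_eq θ θg hθg'.symm
  let p : Module.End ℂ W := P.toLinearEquiv.toLinearMap
  let p' : Module.End ℂ W := P.toLinearEquiv.symm.toLinearMap
  have hp : ∀ k : K, p * θ k = θ (MulAut.conjNormal g⁻¹ k) * p := fun k =>
    LinearMap.ext fun v => P.toIntertwiningMap.isIntertwining _ _ k v
  obtain ⟨y, hy⟩ := asAlgebraHom_surjective θ p
  obtain ⟨y', hy'⟩ := asAlgebraHom_surjective θ p'
  have hone : ∀ z : MonoidAlgebra ℂ K, θ.asAlgebraHom z = 1 → α.asAlgebraHom z = 1 := by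
    intro z hz
    rw [← sub_eq_zero, ← map_one α.asAlgebraHom, ← map_sub]
    exact asAlgebraHom_eq_zero hφK (by rw [map_sub, hz, map_one, sub_self])
  have h1 : α.asAlgebraHom y * α.asAlgebraHom y' = 1 := by
    rw [← map_mul]; refine hone _ ?_
    rw [map_mul, hy, hy']; exact LinearMap.ext fun v => P.toLinearEquiv.apply_symm_apply v
  have h2 : α.asAlgebraHom y' * α.asAlgebraHom y = 1 := by
    rw [← map_mul]; refine hone _ ?_
    rw [map_mul, hy, hy']; exact LinearMap.ext fun v => P.toLinearEquiv.symm_apply_apply v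
  let s : (Module.End ℂ E)ˣ := ⟨α.asAlgebraHom y, α.asAlgebraHom y', h1, h2⟩
  have hs : ∀ k : K, α.asAlgebraHom y * α k = α (MulAut.conjNormal g⁻¹ k) * α.asAlgebraHom y := by
    intro k
    rw [← Representation.asAlgebraHom_single_one α k,
      ← Representation.asAlgebraHom_single_one α (MulAut.conjNormal g⁻¹ k), ← map_mul, ← map_mul,
      ← sub_eq_zero, ← map_sub]
    refine asAlgebraHom_eq_zero hφK ?_
    rw [map_sub, map_mul, map_mul, hy, Representation.asAlgebraHom_single_one,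
      Representation.asAlgebraHom_single_one, hp, sub_self]
  refine ⟨y, y', Q * s, ⟨fun k => ?_, Q, hQ, fun T hT => ?_⟩, rfl, ?_⟩
  · show (Q : Module.End ℂ E) * α.asAlgebraHom y * α k = α k * ((Q : Module.End ℂ E) * _)
    rw [mul_assoc, hs k, ← mul_assoc, comm_resK_conj hQ, ← MulAut.mul_apply, ← map_mul,
      mul_inv_cancel, map_one, MulAut.one_apply, mul_assoc]
  · show (Q : Module.End ℂ E) * α.asAlgebraHom y * T * ((s⁻¹ : (Module.End ℂ E)ˣ) * ↑Q⁻¹) = _
    have : α.asAlgebraHom y * ((s⁻¹ : (Module.End ℂ E)ˣ) : Module.End ℂ E) = 1 := h1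
    rw [mul_assoc (Q : Module.End ℂ E) (α.asAlgebraHom y) T, ← hT.algebraHom]
    simp only [← mul_assoc]
    rw [mul_assoc ((Q : Module.End ℂ E) * T) (α.asAlgebraHom y), this, mul_one]
  · show (Q : Module.End ℂ E) = (Q : Module.End ℂ E) * α.asAlgebraHom y * α.asAlgebraHom y'
    rw [mul_assoc, h1, mul_one]

include hφK hθg in
/-- The centre of the commutant is scalar. -/
theorem scalar_of_central [φ.IsIrreducible] {z : Module.End ℂ E} (hz : Comm L K φ hKL z)
    (h : ∀ T, Comm L K φ hKL T → z * T = T * z) : ∃ c : ℂ, z = c • 1 := by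
  have h' : ∀ (l : L) v, z (φ l v) = φ l (z v) := by
    intro l v
    obtain ⟨y, y', A, hA, -, hl⟩ := exists_split hφK hθg (isQ_unitOf (L := L) (φ := φ) l)
    rw [← Module.End.mul_apply, ← Module.End.mul_apply, ← coe_unitOf (φ := φ) l, hl, ← mul_assoc,
      h _ hA.1, mul_assoc, hz.algebraHom, mul_assoc]
  obtain ⟨c, hc, -⟩ := exists_scalar_of_commute φ z h'
  exact ⟨c, hc⟩

include hφK hθg in
theorem impl_unique [φ.IsIrreducible] {g : G} {A B : (Module.End ℂ E)ˣ}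
    (hA : Impl L K φ hKL g A) (hB : Impl L K φ hKL g B) :
    ∃ c : ℂ, (B : Module.End ℂ E) = c • (A : Module.End ℂ E) := by
  obtain ⟨hcB, Q, hQ, hB'⟩ := hB
  obtain ⟨c, hc⟩ := scalar_of_central hφK hθg (z := (↑A⁻¹ : Module.End ℂ E) * B)
    (hA.1.inv.mul hcB) (fun T hT => by
      have h1 := hA.conj_eq hQ hT
      rw [← hB' T hT, Units.mul_inv_eq_iff_eq_mul] at h1
      rw [mul_assoc, h1, ← mul_assoc, ← mul_assoc, ← mul_assoc, Units.inv_mul, one_mul, mul_assoc])
  refine ⟨c, ?_⟩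
  rw [show (B : Module.End ℂ E) = (A : Module.End ℂ E) * ((↑A⁻¹ : Module.End ℂ E) * B) by
    rw [← mul_assoc, Units.mul_inv, one_mul], hc, mul_smul_comm, mul_one]

end isotypic

end Cfsg.Agent.BergerImpl30
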