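import Mathlib
import Cfsg.Agent.Lib.CharBasicDecomp

/-!
Representations with isotypic restriction: Schur machinery for Berger's theorem (helper30).
-/

set_option autoImplicit false

open scoped ComplexConjugate

namespace Cfsg.Agent.BergerIsotypic30

open Cfsg Cfsg.Agent.CharBasic Cfsg.Agent.CharBasicOrth Cfsg.Agent.CharBasicDecomp

universe u v w x

variable {G : Type u} [Group G] {V : Type v} [AddCommGroup V] [Module ℂ V]
  {W : Type w} [AddCommGroup W] [Module ℂ W]

/-- equivariant linear maps -/
def homSpace (σ : Representation ℂ G W) (ρ : Representation ℂ G V) : Submodule ℂ (W →ₗ[ℂ] V) where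
  carrier := {f | ∀ g w, f (σ g w) = ρ g (f w)}
  add_mem' := fun {a b} ha hb g w => by simp [ha g w, hb g w]
  zero_mem' := fun g w => by simp
  smul_mem' := fun c a ha g w => by simp [ha g w]

theorem mem_homSpace {σ : Representation ℂ G W} {ρ : Representation ℂ G V} {f : W →ₗ[ℂ] V} :
    f ∈ homSpace σ ρ ↔ ∀ g w, f (σ g w) = ρ g (f w) := Iff.rfl

/-- the equivalence with intertwining maps -/
def homSpaceEquiv (σ : Representation ℂ G W) (ρ : Representation ℂ G V) :
    Representation.IntertwiningMap σ ρ ≃ₗ[ℂ] homSpace σ ρ where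
  toFun f := ⟨f.toLinearMap, fun g w => f.isIntertwining σ ρ g w⟩
  invFun f := ⟨f.1, fun g => LinearMap.ext fun w => f.2 g w⟩
  map_add' a b := rfl
  map_smul' c a := rfl
  left_inv f := rfl
  right_inv f := rfl

theorem finrank_homSpace [Fintype G] [FiniteDimensional ℂ V] [FiniteDimensional ℂ W]
    (σ : Representation ℂ G W) (ρ : Representation ℂ G V) :
    classInner ρ.character σ.character = (Module.finrank ℂ (homSpace σ ρ) : ℂ) := by
  rw [classInner_character, (homSpaceEquiv σ ρ).finrank_eq]

set_option linter.unusedSectionVars false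

variable [Finite G] [FiniteDimensional ℂ V] [FiniteDimensional ℂ W]

/-- A subrepresentation-sized constituent: an equivariant injection. -/
theorem constituent_ne_zero [Fintype G] (σ : Representation ℂ G W) [σ.IsIrreducible]
    (ρ : Representation ℂ G V) {f : W →ₗ[ℂ] V} (hf : f ∈ homSpace σ ρ) (hne : f ≠ 0) :
    classInner ρ.character σ.character ≠ 0 := by
  rw [finrank_homSpace]
  have : Nontrivial (homSpace σ ρ) :=
    ⟨⟨f, hf⟩, 0, fun h => hne (congrArg Subtype.val h)⟩
  exact Nat.cast_ne_zero.2 Module.finrank_pos.ne'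

variable {U : Type x} [AddCommGroup U] [Module ℂ U] [FiniteDimensional ℂ U]
  {θ : Representation ℂ G W} [θ.IsIrreducible] {α : Representation ℂ G U} {e : ℕ}

/-- Irreducible pieces of an isotypic representation. -/
theorem exists_equiv_sub (hα : α.character = (e : ℂ) • θ.character) {Z : Submodule ℂ U}
    (hZ : ∀ g, ∀ u ∈ Z, α g u ∈ Z) (hne : Z ≠ ⊥) :
    ∃ S : Subrepresentation α, S.toSubmodule ≤ Z ∧ Nonempty (S.toRepresentation.Equiv θ) := by
  have := Fintype.ofFinite G
  let Zr : Subrepresentation α := ⟨Z, fun g u hu => hZ g u hu⟩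
  have : Nontrivial Zr.toSubmodule := Submodule.nontrivial_iff_ne_bot.2 hne
  obtain ⟨S₀, hS₀⟩ := exists_irreducible_sub Zr.toRepresentation
  let S : Subrepresentation α :=
    ⟨S₀.toSubmodule.map Zr.toSubmodule.subtype, fun g u hu => by
      obtain ⟨z, hz, rfl⟩ := Submodule.mem_map.1 hu
      exact Submodule.mem_map.2 ⟨Zr.toRepresentation g z, S₀.apply_mem_toSubmodule g hz, rfl⟩⟩
  let eS : S₀.toRepresentation.Equiv S.toRepresentation :=
    Representation.Equiv.mk
      (Submodule.equivMapOfInjective _ Zr.toSubmodule.injective_subtype S₀.toSubmodule)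
      fun g => LinearMap.ext fun z => Subtype.ext rfl
  have hSi : S.toRepresentation.IsIrreducible := isIrreducible_of_equiv eS
  refine ⟨S, Submodule.map_subtype_le _ _, nonempty_equiv_of_character_eq _ _ ?_⟩
  have hnt := nontrivial_of_irreducible S.toRepresentation
  have h1 := constituent_ne_zero S.toRepresentation α (f := S.toSubmodule.subtype)
    (fun g w => rfl) (fun h => by
      obtain ⟨s, hs⟩ := exists_ne (0 : S.toSubmodule)
      exact hs (Subtype.ext (LinearMap.congr_fun h s)))
  rw [hα, classInner_smul_left] at h1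
  by_contra h
  refine (right_ne_zero_of_mul h1) (classInner_irr_ne (isIrrCharacter_of_rep θ)
    (isIrrCharacter_of_rep S.toRepresentation) fun h' => h h'.symm)

/-- An element of the group algebra killed by `θ` is killed by an isotypic representation. -/
theorem asAlgebraHom_eq_zero (hα : α.character = (e : ℂ) • θ.character) {x : MonoidAlgebra ℂ G}
    (hx : θ.asAlgebraHom x = 0) : α.asAlgebraHom x = 0 := by
  let Z : Submodule ℂ U :=
    ⨅ (y : MonoidAlgebra ℂ G) (_ : θ.asAlgebraHom y = 0), LinearMap.ker (α.asAlgebraHom y)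
  have hmem : ∀ u, u ∈ Z ↔ ∀ y, θ.asAlgebraHom y = 0 → α.asAlgebraHom y u = 0 := fun u => by
    simp only [Z, Submodule.mem_iInf, LinearMap.mem_ker]
  have hZ : ∀ g, ∀ u ∈ Z, α g u ∈ Z := by
    intro g u hu
    rw [hmem] at hu ⊢
    intro y hy
    have h := hu (y * MonoidAlgebra.single g 1) (by rw [map_mul, hy, zero_mul])
    rw [map_mul, Representation.asAlgebraHom_single_one] at h
    exact h
  by_contra hxa
  have hZt : Z ≠ ⊤ := fun h => hxa (LinearMap.ext fun u =>
    (hmem u).1 (by rw [h]; exact Submodule.mem_top) x hx)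
  let Zr : Subrepresentation α := ⟨Z, fun g u hu => hZ g u hu⟩
  obtain ⟨Z', hZ'⟩ := CharBasic.exists_isCompl Zr
  have hne : Z'.toSubmodule ≠ ⊥ := fun h => hZt (by
    have := hZ'.sup_eq_top; rwa [h, sup_bot_eq] at this)
  obtain ⟨S, hS, ⟨ψ⟩⟩ := exists_equiv_sub hα (fun g u hu => Z'.apply_mem_toSubmodule g hu) hne
  have hSZ : S.toSubmodule ≤ Z := by
    intro u hu
    rw [hmem]
    intro y hy
    have key : ∀ (z : MonoidAlgebra ℂ G) (s : S.toSubmodule),
        ∃ t : S.toSubmodule, (t : U) = α.asAlgebraHom z s ∧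
          ψ.toLinearEquiv t = θ.asAlgebraHom z (ψ.toLinearEquiv s) := by
      intro z s
      induction z using MonoidAlgebra.induction_on with
      | of g =>
        refine ⟨S.toRepresentation g s, ?_, ?_⟩
        · rw [MonoidAlgebra.of_apply, Representation.asAlgebraHom_single_one]; rfl
        · rw [MonoidAlgebra.of_apply, Representation.asAlgebraHom_single_one]
          exact ψ.toIntertwiningMap.isIntertwining _ _ g s
      | add a b ha hb =>
        obtain ⟨t, ht, ht'⟩ := ha
        obtain ⟨t', hu1, hu2⟩ := hb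
        exact ⟨t + t', by simp [ht, hu1], by rw [map_add, map_add, LinearMap.add_apply, ht', hu2]⟩
      | smul c a ha =>
        obtain ⟨t, ht, ht'⟩ := ha
        exact ⟨c • t, by simp [ht], by rw [map_smul, map_smul, LinearMap.smul_apply, ht']⟩
    obtain ⟨t, ht, ht'⟩ := key y ⟨u, hu⟩
    rw [hy, LinearMap.zero_apply, LinearEquiv.map_eq_zero_iff] at ht'
    rw [← show (t : U) = α.asAlgebraHom y u from ht, ht', Submodule.coe_zero]
  have hnt : S.toSubmodule ≠ ⊥ := fun h => by
    have := nontrivial_of_irreducible θ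
    obtain ⟨w, hw⟩ := exists_ne (0 : W)
    have h1 : ψ.toLinearEquiv.symm w = 0 := Subtype.ext ((Submodule.eq_bot_iff _).1 h _
      (ψ.toLinearEquiv.symm w).2)
    exact hw ((LinearEquiv.map_eq_zero_iff _).1 h1)
  exact hnt ((le_inf hSZ hS).trans hZ'.inf_eq_bot.le |> le_bot_iff.1)

omit [FiniteDimensional ℂ V] in
/-- The image of the group algebra of an irreducible representation is everything. -/
theorem asAlgebraHom_surjective (θ : Representation ℂ G W) [θ.IsIrreducible]
    (f : Module.End ℂ W) : ∃ y : MonoidAlgebra ℂ G, θ.asAlgebraHom y = f := by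
  classical
  have := Fintype.ofFinite G
  let b := Module.finBasis ℂ W
  have := nontrivial_of_irreducible θ
  have hn : (Module.finrank ℂ W : ℂ) ≠ 0 := Nat.cast_ne_zero.2 Module.finrank_pos.ne'
  -- rank one operators
  have hone : ∀ (ξ : W →ₗ[ℂ] ℂ) (w : W),
      ∃ y : MonoidAlgebra ℂ G, θ.asAlgebraHom y = ξ.smulRight w := by
    intro ξ w
    let c : ℂ := (Module.finrank ℂ W : ℂ) / (Nat.card G : ℂ)
    refine ⟨∑ g : G, MonoidAlgebra.single g (c * ξ (θ g⁻¹ w)), LinearMap.ext fun v => ?_⟩
    let F : Module.End ℂ W := ∑ g : G, θ g * (ξ.smulRight v : Module.End ℂ W) * θ g⁻¹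
    have hF : ∀ g u, F (θ g u) = θ g (F u) := by
      intro g u
      simp only [F, LinearMap.sum_apply, Module.End.mul_apply, map_sum]
      refine Fintype.sum_equiv (Equiv.mulLeft g⁻¹) _ _ fun k => ?_
      simp only [Equiv.coe_mulLeft, mul_inv_rev, inv_inv]
      rw [show θ (k⁻¹ * g) u = θ k⁻¹ (θ g u) by rw [map_mul]; rfl,
        show θ (g⁻¹ * k) = θ g⁻¹ * θ k from map_mul θ _ _, Module.End.mul_apply,
        Representation.self_inv_apply]
    obtain ⟨s, hs, htr⟩ := exists_scalar_of_commute θ F hF
    have htrace : LinearMap.trace ℂ W F = (Nat.card G : ℂ) * ξ v := by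
      simp only [F, map_sum]
      rw [Finset.sum_congr rfl (g := fun _ => ξ v) fun g _ => ?_, Finset.sum_const,
        Finset.card_univ, ← Nat.card_eq_fintype_card, nsmul_eq_mul]
      rw [LinearMap.trace_mul_comm, ← mul_assoc, ← map_mul, inv_mul_cancel, map_one, one_mul]
      exact LinearMap.trace_smulRight ξ v
    rw [htrace] at htr
    have hG : (Nat.card G : ℂ) ≠ 0 := Nat.cast_ne_zero.2 Nat.card_pos.ne'
    have hcs : c * s = ξ v := by
      simp only [c]; field_simp; linear_combination -htr
    rw [map_sum, LinearMap.sum_apply, LinearMap.smulRight_apply, ← hcs]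
    have := LinearMap.congr_fun hs w
    simp only [F, LinearMap.sum_apply, Module.End.mul_apply, LinearMap.smulRight_apply, map_smul,
      LinearMap.smul_apply, LinearMap.id_apply] at this
    rw [mul_smul, ← this, Finset.smul_sum]
    refine Finset.sum_congr rfl fun g _ => ?_
    rw [Representation.asAlgebraHom_single, LinearMap.smul_apply, mul_smul]
  have hdec : f = ∑ i, (b.coord i).smulRight (f (b i)) := LinearMap.ext fun v => by
    rw [LinearMap.sum_apply]
    conv_lhs => rw [← b.sum_repr v, map_sum]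
    simp [Module.Basis.coord_apply]
  choose y hy using fun i => hone (b.coord i) (f (b i))
  exact ⟨∑ i, y i, by rw [map_sum, hdec]; exact Finset.sum_congr rfl fun i _ => hy i⟩

/-- Equivariant maps out of an isotypic representation separate points. -/
theorem exists_hom_apply_ne (hα : α.character = (e : ℂ) • θ.character)
    (σ : Representation ℂ G V) [Fintype G] (hσ : classInner σ.character θ.character ≠ 0) {u : U}
    (hu : u ≠ 0) : ∃ x ∈ homSpace α σ, x u ≠ 0 := by
  by_contra hcon
  push Not at hcon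
  let Z : Submodule ℂ U := ⨅ x : homSpace α σ, LinearMap.ker (x : U →ₗ[ℂ] V)
  have huZ : u ∈ Z := by
    simp only [Z, Submodule.mem_iInf, LinearMap.mem_ker]; exact fun x => hcon x x.2
  have hZ : ∀ g, ∀ z ∈ Z, α g z ∈ Z := by
    intro g z hz
    simp only [Z, Submodule.mem_iInf, LinearMap.mem_ker] at hz ⊢
    intro x
    rw [x.2 g z, hz x, map_zero]
  obtain ⟨S, hS, ⟨ψ⟩⟩ :=
    exists_equiv_sub hα hZ fun h => hu ((Submodule.eq_bot_iff _).1 h u huZ)
  obtain ⟨S', hS'⟩ := CharBasic.exists_isCompl S
  rw [finrank_homSpace, Nat.cast_ne_zero] at hσ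
  have : Nontrivial (homSpace θ σ) := Module.finrank_pos_iff.1 (Nat.pos_of_ne_zero hσ)
  obtain ⟨⟨j, hj⟩, hj0⟩ := exists_ne (0 : homSpace θ σ)
  let p := S.toSubmodule.projectionOnto S'.toSubmodule hS'
  have hp : ∀ g z, p (α g z) = S.toRepresentation g (p z) := by
    intro g z
    obtain ⟨a, ha, b, hb, rfl⟩ :=
      Submodule.mem_sup.1 (hS'.sup_eq_top.ge (Submodule.mem_top (x := z)))
    rw [map_add, map_add, map_add, map_add,
      Submodule.projectionOnto_apply_left hS' ⟨a, ha⟩,
      Submodule.projectionOnto_apply_left hS' ⟨α g a, S.apply_mem_toSubmodule g ha⟩,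
      (Submodule.projectionOnto_apply_eq_zero_iff hS').2 hb,
      (Submodule.projectionOnto_apply_eq_zero_iff hS').2 (S'.apply_mem_toSubmodule g hb), map_zero]
    rfl
  let x : U →ₗ[ℂ] V := j ∘ₗ ψ.toLinearEquiv.toLinearMap ∘ₗ p
  have hx : x ∈ homSpace α σ := fun g z => by
    show j (ψ.toLinearEquiv (p (α g z))) = σ g (j (ψ.toLinearEquiv (p z)))
    rw [hp, ← hj]
    exact congrArg j (ψ.toIntertwiningMap.isIntertwining _ _ g (p z))
  refine hj0 (Subtype.ext (LinearMap.ext fun w => ?_))
  obtain ⟨s, rfl⟩ := ψ.toLinearEquiv.surjective w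
  have h0 : x (s : U) = 0 := by
    have := hS s.2
    simp only [Z, Submodule.mem_iInf, LinearMap.mem_ker] at this
    exact this ⟨x, hx⟩
  simpa [x, p, Submodule.projectionOnto_apply_left] using h0

end Cfsg.Agent.BergerIsotypic30
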