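import Mathlib

/-!
# Gluing a 2-group to a group containing a copy of a normal subgroup with cyclic quotient
-/

set_option autoImplicit false

namespace Cfsg.Agent.Bicyclic36

universe u v

section

variable {S : Type u} [Group S] {L : Type v} [Group L] (D : Subgroup S) [hD : D.Normal]
  (e : D →* L) (x : S) (ξ : MulAut L)

theorem xi_zpow (hξ : ∀ (d : S) (hd : d ∈ D), ξ (e ⟨d, hd⟩) = e ⟨x * d * x⁻¹, hD.conj_mem d hd x⟩)
    (j : ℤ) : ∀ (d : S) (hd : d ∈ D),
      (ξ ^ j) (e ⟨d, hd⟩) = e ⟨x ^ j * d * (x ^ j)⁻¹, hD.conj_mem d hd (x ^ j)⟩ := by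
  induction j using Int.induction_on with
  | zero => intro d hd; simp
  | succ j ih =>
    intro d hd
    rw [zpow_add_one, MulAut.mul_apply, hξ d hd, ih _ (hD.conj_mem d hd x)]
    congr 1
    exact Subtype.ext (by rw [zpow_add_one]; group)
  | pred j ih =>
    intro d hd
    have h1 := hξ (x⁻¹ * d * x⁻¹⁻¹) (hD.conj_mem d hd x⁻¹)
    have h2 : (⟨x * (x⁻¹ * d * x⁻¹⁻¹) * x⁻¹, hD.conj_mem _ (hD.conj_mem d hd x⁻¹) x⟩ : D) = ⟨d, hd⟩ :=
      Subtype.ext (by group)
    rw [h2] at h1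
    rw [zpow_sub_one, MulAut.mul_apply, ← h1, MulAut.inv_apply, MulEquiv.symm_apply_apply,
      ih _ (hD.conj_mem d hd x⁻¹)]
    congr 1
    exact Subtype.ext (by rw [zpow_sub_one]; group)

theorem exists_hom (N : ℕ) (hxN : x ^ N ∈ D) (hmin : ∀ j : ℤ, x ^ j ∈ D → (N : ℤ) ∣ j)
    (hgen : ∀ s : S, ∃ d ∈ D, ∃ j : ℤ, s = d * x ^ j)
    (hξ : ∀ (d : S) (hd : d ∈ D), ξ (e ⟨d, hd⟩) = e ⟨x * d * x⁻¹, hD.conj_mem d hd x⟩)
    (hξN : ξ ^ N = MulAut.conj (e ⟨x ^ N, hxN⟩)) :
    ∃ θ : S →* MulAut L, ∀ (s d : S) (hd : d ∈ D),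
      θ s (e ⟨d, hd⟩) = e ⟨s * d * s⁻¹, hD.conj_mem d hd s⟩ ∧
      θ d = MulAut.conj (e ⟨d, hd⟩) := by
  classical
  choose dd hdd jj hjj using hgen
  let f : S → MulAut L := fun s => MulAut.conj (e ⟨dd s, hdd s⟩) * ξ ^ jj s
  have hwd : ∀ (d : S) (hd : d ∈ D) (j : ℤ),
      f (d * x ^ j) = MulAut.conj (e ⟨d, hd⟩) * ξ ^ j := by
    intro d hd j
    set s := d * x ^ j with hs
    have heq : x ^ (j - jj s) = d⁻¹ * dd s := by
      rw [zpow_sub, mul_inv_eq_iff_eq_mul, mul_assoc, ← hjj s, hs, inv_mul_cancel_left]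
    have hmem : x ^ (j - jj s) ∈ D := heq ▸ D.mul_mem (D.inv_mem hd) (hdd s)
    obtain ⟨k, hk⟩ := hmin _ hmem
    have hdd' : (⟨dd s, hdd s⟩ : D) = ⟨d, hd⟩ * (⟨x ^ N, hxN⟩ : D) ^ k := by
      refine Subtype.ext ?_
      show dd s = ((⟨d, hd⟩ * (⟨x ^ N, hxN⟩ : D) ^ k : D) : S)
      rw [Subgroup.coe_mul, Subgroup.coe_zpow]
      show dd s = d * (x ^ N) ^ k
      rw [← zpow_natCast x N, ← zpow_mul, ← hk, heq, mul_inv_cancel_left]
    have hj : j = (N : ℤ) * k + jj s := by omega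
    show MulAut.conj (e ⟨dd s, hdd s⟩) * ξ ^ jj s = _
    rw [hdd', map_mul, map_zpow, map_mul, map_zpow, ← hξN, mul_assoc, hj, zpow_add, zpow_mul,
      zpow_natCast]
  have hconj : ∀ (j : ℤ) (d : S) (hd : d ∈ D), ξ ^ j * MulAut.conj (e ⟨d, hd⟩) =
      MulAut.conj (e ⟨x ^ j * d * (x ^ j)⁻¹, hD.conj_mem d hd (x ^ j)⟩) * ξ ^ j := by
    intro j d hd
    rw [← xi_zpow D e x ξ hξ j d hd]
    refine MulEquiv.ext fun l => ?_
    simp [MulAut.mul_apply, MulAut.conj_apply]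
  have hmul : ∀ s t : S, f (s * t) = f s * f t := by
    intro s t
    have hst : s * t = (dd s * (x ^ jj s * dd t * (x ^ jj s)⁻¹)) * x ^ (jj s + jj t) := by
      conv_lhs => rw [hjj s, hjj t]
      rw [zpow_add]; group
    rw [hst, hwd _ (D.mul_mem (hdd s) (hD.conj_mem _ (hdd t) _))]
    show _ = MulAut.conj (e ⟨dd s, hdd s⟩) * ξ ^ jj s * (MulAut.conj (e ⟨dd t, hdd t⟩) * ξ ^ jj t)
    have h1 := hconj (jj s) (dd t) (hdd t)
    generalize hA : MulAut.conj (e ⟨dd s, hdd s⟩) = A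
    generalize hB : MulAut.conj (e ⟨dd t, hdd t⟩) = B at h1 ⊢
    generalize hC : MulAut.conj (e ⟨x ^ jj s * dd t * (x ^ jj s)⁻¹,
      hD.conj_mem (dd t) (hdd t) (x ^ jj s)⟩) = C at h1
    calc _ = A * C * ξ ^ (jj s + jj t) := by
          rw [← hA, ← hC, ← map_mul, ← map_mul]; rfl
      _ = A * (C * ξ ^ jj s) * ξ ^ jj t := by rw [zpow_add]; group
      _ = A * ξ ^ jj s * (B * ξ ^ jj t) := by rw [← h1]; group
  refine ⟨MonoidHom.mk' f hmul, fun s d hd => ⟨?_, ?_⟩⟩
  · show (MulAut.conj (e ⟨dd s, hdd s⟩) * ξ ^ jj s) (e ⟨d, hd⟩) = _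
    rw [MulAut.mul_apply, xi_zpow D e x ξ hξ, MulAut.conj_apply, ← map_inv, ← map_mul, ← map_mul]
    congr 1
    refine Subtype.ext ?_
    show dd s * (x ^ jj s * d * (x ^ jj s)⁻¹) * (dd s)⁻¹ = s * d * s⁻¹
    conv_rhs => rw [hjj s]
    group
  · have h := hwd d hd 0
    simp only [zpow_zero, mul_one] at h
    exact h

end

theorem amalgam {S : Type u} [Group S] [Finite S] (hS : IsPGroup 2 S) {L : Type v} [Group L] [Finite L]
  (D : Subgroup S) [D.Normal] (e : D →* L) (he : Function.Injective e) (x : S) (N : ℕ) (hxN : x ^ N ∈ D)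
  (hmin : ∀ j : ℤ, x ^ j ∈ D → (N : ℤ) ∣ j) (hgen : ∀ s : S, ∃ d ∈ D, ∃ j : ℤ, s = d * x ^ j)
  (ξ : MulAut L) (hξ : ∀ (d : S) (hd : d ∈ D), ξ (e ⟨d, hd⟩) = e ⟨x * d * x⁻¹, ‹D.Normal›.conj_mem d hd x⟩)
  (hξN : ξ ^ N = MulAut.conj (e ⟨x ^ N, hxN⟩)) (hcard : ¬ 2 ∣ Nat.card L / Nat.card D) :
  ∃ (G : Type (max u v)) (_ : Group G) (_ : Finite G) (ι : S →* G) (T : Sylow 2 G),
    Function.Injective ι ∧ (T : Subgroup G) = ι.range ∧ ∀ d₁ d₂ : D, IsConj (e d₁) (e d₂) → IsConj (ι d₁) (ι d₂) := by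
  classical
  obtain ⟨θ, hθ⟩ := exists_hom D e x ξ N hxN hmin hgen hξ hξN
  have hθ1 : ∀ (s : S) (d : D), θ s (e d) =
      e ⟨s * d * s⁻¹, ‹D.Normal›.conj_mem d d.2 s⟩ := fun s d => (hθ s d d.2).1
  have hθ2 : ∀ d : D, θ d = MulAut.conj (e d) := fun d => (hθ 1 d d.2).2
  let k : D → L ⋊[θ] S := fun d => ⟨e d, ((d : S))⁻¹⟩
  have kmul : ∀ a b : D, k a * k b = k (b * a) := by
    intro a b
    refine SemidirectProduct.ext ?_ ?_
    · rw [SemidirectProduct.mul_left]
      show e a * θ ((a : S))⁻¹ (e b) = e (b * a)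
      rw [← Subgroup.coe_inv, hθ2, map_inv, MulAut.conj_apply, inv_inv, ← mul_assoc, ← mul_assoc,
        mul_inv_cancel, one_mul, map_mul]
    · rw [SemidirectProduct.mul_right]
      show (a : S)⁻¹ * (b : S)⁻¹ = ((b * a : D) : S)⁻¹
      rw [Subgroup.coe_mul, mul_inv_rev]
  have kone : k 1 = 1 := SemidirectProduct.ext (map_one e) inv_one
  have kinj : Function.Injective k := fun a b h => he (congrArg SemidirectProduct.left h)
  let K : Subgroup (L ⋊[θ] S) :=
    { carrier := Set.range k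
      one_mem' := ⟨1, kone⟩
      mul_mem' := by rintro _ _ ⟨a, rfl⟩ ⟨b, rfl⟩; exact ⟨b * a, (kmul a b).symm⟩
      inv_mem' := by
        rintro _ ⟨a, rfl⟩
        exact ⟨a⁻¹, eq_inv_of_mul_eq_one_left (by rw [kmul, mul_inv_cancel, kone])⟩ }
  have kinl : ∀ (l : L) (d : D), SemidirectProduct.inl l * k d * (SemidirectProduct.inl l)⁻¹ = k d := by
    intro l d
    rw [← map_inv]
    refine SemidirectProduct.ext ?_ ?_
    · simp only [SemidirectProduct.mul_left, SemidirectProduct.mul_right,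
        SemidirectProduct.left_inl, SemidirectProduct.right_inl, one_mul, map_one, MulAut.one_apply]
      show l * e d * θ ((d : S))⁻¹ l⁻¹ = e d
      rw [← Subgroup.coe_inv, hθ2, MulAut.conj_apply, map_inv]
      group
    · simp [SemidirectProduct.mul_right, k]
  have kinr : ∀ (s : S) (d : D), SemidirectProduct.inr s * k d * (SemidirectProduct.inr s)⁻¹ =
      k ⟨s * d * s⁻¹, ‹D.Normal›.conj_mem d d.2 s⟩ := by
    intro s d
    rw [← map_inv]
    refine SemidirectProduct.ext ?_ ?_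
    · simp only [SemidirectProduct.mul_left, SemidirectProduct.mul_right,
        SemidirectProduct.left_inr, SemidirectProduct.right_inr, one_mul, map_one, mul_one]
      exact hθ1 s d
    · show s * (d : S)⁻¹ * s⁻¹ = (s * d * s⁻¹)⁻¹
      group
  haveI hK : K.Normal := ⟨by
    rintro _ ⟨d, rfl⟩ g
    refine ⟨⟨g.right * d * g.right⁻¹, ‹D.Normal›.conj_mem d d.2 g.right⟩, ?_⟩
    conv_rhs => rw [← SemidirectProduct.inl_left_mul_inr_right g]
    rw [show SemidirectProduct.inl g.left * SemidirectProduct.inr g.right * k d *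
      (SemidirectProduct.inl g.left * SemidirectProduct.inr g.right)⁻¹ =
      SemidirectProduct.inl g.left * (SemidirectProduct.inr g.right * k d *
        (SemidirectProduct.inr g.right)⁻¹) * (SemidirectProduct.inl g.left)⁻¹ by group, kinr, kinl]⟩
  haveI : Finite (L ⋊[θ] S) := Finite.of_equiv _ SemidirectProduct.equivProd.symm
  let ι : S →* (L ⋊[θ] S) ⧸ K := (QuotientGroup.mk' K).comp SemidirectProduct.inr
  have hι : Function.Injective ι := by
    rw [injective_iff_map_eq_one]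
    intro s hs
    obtain ⟨d, hd⟩ := (QuotientGroup.eq_one_iff _).1 hs
    have h1 : e d = 1 := congrArg SemidirectProduct.left hd
    have h2 : ((d : S))⁻¹ = s := congrArg SemidirectProduct.right hd
    rw [(injective_iff_map_eq_one e).1 he d h1] at h2
    simpa using h2.symm
  have hinl : ∀ d : D, ι d = QuotientGroup.mk' K (SemidirectProduct.inl (e d)) := by
    intro d
    show QuotientGroup.mk' K (SemidirectProduct.inr (d : S)) = _
    rw [QuotientGroup.mk'_apply, QuotientGroup.mk'_apply, QuotientGroup.eq]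
    refine ⟨d, SemidirectProduct.ext ?_ ?_⟩
    · simp only [SemidirectProduct.mul_left, SemidirectProduct.inv_left, SemidirectProduct.inv_right,
        SemidirectProduct.left_inr, SemidirectProduct.right_inr, SemidirectProduct.left_inl,
        inv_one, map_one, one_mul]
      show e d = θ ((d : S))⁻¹ (e d)
      rw [← Subgroup.coe_inv, hθ2, MulAut.conj_apply, map_inv]
      group
    · simp [SemidirectProduct.mul_right, k]
  have hcardK : Nat.card K = Nat.card D := (Nat.card_congr (Equiv.ofInjective k kinj)).symm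
  have hDL : Nat.card D ∣ Nat.card L := Subgroup.card_dvd_of_injective e he
  have hidx : ι.range.index = Nat.card L / Nat.card D := by
    have h1 := ι.range.card_mul_index
    rw [← Nat.card_congr (MonoidHom.ofInjective hι).toEquiv] at h1
    have h2 := Subgroup.card_eq_card_quotient_mul_card_subgroup K
    rw [Nat.card_congr SemidirectProduct.equivProd, Nat.card_prod, hcardK, ← h1] at h2
    obtain ⟨m, hm⟩ := hDL
    rw [hm, Nat.mul_div_cancel_left _ Nat.card_pos]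
    rw [hm] at h2
    have hpos : 0 < Nat.card S * Nat.card D := Nat.mul_pos Nat.card_pos Nat.card_pos
    refine Nat.eq_of_mul_eq_mul_left hpos ?_
    calc Nat.card S * Nat.card D * ι.range.index
        = Nat.card S * ι.range.index * Nat.card D := by ring
      _ = Nat.card D * m * Nat.card S := h2.symm
      _ = Nat.card S * Nat.card D * m := by ring
  haveI : Fact (Nat.Prime 2) := ⟨Nat.prime_two⟩
  have hp : IsPGroup 2 ι.range := hS.of_equiv (MonoidHom.ofInjective hι)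
  refine ⟨(L ⋊[θ] S) ⧸ K, inferInstance, inferInstance, ι,
    hp.toSylow (by rw [hidx]; exact hcard), hι, rfl, fun d₁ d₂ h => ?_⟩
  rw [hinl, hinl]
  exact (QuotientGroup.mk' K).map_isConj (SemidirectProduct.inl.map_isConj h)

end Cfsg.Agent.Bicyclic36
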