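import Mathlib
import Cfsg.Agent.Lib.PGroupsBasic

/-!
# Power subgroups of powerful p-groups

`P p N` is generated by the `p`-th powers of the elements of `N`. A normal subgroup `N` is `Emb`
(powerfully embedded, in a strong sense uniform in `p`) when `[N, G] ≤ P (P N)`.
For such subgroups `[P^i N, P^j M] = P^(i+j) [N, M]`.
-/

set_option autoImplicit false

namespace Cfsg.Agent.HallAlperinPowers

open Subgroup
open scoped commutatorElement

variable {G : Type*} [Group G] {p : ℕ}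

/-- The subgroup generated by the `p`-th powers. -/
def P (p : ℕ) (N : Subgroup G) : Subgroup G :=
  Subgroup.closure ((fun x => x ^ p) '' (N : Set G))

theorem pow_mem_P {N : Subgroup G} {x : G} (hx : x ∈ N) : x ^ p ∈ P p N :=
  Subgroup.subset_closure ⟨x, hx, rfl⟩

theorem P_le_iff {N K : Subgroup G} : P p N ≤ K ↔ ∀ x ∈ N, x ^ p ∈ K := by
  rw [P, Subgroup.closure_le, Set.image_subset_iff]
  exact Iff.rfl

theorem P_le (N : Subgroup G) : P p N ≤ N := P_le_iff.mpr fun _ hx => pow_mem hx _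

theorem P_mono {N K : Subgroup G} (h : N ≤ K) : P p N ≤ P p K :=
  P_le_iff.mpr fun _ hx => pow_mem_P (h hx)

theorem P_bot : P p (⊥ : Subgroup G) = ⊥ := le_bot_iff.mp (P_le _)

theorem map_P {H : Type*} [Group H] (f : G →* H) (N : Subgroup G) :
    (P p N).map f = P p (N.map f) := by
  rw [P, P, MonoidHom.map_closure, Subgroup.coe_map, Set.image_image, Set.image_image]
  simp only [map_pow]

theorem map_iterate_P {H : Type*} [Group H] (f : G →* H) (N : Subgroup G) :
    ∀ i, ((P p)^[i] N).map f = (P p)^[i] (N.map f)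
  | 0 => rfl
  | i + 1 => by
    rw [Function.iterate_succ_apply', Function.iterate_succ_apply', map_P, map_iterate_P f N i]

theorem iterate_mono {N K : Subgroup G} (h : N ≤ K) : ∀ i, (P p)^[i] N ≤ (P p)^[i] K
  | 0 => h
  | i + 1 => by
    rw [Function.iterate_succ_apply', Function.iterate_succ_apply']
    exact P_mono (iterate_mono h i)

theorem iterate_le (N : Subgroup G) : ∀ i, (P p)^[i] N ≤ N
  | 0 => le_rfl
  | i + 1 => by
    rw [Function.iterate_succ_apply']
    exact (P_le _).trans (iterate_le N i)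

theorem normal_P (N : Subgroup G) [hN : N.Normal] : (P p N).Normal := by
  refine ⟨fun x hx g => ?_⟩
  have h : (P p N).map (MulAut.conj g).toMonoidHom ≤ P p N := by
    rw [map_P]
    refine P_mono ?_
    rintro _ ⟨y, hy, rfl⟩
    exact hN.conj_mem y hy g
  exact h ⟨x, hx, rfl⟩

theorem normal_iterate (N : Subgroup G) [hN : N.Normal] : ∀ i, ((P p)^[i] N).Normal
  | 0 => hN
  | i + 1 => by
    rw [Function.iterate_succ_apply']
    have : ((P p)^[i] N).Normal := normal_iterate N i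
    exact normal_P _

/-- Powers of a first argument when the second order commutators are central. -/
theorem comm_pow {x w : G} (he : ⁅x, ⁅x, w⁆⁆ ∈ Subgroup.center G) (k : ℕ) :
    ⁅x ^ k, w⁆ = ⁅x, w⁆ ^ k * ⁅x, ⁅x, w⁆⁆ ^ (k.choose 2) := by
  set c := ⁅x, w⁆ with hc
  set e := ⁅x, c⁆ with he'
  have hxc : x * c * x⁻¹ = e * c := by rw [he', commutatorElement_def]; group
  have hec : Commute e c := (Subgroup.mem_center_iff.mp he c).symm
  have hxe : x * e * x⁻¹ = e := by
    rw [Subgroup.mem_center_iff.mp he x, mul_inv_cancel_right]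
  induction k with
  | zero => simp
  | succ k ih =>
    have h1 : ⁅x ^ (k + 1), w⁆ = x * ⁅x ^ k, w⁆ * x⁻¹ * c := by
      rw [hc, commutatorElement_def, commutatorElement_def, pow_succ']
      group
    have h2 : x * (c ^ k * e ^ k.choose 2) * x⁻¹ = (e * c) ^ k * e ^ k.choose 2 := by
      have := map_mul (MulAut.conj x).toMonoidHom (c ^ k) (e ^ k.choose 2)
      simp only [map_pow, MulEquiv.coe_toMonoidHom, MulAut.conj_apply] at this
      rw [this, hxc, hxe]
    have hec' : Commute (e ^ k.choose 2) c := hec.pow_left _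
    rw [h1, ih, h2, hec.mul_pow, pow_succ, show (k + 1).choose 2 = k.choose 2 + k by
      rw [Nat.choose_succ_succ, Nat.choose_one_right, add_comm], pow_add]
    calc e ^ k * c ^ k * e ^ k.choose 2 * c = e ^ k * c ^ k * (c * e ^ k.choose 2) := by
          rw [mul_assoc (e ^ k * c ^ k), hec'.eq]
      _ = e ^ k * (c ^ k * c * e ^ k.choose 2) := by group
      _ = c ^ k * c * e ^ k.choose 2 * e ^ k :=
          Subgroup.mem_center_iff.mp (pow_mem he k) _ ▸ rfl
      _ = c ^ k * c * (e ^ k.choose 2 * e ^ k) := by group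

/-- If `⁅N, M⁆` is central of exponent dividing `p`, then `P N` centralizes `M`. -/
theorem comm_P_eq_bot {N M : Subgroup G} (hK : ⁅N, M⁆ ≤ Subgroup.center G)
    (hp : P p ⁅N, M⁆ = ⊥) : ⁅P p N, M⁆ = ⊥ := by
  rw [Subgroup.commutator_eq_bot_iff_le_centralizer, P_le_iff]
  intro x hx
  rw [Subgroup.mem_centralizer_iff]
  intro m hm
  have hc : ⁅x, m⁆ ∈ ⁅N, M⁆ := Subgroup.commutator_mem_commutator hx hm
  have he : ⁅x, ⁅x, m⁆⁆ = 1 :=
    commutatorElement_eq_one_iff_mul_comm.mpr (Subgroup.mem_center_iff.mp (hK hc) x)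
  have h := comm_pow (x := x) (w := m) (by rw [he]; exact one_mem _) p
  rw [he, one_pow, mul_one, (Subgroup.mem_bot.mp (hp ▸ pow_mem_P hc) : ⁅x, m⁆ ^ p = 1)] at h
  exact (commutatorElement_eq_one_iff_mul_comm.mp h).symm

/-- The pair of hypotheses `⁅K, G⁆` central of exponent `p` and `P (P K) = 1`. -/
theorem comm_PP_eq_bot {N M : Subgroup G} [N.Normal] [M.Normal]
    (hL : ⁅⁅N, M⁆, (⊤ : Subgroup G)⁆ ≤ Subgroup.center G)
    (hLp : P p ⁅⁅N, M⁆, (⊤ : Subgroup G)⁆ = ⊥) (hK : P p (P p ⁅N, M⁆) = ⊥) :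
    ⁅P p (P p N), M⁆ = ⊥ := by
  set K := ⁅N, M⁆
  set L := ⁅K, (⊤ : Subgroup G)⁆
  have hLpow : ∀ l ∈ L, l ^ p = 1 := fun l hl => Subgroup.mem_bot.mp (hLp ▸ pow_mem_P hl)
  have hPKn : (P p K).Normal := normal_P K
  have hPKL : (P p K ⊔ L).Normal := inferInstance
  have hcomm : ∀ a b c : G, ⁅a * b, c⁆ = a * ⁅b, c⁆ * a⁻¹ * ⁅a, c⁆ := fun a b c => by
    simp only [commutatorElement_def]; group
  -- commutators of `P N` with `M`
  have h1 : ∀ y ∈ P p N, ∀ m ∈ M, ⁅y, m⁆ ∈ P p K ⊔ L := by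
    intro y hy m hm
    induction hy using Subgroup.closure_induction with
    | mem z hz =>
      obtain ⟨x, hx, rfl⟩ := hz
      have hc : ⁅x, m⁆ ∈ K := Subgroup.commutator_mem_commutator hx hm
      have he : ⁅x, ⁅x, m⁆⁆ ∈ L := by
        rw [show L = ⁅(⊤ : Subgroup G), K⁆ from Subgroup.commutator_comm _ _]
        exact Subgroup.commutator_mem_commutator (Subgroup.mem_top x) hc
      show ⁅x ^ p, m⁆ ∈ _
      rw [comm_pow (hL he) p]
      exact mul_mem (Subgroup.mem_sup_left (pow_mem_P hc)) (Subgroup.mem_sup_right (pow_mem he _))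
    | one => rw [commutatorElement_one_left]; exact one_mem _
    | mul a b _ _ iha ihb => rw [hcomm]; exact mul_mem (hPKL.conj_mem _ ihb a) iha
    | inv a _ iha =>
      have : ⁅a⁻¹, m⁆ = a⁻¹ * ⁅a, m⁆⁻¹ * a⁻¹⁻¹ := by simp only [commutatorElement_def]; group
      rw [this]; exact hPKL.conj_mem _ (inv_mem iha) _
  -- `y` centralizes `P K`
  have h2 : ∀ y : G, ∀ u ∈ P p K, ⁅y, u⁆ = 1 := by
    intro y u hu
    induction hu using Subgroup.closure_induction with
    | mem z hz =>
      obtain ⟨k, hk, rfl⟩ := hz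
      have he : ⁅k, y⁆ ∈ L := Subgroup.commutator_mem_commutator hk (Subgroup.mem_top y)
      have he' : ⁅k, ⁅k, y⁆⁆ = 1 :=
        commutatorElement_eq_one_iff_mul_comm.mpr (Subgroup.mem_center_iff.mp (hL he) k)
      show ⁅y, k ^ p⁆ = 1
      rw [← commutatorElement_inv, comm_pow (by rw [he']; exact one_mem _) p, he', one_pow,
        hLpow _ he, mul_one, inv_one]
    | one => exact commutatorElement_one_right y
    | mul a b _ _ iha ihb =>
      rw [commutatorElement_eq_one_iff_mul_comm] at *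
      rw [← mul_assoc, iha, mul_assoc, ihb, mul_assoc]
    | inv a _ iha =>
      rw [commutatorElement_eq_one_iff_mul_comm] at *
      exact (show Commute y a from iha).inv_right
  rw [Subgroup.commutator_eq_bot_iff_le_centralizer, P_le_iff]
  intro y hy
  rw [Subgroup.mem_centralizer_iff]
  intro m hm
  obtain ⟨u, hu, l, hl, hul⟩ := Subgroup.mem_sup_of_normal_left.mp (h1 y hy m hm)
  have hlc : ∀ g, g * l = l * g := Subgroup.mem_center_iff.mp (hL hl)
  have he : ⁅y, ⁅y, m⁆⁆ = 1 := by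
    rw [← hul, commutatorElement_eq_one_iff_mul_comm, ← mul_assoc,
      commutatorElement_eq_one_iff_mul_comm.mp (h2 y u hu), mul_assoc, hlc, mul_assoc]
  have h := comm_pow (x := y) (w := m) (by rw [he]; exact one_mem _) p
  have hu1 : u ^ p = 1 := Subgroup.mem_bot.mp (hK ▸ pow_mem_P hu)
  rw [he, one_pow, mul_one, ← hul, (show Commute u l from hlc u).mul_pow, hu1, hLpow l hl,
    mul_one] at h
  exact (commutatorElement_eq_one_iff_mul_comm.mp h).symm

/-- Conversely, if `P N` centralizes `M` and `⁅N, M⁆` is central, it has exponent `p`. -/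
theorem P_comm_eq_bot {N M : Subgroup G} (hK : ⁅N, M⁆ ≤ Subgroup.center G)
    (h : ⁅P p N, M⁆ = ⊥) : P p ⁅N, M⁆ = ⊥ := by
  rw [Subgroup.commutator_eq_bot_iff_le_centralizer] at h
  suffices H : ∀ c ∈ ⁅N, M⁆, c ^ p = 1 from
    le_bot_iff.mp (P_le_iff.mpr fun c hc => Subgroup.mem_bot.mpr (H c hc))
  intro c hc
  rw [Subgroup.commutator_def] at hc
  induction hc using Subgroup.closure_induction with
  | mem z hz =>
    obtain ⟨x, hx, m, hm, rfl⟩ := hz
    have he : ⁅x, ⁅x, m⁆⁆ = 1 := commutatorElement_eq_one_iff_mul_comm.mpr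
      (Subgroup.mem_center_iff.mp (hK (Subgroup.commutator_mem_commutator hx hm)) x)
    have h' := comm_pow (x := x) (w := m) (by rw [he]; exact one_mem _) p
    rw [he, one_pow, mul_one, commutatorElement_eq_one_iff_mul_comm.mpr
      (Subgroup.mem_centralizer_iff.mp (h (pow_mem_P hx)) m hm).symm] at h'
    exact h'.symm
  | one => exact one_pow p
  | mul a b ha _ iha ihb =>
    have hab : Commute a b :=
      (Subgroup.mem_center_iff.mp (hK (by rw [Subgroup.commutator_def]; exact ha)) b).symm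
    rw [hab.mul_pow, iha, ihb, mul_one]
  | inv a _ iha => rw [inv_pow, iha, inv_one]

/-- Absorption in a finite `p`-group. -/
theorem le_of_absorb [Finite G] [Fact p.Prime] (hG : IsPGroup p G) {L Y : Subgroup G} [L.Normal]
    [Y.Normal] (h : L ≤ Y ⊔ ⁅L, (⊤ : Subgroup G)⁆ ⊔ P p L) : L ≤ Y := by
  classical
  by_contra hnot
  set M := L ⊔ Y
  obtain ⟨K, hK⟩ := (Set.toFinite {K : Subgroup G | Y ≤ K ∧ K.Normal ∧ K < M}).exists_maximal
    ⟨Y, le_rfl, inferInstance, lt_of_le_of_ne le_sup_right fun e => hnot (e ▸ le_sup_left)⟩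
  obtain ⟨hYK, hKn, hKM⟩ := hK.1
  have hnt : (M.map (QuotientGroup.mk' K)) ≠ ⊥ := by
    intro e
    rw [Subgroup.map_eq_bot_iff, QuotientGroup.ker_mk'] at e
    exact hKM.not_ge e
  set Mb := M.map (QuotientGroup.mk' K)
  have hMbn : Mb.Normal :=
    Subgroup.Normal.map inferInstance _ (QuotientGroup.mk'_surjective K)
  have hGb : IsPGroup p (G ⧸ K) := hG.to_quotient K
  have hne : ∃ z, z ∈ Mb ∧ z ∈ Subgroup.center (G ⧸ K) ∧ orderOf z = p := by
    obtain ⟨w, ⟨hwM, hwc⟩, hw1⟩ := (Subgroup.ne_bot_iff_exists_ne_one.mp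
      (Cfsg.Agent.PGroupsBasic.inf_center_ne_bot hGb (N := Mb) hnt)) |>
      fun ⟨⟨w, hw⟩, h1⟩ => (⟨w, hw, fun e => h1 (Subtype.ext e)⟩ : ∃ w, w ∈ Mb ⊓ Subgroup.center (G ⧸ K) ∧ w ≠ 1)
    obtain ⟨k, hk⟩ := (IsPGroup.iff_orderOf.mp hGb) w
    have hk0 : k ≠ 0 := by
      rintro rfl
      rw [pow_zero, orderOf_eq_one_iff] at hk
      exact hw1 hk
    refine ⟨w ^ p ^ (k - 1), pow_mem hwM _, pow_mem hwc _, ?_⟩
    rw [orderOf_pow' _ (pow_ne_zero _ (Fact.out : p.Prime).ne_zero), hk,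
      Nat.gcd_eq_right (pow_dvd_pow p (Nat.sub_le k 1)),
      Nat.pow_div (Nat.sub_le k 1) (Fact.out : p.Prime).pos, show k - (k - 1) = 1 by omega, pow_one]
  obtain ⟨z, hzM, hzc, hzo⟩ := hne
  have hZn : (Subgroup.zpowers z).Normal := ⟨fun u hu g => by
    obtain ⟨i, rfl⟩ := hu
    rw [← Subgroup.mem_center_iff.mp (zpow_mem hzc i) g |>.symm, mul_inv_cancel_right]
    exact zpow_mem (Subgroup.mem_zpowers z) i⟩
  set K' := (Subgroup.zpowers z).comap (QuotientGroup.mk' K) with hK'def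
  have hKK' : K ≤ K' := fun x hx => by
    simp only [hK'def, Subgroup.mem_comap]
    rw [show QuotientGroup.mk' K x = 1 from (QuotientGroup.eq_one_iff x).mpr hx]
    exact one_mem _
  have hK'M : K' ≤ M := fun x hx => by
    obtain ⟨m, hm, e⟩ := (Subgroup.zpowers_le.mpr hzM) hx
    have := mul_mem hm (hKM.le (QuotientGroup.eq.mp e))
    simpa using this
  have hK'eq : K' = M := by
    by_contra hne'
    have hle : K' ≤ K := hK.2 ⟨hYK.trans hKK', inferInstance, lt_of_le_of_ne hK'M hne'⟩ hKK'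
    obtain ⟨x, rfl⟩ := QuotientGroup.mk'_surjective K z
    have hx : x ∈ K := hle (Subgroup.mem_zpowers _)
    rw [show QuotientGroup.mk' K x = 1 from (QuotientGroup.eq_one_iff x).mpr hx, orderOf_one]
      at hzo
    exact (Fact.out : p.Prime).ne_one hzo.symm
  have hL1 : ⁅L, (⊤ : Subgroup G)⁆ ≤ K := Subgroup.commutator_le.mpr fun a ha g _ => by
    have hac : QuotientGroup.mk' K a ∈ Subgroup.center (G ⧸ K) :=
      Subgroup.zpowers_le.mpr hzc (show a ∈ K' from hK'eq ▸ Subgroup.mem_sup_left ha)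
    rw [← QuotientGroup.eq_one_iff, ← QuotientGroup.mk'_apply, map_commutatorElement]
    exact commutatorElement_eq_one_iff_mul_comm.mpr
      (Subgroup.mem_center_iff.mp hac _).symm
  have hL2 : P p L ≤ K := P_le_iff.mpr fun a ha => by
    obtain ⟨i, hi⟩ : QuotientGroup.mk' K a ∈ Subgroup.zpowers z :=
      (show a ∈ K' from hK'eq ▸ Subgroup.mem_sup_left ha)
    rw [← QuotientGroup.eq_one_iff, ← QuotientGroup.mk'_apply, map_pow, ← hi]
    show (z ^ i) ^ p = 1
    rw [← zpow_natCast, ← zpow_mul, mul_comm, zpow_mul, zpow_natCast, ← hzo,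
      pow_orderOf_eq_one, one_zpow]
  exact hKM.not_ge (sup_le (h.trans (sup_le (sup_le hYK hL1) hL2)) hYK)

/-- Powerfully embedded. -/
def Emb (p : ℕ) (N : Subgroup G) : Prop :=
  N.Normal ∧ ⁅N, (⊤ : Subgroup G)⁆ ≤ P p (P p N)

variable [Finite G] [Fact p.Prime]

theorem Emb.comm (hG : IsPGroup p G) {N M : Subgroup G} (hN : Emb p N) (hM : Emb p M) :
    Emb p ⁅N, M⁆ := by
  have := hN.1
  have := hM.1
  set K := ⁅N, M⁆
  refine ⟨inferInstance, ?_⟩
  set L := ⁅K, (⊤ : Subgroup G)⁆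
  have hPK : (P p K).Normal := normal_P K
  have hPPK : (P p (P p K)).Normal := normal_P _
  have hPL : (P p L).Normal := normal_P L
  refine le_of_absorb hG ?_
  set Z := P p (P p K) ⊔ ⁅L, (⊤ : Subgroup G)⁆ ⊔ P p L with hZ
  set q := QuotientGroup.mk' Z with hq
  have hker : ∀ S : Subgroup G, S.map q = ⊥ ↔ S ≤ Z := fun S => by
    rw [Subgroup.map_eq_bot_iff, hq, QuotientGroup.ker_mk']
  have hqt : (⊤ : Subgroup G).map q = ⊤ :=
    Subgroup.map_top_of_surjective q (QuotientGroup.mk'_surjective Z)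
  have hNn : (N.map q).Normal := Subgroup.Normal.map hN.1 q (QuotientGroup.mk'_surjective Z)
  have hMn : (M.map q).Normal := Subgroup.Normal.map hM.1 q (QuotientGroup.mk'_surjective Z)
  have hmapL : ⁅⁅N.map q, M.map q⁆, (⊤ : Subgroup (G ⧸ Z))⁆ = L.map q := by
    rw [← hqt, ← Subgroup.map_commutator, ← Subgroup.map_commutator]
  have h1 : ⁅⁅N.map q, M.map q⁆, (⊤ : Subgroup (G ⧸ Z))⁆ ≤ Subgroup.center (G ⧸ Z) := by
    rw [hmapL, ← Subgroup.centralizer_univ, ← Subgroup.coe_top,
      ← Subgroup.commutator_eq_bot_iff_le_centralizer, ← hqt, ← Subgroup.map_commutator, hker]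
    exact le_sup_of_le_left le_sup_right
  have h2 : P p ⁅⁅N.map q, M.map q⁆, (⊤ : Subgroup (G ⧸ Z))⁆ = ⊥ := by
    rw [hmapL, ← map_P, hker]
    exact le_sup_right
  have h3 : P p (P p ⁅N.map q, M.map q⁆) = ⊥ := by
    rw [← Subgroup.map_commutator, ← map_P, ← map_P, hker]
    exact le_sup_of_le_left le_sup_left
  have h1' : ⁅⁅M.map q, N.map q⁆, (⊤ : Subgroup (G ⧸ Z))⁆ ≤ Subgroup.center (G ⧸ Z) := by
    rwa [Subgroup.commutator_comm (M.map q)]
  have e1 : ⁅⁅M.map q, (⊤ : Subgroup (G ⧸ Z))⁆, N.map q⁆ = ⊥ := by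
    refine le_bot_iff.mp ((Subgroup.commutator_mono ?_ le_rfl).trans
      (comm_PP_eq_bot (p := p) h1' (by rwa [Subgroup.commutator_comm (M.map q)])
        (by rwa [Subgroup.commutator_comm (M.map q)])).le)
    rw [← hqt, ← Subgroup.map_commutator, ← map_P, ← map_P]
    exact Subgroup.map_mono hM.2
  have e2 : ⁅⁅(⊤ : Subgroup (G ⧸ Z)), N.map q⁆, M.map q⁆ = ⊥ := by
    refine le_bot_iff.mp ((Subgroup.commutator_mono ?_ le_rfl).trans
      (comm_PP_eq_bot (p := p) h1 h2 h3).le)
    rw [← hqt, ← Subgroup.map_commutator, ← map_P, ← map_P]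
    exact Subgroup.map_mono ((Subgroup.commutator_comm _ _).le.trans hN.2)
  have := Subgroup.commutator_commutator_eq_bot_of_rotate e1 e2
  rwa [hmapL, hker] at this

theorem Emb.comm_P (hG : IsPGroup p G) {N M : Subgroup G} (hN : Emb p N) (hM : Emb p M) :
    ⁅P p N, M⁆ = P p ⁅N, M⁆ := by
  have := hN.1
  have := hM.1
  set K := ⁅N, M⁆
  have hK := Emb.comm hG hN hM
  have hPK : (P p K).Normal := normal_P K
  have hPN : (P p N).Normal := normal_P N
  have hPPK : (P p (P p K)).Normal := normal_P _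
  apply le_antisymm
  · set q := QuotientGroup.mk' (P p K) with hq
    have hker : ∀ S : Subgroup G, S.map q = ⊥ ↔ S ≤ P p K := fun S => by
      rw [Subgroup.map_eq_bot_iff, hq, QuotientGroup.ker_mk']
    rw [← hker, Subgroup.map_commutator, map_P]
    refine comm_P_eq_bot ?_ ?_
    · rw [← Subgroup.map_commutator, ← Subgroup.centralizer_univ, ← Subgroup.coe_top,
        ← Subgroup.commutator_eq_bot_iff_le_centralizer,
        ← Subgroup.map_top_of_surjective q (QuotientGroup.mk'_surjective _),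
        ← Subgroup.map_commutator, hker]
      exact hK.2.trans (P_le _)
    · rw [← Subgroup.map_commutator, ← map_P, hker]
  · refine le_of_absorb (p := p) hG ?_
    set Z := ⁅P p N, M⁆ ⊔ ⁅P p K, (⊤ : Subgroup G)⁆ ⊔ P p (P p K) with hZ
    set q := QuotientGroup.mk' Z with hq
    have hker : ∀ S : Subgroup G, S.map q = ⊥ ↔ S ≤ Z := fun S => by
      rw [Subgroup.map_eq_bot_iff, hq, QuotientGroup.ker_mk']
    rw [← hker, map_P, Subgroup.map_commutator]
    refine P_comm_eq_bot ?_ ?_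
    · rw [← Subgroup.map_commutator, ← Subgroup.centralizer_univ, ← Subgroup.coe_top,
        ← Subgroup.commutator_eq_bot_iff_le_centralizer,
        ← Subgroup.map_top_of_surjective q (QuotientGroup.mk'_surjective _),
        ← Subgroup.map_commutator, hker]
      exact hK.2.trans le_sup_right
    · rw [← map_P, ← Subgroup.map_commutator, hker]
      exact le_sup_of_le_left le_sup_left

theorem Emb.pow (hG : IsPGroup p G) (hT : Emb p (⊤ : Subgroup G)) {N : Subgroup G}
    (hN : Emb p N) : Emb p (P p N) := by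
  have := hN.1
  refine ⟨normal_P N, ?_⟩
  rw [Emb.comm_P hG hN hT]
  exact P_mono hN.2

theorem Emb.iterate (hG : IsPGroup p G) (hT : Emb p (⊤ : Subgroup G)) {N : Subgroup G}
    (hN : Emb p N) : ∀ i, Emb p ((P p)^[i] N)
  | 0 => hN
  | i + 1 => by
    rw [Function.iterate_succ_apply']
    exact Emb.pow hG hT (Emb.iterate hG hT hN i)

/-- `[P^i N, P^j M] = P^(i+j) [N, M]`. -/
theorem comm_iterate (hG : IsPGroup p G) (hT : Emb p (⊤ : Subgroup G)) {N M : Subgroup G}
    (hN : Emb p N) (hM : Emb p M) (i j : ℕ) :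
    ⁅(P p)^[i] N, (P p)^[j] M⁆ = (P p)^[i + j] ⁅N, M⁆ := by
  induction i with
  | zero =>
    induction j with
    | zero => rfl
    | succ j ih =>
      rw [show 0 + (j + 1) = (0 + j) + 1 from rfl, Function.iterate_succ_apply',
        Function.iterate_succ_apply', ← ih, Function.iterate_zero_apply, Subgroup.commutator_comm,
        Emb.comm_P hG (Emb.iterate hG hT hM j) hN, Subgroup.commutator_comm]
  | succ i ih =>
    rw [Function.iterate_succ_apply', Emb.comm_P hG (Emb.iterate hG hT hN i)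
      (Emb.iterate hG hT hM j), ih, Nat.succ_add, Function.iterate_succ_apply']

theorem emb_lcs (hG : IsPGroup p G) (hT : Emb p (⊤ : Subgroup G)) :
    ∀ k, Emb p ((⊤ : Subgroup G).lowerCentralSeries k)
  | 0 => by rwa [Subgroup.lowerCentralSeries_zero]
  | k + 1 => Emb.comm hG (emb_lcs hG hT k) hT

/-- The lower central series of `P^a G`. -/
theorem lcs_iterate (hG : IsPGroup p G) (hT : Emb p (⊤ : Subgroup G)) (a : ℕ) : ∀ k,
    ((P p)^[a] (⊤ : Subgroup G)).lowerCentralSeries k =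
      (P p)^[(k + 1) * a] ((⊤ : Subgroup G).lowerCentralSeries k)
  | 0 => by simp
  | k + 1 => by
    rw [Subgroup.lowerCentralSeries_succ, lcs_iterate hG hT a k,
      comm_iterate hG hT (emb_lcs hG hT k) hT, ← add_one_mul, Subgroup.lowerCentralSeries_succ]

end Cfsg.Agent.HallAlperinPowers
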