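import Mathlib
import Cfsg.Agent.Lib.PGroupsBasic
import Cfsg.Agent.Lib.HallAlperinPowers

/-!
# Products of two cyclic 2-groups

For a finite 2-group `G = ⟨a⟩⟨b⟩`: the subgroup generated by squares is `⟨a²⟩⟨b²⟩`, the commutator
of `a²` and `b²` lies in `⟨a⁸⟩⟨b⁸⟩`, every subgroup of the square subgroup is generated by two
elements and the derived subgroup is abelian.
-/

set_option autoImplicit false
set_option linter.style.haveILetI false
set_option maxHeartbeats 400000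

namespace Cfsg.Agent.Bicyclic55

open Subgroup Cfsg.Agent.HallAlperinPowers Cfsg.Agent.PGroupsBasic
open scoped commutatorElement

variable {G : Type*} [Group G]

/-- Every element is a power of `a` times a power of `b`. -/
def Bi (a b : G) : Prop := ∀ g : G, ∃ i j : ℤ, g = a ^ i * b ^ j

theorem Bi.map {H : Type*} [Group H] {a b : G} (h : Bi a b) (f : G →* H)
    (hf : Function.Surjective f) : Bi (f a) (f b) := fun x => by
  obtain ⟨g, rfl⟩ := hf x
  obtain ⟨i, j, rfl⟩ := h g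
  exact ⟨i, j, by rw [map_mul, map_zpow, map_zpow]⟩

theorem sq_mem_sq (x : G) : x ^ 2 ∈ P 2 (⊤ : Subgroup G) := pow_mem_P (mem_top x)

theorem commutator_mem_sq (x y : G) : ⁅x, y⁆ ∈ P 2 (⊤ : Subgroup G) := by
  have e : ⁅x, y⁆ = x ^ 2 * (x⁻¹ * y) ^ 2 * (y ^ 2)⁻¹ := by
    simp [commutatorElement_def, pow_two, mul_assoc]
  rw [e]
  exact mul_mem (mul_mem (sq_mem_sq _) (sq_mem_sq _)) (inv_mem (sq_mem_sq _))

theorem commutator_le_sq : commutator G ≤ P 2 (⊤ : Subgroup G) := by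
  rw [commutator_def, Subgroup.commutator_le]
  exact fun x _ y _ => commutator_mem_sq x y

theorem mem_pair_left (x y : G) : x ∈ Subgroup.closure ({x, y} : Set G) :=
  Subgroup.subset_closure (Set.mem_insert x _)

theorem mem_pair_right (x y : G) : y ∈ Subgroup.closure ({x, y} : Set G) :=
  Subgroup.subset_closure (Set.mem_insert_of_mem x rfl)

theorem zpow_mem_of_even {H : Subgroup G} {a : G} (h : a ^ 2 ∈ H) {i : ℤ} (hi : Even i) :
    a ^ i ∈ H := by
  obtain ⟨k, rfl⟩ := hi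
  rw [← two_mul, zpow_mul, zpow_ofNat]
  exact H.zpow_mem h k

section finite

variable [Finite G]

/-- Squares lie in every maximal subgroup. -/
theorem top_of_sup_sq (hG : IsPGroup 2 G) {K : Subgroup G} (h : K ⊔ P 2 (⊤ : Subgroup G) = ⊤) :
    K = ⊤ := by
  haveI : Fact (Nat.Prime 2) := ⟨Nat.prime_two⟩
  by_contra hK
  obtain ⟨M, hM, hMi, hKM⟩ := exists_normal_index_eq hG hK
  have hsq : P 2 (⊤ : Subgroup G) ≤ M := P_le_iff.mpr fun x _ =>
    Subgroup.sq_mem_of_index_two hMi x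
  have h2 := top_le_iff.mp (h ▸ sup_le hKM hsq)
  rw [h2, index_top] at hMi
  omega

/-- The square subgroup of a product of two cyclic groups. -/
theorem mem_sq_iff (hG : IsPGroup 2 G) {a b : G} (hbi : Bi a b) {x : G} :
    x ∈ P 2 (⊤ : Subgroup G) ↔ ∃ i j : ℤ, x = a ^ (2 * i) * b ^ (2 * j) := by
  constructor
  · intro hx
    haveI := normal_P (p := 2) (⊤ : Subgroup G)
    obtain ⟨i, j, rfl⟩ := hbi x
    have hsplit : ∀ k : ℤ, ∀ c : G, c ∉ P 2 (⊤ : Subgroup G) → c ^ k ∈ P 2 (⊤ : Subgroup G) →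
        Even k := by
      intro k c hc hk
      by_contra hodd
      obtain ⟨m, rfl⟩ := Int.not_even_iff_odd.mp hodd
      rw [zpow_add, zpow_one] at hk
      exact hc ((Subgroup.mul_mem_cancel_left _
        (zpow_mem_of_even (sq_mem_sq c) (even_two_mul m))).mp hk)
    have hcyc : ∀ c : G, zpowers c = ⊤ → ∀ y ∈ P 2 (⊤ : Subgroup G), ∃ k : ℤ, y = c ^ (2 * k) := by
      intro c hc y hy
      by_cases hc2 : c ∈ P 2 (⊤ : Subgroup G)
      · have hbot : (⊥ : Subgroup G) = ⊤ := top_of_sup_sq hG (by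
          refine top_le_iff.mp fun g _ => mem_sup_right ?_
          exact (zpowers_le.mpr hc2) (hc.ge (mem_top g)))
        refine ⟨0, ?_⟩
        rw [mul_zero, zpow_zero]
        exact Subgroup.mem_bot.mp (hbot.ge (mem_top y))
      obtain ⟨k, rfl⟩ := mem_zpowers_iff.mp (hc.ge (mem_top y))
      obtain ⟨m, rfl⟩ := hsplit k c hc2 hy
      exact ⟨m, by rw [two_mul]⟩
    have hgen : ∀ c : G, a ∈ zpowers c ⊔ P 2 (⊤ : Subgroup G) →
        b ∈ zpowers c ⊔ P 2 (⊤ : Subgroup G) → zpowers c = ⊤ := fun c ha hb =>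
      top_of_sup_sq hG (top_le_iff.mp fun g _ => by
        obtain ⟨u, v, rfl⟩ := hbi g
        exact mul_mem (zpow_mem ha u) (zpow_mem hb v))
    by_cases ha : a ∈ P 2 (⊤ : Subgroup G)
    · obtain ⟨k, hk⟩ := hcyc b (hgen b (mem_sup_right ha) (mem_sup_left (mem_zpowers b))) _ hx
      exact ⟨0, k, by rw [hk, mul_zero, zpow_zero, one_mul]⟩
    by_cases hb : b ∈ P 2 (⊤ : Subgroup G)
    · obtain ⟨k, hk⟩ := hcyc a (hgen a (mem_sup_left (mem_zpowers a)) (mem_sup_right hb)) _ hx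
      exact ⟨k, 0, by rw [hk, mul_zero, zpow_zero, mul_one]⟩
    by_cases hab : a * b ∈ P 2 (⊤ : Subgroup G)
    · obtain ⟨k, hk⟩ := hcyc a (hgen a (mem_sup_left (mem_zpowers a)) (by
        have e : b = a⁻¹ * (a * b) := by group
        rw [e]
        exact mul_mem (mem_sup_left (inv_mem (mem_zpowers a))) (mem_sup_right hab))) _ hx
      exact ⟨k, 0, by rw [hk, mul_zero, zpow_zero, mul_one]⟩
    rcases Int.even_or_odd i with ⟨m, rfl⟩ | ⟨m, rfl⟩
    · obtain ⟨n, rfl⟩ := hsplit j b hb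
        ((Subgroup.mul_mem_cancel_left _ (zpow_mem_of_even (sq_mem_sq a) ⟨m, rfl⟩)).mp hx)
      exact ⟨m, n, by rw [two_mul, two_mul]⟩
    · exfalso
      have ha' : a ^ (2 * m) ∈ P 2 (⊤ : Subgroup G) :=
        zpow_mem_of_even (sq_mem_sq a) (even_two_mul m)
      rcases Int.even_or_odd j with ⟨n, rfl⟩ | ⟨n, rfl⟩
      · have h1 := (Subgroup.mul_mem_cancel_right _
          (zpow_mem_of_even (sq_mem_sq b) ⟨n, rfl⟩)).mp hx
        rw [zpow_add, zpow_one] at h1
        exact ha ((Subgroup.mul_mem_cancel_left _ ha').mp h1)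
      · rw [zpow_add, zpow_one, add_comm (2 * n) 1, zpow_add b, zpow_one, mul_assoc,
          ← mul_assoc a b] at hx
        exact hab ((Subgroup.mul_mem_cancel_right _
          (zpow_mem_of_even (sq_mem_sq b) (even_two_mul n))).mp
          ((Subgroup.mul_mem_cancel_left _ ha').mp hx))
  · rintro ⟨i, j, rfl⟩
    exact mul_mem (zpow_mem_of_even (sq_mem_sq a) (even_two_mul i))
      (zpow_mem_of_even (sq_mem_sq b) (even_two_mul j))

theorem zpow_two_mul' (a : G) (i : ℤ) : a ^ (2 * i) = (a ^ 2) ^ i := by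
  rw [zpow_mul, zpow_ofNat]

/-- The square subgroup is again a product of two cyclic groups. -/
theorem Bi.sq (hG : IsPGroup 2 G) {a b : G} (hbi : Bi a b) :
    Bi (⟨a ^ 2, sq_mem_sq a⟩ : P 2 (⊤ : Subgroup G)) ⟨b ^ 2, sq_mem_sq b⟩ := by
  rintro ⟨g, hg⟩
  obtain ⟨i, j, rfl⟩ := (mem_sq_iff hG hbi).mp hg
  exact ⟨i, j, Subtype.ext (by simp [zpow_two_mul'])⟩

/-- The second square subgroup. -/
theorem mem_sq2_iff (hG : IsPGroup 2 G) {a b : G} (hbi : Bi a b) {x : G} :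
    x ∈ P 2 (P 2 (⊤ : Subgroup G)) ↔ ∃ i j : ℤ, x = a ^ (4 * i) * b ^ (4 * j) := by
  have hmap : (P 2 (⊤ : Subgroup (P 2 (⊤ : Subgroup G)))).map (P 2 (⊤ : Subgroup G)).subtype
      = P 2 (P 2 (⊤ : Subgroup G)) := by
    rw [map_P, ← MonoidHom.range_eq_map, Subgroup.range_subtype]
  rw [← hmap]
  constructor
  · rintro ⟨y, hy, rfl⟩
    obtain ⟨i, j, rfl⟩ := (mem_sq_iff (hG.to_subgroup _) (hbi.sq hG)).mp hy
    refine ⟨i, j, ?_⟩
    simp only [Subgroup.coe_subtype, Subgroup.coe_mul, Subgroup.coe_zpow]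
    rw [← zpow_natCast a 2, ← zpow_natCast b 2, ← zpow_mul, ← zpow_mul]
    norm_num
    ring_nf
  · rintro ⟨i, j, rfl⟩
    refine ⟨_, (mem_sq_iff (hG.to_subgroup _) (hbi.sq hG)).mpr ⟨i, j, rfl⟩, ?_⟩
    simp only [Subgroup.coe_subtype, Subgroup.coe_mul, Subgroup.coe_zpow]
    rw [← zpow_natCast a 2, ← zpow_natCast b 2, ← zpow_mul, ← zpow_mul]
    norm_num
    ring_nf

theorem mul_zpow_self_eq {H : Type*} [Group H] {z : H} (hz2 : z ^ 2 = 1) {k : ℤ} :
    z ^ k * z ^ k = 1 := by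
  rw [← zpow_add, ← two_mul, zpow_mul, zpow_ofNat, hz2, one_zpow]

/-- The core step for the powerful lemma: `T = ⟨a²⟩⟨b²⟩` of exponent four. -/
theorem squares_commute (hG : IsPGroup 2 G) {a b : G} (hbi : Bi a b) (hu : (a ^ 2) ^ 4 = 1)
    (hw : (b ^ 2) ^ 4 = 1)
    (hmin : ∀ N : Subgroup G, N.Normal → N ≤ P 2 (⊤ : Subgroup G) → N ≠ ⊥ → ⁅a ^ 2, b ^ 2⁆ ∈ N) :
    ⁅a ^ 2, b ^ 2⁆ = 1 := by
  haveI : Fact (Nat.Prime 2) := ⟨Nat.prime_two⟩
  by_contra hz
  set T := P 2 (⊤ : Subgroup G) with hT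
  haveI hTn : T.Normal := normal_P _
  set u := a ^ 2 with hud
  set w := b ^ 2 with hwd
  set z := ⁅u, w⁆ with hzd
  have huT : u ∈ T := sq_mem_sq a
  have hwT : w ∈ T := sq_mem_sq b
  have hzT : z ∈ T := commutator_mem_sq _ _
  have hzc : z ∈ center G :=
    (hmin _ inferInstance inf_le_left (inf_center_ne_bot hG (N := T)
      fun h => hz (Subgroup.mem_bot.mp (h ▸ hzT)))).2
  have hzg : ∀ g : G, g * z = z * g := fun g => mem_center_comm hzc g
  haveI : (zpowers (z ^ 2)).Normal :=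
    normal_of_le_center (zpowers_le.mpr (pow_mem hzc 2))
  have hz2 : z ^ 2 = 1 := by
    by_contra h2
    obtain ⟨k, hk⟩ := mem_zpowers_iff.mp (hmin (zpowers (z ^ 2)) ‹_›
      (zpowers_le.mpr (pow_mem hzT 2)) (by rwa [Ne, zpowers_eq_bot]))
    obtain ⟨m, hm⟩ := hG z
    have hodd : z ^ (2 * k - 1) = 1 := by
      rw [zpow_sub, zpow_one, zpow_mul, zpow_ofNat, hk, mul_inv_cancel]
    have h1 : orderOf z ∣ 2 ^ m := orderOf_dvd_of_pow_eq_one hm
    obtain ⟨e, -, he⟩ := (Nat.dvd_prime_pow Nat.prime_two).mp h1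
    have h3 : (orderOf z : ℤ) ∣ 2 * k - 1 := orderOf_dvd_iff_zpow_eq_one.mpr hodd
    rcases Nat.eq_zero_or_pos e with rfl | he0
    · exact hz (orderOf_eq_one_iff.mp (by rw [he, pow_zero]))
    · have h4 : (2 : ℤ) ∣ 2 * k - 1 := by
        refine dvd_trans ?_ h3
        rw [he]; exact_mod_cast dvd_pow_self 2 he0.ne'
      omega
  have hcent : ∀ c : G, c ∈ T → (∀ g : G, g * c = c * g) → c = 1 ∨ c = z := by
    intro c hcT hc
    by_cases h1 : c = 1
    · exact Or.inl h1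
    right
    haveI : (zpowers c).Normal :=
      normal_of_le_center (zpowers_le.mpr (Subgroup.mem_center_iff.mpr hc))
    obtain ⟨k, hk⟩ := mem_zpowers_iff.mp (hmin _ ‹_› (zpowers_le.mpr hcT)
      (by rwa [Ne, zpowers_eq_bot]))
    have hc4 : c ^ 4 = 1 := by
      obtain ⟨i, j, rfl⟩ := (mem_sq_iff hG hbi).mp hcT
      rw [zpow_two_mul', zpow_two_mul'] at hc ⊢
      have e1 : Commute (u ^ i) (w ^ j) := by
        have h5 := hc (u ^ i)
        exact mul_left_cancel (a := u ^ i) (by rw [h5, mul_assoc])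
      rw [e1.mul_pow, ← zpow_natCast, ← zpow_mul, mul_comm i, zpow_mul, zpow_natCast, hu, one_zpow,
        ← zpow_natCast, ← zpow_mul, mul_comm j, zpow_mul, zpow_natCast, hw, one_zpow, one_mul]
    haveI : (zpowers (c ^ 2)).Normal :=
      normal_of_le_center (zpowers_le.mpr (pow_mem (Subgroup.mem_center_iff.mpr hc) 2))
    by_cases h2 : c ^ 2 = 1
    · rcases Int.even_or_odd k with ⟨m, rfl⟩ | ⟨m, rfl⟩
      · exact absurd (by rw [← hk, ← two_mul, zpow_mul, zpow_ofNat, h2, one_zpow]) hz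
      · rw [← hk, zpow_add, zpow_one, zpow_mul, zpow_ofNat, h2, one_zpow, one_mul]
    exfalso
    have hz' : z = c ^ 2 := by
      obtain ⟨l, hl⟩ := mem_zpowers_iff.mp (hmin _ ‹(zpowers (c ^ 2)).Normal›
        (zpowers_le.mpr (pow_mem hcT 2)) (by rwa [Ne, zpowers_eq_bot]))
      have hh : (c ^ 2) ^ 2 = 1 := by rw [← pow_mul]; exact hc4
      rcases Int.even_or_odd l with ⟨m, rfl⟩ | ⟨m, rfl⟩
      · exact absurd (by rw [← hl, ← two_mul, zpow_mul, zpow_ofNat, hh, one_zpow]) hz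
      · rw [← hl, zpow_add, zpow_one, zpow_mul, zpow_ofNat, hh, one_zpow, one_mul]
    -- `c` of order four with `c² = z`: impossible as `c` commutes with everything in `T`
    obtain ⟨i, j, hce⟩ := (mem_sq_iff hG hbi).mp hcT
    rw [zpow_two_mul', zpow_two_mul'] at hce
    rcases Int.even_or_odd i with ⟨m, rfl⟩ | ⟨m, rfl⟩
    · rcases Int.even_or_odd j with ⟨n, rfl⟩ | ⟨n, rfl⟩
      · have h6 : Commute (u ^ (m + m)) (w ^ (n + n)) := by
          have h5 := hc (u ^ (m + m))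
          rw [hce] at h5
          exact mul_left_cancel (a := u ^ (m + m)) (by rw [h5, mul_assoc])
        apply h2
        rw [hce, h6.mul_pow, ← zpow_natCast, ← zpow_mul, show (m + m) * ((2 : ℕ) : ℤ) = 4 * m by
          push_cast; ring, ← zpow_natCast (w ^ (n + n)), ← zpow_mul,
          show (n + n) * ((2 : ℕ) : ℤ) = 4 * n by push_cast; ring, zpow_mul u, zpow_mul w,
          zpow_ofNat, zpow_ofNat, hu, hw, one_zpow, one_zpow, one_mul]
      · refine hz (commutatorElement_eq_one_iff_mul_comm.mpr ?_)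
        have hwz : Commute (u : G) (w ^ (n + n + 1)) := by
          have h5 : Commute u c := hc u
          rw [hce, show (2 * n + 1 : ℤ) = n + n + 1 by ring, ← hud, ← hwd] at h5
          have e : w ^ (n + n + 1) = (u ^ (m + m))⁻¹ * (u ^ (m + m) * w ^ (n + n + 1)) := by group
          rw [e]
          exact ((Commute.refl u).zpow_right _).inv_right.mul_right h5
        have hwn : w = (w ^ (n + n + 1)) * (w ^ (n + n))⁻¹ := by group
        have h7 : Commute u (w ^ 2) := by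
          show u * w ^ 2 = w ^ 2 * u
          have e : u * w * u⁻¹ = z * w := by rw [hzd, commutatorElement_def]; group
          have : u * w ^ 2 * u⁻¹ = w ^ 2 := by
            calc u * w ^ 2 * u⁻¹ = (u * w * u⁻¹) ^ 2 := by simp [pow_two, mul_assoc]
              _ = z ^ 2 * w ^ 2 := by rw [e]; exact (show Commute z w from (hzg w).symm).mul_pow 2
              _ = w ^ 2 := by rw [hz2, one_mul]
          exact mul_inv_eq_iff_eq_mul.mp this
        rw [hwn]
        refine (hwz.mul_right (Commute.inv_right ?_)).eq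
        rw [← two_mul, zpow_mul, zpow_ofNat]
        exact h7.zpow_right n
    · refine hz (commutatorElement_eq_one_iff_mul_comm.mpr ?_)
      have h7 : Commute (u ^ 2) w := by
        show u ^ 2 * w = w * u ^ 2
        have e : u * w * u⁻¹ = z * w := by rw [hzd, commutatorElement_def]; group
        have : u ^ 2 * w * (u ^ 2)⁻¹ = w := by
          calc u ^ 2 * w * (u ^ 2)⁻¹ = u * (u * w * u⁻¹) * u⁻¹ := by simp [pow_two, mul_assoc]
            _ = z * (u * w * u⁻¹) := by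
              conv_lhs => rw [e, ← mul_assoc u z, hzg u]
              simp [mul_assoc]
            _ = z ^ 2 * w := by rw [e, ← mul_assoc, pow_two]
            _ = w := by rw [hz2, one_mul]
        exact mul_inv_eq_iff_eq_mul.mp this
      have h5 : Commute c w := (hc w).symm
      rw [hce, zpow_add, zpow_one, mul_assoc, zpow_mul, zpow_ofNat, ← hud, ← hwd] at h5
      have e : u = ((u ^ 2) ^ m)⁻¹ * ((u ^ 2) ^ m * (u * w ^ j)) * (w ^ j)⁻¹ := by group
      have h8 : Commute u w := by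
        rw [e]
        exact ((h7.zpow_left m).inv_left.mul_left h5).mul_left
          ((Commute.refl w).zpow_left j).inv_left
      exact h8.eq
  have hwuc : w * u = z * (u * w) := by
    have e : z⁻¹ = z := inv_eq_of_mul_eq_one_right (by rw [← sq]; exact hz2)
    rw [← e, hzd, commutatorElement_def]; group
  have hu2w : Commute (u ^ 2) w := by
    show u ^ 2 * w = w * u ^ 2
    symm
    calc w * u ^ 2 = (w * u) * u := by rw [sq, mul_assoc]
      _ = z * (u * (w * u)) := by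
        conv_lhs => rw [hwuc]
        simp [mul_assoc]
      _ = z * (u * (z * (u * w))) := by rw [hwuc]
      _ = z ^ 2 * (u ^ 2 * w) := by
        rw [← mul_assoc u z, hzg u]; simp [pow_two, mul_assoc]
      _ = u ^ 2 * w := by rw [hz2, one_mul]
  have hw2u : Commute (w ^ 2) u := by
    show w ^ 2 * u = u * w ^ 2
    calc w ^ 2 * u = w * (w * u) := by rw [sq, mul_assoc]
      _ = (w * z) * (u * w) := by
        conv_lhs => rw [hwuc]
        simp [mul_assoc]
      _ = z * ((w * u) * w) := by rw [hzg w]; simp [mul_assoc]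
      _ = z * (z * (u * w) * w) := by rw [hwuc]
      _ = z ^ 2 * (u * w ^ 2) := by simp [pow_two, mul_assoc]
      _ = u * w ^ 2 := by rw [hz2, one_mul]
  obtain ⟨e1, he1⟩ : ∃ e : Bool, ∃ f : Bool, z = (if e then u ^ 2 else 1) * if f then w ^ 2 else 1 := by
    have hzmem : z ∈ P 2 T := by
      have e : z = u ^ 2 * (u⁻¹ * w) ^ 2 * (w ^ 2)⁻¹ := by
        simp [hzd, commutatorElement_def, pow_two, mul_assoc]
      rw [e]
      exact mul_mem (mul_mem (pow_mem_P huT) (pow_mem_P (mul_mem (inv_mem huT) hwT)))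
        (inv_mem (pow_mem_P hwT))
    obtain ⟨p, q, hpq⟩ := (mem_sq2_iff hG hbi).mp hzmem
    have hcases : ∀ (c : G) (k : ℤ), c ^ 4 = 1 →
        ∃ e : Bool, (c ^ 2) ^ k = if e then c ^ 2 else 1 := by
      intro c k hc
      have h2 : (c ^ 2) ^ 2 = 1 := by rw [← pow_mul]; exact hc
      rcases Int.even_or_odd k with ⟨m, rfl⟩ | ⟨m, rfl⟩
      · exact ⟨false, by rw [← two_mul, zpow_mul, zpow_ofNat, h2, one_zpow]; rfl⟩
      · exact ⟨true, by rw [zpow_add, zpow_one, zpow_mul, zpow_ofNat, h2, one_zpow, one_mul]; rfl⟩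
    obtain ⟨e, he⟩ := hcases u p hu
    obtain ⟨f, hf⟩ := hcases w q hw
    refine ⟨e, f, ?_⟩
    rw [← he, ← hf, hpq, hud, hwd, ← pow_mul, ← pow_mul, ← zpow_natCast, ← zpow_natCast b,
      ← zpow_mul, ← zpow_mul]
    norm_num
  obtain ⟨f1, he1⟩ := he1
  have hall : ∀ c : G, Commute a c → Commute b c → ∀ g : G, g * c = c * g := by
    intro c ha hb g
    obtain ⟨i, j, rfl⟩ := hbi g
    exact ((ha.zpow_left i).mul_left (hb.zpow_left j)).eq
  have hau : Commute a u := Commute.self_pow a 2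
  have hbw : Commute b w := Commute.self_pow b 2
  -- conjugates of squares are squares
  have hsqform : ∀ g : G, ∀ s ∈ T, ∃ i j : ℤ, g * s * g⁻¹ = u ^ i * w ^ j ∧
      (g * s * g⁻¹) ^ 2 = 1 ∨ g * s * g⁻¹ = u ^ i * w ^ j ∧ (g * s * g⁻¹) ^ 2 = u ^ 2 ∨
      g * s * g⁻¹ = u ^ i * w ^ j ∧ (g * s * g⁻¹) ^ 2 = w ^ 2 ∨
      g * s * g⁻¹ = u ^ i * w ^ j ∧ (g * s * g⁻¹) ^ 2 = u ^ 2 * w ^ 2 * z := by
    intro g s hs
    obtain ⟨i, j, hij⟩ := (mem_sq_iff hG hbi).mp (hTn.conj_mem s hs g)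
    rw [zpow_two_mul', zpow_two_mul'] at hij
    refine ⟨i, j, ?_⟩
    have hu22 : (u ^ 2) ^ 2 = 1 := by rw [← pow_mul]; exact hu
    have hw22 : (w ^ 2) ^ 2 = 1 := by rw [← pow_mul]; exact hw
    rcases Int.even_or_odd i with ⟨m, hm⟩ | ⟨m, hm⟩ <;>
      rcases Int.even_or_odd j with ⟨n, hn⟩ | ⟨n, hn⟩
    · left
      refine ⟨hij, ?_⟩
      rw [hij, hm, hn, ← two_mul, ← two_mul, zpow_mul, zpow_mul, zpow_ofNat, zpow_ofNat,
        ((hu2w.pow_right 2).zpow_zpow m n).mul_pow, ← zpow_natCast, ← zpow_mul, mul_comm m,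
        zpow_mul, zpow_natCast, hu22, one_zpow, ← zpow_natCast, ← zpow_mul, mul_comm n,
        zpow_mul, zpow_natCast, hw22, one_zpow, one_mul]
    · right; right; left
      refine ⟨hij, ?_⟩
      rw [hij, hm, ← two_mul, zpow_mul, zpow_ofNat,
        ((hu2w.zpow_left m).zpow_right j).mul_pow, ← zpow_natCast, ← zpow_mul, mul_comm m,
        zpow_mul, zpow_natCast, hu22, one_zpow, one_mul, ← zpow_natCast, ← zpow_mul, hn,
        show (2 * n + 1) * ((2 : ℕ) : ℤ) = 4 * n + 2 by push_cast; ring, zpow_add, zpow_mul,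
        zpow_ofNat, zpow_ofNat, hw, one_zpow, one_mul]
    · right; left
      refine ⟨hij, ?_⟩
      rw [hij, hn, ← two_mul, zpow_mul, zpow_ofNat,
        ((hw2u.zpow_left n).zpow_right i).symm.mul_pow, ← zpow_natCast (((w ^ 2) ^ n)),
        ← zpow_mul, mul_comm n, zpow_mul, zpow_natCast, hw22, one_zpow, mul_one,
        ← zpow_natCast, ← zpow_mul, hm,
        show (2 * m + 1) * ((2 : ℕ) : ℤ) = 4 * m + 2 by push_cast; ring, zpow_add, zpow_mul,
        zpow_ofNat, zpow_ofNat, hu, one_zpow, one_mul]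
    · right; right; right
      refine ⟨hij, ?_⟩
      have hA : Commute ((u ^ 2) ^ m) w := hu2w.zpow_left m
      have hB : Commute ((w ^ 2) ^ n) u := hw2u.zpow_left n
      have e : u ^ i * w ^ j = ((u ^ 2) ^ m * (w ^ 2) ^ n) * (u * w) := by
        rw [hm, hn, zpow_add, zpow_one, zpow_mul, zpow_ofNat, zpow_add, zpow_one, zpow_mul,
          zpow_ofNat, mul_assoc, ← mul_assoc u, ← hB.eq]
        simp [mul_assoc]
      have hC : Commute ((u ^ 2) ^ m * (w ^ 2) ^ n) (u * w) :=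
        (((Commute.self_pow u 2).symm.zpow_left m).mul_right hA).mul_left
          (hB.mul_right ((Commute.self_pow w 2).symm.zpow_left n))
      rw [hij, e, hC.mul_pow, ((hu2w.pow_right 2).zpow_zpow m n).mul_pow, ← zpow_natCast,
        ← zpow_mul, mul_comm m, zpow_mul, zpow_natCast, hu22, one_zpow, ← zpow_natCast,
        ← zpow_mul, mul_comm n, zpow_mul, zpow_natCast, hw22, one_zpow, one_mul, one_mul]
      calc (u * w) ^ 2 = u * (w * u) * w := by rw [sq]; simp [mul_assoc]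
        _ = u * z * (u * w * w) := by rw [hwuc]; simp [mul_assoc]
        _ = z * (u ^ 2 * w ^ 2) := by rw [hzg u]; simp [pow_two, mul_assoc]
        _ = u ^ 2 * w ^ 2 * z := (hzg _).symm
  have hb_u2 : Commute b (u ^ 2) := by
    obtain ⟨i, j, h⟩ := hsqform b u huT
    have ec : (b * u * b⁻¹) ^ 2 = b * u ^ 2 * b⁻¹ := by simp [pow_two, mul_assoc]
    have fin : b * u ^ 2 * b⁻¹ = u ^ 2 → Commute b (u ^ 2) := fun h' =>
      mul_inv_eq_iff_eq_mul.mp h'
    have hbz : b * z * b⁻¹ = z := by rw [hzg b, mul_inv_cancel_right]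
    rcases h with ⟨-, h⟩ | ⟨-, h⟩ | ⟨-, h⟩ | ⟨-, h⟩ <;> rw [ec] at h
    · refine fin (h.trans ?_)
      have e : u ^ 2 = b⁻¹ * (b * u ^ 2 * b⁻¹) * b := by group
      rw [e, h]; group
    · exact fin h
    · refine fin (h.trans ?_)
      have e : u ^ 2 = b⁻¹ * (b * u ^ 2 * b⁻¹) * b := by group
      rw [e, h, mul_assoc b⁻¹, ← (hbw.pow_right 2).eq, inv_mul_cancel_left]
    · cases e1 <;> cases f1 <;> simp at he1
      · exact absurd he1 hz
      · refine fin (h.trans ?_)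
        rw [he1, mul_assoc, ← pow_add, hw, mul_one]
      · exact fin (he1 ▸ hbz)
      · refine fin (h.trans ?_)
        rw [← he1, ← sq, hz2]
        have e : u ^ 2 = b⁻¹ * (b * u ^ 2 * b⁻¹) * b := by group
        rw [e, h, ← he1, ← sq, hz2]; group
  have ha_w2 : Commute a (w ^ 2) := by
    obtain ⟨i, j, h⟩ := hsqform a w hwT
    have ec : (a * w * a⁻¹) ^ 2 = a * w ^ 2 * a⁻¹ := by simp [pow_two, mul_assoc]
    have fin : a * w ^ 2 * a⁻¹ = w ^ 2 → Commute a (w ^ 2) := fun h' =>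
      mul_inv_eq_iff_eq_mul.mp h'
    have haz : a * z * a⁻¹ = z := by rw [hzg a, mul_inv_cancel_right]
    rcases h with ⟨-, h⟩ | ⟨-, h⟩ | ⟨-, h⟩ | ⟨-, h⟩ <;> rw [ec] at h
    · refine fin (h.trans ?_)
      have e : w ^ 2 = a⁻¹ * (a * w ^ 2 * a⁻¹) * a := by group
      rw [e, h]; group
    · refine fin (h.trans ?_)
      have e : w ^ 2 = a⁻¹ * (a * w ^ 2 * a⁻¹) * a := by group
      rw [e, h, mul_assoc a⁻¹, ← (hau.pow_right 2).eq, inv_mul_cancel_left]
    · exact fin h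
    · cases e1 <;> cases f1 <;> simp at he1
      · exact absurd he1 hz
      · exact fin (he1 ▸ haz)
      · refine fin (h.trans ?_)
        rw [he1, (hu2w.pow_right 2).eq, mul_assoc, ← pow_add, hu, mul_one]
      · refine fin (h.trans ?_)
        rw [← he1, ← sq, hz2]
        have e : w ^ 2 = a⁻¹ * (a * w ^ 2 * a⁻¹) * a := by group
        rw [e, h, ← he1, ← sq, hz2]; group
  have hu2 := hcent (u ^ 2) (pow_mem huT 2) (hall _ (hau.pow_right 2) hb_u2)
  have hw2 := hcent (w ^ 2) (pow_mem hwT 2) (hall _ ha_w2 (hbw.pow_right 2))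
  -- now `T/⟨z⟩` is elementary
  haveI hZn : (zpowers z).Normal := normal_of_le_center (zpowers_le.mpr hzc)
  set π := QuotientGroup.mk' (zpowers z)
  have hπz : ∀ c : G, c = 1 ∨ c = z → π c = 1 := by
    rintro c (rfl | rfl)
    · exact map_one π
    · exact (QuotientGroup.eq_one_iff _).mpr (mem_zpowers z)
  have hπ1 : π u ^ 2 = 1 := by rw [← map_pow]; exact hπz _ hu2
  have hπ2 : π w ^ 2 = 1 := by rw [← map_pow]; exact hπz _ hw2
  have hlift : ∀ c d : G, π c = π d → ∃ k : ℤ, c = d * z ^ k := by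
    intro c d h
    obtain ⟨k, hk⟩ := mem_zpowers_iff.mp (QuotientGroup.eq.mp h.symm)
    exact ⟨k, by rw [hk]; group⟩
  have hcomm_of : ∀ c d : G, π c = π d → Commute d u → Commute c u := by
    intro c d h hd
    obtain ⟨k, rfl⟩ := hlift c d h
    exact hd.mul_left ((Commute.symm (hzg u)).zpow_left k)
  have hne : ¬ Commute u w := fun h => hz (commutatorElement_eq_one_iff_mul_comm.mpr h.eq)
  have hwu : π w ≠ π u := fun h => hne ((hcomm_of w u h (Commute.refl u)).symm)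
  have hw1 : π w ≠ 1 := fun h => hne ((hcomm_of w 1 (by rw [h, map_one]) (Commute.one_left u)).symm)
  have hu1 : π u ≠ 1 := fun h => by
    obtain ⟨k, hk⟩ := hlift u 1 (by rw [h, map_one])
    exact hne (by rw [hk, one_mul]; exact (Commute.symm (hzg w)).zpow_left k)
  have hzp : ∀ {x : G ⧸ zpowers z} (k : ℤ), x ^ 2 = 1 → x ^ k = 1 ∨ x ^ k = x := by
    intro x k hx
    rcases Int.even_or_odd k with ⟨m, rfl⟩ | ⟨m, rfl⟩
    · left; rw [← two_mul, zpow_mul, zpow_ofNat, hx, one_zpow]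
    · right; rw [zpow_add, zpow_one, zpow_mul, zpow_ofNat, hx, one_zpow, one_mul]
  have himg : ∀ g : G, ∀ s ∈ T, π g * π s * (π g)⁻¹ = 1 ∨ π g * π s * (π g)⁻¹ = π u ∨
      π g * π s * (π g)⁻¹ = π w ∨ π g * π s * (π g)⁻¹ = π u * π w := by
    intro g s hs
    obtain ⟨i, j, hij⟩ := (mem_sq_iff hG hbi).mp (hTn.conj_mem s hs g)
    rw [zpow_two_mul', zpow_two_mul', ← hud, ← hwd] at hij
    rw [← map_inv, ← map_mul, ← map_mul, hij, map_mul, map_zpow, map_zpow]
    rcases hzp i hπ1 with h | h <;> rcases hzp j hπ2 with h' | h' <;> rw [h, h'] <;> simp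
  have hau' : π a * π u * (π a)⁻¹ = π u := by
    rw [← map_mul, hau.eq, map_mul, mul_inv_cancel_right]
  have hbw' : π b * π w * (π b)⁻¹ = π w := by
    rw [← map_mul, hbw.eq, map_mul, mul_inv_cancel_right]
  -- a lift computation: an element fixing a coset has square fixing the element
  have hsqfix : ∀ g c : G, π g * π c * (π g)⁻¹ = π c → Commute (g ^ 2) c := by
    intro g c h
    rw [← map_inv, ← map_mul, ← map_mul] at h
    obtain ⟨k, hk⟩ := hlift _ _ h
    show g ^ 2 * c = c * g ^ 2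
    refine mul_inv_eq_iff_eq_mul.mp ?_
    have hzk : g * z ^ k = z ^ k * g := ((show Commute g z from hzg g).zpow_right k).eq
    calc g ^ 2 * c * (g ^ 2)⁻¹ = g * (g * c * g⁻¹) * g⁻¹ := by simp [pow_two, mul_assoc]
      _ = g * c * g⁻¹ * (g * z ^ k * g⁻¹) := by
        conv_lhs => rw [hk]
        simp [mul_assoc]
      _ = c * (z ^ k * z ^ k) := by rw [hk, hzk]; group
      _ = c := by
        rw [mul_zpow_self_eq hz2, mul_one]
  have haw : π a * π w * (π a)⁻¹ = π u * π w := by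
    rcases himg a w hwT with h | h | h | h
    · exact absurd (by simpa using h) hw1
    · exact absurd (mul_left_cancel (mul_right_cancel (h.trans hau'.symm))) hwu
    · exact absurd (hsqfix a w h) hne
    · exact h
  have hbu : π b * π u * (π b)⁻¹ = π u * π w := by
    rcases himg b u huT with h | h | h | h
    · exact absurd (by simpa using h) hu1
    · exact absurd (hsqfix b u h).symm hne
    · exact absurd (mul_left_cancel (mul_right_cancel (h.trans hbw'.symm))) (Ne.symm hwu)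
    · exact h
  set g := π a * π b
  have hconj : ∀ x y : G ⧸ zpowers z, g * x * g⁻¹ = y ↔ π a * (π b * x * (π b)⁻¹) * (π a)⁻¹ = y := by
    intro x y
    have e : g * x * g⁻¹ = π a * (π b * x * (π b)⁻¹) * (π a)⁻¹ := by
      show π a * π b * x * (π a * π b)⁻¹ = _; group
    rw [e]
  have huu : π u * π u = 1 := by rw [← sq]; exact hπ1
  have mulconj : ∀ c x y : G ⧸ zpowers z, c * (x * y) * c⁻¹ = (c * x * c⁻¹) * (c * y * c⁻¹) :=
    fun c x y => by group
  have g1 : g * π u * g⁻¹ = π w := by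
    rw [hconj, hbu, mulconj, hau', haw, ← mul_assoc, huu, one_mul]
  have g2 : g * π w * g⁻¹ = π u * π w := by rw [hconj, hbw', haw]
  have g3 : g ^ 3 * π u * (g ^ 3)⁻¹ = π u := by
    calc g ^ 3 * π u * (g ^ 3)⁻¹ = g * (g * (g * π u * g⁻¹) * g⁻¹) * g⁻¹ := by
          simp [pow_succ, mul_assoc]
      _ = π u := by
        rw [g1, g2, mulconj, g1, g2]
        have hc : π w * π u = π u * π w := by
          rw [← map_mul, ← map_mul, hwuc, map_mul, hπz z (Or.inr rfl), one_mul]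
        rw [← mul_assoc, hc, mul_assoc, ← sq, hπ2, mul_one]
  obtain ⟨k, hk⟩ := hG.to_quotient (zpowers z) g
  have hcop : (orderOf g).Coprime 3 := by
    refine Nat.Coprime.coprime_dvd_left (orderOf_dvd_of_pow_eq_one hk) ?_
    exact Nat.Coprime.pow_left k (by norm_num)
  obtain ⟨s, hs⟩ := exists_pow_eq_self_of_coprime hcop.symm
  have hgc : Commute g (π u) := by
    rw [← hs]
    exact (show Commute (g ^ 3) (π u) from mul_inv_eq_iff_eq_mul.mp g3).pow_left s
  exact hwu (g1.symm.trans (mul_inv_eq_iff_eq_mul.mpr hgc.eq))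

end finite

/-- The commutator of `a²` and `b²` lies in `⟨a⁸⟩⟨b⁸⟩`, stated through square subgroups. -/
theorem commutator_sq_mem [Finite G] (hG : IsPGroup 2 G) {a b : G} (hbi : Bi a b) :
    ⁅a ^ 2, b ^ 2⁆ ∈ P 2 (P 2 (P 2 (⊤ : Subgroup G))) := by
  by_contra hno
  haveI := normal_P (p := 2) (⊤ : Subgroup G)
  haveI := normal_P (p := 2) (P 2 (⊤ : Subgroup G))
  haveI hN8 := normal_P (p := 2) (P 2 (P 2 (⊤ : Subgroup G)))
  obtain ⟨N, hle, hNmax⟩ := (Set.toFinite {N : Subgroup G | N.Normal ∧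
      P 2 (P 2 (P 2 (⊤ : Subgroup G))) ≤ N ∧ N ≤ P 2 ⊤ ∧ ⁅a ^ 2, b ^ 2⁆ ∉ N}).exists_le_maximal
    (a := P 2 (P 2 (P 2 (⊤ : Subgroup G)))) ⟨hN8, le_rfl, (P_le _).trans (P_le _), hno⟩
  obtain ⟨hNn, hN8le, hNT, hNc⟩ := hNmax.1
  haveI := hNn
  set π := QuotientGroup.mk' N
  have hsurj : Function.Surjective π := QuotientGroup.mk'_surjective N
  apply hNc
  rw [← QuotientGroup.eq_one_iff]
  show π ⁅a ^ 2, b ^ 2⁆ = 1
  rw [map_commutatorElement, map_pow, map_pow]
  have hP : P 2 (⊤ : Subgroup (G ⧸ N)) = (P 2 (⊤ : Subgroup G)).map π := by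
    rw [map_P, Subgroup.map_top_of_surjective π hsurj]
  have h8 : ∀ c : G, (π c ^ 2) ^ 4 = 1 := by
    intro c
    rw [← map_pow, ← map_pow]
    refine (QuotientGroup.eq_one_iff _).mpr (hN8le ?_)
    have e : (c ^ 2) ^ 4 = ((c ^ 2) ^ 2) ^ 2 := by group
    rw [e]
    exact pow_mem_P (pow_mem_P (sq_mem_sq c))
  refine squares_commute (hG.to_quotient N) (hbi.map π hsurj) (h8 a) (h8 b) fun M hM hMT hMb => ?_
  by_contra hMc
  haveI := hM
  have hge : N ≤ M.comap π := by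
    intro x hx
    rw [Subgroup.mem_comap]
    rw [show π x = 1 from (QuotientGroup.eq_one_iff x).mpr hx]
    exact one_mem M
  have hcomap : M.comap π ≤ P 2 (⊤ : Subgroup G) := by
    refine (Subgroup.comap_mono (hP ▸ hMT)).trans ?_
    rw [Subgroup.comap_map_eq, QuotientGroup.ker_mk']
    exact sup_le le_rfl hNT
  have heq := le_antisymm (hNmax.2 ⟨inferInstance, hN8le.trans hge, hcomap, fun h => hMc (by
    rw [← map_pow, ← map_pow, ← map_commutatorElement]; exact h)⟩ hge) hge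
  apply hMb
  rw [← Subgroup.map_comap_eq_self_of_surjective hsurj M, heq,
    QuotientGroup.map_mk'_self]

section gen

variable [Finite G]

/-- A product of two cyclic groups has at most four classes modulo squares. -/
theorem gen_of_indep (hG : IsPGroup 2 G) {a b : G} (hbi : Bi a b) {h x : G}
    (hh : h ∉ P 2 (⊤ : Subgroup G)) (hx : x ∉ P 2 (⊤ : Subgroup G))
    (hd : h⁻¹ * x ∉ P 2 (⊤ : Subgroup G)) : closure {h, x} = ⊤ := by
  haveI := normal_P (p := 2) (⊤ : Subgroup G)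
  classical
  haveI := Fintype.ofFinite (G ⧸ P 2 (⊤ : Subgroup G))
  set ρ := QuotientGroup.mk' (P 2 (⊤ : Subgroup G))
  have hρ : ∀ y : G, ρ y ^ 2 = 1 := fun y => by
    rw [← map_pow]; exact (QuotientGroup.eq_one_iff _).mpr (sq_mem_sq y)
  have hz : ∀ (y : G) (k : ℤ), ρ y ^ k = 1 ∨ ρ y ^ k = ρ y := by
    intro y k
    rcases Int.even_or_odd k with ⟨m, rfl⟩ | ⟨m, rfl⟩
    · left; rw [← two_mul, zpow_mul, zpow_ofNat, hρ, one_zpow]
    · right; rw [zpow_add, zpow_one, zpow_mul, zpow_ofNat, hρ, one_zpow, one_mul]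
  have hfour : ∀ z : G ⧸ P 2 (⊤ : Subgroup G),
      z ∈ ({1, ρ a, ρ b, ρ a * ρ b} : Finset (G ⧸ P 2 (⊤ : Subgroup G))) := by
    intro z
    obtain ⟨g, rfl⟩ := QuotientGroup.mk'_surjective _ z
    obtain ⟨i, j, rfl⟩ := hbi g
    show ρ (a ^ i * b ^ j) ∈ _
    rw [map_mul, map_zpow, map_zpow]
    rcases hz a i with e | e <;> rcases hz b j with e' | e' <;> rw [e, e'] <;> simp
  have n1 : ρ h ≠ 1 := fun e => hh ((QuotientGroup.eq_one_iff h).mp e)
  have n2 : ρ x ≠ 1 := fun e => hx ((QuotientGroup.eq_one_iff x).mp e)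
  have n3 : ρ h ≠ ρ x := fun e => hd (QuotientGroup.eq.mp e)
  have n4 : ρ h * ρ x ≠ 1 := fun e => n3 (by
    rw [eq_inv_of_mul_eq_one_right e, inv_eq_of_mul_eq_one_right
      ((sq (ρ h)).symm.trans (hρ h))])
  have hsub : ({1, ρ h, ρ x, ρ h * ρ x} : Finset (G ⧸ P 2 (⊤ : Subgroup G))) = Finset.univ := by
    refine Finset.eq_univ_of_card _ (le_antisymm (Finset.card_le_univ _) ?_)
    have h4 : ({1, ρ h, ρ x, ρ h * ρ x} : Finset (G ⧸ P 2 (⊤ : Subgroup G))).card = 4 := by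
      have n5 : ρ h ≠ ρ h * ρ x := fun e => n2 (left_eq_mul.mp e)
      have n6 : ρ x ≠ ρ h * ρ x := fun e => n1 (right_eq_mul.mp e)
      simp [n1.symm, n2.symm, n3, n4.symm, n5, n6]
    rw [h4]
    refine le_trans (Finset.card_le_card (t := {1, ρ a, ρ b, ρ a * ρ b}) fun z _ => hfour z) ?_
    exact Finset.card_le_four
  refine top_of_sup_sq hG (top_le_iff.mp fun y _ => ?_)
  have hy : ρ y ∈ (closure {h, x}).map ρ := by
    have hm := hsub.ge (Finset.mem_univ (ρ y))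
    simp only [Finset.mem_insert, Finset.mem_singleton] at hm
    rcases hm with e | e | e | e <;> rw [e]
    · exact one_mem _
    · exact mem_map_of_mem ρ (mem_pair_left _ _)
    · exact mem_map_of_mem ρ (mem_pair_right _ _)
    · rw [← map_mul]
      exact mem_map_of_mem ρ (mul_mem (mem_pair_left _ _)
        (mem_pair_right _ _))
  have := Subgroup.mem_comap.mpr hy
  rwa [Subgroup.comap_map_eq, QuotientGroup.ker_mk'] at this

/-- A generator outside the squares can replace one of two generators. -/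
theorem pair_gen {K : Subgroup G} (hG : IsPGroup 2 G) {k₁ k₂ : G} (hK : K = closure {k₁, k₂})
    {c : G} (hc : c ∈ K) (hc2 : c ∉ P 2 K) : ∃ q ∈ K, K = closure {c, q} := by
  have h1 : k₁ ∈ K := hK ▸ subset_closure (Set.mem_insert _ _)
  have h2 : k₂ ∈ K := hK ▸ subset_closure (Set.mem_insert_of_mem _ rfl)
  set q₁ : K := ⟨k₁, h1⟩
  set q₂ : K := ⟨k₂, h2⟩
  have hq : closure {q₁, q₂} = (⊤ : Subgroup K) := by
    refine Subgroup.map_injective K.subtype_injective ?_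
    rw [MonoidHom.map_closure, Set.image_pair, ← MonoidHom.range_eq_map, Subgroup.range_subtype]
    exact hK.symm
  have hKg := hG.to_subgroup K
  haveI := normal_P (p := 2) (⊤ : Subgroup K)
  set τ := QuotientGroup.mk' (P 2 (⊤ : Subgroup K))
  have hτ : ∀ x : K, τ x ^ 2 = 1 := fun x => by
    rw [← map_pow]; exact (QuotientGroup.eq_one_iff _).mpr (sq_mem_sq x)
  have hτ' : ∀ x : K, τ x * τ x = 1 := fun x => by rw [← sq]; exact hτ x
  have hmap : (P 2 (⊤ : Subgroup K)).map K.subtype = P 2 K := by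
    rw [map_P, ← MonoidHom.range_eq_map, Subgroup.range_subtype]
  have hc' : τ ⟨c, hc⟩ ≠ 1 := fun e => hc2 (by
    rw [← hmap]; exact ⟨_, (QuotientGroup.eq_one_iff _).mp e, rfl⟩)
  have finish : ∀ q : K, τ q₁ ∈ (closure {⟨c, hc⟩, q}).map τ →
      τ q₂ ∈ (closure {⟨c, hc⟩, q}).map τ → ∃ q ∈ K, K = closure {c, q} := by
    intro q e1 e2
    have htop : closure {⟨c, hc⟩, q} = (⊤ : Subgroup K) := by
      refine top_of_sup_sq hKg (top_le_iff.mp ?_)
      refine hq.ge.trans ?_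
      rw [closure_le, Set.insert_subset_iff, Set.singleton_subset_iff]
      constructor
      · have := Subgroup.mem_comap.mpr e1
        rwa [Subgroup.comap_map_eq, QuotientGroup.ker_mk'] at this
      · have := Subgroup.mem_comap.mpr e2
        rwa [Subgroup.comap_map_eq, QuotientGroup.ker_mk'] at this
    refine ⟨q, q.2, ?_⟩
    conv_lhs => rw [← Subgroup.range_subtype K, MonoidHom.range_eq_map, ← htop,
      MonoidHom.map_closure, Set.image_pair]
    rfl
  have hz : ∀ (y : K) (k : ℤ), τ y ^ k = 1 ∨ τ y ^ k = τ y := by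
    intro y k
    rcases Int.even_or_odd k with ⟨m, rfl⟩ | ⟨m, rfl⟩
    · left; rw [← two_mul, zpow_mul, zpow_ofNat, hτ, one_zpow]
    · right; rw [zpow_add, zpow_one, zpow_mul, zpow_ofNat, hτ, one_zpow, one_mul]
  have hcm : Commute (τ q₁) (τ q₂) := by
    show τ q₁ * τ q₂ = τ q₂ * τ q₁
    have h12 := hτ' (q₁ * q₂)
    rw [map_mul] at h12
    calc τ q₁ * τ q₂ = (τ q₁ * τ q₂)⁻¹ := (inv_eq_of_mul_eq_one_right h12).symm
      _ = τ q₂ * τ q₁ := by
        rw [mul_inv_rev, inv_eq_of_mul_eq_one_right (hτ' q₂),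
          inv_eq_of_mul_eq_one_right (hτ' q₁)]
  have hcl : τ ⟨c, hc⟩ ∈ closure {τ q₁, τ q₂} := by
    rw [← Set.image_pair, ← MonoidHom.map_closure, hq]
    exact Subgroup.mem_map_of_mem τ (mem_top _)
  obtain ⟨i, j, hij⟩ : ∃ i j : ℤ, τ q₁ ^ i * τ q₂ ^ j = τ ⟨c, hc⟩ := by
    let W : Subgroup (K ⧸ P 2 (⊤ : Subgroup K)) :=
      { carrier := {z | ∃ i j : ℤ, τ q₁ ^ i * τ q₂ ^ j = z}
        one_mem' := ⟨0, 0, by simp⟩
        mul_mem' := by
          rintro _ _ ⟨i, j, rfl⟩ ⟨k, l, rfl⟩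
          exact ⟨i + k, j + l, by rw [zpow_add, zpow_add]; exact (hcm.zpow_zpow k j).mul_mul_mul_comm _ _⟩
        inv_mem' := by
          rintro _ ⟨i, j, rfl⟩
          exact ⟨-i, -j, by rw [mul_inv_rev, zpow_neg, zpow_neg, (hcm.zpow_zpow i j).inv_inv.eq]⟩ }
    exact (closure_le W).mpr (by
      rw [Set.insert_subset_iff, Set.singleton_subset_iff]
      exact ⟨⟨1, 0, by simp⟩, ⟨0, 1, by simp⟩⟩) hcl
  have m1 : ∀ q : K, τ q ∈ (closure {(⟨c, hc⟩ : K), q}).map τ := fun q =>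
    Subgroup.mem_map_of_mem τ (mem_pair_right _ _)
  have mc : ∀ q : K, τ ⟨c, hc⟩ ∈ (closure {(⟨c, hc⟩ : K), q}).map τ := fun q =>
    Subgroup.mem_map_of_mem τ (mem_pair_left _ _)
  rcases hz q₁ i with e | e <;> rcases hz q₂ j with e' | e' <;> rw [e, e'] at hij <;>
    (try simp only [one_mul, mul_one] at hij)
  · exact absurd hij.symm hc'
  · exact finish q₁ (m1 _) (hij ▸ mc _)
  · exact finish q₂ (hij ▸ mc _) (m1 _)
  · refine finish q₁ (m1 _) ?_
    have e'' : τ q₂ = τ q₁ * τ ⟨c, hc⟩ := by rw [← hij, ← mul_assoc, hτ', one_mul]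
    rw [e'']
    exact mul_mem (m1 _) (mc _)

/-- If the square of an element outside the squares is trivial modulo fourth powers, the squares
form a cyclic group. -/
theorem sq_cyclic (hG : IsPGroup 2 G) {u w h : G} (hbi : Bi u w)
    (hc : ⁅u, w⁆ ∈ P 2 (P 2 (⊤ : Subgroup G))) (hh : h ∉ P 2 (⊤ : Subgroup G))
    (hh2 : h ^ 2 ∈ P 2 (P 2 (⊤ : Subgroup G))) : IsCyclic (P 2 (⊤ : Subgroup G)) := by
  haveI := normal_P (p := 2) (⊤ : Subgroup G)
  haveI := normal_P (p := 2) (P 2 (⊤ : Subgroup G))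
  set σ := QuotientGroup.mk' (P 2 (P 2 (⊤ : Subgroup G)))
  have hσc : Commute (σ u) (σ w) := by
    rw [← commutatorElement_eq_one_iff_commute, ← map_commutatorElement]
    exact (QuotientGroup.eq_one_iff _).mpr hc
  have hσ4 : ∀ x : G, (σ x ^ 2) ^ 2 = 1 := fun x => by
    rw [← map_pow, ← map_pow]
    exact (QuotientGroup.eq_one_iff _).mpr (pow_mem_P (sq_mem_sq x))
  obtain ⟨i, j, hij⟩ := hbi h
  have hrel : (σ u ^ 2) ^ i * (σ w ^ 2) ^ j = 1 := by
    have h1 : σ (h ^ 2) = 1 := (QuotientGroup.eq_one_iff _).mpr hh2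
    rw [hij, map_pow, map_mul, map_zpow, map_zpow, (hσc.zpow_zpow i j).mul_pow,
      ← zpow_natCast, ← zpow_natCast (σ w ^ j), ← zpow_mul, ← zpow_mul, mul_comm i,
      mul_comm j, zpow_mul, zpow_mul, zpow_natCast, zpow_natCast] at h1
    exact h1
  have hodd : Odd i ∨ Odd j := by
    by_contra hev
    simp only [not_or, Int.not_odd_iff_even] at hev
    refine hh ?_
    rw [hij]
    exact mul_mem (zpow_mem_of_even (sq_mem_sq u) hev.1) (zpow_mem_of_even (sq_mem_sq w) hev.2)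
  obtain ⟨c₀, hc₀, hgu, hgw⟩ : ∃ c₀ : G, c₀ ∈ P 2 (⊤ : Subgroup G) ∧
      σ u ^ 2 ∈ zpowers (σ c₀) ∧ σ w ^ 2 ∈ zpowers (σ c₀) := by
    rcases hodd with hi | hj
    · refine ⟨w ^ 2, sq_mem_sq w, ?_, by rw [map_pow]; exact mem_zpowers _⟩
      obtain ⟨m, rfl⟩ := hi
      rw [zpow_add, zpow_one, zpow_mul, zpow_ofNat, hσ4, one_zpow, one_mul] at hrel
      rw [eq_inv_of_mul_eq_one_left hrel, map_pow]
      exact inv_mem (zpow_mem (mem_zpowers _) j)
    · refine ⟨u ^ 2, sq_mem_sq u, by rw [map_pow]; exact mem_zpowers _, ?_⟩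
      obtain ⟨m, rfl⟩ := hj
      rw [zpow_add (σ w ^ 2), zpow_one, zpow_mul (σ w ^ 2), zpow_ofNat, hσ4, one_zpow,
        one_mul] at hrel
      rw [eq_inv_of_mul_eq_one_right hrel, map_pow]
      exact inv_mem (zpow_mem (mem_zpowers _) i)
  set T := P 2 (⊤ : Subgroup G)
  have hgen : zpowers (⟨c₀, hc₀⟩ : T) = ⊤ := by
    refine top_of_sup_sq (hG.to_subgroup T) (top_le_iff.mp fun y _ => ?_)
    obtain ⟨y, hy⟩ := y
    obtain ⟨p, q, hpq⟩ := (mem_sq_iff hG hbi).mp hy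
    have hmem : σ y ∈ zpowers (σ c₀) := by
      rw [hpq, zpow_two_mul', zpow_two_mul', map_mul, map_zpow σ (u ^ 2), map_zpow σ (w ^ 2),
        map_pow, map_pow]
      exact mul_mem (zpow_mem hgu p) (zpow_mem hgw q)
    obtain ⟨k, hk⟩ := mem_zpowers_iff.mp hmem
    have e : (⟨y, hy⟩ : T) = ⟨c₀, hc₀⟩ ^ k * (((⟨c₀, hc₀⟩ : T) ^ k)⁻¹ * ⟨y, hy⟩) := by group
    rw [e]
    refine mul_mem (mem_sup_left (zpow_mem (mem_zpowers _) k)) (mem_sup_right ?_)
    have hin : (c₀ ^ k)⁻¹ * y ∈ P 2 T := QuotientGroup.eq.mp ((map_zpow σ c₀ k).trans hk)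
    have hmap : (P 2 (⊤ : Subgroup T)).map T.subtype = P 2 T := by
      rw [map_P, ← MonoidHom.range_eq_map, Subgroup.range_subtype]
    obtain ⟨z, hz, he⟩ := hmap.ge hin
    have : ((⟨c₀, hc₀⟩ : T) ^ k)⁻¹ * ⟨y, hy⟩ = z := Subtype.ext (by
      rw [show ((z : T) : G) = T.subtype z from rfl, he]; simp)
    rwa [this]
  exact ⟨⟨⟨c₀, hc₀⟩, fun x => hgen.ge (mem_top x)⟩⟩

/-- Subgroups are two-generated when those of the square subgroup are. -/
theorem two_gen_step (hG : IsPGroup 2 G) {u w : G} (hbi : Bi u w)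
    (hc : ⁅u, w⁆ ∈ P 2 (P 2 (⊤ : Subgroup G)))
    (hdesc : ∀ K : Subgroup G, K ≤ P 2 ⊤ → ∃ h₁ h₂ : G, K = closure {h₁, h₂})
    (H : Subgroup G) : ∃ h₁ h₂ : G, H = closure {h₁, h₂} := by
  by_cases hsub : H ≤ P 2 ⊤
  · exact hdesc H hsub
  by_cases htop : H = ⊤
  · refine ⟨u, w, htop.trans (top_le_iff.mp fun x _ => ?_).symm⟩
    have h1 := mem_pair_left u w
    have h2 := mem_pair_right u w
    obtain ⟨i, j, rfl⟩ := hbi x
    exact mul_mem (zpow_mem h1 i) (zpow_mem h2 j)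
  obtain ⟨h, hhH, hhT⟩ : ∃ h, h ∈ H ∧ h ∉ P 2 (⊤ : Subgroup G) := Set.not_subset.mp hsub
  have hH' : ∀ x ∈ H, x ∈ P 2 (⊤ : Subgroup G) ∨ h⁻¹ * x ∈ P 2 (⊤ : Subgroup G) := by
    intro x hx
    by_contra hcon
    rw [not_or] at hcon
    refine htop (top_le_iff.mp ?_)
    rw [← gen_of_indep hG hbi hhT hcon.1 hcon.2, closure_le, Set.insert_subset_iff,
      Set.singleton_subset_iff]
    exact ⟨hhH, hx⟩
  set K := H ⊓ P 2 (⊤ : Subgroup G)
  have hHK : H ≤ zpowers h ⊔ K := by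
    intro x hx
    rcases hH' x hx with e | e
    · exact mem_sup_right ⟨hx, e⟩
    · have e' : x = h * (h⁻¹ * x) := by group
      rw [e']
      exact mul_mem (mem_sup_left (mem_zpowers h))
        (mem_sup_right (show h⁻¹ * x ∈ K from ⟨H.mul_mem (H.inv_mem hhH) hx, e⟩))
  have hh2 : h ^ 2 ∈ K := ⟨pow_mem hhH 2, sq_mem_sq h⟩
  obtain ⟨k₁, k₂, hK⟩ := hdesc K inf_le_right
  suffices hone : ∃ k ∈ K, K ≤ Subgroup.closure ({k, h} : Set G) by
    obtain ⟨k, hk, hk'⟩ := hone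
    refine ⟨k, h, le_antisymm (hHK.trans (sup_le (zpowers_le.mpr
      (mem_pair_right _ _)) hk')) ?_⟩
    rw [closure_le, Set.insert_subset_iff, Set.singleton_subset_iff]
    exact ⟨hk.1, hhH⟩
  by_cases hc2 : h ^ 2 ∈ P 2 K
  · haveI hcyc : IsCyclic (P 2 (⊤ : Subgroup G)) :=
      sq_cyclic hG hbi hc hhT (P_mono inf_le_right hc2)
    haveI : IsCyclic K := Subgroup.isCyclic_of_le (show K ≤ P 2 ⊤ from inf_le_right)
    obtain ⟨⟨k, hk⟩, hkgen⟩ := IsCyclic.exists_generator (α := K)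
    refine ⟨k, hk, fun x hx => ?_⟩
    obtain ⟨m, hm⟩ := mem_zpowers_iff.mp (hkgen ⟨x, hx⟩)
    have := congrArg Subtype.val hm
    simp at this
    rw [← this]
    exact zpow_mem (mem_pair_left _ _) m
  · obtain ⟨q, hq, hKq⟩ := pair_gen hG hK hh2 hc2
    refine ⟨q, hq, ?_⟩
    conv_lhs => rw [hKq]
    rw [closure_le, Set.insert_subset_iff, Set.singleton_subset_iff]
    exact ⟨pow_mem (mem_pair_right _ _) 2,
      mem_pair_left _ _⟩

end gen

/-- Every subgroup of the square subgroup is generated by two elements. -/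
theorem two_generated.{u} : ∀ (G : Type u) [Group G] [Finite G], IsPGroup 2 G → ∀ a b : G, Bi a b →
    ∀ H : Subgroup G, H ≤ P 2 ⊤ → ∃ h₁ h₂ : G, H = closure {h₁, h₂} := by
  intro G _ _
  induction hn : Nat.card G using Nat.strong_induction_on generalizing G with
  | _ n ih =>
    intro hG a b hbi H hH
    rcases subsingleton_or_nontrivial G with hs | hnt
    · exact ⟨1, 1, Subsingleton.elim _ _⟩
    have hTlt : Nat.card (P 2 (⊤ : Subgroup G)) < n := by
      rw [← hn]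
      refine lt_of_le_of_ne (Subgroup.card_le_card_group _) fun e => ?_
      have hb := top_of_sup_sq hG (K := ⊥) (by
        rw [bot_sup_eq]; exact Subgroup.eq_top_of_card_eq _ e)
      exact bot_ne_top hb
    have hmapT : (P 2 (⊤ : Subgroup (P 2 (⊤ : Subgroup G)))).map (P 2 (⊤ : Subgroup G)).subtype =
        P 2 (P 2 ⊤) := by
      rw [map_P, ← MonoidHom.range_eq_map, Subgroup.range_subtype]
    have hTG := hG.to_subgroup (P 2 (⊤ : Subgroup G))
    have hc : ⁅(⟨a ^ 2, sq_mem_sq a⟩ : P 2 (⊤ : Subgroup G)), ⟨b ^ 2, sq_mem_sq b⟩⁆ ∈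
        P 2 (P 2 (⊤ : Subgroup (P 2 (⊤ : Subgroup G)))) := by
      have h8 := commutator_sq_mem hG hbi
      rw [← hmapT, ← map_P] at h8
      obtain ⟨y, hy, he⟩ := h8
      have e : ⁅(⟨a ^ 2, sq_mem_sq a⟩ : P 2 (⊤ : Subgroup G)), ⟨b ^ 2, sq_mem_sq b⟩⁆ = y :=
        Subtype.ext (by rw [commutatorElement_def] at *; exact he.symm)
      rwa [e]
    obtain ⟨k₁, k₂, hk⟩ := two_gen_step hTG (hbi.sq hG) hc
      (fun K hK => ih _ hTlt _ rfl hTG _ _ (hbi.sq hG) K hK) (H.subgroupOf _)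
    refine ⟨k₁, k₂, ?_⟩
    rw [← Subgroup.map_subgroupOf_eq_of_le hH, hk, MonoidHom.map_closure, Set.image_pair]
    rfl

/-- Itô: the derived subgroup is abelian. -/
theorem commutator_commute {a b : G} (hbi : Bi a b) :
    ∀ x ∈ commutator G, ∀ y ∈ commutator G, x * y = y * x := by
  have hbi' : ∀ g : G, ∃ i j : ℤ, g = b ^ i * a ^ j := fun g => by
    obtain ⟨i, j, h⟩ := hbi g⁻¹
    exact ⟨-j, -i, by rw [← inv_inv g, h]; group⟩
  set C : Set G := {c | ∃ i j : ℤ, c = ⁅a ^ i, b ^ j⁆}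
  have hconjA : ∀ (k : ℤ), ∀ c ∈ C, a ^ k * c * (a ^ k)⁻¹ ∈ closure C := by
    rintro k _ ⟨i, j, rfl⟩
    have e : a ^ k * ⁅a ^ i, b ^ j⁆ * (a ^ k)⁻¹ = ⁅a ^ (k + i), b ^ j⁆ * ⁅a ^ k, b ^ j⁆⁻¹ := by
      simp only [commutatorElement_def]; group
    rw [e]
    exact mul_mem (subset_closure ⟨_, _, rfl⟩) (inv_mem (subset_closure ⟨_, _, rfl⟩))
  have hconjB : ∀ (k : ℤ), ∀ c ∈ C, b ^ k * c * (b ^ k)⁻¹ ∈ closure C := by
    rintro k _ ⟨i, j, rfl⟩
    have e : b ^ k * ⁅a ^ i, b ^ j⁆ * (b ^ k)⁻¹ = ⁅a ^ i, b ^ k⁆⁻¹ * ⁅a ^ i, b ^ (k + j)⁆ := by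
      simp only [commutatorElement_def]; group
    rw [e]
    exact mul_mem (inv_mem (subset_closure ⟨_, _, rfl⟩)) (subset_closure ⟨_, _, rfl⟩)
  haveI hN : (closure C).Normal := by
    refine ⟨fun x hx g => ?_⟩
    obtain ⟨i, j, rfl⟩ := hbi g
    have key : ∀ d : G, (∀ c ∈ C, d * c * d⁻¹ ∈ closure C) →
        ∀ x ∈ closure C, d * x * d⁻¹ ∈ closure C := by
      intro d hd x hx
      have : closure C ≤ (closure C).comap (MulAut.conj d).toMonoidHom :=
        (closure_le _).mpr hd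
      exact this hx
    have e : a ^ i * b ^ j * x * (a ^ i * b ^ j)⁻¹ =
        a ^ i * (b ^ j * x * (b ^ j)⁻¹) * (a ^ i)⁻¹ := by group
    rw [e]
    exact key _ (hconjA i) _ (key _ (hconjB j) x hx)
  have hle : commutator G ≤ closure C := by
    set π := QuotientGroup.mk' (closure C)
    have hc : ∀ i j : ℤ, Commute (π a ^ i) (π b ^ j) := fun i j => by
      rw [← commutatorElement_eq_one_iff_commute, ← map_zpow, ← map_zpow, ← map_commutatorElement]
      exact (QuotientGroup.eq_one_iff _).mpr (subset_closure ⟨i, j, rfl⟩)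
    rw [commutator_def, Subgroup.commutator_le]
    intro x _ y _
    refine (QuotientGroup.eq_one_iff _).mp ?_
    show π ⁅x, y⁆ = 1
    obtain ⟨i, j, rfl⟩ := hbi x
    obtain ⟨k, l, rfl⟩ := hbi y
    rw [map_commutatorElement, commutatorElement_eq_one_iff_commute, map_mul, map_mul, map_zpow,
      map_zpow, map_zpow, map_zpow]
    exact ((Commute.zpow_zpow_self (π a) i k).mul_right (hc i l)).mul_left
      ((hc k j).symm.mul_right (Commute.zpow_zpow_self (π b) j l))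
  have hCC : ∀ c ∈ C, ∀ k l : ℤ, Commute c ⁅(b ^ l)⁻¹, (a ^ k)⁻¹⁆ := by
    rintro _ ⟨i, j, rfl⟩ k l
    obtain ⟨p, q, hpq⟩ := hbi (b ^ l * a ^ i * (b ^ l)⁻¹)
    obtain ⟨r, s, hrs⟩ := hbi' (a ^ k * b ^ j * (a ^ k)⁻¹)
    have hconj : ∀ d x y : G, d * ⁅x, y⁆ * d⁻¹ = ⁅d * x * d⁻¹, d * y * d⁻¹⁆ := fun d x y => by
      simp only [commutatorElement_def]; group
    have hleft : ∀ x : ℤ, ⁅a ^ p * b ^ q, b ^ x⁆ = ⁅a ^ p, b ^ x⁆ := fun x => by
      simp only [commutatorElement_def]; group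
    have hright : ∀ x : ℤ, ⁅a ^ x, b ^ r * a ^ s⁆ = ⁅a ^ x, b ^ r⁆ := fun x => by
      simp only [commutatorElement_def]; group
    have e1 : a ^ k * (b ^ l * ⁅a ^ i, b ^ j⁆ * (b ^ l)⁻¹) * (a ^ k)⁻¹ = ⁅a ^ p, b ^ r⁆ := by
      rw [hconj, hpq, show b ^ l * b ^ j * (b ^ l)⁻¹ = b ^ j by group, hleft, hconj,
        show a ^ k * a ^ p * (a ^ k)⁻¹ = a ^ p by group, hrs, hright]
    have e2 : b ^ l * (a ^ k * ⁅a ^ i, b ^ j⁆ * (a ^ k)⁻¹) * (b ^ l)⁻¹ = ⁅a ^ p, b ^ r⁆ := by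
      rw [hconj, show a ^ k * a ^ i * (a ^ k)⁻¹ = a ^ i by group, hrs, hright, hconj, hpq,
        show b ^ l * b ^ r * (b ^ l)⁻¹ = b ^ r by group, hleft]
    have h := e1.trans e2.symm
    have hd : Commute ⁅a ^ i, b ^ j⁆ ⁅(b ^ l)⁻¹, (a ^ k)⁻¹⁆ := by
      have e : ⁅(b ^ l)⁻¹, (a ^ k)⁻¹⁆ * ⁅a ^ i, b ^ j⁆ * ⁅(b ^ l)⁻¹, (a ^ k)⁻¹⁆⁻¹ =
          ⁅a ^ i, b ^ j⁆ := by
        calc _ = (b ^ l)⁻¹ * (a ^ k)⁻¹ * (b ^ l * (a ^ k * ⁅a ^ i, b ^ j⁆ * (a ^ k)⁻¹) *
              (b ^ l)⁻¹) * (a ^ k * b ^ l) := by simp only [commutatorElement_def]; group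
          _ = (b ^ l)⁻¹ * (a ^ k)⁻¹ * (a ^ k * (b ^ l * ⁅a ^ i, b ^ j⁆ * (b ^ l)⁻¹) *
              (a ^ k)⁻¹) * (a ^ k * b ^ l) := by rw [h]
          _ = _ := by group
      exact (mul_inv_eq_iff_eq_mul.mp e).symm
    exact hd
  have hCC' : ∀ c ∈ C, ∀ d ∈ C, c * d = d * c := by
    rintro _ ⟨i, j, rfl⟩ _ ⟨k, l, rfl⟩
    have h := hCC ⁅a ^ i, b ^ j⁆ ⟨i, j, rfl⟩ (-k) (-l)
    rw [zpow_neg, zpow_neg, inv_inv, inv_inv] at h
    rw [← commutatorElement_inv (b ^ l) (a ^ k)]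
    exact h.inv_right.eq
  intro x hx y hy
  exact Subgroup.closure_induction₂ (fun c d hc hd => hCC' c hc d hd)
    (fun _ _ => by simp) (fun _ _ => by simp)
    (fun _ _ _ _ _ _ h₁ h₂ => (Commute.mul_left h₁ h₂).eq)
    (fun _ _ _ _ _ _ h₁ h₂ => (Commute.mul_right h₁ h₂).eq)
    (fun _ _ _ _ h => (Commute.inv_left h).eq) (fun _ _ _ _ h => (Commute.inv_right h).eq)
    (hle hx) (hle hy)

end Cfsg.Agent.Bicyclic55
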