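import Mathlib
import Cfsg.Agent.Lib.PGroupsBasic

/-! Automorphisms of a `p`-group acting freely on generating tuples (Hall's theorem). -/

set_option autoImplicit false

namespace Cfsg.Agent.FrattiniTuples

open Subgroup

/-- Number of generating `r`-tuples of an elementary abelian group of order `p ^ r`. -/
theorem card_generating {Q : Type*} [Group Q] [Finite Q] {p r : ℕ} [hp : Fact p.Prime]
    (hc : ∀ a b : Q, a * b = b * a) (hpow : ∀ a : Q, a ^ p = 1) (hcard : Nat.card Q = p ^ r) :
    Nat.card {f : Fin r → Q // closure (Set.range f) = ⊤} = ∏ i ∈ Finset.range r, (p ^ r - p ^ i) := by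
  classical
  letI : CommGroup Q := { (inferInstance : Group Q) with mul_comm := hc }
  letI : Module (ZMod p) (Additive Q) := AddCommGroup.zmodModule (n := p) (fun x => hpow x.toMul)
  haveI : Fintype (Additive Q) := Fintype.ofFinite _
  have hrank : Module.finrank (ZMod p) (Additive Q) = r := by
    have h := Module.natCard_eq_pow_finrank (K := ZMod p) (V := Additive Q)
    rw [Nat.card_zmod, show Nat.card (Additive Q) = Nat.card Q from rfl, hcard] at h
    exact (Nat.pow_right_injective hp.out.two_le h).symm
  have hiff : ∀ f : Fin r → Q, closure (Set.range f) = ⊤ ↔ LinearIndependent (ZMod p) (Additive.ofMul ∘ f) := by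
    intro f
    constructor
    · intro h
      refine linearIndependent_of_top_le_span_of_card_eq_finrank (fun x _ => ?_) (by rw [Fintype.card_fin, hrank])
      have hle : closure (Set.range f) ≤
          AddSubgroup.toSubgroup' (Submodule.span (M := Additive Q) (ZMod p) (Set.range (Additive.ofMul ∘ f))).toAddSubgroup := by
        rw [closure_le]
        rintro _ ⟨i, rfl⟩
        show Additive.ofMul (f i) ∈ Submodule.span (ZMod p) (Set.range (Additive.ofMul ∘ f))
        exact Submodule.subset_span ⟨i, rfl⟩
      exact hle (h ▸ mem_top x.toMul)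
    · intro h
      have hs := h.span_eq_top_of_card_eq_finrank' (by rw [Fintype.card_fin, hrank])
      rw [eq_top_iff]
      intro x _
      have hle : Submodule.span (ZMod p) (Set.range (Additive.ofMul ∘ f)) ≤
          AddSubgroup.toZModSubmodule p (closure (Set.range f)).toAddSubgroup := by
        rw [Submodule.span_le]
        rintro _ ⟨i, rfl⟩
        show f i ∈ closure (Set.range f)
        exact subset_closure ⟨i, rfl⟩
      exact hle (hs ▸ Submodule.mem_top : Additive.ofMul x ∈ _)
  rw [Nat.card_congr ((Equiv.subtypeEquiv (Equiv.arrowCongr (Equiv.refl (Fin r)) Additive.ofMul)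
      (fun f => hiff f)) : _ ≃ {s : Fin r → Additive Q // LinearIndependent (ZMod p) s}),
    card_linearIndependent (le_of_eq hrank.symm), ZMod.card, hrank,
    Finset.prod_range fun i => p ^ r - p ^ i]

/-- A group acting freely on a finite set has order dividing its cardinality. -/
theorem card_dvd_of_free {A X : Type*} [Group A] [MulAction A X]
    (h : ∀ (x : X) (a : A), a • x = x → a = 1) : Nat.card A ∣ Nat.card X := by
  have hs : ∀ x : X, MulAction.stabilizer A x = ⊥ := fun x => (eq_bot_iff_forall _).mpr fun a ha => h x a ha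
  rw [Nat.card_congr (MulAction.selfEquivOrbitsQuotientProd hs), Nat.card_prod]
  exact dvd_mul_left _ _

variable {P : Type*} [Group P]

/-- Splitting tuples into their images modulo a normal subgroup and tuples of the subgroup. -/
noncomputable def tuplesEquiv (N : Subgroup P) [N.Normal] (r : ℕ) : (Fin r → P) ≃ (Fin r → P ⧸ N) × (Fin r → N) :=
  (Equiv.arrowCongr (Equiv.refl (Fin r)) Subgroup.groupEquivQuotientProdSubgroup).trans (Equiv.arrowProdEquivProdArrow _ _ _)

theorem tuplesEquiv_fst (N : Subgroup P) [N.Normal] (r : ℕ) (f : Fin r → P) :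
    (tuplesEquiv N r f).1 = fun i => (f i : P ⧸ N) := by
  funext i; rfl

theorem card_lifts (N : Subgroup P) [N.Normal] (r : ℕ) (T : (Fin r → P ⧸ N) → Prop) :
    Nat.card {f : Fin r → P // T (fun i => (f i : P ⧸ N))} = Nat.card {e // T e} * Nat.card N ^ r := by
  rw [Nat.card_congr (((tuplesEquiv N r).subtypeEquiv (q := fun z => T z.1 ∧ True)
      (fun f => by rw [tuplesEquiv_fst]; simp)).trans (Equiv.subtypeProdEquivProd.trans (Equiv.prodCongr (Equiv.refl _) (Equiv.subtypeUnivEquiv fun _ => trivial)))),
    Nat.card_prod, Nat.card_fun, Nat.card_fin]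

variable [Finite P] {p n r : ℕ} [hp : Fact p.Prime]

theorem card_frattini (hP : Nat.card P = p ^ n) (hr : (frattini P).index = p ^ r) :
    Nat.card (frattini P) = p ^ (n - r) := by
  have h := (frattini P).index_mul_card
  rw [hr, hP] at h
  have hrn : r ≤ n := (Nat.pow_dvd_pow_iff_le_right hp.out.one_lt).mp ⟨_, h.symm⟩
  exact Nat.eq_of_mul_eq_mul_left (pow_pos hp.out.pos r) (h.trans (by rw [← pow_add]; congr 1; omega))

theorem card_lifts_frattini (hP : Nat.card P = p ^ n) (hr : (frattini P).index = p ^ r) :
    Nat.card {f : Fin r → P // closure (Set.range f) = ⊤} =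
      p ^ (r * (n - r)) * ∏ i ∈ Finset.range r, (p ^ r - p ^ i) := by
  have hG : IsPGroup p P := IsPGroup.of_card hP
  obtain ⟨hc, hpow⟩ := PGroupsBasic.quotient_frattini_elementary hG
  have h1 : ∀ f : Fin r → P, closure (Set.range f) = ⊤ ↔
      closure (Set.range (fun i => (f i : P ⧸ frattini P))) = ⊤ := by
    intro f
    rw [PGroupsBasic.closure_eq_top_iff_quotient_frattini, ← Set.range_comp]
    rfl
  rw [Nat.card_congr (Equiv.subtypeEquivRight h1), card_lifts (frattini P) r (fun e => closure (Set.range e) = ⊤),
    card_generating (p := p) hc hpow hr, card_frattini hP hr, ← pow_mul, mul_comm, mul_comm (n - r) r]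

theorem card_mulAut_dvd (hP : Nat.card P = p ^ n) (hr : (frattini P).index = p ^ r) :
    Nat.card (MulAut P) ∣ p ^ (r * (n - r)) * ∏ i ∈ Finset.range r, (p ^ r - p ^ i) := by
  rw [← card_lifts_frattini hP hr]
  letI : MulAction (MulAut P) {f : Fin r → P // closure (Set.range f) = ⊤} :=
    { smul := fun a f => ⟨fun i => a (f.1 i), by
        have h : (closure (Set.range f.1)).map (a : P →* P) = ⊤ := by
          rw [f.2, Subgroup.map_top_of_surjective _ a.surjective]
        rw [MonoidHom.map_closure, ← Set.range_comp] at h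
        exact h⟩
      one_smul := fun f => Subtype.ext rfl
      mul_smul := fun a b f => Subtype.ext rfl }
  refine card_dvd_of_free fun f a ha => ?_
  apply MulEquiv.ext
  intro x
  have h1 : Set.EqOn (a : P →* P) (MonoidHom.id P) (Set.range f.1) := by
    rintro _ ⟨i, rfl⟩
    exact congrFun (congrArg Subtype.val ha) i
  have hx : x ∈ closure (Set.range f.1) := by rw [f.2]; trivial
  exact MonoidHom.eqOn_closure h1 hx

theorem card_dvd_of_trivial_on_quotient (hP : Nat.card P = p ^ n) (hr : (frattini P).index = p ^ r)
    (A : Subgroup (MulAut P)) (hA : ∀ α ∈ A, ∀ x : P, α x * x⁻¹ ∈ frattini P) :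
    Nat.card A ∣ p ^ (r * (n - r)) := by
  classical
  have hG : IsPGroup p P := IsPGroup.of_card hP
  obtain ⟨hc, hpow⟩ := PGroupsBasic.quotient_frattini_elementary hG
  have hpos : 0 < Nat.card {e : Fin r → P ⧸ frattini P // closure (Set.range e) = ⊤} := by
    rw [card_generating (p := p) hc hpow hr]
    exact Finset.prod_pos fun i hi => Nat.sub_pos_of_lt (Nat.pow_lt_pow_right hp.out.one_lt (Finset.mem_range.mp hi))
  obtain ⟨⟨e, he⟩⟩ := (Nat.card_pos_iff.mp hpos).1
  have hmk : ∀ α ∈ A, ∀ x : P, (α x : P ⧸ frattini P) = x := by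
    intro α hα x
    have h := (QuotientGroup.eq_one_iff (N := frattini P) (α x * x⁻¹)).mpr (hA α hα x)
    rw [QuotientGroup.mk_mul, QuotientGroup.mk_inv, mul_inv_eq_one] at h
    exact h
  have hcard := card_lifts (frattini P) r (fun z => z = e)
  rw [show Nat.card {z : Fin r → P ⧸ frattini P // z = e} = 1 from Nat.card_unique, one_mul, card_frattini hP hr,
    ← pow_mul, mul_comm (n - r) r] at hcard
  rw [← hcard]
  letI : MulAction A {f : Fin r → P // (fun i => (f i : P ⧸ frattini P)) = e} :=
    { smul := fun a f => ⟨fun i => (a : MulAut P) (f.1 i), by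
        funext i
        rw [hmk a a.2]
        exact congrFun f.2 i⟩
      one_smul := fun f => Subtype.ext rfl
      mul_smul := fun a b f => Subtype.ext rfl }
  refine card_dvd_of_free fun f a ha => ?_
  apply Subtype.ext
  apply MulEquiv.ext
  intro x
  have h1 : Set.EqOn ((a : MulAut P) : P →* P) (MonoidHom.id P) (Set.range f.1) := by
    rintro _ ⟨i, rfl⟩
    exact congrFun (congrArg Subtype.val ha) i
  have htop : closure (Set.range f.1) = ⊤ := by
    rw [PGroupsBasic.closure_eq_top_iff_quotient_frattini, ← Set.range_comp]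
    rw [show (QuotientGroup.mk' (frattini P)) ∘ f.1 = e from f.2]
    exact he
  exact MonoidHom.eqOn_closure h1 (htop ▸ mem_top x)

end Cfsg.Agent.FrattiniTuples
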