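import Mathlib
import Cfsg.Agent.Lib.FusionEssential88
import Cfsg.Agent.Lib.FrattiniTuples
import Cfsg.Agent.Lib.Bicyclic55Basic

/-!
# Essential subgroups of 2-rank at most three modulo squares

If an essential subgroup `E` of a 2-fusion system has index at most eight over its squares, its
normalizer in `S` contains it with index two and some automorphism of order three is inverted by
an element outside `E`.
-/

set_option autoImplicit false
set_option linter.style.haveILetI false
set_option linter.unusedSectionVars false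

namespace Cfsg.Agent.Bicyclic55

open Cfsg Cfsg.FusionSystem Cfsg.Agent.FusionSysBasic Cfsg.Agent.FusionSysSaturated
  Cfsg.Agent.FusionSysNormal Cfsg.Agent.FusionSysAlperin Cfsg.Agent.HallAlperinPowers
open scoped commutatorElement

section core

variable {X : Type*} [Group X] [Finite X] {Q : Type*} [Group Q] [Finite Q]

theorem card_aut_small (hQ : ∀ q : Q, q * q = 1) (h8 : Nat.card Q ≤ 8) :
    Nat.card (MulAut Q) ∣ 168 := by
  haveI : Fact (Nat.Prime 2) := ⟨Nat.prime_two⟩
  obtain ⟨k, hk⟩ := IsPGroup.iff_card.mp (show IsPGroup 2 Q from fun q => ⟨1, by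
    rw [pow_one, sq]; exact hQ q⟩)
  have hΦ : frattini Q = ⊥ := PGroupsBasic.frattini_eq_bot_of_elementary (p := 2)
    (fun a b => by
      calc a * b = (a * b)⁻¹ := (inv_eq_of_mul_eq_one_right (hQ _)).symm
        _ = b * a := by
          rw [mul_inv_rev, inv_eq_of_mul_eq_one_right (hQ b), inv_eq_of_mul_eq_one_right (hQ a)])
    fun a => by rw [sq]; exact hQ a
  have hk3 : k ≤ 3 := (Nat.pow_le_pow_iff_right (by norm_num : 1 < 2)).1 (hk ▸ h8)
  refine (FrattiniTuples.card_mulAut_dvd (P := Q) hk (r := k)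
    (by rw [hΦ, Subgroup.index_bot, hk])).trans ?_
  interval_cases k <;> simp [Finset.prod_range_succ]

/-- An element of odd order inverted by an involutory automorphism of a group of order at most
eight and exponent two has order three or less. -/
theorem not_order_seven (hQ : ∀ q : Q, q * q = 1) (h8 : Nat.card Q ≤ 8) {t h : MulAut Q}
    (ht : t * t = 1) (hth : t * h * t⁻¹ = h⁻¹) (h7 : orderOf h = 7) : False := by
  classical
  haveI : Fact (Nat.Prime 7) := ⟨by norm_num⟩
  have hcomm : ∀ a b : Q, a * b = b * a := fun a b => by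
    calc a * b = (a * b)⁻¹ := (inv_eq_of_mul_eq_one_right (hQ _)).symm
      _ = b * a := by
        rw [mul_inv_rev, inv_eq_of_mul_eq_one_right (hQ b), inv_eq_of_mul_eq_one_right (hQ a)]
  have hP : IsPGroup 7 (Subgroup.zpowers h) := IsPGroup.of_card (n := 1) (by
    rw [Nat.card_zpowers, h7, pow_one])
  have hmod := hP.card_modEq_card_fixedPoints Q
  set Fx := MulAction.fixedPoints (Subgroup.zpowers h) Q
  have hfx : ∀ q : Q, q ∈ Fx → h q = q := fun q hq => hq ⟨h, Subgroup.mem_zpowers h⟩
  -- `Q` has eight elements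
  have hQ8 : Nat.card Q = 8 := by
    have h1 : orderOf h ∣ 168 := (orderOf_dvd_natCard h).trans (card_aut_small hQ h8)
    haveI : Fact (Nat.Prime 2) := ⟨Nat.prime_two⟩
    obtain ⟨k, hk⟩ := IsPGroup.iff_card.mp (show IsPGroup 2 Q from fun q => ⟨1, by
      rw [pow_one, sq]; exact hQ q⟩)
    have hk3 : k ≤ 3 := (Nat.pow_le_pow_iff_right (by norm_num : 1 < 2)).1 (hk ▸ h8)
    by_contra hne
    have hlt : Nat.card Q ≤ 4 := by
      interval_cases k <;> omega
    apply (by omega : (7 : ℕ) ≠ 1)
    rw [← h7, orderOf_eq_one_iff]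
    ext q
    have hFle : Nat.card Fx ≤ Nat.card Q := Finite.card_subtype_le _
    have hall : Fx = Set.univ := by
      refine Set.eq_univ_of_forall fun q => ?_
      by_contra hq
      have hlt' : Nat.card Fx < Nat.card Q := Finite.card_subtype_lt hq
      have hpos : 0 < Nat.card Fx := by
        haveI : Nonempty Fx := ⟨⟨1, fun g => map_one (g : MulAut Q)⟩⟩
        exact Nat.card_pos
      unfold Nat.ModEq at hmod
      rw [Nat.mod_eq_of_lt (by omega), Nat.mod_eq_of_lt (by omega)] at hmod
      omega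
    exact hfx q (hall ▸ Set.mem_univ q)
  -- the fixed group of `t`
  let f : Q →* Q := MonoidHom.mk' (fun u => u * t u) fun a b => by
    rw [map_mul]
    exact (show Commute b (t a) from hcomm _ _).mul_mul_mul_comm _ _
  let F : Subgroup Q :=
    { carrier := {u | t u = u}
      one_mem' := map_one t
      mul_mem' := fun {a b} ha hb => by
        show t (a * b) = a * b
        rw [map_mul, ha, hb]
      inv_mem' := fun {a} ha => by
        show t a⁻¹ = a⁻¹
        rw [map_inv, ha] }
  have hker : f.ker = F := by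
    ext u
    rw [MonoidHom.mem_ker]
    show u * t u = 1 ↔ t u = u
    constructor
    · exact fun h => (eq_inv_of_mul_eq_one_right h).trans (inv_eq_of_mul_eq_one_right (hQ u))
    · exact fun h => by rw [h, hQ]
  have hran : f.range ≤ F := by
    rintro _ ⟨u, rfl⟩
    show t (u * t u) = u * t u
    rw [map_mul, ← MulAut.mul_apply, ht, MulAut.one_apply, hcomm]
  have hcard : Nat.card F * Nat.card f.range = 8 := by
    rw [← hQ8, ← hker, ← Subgroup.index_ker f, Subgroup.card_mul_index]
  have hle : Nat.card f.range ≤ Nat.card F := Subgroup.card_le_of_le hran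
  have hF4 : 4 ≤ Nat.card F := by
    have hd : Nat.card F ∣ 2 ^ 3 := by
      rw [show (2 : ℕ) ^ 3 = 8 by norm_num, ← hcard]; exact dvd_mul_right _ _
    obtain ⟨k, hk, hk'⟩ := (Nat.dvd_prime_pow Nat.prime_two).mp hd
    rw [hk'] at hcard hle ⊢
    interval_cases k <;> omega
  obtain ⟨w, hw, hw1, hv⟩ : ∃ w, t w = w ∧ w ≠ 1 ∧ t (h w) = h w := by
    haveI := Fintype.ofFinite Q
    let F1 : Finset Q := Finset.univ.filter fun u => t u = u ∧ u ≠ 1
    have hF1 : 3 ≤ F1.card := by
      have e : (Finset.univ.filter fun u => t u = u).card = Nat.card F := by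
        rw [Nat.card_eq_fintype_card, ← Fintype.card_subtype]
        rfl
      have e2 : F1 = (Finset.univ.filter fun u => t u = u).erase 1 := by
        ext u; simp [F1, and_comm]
      rw [e2, Finset.card_erase_of_mem (by simp), e]
      omega
    have hsub : F1.image h ⊆ Finset.univ.erase 1 := by
      intro u hu
      obtain ⟨v, hv, rfl⟩ := Finset.mem_image.mp hu
      simp only [F1, Finset.mem_filter] at hv
      simp [hv.2.2]
    have hsub' : F1 ⊆ Finset.univ.erase 1 := fun u hu => by
      simp only [F1, Finset.mem_filter] at hu; simp [hu.2.2]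
    by_contra hno
    have hdis : Disjoint (F1.image h) F1 := by
      rw [Finset.disjoint_left]
      intro u hu hu'
      obtain ⟨v, hv, rfl⟩ := Finset.mem_image.mp hu
      simp only [F1, Finset.mem_filter] at hv hu'
      exact hno ⟨v, hv.2.1, hv.2.2, hu'.2.1⟩
    have hFeq : Nat.card F = 4 ∨ Nat.card F = 8 := by
      have hd : Nat.card F ∣ 2 ^ 3 := by
        rw [show (2 : ℕ) ^ 3 = 8 by norm_num, ← hcard]; exact dvd_mul_right _ _
      obtain ⟨k, hk, hk'⟩ := (Nat.dvd_prime_pow Nat.prime_two).mp hd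
      interval_cases k <;> omega
    rcases hFeq with hF | hF
    · -- six elements and one more; use a third image
      have hinj : Function.Injective (h : Q → Q) := h.injective
      have hc := Finset.card_union_of_disjoint hdis
      rw [Finset.card_image_of_injective _ hinj] at hc
      have hle := Finset.card_le_card (Finset.union_subset hsub hsub')
      rw [Finset.card_erase_of_mem (Finset.mem_univ _), Finset.card_univ,
        ← Nat.card_eq_fintype_card, hQ8] at hle
      -- `h⁻¹` carries the fixed set to the same place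
      have hsub2 : F1.image h.symm ⊆ Finset.univ.erase 1 := by
        intro u hu
        obtain ⟨v, hv, rfl⟩ := Finset.mem_image.mp hu
        simp only [F1, Finset.mem_filter] at hv
        simp [hv.2.2]
      have hdis2 : Disjoint (F1.image h.symm) F1 := by
        rw [Finset.disjoint_left]
        intro u hu hu'
        obtain ⟨v, hv, rfl⟩ := Finset.mem_image.mp hu
        simp only [F1, Finset.mem_filter] at hv hu'
        exact hno ⟨h.symm v, hu'.2.1, hu'.2.2, by rw [h.apply_symm_apply]; exact hv.2.1⟩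
      have hdis3 : Disjoint (F1.image h.symm) (F1.image h) := by
        rw [Finset.disjoint_left]
        intro u hu hu'
        obtain ⟨v, hv, rfl⟩ := Finset.mem_image.mp hu
        obtain ⟨v', hv', he⟩ := Finset.mem_image.mp hu'
        simp only [F1, Finset.mem_filter] at hv hv'
        have h2 : t (h (h v')) = h (h v') := by rw [he, h.apply_symm_apply]; exact hv.2.1
        have hth' : ∀ q, t (h q) = h.symm (t q) := by
          intro q
          have := DFunLike.congr_fun hth (t q)
          simp only [MulAut.mul_apply, MulAut.inv_def, MulEquiv.symm_apply_apply] at this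
          exact this
        have h3 : h.symm (h.symm v') = h (h v') := by
          rw [← h2, hth', hth', hv'.2.1]
        have h4 : h ^ 4 = h ^ 4 := rfl
        have h5 : h (h (h (h v'))) = v' := by
          rw [← h3, h.apply_symm_apply, h.apply_symm_apply]
        have hfixed : v' ∈ Fx := by
          intro g
          obtain ⟨i, hi⟩ := Subgroup.mem_zpowers_iff.mp g.2
          have hgen : h ∈ Subgroup.zpowers (h ^ 4) := by
            refine ⟨2, ?_⟩
            show (h ^ 4) ^ (2 : ℤ) = h
            rw [zpow_ofNat, ← pow_mul, show 4 * 2 = orderOf h + 1 by omega, pow_succ,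
              pow_orderOf_eq_one, one_mul]
          obtain ⟨j, hj⟩ := hgen
          let St : Subgroup (MulAut Q) :=
            { carrier := {a | a v' = v'}
              one_mem' := rfl
              mul_mem' := fun {a b} ha hb => by
                show a (b v') = v'
                rw [hb, ha]
              inv_mem' := fun {a} ha => by
                show a.symm v' = v'
                rw [MulEquiv.symm_apply_eq, ha] }
          have h4' : h ^ 4 ∈ St := by
            show (h ^ 4) v' = v'
            simpa [pow_succ, MulAut.mul_apply] using h5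
          have : (g : MulAut Q) ∈ St := by
            rw [← hi]
            exact zpow_mem (hj ▸ zpow_mem h4' j) i
          exact this
        exact hno ⟨v', hv'.2.1, hv'.2.2, by rw [hfx v' hfixed]; exact hv'.2.1⟩
      have hc3 := Finset.card_union_of_disjoint
        (s := F1.image h.symm) (t := F1.image h ∪ F1) (Finset.disjoint_union_right.mpr ⟨hdis3, hdis2⟩)
      rw [Finset.card_image_of_injective _ h.symm.injective, hc] at hc3
      have := Finset.card_le_card (Finset.union_subset hsub2 (Finset.union_subset hsub hsub'))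
      rw [Finset.card_erase_of_mem (Finset.mem_univ _), Finset.card_univ,
        ← Nat.card_eq_fintype_card, hQ8] at this
      omega
    · have htop : F = ⊤ := Subgroup.eq_top_of_card_eq F (hF.trans hQ8.symm)
      have ht1 : ∀ q, t q = q := fun q => htop.ge (Subgroup.mem_top q)
      obtain ⟨w, hw⟩ := exists_ne_one_of_card Q (by omega)
      exact hno ⟨w, ht1 w, hw, ht1 _⟩
  have h2 : h (h w) = w := by
    have := DFunLike.congr_fun hth w
    simp only [MulAut.mul_apply, MulAut.inv_def] at this
    rw [show t.symm w = w from by rw [MulEquiv.symm_apply_eq, hw], hv] at this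
    exact (congrArg h this).trans (h.apply_symm_apply w)
  -- a fixed point spreads to everything
  have hfix : w ∈ Fx := by
    intro g
    obtain ⟨i, hi⟩ := Subgroup.mem_zpowers_iff.mp g.2
    let St : Subgroup (MulAut Q) :=
      { carrier := {a | a w = w}
        one_mem' := rfl
        mul_mem' := fun {a b} ha hb => by
          show a (b w) = w
          rw [hb, ha]
        inv_mem' := fun {a} ha => by
          show a.symm w = w
          rw [MulEquiv.symm_apply_eq, ha] }
    have h2' : h ^ 2 ∈ St := by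
      show (h ^ 2) w = w
      simpa [pow_succ, MulAut.mul_apply] using h2
    have hh : h ∈ St := by
      have e : h = (h ^ 2) ^ 4 := by
        rw [← pow_mul, show 2 * 4 = orderOf h + 1 by omega, pow_succ, pow_orderOf_eq_one, one_mul]
      rw [e]
      exact pow_mem h2' 4
    have : (g : MulAut Q) ∈ St := hi ▸ zpow_mem hh i
    exact this
  have hone : (1 : Q) ∈ Fx := fun g => map_one (g : MulAut Q)
  have hF2 : 2 ≤ Nat.card Fx := by
    haveI : Nontrivial Fx := ⟨⟨⟨1, hone⟩, ⟨w, hfix⟩, fun e => hw1 (congrArg Subtype.val e).symm⟩⟩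
    exact Finite.one_lt_card
  apply (by omega : (7 : ℕ) ≠ 1)
  rw [← h7, orderOf_eq_one_iff]
  ext q
  by_contra hq
  have hlt : Nat.card Fx < Nat.card Q := Finite.card_subtype_lt (x := q) (fun hm => hq (hfx q hm))
  unfold Nat.ModEq at hmod
  rw [hQ8] at hmod hlt
  omega
where
  exists_ne_one_of_card (Q : Type _) [Group Q] [Finite Q] (h : 1 < Nat.card Q) : ∃ w : Q, w ≠ 1 := by
    haveI := Finite.one_lt_card_iff_nontrivial.1 h
    exact exists_ne 1

/-- The strongly embedded configuration in a subgroup of `GL₃(2)`. -/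
theorem small_strongly_embedded [Fact (Nat.Prime 2)] (ρ : X →* MulAut Q)
    (hρ : Function.Injective ρ) (hQ : ∀ q : Q, q * q = 1) (h8 : Nat.card Q ≤ 8) {Y : Subgroup X}
    (hY : IsStronglyPEmbedded 2 Y) (U : Sylow 2 X) :
    ∃ t ∈ (U : Subgroup X), t ≠ 1 ∧ (∀ u ∈ (U : Subgroup X), u = 1 ∨ u = t) ∧
      ∃ h : X, h ^ 3 = 1 ∧ h ≠ 1 ∧ t * h * t⁻¹ = h⁻¹ := by
  obtain ⟨hdvd, hYtop, T, hT⟩ := hY
  have hX : Nat.card X ∣ 168 :=
    (Subgroup.card_dvd_of_injective ρ hρ).trans (card_aut_small hQ h8)
  have hTne : (T : Subgroup X) ≠ ⊥ := by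
    intro e
    obtain ⟨g, hg⟩ := exists_prime_orderOf_dvd_card' 2 hdvd
    obtain ⟨P, hP⟩ := (IsPGroup.of_card (G := Subgroup.zpowers g) (p := 2) (n := 1)
      (by rw [Nat.card_zpowers, hg, pow_one])).exists_le_sylow
    obtain ⟨x, hx⟩ := MulAction.exists_smul_eq X T P
    have : g ∈ (P : Subgroup X) := hP (Subgroup.mem_zpowers g)
    rw [← hx] at this
    obtain ⟨s, hs, he⟩ := Subgroup.mem_map.mp this
    rw [e, Subgroup.mem_bot] at hs
    rw [hs] at he
    have he' : (1 : X) = g := by simpa using he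
    rw [← he', orderOf_one] at hg
    omega
  have hTY : (T : Subgroup X) ≤ Y :=
    Subgroup.le_normalizer.trans (normalizer_le_of_core_le hT le_rfl hTne)
  -- `T` is semiregular on the other cosets
  have hsemi : ∀ x : X, x ∉ Y → ∀ t ∈ (T : Subgroup X), x⁻¹ * t * x ∈ Y → t = 1 := by
    intro x hx t ht hty
    by_contra ht1
    have hp : IsPGroup 2 (Subgroup.zpowers (x⁻¹ * t * x)) := by
      rw [show Subgroup.zpowers (x⁻¹ * t * x) =
        (Subgroup.zpowers t).map (MulAut.conj x⁻¹).toMonoidHom by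
          rw [MonoidHom.map_zpowers]; simp]
      exact (T.2.to_le (Subgroup.zpowers_le.mpr ht)).map _
    obtain ⟨e, he, heT⟩ := sylIn_absorb (show SylIn 2 (T : Subgroup X) Y from
      ⟨T.subtype hTY, Sylow.coe_subtype T hTY⟩) hp (Subgroup.zpowers_le.mpr hty)
    have h2 := heT _ (Subgroup.mem_zpowers _)
    have hmem := mem_of_conj_mem hT (x := e * x⁻¹) (t := t) ht ht1 (by simpa [mul_assoc] using h2)
    apply hx
    have := Y.inv_mem (Y.mul_mem (Y.inv_mem he) hmem)
    simpa using this
  -- the counting congruence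
  have hidx : Nat.card (T : Subgroup X) ∣ Y.index - 1 := by
    classical
    let Z := {c : X ⧸ Y // c ≠ ((1 : X) : X ⧸ Y)}
    letI : MulAction (T : Subgroup X) Z :=
      { smul := fun t c => ⟨(t : X) • c.1, fun e => by
          apply c.2
          have e' := congrArg (fun d => ((t : X)⁻¹ • d : X ⧸ Y)) e
          simp only [inv_smul_smul] at e'
          rw [e', MulAction.Quotient.smul_coe, smul_eq_mul, mul_one]
          exact QuotientGroup.eq.mpr (by simpa using hTY t.2)⟩
        one_smul := fun c => Subtype.ext (one_smul X c.1)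
        mul_smul := fun s t c => Subtype.ext (mul_smul (s : X) (t : X) c.1) }
    have hfree : ∀ z : Z, MulAction.stabilizer (T : Subgroup X) z = ⊥ := by
      intro z
      rw [Subgroup.eq_bot_iff_forall]
      intro t ht
      obtain ⟨⟨x⟩, hz⟩ := z
      have hx : x ∉ Y := fun hx => hz (QuotientGroup.eq.mpr (by simpa using hx))
      have e : ((t : X) * x : X ⧸ Y) = (x : X ⧸ Y) := congrArg Subtype.val (MulAction.mem_stabilizer_iff.mp ht)
      refine Subtype.ext (inv_eq_one.mp (hsemi x hx (t : X)⁻¹ (inv_mem t.2) ?_))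
      have := QuotientGroup.eq.mp e
      simpa [mul_assoc] using this
    have hcard := Nat.card_congr (MulAction.selfEquivOrbitsQuotientProd hfree)
    rw [Nat.card_prod] at hcard
    have hZ : Nat.card Z = Y.index - 1 := by
      haveI := Fintype.ofFinite (X ⧸ Y)
      rw [Nat.card_eq_fintype_card, Fintype.card_subtype_compl, Fintype.card_subtype_eq,
        ← Nat.card_eq_fintype_card]
      rfl
    rw [← hZ, hcard]
    exact dvd_mul_left _ _
  obtain ⟨a, ha⟩ := IsPGroup.iff_card.mp T.2
  have ha0 : 0 < a := by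
    rcases Nat.eq_zero_or_pos a with rfl | h
    · exact absurd (Subgroup.card_eq_one.mp (by simpa using ha)) hTne
    · exact h
  have hjne : Y.index ≠ 1 := fun e => hYtop (Subgroup.index_eq_one.mp e)
  have hjT : Y.index ∣ (T : Subgroup X).index := Subgroup.index_dvd_of_le hTY
  have ho := Subgroup.card_mul_index (T : Subgroup X)
  have hodd : ¬ 2 ∣ (T : Subgroup X).index := T.not_dvd_index
  have ha3 : a ≤ 3 := by
    have hd : 2 ^ a ∣ 2 ^ 3 * 21 := by
      rw [← ha]; exact (Dvd.intro _ ho).trans hX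
    exact (Nat.pow_dvd_pow_iff_le_right (by norm_num : 1 < 2)).mp
      ((Nat.Coprime.dvd_mul_right (Nat.Coprime.pow_left a (by norm_num))).mp hd)
  have ho21 : (T : Subgroup X).index ∣ 21 := by
    have hd : (T : Subgroup X).index ∣ 8 * 21 := (Dvd.intro_left _ ho).trans hX
    refine Nat.Coprime.dvd_of_dvd_mul_left ?_ hd
    exact ((Nat.prime_two.coprime_iff_not_dvd.mpr hodd).symm.pow_right 3)
  have hcent : ∀ s ∈ (T : Subgroup X), s ≠ 1 → ∀ c, c * s = s * c → c ∈ Y := by
    intro s hs hs1 c hc
    refine mem_of_conj_mem hT hs hs1 ?_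
    rwa [hc, mul_inv_cancel_right]
  have ha1 : a = 1 := by
    by_contra hne
    have hj21 : Y.index ∈ Nat.divisors 21 :=
      Nat.mem_divisors.mpr ⟨hjT.trans ho21, by norm_num⟩
    rw [show Nat.divisors 21 = {1, 3, 7, 21} by decide] at hj21
    rw [ha] at hidx
    simp only [Finset.mem_insert, Finset.mem_singleton] at hj21
    obtain ⟨rfl, hj⟩ : a = 2 ∧ Y.index = 21 := by
      interval_cases a
      · exact absurd rfl hne
      · rcases hj21 with e | e | e | e <;> rw [e] at hidx <;> norm_num at hidx <;> omega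
      · rcases hj21 with e | e | e | e <;> rw [e] at hidx <;> norm_num at hidx <;> omega
    have hI : (T : Subgroup X).index = 21 := Nat.dvd_antisymm ho21 (hj ▸ hjT)
    have hX84 : Nat.card X = 84 := by rw [← ho, ha, hI]; norm_num
    have hY4 : Nat.card Y = 4 := by
      have := Subgroup.card_mul_index Y
      rw [hj, hX84] at this
      omega
    haveI : Fact (Nat.Prime 7) := ⟨by norm_num⟩
    let P : Sylow 7 X := default
    have hP7 : Nat.card P = 7 := by
      rw [P.card_eq_multiplicity, hX84]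
      have : Nat.factorization 84 7 = 1 := by
        rw [show (84 : ℕ) = 7 ^ 1 * 12 by norm_num, Nat.factorization_mul (by norm_num) (by norm_num),
          Finsupp.add_apply, Nat.Prime.factorization_pow (by norm_num), Finsupp.single_eq_same,
          Nat.factorization_eq_zero_of_not_dvd (by norm_num)]
      rw [this, pow_one]
    have hPn : (P : Subgroup X).Normal := by
      suffices hs : Subsingleton (Sylow 7 X) from Sylow.normal_of_subsingleton P
      rw [← Finite.card_le_one_iff_subsingleton]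
      have h1 := card_sylow_modEq_one 7 X
      have h2 := P.card_dvd_index
      have h3 := Subgroup.card_mul_index (P : Subgroup X)
      rw [hP7, hX84] at h3
      have h4 : (P : Subgroup X).index = 12 := by omega
      rw [h4] at h2
      have h5 := Nat.le_of_dvd (by norm_num) h2
      unfold Nat.ModEq at h1
      interval_cases Nat.card (Sylow 7 X) <;> omega
    haveI := hPn
    haveI : IsCyclic (P : Subgroup X) := isCyclic_of_prime_card (p := 7) hP7
    let ψ : (T : Subgroup X) →* MulAut (P : Subgroup X) :=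
      MulAut.conjNormal.comp (T : Subgroup X).subtype
    have hker : ψ.ker ≠ ⊥ := by
      intro e
      have hd := Subgroup.card_dvd_of_injective ψ ((MonoidHom.ker_eq_bot_iff ψ).mp e)
      rw [ha, IsCyclic.card_mulAut, hP7] at hd
      norm_num [Nat.totient_prime] at hd
    obtain ⟨s, hs, hs1⟩ := (Subgroup.bot_or_exists_ne_one _).resolve_left hker
    have hsub : (P : Subgroup X) ≤ Y := by
      intro g hg
      refine hcent (s : X) s.2 (fun e => hs1 (Subtype.ext e)) g ?_
      have h := congrArg Subtype.val (DFunLike.congr_fun (show ψ s = 1 from hs) ⟨g, hg⟩)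
      have h' : (s : X) * g * (s : X)⁻¹ = g := h
      exact (mul_inv_eq_iff_eq_mul.mp h').symm
    have := Subgroup.card_dvd_of_le hsub
    rw [hP7, hY4] at this
    norm_num at this
  subst ha1
  rw [pow_one] at ha
  -- every Sylow subgroup has order two
  have hU : Nat.card (U : Subgroup X) = 2 := by rw [U.card_eq_multiplicity, ← T.card_eq_multiplicity, ha]
  obtain ⟨⟨t, htU⟩, ht1, huniq⟩ : ∃ t : (U : Subgroup X), t ≠ 1 ∧ ∀ u, u = 1 ∨ u = t := by
    haveI : Fintype (U : Subgroup X) := Fintype.ofFinite _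
    haveI : Nontrivial (U : Subgroup X) := Finite.one_lt_card_iff_nontrivial.1 (by omega)
    obtain ⟨t, ht⟩ := exists_ne (1 : (U : Subgroup X))
    refine ⟨t, ht, fun u => ?_⟩
    by_contra hu
    rw [not_or] at hu
    classical
    have : ({1, t, u} : Finset (U : Subgroup X)).card = 3 := by simp [Ne.symm ht, Ne.symm hu.1, Ne.symm hu.2]
    have h2 := Finset.card_le_univ ({1, t, u} : Finset (U : Subgroup X))
    rw [this, ← Nat.card_eq_fintype_card, hU] at h2
    omega
  have ht1' : t ≠ 1 := fun e => ht1 (Subtype.ext e)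
  have huniq' : ∀ u ∈ (U : Subgroup X), u = 1 ∨ u = t := fun u hu => by
    rcases huniq ⟨u, hu⟩ with e | e
    · exact Or.inl (congrArg Subtype.val e)
    · exact Or.inr (congrArg Subtype.val e)
  refine ⟨t, htU, ht1', huniq', ?_⟩
  have ht2 : t * t = 1 := by
    rcases huniq' _ (mul_mem htU htU) with e | e
    · exact e
    · exact absurd (mul_eq_left.mp e) ht1'
  -- `t` is not central
  obtain ⟨x, hx⟩ : ∃ x : X, x * t * x⁻¹ ≠ t := by
    by_contra hall
    push Not at hall
    apply hYtop
    obtain ⟨y, hy⟩ := MulAction.exists_smul_eq X U T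
    have hyt : t ∈ (T : Subgroup X) := by
      rw [← hy]
      exact Subgroup.mem_map.mpr ⟨t, htU, by simpa using hall y⟩
    exact top_le_iff.mp fun c _ => hcent t hyt ht1' c (mul_inv_eq_iff_eq_mul.mp (hall c))
  set h₀ := x * t * x⁻¹ * t with hh₀
  have hinv : t * h₀ * t⁻¹ = h₀⁻¹ := by
    rw [hh₀, mul_inv_rev, mul_inv_rev, mul_inv_rev, inv_inv, inv_eq_of_mul_eq_one_right ht2]
    simp [mul_assoc, ht2]
  have hh1 : h₀ ≠ 1 := fun e => hx (by
    rw [hh₀] at e
    rw [eq_inv_of_mul_eq_one_left e, inv_eq_of_mul_eq_one_right ht2])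
  have hpow : ∀ k : ℕ, t * h₀ ^ k * t⁻¹ = (h₀ ^ k)⁻¹ := fun k => by
    rw [← conj_pow, hinv, inv_pow]
  have hoddh : ¬ 2 ∣ orderOf h₀ := by
    intro hd
    set i := h₀ ^ (orderOf h₀ / 2)
    have hi2 : orderOf i = 2 := orderOf_pow_orderOf_div (orderOf_pos h₀).ne' hd
    have hii : i * i = 1 := by rw [← sq, ← hi2]; exact pow_orderOf_eq_one i
    have hit : t * i * t⁻¹ = i := by
      rw [hpow, inv_eq_of_mul_eq_one_right hii]
    have hc : Commute t i := mul_inv_eq_iff_eq_mul.mp hit
    let K : Subgroup X :=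
      { carrier := {g | g = 1 ∨ g = t ∨ g = i ∨ g = t * i}
        one_mem' := Or.inl rfl
        mul_mem' := by
          have e1 : t * (t * i) = i := by rw [← mul_assoc, ht2, one_mul]
          have e2 : i * t = t * i := hc.eq.symm
          have e3 : i * (t * i) = t := by rw [← mul_assoc, e2, mul_assoc, hii, mul_one]
          have e4 : t * i * t = i := by rw [mul_assoc, e2, e1]
          have e5 : t * i * i = t := by rw [mul_assoc, hii, mul_one]
          have e6 : t * i * (t * i) = 1 := by rw [← mul_assoc, e4, hii]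
          rintro a b (rfl | rfl | rfl | rfl) (rfl | rfl | rfl | rfl) <;>
            simp [Set.mem_setOf_eq, ht2, hii, e1, e2, e3, e4, e5, e6]
        inv_mem' := by
          rintro a (rfl | rfl | rfl | rfl)
          · exact Or.inl inv_one
          · exact Or.inr (Or.inl (inv_eq_of_mul_eq_one_right ht2))
          · exact Or.inr (Or.inr (Or.inl (inv_eq_of_mul_eq_one_right hii)))
          · refine Or.inr (Or.inr (Or.inr ?_))
            rw [mul_inv_rev, inv_eq_of_mul_eq_one_right ht2, inv_eq_of_mul_eq_one_right hii]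
            exact hc.eq.symm }
    have hKp : IsPGroup 2 K := by
      rintro ⟨g, hg⟩
      refine ⟨1, Subtype.ext ?_⟩
      show g ^ 2 ^ 1 = 1
      rw [pow_one, sq]
      rcases hg with rfl | rfl | rfl | rfl
      · exact one_mul 1
      · exact ht2
      · exact hii
      · rw [hc.symm.mul_mul_mul_comm, ht2, hii, one_mul]
    obtain ⟨P, hP⟩ := hKp.exists_le_sylow
    have hP2 : Nat.card (P : Subgroup X) = 2 := by
      rw [P.card_eq_multiplicity, ← T.card_eq_multiplicity, ha]
    obtain ⟨u, v, hne, hset⟩ := Set.ncard_eq_two.mp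
      (show ((P : Subgroup X) : Set X).ncard = 2 by rw [← Nat.card_coe_set_eq]; exact hP2)
    have m1 : (1 : X) ∈ ((P : Subgroup X) : Set X) := one_mem _
    have m2 : t ∈ ((P : Subgroup X) : Set X) := hP (Or.inr (Or.inl rfl))
    have m3 : i ∈ ((P : Subgroup X) : Set X) := hP (Or.inr (Or.inr (Or.inl rfl)))
    rw [hset] at m1 m2 m3
    simp only [Set.mem_insert_iff, Set.mem_singleton_iff] at m1 m2 m3
    have hi1 : i ≠ 1 := fun e => by rw [e, orderOf_one] at hi2; omega
    have hit' : i ≠ t := by
      intro e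
      apply hx
      have hct : Commute t h₀ := e ▸ (Commute.self_pow h₀ _).symm
      have hfix : h₀⁻¹ = h₀ := by rw [← hinv, hct.eq, mul_inv_cancel_right]
      have hh2 : orderOf h₀ = 2 := by
        refine orderOf_eq_prime ?_ hh1
        rw [sq]
        nth_rewrite 1 [← hfix]
        exact inv_mul_cancel h₀
      have hi' : i = h₀ := by
        show h₀ ^ (orderOf h₀ / 2) = h₀
        rw [hh2, show 2 / 2 = 1 from rfl, pow_one]
      rw [hi', hh₀] at e
      exact absurd (mul_eq_right.mp e) (by simpa using ht1')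
    rcases m1 with e1 | e1 <;> rcases m2 with e2 | e2 <;> rcases m3 with e3 | e3 <;>
      first
      | exact ht1' (e2.trans e1.symm)
      | exact hi1 (e3.trans e1.symm)
      | exact hit' (e3.trans e2.symm)
  have hord : orderOf h₀ ∣ 21 := by
    refine Nat.Coprime.dvd_of_dvd_mul_left ?_
      (show orderOf h₀ ∣ 8 * 21 from (orderOf_dvd_natCard h₀).trans hX)
    exact (Nat.prime_two.coprime_iff_not_dvd.mpr hoddh).symm.pow_right 3
  have hρt : ρ t * ρ t = 1 := by rw [← map_mul, ht2, map_one]
  have hno7 : ∀ k : ℕ, orderOf (h₀ ^ k) ≠ 7 := fun k e =>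
    not_order_seven hQ h8 hρt (t := ρ t) (h := ρ (h₀ ^ k))
      (by rw [← map_inv, ← map_mul, ← map_mul, hpow, map_inv])
      (by rw [orderOf_injective ρ hρ, e])
  have h1 : orderOf h₀ ≠ 1 := fun e => hh1 (orderOf_eq_one_iff.mp e)
  have hmem : orderOf h₀ ∈ Nat.divisors 21 := Nat.mem_divisors.mpr ⟨hord, by norm_num⟩
  rw [show Nat.divisors 21 = {1, 3, 7, 21} by decide] at hmem
  simp only [Finset.mem_insert, Finset.mem_singleton] at hmem
  rcases hmem with e | e | e | e
  · exact absurd e h1
  · exact ⟨h₀, e ▸ pow_orderOf_eq_one h₀, hh1, hinv⟩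
  · exact absurd (by rw [pow_one, e]) (hno7 1)
  · refine absurd ?_ (hno7 3)
    rw [orderOf_pow' _ (by norm_num : (3 : ℕ) ≠ 0), e]
    norm_num

/-- Congruent elements of order three modulo a normal 2-subgroup are conjugate by it. -/
theorem conj_of_congr {A : Type*} [Group A] [Finite A] (N : Subgroup A) [N.Normal]
    (hN : IsPGroup 2 N) {a b : A} (ha : a ^ 3 = 1) (ha1 : a ∉ N) (hb : b ^ 3 = 1)
    (hab : a⁻¹ * b ∈ N) : ∃ e ∈ N, e * b * e⁻¹ = a := by
  haveI : Fact (Nat.Prime 3) := ⟨Nat.prime_three⟩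
  haveI : Fact (Nat.Prime 2) := ⟨Nat.prime_two⟩
  have hoa : orderOf a = 3 := orderOf_eq_prime ha fun e => ha1 (e ▸ one_mem N)
  have hb1 : b ∉ N := fun h => ha1 (by
    have : a = b * (a⁻¹ * b)⁻¹ := by group
    rw [this]; exact mul_mem h (inv_mem hab))
  have hob : orderOf b = 3 := orderOf_eq_prime hb fun e => hb1 (e ▸ one_mem N)
  set K := N ⊔ Subgroup.zpowers a
  have haK : a ∈ K := Subgroup.mem_sup_right (Subgroup.mem_zpowers a)
  have hbK : b ∈ K := by
    have : b = a * (a⁻¹ * b) := by group
    rw [this]; exact mul_mem haK (Subgroup.mem_sup_left hab)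
  have hcK : Nat.card K = Nat.card N * 3 := PGroupsBasic.card_sup_zpowers hoa ha1
  obtain ⟨k, hk⟩ := IsPGroup.iff_card.mp hN
  have hfac : (Nat.card K).factorization 3 = 1 := by
    rw [hcK, hk, Nat.factorization_mul (by positivity) (by norm_num), Finsupp.add_apply,
      Nat.factorization_eq_zero_of_not_dvd (fun hd => by
        have := Nat.prime_three.dvd_of_dvd_pow hd; omega),
      Nat.Prime.factorization_self Nat.prime_three]
  have hsyl : ∀ c : A, orderOf c = 3 → (hc : c ∈ K) →
      Nat.card (Subgroup.zpowers (⟨c, hc⟩ : K)) = 3 ^ (Nat.card K).factorization 3 := fun c hc hcm => by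
    rw [Nat.card_zpowers, Subgroup.orderOf_mk, hc, hfac, pow_one]
  obtain ⟨g, hg⟩ := MulAction.exists_smul_eq K
    (Sylow.ofCard (Subgroup.zpowers (⟨b, hbK⟩ : K)) (hsyl b hob hbK))
    (Sylow.ofCard (Subgroup.zpowers (⟨a, haK⟩ : K)) (hsyl a hoa haK))
  have hmem : g * ⟨b, hbK⟩ * g⁻¹ ∈ Subgroup.zpowers (⟨a, haK⟩ : K) := by
    have := congrArg (fun P : Sylow 3 K => (P : Subgroup K)) hg
    simp only [Sylow.coe_subgroup_smul] at this
    rw [Sylow.ofCard, Sylow.ofCard] at this
    exact this.le (Subgroup.mem_map.mpr ⟨_, Subgroup.mem_zpowers _, rfl⟩)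
  obtain ⟨j, hj⟩ := Subgroup.mem_zpowers_iff.mp hmem
  have hg2 : (g : A) ∈ N ⊔ Subgroup.zpowers a := g.2
  obtain ⟨y, hy, z, hz, hgz⟩ := Subgroup.mem_sup_of_normal_right.mp (sup_comm N _ ▸ hg2)
  obtain ⟨i, rfl⟩ := Subgroup.mem_zpowers_iff.mp hy
  refine ⟨z, hz, ?_⟩
  have hval : a ^ j = (a ^ i * z) * b * (a ^ i * z)⁻¹ := by
    have := congrArg Subtype.val hj
    simpa [hgz] using this
  have hzb : z * b * z⁻¹ = a ^ j := by
    have e : z * b * z⁻¹ = (a ^ i)⁻¹ * ((a ^ i * z) * b * (a ^ i * z)⁻¹) * a ^ i := by group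
    rw [e, ← hval]; group
  rw [hzb]
  have hsame : a⁻¹ * a ^ j ∈ N := by
    rw [← hzb]
    set π := QuotientGroup.mk' N
    refine (QuotientGroup.eq_one_iff _).mp ?_
    show π (a⁻¹ * (z * b * z⁻¹)) = 1
    rw [map_mul, map_mul, map_mul, map_inv π z, show π z = 1 from (QuotientGroup.eq_one_iff z).mpr hz, one_mul,
      inv_one, mul_one, ← map_mul]
    exact (QuotientGroup.eq_one_iff _).mpr hab
  rcases (show (j - 1) % 3 = 0 ∨ (j - 1) % 3 ≠ 0 from em _) with e | e
  · obtain ⟨q, hq⟩ := Int.dvd_of_emod_eq_zero e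
    rw [show j = 3 * q + 1 by omega, zpow_add, zpow_mul, zpow_ofNat, ha, one_zpow, one_mul,
      zpow_one]
  · exfalso
    apply ha1
    have hm : a ^ (j - 1) ∈ N := by
      rw [show a ^ (j - 1) = a⁻¹ * a ^ j by group]; exact hsame
    rcases (show (j - 1) % 3 = 1 ∨ (j - 1) % 3 = 2 by omega) with e' | e'
    · rw [show j - 1 = 3 * ((j - 1) / 3) + 1 by omega, zpow_add, zpow_mul, zpow_ofNat, ha,
        one_zpow, one_mul, zpow_one] at hm
      exact hm
    · rw [show j - 1 = 3 * ((j - 1) / 3 + 1) - 1 by omega, zpow_sub, zpow_mul, zpow_ofNat, ha,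
        one_zpow, one_mul, zpow_one] at hm
      exact inv_mem_iff.mp hm

end core

variable {Ω : Type*} [Group Ω] {S : Subgroup Ω} [Finite S] {F : FusionSystem S}

/-- An automorphism of order three of an essential subgroup inverted from outside. -/
theorem essential_data [Fact (Nat.Prime 2)] (hS : IsPGroup 2 S) (hF : F.IsSaturated 2)
    {E : Subgroup Ω} (hE : F.IsEssential 2 E) (h8 : (P 2 (⊤ : Subgroup E)).index ≤ 8) :
    ∃ (α : MulAut E) (τ : ↥(S ⊓ Subgroup.normalizer (E : Set Ω))),
      (τ : Ω) ∉ E ∧ α ^ 3 = 1 ∧ (∃ y, y⁻¹ * α y ∉ P 2 (⊤ : Subgroup E)) ∧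
      nHom S E τ * α * (nHom S E τ)⁻¹ = α⁻¹ ∧
      ∀ g : ↥(S ⊓ Subgroup.normalizer (E : Set Ω)), (g : Ω) ∈ E ∨ (τ : Ω)⁻¹ * g ∈ E := by
  have hE' := hE
  obtain ⟨hcen, hEn, hn, Y, hY⟩ := hE'
  have hES := hcen.1
  haveI := hn
  haveI := finite_autGroup (F := F) E
  haveI := finite_of_le hES
  haveI hsqn := normal_P (p := 2) (⊤ : Subgroup E)
  haveI : Finite (E ⧸ P 2 (⊤ : Subgroup E)) := inferInstance
  set A := F.autGroup E
  set I := (Inn E).subgroupOf A
  have hmapP : ∀ β : MulAut E,
      (P 2 (⊤ : Subgroup E)).map β.toMonoidHom = P 2 (⊤ : Subgroup E) := fun β => by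
    rw [map_P, Subgroup.map_top_of_surjective _ β.surjective]
  let ρ₀ : A →* MulAut (E ⧸ P 2 (⊤ : Subgroup E)) :=
    { toFun := fun β => QuotientGroup.congr _ _ (β : MulAut E) (hmapP β)
      map_one' := by
        ext q; obtain ⟨y, rfl⟩ := QuotientGroup.mk'_surjective _ q; rfl
      map_mul' := fun β γ => by
        ext q; obtain ⟨y, rfl⟩ := QuotientGroup.mk'_surjective _ q; rfl }
  have hρ₀ : ∀ (β : A) (y : E), ρ₀ β (QuotientGroup.mk' _ y) =
      QuotientGroup.mk' (P 2 (⊤ : Subgroup E)) ((β : MulAut E) y) := fun β y => rfl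
  have hker : ρ₀.ker = I := by
    ext β
    constructor
    · intro hβ
      refine Subgroup.mem_subgroupOf.mpr
        (FusionEssential88.mem_inn_of_trivial hS hE β.2 fun y => ?_)
      have h := DFunLike.congr_fun (show ρ₀ β = 1 from hβ) (QuotientGroup.mk' _ y)
      rw [hρ₀, MulAut.one_apply] at h
      have hm : y⁻¹ * (β : MulAut E) y ∈ P 2 (⊤ : Subgroup E) := QuotientGroup.eq.mp h.symm
      exact (P_le_iff.mpr fun x _ => PGroupsBasic.pow_mem_frattini (hS.to_le hES) x :
        P 2 (⊤ : Subgroup E) ≤ frattini E) hm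
    · intro hβ
      rw [Subgroup.mem_subgroupOf] at hβ
      refine MonoidHom.mem_ker.mpr ?_
      ext q
      obtain ⟨y, rfl⟩ := QuotientGroup.mk'_surjective _ q
      rw [hρ₀, MulAut.one_apply]
      obtain ⟨u, hu⟩ := hβ
      refine (QuotientGroup.eq.mpr ?_).symm
      rw [← hu]
      show y⁻¹ * (u * y * u⁻¹) ∈ _
      have e : y⁻¹ * (u * y * u⁻¹) = ⁅y⁻¹, u⁆ := by rw [commutatorElement_def]; group
      rw [e]
      exact commutator_mem_sq _ _
  let ρ : A ⧸ I →* MulAut (E ⧸ P 2 (⊤ : Subgroup E)) := QuotientGroup.lift I ρ₀ hker.ge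
  have hρ : Function.Injective ρ := by
    rw [injective_iff_map_eq_one]
    intro q hq
    obtain ⟨β, rfl⟩ := QuotientGroup.mk'_surjective I q
    exact (QuotientGroup.eq_one_iff β).mpr (hker.le hq)
  obtain ⟨T₀, hT₀⟩ := (fullyAutomized_of_fullyNormalized hS hF hEn).2
  set π := QuotientGroup.mk' I
  set U := T₀.mapSurjective (QuotientGroup.mk'_surjective I)
  obtain ⟨t, htU, ht1, huniq, h, h3, hh1, hth⟩ := small_strongly_embedded ρ hρ (fun q => by
    obtain ⟨y, rfl⟩ := QuotientGroup.mk'_surjective _ q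
    rw [← map_mul, ← sq]
    exact (QuotientGroup.eq_one_iff _).mpr (sq_mem_sq y)) h8 hY U
  have hR : ∀ k, nHom S E k ∈ autInducedBy S E := fun k =>
    autInducedBy_eq_range S E ▸ ⟨k, rfl⟩
  let c : ↥(S ⊓ Subgroup.normalizer (E : Set Ω)) → A := fun k =>
    ⟨nHom S E k, autInducedBy_le hES (hR k)⟩
  obtain ⟨g, hg⟩ : ∃ g, π (c g) = t := by
    rw [Sylow.coe_mapSurjective] at htU
    obtain ⟨a, ha, rfl⟩ := htU
    rw [hT₀] at ha
    obtain ⟨g, hg⟩ := (autInducedBy_eq_range S E).le ha
    exact ⟨g, congrArg π (Subtype.ext hg)⟩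
  -- lift the element of order three
  obtain ⟨β, rfl⟩ := QuotientGroup.mk'_surjective I h
  obtain ⟨k, hk⟩ : ∃ k : ℕ, (β ^ 3) ^ 2 ^ k = 1 := by
    have hIp : IsPGroup 2 I := by
      refine IsPGroup.of_equiv ?_ (Subgroup.subgroupOfEquivOfLe
        ((autInducedBy_self E).ge.trans ((autInducedBy_mono hES E).trans (autInducedBy_le hES)))).symm
      rw [← autInducedBy_self, autInducedBy_eq_range]
      exact ((hS.to_le (inf_le_left.trans hES)).of_surjective _ (MonoidHom.rangeRestrict_surjective _))
    have hmem : β ^ 3 ∈ I := by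
      rw [← QuotientGroup.eq_one_iff]
      exact (map_pow π β 3).trans h3
    obtain ⟨k, hk⟩ := hIp ⟨_, hmem⟩
    exact ⟨k, congrArg Subtype.val hk⟩
  set α₀ : A := β ^ 4 ^ k with hα₀
  have hα3 : α₀ ^ 3 = 1 := by
    rw [hα₀, ← pow_mul, mul_comm, pow_mul, show (4 : ℕ) ^ k = 2 ^ k * 2 ^ k by
      rw [← mul_pow]; norm_num, pow_mul, hk, one_pow]
  have hπα : π α₀ = π β := by
    rw [hα₀, map_pow]
    have hmod : (4 : ℕ) ^ k % 3 = 1 := by rw [Nat.pow_mod]; simp
    rw [← Nat.div_add_mod (4 ^ k) 3, hmod, pow_add, pow_mul, h3, one_pow, one_mul, pow_one]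
  haveI : I.Normal := hn
  have hIp : IsPGroup 2 I := by
    refine IsPGroup.of_equiv ?_ (Subgroup.subgroupOfEquivOfLe
      ((autInducedBy_self E).ge.trans ((autInducedBy_mono hES E).trans (autInducedBy_le hES)))).symm
    rw [← autInducedBy_self, autInducedBy_eq_range]
    exact ((hS.to_le (inf_le_left.trans hES)).of_surjective _ (MonoidHom.rangeRestrict_surjective _))
  obtain ⟨e, heI, he⟩ := conj_of_congr I hIp (a := α₀⁻¹) (b := c g * α₀ * (c g)⁻¹)
    (by rw [inv_pow, hα3, inv_one])
    (fun hm => hh1 (by rw [← hπα]; exact (QuotientGroup.eq_one_iff _).mpr (inv_mem_iff.mp hm)))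
    (by rw [conj_pow, hα3, mul_one, mul_inv_cancel])
    ((QuotientGroup.eq_one_iff _).mp (by
      show π (α₀⁻¹⁻¹ * (c g * α₀ * (c g)⁻¹)) = 1
      rw [inv_inv, map_mul, map_mul, map_mul, map_inv, hg, hπα, hth, mul_inv_cancel]))
  obtain ⟨v, hv⟩ : ∃ v : ↥(S ⊓ Subgroup.normalizer (E : Set Ω)), c v = e ∧ (v : Ω) ∈ E := by
    obtain ⟨u, hu⟩ := Subgroup.mem_subgroupOf.mp heI
    refine ⟨⟨u, hES u.2, Subgroup.le_normalizer u.2⟩, Subtype.ext ?_, u.2⟩
    show nHom S E _ = (e : MulAut E)
    rw [← hu]
    exact MulEquiv.ext fun y => rfl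
  have hcmul : ∀ p q, c (p * q) = c p * c q := fun p q => Subtype.ext (map_mul (nHom S E) p q)
  have hinv : π (c v) = 1 := by rw [hv.1]; exact (QuotientGroup.eq_one_iff e).mpr heI
  refine ⟨(α₀ : MulAut E), v * g, ?_, ?_, ?_, ?_, ?_⟩
  · intro hm
    apply ht1
    have hgE : (g : Ω) ∈ E := by
      have : (g : Ω) = (v : Ω)⁻¹ * ((v * g : ↥(S ⊓ Subgroup.normalizer (E : Set Ω))) : Ω) := by simp
      rw [this]; exact mul_mem (inv_mem hv.2) hm
    rw [← hg]
    refine (QuotientGroup.eq_one_iff _).mpr (Subgroup.mem_subgroupOf.mpr ?_)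
    exact ⟨⟨g, hgE⟩, MulEquiv.ext fun y => rfl⟩
  · exact congrArg Subtype.val hα3
  · by_contra hall
    push Not at hall
    apply hh1
    rw [← hπα]
    refine (QuotientGroup.eq_one_iff α₀).mpr (hker.le (MonoidHom.mem_ker.mpr ?_))
    ext q
    obtain ⟨y, rfl⟩ := QuotientGroup.mk'_surjective _ q
    rw [hρ₀, MulAut.one_apply]
    exact (QuotientGroup.eq.mpr (hall y)).symm
  · have h' : c (v * g) * α₀ * (c (v * g))⁻¹ = α₀⁻¹ := by
      rw [hcmul, hv.1, ← he]; group
    exact congrArg Subtype.val h'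
  · intro k
    have hkU : π (c k) ∈ (U : Subgroup (A ⧸ I)) := by
      rw [Sylow.coe_mapSurjective]
      refine Subgroup.mem_map_of_mem _ ?_
      rw [hT₀]
      exact hR k
    rcases huniq _ hkU with e1 | e1
    · left
      exact mem_of_nHom_mem_inn hES (centralizerIn_le_of_centric hcen) k
        (Subgroup.mem_subgroupOf.mp ((QuotientGroup.eq_one_iff _).mp e1))
    · right
      have hz : π (c ((v * g)⁻¹ * k)) = 1 := by
        have hci : c ((v * g)⁻¹) = (c (v * g))⁻¹ := Subtype.ext (map_inv (nHom S E) _)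
        rw [hcmul, hci, hcmul, map_mul, map_inv, map_mul, hinv, one_mul, hg, e1, inv_mul_cancel]
      exact mem_of_nHom_mem_inn hES (centralizerIn_le_of_centric hcen) _
        (Subgroup.mem_subgroupOf.mp ((QuotientGroup.eq_one_iff _).mp hz))

end Cfsg.Agent.Bicyclic55
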