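import Mathlib
import Cfsg.Agent.Lib.Bicyclic55Basic

/-!
# Two-generated 2-groups with an automorphism of order three

If the automorphism is fixed-point-free modulo squares and the subgroups of the square subgroup
are two-generated, the group is abelian or a quaternion group of order eight.
-/

set_option autoImplicit false
set_option linter.style.haveILetI false
set_option linter.unusedSectionVars false

namespace Cfsg.Agent.Bicyclic55

open Subgroup Cfsg.Agent.HallAlperinPowers Cfsg.Agent.PGroupsBasic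
open scoped commutatorElement

variable {T : Type*} [Group T] [Finite T]

/-- The quaternion shape. -/
def QShape (T : Type*) [Group T] : Prop :=
  ∃ z : T, z ≠ 1 ∧ z ^ 2 = 1 ∧ (∀ g : T, g * z = z * g) ∧
    (∀ t ∈ P 2 (⊤ : Subgroup T), t = 1 ∨ t = z) ∧ ∀ t ∉ P 2 (⊤ : Subgroup T), t ^ 2 = z

/-- An automorphism keeps the square subgroup. -/
theorem map_mem_sq (α : MulAut T) {t : T} (h : t ∈ P 2 (⊤ : Subgroup T)) :
    α t ∈ P 2 (⊤ : Subgroup T) := by
  have h2 : (P 2 (⊤ : Subgroup T)).map α.toMonoidHom ≤ P 2 ⊤ := by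
    rw [map_P]; exact P_mono le_top
  exact h2 ⟨t, h, rfl⟩

/-- An element outside the squares and its image generate. -/
theorem closure_image_top (hT : IsPGroup 2 T) (α : MulAut T)
    (hfpf : ∀ t ∉ P 2 (⊤ : Subgroup T), t⁻¹ * α t ∉ P 2 (⊤ : Subgroup T))
    (hgen : ∃ u v : T, closure {u, v} = ⊤) {x : T} (hx : x ∉ P 2 (⊤ : Subgroup T)) :
    closure {x, α x} = ⊤ := by
  haveI := normal_P (p := 2) (⊤ : Subgroup T)
  set ρ := QuotientGroup.mk' (P 2 (⊤ : Subgroup T))
  have hsq : P 2 (⊤ : Subgroup (T ⧸ P 2 (⊤ : Subgroup T))) = ⊥ := by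
    rw [eq_bot_iff, P_le_iff]
    rintro y -
    obtain ⟨g, rfl⟩ := QuotientGroup.mk'_surjective _ y
    rw [Subgroup.mem_bot, ← map_pow]
    exact (QuotientGroup.eq_one_iff _).mpr (sq_mem_sq g)
  have hcomm : ∀ p q : T ⧸ P 2 (⊤ : Subgroup T), p * q = q * p := fun p q =>
    commutatorElement_eq_one_iff_mul_comm.mp
      (Subgroup.mem_bot.mp (hsq ▸ commutator_mem_sq p q))
  obtain ⟨u, v, huv⟩ := hgen
  have hbi : Bi (ρ u) (ρ v) := by
    intro g
    obtain ⟨g, rfl⟩ := QuotientGroup.mk'_surjective _ g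
    refine Subgroup.closure_induction (p := fun y _ => ∃ i j : ℤ, ρ y = ρ u ^ i * ρ v ^ j)
      ?_ ⟨0, 0, by simp⟩ ?_ ?_ (huv.ge (mem_top g))
    · rintro y (rfl | rfl)
      · exact ⟨1, 0, by simp⟩
      · exact ⟨0, 1, by simp⟩
    · rintro y y' - - ⟨i, j, e⟩ ⟨k, l, e'⟩
      refine ⟨i + k, j + l, ?_⟩
      rw [map_mul, e, e', zpow_add, zpow_add]
      exact (show Commute _ _ from hcomm _ _).mul_mul_mul_comm _ _
    · rintro y - ⟨i, j, e⟩
      exact ⟨-i, -j, by rw [map_inv, e, mul_inv_rev, zpow_neg, zpow_neg, hcomm]⟩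
  have hne : ∀ y : T, y ∉ P 2 (⊤ : Subgroup T) → ρ y ∉ P 2 (⊤ : Subgroup (T ⧸ P 2 (⊤ : Subgroup T))) :=
    fun y hy hm => hy ((QuotientGroup.eq_one_iff y).mp (Subgroup.mem_bot.mp (hsq ▸ hm)))
  have hax : α x ∉ P 2 (⊤ : Subgroup T) := fun h => hx (by simpa using map_mem_sq α⁻¹ h)
  have htop := gen_of_indep (hT.to_quotient _) hbi (hne x hx) (hne _ hax) (by
    rw [← map_inv, ← map_mul]; exact hne _ (hfpf x hx))
  refine top_of_sup_sq hT ?_
  rw [← Set.image_pair, ← MonoidHom.map_closure] at htop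
  have h2 := congrArg (Subgroup.comap ρ) htop
  rwa [Subgroup.comap_map_eq, QuotientGroup.ker_mk', Subgroup.comap_top] at h2

/-- In the commutative case norms are trivial and no element is fixed. -/
theorem norm_eq_one (hT : IsPGroup 2 T) (hc : ∀ p q : T, p * q = q * p) (α : MulAut T)
    (h3 : α ^ 3 = 1)
    (hfpf : ∀ t ∉ P 2 (⊤ : Subgroup T), t⁻¹ * α t ∉ P 2 (⊤ : Subgroup T)) (t : T) :
    t * α t * α (α t) = 1 := by
  let f : T →* T :=
    { toFun := fun t => t * α t * α (α t)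
      map_one' := by simp
      map_mul' := fun p q => by
        simp only [map_mul]
        rw [(show Commute q (α p) from hc _ _).mul_mul_mul_comm,
          (show Commute (q * α q) (α (α p)) from hc _ _).mul_mul_mul_comm] }
  have hα3 : ∀ t : T, α (α (α t)) = t := fun t => by
    have h := DFunLike.congr_fun h3 t
    simpa [pow_succ] using h
  have hfix : ∀ r ∈ f.range, α r = r := by
    rintro _ ⟨t, rfl⟩
    show α (t * α t * α (α t)) = t * α t * α (α t)
    rw [map_mul, map_mul, hα3, hc (α t * α (α t)) t, mul_assoc]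
  have hsq : ∀ r ∈ f.range, ∃ s ∈ f.range, r ^ 3 = s ^ 2 := by
    intro r hr
    have hr2 : r ∈ P 2 (⊤ : Subgroup T) := by
      by_contra h
      exact hfpf r h (by rw [hfix r hr, inv_mul_cancel]; exact one_mem _)
    let σ : T →* T := MonoidHom.mk' (fun t => t ^ 2) fun p q => (show Commute p q from hc p q).mul_pow 2
    have hle : P 2 (⊤ : Subgroup T) ≤ σ.range := P_le_iff.mpr fun g _ => ⟨g, rfl⟩
    obtain ⟨g, hg⟩ := hle hr2
    refine ⟨f g, ⟨g, rfl⟩, ?_⟩
    calc r ^ 3 = r * α r * α (α r) := by rw [hfix r hr, hfix r hr]; simp [pow_succ, mul_assoc]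
      _ = f r := rfl
      _ = f (g ^ 2) := by rw [← hg]; rfl
      _ = (f g) ^ 2 := map_pow f g 2
  have hbot : (⊥ : Subgroup f.range) = ⊤ := top_of_sup_sq (hT.to_subgroup _) (by
    rw [bot_sup_eq, ← top_le_iff]
    intro y _
    obtain ⟨s, hs, he⟩ := hsq y y.2
    obtain ⟨k, hk⟩ := hT (y : T)
    obtain ⟨m, hm⟩ := exists_pow_eq_self_of_coprime (show (3 : ℕ).Coprime (orderOf (y : T)) from
      Nat.Coprime.coprime_dvd_right (orderOf_dvd_of_pow_eq_one hk)
        (Nat.Coprime.pow_right k (by norm_num)))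
    have e : y = (⟨s, hs⟩ ^ m : f.range) ^ 2 := by
      refine Subtype.ext ?_
      simp only [SubmonoidClass.coe_pow]
      rw [← pow_mul, mul_comm m 2, pow_mul, ← he, hm]
    rw [e]
    exact sq_mem_sq _)
  have h1 : (⟨f t, t, rfl⟩ : f.range) = 1 := Subgroup.mem_bot.mp (hbot.ge (mem_top _))
  exact congrArg Subtype.val h1

theorem fixed_eq_one (hT : IsPGroup 2 T) (hc : ∀ p q : T, p * q = q * p) (α : MulAut T)
    (h3 : α ^ 3 = 1)
    (hfpf : ∀ t ∉ P 2 (⊤ : Subgroup T), t⁻¹ * α t ∉ P 2 (⊤ : Subgroup T)) {t : T}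
    (ht : α t = t) : t = 1 := by
  have h := norm_eq_one hT hc α h3 hfpf t
  rw [ht, ht] at h
  obtain ⟨k, hk⟩ := hT t
  have h1 : orderOf t ∣ 3 := orderOf_dvd_of_pow_eq_one (by rw [← h]; simp [pow_succ])
  have h2 : orderOf t ∣ 2 ^ k := orderOf_dvd_of_pow_eq_one hk
  exact orderOf_eq_one_iff.mp (Nat.eq_one_of_dvd_coprimes
    (Nat.Coprime.pow_right k (by norm_num : Nat.Coprime 3 2)) h1 h2)

/-- An involution in a cyclic group of order `2^(s+1)`. -/
theorem zpow_eq_half {y : T} {s : ℕ} (hy : orderOf y = 2 ^ (s + 1)) {m : ℤ} (h1 : y ^ m ≠ 1)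
    (h2 : (y ^ m) ^ 2 = 1) : y ^ m = y ^ 2 ^ s := by
  rw [← zpow_ofNat (y ^ m), ← zpow_mul] at h2
  have hd : ((2 ^ (s + 1) : ℕ) : ℤ) ∣ m * 2 := by
    rw [← hy]; exact orderOf_dvd_iff_zpow_eq_one.mpr h2
  push_cast [pow_succ] at hd
  obtain ⟨k, rfl⟩ := Int.dvd_of_mul_dvd_mul_right (by norm_num) hd
  rcases Int.even_or_odd k with ⟨l, rfl⟩ | ⟨l, rfl⟩
  · exfalso
    apply h1
    rw [← orderOf_dvd_iff_zpow_eq_one, hy]
    exact ⟨l, by push_cast; ring⟩
  · have e : y ^ ((2 : ℤ) ^ (s + 1) * l) = 1 := by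
      rw [← orderOf_dvd_iff_zpow_eq_one, hy]; exact ⟨l, by push_cast; ring⟩
    rw [show (2 : ℤ) ^ s * (2 * l + 1) = 2 ^ (s + 1) * l + ((2 ^ s : ℕ) : ℤ) by push_cast; ring,
      zpow_add, e, one_mul, zpow_natCast]

/-- An element outside the squares and its image are independent. -/
theorem indep (hT : IsPGroup 2 T) (hc : ∀ p q : T, p * q = q * p) (α : MulAut T) (h3 : α ^ 3 = 1)
    (hfpf : ∀ t ∉ P 2 (⊤ : Subgroup T), t⁻¹ * α t ∉ P 2 (⊤ : Subgroup T)) (x : T) {i j : ℤ}
    (h : x ^ i * α x ^ j = 1) : x ^ i = 1 ∧ α x ^ j = 1 := by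
  suffices hi : x ^ i = 1 by exact ⟨hi, by rwa [hi, one_mul] at h⟩
  by_contra hi
  obtain ⟨n, hn⟩ := hT x
  obtain ⟨e, -, he⟩ := (Nat.dvd_prime_pow Nat.prime_two).mp (orderOf_dvd_of_pow_eq_one hn)
  obtain _ | s := e
  · exact hi (by rw [show x = 1 from orderOf_eq_one_iff.mp (by rw [he, pow_zero]), one_zpow])
  -- an involution among the powers of `x ^ i`
  obtain ⟨k, hk⟩ := hT (x ^ i)
  obtain ⟨f, -, hf⟩ := (Nat.dvd_prime_pow Nat.prime_two).mp (orderOf_dvd_of_pow_eq_one hk)
  obtain _ | f := f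
  · exact hi (orderOf_eq_one_iff.mp (by rw [hf, pow_zero]))
  set u := (x ^ i) ^ 2 ^ f
  have hu1 : u ≠ 1 := fun e => by
    have := Nat.le_of_dvd (by positivity) (hf ▸ orderOf_dvd_of_pow_eq_one e)
    rw [pow_succ] at this
    have : 0 < 2 ^ f := by positivity
    omega
  have hu2 : u ^ 2 = 1 := by rw [← pow_mul, ← pow_succ, ← hf, pow_orderOf_eq_one]
  have ex : u = x ^ (i * ((2 ^ f : ℕ) : ℤ)) := by rw [zpow_mul, zpow_natCast]
  have ey : u = α x ^ (-j * ((2 ^ f : ℕ) : ℤ)) := by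
    rw [zpow_mul, zpow_natCast, zpow_neg, ← eq_inv_of_mul_eq_one_left h]
  have e1 := zpow_eq_half he (m := i * ((2 ^ f : ℕ) : ℤ)) (ex ▸ hu1) (ex ▸ hu2)
  have e2 := zpow_eq_half (y := α x) ((MulEquiv.orderOf_eq α x).trans he)
    (m := -j * ((2 ^ f : ℕ) : ℤ)) (ey ▸ hu1) (ey ▸ hu2)
  rw [← ex] at e1
  rw [← ey] at e2
  exact hu1 (fixed_eq_one hT hc α h3 hfpf (t := u) (by
    conv_lhs => rw [e1]
    rw [map_pow, ← e2]))

/-- The class two step. -/
theorem qShape_of_central (hT : IsPGroup 2 T) (α : MulAut T) (h3 : α ^ 3 = 1)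
    (hfpf : ∀ t ∉ P 2 (⊤ : Subgroup T), t⁻¹ * α t ∉ P 2 (⊤ : Subgroup T))
    (hR : ∀ H : Subgroup T, H ≤ P 2 ⊤ → ∃ h₁ h₂ : T, H = closure {h₁, h₂})
    {x : T} (hx : x ∉ P 2 (⊤ : Subgroup T)) (htop : closure {x, α x} = ⊤) {c : T}
    (hc : c = ⁅x, α x⁆) (hc1 : c ≠ 1) (hc2 : c ^ 2 = 1) (hcc : ∀ g : T, g * c = c * g)
    (hαc : α c = c) : QShape T := by
  haveI hN : (zpowers c).Normal := normal_of_le_center (zpowers_le.mpr (Subgroup.mem_center_iff.mpr hcc))
  set π := QuotientGroup.mk' (zpowers c)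
  set y := α x
  have hcsq : c ∈ P 2 (⊤ : Subgroup T) := hc ▸ commutator_mem_sq _ _
  have hzc : ∀ k : ℤ, c ^ k = 1 ∨ c ^ k = c := by
    intro k
    rcases Int.even_or_odd k with ⟨m, rfl⟩ | ⟨m, rfl⟩
    · left; rw [← two_mul, zpow_mul, zpow_ofNat, hc2, one_zpow]
    · right; rw [zpow_add, zpow_one, zpow_mul, zpow_ofNat, hc2, one_zpow, one_mul]
  have hπ : ∀ g : T, π g = 1 → g = 1 ∨ g = c := fun g hg => by
    obtain ⟨k, rfl⟩ := mem_zpowers_iff.mp ((QuotientGroup.eq_one_iff g).mp hg)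
    exact hzc k
  have hπc : π c = 1 := (QuotientGroup.eq_one_iff c).mpr (mem_zpowers c)
  have hxy : Commute (π x) (π y) := by
    rw [← commutatorElement_eq_one_iff_commute, ← map_commutatorElement, ← hc, hπc]
  have hQc : ∀ p q : T ⧸ zpowers c, p * q = q * p := by
    have htop' : closure ({π x, π y} : Set (T ⧸ zpowers c)) = ⊤ := by
      rw [← Set.image_pair, ← MonoidHom.map_closure, htop,
        Subgroup.map_top_of_surjective π (QuotientGroup.mk'_surjective _)]
    intro p q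
    refine Subgroup.closure_induction₂ (p := fun p q _ _ => p * q = q * p) ?_
      (fun _ _ => by simp) (fun _ _ => by simp)
      (fun _ _ _ _ _ _ h₁ h₂ => (Commute.mul_left h₁ h₂).eq)
      (fun _ _ _ _ _ _ h₁ h₂ => (Commute.mul_right h₁ h₂).eq)
      (fun _ _ _ _ h => (Commute.inv_left h).eq) (fun _ _ _ _ h => (Commute.inv_right h).eq)
      (htop'.ge (mem_top p)) (htop'.ge (mem_top q))
    rintro _ _ (rfl | rfl) (rfl | rfl)
    · rfl
    · exact hxy.eq
    · exact hxy.symm.eq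
    · rfl
  have hcommc : ∀ g h : T, ⁅g, h⁆ = 1 ∨ ⁅g, h⁆ = c := fun g h => hπ _ (by
    rw [map_commutatorElement, commutatorElement_eq_one_iff_mul_comm]; exact hQc _ _)
  have hsqc : ∀ g h : T, Commute (g ^ 2) h := by
    intro g h
    show g ^ 2 * h = h * g ^ 2
    have e : g * h * g⁻¹ = ⁅g, h⁆ * h := by rw [commutatorElement_def]; group
    refine mul_inv_eq_iff_eq_mul.mp ?_
    calc g ^ 2 * h * (g ^ 2)⁻¹ = g * (g * h * g⁻¹) * g⁻¹ := by simp [pow_two, mul_assoc]
      _ = (g * ⁅g, h⁆ * g⁻¹) * (g * h * g⁻¹) := by rw [e]; group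
      _ = (⁅g, h⁆ * ⁅g, h⁆) * h := by
        rw [e]
        rcases hcommc g h with e' | e' <;> rw [e'] <;> simp [hcc g, mul_assoc]
      _ = h := by
        rcases hcommc g h with e' | e' <;> rw [e'] <;> simp [← sq, hc2]
  have hyx : y * x = c * (x * y) := by
    have e : c⁻¹ = c := inv_eq_of_mul_eq_one_right (by rw [← sq]; exact hc2)
    rw [← e, hc, commutatorElement_def]; group
  have hxy2 : (x * y) ^ 2 = x ^ 2 * y ^ 2 * c := by
    calc (x * y) ^ 2 = x * (y * x) * y := by simp [pow_two, mul_assoc]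
      _ = x * c * (x * y * y) := by rw [hyx]; simp [mul_assoc]
      _ = c * (x ^ 2 * y ^ 2) := by rw [hcc x]; simp [pow_two, mul_assoc]
      _ = _ := (hcc _).symm
  have hα3 : ∀ t : T, α (α (α t)) = t := fun t => by
    have h := DFunLike.congr_fun h3 t
    simpa [pow_succ] using h
  have hmapN : (zpowers c).map α.toMonoidHom = zpowers c := by
    rw [MonoidHom.map_zpowers]; exact congrArg zpowers hαc
  set β : MulAut (T ⧸ zpowers c) := QuotientGroup.congr _ _ α hmapN
  have hβ : ∀ g : T, β (π g) = π (α g) := fun g => rfl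
  have hβ3 : β ^ 3 = 1 := by
    ext q
    obtain ⟨g, rfl⟩ := QuotientGroup.mk'_surjective _ q
    show β (β (β (π g))) = π g
    rw [hβ, hβ, hβ, hα3]
  have hmapP : P 2 (⊤ : Subgroup (T ⧸ zpowers c)) = (P 2 (⊤ : Subgroup T)).map π := by
    rw [map_P, Subgroup.map_top_of_surjective π (QuotientGroup.mk'_surjective _)]
  have hmemP : ∀ g : T, π g ∈ P 2 (⊤ : Subgroup (T ⧸ zpowers c)) ↔ g ∈ P 2 (⊤ : Subgroup T) := by
    intro g
    rw [hmapP]
    refine ⟨?_, fun h => ⟨g, h, rfl⟩⟩
    rintro ⟨h, hh, e⟩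
    have e' : g = h * (h⁻¹ * g) := by group
    rw [e']
    exact mul_mem hh ((zpowers_le.mpr hcsq) (QuotientGroup.eq.mp e))
  have hfpf' : ∀ q ∉ P 2 (⊤ : Subgroup (T ⧸ zpowers c)),
      q⁻¹ * β q ∉ P 2 (⊤ : Subgroup (T ⧸ zpowers c)) := by
    intro q hq
    obtain ⟨g, rfl⟩ := QuotientGroup.mk'_surjective _ q
    rw [hβ, ← map_inv, ← map_mul, hmemP]
    exact hfpf g fun h => hq ((hmemP g).mpr h)
  have hQ2 := hT.to_quotient (zpowers c)
  obtain ⟨k, hk⟩ := hQ2 (π x)
  obtain ⟨e, -, he⟩ := (Nat.dvd_prime_pow Nat.prime_two).mp (orderOf_dvd_of_pow_eq_one hk)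
  have hey : orderOf (π y) = 2 ^ e := by
    rw [← hβ x]; exact (MulEquiv.orderOf_eq β _).trans he
  have he0 : e ≠ 0 := fun h0 => hx ((zpowers_le.mpr hcsq)
    ((QuotientGroup.eq_one_iff x).mp (show π x = 1 from orderOf_eq_one_iff.mp (by rw [he, h0, pow_zero]))))
  -- the third conjugate
  have hw : π (α y) = (π (x * y))⁻¹ := by
    have h := norm_eq_one hQ2 hQc β hβ3 hfpf' (π x)
    rw [hβ, hβ] at h
    rw [map_mul]
    exact eq_inv_of_mul_eq_one_right h
  obtain ⟨k₀, hk₀⟩ : ∃ k : ℤ, α y = (x * y)⁻¹ * c ^ k := by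
    obtain ⟨k, hk⟩ := mem_zpowers_iff.mp (QuotientGroup.eq.mp ((map_inv π (x * y)).trans hw.symm))
    exact ⟨k, by rw [hk]; group⟩
  have hαy : ∀ n : ℕ, (α y) ^ (2 * n) = (((x * y) ^ 2) ^ n)⁻¹ := by
    intro n
    have hcm : Commute ((x * y)⁻¹) (c ^ k₀) := (show Commute _ c from hcc _).zpow_right k₀
    rw [hk₀, pow_mul, hcm.mul_pow, inv_pow]
    rcases hzc k₀ with e' | e' <;> rw [e'] <;> simp [hc2, inv_pow]
  by_cases he1 : e = 1
  · subst he1
    have hel : ∀ g : T, g ^ 2 = 1 ∨ g ^ 2 = c := by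
      intro g
      apply hπ
      rw [map_pow]
      refine Subgroup.closure_induction (p := fun g _ => π g ^ 2 = 1) ?_ (by simp) ?_ ?_
        (htop.ge (mem_top g))
      · have hx2 : π x ^ 2 = 1 := by
          have h := pow_orderOf_eq_one (π x)
          rwa [he, pow_one] at h
        have hy2 : π y ^ 2 = 1 := by
          have h := pow_orderOf_eq_one (π y)
          rwa [hey, pow_one] at h
        rintro t (rfl | rfl)
        · exact hx2
        · exact hy2
      · intro p q _ _ hp hq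
        rw [map_mul, (show Commute _ _ from hQc (π p) (π q)).mul_pow, hp, hq, one_mul]
      · intro p _ hp
        rw [map_inv, inv_pow, hp, inv_one]
    have hP : ∀ t ∈ P 2 (⊤ : Subgroup T), t = 1 ∨ t = c := by
      intro t ht
      have hle : P 2 (⊤ : Subgroup T) ≤ zpowers c := P_le_iff.mpr fun g _ => by
        rcases hel g with e' | e' <;> rw [e']
        · exact one_mem _
        · exact mem_zpowers c
      obtain ⟨k, rfl⟩ := mem_zpowers_iff.mp (hle ht)
      exact hzc k
    have hy2 : y ^ 2 = x ^ 2 := by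
      show (α x) ^ 2 = x ^ 2
      rw [← map_pow]
      rcases hel x with e' | e' <;> rw [e']
      · exact map_one α
      · exact hαc
    have hxy2' : (x * y) ^ 2 = c := by
      rw [hxy2, hy2]
      rcases hel x with e' | e' <;> rw [e'] <;> simp [← sq, hc2]
    have hw2 : (α y) ^ 2 = x ^ 2 := by
      rw [← map_pow, hy2, map_pow]
      exact hy2
    have hx2 : x ^ 2 = c := by
      have h := hαy 1
      rw [mul_one, hw2, pow_one, hxy2'] at h
      rw [h]
      exact inv_eq_of_mul_eq_one_right (by rw [← sq]; exact hc2)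
    refine ⟨c, hc1, hc2, hcc, hP, fun t ht => ?_⟩
    obtain ⟨i, j, hij⟩ : ∃ i j : ℤ, π t = π x ^ i * π y ^ j := by
      refine Subgroup.closure_induction (p := fun g _ => ∃ i j : ℤ, π g = π x ^ i * π y ^ j)
        ?_ ⟨0, 0, by simp⟩ ?_ ?_ (htop.ge (mem_top t))
      · rintro g (rfl | rfl)
        · exact ⟨1, 0, by simp⟩
        · exact ⟨0, 1, by simp⟩
      · rintro g g' - - ⟨i, j, e⟩ ⟨k, l, e'⟩
        refine ⟨i + k, j + l, ?_⟩
        rw [map_mul, e, e', zpow_add, zpow_add]
        exact (show Commute _ _ from hQc _ _).mul_mul_mul_comm _ _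
      · rintro g - ⟨i, j, e⟩
        exact ⟨-i, -j, by rw [map_inv, e, mul_inv_rev, zpow_neg, zpow_neg, hQc]⟩
    have hsame : ∀ s : T, π t = π s → t ^ 2 = s ^ 2 := by
      intro s h
      obtain ⟨k, hk⟩ := mem_zpowers_iff.mp (QuotientGroup.eq.mp h.symm)
      have e' : t = s * c ^ k := by rw [hk]; group
      rw [e', ((show Commute s c from hcc s).zpow_right k).mul_pow]
      rcases hzc k with e'' | e'' <;> rw [e''] <;> simp [hc2]
    have hodd : ∀ (g : T) (m : ℤ), π g ^ 2 = 1 → π g ^ m = 1 ∨ π g ^ m = π g := by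
      intro g m hg
      rcases Int.even_or_odd m with ⟨n, rfl⟩ | ⟨n, rfl⟩
      · left; rw [← two_mul, zpow_mul, zpow_ofNat, hg, one_zpow]
      · right; rw [zpow_add, zpow_one, zpow_mul, zpow_ofNat, hg, one_zpow, one_mul]
    have hπx : π x ^ 2 = 1 := by rw [← map_pow, hx2, hπc]
    have hπy : π y ^ 2 = 1 := by rw [← map_pow, hy2, hx2, hπc]
    rcases hodd x i hπx with e1 | e1 <;> rcases hodd y j hπy with e2 | e2 <;> rw [e1, e2] at hij
    · refine absurd ?_ ht
      rw [one_mul] at hij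
      exact (zpowers_le.mpr hcsq) ((QuotientGroup.eq_one_iff t).mp hij)
    · rw [one_mul] at hij
      rw [hsame y hij, hy2, hx2]
    · rw [mul_one] at hij
      rw [hsame x hij, hx2]
    · rw [← map_mul] at hij
      rw [hsame _ hij, hxy2']
  · exfalso
    obtain ⟨e, rfl⟩ : ∃ d, e = d + 2 := ⟨e - 2, by omega⟩
    -- squares are central and the square subgroup is commutative
    have hcen : P 2 (⊤ : Subgroup T) ≤ center T := P_le_iff.mpr fun g _ =>
      Subgroup.mem_center_iff.mpr fun h => ((hsqc g h).eq).symm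
    obtain ⟨h₁, h₂, hh⟩ := hR _ le_rfl
    have m1 : h₁ ∈ P 2 (⊤ : Subgroup T) := hh ▸ mem_pair_left _ _
    have m2 : h₂ ∈ P 2 (⊤ : Subgroup T) := hh ▸ mem_pair_right _ _
    have hE : ∀ g ∈ P 2 (⊤ : Subgroup T), ∀ a b : T, P 2 (⊤ : Subgroup T) = closure {a, b} →
        ∃ i j : ℤ, g = a ^ i * b ^ j := by
      intro g hg a b hab
      have hcom : ∀ q ∈ P 2 (⊤ : Subgroup T), ∀ h : T, Commute q h := fun q hq h =>
        (show Commute h q from Subgroup.mem_center_iff.mp (hcen hq) h).symm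
      have ha : a ∈ P 2 (⊤ : Subgroup T) := hab ▸ mem_pair_left _ _
      have hb : b ∈ P 2 (⊤ : Subgroup T) := hab ▸ mem_pair_right _ _
      refine Subgroup.closure_induction (p := fun g _ => ∃ i j : ℤ, g = a ^ i * b ^ j)
        ?_ ⟨0, 0, by simp⟩ ?_ ?_ (hab.le hg)
      · rintro g (rfl | rfl)
        · exact ⟨1, 0, by simp⟩
        · exact ⟨0, 1, by simp⟩
      · rintro _ _ - - ⟨i, j, rfl⟩ ⟨k, l, rfl⟩
        refine ⟨i + k, j + l, ?_⟩
        rw [zpow_add, zpow_add]
        exact ((hcom b hb (a ^ k)).zpow_left j).mul_mul_mul_comm _ _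
      · rintro _ - ⟨i, j, rfl⟩
        exact ⟨-i, -j, by
          rw [mul_inv_rev, zpow_neg, zpow_neg]
          exact (((hcom b hb (a ^ i)).zpow_left j).inv_inv).eq⟩
    have hbiE : Bi (⟨h₁, m1⟩ : P 2 (⊤ : Subgroup T)) ⟨h₂, m2⟩ := fun g => by
      obtain ⟨i, j, hij⟩ := hE g g.2 _ _ hh
      exact ⟨i, j, Subtype.ext (by simpa using hij)⟩
    have hEG := hT.to_subgroup (P 2 (⊤ : Subgroup T))
    have hmapE : (P 2 (⊤ : Subgroup (P 2 (⊤ : Subgroup T)))).map (P 2 (⊤ : Subgroup T)).subtype =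
        P 2 (P 2 ⊤) := by
      rw [map_P, ← MonoidHom.range_eq_map, Subgroup.range_subtype]
    let f4 : (T ⧸ zpowers c) →* (T ⧸ zpowers c) :=
      MonoidHom.mk' (fun q => q ^ 4) fun p q => (show Commute p q from hQc p q).mul_pow 4
    have h4 : ∀ g ∈ P 2 (P 2 (⊤ : Subgroup T)), ∃ p q : ℤ, π g = π x ^ (4 * p) * π y ^ (4 * q) := by
      intro g hg
      have hle : P 2 (P 2 (⊤ : Subgroup T)) ≤ f4.range.comap π := by
        rw [P_le_iff]
        let f2 : (T ⧸ zpowers c) →* (T ⧸ zpowers c) :=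
          MonoidHom.mk' (fun q => q ^ 2) fun p q => (show Commute p q from hQc p q).mul_pow 2
        intro s hs
        have hs' : π s ∈ f2.range := (P_le_iff.mpr fun t _ => (⟨π t, (map_pow π t 2).symm⟩ :
          t ^ 2 ∈ f2.range.comap π) : P 2 (⊤ : Subgroup T) ≤ f2.range.comap π) hs
        obtain ⟨q, hq⟩ := hs'
        refine ⟨q, ?_⟩
        show q ^ 4 = π (s ^ 2)
        rw [map_pow, ← hq]
        show q ^ 4 = (q ^ 2) ^ 2
        rw [← pow_mul]
      obtain ⟨q, hq⟩ := hle hg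
      obtain ⟨t, rfl⟩ := QuotientGroup.mk'_surjective _ q
      obtain ⟨i, j, hij⟩ : ∃ i j : ℤ, π t = π x ^ i * π y ^ j := by
        refine Subgroup.closure_induction (p := fun g _ => ∃ i j : ℤ, π g = π x ^ i * π y ^ j)
          ?_ ⟨0, 0, by simp⟩ ?_ ?_ (htop.ge (mem_top t))
        · rintro g (rfl | rfl)
          · exact ⟨1, 0, by simp⟩
          · exact ⟨0, 1, by simp⟩
        · rintro g g' - - ⟨i, j, e⟩ ⟨k, l, e'⟩
          refine ⟨i + k, j + l, ?_⟩
          rw [map_mul, e, e', zpow_add, zpow_add]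
          exact (show Commute _ _ from hQc _ _).mul_mul_mul_comm _ _
        · rintro g - ⟨i, j, e⟩
          exact ⟨-i, -j, by rw [map_inv, e, mul_inv_rev, zpow_neg, zpow_neg, hQc]⟩
      refine ⟨i, j, ?_⟩
      rw [← hq]
      show π t ^ 4 = _
      rw [hij, (show Commute _ _ from hQc (π x ^ i) (π y ^ j)).mul_pow, ← zpow_natCast,
        ← zpow_natCast (π y ^ j), ← zpow_mul, ← zpow_mul, mul_comm i, mul_comm j]
      norm_num
    have hβx : ∀ i j : ℤ, π x ^ i * π y ^ j = 1 →
        (2 ^ (e + 2) : ℤ) ∣ i ∧ (2 ^ (e + 2) : ℤ) ∣ j := by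
      intro i j h
      obtain ⟨h1, h2⟩ := indep hQ2 hQc β hβ3 hfpf' (π x) (i := i) (j := j) (by rw [hβ]; exact h)
      rw [hβ] at h2
      have d1 := orderOf_dvd_iff_zpow_eq_one.mpr h1
      have d2 := orderOf_dvd_iff_zpow_eq_one.mpr h2
      rw [he] at d1
      rw [show orderOf (π y) = 2 ^ (e + 2) from hey] at d2
      push_cast at d1 d2
      exact ⟨d1, d2⟩
    have hnot : ∀ i j : ℤ, x ^ (2 * i) * y ^ (2 * j) ∈ P 2 (P 2 (⊤ : Subgroup T)) →
        Even i ∧ Even j := by
      intro i j h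
      obtain ⟨p, q, hpq⟩ := h4 _ h
      rw [map_mul, map_zpow, map_zpow] at hpq
      have h1 : π x ^ (2 * i - 4 * p) * π y ^ (2 * j - 4 * q) = 1 := by
        rw [zpow_sub, zpow_sub, (show Commute ((π x ^ (4 * p))⁻¹) (π y ^ (2 * j)) from
          hQc _ _).mul_mul_mul_comm, hpq, ← mul_inv_rev, hQc (π y ^ (4 * q)) (π x ^ (4 * p)),
          mul_inv_cancel]
      obtain ⟨⟨m, hm⟩, ⟨n, hn⟩⟩ := hβx _ _ h1
      rw [pow_add] at hm hn
      exact ⟨⟨p + 2 ^ e * m, by linarith⟩, ⟨q + 2 ^ e * n, by linarith⟩⟩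
    have hmemE : ∀ g : P 2 (⊤ : Subgroup T), g ∈ P 2 (⊤ : Subgroup (P 2 (⊤ : Subgroup T))) →
        (g : T) ∈ P 2 (P 2 (⊤ : Subgroup T)) := fun g hg => hmapE.le ⟨g, hg, rfl⟩
    have htopE := gen_of_indep hEG hbiE (h := ⟨x ^ 2, sq_mem_sq x⟩) (x := ⟨y ^ 2, sq_mem_sq y⟩)
      (fun hm => by
        obtain ⟨⟨m, hm'⟩, -⟩ := hnot 1 0 (by simpa using hmemE _ hm)
        omega)
      (fun hm => by
        obtain ⟨-, ⟨m, hm'⟩⟩ := hnot 0 1 (by simpa using hmemE _ hm)
        omega)
      (fun hm => by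
        obtain ⟨⟨m, hm'⟩, -⟩ := hnot (-1) 1 (by
          simpa [zpow_ofNat] using hmemE _ hm)
        omega)
    have hEeq : P 2 (⊤ : Subgroup T) = closure {x ^ 2, y ^ 2} := by
      conv_lhs => rw [← Subgroup.range_subtype (P 2 (⊤ : Subgroup T)), MonoidHom.range_eq_map,
        ← htopE, MonoidHom.map_closure, Set.image_pair]
      rfl
    obtain ⟨i, j, hcij⟩ := hE c hcsq _ _ hEeq
    rw [← zpow_ofNat x 2, ← zpow_ofNat y 2, ← zpow_mul, ← zpow_mul] at hcij
    have h1 : π x ^ (2 * i) * π y ^ (2 * j) = 1 := by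
      rw [← map_zpow, ← map_zpow, ← map_mul, ← hcij, hπc]
    obtain ⟨⟨m, hm⟩, ⟨n, hn⟩⟩ := hβx _ _ h1
    set X := x ^ 2 ^ (e + 2)
    set Y := y ^ 2 ^ (e + 2)
    have hX : X = 1 ∨ X = c := hπ _ (by
      rw [map_pow, ← he]; exact pow_orderOf_eq_one _)
    have hXα : α X = X := by
      rcases hX with e' | e' <;> rw [e']
      · exact map_one α
      · exact hαc
    have hYX : Y = X := by
      rw [← hXα]; exact (map_pow α x _).symm
    have hαY : α Y = (X * Y)⁻¹ := by
      show α (y ^ 2 ^ (e + 2)) = _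
      rw [map_pow, show 2 ^ (e + 2) = 2 * 2 ^ (e + 1) by ring, hαy, hxy2]
      have hc' : c ^ 2 ^ (e + 1) = 1 := by
        rw [pow_succ', pow_mul, hc2, one_pow]
      rw [((show Commute (x ^ 2 * y ^ 2) c from hcc _).mul_pow), hc', mul_one,
        (hsqc x (y ^ 2)).mul_pow, ← pow_mul, ← pow_mul,
        show 2 * 2 ^ (e + 1) = 2 ^ (e + 2) by ring]
    have hX1 : X = 1 := by
      rw [hYX, hXα] at hαY
      rcases hX with e' | e'
      · exact e'
      · rw [e', ← sq, hc2, inv_one] at hαY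
        exact absurd hαY hc1
    apply hc1
    rw [hcij, hm, hn, zpow_mul, zpow_mul,
      show ((2 : ℤ) ^ (e + 2)) = ((2 ^ (e + 2) : ℕ) : ℤ) by push_cast; rfl, zpow_natCast,
      zpow_natCast]
    rw [show x ^ 2 ^ (e + 2) = X from rfl, show y ^ 2 ^ (e + 2) = Y from rfl, hYX, hX1, one_zpow,
      one_zpow, one_mul]

/-- Transfer of the two-generation property to a quotient. -/
theorem hR_quotient (hR : ∀ H : Subgroup T, H ≤ P 2 ⊤ → ∃ h₁ h₂ : T, H = closure {h₁, h₂})
    (N : Subgroup T) [N.Normal] :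
    ∀ H : Subgroup (T ⧸ N), H ≤ P 2 ⊤ → ∃ h₁ h₂ : T ⧸ N, H = closure {h₁, h₂} := by
  intro H hH
  obtain ⟨h₁, h₂, hh⟩ := hR (H.comap (QuotientGroup.mk' N) ⊓ P 2 ⊤) inf_le_right
  refine ⟨QuotientGroup.mk' N h₁, QuotientGroup.mk' N h₂, ?_⟩
  rw [← Set.image_pair, ← MonoidHom.map_closure, ← hh]
  refine le_antisymm (fun y hy => ?_) ((Subgroup.map_mono inf_le_left).trans
    (Subgroup.map_comap_le _ _))
  have h' := hH hy
  rw [← Subgroup.map_top_of_surjective _ (QuotientGroup.mk'_surjective N), ← map_P] at h'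
  obtain ⟨g, hg, rfl⟩ := h'
  exact ⟨g, ⟨hy, hg⟩, rfl⟩

/-- A two-generated 2-group with such an automorphism is abelian or of quaternion shape. -/
theorem gen_cases.{u} : ∀ (T : Type u) [Group T] [Finite T], IsPGroup 2 T → ∀ α : MulAut T,
    α ^ 3 = 1 → (∀ t ∉ P 2 (⊤ : Subgroup T), t⁻¹ * α t ∉ P 2 (⊤ : Subgroup T)) →
    (∃ u v : T, closure {u, v} = ⊤) →
    (∀ H : Subgroup T, H ≤ P 2 ⊤ → ∃ h₁ h₂ : T, H = closure {h₁, h₂}) →
    (∀ p q : T, p * q = q * p) ∨ QShape T := by
  intro T _ _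
  induction hn : Nat.card T using Nat.strong_induction_on generalizing T with
  | _ n ih =>
    intro hT α h3 hfpf hgen hR
    haveI : Fact (Nat.Prime 2) := ⟨Nat.prime_two⟩
    by_cases hcomm : ∀ p q : T, p * q = q * p
    · exact Or.inl hcomm
    right
    have hne : commutator T ≠ ⊥ := fun h => hcomm fun p q =>
      commutatorElement_eq_one_iff_mul_comm.mp (Subgroup.mem_bot.mp
        (h ▸ Subgroup.commutator_mem_commutator (mem_top p) (mem_top q)))
    let N : Subgroup T :=
      { carrier := {t | t ∈ commutator T ⊓ center T ∧ t ^ 2 = 1}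
        one_mem' := ⟨one_mem _, one_pow 2⟩
        mul_mem' := fun {a b} ha hb => ⟨mul_mem ha.1 hb.1, by
          rw [(show Commute a b from Subgroup.mem_center_iff.mp hb.1.2 a).mul_pow, ha.2, hb.2,
            one_mul]⟩
        inv_mem' := fun {a} ha => ⟨inv_mem ha.1, by rw [inv_pow, ha.2, inv_one]⟩ }
    have hNc : N ≤ center T := fun t ht => ht.1.2
    haveI : N.Normal := normal_of_le_center hNc
    have hNsq : N ≤ P 2 (⊤ : Subgroup T) := fun t ht => commutator_le_sq ht.1.1
    have hN1 : N ≠ ⊥ := by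
      intro hN
      obtain ⟨z, hz, hzo⟩ := exists_orderOf_eq_of_ne_bot (p := 2)
        (hT.to_subgroup (commutator T ⊓ center T)) (inf_center_ne_bot hT hne)
      have : z ∈ N := ⟨hz, by rw [← hzo]; exact pow_orderOf_eq_one z⟩
      rw [hN, Subgroup.mem_bot] at this
      rw [this, orderOf_one] at hzo
      omega
    have hlt : Nat.card (T ⧸ N) < n := by
      have h := Subgroup.card_eq_card_quotient_mul_card_subgroup N
      have h1 : 1 < Nat.card N := (Subgroup.one_lt_card_iff_ne_bot N).mpr hN1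
      have h2 : 0 < Nat.card (T ⧸ N) := Nat.card_pos
      rw [hn] at h
      nlinarith
    have hmapN : N.map α.toMonoidHom = N := by
      refine Subgroup.eq_of_le_of_card_ge ?_ ?_
      · rintro _ ⟨t, ⟨⟨h1, h2⟩, h3⟩, rfl⟩
        refine ⟨⟨?_, ?_⟩, ?_⟩
        · have := Subgroup.mem_map_of_mem α.toMonoidHom h1
          rw [_root_.commutator_def, Subgroup.map_commutator] at this
          exact Subgroup.commutator_mono le_top le_top this
        · refine Subgroup.mem_center_iff.mpr fun g => ?_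
          have := congrArg α (Subgroup.mem_center_iff.mp h2 (α.symm g))
          simpa using this
        · show (α t) ^ 2 = 1
          rw [← map_pow, h3, map_one]
      · exact (Nat.card_congr (Subgroup.equivMapOfInjective N _ α.injective).toEquiv).le
    set β : MulAut (T ⧸ N) := QuotientGroup.congr _ _ α hmapN
    set π := QuotientGroup.mk' N
    have hsurj := QuotientGroup.mk'_surjective N
    have hβ : ∀ g : T, β (π g) = π (α g) := fun g => rfl
    have hα3 : ∀ t : T, α (α (α t)) = t := fun t => by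
      have h := DFunLike.congr_fun h3 t
      simpa [pow_succ] using h
    have hβ3 : β ^ 3 = 1 := by
      ext q
      obtain ⟨g, rfl⟩ := hsurj q
      show β (β (β (π g))) = π g
      rw [hβ, hβ, hβ, hα3]
    have hmemP : ∀ g : T, π g ∈ P 2 (⊤ : Subgroup (T ⧸ N)) ↔ g ∈ P 2 (⊤ : Subgroup T) := by
      intro g
      rw [← Subgroup.map_top_of_surjective π hsurj, ← map_P]
      refine ⟨?_, fun h => ⟨g, h, rfl⟩⟩
      rintro ⟨h, hh, e⟩
      have e' : g = h * (h⁻¹ * g) := by group
      rw [e']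
      exact mul_mem hh (hNsq (QuotientGroup.eq.mp e))
    obtain ⟨u, v, huv⟩ := hgen
    rcases ih _ hlt (T ⧸ N) rfl (hT.to_quotient N) β hβ3 (fun q hq => by
        obtain ⟨g, rfl⟩ := hsurj q
        rw [hβ, ← map_inv, ← map_mul, hmemP]
        exact hfpf g fun h => hq ((hmemP g).mpr h))
      ⟨π u, π v, by
        rw [← Set.image_pair, ← MonoidHom.map_closure, huv,
          Subgroup.map_top_of_surjective π hsurj]⟩
      (hR_quotient hR N) with hq | hq
    · -- derived subgroup of order two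
      obtain ⟨x, hx⟩ : ∃ x : T, x ∉ P 2 (⊤ : Subgroup T) := by
        by_contra hall
        push_neg at hall
        apply hcomm
        have hb := top_of_sup_sq hT (K := ⊥) (by
          rw [bot_sup_eq, ← top_le_iff]; exact fun g _ => hall g)
        intro p q
        rw [Subgroup.mem_bot.mp (hb.ge (mem_top p)), Subgroup.mem_bot.mp (hb.ge (mem_top q))]
      have htop := closure_image_top hT α hfpf ⟨u, v, huv⟩ hx
      have hcN : ⁅x, α x⁆ ∈ N := (QuotientGroup.eq_one_iff _).mp (by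
        show π ⁅x, α x⁆ = 1
        rw [map_commutatorElement, commutatorElement_eq_one_iff_mul_comm]; exact hq _ _)
      have hcomm2 : ⁅x, α x⁆ ≠ 1 := by
        intro h
        apply hcomm
        intro p q
        refine Subgroup.closure_induction₂ (p := fun p q _ _ => p * q = q * p) ?_
          (fun _ _ => by simp) (fun _ _ => by simp)
          (fun _ _ _ _ _ _ h₁ h₂ => (Commute.mul_left h₁ h₂).eq)
          (fun _ _ _ _ _ _ h₁ h₂ => (Commute.mul_right h₁ h₂).eq)
          (fun _ _ _ _ h => (Commute.inv_left h).eq) (fun _ _ _ _ h => (Commute.inv_right h).eq)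
          (htop.ge (mem_top p)) (htop.ge (mem_top q))
        rintro _ _ (rfl | rfl) (rfl | rfl)
        · rfl
        · exact commutatorElement_eq_one_iff_mul_comm.mp h
        · exact (commutatorElement_eq_one_iff_mul_comm.mp h).symm
        · rfl
      have hcc : ∀ g : T, g * ⁅x, α x⁆ = ⁅x, α x⁆ * g :=
        Subgroup.mem_center_iff.mp (hNc hcN)
      -- everything commutes modulo the commutator
      set c := ⁅x, α x⁆ with hc
      haveI : (zpowers c).Normal := normal_of_le_center (zpowers_le.mpr (hNc hcN))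
      have hsub : N ≤ zpowers c := by
        intro t ht
        have hle : commutator T ≤ zpowers c := by
          rw [_root_.commutator_def, Subgroup.commutator_le]
          intro p _ q _
          rw [← QuotientGroup.eq_one_iff]
          show QuotientGroup.mk' (zpowers c) ⁅p, q⁆ = 1
          rw [map_commutatorElement, commutatorElement_eq_one_iff_mul_comm]
          set ρ := QuotientGroup.mk' (zpowers c)
          refine Subgroup.closure_induction₂ (p := fun p q _ _ => ρ p * ρ q = ρ q * ρ p) ?_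
            (fun _ _ => by simp) (fun _ _ => by simp)
            (fun _ _ _ _ _ _ h₁ h₂ => by
              rw [map_mul]; exact (Commute.mul_left h₁ h₂).eq)
            (fun _ _ _ _ _ _ h₁ h₂ => by
              rw [map_mul]; exact (Commute.mul_right h₁ h₂).eq)
            (fun _ _ _ _ h => by rw [map_inv]; exact (Commute.inv_left h).eq)
            (fun _ _ _ _ h => by rw [map_inv]; exact (Commute.inv_right h).eq)
            (htop.ge (mem_top p)) (htop.ge (mem_top q))
          have hxy : ρ x * ρ (α x) = ρ (α x) * ρ x := by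
            rw [← commutatorElement_eq_one_iff_mul_comm, ← map_commutatorElement]
            exact (QuotientGroup.eq_one_iff _).mpr (mem_zpowers c)
          rintro _ _ (rfl | rfl) (rfl | rfl)
          · rfl
          · exact hxy
          · exact hxy.symm
          · rfl
        exact hle ht.1.1
      have hαN : α c ∈ N := hmapN.le (Subgroup.mem_map_of_mem _ hcN)
      have hαc : α c = c := by
        obtain ⟨k, hk⟩ := mem_zpowers_iff.mp (hsub hαN)
        rcases Int.even_or_odd k with ⟨m, rfl⟩ | ⟨m, rfl⟩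
        · rw [← two_mul, zpow_mul, zpow_ofNat, hcN.2, one_zpow] at hk
          exact absurd (α.injective (hk.symm.trans (map_one α).symm)) hcomm2
        · rw [zpow_add, zpow_one, zpow_mul, zpow_ofNat, hcN.2, one_zpow, one_mul] at hk
          exact hk.symm
      exact qShape_of_central hT α h3 hfpf hR hx htop hc hcomm2 hcN.2 hcc hαc
    · -- a quaternion quotient is impossible
      exfalso
      obtain ⟨z, hz1, hz2, hzc, hzP, hzsq⟩ := hq
      obtain ⟨x, hx⟩ : ∃ x : T, x ∉ P 2 (⊤ : Subgroup T) := by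
        by_contra hall
        push_neg at hall
        apply hcomm
        have hb := top_of_sup_sq hT (K := ⊥) (by
          rw [bot_sup_eq, ← top_le_iff]; exact fun g _ => hall g)
        intro p q
        rw [Subgroup.mem_bot.mp (hb.ge (mem_top p)), Subgroup.mem_bot.mp (hb.ge (mem_top q))]
      have htop := closure_image_top hT α hfpf ⟨u, v, huv⟩ hx
      have hax : α x ∉ P 2 (⊤ : Subgroup T) := fun h => hx (by simpa using map_mem_sq α⁻¹ h)
      have hxy : x * α x ∉ P 2 (⊤ : Subgroup T) := by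
        intro h
        apply hfpf x hx
        have e : x⁻¹ * α x = (x ^ 2)⁻¹ * (x * α x) := by simp [pow_two, mul_assoc]
        rw [e]
        exact mul_mem (inv_mem (sq_mem_sq x)) h
      set c := ⁅x, α x⁆ with hc
      have hq1 : ∀ t : T, t ∉ P 2 (⊤ : Subgroup T) → π (t ^ 2) = z := fun t ht => by
        rw [map_pow]; exact hzsq _ fun h => ht ((hmemP t).mp h)
      have hcz : π c = z := by
        have hzi : z⁻¹ = z := inv_eq_of_mul_eq_one_right (by rw [← sq]; exact hz2)
        have h1 := hq1 x hx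
        have h2 := hq1 _ hax
        have h3 := hq1 _ hxy
        rw [map_pow] at h1 h2
        rw [map_pow, map_mul] at h3
        have hx' : (π x)⁻¹ = π x * z := inv_eq_of_mul_eq_one_right (by
          rw [← mul_assoc, ← sq, h1, ← sq, hz2])
        have hy' : (π (α x))⁻¹ = π (α x) * z := inv_eq_of_mul_eq_one_right (by
          rw [← mul_assoc, ← sq, h2, ← sq, hz2])
        rw [hc, map_commutatorElement, commutatorElement_def, hx', hy']
        calc π x * π (α x) * (π x * z) * (π (α x) * z)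
            = π x * π (α x) * π x * (z * π (α x)) * z := by group
          _ = (π x * π (α x)) ^ 2 * (z * z) := by
            rw [← hzc (π (α x))]; simp [pow_two, mul_assoc]
          _ = z := by rw [h3, ← sq, hz2, mul_one]
      have hcsq : ∀ t : T, t ∉ P 2 (⊤ : Subgroup T) → Commute c t := by
        intro t ht
        obtain ⟨m, hm, he⟩ : ∃ m ∈ N, c = t ^ 2 * m := by
          refine ⟨(t ^ 2)⁻¹ * c, QuotientGroup.eq.mp ((hq1 t ht).trans hcz.symm), by group⟩
        rw [he]
        exact ((Commute.refl t).pow_left 2).mul_left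
          (show Commute m t from (Subgroup.mem_center_iff.mp (hNc hm) t).symm)
      have hcc : c ∈ center T := by
        refine Subgroup.mem_center_iff.mpr fun g => ?_
        refine Subgroup.closure_induction (p := fun g _ => g * c = c * g) ?_ (by simp)
          (fun _ _ _ _ h₁ h₂ => (Commute.mul_left h₁ h₂).eq)
          (fun _ _ h => (Commute.inv_left h).eq) (htop.ge (mem_top g))
        rintro g (rfl | rfl)
        · exact (hcsq _ hx).symm.eq
        · exact (hcsq _ hax).symm.eq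
      have hc2 : c ^ 2 = 1 := by
        obtain ⟨m, hm, he⟩ : ∃ m ∈ N, c = x ^ 2 * m :=
          ⟨(x ^ 2)⁻¹ * c, QuotientGroup.eq.mp ((hq1 x hx).trans hcz.symm), by group⟩
        have h := commutatorElement_pow_left (b := α x) (show ⁅x, α x⁆ ∈ center T from hcc) 2
        rw [← h, commutatorElement_eq_one_iff_mul_comm]
        have e : x ^ 2 = c * m⁻¹ := by rw [he]; group
        rw [e]
        exact ((hcsq _ hax).mul_left
          (show Commute m (α x) from (Subgroup.mem_center_iff.mp (hNc hm) _).symm).inv_left).eq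
      apply hz1
      rw [← hcz]
      exact (QuotientGroup.eq_one_iff _).mpr
        ⟨⟨Subgroup.commutator_mem_commutator (mem_top _) (mem_top _), hcc⟩, hc2⟩

end Cfsg.Agent.Bicyclic55
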