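import Mathlib
import Cfsg.Agent.Lib.Bicyclic55Basic
import Cfsg.Agent.Lib.Bicyclic55Gen
import Cfsg.Agent.Lib.Bicyclic55Essential

/-!
# A fusion forces a cyclic derived subgroup

A finite 2-group `⟨a⟩⟨b⟩` with a self-centralizing subgroup carrying an automorphism of order
three inverted from outside has a cyclic derived subgroup. Consequently a non-inner saturated
fusion system forces the derived subgroup to be cyclic.
-/

set_option autoImplicit false
set_option linter.style.haveILetI false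
set_option linter.unusedSectionVars false
set_option maxHeartbeats 600000

namespace Cfsg.Agent.Bicyclic55

open Cfsg Cfsg.Agent.HallAlperinPowers
open scoped commutatorElement

variable {G : Type*} [Group G] [Finite G]

/-! ### Counting in elementary quotients -/

theorem card_le_eight_of_three {Q : Type*} [Group Q] [Finite Q] (h : ∀ q : Q, q * q = 1)
    {x y z : Q} (hgen : Subgroup.closure ({x, y, z} : Set Q) = ⊤) : Nat.card Q ≤ 8 := by
  have hc : ∀ a b : Q, a * b = b * a := fun a b => by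
    calc a * b = (a * b)⁻¹ := (inv_eq_of_mul_eq_one_right (h _)).symm
      _ = b * a := by
        rw [mul_inv_rev, inv_eq_of_mul_eq_one_right (h b), inv_eq_of_mul_eq_one_right (h a)]
  let f : Bool × Bool × Bool → Q := fun e =>
    (if e.1 then x else 1) * (if e.2.1 then y else 1) * (if e.2.2 then z else 1)
  let W : Subgroup Q :=
    { carrier := Set.range f
      one_mem' := ⟨(false, false, false), by simp [f]⟩
      inv_mem' := fun {u} hu => by rwa [inv_eq_of_mul_eq_one_right (h u)]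
      mul_mem' := by
        rintro _ _ ⟨⟨e₁, e₂, e₃⟩, rfl⟩ ⟨⟨d₁, d₂, d₃⟩, rfl⟩
        refine ⟨(Bool.xor e₁ d₁, Bool.xor e₂ d₂, Bool.xor e₃ d₃), ?_⟩
        have hb : ∀ (u : Q) (e d : Bool), (if Bool.xor e d then u else 1) =
            (if e then u else 1) * (if d then u else 1) := by
          intro u e d
          cases e <;> cases d <;> simp [h]
        simp only [f]
        rw [hb, hb, hb]
        generalize (if e₁ then x else 1) = a₁
        generalize (if e₂ then y else 1) = a₂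
        generalize (if e₃ then z else 1) = a₃
        generalize (if d₁ then x else 1) = b₁
        generalize (if d₂ then y else 1) = b₂
        generalize (if d₃ then z else 1) = b₃
        letI : CommGroup Q := { (inferInstance : Group Q) with mul_comm := hc }
        simp only [mul_comm, mul_left_comm] }
  have htop : W = ⊤ := top_le_iff.mp (hgen ▸ (Subgroup.closure_le W).mpr (by
    rintro u (rfl | rfl | rfl)
    · exact ⟨(true, false, false), by simp [f]⟩
    · exact ⟨(false, true, false), by simp [f]⟩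
    · exact ⟨(false, false, true), by simp [f]⟩))
  have hs : Function.Surjective f := fun u => htop.ge (Subgroup.mem_top u)
  refine (Nat.card_le_card_of_surjective f hs).trans (le_of_eq ?_)
  simp

theorem card_le_four_of_two {Q : Type*} [Group Q] [Finite Q] (h : ∀ q : Q, q * q = 1)
    {x y : Q} (hgen : Subgroup.closure ({x, y} : Set Q) = ⊤) : Nat.card Q ≤ 4 := by
  classical
  haveI := Fintype.ofFinite Q
  have hc : ∀ a b : Q, a * b = b * a := fun a b => by
    calc a * b = (a * b)⁻¹ := (inv_eq_of_mul_eq_one_right (h _)).symm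
      _ = b * a := by
        rw [mul_inv_rev, inv_eq_of_mul_eq_one_right (h b), inv_eq_of_mul_eq_one_right (h a)]
  let W : Subgroup Q :=
    { carrier := {u | u = 1 ∨ u = x ∨ u = y ∨ u = x * y}
      one_mem' := Or.inl rfl
      inv_mem' := fun {u} hu => by rwa [inv_eq_of_mul_eq_one_right (h u)]
      mul_mem' := by
        have e1 : x * (x * y) = y := by rw [← mul_assoc, h, one_mul]
        have e2 : y * x = x * y := hc y x
        have e3 : y * (x * y) = x := by rw [← mul_assoc, e2, mul_assoc, h, mul_one]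
        have e4 : x * y * x = y := by rw [mul_assoc, e2, e1]
        have e5 : x * y * y = x := by rw [mul_assoc, h, mul_one]
        rintro a b (rfl | rfl | rfl | rfl) (rfl | rfl | rfl | rfl) <;>
          simp [h, e1, e2, e3, e4, e5] }
  have htop : W = ⊤ := top_le_iff.mp (hgen ▸ (Subgroup.closure_le W).mpr (by
    rintro u (rfl | rfl)
    · exact Or.inr (Or.inl rfl)
    · exact Or.inr (Or.inr (Or.inl rfl))))
  rw [Nat.card_eq_fintype_card]
  refine le_trans (Finset.card_le_card (t := {1, x, y, x * y}) fun u _ => ?_) Finset.card_le_four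
  have := htop.ge (Subgroup.mem_top u)
  change u = 1 ∨ u = x ∨ u = y ∨ u = x * y at this
  simpa using this

/-- An exponent two quotient of a two-generated subgroup has order at most four: three elements
pairwise commuting and squaring into `⟨z⟩` are dependent modulo `⟨z⟩`. -/
theorem three_dependent {H : Subgroup G} (hgen : ∀ K : Subgroup G, K ≤ H →
      ∃ h₁ h₂ : G, K = Subgroup.closure {h₁, h₂})
    {z x₁ x₂ x₃ : G} (hz : z ∈ H) (h₁ : x₁ ∈ H) (h₂ : x₂ ∈ H) (h₃ : x₃ ∈ H)
    (c₁ : Commute x₁ z) (c₂ : Commute x₂ z) (c₃ : Commute x₃ z)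
    (s₁ : x₁ ^ 2 ∈ Subgroup.zpowers z) (s₂ : x₂ ^ 2 ∈ Subgroup.zpowers z)
    (s₃ : x₃ ^ 2 ∈ Subgroup.zpowers z)
    (k₁₂ : ⁅x₁, x₂⁆ ∈ Subgroup.zpowers z) (k₁₃ : ⁅x₁, x₃⁆ ∈ Subgroup.zpowers z)
    (k₂₃ : ⁅x₂, x₃⁆ ∈ Subgroup.zpowers z) :
    x₁ ∈ Subgroup.zpowers z ∨ x₂ ∈ Subgroup.zpowers z ∨ x₃ ∈ Subgroup.zpowers z ∨
      x₁ * x₂ ∈ Subgroup.zpowers z ∨ x₁ * x₃ ∈ Subgroup.zpowers z ∨
      x₂ * x₃ ∈ Subgroup.zpowers z ∨ x₁ * x₂ * x₃ ∈ Subgroup.zpowers z := by
  classical
  set K := Subgroup.closure ({z, x₁, x₂, x₃} : Set G) with hK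
  have mz : z ∈ K := Subgroup.subset_closure (by simp)
  have m₁ : x₁ ∈ K := Subgroup.subset_closure (by simp)
  have m₂ : x₂ ∈ K := Subgroup.subset_closure (by simp)
  have m₃ : x₃ ∈ K := Subgroup.subset_closure (by simp)
  obtain ⟨g₁, g₂, hg⟩ := hgen K ((Subgroup.closure_le H).mpr (by
    simp [Set.insert_subset_iff, hz, h₁, h₂, h₃]))
  let Z : Subgroup K := Subgroup.zpowers ⟨z, mz⟩
  haveI hZn : Z.Normal := by
    refine PGroupsBasic.normal_of_le_center (Subgroup.zpowers_le.mpr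
      (Subgroup.mem_center_iff.mpr fun g => Subtype.ext ?_))
    show (g : G) * z = z * g
    have : K ≤ Subgroup.centralizer ({z} : Set G) := by
      rw [hK, Subgroup.closure_le]
      rintro u (rfl | rfl | rfl | rfl) <;>
        simp [Subgroup.mem_centralizer_singleton_iff, c₁.eq, c₂.eq, c₃.eq]
    exact Subgroup.mem_centralizer_singleton_iff.mp (this g.2)
  set π := QuotientGroup.mk' Z
  have hin : ∀ (g : G) (hg : g ∈ K), π ⟨g, hg⟩ = 1 ↔ g ∈ Subgroup.zpowers z := by
    intro g hg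
    refine (QuotientGroup.eq_one_iff _).trans ?_
    constructor
    · intro h
      obtain ⟨i, hi⟩ := Subgroup.mem_zpowers_iff.mp h
      exact ⟨i, by simpa using congrArg Subtype.val hi⟩
    · intro h
      obtain ⟨i, hi⟩ := Subgroup.mem_zpowers_iff.mp h
      exact ⟨i, Subtype.ext (by simpa using hi)⟩
  set q₁ := π ⟨x₁, m₁⟩
  set q₂ := π ⟨x₂, m₂⟩
  set q₃ := π ⟨x₃, m₃⟩
  have sq1 : q₁ * q₁ = 1 := by
    rw [← map_mul]; exact (hin _ (mul_mem m₁ m₁)).mpr (by rw [← sq]; exact s₁)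
  have sq2 : q₂ * q₂ = 1 := by
    rw [← map_mul]; exact (hin _ (mul_mem m₂ m₂)).mpr (by rw [← sq]; exact s₂)
  have sq3 : q₃ * q₃ = 1 := by
    rw [← map_mul]; exact (hin _ (mul_mem m₃ m₃)).mpr (by rw [← sq]; exact s₃)
  have hcm : ∀ {u v : G} (hu : u ∈ K) (hv : v ∈ K), ⁅u, v⁆ ∈ Subgroup.zpowers z →
      Commute (π ⟨u, hu⟩) (π ⟨v, hv⟩) := by
    intro u v hu hv h
    rw [← commutatorElement_eq_one_iff_commute, ← map_commutatorElement]
    have hmem : ⁅u, v⁆ ∈ K := by
      rw [commutatorElement_def]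
      exact mul_mem (mul_mem (mul_mem hu hv) (inv_mem hu)) (inv_mem hv)
    have e : (⁅(⟨u, hu⟩ : ↥K), (⟨v, hv⟩ : ↥K)⁆ : ↥K) = ⟨⁅u, v⁆, hmem⟩ := Subtype.ext (by
        simp [commutatorElement_def])
    rw [e]
    exact (hin _ hmem).mpr h
  have hgenQ : Subgroup.closure ({q₁, q₂, q₃} : Set (K ⧸ Z)) = ⊤ := by
    have hKtop : Subgroup.closure ({⟨z, mz⟩, ⟨x₁, m₁⟩, ⟨x₂, m₂⟩, ⟨x₃, m₃⟩} : Set K) = ⊤ := by
      refine Subgroup.map_injective K.subtype_injective ?_
      rw [MonoidHom.map_closure, ← MonoidHom.range_eq_map, Subgroup.range_subtype]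
      simp only [Set.image_insert_eq, Set.image_singleton]
      exact hK.symm
    have := congrArg (Subgroup.map π) hKtop
    rw [MonoidHom.map_closure, Subgroup.map_top_of_surjective π (QuotientGroup.mk'_surjective Z)]
      at this
    rw [← top_le_iff, ← this, Subgroup.closure_le]
    simp only [Set.image_insert_eq, Set.image_singleton]
    rintro u (rfl | rfl | rfl | rfl)
    · rw [show π ⟨z, mz⟩ = 1 from (hin _ _).mpr (Subgroup.mem_zpowers z)]
      exact one_mem _
    · exact Subgroup.subset_closure (by simp [q₁])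
    · exact Subgroup.subset_closure (by simp [q₂])
    · exact Subgroup.subset_closure (by simp [q₃])
  have hQc : ∀ u v : K ⧸ Z, u * v = v * u := by
    intro u v
    refine Subgroup.closure_induction₂ (p := fun u v _ _ => u * v = v * u) ?_
      (fun _ _ => by simp) (fun _ _ => by simp)
      (fun _ _ _ _ _ _ h₁ h₂ => (Commute.mul_left h₁ h₂).eq)
      (fun _ _ _ _ _ _ h₁ h₂ => (Commute.mul_right h₁ h₂).eq)
      (fun _ _ _ _ h => (Commute.inv_left h).eq) (fun _ _ _ _ h => (Commute.inv_right h).eq)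
      (hgenQ.ge (Subgroup.mem_top u)) (hgenQ.ge (Subgroup.mem_top v))
    have a := hcm m₁ m₂ k₁₂
    have b := hcm m₁ m₃ k₁₃
    have c := hcm m₂ m₃ k₂₃
    rintro _ _ (rfl | rfl | rfl) (rfl | rfl | rfl) <;>
      first | rfl | exact a.eq | exact a.eq.symm | exact b.eq | exact b.eq.symm | exact c.eq |
        exact c.eq.symm
  have hQ2 : ∀ u : K ⧸ Z, u * u = 1 := by
    intro u
    refine Subgroup.closure_induction (p := fun u _ => u * u = 1) ?_ (one_mul 1) ?_ ?_
      (hgenQ.ge (Subgroup.mem_top u))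
    · rintro _ (rfl | rfl | rfl) <;> assumption
    · intro u v _ _ hu hv
      rw [(show Commute v u from hQc v u).mul_mul_mul_comm, hu, hv, one_mul]
    · intro u _ hu
      rw [← mul_inv_rev, hu, inv_one]
  have h4 : Nat.card (K ⧸ Z) ≤ 4 := by
    have a₁ : g₁ ∈ K := hg ▸ mem_pair_left _ _
    have a₂ : g₂ ∈ K := hg ▸ mem_pair_right _ _
    refine card_le_four_of_two hQ2 (x := π ⟨g₁, a₁⟩) (y := π ⟨g₂, a₂⟩) ?_
    have hKtop : Subgroup.closure ({⟨g₁, a₁⟩, ⟨g₂, a₂⟩} : Set K) = ⊤ := by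
      refine Subgroup.map_injective K.subtype_injective ?_
      rw [MonoidHom.map_closure, ← MonoidHom.range_eq_map, Subgroup.range_subtype, Set.image_pair]
      exact hg.symm
    rw [← Set.image_pair, ← MonoidHom.map_closure, hKtop,
      Subgroup.map_top_of_surjective π (QuotientGroup.mk'_surjective Z)]
  by_contra hcon
  simp only [not_or] at hcon
  obtain ⟨n1, n2, n3, n12, n13, n23, n123⟩ := hcon
  have p1 : q₁ ≠ 1 := fun e => n1 ((hin _ _).mp e)
  have p2 : q₂ ≠ 1 := fun e => n2 ((hin _ _).mp e)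
  have p3 : q₃ ≠ 1 := fun e => n3 ((hin _ _).mp e)
  have p12 : q₁ * q₂ ≠ 1 := fun e => n12 ((hin _ (mul_mem m₁ m₂)).mp ((map_mul π _ _).trans e))
  have p13 : q₁ * q₃ ≠ 1 := fun e => n13 ((hin _ (mul_mem m₁ m₃)).mp ((map_mul π _ _).trans e))
  have p23 : q₂ * q₃ ≠ 1 := fun e => n23 ((hin _ (mul_mem m₂ m₃)).mp ((map_mul π _ _).trans e))
  have p123 : q₁ * q₂ * q₃ ≠ 1 := fun e => n123 ((hin _ (mul_mem (mul_mem m₁ m₂) m₃)).mp
    (by show π (⟨x₁, m₁⟩ * ⟨x₂, m₂⟩ * ⟨x₃, m₃⟩) = 1; rw [map_mul, map_mul]; exact e))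
  haveI := Fintype.ofFinite (K ⧸ Z)
  have hne : ∀ {u v : K ⧸ Z}, u * v ≠ 1 → u ≠ v := fun h e => h (e ▸ hQ2 _)
  have h5 : ({1, q₁, q₂, q₃, q₁ * q₂} : Finset (K ⧸ Z)).card = 5 := by
    have r1 : q₁ ≠ q₁ * q₂ := fun e => p2 (left_eq_mul.mp e)
    have r2 : q₂ ≠ q₁ * q₂ := fun e => p1 (right_eq_mul.mp e)
    have r3 : q₃ ≠ q₁ * q₂ := fun e => p123 (by rw [← e]; exact sq3)
    simp [p1.symm, p2.symm, p3.symm, p12.symm, hne p12, hne p13, hne p23, r1, r2, r3]
  have := Finset.card_le_univ ({1, q₁, q₂, q₃, q₁ * q₂} : Finset (K ⧸ Z))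
  rw [h5, ← Nat.card_eq_fintype_card] at this
  omega

/-- Three commuting involutions in such a subgroup are dependent. -/
theorem mem_four {H : Subgroup G} (hgen : ∀ K : Subgroup G, K ≤ H →
      ∃ h₁ h₂ : G, K = Subgroup.closure {h₁, h₂})
    {i j u : G} (hi : i ∈ H) (hj : j ∈ H) (hu : u ∈ H) (i2 : i ^ 2 = 1) (j2 : j ^ 2 = 1)
    (u2 : u ^ 2 = 1) (hij : Commute i j) (hiu : Commute i u) (hju : Commute j u)
    (i1 : i ≠ 1) (j1 : j ≠ 1) (ij : i ≠ j) : u = 1 ∨ u = i ∨ u = j ∨ u = i * j := by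
  have h := three_dependent hgen (z := 1) (one_mem H) hi hj hu (Commute.one_right _)
    (Commute.one_right _) (Commute.one_right _) (by rw [i2]; exact one_mem _)
    (by rw [j2]; exact one_mem _) (by rw [u2]; exact one_mem _)
    (by rw [commutatorElement_eq_one_iff_commute.mpr hij]; exact one_mem _)
    (by rw [commutatorElement_eq_one_iff_commute.mpr hiu]; exact one_mem _)
    (by rw [commutatorElement_eq_one_iff_commute.mpr hju]; exact one_mem _)
  simp only [Subgroup.zpowers_one_eq_bot, Subgroup.mem_bot] at h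
  have ii : i⁻¹ = i := inv_eq_of_mul_eq_one_right (by rw [← sq]; exact i2)
  have jj : j⁻¹ = j := inv_eq_of_mul_eq_one_right (by rw [← sq]; exact j2)
  rcases h with e | e | e | e | e | e | e
  · exact absurd e i1
  · exact absurd e j1
  · exact Or.inl e
  · exact absurd ((eq_inv_of_mul_eq_one_left e).trans jj) ij
  · exact Or.inr (Or.inl ((eq_inv_of_mul_eq_one_right e).trans ii))
  · exact Or.inr (Or.inr (Or.inl ((eq_inv_of_mul_eq_one_right e).trans jj)))
  · refine Or.inr (Or.inr (Or.inr ?_))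
    rw [eq_inv_of_mul_eq_one_right e, mul_inv_rev, ii, jj]
    exact hij.eq.symm

/-- A normal subgroup of order four is centralized by squares. -/
theorem sq_commute_of_four (hG : IsPGroup 2 G) {U : Subgroup G} [U.Normal] (h4 : Nat.card U = 4)
    {g : G} (hg : g ∈ P 2 (⊤ : Subgroup G)) {u : G} (hu : u ∈ U) : Commute g u := by
  classical
  haveI : Fact (Nat.Prime 2) := ⟨Nat.prime_two⟩
  have hne : U ≠ ⊥ := fun e => by rw [e, Subgroup.card_bot] at h4; omega
  obtain ⟨z, ⟨hzU, hzc⟩, hz1⟩ := (Subgroup.bot_or_exists_ne_one _).resolve_left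
    (PGroupsBasic.inf_center_ne_bot hG hne)
  have hle : P 2 (⊤ : Subgroup G) ≤ Subgroup.centralizer (U : Set G) := P_le_iff.mpr fun h _ => by
    rw [Subgroup.mem_centralizer_iff]
    intro v hv
    by_cases hcv : h * v * h⁻¹ = v
    · have c : Commute h v := mul_inv_eq_iff_eq_mul.mp hcv
      exact ((c.pow_left 2).eq).symm
    set v' := h * v * h⁻¹ with hv'
    have hv'U : v' ∈ U := ‹U.Normal›.conj_mem v hv h
    have hzh : h * z * h⁻¹ = z := by
      rw [Subgroup.mem_center_iff.mp hzc h, mul_inv_cancel_right]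
    have hv'' : h * v' * h⁻¹ ∈ U := ‹U.Normal›.conj_mem v' hv'U h
    have inj : ∀ {p q : G}, h * p * h⁻¹ = h * q * h⁻¹ → p = q := fun e =>
      mul_left_cancel (mul_right_cancel e)
    have n1 : v ≠ 1 := fun e => hcv (by rw [hv', e]; simp)
    have n2 : v' ≠ 1 := fun e => n1 (inj (by rw [← hv', e]; simp))
    have n3 : v ≠ z := fun e => hcv (by rw [hv', e, hzh])
    have n4 : v' ≠ z := fun e => n3 (inj (by rw [← hv', e, hzh]))
    haveI := Fintype.ofFinite U
    have hall : ∀ p ∈ U, p = 1 ∨ p = z ∨ p = v ∨ p = v' := by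
      intro p hp
      by_contra hno
      simp only [not_or] at hno
      obtain ⟨o1, o2, o3, o4⟩ := hno
      have h5 : ({1, z, v, v', p} : Finset G).card = 5 := by
        simp [Ne.symm hz1, Ne.symm n1, Ne.symm n2, Ne.symm o1, Ne.symm n3, Ne.symm n4,
          Ne.symm o2, Ne.symm hcv, Ne.symm o3, Ne.symm o4]
      have hsub : ({1, z, v, v', p} : Finset G) ⊆ (Finset.univ.map (Function.Embedding.subtype (· ∈ U)) :
          Finset G) := by
        intro t ht
        simp only [Finset.mem_insert, Finset.mem_singleton] at ht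
        simp only [Finset.mem_map, Finset.mem_univ, true_and, Function.Embedding.coe_subtype]
        rcases ht with e | e | e | e | e
        · exact ⟨⟨1, one_mem U⟩, e.symm⟩
        · exact ⟨⟨z, hzU⟩, e.symm⟩
        · exact ⟨⟨v, hv⟩, e.symm⟩
        · exact ⟨⟨v', hv'U⟩, e.symm⟩
        · exact ⟨⟨p, hp⟩, e.symm⟩
      have := Finset.card_le_card hsub
      rw [h5, Finset.card_map, Finset.card_univ, ← Nat.card_eq_fintype_card, h4] at this
      omega
    have e : h ^ 2 * v * (h ^ 2)⁻¹ = v := by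
      have e' : h ^ 2 * v * (h ^ 2)⁻¹ = h * v' * h⁻¹ := by simp [hv', pow_two, mul_assoc]
      rw [e']
      rcases hall _ hv'' with e1 | e1 | e1 | e1
      · exact absurd (inj (e1.trans (by simp : (1 : G) = h * 1 * h⁻¹))) n2
      · exact absurd (inj (e1.trans hzh.symm)) n4
      · exact e1
      · exact absurd (inj e1).symm (fun q => hcv (q ▸ rfl))
    exact (mul_inv_eq_iff_eq_mul.mp e).symm
  exact (Subgroup.mem_centralizer_iff.mp (hle hg) u hu).symm

/-- Square-subgroup elements of small order and central in it. -/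
theorem exists_central_four (hG : IsPGroup 2 G) {z : G} (hz : z ^ 2 = 1)
    (h4 : 4 ≤ Nat.card (P 2 (⊤ : Subgroup G))) :
    ∃ c ∈ P 2 (⊤ : Subgroup G), c ∉ Subgroup.zpowers z ∧
      (∀ g ∈ P 2 (⊤ : Subgroup G), Commute g c) ∧ c ^ 2 ∈ Subgroup.zpowers z := by
  haveI : Fact (Nat.Prime 2) := ⟨Nat.prime_two⟩
  haveI := normal_P (p := 2) (⊤ : Subgroup G)
  obtain ⟨M, hM, -, hMT, hMc⟩ := PGroupsBasic.exists_normal_succ hG (M := ⊥)
    (N := P 2 (⊤ : Subgroup G)) (bot_lt_iff_ne_bot.mpr fun e => by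
      rw [e, Subgroup.card_bot] at h4; omega)
  rw [Subgroup.card_bot, one_mul] at hMc
  haveI := hM
  obtain ⟨U, hU, hMU, hUT, hUc⟩ := PGroupsBasic.exists_normal_succ hG (M := M)
    (N := P 2 (⊤ : Subgroup G)) (lt_of_le_of_ne hMT fun e => by rw [← e, hMc] at h4; omega)
  rw [hMc] at hUc
  haveI := hU
  have hUc' : ∀ g ∈ P 2 (⊤ : Subgroup G), ∀ u ∈ U, Commute g u := fun g hg u hu =>
    sq_commute_of_four hG (by rw [hUc]) hg hu
  have hzsub : ∀ y ∈ Subgroup.zpowers z, y = 1 ∨ y = z := by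
    intro y hy
    obtain ⟨k, rfl⟩ := Subgroup.mem_zpowers_iff.mp hy
    rcases Int.even_or_odd k with ⟨m, rfl⟩ | ⟨m, rfl⟩
    · left; rw [← two_mul, zpow_mul, zpow_ofNat, hz, one_zpow]
    · right; rw [zpow_add, zpow_one, zpow_mul, zpow_ofNat, hz, one_zpow, one_mul]
  obtain ⟨m, hmM, hm1⟩ := (Subgroup.bot_or_exists_ne_one M).resolve_left fun e => by
    rw [e, Subgroup.card_bot] at hMc; omega
  have hMall : ∀ y ∈ M, y = 1 ∨ y = m := by
    intro y hy
    have hp : ∀ t ∈ M, t ≠ 1 → Subgroup.zpowers t = M := fun t ht ht1 => by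
      refine Subgroup.eq_of_le_of_card_ge (Subgroup.zpowers_le.mpr ht) ?_
      rw [hMc, Nat.card_zpowers,
        PGroupsBasic.orderOf_eq_of_pow_eq_one (p := 2) (PGroupsBasic.pow_eq_one_of_card hMc ht) ht1]
    have hm2 : m ^ 2 = 1 := PGroupsBasic.pow_eq_one_of_card hMc hmM
    obtain ⟨k, rfl⟩ := Subgroup.mem_zpowers_iff.mp ((hp m hmM hm1).ge hy)
    rcases Int.even_or_odd k with ⟨n, rfl⟩ | ⟨n, rfl⟩
    · left; rw [← two_mul, zpow_mul, zpow_ofNat, hm2, one_zpow]
    · right; rw [zpow_add, zpow_one, zpow_mul, zpow_ofNat, hm2, one_zpow, one_mul]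
  have hm2 : m ^ 2 = 1 := PGroupsBasic.pow_eq_one_of_card hMc hmM
  by_cases hmz : m = z
  · obtain ⟨c, hcU, hcM⟩ := SetLike.exists_of_lt (lt_of_le_of_ne hMU fun e => by
      rw [← e, hMc] at hUc; omega)
    refine ⟨c, hUT hcU, fun h => hcM ?_, fun g hg => hUc' g hg c hcU, ?_⟩
    · rcases hzsub c h with e | e
      · rw [e]; exact one_mem M
      · rw [e, ← hmz]; exact hmM
    · have : c ^ 2 ∈ M := by
        have hrel : (M.subgroupOf U).index = 2 := by
          have h := Subgroup.relIndex_mul_relIndex ⊥ M U bot_le hMU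
          rw [Subgroup.relIndex_bot_left, Subgroup.relIndex_bot_left, hMc, hUc] at h
          show M.relIndex U = 2
          omega
        exact Subgroup.sq_mem_of_index_two hrel ⟨c, hcU⟩
      rcases hMall _ this with e | e
      · rw [e]; exact one_mem _
      · rw [e, hmz]; exact Subgroup.mem_zpowers z
  · refine ⟨m, hMT hmM, fun h => ?_, fun g hg => hUc' g hg m (hMU hmM), ?_⟩
    · rcases hzsub m h with e | e
      · exact hm1 e
      · exact hmz e
    · rw [hm2]; exact one_mem _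

/-- A four-subgroup of the square subgroup is central in it. -/
theorem four_central (hG : IsPGroup 2 G) (hR : ∀ K : Subgroup G, K ≤ P 2 ⊤ →
      ∃ h₁ h₂ : G, K = Subgroup.closure {h₁, h₂})
    {i j : G} (hi : i ∈ P 2 (⊤ : Subgroup G)) (hj : j ∈ P 2 (⊤ : Subgroup G)) (i2 : i ^ 2 = 1)
    (j2 : j ^ 2 = 1) (hij : Commute i j) (i1 : i ≠ 1) (j1 : j ≠ 1) (hne : i ≠ j) :
    ∀ g ∈ P 2 (⊤ : Subgroup G), Commute g i := by
  haveI : Fact (Nat.Prime 2) := ⟨Nat.prime_two⟩
  haveI := normal_P (p := 2) (⊤ : Subgroup G)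
  classical
  have h4 : 4 ≤ Nat.card (P 2 (⊤ : Subgroup G)) := by
    haveI := Fintype.ofFinite (P 2 (⊤ : Subgroup G))
    have h : ({1, ⟨i, hi⟩, ⟨j, hj⟩, ⟨i * j, mul_mem hi hj⟩} :
        Finset (P 2 (⊤ : Subgroup G))).card = 4 := by
      have n1 : i * j ≠ 1 := fun e => hne ((eq_inv_of_mul_eq_one_left e).trans
        (inv_eq_of_mul_eq_one_right (by rw [← sq]; exact j2)))
      simp [Subtype.ext_iff, Ne.symm i1, Ne.symm j1, Ne.symm n1, hne, i1, j1]
    rw [Nat.card_eq_fintype_card, ← h]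
    exact Finset.card_le_univ _
  -- a central involution of the square subgroup inside `{i, j, i * j}`
  obtain ⟨z, hzT, hz2, hz1, hzc⟩ : ∃ z ∈ P 2 (⊤ : Subgroup G), z ^ 2 = 1 ∧ z ≠ 1 ∧
      ∀ g ∈ P 2 (⊤ : Subgroup G), Commute g z := by
    have hne' : P 2 (⊤ : Subgroup G) ≠ ⊥ := fun e => i1 (Subgroup.mem_bot.mp (e ▸ hi))
    obtain ⟨z, ⟨hzT, hzC⟩, hzo⟩ : ∃ z, z ∈ P 2 (⊤ : Subgroup G) ⊓ Subgroup.center G ∧ orderOf z = 2 :=
      PGroupsBasic.exists_orderOf_eq_of_ne_bot (p := 2) (hG.to_subgroup _)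
        (PGroupsBasic.inf_center_ne_bot hG hne')
    exact ⟨z, hzT, by rw [← hzo]; exact pow_orderOf_eq_one z,
      fun e => by rw [e, orderOf_one] at hzo; omega, fun g _ => Subgroup.mem_center_iff.mp hzC g⟩
  obtain ⟨s, hsT, hsz, hsc, hs2'⟩ := exists_central_four hG hz2 h4
  have hzW := mem_four hR hi hj hzT i2 j2 hz2 hij (hzc i hi) (hzc j hj) i1 j1 hne
  by_cases hse : s ^ 2 = 1
  · -- then `⟨z, s⟩` is central and equals `⟨i, j⟩`
    have hzs : z ≠ s := fun e => hsz (e ▸ Subgroup.mem_zpowers z)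
    have hs1 : s ≠ 1 := fun e => hsz (e ▸ one_mem _)
    intro g hg
    rcases mem_four hR hzT hsT hi hz2 hse i2 (hzc s hsT).symm (hzc i hi).symm (hsc i hi).symm
      hz1 hs1 hzs with e | e | e | e <;> rw [e]
    · exact Commute.one_right g
    · exact hzc g hg
    · exact hsc g hg
    · exact (hzc g hg).mul_right (hsc g hg)
  have hsz2 : s ^ 2 = z := by
    obtain ⟨k, hk⟩ := Subgroup.mem_zpowers_iff.mp hs2'
    rcases Int.even_or_odd k with ⟨n, rfl⟩ | ⟨n, rfl⟩
    · rw [← two_mul, zpow_mul, zpow_ofNat, hz2, one_zpow] at hk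
      exact absurd hk.symm hse
    · rw [zpow_add, zpow_one, zpow_mul, zpow_ofNat, hz2, one_zpow, one_mul] at hk
      exact hk.symm
  -- involutions of the square subgroup commute
  have hcomm : ∀ u ∈ P 2 (⊤ : Subgroup G), ∀ v ∈ P 2 (⊤ : Subgroup G), u ^ 2 = 1 → v ^ 2 = 1 →
      Commute u v := by
    intro u hu v hv u2 v2
    by_contra huv
    have uu : u⁻¹ = u := inv_eq_of_mul_eq_one_right (by rw [← sq]; exact u2)
    have vv : v⁻¹ = v := inv_eq_of_mul_eq_one_right (by rw [← sq]; exact v2)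
    have u1 : u ≠ 1 := fun e => huv (by rw [e]; exact Commute.one_left v)
    have huz : u ≠ z := fun e => huv (e ▸ (hzc v hv).symm)
    set r := u * v with hr
    have hconj : ∀ k : ℕ, u * r ^ k * u⁻¹ = (r ^ k)⁻¹ := fun k => by
      rw [← conj_pow, ← inv_pow]
      congr 1
      rw [hr, mul_inv_rev, uu, vv, ← mul_assoc u u v, ← sq, u2, one_mul]
    obtain ⟨m, hm⟩ := hG r
    obtain ⟨e, -, he⟩ := (Nat.dvd_prime_pow Nat.prime_two).mp (orderOf_dvd_of_pow_eq_one hm)
    obtain _ | _ | e := e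
    · exact huv (by
        have e1 : r = 1 := orderOf_eq_one_iff.mp (by rw [he, pow_zero])
        rw [eq_inv_of_mul_eq_one_right e1]
        exact (Commute.refl u).inv_right)
    · apply huv
      have e1 : r ^ 2 = 1 := by rw [← pow_one 2, ← he]; exact pow_orderOf_eq_one r
      have e2 : r⁻¹ = r := inv_eq_of_mul_eq_one_right (by rw [← sq]; exact e1)
      rw [hr, mul_inv_rev, uu, vv] at e2
      exact e2.symm
    set c := r ^ 2 ^ (e + 1)
    set ρ := r ^ 2 ^ e
    have hρ2 : ρ ^ 2 = c := by rw [← pow_mul, ← pow_succ]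
    have hrT : r ∈ P 2 (⊤ : Subgroup G) := mul_mem hu hv
    have hc2 : c ^ 2 = 1 := by rw [← pow_mul, ← pow_succ, ← he, pow_orderOf_eq_one]
    have hc1 : c ≠ 1 := fun h => by
      have h' := Nat.le_of_dvd (by positivity) (he ▸ orderOf_dvd_of_pow_eq_one h)
      rw [pow_succ _ (e + 1)] at h'
      have : 0 < 2 ^ (e + 1) := by positivity
      omega
    have hcu : Commute u c := by
      have h := hconj (2 ^ (e + 1))
      rw [inv_eq_of_mul_eq_one_right (show c * c = 1 by rw [← sq]; exact hc2)] at h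
      exact mul_inv_eq_iff_eq_mul.mp h
    have hcv : Commute v c := by
      have hv' : v = u * r := by rw [hr, ← mul_assoc, ← sq, u2, one_mul]
      rw [hv']
      exact hcu.mul_left (Commute.self_pow r _)
    have hcz : c = z := by
      have hcT : c ∈ P 2 (⊤ : Subgroup G) := pow_mem hrT _
      rcases mem_four hR hu hzT hcT u2 hz2 hc2 (hzc u hu) hcu
        (hzc c hcT).symm u1 hz1 huz with e1 | e1 | e1 | e1
      · exact absurd e1 hc1
      · exact absurd (e1 ▸ hcv).symm huv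
      · exact e1
      · exfalso
        apply huv
        have : u = c * z := by
          rw [e1, mul_assoc, ← sq, hz2, mul_one]
        rw [this]
        exact (hcv.symm).mul_left (hzc v hv).symm
    have hρT : ρ ∈ P 2 (⊤ : Subgroup G) := pow_mem hrT _
    have hρu : u * ρ * u⁻¹ = ρ⁻¹ := hconj _
    have hnc : ¬ Commute u ρ := by
      intro h
      have e1 : ρ⁻¹ = ρ := by rw [← hρu, h.eq, mul_inv_cancel_right]
      apply hc1
      rw [← hρ2, sq]
      nth_rewrite 1 [← e1]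
      exact inv_mul_cancel ρ
    have hd := three_dependent hR hzT hu hρT hsT (hzc u hu) (hzc ρ hρT) (hzc s hsT)
      (by rw [u2]; exact one_mem _) (by rw [hρ2, hcz]; exact Subgroup.mem_zpowers z)
      (by rw [hsz2]; exact Subgroup.mem_zpowers z)
      (by
        rw [commutatorElement_def, hρu, ← mul_inv_rev, ← sq, hρ2, hcz]
        exact inv_mem (Subgroup.mem_zpowers z))
      (by rw [commutatorElement_eq_one_iff_commute.mpr (hsc u hu)]; exact one_mem _)
      (by rw [commutatorElement_eq_one_iff_commute.mpr (hsc ρ hρT)]; exact one_mem _)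
    have hzc' : ∀ y ∈ Subgroup.zpowers z, ∀ w ∈ P 2 (⊤ : Subgroup G), Commute w y := by
      intro y hy w hw
      obtain ⟨k, rfl⟩ := Subgroup.mem_zpowers_iff.mp hy
      exact (hzc w hw).zpow_right k
    rcases hd with e1 | e1 | e1 | e1 | e1 | e1 | e1
    · exact huv (hzc' u e1 v hv).symm
    · exact hnc (hzc' ρ e1 u hu)
    · exact hsz e1
    · have e2 : ρ = u⁻¹ * (u * ρ) := by group
      apply hnc
      rw [e2]
      exact (Commute.refl u).inv_right.mul_right (hzc' _ e1 u hu)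
    · have e2 : u = (u * s) * s⁻¹ := by group
      apply huv
      rw [e2]
      exact ((hzc' _ e1 v hv).symm).mul_left (hsc v hv).symm.inv_left
    · have e2 : ρ = (ρ * s) * s⁻¹ := by group
      apply hnc
      rw [e2]
      exact (hzc' _ e1 u hu).mul_right (hsc u hu).inv_right
    · have e2 : ρ = u⁻¹ * ((u * ρ * s) * s⁻¹) := by group
      apply hnc
      rw [e2]
      exact (Commute.refl u).inv_right.mul_right
        ((hzc' _ e1 u hu).mul_right (hsc u hu).inv_right)
  -- all involutions lie in the four-group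
  have hall : ∀ u ∈ P 2 (⊤ : Subgroup G), u ^ 2 = 1 → u = 1 ∨ u = i ∨ u = j ∨ u = i * j :=
    fun u hu u2 => mem_four hR hi hj hu i2 j2 u2 hij (hcomm i hi u hu i2 u2)
      (hcomm j hj u hu j2 u2) i1 j1 hne
  let U : Subgroup G :=
    { carrier := {u | u ∈ P 2 (⊤ : Subgroup G) ∧ u ^ 2 = 1}
      one_mem' := ⟨one_mem _, one_pow 2⟩
      mul_mem' := fun {u v} hu hv => ⟨mul_mem hu.1 hv.1, by
        rw [(hcomm u hu.1 v hv.1 hu.2 hv.2).mul_pow, hu.2, hv.2, one_mul]⟩
      inv_mem' := fun {u} hu => ⟨inv_mem hu.1, by rw [inv_pow, hu.2, inv_one]⟩ }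
  haveI : U.Normal := ⟨fun u hu g => ⟨(normal_P (p := 2) (⊤ : Subgroup G)).conj_mem u hu.1 g, by
    rw [conj_pow, hu.2, mul_one, mul_inv_cancel]⟩⟩
  have hU4 : Nat.card U = 4 := by
    have hij' : i * j ∈ P 2 (⊤ : Subgroup G) := mul_mem hi hj
    have hij2 : (i * j) ^ 2 = 1 := by rw [hij.mul_pow, i2, j2, one_mul]
    have n1 : i * j ≠ 1 := fun e => hne ((eq_inv_of_mul_eq_one_left e).trans
      (inv_eq_of_mul_eq_one_right (by rw [← sq]; exact j2)))
    haveI := Fintype.ofFinite U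
    rw [Nat.card_eq_fintype_card]
    have hset : (Finset.univ : Finset U) =
        {1, ⟨i, hi, i2⟩, ⟨j, hj, j2⟩, ⟨i * j, hij', hij2⟩} := by
      refine (Finset.eq_univ_of_forall fun u => ?_).symm
      simp only [Finset.mem_insert, Finset.mem_singleton]
      rcases hall u u.2.1 u.2.2 with e | e | e | e
      · exact Or.inl (Subtype.ext e)
      · exact Or.inr (Or.inl (Subtype.ext e))
      · exact Or.inr (Or.inr (Or.inl (Subtype.ext e)))
      · exact Or.inr (Or.inr (Or.inr (Subtype.ext e)))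
    rw [← Finset.card_univ, hset]
    simp [Subtype.ext_iff, Ne.symm i1, Ne.symm j1, Ne.symm n1, hne, i1, j1]
  exact fun g hg => sq_commute_of_four hG hU4 hg ⟨hi, i2⟩

/-- A subgroup other than the whole group has index at most eight over its squares. -/
theorem index_sq_le (hG : IsPGroup 2 G) {a b : G} (hbi : Bi a b) {H : Subgroup G} (hH : H ≠ ⊤) :
    (P 2 (⊤ : Subgroup H)).index ≤ 8 := by
  haveI := normal_P (p := 2) (⊤ : Subgroup G)
  haveI := normal_P (p := 2) (⊤ : Subgroup H)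
  obtain ⟨h₁, h₂, hh⟩ := two_generated G hG a b hbi (H ⊓ P 2 ⊤) inf_le_right
  obtain ⟨h₃, h3H, h3⟩ : ∃ h₃ ∈ H, ∀ h ∈ H, h ∈ P 2 (⊤ : Subgroup G) ∨
      h₃⁻¹ * h ∈ P 2 (⊤ : Subgroup G) := by
    by_cases hs : H ≤ P 2 ⊤
    · exact ⟨1, one_mem H, fun h hh' => Or.inl (hs hh')⟩
    obtain ⟨h₃, h3H, h3n⟩ : ∃ h₃, h₃ ∈ H ∧ h₃ ∉ P 2 (⊤ : Subgroup G) := Set.not_subset.mp hs
    refine ⟨h₃, h3H, fun h hh' => ?_⟩
    by_contra hcon
    rw [not_or] at hcon
    refine hH (top_le_iff.mp ?_)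
    rw [← gen_of_indep hG hbi h3n hcon.1 hcon.2, Subgroup.closure_le, Set.insert_subset_iff,
      Set.singleton_subset_iff]
    exact ⟨h3H, hh'⟩
  have m₁ : h₁ ∈ H ⊓ P 2 (⊤ : Subgroup G) := hh ▸ mem_pair_left _ _
  have m₂ : h₂ ∈ H ⊓ P 2 (⊤ : Subgroup G) := hh ▸ mem_pair_right _ _
  set π := QuotientGroup.mk' (P 2 (⊤ : Subgroup H))
  rw [Subgroup.index]
  refine card_le_eight_of_three (fun q => ?_) (x := π ⟨h₁, m₁.1⟩) (y := π ⟨h₂, m₂.1⟩)
    (z := π ⟨h₃, h3H⟩) ?_
  · obtain ⟨g, rfl⟩ := QuotientGroup.mk'_surjective _ q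
    rw [← map_mul, ← sq]
    exact (QuotientGroup.eq_one_iff _).mpr (sq_mem_sq g)
  · rw [← top_le_iff, ← Subgroup.map_top_of_surjective π (QuotientGroup.mk'_surjective _)]
    have hC : Subgroup.closure ({⟨h₁, m₁.1⟩, ⟨h₂, m₂.1⟩, ⟨h₃, h3H⟩} : Set H) = ⊤ := by
      refine Subgroup.map_injective H.subtype_injective (le_antisymm (Subgroup.map_mono le_top) ?_)
      rw [← MonoidHom.range_eq_map, Subgroup.range_subtype, MonoidHom.map_closure]
      simp only [Set.image_insert_eq, Set.image_singleton, Subgroup.coe_subtype]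
      intro h hh'
      have hsub : H ⊓ P 2 (⊤ : Subgroup G) ≤ Subgroup.closure {h₁, h₂, h₃} := by
        rw [hh]; exact Subgroup.closure_mono (by simp [Set.insert_subset_iff])
      rcases h3 h hh' with e | e
      · exact hsub ⟨hh', e⟩
      · have e' : h = h₃ * (h₃⁻¹ * h) := by group
        rw [e']
        exact mul_mem (Subgroup.subset_closure (by simp))
          (hsub ⟨H.mul_mem (H.inv_mem h3H) hh', e⟩)
    rw [← congrArg (Subgroup.map π) hC, MonoidHom.map_closure]
    simp only [Set.image_insert_eq, Set.image_singleton]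
    exact le_rfl

/-- A 2-group acting on a group of order four compatibly with a fixed-point-free automorphism
acts trivially. -/
theorem act_trivial {K : Type*} [Group K] [Finite K] (hK : IsPGroup 2 K) {Q : Type*} [Group Q]
    [Finite Q] (hQ4 : Nat.card Q = 4) (φ : K →* MulAut Q) (β : MulAut Q)
    (hβ : ∀ q, β q = q → q = 1) (hcomp : ∀ k, ∃ k', ∀ q, φ k (β q) = β (φ k' q))
    (hsq : ∀ q : Q, q * q = 1) (k : K) (q : Q) : φ k q = q := by
  classical
  haveI : Fact (Nat.Prime 2) := ⟨Nat.prime_two⟩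
  letI : MulAction K Q := MulAction.compHom Q φ
  have hmod := hK.card_modEq_card_fixedPoints Q
  have hone : (1 : Q) ∈ MulAction.fixedPoints K Q := fun k => map_one (φ k)
  obtain ⟨q₀, hq₀, hq₀'⟩ : ∃ q₀ : Q, q₀ ≠ 1 ∧ ∀ k, φ k q₀ = q₀ := by
    by_contra hno
    push Not at hno
    have : MulAction.fixedPoints K Q = {1} := by
      refine Set.eq_singleton_iff_unique_mem.mpr ⟨hone, fun q hq => ?_⟩
      by_contra h
      obtain ⟨k, hk⟩ := hno q h
      exact hk (hq k)
    rw [hQ4, this] at hmod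
    unfold Nat.ModEq at hmod
    simp at hmod
  have hβ0 : ∀ k, φ k (β q₀) = β q₀ := fun k => by
    obtain ⟨k', hk'⟩ := hcomp k
    rw [hk', hq₀']
  haveI := Fintype.ofFinite Q
  have n1 : β q₀ ≠ 1 := fun e => hq₀ (β.injective (e.trans (map_one β).symm))
  have n2 : β q₀ ≠ q₀ := fun e => hq₀ (hβ _ e)
  have n3 : q₀ * β q₀ ≠ 1 := fun e => n2 ((eq_inv_of_mul_eq_one_right e).trans
    (inv_eq_of_mul_eq_one_right (hsq q₀)))
  have huniv : ({1, q₀, β q₀, q₀ * β q₀} : Finset Q) = Finset.univ := by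
    refine Finset.eq_univ_of_card _ ?_
    rw [← Nat.card_eq_fintype_card, hQ4]
    have n4 : q₀ ≠ q₀ * β q₀ := fun e => n1 (left_eq_mul.mp e)
    have n5 : β q₀ ≠ q₀ * β q₀ := fun e => hq₀ (right_eq_mul.mp e)
    simp [Ne.symm hq₀, Ne.symm n1, Ne.symm n3, Ne.symm n2, n4, n5]
  have hm := huniv.ge (Finset.mem_univ q)
  simp only [Finset.mem_insert, Finset.mem_singleton] at hm
  rcases hm with e | e | e | e <;> rw [e]
  · exact map_one _
  · exact hq₀' k
  · exact hβ0 k
  · rw [map_mul, hq₀', hβ0]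

/-- A proper subgroup of a subgroup is moved less than its normalizer. -/
theorem exists_normalizing (hG : IsPGroup 2 G) {E H : Subgroup G} (h : E < H) :
    ∃ g ∈ H, g ∉ E ∧ g ∈ Subgroup.normalizer (E : Set G) := by
  haveI : Fact (Nat.Prime 2) := ⟨Nat.prime_two⟩
  have hne : E.subgroupOf H ≠ ⊤ := fun e => h.not_ge (Subgroup.subgroupOf_eq_top.mp e)
  obtain ⟨⟨g, hgH⟩, hgn, hgE⟩ := SetLike.exists_of_lt
    (PGroupsBasic.lt_normalizer (hG.to_subgroup H) hne)
  refine ⟨g, hgH, hgE, Subgroup.mem_normalizer_iff.mpr fun x => ?_⟩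
  constructor
  · intro hx
    exact (Subgroup.mem_normalizer_iff.mp hgn ⟨x, h.le hx⟩).mp hx
  · intro hx
    have hxH : x ∈ H := by
      have e : x = g⁻¹ * (g * x * g⁻¹) * g := by group
      rw [e]
      exact mul_mem (mul_mem (inv_mem hgH) (h.le hx)) hgH
    exact (Subgroup.mem_normalizer_iff.mp hgn ⟨x, hxH⟩).mpr hx

end Cfsg.Agent.Bicyclic55
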