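import Mathlib
import Cfsg.Agent.Lib.Bicyclic55Forward

/-!
# The small configuration

`a` outside the square subgroup and `q` in the derived subgroup with common square, moved into
each other's coset by an element outside a self-centralizing subgroup: the derived subgroup is
cyclic.
-/

set_option autoImplicit false
set_option linter.style.haveILetI false
set_option linter.unusedSectionVars false
set_option maxHeartbeats 1000000

namespace Cfsg.Agent.Bicyclic55

open Cfsg Cfsg.Agent.HallAlperinPowers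
open scoped commutatorElement

variable {G : Type*} [Group G] [Finite G]

/-- An abelian 2-subgroup with at most one involution is cyclic. -/
theorem isCyclic_of_involutions (hG : IsPGroup 2 G) {A : Subgroup G}
    (hA : ∀ x ∈ A, ∀ y ∈ A, x * y = y * x) {c : G}
    (h : ∀ u ∈ A, u ^ 2 = 1 → u = 1 ∨ u = c) : IsCyclic A := by
  classical
  haveI : Fact (Nat.Prime 2) := ⟨Nat.prime_two⟩
  have hAc : ∀ x y : A, Commute x y := fun x y => Subtype.ext (hA x x.2 y y.2)
  let f : A →* A := MonoidHom.mk' (fun x => x ^ 2) fun x y => (hAc x y).mul_pow 2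
  have hker : Nat.card f.ker ≤ 2 := by
    haveI := Fintype.ofFinite f.ker
    rw [Nat.card_eq_fintype_card, ← Finset.card_univ]
    refine le_trans (Finset.card_le_card_of_injOn (t := ({1, c} : Finset G))
      (fun u : f.ker => ((u : A) : G)) (fun u _ => ?_) fun u _ v _ e => ?_) Finset.card_le_two
    · have hu : (u : A) ^ 2 = 1 := u.2
      rcases h _ (u : A).2 (by simpa using congrArg Subtype.val hu) with e | e <;> simp [e]
    · exact Subtype.ext (Subtype.ext e)
  have hidx : f.range.index ≤ 2 := by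
    have h1 := Subgroup.card_mul_index f.range
    have h2 := Subgroup.card_mul_index f.ker
    rw [Subgroup.index_ker] at h2
    have : 0 < Nat.card f.range := Nat.card_pos
    nlinarith
  have hsq : f.range ≤ P 2 (⊤ : Subgroup A) := by rintro _ ⟨x, rfl⟩; exact sq_mem_sq x
  obtain ⟨v, hv⟩ : ∃ v : A, ∀ x : A, x ∈ f.range ∨ v⁻¹ * x ∈ f.range := by
    by_cases he : f.range = ⊤
    · exact ⟨1, fun x => Or.inl (he ▸ Subgroup.mem_top x)⟩
    have h2 : f.range.index = 2 := by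
      have h0 := Subgroup.index_ne_zero_of_finite (H := f.range)
      have h1 : f.range.index ≠ 1 := fun e => he (Subgroup.index_eq_one.mp e)
      omega
    obtain ⟨v, -, hv⟩ := SetLike.exists_of_lt (lt_top_iff_ne_top.mpr he)
    refine ⟨v, fun x => ?_⟩
    by_cases hx : x ∈ f.range
    · exact Or.inl hx
    · exact Or.inr ((Subgroup.mul_mem_iff_of_index_two h2).mpr
        (iff_of_false (fun h => hv (inv_mem_iff.mp h)) hx))
  have htop : Subgroup.zpowers v = ⊤ := top_of_sup_sq (hG.to_subgroup A) (top_le_iff.mp fun x _ => by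
    rcases hv x with hx | hx
    · exact Subgroup.mem_sup_right (hsq hx)
    · have e : x = v * (v⁻¹ * x) := by group
      rw [e]
      exact mul_mem (Subgroup.mem_sup_left (Subgroup.mem_zpowers v))
        (Subgroup.mem_sup_right (hsq hx)))
  exact isCyclic_iff_exists_zpowers_eq_top.mpr ⟨v, htop⟩

/-- The commutator of two generators generates the derived subgroup normally. -/
theorem commutator_le_of_gen {a x : G} (hgen : Subgroup.closure {a, x} = ⊤) {N : Subgroup G}
    [N.Normal] (h : a⁻¹ * x⁻¹ * a * x ∈ N) : commutator G ≤ N := by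
  set π := QuotientGroup.mk' N
  have hax : Commute (π a) (π x) := by
    have e : π (a * x) = π (x * a) := by
      refine (QuotientGroup.eq.mpr ?_).symm
      have : (x * a)⁻¹ * (a * x) = a⁻¹ * x⁻¹ * a * x := by group
      rw [this]; exact h
    rw [map_mul, map_mul] at e
    exact e
  rw [_root_.commutator_def, Subgroup.commutator_le]
  intro p _ q _
  rw [← QuotientGroup.eq_one_iff]
  show π ⁅p, q⁆ = 1
  rw [map_commutatorElement, commutatorElement_eq_one_iff_commute]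
  refine Subgroup.closure_induction₂ (p := fun p q _ _ => Commute (π p) (π q)) ?_
    (fun _ _ => by simp) (fun _ _ => by simp)
    (fun _ _ _ _ _ _ h₁ h₂ => by rw [map_mul]; exact Commute.mul_left h₁ h₂)
    (fun _ _ _ _ _ _ h₁ h₂ => by rw [map_mul]; exact Commute.mul_right h₁ h₂)
    (fun _ _ _ _ h => by rw [map_inv]; exact Commute.inv_left h)
    (fun _ _ _ _ h => by rw [map_inv]; exact Commute.inv_right h)
    (hgen.ge (Subgroup.mem_top p)) (hgen.ge (Subgroup.mem_top q))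
  rintro _ _ (rfl | rfl) (rfl | rfl)
  · exact Commute.refl _
  · exact hax
  · exact hax.symm
  · exact Commute.refl _

/-- Commuting generators give a trivial derived subgroup. -/
theorem cyclic_of_commute {a x : G} (hgen : Subgroup.closure {a, x} = ⊤) (h : Commute a x) :
    IsCyclic (commutator G) := by
  have hle : commutator G ≤ ⊥ := commutator_le_of_gen hgen (Subgroup.mem_bot.mpr (by
    rw [mul_assoc, h.eq]; group))
  rw [le_bot_iff.mp hle]
  infer_instance

/-- The small configuration forces a cyclic derived subgroup. -/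
theorem small_case (hG : IsPGroup 2 G) {a₀ b₀ : G} (hbi : Bi a₀ b₀) (E : Subgroup G) (τ : G)
    (hτ : τ ∉ E) (hN : ∀ g ∈ Subgroup.normalizer (E : Set G), g ∈ E ∨ τ⁻¹ * g ∈ E)
    (hC : Subgroup.centralizer (E : Set G) ≤ E) {a q z : G} (ha : a ∉ P 2 (⊤ : Subgroup G))
    (haE : a ∈ E) (hqE : q ∈ E) (ha2 : a ^ 2 = z) (hq2 : q ^ 2 = z) (hz2 : z ^ 2 = 1)
    (hconj : a⁻¹ * q * a = q⁻¹) (hqV : q ∈ commutator G) (hq1 : q ≠ 1 ∧ q ≠ z)
    (hcos : ∀ e ∈ E, e * a * e⁻¹ = a ∨ e * a * e⁻¹ = a * z)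
    (hτa : τ * a * τ⁻¹ = a * q) (hτz : τ * z * τ⁻¹ = z) : IsCyclic (commutator G) := by
  classical
  haveI : Fact (Nat.Prime 2) := ⟨Nat.prime_two⟩
  haveI := normal_P (p := 2) (⊤ : Subgroup G)
  by_contra hncyc
  set V := commutator G with hV
  have hVc : ∀ u ∈ V, ∀ v ∈ V, Commute u v := fun u hu v hv => commutator_commute hbi u hu v hv
  have hVΦ : V ≤ P 2 (⊤ : Subgroup G) := commutator_le_sq
  have hVR : ∀ K : Subgroup G, K ≤ P 2 ⊤ → ∃ h₁ h₂ : G, K = Subgroup.closure {h₁, h₂} :=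
    two_generated G hG a₀ b₀ hbi
  have hzi : z⁻¹ = z := inv_eq_of_mul_eq_one_right (by rw [← sq]; exact hz2)
  have hzV : z ∈ V := hq2 ▸ pow_mem hqV 2
  have hzE : z ∈ E := ha2 ▸ pow_mem haE 2
  -- a second generator
  obtain ⟨x₀, hgen₀⟩ : ∃ x : G, Subgroup.closure {a, x} = ⊤ := by
    by_contra hno
    push Not at hno
    apply hncyc
    have htop : Subgroup.zpowers a = ⊤ := top_of_sup_sq hG (top_le_iff.mp fun g _ => by
      by_contra hg
      refine hno g (gen_of_indep hG hbi ha (fun h => hg (Subgroup.mem_sup_right h)) fun h => hg ?_)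
      have e : g = a * (a⁻¹ * g) := by group
      rw [e]
      exact mul_mem (Subgroup.mem_sup_left (Subgroup.mem_zpowers a)) (Subgroup.mem_sup_right h))
    haveI : IsCyclic G := isCyclic_iff_exists_zpowers_eq_top.mpr ⟨a, htop⟩
    infer_instance
  -- the involutions of the derived subgroup
  obtain ⟨u₁, hu₁, u₁2, u₁1⟩ : ∃ u ∈ V, u ^ 2 = 1 ∧ u ≠ 1 := by
    by_contra hno
    push Not at hno
    exact hncyc (isCyclic_of_involutions hG (fun u hu v hv => hVc u hu v hv) (c := 1)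
      fun u hu h2 => Or.inl (hno u hu h2))
  obtain ⟨u₂, hu₂, u₂2, u₂1, hu12⟩ : ∃ u ∈ V, u ^ 2 = 1 ∧ u ≠ 1 ∧ u₁ ≠ u := by
    by_contra hno
    push Not at hno
    refine hncyc (isCyclic_of_involutions hG (fun u hu v hv => hVc u hu v hv) (c := u₁) ?_)
    intro u hu h2
    by_cases h1 : u = 1
    · exact Or.inl h1
    · exact Or.inr (hno u hu h2 h1).symm
  let Z : Subgroup G :=
    { carrier := {v | v ∈ V ∧ v ^ 2 = 1}
      one_mem' := ⟨one_mem _, one_pow 2⟩
      mul_mem' := fun {u v} hu hv => ⟨mul_mem hu.1 hv.1, by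
        rw [(hVc u hu.1 v hv.1).mul_pow, hu.2, hv.2, one_mul]⟩
      inv_mem' := fun {u} hu => ⟨inv_mem hu.1, by rw [inv_pow, hu.2, inv_one]⟩ }
  haveI hVn : V.Normal := inferInstanceAs (commutator G).Normal
  haveI hZn : Z.Normal := ⟨fun u hu g => ⟨hVn.conj_mem u hu.1 g, by
    rw [conj_pow, hu.2, mul_one, mul_inv_cancel]⟩⟩
  have hall : ∀ v ∈ Z, v = 1 ∨ v = u₁ ∨ v = u₂ ∨ v = u₁ * u₂ := fun v hv =>
    mem_four hVR (hVΦ hu₁) (hVΦ hu₂) (hVΦ hv.1) u₁2 u₂2 hv.2 (hVc u₁ hu₁ u₂ hu₂)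
      (hVc u₁ hu₁ v hv.1) (hVc u₂ hu₂ v hv.1) u₁1 u₂1 hu12
  have hu12' : u₁ * u₂ ≠ 1 := fun e => hu12 ((eq_inv_of_mul_eq_one_left e).trans
    (inv_eq_of_mul_eq_one_right (by rw [← sq]; exact u₂2)))
  have hZ4 : Nat.card Z = 4 := by
    haveI := Fintype.ofFinite Z
    have m₃ : u₁ * u₂ ∈ Z :=
      Z.mul_mem (show u₁ ∈ Z from ⟨hu₁, u₁2⟩) (show u₂ ∈ Z from ⟨hu₂, u₂2⟩)
    have hset : (Finset.univ : Finset Z) =
        {1, ⟨u₁, hu₁, u₁2⟩, ⟨u₂, hu₂, u₂2⟩, ⟨u₁ * u₂, m₃⟩} := by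
      refine (Finset.eq_univ_of_forall fun v => ?_).symm
      simp only [Finset.mem_insert, Finset.mem_singleton]
      rcases hall v v.2 with e | e | e | e
      · exact Or.inl (Subtype.ext e)
      · exact Or.inr (Or.inl (Subtype.ext e))
      · exact Or.inr (Or.inr (Or.inl (Subtype.ext e)))
      · exact Or.inr (Or.inr (Or.inr (Subtype.ext e)))
    rw [Nat.card_eq_fintype_card, ← Finset.card_univ, hset]
    simp [Subtype.ext_iff, Ne.symm u₁1, Ne.symm u₂1, Ne.symm hu12', hu12, u₁1, u₂1]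
  have hZΦ : ∀ g ∈ P 2 (⊤ : Subgroup G), ∀ v ∈ Z, Commute g v := fun g hg v hv =>
    sq_commute_of_four hG hZ4 hg hv
  have hzZ : z ∈ Z := ⟨hzV, hz2⟩
  -- conjugation by `a` commutes with every conjugation on the derived subgroup
  have hmemV : ∀ g : G, ∀ v ∈ V, g⁻¹ * v * g ∈ V := fun g v hv => by
    simpa using hVn.conj_mem v hv g⁻¹
  have hcV : ∀ g h : G, g⁻¹ * h⁻¹ * g * h ∈ V := fun g h => by
    have := Subgroup.commutator_mem_commutator (Subgroup.mem_top g⁻¹) (Subgroup.mem_top h⁻¹)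
    simpa [commutatorElement_def, hV, _root_.commutator_def] using this
  have hequi : ∀ g : G, ∀ v ∈ V, a⁻¹ * (g⁻¹ * v * g) * a = g⁻¹ * (a⁻¹ * v * a) * g := by
    intro g v hv
    have hm : g⁻¹ * (a⁻¹ * v * a) * g ∈ V := hmemV g _ (hmemV a v hv)
    have hc := hVc _ (hcV g a) _ hm
    calc a⁻¹ * (g⁻¹ * v * g) * a
        = (g⁻¹ * a⁻¹ * g * a)⁻¹ * (g⁻¹ * (a⁻¹ * v * a) * g) * (g⁻¹ * a⁻¹ * g * a) := by group
      _ = g⁻¹ * (a⁻¹ * v * a) * g := by rw [hc.inv_left.eq, inv_mul_cancel_right]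
  let δ : V →* V := MonoidHom.mk' (fun v => v * ⟨a⁻¹ * v * a, hmemV a v v.2⟩) fun u v => by
    refine Subtype.ext ?_
    show (u : G) * v * (a⁻¹ * (u * v) * a) = u * (a⁻¹ * u * a) * (v * (a⁻¹ * v * a))
    have hc : Commute (v : G) (a⁻¹ * u * a) := hVc _ v.2 _ (hmemV a u u.2)
    calc (u : G) * v * (a⁻¹ * (u * v) * a) = u * (v * (a⁻¹ * u * a)) * (a⁻¹ * v * a) := by group
      _ = u * ((a⁻¹ * u * a) * v) * (a⁻¹ * v * a) := by rw [hc.eq]
      _ = _ := by group
  have hδ : ∀ v : V, ((δ v : V) : G) = v * (a⁻¹ * v * a) := fun v => rfl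
  -- facts attached to a second generator
  have hw : ∀ x : G, (a⁻¹ * x⁻¹ * a * x) * (a⁻¹ * (a⁻¹ * x⁻¹ * a * x) * a) = z * (x⁻¹ * z * x) := by
    intro x
    rw [(hVc _ (hcV a x) _ (hmemV a _ (hcV a x))).eq]
    calc a⁻¹ * (a⁻¹ * x⁻¹ * a * x) * a * (a⁻¹ * x⁻¹ * a * x)
        = (a ^ 2)⁻¹ * (x⁻¹ * a ^ 2 * x) := by simp [pow_two, mul_assoc]
      _ = z * (x⁻¹ * z * x) := by rw [ha2, hzi]
  have hδle : ∀ x : G, Subgroup.closure {a, x} = ⊤ →
      ((z * (x⁻¹ * z * x)) ∈ Subgroup.center G) →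
      ∀ v : V, ((δ v : V) : G) ∈ Subgroup.zpowers (z * (x⁻¹ * z * x)) := by
    intro x hgen hc
    set z₁ := z * (x⁻¹ * z * x) with hz₁
    let D : Subgroup G :=
      { carrier := {v | ∃ h : v ∈ V, ((δ ⟨v, h⟩ : V) : G) ∈ Subgroup.zpowers z₁}
        one_mem' := ⟨one_mem _, by
          rw [show (⟨1, one_mem V⟩ : V) = 1 from rfl, map_one]; exact one_mem _⟩
        mul_mem' := by
          rintro u v ⟨hu, hu'⟩ ⟨hv, hv'⟩
          refine ⟨mul_mem hu hv, ?_⟩
          rw [show (⟨u * v, mul_mem hu hv⟩ : V) = ⟨u, hu⟩ * ⟨v, hv⟩ from rfl, map_mul]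
          exact mul_mem hu' hv'
        inv_mem' := by
          rintro u ⟨hu, hu'⟩
          refine ⟨inv_mem hu, ?_⟩
          rw [show (⟨u⁻¹, inv_mem hu⟩ : V) = ⟨u, hu⟩⁻¹ from rfl, map_inv]
          exact inv_mem hu' }
    haveI : D.Normal := ⟨by
      rintro v ⟨hv, hv'⟩ g
      refine ⟨hVn.conj_mem v hv g, ?_⟩
      rw [hδ] at hv' ⊢
      have e := hequi g⁻¹ v hv
      simp only [inv_inv] at e
      show g * v * g⁻¹ * (a⁻¹ * (g * v * g⁻¹) * a) ∈ _
      rw [e, show g * v * g⁻¹ * (g * (a⁻¹ * v * a) * g⁻¹) = g * (v * (a⁻¹ * v * a)) * g⁻¹ by group]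
      obtain ⟨k, hk⟩ := Subgroup.mem_zpowers_iff.mp hv'
      have hk' : v * (a⁻¹ * v * a) = z₁ ^ k := hk.symm
      rw [hk', Subgroup.mem_center_iff.mp (zpow_mem hc k) g, mul_inv_cancel_right]
      exact zpow_mem (Subgroup.mem_zpowers z₁) k⟩
    have hle : commutator G ≤ D := commutator_le_of_gen hgen ⟨hcV a x, by
      rw [hδ]
      show (a⁻¹ * x⁻¹ * a * x) * (a⁻¹ * (a⁻¹ * x⁻¹ * a * x) * a) ∈ _
      rw [hw x]; exact Subgroup.mem_zpowers _⟩
    intro v
    obtain ⟨_, h⟩ := hle v.2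
    exact h
  -- a fixed involution
  obtain ⟨z₀, ⟨hz₀Z, hz₀c⟩, hz₀1⟩ := (Subgroup.bot_or_exists_ne_one _).resolve_left
    (PGroupsBasic.inf_center_ne_bot hG (N := Z) fun e => by
      rw [e, Subgroup.card_bot] at hZ4; omega)
  have hgenext : ∀ x : G, Subgroup.closure {a, x} = ⊤ → ∀ v : G, Commute a v → Commute x v →
      v ∈ Subgroup.center G := fun x hgen v h1 h2 => Subgroup.mem_center_iff.mpr fun g => by
    have hle : Subgroup.closure ({a, x} : Set G) ≤ Subgroup.centralizer ({v} : Set G) := by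
      rw [Subgroup.closure_le]
      rintro t (rfl | rfl)
      · exact Subgroup.mem_centralizer_singleton_iff.mpr h1.eq
      · exact Subgroup.mem_centralizer_singleton_iff.mpr h2.eq
    exact Subgroup.mem_centralizer_singleton_iff.mp (hle (hgen.ge (Subgroup.mem_top g)))
  -- `a` centralizes the involutions
  have haZ : ∀ v ∈ Z, Commute a v := by
    by_contra hno
    push Not at hno
    obtain ⟨u, huZ, hau⟩ := hno
    have hu1 : u ≠ 1 := fun e => hau (by rw [e]; exact Commute.one_right a)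
    have huz₀ : u ≠ z₀ := fun e => hau (by rw [e]; exact Subgroup.mem_center_iff.mp hz₀c a)
    have himg : ∀ g : G, g * u * g⁻¹ = u ∨ g * u * g⁻¹ = u * z₀ := by
      intro g
      have hm := hZn.conj_mem u huZ g
      rcases mem_four hVR (hVΦ huZ.1) (hVΦ hz₀Z.1) (hVΦ hm.1) huZ.2 hz₀Z.2 hm.2
        (hVc u huZ.1 z₀ hz₀Z.1) (hVc u huZ.1 _ hm.1) (hVc z₀ hz₀Z.1 _ hm.1) hu1 hz₀1 huz₀ with
        e | e | e | e
      · exact absurd (conj_eq_one_iff.mp e) hu1
      · exact Or.inl e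
      · refine absurd ?_ huz₀
        exact mul_left_cancel ((mul_inv_eq_iff_eq_mul.mp e).trans
          (Subgroup.mem_center_iff.mp hz₀c g).symm)
      · exact Or.inr e
    have hau' : a * u * a⁻¹ = u * z₀ := (himg a).resolve_left fun e =>
      hau (mul_inv_eq_iff_eq_mul.mp e)
    obtain ⟨x, hgen, hxu⟩ : ∃ x : G, Subgroup.closure {a, x} = ⊤ ∧ Commute x u := by
      rcases himg x₀ with e | e
      · exact ⟨x₀, hgen₀, mul_inv_eq_iff_eq_mul.mp e⟩
      · refine ⟨a * x₀, ?_, mul_inv_eq_iff_eq_mul.mp ?_⟩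
        · rw [← top_le_iff, ← hgen₀, Subgroup.closure_le]
          rintro t (rfl | rfl)
          · exact mem_pair_left _ _
          · simpa using mul_mem (inv_mem (mem_pair_left a (a * t))) (mem_pair_right a (a * t))
        · have hz2' : z₀ * z₀ = 1 := by rw [← sq]; exact hz₀Z.2
          calc a * x₀ * u * (a * x₀)⁻¹ = a * (x₀ * u * x₀⁻¹) * a⁻¹ := by group
            _ = a * u * (z₀ * a⁻¹) := by rw [e]; group
            _ = a * u * (a⁻¹ * z₀) := by rw [Subgroup.mem_center_iff.mp hz₀c a⁻¹]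
            _ = u := by rw [← mul_assoc, hau', mul_assoc, hz2', mul_one]
    have hxz : Commute x z := by
      rcases mem_four hVR (hVΦ huZ.1) (hVΦ hz₀Z.1) (hVΦ hzV) huZ.2 hz₀Z.2 hz2
        (hVc u huZ.1 z₀ hz₀Z.1) (hVc u huZ.1 z hzV) (hVc z₀ hz₀Z.1 z hzV) hu1 hz₀1 huz₀ with
        e | e | e | e <;> rw [e]
      · exact Commute.one_right x
      · exact hxu
      · exact Subgroup.mem_center_iff.mp hz₀c x
      · exact hxu.mul_right (Subgroup.mem_center_iff.mp hz₀c x)
    have hz₁ : z * (x⁻¹ * z * x) = 1 := by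
      rw [mul_assoc x⁻¹, ← hxz.eq, inv_mul_cancel_left, ← sq, hz2]
    have h1 := hδle x hgen (by rw [hz₁]; exact one_mem _) ⟨u, huZ.1⟩
    rw [hz₁, Subgroup.zpowers_one_eq_bot, Subgroup.mem_bot, hδ] at h1
    apply hau
    have e : a⁻¹ * u * a = u := (eq_inv_of_mul_eq_one_right h1).trans
      (inv_eq_of_mul_eq_one_right (by rw [← sq]; exact huZ.2))
    show a * u = u * a
    calc a * u = a * (a⁻¹ * u * a) := by rw [e]
      _ = u * a := by group
  have hMZ : ∀ g : G, (g ∈ P 2 (⊤ : Subgroup G) ∨ a⁻¹ * g ∈ P 2 (⊤ : Subgroup G)) →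
      ∀ v ∈ Z, Commute g v := by
    rintro g (hg | hg) v hv
    · exact hZΦ g hg v hv
    · have e : g = a * (a⁻¹ * g) := by group
      rw [e]
      exact (haZ v hv).mul_left (hZΦ _ hg v hv)
  have hEM : ∀ e ∈ E, e ∈ P 2 (⊤ : Subgroup G) ∨ a⁻¹ * e ∈ P 2 (⊤ : Subgroup G) := by
    intro e he
    by_contra hcon
    rw [not_or] at hcon
    refine hτ ?_
    have := gen_of_indep hG hbi ha hcon.1 hcon.2
    refine (Subgroup.closure_le E).mpr ?_ (this.ge (Subgroup.mem_top τ))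
    rintro t (rfl | rfl) <;> assumption
  have hZE : ∀ v ∈ Z, v ∈ E := fun v hv => hC (Subgroup.mem_centralizer_iff.mpr fun e he =>
    (hMZ e (hEM e he) v hv).eq)
  -- the derived subgroup
  set x := x₀ with hx
  set w := a⁻¹ * x⁻¹ * a * x with hwdef
  set z₁ := z * (x⁻¹ * z * x) with hz₁
  have hz₁Z : z₁ ∈ Z := Z.mul_mem hzZ (by simpa using hZn.conj_mem z hzZ x⁻¹)
  have hz₁c : z₁ ∈ Subgroup.center G := hgenext x hgen₀ z₁ (haZ z₁ hz₁Z) (by
    have hx2 := hZΦ _ (sq_mem_sq x) z hzZ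
    have e : x⁻¹ * z₁ * x = z₁ := by
      calc x⁻¹ * z₁ * x = (x⁻¹ * z * x) * ((x ^ 2)⁻¹ * z * x ^ 2) := by
            rw [hz₁, pow_two]; group
        _ = (x⁻¹ * z * x) * z := by rw [mul_assoc (x ^ 2)⁻¹, ← hx2.eq, inv_mul_cancel_left]
        _ = z₁ := (hVc _ (hmemV x z hzV) z hzV).eq
    show x * z₁ = z₁ * x
    calc x * z₁ = x * (x⁻¹ * z₁ * x) := by rw [e]
      _ = z₁ * x := by group)
  have hδv : ∀ v : V, ((δ v : V) : G) = 1 ∨ ((δ v : V) : G) = z₁ := by
    intro v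
    obtain ⟨k, hk⟩ := Subgroup.mem_zpowers_iff.mp (hδle x hgen₀ hz₁c v)
    rw [← hk]
    rcases Int.even_or_odd k with ⟨m, rfl⟩ | ⟨m, rfl⟩
    · left; rw [← two_mul, zpow_mul, zpow_ofNat, hz₁Z.2, one_zpow]
    · right; rw [zpow_add, zpow_one, zpow_mul, zpow_ofNat, hz₁Z.2, one_zpow, one_mul]
  -- squares in the derived subgroup
  let sqV : V →* V := MonoidHom.mk' (fun v => v ^ 2) fun u v =>
    (show Commute u v from Subtype.ext (hVc u u.2 v v.2)).mul_pow 2
  set N : Subgroup G := sqV.range.map V.subtype with hNdef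
  have hNmem : ∀ v ∈ N, ∃ u ∈ V, v = u ^ 2 := by
    rintro _ ⟨_, ⟨u, rfl⟩, rfl⟩
    exact ⟨u, u.2, rfl⟩
  have hNsq : ∀ u ∈ V, u ^ 2 ∈ N := fun u hu => ⟨_, ⟨⟨u, hu⟩, rfl⟩, rfl⟩
  haveI hNn : N.Normal := ⟨fun v hv g => by
    obtain ⟨u, hu, rfl⟩ := hNmem v hv
    rw [← conj_pow]; exact hNsq _ (hVn.conj_mem u hu g)⟩
  have hNV : N ≤ V := Subgroup.map_subtype_le _
  have hker4 : Nat.card sqV.ker = 4 := by
    rw [← hZ4]
    refine Nat.card_congr
      { toFun := fun u => ⟨((u : V) : G), (u : V).2, by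
          exact congrArg Subtype.val (show (u : V) ^ 2 = 1 from u.2)⟩
        invFun := fun u => ⟨⟨u, u.2.1⟩, Subtype.ext u.2.2⟩
        left_inv := fun u => rfl
        right_inv := fun u => rfl }
  set π := QuotientGroup.mk' N
  have hπ : ∀ g : G, π g = 1 ↔ g ∈ N := fun g => QuotientGroup.eq_one_iff g
  set U : Subgroup (G ⧸ N) := V.map π with hUdef
  haveI : U.Normal := hVn.map π (QuotientGroup.mk'_surjective N)
  have hU4 : Nat.card U = 4 := by
    have e1 : U = (π.comp V.subtype).range := by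
      rw [MonoidHom.range_comp, Subgroup.range_subtype]
    have e2 : (π.comp V.subtype).ker = N.subgroupOf V := by
      ext v; exact hπ v
    have e3 : N.subgroupOf V = sqV.range := by
      show (Subgroup.map V.subtype sqV.range).comap V.subtype = sqV.range
      exact Subgroup.comap_map_eq_self_of_injective V.subtype_injective _
    have h1 := Subgroup.card_mul_index sqV.range
    have h2 := Subgroup.card_mul_index sqV.ker
    rw [Subgroup.index_ker, hker4] at h2
    rw [e1, ← Subgroup.index_ker, e2, e3]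
    have : 0 < Nat.card sqV.range := Nat.card_pos
    nlinarith
  have hX2 : ∀ v ∈ V, Commute (π x ^ 2) (π v) := fun v hv =>
    sq_commute_of_four (hG.to_quotient N) hU4 (sq_mem_sq _) (Subgroup.mem_map_of_mem π hv)
  have hwV : w ∈ V := hcV a x
  set w' := x⁻¹ * w * x with hw'def
  have hw'V : w' ∈ V := hmemV x w hwV
  have hwN : w ∉ N := by
    intro hm
    have hle : V ≤ N := commutator_le_of_gen hgen₀ hm
    have e1 : sqV.range = ⊤ := top_le_iff.mp fun v _ => by
      obtain ⟨_, hu, e⟩ := hle v.2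
      rwa [← V.subtype_injective e]
    have h1 := Subgroup.card_mul_index sqV.ker
    rw [Subgroup.index_ker, hker4, e1, Subgroup.card_top] at h1
    have : 0 < Nat.card V := Nat.card_pos
    omega
  have hu2' : ∀ v ∈ V, π v * π v = 1 := fun v hv => by
    rw [← map_mul, ← sq]; exact (hπ _).mpr (hNsq v hv)
  have hw'W : π w' = (π x)⁻¹ * π w * π x := by rw [hw'def, map_mul, map_mul, map_inv]
  have hne : π w' ≠ π w := by
    intro he
    let D : Subgroup G := (Subgroup.zpowers (π w)).comap π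
    haveI : D.Normal := by
      refine Subgroup.Normal.comap ?_ π
      refine PGroupsBasic.normal_of_le_center (Subgroup.zpowers_le.mpr ?_)
      rw [Subgroup.mem_center_iff]
      intro g
      obtain ⟨g, rfl⟩ := QuotientGroup.mk'_surjective N g
      refine Subgroup.closure_induction (p := fun g _ => Commute (π g) (π w)) ?_ (by simp)
        (fun _ _ _ _ h₁ h₂ => by rw [map_mul]; exact h₁.mul_left h₂)
        (fun _ _ h => by rw [map_inv]; exact h.inv_left) (hgen₀.ge (Subgroup.mem_top g))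
      rintro g (rfl | rfl)
      · -- `a` inverts modulo a central square
        have h1 : π (w * (g⁻¹ * w * g)) = 1 := by
          rw [hwdef, hw x, hπ]
          have e : z * (x⁻¹ * z * x) = (q * (x⁻¹ * q * x)) ^ 2 := by
            rw [(hVc q hqV _ (hmemV x q hqV)).mul_pow, hq2, ← hq2]
            simp [pow_two, mul_assoc]
          rw [e]
          exact hNsq _ (mul_mem hqV (hmemV x q hqV))
        have key : ∀ t : G, π (t * (g⁻¹ * t * g)) = π t * ((π g)⁻¹ * π t * π g) := fun t => by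
          simp only [map_mul, map_inv]
        rw [key] at h1
        have e1 : (π g)⁻¹ * π w * π g = π w :=
          (eq_inv_of_mul_eq_one_right h1).trans (inv_eq_of_mul_eq_one_right (hu2' w hwV))
        show π g * π w = π w * π g
        calc π g * π w = π g * ((π g)⁻¹ * π w * π g) := by rw [e1]
          _ = π w * π g := by group
      · show π g * π w = π w * π g
        calc π g * π w = π g * ((π g)⁻¹ * π w * π g) := by rw [← hw'W, he]
          _ = π w * π g := by group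
    have hle : V ≤ D := commutator_le_of_gen hgen₀ (Subgroup.mem_zpowers (π w))
    have hUle : U ≤ Subgroup.zpowers (π w) := Subgroup.map_le_iff_le_comap.mpr hle
    have := (Subgroup.card_le_of_le hUle).trans (le_of_eq (Nat.card_zpowers (π w)))
    rw [hU4] at this
    have : orderOf (π w) ≤ 2 := orderOf_le_of_pow_eq_one (by norm_num) (by rw [sq]; exact hu2' w hwV)
    omega
  have hclass : ∀ v ∈ V, π v = 1 ∨ π v = π w ∨ π v = π w' ∨ π v = π w * π w' := by
    intro v hv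
    by_contra hcon
    simp only [not_or] at hcon
    obtain ⟨o1, o2, o3, o4⟩ := hcon
    have n1 : π w ≠ 1 := fun e => hwN ((hπ w).mp e)
    have n2 : π w' ≠ 1 := fun e => n1 (conj_eq_one_iff.mp
      (show (π x)⁻¹ * π w * (π x)⁻¹⁻¹ = 1 by rw [inv_inv, ← hw'W]; exact e))
    have n3 : π w * π w' ≠ 1 := fun e => hne ((eq_inv_of_mul_eq_one_right e).trans
      (inv_eq_of_mul_eq_one_right (hu2' w hwV)))
    have n4 : π w * π w' ≠ π w := fun e => n2 (mul_eq_left.mp e)
    have n5 : π w * π w' ≠ π w' := fun e => n1 (mul_eq_right.mp e)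
    haveI := Fintype.ofFinite U
    have mW : π w ∈ U := Subgroup.mem_map_of_mem π hwV
    have mW' : π w' ∈ U := Subgroup.mem_map_of_mem π hw'V
    have mv : π v ∈ U := Subgroup.mem_map_of_mem π hv
    have h5 : ({1, ⟨π w, mW⟩, ⟨π w', mW'⟩, ⟨π w * π w', mul_mem mW mW'⟩, ⟨π v, mv⟩} :
        Finset U).card = 5 := by
      simp [Subtype.ext_iff, Ne.symm n1, Ne.symm n2, Ne.symm n3, Ne.symm o1, Ne.symm hne,
        Ne.symm n4, Ne.symm n5, Ne.symm o2, Ne.symm o3, Ne.symm o4, n1, n2]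
    have := Finset.card_le_univ ({1, ⟨π w, mW⟩, ⟨π w', mW'⟩, ⟨π w * π w', mul_mem mW mW'⟩,
      ⟨π v, mv⟩} : Finset U)
    rw [h5, ← Nat.card_eq_fintype_card, hU4] at this
    omega
  -- the kernel of the other map
  let θ : V →* V := MonoidHom.mk' (fun v => v ^ 2 * (δ v)⁻¹) fun u v => by
    rw [map_mul, mul_inv_rev, (show Commute u v from Subtype.ext (hVc u u.2 v v.2)).mul_pow,
      (show Commute ((δ v)⁻¹) ((δ u)⁻¹) from Subtype.ext (hVc _ (δ v)⁻¹.2 _ (δ u)⁻¹.2)).eq]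
    exact (show Commute (v ^ 2) ((δ u)⁻¹) from
      Subtype.ext (hVc _ (v ^ 2).2 _ (δ u)⁻¹.2)).mul_mul_mul_comm _ _
  have hθ : ∀ v : V, ((θ v : V) : G) = a⁻¹ * (v : G)⁻¹ * a * v := by
    intro v
    show (v : G) ^ 2 * ((δ v : V) : G)⁻¹ = _
    rw [hδ, mul_inv_rev]
    have hc : Commute ((v : G) ^ 2) ((a⁻¹ * v * a)⁻¹) :=
      hVc _ (pow_mem v.2 2) _ (inv_mem (hmemV a v v.2))
    calc (v : G) ^ 2 * ((a⁻¹ * v * a)⁻¹ * (v : G)⁻¹)
        = (a⁻¹ * v * a)⁻¹ * v ^ 2 * (v : G)⁻¹ := by rw [← mul_assoc, hc.eq]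
      _ = _ := by group
  have hδsq : ∀ u : V, δ (u ^ 2) = 1 := fun u => by
    rw [map_pow]
    refine Subtype.ext ?_
    show ((δ u : V) : G) ^ 2 = 1
    rcases hδv u with e | e <;> rw [e]
    · exact one_pow 2
    · exact hz₁Z.2
  have hδZ : ∀ u : V, (u : G) ^ 2 = 1 → δ u = 1 := fun u hu => by
    refine Subtype.ext ?_
    rw [hδ, mul_assoc a⁻¹, ← (haZ u ⟨u.2, hu⟩).eq, inv_mul_cancel_left, ← sq, hu]
    rfl
  have hθker : θ.ker = sqV.ker := by
    ext v
    constructor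
    · intro h
      have h' : v ^ 2 = δ v := mul_inv_eq_one.mp h
      show v ^ 2 = 1
      by_contra hne1
      have hd1 : ((δ v : V) : G) = z₁ := (hδv v).resolve_left fun e =>
        hne1 (h'.trans (Subtype.ext e))
      have hz1 : z₁ ≠ 1 := fun e => hne1 (h'.trans (Subtype.ext (hd1.trans e)))
      set q' := x⁻¹ * q * x with hq'def
      have hq'V : q' ∈ V := hmemV x q hqV
      have hδq : δ ⟨q, hqV⟩ = 1 := Subtype.ext (by
        rw [hδ]; show q * (a⁻¹ * q * a) = 1; rw [hconj, mul_inv_cancel])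
      have hδq' : δ ⟨q', hq'V⟩ = 1 := Subtype.ext (by
        rw [hδ]
        show q' * (a⁻¹ * q' * a) = 1
        rw [hq'def, hequi x q hqV, hconj]; group)
      have hcl : ∀ u : V, δ u = 1 → π (u : G) = 1 ∨ π (u : G) = π w * π w' := by
        intro u hu
        have hd : ∀ t : V, π (u : G) = π (t : G) → δ u = δ t := by
          intro t e
          obtain ⟨s, hs, hse⟩ := hNmem _ ((hπ _).mp
            (show π ((t : G)⁻¹ * u) = 1 by rw [map_mul, map_inv, e, inv_mul_cancel]))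
          have : u = t * (⟨s, hs⟩ : V) ^ 2 := Subtype.ext (by
            show (u : G) = t * s ^ 2
            rw [← hse, mul_inv_cancel_left])
          rw [this, map_mul, hδsq, mul_one]
        have hδw : ((δ ⟨w, hwV⟩ : V) : G) = z₁ := by rw [hδ]; exact hw x
        rcases hclass u u.2 with e | e | e | e
        · exact Or.inl e
        · refine absurd ?_ hz1
          rw [← hδw, ← hd ⟨w, hwV⟩ e, hu]; rfl
        · refine absurd ?_ hz1
          have hδw' : ((δ ⟨w', hw'V⟩ : V) : G) = z₁ := by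
            rw [hδ]
            show w' * (a⁻¹ * w' * a) = z₁
            rw [hw'def, hequi x w hwV,
              show x⁻¹ * w * x * (x⁻¹ * (a⁻¹ * w * a) * x) = x⁻¹ * (w * (a⁻¹ * w * a)) * x by group,
              hwdef, hw x, ← hz₁, mul_assoc x⁻¹, ← Subgroup.mem_center_iff.mp hz₁c x,
              inv_mul_cancel_left]
          rw [← hδw', ← hd ⟨w', hw'V⟩ e, hu]; rfl
        · exact Or.inr e
      have hqq : π (q⁻¹ * q') = 1 := by
        have e' : π q' = (π x)⁻¹ * π q * π x := by rw [hq'def, map_mul, map_mul, map_inv]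
        rcases hcl _ hδq with e | e <;> rcases hcl _ hδq' with e2 | e2 <;>
          simp only at e e2
        · rw [map_mul, map_inv, e, e2, inv_one, one_mul]
        · rw [map_mul, map_inv, e, e', e]; group
        · have : π q = 1 := by
            rw [e2] at e'
            calc π q = π x * ((π x)⁻¹ * π q * π x) * (π x)⁻¹ := by group
              _ = 1 := by rw [← e']; group
          rw [map_mul, map_inv, this, e2, inv_one, one_mul]
        · rw [map_mul, map_inv, e, e2, inv_mul_cancel]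
      obtain ⟨s, hs, hse⟩ := hNmem _ ((hπ _).mp hqq)
      have hz1s : z₁ = (s ^ 2) ^ 2 := by
        rw [← hse, ((hVc _ (inv_mem hqV) _ hq'V)).mul_pow, inv_pow, hq2, hzi, hq'def, hz₁,
          ← hq2]
        simp [pow_two, mul_assoc]
      apply hz1
      rw [← hd1]
      have e : v = (v * ((⟨s, hs⟩ : V) ^ 2)⁻¹) * (⟨s, hs⟩ : V) ^ 2 := by group
      have e2 : ((v * ((⟨s, hs⟩ : V) ^ 2)⁻¹ : V) : G) ^ 2 = 1 := by
        show ((v : G) * (s ^ 2)⁻¹) ^ 2 = 1
        rw [(hVc _ v.2 _ (inv_mem (pow_mem hs 2))).mul_pow, inv_pow, ← hz1s,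
          show (v : G) ^ 2 = z₁ from (congrArg Subtype.val h').trans hd1, mul_inv_cancel]
      rw [e, map_mul, hδsq, mul_one, hδZ _ e2]; rfl
    · intro h
      show v ^ 2 * (δ v)⁻¹ = 1
      have h' : v ^ 2 = 1 := h
      rw [h', hδZ v (congrArg Subtype.val h'), one_mul, inv_one]
  have hθrange : θ.range = sqV.range := by
    refine Subgroup.eq_of_le_of_card_ge ?_ ?_
    · rintro _ ⟨v, rfl⟩
      show v ^ 2 * (δ v)⁻¹ ∈ sqV.range
      refine mul_mem ⟨v, rfl⟩ (inv_mem ?_)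
      refine ⟨⟨(if ((δ v : V) : G) = 1 then 1 else q * (x⁻¹ * q * x)), ?_⟩, Subtype.ext ?_⟩
      · split_ifs
        · exact one_mem V
        · exact mul_mem hqV (hmemV x q hqV)
      · show (if ((δ v : V) : G) = 1 then 1 else q * (x⁻¹ * q * x)) ^ 2 = _
        split_ifs with h
        · rw [h, one_pow]
        · rw [(hδv v).resolve_left h, (hVc q hqV _ (hmemV x q hqV)).mul_pow, hq2, hz₁, ← hq2]
          simp [pow_two, mul_assoc]
    · have h1 := Subgroup.card_mul_index θ.ker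
      have h2 := Subgroup.card_mul_index sqV.ker
      rw [Subgroup.index_ker, hθker] at h1
      rw [Subgroup.index_ker] at h2
      rw [hker4] at h1 h2
      omega
  -- all of `a V` is conjugate to `a`
  have hconjall : ∀ v ∈ V, ∃ g : G, a⁻¹ * g⁻¹ * a * g = v := by
    intro v hv
    obtain ⟨g₀, hg₀⟩ : ∃ g : G, π (a⁻¹ * g⁻¹ * a * g) = π v := by
      rcases hclass v hv with e | e | e | e <;> rw [e]
      · exact ⟨1, by simp⟩
      · exact ⟨x, rfl⟩
      · refine ⟨x⁻¹, ?_⟩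
        rw [show a⁻¹ * x⁻¹⁻¹ * a * x⁻¹ = x * w⁻¹ * x⁻¹ by rw [hwdef]; group, map_mul, map_mul,
          map_inv, map_inv, inv_eq_of_mul_eq_one_right (hu2' w hwV), hw'W]
        calc π x * π w * (π x)⁻¹ = (π x)⁻¹ * (π x ^ 2 * π w * (π x ^ 2)⁻¹) * π x := by group
          _ = (π x)⁻¹ * π w * π x := by rw [(hX2 w hwV).eq, mul_inv_cancel_right]
      · refine ⟨x ^ 2, ?_⟩
        rw [show a⁻¹ * (x ^ 2)⁻¹ * a * x ^ 2 = w * w' by rw [hw'def, hwdef, pow_two]; group, map_mul]
    obtain ⟨s, hs, hse⟩ := hNmem _ ((hπ _).mp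
      (show π (v * (a⁻¹ * g₀⁻¹ * a * g₀)⁻¹) = 1 by rw [map_mul, map_inv, hg₀, mul_inv_cancel]))
    obtain ⟨u, hu⟩ : (⟨s, hs⟩ : V) ^ 2 ∈ θ.range := hθrange ▸ ⟨⟨s, hs⟩, rfl⟩
    refine ⟨g₀ * u, ?_⟩
    have hu' : a⁻¹ * (u : G)⁻¹ * a * u = s ^ 2 := (hθ u).symm.trans (congrArg Subtype.val hu)
    have hc : Commute (a⁻¹ * g₀⁻¹ * a * g₀) (u : G) := hVc _ (hcV a g₀) _ u.2
    calc a⁻¹ * (g₀ * u)⁻¹ * a * (g₀ * u)
        = a⁻¹ * (u : G)⁻¹ * a * ((a⁻¹ * g₀⁻¹ * a * g₀) * u) := by group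
      _ = a⁻¹ * (u : G)⁻¹ * a * (u * (a⁻¹ * g₀⁻¹ * a * g₀)) := by rw [hc.eq]
      _ = s ^ 2 * (a⁻¹ * g₀⁻¹ * a * g₀) := by rw [← mul_assoc, hu']
      _ = v := by rw [← hse, inv_mul_cancel_right]
  -- the centralizer of `a` lies in `E`
  set K := Subgroup.centralizer ({a} : Set G)
  have hKmem : ∀ k, k ∈ K ↔ k * a = a * k := fun k => Subgroup.mem_centralizer_singleton_iff
  have hKM : ∀ k ∈ K, k ∈ P 2 (⊤ : Subgroup G) ∨ a⁻¹ * k ∈ P 2 (⊤ : Subgroup G) := by
    intro k hk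
    by_contra hcon
    rw [not_or] at hcon
    exact hncyc (cyclic_of_commute (gen_of_indep hG hbi ha hcon.1 hcon.2) ((hKmem k).mp hk).symm)
  have hKN : ∀ k ∈ K, k ∈ Subgroup.normalizer (E : Set G) → k ∈ E := by
    intro k hk hkn
    rcases hN k hkn with h | h
    · exact h
    · exfalso
      have e : a = τ * ((τ⁻¹ * k) * a * (τ⁻¹ * k)⁻¹) * τ⁻¹ := by
        calc a = k * a * k⁻¹ := by rw [(hKmem k).mp hk, mul_inv_cancel_right]
          _ = _ := by group
      rcases hcos _ h with h' | h' <;> rw [h'] at e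
      · rw [hτa] at e
        exact hq1.1 (left_eq_mul.mp e)
      · rw [show τ * (a * z) * τ⁻¹ = (τ * a * τ⁻¹) * (τ * z * τ⁻¹) by group, hτa, hτz,
          mul_assoc] at e
        exact hq1.2 ((eq_inv_of_mul_eq_one_left (left_eq_mul.mp e)).trans hzi)
  have hEK : ∀ e ∈ E, e ∈ K ∨ q⁻¹ * e ∈ K := by
    intro e he
    rcases hcos e he with h | h
    · exact Or.inl ((hKmem e).mpr (mul_inv_eq_iff_eq_mul.mp h))
    · refine Or.inr ((hKmem _).mpr (mul_inv_eq_iff_eq_mul.mp ?_))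
      calc q⁻¹ * e * a * (q⁻¹ * e)⁻¹ = q⁻¹ * (e * a * e⁻¹) * q := by group
        _ = q⁻¹ * (a * z) * q := by rw [h]
        _ = q⁻¹ * a * (z * q) := by group
        _ = q⁻¹ * a * (q * z) := by rw [(hVc z hzV q hqV).eq]
        _ = a * (a⁻¹ * q⁻¹ * a) * (q * z) := by group
        _ = a * q * (q * z) := by
          rw [show a⁻¹ * q⁻¹ * a = (a⁻¹ * q * a)⁻¹ by group, hconj, inv_inv]
        _ = a * (q ^ 2 * z) := by simp [pow_two, mul_assoc]
        _ = a := by rw [hq2, ← sq, hz2, mul_one]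
  have hsqz : ∀ v ∈ V, v ^ 2 = z → v ∈ E := by
    intro v hv h2
    have hm : q⁻¹ * v ∈ Z := ⟨mul_mem (inv_mem hqV) hv, by
      rw [(hVc _ (inv_mem hqV) v hv).mul_pow, inv_pow, hq2, h2, inv_mul_cancel]⟩
    have := mul_mem hqE (hZE _ hm)
    simpa using this
  have hnorm : ∀ g : G, (∀ k ∈ K, k ∈ E → g * k * g⁻¹ ∈ E) → g * z * g⁻¹ = z →
      g ∈ Subgroup.normalizer (E : Set G) := by
    intro g hk hz
    have hmap : E.map (MulAut.conj g).toMonoidHom = E := by
      refine Subgroup.eq_of_le_of_card_ge ?_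
        (Nat.card_congr (Subgroup.equivMapOfInjective E _ (MulAut.conj g).injective).toEquiv).le
      rintro _ ⟨e, he, rfl⟩
      show g * e * g⁻¹ ∈ E
      rcases hEK e he with h | h
      · exact hk e h he
      · have e' : g * e * g⁻¹ = (g * q * g⁻¹) * (g * (q⁻¹ * e) * g⁻¹) := by group
        rw [e']
        refine mul_mem (hsqz _ (hVn.conj_mem q hqV g) ?_) (hk _ h (mul_mem (inv_mem hqE) he))
        rw [conj_pow, hq2, hz]
    refine Subgroup.mem_normalizer_iff.mpr fun t => ⟨fun ht => ?_, fun ht => ?_⟩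
    · exact hmap.le ⟨t, ht, rfl⟩
    · obtain ⟨s, hs, he⟩ := hmap.ge ht
      have : s = t := mul_left_cancel (mul_right_cancel (show g * s * g⁻¹ = g * t * g⁻¹ from he))
      rwa [← this]
  have hKE : K ≤ E := by
    by_contra hno
    obtain ⟨g, hgK, hgn, hgN⟩ := exists_normalizing hG (E := K ⊓ E) (H := K)
      (lt_of_le_of_ne inf_le_left fun e => hno (inf_eq_left.mp e))
    refine hgn ⟨hgK, hKN g hgK (hnorm g (fun k hk hkE => ?_) ?_)⟩
    · exact ((Subgroup.mem_normalizer_iff.mp hgN k).mp ⟨hk, hkE⟩).2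
    · have hc : Commute g a := (hKmem g).mp hgK
      rw [← ha2, (hc.pow_right 2).eq, mul_inv_cancel_right]
  -- an involution outside the powers of `q`
  have hqpow : ∀ u ∈ Subgroup.zpowers q, u ^ 2 = 1 → u = 1 ∨ u = (if z = 1 then q else z) := by
    intro u hu hu2
    obtain ⟨k, rfl⟩ := Subgroup.mem_zpowers_iff.mp hu
    obtain ⟨m, rfl | rfl⟩ := Int.even_or_odd' k
    · rcases Int.even_or_odd m with ⟨n, rfl⟩ | ⟨n, rfl⟩
      · left; rw [zpow_mul, zpow_ofNat, hq2, ← two_mul, zpow_mul, zpow_ofNat, hz2, one_zpow]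
      · have e : q ^ (2 * (2 * n + 1)) = z := by
          rw [zpow_mul, zpow_ofNat, hq2, zpow_add, zpow_one, zpow_mul, zpow_ofNat, hz2, one_zpow,
            one_mul]
        rw [e]
        split_ifs with hz1
        · exact Or.inl hz1
        · exact Or.inr rfl
    · have e : (q ^ (2 * m + 1)) ^ 2 = z := by
        rw [← zpow_natCast, ← zpow_mul,
          show (2 * m + 1) * ((2 : ℕ) : ℤ) = 2 * 2 * m + 2 by push_cast; ring, zpow_add, zpow_mul,
          zpow_mul, zpow_ofNat, zpow_ofNat, hq2, hz2, one_zpow, one_mul]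
      rw [e] at hu2
      rw [if_pos hu2]
      right
      rw [zpow_add, zpow_one, zpow_mul, zpow_ofNat, hq2, hu2, one_zpow, one_mul]
  obtain ⟨z', hz'Z, hz'q⟩ : ∃ v ∈ Z, v ∉ Subgroup.zpowers q := by
    by_contra hno
    push Not at hno
    have h1 := (hqpow u₁ (hno u₁ ⟨hu₁, u₁2⟩) u₁2).resolve_left u₁1
    have h2 := (hqpow u₂ (hno u₂ ⟨hu₂, u₂2⟩) u₂2).resolve_left u₂1
    exact hu12 (h1.trans h2.symm)
  obtain ⟨g, hg⟩ := hconjall z' hz'Z.1
  set h := g⁻¹ with hh
  have hha : h * a * h⁻¹ = a * z' := by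
    rw [← hg]
    show g⁻¹ * a * g⁻¹⁻¹ = a * (a⁻¹ * g⁻¹ * a * g)
    group
  have hhz : h * z * h⁻¹ = z := by
    rw [← ha2, ← conj_pow, hha, (haZ z' hz'Z).mul_pow, hz'Z.2, mul_one]
  have hK' : Subgroup.centralizer ({a * z'} : Set G) = K := by
    set f := (MulAut.conj h).toMonoidHom with hf
    have e1 : Subgroup.centralizer ({a * z'} : Set G) = K.map f := by
      ext t
      rw [Subgroup.mem_centralizer_singleton_iff, ← hha]
      constructor
      · intro ht
        refine ⟨h⁻¹ * t * h, (hKmem _).mpr ?_, ?_⟩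
        · calc h⁻¹ * t * h * a = h⁻¹ * (t * (h * a * h⁻¹)) * h := by group
            _ = h⁻¹ * ((h * a * h⁻¹) * t) * h := by rw [ht]
            _ = a * (h⁻¹ * t * h) := by group
        · show h * (h⁻¹ * t * h) * h⁻¹ = t
          group
      · rintro ⟨k, hk, rfl⟩
        show h * k * h⁻¹ * (h * a * h⁻¹) = h * a * h⁻¹ * (h * k * h⁻¹)
        calc h * k * h⁻¹ * (h * a * h⁻¹) = h * (k * a) * h⁻¹ := by group
          _ = h * (a * k) * h⁻¹ := by rw [(hKmem k).mp hk]
          _ = _ := by group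
    refine (Subgroup.eq_of_le_of_card_ge (fun k hk => ?_) ?_).symm
    · rw [Subgroup.mem_centralizer_singleton_iff]
      exact ((show Commute k a from (hKmem k).mp hk).mul_right (hMZ k (hKM k hk) z' hz'Z)).eq
    · rw [e1]
      exact (Nat.card_congr (Subgroup.equivMapOfInjective K f (MulAut.conj h).injective).toEquiv).ge
  have hhn : h ∈ Subgroup.normalizer (E : Set G) := hnorm h (fun k hk _ => hKE (by
    rw [← hK', Subgroup.mem_centralizer_singleton_iff, ← hha]
    calc h * k * h⁻¹ * (h * a * h⁻¹) = h * (k * a) * h⁻¹ := by group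
      _ = h * (a * k) * h⁻¹ := by rw [(hKmem k).mp hk]
      _ = _ := by group)) hhz
  apply hz'q
  rcases hN h hhn with hm | hm
  · rcases hcos h hm with e | e <;> rw [hha] at e
    · rw [mul_eq_left.mp e]; exact one_mem _
    · rw [mul_left_cancel e, ← hq2]; exact pow_mem (Subgroup.mem_zpowers q) 2
  · have e' : a * z' = τ * ((τ⁻¹ * h) * a * (τ⁻¹ * h)⁻¹) * τ⁻¹ := by rw [← hha]; group
    rcases hcos _ hm with e | e <;> rw [e] at e'
    · rw [hτa] at e'
      rw [mul_left_cancel e']; exact Subgroup.mem_zpowers q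
    · rw [show τ * (a * z) * τ⁻¹ = (τ * a * τ⁻¹) * (τ * z * τ⁻¹) by group, hτa, hτz, mul_assoc] at e'
      rw [mul_left_cancel e', ← hq2]
      exact mul_mem (Subgroup.mem_zpowers q) (pow_mem (Subgroup.mem_zpowers q) 2)

end Cfsg.Agent.Bicyclic55
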