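import Mathlib
import Cfsg.Agent.Lib.Bicyclic55Small

/-!
# A cyclic derived subgroup

A 2-group `⟨a⟩⟨b⟩` with a self-centralizing subgroup carrying an automorphism of order three
inverted from outside has a cyclic derived subgroup.
-/

set_option autoImplicit false
set_option linter.style.haveILetI false
set_option linter.unusedSectionVars false
set_option maxHeartbeats 1000000

namespace Cfsg.Agent.Bicyclic55

open Cfsg Cfsg.Agent.HallAlperinPowers
open scoped commutatorElement

variable {G : Type*} [Group G] [Finite G]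

/-- The four elements of a group of order four. -/
theorem four_univ {Q : Type*} [Group Q] [Finite Q] (h4 : Nat.card Q = 4) {u v : Q}
    (hu : u ≠ 1) (hv : v ≠ 1) (huv : u ≠ v) (h : u * v ≠ 1) (q : Q) :
    q = 1 ∨ q = u ∨ q = v ∨ q = u * v := by
  classical
  haveI := Fintype.ofFinite Q
  have n1 : u ≠ u * v := fun e => hv (left_eq_mul.mp e)
  have n2 : v ≠ u * v := fun e => hu (right_eq_mul.mp e)
  have hset : ({1, u, v, u * v} : Finset Q) = Finset.univ := by
    refine Finset.eq_univ_of_card _ ?_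
    rw [← Nat.card_eq_fintype_card, h4]
    simp [Ne.symm hu, Ne.symm hv, Ne.symm h, huv, n1, n2]
  simpa using hset.ge (Finset.mem_univ q)

/-- Automorphisms act on the group modulo squares. -/
def quotHom (T : Type*) [Group T] [(P 2 (⊤ : Subgroup T)).Normal] :
    MulAut T →* MulAut (T ⧸ P 2 (⊤ : Subgroup T)) where
  toFun γ := QuotientGroup.congr _ _ γ (show (P 2 (⊤ : Subgroup T)).map γ.toMonoidHom = _ by
    rw [map_P, Subgroup.map_top_of_surjective _ γ.surjective])
  map_one' := by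
    ext q; obtain ⟨y, rfl⟩ := QuotientGroup.mk'_surjective _ q; rfl
  map_mul' γ η := by
    ext q; obtain ⟨y, rfl⟩ := QuotientGroup.mk'_surjective _ q; rfl

theorem quotHom_mk {T : Type*} [Group T] [(P 2 (⊤ : Subgroup T)).Normal] (γ : MulAut T) (t : T) :
    quotHom T γ (QuotientGroup.mk' _ t) = QuotientGroup.mk' (P 2 (⊤ : Subgroup T)) (γ t) := rfl

/-- Automorphisms act on an invariant subgroup. -/
noncomputable def restrictHom {T : Type*} [Group T] (W : Subgroup T)
    (h : ∀ (γ : MulAut T), ∀ w ∈ W, γ w ∈ W) : MulAut T →* MulAut W where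
  toFun γ :=
    { toFun := fun w => ⟨γ w, h γ w w.2⟩
      invFun := fun w => ⟨γ.symm w, h γ.symm w w.2⟩
      left_inv := fun w => Subtype.ext (γ.symm_apply_apply w)
      right_inv := fun w => Subtype.ext (γ.apply_symm_apply w)
      map_mul' := fun u v => Subtype.ext (map_mul γ (u : T) (v : T)) }
  map_one' := by ext w; rfl
  map_mul' γ η := by ext w; rfl

theorem restrictHom_apply {T : Type*} [Group T] (W : Subgroup T)
    (h : ∀ (γ : MulAut T), ∀ w ∈ W, γ w ∈ W) (γ : MulAut T) (w : W) :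
    ((restrictHom W h γ w : W) : T) = γ w := rfl

/-- An automorphism restricted to an invariant subgroup of a finite group. -/
noncomputable def restrictTo {T : Type*} [Group T] [Finite T] (A : Subgroup T) (γ : MulAut T)
    (h : ∀ w ∈ A, γ w ∈ A) : MulAut A :=
  MulEquiv.ofBijective ((γ.toMonoidHom.comp A.subtype).codRestrict A fun w => h w w.2) <| by
    refine Finite.injective_iff_bijective.mp fun u v e => Subtype.ext (γ.injective ?_)
    exact congrArg Subtype.val e

theorem restrictTo_apply {T : Type*} [Group T] [Finite T] (A : Subgroup T) (γ : MulAut T)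
    (h : ∀ w ∈ A, γ w ∈ A) (w : A) : ((restrictTo A γ h w : A) : T) = γ w := rfl

/-- The derived subgroup is cyclic. -/
theorem derived_cyclic (hG : IsPGroup 2 G) {a₀ b₀ : G} (hbi : Bi a₀ b₀) (E : Subgroup G)
    (α : MulAut E) (τ : G) (hτ : τ ∉ E)
    (hN : ∀ g ∈ Subgroup.normalizer (E : Set G), g ∈ E ∨ τ⁻¹ * g ∈ E)
    (hC : Subgroup.centralizer (E : Set G) ≤ E) (h3 : α ^ 3 = 1)
    (hmove : ∃ y, y⁻¹ * α y ∉ P 2 (⊤ : Subgroup E)) (σ : MulAut E)
    (hσ : ∀ e : E, ((σ e : E) : G) = τ * e * τ⁻¹) (hinv : σ * α * σ⁻¹ = α⁻¹) :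
    IsCyclic (commutator G) := by
  classical
  haveI : Fact (Nat.Prime 2) := ⟨Nat.prime_two⟩
  haveI : Fact (Nat.Prime 3) := ⟨Nat.prime_three⟩
  haveI := normal_P (p := 2) (⊤ : Subgroup G)
  have hVR : ∀ K : Subgroup G, K ≤ P 2 ⊤ → ∃ h₁ h₂ : G, K = Subgroup.closure {h₁, h₂} :=
    two_generated G hG a₀ b₀ hbi
  have hEp : IsPGroup 2 E := hG.to_subgroup E
  have hα3 : ∀ e : E, α (α (α e)) = e := fun e => by
    have h := DFunLike.congr_fun h3 e
    simpa [pow_succ] using h
  have hσα : ∀ e : E, σ (α e) = α.symm (σ e) := fun e => by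
    have h := DFunLike.congr_fun hinv (σ e)
    simp only [MulAut.mul_apply, MulAut.inv_def, MulEquiv.symm_apply_apply] at h
    exact h
  -- the commutator with `α`
  set A : Subgroup E := Subgroup.closure (Set.range fun y : E => y⁻¹ * α y) with hA
  have hf : ∀ y : E, y⁻¹ * α y ∈ A := fun y => Subgroup.subset_closure ⟨y, rfl⟩
  haveI hAn : A.Normal := by
    refine ⟨fun u hu g => ?_⟩
    refine Subgroup.closure_induction (p := fun u _ => g * u * g⁻¹ ∈ A) ?_ (by simp) ?_ ?_ hu
    · rintro _ ⟨y, rfl⟩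
      have e : g * (y⁻¹ * α y) * g⁻¹ = ((y * g⁻¹)⁻¹ * α (y * g⁻¹)) * (g⁻¹⁻¹ * α g⁻¹)⁻¹ := by
        rw [map_mul, map_inv]; group
      rw [e]
      exact mul_mem (hf _) (inv_mem (hf _))
    · intro p q _ _ hp hq
      rw [conj_mul.symm]
      exact mul_mem hp hq
    · intro p _ hp
      rw [← conj_inv]
      exact inv_mem hp
  have hAα : ∀ u ∈ A, α u ∈ A := by
    intro u hu
    refine Subgroup.closure_induction (p := fun u _ => α u ∈ A) ?_ (by simp)
      (fun _ _ _ _ hp hq => by rw [map_mul]; exact mul_mem hp hq)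
      (fun _ _ hp => by rw [map_inv]; exact inv_mem hp) hu
    rintro _ ⟨y, rfl⟩
    show α (y⁻¹ * α y) ∈ A
    rw [map_mul, map_inv]; exact hf (α y)
  have hAσ : ∀ u ∈ A, σ u ∈ A := by
    intro u hu
    refine Subgroup.closure_induction (p := fun u _ => σ u ∈ A) ?_ (by simp)
      (fun _ _ _ _ hp hq => by rw [map_mul]; exact mul_mem hp hq)
      (fun _ _ hp => by rw [map_inv]; exact inv_mem hp) hu
    rintro _ ⟨y, rfl⟩
    show σ (y⁻¹ * α y) ∈ A
    have e : σ (y⁻¹ * α y) = ((α.symm (σ y))⁻¹ * α (α.symm (σ y)))⁻¹ := by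
      rw [map_mul, map_inv, hσα, MulEquiv.apply_symm_apply]; group
    rw [e]; exact inv_mem (hf _)
  -- `E` is generated by `A` and fixed points
  have hdec : ∀ e : E, ∃ c : E, α c = c ∧ e⁻¹ * c ∈ A := by
    intro e
    let X := {u : E // e⁻¹ * u ∈ A}
    have hX : ∀ u : E, e⁻¹ * u ∈ A → e⁻¹ * α u ∈ A := fun u hu => by
      have h : e⁻¹ * α u = (e⁻¹ * α e) * α (e⁻¹ * u) := by rw [map_mul, map_inv]; group
      rw [h]; exact mul_mem (hf e) (hAα _ hu)
    let π : Equiv.Perm X := Equiv.ofBijective (fun u => ⟨α u.1, hX u.1 u.2⟩)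
      (Finite.injective_iff_bijective.mp fun u v h => Subtype.ext (α.injective (congrArg Subtype.val h)))
    have hπ3 : π ^ (3 : ℕ) ^ 1 = 1 := by
      refine Equiv.ext fun u => Subtype.ext ?_
      rw [pow_one]
      show α (α (α u.1)) = u.1
      exact hα3 _
    have hp : IsPGroup 3 (Subgroup.zpowers π) := by
      obtain ⟨j, -, hj⟩ := (Nat.dvd_prime_pow Nat.prime_three).mp (orderOf_dvd_of_pow_eq_one hπ3)
      exact IsPGroup.of_card (n := j) (by rw [Nat.card_zpowers, hj])
    have hmod := hp.card_modEq_card_fixedPoints X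
    have hcX : Nat.card X = Nat.card A := Nat.card_congr
      { toFun := fun u => ⟨e⁻¹ * u.1, u.2⟩
        invFun := fun t => ⟨e * t.1, by simp⟩
        left_inv := fun u => Subtype.ext (by simp)
        right_inv := fun t => Subtype.ext (by simp) }
    obtain ⟨m, hm⟩ := IsPGroup.iff_card.mp (hEp.to_subgroup A)
    by_contra hno
    push Not at hno
    haveI : IsEmpty (MulAction.fixedPoints (Subgroup.zpowers π) X) := ⟨fun u =>
      hno u.1.1 (congrArg Subtype.val (u.2 ⟨π, Subgroup.mem_zpowers π⟩)) u.1.2⟩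
    rw [hcX, hm, Nat.card_of_isEmpty] at hmod
    exact absurd (Nat.prime_three.dvd_of_dvd_pow (Nat.modEq_zero_iff_dvd.mp hmod)) (by norm_num)
  -- the group `A`
  haveI := normal_P (p := 2) (⊤ : Subgroup A)
  have hAp : IsPGroup 2 A := hEp.to_subgroup A
  set β : MulAut A := restrictTo A α hAα with hβdef
  set s : MulAut A := restrictTo A σ hAσ with hsdef
  have hβv : ∀ t : A, ((β t : A) : E) = α t := fun t => rfl
  have hsv : ∀ t : A, ((s t : A) : E) = σ t := fun t => rfl
  have hβ3 : β ^ 3 = 1 := MulEquiv.ext fun t => Subtype.ext (hα3 (t : E))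
  have hsβ : ∀ t : A, s (β t) = β.symm (s t) := fun t => by
    refine β.injective ?_
    rw [β.apply_symm_apply]
    refine Subtype.ext ?_
    show α (σ (α t)) = σ t
    rw [hσα, MulEquiv.apply_symm_apply]
  have hgenA : Subgroup.closure (Set.range fun t : A => t⁻¹ * β t) = ⊤ := by
    refine Subgroup.map_injective A.subtype_injective (le_antisymm (Subgroup.map_mono le_top) ?_)
    rw [← MonoidHom.range_eq_map, Subgroup.range_subtype, MonoidHom.map_closure]
    nth_rewrite 1 [hA]
    rw [Subgroup.closure_le]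
    rintro _ ⟨y, rfl⟩
    obtain ⟨c, hc, hyc⟩ := hdec y
    have hmem : c⁻¹ * y ∈ A := by
      have h := inv_mem hyc
      simpa using h
    refine Subgroup.subset_closure
      ⟨(⟨c⁻¹ * y, hmem⟩ : A)⁻¹ * β ⟨c⁻¹ * y, hmem⟩, ⟨⟨c⁻¹ * y, hmem⟩, rfl⟩, ?_⟩
    show (c⁻¹ * y)⁻¹ * α (c⁻¹ * y) = y⁻¹ * α y
    rw [map_mul, map_inv, hc]; group
  set ρ := QuotientGroup.mk' (P 2 (⊤ : Subgroup A))
  have hQsq : ∀ q : A ⧸ P 2 (⊤ : Subgroup A), q * q = 1 := fun q => by
    obtain ⟨t, rfl⟩ := QuotientGroup.mk'_surjective _ q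
    rw [← map_mul, ← sq]; exact (QuotientGroup.eq_one_iff _).mpr (sq_mem_sq t)
  have hQc : ∀ p q : A ⧸ P 2 (⊤ : Subgroup A), Commute p q := fun p q => by
    calc p * q = (p * q)⁻¹ := (inv_eq_of_mul_eq_one_right (hQsq _)).symm
      _ = q * p := by
        rw [mul_inv_rev, inv_eq_of_mul_eq_one_right (hQsq q), inv_eq_of_mul_eq_one_right (hQsq p)]
  set βQ := quotHom A β
  have hρ : ∀ t : A, ρ t = 1 ↔ t ∈ P 2 (⊤ : Subgroup A) := fun t => QuotientGroup.eq_one_iff t
  have hfpfQ : ∀ q, βQ q = q → q = 1 := by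
    let f : A ⧸ P 2 (⊤ : Subgroup A) →* A ⧸ P 2 (⊤ : Subgroup A) :=
      MonoidHom.mk' (fun q => q * βQ q) fun p q => by
        rw [map_mul]; exact (hQc q (βQ p)).mul_mul_mul_comm _ _
    have hsurj : Function.Surjective f := by
      rw [← MonoidHom.range_eq_top, ← top_le_iff,
        ← Subgroup.map_top_of_surjective ρ (QuotientGroup.mk'_surjective _),
        ← congrArg (Subgroup.map ρ) hgenA,
        MonoidHom.map_closure, Subgroup.closure_le]
      rintro _ ⟨_, ⟨t, rfl⟩, rfl⟩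
      refine ⟨ρ t, ?_⟩
      show ρ t * βQ (ρ t) = ρ (t⁻¹ * β t)
      rw [quotHom_mk, map_mul, map_inv, inv_eq_of_mul_eq_one_right (hQsq (ρ t))]
    intro q hq
    exact (Finite.injective_iff_surjective.mpr hsurj) (show f q = f 1 by
      show q * βQ q = 1 * βQ 1
      rw [hq, hQsq, map_one, one_mul])
  have hfpf : ∀ t ∉ P 2 (⊤ : Subgroup A), t⁻¹ * β t ∉ P 2 (⊤ : Subgroup A) := by
    intro t ht hm
    apply ht
    rw [← hρ]
    apply hfpfQ
    rw [quotHom_mk]
    exact (QuotientGroup.eq.mpr hm).symm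
  set ι : A →* G := E.subtype.comp A.subtype
  have hι : Function.Injective ι := E.subtype_injective.comp A.subtype_injective
  have hιP : ∀ t ∈ P 2 (⊤ : Subgroup A), ι t ∈ P 2 (⊤ : Subgroup G) := fun t ht => by
    have h : (P 2 (⊤ : Subgroup A)).map ι ≤ P 2 ⊤ := by rw [map_P]; exact P_mono le_top
    exact h ⟨t, ht, rfl⟩
  have hιE : ∀ t : A, ι t ∈ E := fun t => (t : E).2
  -- the quotient has order four
  have hQ4 : Nat.card (A ⧸ P 2 (⊤ : Subgroup A)) = 4 := by
    set e := Subgroup.equivMapOfInjective A E.subtype E.subtype_injective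
    have hne : A.map E.subtype ≠ ⊤ := fun h => hτ (Subgroup.map_subtype_le A (h ▸ Subgroup.mem_top τ))
    have h8 := index_sq_le hG hbi hne
    rw [← Subgroup.map_top_of_surjective e.toMonoidHom e.surjective, ← map_P] at h8
    rw [show (Subgroup.map e.toMonoidHom (P 2 (⊤ : Subgroup A))).index =
      (P 2 (⊤ : Subgroup A)).index from Subgroup.index_map_equiv _ e] at h8
    have hq3 : IsPGroup 3 (Subgroup.zpowers βQ) := by
      have h3' : βQ ^ (3 : ℕ) ^ 1 = 1 := by rw [pow_one, ← map_pow, hβ3, map_one]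
      obtain ⟨j, -, hj⟩ := (Nat.dvd_prime_pow Nat.prime_three).mp (orderOf_dvd_of_pow_eq_one h3')
      exact IsPGroup.of_card (n := j) (by rw [Nat.card_zpowers, hj])
    have hmod := hq3.card_modEq_card_fixedPoints (A ⧸ P 2 (⊤ : Subgroup A))
    have hfix : MulAction.fixedPoints (Subgroup.zpowers βQ) (A ⧸ P 2 (⊤ : Subgroup A)) = {1} :=
      Set.eq_singleton_iff_unique_mem.mpr ⟨fun g =>
        map_one (g : MulAut (A ⧸ P 2 (⊤ : Subgroup A))),
        fun q hq => hfpfQ q (hq ⟨βQ, Subgroup.mem_zpowers βQ⟩)⟩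
    rw [hfix] at hmod
    have hmod' : Nat.card (A ⧸ P 2 (⊤ : Subgroup A)) % 3 = 1 := by
      unfold Nat.ModEq at hmod
      simpa using hmod
    obtain ⟨m, hm⟩ := IsPGroup.iff_card.mp (hAp.to_quotient (P 2 (⊤ : Subgroup A)))
    rw [Subgroup.index] at h8
    rw [hm] at h8 hmod' ⊢
    have hm3 : m ≤ 3 := (Nat.pow_le_pow_iff_right (by norm_num : 1 < 2)).1 (by simpa using h8)
    interval_cases m
    · exfalso
      obtain ⟨y, hy⟩ := hmove
      have htop : P 2 (⊤ : Subgroup A) = ⊤ := Subgroup.index_eq_one.mp hm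
      have hb := top_of_sup_sq hAp (K := ⊥) (by rw [bot_sup_eq, htop])
      have h1 : (⟨_, hf y⟩ : A) = 1 := Subgroup.mem_bot.mp (hb.ge (Subgroup.mem_top _))
      exact hy ((show y⁻¹ * α y = 1 from congrArg Subtype.val h1) ▸ one_mem _)
    · norm_num at hmod'
    · norm_num
    · norm_num at hmod'
  -- generation of `A`
  have hgen2 : ∀ u v : A, u ∉ P 2 (⊤ : Subgroup A) → v ∉ P 2 (⊤ : Subgroup A) →
      u⁻¹ * v ∉ P 2 (⊤ : Subgroup A) → Subgroup.closure {u, v} = ⊤ := by
    intro u v hu hv huv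
    refine top_of_sup_sq hAp (top_le_iff.mp fun t _ => ?_)
    have hmem : ∀ r : A, r ∈ Subgroup.closure ({u, v} : Set A) → ρ t = ρ r →
        t ∈ Subgroup.closure ({u, v} : Set A) ⊔ P 2 ⊤ := fun r hr e => by
      have e' : t = r * (r⁻¹ * t) := by group
      rw [e']
      exact mul_mem (Subgroup.mem_sup_left hr) (Subgroup.mem_sup_right (QuotientGroup.eq.mp e.symm))
    have hui : (ρ u)⁻¹ = ρ u := inv_eq_of_mul_eq_one_right (hQsq _)
    rcases four_univ hQ4 (fun e => hu ((hρ u).mp e)) (fun e => hv ((hρ v).mp e))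
      (fun e => huv (QuotientGroup.eq.mp e)) (fun e => huv ((hρ _).mp (by
        rw [map_mul, map_inv, hui]; exact e))) (ρ t) with e | e | e | e
    · exact hmem 1 (one_mem _) (e.trans (map_one ρ).symm)
    · exact hmem u (mem_pair_left u v) e
    · exact hmem v (mem_pair_right u v) e
    · exact hmem (u * v) (mul_mem (mem_pair_left u v) (mem_pair_right u v))
        (e.trans (map_mul ρ u v).symm)
  obtain ⟨x, hx⟩ : ∃ x : A, x ∉ P 2 (⊤ : Subgroup A) := by
    by_contra hno
    push Not at hno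
    have h := Subgroup.index_eq_one.mpr (top_le_iff.mp fun t (_ : t ∈ (⊤ : Subgroup A)) => hno t)
    rw [Subgroup.index, hQ4] at h
    omega
  have hβx : β x ∉ P 2 (⊤ : Subgroup A) := fun h => hx (by simpa using map_mem_sq β⁻¹ h)
  have hAtop : Subgroup.closure {x, β x} = ⊤ := hgen2 x _ hx hβx (hfpf x hx)
  have hR : ∀ H : Subgroup A, H ≤ P 2 ⊤ → ∃ h₁ h₂ : A, H = Subgroup.closure {h₁, h₂} := by
    intro H hH
    have hle : H.map ι ≤ P 2 ⊤ := by
      rintro _ ⟨t, ht, rfl⟩; exact hιP t (hH ht)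
    obtain ⟨h₁, h₂, hh⟩ := hVR _ hle
    have m₁ : h₁ ∈ H.map ι := hh ▸ mem_pair_left _ _
    have m₂ : h₂ ∈ H.map ι := hh ▸ mem_pair_right _ _
    obtain ⟨t₁, -, e₁⟩ := m₁
    obtain ⟨t₂, -, e₂⟩ := m₂
    refine ⟨t₁, t₂, Subgroup.map_injective hι ?_⟩
    rw [hh, MonoidHom.map_closure, Set.image_pair, e₁, e₂]
  -- `E` acts trivially modulo squares, `τ` does not
  set conjA : E →* MulAut A := MulAut.conjNormal
  have hconjA : ∀ (e : E) (t : A), ι (conjA e t) = e * ι t * (e : G)⁻¹ := fun e t => rfl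
  have hcompA : ∀ (k : E) (t : A), conjA k (β t) = β (conjA (α.symm k) t) := fun k t => by
    refine Subtype.ext ?_
    show k * α (t : E) * k⁻¹ = α (α.symm k * (t : E) * (α.symm k)⁻¹)
    rw [map_mul, map_mul, map_inv, MulEquiv.apply_symm_apply]
  have hEQ : ∀ (e : E) (t : A), t⁻¹ * conjA e t ∈ P 2 (⊤ : Subgroup A) := by
    intro e t
    have h := act_trivial hEp hQ4 ((quotHom A).comp conjA) βQ hfpfQ (fun k => ⟨α.symm k, fun q => by
      obtain ⟨t, rfl⟩ := QuotientGroup.mk'_surjective _ q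
      show quotHom A (conjA k) (βQ _) = βQ (quotHom A (conjA (α.symm k)) _)
      rw [quotHom_mk, quotHom_mk, quotHom_mk, quotHom_mk, hcompA]⟩) hQsq e (ρ t)
    exact QuotientGroup.eq.mp (((quotHom_mk (conjA e) t).symm.trans h).symm)
  have hsP : ∀ t : A, t ∉ P 2 (⊤ : Subgroup A) → s t ∉ P 2 (⊤ : Subgroup A) :=
    fun t ht h => ht (by simpa using map_mem_sq s⁻¹ h)
  have hsmove : ¬ ∀ t : A, t⁻¹ * s t ∈ P 2 (⊤ : Subgroup A) := by
    intro hall
    apply hfpf x hx
    have h1 : ρ (s (β x)) = ρ (β x) := (QuotientGroup.eq.mpr (hall (β x))).symm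
    rw [hsβ] at h1
    have h2 : ρ (β.symm (s x)) = ρ (β.symm x) := by
      have h' : ρ (s x) = ρ x := (QuotientGroup.eq.mpr (hall x)).symm
      have h'' := congrArg (quotHom A β.symm) h'
      rwa [quotHom_mk, quotHom_mk] at h''
    rw [h2] at h1
    have hsy : β.symm x = β (β x) := β.injective (by
      rw [β.apply_symm_apply]; exact Subtype.ext (hα3 (x : E)).symm)
    rw [hsy, ← quotHom_mk β (β x)] at h1
    have h4 : ρ (β x) = 1 := hfpfQ _ h1
    exact absurd ((hρ _).mp h4) hβx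
  -- the small configuration
  have hsmall : ∀ z : A, z ^ 2 = 1 → (∀ t ∈ P 2 (⊤ : Subgroup A), t = 1 ∨ t = z) →
      (∀ t : A, t ∉ P 2 (⊤ : Subgroup A) → t ^ 2 = z) →
      (∃ t : A, ι t ∉ P 2 (⊤ : Subgroup G)) → IsCyclic (commutator G) := by
    intro z hz2 hzP hzsq hout
    obtain ⟨a, ha, hsa⟩ : ∃ a : A, ι a ∉ P 2 (⊤ : Subgroup G) ∧
        a⁻¹ * s a ∉ P 2 (⊤ : Subgroup A) := by
      by_contra hno
      push Not at hno
      apply hsmove
      intro t
      by_cases ht : ι t ∈ P 2 (⊤ : Subgroup G)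
      · obtain ⟨a, ha⟩ := hout
        have hat : ι (t * a) ∉ P 2 (⊤ : Subgroup G) := by
          rw [map_mul]
          exact fun h => ha ((Subgroup.mul_mem_cancel_left _ ht).mp h)
        have h1 : ρ (s (t * a)) = ρ (t * a) := (QuotientGroup.eq.mpr (hno _ hat)).symm
        have h2 : ρ (s a) = ρ a := (QuotientGroup.eq.mpr (hno _ ha)).symm
        rw [map_mul, map_mul, map_mul, h2] at h1
        exact QuotientGroup.eq.mp (mul_right_cancel h1).symm
      · exact hno t ht
    have haP : a ∉ P 2 (⊤ : Subgroup A) := fun h => ha (hιP a h)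
    have hzmem : z ∈ P 2 (⊤ : Subgroup A) := hzsq a haP ▸ sq_mem_sq a
    have hsz : s z = z := by
      rw [← hzsq a haP, map_pow, hzsq _ (hsP a haP), hzsq a haP]
    set q := a⁻¹ * s a with hq
    have hq2 : q ^ 2 = z := hzsq q hsa
    have haq : (a * q) ^ 2 = z := by rw [hq, mul_inv_cancel_left]; exact hzsq _ (hsP a haP)
    have hconj : a⁻¹ * q * a = q⁻¹ := by
      have h1 : a * q * a = q := by
        refine mul_right_cancel (b := q) ?_
        rw [← sq q, hq2, ← haq]
        simp [pow_two, mul_assoc]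
      calc a⁻¹ * q * a = a⁻¹ * (a⁻¹ * (a * q * a)) := by group
        _ = (a ^ 2)⁻¹ * q := by rw [h1]; simp [pow_two, mul_assoc]
        _ = q⁻¹ := by rw [hzsq a haP, ← hq2]; simp [pow_two, mul_assoc]
    have hq1 : q ≠ 1 ∧ q ≠ z :=
      ⟨fun e => hsa (e ▸ one_mem _), fun e => hsa (e ▸ hzmem)⟩
    refine small_case hG hbi E τ hτ hN hC (a := ι a) (q := ι q) (z := ι z) ha (hιE a) (hιE q)
      (by rw [← map_pow, hzsq a haP]) (by rw [← map_pow, hq2]) (by rw [← map_pow, hz2, map_one])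
      (by rw [← map_inv, ← map_mul, ← map_mul, hconj, map_inv]) ?_
      ⟨fun e => hq1.1 (hι (e.trans (map_one ι).symm)), fun e => hq1.2 (hι e)⟩ ?_ ?_ ?_
    · have e : ι q = ⁅(ι a)⁻¹, τ⁆ := by
        show ι (a⁻¹ * s a) = _
        rw [map_mul, map_inv, commutatorElement_def, inv_inv,
          show ι (s a) = τ * ι a * τ⁻¹ from hσ (a : E)]
        group
      rw [e]
      exact Subgroup.commutator_mem_commutator (Subgroup.mem_top _) (Subgroup.mem_top _)
    · intro e he
      have h := hEQ ⟨e, he⟩ a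
      rcases hzP _ h with h' | h'
      · left
        rw [← hconjA ⟨e, he⟩ a, ← inv_mul_eq_one.mp h']
      · right
        rw [← hconjA ⟨e, he⟩ a, eq_mul_of_inv_mul_eq h', map_mul]
    · rw [← show ι (s a) = τ * ι a * τ⁻¹ from hσ (a : E), ← map_mul, hq, mul_inv_cancel_left]
    · rw [← show ι (s z) = τ * ι z * τ⁻¹ from hσ (z : E), hsz]
  rcases gen_cases A hAp β hβ3 hfpf ⟨x, β x, hAtop⟩ hR with hc | hq
  swap
  · -- quaternion shape
    obtain ⟨z, hz1, hz2, hzc, hzP, hzsq⟩ := hq
    by_cases hout : ∃ t : A, ι t ∉ P 2 (⊤ : Subgroup G)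
    · exact hsmall z hz2 hzP hzsq hout
    push Not at hout
    exfalso
    have h4 : 4 ≤ Nat.card (P 2 (⊤ : Subgroup G)) := by
      refine le_trans ?_ (Nat.card_le_card_of_injective (fun t : A => (⟨ι t, hout t⟩ : P 2 (⊤ : Subgroup G)))
        fun u v e => hι (show ι u = ι v from congrArg (fun p : P 2 (⊤ : Subgroup G) => (p : G)) e))
      rw [← hQ4]
      exact Nat.card_le_card_of_surjective _ (QuotientGroup.mk'_surjective _)
    obtain ⟨c, hcT, hcz, hcc, hc2⟩ := exists_central_four hG (z := ι z)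
      (by rw [← map_pow, hz2, map_one]) h4
    have hzpow : ∀ k ∈ Subgroup.zpowers (ι z), ∃ t ∈ Subgroup.zpowers z, ι t = k := fun k hk => by
      rw [← MonoidHom.map_zpowers] at hk
      exact hk
    have hzPle : Subgroup.zpowers z ≤ P 2 (⊤ : Subgroup A) :=
      Subgroup.zpowers_le.mpr (hzsq x hx ▸ sq_mem_sq x)
    have hnc : ¬ Commute x (β x) := by
      intro h
      apply hz1
      have hxy : x * β x ∉ P 2 (⊤ : Subgroup A) := by
        intro hm
        apply hfpf x hx
        have e : x⁻¹ * β x = (x ^ 2)⁻¹ * (x * β x) := by simp [pow_two, mul_assoc]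
        rw [e]
        exact mul_mem (inv_mem (sq_mem_sq x)) hm
      have h2 := hzsq _ hxy
      rwa [h.mul_pow, hzsq x hx, hzsq _ hβx, ← sq, hz2, eq_comm] at h2
    have hkill : ∀ t : A, ι t * c ∈ Subgroup.zpowers (ι z) → ∀ u : A, Commute t u := by
      intro t ht u
      obtain ⟨k, -, hk⟩ := hzpow _ ht
      have hc' : c = ι (t⁻¹ * k) := by rw [map_mul, map_inv, hk, inv_mul_cancel_left]
      have h2 : Commute (t⁻¹ * k) u := by
        refine hι ?_
        rw [map_mul ι (t⁻¹ * k) u, map_mul ι u (t⁻¹ * k), ← hc']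
        exact (hcc _ (hout u)).symm.eq
      obtain ⟨n, rfl⟩ : ∃ n : A, k = n := ⟨k, rfl⟩
      have hkc : ∀ g : A, Commute k g := by
        intro g
        obtain ⟨k', hk'⟩ := hzpow _ ht
        have : k' = k := hι (hk'.2.trans hk.symm)
        subst this
        obtain ⟨i, rfl⟩ := Subgroup.mem_zpowers_iff.mp hk'.1
        exact (show Commute z g from (hzc g).symm).zpow_left i
      have e : t = k * (t⁻¹ * k)⁻¹ := by group
      rw [e]
      exact (hkc u).mul_left h2.inv_left
    have hin : ∀ t : A, ι t ∈ Subgroup.zpowers (ι z) → t ∈ P 2 (⊤ : Subgroup A) := fun t ht => by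
      obtain ⟨k, hk, e⟩ := hzpow _ ht
      rw [← hι e]; exact hzPle hk
    have hcomm : ⁅ι x, ι (β x)⁆ ∈ Subgroup.zpowers (ι z) := by
      rw [← map_commutatorElement]
      rcases hzP _ (commutator_mem_sq x (β x)) with e | e <;> rw [e]
      · rw [map_one]; exact one_mem _
      · exact Subgroup.mem_zpowers _
    have hxx : ∀ t : A, t ∉ P 2 (⊤ : Subgroup A) → ι t ^ 2 ∈ Subgroup.zpowers (ι z) := fun t ht => by
      rw [← map_pow, hzsq t ht]; exact Subgroup.mem_zpowers _
    have hzcomm : ∀ t : A, Commute (ι t) (ι z) := fun t => (show Commute t z from hzc t).map ι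
    rcases three_dependent hVR (hout z) (hout x) (hout (β x)) hcT (hzcomm x) (hzcomm _)
      (hcc (ι z) (hout z)).symm (hxx x hx) (hxx _ hβx) hc2 hcomm
      (by rw [commutatorElement_eq_one_iff_commute.mpr (hcc _ (hout x))]; exact one_mem _)
      (by rw [commutatorElement_eq_one_iff_commute.mpr (hcc _ (hout (β x)))]; exact one_mem _)
      with e | e | e | e | e | e | e
    · exact hx (hin x e)
    · exact hβx (hin _ e)
    · exact hcz e
    · rw [← map_mul] at e
      apply hfpf x hx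
      have e' : x⁻¹ * β x = (x ^ 2)⁻¹ * (x * β x) := by simp [pow_two, mul_assoc]
      rw [e']
      exact mul_mem (inv_mem (sq_mem_sq x)) (hin _ e)
    · exact hnc (hkill x e (β x))
    · exact hnc (hkill _ e x).symm
    · rw [← map_mul] at e
      have h := hkill _ e x
      apply hnc
      have h' : Commute (x⁻¹ * (x * β x)) x := (Commute.refl x).inv_left.mul_left h
      rw [inv_mul_cancel_left] at h'
      exact h'.symm
  -- abelian case
  set W : Subgroup A :=
    { carrier := {t | t ^ 2 = 1}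
      one_mem' := one_pow 2
      mul_mem' := fun {u v} hu hv => by
        show (u * v) ^ 2 = 1
        rw [(show Commute u v from hc u v).mul_pow, hu, hv, one_mul]
      inv_mem' := fun {u} hu => by
        show u⁻¹ ^ 2 = 1
        rw [inv_pow, hu, inv_one] } with hWdef
  have hW4 : Nat.card W = 4 := by
    let sqA : A →* A := MonoidHom.mk' (fun t => t ^ 2) fun u v => (show Commute u v from hc u v).mul_pow 2
    have e1 : sqA.ker = W := by ext t; rfl
    have e2 : sqA.range = P 2 (⊤ : Subgroup A) := le_antisymm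
      (by rintro _ ⟨t, rfl⟩; exact sq_mem_sq t) (P_le_iff.mpr fun t _ => ⟨t, rfl⟩)
    have h1 := Subgroup.card_mul_index sqA.ker
    have h2 := Subgroup.card_mul_index sqA.range
    rw [Subgroup.index_ker, e1] at h1
    rw [e2] at h1 h2
    rw [Subgroup.index, hQ4] at h2
    have : 0 < Nat.card (P 2 (⊤ : Subgroup A)) := Nat.card_pos
    nlinarith
  have hfix : ∀ t : A, β t = t → t = 1 := fun t => fixed_eq_one hAp hc β hβ3 hfpf
  obtain ⟨⟨w, hwW⟩, hw1'⟩ : ∃ w : W, w ≠ 1 := by
    haveI : Nontrivial W := Finite.one_lt_card_iff_nontrivial.1 (by omega)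
    exact exists_ne 1
  have hw1 : w ≠ 1 := fun e => hw1' (Subtype.ext e)
  have hW : ∀ γ : MulAut A, ∀ u ∈ W, γ u ∈ W := fun γ u hu => by
    show γ u ^ 2 = 1
    rw [← map_pow, show u ^ 2 = 1 from hu, map_one]
  set w' := β w with hw'
  have hw'W : w' ∈ W := hW β w hwW
  have hw'1 : w' ≠ 1 := fun e => hw1 (β.injective (e.trans (map_one β).symm))
  have hww' : w ≠ w' := fun e => hw1 (hfix w e.symm)
  have hwi : w⁻¹ = w := inv_eq_of_mul_eq_one_right (by rw [← sq]; exact hwW)
  have hprod : w * w' ≠ 1 := fun e => hww' (hwi.symm.trans (inv_eq_of_mul_eq_one_right e))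
  have hWall : ∀ u ∈ W, u = 1 ∨ u = w ∨ u = w' ∨ u = w * w' := fun u hu => by
    rcases four_univ hW4 (u := ⟨w, hwW⟩) (v := ⟨w', hw'W⟩) (fun e => hw1 (congrArg Subtype.val e))
      (fun e => hw'1 (congrArg Subtype.val e)) (fun e => hww' (congrArg Subtype.val e))
      (fun e => hprod (congrArg Subtype.val e)) ⟨u, hu⟩ with e | e | e | e
    · exact Or.inl (congrArg Subtype.val e)
    · exact Or.inr (Or.inl (congrArg Subtype.val e))
    · exact Or.inr (Or.inr (Or.inl (congrArg Subtype.val e)))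
    · exact Or.inr (Or.inr (Or.inr (congrArg Subtype.val e)))
  by_cases hWΦ : ∀ u ∈ W, ι u ∈ P 2 (⊤ : Subgroup G)
  swap
  · -- exponent two
    push Not at hWΦ
    obtain ⟨u, huW, hu⟩ := hWΦ
    have hP1 : ∀ t ∈ P 2 (⊤ : Subgroup A), t = 1 := by
      by_contra hne
      push Not at hne
      obtain ⟨t, htP, ht1⟩ := hne
      obtain ⟨i, hiz, hio⟩ := PGroupsBasic.exists_orderOf_eq_of_ne_bot (p := 2)
        (hAp.to_subgroup (Subgroup.zpowers t)) (fun e => ht1 (Subgroup.zpowers_eq_bot.mp e))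
      have hiP : i ∈ P 2 (⊤ : Subgroup A) := Subgroup.zpowers_le.mpr htP hiz
      have hiW : i ∈ W := by show i ^ 2 = 1; rw [← hio]; exact pow_orderOf_eq_one i
      have hi1 : i ≠ 1 := fun e => by rw [e, orderOf_one] at hio; omega
      -- two fixed-point-free related involutions in the squares
      apply hu
      apply hιP
      have hβi : β i ∈ P 2 (⊤ : Subgroup A) := map_mem_sq β hiP
      have hii : i⁻¹ = i := inv_eq_of_mul_eq_one_right (by rw [← sq]; exact hiW)
      have n : β i ≠ i := fun e => hi1 (hfix i e)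
      rcases four_univ hW4 (u := ⟨i, hiW⟩) (v := ⟨β i, hW β i hiW⟩)
        (fun e => hi1 (congrArg Subtype.val e))
        (fun e => hi1 (β.injective ((congrArg Subtype.val e).trans (map_one β).symm)))
        (fun e => n (congrArg Subtype.val e).symm)
        (fun e => n ((inv_eq_of_mul_eq_one_right (congrArg Subtype.val e)).symm.trans hii))
        ⟨u, huW⟩ with e | e | e | e <;> rw [show u = _ from congrArg Subtype.val e]
      · exact one_mem _
      · exact hiP
      · exact hβi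
      · exact mul_mem hiP hβi
    exact hsmall 1 (one_pow 2) (fun t ht => Or.inl (hP1 t ht))
      (fun t _ => hP1 _ (sq_mem_sq t)) ⟨u, hu⟩
  -- the four-group lies in the square subgroup
  have hιw : ι w ^ 2 = 1 := by rw [← map_pow, show w ^ 2 = 1 from hwW, map_one]
  have hιw' : ι w' ^ 2 = 1 := by rw [← map_pow, show w' ^ 2 = 1 from hw'W, map_one]
  have hιww' : Commute (ι w) (ι w') := (show Commute w w' from hc w w').map ι
  have hne1 : ι w ≠ 1 := fun e => hw1 (hι (e.trans (map_one ι).symm))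
  have hne1' : ι w' ≠ 1 := fun e => hw'1 (hι (e.trans (map_one ι).symm))
  have hne2 : ι w ≠ ι w' := fun e => hww' (hι e)
  have hΦw := four_central hG hVR (hWΦ w hwW) (hWΦ w' hw'W) hιw hιw' hιww' hne1 hne1' hne2
  have hΦw' := four_central hG hVR (hWΦ w' hw'W) (hWΦ w hwW) hιw' hιw hιww'.symm hne1' hne1
    hne2.symm
  have hEW : ∀ (e : E) (u : A), u ∈ W → conjA e u = u := fun e u hu => by
    have h := act_trivial hEp hW4 ((restrictHom W hW).comp conjA) (restrictHom W hW β)
      (fun p hp => Subtype.ext (hfix p (congrArg Subtype.val hp)))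
      (fun k => ⟨α.symm k, fun p => Subtype.ext (hcompA k p)⟩)
      (fun p => Subtype.ext (by show (p : A) * p = 1; rw [← sq]; exact p.2)) e ⟨u, hu⟩
    exact congrArg Subtype.val h
  have hEw : ∀ e ∈ E, ∀ u ∈ W, Commute e (ι u) := fun e he u hu => by
    have h := congrArg ι (hEW ⟨e, he⟩ u hu)
    rw [hconjA] at h
    exact mul_inv_eq_iff_eq_mul.mp h
  set CW := Subgroup.centralizer ({ι w, ι w'} : Set G)
  have hCW : ∀ g, g ∈ CW ↔ Commute g (ι w) ∧ Commute g (ι w') := fun g => by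
    rw [Subgroup.mem_centralizer_iff]
    simp only [Set.mem_insert_iff, Set.mem_singleton_iff, forall_eq_or_imp, forall_eq]
    exact ⟨fun h => ⟨h.1.symm, h.2.symm⟩, fun h => ⟨h.1.symm, h.2.symm⟩⟩
  have hECW : E ≤ CW := fun e he => (hCW e).mpr ⟨hEw e he w hwW, hEw e he w' hw'W⟩
  have hτW : τ ∉ CW := by
    intro h
    obtain ⟨h1, h2⟩ := (hCW τ).mp h
    have hs1 : s w = w := hι (by
      rw [show ι (s w) = τ * ι w * τ⁻¹ from hσ (w : E), h1.eq, mul_inv_cancel_right])
    have hs2 : s w' = w' := hι (by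
      rw [show ι (s w') = τ * ι w' * τ⁻¹ from hσ (w' : E), h2.eq, mul_inv_cancel_right])
    rw [hw', hsβ, hs1, MulEquiv.symm_apply_eq] at hs2
    exact hw1 (hfix w (by
      have h3' : β (β (β w)) = w := Subtype.ext (hα3 (w : E))
      rw [← hs2] at h3'
      exact h3'))
  have hCWE : CW ≤ E := by
    by_contra hno
    obtain ⟨g, hg, hgE, hgN⟩ := exists_normalizing hG
      (lt_of_le_of_ne hECW fun e => hno e.ge)
    rcases hN g hgN with h | h
    · exact hgE h
    · apply hτW
      have e : τ = g * (τ⁻¹ * g)⁻¹ := by group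
      rw [e]; exact mul_mem hg (inv_mem (hECW h))
  have hΦE : P 2 (⊤ : Subgroup G) ≤ E := fun g hg => hCWE ((hCW g).mpr ⟨hΦw g hg, hΦw' g hg⟩)
  haveI : E.Normal := PGroupsBasic.normal_of_commutator_le (commutator_le_sq.trans hΦE)
  have hall : ∀ g : G, g ∈ E ∨ τ⁻¹ * g ∈ E := fun g => hN g (by
    rw [Subgroup.normalizer_eq_top]; exact Subgroup.mem_top g)
  by_cases hfixE : ∀ c : E, α c = c → c = 1
  · -- `E` is abelian
    have hAE : ∀ e : E, e ∈ A := fun e => by
      obtain ⟨c, hc', hm⟩ := hdec e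
      rw [hfixE c hc', mul_one] at hm
      exact inv_mem_iff.mp hm
    have hEc : ∀ u v : E, Commute u v := fun u v =>
      congrArg Subtype.val (hc ⟨u, hAE u⟩ ⟨v, hAE v⟩)
    let δ : E →* E := MonoidHom.mk' (fun u => u⁻¹ * σ u) fun u v => by
      rw [map_mul, mul_inv_rev, (hEc v⁻¹ u⁻¹).eq]
      exact (hEc v⁻¹ (σ u)).mul_mul_mul_comm _ _
    set D := δ.range.map E.subtype
    have hδD : ∀ u : E, ((δ u : E) : G) ∈ D := fun u => ⟨δ u, ⟨u, rfl⟩, rfl⟩
    haveI : D.Normal := by
      refine ⟨?_⟩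
      rintro _ ⟨_, ⟨u, rfl⟩, rfl⟩ g
      rcases hall g with h | h
      · have : (⟨g, h⟩ : E) * δ u * ⟨g, h⟩⁻¹ = δ u := by
          rw [(hEc ⟨g, h⟩ (δ u)).eq, mul_inv_cancel_right]
        show g * ((δ u : E) : G) * g⁻¹ ∈ D
        rw [show g * ((δ u : E) : G) * g⁻¹ = ((δ u : E) : G) from congrArg Subtype.val this]
        exact hδD u
      · have e2 : (⟨τ⁻¹ * g, h⟩ : E) * δ u * ⟨τ⁻¹ * g, h⟩⁻¹ = δ u := by
          rw [(hEc ⟨τ⁻¹ * g, h⟩ (δ u)).eq, mul_inv_cancel_right]
        have e3 : g * ((δ u : E) : G) * g⁻¹ = ((δ (σ u) : E) : G) := by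
          calc g * ((δ u : E) : G) * g⁻¹
              = τ * ((τ⁻¹ * g) * ((δ u : E) : G) * (τ⁻¹ * g)⁻¹) * τ⁻¹ := by group
            _ = τ * ((δ u : E) : G) * τ⁻¹ := by
              rw [show τ⁻¹ * g * ((δ u : E) : G) * (τ⁻¹ * g)⁻¹ = ((δ u : E) : G) from
                congrArg Subtype.val e2]
            _ = ((σ (δ u) : E) : G) := (hσ _).symm
            _ = _ := by
              show ((σ (u⁻¹ * σ u) : E) : G) = _
              rw [map_mul, map_inv]; rfl
        show g * ((δ u : E) : G) * g⁻¹ ∈ D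
        rw [e3]
        exact hδD _
    set π := QuotientGroup.mk' D
    have hτe : ∀ e : E, Commute (π τ) (π e) := fun e => by
      refine mul_inv_eq_iff_eq_mul.mp ?_
      rw [← map_inv, ← map_mul, ← map_mul, ← hσ e]
      exact (QuotientGroup.eq.mpr (hδD e)).symm
    have hee : ∀ e f : E, Commute (π e) (π f) := fun e f =>
      (show Commute (e : G) (f : G) from congrArg Subtype.val (hEc e f)).map π
    have hcases : ∀ g : G, (∃ e : E, π g = π e) ∨ ∃ e : E, π g = π τ * π e := fun g => by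
      rcases hall g with h | h
      · exact Or.inl ⟨⟨g, h⟩, rfl⟩
      · exact Or.inr ⟨⟨_, h⟩, by rw [← map_mul, mul_inv_cancel_left]⟩
    have hle : commutator G ≤ D := by
      rw [_root_.commutator_def, Subgroup.commutator_le]
      intro p _ q _
      rw [← QuotientGroup.eq_one_iff]
      show π ⁅p, q⁆ = 1
      rw [map_commutatorElement, commutatorElement_eq_one_iff_commute]
      rcases hcases p with ⟨e, he⟩ | ⟨e, he⟩ <;> rcases hcases q with ⟨f, hf'⟩ | ⟨f, hf'⟩ <;>
        rw [he, hf']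
      · exact hee e f
      · exact (hτe e).symm.mul_right (hee e f)
      · exact (hτe f).mul_left (hee e f)
      · exact ((Commute.refl _).mul_right (hτe f)).mul_left
          ((hτe e).symm.mul_right (hee e f))
    -- `D` is cyclic
    obtain ⟨y, hy, hsy⟩ : ∃ y : A, y ∉ P 2 (⊤ : Subgroup A) ∧ y⁻¹ * s y ∉ P 2 (⊤ : Subgroup A) := by
      by_contra hno
      push Not at hno
      refine hsmove fun t => ?_
      by_cases ht : t ∈ P 2 (⊤ : Subgroup A)
      · exact mul_mem (inv_mem ht) (map_mem_sq s ht)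
      · exact hno t ht
    have hgenE : Subgroup.closure ({(y : E), σ y} : Set E) = ⊤ := by
      have h := congrArg (Subgroup.map A.subtype) (hgen2 y (s y) hy (hsP y hy) hsy)
      rw [MonoidHom.map_closure, Set.image_pair, ← MonoidHom.range_eq_map,
        Subgroup.range_subtype] at h
      exact h.trans (top_le_iff.mp fun e _ => hAE e)
    have hσσ : σ (σ (y : E)) = (y : E) := by
      refine Subtype.ext ?_
      rw [hσ, hσ]
      have hcomm : Commute (τ ^ 2) ((y : E) : G) :=
        congrArg Subtype.val (hEc ⟨τ ^ 2, hΦE (sq_mem_sq τ)⟩ (y : E))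
      calc τ * (τ * ((y : E) : G) * τ⁻¹) * τ⁻¹ = τ ^ 2 * ((y : E) : G) * (τ ^ 2)⁻¹ := by
            simp [pow_two, mul_assoc]
        _ = _ := by rw [hcomm.eq, mul_inv_cancel_right]
    have hδσ : δ (σ (y : E)) = (δ (y : E))⁻¹ := by
      show (σ (y : E))⁻¹ * σ (σ (y : E)) = ((y : E)⁻¹ * σ (y : E))⁻¹
      rw [hσσ]; group
    have hDc : D ≤ Subgroup.zpowers ((δ (y : E) : E) : G) := by
      refine Subgroup.map_le_iff_le_comap.mpr ?_
      rw [MonoidHom.range_eq_map, ← hgenE, MonoidHom.map_closure, Subgroup.closure_le, Set.image_pair]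
      rintro t (rfl | rfl)
      · exact Subgroup.mem_zpowers _
      · refine Subgroup.mem_comap.mpr ?_
        show ((δ (σ (y : E)) : E) : G) ∈ _
        rw [hδσ]
        exact inv_mem (Subgroup.mem_zpowers ((δ (y : E) : E) : G))
    exact isCyclic_of_injective (Subgroup.inclusion (hle.trans hDc))
      (Subgroup.inclusion_injective _)
  -- a fixed element outside the squares
  push Not at hfixE
  obtain ⟨c, hcα, hc1⟩ := hfixE
  have hCΦ : ∀ d : E, α d = d → (d : G) ∈ P 2 (⊤ : Subgroup G) → d = 1 := by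
    intro d hd hdΦ
    by_contra hd1
    obtain ⟨i, hiz, hio⟩ := PGroupsBasic.exists_orderOf_eq_of_ne_bot (p := 2)
      (hEp.to_subgroup (Subgroup.zpowers d)) (fun e => hd1 (Subgroup.zpowers_eq_bot.mp e))
    obtain ⟨k, rfl⟩ := Subgroup.mem_zpowers_iff.mp hiz
    have hiα : α (d ^ k) = d ^ k := by rw [map_zpow, hd]
    have hiΦ : ((d ^ k : E) : G) ∈ P 2 (⊤ : Subgroup G) := by
      rw [Subgroup.coe_zpow]; exact zpow_mem hdΦ k
    have hi2 : ((d ^ k : E) : G) ^ 2 = 1 :=
      congrArg Subtype.val (show (d ^ k) ^ 2 = 1 by rw [← hio]; exact pow_orderOf_eq_one _)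
    have hi1 : d ^ k ≠ 1 := fun e => by rw [e, orderOf_one] at hio; omega
    have hkill : ∀ t : A, ((d ^ k : E) : G) = ι t → False := by
      intro t ht
      have e : d ^ k = (t : E) := Subtype.ext ht
      apply hi1
      rw [e] at hiα
      rw [e, hfix t (Subtype.ext hiα)]; rfl
    rcases mem_four hVR (hWΦ w hwW) (hWΦ w' hw'W) hiΦ hιw hιw' hi2 hιww'
      (hEw _ (d ^ k).2 w hwW).symm (hEw _ (d ^ k).2 w' hw'W).symm hne1 hne1' hne2 with e | e | e | e
    · exact hi1 (Subtype.ext e)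
    · exact hkill w e
    · exact hkill w' e
    · exact hkill (w * w') (e.trans (map_mul ι w w').symm)
  have hcΦ : (c : G) ∉ P 2 (⊤ : Subgroup G) := fun h => hc1 (hCΦ c hcα h)
  have hC2 : ∀ d : E, α d = d → d = 1 ∨ d = c := by
    intro d hd
    by_contra hcon
    rw [not_or] at hcon
    refine hτ ?_
    have hdΦ : (d : G) ∉ P 2 (⊤ : Subgroup G) := fun h => hcon.1 (hCΦ d hd h)
    have hcd : (c : G)⁻¹ * d ∉ P 2 (⊤ : Subgroup G) := fun h => by
      have := hCΦ (c⁻¹ * d) (by rw [map_mul, map_inv, hcα, hd]) h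
      exact hcon.2 (inv_mul_eq_one.mp this).symm
    refine (Subgroup.closure_le E).mpr ?_
      ((gen_of_indep hG hbi hcΦ hdΦ hcd).ge (Subgroup.mem_top τ))
    rintro t (rfl | rfl)
    · exact c.2
    · exact d.2
  have hσc : σ c = c := by
    refine (hC2 (σ c) ?_).resolve_left fun e => hc1 (σ.injective (e.trans (map_one σ).symm))
    have h := hσα c
    rw [hcα] at h
    nth_rewrite 1 [h]
    exact α.apply_symm_apply _
  have hcomm : Commute (c : G) τ := by
    have h := congrArg Subtype.val hσc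
    rw [hσ] at h
    exact (mul_inv_eq_iff_eq_mul.mp h).symm
  refine cyclic_of_commute (gen_of_indep hG hbi hcΦ (fun h => hτ (hΦE h)) fun h => hτ ?_) hcomm
  have e : τ = (c : G) * ((c : G)⁻¹ * τ) := by group
  rw [e]; exact mul_mem c.2 (hΦE h)

end Cfsg.Agent.Bicyclic55
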