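import Mathlib

/-!
# Finite fields with a prescribed action on the 2-part of the multiplicative group
-/

set_option autoImplicit false
set_option linter.style.haveILetI false

namespace Cfsg.Agent.Bicyclic55

/-- Exact 2-adic valuation of `m ^ 2 ^ (i + 1) - 1` one step after it is too small. -/
theorem lte_step {m : ℤ} (hm : 4 ∣ m - 1) {N i : ℕ}
    (h1 : ¬ (2 : ℤ) ^ N ∣ m ^ 2 ^ i - 1) : ¬ (2 : ℤ) ^ (N + 1) ∣ m ^ 2 ^ (i + 1) - 1 := by
  intro h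
  apply h1
  obtain ⟨c, hc⟩ : (4 : ℤ) ∣ m ^ 2 ^ i - 1 := hm.trans (sub_one_dvd_pow_sub_one m _)
  have e : m ^ 2 ^ (i + 1) - 1 = 2 * ((m ^ 2 ^ i - 1) * (2 * c + 1)) := by
    rw [show 2 ^ (i + 1) = 2 ^ i * 2 from pow_succ 2 i, pow_mul]
    have h' : m ^ 2 ^ i = 4 * c + 1 := by linarith
    rw [h']; ring
  rw [e, pow_succ'] at h
  exact ((show IsCoprime (2 : ℤ) (2 * c + 1) from ⟨-c, 1, by ring⟩).pow_left).dvd_of_dvd_mul_right
    (Int.dvd_of_mul_dvd_mul_left (by norm_num) h)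

/-- The field. -/
theorem exists_field {N : ℕ} (hN : 2 ≤ N) {m : ℤ} (hm : 4 ∣ m - 1) {r : ℕ}
    (h : (2 : ℤ) ^ N ∣ m ^ 2 ^ r - 1) :
    ∃ (K : Type) (_ : Field K) (_ : Finite K) (σ : RingAut K) (ζ : Kˣ), orderOf ζ = 2 ^ N ∧
      Units.map ((σ : K ≃+* K) : K →* K) ζ = ζ ^ m ∧ σ ^ 2 ^ r = 1 ∧ (2 : K) ≠ 0 ∧
      2 ^ N ∣ Nat.card K - 1 ∧ ¬ 2 ^ (N + 1) ∣ Nat.card K - 1 := by
  classical
  have hex : ∃ i, (2 : ℤ) ^ N ∣ m ^ 2 ^ i - 1 := ⟨r, h⟩
  set i := Nat.find hex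
  have hir : i ≤ r := Nat.find_min' hex h
  obtain ⟨m', hmm', hm'4, hexact, hm'i⟩ : ∃ m' : ℤ, (2 : ℤ) ^ N ∣ m' - m ∧ 4 ∣ m' - 1 ∧
      ¬ (2 : ℤ) ^ (N + 1) ∣ m' ^ 2 ^ i - 1 ∧ (2 : ℤ) ^ N ∣ m' ^ 2 ^ i - 1 := by
    rcases Nat.eq_zero_or_pos i with hi | hi
    · refine ⟨1 + 2 ^ N, ?_, ?_, ?_, ?_⟩
      · have h0 := Nat.find_spec hex
        rw [show Nat.find hex = 0 from hi, pow_zero, pow_one] at h0
        obtain ⟨c, hc⟩ := h0
        exact ⟨1 - c, by linear_combination (-1 : ℤ) * hc⟩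
      · exact ⟨2 ^ (N - 2), by
          rw [show (4 : ℤ) = 2 ^ 2 by norm_num, ← pow_add, Nat.add_sub_cancel' hN]; ring⟩
      · rw [hi, pow_zero, pow_one, add_sub_cancel_left]
        intro hd
        have h' := Int.le_of_dvd (by positivity) hd
        rw [pow_succ] at h'
        nlinarith [pow_pos (show (0 : ℤ) < 2 by norm_num) N]
      · rw [hi, pow_zero, pow_one, add_sub_cancel_left]
    · refine ⟨m, by simp, hm, ?_, Nat.find_spec hex⟩
      obtain ⟨i', hi'⟩ : ∃ i', i = i' + 1 := ⟨i - 1, by omega⟩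
      rw [hi']
      exact lte_step hm (Nat.find_min hex (show i' < Nat.find hex by omega))
  haveI : NeZero (2 ^ (N + 1)) := ⟨by positivity⟩
  obtain ⟨m₀, hm₀⟩ : ∃ m₀ : ℕ, (m₀ : ℤ) ≡ m' [ZMOD (2 ^ (N + 1) : ℕ)] := by
    refine ⟨(m' % ((2 ^ (N + 1) : ℕ) : ℤ)).toNat, ?_⟩
    rw [Int.toNat_of_nonneg (Int.emod_nonneg _ (by positivity))]
    exact Int.mod_modEq _ _
  have hodd : m₀.Coprime (2 ^ (N + 1)) := by
    refine Nat.Coprime.pow_right _ (Nat.coprime_two_right.mpr (Nat.odd_iff.mpr ?_))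
    obtain ⟨c, hc⟩ := hm'4
    have h2 : (2 : ℤ) ∣ m' - m₀ :=
      (show (2 : ℤ) ∣ ((2 ^ (N + 1) : ℕ) : ℤ) by push_cast; exact dvd_pow_self 2 (by omega)).trans
        (Int.modEq_iff_dvd.mp hm₀)
    omega
  obtain ⟨p, ⟨hp, hpm⟩⟩ := (Nat.infinite_setOf_prime_and_modEq (q := 2 ^ (N + 1))
    (by positivity) hodd).nonempty
  haveI := Fact.mk hp
  have hpm' : (p : ℤ) ≡ m' [ZMOD (2 ^ (N + 1) : ℕ)] :=
    (Int.natCast_modEq_iff.mpr hpm).trans hm₀
  have hp2 : p ≠ 2 := by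
    rintro rfl
    obtain ⟨c, hc⟩ := hm'4
    have h2 : (2 : ℤ) ∣ m' - ((2 : ℕ) : ℤ) :=
      (show (2 : ℤ) ∣ ((2 ^ (N + 1) : ℕ) : ℤ) by push_cast; exact dvd_pow_self 2 (by omega)).trans
        (Int.modEq_iff_dvd.mp hpm')
    omega
  let K := GaloisField p (2 ^ i)
  haveI : Finite K := inferInstance
  have hcard : Nat.card K = p ^ 2 ^ i := GaloisField.card p _ (by positivity)
  have hq1 : 1 ≤ p ^ 2 ^ i := Nat.one_le_pow _ _ hp.pos
  have hd1 : ∀ e : ℕ, e ≤ N + 1 →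
      ((2 ^ e ∣ Nat.card K - 1) ↔ (2 : ℤ) ^ e ∣ m' ^ 2 ^ i - 1) := by
    intro e he
    rw [hcard, ← Int.natCast_dvd_natCast, Nat.cast_sub hq1]
    push_cast
    have hsub : (2 : ℤ) ^ e ∣ (p : ℤ) ^ 2 ^ i - m' ^ 2 ^ i := by
      refine dvd_trans (dvd_trans (pow_dvd_pow 2 he) ?_) (sub_dvd_pow_sub_pow (p : ℤ) m' _)
      have := Int.modEq_iff_dvd.mp hpm'.symm
      push_cast at this
      exact this
    constructor
    · intro h'; have := dvd_sub h' hsub; simpa using this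
    · intro h'; have := dvd_add h' hsub; simpa using this
  have hN1 : 2 ^ N ∣ Nat.card K - 1 := (hd1 N (by omega)).mpr hm'i
  have hN2 : ¬ 2 ^ (N + 1) ∣ Nat.card K - 1 := fun h' => hexact ((hd1 _ le_rfl).mp h')
  obtain ⟨ζ, hζ⟩ : ∃ ζ : Kˣ, orderOf ζ = 2 ^ N := by
    obtain ⟨g, hg⟩ := IsCyclic.exists_generator (α := Kˣ)
    have hog : orderOf g = Nat.card K - 1 := by
      rw [orderOf_eq_card_of_forall_mem_zpowers hg, Nat.card_units]
    obtain ⟨c, hc⟩ := hN1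
    have hc0 : c ≠ 0 := by
      rintro rfl
      have h2 := hp.two_le
      have : 1 < p ^ 2 ^ i := Nat.one_lt_pow (by positivity) (by omega)
      omega
    exact ⟨g ^ c, by rw [orderOf_pow' _ hc0, hog, hc, Nat.gcd_mul_left_left,
      Nat.mul_div_cancel _ (Nat.pos_of_ne_zero hc0)]⟩
  let σ : RingAut K := RingEquiv.ofBijective (frobenius K p)
    (Finite.injective_iff_bijective.mp (frobenius K p).injective)
  have hσ : ∀ (j : ℕ) (x : K), (σ ^ j) x = x ^ p ^ j := by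
    intro j
    induction j with
    | zero => intro x; simp
    | succ j ih =>
      intro x
      rw [pow_succ]
      show (σ ^ j) (x ^ p) = _
      rw [ih, ← pow_mul, ← pow_succ']
  refine ⟨K, inferInstance, inferInstance, σ, ζ, hζ, ?_, ?_, ?_, hN1, hN2⟩
  · have e : Units.map ((σ : K ≃+* K) : K →* K) ζ = ζ ^ p := Units.ext rfl
    rw [e, ← zpow_natCast, ← orderOf_dvd_sub_iff_zpow_eq_zpow, hζ]
    push_cast
    have h' := Int.modEq_iff_dvd.mp hpm'.symm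
    push_cast at h'
    have h2 := dvd_add ((pow_dvd_pow (2 : ℤ) (Nat.le_succ N)).trans h') hmm'
    simpa using h2
  · have h1 : σ ^ 2 ^ i = 1 := by
      refine RingEquiv.ext fun x => ?_
      rw [hσ]
      haveI := Fintype.ofFinite K
      rw [← hcard, Nat.card_eq_fintype_card]
      exact FiniteField.pow_card x
    rw [show 2 ^ r = 2 ^ i * 2 ^ (r - i) by rw [← pow_add, Nat.add_sub_cancel' hir], pow_mul, h1,
      one_pow]
  · intro h2
    have h' : ((2 : ℕ) : K) = 0 := by exact_mod_cast h2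
    exact hp2 ((Nat.prime_dvd_prime_iff_eq hp Nat.prime_two).mp ((CharP.cast_eq_zero_iff K p 2).mp h'))

end Cfsg.Agent.Bicyclic55
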