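import Mathlib
import Cfsg.Prelude.Def_OddOrderLocal
import Cfsg.Agent.Lib.Bicyclic55Forward

/-!
# Non-metacyclic bicyclic 2-groups with cyclic derived subgroup

Such a group is a cyclic extension of a dihedral or quaternion group `⟨v, y⟩` by an element `x`
whose action is given by two congruences.
-/

set_option autoImplicit false
set_option linter.style.haveILetI false
set_option linter.unusedSectionVars false
set_option maxHeartbeats 600000

namespace Cfsg.Agent.Bicyclic55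

open Cfsg Cfsg.Agent.HallAlperinPowers
open scoped commutatorElement

variable {G : Type*} [Group G] [Finite G]

/-- A normal cyclic subgroup with cyclic quotient, from two generators. -/
theorem metacyclic_of_gen {z y : G} [hz : (Subgroup.zpowers z).Normal]
    (h : Subgroup.closure ({z, y} : Set G) = ⊤) : Cfsg.IsMetacyclic G := by
  refine ⟨Subgroup.zpowers z, hz, inferInstance,
    isCyclic_iff_exists_zpowers_eq_top.mpr ⟨QuotientGroup.mk' (Subgroup.zpowers z) y, ?_⟩⟩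
  rw [← top_le_iff, ← Subgroup.map_top_of_surjective (QuotientGroup.mk' (Subgroup.zpowers z))
    (QuotientGroup.mk'_surjective _), ← congrArg (Subgroup.map _) h, MonoidHom.map_closure,
    Subgroup.closure_le]
  rintro _ ⟨t, rfl | rfl, rfl⟩
  · show QuotientGroup.mk' (Subgroup.zpowers t) t ∈ _
    rw [show QuotientGroup.mk' (Subgroup.zpowers t) t = 1 from
      (QuotientGroup.eq_one_iff t).mpr (Subgroup.mem_zpowers t)]
    exact one_mem _
  · exact Subgroup.mem_zpowers _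

/-- The key congruence: `y` inverts `v` and `y⁴ = 1`. -/
theorem inverts {x y v : G} {n : ℕ} (hv : orderOf v = 2 ^ n) {l m e : ℤ} (hl : Odd l) (hm : Odd m)
    (hx : x * v * x⁻¹ = v ^ l) (hy : y * v * y⁻¹ = v ^ m) (hy2 : y ^ 2 = v ^ e) (he : Even e)
    (hxy : x * y * x⁻¹ = v * y) : y * v * y⁻¹ = v⁻¹ ∧ (y ^ 2) ^ 2 = 1 := by
  have hpow : ∀ i : ℤ, x * v ^ i * x⁻¹ = v ^ (l * i) := fun i => by
    rw [zpow_mul, ← hx, conj_zpow]
  have hypow : ∀ i : ℤ, y * v ^ i * y⁻¹ = v ^ (m * i) := fun i => by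
    rw [zpow_mul, ← hy, conj_zpow]
  have h1 : v ^ (1 + m + e) = v ^ (l * e) := by
    calc v ^ (1 + m + e) = v * (y * v * y⁻¹) * y ^ 2 := by rw [hy, hy2, zpow_add, zpow_add, zpow_one]
      _ = (v * y) ^ 2 := by simp [pow_two, mul_assoc]
      _ = x * y ^ 2 * x⁻¹ := by rw [← hxy, conj_pow]
      _ = v ^ (l * e) := by rw [hy2, hpow]
  have h2 : v ^ (m * e) = v ^ e := by
    rw [← hypow, ← hy2]; group
  have d1 : ((2 ^ n : ℕ) : ℤ) ∣ (1 + m + e) - l * e := by
    rw [← hv, orderOf_dvd_sub_iff_zpow_eq_zpow]; exact h1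
  have d2 : ((2 ^ n : ℕ) : ℤ) ∣ m * e - e := by
    rw [← hv, orderOf_dvd_sub_iff_zpow_eq_zpow]; exact h2
  push_cast at d1 d2
  have key : (2 : ℤ) ^ n ∣ 1 + m ∧ (2 : ℤ) ^ n ∣ 2 * e := by
    obtain ⟨l', rfl⟩ := hl
    obtain ⟨e', rfl⟩ := he
    rcases Nat.lt_or_ge n 2 with hn | hn
    · obtain ⟨m', rfl⟩ := hm
      have h2' : (2 : ℤ) ^ n ∣ 2 := by
        interval_cases n <;> norm_num
      exact ⟨h2'.trans ⟨1 + m', by ring⟩, h2'.trans (dvd_mul_right 2 _)⟩
    · have h4 : (4 : ℤ) ∣ 1 + m := by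
        have h4' : (4 : ℤ) ∣ 2 ^ n := ⟨2 ^ (n - 2), by
          rw [show (4 : ℤ) = 2 ^ 2 by norm_num, ← pow_add, Nat.add_sub_cancel' hn]⟩
        have h := dvd_add (h4'.trans d1) (show (4 : ℤ) ∣ 4 * (l' * e') from dvd_mul_right 4 _)
        have e1 : (1 + m + (e' + e')) - (2 * l' + 1) * (e' + e') + 4 * (l' * e') = 1 + m := by ring
        rwa [e1] at h
      obtain ⟨m'', hm''⟩ := h4
      have hc : IsCoprime ((2 : ℤ) ^ n) (2 * m'' - 1) :=
        (show IsCoprime (2 : ℤ) (2 * m'' - 1) from ⟨m'', -1, by ring⟩).pow_left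
      have h2e : (2 : ℤ) ^ n ∣ 2 * (e' + e') := by
        refine hc.dvd_of_dvd_mul_left ?_
        have e1 : (2 * m'' - 1) * (2 * (e' + e')) = m * (e' + e') - (e' + e') := by
          rw [show m = 4 * m'' - 1 by linarith]; ring
        rw [e1]; exact d2
      refine ⟨?_, h2e⟩
      have e1 : 1 + m = ((1 + m + (e' + e')) - (2 * l' + 1) * (e' + e')) + l' * (2 * (e' + e')) := by
        ring
      rw [e1]
      exact dvd_add d1 (dvd_mul_of_dvd_right h2e l')
  constructor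
  · rw [hy, ← zpow_neg_one, ← orderOf_dvd_sub_iff_zpow_eq_zpow, hv]
    push_cast
    rw [sub_neg_eq_add, add_comm]
    exact key.1
  · rw [hy2, ← zpow_natCast, ← zpow_mul, ← orderOf_dvd_iff_zpow_eq_one, hv]
    push_cast
    rw [mul_comm]
    exact key.2

/-- The data of a non-metacyclic bicyclic 2-group with cyclic derived subgroup. -/
structure CyclicData (G : Type*) [Group G] where
  x : G
  y : G
  v : G
  n : ℕ
  r : ℕ
  k : ℕ
  l : ℤ
  f : ℤ
  hn : 1 ≤ n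
  hr : 1 ≤ r
  hv : orderOf v = 2 ^ n
  hxv : x * v * x⁻¹ = v ^ l
  hl : Odd l
  hxy : x * y * x⁻¹ = v * y
  hyv : y * v * y⁻¹ = v⁻¹
  hxN : x ^ (2 ^ r) = v ^ (2 * f)
  hV : ∀ g : G, ∀ i : ℤ, ∃ j : ℤ, g * v ^ i * g⁻¹ = v ^ j
  hynot : y ∉ Subgroup.zpowers v
  hgen : ∀ g : G, ∃ i j : ℤ, g = v ^ i * x ^ j ∨ g = v ^ i * y * x ^ j
  hind : ∀ i j : ℤ, (x ^ j = v ^ i ∨ x ^ j = v ^ i * y) → ((2 ^ r : ℕ) : ℤ) ∣ j
  htype : (k = 1 ∧ 2 ≤ n ∧ y ^ 2 = v ^ (2 ^ (n - 1) : ℕ)) ∨ (k = 2 ∧ y ^ 2 = 1)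
  hlN : (2 : ℤ) ^ (n + k - 1) ∣ l ^ (2 ^ r) - 1
  hc : (2 : ℤ) ^ (n + k - 1) ∣ (∑ i ∈ Finset.range (2 ^ r), l ^ i) - 4 * f

/-- The structure of the group. -/
theorem cyclicData (hG : IsPGroup 2 G) {a₀ b₀ : G} (hbi₀ : Bi a₀ b₀) (hm : ¬ Cfsg.IsMetacyclic G)
    (hcyc : IsCyclic (commutator G)) : Nonempty (CyclicData G) := by
  classical
  haveI : Fact (Nat.Prime 2) := ⟨Nat.prime_two⟩
  haveI := normal_P (p := 2) (⊤ : Subgroup G)
  obtain ⟨⟨v₀, hv₀V⟩, hv₀⟩ := isCyclic_iff_exists_zpowers_eq_top.mp hcyc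
  have hV₀ : commutator G = Subgroup.zpowers v₀ := by
    refine le_antisymm (fun g hg => ?_) (Subgroup.zpowers_le.mpr hv₀V)
    obtain ⟨i, hi⟩ := Subgroup.mem_zpowers_iff.mp (hv₀.ge (Subgroup.mem_top ⟨g, hg⟩))
    exact ⟨i, congrArg Subtype.val hi⟩
  set π := QuotientGroup.mk' (commutator G)
  have hQc : ∀ p q : G ⧸ commutator G, Commute p q := fun p q => by
    obtain ⟨p, rfl⟩ := QuotientGroup.mk'_surjective _ p
    obtain ⟨q, rfl⟩ := QuotientGroup.mk'_surjective _ q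
    rw [← commutatorElement_eq_one_iff_commute, ← map_commutatorElement]
    exact (QuotientGroup.eq_one_iff _).mpr
      (Subgroup.commutator_mem_commutator (Subgroup.mem_top p) (Subgroup.mem_top q))
  have hord : ∀ g : G, ∃ e : ℕ, orderOf (π g) = 2 ^ e := fun g => by
    obtain ⟨e, he⟩ := hG.to_quotient (commutator G) (π g)
    obtain ⟨j, -, hj⟩ := (Nat.dvd_prime_pow Nat.prime_two).mp (orderOf_dvd_of_pow_eq_one he)
    exact ⟨j, hj⟩
  -- generators adapted to the quotient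
  obtain ⟨a, b, hab, hle⟩ : ∃ a b : G, Subgroup.closure ({a, b} : Set G) = ⊤ ∧
      orderOf (π b) ∣ orderOf (π a) := by
    have h₀ : Subgroup.closure ({a₀, b₀} : Set G) = ⊤ := top_le_iff.mp fun g _ => by
      obtain ⟨i, j, rfl⟩ := hbi₀ g
      exact mul_mem (zpow_mem (mem_pair_left a₀ b₀) i) (zpow_mem (mem_pair_right a₀ b₀) j)
    obtain ⟨i, hi⟩ := hord a₀
    obtain ⟨j, hj⟩ := hord b₀
    rcases le_total j i with h | h
    · exact ⟨a₀, b₀, h₀, by rw [hi, hj]; exact pow_dvd_pow 2 h⟩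
    · exact ⟨b₀, a₀, by rw [Set.pair_comm]; exact h₀, by rw [hi, hj]; exact pow_dvd_pow 2 h⟩
  obtain ⟨r, hr⟩ := hord a
  obtain ⟨s, hs⟩ := hord b
  rw [hr, hs] at hle
  have hsr : s ≤ r := (Nat.pow_dvd_pow_iff_le_right (by norm_num : 1 < 2)).mp hle
  -- the least power of `b` in `⟨a⟩` modulo the derived subgroup
  have hex : ∃ t : ℕ, π b ^ (2 ^ t) ∈ Subgroup.zpowers (π a) := ⟨s, by
    rw [← hs, pow_orderOf_eq_one]; exact one_mem _⟩
  set t := Nat.find hex
  obtain ⟨k₀, hk₀⟩ := Subgroup.mem_zpowers_iff.mp (Nat.find_spec hex)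
  have hts : t ≤ s := Nat.find_min' hex (by rw [← hs, pow_orderOf_eq_one]; exact one_mem _)
  obtain ⟨k', hk'⟩ : ((2 ^ t : ℕ) : ℤ) ∣ k₀ := by
    have h1 : π a ^ (k₀ * ((2 ^ (s - t) : ℕ) : ℤ)) = 1 := by
      rw [zpow_mul, hk₀, zpow_natCast, ← pow_mul, ← pow_add, Nat.add_sub_cancel' hts, ← hs,
        pow_orderOf_eq_one]
    have h2 := orderOf_dvd_iff_zpow_eq_one.mpr h1
    rw [hr] at h2
    have h3 : ((2 ^ t : ℕ) : ℤ) * ((2 ^ (s - t) : ℕ) : ℤ) ∣ k₀ * ((2 ^ (s - t) : ℕ) : ℤ) := by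
      refine dvd_trans ?_ h2
      rw [← Nat.cast_mul, ← pow_add, Nat.add_sub_cancel' hts]
      exact Int.natCast_dvd_natCast.mpr (pow_dvd_pow 2 hsr)
    exact Int.dvd_of_mul_dvd_mul_right (by positivity) h3
  obtain ⟨y, hy⟩ : ∃ y : G, y = b * a ^ (-k') := ⟨_, rfl⟩
  have hgenxy : Subgroup.closure ({a, y} : Set G) = ⊤ := by
    rw [← top_le_iff, ← hab, Subgroup.closure_le]
    rintro g (rfl | rfl)
    · exact mem_pair_left _ _
    · have h := mul_mem (mem_pair_right a y) (zpow_mem (mem_pair_left a y) k')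
      rw [show y * a ^ k' = g by rw [hy]; group] at h
      exact h
  have hyt : π y ^ (2 ^ t) = 1 := by
    rw [hy, map_mul, map_zpow, (hQc (π b) (π a ^ (-k'))).mul_pow, ← hk₀, hk',
      ← zpow_natCast (π a ^ (-k')), ← zpow_mul, ← zpow_add,
      show ((2 ^ t : ℕ) : ℤ) * k' + -k' * ((2 ^ t : ℕ) : ℤ) = 0 by ring, zpow_zero]
  have hindep : ∀ i j : ℤ, π a ^ i * π y ^ j = 1 → ((2 ^ r : ℕ) : ℤ) ∣ i ∧ ((2 ^ t : ℕ) : ℤ) ∣ j := by
    intro i j h
    have hb : π b ^ j ∈ Subgroup.zpowers (π a) := by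
      have e : π y ^ j = π b ^ j * (π a ^ (-k')) ^ j := by
        rw [hy, map_mul, map_zpow, (hQc (π b) (π a ^ (-k'))).mul_zpow]
      rw [e] at h
      have e2 : π b ^ j = (π a ^ i)⁻¹ * ((π a ^ (-k')) ^ j)⁻¹ := by
        calc π b ^ j = (π a ^ i)⁻¹ * (π a ^ i * (π b ^ j * (π a ^ (-k')) ^ j)) *
              ((π a ^ (-k')) ^ j)⁻¹ := by group
          _ = _ := by rw [h]; group
      rw [e2]
      exact mul_mem (inv_mem (zpow_mem (Subgroup.mem_zpowers _) i))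
        (inv_mem (zpow_mem (zpow_mem (Subgroup.mem_zpowers _) (-k')) j))
    have hj : ((2 ^ t : ℕ) : ℤ) ∣ j := by
      by_contra hcon
      -- reduce to a smaller power
      obtain ⟨t', ht', ho⟩ : ∃ t', t' < t ∧ π b ^ (2 ^ t') ∈ Subgroup.zpowers (π a) := by
        let I : AddSubgroup ℤ :=
          { carrier := {i | π b ^ i ∈ Subgroup.zpowers (π a)}
            zero_mem' := by show π b ^ (0 : ℤ) ∈ Subgroup.zpowers (π a); rw [zpow_zero]; exact one_mem _
            add_mem' := fun {i j} hi hj => by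
              show π b ^ (i + j) ∈ Subgroup.zpowers (π a); rw [zpow_add]; exact mul_mem hi hj
            neg_mem' := fun {i} hi => by show π b ^ (-i) ∈ Subgroup.zpowers (π a); rw [zpow_neg]; exact inv_mem hi }
        have hN : ((2 ^ t : ℕ) : ℤ) ∈ I := by
          show π b ^ ((2 ^ t : ℕ) : ℤ) ∈ Subgroup.zpowers (π a)
          rw [zpow_natCast]; exact Nat.find_spec hex
        obtain ⟨d, hd⟩ : ∃ d : ℕ, d = Int.gcd ((2 ^ t : ℕ) : ℤ) j := ⟨_, rfl⟩
        have hdI : (d : ℤ) ∈ I := by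
          rw [hd, Int.gcd_eq_gcd_ab]
          refine I.add_mem ?_ ?_
          · rw [mul_comm, ← smul_eq_mul]; exact I.zsmul_mem hN _
          · rw [mul_comm, ← smul_eq_mul]; exact I.zsmul_mem (show j ∈ I from hb) _
        have hd2 : d ∣ 2 ^ t := by
          rw [hd]; exact_mod_cast Int.gcd_dvd_left ((2 ^ t : ℕ) : ℤ) j
        obtain ⟨t', ht', rfl⟩ := (Nat.dvd_prime_pow Nat.prime_two).mp hd2
        refine ⟨t', lt_of_le_of_ne ht' fun e => hcon ?_, ?_⟩
        · rw [← e, hd]; exact Int.gcd_dvd_right _ _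
        · have h' : π b ^ ((2 ^ t' : ℕ) : ℤ) ∈ Subgroup.zpowers (π a) := hdI
          rwa [zpow_natCast] at h'
      exact Nat.find_min hex ht' ho
    refine ⟨?_, hj⟩
    obtain ⟨q, rfl⟩ := hj
    rw [zpow_mul, zpow_natCast, hyt, one_zpow, mul_one] at h
    rw [← hr]
    exact orderOf_dvd_iff_zpow_eq_one.mpr h
  -- the commutator generates the derived subgroup
  set v := ⁅a, y⁆ with hvdef
  have hvV : v ∈ commutator G :=
    Subgroup.commutator_mem_commutator (Subgroup.mem_top _) (Subgroup.mem_top _)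
  have hsubn : ∀ w : G, w ∈ Subgroup.zpowers v₀ → (Subgroup.zpowers w).Normal := by
    intro w hw
    refine ⟨fun u hu g => ?_⟩
    obtain ⟨i, rfl⟩ := Subgroup.mem_zpowers_iff.mp hw
    obtain ⟨j, rfl⟩ := Subgroup.mem_zpowers_iff.mp hu
    have hg : g * v₀ * g⁻¹ ∈ commutator G :=
      (inferInstance : (commutator G).Normal).conj_mem v₀ hv₀V g
    rw [hV₀] at hg
    obtain ⟨m, hm'⟩ := Subgroup.mem_zpowers_iff.mp hg
    rw [← conj_zpow, ← conj_zpow, ← hm', ← zpow_mul v₀ m i, mul_comm m i, zpow_mul v₀ i m,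
      ← zpow_mul]
    exact zpow_mem (Subgroup.mem_zpowers _) _
  haveI hvn := hsubn v (hV₀ ▸ hvV)
  have hV : commutator G = Subgroup.zpowers v := by
    refine le_antisymm ?_ (Subgroup.zpowers_le.mpr hvV)
    set ρ := QuotientGroup.mk' (Subgroup.zpowers v)
    rw [_root_.commutator_def, Subgroup.commutator_le]
    intro p _ q _
    rw [← QuotientGroup.eq_one_iff]
    show ρ ⁅p, q⁆ = 1
    rw [map_commutatorElement, commutatorElement_eq_one_iff_commute]
    refine Subgroup.closure_induction₂ (p := fun p q _ _ => Commute (ρ p) (ρ q)) ?_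
      (fun _ _ => by simp) (fun _ _ => by simp)
      (fun _ _ _ _ _ _ h₁ h₂ => by rw [map_mul]; exact Commute.mul_left h₁ h₂)
      (fun _ _ _ _ _ _ h₁ h₂ => by rw [map_mul]; exact Commute.mul_right h₁ h₂)
      (fun _ _ _ _ h => by rw [map_inv]; exact Commute.inv_left h)
      (fun _ _ _ _ h => by rw [map_inv]; exact Commute.inv_right h)
      (hgenxy.ge (Subgroup.mem_top p)) (hgenxy.ge (Subgroup.mem_top q))
    have hxy' : Commute (ρ a) (ρ y) := by
      rw [← commutatorElement_eq_one_iff_commute, ← map_commutatorElement]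
      exact (QuotientGroup.eq_one_iff _).mpr (Subgroup.mem_zpowers v)
    rintro _ _ (rfl | rfl) (rfl | rfl)
    · exact Commute.refl _
    · exact hxy'
    · exact hxy'.symm
    · exact Commute.refl _
  obtain ⟨n, hn'⟩ : ∃ n, orderOf v = 2 ^ n := by
    obtain ⟨e, he⟩ := hG v
    obtain ⟨j, -, hj⟩ := (Nat.dvd_prime_pow Nat.prime_two).mp (orderOf_dvd_of_pow_eq_one he)
    exact ⟨j, hj⟩
  have hn1 : 1 ≤ n := by
    by_contra hn0
    obtain rfl : n = 0 := by omega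
    have hv1 : v = 1 := orderOf_eq_one_iff.mp (by rw [hn', pow_zero])
    apply hm
    haveI : (Subgroup.zpowers a).Normal := PGroupsBasic.normal_of_commutator_le (by
      rw [hV, hv1, Subgroup.zpowers_one_eq_bot]; exact bot_le)
    exact metacyclic_of_gen hgenxy
  have hodd : ∀ g : G, ∃ m : ℤ, Odd m ∧ g * v * g⁻¹ = v ^ m := by
    intro g
    obtain ⟨m, hm'⟩ := Subgroup.mem_zpowers_iff.mp (hvn.conj_mem v (Subgroup.mem_zpowers v) g)
    refine ⟨m, ?_, hm'.symm⟩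
    by_contra hev
    obtain ⟨m', rfl⟩ := Int.not_odd_iff_even.mp hev
    have h : (g * v * g⁻¹) ^ (2 ^ (n - 1)) = 1 := by
      rw [← hm', ← zpow_natCast, ← zpow_mul, ← orderOf_dvd_iff_zpow_eq_one, hn']
      refine ⟨m', ?_⟩
      have e : (2 : ℕ) ^ n = 2 ^ (n - 1) * 2 := by rw [← pow_succ]; congr 1; omega
      rw [e]
      push_cast
      ring
    rw [conj_pow, conj_eq_one_iff] at h
    have hd := Nat.le_of_dvd (by positivity) (hn' ▸ orderOf_dvd_of_pow_eq_one h)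
    have : 2 ^ (n - 1) < 2 ^ n := Nat.pow_lt_pow_right (by norm_num) (by omega)
    omega
  set N₂ := Subgroup.zpowers (v ^ 2)
  haveI hN₂ : N₂.Normal := hsubn _ (hV₀ ▸ pow_mem hvV 2)
  -- powers in the derived subgroup are squares
  have hcase : ∀ z w : G, Subgroup.closure ({z, w} : Set G) = ⊤ → ∀ i : ℤ,
      z ^ i ∈ commutator G → z ^ i ∈ N₂ := by
    intro z w hzw i hzi
    by_contra hnot
    obtain ⟨j, hj⟩ := Subgroup.mem_zpowers_iff.mp (hV ▸ hzi)
    rcases Int.even_or_odd j with ⟨j', rfl⟩ | ⟨j', rfl⟩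
    · apply hnot
      rw [← hj, ← two_mul, zpow_mul, zpow_ofNat]
      exact zpow_mem (Subgroup.mem_zpowers _) j'
    apply hm
    have hcop : IsCoprime (2 * j' + 1) ((orderOf v : ℕ) : ℤ) := by
      rw [hn']; push_cast
      exact (show IsCoprime (2 * j' + 1) (2 : ℤ) from ⟨1, -j', by ring⟩).pow_right
    obtain ⟨p, q, hpq⟩ := hcop
    have hvz : v ∈ Subgroup.zpowers z := by
      have e : v = (z ^ i) ^ p := by
        rw [← hj, ← zpow_mul]
        nth_rewrite 1 [← zpow_one v]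
        rw [← orderOf_dvd_sub_iff_zpow_eq_zpow]
        exact ⟨q, by linarith⟩
      rw [e]
      exact zpow_mem (zpow_mem (Subgroup.mem_zpowers z) i) p
    haveI : (Subgroup.zpowers z).Normal := PGroupsBasic.normal_of_commutator_le
      (hV ▸ Subgroup.zpowers_le.mpr hvz)
    exact metacyclic_of_gen hzw
  have hmemV : ∀ g : G, g ∈ commutator G ↔ π g = 1 := fun g => (QuotientGroup.eq_one_iff g).symm
  have haN : a ^ ((2 ^ r : ℕ) : ℤ) ∈ N₂ := hcase a y hgenxy _ (by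
    rw [hmemV, map_zpow, zpow_natCast, ← hr, pow_orderOf_eq_one])
  have hyT : y ^ ((2 ^ t : ℕ) : ℤ) ∈ N₂ := hcase y a (by rw [Set.pair_comm]; exact hgenxy) _ (by
    rw [hmemV, map_zpow, zpow_natCast, hyt])
  -- modulo the squares of the derived subgroup
  set π₂ := QuotientGroup.mk' N₂
  have hπ₂ : ∀ g, π₂ g = 1 ↔ g ∈ N₂ := fun g => QuotientGroup.eq_one_iff g
  have hvc : ∀ g : G, Commute (π₂ g) (π₂ v) := by
    intro g
    obtain ⟨m, ⟨m', rfl⟩, hgv⟩ := hodd g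
    have h := congrArg π₂ hgv
    rw [map_zpow, zpow_add, zpow_one, zpow_mul, zpow_ofNat, ← map_pow,
      (hπ₂ _).mpr (Subgroup.mem_zpowers (v ^ 2)), one_zpow, one_mul, map_mul, map_mul, map_inv] at h
    exact mul_inv_eq_iff_eq_mul.mp h
  have hv2 : π₂ v ^ 2 = 1 := by
    rw [← map_pow, hπ₂]; exact Subgroup.mem_zpowers _
  have hcent : ∀ g h : G, Commute (π₂ g ^ 2) (π₂ h) := by
    intro g h
    obtain ⟨i, hi⟩ := Subgroup.mem_zpowers_iff.mp
      (hV ▸ (Subgroup.commutator_mem_commutator (Subgroup.mem_top g) (Subgroup.mem_top h)) :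
        ⁅g, h⁆ ∈ Subgroup.zpowers v)
    have e : π₂ g * π₂ h * (π₂ g)⁻¹ = π₂ v ^ i * π₂ h := by
      rw [← map_zpow, hi, ← map_inv, ← map_mul, ← map_mul, ← map_mul, commutatorElement_def]
      congr 1; group
    refine mul_inv_eq_iff_eq_mul.mp ?_
    calc π₂ g ^ 2 * π₂ h * (π₂ g ^ 2)⁻¹ = π₂ g * (π₂ g * π₂ h * (π₂ g)⁻¹) * (π₂ g)⁻¹ := by
          simp [pow_two, mul_assoc]
      _ = π₂ g * π₂ v ^ i * π₂ h * (π₂ g)⁻¹ := by rw [e]; group
      _ = π₂ v ^ i * (π₂ g * π₂ h * (π₂ g)⁻¹) := by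
        rw [((hvc g).zpow_right i).eq]; group
      _ = (π₂ v ^ 2) ^ i * π₂ h := by
        rw [e, ← mul_assoc, ← zpow_add, ← zpow_natCast (π₂ v) 2, ← zpow_mul]
        congr 2; push_cast; ring
      _ = π₂ h := by rw [hv2, one_zpow, one_mul]
  have hw : π₂ a * π₂ y = π₂ v * (π₂ y * π₂ a) := by
    rw [← map_mul, ← map_mul, ← map_mul, hvdef, commutatorElement_def]
    congr 1; group
  -- two generation forces an involution
  have ht1 : t = 1 := by
    by_contra ht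
    rcases Nat.eq_zero_or_pos t with ht0 | htpos
    · apply hm
      have hyV : y ∈ commutator G := by rw [hmemV]; simpa [ht0] using hyt
      have htop : Subgroup.zpowers a = ⊤ := top_of_sup_sq hG (by
        refine top_le_iff.mp (hgenxy.ge.trans ((Subgroup.closure_le _).mpr ?_))
        rintro g (rfl | rfl)
        · exact Subgroup.mem_sup_left (Subgroup.mem_zpowers _)
        · exact Subgroup.mem_sup_right (commutator_le_sq hyV))
      haveI : (Subgroup.zpowers a).Normal := htop ▸ inferInstance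
      exact metacyclic_of_gen hgenxy
    have ht2 : 2 ≤ t := by omega
    let C : Subgroup (G ⧸ N₂) := Subgroup.zpowers (π₂ a ^ 4) ⊔ Subgroup.zpowers (π₂ y ^ 4)
    have hc4 : ∀ g : G, π₂ g ^ 4 ∈ Subgroup.center (G ⧸ N₂) := fun g => by
      rw [Subgroup.mem_center_iff]
      intro q
      obtain ⟨q, rfl⟩ := QuotientGroup.mk'_surjective _ q
      rw [show (4 : ℕ) = 2 * 2 from rfl, pow_mul]
      exact ((hcent g q).pow_left 2).eq.symm
    haveI hCn : C.Normal := PGroupsBasic.normal_of_le_center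
      (sup_le (Subgroup.zpowers_le.mpr (hc4 a)) (Subgroup.zpowers_le.mpr (hc4 y)))
    set K := C.comap π₂
    haveI : K.Normal := hCn.comap π₂
    have heven : ∀ i j k : ℤ, a ^ (2 * i) * y ^ (2 * j) * v ^ k ∈ K → Even i ∧ Even j ∧ Even k := by
      intro i j k h
      haveI := PGroupsBasic.normal_of_le_center (Subgroup.zpowers_le.mpr (hc4 a))
      obtain ⟨p₁, hp₁, p₂, hp₂, hp⟩ := Subgroup.mem_sup_of_normal_left.mp
        (show π₂ (a ^ (2 * i) * y ^ (2 * j) * v ^ k) ∈ C from h)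
      obtain ⟨p, rfl⟩ := Subgroup.mem_zpowers_iff.mp hp₁
      obtain ⟨q, rfl⟩ := Subgroup.mem_zpowers_iff.mp hp₂
      have hcy : Commute (π₂ y ^ (2 * j)) ((π₂ a ^ 4) ^ p) :=
        (show Commute (π₂ a ^ 4) (π₂ y ^ (2 * j)) from
          (Subgroup.mem_center_iff.mp (hc4 a) _).symm).zpow_left p |>.symm
      have key : π₂ a ^ (2 * i - 4 * p) * π₂ y ^ (2 * j - 4 * q) * π₂ v ^ k = 1 := by
        have e1 : (π₂ a ^ 4) ^ p = π₂ a ^ (4 * p) := by rw [zpow_mul, zpow_ofNat]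
        have e2 : (π₂ y ^ 4) ^ q = π₂ y ^ (4 * q) := by rw [zpow_mul, zpow_ofNat]
        have hvy : Commute (π₂ v ^ k) (π₂ y ^ (-(4 * q))) :=
          ((hvc y).symm.zpow_left k).zpow_right _
        rw [map_mul, map_mul, map_zpow, map_zpow, map_zpow] at hp
        rw [e1, e2] at hp
        rw [e1] at hcy
        calc π₂ a ^ (2 * i - 4 * p) * π₂ y ^ (2 * j - 4 * q) * π₂ v ^ k
            = π₂ a ^ (-(4 * p)) * (π₂ a ^ (2 * i) * π₂ y ^ (2 * j)) *
                (π₂ y ^ (-(4 * q)) * π₂ v ^ k) := by group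
          _ = π₂ a ^ (-(4 * p)) * (π₂ a ^ (2 * i) * π₂ y ^ (2 * j) * π₂ v ^ k) *
                π₂ y ^ (-(4 * q)) := by rw [← hvy.eq]; group
          _ = 1 := by rw [← hp]; group
      have hmem : a ^ (2 * i - 4 * p) * y ^ (2 * j - 4 * q) * v ^ k ∈ N₂ := by
        rw [← hπ₂, map_mul, map_mul, map_zpow, map_zpow, map_zpow]; exact key
      have hQ : π a ^ (2 * i - 4 * p) * π y ^ (2 * j - 4 * q) = 1 := by
        have h1 := (hmemV _).mp (hV ▸ (Subgroup.zpowers_le.mpr (pow_mem (Subgroup.mem_zpowers v) 2) hmem))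
        rw [map_mul, map_mul, map_zpow, map_zpow, map_zpow,
          (hmemV v).mp hvV, one_zpow, mul_one] at h1
        exact h1
      obtain ⟨⟨u, hu⟩, ⟨w, hw'⟩⟩ := hindep _ _ hQ
      push_cast at hu hw'
      have h2r : (4 : ℤ) ∣ 2 ^ r := ⟨2 ^ (r - 2), by
        rw [show (4 : ℤ) = 2 ^ 2 by norm_num, ← pow_add, Nat.add_sub_cancel' (by omega)]⟩
      have h2t : (4 : ℤ) ∣ 2 ^ t := ⟨2 ^ (t - 2), by
        rw [show (4 : ℤ) = 2 ^ 2 by norm_num, ← pow_add, Nat.add_sub_cancel' (by omega)]⟩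
      obtain ⟨R, hR⟩ := h2r
      obtain ⟨T, hT⟩ := h2t
      refine ⟨⟨p + R * u, ?_⟩, ⟨q + T * w, ?_⟩, ?_⟩
      · rw [hR] at hu; linarith
      · rw [hT] at hw'; linarith
      · have h1 : π₂ a ^ (2 * i - 4 * p) = 1 := by
          rw [hu, zpow_mul, show ((2 : ℤ) ^ r) = ((2 ^ r : ℕ) : ℤ) by push_cast; rfl, ← map_zpow π₂ a,
            (hπ₂ _).mpr haN, one_zpow]
        have h2 : π₂ y ^ (2 * j - 4 * q) = 1 := by
          rw [hw', zpow_mul, show ((2 : ℤ) ^ t) = ((2 ^ t : ℕ) : ℤ) by push_cast; rfl, ← map_zpow π₂ y,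
            (hπ₂ _).mpr hyT, one_zpow]
        rw [h1, h2, one_mul, one_mul, ← map_zpow, hπ₂] at key
        by_contra hk
        obtain ⟨k', rfl⟩ := Int.not_even_iff_odd.mp hk
        obtain ⟨u', hu'⟩ := Subgroup.mem_zpowers_iff.mp key
        rw [← zpow_natCast v 2, ← zpow_mul, ← orderOf_dvd_sub_iff_zpow_eq_zpow, hn'] at hu'
        obtain ⟨z, hz⟩ := hu'
        obtain ⟨n', rfl⟩ : ∃ n', n = n' + 1 := ⟨n - 1, by omega⟩
        push_cast [pow_succ] at hz
        have h2' : (2 : ℤ) ∣ 2 * u' - (2 * k' + 1) := ⟨2 ^ n' * z, by rw [hz]; ring⟩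
        omega
    -- three elements of the two-generated square subgroup
    set ρ := QuotientGroup.mk' K
    have hK1 : ∀ g, ρ g = 1 ↔ g ∈ K := fun g => QuotientGroup.eq_one_iff g
    have hpp : ∀ g : G, (g = a ∨ g = y) → ρ (g ^ 2) ^ 2 = 1 := by
      intro g hg
      rw [← map_pow, ← pow_mul, hK1]
      show π₂ (g ^ (2 * 2)) ∈ C
      rw [map_pow]
      rcases hg with rfl | rfl
      · exact Subgroup.mem_sup_left (Subgroup.mem_zpowers _)
      · exact Subgroup.mem_sup_right (Subgroup.mem_zpowers _)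
    have hcomm : ∀ g h : G, Commute (π₂ g) (π₂ h) → Commute (ρ g) (ρ h) := by
      intro g h e
      rw [← commutatorElement_eq_one_iff_commute, ← map_commutatorElement, hK1]
      show π₂ ⁅g, h⁆ ∈ C
      rw [map_commutatorElement, commutatorElement_eq_one_iff_commute.mpr e]
      exact one_mem _
    have hmap : ∀ g ∈ P 2 (⊤ : Subgroup G), ρ g ∈ P 2 (⊤ : Subgroup (G ⧸ K)) := fun g hg => by
      have h : (P 2 (⊤ : Subgroup G)).map ρ ≤ P 2 ⊤ := by rw [map_P]; exact P_mono le_top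
      exact h ⟨g, hg, rfl⟩
    have hsq2 : ρ v ^ 2 = 1 := by
      rw [← map_pow, hK1]; show π₂ (v ^ 2) ∈ C
      rw [map_pow, hv2]; exact one_mem _
    have d := three_dependent (G := G ⧸ K) (hR_quotient (two_generated G hG a₀ b₀ hbi₀) K) (z := 1)
      (one_mem _) (hmap _ (sq_mem_sq a)) (hmap _ (sq_mem_sq y)) (hmap _ (commutator_le_sq hvV))
      (Commute.one_right _) (Commute.one_right _) (Commute.one_right _)
      (by rw [hpp a (Or.inl rfl)]; exact one_mem _) (by rw [hpp y (Or.inr rfl)]; exact one_mem _)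
      (by rw [hsq2]; exact one_mem _)
      (by
        rw [commutatorElement_eq_one_iff_commute.mpr (hcomm _ _ (by rw [map_pow]; exact hcent a _))]
        exact one_mem _)
      (by
        rw [commutatorElement_eq_one_iff_commute.mpr (hcomm _ _ (by rw [map_pow]; exact hcent a _))]
        exact one_mem _)
      (by
        rw [commutatorElement_eq_one_iff_commute.mpr (hcomm _ _ (by rw [map_pow]; exact hcent y _))]
        exact one_mem _)
    simp only [Subgroup.zpowers_one_eq_bot, Subgroup.mem_bot, ← map_mul, hK1] at d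
    rcases d with e | e | e | e | e | e | e
    · obtain ⟨⟨m, hm'⟩, -, -⟩ := heven 1 0 0 (by simpa [zpow_ofNat] using e)
      omega
    · obtain ⟨-, ⟨m, hm'⟩, -⟩ := heven 0 1 0 (by simpa [zpow_ofNat] using e)
      omega
    · obtain ⟨-, -, ⟨m, hm'⟩⟩ := heven 0 0 1 (by simpa [zpow_ofNat] using e)
      omega
    · obtain ⟨-, ⟨m, hm'⟩, -⟩ := heven 1 1 0 (by simpa [zpow_ofNat] using e)
      omega
    · obtain ⟨-, -, ⟨m, hm'⟩⟩ := heven 1 0 1 (by simpa [zpow_ofNat] using e)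
      omega
    · obtain ⟨-, -, ⟨m, hm'⟩⟩ := heven 0 1 1 (by simpa [zpow_ofNat] using e)
      omega
    · obtain ⟨-, -, ⟨m, hm'⟩⟩ := heven 1 1 1 (by simpa [zpow_ofNat] using e)
      omega
  clear_value t
  subst ht1
  have hy2 : y ^ 2 ∈ N₂ := by simpa [zpow_ofNat] using hyT
  have hr2 : 2 ≤ r := by
    by_contra hlt
    have hs1 : 1 ≤ s := hts
    obtain rfl : r = 1 := by omega
    have ha2 : a ^ 2 ∈ N₂ := by simpa [zpow_ofNat] using haN
    have hay : (a * y) ^ 2 ∈ commutator G := by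
      rw [hmemV, map_pow, map_mul, (hQc (π a) (π y)).mul_pow, ← map_pow, ← map_pow,
        (hmemV _).mp (hV ▸ (Subgroup.zpowers_le.mpr (pow_mem (Subgroup.mem_zpowers v) 2) ha2)),
        (hmemV _).mp (hV ▸ (Subgroup.zpowers_le.mpr (pow_mem (Subgroup.mem_zpowers v) 2) hy2)), one_mul]
    have hN' := hcase (a * y) y (by
      rw [← top_le_iff, ← hgenxy, Subgroup.closure_le]
      rintro g (rfl | rfl)
      · simpa using mul_mem (mem_pair_left (g * y) y) (inv_mem (mem_pair_right (g * y) y))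
      · exact mem_pair_right _ _) 2 (by rw [zpow_ofNat]; exact hay)
    rw [zpow_ofNat, ← hπ₂, map_pow, map_mul] at hN'
    have h1 : (π₂ a * π₂ y) ^ 2 = π₂ v := by
      calc (π₂ a * π₂ y) ^ 2 = π₂ a * (π₂ y * π₂ a) * π₂ y := by simp [pow_two, mul_assoc]
        _ = π₂ a * ((π₂ v)⁻¹ * (π₂ a * π₂ y)) * π₂ y := by rw [hw]; group
        _ = (π₂ a * (π₂ v)⁻¹) * π₂ a * (π₂ y * π₂ y) := by group
        _ = ((π₂ v)⁻¹ * π₂ a) * π₂ a * (π₂ y * π₂ y) := by rw [(hvc a).inv_right.eq]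
        _ = (π₂ v)⁻¹ * (π₂ a ^ 2 * π₂ y ^ 2) := by simp [pow_two, mul_assoc]
        _ = π₂ v := by
          rw [← map_pow π₂ a, ← map_pow π₂ y, (hπ₂ _).mpr ha2, (hπ₂ _).mpr hy2, one_mul, mul_one]
          exact inv_eq_of_mul_eq_one_right (by rw [← sq]; exact hv2)
    rw [h1] at hN'
    obtain ⟨u', hu'⟩ := Subgroup.mem_zpowers_iff.mp ((hπ₂ v).mp hN')
    have hz' : v ^ (2 * u') = v ^ (1 : ℤ) := by rw [zpow_one, zpow_mul, zpow_ofNat]; exact hu'
    rw [← orderOf_dvd_sub_iff_zpow_eq_zpow, hn'] at hz'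
    obtain ⟨z, hz⟩ := hz'
    obtain ⟨n', rfl⟩ : ∃ n', n = n' + 1 := ⟨n - 1, by omega⟩
    push_cast [pow_succ] at hz
    have h2' : (2 : ℤ) ∣ 2 * u' - 1 := ⟨2 ^ n' * z, by rw [hz]; ring⟩
    omega
  -- the two candidates
  obtain ⟨l, hl, hxv⟩ := hodd a
  set u := a ^ (2 ^ (r - 1)) with hu
  have hu2 : u ^ 2 = a ^ (2 ^ r) := by
    rw [hu, ← pow_mul, ← pow_succ]; congr 2; omega
  obtain ⟨f, hf⟩ : ∃ f : ℤ, a ^ (2 ^ r) = v ^ (2 * f) := by
    obtain ⟨f, hf⟩ := Subgroup.mem_zpowers_iff.mp haN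
    refine ⟨f, ?_⟩
    rw [zpow_mul, zpow_ofNat, hf, zpow_natCast]
  have hcandidate : ∀ y' : G, a * y' * a⁻¹ = v * y' → y' ^ 2 ∈ N₂ →
      y' * v * y'⁻¹ = v⁻¹ ∧ (y' ^ 2) ^ 2 = 1 := by
    intro y' h1 h2
    obtain ⟨e, he⟩ := Subgroup.mem_zpowers_iff.mp h2
    obtain ⟨m, hm', hyv⟩ := hodd y'
    exact inverts hn' hl hm' hxv hyv (e := 2 * e) (by rw [zpow_mul, zpow_ofNat, he])
      (even_two_mul e) h1
  have hxy : a * y * a⁻¹ = v * y := by rw [hvdef, commutatorElement_def]; group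
  obtain ⟨hyv, hy4⟩ := hcandidate y hxy hy2
  have hcu : Commute a u := Commute.self_pow a _
  have hxyu : a * (y * u) * a⁻¹ = v * (y * u) := by
    calc a * (y * u) * a⁻¹ = (a * y * a⁻¹) * (a * u * a⁻¹) := by group
      _ = v * (y * u) := by rw [hxy, hcu.eq, mul_inv_cancel_right, mul_assoc]
  have hyu2 : (y * u) ^ 2 ∈ N₂ := by
    rw [← hπ₂, map_pow, map_mul]
    have hu' : π₂ u = (π₂ a ^ 2) ^ (2 ^ (r - 2)) := by
      rw [hu, map_pow, ← pow_mul, ← pow_succ']; congr 2; omega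
    have hcy : Commute (π₂ y) (π₂ u) := by
      rw [hu']; exact ((hcent a y).pow_left _).symm
    rw [hcy.mul_pow, ← map_pow, ← map_pow, (hπ₂ _).mpr hy2, hu2, one_mul, hπ₂]
    rw [← zpow_natCast]; exact haN
  obtain ⟨hyuv, hyu4⟩ := hcandidate (y * u) hxyu hyu2
  have huv : Commute u v := by
    have h : y * (u * v * u⁻¹) * y⁻¹ = y * v * y⁻¹ := by rw [hyv, ← hyuv]; group
    exact mul_inv_eq_iff_eq_mul.mp (mul_left_cancel (mul_right_cancel h))
  -- iterated conjugation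
  have hpow : ∀ i : ℤ, a * v ^ i * a⁻¹ = v ^ (l * i) := fun i => by
    rw [zpow_mul, ← hxv, conj_zpow]
  have hypow : ∀ i : ℤ, y * v ^ i * y⁻¹ = v ^ (-i) := fun i => by
    rw [← conj_zpow, hyv, zpow_neg, inv_zpow]
  have haj : ∀ j : ℕ, a ^ j * y * (a ^ j)⁻¹ = v ^ (∑ i ∈ Finset.range j, l ^ i) * y := by
    intro j
    induction j with
    | zero => simp
    | succ j ih =>
      rw [geom_sum_succ, zpow_add, zpow_one, ← hpow]
      calc a ^ (j + 1) * y * (a ^ (j + 1))⁻¹ = a * (a ^ j * y * (a ^ j)⁻¹) * a⁻¹ := by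
            rw [pow_succ']; group
        _ = (a * v ^ (∑ i ∈ Finset.range j, l ^ i) * a⁻¹) * (a * y * a⁻¹) := by rw [ih]; group
        _ = _ := by rw [hxy]; group
  have hajv : ∀ j : ℕ, a ^ j * v * (a ^ j)⁻¹ = v ^ (l ^ j) := by
    intro j
    induction j with
    | zero => simp
    | succ j ih =>
      calc a ^ (j + 1) * v * (a ^ (j + 1))⁻¹ = a * (a ^ j * v * (a ^ j)⁻¹) * a⁻¹ := by
            rw [pow_succ']; group
        _ = v ^ (l * l ^ j) := by rw [ih, hpow]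
        _ = _ := by rw [← pow_succ']
  have hlM : (2 : ℤ) ^ n ∣ l ^ (2 ^ (r - 1)) - 1 := by
    have h := hajv (2 ^ (r - 1))
    rw [← hu, huv.eq, mul_inv_cancel_right] at h
    nth_rewrite 1 [← zpow_one v] at h
    have h' := orderOf_dvd_sub_iff_zpow_eq_zpow.mpr h.symm
    rw [hn'] at h'
    push_cast at h'
    exact h'
  have hcN : (2 : ℤ) ^ n ∣ (∑ i ∈ Finset.range (2 ^ r), l ^ i) - 4 * f := by
    have h := haj (2 ^ r)
    rw [hf] at h
    have h1 : v ^ (2 * f) * y * (v ^ (2 * f))⁻¹ = v ^ (4 * f) * y := by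
      calc v ^ (2 * f) * y * (v ^ (2 * f))⁻¹ = v ^ (2 * f) * (y * v ^ (-(2 * f)) * y⁻¹) * y := by group
        _ = v ^ (4 * f) * y := by rw [hypow, ← zpow_add]; congr 2; ring
    rw [h1] at h
    have h' := orderOf_dvd_sub_iff_zpow_eq_zpow.mpr (mul_right_cancel h).symm
    rw [hn'] at h'
    push_cast at h'
    exact h'
  have hyN : ∀ y' : G, π y' = π y ∨ π y' = π y * π a ^ ((2 ^ (r - 1) : ℕ) : ℤ) →
      y' ∉ Subgroup.zpowers v ∧ ∀ i j : ℤ,
        (a ^ j = v ^ i ∨ a ^ j = v ^ i * y') → ((2 ^ r : ℕ) : ℤ) ∣ j := by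
    intro y' hy'
    have hvπ : ∀ i : ℤ, π (v ^ i) = 1 := fun i => (hmemV _).mp (zpow_mem hvV i)
    have hbad : ∀ j : ℤ, π a ^ j ≠ π y' := by
      intro j e
      rcases hy' with h | h <;> rw [h] at e
      · have := (hindep j (-1) (by rw [zpow_neg_one, e, mul_inv_cancel])).2
        norm_num at this
      · have := (hindep (j - ((2 ^ (r - 1) : ℕ) : ℤ)) (-1) (by
          rw [zpow_sub, zpow_neg_one, e, mul_assoc (π y), mul_inv_cancel, mul_one, mul_inv_cancel])).2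
        norm_num at this
    refine ⟨fun hm' => hbad 0 ?_, fun i j h => ?_⟩
    · obtain ⟨i, rfl⟩ := Subgroup.mem_zpowers_iff.mp hm'
      rw [zpow_zero, hvπ]
    · rcases h with h | h
      · refine (hindep j 0 ?_).1
        rw [zpow_zero, mul_one, ← map_zpow, h, hvπ]
      · exact absurd (by rw [← map_zpow, h, map_mul, hvπ, one_mul]) (hbad j)
  have hgenall : ∀ y' : G, (∃ j : ℤ, π y' = π y * π a ^ j) → π y' ^ 2 = 1 →
      ∀ g : G, ∃ i j : ℤ, g = v ^ i * a ^ j ∨ g = v ^ i * y' * a ^ j := by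
    rintro y' ⟨c, hc⟩ hy'2 g
    obtain ⟨p, q, hpq⟩ : ∃ p q : ℤ, π g = π a ^ p * π y' ^ q := by
      refine Subgroup.closure_induction (p := fun g _ => ∃ p q : ℤ, π g = π a ^ p * π y' ^ q)
        ?_ ⟨0, 0, by simp⟩ ?_ ?_ (hgenxy.ge (Subgroup.mem_top g))
      · rintro g (rfl | rfl)
        · exact ⟨1, 0, by simp⟩
        · refine ⟨-c, 1, ?_⟩
          rw [zpow_one, hc, (hQc (π g) (π a ^ c)).eq, ← mul_assoc, ← zpow_add, neg_add_cancel,
            zpow_zero, one_mul]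
      · rintro p q - - ⟨i, j, e⟩ ⟨i', j', e'⟩
        refine ⟨i + i', j + j', ?_⟩
        rw [map_mul, e, e', zpow_add, zpow_add]
        exact (hQc (π y' ^ j) (π a ^ i')).mul_mul_mul_comm _ _
      · rintro p - ⟨i, j, e⟩
        exact ⟨-i, -j, by rw [map_inv, e, mul_inv_rev, zpow_neg, zpow_neg, (hQc _ _).eq]⟩
    rcases Int.even_or_odd q with ⟨q', rfl⟩ | ⟨q', rfl⟩
    · rw [← two_mul, zpow_mul, zpow_ofNat, hy'2, one_zpow, mul_one] at hpq
      obtain ⟨i, hi⟩ := Subgroup.mem_zpowers_iff.mp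
        (hV ▸ (hmemV (g * (a ^ p)⁻¹)).mpr (by rw [map_mul, map_inv, map_zpow, hpq, mul_inv_cancel]) :
          g * (a ^ p)⁻¹ ∈ Subgroup.zpowers v)
      exact ⟨i, p, Or.inl (by rw [hi, inv_mul_cancel_right])⟩
    · rw [zpow_add, zpow_one, zpow_mul, zpow_ofNat, hy'2, one_zpow, one_mul,
        (hQc (π a ^ p) (π y')).eq] at hpq
      obtain ⟨i, hi⟩ := Subgroup.mem_zpowers_iff.mp
        (hV ▸ (hmemV (g * (y' * a ^ p)⁻¹)).mpr
          (by rw [map_mul, map_inv, map_mul, map_zpow, hpq, mul_inv_cancel]) :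
          g * (y' * a ^ p)⁻¹ ∈ Subgroup.zpowers v)
      exact ⟨i, p, Or.inr (by rw [mul_assoc, hi, inv_mul_cancel_right])⟩
  have hVconj : ∀ g : G, ∀ i : ℤ, ∃ j : ℤ, g * v ^ i * g⁻¹ = v ^ j := fun g i => by
    obtain ⟨j, hj⟩ := Subgroup.mem_zpowers_iff.mp
      (hvn.conj_mem _ (zpow_mem (Subgroup.mem_zpowers v) i) g)
    exact ⟨j, hj.symm⟩
  have hlN : (2 : ℤ) ^ (n + 1) ∣ l ^ (2 ^ r) - 1 := by
    have e : l ^ (2 ^ r) - 1 = (l ^ (2 ^ (r - 1)) - 1) * (l ^ (2 ^ (r - 1)) + 1) := by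
      rw [show 2 ^ r = 2 ^ (r - 1) * 2 by rw [← pow_succ]; congr 1; omega, pow_mul]; ring
    rw [e, pow_succ]
    refine mul_dvd_mul hlM ?_
    obtain ⟨c, hc⟩ := hl.pow (n := 2 ^ (r - 1))
    exact ⟨c + 1, by rw [hc]; ring⟩
  have hquat : ∀ y' : G, a * y' * a⁻¹ = v * y' → y' * v * y'⁻¹ = v⁻¹ → (y' ^ 2) ^ 2 = 1 →
      y' ^ 2 ∈ N₂ → y' ^ 2 ≠ 1 →
      (π y' = π y ∨ π y' = π y * π a ^ ((2 ^ (r - 1) : ℕ) : ℤ)) →
      Nonempty (CyclicData G) := by
    intro y' h1 h2 h4 hN' hne hπy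
    obtain ⟨e, he⟩ := Subgroup.mem_zpowers_iff.mp hN'
    have hn2 : 2 ≤ n := by
      by_contra hlt
      obtain rfl : n = 1 := by omega
      apply hne
      rw [← he, show v ^ 2 = 1 by rw [← pow_one 2, ← hn', pow_orderOf_eq_one], one_zpow]
    have hhalf : y' ^ 2 = v ^ (2 ^ (n - 1) : ℕ) := by
      rw [← he, ← zpow_natCast v 2, ← zpow_mul]
      refine zpow_eq_half (s := n - 1) (by rw [hn']; congr 1; omega) ?_ ?_
      · rw [zpow_mul, zpow_natCast, he]; exact hne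
      · rw [zpow_mul, zpow_natCast, he]; exact h4
    have hπy2 : π y' ^ 2 = 1 := by
      rw [← map_pow, ← hmemV, hhalf]; exact pow_mem hvV _
    obtain ⟨hynot, hind⟩ := hyN y' hπy
    exact ⟨{
      x := a, y := y', v := v, n := n, r := r, k := 1, l := l, f := f
      hn := hn1, hr := by omega, hv := hn', hxv := hxv, hl := hl, hxy := h1, hyv := h2
      hxN := hf, hV := hVconj, hynot := hynot
      hgen := hgenall y' (hπy.elim (fun h => ⟨0, by rw [h, zpow_zero, mul_one]⟩) fun h => ⟨_, h⟩) hπy2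
      hind := hind
      htype := Or.inl ⟨rfl, hn2, hhalf⟩
      hlN := dvd_trans (pow_dvd_pow 2 (by omega)) hlN
      hc := by simpa using hcN }⟩
  have hπu : π (y * u) = π y * π a ^ ((2 ^ (r - 1) : ℕ) : ℤ) := by
    rw [map_mul, hu, map_pow, zpow_natCast]
  by_cases hy1 : y ^ 2 = 1
  swap
  · exact hquat y hxy hyv hy4 hy2 hy1 (Or.inl rfl)
  by_cases hyu1 : (y * u) ^ 2 = 1
  swap
  · exact hquat (y * u) hxyu hyuv hyu4 hyu2 hyu1 (Or.inr hπu)
  obtain ⟨hynot, hind⟩ := hyN y (Or.inl rfl)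
  set cM := ∑ i ∈ Finset.range (2 ^ (r - 1)), l ^ i with hcM
  have hcf : (2 : ℤ) ^ n ∣ 2 * f - cM := by
    have h := haj (2 ^ (r - 1))
    rw [← hu, ← hcM] at h
    have h' : u * y = v ^ cM * y * u := by rw [← h, inv_mul_cancel_right]
    have h2 : (y * u) ^ 2 = v ^ (-cM) * y ^ 2 * u ^ 2 := by
      calc (y * u) ^ 2 = y * (u * y) * u := by simp [pow_two, mul_assoc]
        _ = (y * v ^ cM * y⁻¹) * y ^ 2 * u ^ 2 := by rw [h']; simp [pow_two, mul_assoc]
        _ = _ := by rw [hypow]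
    rw [hyu1, hy1, mul_one, hu2, hf, ← zpow_add] at h2
    have h3 := orderOf_dvd_iff_zpow_eq_one.mpr h2.symm
    rw [hn'] at h3
    push_cast at h3
    rw [show 2 * f - cM = -cM + 2 * f by ring]
    exact h3
  have hc2 : (2 : ℤ) ^ (n + 1) ∣ (∑ i ∈ Finset.range (2 ^ r), l ^ i) - 4 * f := by
    have hsum : (∑ i ∈ Finset.range (2 ^ r), l ^ i) = cM + l ^ (2 ^ (r - 1)) * cM := by
      rw [show 2 ^ r = 2 ^ (r - 1) + 2 ^ (r - 1) by rw [← two_mul, ← pow_succ']; congr 1; omega,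
        Finset.sum_range_add, hcM, Finset.mul_sum]
      congr 1
      exact Finset.sum_congr rfl fun i _ => pow_add l _ i
    rw [hsum]
    obtain ⟨c, hc⟩ := hlM
    obtain ⟨d, hd⟩ := hcf
    obtain ⟨e, he⟩ : (2 : ℤ) ∣ cM := by
      obtain ⟨n', rfl⟩ : ∃ n', n = n' + 1 := ⟨n - 1, by omega⟩
      exact ⟨f - 2 ^ n' * d, by rw [pow_succ] at hd; linarith⟩
    refine ⟨c * e - d, ?_⟩
    have hlM' : l ^ (2 ^ (r - 1)) = 2 ^ n * c + 1 := by linarith
    have hf' : 2 * f = 2 ^ n * d + cM := by linarith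
    rw [hlM', pow_succ]
    linear_combination (2 ^ n * c) * he - 2 * hf'
  exact ⟨{
    x := a, y := y, v := v, n := n, r := r, k := 2, l := l, f := f
    hn := hn1, hr := by omega, hv := hn', hxv := hxv, hl := hl, hxy := hxy, hyv := hyv
    hxN := hf, hV := hVconj, hynot := hynot
    hgen := hgenall y ⟨0, by rw [zpow_zero, mul_one]⟩ (by rw [← map_pow, hy1, map_one])
    hind := hind
    htype := Or.inr ⟨rfl, hy1⟩
    hlN := by simpa using hlN
    hc := by simpa using hc2 }⟩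

end Cfsg.Agent.Bicyclic55
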