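import Mathlib
import Cfsg.Agent.Lib.PSLCard
import Cfsg.Agent.Lib.Bicyclic55Field
import Cfsg.Agent.Lib.Bicyclic55Structure

/-!
# A linear model for a cyclic extension of a dihedral or quaternion group

The subgroup `⟨v, y⟩` is embedded as a Sylow 2-subgroup of `SL₂(q)` or its quotient by `±1`, so
that the action of `x` extends to an automorphism with the right power.
-/

set_option autoImplicit false
set_option linter.style.haveILetI false
set_option linter.unusedSectionVars false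
set_option maxHeartbeats 600000

namespace Cfsg.Agent.Bicyclic55

open scoped Matrix MatrixGroups

/-! ### Automorphisms of `SL₂` -/

section sl2

variable {K : Type*} [Field K]

/-- The diagonal torus. -/
def torus : Kˣ →* SL(2, K) where
  toFun u := ⟨!![(u : K), 0; 0, ((u⁻¹ : Kˣ) : K)], by simp [Matrix.det_fin_two]⟩
  map_one' := by
    ext i j
    fin_cases i <;> fin_cases j <;> simp
  map_mul' u w := by
    refine Subtype.ext ?_
    show _ = !![(u : K), 0; 0, ((u⁻¹ : Kˣ) : K)] * !![(w : K), 0; 0, ((w⁻¹ : Kˣ) : K)]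
    ext i j
    fin_cases i <;> fin_cases j <;> simp [Matrix.mul_apply, Fin.sum_univ_two, mul_comm]

/-- The Weyl element. -/
def weyl : SL(2, K) := ⟨!![0, 1; -1, 0], by simp [Matrix.det_fin_two]⟩

theorem torus_val (u : Kˣ) :
    (torus u : SL(2, K)).1 = !![(u : K), 0; 0, ((u⁻¹ : Kˣ) : K)] := rfl

theorem weyl_val : (weyl : SL(2, K)).1 = !![0, 1; -1, 0] := rfl

theorem torus_injective : Function.Injective (torus : Kˣ →* SL(2, K)) := fun u w h => by
  have := congrArg (fun g : SL(2, K) => g.1 0 0) h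
  simpa [torus_val, Units.ext_iff] using this

/-- Conjugation by `diag (u, 1)`. -/
def diagAut : Kˣ →* MulAut SL(2, K) where
  toFun u :=
    { toFun := fun A => ⟨!![A.1 0 0, (u : K) * A.1 0 1; ((u⁻¹ : Kˣ) : K) * A.1 1 0, A.1 1 1], by
        have := A.2
        rw [Matrix.det_fin_two] at this
        rw [Matrix.det_fin_two]
        simpa [mul_mul_mul_comm] using this⟩
      invFun := fun A => ⟨!![A.1 0 0, ((u⁻¹ : Kˣ) : K) * A.1 0 1; (u : K) * A.1 1 0, A.1 1 1], by
        have := A.2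
        rw [Matrix.det_fin_two] at this
        rw [Matrix.det_fin_two]
        simpa [mul_mul_mul_comm] using this⟩
      left_inv := fun A => by
        ext i j
        fin_cases i <;> fin_cases j <;> simp
      right_inv := fun A => by
        ext i j
        fin_cases i <;> fin_cases j <;> simp
      map_mul' := fun A B => by
        refine Subtype.ext ?_
        show !![(A * B).1 0 0, (u : K) * (A * B).1 0 1;
            ((u⁻¹ : Kˣ) : K) * (A * B).1 1 0, (A * B).1 1 1] =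
          !![A.1 0 0, (u : K) * A.1 0 1; ((u⁻¹ : Kˣ) : K) * A.1 1 0, A.1 1 1] *
            !![B.1 0 0, (u : K) * B.1 0 1; ((u⁻¹ : Kˣ) : K) * B.1 1 0, B.1 1 1]
        ext i j
        fin_cases i <;> fin_cases j <;>
          simp [Matrix.SpecialLinearGroup.coe_mul, Matrix.mul_apply, Fin.sum_univ_two] <;>
          field_simp }
  map_one' := MulEquiv.ext fun A => Subtype.ext <| Matrix.ext fun i j => by
    show !![A.1 0 0, ((1 : Kˣ) : K) * A.1 0 1; (((1 : Kˣ)⁻¹ : Kˣ) : K) * A.1 1 0, A.1 1 1] i j = A.1 i j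
    fin_cases i <;> fin_cases j <;> simp
  map_mul' u w := MulEquiv.ext fun A => Subtype.ext <| Matrix.ext fun i j => by
    show !![A.1 0 0, ((u * w : Kˣ) : K) * A.1 0 1; (((u * w)⁻¹ : Kˣ) : K) * A.1 1 0, A.1 1 1] i j =
      !![A.1 0 0, (u : K) * ((w : K) * A.1 0 1);
        ((u⁻¹ : Kˣ) : K) * (((w⁻¹ : Kˣ) : K) * A.1 1 0), A.1 1 1] i j
    fin_cases i <;> fin_cases j <;> simp [mul_comm, mul_left_comm, mul_assoc]

theorem diagAut_val (u : Kˣ) (A : SL(2, K)) : (diagAut u A).1 =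
    !![A.1 0 0, (u : K) * A.1 0 1; ((u⁻¹ : Kˣ) : K) * A.1 1 0, A.1 1 1] := rfl

/-- Entrywise field automorphisms. -/
def fieldAut : RingAut K →* MulAut SL(2, K) where
  toFun σ :=
    { toFun := Matrix.SpecialLinearGroup.map ((σ : K ≃+* K) : K →+* K)
      invFun := Matrix.SpecialLinearGroup.map ((σ.symm : K ≃+* K) : K →+* K)
      left_inv := fun A => by
        ext i j
        simp
      right_inv := fun A => by
        ext i j
        simp
      map_mul' := fun A B => map_mul _ A B }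
  map_one' := by
    ext A i j
    rfl
  map_mul' σ τ := by
    ext A i j
    rfl

theorem fieldAut_val (σ : RingAut K) (A : SL(2, K)) (i j : Fin 2) :
    (fieldAut σ A).1 i j = σ (A.1 i j) := rfl

theorem diagAut_torus (u w : Kˣ) : diagAut u (torus w) = torus w := by
  ext i j
  fin_cases i <;> fin_cases j <;> simp [diagAut_val, torus_val]

theorem diagAut_weyl (u : Kˣ) : diagAut u weyl = torus u * weyl := by
  ext i j
  fin_cases i <;> fin_cases j <;>
    simp [diagAut_val, torus_val, weyl_val, Matrix.SpecialLinearGroup.coe_mul, Matrix.mul_apply,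
      Fin.sum_univ_two]

theorem conj_torus (u : Kˣ) : MulAut.conj (torus u) = diagAut (u * u) := by
  ext A i j
  rw [MulAut.conj_apply, ← map_inv]
  fin_cases i <;> fin_cases j <;>
    simp [diagAut_val, torus_val, Matrix.SpecialLinearGroup.coe_mul, Matrix.mul_apply,
      Fin.sum_univ_two, Matrix.vecMul, dotProduct] <;> field_simp

theorem weyl_sq : (weyl : SL(2, K)) * weyl = torus (-1) := by
  ext i j
  fin_cases i <;> fin_cases j <;> simp [torus_val, weyl_val, Matrix.SpecialLinearGroup.coe_mul, Matrix.mul_apply, Fin.sum_univ_two]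

theorem weyl_torus (u : Kˣ) : weyl * torus u * weyl⁻¹ = torus u⁻¹ := by
  rw [mul_inv_eq_iff_eq_mul]
  ext i j
  fin_cases i <;> fin_cases j <;> simp [torus_val, weyl_val, Matrix.SpecialLinearGroup.coe_mul, Matrix.mul_apply, Fin.sum_univ_two]

theorem weyl_diagAut (u : Kˣ) :
    MulAut.conj weyl * diagAut u = diagAut u⁻¹ * MulAut.conj (weyl : SL(2, K)) := by
  ext A i j
  simp only [MulAut.mul_apply, MulAut.conj_apply]
  fin_cases i <;> fin_cases j <;>
    simp [diagAut_val, weyl_val, Matrix.SpecialLinearGroup.coe_mul, Matrix.mul_apply, Fin.sum_univ_two,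
      Matrix.SpecialLinearGroup.coe_inv, Matrix.adjugate_fin_two, -map_inv] <;> field_simp

theorem fieldAut_torus (σ : RingAut K) (u : Kˣ) :
    fieldAut σ (torus u) = torus (Units.map ((σ : K ≃+* K) : K →* K) u) := by
  ext i j
  fin_cases i <;> fin_cases j <;> simp [fieldAut_val, torus_val]

theorem fieldAut_weyl (σ : RingAut K) : fieldAut σ (weyl : SL(2, K)) = weyl := by
  ext i j
  fin_cases i <;> fin_cases j <;> simp [fieldAut_val, weyl_val]

theorem fieldAut_diagAut (σ : RingAut K) (u : Kˣ) :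
    fieldAut σ * diagAut u = diagAut (Units.map ((σ : K ≃+* K) : K →* K) u) * fieldAut σ := by
  ext A i j
  simp only [MulAut.mul_apply]
  fin_cases i <;> fin_cases j <;> simp [fieldAut_val, diagAut_val]

theorem torus_neg_one_central : torus (-1 : Kˣ) ∈ Subgroup.center SL(2, K) := by
  rw [Subgroup.mem_center_iff]
  intro A
  ext i j
  fin_cases i <;> fin_cases j <;> simp [torus_val, Matrix.SpecialLinearGroup.coe_mul, Matrix.mul_apply, Fin.sum_univ_two]

theorem weyl_not_torus (u : Kˣ) : weyl⁻¹ * torus u ≠ (1 : SL(2, K)) ∧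
    weyl⁻¹ * torus u ≠ (torus (-1) : SL(2, K)) := by
  constructor <;> intro h <;> rw [inv_mul_eq_iff_eq_mul] at h <;>
    have := congrArg (fun g : SL(2, K) => g.1 0 0) h <;>
    simp [torus_val, weyl_val, Matrix.SpecialLinearGroup.coe_mul, Matrix.mul_apply, Fin.sum_univ_two] at this

/-- An element of order four of the torus is conjugate to the Weyl element. -/
theorem isConj_weyl (h2 : (2 : K) ≠ 0) {i : Kˣ} (hi : i * i = -1) :
    IsConj (weyl : SL(2, K)) (torus i) := by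
  have hi' : (i : K) * i = -1 := by simpa using congrArg Units.val hi
  have hinv : ((i⁻¹ : Kˣ) : K) = -i := by
    rw [Units.val_inv_eq_inv_val]
    exact inv_eq_of_mul_eq_one_right (by rw [mul_neg, hi', neg_neg])
  obtain ⟨c, hc⟩ : ∃ c : SL(2, K),
      c.1 = !![1, -(i : K); (2 * (i : K))⁻¹, (i : K) * (2 * (i : K))⁻¹] := by
    refine ⟨⟨_, ?_⟩, rfl⟩
    rw [Matrix.det_fin_two]
    simp only [Matrix.cons_val', Matrix.cons_val_zero, Matrix.cons_val_one, Matrix.of_apply,
      Matrix.empty_val', Matrix.cons_val_fin_one]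
    field_simp
    ring
  refine isConj_iff.mpr ⟨c, ?_⟩
  · rw [mul_inv_eq_iff_eq_mul]
    have e1 : (i : K) * (i : K) = -1 := hi'
    ext a b
    fin_cases a <;> fin_cases b <;>
      simp [hc, torus_val, weyl_val, hinv, Matrix.SpecialLinearGroup.coe_mul, Matrix.mul_apply,
        Fin.sum_univ_two] <;>
      field_simp <;> linear_combination e1

end sl2

/-! ### The dihedral or quaternion group -/

/-- The subgroup `{v ^ i, v ^ i * y}`. -/
def dih {H : Type*} [Group H] (v y : H) (E : ℤ) (hinv : y * v * y⁻¹ = v⁻¹) (hsq : y ^ 2 = v ^ E) :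
    Subgroup H where
  carrier := {g | ∃ i : ℤ, g = v ^ i ∨ g = v ^ i * y}
  one_mem' := ⟨0, Or.inl (zpow_zero v).symm⟩
  mul_mem' := by
    have hy : ∀ j : ℤ, y * v ^ j = v ^ (-j) * y := fun j => by
      rw [zpow_neg, ← inv_zpow, ← hinv, conj_zpow, inv_mul_cancel_right]
    rintro g h ⟨i, rfl | rfl⟩ ⟨j, rfl | rfl⟩
    · exact ⟨i + j, Or.inl (zpow_add v i j).symm⟩
    · exact ⟨i + j, Or.inr (by rw [zpow_add, mul_assoc])⟩
    · exact ⟨i + -j, Or.inr (by rw [mul_assoc, hy, zpow_add, mul_assoc])⟩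
    · refine ⟨i + -j + E, Or.inl ?_⟩
      rw [zpow_add, zpow_add, ← hsq, mul_assoc (v ^ i) y, ← mul_assoc y, hy]
      simp [pow_two, mul_assoc]
  inv_mem' := by
    have hy : ∀ j : ℤ, y⁻¹ * v ^ j = v ^ (-j) * y⁻¹ := fun j => by
      have h : y * v ^ (-j) * y⁻¹ = v ^ j := by
        rw [← conj_zpow, hinv, inv_zpow, ← zpow_neg, neg_neg]
      nth_rewrite 1 [← h]
      group
    rintro g ⟨i, rfl | rfl⟩
    · exact ⟨-i, Or.inl (zpow_neg v i).symm⟩
    · refine ⟨i + -E, Or.inr ?_⟩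
      rw [mul_inv_rev, ← zpow_neg, hy, neg_neg, zpow_add, zpow_neg v E, ← hsq, mul_assoc]
      simp [pow_two, mul_assoc]

/-- Equal orders and equal squares give an embedding. -/
theorem dih_hom {G L : Type*} [Group G] [Group L] {v y : G} {v₀ y₀ : L} {E : ℤ}
    (hinv : y * v * y⁻¹ = v⁻¹) (hsq : y ^ 2 = v ^ E) (hinv₀ : y₀ * v₀ * y₀⁻¹ = v₀⁻¹)
    (hsq₀ : y₀ ^ 2 = v₀ ^ E) (hord : ∀ i : ℤ, v ^ i = 1 ↔ v₀ ^ i = 1)
    (hy : y ∉ Subgroup.zpowers v) (hy₀ : y₀ ∉ Subgroup.zpowers v₀) :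
    ∃ e : dih v y E hinv hsq →* L, Function.Injective e ∧
      (∀ g : dih v y E hinv hsq, ∀ i : ℤ, (g : G) = v ^ i → e g = v₀ ^ i) ∧
      ∀ g : dih v y E hinv hsq, ∀ i : ℤ, (g : G) = v ^ i * y → e g = v₀ ^ i * y₀ := by
  set Γ := dih ((v, v₀) : G × L) (y, y₀) E (Prod.ext hinv hinv₀) (Prod.ext hsq hsq₀) with hΓ
  let p₁ : Γ →* dih v y E hinv hsq := MonoidHom.codRestrict ((MonoidHom.fst G L).comp Γ.subtype) _
    (fun g => by
      obtain ⟨i, h | h⟩ := g.2
      · exact ⟨i, Or.inl (congrArg Prod.fst h)⟩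
      · exact ⟨i, Or.inr (congrArg Prod.fst h)⟩)
  let p₂ : Γ →* L := (MonoidHom.snd G L).comp Γ.subtype
  have hin₁ : Function.Injective p₁ := by
    rw [injective_iff_map_eq_one]
    rintro ⟨g, i, rfl | rfl⟩ h
    · have h' : v ^ i = 1 := congrArg Subtype.val h
      exact Subtype.ext (Prod.ext h' ((hord i).mp h'))
    · have h' : v ^ i * y = 1 := congrArg Subtype.val h
      exact absurd ⟨-i, by simp only [zpow_neg]; exact inv_eq_of_mul_eq_one_right h'⟩ hy
  have hin₂ : Function.Injective p₂ := by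
    rw [injective_iff_map_eq_one]
    rintro ⟨g, i, rfl | rfl⟩ h
    · have h' : v₀ ^ i = 1 := h
      exact Subtype.ext (Prod.ext ((hord i).mpr h') h')
    · have h' : v₀ ^ i * y₀ = 1 := h
      exact absurd ⟨-i, by simp only [zpow_neg]; exact inv_eq_of_mul_eq_one_right h'⟩ hy₀
  have hsurj : Function.Surjective p₁ := by
    rintro ⟨g, i, rfl | rfl⟩
    · exact ⟨⟨(v, v₀) ^ i, i, Or.inl rfl⟩, Subtype.ext rfl⟩
    · exact ⟨⟨(v, v₀) ^ i * (y, y₀), i, Or.inr rfl⟩, Subtype.ext rfl⟩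
  let q := MulEquiv.ofBijective p₁ ⟨hin₁, hsurj⟩
  refine ⟨p₂.comp q.symm.toMonoidHom, hin₂.comp q.symm.injective, fun g i hg => ?_, fun g i hg => ?_⟩
  · have e : q.symm g = ⟨(v, v₀) ^ i, i, Or.inl rfl⟩ := by
      rw [MulEquiv.symm_apply_eq]; exact Subtype.ext hg
    show p₂ (q.symm g) = _
    rw [e]; rfl
  · have e : q.symm g = ⟨(v, v₀) ^ i * (y, y₀), i, Or.inr rfl⟩ := by
      rw [MulEquiv.symm_apply_eq]; exact Subtype.ext hg
    show p₂ (q.symm g) = _
    rw [e]; rfl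

theorem card_dih {G : Type*} [Group G] {v y : G} {E : ℤ} (hinv : y * v * y⁻¹ = v⁻¹)
    (hsq : y ^ 2 = v ^ E) (hy : y ∉ Subgroup.zpowers v) :
    Nat.card (dih v y E hinv hsq) = 2 * orderOf v := by
  classical
  have hmem : ∀ (b : Bool) (g : Subgroup.zpowers v),
      (if b then (g : G) * y else g) ∈ dih v y E hinv hsq := fun b g => by
    obtain ⟨i, hi⟩ := Subgroup.mem_zpowers_iff.mp g.2
    cases b
    · exact ⟨i, Or.inl hi.symm⟩
    · exact ⟨i, Or.inr (by simp [hi])⟩
  rw [← Nat.card_zpowers, ← Nat.card_eq_two_iff.mpr ⟨false, true, by simp, by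
    ext b; cases b <;> simp⟩, ← Nat.card_prod]
  refine (Nat.card_congr (Equiv.ofBijective
    (fun p : Bool × Subgroup.zpowers v => (⟨_, hmem p.1 p.2⟩ : dih v y E hinv hsq)) ⟨?_, ?_⟩)).symm
  · rintro ⟨b, g⟩ ⟨c, h⟩ e
    have e' := congrArg Subtype.val e
    cases b <;> cases c <;> simp only [Bool.false_eq_true, if_false, if_true] at e'
    · rw [Subtype.ext e']
    · exact absurd (by
        rw [show y = (h : G)⁻¹ * g by rw [e']; group]; exact mul_mem (inv_mem h.2) g.2) hy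
    · exact absurd (by
        rw [show y = (g : G)⁻¹ * h by rw [← e']; group]; exact mul_mem (inv_mem g.2) h.2) hy
    · rw [Subtype.ext (mul_right_cancel e')]
  · rintro ⟨g, i, rfl | rfl⟩
    · exact ⟨(false, ⟨v ^ i, Subgroup.zpow_mem_zpowers v i⟩), Subtype.ext rfl⟩
    · exact ⟨(true, ⟨v ^ i, Subgroup.zpow_mem_zpowers v i⟩), Subtype.ext rfl⟩

/-! ### The model -/

/-- Everything needed to amalgamate. -/
theorem exists_model {G : Type*} [Group G] [Finite G] (d : CyclicData G) :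
    ∃ (L : Type) (_ : Group L) (_ : Finite L) (D : Subgroup G) (_ : D.Normal) (e : D →* L)
      (hxN : d.x ^ 2 ^ d.r ∈ D) (ξ : MulAut L), Function.Injective e ∧
      (∀ j : ℤ, d.x ^ j ∈ D → ((2 ^ d.r : ℕ) : ℤ) ∣ j) ∧
      (∀ s : G, ∃ g ∈ D, ∃ j : ℤ, s = g * d.x ^ j) ∧
      (∀ (g : G) (hg : g ∈ D), ∃ hg' : d.x * g * d.x⁻¹ ∈ D, ξ (e ⟨g, hg⟩) = e ⟨_, hg'⟩) ∧
      ξ ^ 2 ^ d.r = MulAut.conj (e ⟨_, hxN⟩) ∧ ¬ 2 ∣ Nat.card L / Nat.card D ∧
      ∃ d₁ d₂ : D, IsConj (e d₁) (e d₂) ∧ ¬ IsConj (d₁ : G) d₂ := by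
  classical
  obtain ⟨x, y, v, n, r, k, l, f, hn, hr, hv, hxv, hl, hxy, hyv, hxN, hV, hynot, hgen, hind, htype,
    hlN, hc⟩ := d
  simp only
  set N := n + k - 1 with hNdef
  have hk : k = 1 ∨ k = 2 := htype.elim (fun h => Or.inl h.1) fun h => Or.inr h.1
  have hN2 : 2 ≤ N := by
    rcases htype with ⟨rfl, hn2, -⟩ | ⟨rfl, -⟩ <;> omega
  have h2r : Even (2 ^ r) := Nat.even_pow.mpr ⟨even_two, by omega⟩
  -- the sign
  set sgn : Bool := decide ((4 : ℤ) ∣ l - 1) with hsgn
  set m : ℤ := if sgn then l else -l with hm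
  have hm4 : (4 : ℤ) ∣ m - 1 := by
    rw [hm]
    obtain ⟨l', hl'⟩ := hl
    by_cases h : (4 : ℤ) ∣ l - 1
    · rw [hsgn, decide_eq_true h]; exact h
    · rw [hsgn, decide_eq_false h]
      simp only [Bool.false_eq_true, if_false]
      omega
  have hmN : (2 : ℤ) ^ N ∣ m ^ 2 ^ r - 1 := by
    rw [hm]; cases sgn <;> simp [h2r.neg_pow, hlN]
  obtain ⟨K, _, _, σ, ζ, hζ, hσζ, hσN, h2, hq, hq'⟩ := exists_field hN2 hm4 hmN
  -- the automorphism of `SL₂`
  set η : MulAut SL(2, K) := if sgn then fieldAut σ else MulAut.conj weyl * fieldAut σ with hη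
  have hζmap : ∀ i : ℤ, Units.map ((σ : K ≃+* K) : K →* K) (ζ ^ i) = ζ ^ (m * i) := fun i => by
    rw [map_zpow, hσζ, ← zpow_mul]
  have hηt : ∀ i : ℤ, η (torus (ζ ^ i)) = torus (ζ ^ (l * i)) := by
    intro i
    rw [hη]
    cases hs : sgn <;>
      simp only [Bool.false_eq_true, if_false, if_true, MulAut.mul_apply, fieldAut_torus, hζmap,
        MulAut.conj_apply, weyl_torus] <;> congr 1 <;> rw [hm, hs] <;>
      simp [← zpow_neg, neg_mul]
  have hηd : ∀ i : ℤ, η * diagAut (ζ ^ i) = diagAut (ζ ^ (l * i)) * η := by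
    intro i
    rw [hη]
    cases hs : sgn <;> simp only [Bool.false_eq_true, if_false, if_true]
    · rw [mul_assoc, fieldAut_diagAut, ← mul_assoc, weyl_diagAut, hζmap, mul_assoc]
      congr 2
      rw [hm, hs]; simp [← zpow_neg, neg_mul]
    · rw [fieldAut_diagAut, hζmap]
      congr 2
      rw [hm, hs]; simp
  have hσc : ∀ A : SL(2, K), fieldAut σ (weyl * A * weyl⁻¹) = weyl * fieldAut σ A * weyl⁻¹ := fun A => by
    rw [map_mul, map_mul, map_inv, fieldAut_weyl]
  have hcw : Commute (MulAut.conj (weyl : SL(2, K))) (fieldAut σ) := MulEquiv.ext fun A => by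
    simp only [MulAut.mul_apply, MulAut.conj_apply, hσc]
  have hw2 : MulAut.conj (weyl : SL(2, K)) ^ 2 = 1 := by
    rw [sq, ← map_mul, weyl_sq]
    refine MulEquiv.ext fun A => ?_
    rw [MulAut.conj_apply, MulAut.one_apply,
      ← Subgroup.mem_center_iff.mp torus_neg_one_central A, mul_inv_cancel_right]
  have hηN : η ^ 2 ^ r = 1 := by
    rw [hη]
    cases sgn <;> simp only [Bool.false_eq_true, if_false, if_true]
    · obtain ⟨M, hM⟩ := h2r
      rw [hcw.mul_pow, ← map_pow fieldAut, hσN, map_one, mul_one, hM, ← two_mul, pow_mul, hw2,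
        one_pow]
    · rw [← map_pow, hσN, map_one]
  have hηW : η weyl = weyl := by
    rw [hη]
    cases sgn <;> simp [fieldAut_weyl, MulAut.conj_apply]
  set ξ₀ : MulAut SL(2, K) := diagAut ζ * η with hξ₀
  have hξt : ∀ i : ℤ, ξ₀ (torus (ζ ^ i)) = torus (ζ ^ (l * i)) := fun i => by
    rw [hξ₀, MulAut.mul_apply, hηt, diagAut_torus]
  have hξW : ξ₀ weyl = torus ζ * weyl := by
    rw [hξ₀, MulAut.mul_apply, hηW, diagAut_weyl]
  have hξpow : ∀ j : ℕ, ξ₀ ^ j = diagAut (ζ ^ (∑ i ∈ Finset.range j, l ^ i)) * η ^ j := by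
    intro j
    induction j with
    | zero => simp
    | succ j ih =>
      rw [pow_succ', ih, hξ₀, geom_sum_succ, zpow_add, zpow_one, map_mul,
        ← mul_assoc, mul_assoc (diagAut ζ) η, hηd, pow_succ']
      rw [← mul_assoc, ← mul_assoc, ← map_mul diagAut, mul_comm ζ, mul_assoc]
      simp only [map_mul, mul_assoc]
  have hξN : ξ₀ ^ 2 ^ r = MulAut.conj (torus (ζ ^ (2 * f))) := by
    rw [hξpow, hηN, mul_one, conj_torus, ← zpow_add]
    congr 1
    rw [← orderOf_dvd_sub_iff_zpow_eq_zpow, hζ]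
    push_cast
    rw [show 2 * f + 2 * f = 4 * f by ring]
    exact hc
  -- the quotient
  set ε : Kˣ := if k = 1 then 1 else -1 with hε
  have hεc : torus ε ∈ Subgroup.center SL(2, K) := by
    rw [hε]; split_ifs
    · rw [map_one]; exact one_mem _
    · exact torus_neg_one_central
  haveI hZn : (Subgroup.zpowers (torus ε)).Normal :=
    PGroupsBasic.normal_of_le_center (Subgroup.zpowers_le.mpr hεc)
  have hεζ : ∀ i : ℤ, ζ ^ i ∈ Subgroup.zpowers ε ↔ ((2 ^ n : ℕ) : ℤ) ∣ i := by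
    intro i
    have hpn : orderOf ζ = 2 ^ N := hζ
    rcases hk with rfl | rfl
    · rw [hε, if_pos rfl, Subgroup.zpowers_one_eq_bot, Subgroup.mem_bot,
        ← orderOf_dvd_iff_zpow_eq_one, hζ, show N = n by omega]
    · have hN1 : N = n + 1 := by omega
      have hmem : ∀ u : Kˣ, u ∈ Subgroup.zpowers (-1 : Kˣ) ↔ u = 1 ∨ u = -1 := by
        intro u
        constructor
        · intro hu
          obtain ⟨j, rfl⟩ := Subgroup.mem_zpowers_iff.mp hu
          rcases Int.even_or_odd j with hj | hj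
          · exact Or.inl hj.neg_one_zpow
          · exact Or.inr hj.neg_one_zpow
        · rintro (rfl | rfl)
          · exact one_mem _
          · exact Subgroup.mem_zpowers _
      have hsq : ∀ u : Kˣ, (u = 1 ∨ u = -1) ↔ u ^ 2 = 1 := by
        intro u
        rw [Units.ext_iff, Units.ext_iff, Units.ext_iff]
        simp [pow_two, mul_self_eq_one_iff]
      rw [hε, if_neg (by norm_num), hmem, hsq, ← zpow_natCast, ← zpow_mul,
        ← orderOf_dvd_iff_zpow_eq_one, hζ, hN1]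
      push_cast
      rw [pow_succ]
      exact ⟨fun h => Int.dvd_of_mul_dvd_mul_right (by norm_num) h, fun h => mul_dvd_mul_right h 2⟩
  set π := QuotientGroup.mk' (Subgroup.zpowers (torus ε))
  have hεfix : ξ₀ (torus ε) = torus ε := by
    have hεη : η (torus ε) = torus ε := by
      have hσε : Units.map ((σ : K ≃+* K) : K →* K) ε = ε := by
        rw [hε]; split_ifs
        · exact map_one _
        · ext; simp
      have hεi : ε⁻¹ = ε := by rw [hε]; split_ifs <;> simp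
      rw [hη]
      cases sgn <;> simp [MulAut.conj_apply, fieldAut_torus, hσε, weyl_torus, hεi, -map_inv]
    rw [hξ₀, MulAut.mul_apply, hεη, diagAut_torus]
  have hmap : (Subgroup.zpowers (torus ε)).map ξ₀.toMonoidHom = Subgroup.zpowers (torus ε) := by
    rw [MonoidHom.map_zpowers]; exact congrArg Subgroup.zpowers hεfix
  set ξ : MulAut (SL(2, K) ⧸ Subgroup.zpowers (torus ε)) := QuotientGroup.congr _ _ ξ₀ hmap
  have hξπ : ∀ A, ξ (π A) = π (ξ₀ A) := fun A => rfl
  have hξπN : ∀ (j : ℕ) A, (ξ ^ j) (π A) = π ((ξ₀ ^ j) A) := by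
    intro j
    induction j with
    | zero => intro A; rfl
    | succ j ih => intro A; rw [pow_succ, MulAut.mul_apply, hξπ, ih, ← MulAut.mul_apply, ← pow_succ]
  set v₀ := π (torus ζ) with hv₀
  set y₀ := π weyl with hy₀
  have hv₀pow : ∀ i : ℤ, v₀ ^ i = π (torus (ζ ^ i)) := fun i => by rw [hv₀, map_zpow, map_zpow]
  have hπ1 : ∀ u : Kˣ, π (torus u) = 1 ↔ u ∈ Subgroup.zpowers ε := by
    intro u
    rw [show π (torus u) = 1 ↔ _ from QuotientGroup.eq_one_iff _, ← MonoidHom.map_zpowers]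
    exact ⟨fun ⟨w, hw, e⟩ => torus_injective e ▸ hw, fun h => ⟨u, h, rfl⟩⟩
  have hord : ∀ i : ℤ, v ^ i = 1 ↔ v₀ ^ i = 1 := fun i => by
    rw [hv₀pow, hπ1, hεζ, ← orderOf_dvd_iff_zpow_eq_one, hv]
  set E : ℤ := if k = 1 then ((2 ^ (n - 1) : ℕ) : ℤ) else 0 with hEdef
  have hsq : y ^ 2 = v ^ E := by
    rw [hEdef]
    rcases htype with ⟨rfl, -, h⟩ | ⟨rfl, h⟩
    · rw [if_pos rfl, zpow_natCast, h]
    · rw [if_neg (by norm_num), zpow_zero, h]
  have hsq₀ : y₀ ^ 2 = v₀ ^ E := by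
    rw [hy₀, ← map_pow, sq, weyl_sq, hv₀pow, hEdef]
    rcases hk with rfl | rfl
    · rw [if_pos rfl]
      congr 2
      have h1 : (ζ ^ ((2 ^ (n - 1) : ℕ) : ℤ)) ^ 2 = 1 := by
        rw [zpow_natCast, ← pow_mul, ← pow_succ, show n - 1 + 1 = N by omega, ← hζ, pow_orderOf_eq_one]
      have h2' : ζ ^ ((2 ^ (n - 1) : ℕ) : ℤ) ≠ 1 := by
        rw [zpow_natCast]
        intro h
        have := Nat.le_of_dvd (by positivity) (hζ ▸ orderOf_dvd_of_pow_eq_one h)
        have : 2 ^ (n - 1) < 2 ^ N := Nat.pow_lt_pow_right (by norm_num) (by omega)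
        omega
      have h3 : ζ ^ ((2 ^ (n - 1) : ℕ) : ℤ) = 1 ∨ ζ ^ ((2 ^ (n - 1) : ℕ) : ℤ) = -1 := by
        rw [Units.ext_iff, Units.ext_iff]
        simp only [Units.val_one, Units.val_neg]
        refine mul_self_eq_one_iff.mp ?_
        rw [← sq, ← Units.val_pow_eq_pow_val, h1, Units.val_one]
      exact (h3.resolve_left h2').symm
    · rw [if_neg (by norm_num), zpow_zero, map_one, map_one, hπ1, hε, if_neg (by norm_num)]
      exact Subgroup.mem_zpowers _
  have hinv₀ : y₀ * v₀ * y₀⁻¹ = v₀⁻¹ := by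
    rw [hy₀, hv₀, ← map_inv, ← map_mul, ← map_mul, weyl_torus, map_inv, map_inv]
  have hy₀not : y₀ ∉ Subgroup.zpowers v₀ := by
    intro h
    obtain ⟨i, hi⟩ := Subgroup.mem_zpowers_iff.mp h
    rw [hv₀pow, hy₀] at hi
    have hm' := QuotientGroup.eq.mp hi.symm
    obtain ⟨n₁, n₂⟩ := weyl_not_torus (ζ ^ i)
    obtain ⟨j, hj⟩ := Subgroup.mem_zpowers_iff.mp hm'
    rcases Int.even_or_odd j with he | he <;> rw [← map_zpow, hε] at hj <;> split_ifs at hj
    · rw [one_zpow, map_one] at hj; exact n₁ hj.symm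
    · rw [he.neg_one_zpow, map_one] at hj; exact n₁ hj.symm
    · rw [one_zpow, map_one] at hj; exact n₁ hj.symm
    · rw [he.neg_one_zpow] at hj; exact n₂ hj.symm
  set D := dih v y E hyv hsq with hDdef
  obtain ⟨e, heinj, hev, hevy⟩ := dih_hom hyv hsq hinv₀ hsq₀ hord hynot hy₀not
  have hmemv : ∀ i : ℤ, v ^ i ∈ D := fun i => ⟨i, Or.inl rfl⟩
  have hmemvy : ∀ i : ℤ, v ^ i * y ∈ D := fun i => ⟨i, Or.inr rfl⟩
  have hxD : ∀ g ∈ D, x * g * x⁻¹ ∈ D := by
    rintro g ⟨i, rfl | rfl⟩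
    · rw [← conj_zpow, hxv, ← zpow_mul]; exact hmemv _
    · rw [show x * (v ^ i * y) * x⁻¹ = (x * v ^ i * x⁻¹) * (x * y * x⁻¹) by group, ← conj_zpow,
        hxv, ← zpow_mul, hxy, ← mul_assoc, ← zpow_add_one]
      exact hmemvy _
  have hyD : y ∈ D := by simpa using hmemvy 0
  haveI hDn : D.Normal := by
    rw [← Subgroup.normalizer_eq_top_iff, ← top_le_iff]
    have hxn : x ∈ Subgroup.normalizer (D : Set G) := by
      have hmapD : D.map (MulAut.conj x).toMonoidHom = D := by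
        refine Subgroup.eq_of_le_of_card_ge ?_
          (Nat.card_congr (Subgroup.equivMapOfInjective D _ (MulAut.conj x).injective).toEquiv).le
        rintro _ ⟨g, hg, rfl⟩
        exact hxD g hg
      refine Subgroup.mem_normalizer_iff.mpr fun t => ⟨fun ht => hxD t ht, fun ht => ?_⟩
      obtain ⟨s, hs, he⟩ := hmapD.ge ht
      exact (mul_left_cancel (mul_right_cancel (show x * s * x⁻¹ = x * t * x⁻¹ from he))) ▸ hs
    intro g _
    obtain ⟨i, j, h | h⟩ := hgen g <;> rw [h]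
    · exact mul_mem (Subgroup.le_normalizer (hmemv i)) (zpow_mem hxn j)
    · exact mul_mem (Subgroup.le_normalizer (hmemvy i)) (zpow_mem hxn j)
  have hxND : x ^ 2 ^ r ∈ D := hxN ▸ hmemv _
  refine ⟨SL(2, K) ⧸ Subgroup.zpowers (torus ε), inferInstance, inferInstance, D, hDn, e, hxND, ξ,
    heinj, ?_, ?_, ?_, ?_, ?_, ?_⟩
  · rintro j ⟨i, h | h⟩
    · exact hind i j (Or.inl h)
    · exact hind i j (Or.inr h)
  · intro s
    obtain ⟨i, j, h | h⟩ := hgen s
    · exact ⟨_, hmemv i, j, h⟩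
    · exact ⟨_, hmemvy i, j, h⟩
  · intro g hg
    refine ⟨hxD g hg, ?_⟩
    obtain ⟨i, rfl | rfl⟩ := hg
    · rw [hev _ i rfl, hev _ (l * i) (by
          show x * v ^ i * x⁻¹ = _
          rw [← conj_zpow, hxv, ← zpow_mul]), hv₀pow, hξπ, hξt,
        hv₀pow]
    · rw [hevy _ i rfl, hevy _ (l * i + 1) (by
          show x * (v ^ i * y) * x⁻¹ = _
          rw [show x * (v ^ i * y) * x⁻¹ = (x * v ^ i * x⁻¹) * (x * y * x⁻¹) by group, ← conj_zpow,
            hxv, ← zpow_mul, hxy, ← mul_assoc, ← zpow_add_one]),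
        hv₀pow, hy₀, ← map_mul, hξπ, map_mul, hξt, hξW, hv₀pow, ← map_mul, ← mul_assoc,
        ← map_mul torus, ← zpow_add_one]
  · rw [hev _ (2 * f) hxN, hv₀pow]
    refine MulEquiv.ext fun q => ?_
    obtain ⟨A, rfl⟩ := QuotientGroup.mk'_surjective _ q
    rw [hξπN, hξN, MulAut.conj_apply, MulAut.conj_apply, map_mul, map_mul, map_inv]
  · rw [hDdef, card_dih hyv hsq hynot, hv]
    obtain ⟨a, ha⟩ := hq
    have ha' : ¬ 2 ∣ a := fun ⟨c, hc⟩ => hq' ⟨c, by rw [ha, hc, pow_succ]; ring⟩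
    have hKc : 1 ≤ Nat.card K := Nat.card_pos
    obtain ⟨N', hN'⟩ : ∃ N', N = N' + 2 := ⟨N - 2, by omega⟩
    have hKq : Nat.card K = 2 ^ N * a + 1 := by omega
    set b := 2 ^ (N' + 1) * a + 1 with hb
    have hSL : Nat.card SL(2, K) = 2 ^ (N + 1) * (Nat.card K * a * b) := by
      rw [PSLCard.card_SL2]
      have e1 : Nat.card K ^ 2 - 1 = (2 ^ N * a) * (2 * b) := by
        rw [hKq, show (2 * b) = 2 ^ N * a + 2 by rw [hb, hN']; ring]
        have : (2 ^ N * a + 1) ^ 2 = 2 ^ N * a * (2 ^ N * a + 2) + 1 := by ring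
        omega
      rw [e1]; ring
    have hZ : Nat.card (Subgroup.zpowers (torus ε)) = k := by
      rw [Nat.card_zpowers, orderOf_injective torus torus_injective, hε]
      rcases hk with rfl | rfl
      · simp
      · rw [if_neg (by norm_num)]
        refine orderOf_eq_prime (by simp) fun h => h2 ?_
        have h' : (-1 : K) = 1 := by simpa using congrArg Units.val h
        linear_combination -h'
    have hL := Subgroup.card_eq_card_quotient_mul_card_subgroup (Subgroup.zpowers (torus ε))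
    rw [hZ, hSL] at hL
    have hL' : Nat.card (SL(2, K) ⧸ Subgroup.zpowers (torus ε)) =
        2 * 2 ^ n * (Nat.card K * a * b) := by
      rcases hk with rfl | rfl
      · rw [mul_one, show N = n by omega] at hL; rw [← hL]; ring
      · rw [show N = n + 1 by omega, pow_succ, pow_succ] at hL
        linarith
    rw [hL', Nat.mul_div_cancel_left _ (by positivity), Nat.prime_two.dvd_mul, Nat.prime_two.dvd_mul]
    have hKodd : ¬ 2 ∣ Nat.card K := by
      rw [hKq, hN', pow_succ, mul_comm _ 2, mul_assoc]; omega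
    have hbodd : ¬ 2 ∣ b := by rw [hb, pow_succ, mul_comm _ 2, mul_assoc]; omega
    tauto
  · refine ⟨⟨y, hyD⟩, ⟨v ^ ((2 ^ (N - 2) : ℕ) : ℤ), hmemv _⟩, ?_, ?_⟩
    · rw [hevy ⟨y, hyD⟩ 0 (by simp), hev _ _ rfl, zpow_zero, one_mul, hy₀, hv₀pow]
      refine MonoidHom.map_isConj π (isConj_weyl h2 ?_)
      rw [← sq, zpow_natCast, ← pow_mul, ← pow_succ, show N - 2 + 1 = N - 1 by omega]
      have h1 : (ζ ^ 2 ^ (N - 1)) ^ 2 = 1 := by
        rw [← pow_mul, ← pow_succ, show N - 1 + 1 = N by omega, ← hζ, pow_orderOf_eq_one]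
      have h2' : ζ ^ 2 ^ (N - 1) ≠ 1 := by
        intro h
        have := Nat.le_of_dvd (by positivity) (hζ ▸ orderOf_dvd_of_pow_eq_one h)
        have : 2 ^ (N - 1) < 2 ^ N := Nat.pow_lt_pow_right (by norm_num) (by omega)
        omega
      have h3 : ζ ^ 2 ^ (N - 1) = 1 ∨ ζ ^ 2 ^ (N - 1) = -1 := by
        rw [Units.ext_iff, Units.ext_iff]
        simp only [Units.val_one, Units.val_neg]
        refine mul_self_eq_one_iff.mp ?_
        rw [← sq, ← Units.val_pow_eq_pow_val, h1, Units.val_one]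
      exact h3.resolve_left h2'
    · intro h
      obtain ⟨g, hg⟩ := isConj_iff.mp h.symm
      obtain ⟨j, hj⟩ := hV g ((2 ^ (N - 2) : ℕ) : ℤ)
      exact hynot ⟨j, (hj.symm.trans hg)⟩

end Cfsg.Agent.Bicyclic55
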