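import Mathlib
import Cfsg.Agent.Lib.Bicyclic55Derived

/-!
# A non-inner saturated fusion system forces a cyclic derived subgroup

For a bicyclic 2-group: either there is an essential subgroup, and `derived_cyclic` applies, or an
automorphism of order three of the whole group forces a derived subgroup of order at most two.
-/

set_option autoImplicit false
set_option linter.style.haveILetI false
set_option linter.unusedSectionVars false
set_option maxHeartbeats 600000

namespace Cfsg.Agent.Bicyclic55

open Cfsg Cfsg.FusionSystem Cfsg.Agent.FusionSysBasic Cfsg.Agent.FusionSysSaturated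
  Cfsg.Agent.FusionSysNormal Cfsg.Agent.FusionSysAlperin Cfsg.Agent.HallAlperinPowers

/-- An automorphism of odd prime order forces a small derived subgroup. -/
theorem cyclic_of_odd_aut {G : Type*} [Group G] [Finite G] (hG : IsPGroup 2 G) {a b : G}
    (hbi : Bi a b) (β : MulAut G) {q : ℕ} (hq : q.Prime) (hq2 : q ≠ 2) (hβ : orderOf β = q) :
    IsCyclic (commutator G) := by
  classical
  haveI : Fact (Nat.Prime 2) := ⟨Nat.prime_two⟩
  haveI := normal_P (p := 2) (⊤ : Subgroup G)
  set ρ := QuotientGroup.mk' (P 2 (⊤ : Subgroup G))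
  have hgen : Subgroup.closure ({a, b} : Set G) = ⊤ := top_le_iff.mp fun g _ => by
    obtain ⟨i, j, rfl⟩ := hbi g
    exact mul_mem (zpow_mem (mem_pair_left a b) i) (zpow_mem (mem_pair_right a b) j)
  have hQsq : ∀ p : G ⧸ P 2 (⊤ : Subgroup G), p * p = 1 := fun p => by
    obtain ⟨t, rfl⟩ := QuotientGroup.mk'_surjective _ p
    rw [← map_mul, ← sq]; exact (QuotientGroup.eq_one_iff _).mpr (sq_mem_sq t)
  have hQgen : Subgroup.closure ({ρ a, ρ b} : Set (G ⧸ P 2 (⊤ : Subgroup G))) = ⊤ := by
    rw [← Set.image_pair, ← MonoidHom.map_closure, congrArg (Subgroup.map ρ) hgen,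
      Subgroup.map_top_of_surjective ρ (QuotientGroup.mk'_surjective _)]
  have hQ4 := card_le_four_of_two hQsq hQgen
  set βQ := quotHom G β with hβQ
  have hne : βQ ≠ 1 := by
    intro h1
    apply hq.one_lt.ne'
    rw [← hβ, orderOf_eq_one_iff]
    refine FusionEssential88.eq_one_of_coprime_stabilizes (p := 2) hG (n := 1)
      (fun i => if i = 0 then frattini G else ⊤) rfl rfl ?_ ?_
    · rw [hβ]; exact (Nat.coprime_primes hq Nat.prime_two).mpr hq2
    · intro i hi y _
      obtain rfl : i = 0 := by omega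
      have hm : y⁻¹ * β y ∈ P 2 (⊤ : Subgroup G) := by
        refine QuotientGroup.eq.mp ?_
        have h := DFunLike.congr_fun h1 (ρ y)
        rw [MulAut.one_apply, hβQ, quotHom_mk] at h
        exact h.symm
      exact (P_le_iff.mpr fun t _ => PGroupsBasic.pow_mem_frattini hG t :
        P 2 (⊤ : Subgroup G) ≤ frattini G) hm
  have hord : orderOf βQ = q := by
    have hd : orderOf βQ ∣ q := hβ ▸ orderOf_map_dvd (quotHom G) β
    rcases hq.eq_one_or_self_of_dvd _ hd with e | e
    · exact absurd (orderOf_eq_one_iff.mp e) hne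
    · exact e
  obtain ⟨k, hk⟩ := IsPGroup.iff_card.mp (hG.to_quotient (P 2 (⊤ : Subgroup G)))
  have hk2 : k ≤ 2 := (Nat.pow_le_pow_iff_right (by norm_num : 1 < 2)).1 (by
    rw [← hk]; simpa using hQ4)
  have hcardaut : Nat.card (MulAut (G ⧸ P 2 (⊤ : Subgroup G))) ∣ 6 := by
    have hΦ : frattini (G ⧸ P 2 (⊤ : Subgroup G)) = ⊥ := PGroupsBasic.frattini_eq_bot_of_elementary
      (p := 2) (fun u v => by
        calc u * v = (u * v)⁻¹ := (inv_eq_of_mul_eq_one_right (hQsq _)).symm
          _ = v * u := by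
            rw [mul_inv_rev, inv_eq_of_mul_eq_one_right (hQsq v),
              inv_eq_of_mul_eq_one_right (hQsq u)])
      fun u => by rw [sq]; exact hQsq u
    refine (FrattiniTuples.card_mulAut_dvd (P := G ⧸ P 2 (⊤ : Subgroup G)) hk (r := k)
      (by rw [hΦ, Subgroup.index_bot, hk])).trans ?_
    interval_cases k <;> simp [Finset.prod_range_succ]
  have hq3 : q = 3 := by
    have h6 : q ∣ 6 := hord ▸ (orderOf_dvd_natCard βQ).trans hcardaut
    have hle := Nat.le_of_dvd (by norm_num) h6
    have h2 := hq.two_le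
    interval_cases q <;> first | rfl | omega | (exfalso; revert h6; norm_num; done) | (exfalso; revert hq; norm_num)
  subst hq3
  haveI : Fact (Nat.Prime 3) := ⟨Nat.prime_three⟩
  have hp3 : IsPGroup 3 (Subgroup.zpowers βQ) :=
    IsPGroup.of_card (n := 1) (by rw [Nat.card_zpowers, hord, pow_one])
  have hmod := hp3.card_modEq_card_fixedPoints (G ⧸ P 2 (⊤ : Subgroup G))
  set Fx := MulAction.fixedPoints (Subgroup.zpowers βQ) (G ⧸ P 2 (⊤ : Subgroup G))
  obtain ⟨q₀, hq₀⟩ : ∃ q₀, βQ q₀ ≠ q₀ := by
    by_contra hno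
    push Not at hno
    exact hne (MulEquiv.ext hno)
  have hlt : Nat.card Fx < Nat.card (G ⧸ P 2 (⊤ : Subgroup G)) :=
    Finite.card_subtype_lt (x := q₀) (fun h => hq₀ (h ⟨βQ, Subgroup.mem_zpowers βQ⟩))
  have hone : (1 : G ⧸ P 2 (⊤ : Subgroup G)) ∈ Fx := fun g =>
    map_one (g : MulAut (G ⧸ P 2 (⊤ : Subgroup G)))
  haveI : Nonempty Fx := ⟨⟨1, hone⟩⟩
  have hpos : 0 < Nat.card Fx := Nat.card_pos
  have hfix1 : Nat.card Fx = 1 := by
    unfold Nat.ModEq at hmod
    omega
  haveI : Subsingleton Fx := (Nat.card_eq_one_iff_unique.mp hfix1).1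
  have hfpf : ∀ t ∉ P 2 (⊤ : Subgroup G), t⁻¹ * β t ∉ P 2 (⊤ : Subgroup G) := by
    intro t ht hm
    apply ht
    refine (QuotientGroup.eq_one_iff t).mp ?_
    have hfix : ρ t ∈ Fx := by
      intro g
      obtain ⟨i, hi⟩ := Subgroup.mem_zpowers_iff.mp g.2
      have hb : βQ ∈ MulAction.stabilizer (MulAut (G ⧸ P 2 (⊤ : Subgroup G))) (ρ t) := by
        show βQ (ρ t) = ρ t
        rw [hβQ, quotHom_mk]
        exact (QuotientGroup.eq.mpr hm).symm
      show (g : MulAut (G ⧸ P 2 (⊤ : Subgroup G))) (ρ t) = ρ t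
      exact hi ▸ zpow_mem hb i
    exact congrArg Subtype.val (Subsingleton.elim (⟨ρ t, hfix⟩ : Fx) ⟨1, hone⟩)
  rcases gen_cases G hG β (by rw [← hβ]; exact pow_orderOf_eq_one β) hfpf ⟨a, b, hgen⟩
    (two_generated G hG a b hbi) with hc | ⟨z, -, hz2, -, hzP, -⟩
  · haveI : IsMulCommutative G := ⟨⟨hc⟩⟩
    have hbot : commutator G = ⊥ := by
      rw [_root_.commutator_def, Subgroup.commutator_eq_bot_iff_le_centralizer]
      intro u _
      exact Subgroup.mem_centralizer_iff.mpr fun v _ => hc v u
    rw [hbot]; infer_instance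
  · refine isCyclic_of_injective (Subgroup.inclusion (show commutator G ≤ Subgroup.zpowers z from ?_))
      (Subgroup.inclusion_injective _)
    intro t ht
    rcases hzP t (commutator_le_sq ht) with e | e <;> rw [e]
    · exact one_mem _
    · exact Subgroup.mem_zpowers z

/-- A non-inner saturated fusion system forces a cyclic derived subgroup. -/
theorem forward {Ω : Type*} [Group Ω] {S : Subgroup Ω} [Finite S] (hS : IsPGroup 2 S) {a b : S}
    (hbi : Bi a b) {F : FusionSystem S} (hF : F.IsSaturated 2)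
    (hne : ¬ ∀ P : Subgroup Ω, F.Hom P = (innerFusionSystem S).Hom P) :
    IsCyclic (commutator S) := by
  classical
  haveI : Fact (Nat.Prime 2) := ⟨Nat.prime_two⟩
  by_cases hE : ∃ E, F.IsEssential 2 E
  · obtain ⟨E, hE⟩ := hE
    have hES : E ≤ S := hE.1.1
    set E' : Subgroup S := E.subgroupOf S
    set e : E' ≃* E := Subgroup.subgroupOfEquivOfLe hES
    have he : ∀ t : E', ((e t : E) : Ω) = ((t : S) : Ω) := fun t => rfl
    have hne' : E' ≠ ⊤ := fun h => (essential_lt hS hF hE).ne
      (le_antisymm hES (Subgroup.subgroupOf_eq_top.mp h))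
    haveI := finite_of_le hES
    have hidx : (P 2 (⊤ : Subgroup E)).index = (P 2 (⊤ : Subgroup E')).index := by
      rw [← Subgroup.map_top_of_surjective e.toMonoidHom e.surjective, ← map_P]
      exact Subgroup.index_map_equiv _ e
    obtain ⟨α, τ, hτ, h3, ⟨y, hy⟩, hinv, hcase⟩ := essential_data hS hF hE
      (hidx ▸ index_sq_le hS hbi hne')
    set τS : S := ⟨τ, τ.2.1⟩
    set σE := nHom S E τ
    refine derived_cyclic hS hbi E' ((e.trans α).trans e.symm) τS hτ ?_ ?_ ?_ ?_
      ((e.trans σE).trans e.symm) ?_ ?_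
    · intro g hg
      have hgn : (g : Ω) ∈ Subgroup.normalizer (E : Set Ω) := by
        refine Subgroup.mem_normalizer_iff.mpr fun t => ⟨fun ht => ?_, fun ht => ?_⟩
        · exact (Subgroup.mem_normalizer_iff.mp hg ⟨t, hES ht⟩).mp ht
        · have htS : t ∈ S := by
            have h := mul_mem (mul_mem (inv_mem g.2) (hES ht)) g.2
            simpa [mul_assoc] using h
          exact (Subgroup.mem_normalizer_iff.mp hg ⟨t, htS⟩).mpr ht
      exact hcase ⟨g, g.2, hgn⟩
    · intro g hg
      have hgc : (g : Ω) ∈ centralizerIn S E := by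
        refine ⟨g.2, Subgroup.mem_centralizer_iff.mpr fun t ht => ?_⟩
        exact congrArg Subtype.val (Subgroup.mem_centralizer_iff.mp hg ⟨t, hES ht⟩ ht)
      exact centralizerIn_le_of_centric hE.1 hgc
    · refine MulEquiv.ext fun t => ?_
      have h := DFunLike.congr_fun h3 (e t)
      simp only [pow_succ, pow_zero, one_mul, MulAut.mul_apply] at h ⊢
      simp [MulEquiv.trans_apply, h]
    · refine ⟨e.symm y, fun hm => hy ?_⟩
      have h : (P 2 (⊤ : Subgroup E')).map e.toMonoidHom ≤ P 2 ⊤ := by rw [map_P]; exact P_mono le_top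
      have h' := h ⟨_, hm, rfl⟩
      simpa [MulEquiv.trans_apply] using h'
    · intro t
      show ((e.symm (σE (e t)) : E') : S) = τS * (t : S) * τS⁻¹
      refine Subtype.ext ?_
      show ((σE (e t) : E) : Ω) = (τ : Ω) * ((t : S) : Ω) * (τ : Ω)⁻¹
      rfl
    · refine MulEquiv.ext fun t => ?_
      have h := DFunLike.congr_fun hinv (e t)
      simp only [MulAut.mul_apply, MulAut.inv_def] at h ⊢
      simp only [MulEquiv.trans_apply, MulEquiv.symm_trans_apply, MulEquiv.symm_symm,
        MulEquiv.apply_symm_apply]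
      exact congrArg e.symm h
  · push Not at hE
    haveI := finite_autGroup (F := F) S
    by_cases hp : IsPGroup 2 (F.autGroup S)
    · exfalso
      apply hne
      have heq : F = innerFusionSystem S := by
        refine le_antisymm_hom (alperin hS hF fun P hP => ?_) inner_le
        rcases hP with rfl | hP
        · obtain ⟨T, hT⟩ := (fullyAutomized_of_saturated_self hF).2
          have htop : (autInducedBy P P).subgroupOf (F.autGroup P) = ⊤ := by
            rw [← hT]
            obtain ⟨k, hk⟩ := IsPGroup.iff_card.mp hp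
            refine Subgroup.eq_top_of_card_eq _ ?_
            rw [T.card_eq_multiplicity, hk, Nat.Prime.factorization_pow Nat.prime_two,
              Finsupp.single_eq_same]
          exact (Subgroup.subgroupOf_eq_top.mp htop).trans (autInducedBy_le le_rfl)
        · exact absurd hP (hE P)
      intro P
      rw [heq]
    · obtain ⟨q, hq, hq2, β, hβ⟩ : ∃ q, q.Prime ∧ q ≠ 2 ∧ ∃ β : F.autGroup S, orderOf β = q := by
        by_contra hno
        push Not at hno
        apply hp
        refine IsPGroup.iff_card.mpr ?_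
        refine ⟨_, Nat.eq_prime_pow_of_unique_prime_dvd Nat.card_pos.ne' fun {d} hd hdvd => ?_⟩
        by_contra hd2
        haveI := Fact.mk hd
        obtain ⟨g, hg⟩ := exists_prime_orderOf_dvd_card' d hdvd
        exact hno d hd hd2 g hg
      exact cyclic_of_odd_aut hS hbi (β : MulAut S) hq hq2 (by rw [Subgroup.orderOf_coe, hβ])

end Cfsg.Agent.Bicyclic55
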