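import Cfsg.Agent.Lib.SuzukiGroupBinaryCrit

/-!
Binary actions on cosets: the criterion by fixed point sets, and two-transitive actions.
-/

set_option autoImplicit false

namespace Cfsg.Agent.BinaryFix34

open Cfsg.Agent.SuzukiBinary

variable {X : Type*} [Group X]

/-- The pointwise stabiliser of the cosets fixed by `w`. -/
def fixSub (H : Subgroup X) (w : X) : Subgroup X where
  carrier := {g | ∀ b : X, b⁻¹ * w * b ∈ H → b⁻¹ * g * b ∈ H}
  one_mem' := fun b _ => by simp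
  mul_mem' {g g'} h h' b hb := by
    have := mul_mem (h b hb) (h' b hb)
    rwa [show b⁻¹ * g * b * (b⁻¹ * g' * b) = b⁻¹ * (g * g') * b by group] at this
  inv_mem' {g} h b hb := by
    have := inv_mem (h b hb)
    rwa [show (b⁻¹ * g * b)⁻¹ = b⁻¹ * g⁻¹ * b by group] at this

theorem mem_fixSub {H : Subgroup X} {w g : X} :
    g ∈ fixSub H w ↔ ∀ b : X, b⁻¹ * w * b ∈ H → b⁻¹ * g * b ∈ H := Iff.rfl

theorem self_mem (H : Subgroup X) (w : X) : w ∈ fixSub H w := fun _ hb => hb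

theorem le_of_mem {H : Subgroup X} {w : X} (hw : w ∈ H) : fixSub H w ≤ H := fun g hg => by
  simpa using hg 1 (by simpa using hw)

theorem conj_mem {H : Subgroup X} {w g : X} (c : X) (hg : g ∈ fixSub H w) :
    c * g * c⁻¹ ∈ fixSub H (c * w * c⁻¹) := fun b hb => by
  have := hg (c⁻¹ * b) (by rwa [show (c⁻¹ * b)⁻¹ * w * (c⁻¹ * b) = b⁻¹ * (c * w * c⁻¹) * b by group])
  rwa [show (c⁻¹ * b)⁻¹ * g * (c⁻¹ * b) = b⁻¹ * (c * g * c⁻¹) * b by group] at this

theorem fixSub_inv (H : Subgroup X) (w : X) : fixSub H w⁻¹ = fixSub H w := by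
  have key : ∀ b : X, b⁻¹ * w⁻¹ * b ∈ H ↔ b⁻¹ * w * b ∈ H := fun b => by
    rw [show b⁻¹ * w⁻¹ * b = (b⁻¹ * w * b)⁻¹ by group, inv_mem_iff]
  ext g
  simp only [mem_fixSub, key]

theorem conj_mem_of_commute {H : Subgroup X} {w g : X} (c : X) (hc : c * w = w * c)
    (hg : g ∈ fixSub H w) : c * g * c⁻¹ ∈ fixSub H w := by
  have := conj_mem c hg
  rwa [hc, mul_inv_cancel_right] at this

/-- Conjugation by an element inverting `w`. -/
theorem conj_mem_of_invert {H : Subgroup X} {w g : X} (c : X) (hc : c * w * c⁻¹ = w⁻¹)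
    (hg : g ∈ fixSub H w) : c * g * c⁻¹ ∈ fixSub H w := by
  have := conj_mem c hg
  rwa [hc, fixSub_inv] at this

/-- The configuration of all fixed cosets of three elements. -/
theorem exists_of_binary [Finite X] {H : Subgroup X} (hB : Binary H) {x y : X}
    (hx : ∃ b, b⁻¹ * x * b ∈ H) :
    ∃ g, g ∈ fixSub H x ∧ g ∈ fixSub H y ∧ g⁻¹ * x ∈ fixSub H (x⁻¹ * y) := by
  classical
  have : Fintype X := Fintype.ofFinite X
  rw [binary_iff] at hB
  let P : X → Prop := fun b => (b⁻¹ * x * b ∈ H ∨ b⁻¹ * y * b ∈ H) ∨ b⁻¹ * (x⁻¹ * y) * b ∈ H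
  let T := {b : X // P b} ⊕ {b : X // P b}
  let e : T ≃ Fin (Fintype.card T) := Fintype.equivFin T
  let val : T → X := fun i => Sum.elim Subtype.val Subtype.val i
  have hval : ∀ i : T, P (val i) := by rintro (i | i) <;> exact i.2
  let img : X → X := fun b => if b⁻¹ * x * b ∈ H ∨ b⁻¹ * y * b ∈ H then b else x * b
  obtain ⟨b₀, hb₀⟩ := hx
  have hn : 2 ≤ Fintype.card T := by
    have : 0 < Fintype.card {b : X // P b} := Fintype.card_pos_iff.mpr ⟨⟨b₀, Or.inl (Or.inl hb₀)⟩⟩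
    rw [Fintype.card_sum]; omega
  have hX : ∀ b, b⁻¹ * x * b ∈ H → Carries H 1 b (img b) ∧ Carries H x b (img b) := by
    intro b hb
    rw [show img b = b from if_pos (Or.inl hb), Carries, Carries, one_mul, inv_mul_cancel]
    refine ⟨one_mem _, ?_⟩
    rw [show (x * b)⁻¹ * b = (b⁻¹ * x * b)⁻¹ by group]
    exact inv_mem hb
  have hY : ∀ b, b⁻¹ * y * b ∈ H → Carries H 1 b (img b) ∧ Carries H y b (img b) := by
    intro b hb
    rw [show img b = b from if_pos (Or.inr hb), Carries, Carries, one_mul, inv_mul_cancel]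
    refine ⟨one_mem _, ?_⟩
    rw [show (y * b)⁻¹ * b = (b⁻¹ * y * b)⁻¹ by group]
    exact inv_mem hb
  have hZ : ∀ b, b⁻¹ * (x⁻¹ * y) * b ∈ H → Carries H x b (img b) ∧ Carries H y b (img b) := by
    intro b hb
    by_cases hb' : b⁻¹ * x * b ∈ H ∨ b⁻¹ * y * b ∈ H
    · have hxy : b⁻¹ * x * b ∈ H ∧ b⁻¹ * y * b ∈ H := by
        rcases hb' with h | h
        · refine ⟨h, ?_⟩
          have := mul_mem h hb
          rwa [show b⁻¹ * x * b * (b⁻¹ * (x⁻¹ * y) * b) = b⁻¹ * y * b by group] at this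
        · refine ⟨?_, h⟩
          have := mul_mem h (inv_mem hb)
          rwa [show b⁻¹ * y * b * (b⁻¹ * (x⁻¹ * y) * b)⁻¹ = b⁻¹ * x * b by group] at this
      exact ⟨(hX b hxy.1).2, (hY b hxy.2).2⟩
    · rw [show img b = x * b from if_neg hb', Carries, Carries, inv_mul_cancel]
      refine ⟨one_mem _, ?_⟩
      rw [show (y * b)⁻¹ * (x * b) = (b⁻¹ * (x⁻¹ * y) * b)⁻¹ by group]
      exact inv_mem hb
  obtain ⟨g, hg⟩ := hB (Fintype.card T) (fun i => val (e.symm i)) (fun i => img (val (e.symm i))) hn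
    fun i j _ => by
      rcases hval (e.symm i) with (hi | hi) | hi <;> rcases hval (e.symm j) with (hj | hj) | hj
      · exact ⟨1, (hX _ hi).1, (hX _ hj).1⟩
      · exact ⟨1, (hX _ hi).1, (hY _ hj).1⟩
      · exact ⟨x, (hX _ hi).2, (hZ _ hj).1⟩
      · exact ⟨1, (hY _ hi).1, (hX _ hj).1⟩
      · exact ⟨1, (hY _ hi).1, (hY _ hj).1⟩
      · exact ⟨y, (hY _ hi).2, (hZ _ hj).2⟩
      · exact ⟨x, (hZ _ hi).1, (hX _ hj).2⟩
      · exact ⟨y, (hZ _ hi).2, (hY _ hj).2⟩
      · exact ⟨x, (hZ _ hi).1, (hZ _ hj).1⟩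
  have hg' : ∀ b, P b → Carries H g b (img b) := fun b hb => by
    simpa [val] using hg (e (Sum.inl ⟨b, hb⟩))
  refine ⟨g, fun b hb => ?_, fun b hb => ?_, fun b hb => ?_⟩
  · have := hg' b (Or.inl (Or.inl hb))
    rw [show img b = b from if_pos (Or.inl hb), Carries, show (g * b)⁻¹ * b = (b⁻¹ * g * b)⁻¹ by group,
      inv_mem_iff] at this
    exact this
  · have := hg' b (Or.inl (Or.inr hb))
    rw [show img b = b from if_pos (Or.inr hb), Carries, show (g * b)⁻¹ * b = (b⁻¹ * g * b)⁻¹ by group,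
      inv_mem_iff] at this
    exact this
  · have h := hg' b (Or.inr hb)
    by_cases hb' : b⁻¹ * x * b ∈ H ∨ b⁻¹ * y * b ∈ H
    · have h' : b⁻¹ * x * b ∈ H := by
        rcases hb' with h | h
        · exact h
        · have := mul_mem h (inv_mem hb)
          rwa [show b⁻¹ * y * b * (b⁻¹ * (x⁻¹ * y) * b)⁻¹ = b⁻¹ * x * b by group] at this
      rw [show img b = b from if_pos hb', Carries] at h
      have := mul_mem h h'
      rwa [show (g * b)⁻¹ * b * (b⁻¹ * x * b) = b⁻¹ * (g⁻¹ * x) * b by group] at this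
    · rw [show img b = x * b from if_neg hb', Carries,
        show (g * b)⁻¹ * (x * b) = b⁻¹ * (g⁻¹ * x) * b by group] at h
      exact h

/-- A binary two-transitive action realises every permutation. -/
theorem factorial_index_le [Finite X] {H : Subgroup X} (hB : Binary H) (h2 : 2 ≤ H.index)
    [MulAction.IsMultiplyPretransitive X (X ⧸ H) 2] : H.index.factorial ≤ Nat.card X := by
  classical
  let e : Fin H.index ≃ X ⧸ H := (Finite.equivFinOfCardEq rfl).symm
  have key : ∀ σ : Equiv.Perm (X ⧸ H), ∃ g : X, ∀ c, g • c = σ c := by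
    intro σ
    obtain ⟨g, hg⟩ := hB H.index e (fun i => σ (e i)) h2 fun i j hij =>
      MulAction.is_two_pretransitive_iff.mp ‹_› (e.injective.ne hij) (σ.injective.ne (e.injective.ne hij))
    exact ⟨g, fun c => by simpa using hg (e.symm c)⟩
  choose f hf using key
  refine le_of_eq_of_le ?_ (Nat.card_le_card_of_injective f fun σ τ h => Equiv.ext fun c => by
    rw [← hf σ, ← hf τ, h])
  rw [Nat.card_perm]
  rfl

end Cfsg.Agent.BinaryFix34
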