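import Mathlib
import Cfsg.Agent.S3279

/-!
Groups with a normal self-centralising quaternion subgroup of order eight: coordinates, and the two
extensions of order 48.
-/

set_option autoImplicit false

namespace Cfsg.Agent.BinaryOctahedral

open QuaternionGroup

/-- The quaternion group of order eight. -/
abbrev Q8 : Type := QuaternionGroup 2

/-- The endomorphism determined by the images of the two generators. -/
def endo (p q : Q8) : Q8 → Q8
  | .a k => p ^ k.val
  | .xa k => q * p ^ k.val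

/-- A pair of generators. -/
abbrev Good (p q : Q8) : Prop := p * p ≠ 1 ∧ q * q ≠ 1 ∧ p * q ≠ q * p

theorem endo_mul : ∀ p q : Q8, Good p q → ∀ x y, endo p q (x * y) = endo p q x * endo p q y := by
  decide +kernel

theorem endo_injective' : ∀ p q : Q8, Good p q → ∀ x y, endo p q x = endo p q y → x = y := by
  decide +kernel

/-- The automorphism of order three. -/
def sig : Q8 → Q8 := endo (xa 0) (a 1 * xa 0)

/-- The involutory automorphism. -/
def tau : Q8 → Q8 := endo (a 1)⁻¹ (a 1 * xa 0)⁻¹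

/-- Powers of `sig`. -/
def sigPow (m : ZMod 3) (x : Q8) : Q8 := if m = 0 then x else if m = 1 then sig x else sig (sig x)

/-- Powers of `tau`. -/
def tauPow (e : ZMod 2) (x : Q8) : Q8 := if e = 0 then x else tau x

theorem auto_cases : ∀ p q : Q8, Good p q →
    ∃ g : Q8, ∃ m : ZMod 3, ∃ e : ZMod 2, ∀ x, endo p q x = g * sigPow m (tauPow e x) * g⁻¹ := by
  decide +kernel

theorem auto_order : ∀ p q : Q8, Good p q → ∀ x,
    (endo p q)^[12] x = x := by
  decide +kernel

theorem auto_three : ∀ p q : Q8, Good p q → (∀ x, endo p q (endo p q (endo p q x)) = x) →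
    (∃ x, endo p q x ≠ x) → ∃ P R : Q8, Good P R ∧ ∀ x, endo P R (sig x) = endo p q (endo P R x) := by
  decide +kernel

theorem auto_faithful : ∀ g : Q8, ∀ m : ZMod 3, ∀ e : ZMod 2,
    (∀ x, g * sigPow m (tauPow e x) * g⁻¹ = x) → m = 0 ∧ e = 0 ∧ (g = 1 ∨ g = a 2) := by
  decide +kernel

theorem sig_cube : ∀ x, sig (sig (sig x)) = x := by decide +kernel

theorem sig_ne : sig (a 1) ≠ a 1 := by decide +kernel

theorem tau_tau : ∀ x, tau (tau x) = x := by decide +kernel

theorem tau_sig_tau : ∀ x, tau (sig (tau x)) = sig (sig x) := by decide +kernel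

theorem central_cases : ∀ g : Q8, (∀ x, g * x * g⁻¹ = x) → g = 1 ∨ g = a 2 := by decide +kernel

theorem sig_central : sig 1 = 1 ∧ sig (a 2) = a 2 ∧ tau 1 = 1 ∧ tau (a 2) = a 2 := by decide +kernel

/-- Coordinates of an extension. -/
abbrev Coord : Type := Q8 × ZMod 3 × ZMod 2

/-- The multiplication in coordinates. -/
def mulC (w : Q8) (x y : Coord) : Coord :=
  (x.1 * sigPow x.2.1 (tauPow x.2.2 y.1) * (if x.2.2 = 1 ∧ y.2.2 = 1 then w else 1),
    x.2.1 + (if x.2.2 = 0 then y.2.1 else -y.2.1), x.2.2 + y.2.2)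

/-- A frame in a group: the quaternion subgroup and the two elements acting as `sig` and `tau`. -/
structure Frame {H : Type*} [Group H] (f : Q8 →* H) (c u : H) (w : Q8) : Prop where
  c3 : c ^ 3 = 1
  hc : ∀ q, c * f q * c⁻¹ = f (sig q)
  hu : ∀ q, u * f q * u⁻¹ = f (tau q)
  uc : u * c * u⁻¹ = c⁻¹
  uu : u * u = f w
  hw : w = 1 ∨ w = a 2

/-- The element with given coordinates. -/
def toH {H : Type*} [Group H] (f : Q8 →* H) (c u : H) (x : Coord) : H :=
  f x.1 * c ^ x.2.1.val * u ^ x.2.2.val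

theorem toH_mul {H : Type*} [Group H] {f : Q8 →* H} {c u : H} {w : Q8} (hF : Frame f c u w)
    (x y : Coord) : toH f c u (mulC w x y) = toH f c u x * toH f c u y := by
  have hw : sig w = w := by rcases hF.hw with h | h <;> rw [h] <;> simp [sig_central]
  have hcw : Commute c (f w) := by
    refine mul_inv_eq_iff_eq_mul.1 ?_
    rw [hF.hc, hw]
  -- moving the parts past each other
  have k1 : ∀ (m : ZMod 3) (q : Q8), c ^ m.val * f q = f (sigPow m q) * c ^ m.val := by
    intro m q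
    have e1 : c * f q = f (sig q) * c := mul_inv_eq_iff_eq_mul.1 (hF.hc q)
    have e2 : c * f (sig q) = f (sig (sig q)) * c := mul_inv_eq_iff_eq_mul.1 (hF.hc _)
    obtain rfl | rfl | rfl : m = 0 ∨ m = 1 ∨ m = 2 := (by decide : ∀ m : ZMod 3, m = 0 ∨ m = 1 ∨ m = 2) m
    · simp [sigPow]
    · rw [show (1 : ZMod 3).val = 1 from rfl, pow_one, e1]
      simp [sigPow]
    · rw [show (2 : ZMod 3).val = 2 from rfl, pow_two, mul_assoc, e1, ← mul_assoc, e2, mul_assoc]
      simp [sigPow, show (2 : ZMod 3) ≠ 0 by decide, show (2 : ZMod 3) ≠ 1 by decide]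
  have k2 : ∀ (e : ZMod 2) (q : Q8), u ^ e.val * f q = f (tauPow e q) * u ^ e.val := by
    intro e q
    obtain rfl | rfl : e = 0 ∨ e = 1 := (by decide : ∀ e : ZMod 2, e = 0 ∨ e = 1) e
    · simp [tauPow]
    · rw [show (1 : ZMod 2).val = 1 from rfl, pow_one, mul_inv_eq_iff_eq_mul.1 (hF.hu q)]
      simp [tauPow]
  have k3 : ∀ (e : ZMod 2) (m : ZMod 3),
      u ^ e.val * c ^ m.val = c ^ (if e = 0 then m else -m).val * u ^ e.val := by
    intro e m
    obtain rfl | rfl : e = 0 ∨ e = 1 := (by decide : ∀ e : ZMod 2, e = 0 ∨ e = 1) e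
    · simp
    · rw [show (1 : ZMod 2).val = 1 from rfl, pow_one, if_neg (by decide)]
      refine mul_inv_eq_iff_eq_mul.1 ?_
      rw [← conj_pow, hF.uc]
      obtain rfl | rfl | rfl : m = 0 ∨ m = 1 ∨ m = 2 := (by decide : ∀ m : ZMod 3, m = 0 ∨ m = 1 ∨ m = 2) m
      · simp
      · rw [show (1 : ZMod 3).val = 1 from rfl, show (-1 : ZMod 3).val = 2 from rfl, pow_one]
        exact inv_eq_of_mul_eq_one_right (by rw [← pow_succ', hF.c3])
      · rw [show (2 : ZMod 3).val = 2 from rfl, show (-2 : ZMod 3).val = 1 from rfl, pow_one, inv_pow]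
        exact inv_eq_of_mul_eq_one_right (by rw [← pow_succ, hF.c3])
  have k4 : ∀ m n : ZMod 3, c ^ m.val * c ^ n.val = c ^ (m + n).val := by
    intro m n
    rw [← pow_add, ZMod.val_add, ← pow_eq_pow_mod _ hF.c3]
  have k5 : ∀ e d : ZMod 2, u ^ e.val * u ^ d.val =
      f (if e = 1 ∧ d = 1 then w else 1) * u ^ (e + d).val := by
    intro e d
    obtain rfl | rfl : e = 0 ∨ e = 1 := (by decide : ∀ e : ZMod 2, e = 0 ∨ e = 1) e
    all_goals obtain rfl | rfl : d = 0 ∨ d = 1 := (by decide : ∀ e : ZMod 2, e = 0 ∨ e = 1) d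
    · simp
    · simp
    · simp
    · rw [show (1 : ZMod 2).val = 1 from rfl, show ((1 : ZMod 2) + 1).val = 0 from rfl, pow_one, hF.uu]
      simp
  obtain ⟨q, m, e⟩ := x
  obtain ⟨q', m', e'⟩ := y
  simp only [toH, mulC]
  have hcw' : ∀ n : ℕ, c ^ n * f (if e = 1 ∧ e' = 1 then w else 1) =
      f (if e = 1 ∧ e' = 1 then w else 1) * c ^ n := by
    intro n
    split_ifs
    · exact (hcw.pow_left n).eq
    · simp
  set v := (if e = 1 ∧ e' = 1 then w else 1) with hv
  calc f (q * sigPow m (tauPow e q') * v) * c ^ (m + if e = 0 then m' else -m').val * u ^ (e + e').val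
      = f q * f (sigPow m (tauPow e q')) * (f v * c ^ (m + if e = 0 then m' else -m').val) *
          u ^ (e + e').val := by rw [map_mul, map_mul]; group
    _ = f q * f (sigPow m (tauPow e q')) * c ^ (m + if e = 0 then m' else -m').val *
          (f v * u ^ (e + e').val) := by rw [← hcw']; group
    _ = f q * (f (sigPow m (tauPow e q')) * c ^ m.val) * (c ^ (if e = 0 then m' else -m').val *
          u ^ e.val) * u ^ e'.val := by rw [← k4, hv, ← k5]; group
    _ = f q * c ^ m.val * (f (tauPow e q') * u ^ e.val) * c ^ m'.val * u ^ e'.val := by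
          rw [← k1, ← k3]; group
    _ = f q * c ^ m.val * u ^ e.val * (f q' * c ^ m'.val * u ^ e'.val) := by rw [← k2]; group

theorem card_coord : Nat.card Coord = 48 := by
  rw [Nat.card_prod, Nat.card_prod, Nat.card_zmod, Nat.card_zmod, QuaternionGroup.card (n := 2)
    |> (fun h => (Nat.card_eq_fintype_card).trans h)]

/-- Two frames with the same parameter, the first one bijective, give a homomorphism. -/
theorem exists_hom {X H : Type*} [Group X] [Group H] {f : Q8 →* X} {c u : X} {f' : Q8 →* H}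
    {c' u' : H} {w : Q8} (hF : Frame f c u w) (hF' : Frame f' c' u' w)
    (hbij : Function.Bijective (toH f c u)) :
    ∃ Φ : X →* H, ∀ x, Φ (toH f c u x) = toH f' c' u' x := by
  let E := Equiv.ofBijective _ hbij
  have hE : ∀ z, toH f c u (E.symm z) = z := fun z => E.apply_symm_apply z
  refine ⟨MonoidHom.mk' (fun z => toH f' c' u' (E.symm z)) fun z z' => ?_, fun x => ?_⟩
  · rw [← toH_mul hF']
    congr 1
    exact hbij.1 (by rw [hE, toH_mul hF, hE, hE])
  · show toH f' c' u' (E.symm (E x)) = _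
    rw [E.symm_apply_apply]

/-- Coordinates exist in a group with a normal self-centralising quaternion subgroup and more than one
Sylow 2-subgroup. -/
theorem exists_frame {X : Type*} [Group X] [Finite X] (A : Subgroup X) [hA : A.Normal] (e : Q8 ≃* A)
    (hC : Subgroup.centralizer (A : Set X) ≤ A) (hP : ¬ ∃ P : Sylow 2 X, (P : Subgroup X).Normal) :
    ∃ (f : Q8 →* X) (c u : X) (w : Q8), Frame f c u w ∧ Function.Bijective (toH f c u) := by
  classical
  -- embedding and the induced automorphisms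
  obtain ⟨f₀, hf₀, hr₀⟩ : ∃ f₀ : Q8 →* X, Function.Injective f₀ ∧ f₀.range = A := by
    refine ⟨A.subtype.comp e.toMonoidHom, A.subtype_injective.comp e.injective, ?_⟩
    rw [MonoidHom.range_comp, MonoidHom.range_eq_top.2 e.surjective, ← MonoidHom.range_eq_map,
      Subgroup.range_subtype]
  have hauto : ∀ x : X, ∃ p q : Q8, Good p q ∧ ∀ r, x * f₀ r * x⁻¹ = f₀ (endo p q r) := by
    intro x
    have himg : ∀ r, ∃ r', f₀ r' = x * f₀ r * x⁻¹ := by
      intro r
      have : x * f₀ r * x⁻¹ ∈ f₀.range := by rw [hr₀]; exact hA.conj_mem _ (hr₀ ▸ ⟨r, rfl⟩) x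
      exact this
    choose β hβ using himg
    have hmul : ∀ r s, β (r * s) = β r * β s := fun r s => hf₀ (by
      rw [map_mul, hβ, hβ, hβ, map_mul]; group)
    let B : Q8 →* Q8 := MonoidHom.mk' β hmul
    have hinj : Function.Injective B := fun r s h => hf₀ (by
      have h' : f₀ (β r) = f₀ (β s) := congrArg f₀ h
      rw [hβ, hβ] at h'
      exact mul_left_cancel (mul_right_cancel h'))
    refine ⟨β (a 1), β (xa 0), ⟨?_, ?_, ?_⟩, fun r => ?_⟩
    · intro h; rw [← hmul] at h
      exact absurd (hinj (h.trans (map_one B).symm)) (by decide)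
    · intro h; rw [← hmul] at h
      exact absurd (hinj (h.trans (map_one B).symm)) (by decide)
    · intro h; rw [← hmul, ← hmul] at h
      exact absurd (hinj h) (by decide)
    · rw [← hβ]
      congr 1
      cases r with
      | a k =>
        show B (a k) = (B (a 1)) ^ k.val
        rw [← map_pow, a_one_pow]
        congr 2
        exact (ZMod.natCast_zmod_val k).symm
      | xa k =>
        show B (xa k) = B (xa 0) * (B (a 1)) ^ k.val
        rw [← map_pow, ← map_mul, a_one_pow, xa_mul_a, zero_add]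
        congr 2
        exact (ZMod.natCast_zmod_val k).symm
  have hcent : ∀ x : X, (∀ r, x * f₀ r * x⁻¹ = f₀ r) → ∃ g : Q8, f₀ g = x ∧ (g = 1 ∨ g = a 2) := by
    intro x hx
    have hxA : x ∈ A := hC (by
      rw [Subgroup.mem_centralizer_iff]
      intro y hy
      rw [SetLike.mem_coe, ← hr₀] at hy
      obtain ⟨r, rfl⟩ := hy
      exact (mul_inv_eq_iff_eq_mul.1 (hx r)).symm)
    rw [← hr₀] at hxA
    obtain ⟨g, rfl⟩ := hxA
    exact ⟨g, rfl, central_cases g fun r => hf₀ (by simpa using hx r)⟩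
  have hiter : ∀ (x : X) (p q : Q8), (∀ r, x * f₀ r * x⁻¹ = f₀ (endo p q r)) → ∀ (n : ℕ) (r : Q8),
      x ^ n * f₀ r * (x ^ n)⁻¹ = f₀ ((endo p q)^[n] r) := by
    intro x p q hx n
    induction n with
    | zero => intro r; simp
    | succ n ih =>
      intro r
      rw [Function.iterate_succ_apply', ← hx, ← ih r, pow_succ']
      group
  have h2pow : IsPGroup 2 A := by
    refine IsPGroup.of_card (n := 3) ?_
    rw [← Nat.card_congr e.toEquiv, Nat.card_eq_fintype_card, QuaternionGroup.card]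
    rfl
  -- an element of order three
  obtain ⟨c₀, hc₀⟩ : ∃ c : X, orderOf c = 3 := by
    by_contra hno
    push Not at hno
    apply hP
    haveI : Fact (Nat.Prime 2) := ⟨Nat.prime_two⟩
    have hX : IsPGroup 2 (⊤ : Subgroup X) := by
      have hprimes : ∀ p, p.Prime → p ∣ Nat.card X → p = 2 := by
        intro p hp hdvd
        haveI : Fact p.Prime := ⟨hp⟩
        obtain ⟨x, hx⟩ := exists_prime_orderOf_dvd_card' p hdvd
        by_contra hp2
        obtain ⟨p', q', hg, hx'⟩ := hauto x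
        have hp3 : p ≠ 3 := fun h => hno x (h ▸ hx)
        have h12 : ∀ r, x ^ 12 * f₀ r * (x ^ 12)⁻¹ = f₀ r := fun r => by
          rw [hiter x p' q' hx', auto_order p' q' hg]
        obtain ⟨g, hg', -⟩ := hcent _ h12
        have h1 : (x ^ 12) ^ 4 = 1 := by
          rw [← hg', ← map_pow, (by decide +kernel : ∀ g : Q8, g ^ 4 = 1) g, map_one]
        rw [← pow_mul] at h1
        have hd := orderOf_dvd_of_pow_eq_one h1
        rw [hx, show 12 * 4 = 2 ^ 4 * 3 by norm_num] at hd
        rcases hp.dvd_mul.1 hd with h | h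
        · exact hp2 ((Nat.prime_dvd_prime_iff_eq hp Nat.prime_two).1 (hp.dvd_of_dvd_pow h))
        · exact hp3 ((Nat.prime_dvd_prime_iff_eq hp Nat.prime_three).1 h)
      refine IsPGroup.of_card (n := (Nat.card X).primeFactorsList.length) ?_
      rw [Subgroup.card_top]
      exact Nat.eq_prime_pow_of_unique_prime_dvd Nat.card_pos.ne' (fun {d} hd hdvd => hprimes d hd hdvd)
    obtain ⟨P, hP'⟩ := hX.exists_le_sylow
    exact ⟨P, by rw [top_le_iff.1 hP']; infer_instance⟩
  -- normalise the automorphism of order three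
  obtain ⟨p₁, q₁, hg₁, hc₁⟩ := hauto c₀
  have hthree : ∀ x, endo p₁ q₁ (endo p₁ q₁ (endo p₁ q₁ x)) = x := fun x => hf₀ (by
    have h := hiter c₀ p₁ q₁ hc₁ 3 x
    rw [← hc₀, pow_orderOf_eq_one, one_mul, inv_one, mul_one, hc₀] at h
    exact h.symm)
  have hnon : ∃ x, endo p₁ q₁ x ≠ x := by
    by_contra hcon
    push Not at hcon
    obtain ⟨g, hg, -⟩ := hcent c₀ fun r => by rw [hc₁, hcon]
    have h4 : c₀ ^ 4 = 1 := by rw [← hg, ← map_pow, (by decide +kernel : ∀ g : Q8, g ^ 4 = 1) g, map_one]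
    have := orderOf_dvd_of_pow_eq_one h4
    rw [hc₀] at this
    norm_num at this
  obtain ⟨P, R, hPR, hconjP⟩ := auto_three p₁ q₁ hg₁ hthree hnon
  let N : Q8 →* Q8 := MonoidHom.mk' (endo P R) (endo_mul P R hPR)
  set f : Q8 →* X := f₀.comp N with hfdef
  have hNinj : Function.Injective N := fun x y h => endo_injective' P R hPR x y h
  have hf : Function.Injective f := hf₀.comp hNinj
  have hsurjN : Function.Surjective N := Finite.injective_iff_surjective.1 hNinj
  have hr : f.range = A := by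
    rw [hfdef, MonoidHom.range_comp, MonoidHom.range_eq_top.2 hsurjN, ← MonoidHom.range_eq_map, hr₀]
  have hc : ∀ q, c₀ * f q * c₀⁻¹ = f (sig q) := fun q => by
    show c₀ * f₀ (N q) * c₀⁻¹ = f₀ (N (sig q))
    rw [hc₁]
    congr 1
    exact (hconjP q).symm
  -- automorphisms in the new coordinates
  have hcentf : ∀ x : X, (∀ r, x * f r * x⁻¹ = f r) → ∃ g : Q8, f g = x ∧ (g = 1 ∨ g = a 2) := by
    intro x hx
    have hxA : x ∈ A := hC (by
      rw [Subgroup.mem_centralizer_iff]
      intro y hy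
      rw [SetLike.mem_coe, ← hr] at hy
      obtain ⟨r, rfl⟩ := hy
      exact (mul_inv_eq_iff_eq_mul.1 (hx r)).symm)
    rw [← hr] at hxA
    obtain ⟨g, rfl⟩ := hxA
    exact ⟨g, rfl, central_cases g fun r => hf (by simpa using hx r)⟩
  have hclass : ∀ x : X, ∃ g : Q8, ∃ m : ZMod 3, ∃ e : ZMod 2,
      ∀ r, x * f r * x⁻¹ = f (g * sigPow m (tauPow e r) * g⁻¹) := by
    intro x
    have himg : ∀ r, ∃ r', f r' = x * f r * x⁻¹ := by
      intro r
      have : x * f r * x⁻¹ ∈ f.range := by rw [hr]; exact hA.conj_mem _ (hr ▸ ⟨r, rfl⟩) x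
      exact this
    choose β hβ using himg
    have hmul : ∀ r s, β (r * s) = β r * β s := fun r s => hf (by
      rw [map_mul, hβ, hβ, hβ, map_mul]; group)
    let B : Q8 →* Q8 := MonoidHom.mk' β hmul
    have hinj : Function.Injective B := fun r s h => hf (by
      have h' : f (β r) = f (β s) := congrArg f h
      rw [hβ, hβ] at h'
      exact mul_left_cancel (mul_right_cancel h'))
    have hgood : Good (β (a 1)) (β (xa 0)) := by
      refine ⟨?_, ?_, ?_⟩
      · intro h; rw [← hmul] at h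
        exact absurd (hinj (h.trans (map_one B).symm)) (by decide)
      · intro h; rw [← hmul] at h
        exact absurd (hinj (h.trans (map_one B).symm)) (by decide)
      · intro h; rw [← hmul, ← hmul] at h
        exact absurd (hinj h) (by decide)
    obtain ⟨g, m, e, hgme⟩ := auto_cases _ _ hgood
    refine ⟨g, m, e, fun r => ?_⟩
    rw [← hβ, ← hgme]
    congr 1
    cases r with
    | a k =>
      show B (a k) = (B (a 1)) ^ k.val
      rw [← map_pow, a_one_pow]
      congr 2
      exact (ZMod.natCast_zmod_val k).symm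
    | xa k =>
      show B (xa k) = B (xa 0) * (B (a 1)) ^ k.val
      rw [← map_pow, ← map_mul, a_one_pow, xa_mul_a, zero_add]
      congr 2
      exact (ZMod.natCast_zmod_val k).symm
  have hsig : ∀ (m : ZMod 3) (r : Q8), c₀ ^ m.val * f r * (c₀ ^ m.val)⁻¹ = f (sigPow m r) := by
    intro m r
    obtain rfl | rfl | rfl : m = 0 ∨ m = 1 ∨ m = 2 := (by decide : ∀ m : ZMod 3, m = 0 ∨ m = 1 ∨ m = 2) m
    · simp [sigPow]
    · rw [show (1 : ZMod 3).val = 1 from rfl, pow_one, hc]
      simp [sigPow]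
    · rw [show (2 : ZMod 3).val = 2 from rfl, pow_two,
        show c₀ * c₀ * f r * (c₀ * c₀)⁻¹ = c₀ * (c₀ * f r * c₀⁻¹) * c₀⁻¹ by group, hc, hc]
      simp [sigPow, show (2 : ZMod 3) ≠ 0 by decide, show (2 : ZMod 3) ≠ 1 by decide]
  -- removing the inner part and the rotation
  have hdiv : ∀ x : X, ∃ (g : Q8) (m : ZMod 3) (e : ZMod 2),
      ∀ r, ((f g * c₀ ^ m.val)⁻¹ * x) * f r * ((f g * c₀ ^ m.val)⁻¹ * x)⁻¹ = f (tauPow e r) := by
    intro x
    obtain ⟨g, m, e, hx⟩ := hclass x
    refine ⟨g, m, e, fun r => ?_⟩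
    have h1 : x * f r * x⁻¹ = (f g * c₀ ^ m.val) * f (tauPow e r) * (f g * c₀ ^ m.val)⁻¹ := by
      rw [hx, show (f g * c₀ ^ m.val) * f (tauPow e r) * (f g * c₀ ^ m.val)⁻¹ =
        f g * (c₀ ^ m.val * f (tauPow e r) * (c₀ ^ m.val)⁻¹) * (f g)⁻¹ by group, hsig, ← map_inv,
        ← map_mul, ← map_mul]
    calc (f g * c₀ ^ m.val)⁻¹ * x * f r * ((f g * c₀ ^ m.val)⁻¹ * x)⁻¹
        = (f g * c₀ ^ m.val)⁻¹ * (x * f r * x⁻¹) * (f g * c₀ ^ m.val) := by group
      _ = _ := by rw [h1]; group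
  -- an element acting as tau
  obtain ⟨u, hu⟩ : ∃ u : X, ∀ r, u * f r * u⁻¹ = f (tau r) := by
    by_contra hno
    push Not at hno
    apply hP
    have hall : ∀ x : X, x ∈ A ⊔ Subgroup.zpowers c₀ := by
      intro x
      obtain ⟨g, m, e, hx⟩ := hdiv x
      obtain rfl | rfl : e = 0 ∨ e = 1 := (by decide : ∀ e : ZMod 2, e = 0 ∨ e = 1) e
      · obtain ⟨g', hg', -⟩ := hcentf _ (fun r => by rw [hx]; simp [tauPow])
        have hfA : ∀ q, f q ∈ A := fun q => hr ▸ ⟨q, rfl⟩
        rw [show x = f g * c₀ ^ m.val * f g' by rw [hg']; group]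
        exact mul_mem (mul_mem (Subgroup.mem_sup_left (hfA _))
          (Subgroup.mem_sup_right (pow_mem (Subgroup.mem_zpowers _) _))) (Subgroup.mem_sup_left (hfA _))
      · obtain ⟨r, hr'⟩ := hno ((f g * c₀ ^ m.val)⁻¹ * x)
        exact absurd ((hx r).trans (by simp [tauPow])) hr'
    have htop : A ⊔ Subgroup.zpowers c₀ = ⊤ := top_le_iff.1 fun x _ => hall x
    have hidx : ¬ 2 ∣ A.index := by
      intro h
      have h3 : A.index ∣ 3 := by
        rw [← Subgroup.relIndex_top_right, ← htop, sup_comm, Subgroup.relIndex_sup_right]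
        have h1 := Subgroup.relIndex_dvd_card A (Subgroup.zpowers c₀)
        rwa [Nat.card_zpowers, hc₀] at h1
      have := h.trans h3
      norm_num at this
    refine ⟨h2pow.toSylow hidx, ?_⟩
    show A.Normal
    exact hA
  -- relations
  have hc3 : c₀ ^ 3 = 1 := by rw [← hc₀, pow_orderOf_eq_one]
  have huinv : ∀ r, u⁻¹ * f r * u = f (tau r) := fun r => by
    have h := congrArg (fun z => u⁻¹ * z * u) (hu (tau r))
    simp only [tau_tau] at h
    rw [← h]; group
  have huc : u * c₀ * u⁻¹ = c₀⁻¹ := by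
    obtain ⟨g, hg, hg2⟩ := hcentf (u * c₀ * u⁻¹ * c₀) (fun r => by
      rw [show u * c₀ * u⁻¹ * c₀ * f r * (u * c₀ * u⁻¹ * c₀)⁻¹ =
        u * (c₀ * (u⁻¹ * (c₀ * f r * c₀⁻¹) * u) * c₀⁻¹) * u⁻¹ by group, hc, huinv, hc, hu,
        tau_sig_tau, sig_cube])
    have hcomm : Commute c₀ (f g) := by
      refine mul_inv_eq_iff_eq_mul.1 ?_
      rcases hg2 with rfl | rfl <;> rw [hc] <;> simp [sig_central]
    have e1 : u * c₀ * u⁻¹ = f g * c₀⁻¹ := by rw [hg]; group
    have h3 : (f g * c₀⁻¹) ^ 3 = 1 := by rw [← e1, conj_pow, hc3]; group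
    rw [(hcomm.symm.inv_right).mul_pow, inv_pow, hc3, inv_one, mul_one] at h3
    rcases hg2 with rfl | rfl
    · rw [e1, map_one, one_mul]
    · rw [← map_pow] at h3
      exact absurd (hf (h3.trans (map_one f).symm)) (by decide)
  obtain ⟨w, hw, hw2⟩ := hcentf (u * u) (fun r => by
    rw [show u * u * f r * (u * u)⁻¹ = u * (u * f r * u⁻¹) * u⁻¹ by group, hu, hu, tau_tau])
  have hF : Frame f c₀ u w := ⟨hc3, hc, hu, huc, hw.symm, hw2⟩
  refine ⟨f, c₀, u, w, hF, ?_, ?_⟩
  · -- injectivity through the action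
    have hact : ∀ (y : Coord) (r : Q8), toH f c₀ u y * f r * (toH f c₀ u y)⁻¹ =
        f (y.1 * sigPow y.2.1 (tauPow y.2.2 r) * y.1⁻¹) := by
      rintro ⟨g, m, e⟩ r
      show f g * c₀ ^ m.val * u ^ e.val * f r * (f g * c₀ ^ m.val * u ^ e.val)⁻¹ = _
      rw [show f g * c₀ ^ m.val * u ^ e.val * f r * (f g * c₀ ^ m.val * u ^ e.val)⁻¹ =
        f g * (c₀ ^ m.val * (u ^ e.val * f r * (u ^ e.val)⁻¹) * (c₀ ^ m.val)⁻¹) * (f g)⁻¹ by group]
      have he : u ^ e.val * f r * (u ^ e.val)⁻¹ = f (tauPow e r) := by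
        obtain rfl | rfl : e = 0 ∨ e = 1 := (by decide : ∀ e : ZMod 2, e = 0 ∨ e = 1) e
        · simp [tauPow]
        · rw [show (1 : ZMod 2).val = 1 from rfl, pow_one, hu]; simp [tauPow]
      rw [he, hsig, ← map_inv, ← map_mul, ← map_mul]
    have hinj' : ∀ (g g' : Q8) (m m' : ZMod 3) (e e' : ZMod 2),
        (∀ r, g * sigPow m (tauPow e r) * g⁻¹ = g' * sigPow m' (tauPow e' r) * g'⁻¹) →
        m = m' ∧ e = e' := by decide +kernel
    rintro ⟨g, m, e⟩ ⟨g', m', e'⟩ h
    obtain ⟨rfl, rfl⟩ := hinj' g g' m m' e e' fun r => hf (by rw [← hact (g, m, e), ← hact (g', m', e'), h])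
    exact Prod.ext (hf (mul_right_cancel (mul_right_cancel h))) rfl
  · intro x
    obtain ⟨g, m, e, hx⟩ := hdiv x
    have he : ∀ r, u ^ e.val * f r * (u ^ e.val)⁻¹ = f (tauPow e r) := by
      intro r
      obtain rfl | rfl : e = 0 ∨ e = 1 := (by decide : ∀ e : ZMod 2, e = 0 ∨ e = 1) e
      · simp [tauPow]
      · rw [show (1 : ZMod 2).val = 1 from rfl, pow_one, hu]; simp [tauPow]
    set y := (f g * c₀ ^ m.val)⁻¹ * x with hy
    obtain ⟨g', hg', -⟩ := hcentf (y * (u ^ e.val)⁻¹) (fun r => by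
      have h1 : (u ^ e.val)⁻¹ * f r * u ^ e.val = f (tauPow e r) := by
        obtain rfl | rfl : e = 0 ∨ e = 1 := (by decide : ∀ e : ZMod 2, e = 0 ∨ e = 1) e
        · simp [tauPow]
        · rw [show (1 : ZMod 2).val = 1 from rfl, pow_one, huinv]; simp [tauPow]
      rw [show y * (u ^ e.val)⁻¹ * f r * (y * (u ^ e.val)⁻¹)⁻¹ =
        y * ((u ^ e.val)⁻¹ * f r * u ^ e.val) * y⁻¹ by group, h1, hx]
      congr 1
      exact (by decide +kernel : ∀ (e : ZMod 2) (r : Q8), tauPow e (tauPow e r) = r) e r)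
    refine ⟨mulC w (g, m, 0) (g', 0, e), ?_⟩
    rw [toH_mul hF]
    show f g * c₀ ^ m.val * u ^ (0 : ZMod 2).val * (f g' * c₀ ^ (0 : ZMod 3).val * u ^ e.val) = x
    rw [show (0 : ZMod 2).val = 0 from rfl, show (0 : ZMod 3).val = 0 from rfl, pow_zero, pow_zero,
      mul_one, mul_one, hg', hy]
    group

end Cfsg.Agent.BinaryOctahedral
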