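import Mathlib
import Cfsg.Agent.Lib.MaxClassTwo
import Cfsg.Agent.Lib.PGroupsBasic
import Cfsg.Agent.Lib.PGroupsHallPetrescu

/-!
`p`-groups, `p` odd, with an element of order `p` whose centralizer has order `p ^ 2`:
maximal class, `p`-th powers climb `p - 1` steps, subgroups are generated by `p` elements.
-/

open Subgroup
open scoped commutatorElement

namespace Cfsg.Agent.PearlMaxClass

local notation "𝓛" => Subgroup.lowerCentralSeries (⊤ : Subgroup _)

section Wreath

variable {p : ℕ} [hp : Fact p.Prime]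

local notation "C" => Multiplicative (ZMod p)

theorem card_wreath : Nat.card (C ≀ᵣ C) = p ^ (p + 1) := by
  have h : Nat.card C = p := by
    rw [Nat.card_congr Multiplicative.toAdd, Nat.card_zmod]
  rw [RegularWreathProduct.card, h, pow_succ]

theorem pow_left_apply (δ : C → C) (g y : C) : ∀ m : ℕ,
    ((⟨δ, g⟩ : C ≀ᵣ C) ^ m).left y = ∏ i ∈ Finset.range m, δ ((g ^ i)⁻¹ * y) := by
  intro m
  induction m generalizing y with
  | zero => simp
  | succ m ih =>
    rw [pow_succ', RegularWreathProduct.mul_left, Pi.mul_apply]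
    simp only [ih]
    rw [Finset.prod_range_succ', mul_comm]
    congr 1
    · refine Finset.prod_congr rfl fun i _ => ?_
      rw [pow_succ', mul_inv_rev, mul_assoc]
    · simp

/-- The model: two elements of order dividing `p` whose product has order `p ^ 2`. -/
theorem exists_model : ∃ a x : C ≀ᵣ C, a ^ p = 1 ∧ x ^ p = 1 ∧ (a * x) ^ p ≠ 1 ∧
    a.right = 1 := by
  classical
  let d : C := Multiplicative.ofAdd 1
  have hd : d ≠ 1 := fun h => one_ne_zero (Multiplicative.ofAdd.injective h : (1 : ZMod p) = 0)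
  have hdp : ∀ c : C, c ^ p = 1 := fun c => by
    apply Multiplicative.toAdd.injective
    rw [toAdd_pow, toAdd_one, nsmul_eq_mul, ZMod.natCast_self, zero_mul]
  let δ : C → C := fun y => if y = 1 then d else 1
  refine ⟨⟨δ, 1⟩, RegularWreathProduct.inl d, ?_, ?_, fun h => hd ?_, rfl⟩
  · refine RegularWreathProduct.ext (funext fun y => ?_) ?_
    · rw [pow_left_apply]
      simpa using hdp (δ y)
    · have hr : ∀ m : ℕ, ((⟨δ, 1⟩ : C ≀ᵣ C) ^ m).right = 1 := fun m => by
        induction m with
        | zero => simp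
        | succ m ih => simp [pow_succ, ih]
      simp [hr]
  · rw [← map_pow, hdp, map_one]
  · have e : (⟨δ, 1⟩ : C ≀ᵣ C) * RegularWreathProduct.inl d = ⟨δ, d⟩ := by
      ext <;> simp
    rw [e] at h
    have h1 := congrFun (congrArg RegularWreathProduct.left h) 1
    rw [pow_left_apply, Finset.prod_eq_single 0] at h1
    · simpa [δ] using h1
    · intro i hi hi0
      rw [mul_one]
      refine if_neg fun hh => hi0 ?_
      rw [inv_eq_one] at hh
      have h2 : orderOf d ∣ i := orderOf_dvd_of_pow_eq_one hh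
      rw [orderOf_eq_prime (hdp d) hd] at h2
      exact Nat.eq_zero_of_dvd_of_lt h2 (Finset.mem_range.mp hi)
    · simp [hp.out.ne_zero]

theorem right_eq_one {u : C ≀ᵣ C} (hu : u ∈ (𝓛 1 : Subgroup (C ≀ᵣ C))) : u.right = 1 := by
  have h : (𝓛 1 : Subgroup (C ≀ᵣ C)) ≤ (RegularWreathProduct.rightHom : C ≀ᵣ C →* _).ker := by
    rw [Subgroup.top_lowerCentralSeries_one, _root_.commutator_def, commutator_le]
    intro u _ v _
    rw [MonoidHom.mem_ker, map_commutatorElement, commutatorElement_eq_one_iff_mul_comm, mul_comm]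
  exact h hu

theorem base_comm {u v : C ≀ᵣ C} (hu : u.right = 1) (hv : v.right = 1) : u * v = v * u := by
  ext1
  · funext y; simp [hu, hv, mul_comm]
  · simp [hu, hv]

theorem base_pow {u : C ≀ᵣ C} (hu : u.right = 1) : u ^ p = 1 := by
  obtain ⟨f, g⟩ := u
  obtain rfl : g = 1 := hu
  refine RegularWreathProduct.ext (funext fun y => ?_) ?_
  · rw [pow_left_apply]
    apply Multiplicative.toAdd.injective
    simp
  · rw [← RegularWreathProduct.rightHom_eq_right, map_pow]
    simp

end Wreath

variable {G : Type*} [Group G]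

/-- Iterated commutators with `x`. -/
def adIter (x a : G) : ℕ → G
  | 0 => a
  | k + 1 => ⁅adIter x a k, x⁆

theorem adIter_mem {x a : G} {j : ℕ} (ha : a ∈ 𝓛 j) : ∀ k, adIter x a k ∈ 𝓛 (j + k)
  | 0 => ha
  | k + 1 => commutator_mem_commutator (adIter_mem ha k) (mem_top x)

variable [Finite G] {p : ℕ} [hp : Fact p.Prime] {n : ℕ} {x : G}

section

variable (hG : Nat.card G = p ^ n) (hC : Nat.card (centralizer ({x} : Set G)) = p ^ 2)

include hG hC

theorem two_le : 2 ≤ n :=
  (Nat.pow_dvd_pow_iff_le_right hp.out.one_lt).mp (hC ▸ hG ▸ card_subgroup_dvd_card _)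

theorem class_eq : Group.nilpotencyClass G = n - 1 := by
  refine MaxClassTwo.class_of_self_centralizing n G hG _ hC (le_antisymm ?_ ?_)
  · refine centralizer_le (Set.singleton_subset_iff.mpr ?_)
    exact mem_centralizer_singleton_iff.mpr rfl
  · exact PGroupsBasic.le_centralizer_of_isMulCommutative
      ⟨⟨IsPGroup.commutative_of_card_eq_prime_sq hC⟩⟩

theorem lcs_bot {j : ℕ} (h : n - 1 ≤ j) : (𝓛 j : Subgroup G) = ⊥ := by
  have := (IsPGroup.of_card hG).isNilpotent
  rw [Subgroup.lowerCentralSeries_eq_bot_iff_nilpotencyClass_le, class_eq hG hC]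
  exact h

theorem lcs_ne_bot {j : ℕ} (hn : 2 ≤ n) (h : j ≤ n - 2) : (𝓛 j : Subgroup G) ≠ ⊥ := by
  have := (IsPGroup.of_card hG).isNilpotent
  rw [Ne, Subgroup.lowerCentralSeries_eq_bot_iff_nilpotencyClass_le, class_eq hG hC]
  omega

theorem lcs_lt {j : ℕ} (h : j + 2 ≤ n) : (𝓛 (j + 1) : Subgroup G) < 𝓛 j := by
  refine lt_of_le_of_ne (Subgroup.lowerCentralSeries_antitone _ (Nat.le_succ j)) fun e => ?_
  have hc : ∀ i, (𝓛 (j + i) : Subgroup G) = 𝓛 j := fun i => by
    induction i with
    | zero => rfl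
    | succ i ih => rw [← Nat.add_assoc, Subgroup.lowerCentralSeries_succ, ih, ← Subgroup.lowerCentralSeries_succ, e]
  have h1 := hc (n - 1 - j)
  rw [Nat.add_sub_cancel' (by omega), lcs_bot hG hC le_rfl] at h1
  exact lcs_ne_bot hG hC (by omega) (by omega) h1.symm

theorem index_lcs_one (hn : 3 ≤ n) : p ^ 2 ≤ (𝓛 1 : Subgroup G).index := by
  by_contra hlt
  have hP : IsPGroup p G := IsPGroup.of_card hG
  obtain ⟨T, -, hT, hTt⟩ := PGroupsBasic.exists_basis_subset hP
    (@Finset.univ G (Fintype.ofFinite G)) (by simp)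
  have h1 : (frattini G).index ≤ (𝓛 1 : Subgroup G).index :=
    Nat.le_of_dvd (Nat.pos_of_ne_zero index_ne_zero_of_finite)
      (index_dvd_of_le (PGroupsBasic.commutator_le_frattini hP))
  rw [← hT] at h1
  have h2 : T.card < 2 := (Nat.pow_lt_pow_iff_right hp.out.one_lt).mp (lt_of_le_of_lt h1 (by omega))
  have hcomm : ∀ a b : G, a * b = b * a := by
    obtain ⟨g, hg⟩ : ∃ g : G, (T : Set G) ⊆ {g} := by
      obtain h | h : T.card = 0 ∨ T.card = 1 := by omega
      · exact ⟨1, by simp [Finset.card_eq_zero.mp h]⟩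
      · obtain ⟨g, hg⟩ := Finset.card_eq_one.mp h
        exact ⟨g, by simp [hg]⟩
    have htop : zpowers g = ⊤ := by
      rw [zpowers_eq_closure, eq_top_iff, ← hTt]
      exact closure_mono hg
    intro a b
    exact PGroupsBasic.comm_of_isMulCommutative (PGroupsBasic.isMulCommutative_zpowers g)
      (htop ▸ mem_top a) (htop ▸ mem_top b)
  refine lcs_ne_bot hG hC (j := 1) (by omega) (by omega) ?_
  rw [Subgroup.top_lowerCentralSeries_one, _root_.commutator_def, commutator_eq_bot_iff_le_centralizer]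
  exact fun a _ => mem_centralizer_iff.mpr fun b _ => hcomm b a

theorem card_lcs {j : ℕ} (hn : 3 ≤ n) (h1 : 1 ≤ j) (hj : j ≤ n - 1) :
    Nat.card (𝓛 j : Subgroup G) = p ^ (n - 1 - j) := by
  have hP : IsPGroup p G := IsPGroup.of_card hG
  choose m hm using fun i => IsPGroup.iff_card.mp (hP.to_subgroup (𝓛 i))
  have hlt : ∀ i, i + 2 ≤ n → m (i + 1) < m i := fun i hi => by
    have h := lt_of_le_of_ne (card_le_of_le (lcs_lt hG hC hi).le) fun e =>
      (lcs_lt hG hC hi).ne (eq_of_le_of_card_ge (lcs_lt hG hC hi).le e.ge)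
    rw [hm, hm] at h
    exact (Nat.pow_lt_pow_iff_right hp.out.one_lt).mp h
  have htop : m 1 ≤ n - 2 := by
    have h := card_mul_index (𝓛 1 : Subgroup G)
    rw [hm, hG] at h
    refine (Nat.pow_le_pow_iff_right hp.out.one_lt).mp
      (Nat.le_of_mul_le_mul_right ?_ (pow_pos hp.out.pos 2))
    rw [← pow_add p (n - 2), show n - 2 + 2 = n by omega, ← h]
    exact Nat.mul_le_mul le_rfl (index_lcs_one hG hC hn)
  have hup : ∀ i, i + 1 ≤ n - 1 → m (i + 1) + i ≤ n - 2 := fun i => by
    induction i with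
    | zero => exact fun _ => htop
    | succ i ih => intro hi; have := hlt (i + 1) (by omega); have := ih (by omega); omega
  have hlow : ∀ i, i ≤ n - 1 → i ≤ m (n - 1 - i) := fun i => by
    induction i with
    | zero => exact fun _ => Nat.zero_le _
    | succ i ih =>
      intro hi
      have := hlt (n - 1 - (i + 1)) (by omega)
      rw [show n - 1 - (i + 1) + 1 = n - 1 - i by omega] at this
      have := ih (by omega)
      omega
  have a := hup (j - 1) (by omega)
  have b := hlow (n - 1 - j) (by omega)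
  rw [show j - 1 + 1 = j by omega] at a
  rw [show n - 1 - (n - 1 - j) = j by omega] at b
  rw [hm, show m j = n - 1 - j by omega]

theorem ne_one (hn : 3 ≤ n) : x ≠ 1 := by
  rintro rfl
  rw [show centralizer ({1} : Set G) = ⊤ from eq_top_iff.mpr fun a _ =>
    mem_centralizer_singleton_iff.mpr (by simp), card_top, hG] at hC
  have := Nat.pow_right_injective hp.out.two_le hC
  omega

/-- Commutation with `x` from `K` hits all of a target of the right order. -/
theorem surj_comm (K T : Subgroup G) (hKT : ∀ a ∈ K, ⁅a, x⁆ ∈ T)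
    (hcard : Nat.card T * Nat.card (centralizer ({x} : Set G) ⊓ K : Subgroup G) = Nat.card K)
    {t : G} (ht : t ∈ T) : ∃ a ∈ K, ⁅a, x⁆ = t := by
  have key : ∀ a b : G, a⁻¹ * b ∈ centralizer ({x} : Set G) ↔ ⁅a, x⁆ = ⁅b, x⁆ := fun a b => by
    rw [mem_centralizer_singleton_iff, commutatorElement_def, commutatorElement_def, mul_left_inj]
    constructor
    · intro h
      calc a * x * a⁻¹ = a * (x * (a⁻¹ * b)) * b⁻¹ := by group
        _ = a * (a⁻¹ * b * x) * b⁻¹ := by rw [h]
        _ = b * x * b⁻¹ := by group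
    · intro h
      calc a⁻¹ * b * x = a⁻¹ * (b * x * b⁻¹) * b := by group
        _ = a⁻¹ * (a * x * a⁻¹) * b := by rw [h]
        _ = x * (a⁻¹ * b) := by group
  let D : Subgroup K := (centralizer ({x} : Set G)).subgroupOf K
  let f : K ⧸ D → T := Quotient.lift (fun a : K => (⟨⁅(a : G), x⁆, hKT a a.2⟩ : T)) fun a b hab =>
    Subtype.ext ((key a b).mp (QuotientGroup.leftRel_apply.mp hab :))
  have hinj : Function.Injective f := fun a b => by
    induction a using Quotient.inductionOn with
    | _ a =>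
      induction b using Quotient.inductionOn with
      | _ b => exact fun h => QuotientGroup.eq.mpr ((key a b).mpr (congrArg Subtype.val h))
  have hc : Nat.card (K ⧸ D) = Nat.card T := by
    have h1 := card_mul_index D
    rw [show Nat.card D = Nat.card (centralizer ({x} : Set G) ⊓ K : Subgroup G) by
        rw [show D = (centralizer ({x} : Set G) ⊓ K).subgroupOf K from
          (Subgroup.inf_subgroupOf_right _ _).symm, Nat.card_congr (subgroupOfEquivOfLe inf_le_right).toEquiv],
      ← hcard, Nat.mul_comm] at h1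
    exact Nat.eq_of_mul_eq_mul_right Nat.card_pos h1
  obtain ⟨q, hq⟩ := ((Nat.bijective_iff_injective_and_card f).mpr ⟨hinj, hc⟩).2 ⟨t, ht⟩
  induction q using Quotient.inductionOn with
  | _ a => exact ⟨a, a.2, congrArg Subtype.val hq⟩

theorem exists_conj (hn : 3 ≤ n) {a : G} (ha : a ∈ 𝓛 1) : ∃ g : G, ⁅g, x⁆ = a := by
  obtain ⟨g, -, hg⟩ := surj_comm hG hC ⊤ (𝓛 1)
    (fun g _ => commutator_mem_commutator (mem_top g) (mem_top x)) (by
      rw [inf_top_eq, hC, card_top, hG, card_lcs hG hC hn le_rfl (by omega), ← pow_add,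
        show n - 1 - 1 + 2 = n by omega]) ha
  exact ⟨g, hg⟩

theorem mul_pow_eq (hn : 3 ≤ n) (hxc : x ^ p ∈ center G) {a : G} (ha : a ∈ 𝓛 1) :
    (a * x) ^ p = x ^ p := by
  obtain ⟨g, rfl⟩ := exists_conj hG hC hn ha
  rw [show ⁅g, x⁆ * x = g * x * g⁻¹ by rw [commutatorElement_def]; group, conj_pow,
    mem_center_iff.mp hxc g, mul_inv_cancel_right]

theorem mul_pow_eq_one (hn : 3 ≤ n) (hx : x ^ p = 1) {a : G} (ha : a ∈ 𝓛 1) :
    (a * x) ^ p = 1 := by
  obtain ⟨g, rfl⟩ := exists_conj hG hC hn ha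
  rw [show ⁅g, x⁆ * x = g * x * g⁻¹ by rw [commutatorElement_def]; group, conj_pow, hx, mul_one,
    mul_inv_cancel]

theorem notMem_lcs_one (hn : 3 ≤ n) : x ∉ 𝓛 1 := fun h => by
  obtain ⟨g, hg⟩ := exists_conj hG hC hn (inv_mem h)
  rw [commutatorElement_def, mul_eq_right] at hg
  exact ne_one hG hC hn (conj_eq_one_iff.mp hg)

theorem centralizer_inf (hn : 3 ≤ n) :
    centralizer ({x} : Set G) ⊓ 𝓛 1 = 𝓛 (n - 2) := by
  have hle : 𝓛 (n - 2) ≤ centralizer ({x} : Set G) ⊓ 𝓛 1 := by
    refine le_inf (fun z hz => mem_centralizer_singleton_iff.mpr ?_)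
      (Subgroup.lowerCentralSeries_antitone _ (by omega))
    have h : ⁅z, x⁆ ∈ 𝓛 (n - 1) := by
      rw [show n - 1 = n - 2 + 1 by omega]
      exact commutator_mem_commutator hz (mem_top x)
    rw [lcs_bot hG hC le_rfl, mem_bot] at h
    exact commutatorElement_eq_one_iff_mul_comm.mp h
  refine (eq_of_le_of_card_ge hle ?_).symm
  rw [card_lcs hG hC hn (by omega) (by omega), show n - 1 - (n - 2) = 1 by omega]
  obtain ⟨k, hk⟩ := IsPGroup.iff_card.mp
    ((IsPGroup.of_card hG).to_subgroup (centralizer ({x} : Set G) ⊓ 𝓛 1))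
  have hlt : Nat.card (centralizer ({x} : Set G) ⊓ 𝓛 1 : Subgroup G) < p ^ 2 := by
    rw [← hC]
    refine lt_of_le_of_ne (card_le_of_le inf_le_left) fun e => notMem_lcs_one hG hC hn ?_
    refine (inf_eq_left.mp (eq_of_le_of_card_ge inf_le_left e.ge)) ?_
    exact mem_centralizer_singleton_iff.mpr rfl
  rw [hk] at hlt ⊢
  have := (Nat.pow_lt_pow_iff_right hp.out.one_lt).mp hlt
  exact Nat.pow_le_pow_right hp.out.pos (by omega)

theorem comm_exact {j : ℕ} (h1 : 1 ≤ j) (hj : j + 2 ≤ n - 1) {a : G} (ha : a ∈ 𝓛 j)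
    (hcomm : ⁅a, x⁆ ∈ 𝓛 (j + 2)) : a ∈ 𝓛 (j + 1) := by
  have hn : 3 ≤ n := by omega
  have hinf : centralizer ({x} : Set G) ⊓ 𝓛 (j + 1) = 𝓛 (n - 2) := by
    refine le_antisymm ?_ (le_inf ?_ (Subgroup.lowerCentralSeries_antitone _ (by omega)))
    · rw [← centralizer_inf hG hC hn]
      exact inf_le_inf_left _ (Subgroup.lowerCentralSeries_antitone _ (by omega))
    · rw [← centralizer_inf hG hC hn]
      exact inf_le_left
  obtain ⟨b, hb, e⟩ := surj_comm hG hC (𝓛 (j + 1)) (𝓛 (j + 2))
    (fun c hc => commutator_mem_commutator hc (mem_top x)) (by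
      rw [hinf, card_lcs hG hC hn (by omega) hj, card_lcs hG hC hn (by omega) (by omega),
        card_lcs hG hC hn (by omega) (by omega), ← pow_add,
        show n - 1 - (j + 2) + (n - 1 - (n - 2)) = n - 1 - (j + 1) by omega]) hcomm
  have hmem : b⁻¹ * a ∈ centralizer ({x} : Set G) ⊓ 𝓛 1 := by
    refine ⟨mem_centralizer_singleton_iff.mpr ?_, (𝓛 1 : Subgroup G).mul_mem ((𝓛 1 : Subgroup G).inv_mem
      (Subgroup.lowerCentralSeries_antitone _ (by omega) hb)) (Subgroup.lowerCentralSeries_antitone _ h1 ha)⟩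
    rw [commutatorElement_def, commutatorElement_def, mul_left_inj] at e
    calc b⁻¹ * a * x = b⁻¹ * (a * x * a⁻¹) * a := by group
      _ = b⁻¹ * (b * x * b⁻¹) * a := by rw [e]
      _ = x * (b⁻¹ * a) := by group
  rw [centralizer_inf hG hC hn] at hmem
  have h2 : b⁻¹ * a ∈ 𝓛 (j + 1) := Subgroup.lowerCentralSeries_antitone _ (by omega) hmem
  simpa using mul_mem hb h2

theorem adIter_exact {j : ℕ} (h1 : 1 ≤ j) {a : G} (ha : a ∈ 𝓛 j) (ha' : a ∉ 𝓛 (j + 1)) :
    ∀ k, j + k ≤ n - 2 → adIter x a k ∉ 𝓛 (j + k + 1)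
  | 0, _ => ha'
  | k + 1, hk => fun h => adIter_exact h1 ha ha' k (by omega) <|
      comm_exact hG hC (by omega) (by omega) (adIter_mem ha k) h

/-- `p`-th powers climb exactly `p - 1` steps in the lower central series. -/
theorem pow_lcs_central (hp2 : p ≠ 2) (hxc : x ^ p ∈ center G) (hn : 3 ≤ n) : ∀ d j : ℕ, n - 1 ≤ j + d → 1 ≤ j →
    ∀ a ∈ (𝓛 j : Subgroup G), a ^ p ∈ (𝓛 (j + (p - 1)) : Subgroup G) ∧
      (a ∉ (𝓛 (j + 1) : Subgroup G) → j + (p - 1) < n - 1 →
        a ^ p ∉ (𝓛 (j + p) : Subgroup G)) := by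
  intro d
  induction d with
  | zero =>
    intro j hj _ a ha
    rw [lcs_bot hG hC (by omega), mem_bot] at ha
    subst ha
    exact ⟨by simp, fun h => absurd (one_mem _) h⟩
  | succ d ih =>
    intro j hj h1 a ha
    have hp3 : 3 ≤ p := by have := hp.out.two_le; omega
    let N : Subgroup G := 𝓛 (j + p)
    let π := QuotientGroup.mk' N
    let M := Multiplicative (ZMod p) ≀ᵣ Multiplicative (ZMod p)
    have : NeZero p := ⟨hp.out.ne_zero⟩
    have : Group.IsNilpotent M := (IsPGroup.of_card (p := p) card_wreath).isNilpotent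
    have hMc : (𝓛 p : Subgroup M) = ⊥ := by
      rw [Subgroup.lowerCentralSeries_eq_bot_iff_nilpotencyClass_le]
      exact (MaxClassTwo.nilpotencyClass_le (p + 1) M card_wreath (by omega)).trans (by omega)
    have hQmap : ∀ i, (𝓛 i : Subgroup G).map π = (𝓛 i : Subgroup (G ⧸ N)) := fun i => by
      rw [Subgroup.map_lowerCentralSeries, ← MonoidHom.range_eq_map,
        MonoidHom.range_eq_top.mpr (QuotientGroup.mk'_surjective N)]
    have hQbot : (𝓛 (j + p) : Subgroup (G ⧸ N)) = ⊥ := by
      rw [← hQmap, Subgroup.map_eq_bot_iff]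
      exact (QuotientGroup.ker_mk' N).ge
    have hbase : ∀ {u : M}, u ∈ (𝓛 1 : Subgroup M) → u.right = 1 := fun hu => right_eq_one hu
    have hbase_comm : ∀ u v : M, u.right = 1 → v.right = 1 → u * v = v * u :=
      fun u v hu hv => base_comm hu hv
    have hbase_pow : ∀ u : M, u.right = 1 → u ^ p = 1 := fun u hu => base_pow hu
    obtain ⟨a', x', ha'p, hx'p, hax', ha'r⟩ := exists_model (p := p)
    let α : (G ⧸ N) × M := (π a, a')
    let ξ : (G ⧸ N) × M := (π x, x')
    let U : Subgroup ((G ⧸ N) × M) := closure {α, ξ}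
    let W : ℕ → Subgroup ((G ⧸ N) × M) := fun k => (𝓛 (j + k)).prod (𝓛 k)
    have hWanti : Antitone W := fun k l hkl => prod_mono
      (Subgroup.lowerCentralSeries_antitone _ (by omega)) (Subgroup.lowerCentralSeries_antitone _ hkl)
    have hWcomm : ∀ k, ⁅W k, (⊤ : Subgroup ((G ⧸ N) × M))⁆ ≤ W (k + 1) := fun k => by
      rw [← top_prod_top, commutator_prod_prod]
      exact le_rfl
    have hWnorm : ∀ k, (W k).Normal := fun k => prod_normal _ _
    have hWp : W p = ⊥ := by
      show (𝓛 (j + p)).prod (𝓛 p) = ⊥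
      rw [hQbot, hMc, bot_prod_bot]
    let ε : ℕ → (G ⧸ N) × M := fun k => adIter ξ α k
    have hε1 : ∀ k, (ε k).1 = π (adIter x a k) := fun k => by
      induction k with
      | zero => rfl
      | succ k ih =>
        show ⁅(ε k).1, π x⁆ = _
        rw [ih, ← map_commutatorElement]
        rfl
    have hεW : ∀ k, ε k ∈ W k := fun k => by
      induction k with
      | zero => exact ⟨by rw [show j + 0 = j from rfl, ← hQmap]; exact mem_map_of_mem π ha, mem_top _⟩
      | succ k ih => exact hWcomm k (commutator_mem_commutator ih (mem_top ξ))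
    -- the group `K k`
    let K : ℕ → Subgroup ((G ⧸ N) × M) := fun k => zpowers (ε k) ⊔ W (k + 1)
    have hKW : ∀ k, K k ≤ W k := fun k =>
      sup_le (zpowers_le.mpr (hεW k)) (hWanti (Nat.le_succ k))
    have hKn : ∀ k, (K k).Normal := fun k => ⟨fun u hu g => by
      have h : ⁅g, u⁆ ∈ K k := le_sup_right (a := zpowers (ε k)) (hWcomm k (by
        rw [Subgroup.commutator_comm]
        exact commutator_mem_commutator (mem_top g) (hKW k hu)))
      simpa [commutatorElement_def, mul_assoc] using mul_mem h hu⟩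
    have hK : ∀ k, 1 ≤ k → U.lowerCentralSeries k ≤ K k := by
      have reduce : ∀ k (A : Subgroup ((G ⧸ N) × M)),
          (∀ u ∈ A, ⁅u, α⁆ ∈ K k ∧ ⁅u, ξ⁆ ∈ K k) → ⁅A, U⁆ ≤ K k := fun k A h => by
        have := hKn k
        refine commutator_le.mpr fun u hu v hv => ?_
        let q := QuotientGroup.mk' (K k)
        have hle : U ≤ (centralizer ({q u} : Set _)).comap q := by
          refine (closure_le _).mpr ?_
          rintro w (rfl | rfl)
          · refine mem_centralizer_singleton_iff.mpr (Eq.symm ?_)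
            rw [← commutatorElement_eq_one_iff_mul_comm, ← map_commutatorElement]
            exact (QuotientGroup.eq_one_iff _).mpr (h u hu).1
          · refine mem_centralizer_singleton_iff.mpr (Eq.symm ?_)
            rw [← commutatorElement_eq_one_iff_mul_comm, ← map_commutatorElement]
            exact (QuotientGroup.eq_one_iff _).mpr (h u hu).2
        rw [← QuotientGroup.eq_one_iff, ← QuotientGroup.mk'_apply, map_commutatorElement,
          commutatorElement_eq_one_iff_mul_comm]
        exact (mem_centralizer_singleton_iff.mp (hle hv)).symm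
      intro k hk
      induction k, hk using Nat.le_induction with
      | base =>
        rw [Subgroup.lowerCentralSeries_succ, Subgroup.lowerCentralSeries_zero]
        have := hKn 1
        have hαξ : ⁅α, ξ⁆ ∈ K 1 := le_sup_left (b := W 2) (mem_zpowers (ε 1))
        refine commutator_le.mpr fun u hu v hv => ?_
        have hgen : ∀ w ∈ U, ⁅α, w⁆ ∈ K 1 ∧ ⁅ξ, w⁆ ∈ K 1 := fun w hw => by
          have h1 := reduce 1 (closure {α}) (fun t ht => by
            obtain ⟨z, rfl⟩ := mem_closure_singleton.mp ht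
            let q := QuotientGroup.mk' (K 1)
            have hq : Commute (q α) (q ξ) := by
              rw [← commutatorElement_eq_one_iff_commute, ← map_commutatorElement]
              exact (QuotientGroup.eq_one_iff _).mpr hαξ
            constructor <;>
              rw [← QuotientGroup.eq_one_iff, ← QuotientGroup.mk'_apply, map_commutatorElement,
                map_zpow, commutatorElement_eq_one_iff_commute]
            · exact (Commute.refl (q α)).zpow_left z
            · exact hq.zpow_left z) (commutator_mem_commutator (subset_closure rfl) hw)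
          have h2 := reduce 1 (closure {ξ}) (fun t ht => by
            obtain ⟨z, rfl⟩ := mem_closure_singleton.mp ht
            let q := QuotientGroup.mk' (K 1)
            have hq : Commute (q α) (q ξ) := by
              rw [← commutatorElement_eq_one_iff_commute, ← map_commutatorElement]
              exact (QuotientGroup.eq_one_iff _).mpr hαξ
            constructor <;>
              rw [← QuotientGroup.eq_one_iff, ← QuotientGroup.mk'_apply, map_commutatorElement,
                map_zpow, commutatorElement_eq_one_iff_commute]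
            · exact hq.symm.zpow_left z
            · exact (Commute.refl (q ξ)).zpow_left z) (commutator_mem_commutator (subset_closure rfl) hw)
          exact ⟨h1, h2⟩
        exact reduce 1 U (fun w hw => ⟨by
            simpa using inv_mem (hgen w hw).1, by simpa using inv_mem (hgen w hw).2⟩)
          (commutator_mem_commutator hu hv)
      | succ k hk ihk =>
        rw [Subgroup.lowerCentralSeries_succ]
        refine (commutator_mono ihk le_rfl).trans (reduce (k + 1) (K k) fun u hu => ?_)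
        have := hKn (k + 1)
        let q := QuotientGroup.mk' (K (k + 1))
        have hcent : ∀ w : (G ⧸ N) × M, ⁅ε k, w⁆ ∈ K (k + 1) → ⁅u, w⁆ ∈ K (k + 1) := fun w hw => by
          have hle : K k ≤ (centralizer ({q w} : Set _)).comap q := by
            refine sup_le (zpowers_le.mpr ?_) fun t ht => ?_
            · refine mem_centralizer_singleton_iff.mpr ?_
              rw [← commutatorElement_eq_one_iff_mul_comm, ← map_commutatorElement]
              exact (QuotientGroup.eq_one_iff _).mpr hw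
            · refine mem_centralizer_singleton_iff.mpr ?_
              rw [← commutatorElement_eq_one_iff_mul_comm, ← map_commutatorElement]
              exact (QuotientGroup.eq_one_iff _).mpr
                (le_sup_right (a := zpowers (ε (k + 1)))
                  (hWcomm (k + 1) (commutator_mem_commutator ht (mem_top w))))
          rw [← QuotientGroup.eq_one_iff, ← QuotientGroup.mk'_apply, map_commutatorElement,
            commutatorElement_eq_one_iff_mul_comm]
          exact mem_centralizer_singleton_iff.mp (hle hu)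
        refine ⟨hcent α ?_, hcent ξ (le_sup_left (b := W (k + 1 + 1)) (mem_zpowers (ε (k + 1))))⟩
        refine le_sup_right (a := zpowers (ε (k + 1))) ⟨?_, ?_⟩
        · refine Subgroup.lowerCentralSeries_antitone _ (show j + (k + 1 + 1) ≤ j + k + j + 1 by omega) ?_
          exact PGroupsHallPetrescu.commutator_lcs_le _ _ (commutator_mem_commutator (hεW k).1
            (by rw [← hQmap]; exact mem_map_of_mem π ha))
        · show ⁅(ε k).2, a'⁆ ∈ _
          rw [commutatorElement_eq_one_iff_mul_comm.mpr (hbase_comm _ _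
            (hbase (Subgroup.lowerCentralSeries_antitone _ hk (hεW k).2)) ha'r)]
          exact one_mem _
    -- the collection formula
    have hmemU : ∀ {k : ℕ} {c : U}, c ∈ PGroupsHallPetrescu.Gf U k →
        (c : (G ⧸ N) × M) ∈ U.lowerCentralSeries (k - 1) := fun {k c} h => by
      rw [← Subgroup.top_subtype_lowerCentralSeries]
      exact mem_map_of_mem U.subtype h
    have hGf : PGroupsHallPetrescu.Gf U (p + 1) = ⊥ := by
      rw [eq_bot_iff]
      intro c hc
      have h := hKW p (hK p (by omega) (hmemU hc))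
      rw [hWp, mem_bot] at h
      exact mem_bot.mpr (Subtype.ext h)
    obtain ⟨c, hc, hc0, hc1, hcf⟩ := PGroupsHallPetrescu.hall_petrescu
      (⟨α, subset_closure (Or.inl rfl)⟩ : U) ⟨ξ, subset_closure (Or.inr rfl)⟩ hGf
    have hck : ∀ k < p, c k ^ p.choose k = 1 := fun k hk => by
      match k, hk with
      | 0, _ => simp [hc0]
      | 1, _ => simp [hc1]
      | k + 2, hk =>
        obtain ⟨m, hm⟩ := hp.out.dvd_choose_self (by omega : k + 2 ≠ 0) hk
        have h := hKW _ (hK (k + 1) (by omega) (hmemU (hc (k + 2))))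
        have hone : c (k + 2) ^ p = 1 := by
          refine Subtype.ext ?_
          rw [coe_pow, coe_one]
          refine Prod.ext ?_ (hbase_pow _ (hbase (Subgroup.lowerCentralSeries_antitone _ (by omega) h.2)))
          have h' := h.1
          rw [← hQmap] at h'
          obtain ⟨b, hb, e⟩ := h'
          rw [Prod.pow_fst, ← e, ← map_pow]
          exact (QuotientGroup.eq_one_iff _).mpr (Subgroup.lowerCentralSeries_antitone _ (by omega)
            (ih (j + (k + 1)) (by omega) (by omega) b hb).1)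
        rw [hm, pow_mul, hone, one_pow]
    obtain ⟨E, hE⟩ : ∃ E : ℤ, ε (p - 1) ^ E = (c p : (G ⧸ N) × M) := by
      have h := hK (p - 1) (by omega) (hmemU (hc p))
      have hz : K (p - 1) = zpowers (ε (p - 1)) := by
        show zpowers _ ⊔ W (p - 1 + 1) = _
        rw [show p - 1 + 1 = p by omega, hWp, sup_bot_eq]
      rw [hz] at h
      exact mem_zpowers_iff.mp h
    have hprod : ((List.range (p + 1)).map fun k => c k ^ p.choose k).prod = c p := by
      rw [List.range_succ, List.map_append, List.prod_append, List.prod_eq_one]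
      · simp
      · intro y hy
        obtain ⟨k, hk, rfl⟩ := List.mem_map.mp hy
        exact hck k (List.mem_range.mp hk)
    have hmain := congrArg Subtype.val (hcf p)
    rw [hprod] at hmain
    simp only [coe_mul, coe_pow, ← hE] at hmain
    have hQ : (π a) ^ p * π (adIter x a (p - 1)) ^ E = 1 := by
      have h := congrArg Prod.fst hmain
      simp only [Prod.fst_mul, Prod.pow_fst, α, ξ, hε1] at h
      rw [← map_mul, ← map_pow, mul_pow_eq hG hC hn hxc
        (Subgroup.lowerCentralSeries_antitone _ h1 ha), map_pow] at h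
      have hcom : Commute (π a ^ p) (π x ^ p) := by
        rw [← map_pow, ← map_pow]
        exact Commute.map (show Commute (a ^ p) (x ^ p) from mem_center_iff.mp hxc _) π
      rw [hcom.eq, mul_assoc] at h
      exact (mul_eq_left.mp h.symm)
    have hM : ¬ (p : ℤ) ∣ E := by
      rintro ⟨m, rfl⟩
      have h := congrArg Prod.snd hmain
      simp only [Prod.snd_mul, Prod.pow_snd, α, ξ] at h
      rw [ha'p, hx'p, one_mul, one_mul, zpow_mul, zpow_natCast,
        hbase_pow _ (hbase (Subgroup.lowerCentralSeries_antitone _ (by omega : 1 ≤ p - 1) (hεW (p - 1)).2)),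
        one_zpow] at h
      exact hax' h
    refine ⟨?_, fun ha' hlt hpow => ?_⟩
    · have h1 : a ^ p * adIter x a (p - 1) ^ E ∈ N := by
        rw [← QuotientGroup.eq_one_iff, ← QuotientGroup.mk'_apply, map_mul, map_pow, map_zpow]
        exact hQ
      have h2 := Subgroup.lowerCentralSeries_antitone (⊤ : Subgroup G)
        (by omega : j + (p - 1) ≤ j + p) h1
      exact (Subgroup.mul_mem_cancel_right _ (zpow_mem (adIter_mem ha (p - 1)) E)).mp h2
    · rw [show π a ^ p = π (a ^ p) from (map_pow π a p).symm,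
        show π (a ^ p) = 1 from (QuotientGroup.eq_one_iff _).mpr hpow, one_mul,
        ← orderOf_dvd_iff_zpow_eq_one] at hQ
      have hne : π (adIter x a (p - 1)) ≠ 1 := fun h => by
        refine adIter_exact hG hC h1 ha ha' (p - 1) (by omega) ?_
        rw [show j + (p - 1) + 1 = j + p by omega]
        exact (QuotientGroup.eq_one_iff _).mp h
      obtain ⟨m, hm⟩ := IsPGroup.iff_orderOf.mp ((IsPGroup.of_card hG).to_quotient N)
        (π (adIter x a (p - 1)))
      refine hM (dvd_trans ?_ hQ)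
      rw [hm]
      refine Int.natCast_dvd_natCast.mpr (dvd_pow_self p fun hm0 => hne ?_)
      rw [hm0, pow_zero, orderOf_eq_one_iff] at hm
      exact hm

/-- `p`-th powers climb exactly `p - 1` steps in the lower central series. -/
theorem pow_lcs (hp2 : p ≠ 2) (hx : x ^ p = 1) (hn : 3 ≤ n) : ∀ d j : ℕ, n - 1 ≤ j + d → 1 ≤ j →
    ∀ a ∈ (𝓛 j : Subgroup G), a ^ p ∈ (𝓛 (j + (p - 1)) : Subgroup G) ∧
      (a ∉ (𝓛 (j + 1) : Subgroup G) → j + (p - 1) < n - 1 →
        a ^ p ∉ (𝓛 (j + p) : Subgroup G)) :=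
  pow_lcs_central hG hC hp2 (hx ▸ one_mem _) hn

omit hG hC in
/-- A `p`-group whose Frattini quotient has order at most `p ^ k` is generated by `k` elements. -/
theorem exists_gens {H : Subgroup G} (hP : IsPGroup p H) {k : ℕ}
    (hk : (frattini H).index ≤ p ^ k) :
    ∃ T : Finset G, T.card ≤ k ∧ closure (T : Set G) = H := by
  classical
  obtain ⟨T, -, hT, hTt⟩ := PGroupsBasic.exists_basis_subset hP
    (@Finset.univ H (Fintype.ofFinite H)) (by simp)
  refine ⟨T.image H.subtype, Finset.card_image_le.trans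
    ((Nat.pow_le_pow_iff_right hp.out.one_lt).mp (hT ▸ hk)), ?_⟩
  rw [Finset.coe_image, ← MonoidHom.map_closure, hTt, ← MonoidHom.range_eq_map, range_subtype]

theorem index_frattini_le (hp2 : p ≠ 2) (hx : x ^ p = 1) (hn : 3 ≤ n) {H : Subgroup G}
    (hH : H ≤ 𝓛 1) : (frattini H).index ≤ p ^ (p - 1) := by
  have hP : IsPGroup p G := IsPGroup.of_card hG
  let F : Subgroup G := (frattini H).map H.subtype
  have key : ∀ d j, 1 ≤ j → n - 1 ≤ j + d →
      Nat.card (H ⊓ 𝓛 j : Subgroup G) ≤
        p ^ (p - 1) * Nat.card (F ⊓ 𝓛 (j + (p - 1)) : Subgroup G) := by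
    intro d
    induction d with
    | zero =>
      intro j h1 hj
      have h : (H ⊓ 𝓛 j : Subgroup G) = ⊥ :=
        le_bot_iff.mp (inf_le_right.trans (lcs_bot hG hC (by omega)).le)
      rw [h, card_bot]
      exact Nat.one_le_iff_ne_zero.mpr
        (Nat.mul_ne_zero (pow_ne_zero _ hp.out.ne_zero) Nat.card_pos.ne')
    | succ d ih =>
      intro j h1 hj
      by_cases hbig : n - 1 ≤ j + (p - 1)
      · refine le_trans ?_ (Nat.le_mul_of_pos_right _ Nat.card_pos)
        refine (card_le_of_le inf_le_right).trans ?_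
        by_cases hjn : j ≤ n - 1
        · rw [card_lcs hG hC hn h1 hjn]
          exact Nat.pow_le_pow_right hp.out.pos (by omega)
        · rw [lcs_bot hG hC (by omega), card_bot]
          exact pow_pos hp.out.pos _
      have hjp : j + 1 + (p - 1) = j + p := by have := hp.out.pos; omega
      have hih := ih (j + 1) (by omega) (by omega)
      rw [hjp] at hih
      by_cases hsub : H ⊓ 𝓛 j ≤ 𝓛 (j + 1)
      · refine (card_le_of_le (le_inf inf_le_left hsub)).trans (hih.trans (Nat.mul_le_mul le_rfl ?_))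
        exact card_le_of_le (inf_le_inf_left _ (Subgroup.lowerCentralSeries_antitone _ (by omega)))
      obtain ⟨a, ha, ha'⟩ := SetLike.not_le_iff_exists.mp hsub
      obtain ⟨hp1, hp2'⟩ := pow_lcs hG hC hp2 hx hn (n - 1) j (by omega) h1 a ha.2
      have haF : a ^ p ∈ F ⊓ 𝓛 (j + (p - 1)) :=
        ⟨⟨⟨a, ha.1⟩ ^ p, PGroupsBasic.pow_mem_frattini (hP.to_subgroup H) _, rfl⟩, hp1⟩
      have hle : (F ⊓ 𝓛 (j + p) : Subgroup G) ≤ F ⊓ 𝓛 (j + (p - 1)) :=
        inf_le_inf_left _ (Subgroup.lowerCentralSeries_antitone _ (by omega))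
      have hcard : Nat.card (F ⊓ 𝓛 (j + p) : Subgroup G) * p ≤
          Nat.card (F ⊓ 𝓛 (j + (p - 1)) : Subgroup G) := by
        obtain ⟨u, hu⟩ := IsPGroup.iff_card.mp (hP.to_subgroup (F ⊓ 𝓛 (j + p)))
        obtain ⟨v, hv⟩ := IsPGroup.iff_card.mp (hP.to_subgroup (F ⊓ 𝓛 (j + (p - 1))))
        have hlt := lt_of_le_of_ne (card_le_of_le hle) fun e =>
          hp2' ha' (by omega) ((eq_of_le_of_card_ge hle e.ge).ge haF).2
        rw [hu, hv] at hlt ⊢
        rw [← pow_succ]
        exact Nat.pow_le_pow_right hp.out.pos ((Nat.pow_lt_pow_iff_right hp.out.one_lt).mp hlt)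
      have hrel : (𝓛 (j + 1)).relIndex (H ⊓ 𝓛 j) ≤ p := by
        refine (relIndex_le_of_le_right inf_le_right (index_ne_zero_of_finite)).trans ?_
        refine Nat.le_of_mul_le_mul_left ?_
          (Nat.card_pos (α := (𝓛 (j + 1) : Subgroup G)))
        have h := relIndex_mul_relIndex (⊥ : Subgroup G) _ _ bot_le
          (Subgroup.lowerCentralSeries_antitone (⊤ : Subgroup G) (Nat.le_succ j))
        simp only [relIndex_bot_left, Nat.succ_eq_add_one] at h
        rw [h, card_lcs hG hC hn h1 (by omega), card_lcs hG hC hn (by omega) (by omega),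
          ← pow_succ, show n - 1 - (j + 1) + 1 = n - 1 - j by omega]
      have hsplit : Nat.card (H ⊓ 𝓛 j : Subgroup G) =
          Nat.card (H ⊓ 𝓛 (j + 1) : Subgroup G) * (𝓛 (j + 1)).relIndex (H ⊓ 𝓛 j) := by
        have h := relIndex_mul_relIndex (⊥ : Subgroup G) _ _ bot_le
          (inf_le_right : 𝓛 (j + 1) ⊓ (H ⊓ 𝓛 j) ≤ H ⊓ 𝓛 j)
        rw [inf_relIndex_right, relIndex_bot_left, relIndex_bot_left] at h
        rw [← h, show (𝓛 (j + 1) ⊓ (H ⊓ 𝓛 j) : Subgroup G) = H ⊓ 𝓛 (j + 1) by
          rw [inf_left_comm, inf_eq_left.mpr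
            (Subgroup.lowerCentralSeries_antitone (⊤ : Subgroup G) (Nat.le_succ j))]]
      rw [hsplit]
      calc Nat.card (H ⊓ 𝓛 (j + 1) : Subgroup G) * (𝓛 (j + 1)).relIndex (H ⊓ 𝓛 j)
          ≤ p ^ (p - 1) * Nat.card (F ⊓ 𝓛 (j + p) : Subgroup G) * p := Nat.mul_le_mul hih hrel
        _ ≤ p ^ (p - 1) * Nat.card (F ⊓ 𝓛 (j + (p - 1)) : Subgroup G) := by
          rw [mul_assoc]
          exact Nat.mul_le_mul le_rfl hcard
  have h := key (n - 1) 1 le_rfl (by omega)
  rw [inf_eq_left.mpr hH] at h
  have h2 : Nat.card H ≤ p ^ (p - 1) * Nat.card F :=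
    h.trans (Nat.mul_le_mul le_rfl (card_le_of_le inf_le_left))
  rw [← card_mul_index (frattini H), mul_comm] at h2
  refine Nat.le_of_mul_le_mul_right ?_ (Nat.card_pos (α := frattini H))
  rwa [show Nat.card F = Nat.card (frattini H) from
    card_map_of_injective H.subtype_injective] at h2

/-- Every subgroup is generated by at most `p` elements. -/
theorem exists_small_generators (hp2 : p ≠ 2) (hx : x ^ p = 1) (H : Subgroup G) :
    ∃ T : Finset G, T.card ≤ p ∧ closure (T : Set G) = H := by
  classical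
  have hP : IsPGroup p G := IsPGroup.of_card hG
  have h2n := two_le hG hC
  have hp3 : 3 ≤ p := by have := hp.out.two_le; omega
  by_cases hn : n = 2
  · subst hn
    obtain ⟨T, hT, hTH⟩ := exists_gens (hP.to_subgroup H) (k := 2)
      (le_trans (Nat.le_of_dvd Nat.card_pos (index_dvd_card _)) (hG ▸ card_le_card_group H))
    exact ⟨T, by omega, hTH⟩
  have hn : 3 ≤ n := by omega
  have hidx : (𝓛 1 : Subgroup G).index = p ^ 2 := by
    have h := card_mul_index (𝓛 1 : Subgroup G)
    rw [card_lcs hG hC hn le_rfl (by omega), hG,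
      show p ^ n = p ^ (n - 1 - 1) * p ^ 2 by rw [← pow_add]; congr 1; omega] at h
    exact Nat.eq_of_mul_eq_mul_left (pow_pos hp.out.pos _) h
  have hfr : (𝓛 1 : Subgroup G) ≤ frattini G := PGroupsBasic.commutator_le_frattini hP
  by_cases htop : H ⊔ 𝓛 1 = ⊤
  · have hH : H = ⊤ := frattini_nongenerating (top_le_iff.mp (htop.ge.trans (sup_le_sup_left hfr H)))
    subst hH
    obtain ⟨T, -, hT, hTt⟩ := PGroupsBasic.exists_basis_subset hP
      (@Finset.univ G (Fintype.ofFinite G)) (by simp)
    refine ⟨T, ?_, hTt⟩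
    have h1 : (frattini G).index ≤ p ^ 2 :=
      hidx ▸ Nat.le_of_dvd (Nat.pos_of_ne_zero index_ne_zero_of_finite) (index_dvd_of_le hfr)
    rw [← hT] at h1
    have := (Nat.pow_le_pow_iff_right hp.out.one_lt).mp h1
    omega
  obtain ⟨T, hT, hTH⟩ := exists_gens (hP.to_subgroup (H ⊓ 𝓛 1 : Subgroup G))
    (index_frattini_le hG hC hp2 hx hn (inf_le_right : H ⊓ 𝓛 1 ≤ 𝓛 1))
  by_cases hle : H ≤ 𝓛 1
  · exact ⟨T, by omega, hTH.trans (inf_eq_left.mpr hle)⟩
  obtain ⟨h, hhH, hhL⟩ := SetLike.not_le_iff_exists.mp hle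
  refine ⟨insert h T, (Finset.card_insert_le h T).trans (by omega), ?_⟩
  rw [Finset.coe_insert, Set.insert_eq, Subgroup.closure_union, hTH, ← zpowers_eq_closure]
  have hprime : (H ⊓ 𝓛 1).relIndex H = p := by
    rw [inf_comm, inf_relIndex_right, ← relIndex_sup_right]
    have h1 := relIndex_mul_index (le_sup_right : 𝓛 1 ≤ H ⊔ 𝓛 1)
    rw [hidx] at h1
    obtain ⟨i, hi, he⟩ := (Nat.dvd_prime_pow hp.out).mp (h1 ▸ dvd_mul_right _ _ : _ ∣ p ^ 2)
    rw [he] at h1 ⊢
    match i, hi with
    | 0, _ =>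
      rw [relIndex_sup_right] at he
      exact absurd (relIndex_eq_one.mp (he.trans (pow_zero p))) hle
    | 1, _ => exact pow_one p
    | 2, _ =>
      exact absurd (index_eq_one.mp ((Nat.mul_eq_left (pow_ne_zero 2 hp.out.ne_zero)).mp h1)) htop
  refine le_antisymm (sup_le (zpowers_le.mpr hhH) inf_le_left) ?_
  have h1 := relIndex_mul_relIndex _ _ _ (le_sup_right : H ⊓ 𝓛 1 ≤ zpowers h ⊔ H ⊓ 𝓛 1)
    (sup_le (zpowers_le.mpr hhH) inf_le_left : zpowers h ⊔ H ⊓ 𝓛 1 ≤ H)
  rw [hprime] at h1
  obtain h2 | h2 := (Nat.dvd_prime hp.out).mp (h1 ▸ dvd_mul_right _ _ :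
    (H ⊓ 𝓛 1).relIndex (zpowers h ⊔ H ⊓ 𝓛 1) ∣ p)
  · exact absurd ((relIndex_eq_one.mp h2) (le_sup_left (b := H ⊓ 𝓛 1) (mem_zpowers h))).2 hhL
  · rw [h2, Nat.mul_eq_left hp.out.ne_zero] at h1
    exact relIndex_eq_one.mp h1

end

end Cfsg.Agent.PearlMaxClass
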