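import Mathlib
import Cfsg.Agent.S3806
import Cfsg.Agent.Lib.PearlMaxClass
import Cfsg.Agent.Lib.PGroupsRegular

/-!
Blackburn's two-step centraliser theorem for `p`-groups of maximal class, `p` odd: for `n ≥ p + 2`
all two-step centralisers coincide; uniform elements; `p`-th powers climb `p - 1` steps.
-/

open Subgroup
open scoped commutatorElement

namespace Cfsg.Agent.Blackburn20

open PGroupsHallPetrescu (Gf Gf_antitone commutator_mem_Gf)
open S3806 (Cmod mem_Cmod comm_mem_iff)

variable {X : Type*} [Group X] [Finite X] {p : ℕ} [hp : Fact p.Prime]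

local notation "𝓛" => Subgroup.lowerCentralSeries (⊤ : Subgroup _)

/-- Two-step centraliser. -/
def Ct (X : Type*) [Group X] (i : ℕ) : Subgroup X := Cmod (Gf X i) (Gf X (i + 2))

/-- An element outside all two-step centralisers. -/
def IsUniform (n : ℕ) (s : X) : Prop := s ∉ Gf X 2 ∧ ∀ i, 2 ≤ i → i + 2 ≤ n → s ∉ Ct X i

theorem mem_Ct {i : ℕ} {w : X} : w ∈ Ct X i ↔ ∀ z ∈ Gf X i, ⁅z, w⁆ ∈ Gf X (i + 2) := mem_Cmod

theorem gf_two_le_Ct (i : ℕ) : Gf X 2 ≤ Ct X i := fun _ hw =>
  mem_Ct.mpr fun _ hz => commutator_mem_Gf hz hw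

theorem exists_notMem_of_le {n : ℕ} (hX : Nat.card X = p ^ n) {ι : Type*} (s : Finset ι)
    (D : ι → Subgroup X) (hD : ∀ i ∈ s, D i ≠ ⊤) (hs : s.card ≤ p) : ∃ w : X, ∀ i ∈ s, w ∉ D i := by
  classical
  have := Fintype.ofFinite X
  rcases s.eq_empty_or_nonempty with rfl | ⟨j, hj⟩
  · exact ⟨1, by simp⟩
  by_contra hcon
  push Not at hcon
  have hle : (Finset.univ : Finset X).erase 1 ⊆
      s.biUnion fun i => (D i : Set X).toFinset.erase 1 := by
    intro x hx
    obtain ⟨i, hi, hxi⟩ := hcon x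
    simp only [Finset.mem_biUnion, Finset.mem_erase, Set.mem_toFinset, SetLike.mem_coe]
    exact ⟨i, hi, (Finset.mem_erase.mp hx).1, hxi⟩
  have h1 := (Finset.card_le_card hle).trans Finset.card_biUnion_le
  have h2 : ∀ i ∈ s, p * ((D i : Set X).toFinset.erase 1).card + p ≤ p ^ n := by
    intro i hi
    have hc : (D i : Set X).toFinset.card = Nat.card (D i) := by
      rw [Set.toFinset_card, Nat.card_eq_fintype_card]; rfl
    have h1m : (1 : X) ∈ (D i : Set X).toFinset := by simp [one_mem]
    have he := Finset.card_erase_add_one h1m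
    calc p * ((D i : Set X).toFinset.erase 1).card + p
        = p * Nat.card (D i) := by rw [← hc, ← he]; ring
      _ ≤ p ^ n := by
        rw [← hX, ← card_mul_index (D i), mul_comm]
        refine Nat.mul_le_mul le_rfl ?_
        obtain ⟨k, hk⟩ := (IsPGroup.of_card hX).index (D i)
        rw [hk]
        refine Nat.le_self_pow ?_ p
        rintro rfl
        exact hD i hi (index_eq_one.mp (by simpa using hk))
  have h3 := Finset.sum_le_sum h2
  rw [Finset.sum_add_distrib, ← Finset.mul_sum, Finset.sum_const, Finset.sum_const, smul_eq_mul,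
    smul_eq_mul] at h3
  rw [Finset.card_erase_of_mem (Finset.mem_univ _), Finset.card_univ, ← Nat.card_eq_fintype_card,
    hX] at h1
  have h4 := Nat.mul_le_mul (le_refl p) h1
  have hpn : 1 ≤ p ^ n := pow_pos hp.out.pos n
  have h5 : p * (p ^ n - 1) + s.card * p ≤ s.card * p ^ n := by omega
  obtain ⟨m, hm⟩ : ∃ m, p ^ n = m + 1 := ⟨p ^ n - 1, by omega⟩
  rw [hm, Nat.add_sub_cancel, mul_add, mul_one] at h5
  have hs1 : 1 ≤ s.card := Finset.card_pos.mpr ⟨j, hj⟩
  have hp2 := hp.out.two_le
  nlinarith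

variable {n : ℕ} (hX : Nat.card X = p ^ n) (hc : Group.nilpotencyClass X = n - 1)

include hX hc

theorem Ct_ne_top {i : ℕ} (h1 : 1 ≤ i) (h : i + 2 ≤ n) : Ct X i ≠ ⊤ := by
  intro e
  refine absurd ?_ (S3806.gf_lt hX hc (i := i + 1) (by omega) (by omega)).not_ge
  rw [S3806.gf_succ h1]
  exact commutator_le.mpr fun a ha b _ => mem_Ct.mp (e ▸ mem_top b) a ha

/-- One exact element decides membership in a two-step centraliser. -/
theorem mem_Ct_of_exact {i : ℕ} (h1 : 2 ≤ i) (hi : i + 1 ≤ n) {w a : X} (ha : a ∈ Gf X i)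
    (ha' : a ∉ Gf X (i + 1)) (h : ⁅a, w⁆ ∈ Gf X (i + 2)) : w ∈ Ct X i := by
  refine mem_Ct.mpr fun z hz => (comm_mem_iff _ _ _).mpr (mem_centralizer_singleton_iff.mp
    (S3806.eq_of_mem_of_notMem hX hc (by omega) h1 hi
      (K := (centralizer {QuotientGroup.mk' (Gf X (i + 2)) w}).comap
        (QuotientGroup.mk' (Gf X (i + 2)))) ?_ (a := a) ?_ ha ha' hz))
  · intro u hu
    refine mem_centralizer_singleton_iff.mpr ((comm_mem_iff _ _ _).mp ?_)
    exact commutator_mem_Gf (i := i + 1) (j := 1) hu (mem_top w)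
  · exact mem_centralizer_singleton_iff.mpr ((comm_mem_iff _ _ _).mp h)

theorem index_Ct {i : ℕ} (h1 : 2 ≤ i) (hi : i + 2 ≤ n) : (Ct X i).index = p := by
  classical
  obtain ⟨a, ha, ha'⟩ := SetLike.exists_of_lt (S3806.gf_lt hX hc (i := i) (by omega) (by omega))
  let q := QuotientGroup.mk' (Gf X (i + 2))
  let T : Subgroup (X ⧸ Gf X (i + 2)) := (Gf X (i + 1)).map q
  have hcen : ∀ t ∈ T, ∀ y, y * t = t * y := by
    rintro _ ⟨t, ht, rfl⟩ y
    obtain ⟨y, rfl⟩ := QuotientGroup.mk'_surjective _ y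
    exact ((comm_mem_iff _ _ _).mp (commutator_mem_Gf (i := i + 1) (j := 1) ht (mem_top y))).symm
  have hmem : ∀ w, q ⁅a, w⁆ ∈ T := fun w =>
    mem_map_of_mem q (commutator_mem_Gf (i := i) (j := 1) ha (mem_top w))
  let f : X →* T := MonoidHom.mk' (fun w => ⟨q ⁅a, w⁆, hmem w⟩) fun u v => Subtype.ext (by
    show q ⁅a, u * v⁆ = q ⁅a, u⁆ * q ⁅a, v⁆
    have e : ⁅a, u * v⁆ = ⁅a, u⁆ * (u * ⁅a, v⁆ * u⁻¹) := by
      simp [commutatorElement_def, mul_assoc]
    rw [e, map_mul, map_mul q (u * ⁅a, v⁆), map_mul, hcen _ (hmem v) (q u), map_inv,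
      mul_inv_cancel_right])
  have hker : f.ker ≤ Ct X i := fun w hw => by
    have h : q ⁅a, w⁆ = 1 := congrArg Subtype.val (MonoidHom.mem_ker.mp hw)
    exact mem_Ct_of_exact hX hc h1 (by omega) ha ha' ((QuotientGroup.eq_one_iff _).mp h)
  have hT : Nat.card T = p := by
    have h := card_map_of_injective (f := (Gf X (i + 2)).subtype)
      (K := (⊤ : Subgroup (Gf X (i + 2)))) (Subgroup.subtype_injective _)
    clear h
    have h1' := card_mul_index ((Gf X (i + 2)).subgroupOf (Gf X (i + 1)))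
    rw [Nat.card_congr (subgroupOfEquivOfLe (Gf_antitone (by omega : i + 1 ≤ i + 2))).toEquiv,
      S3806.card_gf hX hc (by omega) (by omega) (by omega),
      S3806.card_gf hX hc (by omega) (by omega) (by omega)] at h1'
    have hTc : Nat.card T = ((Gf X (i + 2)).subgroupOf (Gf X (i + 1))).index := by
      have e := index_ker (q.comp (Gf X (i + 1)).subtype)
      rw [← MonoidHom.comap_ker, QuotientGroup.ker_mk', MonoidHom.range_comp, range_subtype] at e
      exact e.symm
    rw [hTc]
    rw [show n - (i + 1) = (n - (i + 2)) + 1 by omega, pow_succ] at h1'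
    exact Nat.eq_of_mul_eq_mul_left (pow_pos hp.out.pos _) h1'
  have h2 : (Ct X i).index ∣ p := by
    refine (index_dvd_of_le hker).trans ?_
    rw [index_ker, ← hT]
    exact card_subgroup_dvd_card _
  rcases (Nat.dvd_prime hp.out).mp h2 with h | h
  · exact absurd (index_eq_one.mp h) (Ct_ne_top hX hc (by omega) hi)
  · exact h

theorem Ct_eq_of_le {i j : ℕ} (h1 : 2 ≤ i) (hi : i + 2 ≤ n) (h1' : 2 ≤ j) (hj : j + 2 ≤ n)
    (h : Ct X i ≤ Ct X j) : Ct X i = Ct X j := by
  refine eq_of_le_of_card_ge h (le_of_eq ?_)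
  have a := card_mul_index (Ct X i)
  have b := card_mul_index (Ct X j)
  rw [index_Ct hX hc h1 hi] at a
  rw [index_Ct hX hc h1' hj] at b
  exact Nat.eq_of_mul_eq_mul_right hp.out.pos (b.trans a.symm)

theorem card_centralizer_uniform (h4 : 4 ≤ n) {s : X} (hs : IsUniform n s) :
    Nat.card (centralizer ({s} : Set X)) = p ^ 2 := by
  have hP : IsPGroup p X := IsPGroup.of_card hX
  have hinf : centralizer ({s} : Set X) ⊓ Gf X 2 = Gf X (n - 1) := by
    refine le_antisymm ?_ (le_inf (fun z hz => mem_centralizer_singleton_iff.mpr ?_)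
      (Gf_antitone (by omega)))
    · have key : ∀ d i, 2 ≤ i → i + d = n - 1 → centralizer ({s} : Set X) ⊓ Gf X i ≤ Gf X (n - 1) := by
        intro d
        induction d with
        | zero => intro i _ hi; rw [show n - 1 = i by omega]; exact inf_le_right
        | succ d ih =>
          intro i h1 hi z hz
          by_cases hz' : z ∈ Gf X (i + 1)
          · exact ih (i + 1) (by omega) (by omega) ⟨hz.1, hz'⟩
          refine absurd (mem_Ct_of_exact hX hc h1 (by omega) hz.2 hz' ?_) (hs.2 i h1 (by omega))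
          rw [commutatorElement_eq_one_iff_mul_comm.mpr (mem_centralizer_singleton_iff.mp hz.1)]
          exact one_mem _
      exact key (n - 3) 2 le_rfl (by omega)
    · have h : ⁅z, s⁆ ∈ Gf X (n - 1 + 1) := commutator_mem_Gf hz (mem_top s)
      rw [S3806.gf_bot hX hc (by omega), mem_bot] at h
      exact commutatorElement_eq_one_iff_mul_comm.mp h
  obtain ⟨u, hu⟩ := IsPGroup.iff_card.mp (hP.to_subgroup (centralizer ({s} : Set X)))
  have hs2 : s ∉ centralizer ({s} : Set X) ⊓ Gf X 2 := fun h => hs.1 h.2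
  have hlow : p < p ^ u := by
    rw [← hu]
    have h : centralizer ({s} : Set X) ⊓ Gf X 2 < centralizer ({s} : Set X) :=
      lt_of_le_of_ne inf_le_left fun e => hs2 (e.ge (mem_centralizer_singleton_iff.mpr rfl))
    have := lt_of_le_of_ne (card_le_of_le h.le) fun e => h.ne (eq_of_le_of_card_ge h.le e.ge)
    rw [hinf, S3806.card_gf hX hc (by omega) (by omega) (by omega),
      show n - (n - 1) = 1 by omega, pow_one] at this
    exact this
  have hu2 : 2 ≤ u := by
    by_contra h
    have := Nat.pow_le_pow_right hp.out.pos (show u ≤ 1 by omega)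
    simp only [pow_one] at this
    omega
  have hup : p ^ u ≤ p ^ 2 := by
    by_contra hlt
    have hne : centralizer ({s} : Set X) ⊔ Gf X 2 ≠ ⊤ := by
      intro e
      have h2 : Gf X 2 = commutator X := Subgroup.top_lowerCentralSeries_one
      have h : centralizer ({s} : Set X) = ⊤ := frattini_nongenerating (top_le_iff.mp
        (e.ge.trans (sup_le_sup_left (h2 ▸ PGroupsBasic.commutator_le_frattini hP) _)))
      refine hs.2 2 le_rfl (by omega) (mem_Ct.mpr fun z _ => ?_)
      rw [commutatorElement_eq_one_iff_mul_comm.mpr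
        (mem_centralizer_singleton_iff.mp (h ▸ mem_top z))]
      exact one_mem _
    have h1 := card_mul_index ((Gf X 2).subgroupOf (centralizer ({s} : Set X)))
    rw [show Nat.card ((Gf X 2).subgroupOf (centralizer ({s} : Set X))) = p by
      rw [← inf_subgroupOf_left, hinf, Nat.card_congr (subgroupOfEquivOfLe
        (hinf ▸ inf_le_left : Gf X (n - 1) ≤ centralizer ({s} : Set X))).toEquiv,
        S3806.card_gf hX hc (by omega) (by omega) (by omega), show n - (n - 1) = 1 by omega, pow_one],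
      hu] at h1
    have h3 : (Gf X 2).relIndex (centralizer ({s} : Set X)) < p ^ 2 := by
      rw [← relIndex_sup_right]
      have h4 := relIndex_mul_index (le_sup_right : Gf X 2 ≤ centralizer ({s} : Set X) ⊔ Gf X 2)
      have h5 := card_mul_index (Gf X 2)
      rw [S3806.card_gf hX hc (by omega) le_rfl (by omega), hX,
        show p ^ n = p ^ (n - 2) * p ^ 2 by rw [← pow_add]; congr 1; omega] at h5
      rw [Nat.eq_of_mul_eq_mul_left (pow_pos hp.out.pos _) h5] at h4
      rw [← h4]
      refine lt_mul_of_one_lt_right (Nat.pos_of_ne_zero fun h0 => ?_) ?_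
      · rw [h0, zero_mul] at h4; exact absurd h4.symm (pow_ne_zero _ hp.out.ne_zero)
      · have := one_lt_index_of_ne_top hne
        exact this
    rw [relIndex] at h3
    have : p * ((Gf X 2).subgroupOf (centralizer ({s} : Set X))).index < p * p ^ 2 :=
      Nat.mul_lt_mul_of_pos_left h3 hp.out.pos
    rw [h1, ← pow_succ'] at this
    have := (Nat.pow_lt_pow_iff_right hp.out.one_lt).mp this
    exact hlt (Nat.pow_le_pow_right hp.out.pos (by omega))
  rw [hu, show u = 2 by
    have := (Nat.pow_le_pow_iff_right hp.out.one_lt).mp hup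
    omega]

theorem pow_mem_center (h4 : 4 ≤ n) {s : X} (hs : IsUniform n s) : s ^ p ∈ center X := by
  have h2 := S3806.pow_mem_gf_two hX hc (by omega) s
  refine mem_center_iff.mpr fun g => ?_
  have hC := card_centralizer_uniform hX hc h4 hs
  have hmem : s ^ p ∈ centralizer ({s} : Set X) ⊓ 𝓛 1 :=
    ⟨mem_centralizer_singleton_iff.mpr ((Commute.refl s).pow_left p).eq, h2⟩
  rw [PearlMaxClass.centralizer_inf hX hC (by omega)] at hmem
  have h : ⁅s ^ p, g⁆ ∈ Gf X n := by
    rw [show n = (n - 1) + 1 by omega]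
    exact commutator_mem_Gf hmem (mem_top g)
  rw [S3806.gf_bot hX hc le_rfl, mem_bot, commutatorElement_eq_one_iff_mul_comm] at h
  exact h.symm

/-- `p`-th powers climb exactly `p - 1` steps, given a uniform element. -/
theorem pow_climb (hp2 : p ≠ 2) (h4 : 4 ≤ n) {s : X} (hs : IsUniform n s) {j : ℕ} (h1 : 2 ≤ j)
    {a : X} (ha : a ∈ Gf X j) :
    a ^ p ∈ Gf X (j + (p - 1)) ∧
      (a ∉ Gf X (j + 1) → j + p ≤ n → a ^ p ∉ Gf X (j + p)) := by
  obtain ⟨j, rfl⟩ : ∃ i, j = i + 1 := ⟨j - 1, by omega⟩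
  have hp1 := hp.out.two_le
  obtain ⟨A, B⟩ := PearlMaxClass.pow_lcs_central hX (card_centralizer_uniform hX hc h4 hs) hp2
    (pow_mem_center hX hc h4 hs) (by omega) n j (by omega) (by omega) a ha
  refine ⟨?_, fun ha' hj => ?_⟩
  · rw [show Gf X (j + 1 + (p - 1)) = 𝓛 (j + (p - 1)) from by
      unfold Gf; congr 1; omega]
    exact A
  · rw [show Gf X (j + 1 + p) = 𝓛 (j + p) from by
      unfold Gf; congr 1; omega]
    exact B ha' (by omega)

/-- `(y w) ^ p = y ^ p w ^ p` modulo `N` when the Hall–Petrescu terms lie in `N`. -/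
theorem hall_mod (h2 : 2 ≤ n) {i : ℕ} (h1 : 1 ≤ i) {y w : X} (hy : y ∈ Gf X i) (N : Subgroup X)
    [N.Normal] (hpow : ∀ z ∈ Gf X (i + 1), z ^ p ∈ N)
    (htop : ∀ z ∈ (Gf (closure ({y, w} : Set X)) p), (z : X) ∈ N) :
    QuotientGroup.mk' N ((y * w) ^ p) = QuotientGroup.mk' N (y ^ p) * QuotientGroup.mk' N (w ^ p) := by
  let H := closure ({y, w} : Set X)
  have hmap : ∀ k, 2 ≤ k → ∀ z ∈ Gf H k, (z : X) ∈ Gf X (i + (k - 1)) := fun k hk z hz => by
    have h := S3806.lcs_closure_le hX hc (i := i) h1 (w := w) hy (k - 2) (mem_map_of_mem _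
      (show z ∈ (⊤ : Subgroup H).lowerCentralSeries (k - 2 + 1) by
        rw [show k - 2 + 1 = k - 1 by omega]; exact hz))
    rwa [show i + (k - 2 + 1) = i + (k - 1) by omega] at h
  have hbot : Gf H (n + 2) = ⊥ := by
    rw [eq_bot_iff]
    intro z hz
    have h := hmap (n + 2) (by omega) z hz
    rw [S3806.gf_bot hX hc (by omega), mem_bot] at h
    exact mem_bot.mpr (Subtype.ext h)
  obtain ⟨a, ha, ha0, ha1, hHP⟩ := PGroupsHallPetrescu.hall_petrescu
    (G := H) ⟨y, subset_closure (Or.inl rfl)⟩ ⟨w, subset_closure (Or.inr rfl)⟩ hbot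
  have h := congrArg (fun z : H => QuotientGroup.mk' N (z : X)) (hHP p)
  have hprod : (QuotientGroup.mk' N) (((List.range (n + 2)).map fun k => a k ^ p.choose k).prod : H)
      = 1 := by
    rw [← Subgroup.coe_subtype, ← MonoidHom.comp_apply, map_list_prod]
    refine List.prod_eq_one fun u hu => ?_
    simp only [List.map_map, List.mem_map, Function.comp_apply] at hu
    obtain ⟨k, -, rfl⟩ := hu
    rw [MonoidHom.comp_apply]
    refine (QuotientGroup.eq_one_iff _).mpr ?_
    rw [Subgroup.coe_subtype, SubmonoidClass.coe_pow]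
    rcases Nat.lt_or_ge k 2 with h' | h'
    · obtain rfl | rfl : k = 0 ∨ k = 1 := by omega
      · rw [ha0]; simp [one_mem]
      · rw [ha1]; simp [one_mem]
    rcases Nat.lt_trichotomy k p with h'' | h'' | h''
    · obtain ⟨c, hc'⟩ := hp.out.dvd_choose_self (show k ≠ 0 by omega) h''
      rw [hc', pow_mul]
      exact pow_mem (hpow _ (Gf_antitone (show i + 1 ≤ i + (k - 1) by omega) (hmap k h' _ (ha k)))) c
    · subst h''
      simpa using htop _ (ha k)
    · rw [Nat.choose_eq_zero_of_lt h'', pow_zero]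
      exact one_mem _
  simp only [Subgroup.coe_mul, SubmonoidClass.coe_pow, map_mul] at h
  rw [hprod, mul_one] at h
  simp only [map_pow] at h ⊢
  rw [map_mul]
  exact h

theorem gen_of_notMem (hn : 3 ≤ n) {s a : X} (hs : s ∉ Gf X 2)
    (ha : a ∉ zpowers s ⊔ Gf X 2) : closure ({s, a} : Set X) = ⊤ := by
  have hP : IsPGroup p X := IsPGroup.of_card hX
  have h2 : Gf X 2 = commutator X := Subgroup.top_lowerCentralSeries_one
  refine frattini_nongenerating ?_
  refine top_le_iff.mp (le_trans ?_ (sup_le_sup_left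
    (h2 ▸ PGroupsBasic.commutator_le_frattini hP) _))
  obtain ⟨j, hj⟩ := hP.index (closure ({s, a} : Set X) ⊔ Gf X 2)
  obtain ⟨k, hk⟩ := hP.index (zpowers s ⊔ Gf X 2)
  have h5 := card_mul_index (Gf X 2)
  rw [S3806.card_gf hX hc hn le_rfl (by omega), hX,
    show p ^ n = p ^ (n - 2) * p ^ 2 by rw [← pow_add]; congr 1; omega] at h5
  have hidx := Nat.eq_of_mul_eq_mul_left (pow_pos hp.out.pos _) h5
  have lt1 : Gf X 2 < zpowers s ⊔ Gf X 2 :=
    lt_of_le_of_ne le_sup_right fun e => hs (e ▸ mem_sup_left (mem_zpowers s))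
  have lt2 : zpowers s ⊔ Gf X 2 < closure ({s, a} : Set X) ⊔ Gf X 2 := by
    refine lt_of_le_of_ne (sup_le_sup_right (zpowers_le.mpr (Subgroup.subset_closure (Set.mem_insert _ _))) _)
      fun e => ha (e ▸ mem_sup_left (Subgroup.subset_closure (Set.mem_insert_of_mem _ rfl)))
  have a1 := index_strictAnti lt1
  have a2 := index_strictAnti lt2
  rw [hidx, hk] at a1
  rw [hk, hj] at a2
  have := (Nat.pow_lt_pow_iff_right hp.out.one_lt).mp a1
  have := (Nat.pow_lt_pow_iff_right hp.out.one_lt).mp a2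
  obtain rfl : j = 0 := by omega
  rw [pow_zero] at hj
  exact (index_eq_one.mp hj).ge

theorem commutator_notMem (hn : 4 ≤ n) {s a : X} (h : closure ({s, a} : Set X) = ⊤) :
    ⁅s, a⁆ ∉ Gf X 3 := fun hsa => by
  have h1 := PGroupsRegular.commutator_closure_pair_le (W := Gf X 3) (a := s) (b := a)
    (fun k _ w hw => Normal.conj_mem inferInstance w hw k) hsa
  rw [h] at h1
  refine absurd ?_ (S3806.gf_lt hX hc (i := 2) (by omega) (by omega)).not_ge
  have h2 : Gf X 2 = commutator X := Subgroup.top_lowerCentralSeries_one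
  rw [h2, _root_.commutator_def]
  exact h1

/-- An element of a two-step centraliser lying in `⟨s⟩ G₂`, `s` uniform, lies in `G₂`. -/
theorem mem_gf_two_of_mem (hn : 4 ≤ n) {s : X} (hs : IsUniform n s) {i : ℕ} (h1 : 2 ≤ i)
    (hi : i + 2 ≤ n) {b : X} (hb : b ∈ Ct X i) (hbs : b ∈ zpowers s ⊔ Gf X 2) : b ∈ Gf X 2 := by
  obtain ⟨x, hx, t, ht, rfl⟩ := Subgroup.mem_sup_of_normal_right.mp hbs
  obtain ⟨k, rfl⟩ := mem_zpowers_iff.mp hx
  refine mul_mem ?_ ht
  have hk : s ^ k ∈ Ct X i := by
    simpa using mul_mem hb (inv_mem (gf_two_le_Ct i ht))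
  by_cases hdvd : (p : ℤ) ∣ k
  · obtain ⟨m, rfl⟩ := hdvd
    rw [zpow_mul, zpow_natCast]
    exact zpow_mem (S3806.pow_mem_gf_two hX hc (by omega) s) m
  refine absurd ?_ (hs.2 i h1 hi)
  obtain ⟨l, hl⟩ := IsPGroup.iff_orderOf.mp (IsPGroup.of_card hX) s
  have hcop : IsCoprime k ((orderOf s : ℕ) : ℤ) := by
    rw [hl, Nat.cast_pow]
    exact (((Nat.prime_iff_prime_int.mp hp.out).coprime_iff_not_dvd).mpr hdvd).symm.pow_right
  obtain ⟨u, v, huv⟩ := hcop
  have e : s = (s ^ k) ^ u := by
    have h' : s ^ (u * k + v * ((orderOf s : ℕ) : ℤ)) = s := by rw [huv, zpow_one]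
    rw [zpow_add, zpow_mul' s v, zpow_natCast, pow_orderOf_eq_one, one_zpow, mul_one] at h'
    rw [← zpow_mul, mul_comm]
    exact h'.symm
  rw [e]
  exact zpow_mem hk u

theorem exists_uniform_of_few (hn : 4 ≤ n) (T : Finset ℕ) (hT : T.card + 1 ≤ p)
    (hTr : ∀ i ∈ T, 2 ≤ i ∧ i + 2 ≤ n)
    (hcov : ∀ i, 2 ≤ i → i + 2 ≤ n → ∃ j ∈ T, Ct X j = Ct X i) (D : Subgroup X) (hD : D ≠ ⊤)
    (h2D : Gf X 2 ≤ D) : ∃ s : X, IsUniform n s ∧ s ∉ D := by
  classical
  obtain ⟨s, hs⟩ := exists_notMem_of_le hX (insert 0 T) (fun i => if i = 0 then D else Ct X i)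
    (fun i hi => by
      by_cases h0 : i = 0
      · simpa [h0] using hD
      · simp only [h0, if_false]
        obtain rfl | hi := Finset.mem_insert.mp hi
        · exact absurd rfl h0
        · exact Ct_ne_top hX hc (by omega) (hTr i hi).2)
    ((Finset.card_insert_le _ _).trans hT)
  have hsD : s ∉ D := by simpa using hs 0 (Finset.mem_insert_self _ _)
  refine ⟨s, ⟨fun h => hsD (h2D h), fun i h1 hi h => ?_⟩, hsD⟩
  obtain ⟨j, hj, e⟩ := hcov i h1 hi
  have := hs j (Finset.mem_insert_of_mem hj)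
  have hj0 : j ≠ 0 := by have := (hTr j hj).1; omega
  simp only [hj0, if_false] at this
  exact this (e ▸ h)

omit hX hc in
/-- In the quotient by the centre, `Gf` and `Ct` correspond. -/
theorem map_gf {Y : Type*} [Group Y] {f : X →* Y} (hf : Function.Surjective f) (i : ℕ) :
    (Gf X i).map f = Gf Y i := by
  rw [Gf, Gf, Subgroup.map_lowerCentralSeries, ← MonoidHom.range_eq_map,
    MonoidHom.range_eq_top.mpr hf]

theorem base_eq (hn : n = p + 2) (hp2 : p ≠ 2) {i : ℕ} (h1 : 2 ≤ i) (hi : i + 2 ≤ n) :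
    Ct X i = Ct X p := by
  classical
  have hp3 : 3 ≤ p := by have := hp.out.two_le; omega
  have hP : IsPGroup p X := IsPGroup.of_card hX
  rcases eq_or_ne i p with rfl | hip
  · rfl
  refine Ct_eq_of_le hX hc h1 hi (by omega) (by omega) ?_
  have hne2 : (Gf X 2) ≠ ⊤ := fun e => by
    have := S3806.card_gf hX hc (i := 2) (by omega) le_rfl (by omega)
    rw [e, card_top, hX] at this
    have := Nat.pow_right_injective hp.out.two_le this
    omega
  obtain ⟨s, hs, -⟩ := exists_uniform_of_few hX hc (by omega) (Finset.Icc 2 p)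
    (by rw [Nat.card_Icc]; omega) (fun j hj => by rw [Finset.mem_Icc] at hj; omega)
    (fun j hj hj' => ⟨j, Finset.mem_Icc.mpr (by omega), rfl⟩) (Gf X 2) hne2 le_rfl
  have hD : zpowers s ⊔ Gf X 2 ≠ ⊤ := by
    intro e
    have h : zpowers s = ⊤ := frattini_nongenerating (top_le_iff.mp (e.ge.trans (sup_le_sup_left
      ((Subgroup.top_lowerCentralSeries_one (G := X)).le.trans
        (PGroupsBasic.commutator_le_frattini hP)) _)))
    have hC := card_centralizer_uniform hX hc (by omega) hs
    have : centralizer ({s} : Set X) = ⊤ := eq_top_iff.mpr fun g _ => by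
      obtain ⟨k, rfl⟩ := mem_zpowers_iff.mp (h ▸ mem_top g)
      exact mem_centralizer_singleton_iff.mpr ((Commute.refl s).zpow_left k).eq
    rw [this, card_top, hX] at hC
    have := Nat.pow_right_injective hp.out.two_le hC
    omega
  obtain ⟨s', hs', hs'D⟩ := exists_uniform_of_few hX hc (by omega) (Finset.Icc 2 p)
    (by rw [Nat.card_Icc]; omega) (fun j hj => by rw [Finset.mem_Icc] at hj; omega)
    (fun j hj hj' => ⟨j, Finset.mem_Icc.mpr (by omega), rfl⟩) _ hD le_sup_right
  have hgen := gen_of_notMem hX hc (by omega) hs.1 hs'D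
  -- every `p`-th power lies in `Gf p`
  have hpow : ∀ z : X, z ^ p ∈ Gf X p := by
    have hQbot : (⊤ : Subgroup (X ⧸ Gf X p)).lowerCentralSeries (p - 1) = ⊥ := by
      have h : (Gf X p).map (QuotientGroup.mk' (Gf X p)) = ⊥ :=
        (Subgroup.map_eq_bot_iff _).mpr (QuotientGroup.ker_mk' _).ge
      rw [map_gf (QuotientGroup.mk'_surjective _)] at h
      exact h
    have hR := PGroupsRegular.regAt_of_regular
      (PGroupsRegular.regular_of_class_lt (hP.to_quotient _) hQbot) 1
    let Ω := PGroupsRegular.omegaSubgroup (hP.to_quotient _) hR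
    have hmem : ∀ t, IsUniform n t → QuotientGroup.mk' (Gf X p) t ∈ Ω := fun t ht => by
      show _ ^ (p ^ 1) = 1
      rw [pow_one, ← map_pow]
      refine (QuotientGroup.eq_one_iff _).mpr ?_
      have h2 := S3806.pow_mem_gf_two hX hc (by omega) t
      have hC := card_centralizer_uniform hX hc (by omega) ht
      have hm : t ^ p ∈ centralizer ({t} : Set X) ⊓ 𝓛 1 :=
        ⟨mem_centralizer_singleton_iff.mpr ((Commute.refl t).pow_left p).eq, h2⟩
      rw [PearlMaxClass.centralizer_inf hX hC (by omega)] at hm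
      exact Gf_antitone (show p ≤ n - 1 by omega) hm
    have hle : (⊤ : Subgroup X) ≤ Ω.comap (QuotientGroup.mk' (Gf X p)) := by
      rw [← hgen, closure_le]
      rintro t (rfl | rfl)
      exacts [hmem _ hs, hmem _ hs']
    intro z
    have h : QuotientGroup.mk' (Gf X p) z ^ (p ^ 1) = 1 := hle (mem_top z)
    rw [pow_one, ← map_pow] at h
    exact (QuotientGroup.eq_one_iff _).mp h
  intro b hb
  by_contra hbp
  have hb2 : b ∉ Gf X 2 := fun h => hbp (gf_two_le_Ct p h)
  have hbD : b ∉ zpowers s ⊔ Gf X 2 := fun h => hb2 (mem_gf_two_of_mem hX hc (by omega) hs h1 hi hb h)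
  have hgb := gen_of_notMem hX hc (by omega) hs.1 hbD
  set u := ⁅s, b⁆ with hu
  have hu2 : u ∈ Gf X 2 := commutator_mem_Gf (i := 1) (j := 1) (mem_top s) (mem_top b)
  have hu3 : u ∉ Gf X 3 := commutator_notMem hX hc (by omega) hgb
  have hbc : b ^ p ∈ center X := by
    have hbp' : b ^ p ∈ Gf X (p + 1) := by
      by_contra h
      refine hbp (mem_Ct_of_exact hX hc (by omega) (by omega) (hpow b) h ?_)
      rw [commutatorElement_eq_one_iff_mul_comm.mpr ((Commute.refl b).pow_left p).eq]
      exact one_mem _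
    refine mem_center_iff.mpr fun g => ?_
    have h : ⁅b ^ p, g⁆ ∈ Gf X (p + 1 + 1) := commutator_mem_Gf hbp' (mem_top g)
    rw [S3806.gf_bot hX hc (by omega), mem_bot, commutatorElement_eq_one_iff_mul_comm] at h
    exact h.symm
  obtain ⟨hu1, hu1'⟩ := pow_climb hX hc hp2 (by omega) hs le_rfl hu2
  have hup := hu1' hu3 (by omega)
  refine hup ?_
  have hH := hall_mod hX hc (by omega) (i := 2) (by omega) (y := u) (w := b) hu2 (Gf X (2 + p))
    (fun z hz => by
      have h := (pow_climb hX hc hp2 (by omega) hs (j := 3) (by omega) hz).1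
      exact Gf_antitone (by omega) h) ?_
  · have e : u * b = s * b * s⁻¹ := by rw [hu, commutatorElement_def]; group
    rw [e, conj_pow, mem_center_iff.mp hbc s, mul_inv_cancel_right] at hH
    exact (QuotientGroup.eq_one_iff _).mp (mul_eq_right.mp hH.symm)
  · -- the top Hall–Petrescu term
    let H := closure ({u, b} : Set X)
    have hH2 : ∀ k, 2 ≤ k → ∀ z ∈ Gf H k, (z : X) ∈ Gf X (2 + (k - 1)) := fun k hk z hz => by
      have h := S3806.lcs_closure_le hX hc (i := 2) (by omega) (w := b) hu2 (k - 2)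
        (mem_map_of_mem _ (show z ∈ (⊤ : Subgroup H).lowerCentralSeries (k - 2 + 1) by
          rw [show k - 2 + 1 = k - 1 by omega]; exact hz))
      rwa [show 2 + (k - 2 + 1) = 2 + (k - 1) by omega] at h
    have hHC : H ≤ Ct X i := (closure_le _).mpr (by
      rintro t (rfl | rfl)
      exacts [gf_two_le_Ct i hu2, hb])
    have key : ∀ m, max 2 i ≤ m → (Gf H m).map H.subtype ≤ Gf X (2 + m) := by
      intro m hm
      induction m, hm using Nat.le_induction with
      | base =>
        rw [show max 2 i = i by omega]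
        rcases eq_or_ne i 2 with rfl | hi2
        · rw [Gf, show (2 : ℕ) - 1 = 0 + 1 from rfl, Subgroup.lowerCentralSeries_succ,
            Subgroup.lowerCentralSeries_zero, map_commutator, ← MonoidHom.range_eq_map, range_subtype]
          exact PGroupsRegular.commutator_closure_pair_le
            (fun k _ w hw => Normal.conj_mem inferInstance w hw k) (mem_Ct.mp hb u hu2)
        · rw [Gf, show i - 1 = i - 2 + 1 by omega, Subgroup.lowerCentralSeries_succ, map_commutator,
            ← MonoidHom.range_eq_map, range_subtype]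
          refine commutator_le.mpr fun x hx y hy => ?_
          obtain ⟨x, hx', rfl⟩ := hx
          rw [show 2 + i = i + 2 by omega]
          refine mem_Ct.mp (hHC hy) _ ?_
          have := hH2 (i - 1) (by omega) x (by
            rw [Gf, show i - 1 - 1 = i - 2 by omega]; exact hx')
          rwa [show 2 + (i - 1 - 1) = i by omega] at this
      | succ m hm ih =>
        rw [S3806.gf_succ (by omega), map_commutator, ← MonoidHom.range_eq_map, range_subtype]
        refine (commutator_mono ih le_top).trans ?_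
        rw [show 2 + (m + 1) = 2 + m + 1 by omega, ← S3806.gf_succ (by omega)]
    intro z hz
    exact key p (by omega) (mem_map_of_mem _ hz)

omit hX hc

/-- **Blackburn**: for `n ≥ p + 2` all two-step centralisers coincide. -/
theorem Ct_eq_two (hp2 : p ≠ 2) : ∀ (n : ℕ) (X : Type*) [Group X] [Finite X], Nat.card X = p ^ n →
    Group.nilpotencyClass X = n - 1 → p + 2 ≤ n →
      ∀ i, 2 ≤ i → i + 2 ≤ n → Ct X i = Ct X 2 := by
  have hp3 : 3 ≤ p := by have := hp.out.two_le; omega
  intro n
  induction n using Nat.strong_induction_on with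
  | _ n ih =>
    intro X _ _ hX hc hn i h1 hi
    rcases Nat.eq_or_lt_of_le hn with rfl | hlt
    · exact (base_eq hX hc rfl hp2 h1 hi).trans (base_eq hX hc rfl hp2 le_rfl (by omega)).symm
    obtain ⟨hZ, hQ, hQc, -⟩ := MaxClassTwo.center_of_maxClass (by omega) hX hc
    let π := QuotientGroup.mk' (center X)
    have hker : Gf X (n - 1) = center X := by
      refine eq_of_le_of_card_ge (fun z hz => mem_center_iff.mpr fun g => ?_) ?_
      · have h : ⁅z, g⁆ ∈ Gf X (n - 1 + 1) := commutator_mem_Gf hz (mem_top g)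
        rw [S3806.gf_bot hX hc (by omega), mem_bot, commutatorElement_eq_one_iff_mul_comm] at h
        exact h.symm
      · rw [hZ, S3806.card_gf hX hc (by omega) (by omega) (by omega),
          show n - (n - 1) = 1 by omega, pow_one]
    have hsurj : Function.Surjective π := QuotientGroup.mk'_surjective _
    have hcomap : ∀ j, j + 3 ≤ n → Ct X j = (Ct (X ⧸ center X) j).comap π := by
      intro j hj
      ext w
      rw [mem_comap, mem_Ct, mem_Ct, ← map_gf hsurj, ← map_gf hsurj]
      constructor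
      · rintro h _ ⟨z, hz, rfl⟩
        rw [← map_commutatorElement]
        exact mem_map_of_mem π (h z hz)
      · intro h z hz
        obtain ⟨t, ht, e⟩ := h _ (mem_map_of_mem π hz)
        rw [← map_commutatorElement, QuotientGroup.mk'_eq_mk'] at e
        obtain ⟨c, hc', e⟩ := e
        rw [← e]
        exact mul_mem ht (Gf_antitone (show j + 2 ≤ n - 1 by omega) (hker.ge hc'))
    have low : ∀ j, 2 ≤ j → j + 3 ≤ n → Ct X j = Ct X 2 := fun j hj hj' => by
      rw [hcomap j hj', hcomap 2 (by omega),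
        ih (n - 1) (by omega) (X ⧸ center X) hQ (by rw [hQc]; omega) (by omega) j hj (by omega)]
    by_cases hin : i + 3 ≤ n
    · exact low i h1 hin
    obtain rfl : i = n - 2 := by omega
    refine (Ct_eq_of_le hX hc le_rfl (by omega) h1 hi ?_).symm
    intro a ha
    obtain ⟨s, hs, -⟩ := exists_uniform_of_few hX hc (by omega) {2, n - 2}
      ((Nat.succ_le_succ (Finset.card_le_two)).trans hp3)
      (fun j hj => by simp only [Finset.mem_insert, Finset.mem_singleton] at hj; omega)
      (fun j hj hj' => by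
        by_cases h : j + 3 ≤ n
        · exact ⟨2, by simp, (low j hj h).symm⟩
        · exact ⟨n - 2, by simp, congrArg _ (by omega)⟩) (Gf X 2) (fun e => by
        have := S3806.card_gf hX hc (i := 2) (by omega) le_rfl (by omega)
        rw [e, card_top, hX] at this
        have := Nat.pow_right_injective hp.out.two_le this
        omega) le_rfl
    obtain ⟨w, hw, hw'⟩ := SetLike.exists_of_lt
      (S3806.gf_lt hX hc (i := n - p - 1) (by omega) (by omega))
    obtain ⟨hwp, hwp'⟩ := pow_climb hX hc hp2 (by omega) hs (j := n - p - 1) (by omega) hw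
    have hwp2 := hwp' hw' (by omega)
    rw [show n - p - 1 + (p - 1) = n - 2 by omega] at hwp
    rw [show n - p - 1 + p = n - 1 by omega] at hwp2
    refine mem_Ct_of_exact hX hc h1 (by omega) hwp
      (by rwa [show n - 2 + 1 = n - 1 by omega]) ?_
    have hy : ⁅a, w⁆ ∈ Gf X (n - p - 1 + 2) := by
      rw [← commutatorElement_inv]
      refine inv_mem (mem_Ct.mp ?_ w hw)
      rw [low (n - p - 1) (by omega) (by omega)]
      exact ha
    have hbot : ∀ {j}, n ≤ j → ∀ z ∈ Gf X j, z ∈ (⊥ : Subgroup X) := fun hj z hz => by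
      rwa [S3806.gf_bot hX hc hj] at hz
    have hH := hall_mod hX hc (by omega) (i := n - p - 1 + 2) (by omega) (w := w) hy ⊥
      (fun z hz => hbot (by omega)
        _ (pow_climb hX hc hp2 (by omega) hs (j := n - p - 1 + 2 + 1) (by omega) hz).1)
      (fun z hz => by
        have h := S3806.lcs_closure_le hX hc (i := n - p - 1 + 2) (by omega) (w := w) hy (p - 2)
          (mem_map_of_mem _ (show z ∈ (⊤ : Subgroup (closure ({⁅a, w⁆, w} : Set X))).lowerCentralSeries
            (p - 2 + 1) by rw [show p - 2 + 1 = p - 1 by omega]; exact hz))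
        exact hbot (by omega) _ h)
    have h1' : ⁅a, w⁆ ^ p = 1 := mem_bot.mp (hbot (by omega) _
      (pow_climb hX hc hp2 (by omega) hs (j := n - p - 1 + 2) (by omega) hy).1)
    rw [show ⁅a, w⁆ * w = a * w * a⁻¹ by rw [commutatorElement_def]; group, conj_pow, h1', map_one,
      one_mul, QuotientGroup.mk'_eq_mk'] at hH
    obtain ⟨c, hc', e⟩ := hH
    rw [mem_bot.mp hc', mul_one, mul_inv_eq_iff_eq_mul] at e
    rw [commutatorElement_eq_one_iff_mul_comm.mpr e.symm]
    exact one_mem _

include hX hc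

/-- Uniform elements exist, outside any given proper subgroup containing `G₂`. -/
theorem exists_uniform (hp2 : p ≠ 2) (hn : 4 ≤ n) (D : Subgroup X) (hD : D ≠ ⊤)
    (h2D : Gf X 2 ≤ D) : ∃ s : X, IsUniform n s ∧ s ∉ D := by
  have hp3 : 3 ≤ p := by have := hp.out.two_le; omega
  rcases le_or_gt n (p + 2) with h | h
  · exact exists_uniform_of_few hX hc hn (Finset.Icc 2 (n - 2)) (by rw [Nat.card_Icc]; omega)
      (fun j hj => by rw [Finset.mem_Icc] at hj; omega)
      (fun j hj hj' => ⟨j, Finset.mem_Icc.mpr (by omega), rfl⟩) D hD h2D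
  · exact exists_uniform_of_few hX hc hn {2} (by simp; omega)
      (fun j hj => by simp only [Finset.mem_singleton] at hj; omega)
      (fun j hj hj' => ⟨2, by simp, (Ct_eq_two hp2 n X hX hc (by omega) j hj hj').symm⟩) D hD h2D

theorem gf_two_ne_top (hn : 3 ≤ n) : Gf X 2 ≠ ⊤ := fun e => by
  have := S3806.card_gf hX hc (i := 2) (by omega) le_rfl (by omega)
  rw [e, card_top, hX] at this
  have := Nat.pow_right_injective hp.out.two_le this
  omega

theorem exists_uniform' (hp2 : p ≠ 2) (hn : 4 ≤ n) : ∃ s : X, IsUniform n s :=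
  (exists_uniform hX hc hp2 hn _ (gf_two_ne_top hX hc (by omega)) le_rfl).imp fun _ h => h.1

/-- For `n ≥ p + 2` some element has `p`-th power outside `Gf (p + 1)`. -/
theorem exists_pow_notMem (hp2 : p ≠ 2) (hn : p + 2 ≤ n) : ∃ a : X, a ^ p ∉ Gf X (p + 1) := by
  have hp3 : 3 ≤ p := by have := hp.out.two_le; omega
  obtain ⟨s, hs⟩ := exists_uniform' hX hc hp2 (by omega)
  obtain ⟨a, haC, ha2⟩ : ∃ a ∈ Ct X 2, a ∉ Gf X 2 := by
    refine SetLike.exists_of_lt (lt_of_le_of_ne (gf_two_le_Ct 2) fun e => ?_)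
    have h1 := card_mul_index (Ct X 2)
    rw [index_Ct hX hc le_rfl (by omega), ← e, S3806.card_gf hX hc (by omega) le_rfl (by omega),
      hX, ← pow_succ] at h1
    have := Nat.pow_right_injective hp.out.two_le h1
    omega
  refine ⟨a, fun hap => ?_⟩
  have has : a ∉ zpowers s ⊔ Gf X 2 := fun h =>
    ha2 (mem_gf_two_of_mem hX hc (by omega) hs le_rfl (by omega) haC h)
  have hgen := gen_of_notMem hX hc (by omega) hs.1 has
  set u := ⁅s, a⁆ with hu
  have hu2 : u ∈ Gf X 2 := commutator_mem_Gf (i := 1) (j := 1) (mem_top s) (mem_top a)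
  have hu3 : u ∉ Gf X 3 := commutator_notMem hX hc (by omega) hgen
  refine (pow_climb hX hc hp2 (by omega) hs le_rfl hu2).2 hu3 (by omega) ?_
  have hH := hall_mod hX hc (by omega) (i := 2) (by omega) (w := a) hu2 (Gf X (2 + p))
    (fun z hz => Gf_antitone (by omega) (pow_climb hX hc hp2 (by omega) hs (j := 3) (by omega) hz).1)
    (fun z hz => by
      let H := closure ({u, a} : Set X)
      have key : ∀ m, 2 ≤ m → (Gf H m).map H.subtype ≤ Gf X (2 + m) := by
        intro m hm
        induction m, hm using Nat.le_induction with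
        | base =>
          rw [Gf, show (2 : ℕ) - 1 = 0 + 1 from rfl, Subgroup.lowerCentralSeries_succ,
            Subgroup.lowerCentralSeries_zero, map_commutator, ← MonoidHom.range_eq_map, range_subtype]
          exact PGroupsRegular.commutator_closure_pair_le
            (fun k _ w hw => Normal.conj_mem inferInstance w hw k) (mem_Ct.mp haC u hu2)
        | succ m hm ih =>
          rw [S3806.gf_succ (by omega), map_commutator, ← MonoidHom.range_eq_map, range_subtype]
          refine (commutator_mono ih le_top).trans ?_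
          rw [show 2 + (m + 1) = 2 + m + 1 by omega, ← S3806.gf_succ (by omega)]
      exact key p (by omega) (mem_map_of_mem _ hz))
  rw [show u * a = s * a * s⁻¹ by rw [hu, commutatorElement_def]; group, conj_pow] at hH
  have hcomm : ⁅s, a ^ p⁆ ∈ Gf X (2 + p) := Gf_antitone (by omega)
    (commutator_mem_Gf (i := 1) (mem_top s) hap : ⁅s, a ^ p⁆ ∈ Gf X (1 + (p + 1)))
  rw [show s * a ^ p * s⁻¹ = ⁅s, a ^ p⁆ * a ^ p by rw [commutatorElement_def]; group, map_mul,
    show QuotientGroup.mk' (Gf X (2 + p)) ⁅s, a ^ p⁆ = 1 from (QuotientGroup.eq_one_iff _).mpr hcomm,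
    one_mul] at hH
  exact (QuotientGroup.eq_one_iff _).mp (mul_eq_right.mp hH.symm)

end Cfsg.Agent.Blackburn20
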