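import Mathlib
import Cfsg.Agent.Lib.Blackburn20

/-!
A `p`-group of maximal class of order `p ^ (p + 1)` does not have exponent `p`.
-/

open Subgroup
open scoped commutatorElement

namespace Cfsg.Agent.BlackburnExp20

open PGroupsHallPetrescu (Gf Gf_antitone commutator_mem_Gf)
open Blackburn20

variable {G : Type*} [Group G]

theorem comm_pow_left {z a : G} (h : ∀ g : G, g * ⁅z, a⁆ = ⁅z, a⁆ * g) :
    ∀ m : ℕ, ⁅z ^ m, a⁆ = ⁅z, a⁆ ^ m := by
  intro m
  induction m with
  | zero => simp
  | succ m ih =>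
    rw [pow_succ' z, show ⁅z * z ^ m, a⁆ = z * ⁅z ^ m, a⁆ * z⁻¹ * ⁅z, a⁆ by
      simp [commutatorElement_def, mul_assoc], ih, pow_succ,
      ((show Commute z ⁅z, a⁆ from h z).pow_right m).eq, mul_inv_cancel_right]

theorem comm_pow_pow {z a : G} (h : ∀ g : G, g * ⁅z, a⁆ = ⁅z, a⁆ * g) (m r : ℕ) :
    ⁅z ^ m, a ^ r⁆ = ⁅z, a⁆ ^ (m * r) := by
  have hinv : ∀ g : G, g * ⁅a, z ^ m⁆ = ⁅a, z ^ m⁆ * g := fun g => by
    rw [← commutatorElement_inv, comm_pow_left h]
    exact (((show Commute g ⁅z, a⁆ from h g).pow_right m).inv_right).eq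
  have h2 := comm_pow_left hinv r
  rw [← commutatorElement_inv, ← commutatorElement_inv (z ^ m) a, comm_pow_left h, inv_pow,
    inv_inj, ← pow_mul] at h2
  exact h2

theorem pow_val_add {p : ℕ} [Fact p.Prime] {z : G} (hz : z ^ p = 1) (a b : ZMod p) :
    z ^ (a + b).val = z ^ a.val * z ^ b.val := by
  rw [← pow_add, ZMod.val_add, ← pow_eq_pow_mod _ hz]

theorem pow_val_mul {p : ℕ} [Fact p.Prime] {z : G} (hz : z ^ p = 1) (a b : ZMod p) :
    z ^ (a * b).val = z ^ (a.val * b.val) := by
  rw [ZMod.val_mul, ← pow_eq_pow_mod _ hz]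

variable {X : Type*} [Group X] [Finite X] {p : ℕ} [hp : Fact p.Prime]

/-- Iterated commutators, indexed so that `zseq x a w` has weight `w + 2`. -/
def zseq {H : Type*} [Group H] (x a : H) : ℕ → H
  | 0 => ⁅a, x⁆
  | k + 1 => ⁅zseq x a k, x⁆

theorem zseq_mem {H : Type*} [Group H] (x a : H) : ∀ k, zseq x a k ∈ Gf H (k + 2)
  | 0 => commutator_mem_Gf (i := 1) (j := 1) (mem_top a) (mem_top x)
  | k + 1 => commutator_mem_Gf (i := k + 2) (j := 1) (zseq_mem x a k) (mem_top x)

theorem false_of_exponent (hX : Nat.card X = p ^ (p + 1)) (hc : Group.nilpotencyClass X = p)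
    (hp2 : p ≠ 2) (hexp : ∀ x : X, x ^ p = 1) : False := by
  classical
  have hp3 : 3 ≤ p := by have := hp.out.two_le; omega
  have hc' : Group.nilpotencyClass X = p + 1 - 1 := by omega
  obtain ⟨s, hs⟩ := exists_uniform' hX hc' hp2 (by omega)
  obtain ⟨a, ha⟩ : ∃ a : X, a ∉ zpowers s ⊔ Gf X 2 := by
    by_contra hcon
    push Not at hcon
    have htop : zpowers s = ⊤ := frattini_nongenerating (top_le_iff.mp (le_trans (fun g _ => hcon g)
      (sup_le_sup_left ((Subgroup.top_lowerCentralSeries_one (G := X)).le.trans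
        (PGroupsBasic.commutator_le_frattini (IsPGroup.of_card hX))) _)))
    refine (MaxClassTwo.center_of_maxClass (by omega) hX hc').2.2.2 fun u v => ?_
    exact PGroupsBasic.comm_of_isMulCommutative (PGroupsBasic.isMulCommutative_zpowers s)
      (htop ▸ mem_top u) (htop ▸ mem_top v)
  have hgen := gen_of_notMem hX hc' (by omega) hs.1 ha
  -- the generators `z k` of the layers
  let z : ℕ → X := zseq s a
  have hz_ne : ∀ k, k + 2 ≤ p → z k ∉ Gf X (k + 3) := by
    intro k
    induction k with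
    | zero =>
      intro _ h
      refine commutator_notMem hX hc' (by omega) hgen ?_
      rw [← commutatorElement_inv]
      exact inv_mem h
    | succ k ih =>
      intro hk h
      exact hs.2 (k + 2) (by omega) (by omega)
        (mem_Ct_of_exact hX hc' (by omega) (by omega) (zseq_mem s a k) (ih (by omega)) h)
  -- the model
  obtain ⟨a', x', -, hx'p, hax', ha'r⟩ := PearlMaxClass.exists_model (p := p)
  let M := Multiplicative (ZMod p) ≀ᵣ Multiplicative (ZMod p)
  have : NeZero p := ⟨hp.out.ne_zero⟩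
  have : Group.IsNilpotent M :=
    (IsPGroup.of_card (p := p) PearlMaxClass.card_wreath).isNilpotent
  have hMc : Gf M (p + 1) = ⊥ := by
    unfold Gf
    rw [Subgroup.lowerCentralSeries_eq_bot_iff_nilpotencyClass_le]
    exact (MaxClassTwo.nilpotencyClass_le (p + 1) M PearlMaxClass.card_wreath (by omega)).trans
      (by omega)
  have hMbase : ∀ {k : ℕ} {u : M}, 2 ≤ k → u ∈ Gf M k → u.right = 1 := fun hk hu =>
    PearlMaxClass.right_eq_one (Gf_antitone hk hu :)
  let e : ℕ → M := zseq x' a'
  have hzp : ∀ k, z k ^ p = 1 := fun k => hexp _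
  have hep : ∀ k, e k ^ p = 1 := fun k =>
    PearlMaxClass.base_pow (hMbase (by omega) (zseq_mem x' a' k))
  let α : (ZMod p → X) × M := (fun t => a ^ t.val, a')
  let ξ : (ZMod p → X) × M := (fun _ => s, x')
  let U : Subgroup ((ZMod p → X) × M) := closure {α, ξ}
  let W : ℕ → Subgroup ((ZMod p → X) × M) := fun w =>
    (Subgroup.pi Set.univ fun _ => Gf X w).prod (Gf M w)
  have hWmem : ∀ {w : ℕ} {u : (ZMod p → X) × M}, u ∈ W w ↔ (∀ t, u.1 t ∈ Gf X w) ∧ u.2 ∈ Gf M w :=
    fun {w u} => ⟨fun h => ⟨fun t => h.1 t trivial, h.2⟩, fun h => ⟨fun t _ => h.1 t, h.2⟩⟩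
  have hWanti : Antitone W := fun k l hkl u hu =>
    hWmem.mpr ⟨fun t => Gf_antitone hkl ((hWmem.mp hu).1 t), Gf_antitone hkl (hWmem.mp hu).2⟩
  have hWcomm : ∀ {w : ℕ} {u : (ZMod p → X) × M} (v : (ZMod p → X) × M), u ∈ W w →
      ⁅u, v⁆ ∈ W (w + 1) := fun {w u} v hu => hWmem.mpr
    ⟨fun t => commutator_mem_Gf (j := 1) ((hWmem.mp hu).1 t) (mem_top _),
      commutator_mem_Gf (j := 1) (hWmem.mp hu).2 (mem_top _)⟩
  have hWp : W (p + 1) = ⊥ := by
    rw [eq_bot_iff]
    intro u hu
    obtain ⟨h1, h2⟩ := hWmem.mp hu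
    rw [hMc, mem_bot] at h2
    refine mem_bot.mpr (Prod.ext (funext fun t => ?_) h2)
    have := h1 t
    rwa [S3806.gf_bot hX hc' le_rfl, mem_bot] at this
  -- `E w k` has weight `w + 2` and degree `k`
  let E : ℕ → ℕ → (ZMod p → X) × M := fun w k =>
    (fun t => z w ^ (t ^ k).val, if k = 1 then e w else 1)
  have hEW : ∀ w k, E w k ∈ W (w + 2) := fun w k => hWmem.mpr
    ⟨fun t => pow_mem (zseq_mem s a w) _, by
      show (if k = 1 then e w else 1) ∈ _
      split
      exacts [zseq_mem x' a' w, one_mem _]⟩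
  let K : ℕ → Subgroup ((ZMod p → X) × M) := fun w =>
    closure (E w '' Set.Icc 1 (w + 1)) ⊔ W (w + 3)
  have hKW : ∀ w, K w ≤ W (w + 2) := fun w =>
    sup_le ((closure_le _).mpr (by rintro _ ⟨k, -, rfl⟩; exact hEW w k)) (hWanti (Nat.le_succ _))
  have hKn : ∀ w, (K w).Normal := fun w => ⟨fun u hu g => by
    have h : ⁅u, g⁆⁻¹ ∈ K w :=
      inv_mem (le_sup_right (a := closure (E w '' Set.Icc 1 (w + 1))) (hWcomm g (hKW w hu)))
    rw [commutatorElement_inv] at h
    simpa [commutatorElement_def, mul_assoc] using mul_mem h hu⟩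
  have hEK : ∀ {w k : ℕ}, k ∈ Set.Icc 1 (w + 1) → E w k ∈ K w := fun hk =>
    mem_sup_left (Subgroup.subset_closure ⟨_, hk, rfl⟩)
  have hWK : ∀ {w : ℕ} {u : (ZMod p → X) × M}, u ∈ W (w + 3) → u ∈ K w := fun hu => mem_sup_right hu
  -- congruence modulo `W`
  have hcong : ∀ {w : ℕ} {L : Subgroup ((ZMod p → X) × M)} {u v : (ZMod p → X) × M}, W w ≤ L →
      v ∈ L → (∀ t, QuotientGroup.mk' (Gf X w) (u.1 t) = QuotientGroup.mk' (Gf X w) (v.1 t)) →
      u.2 = v.2 → u ∈ L := fun {w L u v} hle hv h1 h2 => by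
    have h : v⁻¹ * u ∈ W w := hWmem.mpr ⟨fun t => by
      rw [← QuotientGroup.eq_one_iff]
      show QuotientGroup.mk' (Gf X w) ((v.1 t)⁻¹ * u.1 t) = 1
      rw [map_mul, map_inv, h1 t, inv_mul_cancel], by
      show v.2⁻¹ * u.2 ∈ _
      rw [h2, inv_mul_cancel]
      exact one_mem _⟩
    have h' := mul_mem hv (hle h)
    rwa [mul_inv_cancel_left] at h'
  have hcent : ∀ {w : ℕ} {u : X}, u ∈ Gf X w → ∀ g : X ⧸ Gf X (w + 1),
      g * QuotientGroup.mk' (Gf X (w + 1)) u = QuotientGroup.mk' (Gf X (w + 1)) u * g := by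
    intro w u hu g
    obtain ⟨g, rfl⟩ := QuotientGroup.mk'_surjective _ g
    exact ((S3806.comm_mem_iff _ _ _).mp (commutator_mem_Gf (j := 1) hu (mem_top g))).symm
  have hcoll : ∀ {w : ℕ} {u v : X}, ⁅u, v⁆ ∈ Gf X w → ∀ m r : ℕ,
      QuotientGroup.mk' (Gf X (w + 1)) ⁅u ^ m, v ^ r⁆ =
        QuotientGroup.mk' (Gf X (w + 1)) (⁅u, v⁆ ^ (m * r)) := by
    intro w u v huv m r
    rw [map_commutatorElement, map_pow, map_pow, map_pow, map_commutatorElement,
      comm_pow_pow (by rw [← map_commutatorElement]; exact hcent huv)]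
  -- weight two
  have hbase : ⁅U, U⁆ ≤ K 0 := by
    refine PGroupsRegular.commutator_closure_pair_le (fun k _ u hu => (hKn 0).conj_mem u hu k) ?_
    refine hcong (w := 3) le_sup_right (hEK (k := 1) (by simp)) (fun t => ?_) ?_
    · show QuotientGroup.mk' (Gf X 3) ⁅a ^ t.val, s⁆ =
        QuotientGroup.mk' (Gf X 3) (z 0 ^ (t ^ 1).val)
      have h := hcoll (w := 2) (u := a) (v := s)
        (commutator_mem_Gf (i := 1) (j := 1) (mem_top a) (mem_top s)) t.val 1
      rw [pow_one, mul_one] at h
      rw [h, pow_one]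
      rfl
    · show ⁅a', x'⁆ = if (1 : ℕ) = 1 then e 0 else 1
      rw [if_pos rfl]
      rfl
  -- the layers
  have hlayer : ∀ w, w + 3 ≤ p → ∃ c : ℕ, QuotientGroup.mk' (Gf X (w + 4)) ⁅z w, a⁆ =
      QuotientGroup.mk' (Gf X (w + 4)) (z (w + 1) ^ c) := by
    intro w hw
    have hle := S3806.eq_of_mem_of_notMem hX hc' (i := w + 3) (by omega) (by omega) (by omega)
      (K := zpowers (z (w + 1)) ⊔ Gf X (w + 4)) le_sup_right (a := z (w + 1))
      (mem_sup_left (mem_zpowers _)) (zseq_mem s a (w + 1)) (hz_ne (w + 1) (by omega))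
    obtain ⟨u, hu, v, hv, e'⟩ := Subgroup.mem_sup_of_normal_right.mp
      (hle (commutator_mem_Gf (i := w + 2) (j := 1) (zseq_mem s a w) (mem_top a)))
    obtain ⟨c, rfl⟩ := (IsOfFinOrder.mem_powers_iff_mem_zpowers
      (isOfFinOrder_of_finite (z (w + 1)))).mpr hu
    refine ⟨c, ?_⟩
    rw [← e', map_mul, show QuotientGroup.mk' (Gf X (w + 4)) v = 1 from
      (QuotientGroup.eq_one_iff _).mpr hv, mul_one]
  have hstep : ∀ w, w + 3 ≤ p → ⁅K w, U⁆ ≤ K (w + 1) := by
    intro w hw
    have := hKn (w + 1)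
    refine commutator_le.mpr fun u hu v hv => ?_
    let q := QuotientGroup.mk' (K (w + 1))
    have key : ∀ g ∈ ({α, ξ} : Set _), ⁅u, g⁆ ∈ K (w + 1) := by
      intro g hg
      have hle : K w ≤ (centralizer ({q g} : Set _)).comap q := by
        refine sup_le ((closure_le _).mpr ?_) fun y hy => ?_
        · rintro _ ⟨k, hk, rfl⟩
          refine mem_centralizer_singleton_iff.mpr ?_
          rw [← commutatorElement_eq_one_iff_mul_comm, ← map_commutatorElement]
          refine (QuotientGroup.eq_one_iff _).mpr ?_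
          rcases hg with rfl | rfl
          · -- against `α`
            obtain ⟨c, hcw⟩ := hlayer w hw
            refine hcong (w := w + 4) le_sup_right
              (pow_mem (hEK (w := w + 1) (k := k + 1) ⟨by omega, by have := hk.2; omega⟩) c)
              (fun t => ?_) ?_
            · show QuotientGroup.mk' (Gf X (w + 4)) ⁅z w ^ (t ^ k).val, a ^ t.val⁆ =
                QuotientGroup.mk' (Gf X (w + 4)) ((z (w + 1) ^ (t ^ (k + 1)).val) ^ c)
              rw [hcoll (w := w + 3) (commutator_mem_Gf (i := w + 2) (j := 1) (zseq_mem s a w)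
                (mem_top a)), map_pow, hcw, ← map_pow, ← pow_mul, ← pow_mul, pow_succ t k,
                mul_comm c, pow_mul, pow_mul (z (w + 1)) ((t ^ k * t).val), pow_val_mul (hzp (w + 1))]
            · show ⁅(if k = 1 then e w else 1), a'⁆ = (if k + 1 = 1 then e (w + 1) else 1) ^ c
              rw [if_neg (show ¬ k + 1 = 1 by have := hk.1; omega), one_pow]
              split
              · exact commutatorElement_eq_one_iff_mul_comm.mpr
                  (PearlMaxClass.base_comm (hMbase (by omega) (zseq_mem x' a' w)) ha'r)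
              · exact commutatorElement_one_left _
          · -- against `ξ`
            refine hcong (w := w + 4) le_sup_right
              (hEK (w := w + 1) (k := k) ⟨hk.1, by have := hk.2; omega⟩) (fun t => ?_) ?_
            · show QuotientGroup.mk' (Gf X (w + 4)) ⁅z w ^ (t ^ k).val, s⁆ =
                QuotientGroup.mk' (Gf X (w + 4)) (z (w + 1) ^ (t ^ k).val)
              have h := hcoll (w := w + 3) (u := z w) (v := s)
                (zseq_mem s a (w + 1)) (t ^ k).val 1
              rw [pow_one, mul_one] at h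
              exact h
            · show ⁅(if k = 1 then e w else 1), x'⁆ = if k = 1 then e (w + 1) else 1
              split
              · rfl
              · exact commutatorElement_one_left _
        · refine mem_centralizer_singleton_iff.mpr ?_
          rw [← commutatorElement_eq_one_iff_mul_comm, ← map_commutatorElement]
          exact (QuotientGroup.eq_one_iff _).mpr (hWK (hWcomm g hy))
      rw [← QuotientGroup.eq_one_iff, ← QuotientGroup.mk'_apply, map_commutatorElement,
        commutatorElement_eq_one_iff_mul_comm]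
      exact mem_centralizer_singleton_iff.mp (hle hu)
    have hU : U ≤ (centralizer ({q u} : Set _)).comap q := (closure_le _).mpr fun g hg => by
      refine mem_centralizer_singleton_iff.mpr (Eq.symm ?_)
      rw [← commutatorElement_eq_one_iff_mul_comm, ← map_commutatorElement]
      exact (QuotientGroup.eq_one_iff _).mpr (key g hg)
    rw [← QuotientGroup.eq_one_iff, ← QuotientGroup.mk'_apply, map_commutatorElement,
      commutatorElement_eq_one_iff_mul_comm]
    exact (mem_centralizer_singleton_iff.mp (hU hv)).symm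
  have hK : ∀ w, w + 2 ≤ p → (Gf U (w + 2)).map U.subtype ≤ K w := by
    intro w
    induction w with
    | zero =>
      intro _
      rw [Gf, show (0 : ℕ) + 2 - 1 = 0 + 1 from rfl, Subgroup.lowerCentralSeries_succ,
        Subgroup.lowerCentralSeries_zero, map_commutator, ← MonoidHom.range_eq_map, range_subtype]
      exact hbase
    | succ w ih =>
      intro hw
      rw [show w + 1 + 2 = w + 2 + 1 by omega, S3806.gf_succ (by omega), map_commutator,
        ← MonoidHom.range_eq_map, range_subtype]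
      exact (commutator_mono (ih (by omega)) le_rfl).trans (hstep w (by omega))
  -- collection
  have hGf : Gf U (p + 1) = ⊥ := by
    rw [eq_bot_iff]
    intro c hc
    have hle : ∀ j, (Gf U (j + 1)).map U.subtype ≤ W (j + 1) := by
      intro j
      induction j with
      | zero => exact fun u _ => hWmem.mpr ⟨fun t => mem_top _, mem_top _⟩
      | succ j ih =>
        rw [S3806.gf_succ (by omega), map_commutator]
        exact commutator_le.mpr fun x hx y _ => hWcomm y (ih hx)
    have h := hle p (mem_map_of_mem _ hc)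
    rw [hWp, mem_bot] at h
    exact mem_bot.mpr (Subtype.ext h)
  obtain ⟨c, hc, hc0, hc1, hcf⟩ := PGroupsHallPetrescu.hall_petrescu
    (⟨α, Subgroup.subset_closure (Set.mem_insert _ _)⟩ : U)
    ⟨ξ, Subgroup.subset_closure (Set.mem_insert_of_mem _ rfl)⟩ hGf
  have hWpow : ∀ {u : (ZMod p → X) × M}, u ∈ W 2 → u ^ p = 1 := fun hu =>
    Prod.ext (funext fun t => hexp _) (PearlMaxClass.base_pow (hMbase le_rfl (hWmem.mp hu).2))
  have hprod : ((List.range (p + 1)).map fun k => c k ^ p.choose k).prod = c p := by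
    rw [List.range_succ, List.map_append, List.prod_append, List.prod_eq_one]
    · simp
    · intro y hy
      obtain ⟨k, hk, rfl⟩ := List.mem_map.mp hy
      have hk := List.mem_range.mp hk
      match k, hk with
      | 0, _ => simp [hc0]
      | 1, _ => simp [hc1]
      | k + 2, hk =>
        obtain ⟨m, hm⟩ := hp.out.dvd_choose_self (by omega : k + 2 ≠ 0) hk
        rw [hm, pow_mul, show c (k + 2) ^ p = 1 from Subtype.ext (hWpow (hWanti (by omega)
          (hKW k (hK k (by omega) (mem_map_of_mem _ (hc (k + 2))))))), one_pow]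
  have hmain := congrArg Subtype.val (hcf p)
  rw [hprod] at hmain
  simp only [coe_mul, coe_pow] at hmain
  have hcK : (c p : (ZMod p → X) × M) ∈ closure (E (p - 2) '' Set.Icc 1 (p - 1)) := by
    have h := hK (p - 2) (by omega)
      (mem_map_of_mem _ (show c p ∈ Gf U (p - 2 + 2) by rw [show p - 2 + 2 = p by omega]; exact hc p))
    simp only [K, show p - 2 + 3 = p + 1 by omega, hWp, sup_bot_eq,
      show p - 2 + 1 = p - 1 by omega] at h
    exact h
  have h1 : (c p : (ZMod p → X) × M).1 = 1 := funext fun t => by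
    have h := congrFun (congrArg Prod.fst hmain) t
    simp only [Prod.fst_mul, Prod.pow_fst, Pi.mul_apply, Pi.pow_apply] at h
    rw [hexp, hexp, hexp, one_mul, one_mul] at h
    exact h.symm
  have h2 : (a' * x') ^ p = (c p : (ZMod p → X) × M).2 := by
    have h := congrArg Prod.snd hmain
    simp only [Prod.snd_mul, Prod.pow_snd] at h
    rw [show (a' : M) ^ p = 1 from PearlMaxClass.base_pow ha'r, hx'p, one_mul, one_mul] at h
    exact h
  obtain ⟨f, hdeg, hf1, hf2⟩ : ∃ f : Polynomial (ZMod p), f.natDegree < p ∧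
      (∀ t, (c p : (ZMod p → X) × M).1 t = z (p - 2) ^ (f.eval t).val) ∧
      (c p : (ZMod p → X) × M).2 = e (p - 2) ^ (f.coeff 1).val := by
    clear h1 h2 hmain hprod
    generalize (c p : (ZMod p → X) × M) = u at hcK
    induction hcK using closure_induction with
    | mem u hu =>
      obtain ⟨k, hk, rfl⟩ := hu
      refine ⟨Polynomial.X ^ k, ?_, fun t => ?_, ?_⟩
      · rw [Polynomial.natDegree_X_pow]
        have := hk.2
        omega
      · show z (p - 2) ^ (t ^ k).val = _
        simp
      · show (if k = 1 then e (p - 2) else 1) = _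
        rw [Polynomial.coeff_X_pow]
        by_cases hk1 : k = 1
        · simp [hk1, ZMod.val_one]
        · simp [hk1, Ne.symm hk1]
    | one => exact ⟨0, by simpa using hp.out.pos, fun t => by simp, by simp⟩
    | mul u v _ _ ihu ihv =>
      obtain ⟨f, hf, hf1, hf2⟩ := ihu
      obtain ⟨g, hg, hg1, hg2⟩ := ihv
      refine ⟨f + g, (Polynomial.natDegree_add_le f g).trans_lt (max_lt hf hg), fun t => ?_, ?_⟩
      · rw [Prod.fst_mul, Pi.mul_apply, hf1, hg1, Polynomial.eval_add, pow_val_add (hzp _)]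
      · rw [Prod.snd_mul, hf2, hg2, Polynomial.coeff_add, pow_val_add (hep _)]
    | inv u _ ihu =>
      obtain ⟨f, hf, hf1, hf2⟩ := ihu
      refine ⟨-f, by rwa [Polynomial.natDegree_neg], fun t => ?_, ?_⟩
      · rw [Prod.fst_inv, Pi.inv_apply, hf1, inv_eq_iff_mul_eq_one, Polynomial.eval_neg,
          ← pow_val_add (hzp _), add_neg_cancel, ZMod.val_zero, pow_zero]
      · rw [Prod.snd_inv, hf2, inv_eq_iff_mul_eq_one, Polynomial.coeff_neg,
          ← pow_val_add (hep _), add_neg_cancel, ZMod.val_zero, pow_zero]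
  have hord : orderOf (z (p - 2)) = p := by
    refine orderOf_eq_prime (hzp _) fun h => hz_ne (p - 2) (by omega) ?_
    rw [h]
    exact one_mem _
  have hzero : ∀ t, f.eval t = 0 := fun t => by
    have h := hf1 t
    rw [h1, Pi.one_apply, eq_comm, ← orderOf_dvd_iff_pow_eq_one, hord] at h
    exact (ZMod.val_eq_zero _).mp (Nat.eq_zero_of_dvd_of_lt h (ZMod.val_lt _))
  have hf0 : f = 0 := Polynomial.eq_zero_of_natDegree_lt_card_of_eval_eq_zero f
    (fun x y h => h : Function.Injective (id : ZMod p → ZMod p)) hzero (by rwa [ZMod.card])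
  refine hax' ?_
  rw [h2, hf2, hf0]
  simp

end Cfsg.Agent.BlackburnExp20
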