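import Mathlib
import Cfsg.Agent.Lib.PGroupsBasic
import Cfsg.Agent.Lib.PGroupsCyclic
import Cfsg.Agent.Lib.PGroupsHuppert
import Cfsg.Agent.Lib.RankTwoOdd
import Cfsg.Agent.Lib.MaxClassTwo

/-!
# Blackburn's classification of `p`-groups of rank two, `p` odd

The proof is uniform in the odd prime: a group whose elements of order `p` are central (and few)
has cyclic derived subgroup, hence is regular and metacyclic; otherwise an element of order `p`
outside the centraliser of a normal `E_{p^2}` generates with it a normal extraspecial subgroup.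
-/

set_option autoImplicit false
set_option linter.style.haveILetI false
set_option linter.unusedSectionVars false

namespace Cfsg.Agent.BlackburnRankTwo

open Subgroup
open scoped commutatorElement

universe u

variable {p : ℕ} [hp : Fact p.Prime]

section Basic

variable {G : Type u} [Group G]

theorem mul_pow_prime (hp2 : p ≠ 2) {x y : G} (hx : Commute ⁅y, x⁆ x) (hy : Commute ⁅y, x⁆ y)
    (ho : ⁅y, x⁆ ^ p = 1) : (x * y) ^ p = x ^ p * y ^ p := by
  let K := closure ({x, y} : Set G)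
  let x' : K := ⟨x, subset_closure (Or.inl rfl)⟩
  let y' : K := ⟨y, subset_closure (Or.inr rfl)⟩
  have hc : ⁅y', x'⁆ ∈ center K := by
    refine mem_center_iff.mpr fun k => Subtype.ext ?_
    have hle : K ≤ centralizer ({⁅y, x⁆} : Set G) := by
      rw [closure_le]
      rintro _ (rfl | rfl)
      · exact mem_centralizer_singleton_iff.mpr hx.eq.symm
      · exact mem_centralizer_singleton_iff.mpr hy.eq.symm
    exact mem_centralizer_singleton_iff.mp (hle k.2)
  exact congrArg Subtype.val (ClassTwoPow.mul_pow_prime_central hp.out hp2 hc (Subtype.ext ho))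

theorem mk_eq_one_iff {N : Subgroup G} [N.Normal] (a : G) :
    (QuotientGroup.mk' N) a = 1 ↔ a ∈ N := QuotientGroup.eq_one_iff a

theorem mk_commute_iff {N : Subgroup G} [N.Normal] (a b : G) :
    Commute ((QuotientGroup.mk' N) a) ((QuotientGroup.mk' N) b) ↔ ⁅a, b⁆ ∈ N := by
  rw [← commutatorElement_eq_one_iff_commute, ← map_commutatorElement, mk_eq_one_iff]

/-- A central extension of a metacyclic group has cyclic derived subgroup. -/
theorem isCyclic_commutator_of_quotient [Finite G] {Z : Subgroup G} [Z.Normal] (hZ : Z ≤ center G)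
    (h : Cfsg.IsMetacyclic (G ⧸ Z)) : IsCyclic (commutator G) := by
  obtain ⟨N, hN, hNc, hQc⟩ := h
  obtain ⟨n', hn'⟩ := hNc.exists_generator
  obtain ⟨n, hn⟩ := QuotientGroup.mk'_surjective Z (n' : G ⧸ Z)
  obtain ⟨q, hq⟩ := hQc.exists_generator
  obtain ⟨m₁, rfl⟩ := QuotientGroup.mk'_surjective N q
  obtain ⟨m, rfl⟩ := QuotientGroup.mk'_surjective Z m₁
  let π := QuotientGroup.mk' Z
  have hmemN : ∀ g : G ⧸ Z, g ∈ N → ∃ i : ℤ, g = π n ^ i := by
    intro g hg
    obtain ⟨i, hi⟩ := mem_zpowers_iff.mp (hn' ⟨g, hg⟩)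
    exact ⟨i, by rw [hn, ← SubgroupClass.coe_zpow, hi]⟩
  have hform : ∀ g : G, ∃ (i j : ℤ), ∃ z ∈ Z, g = n ^ i * m ^ j * z := by
    intro g
    obtain ⟨j, hj⟩ := mem_zpowers_iff.mp (hq (QuotientGroup.mk' N (π g)))
    have h1 : π g * (π m ^ j)⁻¹ ∈ N := by
      rw [← mk_eq_one_iff, map_mul, map_inv, map_zpow, hj, mul_inv_cancel]
    obtain ⟨i, hi⟩ := hmemN _ h1
    refine ⟨i, j, (n ^ i * m ^ j)⁻¹ * g, ?_, by group⟩
    rw [← mk_eq_one_iff]
    show π _ = 1
    rw [map_mul π, map_inv, map_mul π, map_zpow, map_zpow, ← hi, inv_mul_cancel_right,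
      inv_mul_cancel]
  have hcomm_mn : π ⁅m, n⁆ ∈ N := by
    rw [map_commutatorElement, commutatorElement_def]
    exact mul_mem (hN.conj_mem _ (hn ▸ n'.2) _) (inv_mem (hn ▸ n'.2))
  obtain ⟨i, hi⟩ := hmemN _ hcomm_mn
  set c := ⁅m, n⁆ with hc
  have hz : (n ^ i)⁻¹ * c ∈ Z := by
    rw [← mk_eq_one_iff, map_mul, map_inv, map_zpow, hi, inv_mul_cancel]
  set z := (n ^ i)⁻¹ * c with hzdef
  have hce : c = n ^ i * z := by rw [hzdef, mul_inv_cancel_left]
  have hzc : ∀ g, Commute z g := fun g => (mem_center_iff.mp (hZ hz) g).symm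
  have hnc : Commute n c := by
    rw [hce]; exact ((Commute.refl n).zpow_right i).mul_right (hzc n).symm
  have hmn : m * n * m⁻¹ = c * n := by rw [hc, commutatorElement_def]; group
  have hmc : m * c * m⁻¹ = c ^ (i + 1) := by
    calc m * c * m⁻¹ = m * n ^ i * m⁻¹ * (m * z * m⁻¹) := by rw [hce]; group
      _ = (c * n) ^ i * z := by
        rw [← conj_zpow, hmn, ← (hzc m).eq, mul_inv_cancel_right]
      _ = c ^ i * (n ^ i * z) := by rw [hnc.symm.mul_zpow, mul_assoc]
      _ = c ^ (i + 1) := by rw [← hce, zpow_add_one]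
  haveI hcn : (zpowers c).Normal := by
    rw [← normalizer_eq_top_iff, eq_top_iff]
    intro g _
    obtain ⟨a, b, w, hw, rfl⟩ := hform g
    have key : ∀ x : G, x * c * x⁻¹ ∈ zpowers c → x ∈ normalizer (zpowers c : Set G) := by
      intro x hx
      rw [mem_normalizer_iff_map_conj_eq]
      refine eq_of_le_of_card_ge ?_
        (Nat.card_congr ((zpowers c).equivMapOfInjective _ (MulAut.conj x).injective).toEquiv).le
      rw [MonoidHom.map_zpowers, zpowers_le]
      exact hx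
    refine mul_mem (mul_mem (zpow_mem (key n ?_) a) (zpow_mem (key m ?_) b)) (key w ?_)
    · rw [hnc.eq, mul_inv_cancel_right]; exact mem_zpowers c
    · rw [hmc]; exact zpow_mem (mem_zpowers c) _
    · rw [mem_center_iff.mp (hZ hw) c |>.symm, mul_inv_cancel_right]; exact mem_zpowers c
  have hle : commutator G ≤ zpowers c := by
    let ρ := QuotientGroup.mk' (zpowers c)
    refine (Subgroup.Normal.quotient_commutative_iff_commutator_le).mp ⟨⟨fun a b => ?_⟩⟩
    obtain ⟨a, rfl⟩ := QuotientGroup.mk'_surjective (zpowers c) a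
    obtain ⟨b, rfl⟩ := QuotientGroup.mk'_surjective (zpowers c) b
    obtain ⟨i₁, j₁, z₁, hz₁, rfl⟩ := hform a
    obtain ⟨i₂, j₂, z₂, hz₂, rfl⟩ := hform b
    have hzρ : ∀ w ∈ Z, ∀ g, Commute (ρ w) (ρ g) := fun w hw g =>
      ((show Commute w g from (mem_center_iff.mp (hZ hw) g).symm)).map ρ
    have hmnρ : Commute (ρ m) (ρ n) := (mk_commute_iff m n).mpr (mem_zpowers c)
    show Commute (ρ (n ^ i₁ * m ^ j₁ * z₁)) (ρ (n ^ i₂ * m ^ j₂ * z₂))
    rw [map_mul ρ (n ^ i₁ * m ^ j₁), map_mul ρ (n ^ i₂ * m ^ j₂), map_mul ρ, map_mul ρ,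
      map_zpow, map_zpow, map_zpow, map_zpow]
    have h1 : Commute (ρ n ^ i₁ * ρ m ^ j₁) (ρ n ^ i₂ * ρ m ^ j₂) :=
      ((((Commute.refl (ρ n)).zpow_zpow i₁ i₂).mul_right (hmnρ.symm.zpow_zpow i₁ j₂))).mul_left
        (((hmnρ.zpow_zpow j₁ i₂).mul_right ((Commute.refl (ρ m)).zpow_zpow j₁ j₂)))
    have h2 : ∀ (k l : ℤ) (w : G), w ∈ Z → Commute (ρ n ^ k * ρ m ^ l) (ρ w) := fun k l w hw =>
      (((hzρ w hw n).symm.zpow_left k).mul_left ((hzρ w hw m).symm.zpow_left l))
    exact (h1.mul_right (h2 _ _ _ hz₂)).mul_left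
      ((h2 _ _ _ hz₁).symm.mul_right (hzρ _ hz₁ z₂))
  exact isCyclic_of_injective (inclusion hle) (inclusion_injective hle)

theorem normal_of_le_cyclic_commutator (hcyc : IsCyclic (commutator G)) [Finite G] {L : Subgroup G}
    (hL : L ≤ commutator G) : L.Normal := by
  refine ⟨fun x hx g => ?_⟩
  have h1 : L.map (MulAut.conj g).toMonoidHom = L :=
    PGroupsCyclic.eq_of_card_eq_of_isCyclic hcyc
      (((map_mono hL).trans (by
        rw [_root_.commutator_def, map_commutator]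
        exact Subgroup.commutator_mono le_top le_top))) hL
      (card_map_of_injective (MulAut.conj g).injective)
  rw [← h1]
  exact ⟨x, hx, rfl⟩

variable [Finite G]

/-- For odd `p`, a `p`-group with cyclic derived subgroup is regular. -/
theorem regular_of_cyclic_commutator (hp2 : p ≠ 2) (hG : IsPGroup p G)
    (hcyc : IsCyclic (commutator G)) : Cfsg.IsRegularPGroup p G := by
  refine PGroupsRegular.regular_of_weak hG fun a b => ?_
  set K := closure ({a, b} : Set G)
  have hKG : ⁅K, K⁆ ≤ commutator G := Subgroup.commutator_mono le_top le_top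
  have hd : ⁅b, a⁆ ∈ ⁅K, K⁆ := commutator_mem_commutator (PGroupsRegular.mem_pair_right a b)
    (PGroupsRegular.mem_pair_left a b)
  set d := ⁅b, a⁆ with hddef
  haveI hM : (zpowers (d ^ p)).Normal :=
    normal_of_le_cyclic_commutator hcyc (zpowers_le.mpr (pow_mem (hKG hd) p))
  haveI hD : (zpowers d).Normal := normal_of_le_cyclic_commutator hcyc (zpowers_le.mpr (hKG hd))
  let π := QuotientGroup.mk' (zpowers (d ^ p))
  have ho : π d ^ p = 1 := by
    rw [← map_pow]; exact (mk_eq_one_iff _).mpr (mem_zpowers _)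
  have hcen : π d ∈ center (G ⧸ zpowers (d ^ p)) := by
    by_cases h1 : π d = 1
    · rw [h1]; exact one_mem _
    haveI : (zpowers (π d)).Normal := by
      rw [← MonoidHom.map_zpowers]
      exact Subgroup.Normal.map hD _ (QuotientGroup.mk'_surjective _)
    exact PGroupsBasic.le_center_of_card_eq_prime (hG.to_quotient _)
      (by rw [Nat.card_zpowers, orderOf_eq_prime ho h1]) (mem_zpowers _)
  have hpow := ClassTwoPow.mul_pow_prime_central (x := π a) (y := π b) hp.out hp2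
    (by rwa [← map_commutatorElement]) (by rwa [← map_commutatorElement])
  have hmem : (a ^ p * b ^ p)⁻¹ * (a * b) ^ p ∈ zpowers (d ^ p) := by
    rw [← mk_eq_one_iff]
    show π _ = 1
    rw [map_mul π, map_inv, map_mul π, map_pow, map_pow, map_pow, map_mul π, hpow, inv_mul_cancel]
  obtain ⟨k, hk⟩ := mem_zpowers_iff.mp hmem
  refine ⟨d ^ k, zpow_mem hd k, ?_⟩
  have e : (d ^ k) ^ p = (d ^ p) ^ k := by rw [← zpow_natCast, zpow_comm, zpow_natCast]
  rw [e, hk, mul_inv_cancel_left]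

/-- For odd `p`: cyclic derived subgroup and at most `p^2` elements of order dividing `p` in the
sense of a containing subgroup imply metacyclic. -/
theorem isMetacyclic_of_cyclic_commutator (hp2 : p ≠ 2) (hG : IsPGroup p G)
    (hcyc : IsCyclic (commutator G)) (E : Subgroup G) (hE : ∀ x : G, x ^ p = 1 → x ∈ E)
    (hcard : Nat.card E ≤ p ^ 2) : Cfsg.IsMetacyclic G := by
  have hreg := regular_of_cyclic_commutator hp2 hG hcyc
  refine PGroupsHuppert.isMetacyclic_of_regular hreg ?_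
  rw [← PGroupsHuppert.card_omega_eq_index hG (PGroupsRegular.regAt_of_regular hreg 1)]
  refine le_trans (card_le_of_le fun x hx => hE x ?_) hcard
  have : x ^ (p ^ 1) = 1 := hx
  rwa [pow_one] at this

/-- If the elements of order `p` are central, so are those of the quotient by them. -/
theorem commutator_mem_of_pow_mem (hp2 : p ≠ 2) (hG : IsPGroup p G) {E : Subgroup G} [E.Normal]
    (hEc : E ≤ center G) (hEp : ∀ x ∈ E, x ^ p = 1) (hE : ∀ x : G, x ^ p = 1 → x ∈ E) :
    ∀ (k : ℕ) (x g : G), Nat.card (closure ({x, g} : Set G)) = k → x ^ p ∈ E → ⁅x, g⁆ ∈ E := by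
  intro k
  induction k using Nat.strong_induction_on with
  | _ k ih =>
    intro x g hk hx
    by_cases hab : x * g = g * x
    · rw [commutatorElement_eq_one_iff_mul_comm.mpr hab]; exact one_mem E
    obtain ⟨M, hMlt, hxM, hcM⟩ :=
      PGroupsRegular.exists_lt hG hab (PGroupsRegular.mem_pair_left x g)
    set y := g * x⁻¹ * g⁻¹ with hy
    have hyM : y ∈ M := PGroupsRegular.conj_mem_of_commutator_le hcM
      (PGroupsRegular.mem_pair_right x g) (inv_mem (PGroupsRegular.mem_pair_left x g)) (inv_mem hxM)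
    have hxy : ⁅x, y⁆ ∈ E := ih _ (hk ▸ (card_le_of_le (PGroupsRegular.closure_pair_le hxM hyM)).trans_lt
      (PGroupsRegular.card_lt_of_lt hMlt)) x y rfl hx
    have hyx : ⁅y, x⁆ ∈ E := by rw [← commutatorElement_inv]; exact inv_mem hxy
    have hyp : y ^ p = (x ^ p)⁻¹ := by
      rw [hy, conj_pow, inv_pow, mem_center_iff.mp (inv_mem (hEc hx)) g, mul_inv_cancel_right]
    have hmul := mul_pow_prime (p := p) hp2 (x := x) (y := y)
      (mem_center_iff.mp (hEc hyx) x).symm (mem_center_iff.mp (hEc hyx) y).symm (hEp _ hyx)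
    rw [hyp, mul_inv_cancel] at hmul
    have e : ⁅x, g⁆ = x * y := by rw [hy, commutatorElement_def]; group
    rw [e]
    exact hE _ hmul

/-- A `p`-group, `p` odd, with at most `p^2` elements of order dividing `p`, all central, is
metacyclic. -/
theorem isMetacyclic_of_central : ∀ (k : ℕ) (G : Type u) [Group G] [Finite G], Nat.card G = k →
    p ≠ 2 → IsPGroup p G → ∀ E : Subgroup G, E ≤ center G → (∀ x : G, x ∈ E ↔ x ^ p = 1) →
    Nat.card E ≤ p ^ 2 → Cfsg.IsMetacyclic G := by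
  intro k
  induction k using Nat.strong_induction_on with
  | _ k ih =>
    intro G _ _ hk hp2 hG E hEc hEiff hcard
    by_cases hbot : E = ⊥
    · have : Subsingleton G := by
        rw [← Finite.card_le_one_iff_subsingleton]
        rcases hG.card_eq_or_dvd with h1 | h1
        · exact h1.le
        · exfalso
          obtain ⟨x, hx⟩ := exists_prime_orderOf_dvd_card' p h1
          have h2 : x ∈ E := (hEiff x).mpr (by rw [← hx]; exact pow_orderOf_eq_one x)
          rw [hbot, mem_bot] at h2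
          rw [h2, orderOf_one] at hx
          exact hp.out.one_lt.ne hx
      exact ⟨⊥, inferInstance, isCyclic_of_subsingleton,
        isCyclic_of_surjective (QuotientGroup.mk' ⊥) (QuotientGroup.mk'_surjective _)⟩
    haveI : E.Normal := PGroupsBasic.normal_of_le_center hEc
    let π := QuotientGroup.mk' E
    let X : Subgroup G :=
      { carrier := {x | x ^ p ∈ E}
        one_mem' := by simp
        mul_mem' := fun {a b} ha hb => by
          have hc := commutator_mem_of_pow_mem hp2 hG hEc (fun x h => (hEiff x).mp h)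
            (fun x h => (hEiff x).mpr h) _ b a rfl hb
          show (a * b) ^ p ∈ E
          rw [mul_pow_prime hp2 (mem_center_iff.mp (hEc hc) a).symm
            (mem_center_iff.mp (hEc hc) b).symm ((hEiff _).mp hc)]
          exact mul_mem ha hb
        inv_mem' := fun {a} ha => by
          show a⁻¹ ^ p ∈ E
          rw [inv_pow]; exact inv_mem ha }
    have hEX : E ≤ X := fun x hx => show x ^ p ∈ E by rw [(hEiff x).mp hx]; exact one_mem E
    let f : X →* G := MonoidHom.mk' (fun x => (x : G) ^ p) fun a b => by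
      have hc := commutator_mem_of_pow_mem hp2 hG hEc (fun x h => (hEiff x).mp h)
        (fun x h => (hEiff x).mpr h) _ (b : G) a rfl b.2
      exact mul_pow_prime hp2 (mem_center_iff.mp (hEc hc) a).symm
        (mem_center_iff.mp (hEc hc) b).symm ((hEiff _).mp hc)
    have hker : f.ker = E.subgroupOf X := by
      ext x
      rw [MonoidHom.mem_ker, mem_subgroupOf, hEiff]
      rfl
    have hcardX : Nat.card (X.map π) ≤ p ^ 2 := by
      have h1 : Nat.card (X.map π) = E.relIndex X := by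
        conv_rhs => arg 1; rw [← QuotientGroup.ker_mk' E, ← MonoidHom.comap_bot]
        rw [relIndex_comap, relIndex_bot_left]
      rw [h1, Subgroup.relIndex, ← hker, Subgroup.index_ker]
      refine le_trans (card_le_of_le ?_) hcard
      rintro _ ⟨x, rfl⟩
      exact x.2
    have hlt : Nat.card (G ⧸ E) < k := by
      rw [← hk, ← E.card_mul_index, ← index_eq_card]
      exact lt_mul_left (Nat.pos_of_ne_zero index_ne_zero_of_finite)
        (lt_of_le_of_ne Nat.card_pos fun h => hbot (eq_bot_of_card_eq _ h.symm))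
    have hmeta : Cfsg.IsMetacyclic (G ⧸ E) := by
      refine ih _ hlt (G ⧸ E) rfl hp2 (hG.to_quotient E) (X.map π) ?_ (fun q => ?_) hcardX
      · rintro _ ⟨x, hx, rfl⟩
        refine mem_center_iff.mpr fun q => ?_
        obtain ⟨g, rfl⟩ := QuotientGroup.mk'_surjective E q
        exact ((mk_commute_iff x g).mpr (commutator_mem_of_pow_mem hp2 hG hEc
          (fun x h => (hEiff x).mp h) (fun x h => (hEiff x).mpr h) _ x g rfl hx)).eq.symm
      · obtain ⟨g, rfl⟩ := QuotientGroup.mk'_surjective E q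
        rw [← map_pow, mk_eq_one_iff]
        refine ⟨?_, fun h => ⟨g, h, rfl⟩⟩
        rintro ⟨x, hx, he⟩
        have : x⁻¹ * g ∈ E := QuotientGroup.eq.mp he
        have h2 : x * (x⁻¹ * g) ∈ X := X.mul_mem hx (hEX this)
        rwa [mul_inv_cancel_left] at h2
    exact isMetacyclic_of_cyclic_commutator hp2 hG (isCyclic_commutator_of_quotient hEc hmeta) E
      (fun x h => (hEiff x).mpr h) hcard

end Basic

section Main

variable {G : Type u} [Group G] [Finite G]

/-- The data of a normal `E_{p^2}` whose centraliser `C` has index `p`. -/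
structure Setting (p : ℕ) (G : Type u) [Group G] where
  E : Subgroup G
  hEn : E.Normal
  hEel : Cfsg.IsElementaryAbelian p E
  hEcard : Nat.card E = p ^ 2
  hCp : ∀ x ∈ centralizer (E : Set G), x ^ p = 1 → x ∈ E
  hCi : (centralizer (E : Set G)).index = p

variable (S : Setting p G)

/-- The centraliser of `E`. -/
abbrev Setting.C : Subgroup G := centralizer (S.E : Set G)

/-- The subgroup of order `p` of `E` centralised by `G`. -/
abbrev Setting.Z : Subgroup G := S.E ⊓ center G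

theorem Setting.E_le_C : S.E ≤ S.C := PGroupsBasic.le_centralizer_of_isMulCommutative S.hEel.1

theorem Setting.C_normal (hG : IsPGroup p G) : S.C.Normal := PGroupsBasic.normal_of_index_eq hG S.hCi

theorem Setting.not_central (x : G) (hx : x ∉ S.C) : ¬ S.E ≤ center G := fun h =>
  hx (mem_centralizer_iff.mpr fun e he => (mem_center_iff.mp (h he) x).symm)

theorem Setting.card_Z (hG : IsPGroup p G) : Nat.card S.Z = p := by
  haveI := S.hEn
  have hne : S.E ≠ ⊥ := fun h => by
    have := S.hEcard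
    rw [h, card_bot] at this
    exact absurd this.symm (Nat.one_lt_pow two_ne_zero hp.out.one_lt).ne'
  have h1 := PGroupsBasic.inf_center_ne_bot hG hne
  obtain ⟨i, hi2, hi⟩ := (Nat.dvd_prime_pow hp.out).mp
    (S.hEcard ▸ card_dvd_of_le (inf_le_left : S.Z ≤ S.E))
  interval_cases i
  · exact absurd (eq_bot_of_card_eq _ (hi.trans (pow_zero p))) h1
  · exact hi.trans (pow_one p)
  · exfalso
    have h2 : S.Z = S.E := eq_of_le_of_card_ge inf_le_left (by rw [hi, S.hEcard])
    have h3 : centralizer (S.E : Set G) = ⊤ := eq_top_iff.mpr fun g _ =>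
      mem_centralizer_iff.mpr fun e he => (mem_center_iff.mp ((h2.ge he).2) g).symm
    have := S.hCi
    rw [h3, index_top] at this
    exact hp.out.one_lt.ne this

theorem Setting.inf_centralizer (hG : IsPGroup p G) {x : G} (hx : x ∉ S.C) {e : G} (he : e ∈ S.E)
    (hc : Commute e x) : e ∈ S.Z := by
  have hle : S.Z ≤ S.E ⊓ centralizer ({x} : Set G) := fun z hz =>
    ⟨hz.1, mem_centralizer_singleton_iff.mpr (mem_center_iff.mp hz.2 x).symm⟩
  have heq : S.E ⊓ centralizer ({x} : Set G) = S.Z := by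
    refine (eq_of_le_of_card_ge hle ?_).symm
    obtain ⟨i, hi2, hi⟩ := (Nat.dvd_prime_pow hp.out).mp
      (S.hEcard ▸ card_dvd_of_le (inf_le_left : S.E ⊓ centralizer ({x} : Set G) ≤ S.E))
    rw [hi, S.card_Z hG]
    interval_cases i
    · rw [pow_zero]; exact hp.out.one_lt.le
    · rw [pow_one]
    · exfalso
      have h2 : S.E ⊓ centralizer ({x} : Set G) = S.E :=
        eq_of_le_of_card_ge inf_le_left (by rw [hi, S.hEcard])
      exact hx (mem_centralizer_iff.mpr fun e he => mem_centralizer_singleton_iff.mp (h2.ge he).2)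
  exact heq.le ⟨he, mem_centralizer_singleton_iff.mpr hc.eq⟩

/-- The fixed points in `C` of an element outside `C` form a cyclic group. -/
theorem Setting.exists_gen (hp2 : p ≠ 2) (hG : IsPGroup p G) {x : G} (hx : x ∉ S.C) :
    ∃ w, S.C ⊓ centralizer ({x} : Set G) = zpowers w := by
  set W := S.C ⊓ centralizer ({x} : Set G)
  have hcyc : IsCyclic W := by
    refine (PGroupsCyclic.isCyclic_or_quaternion (hG.to_subgroup W) fun H K hH hK => ?_).resolve_right
      fun h => hp2 h.1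
    have key : ∀ L : Subgroup W, Nat.card L = p → L.map W.subtype = S.Z := by
      intro L hL
      refine eq_of_le_of_card_ge ?_ (by rw [S.card_Z hG, card_map_of_injective W.subtype_injective, hL])
      rintro _ ⟨l, hl, rfl⟩
      exact S.inf_centralizer hG hx (S.hCp _ l.2.1
        (congrArg Subtype.val (PGroupsBasic.pow_eq_one_of_card hL hl)))
        (mem_centralizer_singleton_iff.mp l.2.2)
    exact map_injective W.subtype_injective ((key H hH).trans (key K hK).symm)
  obtain ⟨w, hw⟩ := hcyc.exists_generator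
  refine ⟨w, le_antisymm (fun v hv => ?_) (zpowers_le.mpr w.2)⟩
  obtain ⟨i, hi⟩ := mem_zpowers_iff.mp (hw ⟨v, hv⟩)
  exact mem_zpowers_iff.mpr ⟨i, by rw [← SubgroupClass.coe_zpow, hi]⟩

theorem mem_zpowers_pow_of_not_dvd (hG : IsPGroup p G) {w : G} {k : ℤ} (hk : ¬ (p : ℤ) ∣ k) :
    w ∈ zpowers (w ^ k) := by
  obtain ⟨n, hn⟩ := hG w
  obtain ⟨a, b, hab⟩ : IsCoprime k ((p : ℤ) ^ n) :=
    ((Nat.prime_iff_prime_int.mp hp.out).coprime_iff_not_dvd.mpr hk).symm.pow_right
  refine mem_zpowers_iff.mpr ⟨a, ?_⟩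
  conv_rhs => rw [← zpow_one w, ← hab, zpow_add, mul_comm a k, zpow_mul, mul_comm b,
    zpow_mul w ((p : ℤ) ^ n) b, ← Nat.cast_pow, zpow_natCast, hn, one_zpow, mul_one]

theorem exists_zpow_mul_mem (hG : IsPGroup p G) {C : Subgroup G} (hC : C.index = p) {x : G}
    (hx : x ∉ C) (g : G) : ∃ i : ℤ, g * x ^ i ∈ C := by
  haveI := PGroupsBasic.normal_of_index_eq hG hC
  have htop : C ⊔ zpowers x = ⊤ := (PGroupsBasic.isCoatom_of_index_eq hC).2 _
    (lt_of_le_not_ge le_sup_left fun h => hx (h (mem_sup_right (mem_zpowers x))))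
  obtain ⟨c, hc, v, hv, rfl⟩ := mem_sup_of_normal_left.mp (htop ▸ mem_top g)
  obtain ⟨i, rfl⟩ := mem_zpowers_iff.mp hv
  exact ⟨-i, by rw [mul_assoc, ← zpow_add, add_neg_cancel, zpow_zero, mul_one]; exact hc⟩

/-- An element of `C` normalising the fixed points of `s`, outside `E` times these fixed points,
with `p`-th power among them, has its `p`-th power generating them. -/
theorem Setting.zpowers_pow_eq (hp2 : p ≠ 2) (hG : IsPGroup p G) {s w t : G} (hs : s ∉ S.C)
    (hw : S.C ⊓ centralizer ({s} : Set G) = zpowers w) (ht : t ∈ S.C)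
    (hnorm : t * w * t⁻¹ ∈ zpowers w) (htW : t ^ p ∈ zpowers w)
    (hout : t ∉ S.E ⊔ zpowers w) : zpowers (t ^ p) = zpowers w := by
  obtain ⟨k, hk⟩ := mem_zpowers_iff.mp htW
  by_cases hpk : (p : ℤ) ∣ k
  swap
  · refine le_antisymm (zpowers_le.mpr htW) (zpowers_le.mpr ?_)
    rw [← hk]
    exact mem_zpowers_pow_of_not_dvd hG hpk
  exfalso
  obtain ⟨j, rfl⟩ := hpk
  obtain ⟨r, hr⟩ := mem_zpowers_iff.mp hnorm
  obtain ⟨m, hm⟩ := IsPGroup.iff_orderOf.mp hG w
  have hcm : Commute (t ^ p) w := by rw [← hk]; exact (Commute.refl w).zpow_left _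
  have hdvd := PGroupsCyclic.dvd_of_pow_mem hr.symm hcm
  rw [hm] at hdvd
  push_cast at hdvd
  have h1 := (PGroupsCyclic.int_pow_prime_sub_one hp.out hp2 hdvd).1
  have hwW : w ∈ S.C ⊓ centralizer ({s} : Set G) := hw ▸ mem_zpowers w
  -- `[t, w]` is in the central subgroup of order `p`
  have htw : ⁅t, w⁆ = w ^ (r - 1) := by rw [commutatorElement_def, ← hr, zpow_sub_one]
  have hz : ⁅t, w⁆ ∈ S.Z := by
    refine S.inf_centralizer hG hs (S.hCp _ ?_ ?_) ?_
    · rw [htw]; exact zpow_mem (mem_inf.mp hwW).1 _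
    · rw [htw, ← zpow_natCast, ← zpow_mul, ← orderOf_dvd_iff_zpow_eq_one, hm]
      push_cast
      rwa [mul_comm]
    · rw [htw]
      exact (show Commute w s from mem_centralizer_singleton_iff.mp hwW.2).zpow_left _
  have hzc : ⁅t, w ^ (-j)⁆ ∈ S.Z := by
    haveI : S.Z.Normal := PGroupsBasic.normal_of_le_center inf_le_right
    rw [← mk_commute_iff, map_zpow]
    exact ((mk_commute_iff t w).mpr hz).zpow_right _
  have hzc' : ⁅w ^ (-j), t⁆ ∈ S.Z := by rw [← commutatorElement_inv]; exact inv_mem hzc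
  have hpow : (t * w ^ (-j)) ^ p = 1 := by
    rw [mul_pow_prime hp2 (mem_center_iff.mp hzc'.2 t).symm
      (mem_center_iff.mp hzc'.2 _).symm (S.hEel.2 _ hzc'.1), ← hk, ← zpow_natCast (w ^ (-j)),
      ← zpow_mul, ← zpow_add, show (p : ℤ) * j + -j * (p : ℤ) = 0 by ring, zpow_zero]
  have hmem : t * w ^ (-j) ∈ S.E := S.hCp _ (mul_mem ht (zpow_mem (mem_inf.mp hwW).1 _)) hpow
  apply hout
  have : t = t * w ^ (-j) * w ^ j := by group
  rw [this]
  exact mul_mem (mem_sup_left hmem) (mem_sup_right (zpow_mem (mem_zpowers w) j))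

/-- Without elements of order `p` outside `C` the group is metacyclic, or `p = 3` and it has
maximal class. -/
theorem Setting.no_outside (hp2 : p ≠ 2) (hG : IsPGroup p G)
    (hout : ∀ x : G, x ^ p = 1 → x ∈ S.E) :
    Cfsg.IsMetacyclic G ∨ (p = 3 ∧ ∀ n, Nat.card G = p ^ n → Group.nilpotencyClass G = n - 1) := by
  by_cases hp3 : 3 < p
  · left
    have hle : Nat.card (Cfsg.omegaOne p (⊤ : Subgroup G)) ≤ p ^ 2 := by
      rw [← S.hEcard]
      refine card_le_of_le ((closure_le _).mpr fun x hx => hout x hx.2)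
    have hreg := PGroupsHuppert.regular_of_omega_le hp3 hG hle
    refine PGroupsHuppert.isMetacyclic_of_regular hreg ?_
    rwa [← PGroupsHuppert.card_omega_eq_index hG (PGroupsRegular.regAt_of_regular hreg 1),
      ← PGroupsHuppert.omegaOne_top_eq hG (PGroupsRegular.regAt_of_regular hreg 1)]
  haveI := S.hEn
  haveI hCn := S.C_normal hG
  obtain ⟨x, hx⟩ : ∃ x, x ∉ S.C := by
    simpa [eq_top_iff'] using (PGroupsBasic.isCoatom_of_index_eq (p := p) S.hCi).1
  obtain ⟨w, hw⟩ := S.exists_gen hp2 hG hx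
  have hxp : x ^ p ∈ zpowers w := by
    rw [← hw]
    have hxC := (centralizer (S.E : Set G)).pow_index_mem x
    rw [S.hCi] at hxC
    exact ⟨hxC,
      mem_centralizer_singleton_iff.mpr (Commute.pow_self x p).eq⟩
  have hgen : zpowers (x ^ p) = zpowers w := by
    obtain ⟨k, hk⟩ := mem_zpowers_iff.mp hxp
    by_cases hpk : (p : ℤ) ∣ k
    swap
    · refine le_antisymm (zpowers_le.mpr hxp) (zpowers_le.mpr ?_)
      rw [← hk]; exact mem_zpowers_pow_of_not_dvd hG hpk
    exfalso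
    obtain ⟨j, rfl⟩ := hpk
    have hwx : Commute x w := by
      have : w ∈ S.C ⊓ centralizer ({x} : Set G) := hw ▸ mem_zpowers w
      exact (show Commute w x from mem_centralizer_singleton_iff.mp this.2).symm
    have h1 : (x * w ^ (-j)) ^ p = 1 := by
      rw [(hwx.zpow_right _).mul_pow, ← hk, ← zpow_natCast (w ^ (-j)), ← zpow_mul, ← zpow_add,
        show (p : ℤ) * j + -j * (p : ℤ) = 0 by ring, zpow_zero]
    have h2 : x * w ^ (-j) ∈ S.C := S.E_le_C (hout _ h1)
    have h3 : w ^ (-j) ∈ S.C := zpow_mem (hw.ge.trans inf_le_left (mem_zpowers w)) _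
    exact hx ((S.C.mul_mem_cancel_right h3).mp h2)
  by_cases hxZ : x ^ p ∈ S.Z
  · -- maximal class
    right
    refine ⟨?_, fun n hn => ?_⟩
    · have := hp.out.two_le; omega
    have hxp1 : x ^ p ≠ 1 := fun h => hx (S.E_le_C (hout x h))
    have hZeq : zpowers w = S.Z := by
      rw [← hgen]
      exact eq_of_le_of_card_ge (zpowers_le.mpr hxZ) (by
        rw [S.card_Z hG, Nat.card_zpowers, orderOf_eq_prime (S.hEel.2 _ hxZ.1) hxp1])
    refine MaxClassTwo.class_of_self_centralizing n G hn (zpowers x) ?_ ?_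
    · rw [Nat.card_zpowers]
      refine orderOf_eq_prime_pow (n := 1) (by rwa [pow_one]) ?_
      rw [show p ^ (1 + 1) = p * p by ring, pow_mul, S.hEel.2 _ hxZ.1]
    · refine le_antisymm (fun g hg => ?_) fun g hg => ?_
      · have hgx : Commute g x := (mem_centralizer_iff.mp hg x (mem_zpowers x)).symm
        obtain ⟨i, hi⟩ := exists_zpow_mul_mem hG S.hCi hx g
        have : g * x ^ i ∈ zpowers w := hw ▸
          ⟨hi, mem_centralizer_singleton_iff.mpr ((hgx.mul_left ((Commute.refl x).zpow_left i)).eq)⟩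
        rw [← hgen] at this
        obtain ⟨l, hl⟩ := mem_zpowers_iff.mp this
        refine mem_zpowers_iff.mpr ⟨(p : ℤ) * l - i, ?_⟩
        rw [zpow_sub, zpow_mul, zpow_natCast, hl, mul_inv_cancel_right]
      · exact mem_centralizer_iff.mpr fun a ha =>
          PGroupsBasic.comm_of_isMulCommutative (PGroupsBasic.isMulCommutative_zpowers x) ha hg
  left
  -- an element of order `p^2` of `C` fixed by `x`
  obtain ⟨m, hm⟩ := IsPGroup.iff_orderOf.mp hG (x ^ p)
  have hm2 : 2 ≤ m := by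
    by_contra hlt
    apply hxZ
    have h1 : (x ^ p) ^ p = 1 := orderOf_dvd_iff_pow_eq_one.mp (hm ▸ by
      interval_cases m <;> simp)
    exact S.inf_centralizer hG hx (hout _ h1) (Commute.pow_self x p)
  set w1 := (x ^ p) ^ (p ^ (m - 2)) with hw1
  have hw1o : orderOf w1 = p ^ 2 := by
    rw [hw1, orderOf_pow_of_dvd (pow_ne_zero _ hp.out.ne_zero) (hm ▸ pow_dvd_pow p (by omega)), hm,
      Nat.pow_div (by omega) hp.out.pos]
    congr 1; omega
  have hw1W : w1 ∈ S.C ⊓ centralizer ({x} : Set G) := hw ▸ pow_mem hxp _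
  have hw1x : Commute w1 x := mem_centralizer_singleton_iff.mp hw1W.2
  have hw1p : w1 ^ p ∈ S.Z := by
    refine S.inf_centralizer hG hx (hout _ ?_) (hw1x.pow_left p)
    rw [← pow_mul, ← sq, ← hw1o]; exact pow_orderOf_eq_one w1
  -- `C` has cyclic derived subgroup
  have hCmeta : Cfsg.IsMetacyclic S.C := by
    refine isMetacyclic_of_central _ S.C rfl hp2 (hG.to_subgroup _) (S.E.subgroupOf S.C) ?_ ?_ ?_
    · exact fun e he => mem_center_iff.mpr fun c =>
        Subtype.ext (mem_centralizer_iff.mp c.2 _ he).symm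
    · intro c
      rw [mem_subgroupOf]
      exact ⟨fun h => Subtype.ext (S.hEel.2 _ h), fun h => S.hCp _ c.2 (congrArg Subtype.val h)⟩
    · rw [Nat.card_congr (subgroupOfEquivOfLe S.E_le_C).toEquiv, S.hEcard]
  have hCc : IsCyclic (⁅S.C, S.C⁆ : Subgroup G) := by
    haveI : (⊥ : Subgroup S.C).Normal := inferInstance
    have hmeta' : Cfsg.IsMetacyclic (S.C ⧸ (⊥ : Subgroup S.C)) := by
      obtain ⟨N, hN, hN1, hN2⟩ := hCmeta
      let e := (QuotientGroup.quotientBot (G := S.C)).symm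
      haveI : (N.map (e : S.C →* S.C ⧸ (⊥ : Subgroup S.C))).Normal :=
        Subgroup.Normal.map hN _ e.surjective
      refine ⟨N.map (e : S.C →* S.C ⧸ (⊥ : Subgroup S.C)), inferInstance,
        isCyclic_of_surjective (e.subgroupMap N).toMonoidHom (e.subgroupMap N).surjective, ?_⟩
      exact isCyclic_of_surjective (QuotientGroup.congr N _ e rfl).toMonoidHom
        (QuotientGroup.congr N _ e rfl).surjective
    haveI := isCyclic_commutator_of_quotient bot_le hmeta'
    rw [← Subgroup.map_subtype_commutator]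
    exact isCyclic_of_surjective
      ((commutator S.C).equivMapOfInjective _ S.C.subtype_injective).toMonoidHom
      ((commutator S.C).equivMapOfInjective _ S.C.subtype_injective).surjective
  haveI hDn : (⁅S.C, S.C⁆ : Subgroup G).Normal := Subgroup.commutator_normal _ _
  have hDE : ⁅S.C, S.C⁆ ⊓ S.E ≤ S.Z := by
    refine le_inf inf_le_right ?_
    set L := ⁅S.C, S.C⁆ ⊓ S.E
    haveI : L.Normal := inferInstance
    by_cases hL : L = ⊥
    · rw [hL]; exact bot_le
    haveI : IsCyclic L := isCyclic_of_injective (inclusion (inf_le_left : L ≤ _))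
      (inclusion_injective _)
    have h1 : Nat.card L ≤ p :=
      PGroupsBasic.card_le_prime_of_isCyclic inferInstance fun a ha => S.hEel.2 a ha.2
    refine PGroupsBasic.le_center_of_card_eq_prime hG (le_antisymm h1 ?_)
    obtain ⟨a, ha, hao⟩ := PGroupsBasic.exists_orderOf_eq_of_ne_bot (p := p) (hG.to_subgroup L) hL
    rw [← hao, ← Nat.card_zpowers]
    exact card_le_of_le (zpowers_le.mpr ha)
  haveI hZn : S.Z.Normal := PGroupsBasic.normal_of_le_center inf_le_right
  let π := QuotientGroup.mk' S.Z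
  have hZe : ∀ e ∈ S.E, ∀ g, ⁅e, g⁆ ∈ S.Z := by
    intro e he g
    refine S.inf_centralizer hG hx ?_ ?_
    · rw [commutatorElement_def, mul_assoc, mul_assoc]
      exact mul_mem he (by simpa [mul_assoc] using S.hEn.conj_mem _ (inv_mem he) g)
    · haveI : (S.E.map π).Normal := Subgroup.Normal.map S.hEn _ (QuotientGroup.mk'_surjective _)
      have hc : Nat.card (S.E.map π) = p := by
        have h1 : Nat.card (S.E.map π) = S.Z.relIndex S.E := by
          conv_rhs => arg 1; rw [← QuotientGroup.ker_mk' S.Z, ← MonoidHom.comap_bot]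
          rw [relIndex_comap, relIndex_bot_left]
        have h2 := Subgroup.relIndex_mul_relIndex ⊥ S.Z S.E bot_le inf_le_left
        rw [relIndex_bot_left, relIndex_bot_left, S.card_Z hG, S.hEcard, ← h1, sq] at h2
        exact Nat.eq_of_mul_eq_mul_left hp.out.pos h2
      have h3 := mem_center_iff.mp (PGroupsBasic.le_center_of_card_eq_prime (hG.to_quotient S.Z) hc
        (mem_map_of_mem π he)) (π g)
      exact (mem_center_iff.mp ((mk_commute_iff e g).mp h3.symm).2 x).symm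
  have hw1Z : ∀ g, ⁅w1, g⁆ ∈ S.Z := by
    intro g
    obtain ⟨i, hi⟩ := exists_zpow_mul_mem hG S.hCi hx g
    have hcw : ∀ c ∈ S.C, ⁅w1, c⁆ ∈ S.Z := by
      intro c hc
      refine hDE ⟨commutator_mem_commutator (mem_inf.mp hw1W).1 hc, ?_⟩
      have h1 := commutator_mem_of_pow_mem (p := p) hp2 (hG.to_subgroup S.C)
        (E := S.E.subgroupOf S.C)
        (fun e he => mem_center_iff.mpr fun c => Subtype.ext (mem_centralizer_iff.mp c.2 _ he).symm)
        (fun c hc => Subtype.ext (S.hEel.2 _ hc))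
        (fun c hc' => S.hCp _ c.2 (congrArg Subtype.val hc')) _ ⟨w1, (mem_inf.mp hw1W).1⟩ ⟨c, hc⟩ rfl
        (show w1 ^ p ∈ S.E from hw1p.1)
      exact h1
    rw [← mk_commute_iff]
    have h1 := (mk_commute_iff w1 (g * x ^ i)).mpr (hcw _ hi)
    have h2 : Commute (π w1) (π (x ^ i)) := (hw1x.zpow_right i).map π
    have h3 : Commute (π w1) (π (g * x ^ i) * (π (x ^ i))⁻¹) := h1.mul_right h2.inv_right
    rwa [map_mul, mul_inv_cancel_right] at h3
  let K₀ := S.E ⊔ zpowers w1
  have hK₀c : K₀.map π ≤ center (G ⧸ S.Z) := by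
    rw [map_le_iff_le_comap]
    refine sup_le (fun e he => ?_) (zpowers_le.mpr ?_)
    · refine mem_center_iff.mpr fun q => ?_
      obtain ⟨g, rfl⟩ := QuotientGroup.mk'_surjective S.Z q
      exact ((mk_commute_iff e g).mpr (hZe e he g)).eq.symm
    · refine mem_center_iff.mpr fun q => ?_
      obtain ⟨g, rfl⟩ := QuotientGroup.mk'_surjective S.Z q
      exact ((mk_commute_iff w1 g).mpr (hw1Z g)).eq.symm
  have hw1E : w1 ∉ S.E := fun h => by
    have := orderOf_dvd_iff_pow_eq_one.mpr (S.hEel.2 _ h)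
    rw [hw1o] at this
    have h2 := Nat.le_of_dvd hp.out.pos this
    nlinarith [hp.out.one_lt]
  have hw1p1 : w1 ^ p ≠ 1 := fun h => hw1E (S.hCp _ (mem_inf.mp hw1W).1 h)
  have hiff : ∀ q : G ⧸ S.Z, q ∈ K₀.map π ↔ q ^ p = 1 := by
    intro q
    constructor
    · intro hq
      obtain ⟨g, hg, rfl⟩ := hq
      obtain ⟨e, he, v, hv, rfl⟩ := mem_sup_of_normal_left.mp hg
      obtain ⟨i, rfl⟩ := mem_zpowers_iff.mp hv
      have hcomm : Commute e (w1 ^ i) :=
        ((show Commute e w1 from mem_centralizer_iff.mp (mem_inf.mp hw1W).1 e he)).zpow_right i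
      rw [← map_pow, mk_eq_one_iff, hcomm.mul_pow, S.hEel.2 _ he, one_mul, ← zpow_natCast,
        zpow_comm, zpow_natCast]
      exact zpow_mem hw1p _
    · intro hq
      obtain ⟨g, rfl⟩ := QuotientGroup.mk'_surjective S.Z q
      rw [← map_pow, mk_eq_one_iff] at hq
      refine mem_map_of_mem π ?_
      have hgC : g ∈ S.C := by
        by_contra hgC
        obtain ⟨i, hi⟩ := exists_zpow_mul_mem hG S.hCi hgC x
        obtain ⟨v, hv⟩ := S.exists_gen hp2 hG hgC
        -- same computation as for `x`: the fixed points of `g` are generated by `g ^ p`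
        have hgp : g ^ p ∈ S.Z := hq
        have h1 : x ∈ S.C ⊔ zpowers g := by
          have := exists_zpow_mul_mem hG S.hCi hgC x
          exact (show x = x * g ^ i * (g ^ i)⁻¹ by group) ▸
            mul_mem (mem_sup_left hi) (mem_sup_right (inv_mem (zpow_mem (mem_zpowers g) i)))
        have hw1g : Commute (π w1) (π g) := (mk_commute_iff w1 g).mpr (hw1Z g)
        have hpow : (π g) ^ p = 1 := by rw [← map_pow, mk_eq_one_iff]; exact hgp
        -- then `g * w1 ^ l` would have order dividing `p`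
        obtain ⟨l, hl⟩ : ∃ l : ℤ, g ^ p * (w1 ^ p) ^ l = 1 := by
          have hz : zpowers (w1 ^ p) = S.Z := eq_of_le_of_card_ge (zpowers_le.mpr hw1p) (by
            rw [S.card_Z hG, Nat.card_zpowers, orderOf_eq_prime (S.hEel.2 _ hw1p.1) hw1p1])
          obtain ⟨l, hl⟩ := mem_zpowers_iff.mp (hz.symm ▸ hgp : g ^ p ∈ zpowers (w1 ^ p))
          exact ⟨-l, by rw [← hl, ← zpow_add, add_neg_cancel, zpow_zero]⟩
        have hc1 : ⁅g, w1 ^ l⁆ ∈ S.Z := by
          rw [← mk_commute_iff, map_zpow]; exact hw1g.symm.zpow_right l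
        have hc2 : ⁅w1 ^ l, g⁆ ∈ S.Z := by rw [← commutatorElement_inv]; exact inv_mem hc1
        have h2 : (g * w1 ^ l) ^ p = 1 := by
          rw [mul_pow_prime hp2 (mem_center_iff.mp hc2.2 g).symm
            (mem_center_iff.mp hc2.2 _).symm (S.hEel.2 _ hc2.1), ← zpow_natCast (w1 ^ l),
            zpow_comm, zpow_natCast]
          exact hl
        exact hgC ((S.C.mul_mem_cancel_right (zpow_mem (mem_inf.mp hw1W).1 l)).mp (S.E_le_C (hout _ h2)))
      have hz : zpowers (w1 ^ p) = S.Z := eq_of_le_of_card_ge (zpowers_le.mpr hw1p) (by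
        rw [S.card_Z hG, Nat.card_zpowers, orderOf_eq_prime (S.hEel.2 _ hw1p.1) hw1p1])
      obtain ⟨l, hl⟩ := mem_zpowers_iff.mp (hz.symm ▸ hq : g ^ p ∈ zpowers (w1 ^ p))
      have hc : ⁅w1 ^ (-l), g⁆ ∈ S.Z := by
        rw [← mk_commute_iff, map_zpow]; exact ((mk_commute_iff w1 g).mpr (hw1Z g)).zpow_left _
      have h2 : (g * w1 ^ (-l)) ^ p = 1 := by
        rw [mul_pow_prime hp2 (mem_center_iff.mp hc.2 g).symm (mem_center_iff.mp hc.2 _).symm
          (S.hEel.2 _ hc.1), ← zpow_natCast (w1 ^ (-l)), zpow_comm, zpow_natCast, ← hl,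
          ← zpow_add, add_neg_cancel, zpow_zero]
      have hge : g = g * w1 ^ (-l) * w1 ^ l := by group
      rw [hge]
      exact mul_mem (mem_sup_left (hout _ h2)) (mem_sup_right (zpow_mem (mem_zpowers _) _))
  have hcardK : Nat.card (K₀.map π) ≤ p ^ 2 := by
    have hle : S.Z ≤ K₀ := inf_le_left.trans le_sup_left
    have h1 : Nat.card (K₀.map π) = S.Z.relIndex K₀ := by
      conv_rhs => arg 1; rw [← QuotientGroup.ker_mk' S.Z, ← MonoidHom.comap_bot]
      rw [relIndex_comap, relIndex_bot_left]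
    rw [h1, ← relIndex_mul_relIndex S.Z S.E K₀ inf_le_left le_sup_left]
    have h2 : S.Z.relIndex S.E = p := by
      have h2 := Subgroup.relIndex_mul_relIndex ⊥ S.Z S.E bot_le inf_le_left
      rw [relIndex_bot_left, relIndex_bot_left, S.card_Z hG, S.hEcard, sq] at h2
      exact Nat.eq_of_mul_eq_mul_left hp.out.pos h2
    have h3 : S.E.relIndex K₀ ≤ p := by
      rw [Subgroup.relIndex_sup_left]
      refine Nat.le_of_dvd hp.out.pos ?_
      have hle : zpowers (w1 ^ p) ≤ S.E := zpowers_le.mpr hw1p.1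
      refine (Subgroup.relIndex_dvd_of_le_left _ hle).trans (dvd_of_eq ?_)
      have h4 := Subgroup.relIndex_mul_relIndex ⊥ (zpowers (w1 ^ p)) (zpowers w1) bot_le
        (zpowers_le.mpr (pow_mem (mem_zpowers w1) p))
      rw [relIndex_bot_left, relIndex_bot_left, Nat.card_zpowers, Nat.card_zpowers, hw1o,
        orderOf_eq_prime (S.hEel.2 _ hw1p.1) hw1p1, sq] at h4
      exact Nat.eq_of_mul_eq_mul_left hp.out.pos h4
    rw [h2, sq]
    exact Nat.mul_le_mul_left p h3
  have hmeta : Cfsg.IsMetacyclic (G ⧸ S.Z) :=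
    isMetacyclic_of_central _ _ rfl hp2 (hG.to_quotient _) _ hK₀c hiff hcardK
  exact isMetacyclic_of_cyclic_commutator hp2 hG (isCyclic_commutator_of_quotient inf_le_right hmeta)
    S.E hout S.hEcard.le

/-- The Heisenberg subgroup given by an element of order `p` outside `C`. -/
theorem Setting.normal_or_maxClass (hp2 : p ≠ 2) (hG : IsPGroup p G)
    (hrk : ∀ A : Subgroup G, Cfsg.IsElementaryAbelian p A → Nat.card A ≤ p ^ 2)
    {s : G} (hs : s ∉ S.C) (hsp : s ^ p = 1) :
    (S.E ⊔ zpowers s).Normal ∨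
      (p = 3 ∧ ∀ n, Nat.card G = p ^ n → Group.nilpotencyClass G = n - 1) := by
  haveI := S.hEn
  haveI hCn := S.C_normal hG
  have hs1 : s ≠ 1 := fun h => hs (h ▸ one_mem _)
  set R := S.E ⊔ zpowers s with hR
  have hRC : ∀ r ∈ R, r ∈ S.C → r ∈ S.E := by
    intro r hr hrC
    obtain ⟨e, he, v, hv, rfl⟩ := mem_sup_of_normal_left.mp hr
    obtain ⟨i, rfl⟩ := mem_zpowers_iff.mp hv
    have h1 : s ^ i ∈ S.C := (S.C.mul_mem_cancel_left (S.E_le_C he)).mp hrC
    by_cases hi : (p : ℤ) ∣ i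
    · obtain ⟨j, rfl⟩ := hi
      rw [zpow_mul, zpow_natCast, hsp, one_zpow, mul_one]; exact he
    · obtain ⟨k, hk⟩ := mem_zpowers_iff.mp (mem_zpowers_pow_of_not_dvd hG hi (w := s))
      exact absurd (hk ▸ zpow_mem h1 k) hs
  by_cases hp3 : 3 < p
  · left
    have hexp : ∀ g ∈ closure {x : G | x ^ p = 1}, g ^ p = 1 := fun g hg =>
      RankTwoOdd.omega_exponent hp3 hG hrk hg
    have heq : R = closure {x : G | x ^ p = 1} := by
      refine le_antisymm (sup_le (fun e he => subset_closure (S.hEel.2 e he))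
        (zpowers_le.mpr (subset_closure hsp))) fun g hg => ?_
      obtain ⟨i, hi⟩ := exists_zpow_mul_mem hG S.hCi hs g
      have h1 : g * s ^ i ∈ S.E := S.hCp _ hi
        (hexp _ (mul_mem hg (zpow_mem (subset_closure (show s ∈ {x : G | x ^ p = 1} from hsp)) i)))
      rw [show g = g * s ^ i * (s ^ i)⁻¹ by group]
      exact mul_mem (mem_sup_left h1) (mem_sup_right (inv_mem (zpow_mem (mem_zpowers s) i)))
    rw [heq]
    refine ⟨fun n hn g => ?_⟩
    have h1 : closure {x : G | x ^ p = 1} ≤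
        (closure {x : G | x ^ p = 1}).comap (MulAut.conj g).toMonoidHom := by
      rw [closure_le]
      intro x hx
      refine subset_closure ?_
      show (g * x * g⁻¹) ^ p = 1
      rw [conj_pow, show x ^ p = 1 from hx, mul_one, mul_inv_cancel]
    exact h1 hn
  obtain ⟨w, hw⟩ := S.exists_gen hp2 hG hs
  have hwW : w ∈ S.C ⊓ centralizer ({s} : Set G) := hw ▸ mem_zpowers w
  by_cases hwZ : w ^ p = 1
  · -- maximal class
    right
    refine ⟨by have := hp.out.two_le; omega, fun n hn => ?_⟩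
    have hwE : w ∈ S.Z := S.inf_centralizer hG hs (S.hCp _ (mem_inf.mp hwW).1 hwZ)
      (mem_centralizer_singleton_iff.mp hwW.2)
    have hWZ : S.C ⊓ centralizer ({s} : Set G) ≤ S.Z := hw.le.trans (zpowers_le.mpr hwE)
    haveI : S.Z.Normal := PGroupsBasic.normal_of_le_center inf_le_right
    have hsZ : s ∉ S.Z := fun h => hs (S.E_le_C h.1)
    refine MaxClassTwo.class_of_self_centralizing n G hn (S.Z ⊔ zpowers s) ?_ ?_
    · rw [PGroupsBasic.card_sup_zpowers (orderOf_eq_prime hsp hs1) hsZ, S.card_Z hG, sq]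
    · refine le_antisymm (fun g hg => ?_) ?_
      · have hgs : Commute g s :=
          (mem_centralizer_iff.mp hg s (mem_sup_right (mem_zpowers s))).symm
        obtain ⟨i, hi⟩ := exists_zpow_mul_mem hG S.hCi hs g
        have h1 : g * s ^ i ∈ S.Z := hWZ ⟨hi, mem_centralizer_singleton_iff.mpr
          (hgs.mul_left ((Commute.refl s).zpow_left i)).eq⟩
        rw [show g = g * s ^ i * (s ^ i)⁻¹ by group]
        exact mul_mem (mem_sup_left h1) (mem_sup_right (inv_mem (zpow_mem (mem_zpowers s) i)))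
      · refine PGroupsBasic.le_centralizer_of_isMulCommutative
          (PGroupsBasic.isMulCommutative_of_le_centralizer ?_)
        refine sup_le (inf_le_right.trans (center_le_centralizer _)) (zpowers_le.mpr ?_)
        refine mem_centralizer_iff.mpr fun a ha => ?_
        obtain ⟨z, hz, v, hv, rfl⟩ := mem_sup_of_normal_left.mp ha
        obtain ⟨i, rfl⟩ := mem_zpowers_iff.mp hv
        exact ((show Commute z s from (mem_center_iff.mp hz.2 s).symm).mul_left
          ((Commute.refl s).zpow_left i)).eq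
  left
  by_contra hRn
  set N := normalizer (R : Set G) with hN
  have hNtop : N ≠ ⊤ := fun h => hRn (normalizer_eq_top_iff.mp h)
  have hlt := PGroupsBasic.lt_normalizer hG hNtop
  obtain ⟨g, hg, hgN⟩ := SetLike.exists_of_lt hlt
  set s' := g * s * g⁻¹ with hs'
  have hsR : s ∈ R := mem_sup_right (mem_zpowers s)
  have hs'N : s' ∈ N := (mem_normalizer_iff.mp hg s).mp (le_normalizer hsR)
  have hs'p : s' ^ p = 1 := by rw [hs', conj_pow, hsp, mul_one, mul_inv_cancel]
  have hs'R : s' ∉ R := by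
    intro h
    apply hgN
    rw [hN, mem_normalizer_iff_map_conj_eq]
    refine eq_of_le_of_card_ge ?_
      (Nat.card_congr (R.equivMapOfInjective _ (MulAut.conj g).injective).toEquiv).le
    rw [map_le_iff_le_comap]
    exact sup_le (fun e he => mem_sup_left (S.hEn.conj_mem e he g)) (zpowers_le.mpr h)
  obtain ⟨i, hi⟩ := exists_zpow_mul_mem hG S.hCi hs s'
  set t := s' * s ^ i with ht
  have htN : t ∈ N := mul_mem hs'N (zpow_mem (le_normalizer hsR) i)
  have hWR : ∀ v ∈ zpowers w, ∀ r ∈ R, Commute v r := by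
    intro v hv r hr
    have hv' : v ∈ S.C ⊓ centralizer ({s} : Set G) := hw ▸ hv
    have hle : R ≤ centralizer ({v} : Set G) := sup_le
      (fun e he => mem_centralizer_singleton_iff.mpr (mem_centralizer_iff.mp hv'.1 e he))
      (zpowers_le.mpr (mem_centralizer_singleton_iff.mpr
        (mem_centralizer_singleton_iff.mp hv'.2).symm))
    exact (show Commute r v from mem_centralizer_singleton_iff.mp (hle hr)).symm
  have hout : t ∉ S.E ⊔ zpowers w := by
    intro h
    obtain ⟨e, he, v, hv, hev⟩ := mem_sup_of_normal_left.mp h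
    have hs'e : s' = v * (e * (s ^ i)⁻¹) := by
      rw [← mul_assoc, (hWR v hv e (mem_sup_left he)).eq, hev, ht, mul_inv_cancel_right]
    have hr : e * (s ^ i)⁻¹ ∈ R := mul_mem (mem_sup_left he) (inv_mem (zpow_mem hsR i))
    have hrp : (e * (s ^ i)⁻¹) ^ p = 1 := by
      have h3 : ⁅(s ^ i)⁻¹, e⁆ ∈ S.Z := by
        refine S.inf_centralizer hG hs ?_ ?_
        · rw [commutatorElement_def]
          exact mul_mem (S.hEn.conj_mem e he _) (inv_mem he)
        · haveI : S.Z.Normal := PGroupsBasic.normal_of_le_center inf_le_right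
          haveI : (S.E.map (QuotientGroup.mk' S.Z)).Normal :=
            Subgroup.Normal.map S.hEn _ (QuotientGroup.mk'_surjective _)
          have hc : Nat.card (S.E.map (QuotientGroup.mk' S.Z)) = p := by
            have h1 : Nat.card (S.E.map (QuotientGroup.mk' S.Z)) = S.Z.relIndex S.E := by
              conv_rhs => arg 1; rw [← QuotientGroup.ker_mk' S.Z, ← MonoidHom.comap_bot]
              rw [relIndex_comap, relIndex_bot_left]
            have h2 := Subgroup.relIndex_mul_relIndex ⊥ S.Z S.E bot_le inf_le_left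
            rw [relIndex_bot_left, relIndex_bot_left, S.card_Z hG, S.hEcard, ← h1, sq] at h2
            exact Nat.eq_of_mul_eq_mul_left hp.out.pos h2
          have h4 := mem_center_iff.mp (PGroupsBasic.le_center_of_card_eq_prime
            (hG.to_quotient S.Z) hc (mem_map_of_mem _ he)) (QuotientGroup.mk' S.Z (s ^ i)⁻¹)
          exact (mem_center_iff.mp ((mk_commute_iff _ e).mp h4).2 s).symm
      rw [mul_pow_prime hp2 (mem_center_iff.mp h3.2 e).symm (mem_center_iff.mp h3.2 _).symm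
        (S.hEel.2 _ h3.1), S.hEel.2 _ he, one_mul, inv_pow, ← zpow_natCast, zpow_comm,
        zpow_natCast, hsp, one_zpow, inv_one]
    have hvp : v ^ p = 1 := by
      have := hs'p
      rwa [hs'e, (hWR v hv _ hr).mul_pow, hrp, mul_one] at this
    have hv' : v ∈ S.C ⊓ centralizer ({s} : Set G) := hw ▸ hv
    apply hs'R
    rw [hs'e]
    exact mul_mem (mem_sup_left (S.hCp _ hv'.1 hvp)) hr
  -- `t` normalises the fixed points of `s` and `t ^ p` is in `Z`
  have hnorm : t * w * t⁻¹ ∈ zpowers w := by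
    rw [← hw]
    refine ⟨hCn.conj_mem w (mem_inf.mp hwW).1 t, mem_centralizer_singleton_iff.mpr ?_⟩
    have h1 : t⁻¹ * s * t ∈ R := by
      simpa using (mem_normalizer_iff.mp (inv_mem htN) s).mp hsR
    have h2 := hWR w (mem_zpowers w) _ h1
    calc t * w * t⁻¹ * s = t * (w * (t⁻¹ * s * t)) * t⁻¹ := by group
      _ = s * (t * w * t⁻¹) := by rw [h2.eq]; group
  have hs'C : ⁅s', s⁆ ∈ S.E := by
    refine hRC _ ?_ ?_
    · rw [commutatorElement_def]
      exact mul_mem ((mem_normalizer_iff.mp hs'N s).mp hsR) (inv_mem hsR)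
    · exact PGroupsBasic.commutator_le_of_index_le_sq hG
        (S.hCi.le.trans (Nat.le_self_pow two_ne_zero p))
        (commutator_mem_commutator (mem_top _) (mem_top _))
  have htE : t ^ p ∈ S.E := by
    rw [← mk_eq_one_iff, map_pow, ht, map_mul, map_zpow,
      (((mk_commute_iff s' s).mpr hs'C).zpow_right i).mul_pow, ← map_pow, hs'p, map_one, one_mul,
      ← zpow_natCast, zpow_comm, zpow_natCast, ← map_pow, hsp, map_one, one_zpow]
  have htZ : t ^ p ∈ S.Z := by
    refine S.inf_centralizer hG hs htE ?_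
    have he : s * t * s⁻¹ * t⁻¹ ∈ S.E := by
      refine hRC _ ?_ ?_
      · rw [show s * t * s⁻¹ * t⁻¹ = s * (t * s⁻¹ * t⁻¹) by group]
        exact mul_mem hsR ((mem_normalizer_iff.mp htN s⁻¹).mp (inv_mem hsR))
      · exact mul_mem (hCn.conj_mem t hi s) (inv_mem hi)
    set e := s * t * s⁻¹ * t⁻¹ with hee
    have hte : Commute e t := mem_centralizer_iff.mp hi e he
    have h1 : s * t ^ p * s⁻¹ = t ^ p := by
      rw [← conj_pow, show s * t * s⁻¹ = e * t by rw [hee]; group, hte.mul_pow, S.hEel.2 _ he,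
        one_mul]
    exact (show Commute s (t ^ p) from mul_inv_eq_iff_eq_mul.mp h1).symm
  have htW : t ^ p ∈ zpowers w := by
    rw [← hw]
    exact ⟨S.E_le_C htE, mem_centralizer_singleton_iff.mpr (mem_center_iff.mp htZ.2 s).symm⟩
  have hgenW := S.zpowers_pow_eq hp2 hG hs hw hi hnorm htW hout
  apply hwZ
  have : w ∈ S.E := ((zpowers_le.mpr htE : zpowers (t ^ p) ≤ S.E)) (hgenW.ge (mem_zpowers w))
  exact S.hEel.2 _ this

/-- The conclusion of the classification when the extraspecial subgroup is normal. -/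
theorem Setting.presentation (hp2 : p ≠ 2) (hG : IsPGroup p G) (n : ℕ) (hn : Nat.card G = p ^ n)
    {s : G} (hs : s ∉ S.C) (hsp : s ^ p = 1) (hRn : (S.E ⊔ zpowers s).Normal) :
    (3 ≤ n ∧ ∃ x y z : G, closure ({x, y, z} : Set G) = ⊤ ∧ x ^ p = 1 ∧ y ^ p = 1 ∧
      z ^ p ^ (n - 2) = 1 ∧ x * z = z * x ∧ y * z = z * y ∧
      x⁻¹ * y * x = y * z ^ p ^ (n - 3)) ∨
    (4 ≤ n ∧ ∃ (c : ℕ) (x y z : G), (c = 1 ∨ ¬ IsSquare (c : ZMod p)) ∧
      closure ({x, y, z} : Set G) = ⊤ ∧ x ^ p = 1 ∧ y ^ p = 1 ∧ z ^ p ^ (n - 2) = 1 ∧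
      y * z = z * y ∧ x⁻¹ * y * x = y * z ^ (c * p ^ (n - 3)) ∧ x⁻¹ * z * x = y * z) := by
  haveI := S.hEn
  haveI hCn := S.C_normal hG
  haveI hZn : S.Z.Normal := PGroupsBasic.normal_of_le_center inf_le_right
  have hs1 : s ≠ 1 := fun h => hs (h ▸ one_mem _)
  set R := S.E ⊔ zpowers s with hR
  have hsR : s ∈ R := mem_sup_right (mem_zpowers s)
  obtain ⟨w, hw⟩ := S.exists_gen hp2 hG hs
  have hwW : w ∈ S.C ⊓ centralizer ({s} : Set G) := hw ▸ mem_zpowers w
  have hZW : S.Z ≤ zpowers w := by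
    rw [← hw]
    exact fun z hz => ⟨S.E_le_C hz.1,
      mem_centralizer_singleton_iff.mpr (mem_center_iff.mp hz.2 s).symm⟩
  obtain ⟨m, hm⟩ := IsPGroup.iff_orderOf.mp hG w
  have hm1 : 1 ≤ m := by
    by_contra h
    have h0 : w = 1 := orderOf_eq_one_iff.mp (by rw [hm, show m = 0 by omega, pow_zero])
    have := card_le_of_le hZW
    rw [S.card_Z hG, Nat.card_zpowers, h0, orderOf_one] at this
    exact hp.out.one_lt.not_ge this
  -- a generator of `Z`
  have hwZ : w ^ p ^ (m - 1) ∈ S.Z ∧ zpowers (w ^ p ^ (m - 1)) = S.Z := by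
    have h1 : (w ^ p ^ (m - 1)) ^ p = 1 := by
      rw [← pow_mul, ← pow_succ, show m - 1 + 1 = m by omega, ← hm, pow_orderOf_eq_one]
    have h0 : w ^ p ^ (m - 1) ∈ S.C ⊓ centralizer ({s} : Set G) := pow_mem hwW _
    have h2 : w ^ p ^ (m - 1) ∈ S.Z := S.inf_centralizer hG hs (S.hCp _ h0.1 h1)
      (mem_centralizer_singleton_iff.mp h0.2)
    refine ⟨h2, eq_of_le_of_card_ge (zpowers_le.mpr h2) ?_⟩
    rw [S.card_Z hG, Nat.card_zpowers, orderOf_eq_prime h1 fun h => ?_]
    have := orderOf_dvd_of_pow_eq_one h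
    rw [hm, Nat.pow_dvd_pow_iff_le_right hp.out.one_lt] at this
    omega
  -- the homomorphism `c ↦ ⁅c, s⁆` on `C`
  have hmemE : ∀ c ∈ S.C, ⁅c, s⁆ ∈ S.E := by
    intro c hc
    have h1 : ⁅c, s⁆ ∈ R := by
      rw [commutatorElement_def]
      exact mul_mem (hRn.conj_mem s hsR c) (inv_mem hsR)
    have h2 : ⁅c, s⁆ ∈ S.C := PGroupsBasic.commutator_le_of_index_le_sq hG
      (S.hCi.le.trans (Nat.le_self_pow two_ne_zero p))
      (commutator_mem_commutator (mem_top _) (mem_top _))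
    obtain ⟨e, he, v, hv, hev⟩ := mem_sup_of_normal_left.mp h1
    have hvC : v ∈ S.C := (S.C.mul_mem_cancel_left (S.E_le_C he)).mp (hev.symm ▸ h2)
    obtain ⟨i, rfl⟩ := mem_zpowers_iff.mp hv
    rw [← hev]
    refine mul_mem he ?_
    by_cases hi : (p : ℤ) ∣ i
    · obtain ⟨j, rfl⟩ := hi
      rw [zpow_mul, zpow_natCast, hsp, one_zpow]; exact one_mem _
    · obtain ⟨k, hk⟩ := mem_zpowers_iff.mp (mem_zpowers_pow_of_not_dvd hG hi (w := s))
      exact absurd (hk ▸ zpow_mem hvC k) hs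
  have hEcomm : ∀ e ∈ S.E, ∀ c ∈ S.C, Commute e c := fun e he c hc =>
    mem_centralizer_iff.mp hc e he
  let ψ : S.C →* G := MonoidHom.mk' (fun c => ⁅(c : G), s⁆) fun a b => by
    have e : ⁅((a * b : S.C) : G), s⁆ = (a : G) * ⁅(b : G), s⁆ * (a : G)⁻¹ * ⁅(a : G), s⁆ := by
      simp [commutatorElement_def, mul_assoc]
    show ⁅((a * b : S.C) : G), s⁆ = ⁅(a : G), s⁆ * ⁅(b : G), s⁆
    rw [e, ← (hEcomm _ (hmemE _ b.2) _ a.2).eq, mul_inv_cancel_right]
    exact (hEcomm _ (hmemE _ b.2) _ (S.E_le_C (hmemE _ a.2))).eq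
  have hker : ψ.ker = (zpowers w).subgroupOf S.C := by
    ext c
    rw [MonoidHom.mem_ker, mem_subgroupOf, ← hw, mem_inf, mem_centralizer_singleton_iff]
    show ⁅(c : G), s⁆ = 1 ↔ _
    rw [commutatorElement_eq_one_iff_mul_comm]
    exact ⟨fun h => ⟨c.2, h⟩, fun h => h.2⟩
  have hWC : zpowers w ≤ S.C := zpowers_le.mpr (mem_inf.mp hwW).1
  have hcardC : Nat.card S.C = p ^ m * Nat.card ψ.range := by
    have h := card_mul_index ψ.ker
    rw [Subgroup.index_ker, hker, Nat.card_congr (subgroupOfEquivOfLe hWC).toEquiv,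
      Nat.card_zpowers, hm] at h
    exact h.symm
  have hrange : ψ.range ≤ S.E := by rintro _ ⟨c, rfl⟩; exact hmemE _ c.2
  have hcardG : p ^ n = Nat.card S.C * p := by rw [← hn, ← card_mul_index S.C, S.hCi]
  -- an element of `E` outside `Z`
  obtain ⟨e₀, he₀, he₀Z⟩ : ∃ e ∈ S.E, e ∉ S.Z := by
    refine SetLike.not_le_iff_exists.mp fun h => ?_
    have := card_le_of_le h
    rw [S.card_Z hG, S.hEcard] at this
    nlinarith [hp.out.one_lt]
  have hgenG : ∀ {x y z : G}, s ∈ closure ({x, y, z} : Set G) → S.C ≤ closure ({x, y, z} : Set G) →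
      closure ({x, y, z} : Set G) = ⊤ := by
    intro x y z hsx hC
    refine eq_top_iff.mpr fun g _ => ?_
    obtain ⟨i, hi⟩ := exists_zpow_mul_mem hG S.hCi hs g
    rw [show g = g * s ^ i * (s ^ i)⁻¹ by group]
    exact mul_mem (hC hi) (inv_mem (zpow_mem hsx i))
  have hEgen : ∀ {L : Subgroup G} {y : G}, y ∈ S.E → y ∉ S.Z → y ∈ L → S.Z ≤ L → S.E ≤ L := by
    intro L y hyE hyZ hyL hZL
    have heq : S.Z ⊔ zpowers y = S.E := by
      refine eq_of_le_of_card_ge (sup_le inf_le_left (zpowers_le.mpr hyE)) ?_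
      rw [PGroupsBasic.card_sup_zpowers (orderOf_eq_prime (S.hEel.2 y hyE)
        fun h => hyZ (h ▸ one_mem _)) hyZ, S.card_Z hG, S.hEcard, sq]
    rw [← heq]
    exact sup_le hZL (zpowers_le.mpr hyL)
  have hEsZ : ∀ e ∈ S.E, ⁅e, s⁆ ∈ S.Z := by
    intro e he
    haveI : (S.E.map (QuotientGroup.mk' S.Z)).Normal :=
      Subgroup.Normal.map S.hEn _ (QuotientGroup.mk'_surjective _)
    have hc : Nat.card (S.E.map (QuotientGroup.mk' S.Z)) = p := by
      have h1 : Nat.card (S.E.map (QuotientGroup.mk' S.Z)) = S.Z.relIndex S.E := by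
        conv_rhs => arg 1; rw [← QuotientGroup.ker_mk' S.Z, ← MonoidHom.comap_bot]
        rw [relIndex_comap, relIndex_bot_left]
      have h2 := Subgroup.relIndex_mul_relIndex ⊥ S.Z S.E bot_le inf_le_left
      rw [relIndex_bot_left, relIndex_bot_left, S.card_Z hG, S.hEcard, ← h1, sq] at h2
      exact Nat.eq_of_mul_eq_mul_left hp.out.pos h2
    have h4 := mem_center_iff.mp (PGroupsBasic.le_center_of_card_eq_prime
      (hG.to_quotient S.Z) hc (mem_map_of_mem _ he)) (QuotientGroup.mk' S.Z s)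
    exact (mk_commute_iff e s).mp h4.symm
  have hne : ∀ e ∈ S.E, e ∉ S.Z → ⁅e, s⁆ ≠ 1 := fun e he heZ h =>
    heZ (S.inf_centralizer hG hs he (commutatorElement_eq_one_iff_commute.mp h))
  by_cases hcase : S.C ≤ S.E ⊔ zpowers w
  · -- `C = E W`
    left
    have hrangeZ : ψ.range = S.Z := by
      refine le_antisymm ?_ ?_
      · rintro _ ⟨c, rfl⟩
        obtain ⟨e, he, v, hv, hev⟩ := mem_sup_of_normal_left.mp (hcase c.2)
        show ⁅(c : G), s⁆ ∈ S.Z
        have hv' : v ∈ S.C ⊓ centralizer ({s} : Set G) := hw ▸ hv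
        have h1 : ⁅e * v, s⁆ = e * ⁅v, s⁆ * e⁻¹ * ⁅e, s⁆ := by
          simp [commutatorElement_def, mul_assoc]
        rw [← hev, h1, commutatorElement_eq_one_iff_mul_comm.mpr
          (mem_centralizer_singleton_iff.mp hv'.2), mul_one, mul_inv_cancel, one_mul]
        exact hEsZ e he
      · have hne' := hne e₀ he₀ he₀Z
        have hz : zpowers ⁅e₀, s⁆ = S.Z := eq_of_le_of_card_ge (zpowers_le.mpr (hEsZ e₀ he₀)) (by
          rw [S.card_Z hG, Nat.card_zpowers, orderOf_eq_prime (S.hEel.2 _ (hEsZ e₀ he₀).1) hne'])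
        rw [← hz, zpowers_le]
        exact ⟨⟨e₀, S.E_le_C he₀⟩, rfl⟩
    rw [hrangeZ, S.card_Z hG, ← pow_succ] at hcardC
    have hnm : n = m + 2 := Nat.pow_right_injective hp.out.two_le
      (by show p ^ n = p ^ (m + 2); rw [hcardG, hcardC, ← pow_succ])
    have hcZ : e₀⁻¹ * (s⁻¹ * e₀ * s) ∈ S.Z := by
      refine S.inf_centralizer hG hs (mul_mem (inv_mem he₀) ?_) ?_
      · simpa using S.hEn.conj_mem e₀ he₀ s⁻¹
      · have hinv : ⁅s, e₀⁆ ∈ S.Z := by rw [← commutatorElement_inv]; exact inv_mem (hEsZ e₀ he₀)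
        have e1 : e₀⁻¹ * (s⁻¹ * e₀ * s) = (s * e₀)⁻¹ * ⁅e₀, s⁆ * (s * e₀) := by
          simp [commutatorElement_def, mul_assoc]
        rw [e1, mem_center_iff.mp (hEsZ e₀ he₀).2 _, inv_mul_cancel_right]
        exact (mem_center_iff.mp (hEsZ e₀ he₀).2 s).symm
    obtain ⟨i, hi⟩ := mem_zpowers_iff.mp (hwZ.2.symm ▸ hcZ)
    have hpi : ¬ (p : ℤ) ∣ i := by
      rintro ⟨j, rfl⟩
      rw [zpow_mul, zpow_natCast, S.hEel.2 _ hwZ.1.1, one_zpow, eq_comm, inv_mul_eq_one] at hi
      refine hne e₀ he₀ he₀Z ?_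
      rw [commutatorElement_eq_one_iff_mul_comm]
      conv_rhs => rw [hi]
      group
    refine ⟨by omega, s, e₀, w ^ i, hgenG (subset_closure (by simp)) ?_, hsp, S.hEel.2 _ he₀, ?_,
      ?_, ?_, ?_⟩
    · have hwL : zpowers w ≤ closure ({s, e₀, w ^ i} : Set G) := by
        rw [zpowers_le]
        have := mem_zpowers_pow_of_not_dvd hG hpi (w := w)
        exact (zpowers_le.mpr (subset_closure (by simp)) : zpowers (w ^ i) ≤ _) this
      exact hcase.trans (sup_le (hEgen he₀ he₀Z (subset_closure (by simp)) (hZW.trans hwL)) hwL)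
    · rw [← zpow_natCast, zpow_comm, zpow_natCast, show n - 2 = m by omega, ← hm,
        pow_orderOf_eq_one, one_zpow]
    · exact ((show Commute w s from mem_centralizer_singleton_iff.mp hwW.2).zpow_left i).eq.symm
    · exact ((hEcomm e₀ he₀ w (mem_inf.mp hwW).1).zpow_right i).eq
    · rw [show n - 3 = m - 1 by omega, ← zpow_natCast (w ^ i), zpow_comm, zpow_natCast, hi,
        mul_inv_cancel_left]
  right
  obtain ⟨t, htC, htout⟩ := SetLike.not_le_iff_exists.mp hcase
  have hy1 : ⁅t, s⁆ ∉ S.Z := by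
    intro h
    apply htout
    have hz : zpowers ⁅e₀, s⁆ = S.Z := eq_of_le_of_card_ge (zpowers_le.mpr (hEsZ e₀ he₀)) (by
      rw [S.card_Z hG, Nat.card_zpowers,
        orderOf_eq_prime (S.hEel.2 _ (hEsZ e₀ he₀).1) (hne e₀ he₀ he₀Z)])
    obtain ⟨j, hj⟩ := mem_zpowers_iff.mp (hz.symm ▸ h : ⁅t, s⁆ ∈ zpowers ⁅e₀, s⁆)
    have h1 : ψ ((⟨e₀, S.E_le_C he₀⟩ ^ j)⁻¹ * ⟨t, htC⟩) = 1 := by
      rw [map_mul, map_inv, map_zpow]
      show (⁅e₀, s⁆ ^ j)⁻¹ * ⁅t, s⁆ = 1
      rw [hj, inv_mul_cancel]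
    rw [← MonoidHom.mem_ker, hker, mem_subgroupOf] at h1
    push_cast at h1
    have : t = e₀ ^ j * ((e₀ ^ j)⁻¹ * t) := by group
    rw [this]
    exact mul_mem (mem_sup_left (zpow_mem he₀ j)) (mem_sup_right h1)
  have hrangeE : ψ.range = S.E := by
    refine le_antisymm hrange ?_
    refine hEgen (hmemE t htC) hy1 ⟨⟨t, htC⟩, rfl⟩ ?_
    have hz : zpowers ⁅e₀, s⁆ = S.Z := eq_of_le_of_card_ge (zpowers_le.mpr (hEsZ e₀ he₀)) (by
      rw [S.card_Z hG, Nat.card_zpowers,
        orderOf_eq_prime (S.hEel.2 _ (hEsZ e₀ he₀).1) (hne e₀ he₀ he₀Z)])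
    rw [← hz, zpowers_le]
    exact ⟨⟨e₀, S.E_le_C he₀⟩, rfl⟩
  rw [hrangeE, S.hEcard, ← pow_add] at hcardC
  have hnm : n = m + 3 := Nat.pow_right_injective hp.out.two_le
    (by show p ^ n = p ^ (m + 3); rw [hcardG, hcardC, ← pow_succ])
  -- conjugation by `s`
  set y₁ := t⁻¹ * (s⁻¹ * t * s) with hy₁
  have hy₁E : y₁ ∈ S.E := by
    have h1 : y₁ = (s * t)⁻¹ * ⁅t, s⁆ * (s * t) := by
      simp [hy₁, commutatorElement_def, mul_assoc]
    rw [h1]
    simpa using S.hEn.conj_mem _ (hmemE t htC) (s * t)⁻¹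
  have hy₁Z : y₁ ∉ S.Z := by
    intro h
    apply hy1
    have h1 : ⁅t, s⁆ = (s * t) * y₁ * (s * t)⁻¹ := by simp [hy₁, commutatorElement_def, mul_assoc]
    rw [h1, mem_center_iff.mp h.2 (s * t), mul_inv_cancel_right]
    exact h
  have htW : t ^ p ∈ zpowers w := by
    rw [← hw]
    refine ⟨pow_mem htC p, mem_centralizer_singleton_iff.mpr ?_⟩
    have h1 : s⁻¹ * t ^ p * s = t ^ p := by
      have h2 : (s⁻¹ * t * (s⁻¹)⁻¹) ^ p = t ^ p := by
        rw [inv_inv, show s⁻¹ * t * s = t * y₁ by rw [hy₁, mul_inv_cancel_left],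
          (hEcomm y₁ hy₁E t htC).symm.mul_pow, S.hEel.2 _ hy₁E, mul_one]
      rwa [conj_pow, inv_inv] at h2
    calc t ^ p * s = s * (s⁻¹ * t ^ p * s) := by group
      _ = s * t ^ p := by rw [h1]
  have hWn : t * w * t⁻¹ ∈ zpowers w := by
    rw [← hw]
    refine ⟨hCn.conj_mem w (mem_inf.mp hwW).1 t, mem_centralizer_singleton_iff.mpr ?_⟩
    have hle : R ≤ centralizer ({w} : Set G) := sup_le
      (fun e he => mem_centralizer_singleton_iff.mpr (hEcomm e he w (mem_inf.mp hwW).1).eq)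
      (zpowers_le.mpr (mem_centralizer_singleton_iff.mpr
        (mem_centralizer_singleton_iff.mp hwW.2).symm))
    have h1 := mem_centralizer_singleton_iff.mp (hle (hRn.conj_mem s hsR t⁻¹))
    rw [inv_inv] at h1
    calc t * w * t⁻¹ * s = t * (w * (t⁻¹ * s * t)) * t⁻¹ := by group
      _ = s * (t * w * t⁻¹) := by rw [← h1]; group
  have hgenW := S.zpowers_pow_eq hp2 hG hs hw htC hWn htW htout
  have hto : orderOf (t ^ p) = p ^ m := by rw [← Nat.card_zpowers, hgenW, Nat.card_zpowers, hm]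
  have hZt : (t ^ p) ^ p ^ (m - 1) ∈ S.Z ∧ zpowers ((t ^ p) ^ p ^ (m - 1)) = S.Z := by
    have h1 : ((t ^ p) ^ p ^ (m - 1)) ^ p = 1 := by
      rw [← pow_mul, ← pow_succ, show m - 1 + 1 = m by omega, ← hto, pow_orderOf_eq_one]
    have h0 : (t ^ p) ^ p ^ (m - 1) ∈ S.C ⊓ centralizer ({s} : Set G) := pow_mem (hw ▸ htW) _
    have h2 : (t ^ p) ^ p ^ (m - 1) ∈ S.Z := S.inf_centralizer hG hs (S.hCp _ h0.1 h1)
      (mem_centralizer_singleton_iff.mp h0.2)
    refine ⟨h2, eq_of_le_of_card_ge (zpowers_le.mpr h2) ?_⟩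
    rw [S.card_Z hG, Nat.card_zpowers, orderOf_eq_prime h1 fun h => ?_]
    have := orderOf_dvd_of_pow_eq_one h
    rw [hto, Nat.pow_dvd_pow_iff_le_right hp.out.one_lt] at this
    omega
  have hexp : (t ^ p) ^ p ^ (m - 1) = t ^ p ^ (n - 3) := by
    rw [← pow_mul, ← pow_succ', show m - 1 + 1 = n - 3 by omega]
  rw [hexp] at hZt
  set z₀ := t ^ p ^ (n - 3) with hz₀
  set c := y₁⁻¹ * (s⁻¹ * y₁ * s) with hc
  have hcZ : c ∈ S.Z := by
    have hinv := hEsZ y₁ hy₁E
    have e1 : c = (s * y₁)⁻¹ * ⁅y₁, s⁆ * (s * y₁) := by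
      simp [hc, commutatorElement_def, mul_assoc]
    rw [e1, mem_center_iff.mp hinv.2 _, inv_mul_cancel_right]
    exact hinv
  have hc1 : c ≠ 1 := by
    intro h
    refine hne y₁ hy₁E hy₁Z (commutatorElement_eq_one_iff_mul_comm.mpr ?_)
    rw [hc, inv_mul_eq_one] at h
    conv_rhs => rw [h]
    group
  obtain ⟨c₀, hc₀⟩ : ∃ c₀ : ℕ, z₀ ^ c₀ = c :=
    (mem_powers_iff_mem_zpowers (x := z₀)).mpr (hZt.2.symm ▸ hcZ)
  have hc₀p : (c₀ : ZMod p) ≠ 0 := by
    rw [Ne, ZMod.natCast_eq_zero_iff]  -- divisibility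
    rintro ⟨j, rfl⟩
    apply hc1
    rw [← hc₀, pow_mul, S.hEel.2 _ hZt.1.1, one_pow]
  obtain ⟨a, c', hc', hac⟩ : ∃ a c' : ℕ, (c' = 1 ∨ ¬ IsSquare (c' : ZMod p)) ∧
      ((c₀ * a ^ 2 : ℕ) : ZMod p) = (c' : ZMod p) ∧ ¬ p ∣ a := by
    by_cases hsq : IsSquare (c₀ : ZMod p)
    · obtain ⟨r, hr⟩ := hsq
      have hr0 : r ≠ 0 := fun h => hc₀p (by rw [hr, h, mul_zero])
      refine ⟨(r⁻¹).val, 1, Or.inl rfl, ?_, fun hd => ?_⟩
      · push_cast
        rw [ZMod.natCast_val, ZMod.cast_id, hr]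
        field_simp
      · rw [← ZMod.natCast_eq_zero_iff, ZMod.natCast_val, ZMod.cast_id] at hd
        exact inv_ne_zero hr0 hd
    · exact ⟨1, c₀, Or.inr hsq, by simp, hp.out.not_dvd_one⟩
  obtain ⟨hac, hpa⟩ := hac
  have hcsC : ∀ g, Commute c g := fun g => (mem_center_iff.mp hcZ.2 g).symm
  -- iterates of conjugation by `s`
  let φ : G →* G := (MulAut.conj s⁻¹).toMonoidHom
  have hφ : ∀ g, φ g = s⁻¹ * g * s := fun g => by simp [φ]
  have hφy : φ y₁ = y₁ * c := by rw [hφ, hc, mul_inv_cancel_left]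
  have hφt : φ t = t * y₁ := by rw [hφ, hy₁, mul_inv_cancel_left]
  have hφc : φ c = c := by rw [hφ, mul_assoc, (hcsC s).eq, inv_mul_cancel_left]
  have key : ∀ k : ℕ, (s ^ k)⁻¹ * y₁ * s ^ k = y₁ * c ^ k ∧
      (s ^ k)⁻¹ * t * s ^ k = t * (y₁ ^ k * c ^ k.choose 2) := by
    intro k
    induction k with
    | zero => simp
    | succ k ih =>
      have hstep : ∀ g, (s ^ (k + 1))⁻¹ * g * s ^ (k + 1) = φ ((s ^ k)⁻¹ * g * s ^ k) := fun g => by
        rw [hφ, pow_succ]; group
      refine ⟨?_, ?_⟩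
      · rw [hstep, ih.1, map_mul, hφy, map_pow, hφc, pow_succ', mul_assoc]
      · rw [hstep, ih.2, map_mul φ, map_mul φ, hφt, map_pow, hφy, map_pow, hφc,
          ((hcsC y₁).symm).mul_pow, show (k + 1).choose 2 = k + k.choose 2 by
            rw [Nat.choose_succ_succ', Nat.choose_one_right], pow_add c, pow_succ' y₁]
        simp only [mul_assoc]
  set y := y₁ ^ a * c ^ a.choose 2 with hy
  have hyE : y ∈ S.E := mul_mem (pow_mem hy₁E a) (pow_mem hcZ.1 _)
  have hyZ : y ∉ S.Z := by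
    intro h
    have h2 : y₁ ^ a ∈ S.Z := (S.Z.mul_mem_cancel_right (pow_mem hcZ _)).mp h
    obtain ⟨k, hk⟩ := mem_zpowers_iff.mp (mem_zpowers_pow_of_not_dvd hG (w := y₁) (k := (a : ℤ))
      (by exact_mod_cast hpa))
    rw [zpow_natCast] at hk
    exact hy₁Z (hk ▸ zpow_mem h2 k)
  have hsx : s ∈ zpowers (s ^ a) := by
    have := mem_zpowers_pow_of_not_dvd hG (w := s) (k := (a : ℤ)) (by exact_mod_cast hpa)
    rwa [zpow_natCast] at this
  refine ⟨by omega, c', s ^ a, y, t, hc', hgenG ?_ ?_, ?_, S.hEel.2 _ hyE, ?_,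
    (hEcomm y hyE t htC).eq, ?_, ?_⟩
  · exact (zpowers_le.mpr (subset_closure (by simp)) : zpowers (s ^ a) ≤ _) hsx
  · set L := closure ({s ^ a, y, t} : Set G)
    have htL : t ∈ L := subset_closure (by simp)
    have hwL : zpowers w ≤ L := hgenW ▸ zpowers_le.mpr (pow_mem htL p)
    have hEL : S.E ≤ L := hEgen hyE hyZ (subset_closure (by simp)) (hZW.trans hwL)
    intro g hg
    -- `ψ` separates the cosets of `E W`
    obtain ⟨i, hi⟩ : ∃ i : ℤ, (t ^ i)⁻¹ * g ∈ S.E ⊔ zpowers w := by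
      have hy1E : ⁅t, s⁆ ∈ S.E := hmemE t htC
      have heq : S.Z ⊔ zpowers ⁅t, s⁆ = S.E := by
        refine eq_of_le_of_card_ge (sup_le inf_le_left (zpowers_le.mpr hy1E)) ?_
        rw [PGroupsBasic.card_sup_zpowers (orderOf_eq_prime (S.hEel.2 _ hy1E)
          fun h => hy1 (h ▸ one_mem _)) hy1, S.card_Z hG, S.hEcard, sq]
      obtain ⟨z, hz, v, hv, hzv⟩ := mem_sup_of_normal_left.mp (heq.symm ▸ hmemE g hg)
      obtain ⟨i, rfl⟩ := mem_zpowers_iff.mp hv
      have hz' : zpowers ⁅e₀, s⁆ = S.Z := eq_of_le_of_card_ge (zpowers_le.mpr (hEsZ e₀ he₀)) (by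
        rw [S.card_Z hG, Nat.card_zpowers,
          orderOf_eq_prime (S.hEel.2 _ (hEsZ e₀ he₀).1) (hne e₀ he₀ he₀Z)])
      obtain ⟨j, rfl⟩ := mem_zpowers_iff.mp (hz'.symm ▸ hz)
      refine ⟨i, ?_⟩
      have h1 : ψ ((⟨e₀, S.E_le_C he₀⟩ ^ j)⁻¹ * ((⟨t, htC⟩ ^ i)⁻¹ * ⟨g, hg⟩)) = 1 := by
        rw [map_mul, map_mul, map_inv, map_inv, map_zpow, map_zpow]
        show (⁅e₀, s⁆ ^ j)⁻¹ * ((⁅t, s⁆ ^ i)⁻¹ * ⁅g, s⁆) = 1
        rw [← hzv]
        rw [((hEcomm _ (hEsZ e₀ he₀).1 _ (S.E_le_C hy1E)).zpow_zpow j i).eq,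
          inv_mul_cancel_left, inv_mul_cancel]
      rw [← MonoidHom.mem_ker, hker, mem_subgroupOf] at h1
      push_cast at h1
      rw [show (t ^ i)⁻¹ * g = e₀ ^ j * ((e₀ ^ j)⁻¹ * ((t ^ i)⁻¹ * g)) by group]
      exact mul_mem (mem_sup_left (zpow_mem he₀ j)) (mem_sup_right h1)
    rw [show g = t ^ i * ((t ^ i)⁻¹ * g) by group]
    exact mul_mem (zpow_mem htL i) (sup_le hEL hwL hi)
  · rw [← pow_mul, mul_comm, pow_mul, hsp, one_pow]
  · rw [show n - 2 = 1 + m by omega, pow_add, pow_one, pow_mul, ← hto, pow_orderOf_eq_one]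
  · rw [hy]
    have h1 : (s ^ a)⁻¹ * (y₁ ^ a * c ^ a.choose 2) * s ^ a =
        ((s ^ a)⁻¹ * y₁ * s ^ a) ^ a * c ^ a.choose 2 := by
      have e1 : ((s ^ a)⁻¹ * y₁ * s ^ a) ^ a = (s ^ a)⁻¹ * y₁ ^ a * s ^ a := by
        simpa using conj_pow (a := (s ^ a)⁻¹) (b := y₁) (i := a)
      rw [e1, mul_assoc _ (s ^ a) (c ^ a.choose 2), ← ((hcsC (s ^ a)).pow_left _).eq]
      simp only [mul_assoc]
    have h2 : z₀ ^ (c₀ * a ^ 2) = z₀ ^ c' := by
      have hord : z₀ ^ p = 1 := S.hEel.2 _ hZt.1.1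
      rw [pow_eq_pow_mod (c₀ * a ^ 2) hord, pow_eq_pow_mod c' hord,
        show c₀ * a ^ 2 % p = c' % p from (ZMod.natCast_eq_natCast_iff' _ _ _).mp hac]
    rw [h1, (key a).1, ((hcsC y₁).symm.pow_right a).mul_pow, mul_comm c' _, pow_mul t, ← hz₀, ← h2,
      pow_mul z₀, hc₀, ← pow_mul c a a, ← sq]
    rw [mul_assoc, mul_assoc, ((Commute.refl c).pow_pow (a ^ 2) (a.choose 2)).eq]
  · rw [(key a).2]
    exact (hEcomm y hyE t htC).eq.symm

/-- Blackburn's classification. -/
theorem classification (hp2 : p ≠ 2) (n : ℕ) (hn : Nat.card G = p ^ n)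
    (hrk : ∀ A : Subgroup G, Cfsg.IsElementaryAbelian p A → Nat.card A ≤ p ^ 2) :
    Cfsg.IsMetacyclic G ∨
    (3 ≤ n ∧ ∃ x y z : G, closure ({x, y, z} : Set G) = ⊤ ∧ x ^ p = 1 ∧ y ^ p = 1 ∧
      z ^ p ^ (n - 2) = 1 ∧ x * z = z * x ∧ y * z = z * y ∧
      x⁻¹ * y * x = y * z ^ p ^ (n - 3)) ∨
    (4 ≤ n ∧ ∃ (c : ℕ) (x y z : G), (c = 1 ∨ ¬ IsSquare (c : ZMod p)) ∧
      closure ({x, y, z} : Set G) = ⊤ ∧ x ^ p = 1 ∧ y ^ p = 1 ∧ z ^ p ^ (n - 2) = 1 ∧
      y * z = z * y ∧ x⁻¹ * y * x = y * z ^ (c * p ^ (n - 3)) ∧ x⁻¹ * z * x = y * z) ∨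
    (p = 3 ∧ 2 ≤ n ∧ (⊤ : Subgroup G).lowerCentralSeries (n - 2) ≠ ⊥) := by
  have hG : IsPGroup p G := IsPGroup.of_card hn
  by_cases hcyc : IsCyclic G
  · exact Or.inl ⟨⊥, inferInstance, isCyclic_of_subsingleton,
      isCyclic_of_surjective (QuotientGroup.mk' ⊥) (QuotientGroup.mk'_surjective _)⟩
  obtain ⟨E, hEn, hEcard, hEel⟩ := PGroupsCyclic.exists_normal_elementary_sq hG hp2 hcyc
  have hCp : ∀ x ∈ centralizer (E : Set G), x ^ p = 1 → x ∈ E := by
    intro x hx hxp
    have h1 : Cfsg.IsElementaryAbelian p (E ⊔ zpowers x) :=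
      PGroupsBasic.isElementaryAbelian_sup hEel (PGroupsBasic.isElementaryAbelian_zpowers hxp)
        (by rw [le_centralizer_iff, zpowers_le]; exact hx)
    have h2 : E = E ⊔ zpowers x := eq_of_le_of_card_ge le_sup_left (by
      rw [hEcard]; exact hrk _ h1)
    exact h2 ▸ mem_sup_right (mem_zpowers x)
  have hCi := RankTwoOdd.index_centralizer_le hG E hEel hEcard.le
  obtain ⟨j, hj⟩ := hG.index (centralizer (E : Set G))
  rcases j with _ | j
  · -- `E` is central
    left
    have htop : centralizer (E : Set G) = ⊤ := index_eq_one.mp (hj.trans (pow_zero p))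
    refine isMetacyclic_of_central _ G rfl hp2 hG E ?_
      (fun x => ⟨fun h => hEel.2 x h, fun h => hCp x (htop ▸ mem_top x) h⟩) hEcard.le
    exact fun e he => mem_center_iff.mpr fun g =>
      (mem_centralizer_iff.mp (htop ▸ mem_top g : g ∈ centralizer (E : Set G)) e he).symm
  have hidx : (centralizer (E : Set G)).index = p := by
    rw [hj] at hCi ⊢
    exact le_antisymm hCi (Nat.le_self_pow j.succ_ne_zero p)
  let S : Setting p G := ⟨E, hEn, hEel, hEcard, hCp, hidx⟩
  have hmax : (p = 3 ∧ ∀ n, Nat.card G = p ^ n → Group.nilpotencyClass G = n - 1) →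
      p = 3 ∧ 2 ≤ n ∧ (⊤ : Subgroup G).lowerCentralSeries (n - 2) ≠ ⊥ := by
    rintro ⟨h3, hcl⟩
    haveI := hG.isNilpotent
    have hn3 : 3 ≤ n := by
      by_contra h
      haveI := PGroupsBasic.isMulCommutative_of_card_le_sq hG
        (hn ▸ Nat.pow_le_pow_right hp.out.pos (by omega))
      have htop : centralizer (E : Set G) = ⊤ := eq_top_iff.mpr fun g _ =>
        mem_centralizer_iff.mpr fun e _ => (this.is_comm.comm e g)
      rw [htop, index_top] at hidx
      exact hp.out.one_lt.ne hidx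
    refine ⟨h3, by omega, ?_⟩
    rw [Ne, Subgroup.lowerCentralSeries_eq_bot_iff_nilpotencyClass_le, hcl n hn]
    omega
  by_cases hex : ∀ x : G, x ^ p = 1 → x ∈ E
  · rcases S.no_outside hp2 hG hex with h | h
    · exact Or.inl h
    · exact Or.inr (Or.inr (Or.inr (hmax h)))
  push Not at hex
  obtain ⟨s, hsp, hsE⟩ := hex
  have hs : s ∉ S.C := fun h => hsE (hCp s h hsp)
  rcases S.normal_or_maxClass hp2 hG hrk hs hsp with h | h
  · rcases S.presentation hp2 hG n hn hs hsp h with h' | h'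
    · exact Or.inr (Or.inl h')
    · exact Or.inr (Or.inr (Or.inl h'))
  · exact Or.inr (Or.inr (Or.inr (hmax h)))

end Main

end Cfsg.Agent.BlackburnRankTwo
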