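import Mathlib
import Cfsg.Prelude.Def_Blocks

/-!
# Blichfeldt's abelian normal subgroup of a finite linear group
-/

namespace Cfsg.Agent.Blichfeldt

set_option maxHeartbeats 80000
set_option linter.style.haveILetI false

open scoped ComplexConjugate InnerProductSpace commutatorElement

section Abstract

variable {G : Type*} [Group G] {E : Type*} [NormedAddCommGroup E] [InnerProductSpace ℂ E]
  [FiniteDimensional ℂ E] (U : G →* (E →ₗ[ℂ] E)) (hU : ∀ g v, ‖U g v‖ = ‖v‖)

/-- `U x` is within distance less than one half of a scalar. -/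
def Near (x : G) : Prop := ∃ (a : ℂ) (r : ℝ), r < 1/2 ∧ ∀ v, ‖U x v - a • v‖ ≤ r * ‖v‖

theorem U_mul_apply (g h : G) (v : E) : U (g * h) v = U g (U h v) := by
  rw [map_mul]; rfl

theorem U_inv_apply (g : G) (v : E) : U g (U g⁻¹ v) = v := by
  rw [← U_mul_apply, mul_inv_cancel, map_one]; rfl

theorem U_inv_apply' (g : G) (v : E) : U g⁻¹ (U g v) = v := by
  rw [← U_mul_apply, inv_mul_cancel, map_one]; rfl

include hU in
theorem near_conj (x g : G) (h : Near U x) : Near U (g * x * g⁻¹) := by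
  obtain ⟨a, r, hr, h⟩ := h
  refine ⟨a, r, hr, fun v => ?_⟩
  have h' := h (U g⁻¹ v)
  rw [← hU g (U x _ - _), map_sub, map_smul, U_inv_apply, ← U_mul_apply, ← U_mul_apply, hU] at h'
  exact h'

include hU in
theorem inner_U (g : G) (u v : E) : ⟪U g u, U g v⟫_ℂ = ⟪u, v⟫_ℂ :=
  (⟨U g, hU g⟩ : E →ₗᵢ[ℂ] E).inner_map_map u v

theorem isSemisimple_of_finite [Finite G] (g : G) : Module.End.IsSemisimple (U g) := by
  have hn : orderOf g ≠ 0 := (orderOf_pos g).ne'
  refine Module.End.isSemisimple_of_squarefree_aeval_eq_zero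
    (p := (Polynomial.X ^ orderOf g - 1 : Polynomial ℂ))
    (Polynomial.X_pow_sub_one_separable_iff.2 (by exact_mod_cast hn)).squarefree ?_
  rw [map_sub, map_pow, Polynomial.aeval_X, map_one, ← map_pow, pow_orderOf_eq_one, map_one, sub_self]

theorem exists_common_eigen [Finite G] (x y : G) (hc : Commute x y) (hne : U x ≠ U y) :
    ∃ (v : E) (a b : ℂ), v ≠ 0 ∧ a ≠ b ∧ U x v = a • v ∧ U y v = b • v := by
  have htop : ⨆ μ, Module.End.eigenspace (U y) μ = ⊤ := by
    have h := Module.End.iSup_maxGenEigenspace_eq_top (U y)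
    simpa only [(isSemisimple_of_finite U y).isFinitelySemisimple.maxGenEigenspace_eq_eigenspace]
      using h
  obtain ⟨b, w, hw, hwne⟩ : ∃ (b : ℂ) (w : E), w ∈ Module.End.eigenspace (U y) b ∧ U x w ≠ U y w := by
    by_contra hall
    push_neg at hall
    apply hne
    ext v
    have : (⊤ : Submodule ℂ E) ≤ LinearMap.eqLocus (U x) (U y) := by
      rw [← htop]; exact iSup_le fun b w hw => hall b w hw
    exact this trivial
  set K := Module.End.eigenspace (U y) b with hK
  have hmem : ∀ z ∈ K, U x z ∈ K := by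
    intro z hz
    rw [hK, Module.End.mem_eigenspace_iff] at hz ⊢
    rw [← U_mul_apply, ← hc.eq, U_mul_apply, hz, map_smul]
  let T : K →ₗ[ℂ] K := (U x).restrict hmem
  have htopx : ⨆ μ, Module.End.eigenspace T μ = ⊤ := by
    have hs : Module.End.IsSemisimple T := by
      have hn : orderOf x ≠ 0 := (orderOf_pos x).ne'
      refine Module.End.isSemisimple_of_squarefree_aeval_eq_zero
        (p := (Polynomial.X ^ orderOf x - 1 : Polynomial ℂ))
        (Polynomial.X_pow_sub_one_separable_iff.2 (by exact_mod_cast hn)).squarefree ?_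
      have : T ^ orderOf x = 1 := by
        rw [Module.End.pow_restrict]
        ext z
        have hz : U x ^ orderOf x = 1 := by rw [← map_pow, pow_orderOf_eq_one, map_one]
        simp [hz]
      simp [this]
    have h := Module.End.iSup_maxGenEigenspace_eq_top T
    simpa only [hs.isFinitelySemisimple.maxGenEigenspace_eq_eigenspace] using h
  by_contra hall
  push_neg at hall
  apply hwne
  have : (⊤ : Submodule ℂ K) ≤ LinearMap.eqLocus T (b • LinearMap.id) := by
    rw [← htopx]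
    refine iSup_le fun a z hz => ?_
    rw [Module.End.mem_eigenspace_iff] at hz
    by_cases hz0 : z = 0
    · subst hz0; simp [LinearMap.mem_eqLocus]
    have hzy : U y (z : E) = b • (z : E) := Module.End.mem_eigenspace_iff.1 z.2
    have hzx : U x (z : E) = a • (z : E) := congrArg Subtype.val hz
    have hab : a = b := by
      by_contra hab
      exact hall z a b (by simpa using hz0) hab hzx hzy
    rw [LinearMap.mem_eqLocus]
    apply Subtype.ext
    change U x (z : E) = b • (z : E)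
    rw [hzx, hab]
  have h2 := congrArg Subtype.val (this (Submodule.mem_top : (⟨w, hw⟩ : K) ∈ ⊤))
  have hwy : U y w = b • w := Module.End.mem_eigenspace_iff.1 hw
  rw [hwy]
  simpa [T] using h2

include hU in
theorem commute_of_commute_commutator [Finite G] (hinj : Function.Injective U) (x w : G)
    (hw : Near U w) (h : Commute x ⁅x, w⁆) : Commute x w := by
  rw [commutatorElement_def] at h
  set x' := w * x * w⁻¹ with hx'
  have hc : Commute x x' := by
    have e : x' = (x * w * x⁻¹ * w⁻¹)⁻¹ * x := by rw [hx']; group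
    rw [e]; exact (h.inv_right).mul_right (Commute.refl x)
  by_contra hxw
  have hne : x ≠ x' := by
    intro he; apply hxw
    have h1 := congrArg (· * w) he
    simp only [hx', inv_mul_cancel_right] at h1
    exact h1
  obtain ⟨v, a, b, hv, hab, hxv, hxv'⟩ := exists_common_eigen U x x' hc (hinj.ne hne)
  set u := U w⁻¹ v with hu
  have hxu : U x u = b • u := by
    have := congrArg (U w⁻¹) hxv'
    rw [map_smul, ← U_mul_apply, hx', show w⁻¹ * (w * x * w⁻¹) = x * w⁻¹ by group, U_mul_apply]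
      at this
    exact this
  have hwu : U w u = v := U_inv_apply U w v
  have hu0 : u ≠ 0 := by
    intro h0; rw [h0, map_zero] at hwu; exact hv hwu.symm
  have hbn : ‖b‖ = 1 := by
    have := hU x u
    rw [hxu, norm_smul] at this
    exact (mul_eq_right₀ (by simpa using hu0)).1 this
  have horth : ⟪u, v⟫_ℂ = 0 := by
    have h1 := inner_U U hU x u v
    rw [hxu, hxv, inner_smul_left, inner_smul_right, ← mul_assoc] at h1
    by_contra h0
    have h2 : (starRingEnd ℂ) b * a = 1 := (mul_eq_right₀ h0).1 h1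
    have h3 : b * (starRingEnd ℂ) b = 1 := by
      rw [Complex.mul_conj']; simp [hbn]
    apply hab
    calc a = b * ((starRingEnd ℂ) b * a) := by rw [← mul_assoc, h3, one_mul]
    _ = b := by rw [h2, mul_one]
  obtain ⟨c, r, hr, hw⟩ := hw
  have hbound := hw u
  rw [hwu] at hbound
  have hvu : ‖v‖ = ‖u‖ := by rw [← hwu, hU]
  have hpos : 0 < ‖u‖ := norm_pos_iff.2 hu0
  have h1 : ‖v‖ ≤ r * ‖u‖ + ‖c‖ * ‖u‖ := by
    calc ‖v‖ = ‖(v - c • u) + c • u‖ := by simp
    _ ≤ ‖v - c • u‖ + ‖c • u‖ := norm_add_le _ _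
    _ ≤ _ := by rw [norm_smul]; linarith
  have h2 : ‖c‖ * (‖u‖ * ‖u‖) ≤ r * (‖u‖ * ‖u‖) := by
    have e : ⟪u, v - c • u⟫_ℂ = -(c * ⟪u, u⟫_ℂ) := by
      rw [inner_sub_right, inner_smul_right, horth, zero_sub]
    calc ‖c‖ * (‖u‖ * ‖u‖) = ‖⟪u, v - c • u⟫_ℂ‖ := by
          rw [e, norm_neg, norm_mul, inner_self_eq_norm_sq_to_K]; simp [sq]
    _ ≤ ‖u‖ * ‖v - c • u‖ := norm_inner_le_norm _ _
    _ ≤ ‖u‖ * (r * ‖u‖) := by gcongr
    _ = _ := by ring
  have h3 : ‖c‖ ≤ r := le_of_mul_le_mul_right h2 (by positivity)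
  nlinarith

include hU in
theorem contraction (x z : G) (a b : ℂ) (r s : ℝ) (hr : 0 ≤ r)
    (hx : ∀ v, ‖U x v - a • v‖ ≤ r * ‖v‖) (hz : ∀ v, ‖U z v - b • v‖ ≤ s * ‖v‖) (v : E) :
    ‖U ⁅x, z⁆ v - v‖ ≤ 2 * r * s * ‖v‖ := by
  set u := U (x⁻¹ * z⁻¹) v with hu
  have hun : ‖u‖ = ‖v‖ := hU _ _
  have e1 : U ⁅x, z⁆ v = U x (U z u) := by
    rw [hu, ← U_mul_apply, ← U_mul_apply, commutatorElement_def]
    congr 2; group
  have e2 : v = U z (U x u) := by
    rw [hu, ← U_mul_apply, ← U_mul_apply]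
    simp [mul_assoc]
  have e3 : U ⁅x, z⁆ v - v = (U x (U z u - b • u) - a • (U z u - b • u))
      - (U z (U x u - a • u) - b • (U x u - a • u)) := by
    rw [e1]
    conv_lhs => arg 2; rw [e2]
    simp only [map_sub, map_smul, smul_sub, smul_comm a b u]
    abel
  rw [e3]
  refine (norm_sub_le _ _).trans ?_
  have A1 := hx (U z u - b • u)
  have A2 := hz (U x u - a • u)
  have B1 := hz u
  have B2 := hx u
  rw [hun] at B1 B2
  by_cases hs : 0 ≤ s
  · have C1 := A1.trans (mul_le_mul_of_nonneg_left B1 hr)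
    have C2 := A2.trans (mul_le_mul_of_nonneg_left B2 hs)
    linarith
  · have hv : ‖v‖ = 0 := by nlinarith [norm_nonneg (U z v - b • v), hz v, norm_nonneg v]
    have hu0 : u = 0 := norm_eq_zero.1 (hun.trans hv)
    simp [hu0, hv]

include hU in
theorem commute_of_near [Finite G] (hinj : Function.Injective U) (x y : G)
    (hx : Near U x) (hy : Near U y) : Commute x y := by
  obtain ⟨a, r, hr, hx⟩ := hx
  obtain ⟨b, s, hs, hy'⟩ := id hy
  by_cases hv0 : ∀ v : E, v = 0
  · have : ∀ g : G, g = 1 := fun g => hinj (LinearMap.ext fun v => (hv0 _).trans (hv0 _).symm)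
    rw [this x, this y]
  push_neg at hv0
  obtain ⟨v0, hv0⟩ := hv0
  have hv0' : 0 < ‖v0‖ := norm_pos_iff.2 hv0
  have hr0 : 0 ≤ r := by nlinarith [hx v0, norm_nonneg (U x v0 - a • v0)]
  have hs0 : 0 ≤ s := by nlinarith [hy' v0, norm_nonneg (U y v0 - b • v0)]
  set f : G → G := fun z => ⁅x, z⁆
  have bound : ∀ k : ℕ, ∀ v, ‖U (f^[k + 1] y) v - (1 : ℂ) • v‖ ≤ (2 * r) ^ (k + 1) * s * ‖v‖ := by
    intro k
    induction k with
    | zero => intro v; simpa [f] using contraction U hU x y a b r s hr0 hx hy' v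
    | succ k ih =>
      intro v
      rw [Function.iterate_succ_apply', one_smul]
      refine (contraction U hU x _ a 1 r _ hr0 hx ih v).trans (le_of_eq ?_)
      ring
  have hne : ∀ z : G, z ≠ 1 → ∃ ε : ℝ, 0 < ε ∧ ∀ t : ℝ, (∀ v, ‖U z v - v‖ ≤ t * ‖v‖) → ε ≤ t := by
    intro z hz
    obtain ⟨v, hv⟩ : ∃ v, U z v ≠ v := by
      by_contra hall
      push_neg at hall
      exact hz (hinj (LinearMap.ext fun v => by rw [hall v, map_one]; rfl))
    have hv' : 0 < ‖v‖ := norm_pos_iff.2 (by rintro rfl; exact hv (map_zero _))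
    refine ⟨‖U z v - v‖ / ‖v‖, div_pos (norm_pos_iff.2 (sub_ne_zero.2 hv)) hv', fun t ht => ?_⟩
    rw [div_le_iff₀ hv']; exact ht v
  have hone : ∃ k, f^[k + 1] y = 1 := by
    by_contra hall
    push_neg at hall
    choose ε hε0 hε using hne
    haveI := Fintype.ofFinite G
    classical
    let ε' : G → ℝ := fun z => if h : z = 1 then 1 else ε z h
    obtain ⟨z0, -, hz0⟩ := Finset.exists_min_image Finset.univ ε' ⟨1, Finset.mem_univ _⟩
    have hpos : 0 < ε' z0 := by
      by_cases h : z0 = 1 <;> simp [ε', h, hε0]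
    obtain ⟨k, hk⟩ := exists_pow_lt_of_lt_one hpos (show 2 * r < 1 by linarith)
    have h2 := hε _ (hall k) _ (fun v => by simpa using bound k v)
    have h3 : ε' z0 ≤ ε _ (hall k) := by
      have h4 := hz0 (f^[k+1] y) (Finset.mem_univ _)
      simp only [ε', dif_neg (hall k)] at h4 ⊢
      exact h4
    have h4 : (2 * r) ^ (k + 1) * s ≤ (2 * r) ^ k := by
      have : (0:ℝ) ≤ (2*r)^k := by positivity
      rw [pow_succ, mul_assoc]
      exact mul_le_of_le_one_right this (by nlinarith)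
    linarith
  have hnear : ∀ k, Near U (f^[k] y) := by
    intro k
    cases k with
    | zero => exact hy
    | succ k =>
      refine ⟨1, (2 * r) ^ (k + 1) * s, ?_, bound k⟩
      have : (2*r)^(k+1) ≤ 1 := pow_le_one₀ (by positivity) (by linarith)
      nlinarith
  have down : ∀ k, Commute x (f^[k] y) → Commute x y := by
    intro k
    induction k with
    | zero => exact id
    | succ k ih =>
      intro h
      rw [Function.iterate_succ_apply'] at h
      exact ih (commute_of_commute_commutator U hU hinj x _ (hnear k) h)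
  obtain ⟨k, hk⟩ := hone
  exact down (k+1) (by rw [hk]; exact Commute.one_right x)

omit [FiniteDimensional ℂ E] in
theorem box {z w : ℂ} (hz : ‖z‖ = 1) (hw : ‖w‖ = 1)
    (h : (⌊Complex.arg z * 6 / Real.pi⌋ : ZMod 12) = ⌊Complex.arg w * 6 / Real.pi⌋) :
    ‖z - ((Real.sqrt 3 / 2 : ℝ) : ℂ) * w‖ < 1/2 := by
  set θ := Complex.arg z
  set φ := Complex.arg w
  have hpi := Real.pi_pos
  rw [ZMod.intCast_eq_intCast_iff_dvd_sub] at h
  obtain ⟨k, hk⟩ := h
  have e1 := Int.floor_le (θ * 6 / Real.pi)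
  have e2 := Int.lt_floor_add_one (θ * 6 / Real.pi)
  have e3 := Int.floor_le (φ * 6 / Real.pi)
  have e4 := Int.lt_floor_add_one (φ * 6 / Real.pi)
  have hk' : (⌊φ * 6 / Real.pi⌋ : ℝ) - ⌊θ * 6 / Real.pi⌋ = 12 * k := by exact_mod_cast hk
  have hd : |(φ - θ) * 6 / Real.pi - 12 * k| < 1 := by
    rw [abs_lt, sub_mul, sub_div]; constructor <;> linarith
  have hd' : |φ - θ - k * (2 * Real.pi)| < Real.pi / 6 := by
    have e : (φ - θ) * 6 / Real.pi - 12 * k = (φ - θ - k * (2 * Real.pi)) * (6 / Real.pi) := by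
      field_simp; ring
    rw [e, abs_mul, abs_of_pos (by positivity : (0:ℝ) < 6 / Real.pi), ← lt_div_iff₀ (by positivity)] at hd
    rwa [one_div_div] at hd
  have hcos : Real.sqrt 3 / 2 < Real.cos (φ - θ) := by
    rw [← Real.cos_pi_div_six, ← Real.cos_sub_int_mul_two_pi (φ - θ) k, ← Real.cos_abs (_ - _)]
    exact Real.cos_lt_cos_of_nonneg_of_le_pi (abs_nonneg _) (by linarith) hd'
  rw [Real.cos_sub] at hcos
  have hz0 : z ≠ 0 := by intro h0; simp [h0] at hz
  have hw0 : w ≠ 0 := by intro h0; simp [h0] at hw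
  rw [Complex.cos_arg hz0, Complex.cos_arg hw0, Complex.sin_arg, Complex.sin_arg, hz, hw] at hcos
  simp only [div_one] at hcos
  have hz2 : z.re * z.re + z.im * z.im = 1 := by
    rw [← Complex.normSq_apply, Complex.normSq_eq_norm_sq, hz]; norm_num
  have hw2 : w.re * w.re + w.im * w.im = 1 := by
    rw [← Complex.normSq_apply, Complex.normSq_eq_norm_sq, hw]; norm_num
  have h3 : Real.sqrt 3 * Real.sqrt 3 = 3 := Real.mul_self_sqrt (by norm_num)
  have hs : 0 < Real.sqrt 3 := by positivity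
  refine lt_of_pow_lt_pow_left₀ 2 (by norm_num) ?_
  rw [← Complex.normSq_eq_norm_sq, Complex.normSq_apply]
  simp only [Complex.sub_re, Complex.sub_im, Complex.mul_re, Complex.mul_im, Complex.ofReal_re,
    Complex.ofReal_im, zero_mul, sub_zero, add_zero]
  nlinarith

include hU in
theorem exists_eigvec_abelian [Finite G] (H : Subgroup G) (hH : ∀ x ∈ H, ∀ y ∈ H, x * y = y * x)
    (K : Submodule ℂ E) (hK : ∀ h ∈ H, ∀ v ∈ K, U h v ∈ K) (hne : K ≠ ⊥) :
    ∃ v ∈ K, v ≠ 0 ∧ ∀ h ∈ H, ∃ c : ℂ, ‖c‖ = 1 ∧ U h v = c • v := by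
  obtain ⟨K', hK', hmin⟩ := (wellFounded_lt (α := Submodule ℂ E)).has_min
    {L : Submodule ℂ E | L ≤ K ∧ L ≠ ⊥ ∧ ∀ h ∈ H, ∀ v ∈ L, U h v ∈ L} ⟨K, le_rfl, hne, hK⟩
  obtain ⟨hle, hne', hinv⟩ := hK'
  obtain ⟨v, hv, hv0⟩ := Submodule.exists_mem_ne_zero_of_ne_bot hne'
  refine ⟨v, hle hv, hv0, fun h hh => ?_⟩
  haveI : Nontrivial K' := Submodule.nontrivial_iff_ne_bot.2 hne'
  obtain ⟨c, hc⟩ := Module.End.exists_eigenvalue ((U h).restrict (hinv h hh))
  obtain ⟨z, hz⟩ := hc.exists_hasEigenvector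
  let L : Submodule ℂ E := K' ⊓ Module.End.eigenspace (U h) c
  have hL : L = K' := by
    refine eq_of_le_of_not_lt inf_le_left (hmin L ⟨inf_le_left.trans hle, ?_, ?_⟩)
    · rw [Submodule.ne_bot_iff]
      refine ⟨z, ⟨z.2, ?_⟩, ?_⟩
      · rw [SetLike.mem_coe, Module.End.mem_eigenspace_iff]
        exact congrArg Subtype.val hz.apply_eq_smul
      · simpa using hz.2
    · intro g hg u hu
      refine ⟨hinv g hg u hu.1, ?_⟩
      have := Module.End.mem_eigenspace_iff.1 hu.2
      rw [SetLike.mem_coe, Module.End.mem_eigenspace_iff, ← U_mul_apply, hH h hh g hg, U_mul_apply,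
        this, map_smul]
  have hvL : v ∈ L := hL ▸ hv
  have heq := Module.End.mem_eigenspace_iff.1 hvL.2
  refine ⟨c, ?_, heq⟩
  have h1 := hU h v
  rw [heq, norm_smul] at h1
  exact (mul_eq_right₀ (by simpa using hv0)).1 h1

include hU in
theorem boxes [Finite G] (H : Subgroup G) (hH : ∀ x ∈ H, ∀ y ∈ H, x * y = y * x) :
    ∀ (K : Submodule ℂ E), (∀ h ∈ H, ∀ v ∈ K, U h v ∈ K) →
      ∃ f : H → Fin (Module.finrank ℂ K) → ZMod 12, ∀ x y : H, f x = f y →
        ∃ r : ℝ, 0 ≤ r ∧ r < 1/2 ∧ ∀ w ∈ K,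
          ‖U (x : G) w - ((Real.sqrt 3 / 2 : ℝ) : ℂ) • U (y : G) w‖ ≤ r * ‖w‖ := by
  intro K
  induction hd : Module.finrank ℂ K generalizing K with
  | zero =>
    intro _
    refine ⟨fun _ i => i.elim0, fun x y _ => ⟨0, le_rfl, by norm_num, fun w hw => ?_⟩⟩
    rw [Submodule.finrank_eq_zero] at hd
    subst hd
    simp [(Submodule.mem_bot ℂ).1 hw]
  | succ d ih =>
    intro hK
    have hne : K ≠ ⊥ := by intro h; subst h; simp at hd
    obtain ⟨v, hvK, hv0, hv⟩ := exists_eigvec_abelian U hU H hH K hK hne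
    choose c hc1 hc using hv
    have hvK' : Submodule.span ℂ {v} ≤ K := (Submodule.span_singleton_le_iff_mem v K).2 hvK
    let K' : Submodule ℂ E := (Submodule.span ℂ {v})ᗮ ⊓ K
    have hd' : Module.finrank ℂ K' = d := by
      have h1 := Submodule.finrank_add_inf_finrank_orthogonal hvK'
      rw [finrank_span_singleton hv0, hd] at h1
      change 1 + Module.finrank ℂ K' = d + 1 at h1
      omega
    have hK' : ∀ h ∈ H, ∀ w ∈ K', U h w ∈ K' := by
      intro h hh w hw
      refine ⟨?_, hK h hh w hw.2⟩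
      rw [SetLike.mem_coe, Submodule.mem_orthogonal_singleton_iff_inner_right]
      have h1 := inner_U U hU h v w
      rw [hc h hh, inner_smul_left, Submodule.mem_orthogonal_singleton_iff_inner_right.1 hw.1] at h1
      rcases mul_eq_zero.1 h1 with h2 | h2
      · exfalso
        rw [map_eq_zero] at h2
        have := hc1 h hh
        rw [h2] at this; simp at this
      · exact h2
    obtain ⟨f, hf⟩ := ih K' hd' hK'
    refine ⟨fun x => Fin.cons (⌊Complex.arg (c x x.2) * 6 / Real.pi⌋ : ZMod 12) (f x),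
      fun x y hxy => ?_⟩
    obtain ⟨r, hr0, hr, hr'⟩ := hf x y (by simpa using congrArg Fin.tail hxy)
    have hbox := box (hc1 x x.2) (hc1 y y.2) (by simpa using congrFun hxy 0)
    set a : ℂ := ((Real.sqrt 3 / 2 : ℝ) : ℂ)
    set t := ‖c x x.2 - a * c y y.2‖
    refine ⟨max r t, le_max_of_le_left hr0, max_lt hr hbox, fun w hw => ?_⟩
    have hdec : w ∈ Submodule.span ℂ {v} ⊔ K' := by
      rw [Submodule.sup_orthogonal_inf_of_hasOrthogonalProjection hvK']; exact hw
    obtain ⟨p, hp, q, hq, rfl⟩ := Submodule.mem_sup.1 hdec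
    obtain ⟨e, rfl⟩ := Submodule.mem_span_singleton.1 hp
    set T : E →ₗ[ℂ] E := U (x : G) - a • U (y : G) with hT
    have hT' : ∀ z, U (x : G) z - a • U (y : G) z = T z := fun z => rfl
    rw [hT']
    have hTv : T (e • v) = (e * (c x x.2 - a * c y y.2)) • v := by
      rw [map_smul, ← hT', hc x x.2, hc y y.2]
      module
    have hTq : T q ∈ K' := sub_mem (hK' x x.2 q hq) (Submodule.smul_mem _ _ (hK' y y.2 q hq))
    have orth : ∀ (k : ℂ) (z : E), z ∈ K' → ⟪k • v, z⟫_ℂ = 0 := fun k z hz => by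
      rw [inner_smul_left, Submodule.mem_orthogonal_singleton_iff_inner_right.1 hz.1, mul_zero]
    have P1 := norm_add_sq_eq_norm_sq_add_norm_sq_of_inner_eq_zero _ _ (orth e q hq)
    have P2 := norm_add_sq_eq_norm_sq_add_norm_sq_of_inner_eq_zero _ _
      (orth (e * (c x x.2 - a * c y y.2)) _ hTq)
    rw [map_add, hTv]
    have hTq' : ‖T q‖ ≤ max r t * ‖q‖ :=
      (hr' q hq).trans (by gcongr; exact le_max_left _ _)
    have hTv' : ‖(e * (c x x.2 - a * c y y.2)) • v‖ ≤ max r t * ‖e • v‖ := by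
      rw [norm_smul, norm_smul, norm_mul, mul_assoc, mul_left_comm]
      gcongr
      exact le_max_right _ _
    refine le_of_pow_le_pow_left₀ two_ne_zero (mul_nonneg (le_max_of_le_left hr0) (norm_nonneg _)) ?_
    rw [sq, sq, P2]
    calc _ ≤ max r t * ‖e • v‖ * (max r t * ‖e • v‖) + max r t * ‖q‖ * (max r t * ‖q‖) :=
          add_le_add (mul_self_le_mul_self (norm_nonneg _) hTv')
            (mul_self_le_mul_self (norm_nonneg _) hTq')
    _ = max r t * max r t * (‖e • v‖ * ‖e • v‖ + ‖q‖ * ‖q‖) := by ring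
    _ = _ := by rw [← P1]; ring

include hU in
theorem main [Finite G] (hinj : Function.Injective U) :
    ∃ A : Subgroup G, A.Normal ∧ (∀ x ∈ A, ∀ y ∈ A, x * y = y * x) ∧
      ∀ H : Subgroup G, (∀ x ∈ H, ∀ y ∈ H, x * y = y * x) →
        (A.subgroupOf H).index ≤ 12 ^ Module.finrank ℂ E := by
  let A := Subgroup.closure {x : G | Near U x}
  refine ⟨A, ⟨fun a ha g => ?_⟩, ?_, fun H hH => ?_⟩
  · induction ha using Subgroup.closure_induction with
    | mem z hz => exact Subgroup.subset_closure (near_conj U hU z g hz)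
    | one => simp
    | mul z w _ _ hz hw => rw [show g * (z * w) * g⁻¹ = g * z * g⁻¹ * (g * w * g⁻¹) by group]; exact mul_mem hz hw
    | inv z _ hz => rw [show g * z⁻¹ * g⁻¹ = (g * z * g⁻¹)⁻¹ by group]; exact inv_mem hz
  · haveI : IsMulCommutative A :=
      Subgroup.isMulCommutative_closure fun a ha b hb => (commute_of_near U hU hinj a b ha hb).eq
    intro x hx y hy
    exact congrArg Subtype.val (mul_comm' (⟨x, hx⟩ : A) ⟨y, hy⟩)
  · obtain ⟨f, hf⟩ := boxes U hU H hH ⊤ (fun _ _ _ _ => trivial)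
    have hcard : Nat.card (Fin (Module.finrank ℂ (⊤ : Submodule ℂ E)) → ZMod 12)
        = 12 ^ Module.finrank ℂ E := by
      simp [finrank_top]
    rw [Subgroup.index, ← hcard]
    refine Nat.card_le_card_of_injective (fun q => f q.out) fun p q hpq => ?_
    rw [← p.out_eq, ← q.out_eq]
    refine QuotientGroup.eq.2 ?_
    rw [Subgroup.mem_subgroupOf]
    obtain ⟨r, -, hr, hr'⟩ := hf q.out p.out hpq.symm
    refine Subgroup.subset_closure ⟨((Real.sqrt 3 / 2 : ℝ) : ℂ), r, hr, fun v => ?_⟩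
    have h1 := hr' (U ((p.out : G))⁻¹ v) trivial
    rw [← U_mul_apply, U_inv_apply, hU] at h1
    rw [Subgroup.coe_mul, Subgroup.coe_inv, hH _ (inv_mem p.out.2) _ q.out.2]
    exact h1

end Abstract

/-- Transport a representation along a linear equivalence. -/
def transport {G : Type*} [Group G] {V W : Type*} [AddCommGroup V] [Module ℂ V] [AddCommGroup W]
    [Module ℂ W] (e : V ≃ₗ[ℂ] W) (ρ : Representation ℂ G V) : G →* (W →ₗ[ℂ] W) where
  toFun g := e.toLinearMap ∘ₗ ρ g ∘ₗ e.symm.toLinearMap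
  map_one' := by ext v; simp
  map_mul' g h := by ext v; simp

theorem transport_apply {G : Type*} [Group G] {V W : Type*} [AddCommGroup V] [Module ℂ V]
    [AddCommGroup W] [Module ℂ W] (e : V ≃ₗ[ℂ] W) (ρ : Representation ℂ G V) (g : G) (v : V) :
    transport e ρ g (e v) = e (ρ g v) := by
  simp [transport]

/-- The map `v ↦ (ρ g v)_g`, along which the `G`-action becomes a coordinate permutation. -/
noncomputable def embed {G : Type*} [Group G] [Fintype G] {n : ℕ}
    (ρ : Representation ℂ G (Fin n → ℂ)) : (Fin n → ℂ) →ₗ[ℂ] EuclideanSpace ℂ (G × Fin n) where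
  toFun v := WithLp.toLp 2 fun p => ρ p.1 v p.2
  map_add' a b := by ext p; simp
  map_smul' a b := by ext p; simp

theorem embed_injective {G : Type*} [Group G] [Fintype G] {n : ℕ}
    (ρ : Representation ℂ G (Fin n → ℂ)) : Function.Injective (embed ρ) := fun a b h => by
  ext i
  simpa [embed] using congrArg (fun z => z (1, i)) h

theorem norm_embed {G : Type*} [Group G] [Fintype G] {n : ℕ}
    (ρ : Representation ℂ G (Fin n → ℂ)) (g : G) (w : Fin n → ℂ) :
    ‖embed ρ (ρ g w)‖ = ‖embed ρ w‖ := by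
  rw [EuclideanSpace.norm_eq, EuclideanSpace.norm_eq]
  congr 1
  refine Fintype.sum_equiv ((Equiv.mulRight g).prodCongr (Equiv.refl _)) _ _ fun p => ?_
  simp [embed]

theorem exists_normal_abelian_aux {G : Type*} [Group G] [Finite G] {n : ℕ}
    (ρ : Representation ℂ G (Fin n → ℂ)) (hinj : Function.Injective ρ)
    {E : Type*} [NormedAddCommGroup E] [InnerProductSpace ℂ E] [FiniteDimensional ℂ E]
    (e : (Fin n → ℂ) ≃ₗ[ℂ] E) (hiso : ∀ g w, ‖e (ρ g w)‖ = ‖e w‖) :
    ∃ A : Subgroup G, A.Normal ∧ (∀ x ∈ A, ∀ y ∈ A, x * y = y * x) ∧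
      ∀ H : Subgroup G, (∀ x ∈ H, ∀ y ∈ H, x * y = y * x) →
        (A.subgroupOf H).index ≤ 12 ^ n := by
  have hU : ∀ g v, ‖transport e ρ g v‖ = ‖v‖ := by
    intro g v
    obtain ⟨w, rfl⟩ := e.surjective v
    rw [transport_apply]
    exact hiso g w
  have hinjU : Function.Injective (transport e ρ) := by
    intro g h hgh
    refine hinj (LinearMap.ext fun w => e.injective ?_)
    rw [← transport_apply, ← transport_apply, hgh]
  have hd : Module.finrank ℂ E = n := e.finrank_eq.symm.trans (Module.finrank_fin_fun ℂ)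
  have h := main (transport e ρ) hU hinjU
  rw [hd] at h
  exact h

/-- A finite subgroup of `GL_n(ℂ)` has an abelian normal subgroup meeting every abelian subgroup
in index at most `12 ^ n`. -/
theorem exists_normal_abelian {G : Type*} [Group G] [Finite G] {n : ℕ}
    (ρ : Representation ℂ G (Fin n → ℂ)) (hinj : Function.Injective ρ) :
    ∃ A : Subgroup G, A.Normal ∧ (∀ x ∈ A, ∀ y ∈ A, x * y = y * x) ∧
      ∀ H : Subgroup G, (∀ x ∈ H, ∀ y ∈ H, x * y = y * x) →
        (A.subgroupOf H).index ≤ 12 ^ n :=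
  letI := Fintype.ofFinite G
  exists_normal_abelian_aux ρ hinj (E := LinearMap.range (embed ρ))
    (LinearEquiv.ofInjective (embed ρ) (embed_injective ρ)) fun g w => by
      rw [Submodule.coe_norm, Submodule.coe_norm, LinearEquiv.ofInjective_apply,
        LinearEquiv.ofInjective_apply]
      exact norm_embed ρ g w

end Cfsg.Agent.Blichfeldt
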