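import Mathlib
import Cfsg.Agent.Lib.Blichfeldt

/-!
An element of a unitary group one of whose eigenvalues has all others within sixty degrees
stabilises that eigenspace together with all its conjugates.
-/

set_option autoImplicit false

open scoped ComplexConjugate InnerProductSpace

namespace Cfsg.Agent.BlichfeldtSixty86

variable {G : Type*} [Group G] [Finite G] {E : Type*} [NormedAddCommGroup E]
  [InnerProductSpace ℂ E] [FiniteDimensional ℂ E] (U : G →* (E →ₗ[ℂ] E)) (hU : ∀ g v, ‖U g v‖ = ‖v‖)

theorem mul_apply (g h : G) (v : E) : U (g * h) v = U g (U h v) := by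
  rw [map_mul]; rfl

theorem one_apply (v : E) : U 1 v = v := by
  rw [map_one]; rfl

theorem inv_apply_self (g : G) (v : E) : U g⁻¹ (U g v) = v := by
  rw [← mul_apply, inv_mul_cancel, one_apply]

include hU

/-- Conjugates of `x` map the eigenspace of `w` into itself, when `U x` is within less than one
of the scalar `w`. -/
theorem conj_stable (x : G) (w : ℂ) (hw : ‖w‖ = 1) (κ : ℝ) (hκ : κ < 1)
    (hx : ∀ v, ‖U x v - w • v‖ ≤ κ * ‖v‖) (c : G) (hc : IsConj x c) {v : E} (hv : U x v = w • v) :
    U x (U c v) = w • U c v := by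
  have hw0 : w ≠ 0 := by intro h; simp [h] at hw
  have hinner : ∀ g u u', ⟪U g u, U g u'⟫_ℂ = ⟪u, u'⟫_ℂ := fun g u u' =>
    Blichfeldt.inner_U U hU g u u'
  have hpow : ∀ u, U x u = w • u → ∀ i : ℕ, U (x ^ i) u = w ^ i • u := by
    intro u hu i
    induction i with
    | zero => rw [pow_zero, pow_zero, one_apply, one_smul]
    | succ i ih => rw [pow_succ, mul_apply, hu, map_smul, ih, smul_smul, pow_succ']
  have hinv : ∀ u, U x u = w • u → U x⁻¹ u = w⁻¹ • u := fun u hu => by
    conv_lhs => rw [← inv_smul_smul₀ hw0 u, ← hu]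
    rw [map_smul, inv_apply_self]
  -- the iteration
  set f : G → G := fun c => (c * x⁻¹)⁻¹ * x * (c * x⁻¹) with hf
  have hconj : ∀ c, IsConj x c → IsConj x (f c) := fun c _ =>
    isConj_iff.2 ⟨(c * x⁻¹)⁻¹, by rw [hf, inv_inv]⟩
  have hbound : ∀ c, IsConj x c → ∀ u, ‖U c u - w • u‖ ≤ κ * ‖u‖ := by
    intro c hc u
    obtain ⟨g, rfl⟩ := isConj_iff.1 hc
    have h := hx (U g⁻¹ u)
    rw [hU] at h
    have e : U (g * x * g⁻¹) u - w • u = U g (U x (U g⁻¹ u) - w • U g⁻¹ u) := by
      rw [map_sub, map_smul, ← mul_apply, ← mul_apply, ← mul_apply, mul_inv_cancel, one_apply]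
    rw [e, hU]
    exact h
  have hstep : ∀ c u, U x u = w • u → ‖U (f c) u - w • u‖ ≤ κ * ‖U c u - w • u‖ := by
    intro c u hu
    set z := c * x⁻¹ with hz
    have hzu : U z u = w⁻¹ • U c u := by rw [hz, mul_apply, hinv u hu, map_smul]
    have e : U (f c) u - w • u = U z⁻¹ (U x (U z u - u) - w • (U z u - u)) := by
      rw [hf]
      simp only [← hz, mul_apply, map_sub, map_smul, smul_sub, inv_apply_self, hu]
      abel
    have h := hx (U z u - u)
    rw [e, hU]
    refine h.trans (le_of_eq ?_)
    rw [hzu, show w⁻¹ • U c u - u = w⁻¹ • (U c u - w • u) by rw [smul_sub, inv_smul_smul₀ hw0],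
      norm_smul, norm_inv, hw, inv_one, one_mul]
  have hiter : ∀ n c, IsConj x c → IsConj x (f^[n] c) := fun n => by
    induction n with
    | zero => exact fun c h => h
    | succ n ih => exact fun c h => by rw [Function.iterate_succ_apply']; exact hconj _ (ih c h)
  have hfix : ∃ n, ∀ u, U x u = w • u → U (f^[n] c) u = w • u := by
    obtain ⟨i, j, hne, hij⟩ := Finite.exists_ne_map_eq_of_infinite (fun n : ℕ => f^[n] c)
    obtain ⟨i, j, hlt, hij⟩ : ∃ i j : ℕ, i < j ∧ f^[i] c = f^[j] c := by
      rcases Nat.lt_or_ge i j with h | h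
      · exact ⟨i, j, h, hij⟩
      · exact ⟨j, i, by omega, hij.symm⟩
    refine ⟨i, fun u hu => ?_⟩
    have hdec : ∀ k, ‖U (f^[i + k] c) u - w • u‖ ≤ max κ 0 ^ k * ‖U (f^[i] c) u - w • u‖ := by
      intro k
      induction k with
      | zero => simp
      | succ k ih =>
        rw [← add_assoc, Function.iterate_succ_apply', pow_succ', mul_assoc]
        refine (hstep _ u hu).trans ?_
        refine le_trans (mul_le_mul_of_nonneg_right (le_max_left κ 0) (norm_nonneg _)) ?_
        exact mul_le_mul_of_nonneg_left ih (le_max_right κ 0)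
    have h := hdec (j - i)
    rw [show i + (j - i) = j by omega, ← hij] at h
    have h1 : max κ 0 ^ (j - i) < 1 :=
      pow_lt_one₀ (le_max_right κ 0) (max_lt hκ one_pos) (by omega)
    have h2 : ‖U (f^[i] c) u - w • u‖ = 0 := by
      nlinarith [norm_nonneg (U (f^[i] c) u - w • u)]
    exact sub_eq_zero.1 (norm_eq_zero.1 h2)
  have hback : ∀ c, IsConj x c → (∀ u, U x u = w • u → U x (U (f c) u) = w • U (f c) u) →
      ∀ u, U x u = w • u → U x (U c u) = w • U c u := by
    intro c hc hfc u hu
    have hF : ∀ u, U x u = w • u → ∃ u', U x u' = w • u' ∧ U x (U c u) = U c u' := by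
      intro u hu
      have h1 := hfc u hu
      set z := c * x⁻¹ with hz
      have hzu : ∀ t, U x t = w • t → U z t = w⁻¹ • U c t := fun t ht => by
        rw [hz, mul_apply, hinv t ht, map_smul]
      refine ⟨U (f c) u, h1, ?_⟩
      have h2 : U z (U (f c) u) = U x (U z u) := by
        rw [hf]
        simp only [← hz, ← mul_apply]
        congr 2
        group
      rw [hzu _ h1, hzu u hu, map_smul] at h2
      exact (smul_right_injective E (inv_ne_zero hw0) h2).symm
    have hFi : ∀ i : ℕ, ∃ u', U x u' = w • u' ∧ U (x ^ i) (U c u) = U c u' := by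
      intro i
      induction i with
      | zero => exact ⟨u, hu, by rw [pow_zero, one_apply]⟩
      | succ i ih =>
        obtain ⟨u', hu', h⟩ := ih
        obtain ⟨u'', hu'', h'⟩ := hF u' hu'
        exact ⟨u'', hu'', by rw [pow_succ', mul_apply, h, h']⟩
    choose u' hu'1 hu'2 using hFi
    set m := orderOf x with hm
    have hm0 : 0 < m := (isOfFinOrder_of_finite x).orderOf_pos
    by_cases hne : u = 0
    · simp [hne]
    have hwm : w ^ m = 1 := by
      have h := hpow u hu m
      rw [hm, pow_orderOf_eq_one, one_apply] at h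
      refine smul_left_injective ℂ hne ?_
      show w ^ m • u = (1 : ℂ) • u
      rw [one_smul, ← hm] at *
      exact h.symm
    set S : E → E := fun t => ∑ i ∈ Finset.range m, (w⁻¹) ^ i • U (x ^ i) t with hS
    have hSx : ∀ t, U x (S t) = w • S t := by
      intro t
      set g : ℕ → E := fun i => (w⁻¹) ^ i • U (x ^ i) t with hg
      have hper : g m = g 0 := by
        show (w⁻¹) ^ m • U (x ^ m) t = (w⁻¹) ^ 0 • U (x ^ 0) t
        rw [inv_pow, hwm, inv_one, hm, pow_orderOf_eq_one, pow_zero, pow_zero]
      have h1 : ∑ i ∈ Finset.range m, g (i + 1) = ∑ i ∈ Finset.range m, g i := by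
        have h2 := Finset.sum_range_succ g m
        rw [Finset.sum_range_succ', hper] at h2
        exact add_right_cancel h2
      have h3 : U x (S t) = w • ∑ i ∈ Finset.range m, g (i + 1) := by
        simp only [hS, hg, map_sum, map_smul, Finset.smul_sum, smul_smul]
        refine Finset.sum_congr rfl fun i _ => ?_
        rw [← mul_apply, ← pow_succ', pow_succ' w⁻¹, ← mul_assoc, mul_inv_cancel₀ hw0, one_mul]
      rw [h3, h1]
    set t := U c u with ht
    set r := (m : ℂ) • t - S t with hr
    set u₀ := (m : ℂ) • u - ∑ i ∈ Finset.range m, (w⁻¹) ^ i • u' i with hu₀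
    have hu₀x : U x u₀ = w • u₀ := by
      simp only [hu₀, map_sub, map_smul, map_sum, hu, hu'1, smul_sub, Finset.smul_sum,
        smul_comm w]
    have hru : r = U c u₀ := by
      simp only [hr, hS, hu₀, map_sub, map_smul, map_sum, ht]
      exact congrArg _ (Finset.sum_congr rfl fun i _ => by rw [hu'2])
    have horth : ⟪u₀, r⟫_ℂ = 0 := by
      have hi : ∀ i : ℕ, ⟪u₀, U (x ^ i) t⟫_ℂ = w ^ i * ⟪u₀, t⟫_ℂ := by
        intro i
        have h := hinner (x ^ i) u₀ t
        rw [hpow u₀ hu₀x i, inner_smul_left] at h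
        rw [← h, ← mul_assoc, Complex.mul_conj, Complex.normSq_eq_norm_sq, norm_pow, hw]
        simp
      rw [hr, inner_sub_right, inner_smul_right, hS, inner_sum]
      simp only [inner_smul_right, hi, ← mul_assoc, ← mul_pow, inv_mul_cancel₀ hw0, one_pow,
        one_mul, Finset.sum_const, Finset.card_range, nsmul_eq_mul, sub_self]
    have hzero : u₀ = 0 := by
      by_contra h0
      have hpos : 0 < ‖u₀‖ := norm_pos_iff.2 h0
      have h1 := hbound c hc u₀
      rw [← hru] at h1
      have h2 : ‖u₀‖ ≤ ‖r - w • u₀‖ := by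
        have h3 : ‖⟪u₀, r - w • u₀⟫_ℂ‖ ≤ ‖u₀‖ * ‖r - w • u₀‖ := norm_inner_le_norm _ _
        rw [inner_sub_right, inner_smul_right, horth, zero_sub, norm_neg, norm_mul, hw, one_mul,
          inner_self_eq_norm_sq_to_K, norm_pow] at h3
        simp at h3
        nlinarith
      nlinarith
    have hm' : (m : ℂ) • t = S t := by
      refine sub_eq_zero.1 (show (m : ℂ) • t - S t = 0 from ?_)
      rw [← hr, hru, hzero, map_zero]
    have hmc : (m : ℂ) ≠ 0 := Nat.cast_ne_zero.2 hm0.ne'
    have h := hSx t
    rw [← hm', map_smul, smul_comm] at h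
    exact smul_right_injective E hmc h
  obtain ⟨n, hn⟩ := hfix
  have hall : ∀ k ≤ n, ∀ u, U x u = w • u → U x (U (f^[n - k] c) u) = w • U (f^[n - k] c) u := by
    intro k
    induction k with
    | zero =>
      intro _ u hu
      rw [Nat.sub_zero, hn u hu, map_smul, hu]
    | succ k ih =>
      intro hk
      refine hback _ (hiter _ c hc) ?_
      have e : f (f^[n - (k + 1)] c) = f^[n - k] c := by
        rw [← Function.iterate_succ_apply' f]; congr 1; omega
      rw [e]
      exact ih (by omega)
  have := hall n le_rfl v hv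
  rwa [Nat.sub_self] at this

end Cfsg.Agent.BlichfeldtSixty86
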