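import Mathlib
import Cfsg.Agent.Lib.BaumannBlockModules
import Cfsg.Agent.Lib.PSLSimple
import Cfsg.Agent.Lib.BaumannSubnormal58Data

/-!
Additive endomorphisms of the plane over a field of characteristic 3 and the natural action of the
derived group of `SL₂`.
-/

set_option autoImplicit false

namespace Cfsg.Agent.Block39Plane

open Matrix BaumannBlockModules
open scoped commutatorElement

variable {F : Type*} [Field F]

abbrev Pl (F : Type*) := Fin 2 → F

abbrev SL (F : Type*) [CommRing F] := Matrix.SpecialLinearGroup (Fin 2) F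

/-- The action of an element of `SL₂`. -/
def mv (g : SL F) : AddMonoid.End (Pl F) :=
  (Matrix.mulVecLin (g : Matrix (Fin 2) (Fin 2) F)).toAddMonoidHom

/-- A scalar map. -/
def sc (c : F) : AddMonoid.End (Pl F) where
  toFun v := c • v
  map_zero' := smul_zero c
  map_add' := smul_add c

@[simp] theorem mv_apply (g : SL F) (v : Pl F) :
    mv g v = (g : Matrix (Fin 2) (Fin 2) F).mulVec v := rfl

@[simp] theorem sc_apply (c : F) (v : Pl F) : sc c v = c • v := rfl

theorem endExt {f g : AddMonoid.End (Pl F)} (h : ∀ v, f v = g v) : f = g := DFunLike.ext _ _ h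

theorem mv_mul (g h : SL F) : mv (g * h) = mv g * mv h := by
  refine endExt (fun v => ?_)
  show ((g * h : SL F) : Matrix (Fin 2) (Fin 2) F).mulVec v = mv g (mv h v)
  rw [mv_apply, mv_apply, Matrix.mulVec_mulVec, Matrix.SpecialLinearGroup.coe_mul]

theorem mv_one : mv (1 : SL F) = 1 := by
  refine endExt (fun v => ?_)
  show ((1 : SL F) : Matrix (Fin 2) (Fin 2) F).mulVec v = v
  simp

theorem mv_smul (g : SL F) (c : F) (v : Pl F) : mv g (c • v) = c • mv g v := by
  simp [Matrix.mulVec_smul]

theorem mv_eq_one {g : SL F} (h : mv g = 1) : g = 1 :=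
  sl2_faithful g fun v => DFunLike.congr_fun h v

/-- `F` has characteristic 3 in the form used here. -/
theorem neg_one_ne_one (h3 : (3 : F) = 0) : (-1 : F) ≠ 1 := fun h =>
  one_ne_zero (α := F) (by linear_combination h3 + h)

theorem exists_M1 (h3 : (3 : F) = 0) :
    ∃ g ∈ commutator (SL F), ∀ v : Pl F, mv g v = ![-v 1, v 0] := by
  obtain ⟨g, hg, he⟩ := twist_mem (F := F)
  refine ⟨g, hg, fun v => ?_⟩
  rw [mv_apply, he, h3]
  ext i
  fin_cases i <;> simp [Matrix.mulVec, dotProduct, Fin.sum_univ_two]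

theorem exists_M2 (h3 : (3 : F) = 0) :
    ∃ g ∈ commutator (SL F), ∀ v : Pl F, mv g v = ![v 0 + v 1, v 0 - v 1] := by
  refine ⟨⁅up (1 : F), low (-1 : F)⁆,
    Subgroup.commutator_mem_commutator (Subgroup.mem_top _) (Subgroup.mem_top _), fun v => ?_⟩
  have he : ((⁅up (1 : F), low (-1 : F)⁆ : SL F) : Matrix (Fin 2) (Fin 2) F) = !![1, 1; 1, -1] := by
    rw [commutatorElement_def]
    simp only [Matrix.SpecialLinearGroup.coe_mul, Matrix.SpecialLinearGroup.coe_inv, up_coe, low_coe,
      Matrix.adjugate_fin_two]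
    ext i j
    fin_cases i <;> fin_cases j <;> simp [Matrix.mul_apply, Fin.sum_univ_two] <;>
      linear_combination h3
  rw [mv_apply, he]
  ext i
  fin_cases i <;> simp [Matrix.mulVec, dotProduct, Fin.sum_univ_two] <;> ring

/-- An additive map commuting with the derived group of `SL₂` is a scalar. -/
theorem scalar_of_commute (h3 : (3 : F) = 0) (g : AddMonoid.End (Pl F))
    (hg : ∀ r ∈ commutator (SL F), g * mv r = mv r * g) : ∃ c : F, g = sc c := by
  have hcomm : ∀ r ∈ commutator (SL F), ∀ v, g (mv r v) = mv r (g v) := fun r hr v =>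
    DFunLike.congr_fun (hg r hr) v
  obtain ⟨m1, hm1, e1⟩ := exists_M1 h3
  obtain ⟨m2, hm2, e2⟩ := exists_M2 h3
  set α : F → F := fun x => g ![x, 0] 0 with hα
  set γ : F → F := fun x => g ![x, 0] 1 with hγ
  have hy : ∀ x : F, g ![0, x] = ![-γ x, α x] := by
    intro x
    have h := hcomm m1 hm1 ![x, 0]
    rw [e1, e1] at h
    simpa using h
  have hγ0 : ∀ x : F, γ x = 0 := by
    intro x
    have h := hcomm m2 hm2 ![x, 0]
    rw [e2, e2] at h
    have hsplit : (![x + 0, x - 0] : Pl F) = ![x, 0] + ![0, x] := by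
      ext i; fin_cases i <;> simp
    rw [show (![(![x, 0] : Pl F) 0 + (![x, 0] : Pl F) 1, (![x, 0] : Pl F) 0 - (![x, 0] : Pl F) 1] : Pl F)
      = ![x, 0] + ![0, x] by simpa using hsplit, map_add, hy] at h
    have h1 := congrFun h 0
    simp at h1
    linear_combination γ x * h3 + h1
  have hx : ∀ x : F, g ![x, 0] = ![α x, 0] := by
    intro x
    ext i
    fin_cases i
    · simp [hα]
    · simpa [hγ] using hγ0 x
  have hy' : ∀ x : F, g ![0, x] = ![0, α x] := fun x => by rw [hy, hγ0, neg_zero]
  have hmul : ∀ y x : F, α (y * x) = y * α x := by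
    intro y x
    by_cases hex : ∃ t : F, t ≠ 0 ∧ t * t ≠ 1
    · obtain ⟨t, ht, ht2⟩ := hex
      have h := hcomm _ (up_mem ht ht2 y) ![0, x]
      have e : mv (up y) ![0, x] = ![y * x, 0] + ![0, x] := by
        rw [mv_apply, up_coe]
        ext i; fin_cases i <;> simp [Matrix.mulVec, dotProduct, Fin.sum_univ_two]
      rw [e, map_add, hx, hy'] at h
      have h1 := congrFun h 0
      simpa [mv_apply, up_coe, Matrix.mulVec, dotProduct, Fin.sum_univ_two] using h1
    · push Not at hex
      have hα0 : α 0 = 0 := by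
        have : (![0, 0] : Pl F) = 0 := by ext i; fin_cases i <;> rfl
        simp only [hα, this, map_zero, Pi.zero_apply]
      have hneg : α (-x) = -α x := by
        have : (![-x, 0] : Pl F) = -![x, 0] := by ext i; fin_cases i <;> simp
        simp only [hα, this, map_neg, Pi.neg_apply]
      by_cases hy0 : y = 0
      · simp [hy0, hα0]
      rcases mul_self_eq_one_iff.1 (hex y hy0) with rfl | rfl
      · simp
      · simp [hneg]
  refine ⟨α 1, endExt fun v => ?_⟩
  have hv : v = ![v 0, 0] + ![0, v 1] := by ext i; fin_cases i <;> simp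
  show g v = α 1 • v
  rw [hv, map_add, hx, hy']
  have h0 := hmul (v 0) 1
  have h1 := hmul (v 1) 1
  rw [mul_one] at h0 h1
  ext i
  fin_cases i <;> simp [h0, h1, mul_comm]

/-- Semilinearity. -/
theorem semilinear (h3 : (3 : F) = 0) {f f' : AddMonoid.End (Pl F)} (h1 : f * f' = 1)
    (h2 : f' * f = 1)
    (hn : ∀ r ∈ commutator (SL F), ∃ r' ∈ commutator (SL F), f' * mv r = mv r' * f') (c : F) :
    ∃ d : F, ∀ v, f (c • v) = d • f v := by
  obtain ⟨d, hd⟩ := scalar_of_commute h3 (f * sc c * f') (fun r hr => by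
    obtain ⟨r', hr', e⟩ := hn r hr
    have hcr : sc c * mv r' = mv r' * sc c :=
      endExt fun v => (mv_smul r' c v).symm
    have e' : mv r * f = f * mv r' := by
      calc mv r * f = (f * f') * mv r * f := by rw [h1, one_mul]
        _ = f * (f' * mv r) * f := by rw [mul_assoc f f' (mv r)]
        _ = f * mv r' * (f' * f) := by rw [e]; simp only [mul_assoc]
        _ = f * mv r' := by rw [h2, mul_one]
    calc f * sc c * f' * mv r = f * sc c * (f' * mv r) := by simp only [mul_assoc]
      _ = f * (sc c * mv r') * f' := by rw [e]; simp only [mul_assoc]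
      _ = (f * mv r') * sc c * f' := by rw [hcr]; simp only [mul_assoc]
      _ = mv r * (f * sc c * f') := by rw [← e']; simp only [mul_assoc])
  refine ⟨d, fun v => ?_⟩
  have h := DFunLike.congr_fun hd (f v)
  have hv : f' (f v) = v := DFunLike.congr_fun h2 v
  change f (c • f' (f v)) = d • f v at h
  rwa [hv] at h

/-- A semilinear map with square-zero `f - 1` is linear. -/
theorem linear_of_quadratic (h3 : (3 : F) = 0) {f : AddMonoid.End (Pl F)}
    (hs : ∀ c : F, ∃ d : F, ∀ v, f (c • v) = d • f v)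
    (hq : ∀ v, f (f v - v) = f v - v) (c : F) (v : Pl F) : f (c • v) = c • f v := by
  by_cases hid : ∀ u, f u = u
  · rw [hid, hid]
  push Not at hid
  obtain ⟨u, hu⟩ := hid
  set w := f u - u with hw
  have hw0 : w ≠ 0 := sub_ne_zero.2 hu
  have hfw : f w = w := hq u
  choose θ hθ using hs
  have hinj : ∀ a b : F, a • w = b • w → a = b := fun a b h => smul_left_injective F hw0 h
  have hmul : ∀ a b : F, θ (a * b) = θ a * θ b := by
    intro a b
    apply hinj
    calc θ (a * b) • w = f ((a * b) • w) := by rw [hθ, hfw]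
      _ = f (a • b • w) := by rw [mul_smul]
      _ = θ a • θ b • w := by rw [hθ, hθ, hfw]
      _ = _ := by rw [mul_smul]
  have hadd : ∀ a b : F, θ (a - b) = θ a - θ b := by
    intro a b
    apply hinj
    calc θ (a - b) • w = f ((a - b) • w) := by rw [hθ, hfw]
      _ = _ := by rw [sub_smul, map_sub, hθ, hθ, hfw, sub_smul]
  have hD : ∀ a : F, θ (θ a - a) = θ a - a := by
    intro a
    apply hinj
    have h := hq (a • w)
    rw [hθ, hfw, ← sub_smul, hθ, hfw] at h
    exact h
  have hfix : θ c = c := by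
    have h1 := hD c
    have h2 := hD (c * c)
    rw [hadd] at h1
    simp only [hmul, hadd] at h2
    have h4 : θ (θ c) = 2 * θ c - c := by linear_combination h1
    rw [h4] at h2
    have h5 : 2 * ((θ c - c) * (θ c - c)) = 0 := by linear_combination h2
    rcases mul_eq_zero.1 h5 with h6 | h6
    · exact absurd (by linear_combination h3 - h6) (one_ne_zero (α := F))
    · exact sub_eq_zero.1 (mul_self_eq_zero.1 h6)
  rw [hθ, hfix]

theorem eq_smul_of_det_zero {w v : Pl F} (hw : w ≠ 0) (h : w 0 * v 1 = w 1 * v 0) :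
    ∃ c : F, v = c • w := by
  by_cases h0 : w 0 = 0
  · have h1 : w 1 ≠ 0 := fun h1 => hw (by ext i; fin_cases i <;> assumption)
    refine ⟨v 1 / w 1, ?_⟩
    ext i
    fin_cases i
    · have : v 0 = 0 := by
        rw [h0, zero_mul] at h
        exact (mul_eq_zero.1 h.symm).resolve_left h1
      simp [this, h0]
    · simp [h1]
  · refine ⟨v 0 / w 0, ?_⟩
    ext i
    fin_cases i
    · simp [h0]
    · simp only [Pi.smul_apply, smul_eq_mul, Fin.mk_one, Fin.isValue]
      field_simp
      linear_combination h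

theorem exists_comb {w v : Pl F} (hw : w ≠ 0) (hv : ∀ c : F, v ≠ c • w) (u : Pl F) :
    ∃ a b : F, u = a • w + b • v := by
  have hd : w 0 * v 1 - w 1 * v 0 ≠ 0 := fun h => by
    obtain ⟨c, hc⟩ := eq_smul_of_det_zero hw (sub_eq_zero.1 h)
    exact hv c hc
  refine ⟨(u 0 * v 1 - u 1 * v 0) / (w 0 * v 1 - w 1 * v 0),
    (w 0 * u 1 - w 1 * u 0) / (w 0 * v 1 - w 1 * v 0), ?_⟩
  ext i
  fin_cases i <;>
  · simp only [Pi.add_apply, Pi.smul_apply, smul_eq_mul, Fin.mk_one, Fin.isValue, Fin.zero_eta]
    rw [div_mul_eq_mul_div, div_mul_eq_mul_div, ← add_div, eq_div_iff hd]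
    ring

/-- The fixed points of a nontrivial linear quadratic map form a line. -/
theorem exists_line {f : AddMonoid.End (Pl F)} (hl : ∀ (c : F) v, f (c • v) = c • f v)
    (hq : ∀ v, f (f v - v) = f v - v) (hne : f ≠ 1) :
    ∃ w : Pl F, w ≠ 0 ∧ ∀ v, f v = v ↔ ∃ c : F, v = c • w := by
  obtain ⟨u, hu⟩ : ∃ u, f u ≠ u := by
    by_contra h; push Not at h; exact hne (endExt h)
  refine ⟨f u - u, sub_ne_zero.2 hu, fun v => ⟨fun hv => ?_, ?_⟩⟩
  · by_contra hc
    push Not at hc
    obtain ⟨a, b, hab⟩ := exists_comb (sub_ne_zero.2 hu) hc u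
    apply hu
    calc f u = a • f (f u - u) + b • f v := by conv_lhs => rw [hab, map_add, hl, hl]
      _ = u := by rw [hq, hv, ← hab]
  · rintro ⟨c, rfl⟩
    rw [hl, hq]

theorem cube_sub_one (h3 : (3 : F) = 0) (k : F) (h : k ^ 3 = 1) : k = 1 := by
  have : (k - 1) ^ 3 = 0 := by linear_combination h + (k - k ^ 2) * h3
  exact sub_eq_zero.1 (pow_eq_zero_iff (by norm_num) |>.1 this)

theorem pow_three_sub_one (h3 : (3 : F) = 0) (k : F) : ∀ n : ℕ, k ^ 3 ^ n = 1 → k = 1
  | 0, h => by simpa using h
  | n + 1, h => pow_three_sub_one h3 k n (cube_sub_one h3 _ (by rw [← pow_mul, ← pow_succ]; exact h))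

/-- A semilinear map of order dividing 3 moving every vector only along the line `F w`. -/
theorem linear_of_line (h3 : (3 : F) = 0) {f : AddMonoid.End (Pl F)}
    (hs : ∀ c : F, ∃ d : F, ∀ v, f (c • v) = d • f v) (hcube : ∀ v, f (f (f v)) = v)
    {w : Pl F} (hw : w ≠ 0) (hmove : ∀ v, ∃ c : F, f v - v = c • w) :
    (∀ (c : F) v, f (c • v) = c • f v) ∧ f w = w := by
  obtain ⟨v0, hv0⟩ : ∃ v0 : Pl F, ∀ c : F, v0 ≠ c • w := by
    by_contra h
    push Not at h
    obtain ⟨a, ha⟩ := h ![1, 0]
    obtain ⟨b, hb⟩ := h ![0, 1]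
    have a0 := congrFun ha 0
    have a1 := congrFun ha 1
    have b1 := congrFun hb 1
    simp at a0 a1 b1
    rcases a1 with a1 | a1
    · simp [a1] at a0
    · simp [a1] at b1
  choose θ hθ using hs
  have hfix : ∀ c, θ c = c := by
    intro c
    obtain ⟨m, hm⟩ := hmove v0
    obtain ⟨m', hm'⟩ := hmove (c • v0)
    rw [hθ, show f v0 = v0 + m • w by rw [← hm]; abel] at hm'
    by_contra hne
    apply hv0 ((m' - θ c * m) / (θ c - c))
    rw [div_eq_inv_mul, mul_smul, eq_inv_smul_iff₀ (sub_ne_zero.2 hne)]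
    rw [smul_add, smul_smul] at hm'
    rw [sub_smul, sub_smul, ← hm']
    abel
  have hlin : ∀ (c : F) v, f (c • v) = c • f v := fun c v => by rw [hθ, hfix]
  refine ⟨hlin, ?_⟩
  obtain ⟨m, hm⟩ := hmove w
  have hfw : f w = (1 + m) • w := by rw [add_smul, one_smul, ← hm]; abel
  have h := hcube w
  simp only [hfw, hlin, smul_smul] at h
  have hk : (1 + m) ^ 3 = 1 := smul_left_injective F hw (by
    show ((1 + m) ^ 3) • w = (1 : F) • w
    rw [one_smul, ← h]; congr 1; ring)
  rw [hfw, cube_sub_one h3 _ hk, one_smul]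

/-- A linear map with `f³ = 1` is quadratic. -/
theorem quadratic_of_cube (h3 : (3 : F) = 0) {f : AddMonoid.End (Pl F)}
    (hl : ∀ (c : F) v, f (c • v) = c • f v) (hcube : ∀ v, f (f (f v)) = v) (v : Pl F) :
    f (f v - v) = f v - v := by
  set n : Pl F → Pl F := fun u => f u - u with hn
  have hn3 : ∀ u, n (n (n u)) = 0 := by
    intro u
    simp only [hn, map_sub, hcube]
    ext i
    simp only [Pi.sub_apply, Pi.zero_apply]
    linear_combination (f u i - f (f u) i) * h3
  have hns : ∀ (c : F) u, n (c • u) = c • n u := fun c u => by simp only [hn, hl, smul_sub]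
  have hna : ∀ u u', n (u + u') = n u + n u' := fun u u' => by simp only [hn, map_add]; abel
  suffices h : n (n v) = 0 from sub_eq_zero.1 h
  by_cases h0 : n v = 0
  · rw [h0]; simp [hn]
  by_contra h2
  by_cases hdep : ∃ c : F, v = c • n v
  · obtain ⟨c, hc⟩ := hdep
    have e1 : n v = c • n (n v) := by conv_lhs => rw [hc, hns]
    have e2 : n (n v) = 0 := by conv_lhs => rw [e1, hns, hn3, smul_zero]
    exact h2 e2
  push Not at hdep
  obtain ⟨a, b, hab⟩ := exists_comb h0 hdep (n (n v))
  have e1 : (0 : Pl F) = a • n (n v) + b • n v := by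
    calc (0 : Pl F) = n (n (n v)) := (hn3 v).symm
      _ = _ := by conv_lhs => rw [hab, hna, hns, hns]
  rw [hab, smul_add, smul_smul, smul_smul] at e1
  have e1' : (0 : Pl F) = (a * a + b) • n v + (a * b) • v := by
    rw [e1, add_smul]; abel
  by_cases hab0 : a * b = 0
  · rw [hab0, zero_smul, add_zero] at e1'
    have h5 : a * a + b = 0 := (smul_eq_zero.1 e1'.symm).resolve_right h0
    rcases mul_eq_zero.1 hab0 with ha | hb
    · rw [ha, zero_mul, zero_add] at h5
      exact h2 (by rw [hab, ha, h5]; simp)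
    · rw [hb, add_zero, mul_self_eq_zero] at h5
      exact h2 (by rw [hab, hb, h5]; simp)
  · refine hdep (-(a * a + b) / (a * b)) ?_
    rw [div_eq_inv_mul, mul_smul, eq_inv_smul_iff₀ hab0, neg_smul, eq_neg_iff_add_eq_zero]
    rw [e1']
    abel

/-- An element of `SL₂` with cube one is quadratic. -/
theorem mv_cube (g : SL F) (hg : g ^ 3 = 1) (v : Pl F) : mv g (mv g (mv g v)) = v := by
  have : mv g * (mv g * mv g) = 1 := by
    rw [← mv_mul, ← mv_mul, ← mul_assoc, show g * g * g = g ^ 3 by rw [pow_succ, pow_two], hg, mv_one]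
  exact DFunLike.congr_fun this v

/-- A linear map of order dividing 3 comes from `SL₂`. -/
theorem exists_sl (h3 : (3 : F) = 0) {f : AddMonoid.End (Pl F)}
    (hl : ∀ (c : F) v, f (c • v) = c • f v) (hcube : ∀ v, f (f (f v)) = v) :
    ∃ g : SL F, mv g = f ∧ g ^ 3 = 1 := by
  set M : Matrix (Fin 2) (Fin 2) F := !![f ![1, 0] 0, f ![0, 1] 0; f ![1, 0] 1, f ![0, 1] 1] with hM
  have hMv : ∀ v, M.mulVec v = f v := by
    intro v
    have hv : v = v 0 • ![(1 : F), 0] + v 1 • ![0, 1] := by ext i; fin_cases i <;> simp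
    conv_rhs => rw [hv, map_add, hl, hl]
    ext i
    fin_cases i <;> simp [hM, Matrix.mulVec, dotProduct, Fin.sum_univ_two, mul_comm]
  have hM3 : M * M * M = 1 := by
    refine Matrix.ext_iff_mulVec.2 fun v => ?_
    rw [← Matrix.mulVec_mulVec, ← Matrix.mulVec_mulVec, hMv, hMv, hMv, hcube, Matrix.one_mulVec]
  have hdet : M.det = 1 := by
    refine cube_sub_one h3 _ ?_
    rw [pow_succ, pow_succ, pow_one, ← Matrix.det_mul, ← Matrix.det_mul, hM3, Matrix.det_one]
  let g : SL F := ⟨M, hdet⟩
  have hg : g * g * g = 1 := Subtype.ext hM3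
  refine ⟨g, endExt fun v => hMv v, ?_⟩
  rwa [pow_succ, pow_two]

theorem sq_eq_one {g : SL F} (h3 : (3 : F) = 0) (hg : g * g = 1) (hne : g ≠ 1) :
    mv g = sc (-1) := by
  have hinv : g⁻¹ = g := inv_eq_of_mul_eq_one_right hg
  have h := congrArg (fun x : SL F => (x : Matrix (Fin 2) (Fin 2) F)) hinv
  simp only [Matrix.SpecialLinearGroup.coe_inv, Matrix.adjugate_fin_two] at h
  have h00 := congrFun (congrFun h 0) 0
  have h01 := congrFun (congrFun h 0) 1
  have h10 := congrFun (congrFun h 1) 0
  simp at h00 h01 h10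
  have hb : (g : Matrix (Fin 2) (Fin 2) F) 0 1 = 0 := by linear_combination (g : Matrix (Fin 2) (Fin 2) F) 0 1 * h3 + h01
  have hc : (g : Matrix (Fin 2) (Fin 2) F) 1 0 = 0 := by linear_combination (g : Matrix (Fin 2) (Fin 2) F) 1 0 * h3 + h10
  have hdet := g.2
  rw [Matrix.det_fin_two, h00, hb, zero_mul, sub_zero] at hdet
  have hm : ∀ v, mv g v = (g : Matrix (Fin 2) (Fin 2) F) 0 0 • v := by
    intro v
    ext i
    fin_cases i <;> simp [Matrix.mulVec, dotProduct, Fin.sum_univ_two, hb, hc, h00]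
  rcases mul_self_eq_one_iff.1 hdet with ha | ha
  · exact absurd (mv_eq_one (endExt fun v => by
      show mv g v = v
      rw [hm, ha, one_smul])) hne
  · exact endExt fun v => by rw [hm, ha]; rfl

theorem exists_neg_one (h3 : (3 : F) = 0) : ∃ g ∈ commutator (SL F), mv g = sc (-1) := by
  obtain ⟨g, hg, e⟩ := exists_M1 h3
  refine ⟨g * g, mul_mem hg hg, endExt fun v => ?_⟩
  show mv (g * g) v = (-1 : F) • v
  rw [mv_mul]
  show mv g (mv g v) = _
  rw [e, e]
  ext i
  fin_cases i <;> simp

/-- Every square of the derived group of `SL₂` lies in the second derived group. -/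
theorem sq_mem (h3 : (3 : F) = 0) [Fintype F] (g : SL F) (hg : g ∈ commutator (SL F)) :
    g * g ∈ (⁅commutator (SL F), commutator (SL F)⁆ : Subgroup (SL F)) := by
  by_cases hex : ∃ t : F, t ≠ 0 ∧ t * t ≠ 1
  · obtain ⟨t, ht, ht2⟩ := hex
    have htop : commutator (SL F) = ⊤ := SL2.commutator_eq_top ht (by rwa [pow_two])
    rw [htop] at hg ⊢
    rw [← commutator_def, htop]
    trivial
  push Not at hex
  have hc3 : Fintype.card F = 3 := by
    classical
    have hsub : (Finset.univ : Finset F) ⊆ {0, 1, -1} := by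
      intro x _
      simp only [Finset.mem_insert, Finset.mem_singleton]
      by_cases hx : x = 0
      · exact Or.inl hx
      · exact Or.inr (mul_self_eq_one_iff.1 (hex x hx))
    have hle := Finset.card_le_card hsub
    rw [Finset.card_univ] at hle
    have h3' : ({0, 1, -1} : Finset F).card = 3 := by
      rw [Finset.card_eq_three]
      exact ⟨0, 1, -1, zero_ne_one, by simp, (neg_one_ne_one h3).symm, rfl⟩
    have := Finset.card_le_univ ({0, 1, -1} : Finset F)
    omega
  obtain ⟨m, hm, hmneg⟩ := exists_neg_one h3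
  have key : m ∈ (⁅commutator (SL F), commutator (SL F)⁆ : Subgroup (SL F)) := by
    obtain ⟨a, ha, ea⟩ := exists_M1 h3
    obtain ⟨b, hb, eb⟩ := exists_M2 h3
    have hab : a * b = m * (b * a) := by
      apply mul_inv_eq_one.1
      apply mv_eq_one
      have e : mv (a * b) = mv (m * (b * a)) := by
        refine endExt (fun v => ?_)
        rw [mv_mul, mv_mul, mv_mul, hmneg]
        show mv a (mv b v) = (-1 : F) • mv b (mv a v)
        rw [ea, eb, ea, eb]
        ext i
        fin_cases i <;> simp <;> ring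
      rw [mv_mul (a * b), e, ← mv_mul, mul_inv_cancel, mv_one]
    have : m = ⁅a, b⁆ := by rw [commutatorElement_def, hab]; group
    rw [this]
    exact Subgroup.commutator_mem_commutator ha hb
  by_cases hg1 : g = 1
  · rw [hg1, mul_one]; exact one_mem _
  rcases BaumannSubnormal58.mulVec_three hc3 g hg hg1 with h | h
  · have : g = m := mul_inv_eq_one.1 (mv_eq_one (by
      rw [mv_mul, show mv g = mv m from hmneg ▸ endExt fun v => by
        rw [mv_apply, h]; simp, ← mv_mul, mul_inv_cancel, mv_one]))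
    rw [this]
    exact mul_mem key key
  · have : g * g = m := mul_inv_eq_one.1 (mv_eq_one (by
      rw [mv_mul (g * g), show mv (g * g) = mv m from hmneg ▸ endExt fun v => by
        rw [mv_apply, h]; simp, ← mv_mul, mul_inv_cancel, mv_one]))
    rw [this]
    exact key

end Cfsg.Agent.Block39Plane
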