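import Mathlib
import Cfsg.Agent.Lib.Block39Plane
import Cfsg.Agent.Lib.BaumannSubnormal58Basic

/-!
Coordinates on a section of a subgroup with values in a plane, and the induced action.
-/

set_option autoImplicit false

namespace Cfsg.Agent.Block39Chart

open Subgroup Block39Plane BaumannSubnormal58
open scoped commutatorElement

variable {G : Type*} [Group G]

/-- A surjective homomorphism from `U` to a plane with kernel `U₀`. -/
structure Chart (F : Type) [Field F] (U U₀ : Subgroup G) where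
  le : U₀ ≤ U
  ψ : ↥U →* Multiplicative (Pl F)
  surj : Function.Surjective ψ
  ker : ∀ u : ↥U, ψ u = 1 ↔ (u : G) ∈ U₀

variable {F : Type} [Field F] {U U₀ : Subgroup G}

namespace Chart

variable (c : Chart F U U₀)

/-- The coordinates of an element of `U`. -/
def val (u : G) (hu : u ∈ U) : Pl F := Multiplicative.toAdd (c.ψ ⟨u, hu⟩)

theorem val_mul {a b : G} (ha : a ∈ U) (hb : b ∈ U) :
    c.val (a * b) (mul_mem ha hb) = c.val a ha + c.val b hb := by
  rw [val, val, val, ← toAdd_mul, ← map_mul]; rfl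

theorem val_one : c.val 1 (one_mem U) = 0 := by
  rw [val, show (⟨1, one_mem U⟩ : ↥U) = 1 from rfl, map_one]; rfl

theorem val_inv {a : G} (ha : a ∈ U) : c.val a⁻¹ (inv_mem ha) = -c.val a ha := by
  rw [val, val, show (⟨a⁻¹, inv_mem ha⟩ : ↥U) = (⟨a, ha⟩)⁻¹ from rfl, map_inv]; rfl

theorem val_pow {a : G} (ha : a ∈ U) (n : ℕ) : c.val (a ^ n) (pow_mem ha n) = n • c.val a ha := by
  rw [val, val, show (⟨a ^ n, pow_mem ha n⟩ : ↥U) = (⟨a, ha⟩) ^ n from rfl, map_pow]; rfl

theorem val_eq_zero {a : G} (ha : a ∈ U) : c.val a ha = 0 ↔ a ∈ U₀ := by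
  rw [← c.ker ⟨a, ha⟩, val, toAdd_eq_zero]

theorem exists_val (v : Pl F) : ∃ (u : G) (hu : u ∈ U), c.val u hu = v := by
  obtain ⟨⟨u, hu⟩, h⟩ := c.surj (Multiplicative.ofAdd v)
  exact ⟨u, hu, by rw [val, h]; rfl⟩

theorem val_congr {a b : G} (h : a = b) (ha : a ∈ U) (hb : b ∈ U) : c.val a ha = c.val b hb := by
  subst h; rfl

include c in
theorem le_normalizer : U ≤ normalizer (U₀ : Set G) :=
  LocalBasics.le_normalizer_of_conj fun u hu x hx => by
    have hxU := c.le hx
    refine (c.val_eq_zero (mul_mem (mul_mem hu hxU) (inv_mem hu))).1 ?_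
    rw [c.val_mul (mul_mem hu hxU) (inv_mem hu), c.val_mul hu hxU, c.val_inv hu,
      (c.val_eq_zero hxU).2 hx]
    abel

/-- The common normalizer. -/
def Nm (_c : Chart F U U₀) : Subgroup G := normalizer (U : Set G) ⊓ normalizer (U₀ : Set G)

theorem conj_mem {g u : G} (hg : g ∈ c.Nm) (hu : u ∈ U) : g * u * g⁻¹ ∈ U := conj_mem' hg.1 hu

theorem val_conj_eq {g u v : G} (hg : g ∈ c.Nm) (hu : u ∈ U) (hv : v ∈ U)
    (h : c.val u hu = c.val v hv) :
    c.val _ (c.conj_mem hg hu) = c.val _ (c.conj_mem hg hv) := by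
  have hm : u * v⁻¹ ∈ U₀ := by
    refine (c.val_eq_zero (mul_mem hu (inv_mem hv))).1 ?_
    rw [c.val_mul hu (inv_mem hv), c.val_inv hv, h, add_neg_cancel]
  have h1 := (c.val_eq_zero (c.conj_mem hg (mul_mem hu (inv_mem hv)))).2 (conj_mem' hg.2 hm)
  have e : g * (u * v⁻¹) * g⁻¹ = g * u * g⁻¹ * (g * v * g⁻¹)⁻¹ := by group
  rw [c.val_congr e _ (mul_mem (c.conj_mem hg hu) (inv_mem (c.conj_mem hg hv))),
    c.val_mul (c.conj_mem hg hu) (inv_mem (c.conj_mem hg hv)), c.val_inv (c.conj_mem hg hv),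
    add_neg_eq_zero] at h1
  exact h1

open Classical in
/-- The additive map induced by conjugation. -/
noncomputable def act (g : G) : AddMonoid.End (Pl F) :=
  if hg : g ∈ c.Nm then
    (id (α := AddMonoid.End (Pl F))) (AddMonoidHom.mk' (fun v => c.val _ (c.conj_mem hg (c.exists_val v).choose_spec.fst)) (fun v w => by
      have hv := (c.exists_val v).choose_spec
      have hw := (c.exists_val w).choose_spec
      have hvw := (c.exists_val (v + w)).choose_spec
      have h := c.val_conj_eq hg hvw.fst (mul_mem hv.fst hw.fst)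
        (by rw [c.val_mul hv.fst hw.fst, hv.snd, hw.snd, hvw.snd])
      rw [h, ← c.val_mul (c.conj_mem hg hv.fst) (c.conj_mem hg hw.fst)]
      exact c.val_congr (by group) _ _))
  else 0

theorem act_val {g u : G} (hg : g ∈ c.Nm) (hu : u ∈ U) :
    c.act g (c.val u hu) = c.val _ (c.conj_mem hg hu) := by
  simp only [act, dif_pos hg]
  exact c.val_conj_eq hg _ hu (c.exists_val (c.val u hu)).choose_spec.snd

theorem act_mul {g h : G} (hg : g ∈ c.Nm) (hh : h ∈ c.Nm) : c.act (g * h) = c.act g * c.act h := by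
  refine endExt fun v => ?_
  obtain ⟨u, hu, rfl⟩ := c.exists_val v
  show c.act (g * h) _ = c.act g (c.act h _)
  rw [c.act_val (mul_mem hg hh) hu, c.act_val hh hu, c.act_val hg]
  exact c.val_congr (by group) _ _

theorem act_one : c.act 1 = 1 := by
  refine endExt fun v => ?_
  obtain ⟨u, hu, rfl⟩ := c.exists_val v
  show c.act 1 _ = c.val u hu
  rw [c.act_val (one_mem _) hu]
  exact c.val_congr (by group) _ _

theorem act_pow {g : G} (hg : g ∈ c.Nm) (n : ℕ) : c.act (g ^ n) = c.act g ^ n := by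
  induction n with
  | zero => rw [pow_zero, pow_zero, c.act_one]
  | succ n ih => rw [pow_succ, pow_succ, c.act_mul (pow_mem hg n) hg, ih]

theorem act_inv_mul {g : G} (hg : g ∈ c.Nm) : c.act g⁻¹ * c.act g = 1 := by
  rw [← c.act_mul (inv_mem hg) hg, inv_mul_cancel, c.act_one]

theorem act_mul_inv {g : G} (hg : g ∈ c.Nm) : c.act g * c.act g⁻¹ = 1 := by
  rw [← c.act_mul hg (inv_mem hg), mul_inv_cancel, c.act_one]

theorem val_commutator {g u : G} (hg : g ∈ c.Nm) (hu : u ∈ U) (h : ⁅g, u⁆ ∈ U) :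
    c.val ⁅g, u⁆ h = c.act g (c.val u hu) - c.val u hu := by
  rw [c.act_val hg hu, sub_eq_add_neg, ← c.val_inv hu, ← c.val_mul (c.conj_mem hg hu) (inv_mem hu)]
  rfl

theorem act_eq_one_iff {g : G} (hg : g ∈ c.Nm) : c.act g = 1 ↔ g ∈ cent U U₀ := by
  constructor
  · intro h
    refine ⟨hg.1, hg.2, fun x hx => ?_⟩
    have hm : ⁅g, x⁆ ∈ U := commutatorElement_mem hg.1 hx
    refine (c.val_eq_zero hm).1 ?_
    rw [c.val_commutator hg hx hm, h]
    exact sub_self _
  · intro h
    refine endExt fun v => ?_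
    obtain ⟨u, hu, rfl⟩ := c.exists_val v
    have hm : ⁅g, u⁆ ∈ U := commutatorElement_mem hg.1 hu
    have := (c.val_eq_zero hm).2 (h.2.2 u hu)
    rw [c.val_commutator hg hu hm, sub_eq_zero] at this
    exact this

theorem act_eq_of_commutator {g e : G} (hg : g ∈ c.Nm) (he : e ∈ c.Nm) (h : ⁅g, e⁆ ∈ cent U U₀) :
    c.act g * c.act e = c.act e * c.act g := by
  have h1 : ⁅g, e⁆ ∈ c.Nm := ⟨h.1, h.2.1⟩
  rw [← c.act_mul hg he, ← c.act_mul he hg,
    show g * e = ⁅g, e⁆ * (e * g) by rw [commutatorElement_def]; group,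
    c.act_mul h1 (mul_mem he hg), (c.act_eq_one_iff h1).2 h, one_mul]

include c in
/-- The number of cosets. -/
theorem card_eq [Finite G] [Finite F] :
    Nat.card ↥U = Nat.card ↥U₀ * Nat.card (Pl F) := by
  have h1 := Subgroup.card_mul_index c.ψ.ker
  rw [Subgroup.index_ker, MonoidHom.range_eq_top.2 c.surj] at h1
  have h2 : Nat.card ↥c.ψ.ker = Nat.card ↥U₀ :=
    Nat.card_congr
      { toFun := fun x => ⟨(x : ↥U), (c.ker x).1 x.2⟩
        invFun := fun x => ⟨⟨x, c.le x.2⟩, (c.ker _).2 x.2⟩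
        left_inv := fun x => rfl
        right_inv := fun x => rfl }
  rw [h2, Subgroup.card_top, Nat.card_congr Multiplicative.toAdd] at h1
  exact h1.symm

end Chart

end Cfsg.Agent.Block39Chart
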