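import Mathlib
import Cfsg.Prelude.Def_LocalStructure
import Cfsg.Agent.Lib.Offenders
import Cfsg.Agent.Lib.LocalBasics
import Cfsg.Agent.Lib.OffendersReplace

/-!
# A quadratically acting element inside a largest elementary abelian subgroup

If `A` is an elementary abelian `p`-subgroup of largest order normalising an elementary abelian
`V` and acting non-trivially on it, some element of `A` centralises `[V, A]` but not `V`.
-/

set_option autoImplicit false

namespace Cfsg.Agent.BlockNormal16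

open Subgroup Cfsg
open scoped commutatorElement

variable {G : Type*} [Group G] [Finite G] {p : ℕ}

/-- `|A : C_A(V)| ≥ |V : C_V(A)|`, in the subgroup form. -/
theorem card_le_of_max {A V B : Subgroup G} (hA : A ∈ maxElementaryAbelianSubgroups p G)
    (hV : IsElementaryAbelian p V) (hB : B ≤ A) :
    Nat.card ↥B * Nat.card ↥(V ⊓ centralizer (B : Set G)) ≤
      Nat.card ↥A * Nat.card ↥(V ⊓ centralizer (A : Set G)) := by
  set C := V ⊓ centralizer (B : Set G) with hC
  have hBC : B ≤ normalizer (C : Set G) := LocalBasics.le_normalizer_of_conj fun b hb c hc => by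
    rwa [hc.2 b hb, mul_inv_cancel_right]
  have hea : IsElementaryAbelian p (B ⊔ C : Subgroup G) :=
    Offenders.ea_sup (Offenders.ea_mono hA.1 hB) (Offenders.ea_mono hV inf_le_left)
      fun b hb c hc => hc.2 b hb
  have h1 := OffendersReplace.card_sup_mul_card_inf B C hBC
  have h2 : B ⊓ C ≤ V ⊓ centralizer (A : Set G) := fun x hx =>
    ⟨hx.2.1, fun a ha => ((Offenders.ea_iff A).1 hA.1).1 a ha x (hB hx.1)⟩
  calc Nat.card ↥B * Nat.card ↥C = Nat.card ↥(B ⊔ C : Subgroup G) * Nat.card ↥(B ⊓ C : Subgroup G) := h1.symm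
    _ ≤ _ := Nat.mul_le_mul (hA.2 _ hea) (Subgroup.card_le_of_le h2)

omit [Finite G] in
theorem comm_of_max {A : Subgroup G} (hA : A ∈ maxElementaryAbelianSubgroups p G) {a b : G}
    (ha : a ∈ A) (hb : b ∈ A) : a * b = b * a :=
  ((Offenders.ea_iff A).1 hA.1).1 a ha b hb

/-- `B` attains the largest value of `|B| |C_V(B)|` and its fixed points are `C_V(A)` times `M`. -/
def Good (V A B M : Subgroup G) : Prop :=
  B ≤ A ∧ Nat.card ↥A * Nat.card ↥(V ⊓ centralizer (A : Set G)) ≤
      Nat.card ↥B * Nat.card ↥(V ⊓ centralizer (B : Set G)) ∧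
    V ⊓ centralizer (B : Set G) = (V ⊓ centralizer (A : Set G)) ⊔ M

theorem good_inf {A V B₁ B₂ M₁ M₂ : Subgroup G} (hA : A ∈ maxElementaryAbelianSubgroups p G)
    (hV : IsElementaryAbelian p V) (h₁ : Good V A B₁ M₁) (h₂ : Good V A B₂ M₂) :
    Good V A (B₁ ⊓ B₂) (M₁ ⊔ M₂) := by
  set C₁ := V ⊓ centralizer (B₁ : Set G) with hC₁
  set C₂ := V ⊓ centralizer (B₂ : Set G) with hC₂
  set C₀ := V ⊓ centralizer ((B₁ ⊓ B₂ : Subgroup G) : Set G) with hC₀
  have hBn : B₁ ≤ normalizer (B₂ : Set G) := LocalBasics.le_normalizer_of_conj fun a ha b hb => by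
    rwa [comm_of_max hA (h₁.1 ha) (h₂.1 hb), mul_inv_cancel_right]
  have hCn : C₁ ≤ normalizer (C₂ : Set G) := LocalBasics.le_normalizer_of_conj fun a ha b hb => by
    rwa [((Offenders.ea_iff V).1 hV).1 a ha.1 b hb.1,
      mul_inv_cancel_right]
  have e1 := OffendersReplace.card_sup_mul_card_inf B₁ B₂ hBn
  have e2 := OffendersReplace.card_sup_mul_card_inf C₁ C₂ hCn
  have hC12 : C₁ ⊔ C₂ ≤ C₀ := sup_le
    (inf_le_inf_left _ (centralizer_le (fun x hx => hx.1)))
    (inf_le_inf_left _ (centralizer_le (fun x hx => hx.2)))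
  have hinf : C₁ ⊓ C₂ ≤ V ⊓ centralizer ((B₁ ⊔ B₂ : Subgroup G) : Set G) := fun x hx =>
    ⟨hx.1.1, fun b hb => by
      have hle : B₁ ⊔ B₂ ≤ centralizer ({x} : Set G) :=
        sup_le (fun y hy => mem_centralizer_singleton_iff.2 (hx.1.2 y hy))
          (fun y hy => mem_centralizer_singleton_iff.2 (hx.2.2 y hy))
      exact mem_centralizer_singleton_iff.1 (hle hb)⟩
  have hsup := card_le_of_max hA hV (sup_le h₁.1 h₂.1 : B₁ ⊔ B₂ ≤ A)
  have hlow := card_le_of_max hA hV (inf_le_left.trans h₁.1 : B₁ ⊓ B₂ ≤ A)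
  set m := Nat.card ↥A * Nat.card ↥(V ⊓ centralizer (A : Set G)) with hm
  have hprod : m * m ≤ m * (Nat.card ↥(B₁ ⊓ B₂ : Subgroup G) * Nat.card ↥(C₁ ⊔ C₂ : Subgroup G)) :=
    calc m * m ≤ (Nat.card ↥B₁ * Nat.card ↥C₁) * (Nat.card ↥B₂ * Nat.card ↥C₂) :=
          Nat.mul_le_mul h₁.2.1 h₂.2.1
      _ = (Nat.card ↥(B₁ ⊔ B₂ : Subgroup G) * Nat.card ↥(C₁ ⊓ C₂ : Subgroup G)) *
            (Nat.card ↥(B₁ ⊓ B₂ : Subgroup G) * Nat.card ↥(C₁ ⊔ C₂ : Subgroup G)) := by
          rw [mul_mul_mul_comm, ← e1, ← e2]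
          ring
      _ ≤ _ := Nat.mul_le_mul_right _
          ((Nat.mul_le_mul_left _ (Subgroup.card_le_of_le hinf)).trans hsup)
  have hmpos : 0 < m := Nat.mul_pos Nat.card_pos Nat.card_pos
  have hge := Nat.le_of_mul_le_mul_left hprod hmpos
  have heq : C₁ ⊔ C₂ = C₀ := by
    refine Subgroup.eq_of_le_of_card_ge hC12 ?_
    exact Nat.le_of_mul_le_mul_left (hlow.trans hge) Nat.card_pos
  refine ⟨inf_le_left.trans h₁.1, hge.trans (Nat.mul_le_mul_left _ (Subgroup.card_le_of_le hC12)), ?_⟩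
  show C₀ = _
  rw [← heq, hC₁, hC₂, h₁.2.2, h₂.2.2]
  exact le_antisymm
    (sup_le (sup_le le_sup_left (le_sup_of_le_right le_sup_left))
      (sup_le le_sup_left (le_sup_of_le_right le_sup_right)))
    (sup_le (le_sup_of_le_left le_sup_left)
      (sup_le (le_sup_of_le_left le_sup_right) (le_sup_of_le_right le_sup_right)))

/-- The elements `[a, v]`, `a ∈ A`. -/
def orbitComm (A : Subgroup G) (v : G) : Subgroup G := closure ((fun a : G => ⁅a, v⁆) '' (A : Set G))

theorem good_orbit {A V : Subgroup G} (hA : A ∈ maxElementaryAbelianSubgroups p G)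
    (hV : IsElementaryAbelian p V) (hAV : A ≤ normalizer (V : Set G)) {v : G} (hv : v ∈ V) :
    Good V A (A ⊓ centralizer (orbitComm A v : Set G)) (orbitComm A v) := by
  classical
  set M := orbitComm A v with hM
  set B := A ⊓ centralizer (M : Set G) with hB
  set Z := V ⊓ centralizer (A : Set G) with hZ
  set C := V ⊓ centralizer (B : Set G) with hC
  have hVc := ((Offenders.ea_iff V).1 hV).1
  have hcomm : ∀ a ∈ A, ⁅a, v⁆ ∈ V := fun a ha => by
    rw [commutatorElement_def]
    exact mul_mem (LocalBasics.conj_mem_of_le_normalizer hAV ha hv) (inv_mem hv)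
  have hMC : M ≤ C := by
    refine le_inf ((closure_le _).2 ?_) fun m hm b hb => (hb.2 m hm).symm
    rintro _ ⟨a, ha, rfl⟩
    exact hcomm a ha
  have hZC : Z ≤ C := inf_le_inf_left _ (centralizer_le fun x hx => hx.1)
  have hle : Z ⊔ M ≤ C := sup_le hZC hMC
  have key : B.relIndex A ≤ Z.relIndex (Z ⊔ M) := by
    let f : ↥A → ↥(Z ⊔ M : Subgroup G) ⧸ Z.subgroupOf (Z ⊔ M) := fun a =>
      QuotientGroup.mk ⟨⁅(a : G), v⁆, mem_sup_right (subset_closure ⟨a, a.2, rfl⟩)⟩
    have hf : ∀ a a' : ↥A, f a = f a' →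
        (QuotientGroup.mk a : ↥A ⧸ B.subgroupOf A) = QuotientGroup.mk a' := by
      intro a a' hh
      rw [QuotientGroup.eq] at hh ⊢
      have hz : ⁅(a : G), v⁆⁻¹ * ⁅(a' : G), v⁆ ∈ Z := hh
      set d : G := (a : G)⁻¹ * a' with hd
      have hdA : d ∈ A := mul_mem (inv_mem a.2) a'.2
      refine mem_inf.2 ⟨hdA, ?_⟩
      have hac : ∀ {x : G}, x ∈ A → ∀ {z : G}, z ∈ Z → x * z * x⁻¹ = z := fun {x} hx {z} hz => by
        rw [hz.2 x hx, mul_inv_cancel_right]
      -- `[d, v] ∈ Z`
      have e0 : ⁅(a' : G), v⁆ = (a : G) * ⁅d, v⁆ * (a : G)⁻¹ * ⁅(a : G), v⁆ := by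
        simp only [commutatorElement_def, hd]; group
      have h1 : (a : G) * ⁅d, v⁆ * (a : G)⁻¹ ∈ Z := by
        rw [e0, ← mul_assoc, hVc _ (inv_mem (hcomm a a.2)) _
          (LocalBasics.conj_mem_of_le_normalizer hAV a.2 (hcomm d hdA)), mul_assoc,
          inv_mul_cancel, mul_one] at hz
        exact hz
      have h2 : ⁅d, v⁆ ∈ Z := by
        have := hac (inv_mem a.2) h1
        simp only [inv_inv, mul_assoc, inv_mul_cancel_left, inv_mul_cancel, mul_one] at this
        rw [mul_assoc, ← this] at h1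
        exact h1
      show d ∈ centralizer (M : Set G)
      rw [mem_centralizer_iff]
      intro m hm
      have hmle : M ≤ centralizer ({d} : Set G) := by
        refine (closure_le _).2 ?_
        rintro _ ⟨x, hx, rfl⟩
        rw [SetLike.mem_coe, mem_centralizer_singleton_iff]
        show ⁅x, v⁆ * d = d * ⁅x, v⁆
        symm
        have hxv : x * v * x⁻¹ ∈ V := LocalBasics.conj_mem_of_le_normalizer hAV hx hv
        have e1 : d * (x * v * x⁻¹) * d⁻¹ = ⁅d, v⁆ * (x * v * x⁻¹) := by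
          have : d * (x * v * x⁻¹) * d⁻¹ = x * (⁅d, v⁆ * v) * x⁻¹ := by
            have hcx := comm_of_max hA hdA hx
            calc d * (x * v * x⁻¹) * d⁻¹ = (d * x) * v * (d * x)⁻¹ := by group
              _ = (x * d) * v * (x * d)⁻¹ := by rw [hcx]
              _ = _ := by simp only [commutatorElement_def]; group
          rw [this]
          calc x * (⁅d, v⁆ * v) * x⁻¹ = (x * ⁅d, v⁆ * x⁻¹) * (x * v * x⁻¹) := by group
            _ = _ := by rw [hac hx h2]
        have e2 : d * ⁅x, v⁆ * d⁻¹ = ⁅x, v⁆ := by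
          calc d * ⁅x, v⁆ * d⁻¹ = (d * (x * v * x⁻¹) * d⁻¹) * (d * v * d⁻¹)⁻¹ := by
                simp only [commutatorElement_def]; group
            _ = ⁅d, v⁆ * (x * v * x⁻¹) * (⁅d, v⁆ * v)⁻¹ := by
                rw [e1]; simp only [commutatorElement_def]; group
            _ = (⁅d, v⁆ * ⁅x, v⁆) * ⁅d, v⁆⁻¹ := by simp only [commutatorElement_def]; group
            _ = _ := by rw [hVc _ h2.1 _ (hcomm x hx), mul_inv_cancel_right]
        exact mul_inv_eq_iff_eq_mul.1 e2
      exact mem_centralizer_singleton_iff.1 (hmle hm)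
    rw [relIndex, relIndex, Subgroup.index, Subgroup.index]
    refine Nat.card_le_card_of_injective (fun x => f x.out) fun x y hxy => ?_
    have := hf _ _ hxy
    rwa [QuotientGroup.out_eq', QuotientGroup.out_eq'] at this
  have hBA : B ≤ A := inf_le_left
  have hA1 := HallCore.card_mul_relIndex hBA
  have hM1 := HallCore.card_mul_relIndex (le_sup_left : Z ≤ Z ⊔ M)
  have hge : Nat.card ↥A * Nat.card ↥Z ≤ Nat.card ↥B * Nat.card ↥(Z ⊔ M : Subgroup G) := by
    rw [← hA1, ← hM1, mul_assoc]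
    refine Nat.mul_le_mul_left _ ?_
    rw [mul_comm]
    exact Nat.mul_le_mul_left _ key
  have hlow := card_le_of_max hA hV hBA
  have heq : Z ⊔ M = C :=
    Subgroup.eq_of_le_of_card_ge hle (Nat.le_of_mul_le_mul_left (hlow.trans hge) Nat.card_pos)
  exact ⟨hBA, hge.trans (Nat.mul_le_mul_left _ (Subgroup.card_le_of_le hle)), heq.symm⟩

/-- **A quadratically acting element.** -/
theorem exists_quadratic [Fact p.Prime] {A V : Subgroup G}
    (hA : A ∈ maxElementaryAbelianSubgroups p G) (hV : IsElementaryAbelian p V)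
    (hAV : A ≤ normalizer (V : Set G)) (hne : ¬ A ≤ centralizer (V : Set G)) :
    ∃ b ∈ A, b ∉ centralizer (V : Set G) ∧
      ∀ a ∈ A, ∀ v ∈ V, b * ⁅a, v⁆ = ⁅a, v⁆ * b := by
  classical
  have hfam : ∀ s : Finset G, (↑s : Set G) ⊆ V → ∃ B M : Subgroup G, Good V A B M ∧
      (∀ v ∈ s, orbitComm A v ≤ M) ∧ B ≤ centralizer (M : Set G) ∧ M ≤ ⁅A, V⁆ := by
    intro s
    induction s using Finset.induction_on with
    | empty => exact fun _ => ⟨A, ⊥, ⟨le_rfl, le_rfl, by rw [sup_bot_eq]⟩, by simp, fun x _ y hy => by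
        rw [mem_bot.1 hy, one_mul, mul_one], bot_le⟩
    | insert v s _ ih =>
      intro hs
      rw [Finset.coe_insert, Set.insert_subset_iff] at hs
      obtain ⟨B, M, hg, hM, hBM, hMc⟩ := ih hs.2
      refine ⟨(A ⊓ centralizer (orbitComm A v : Set G)) ⊓ B, orbitComm A v ⊔ M,
        good_inf hA hV (good_orbit hA hV hAV hs.1) hg, fun w hw => ?_, ?_, ?_⟩
      · rcases Finset.mem_insert.1 hw with rfl | hw
        · exact le_sup_left
        · exact (hM w hw).trans le_sup_right
      · intro x hx m hm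
        have hle : orbitComm A v ⊔ M ≤ centralizer ({x} : Set G) :=
          sup_le (fun y hy => mem_centralizer_singleton_iff.2 (hx.1.2 y hy))
            (fun y hy => mem_centralizer_singleton_iff.2 (hBM hx.2 y hy))
        exact mem_centralizer_singleton_iff.1 (hle hm)
      · refine sup_le ((closure_le _).2 ?_) hMc
        rintro _ ⟨a, ha, rfl⟩
        exact commutator_mem_commutator ha hs.1
  obtain ⟨B, M, hg, hM, hBM, hMc⟩ := hfam (Set.toFinite (V : Set G)).toFinset (by simp)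
  have hall : ⁅A, V⁆ ≤ M := commutator_le.2 fun a ha v hv =>
    hM v (by simpa using hv) (subset_closure ⟨a, ha, rfl⟩)
  by_contra hcon
  push Not at hcon
  have hBV : B ≤ centralizer (V : Set G) := fun b hb => by
    by_contra hb'
    obtain ⟨a, ha, v, hv, hne'⟩ := hcon b (hg.1 hb) hb'
    exact hne' (hBM hb _ (hall (commutator_mem_commutator ha hv))).symm
  have hVeq : V ≤ (V ⊓ centralizer (A : Set G)) ⊔ M := by
    rw [← hg.2.2]
    exact le_inf le_rfl fun v hv b hb => (hBV hb v hv).symm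
  -- `[A, V] ≤ [A, [A, V]]`, so `A` centralises `V`
  apply hne
  set Y : ℕ → Subgroup G := fun k => Nat.rec V (fun _ X => ⁅A, X⁆) k with hY
  have hVc := ((Offenders.ea_iff V).1 hV).1
  have hYV : ∀ X : Subgroup G, X ≤ V → ⁅A, X⁆ ≤ V := fun X hX => commutator_le.2 fun a ha x hx => by
    rw [commutatorElement_def]
    exact mul_mem (LocalBasics.conj_mem_of_le_normalizer hAV ha (hX hx)) (inv_mem (hX hx))
  have hstep : ⁅A, V⁆ ≤ ⁅A, ⁅A, V⁆⁆ := by
    refine commutator_le.2 fun a ha v hv => ?_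
    have hv' := hVeq hv
    rw [← SetLike.mem_coe, Subgroup.coe_mul_of_right_le_normalizer_left _ M
      (fun m hm => LocalBasics.le_normalizer_of_conj (X := M) (fun y hy z hz => by
        rw [hVc y (hYV V le_rfl (hMc hy)) z hz.1, mul_inv_cancel_right]; exact hz) hm)] at hv'
    obtain ⟨z, hz, m, hm, rfl⟩ := hv'
    have hm' : ⁅a, m⁆ ∈ ⁅A, ⁅A, V⁆⁆ := commutator_mem_commutator ha (hMc hm)
    have e : ⁅a, z * m⁆ = ⁅a, z⁆ * (z * ⁅a, m⁆ * z⁻¹) := by
      simp only [commutatorElement_def]; group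
    rw [e, commutatorElement_eq_one_iff_mul_comm.2 (hz.2 a ha), one_mul,
      hVc z hz.1 _ (hYV _ (hYV V le_rfl) hm'), mul_inv_cancel_right]
    exact hm'
  have hP : IsPGroup p ↥(A ⊔ V : Subgroup G) :=
    (Offenders.ea_isPGroup hA.1).to_sup_of_normal_right' (Offenders.ea_isPGroup hV) hAV
  haveI := hP.isNilpotent
  obtain ⟨n, hn⟩ := Subgroup.isNilpotent_iff_lowerCentralSeries (A ⊔ V) |>.1 this
  have hlow : ∀ k, ⁅A, V⁆ ≤ (A ⊔ V).lowerCentralSeries k := by
    intro k
    induction k with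
    | zero => exact (commutator_le.2 fun a ha v hv => by
        rw [commutatorElement_def]
        exact mul_mem (mul_mem (mul_mem (mem_sup_left ha) (mem_sup_right hv))
          (inv_mem (mem_sup_left ha))) (inv_mem (mem_sup_right hv)))
    | succ k ih =>
      refine hstep.trans (commutator_le.2 fun a ha x hx => ?_)
      rw [Subgroup.lowerCentralSeries_succ, ← commutatorElement_inv]
      exact inv_mem (commutator_mem_commutator (ih hx) (mem_sup_left ha))
  intro a ha v hv
  have := hlow n (commutator_mem_commutator ha hv)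
  rw [hn, mem_bot, commutatorElement_eq_one_iff_mul_comm] at this
  exact this.symm

end Cfsg.Agent.BlockNormal16
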