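import Mathlib
import Cfsg.Prelude.Def_BaumannBlocks
import Cfsg.Agent.Lib.Block39Chart
import Cfsg.Agent.Lib.BlockNormal16Offender
import Cfsg.Agent.Lib.BaumannBlockBasics

/-!
The data carried by an exceptional `B(T)`-block and their first consequences.
-/

set_option autoImplicit false

namespace Cfsg.Agent.Block39

open Subgroup Cfsg Block39Plane Block39Chart BaumannSubnormal58
open scoped commutatorElement

/-- An exceptional block: `Q = O₃(E)`, `W = Ω₁(Z(Q))`, `Z = C_W(E)`, `V = [W, E]`. -/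
structure Data (G : Type*) [Group G] (F : Type) [Field F] where
  E : Subgroup G
  B : Subgroup G
  A : Subgroup G
  Y : Subgroup G
  R₀ : Subgroup G
  Q : Subgroup G
  W : Subgroup G
  Z : Subgroup G
  V : Subgroup G
  c1 : Chart F V ⊥
  c2 : Chart F Q W
  h3 : (3 : F) = 0
  res : closure {g : G | g ∈ E ∧ (orderOf g).Coprime 3} = E
  Bp : IsPGroup 3 ↥B
  BE : B ≤ normalizer (E : Set G)
  invn : ∀ P : Subgroup G, IsPGroup 3 ↥P → E ≤ normalizer (P : Set G) →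
    B ≤ normalizer (P : Set G) → P ≤ normalizer (E : Set G)
  QE : Q ≤ E
  Qp : IsPGroup 3 ↥Q
  QMax : ∀ P : Subgroup G, IsPGroup 3 ↥P → P ≤ E → E ≤ normalizer (P : Set G) → P ≤ Q
  NQ : normalizer (E : Set G) ≤ normalizer (Q : Set G)
  NW : normalizer (E : Set G) ≤ normalizer (W : Set G)
  NV : normalizer (E : Set G) ≤ normalizer (V : Set G)
  NZ : normalizer (E : Set G) ≤ normalizer (Z : Set G)
  WQ : W ≤ Q
  ZW : Z ≤ W
  VW : V ≤ W
  Wcent : ∀ w ∈ W, ∀ q ∈ Q, q * w = w * q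
  Zcent : ∀ ζ ∈ Z, ∀ e ∈ E, e * ζ = ζ * e
  comm : ⁅Q, Q⁆ = Z
  pow3 : ∀ q ∈ Q, q ^ 3 ∈ Z
  Wsup : ∀ w ∈ W, ∃ v ∈ V, ∃ ζ ∈ Z, w = v * ζ
  VZ : V ⊓ Z = ⊥
  Zne : Z ≠ ⊥
  r1 : ∀ e ∈ E, ∃ r ∈ commutator (SL F), c1.act e = mv r
  r1' : ∀ r ∈ commutator (SL F), ∃ e ∈ E, c1.act e = mv r
  r2 : ∀ e ∈ E, ∃ r ∈ commutator (SL F), c2.act e = mv r
  r2' : ∀ r ∈ commutator (SL F), ∃ e ∈ E, c2.act e = mv r
  ker1 : ∀ e ∈ E, c1.act e = 1 → e ∈ Q
  ker2 : ∀ e ∈ E, c2.act e = 1 → e ∈ Q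
  Amax : A ∈ maxElementaryAbelianSubgroups 3 G
  AB : A ≤ B
  AV : ¬ A ≤ centralizer (V : Set G)
  hquad : ∀ b ∈ B, b ∉ centralizer (W : Set G) → ¬ ⁅⁅Q, zpowers b⁆, zpowers b⁆ ≤ Z
  Yexp : ∀ y ∈ Y, y ^ 3 = 1
  YB : Y ≤ B
  YJ : ∀ A' ∈ maxElementaryAbelianSubgroups 3 G, A' ≤ B → ∀ a ∈ A', ∀ y ∈ Y, a * y = y * a
  maxB : ∀ P : Subgroup G, IsPGroup 3 ↥P → B ≤ P →
    ∀ A' ∈ maxElementaryAbelianSubgroups 3 G, A' ≤ P → A' ≤ B
  centYB : ∀ P : Subgroup G, IsPGroup 3 ↥P → B ≤ P → P ⊓ centralizer (Y : Set G) ≤ B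
  R₀p : IsPGroup 3 ↥R₀
  R₀n : ∀ g : G, g ∈ normalizer (R₀ : Set G)
  R₀cent : centralizer (R₀ : Set G) ≤ R₀
  QR₀ : Q ≤ R₀
  R₀E : R₀ ≤ normalizer (E : Set G)
  R₀V : R₀ ≤ centralizer (V : Set G)

namespace Data

variable {G : Type*} [Group G] {F : Type} [Field F] (D : Data G F)

theorem nm1 {g : G} (hg : g ∈ normalizer (D.E : Set G)) : g ∈ D.c1.Nm :=
  ⟨D.NV hg, by rw [normalizer_eq_top]; trivial⟩

theorem nm2 {g : G} (hg : g ∈ normalizer (D.E : Set G)) : g ∈ D.c2.Nm := ⟨D.NQ hg, D.NW hg⟩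

theorem E_norm {e : G} (he : e ∈ D.E) : e ∈ normalizer (D.E : Set G) := Subgroup.le_normalizer he

theorem Q_norm {q : G} (hq : q ∈ D.Q) : q ∈ normalizer (D.E : Set G) := D.E_norm (D.QE hq)

theorem Vexp {v : G} (hv : v ∈ D.V) : v ^ 3 = 1 := by
  have h := D.c1.val_pow hv 3
  have h0 : (3 : ℕ) • D.c1.val v hv = 0 := by
    ext i
    simp [nsmul_eq_mul, D.h3]
  rw [h0] at h
  exact mem_bot.1 ((D.c1.val_eq_zero _).1 h)

theorem Vcomm {v v' : G} (hv : v ∈ D.V) (hv' : v' ∈ D.V) : v * v' = v' * v :=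
  D.Wcent v' (D.VW hv') v (D.WQ (D.VW hv))

theorem mem_cent1_iff {g : G} (hg : g ∈ D.c1.Nm) :
    g ∈ cent D.V ⊥ ↔ g ∈ centralizer (D.V : Set G) := by
  constructor
  · intro h v hv
    exact (commutatorElement_eq_one_iff_mul_comm.1 (mem_bot.1 (h.2.2 v hv))).symm
  · intro h
    exact ⟨hg.1, hg.2, fun v hv => mem_bot.2 (commutatorElement_eq_one_iff_mul_comm.2 (h v hv).symm)⟩

theorem act1_eq_one {g : G} (hg : g ∈ D.c1.Nm) (h : g ∈ centralizer (D.V : Set G)) :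
    D.c1.act g = 1 := (D.c1.act_eq_one_iff hg).2 ((D.mem_cent1_iff hg).2 h)

theorem Q_centV : D.Q ≤ centralizer (D.V : Set G) := fun q hq v hv =>
  (D.Wcent v (D.VW hv) q hq).symm

theorem Q_cent2 : D.Q ≤ cent D.Q D.W := fun q hq =>
  ⟨D.NQ (D.Q_norm hq), D.NW (D.Q_norm hq), fun x hx =>
    D.ZW (D.comm.le (commutator_mem_commutator hq hx))⟩

theorem act2_Q {q : G} (hq : q ∈ D.Q) : D.c2.act q = 1 :=
  (D.c2.act_eq_one_iff (D.nm2 (D.Q_norm hq))).2 (D.Q_cent2 hq)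

theorem act1_Q {q : G} (hq : q ∈ D.Q) : D.c1.act q = 1 :=
  D.act1_eq_one (D.nm1 (D.Q_norm hq)) (D.Q_centV hq)

theorem mem_Q_of_centralizes {e : G} (he : e ∈ D.E) (h : e ∈ centralizer (D.V : Set G)) : e ∈ D.Q :=
  D.ker1 e he (D.act1_eq_one (D.nm1 (D.E_norm he)) h)

theorem commutator_mem_Q {g : G} (hg : g ∈ normalizer (D.E : Set G))
    (hgV : g ∈ centralizer (D.V : Set G)) {e : G} (he : e ∈ D.E) : ⁅g, e⁆ ∈ D.Q := by
  refine D.mem_Q_of_centralizes ?_ ?_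
  · rw [commutatorElement_def]
    exact mul_mem (conj_mem' hg he) (inv_mem he)
  · have h := conj_mem' (LocalBasics.le_normalizer_centralizer le_rfl (D.NV (D.E_norm he)))
      (inv_mem hgV)
    rw [commutatorElement_def, show g * e * g⁻¹ * e⁻¹ = g * (e * g⁻¹ * e⁻¹) by group]
    exact mul_mem hgV h

theorem sc_pow (k : F) : ∀ n : ℕ, (sc k) ^ n = sc (k ^ n)
  | 0 => endExt fun v => by rw [pow_zero, pow_zero]; show v = (1 : F) • v; rw [one_smul]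
  | n + 1 => by
    rw [pow_succ, sc_pow k n]
    refine endExt fun v => ?_
    show (k ^ n) • k • v = (k ^ (n + 1)) • v
    rw [smul_smul, pow_succ]

theorem sc_one : sc (1 : F) = 1 := endExt fun v => one_smul F v

theorem sc_eq_one {k : F} (h : sc k = 1) : k = 1 := by
  have h1 := congrFun (DFunLike.congr_fun h ![(1 : F), 0]) 0
  simpa using h1

theorem scalar2 {g : G} (hg : g ∈ normalizer (D.E : Set G)) (hQ : ∀ e ∈ D.E, ⁅g, e⁆ ∈ D.Q) :
    ∃ k : F, D.c2.act g = sc k := by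
  refine scalar_of_commute D.h3 _ fun r hr => ?_
  obtain ⟨e, he, hr'⟩ := D.r2' r hr
  rw [← hr']
  exact D.c2.act_eq_of_commutator (D.nm2 hg) (D.nm2 (D.E_norm he)) (D.Q_cent2 (hQ e he))

theorem scalar1 {g : G} (hg : g ∈ normalizer (D.E : Set G)) (hQ : ∀ e ∈ D.E, ⁅g, e⁆ ∈ D.Q) :
    ∃ k : F, D.c1.act g = sc k := by
  refine scalar_of_commute D.h3 _ fun r hr => ?_
  obtain ⟨e, he, hr'⟩ := D.r1' r hr
  rw [← hr']
  exact D.c1.act_eq_of_commutator (D.nm1 hg) (D.nm1 (D.E_norm he))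
    ((D.mem_cent1_iff (D.nm1 (D.Q_norm (hQ e he)))).2 (D.Q_centV (hQ e he)))

theorem pelt2 {g : G} (hg : g ∈ normalizer (D.E : Set G)) (hQ : ∀ e ∈ D.E, ⁅g, e⁆ ∈ D.Q)
    (hp : ∃ k : ℕ, g ^ 3 ^ k = 1) : g ∈ cent D.Q D.W := by
  obtain ⟨k, hk⟩ := hp
  obtain ⟨c, hc⟩ := D.scalar2 hg hQ
  refine (D.c2.act_eq_one_iff (D.nm2 hg)).1 ?_
  have h := D.c2.act_pow (D.nm2 hg) (3 ^ k)
  rw [hk, D.c2.act_one, hc, sc_pow] at h
  rw [hc, pow_three_sub_one D.h3 c k (sc_eq_one h.symm), sc_one]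

theorem pelt1 {g : G} (hg : g ∈ normalizer (D.E : Set G)) (hQ : ∀ e ∈ D.E, ⁅g, e⁆ ∈ D.Q)
    (hp : ∃ k : ℕ, g ^ 3 ^ k = 1) : g ∈ centralizer (D.V : Set G) := by
  obtain ⟨k, hk⟩ := hp
  obtain ⟨c, hc⟩ := D.scalar1 hg hQ
  refine (D.mem_cent1_iff (D.nm1 hg)).1 ((D.c1.act_eq_one_iff (D.nm1 hg)).1 ?_)
  have h := D.c1.act_pow (D.nm1 hg) (3 ^ k)
  rw [hk, D.c1.act_one, hc, sc_pow] at h
  rw [hc, pow_three_sub_one D.h3 c k (sc_eq_one h.symm), sc_one]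

/-- If `g` centralises `V` and acts trivially on `Q / W` it centralises `W`. -/
theorem centralizes_W {g : G} (hV : g ∈ centralizer (D.V : Set G)) (h2 : g ∈ cent D.Q D.W) :
    g ∈ centralizer (D.W : Set G) := by
  have hZ : D.Z ≤ centralizer ({g} : Set G) := by
    rw [← D.comm]
    refine commutator_le.2 fun a ha b hb => mem_centralizer_singleton_iff.2 ?_
    have hca : g * a * g⁻¹ = ⁅g, a⁆ * a := by rw [commutatorElement_def]; group
    have hcb : g * b * g⁻¹ = ⁅g, b⁆ * b := by rw [commutatorElement_def]; group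
    have wa := h2.2.2 a ha
    have wb := h2.2.2 b hb
    have e : g * ⁅a, b⁆ * g⁻¹ = ⁅⁅g, a⁆ * a, ⁅g, b⁆ * b⁆ := by
      rw [← hca, ← hcb]; simp only [commutatorElement_def]; group
    have c1 : Commute ⁅g, a⁆ a := (D.Wcent _ wa a ha).symm
    have c2 : Commute ⁅g, a⁆ b := (D.Wcent _ wa b hb).symm
    have c3 : Commute ⁅g, b⁆ a := (D.Wcent _ wb a ha).symm
    have c4 : Commute ⁅g, b⁆ b := (D.Wcent _ wb b hb).symm
    have c5 : Commute ⁅g, a⁆ ⁅g, b⁆ := D.Wcent _ wb _ (D.WQ wa)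
    have hr : ⁅⁅g, a⁆ * a, ⁅g, b⁆ * b⁆ = ⁅a, b⁆ := by
      have e1 : ⁅⁅g, a⁆ * a, ⁅g, b⁆ * b⁆ =
          ⁅g, a⁆ * ⁅a, ⁅g, b⁆⁆ * ⁅g, a⁆⁻¹ *
            (⁅g, a⁆ * (⁅g, b⁆ * ⁅a, b⁆ * ⁅g, b⁆⁻¹) * ⁅g, a⁆⁻¹) *
            (⁅⁅g, a⁆, ⁅g, b⁆⁆ * (⁅g, b⁆ * ⁅⁅g, a⁆, b⁆ * ⁅g, b⁆⁻¹)) := by
        simp only [commutatorElement_def]; group
      rw [e1, commutatorElement_eq_one_iff_mul_comm.2 c3.eq.symm,
        commutatorElement_eq_one_iff_mul_comm.2 c5.eq, commutatorElement_eq_one_iff_mul_comm.2 c2.eq]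
      have c6 : Commute ⁅g, b⁆ ⁅a, b⁆ := by
        rw [commutatorElement_def a b]
        exact ((c3.mul_right c4).mul_right c3.inv_right).mul_right c4.inv_right
      have c7 : Commute ⁅g, a⁆ ⁅a, b⁆ := by
        rw [commutatorElement_def a b]
        exact ((c1.mul_right c2).mul_right c1.inv_right).mul_right c2.inv_right
      rw [c6.eq, mul_inv_cancel_right, c7.eq, mul_inv_cancel_right]
      group
    rw [hr] at e
    exact (mul_inv_eq_iff_eq_mul.1 e).symm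
  intro w hw
  obtain ⟨v, hv, ζ, hζ, rfl⟩ := D.Wsup w hw
  have h1 : Commute v g := hV v hv
  have h2' : Commute ζ g := mem_centralizer_singleton_iff.1 (hZ hζ)
  exact (h1.mul_left h2').eq

theorem exists_z :
    ∃ z : G, z ∈ D.E ∧ z * z = 1 ∧ D.c1.act z = sc (-1) ∧ D.c2.act z = sc (-1) := by
  obtain ⟨m, hm, hmn⟩ := exists_neg_one D.h3
  obtain ⟨e, he, hem⟩ := D.r1' m hm
  have h1 := D.nm1 (D.E_norm he)
  have hneg : sc (-1 : F) * sc (-1) = 1 := endExt fun v => by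
    show (-1 : F) • (-1 : F) • v = v
    rw [smul_smul]; norm_num
  have hee : e * e ∈ D.Q := D.ker1 _ (mul_mem he he) (by rw [D.c1.act_mul h1 h1, hem, hmn, hneg])
  obtain ⟨k, hk⟩ := D.Qp ⟨e * e, hee⟩
  have hk' : (e * e) ^ 3 ^ k = 1 := congrArg Subtype.val hk
  set z := e ^ 3 ^ k with hz
  have hzE : z ∈ D.E := pow_mem he _
  have hz2 : z * z = 1 := by
    rw [hz, ← (Commute.refl e).mul_pow, hk']
  have hodd : ∀ j : ℕ, sc (-1 : F) ^ 3 ^ j = sc (-1) := fun j => by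
    rw [sc_pow, Odd.neg_one_pow (by exact Odd.pow (by decide))]
  have hz1 : D.c1.act z = sc (-1) := by rw [hz, D.c1.act_pow h1, hem, hmn, hodd]
  refine ⟨z, hzE, hz2, hz1, ?_⟩
  obtain ⟨r, -, hr⟩ := D.r2 z hzE
  have h2 := D.nm2 (D.E_norm hzE)
  rw [hr]
  refine sq_eq_one D.h3 (mul_inv_eq_one.1 ?_) fun h => ?_
  · apply mv_eq_one
    have h' : mv (r * r) = 1 := by rw [mv_mul, ← hr, ← D.c2.act_mul h2 h2, hz2, D.c2.act_one]
    simpa using h'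
  · have hzQ : z ∈ D.Q := D.ker2 z hzE (by rw [hr, h, mv_one])
    have := D.act1_Q hzQ
    rw [hz1] at this
    exact neg_one_ne_one D.h3 (sc_eq_one this)

/-- The chosen involution. -/
noncomputable def z : G := D.exists_z.choose

theorem z_mem : D.z ∈ D.E := D.exists_z.choose_spec.1
theorem z_sq : D.z * D.z = 1 := D.exists_z.choose_spec.2.1
theorem z_act1 : D.c1.act D.z = sc (-1) := D.exists_z.choose_spec.2.2.1
theorem z_act2 : D.c2.act D.z = sc (-1) := D.exists_z.choose_spec.2.2.2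

theorem z_inv : D.z⁻¹ = D.z := inv_eq_of_mul_eq_one_right D.z_sq

theorem z_inverts {v : G} (hv : v ∈ D.V) : D.z * v * D.z⁻¹ = v⁻¹ := by
  have hn := D.nm1 (D.E_norm D.z_mem)
  have h := D.c1.act_val hn hv
  rw [D.z_act1] at h
  have h' : D.c1.val _ (D.c1.conj_mem hn hv) = D.c1.val v⁻¹ (inv_mem hv) := by
    rw [← h, D.c1.val_inv hv]; simp
  have hm := mul_mem (D.c1.conj_mem hn hv) (inv_mem (inv_mem hv))
  have h0 := (D.c1.val_eq_zero hm).1 (by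
    rw [D.c1.val_mul (D.c1.conj_mem hn hv) (inv_mem (inv_mem hv)), D.c1.val_inv (inv_mem hv), h',
      add_neg_cancel])
  exact mul_inv_eq_one.1 (mem_bot.1 h0)

theorem z_fix {ζ : G} (hζ : ζ ∈ D.Z) : D.z * ζ = ζ * D.z := D.Zcent ζ hζ _ D.z_mem

/-! ### The subgroup `A` -/

theorem A_norm : D.A ≤ normalizer (D.E : Set G) := D.AB.trans D.BE

theorem A_cube {a : G} (ha : a ∈ D.A) : a ^ 3 = 1 := ((Offenders.ea_iff D.A).1 D.Amax.1).2 a ha

theorem cube1 {g : G} (hg : g ∈ D.c1.Nm) (hc : g ^ 3 = 1) (v : Pl F) :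
    D.c1.act g (D.c1.act g (D.c1.act g v)) = v := by
  have h := D.c1.act_pow hg 3
  rw [hc, D.c1.act_one] at h
  exact (DFunLike.congr_fun h v).symm

theorem cube2 {g : G} (hg : g ∈ D.c2.Nm) (hc : g ^ 3 = 1) (v : Pl F) :
    D.c2.act g (D.c2.act g (D.c2.act g v)) = v := by
  have h := D.c2.act_pow hg 3
  rw [hc, D.c2.act_one] at h
  exact (DFunLike.congr_fun h v).symm

theorem semilinear1 {g : G} (hg : g ∈ normalizer (D.E : Set G)) (c : F) :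
    ∃ d : F, ∀ v, D.c1.act g (c • v) = d • D.c1.act g v := by
  have h1 := D.nm1 hg
  refine semilinear D.h3 (D.c1.act_mul_inv h1) (D.c1.act_inv_mul h1) (fun r hr => ?_) c
  obtain ⟨e, he, her⟩ := D.r1' r hr
  have he' : g⁻¹ * e * g ∈ D.E := by simpa using conj_mem' (inv_mem hg) he
  obtain ⟨r', hr', her'⟩ := D.r1 _ he'
  refine ⟨r', hr', ?_⟩
  rw [← her, ← her', ← D.c1.act_mul (inv_mem h1) (D.nm1 (D.E_norm he)),
    ← D.c1.act_mul (D.nm1 (D.E_norm he')) (inv_mem h1)]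
  congr 1
  group

theorem V_ea : IsElementaryAbelian 3 D.V :=
  (Offenders.ea_iff D.V).2 ⟨fun _ hx _ hy => D.Vcomm hx hy, fun _ hx => D.Vexp hx⟩

theorem A_line [Finite G] :
    ∃ w : Pl F, w ≠ 0 ∧ (∃ b ∈ D.A, ∀ v, D.c1.act b v = v → ∃ c : F, v = c • w) ∧
      ∀ a ∈ D.A, (∀ (c : F) v, D.c1.act a (c • v) = c • D.c1.act a v) ∧ D.c1.act a w = w ∧
        ∀ v, ∃ c : F, D.c1.act a v - v = c • w := by
  obtain ⟨b, hb, hbV, hq⟩ := BlockNormal16.exists_quadratic D.Amax D.V_ea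
    (D.A_norm.trans D.NV) D.AV
  have hn : ∀ {a}, a ∈ D.A → a ∈ D.c1.Nm := fun ha => D.nm1 (D.A_norm ha)
  have hbq : ∀ a ∈ D.A, ∀ v, D.c1.act b (D.c1.act a v - v) = D.c1.act a v - v := by
    intro a ha v
    obtain ⟨u, hu, rfl⟩ := D.c1.exists_val v
    have hm : ⁅a, u⁆ ∈ D.V := commutatorElement_mem (D.NV (D.A_norm ha)) hu
    rw [← D.c1.val_commutator (hn ha) hu hm, D.c1.act_val (hn hb) hm]
    exact D.c1.val_congr (by rw [hq a ha u hu, mul_inv_cancel_right]) _ _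
  have hbl : ∀ (c : F) v, D.c1.act b (c • v) = c • D.c1.act b v :=
    linear_of_quadratic D.h3 (D.semilinear1 (D.A_norm hb)) (hbq b hb)
  obtain ⟨w, hw, hline⟩ := exists_line hbl (hbq b hb) fun h =>
    hbV ((D.mem_cent1_iff (hn hb)).1 ((D.c1.act_eq_one_iff (hn hb)).1 h))
  refine ⟨w, hw, ⟨b, hb, fun v hv => (hline v).1 hv⟩, fun a ha => ?_⟩
  have hmove : ∀ v, ∃ c : F, D.c1.act a v - v = c • w := fun v => (hline _).1 (hbq a ha v)
  obtain ⟨h1, h2⟩ := linear_of_line D.h3 (D.semilinear1 (D.A_norm ha))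
    (D.cube1 (hn ha) (D.A_cube ha)) hw hmove
  exact ⟨h1, h2, hmove⟩

theorem A_linear1 [Finite G] {a : G} (ha : a ∈ D.A) (c : F) (v : Pl F) :
    D.c1.act a (c • v) = c • D.c1.act a v := by
  obtain ⟨w, -, -, h⟩ := D.A_line
  exact (h a ha).1 c v

theorem A_quad1 [Finite G] {a : G} (ha : a ∈ D.A) (v : Pl F) :
    D.c1.act a (D.c1.act a v - v) = D.c1.act a v - v :=
  quadratic_of_cube D.h3 (D.A_linear1 ha) (D.cube1 (D.nm1 (D.A_norm ha)) (D.A_cube ha)) v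

theorem A_linear2 [Finite G] {a : G} (ha : a ∈ D.A) (c : F) (v : Pl F) :
    D.c2.act a (c • v) = c • D.c2.act a v := by
  by_cases hex : ∃ t : F, t ≠ 0 ∧ t * t ≠ 1
  · obtain ⟨t, ht, ht2⟩ := hex
    have hn := D.A_norm ha
    obtain ⟨g, hg, -⟩ := exists_sl D.h3 (D.A_linear1 ha) (D.cube1 (D.nm1 hn) (D.A_cube ha))
    obtain ⟨e, he, heg⟩ := D.r1' g (by
      rw [Matrix.SL2.commutator_eq_top ht (by rwa [pow_two])]; trivial)
    have hd : e⁻¹ * a ∈ normalizer (D.E : Set G) := mul_mem (inv_mem (D.E_norm he)) hn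
    have hdV : e⁻¹ * a ∈ centralizer (D.V : Set G) := by
      refine (D.mem_cent1_iff (D.nm1 hd)).1 ((D.c1.act_eq_one_iff (D.nm1 hd)).1 ?_)
      rw [D.c1.act_mul (inv_mem (D.nm1 (D.E_norm he))) (D.nm1 hn), ← hg, ← heg,
        D.c1.act_inv_mul (D.nm1 (D.E_norm he))]
    obtain ⟨k, hk⟩ := D.scalar2 hd fun x hx => D.commutator_mem_Q hd hdV hx
    obtain ⟨r, -, hr⟩ := D.r2 e he
    have : D.c2.act a = mv r * sc k := by
      rw [← hr, ← hk, ← D.c2.act_mul (D.nm2 (D.E_norm he)) (D.nm2 hd)]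
      congr 1
      group
    rw [this]
    show mv r (k • c • v) = c • mv r (k • v)
    rw [smul_comm, mv_smul]
  · push Not at hex
    by_cases hc : c = 0
    · simp [hc]
    rcases mul_self_eq_one_iff.1 (hex c hc) with rfl | rfl
    · simp
    · simp

theorem A_quad2 [Finite G] {a : G} (ha : a ∈ D.A) (v : Pl F) :
    D.c2.act a (D.c2.act a v - v) = D.c2.act a v - v :=
  quadratic_of_cube D.h3 (D.A_linear2 ha) (D.cube2 (D.nm2 (D.A_norm ha)) (D.A_cube ha)) v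

/-- `|A| |C_V(A)| ≤ |A ∩ C(V)| |V|`. -/
theorem A_card [Finite G] [Finite F] :
    Nat.card ↥D.A * Nat.card ↥(D.V ⊓ centralizer (D.A : Set G)) ≤
      Nat.card ↥(D.A ⊓ centralizer (D.V : Set G)) * Nat.card ↥D.V := by
  obtain ⟨w, hw, ⟨b, hb, hfix⟩, hA⟩ := D.A_line
  obtain ⟨v0, hv0⟩ : ∃ v0 : Pl F, ∀ c : F, v0 ≠ c • w := by
    by_contra h
    push Not at h
    obtain ⟨x, hx⟩ := h ![1, 0]
    obtain ⟨y, hy⟩ := h ![0, 1]
    have a0 := congrFun hx 0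
    have a1 := congrFun hx 1
    have b1 := congrFun hy 1
    simp at a0 a1 b1
    rcases a1 with a1 | a1
    · simp [a1] at a0
    · simp [a1] at b1
  have hn : ∀ {a}, a ∈ D.A → a ∈ D.c1.Nm := fun ha => D.nm1 (D.A_norm ha)
  have key : ∀ a a' : ↥D.A, D.c1.act a v0 - v0 = D.c1.act a' v0 - v0 →
      (QuotientGroup.mk a : ↥D.A ⧸ (D.A ⊓ centralizer (D.V : Set G)).subgroupOf D.A) =
        QuotientGroup.mk a' := by
    intro a a' h
    rw [sub_left_inj] at h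
    rw [QuotientGroup.eq]
    have hm : (a : G)⁻¹ * a' ∈ D.A := mul_mem (inv_mem a.2) a'.2
    refine ⟨hm, (D.mem_cent1_iff (hn hm)).1 ((D.c1.act_eq_one_iff (hn hm)).1 ?_)⟩
    have hv : D.c1.act ((a : G)⁻¹ * a') v0 = v0 := by
      rw [D.c1.act_mul (inv_mem (hn a.2)) (hn a'.2)]
      show D.c1.act (a : G)⁻¹ (D.c1.act a' v0) = v0
      rw [← h]
      exact DFunLike.congr_fun (D.c1.act_inv_mul (hn a.2)) v0
    refine endExt fun u => ?_
    obtain ⟨x, y, rfl⟩ := exists_comb hw hv0 u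
    rw [map_add, (hA _ hm).1, (hA _ hm).1, (hA _ hm).2.1, hv]
    rfl
  have h1 : (D.A ⊓ centralizer (D.V : Set G)).relIndex D.A ≤ Nat.card F := by
    let f : ↥D.A ⧸ (D.A ⊓ centralizer (D.V : Set G)).subgroupOf D.A → F := fun q =>
      ((hA (q.out : G) q.out.2).2.2 v0).choose
    refine Nat.card_le_card_of_injective f fun q q' hqq => ?_
    have e1 := ((hA (q.out : G) q.out.2).2.2 v0).choose_spec
    have e2 := ((hA (q'.out : G) q'.out.2).2.2 v0).choose_spec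
    have := key q.out q'.out (e1.trans ((congrArg (fun c : F => c • w) hqq).trans e2.symm))
    rwa [QuotientGroup.out_eq', QuotientGroup.out_eq'] at this
  have h2 : Nat.card ↥(D.V ⊓ centralizer (D.A : Set G)) ≤ Nat.card F := by
    have hval : ∀ u : ↥(D.V ⊓ centralizer (D.A : Set G)), ∃ c : F, D.c1.val u u.2.1 = c • w := by
      intro u
      refine hfix _ ?_
      rw [D.c1.act_val (hn hb)]
      exact D.c1.val_congr (by rw [u.2.2 b hb, mul_inv_cancel_right]) _ _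
    choose g hg using hval
    refine Nat.card_le_card_of_injective g fun u u' h => ?_
    have e : D.c1.val u u.2.1 = D.c1.val u' u'.2.1 := by rw [hg, hg, h]
    have hu : (u : G) ∈ D.V := u.2.1
    have hu' : (u' : G) ∈ D.V := u'.2.1
    have hm := mul_mem hu (inv_mem hu')
    have h0 := (D.c1.val_eq_zero hm).1 (by
      rw [D.c1.val_mul hu (inv_mem hu'), D.c1.val_inv hu', e, add_neg_cancel])
    exact Subtype.ext (mul_inv_eq_one.1 (mem_bot.1 h0))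
  have h3 : Nat.card ↥D.V = Nat.card F * Nat.card F := by
    rw [D.c1.card_eq, Subgroup.card_bot, one_mul, Nat.card_fun, Nat.card_fin, pow_two]
  have h4 := HallCore.card_mul_relIndex (inf_le_left : D.A ⊓ centralizer (D.V : Set G) ≤ D.A)
  rw [← h4, h3, mul_assoc]
  exact Nat.mul_le_mul_left _ (Nat.mul_le_mul h1 h2)

end Data

end Cfsg.Agent.Block39
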