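import Mathlib
import Cfsg.Agent.Lib.Block39Data
import Cfsg.Agent.Lib.LocalBasics

/-!
An exceptional block inside an intermediate subgroup; invariant complements by averaging; the
two criteria for `[C', E] ≤ O₃`.
-/

set_option autoImplicit false

namespace Cfsg.Agent.Block39

open Subgroup Cfsg Block39Plane Block39Chart BaumannSubnormal58
open scoped commutatorElement

variable {G : Type*} [Group G] {F : Type} [Field F]

/-! ### General lemmas -/

theorem isPGroup_of_coprime [Finite G] {p : ℕ} [Fact p.Prime] {L : Subgroup G}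
    (h : ∀ x ∈ L, (orderOf x).Coprime p → x = 1) : IsPGroup p ↥L := by
  intro g
  refine ⟨(orderOf g.1).factorization p, Subtype.ext ?_⟩
  rw [SubmonoidClass.coe_pow]
  refine h _ (pow_mem g.2 _) ?_
  refine Nat.Coprime.coprime_dvd_left ?_
    (Nat.coprime_ordCompl (Fact.out : p.Prime) (orderOf_pos g.1).ne').symm
  refine orderOf_dvd_of_pow_eq_one ?_
  rw [← pow_mul, Nat.ordProj_mul_ordCompl_eq_self, pow_orderOf_eq_one]

theorem exists_pow_of_isPGroup {p : ℕ} {L : Subgroup G} (hL : IsPGroup p ↥L) {x : G} (hx : x ∈ L) :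
    ∃ k : ℕ, x ^ p ^ k = 1 := by
  obtain ⟨k, hk⟩ := hL ⟨x, hx⟩
  exact ⟨k, congrArg Subtype.val hk⟩

/-- Averaging a homomorphism on `X` over the cosets of `S` in `C`. -/
theorem exists_average [Finite G] {X C S : Subgroup G} {M : Type*} [CommGroup M]
    (hM : ∀ m : M, m ^ 3 = 1) (hS : ¬ 3 ∣ S.relIndex C) (hC : C ≤ normalizer (X : Set G))
    (π : ↥X →* M)
    (hinv : ∀ s ∈ S, ∀ (x : ↥X) (h : s * x * s⁻¹ ∈ X), π ⟨_, h⟩ = π x) :
    ∃ π' : ↥X →* M, (∀ c ∈ C, ∀ (x : ↥X) (h : c * x * c⁻¹ ∈ X), π' ⟨_, h⟩ = π' x) ∧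
      ∀ x : ↥X, (∀ c ∈ C, c * x = x * c) → π' x = π x := by
  classical
  let I := ↥C ⧸ S.subgroupOf C
  haveI : Fintype I := Fintype.ofFinite I
  have hm : Fintype.card I = S.relIndex C := by
    rw [← Nat.card_eq_fintype_card]; rfl
  obtain ⟨j, hj⟩ : ∃ j : ℕ, (Fintype.card I * j) % 3 = 1 := by
    rw [hm]
    have h0 : S.relIndex C % 3 ≠ 0 := fun h => hS (Nat.dvd_of_mod_eq_zero h)
    rcases (by omega : S.relIndex C % 3 = 1 ∨ S.relIndex C % 3 = 2) with h | h
    · exact ⟨1, by omega⟩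
    · exact ⟨2, by omega⟩
  have hmem : ∀ (x : ↥X) (c : ↥C), (c : G)⁻¹ * x * c ∈ X := fun x c => by
    simpa using conj_mem' (hC (inv_mem c.2)) x.2
  let f : ↥X → ↥C → M := fun x c => π ⟨_, hmem x c⟩
  have hf : ∀ (x : ↥X) (a b : ↥C), (a : G)⁻¹ * b ∈ S → f x a = f x b := by
    intro x a b hab
    have hmm : ((a : G)⁻¹ * b) * ((b : G)⁻¹ * x * b) * ((a : G)⁻¹ * b)⁻¹ ∈ X := by
      have e : ((a : G)⁻¹ * b) * ((b : G)⁻¹ * x * b) * ((a : G)⁻¹ * b)⁻¹ = (a : G)⁻¹ * x * a := by group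
      rw [e]; exact hmem x a
    have h2 := hinv _ hab ⟨_, hmem x b⟩ hmm
    show π _ = π _
    rw [← h2]
    congr 1
    apply Subtype.ext
    show (a : G)⁻¹ * x * a = ((a : G)⁻¹ * b) * ((b : G)⁻¹ * x * b) * ((a : G)⁻¹ * b)⁻¹
    group
  let P : ↥X →* M :=
    { toFun := fun x => (∏ i : I, f x i.out) ^ j
      map_one' := by
        rw [Finset.prod_eq_one fun i _ => ?_, one_pow]
        show π _ = 1
        rw [← map_one π]
        congr 1
        apply Subtype.ext
        simp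
      map_mul' := fun x y => by
        rw [← mul_pow, ← Finset.prod_mul_distrib]
        congr 1
        refine Finset.prod_congr rfl fun i _ => ?_
        show π _ = π _ * π _
        rw [← map_mul]
        congr 1
        apply Subtype.ext
        show (i.out : G)⁻¹ * ((x : G) * y) * i.out = _
        simp only [Subgroup.coe_mul]
        group }
  refine ⟨P, fun c hc x h => ?_, fun x hx => ?_⟩
  · show (∏ i : I, f ⟨_, h⟩ i.out) ^ j = (∏ i : I, f x i.out) ^ j
    congr 1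
    have e1 : ∀ i : I, f ⟨_, h⟩ i.out = f x ((⟨c, hc⟩ : ↥C)⁻¹ • i).out := by
      intro i
      have e : f ⟨_, h⟩ i.out = f x ((⟨c, hc⟩ : ↥C)⁻¹ * i.out) := by
        show π _ = π _
        congr 1
        apply Subtype.ext
        simp only [Subgroup.coe_mul, InvMemClass.coe_inv]
        group
      rw [e]
      refine hf x _ _ ?_
      have h2 : (QuotientGroup.mk ((⟨c, hc⟩ : ↥C)⁻¹ * i.out) : I) =
          QuotientGroup.mk (((⟨c, hc⟩ : ↥C)⁻¹ • i).out) := by
        rw [QuotientGroup.out_eq']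
        conv_rhs => rw [← QuotientGroup.out_eq' i]
        rfl
      exact Subgroup.mem_subgroupOf.1 ((QuotientGroup.eq (s := S.subgroupOf C)).1 h2)
    rw [Finset.prod_congr rfl fun i _ => e1 i]
    exact Equiv.prod_comp (MulAction.toPerm ((⟨c, hc⟩ : ↥C)⁻¹)) (fun i : I => f x i.out)
  · show (∏ i : I, f x i.out) ^ j = π x
    have : ∀ i : I, f x i.out = π x := by
      intro i
      show π _ = π x
      congr 1
      apply Subtype.ext
      show (i.out : G)⁻¹ * x * i.out = x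
      rw [mul_assoc, ← hx _ i.out.2, inv_mul_cancel_left]
    rw [Finset.prod_congr rfl fun i _ => this i, Finset.prod_const, Finset.card_univ, ← pow_mul]
    conv_lhs => rw [← Nat.div_add_mod (Fintype.card I * j) 3, hj]
    rw [pow_add, pow_mul, hM, one_pow, one_mul, pow_one]

/-! ### The intermediate subgroup -/

/-- A subgroup between `E B R₀` and `C(V) E B`. -/
structure Ctx (D : Data G F) where
  H : Subgroup G
  EH : D.E ≤ H
  BH : D.B ≤ H
  R₀H : D.R₀ ≤ H
  HC : H ≤ centralizer (D.V : Set G) ⊔ (D.E ⊔ D.B)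

namespace Ctx

variable {D : Data G F} (X : Ctx D)

/-- `O₃(H)`. -/
def R : Subgroup G := pCoreOf 3 X.H

/-- `C_H(V)`. -/
def CV : Subgroup G := X.H ⊓ centralizer (D.V : Set G)

theorem EB_norm_cent : D.E ⊔ D.B ≤ normalizer ((centralizer (D.V : Set G) : Subgroup G) : Set G) :=
  LocalBasics.le_normalizer_centralizer (sup_le (Subgroup.le_normalizer.trans D.NV) (D.BE.trans D.NV))

theorem CV_le : X.CV ≤ X.H := inf_le_left

theorem CV_cent : X.CV ≤ centralizer (D.V : Set G) := inf_le_right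

theorem H_le_of {K : Subgroup G} (h1 : X.CV ≤ K) (h2 : D.E ≤ K) (h3 : D.B ≤ K) : X.H ≤ K := by
  intro h hh
  have h' := X.HC hh
  rw [← SetLike.mem_coe, Subgroup.coe_mul_of_right_le_normalizer_left _ _ EB_norm_cent] at h'
  obtain ⟨c, hc, m, hm, rfl⟩ := h'
  have hc' : c ∈ X.H := by
    have := mul_mem hh (inv_mem (sup_le X.EH X.BH hm))
    simpa using this
  exact mul_mem (h1 ⟨hc', hc⟩) (sup_le h2 h3 hm)

theorem H_norm_CV : X.H ≤ normalizer (X.CV : Set G) :=
  X.H_le_of Subgroup.le_normalizer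
    (LocalBasics.le_normalizer_inf (X.EH.trans Subgroup.le_normalizer) (le_sup_left.trans EB_norm_cent))
    (LocalBasics.le_normalizer_inf (X.BH.trans Subgroup.le_normalizer) (le_sup_right.trans EB_norm_cent))

theorem R_le : X.R ≤ X.H := LocalBasics.pCoreOf_le 3 X.H

theorem R_p [Finite G] : IsPGroup 3 ↥X.R := LocalBasics.isPGroup_pCoreOf 3 X.H

theorem H_norm_R : X.H ≤ normalizer (X.R : Set G) := LocalBasics.le_normalizer_pCoreOf 3 X.H

theorem R_norm_E [Finite G] : X.R ≤ normalizer (D.E : Set G) :=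
  D.invn _ X.R_p (X.EH.trans X.H_norm_R) (X.BH.trans X.H_norm_R)

theorem R₀_le [Finite G] : D.R₀ ≤ X.R :=
  LocalBasics.le_pCoreOf X.R₀H (fun g _ => D.R₀n g) D.R₀p

theorem Q_le [Finite G] : D.Q ≤ X.R := D.QR₀.trans X.R₀_le

theorem cent_R [Finite G] : centralizer (X.R : Set G) ≤ X.R :=
  ((centralizer_le fun _ h => X.R₀_le h).trans D.R₀cent).trans X.R₀_le

theorem comm_R [Finite G] {r e : G} (hr : r ∈ X.R) (he : e ∈ D.E) : ⁅r, e⁆ ∈ D.Q := by
  refine D.QMax (D.E ⊓ X.R) (X.R_p.to_le inf_le_right) inf_le_left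
    (LocalBasics.le_normalizer_inf Subgroup.le_normalizer (X.EH.trans X.H_norm_R)) (mem_inf.2 ⟨?_, ?_⟩)
  · rw [commutatorElement_def]
    exact mul_mem (conj_mem' (X.R_norm_E hr) he) (inv_mem he)
  · rw [← commutatorElement_inv]
    exact inv_mem (commutatorElement_mem (X.H_norm_R (X.EH he)) hr)

theorem R_cent2 [Finite G] : X.R ≤ cent D.Q D.W := fun _ hr =>
  D.pelt2 (X.R_norm_E hr) (fun _ he => X.comm_R hr he) (exists_pow_of_isPGroup X.R_p hr)

theorem R_centV [Finite G] : X.R ≤ centralizer (D.V : Set G) := fun _ hr =>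
  D.pelt1 (X.R_norm_E hr) (fun _ he => X.comm_R hr he) (exists_pow_of_isPGroup X.R_p hr)

theorem R_centW [Finite G] : X.R ≤ centralizer (D.W : Set G) := fun _ hr =>
  D.centralizes_W (X.R_centV hr) (X.R_cent2 hr)

theorem R_le_CV [Finite G] : X.R ≤ X.CV := le_inf X.R_le X.R_centV

/-- A 3-subgroup of a normalised `C'` that is normalised by `C'` lies in `O₃(H)`. -/
theorem le_R_of [Finite G] {C' K : Subgroup G} (hC' : C' ≤ X.H)
    (hn : X.H ≤ normalizer (C' : Set G)) (hK : K ≤ C') (hKn : C' ≤ normalizer (K : Set G))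
    (hKp : IsPGroup 3 ↥K) : K ≤ X.R :=
  (LocalBasics.le_pCoreOf hK hKn hKp).trans (LocalBasics.le_pCoreOf
    ((LocalBasics.pCoreOf_le 3 C').trans hC') (LocalLarge57.le_normalizer_pCoreOf_of_le_normalizer hn)
    (LocalBasics.isPGroup_pCoreOf 3 C'))

/-- A 3'-element of `H` centralising `R` is trivial. -/
theorem eq_one_of_cent [Finite G] {x : G} (hx : (orderOf x).Coprime 3)
    (h : x ∈ centralizer (X.R : Set G)) : x = 1 := by
  obtain ⟨k, hk⟩ := exists_pow_of_isPGroup X.R_p (X.cent_R h)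
  have := pow_gcd_eq_one.2 ⟨pow_orderOf_eq_one x, hk⟩
  rwa [(hx.pow_right k), pow_one] at this

end Ctx

end Cfsg.Agent.Block39
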