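import Mathlib
import Cfsg.Agent.Lib.Block39Ctx

/-!
The pairing `(g, q) ↦ [g, q]` with values in `W / Z`, irreducibility, and the fact that `Q / Z` has
no invariant complement to `V`.
-/

set_option autoImplicit false

namespace Cfsg.Agent.Block39

open Subgroup Cfsg Block39Plane Block39Chart BaumannSubnormal58
open scoped commutatorElement

variable {G : Type*} [Group G] {F : Type} [Field F]

namespace Data

variable (D : Data G F)

theorem QZnorm : D.Q ≤ normalizer (D.Z : Set G) := fun _ hq => D.NZ (D.Q_norm hq)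

theorem W_comm {a b : G} (ha : a ∈ D.W) (hb : b ∈ D.W) : a * b = b * a :=
  D.Wcent b hb a (D.WQ ha)

/-- The component in `V` of an element of `W`. -/
noncomputable def vpart (w : G) : G := (w * D.z * w⁻¹ * D.z⁻¹) ^ 2

theorem vpart_eq {v ζ : G} (hv : v ∈ D.V) (hζ : ζ ∈ D.Z) : D.vpart (v * ζ) = v := by
  have h1 := D.z_inverts (inv_mem hv)
  rw [inv_inv] at h1
  have h2 : D.z * ζ⁻¹ * D.z⁻¹ = ζ⁻¹ := by rw [D.z_fix (inv_mem hζ), mul_inv_cancel_right]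
  have e : v * ζ * D.z * (v * ζ)⁻¹ * D.z⁻¹ = v * v := by
    calc v * ζ * D.z * (v * ζ)⁻¹ * D.z⁻¹
        = v * ζ * ((D.z * ζ⁻¹ * D.z⁻¹) * (D.z * v⁻¹ * D.z⁻¹)) := by group
      _ = v * v := by rw [h1, h2]; group
  rw [vpart, e, pow_two]
  calc v * v * (v * v) = v ^ 3 * v := by rw [pow_succ, pow_two]; group
    _ = v := by rw [D.Vexp hv, one_mul]

theorem vpart_mem {w : G} (hw : w ∈ D.W) : D.vpart w ∈ D.V := by
  obtain ⟨v, hv, ζ, hζ, rfl⟩ := D.Wsup w hw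
  rw [D.vpart_eq hv hζ]; exact hv

open Classical in
/-- Coordinates of the component in `V`. -/
noncomputable def dl (w : G) : Pl F :=
  if h : D.vpart w ∈ D.V then D.c1.val _ h else 0

theorem dl_eq {v ζ : G} (hv : v ∈ D.V) (hζ : ζ ∈ D.Z) : D.dl (v * ζ) = D.c1.val v hv := by
  have h := D.vpart_eq hv hζ
  rw [dl, dif_pos (show D.vpart (v * ζ) ∈ D.V by rw [h]; exact hv)]
  exact D.c1.val_congr h _ _

theorem dl_V {v : G} (hv : v ∈ D.V) : D.dl v = D.c1.val v hv := by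
  rw [← D.dl_eq hv (one_mem _), mul_one]

theorem dl_Z {ζ : G} (hζ : ζ ∈ D.Z) : D.dl ζ = 0 := by
  have h := D.dl_eq (one_mem D.V) hζ
  rwa [one_mul, D.c1.val_one] at h

theorem dl_mul {a b : G} (ha : a ∈ D.W) (hb : b ∈ D.W) : D.dl (a * b) = D.dl a + D.dl b := by
  obtain ⟨v, hv, ζ, hζ, rfl⟩ := D.Wsup a ha
  obtain ⟨v', hv', ζ', hζ', rfl⟩ := D.Wsup b hb
  have e : v * ζ * (v' * ζ') = v * v' * (ζ * ζ') := by
    rw [mul_assoc, ← mul_assoc ζ, D.W_comm (D.ZW hζ) (D.VW hv')]; group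
  rw [e, D.dl_eq (mul_mem hv hv') (mul_mem hζ hζ'), D.dl_eq hv hζ, D.dl_eq hv' hζ', D.c1.val_mul hv hv']

theorem dl_eq_zero {w : G} (hw : w ∈ D.W) : D.dl w = 0 ↔ w ∈ D.Z := by
  obtain ⟨v, hv, ζ, hζ, rfl⟩ := D.Wsup w hw
  rw [D.dl_eq hv hζ, D.c1.val_eq_zero hv, mem_bot]
  constructor
  · rintro rfl; rwa [one_mul]
  · intro h
    have : v ∈ D.V ⊓ D.Z := ⟨hv, by simpa using mul_mem h (inv_mem hζ)⟩
    rwa [D.VZ, mem_bot] at this

theorem dl_conj {g : G} (hg : g ∈ normalizer (D.E : Set G)) {w : G} (hw : w ∈ D.W) :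
    D.dl (g * w * g⁻¹) = D.c1.act g (D.dl w) := by
  obtain ⟨v, hv, ζ, hζ, rfl⟩ := D.Wsup w hw
  have e : g * (v * ζ) * g⁻¹ = (g * v * g⁻¹) * (g * ζ * g⁻¹) := by group
  rw [e, D.dl_eq (conj_mem' (D.NV hg) hv) (conj_mem' (D.NZ hg) hζ), D.dl_eq hv hζ,
    D.c1.act_val (D.nm1 hg) hv]

/-- The domain of the pairing. -/
def Om : Subgroup G :=
  normalizer (D.E : Set G) ⊓ centralizer (D.W : Set G) ⊓ cent D.Q D.W

theorem Q_le_Om : D.Q ≤ D.Om := fun q hq =>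
  mem_inf.2 ⟨mem_inf.2 ⟨D.Q_norm hq, fun w hw => (D.Wcent w hw q hq).symm⟩, D.Q_cent2 hq⟩

/-- The pairing. -/
noncomputable def mu (g q : G) : Pl F := D.dl ⁅g, q⁆

theorem Om_comm {g q : G} (hg : g ∈ D.Om) (hq : q ∈ D.Q) : ⁅g, q⁆ ∈ D.W :=
  (mem_inf.1 hg).2.2.2 q hq

theorem Om_W {g w : G} (hg : g ∈ D.Om) (hw : w ∈ D.W) : g * w = w * g :=
  ((mem_inf.1 (mem_inf.1 hg).1).2 w hw).symm

theorem mu_mul_left {g h q : G} (hg : g ∈ D.Om) (hh : h ∈ D.Om) (hq : q ∈ D.Q) :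
    D.mu (g * h) q = D.mu g q + D.mu h q := by
  have e : ⁅g * h, q⁆ = ⁅h, q⁆ * ⁅g, q⁆ := by
    have : g * ⁅h, q⁆ * g⁻¹ = ⁅h, q⁆ := by
      rw [D.Om_W hg (D.Om_comm hh hq), mul_inv_cancel_right]
    calc ⁅g * h, q⁆ = g * ⁅h, q⁆ * g⁻¹ * ⁅g, q⁆ := by simp only [commutatorElement_def]; group
      _ = _ := by rw [this]
  rw [mu, e, D.dl_mul (D.Om_comm hh hq) (D.Om_comm hg hq), add_comm]; rfl

theorem mu_mul_right {g q q' : G} (hg : g ∈ D.Om) (hq : q ∈ D.Q) (hq' : q' ∈ D.Q) :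
    D.mu g (q * q') = D.mu g q + D.mu g q' := by
  have e : ⁅g, q * q'⁆ = ⁅g, q⁆ * ⁅g, q'⁆ := by
    have : q * ⁅g, q'⁆ * q⁻¹ = ⁅g, q'⁆ := by
      rw [D.Wcent _ (D.Om_comm hg hq') q hq, mul_inv_cancel_right]
    calc ⁅g, q * q'⁆ = ⁅g, q⁆ * (q * ⁅g, q'⁆ * q⁻¹) := by simp only [commutatorElement_def]; group
      _ = _ := by rw [this]
  rw [mu, e, D.dl_mul (D.Om_comm hg hq) (D.Om_comm hg hq')]; rfl

theorem mu_one_left (q : G) : D.mu 1 q = 0 := by
  rw [mu, commutatorElement_one_left]; exact D.dl_Z (one_mem _)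

theorem mu_one_right (g : G) : D.mu g 1 = 0 := by
  rw [mu, commutatorElement_one_right]; exact D.dl_Z (one_mem _)

theorem mu_W {g w : G} (hg : g ∈ D.Om) (hw : w ∈ D.W) : D.mu g w = 0 := by
  rw [mu, commutatorElement_eq_one_iff_mul_comm.2 (D.Om_W hg hw)]; exact D.dl_Z (one_mem _)

theorem mu_Q {x q : G} (hx : x ∈ D.Q) (hq : q ∈ D.Q) : D.mu x q = 0 :=
  D.dl_Z (D.comm.le (commutator_mem_commutator hx hq))

theorem mu_eq_zero {g q : G} (hg : g ∈ D.Om) (hq : q ∈ D.Q) : D.mu g q = 0 ↔ ⁅g, q⁆ ∈ D.Z :=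
  D.dl_eq_zero (D.Om_comm hg hq)

/-- The pairing as a homomorphism. -/
noncomputable def muHom : ↥D.Om →* Multiplicative (↥D.Q → Pl F) where
  toFun g := Multiplicative.ofAdd fun q => D.mu g q
  map_one' := by
    apply Multiplicative.toAdd.injective
    funext q
    exact D.mu_one_left q
  map_mul' g h := by
    apply Multiplicative.toAdd.injective
    funext q
    exact D.mu_mul_left g.2 h.2 q.2

theorem mu_commutator {K : Subgroup G} (hK : K ≤ D.Om) {d q : G} (hd : d ∈ ⁅K, K⁆) (hq : q ∈ D.Q) :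
    D.mu d q = 0 := by
  have hle : ⁅K, K⁆ ≤ D.muHom.ker.map D.Om.subtype := by
    refine commutator_le.2 fun a ha b hb => ⟨⁅(⟨a, hK ha⟩ : ↥D.Om), (⟨b, hK hb⟩ : ↥D.Om)⁆, ?_, rfl⟩
    show D.muHom _ = 1
    rw [map_commutatorElement, commutatorElement_eq_one_iff_mul_comm]
    exact mul_comm _ _
  obtain ⟨x, hx, rfl⟩ := hle hd
  exact congrFun (congrArg Multiplicative.toAdd (MonoidHom.mem_ker.1 hx)) ⟨q, hq⟩

theorem mu_equivariant {g e q : G} (hg : g ∈ D.Om) (he : e ∈ D.E) (hρ : g⁻¹ * (e⁻¹ * g * e) ∈ D.Q)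
    (hq : q ∈ D.Q) : D.mu g (e * q * e⁻¹) = D.c1.act e (D.mu g q) := by
  have h2 : ⁅g, e * q * e⁻¹⁆ = e * ⁅g * (g⁻¹ * (e⁻¹ * g * e)), q⁆ * e⁻¹ := by
    simp only [commutatorElement_def]; group
  have hm := mul_mem hg (D.Q_le_Om hρ)
  have h3 : D.mu (g * (g⁻¹ * (e⁻¹ * g * e))) q = D.mu g q := by
    rw [D.mu_mul_left hg (D.Q_le_Om hρ) hq, D.mu_Q hρ hq, add_zero]
  rw [← h3, mu, h2, D.dl_conj (D.E_norm he) (D.Om_comm hm hq)]; rfl

/-! ### Irreducibility -/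

theorem irred1 {X : Subgroup G} (hX : X ≤ D.V) (hE : D.E ≤ normalizer (X : Set G)) :
    X = ⊥ ∨ X = D.V := by
  let M : AddSubgroup (Pl F) :=
    { carrier := {v | ∃ (u : G) (hu : u ∈ X), D.c1.val u (hX hu) = v}
      zero_mem' := ⟨1, one_mem _, D.c1.val_one⟩
      add_mem' := by
        rintro _ _ ⟨a, ha, rfl⟩ ⟨b, hb, rfl⟩
        exact ⟨a * b, mul_mem ha hb, D.c1.val_mul (hX ha) (hX hb)⟩
      neg_mem' := by
        rintro _ ⟨a, ha, rfl⟩
        exact ⟨a⁻¹, inv_mem ha, D.c1.val_inv (hX ha)⟩ }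
  rcases BaumannBlockModules.sl2_irreducible M (by
    rintro r hr _ ⟨u, hu, rfl⟩
    obtain ⟨e, he, her⟩ := D.r1' r hr
    refine ⟨e * u * e⁻¹, conj_mem' (hE he) hu, ?_⟩
    rw [← mv_apply, ← her, D.c1.act_val (D.nm1 (D.E_norm he)) (hX hu)]) with h | h
  · refine Or.inl (eq_bot_iff.2 fun x hx => ?_)
    have hm : D.c1.val x (hX hx) ∈ M := ⟨x, hx, rfl⟩
    rw [h, AddSubgroup.mem_bot, D.c1.val_eq_zero] at hm
    exact hm
  · refine Or.inr (le_antisymm hX fun x hx => ?_)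
    have hm : D.c1.val x hx ∈ M := by rw [h]; trivial
    obtain ⟨u, hu, he⟩ := hm
    have hxu := mul_mem hx (inv_mem (hX hu))
    have h0 := (D.c1.val_eq_zero hxu).1 (by
      rw [D.c1.val_mul hx (inv_mem (hX hu)), D.c1.val_inv (hX hu), he, add_neg_cancel])
    rwa [mul_inv_eq_one.1 (mem_bot.1 h0)]

theorem irred2 {X : Subgroup G} (hW : D.W ≤ X) (hX : X ≤ D.Q) (hE : D.E ≤ normalizer (X : Set G)) :
    X = D.W ∨ X = D.Q := by
  let M : AddSubgroup (Pl F) :=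
    { carrier := {v | ∃ (u : G) (hu : u ∈ X), D.c2.val u (hX hu) = v}
      zero_mem' := ⟨1, one_mem _, D.c2.val_one⟩
      add_mem' := by
        rintro _ _ ⟨a, ha, rfl⟩ ⟨b, hb, rfl⟩
        exact ⟨a * b, mul_mem ha hb, D.c2.val_mul (hX ha) (hX hb)⟩
      neg_mem' := by
        rintro _ ⟨a, ha, rfl⟩
        exact ⟨a⁻¹, inv_mem ha, D.c2.val_inv (hX ha)⟩ }
  rcases BaumannBlockModules.sl2_irreducible M (by
    rintro r hr _ ⟨u, hu, rfl⟩
    obtain ⟨e, he, her⟩ := D.r2' r hr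
    refine ⟨e * u * e⁻¹, conj_mem' (hE he) hu, ?_⟩
    rw [← mv_apply, ← her, D.c2.act_val (D.nm2 (D.E_norm he)) (hX hu)]) with h | h
  · refine Or.inl (le_antisymm (fun x hx => ?_) hW)
    have hm : D.c2.val x (hX hx) ∈ M := ⟨x, hx, rfl⟩
    rw [h, AddSubgroup.mem_bot, D.c2.val_eq_zero] at hm
    exact hm
  · refine Or.inr (le_antisymm hX fun x hx => ?_)
    have hm : D.c2.val x hx ∈ M := by rw [h]; trivial
    obtain ⟨u, hu, he⟩ := hm
    have hxu := mul_mem hx (inv_mem (hX hu))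
    have h0 := (D.c2.val_eq_zero hxu).1 (by
      rw [D.c2.val_mul hx (inv_mem (hX hu)), D.c2.val_inv (hX hu), he, add_neg_cancel])
    simpa using mul_mem (hW h0) hu

/-- The elements of `Q` fixed modulo `W` by `a`. -/
def fix2 {a : G} (ha : a ∈ D.c2.Nm) : Subgroup G where
  carrier := {x | x ∈ D.Q ∧ ⁅a, x⁆ ∈ D.W}
  one_mem' := ⟨one_mem _, by simp [one_mem]⟩
  mul_mem' := fun {x y} hx hy => ⟨mul_mem hx.1 hy.1, by
    have e : ⁅a, x * y⁆ = ⁅a, x⁆ * (x * ⁅a, y⁆ * x⁻¹) := by simp only [commutatorElement_def]; group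
    rw [e]
    exact mul_mem hx.2 (conj_mem' (D.NW (D.Q_norm hx.1)) hy.2)⟩
  inv_mem' := fun {x} hx => ⟨inv_mem hx.1, by
    have e : ⁅a, x⁻¹⁆ = x⁻¹ * ⁅a, x⁆⁻¹ * x⁻¹⁻¹ := by simp only [commutatorElement_def]; group
    rw [e]
    exact conj_mem' (D.NW (D.Q_norm (inv_mem hx.1))) (inv_mem hx.2)⟩

/-- `Q / Z` has no invariant complement to `V`, invariance under an element acting like one of
`A` being enough. -/
theorem no_complement' [Finite G] {K : Subgroup G} {a b : G} (ha : a ∈ D.A)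
    (haV : a ∉ centralizer (D.V : Set G)) (hb : b ∈ D.B) (hb1 : D.c1.act b = D.c1.act a)
    (hb2 : D.c2.act b = D.c2.act a) (hbK : b ∈ normalizer (K : Set G))
    (hE : D.E ≤ normalizer (K : Set G)) (hZ : D.Z ≤ K) (hV : K ⊓ D.V = ⊥) : K ⊓ D.Q ≤ D.Z := by
  have hKW : K ⊓ D.W ≤ D.Z := by
    intro w hw
    obtain ⟨hwK, hwW⟩ := mem_inf.1 hw
    obtain ⟨v, hv, ζ, hζ, rfl⟩ := D.Wsup w hwW
    have : v ∈ K ⊓ D.V := ⟨by simpa using mul_mem hwK (inv_mem (hZ hζ)), hv⟩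
    rw [hV, mem_bot] at this
    rw [this, one_mul]; exact hζ
  rcases D.irred2 (X := (K ⊓ D.Q) ⊔ D.W) le_sup_right (sup_le inf_le_right D.WQ)
    (LocalBasics.le_normalizer_sup (LocalBasics.le_normalizer_inf hE (Subgroup.le_normalizer.trans D.NQ))
      (Subgroup.le_normalizer.trans D.NW)) with h | h
  · exact fun x hx => hKW ⟨(mem_inf.1 hx).1, h.le (mem_sup_left hx)⟩
  exfalso
  have hbE := D.BE hb
  have hb2' := D.nm2 hbE
  have hzb : zpowers b ≤ normalizer (D.E : Set G) := zpowers_le.2 hbE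
  have hpow : ∀ g ∈ zpowers b, ∃ a' ∈ D.A, D.c1.act g = D.c1.act a' ∧ D.c2.act g = D.c2.act a' := by
    intro g hg
    obtain ⟨n, rfl⟩ := Submonoid.mem_powers_iff g b |>.1 (mem_powers_iff_mem_zpowers.2 hg)
    exact ⟨a ^ n, pow_mem ha n,
      by rw [D.c1.act_pow (D.nm1 hbE), D.c1.act_pow (D.nm1 (D.A_norm ha)), hb1],
      by rw [D.c2.act_pow hb2', D.c2.act_pow (D.nm2 (D.A_norm ha)), hb2]⟩
  obtain ⟨wl, -, -, hline⟩ := D.A_line
  have hdec : ∀ q ∈ D.Q, ∃ k ∈ K ⊓ D.Q, ∃ v ∈ D.V, q = k * v := by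
    intro q hq
    have h' := h.ge hq
    rw [← SetLike.mem_coe, Subgroup.coe_mul_of_left_le_normalizer_right _ _
      (inf_le_right.trans (fun x hx => D.NW (D.Q_norm hx)))] at h'
    obtain ⟨k, hk, w, hw, rfl⟩ := h'
    obtain ⟨v, hv, ζ, hζ, rfl⟩ := D.Wsup w hw
    refine ⟨k * ζ, mul_mem hk ⟨hZ hζ, D.WQ (D.ZW hζ)⟩, v, hv, ?_⟩
    rw [D.W_comm (D.VW hv) (D.ZW hζ)]; group
  have hQn : ∀ q ∈ D.Q, ∀ w ∈ D.W, q * w * q⁻¹ = w := fun q hq w hw => by
    rw [D.Wcent w hw q hq, mul_inv_cancel_right]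
  set Lv : Subgroup G := D.V ⊓ centralizer ({b} : Set G) with hLv
  set Lk : Subgroup G := K ⊓ D.fix2 hb2' with hLk
  apply D.hquad b hb (fun hc => haV ((D.mem_cent1_iff (D.nm1 (D.A_norm ha))).1
    ((D.c1.act_eq_one_iff (D.nm1 (D.A_norm ha))).1 (by
      rw [← hb1]; exact D.act1_eq_one (D.nm1 hbE) (fun v hv => hc v (D.VW hv))))))
  refine (commutator_mono (show ⁅D.Q, zpowers b⁆ ≤ Lk ⊔ Lv from ?_) le_rfl).trans ?_
  · refine commutator_le.2 fun q hq g hg => ?_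
    obtain ⟨k, hk, v, hv, rfl⟩ := hdec q hq
    obtain ⟨hkK, hkQ⟩ := mem_inf.1 hk
    have hgE := hzb hg
    obtain ⟨a', ha', hg1, hg2⟩ := hpow g hg
    have hgK : g ∈ normalizer (K : Set G) := zpowers_le.2 hbK hg
    have hvg : ⁅v, g⁆ ∈ D.V := by
      rw [← commutatorElement_inv]; exact inv_mem (commutatorElement_mem (D.NV hgE) hv)
    have e : ⁅k * v, g⁆ = ⁅v, g⁆ * ⁅k, g⁆ := by
      calc ⁅k * v, g⁆ = k * ⁅v, g⁆ * k⁻¹ * ⁅k, g⁆ := by simp only [commutatorElement_def]; group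
        _ = _ := by rw [hQn k hkQ _ (D.VW hvg)]
    rw [e]
    refine mul_mem (mem_sup_right ⟨hvg, mem_centralizer_singleton_iff.2 ?_⟩) (mem_sup_left ?_)
    · -- `[v, g]` is fixed by `b`
      have hgv := commutatorElement_mem (D.NV hgE) hv
      obtain ⟨c, hc⟩ := (hline a' ha').2.2 (D.c1.val v hv)
      have hfix : D.c1.act b (D.c1.val ⁅g, v⁆ hgv) = D.c1.val ⁅g, v⁆ hgv := by
        rw [D.c1.val_commutator (D.nm1 hgE) hv hgv, hg1, hc, hb1, (hline a ha).1, (hline a ha).2.1]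
      rw [D.c1.act_val (D.nm1 hbE) hgv] at hfix
      have hm := mul_mem (D.c1.conj_mem (D.nm1 hbE) hgv) (inv_mem hgv)
      have h0 := (D.c1.val_eq_zero hm).1 (by
        rw [D.c1.val_mul (D.c1.conj_mem (D.nm1 hbE) hgv) (inv_mem hgv), D.c1.val_inv hgv, hfix,
          add_neg_cancel])
      have h1 : Commute b ⁅g, v⁆ := mul_inv_eq_iff_eq_mul.1 (mul_inv_eq_one.1 (mem_bot.1 h0))
      rw [← commutatorElement_inv]
      exact h1.inv_right.eq.symm
    · have hkg : ⁅k, g⁆ ∈ K ⊓ D.Q := by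
        rw [← commutatorElement_inv]
        exact inv_mem (commutatorElement_mem
          (LocalBasics.le_normalizer_inf (zpowers_le.2 hgK) (zpowers_le.2 (D.NQ hgE))
            (mem_zpowers g)) hk)
      refine mem_inf.2 ⟨(mem_inf.1 hkg).1, (mem_inf.1 hkg).2, ?_⟩
      have hgk : ⁅g, k⁆ ∈ D.Q := commutatorElement_mem (D.NQ hgE) hkQ
      have hval : D.c2.act b (D.c2.val ⁅g, k⁆ hgk) = D.c2.val ⁅g, k⁆ hgk := by
        rw [D.c2.val_commutator (D.nm2 hgE) hkQ hgk, hb2, hg2]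
        set x := D.c2.val k hkQ
        by_cases hid : D.c2.act a = 1
        · rw [hid]; rfl
        obtain ⟨w2, hw2, hl⟩ := exists_line (D.A_linear2 ha) (D.A_quad2 ha) hid
        -- `a'` commutes with `a`
        have hcomm : D.c2.act a * D.c2.act a' = D.c2.act a' * D.c2.act a := by
          rw [← D.c2.act_mul (D.nm2 (D.A_norm ha)) (D.nm2 (D.A_norm ha')),
            ← D.c2.act_mul (D.nm2 (D.A_norm ha')) (D.nm2 (D.A_norm ha)),
            ((Offenders.ea_iff D.A).1 D.Amax.1).1 a ha a' ha']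
        have hfw : D.c2.act a w2 = w2 := (hl w2).2 ⟨1, (one_smul F w2).symm⟩
        have h3 : D.c2.act a (D.c2.act a' w2) = D.c2.act a' w2 := by
          have := DFunLike.congr_fun hcomm w2
          change D.c2.act a (D.c2.act a' w2) = D.c2.act a' (D.c2.act a w2) at this
          rwa [hfw] at this
        obtain ⟨c, hc⟩ := (hl _).1 h3
        have hc1 : c = 1 := by
          have h4 := D.A_quad2 ha' w2
          rw [hc, map_sub, D.A_linear2 ha', hc, smul_smul, ← sub_smul, ← one_smul F w2,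
            smul_smul, mul_one, smul_smul, mul_one, ← sub_smul] at h4
          have h5 := smul_left_injective F hw2 h4
          have h6 : (c - 1) * (c - 1) = 0 := by linear_combination h5
          exact sub_eq_zero.1 (mul_self_eq_zero.1 h6)
        rw [hc1, one_smul] at hc
        by_cases hid' : D.c2.act a' = 1
        · rw [hid']; show D.c2.act a (x - x) = x - x; simp
        obtain ⟨w3, hw3, hl'⟩ := exists_line (D.A_linear2 ha') (D.A_quad2 ha') hid'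
        obtain ⟨d, hd⟩ := (hl' w2).1 hc
        obtain ⟨d', hd'⟩ := (hl' _).1 (D.A_quad2 ha' x)
        have hd0 : d ≠ 0 := fun h0 => hw2 (by rw [hd, h0, zero_smul])
        rw [hd', show w3 = d⁻¹ • w2 by rw [hd, smul_smul, inv_mul_cancel₀ hd0, one_smul],
          D.A_linear2 ha, D.A_linear2 ha, hfw]
      have hval' : D.c2.act b (D.c2.val ⁅k, g⁆ (mem_inf.1 hkg).2) = D.c2.val ⁅k, g⁆ (mem_inf.1 hkg).2 := by
        rw [D.c2.val_congr (commutatorElement_inv g k).symm (mem_inf.1 hkg).2 (inv_mem hgk),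
          D.c2.val_inv hgk, map_neg, hval]
      have hm := commutatorElement_mem (D.NQ hbE) (mem_inf.1 hkg).2
      refine (D.c2.val_eq_zero hm).1 ?_
      rw [D.c2.val_commutator hb2' (mem_inf.1 hkg).2 hm, hval', sub_self]
  · refine commutator_le.2 fun x hx g hg => ?_
    rw [← SetLike.mem_coe, Subgroup.coe_mul_of_left_le_normalizer_right Lk Lv
      (fun y hy => LocalBasics.le_normalizer_of_conj (X := D.Q) (fun q hq v hv => by
        rw [hQn q hq v (D.VW (mem_inf.1 hv).1)]; exact hv) (mem_inf.1 hy).2.1)] at hx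
    obtain ⟨k, hk, v, hv, rfl⟩ := hx
    obtain ⟨hkK, hkQ, hka⟩ := mem_inf.1 hk
    have hva : Commute v b := mem_centralizer_singleton_iff.1 (mem_inf.1 hv).2
    have hvg : Commute v g := by
      obtain ⟨i, rfl⟩ := mem_zpowers_iff.1 hg
      exact hva.zpow_right i
    have e : ⁅k * v, g⁆ = ⁅k, g⁆ := by
      calc ⁅k * v, g⁆ = k * ⁅v, g⁆ * k⁻¹ * ⁅k, g⁆ := by simp only [commutatorElement_def]; group
        _ = _ := by rw [commutatorElement_eq_one_iff_mul_comm.2 hvg.eq]; group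
    rw [e]
    have hka' : ⁅k, b⁆ ∈ D.Z := by
      refine hKW (mem_inf.2 ⟨?_, ?_⟩)
      · rw [← commutatorElement_inv]; exact inv_mem (commutatorElement_mem hbK hkK)
      · rw [← commutatorElement_inv]; exact inv_mem hka
    let S : Subgroup G :=
      { carrier := {g | g ∈ normalizer (D.Z : Set G) ∧ ⁅k, g⁆ ∈ D.Z}
        one_mem' := ⟨one_mem _, by rw [commutatorElement_one_right]; exact one_mem _⟩
        mul_mem' := fun {x y} hx hy => ⟨mul_mem hx.1 hy.1, by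
          have e2 : ⁅k, x * y⁆ = ⁅k, x⁆ * (x * ⁅k, y⁆ * x⁻¹) := by simp only [commutatorElement_def]; group
          rw [e2]; exact mul_mem hx.2 (conj_mem' hx.1 hy.2)⟩
        inv_mem' := fun {x} hx => ⟨inv_mem hx.1, by
          have e2 : ⁅k, x⁻¹⁆ = x⁻¹ * ⁅k, x⁆⁻¹ * x⁻¹⁻¹ := by simp only [commutatorElement_def]; group
          rw [e2]; exact conj_mem' (inv_mem hx.1) (inv_mem hx.2)⟩ }
    have hS : zpowers b ≤ S := zpowers_le.2 ⟨D.NZ hbE, hka'⟩
    exact (hS hg).2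

/-- `Q / Z` has no invariant complement to `V`. -/
theorem no_complement [Finite G] {K : Subgroup G} (hA : D.A ≤ normalizer (K : Set G))
    (hE : D.E ≤ normalizer (K : Set G)) (hZ : D.Z ≤ K) (hV : K ⊓ D.V = ⊥) : K ⊓ D.Q ≤ D.Z := by
  obtain ⟨a, ha, haV⟩ := SetLike.not_le_iff_exists.1 D.AV
  exact D.no_complement' ha haV (D.AB ha) rfl rfl (hA ha) hE hZ hV

end Data

end Cfsg.Agent.Block39
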