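import Mathlib
import Cfsg.Agent.Lib.Block39Mu

/-!
The two criteria for `[C', E] ≤ O₃(H)`.
-/

set_option autoImplicit false

namespace Cfsg.Agent.Block39

open Subgroup Cfsg Block39Plane Block39Chart BaumannSubnormal58
open scoped commutatorElement

variable {G : Type*} [Group G] {F : Type} [Field F]

/-- The input for the criteria. -/
structure SubCtx {D : Data G F} (X : Ctx D) where
  C : Subgroup G
  S : Subgroup G
  CH : C ≤ X.CV
  Cn : X.H ≤ normalizer (C : Set G)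
  RC : X.R ≤ C
  SC : S ≤ C
  SE : S ≤ normalizer (D.E : Set G)
  Sp : IsPGroup 3 ↥S
  Sidx : ¬ 3 ∣ S.relIndex C

theorem plane_cube (h3 : (3 : F) = 0) (m : Multiplicative (Pl F)) : m ^ 3 = 1 := by
  apply Multiplicative.toAdd.injective
  rw [toAdd_pow, toAdd_one]
  ext i
  simp [nsmul_eq_mul, h3]

theorem fun_cube {α : Type*} (h3 : (3 : F) = 0) (m : Multiplicative (α → Pl F)) : m ^ 3 = 1 := by
  apply Multiplicative.toAdd.injective
  rw [toAdd_pow, toAdd_one]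
  funext x
  ext i
  simp [nsmul_eq_mul, h3]

theorem norm_commutator {A B L M : Subgroup G} (hA : L ≤ normalizer (A : Set G))
    (hB : M ≤ normalizer (B : Set G)) : L ⊓ M ≤ normalizer ((⁅A, B⁆ : Subgroup G) : Set G) :=
  LocalBasics.le_normalizer_of_conj fun g hg x hx => by
    have hle : ⁅A, B⁆ ≤ (⁅A, B⁆).comap (MulAut.conj g).toMonoidHom := by
      refine commutator_le.2 fun a ha b hb => ?_
      rw [mem_comap, map_commutatorElement]
      exact commutator_mem_commutator (conj_mem' (hA (mem_inf.1 hg).1) ha)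
        (conj_mem' (hB (mem_inf.1 hg).2) hb)
    exact hle hx

namespace Ctx

variable {D : Data G F} (X : Ctx D)

theorem R_le_Om [Finite G] : X.R ≤ D.Om := fun r hr =>
  mem_inf.2 ⟨mem_inf.2 ⟨X.R_norm_E hr, X.R_centW hr⟩, X.R_cent2 hr⟩

theorem pgroup_le_Om [Finite G] {S : Subgroup G} (hS : IsPGroup 3 ↥S)
    (hSE : S ≤ normalizer (D.E : Set G)) (hSV : S ≤ centralizer (D.V : Set G)) : S ≤ D.Om := by
  intro s hs
  have h2 := D.pelt2 (hSE hs) (fun e he => D.commutator_mem_Q (hSE hs) (hSV hs) he)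
    (exists_pow_of_isPGroup hS hs)
  exact mem_inf.2 ⟨mem_inf.2 ⟨hSE hs, D.centralizes_W (hSV hs) h2⟩, h2⟩

/-- Decomposition of an element of `R` by `z`. -/
theorem exists_qu [Finite G] {r : G} (hr : r ∈ X.R) :
    ∃ q ∈ D.Q, ∃ u ∈ X.R, D.z * u = u * D.z ∧ r = q * u := by
  set t := ⁅r, D.z⁆ with ht
  have htQ : t ∈ D.Q := X.comm_R hr D.z_mem
  obtain ⟨k, hk⟩ := exists_pow_of_isPGroup D.Qp htQ
  have hodd : Odd (3 ^ k) := Odd.pow (by decide)
  obtain ⟨j, hj⟩ := hodd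
  set q := t ^ (j + 1) with hq
  have hq2 : q * q = t := by
    rw [hq, ← pow_add, show (j + 1) + (j + 1) = 3 ^ k + 1 by omega, pow_succ, hk, one_mul]
  have htz : D.z * t * D.z⁻¹ = t⁻¹ := by
    have h : D.z⁻¹ = D.z := D.z_inv
    calc D.z * t * D.z⁻¹ = D.z * r * D.z * r⁻¹ * (D.z⁻¹ * D.z⁻¹) := by
          rw [ht, commutatorElement_def]; group
      _ = D.z * r * D.z⁻¹ * r⁻¹ := by rw [h, D.z_sq, mul_one]
      _ = t⁻¹ := by rw [ht, commutatorElement_def]; group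
  have hqz : D.z * q * D.z⁻¹ = q⁻¹ := by rw [hq, ← conj_pow, htz, inv_pow]
  have hzr : D.z * r * D.z⁻¹ = t⁻¹ * r := by
    have e : t⁻¹ * r = D.z * r * D.z⁻¹ := by rw [ht, commutatorElement_def]; group
    exact e.symm
  refine ⟨q, pow_mem htQ _, q⁻¹ * r, mul_mem (inv_mem (X.Q_le (pow_mem htQ _))) hr, ?_, by group⟩
  rw [← mul_inv_eq_iff_eq_mul]
  calc D.z * (q⁻¹ * r) * D.z⁻¹ = (D.z * q * D.z⁻¹)⁻¹ * (D.z * r * D.z⁻¹) := by group
    _ = q * (q * q)⁻¹ * r := by rw [hqz, hzr, inv_inv, hq2]; group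
    _ = q⁻¹ * r := by group

theorem Q_fixed_mem_W {q : G} (hq : q ∈ D.Q) (hz : D.z * q = q * D.z) : q ∈ D.W := by
  have h := D.c2.act_val (D.nm2 (D.E_norm D.z_mem)) hq
  have hzz : D.z * q * D.z⁻¹ = q := by rw [hz, mul_inv_cancel_right]
  rw [D.z_act2, D.c2.val_congr hzz _ hq] at h
  refine (D.c2.val_eq_zero hq).1 ?_
  ext i
  have h1 := congrFun h i
  simp at h1
  rcases Classical.em (D.c2.val q hq i = 0) with h0 | h0
  · simpa using h0
  · exfalso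
    have h2 : (-1 : F) * D.c2.val q hq i = 1 * D.c2.val q hq i := by rw [one_mul, neg_one_mul]; exact h1
    exact neg_one_ne_one D.h3 (mul_right_cancel₀ h0 h2)

theorem W_norm_R [Finite G] {x : G} (hx : x ∈ X.R) {w : G} (hw : w ∈ D.W) : x * w * x⁻¹ = w := by
  rw [← (X.R_centW hx) w hw, mul_inv_cancel_right]

theorem R_le_normR : X.R ≤ normalizer (X.R : Set G) := Subgroup.le_normalizer

theorem norm_R' {g : G} (hg : g ∈ normalizer (X.R : Set G)) :
    g ∈ normalizer ((⁅X.R, X.R⁆ : Subgroup G) : Set G) :=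
  norm_commutator le_rfl le_rfl (mem_inf.2 ⟨hg, hg⟩)

theorem R'_le : ⁅X.R, X.R⁆ ≤ X.R := commutator_le.2 fun a ha b hb => by
  rw [commutatorElement_def]; exact mul_mem (mul_mem (mul_mem ha hb) (inv_mem ha)) (inv_mem hb)

theorem Z_le_R' [Finite G] : D.Z ≤ ⁅X.R, X.R⁆ :=
  D.comm.ge.trans (commutator_mono X.Q_le X.Q_le)

/-- The elements of `R` fixed by `z`. -/
def U : Subgroup G := X.R ⊓ centralizer ({D.z} : Set G)

theorem R'_le_WU [Finite G] : ⁅X.R, X.R⁆ ≤ D.W ⊔ X.U := by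
  refine commutator_le.2 fun a ha b hb => ?_
  obtain ⟨q, hq, u, hu, huz, rfl⟩ := X.exists_qu ha
  obtain ⟨q', hq', u', hu', hu'z, rfl⟩ := X.exists_qu hb
  have hqR := X.Q_le hq
  have hq'R := X.Q_le hq'
  have hqq : ⁅q, q'⁆ ∈ D.W := D.ZW (D.comm.le (commutator_mem_commutator hq hq'))
  have hRW : ∀ {x y : G}, x ∈ X.R → y ∈ D.Q → ⁅x, y⁆ ∈ D.W := fun hx hy => (X.R_cent2 hx).2.2 _ hy
  have hQR : ∀ {x y : G}, x ∈ D.Q → y ∈ X.R → ⁅x, y⁆ ∈ D.W := fun hx hy => by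
    rw [← commutatorElement_inv]; exact inv_mem (hRW hy hx)
  have e : ⁅q * u, q' * u'⁆ = (q * ⁅u, q'⁆ * q⁻¹) * ((q * q') * ⁅u, u'⁆ * (q * q')⁻¹) *
      ⁅q, q'⁆ * (q' * ⁅q, u'⁆ * q'⁻¹) := by simp only [commutatorElement_def]; group
  have hu12 : ⁅u, u'⁆ ∈ X.U := by
    refine mem_inf.2 ⟨X.R'_le (commutator_mem_commutator hu hu'), mem_centralizer_singleton_iff.2 ?_⟩
    rw [commutatorElement_def]
    have c1 : Commute D.z u := huz
    have c2 : Commute D.z u' := hu'z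
    exact (((c1.mul_right c2).mul_right c1.inv_right).mul_right c2.inv_right).eq.symm
  rw [e, X.W_norm_R hqR (hRW hu hq'), X.W_norm_R hq'R (hQR hq hu')]
  refine mul_mem (mul_mem (mul_mem (mem_sup_left (hRW hu hq')) ?_) (mem_sup_left hqq))
    (mem_sup_left (hQR hq hu'))
  rw [show q * q' * ⁅u, u'⁆ * (q * q')⁻¹ = ⁅q * q', ⁅u, u'⁆⁆ * ⁅u, u'⁆ by
    simp only [commutatorElement_def]; group]
  exact mul_mem (mem_sup_left (hQR (mul_mem hq hq') (mem_inf.1 hu12).1)) (mem_sup_right hu12)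

theorem exists_WU [Finite G] {r : G} (hr : r ∈ D.W ⊔ X.U) :
    ∃ w ∈ D.W, ∃ u ∈ X.R, D.z * u = u * D.z ∧ r = w * u := by
  have hUn : X.U ≤ normalizer (D.W : Set G) := inf_le_left.trans (X.R_norm_E.trans D.NW)
  rw [← SetLike.mem_coe, Subgroup.coe_mul_of_right_le_normalizer_left _ _ hUn] at hr
  obtain ⟨w, hw, u, hu, rfl⟩ := hr
  exact ⟨w, hw, u, (mem_inf.1 hu).1, (mem_centralizer_singleton_iff.1 (mem_inf.1 hu).2).symm, rfl⟩

theorem R'_Q_le_W [Finite G] {x : G} (hx : x ∈ ⁅X.R, X.R⁆) (hxQ : x ∈ D.Q) : x ∈ D.W := by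
  obtain ⟨w, hw, u, -, huz, rfl⟩ := X.exists_WU (X.R'_le_WU hx)
  have hu : u ∈ D.Q := by simpa using mul_mem (inv_mem (D.WQ hw)) hxQ
  exact mul_mem hw (Q_fixed_mem_W hu huz)

/-- Elements of `R` commute with `E` if they do so modulo `Z`. -/
theorem le_centralizer_E [Finite G] {K : Subgroup G}
    (hK : ∀ x ∈ K, ∀ e ∈ D.E, ⁅e, x⁆ ∈ D.Z) : K ≤ centralizer (D.E : Set G) := by
  intro x hx
  have hle : closure {g : G | g ∈ D.E ∧ (orderOf g).Coprime 3} ≤ centralizer ({x} : Set G) := by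
    refine (closure_le _).2 fun e he => mem_centralizer_singleton_iff.2 ?_
    have h := hK x hx e he.1
    exact commutatorElement_eq_one_iff_mul_comm.1
      (eq_one_of_stab he.2 (D.Zcent _ h e he.1) (exists_pow_of_isPGroup D.Qp (D.WQ (D.ZW h))))
  rw [D.res] at hle
  exact fun e he => mem_centralizer_singleton_iff.1 (hle he)

end Ctx

namespace SubCtx

variable {D : Data G F} {X : Ctx D} (Y : SubCtx X)

theorem S_centV : Y.S ≤ centralizer (D.V : Set G) := Y.SC.trans (Y.CH.trans X.CV_cent)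

theorem S_le_Om [Finite G] : Y.S ≤ D.Om := Ctx.pgroup_le_Om Y.Sp Y.SE Y.S_centV

theorem C_le_H : Y.C ≤ X.H := Y.CH.trans X.CV_le

theorem E_norm_C : D.E ≤ normalizer (Y.C : Set G) := X.EH.trans Y.Cn

/-- The complement criterion. -/
theorem crit2 [Finite G] (hR' : D.V ⊓ ⁅X.R, X.R⁆ = ⊥)
    (hS : ∀ s ∈ Y.S, ∀ q ∈ D.Q, ⁅s, q⁆ ∈ D.Z) : ⁅Y.C, D.E⁆ ≤ X.R := by
  classical
  have hWR' : ∀ w ∈ D.W, w ∈ ⁅X.R, X.R⁆ → w ∈ D.Z := by
    intro w hw hwR
    obtain ⟨v, hv, ζ, hζ, rfl⟩ := D.Wsup w hw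
    have : v ∈ D.V ⊓ ⁅X.R, X.R⁆ := ⟨hv, by simpa using mul_mem hwR (inv_mem (X.Z_le_R' hζ))⟩
    rw [hR', mem_bot] at this
    rw [this, one_mul]; exact hζ
  have hRQ : ∀ x ∈ X.R, ∀ q ∈ D.Q, ⁅x, q⁆ ∈ D.Z := fun x hx q hq =>
    hWR' _ ((X.R_cent2 hx).2.2 q hq) (commutator_mem_commutator hx (X.Q_le hq))
  -- a complement of `V` in `Q` above `Z`
  have hne : {K : Subgroup G | D.Z ≤ K ∧ K ≤ D.Q ∧ K ⊓ D.V = ⊥}.Nonempty :=
    ⟨D.Z, le_rfl, D.ZW.trans D.WQ, by rw [inf_comm]; exact D.VZ⟩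
  obtain ⟨K, ⟨hZK, hKQ, hKV⟩, hmax⟩ := (Set.toFinite {K : Subgroup G | D.Z ≤ K ∧ K ≤ D.Q ∧ K ⊓ D.V = ⊥}).exists_maximal hne
  have hKn : D.Q ≤ normalizer (K : Set G) := LocalBasics.le_normalizer_of_conj fun q hq k hk => by
    have h := mul_mem (hZK (D.comm.le (commutator_mem_commutator hq (hKQ hk)))) hk
    rwa [show ⁅q, k⁆ * k = q * k * q⁻¹ by rw [commutatorElement_def]; group] at h
  have hKVn : D.V ≤ normalizer (K : Set G) := D.VW.trans (D.WQ.trans hKn)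
  have hdec : ∀ q ∈ D.Q, ∃ k ∈ K, ∃ v ∈ D.V, q = k * v := by
    intro q hq
    suffices h : q ∈ K ⊔ D.V by
      rw [← SetLike.mem_coe, Subgroup.coe_mul_of_right_le_normalizer_left _ _ hKVn] at h
      obtain ⟨k, hk, v, hv, rfl⟩ := h
      exact ⟨k, hk, v, hv, rfl⟩
    by_contra hqn
    have hqKQ : K ⊔ zpowers q ≤ D.Q := sup_le hKQ (zpowers_le.2 hq)
    have hK' : (K ⊔ zpowers q) ⊓ D.V = ⊥ := by
      refine eq_bot_iff.2 fun v hv => ?_
      obtain ⟨hv1, hv2⟩ := mem_inf.1 hv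
      rw [← SetLike.mem_coe, Subgroup.coe_mul_of_right_le_normalizer_left _ _
        ((zpowers_le.2 hq).trans hKn)] at hv1
      obtain ⟨k, hk, g, hg, rfl⟩ := hv1
      obtain ⟨i, rfl⟩ := mem_zpowers_iff.1 hg
      have hqi : q ^ i ∈ K ⊔ D.V := by
        have := mul_mem (mem_sup_left (T := D.V) (inv_mem hk)) (mem_sup_right (S := K) hv2)
        simpa using this
      have hi : q ^ i = q ^ (i % 3) * (q ^ 3) ^ (i / 3) := by
        rw [← zpow_natCast q 3, ← zpow_mul, ← zpow_add]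
        congr 1
        push_cast
        omega
      have hq3 : (q ^ 3) ^ (i / 3) ∈ K := zpow_mem (hZK (D.pow3 q hq)) _
      rcases (by omega : i % 3 = 0 ∨ i % 3 = 1 ∨ i % 3 = 2) with h0 | h0 | h0
      · rw [h0, zpow_zero, one_mul] at hi
        have : k * q ^ i ∈ K ⊓ D.V := mem_inf.2 ⟨mul_mem hk (hi ▸ hq3), hv2⟩
        rwa [hKV] at this
      · rw [h0, zpow_one] at hi
        refine absurd ?_ hqn
        have := mul_mem hqi (mem_sup_left (T := D.V) (inv_mem hq3))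
        rw [hi] at this
        simpa using this
      · rw [h0, zpow_two] at hi
        refine absurd ?_ hqn
        have h2 := mul_mem hqi (mem_sup_left (T := D.V) (inv_mem hq3))
        rw [hi] at h2
        have h3 : q ^ 3 ∈ K ⊔ D.V := mem_sup_left (hZK (D.pow3 q hq))
        have := mul_mem (inv_mem h2) h3
        simpa [pow_succ, mul_assoc] using this
    have hle := hmax ⟨hZK.trans le_sup_left, hqKQ, hK'⟩ (le_sup_left : K ≤ K ⊔ zpowers q)
    exact hqn (mem_sup_left (hle (mem_sup_right (mem_zpowers q))))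
  choose kf hkf vf hvf hkv using hdec
  let π0 : (q : G) → q ∈ D.Q → Pl F := fun q hq => D.c1.val (vf q hq) (hvf q hq)
  have huniq : ∀ q (hq : q ∈ D.Q) k, k ∈ K → ∀ v (hv : v ∈ D.V), q = k * v →
      π0 q hq = D.c1.val v hv := by
    intro q hq k hk v hv he
    have h1 : (kf q hq)⁻¹ * k = vf q hq * v⁻¹ := by
      rw [eq_mul_inv_iff_mul_eq, mul_assoc, ← he, inv_mul_eq_iff_eq_mul]; exact hkv q hq
    have h2 : (kf q hq)⁻¹ * k ∈ K ⊓ D.V :=
      mem_inf.2 ⟨mul_mem (inv_mem (hkf q hq)) hk, h1 ▸ mul_mem (hvf q hq) (inv_mem hv)⟩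
    rw [hKV, mem_bot, h1, mul_inv_eq_one] at h2
    exact D.c1.val_congr h2 _ _
  have π0mul : ∀ a b (ha : a ∈ D.Q) (hb : b ∈ D.Q), π0 (a * b) (mul_mem ha hb) = π0 a ha + π0 b hb := by
    intro a b ha hb
    rw [← D.c1.val_mul (hvf a ha) (hvf b hb)]
    refine huniq _ _ (kf a ha * kf b hb) (mul_mem (hkf a ha) (hkf b hb)) _ _ ?_
    conv_lhs => rw [hkv a ha, hkv b hb]
    have hc : vf a ha * kf b hb = kf b hb * vf a ha :=
      (D.Wcent _ (D.VW (hvf a ha)) _ (hKQ (hkf b hb))).symm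
    calc kf a ha * vf a ha * (kf b hb * vf b hb) = kf a ha * (vf a ha * kf b hb) * vf b hb := by group
      _ = _ := by rw [hc]; group
  have π0Z : ∀ a (ha : a ∈ D.Q), a ∈ D.Z → π0 a ha = 0 := fun a ha haz => by
    rw [huniq a ha a (hZK haz) 1 (one_mem _) (mul_one a).symm, D.c1.val_one]
  have π0V : ∀ v (hv : v ∈ D.V), π0 v (D.WQ (D.VW hv)) = D.c1.val v hv := fun v hv =>
    huniq v _ 1 (one_mem _) v hv (one_mul v).symm
  have π0congr : ∀ a b (ha : a ∈ D.Q) (hb : b ∈ D.Q), a = b → π0 a ha = π0 b hb := by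
    intro a b ha hb h; subst h; rfl
  have π0conj : ∀ g q (hq : q ∈ D.Q) (hgq : g * q * g⁻¹ ∈ D.Q), ⁅g, q⁆ ∈ D.Z →
      π0 _ hgq = π0 q hq := by
    intro g q hq hgq h
    rw [π0congr _ (⁅g, q⁆ * q) hgq (mul_mem (D.WQ (D.ZW h)) hq) (by rw [commutatorElement_def]; group),
      π0mul _ _ (D.WQ (D.ZW h)) hq, π0Z _ _ h, zero_add]
  have hτ : ∀ r : ↥X.R, ⁅(r : G), D.z⁆ ∈ D.Q := fun r => X.comm_R r.2 D.z_mem
  let π : ↥X.R →* Multiplicative (Pl F) :=
    MonoidHom.mk' (fun r => Multiplicative.ofAdd ((2 : ℕ) • π0 _ (hτ r))) (fun a b => by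
      rw [← ofAdd_add, ← nsmul_add]
      congr 2
      have hb' : (a : G) * ⁅(b : G), D.z⁆ * (a : G)⁻¹ ∈ D.Q := conj_mem' (X.R_cent2 a.2).1 (hτ b)
      rw [π0congr _ ((a : G) * ⁅(b : G), D.z⁆ * (a : G)⁻¹ * ⁅(a : G), D.z⁆) _ (mul_mem hb' (hτ a))
        (by simp only [Subgroup.coe_mul, commutatorElement_def]; group),
        π0mul _ _ hb' (hτ a), π0conj _ _ (hτ b) hb' (hRQ _ a.2 _ (hτ b)), add_comm])
  have hinv : ∀ s ∈ Y.S, ∀ (x : ↥X.R) (h : s * x * s⁻¹ ∈ X.R), π ⟨_, h⟩ = π x := by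
    intro s hs x h
    show Multiplicative.ofAdd _ = Multiplicative.ofAdd _
    congr 2
    have hρ : D.z⁻¹ * (s⁻¹ * D.z * s) ∈ D.Q := by
      have := D.commutator_mem_Q (inv_mem (Y.SE hs)) (inv_mem (Y.S_centV hs)) D.z_mem
      have e : D.z⁻¹ * (s⁻¹ * D.z * s) = D.z⁻¹ * ⁅s⁻¹, D.z⁆ * D.z⁻¹⁻¹ := by
        rw [commutatorElement_def]; group
      rw [e]
      exact conj_mem' (D.NQ (inv_mem (D.E_norm D.z_mem))) this
    set ρ := D.z⁻¹ * (s⁻¹ * D.z * s) with hρdef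
    have h1 : ⁅(x : G), ρ⁆ ∈ D.Z := hRQ _ x.2 _ hρ
    have h2 : D.z * ⁅(x : G), ρ⁆ * D.z⁻¹ ∈ D.Z := conj_mem' (D.NZ (D.E_norm D.z_mem)) h1
    have hQ2 : ⁅(x : G), D.z⁆ * (D.z * ⁅(x : G), ρ⁆ * D.z⁻¹) ∈ D.Q :=
      mul_mem (hτ x) (D.WQ (D.ZW h2))
    have hQ1 := conj_mem' (D.NQ (Y.SE hs)) hQ2
    rw [π0congr _ _ _ hQ1 (by
      rw [hρdef]; simp only [commutatorElement_def]; group),
      π0conj s _ hQ2 hQ1 (hS s hs _ hQ2), π0mul _ _ (hτ x) (D.WQ (D.ZW h2)), π0Z _ _ h2, add_zero]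
  obtain ⟨π', hπ', hfix⟩ := exists_average (plane_cube D.h3) Y.Sidx (Y.C_le_H.trans X.H_norm_R) π hinv
  set K' := ⁅X.R, Y.C⁆ ⊔ ⁅X.R, X.R⁆ with hK'def
  have hK'R : K' ≤ X.R := sup_le
    (commutator_le.2 fun r hr c hc => by
      rw [← commutatorElement_inv]
      exact inv_mem (commutatorElement_mem (X.H_norm_R (Y.C_le_H hc)) hr)) X.R'_le
  have hK'ker : K' ≤ π'.ker.map X.R.subtype := by
    refine sup_le (commutator_le.2 fun r hr c hc => ?_) (commutator_le.2 fun a ha b hb => ?_)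
    · have hm : c * r⁻¹ * c⁻¹ ∈ X.R := conj_mem' (X.H_norm_R (Y.C_le_H hc)) (inv_mem hr)
      refine ⟨⟨r, hr⟩ * ⟨_, hm⟩, ?_, by simp [commutatorElement_def, mul_assoc]⟩
      show π' _ = 1
      rw [map_mul, hπ' c hc ⟨r⁻¹, inv_mem hr⟩ hm, ← map_mul, ← map_one π']
      congr 1
      exact Subtype.ext (mul_inv_cancel r)
    · refine ⟨⁅(⟨a, ha⟩ : ↥X.R), (⟨b, hb⟩ : ↥X.R)⁆, ?_, rfl⟩
      show π' _ = 1
      rw [map_commutatorElement, commutatorElement_eq_one_iff_mul_comm]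
      exact mul_comm _ _
  have hVR : D.V ≤ X.R := D.VW.trans (D.WQ.trans X.Q_le)
  have hK'V : K' ⊓ D.V = ⊥ := by
    refine eq_bot_iff.2 fun v hv => ?_
    obtain ⟨hv1, hv2⟩ := mem_inf.1 hv
    obtain ⟨⟨x, hx⟩, hx1, rfl⟩ := hK'ker hv1
    change x ∈ D.V at hv2
    have h := hfix ⟨x, hx⟩ fun c hc => ((Y.CH.trans X.CV_cent hc) x hv2).symm
    rw [MonoidHom.mem_ker.1 hx1] at h
    have e : π ⟨x, hx⟩ = Multiplicative.ofAdd (D.c1.val x hv2) := by
      show Multiplicative.ofAdd _ = _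
      congr 1
      have hxx : ⁅x, D.z⁆ = x * x := by
        have := D.z_inverts (inv_mem hv2)
        rw [inv_inv] at this
        calc ⁅x, D.z⁆ = x * (D.z * x⁻¹ * D.z⁻¹) := by rw [commutatorElement_def]; group
          _ = _ := by rw [this]
      have hv22 := mul_mem hv2 hv2
      rw [π0congr _ (x * x) _ (D.WQ (D.VW hv22)) hxx, π0V _ hv22, D.c1.val_mul hv2 hv2]
      ext i
      simp only [Pi.smul_apply, Pi.add_apply, nsmul_eq_mul, Nat.cast_ofNat]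
      linear_combination D.c1.val x hv2 i * D.h3
    rw [e, eq_comm, ofAdd_eq_one, D.c1.val_eq_zero] at h
    exact h
  have hn : ∀ {L : Subgroup G}, L ≤ X.H → L ≤ normalizer (K' : Set G) := by
    intro L hL g hg
    refine LocalBasics.le_normalizer_sup ?_ ?_ hg
    · exact (le_inf hL hL).trans (norm_commutator X.H_norm_R Y.Cn)
    · exact hL.trans (X.H_norm_R.trans fun _ h => X.norm_R' h)
  have hK'Q : K' ⊓ D.Q ≤ D.Z :=
    D.no_complement (hn (D.AB.trans X.BH)) (hn X.EH) (X.Z_le_R'.trans le_sup_right) hK'V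
  have hEK : K' ≤ centralizer (D.E : Set G) := Ctx.le_centralizer_E fun x hx e he =>
    hK'Q (mem_inf.2 ⟨commutatorElement_mem (hn X.EH he) hx, by
      rw [← commutatorElement_inv]; exact inv_mem (X.comm_R (hK'R hx) he)⟩)
  have hCK : Y.C ≤ normalizer (K' : Set G) := hn Y.C_le_H
  set L := Y.C ⊓ (centralizer (K' : Set G) ⊓ cent X.R K') with hL
  refine le_trans ?_ (X.le_R_of Y.C_le_H Y.Cn (inf_le_left : L ≤ Y.C)
    (LocalBasics.le_normalizer_inf Subgroup.le_normalizer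
      (LocalBasics.le_normalizer_inf (LocalBasics.le_normalizer_centralizer hCK)
        (le_normalizer_cent (Y.C_le_H.trans X.H_norm_R) hCK)))
    (isPGroup_of_coprime fun x hx hxo => ?_))
  · refine commutator_le.2 fun c hc e he => ?_
    have hce : ⁅c, e⁆ ∈ Y.C := by
      rw [← commutatorElement_inv]; exact inv_mem (commutatorElement_mem (Y.E_norm_C he) hc)
    have hRC : ∀ r ∈ X.R, ⁅⁅c, e⁆, r⁆ ∈ K' := fun r hr => by
      rw [← commutatorElement_inv]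
      exact inv_mem (mem_sup_left (commutator_mem_commutator hr hce))
    refine mem_inf.2 ⟨hce, mem_inf.2 ⟨fun k hk => ?_, X.H_norm_R (Y.C_le_H hce), hCK hce, hRC⟩⟩
    have h1 : Commute k e := (hEK hk e he).symm
    have h2 : Commute (c⁻¹ * k * c) e := by
      have := conj_mem' (inv_mem (hCK hc)) hk
      rw [inv_inv] at this
      exact (hEK this e he).symm
    have h3 : Commute k (c * e * c⁻¹) := by
      have h4 : c * ((c⁻¹ * k * c) * e) * c⁻¹ = c * (e * (c⁻¹ * k * c)) * c⁻¹ := by rw [h2.eq]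
      show k * (c * e * c⁻¹) = c * e * c⁻¹ * k
      calc k * (c * e * c⁻¹) = c * ((c⁻¹ * k * c) * e) * c⁻¹ := by group
        _ = c * (e * (c⁻¹ * k * c)) * c⁻¹ := h4
        _ = _ := by group
    rw [commutatorElement_def]
    exact (h3.mul_right h1.inv_right).eq
  · obtain ⟨-, hx2⟩ := mem_inf.1 hx
    refine X.eq_one_of_cent hxo fun r hr => ?_
    have h := (mem_inf.1 hx2).2.2.2 r hr
    exact (commutatorElement_eq_one_iff_mul_comm.1 (eq_one_of_stab hxo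
      ((mem_inf.1 hx2).1 _ h).symm (exists_pow_of_isPGroup X.R_p (hK'R h)))).symm

end SubCtx

end Cfsg.Agent.Block39
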