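import Mathlib
import Cfsg.Agent.Lib.Block39Crit

/-!
The pairing criterion for `[C', E] ≤ O₃(H)`: the case `V ≤ [R, R]`.
-/

set_option autoImplicit false

namespace Cfsg.Agent.Block39

open Subgroup Cfsg Block39Plane Block39Chart BaumannSubnormal58
open scoped commutatorElement

variable {G : Type*} [Group G] {F : Type} [Field F]

namespace SubCtx

variable {D : Data G F} {X : Ctx D} (Y : SubCtx X)

/-- The pairing criterion. -/
theorem crit1 [Finite G] [Finite F] (hR' : D.V ⊓ ⁅X.R, X.R⁆ ≠ ⊥) : ⁅Y.C, D.E⁆ ≤ X.R := by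
  classical
  set R' := ⁅X.R, X.R⁆ with hR'def
  have hnR' : ∀ {L : Subgroup G}, L ≤ X.H → L ≤ normalizer (R' : Set G) := fun hL _ hg =>
    X.norm_R' (X.H_norm_R (hL hg))
  have hEnV : D.E ≤ normalizer (D.V : Set G) := Subgroup.le_normalizer.trans D.NV
  have hVR' : D.V ≤ R' := by
    rcases D.irred1 (inf_le_left : D.V ⊓ R' ≤ D.V)
      (LocalBasics.le_normalizer_inf hEnV (hnR' X.EH)) with h | h
    · exact absurd h hR'
    · exact h.ge.trans inf_le_right
  have hR'R : R' ≤ X.R := X.R'_le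
  have hR'Om : R' ≤ D.Om := hR'R.trans X.R_le_Om
  have hmuR' : ∀ d ∈ R', ∀ q ∈ D.Q, D.mu d q = 0 := fun d hd q hq => D.mu_commutator X.R_le_Om hd hq
  set D0 := R' ⊓ centralizer (D.E : Set G) with hD0
  -- the decomposition `R' = V × D0`
  have hdec : ∀ r ∈ R', ∃ v ∈ D.V, ∃ d ∈ D0, r = v * d := by
    intro r hr
    obtain ⟨w, hw, u, hu, huz, rfl⟩ := X.exists_WU (X.R'_le_WU hr)
    obtain ⟨v, hv, ζ, hζ, rfl⟩ := D.Wsup w hw
    refine ⟨v, hv, ζ * u, ?_, by group⟩
    have hd : ζ * u ∈ R' := by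
      have := mul_mem (inv_mem (hVR' hv)) hr
      simpa [mul_assoc] using this
    have hdz : D.z * (ζ * u) = ζ * u * D.z := by
      rw [← mul_assoc, D.z_fix hζ, mul_assoc, huz, mul_assoc]
    have hK : closure ({ζ * u} : Set G) ≤ centralizer (D.E : Set G) := by
      refine Ctx.le_centralizer_E fun x hx e he => ?_
      have hxR' : x ∈ R' := (closure_le _).2 (by simpa using hd) hx
      have hxz : D.z * x = x * D.z := by
        have h := (closure_le (centralizer ({D.z} : Set G))).2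
          (by simpa [mem_centralizer_singleton_iff] using hdz.symm) hx
        exact (mem_centralizer_singleton_iff.1 h).symm
      have hq : ⁅e, x⁆ ∈ D.Q := by
        rw [← commutatorElement_inv]; exact inv_mem (X.comm_R (hR'R hxR') he)
      have hwW : ⁅e, x⁆ ∈ D.W := X.R'_Q_le_W (commutatorElement_mem (hnR' X.EH he) hxR') hq
      set ρ := e⁻¹ * (D.z * e * D.z⁻¹) with hρ
      have hρQ : ρ ∈ D.Q := by
        refine D.ker2 ρ (mul_mem (inv_mem he) (mul_mem (mul_mem D.z_mem he) (inv_mem D.z_mem))) ?_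
        have hz := D.nm2 (D.E_norm D.z_mem)
        have hee := D.nm2 (D.E_norm he)
        rw [hρ, D.c2.act_mul (inv_mem hee) (mul_mem (mul_mem hz hee) (inv_mem hz)),
          D.c2.act_mul (mul_mem hz hee) (inv_mem hz), D.c2.act_mul hz hee, D.z_inv, D.z_act2]
        have hsc : sc (-1 : F) * D.c2.act e * sc (-1) = D.c2.act e := endExt fun v => by
          obtain ⟨r, -, hr⟩ := D.r2 e he
          rw [hr]
          show (-1 : F) • mv r ((-1 : F) • v) = mv r v
          rw [mv_smul, smul_smul]; norm_num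
        rw [hsc]
        exact D.c2.act_inv_mul hee
      have hρx : ⁅ρ, x⁆ ∈ D.Z := by
        rw [← commutatorElement_inv]
        exact inv_mem ((D.mu_eq_zero (hR'Om hxR') hρQ).1 (hmuR' x hxR' ρ hρQ))
      obtain ⟨v', hv', ζ', hζ', hvz⟩ := D.Wsup _ hwW
      set ζ1 := e * ⁅ρ, x⁆ * e⁻¹ with hζ1def
      have hζ1 : ζ1 ∈ D.Z := conj_mem' (D.NZ (D.E_norm he)) hρx
      have hxz' : D.z * x * D.z⁻¹ = x := by rw [hxz, mul_inv_cancel_right]
      have e1 : D.z * ⁅e, x⁆ * D.z⁻¹ = ζ1 * ⁅e, x⁆ := by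
        calc D.z * ⁅e, x⁆ * D.z⁻¹ = ⁅e * ρ, D.z * x * D.z⁻¹⁆ := by
              rw [hρ]; simp only [commutatorElement_def]; group
          _ = ⁅e * ρ, x⁆ := by rw [hxz']
          _ = _ := by rw [hζ1def]; simp only [commutatorElement_def]; group
      have e2 : D.z * ⁅e, x⁆ * D.z⁻¹ = v'⁻¹ * ζ' := by
        rw [hvz]
        calc D.z * (v' * ζ') * D.z⁻¹ = (D.z * v' * D.z⁻¹) * (D.z * ζ' * D.z⁻¹) := by group
          _ = _ := by rw [D.z_inverts hv', D.z_fix hζ', mul_inv_cancel_right]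
      have h3 : D.dl (v'⁻¹ * ζ') = D.dl (ζ1 * ⁅e, x⁆) := by rw [← e2, e1]
      rw [D.dl_mul (D.ZW hζ1) hwW, D.dl_Z hζ1, zero_add, hvz, D.dl_eq (inv_mem hv') hζ',
        D.dl_eq hv' hζ', D.c1.val_inv hv'] at h3
      have h4 : D.c1.val v' hv' = 0 := by
        ext i
        have h5 := congrFun h3 i
        simp only [Pi.neg_apply] at h5
        show D.c1.val v' hv' i = (0 : F)
        linear_combination (D.c1.val v' hv' i) * D.h3 + h5
      rw [D.c1.val_eq_zero hv', mem_bot] at h4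
      rw [hvz, h4, one_mul]
      exact hζ'
    exact mem_inf.2 ⟨hd, hK (subset_closure rfl)⟩
  have hVD0 : ∀ v ∈ D.V, v ∈ D0 → v = 1 := by
    intro v hv hvd
    have h := (mem_inf.1 hvd).2 D.z D.z_mem
    have h2 := D.z_inverts hv
    rw [h, mul_inv_cancel_right] at h2
    have h3 := D.Vexp hv
    calc v = v ^ 3 * (v * v)⁻¹ := by rw [pow_succ, pow_two]; group
      _ = 1 := by rw [h3, one_mul, inv_eq_one]; exact mul_eq_one_iff_eq_inv.2 h2
  have hd0z : ∀ d ∈ D0, D.z * d = d * D.z := fun d hd => (mem_inf.1 hd).2 _ D.z_mem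
  choose vf hvf df hdf hvd using hdec
  let π1f : (r : G) → r ∈ R' → Pl F := fun r hr => D.c1.val (vf r hr) (hvf r hr)
  have huniq : ∀ r (hr : r ∈ R') v (hv : v ∈ D.V) d, d ∈ D0 → r = v * d →
      π1f r hr = D.c1.val v hv := by
    intro r hr v hv d hd he
    have h1 : v⁻¹ * vf r hr = d * (df r hr)⁻¹ := by
      rw [eq_mul_inv_iff_mul_eq, mul_assoc, ← hvd r hr, he, inv_mul_cancel_left]
    have h2 := hVD0 _ (mul_mem (inv_mem hv) (hvf r hr)) (h1 ▸ mul_mem hd (inv_mem (hdf r hr)))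
    rw [inv_mul_eq_one] at h2
    exact D.c1.val_congr h2.symm _ _
  have hVcent : ∀ x ∈ X.R, ∀ v ∈ D.V, x * v = v * x := fun x hx v hv => (X.R_centV hx v hv).symm
  have π1mul : ∀ a b (ha : a ∈ R') (hb : b ∈ R'),
      π1f (a * b) (mul_mem ha hb) = π1f a ha + π1f b hb := by
    intro a b ha hb
    rw [← D.c1.val_mul (hvf a ha) (hvf b hb)]
    refine huniq _ _ _ _ (df a ha * df b hb) (mul_mem (hdf a ha) (hdf b hb)) ?_
    conv_lhs => rw [hvd a ha, hvd b hb]
    have hc := hVcent _ (hR'R (mem_inf.1 (hdf a ha)).1) _ (hvf b hb)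
    calc vf a ha * df a ha * (vf b hb * df b hb) = vf a ha * (df a ha * vf b hb) * df b hb := by group
      _ = _ := by rw [hc]; group
  have π1congr : ∀ a b (ha : a ∈ R') (hb : b ∈ R'), a = b → π1f a ha = π1f b hb := by
    intro a b ha hb h; subst h; rfl
  have π1D0 : ∀ d (hd : d ∈ R'), d ∈ D0 → π1f d hd = 0 := fun d hd hd0 => by
    rw [huniq d hd 1 (one_mem _) d hd0 (one_mul d).symm, D.c1.val_one]
  have π1V : ∀ v (hv : v ∈ D.V), π1f v (hVR' hv) = D.c1.val v hv := fun v hv =>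
    huniq v _ v hv 1 (one_mem _) (mul_one v).symm
  have hD0n : ∀ g, g ∈ normalizer (R' : Set G) → g ∈ normalizer (D.E : Set G) →
      g ∈ normalizer (D0 : Set G) := fun g h1 h2 =>
    LocalBasics.le_normalizer_inf (X := normalizer (R' : Set G) ⊓ normalizer (D.E : Set G))
      inf_le_left (LocalBasics.le_normalizer_centralizer inf_le_right) (mem_inf.2 ⟨h1, h2⟩)
  have π1conj : ∀ g, g ∈ normalizer (R' : Set G) → g ∈ normalizer (D.E : Set G) →
      ∀ r (hr : r ∈ R') (hgr : g * r * g⁻¹ ∈ R'), π1f _ hgr = D.c1.act g (π1f r hr) := by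
    intro g h1 h2 r hr hgr
    rw [D.c1.act_val (D.nm1 h2) (hvf r hr)]
    refine huniq _ _ _ _ (g * df r hr * g⁻¹) (conj_mem' (hD0n g h1 h2) (hdf r hr)) ?_
    conv_lhs => rw [hvd r hr]
    group
  let π1 : ↥R' →* Multiplicative (Pl F) :=
    MonoidHom.mk' (fun r => Multiplicative.ofAdd (π1f r r.2)) (fun a b => by
      rw [← ofAdd_add]; exact congrArg _ (π1mul _ _ a.2 b.2))
  have hinv : ∀ s ∈ Y.S, ∀ (x : ↥R') (h : s * x * s⁻¹ ∈ R'), π1 ⟨_, h⟩ = π1 x := by
    intro s hs x h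
    show Multiplicative.ofAdd _ = Multiplicative.ofAdd _
    rw [π1conj s (hnR' Y.C_le_H (Y.SC hs)) (Y.SE hs) _ x.2 h,
      D.act1_eq_one (D.nm1 (Y.SE hs)) (Y.S_centV hs)]
    rfl
  obtain ⟨π', hπ', hfix⟩ := exists_average (plane_cube D.h3) Y.Sidx (hnR' Y.C_le_H) π1 hinv
  -- `C'` fixes the decomposition
  set K1 := ⁅R', Y.C⁆ with hK1
  have hK1R' : K1 ≤ R' := commutator_le.2 fun r hr c hc => by
    rw [← commutatorElement_inv]; exact inv_mem (commutatorElement_mem (hnR' Y.C_le_H hc) hr)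
  have hK1ker : K1 ≤ π'.ker.map R'.subtype := by
    refine commutator_le.2 fun r hr c hc => ?_
    have hm : c * r⁻¹ * c⁻¹ ∈ R' := conj_mem' (hnR' Y.C_le_H hc) (inv_mem hr)
    refine ⟨⟨r, hr⟩ * ⟨_, hm⟩, ?_, by simp [commutatorElement_def, mul_assoc]⟩
    show π' _ = 1
    rw [map_mul, hπ' c hc ⟨r⁻¹, inv_mem hr⟩ hm, ← map_mul, ← map_one π']
    congr 1
    exact Subtype.ext (mul_inv_cancel r)
  have hK1D0 : K1 ≤ D0 := by
    have hnK1 : D.E ≤ normalizer (K1 : Set G) :=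
      (le_inf le_rfl le_rfl).trans (norm_commutator (hnR' X.EH) Y.E_norm_C)
    refine le_inf hK1R' (Ctx.le_centralizer_E fun x hx e he => ?_)
    have hm : ⁅e, x⁆ ∈ K1 := commutatorElement_mem (hnK1 he) hx
    obtain ⟨v, hv, d, hd, rfl⟩ : ∃ v ∈ D.V, ∃ d ∈ D0, x = v * d :=
      ⟨_, hvf x (hK1R' hx), _, hdf x (hK1R' hx), hvd x (hK1R' hx)⟩
    have e1 : ⁅e, v * d⁆ = ⁅e, v⁆ := by
      have hde : d * e⁻¹ * d⁻¹ = e⁻¹ := by
        rw [← (mem_inf.1 hd).2 e⁻¹ (inv_mem he), mul_inv_cancel_right]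
      calc ⁅e, v * d⁆ = e * v * (d * e⁻¹ * d⁻¹) * v⁻¹ := by simp only [commutatorElement_def]; group
        _ = _ := by rw [hde, commutatorElement_def]
    rw [e1] at hm ⊢
    have hvV : ⁅e, v⁆ ∈ D.V := commutatorElement_mem (D.NV (D.E_norm he)) hv
    obtain ⟨⟨y, hy⟩, hy1, hy2⟩ := hK1ker hm
    change y = _ at hy2
    subst hy2
    have h := hfix ⟨_, hy⟩ fun c hc => ((Y.CH.trans X.CV_cent hc) _ hvV).symm
    rw [MonoidHom.mem_ker.1 hy1] at h
    have h0 : π1f _ (hVR' hvV) = 0 := Multiplicative.ofAdd.injective (h.symm.trans ofAdd_zero.symm)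
    rw [π1V _ hvV, D.c1.val_eq_zero hvV, mem_bot] at h0
    rw [h0]; exact one_mem _
  have hCD0 : Y.C ≤ normalizer (D0 : Set G) := LocalBasics.le_normalizer_of_conj fun c hc d hd => by
    have h1 : ⁅c, d⁆ ∈ D0 := by
      rw [← commutatorElement_inv]
      exact inv_mem (hK1D0 (commutator_mem_commutator (mem_inf.1 hd).1 hc))
    have h2 := mul_mem h1 hd
    rwa [show ⁅c, d⁆ * d = c * d * c⁻¹ by rw [commutatorElement_def]; group] at h2
  have π1C : ∀ c ∈ Y.C, ∀ r (hr : r ∈ R') (hcr : c * r * c⁻¹ ∈ R'), π1f _ hcr = π1f r hr := by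
    intro c hc r hr hcr
    refine huniq _ _ _ (hvf r hr) (c * df r hr * c⁻¹) (conj_mem' (hCD0 hc) (hdf r hr)) ?_
    have hv : c * vf r hr * c⁻¹ = vf r hr := by
      rw [← (Y.CH.trans X.CV_cent hc) _ (hvf r hr), mul_inv_cancel_right]
    calc c * r * c⁻¹ = (c * vf r hr * c⁻¹) * (c * df r hr * c⁻¹) := by
          conv_lhs => rw [hvd r hr]
          group
      _ = _ := by rw [hv]
  -- the pairing
  let β : G → G → Pl F := fun a b =>
    if h : ⁅a, b⁆ ∈ R' then π1f _ h else 0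
  have hβ : ∀ {a b}, (ha : a ∈ X.R) → (hb : b ∈ X.R) →
      β a b = π1f _ (commutator_mem_commutator ha hb) := fun ha hb =>
    dif_pos (commutator_mem_commutator ha hb)
  have π1R : ∀ g ∈ X.R, ∀ r (hr : r ∈ R') (hgr : g * r * g⁻¹ ∈ R'), π1f _ hgr = π1f r hr := by
    intro g hg r hr hgr
    rw [π1conj g (hnR' X.R_le hg) (X.R_norm_E hg) r hr hgr,
      D.act1_eq_one (D.nm1 (X.R_norm_E hg)) (X.R_centV hg)]
    rfl
  have βr : ∀ {a b c}, a ∈ X.R → b ∈ X.R → c ∈ X.R → β a (b * c) = β a b + β a c := by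
    intro a b c ha hb hc
    have h2 := commutator_mem_commutator ha hc
    have h2' : b * ⁅a, c⁆ * b⁻¹ ∈ R' := conj_mem' (hnR' X.R_le hb) h2
    rw [hβ ha (mul_mem hb hc), hβ ha hb, hβ ha hc, ← π1R b hb _ h2 h2',
      ← π1mul _ _ (commutator_mem_commutator ha hb) h2']
    exact π1congr _ _ _ _ (by simp only [commutatorElement_def]; group)
  have βl : ∀ {a b c}, a ∈ X.R → b ∈ X.R → c ∈ X.R → β (a * b) c = β a c + β b c := by
    intro a b c ha hb hc
    have h2 := commutator_mem_commutator hb hc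
    have h2' : a * ⁅b, c⁆ * a⁻¹ ∈ R' := conj_mem' (hnR' X.R_le ha) h2
    rw [hβ (mul_mem ha hb) hc, hβ ha hc, hβ hb hc, ← π1R a ha _ h2 h2', add_comm,
      ← π1mul _ _ h2' (commutator_mem_commutator ha hc)]
    exact π1congr _ _ _ _ (by simp only [commutatorElement_def]; group)
  have β1 : ∀ {a}, a ∈ X.R → β a 1 = 0 := fun {a} ha => by
    rw [hβ ha (one_mem _)]
    exact π1D0 _ _ (by rw [commutatorElement_one_right]; exact one_mem _)
  have β1' : ∀ {a}, a ∈ X.R → β 1 a = 0 := fun {a} ha => by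
    rw [hβ (one_mem _) ha]
    exact π1D0 _ _ (by rw [commutatorElement_one_left]; exact one_mem _)
  have hCR : ∀ {c r}, c ∈ Y.C → r ∈ X.R → c * r * c⁻¹ ∈ X.R := fun hc hr =>
    conj_mem' (X.H_norm_R (Y.C_le_H hc)) hr
  have βC : ∀ {c a b}, c ∈ Y.C → a ∈ X.R → b ∈ X.R → β (c * a * c⁻¹) (c * b * c⁻¹) = β a b := by
    intro c a b hc ha hb
    rw [hβ ha hb, hβ (hCR hc ha) (hCR hc hb)]
    rw [← π1C c hc _ (commutator_mem_commutator ha hb)
      (conj_mem' (hnR' Y.C_le_H hc) (commutator_mem_commutator ha hb))]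
    exact π1congr _ _ _ _ (by simp only [commutatorElement_def]; group)
  have hER : ∀ {e r}, e ∈ D.E → r ∈ X.R → e * r * e⁻¹ ∈ X.R := fun he hr =>
    conj_mem' (X.H_norm_R (X.EH he)) hr
  have βE : ∀ {e a b}, e ∈ D.E → a ∈ X.R → b ∈ X.R →
      β (e * a * e⁻¹) (e * b * e⁻¹) = D.c1.act e (β a b) := by
    intro e a b he ha hb
    rw [hβ ha hb, hβ (hER he ha) (hER he hb)]
    rw [← π1conj e (hnR' X.EH he) (D.E_norm he) _ (commutator_mem_commutator ha hb)
      (conj_mem' (hnR' X.EH he) (commutator_mem_commutator ha hb))]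
    exact π1congr _ _ _ _ (by simp only [commutatorElement_def]; group)
  have hZD0 : D.Z ≤ D0 := fun ζ hζ =>
    mem_inf.2 ⟨X.Z_le_R' hζ, fun e he => D.Zcent ζ hζ e he⟩
  have βmu : ∀ {a q}, a ∈ X.R → q ∈ D.Q → β a q = D.mu a q := by
    intro a q ha hq
    have hw := D.Om_comm (X.R_le_Om ha) hq
    obtain ⟨v, hv, ζ, hζ, he⟩ := D.Wsup _ hw
    rw [hβ ha (X.Q_le hq), Data.mu,
      show D.dl ⁅a, q⁆ = D.c1.val v hv from (congrArg D.dl he).trans (D.dl_eq hv hζ)]
    exact huniq _ _ v hv ζ (hZD0 hζ) he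
  have βQu : ∀ {q u}, q ∈ D.Q → u ∈ X.R → β q u = -D.mu u q := by
    intro q u hq hu
    rw [← βmu hu hq, eq_neg_iff_add_eq_zero, hβ (X.Q_le hq) hu, hβ hu (X.Q_le hq), ← π1mul]
    exact π1D0 _ _ (by simp [commutatorElement_def, mul_assoc, one_mem])
  have βUU : ∀ {u u'}, u ∈ X.R → u' ∈ X.R → D.z * u = u * D.z → D.z * u' = u' * D.z → β u u' = 0 := by
    intro u u' hu hu' hz hz'
    have hm := commutator_mem_commutator hu hu'
    rw [hβ hu hu']
    have hcz : D.z * ⁅u, u'⁆ = ⁅u, u'⁆ * D.z := by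
      rw [commutatorElement_def]
      exact ((((show Commute D.z u from hz).mul_right hz').mul_right
        (show Commute D.z u from hz).inv_right).mul_right (show Commute D.z u' from hz').inv_right).eq
    have hv1 := hvd _ hm
    have hvz : D.z * vf _ hm = vf _ hm * D.z := by
      have hd := hd0z _ (hdf _ hm)
      have e : vf _ hm = ⁅u, u'⁆ * (df _ hm)⁻¹ := eq_mul_inv_of_mul_eq hv1.symm
      rw [e]
      exact ((show Commute D.z ⁅u, u'⁆ from hcz).mul_right (show Commute D.z (df _ hm) from hd).inv_right).eq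
    have h2 := D.z_inverts (hvf _ hm)
    rw [hvz, mul_inv_cancel_right] at h2
    have h3 : vf _ hm * vf _ hm = 1 := mul_eq_one_iff_eq_inv.2 h2
    have h4 : vf _ hm = 1 := by
      calc vf _ hm = vf _ hm ^ 3 * (vf _ hm * vf _ hm)⁻¹ := by rw [pow_succ, pow_two]; group
        _ = 1 := by rw [D.Vexp (hvf _ hm), h3, one_mul, inv_one]
    show D.c1.val _ _ = 0
    rw [D.c1.val_congr h4 _ (one_mem _), D.c1.val_one]
  -- the radical
  let rad : Subgroup G :=
    { carrier := {r | r ∈ X.R ∧ ∀ x ∈ X.R, β r x = 0}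
      one_mem' := ⟨one_mem _, fun x hx => β1' hx⟩
      mul_mem' := fun {a b} ha hb => ⟨mul_mem ha.1 hb.1, fun x hx => by
        rw [βl ha.1 hb.1 hx, ha.2 x hx, hb.2 x hx, add_zero]⟩
      inv_mem' := fun {a} ha => ⟨inv_mem ha.1, fun x hx => by
        have h := βl (inv_mem ha.1) ha.1 hx
        rw [inv_mul_cancel, β1' hx, ha.2 x hx, add_zero] at h
        exact h.symm⟩ }
  have hradR : rad ≤ X.R := fun r hr => hr.1
  have hCrad : Y.C ≤ normalizer (rad : Set G) := LocalBasics.le_normalizer_of_conj fun c hc r hr => by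
    refine ⟨hCR hc hr.1, fun x hx => ?_⟩
    have hx' := hCR (inv_mem hc) hx
    have h := βC hc hr.1 hx'
    rw [hr.2 _ hx', show c * (c⁻¹ * x * c⁻¹⁻¹) * c⁻¹ = x by group] at h
    exact h
  have hErad : D.E ≤ normalizer (rad : Set G) := LocalBasics.le_normalizer_of_conj fun e he r hr => by
    refine ⟨hER he hr.1, fun x hx => ?_⟩
    have hx' := hER (inv_mem he) hx
    have h := βE he hr.1 hx'
    rw [hr.2 _ hx', show e * (e⁻¹ * x * e⁻¹⁻¹) * e⁻¹ = x by group, map_zero] at h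
    exact h
  have hWrad : D.W ≤ rad := fun w hw => ⟨X.Q_le (D.WQ hw), fun x hx => by
    rw [hβ (X.Q_le (D.WQ hw)) hx]
    exact π1D0 _ _ (by
      rw [commutatorElement_eq_one_iff_mul_comm.2 ((X.R_centW hx) w hw)]; exact one_mem _)⟩
  -- `Q ∩ rad = W`
  have hQrad : ∀ q ∈ D.Q, q ∈ rad → q ∈ D.W := by
    intro q hq hqr
    rcases D.irred2 (X := (D.Q ⊓ rad)) (le_inf D.WQ hWrad) inf_le_left
      (LocalBasics.le_normalizer_inf (Subgroup.le_normalizer.trans D.NQ) hErad) with h | h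
    · exact h.le ⟨hq, hqr⟩
    · exfalso
      apply hR'
      refine eq_bot_iff.2 fun v hv => ?_
      obtain ⟨hvV, hvR'⟩ := mem_inf.1 hv
      have hzero : ∀ a ∈ X.R, ∀ b ∈ X.R, β a b = 0 := by
        intro a ha b hb
        obtain ⟨q1, hq1, u1, hu1, hu1z, rfl⟩ := X.exists_qu ha
        obtain ⟨q2, hq2, u2, hu2, hu2z, rfl⟩ := X.exists_qu hb
        have hrad : ∀ q ∈ D.Q, q ∈ rad := fun q hq => (h.ge hq).2
        have h21 : β u1 q2 = 0 := by
          have h' := (hrad q2 hq2).2 u1 hu1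
          rw [βQu hq2 hu1, neg_eq_zero] at h'
          rw [βmu hu1 hq2, h']
        rw [βl (X.Q_le hq1) hu1 (mul_mem (X.Q_le hq2) hu2), (hrad q1 hq1).2 _ (mul_mem (X.Q_le hq2) hu2),
          zero_add, βr hu1 (X.Q_le hq2) hu2, h21, βUU hu1 hu2 hu1z hu2z, zero_add]
      have hle : R' ≤ π1.ker.map R'.subtype := by
        refine commutator_le.2 fun a ha b hb => ⟨⟨_, commutator_mem_commutator ha hb⟩, ?_, rfl⟩
        show Multiplicative.ofAdd _ = 1
        rw [← hβ ha hb, hzero a ha b hb]; rfl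
      obtain ⟨⟨y, hy⟩, hy1, hy2⟩ := hle hvR'
      change y = v at hy2
      subst hy2
      have h1 : π1f _ hy = 0 := Multiplicative.ofAdd.injective (MonoidHom.mem_ker.1 hy1)
      rw [π1congr _ _ hy (hVR' hvV) rfl, π1V _ hvV, D.c1.val_eq_zero hvV] at h1
      exact h1
  set R1 := D.Q ⊔ rad with hR1
  have hR1R : R1 ≤ X.R := sup_le X.Q_le hradR
  have hQn : D.Q ≤ normalizer (rad : Set G) := D.QE.trans hErad
  have hR1dec : ∀ y ∈ R1, ∃ q ∈ D.Q, ∃ r ∈ rad, y = q * r := by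
    intro y hy
    rw [← SetLike.mem_coe, Subgroup.coe_mul_of_left_le_normalizer_right _ _ hQn] at hy
    obtain ⟨q, hq, r, hr, rfl⟩ := hy
    exact ⟨q, hq, r, hr, rfl⟩
  -- the maps `q ↦ μ u q` are bijective on the plane
  have hh : ∀ u ∈ X.R, ∃ h : AddMonoid.End (Pl F), (∀ q (hq : q ∈ D.Q), h (D.c2.val q hq) = D.mu u q) ∧
      ∀ e ∈ D.E, h * D.c2.act e = D.c1.act e * h := by
    intro u hu
    have hwd : ∀ q (hq : q ∈ D.Q) q' (hq' : q' ∈ D.Q), D.c2.val q hq = D.c2.val q' hq' →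
        D.mu u q = D.mu u q' := by
      intro q hq q' hq' he
      have hm : q * q'⁻¹ ∈ D.W := (D.c2.val_eq_zero (mul_mem hq (inv_mem hq'))).1 (by
        rw [D.c2.val_mul hq (inv_mem hq'), D.c2.val_inv hq', he, add_neg_cancel])
      conv_lhs => rw [show q = q * q'⁻¹ * q' by group]
      rw [D.mu_mul_right (X.R_le_Om hu) (D.WQ hm) hq', D.mu_W (X.R_le_Om hu) hm, zero_add]
    choose pre hpre hpreval using D.c2.exists_val
    let h : AddMonoid.End (Pl F) := AddMonoidHom.mk' (fun v => D.mu u (pre v)) (fun v w => by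
      rw [← D.mu_mul_right (X.R_le_Om hu) (hpre v) (hpre w)]
      refine hwd _ (hpre _) _ (mul_mem (hpre v) (hpre w)) ?_
      rw [D.c2.val_mul (hpre v) (hpre w), hpreval, hpreval, hpreval])
    have hval : ∀ q (hq : q ∈ D.Q), h (D.c2.val q hq) = D.mu u q := fun q hq =>
      hwd _ (hpre _) q hq (hpreval _)
    refine ⟨h, hval, fun e he => endExt fun v => ?_⟩
    obtain ⟨q, hq, rfl⟩ := D.c2.exists_val v
    show h (D.c2.act e _) = D.c1.act e (h _)
    have hρ : u⁻¹ * (e⁻¹ * u * e) ∈ D.Q := by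
      have := X.comm_R (inv_mem hu) (inv_mem he)
      rwa [commutatorElement_def, show u⁻¹ * e⁻¹ * u⁻¹⁻¹ * e⁻¹⁻¹ = u⁻¹ * (e⁻¹ * u * e) by group] at this
    rw [D.c2.act_val (D.nm2 (D.E_norm he)) hq, hval, hval, D.mu_equivariant (X.R_le_Om hu) he hρ hq]
  have hbij : ∀ u ∈ X.R, (∃ q ∈ D.Q, D.mu u q ≠ 0) →
      (∀ v, ∃ q, q ∈ D.Q ∧ D.mu u q = v) ∧ ∀ q ∈ D.Q, D.mu u q = 0 → q ∈ D.W := by
    intro u hu ⟨q0, hq0, hne⟩
    obtain ⟨h, hval, hcomm⟩ := hh u hu
    have hker : ∀ q ∈ D.Q, D.mu u q = 0 → q ∈ D.W := by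
      let K : Subgroup G :=
        { carrier := {q | q ∈ D.Q ∧ D.mu u q = 0}
          one_mem' := ⟨one_mem _, D.mu_one_right u⟩
          mul_mem' := fun {a b} ha hb => ⟨mul_mem ha.1 hb.1, by
            rw [D.mu_mul_right (X.R_le_Om hu) ha.1 hb.1, ha.2, hb.2, add_zero]⟩
          inv_mem' := fun {a} ha => ⟨inv_mem ha.1, by
            have h := D.mu_mul_right (X.R_le_Om hu) (inv_mem ha.1) ha.1
            rw [inv_mul_cancel, D.mu_one_right, ha.2, add_zero] at h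
            exact h.symm⟩ }
      rcases D.irred2 (X := K) (fun w hw => ⟨D.WQ hw, D.mu_W (X.R_le_Om hu) hw⟩) (fun q hq => hq.1)
        (LocalBasics.le_normalizer_of_conj fun e he q hq => by
          refine ⟨conj_mem' (D.NQ (D.E_norm he)) hq.1, ?_⟩
          have h' := DFunLike.congr_fun (hcomm e he) (D.c2.val q hq.1)
          change h (D.c2.act e _) = D.c1.act e (h _) at h'
          rwa [D.c2.act_val (D.nm2 (D.E_norm he)) hq.1, hval, hval, hq.2, map_zero] at h') with hK | hK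
      · exact fun q hq h0 => hK.le ⟨hq, h0⟩
      · exact absurd (hK.ge hq0).2 hne
    refine ⟨fun v => ?_, hker⟩
    have hinj : Function.Injective h := by
      intro a b hab
      obtain ⟨q, hq, rfl⟩ := D.c2.exists_val a
      obtain ⟨q', hq', rfl⟩ := D.c2.exists_val b
      have hm := mul_mem hq (inv_mem hq')
      have hz : D.mu u (q * q'⁻¹) = 0 := by
        rw [← hval _ hm, D.c2.val_mul hq (inv_mem hq'), D.c2.val_inv hq', map_add, map_neg, hab,
          add_neg_cancel]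
      have h0 := (D.c2.val_eq_zero hm).2 (hker _ hm hz)
      rwa [D.c2.val_mul hq (inv_mem hq'), D.c2.val_inv hq', add_neg_eq_zero] at h0
    obtain ⟨x, hx⟩ := Finite.surjective_of_injective hinj v
    obtain ⟨q, hq, rfl⟩ := D.c2.exists_val x
    exact ⟨q, hq, (hval q hq).symm.trans hx⟩
  -- a single `u₀` separating `Q / W`
  obtain ⟨u0, hu0, hu0z, hu0ne⟩ : ∃ u0 ∈ X.R, D.z * u0 = u0 * D.z ∧ ∃ q ∈ D.Q, D.mu u0 q ≠ 0 := by
    by_contra hcon
    push Not at hcon
    have hQW : D.Q ≤ D.W := fun q hq => hQrad q hq ⟨X.Q_le hq, fun x hx => by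
      obtain ⟨q', hq', u, hu, huz, rfl⟩ := X.exists_qu hx
      rw [βr (X.Q_le hq) (X.Q_le hq') hu, βmu (X.Q_le hq) hq', D.mu_Q hq hq', βQu hq hu,
        hcon u hu huz q hq]
      simp⟩
    obtain ⟨q, hq, hqv⟩ := D.c2.exists_val ![(1 : F), 0]
    have h := (D.c2.val_eq_zero hq).2 (hQW hq)
    rw [hqv] at h
    exact one_ne_zero (congrFun h 0)
  obtain ⟨-, hker0⟩ := hbij u0 hu0 hu0ne
  have hβ1u : ∀ q ∈ D.Q, ∀ r ∈ rad, β u0 (q * r) = D.mu u0 q := by
    intro q hq r hr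
    have hru : β u0 r = 0 := by
      have h := hr.2 u0 hu0
      rw [hβ hr.1 hu0] at h
      have h1 := π1mul _ _ (commutator_mem_commutator hu0 hr.1) (commutator_mem_commutator hr.1 hu0)
      rw [h, add_zero, π1congr _ 1 _ (one_mem _) (by simp [commutatorElement_def, mul_assoc]),
        π1D0 1 _ (one_mem _)] at h1
      rw [hβ hu0 hr.1, ← h1]
    rw [βr hu0 (X.Q_le hq) hr.1, βmu hu0 hq, hru, add_zero]
  have hsep : ∀ y ∈ R1, β u0 y = 0 → y ∈ rad := by
    intro y hy h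
    obtain ⟨q, hq, r, hr, rfl⟩ := hR1dec y hy
    rw [hβ1u q hq r hr] at h
    exact mul_mem (hWrad (hker0 q hq h)) hr
  -- `C'` normalises `R1`
  have hCR1 : Y.C ≤ normalizer (R1 : Set G) := by
    refine LocalBasics.le_normalizer_of_conj fun c hc y hy => ?_
    obtain ⟨q, hq, r, hr, rfl⟩ := hR1dec y hy
    rw [show c * (q * r) * c⁻¹ = (c * q * c⁻¹) * (c * r * c⁻¹) by group]
    refine mul_mem ?_ (mem_sup_right (conj_mem' (hCrad hc) hr))
    obtain ⟨q', hq', u, hu, huz, he⟩ := X.exists_qu (hCR hc (X.Q_le hq))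
    rw [he]
    refine mul_mem (mem_sup_left hq') (mem_sup_right ?_)
    by_contra hurad
    have hune : ∃ x ∈ D.Q, D.mu u x ≠ 0 := by
      by_contra hcon
      push Not at hcon
      refine hurad ⟨hu, fun x hx => ?_⟩
      obtain ⟨q1, hq1, u1, hu1, hu1z, rfl⟩ := X.exists_qu hx
      rw [βr hu (X.Q_le hq1) hu1, βmu hu hq1, hcon q1 hq1, βUU hu hu1 huz hu1z, add_zero]
    obtain ⟨hsurj, -⟩ := hbij u hu hune
    -- so `q` pairs onto everything, impossible
    have hqsurj : ∀ v, ∃ x ∈ X.R, β q x = v := by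
      intro v
      obtain ⟨x, hx, hxv⟩ := hsurj v
      refine ⟨c⁻¹ * x * c, by simpa using hCR (inv_mem hc) (X.Q_le hx), ?_⟩
      have h := βC hc (X.Q_le hq) (show c⁻¹ * x * c ∈ X.R by simpa using hCR (inv_mem hc) (X.Q_le hx))
      rw [show c * (c⁻¹ * x * c) * c⁻¹ = x by group, he, βl (X.Q_le hq') hu (X.Q_le hx), βmu hu hx,
        βmu (X.Q_le hq') hx, D.mu_Q hq' hx, zero_add, hxv] at h
      exact h.symm
    obtain ⟨h0, hh0, hc0⟩ := hh u hu
    have hinj0 : Function.Surjective h0 := fun v => by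
      obtain ⟨x, hx, hxv⟩ := hsurj v
      exact ⟨D.c2.val x hx, (hh0 x hx).trans hxv⟩
    have hline : ∀ v : Pl F, ∃ k : F, v = h0 (k • D.c2.val q hq) := by
      intro v
      obtain ⟨x, hx, hxv⟩ := hqsurj (-v)
      obtain ⟨q1, hq1, u1, hu1, hu1z, rfl⟩ := X.exists_qu hx
      rw [βr (X.Q_le hq) (X.Q_le hq1) hu1, βmu (X.Q_le hq) hq1, D.mu_Q hq hq1, zero_add,
        βQu hq hu1, neg_inj] at hxv
      obtain ⟨h1, hh1, hc1⟩ := hh u1 hu1
      have hbij0 : Function.Bijective h0 :=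
        ⟨Finite.injective_iff_surjective.2 hinj0, hinj0⟩
      let h0e := Equiv.ofBijective h0 hbij0
      let g : AddMonoid.End (Pl F) := AddMonoidHom.mk' (fun w => h0e.symm (h1 w)) (fun a b => by
        apply hbij0.1
        show h0 (h0e.symm _) = h0 (h0e.symm _ + h0e.symm _)
        rw [map_add h0]
        simp only [h0e, Equiv.ofBijective_apply_symm_apply h0 hbij0, map_add])
      have hg : ∀ w, h0 (g w) = h1 w := fun w => Equiv.ofBijective_apply_symm_apply h0 hbij0 (h1 w)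
      obtain ⟨k, hk⟩ := scalar_of_commute D.h3 g fun r hr => endExt fun w => by
        obtain ⟨e, he', her⟩ := D.r2' r hr
        apply hbij0.1
        show h0 (g (mv r w)) = h0 (mv r (g w))
        rw [hg, ← her]
        have e1 := DFunLike.congr_fun (hc1 e he') w
        have e2 := DFunLike.congr_fun (hc0 e he') (g w)
        change h1 (D.c2.act e w) = D.c1.act e (h1 w) at e1
        change h0 (D.c2.act e (g w)) = D.c1.act e (h0 (g w)) at e2
        rw [e1, e2, hg]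
      refine ⟨k, ?_⟩
      rw [← hxv, ← hh1 q hq, ← hg, hk]
      rfl
    have hq2 : D.c2.val q hq ≠ 0 := by
      intro h
      obtain ⟨k, hk⟩ := hline ![1, 0]
      rw [h, smul_zero, map_zero] at hk
      exact one_ne_zero (congrFun hk 0)
    obtain ⟨a, ha⟩ : ∃ a : Pl F, ∀ k : F, a ≠ k • D.c2.val q hq := by
      by_contra hcon
      push Not at hcon
      obtain ⟨k1, e1⟩ := hcon ![1, 0]
      obtain ⟨k2, e2⟩ := hcon ![0, 1]
      have a0 := congrFun e1 0
      have a1 := congrFun e1 1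
      have b1 := congrFun e2 1
      simp at a0 a1 b1
      rcases a1 with a1 | a1
      · simp [a1] at a0
      · simp [a1] at b1
    obtain ⟨k, hk⟩ := hline (h0 a)
    exact ha k (Finite.injective_iff_surjective.2 hinj0 hk)
  have hER1 : D.E ≤ normalizer (R1 : Set G) :=
    LocalBasics.le_normalizer_sup (Subgroup.le_normalizer.trans D.NQ) hErad
  have hEQ : ∀ e ∈ D.E, ∀ x ∈ X.R, ⁅e, x⁆ ∈ D.Q := fun e he x hx => by
    rw [← commutatorElement_inv]; exact inv_mem (X.comm_R hx he)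
  have hVrad : D.V ≤ rad := D.VW.trans hWrad
  -- `E` on the three factors
  have hE1 : D.E ≤ cent X.R R1 := fun e he =>
    ⟨X.H_norm_R (X.EH he), hER1 he, fun x hx => mem_sup_left (hEQ e he x hx)⟩
  have hE3 : D.E ≤ cent rad D.V := by
    have hle : closure {g : G | g ∈ D.E ∧ (orderOf g).Coprime 3} ≤ cent rad D.V := by
      refine (closure_le _).2 fun e he => ⟨hErad he.1, hEnV he.1, fun r hr => ?_⟩
      have hw : ⁅e, r⁆ ∈ D.W :=
        hQrad _ (hEQ e he.1 r (hradR hr)) (commutatorElement_mem (hErad he.1) hr)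
      refine mem_of_stab he.2 (hEnV he.1) ?_ (D.NV (D.Q_norm (D.WQ hw))) ?_
      · obtain ⟨v, hv, ζ, hζ, hvz⟩ := D.Wsup _ hw
        rw [hvz]
        have hcz : ζ * e⁻¹ * ζ⁻¹ = e⁻¹ := by
          rw [← D.Zcent ζ hζ e⁻¹ (inv_mem he.1), mul_inv_cancel_right]
        have : ⁅e, v * ζ⁆ = ⁅e, v⁆ := by
          calc ⁅e, v * ζ⁆ = e * v * (ζ * e⁻¹ * ζ⁻¹) * v⁻¹ := by
                simp only [commutatorElement_def]; group
            _ = _ := by rw [hcz, commutatorElement_def]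
        rw [this]
        exact commutatorElement_mem (hEnV he.1) hv
      · obtain ⟨k, hk⟩ := exists_pow_of_isPGroup D.Qp (D.WQ hw)
        exact ⟨k, by rw [hk]; exact one_mem _⟩
    rwa [D.res] at hle
  have βanti : ∀ {a b}, a ∈ X.R → b ∈ X.R → β a b + β b a = 0 := by
    intro a b ha hb
    rw [hβ ha hb, hβ hb ha, ← π1mul]
    exact π1D0 _ _ (by simp [commutatorElement_def, mul_assoc, one_mem])
  -- equivariance of the pairing on `R1`
  have hEu : ∀ e ∈ D.E, ∀ u ∈ X.R, ∀ y ∈ R1, β u (e * y * e⁻¹) = D.c1.act e (β u y) := by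
    intro e he u hu y hy
    have hρ : u⁻¹ * (e⁻¹ * u * e) ∈ D.Q := by
      have := X.comm_R (inv_mem hu) (inv_mem he)
      rwa [commutatorElement_def, show u⁻¹ * e⁻¹ * u⁻¹⁻¹ * e⁻¹⁻¹ = u⁻¹ * (e⁻¹ * u * e) by group] at this
    obtain ⟨q, hq, r, hr, rfl⟩ := hR1dec y hy
    set ρ := u⁻¹ * (e⁻¹ * u * e) with hρdef
    have hρy : β ρ (q * r) = 0 := by
      have h := βanti hr.1 (X.Q_le hρ)
      rw [hr.2 _ (X.Q_le hρ), zero_add] at h
      rw [βr (X.Q_le hρ) (X.Q_le hq) hr.1, βmu (X.Q_le hρ) hq, D.mu_Q hρ hq, zero_add, h]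
    have h := βE he (mul_mem hu (X.Q_le hρ)) (hR1R hy)
    rw [show e * (u * ρ) * e⁻¹ = u by rw [hρdef]; group, βl hu (X.Q_le hρ) (hR1R hy), hρy, add_zero] at h
    exact h
  set L := Y.C ⊓ (cent X.R R1 ⊓ cent R1 rad ⊓ cent rad D.V) with hL
  have hCV : Y.C ≤ normalizer (D.V : Set G) :=
    (Y.CH.trans X.CV_cent).trans (LocalBasics.centralizer_le_normalizer _)
  have hCnR : Y.C ≤ normalizer (X.R : Set G) := Y.C_le_H.trans X.H_norm_R
  refine le_trans ?_ (X.le_R_of Y.C_le_H Y.Cn (inf_le_left : L ≤ Y.C)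
    (LocalBasics.le_normalizer_inf Subgroup.le_normalizer
      (LocalBasics.le_normalizer_inf (LocalBasics.le_normalizer_inf
        (le_normalizer_cent hCnR hCR1) (le_normalizer_cent hCR1 hCrad))
        (le_normalizer_cent hCrad hCV)))
    (isPGroup_of_coprime fun x hx hxo => ?_))
  · refine commutator_le.2 fun c hc e he => ?_
    have hce : ⁅c, e⁆ ∈ Y.C := by
      rw [← commutatorElement_inv]; exact inv_mem (commutatorElement_mem (Y.E_norm_C he) hc)
    have hmem : ∀ {K : Subgroup G}, D.E ≤ K → Y.C ≤ normalizer (K : Set G) → ⁅c, e⁆ ∈ K :=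
      fun hEK hCK => by
        rw [commutatorElement_def]
        exact mul_mem (conj_mem' (hCK hc) (hEK he)) (inv_mem (hEK he))
    refine mem_inf.2 ⟨hce, mem_inf.2 ⟨mem_inf.2 ⟨hmem hE1 (le_normalizer_cent hCnR hCR1), ?_⟩,
      hmem hE3 (le_normalizer_cent hCrad hCV)⟩⟩
    refine ⟨hCR1 hce, hCrad hce, fun y hy => ?_⟩
    set y1 := e⁻¹ * y * e with hy1def
    have hy1 : y1 ∈ R1 := by
      have := conj_mem' (hER1 (inv_mem he)) hy
      rwa [inv_inv] at this
    set y2 := c⁻¹ * y1 * c with hy2def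
    have hy2 : y2 ∈ R1 := by
      have := conj_mem' (hCR1 (inv_mem hc)) hy1
      rwa [inv_inv] at this
    set u := c⁻¹ * u0 * c with hudef
    have hu : u ∈ X.R := by
      have := hCR (inv_mem hc) hu0
      rwa [inv_inv] at this
    have h2 : e * y2 * e⁻¹ ∈ R1 := conj_mem' (hER1 he) hy2
    have ha : c * (e * y2 * e⁻¹) * c⁻¹ ∈ R1 := conj_mem' (hCR1 hc) h2
    have e1 : β u0 (c * (e * y2 * e⁻¹) * c⁻¹) = β u0 y := by
      have h := βC hc hu (hR1R h2)
      rw [show c * u * c⁻¹ = u0 by rw [hudef]; group, hEu e he u hu y2 hy2] at h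
      have h' := βC hc hu (hR1R hy2)
      rw [show c * u * c⁻¹ = u0 by rw [hudef]; group,
        show c * y2 * c⁻¹ = y1 by rw [hy2def]; group] at h'
      rw [h, ← h', ← hEu e he u0 hu0 y1 hy1, show e * y1 * e⁻¹ = y by rw [hy1def]; group]
    have e2 : ⁅⁅c, e⁆, y⁆ = c * (e * y2 * e⁻¹) * c⁻¹ * y⁻¹ := by
      rw [hy2def, hy1def]; simp only [commutatorElement_def]; group
    rw [e2]
    refine hsep _ (mul_mem ha (inv_mem hy)) ?_
    have h := βr hu0 (mul_mem (hR1R ha) (inv_mem (hR1R hy))) (hR1R hy)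
    rw [inv_mul_cancel_right, e1] at h
    exact (add_eq_right.1 h.symm)
  · obtain ⟨hxC, hx2⟩ := mem_inf.1 hx
    obtain ⟨hx3, hxrV⟩ := mem_inf.1 hx2
    obtain ⟨hxR, hxR1⟩ := mem_inf.1 hx3
    have hpow : ∀ {w : G}, w ∈ X.R → ∃ k : ℕ, w ^ 3 ^ k = 1 := fun hw =>
      exists_pow_of_isPGroup X.R_p hw
    have hc1 : ∀ r ∈ rad, ⁅x, r⁆ = 1 := fun r hr => by
      have h := hxrV.2.2 r hr
      exact eq_one_of_stab hxo ((Y.CH.trans X.CV_cent hxC) _ h).symm
        (hpow (hradR (hVrad h)))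
    have hc2 : ∀ y ∈ R1, ⁅x, y⁆ = 1 := fun y hy => by
      have h := hxR1.2.2 y hy
      exact eq_one_of_stab hxo (commutatorElement_eq_one_iff_mul_comm.1 (hc1 _ h)) (hpow (hradR h))
    refine X.eq_one_of_cent hxo fun r hr => ?_
    have h := hxR.2.2 r hr
    exact (commutatorElement_eq_one_iff_mul_comm.1
      (eq_one_of_stab hxo (commutatorElement_eq_one_iff_mul_comm.1 (hc2 _ h)) (hpow (hR1R h)))).symm

end SubCtx

end Cfsg.Agent.Block39
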