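import Mathlib

/-!
Arithmetic behind the Hall subgroups of symmetric groups: binomial coefficients without small
prime divisors.
-/

set_option autoImplicit false

namespace Cfsg.Agent.HallSymArith76

/-- A carry in base `p` makes `p` divide the binomial coefficient. -/
theorem dvd_choose_of_carry {p a b i : ℕ} (hp : p.Prime) (hi : i ≠ 0)
    (h : p ^ i ≤ a % p ^ i + b % p ^ i) : p ∣ (a + b).choose b := by
  have hm : i ∈ (Finset.Ico 1 (max (Nat.log p (a + b) + 1) (i + 1))).filter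
      (fun j => p ^ j ≤ b % p ^ j + a % p ^ j) := by
    simp only [Finset.mem_filter, Finset.mem_Ico]
    exact ⟨⟨by omega, by omega⟩, by omega⟩
  apply Nat.dvd_of_factorization_pos
  rw [Nat.factorization_choose' (b := max (Nat.log p (a + b) + 1) (i + 1)) hp (by omega)]
  exact (Finset.card_pos.2 ⟨i, hm⟩).ne'

/-- Equal top binary digits give an even binomial coefficient. -/
theorem two_dvd_choose_of_log {a b : ℕ} (ha : a ≠ 0) (hb : b ≠ 0)
    (h : Nat.log 2 a = Nat.log 2 b) : 2 ∣ (a + b).choose b := by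
  refine dvd_choose_of_carry Nat.prime_two (i := Nat.log 2 b + 1) (by omega) ?_
  have h1 := Nat.pow_log_le_self 2 ha
  have h2 := Nat.pow_log_le_self 2 hb
  have h3 := Nat.lt_pow_succ_log_self (b := 2) (by norm_num) a
  have h4 := Nat.lt_pow_succ_log_self (b := 2) (by norm_num) b
  rw [h] at h1 h3
  rw [Nat.mod_eq_of_lt h3, Nat.mod_eq_of_lt h4, pow_succ]
  omega

theorem two_dvd_choose_self {a : ℕ} (ha : a ≠ 0) : 2 ∣ (a + a).choose a :=
  two_dvd_choose_of_log ha ha rfl

/-- `C(2k-1, k-1)` is even unless `k` is a power of two. -/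
theorem eq_two_pow_of_odd {a b : ℕ} (hab : a = b + 1) (hb : b ≠ 0)
    (h : ¬ 2 ∣ (a + b).choose b) : ∃ e, a = 2 ^ e := by
  refine ⟨Nat.log 2 b + 1, ?_⟩
  have h3 := Nat.lt_pow_succ_log_self (b := 2) (by norm_num) b
  by_contra hne
  apply h
  refine two_dvd_choose_of_log (by omega) hb ?_
  have h1 := Nat.pow_log_le_self 2 hb
  exact Nat.log_eq_of_pow_le_of_lt_pow (by omega) (by omega)

/-- `b + 1` divides `a` when no prime up to `b + 1` divides `C(a+b, b)`. -/
theorem succ_dvd_of_coprime {a b : ℕ}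
    (h : ∀ p, p.Prime → p ≤ b + 1 → ¬ p ∣ (a + b).choose b) : b + 1 ∣ a := by
  rw [Nat.dvd_iff_prime_pow_dvd_dvd]
  intro p k hp hk
  rcases Nat.eq_zero_or_pos k with rfl | hk0
  · simp
  obtain ⟨c, hc⟩ := hk
  have hP : 0 < p ^ k := pow_pos hp.pos k
  have hc0 : c ≠ 0 := by rintro rfl; simp at hc
  obtain ⟨d, rfl⟩ : ∃ d, c = d + 1 := ⟨c - 1, by omega⟩
  have hb : b % p ^ k = p ^ k - 1 := by
    have : b = p ^ k * d + (p ^ k - 1) := by rw [Nat.mul_add, mul_one] at hc; omega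
    rw [this, Nat.mul_add_mod, Nat.mod_eq_of_lt (by omega)]
  by_contra hne
  have hne' : a % p ^ k ≠ 0 := fun h0 => hne (Nat.dvd_of_mod_eq_zero h0)
  refine h p hp (Nat.le_of_dvd (by omega) ?_) (dvd_choose_of_carry hp (i := k) (by omega) (by omega))
  rw [hc]
  exact (dvd_pow_self p (by omega)).trans (dvd_mul_right _ _)

/-- The only binomial coefficient `C(a+b, b)`, `2 ≤ b ≤ a`, without prime divisors `≤ a` is
`C(7, 3)`. -/
theorem eq_four_three {a b : ℕ} (hb : 2 ≤ b) (hab : b ≤ a)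
    (h : ∀ p, p.Prime → p ≤ a → ¬ p ∣ (a + b).choose b) : a = 4 ∧ b = 3 := by
  rcases eq_or_lt_of_le hab with rfl | hlt
  · exact absurd (two_dvd_choose_self (by omega)) (h 2 Nat.prime_two (by omega))
  obtain ⟨k, hk⟩ : b + 1 ∣ a := succ_dvd_of_coprime fun p hp hple => h p hp (by omega)
  have hchoose : ∀ x : ℕ, (∀ p, p.Prime → p ∣ x → p ≤ a) → x.Coprime ((a + b).choose b) := by
    intro x hx
    rw [Nat.coprime_iff_gcd_eq_one]
    by_contra hne
    obtain ⟨p, hp, hpd⟩ := Nat.exists_prime_and_dvd hne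
    exact h p hp (hx p hp (hpd.trans (Nat.gcd_dvd_left _ _))) (hpd.trans (Nat.gcd_dvd_right _ _))
  obtain ⟨b', rfl⟩ : ∃ b', b = b' + 2 := ⟨b - 2, by omega⟩
  have e1 := Nat.add_one_mul_choose_eq (a + b' + 1) (b' + 1)
  have e2 := Nat.add_one_mul_choose_eq (a + b') b'
  have hn : (a + (b' + 2)).Prime := by
    by_contra hnp
    have hco := hchoose (a + (b' + 2)) fun p hp hpd => by
      obtain ⟨c, hc⟩ := hpd
      have : c ≠ 1 := fun h1 => hnp (by rw [hc, h1, mul_one]; exact hp)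
      have : c ≠ 0 := by rintro rfl; omega
      have : p * 2 ≤ p * c := Nat.mul_le_mul le_rfl (by omega)
      omega
    have hd : a + (b' + 2) ∣ (b' + 2) * (a + (b' + 2)).choose (b' + 2) :=
      ⟨(a + b' + 1).choose (b' + 1), by
        rw [show a + (b' + 2) = a + b' + 1 + 1 by ring]; linarith [e1]⟩
    have := Nat.le_of_dvd (by omega) (hco.dvd_of_dvd_mul_right hd)
    omega
  have hodd : ¬ 2 ∣ a + (b' + 2) := fun hd => by
    have := (Nat.prime_dvd_prime_iff_eq Nat.prime_two hn).1 hd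
    omega
  have hdiv : a + b' + 1 ∣ (b' + 2) * (b' + 1) := by
    have hco := hchoose (a + b' + 1) fun p hp hpd => by
      rcases eq_or_ne p 2 with rfl | hp2
      · omega
      have h2 : 2 * p ∣ a + b' + 1 :=
        Nat.Coprime.mul_dvd_of_dvd_of_dvd ((Nat.coprime_primes Nat.prime_two hp).2 (Ne.symm hp2))
          (by omega) hpd
      have := Nat.le_of_dvd (by omega) h2
      omega
    refine hco.dvd_of_dvd_mul_right ?_
    refine ⟨(a + b' + 1 + 1) * (a + b').choose b', ?_⟩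
    rw [show a + (b' + 2) = a + b' + 1 + 1 by ring]
    calc (b' + 2) * (b' + 1) * (a + b' + 1 + 1).choose (b' + 1 + 1)
        = (b' + 1) * ((a + b' + 1 + 1).choose (b' + 1 + 1) * (b' + 1 + 1)) := by ring
      _ = (b' + 1) * ((a + b' + 1 + 1) * (a + b' + 1).choose (b' + 1)) := by rw [← e1]
      _ = (a + b' + 1 + 1) * ((a + b' + 1).choose (b' + 1) * (b' + 1)) := by ring
      _ = _ := by rw [← e2]; ring
  obtain ⟨t, ht⟩ := hdiv
  have ht1 : b' + 3 ∣ 2 * (t + 1) := by
    have hz : ((b' : ℤ) + 3) ∣ 2 * ((t : ℤ) + 1) := by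
      have hk' : (a : ℤ) = ((b' : ℤ) + 3) * k := by exact_mod_cast hk
      have ht' : ((b' : ℤ) + 2) * (b' + 1) = ((a : ℤ) + b' + 1) * t := by exact_mod_cast ht
      exact ⟨(t : ℤ) * k + t - b', by linear_combination ht' + (t : ℤ) * hk'⟩
    exact_mod_cast hz
  have hle := Nat.le_of_dvd (by omega) ht1
  have ha : a = b' + 3 := by nlinarith
  subst ha
  have hk1 : ∃ e, b' + 3 = 2 ^ e :=
    eq_two_pow_of_odd (b := b' + 2) rfl (by omega) (h 2 Nat.prime_two (by omega))
  obtain ⟨e, he⟩ := hk1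
  rcases lt_trichotomy e 2 with he' | rfl | he'
  · have : 2 ^ e ≤ 2 ^ 1 := Nat.pow_le_pow_right (by norm_num) (by omega)
    omega
  · omega
  exfalso
  obtain ⟨f, rfl⟩ : ∃ f, e = f + 3 := ⟨e - 3, by omega⟩
  have hu : b' + 5 = 2 * (4 * 2 ^ f + 1) := by rw [pow_add] at he; omega
  have hf : 1 ≤ 2 ^ f := Nat.one_le_two_pow
  obtain ⟨p, i, hp, hi, hPu, hP5⟩ : ∃ p i, p.Prime ∧ i ≠ 0 ∧ p ^ i ∣ 4 * 2 ^ f + 1 ∧ 5 ≤ p ^ i := by
    by_cases hex : ∃ p, p.Prime ∧ p ∣ 4 * 2 ^ f + 1 ∧ p ≠ 3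
    · obtain ⟨p, hp, hpd, hp3⟩ := hex
      refine ⟨p, 1, hp, one_ne_zero, by rwa [pow_one], ?_⟩
      rw [pow_one]
      have := hp.two_le
      have : p ≠ 2 := by
        rintro rfl
        omega
      have : p ≠ 4 := by rintro rfl; norm_num at hp
      omega
    · push Not at hex
      have h3 : 4 * 2 ^ f + 1 = 3 ^ (4 * 2 ^ f + 1).primeFactorsList.length :=
        Nat.eq_prime_pow_of_unique_prime_dvd (by omega) fun {q} hq hqd => hex q hq hqd
      refine ⟨3, _, Nat.prime_three, ?_, (dvd_of_eq h3.symm), by omega⟩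
      intro h0
      rw [h0] at h3
      omega
  obtain ⟨c, hc⟩ := hPu
  have hc0 : c ≠ 0 := by rintro rfl; omega
  obtain ⟨d, rfl⟩ : ∃ d, c = d + 1 := ⟨c - 1, by omega⟩
  refine h p hp ?_ (dvd_choose_of_carry hp hi ?_)
  · have := Nat.le_self_pow hi p
    have : p ^ i ≤ p ^ i * (d + 1) := Nat.le_mul_of_pos_right _ (by omega)
    omega
  · rw [Nat.mul_add, mul_one] at hc
    have e1 : b' + 3 = p ^ i * (2 * d + 1) + (p ^ i - 2) := by
      rw [Nat.mul_add, mul_one, show p ^ i * (2 * d) = 2 * (p ^ i * d) by ring]; omega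
    have e2 : b' + 2 = p ^ i * (2 * d + 1) + (p ^ i - 3) := by
      rw [Nat.mul_add, mul_one, show p ^ i * (2 * d) = 2 * (p ^ i * d) by ring]; omega
    rw [e1, e2, Nat.mul_add_mod, Nat.mul_add_mod, Nat.mod_eq_of_lt (by omega),
      Nat.mod_eq_of_lt (by omega)]
    omega

theorem prime_of_coprime {a : ℕ} (ha : 1 ≤ a)
    (h : ∀ p, p.Prime → p ≤ a → ¬ p ∣ (a + 1).choose 1) : (a + 1).Prime := by
  rw [Nat.choose_one_right] at h
  obtain ⟨p, hp, hpd⟩ := Nat.exists_prime_and_dvd (n := a + 1) (by omega)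
  have : ¬ p ≤ a := fun hle => h p hp hle hpd
  have := Nat.le_of_dvd (by omega) hpd
  rwa [show a + 1 = p by omega]

/-- No binomial coefficient `C(a+b, b)`, `1 ≤ b ≤ a`, `a` prime, is prime to all primes `< a`. -/
theorem exists_dvd_choose_of_prime {a b : ℕ} (ha : a.Prime) (ha3 : 3 ≤ a) (hb : 1 ≤ b)
    (hab : b ≤ a) : ∃ p, p.Prime ∧ p < a ∧ p ∣ (a + b).choose b := by
  by_contra hne
  push Not at hne
  have hodd : a % 2 = 1 := ha.eq_two_or_odd.resolve_left (by omega)
  have hbe : b % 2 = 0 := by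
    by_contra h1
    exact hne 2 Nat.prime_two (by omega)
      (dvd_choose_of_carry Nat.prime_two (i := 1) one_ne_zero (by rw [pow_one]; omega))
  rcases lt_trichotomy (b + 1) a with hlt | heq | hgt
  · have := (Nat.dvd_prime ha).1 (succ_dvd_of_coprime fun p hp hle => hne p hp (by omega))
    omega
  · obtain ⟨e, he⟩ := eq_two_pow_of_odd (a := a) (b := b) heq.symm (by omega)
      (hne 2 Nat.prime_two (by omega))
    rcases e with _ | e
    · omega
    · rw [pow_succ] at he; omega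
  · omega

theorem exists_dvd_choose_small : ∀ a ∈ ({7, 8} : Finset ℕ), ∀ b ∈ Finset.Icc 1 a,
    2 ∣ (a + b).choose b ∨ 3 ∣ (a + b).choose b := by
  decide

/-- If `s ≤ n`, `2 * m ≤ n` then `n!` has a higher power of the prime `s` than `m!`. -/
theorem factorization_factorial_lt {s m n : ℕ} (hs : s.Prime) (hsn : s ≤ n) (hmn : 2 * m ≤ n) :
    (m.factorial).factorization s < (n.factorial).factorization s := by
  obtain ⟨j, hjm, hjn, hsj⟩ : ∃ j, m < j ∧ j ≤ n ∧ s ∣ j := by
    by_cases h : s ≤ m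
    · refine ⟨s * (m / s + 1), ?_, ?_, dvd_mul_right _ _⟩
      · have := Nat.lt_mul_div_succ m hs.pos
        linarith
      · have := Nat.mul_div_le m s
        rw [mul_add, mul_one]
        omega
    · exact ⟨s, by omega, hsn, dvd_rfl⟩
  have hd : s * m.factorial ∣ n.factorial := by
    refine (mul_dvd_mul hsj (Nat.factorial_dvd_factorial (show m ≤ j - 1 by omega))).trans ?_
    rw [show j * (j - 1).factorial = j.factorial from Nat.mul_factorial_pred (by omega)]
    exact Nat.factorial_dvd_factorial hjn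
  have hsm : s * m.factorial ≠ 0 := Nat.mul_ne_zero hs.ne_zero m.factorial_ne_zero
  have h2 := (Nat.factorization_le_iff_dvd hsm n.factorial_ne_zero).2 hd s
  rw [Nat.factorization_mul hs.ne_zero m.factorial_ne_zero, Finsupp.coe_add, Pi.add_apply,
    hs.factorization_self] at h2
  omega

end Cfsg.Agent.HallSymArith76
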