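import Mathlib
import Cfsg.Agent.Lib.HallSymArith76

/-!
Subgroups of the symmetric group containing a Hall subgroup of the alternating group: restriction
to invariant sets and to blocks.
-/

set_option autoImplicit false

open Equiv Equiv.Perm
open scoped Pointwise

namespace Cfsg.Agent.HallSymBasic76

universe u

/-- `H` is a `π`-group containing a Hall `π`-subgroup of the alternating group. -/
structure Near {α : Type u} [Fintype α] [DecidableEq α] (π : Set ℕ) (H : Subgroup (Perm α)) :
    Prop where
  pi : ∀ p : ℕ, p.Prime → p ∣ Nat.card H → p ∈ π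
  big : ∀ p : ℕ, p.Prime → p ∈ π → ((Fintype.card α).factorial).factorization p ≤
    (Nat.card ↥(H ⊓ alternatingGroup α)).factorization p + (if p = 2 then 1 else 0)

theorem fact_le_of_dvd {a b p : ℕ} (hb : b ≠ 0) (h : a ∣ b) :
    a.factorization p ≤ b.factorization p :=
  (Nat.factorization_le_iff_dvd (fun ha => hb (by rw [ha] at h; simpa using h)) hb).2 h p

theorem fact_mul {a b p : ℕ} (ha : a ≠ 0) (hb : b ≠ 0) :
    (a * b).factorization p = a.factorization p + b.factorization p := by
  rw [Nat.factorization_mul ha hb, Finsupp.coe_add, Pi.add_apply]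

theorem not_dvd_of_fact {a p : ℕ} (hp : p.Prime) (ha : a ≠ 0) (h : a.factorization p = 0) :
    ¬ p ∣ a := fun hd => by
  have := hp.factorization_pos_of_dvd ha hd
  omega

section

variable {α : Type u}

/-- Restriction to an invariant predicate. -/
def res (G : Subgroup (Perm α)) (p : α → Prop) (h : ∀ g ∈ G, ∀ x, p (g x) ↔ p x) :
    G →* Perm (Subtype p) where
  toFun g := (g : Perm α).subtypePerm (h _ g.2)
  map_one' := by ext x; rfl
  map_mul' a b := by ext x; rfl

@[simp] theorem res_apply (G : Subgroup (Perm α)) (p : α → Prop)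
    (h : ∀ g ∈ G, ∀ x, p (g x) ↔ p x) (g : G) (x : Subtype p) :
    ((res G p h g x : Subtype p) : α) = (g : Perm α) x := rfl

theorem res_eq_one_iff (G : Subgroup (Perm α)) (p : α → Prop)
    (h : ∀ g ∈ G, ∀ x, p (g x) ↔ p x) (g : G) :
    res G p h g = 1 ↔ ∀ x, p x → (g : Perm α) x = x := by
  constructor
  · intro he x hx
    simpa using congrArg Subtype.val (Equiv.ext_iff.1 he ⟨x, hx⟩)
  · intro he
    ext x
    simpa using he x.1 x.2

theorem card_range_dvd_prod {ι : Type*} [Fintype ι] {N P : Type*} [Group N] [Finite N] [Group P]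
    {Q : ι → Type*} [∀ i, Group (Q i)] (f : N →* P) (g : ∀ i, N →* Q i)
    (h : ∀ n, (∀ i, g i n = 1) → f n = 1) :
    Nat.card f.range ∣ ∏ i, Nat.card (g i).range := by
  let φ : N →* ∀ i, (g i).range := Pi.monoidHom fun i => (g i).rangeRestrict
  have hle : φ.ker ≤ f.ker := fun n hn => h n fun i => by
    exact congrArg Subtype.val (congrFun (MonoidHom.mem_ker.1 hn) i)
  rw [← Subgroup.index_ker f]
  refine (Subgroup.index_dvd_of_le hle).trans ?_
  rw [Subgroup.index_ker φ, ← Nat.card_pi]
  exact Subgroup.card_subgroup_dvd_card _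

variable [Fintype α] [DecidableEq α]

theorem card_dvd_two_mul (K : Subgroup (Perm α)) :
    Nat.card K ∣ 2 * Nat.card ↥(K ⊓ alternatingGroup α) := by
  let σ : K →* ℤˣ := sign.comp K.subtype
  have hk : σ.ker = (K ⊓ alternatingGroup α).subgroupOf K := by
    ext g
    simp [σ, Subgroup.mem_subgroupOf, mem_alternatingGroup]
  rw [← σ.ker.card_mul_index, Subgroup.index_ker σ, hk,
    Nat.card_congr (Subgroup.subgroupOfEquivOfLe (inf_le_left : K ⊓ alternatingGroup α ≤ K)).toEquiv,
    mul_comm 2]
  refine mul_dvd_mul_left _ ((Subgroup.card_subgroup_dvd_card _).trans (dvd_of_eq ?_))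
  rw [Nat.card_eq_fintype_card, Fintype.card_units_int]

theorem two_mul_card_dvd_factorial (hα : 2 ≤ Fintype.card α) (K : Subgroup (Perm α))
    (hK : K ≤ alternatingGroup α) : 2 * Nat.card K ∣ (Fintype.card α).factorial := by
  have : Nontrivial α := Fintype.one_lt_card_iff_nontrivial.1 (by omega)
  rw [← Fintype.card_perm, ← two_mul_card_alternatingGroup, ← Nat.card_eq_fintype_card]
  exact mul_dvd_mul_left _ (Subgroup.card_dvd_of_le hK)

theorem sign_res (G : Subgroup (Perm α)) (p : α → Prop) [DecidablePred p]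
    [Fintype (Subtype p)] [Fintype {x // ¬ p x}]
    (hp : ∀ g ∈ G, ∀ x, p (g x) ↔ p x) (g : G) :
    sign (g : Perm α) = sign (res G p hp g) *
      sign (res G (fun x => ¬ p x) (fun g hg x => not_congr (hp g hg x)) g) := by
  have he : (g : Perm α) = (res G p hp g).subtypeCongr
      (res G (fun x => ¬ p x) (fun g hg x => not_congr (hp g hg x)) g) := by
    ext x
    rw [Perm.subtypeCongr.apply]
    split_ifs <;> simp
  conv_lhs => rw [he]
  convert sign_subtypeCongr _ _

/-- Even permutations preserving a predicate embed in the product of the two restrictions, properly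
if one of them contains an odd permutation. -/
theorem card_dvd_res (G : Subgroup (Perm α)) (hG : G ≤ alternatingGroup α) (p : α → Prop)
    [DecidablePred p] [Fintype (Subtype p)] [Fintype {x // ¬ p x}]
    (hp : ∀ g ∈ G, ∀ x, p (g x) ↔ p x) :
    let K := (res G p hp).range
    let L := (res G (fun x => ¬ p x) (fun g hg x => not_congr (hp g hg x))).range
    Nat.card G ∣ Nat.card K * Nat.card L ∧
      (¬ (K ≤ alternatingGroup (Subtype p) ∧ L ≤ alternatingGroup {x // ¬ p x}) →
        2 * Nat.card G ∣ Nat.card K * Nat.card L) := by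
  intro K L
  let φ : G →* K × L := (res G p hp).rangeRestrict.prod
    (res G (fun x => ¬ p x) (fun g hg x => not_congr (hp g hg x))).rangeRestrict
  have hφ : Function.Injective φ := by
    rw [← MonoidHom.ker_eq_bot_iff, eq_bot_iff]
    intro g hg
    have h1 := congrArg (fun z : K × L => (z.1 : Perm (Subtype p))) (MonoidHom.mem_ker.1 hg)
    have h2 := congrArg (fun z : K × L => (z.2 : Perm {x // ¬ p x})) (MonoidHom.mem_ker.1 hg)
    replace h1 := (res_eq_one_iff G p hp g).1 h1
    replace h2 := (res_eq_one_iff G _ _ g).1 h2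
    refine Subtype.ext (Equiv.ext fun x => ?_)
    by_cases hx : p x
    · exact h1 x hx
    · exact h2 x hx
  have hcard : Nat.card φ.range = Nat.card G :=
    (Nat.card_congr (MonoidHom.ofInjective hφ).toEquiv).symm
  rw [← Nat.card_prod, ← hcard]
  refine ⟨Subgroup.card_subgroup_dvd_card _, fun hodd => ?_⟩
  let σ : K × L →* ℤˣ := (sign.comp (K.subtype.comp (MonoidHom.fst K L))) *
    (sign.comp (L.subtype.comp (MonoidHom.snd K L)))
  have hle : φ.range ≤ σ.ker := by
    rintro _ ⟨g, rfl⟩
    rw [MonoidHom.mem_ker]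
    show sign (res G p hp g) *
      sign (res G (fun x => ¬ p x) (fun g hg x => not_congr (hp g hg x)) g) = 1
    rw [← sign_res G p hp g, mem_alternatingGroup.1 (hG g.2)]
  have hsurj : Function.Surjective σ := by
    obtain ⟨z, hz⟩ : ∃ z, σ z = -1 := by
      rw [not_and_or] at hodd
      rcases hodd with hodd | hodd <;> rw [SetLike.not_le_iff_exists] at hodd <;>
        obtain ⟨x, hx, hxn⟩ := hodd <;> rw [mem_alternatingGroup] at hxn
      · refine ⟨(⟨x, hx⟩, 1), ?_⟩
        show sign x * sign (1 : Perm {x // ¬ p x}) = -1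
        rw [map_one, mul_one]
        exact (Int.units_eq_one_or _).resolve_left hxn
      · refine ⟨(1, ⟨x, hx⟩), ?_⟩
        show sign (1 : Perm (Subtype p)) * sign x = -1
        rw [map_one, one_mul]
        exact (Int.units_eq_one_or _).resolve_left hxn
    intro y
    rcases Int.units_eq_one_or y with rfl | rfl
    · exact ⟨1, map_one σ⟩
    · exact ⟨z, hz⟩
  have h2 : σ.ker.index = 2 := by
    rw [Subgroup.index_ker σ, MonoidHom.range_eq_top.2 hsurj, Subgroup.card_top,
      Nat.card_eq_fintype_card, Fintype.card_units_int]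
  rw [← σ.ker.card_mul_index, h2, mul_comm 2]
  exact mul_dvd_mul_right (Subgroup.card_dvd_of_le hle) 2

/-- Near property from the order. -/
theorem near_of_card {π : Set ℕ} {K : Subgroup (Perm α)}
    (hpi : ∀ p : ℕ, p.Prime → p ∣ Nat.card K → p ∈ π)
    (hne : ∀ p : ℕ, p.Prime → p ∈ π → p ≠ 2 →
      ((Fintype.card α).factorial).factorization p ≤ (Nat.card K).factorization p)
    (htwo : 2 ∈ π → ((Fintype.card α).factorial).factorization 2 ≤ (Nat.card K).factorization 2 ∨
      (K ≤ alternatingGroup α ∧
        ((Fintype.card α).factorial).factorization 2 ≤ (Nat.card K).factorization 2 + 1)) :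
    Near π K := by
  refine ⟨hpi, fun p hp hpπ => ?_⟩
  have hd := fact_le_of_dvd (p := p) (Nat.mul_ne_zero two_ne_zero Nat.card_pos.ne')
    (card_dvd_two_mul K)
  rw [fact_mul two_ne_zero Nat.card_pos.ne'] at hd
  by_cases hp2 : p = 2
  · subst hp2
    rw [if_pos rfl]
    rw [Nat.prime_two.factorization_self] at hd
    rcases htwo hpπ with h | ⟨hK, h⟩
    · omega
    · rwa [inf_eq_left.2 hK]
  · have := hne p hp hpπ hp2
    rw [if_neg hp2]
    rw [Nat.Prime.factorization Nat.prime_two, Finsupp.single_apply, if_neg (Ne.symm hp2)] at hd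
    omega

theorem pi_of_dvd {π : Set ℕ} {H : Subgroup (Perm α)} (hH : Near π H) {d : ℕ}
    (hd : d ∣ Nat.card H) : ∀ p : ℕ, p.Prime → p ∣ d → p ∈ π :=
  fun p hp hpd => hH.pi p hp (hpd.trans hd)

/-- Restriction to an invariant set. -/
theorem near_invariant {π : Set ℕ} {H : Subgroup (Perm α)} (hH : Near π H) (A : Finset α)
    (hA : ∀ g ∈ H ⊓ alternatingGroup α, ∀ x, g x ∈ A ↔ x ∈ A) (ha : 2 ≤ A.card) :
    Near π (res (H ⊓ alternatingGroup α) (· ∈ A) hA).range ∧
      ∀ p : ℕ, p.Prime → p ∈ π →
        ¬ p ∣ (A.card + (Fintype.card α - A.card)).choose (Fintype.card α - A.card) := by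
  set M := H ⊓ alternatingGroup α
  set K := (res M (· ∈ A) hA).range
  set L := (res M (fun x => ¬ x ∈ A) (fun g hg x => not_congr (hA g hg x))).range
  set n := Fintype.card α
  set b := n - A.card
  obtain ⟨h1, h2⟩ := card_dvd_res M inf_le_right (· ∈ A) hA
  have hn : A.card + b = n := by have := A.card_le_univ; omega
  have hcA : Fintype.card {x // x ∈ A} = A.card := Fintype.card_coe A
  have hcB : Fintype.card {x // ¬ x ∈ A} = b := by
    rw [Fintype.card_subtype_compl, hcA]
  have hK0 : Nat.card K * Nat.card L ≠ 0 := Nat.mul_ne_zero Nat.card_pos.ne' Nat.card_pos.ne'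
  have hKle : Nat.card K ∣ A.card.factorial := by
    rw [← hcA, ← Fintype.card_perm, ← Nat.card_eq_fintype_card]
    exact Subgroup.card_subgroup_dvd_card _
  have hLle : Nat.card L ∣ b.factorial := by
    rw [← hcB, ← Fintype.card_perm, ← Nat.card_eq_fintype_card]
    exact Subgroup.card_subgroup_dvd_card _
  have hsum : ∀ p, n.factorial.factorization p = ((A.card + b).choose b).factorization p +
      A.card.factorial.factorization p + b.factorial.factorization p := by
    intro p
    have := Nat.choose_mul_factorial_mul_factorial (n := A.card + b) (k := b) le_add_self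
    rw [Nat.add_sub_cancel, hn] at this
    rw [hn, ← this]
    have hc : n.choose b ≠ 0 := (Nat.choose_pos (by omega)).ne'
    rw [fact_mul (Nat.mul_ne_zero hc b.factorial_ne_zero) A.card.factorial_ne_zero,
      fact_mul hc b.factorial_ne_zero]
    omega
  have hC0 : (A.card + b).choose b ≠ 0 := (Nat.choose_pos le_add_self).ne'
  have key : ∀ p : ℕ, p.Prime → p ∈ π → ((A.card + b).choose b).factorization p = 0 ∧
      ((p ≠ 2 → A.card.factorial.factorization p ≤ (Nat.card K).factorization p) ∧
      (A.card.factorial.factorization p ≤ (Nat.card K).factorization p ∨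
        (K ≤ alternatingGroup _ ∧
          A.card.factorial.factorization p ≤ (Nat.card K).factorization p + 1))) := by
    intro p hp hpπ
    have hb : n.factorial.factorization p ≤
        (Nat.card M).factorization p + (if p = 2 then 1 else 0) := hH.big p hp hpπ
    have e1 := fact_le_of_dvd (p := p) hK0 h1
    rw [fact_mul Nat.card_pos.ne' Nat.card_pos.ne'] at e1
    have e2 := fact_le_of_dvd (p := p) A.card.factorial_ne_zero hKle
    have e3 := fact_le_of_dvd (p := p) b.factorial_ne_zero hLle
    have e4 := hsum p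
    by_cases hp2 : p = 2
    · subst hp2
      rw [if_pos rfl] at hb
      by_cases hodd : K ≤ alternatingGroup _ ∧ L ≤ alternatingGroup _
      · have e5 := fact_le_of_dvd (p := 2) (Nat.factorial_ne_zero _)
          (two_mul_card_dvd_factorial (by rw [hcA]; exact ha) K hodd.1)
        rw [fact_mul two_ne_zero Nat.card_pos.ne', Nat.prime_two.factorization_self, hcA] at e5
        exact ⟨by omega, fun h => absurd rfl h, Or.inr ⟨hodd.1, by omega⟩⟩
      · have e5 := fact_le_of_dvd (p := 2) hK0 (h2 hodd)
        rw [fact_mul two_ne_zero Nat.card_pos.ne', Nat.prime_two.factorization_self,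
          fact_mul Nat.card_pos.ne' Nat.card_pos.ne'] at e5
        exact ⟨by omega, fun h => absurd rfl h, Or.inl (by omega)⟩
    · rw [if_neg hp2] at hb
      exact ⟨by omega, fun _ => by omega, Or.inl (by omega)⟩
  refine ⟨near_of_card (pi_of_dvd hH ?_) ?_ ?_, fun p hp hpπ =>
    not_dvd_of_fact hp hC0 (key p hp hpπ).1⟩
  · exact (Subgroup.card_range_dvd _).trans (Subgroup.card_dvd_of_le inf_le_left)
  · intro p hp hpπ hp2
    rw [hcA]
    exact (key p hp hpπ).2.1 hp2
  · intro h2π
    rw [hcA]
    exact (key 2 Nat.prime_two h2π).2.2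

/-- Restriction to a block. -/
theorem near_block {π : Set ℕ} {H : Subgroup (Perm α)} (hH : Near π H)
    [MulAction.IsPretransitive H α] (B : Finset α) (hB : MulAction.IsBlock H (B : Set α))
    (hB2 : 2 ≤ B.card) (hBn : B.card < Fintype.card α) :
    ∃ m : ℕ, 2 ≤ m ∧ m * B.card = Fintype.card α ∧
      (∃ K : Subgroup (Perm {x // x ∈ B}), Near π K) ∧
      ∀ p : ℕ, p.Prime → p ∈ π → ¬ p ∣ m.uniformBell B.card ∧
        (p ≤ Fintype.card α → p ≤ B.card) := by
  classical
  set M := H ⊓ alternatingGroup α with hM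
  set n := Fintype.card α
  set k := B.card
  let X := MulAction.orbit H (B : Set α)
  let m := Nat.card X
  have hne : (B : Set α).Nonempty := by
    rw [Finset.coe_nonempty, ← Finset.card_pos]; omega
  have hnm : m * k = n := by
    have := hB.ncard_block_mul_ncard_orbit_eq hne
    rw [Set.ncard_coe_finset, ← Nat.card_coe_set_eq, Nat.card_eq_fintype_card (α := α)] at this
    rw [mul_comm]
    exact this
  have hm2 : 2 ≤ m := by
    by_contra hlt
    have : m * k ≤ 1 * k := Nat.mul_le_mul (by omega) le_rfl
    omega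
  refine ⟨m, hm2, hnm, ?_⟩
  let N : Subgroup (Perm α) :=
    { carrier := {g | g ∈ M ∧ ∀ C ∈ X, ∀ x, g x ∈ C ↔ x ∈ C}
      mul_mem' := fun {a b} ha hb => ⟨mul_mem ha.1 hb.1,
        fun C hC x => (ha.2 C hC (b x)).trans (hb.2 C hC x)⟩
      one_mem' := ⟨one_mem M, fun _ _ _ => Iff.rfl⟩
      inv_mem' := fun {a} ha => ⟨inv_mem ha.1, fun C hC x => by
        have := ha.2 C hC (a⁻¹ x)
        simpa using this.symm⟩ }
  have hNM : N ≤ M := fun g hg => hg.1
  have hMH : M ≤ H := inf_le_left
  -- the action on the blocks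
  let ψ : M →* Perm X := (MulAction.toPermHom H X).comp (Subgroup.inclusion hMH)
  have hψ : ψ.ker = N.subgroupOf M := by
    ext g
    rw [MonoidHom.mem_ker, Subgroup.mem_subgroupOf]
    constructor
    · intro hg
      refine ⟨g.2, fun C hC x => ?_⟩
      have h1 : (Subgroup.inclusion hMH g) • C = C :=
        congrArg Subtype.val (Equiv.ext_iff.1 hg ⟨C, hC⟩)
      conv_lhs => rw [← h1]
      exact Set.smul_mem_smul_set_iff (a := Subgroup.inclusion hMH g) (x := x)
    · intro hg
      refine Equiv.ext fun C => Subtype.ext ?_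
      show (Subgroup.inclusion hMH g) • (C : Set α) = C
      ext x
      obtain ⟨y, rfl⟩ : ∃ y, x = (Subgroup.inclusion hMH g) • y :=
        ⟨(Subgroup.inclusion hMH g)⁻¹ • x, (smul_inv_smul _ _).symm⟩
      rw [Set.smul_mem_smul_set_iff]
      exact (hg.2 C C.2 y).symm
  have hMdvd : Nat.card M ∣ Nat.card N * m.factorial := by
    rw [← ψ.ker.card_mul_index, Subgroup.index_ker ψ, hψ,
      Nat.card_congr (Subgroup.subgroupOfEquivOfLe hNM).toEquiv, ← Nat.card_perm]
    exact mul_dvd_mul_left _ (Subgroup.card_subgroup_dvd_card _)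
  let f : ∀ C : X, N →* Perm {x // x ∈ (C : Set α)} := fun C =>
    res N (fun x => x ∈ (C : Set α)) fun g hg x => hg.2 C C.2 x
  have hBX : (B : Set α) ∈ X := MulAction.mem_orbit_self _
  have hconj : ∀ C : X, Nat.card (f C).range = Nat.card (f ⟨_, hBX⟩).range := by
    rintro ⟨C, h, rfl⟩
    have hstab : ∀ g ∈ N, ∀ k ∈ H, k * g * k⁻¹ ∈ N := by
      intro g hg k hk
      refine ⟨⟨H.mul_mem (H.mul_mem hk (hMH hg.1)) (H.inv_mem hk),
        Subgroup.Normal.conj_mem inferInstance g hg.1.2 k⟩, ?_⟩
      intro D hD x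
      have hD' : (⟨k, hk⟩ : H)⁻¹ • D ∈ X := MulAction.mem_orbit_of_mem_orbit _ hD
      have := hg.2 _ hD' (k⁻¹ x)
      simp only [Set.mem_inv_smul_set_iff] at this
      simpa [Subgroup.smul_def] using this
    let φ : N →* N :=
      { toFun := fun g => ⟨(h : Perm α) * g * (h : Perm α)⁻¹, hstab g g.2 h h.2⟩
        map_one' := by ext x; simp
        map_mul' := fun a b => by ext x; simp }
    have hφ : Function.Bijective φ := by
      refine ⟨fun a b hab => ?_, fun b => ⟨⟨_, hstab b b.2 (h : Perm α)⁻¹ (inv_mem h.2)⟩, ?_⟩⟩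
      · have := congrArg Subtype.val hab
        simpa [φ] using this
      · apply Subtype.ext
        simp [φ, mul_assoc]
    rw [← Subgroup.index_ker (f _), ← Subgroup.index_ker (f ⟨_, hBX⟩),
      ← Subgroup.index_comap_of_surjective _ hφ.2]
    congr 1
    ext g
    simp only [Subgroup.mem_comap, MonoidHom.mem_ker, f, res_eq_one_iff, φ, MonoidHom.coe_mk,
      OneHom.coe_mk, Perm.mul_apply]
    constructor
    · intro hg x hx
      have := hg (h • x) (Set.smul_mem_smul_set hx)
      simpa [Subgroup.smul_def] using this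
    · intro hg x hx
      obtain ⟨y, hy, rfl⟩ := hx
      simp [Subgroup.smul_def, hg y hy]
  set fB := res N (· ∈ B) (fun g hg x => hg.2 _ hBX x) with hfB
  set r := Nat.card fB.range with hr
  have hr' : Nat.card (f ⟨_, hBX⟩).range = r := by
    rw [hr, ← Subgroup.index_ker, ← Subgroup.index_ker]
    congr 1
  have hrest : Nat.card (res N (fun x => ¬ x ∈ B)
      (fun g hg x => not_congr (hg.2 _ hBX x))).range ∣ r ^ (m - 1) := by
    have hd := card_range_dvd_prod (res N (fun x => ¬ x ∈ B)
      (fun g hg x => not_congr (hg.2 _ hBX x)))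
      (fun C : {C : X // C ≠ ⟨_, hBX⟩} => f C.1) fun g hg => by
        rw [res_eq_one_iff]
        intro x hx
        obtain ⟨b, hb⟩ := hne
        obtain ⟨t, ht⟩ := MulAction.exists_smul_eq H b x
        have hx' : x ∈ t • (B : Set α) := ht ▸ Set.smul_mem_smul_set hb
        refine (res_eq_one_iff _ _ _ g).1
          (hg ⟨⟨t • (B : Set α), MulAction.mem_orbit _ t⟩, ?_⟩) x hx'
        intro he
        rw [Subtype.mk.injEq] at he
        exact hx (Finset.mem_coe.1 (he ▸ hx' :))
    refine hd.trans (dvd_of_eq ?_)
    rw [Finset.prod_congr rfl (fun C _ => (hconj C.1).trans hr'), Finset.prod_const,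
      Finset.card_univ, Fintype.card_subtype_compl, Fintype.card_subtype_eq,
      ← Nat.card_eq_fintype_card]
  obtain ⟨d1, d2⟩ := card_dvd_res N (hNM.trans inf_le_right) (· ∈ B)
    (fun g hg x => hg.2 _ hBX x)
  have hr0 : r ≠ 0 := Nat.card_pos.ne'
  have hrm : r * r ^ (m - 1) = r ^ m := by rw [← pow_succ', show m - 1 + 1 = m by omega]
  have hN1 : Nat.card N ∣ r ^ m := hrm ▸ d1.trans (mul_dvd_mul_left _ hrest)
  have hN2 : ¬ (fB.range ≤ alternatingGroup _) → 2 * Nat.card N ∣ r ^ m := fun h =>
    hrm ▸ (d2 fun hh => h hh.1).trans (mul_dvd_mul_left _ hrest)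
  have hcB : Fintype.card {x // x ∈ B} = k := Fintype.card_coe B
  have hrk : r ∣ k.factorial := by
    rw [← hcB, ← Fintype.card_perm, ← Nat.card_eq_fintype_card]
    exact Subgroup.card_subgroup_dvd_card _
  have hk0 : k ≠ 0 := by omega
  have hbell : m.uniformBell k ≠ 0 := by
    intro h0
    have := Nat.uniformBell_mul_eq m hk0
    rw [h0] at this
    simp at this
    exact Nat.factorial_ne_zero _ this.symm
  have key : ∀ p : ℕ, p.Prime → p ∈ π → (m.uniformBell k).factorization p = 0 ∧
      k.factorial.factorization p ≤ r.factorization p ∧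
      n.factorial.factorization p =
        m.factorial.factorization p + m * k.factorial.factorization p := by
    intro p hp hpπ
    have hb : n.factorial.factorization p ≤
        (Nat.card M).factorization p + (if p = 2 then 1 else 0) := hH.big p hp hpπ
    have e0 : n.factorial.factorization p = (m.uniformBell k).factorization p +
        m * k.factorial.factorization p + m.factorial.factorization p := by
      rw [← hnm, ← Nat.uniformBell_mul_eq m hk0,
        fact_mul (Nat.mul_ne_zero hbell (pow_ne_zero _ k.factorial_ne_zero)) m.factorial_ne_zero,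
        fact_mul hbell (pow_ne_zero _ k.factorial_ne_zero), Nat.factorization_pow,
        Finsupp.smul_apply, smul_eq_mul]
    have e1 := fact_le_of_dvd (p := p) (Nat.mul_ne_zero Nat.card_pos.ne' m.factorial_ne_zero) hMdvd
    rw [fact_mul Nat.card_pos.ne' m.factorial_ne_zero] at e1
    have e2 := fact_le_of_dvd (p := p) (pow_ne_zero _ hr0) hN1
    rw [Nat.factorization_pow, Finsupp.smul_apply, smul_eq_mul] at e2
    have e3 := fact_le_of_dvd (p := p) k.factorial_ne_zero hrk
    have e4 : m * r.factorization p ≤ m * k.factorial.factorization p := Nat.mul_le_mul_left _ e3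
    have fin : n.factorial.factorization p ≤ m.factorial.factorization p + m * r.factorization p →
        (m.uniformBell k).factorization p = 0 ∧ k.factorial.factorization p ≤ r.factorization p ∧
          n.factorial.factorization p =
            m.factorial.factorization p + m * k.factorial.factorization p := fun h =>
      ⟨by omega, Nat.le_of_mul_le_mul_left
        (show m * k.factorial.factorization p ≤ m * r.factorization p by omega) (by omega), by omega⟩
    by_cases hp2 : p = 2
    · subst hp2
      rw [if_pos rfl] at hb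
      by_cases hodd : fB.range ≤ alternatingGroup _
      · have e5 := fact_le_of_dvd (p := 2) (Nat.factorial_ne_zero _)
          (two_mul_card_dvd_factorial (by rw [hcB]; exact hB2) fB.range hodd)
        rw [fact_mul two_ne_zero hr0, Nat.prime_two.factorization_self, hcB] at e5
        have : m * (1 + r.factorization 2) ≤ m * k.factorial.factorization 2 :=
          Nat.mul_le_mul_left _ e5
        rw [mul_add, mul_one] at this
        omega
      · have e5 := fact_le_of_dvd (p := 2) (pow_ne_zero _ hr0) (hN2 hodd)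
        rw [fact_mul two_ne_zero Nat.card_pos.ne', Nat.prime_two.factorization_self,
          Nat.factorization_pow, Finsupp.smul_apply, smul_eq_mul] at e5
        exact fin (by omega)
    · rw [if_neg hp2] at hb
      exact fin (by omega)
  refine ⟨⟨fB.range, near_of_card (pi_of_dvd hH ?_) ?_ ?_⟩, fun p hp hpπ =>
    ⟨not_dvd_of_fact hp hbell (key p hp hpπ).1, fun hpn => ?_⟩⟩
  · exact (Subgroup.card_range_dvd _).trans (Subgroup.card_dvd_of_le (hNM.trans hMH))
  · intro p hp hpπ _
    rw [hcB]
    exact (key p hp hpπ).2.1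
  · intro h2π
    rw [hcB]
    exact Or.inl (key 2 Nat.prime_two h2π).2.1
  · by_contra hpk
    have h0 : k.factorial.factorization p = 0 := Nat.factorization_eq_zero_of_not_dvd
      fun hd => hpk ((Nat.Prime.dvd_factorial hp).1 hd)
    have := (key p hp hpπ).2.2
    rw [h0, mul_zero, add_zero] at this
    have h2m : 2 * m ≤ n := by
      rw [← hnm, mul_comm 2]
      exact Nat.mul_le_mul_left _ hB2
    have := HallSymArith76.factorization_factorial_lt hp hpn h2m
    omega

end

end Cfsg.Agent.HallSymBasic76
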