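import Mathlib
import Cfsg.Agent.Lib.HallSymArith76
import Cfsg.Agent.Lib.HallSymBasic76

/-!
Subgroups of the symmetric group containing a Hall subgroup of the alternating group.
-/

set_option autoImplicit false

open Equiv Equiv.Perm
open scoped Pointwise

namespace Cfsg.Agent.HallSymCore76

open Cfsg.Agent.HallSymBasic76 Cfsg.Agent.HallSymArith76

universe u

/-- The possible Hall subgroups. -/
def Concl {α : Type u} [Fintype α] (π : Set ℕ) (H : Subgroup (Perm α)) : Prop :=
  (∀ p : ℕ, p.Prime → p ≤ Fintype.card α → p ∈ π) ∨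
  ((Fintype.card α).Prime ∧ (∀ p : ℕ, p.Prime → p ≤ Fintype.card α → (p ∈ π ↔ p < Fintype.card α)) ∧
    ∃ x, ∀ h ∈ H, h x = x) ∨
  (Fintype.card α = 7 ∧ (∀ p : ℕ, p.Prime → p ≤ Fintype.card α → (p ∈ π ↔ (p = 2 ∨ p = 3))) ∧
    ∃ A : Finset α, A.card = 4 ∧ ∀ h ∈ H, ∀ x, h x ∈ A ↔ x ∈ A) ∨
  (Fintype.card α = 8 ∧ (∀ p : ℕ, p.Prime → p ≤ Fintype.card α → (p ∈ π ↔ (p = 2 ∨ p = 3))) ∧
    ∃ A : Finset α, A.card = 4 ∧ ∀ h ∈ H,
      (∀ x, h x ∈ A ↔ x ∈ A) ∨ (∀ x, h x ∈ A ↔ x ∉ A))

theorem exists_conj_le {G : Type*} [Group G] [Finite G] {p : ℕ} [Fact p.Prime] (M E : Subgroup G)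
    (hE : IsPGroup p E) (hM : (Nat.card G).factorization p ≤ (Nat.card M).factorization p) :
    ∃ g : G, ∀ e ∈ E, g * e * g⁻¹ ∈ M := by
  obtain ⟨P⟩ : Nonempty (Sylow p M) := inferInstance
  have hc : Nat.card ↥((P : Subgroup M).map M.subtype) = p ^ (Nat.card G).factorization p := by
    rw [Subgroup.card_map_of_injective M.subtype_injective, Sylow.card_eq_multiplicity]
    congr 1
    exact le_antisymm (fact_le_of_dvd Nat.card_pos.ne' M.card_subgroup_dvd_card) hM
  obtain ⟨Q, hQ⟩ := hE.exists_le_sylow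
  obtain ⟨g, hg⟩ := MulAction.exists_smul_eq G Q (Sylow.ofCard _ hc)
  refine ⟨g, fun e he => ?_⟩
  have h1 : g * e * g⁻¹ ∈ (g • Q : Sylow p G) := by
    rw [Sylow.smul_def]
    exact Subgroup.smul_mem_pointwise_smul _ _ _ (hQ he)
  rw [hg] at h1
  obtain ⟨y, -, hy⟩ := Subgroup.mem_map.1 h1
  rw [← hy]
  exact y.2

section

variable {α : Type u} [Fintype α] [DecidableEq α]

theorem exists_cycle_mem {π : Set ℕ} {H : Subgroup (Perm α)} (hH : Near π H) {p : ℕ}
    (hp : p.Prime) (hp2 : p ≠ 2) (hpπ : p ∈ π) (hpn : p ≤ Fintype.card α) :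
    ∃ c ∈ H ⊓ alternatingGroup α, c.IsCycle ∧ c.support.card = p := by
  have : Fact p.Prime := ⟨hp⟩
  obtain ⟨s, hs⟩ := Finset.exists_subset_card_eq (s := (Finset.univ : Finset α)) (n := p)
    (by simpa using hpn)
  have hl : 2 ≤ s.toList.length := by rw [Finset.length_toList, hs.2]; exact hp.two_le
  have hcyc : (List.formPerm s.toList).IsCycle := List.isCycle_formPerm s.nodup_toList hl
  have hcard : (List.formPerm s.toList).support.card = p := by
    rw [List.support_formPerm_of_nodup _ s.nodup_toList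
      (fun x hx => by rw [hx] at hl; simp at hl), Finset.toList_toFinset, hs.2]
  have hord : orderOf (List.formPerm s.toList) = p := hcyc.orderOf.trans hcard
  have hb := hH.big p hp hpπ
  rw [if_neg hp2, add_zero, ← Fintype.card_perm, ← Nat.card_eq_fintype_card] at hb
  obtain ⟨g, hg⟩ := exists_conj_le (H ⊓ alternatingGroup α)
    (Subgroup.zpowers (List.formPerm s.toList))
    (IsPGroup.of_card (n := 1) (by rw [Nat.card_zpowers, hord, pow_one])) hb
  exact ⟨_, hg _ (Subgroup.mem_zpowers _), hcyc.conj, by rw [card_support_conj, hcard]⟩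

theorem exists_pairs {π : Set ℕ} {H : Subgroup (Perm α)} (hH : Near π H) (h2π : 2 ∈ π)
    (hn : 2 ≤ Fintype.card α) :
    ∃ a : Fin (Fintype.card α / 2) ⊕ Fin (Fintype.card α / 2) ↪ α, ∀ i j,
      swap (a (.inl i)) (a (.inr i)) * swap (a (.inl j)) (a (.inr j)) ∈
        H ⊓ alternatingGroup α := by
  have : Fact (Nat.Prime 2) := ⟨Nat.prime_two⟩
  have : Nontrivial α := Fintype.one_lt_card_iff_nontrivial.1 (by omega)
  obtain ⟨a₀⟩ : Nonempty (Fin (Fintype.card α / 2) ⊕ Fin (Fintype.card α / 2) ↪ α) :=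
    Function.Embedding.nonempty_of_card_le (by
      simp only [Fintype.card_sum, Fintype.card_fin]; omega)
  let t := fun i => swap (a₀ (.inl i)) (a₀ (.inr i))
  have ht : ∀ i j, t i * t j = t j * t i := by
    intro i j
    rcases eq_or_ne i j with rfl | hij
    · rfl
    refine (Perm.Disjoint.commute ?_).eq
    intro x
    by_cases h1 : x = a₀ (.inl i) ∨ x = a₀ (.inr i)
    · right
      rcases h1 with rfl | rfl <;> apply swap_apply_of_ne_of_ne <;>
        simp [a₀.injective.eq_iff, hij]
    · left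
      push Not at h1
      exact swap_apply_of_ne_of_ne h1.1 h1.2
  let E : Subgroup (Perm α) := Subgroup.closure (Set.range t)
  have hEt : ∀ x ∈ E, ∀ j, Commute (t j) x := by
    intro x hx
    induction hx using Subgroup.closure_induction with
    | mem x hx => obtain ⟨i, rfl⟩ := hx; exact fun j => ht j i
    | one => exact fun j => Commute.one_right _
    | mul x y _ _ ihx ihy => exact fun j => (ihx j).mul_right (ihy j)
    | inv x _ ih => exact fun j => (ih j).inv_right
  have hEc : ∀ x ∈ E, ∀ y ∈ E, Commute x y := by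
    intro x hx y hy
    induction hy using Subgroup.closure_induction with
    | mem z hz => obtain ⟨i, rfl⟩ := hz; exact (hEt x hx i).symm
    | one => exact Commute.one_right _
    | mul u v _ _ ihu ihv => exact ihu.mul_right ihv
    | inv u _ ih => exact ih.inv_right
  have hE : ∀ x ∈ E, x * x = 1 := by
    intro x hx
    induction hx using Subgroup.closure_induction with
    | mem x hx => obtain ⟨i, rfl⟩ := hx; exact swap_mul_self _ _
    | one => exact one_mul 1
    | mul x y hx hy ihx ihy => rw [(hEc y hy x hx).mul_mul_mul_comm x y, ihx, ihy, one_mul]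
    | inv x _ ih => rw [← mul_inv_rev, ih, inv_one]
  have hEG : IsPGroup 2 (E.subgroupOf (alternatingGroup α)) := by
    intro x
    refine ⟨1, ?_⟩
    rw [pow_one, pow_two]
    exact Subtype.ext (Subtype.ext (hE _ x.2))
  have hM : (Nat.card (alternatingGroup α)).factorization 2 ≤
      (Nat.card ((H ⊓ alternatingGroup α).subgroupOf (alternatingGroup α))).factorization 2 := by
    rw [Nat.card_congr (Subgroup.subgroupOfEquivOfLe
      (inf_le_right : H ⊓ alternatingGroup α ≤ (alternatingGroup α))).toEquiv]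
    have hb := hH.big 2 Nat.prime_two h2π
    rw [if_pos rfl, ← Fintype.card_perm, ← two_mul_card_alternatingGroup,
      fact_mul two_ne_zero Fintype.card_ne_zero, Nat.prime_two.factorization_self,
      ← Nat.card_eq_fintype_card] at hb
    omega
  obtain ⟨g, hg⟩ := exists_conj_le _ (E.subgroupOf (alternatingGroup α)) hEG hM
  refine ⟨a₀.trans (g : Perm α).toEmbedding, fun i j => ?_⟩
  have hmem : t i * t j ∈ (alternatingGroup α) := by
    rw [mem_alternatingGroup, map_mul, sign_swap', sign_swap']
    simp [a₀.injective.eq_iff]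
  have := Subgroup.mem_subgroupOf.1 (hg ⟨t i * t j, hmem⟩
    (Subgroup.mem_subgroupOf.2 (E.mul_mem (Subgroup.subset_closure (Set.mem_range_self i))
      (Subgroup.subset_closure (Set.mem_range_self j)))))
  have e : ((g * ⟨t i * t j, hmem⟩ * g⁻¹ : (alternatingGroup α)) : Perm α) =
      ((g : Perm α) * t i * (g : Perm α)⁻¹) * ((g : Perm α) * t j * (g : Perm α)⁻¹) := by
    simp [mul_assoc]
  rw [e] at this
  simpa [t, swap_apply_apply, Equiv.Perm.mul_def, mul_assoc] using this

omit [Fintype α] [DecidableEq α] in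
theorem three_dvd_orderOf (f : Perm α) {x y z : α} (hxy : x ≠ y) (h1 : f x = y) (h2 : f y = z)
    (h3 : f z = x) : 3 ∣ orderOf f := by
  have hd : MulAction.period f x ∣ 3 :=
    MulAction.pow_smul_eq_iff_period_dvd.1 (by simp [pow_succ, h1, h2, h3])
  rcases (Nat.dvd_prime Nat.prime_three).1 hd with h | h
  · exfalso
    have := MulAction.pow_period_smul f x
    rw [h, pow_one, Perm.smul_def, h1] at this
    exact hxy this.symm
  · exact h ▸ MulAction.period_dvd_orderOf f x

/-- If `2 ∈ π` and `3 ∉ π`, the group is not primitive. -/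
theorem not_primitive_of_three {π : Set ℕ} {H : Subgroup (Perm α)} (hH : Near π H) (h2π : 2 ∈ π)
    (h3π : 3 ∉ π) (hn : 6 ≤ Fintype.card α) (hP : MulAction.IsPreprimitive H α) : False := by
  classical
  obtain ⟨a, ha⟩ := exists_pairs hH h2π (by omega)
  generalize hD : Fintype.card α / 2 = D at a ha
  let Edge : α → α → Prop := fun x y =>
    ∃ i, (x = a (.inl i) ∧ y = a (.inr i)) ∨ (y = a (.inl i) ∧ x = a (.inr i))
  have hEs : ∀ x y, Edge x y → Edge y x := fun x y ⟨i, h⟩ => ⟨i, h.symm⟩
  have hEu : ∀ x y z, Edge x y → Edge x z → y = z := by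
    rintro x y z ⟨i, h⟩ ⟨j, h'⟩
    rcases h with ⟨rfl, rfl⟩ | ⟨rfl, rfl⟩ <;> rcases h' with ⟨h1, rfl⟩ | ⟨rfl, h1⟩ <;>
      simp_all [a.injective.eq_iff]
  have hEne : ∀ x y, Edge x y → x ≠ y := by
    rintro x y ⟨i, ⟨rfl, rfl⟩ | ⟨rfl, rfl⟩⟩ <;> simp [a.injective.eq_iff]
  -- elements moving an edge as a transposition and fixing a given point
  have helt : ∀ x y z, Edge x y → z ≠ x → z ≠ y →
      ∃ g ∈ H ⊓ alternatingGroup α, g x = y ∧ g y = x ∧ g z = z := by
    intro x y z hxy hzx hzy
    obtain ⟨i, hi⟩ := hxy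
    obtain ⟨j, hji, hjl, hjr⟩ : ∃ j, j ≠ i ∧ a (.inl j) ≠ z ∧ a (.inr j) ≠ z := by
      by_cases hz : ∃ k, a (.inl k) = z ∨ a (.inr k) = z
      · obtain ⟨k, hk⟩ := hz
        obtain ⟨j, hj⟩ : ∃ j : Fin D, j ∉ ({i, k} : Finset (Fin D)) := by
          by_contra hall
          push Not at hall
          have := Finset.card_le_card (fun j _ => hall j : Finset.univ ⊆ ({i, k} : Finset _))
          have : ({i, k} : Finset (Fin D)).card ≤ 2 := Finset.card_le_two
          simp only [Finset.card_univ, Fintype.card_fin] at *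
          omega
        simp only [Finset.mem_insert, Finset.mem_singleton, not_or] at hj
        refine ⟨j, hj.1, ?_⟩
        rcases hk with rfl | rfl <;> simp [a.injective.eq_iff, hj.2]
      · push Not at hz
        have : Nontrivial (Fin D) := Fin.nontrivial_iff_two_le.2 (by omega)
        obtain ⟨j, hj⟩ := exists_ne i
        exact ⟨j, hj, hz j⟩
    refine ⟨_, ha i j, ?_, ?_, ?_⟩ <;> simp only [Perm.mul_apply]
    · rcases hi with ⟨rfl, rfl⟩ | ⟨rfl, rfl⟩ <;>
        rw [swap_apply_of_ne_of_ne (a := a (.inl j)) (by simp [a.injective.eq_iff, Ne.symm hji])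
          (by simp [a.injective.eq_iff, Ne.symm hji])] <;> simp
    · rcases hi with ⟨rfl, rfl⟩ | ⟨rfl, rfl⟩ <;>
        rw [swap_apply_of_ne_of_ne (a := a (.inl j)) (by simp [a.injective.eq_iff, Ne.symm hji])
          (by simp [a.injective.eq_iff, Ne.symm hji])] <;> simp
    · rw [swap_apply_of_ne_of_ne hjl.symm hjr.symm]
      rcases hi with ⟨rfl, rfl⟩ | ⟨rfl, rfl⟩
      · exact swap_apply_of_ne_of_ne hzx hzy
      · exact swap_apply_of_ne_of_ne hzy hzx
  have hconf : ∀ h ∈ H, ∀ x y z : α, Edge x y → Edge (h⁻¹ y) (h⁻¹ z) → x = z := by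
    intro h hh x y z hxy hyz
    by_contra hxz
    have hyz' : y ≠ z := fun he => hEne _ _ hyz (by rw [he])
    obtain ⟨g, hg, g1, g2, g3⟩ := helt x y z hxy (Ne.symm hxz) (Ne.symm hyz')
    obtain ⟨g', hg', k1, k2, k3⟩ := helt (h⁻¹ y) (h⁻¹ z) (h⁻¹ x) hyz
      (fun he => hEne _ _ hxy ((h⁻¹).injective he)) (fun he => hxz ((h⁻¹).injective he))
    have hmem : g * (h * g' * h⁻¹) ∈ H :=
      H.mul_mem hg.1 (H.mul_mem (H.mul_mem hh hg'.1) (H.inv_mem hh))
    have e1 : (h * g' * h⁻¹) x = x := by
      simp only [Perm.mul_apply, k3]; simp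
    have e2 : (h * g' * h⁻¹) y = z := by
      simp only [Perm.mul_apply, k1]; simp
    have e3 : (h * g' * h⁻¹) z = y := by
      simp only [Perm.mul_apply, k2]; simp
    have h3 : 3 ∣ orderOf (g * (h * g' * h⁻¹)) :=
      three_dvd_orderOf _ (x := x) (y := y) (z := z) (hEne _ _ hxy)
        (by rw [Perm.mul_apply, e1, g1]) (by rw [Perm.mul_apply, e2, g3])
        (by rw [Perm.mul_apply, e3, g2])
    exact h3π (hH.pi 3 Nat.prime_three
      (h3.trans (Subgroup.orderOf_dvd_natCard _ hmem)))
  let Cov : α → Prop := fun x => ∃ y, Edge x y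
  have hunc : ∀ x y, ¬ Cov x → ¬ Cov y → x = y := by
    intro x y hx hy
    by_contra hne
    have himg : (Finset.univ.map a) ⊆ (Finset.univ.erase x).erase y := by
      intro w hw
      obtain ⟨i, -, rfl⟩ := Finset.mem_map.1 hw
      have hcov : Cov (a i) := by
        rcases i with i | i
        · exact ⟨a (.inr i), i, Or.inl ⟨rfl, rfl⟩⟩
        · exact ⟨a (.inl i), i, Or.inr ⟨rfl, rfl⟩⟩
      simp only [Finset.mem_erase, Finset.mem_univ, and_true]
      exact ⟨fun he => hy (he ▸ hcov), fun he => hx (he ▸ hcov)⟩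
    have := Finset.card_le_card himg
    rw [Finset.card_map, Finset.card_erase_of_mem (by simp [Ne.symm hne]),
      Finset.card_erase_of_mem (Finset.mem_univ x), Finset.card_univ, Finset.card_univ,
      Fintype.card_sum, Fintype.card_fin] at this
    omega
  have hEh : ∀ h ∈ H, ∀ x y, Edge x y → Edge (h⁻¹ x) (h⁻¹ y) := by
    intro h hh
    have key : ∀ x y, Edge x y → Cov (h⁻¹ y) → Edge (h⁻¹ x) (h⁻¹ y) := by
      intro x y hxy ⟨w, hw⟩
      have hw' : Edge (h⁻¹ y) (h⁻¹ (h w)) := by simpa using hw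
      rw [hconf h hh x y _ hxy hw']
      exact hEs _ _ hw'
    intro x y hxy
    by_cases hy : Cov (h⁻¹ y)
    · exact key x y hxy hy
    · refine hEs _ _ (key y x (hEs _ _ hxy) ?_)
      by_contra hx
      exact hEne _ _ hxy ((h⁻¹).injective (hunc _ _ hx hy))
  have htr := hP.toIsPretransitive
  have hpos : 0 < D := by omega
  have hcov : ∀ x, Cov x := by
    intro x
    obtain ⟨h, hh⟩ := MulAction.exists_smul_eq H x (a (.inl ⟨0, hpos⟩))
    have : Edge (h.1⁻¹ (a (.inl ⟨0, hpos⟩))) (h.1⁻¹ (a (.inr ⟨0, hpos⟩))) :=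
      hEh h.1 h.2 _ _ ⟨_, Or.inl ⟨rfl, rfl⟩⟩
    refine ⟨h.1⁻¹ (a (.inr ⟨0, hpos⟩)), ?_⟩
    rw [← hh] at this
    simpa [Subgroup.smul_def] using this
  let B : Set α := {a (.inl ⟨0, hpos⟩), a (.inr ⟨0, hpos⟩)}
  have hB : MulAction.IsBlock H B := by
    rw [MulAction.isBlock_iff_smul_eq_of_mem]
    intro h x hx hhx
    have hxy : ∃ y, B = {x, y} ∧ Edge x y := by
      rcases hx with rfl | rfl
      · exact ⟨_, rfl, _, Or.inl ⟨rfl, rfl⟩⟩
      · exact ⟨_, Set.pair_comm _ _, _, Or.inr ⟨rfl, rfl⟩⟩
    obtain ⟨y, hBx, hy⟩ := hxy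
    have hhy : Edge (h • x) (h • y) := by
      have := hEh h.1⁻¹ (H.inv_mem h.2) x y hy
      simpa [Subgroup.smul_def] using this
    rw [hBx, Set.smul_set_insert, Set.smul_set_singleton]
    rw [hBx] at hhx
    rcases hhx with he | he
    · rw [he] at hhy ⊢
      rw [hEu _ _ _ hhy hy]
    · rw [Set.mem_singleton_iff] at he
      rw [he] at hhy ⊢
      rw [hEu _ _ _ hhy (hEs _ _ hy), Set.pair_comm]
  rcases hP.isTrivialBlock_of_isBlock hB with h1 | h1
  · exact absurd (h1 (Set.mem_insert _ _) (Set.mem_insert_of_mem _ rfl))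
      (by simp [a.injective.eq_iff])
  · have : (B : Set α).ncard ≤ 2 := (Set.ncard_insert_le _ _).trans (by simp)
    rw [h1, Set.ncard_univ, Nat.card_eq_fintype_card] at this
    omega

theorem not_primitive_five {π : Set ℕ} {H : Subgroup (Perm α)} (hH : Near π H) (h2π : 2 ∈ π)
    (h5π : 5 ∈ π) (h3π : 3 ∉ π) (hn : Fintype.card α = 5) : False := by
  classical
  have : Nontrivial α := Fintype.one_lt_card_iff_nontrivial.1 (by omega)
  let G := alternatingGroup α
  let M := (H ⊓ alternatingGroup α).subgroupOf G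
  have hG : Nat.card (alternatingGroup α) = 60 := by
    have := two_mul_card_alternatingGroup (α := α)
    rw [Fintype.card_perm, hn, show Nat.factorial 5 = 120 from rfl] at this
    rw [Nat.card_eq_fintype_card]
    omega
  have hc : Nat.card M = Nat.card ↥(H ⊓ alternatingGroup α) :=
    Nat.card_congr (Subgroup.subgroupOfEquivOfLe inf_le_right).toEquiv
  have h20 : 20 ∣ Nat.card M := by
    have b2 := hH.big 2 Nat.prime_two h2π
    have b5 := hH.big 5 (by norm_num) h5π
    rw [hn, show Nat.factorial 5 = 2 ^ 3 * (3 * 5) from rfl] at b2 b5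
    rw [fact_mul (by norm_num) (by norm_num), fact_mul (by norm_num) (by norm_num),
      Nat.factorization_pow, Nat.Prime.factorization Nat.prime_two,
      Nat.Prime.factorization Nat.prime_three, Nat.Prime.factorization (by norm_num : Nat.Prime 5),
      Finsupp.smul_apply] at b2 b5
    rw [← hc] at b2 b5
    have hne' : Nat.card M ≠ 0 := Nat.card_pos.ne'
    generalize hcM : Nat.card M = c at b2 b5 hne'
    simp at b2 b5
    have d4 : 2 ^ 2 ∣ c :=
      (Nat.Prime.pow_dvd_iff_le_factorization Nat.prime_two hne').2 (by omega)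
    have d5 : 5 ^ 1 ∣ c :=
      (Nat.Prime.pow_dvd_iff_le_factorization (by norm_num) hne').2 (by omega)
    exact Nat.Coprime.mul_dvd_of_dvd_of_dvd (m := 2 ^ 2) (n := 5 ^ 1) (by norm_num) d4 d5
  have hne : M ≠ ⊤ := by
    intro htop
    rw [htop, Subgroup.card_top, hG] at hc
    exact h3π (hH.pi 3 Nat.prime_three ((by norm_num : (3 : ℕ) ∣ 60).trans
      (hc ▸ Subgroup.card_dvd_of_le inf_le_left)))
  have hidx : M.index ≤ 3 := by
    have hmul := M.card_mul_index
    obtain ⟨c, hc'⟩ := h20
    rw [hG, hc', mul_assoc] at hmul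
    have : c * M.index = 3 := by omega
    exact Nat.le_of_dvd (by norm_num) ⟨c, by rw [mul_comm]; exact this.symm⟩
  have hs : IsSimpleGroup G := alternatingGroup.isSimpleGroup (by
    rw [Nat.card_eq_fintype_card]; omega)
  let φ := MulAction.toPermHom G (G ⧸ M)
  rcases hs.eq_bot_or_eq_top_of_normal φ.ker inferInstance with h | h
  · have := Nat.card_le_card_of_injective φ ((MonoidHom.ker_eq_bot_iff _).1 h)
    rw [hG, Nat.card_perm] at this
    have := Nat.factorial_le hidx
    rw [show Nat.factorial 3 = 6 from rfl] at this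
    rw [Subgroup.index] at this
    omega
  · apply hne
    rw [eq_top_iff]
    intro g _
    have h1 : g ∈ φ.ker := by rw [h]; exact Subgroup.mem_top g
    have h2 := Equiv.ext_iff.1 (MonoidHom.mem_ker.1 h1) (QuotientGroup.mk (1 : G))
    change (QuotientGroup.mk (g * 1) : G ⧸ M) = QuotientGroup.mk 1 at h2
    rw [mul_one, QuotientGroup.eq] at h2
    simpa using h2

theorem two_dvd_of_primitive {π : Set ℕ} {H : Subgroup (Perm α)} (hH : Near π H) {q : ℕ}
    (hq : q.Prime) (hq2 : q ≠ 2) (hqπ : q ∈ π) (hqn : q < Fintype.card α)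
    (hP : MulAction.IsPreprimitive H α) : 2 ∈ π := by
  obtain ⟨c, hc, hcy, hcq⟩ := exists_cycle_mem hH hq hq2 hqπ hqn.le
  have hs : ((c.support : Set α)ᶜ).ncard = (Fintype.card α - q - 1) + 1 := by
    have := Set.ncard_add_ncard_compl (c.support : Set α)
    rw [Set.ncard_coe_finset, hcq, Nat.card_eq_fintype_card] at this
    omega
  have h2 := hP.is_two_pretransitive hs (by rw [Nat.card_eq_fintype_card]; have := hq.two_le; omega)
    (isPretransitive_of_isCycle_mem hcy hc.1)
  rw [MulAction.is_two_pretransitive_iff] at h2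
  obtain ⟨x, y, hxy⟩ : ∃ x y : α, x ≠ y :=
    (Fintype.one_lt_card_iff_nontrivial.1 (by have := hq.two_le; omega)).exists_pair_ne
  obtain ⟨h, h1, h2⟩ := h2 hxy hxy.symm
  apply hH.pi 2 Nat.prime_two
  have hd : MulAction.period h x ∣ 2 :=
    MulAction.pow_smul_eq_iff_period_dvd.1 (by rw [pow_two, mul_smul, h1, h2])
  rcases (Nat.dvd_prime Nat.prime_two).1 hd with h' | h'
  · exfalso
    have := MulAction.pow_period_smul h x
    rw [h', pow_one, h1] at this
    exact hxy this.symm
  · exact h' ▸ (MulAction.period_dvd_orderOf h x).trans (orderOf_dvd_natCard h)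

end

/-- Main theorem on Hall subgroups of symmetric and alternating groups. -/
theorem concl : ∀ (n : ℕ) {α : Type u} [Fintype α] [DecidableEq α], Fintype.card α = n →
    ∀ {π : Set ℕ} {H : Subgroup (Perm α)}, Near π H →
    (∃ r s : ℕ, r.Prime ∧ s.Prime ∧ r < s ∧ r ∈ π ∧ s ∈ π ∧ s ≤ n) → Concl π H := by
  intro n
  induction n using Nat.strong_induction_on with
  | _ n IH =>
  intro α _ _ hcard π H hH htwo
  classical
  obtain ⟨q, p, hq, hp, hqp, hqπ, hpπ, hpn⟩ := htwo
  have hq2' := hq.two_le
  have hn3 : 3 ≤ n := by omega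
  unfold Concl
  rw [hcard]
  by_cases htr : MulAction.IsPretransitive H α
  · by_cases hP : MulAction.IsPreprimitive H α
    · -- primitive
      have h2π : 2 ∈ π := by
        by_cases hq2 : q = 2
        · exact hq2 ▸ hqπ
        · exact two_dvd_of_primitive hH hq hq2 hqπ (by omega) hP
      by_cases h3π : 3 ∈ π
      · left
        obtain ⟨c, hc, hcy, hc3⟩ := exists_cycle_mem hH Nat.prime_three (by norm_num) h3π (by omega)
        have hle : alternatingGroup α ≤ H :=
          alternatingGroup_le_of_isPreprimitive_of_isThreeCycle_mem hP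
            (card_support_eq_three_iff.1 hc3) hc.1
        intro r hr hrn
        rcases eq_or_ne r 2 with rfl | hr2
        · exact h2π
        apply hH.pi r hr
        refine Nat.dvd_trans ?_ (Subgroup.card_dvd_of_le hle)
        have : Nontrivial α := Fintype.one_lt_card_iff_nontrivial.1 (by omega)
        have hd : r ∣ 2 * Nat.card (alternatingGroup α) := by
          rw [Nat.card_eq_fintype_card, two_mul_card_alternatingGroup, Fintype.card_perm, hcard]
          exact (hr.dvd_factorial).2 hrn
        exact ((hr.dvd_mul).1 hd).resolve_left fun h =>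
          hr2 ((Nat.prime_dvd_prime_iff_eq hr Nat.prime_two).1 h)
      · exfalso
        have hp5 : 5 ≤ p := by
          rcases Nat.lt_or_ge p 5 with h | h
          · rcases (show p = 3 ∨ p = 4 by omega) with h' | h'
            · exact absurd (h' ▸ hpπ) h3π
            · rw [h'] at hp; norm_num at hp
          · exact h
        rcases eq_or_lt_of_le (hp5.trans hpn) with h5 | h6
        · exact not_primitive_five hH h2π ((show p = 5 by omega) ▸ hpπ) h3π (hcard.trans h5.symm)
        · exact not_primitive_of_three hH h2π h3π (by omega) hP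
    · -- imprimitive
      obtain ⟨B₀, hB₀, hnt⟩ : ∃ B : Set α, MulAction.IsBlock H B ∧ ¬ MulAction.IsTrivialBlock B := by
        by_contra hne
        push Not at hne
        exact hP { toIsPretransitive := htr, isTrivialBlock_of_isBlock := fun {B} hB => hne B hB }
      set B := B₀.toFinset with hBdef
      have hcoe : (B : Set α) = B₀ := Set.coe_toFinset B₀
      have hB2 : 2 ≤ B.card := by
        by_contra hlt
        apply hnt
        refine Or.inl ?_
        rw [← hcoe]
        intro x hx y hy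
        exact Finset.card_le_one.1 (by omega) x hx y hy
      have hBn : B.card < Fintype.card α := by
        by_contra hge
        apply hnt
        refine Or.inr ?_
        rw [← hcoe, Finset.coe_eq_univ, ← Finset.card_eq_iff_eq_univ]
        exact le_antisymm B.card_le_univ (by omega)
      obtain ⟨m, hm, hmk, ⟨K, hK⟩, hprimes⟩ := near_block hH B (hcoe.symm ▸ hB₀) hB2 hBn
      set k := B.card with hk
      have hle : ∀ r : ℕ, r.Prime → r ∈ π → r ≤ n → r ≤ k := fun r hr hrπ hrn =>
        (hprimes r hr hrπ).2 (by omega)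
      have hc1 : (k + (k - 1)).choose (k - 1) ∣ m.uniformBell k := by
        rw [Nat.uniformBell_eq]
        refine dvd_trans (dvd_of_eq ?_) (Finset.dvd_prod_of_mem _ (Finset.mem_range.2 (by omega : 1 < m)))
        congr 1
        omega
      have hno : ∀ r : ℕ, r.Prime → r ∈ π → ¬ r ∣ (k + (k - 1)).choose (k - 1) :=
        fun r hr hrπ hd => (hprimes r hr hrπ).1 (hd.trans hc1)
      have hk3 : 3 ≤ k := by have := hle p hp hpπ hpn; omega
      have hpk := hle p hp hpπ hpn
      rcases IH k (by omega) (Fintype.card_coe B) hK ⟨q, p, hq, hp, hqp, hqπ, hpπ, hpk⟩ with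
        hF | ⟨hkp, hiff, -⟩ | ⟨hk7, hiff, -⟩ | ⟨hk8, hiff, -⟩
      · rw [Fintype.card_coe] at hF
        obtain ⟨hk4, -⟩ := eq_four_three (a := k) (b := k - 1) (by omega) (by omega)
          fun r hr hrk => hno r hr (hF r hr hrk)
        have h2π : 2 ∈ π := hF 2 Nat.prime_two (by omega)
        have h3π : 3 ∈ π := hF 3 Nat.prime_three (by omega)
        have hm2 : m = 2 := by
          by_contra hne
          have h3 : 3 ∣ m.uniformBell k := by
            rw [Nat.uniformBell_eq]
            refine dvd_trans ?_ (Finset.dvd_prod_of_mem _ (Finset.mem_range.2 (by omega : 2 < m)))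
            rw [hk4]
            decide
          exact (hprimes 3 Nat.prime_three h3π).1 h3
        have hn8 : n = 8 := by rw [← hcard, ← hmk, hm2, hk4]
        refine Or.inr (Or.inr (Or.inr ⟨hn8, fun r hr hrn => ⟨fun hrπ => ?_, ?_⟩, B, hk4, ?_⟩))
        · have hrk := hle r hr hrπ hrn
          have := hr.two_le
          have hr4 : r ≠ 4 := fun h => by rw [h] at hr; norm_num at hr
          omega
        · rintro (rfl | rfl)
          · exact h2π
          · exact h3π
        · intro h hh
          have hblk : MulAction.IsBlock H (B : Set α) := hcoe.symm ▸ hB₀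
          have hmemiff : ∀ x, h x ∈ B ↔ x ∈ (⟨h, hh⟩ : H)⁻¹ • (B : Set α) := fun x => by
            rw [Set.mem_inv_smul_set_iff, Subgroup.smul_def, Perm.smul_def, Finset.mem_coe]
          rcases MulAction.isBlock_iff_smul_eq_or_disjoint.1 hblk (⟨h, hh⟩⁻¹ : H) with he | hd
          · exact Or.inl fun x => by rw [hmemiff, he, Finset.mem_coe]
          · refine Or.inr fun x => ?_
            rw [hmemiff]
            have hun : (⟨h, hh⟩⁻¹ : H) • (B : Set α) ∪ B = Set.univ := by
              apply Set.eq_of_subset_of_ncard_le (Set.subset_univ _)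
              rw [Set.ncard_univ, Set.ncard_union_eq hd, Set.ncard_smul_set, Set.ncard_coe_finset,
                Nat.card_eq_fintype_card, hcard]
              omega
            constructor
            · exact fun hx hxB => (Set.disjoint_left.1 hd hx) (Finset.mem_coe.2 hxB)
            · intro hx
              have := hun.symm ▸ Set.mem_univ x
              exact this.resolve_right hx
      · exfalso
        rw [Fintype.card_coe] at hkp hiff
        have h2π : 2 ∈ π := (hiff 2 Nat.prime_two (by omega)).2 (by omega)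
        obtain ⟨e, he⟩ := eq_two_pow_of_odd (a := k) (b := k - 1) (by omega) (by omega)
          (hno 2 Nat.prime_two h2π)
        rcases hkp.eq_two_or_odd with h | h
        · omega
        · rcases e with _ | e
          · omega
          · rw [pow_succ] at he; omega
      · exfalso
        rw [Fintype.card_coe] at hk7 hiff
        refine hno 2 Nat.prime_two ((hiff 2 Nat.prime_two (by omega)).2 (Or.inl rfl)) ?_
        rw [show k = 7 from hk7]
        decide
      · exfalso
        rw [Fintype.card_coe] at hk8 hiff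
        refine hno 3 Nat.prime_three ((hiff 3 Nat.prime_three (by omega)).2 (Or.inr rfl)) ?_
        rw [show k = 8 from hk8]
        decide
  · -- intransitive
    obtain ⟨A, hA, hAhalf, hAn⟩ : ∃ A : Finset α, (∀ h ∈ H, ∀ x, h x ∈ A ↔ x ∈ A) ∧
        Fintype.card α - A.card ≤ A.card ∧ A.card < Fintype.card α := by
      obtain ⟨x₀⟩ : Nonempty α := Fintype.card_pos_iff.1 (by omega)
      let O : Finset α := (MulAction.orbit H x₀).toFinset
      have hO : ∀ h ∈ H, ∀ x, h x ∈ O ↔ x ∈ O := fun h hh x => by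
        rw [Set.mem_toFinset, Set.mem_toFinset]
        rw [← MulAction.orbit_eq_iff, ← MulAction.orbit_eq_iff,
          show h x = (⟨h, hh⟩ : H) • x from rfl, MulAction.orbit_smul]
      have hne : O ≠ Finset.univ := by
        intro he
        apply htr
        refine ⟨fun x y => ?_⟩
        obtain ⟨g, rfl⟩ : x ∈ MulAction.orbit H x₀ := Set.toFinset_eq_univ.1 he ▸ Set.mem_univ x
        obtain ⟨g', rfl⟩ : y ∈ MulAction.orbit H x₀ := Set.toFinset_eq_univ.1 he ▸ Set.mem_univ y
        exact ⟨g' * g⁻¹, by simp [mul_smul]⟩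
      have hlt : O.card < Fintype.card α := (Finset.card_lt_iff_ne_univ O).2 hne
      have hpos : 0 < O.card :=
        Finset.card_pos.2 ⟨x₀, Set.mem_toFinset.2 (MulAction.mem_orbit_self x₀)⟩
      by_cases hb : Fintype.card α - O.card ≤ O.card
      · exact ⟨O, hO, hb, hlt⟩
      · refine ⟨Oᶜ, fun h hh x => ?_, ?_, ?_⟩
        · rw [Finset.mem_compl, Finset.mem_compl, hO h hh x]
        · rw [Finset.card_compl]; omega
        · rw [Finset.card_compl]; omega
    obtain ⟨hK, hnd⟩ := near_invariant hH A (fun g hg => hA g hg.1) (by omega)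
    set a := A.card with ha
    rw [hcard] at hnd hAhalf hAn
    have hle : ∀ r : ℕ, r.Prime → r ∈ π → r ≤ n → r ≤ a := by
      intro r hr hrπ hrn
      by_contra hgt
      exact hnd r hr hrπ (hr.dvd_choose (by omega) (by omega) (by omega))
    obtain ⟨b, hb⟩ : ∃ b, n = a + b := ⟨n - a, by omega⟩
    rw [show n - a = b by omega] at hnd
    have hpa := hle p hp hpπ hpn
    rcases IH a (by omega) (Fintype.card_coe A) hK ⟨q, p, hq, hp, hqp, hqπ, hpπ, hpa⟩ with
      hF | ⟨hap, hiff, -⟩ | ⟨ha7, hiff, -⟩ | ⟨ha8, hiff, -⟩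
    · rw [Fintype.card_coe] at hF
      rcases (show b = 1 ∨ 2 ≤ b by omega) with rfl | hb2
      · refine Or.inr (Or.inl ⟨?_, fun r hr hrn => ⟨fun hrπ => ?_, fun hrlt => ?_⟩, ?_⟩)
        · rw [hb]
          exact prime_of_coprime (by omega) fun r hr hra => hnd r hr (hF r hr hra)
        · have := hle r hr hrπ hrn
          omega
        · exact hF r hr (by omega)
        · obtain ⟨x, hx⟩ : ∃ x, Aᶜ = {x} := Finset.card_eq_one.1 (by rw [Finset.card_compl]; omega)
          refine ⟨x, fun h hh => ?_⟩
          have hxA : x ∈ Aᶜ := hx ▸ Finset.mem_singleton_self x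
          have : h x ∈ Aᶜ := by
            rw [Finset.mem_compl] at hxA ⊢
            rwa [hA h hh x]
          rwa [hx, Finset.mem_singleton] at this
      · obtain ⟨ha4, hb3⟩ := eq_four_three hb2 (by omega) fun r hr hra => hnd r hr (hF r hr hra)
        refine Or.inr (Or.inr (Or.inl ⟨by omega, fun r hr hrn => ⟨fun hrπ => ?_, ?_⟩, A, ha4,
          fun h hh => hA h hh⟩))
        · have := hle r hr hrπ hrn
          have := hr.two_le
          have hr4 : r ≠ 4 := fun h => by rw [h] at hr; norm_num at hr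
          omega
        · rintro (rfl | rfl) <;> exact hF _ hr (by omega)
    · exfalso
      rw [Fintype.card_coe] at hap hiff
      obtain ⟨r, hr, hra, hd⟩ := exists_dvd_choose_of_prime hap (by omega) (b := b) (by omega) (by omega)
      exact hnd r hr ((hiff r hr hra.le).2 hra) hd
    all_goals
      exfalso
      rw [Fintype.card_coe] at hiff
      have ha78 : a = 7 ∨ a = 8 := by
        first
        | exact Or.inl ((Fintype.card_coe A).symm.trans ha7)
        | exact Or.inr ((Fintype.card_coe A).symm.trans ha8)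
      rcases exists_dvd_choose_small a (by
          rw [Finset.mem_insert, Finset.mem_singleton]; exact ha78) b
          (Finset.mem_Icc.2 ⟨by omega, by omega⟩) with hd | hd
      · exact hnd 2 Nat.prime_two ((hiff 2 Nat.prime_two (by omega)).2 (Or.inl rfl)) hd
      · exact hnd 3 Nat.prime_three ((hiff 3 Nat.prime_three (by omega)).2 (Or.inr rfl)) hd

end Cfsg.Agent.HallSymCore76
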