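import Mathlib
import Cfsg.Prelude.Def_SylowChains

/-!
Basic facts about strongly `p`-embedded subgroups (in the form: proper, order divisible by `p`,
meeting the other conjugates in groups of order prime to `p`) and Sylow chain connectedness.
-/

namespace Cfsg.Agent.StrongPEmb

open scoped Pointwise

variable {G : Type*} [Group G] [Finite G] {p : ℕ} [hp : Fact p.Prime] {H : Subgroup G}

/-- The hypothesis used below: `H` meets each conjugate by an element outside in a `p'`-group. -/
def Meets (p : ℕ) (H : Subgroup G) : Prop :=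
  ∀ g : G, g ∉ H → ¬ p ∣ Nat.card ↥(H ⊓ H.map (MulAut.conj g).toMonoidHom)

theorem dvd_card_of_mem {x : G} (hx : x ≠ 1) {K : Subgroup G} (hxK : x ∈ K)
    {P : Subgroup G} (hP : IsPGroup p P) (hxP : x ∈ P) : p ∣ Nat.card K := by
  have h1 : p ∣ orderOf x := by
    obtain ⟨k, hk⟩ := hP ⟨x, hxP⟩
    have hk' : x ^ p ^ k = 1 := by simpa [Subtype.ext_iff] using hk
    obtain ⟨j, -, hj⟩ := (Nat.dvd_prime_pow hp.out).mp (orderOf_dvd_of_pow_eq_one hk')
    cases j with
    | zero => exact absurd (orderOf_eq_one_iff.mp (by simpa using hj)) hx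
    | succ j => exact ⟨p ^ j, by rw [hj, pow_succ']⟩
  exact h1.trans (Subgroup.orderOf_dvd_natCard K hxK)

omit [Finite G] in
theorem exists_mem_ne_one {K : Subgroup G} (h : K ≠ ⊥) : ∃ x ∈ K, x ≠ 1 := by
  obtain ⟨⟨x, hx⟩, hx1⟩ := Subgroup.ne_bot_iff_exists_ne_one.mp h
  exact ⟨x, hx, fun h => hx1 (Subtype.ext h)⟩

/-- The normalizer of a nontrivial `p`-subgroup of `H` lies in `H`. -/
theorem normalizer_le (hse : Meets p H) {Q : Subgroup G} (hQ : IsPGroup p Q) (hQ1 : Q ≠ ⊥)
    (hQH : Q ≤ H) : Subgroup.normalizer (Q : Set G) ≤ H := by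
  intro g hg
  by_contra hgH
  obtain ⟨x, hxQ, hx1⟩ := exists_mem_ne_one hQ1
  refine hse g hgH (dvd_card_of_mem hx1 (K := H ⊓ H.map (MulAut.conj g).toMonoidHom) ?_ hQ hxQ)
  refine ⟨hQH hxQ, ⟨g⁻¹ * x * g, hQH ?_, ?_⟩⟩
  · exact (Subgroup.mem_normalizer_iff''.mp hg x).mp hxQ
  · simp [MulAut.conj_apply, mul_assoc]

/-- The centralizer of a nontrivial `p`-element of `H` lies in `H`. -/
theorem centralizer_le (hse : Meets p H) {x : G} (hx1 : x ≠ 1) (hxH : x ∈ H)
    (hx : ∃ P : Subgroup G, IsPGroup p P ∧ x ∈ P) :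
    Subgroup.centralizer ({x} : Set G) ≤ H := by
  obtain ⟨P, hP, hxP⟩ := hx
  intro g hg
  by_contra hgH
  have hg' : x * g = g * x := Subgroup.mem_centralizer_iff.mp hg x rfl
  refine hse g hgH (dvd_card_of_mem hx1 (K := H ⊓ H.map (MulAut.conj g).toMonoidHom) ?_ hP hxP)
  exact ⟨hxH, ⟨x, hxH, by simp [MulAut.conj_apply, ← hg', mul_assoc]⟩⟩

/-- A `p`-subgroup meeting `H` nontrivially lies in `H`. -/
theorem le_of_inf_ne_bot (hse : Meets p H) {T : Subgroup G} (hT : IsPGroup p T)
    (h : T ⊓ H ≠ ⊥) : T ≤ H := by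
  by_contra hTH
  have : Group.IsNilpotent T := hT.isNilpotent
  have hlt : (T ⊓ H).subgroupOf T < ⊤ := by
    rw [lt_top_iff_ne_top]
    intro h'
    exact hTH fun t ht => (Subgroup.subgroupOf_eq_top.mp h' ht).2
  obtain ⟨n, hn, hnQ⟩ := SetLike.exists_of_lt
    ((Group.normalizerCondition_of_isNilpotent (G := ↥T)) _ hlt)
  refine hnQ ⟨n.2, ?_⟩
  refine normalizer_le hse (hT.to_le inf_le_left) h inf_le_right ?_
  rw [Subgroup.mem_normalizer_iff]
  intro x
  constructor
  · intro hx
    exact (Subgroup.mem_normalizer_iff.mp hn ⟨x, hx.1⟩).mp hx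
  · intro hx
    have hxT : x ∈ T := by
      have := T.mul_mem (T.mul_mem (T.inv_mem n.2) hx.1) n.2
      simpa [mul_assoc] using this
    exact (Subgroup.mem_normalizer_iff.mp hn ⟨x, hxT⟩).mpr hx

/-- `H` contains a Sylow `p`-subgroup of `G`. -/
theorem exists_sylow_le (hse : Meets p H) (hpH : p ∣ Nat.card H) :
    ∃ S : Sylow p G, (S : Subgroup G) ≤ H := by
  obtain ⟨P⟩ := (inferInstance : Nonempty (Sylow p ↥H))
  have hP : IsPGroup p ↥((P : Subgroup ↥H).map H.subtype) := P.2.map _
  obtain ⟨S, hS⟩ := hP.exists_le_sylow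
  refine ⟨S, le_of_inf_ne_bot hse S.2 ?_⟩
  intro hbot
  have hPbot : (P : Subgroup ↥H).map H.subtype = ⊥ :=
    le_bot_iff.mp (hbot ▸ le_inf hS (Subgroup.map_subtype_le _))
  have := Sylow.ne_bot_of_dvd_card P hpH
  exact this ((Subgroup.map_eq_bot_iff_of_injective _ H.subtype_injective).mp hPbot)

theorem sylow_ne_bot (hpH : p ∣ Nat.card H) (S : Sylow p G) : (S : Subgroup G) ≠ ⊥ :=
  S.ne_bot_of_dvd_card (hpH.trans (Subgroup.card_subgroup_dvd_card H))

/-- A Sylow subgroup meets a normal subgroup in a Sylow subgroup. -/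
theorem not_dvd_relIndex_sylow (S : Sylow p G) (N : Subgroup G) [N.Normal] :
    ¬ p ∣ (S : Subgroup G).relIndex N := by
  intro h
  apply S.not_dvd_index
  refine h.trans ?_
  have h1 := Subgroup.relIndex_mul_index (inf_le_left : (S : Subgroup G) ⊓ N ≤ S)
  have h2 := Subgroup.relIndex_mul_index (inf_le_right : (S : Subgroup G) ⊓ N ≤ N)
  rw [Subgroup.inf_relIndex_right] at h2
  rw [Subgroup.inf_relIndex_left] at h1
  obtain ⟨c, hc⟩ := Subgroup.relIndex_dvd_index_of_normal N (S : Subgroup G)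
  refine ⟨c, Nat.eq_of_mul_eq_mul_left
    (Nat.pos_of_ne_zero (Subgroup.index_ne_zero_of_finite :
      N.relIndex (S : Subgroup G) ≠ 0)) ?_⟩
  show N.relIndex (S : Subgroup G) * (S : Subgroup G).index = N.relIndex (S : Subgroup G) * _
  rw [h1, ← h2, hc, mul_left_comm]

/-- Two Sylow subgroups are joined by a path of pairwise meeting Sylow subgroups. -/
def Reach (p : ℕ) (S T : Sylow p G) : Prop :=
  Relation.ReflTransGen (fun A B : Sylow p G => (A : Subgroup G) ⊓ (B : Subgroup G) ≠ ⊥) S T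

theorem Reach.symm {S T : Sylow p G} (h : Reach p S T) : Reach p T S :=
  haveI : Std.Symm (fun A B : Sylow p G => (A : Subgroup G) ⊓ (B : Subgroup G) ≠ ⊥) :=
    ⟨fun _ _ hne => by rwa [inf_comm] at hne⟩
  Std.Symm.symm (r := Relation.ReflTransGen _) _ _ h

theorem Reach.smul {S T : Sylow p G} (g : G) (h : Reach p S T) : Reach p (g • S) (g • T) := by
  refine Relation.ReflTransGen.lift (fun A : Sylow p G => g • A) (fun A B hAB => ?_) S T h
  intro hbot
  apply hAB
  rw [Sylow.coe_subgroup_smul, Sylow.coe_subgroup_smul, ← Subgroup.smul_inf,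
    Subgroup.pointwise_smul_def] at hbot
  exact (Subgroup.map_eq_bot_iff_of_injective _ (MulAut.conj g).injective).mp hbot

/-- A path can be turned into a chain with distinct consecutive members. -/
theorem Reach.chain {S T : Sylow p G} (h : Reach p S T) :
    ∃ (n : ℕ) (c : Fin (n + 1) → Sylow p G), c 0 = S ∧ c (Fin.last n) = T ∧
      ∀ i : Fin n, c i.castSucc ≠ c i.succ ∧
        (c i.castSucc : Subgroup G) ⊓ (c i.succ : Subgroup G) ≠ ⊥ := by
  induction h using Relation.ReflTransGen.head_induction_on with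
  | refl => exact ⟨0, fun _ => T, rfl, rfl, fun i => Fin.elim0 i⟩
  | @head a b hab _ ih =>
    obtain ⟨n, c, hc0, hcl, hc⟩ := ih
    by_cases hne : a = b
    · exact ⟨n, c, hne ▸ hc0, hcl, hc⟩
    refine ⟨n + 1, Fin.cons a c, rfl, ?_, ?_⟩
    · rw [← Fin.succ_last, Fin.cons_succ, hcl]
    · intro i
      refine Fin.cases ?_ (fun j => ?_) i
      · simpa [hc0] using And.intro hne hab
      · rw [← Fin.succ_castSucc, Fin.cons_succ, Fin.cons_succ]
        exact hc j

/-- Chain connectedness is connectedness of the meeting graph. -/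
theorem chainConnected_iff :
    Cfsg.IsSylowChainConnected p G ↔ ∀ S T : Sylow p G, Reach p S T := by
  constructor
  · intro h S T
    obtain ⟨n, c, hc0, hcl, -, hc⟩ := h S T
    have hi : ∀ i : Fin (n + 1), Reach p S (c i) := by
      intro i
      induction i using Fin.induction with
      | zero => rw [hc0]; exact Relation.ReflTransGen.refl
      | succ i ih => exact ih.tail (hc i).2
    exact hcl ▸ hi _
  · intro h S T
    by_cases hST : S = T
    · subst hST
      exact ⟨0, fun _ => S, rfl, rfl, fun _ => inf_le_left, fun i => Fin.elim0 i⟩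
    by_cases hinf : (S : Subgroup G) ⊓ (T : Subgroup G) = ⊥
    · obtain ⟨n, c, hc0, hcl, hc⟩ := (h S T).chain
      exact ⟨n, c, hc0, hcl, fun i => hinf ▸ bot_le, hc⟩
    · refine ⟨1, ![S, T], rfl, rfl, fun i => ?_, fun i => ?_⟩
      · fin_cases i
        · exact inf_le_left
        · exact inf_le_right
      · fin_cases i
        exact ⟨hST, hinf⟩

/-- A strongly `p`-embedded subgroup disconnects the Sylow graph. -/
theorem not_chainConnected (hH : H ≠ ⊤) (hpH : p ∣ Nat.card H) (hse : Meets p H) :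
    ¬ Cfsg.IsSylowChainConnected p G := by
  intro hc
  obtain ⟨S, hS⟩ := exists_sylow_le hse hpH
  obtain ⟨g, -, hg⟩ := SetLike.exists_of_lt (lt_top_iff_ne_top.mpr hH)
  have hall : ∀ T : Sylow p G, Reach p S T → (T : Subgroup G) ≤ H := by
    intro T hT
    induction hT with
    | refl => exact hS
    | @tail b c _ hbc ih =>
      refine le_of_inf_ne_bot hse c.2 fun hbot => hbc ?_
      exact le_bot_iff.mp (hbot ▸ le_inf inf_le_right (inf_le_left.trans ih))
  have hgS := hall (g • S) (chainConnected_iff.mp hc S (g • S))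
  obtain ⟨x, hxS, hx1⟩ := exists_mem_ne_one (sylow_ne_bot hpH S)
  have hmem : MulAut.conj g • x ∈ (g • S : Sylow p G).toSubgroup := by
    rw [Sylow.coe_subgroup_smul]
    exact Subgroup.smul_mem_pointwise_smul x _ _ hxS
  refine hse g hg (dvd_card_of_mem (x := MulAut.conj g • x)
    (K := H ⊓ H.map (MulAut.conj g).toMonoidHom) (by simpa using hx1)
    ⟨hgS hmem, ⟨x, hS hxS, rfl⟩⟩ (g • S : Sylow p G).2 hmem)

/-- A disconnected Sylow graph gives a strongly `p`-embedded subgroup. -/
theorem exists_of_not_chainConnected (h : ¬ Cfsg.IsSylowChainConnected p G) :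
    ∃ H : Subgroup G, H ≠ ⊤ ∧ p ∣ Nat.card H ∧ Meets p H := by
  rw [chainConnected_iff] at h
  push Not at h
  obtain ⟨S, T, hST⟩ := h
  have hS1 : (S : Subgroup G) ≠ ⊥ := by
    intro hbot
    have : T = S := Sylow.ext (S.3 T.2 (hbot ▸ bot_le))
    exact hST (this ▸ Relation.ReflTransGen.refl)
  let H : Subgroup G :=
    { carrier := {g | Reach p S (g • S)}
      one_mem' := by
        show Reach p S ((1 : G) • S)
        rw [one_smul]
        exact Relation.ReflTransGen.refl
      mul_mem' := fun {a b} ha hb => by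
        show Reach p S ((a * b) • S)
        rw [mul_smul]
        exact ha.trans (hb.smul a)
      inv_mem' := fun {a} ha => by
        show Reach p S (a⁻¹ • S)
        have := (ha.smul a⁻¹).symm
        rwa [inv_smul_smul] at this }
  have hSH : (S : Subgroup G) ≤ H := by
    intro g hg
    show Reach p S (g • S)
    rw [Sylow.smul_eq_iff_mem_normalizer.mpr (Subgroup.le_normalizer hg)]
    exact Relation.ReflTransGen.refl
  refine ⟨H, ?_, ?_, ?_⟩
  · intro htop
    obtain ⟨g, rfl⟩ := MulAction.exists_smul_eq G S T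
    exact hST (show g ∈ H by rw [htop]; trivial)
  · obtain ⟨x, hx1⟩ := Subgroup.ne_bot_iff_exists_ne_one.mp hS1
    exact dvd_card_of_mem (fun h => hx1 (Subtype.ext h)) (hSH x.2) S.2 x.2
  · intro g hg hdvd
    obtain ⟨⟨x, hmx⟩, hx⟩ := exists_prime_orderOf_dvd_card' p hdvd
    rw [Subgroup.orderOf_mk] at hx
    obtain ⟨hxH, y, hyH, hyx⟩ := hmx
    have key : ∀ z ∈ H, orderOf z = p → ∃ k ∈ H, z ∈ (k • S : Sylow p G) := by
      intro z hz hzp
      have hzP : IsPGroup p ↥(Subgroup.zpowers (⟨z, hz⟩ : ↥H)) :=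
        IsPGroup.of_card (n := 1) (by rw [Nat.card_zpowers, Subgroup.orderOf_mk, pow_one, hzp])
      obtain ⟨Q, hQ⟩ := hzP.exists_le_sylow
      obtain ⟨k, hk⟩ := MulAction.exists_smul_eq ↥H (S.subtype hSH) Q
      refine ⟨k, k.2, ?_⟩
      have hmem : (⟨z, hz⟩ : ↥H) ∈ (k • S.subtype hSH : Sylow p ↥H) := by
        rw [hk]; exact hQ (Subgroup.mem_zpowers _)
      rw [Sylow.smul_subtype] at hmem
      exact hmem
    have hyx' : MulAut.conj g • y = x := hyx
    have hyp : orderOf y = p := by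
      rw [← hx, ← hyx]
      exact (orderOf_injective (MulAut.conj g).toMonoidHom (MulAut.conj g).injective y).symm
    obtain ⟨k, hkH, hk⟩ := key x hxH hx
    obtain ⟨l, hlH, hl⟩ := key y hyH hyp
    have hmem : x ∈ ((g * l) • S : Sylow p G) := by
      rw [mul_smul, ← hyx']
      show _ ∈ (g • (l • S) : Sylow p G).toSubgroup
      rw [Sylow.coe_subgroup_smul]
      exact Subgroup.smul_mem_pointwise_smul y _ _ hl
    have hne : ((k • S : Sylow p G) : Subgroup G) ⊓ ((g * l) • S : Sylow p G) ≠ ⊥ := by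
      intro hbot
      have hx1 : x = 1 := by
        rw [← Subgroup.mem_bot, ← hbot]
        exact ⟨hk, hmem⟩
      rw [hx1, orderOf_one] at hx
      exact hp.out.one_lt.ne hx
    have : g * l ∈ H := Relation.ReflTransGen.tail hkH hne
    exact hg ((H.mul_mem_cancel_right hlH).mp this)

end Cfsg.Agent.StrongPEmb
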