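import Mathlib
import Cfsg.Agent.Lib.Block39Crit
import Cfsg.Agent.Lib.AlperinTame
import Cfsg.Agent.Lib.HallSymCore76
import Cfsg.Agent.Lib.StrongPEmb

/-!
General lemmas on 3-elements, 3'-elements and Sylow subgroups used in the block induction.
-/

set_option autoImplicit false

namespace Cfsg.Agent.Block39

open Subgroup Cfsg BaumannSubnormal58
open scoped commutatorElement

variable {G : Type*} [Group G]

/-- A 3-element. -/
def IsThree (x : G) : Prop := ∃ k : ℕ, x ^ 3 ^ k = 1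

theorem IsThree.coprime_eq_one {x : G} (h : IsThree x) (hx : (orderOf x).Coprime 3) : x = 1 := by
  obtain ⟨k, hk⟩ := h
  have := pow_gcd_eq_one.2 ⟨pow_orderOf_eq_one x, hk⟩
  rwa [(hx.pow_right k), pow_one] at this

theorem IsThree.pow {x : G} (h : IsThree x) (n : ℕ) : IsThree (x ^ n) := by
  obtain ⟨k, hk⟩ := h
  exact ⟨k, by rw [← pow_mul, mul_comm, pow_mul, hk, one_pow]⟩

theorem IsThree.of_pow {x : G} {j : ℕ} (h : IsThree (x ^ 3 ^ j)) : IsThree x := by
  obtain ⟨k, hk⟩ := h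
  exact ⟨j + k, by rw [pow_add, pow_mul, hk]⟩

theorem IsThree.mul_of_commute {x y : G} (hx : IsThree x) (hy : IsThree y) (h : Commute x y) :
    IsThree (x * y) := by
  obtain ⟨k, hk⟩ := hx
  obtain ⟨l, hl⟩ := hy
  refine ⟨k + l, ?_⟩
  rw [h.mul_pow, pow_add, pow_mul, hk, one_pow, one_mul, mul_comm (3 ^ k), pow_mul, hl, one_pow]

theorem isThree_of_mem {L : Subgroup G} (hL : IsPGroup 3 ↥L) {x : G} (hx : x ∈ L) : IsThree x :=
  exists_pow_of_isPGroup hL hx

theorem isPGroup_of_isThree {L : Subgroup G} (h : ∀ x ∈ L, IsThree x) : IsPGroup 3 ↥L := fun x => by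
  obtain ⟨k, hk⟩ := h x x.2
  exact ⟨k, Subtype.ext hk⟩

/-- Splitting an element into its 3-part and its 3'-part. -/
theorem exists_split [Finite G] (x : G) :
    ∃ a b : G, a ∈ zpowers x ∧ b ∈ zpowers x ∧ IsThree a ∧ (orderOf b).Coprime 3 ∧ x = a * b := by
  set e := (orderOf x).factorization 3 with he
  set m := orderOf x / 3 ^ e with hm
  have hn : 3 ^ e * m = orderOf x := Nat.ordProj_mul_ordCompl_eq_self (orderOf x) 3
  have hc : Nat.Coprime (3 ^ e) m :=
    (Nat.coprime_ordCompl (Fact.out : Nat.Prime 3) (orderOf_pos x).ne').pow_left e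
  have hb : ((3 ^ e : ℕ) : ℤ) * Nat.gcdA (3 ^ e) m + (m : ℤ) * Nat.gcdB (3 ^ e) m = 1 := by
    rw [← Nat.gcd_eq_gcd_ab, hc.gcd_eq_one]; rfl
  set u := Nat.gcdA (3 ^ e) m
  set v := Nat.gcdB (3 ^ e) m
  have hx : x ^ ((3 ^ e * m : ℕ) : ℤ) = 1 := by rw [zpow_natCast, hn, pow_orderOf_eq_one]
  refine ⟨x ^ ((m : ℤ) * v), x ^ (((3 ^ e : ℕ) : ℤ) * u), zpow_mem_zpowers x _, zpow_mem_zpowers x _,
    ⟨e, ?_⟩, ?_, ?_⟩
  · rw [← zpow_natCast, ← zpow_mul,
      show (m : ℤ) * v * ((3 ^ e : ℕ) : ℤ) = ((3 ^ e * m : ℕ) : ℤ) * v by push_cast; ring,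
      zpow_mul, hx, one_zpow]
  · refine Nat.Coprime.coprime_dvd_left ?_
      (Nat.coprime_ordCompl (Fact.out : Nat.Prime 3) (orderOf_pos x).ne').symm
    refine orderOf_dvd_of_pow_eq_one ?_
    rw [← hm, ← zpow_natCast, ← zpow_mul,
      show ((3 ^ e : ℕ) : ℤ) * u * (m : ℤ) = ((3 ^ e * m : ℕ) : ℤ) * u by push_cast; ring,
      zpow_mul, hx, one_zpow]
  · rw [← zpow_add, add_comm, hb, zpow_one]

/-- A subgroup containing all 3-elements and all 3'-elements of `L` contains `L`. -/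
theorem le_of_split [Finite G] {L K : Subgroup G} (h3 : ∀ x ∈ L, IsThree x → x ∈ K)
    (h' : ∀ x ∈ L, (orderOf x).Coprime 3 → x ∈ K) : L ≤ K := fun x hx => by
  obtain ⟨a, b, ha, hb, ha3, hb3, rfl⟩ := exists_split x
  exact mul_mem (h3 a (zpowers_le.2 hx ha) ha3) (h' b (zpowers_le.2 hx hb) hb3)

/-! ### Calculations modulo a normalised 3-group -/

/-- An element with a 3-power in a 3-group is a 3-element. -/
theorem isThree_of_pow_mem {R : Subgroup G} (hR : IsPGroup 3 ↥R) {x : G} {k : ℕ}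
    (h : x ^ 3 ^ k ∈ R) : IsThree x := IsThree.of_pow (isThree_of_mem hR h)

/-- Conjugates of `R`-translates. -/
theorem pow_mul_mem {R : Subgroup G} {x r : G} (hr : r ∈ R) (hx : x ∈ normalizer (R : Set G)) :
    ∀ n : ℕ, (r * x) ^ n * (x ^ n)⁻¹ ∈ R
  | 0 => by simp
  | n + 1 => by
    have h := pow_mul_mem hr hx n
    have h2 := conj_mem' (pow_mem hx n) hr
    have := mul_mem h h2
    convert this using 1
    rw [pow_succ, pow_succ]
    group

theorem isThree_translate {R : Subgroup G} (hR : IsPGroup 3 ↥R) {x r : G} (hr : r ∈ R)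
    (hx : x ∈ normalizer (R : Set G)) (h : IsThree x) : IsThree (r * x) := by
  obtain ⟨k, hk⟩ := h
  have := pow_mul_mem hr hx (3 ^ k)
  rw [hk, inv_one, mul_one] at this
  exact isThree_of_pow_mem hR this

theorem mem_of_sq_mem {R : Subgroup G} {n : G} (h3 : IsThree n) (h2 : n * n ∈ R) : n ∈ R := by
  obtain ⟨k, hk⟩ := h3
  obtain ⟨j, hj⟩ : Odd (3 ^ k) := Odd.pow (by decide)
  have e : n = (n * n) ^ (j + 1) := by
    rw [← pow_two, ← pow_mul, show 2 * (j + 1) = 3 ^ k + 1 by omega, pow_succ, hk, one_mul]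
  rw [e]
  exact pow_mem h2 _

theorem mem_of_coprime_pow {R : Subgroup G} {n : G} {o : ℕ} (h3 : IsThree n) (ho : o.Coprime 3)
    (h : n ^ o ∈ R) : n ∈ R := by
  obtain ⟨k, hk⟩ := h3
  have hcop : o.Coprime (orderOf n) := Nat.Coprime.coprime_dvd_right (orderOf_dvd_of_pow_eq_one hk)
    (ho.pow_right k)
  obtain ⟨m, hm⟩ := exists_pow_eq_self_of_coprime hcop
  rw [← hm]
  exact pow_mem h m

/-! ### Sylow subgroups -/

/-- Two 3-subgroups, the second of index prime to 3: the first is conjugate into the second. -/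
theorem exists_conj_into [Finite G] {W T U : Subgroup G} (hU : IsPGroup 3 ↥U) (hUW : U ≤ W)
    (hTW : T ≤ W) (hT : ¬ 3 ∣ T.relIndex W) : ∃ w ∈ W, ∀ u ∈ U, w * u * w⁻¹ ∈ T := by
  classical
  have hU' : IsPGroup 3 ↥(U.subgroupOf W) :=
    hU.of_equiv (Subgroup.subgroupOfEquivOfLe hUW).symm
  obtain ⟨g, hg⟩ := HallSymCore76.exists_conj_le (T.subgroupOf W) (U.subgroupOf W) hU' (by
    have hfac : (Nat.card ↥W).factorization 3 =
        (Nat.card ↥(T.subgroupOf W)).factorization 3 + ((T.subgroupOf W).index).factorization 3 := by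
      rw [← Subgroup.card_mul_index (T.subgroupOf W),
        Nat.factorization_mul Nat.card_pos.ne' Subgroup.index_ne_zero_of_finite, Finsupp.add_apply]
    rw [hfac, Nat.factorization_eq_zero_of_not_dvd (show ¬ 3 ∣ (T.subgroupOf W).index from hT),
      add_zero])
  exact ⟨g, g.2, fun u hu => hg ⟨u, hUW hu⟩ hu⟩

/-- A Sylow subgroup of `H` meets a normalised subgroup in one of index prime to 3. -/
theorem not_dvd_inf [Finite G] {H P N : Subgroup G} (hN : N ≤ H)
    (hn : H ≤ normalizer (N : Set G)) (hPH : P ≤ H) (hP : IsPGroup 3 ↥P)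
    (hidx : ¬ 3 ∣ P.relIndex H) : ¬ 3 ∣ (P ⊓ N).relIndex N := by
  haveI : (N.subgroupOf H).Normal := LocalBasics.normal_subgroupOf_of_le hn
  let S : Sylow 3 ↥H := IsPGroup.toSylow (hP.of_equiv (Subgroup.subgroupOfEquivOfLe hPH).symm) hidx
  have h := StrongPEmb.not_dvd_relIndex_sylow S (N.subgroupOf H)
  rw [Subgroup.inf_relIndex_right]
  intro h'
  apply h
  rwa [show (S : Subgroup ↥H) = P.subgroupOf H from rfl, Subgroup.relIndex_subgroupOf hN]

theorem le_of_normalizer_le [Finite G] {S T : Subgroup G} (hS : IsPGroup 3 ↥S) (hTS : T ≤ S)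
    (h : S ⊓ normalizer (T : Set G) ≤ T) : T = S :=
  le_antisymm hTS (by
    by_contra hne
    exact (AlperinTame.lt_normalizer_inf hS (lt_of_le_not_ge hTS hne)).not_ge h)

/-- A subgroup with 3-power quotient and index prime to 3. -/
theorem le_of_residual_index [Finite G] {C M N : Subgroup G} (hN : N ≤ C)
    (hn : C ≤ normalizer (N : Set G)) (hNM : N ≤ M) (hMC : M ≤ C)
    (hres : ∀ x ∈ C, (orderOf x).Coprime 3 → x ∈ N) (hidx : ¬ 3 ∣ M.relIndex C) : M = C := by
  haveI : (N.subgroupOf C).Normal := LocalBasics.normal_subgroupOf_of_le hn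
  set f := QuotientGroup.mk' (N.subgroupOf C) with hf
  have hq : IsPGroup 3 (↥C ⧸ N.subgroupOf C) := by
    intro y
    obtain ⟨⟨x, hx⟩, rfl⟩ := QuotientGroup.mk'_surjective (N.subgroupOf C) y
    obtain ⟨a, b, ha, hb, ⟨k, hk⟩, hb3, hab⟩ := exists_split x
    have haC : a ∈ C := zpowers_le.2 hx ha
    have hbC : b ∈ C := zpowers_le.2 hx hb
    refine ⟨k, ?_⟩
    have e : f ⟨x, hx⟩ = f ⟨a, haC⟩ := by
      rw [show (⟨x, hx⟩ : ↥C) = ⟨a, haC⟩ * ⟨b, hbC⟩ from Subtype.ext hab, map_mul,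
        show f ⟨b, hbC⟩ = 1 from (QuotientGroup.eq_one_iff _).2 (hres b hbC hb3), mul_one]
    rw [e, ← map_pow, show (⟨a, haC⟩ : ↥C) ^ 3 ^ k = 1 from Subtype.ext hk, map_one]
  obtain ⟨n, hnn⟩ := IsPGroup.index hq ((M.subgroupOf C).map f)
  have hker : f.ker ≤ M.subgroupOf C := by
    rw [hf, QuotientGroup.ker_mk']; exact fun x hx => hNM hx
  have hi : ((M.subgroupOf C).map f).index = M.relIndex C :=
    Subgroup.index_map_eq _ (QuotientGroup.mk'_surjective _) hker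
  rcases Nat.eq_zero_or_pos n with h0 | h0
  · rw [h0, pow_zero, hi] at hnn
    exact le_antisymm hMC (Subgroup.relIndex_eq_one.1 hnn)
  · rw [hi] at hnn
    exact absurd (hnn ▸ dvd_pow_self 3 h0.ne') hidx

end Cfsg.Agent.Block39
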