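import Mathlib
import Cfsg.Agent.Lib.Block39Lemmas

/-!
A 3-element of `C_H(V)` moving `E` into a subgroup centralising `E` modulo `O₃(H)` does the same.
-/

set_option autoImplicit false

namespace Cfsg.Agent.Block39

open Subgroup Cfsg Block39Plane Block39Chart BaumannSubnormal58
open scoped commutatorElement

variable {G : Type*} [Group G] {F : Type} [Field F]

theorem sc_inj {a b : F} (h : sc a = sc b) : a = b := by
  have h1 := congrFun (DFunLike.congr_fun h ![(1 : F), 0]) 0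
  simpa using h1

theorem sc_mul (a b : F) : sc a * sc b = sc (a * b) :=
  endExt fun v => by show a • b • v = (a * b) • v; rw [smul_smul]

theorem sc_mv (a : F) (g : SL F) : sc a * mv g = mv g * sc a :=
  endExt fun v => (mv_smul g a v).symm

theorem commutator_mul_right (c a b : G) : ⁅c, a * b⁆ = ⁅c, a⁆ * (a * ⁅c, b⁆ * a⁻¹) := by
  simp only [commutatorElement_def]; group

namespace Data

variable (D : Data G F)

theorem residual_eq : pResidualOf 3 D.E = D.E := by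
  rw [BaumannBlockBasics.pResidualOf_eq_closure]; exact D.res

theorem fixed_mem_W {g q : G} (hg : g ∈ normalizer (D.E : Set G)) (hg2 : D.c2.act g = sc (-1))
    (hq : q ∈ D.Q) (h : g * q = q * g) : q ∈ D.W := by
  have h1 := D.c2.act_val (D.nm2 hg) hq
  have hgq : g * q * g⁻¹ = q := by rw [h, mul_inv_cancel_right]
  rw [hg2, D.c2.val_congr hgq _ hq] at h1
  refine (D.c2.val_eq_zero hq).1 ?_
  ext i
  have h2 := congrFun h1 i
  simp at h2
  show D.c2.val q hq i = (0 : F)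
  linear_combination (D.c2.val q hq i) * D.h3 + h2

theorem inverts_fix_Z {g w : G} (hgW : g ∈ centralizer (D.W : Set G)) (hw : w ∈ D.W)
    (h : g * D.z * w = w * (g * D.z)) : w ∈ D.Z := by
  obtain ⟨v, hv, ζ, hζ, rfl⟩ := D.Wsup w hw
  have hvi : v⁻¹ * ζ ∈ D.W := mul_mem (D.VW (inv_mem hv)) (D.ZW hζ)
  have e : D.z * (v * ζ) * D.z⁻¹ = v⁻¹ * ζ := by
    calc D.z * (v * ζ) * D.z⁻¹ = (D.z * v * D.z⁻¹) * (D.z * ζ * D.z⁻¹) := by group
      _ = _ := by rw [D.z_inverts hv, D.z_fix hζ, mul_inv_cancel_right]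
  have e2 : g * D.z * (v * ζ) * (g * D.z)⁻¹ = v⁻¹ * ζ := by
    calc g * D.z * (v * ζ) * (g * D.z)⁻¹ = g * (D.z * (v * ζ) * D.z⁻¹) * g⁻¹ := by group
      _ = _ := by rw [e, ← hgW _ hvi, mul_inv_cancel_right]
  rw [h, mul_inv_cancel_right, mul_left_inj] at e2
  have h3 := D.Vexp hv
  have hv1 : v = 1 := by
    have h4 : v * v = 1 := eq_inv_iff_mul_eq_one.1 e2
    calc v = v ^ 3 * (v * v)⁻¹ := by rw [pow_succ, pow_two]; group
      _ = 1 := by rw [h3, h4, one_mul, inv_one]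
  rw [hv1, one_mul]; exact hζ

end Data

namespace Ctx

variable {D : Data G F} (X : Ctx D)

theorem mem_norm [Finite G] {c : G} (h : ∀ e ∈ D.E, ⁅c, e⁆ ∈ X.R) :
    c ∈ normalizer (D.E : Set G) := by
  refine BaumannBlockBasics.mem_normalizer_of_residual D.residual_eq X.R_norm_E X.R_p fun e he => ?_
  rw [show c * e * c⁻¹ = ⁅c, e⁆ * e by rw [commutatorElement_def]; group]
  exact mul_mem (mem_sup_right (h e he)) (mem_sup_left he)

theorem norm_of_le [Finite G] {K : Subgroup G} (h : ⁅K, D.E⁆ ≤ X.R) :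
    K ≤ normalizer (D.E : Set G) := fun _ hk =>
  X.mem_norm fun _ he => h (commutator_mem_commutator hk he)

/-- A 3'-element trivial on the factors of `1 ≤ W ≤ Q ≤ R` is trivial. -/
theorem isThree_of_trivial [Finite G] {n : G} (hR : n ∈ cent X.R D.Q) (hQ : n ∈ cent D.Q D.W)
    (hW : n ∈ centralizer (D.W : Set G)) : IsThree n := by
  obtain ⟨a, b, ha, hb, ha3, hb3, hab⟩ := exists_split n
  have hbR := zpowers_le.2 hR hb
  have hbQ := zpowers_le.2 hQ hb
  have hbW := zpowers_le.2 hW hb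
  have h1 : ∀ q ∈ D.Q, b * q = q * b := fun q hq =>
    commutatorElement_eq_one_iff_mul_comm.1 (eq_one_of_stab hb3
      (hbW _ (hbQ.2.2 q hq)).symm (exists_pow_of_isPGroup D.Qp (D.WQ (hbQ.2.2 q hq))))
  have h2 : b ∈ centralizer (X.R : Set G) := fun r hr =>
    (commutatorElement_eq_one_iff_mul_comm.1 (eq_one_of_stab hb3 (h1 _ (hbR.2.2 r hr))
      (exists_pow_of_isPGroup D.Qp (hbR.2.2 r hr)))).symm
  rw [hab, X.eq_one_of_cent hb3 h2, mul_one]
  exact ha3

variable {K : Subgroup G}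

/-- The scalars by which `[c, e]` acts on `Q / W`. -/
theorem exists_sign [Finite G] [Finite F] (hK : K ≤ X.CV) (hKE : ⁅K, D.E⁆ ≤ X.R) {c : G}
    (hc : c ∈ X.CV) (hcK : ∀ e ∈ D.E, ⁅c, e⁆ ∈ K) :
    (∀ e ∈ D.E, D.c2.act ⁅c, e⁆ = sc 1 ∨ D.c2.act ⁅c, e⁆ = sc (-1)) ∧
      D.c2.act ⁅c, D.z⁆ = sc 1 := by
  classical
  haveI := Fintype.ofFinite F
  have hN : ∀ e ∈ D.E, ⁅c, e⁆ ∈ normalizer (D.E : Set G) := fun e he => X.norm_of_le hKE (hcK e he)
  have hex : ∀ e ∈ D.E, ∃ k : F, D.c2.act ⁅c, e⁆ = sc k := fun e he =>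
    D.scalar2 (hN e he) fun e' he' =>
      D.commutator_mem_Q (hN e he) (X.CV_cent (hK (hcK e he))) he'
  choose k hk using hex
  have kmul : ∀ a (ha : a ∈ D.E) b (hb : b ∈ D.E), k (a * b) (mul_mem ha hb) = k a ha * k b hb := by
    intro a ha b hb
    apply sc_inj
    have ha' := D.nm2 (D.E_norm ha)
    obtain ⟨r, -, hr⟩ := D.r2 a ha
    have h1 := D.nm2 (hN a ha)
    have h2 := D.nm2 (hN b hb)
    rw [← hk, commutator_mul_right, D.c2.act_mul h1 (mul_mem (mul_mem ha' h2) (inv_mem ha')),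
      D.c2.act_mul (mul_mem ha' h2) (inv_mem ha'), D.c2.act_mul ha' h2, hk a ha, hk b hb]
    calc sc (k a ha) * (D.c2.act a * sc (k b hb) * D.c2.act a⁻¹)
        = sc (k a ha) * sc (k b hb) * (D.c2.act a * D.c2.act a⁻¹) := by
          rw [hr, show mv r * sc (k b hb) = sc (k b hb) * mv r from (sc_mv _ _).symm]
          simp only [mul_assoc]
      _ = sc (k a ha * k b hb) := by rw [D.c2.act_mul_inv ha', mul_one, sc_mul]
  have kQ : ∀ q (hq : q ∈ D.Q), k q (D.QE hq) = 1 := by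
    intro q hq
    apply sc_inj
    have hR : ⁅c, q⁆ ∈ X.R := commutatorElement_mem (X.H_norm_R (X.CV_le hc)) (X.Q_le hq)
    rw [← hk, Data.sc_one, (D.c2.act_eq_one_iff (D.nm2 (X.R_norm_E hR))).2 (X.R_cent2 hR)]
  have kcongr : ∀ a b (ha : a ∈ D.E) (hb : b ∈ D.E), a = b → k a ha = k b hb := by
    intro a b ha hb h; subst h; rfl
  have kone : k 1 (one_mem _) = 1 := kQ 1 (one_mem _)
  have kinv : ∀ a (ha : a ∈ D.E), k a ha * k a⁻¹ (inv_mem ha) = 1 := fun a ha => by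
    rw [← kmul, kcongr _ 1 _ (one_mem _) (mul_inv_cancel a), kone]
  let Kk : Subgroup G :=
    { carrier := {e | ∃ he : e ∈ D.E, k e he = 1}
      one_mem' := ⟨one_mem _, kone⟩
      mul_mem' := fun {a b} ha hb => ⟨mul_mem ha.fst hb.fst, by
        rw [kmul a ha.fst b hb.fst, ha.snd, hb.snd, one_mul]⟩
      inv_mem' := fun {a} ha => ⟨inv_mem ha.fst, by
        have := kinv a ha.fst
        rwa [ha.snd, one_mul] at this⟩ }
  have hEE : ⁅D.E, D.E⁆ ≤ Kk := commutator_le.2 fun a ha b hb => by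
    refine ⟨mul_mem (mul_mem (mul_mem ha hb) (inv_mem ha)) (inv_mem hb), ?_⟩
    rw [kcongr _ (a * b * a⁻¹ * b⁻¹) _ (mul_mem (mul_mem (mul_mem ha hb) (inv_mem ha)) (inv_mem hb))
      (commutatorElement_def a b), kmul _ (mul_mem (mul_mem ha hb) (inv_mem ha)) _ (inv_mem hb),
      kmul _ (mul_mem ha hb) _ (inv_mem ha), kmul _ ha _ hb]
    linear_combination (k b hb * k b⁻¹ (inv_mem hb)) * kinv a ha + kinv b hb
  have hE2 : ∀ e ∈ D.E, e ∈ D.c2.Nm := fun e he => D.nm2 (D.E_norm he)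
  let Im : Subgroup (SL F) :=
    { carrier := {g | ∃ e ∈ ⁅D.E, D.E⁆, e ∈ D.E ∧ D.c2.act e = mv g}
      one_mem' := ⟨1, one_mem _, one_mem _, by rw [D.c2.act_one, mv_one]⟩
      mul_mem' := fun {g g'} ⟨e, he, heE, hg⟩ ⟨e', he', heE', hg'⟩ =>
        ⟨e * e', mul_mem he he', mul_mem heE heE', by
          rw [D.c2.act_mul (hE2 e heE) (hE2 e' heE'), hg, hg', mv_mul]⟩
      inv_mem' := fun {g} ⟨e, he, heE, hg⟩ => ⟨e⁻¹, inv_mem he, inv_mem heE, by
        calc D.c2.act e⁻¹ = D.c2.act e⁻¹ * (mv g * mv g⁻¹) := by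
              rw [← mv_mul, mul_inv_cancel, mv_one, mul_one]
          _ = mv g⁻¹ := by rw [← mul_assoc, ← hg, D.c2.act_inv_mul (hE2 e heE), one_mul]⟩ }
  have hIm : ⁅commutator (SL F), commutator (SL F)⁆ ≤ Im := commutator_le.2 fun r hr r' hr' => by
    obtain ⟨e, he, hre⟩ := D.r2' r hr
    obtain ⟨e', he', hre'⟩ := D.r2' r' hr'
    have hi : ∀ {g : SL F} {x : G}, x ∈ D.E → D.c2.act x = mv g → D.c2.act x⁻¹ = mv g⁻¹ := by
      intro g x hx hg
      calc D.c2.act x⁻¹ = D.c2.act x⁻¹ * (mv g * mv g⁻¹) := by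
            rw [← mv_mul, mul_inv_cancel, mv_one, mul_one]
        _ = mv g⁻¹ := by rw [← mul_assoc, ← hg, D.c2.act_inv_mul (hE2 x hx), one_mul]
    refine ⟨⁅e, e'⁆, commutator_mem_commutator he he',
      mul_mem (mul_mem (mul_mem he he') (inv_mem he)) (inv_mem he'), ?_⟩
    rw [commutatorElement_def, D.c2.act_mul (mul_mem (mul_mem (hE2 e he) (hE2 e' he')) (inv_mem (hE2 e he)))
      (inv_mem (hE2 e' he')), D.c2.act_mul (mul_mem (hE2 e he) (hE2 e' he')) (inv_mem (hE2 e he)),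
      D.c2.act_mul (hE2 e he) (hE2 e' he'), hre, hre', hi he hre, hi he' hre', ← mv_mul, ← mv_mul,
      ← mv_mul]
    rfl
  have ksq : ∀ e (he : e ∈ D.E), k e he * k e he = 1 := by
    intro e he
    obtain ⟨r, hr, hre⟩ := D.r2 e he
    obtain ⟨e', he'c, he', hee'⟩ := hIm (sq_mem D.h3 r hr)
    have hm : e'⁻¹ * (e * e) ∈ D.E := mul_mem (inv_mem he') (mul_mem he he)
    have hq : e'⁻¹ * (e * e) ∈ D.Q := D.ker2 _ hm (by
      rw [D.c2.act_mul (inv_mem (hE2 e' he')) (mul_mem (hE2 e he) (hE2 e he)),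
        D.c2.act_mul (hE2 e he) (hE2 e he), hre, ← mv_mul, ← hee', D.c2.act_inv_mul (hE2 e' he')])
    have h1 := kmul e' he' _ hm
    rw [kcongr (e' * (e'⁻¹ * (e * e))) (e * e) _ (mul_mem he he) (by group), kmul e he e he,
      (hEE he'c).snd, kQ _ hq, one_mul] at h1
    exact h1
  refine ⟨fun e he => ?_, ?_⟩
  · rcases mul_self_eq_one_iff.1 (ksq e he) with h | h
    · exact Or.inl (by rw [hk e he, h])
    · exact Or.inr (by rw [hk e he, h])
  · obtain ⟨m, hm, hmv⟩ := exists_M1 D.h3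
    obtain ⟨e, he, hem⟩ := D.r2' m hm
    have hρ' : D.z⁻¹ * (e * e) ∈ D.E := mul_mem (inv_mem D.z_mem) (mul_mem he he)
    have hρ : D.z⁻¹ * (e * e) ∈ D.Q := D.ker2 _ hρ' (by
      rw [D.c2.act_mul (inv_mem (hE2 _ D.z_mem)) (mul_mem (hE2 e he) (hE2 e he)),
        D.c2.act_mul (hE2 e he) (hE2 e he), hem,
        show mv m * mv m = D.c2.act D.z by
          rw [D.z_act2]
          refine endExt fun v => ?_
          show mv m (mv m v) = (-1 : F) • v
          rw [hmv, hmv]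
          ext i
          fin_cases i <;> simp,
        D.c2.act_inv_mul (hE2 _ D.z_mem)])
    have h1 := kmul D.z D.z_mem _ hρ'
    rw [kcongr (D.z * (D.z⁻¹ * (e * e))) (e * e) _ (mul_mem he he) (by group), kmul e he e he,
      ksq e he, kQ _ hρ, mul_one] at h1
    rw [hk D.z D.z_mem, ← h1]

/-- The case of an element commuting with `z`. -/
theorem key_aux [Finite G] [Finite F] (hK : K ≤ X.CV) (hRK : X.R ≤ K)
    (hKE : ⁅K, D.E⁆ ≤ X.R) {c : G} (hc : c ∈ X.CV) (hc3 : IsThree c)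
    (hcK : ∀ e ∈ D.E, ⁅c, e⁆ ∈ K) (hcz : Commute c D.z) : ∀ e ∈ D.E, ⁅c, e⁆ ∈ X.R := by
  have _ := hRK
  have hcR : c ∈ normalizer (X.R : Set G) := X.H_norm_R (X.CV_le hc)
  set Q1 := closure ((fun r => ⁅r, D.z⁆) '' (X.R : Set G)) with hQ1
  have hQ1Q : Q1 ≤ D.Q := (closure_le _).2 (by rintro _ ⟨r, hr, rfl⟩; exact X.comm_R hr D.z_mem)
  have hcQ1 : c ∈ normalizer (Q1 : Set G) := by
    have hle : Q1 ≤ Q1.comap (MulAut.conj c).toMonoidHom := (closure_le _).2 (by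
      rintro _ ⟨r, hr, rfl⟩
      refine subset_closure ⟨c * r * c⁻¹, conj_mem' hcR hr, ?_⟩
      show ⁅c * r * c⁻¹, D.z⁆ = (MulAut.conj c) ⁅r, D.z⁆
      have hz : c * D.z * c⁻¹ = D.z := by rw [hcz.eq, mul_inv_cancel_right]
      conv_lhs => rw [← hz]
      simp only [MulAut.conj_apply, commutatorElement_def]; group)
    exact mem_normalizer_fintype fun x hx => hle hx
  have hWn : D.W ≤ normalizer (Q1 : Set G) := LocalBasics.le_normalizer_of_conj fun w hw x hx => by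
    rwa [← D.Wcent w hw x (hQ1Q hx), mul_inv_cancel_right]
  have hQ : D.Q = Q1 ⊔ D.W := by
    refine le_antisymm (fun q hq => ?_) (sup_le hQ1Q D.WQ)
    have hn := D.nm2 (D.E_norm D.z_mem)
    have hzq := D.c2.conj_mem hn (inv_mem hq)
    have hm := mul_mem (inv_mem hq) hzq
    have hw : q⁻¹ * (D.z * q⁻¹ * D.z⁻¹) ∈ D.W := (D.c2.val_eq_zero hm).1 (by
      rw [D.c2.val_mul (inv_mem hq) hzq, ← D.c2.act_val hn (inv_mem hq), D.z_act2, D.c2.val_inv hq]
      simp)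
    have h1 : q * q ∈ Q1 ⊔ D.W := by
      have := mul_mem (mem_sup_left (T := D.W) (show ⁅q, D.z⁆ ∈ Q1 from
        subset_closure ⟨q, X.Q_le hq, rfl⟩)) (mem_sup_right (S := Q1) (inv_mem hw))
      convert this using 1
      rw [commutatorElement_def]; group
    have h2 : q ^ 3 ∈ Q1 ⊔ D.W := mem_sup_right (D.ZW (D.pow3 q hq))
    have := mul_mem (mul_mem h1 h1) (inv_mem h2)
    convert this using 1
    group
  have hZ : D.Z = ⁅Q1, Q1⁆ := by
    refine le_antisymm ?_ ((commutator_mono hQ1Q hQ1Q).trans D.comm.le)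
    rw [← D.comm]
    refine commutator_le.2 fun a ha b hb => ?_
    rw [hQ, ← SetLike.mem_coe, Subgroup.coe_mul_of_right_le_normalizer_left _ _ hWn] at ha hb
    obtain ⟨a, ha', w, hw, rfl⟩ := ha
    obtain ⟨b, hb', w', hw', rfl⟩ := hb
    have c1 : Commute w (b * w') := (D.Wcent w hw _ (mul_mem (hQ1Q hb') (D.WQ hw'))).symm
    have c2 : Commute w' a := (D.Wcent w' hw' a (hQ1Q ha')).symm
    have e : ⁅a * w, b * w'⁆ = ⁅a, b⁆ := by
      calc ⁅a * w, b * w'⁆ = a * (w * (b * w') * w⁻¹) * a⁻¹ * (b * w')⁻¹ := by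
            simp only [commutatorElement_def]; group
        _ = a * b * (w' * a⁻¹) * w'⁻¹ * b⁻¹ := by rw [c1.eq]; group
        _ = ⁅a, b⁆ := by rw [c2.inv_right.eq, commutatorElement_def]; group
    rw [e]
    exact commutator_mem_commutator ha' hb'
  have hcV : c ∈ normalizer (D.V : Set G) := LocalBasics.centralizer_le_normalizer _ (X.CV_cent hc)
  have hcZ : c ∈ normalizer (D.Z : Set G) := by
    rw [hZ]; exact norm_commutator le_rfl le_rfl (mem_inf.2 ⟨hcQ1, hcQ1⟩)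
  have hcW : c ∈ normalizer (D.W : Set G) := by
    have hW : D.W = D.V ⊔ D.Z := le_antisymm (fun w hw => by
      obtain ⟨v, hv, ζ, hζ, rfl⟩ := D.Wsup w hw
      exact mul_mem (mem_sup_left hv) (mem_sup_right hζ)) (sup_le D.VW D.ZW)
    rw [hW]
    exact LocalBasics.le_normalizer_sup (zpowers_le.2 hcV) (zpowers_le.2 hcZ) (mem_zpowers c)
  have hcQ : c ∈ normalizer (D.Q : Set G) := by
    rw [hQ]
    exact LocalBasics.le_normalizer_sup (zpowers_le.2 hcQ1) (zpowers_le.2 hcW) (mem_zpowers c)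
  have hER : D.E ≤ cent X.R D.Q := fun e he => ⟨X.H_norm_R (X.EH he), D.NQ (D.E_norm he),
    fun r hr => by rw [← commutatorElement_inv]; exact inv_mem (X.comm_R hr he)⟩
  have hcent : ∀ e ∈ D.E, ⁅c, e⁆ ∈ cent X.R D.Q := fun e he => by
    rw [commutatorElement_def]
    exact mul_mem (conj_mem' (le_normalizer_cent (zpowers_le.2 hcR) (zpowers_le.2 hcQ)
      (mem_zpowers c)) (hER he)) (inv_mem (hER he))
  have hc2 : c ∈ D.c2.Nm := ⟨hcQ, hcW⟩
  have hN : ∀ e ∈ D.E, ⁅c, e⁆ ∈ normalizer (D.E : Set G) := fun e he => X.norm_of_le hKE (hcK e he)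
  obtain ⟨hsign, -⟩ := X.exists_sign hK hKE hc hcK
  have hone : ∀ e ∈ D.E, D.c2.act ⁅c, e⁆ = 1 := by
    intro e he
    rcases hsign e he with h | h
    · rw [h, Data.sc_one]
    exfalso
    have he2 := D.nm2 (D.E_norm he)
    have hcomm : ∀ i : ℕ, D.c2.act (c ^ i * e * (c ^ i)⁻¹) = sc ((-1 : F) ^ i) * D.c2.act e := by
      intro i
      induction i with
      | zero => simp [Data.sc_one]
      | succ i ih =>
        have hci : c ^ i * e * (c ^ i)⁻¹ ∈ D.c2.Nm :=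
          mul_mem (mul_mem (pow_mem hc2 i) he2) (inv_mem (pow_mem hc2 i))
        have hγ : D.c2.act c * sc ((-1 : F) ^ i) = sc ((-1 : F) ^ i) * D.c2.act c := by
          refine endExt fun v => ?_
          show D.c2.act c (((-1 : F) ^ i) • v) = ((-1 : F) ^ i) • D.c2.act c v
          rcases neg_one_pow_eq_or (R := F) i with hh | hh <;> rw [hh] <;> simp
        have h0 : D.c2.act c * D.c2.act e * D.c2.act c⁻¹ = sc (-1) * D.c2.act e := by
          rw [← h, ← D.c2.act_mul hc2 he2, ← D.c2.act_mul (mul_mem hc2 he2) (inv_mem hc2),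
            ← D.c2.act_mul (D.nm2 (hN e he)) he2]
          congr 1
          rw [commutatorElement_def]; group
        calc D.c2.act (c ^ (i + 1) * e * (c ^ (i + 1))⁻¹)
            = D.c2.act (c * (c ^ i * e * (c ^ i)⁻¹) * c⁻¹) := by congr 1; rw [pow_succ']; group
          _ = D.c2.act c * (sc ((-1 : F) ^ i) * D.c2.act e) * D.c2.act c⁻¹ := by
              rw [D.c2.act_mul (mul_mem hc2 hci) (inv_mem hc2), D.c2.act_mul hc2 hci, ih]
          _ = sc ((-1 : F) ^ i) * (D.c2.act c * D.c2.act e * D.c2.act c⁻¹) := by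
              rw [← mul_assoc (D.c2.act c), hγ]; simp only [mul_assoc]
          _ = _ := by rw [h0, ← mul_assoc, sc_mul, ← pow_succ]
    obtain ⟨k, hk⟩ := hc3
    have h1 := hcomm (3 ^ k)
    rw [hk, one_mul, inv_one, mul_one, Odd.neg_one_pow (Odd.pow (by decide))] at h1
    have h2 : sc (-1 : F) = 1 := by
      calc sc (-1 : F) = sc (-1) * (D.c2.act e * D.c2.act e⁻¹) := by
            rw [D.c2.act_mul_inv he2, mul_one]
        _ = 1 := by rw [← mul_assoc, ← h1, D.c2.act_mul_inv he2]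
    exact neg_one_ne_one D.h3 (Data.sc_eq_one h2)
  have hthree : ∀ e ∈ D.E, IsThree ⁅c, e⁆ := fun e he => by
    have h2 := (D.c2.act_eq_one_iff (D.nm2 (hN e he))).1 (hone e he)
    exact X.isThree_of_trivial (hcent e he) h2
      (D.centralizes_W (X.CV_cent (hK (hcK e he))) h2)
  have hKR : ∀ n ∈ K, ∀ e ∈ D.E, ⁅e, n⁆ ∈ X.R := fun n hn e he => by
    rw [← commutatorElement_inv]; exact inv_mem (hKE (commutator_mem_commutator hn he))
  have hnR : ∀ e ∈ D.E, ⁅c, e⁆ ∈ normalizer (X.R : Set G) := fun e he =>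
    X.H_norm_R (X.CV_le (hK (hcK e he)))
  let M : Subgroup G :=
    { carrier := {e | e ∈ D.E ∧ ⁅c, e⁆ ∈ X.R}
      one_mem' := ⟨one_mem _, by rw [commutatorElement_one_right]; exact one_mem _⟩
      mul_mem' := fun {a b} ha hb => ⟨mul_mem ha.1 hb.1, by
        rw [commutator_mul_right]
        exact mul_mem ha.2 (conj_mem' (X.H_norm_R (X.EH ha.1)) hb.2)⟩
      inv_mem' := fun {a} ha => ⟨inv_mem ha.1, by
        rw [show ⁅c, a⁻¹⁆ = a⁻¹ * ⁅c, a⁆⁻¹ * a⁻¹⁻¹ by simp only [commutatorElement_def]; group]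
        exact conj_mem' (X.H_norm_R (X.EH (inv_mem ha.1))) (inv_mem ha.2)⟩ }
  have hM : D.E ≤ M := by
    conv_lhs => rw [← D.res]
    refine (closure_le _).2 fun e he => ⟨he.1, ?_⟩
    have key : ∀ i : ℕ, ⁅c, e ^ i⁆ * (⁅c, e⁆ ^ i)⁻¹ ∈ X.R := by
      intro i
      induction i with
      | zero => simp [one_mem]
      | succ i ih =>
        have h1 := hKR _ (hcK _ (pow_mem he.1 i)) e he.1
        have h2 := conj_mem' (hnR e he.1) (mul_mem h1 ih)
        convert h2 using 1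
        rw [pow_succ' e, commutator_mul_right, pow_succ' ⁅c, e⁆,
          show e * ⁅c, e ^ i⁆ * e⁻¹ = ⁅e, ⁅c, e ^ i⁆⁆ * ⁅c, e ^ i⁆ by
            simp only [commutatorElement_def]; group]
        generalize ⁅e, ⁅c, e ^ i⁆⁆ = ρ
        generalize ⁅c, e ^ i⁆ = m
        generalize ⁅c, e⁆ = n
        simp only [mul_inv_rev, mul_assoc]
    have h := key (orderOf e)
    rw [pow_orderOf_eq_one, commutatorElement_one_right, one_mul, inv_mem_iff] at h
    exact mem_of_coprime_pow (hthree e he.1) he.2 h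
  exact fun e he => (hM he).2

/-- A 3-element moving `E` into `K` moves it into `R`. -/
theorem key [Finite G] [Finite F] (hK : K ≤ X.CV) (hRK : X.R ≤ K) (hKE : ⁅K, D.E⁆ ≤ X.R) {c : G}
    (hc : c ∈ X.CV) (hc3 : IsThree c) (hcK : ∀ e ∈ D.E, ⁅c, e⁆ ∈ K) :
    ∀ e ∈ D.E, ⁅c, e⁆ ∈ X.R := by
  set n := ⁅c, D.z⁆ with hn
  have hnE : n ∈ normalizer (D.E : Set G) := X.norm_of_le hKE (hcK _ D.z_mem)
  have hnH : n ∈ X.H := X.CV_le (hK (hcK _ D.z_mem))
  have hnV : n ∈ centralizer (D.V : Set G) := X.CV_cent (hK (hcK _ D.z_mem))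
  obtain ⟨-, hs⟩ := X.exists_sign hK hKE hc hcK
  rw [Data.sc_one, ← hn] at hs
  have hn2 : n ∈ cent D.Q D.W := (D.c2.act_eq_one_iff (D.nm2 hnE)).1 hs
  have hnW : n ∈ centralizer (D.W : Set G) := D.centralizes_W hnV hn2
  set z' := n * D.z with hz'
  have hzc : c * D.z * c⁻¹ = z' := by rw [hz', hn, commutatorElement_def]; group
  have hz'E : z' ∈ normalizer (D.E : Set G) := mul_mem hnE (D.E_norm D.z_mem)
  have hz'2 : D.c2.act z' = sc (-1) := by
    rw [hz', D.c2.act_mul (D.nm2 hnE) (D.nm2 (D.E_norm D.z_mem)), hs, D.z_act2, one_mul]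
  have hnz : D.z * n * D.z = n⁻¹ := by
    apply eq_inv_of_mul_eq_one_left
    calc D.z * n * D.z * n = D.z * ((n * D.z) * (n * D.z)) * D.z⁻¹ := by group
      _ = D.z * (c * (D.z * D.z) * c⁻¹) * D.z⁻¹ := by
        rw [← hz', ← hzc]; group
      _ = 1 := by rw [D.z_sq]; group
  have hnn : n * n ∈ X.R := by
    have h := hKE (commutator_mem_commutator (hcK _ D.z_mem) D.z_mem)
    have hi : D.z * n⁻¹ * D.z⁻¹ = n := by
      rw [← hnz, D.z_inv]
      calc D.z * (D.z * n * D.z) * D.z = (D.z * D.z) * n * (D.z * D.z) := by group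
        _ = n := by rw [D.z_sq, one_mul, mul_one]
    rwa [← hn, show ⁅n, D.z⁆ = n * (D.z * n⁻¹ * D.z⁻¹) by rw [commutatorElement_def]; group, hi] at h
  -- fixed points of the conjugate involution
  set U' := X.U.map (MulAut.conj c).toMonoidHom with hU'
  have hU'R : U' ≤ X.R := by
    rintro _ ⟨u, hu, rfl⟩
    exact conj_mem' (X.H_norm_R (X.CV_le hc)) (mem_inf.1 hu).1
  have hU'z : ∀ u ∈ U', z' * u = u * z' := by
    rintro _ ⟨u, hu, rfl⟩
    have h : Commute D.z u := (mem_centralizer_singleton_iff.1 (mem_inf.1 hu).2).symm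
    rw [← hzc]
    exact (h.map (MulAut.conj c).toMonoidHom).eq
  have hRQ : X.R ≤ normalizer (D.Q : Set G) := fun r hr => (X.R_cent2 hr).1
  have hZU : D.Z ≤ X.U ⊓ D.Q := fun ζ hζ =>
    mem_inf.2 ⟨mem_inf.2 ⟨X.Q_le (D.WQ (D.ZW hζ)),
      mem_centralizer_singleton_iff.2 (D.z_fix hζ).symm⟩, D.WQ (D.ZW hζ)⟩
  have hU'Q : U' ⊓ D.Q ≤ D.Z := fun q hq => by
    obtain ⟨h1, h2⟩ := mem_inf.1 hq
    exact D.inverts_fix_Z hnW (D.fixed_mem_W hz'E hz'2 h2 (hU'z q h1)) (hU'z q h1)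
  have hUR : X.R ≤ X.U ⊔ D.Q := fun r hr => by
    obtain ⟨q, hq, u, hu, huz, rfl⟩ := X.exists_qu hr
    exact mul_mem (mem_sup_right hq)
      (mem_sup_left (mem_inf.2 ⟨hu, mem_centralizer_singleton_iff.2 huz.symm⟩))
  have hcard : X.R ≤ U' ⊔ D.Q := by
    have e1 := OffendersReplace.card_sup_mul_card_inf U' D.Q (hU'R.trans hRQ)
    have e2 := OffendersReplace.card_sup_mul_card_inf X.U D.Q
      ((inf_le_left : X.U ≤ X.R).trans hRQ)
    have e3 : Nat.card ↥U' = Nat.card ↥X.U := card_map_of_injective (MulAut.conj c).injective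
    have e4 : Nat.card ↥(U' ⊓ D.Q : Subgroup G) ≤ Nat.card ↥(X.U ⊓ D.Q : Subgroup G) :=
      Subgroup.card_le_of_le (hU'Q.trans hZU)
    rw [e3, ← e2] at e1
    have hle : U' ⊔ D.Q ≤ X.R := sup_le hU'R X.Q_le
    have e5 : Nat.card ↥(X.U ⊔ D.Q : Subgroup G) ≤ Nat.card ↥(U' ⊔ D.Q : Subgroup G) := by
      by_contra hlt
      push Not at hlt
      have := Nat.mul_lt_mul_of_lt_of_le hlt e4 Nat.card_pos
      omega
    exact (Subgroup.eq_of_le_of_card_ge hle ((Subgroup.card_le_of_le hUR).trans e5)).ge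
  have hnR : n ∈ cent X.R D.Q := by
    refine ⟨X.H_norm_R hnH, D.NQ hnE, fun r hr => ?_⟩
    have hr' := hcard hr
    rw [← SetLike.mem_coe, Subgroup.coe_mul_of_left_le_normalizer_right _ _ (hU'R.trans hRQ)] at hr'
    obtain ⟨u, hu, q, hq, rfl⟩ := hr'
    have e : ⁅n, u * q⁆ = ⁅n, u⁆ * (u * ⁅n, q⁆ * u⁻¹) := commutator_mul_right n u q
    rw [e]
    refine mul_mem ?_ (conj_mem' (hRQ (hU'R hu)) (D.WQ (hn2.2.2 q hq)))
    have hnn' : n = z' * D.z := by rw [hz', mul_assoc, D.z_sq, mul_one]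
    rw [hnn', show ⁅z' * D.z, u⁆ = z' * ⁅D.z, u⁆ * z'⁻¹ * ⁅z', u⁆ by
      simp only [commutatorElement_def]; group,
      commutatorElement_eq_one_iff_mul_comm.2 (hU'z u hu), mul_one, ← commutatorElement_inv]
    exact conj_mem' (D.NQ hz'E) (inv_mem (X.comm_R (hU'R hu) D.z_mem))
  have hn3 := X.isThree_of_trivial hnR hn2 hnW
  have hnR' : n ∈ X.R := mem_of_sq_mem hn3 hnn
  obtain ⟨k, hk⟩ := hn3
  obtain ⟨j, hj⟩ : Odd (3 ^ k) := Odd.pow (by decide)
  set q := n ^ (j + 1) with hq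
  have hq2 : q * q = n := by
    rw [hq, ← pow_add, show (j + 1) + (j + 1) = 3 ^ k + 1 by omega, pow_succ, hk, one_mul]
  have hqR : q ∈ X.R := pow_mem hnR' _
  have hqz : D.z * q * D.z⁻¹ = q⁻¹ := by
    rw [hq, ← conj_pow, D.z_inv, hnz, inv_pow]
  have hc' : Commute (q⁻¹ * c) D.z := by
    show q⁻¹ * c * D.z = D.z * (q⁻¹ * c)
    have hi : D.z * q⁻¹ = q * D.z := by
      calc D.z * q⁻¹ = (D.z * q * D.z⁻¹)⁻¹ * D.z := by group
        _ = q * D.z := by rw [hqz, inv_inv]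
    rw [← mul_assoc D.z, hi, mul_assoc q, mul_assoc, inv_mul_eq_iff_eq_mul, ← mul_assoc q q,
      hq2, hn, commutatorElement_def]
    group
  have hcq : ∀ e, ⁅q⁻¹ * c, e⁆ = q⁻¹ * ⁅c, e⁆ * q * ⁅q⁻¹, e⁆ := fun e => by
    simp only [commutatorElement_def]; group
  have hqe : ∀ e ∈ D.E, ⁅q⁻¹, e⁆ ∈ X.R := fun e he => X.Q_le (X.comm_R (inv_mem hqR) he)
  intro e he
  have h := X.key_aux hK hRK hKE (mul_mem (X.R_le_CV (inv_mem hqR)) hc)
    (isThree_translate X.R_p (inv_mem hqR) (X.H_norm_R (X.CV_le hc)) hc3)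
    (fun e he => by
      rw [hcq]
      exact mul_mem (mul_mem (mul_mem (hRK (inv_mem hqR)) (hcK e he)) (hRK hqR)) (hRK (hqe e he)))
    hc' e he
  rw [hcq] at h
  have := mul_mem (mul_mem hqR (mul_mem h (inv_mem (hqe e he)))) (inv_mem hqR)
  convert this using 1
  group

end Ctx

end Cfsg.Agent.Block39
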