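import Mathlib
import Cfsg.Agent.Lib.Block39Key
import Cfsg.Agent.Lib.Block39Crit1

/-!
A Sylow subgroup of `C_H(V)` normalises `E`.
-/

set_option autoImplicit false

namespace Cfsg.Agent.Block39

open Subgroup Cfsg Block39Plane Block39Chart BaumannSubnormal58
open scoped commutatorElement

variable {G : Type*} [Group G] {F : Type} [Field F]

/-- The induction hypothesis below `X`. -/
def Below {D : Data G F} (X : Ctx D) : Prop :=
  ∀ X' : Ctx D, Nat.card ↥X'.H < Nat.card ↥X.H → X'.CV ≤ normalizer (D.E : Set G)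

namespace Ctx

variable {D : Data G F} (X : Ctx D)

theorem Sylow_ge_R [Finite G] {P : Subgroup G} (hPH : P ≤ X.H) (hidx : ¬ 3 ∣ P.relIndex X.H) :
    X.R ≤ P := by
  obtain ⟨w, hw, h⟩ := exists_conj_into X.R_p X.R_le hPH hidx
  intro r hr
  have h2 := h _ (conj_mem' (X.H_norm_R (inv_mem hw)) hr)
  rwa [show w * (w⁻¹ * r * w⁻¹⁻¹) * w⁻¹ = r by group] at h2

theorem H_norm_V : X.H ≤ normalizer (D.V : Set G) :=
  X.H_le_of (X.CV_cent.trans (LocalBasics.centralizer_le_normalizer _))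
    (Subgroup.le_normalizer.trans D.NV) (D.BE.trans D.NV)

theorem W_R'_le_Z [Finite G] (hR' : D.V ⊓ ⁅X.R, X.R⁆ = ⊥) {w : G} (hw : w ∈ D.W)
    (hwR : w ∈ ⁅X.R, X.R⁆) : w ∈ D.Z := by
  obtain ⟨v, hv, ζ, hζ, rfl⟩ := D.Wsup w hw
  have : v ∈ D.V ⊓ ⁅X.R, X.R⁆ := ⟨hv, by simpa using mul_mem hwR (inv_mem (X.Z_le_R' hζ))⟩
  rw [hR', mem_bot] at this
  rw [this, one_mul]; exact hζ

/-- A subcontext normalising `T`. -/
def sub (T : Subgroup G) (hE : D.E ≤ normalizer (T : Set G)) (hB : D.B ≤ normalizer (T : Set G))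
    (hR : D.R₀ ≤ normalizer (T : Set G)) : Ctx D where
  H := X.H ⊓ normalizer (T : Set G)
  EH := le_inf X.EH hE
  BH := le_inf X.BH hB
  R₀H := le_inf X.R₀H hR
  HC := inf_le_left.trans X.HC

theorem sub_or [Finite G] (hX : Below X) {T : Subgroup G} (hE : D.E ≤ normalizer (T : Set G))
    (hB : D.B ≤ normalizer (T : Set G)) (hR : D.R₀ ≤ normalizer (T : Set G)) :
    X.H ≤ normalizer (T : Set G) ∨ X.CV ⊓ normalizer (T : Set G) ≤ normalizer (D.E : Set G) := by
  by_cases h : X.H ≤ normalizer (T : Set G)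
  · exact Or.inl h
  refine Or.inr (le_trans ?_ (hX (X.sub T hE hB hR) ?_))
  · intro g hg
    obtain ⟨h1, h2⟩ := mem_inf.1 hg
    exact mem_inf.2 ⟨mem_inf.2 ⟨X.CV_le h1, h2⟩, X.CV_cent h1⟩
  · refine lt_of_le_of_ne (Subgroup.card_le_of_le inf_le_left) fun hc => h ?_
    exact inf_eq_left.1 (Subgroup.eq_of_le_of_card_ge inf_le_left hc.ge)

/-- Below a minimal counterexample a Sylow subgroup of `C_H(V)` normalises `E`. -/
theorem sylow_norm [Finite G] [Finite F] (hX : Below X) {P : Subgroup G} (hPH : P ≤ X.H)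
    (hP : IsPGroup 3 ↥P) (hidx : ¬ 3 ∣ P.relIndex X.H) (hBP : D.B ≤ P) :
    P ⊓ X.CV ≤ normalizer (D.E : Set G) := by
  by_contra hS
  have hRP := X.Sylow_ge_R hPH hidx
  set S0 := (P ⊓ X.CV) ⊓ normalizer (D.E : Set G) with hS0
  have hPS : P ≤ normalizer ((P ⊓ X.CV : Subgroup G) : Set G) :=
    LocalBasics.le_normalizer_inf Subgroup.le_normalizer (hPH.trans X.H_norm_CV)
  have hRS0 : X.R ≤ S0 := le_inf (le_inf hRP X.R_le_CV) X.R_norm_E
  have hBS0 : D.B ≤ normalizer (S0 : Set G) :=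
    LocalBasics.le_normalizer_inf (hBP.trans hPS) (D.BE.trans Subgroup.le_normalizer)
  have hES0 : D.E ≤ normalizer (S0 : Set G) := LocalBasics.le_normalizer_of_conj fun e he s hs => by
    obtain ⟨hs1, hs2⟩ := mem_inf.1 hs
    have h := D.commutator_mem_Q hs2 (X.CV_cent (mem_inf.1 hs1).2) he
    rw [show e * s * e⁻¹ = ⁅s, e⁆⁻¹ * s by rw [commutatorElement_def]; group]
    exact mul_mem (hRS0 (X.Q_le (inv_mem h))) hs
  have hS0R : S0 ≤ X.R := by
    rcases X.sub_or hX hES0 hBS0 ((X.R₀_le.trans hRS0).trans Subgroup.le_normalizer) with h | h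
    · exact LocalBasics.le_pCoreOf (inf_le_left.trans (inf_le_left.trans hPH)) h
        (hP.to_le (inf_le_left.trans inf_le_left))
    · exfalso
      have h' := le_of_normalizer_le (hP.to_le inf_le_left) (inf_le_left : S0 ≤ P ⊓ X.CV)
        (fun x hx => mem_inf.2 ⟨(mem_inf.1 hx).1,
          h (mem_inf.2 ⟨(mem_inf.1 (mem_inf.1 hx).1).2, (mem_inf.1 hx).2⟩)⟩)
      exact hS (h'.ge.trans inf_le_right)
  have hBR : D.B ⊓ centralizer (D.V : Set G) ≤ X.R := fun b hb =>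
    hS0R (mem_inf.2 ⟨mem_inf.2 ⟨hBP (mem_inf.1 hb).1,
      mem_inf.2 ⟨X.BH (mem_inf.1 hb).1, (mem_inf.1 hb).2⟩⟩, D.BE (mem_inf.1 hb).1⟩)
  have hAR : D.A ⊓ centralizer (D.V : Set G) ≤ X.R := (inf_le_inf_right _ D.AB).trans hBR
  -- a maximal elementary abelian subgroup in `R`
  set Vo := omegaOneCenter 3 X.R with hVo
  have hcom : ∀ x ∈ X.R ⊓ centralizer (X.R : Set G), ∀ y ∈ X.R ⊓ centralizer (X.R : Set G),
      x * y = y * x := fun x hx y hy => (mem_inf.1 hy).2 x (mem_inf.1 hx).1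
  have hVoR : Vo ≤ X.R := (Offenders.omegaOne_le _).trans inf_le_left
  have hVoC : ∀ x ∈ Vo, ∀ r ∈ X.R, r * x = x * r := fun x hx r hr =>
    (mem_inf.1 (Offenders.omegaOne_le _ hx)).2 r hr
  have hVR : D.V ≤ X.R := D.VW.trans (D.WQ.trans X.Q_le)
  have hVVo : D.V ≤ Vo := fun v hv =>
    Offenders.mem_omegaOne (mem_inf.2 ⟨hVR hv, fun r hr => (X.R_centV hr v hv).symm⟩) (D.Vexp hv)
  set A1 := D.A ⊓ centralizer (D.V : Set G) with hA1
  set A0 := A1 ⊔ Vo with hA0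
  have hA0ea : IsElementaryAbelian 3 A0 :=
    Offenders.ea_sup (Offenders.ea_mono D.Amax.1 inf_le_left) (Offenders.omegaOne_ea hcom)
      fun a ha x hx => hVoC x hx a (hAR ha)
  have hA0R : A0 ≤ X.R := sup_le hAR hVoR
  have hA1n : A1 ≤ normalizer (Vo : Set G) := LocalBasics.le_normalizer_of_conj fun a ha x hx => by
    rwa [hVoC x hx a (hAR ha), mul_inv_cancel_right]
  have hcardA : Nat.card ↥D.A ≤ Nat.card ↥A0 := by
    have hk := D.A_card
    have e1 : Nat.card ↥A0 * Nat.card ↥(A1 ⊓ Vo : Subgroup G) = Nat.card ↥A1 * Nat.card ↥Vo :=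
      OffendersReplace.card_sup_mul_card_inf A1 Vo hA1n
    set J := A1 ⊓ Vo with hJ
    have hJn : J ≤ normalizer (D.V : Set G) :=
      (inf_le_left.trans inf_le_right).trans (LocalBasics.centralizer_le_normalizer _)
    have e2 := OffendersReplace.card_sup_mul_card_inf J D.V hJn
    have e3 : Nat.card ↥(J ⊔ D.V : Subgroup G) ≤ Nat.card ↥Vo :=
      Subgroup.card_le_of_le (sup_le inf_le_right hVVo)
    have e4 : Nat.card ↥(J ⊓ D.V : Subgroup G) ≤ Nat.card ↥(D.V ⊓ centralizer (D.A : Set G) : Subgroup G) :=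
      Subgroup.card_le_of_le fun x hx => mem_inf.2 ⟨(mem_inf.1 hx).2, fun a ha =>
        ((Offenders.ea_iff D.A).1 D.Amax.1).1 a ha x (mem_inf.1 (mem_inf.1 (mem_inf.1 hx).1).1).1⟩
    have e5 : Nat.card ↥J * Nat.card ↥D.V ≤
        Nat.card ↥Vo * Nat.card ↥(D.V ⊓ centralizer (D.A : Set G) : Subgroup G) := by
      rw [← e2]; exact Nat.mul_le_mul e3 e4
    have e6 : Nat.card ↥D.A * Nat.card ↥J * Nat.card ↥D.V ≤
        Nat.card ↥A0 * Nat.card ↥J * Nat.card ↥D.V := by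
      calc Nat.card ↥D.A * Nat.card ↥J * Nat.card ↥D.V
          ≤ Nat.card ↥D.A * (Nat.card ↥Vo * Nat.card ↥(D.V ⊓ centralizer (D.A : Set G) : Subgroup G)) := by
            rw [mul_assoc]; exact Nat.mul_le_mul_left _ e5
        _ = Nat.card ↥Vo * (Nat.card ↥D.A * Nat.card ↥(D.V ⊓ centralizer (D.A : Set G) : Subgroup G)) := by
            ring
        _ ≤ Nat.card ↥Vo * (Nat.card ↥A1 * Nat.card ↥D.V) := Nat.mul_le_mul_left _ hk
        _ = Nat.card ↥A0 * Nat.card ↥J * Nat.card ↥D.V := by rw [e1]; ring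
    exact Nat.le_of_mul_le_mul_right (Nat.le_of_mul_le_mul_right e6 Nat.card_pos) Nat.card_pos
  have hA0max := Offenders.max_of_card_le D.Amax hA0ea hcardA
  set Y1 := sInf {A' | A' ∈ maxElementaryAbelianSubgroups 3 G ∧ A' ≤ X.R} with hY1
  have hY1A0 : Y1 ≤ A0 := sInf_le ⟨hA0max, hA0R⟩
  have hY1R : Y1 ≤ X.R := hY1A0.trans hA0R
  have hY1comm : ∀ a ∈ Y1, ∀ b ∈ Y1, a * b = b * a := fun a ha b hb =>
    ((Offenders.ea_iff A0).1 hA0ea).1 a (hY1A0 ha) b (hY1A0 hb)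
  have hHY1 : X.H ≤ normalizer (Y1 : Set G) := LocalBasics.le_normalizer_of_conj fun h hh y hy => by
    refine (mem_sInf).2 fun A' hA' => ?_
    have hA'' : A'.map (MulAut.conj h⁻¹).toMonoidHom ≤ X.R := by
      rintro _ ⟨a, ha, rfl⟩
      exact conj_mem' (X.H_norm_R (inv_mem hh)) (hA'.2 ha)
    obtain ⟨a, ha, hay⟩ := (mem_sInf.1 hy) _
      ⟨Offenders.max_map_equiv hA'.1 (MulAut.conj h⁻¹), hA''⟩
    rw [← hay]
    simpa [mul_assoc] using ha
  have hVY1 : D.V ≤ Y1 := fun v hv => mem_sInf.2 fun A' hA' =>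
    Offenders.mem_max_of_commute hA'.1 (D.Vexp hv) fun a ha => (X.R_centV (hA'.2 ha) v hv).symm
  have hYY1 : D.Y ≤ Y1 := fun y hy => mem_sInf.2 fun A' hA' =>
    Offenders.mem_max_of_commute hA'.1 (D.Yexp y hy) fun a ha =>
      D.YJ A' hA'.1 (D.maxB P hP hBP A' hA'.1 (hA'.2.trans hRP)) a ha y hy
  have hYQ : Y1 ⊓ D.Q ≤ D.W := by
    have hn : Y1 ⊓ D.Q ≤ normalizer (D.W : Set G) := inf_le_right.trans fun q hq => D.NW (D.Q_norm hq)
    rcases D.irred2 (X := (Y1 ⊓ D.Q) ⊔ D.W) le_sup_right (sup_le inf_le_right D.WQ)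
      (LocalBasics.le_normalizer_sup
        (LocalBasics.le_normalizer_inf (X.EH.trans hHY1) (Subgroup.le_normalizer.trans D.NQ))
        (Subgroup.le_normalizer.trans D.NW)) with h | h
    · exact le_sup_left.trans h.le
    · exfalso
      apply D.Zne
      rw [← D.comm, commutator_eq_bot_iff_le_centralizer]
      intro a ha b hb
      have ha' := h.ge ha
      have hb' := h.ge hb
      rw [← SetLike.mem_coe, Subgroup.coe_mul_of_left_le_normalizer_right _ _ hn] at ha' hb'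
      obtain ⟨a, ha0, w, hw, rfl⟩ := ha'
      obtain ⟨b, hb0, w', hw', rfl⟩ := hb'
      obtain ⟨ha1, ha2⟩ := mem_inf.1 ha0
      obtain ⟨hb1, hb2⟩ := mem_inf.1 hb0
      have c1 : Commute b a := hY1comm b hb1 a ha1
      have c2 : Commute b w := D.Wcent w hw b hb2
      have c3 : Commute w' a := (D.Wcent w' hw' a ha2).symm
      have c4 : Commute w' w := D.W_comm hw' hw
      exact ((c1.mul_right c2).mul_left (c3.mul_right c4)).eq
  have hEY : D.E ≤ cent Y1 D.V := by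
    have hEV : D.E ≤ normalizer (D.V : Set G) := Subgroup.le_normalizer.trans D.NV
    have hle : closure {g : G | g ∈ D.E ∧ (orderOf g).Coprime 3} ≤ cent Y1 D.V := by
      refine (closure_le _).2 fun e he => ⟨hHY1 (X.EH he.1), hEV he.1, fun y hy => ?_⟩
      have hw : ⁅e, y⁆ ∈ D.W := hYQ (mem_inf.2 ⟨commutatorElement_mem (hHY1 (X.EH he.1)) hy, by
        rw [← commutatorElement_inv]; exact inv_mem (X.comm_R (hY1R hy) he.1)⟩)
      refine mem_of_stab he.2 (hEV he.1) ?_ (D.NV (D.Q_norm (D.WQ hw))) ?_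
      · obtain ⟨v, hv, ζ, hζ, hvz⟩ := D.Wsup _ hw
        rw [hvz]
        have hcz : ζ * e⁻¹ * ζ⁻¹ = e⁻¹ := by
          rw [← D.Zcent ζ hζ e⁻¹ (inv_mem he.1), mul_inv_cancel_right]
        have : ⁅e, v * ζ⁆ = ⁅e, v⁆ := by
          calc ⁅e, v * ζ⁆ = e * v * (ζ * e⁻¹ * ζ⁻¹) * v⁻¹ := by
                simp only [commutatorElement_def]; group
            _ = _ := by rw [hcz, commutatorElement_def]
        rw [this]
        exact commutatorElement_mem (hEV he.1) hv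
      · obtain ⟨k, hk⟩ := exists_pow_of_isPGroup D.Qp (D.WQ hw)
        exact ⟨k, by rw [hk]; exact one_mem _⟩
    rwa [D.res] at hle
  -- `C1`
  set M1 := X.CV ⊓ centralizer (Y1 : Set G) with hM1
  set C1 := M1 ⊔ X.R with hC1
  have hM1n : X.H ≤ normalizer (M1 : Set G) :=
    LocalBasics.le_normalizer_inf X.H_norm_CV (LocalBasics.le_normalizer_centralizer hHY1)
  have hC1n : X.H ≤ normalizer (C1 : Set G) := LocalBasics.le_normalizer_sup hM1n X.H_norm_R
  have hC1CV : C1 ≤ X.CV := sup_le inf_le_left X.R_le_CV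
  have hPM1 : P ⊓ M1 ≤ X.R := fun x hx => by
    obtain ⟨hxP, hxM⟩ := mem_inf.1 hx
    refine hBR (mem_inf.2 ⟨D.centYB P hP hBP (mem_inf.2 ⟨hxP, ?_⟩), X.CV_cent (mem_inf.1 hxM).1⟩)
    exact fun y hy => (mem_inf.1 hxM).2 y (hYY1 hy)
  have hPC1 : P ⊓ C1 ≤ X.R := fun x hx => by
    obtain ⟨hxP, hxC⟩ := mem_inf.1 hx
    rw [hC1, ← SetLike.mem_coe, Subgroup.coe_mul_of_right_le_normalizer_left _ _ (X.R_le.trans hM1n)] at hxC
    obtain ⟨m, hm, r, hr, rfl⟩ := hxC
    exact mul_mem (hPM1 (mem_inf.2 ⟨by simpa using mul_mem hxP (inv_mem (hRP hr)), hm⟩)) hr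
  let Y : SubCtx X :=
    { C := C1, S := X.R, CH := hC1CV, Cn := hC1n, RC := le_sup_right, SC := le_sup_right
      SE := X.R_norm_E, Sp := X.R_p
      Sidx := by
        have h := not_dvd_inf (hC1CV.trans X.CV_le) hC1n hPH hP hidx
        rwa [le_antisymm hPC1 (le_inf hRP le_sup_right)] at h }
  have hC1E : ⁅C1, D.E⁆ ≤ X.R := by
    by_cases hR' : D.V ⊓ ⁅X.R, X.R⁆ = ⊥
    · exact Y.crit2 hR' fun r hr q hq => X.W_R'_le_Z hR' ((X.R_cent2 hr).2.2 q hq)
        (commutator_mem_commutator hr (X.Q_le hq))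
    · exact Y.crit1 hR'
  -- `L`
  set M2 := X.CV ⊓ cent Y1 D.V with hM2
  set L := M2 ⊔ X.R with hL
  have hcentn : X.H ≤ normalizer ((cent Y1 D.V : Subgroup G) : Set G) :=
    le_normalizer_cent hHY1 X.H_norm_V
  have hM2n : X.H ≤ normalizer (M2 : Set G) := LocalBasics.le_normalizer_inf X.H_norm_CV hcentn
  have hLn : X.H ≤ normalizer (L : Set G) := LocalBasics.le_normalizer_sup hM2n X.H_norm_R
  have hLCV : L ≤ X.CV := sup_le inf_le_left X.R_le_CV
  have hM2R : X.R ≤ normalizer (M2 : Set G) := X.R_le.trans hM2n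
  have hCL : ∀ c ∈ X.CV, ∀ e ∈ D.E, ⁅c, e⁆ ∈ L := fun c hc e he => by
    refine mem_sup_left (mem_inf.2 ⟨?_, ?_⟩)
    · rw [← commutatorElement_inv]
      exact inv_mem (commutatorElement_mem (X.H_norm_CV (X.EH he)) hc)
    · rw [commutatorElement_def]
      exact mul_mem (conj_mem' (hcentn (X.CV_le hc)) (hEY he)) (inv_mem (hEY he))
  have hLdec : ∀ l ∈ L, ∃ m ∈ M2, ∃ r ∈ X.R, l = m * r := fun l hl => by
    rw [hL, ← SetLike.mem_coe, Subgroup.coe_mul_of_right_le_normalizer_left _ _ hM2R] at hl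
    obtain ⟨m, hm, r, hr, rfl⟩ := hl
    exact ⟨m, hm, r, hr, rfl⟩
  -- `L / C1` is abelian of exponent 3
  have hL3 : ∀ l ∈ L, l ^ 3 ∈ C1 := by
    intro l hl
    obtain ⟨m, hm, r, hr, rfl⟩ := hLdec l hl
    obtain ⟨hm1, hm2, hm3, hm4⟩ := mem_inf.1 hm
    have h3 : m ^ 3 ∈ M1 := mem_inf.2 ⟨pow_mem hm1 3, fun y hy => by
      have hd : ∀ v ∈ D.V, m * v = v * m := fun v hv => (X.CV_cent hm1 v hv).symm
      set d := ⁅m, y⁆ with hdd
      have hmy : m * y * m⁻¹ = d * y := by rw [hdd, commutatorElement_def]; group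
      have hdV : d ∈ D.V := hm4 y hy
      have hpow : ∀ i : ℕ, m ^ i * y * (m ^ i)⁻¹ = d ^ i * y := by
        intro i
        induction i with
        | zero => simp
        | succ i ih =>
          calc m ^ (i + 1) * y * (m ^ (i + 1))⁻¹ = m * (m ^ i * y * (m ^ i)⁻¹) * m⁻¹ := by
                rw [pow_succ']; group
            _ = (m * d ^ i * m⁻¹) * (m * y * m⁻¹) := by rw [ih]; group
            _ = d ^ (i + 1) * y := by
                rw [hd _ (pow_mem hdV i), mul_inv_cancel_right, hmy, ← mul_assoc, ← pow_succ]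
      have := hpow 3
      rw [D.Vexp hdV, one_mul, mul_inv_eq_iff_eq_mul] at this
      exact this.symm⟩
    have hm' : m ^ 3 * ((m * r) ^ 3)⁻¹ ∈ C1 := by
      refine mem_sup_right ?_
      have hmR : m ∈ normalizer (X.R : Set G) := X.H_norm_R (X.CV_le hm1)
      have h := pow_mul_mem (conj_mem' hmR hr) hmR 3
      rw [show m * r * m⁻¹ * m = m * r by group] at h
      have := inv_mem h
      rwa [mul_inv_rev, inv_inv] at this
    have := mul_mem (inv_mem hm') (mem_sup_left (T := X.R) h3)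
    simpa using this
  have hLcomm : ∀ a ∈ L, ∀ b ∈ L, ⁅a, b⁆ ∈ C1 := by
    have hM2C : ∀ a ∈ M2, ∀ b ∈ M2, ⁅a, b⁆ ∈ C1 := fun a ha b hb => by
      refine mem_sup_left (mem_inf.2 ⟨mul_mem (mul_mem (mul_mem (mem_inf.1 ha).1 (mem_inf.1 hb).1)
        (inv_mem (mem_inf.1 ha).1)) (inv_mem (mem_inf.1 hb).1), fun y hy => ?_⟩)
      obtain ⟨ha1, ha2, ha3, ha4⟩ := mem_inf.1 ha
      obtain ⟨hb1, hb2, hb3, hb4⟩ := mem_inf.1 hb
      have hda := fun v hv => (X.CV_cent ha1 v hv).symm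
      have hdb := fun v hv => (X.CV_cent hb1 v hv).symm
      show y * ⁅a, b⁆ = ⁅a, b⁆ * y
      calc y * ⁅a, b⁆ = (b * a) * ((b * a)⁻¹ * y * (b * a)) * (b * a)⁻¹ * ⁅a, b⁆ := by group
        _ = (a * b) * ((b * a)⁻¹ * y * (b * a)) * (a * b)⁻¹ * ⁅a, b⁆ := by
            have hy' : (b * a)⁻¹ * y * (b * a) ∈ Y1 := by
              have := conj_mem' (hHY1 (inv_mem (mul_mem (X.CV_le hb1) (X.CV_le ha1)))) hy
              rwa [inv_inv] at this
            set y' := (b * a)⁻¹ * y * (b * a)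
            have hay' : a * y' * a⁻¹ = ⁅a, y'⁆ * y' := by rw [commutatorElement_def]; group
            have hby' : b * y' * b⁻¹ = ⁅b, y'⁆ * y' := by rw [commutatorElement_def]; group
            have e2 : (a * b) * y' * (a * b)⁻¹ = (b * a) * y' * (b * a)⁻¹ := by
              calc (a * b) * y' * (a * b)⁻¹ = a * (b * y' * b⁻¹) * a⁻¹ := by group
                _ = (a * ⁅b, y'⁆ * a⁻¹) * (a * y' * a⁻¹) := by rw [hby']; group
                _ = ⁅b, y'⁆ * ⁅a, y'⁆ * y' := by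
                    rw [hda _ (hb4 y' hy'), mul_inv_cancel_right, hay', mul_assoc]
                _ = ⁅a, y'⁆ * ⁅b, y'⁆ * y' := by rw [D.Vcomm (hb4 y' hy') (ha4 y' hy')]
                _ = (b * ⁅a, y'⁆ * b⁻¹) * (b * y' * b⁻¹) := by
                    rw [hdb _ (ha4 y' hy'), mul_inv_cancel_right, hby', mul_assoc]
                _ = b * (a * y' * a⁻¹) * b⁻¹ := by rw [hay']; group
                _ = _ := by group
            rw [e2]
        _ = ⁅a, b⁆ * y := by simp only [commutatorElement_def]; group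
    intro a ha b hb
    obtain ⟨m, hm, r, hr, rfl⟩ := hLdec a ha
    obtain ⟨m', hm', r', hr', rfl⟩ := hLdec b hb
    have hC : ∀ {g}, g ∈ X.CV → ∀ {x}, x ∈ C1 → g * x * g⁻¹ ∈ C1 := fun hg _ hx =>
      conj_mem' (hC1n (X.CV_le hg)) hx
    have hmC := (mem_inf.1 hm).1
    have hm'C := (mem_inf.1 hm').1
    have hRC : ∀ {g}, g ∈ X.CV → ∀ {x}, x ∈ X.R → ⁅g, x⁆ ∈ C1 := fun hg _ hx =>
      mem_sup_right (commutatorElement_mem (X.H_norm_R (X.CV_le hg)) hx)
    have e : ⁅m * r, m' * r'⁆ = (m * ⁅r, m' * r'⁆ * m⁻¹) * (⁅m, m'⁆ * (m' * ⁅m, r'⁆ * m'⁻¹)) := by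
      simp only [commutatorElement_def]; group
    rw [e]
    refine mul_mem (hC hmC ?_) (mul_mem (hM2C m hm m' hm') (hC hm'C (hRC hmC hr')))
    rw [← commutatorElement_inv]
    exact inv_mem (hRC (mul_mem hm'C (X.R_le_CV hr')) hr)
  -- `M`
  set M := L ⊓ cent C1 X.R with hM
  have hcC1n : X.H ≤ normalizer ((cent C1 X.R : Subgroup G) : Set G) :=
    le_normalizer_cent hC1n X.H_norm_R
  have hMn : X.H ≤ normalizer (M : Set G) := LocalBasics.le_normalizer_inf hLn hcC1n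
  have hEC1 : D.E ≤ cent C1 X.R := fun e he =>
    ⟨hC1n (X.EH he), X.H_norm_R (X.EH he), fun c hc => by
      rw [← commutatorElement_inv]; exact inv_mem (hC1E (commutator_mem_commutator hc he))⟩
  have hLM : ∀ l ∈ L, ∀ e ∈ D.E, ⁅l, e⁆ ∈ M := fun l hl e he => by
    refine mem_inf.2 ⟨?_, ?_⟩
    · rw [← commutatorElement_inv]; exact inv_mem (commutatorElement_mem (hLn (X.EH he)) hl)
    · rw [commutatorElement_def]
      exact mul_mem (conj_mem' (hcC1n (X.CV_le (hLCV hl))) (hEC1 he)) (inv_mem (hEC1 he))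
  have hMH : M ≤ X.H := inf_le_left.trans (hLCV.trans X.CV_le)
  have hMC1 : M ≤ C1 := by
    haveI hRn : (X.R.subgroupOf X.H).Normal := LocalBasics.normal_subgroupOf_of_le X.H_norm_R
    set f := QuotientGroup.mk' (X.R.subgroupOf X.H) with hf
    have hf1 : ∀ {x} (hx : x ∈ X.H), f ⟨x, hx⟩ = 1 ↔ x ∈ X.R := fun hx =>
      QuotientGroup.eq_one_iff _
    have hclosed : ∀ m ∈ M, IsThree m → ∀ m' ∈ M, IsThree m' → ⁅m, m'⁆ ∈ X.R := by
      intro m hm hm3 m' hm' hm'3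
      have hmH := hMH hm
      have hm'H := hMH hm'
      have hn : ⁅m, m'⁆ ∈ C1 := hLcomm m (mem_inf.1 hm).1 m' (mem_inf.1 hm').1
      have hmn : ⁅m, ⁅m, m'⁆⁆ ∈ X.R := (mem_inf.1 hm).2.2.2 _ hn
      have hnH := X.CV_le (hC1CV hn)
      set a : ↥X.H := ⟨m, hmH⟩
      set b : ↥X.H := ⟨m', hm'H⟩
      have hcomm : Commute (f a) ⁅f a, f b⁆ := by
        rw [← map_commutatorElement f a b]
        refine commutatorElement_eq_one_iff_mul_comm.1 ?_
        rw [← map_commutatorElement]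
        exact (hf1 (mul_mem (mul_mem (mul_mem hmH hnH) (inv_mem hmH)) (inv_mem hnH))).2 hmn
      have hstep : ∀ i : ℕ, (f a) ^ i * f b * ((f a) ^ i)⁻¹ = ⁅f a, f b⁆ ^ i * f b := by
        intro i
        induction i with
        | zero => simp
        | succ i ih =>
          calc (f a) ^ (i + 1) * f b * ((f a) ^ (i + 1))⁻¹
              = f a * ((f a) ^ i * f b * ((f a) ^ i)⁻¹) * (f a)⁻¹ := by rw [pow_succ']; group
            _ = (f a * ⁅f a, f b⁆ ^ i * (f a)⁻¹) * (f a * f b * (f a)⁻¹) := by rw [ih]; group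
            _ = ⁅f a, f b⁆ ^ (i + 1) * f b := by
                rw [(hcomm.pow_right i).eq, mul_inv_cancel_right, pow_succ, commutatorElement_def]
                group
      obtain ⟨k, hk⟩ := hm3
      have hak : (f a) ^ 3 ^ k = 1 := by
        rw [← map_pow, show a ^ 3 ^ k = 1 from Subtype.ext hk, map_one]
      have h := hstep (3 ^ k)
      rw [hak, one_mul, inv_one, mul_one, ← map_commutatorElement, ← map_pow] at h
      have h' : f (⁅a, b⁆ ^ 3 ^ k) = 1 := mul_eq_right.1 h.symm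
      have hn3 : IsThree ⁅m, m'⁆ := isThree_of_pow_mem X.R_p (k := k)
        ((hf1 (pow_mem hnH _)).1 h')
      obtain ⟨w, hw, hwn⟩ := exists_conj_into (U := zpowers ⁅m, m'⁆) (T := P ⊓ C1)
        (isPGroup_of_isThree fun x hx => by
          obtain ⟨k, hk⟩ := hn3
          obtain ⟨i, rfl⟩ := mem_zpowers_iff.1 hx
          exact ⟨k, by rw [← zpow_natCast, ← zpow_mul, mul_comm, zpow_mul, zpow_natCast, hk, one_zpow]⟩)
        (zpowers_le.2 hn) inf_le_right (not_dvd_inf (hC1CV.trans X.CV_le) hC1n hPH hP hidx)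
      have hR2 := hPC1 (hwn _ (mem_zpowers _))
      have := conj_mem' (X.H_norm_R (inv_mem (X.CV_le (hC1CV hw)))) hR2
      rwa [show w⁻¹ * (w * ⁅m, m'⁆ * w⁻¹) * w⁻¹⁻¹ = ⁅m, m'⁆ by group] at this
    let Kp : Subgroup G :=
      { carrier := {m | m ∈ M ∧ IsThree m}
        one_mem' := ⟨one_mem _, 0, one_pow _⟩
        mul_mem' := fun {x y} hx hy => by
          refine ⟨mul_mem hx.1 hy.1, ?_⟩
          set a : ↥X.H := ⟨x, hMH hx.1⟩
          set b : ↥X.H := ⟨y, hMH hy.1⟩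
          obtain ⟨k, hk⟩ := hx.2
          obtain ⟨l, hl⟩ := hy.2
          have hc : Commute (f a) (f b) := commutatorElement_eq_one_iff_mul_comm.1 (by
            rw [← map_commutatorElement]
            exact (hf1 (mul_mem (mul_mem (mul_mem (hMH hx.1) (hMH hy.1)) (inv_mem (hMH hx.1)))
              (inv_mem (hMH hy.1)))).2 (hclosed x hx.1 hx.2 y hy.1 hy.2))
          obtain ⟨j, hj⟩ := IsThree.mul_of_commute
            ⟨k, by rw [← map_pow, show a ^ 3 ^ k = 1 from Subtype.ext hk, map_one]⟩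
            ⟨l, by rw [← map_pow, show b ^ 3 ^ l = 1 from Subtype.ext hl, map_one]⟩ hc
          rw [← map_mul, ← map_pow] at hj
          exact isThree_of_pow_mem X.R_p (k := j)
            ((hf1 (pow_mem (mul_mem (hMH hx.1) (hMH hy.1)) _)).1 hj)
        inv_mem' := fun {x} hx => ⟨inv_mem hx.1, by
          obtain ⟨k, hk⟩ := hx.2
          exact ⟨k, by rw [inv_pow, hk, inv_one]⟩⟩ }
    have hKR : Kp ≤ X.R := X.le_R_of hMH hMn (fun m hm => hm.1)
      (LocalBasics.le_normalizer_of_conj fun g hg m hm => ⟨conj_mem' (hMn (hMH hg)) hm.1, by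
        obtain ⟨k, hk⟩ := hm.2
        exact ⟨k, by rw [conj_pow, hk]; group⟩⟩)
      (isPGroup_of_isThree fun m hm => hm.2)
    refine le_of_split (fun m hm h3 => mem_sup_right (hKR ⟨hm, h3⟩)) fun m hm h' => ?_
    obtain ⟨i, hi⟩ := exists_pow_eq_self_of_coprime h'.symm
    rw [← hi]
    exact pow_mem (hL3 m (mem_inf.1 hm).1) _
  -- `[L, E] ≤ R`
  have hLE : ⁅L, D.E⁆ ≤ X.R := by
    let K : Subgroup G :=
      { carrier := {l | l ∈ L ∧ ∀ e ∈ D.E, ⁅l, e⁆ ∈ X.R}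
        one_mem' := ⟨one_mem _, fun e he => by rw [commutatorElement_one_left]; exact one_mem _⟩
        mul_mem' := fun {x y} hx hy => ⟨mul_mem hx.1 hy.1, fun e he => by
          rw [show ⁅x * y, e⁆ = x * ⁅y, e⁆ * x⁻¹ * ⁅x, e⁆ by simp only [commutatorElement_def]; group]
          exact mul_mem (conj_mem' (X.H_norm_R (X.CV_le (hLCV hx.1))) (hy.2 e he)) (hx.2 e he)⟩
        inv_mem' := fun {x} hx => ⟨inv_mem hx.1, fun e he => by
          rw [show ⁅x⁻¹, e⁆ = x⁻¹ * ⁅x, e⁆⁻¹ * x⁻¹⁻¹ by simp only [commutatorElement_def]; group]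
          exact conj_mem' (X.H_norm_R (X.CV_le (hLCV (inv_mem hx.1)))) (inv_mem (hx.2 e he))⟩ }
    have hle : L ≤ K := le_of_split
      (fun l hl h3 => ⟨hl, X.key hC1CV le_sup_right hC1E (hLCV hl) h3
        fun e he => hMC1 (hLM l hl e he)⟩)
      fun l hl h' => ⟨hl, fun e he => by
        obtain ⟨i, hi⟩ := exists_pow_eq_self_of_coprime h'.symm
        exact hC1E (commutator_mem_commutator (hi ▸ pow_mem (hL3 l hl) i) he)⟩
    exact commutator_le.2 fun l hl e he => (hle hl).2 e he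
  exact hS fun s hs => X.mem_norm (X.key hLCV le_sup_right hLE (mem_inf.1 hs).2
    (isThree_of_mem hP (mem_inf.1 hs).1) fun e he => hCL s (mem_inf.1 hs).2 e he)

end Ctx

end Cfsg.Agent.Block39
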