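import Mathlib
import Cfsg.Agent.Lib.Block39Lemmas
import Cfsg.Agent.Lib.Block39Key

/-!
The pairing expressed by a single scalar valued additive function on its domain.
-/

set_option autoImplicit false

namespace Cfsg.Agent.Block39

open Subgroup Cfsg Block39Plane Block39Chart BaumannSubnormal58
open scoped commutatorElement

variable {G : Type*} [Group G] {F : Type} [Field F]

namespace Data

variable (D : Data G F)

theorem Om_le_norm : D.Om ≤ normalizer (D.E : Set G) := inf_le_left.trans inf_le_left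

theorem Om_le_centV : D.Om ≤ centralizer (D.V : Set G) := fun _ hg v hv =>
  (mem_inf.1 (mem_inf.1 hg).1).2 v (D.VW hv)

theorem exists_hom {g : G} (hg : g ∈ D.Om) :
    ∃ h : AddMonoid.End (Pl F), (∀ q (hq : q ∈ D.Q), h (D.c2.val q hq) = D.mu g q) ∧
      ∀ e ∈ D.E, h * D.c2.act e = D.c1.act e * h := by
  have hwd : ∀ q (hq : q ∈ D.Q) q' (hq' : q' ∈ D.Q), D.c2.val q hq = D.c2.val q' hq' →
      D.mu g q = D.mu g q' := by
    intro q hq q' hq' he
    have hm : q * q'⁻¹ ∈ D.W := (D.c2.val_eq_zero (mul_mem hq (inv_mem hq'))).1 (by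
      rw [D.c2.val_mul hq (inv_mem hq'), D.c2.val_inv hq', he, add_neg_cancel])
    conv_lhs => rw [show q = q * q'⁻¹ * q' by group]
    rw [D.mu_mul_right hg (D.WQ hm) hq', D.mu_W hg hm, zero_add]
  choose pre hpre hpreval using D.c2.exists_val
  let h : AddMonoid.End (Pl F) := AddMonoidHom.mk' (fun v => D.mu g (pre v)) (fun v w => by
    rw [← D.mu_mul_right hg (hpre v) (hpre w)]
    refine hwd _ (hpre _) _ (mul_mem (hpre v) (hpre w)) ?_
    rw [D.c2.val_mul (hpre v) (hpre w), hpreval, hpreval, hpreval])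
  have hval : ∀ q (hq : q ∈ D.Q), h (D.c2.val q hq) = D.mu g q := fun q hq =>
    hwd _ (hpre _) q hq (hpreval _)
  refine ⟨h, hval, fun e he => endExt fun v => ?_⟩
  obtain ⟨q, hq, rfl⟩ := D.c2.exists_val v
  show h (D.c2.act e _) = D.c1.act e (h _)
  have hρ : g⁻¹ * (e⁻¹ * g * e) ∈ D.Q := by
    have := D.commutator_mem_Q (inv_mem (D.Om_le_norm hg)) (inv_mem (D.Om_le_centV hg)) (inv_mem he)
    rwa [commutatorElement_def, show g⁻¹ * e⁻¹ * g⁻¹⁻¹ * e⁻¹⁻¹ = g⁻¹ * (e⁻¹ * g * e) by group] at this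
  rw [D.c2.act_val (D.nm2 (D.E_norm he)) hq, hval, hval, D.mu_equivariant hg he hρ hq]

/-- All maps `q ↦ μ g q` are multiples of a non-zero one. -/
theorem exists_coeff [Finite G] [Finite F] {g0 q0 : G} (hg0 : g0 ∈ D.Om) (hq0 : q0 ∈ D.Q)
    (hne : D.mu g0 q0 ≠ 0) :
    ∃ (h : AddMonoid.End (Pl F)) (α : G → F), Function.Injective h ∧
      (∀ g ∈ D.Om, ∀ q (hq : q ∈ D.Q), D.mu g q = h (α g • D.c2.val q hq)) ∧
      (∀ g ∈ D.Om, ∀ g' ∈ D.Om, α (g * g') = α g + α g') ∧ α g0 = 1 := by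
  classical
  obtain ⟨h, hval, hcomm⟩ := D.exists_hom hg0
  let K : Subgroup G :=
    { carrier := {q | q ∈ D.Q ∧ D.mu g0 q = 0}
      one_mem' := ⟨one_mem _, D.mu_one_right g0⟩
      mul_mem' := fun {a b} ha hb => ⟨mul_mem ha.1 hb.1, by
        rw [D.mu_mul_right hg0 ha.1 hb.1, ha.2, hb.2, add_zero]⟩
      inv_mem' := fun {a} ha => ⟨inv_mem ha.1, by
        have h := D.mu_mul_right hg0 (inv_mem ha.1) ha.1
        rw [inv_mul_cancel, D.mu_one_right, ha.2, add_zero] at h
        exact h.symm⟩ }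
  have hker : ∀ q ∈ D.Q, D.mu g0 q = 0 → q ∈ D.W := by
    rcases D.irred2 (X := K) (fun w hw => ⟨D.WQ hw, D.mu_W hg0 hw⟩) (fun q hq => hq.1)
      (LocalBasics.le_normalizer_of_conj fun e he q hq => by
        refine ⟨conj_mem' (D.NQ (D.E_norm he)) hq.1, ?_⟩
        have h' := DFunLike.congr_fun (hcomm e he) (D.c2.val q hq.1)
        change h (D.c2.act e _) = D.c1.act e (h _) at h'
        rwa [D.c2.act_val (D.nm2 (D.E_norm he)) hq.1, hval, hval, hq.2, map_zero] at h') with hK | hK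
    · exact fun q hq h0 => hK.le ⟨hq, h0⟩
    · exact absurd (hK.ge hq0).2 hne
  have hinj : Function.Injective h := (injective_iff_map_eq_zero h).2 fun v hv => by
    obtain ⟨q, hq, rfl⟩ := D.c2.exists_val v
    exact (D.c2.val_eq_zero hq).2 (hker q hq ((hval q hq).symm.trans hv))
  have hbij : Function.Bijective h := ⟨hinj, Finite.surjective_of_injective hinj⟩
  let he := Equiv.ofBijective h hbij
  have hsymm : ∀ w, h (he.symm w) = w := fun w => Equiv.ofBijective_apply_symm_apply h hbij w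
  have key : ∀ g ∈ D.Om, ∃ c : F, ∀ q (hq : q ∈ D.Q), D.mu g q = h (c • D.c2.val q hq) := by
    intro g hg
    obtain ⟨h1, hv1, hc1⟩ := D.exists_hom hg
    let t : AddMonoid.End (Pl F) := AddMonoidHom.mk' (fun w => he.symm (h1 w)) (fun a b => by
      apply hinj
      rw [map_add h, hsymm, hsymm, hsymm, map_add])
    have ht : ∀ w, h (t w) = h1 w := fun w => hsymm (h1 w)
    obtain ⟨k, hk⟩ := scalar_of_commute D.h3 t fun r hr => endExt fun w => by
      obtain ⟨e, he', her⟩ := D.r2' r hr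
      apply hinj
      show h (t (mv r w)) = h (mv r (t w))
      rw [ht, ← her]
      have e1 := DFunLike.congr_fun (hc1 e he') w
      have e2 := DFunLike.congr_fun (hcomm e he') (t w)
      change h1 (D.c2.act e w) = D.c1.act e (h1 w) at e1
      change h (D.c2.act e (t w)) = D.c1.act e (h (t w)) at e2
      rw [e1, e2, ht]
    exact ⟨k, fun q hq => by rw [← hv1 q hq, ← ht, hk]; rfl⟩
  choose α0 hα0 using key
  let α : G → F := fun g => if hg : g ∈ D.Om then α0 g hg else 0
  have hα : ∀ g ∈ D.Om, ∀ q (hq : q ∈ D.Q), D.mu g q = h (α g • D.c2.val q hq) := fun g hg q hq => by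
    simp only [α, dif_pos hg]
    exact hα0 g hg q hq
  obtain ⟨q1, hq1, hv1⟩ := D.c2.exists_val ![(1 : F), 0]
  refine ⟨h, α, hinj, hα, fun g hg g' hg' => ?_, ?_⟩
  · have e := D.mu_mul_left hg hg' hq1
    rw [hα _ (mul_mem hg hg') q1 hq1, hα _ hg q1 hq1, hα _ hg' q1 hq1, hv1, ← map_add, ← add_smul] at e
    have := congrFun (hinj e) 0
    simpa using this
  · have e := hα g0 hg0 q1 hq1
    rw [← hval q1 hq1, hv1] at e
    have := congrFun (hinj e) 0
    simpa using this.symm

end Data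

end Cfsg.Agent.Block39
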