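import Mathlib
import Cfsg.Agent.Lib.Block39Case1
import Cfsg.Agent.Lib.Block39Coeff

/-!
The normalizer in `C_H(V)` of a Sylow subgroup centralises the pairing.
-/

set_option autoImplicit false

namespace Cfsg.Agent.Block39

open Subgroup Cfsg Block39Plane Block39Chart BaumannSubnormal58
open scoped commutatorElement

variable {G : Type*} [Group G] {F : Type} [Field F]

/-- A Sylow subgroup `S = P ∩ C(V)` normalising `E`, with a scalar form of the pairing on it. -/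
structure Fus {D : Data G F} (X : Ctx D) where
  P : Subgroup G
  PH : P ≤ X.H
  Pp : IsPGroup 3 ↥P
  idx : ¬ 3 ∣ P.relIndex X.H
  BP : D.B ≤ P
  SE : P ⊓ X.CV ≤ normalizer (D.E : Set G)
  h : AddMonoid.End (Pl F)
  α : G → F
  hinj : Function.Injective h
  hmu : ∀ g ∈ D.Om, ∀ q (hq : q ∈ D.Q), D.mu g q = h (α g • D.c2.val q hq)
  hadd : ∀ g ∈ D.Om, ∀ g' ∈ D.Om, α (g * g') = α g + α g'
  hne : ∃ s ∈ P ⊓ X.CV, α s ≠ 0
  hR' : D.V ⊓ ⁅X.R, X.R⁆ = ⊥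

namespace Fus

variable {D : Data G F} {X : Ctx D} (Φ : Fus X)

/-- `S`. -/
def S : Subgroup G := Φ.P ⊓ X.CV

theorem S_le_CV : Φ.S ≤ X.CV := inf_le_right

theorem Sp : IsPGroup 3 ↥Φ.S := Φ.Pp.to_le inf_le_left

theorem Sidx [Finite G] : ¬ 3 ∣ Φ.S.relIndex X.CV :=
  not_dvd_inf X.CV_le X.H_norm_CV Φ.PH Φ.Pp Φ.idx

theorem S_le_Om [Finite G] : Φ.S ≤ D.Om :=
  Ctx.pgroup_le_Om Φ.Sp Φ.SE (Φ.S_le_CV.trans X.CV_cent)

theorem R_le_S [Finite G] : X.R ≤ Φ.S := le_inf (X.Sylow_ge_R Φ.PH Φ.idx) X.R_le_CV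

include Φ in
theorem α_one : Φ.α 1 = 0 := by
  have h := Φ.hadd 1 (one_mem _) 1 (one_mem _)
  rw [one_mul] at h
  exact left_eq_add.1 h

include Φ in
theorem α_inv {g : G} (hg : g ∈ D.Om) : Φ.α g⁻¹ = -Φ.α g := by
  have h := Φ.hadd g hg g⁻¹ (inv_mem hg)
  rw [mul_inv_cancel, Φ.α_one] at h
  exact eq_neg_of_add_eq_zero_right h.symm

theorem α_pow {g : G} (hg : g ∈ D.Om) (n : ℕ) : Φ.α (g ^ n) = n • Φ.α g := by
  induction n with
  | zero => rw [pow_zero, Φ.α_one, zero_nsmul]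
  | succ n ih => rw [pow_succ, Φ.hadd _ (pow_mem hg n) _ hg, ih, succ_nsmul]

/-- `α g = 0` means that `g` centralises `Q / Z`. -/
theorem commutator_mem_Z {g : G} (hg : g ∈ D.Om) (h : Φ.α g = 0) {q : G} (hq : q ∈ D.Q) :
    ⁅g, q⁆ ∈ D.Z :=
  (D.mu_eq_zero hg hq).1 (by rw [Φ.hmu g hg q hq, h, zero_smul, map_zero])

theorem α_R [Finite G] {r : G} (hr : r ∈ X.R) : Φ.α r = 0 := by
  obtain ⟨q, hq, hv⟩ := D.c2.exists_val ![(1 : F), 0]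
  have h0 : D.mu r q = 0 := (D.mu_eq_zero (X.R_le_Om hr) hq).2
    (X.W_R'_le_Z Φ.hR' ((X.R_cent2 hr).2.2 q hq) (commutator_mem_commutator hr (X.Q_le hq)))
  rw [Φ.hmu r (X.R_le_Om hr) q hq, hv] at h0
  have := congrFun (Φ.hinj (h0.trans (map_zero Φ.h).symm)) 0
  simpa using this

/-- On the normalizer of `S` the pairing is fixed. -/
theorem base [Finite G] [Finite F] (hX : Below X) {n : G} (hn : n ∈ X.CV)
    (hnS : n ∈ normalizer (Φ.S : Set G)) :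
    ∀ s ∈ Φ.S, Φ.α (n * s * n⁻¹) = Φ.α s := by
  classical
  have hPS : Φ.P ≤ normalizer (Φ.S : Set G) :=
    LocalBasics.le_normalizer_inf Subgroup.le_normalizer (Φ.PH.trans X.H_norm_CV)
  have hES : D.E ≤ normalizer (Φ.S : Set G) := LocalBasics.le_normalizer_of_conj fun e he s hs => by
    have h := D.commutator_mem_Q (Φ.SE hs) (X.CV_cent (Φ.S_le_CV hs)) he
    rw [show e * s * e⁻¹ = ⁅s, e⁆⁻¹ * s by rw [commutatorElement_def]; group]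
    exact mul_mem (Φ.R_le_S (X.Q_le (inv_mem h))) hs
  have hNE : X.CV ⊓ normalizer (Φ.S : Set G) ≤ normalizer (D.E : Set G) := by
    rcases X.sub_or hX hES (Φ.BP.trans hPS)
      ((X.R₀_le.trans Φ.R_le_S).trans Subgroup.le_normalizer) with h | h
    · exfalso
      obtain ⟨s, hs, hs0⟩ := Φ.hne
      exact hs0 (Φ.α_R (LocalBasics.le_pCoreOf (Φ.S_le_CV.trans X.CV_le) h Φ.Sp hs))
    · exact h
  set N := X.CV ⊓ normalizer (Φ.S : Set G) with hN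
  have hNV : ∀ {g}, g ∈ N → g ∈ centralizer (D.V : Set G) := fun hg => X.CV_cent (mem_inf.1 hg).1
  have hsc : ∀ g ∈ N, ∃ k : F, D.c2.act g = sc k := fun g hg =>
    D.scalar2 (hNE hg) fun e he => D.commutator_mem_Q (hNE hg) (hNV hg) he
  -- the pairing after conjugation
  have hrel : ∀ g ∈ N, ∀ k : F, D.c2.act g = sc k → ∀ s ∈ Φ.S,
      Φ.α (g * s * g⁻¹) * k = Φ.α s := by
    intro g hg k hk s hs
    have hs' : g * s * g⁻¹ ∈ Φ.S := conj_mem' (mem_inf.1 hg).2 hs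
    obtain ⟨q, hq, hv⟩ := D.c2.exists_val ![(1 : F), 0]
    have hq' : g * q * g⁻¹ ∈ D.Q := D.c2.conj_mem (D.nm2 (hNE hg)) hq
    have e1 : D.mu (g * s * g⁻¹) (g * q * g⁻¹) = D.mu s q := by
      show D.dl ⁅g * s * g⁻¹, g * q * g⁻¹⁆ = D.dl ⁅s, q⁆
      rw [show ⁅g * s * g⁻¹, g * q * g⁻¹⁆ = g * ⁅s, q⁆ * g⁻¹ by
        simp only [commutatorElement_def]; group,
        D.dl_conj (hNE hg) (D.Om_comm (Φ.S_le_Om hs) hq), D.act1_eq_one (D.nm1 (hNE hg)) (hNV hg)]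
      rfl
    rw [Φ.hmu _ (Φ.S_le_Om hs') _ hq', Φ.hmu _ (Φ.S_le_Om hs) _ hq,
      ← D.c2.act_val (D.nm2 (hNE hg)) hq, hk, hv] at e1
    have := congrFun (Φ.hinj e1) 0
    simpa using this
  suffices hk1 : D.c2.act n = 1 by
    intro s hs
    have := hrel n (mem_inf.2 ⟨hn, hnS⟩) 1 (by rw [hk1, Data.sc_one]) s hs
    rwa [mul_one] at this
  by_contra hne
  -- adjust `n` so that it normalises `S A`
  set N0 := N ⊓ cent D.Q D.W with hN0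
  have hSN0 : Φ.S ≤ N0 := le_inf (le_inf Φ.S_le_CV Subgroup.le_normalizer) fun s hs =>
    (mem_inf.1 (Φ.S_le_Om hs)).2
  have hAS : D.A ≤ normalizer (Φ.S : Set G) := D.AB.trans (Φ.BP.trans hPS)
  have hAH : D.A ≤ X.H := D.AB.trans X.BH
  have hAN : D.A ≤ normalizer (N : Set G) :=
    LocalBasics.le_normalizer_inf (hAH.trans X.H_norm_CV) (hAS.trans Subgroup.le_normalizer)
  have hAN0 : D.A ≤ normalizer (N0 : Set G) :=
    LocalBasics.le_normalizer_inf hAN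
      (le_normalizer_cent (D.A_norm.trans D.NQ) (D.A_norm.trans D.NW))
  set W0 := D.A ⊔ N0 with hW0
  set T := D.A ⊔ Φ.S with hT
  have hTW : T ≤ W0 := sup_le_sup_left hSN0 _
  have hTp : T ≤ Φ.P := sup_le (D.AB.trans Φ.BP) inf_le_left
  have hN0CV : N0 ≤ X.CV := inf_le_left.trans inf_le_left
  have hJ : D.A ⊓ N0 = D.A ⊓ Φ.S := le_antisymm
    (fun x hx => mem_inf.2 ⟨(mem_inf.1 hx).1, mem_inf.2 ⟨Φ.BP (D.AB (mem_inf.1 hx).1),
      hN0CV (mem_inf.1 hx).2⟩⟩) (inf_le_inf_left _ hSN0)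
  have hTidx : ¬ 3 ∣ T.relIndex W0 := by
    have e1 : Nat.card ↥W0 * Nat.card ↥(D.A ⊓ N0 : Subgroup G) = Nat.card ↥D.A * Nat.card ↥N0 :=
      OffendersReplace.card_sup_mul_card_inf D.A N0 hAN0
    have e2 : Nat.card ↥T * Nat.card ↥(D.A ⊓ Φ.S : Subgroup G) = Nat.card ↥D.A * Nat.card ↥Φ.S :=
      OffendersReplace.card_sup_mul_card_inf D.A Φ.S hAS
    have e3 := HallCore.card_mul_relIndex hTW
    have e4 := HallCore.card_mul_relIndex hSN0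
    rw [hJ, ← e3, ← e4] at e1
    have e5 : Nat.card ↥D.A * Nat.card ↥Φ.S * T.relIndex W0 =
        Nat.card ↥D.A * Nat.card ↥Φ.S * Φ.S.relIndex N0 := by
      rw [← e2, mul_right_comm, e1, e2, mul_assoc]
    have e6 : T.relIndex W0 = Φ.S.relIndex N0 :=
      Nat.eq_of_mul_eq_mul_left (Nat.mul_pos Nat.card_pos Nat.card_pos) e5
    rw [e6]
    intro hd
    refine Φ.Sidx (hd.trans ?_)
    rw [← Subgroup.relIndex_mul_relIndex _ _ _ hSN0 hN0CV]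
    exact dvd_mul_right _ _
  have hnN : n ∈ N := mem_inf.2 ⟨hn, hnS⟩
  obtain ⟨kn, hkn⟩ := hsc n hnN
  have hU : T.map (MulAut.conj n).toMonoidHom ≤ W0 := by
    rw [hT, Subgroup.map_sup]
    refine sup_le ?_ ?_
    · rintro _ ⟨a, ha, rfl⟩
      show n * a * n⁻¹ ∈ W0
      have h1 : ⁅n, a⁆ ∈ N := by
        rw [← commutatorElement_inv]; exact inv_mem (commutatorElement_mem (hAN ha) hnN)
      have h2 : ⁅n, a⁆ ∈ N0 := by
        refine mem_inf.2 ⟨h1, (D.c2.act_eq_one_iff (D.nm2 (hNE h1))).1 ?_⟩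
        have hn2 := D.nm2 (hNE hnN)
        have ha2 := D.nm2 (D.A_norm ha)
        rw [commutatorElement_def, D.c2.act_mul (mul_mem (mul_mem hn2 ha2) (inv_mem hn2)) (inv_mem ha2),
          D.c2.act_mul (mul_mem hn2 ha2) (inv_mem hn2), D.c2.act_mul hn2 ha2]
        have hc : D.c2.act n * D.c2.act a = D.c2.act a * D.c2.act n := by
          rw [hkn]
          exact endExt fun v => (D.A_linear2 ha kn v).symm
        rw [hc, mul_assoc (D.c2.act a), D.c2.act_mul_inv hn2, mul_one, D.c2.act_mul_inv ha2]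
      rw [show n * a * n⁻¹ = ⁅n, a⁆ * a by rw [commutatorElement_def]; group]
      exact mul_mem (mem_sup_right h2) (mem_sup_left ha)
    · rintro _ ⟨s, hs, rfl⟩
      exact mem_sup_right (hSN0 (conj_mem' hnS hs))
  obtain ⟨w, hw, hwT⟩ := exists_conj_into ((Φ.Pp.to_le hTp).map _) hU hTW hTidx
  rw [hW0, ← SetLike.mem_coe, Subgroup.coe_mul_of_left_le_normalizer_right _ _ hAN0] at hw
  obtain ⟨a, ha, n0, hn0, rfl⟩ := hw
  set x0 := n0 * n with hx0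
  have hx0N : x0 ∈ N := mul_mem (mem_inf.1 hn0).1 hnN
  have hx0T : x0 ∈ normalizer (T : Set G) := by
    refine mem_normalizer_fintype fun t ht => ?_
    have h : a * n0 * (n * t * n⁻¹) * (a * n0)⁻¹ ∈ T := hwT _ ⟨t, ht, rfl⟩
    have ha' : a ∈ T := mem_sup_left ha
    have := mul_mem (mul_mem (inv_mem ha') h) ha'
    rw [show a⁻¹ * (a * n0 * (n * t * n⁻¹) * (a * n0)⁻¹) * a = x0 * t * x0⁻¹ by rw [hx0]; group] at this
    exact this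
  have hx02 : D.c2.act x0 = D.c2.act n := by
    rw [hx0, D.c2.act_mul (D.nm2 (hNE (mem_inf.1 hn0).1)) (D.nm2 (hNE hnN)),
      (D.c2.act_eq_one_iff (D.nm2 (hNE (mem_inf.1 hn0).1))).2 (mem_inf.1 hn0).2, one_mul]
  obtain ⟨p, x, hp, hx, hp3, hxo, hpx⟩ := exists_split x0
  have hNT : zpowers x0 ≤ N ⊓ normalizer (T : Set G) := zpowers_le.2 (mem_inf.2 ⟨hx0N, hx0T⟩)
  obtain ⟨hpN, -⟩ := mem_inf.1 (hNT hp)
  obtain ⟨hxN, hxT⟩ := mem_inf.1 (hNT hx)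
  have hxE := hNE hxN
  have hx2 : D.c2.act x = D.c2.act n := by
    rw [← hx02, hpx, D.c2.act_mul (D.nm2 (hNE hpN)) (D.nm2 hxE),
      (D.c2.act_eq_one_iff (D.nm2 (hNE hpN))).2
        (D.pelt2 (hNE hpN) (fun e he => D.commutator_mem_Q (hNE hpN) (hNV hpN) he) hp3), one_mul]
  obtain ⟨k, hk⟩ := hsc x hxN
  have hk1 : k ≠ 1 := fun h => hne (by rw [← hx2, hk, h, Data.sc_one])
  have hk0 : k ≠ 0 := fun h0 => by
    obtain ⟨s, hs, hs0⟩ := Φ.hne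
    exact hs0 (by rw [← hrel x hxN k hk s hs, h0, mul_zero])
  -- the maximal elementary abelian subgroups of `S A`
  set J3 := sSup {A' | A' ∈ maxElementaryAbelianSubgroups 3 G ∧ A' ≤ T} with hJ3
  have hJ3B : J3 ≤ D.B := sSup_le fun A' hA' => D.maxB Φ.P Φ.Pp Φ.BP A' hA'.1 (hA'.2.trans hTp)
  have hAJ3 : D.A ≤ J3 := le_sSup ⟨D.Amax, le_sup_left⟩
  have hxJ3 : x ∈ normalizer (J3 : Set G) := by
    have hle : J3 ≤ J3.comap (MulAut.conj x).toMonoidHom := sSup_le fun A' hA' => by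
      refine map_le_iff_le_comap.1 (le_sSup ⟨Offenders.max_map_equiv hA'.1 (MulAut.conj x), ?_⟩)
      rintro _ ⟨t, ht, rfl⟩
      exact conj_mem' hxT (hA'.2 ht)
    exact mem_normalizer_fintype fun y hy => hle hy
  set M0 := J3 ⊓ centralizer (D.V : Set G) with hM0
  have hM0S : M0 ≤ Φ.S := fun y hy => mem_inf.2 ⟨Φ.BP (hJ3B (mem_inf.1 hy).1),
    mem_inf.2 ⟨X.BH (hJ3B (mem_inf.1 hy).1), (mem_inf.1 hy).2⟩⟩
  obtain ⟨a0, ha0, ha0V⟩ := SetLike.not_le_iff_exists.1 D.AV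
  have hCn : ∀ {g}, g ∈ normalizer (D.V : Set G) →
      g ∈ normalizer ((centralizer (D.V : Set G) : Subgroup G) : Set G) := fun hg =>
    LocalBasics.le_normalizer_centralizer le_rfl hg
  have hxV : x ∈ normalizer (D.V : Set G) := D.NV hxE
  set c0 := a0⁻¹ * (x * a0 * x⁻¹) with hc0
  have hc0M : c0 ∈ M0 := by
    refine mem_inf.2 ⟨mul_mem (inv_mem (hAJ3 ha0)) (conj_mem' hxJ3 (hAJ3 ha0)), ?_⟩
    have h := mul_mem (conj_mem' (hCn (inv_mem (D.NV (D.A_norm ha0)))) (hNV hxN))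
      (inv_mem (hNV hxN))
    rwa [inv_inv, show a0⁻¹ * x * a0 * x⁻¹ = c0 by rw [hc0]; group] at h
  have hxM0 : ∀ {j}, j ∈ M0 → x * j * x⁻¹ ∈ M0 := fun hj => conj_mem'
    (LocalBasics.le_normalizer_inf (zpowers_le.2 hxJ3) (zpowers_le.2 (hCn hxV)) (mem_zpowers x)) hj
  have hconj : ∀ j ∈ M0, Φ.α (x * j * x⁻¹) = k⁻¹ * Φ.α j := fun j hj => by
    rw [← hrel x hxN k hk j (hM0S hj)]
    field_simp
  have hl : k⁻¹ - 1 ≠ 0 := fun h => hk1 (inv_eq_one.1 (sub_eq_zero.1 h))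
  obtain ⟨j, hj, hjα⟩ : ∃ j ∈ M0, (k⁻¹ - 1) * Φ.α j = -Φ.α c0 := by
    let Im : Set F := Φ.α '' (M0 : Set G)
    have hmaps : ∀ v ∈ Im, (k⁻¹ - 1) * v ∈ Im := by
      rintro _ ⟨y, hy, rfl⟩
      refine ⟨y⁻¹ * (x * y * x⁻¹), mul_mem (inv_mem hy) (hxM0 hy), ?_⟩
      rw [Φ.hadd _ (Φ.S_le_Om (hM0S (inv_mem hy))) _ (Φ.S_le_Om (hM0S (hxM0 hy))),
        Φ.α_inv (Φ.S_le_Om (hM0S hy)), hconj y hy]
      ring
    let f : Im → Im := fun v => ⟨_, hmaps v.1 v.2⟩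
    have hfi : Function.Injective f := fun u v huv =>
      Subtype.ext (mul_left_cancel₀ hl (congrArg Subtype.val huv))
    obtain ⟨⟨v, y, hy, rfl⟩, hv⟩ := Finite.surjective_of_injective hfi
      ⟨-Φ.α c0, c0⁻¹, inv_mem hc0M, Φ.α_inv (Φ.S_le_Om (hM0S hc0M))⟩
    exact ⟨y, hy, congrArg Subtype.val hv⟩
  set b := a0 * j with hb
  have hjOm : j ∈ D.Om := Φ.S_le_Om (hM0S hj)
  have hbB : b ∈ D.B := mul_mem (D.AB ha0) (hJ3B (mem_inf.1 hj).1)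
  have hjE := D.Om_le_norm hjOm
  have hb1 : D.c1.act b = D.c1.act a0 := by
    rw [hb, D.c1.act_mul (D.nm1 (D.A_norm ha0)) (D.nm1 hjE),
      D.act1_eq_one (D.nm1 hjE) (mem_inf.1 hj).2, mul_one]
  have hb2 : D.c2.act b = D.c2.act a0 := by
    rw [hb, D.c2.act_mul (D.nm2 (D.A_norm ha0)) (D.nm2 hjE),
      (D.c2.act_eq_one_iff (D.nm2 hjE)).2 (mem_inf.1 hjOm).2, mul_one]
  set m := j⁻¹ * c0 * (x * j * x⁻¹) with hm
  have hmM : m ∈ M0 := mul_mem (mul_mem (inv_mem hj) hc0M) (hxM0 hj)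
  have hmα : Φ.α m = 0 := by
    rw [hm, Φ.hadd _ (Φ.S_le_Om (hM0S (mul_mem (inv_mem hj) hc0M))) _ (Φ.S_le_Om (hM0S (hxM0 hj))),
      Φ.hadd _ (inv_mem hjOm) _ (Φ.S_le_Om (hM0S hc0M)), Φ.α_inv hjOm, hconj j hj]
    linear_combination hjα
  -- the complement `[x, Q] Z`
  have hxQ := D.NQ hxE
  have hxZ := D.NZ hxE
  have hQZ : ∀ q ∈ D.Q, ∀ y ∈ D.Q, ⁅q, y⁆ ∈ D.Z := fun q hq y hy =>
    D.comm.le (commutator_mem_commutator hq hy)
  let K : Subgroup G :=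
    { carrier := {y | ∃ q ∈ D.Q, ∃ ζ ∈ D.Z, y = ⁅x, q⁆ * ζ}
      one_mem' := ⟨1, one_mem _, 1, one_mem _, by simp⟩
      mul_mem' := fun {u v} ⟨q, hq, ζ, hζ, hu⟩ ⟨q', hq', ζ', hζ', hv⟩ => by
        have hy : ⁅x, q'⁆ ∈ D.Q := commutatorElement_mem hxQ hq'
        refine ⟨q * q', mul_mem hq hq', ⁅q, ⁅x, q'⁆⁆⁻¹ * (ζ * ζ'),
          mul_mem (inv_mem (hQZ q hq _ hy)) (mul_mem hζ hζ'), ?_⟩
        have c1 : Commute ζ ⁅x, q'⁆ := (D.Wcent ζ (D.ZW hζ) _ hy).symm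
        have c2 : Commute ⁅q, ⁅x, q'⁆⁆ ⁅x, q'⁆ :=
          (D.Wcent _ (D.ZW (hQZ q hq _ hy)) _ hy).symm
        rw [hu, hv, commutator_mul_right,
          show q * ⁅x, q'⁆ * q⁻¹ = ⁅q, ⁅x, q'⁆⁆ * ⁅x, q'⁆ by simp only [commutatorElement_def]; group,
          c2.eq]
        calc ⁅x, q⁆ * ζ * (⁅x, q'⁆ * ζ') = ⁅x, q⁆ * (ζ * ⁅x, q'⁆) * ζ' := by group
          _ = _ := by rw [c1.eq]; group
      inv_mem' := fun {u} ⟨q, hq, ζ, hζ, hu⟩ => by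
        have hy : ⁅x, q⁆ ∈ D.Q := commutatorElement_mem hxQ hq
        refine ⟨q⁻¹, inv_mem hq, ⁅q⁻¹, ⁅x, q⁆⁻¹⁆⁻¹ * ζ⁻¹,
          mul_mem (inv_mem (hQZ _ (inv_mem hq) _ (inv_mem hy))) (inv_mem hζ), ?_⟩
        have c1 : Commute ζ⁻¹ ⁅x, q⁆⁻¹ := (D.Wcent _ (D.ZW (inv_mem hζ)) _ (inv_mem hy)).symm
        have c2 : Commute ⁅q⁻¹, ⁅x, q⁆⁻¹⁆ ⁅x, q⁆⁻¹ :=
          (D.Wcent _ (D.ZW (hQZ _ (inv_mem hq) _ (inv_mem hy))) _ (inv_mem hy)).symm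
        rw [hu, mul_inv_rev, c1.eq,
          show ⁅x, q⁻¹⁆ = ⁅q⁻¹, ⁅x, q⁆⁻¹⁆ * ⁅x, q⁆⁻¹ by simp only [commutatorElement_def]; group,
          c2.eq]
        group }
  have hZK : D.Z ≤ K := fun ζ hζ => ⟨1, one_mem _, ζ, hζ, by simp⟩
  have hconjK : ∀ g ∈ normalizer (D.E : Set G), ∀ m ∈ normalizer (D.E : Set G), g * x * g⁻¹ = m * x →
      (∀ q ∈ D.Q, ⁅m, q⁆ ∈ D.Z) → g ∈ normalizer (K : Set G) := by
    intro g hg m hmE hgx hmZ
    refine mem_normalizer_fintype ?_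
    rintro _ ⟨q, hq, ζ, hζ, rfl⟩
    set q' := g * q * g⁻¹ with hq'def
    have hq' : q' ∈ D.Q := conj_mem' (D.NQ hg) hq
    have hy : ⁅x, q'⁆ ∈ D.Q := commutatorElement_mem hxQ hq'
    have hζ' : g * ζ * g⁻¹ ∈ D.Z := conj_mem' (D.NZ hg) hζ
    refine ⟨q', hq', ⁅m, ⁅x, q'⁆⁆ * ⁅m, q'⁆ * (g * ζ * g⁻¹),
      mul_mem (mul_mem (hmZ _ hy) (hmZ _ hq')) hζ', ?_⟩
    have c2 : Commute ⁅m, ⁅x, q'⁆⁆ ⁅x, q'⁆ := (D.Wcent _ (D.ZW (hmZ _ hy)) _ hy).symm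
    calc g * (⁅x, q⁆ * ζ) * g⁻¹ = ⁅g * x * g⁻¹, q'⁆ * (g * ζ * g⁻¹) := by
          simp only [hq'def, commutatorElement_def]; group
      _ = m * ⁅x, q'⁆ * m⁻¹ * ⁅m, q'⁆ * (g * ζ * g⁻¹) := by
          rw [hgx]; simp only [commutatorElement_def]; group
      _ = ⁅m, ⁅x, q'⁆⁆ * ⁅x, q'⁆ * ⁅m, q'⁆ * (g * ζ * g⁻¹) := by
          simp only [commutatorElement_def]; group
      _ = _ := by rw [c2.eq]; group
  have hEK : D.E ≤ normalizer (K : Set G) := fun e he => by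
    have h := D.commutator_mem_Q hxE (hNV hxN) he
    exact hconjK e (D.E_norm he) ⁅e, x⁆
      (by rw [← commutatorElement_inv]; exact inv_mem (D.Q_norm h))
      (by rw [commutatorElement_def]; group)
      (fun q hq => hQZ _ (by rw [← commutatorElement_inv]; exact inv_mem h) q hq)
  have hbK : b ∈ normalizer (K : Set G) := inv_mem_iff.1 (hconjK b⁻¹ (inv_mem (D.BE hbB)) m
    (Φ.SE (hM0S hmM)) (by rw [hb, hm, hc0]; group)
    fun q hq => Φ.commutator_mem_Z (Φ.S_le_Om (hM0S hmM)) hmα hq)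
  have hKV : K ⊓ D.V = ⊥ := by
    refine eq_bot_iff.2 fun v hv => ?_
    obtain ⟨⟨q, hq, ζ, hζ, hve⟩, hvV⟩ := mem_inf.1 hv
    have hvx : x * v * x⁻¹ = v := by rw [← hNV hxN v hvV, mul_inv_cancel_right]
    have hpow : ∀ i : ℕ, ∃ ζ' ∈ D.Z, x ^ i * q * (x ^ i)⁻¹ * q⁻¹ = v ^ i * ζ' := by
      intro i
      induction i with
      | zero => exact ⟨1, one_mem _, by simp⟩
      | succ i ih =>
        obtain ⟨ζ', hζ', he⟩ := ih
        have hxζ := conj_mem' hxZ hζ'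
        refine ⟨x * ζ' * x⁻¹ * ζ⁻¹, mul_mem hxζ (inv_mem hζ), ?_⟩
        have c : Commute (x * ζ' * x⁻¹) v := (D.W_comm (D.ZW hxζ) (D.VW hvV))
        calc x ^ (i + 1) * q * (x ^ (i + 1))⁻¹ * q⁻¹
            = x * (x ^ i * q * (x ^ i)⁻¹ * q⁻¹) * x⁻¹ * ⁅x, q⁆ := by
              rw [pow_succ', commutatorElement_def]; group
          _ = x * (v ^ i * ζ') * x⁻¹ * (v * ζ⁻¹) := by
              rw [he, show ⁅x, q⁆ = v * ζ⁻¹ from eq_mul_inv_of_mul_eq hve.symm]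
          _ = (x * v * x⁻¹) ^ i * ((x * ζ' * x⁻¹) * v) * ζ⁻¹ := by rw [conj_pow]; group
          _ = _ := by rw [hvx, c.eq, pow_succ]; group
    obtain ⟨ζ', hζ', he⟩ := hpow (orderOf x)
    rw [pow_orderOf_eq_one] at he
    simp only [one_mul, inv_one, mul_one, mul_inv_cancel] at he
    have hvo : v ^ orderOf x ∈ D.V ⊓ D.Z := mem_inf.2 ⟨pow_mem hvV _, by
      rw [eq_comm, mul_eq_one_iff_eq_inv] at he
      rw [he]; exact inv_mem hζ'⟩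
    rw [D.VZ, mem_bot] at hvo
    have := pow_gcd_eq_one.2 ⟨hvo, D.Vexp hvV⟩
    rwa [hxo, pow_one] at this
  have hKQ := D.no_complement' ha0 ha0V hbB hb1 hb2 hbK hEK hZK hKV
  apply hne
  rw [← hx2]
  exact (D.c2.act_eq_one_iff (D.nm2 hxE)).2 ⟨hxQ, D.NW hxE, fun q hq =>
    D.ZW (hKQ (mem_inf.2 ⟨⟨q, hq, 1, one_mem _, (mul_one _).symm⟩, commutatorElement_mem hxQ hq⟩))⟩

end Fus

end Cfsg.Agent.Block39
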