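import Mathlib
import Cfsg.Agent.Lib.Block39Base
import Cfsg.Agent.Lib.TransferPow

/-!
The pairing is stable under fusion in `C_H(V)`; transfer; the induction.
-/

set_option autoImplicit false

namespace Cfsg.Agent.Block39

open Subgroup Cfsg Block39Plane Block39Chart BaumannSubnormal58
open scoped commutatorElement

variable {G : Type*} [Group G] {F : Type} [Field F]

namespace Fus

variable {D : Data G F} {X : Ctx D} (Φ : Fus X)

/-- Conjugation into `S` by an element of `C_H(V)` relates the pairing to the conjugated `q`. -/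
theorem mu_conj [Finite G] {n s q q' u : G} (hn : n ∈ X.CV) (hs : s ∈ Φ.S)
    (hs' : n * s * n⁻¹ ∈ Φ.S) (hq : q ∈ D.Q) (hq' : q' ∈ D.Q) (hu : u ∈ X.R)
    (huz : D.z * u = u * D.z) (he : n * q * n⁻¹ = q' * u) :
    D.mu (n * s * n⁻¹) q' = D.mu s q := by
  set R' := ⁅X.R, X.R⁆ with hR'def
  set s' := n * s * n⁻¹ with hs'def
  have hsO := Φ.S_le_Om hs
  have hs'O := Φ.S_le_Om hs'
  have hnR' : ∀ {g}, g ∈ X.H → g ∈ normalizer (R' : Set G) := fun hg => X.norm_R' (X.H_norm_R hg)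
  have hq'R : q' ∈ X.R := X.Q_le hq'
  obtain ⟨v, hv, ζ, hζ, hvz⟩ := D.Wsup _ (D.Om_comm hsO hq)
  obtain ⟨v', hv', ζ', hζ', hvz'⟩ := D.Wsup _ (D.Om_comm hs'O hq')
  have hm1 : D.mu s q = D.c1.val v hv := by rw [Data.mu, hvz, D.dl_eq hv hζ]
  have hm2 : D.mu s' q' = D.c1.val v' hv' := by rw [Data.mu, hvz', D.dl_eq hv' hζ']
  rw [hm1, hm2]
  have hnv : n * v * n⁻¹ = v := by rw [← X.CV_cent hn v hv, mul_inv_cancel_right]
  set x' := n * ζ * n⁻¹ with hx'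
  have hx'R : x' ∈ R' := conj_mem' (hnR' (X.CV_le hn)) (X.Z_le_R' hζ)
  -- the commutator with `u`
  have hVR : ∀ r ∈ X.R, ∀ w ∈ D.V, r * w = w * r := fun r hr w hw => (X.R_centV hr w hw).symm
  have h1 : ⁅s', q' * u⁆ = v * x' := by
    calc ⁅s', q' * u⁆ = n * ⁅s, q⁆ * n⁻¹ := by
          rw [← he, hs'def]; simp only [commutatorElement_def]; group
      _ = (n * v * n⁻¹) * x' := by rw [hvz, hx']; group
      _ = _ := by rw [hnv]
  have hV' : v'⁻¹ * v ∈ D.V := mul_mem (inv_mem hv') hv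
  set x'' := q'⁻¹ * (ζ'⁻¹ * x') * q' with hx''
  have hx''R : x'' ∈ R' := by
    have := conj_mem' (hnR' (X.R_le (inv_mem hq'R)))
      (mul_mem (inv_mem (X.Z_le_R' hζ')) hx'R)
    rwa [inv_inv] at this
  have h2 : ⁅s', u⁆ = v'⁻¹ * v * x'' := by
    rw [commutator_mul_right, hvz'] at h1
    have c1 : Commute v ζ'⁻¹ := D.W_comm (D.VW hv) (D.ZW (inv_mem hζ'))
    have c2 : Commute v ζ' := D.W_comm (D.VW hv) (D.ZW hζ')
    have c3 : Commute q' (v'⁻¹ * v) := hVR q' hq'R _ hV'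
    calc ⁅s', u⁆ = q'⁻¹ * ((v' * ζ')⁻¹ * (v' * ζ' * (q' * ⁅s', u⁆ * q'⁻¹))) * q' := by group
      _ = q'⁻¹ * ((v' * ζ')⁻¹ * (v * x')) * q' := by rw [h1]
      _ = q'⁻¹ * (ζ'⁻¹ * (v'⁻¹ * v) * x') * q' := by group
      _ = q'⁻¹ * ((v'⁻¹ * v) * ζ'⁻¹ * x') * q' := by
          rw [D.W_comm (D.ZW (inv_mem hζ')) (D.VW hV')]
      _ = (q'⁻¹ * (v'⁻¹ * v) * q') * x'' := by rw [hx'']; group
      _ = _ := by rw [mul_assoc q'⁻¹, ← c3.eq, inv_mul_cancel_left]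
  set w := v'⁻¹ * v with hw
  have hs'H : s' ∈ X.H := X.CV_le (Φ.S_le_CV hs')
  set ρ := s'⁻¹ * (D.z * s' * D.z⁻¹) with hρdef
  have hρ : ρ ∈ D.Q := by
    have := D.commutator_mem_Q (inv_mem (D.Om_le_norm hs'O)) (inv_mem (D.Om_le_centV hs'O)) D.z_mem
    rwa [commutatorElement_def, show s'⁻¹ * D.z * s'⁻¹⁻¹ * D.z⁻¹ = ρ by rw [hρdef]; group] at this
  set x4 := s' * ⁅ρ, u⁆ * s'⁻¹ with hx4
  have hx4R : x4 ∈ R' := conj_mem' (hnR' hs'H) (commutator_mem_commutator (X.Q_le hρ) hu)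
  set x3 := D.z * x'' * D.z⁻¹ with hx3
  have hx3R : x3 ∈ R' := conj_mem' (hnR' (X.EH D.z_mem)) hx''R
  have hzu : D.z * u * D.z⁻¹ = u := by rw [huz, mul_inv_cancel_right]
  have h3 : D.z * ⁅s', u⁆ * D.z⁻¹ = x4 * ⁅s', u⁆ := by
    calc D.z * ⁅s', u⁆ * D.z⁻¹ = ⁅s' * ρ, D.z * u * D.z⁻¹⁆ := by
          rw [hρdef]; simp only [commutatorElement_def]; group
      _ = ⁅s' * ρ, u⁆ := by rw [hzu]
      _ = _ := by rw [hx4]; simp only [commutatorElement_def]; group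
  have h4 : w⁻¹ * x3 = x4 * (w * x'') := by
    rw [← h2, ← h3, h2]
    calc w⁻¹ * x3 = (D.z * w * D.z⁻¹) * x3 := by rw [D.z_inverts hV']
      _ = _ := by rw [hx3]; group
  have hww : w * w ∈ D.V ⊓ R' := by
    refine mem_inf.2 ⟨mul_mem hV' hV', ?_⟩
    have c : Commute x4 w := hVR x4 (X.R'_le hx4R) w hV'
    have : w * w = x4⁻¹ * x3 * x''⁻¹ := by
      have h5 : x3 = w * w * x4 * x'' := by
        calc x3 = w * (w⁻¹ * x3) := by group
          _ = w * (x4 * w * x'') := by rw [h4]; group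
          _ = _ := by rw [c.eq]; group
      have c' : Commute (w * w) x4 := (c.mul_right c).symm
      rw [h5, c'.eq]
      group
    rw [this]
    exact mul_mem (mul_mem (inv_mem hx4R) hx3R) (inv_mem hx''R)
  rw [Φ.hR', mem_bot] at hww
  have hw1 : w = 1 := by
    calc w = w ^ 3 * (w * w)⁻¹ := by rw [pow_succ, pow_two]; group
      _ = 1 := by rw [D.Vexp hV', hww, one_mul, inv_one]
  exact D.c1.val_congr (inv_mul_eq_one.1 hw1) hv' hv

/-- Conjugation on a subgroup of `S` multiplies the pairing by a constant. -/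
theorem exists_scale [Finite G] {n s₁ : G} (hn : n ∈ X.CV) (hs₁ : s₁ ∈ Φ.S) (hne : Φ.α s₁ ≠ 0)
    (hs₁' : n * s₁ * n⁻¹ ∈ Φ.S) :
    ∃ l : F, l ≠ 0 ∧ ∀ s ∈ Φ.S, n * s * n⁻¹ ∈ Φ.S → Φ.α (n * s * n⁻¹) = Φ.α s * l := by
  obtain ⟨q, hq, hv⟩ := D.c2.exists_val ![(1 : F), 0]
  obtain ⟨q', hq', u, hu, huz, he⟩ := X.exists_qu (conj_mem' (X.H_norm_R (X.CV_le hn)) (X.Q_le hq))
  set x := D.c2.val q' hq' 0 with hx
  have key : ∀ s ∈ Φ.S, n * s * n⁻¹ ∈ Φ.S → Φ.α (n * s * n⁻¹) * x = Φ.α s := by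
    intro s hs hs'
    have h := Φ.mu_conj hn hs hs' hq hq' hu huz he
    rw [Φ.hmu _ (Φ.S_le_Om hs') q' hq', Φ.hmu _ (Φ.S_le_Om hs) q hq, hv] at h
    have h' := congrFun (Φ.hinj h) 0
    rw [Pi.smul_apply, Pi.smul_apply] at h'
    simpa [hx] using h'
  have hx0 : x ≠ 0 := fun h0 => hne (by rw [← key s₁ hs₁ hs₁', h0, mul_zero])
  exact ⟨x⁻¹, inv_ne_zero hx0, fun s hs hs' => by
    rw [← key s hs hs']; field_simp⟩

/-- A fully normalized subgroup. -/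
theorem stable_fully [Finite G] [Finite F] (hX : Below X) {A : Subgroup G} (hA : A ≤ Φ.S)
    (hfull : ¬ 3 ∣ (Φ.S ⊓ normalizer (A : Set G)).relIndex (X.CV ⊓ normalizer (A : Set G)))
    (hup : A ≠ Φ.S → ∀ A', A < A' → A' ≤ Φ.S → ∀ c ∈ X.CV, (∀ y ∈ A', c * y * c⁻¹ ∈ Φ.S) →
      ∀ y ∈ A', Φ.α (c * y * c⁻¹) = Φ.α y)
    {n : G} (hn : n ∈ X.CV) (hnA : n ∈ normalizer (A : Set G)) :
    ∀ y ∈ A, Φ.α (n * y * n⁻¹) = Φ.α y := by
  intro y hy
  by_cases hz : ∀ s ∈ A, Φ.α s = 0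
  · rw [hz _ (conj_mem' hnA hy), hz y hy]
  push Not at hz
  obtain ⟨s₁, hs₁, hne⟩ := hz
  set N := X.CV ⊓ normalizer (A : Set G) with hN
  have hcA : ∀ {g}, g ∈ N → ∀ {s}, s ∈ A → g * s * g⁻¹ ∈ A := fun hg _ hs =>
    conj_mem' (mem_inf.1 hg).2 hs
  let l : G → F := fun g => Φ.α (g * s₁ * g⁻¹) / Φ.α s₁
  have hl : ∀ g ∈ N, ∀ s ∈ A, Φ.α (g * s * g⁻¹) = Φ.α s * l g := by
    intro g hg s hs
    obtain ⟨t, -, ht⟩ := Φ.exists_scale (mem_inf.1 hg).1 (hA hs₁) hne (hA (hcA hg hs₁))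
    have e1 := ht s₁ (hA hs₁) (hA (hcA hg hs₁))
    rw [ht s (hA hs) (hA (hcA hg hs))]
    simp only [l, e1, mul_div_cancel_left₀ t hne]
  have hl1 : l 1 = 1 := by simp [l, div_self hne]
  have hlmul : ∀ g ∈ N, ∀ g' ∈ N, l (g * g') = l g * l g' := by
    intro g hg g' hg'
    apply mul_left_cancel₀ hne
    rw [← hl _ (mul_mem hg hg') _ hs₁,
      show g * g' * s₁ * (g * g')⁻¹ = g * (g' * s₁ * g'⁻¹) * g⁻¹ by group,
      hl g hg _ (hcA hg' hs₁), hl g' hg' _ hs₁]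
    ring
  let W3 : Subgroup G :=
    { carrier := {g | g ∈ N ∧ l g = 1}
      one_mem' := ⟨one_mem _, hl1⟩
      mul_mem' := fun {a b} ha hb => ⟨mul_mem ha.1 hb.1, by
        rw [hlmul a ha.1 b hb.1, ha.2, hb.2, one_mul]⟩
      inv_mem' := fun {a} ha => ⟨inv_mem ha.1, by
        have := hlmul a ha.1 a⁻¹ (inv_mem ha.1)
        rw [mul_inv_cancel, hl1, ha.2, one_mul] at this
        exact this.symm⟩ }
  have hlpow : ∀ g ∈ N, ∀ i : ℕ, l (g ^ i) = l g ^ i := fun g hg i => by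
    induction i with
    | zero => rw [pow_zero, pow_zero, hl1]
    | succ i ih => rw [pow_succ, pow_succ, hlmul _ (pow_mem hg i) _ hg, ih]
  have h3 : ∀ g ∈ N, IsThree g → g ∈ W3 := fun g hg ⟨k, hk⟩ =>
    ⟨hg, pow_three_sub_one D.h3 _ k (by rw [← hlpow g hg, hk, hl1])⟩
  set T := Φ.S ⊓ normalizer (A : Set G) with hT
  have hTN : T ≤ N := inf_le_inf_right _ Φ.S_le_CV
  have hTp : IsPGroup 3 ↥T := Φ.Sp.to_le inf_le_left
  have hTW : T ≤ W3 := fun t ht => h3 t (hTN ht) (isThree_of_mem hTp ht)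
  have hidx : ¬ 3 ∣ T.relIndex W3 := fun hd => hfull (hd.trans (by
    rw [← Subgroup.relIndex_mul_relIndex T W3 N hTW (fun g hg => hg.1)]
    exact dvd_mul_right _ _))
  have hnN : n ∈ N := mem_inf.2 ⟨hn, hnA⟩
  have hU : T.map (MulAut.conj n).toMonoidHom ≤ W3 := by
    rintro _ ⟨t, ht, rfl⟩
    refine h3 _ (mul_mem (mul_mem hnN (hTN ht)) (inv_mem hnN)) ?_
    obtain ⟨k, hk⟩ := isThree_of_mem hTp ht
    exact ⟨k, by rw [← map_pow, hk, map_one]⟩
  obtain ⟨w, hw, hwT⟩ := exists_conj_into (hTp.map _) hU hTW hidx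
  have hwn : w * n ∈ N := mul_mem hw.1 hnN
  have hwnT : ∀ t ∈ T, w * n * t * (w * n)⁻¹ ∈ T := fun t ht => by
    have := hwT _ ⟨t, ht, rfl⟩
    convert this using 1
    simp [mul_assoc]
  have hl_one : l (w * n) = 1 := by
    have hAT : A ≤ T := le_inf hA Subgroup.le_normalizer
    by_cases hAS : A = Φ.S
    · have hb := Φ.base hX (mem_inf.1 hwn).1 (hAS ▸ (mem_inf.1 hwn).2) s₁ (hAS ▸ hs₁)
      simp only [l, hb, div_self hne]
    · have hlt : A < T := AlperinTame.lt_normalizer_inf Φ.Sp (lt_of_le_of_ne hA hAS)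
      have hb := hup hAS T hlt inf_le_left _ (mem_inf.1 hwn).1 (fun t ht => (mem_inf.1 (hwnT t ht)).1)
        s₁ (hAT hs₁)
      simp only [l, hb, div_self hne]
  have hln : l n = 1 := by rw [← hl_one, hlmul w hw.1 n hnN, hw.2, one_mul]
  rw [hl n hnN y hy, hln, mul_one]

/-- A subgroup of `S` has a conjugate with Sylow normalizer, the conjugation carrying `N_S(A)`
into `S`. -/
theorem exists_full [Finite G] {A : Subgroup G} (hA : A ≤ Φ.S) :
    ∃ g ∈ X.CV, (∀ t ∈ Φ.S ⊓ normalizer (A : Set G), g * t * g⁻¹ ∈ Φ.S) ∧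
      ¬ 3 ∣ (Φ.S ⊓ normalizer ((A.map (MulAut.conj g).toMonoidHom : Subgroup G) : Set G)).relIndex
        (X.CV ⊓ normalizer ((A.map (MulAut.conj g).toMonoidHom : Subgroup G) : Set G)) := by
  set N := X.CV ⊓ normalizer (A : Set G) with hN
  set T := Φ.S ⊓ normalizer (A : Set G) with hT
  have hTN : T ≤ N := inf_le_inf_right _ Φ.S_le_CV
  have hp : IsPGroup 3 ↥(T.subgroupOf N) :=
    (Φ.Sp.to_le inf_le_left).of_equiv (Subgroup.subgroupOfEquivOfLe hTN).symm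
  obtain ⟨U, hU⟩ := hp.exists_le_sylow
  set U0 : Subgroup G := (U : Subgroup ↥N).map N.subtype with hU0
  have hU0N : U0 ≤ N := Subgroup.map_subtype_le _
  have hTU : T ≤ U0 := fun t ht => ⟨⟨t, hTN ht⟩, hU ht, rfl⟩
  obtain ⟨g, hg, hgS⟩ := exists_conj_into (U.isPGroup'.map N.subtype) (hU0N.trans inf_le_left)
    Φ.S_le_CV Φ.Sidx
  refine ⟨g, hg, fun t ht => hgS t (hTU ht), ?_⟩
  set c := (MulAut.conj g).toMonoidHom with hc
  have hcinj : Function.Injective c := (MulAut.conj g).injective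
  have hNA : normalizer ((A.map c : Subgroup G) : Set G) = (normalizer (A : Set G)).map c :=
    (Subgroup.map_equiv_normalizer_eq A (MulAut.conj g)).symm
  have hCV : X.CV.map c = X.CV := by
    refine le_antisymm ?_ fun x hx => ?_
    · rintro _ ⟨x, hx, rfl⟩
      exact mul_mem (mul_mem hg hx) (inv_mem hg)
    · exact ⟨g⁻¹ * x * g, mul_mem (mul_mem (inv_mem hg) hx) hg, by simp [hc, mul_assoc]⟩
  have hN' : X.CV ⊓ normalizer ((A.map c : Subgroup G) : Set G) = N.map c := by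
    rw [hN, Subgroup.map_inf _ _ _ hcinj, hCV, hNA]
  rw [hN']
  intro hd
  have h1 : U0.map c ≤ Φ.S ⊓ normalizer ((A.map c : Subgroup G) : Set G) := by
    refine le_inf ?_ ?_
    · rintro _ ⟨u, hu, rfl⟩; exact hgS u hu
    · exact (map_mono hU0N).trans (hN'.ge.trans inf_le_right)
  have h2 : (U0.map c).relIndex (N.map c) = (U : Subgroup ↥N).index := by
    rw [Subgroup.relIndex_map_map_of_injective _ _ hcinj]
    show (((U : Subgroup ↥N).map N.subtype).subgroupOf N).index = _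
    rw [show ((U : Subgroup ↥N).map N.subtype).subgroupOf N = (U : Subgroup ↥N) from
      Subgroup.comap_map_eq_self_of_injective N.subtype_injective _]
  exact U.not_dvd_index (h2 ▸ hd.trans (Subgroup.relIndex_dvd_of_le_left (N.map c) h1))

/-- The pairing is stable under fusion in `C_H(V)`. -/
theorem stable [Finite G] [Finite F] (hX : Below X) :
    ∀ A : Subgroup G, A ≤ Φ.S → ∀ c ∈ X.CV, (∀ y ∈ A, c * y * c⁻¹ ∈ Φ.S) →
      ∀ y ∈ A, Φ.α (c * y * c⁻¹) = Φ.α y := by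
  suffices h : ∀ d : ℕ, ∀ A : Subgroup G, Nat.card G - Nat.card ↥A = d → A ≤ Φ.S → ∀ c ∈ X.CV,
      (∀ y ∈ A, c * y * c⁻¹ ∈ Φ.S) → ∀ y ∈ A, Φ.α (c * y * c⁻¹) = Φ.α y from
    fun A => h _ A rfl
  intro d
  induction d using Nat.strong_induction_on with
  | _ d ih =>
  intro A hd hA c hc hcA y hy
  have up : ∀ {A' : Subgroup G}, Nat.card ↥A < Nat.card ↥A' → A' ≤ Φ.S → ∀ c ∈ X.CV,
      (∀ y ∈ A', c * y * c⁻¹ ∈ Φ.S) → ∀ y ∈ A', Φ.α (c * y * c⁻¹) = Φ.α y := by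
    intro A' hlt hA'
    refine ih _ ?_ A' rfl hA'
    have := Subgroup.card_le_card_group A'
    omega
  have cardlt : ∀ {A₁ A₂ : Subgroup G}, A₁ < A₂ → Nat.card ↥A₁ < Nat.card ↥A₂ := fun {A₁ A₂} h =>
    lt_of_le_of_ne (Subgroup.card_le_of_le h.le)
      fun e => h.ne (Subgroup.eq_of_le_of_card_ge h.le e.ge)
  by_cases hAS : A = Φ.S
  · subst hAS
    have hcS : c ∈ normalizer (Φ.S : Set G) := mem_normalizer_fintype hcA
    refine Φ.stable_fully hX le_rfl (fun hd => ?_) (fun h => absurd rfl h) hc hcS y hy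
    rw [inf_eq_left.2 Subgroup.le_normalizer] at hd
    exact Φ.Sidx (hd.trans (by
      rw [← Subgroup.relIndex_mul_relIndex Φ.S _ X.CV
        (le_inf Φ.S_le_CV Subgroup.le_normalizer) inf_le_left]
      exact dvd_mul_right _ _))
  obtain ⟨g, hg, hgS, hfull⟩ := Φ.exists_full hA
  set As := A.map (MulAut.conj g).toMonoidHom with hAsdef
  have hAs : As ≤ Φ.S := by
    rintro _ ⟨a, ha, rfl⟩
    exact hgS a (mem_inf.2 ⟨hA ha, Subgroup.le_normalizer ha⟩)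
  have hcard : ∀ k : G, Nat.card ↥(A.map (MulAut.conj k).toMonoidHom) = Nat.card ↥A := fun k =>
    card_map_of_injective (MulAut.conj k).injective
  set B := A.map (MulAut.conj c).toMonoidHom with hBdef
  have hB : B ≤ Φ.S := by rintro _ ⟨a, ha, rfl⟩; exact hcA a ha
  have hBS : B ≠ Φ.S := fun h => hAS (Subgroup.eq_of_le_of_card_ge hA (by rw [← h, hBdef, hcard]))
  have hltA := AlperinTame.lt_normalizer_inf Φ.Sp (lt_of_le_of_ne hA hAS)
  have hltB := AlperinTame.lt_normalizer_inf Φ.Sp (lt_of_le_of_ne hB hBS)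
  set TB := Φ.S ⊓ normalizer (B : Set G) with hTB
  have hTBc : Nat.card ↥A < Nat.card ↥TB := by
    rw [← hcard c]; exact cardlt hltB
  -- carry `B` and its normalizer to the fully normalized conjugate
  set h0 := g * c⁻¹ with hh0
  have hBAs : B.map (MulAut.conj h0).toMonoidHom = As := by
    rw [hBdef, hAsdef, Subgroup.map_map]
    congr 1
    ext x
    simp [hh0, mul_assoc]
  have hN' : TB.map (MulAut.conj h0).toMonoidHom ≤ X.CV ⊓ normalizer (As : Set G) := by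
    refine le_inf ?_ ?_
    · rintro _ ⟨t, ht, rfl⟩
      exact mul_mem (mul_mem (mul_mem hg (inv_mem hc)) (Φ.S_le_CV (mem_inf.1 ht).1))
        (inv_mem (mul_mem hg (inv_mem hc)))
    · rw [← hBAs, show normalizer ((B.map (MulAut.conj h0).toMonoidHom : Subgroup G) : Set G) =
        (normalizer (B : Set G)).map (MulAut.conj h0).toMonoidHom from
          (Subgroup.map_equiv_normalizer_eq B (MulAut.conj h0)).symm]
      exact map_mono inf_le_right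
  obtain ⟨w, hw, hwS⟩ := exists_conj_into ((Φ.Sp.to_le inf_le_left).map _) hN'
    (inf_le_inf_right _ Φ.S_le_CV) hfull
  obtain ⟨hwC, hwA⟩ := mem_inf.1 hw
  set h := w * h0 with hhdef
  have hhC : h ∈ X.CV := mul_mem hwC (mul_mem hg (inv_mem hc))
  have hhS : ∀ t ∈ TB, h * t * h⁻¹ ∈ Φ.S := fun t ht => by
    have := (mem_inf.1 (hwS _ ⟨t, ht, rfl⟩)).1
    convert this using 1
    simp [hhdef, mul_assoc]
  have hy' : c * y * c⁻¹ ∈ B := ⟨y, hy, rfl⟩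
  have hyAs : g * y * g⁻¹ ∈ As := ⟨y, hy, rfl⟩
  have e1 := up hTBc inf_le_left h hhC hhS _ (mem_inf.2 ⟨hB hy', Subgroup.le_normalizer hy'⟩)
  have e2 := up (cardlt hltA) inf_le_left g hg hgS y (mem_inf.2 ⟨hA hy, Subgroup.le_normalizer hy⟩)
  have e3 := Φ.stable_fully hX hAs hfull (fun _ A' hlt hA' => up (hcard g ▸ cardlt hlt) hA') hwC hwA
    _ hyAs
  rw [show h * (c * y * c⁻¹) * h⁻¹ = w * (g * y * g⁻¹) * w⁻¹ by rw [hhdef, hh0]; group, e3] at e1
  exact e1.symm.trans e2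

/-- The pairing vanishes on the residual of `C_H(V)`. -/
theorem α_residual [Finite G] [Finite F] (hX : Below X) {s : G} (hs : s ∈ Φ.S)
    (hs0 : s ∈ closure {g : G | g ∈ X.CV ∧ (orderOf g).Coprime 3} ⊔ X.R) : Φ.α s = 0 := by
  classical
  let S' : Subgroup ↥X.CV := Φ.S.subgroupOf X.CV
  have hOm : ∀ x : ↥S', ((x : ↥X.CV) : G) ∈ D.Om := fun x => Φ.S_le_Om x.2
  let φ : ↥S' →* Multiplicative F :=
    MonoidHom.mk' (fun x => Multiplicative.ofAdd (Φ.α ((x : ↥X.CV) : G))) (fun a b => by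
      rw [← ofAdd_add, ← Φ.hadd _ (hOm a) _ (hOm b)]; rfl)
  haveI : S'.FiniteIndex := Subgroup.finiteIndex_of_finite_quotient
  set τ := MonoidHom.transfer φ with hτ
  have hcube : ∀ m : Multiplicative F, m ^ 3 = 1 := fun m => by
    apply Multiplicative.toAdd.injective
    simp [nsmul_eq_mul, D.h3]
  have hτS : ∀ x : ↥S', τ (x : ↥X.CV) = φ x ^ S'.index := by
    intro x
    refine TransferPow.transfer_eq_pow_index φ x fun k g hg => ?_
    show Multiplicative.ofAdd (Φ.α ((g⁻¹ * (x : ↥X.CV) ^ k * g : ↥X.CV) : G)) =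
      Multiplicative.ofAdd (Φ.α ((x : ↥X.CV) : G)) ^ k
    rw [← ofAdd_nsmul, ← Φ.α_pow (hOm x)]
    congr 1
    have hxk : ((x : ↥X.CV) : G) ^ k ∈ Φ.S := pow_mem x.2 k
    have hconj : (g : G)⁻¹ * ((x : ↥X.CV) : G) ^ k * (g : G)⁻¹⁻¹ ∈ Φ.S := by
      rw [inv_inv]; exact hg
    have hgg : zpowers (((x : ↥X.CV) : G) ^ k) ≤
        Φ.S.comap (MulAut.conj (g : G)⁻¹).toMonoidHom := zpowers_le.2 hconj
    have := Φ.stable hX (zpowers (((x : ↥X.CV) : G) ^ k)) (zpowers_le.2 hxk) (g : G)⁻¹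
      (inv_mem g.2) (fun y hy => hgg hy) _ (mem_zpowers _)
    rwa [inv_inv] at this
  have hle : closure {g : G | g ∈ X.CV ∧ (orderOf g).Coprime 3} ⊔ X.R ≤ τ.ker.map X.CV.subtype := by
    refine sup_le ((closure_le _).2 fun g hg => ⟨⟨g, hg.1⟩, ?_, rfl⟩) fun r hr =>
      ⟨⟨r, X.R_le_CV hr⟩, ?_, rfl⟩
    · show τ _ = 1
      have h1 : τ ⟨g, hg.1⟩ ^ orderOf g = 1 := by
        rw [← map_pow, show (⟨g, hg.1⟩ : ↥X.CV) ^ orderOf g = 1 from
          Subtype.ext (pow_orderOf_eq_one g), map_one]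
      have := pow_gcd_eq_one.2 ⟨h1, hcube (τ ⟨g, hg.1⟩)⟩
      rwa [hg.2, pow_one] at this
    · show τ _ = 1
      have := hτS ⟨⟨r, X.R_le_CV hr⟩, Φ.R_le_S hr⟩
      rw [this, show φ ⟨⟨r, X.R_le_CV hr⟩, Φ.R_le_S hr⟩ = 1 from
        congrArg Multiplicative.ofAdd (Φ.α_R hr), one_pow]
  obtain ⟨⟨s', hs'C⟩, hk, hss⟩ := hle hs0
  change s' = s at hss
  subst hss
  have h1 := (hτS ⟨⟨s', hs'C⟩, hs⟩).symm.trans (MonoidHom.mem_ker.1 hk)
  have h2 := pow_gcd_eq_one.2 ⟨h1, hcube _⟩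
  rw [show Nat.gcd S'.index 3 = 1 from
    ((Fact.out : Nat.Prime 3).coprime_iff_not_dvd.2 Φ.Sidx).symm, pow_one] at h2
  exact Multiplicative.ofAdd.injective h2

end Fus

/-- `C_H(V)` normalises `E`. -/
theorem Ctx.CV_norm [Finite G] [Finite F] {D : Data G F} (X : Ctx D) :
    X.CV ≤ normalizer (D.E : Set G) := by
  suffices h : ∀ n : ℕ, ∀ X : Ctx D, Nat.card ↥X.H = n → X.CV ≤ normalizer (D.E : Set G) from
    h _ X rfl
  intro n
  induction n using Nat.strong_induction_on with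
  | _ n ih =>
  intro X hn
  have hX : Below X := fun X' hlt => ih _ (hn ▸ hlt) X' rfl
  obtain ⟨U, hU⟩ :=
    (D.Bp.of_equiv (Subgroup.subgroupOfEquivOfLe X.BH).symm).exists_le_sylow
  set P : Subgroup G := (U : Subgroup ↥X.H).map X.H.subtype with hPdef
  have hPH : P ≤ X.H := Subgroup.map_subtype_le _
  have hPp : IsPGroup 3 ↥P := U.isPGroup'.map _
  have hidx : ¬ 3 ∣ P.relIndex X.H := by
    show ¬ 3 ∣ (P.subgroupOf X.H).index
    rw [show P.subgroupOf X.H = (U : Subgroup ↥X.H) from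
      Subgroup.comap_map_eq_self_of_injective X.H.subtype_injective _]
    exact U.not_dvd_index
  have hBP : D.B ≤ P := fun b hb => ⟨⟨b, X.BH hb⟩, hU hb, rfl⟩
  have hSE := X.sylow_norm hX hPH hPp hidx hBP
  have hSidx : ¬ 3 ∣ (P ⊓ X.CV).relIndex X.CV := not_dvd_inf X.CV_le X.H_norm_CV hPH hPp hidx
  let Y0 : SubCtx X :=
    { C := X.CV, S := P ⊓ X.CV, CH := le_rfl, Cn := X.H_norm_CV, RC := X.R_le_CV
      SC := inf_le_right, SE := hSE, Sp := hPp.to_le inf_le_left, Sidx := hSidx }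
  by_cases hR' : D.V ⊓ ⁅X.R, X.R⁆ = ⊥
  swap
  · exact X.norm_of_le (Y0.crit1 hR')
  by_cases hμ : ∀ s ∈ P ⊓ X.CV, ∀ q ∈ D.Q, D.mu s q = 0
  · exact X.norm_of_le (Y0.crit2 hR' fun s hs q hq =>
      (D.mu_eq_zero (Y0.S_le_Om hs) hq).1 (hμ s hs q hq))
  push Not at hμ
  obtain ⟨s, hs, q, hq, hne⟩ := hμ
  obtain ⟨h, α, hinj, hmu, hadd, h1⟩ := D.exists_coeff (Y0.S_le_Om hs) hq hne
  let Φ : Fus X :=
    { P := P, PH := hPH, Pp := hPp, idx := hidx, BP := hBP, SE := hSE, h := h, α := α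
      hinj := hinj, hmu := hmu, hadd := hadd, hne := ⟨s, hs, by rw [h1]; exact one_ne_zero⟩
      hR' := hR' }
  set C0 := closure {g : G | g ∈ X.CV ∧ (orderOf g).Coprime 3} with hC0
  set N0 := C0 ⊔ X.R with hN0
  have hC0n : X.H ≤ normalizer (C0 : Set G) := fun g hg => by
    have hle : C0 ≤ C0.comap (MulAut.conj g).toMonoidHom := (closure_le _).2 fun x hx =>
      subset_closure ⟨conj_mem' (X.H_norm_CV hg) hx.1, by
        show (orderOf ((MulAut.conj g) x)).Coprime 3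
        rw [MulEquiv.orderOf_eq]; exact hx.2⟩
    exact mem_normalizer_fintype fun y hy => hle hy
  have hN0n : X.H ≤ normalizer (N0 : Set G) := LocalBasics.le_normalizer_sup hC0n X.H_norm_R
  have hN0CV : N0 ≤ X.CV := sup_le ((closure_le _).2 fun x hx => hx.1) X.R_le_CV
  let Y : SubCtx X :=
    { C := N0, S := P ⊓ N0, CH := hN0CV, Cn := hN0n, RC := le_sup_right, SC := inf_le_right
      SE := (inf_le_inf_left P hN0CV).trans hSE, Sp := hPp.to_le inf_le_left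
      Sidx := not_dvd_inf (hN0CV.trans X.CV_le) hN0n hPH hPp hidx }
  have hNE : ⁅N0, D.E⁆ ≤ X.R := Y.crit2 hR' fun s hs q hq =>
    Φ.commutator_mem_Z (Y.S_le_Om hs)
      (Φ.α_residual hX (mem_inf.2 ⟨(mem_inf.1 hs).1, hN0CV (mem_inf.1 hs).2⟩) (mem_inf.1 hs).2) hq
  let Kc : Subgroup G :=
    { carrier := {c | c ∈ X.CV ∧ ∀ e ∈ D.E, ⁅c, e⁆ ∈ X.R}
      one_mem' := ⟨one_mem _, fun e he => by rw [commutatorElement_one_left]; exact one_mem _⟩
      mul_mem' := fun {x y} hx hy => ⟨mul_mem hx.1 hy.1, fun e he => by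
        rw [show ⁅x * y, e⁆ = x * ⁅y, e⁆ * x⁻¹ * ⁅x, e⁆ by simp only [commutatorElement_def]; group]
        exact mul_mem (conj_mem' (X.H_norm_R (X.CV_le hx.1)) (hy.2 e he)) (hx.2 e he)⟩
      inv_mem' := fun {x} hx => ⟨inv_mem hx.1, fun e he => by
        rw [show ⁅x⁻¹, e⁆ = x⁻¹ * ⁅x, e⁆⁻¹ * x⁻¹⁻¹ by simp only [commutatorElement_def]; group]
        exact conj_mem' (X.H_norm_R (X.CV_le (inv_mem hx.1))) (inv_mem (hx.2 e he))⟩ }
  have hNKc : N0 ≤ Kc := fun c hc =>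
    ⟨hN0CV hc, fun e he => hNE (commutator_mem_commutator hc he)⟩
  have hSKc : P ⊓ X.CV ≤ Kc := fun c hc => ⟨(mem_inf.1 hc).2, fun e he =>
    X.Q_le (D.commutator_mem_Q (hSE hc) (X.CV_cent (mem_inf.1 hc).2) he)⟩
  have hKc : Kc = X.CV := le_of_residual_index hN0CV (X.CV_le.trans hN0n) hNKc (fun c hc => hc.1)
    (fun x hx hxo => mem_sup_left (subset_closure ⟨hx, hxo⟩))
    fun hd => hSidx (hd.trans (by
      rw [← Subgroup.relIndex_mul_relIndex _ _ _ hSKc (show Kc ≤ X.CV from fun c hc => hc.1)]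
      exact dvd_mul_left _ _))
  exact fun c hc => X.mem_norm ((hKc.ge hc).2)

end Cfsg.Agent.Block39
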