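import Mathlib
import Cfsg.Agent.Lib.Block39Main
import Cfsg.Agent.Lib.BaumannSubnormal58Core
import Cfsg.Agent.Lib.PGroupsBasic

/-!
`C_G(W_E)` normalises a `B(T)`-block `E` in a group of characteristic `p`.
-/

set_option autoImplicit false
set_option linter.style.haveILetI false

namespace Cfsg.Agent.Block39

open Subgroup Cfsg Block39Plane Block39Chart BaumannSubnormal58
open BaumannBlockStructure (wE omega_le omega_comm omega_pow le_normalizer_omega le_normalizer_wE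
  block_le_normalizer)
open scoped commutatorElement

variable {G : Type*} [Group G]

theorem act_of_action {F : Type} [Field F] {E U U₀ : Subgroup G} (c : Chart F U U₀)
    (ρ : ↥E →* SL F) (hn : ∀ e : ↥E, (e : G) ∈ c.Nm)
    (hact : ∀ (e : ↥E) (u : ↥U), ∃ w : ↥U, (w : G) = (e : G) * (u : G) * (e : G)⁻¹ ∧
      Multiplicative.toAdd (c.ψ w) =
        ((ρ e : SL F) : Matrix (Fin 2) (Fin 2) F).mulVec (Multiplicative.toAdd (c.ψ u))) (e : ↥E) :
    c.act (e : G) = mv (ρ e) := by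
  refine endExt fun v => ?_
  obtain ⟨u, hu, rfl⟩ := c.exists_val v
  obtain ⟨w, hw, hval⟩ := hact e ⟨u, hu⟩
  rw [c.act_val (hn e) hu, c.val_congr hw.symm _ w.2]
  exact hval

variable [Finite G]

theorem thompson_eq {p : ℕ} [Fact p.Prime] (T T' : Sylow p G)
    (h : baumannSubgroupOf p (T : Subgroup G) ≤ (T' : Subgroup G)) :
    thompsonSubgroupOf p (T' : Subgroup G) = thompsonSubgroupOf p (T : Subgroup G) := by
  have hB := BaumannBlockBasics.baumann_eq_of_le T T' h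
  refine le_antisymm ?_ ?_
  · rw [Offenders.thompsonOf_eq (T' : Subgroup G), Offenders.thompsonOf_eq (T : Subgroup G)]
    refine sSup_le fun A hA => le_sSup (Offenders.max_maxIn (Offenders.maxIn_sylow hA) ?_)
    refine le_trans ?_ (BaumannBlockBasics.baumann_le p _)
    rw [← hB]
    refine le_trans ?_ (BaumannBlockBasics.thompson_le_baumann p _)
    rw [Offenders.thompsonOf_eq]
    exact le_sSup hA
  · rw [Offenders.thompsonOf_eq (T' : Subgroup G), Offenders.thompsonOf_eq (T : Subgroup G)]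
    refine sSup_le fun A hA => le_sSup (Offenders.max_maxIn (Offenders.maxIn_sylow hA) ?_)
    refine le_trans ?_ h
    refine le_trans ?_ (BaumannBlockBasics.thompson_le_baumann p _)
    rw [Offenders.thompsonOf_eq]
    exact le_sSup hA

variable {T : Sylow 3 G} {E : Subgroup G}

/-- `W_E ∩ C(E) = 1` when some element of `E` inverts `W / Z`. -/
theorem wE_inf_cz (hb : Blk 3 E) {e : G} (he : e ∈ E)
    (hinv : ∀ w ∈ Wo 3 E, w * (e * w * e⁻¹) ∈ Zo 3 E) : wE 3 E ⊓ Zo 3 E = ⊥ := by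
  have hWn := hb.natW.norm
  have hcomm : ∀ {x y}, x ∈ Wo 3 E → y ∈ Wo 3 E → x * y = y * x := fun hx hy => omega_comm 3 _ hx hy
  have hT : ∀ f ∈ E, ∀ w ∈ Wo 3 E,
      f * w * f⁻¹ * (e * (f * w * f⁻¹) * e⁻¹) = w * (e * w * e⁻¹) := by
    intro f hf w hw
    have hQ : ⁅e, f⁆ ∈ Qo 3 E := by
      refine hb.natW.ker _ (mul_mem (mul_mem (mul_mem he hf) (inv_mem he)) (inv_mem hf)) ?_
      intro u hu
      -- conjugation by `e` is `-1` modulo `Z`
      have hfu : f⁻¹ * u * f ∈ Wo 3 E := by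
        have := conj_mem' (hWn (inv_mem hf)) hu
        rwa [inv_inv] at this
      have hZn : ∀ {g}, g ∈ E → ∀ {z}, z ∈ Zo 3 E → g * z * g⁻¹ = z := fun hg _ hz => by
        rw [(mem_inf.1 hz).2 _ hg, mul_inv_cancel_right]
      have hei : ∀ x ∈ Wo 3 E, ∃ z ∈ Zo 3 E, e * x * e⁻¹ = x⁻¹ * z ∧ e⁻¹ * x * e = x⁻¹ * z := by
        intro x hx
        have hz := hinv x hx
        refine ⟨x * (e * x * e⁻¹), hz, (inv_mul_cancel_left x _).symm, ?_⟩
        have h := hZn (inv_mem he) hz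
        rw [inv_inv] at h
        have hxe : e * x * e⁻¹ ∈ Wo 3 E := conj_mem' (hWn he) hx
        have c : Commute x (e * x * e⁻¹) := hcomm hx hxe
        have hxi : e⁻¹ * x * e ∈ Wo 3 E := by
          have := conj_mem' (hWn (inv_mem he)) hx
          rwa [inv_inv] at this
        conv_rhs => rw [← h]
        rw [c.eq]
        calc e⁻¹ * x * e = x⁻¹ * (x * (e⁻¹ * x * e)) := by group
          _ = x⁻¹ * (e⁻¹ * (e * x * e⁻¹ * x) * e) := by group
      obtain ⟨z1, hz1, -, h1⟩ := hei _ hfu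
      set u1 := f⁻¹ * u * f
      have hu1i := inv_mem hfu
      -- `e f e⁻¹ f⁻¹ u f e f⁻¹ e⁻¹`
      have e1 : ⁅e, f⁆ * u * ⁅e, f⁆⁻¹ = e * (f * (u1⁻¹ * z1) * f⁻¹) * e⁻¹ := by
        rw [← h1]; simp only [u1, commutatorElement_def]; group
      have e2 : f * (u1⁻¹ * z1) * f⁻¹ = u⁻¹ * z1 := by
        calc f * (u1⁻¹ * z1) * f⁻¹ = (f * u1 * f⁻¹)⁻¹ * (f * z1 * f⁻¹) := by group
          _ = _ := by rw [hZn hf hz1]; simp only [u1]; group
      obtain ⟨z2, hz2, h2, -⟩ := hei _ (inv_mem hu)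
      have e3 : ⁅⁅e, f⁆, u⁆ = u * (z2 * z1) * u⁻¹ := by
        rw [commutatorElement_def _ u, e1, e2]
        calc e * (u⁻¹ * z1) * e⁻¹ * u⁻¹ = (e * u⁻¹ * e⁻¹) * (e * z1 * e⁻¹) * u⁻¹ := by group
          _ = _ := by rw [h2, hZn he hz1, inv_inv, mul_assoc u z2 z1]
      rw [e3, hcomm hu (mem_inf.1 (mul_mem hz2 hz1)).1, mul_inv_cancel_right]
      exact mul_mem hz2 hz1
    have hw' : f * w * f⁻¹ ∈ Wo 3 E := conj_mem' (hWn hf) hw
    have hew : e * w * e⁻¹ ∈ Wo 3 E := conj_mem' (hWn he) hw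
    have hc : ⁅e, f⁆ * (f * (e * w * e⁻¹) * f⁻¹) * ⁅e, f⁆⁻¹ = f * (e * w * e⁻¹) * f⁻¹ := by
      rw [wo_commute E (conj_mem' (hWn hf) hew) hQ, mul_inv_cancel_right]
    have h3 : e * (f * w * f⁻¹) * e⁻¹ = f * (e * w * e⁻¹) * f⁻¹ := by
      rw [← hc]; simp only [commutatorElement_def]; group
    have hz := hinv w hw
    rw [h3]
    calc f * w * f⁻¹ * (f * (e * w * e⁻¹) * f⁻¹) = f * (w * (e * w * e⁻¹)) * f⁻¹ := by group
      _ = _ := by rw [(mem_inf.1 hz).2 f hf, mul_inv_cancel_right]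
  let K : Subgroup G :=
    { carrier := {w | w ∈ Wo 3 E ∧ w * (e * w * e⁻¹) = 1}
      one_mem' := ⟨one_mem _, by group⟩
      mul_mem' := fun {x y} hx hy => ⟨mul_mem hx.1 hy.1, by
        have hye : e * x * e⁻¹ ∈ Wo 3 E := conj_mem' (hWn he) hx.1
        calc x * y * (e * (x * y) * e⁻¹) = x * (y * (e * x * e⁻¹)) * (e * y * e⁻¹) := by group
          _ = x * ((e * x * e⁻¹) * y) * (e * y * e⁻¹) := by rw [hcomm hy.1 hye]
          _ = (x * (e * x * e⁻¹)) * (y * (e * y * e⁻¹)) := by group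
          _ = 1 := by rw [hx.2, hy.2, one_mul]⟩
      inv_mem' := fun {x} hx => ⟨inv_mem hx.1, by
        have hye : e * x * e⁻¹ ∈ Wo 3 E := conj_mem' (hWn he) hx.1
        calc x⁻¹ * (e * x⁻¹ * e⁻¹) = ((e * x * e⁻¹) * x)⁻¹ := by group
          _ = 1 := by rw [hcomm hye hx.1, hx.2, inv_one]⟩ }
  have hK : wE 3 E ≤ K := commutator_le.2 fun a ha f hf => by
    have hm : ⁅a, f⁆ ∈ Wo 3 E := wE_le hb (commutator_mem_commutator ha hf)
    refine ⟨hm, ?_⟩
    have ha' : f * a⁻¹ * f⁻¹ ∈ Wo 3 E := conj_mem' (hWn hf) (inv_mem ha)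
    have hae : e * a * e⁻¹ ∈ Wo 3 E := conj_mem' (hWn he) ha
    calc ⁅a, f⁆ * (e * ⁅a, f⁆ * e⁻¹)
        = a * ((f * a⁻¹ * f⁻¹) * (e * a * e⁻¹)) * (e * (f * a⁻¹ * f⁻¹) * e⁻¹) := by
          simp only [commutatorElement_def]; group
      _ = a * ((e * a * e⁻¹) * (f * a⁻¹ * f⁻¹)) * (e * (f * a⁻¹ * f⁻¹) * e⁻¹) := by
          rw [hcomm ha' hae]
      _ = (a * (e * a * e⁻¹)) * ((f * a⁻¹ * f⁻¹) * (e * (f * a⁻¹ * f⁻¹) * e⁻¹)) := by group
      _ = (a * (e * a * e⁻¹)) * (a⁻¹ * (e * a⁻¹ * e⁻¹)) := by rw [hT f hf _ (inv_mem ha)]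
      _ = (a * (e * a * e⁻¹)) * ((e * a * e⁻¹) * a)⁻¹ := by group
      _ = 1 := by rw [hcomm hae ha, mul_inv_cancel]
  refine eq_bot_iff.2 fun z hz => ?_
  obtain ⟨hz1, hz2⟩ := mem_inf.1 hz
  have h := (hK hz1).2
  rw [(mem_inf.1 hz2).2 e he, mul_inv_cancel_right] at h
  have h3 : z ^ 3 = 1 := omega_pow 3 _ (mem_inf.1 hz2).1
  rw [mem_bot]
  calc z = z ^ 3 * (z * z)⁻¹ := by rw [pow_succ, pow_two]; group
    _ = 1 := by rw [h3, h, one_mul, inv_one]

theorem commutator_pCore_le_wE (hb : Blk 3 E) (hle : ⁅pCore 3 G, E⁆ ≤ Wo 3 E) :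
    ⁅pCore 3 G, E⁆ ≤ wE 3 E := by
  have hn : ∀ {x : G}, x ∈ normalizer (pCore 3 G : Set G) := fun {x} => by
    rw [Subgroup.normalizer_eq_top]; trivial
  have hcle : E ≤ E ⊓ cent (pCore 3 G) (wE 3 E) := by
    refine le_of_residual hb.res fun x hx hxo => ⟨hx, hn,
      le_normalizer_wE Subgroup.le_normalizer hx, fun r hr => ?_⟩
    have hw : ⁅x, r⁆ ∈ Wo 3 E := by
      rw [← commutatorElement_inv]; exact inv_mem (hle (commutator_mem_commutator hr hx))
    refine mem_of_stab hxo (le_normalizer_wE Subgroup.le_normalizer hx) ?_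
      (wo_le_normalizer E (wE_le hb) (wo_le E hw)) ⟨1, by rw [pow_one, omega_pow 3 _ hw]; exact one_mem _⟩
    rw [← commutatorElement_inv]
    exact inv_mem (commutator_mem_commutator hw hx)
  rw [commutator_comm]
  exact commutator_le_of_le_cent (hcle.trans inf_le_right)

/-- The exceptional case. -/
theorem exceptional (hG : centralizer (pCore 3 G : Set G) ≤ pCore 3 G)
    (h : IsBaumannBlock 3 (T : Subgroup G) E) (hne : Qo 3 E ≠ Wo 3 E) :
    centralizer (wE 3 E : Set G) ≤ normalizer (E : Set G) := by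
  have hb := blk_of_block hG h
  have hx := exc_of_block hG h hne
  set R := pCore 3 G with hR
  have hRn : ∀ g : G, g ∈ normalizer (R : Set G) := fun g => by
    rw [Subgroup.normalizer_eq_top]; trivial
  rcases irred_qo hb (⁅R, E⁆ ⊔ Wo 3 E) le_sup_right (sup_le hb.comR (wo_le E))
    (LocalBasics.le_normalizer_sup (le_sup_right.trans (BaumannBlockBasics.le_normalizer_commutator R E))
      hb.natW.norm) with hc | hc
  · exact BaumannBlockCharP.centralizer_le_normalizer_of_le hG h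
      (commutator_pCore_le_wE hb (le_sup_left.trans hc.le))
  have hVR : wE 3 E ≤ R := (BaumannBlockCharP.wE_le_pCore hG h).trans (omega_le 3 _)
  have hREle : ⁅R, E⁆ ≤ R := (Subgroup.le_normalizer_iff_commutator_le_left).1 fun g _ => hRn g
  have hWQn : Wo 3 E ≤ normalizer ((⁅R, E⁆ : Subgroup G) : Set G) :=
    LocalBasics.le_normalizer_of_conj fun w hw x hx => by
      rwa [show w * x = x * w from (wo_commute E hw (hb.comR hx)).symm, mul_inv_cancel_right]
  have hZR : Zo 3 E ≤ R := by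
    rw [← hx.comm]
    refine commutator_le.2 fun a ha b hb' => ?_
    have ha1 := hc.ge ha
    have hb1 := hc.ge hb'
    rw [← SetLike.mem_coe, Subgroup.coe_mul_of_right_le_normalizer_left _ _ hWQn] at ha1 hb1
    obtain ⟨a, ha0, w, hw, rfl⟩ := ha1
    obtain ⟨b, hb0, w', hw', rfl⟩ := hb1
    have c1 : Commute w b := (wo_commute E hw (hb.comR hb0)).symm
    have c2 : Commute w' a := (wo_commute E hw' (hb.comR ha0)).symm
    have c3 : Commute w w' := omega_comm 3 _ hw hw'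
    have e : ⁅a * w, b * w'⁆ = ⁅a, b⁆ := by
      calc ⁅a * w, b * w'⁆ = a * (w * (b * w') * w⁻¹) * a⁻¹ * (b * w')⁻¹ := by
            simp only [commutatorElement_def]; group
        _ = a * b * (w' * a⁻¹) * w'⁻¹ * b⁻¹ := by rw [(c1.mul_right c3).eq]; group
        _ = ⁅a, b⁆ := by rw [c2.inv_right.eq, commutatorElement_def]; group
    rw [e, commutatorElement_def]
    exact mul_mem (mul_mem (mul_mem (hREle ha0) (hREle hb0)) (inv_mem (hREle ha0))) (inv_mem (hREle hb0))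
  have hWR : Wo 3 E ≤ R := by
    rw [← BaumannSubnormal58.wE_sup hb]; exact sup_le hVR hZR
  have hQR : Qo 3 E ≤ R := hc.ge.trans (sup_le hREle hWR)
  rcases h.2.2.2.2 with ⟨F, _, _, n, hcard, -, ⟨-, hz1, ρ1, ψ1, hρ1, hsur1, hker1, hact1⟩, hQ⟩ |
    ⟨hp, -⟩
  swap; · exact absurd hp (by decide)
  obtain ⟨-, ⟨-, hz2, ρ2, ψ2, hρ2, hsur2, hker2, hact2⟩, hcomm, hfr, hZ, -, hquad⟩ :=
    hQ.resolve_left hne
  have h3 : (3 : F) = 0 := by
    have h0 : ((Fintype.card F : ℕ) : F) = 0 := Nat.cast_card_eq_zero F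
    rw [hcard, Nat.cast_pow] at h0
    simpa using eq_zero_of_pow_eq_zero h0
  have hVW : wE 3 E ≤ Wo 3 E := wE_le hb
  -- the trivial intersection `W_E ∩ Z`
  have hVZ : wE 3 E ⊓ Zo 3 E = ⊥ := by
    obtain ⟨g, hg, hgneg⟩ := exists_neg_one h3
    rw [← hρ1] at hg
    obtain ⟨e, rfl⟩ := hg
    refine wE_inf_cz hb e.2 fun w hw => ?_
    obtain ⟨w', hw', hval⟩ := hact1 e ⟨w, hw⟩
    have hv : Multiplicative.toAdd (ψ1 w') = -Multiplicative.toAdd (ψ1 ⟨w, hw⟩) := by
      rw [hval, ← mv_apply, hgneg, sc_apply, neg_one_smul]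
    have h1 : ψ1 (⟨w, hw⟩ * w') = 1 := by
      apply Multiplicative.toAdd.injective
      rw [map_mul, toAdd_mul, hv, toAdd_one]
      exact add_neg_cancel _
    have h2 := (hker1 _).1 h1
    rw [Subgroup.coe_mul, hw'] at h2
    exact h2
  let c1 : Chart F (wE 3 E) ⊥ :=
    { le := bot_le
      ψ := ψ1.comp (Subgroup.inclusion hVW)
      surj := fun m => by
        obtain ⟨⟨u, hu⟩, rfl⟩ := hsur1 m
        obtain ⟨a, ha, z, hz, rfl⟩ := exists_decomp hb hu
        refine ⟨⟨a, ha⟩, ?_⟩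
        show ψ1 ⟨a, hVW ha⟩ = _
        rw [show (⟨a * z, hu⟩ : ↥(Wo 3 E)) = ⟨a, hVW ha⟩ * ⟨z, (mem_inf.1 hz).1⟩ from rfl, map_mul,
          (hker1 ⟨z, (mem_inf.1 hz).1⟩).2 hz, mul_one]
      ker := fun u => by
        show ψ1 _ = 1 ↔ _
        rw [hker1, mem_bot]
        refine ⟨fun hu => ?_, fun hu => ?_⟩
        · have := mem_inf.2 ⟨u.2, (show (u : G) ∈ Zo 3 E from hu)⟩
          rwa [hVZ, mem_bot] at this
        · show (u : G) ∈ Zo 3 E
          rw [hu]; exact one_mem _ }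
  let c2 : Chart F (Qo 3 E) (Wo 3 E) := { le := hz2, ψ := ψ2, surj := hsur2, ker := hker2 }
  have hn1 : ∀ e : ↥E, (e : G) ∈ c1.Nm := fun e =>
    ⟨le_normalizer_wE Subgroup.le_normalizer e.2, by rw [normalizer_eq_top]; trivial⟩
  have hn2 : ∀ e : ↥E, (e : G) ∈ c2.Nm := fun e =>
    ⟨LocalBasics.le_normalizer_pCoreOf 3 E e.2, hb.natW.norm e.2⟩
  have hact1' : ∀ e : ↥E, c1.act (e : G) = mv (ρ1 e) := act_of_action c1 ρ1 hn1 fun e u => by
    obtain ⟨w, hw, hval⟩ := hact1 e ⟨u, hVW u.2⟩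
    have hm : (e : G) * u * (e : G)⁻¹ ∈ wE 3 E :=
      conj_mem' (le_normalizer_wE Subgroup.le_normalizer e.2) u.2
    refine ⟨⟨_, hm⟩, rfl, ?_⟩
    show Multiplicative.toAdd (ψ1 ⟨_, hVW hm⟩) = _
    rw [show (⟨_, hVW hm⟩ : ↥(Wo 3 E)) = w from Subtype.ext hw.symm]
    exact hval
  have hact2' : ∀ e : ↥E, c2.act (e : G) = mv (ρ2 e) := act_of_action c2 ρ2 hn2 hact2
  set B := baumannSubgroupOf 3 (T : Subgroup G) with hB
  obtain ⟨A, hA, hAV⟩ : ∃ A, Offenders.IsMaxIn 3 (T : Subgroup G) A ∧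
      ¬ A ≤ centralizer (wE 3 E : Set G) := by
    by_contra hcon
    push Not at hcon
    apply BaumannBlockCharP.commutator_thompson_ne_bot hG h
    rw [commutator_comm, commutator_eq_bot_iff_le_centralizer, Offenders.thompsonOf_eq]
    exact sSup_le hcon
  set J := thompsonSubgroupOf 3 (T : Subgroup G) with hJ
  set Y := omegaOne 3 (centerThompsonOf 3 (T : Subgroup G)) with hY
  have hZcomm : ∀ x ∈ centerThompsonOf 3 (T : Subgroup G), ∀ y ∈ centerThompsonOf 3 (T : Subgroup G),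
      x * y = y * x := fun x hx y hy => (mem_inf.1 hy).2 x (mem_inf.1 hx).1
  have hYT : Y ≤ (T : Subgroup G) :=
    (Offenders.omegaOne_le _).trans (inf_le_left.trans (Offenders.thompsonOf_le _))
  have hBT : B ≤ (T : Subgroup G) := BaumannBlockBasics.baumann_le 3 _
  have hsyl : ∀ P : Subgroup G, IsPGroup 3 ↥P → B ≤ P → ∃ T' : Sylow 3 G, P ≤ T' ∧
      baumannSubgroupOf 3 (T' : Subgroup G) = B ∧ thompsonSubgroupOf 3 (T' : Subgroup G) = J := by
    intro P hP hBP
    obtain ⟨T', hT'⟩ := hP.exists_le_sylow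
    exact ⟨T', hT', BaumannBlockBasics.baumann_eq_of_le T T' (hBP.trans hT'),
      thompson_eq T T' (hBP.trans hT')⟩
  let D : Data G F :=
    { E := E, B := B, A := A, Y := Y, R₀ := R, Q := Qo 3 E, W := Wo 3 E, Z := Zo 3 E, V := wE 3 E
      c1 := c1, c2 := c2, h3 := h3
      res := by rw [← BaumannBlockBasics.pResidualOf_eq_closure]; exact h.1
      Bp := T.isPGroup'.to_le hBT
      BE := block_le_normalizer h
      invn := fun P hP hEP hBP => BaumannBlockCharP.le_normalizer h hP hBP hEP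
      QE := qo_le E
      Qp := qo_pGroup E
      QMax := fun P hP hPE hEP => LocalBasics.le_pCoreOf hPE hEP hP
      NQ := LocalLarge57.le_normalizer_pCoreOf_of_le_normalizer le_rfl
      NW := le_normalizer_omega le_rfl
      NV := le_normalizer_wE le_rfl
      NZ := LocalBasics.le_normalizer_inf (le_normalizer_omega le_rfl)
        (LocalBasics.le_normalizer_centralizer le_rfl)
      WQ := wo_le E
      ZW := inf_le_left
      VW := hVW
      Wcent := fun w hw q hq => wo_commute E hw hq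
      Zcent := fun ζ hζ e he => (mem_inf.1 hζ).2 e he
      comm := hcomm
      pow3 := fun q hq => by
        have h1 := PGroupsBasic.pow_mem_frattini (qo_pGroup (p := 3) E) ⟨q, hq⟩
        exact hfr.le ⟨_, h1, rfl⟩
      Wsup := fun w hw => exists_decomp hb hw
      VZ := hVZ
      Zne := hx.zne
      r1 := fun e he => ⟨ρ1 ⟨e, he⟩, hρ1 ▸ ⟨_, rfl⟩, hact1' ⟨e, he⟩⟩
      r1' := fun r hr => by
        rw [← hρ1] at hr
        obtain ⟨e, rfl⟩ := hr
        exact ⟨e, e.2, hact1' e⟩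
      r2 := fun e he => ⟨ρ2 ⟨e, he⟩, hρ2 ▸ ⟨_, rfl⟩, hact2' ⟨e, he⟩⟩
      r2' := fun r hr => by
        rw [← hρ2] at hr
        obtain ⟨e, rfl⟩ := hr
        exact ⟨e, e.2, hact2' e⟩
      ker1 := fun e he h1 => BaumannSubnormal58.mem_core_of_centralizes hb he fun v hv => by
        exact commutatorElement_eq_one_iff_mul_comm.1
          (mem_bot.1 (((c1.act_eq_one_iff (hn1 ⟨e, he⟩)).1 h1).2.2 v hv))
      ker2 := fun e he h2 => hx.natU.ker e he ((c2.act_eq_one_iff (hn2 ⟨e, he⟩)).1 h2).2.2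
      Amax := Offenders.maxIn_sylow hA
      AB := le_trans (by rw [Offenders.thompsonOf_eq]; exact le_sSup hA)
        (BaumannBlockBasics.thompson_le_baumann 3 _)
      AV := hAV
      hquad := fun b hb' hbW => by
        have := hquad b hb' hbW
        rwa [hZ] at this
      Yexp := ((Offenders.ea_iff _).1 (Offenders.omegaOne_ea hZcomm)).2
      YB := le_inf hYT fun y hy x hx => hZcomm x (Offenders.omegaOne_le _ hx) y (Offenders.omegaOne_le _ hy)
      YJ := fun A' _ hA' a ha y hy => ((mem_inf.1 (hA' ha)).2 y hy).symm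
      maxB := fun P hP hBP A' hA' hA'P => by
        obtain ⟨T', hT', hB', hJ'⟩ := hsyl P hP hBP
        rw [← hB']
        refine le_trans ?_ (BaumannBlockBasics.thompson_le_baumann 3 _)
        rw [Offenders.thompsonOf_eq]
        exact le_sSup (Offenders.max_maxIn hA' (hA'P.trans hT'))
      centYB := fun P hP hBP => by
        obtain ⟨T', hT', hB', hJ'⟩ := hsyl P hP hBP
        rw [← hB', baumannSubgroupOf, centerThompsonOf, hJ']
        exact inf_le_inf_right _ hT'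
      R₀p := HallCore.isPGroup_pCore 3 G
      R₀n := hRn
      R₀cent := hG
      QR₀ := hQR
      R₀E := BaumannBlockCharP.pCore_le_normalizer h
      R₀V := Subgroup.le_centralizer_iff.1 (BaumannBlockCharP.wE_le_centralizer h) }
  let X : Ctx D :=
    { H := centralizer (D.V : Set G) ⊔ (D.E ⊔ D.B)
      EH := le_sup_of_le_right le_sup_left
      BH := le_sup_of_le_right le_sup_right
      R₀H := le_sup_of_le_left D.R₀V
      HC := le_rfl }
  have hle : centralizer (wE 3 E : Set G) ≤ X.CV := le_inf le_sup_left le_rfl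
  exact hle.trans X.CV_norm

theorem centralizer_wE_le_normalizer {p : ℕ} [Fact p.Prime] {T : Sylow p G}
    (hG : centralizer (pCore p G : Set G) ≤ pCore p G) (h : IsBaumannBlock p (T : Subgroup G) E) :
    centralizer (wE p E : Set G) ≤ normalizer (E : Set G) := by
  by_cases hne : Qo p E = Wo p E
  · refine BaumannBlockCharP.centralizer_le_normalizer_of_le hG h ?_
    exact (BaumannBlockCharP.commutator_pCore_le h).trans (eq_wE_of_ordinary (blk_of_block hG h) hne).le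
  · obtain rfl := (exc_of_block hG h hne).three
    exact exceptional hG h hne

end Cfsg.Agent.Block39
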