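import Cfsg.Prelude.Def_BrauerPairs
import Cfsg.Agent.Lib.BlockTheoryInduced
import Cfsg.Agent.Lib.BlockPrincipal81

/-!
Characters on the section of a `p`-element: block parts and the orthogonality relations of a
subsection.
-/

set_option autoImplicit false

namespace Cfsg.Agent.BlockContribSection

open Cfsg Cfsg.Agent.BlockTheoryLocalRing Cfsg.Agent.BlockTheoryCentre Cfsg.Agent.BlockTheoryIdem
open Cfsg.Agent.CharBasic
open scoped ComplexConjugate

attribute [local instance] Classical.propDecidable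

variable {p : ℕ} {M : Ideal AlgInt} {G : Type*} [Group G] [Fintype G] {u : G} {H : Subgroup G}
  [Fintype H]

/-- The kernel of a set of characters. -/
noncomputable def kern (b : Set (IrrCharacter H)) (s c : H) : ℂ :=
  ∑ ψ : IrrCharacter H, if ψ ∈ b then (ψ : H → ℂ) s * conj ((ψ : H → ℂ) c) else 0

/-- The part in `b` of the function `c ↦ χ (u c)`. -/
noncomputable def part (u : G) (b : Set (IrrCharacter H)) (χ : G → ℂ) (s : H) : ℂ :=
  (Nat.card H : ℂ)⁻¹ * ∑ c : H, χ (u * c) * kern b s c

theorem part_eq_sum (b : Set (IrrCharacter H)) (χ : G → ℂ) (s : H) :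
    part u b χ s = ∑ ψ : IrrCharacter H,
      if ψ ∈ b then classInner (fun c : H => χ (u * c)) (ψ : H → ℂ) * (ψ : H → ℂ) s else 0 := by
  simp only [part, kern, classInner, Finset.mul_sum]
  rw [Finset.sum_comm]
  refine Finset.sum_congr rfl fun ψ _ => ?_
  split_ifs
  · rw [Finset.sum_mul]
    exact Finset.sum_congr rfl fun c _ => by ring
  · simp

theorem blockPart_eq_part (b : Set (IrrCharacter H)) (χ : G → ℂ) (s : H) :
    blockPart b (fun c : H => χ (u * c)) s = part u b χ s := by
  rw [part_eq_sum, blockPart]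
  simp only [BlockTheoryIdem.finsum_mem_eq_sum]
  congr!

variable (hH : ∀ g, g ∈ H ↔ Commute u g)
include hH

omit [Fintype G] [Fintype H] in
theorem u_mem : u ∈ H := (hH u).2 (Commute.refl u)

omit [Fintype G] [Fintype H] in
theorem centralizer_eq : Subgroup.centralizer ({u} : Set G) = H := by
  ext g
  rw [Subgroup.mem_centralizer_singleton_iff, hH]
  exact ⟨fun h => h.symm, fun h => h.eq.symm⟩

omit [Fintype G] [Fintype H] in
theorem isClassFunction_section {χ : G → ℂ} (hχ : IsClassFunction G χ) :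
    IsClassFunction H (fun c : H => χ (u * c)) := by
  intro a c
  have hc := ((hH c).1 c.2).eq
  have e : u * ((c * a * c⁻¹ : H) : G) = (c : G) * (u * (a : G)) * (c : G)⁻¹ := by
    simp only [Subgroup.coe_mul, Subgroup.coe_inv, ← mul_assoc, hc]
  simp only [e]
  exact hχ _ _

/-- Every block of the centraliser induces a block. -/
theorem exists_induced (hM : IsPModular p M) (hu : ∃ k, orderOf u = p ^ k)
    {b : Set (IrrCharacter H)} (hb : IsPBlock M b) :
    ∃ B : Set (IrrCharacter G), IsInducedBlock M H b B := by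
  haveI : Fact p.Prime := ⟨hM.1⟩
  obtain ⟨k, hk⟩ := hu
  have hP : IsPGroup p (Subgroup.zpowers u) :=
    IsPGroup.of_card (n := k) (by rw [Nat.card_zpowers, hk])
  have hle : Subgroup.zpowers u ≤ H := Subgroup.zpowers_le.mpr (u_mem hH)
  have hc : Subgroup.centralizer (Subgroup.zpowers u : Set G) = H := by
    rw [Subgroup.zpowers_eq_closure, Subgroup.centralizer_closure, centralizer_eq hH]
  exact BlockTheoryInduced.inducedBlockDefined H hM hP hle hc.le
    (hc ▸ Subgroup.centralizer_le_normalizer _) hb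

/-- The second main theorem: the part of `χ` in a block inducing another block vanishes. -/
theorem part_eq_zero (hM : IsPModular p M) (hu : ∃ k, orderOf u = p ^ k)
    {b : Set (IrrCharacter H)} {B : Set (IrrCharacter G)} (hind : IsInducedBlock M H b B)
    {χ : IrrCharacter G} (hχ : χ ∉ B) {s : H} (hs : ¬ p ∣ orderOf s) :
    part u b (χ : G → ℂ) s = 0 := by
  have hcom : Commute u (s : G) := (hH s).1 s.2
  have hpp : IsPPart p (u * (s : G)) u :=
    ⟨(s : G), rfl, hcom, hu, (Subgroup.orderOf_coe s).symm ▸ hs⟩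
  have h0 := BlockTheoryInduced.second_main_sum H hM hind ⟨u * (s : G), mul_mem (u_mem hH) s.2⟩
    (fun z hz => by rw [pPart_unique hM.1 hz hpp, centralizer_eq hH]) χ hχ
  rw [part_eq_sum, ← BlockTheoryInduced.sum_blockCoeff_mul b
    (isClassFunction_section hH (irr_classFun χ))]
  refine Eq.trans (Finset.sum_congr rfl fun c _ => ?_) h0
  show _ * (χ : G → ℂ) _ = _ * (χ : G → ℂ) _
  rw [Subgroup.coe_mul, ← mul_assoc, ← mul_assoc, ((hH c).1 c.2).eq]

omit [Fintype G] [Fintype H] in
theorem isConj_section_iff [Finite G] (hp : p.Prime) (hu : ∃ k, orderOf u = p ^ k) {c c' : H}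
    (hc : ¬ p ∣ orderOf c) (hc' : ¬ p ∣ orderOf c') :
    IsConj (u * (c : G)) (u * (c' : G)) ↔ IsConj c c' := by
  constructor
  · intro h
    obtain ⟨x, hx⟩ := isConj_iff.1 h
    have h1 : IsPPart p (u * (c' : G)) (x * u * x⁻¹) := by
      refine ⟨x * c * x⁻¹, ?_, ((hH c).1 c.2).map (MulAut.conj x).toMonoidHom, ?_, ?_⟩
      · rw [← hx]; group
      · obtain ⟨k, hk⟩ := hu
        exact ⟨k, by rw [← hk]; exact MulEquiv.orderOf_eq (MulAut.conj x) u⟩
      · rw [show x * (c : G) * x⁻¹ = MulAut.conj x (c : G) from rfl, MulEquiv.orderOf_eq, Subgroup.orderOf_coe]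
        exact hc
    have hxu : x * u * x⁻¹ = u :=
      pPart_unique hp h1 ⟨(c' : G), rfl, (hH c').1 c'.2, hu, by rwa [Subgroup.orderOf_coe]⟩
    have hxH : x ∈ H := (hH x).2 (mul_inv_eq_iff_eq_mul.1 hxu).symm
    refine isConj_iff.2 ⟨⟨x, hxH⟩, Subtype.ext ?_⟩
    refine mul_left_cancel (a := u) (Eq.trans ?_ hx)
    show u * (x * c * x⁻¹) = _
    rw [← mul_assoc, ← mul_assoc, ((hH x).1 hxH).eq]
    group
  · intro h
    obtain ⟨x, rfl⟩ := isConj_iff.1 h
    refine isConj_iff.2 ⟨x, ?_⟩
    simp only [Subgroup.coe_mul, Subgroup.coe_inv, ← mul_assoc, ((hH x).1 x.2).eq]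

omit [Fintype G] [Fintype H] in
theorem card_centralizer_section [Finite G] (hp : p.Prime) (hu : ∃ k, orderOf u = p ^ k) {c : H}
    (hc : ¬ p ∣ orderOf c) :
    Nat.card (Subgroup.centralizer ({u * (c : G)} : Set G)) =
      Nat.card (Subgroup.centralizer ({c} : Set H)) := by
  have key : ∀ g : G, Commute g (u * (c : G)) → Commute u g := by
    intro g hg
    have h1 : IsPPart p (u * (c : G)) (g * u * g⁻¹) := by
      refine ⟨g * c * g⁻¹, ?_, ((hH c).1 c.2).map (MulAut.conj g).toMonoidHom, ?_, ?_⟩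
      · calc g * u * g⁻¹ * (g * c * g⁻¹) = g * (u * c) * g⁻¹ := by group
          _ = u * c := by rw [hg.eq]; group
      · obtain ⟨k, hk⟩ := hu
        exact ⟨k, by rw [← hk]; exact MulEquiv.orderOf_eq (MulAut.conj g) u⟩
      · rw [show g * (c : G) * g⁻¹ = MulAut.conj g (c : G) from rfl, MulEquiv.orderOf_eq, Subgroup.orderOf_coe]
        exact hc
    exact (mul_inv_eq_iff_eq_mul.1
      (pPart_unique hp h1 ⟨(c : G), rfl, (hH c).1 c.2, hu, by rwa [Subgroup.orderOf_coe]⟩)).symm
  refine Nat.card_congr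
    { toFun := fun g => ⟨⟨g, (hH _).2 (key g (Subgroup.mem_centralizer_singleton_iff.1 g.2))⟩, ?_⟩
      invFun := fun h => ⟨(h : H), ?_⟩
      left_inv := fun g => rfl
      right_inv := fun h => rfl }
  · have hg := Subgroup.mem_centralizer_singleton_iff.1 g.2
    have hug := key g hg
    refine Subgroup.mem_centralizer_singleton_iff.2 (Subtype.ext ?_)
    show (g : G) * c = c * g
    refine mul_left_cancel (a := u) ?_
    rw [← mul_assoc, hug.eq, mul_assoc, hg, mul_assoc]
  · have h1 := congrArg Subtype.val (Subgroup.mem_centralizer_singleton_iff.1 h.2)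
    refine Subgroup.mem_centralizer_singleton_iff.2 ?_
    show ((h : H) : G) * (u * c) = u * c * (h : H)
    rw [← mul_assoc, ← ((hH (h : H)).1 (h : H).2).eq, mul_assoc, mul_assoc]
    exact congrArg (u * ·) h1

/-- The orthogonality relation between the parts in two blocks. -/
theorem sum_part_mul (hM : IsPModular p M) (hu : ∃ k, orderOf u = p ^ k)
    {b b' : Set (IrrCharacter H)} (hb : IsPBlock M b) (hb' : IsPBlock M b') {s t : H}
    (hs : ¬ p ∣ orderOf s) (ht : ¬ p ∣ orderOf t) :
    ∑ χ : IrrCharacter G, part u b (χ : G → ℂ) s * conj (part u b' (χ : G → ℂ) t) =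
      ∑ ψ : IrrCharacter H,
        if ψ ∈ b ∧ ψ ∈ b' then (ψ : H → ℂ) s * conj ((ψ : H → ℂ) t) else 0 := by
  have hker : ∀ {e : Set (IrrCharacter H)}, IsPBlock M e → ∀ {r c : H}, ¬ p ∣ orderOf r →
      p ∣ orderOf c → kern e r c = 0 := fun he _ _ hr hc => weak_orthogonality hM he hr hc
  have hcol : ∀ c c' : H, kern b s c * conj (kern b' t c') *
        ∑ χ : IrrCharacter G, (χ : G → ℂ) (u * c) * conj ((χ : G → ℂ) (u * c')) =
      kern b s c * conj (kern b' t c') *
        ∑ ψ : IrrCharacter H, (ψ : H → ℂ) c * conj ((ψ : H → ℂ) c') := by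
    intro c c'
    by_cases hc : p ∣ orderOf c
    · rw [hker hb hs hc, zero_mul, zero_mul, zero_mul]
    by_cases hc' : p ∣ orderOf c'
    · rw [hker hb' ht hc', map_zero, mul_zero, zero_mul, zero_mul]
    congr 1
    rw [CharBasicOrth.sum_irr_mul_conj, CharBasicOrth.sum_irr_mul_conj,
      card_centralizer_section hH hM.1 hu hc]
    exact if_congr (isConj_section_iff hH hM.1 hu hc hc') rfl rfl
  have hproj : ∀ {e : Set (IrrCharacter H)} (ψ : IrrCharacter H) (r : H),
      (Nat.card H : ℂ)⁻¹ * ∑ c : H, (ψ : H → ℂ) c * kern e r c =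
        if ψ ∈ e then (ψ : H → ℂ) r else 0 := by
    intro e ψ r
    have h : (Nat.card H : ℂ)⁻¹ * ∑ c : H, (ψ : H → ℂ) c * kern e r c = ∑ φ : IrrCharacter H,
        if φ ∈ e then classInner (ψ : H → ℂ) (φ : H → ℂ) * (φ : H → ℂ) r else 0 := by
      simp only [kern, classInner, Finset.mul_sum]
      rw [Finset.sum_comm]
      refine Finset.sum_congr rfl fun φ _ => ?_
      split_ifs
      · rw [Finset.sum_mul]
        exact Finset.sum_congr rfl fun c _ => by ring
      · simp
    rw [h, Finset.sum_eq_single ψ]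
    · rw [CharBasicOrth.classInner_irr_self ψ.2, one_mul]
    · intro φ _ hne
      rw [CharBasicOrth.classInner_irr_ne ψ.2 φ.2 fun e => hne (Subtype.ext e).symm, zero_mul, ite_self]
    · simp
  calc ∑ χ : IrrCharacter G, part u b (χ : G → ℂ) s * conj (part u b' (χ : G → ℂ) t)
      = (Nat.card H : ℂ)⁻¹ * (Nat.card H : ℂ)⁻¹ * ∑ c : H, ∑ c' : H,
          kern b s c * conj (kern b' t c') *
            ∑ χ : IrrCharacter G, (χ : G → ℂ) (u * c) * conj ((χ : G → ℂ) (u * c')) := by
        simp only [part, map_mul, map_inv₀, map_natCast, map_sum, Finset.mul_sum, Finset.sum_mul]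
        rw [Finset.sum_comm]
        refine (Finset.sum_congr rfl fun c' _ => Finset.sum_comm).trans ?_
        rw [Finset.sum_comm]
        exact Finset.sum_congr rfl fun c _ => Finset.sum_congr rfl fun c' _ =>
          Finset.sum_congr rfl fun χ _ => by ring
    _ = (Nat.card H : ℂ)⁻¹ * (Nat.card H : ℂ)⁻¹ * ∑ c : H, ∑ c' : H,
          kern b s c * conj (kern b' t c') *
            ∑ ψ : IrrCharacter H, (ψ : H → ℂ) c * conj ((ψ : H → ℂ) c') := by
        simp only [hcol]
    _ = ∑ ψ : IrrCharacter H, ((Nat.card H : ℂ)⁻¹ * ∑ c : H, (ψ : H → ℂ) c * kern b s c) *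
          conj ((Nat.card H : ℂ)⁻¹ * ∑ c' : H, (ψ : H → ℂ) c' * kern b' t c') := by
        simp only [map_mul, map_inv₀, map_natCast, map_sum, Finset.mul_sum, Finset.sum_mul]
        symm
        rw [Finset.sum_comm]
        refine (Finset.sum_congr rfl fun c' _ => Finset.sum_comm).trans ?_
        rw [Finset.sum_comm]
        exact Finset.sum_congr rfl fun c _ => Finset.sum_congr rfl fun c' _ =>
          Finset.sum_congr rfl fun χ _ => by ring
    _ = _ := by
        refine Finset.sum_congr rfl fun ψ _ => ?_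
        rw [hproj, hproj]
        split_ifs <;> simp_all

/-- Orthogonality of a subsection inside the induced block. -/
theorem sum_part_mul_induced (hM : IsPModular p M) (hu : ∃ k, orderOf u = p ^ k)
    {b : Set (IrrCharacter H)} {B : Set (IrrCharacter G)} (hind : IsInducedBlock M H b B)
    {s t : H} (hs : ¬ p ∣ orderOf s) (ht : ¬ p ∣ orderOf t) :
    ∑ χ : IrrCharacter G,
        (if χ ∈ B then part u b (χ : G → ℂ) s * conj (part u b (χ : G → ℂ) t) else 0) =
      kern b s t := by
  have h := sum_part_mul hH hM hu hind.1 hind.1 hs ht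
  simp only [and_self] at h
  rw [kern, ← h]
  refine Finset.sum_congr rfl fun χ _ => ?_
  split_ifs with hχ
  · rfl
  · rw [part_eq_zero hH hM hu hind hχ hs, zero_mul]

/-- On `p`-regular elements the parts in all blocks add up to the character. -/
theorem sum_part (χ : IrrCharacter G) (s : H) :
    ∑ b ∈ (Finset.univ : Finset (IrrCharacter H)).image (fun ψ : IrrCharacter H => blockOf M (ψ : H → ℂ)),
      part u b (χ : G → ℂ) s =
    ∑ ψ : IrrCharacter H, ∑ b ∈ (Finset.univ : Finset (IrrCharacter H)).image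
      (fun φ : IrrCharacter H => blockOf M (φ : H → ℂ)),
      if ψ ∈ b then classInner (fun c : H => (χ : G → ℂ) (u * c)) (ψ : H → ℂ) * (ψ : H → ℂ) s
        else 0 := by
  simp only [part_eq_sum]
  rw [Finset.sum_comm]

/-- A character on the section of `u` is the sum of its parts in the blocks inducing its block. -/
theorem apply_eq_sum_part (hM : IsPModular p M) (hu : ∃ k, orderOf u = p ^ k)
    {B : Set (IrrCharacter G)} (hB : IsPBlock M B) (χ : IrrCharacter G) {s : H}
    (hs : ¬ p ∣ orderOf s) :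
    (if χ ∈ B then (χ : G → ℂ) (u * s) else 0) =
      ∑ b ∈ ((Finset.univ : Finset (IrrCharacter H)).image
          (fun ψ : IrrCharacter H => blockOf M (ψ : H → ℂ))).filter (fun b => IsInducedBlock M H b B),
        part u b (χ : G → ℂ) s := by
  set S := (Finset.univ : Finset (IrrCharacter H)).image (fun ψ : IrrCharacter H => blockOf M (ψ : H → ℂ))
  have hblk : ∀ b ∈ S, IsPBlock M b := fun b hb => by
    obtain ⟨ψ, -, rfl⟩ := Finset.mem_image.1 hb
    exact isPBlock_blockOf ψ
  by_cases hχ : χ ∈ B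
  · rw [if_pos hχ, Finset.sum_filter, Finset.sum_congr rfl (g := fun b => part u b (χ : G → ℂ) s)]
    · rw [sum_part hH χ s]
      have hcl := isClassFunction_section hH (irr_classFun χ)
      conv_lhs => rw [congrFun (CharBasicOrth.eq_sum_classInner hcl) s, Finset.sum_apply]
      refine Finset.sum_congr rfl fun ψ _ => ?_
      rw [Finset.sum_eq_single (blockOf M (ψ : H → ℂ))]
      · rw [if_pos (self_mem_blockOf hM ψ), Pi.smul_apply, smul_eq_mul]
      · intro b hb hne
        rw [if_neg fun hm => hne (block_eq_of_mem hM (hblk b hb) (isPBlock_blockOf ψ) hm (self_mem_blockOf hM ψ))]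
      · exact fun h => absurd (Finset.mem_image_of_mem _ (Finset.mem_univ ψ)) h
    · intro b hb
      split_ifs with h
      · rfl
      · obtain ⟨B', hB'⟩ := exists_induced hH hM hu (hblk b hb)
        refine (part_eq_zero hH hM hu hB' (fun h' => h ?_) hs).symm
        rwa [block_eq_of_mem hM hB hB'.2.1 hχ h']
  · rw [if_neg hχ]
    exact (Finset.sum_eq_zero fun b hb => part_eq_zero hH hM hu (Finset.mem_filter.1 hb).2 hχ hs).symm

/-- Column orthogonality of a block on a section. -/
theorem sum_block_section (hM : IsPModular p M) (hu : ∃ k, orderOf u = p ^ k)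
    {B : Set (IrrCharacter G)} (hB : IsPBlock M B) {s t : H}
    (hs : ¬ p ∣ orderOf s) (ht : ¬ p ∣ orderOf t) :
    ∑ χ : IrrCharacter G,
        (if χ ∈ B then (χ : G → ℂ) (u * s) * conj ((χ : G → ℂ) (u * t)) else 0) =
      ∑ ψ : IrrCharacter H, if IsInducedBlock M H (blockOf M (ψ : H → ℂ)) B then
        (ψ : H → ℂ) s * conj ((ψ : H → ℂ) t) else 0 := by
  set S := ((Finset.univ : Finset (IrrCharacter H)).image
    (fun ψ : IrrCharacter H => blockOf M (ψ : H → ℂ))).filter (fun b => IsInducedBlock M H b B) with hS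
  calc _ = ∑ χ : IrrCharacter G, (∑ b ∈ S, part u b (χ : G → ℂ) s) *
        conj (∑ b ∈ S, part u b (χ : G → ℂ) t) := by
        refine Finset.sum_congr rfl fun χ _ => ?_
        rw [← apply_eq_sum_part hH hM hu hB χ hs, ← apply_eq_sum_part hH hM hu hB χ ht]
        split_ifs <;> simp
    _ = ∑ b ∈ S, ∑ b' ∈ S, ∑ ψ : IrrCharacter H,
        if ψ ∈ b ∧ ψ ∈ b' then (ψ : H → ℂ) s * conj ((ψ : H → ℂ) t) else 0 := by
        simp only [map_sum, Finset.sum_mul_sum]
        rw [Finset.sum_comm]
        refine Finset.sum_congr rfl fun b hb => ?_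
        rw [Finset.sum_comm]
        refine Finset.sum_congr rfl fun b' hb' => ?_
        exact sum_part_mul hH hM hu (Finset.mem_filter.1 hb).2.1 (Finset.mem_filter.1 hb').2.1 hs ht
    _ = _ := by
        refine Eq.trans (Finset.sum_congr rfl fun b _ => Finset.sum_comm) ?_
        rw [Finset.sum_comm]
        refine Finset.sum_congr rfl fun ψ _ => ?_
        have hblk : ∀ b ∈ S, ψ ∈ b → b = blockOf M (ψ : H → ℂ) := fun b hb hm =>
          block_eq_of_mem hM (Finset.mem_filter.1 hb).2.1 (isPBlock_blockOf ψ) hm (self_mem_blockOf hM ψ)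
        by_cases h : IsInducedBlock M H (blockOf M (ψ : H → ℂ)) B
        · have hmem : blockOf M (ψ : H → ℂ) ∈ S :=
            Finset.mem_filter.2 ⟨Finset.mem_image_of_mem _ (Finset.mem_univ ψ), h⟩
          rw [if_pos h, Finset.sum_eq_single (blockOf M (ψ : H → ℂ)), Finset.sum_eq_single (blockOf M (ψ : H → ℂ))]
          · rw [if_pos ⟨self_mem_blockOf hM ψ, self_mem_blockOf hM ψ⟩]
          · intro b' hb' hne
            rw [if_neg fun hh => hne (hblk b' hb' hh.2)]
          · exact fun hn => absurd hmem hn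
          · intro b hb hne
            exact Finset.sum_eq_zero fun b' _ => if_neg fun hh => hne (hblk b hb hh.1)
          · exact fun hn => absurd hmem hn
        · rw [if_neg h]
          refine Finset.sum_eq_zero fun b hb => Finset.sum_eq_zero fun b' _ => if_neg fun hh => h ?_
          exact (hblk b hb hh.1) ▸ (Finset.mem_filter.1 hb).2

end Cfsg.Agent.BlockContribSection
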