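import Cfsg.Agent.Lib.FusionSysSaturated

/-!
The fusion system of a finite group on a Sylow subgroup is saturated; fully normalized and fully
centralized subgroups are detected by Sylow subgroups of normalizers and centralizers.
-/

set_option autoImplicit false

namespace Cfsg.Agent.FusionSysGroup

open Cfsg Cfsg.FusionSystem Cfsg.Agent.FusionSysBasic Cfsg.Agent.FusionSysSaturated

variable {G : Type*} [Group G]

theorem mor_group_iff {S P : Subgroup G} {f : G → G} :
    Mor (groupFusionSystem S) P f ↔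
      P ≤ S ∧ ∃ g : G, (∀ x ∈ P, f x = cj g x) ∧ ∀ x ∈ P, cj g x ∈ S := by
  constructor
  · rintro ⟨φ, ⟨hP, hφS, g, hg⟩, he⟩
    exact ⟨hP, g, fun x hx => (he ⟨x, hx⟩).symm.trans (hg ⟨x, hx⟩),
      fun x hx => (congrArg (· ∈ S) (hg ⟨x, hx⟩)).mp (hφS ⟨x, hx⟩)⟩
  · rintro ⟨hP, g, hf, hS⟩
    exact ⟨conjHom P g, ⟨hP, fun x => hS x x.2, g, fun _ => rfl⟩, fun x => (hf x x.2).symm⟩

theorem isConj_group_iff {S P Q : Subgroup G} :
    (groupFusionSystem S).IsConj P Q ↔ P ≤ S ∧ Q ≤ S ∧ ∃ g : G, im P (cj g) = Q := by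
  rw [FusionSysBasic.isConj_iff]
  constructor
  · rintro ⟨f, hf, rfl⟩
    obtain ⟨hP, g, hg, -⟩ := mor_group_iff.mp hf
    exact ⟨hP, hf.im_le, g, (im_congr hg).symm⟩
  · rintro ⟨hP, hQ, g, rfl⟩
    exact ⟨cj g, mor_group_iff.mpr ⟨hP, g, fun _ _ => rfl, fun x hx => hQ (apply_mem_im hx)⟩, rfl⟩

theorem mem_autGroup_group {S P : Subgroup G} (hP : P ≤ S) {α : MulAut P} :
    α ∈ (groupFusionSystem S).autGroup P ↔ α ∈ autInducedBy (⊤ : Subgroup G) P := by
  rw [mem_autGroup hP, mor_group_iff, mem_autInducedBy]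
  constructor
  · rintro ⟨-, g, hg, -⟩
    refine ⟨g, Subgroup.mem_top g, ?_, hg⟩
    rw [mem_normalizer_iff_im_cj, ← im_congr hg, im_afun]
  · rintro ⟨g, -, hn, hg⟩
    exact ⟨hP, g, hg, fun x hx => hP (cj_mem_of_normalizer hn hx)⟩

theorem autGroup_group {S P : Subgroup G} (hP : P ≤ S) :
    (groupFusionSystem S).autGroup P = autInducedBy (⊤ : Subgroup G) P := by
  ext α; exact mem_autGroup_group hP

/-! ### Sylow subgroups of normalizers and centralizers -/

theorem nIn_le {S P : Subgroup G} : normalizerIn S P ≤ Subgroup.normalizer (P : Set G) :=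
  inf_le_right

theorem cIn_le {S P : Subgroup G} : centralizerIn S P ≤ Subgroup.centralizer (P : Set G) :=
  inf_le_right

theorem nIn_le_left {S P : Subgroup G} : normalizerIn S P ≤ S := inf_le_left

theorem cIn_le_left {S P : Subgroup G} : centralizerIn S P ≤ S := inf_le_left

variable [Finite G] {p : ℕ} [Fact p.Prime]

theorem card_le_pow_factorization {R A : Subgroup G} (hR : IsPGroup p R) (hRA : R ≤ A) :
    Nat.card R ≤ p ^ (Nat.card A).factorization p := by
  obtain ⟨n, hn⟩ := IsPGroup.iff_card.mp hR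
  rw [hn]
  refine Nat.pow_le_pow_right (Fact.out (p := p.Prime)).pos ?_
  exact ((Fact.out (p := p.Prime)).pow_dvd_iff_le_factorization Nat.card_pos.ne').mp
    (hn ▸ Subgroup.card_dvd_of_le hRA)

theorem card_im_cj (P : Subgroup G) (g : G) : Nat.card (im P (cj g)) = Nat.card P := by
  rw [im_cj]
  exact Nat.card_congr
    (Subgroup.equivMapOfInjective P _ (MulAut.conj g).injective).toEquiv.symm

theorem normalizer_im_cj (P : Subgroup G) (g : G) :
    Subgroup.normalizer ((im P (cj g) : Subgroup G) : Set G) =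
      im (Subgroup.normalizer (P : Set G)) (cj g) := by
  ext n
  have e : cj g⁻¹ n = g⁻¹ * n * g := by simp [cj_apply]
  rw [mem_im_cj, mem_normalizer_iff_im_cj, mem_normalizer_iff_im_cj, im_im_cj, e]
  constructor
  · intro h
    have := congrArg (fun X => im X (cj g⁻¹)) h
    simp only [im_im_cj, inv_mul_cancel] at this
    rw [mul_assoc, this, im_congr (fun x _ => cj_one x), im_id]
  · intro h
    have := congrArg (fun X => im X (cj g)) h
    simp only [im_im_cj] at this
    rwa [show g * (g⁻¹ * n * g) = n * g by group] at this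

theorem centralizer_im_cj (P : Subgroup G) (g : G) :
    Subgroup.centralizer ((im P (cj g) : Subgroup G) : Set G) =
      im (Subgroup.centralizer (P : Set G)) (cj g) := by
  ext n
  rw [mem_im_cj, Subgroup.mem_centralizer_iff, Subgroup.mem_centralizer_iff]
  constructor
  · intro h x hx
    have := h (cj g x) (apply_mem_im hx)
    have e := congrArg (cj g⁻¹) this
    simp only [cj_apply] at e ⊢
    simpa [mul_assoc] using e
  · intro h y hy
    have := congrArg (cj g) (h (cj g⁻¹ y) (mem_im_cj.mp hy))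
    simp only [cj_apply] at this ⊢
    simpa [mul_assoc] using this

/-- A `p`-subgroup goes into a given Sylow subgroup under conjugation. -/
theorem exists_cj_le (S : Sylow p G) {T : Subgroup G} (hT : IsPGroup p T) :
    ∃ g : G, ∀ t ∈ T, cj g t ∈ (S : Subgroup G) := by
  obtain ⟨Q, hQ⟩ := hT.exists_le_sylow
  obtain ⟨g, hg⟩ := MulAction.exists_smul_eq G Q S
  refine ⟨g, fun t ht => ?_⟩
  have : cj g t ∈ ((g • Q : Sylow p G) : Subgroup G) :=
    Subgroup.mem_map.mpr ⟨t, hQ ht, by simp [MulDistribMulAction.toMonoidEnd_apply, cj_apply]⟩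
  rwa [hg] at this

/-- If `T` is the `p`-part of `A` and conjugates into `S`, then a conjugate of `P` has its part
inside `S` Sylow. -/
theorem exists_conj_sylIn_normalizer (S : Sylow p G) {P : Subgroup G}
    (hP : P ≤ (S : Subgroup G)) :
    ∃ g : G, im P (cj g) ≤ (S : Subgroup G) ∧
      SylIn p (normalizerIn (S : Subgroup G) (im P (cj g)))
        (Subgroup.normalizer ((im P (cj g) : Subgroup G) : Set G)) := by
  set A := Subgroup.normalizer (P : Set G)
  obtain ⟨T, hPT⟩ := ((S.2.to_le hP).of_equiv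
    (Subgroup.subgroupOfEquivOfLe (Subgroup.le_normalizer (H := P))).symm).exists_le_sylow
  set T' := (T : Subgroup A).map A.subtype
  have hT'A : T' ≤ A := Subgroup.map_subtype_le _
  obtain ⟨g, hg⟩ := exists_cj_le S (T.2.map A.subtype)
  have hle : ∀ x ∈ P, cj g x ∈ (S : Subgroup G) := fun x hx =>
    hg x ⟨⟨x, Subgroup.le_normalizer hx⟩, hPT hx, rfl⟩
  refine ⟨g, im_le_iff.mpr hle, ?_⟩
  refine (sylIn_iff_card nIn_le).mpr (le_antisymm
    (card_le_pow_factorization (S.2.to_le nIn_le_left) nIn_le) ?_)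
  rw [normalizer_im_cj, card_im_cj]
  calc p ^ (Nat.card A).factorization p = Nat.card (T : Subgroup A) := T.card_eq_multiplicity.symm
    _ = Nat.card T' := Nat.card_congr
          ((T : Subgroup A).equivMapOfInjective _ A.subtype_injective).toEquiv
    _ = Nat.card (im T' (cj g)) := (card_im_cj T' g).symm
    _ ≤ _ := Subgroup.card_le_of_le (le_inf (im_le_iff.mpr hg)
          (by rw [normalizer_im_cj]; exact im_mono hT'A))

theorem exists_conj_sylIn_centralizer (S : Sylow p G) {P : Subgroup G}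
    (hP : P ≤ (S : Subgroup G)) :
    ∃ g : G, im P (cj g) ≤ (S : Subgroup G) ∧
      SylIn p (centralizerIn (S : Subgroup G) (im P (cj g)))
        (Subgroup.centralizer ((im P (cj g) : Subgroup G) : Set G)) := by
  set A := Subgroup.centralizer (P : Set G)
  obtain ⟨T⟩ : Nonempty (Sylow p A) := inferInstance
  set T' := (T : Subgroup A).map A.subtype
  have hT'A : T' ≤ A := Subgroup.map_subtype_le _
  have hn : T' ≤ Subgroup.normalizer (P : Set G) :=
    hT'A.trans (Subgroup.centralizer_le_normalizer _)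
  obtain ⟨g, hg⟩ := exists_cj_le S
    ((T.2.map A.subtype).to_sup_of_normal_right' (S.2.to_le hP) hn)
  refine ⟨g, im_le_iff.mpr fun x hx => hg x (Subgroup.mem_sup_right hx), ?_⟩
  refine (sylIn_iff_card cIn_le).mpr (le_antisymm
    (card_le_pow_factorization (S.2.to_le cIn_le_left) cIn_le) ?_)
  rw [centralizer_im_cj, card_im_cj]
  calc p ^ (Nat.card A).factorization p = Nat.card (T : Subgroup A) := T.card_eq_multiplicity.symm
    _ = Nat.card T' := Nat.card_congr
          ((T : Subgroup A).equivMapOfInjective _ A.subtype_injective).toEquiv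
    _ = Nat.card (im T' (cj g)) := (card_im_cj T' g).symm
    _ ≤ _ := Subgroup.card_le_of_le (le_inf
          (im_le_iff.mpr fun t ht => hg t (Subgroup.mem_sup_left ht))
          (by rw [centralizer_im_cj]; exact im_mono hT'A))

theorem fullyNormalized_group_iff (S : Sylow p G) {P : Subgroup G}
    (hP : P ≤ (S : Subgroup G)) :
    (groupFusionSystem (S : Subgroup G)).IsFullyNormalized P ↔
      SylIn p (normalizerIn (S : Subgroup G) P) (Subgroup.normalizer (P : Set G)) := by
  constructor
  · intro h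
    obtain ⟨g, hg, hQ⟩ := exists_conj_sylIn_normalizer S hP
    refine (sylIn_iff_card nIn_le).mpr (le_antisymm
      (card_le_pow_factorization (S.2.to_le nIn_le_left) nIn_le) ?_)
    have := h.2 _ (isConj_group_iff.mpr ⟨hP, hg, g, rfl⟩)
    rwa [(sylIn_iff_card nIn_le).mp hQ, normalizer_im_cj, card_im_cj] at this
  · intro h
    refine ⟨hP, fun Q hQ => ?_⟩
    obtain ⟨-, -, g, rfl⟩ := isConj_group_iff.mp hQ
    rw [(sylIn_iff_card nIn_le).mp h, ← card_im_cj (Subgroup.normalizer (P : Set G)) g,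
      ← normalizer_im_cj]
    exact card_le_pow_factorization (S.2.to_le nIn_le_left) nIn_le

theorem fullyCentralized_group_iff (S : Sylow p G) {P : Subgroup G}
    (hP : P ≤ (S : Subgroup G)) :
    (groupFusionSystem (S : Subgroup G)).IsFullyCentralized P ↔
      SylIn p (centralizerIn (S : Subgroup G) P) (Subgroup.centralizer (P : Set G)) := by
  constructor
  · intro h
    obtain ⟨g, hg, hQ⟩ := exists_conj_sylIn_centralizer S hP
    refine (sylIn_iff_card cIn_le).mpr (le_antisymm
      (card_le_pow_factorization (S.2.to_le cIn_le_left) cIn_le) ?_)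
    have := h.2 _ (isConj_group_iff.mpr ⟨hP, hg, g, rfl⟩)
    rwa [(sylIn_iff_card cIn_le).mp hQ, centralizer_im_cj, card_im_cj] at this
  · intro h
    refine ⟨hP, fun Q hQ => ?_⟩
    obtain ⟨-, -, g, rfl⟩ := isConj_group_iff.mp hQ
    rw [(sylIn_iff_card cIn_le).mp h, ← card_im_cj (Subgroup.centralizer (P : Set G)) g,
      ← centralizer_im_cj]
    exact card_le_pow_factorization (S.2.to_le cIn_le_left) cIn_le

/-- If `N_S(Q)` is Sylow in `N_G(Q)`, then `Aut_S(Q)` and `C_S(Q)` are Sylow in `Aut_G(Q)` and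
`C_G(Q)`. -/
theorem sylIn_of_normalizer {S Q : Subgroup G} (hS : IsPGroup p S)
    (h : SylIn p (normalizerIn S Q) (Subgroup.normalizer (Q : Set G))) :
    SylIn p (centralizerIn S Q) (Subgroup.centralizer (Q : Set G)) ∧
      SylIn p (autInducedBy S Q) (autInducedBy (⊤ : Subgroup G) Q) := by
  have hN := (sylIn_iff_card nIn_le).mp h
  have hle : autInducedBy S Q ≤ autInducedBy (⊤ : Subgroup G) Q := autInducedBy_mono le_top Q
  obtain ⟨a, ha⟩ := IsPGroup.iff_card.mp (isPGroup_autInducedBy hS Q)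
  obtain ⟨c, hc⟩ := IsPGroup.iff_card.mp (hS.to_le (cIn_le_left : centralizerIn S Q ≤ S))
  have hp := (Fact.out (p := p.Prime))
  have e := card_normalizerIn S Q
  rw [hN, ha, hc, ← pow_add] at e
  replace e := Nat.pow_right_injective hp.two_le e
  have eG := card_normalizerIn (⊤ : Subgroup G) Q
  rw [show normalizerIn (⊤ : Subgroup G) Q = Subgroup.normalizer (Q : Set G) from top_inf_eq _,
    show centralizerIn (⊤ : Subgroup G) Q = Subgroup.centralizer (Q : Set G) from top_inf_eq _]
    at eG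
  rw [eG, Nat.factorization_mul Nat.card_pos.ne' Nat.card_pos.ne', Finsupp.add_apply] at e
  have ha' : a ≤ (Nat.card (autInducedBy (⊤ : Subgroup G) Q)).factorization p :=
    (hp.pow_dvd_iff_le_factorization Nat.card_pos.ne').mp (ha ▸ Subgroup.card_dvd_of_le hle)
  have hc' : c ≤ (Nat.card (Subgroup.centralizer (Q : Set G))).factorization p :=
    (hp.pow_dvd_iff_le_factorization Nat.card_pos.ne').mp
      (hc ▸ Subgroup.card_dvd_of_le (cIn_le : centralizerIn S Q ≤ _))
  exact ⟨(sylIn_iff_card cIn_le).mpr (by rw [hc]; congr 1; omega),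
    (sylIn_iff_card hle).mpr (by rw [ha]; congr 1; omega)⟩

/-- The extension lemma in a group. -/
theorem exists_centralizer_conj {S Q : Subgroup G}
    (h : SylIn p (normalizerIn S Q) (Subgroup.normalizer (Q : Set G)))
    {M : Subgroup G} (hM : IsPGroup p M)
    (hMle : M ≤ normalizerIn S Q ⊔ Subgroup.centralizer (Q : Set G)) :
    ∃ c ∈ Subgroup.centralizer (Q : Set G), ∀ m ∈ M, cj c m ∈ S := by
  set H := normalizerIn S Q ⊔ Subgroup.centralizer (Q : Set G) with hH
  have hHN : H ≤ Subgroup.normalizer (Q : Set G) :=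
    sup_le nIn_le (Subgroup.centralizer_le_normalizer _)
  have hsyl : SylIn p (normalizerIn S Q) H := by
    have hp : IsPGroup p (normalizerIn S Q) := by
      obtain ⟨T, hT⟩ := h
      exact (hT ▸ T.2).of_equiv (Subgroup.subgroupOfEquivOfLe nIn_le)
    refine (sylIn_iff_card le_sup_left).mpr (le_antisymm
      (card_le_pow_factorization hp le_sup_left) ?_)
    rw [(sylIn_iff_card nIn_le).mp h]
    refine Nat.pow_le_pow_right (Fact.out (p := p.Prime)).pos ?_
    exact (Nat.factorization_le_iff_dvd Nat.card_pos.ne' Nat.card_pos.ne').mpr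
      (Subgroup.card_dvd_of_le hHN) p
  obtain ⟨a, haH, ha⟩ := sylIn_absorb hsyl hM hMle
  have hn : normalizerIn S Q ≤
      Subgroup.normalizer ((Subgroup.centralizer (Q : Set G) : Subgroup G) : Set G) :=
    nIn_le.trans (by
      intro n hn
      rw [mem_normalizer_iff_im_cj, ← centralizer_im_cj, mem_normalizer_iff_im_cj.mp hn])
  obtain ⟨s, hs, c, hc, rfl⟩ : ∃ s ∈ normalizerIn S Q, ∃ c ∈ Subgroup.centralizer (Q : Set G),
      s * c = a := by
    rw [← SetLike.mem_coe, hH, Subgroup.coe_mul_of_left_le_normalizer_right _ _ hn] at haH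
    exact Set.mem_mul.mp haH
  refine ⟨c, hc, fun m hm => ?_⟩
  have h1 : cj (s * c) m ∈ S := (ha m hm).1
  rw [← cj_cj] at h1
  have := cj_mem_S (S.inv_mem hs.1) h1
  rwa [cj_inv_cj] at this

theorem receptive_group {S Q : Subgroup G} (hS : IsPGroup p S) (hQS : Q ≤ S)
    (h : SylIn p (normalizerIn S Q) (Subgroup.normalizer (Q : Set G))) :
    (groupFusionSystem S).IsReceptive Q := by
  refine receptive_iff.mpr ⟨hQS, fun P f N hf him hNS hNn hN => ?_⟩
  obtain ⟨hP, g, hg, -⟩ := mor_group_iff.mp hf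
  have hMle : im N (cj g) ≤ normalizerIn S Q ⊔ Subgroup.centralizer (Q : Set G) := by
    refine im_le_iff.mpr fun n hn => ?_
    obtain ⟨k, hk, hke⟩ := hN n hn
    have hkQ : ∀ y ∈ Q, cj k y = cj (cj g n) y := by
      intro y hy
      obtain ⟨x, hx, rfl⟩ := hf.mem_im.mp (him.symm ▸ hy)
      rw [← hke x hx, hg _ (cj_mem_of_normalizer (hNn hn) hx), hg x hx]
      simp only [cj_apply]; group
    have hkn : k ∈ normalizerIn S Q := by
      refine ⟨hk, mem_normalizer_of_cj_le hQS fun y hy => ?_⟩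
      obtain ⟨x, hx, rfl⟩ := hf.mem_im.mp (him.symm ▸ hy)
      rw [← hke x hx, ← him]
      exact apply_mem_im (cj_mem_of_normalizer (hNn hn) hx)
    rw [show cj g n = k * (k⁻¹ * cj g n) from (mul_inv_cancel_left _ _).symm]
    refine mul_mem (Subgroup.mem_sup_left hkn) (Subgroup.mem_sup_right ?_)
    refine Subgroup.mem_centralizer_iff.mpr fun y hy => ?_
    have e : cj (k⁻¹ * cj g n) y = y := by rw [← cj_cj, ← hkQ y hy, cj_inv_cj]
    simp only [cj_apply] at e ⊢
    exact (mul_inv_eq_iff_eq_mul.mp e).symm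
  have hMp : IsPGroup p (im N (cj g)) := by
    rw [im_cj]
    exact (hS.to_le hNS).map _
  obtain ⟨c, hc, hcS⟩ := exists_centralizer_conj h hMp hMle
  have hag : ∀ x ∈ P, cj (c * g) x = f x := by
    intro x hx
    rw [← cj_cj, ← hg x hx]
    have hy : f x ∈ Q := him ▸ apply_mem_im hx
    rw [cj_apply, ← Subgroup.mem_centralizer_iff.mp hc _ hy, mul_inv_cancel_right]
  refine ⟨cj (c * g), mor_group_iff.mpr ⟨sup_le hP hNS, c * g, fun _ _ => rfl, ?_⟩, hag⟩
  have : P ⊔ N ≤ S.comap (MulAut.conj (c * g)).toMonoidHom := by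
    refine sup_le (fun x hx => ?_) fun n hn => ?_
    · show cj (c * g) x ∈ S
      rw [hag x hx]; exact hQS (him ▸ apply_mem_im hx)
    · show cj (c * g) n ∈ S
      rw [← cj_cj]; exact hcS _ (apply_mem_im hn)
  exact fun x hx => this hx

/-- The fusion system of a finite group on a Sylow subgroup is saturated. -/
theorem saturated_group (S : Sylow p G) :
    (groupFusionSystem (S : Subgroup G)).IsSaturated p := by
  intro P hP
  obtain ⟨g, hg, hQ⟩ := exists_conj_sylIn_normalizer S hP
  refine ⟨_, isConj_group_iff.mpr ⟨hP, hg, g, rfl⟩, ⟨hg, ?_⟩, receptive_group S.2 hg hQ⟩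
  rw [autGroup_group hg]
  exact (sylIn_of_normalizer S.2 hQ).2

end Cfsg.Agent.FusionSysGroup
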