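import Cfsg.Agent.Lib.BrauerPairs81Index
import Cfsg.Agent.Lib.FusionSysGroup
import Cfsg.Prelude.Def_BlockFusion

/-!
The fusion system of a block on a maximal Brauer pair.
-/

namespace Cfsg.Agent.BrauerPairs81Fusion

open Cfsg Cfsg.FusionSystem Cfsg.Agent.BlockTheoryLocalRing Cfsg.Agent.BlockTheoryCentre
open Cfsg.Agent.BlockTheoryIdem Cfsg.Agent.BlockTheoryBrauer Cfsg.Agent.BlockTheoryDefect
open Cfsg.Agent.BrauerPairs81Base Cfsg.Agent.BrauerPairs81Pairs Cfsg.Agent.BrauerPairs81Conj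
open Cfsg.Agent.BrauerPairs81Max Cfsg.Agent.BrauerPairs81Stab Cfsg.Agent.BrauerPairs81Local
open Cfsg.Agent.BrauerPairs81Index Cfsg.Agent.FusionSysBasic
open scoped ComplexConjugate Pointwise

attribute [local instance] Classical.propDecidable

set_option linter.unusedSectionVars false

variable {p : ℕ} [Fact p.Prime] {M : Ideal AlgInt} {G : Type*} [Group G] [Fintype G]
variable {top : BrauerPairIdx G}

/-- The element `g` carries the pair below `top` on `Q` to a pair below `top`. -/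
def Fus (p : ℕ) (M : Ideal AlgInt) (top : BrauerPairIdx G) (Q : Subgroup G) (g : G) : Prop :=
  ∃ a : BrauerPairIdx G, a.1 = Q ∧ PLE p M a top ∧ PLE p M (cP g a) top

theorem Fus.le {Q : Subgroup G} {g : G} (h : Fus p M top Q g) : Q ≤ top.1 := by
  obtain ⟨a, rfl, ha, -⟩ := h
  exact subgroup_le_of_subpairLE ha

theorem Fus.le' {Q : Subgroup G} {g : G} (h : Fus p M top Q g) : cjS g Q ≤ top.1 := by
  obtain ⟨a, rfl, -, ha⟩ := h
  exact subgroup_le_of_subpairLE ha

theorem fus_mk {a : BrauerPairIdx G} {g : G} (ha : PLE p M a top) (hga : PLE p M (cP g a) top) :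
    Fus p M top a.1 g := ⟨a, rfl, ha, hga⟩

theorem cP_top_of_mem {u : G} (hu : u ∈ top.1) : cP u top = top := by
  obtain ⟨P, e⟩ := top
  exact cP_self_of_mem e hu

theorem Fus.ple (hM : IsPModular p M) (htop : IsBrauerPair p M top.1 top.2) {g : G}
    {a : BrauerPairIdx G} (ha : PLE p M a top) (h : Fus p M top a.1 g) :
    PLE p M (cP g a) top := by
  obtain ⟨b, hb, hb1, hb2⟩ := h
  rwa [ple_unique hM htop ha hb1 hb.symm]

theorem fus_of_mem (hM : IsPModular p M) (htop : IsBrauerPair p M top.1 top.2) {Q : Subgroup G}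
    (hQ : Q ≤ top.1) {u : G} (hu : u ∈ top.1) : Fus p M top Q u := by
  obtain ⟨a, rfl, ha⟩ := ple_exists hM htop hQ
  exact fus_mk ha (cP_top_of_mem hu ▸ ple_cP u ha)

/-- A normalising element of the top subgroup fixes the pair below on a subgroup. -/
theorem cP_eq_self_of_normalizer (hM : IsPModular p M) (htop : IsBrauerPair p M top.1 top.2)
    {a : BrauerPairIdx G} (ha : PLE p M a top) {u : G} (hu : u ∈ top.1)
    (hn : u ∈ Subgroup.normalizer (a.1 : Set G)) : cP u a = a :=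
  ple_unique hM htop (cP_top_of_mem hu ▸ ple_cP u ha) ha (cjS_of_normalizer hn)

theorem Fus.trans (hM : IsPModular p M) (htop : IsBrauerPair p M top.1 top.2) {Q R : Subgroup G}
    {g k : G} (hg : Fus p M top Q g) (hk : Fus p M top R k) (hle : cjS g Q ≤ R) :
    Fus p M top Q (k * g) := by
  obtain ⟨a, rfl, ha, hga⟩ := hg
  obtain ⟨b, rfl, hb, hkb⟩ := hk
  refine fus_mk ha ?_
  rw [← cP_cP]
  exact (ple_cP k (ple_of_le hM htop hga hb hle)).trans hkb

theorem Fus.inv {Q : Subgroup G} {g : G} (h : Fus p M top Q g) : Fus p M top (cjS g Q) g⁻¹ := by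
  obtain ⟨a, rfl, ha, hga⟩ := h
  exact fus_mk hga (by rwa [cP_inv_cP])

theorem range_of_conj {Q : Subgroup G} {φ : Q →* G} {g : G}
    (hφ : ∀ u : Q, φ u = g * (u : G) * g⁻¹) : φ.range = cjS g Q := by
  ext y
  constructor
  · rintro ⟨x, rfl⟩
    exact ⟨x, x.2, (hφ x).symm⟩
  · rintro ⟨x, hx, rfl⟩
    exact ⟨⟨x, hx⟩, hφ ⟨x, hx⟩⟩

/-- The fusion system of the pairs below `top`. -/
noncomputable def blockSys (hM : IsPModular p M) (htop : IsBrauerPair p M top.1 top.2) :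
    FusionSystem top.1 where
  Hom Q := {φ | ∃ g : G, (∀ u : Q, φ u = g * (u : G) * g⁻¹) ∧ Fus p M top Q g}
  le_of_mem := by
    rintro Q φ ⟨g, hg, hf⟩
    exact ⟨hf.le, fun x => hf.le' ⟨x, x.2, (hg x).symm⟩⟩
  injective_of_mem := by
    rintro Q φ ⟨g, hg, -⟩ a b hab
    have h : g * (a : G) * g⁻¹ = g * (b : G) * g⁻¹ := ((hg a).symm.trans hab).trans (hg b)
    exact Subtype.ext (mul_left_cancel (mul_right_cancel h))
  conj_mem := by
    intro Q g hQ hg
    exact ⟨g, fun _ => rfl, fus_of_mem hM htop hQ hg⟩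
  comp_mem := by
    rintro Q R φ ψ ⟨g, hg, hfg⟩ ⟨k, hk, hfk⟩ h
    refine ⟨k * g, fun x => ?_, hfg.trans hM htop hfk ?_⟩
    · show ψ (φ.codRestrict R h x) = k * g * (x : G) * (k * g)⁻¹
      rw [hk]
      show k * φ x * k⁻¹ = _
      rw [hg, mul_inv_rev]
      simp only [mul_assoc]
    · rintro _ ⟨x, hx, rfl⟩
      have := h ⟨x, hx⟩
      rw [hg] at this
      exact this
  inv_mem := by
    rintro Q φ ⟨g, hg, hfg⟩
    refine ⟨conjHom φ.range g⁻¹, ⟨g⁻¹, fun _ => rfl, ?_⟩, fun x => ?_⟩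
    · rw [range_of_conj hg]; exact hfg.inv
    · show g⁻¹ * φ x * g⁻¹⁻¹ = x
      rw [hg, inv_inv]
      simp only [mul_assoc, inv_mul_cancel, mul_one, inv_mul_cancel_left]

variable {B : Set (IrrCharacter G)} {P : Subgroup G} {e : Set (IrrCharacter (Cen P))}

theorem isBlockFusionSystemOn_blockSys (hM : IsPModular p M)
    (hmax : IsMaximalBrauerPair p M B P e) :
    IsBlockFusionSystemOn p M B P e (blockSys (top := ⟨P, e⟩) hM hmax.1.1) := by
  refine ⟨hmax, fun Q φ => ⟨?_, ?_⟩⟩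
  · rintro ⟨g, hg, a, rfl, ha, hga⟩
    exact ⟨subgroup_le_of_subpairLE ha, g, hg, subgroup_le_of_subpairLE hga, a.2, ha, hga⟩
  · rintro ⟨-, g, hg, -, f, hf, hgf⟩
    exact ⟨g, hg, ⟨Q, f⟩, rfl, hf, hgf⟩

variable {F : FusionSystem P}

theorem hom_iff (hF : IsBlockFusionSystemOn p M B P e F) {Q : Subgroup G} {φ : Q →* G} :
    φ ∈ F.Hom Q ↔ ∃ g : G, (∀ u : Q, φ u = g * (u : G) * g⁻¹) ∧ Fus p M ⟨P, e⟩ Q g := by
  rw [hF.2]
  constructor
  · rintro ⟨-, g, hg, -, f, hf, hgf⟩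
    exact ⟨g, hg, ⟨Q, f⟩, rfl, hf, hgf⟩
  · rintro ⟨g, hg, a, rfl, ha, hga⟩
    exact ⟨subgroup_le_of_subpairLE ha, g, hg, subgroup_le_of_subpairLE hga, a.2, ha, hga⟩

theorem mor_iff (hF : IsBlockFusionSystemOn p M B P e F) {Q : Subgroup G} {f : G → G} :
    Mor F Q f ↔ ∃ g : G, (∀ x ∈ Q, f x = cj g x) ∧ Fus p M ⟨P, e⟩ Q g := by
  constructor
  · rintro ⟨φ, hφ, he⟩
    obtain ⟨g, hg, hf⟩ := (hom_iff hF).mp hφ
    exact ⟨g, fun x hx => (he ⟨x, hx⟩).symm.trans (hg ⟨x, hx⟩), hf⟩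
  · rintro ⟨g, hg, hf⟩
    exact ⟨conjHom Q g, (hom_iff hF).mpr ⟨g, fun _ => rfl, hf⟩, fun x => (hg x x.2).symm⟩

theorem isConj_iff_fus (hF : IsBlockFusionSystemOn p M B P e F) {Q R : Subgroup G} :
    F.IsConj Q R ↔ ∃ g : G, Fus p M ⟨P, e⟩ Q g ∧ cjS g Q = R := by
  constructor
  · rintro ⟨φ, hφ, rfl⟩
    obtain ⟨g, hg, hf⟩ := (hom_iff hF).mp hφ
    exact ⟨g, hf, (range_of_conj hg).symm⟩
  · rintro ⟨g, hf, rfl⟩
    exact ⟨conjHom Q g, (hom_iff hF).mpr ⟨g, fun _ => rfl, hf⟩, range_of_conj fun _ => rfl⟩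

/-- The stabiliser of a pair. -/
def stab (a : BrauerPairIdx G) : Subgroup G where
  carrier := {x | cP x a = a}
  one_mem' := cP_one a
  mul_mem' := fun {x y} (hx : cP x a = a) (hy : cP y a = a) =>
    show cP (x * y) a = a by rw [← cP_cP, hy, hx]
  inv_mem' := fun {x} (hx : cP x a = a) => show cP x⁻¹ a = a by
    conv_lhs => rw [← hx]
    rw [cP_inv_cP]

theorem mem_stab {a : BrauerPairIdx G} {x : G} : x ∈ stab a ↔ cP x a = a := Iff.rfl

theorem stab_le_normalizer (a : BrauerPairIdx G) : stab a ≤ Subgroup.normalizer (a.1 : Set G) :=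
  fun _ hx => (cP_eq_self_iff.mp hx).1

theorem le_stab (a : BrauerPairIdx G) : a.1 ≤ stab a := fun _ hu => cP_self_of_mem a.2 hu

theorem cen_le_stab (a : BrauerPairIdx G) : Cen a.1 ≤ stab a := fun _ hu => cP_self_of_cen a.2 hu

theorem stab_cP (x : G) (a : BrauerPairIdx G) : stab (cP x a) = cjS x (stab a) := by
  ext y
  rw [mem_stab, mem_cjS, mem_stab, cP_cP]
  constructor
  · intro h
    rw [mul_assoc, ← cP_cP, h, cP_inv_cP]
  · intro h
    have := congrArg (cP x) h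
    rw [cP_cP] at this
    simpa [mul_assoc] using this

theorem inf_stab_eq (hM : IsPModular p M) (htop : IsBrauerPair p M P e) {a : BrauerPairIdx G}
    (ha : PLE p M a ⟨P, e⟩) : P ⊓ stab a = P ⊓ Subgroup.normalizer (a.1 : Set G) :=
  le_antisymm (inf_le_inf_left _ (stab_le_normalizer a)) fun _ hu =>
    ⟨hu.1, cP_eq_self_of_normalizer (top := ⟨P, e⟩) hM htop ha hu.1 hu.2⟩

theorem cen_cjS (x : G) (Q : Subgroup G) : Cen (cjS x Q) = cjS x (Cen Q) := by
  ext y
  rw [mem_cjS, mem_cen_cjS x Q]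
  simp [mul_assoc]

theorem stab_block (hM : IsPModular p M) {a : BrauerPairIdx G} (ha : IsBrauerPair p M a.1 a.2) :
    ∃ F : Set (IrrCharacter (stab a)), IsPBlock M F ∧
      ∀ t : stab a, blockCoeff F t = (eb (Cen a.1) a.2).coeff t :=
  exists_block hM ha.1 ha.2 (cen_le_stab a) (le_stab a) (stab_le_normalizer a)
    (invBy_iff.mpr fun _ hu => (cP_eq_self_iff.mp hu).2)

/-- The part of the top subgroup in an intermediate group is a defect group exactly when it is
largest among the conjugate pairs below the top. -/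
theorem defect_iff_max (hM : IsPModular p M) (hmax : IsMaximalBrauerPair p M B P e) {Q : Subgroup G}
    {f : Set (IrrCharacter (Cen Q))} (hle : SubpairLE p M Q f P e) {H : Subgroup G}
    (hCH : Cen Q ≤ H) (hHN : H ≤ Subgroup.normalizer (Q : Set G))
    {F' : Set (IrrCharacter H)} (hF' : IsPBlock M F')
    (hFc : ∀ t : H, blockCoeff F' t = (eb (Cen Q) f).coeff t) :
    IsDefectGroup p M F' ((P ⊓ H).subgroupOf H) ↔
      ∀ x : G, PLE p M (cP x ⟨Q, f⟩) ⟨P, e⟩ →
        Nat.card (P ⊓ cjS x H : Subgroup G) ≤ Nat.card (P ⊓ H : Subgroup G) := by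
  have hQf := isBrauerPairOf_down hM hle hmax.1
  obtain ⟨D, hD⟩ := exists_defectGroup hM hF'
  have hcard : ∀ K : Subgroup G, Nat.card ((P ⊓ K).subgroupOf K) = Nat.card (P ⊓ K : Subgroup G) :=
    fun K => Nat.card_congr (Subgroup.subgroupOfEquivOfLe inf_le_right).toEquiv
  have hh : ∀ x y, y ∈ H ↔ x * y * x⁻¹ ∈ cjS x H := fun x y => by
    rw [mem_cjS]; simp [mul_assoc]
  have heq : ∀ D' : Subgroup H, IsDefectGroup p M F' D' → Nat.card D' = Nat.card D := fun D' hD' => by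
    obtain ⟨c, hc⟩ := defectGroup_conj hM hF' hD hD'
    rw [← hc, Subgroup.card_map_of_injective (MulAut.conj c).injective]
  constructor
  · intro hDP x hx
    have hC' : Cen (cjS x Q) ≤ cjS x H := by rw [cen_cjS]; exact cjS_mono hCH
    obtain ⟨D', hD', hle'⟩ := exists_defect_ge hM hmax.1.1 (subgroup_le_of_subpairLE hx) hx hC'
      (cjS_le_normalizer hHN) (isPBlock_push _ hF') (conj_block x (hh x) hFc)
    obtain ⟨c, hc⟩ := defectGroup_conj hM (isPBlock_push _ hF')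
      (isDefectGroup_push (conjEquiv x H (cjS x H) (hh x)) hDP) hD'
    rw [← hcard, ← hcard H]
    refine (Subgroup.card_le_of_le hle').trans (le_of_eq ?_)
    rw [← hc, Subgroup.card_map_of_injective (MulAut.conj c).injective,
      Subgroup.card_map_of_injective (conjEquiv x H (cjS x H) (hh x)).injective]
  · intro h
    obtain ⟨D', hD', hle'⟩ := exists_defect_ge hM hmax.1.1 (subgroup_le_of_subpairLE hle) hle hCH
      hHN hF' hFc
    obtain ⟨x, hx, hx'⟩ := exists_conj_defect_eq hM hmax hQf hCH hHN hFc hF'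
    have hDx := hx' (cjS x H) (hh x)
    obtain ⟨c, hc⟩ := defectGroup_conj hM (isPBlock_push _ hF')
      (isDefectGroup_push (conjEquiv x H (cjS x H) (hh x)) hD) hDx
    have e1 : Nat.card ((P ⊓ cjS x H).subgroupOf (cjS x H)) = Nat.card D := by
      rw [← hc, Subgroup.card_map_of_injective (MulAut.conj c).injective,
        Subgroup.card_map_of_injective (conjEquiv x H (cjS x H) (hh x)).injective]
    have := h x hx
    rw [← hcard, e1, ← hcard H, ← heq D' hD'] at this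
    rwa [Subgroup.eq_of_le_of_card_ge hle' this]

theorem fullyCentralized_iff (hM : IsPModular p M) (hF : IsBlockFusionSystemOn p M B P e F)
    {Q : Subgroup G} {f : Set (IrrCharacter (Cen Q))} (hle : SubpairLE p M Q f P e) :
    F.IsFullyCentralized Q ↔ IsDefectGroup p M f ((P ⊓ Cen Q).subgroupOf (Cen Q)) := by
  have hQf := isBrauerPairOf_down hM hle hF.1.1
  rw [defect_iff_max hM hF.1 hle le_rfl (Subgroup.centralizer_le_normalizer _) hQf.1.2
    fun t => (coeff_eb_coe _ f t).symm]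
  constructor
  · intro h x hx
    have := h.2 (cjS x Q) ((isConj_iff_fus hF).mpr ⟨x, fus_mk (a := ⟨Q, f⟩) hle hx, rfl⟩)
    rw [← cen_cjS]
    exact this
  · intro h
    refine ⟨subgroup_le_of_subpairLE hle, fun R hR => ?_⟩
    obtain ⟨g, hg, rfl⟩ := (isConj_iff_fus hF).mp hR
    have := h g (hg.ple (a := ⟨Q, f⟩) hM hF.1.1.1 hle)
    rw [← cen_cjS] at this
    exact this

theorem fullyNormalized_iff (hM : IsPModular p M) (hF : IsBlockFusionSystemOn p M B P e F)
    {a : BrauerPairIdx G} (ha : PLE p M a ⟨P, e⟩) {F' : Set (IrrCharacter (stab a))}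
    (hF' : IsPBlock M F') (hFc : ∀ t : stab a, blockCoeff F' t = (eb (Cen a.1) a.2).coeff t) :
    F.IsFullyNormalized a.1 ↔ IsDefectGroup p M F' ((P ⊓ stab a).subgroupOf (stab a)) := by
  rw [defect_iff_max hM hF.1 ha (cen_le_stab a) (stab_le_normalizer a) hF' hFc]
  constructor
  · intro h x hx
    have := h.2 (cjS x a.1) ((isConj_iff_fus hF).mpr ⟨x, fus_mk ha hx, rfl⟩)
    rw [← stab_cP, inf_stab_eq hM hF.1.1.1 ha, inf_stab_eq hM hF.1.1.1 hx]
    exact this
  · intro h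
    refine ⟨subgroup_le_of_subpairLE ha, fun R hR => ?_⟩
    obtain ⟨g, hg, rfl⟩ := (isConj_iff_fus hF).mp hR
    have hga := hg.ple hM hF.1.1.1 ha
    have := h g hga
    rw [← stab_cP, inf_stab_eq hM hF.1.1.1 ha, inf_stab_eq hM hF.1.1.1 hga] at this
    exact this

theorem centric_iff (hM : IsPModular p M) (hF : IsBlockFusionSystemOn p M B P e F)
    {Q : Subgroup G} {f : Set (IrrCharacter (Cen Q))} (hle : SubpairLE p M Q f P e) :
    F.IsCentric Q ↔ IsDefectGroup p M f ((Q ⊓ Cen Q).subgroupOf (Cen Q)) := by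
  have hQP := subgroup_le_of_subpairLE hle
  constructor
  · intro h
    have hfc : F.IsFullyCentralized Q := by
      refine ⟨hQP, fun R hR => ?_⟩
      obtain ⟨g, hg, rfl⟩ := (isConj_iff_fus hF).mp hR
      calc Nat.card (centralizerIn P (cjS g Q)) ≤ Nat.card (cjS g Q ⊓ Cen (cjS g Q) : Subgroup G) :=
            Subgroup.card_le_of_le (le_inf (h.2 _ hR) inf_le_right)
        _ = Nat.card (Q ⊓ Cen Q : Subgroup G) := by
            rw [cen_cjS, ← Subgroup.map_inf _ _ _ (MulAut.conj g).injective, card_cjS]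
        _ ≤ Nat.card (centralizerIn P Q) := Subgroup.card_le_of_le (inf_le_inf_right _ hQP)
    have hD := (fullyCentralized_iff hM hF hle).mp hfc
    have hZ : P ⊓ Cen Q = Q ⊓ Cen Q :=
      le_antisymm (le_inf (h.2 Q (FusionSysBasic.isConj_refl hQP)) inf_le_right)
        (inf_le_inf_right _ hQP)
    rwa [hZ] at hD
  · intro hD
    refine ⟨hQP, fun R hR => ?_⟩
    obtain ⟨g, hg, rfl⟩ := (isConj_iff_fus hF).mp hR
    have hga := hg.ple (a := ⟨Q, f⟩) hM hF.1.1.1 hle
    have hf := (isBrauerPairOf_down hM hle hF.1.1).1.2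
    obtain ⟨D', hD', hle'⟩ := exists_defect_ge hM hF.1.1.1 (subgroup_le_of_subpairLE hga) hga
      (le_refl (Cen (cjS g Q))) (Subgroup.centralizer_le_normalizer _)
      (isPBlock_conjBlock g hf) fun t => (coeff_eb_coe _ _ t).symm
    have hpush := isDefectGroup_push (cenEquiv g Q) hD
    rw [← conjBlock_eq] at hpush
    obtain ⟨c, hc⟩ := defectGroup_conj hM (isPBlock_conjBlock g hf) hpush hD'
    have hcard : Nat.card (P ⊓ Cen (cjS g Q) : Subgroup G) ≤
        Nat.card (cjS g Q ⊓ Cen (cjS g Q) : Subgroup G) := by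
      rw [cen_cjS, ← Subgroup.map_inf _ _ _ (MulAut.conj g).injective, card_cjS, ← cen_cjS,
        ← Nat.card_congr (Subgroup.subgroupOfEquivOfLe (inf_le_right : P ⊓ Cen (cjS g Q) ≤ _)).toEquiv,
        ← Nat.card_congr (Subgroup.subgroupOfEquivOfLe (inf_le_right : Q ⊓ Cen Q ≤ _)).toEquiv]
      refine (Subgroup.card_le_of_le hle').trans (le_of_eq ?_)
      rw [← hc, Subgroup.card_map_of_injective (MulAut.conj c).injective,
        Subgroup.card_map_of_injective (cenEquiv g Q).injective]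
    have he := Subgroup.eq_of_le_of_card_ge
      (inf_le_inf_right (Cen (cjS g Q)) (subgroup_le_of_subpairLE hga :)) hcard
    exact fun y hy => (he.symm ▸ hy : y ∈ cjS g Q ⊓ Cen (cjS g Q)).1

/-! ### Saturation -/

theorem card_defect_mono (hM : IsPModular p M) {Q H T : Subgroup G}
    {f : Set (IrrCharacter (Cen Q))} (hHT : H ≤ T)
    {F₁ : Set (IrrCharacter H)} (hF₁ : IsPBlock M F₁)
    (h₁ : ∀ t : H, blockCoeff F₁ t = (eb (Cen Q) f).coeff t)
    {F₂ : Set (IrrCharacter T)} (hF₂ : IsPBlock M F₂)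
    (h₂ : ∀ t : T, blockCoeff F₂ t = (eb (Cen Q) f).coeff t)
    {D₁ : Subgroup H} (hD₁ : IsDefectGroup p M F₁ D₁)
    {D₂ : Subgroup T} (hD₂ : IsDefectGroup p M F₂ D₂) : Nat.card D₁ ≤ Nat.card D₂ := by
  set D' := D₁.map (Subgroup.inclusion hHT) with hD'
  have hDp : IsPGroup p D' := (isPGroup_of_isDefectGroup hD₁).map _
  have hns : ¬ Small M (cut D' (idem F₂)) := by
    intro hs
    refine not_small_cut_defect hM hF₁ hD₁ fun x => ?_
    rw [coeff_cut]
    split_ifs with hx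
    swap
    · exact ideal_zero hM
    have hx' : Subgroup.inclusion hHT x ∈ Subgroup.centralizer (D' : Set T) := by
      refine Subgroup.mem_centralizer_iff.mpr ?_
      rintro _ ⟨u, hu, rfl⟩
      rw [← map_mul, ← map_mul, Subgroup.mem_centralizer_iff.mp hx u hu]
    have := hs (Subgroup.inclusion hHT x)
    rw [coeff_cut, if_pos hx', coeff_idem, h₂] at this
    rw [coeff_idem, h₁]
    exact this
  rw [Nat.card_congr (D₁.equivMapOfInjective _ (Subgroup.inclusion_injective hHT)).toEquiv]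
  exact card_le_of_conjLe ((not_small_cut_iff hM hF₂ hD₂ hDp).mp hns)

theorem receptive_of_fullyNormalized (hM : IsPModular p M)
    (hF : IsBlockFusionSystemOn p M B P e F) {Q : Subgroup G} (hn : F.IsFullyNormalized Q) :
    F.IsReceptive Q := by
  have htop := hF.1.1.1
  refine receptive_iff.mpr ⟨hn.1, fun R fm N hf him hNS hNn hN => ?_⟩
  obtain ⟨g, hg, a, rfl, ha, hga⟩ := (mor_iff hF).mp hf
  have hQ : cjS g a.1 = Q := by rw [← him, im_congr hg, im_cj]
  subst hQ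
  set q := cP g a with hq
  obtain ⟨F₂, hF₂, hF₂c⟩ := stab_block hM (isBrauerPair_of_subpairLE hga htop)
  have hT := (fullyNormalized_iff hM hF hga hF₂ hF₂c).mp hn
  set S := P ⊓ Subgroup.normalizer (q.1 : Set G) with hS
  set H := S ⊔ Cen q.1 with hH
  have hST : S ≤ stab q := (inf_stab_eq hM htop hga).ge.trans inf_le_right
  have hHT : H ≤ stab q := sup_le hST (cen_le_stab q)
  have hQS : q.1 ≤ S := le_inf hn.1 Subgroup.le_normalizer
  obtain ⟨F₁, hF₁, hF₁c⟩ := exists_block hM (htop.1.to_le hn.1)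
    (isBrauerPair_of_subpairLE hga htop).2 (le_sup_right : Cen q.1 ≤ H)
    (hQS.trans le_sup_left) (hHT.trans (stab_le_normalizer q))
    (invBy_iff.mpr fun _ hu => (cP_eq_self_iff.mp (hHT hu)).2)
  obtain ⟨D₁, hD₁⟩ := exists_defectGroup hM hF₁
  have hcard : Nat.card D₁ ≤ Nat.card S := by
    refine (card_defect_mono hM hHT hF₁ hF₁c hF₂ hF₂c hD₁ hT).trans (le_of_eq ?_)
    rw [Nat.card_congr (Subgroup.subgroupOfEquivOfLe inf_le_right).toEquiv,
      inf_stab_eq hM htop hga]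
  -- the pair on the extended source
  obtain ⟨b, hb1, hb⟩ := ple_exists (c := ⟨P, e⟩) hM htop (sup_le (subgroup_le_of_subpairLE ha :) hNS)
  have hbN : IsNormalSubpair p M a.1 a.2 b.1 b.2 := isNormalSubpair_of_le hM
    (isBrauerPair_of_subpairLE hb htop) (ple_of_le hM htop ha hb (hb1 ▸ le_sup_left))
    (hb1 ▸ sup_le Subgroup.le_normalizer hNn)
  have hgb := isNormalSubpair_conj g hbN
  have hMH : cjS g b.1 ≤ H := by
    refine Subgroup.map_le_iff_le_comap.mpr ?_
    rw [hb1]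
    refine sup_le (fun x hx => Subgroup.mem_sup_left (hQS ⟨x, hx, rfl⟩)) fun n hnn => ?_
    obtain ⟨k, hk, hke⟩ := hN n hnn
    have hkQ : ∀ y ∈ cjS g a.1, cj k y = cj (cj g n) y := by
      rintro _ ⟨x, hx, rfl⟩
      show cj k (cj g x) = _
      rw [← hg x hx, ← hke x hx, hg _ (cj_mem_of_normalizer (hNn hnn) hx)]
      show _ = cj (cj g n) (cj g x)
      simp only [cj_apply]; group
    have hkn : k ∈ S := by
      refine ⟨hk, mem_normalizer_of_cj_le hn.1 fun y hy => ?_⟩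
      rw [hkQ y hy]
      refine cj_mem_of_normalizer (cjS_le_normalizer (hNn) ?_) hy
      exact ⟨n, hnn, rfl⟩
    show cj g n ∈ H
    rw [show cj g n = k * (k⁻¹ * cj g n) from (mul_inv_cancel_left _ _).symm]
    refine mul_mem (Subgroup.mem_sup_left hkn) (Subgroup.mem_sup_right ?_)
    refine Subgroup.mem_centralizer_iff.mpr fun y hy => ?_
    have e' : cj (k⁻¹ * cj g n) y = y := by rw [← cj_cj, ← hkQ y hy, cj_inv_cj]
    simp only [cj_apply] at e' ⊢
    exact (mul_inv_eq_iff_eq_mul.mp e').symm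
  obtain ⟨g₀, hs₀⟩ := exists_subpair hM htop (inf_le_left : S ≤ P)
  have hnS : IsNormalSubpair p M q.1 q.2 S g₀ := isNormalSubpair_of_le hM
    (isBrauerPair_of_subpairLE hs₀ htop)
    (ple_of_le hM htop (b := ⟨S, g₀⟩) hga hs₀ hQS) inf_le_right
  have hs₀' : PLE p M ⟨S, g₀⟩ ⟨P, e⟩ := hs₀
  obtain ⟨c, hc, hcle⟩ := exists_conj_into hM le_sup_right (hHT.trans (stab_le_normalizer q)) hF₁
    hF₁c hD₁ le_sup_left hnS hcard hMH hgb
  have hcl : PLE p M (cP c (cP g b)) ⟨P, e⟩ := hcle.trans hs₀'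
  obtain ⟨s, hs, c₀, hc₀, rfl⟩ : ∃ s ∈ S, ∃ c₀ ∈ Cen q.1, s * c₀ = c := by
    have hn' : S ≤ Subgroup.normalizer (Cen q.1 : Set G) :=
      (inf_le_right : S ≤ Subgroup.normalizer (q.1 : Set G)).trans normalizer_le_normalizer_cen
    rw [← SetLike.mem_coe, Subgroup.coe_mul_of_left_le_normalizer_right _ _ hn'] at hc
    exact hc
  have hc₀le : PLE p M (cP (c₀ * g) b) ⟨P, e⟩ := by
    have := ple_cP s⁻¹ hcl
    rw [cP_cP, cP_cP, cP_top_of_mem (top := ⟨P, e⟩) (inv_mem hs.1)] at this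
    rwa [inv_mul_cancel_left] at this
  refine ⟨cj (c₀ * g), (mor_iff hF).mpr ⟨c₀ * g, fun _ _ => rfl, ?_⟩, fun x hx => ?_⟩
  · exact hb1 ▸ fus_mk hb hc₀le
  · rw [← cj_cj, hg x hx]
    have hy : cj g x ∈ cjS g a.1 := ⟨x, hx, rfl⟩
    rw [cj_apply c₀, ← Subgroup.mem_centralizer_iff.mp hc₀ _ hy, mul_inv_cancel_right]

theorem mem_autGroup_iff (hM : IsPModular p M) (hF : IsBlockFusionSystemOn p M B P e F)
    {α : MulAut P} : α ∈ F.autGroup P ↔ α ∈ autInducedBy (stab ⟨P, e⟩) P := by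
  rw [mem_autGroup le_rfl, mor_iff hF, mem_autInducedBy]
  constructor
  · rintro ⟨g, hg, hfus⟩
    have hga := hfus.ple (a := ⟨P, e⟩) hM hF.1.1.1 Relation.ReflTransGen.refl
    have heq : cP g ⟨P, e⟩ = ⟨P, e⟩ := ple_antisymm_top hM hF.1.1.1 hga
      (Subgroup.eq_of_le_of_card_ge (subgroup_le_of_subpairLE hga :) (card_cjS g P).ge)
    exact ⟨g, heq, (cP_eq_self_iff.mp heq).1, hg⟩
  · rintro ⟨g, hg, -, he⟩
    exact ⟨g, he, fus_mk (a := ⟨P, e⟩) Relation.ReflTransGen.refl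
      ((mem_stab.mp hg).symm ▸ Relation.ReflTransGen.refl)⟩

theorem saturated (hM : IsPModular p M) (hF : IsBlockFusionSystemOn p M B P e F) :
    F.IsSaturated p := by
  have hP : IsPGroup p P := hF.1.1.1.1
  refine FusionSysSaturated.saturated_of_receptive hP ?_ fun Q hQ =>
    receptive_of_fullyNormalized hM hF hQ
  have hA : F.autGroup P = autInducedBy (stab ⟨P, e⟩) P := by
    ext α; exact mem_autGroup_iff hM hF
  haveI : Finite (F.autGroup P) := finite_autGroup (F := F) P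
  refine ⟨le_rfl, ?_⟩
  rw [hA]
  set K := stab ⟨P, e⟩ ⊓ Subgroup.normalizer (P : Set G) with hK
  haveI : Finite (autInducedBy (stab ⟨P, e⟩) P) := hA ▸ inferInstance
  have hsub : autInducedBy P P ≤ autInducedBy (stab ⟨P, e⟩) P :=
    autInducedBy_mono (le_stab ⟨P, e⟩) P
  rw [autInducedBy_eq_range] at hsub ⊢
  obtain ⟨T⟩ : Nonempty (Sylow p K) := inferInstance
  have hT : (T : Subgroup K).map K.subtype ≤ P ⊔ Cen P := by
    refine le_sup_of_stabilizes hM hF.1 (T.2.map _) ?_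
    rintro _ ⟨u, -, rfl⟩
    exact u.2.1
  set T' := T.mapSurjective (f := (nHom (stab ⟨P, e⟩) P).rangeRestrict)
    (MonoidHom.rangeRestrict_surjective _) with hT'
  refine ⟨T', ?_⟩
  have hle : (T' : Subgroup (nHom (stab ⟨P, e⟩) P).range) ≤
      (autInducedBy P P).subgroupOf (nHom (stab ⟨P, e⟩) P).range := by
    rw [hT', Sylow.coe_mapSurjective]
    rintro _ ⟨k, hk, rfl⟩
    rw [Subgroup.mem_subgroupOf, mem_autInducedBy]
    have hkm : (k : G) ∈ P ⊔ Cen P := hT ⟨k, hk, rfl⟩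
    rw [← SetLike.mem_coe, Subgroup.coe_mul_of_left_le_normalizer_right _ _
      ((Subgroup.le_normalizer : P ≤ _).trans normalizer_le_normalizer_cen)] at hkm
    obtain ⟨u, hu, c, hc, huc⟩ := hkm
    refine ⟨u, hu, Subgroup.le_normalizer hu, fun x hx => ?_⟩
    show afun (nHom (stab ⟨P, e⟩) P k) x = cj u x
    rw [afun_nHom _ hx, ← huc, ← cj_cj]
    congr 1
    rw [cj_apply, ← Subgroup.mem_centralizer_iff.mp hc x hx, mul_inv_cancel_right]
  exact (T'.3 ((isPGroup_autInducedBy hP P).comap_subtype) hle).symm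

end Cfsg.Agent.BrauerPairs81Fusion
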