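import Cfsg.Agent.Lib.BrauerPairs81Nilpotent
import Cfsg.Prelude.Def_BlockLocal

/-!
Induced blocks as Brauer pairs, and blocks of centralisers of subgroups of an abelian defect group.
-/

namespace Cfsg.Agent.BrauerPairs81Induced

open Cfsg Cfsg.Agent.BlockTheoryLocalRing Cfsg.Agent.BlockTheoryCentre
open Cfsg.Agent.BlockTheoryIdem Cfsg.Agent.BlockTheoryBrauer Cfsg.Agent.BlockTheoryDefect
open Cfsg.Agent.BrauerPairs81Base Cfsg.Agent.BrauerPairs81Pairs Cfsg.Agent.BrauerPairs81Conj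
open Cfsg.Agent.BrauerPairs81Max Cfsg.Agent.BrauerPairs81Stab Cfsg.Agent.BrauerPairs81Local
open Cfsg.Agent.BrauerPairs81Index Cfsg.Agent.BrauerPairs81Fusion
open Cfsg.Agent.BrauerPairs81Nilpotent
open scoped ComplexConjugate Pointwise

attribute [local instance] Classical.propDecidable

set_option linter.unusedSectionVars false

variable {p : ℕ} [Fact p.Prime] {M : Ideal AlgInt} {G : Type*} [Group G] [Fintype G]

theorem isBrauerPairOf_of_induced (hM : IsPModular p M) {P : Subgroup G} (hP : IsPGroup p P)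
    {B : Set (IrrCharacter G)} {c : Set (IrrCharacter (Cen P))}
    (hc : IsInducedBlock M (Cen P) c B) : IsBrauerPairOf p M B P c := by
  refine isBrauerPairOf_iff.mpr ⟨⟨hP, hc.1⟩, hc.2.1, fun ξ hξ => ?_⟩
  obtain ⟨χ, hχ⟩ := block_nonempty hM hc.2.1
  have := BlockTheoryInduced.inducedBlock_congr (Cen P) hM hc hξ hχ (isCen_idem B)
    (isInt_idem hM hc.2.1)
  rwa [omega_idem, if_pos hχ] at this

/-- A pair on a defect group is maximal. -/
theorem isMaximal_of_induced (hM : IsPModular p M) {B : Set (IrrCharacter G)} {P : Subgroup G}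
    (hD : IsDefectGroup p M B P) {c : Set (IrrCharacter (Cen P))}
    (hc : IsInducedBlock M (Cen P) c B) : IsMaximalBrauerPair p M B P c :=
  ⟨isBrauerPairOf_of_induced hM (isPGroup_of_isDefectGroup hD) hc, fun _ _ hR hle =>
    (Subgroup.eq_of_le_of_card_ge (subgroup_le_of_subpairLE hle)
      (card_le_of_conjLe (conjLe_defect_of_pairOf hM hR hD))).symm⟩

theorem inducedCentralCharIn_eq {H K : Subgroup G} (hKH : K ≤ H) (ξ : K → ℂ) (h : H) :
    inducedCentralCharIn H K ξ (h : G) = omega ξ (res K (incl H (classSum h))) := by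
  rw [omega_eq_finsum, inducedCentralCharIn, ← finsum_eq_sum_of_fintype]
  refine finsum_congr fun k => ?_
  have e := coeff_incl_coe H (classSum h) ⟨k, hKH k.2⟩
  rw [finsum_eq_if, coeff_res, e, classSum, coeff_ofFun]
  have hiff : IsConj h ⟨k, hKH k.2⟩ ↔
      k ∈ {k : K | ∃ x : H, (x : G) * (k : G) * (x : G)⁻¹ = (h : G)} := by
    rw [isConj_comm, isConj_iff, Set.mem_setOf_eq]
    exact exists_congr fun x => Subtype.ext_iff
  by_cases hc : IsConj h ⟨k, hKH k.2⟩
  · rw [if_pos hc, one_mul, if_pos (hiff.mp hc)]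
  · rw [if_neg hc, zero_mul, if_neg fun h' => hc (hiff.mpr h')]

theorem res_incl (H : Subgroup G) (z : MonoidAlgebra ℂ H) : res H (incl H z) = z := by
  refine MonoidAlgebra.ext ?_
  ext x
  rw [coeff_res, coeff_incl_coe]

theorem invBy_incl_self {H : Subgroup G} {z : MonoidAlgebra ℂ H} (hz : IsCen z) :
    InvBy H (incl H z) := by
  intro u hu x
  by_cases hx : x ∈ H
  · have e1 := coeff_incl_coe H z (⟨u, hu⟩ * ⟨x, hx⟩ * (⟨u, hu⟩ : H)⁻¹)
    simp only [Subgroup.coe_mul, Subgroup.coe_inv] at e1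
    rw [e1]
    exact (hz ⟨x, hx⟩ ⟨u, hu⟩).trans (coeff_incl_coe H z ⟨x, hx⟩).symm
  · rw [coeff_incl_of_notMem _ _ hx, coeff_incl_of_notMem]
    intro h
    exact hx (by simpa [mul_assoc] using H.mul_mem (H.mul_mem (H.inv_mem hu) h) hu)

/-- Induction inside `C(Q)` is inclusion of pairs. -/
theorem inducedIn_iff (hM : IsPModular p M) {P Q : Subgroup G} {c : Set (IrrCharacter (Cen P))}
    (hPc : IsBrauerPair p M P c) (hQP : Q ≤ P) (hPQ : P ≤ Cen Q)
    {f : Set (IrrCharacter (Cen Q))} :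
    IsInducedBlockIn M (Cen Q) (Cen P) c f ↔ SubpairLE p M Q f P c := by
  obtain ⟨f₀, hf₀⟩ := exists_subpair hM hPc hQP
  have hn : IsNormalSubpair p M Q f₀ P c := isNormalSubpair_of_le hM hPc hf₀
    (hPQ.trans (Subgroup.centralizer_le_normalizer _))
  have hCC : Cen P ≤ Cen Q := centralizer_le hQP
  have h0 : IsInducedBlockIn M (Cen Q) (Cen P) c f₀ := by
    refine ⟨hPc.2, hn.1.2, fun ξ hξ χ hχ h => ?_⟩
    have hz := invBy_incl_self (isCen_classSum h)
    have := phi_congr_step hM hn (isInt_incl _ hM (isInt_classSum hM h)) (invBy_mono hPQ hz) hz hχ hξ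
    rw [phi, phi, res_incl, omega_classSum (irr_classFun χ)] at this
    rw [inducedCentralCharIn_eq hCC]
    exact this
  constructor
  · intro hf
    obtain ⟨ξ, hξ⟩ := block_nonempty hM hPc.2
    obtain ⟨χ, hχ⟩ := block_nonempty hM hf.2.1
    obtain ⟨χ₀, hχ₀⟩ := block_nonempty hM h0.2.1
    rw [block_eq_of_sameBlock hM hf.2.1 h0.2.1 hχ hχ₀ fun h =>
      cast (congrArg (MemLocalIdeal M) (by ring))
        (ideal_sub hM (h0.2.2 ξ hξ χ₀ hχ₀ h) (hf.2.2 ξ hξ χ hχ h))]
    exact hf₀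
  · intro hf
    rwa [subpair_unique hM hPc hf hf₀]

theorem cjA_incl {H : Subgroup G} (x : H) (z : MonoidAlgebra ℂ H) :
    cjA (x : G) (incl H z) = incl H (cjA x z) := by
  refine MonoidAlgebra.ext ?_
  ext y
  rw [coeff_cjA]
  by_cases hy : y ∈ H
  · have e1 := coeff_incl_coe H z (x⁻¹ * ⟨y, hy⟩ * x)
    simp only [Subgroup.coe_mul, Subgroup.coe_inv] at e1
    rw [e1]
    exact ((coeff_incl_coe H (cjA x z) ⟨y, hy⟩).trans (coeff_cjA x z ⟨y, hy⟩)).symm
  · rw [coeff_incl_of_notMem _ _ hy, coeff_incl_of_notMem]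
    intro hh
    exact hy (by simpa [mul_assoc] using H.mul_mem (H.mul_mem x.2 hh) (H.inv_mem x.2))

theorem incl_injective (H : Subgroup G) : Function.Injective (incl H) := fun a b h => by
  rw [← res_incl H a, h, res_incl]

/-- The block of `C(Q)` below an abelian maximal pair: a maximal pair of it, and its inertial
group. -/
theorem exists_maximal_cen (hM : IsPModular p M) {B : Set (IrrCharacter G)} {P Q : Subgroup G}
    {c : Set (IrrCharacter (Cen P))} (hmax : IsMaximalBrauerPair p M B P c) (hQP : Q ≤ P)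
    (hPQ : P ≤ Cen Q) {f : Set (IrrCharacter (Cen Q))} (hle : SubpairLE p M Q f P c) :
    ∃ (c₀ : Set (IrrCharacter (Cen (P.subgroupOf (Cen Q))))),
      IsMaximalBrauerPair p M f (P.subgroupOf (Cen Q)) c₀ ∧
      ∀ x : Cen Q, x ∈ stab (⟨P.subgroupOf (Cen Q), c₀⟩ : BrauerPairIdx (Cen Q)) ↔
        (x : G) ∈ stab (⟨P, c⟩ : BrauerPairIdx G) := by
  have hQf := isBrauerPairOf_down hM hle hmax.1
  have hn : IsNormalSubpair p M Q f P c := isNormalSubpair_of_le hM hmax.1.1 hle
    (hPQ.trans (Subgroup.centralizer_le_normalizer _))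
  obtain ⟨hS, c₀, hc₀, he⟩ := exists_pairOf_inner le_rfl hQf.1.2
    (fun t => (coeff_eb_coe _ f t).symm) hPQ hn
  refine ⟨c₀, ⟨hc₀, fun R g hR hle' => ?_⟩, fun x => ?_⟩
  · refine (Subgroup.eq_of_le_of_card_ge (subgroup_le_of_subpairLE hle') ?_).symm
    have hB := isBrauerPairOf_up hM (Relation.ReflTransGen.single
      (show NormalSubpairRel p M ⟨Q, f⟩ ⟨_, _⟩ from normal_of_pairOf_cen hQf.1 hR)) hQf
    calc Nat.card R = Nat.card (R.map (Cen Q).subtype) :=
          Nat.card_congr (R.equivMapOfInjective _ (Cen Q).subtype_injective).toEquiv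
      _ ≤ Nat.card (Q ⊔ R.map (Cen Q).subtype : Subgroup G) := Subgroup.card_le_of_le le_sup_right
      _ ≤ Nat.card P := card_le_of_conjLe (conjLe_of_pairOf hM hmax hB)
      _ = Nat.card (P.subgroupOf (Cen Q)) :=
          (Nat.card_congr (Subgroup.subgroupOfEquivOfLe hPQ).toEquiv).symm
  · have he' : eb (Cen P) c = incl (Cen Q) (eb (Cen (P.subgroupOf (Cen Q))) c₀) := by
      rw [← eb_cenIso (cenCompat_map le_rfl hS) c₀]
      exact (congrArg (fun a : BrauerPairIdx G => eb (Cen a.1) a.2) he).symm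
    rw [mem_stab, mem_stab, cP_eq_self_iff, cP_eq_self_iff]
    refine and_congr ?_ ?_
    · rw [Subgroup.mem_normalizer_iff, Subgroup.mem_normalizer_iff]
      refine ⟨fun h a => ?_, fun h a => ?_⟩
      · by_cases ha : a ∈ Cen Q
        · simpa [Subgroup.mem_subgroupOf] using h ⟨a, ha⟩
        · refine ⟨fun h' => absurd (hPQ h') ha, fun h' => absurd ?_ ha⟩
          simpa [mul_assoc] using
            (Cen Q).mul_mem ((Cen Q).mul_mem ((Cen Q).inv_mem x.2) (hPQ h')) x.2
      · simpa [Subgroup.mem_subgroupOf] using h (a : G)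
    · rw [he', cjA_incl, (incl_injective _).eq_iff]

/-- Nilpotency of the block of `C(Q)` below an abelian maximal pair. -/
theorem nilpotent_cen_iff (hM : IsPModular p M) {B : Set (IrrCharacter G)} {P Q : Subgroup G}
    {c : Set (IrrCharacter (Cen P))} (hmax : IsMaximalBrauerPair p M B P c)
    (hab : ∀ x ∈ P, ∀ y ∈ P, x * y = y * x) (hQP : Q ≤ P)
    {f : Set (IrrCharacter (Cen Q))} (hle : SubpairLE p M Q f P c) :
    IsNilpotentBlock p M f ↔
      ∀ x ∈ stab (⟨P, c⟩ : BrauerPairIdx G), x ∈ Cen Q → x ∈ Cen P := by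
  have hPQ : P ≤ Cen Q := fun u hu =>
    Subgroup.mem_centralizer_iff.mpr fun q hq => hab q (hQP hq) u hu
  obtain ⟨c₀, hc₀, hst⟩ := exists_maximal_cen hM hmax hQP hPQ hle
  rw [nilpotent_iff_of_abelian hM hc₀ fun x hx y hy => Subtype.ext (hab _ hx _ hy)]
  have hmap : (P.subgroupOf (Cen Q)).map (Cen Q).subtype = P :=
    Subgroup.map_subgroupOf_eq_of_le hPQ
  have hcc := cenCompat_map (H := Cen Q) (R := P.subgroupOf (Cen Q)) le_rfl (by rw [hmap]; exact hQP)
  constructor
  · intro h x hx hxQ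
    have := (hcc x).mpr ⟨hxQ, h ((hst ⟨x, hxQ⟩).mpr hx)⟩
    rwa [hmap] at this
  · intro h x hx
    have hxP : (x : G) ∈ Cen ((P.subgroupOf (Cen Q)).map (Cen Q).subtype) := by
      rw [hmap]; exact h x ((hst x).mp hx) x.2
    obtain ⟨h2, hres⟩ := (hcc x).mp hxP
    exact hres

end Cfsg.Agent.BrauerPairs81Induced
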