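import Cfsg.Agent.Lib.BlockCentral81
import Cfsg.Agent.Lib.BlockContribSection
import Cfsg.Agent.Lib.BrauerPairs81Induced
import Cfsg.Agent.Lib.BrauerPairs81Fusion
import Cfsg.Agent.Lib.BrauerBlocksRegFun
import Cfsg.Agent.Lib.GaloisChar80
import Cfsg.Agent.Lib.BrauerBlocksPPart
import Cfsg.Agent.S4574
import Cfsg.Agent.S4667

/-!
Blocks with cyclic defect group and inertial index one: `k(B) ≤ |P|` and one Brauer character.
-/

set_option autoImplicit false

namespace Cfsg.Agent.BlockCyclicRank81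

open Cfsg Cfsg.Agent.BlockTheoryLocalRing Cfsg.Agent.BlockTheoryCentre
open Cfsg.Agent.BlockTheoryIdem Cfsg.Agent.BlockTheoryBrauer Cfsg.Agent.BlockTheoryDefect
open Cfsg.Agent.BrauerPairs81Base Cfsg.Agent.BrauerPairs81Pairs Cfsg.Agent.BrauerPairs81Conj
open Cfsg.Agent.BrauerPairs81Local Cfsg.Agent.BrauerPairs81Fusion
open Cfsg.Agent.BlockCentral81 Cfsg.Agent.BlockContribSection
open scoped ComplexConjugate

attribute [local instance] Classical.propDecidable

variable {p : ℕ} [Fact p.Prime] {M : Ideal AlgInt} {G : Type*} [Group G] [Fintype G]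

/-- Character values at a product with a commuting `p`-element agree modulo the ideal. -/
theorem value_congr (hM : IsPModular p M) (χ : IrrCharacter G) {u y : G} {k : ℕ}
    (hu : u ^ p ^ k = 1) (hc : Commute u y) :
    MemLocalIdeal M ((χ : G → ℂ) (u * y) - (χ : G → ℂ) y) := by
  obtain ⟨n, ρ, -, hρ⟩ := χ.2
  have : CharP (AlgInt ⧸ M) p := by
    have : Nontrivial (AlgInt ⧸ M) := Ideal.Quotient.nontrivial_iff.2 hM.2.1.ne_top
    refine (CharP.charP_iff_prime_eq_zero hM.1).2 ?_
    rw [← map_natCast (Ideal.Quotient.mk M)]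
    exact Ideal.Quotient.eq_zero_iff_mem.2 hM.2.2
  have hint : ∀ g : G, IsIntegral ℤ (ρ.character g) := fun g => CharBasic.isIntegral_character ρ g
  have key : ∀ g : G, (Ideal.Quotient.mk M ⟨ρ.character g, hint g⟩) ^ p ^ k =
      Ideal.Quotient.mk M ⟨ρ.character (g ^ p ^ k), hint _⟩ := by
    intro g
    obtain ⟨b, μ, -, hμ, -, h4⟩ := CharBasic.exists_rep_eigenbasis ρ g
    let z := fun i => (⟨μ i, IsIntegral.of_pow (isOfFinOrder_of_finite g).orderOf_pos
      (by rw [hμ]; exact isIntegral_one)⟩ : AlgInt)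
    have e1 : (⟨ρ.character g, hint g⟩ : AlgInt) = ∑ i, z i := by
      refine Subtype.ext ?_
      rw [AddSubmonoidClass.coe_finsetSum]
      simpa using h4 1
    have e2 : (⟨ρ.character (g ^ p ^ k), hint _⟩ : AlgInt) = ∑ i, z i ^ p ^ k := by
      refine Subtype.ext ?_
      rw [AddSubmonoidClass.coe_finsetSum]
      simpa [z] using h4 (p ^ k)
    rw [e1, e2, map_sum, map_sum, sum_pow_char_pow]
    simp
  have : M.IsPrime := isPrime hM
  have h1 : Ideal.Quotient.mk M ⟨ρ.character (u * y), hint _⟩ =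
      Ideal.Quotient.mk M ⟨ρ.character y, hint _⟩ := by
    have h2 : (u * y) ^ p ^ k = y ^ p ^ k := by rw [hc.mul_pow, hu, one_mul]
    have h3 := key (u * y)
    simp only [h2] at h3
    rw [← key y] at h3
    refine sub_eq_zero.1 (eq_zero_of_pow_eq_zero (n := p ^ k) ?_)
    rw [sub_pow_char_pow, h3, sub_self]
  rw [Ideal.Quotient.eq] at h1
  have h4 := (algInt_mem_ideal_iff hM).2 h1
  rw [← hρ]
  simpa using h4

theorem centralizer_zpowers (u : G) (g : G) : g ∈ Cen (Subgroup.zpowers u) ↔ Commute u g := by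
  rw [show Cen (Subgroup.zpowers u) = Subgroup.centralizer (Subgroup.zpowers u : Set G) from rfl,
    Subgroup.zpowers_eq_closure, Subgroup.centralizer_closure,
    Subgroup.mem_centralizer_singleton_iff]
  exact ⟨fun h => h.symm, fun h => h.eq.symm⟩

/-- A Brauer pair on a cyclic subgroup induces its block. -/
theorem induced_of_pairOf (hM : IsPModular p M) {B : Set (IrrCharacter G)} {u : G}
    {b : Set (IrrCharacter (Cen (Subgroup.zpowers u)))}
    (h : IsBrauerPairOf p M B (Subgroup.zpowers u) b) :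
    IsInducedBlock M (Cen (Subgroup.zpowers u)) b B := by
  obtain ⟨k, hk⟩ := h.1.1 ⟨u, Subgroup.mem_zpowers u⟩
  have hu : ∃ j, orderOf u = p ^ j := by
    obtain ⟨j, -, hj⟩ := (Nat.dvd_prime_pow hM.1).1
      (orderOf_dvd_of_pow_eq_one (congrArg Subtype.val hk : u ^ p ^ k = 1))
    exact ⟨j, hj⟩
  obtain ⟨B', hB'⟩ := exists_induced (centralizer_zpowers u) hM hu h.1.2
  have := BrauerPairs81Induced.isBrauerPairOf_of_induced hM h.1.1 hB'
  rwa [(existsUnique_block hM h.1).unique this h] at hB'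

theorem blockRank_pos (hM : IsPModular p M) {B : Set (IrrCharacter G)} (hB : IsPBlock M B) :
    1 ≤ blockRank p B := by
  obtain ⟨χ, hχ⟩ := block_nonempty hM hB
  refine Nat.one_le_iff_ne_zero.2 fun h => ?_
  rw [blockRank, Submodule.finrank_eq_zero, Submodule.span_eq_bot] at h
  have h1 := congrFun (h _ ⟨χ, hχ, rfl⟩) 1
  simp [pRegularPart, IsPRegular, orderOf_one, hM.1.ne_one, irr_one_ne_zero χ] at h1

/-- The sum of the squared values of a block at an element. -/
noncomputable def blockSq (B : Set (IrrCharacter G)) (g : G) : ℂ :=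
  ∑ χ : IrrCharacter G, if χ ∈ B then (χ : G → ℂ) g * conj ((χ : G → ℂ) g) else 0

theorem sum_blockSq (B : Set (IrrCharacter G)) :
    ∑ g, blockSq B g = (Nat.card G : ℂ) * (Nat.card B : ℂ) := by
  simp only [blockSq]
  rw [Finset.sum_comm, BlockContribBounds.card_members, Finset.card_eq_sum_ones, Nat.cast_sum,
    Finset.mul_sum, ← BlockContribBounds.filter_eq_members B, Finset.sum_filter]
  refine Finset.sum_congr rfl fun χ _ => ?_
  split_ifs
  · rw [← CharBasicOrth.card_mul_classInner, CharBasicOrth.classInner_irr_self χ.2]; simp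
  · simp

theorem sum_blockSq_regular (hM : IsPModular p M) {B : Set (IrrCharacter G)} (hB : IsPBlock M B) :
    ∑ g ∈ Finset.univ.filter (fun g : G => ¬ p ∣ orderOf g), blockSq B g =
      (Nat.card G : ℂ) * (blockRank p B : ℂ) := by
  rw [Cfsg.Agent.S4667.result p M hM B hB, Finset.sum_filter]
  refine Finset.sum_congr rfl fun g _ => ?_
  rw [BlockTheoryIdem.finsum_mem_eq_sum, blockSq]
  by_cases hg : p ∣ orderOf g
  · simp [hg, pRegularPart, IsPRegular]
  · rw [if_pos hg]
    refine Finset.sum_congr rfl fun χ _ => ?_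
    rw [pRegularPart, if_pos (show IsPRegular p g from hg), irr_inv]

/-- The blocks of the centraliser of `u` inducing `B`. -/
noncomputable def subs (M : Ideal AlgInt) (B : Set (IrrCharacter G)) (u : G) :
    Finset (Set (IrrCharacter (Cen (Subgroup.zpowers u)))) :=
  ((Finset.univ : Finset (IrrCharacter (Cen (Subgroup.zpowers u)))).image
    (fun ψ : IrrCharacter (Cen (Subgroup.zpowers u)) =>
      blockOf M (ψ : Cen (Subgroup.zpowers u) → ℂ))).filter
      fun b => IsInducedBlock M (Cen (Subgroup.zpowers u)) b B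

theorem mem_subs (hM : IsPModular p M) {B : Set (IrrCharacter G)} {u : G}
    {b : Set (IrrCharacter (Cen (Subgroup.zpowers u)))}
    (h : IsBrauerPairOf p M B (Subgroup.zpowers u) b) : b ∈ subs M B u := by
  obtain ⟨ψ, hψ⟩ := block_nonempty hM h.1.2
  exact Finset.mem_filter.2 ⟨Finset.mem_image.2
    ⟨ψ, Finset.mem_univ _, (eq_blockOf_of_mem hM h.1.2 hψ).symm⟩, induced_of_pairOf hM h⟩

/-- The contribution of the section of `u`. -/
theorem sum_section (hM : IsPModular p M) {B : Set (IrrCharacter G)} (hB : IsPBlock M B) {u : G}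
    (hu : ∃ k, orderOf u = p ^ k) :
    ∑ s ∈ Finset.univ.filter (fun s : Cen (Subgroup.zpowers u) => ¬ p ∣ orderOf s),
      blockSq B (u * s) = (Nat.card (Cen (Subgroup.zpowers u)) : ℂ) *
        ((∑ b ∈ subs M B u, blockRank p b : ℕ) : ℂ) := by
  have hH := centralizer_zpowers u
  have hblk : ∀ b ∈ subs M B u, IsPBlock M b := fun b hb => (Finset.mem_filter.1 hb).2.1
  rw [Nat.cast_sum, Finset.mul_sum,
    ← Finset.sum_congr rfl fun b hb => sum_blockSq_regular hM (hblk b hb)]
  rw [Finset.sum_comm]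
  refine Finset.sum_congr rfl fun s hs => ?_
  have hs' := (Finset.mem_filter.1 hs).2
  rw [blockSq, sum_block_section hH hM hu hB hs' hs']
  simp only [blockSq]
  rw [Finset.sum_comm]
  refine Finset.sum_congr rfl fun ψ _ => ?_
  rw [Finset.sum_ite, Finset.sum_const_zero, add_zero, Finset.sum_const]
  split_ifs with h
  · have hf : (subs M B u).filter (fun b => ψ ∈ b) = {blockOf M (ψ : _ → ℂ)} := by
      ext b
      simp only [Finset.mem_filter, Finset.mem_singleton]
      refine ⟨fun hb => eq_blockOf_of_mem hM (hblk b hb.1) hb.2, ?_⟩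
      rintro rfl
      exact ⟨Finset.mem_filter.2 ⟨Finset.mem_image_of_mem _ (Finset.mem_univ ψ), h⟩,
        self_mem_blockOf hM ψ⟩
    rw [hf, Finset.card_singleton, one_smul]
  · have hf : (subs M B u).filter (fun b => ψ ∈ b) = ∅ := by
      refine Finset.filter_eq_empty_iff.2 fun b hb hψ => h ?_
      rw [← eq_blockOf_of_mem hM (hblk b hb) hψ]
      exact (Finset.mem_filter.1 hb).2
    rw [hf, Finset.card_empty, zero_smul]

/-- A sum over the group along the `p`-part. -/
theorem sum_eq_sum_sections (hM : IsPModular p M) (F : G → ℂ) :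
    ∑ g, F g = ∑ u ∈ Finset.univ.filter (fun u : G => ∃ k, orderOf u = p ^ k),
      ∑ s ∈ Finset.univ.filter (fun s : Cen (Subgroup.zpowers u) => ¬ p ∣ orderOf s),
        F (u * s) := by
  rw [Finset.sum_sigma']
  symm
  refine Finset.sum_bij (fun w _ => w.1 * (w.2 : G)) (fun w _ => Finset.mem_univ _) ?_ ?_
    (fun w _ => rfl)
  · rintro ⟨u, s⟩ hw ⟨u', s'⟩ hw' h
    simp only [Finset.mem_sigma, Finset.mem_filter, Finset.mem_univ, true_and] at hw hw'
    have h1 : IsPPart p (u * (s : G)) u := ⟨s, rfl, (centralizer_zpowers u _).1 s.2, hw.1,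
      by rw [Subgroup.orderOf_coe]; exact hw.2⟩
    have h2 : IsPPart p (u' * (s' : G)) u' := ⟨s', rfl, (centralizer_zpowers u' _).1 s'.2, hw'.1,
      by rw [Subgroup.orderOf_coe]; exact hw'.2⟩
    rw [show u * (s : G) = u' * (s' : G) from h] at h1
    obtain rfl := pPart_unique hM.1 h1 h2
    obtain rfl : s = s' := Subtype.ext (mul_left_cancel h)
    rfl
  · intro g _
    obtain ⟨x, y, hxy, hc, hx, hy⟩ := BrauerBlocksPPart.exists_isPPart hM.1 g
    refine ⟨⟨x, ⟨y, (centralizer_zpowers x y).2 hc⟩⟩, ?_, hxy⟩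
    simp only [Finset.mem_sigma, Finset.mem_filter, Finset.mem_univ, true_and]
    exact ⟨hx, by rw [Subgroup.orderOf_mk]; exact hy⟩

/-- The number of characters of a block, counted along sections. -/
theorem card_eq (hM : IsPModular p M) {B : Set (IrrCharacter G)} (hB : IsPBlock M B) :
    Nat.card G * Nat.card B = Nat.card G * blockRank p B +
      ∑ u ∈ (Finset.univ.filter (fun u : G => ∃ k, orderOf u = p ^ k)).erase 1,
        Nat.card (Cen (Subgroup.zpowers u)) * ∑ b ∈ subs M B u, blockRank p b := by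
  have h1 : (1 : G) ∈ Finset.univ.filter (fun u : G => ∃ k, orderOf u = p ^ k) :=
    Finset.mem_filter.2 ⟨Finset.mem_univ _, 0, by simp⟩
  have h := sum_blockSq (G := G) B
  rw [sum_eq_sum_sections hM, ← Finset.add_sum_erase _ _ h1,
    Finset.sum_congr rfl (fun u hu => sum_section hM hB
      (Finset.mem_filter.1 (Finset.mem_of_mem_erase hu)).2)] at h
  have h2 : ∑ s ∈ Finset.univ.filter
      (fun s : Cen (Subgroup.zpowers (1 : G)) => ¬ p ∣ orderOf s), blockSq B (1 * (s : G)) =
      (Nat.card G : ℂ) * (blockRank p B : ℂ) := by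
    rw [← sum_blockSq_regular hM hB]
    refine Finset.sum_bij (fun s _ => (s : G)) (fun s hs => ?_) (fun s _ t _ h => Subtype.ext h)
      (fun g hg => ⟨⟨g, (centralizer_zpowers 1 g).2 (Commute.one_left g)⟩, ?_, rfl⟩)
      (fun s _ => by rw [one_mul])
    · exact Finset.mem_filter.2 ⟨Finset.mem_univ _, by
        rw [Subgroup.orderOf_coe]; exact (Finset.mem_filter.1 hs).2⟩
    · exact Finset.mem_filter.2 ⟨Finset.mem_univ _, by
        rw [Subgroup.orderOf_mk]; exact (Finset.mem_filter.1 hg).2⟩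
  rw [h2] at h
  exact_mod_cast h.symm

variable {B : Set (IrrCharacter G)} {P : Subgroup G} {c : Set (IrrCharacter (Cen P))}

theorem exists_pair_eq {G : Type*} [Group G] {a : BrauerPairIdx G} {Q : Subgroup G}
    (h : a.1 = Q) : ∃ b, a = ⟨Q, b⟩ := by
  obtain ⟨Q', b⟩ := a
  subst h
  exact ⟨b, rfl⟩

/-- Without fusion on cyclic pairs, each nontrivial element of `P` gives a subsection. -/
theorem rank_add_le (hM : IsPModular p M) (hmax : IsMaximalBrauerPair p M B P c)
    (hfus : ∀ a : BrauerPairIdx G, PLE p M a ⟨P, c⟩ → IsCyclic a.1 → ∀ g : G,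
      PLE p M (cP g a) ⟨P, c⟩ → ∀ x ∈ a.1, g * x * g⁻¹ = x) :
    blockRank p B + (Nat.card P - 1) ≤ Nat.card B := by
  have hB : IsPBlock M B := hmax.1.2.1
  have hPe : IsBrauerPair p M P c := hmax.1.1
  set E := (Finset.univ.filter (fun u : G => ∃ k, orderOf u = p ^ k)).erase 1
  suffices h : (Nat.card P - 1) * Nat.card G ≤
      ∑ u ∈ E, Nat.card (Cen (Subgroup.zpowers u)) * ∑ b ∈ subs M B u, blockRank p b by
    have h1 := card_eq hM hB
    have h2 : Nat.card G * (blockRank p B + (Nat.card P - 1)) ≤ Nat.card G * Nat.card B := by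
      rw [h1, Nat.mul_add, Nat.mul_comm (Nat.card G) (Nat.card P - 1)]
      exact Nat.add_le_add_left h _
    exact Nat.le_of_mul_le_mul_left h2 Nat.card_pos
  -- a chosen pair below the maximal one on each element of `P`
  have hchoice : ∀ u : P, ∃ f, SubpairLE p M (Subgroup.zpowers (u : G)) f P c := fun u =>
    exists_subpair hM hPe (Subgroup.zpowers_le.2 u.2)
  choose f hf using hchoice
  set pr : P → BrauerPairIdx G := fun u => ⟨Subgroup.zpowers (u : G), f u⟩
  set S := Finset.univ.filter (fun u : P => (u : G) ≠ 1) with hS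
  set Φ : P × G → G × BrauerPairIdx G := fun w =>
    (w.2 * (w.1 : G) * w.2⁻¹, cP w.2 (pr w.1)) with hΦ
  have hcardS : S.card = Nat.card P - 1 := by
    have : S = Finset.univ.erase (1 : P) := by
      ext u
      simp only [hS, Finset.mem_filter, Finset.mem_univ, true_and, Finset.mem_erase, and_true]
      exact not_congr ⟨fun h => Subtype.ext h, fun h => congrArg Subtype.val h⟩
    rw [this, Finset.card_erase_of_mem (Finset.mem_univ _), Finset.card_univ,
      Nat.card_eq_fintype_card]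
  rw [← hcardS, Nat.card_eq_fintype_card (α := G), ← Finset.card_univ (α := G),
    ← Finset.card_product, Finset.card_eq_sum_card_fiberwise
      (t := (S ×ˢ Finset.univ).image Φ) (f := Φ) (fun w hw => Finset.mem_image_of_mem _ hw),
    ← Finset.sum_fiberwise_of_maps_to (g := Prod.fst) (t := E) (fun z hz => ?_)]
  rotate_left
  · obtain ⟨⟨u, g⟩, hw, rfl⟩ := Finset.mem_image.1 hz
    have hu := (Finset.mem_filter.1 (Finset.mem_product.1 hw).1).2
    refine Finset.mem_erase.2 ⟨fun e => hu (conj_eq_one_iff.1 e),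
      Finset.mem_filter.2 ⟨Finset.mem_univ _, ?_⟩⟩
    obtain ⟨k, hk⟩ := IsPGroup.iff_orderOf.mp hPe.1 u
    exact ⟨k, by rw [← hk, ← Subgroup.orderOf_coe]; exact MulEquiv.orderOf_eq (MulAut.conj g) _⟩
  refine Finset.sum_le_sum fun x _ => ?_
  set I := ((S ×ˢ Finset.univ).image Φ).filter (fun z => z.1 = x)
  have hfib : ∀ z ∈ I, ((S ×ˢ Finset.univ).filter (fun w => Φ w = z)).card ≤
      Nat.card (Cen (Subgroup.zpowers x)) := by
    intro z hz
    obtain ⟨hz1, rfl⟩ := Finset.mem_filter.1 hz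
    obtain ⟨⟨u₀, g₀⟩, -, rfl⟩ := Finset.mem_image.1 hz1
    rw [Nat.card_eq_fintype_card, ← Finset.card_univ]
    refine Finset.card_le_card_of_injOn
      (fun w => if h : w.2 * g₀⁻¹ ∈ Cen (Subgroup.zpowers (Φ (u₀, g₀)).1) then ⟨_, h⟩ else 1)
      (fun _ _ => Finset.mem_univ _) ?_
    have key : ∀ w ∈ (S ×ˢ Finset.univ).filter (fun w => Φ w = Φ (u₀, g₀)),
        w.1 = u₀ ∧ w.2 * g₀⁻¹ ∈ Cen (Subgroup.zpowers (Φ (u₀, g₀)).1) := by
      rintro ⟨u, g⟩ hw
      have he := (Finset.mem_filter.1 hw).2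
      simp only [hΦ, Prod.mk.injEq] at he
      obtain ⟨he1, he2⟩ := he
      have h3 : cP (g₀⁻¹ * g) (pr u) = pr u₀ := by rw [← cP_cP, he2, cP_inv_cP]
      have h4 := hfus (pr u) (hf u) (Subgroup.isCyclic_zpowers _) (g₀⁻¹ * g)
        (by rw [h3]; exact hf u₀) u (Subgroup.mem_zpowers _)
      have h5 : g₀⁻¹ * g * (u : G) * (g₀⁻¹ * g)⁻¹ = u₀ := by
        rw [show g₀⁻¹ * g * (u : G) * (g₀⁻¹ * g)⁻¹ = g₀⁻¹ * (g * u * g⁻¹) * g₀ by group, he1]
        group
      rw [h5] at h4
      refine ⟨Subtype.ext h4.symm, (centralizer_zpowers _ _).2 ?_⟩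
      show g₀ * (u₀ : G) * g₀⁻¹ * (g * g₀⁻¹) = g * g₀⁻¹ * (g₀ * (u₀ : G) * g₀⁻¹)
      rw [h4] at he1 ⊢
      calc g₀ * (u : G) * g₀⁻¹ * (g * g₀⁻¹) = (g * u * g⁻¹) * (g * g₀⁻¹) := by rw [he1]
        _ = g * g₀⁻¹ * (g₀ * (u : G) * g₀⁻¹) := by group
    intro w hw w' hw' h
    simp only [dif_pos (key w hw).2, dif_pos (key w' hw').2, Subtype.mk.injEq] at h
    exact Prod.ext ((key w hw).1.trans (key w' hw').1.symm) (mul_right_cancel h)
  refine (Finset.sum_le_sum hfib).trans ?_
  rw [Finset.sum_const, smul_eq_mul, mul_comm]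
  refine Nat.mul_le_mul_left _ (le_trans ?_ (Finset.card_nsmul_le_sum _ _ 1 fun b hb =>
    blockRank_pos hM (Finset.mem_filter.1 hb).2.1))
  rw [smul_eq_mul, mul_one]
  calc I.card ≤ ((subs M B x).image fun b => ((x, ⟨Subgroup.zpowers x, b⟩) :
        G × BrauerPairIdx G)).card := by
        refine Finset.card_le_card fun z hz => ?_
        obtain ⟨hz1, rfl⟩ := Finset.mem_filter.1 hz
        obtain ⟨⟨u, g⟩, -, rfl⟩ := Finset.mem_image.1 hz1
        have hpair : IsBrauerPairOf p M B (cP g (pr u)).1 (cP g (pr u)).2 :=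
          isBrauerPairOf_conj g (isBrauerPairOf_down hM (hf u) hmax.1)
        have hsub : (cP g (pr u)).1 = Subgroup.zpowers (Φ (u, g)).1 :=
          MonoidHom.map_zpowers _ _
        obtain ⟨b, hb⟩ := exists_pair_eq hsub
        rw [hb] at hpair
        exact Finset.mem_image.2 ⟨b, mem_subs hM hpair, Prod.ext rfl hb.symm⟩
    _ ≤ _ := Finset.card_image_le

/-- Transport of a part under conjugation. -/
theorem part_conj {H : Subgroup G} [Fintype H] {n : G}
    (hn : ∀ x, x ∈ H ↔ n * x * n⁻¹ ∈ H) (a : G) (b : Set (IrrCharacter H))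
    (χ : IrrCharacter G) (s : H) :
    part (n * a * n⁻¹) (pushSet (conjEquiv n H H hn) b) (χ : G → ℂ) (conjEquiv n H H hn s) =
      part a b (χ : G → ℂ) s := by
  set e := conjEquiv n H H hn with he
  have hk : ∀ s c : H, kern (pushSet e b) (e s) (e c) = kern b s c := by
    intro s c
    simp only [kern]
    refine (Fintype.sum_equiv (pushChar e) _ _ fun ψ => ?_).symm
    rw [pushChar_apply, pushChar_apply, pushSet, (pushChar e).injective.mem_set_image]
  simp only [part]
  congr 1
  refine (Fintype.sum_equiv e.toEquiv _ _ fun c => ?_).symm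
  show (χ : G → ℂ) (a * c) * kern b s c =
    (χ : G → ℂ) (n * a * n⁻¹ * (e c : G)) * kern (pushSet e b) (e s) (e c)
  rw [hk, show n * a * n⁻¹ * (e c : G) = n * (a * c) * n⁻¹ by
    show n * a * n⁻¹ * (n * (c : G) * n⁻¹) = _
    group, irr_classFun χ (a * c) n]

/-- The generalised decomposition number of `χ` at the elements of `Z`. -/
noncomputable def decVal {H : Subgroup G} [Fintype H] (c : Set (IrrCharacter H))
    (θ : IrrCharacter H) (χ : IrrCharacter G) (a : H) : ℂ :=
  ∑ ψ : IrrCharacter H, if ψ ∈ c then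
    classInner (fun h : H => (χ : G → ℂ) h) (ψ : H → ℂ) *
      ((ψ : H → ℂ) 1 / (θ : H → ℂ) 1) * ((ψ : H → ℂ) a / (ψ : H → ℂ) 1) else 0

theorem part_eq_decVal (hM : IsPModular p M) {H : Subgroup G} [Fintype H]
    {c : Set (IrrCharacter H)} (hc : IsPBlock M c) {Z : Subgroup H} [Z.Normal]
    (hZc : Z ≤ Subgroup.center H) (hZp : IsPGroup p Z) {θ : IrrCharacter H}
    (hθ : DZero p Z θ) (hθc : θ ∈ c) (χ : IrrCharacter G) {a : H}
    (ha : a ∈ Subgroup.center H) {s : H} (hs : ¬ p ∣ orderOf s) :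
    part (a : G) c (χ : G → ℂ) s = decVal c θ χ a * (θ : H → ℂ) s := by
  obtain ⟨m, hm, hsum⟩ := CharBasicDecomp.exists_mult (G := H)
    (CharInduced.isCharacter_res H (CharBasic.isCharacter_of_isIrrCharacter χ.2))
  rw [part_eq_sum, decVal, Finset.sum_mul]
  refine Finset.sum_congr rfl fun ψ _ => ?_
  split_ifs with hψ
  · have h1 : (fun h : H => (χ : G → ℂ) ((a : G) * h)) = ∑ φ : IrrCharacter H,
        ((m φ : ℂ) * ((φ : H → ℂ) a / (φ : H → ℂ) 1)) • (φ : H → ℂ) := by
      funext h
      have h2 := congrFun hsum (a * h)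
      simp only [Finset.sum_apply, Pi.smul_apply, smul_eq_mul] at h2 ⊢
      rw [show ((a : G) * (h : G)) = ((a * h : H) : G) from rfl, h2]
      exact Finset.sum_congr rfl fun φ _ => by rw [char_center_mul φ ha h]; ring
    rw [h1, CharBasicOrth.classInner_sum_smul_irr]
    obtain ⟨k, hk⟩ := hθ.exists_prop hM hZc hZp hc hθc hψ
    have h3 := hk 1 (by rw [orderOf_one]; exact Nat.Prime.not_dvd_one hM.1)
    rw [hm ψ, hk s hs, show (ψ : H → ℂ) 1 / (θ : H → ℂ) 1 = k by
      rw [h3]; field_simp [irr_one_ne_zero θ]]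
    ring
  · rw [zero_mul]

/-- The degree of the defect zero character divides all degrees in its block. -/
theorem degree_dvd (hM : IsPModular p M) {H : Type*} [Group H] [Fintype H]
    {c : Set (IrrCharacter H)} (hc : IsPBlock M c) {Z : Subgroup H} [Z.Normal]
    (hZc : Z ≤ Subgroup.center H) (hD : IsDefectGroup p M c Z) {θ : IrrCharacter H}
    (hθ : DZero p Z θ) (hθc : θ ∈ c) {ψ : IrrCharacter H} (hψ : ψ ∈ c) :
    charDegree (θ : H → ℂ) ∣ charDegree (ψ : H → ℂ) := by
  have hp : p.Prime := Fact.out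
  have hZp : IsPGroup p Z := isPGroup_of_isDefectGroup hD
  obtain ⟨k, hk⟩ := hθ.exists_prop hM hZc hZp hc hθc hψ
  obtain ⟨z, hz⟩ := BrauerBlocksRegFun.exists_int_regFun hp ψ θ
  set A := (Nat.card H).factorization p with hA
  have hcard := BlockContribBounds.card_defectGroup hM hc hD
  have hv : (Nat.card Z).factorization p = blockDefect p c := by
    rw [hcard, Nat.Prime.factorization_pow hp, Finsupp.single_eq_same]
  have hk1 : (ψ : H → ℂ) 1 = k * (θ : H → ℂ) 1 :=
    hk 1 (by rw [orderOf_one]; exact hp.not_dvd_one)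
  -- the inner product on regular elements
  have hZ0 : (Nat.card Z : ℂ) ≠ 0 := Nat.cast_ne_zero.2 Nat.card_pos.ne'
  have hH0 : (Nat.card H : ℂ) ≠ 0 := Nat.cast_ne_zero.2 Nat.card_pos.ne'
  have hθθ := hθ.sum_reg hZc hZp hθ.triv
  rw [if_pos rfl] at hθθ
  have h1 : (Nat.card H : ℂ) * classInner
      (BrauerBlocksRegFun.regFun p ((p ^ A : ℕ) : ℂ) (ψ : H → ℂ)) (θ : H → ℂ) =
      ((p ^ A : ℕ) : ℂ) * k * ∑ r ∈ Finset.univ.filter (fun r : H => ¬ p ∣ orderOf r),
        (θ : H → ℂ) r * conj ((θ : H → ℂ) r) := by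
    rw [CharBasicOrth.card_mul_classInner, Finset.mul_sum, Finset.sum_filter]
    refine Finset.sum_congr rfl fun r _ => ?_
    by_cases hr : p ∣ orderOf r
    · simp [BrauerBlocksRegFun.regFun, hr]
    · rw [BrauerBlocksRegFun.regFun, if_neg hr, if_pos hr, hk r hr]; ring
  rw [hz] at h1
  have h2 : ((p ^ A : ℕ) : ℂ) * k = (Nat.card Z : ℂ) * (z : ℂ) := by
    refine mul_right_cancel₀ hH0 ?_
    linear_combination (-(Nat.card Z : ℂ)) * h1 - ((p ^ A : ℕ) : ℂ) * k * hθθ
  have h3 : (charDegree (θ : H → ℂ) : ℤ) * (Nat.card Z * z) =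
      (p : ℤ) ^ A * charDegree (ψ : H → ℂ) := by
    have e : ((charDegree (θ : H → ℂ) : ℂ)) * ((Nat.card Z : ℂ) * (z : ℂ)) =
        (p : ℂ) ^ A * (charDegree (ψ : H → ℂ) : ℂ) := by
      rw [← CharAverage.irr_apply_one, ← CharAverage.irr_apply_one, ← h2, hk1]
      push_cast; ring
    exact_mod_cast e
  obtain ⟨t, ht⟩ := Nat.ordProj_dvd (charDegree (θ : H → ℂ)) p
  have hθv : (charDegree (θ : H → ℂ)).factorization p = BlockContrib.minExp p c := by
    have := BlockContrib.minExp_add_defect hM hc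
    have := hθ.deg
    omega
  have hψv : p ^ BlockContrib.minExp p c ∣ charDegree (ψ : H → ℂ) :=
    (pow_dvd_pow p (BlockContrib.minExp_le hψ)).trans (Nat.ordProj_dvd _ _)
  obtain ⟨s, hs⟩ := hψv
  rw [hθv] at ht
  have htp : ¬ p ∣ t := by
    intro hd
    have : p ^ (BlockContrib.minExp p c + 1) ∣ charDegree (θ : H → ℂ) := by
      rw [ht, pow_succ]; exact mul_dvd_mul_left _ hd
    have h := (hp.pow_dvd_iff_le_factorization (ClassAlgebraVal.charDegree_pos θ).ne').1 this
    omega
  rw [ht, hs] at h3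
  rw [ht, hs]
  refine mul_dvd_mul_left _ ?_
  have h4 : (t : ℤ) * (Nat.card Z * z) = (p : ℤ) ^ A * s := by
    have hp0 : ((p : ℤ) ^ BlockContrib.minExp p c) ≠ 0 :=
      pow_ne_zero _ (Nat.cast_ne_zero.2 hp.ne_zero)
    refine mul_left_cancel₀ hp0 ?_
    push_cast at h3
    linear_combination h3
  have h5 : (t : ℤ) ∣ (p : ℤ) ^ A * s := ⟨_, h4.symm⟩
  rw [← Nat.cast_pow, ← Nat.cast_mul, Int.natCast_dvd_natCast] at h5
  exact ((hp.coprime_iff_not_dvd.2 htp).pow_left A).symm.dvd_of_dvd_mul_left h5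

/-- `k(B) ≤ |P|` for a cyclic defect group. -/
theorem card_le (hM : IsPModular p M) (hmax : IsMaximalBrauerPair p M B P c)
    (hcyc : IsCyclic P) : Nat.card B ≤ Nat.card P := by
  have hp : p.Prime := Fact.out
  have hB : IsPBlock M B := hmax.1.2.1
  have hc : IsPBlock M c := hmax.1.1.2
  have hPp : IsPGroup p P := hmax.1.1.1
  obtain ⟨⟨u, hu⟩, hgen⟩ := hcyc.exists_generator
  have hPu : Subgroup.zpowers u = P := le_antisymm (Subgroup.zpowers_le.2 hu) fun x hx => by
    obtain ⟨i, hi⟩ := Subgroup.mem_zpowers_iff.1 (hgen ⟨x, hx⟩)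
    exact ⟨i, congrArg Subtype.val hi⟩
  subst hPu
  have hH := centralizer_zpowers u
  have hPH : Subgroup.zpowers u ≤ (Cen (Subgroup.zpowers u)) := Subgroup.zpowers_le.2 ((hH u).2 (Commute.refl u))
  set Z := (Subgroup.zpowers u).subgroupOf (Cen (Subgroup.zpowers u)) with hZ
  have hZc : Z ≤ Subgroup.center (Cen (Subgroup.zpowers u)) := fun z hz => Subgroup.mem_center_iff.2 fun g => Subtype.ext
    (Subgroup.mem_centralizer_iff.1 g.2 _ (Subgroup.mem_subgroupOf.1 hz)).symm
  have hZn : Z.Normal := ⟨fun z hz g => by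
    rwa [Subgroup.mem_center_iff.1 (hZc hz) g, mul_inv_cancel_right]⟩
  have hDc : IsDefectGroup p M c Z := by
    have := (defect_iff_max hM hmax Relation.ReflTransGen.refl le_rfl
      (Subgroup.centralizer_le_normalizer _) hc
      fun t => (coeff_eb_coe _ c t).symm).mpr fun x hx => by
        have h1 : cjS x (Subgroup.zpowers u) ≤ Subgroup.zpowers u := subgroup_le_of_subpairLE hx
        have h2 : cjS x (Subgroup.zpowers u) = Subgroup.zpowers u :=
          Subgroup.eq_of_le_of_card_ge h1 (card_cjS x _).ge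
        rw [← cen_cjS, h2]
    rwa [inf_of_le_left hPH] at this
  have hZp : IsPGroup p Z := isPGroup_of_isDefectGroup hDc
  obtain ⟨θ, hθc, hθ⟩ := exists_dzero hM hc hDc
  obtain ⟨d, hd⟩ := hPp.exists_card_eq
  have huord : orderOf u = p ^ d := by rw [← Nat.card_zpowers, hd]
  -- a defect class
  obtain ⟨y, ⟨-, -, hy2⟩, S, hS⟩ := BrauerPairs81Max.isDefectGroup_of_maximal hM hmax
  obtain ⟨y0, hy0, hyle, hycard⟩ := isDefectGroup_iff.1
    (BrauerPairs81Max.isDefectGroup_of_maximal hM hmax)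
  have hyreg : ¬ p ∣ orderOf y0 := fun h => hy0.2.1 (by
    rw [blockCoeff_eq_zero_of_dvd hM hB h]; exact ideal_zero hM)
  have huy : Commute u y0 :=
    (Subgroup.mem_centralizer_singleton_iff.1 (hyle (Subgroup.mem_zpowers u)))
  have hcomm : ∀ g : G, Commute g (u * y0) → Commute g u ∧ Commute g y0 := by
    intro g hg
    have hgu : Commute u g := BrauerBlocksPPart.commute_pPart hp (m := 1)
      (⟨y0, rfl, huy, ⟨d, huord⟩, hyreg⟩ : IsPPart p (u * y0) u) hp.not_dvd_one
      (by rw [pow_one]; exact hg.symm)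
    refine ⟨hgu.symm, ?_⟩
    have h1 := (Commute.inv_right hgu.symm).mul_right hg
    rwa [inv_mul_cancel_left] at h1
  -- the values at `u y` do not vanish
  have hne : ∀ χ ∈ B, (χ : G → ℂ) (u * y0) ≠ 0 := by
    intro χ hχ h0
    obtain ⟨φ, hφ, hφ0⟩ := BlockContrib.exists_height_zero hM hB
    have hsame := sameBlock_of_mem hM hB hχ hφ (u * y0)
    rw [centralChar, h0, mul_zero, zero_div, zero_sub] at hsame
    have hφu : MemLocalIdeal M (centralChar (φ : G → ℂ) (u * y0)) := by
      simpa using ideal_neg hsame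
    refine hy0.2.2 φ hφ ?_
    have hv : ((Subgroup.centralizer ({u * y0} : Set G)).index).factorization p =
        ((Subgroup.centralizer ({y0} : Set G)).index).factorization p := by
      have hle : Subgroup.zpowers u ≤ Subgroup.centralizer ({u * y0} : Set G) :=
        Subgroup.zpowers_le.2 (Subgroup.mem_centralizer_singleton_iff.2
          ((Commute.refl u).mul_right huy).eq)
      have hle2 : Subgroup.centralizer ({u * y0} : Set G) ≤ Subgroup.centralizer ({y0} : Set G) :=
        fun g hg => Subgroup.mem_centralizer_singleton_iff.2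
          (hcomm g (Subgroup.mem_centralizer_singleton_iff.1 hg)).2.eq
      have e1 : ∀ K : Subgroup G, (Nat.card K).factorization p + K.index.factorization p =
          (Nat.card G).factorization p := fun K => by
        rw [← K.card_mul_index,
          Nat.factorization_mul Nat.card_pos.ne' Subgroup.index_ne_zero_of_finite,
          Finsupp.add_apply]
      have l1 := (Nat.factorization_le_iff_dvd Nat.card_pos.ne' Nat.card_pos.ne').2
        (Subgroup.card_dvd_of_le hle) p
      have l2 := (Nat.factorization_le_iff_dvd Nat.card_pos.ne' Nat.card_pos.ne').2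
        (Subgroup.card_dvd_of_le hle2) p
      have e2 : (Nat.card (Subgroup.zpowers u)).factorization p =
          (Nat.card (Subgroup.centralizer ({y0} : Set G))).factorization p := by
        rw [hycard, Nat.Prime.factorization_pow hp, Finsupp.single_eq_same]
      have := e1 (Subgroup.centralizer ({u * y0} : Set G))
      have := e1 (Subgroup.centralizer ({y0} : Set G))
      omega
    have hvφ : (charDegree (φ : G → ℂ)).factorization p =
        ((Subgroup.centralizer ({y0} : Set G)).index).factorization p := by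
      have h1 := BlockContrib.minExp_add_defect hM hB
      have h2 := BlockContribBounds.card_defectGroup hM hB
        (BrauerPairs81Max.isDefectGroup_of_maximal hM hmax)
      have h3 : (Nat.card (Subgroup.centralizer ({y0} : Set G))).factorization p =
          blockDefect p B := by
        have := congrArg (fun n => n.factorization p) (hycard.symm.trans h2)
        simpa [Nat.Prime.factorization_pow hp] using this
      have h4 : (Nat.card (Subgroup.centralizer ({y0} : Set G))).factorization p +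
          ((Subgroup.centralizer ({y0} : Set G)).index).factorization p =
            (Nat.card G).factorization p := by
        rw [← (Subgroup.centralizer ({y0} : Set G)).card_mul_index,
          Nat.factorization_mul Nat.card_pos.ne' Subgroup.index_ne_zero_of_finite,
          Finsupp.add_apply]
      rw [BlockContrib.exp_eq_add (p := p) hφ, hφ0]
      omega
    -- both ratios are units
    have hunit : ∀ w : G,
        ((Subgroup.centralizer ({w} : Set G)).index).factorization p =
          (charDegree (φ : G → ℂ)).factorization p →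
        MemLocalRing M (((Subgroup.centralizer ({w} : Set G)).index : ℂ) / (φ : G → ℂ) 1) ∧
        MemLocalRing M ((φ : G → ℂ) 1 / ((Subgroup.centralizer ({w} : Set G)).index : ℂ)) := by
      intro w hw
      set i := (Subgroup.centralizer ({w} : Set G)).index
      set δ := charDegree (φ : G → ℂ)
      have key : ∀ n m : ℕ, n ≠ 0 → m ≠ 0 → n.factorization p = m.factorization p →
          MemLocalRing M ((n : ℂ) / (m : ℂ)) := by
        intro n m hn hm hnm
        obtain ⟨n', hn'⟩ := Nat.ordProj_dvd n p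
        have hm' := Nat.not_dvd_ordCompl hp hm
        have em : (m : ℂ) = (p : ℂ) ^ m.factorization p * ((m / p ^ m.factorization p : ℕ) : ℂ) := by
          rw [← Nat.cast_pow, ← Nat.cast_mul, Nat.ordProj_mul_ordCompl_eq_self]
        rw [em, hn', hnm, Nat.cast_mul, Nat.cast_pow, mul_div_mul_left _ _
          (pow_ne_zero _ (Nat.cast_ne_zero.2 hp.ne_zero)), div_eq_mul_inv]
        exact (localRing hM).mul_mem (natCast_mem (localRing hM) _) (inv_natCast_mem hM hm')
      rw [CharAverage.irr_apply_one φ]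
      exact ⟨key i δ Subgroup.index_ne_zero_of_finite (ClassAlgebraVal.charDegree_pos φ).ne' hw,
        key δ i (ClassAlgebraVal.charDegree_pos φ).ne' Subgroup.index_ne_zero_of_finite hw.symm⟩
    have hi0 : ((Subgroup.centralizer ({u * y0} : Set G)).index : ℂ) ≠ 0 :=
      Nat.cast_ne_zero.2 Subgroup.index_ne_zero_of_finite
    have hval : MemLocalIdeal M ((φ : G → ℂ) (u * y0)) := by
      have := ideal_mul_left hM (hunit (u * y0) (hv.trans hvφ.symm)).2 hφu
      convert this using 1
      rw [centralChar]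
      field_simp [irr_one_ne_zero φ]
    have hvy : MemLocalIdeal M ((φ : G → ℂ) y0) := by
      have := ideal_sub hM hval (value_congr hM φ
        (k := d) (by rw [← huord, pow_orderOf_eq_one]) huy)
      simpa using this
    have := ideal_mul_left hM (hunit y0 hvφ.symm).1 hvy
    convert this using 1
    rw [centralChar]; ring
  -- generators
  set gs := CharBasicCyclic.gens (Subgroup.zpowers u) with hgs
  have hgens : ∀ a ∈ gs, Subgroup.zpowers a = Subgroup.zpowers u := fun a ha =>
    CharBasicCyclic.mem_gens.1 ha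
  have hmemH : ∀ a ∈ gs, a ∈ (Cen (Subgroup.zpowers u)) := fun a ha => hPH (hgens a ha ▸ Subgroup.mem_zpowers a)
  have hcen : ∀ a ∈ gs, ∀ ha : a ∈ (Cen (Subgroup.zpowers u)), (⟨a, ha⟩ : (Cen (Subgroup.zpowers u))) ∈ Subgroup.center (Cen (Subgroup.zpowers u)) := fun a h ha =>
    hZc (Subgroup.mem_subgroupOf.2 ((hgens a h).le (Subgroup.mem_zpowers a)))
  -- the character of `P` carrying the decomposition numbers
  have hD : ∀ χ : IrrCharacter G, IsCharacter (Subgroup.zpowers u)
      (fun a => decVal c θ χ ⟨a, hPH a.2⟩) := by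
    intro χ
    refine cast (congrArg _ (funext fun a => (rfl : _ = decVal c θ χ ⟨a, hPH a.2⟩))) ?_
    simp only [decVal]
    have e : (fun a : Subgroup.zpowers u => ∑ ψ : IrrCharacter (Cen (Subgroup.zpowers u)), if ψ ∈ c then
        classInner (fun h : (Cen (Subgroup.zpowers u)) => (χ : G → ℂ) h) (ψ : (Cen (Subgroup.zpowers u)) → ℂ) *
          ((ψ : (Cen (Subgroup.zpowers u)) → ℂ) 1 / (θ : (Cen (Subgroup.zpowers u)) → ℂ) 1) *
            ((ψ : (Cen (Subgroup.zpowers u)) → ℂ) ⟨a, hPH a.2⟩ / (ψ : (Cen (Subgroup.zpowers u)) → ℂ) 1) else 0) =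
        ∑ ψ : IrrCharacter (Cen (Subgroup.zpowers u)), fun a : Subgroup.zpowers u => if ψ ∈ c then
          classInner (fun h : (Cen (Subgroup.zpowers u)) => (χ : G → ℂ) h) (ψ : (Cen (Subgroup.zpowers u)) → ℂ) *
            ((ψ : (Cen (Subgroup.zpowers u)) → ℂ) 1 / (θ : (Cen (Subgroup.zpowers u)) → ℂ) 1) *
              ((ψ : (Cen (Subgroup.zpowers u)) → ℂ) ⟨a, hPH a.2⟩ / (ψ : (Cen (Subgroup.zpowers u)) → ℂ) 1) else 0 := by
      funext a; rw [Finset.sum_apply]
    rw [e]
    refine CharBasicDecomp.isCharacter_sum _ _ fun ψ _ => ?_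
    by_cases hψ : ψ ∈ c
    · simp only [if_pos hψ]
      obtain ⟨m, hm⟩ := CharBasicOrth.classInner_isCharacter
        (CharInduced.isCharacter_res (Cen (Subgroup.zpowers u)) (CharBasic.isCharacter_of_isIrrCharacter χ.2))
        (CharBasic.isCharacter_of_isIrrCharacter ψ.2)
      obtain ⟨q, hq⟩ := degree_dvd hM hc hZc hDc hθ hθc hψ
      have hq' : (ψ : (Cen (Subgroup.zpowers u)) → ℂ) 1 / (θ : (Cen (Subgroup.zpowers u)) → ℂ) 1 = (q : ℂ) := by
        rw [CharAverage.irr_apply_one ψ, hq, Nat.cast_mul, ← CharAverage.irr_apply_one θ]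
        field_simp [irr_one_ne_zero θ]
      let lam : Subgroup.zpowers u →* ℂ :=
        { toFun := fun a => (ψ : (Cen (Subgroup.zpowers u)) → ℂ) ⟨a, hPH a.2⟩ / (ψ : (Cen (Subgroup.zpowers u)) → ℂ) 1
          map_one' := div_self (irr_one_ne_zero ψ)
          map_mul' := fun a b => by
            rw [show (⟨((a * b : Subgroup.zpowers u) : G), hPH (a * b).2⟩ : (Cen (Subgroup.zpowers u))) =
              ⟨a, hPH a.2⟩ * ⟨b, hPH b.2⟩ from rfl,
              char_center_mul ψ (hZc (Subgroup.mem_subgroupOf.2 a.2))]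
            ring }
      rw [hm, hq']
      have h2 := CharBasicDecomp.isCharacter_nsmul
        (CharBasicDecomp.isCharacter_linear lam.toHomUnits) (m * q)
      convert h2 using 1
      funext a
      simp [lam]
    · simp only [if_neg hψ]
      exact CharBasicDecomp.isCharacter_zero
  -- orthogonality
  have horth : ∀ a, (ha : a ∈ gs) → ∑ χ : IrrCharacter G,
      (if χ ∈ B then decVal c θ χ ⟨a, hmemH a ha⟩ * conj (decVal c θ χ ⟨a, hmemH a ha⟩) else 0) =
        (Nat.card (Subgroup.zpowers u) : ℂ) := by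
    intro a ha
    have haH : ∀ g, g ∈ (Cen (Subgroup.zpowers u)) ↔ Commute a g := fun g => by
      rw [← centralizer_zpowers a g, hgens a ha]
    have hao : ∃ k, orderOf a = p ^ k := ⟨d, by rw [← Nat.card_zpowers, hgens a ha, hd]⟩
    have hind : IsInducedBlock M (Cen (Subgroup.zpowers u)) c B := induced_of_pairOf hM hmax.1
    have h1r : ¬ p ∣ orderOf (1 : (Cen (Subgroup.zpowers u))) := by rw [orderOf_one]; exact hp.not_dvd_one
    have h := sum_part_mul_induced haH hM hao hind h1r h1r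
    simp only [part_eq_decVal hM hc hZc hZp hθ hθc _ (hcen a ha (hmemH a ha)) h1r] at h
    have hk : kern c (1 : (Cen (Subgroup.zpowers u))) 1 = (Nat.card (Cen (Subgroup.zpowers u)) : ℂ) * blockCoeff c 1 := by
      rw [kern, BlockTheoryCentre.blockCoeff_eq_sum, ← mul_assoc,
        mul_inv_cancel₀ (Nat.cast_ne_zero.2 Nat.card_pos.ne' : (Nat.card (Cen (Subgroup.zpowers u)) : ℂ) ≠ 0), one_mul]
    rw [hk, hθ.blockCoeff_regular hM hZc hZp hc hθc h1r, hZ,
      Nat.card_congr (Subgroup.subgroupOfEquivOfLe hPH).toEquiv, CharAverage.irr_apply_one θ,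
      map_natCast] at h
    have hH0 : (Nat.card (Cen (Subgroup.zpowers u)) : ℂ) ≠ 0 := Nat.cast_ne_zero.2 Nat.card_pos.ne'
    have ht0 : (charDegree (θ : (Cen (Subgroup.zpowers u)) → ℂ) : ℂ) ≠ 0 :=
      Nat.cast_ne_zero.2 (ClassAlgebraVal.charDegree_pos θ).ne'
    refine mul_right_cancel₀ (mul_ne_zero ht0 ht0) ?_
    rw [Finset.sum_mul]
    refine Eq.trans (Finset.sum_congr rfl fun χ _ => ?_) (h.trans ?_)
    · split_ifs
      · rw [map_mul, map_natCast]; ring
      · rw [zero_mul]
    · field_simp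
  -- no decomposition number vanishes
  have hnz : ∀ χ ∈ B, ∀ a ∈ gs, ∀ ha : a ∈ (Cen (Subgroup.zpowers u)), decVal c θ χ ⟨a, ha⟩ ≠ 0 := by
    intro χ hχ a ha haH h0
    have hall : ∀ b ∈ gs, ∀ hb : b ∈ (Cen (Subgroup.zpowers u)), decVal c θ χ ⟨b, hb⟩ = 0 := by
      intro b hb hbH
      have ha' : a ∈ Subgroup.zpowers u := hgens a ha ▸ Subgroup.mem_zpowers a
      have hbmem : b ∈ Subgroup.zpowers a := hgens a ha ▸ hgens b hb ▸ Subgroup.mem_zpowers b
      obtain ⟨j, rfl⟩ := (Submonoid.mem_powers_iff b a).1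
        (mem_powers_iff_mem_zpowers.2 hbmem)
      have hao : orderOf a = p ^ d := by rw [← Nat.card_zpowers, hgens a ha, hd]
      have hj : j.Coprime (Nat.card (Subgroup.zpowers u)) := by
        rw [hd, ← hao]
        have : orderOf (a ^ j) = orderOf a := by
          rw [hao, ← Nat.card_zpowers, hgens _ hb, hd]
        rw [orderOf_pow, Nat.div_eq_self] at this
        rcases this with h | h
        · exact absurd h (orderOf_pos a).ne'
        · exact Nat.coprime_comm.1 h
      obtain ⟨σ, hσ⟩ := GaloisChar80.exists_aut_char hj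
      have h1 := hσ _ (hD χ) ⟨a, ha'⟩
      rw [h0, map_zero] at h1
      exact h1.symm
    refine hne χ hχ ?_
    have hyH : y0 ∈ (Cen (Subgroup.zpowers u)) := (hH y0).2 huy
    have hys : ¬ p ∣ orderOf (⟨y0, hyH⟩ : (Cen (Subgroup.zpowers u))) := by rw [Subgroup.orderOf_mk]; exact hyreg
    have h := apply_eq_sum_part hH hM ⟨d, huord⟩ hB χ hys
    rw [if_pos hχ] at h
    refine h.trans (Finset.sum_eq_zero fun b hb => ?_)
    have hpair : IsBrauerPairOf p M B (Subgroup.zpowers u) b :=
      BrauerPairs81Induced.isBrauerPairOf_of_induced hM hPp (Finset.mem_filter.1 hb).2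
    obtain ⟨n, hn, hnb⟩ := BrauerPairs81Max.exists_normalizer_of_pairOf hM hmax hpair
    have hnH : ∀ x, x ∈ (Cen (Subgroup.zpowers u)) ↔ n * x * n⁻¹ ∈ (Cen (Subgroup.zpowers u)) :=
      conj_mem_iff_of_normalizer (normalizer_le_normalizer_cen hn)
    rw [cjA_eb hnH] at hnb
    obtain rfl := eb_injective hnb
    obtain ⟨s, hs⟩ := (conjEquiv n (Cen (Subgroup.zpowers u)) (Cen (Subgroup.zpowers u)) hnH).surjective ⟨y0, hyH⟩
    have hsreg : ¬ p ∣ orderOf s := by rw [← MulEquiv.orderOf_eq (conjEquiv n (Cen (Subgroup.zpowers u)) (Cen (Subgroup.zpowers u)) hnH) s, hs]; exact hys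
    have hn' : n⁻¹ * u * n ∈ gs := by
      rw [hgs, CharBasicCyclic.mem_gens]
      have h1 : (Subgroup.zpowers u).map (MulAut.conj n⁻¹).toMonoidHom =
          Subgroup.zpowers (n⁻¹ * u * n) := by
        rw [MonoidHom.map_zpowers]; simp
      rw [← h1]
      exact cjS_of_normalizer ((Subgroup.normalizer _).inv_mem hn)
    have h2 := part_conj hnH (n⁻¹ * u * n) c χ s
    rw [show n * (n⁻¹ * u * n) * n⁻¹ = u by group, hs] at h2
    rw [h2]
    have h3 := part_eq_decVal hM hc hZc hZp hθ hθc χ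
      (hcen _ hn' (hmemH _ hn')) hsreg
    rw [h3, hall _ hn' (hmemH _ hn'), zero_mul]
  -- the mean inequality
  set D : IrrCharacter G → G → ℂ := fun χ a =>
    if ha : a ∈ (Cen (Subgroup.zpowers u)) then decVal c θ χ ⟨a, ha⟩ else 0 with hDdef
  have hmean : ∀ χ ∈ B, (gs.card : ℝ) ≤ ∑ a ∈ gs, ‖D χ a‖ ^ 2 := by
    intro χ hχ
    have hu' : (u : G) ∈ (Subgroup.zpowers u) := Subgroup.mem_zpowers u
    have hgen' : Subgroup.zpowers (⟨u, hu'⟩ : (Subgroup.zpowers u)) = ⊤ := by
      refine (Subgroup.eq_top_iff' _).2 fun x => ?_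
      obtain ⟨i, hi⟩ := Subgroup.mem_zpowers_iff.1 x.2
      exact ⟨i, Subtype.ext hi⟩
    set gs' := CharBasicCyclic.gens (Subgroup.zpowers (⟨u, hu'⟩ : (Subgroup.zpowers u))) with hgs'
    have hmem : ∀ x : (Subgroup.zpowers u), x ∈ gs' ↔ (x : G) ∈ gs := by
      intro x
      rw [hgs', hgs, CharBasicCyclic.mem_gens, CharBasicCyclic.mem_gens, hgen']
      refine ⟨fun h => le_antisymm (Subgroup.zpowers_le.2 x.2) fun z hz => ?_,
        fun h => (Subgroup.eq_top_iff' _).2 fun z => ?_⟩
      · obtain ⟨i, hi⟩ := Subgroup.mem_zpowers_iff.1 (h ▸ Subgroup.mem_top (⟨z, hz⟩ : (Subgroup.zpowers u)))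
        exact ⟨i, congrArg Subtype.val hi⟩
      · obtain ⟨i, hi⟩ := Subgroup.mem_zpowers_iff.1 (h.symm ▸ z.2 : (z : G) ∈ Subgroup.zpowers (x : G))
        exact ⟨i, Subtype.ext hi⟩
    have h1 := Cfsg.Agent.S4574.prod_norm_sq_ge_one (⟨u, hu'⟩ : (Subgroup.zpowers u)) (hD χ)
      (fun x hx => hnz χ hχ x ((hmem x).1 hx) _)
    have hmap : gs = gs'.map ⟨Subtype.val, Subtype.val_injective⟩ := by
      ext a
      simp only [Finset.mem_map, Function.Embedding.coeFn_mk]
      refine ⟨fun ha => ⟨⟨a, hgens a ha ▸ Subgroup.mem_zpowers a⟩, (hmem _).2 ha, rfl⟩, ?_⟩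
      rintro ⟨x, hx, rfl⟩
      exact (hmem x).1 hx
    rw [hmap, Finset.sum_map, Finset.card_map]
    simp only [Function.Embedding.coeFn_mk, hDdef]
    have hpos : 0 < gs'.card := Finset.card_pos.2 ⟨⟨u, hu'⟩, CharBasicCyclic.mem_gens.2 rfl⟩
    have hcast : (0 : ℝ) < gs'.card := by exact_mod_cast hpos
    have h2 := Real.geom_mean_le_arith_mean_weighted gs' (fun _ => 1 / (gs'.card : ℝ))
      (fun x : (Subgroup.zpowers u) => ‖decVal c θ χ ⟨x, hPH x.2⟩‖ ^ 2) (fun _ _ => by positivity)
      (by rw [Finset.sum_const, nsmul_eq_mul, mul_one_div, div_self hcast.ne'])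
      (fun _ _ => sq_nonneg _)
    rw [Real.finsetProd_rpow _ _ (fun _ _ => sq_nonneg _)] at h2
    have h3 := (Real.one_le_rpow (z := 1 / (gs'.card : ℝ)) h1 (by positivity)).trans h2
    rw [← Finset.mul_sum, one_div, inv_mul_eq_div, le_div_iff₀ hcast, one_mul] at h3
    refine h3.trans (le_of_eq (Finset.sum_congr rfl fun x _ => ?_))
    rw [dif_pos (hPH x.2)]
  have htot : ∀ a ∈ gs,
      ∑ χ ∈ BlockContribBounds.members B, ‖D χ a‖ ^ 2 =
        (Nat.card (Subgroup.zpowers u) : ℝ) := by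
    intro a ha
    have h := horth a ha
    rw [← Finset.sum_filter, BlockContribBounds.filter_eq_members B] at h
    have e : ((∑ χ ∈ BlockContribBounds.members B, ‖D χ a‖ ^ 2 : ℝ) : ℂ) =
        ((Nat.card (Subgroup.zpowers u) : ℝ) : ℂ) := by
      rw [Complex.ofReal_natCast, ← h, Complex.ofReal_sum]
      refine Finset.sum_congr rfl fun χ _ => ?_
      simp only [hDdef, dif_pos (hmemH a ha)]
      rw [Complex.mul_conj, Complex.normSq_eq_norm_sq]
    exact_mod_cast e
  have hfinal : (gs.card : ℝ) * Nat.card B ≤ gs.card * Nat.card (Subgroup.zpowers u) := by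
    calc (gs.card : ℝ) * Nat.card B
        = ∑ χ ∈ BlockContribBounds.members B, (gs.card : ℝ) := by
          rw [Finset.sum_const, nsmul_eq_mul, BlockContribBounds.card_members, mul_comm]
      _ ≤ ∑ χ ∈ BlockContribBounds.members B, ∑ a ∈ gs, ‖D χ a‖ ^ 2 :=
          Finset.sum_le_sum fun χ hχ => hmean χ (BlockContribBounds.mem_members.1 hχ)
      _ = _ := by rw [Finset.sum_comm, Finset.sum_congr rfl htot, Finset.sum_const, nsmul_eq_mul]
  have hg0 : (0 : ℝ) < gs.card := by
    exact_mod_cast Finset.card_pos.2 ⟨u, CharBasicCyclic.mem_gens.2 rfl⟩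
  exact_mod_cast le_of_mul_le_mul_left hfinal hg0

/-- A cyclic defect group without fusion on its pairs gives one Brauer character. -/
theorem blockRank_eq_one (hM : IsPModular p M) (hmax : IsMaximalBrauerPair p M B P c)
    (hcyc : IsCyclic P)
    (hfus : ∀ a : BrauerPairIdx G, PLE p M a ⟨P, c⟩ → IsCyclic a.1 → ∀ g : G,
      PLE p M (cP g a) ⟨P, c⟩ → ∀ x ∈ a.1, g * x * g⁻¹ = x) :
    blockRank p B = 1 := by
  have h1 := rank_add_le hM hmax hfus
  have h2 := card_le hM hmax hcyc
  have h3 := blockRank_pos hM hmax.1.2.1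
  have h4 : 0 < Nat.card P := Nat.card_pos
  omega

end Cfsg.Agent.BlockCyclicRank81
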