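import Cfsg.Agent.Lib.BlockMajor81
import Cfsg.Agent.Lib.BlockCyclicRank81

/-!
Blocks with abelian defect group: control of pairs by the inertial group, the blocks of
centralisers, and nilpotent blocks have one Brauer character and `|P|` characters.
-/

set_option autoImplicit false

namespace Cfsg.Agent.BlockAbelian81

open Cfsg Cfsg.Agent.BlockTheoryLocalRing Cfsg.Agent.BlockTheoryCentre Cfsg.Agent.BlockTheoryIdem
open Cfsg.Agent.BlockTheoryDefect Cfsg.Agent.BlockContrib Cfsg.Agent.BlockContribBounds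
open Cfsg.Agent.BrauerPairs81Base Cfsg.Agent.BrauerPairs81Pairs Cfsg.Agent.BrauerPairs81Conj
open Cfsg.Agent.BrauerPairs81Max Cfsg.Agent.BrauerPairs81Stab Cfsg.Agent.BrauerPairs81Local
open Cfsg.Agent.BrauerPairs81Fusion Cfsg.Agent.BrauerPairs81Nilpotent
open Cfsg.Agent.BrauerPairs81Induced Cfsg.Agent.BlockCyclicRank81

attribute [local instance] Classical.propDecidable

set_option linter.unusedSectionVars false

section
variable {p : ℕ} [Fact p.Prime] {M : Ideal AlgInt} {G : Type*} [Group G] [Fintype G]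
  {B : Set (IrrCharacter G)} {P : Subgroup G} {c : Set (IrrCharacter (Cen P))}

/-- Pairs below an abelian maximal pair are fused by its inertial group. -/
theorem fus_control (hM : IsPModular p M) (hmax : IsMaximalBrauerPair p M B P c)
    (hab : ∀ x ∈ P, ∀ y ∈ P, x * y = y * x) {a : BrauerPairIdx G} (ha : PLE p M a ⟨P, c⟩) {g : G}
    (hga : PLE p M (cP g a) ⟨P, c⟩) :
    ∃ y ∈ stab (⟨P, c⟩ : BrauerPairIdx G), ∃ z ∈ Cen a.1, g = y * z := by
  obtain ⟨Q, f⟩ := a
  have hQP : Q ≤ P := subgroup_le_of_subpairLE ha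
  have hPC : P ≤ Cen Q := fun u hu =>
    Subgroup.mem_centralizer_iff.mpr fun q hq => hab q (hQP hq) u hu
  have hQf := isBrauerPairOf_down hM ha hmax.1
  have hN : Cen Q ≤ Subgroup.normalizer (Q : Set G) := Subgroup.centralizer_le_normalizer _
  have hn : IsNormalSubpair p M Q f P c := isNormalSubpair_of_le hM hmax.1.1 ha (hPC.trans hN)
  have hle' : PLE p M ⟨Q, f⟩ (cP g⁻¹ ⟨P, c⟩) := by
    have h := ple_cP g⁻¹ hga
    rwa [cP_inv_cP] at h
  have hQx : Q ≤ cjS g⁻¹ P := subgroup_le_of_subpairLE hle'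
  have habx : ∀ x ∈ cjS g⁻¹ P, ∀ y ∈ cjS g⁻¹ P, x * y = y * x := by
    rintro _ ⟨x, hx, rfl⟩ _ ⟨y, hy, rfl⟩
    rw [← map_mul, ← map_mul, hab x hx y hy]
  have hxP : cjS g⁻¹ P ≤ Cen Q := fun u hu =>
    Subgroup.mem_centralizer_iff.mpr fun q hq => habx q (hQx hq) u hu
  have hn' : IsNormalSubpair p M Q f (cjS g⁻¹ P) (conjBlock P g⁻¹ c) :=
    isNormalSubpair_of_le hM (isBrauerPair_conj g⁻¹ hmax.1.1) hle' (hxP.trans hN)
  obtain ⟨D, hD⟩ := exists_defectGroup hM hQf.1.2
  obtain ⟨y, hy, hyD⟩ := exists_conj_defect_le hM hmax hQf le_rfl hN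
    (fun t => (coeff_eb_coe _ f t).symm) hQf.1.2 hD
  have hcard : Nat.card D ≤ Nat.card P := by
    rw [Nat.card_congr (D.equivMapOfInjective _ (Cen Q).subtype_injective).toEquiv,
      ← card_cjS y (D.map (Cen Q).subtype)]
    exact Subgroup.card_le_of_le hyD
  obtain ⟨z, hz, hzle⟩ := exists_conj_into hM le_rfl hN hQf.1.2
    (fun t => (coeff_eb_coe _ f t).symm) hD hPC hn hcard hxP hn'
  have heq : cP (z * g⁻¹) ⟨P, c⟩ = ⟨P, c⟩ := by
    rw [← cP_cP]
    exact ple_antisymm_top hM hmax.1.1 hzle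
      (Subgroup.eq_of_le_of_card_ge (subgroup_le_of_subpairLE hzle :)
        (le_of_eq (by rw [show (cP z (cP g⁻¹ ⟨P, c⟩)).1 = cjS z (cjS g⁻¹ P) from rfl,
          card_cjS, card_cjS])))
  exact ⟨(z * g⁻¹)⁻¹, inv_mem (mem_stab.mpr heq : z * g⁻¹ ∈ _), z, hz, by group⟩

/-- The block of a centraliser below an abelian maximal pair is major. -/
theorem defect_cen (hM : IsPModular p M) (hmax : IsMaximalBrauerPair p M B P c)
    (hab : ∀ x ∈ P, ∀ y ∈ P, x * y = y * x) {Q : Subgroup G} (hQP : Q ≤ P)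
    {f : Set (IrrCharacter (Cen Q))} (hle : SubpairLE p M Q f P c) :
    blockDefect p f = blockDefect p B := by
  have hPQ : P ≤ Cen Q := fun u hu =>
    Subgroup.mem_centralizer_iff.mpr fun q hq => hab q (hQP hq) u hu
  obtain ⟨c₀, hc₀, -⟩ := exists_maximal_cen hM hmax hQP hPQ hle
  have h1 := card_defectGroup hM hc₀.1.2.1 (isDefectGroup_of_maximal hM hc₀)
  have h2 := card_defectGroup hM hmax.1.2.1 (isDefectGroup_of_maximal hM hmax)
  rw [Nat.card_congr (Subgroup.subgroupOfEquivOfLe hPQ).toEquiv, h2] at h1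
  exact ((Nat.pow_right_injective hM.1.two_le) h1).symm

/-- A major subsection below an abelian maximal pair with one Brauer character. -/
theorem card_le_of_rank_one (hM : IsPModular p M) (hmax : IsMaximalBrauerPair p M B P c)
    (hab : ∀ x ∈ P, ∀ y ∈ P, x * y = y * x) {u : G} (hu : u ∈ P)
    {b : Set (IrrCharacter (Cen (Subgroup.zpowers u)))}
    (hle : SubpairLE p M (Subgroup.zpowers u) b P c) (hl : blockRank p b = 1) :
    Nat.card B ≤ Nat.card P := by
  rw [card_defectGroup hM hmax.1.2.1 (isDefectGroup_of_maximal hM hmax)]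
  have huo : ∃ k, orderOf u = p ^ k := by
    obtain ⟨k, hk⟩ := IsPGroup.iff_orderOf.mp hmax.1.1.1 ⟨u, hu⟩
    exact ⟨k, by rw [← hk, ← Subgroup.orderOf_coe]⟩
  exact BlockMajor81.card_le (centralizer_zpowers u) hM huo
    (induced_of_pairOf hM (isBrauerPairOf_down hM hle hmax.1))
    (defect_cen hM hmax hab (Subgroup.zpowers_le.2 hu) hle) hl

/-- A block with one Brauer character has at most `p ^ d` characters. -/
theorem card_le_pow_of_rank_one (hM : IsPModular p M) (hB : IsPBlock M B)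
    (hl : blockRank p B = 1) : Nat.card B ≤ p ^ blockDefect p B := by
  obtain ⟨F, d, -, hF, hsum⟩ := S4675.main hM hB hl
  rw [finsum_eq_members] at hsum
  rw [card_members, ← hsum, Finset.card_eq_sum_ones]
  refine Finset.sum_le_sum fun χ hχ => Nat.one_le_pow _ _ (Nat.pos_of_ne_zero fun h0 => ?_)
  have h1r : IsPRegular p (1 : G) := by simp [IsPRegular, hM.1.ne_one]
  exact irr_one_ne_zero χ (by rw [hF χ (mem_members.1 hχ) 1 h1r, h0]; simp)

/-- In a nilpotent block with abelian defect group nothing is fused. -/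
theorem fix_of_nilpotent (hM : IsPModular p M) (hmax : IsMaximalBrauerPair p M B P c)
    (hab : ∀ x ∈ P, ∀ y ∈ P, x * y = y * x) (hst : stab (⟨P, c⟩ : BrauerPairIdx G) ≤ Cen P)
    (a : BrauerPairIdx G) (ha : PLE p M a ⟨P, c⟩) (g : G) (hga : PLE p M (cP g a) ⟨P, c⟩)
    (x : G) (hx : x ∈ a.1) : g * x * g⁻¹ = x := by
  obtain ⟨y, hy, z, hz, rfl⟩ := fus_control hM hmax hab ha hga
  have h1 : x * z = z * x := Subgroup.mem_centralizer_iff.mp hz x hx
  have h2 : x * y = y * x :=
    Subgroup.mem_centralizer_iff.mp (hst hy) x (subgroup_le_of_subpairLE ha hx)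
  calc y * z * x * (y * z)⁻¹ = y * (z * x) * z⁻¹ * y⁻¹ := by group
    _ = y * x * y⁻¹ := by rw [← h1]; group
    _ = x := by rw [← h2]; group

end

universe u

/-- A nilpotent block with abelian defect group has one Brauer character and `|P|` characters. -/
theorem rank_one_card {p : ℕ} [Fact p.Prime] {M : Ideal AlgInt} (hM : IsPModular p M) :
    ∀ (n : ℕ) {G : Type u} [Group G] [Fintype G], Fintype.card G ≤ n →
      ∀ {B : Set (IrrCharacter G)} {P : Subgroup G} {c : Set (IrrCharacter (Cen P))},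
      IsMaximalBrauerPair p M B P c → (∀ x ∈ P, ∀ y ∈ P, x * y = y * x) →
      stab (⟨P, c⟩ : BrauerPairIdx G) ≤ Cen P →
      blockRank p B = 1 ∧ Nat.card B = Nat.card P := by
  intro n
  induction n with
  | zero =>
    intro G _ _ h
    exact absurd h (by simpa using Fintype.card_pos (α := G))
  | succ n ih =>
    intro G _ _ hn B P c hmax hab hst
    have hB := hmax.1.2.1
    have hD := isDefectGroup_of_maximal hM hmax
    have hlow := rank_add_le hM hmax fun a ha _ g hga x hx =>
      fix_of_nilpotent hM hmax hab hst a ha g hga x hx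
    have hpos := blockRank_pos hM hB
    have hP0 : 0 < Nat.card P := Nat.card_pos
    by_cases hcen : P ≤ Subgroup.center G
    · haveI : P.Normal := ⟨fun x hx g => by
        rwa [Subgroup.mem_center_iff.1 (hcen hx) g, mul_inv_cancel_right]⟩
      have hl := BlockCentral81.blockRank_eq_one hM hB hD hcen
      refine ⟨hl, le_antisymm ?_ (by omega)⟩
      rw [card_defectGroup hM hB hD]
      exact card_le_pow_of_rank_one hM hB hl
    · obtain ⟨u, hu, huc⟩ := SetLike.not_le_iff_exists.1 hcen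
      obtain ⟨b, hb⟩ := exists_subpair hM hmax.1.1 (Subgroup.zpowers_le.2 hu)
      have hPQ : P ≤ Cen (Subgroup.zpowers u) := fun v hv =>
        (centralizer_zpowers u v).2 (hab u hu v hv)
      obtain ⟨c₀, hc₀, hst₀⟩ := exists_maximal_cen hM hmax (Subgroup.zpowers_le.2 hu) hPQ hb
      have hlt : Fintype.card (Cen (Subgroup.zpowers u)) ≤ n := by
        have hne : Cen (Subgroup.zpowers u) ≠ ⊤ := fun h => huc (Subgroup.mem_center_iff.2 fun g =>
          ((centralizer_zpowers u g).1 (h ▸ Subgroup.mem_top g)).eq.symm)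
        obtain ⟨g, hg⟩ := not_forall.1 fun h => hne ((Subgroup.eq_top_iff' _).2 h)
        have := Fintype.card_lt_of_injective_of_notMem
          (Subtype.val : Cen (Subgroup.zpowers u) → G) Subtype.val_injective (b := g)
          (by rintro ⟨x, rfl⟩; exact hg x.2)
        omega
      obtain ⟨hl, -⟩ := ih hlt hc₀ (fun x hx y hy => Subtype.ext (hab _ hx _ hy)) fun x hx =>
        Subgroup.mem_centralizer_iff.mpr fun y hy => Subtype.ext
          (Subgroup.mem_centralizer_iff.mp (hst ((hst₀ x).mp hx)) _ hy)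
      have hup := card_le_of_rank_one hM hmax hab hu hb hl
      omega

/-- The blocks of centralisers with trivial inertial quotient have one Brauer character. -/
theorem rank_cen_eq_one {p : ℕ} [Fact p.Prime] {M : Ideal AlgInt} {G : Type*} [Group G]
    [Fintype G] {B : Set (IrrCharacter G)} {P : Subgroup G} {c : Set (IrrCharacter (Cen P))}
    (hM : IsPModular p M) (hmax : IsMaximalBrauerPair p M B P c)
    (hab : ∀ x ∈ P, ∀ y ∈ P, x * y = y * x) {u : G} (hu : u ∈ P)
    {b : Set (IrrCharacter (Cen (Subgroup.zpowers u)))}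
    (hle : SubpairLE p M (Subgroup.zpowers u) b P c)
    (hfree : ∀ x ∈ stab (⟨P, c⟩ : BrauerPairIdx G), Commute u x → x ∈ Cen P) :
    blockRank p b = 1 := by
  have hPQ : P ≤ Cen (Subgroup.zpowers u) := fun v hv =>
    (centralizer_zpowers u v).2 (hab u hu v hv)
  obtain ⟨c₀, hc₀, hst₀⟩ := exists_maximal_cen hM hmax (Subgroup.zpowers_le.2 hu) hPQ hle
  refine (rank_one_card hM _ le_rfl hc₀ (fun x hx y hy => Subtype.ext (hab _ hx _ hy))
    fun x hx => Subgroup.mem_centralizer_iff.mpr fun y hy => Subtype.ext ?_).1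
  exact Subgroup.mem_centralizer_iff.mp
    (hfree _ ((hst₀ x).mp hx) ((centralizer_zpowers u _).1 x.2)) _ hy

end Cfsg.Agent.BlockAbelian81
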