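import Cfsg.Agent.Lib.BlockAbelian81

/-!
The number of subsections of a block with abelian defect group and free inertial quotient.
-/

set_option autoImplicit false

namespace Cfsg.Agent.BlockAbelianCount81

open Cfsg Cfsg.Agent.BlockTheoryLocalRing Cfsg.Agent.BlockTheoryCentre Cfsg.Agent.BlockTheoryIdem
open Cfsg.Agent.BrauerPairs81Base Cfsg.Agent.BrauerPairs81Pairs Cfsg.Agent.BrauerPairs81Conj
open Cfsg.Agent.BrauerPairs81Max Cfsg.Agent.BrauerPairs81Local
open Cfsg.Agent.BrauerPairs81Fusion Cfsg.Agent.BrauerPairs81Induced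
open Cfsg.Agent.BlockCyclicRank81 Cfsg.Agent.BlockAbelian81

attribute [local instance] Classical.propDecidable

set_option linter.unusedSectionVars false

variable {p : ℕ} [Fact p.Prime] {M : Ideal AlgInt} {G : Type*} [Group G] [Fintype G]
  {B : Set (IrrCharacter G)} {P : Subgroup G} {c : Set (IrrCharacter (Cen P))}

set_option maxHeartbeats 1000000 in
/-- `e (k - l) = |P| - 1`. -/
theorem card_eq_of_free (hM : IsPModular p M) (hmax : IsMaximalBrauerPair p M B P c)
    (hab : ∀ x ∈ P, ∀ y ∈ P, x * y = y * x)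
    (hfree : ∀ g ∈ stab (⟨P, c⟩ : BrauerPairIdx G), ∀ x ∈ P, x ≠ 1 → g * x * g⁻¹ = x → g ∈ Cen P)
    {e : ℕ} (he : (Cen P).relIndex (stab (⟨P, c⟩ : BrauerPairIdx G)) = e) :
    e * Nat.card B = e * blockRank p B + (Nat.card P - 1) := by
  have hB : IsPBlock M B := hmax.1.2.1
  have hPe : IsBrauerPair p M P c := hmax.1.1
  set T := stab (⟨P, c⟩ : BrauerPairIdx G) with hT
  set E := (Finset.univ.filter (fun u : G => ∃ k, orderOf u = p ^ k)).erase 1 with hE
  suffices h : Nat.card G * (Nat.card P - 1) = e *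
      ∑ u ∈ E, Nat.card (Cen (Subgroup.zpowers u)) * ∑ b ∈ subs M B u, blockRank p b by
    have h1 := card_eq hM hB
    refine Nat.eq_of_mul_eq_mul_left (Nat.card_pos (α := G)) ?_
    rw [Nat.mul_add, h, Nat.mul_left_comm, h1, Nat.mul_add, Nat.mul_left_comm e]

  have hTN : ∀ y ∈ T, y ∈ Subgroup.normalizer (P : Set G) := fun y hy => stab_le_normalizer _ hy
  have hTeq : ∀ y ∈ T, cP y (⟨P, c⟩ : BrauerPairIdx G) = ⟨P, c⟩ := fun y hy => mem_stab.mp hy
  have hconjP : ∀ y ∈ T, ∀ x ∈ P, y * x * y⁻¹ ∈ P := fun y hy x hx =>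
    (Subgroup.mem_normalizer_iff.mp (hTN y hy) x).mp hx
  have hchoice : ∀ u : P, ∃ f, SubpairLE p M (Subgroup.zpowers (u : G)) f P c := fun u =>
    exists_subpair hM hPe (Subgroup.zpowers_le.2 u.2)
  choose f hf using hchoice
  set pr : P → BrauerPairIdx G := fun u => ⟨Subgroup.zpowers (u : G), f u⟩ with hpr
  set S := Finset.univ.filter (fun u : P => (u : G) ≠ 1) with hS
  set Φ : P × G → G × BrauerPairIdx G := fun w =>
    (w.2 * (w.1 : G) * w.2⁻¹, cP w.2 (pr w.1)) with hΦ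
  have hcardS : S.card = Nat.card P - 1 := by
    have : S = Finset.univ.erase (1 : P) := by
      ext u
      simp only [hS, Finset.mem_filter, Finset.mem_univ, true_and, Finset.mem_erase, and_true]
      exact not_congr ⟨fun h => Subtype.ext h, fun h => congrArg Subtype.val h⟩
    rw [this, Finset.card_erase_of_mem (Finset.mem_univ _), Finset.card_univ,
      Nat.card_eq_fintype_card]
  set I : G → Finset (G × BrauerPairIdx G) := fun x =>
    (subs M B x).image fun b => (x, ⟨Subgroup.zpowers x, b⟩) with hI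
  have hconjz : ∀ (u g : G), cjS g (Subgroup.zpowers u) = Subgroup.zpowers (g * u * g⁻¹) :=
    fun u g => MonoidHom.map_zpowers _ _
  -- conjugates of the chosen pairs are the chosen pairs
  have hpr_conj : ∀ (u : P), ∀ y ∈ T, ∀ v : P, y * (u : G) * y⁻¹ = v → cP y (pr u) = pr v := by
    intro u y hy v hv
    have hsub : (cP y (pr u)).1 = Subgroup.zpowers (v : G) := by
      rw [← hv]; exact hconjz u y
    have hle : PLE p M (cP y (pr u)) ⟨P, c⟩ := by
      have h := ple_cP y (show PLE p M (pr u) ⟨P, c⟩ from hf u)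
      rwa [hTeq y hy] at h
    exact ple_unique (c := ⟨P, c⟩) hM hPe hle (hf v) hsub
  -- every subsection is reached
  have himg : ∀ x ∈ E, ((S ×ˢ Finset.univ).image Φ).filter (fun z => z.1 = x) = I x := by
    intro x hx
    ext z
    simp only [Finset.mem_filter, Finset.mem_image, hI]
    constructor
    · rintro ⟨⟨⟨u, g⟩, -, rfl⟩, hz⟩
      have hpair : IsBrauerPairOf p M B (cP g (pr u)).1 (cP g (pr u)).2 :=
        isBrauerPairOf_conj g (isBrauerPairOf_down hM (hf u) hmax.1)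
      obtain ⟨b, hb⟩ := exists_pair_eq (a := cP g (pr u)) (Q := Subgroup.zpowers x)
        (by rw [← hz]; exact hconjz u g)
      rw [hb] at hpair
      exact ⟨b, mem_subs hM hpair, Prod.ext hz.symm hb.symm⟩
    · rintro ⟨b, hb, rfl⟩
      refine ⟨?_, rfl⟩
      obtain ⟨hx1, hxk⟩ := Finset.mem_erase.1 hx
      obtain ⟨k, hk⟩ := (Finset.mem_filter.1 hxk).2
      have hpair : IsBrauerPairOf p M B (Subgroup.zpowers x) b :=
        isBrauerPairOf_of_induced hM (BrauerPairs81Nilpotent.isPGroup_zpowers hk)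
          (Finset.mem_filter.1 hb).2
      obtain ⟨g, hg'⟩ := exists_conj_subpairLE hM hmax hpair
      have hg : PLE p M (cP g (⟨Subgroup.zpowers x, b⟩ : BrauerPairIdx G)) ⟨P, c⟩ := hg'
      have hgx : g * x * g⁻¹ ∈ P :=
        subgroup_le_of_subpairLE hg ⟨x, Subgroup.mem_zpowers x, rfl⟩
      set u : P := ⟨g * x * g⁻¹, hgx⟩ with hu
      have hequ : cP g (⟨Subgroup.zpowers x, b⟩ : BrauerPairIdx G) = pr u :=
        ple_unique (c := ⟨P, c⟩) hM hPe hg (hf u) (hconjz x g)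
      refine ⟨(u, g⁻¹), Finset.mem_product.2 ⟨Finset.mem_filter.2 ⟨Finset.mem_univ _, ?_⟩,
        Finset.mem_univ _⟩, ?_⟩
      · exact fun h => hx1 (conj_eq_one_iff.1 h)
      · refine Prod.ext ?_ ?_
        · show g⁻¹ * (g * x * g⁻¹) * g⁻¹⁻¹ = x
          group
        · show cP g⁻¹ (pr u) = _
          rw [← hequ, cP_inv_cP]
  -- the blocks of these centralisers
  have hrank : ∀ x ∈ E, ∀ b ∈ subs M B x, blockRank p b = 1 ∧
      ∀ z ∈ I x, z.1 = x := by
    intro x hx b hb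
    refine ⟨?_, fun z hz => by obtain ⟨b', -, rfl⟩ := Finset.mem_image.1 hz; rfl⟩
    obtain ⟨hx1, hxk⟩ := Finset.mem_erase.1 hx
    obtain ⟨k, hk⟩ := (Finset.mem_filter.1 hxk).2
    have hpair : IsBrauerPairOf p M B (Subgroup.zpowers x) b :=
      isBrauerPairOf_of_induced hM (BrauerPairs81Nilpotent.isPGroup_zpowers hk)
        (Finset.mem_filter.1 hb).2
    obtain ⟨g, hg'⟩ := exists_conj_subpairLE hM hmax hpair
    have hg : PLE p M (cP g (⟨Subgroup.zpowers x, b⟩ : BrauerPairIdx G)) ⟨P, c⟩ := hg'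
    have hgx : g * x * g⁻¹ ∈ P := subgroup_le_of_subpairLE hg ⟨x, Subgroup.mem_zpowers x, rfl⟩
    -- the maximal pair above the subsection
    have hback : PLE p M (⟨Subgroup.zpowers x, b⟩ : BrauerPairIdx G) (cP g⁻¹ ⟨P, c⟩) := by
      have h := ple_cP g⁻¹ hg
      rwa [cP_inv_cP] at h
    have hxP : x ∈ cjS g⁻¹ P := mem_cjS.2 (by simpa using hgx)
    have habx : ∀ a ∈ cjS g⁻¹ P, ∀ a' ∈ cjS g⁻¹ P, a * a' = a' * a := by
      rintro _ ⟨a, ha, rfl⟩ _ ⟨a', ha', rfl⟩
      rw [← map_mul, ← map_mul, hab a ha a' ha']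
    have hmax' : IsMaximalBrauerPair p M B (cjS g⁻¹ P) (conjBlock P g⁻¹ c) := by
      refine ⟨isBrauerPairOf_conj g⁻¹ hmax.1, fun R r hR hle => ?_⟩
      refine (Subgroup.eq_of_le_of_card_ge (subgroup_le_of_subpairLE hle) ?_).symm
      rw [card_cjS]
      exact BlockTheoryDefect.card_le_of_conjLe (conjLe_defect_of_pairOf hM hR
        (isDefectGroup_of_maximal hM hmax))
    refine rank_cen_eq_one hM hmax' habx hxP hback fun s hs hc => ?_
    rw [show (⟨cjS g⁻¹ P, conjBlock P g⁻¹ c⟩ : BrauerPairIdx G) = cP g⁻¹ ⟨P, c⟩ from rfl,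
      stab_cP, mem_cjS, inv_inv] at hs
    rw [cen_cjS, mem_cjS, inv_inv]
    refine hfree _ hs _ hgx (fun h => hx1 (conj_eq_one_iff.1 h)) ?_
    rw [show g * s * g⁻¹ * (g * x * g⁻¹) * (g * s * g⁻¹)⁻¹ = g * (s * x) * s⁻¹ * g⁻¹ by group,
      ← hc.eq]
    group
  -- the fibres
  have hfib : ∀ x ∈ E, ∀ z ∈ I x, ((S ×ˢ Finset.univ).filter (fun w => Φ w = z)).card =
      e * Nat.card (Cen (Subgroup.zpowers x)) := by
    intro x hx z hz
    have hz' : z ∈ ((S ×ˢ Finset.univ).image Φ).filter (fun z => z.1 = x) := (himg x hx).symm ▸ hz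
    obtain ⟨hz1, hzx⟩ := Finset.mem_filter.1 hz'
    obtain ⟨⟨u₀, g₀⟩, hw₀, rfl⟩ := Finset.mem_image.1 hz1
    have hu₀ : (u₀ : G) ≠ 1 := (Finset.mem_filter.1 (Finset.mem_product.1 hw₀).1).2
    change g₀ * (u₀ : G) * g₀⁻¹ = x at hzx
    have hcard : Nat.card (Cen (Subgroup.zpowers x)) =
        Nat.card (Cen (Subgroup.zpowers (u₀ : G))) := by
      rw [← hzx, ← hconjz, cen_cjS, card_cjS]
    rw [hcard, ← he, Subgroup.relIndex, Subgroup.index, ← Nat.card_prod, ← Nat.card_eq_finsetCard]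
    set W := (S ×ˢ Finset.univ).filter (fun w => Φ w = Φ (u₀, g₀)) with hW
    symm
    refine Nat.card_eq_of_bijective (fun w : (T ⧸ (Cen P).subgroupOf T) ×
        Cen (Subgroup.zpowers (u₀ : G)) =>
      (⟨(⟨(w.1.out : G)⁻¹ * u₀ * (w.1.out : G), by
          have := hconjP _ (T.inv_mem w.1.out.2) _ u₀.2
          rwa [inv_inv] at this⟩,
        g₀ * (w.2 : G) * (w.1.out : G)), ?_⟩ : W)) ⟨?_, ?_⟩
    · obtain ⟨q, z⟩ := w
      have hq : ((q.out : G)) ∈ T := q.out.2
      have hzu : Commute (u₀ : G) z := (centralizer_zpowers _ _).1 z.2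
      refine Finset.mem_filter.2 ⟨Finset.mem_product.2 ⟨Finset.mem_filter.2 ⟨Finset.mem_univ _,
        fun h => hu₀ ?_⟩, Finset.mem_univ _⟩, Prod.ext ?_ ?_⟩
      · have h' : (q.out : G)⁻¹ * u₀ * (q.out : G)⁻¹⁻¹ = 1 := by rw [inv_inv]; exact h
        exact conj_eq_one_iff.1 h'
      · show g₀ * z * q.out * ((q.out : G)⁻¹ * u₀ * q.out) * (g₀ * z * q.out)⁻¹ = g₀ * u₀ * g₀⁻¹
        rw [show g₀ * z * q.out * ((q.out : G)⁻¹ * u₀ * q.out) * (g₀ * z * q.out)⁻¹ =
          g₀ * (z * u₀) * (z : G)⁻¹ * g₀⁻¹ by group, ← hzu.eq]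
        group
      · show cP (g₀ * z * q.out) (pr _) = cP g₀ (pr u₀)
        rw [← cP_cP, hpr_conj _ _ hq u₀ (by group), ← cP_cP]
        exact congrArg (cP g₀) (cP_self_of_cen _ z.2)
    · rintro ⟨q, z⟩ ⟨q', z'⟩ h
      simp only [Subtype.mk.injEq, Prod.mk.injEq] at h
      have h2 : (z : G) * q.out = z' * q'.out := by
        have := h.2
        rw [mul_assoc, mul_assoc] at this
        exact mul_left_cancel this
      have hmem : (q'.out : G) * (q.out : G)⁻¹ ∈ Cen P := by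
        refine hfree _ (T.mul_mem q'.out.2 (T.inv_mem q.out.2)) _ u₀.2 hu₀ ?_
        have e1 : (q'.out : G) * (q.out : G)⁻¹ = (z' : G)⁻¹ * z := by
          rw [← mul_inv_eq_iff_eq_mul.2 h2]
          group
        have hc1 : Commute (u₀ : G) ((z' : G)⁻¹ * z) :=
          (((centralizer_zpowers _ _).1 z'.2).inv_right).mul_right ((centralizer_zpowers _ _).1 z.2)
        rw [e1, ← hc1.eq, mul_inv_cancel_right]
      have hq : q = q' := by
        rw [← q.out_eq', ← q'.out_eq', QuotientGroup.eq, Subgroup.mem_subgroupOf]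
        have := (Subgroup.mem_normalizer_iff.mp
          (normalizer_le_normalizer_cen (hTN _ (T.inv_mem q.out.2))) _).mp hmem
        simpa [mul_assoc] using this
      subst hq
      exact Prod.ext rfl (Subtype.ext (mul_right_cancel h2))
    · rintro ⟨⟨u, g⟩, hw⟩
      have hΦe := (Finset.mem_filter.1 hw).2
      simp only [hΦ, Prod.mk.injEq] at hΦe
      obtain ⟨he1, he2⟩ := hΦe
      have h3 : cP (g⁻¹ * g₀) (pr u₀) = pr u := by rw [← cP_cP, ← he2, cP_inv_cP]
      obtain ⟨y, hy, z, hz, hyz⟩ := fus_control hM hmax hab (a := pr u₀) (hf u₀)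
        (g := g⁻¹ * g₀) (by rw [h3]; exact hf u)
      set q : T ⧸ (Cen P).subgroupOf T := QuotientGroup.mk ((⟨y, hy⟩ : T)⁻¹) with hq
      obtain ⟨k, hk⟩ := QuotientGroup.mk_out_eq_mul ((Cen P).subgroupOf T) ((⟨y, hy⟩ : T)⁻¹)
      have hk2 : ((k : T) : G) ∈ Cen P := Subgroup.mem_subgroupOf.1 k.2
      have hqout : (q.out : G) = y⁻¹ * ((k : T) : G) := by
        rw [hq, hk]; simp
      have hk3 : y⁻¹ * ((k : T) : G)⁻¹ * y ∈ Cen P := by
        have := (Subgroup.mem_normalizer_iff.mp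
          (normalizer_le_normalizer_cen (hTN _ (T.inv_mem hy))) _).mp ((Cen P).inv_mem hk2)
        simpa using this
      have hz2 : z⁻¹ * (y⁻¹ * ((k : T) : G)⁻¹ * y) ∈ Cen (Subgroup.zpowers (u₀ : G)) :=
        mul_mem (Subgroup.inv_mem _ hz) (centralizer_le (Subgroup.zpowers_le.2 u₀.2) hk3)
      refine ⟨(q, ⟨_, hz2⟩), Subtype.ext ?_⟩
      have hg : g₀ * (z⁻¹ * (y⁻¹ * ((k : T) : G)⁻¹ * y)) * (q.out : G) = g := by
        rw [hqout, show g = g₀ * (g⁻¹ * g₀)⁻¹ by group, hyz]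
        group
      refine Prod.ext (Subtype.ext ?_) hg
      show (q.out : G)⁻¹ * u₀ * q.out = u
      have hzu : Commute (u₀ : G) (z⁻¹ * (y⁻¹ * ((k : T) : G)⁻¹ * y)) :=
        (centralizer_zpowers _ _).1 hz2
      rw [show (u : G) = g⁻¹ * (g₀ * u₀ * g₀⁻¹) * g by rw [← he1]; group, ← hg]
      rw [show (g₀ * (z⁻¹ * (y⁻¹ * ((k : T) : G)⁻¹ * y)) * (q.out : G))⁻¹ * (g₀ * u₀ * g₀⁻¹) *
        (g₀ * (z⁻¹ * (y⁻¹ * ((k : T) : G)⁻¹ * y)) * q.out) =
        (q.out : G)⁻¹ * ((z⁻¹ * (y⁻¹ * ((k : T) : G)⁻¹ * y))⁻¹ *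
          ((u₀ : G) * (z⁻¹ * (y⁻¹ * ((k : T) : G)⁻¹ * y)))) * q.out by group, hzu.eq]
      group
  calc Nat.card G * (Nat.card P - 1) = (S ×ˢ (Finset.univ : Finset G)).card := by
        rw [Finset.card_product, hcardS, Finset.card_univ, Nat.card_eq_fintype_card, mul_comm]
    _ = ∑ z ∈ (S ×ˢ Finset.univ).image Φ, ((S ×ˢ Finset.univ).filter (fun w => Φ w = z)).card :=
        Finset.card_eq_sum_card_image Φ _
    _ = ∑ x ∈ E, ∑ z ∈ I x, ((S ×ˢ Finset.univ).filter (fun w => Φ w = z)).card := by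
        rw [← Finset.sum_fiberwise_of_maps_to (g := Prod.fst) (t := E) fun z hz => ?_]
        · exact Finset.sum_congr rfl fun x hx => by rw [himg x hx]
        · obtain ⟨⟨u, g⟩, hw, rfl⟩ := Finset.mem_image.1 hz
          have hu := (Finset.mem_filter.1 (Finset.mem_product.1 hw).1).2
          refine Finset.mem_erase.2 ⟨fun e => hu (conj_eq_one_iff.1 e),
            Finset.mem_filter.2 ⟨Finset.mem_univ _, ?_⟩⟩
          obtain ⟨k, hk⟩ := IsPGroup.iff_orderOf.mp hPe.1 u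
          exact ⟨k, by
            rw [← hk, ← Subgroup.orderOf_coe]; exact MulEquiv.orderOf_eq (MulAut.conj g) _⟩
    _ = ∑ x ∈ E, (I x).card * (e * Nat.card (Cen (Subgroup.zpowers x))) :=
        Finset.sum_congr rfl fun x hx => by
          rw [Finset.sum_congr rfl (hfib x hx), Finset.sum_const, smul_eq_mul]
    _ = _ := by
        rw [Finset.mul_sum]
        refine Finset.sum_congr rfl fun x hx => ?_
        rw [Finset.card_image_of_injective _ (fun b b' h => by
          simp only [Prod.mk.injEq, Sigma.mk.injEq, heq_eq_eq, true_and] at h; exact h),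
          Finset.sum_congr rfl fun b hb => (hrank x hx b hb).1, Finset.sum_const, smul_eq_mul]
        ring

end Cfsg.Agent.BlockAbelianCount81
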