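import Cfsg.Agent.Lib.BlockAbelianWeight31

/-!
A block with abelian defect group and the block of the centraliser of an element fixed by the
inertial group: equal ranks and equal numbers of characters, from twists by invariant linear
characters.
-/

set_option autoImplicit false

namespace Cfsg.Agent.BlockAbelianNorm31

open Cfsg Cfsg.Agent.BlockTheoryLocalRing Cfsg.Agent.BlockTheoryCentre
open Cfsg.Agent.BlockTheoryIdem Cfsg.Agent.BlockTheoryBrauer Cfsg.Agent.BlockTheoryDefect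
open Cfsg.Agent.BrauerPairs81Base Cfsg.Agent.BrauerPairs81Pairs Cfsg.Agent.BrauerPairs81Conj
open Cfsg.Agent.BrauerPairs81Max Cfsg.Agent.BrauerPairs81Local Cfsg.Agent.BrauerPairs81Fusion
open Cfsg.Agent.BrauerPairs81Induced Cfsg.Agent.BrauerPairs81Index Cfsg.Agent.BrauerPairs81Stab
open Cfsg.Agent.BlockContribBounds
open Cfsg.Agent.BlockCyclicRank81 Cfsg.Agent.BlockAbelianWeight31

attribute [local instance] Classical.propDecidable

set_option linter.unusedSectionVars false

universe u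

/-- All invariant linear characters of abelian maximal pairs give twists. -/
def TwistsExist (p : ℕ) [Fact p.Prime] (M : Ideal AlgInt) : Prop :=
  ∀ (G : Type u) [Group G] [Fintype G] (B : Set (IrrCharacter G)) (P : Subgroup G)
    (c : Set (IrrCharacter (Cen P))), IsMaximalBrauerPair p M B P c →
    (∀ x ∈ P, ∀ y ∈ P, x * y = y * x) → ∀ lam : P →* ℂˣ,
    (∀ v w : P, w ∈ orbit c v → lam w = lam v) → HasTwist p M B c lam

variable {p : ℕ} [Fact p.Prime] {M : Ideal AlgInt} {G : Type u} [Group G] [Fintype G]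
  {B : Set (IrrCharacter G)} {P : Subgroup G} {c : Set (IrrCharacter (Cen P))}

/-! ### The norm of the inertial group -/

theorem mem_orbit {v w : P} :
    w ∈ orbit c v ↔ ∃ y ∈ stab (⟨P, c⟩ : BrauerPairIdx G), y * (v : G) * y⁻¹ = w := by
  simp [orbit]

/-- Fixed by the inertial group. -/
def Fixed (c : Set (IrrCharacter (Cen P))) (v : P) : Prop :=
  ∀ y ∈ stab (⟨P, c⟩ : BrauerPairIdx G), y * (v : G) * y⁻¹ = v

/-- Conjugation on `P` by an element of the inertial group. -/
def conjP (c : Set (IrrCharacter (Cen P))) (y : stab (⟨P, c⟩ : BrauerPairIdx G)) : P →* P where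
  toFun v := ⟨(y : G) * v * (y : G)⁻¹, conj_mem_top y.2 v.2⟩
  map_one' := Subtype.ext (by simp)
  map_mul' v w := Subtype.ext (by simp only [Subgroup.coe_mul]; group)

theorem conjP_mul (x y : stab (⟨P, c⟩ : BrauerPairIdx G)) (v : P) :
    conjP c (x * y) v = conjP c x (conjP c y v) :=
  Subtype.ext (by show ((x : G) * y) * v * ((x : G) * y)⁻¹ = _; simp [conjP, mul_assoc])

theorem conjP_eq_self {x : stab (⟨P, c⟩ : BrauerPairIdx G)} (hx : (x : G) ∈ Cen P) (v : P) :
    conjP c x v = v := by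
  refine Subtype.ext ?_
  show (x : G) * v * (x : G)⁻¹ = v
  rw [← Subgroup.mem_centralizer_iff.mp hx v v.2, mul_inv_cancel_right]

/-- The centraliser of `P` in the inertial group. -/
abbrev cenT (c : Set (IrrCharacter (Cen P))) : Subgroup (stab (⟨P, c⟩ : BrauerPairIdx G)) :=
  (Cen P).subgroupOf (stab (⟨P, c⟩ : BrauerPairIdx G))

instance cenT_normal (c : Set (IrrCharacter (Cen P))) : (cenT c).Normal := by
  refine ⟨fun x hx y => ?_⟩
  rw [Subgroup.mem_subgroupOf] at hx ⊢
  push_cast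
  exact (Subgroup.mem_normalizer_iff.mp
    (normalizer_le_normalizer_cen (stab_le_normalizer _ y.2)) _).mp hx

theorem conjP_out (t : stab (⟨P, c⟩ : BrauerPairIdx G)) (v : P) :
    conjP c (t : stab (⟨P, c⟩ : BrauerPairIdx G) ⧸ cenT c).out v = conjP c t v := by
  obtain ⟨h, hh⟩ := QuotientGroup.mk_out_eq_mul (cenT c) t
  rw [hh, conjP_mul, conjP_eq_self (Subgroup.mem_subgroupOf.mp h.2)]

/-- The commutative group structure of an abelian `P`. -/
abbrev commP (hab : ∀ x ∈ P, ∀ y ∈ P, x * y = y * x) : CommGroup P :=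
  { (inferInstance : Group P) with mul_comm := fun x y => Subtype.ext (hab _ x.2 _ y.2) }

/-- The norm over the inertial quotient. -/
noncomputable def norm (c : Set (IrrCharacter (Cen P))) (hab : ∀ x ∈ P, ∀ y ∈ P, x * y = y * x) :
    P →* P :=
  letI := commP hab
  ∏ q : stab (⟨P, c⟩ : BrauerPairIdx G) ⧸ cenT c, conjP c q.out

theorem norm_apply (hab : ∀ x ∈ P, ∀ y ∈ P, x * y = y * x) (v : P) :
    norm c hab v = (letI := commP hab
      ∏ q : stab (⟨P, c⟩ : BrauerPairIdx G) ⧸ cenT c, conjP c q.out v) := by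
  letI := commP hab
  rw [norm]
  exact MonoidHom.finsetProd_apply _ _ _

theorem norm_orbit (hab : ∀ x ∈ P, ∀ y ∈ P, x * y = y * x) {v w : P} (h : w ∈ orbit c v) :
    norm c hab w = norm c hab v := by
  letI := commP hab
  obtain ⟨y, hy, hyw⟩ := (Finset.mem_filter.1 h).2
  obtain rfl : conjP c ⟨y, hy⟩ v = w := Subtype.ext hyw
  simp only [norm_apply]
  refine Fintype.prod_equiv
    (Equiv.mulRight ((⟨y, hy⟩ : stab (⟨P, c⟩ : BrauerPairIdx G)) :
      stab (⟨P, c⟩ : BrauerPairIdx G) ⧸ cenT c)) _ _ fun q => ?_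
  rw [← conjP_mul, Equiv.coe_mulRight]
  dsimp only
  conv_rhs => rw [show q = (q.out : stab (⟨P, c⟩ : BrauerPairIdx G) ⧸ cenT c) from
    (QuotientGroup.out_eq' q).symm, ← QuotientGroup.mk_mul, conjP_out]

theorem norm_fixed (hab : ∀ x ∈ P, ∀ y ∈ P, x * y = y * x) {v : P} (hv : Fixed c v) :
    norm c hab v = v ^ (cenT c).index := by
  letI := commP hab
  rw [norm_apply, Finset.prod_congr rfl fun q _ => show conjP c q.out v = v from
    Subtype.ext (hv _ q.out.2), Finset.prod_const, Finset.card_univ,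
    Subgroup.index_eq_card, Nat.card_eq_fintype_card]

theorem not_dvd_index (hM : IsPModular p M) (hmax : IsMaximalBrauerPair p M B P c)
    (hab : ∀ x ∈ P, ∀ y ∈ P, x * y = y * x) : ¬ p ∣ (cenT c).index := by
  obtain ⟨S⟩ : Nonempty (Sylow p (stab (⟨P, c⟩ : BrauerPairIdx G))) := inferInstance
  have hPC : P ≤ Cen P := fun x hx => Subgroup.mem_centralizer_iff.mpr fun y hy => hab y hy x hx
  have hle : (S : Subgroup _) ≤ cenT c := by
    intro x hx
    rw [Subgroup.mem_subgroupOf]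
    have := le_sup_of_stabilizes hM hmax (S.isPGroup'.map (stab (⟨P, c⟩ : BrauerPairIdx G)).subtype)
      (by rintro _ ⟨z, -, rfl⟩; exact mem_stab.mp z.2) ⟨x, hx, rfl⟩
    rwa [sup_eq_right.mpr hPC] at this
  exact fun h => S.not_dvd_index (h.trans (Subgroup.index_dvd_of_le hle))

theorem eq_one_of_fixed (hM : IsPModular p M) (hmax : IsMaximalBrauerPair p M B P c)
    (hab : ∀ x ∈ P, ∀ y ∈ P, x * y = y * x) {v : P} (hv : Fixed c v) (h : norm c hab v = 1) :
    v = 1 := by
  rw [norm_fixed hab hv, ← orderOf_dvd_iff_pow_eq_one] at h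
  obtain ⟨k, hk⟩ := IsPGroup.iff_orderOf.mp hmax.1.1.1 v
  refine orderOf_eq_one_iff.mp ?_
  rcases k with _ | k
  · simpa using hk
  · exact absurd ((dvd_pow_self p k.succ_ne_zero).trans (hk ▸ h)) (not_dvd_index hM hmax hab)

theorem fixed_mul {v w : P} (hv : Fixed c v) (hw : Fixed c w) : Fixed c (v * w) := fun y hy => by
  rw [Subgroup.coe_mul, show y * ((v : G) * w) * y⁻¹ = (y * v * y⁻¹) * (y * w * y⁻¹) by group,
    hv y hy, hw y hy]

theorem fixed_inv {v : P} (hv : Fixed c v) : Fixed c v⁻¹ := fun y hy => by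
  rw [Subgroup.coe_inv, show y * (v : G)⁻¹ * y⁻¹ = (y * v * y⁻¹)⁻¹ by group, hv y hy]

theorem card_orbit_fixed_mul {z : P} (hz : Fixed c z) (v : P) :
    (orbit c (z * v)).card = (orbit c v).card := by
  symm
  refine Finset.card_bij (fun w _ => z * w) (fun w hw => ?_) (fun w _ w' _ h => mul_left_cancel h)
    fun w hw => ?_
  · obtain ⟨y, hy, hyw⟩ := mem_orbit.1 hw
    refine Finset.mem_filter.2 ⟨Finset.mem_univ _, y, hy, ?_⟩
    rw [Subgroup.coe_mul, Subgroup.coe_mul, ← hyw]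
    conv_rhs => rw [← hz y hy]
    group
  · obtain ⟨y, hy, hyw⟩ := mem_orbit.1 hw
    refine ⟨z⁻¹ * w, Finset.mem_filter.2 ⟨Finset.mem_univ _, y, hy, ?_⟩, mul_inv_cancel_left z w⟩
    rw [Subgroup.coe_mul, Subgroup.coe_inv, ← hyw, Subgroup.coe_mul]
    conv_rhs => arg 1; rw [← hz y hy]
    group

theorem orbit_one : (orbit c (1 : P)) = {1} := by
  refine Finset.eq_singleton_iff_unique_mem.2 ⟨self_mem_orbit 1, fun w hw => ?_⟩
  obtain ⟨y, -, hyw⟩ := (Finset.mem_filter.1 hw).2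
  exact Subtype.ext (by rw [← hyw]; simp)

theorem rank_at_one (hM : IsPModular p M) (hmax : IsMaximalBrauerPair p M B P c)
    (hab : ∀ x ∈ P, ∀ y ∈ P, x * y = y * x) :
    blockRank p (blockAt p M (⟨P, c⟩ : BrauerPairIdx G) ((1 : P) : G)) = blockRank p B := by
  have hle := pairAt_le hM hmax (1 : P)
  have hb₀ : blockAt p M (⟨P, c⟩ : BrauerPairIdx G) (1 : G) ∈ subs M B (1 : G) :=
    mem_subs hM (isBrauerPairOf_down hM hle hmax.1)
  rw [← sum_rank_one hM hmax.1.2.1, Finset.sum_eq_single_of_mem _ hb₀ fun b hb hne => ?_]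
  · rfl
  · refine absurd ?_ hne
    obtain ⟨⟨v, g⟩, hw⟩ := mem_image_phiSub hM hmax hab ⟨0, by simp⟩ hb
    obtain ⟨h1, h2⟩ := Prod.ext_iff.1 hw
    obtain rfl : v = 1 := Subtype.ext (conj_eq_one_iff.1 h1)
    change cP g (pairAt p M ⟨P, c⟩ (1 : G)) = ⟨Subgroup.zpowers (1 : G), b⟩ at h2
    rw [show cP g (pairAt p M (⟨P, c⟩ : BrauerPairIdx G) (1 : G)) = pairAt p M ⟨P, c⟩ (1 : G) from
      cP_self_of_cen _ ((centralizer_zpowers 1 g).2 (Commute.one_left g))] at h2
    exact (eq_of_heq (Sigma.mk.injEq .. ▸ h2 : _ ∧ _).2).symm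

/-- The weights of translates by a fixed element. -/
theorem step (hM : IsPModular p M) (htw : TwistsExist.{u} p M)
    (hmax : IsMaximalBrauerPair p M B P c) (hab : ∀ x ∈ P, ∀ y ∈ P, x * y = y * x) {z : P}
    (hz : Fixed c z)
    (hIH : ∀ v : P, ¬ Fixed c v →
      blockRank p (blockAt p M (⟨P, c⟩ : BrauerPairIdx G) ((z * v : P) : G)) =
        blockRank p (blockAt p M (⟨P, c⟩ : BrauerPairIdx G) (v : G))) :
    blockRank p B = blockRank p (blockAt p M (⟨P, c⟩ : BrauerPairIdx G) (z : G)) := by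
  letI := commP hab
  set W : P → ℂ := fun b => ∑ a ∈ Finset.univ.filter (fun a => norm c hab a = b), weight p M c a
  have hW : W (1 * norm c hab z) = W 1 := by
    refine translate_eq W (norm c hab z) (fun ψ hψ => ?_) 1
    set lam : P →* ℂˣ := ψ.comp (norm c hab)
    have hlam : ∀ v w : P, w ∈ orbit c v → lam w = lam v := fun v w h =>
      congrArg ψ (norm_orbit hab h)
    rw [← sum_twist_eq_zero hM hmax hab hlam (htw G B P c hmax hab lam hlam) (u₀ := z) hψ]
    conv_rhs => rw [← Finset.sum_fiberwise Finset.univ (norm c hab)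
      (fun a => (lam a : ℂ) * weight p M c a)]
    refine Finset.sum_congr rfl fun b _ => ?_
    rw [Finset.mul_sum]
    refine Finset.sum_congr rfl fun a ha => ?_
    rw [show lam a = ψ b from congrArg ψ (Finset.mem_filter.1 ha).2]
  rw [one_mul] at hW
  set K := (Finset.univ : Finset P).filter fun v => norm c hab v = 1 with hK
  have hshift : W (norm c hab z) = ∑ v ∈ K, weight p M c (z * v) := by
    symm
    refine Finset.sum_bij (fun v _ => z * v) (fun v hv => ?_) (fun v _ v' _ h => mul_left_cancel h)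
      (fun a ha => ⟨z⁻¹ * a, ?_, mul_inv_cancel_left z a⟩) fun v _ => rfl
    · exact Finset.mem_filter.2 ⟨Finset.mem_univ _, by
        rw [map_mul, (Finset.mem_filter.1 hv).2, mul_one]⟩
    · exact Finset.mem_filter.2 ⟨Finset.mem_univ _, by
        rw [map_mul, map_inv, (Finset.mem_filter.1 ha).2, inv_mul_cancel]⟩
  have h1 : (1 : P) ∈ K := Finset.mem_filter.2 ⟨Finset.mem_univ _, map_one _⟩
  have h := hshift.symm.trans hW
  rw [show W 1 = ∑ v ∈ K, weight p M c v from rfl, ← Finset.add_sum_erase _ _ h1,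
    ← Finset.add_sum_erase _ _ h1, Finset.sum_congr rfl (g := fun v => weight p M c v) fun v hv => ?_,
    add_left_inj] at h
  · have hz1 : weight p M c (z * 1) = weight p M c z := congrArg _ (mul_one z)
    have ho : (orbit c z).card = 1 := by
      have h2 := card_orbit_fixed_mul hz (1 : P)
      rwa [mul_one, orbit_one, Finset.card_singleton] at h2
    rw [hz1] at h
    simp only [weight, ho, orbit_one, Finset.card_singleton, Nat.cast_one, div_one,
      rank_at_one hM hmax hab] at h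
    exact_mod_cast h.symm
  · obtain ⟨hv1, hvK⟩ := Finset.mem_erase.1 hv
    have hnf : ¬ Fixed c v := fun hf =>
      hv1 (eq_one_of_fixed hM hmax hab hf (Finset.mem_filter.1 hvK).2)
    rw [weight, weight, card_orbit_fixed_mul hz, hIH v hnf]

/-! ### Pairs of the centralisers -/

/-- The block of the centraliser of `R` below `top`. -/
noncomputable def blockOn (p : ℕ) (M : Ideal AlgInt) (top : BrauerPairIdx G) (R : Subgroup G) :
    Set (IrrCharacter (Cen R)) :=
  Classical.epsilon fun f => SubpairLE p M R f top.1 top.2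

/-- The pair on `R` below `top`. -/
noncomputable abbrev pairOn (p : ℕ) (M : Ideal AlgInt) (top : BrauerPairIdx G) (R : Subgroup G) :
    BrauerPairIdx G :=
  ⟨R, blockOn p M top R⟩

/-- The rank at `R`. -/
noncomputable def lr (p : ℕ) (M : Ideal AlgInt) (top : BrauerPairIdx G) (R : Subgroup G) : ℕ :=
  blockRank p (blockOn p M top R)

theorem pairOn_le (hM : IsPModular p M) (hmax : IsMaximalBrauerPair p M B P c) {R : Subgroup G}
    (hR : R ≤ P) : PLE p M (pairOn p M (⟨P, c⟩ : BrauerPairIdx G) R) ⟨P, c⟩ :=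
  Classical.epsilon_spec (exists_subpair hM hmax.1.1 hR)

theorem rank_eq_of_cen_eq (hM : IsPModular p M) {R' K : Subgroup G} (hK : K = Cen R')
    {f : Set (IrrCharacter K)} {f' : Set (IrrCharacter (Cen R'))} (hf : IsPBlock M f)
    (hf' : IsPBlock M f') (hocc : Occ M R' f' (eb K f)) : blockRank p f = blockRank p f' := by
  subst hK
  obtain ⟨ξ, hξ⟩ := block_nonempty hM hf'
  have := hocc ξ hξ
  rw [phi, res_eb, omega_idem] at this
  by_cases hξf : ξ ∈ f
  · rw [block_eq_of_mem hM hf hf' hξf hξ]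
  · rw [if_neg hξf] at this
    exact absurd (by simpa using ideal_neg this) (one_not_ideal hM)

/-- Subgroups of `P` with one centraliser have one rank. -/
theorem lr_congr (hM : IsPModular p M) (hmax : IsMaximalBrauerPair p M B P c)
    (hab : ∀ x ∈ P, ∀ y ∈ P, x * y = y * x) {R R' : Subgroup G} (hRR : R ≤ R') (hR' : R' ≤ P)
    (hC : Cen R = Cen R') :
    lr p M (⟨P, c⟩ : BrauerPairIdx G) R = lr p M (⟨P, c⟩ : BrauerPairIdx G) R' := by
  have h' := pairOn_le hM hmax hR'
  have hb' := isBrauerPair_of_subpairLE h' hmax.1.1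
  have h := ple_of_le hM (c := ⟨P, c⟩) hmax.1.1 (pairOn_le hM hmax (hRR.trans hR')) h' hRR
  have hn := isNormalSubpair_of_le hM hb' h fun x hx => Subgroup.centralizer_le_normalizer _
    (Subgroup.mem_centralizer_iff.mpr fun y hy => hab y (hR' (hRR hy)) x (hR' hx))
  exact rank_eq_of_cen_eq hM hC hn.1.2 hn.2.1.2 (isNormalSubpair_iff.mp hn).2.2.2.2.2

/-- A maximal pair of the block at `Q` that pushes to `(P, c)`. -/
theorem exists_inner (hM : IsPModular p M) (hmax : IsMaximalBrauerPair p M B P c)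
    {Q : Subgroup G} (hQP : Q ≤ P) (hPQ : P ≤ Cen Q) :
    ∃ (hS : Q ≤ (P.subgroupOf (Cen Q)).map (Cen Q).subtype)
      (c₀ : Set (IrrCharacter (Cen (P.subgroupOf (Cen Q))))),
      IsMaximalBrauerPair p M (blockOn p M (⟨P, c⟩ : BrauerPairIdx G) Q)
        (P.subgroupOf (Cen Q)) c₀ ∧
      (⟨(P.subgroupOf (Cen Q)).map (Cen Q).subtype,
        pushSet (cenIso (cenCompat_map le_rfl hS)) c₀⟩ : BrauerPairIdx G) = ⟨P, c⟩ ∧
      ∀ x : Cen Q, x ∈ stab (⟨P.subgroupOf (Cen Q), c₀⟩ : BrauerPairIdx (Cen Q)) ↔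
        (x : G) ∈ stab (⟨P, c⟩ : BrauerPairIdx G) := by
  set f := (blockOn p M (⟨P, c⟩ : BrauerPairIdx G) Q)
  have hle : SubpairLE p M Q f P c := pairOn_le hM hmax hQP
  have hQf := isBrauerPairOf_down hM hle hmax.1
  have hn : IsNormalSubpair p M Q f P c := isNormalSubpair_of_le hM hmax.1.1 hle
    (hPQ.trans (Subgroup.centralizer_le_normalizer _))
  obtain ⟨hS, c₀, hc₀, he⟩ := exists_pairOf_inner le_rfl hQf.1.2
    (fun t => (coeff_eb_coe _ f t).symm) hPQ hn
  obtain ⟨c₁, hc₁, -⟩ := exists_maximal_cen hM hmax hQP hPQ hle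
  refine ⟨hS, c₀, ⟨hc₀, fun R g hR hle' => ?_⟩, he, fun x => ?_⟩
  · refine (Subgroup.eq_of_le_of_card_ge (subgroup_le_of_subpairLE hle') ?_).symm
    exact card_le_of_conjLe (conjLe_of_pairOf hM hc₁ hR)
  · have he' : eb (Cen P) c = incl (Cen Q) (eb (Cen (P.subgroupOf (Cen Q))) c₀) := by
      rw [← eb_cenIso (cenCompat_map le_rfl hS) c₀]
      exact (congrArg (fun a : BrauerPairIdx G => eb (Cen a.1) a.2) he).symm
    rw [mem_stab, mem_stab, cP_eq_self_iff, cP_eq_self_iff]
    refine and_congr ?_ ?_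
    · rw [Subgroup.mem_normalizer_iff, Subgroup.mem_normalizer_iff]
      refine ⟨fun h a => ?_, fun h a => ?_⟩
      · by_cases ha : a ∈ Cen Q
        · simpa [Subgroup.mem_subgroupOf] using h ⟨a, ha⟩
        · refine ⟨fun h' => absurd (hPQ h') ha, fun h' => absurd ?_ ha⟩
          simpa [mul_assoc] using
            (Cen Q).mul_mem ((Cen Q).mul_mem ((Cen Q).inv_mem x.2) (hPQ h')) x.2
      · simpa [Subgroup.mem_subgroupOf] using h (a : G)
    · rw [he', cjA_incl, (incl_injective _).eq_iff]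

theorem rank_eq_of_pair_eq {R R' : Subgroup G} {f : Set (IrrCharacter (Cen R))}
    {f' : Set (IrrCharacter (Cen R'))} (h : (⟨R, f⟩ : BrauerPairIdx G) = ⟨R', f'⟩) :
    blockRank p f = blockRank p f' := by
  obtain ⟨rfl, h2⟩ := Sigma.mk.inj h
  rw [eq_of_heq h2]

/-- The ranks inside a centraliser. -/
theorem rank_inner (hM : IsPModular p M) (hmax : IsMaximalBrauerPair p M B P c)
    (hab : ∀ x ∈ P, ∀ y ∈ P, x * y = y * x) {Q : Subgroup G} (hQP : Q ≤ P) (hPQ : P ≤ Cen Q)
    {hS : Q ≤ (P.subgroupOf (Cen Q)).map (Cen Q).subtype}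
    {B₀ : Set (IrrCharacter (Cen Q))} {c₀ : Set (IrrCharacter (Cen (P.subgroupOf (Cen Q))))}
    (hmax₀ : IsMaximalBrauerPair p M B₀ (P.subgroupOf (Cen Q)) c₀)
    (he : (⟨(P.subgroupOf (Cen Q)).map (Cen Q).subtype,
        pushSet (cenIso (cenCompat_map le_rfl hS)) c₀⟩ : BrauerPairIdx G) = ⟨P, c⟩)
    (v : P.subgroupOf (Cen Q)) :
    blockRank p (blockAt p M (⟨P.subgroupOf (Cen Q), c₀⟩ : BrauerPairIdx (Cen Q))
        (v : Cen Q)) =
      lr p M (⟨P, c⟩ : BrauerPairIdx G) (Q ⊔ Subgroup.zpowers ((v : Cen Q) : G)) := by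
  set top₀ : BrauerPairIdx (Cen Q) := ⟨P.subgroupOf (Cen Q), c₀⟩
  set R : Subgroup (Cen Q) := Q.subgroupOf (Cen Q) ⊔ Subgroup.zpowers (v : Cen Q) with hR
  have hab₀ : ∀ x ∈ P.subgroupOf (Cen Q), ∀ y ∈ P.subgroupOf (Cen Q), x * y = y * x :=
    fun x hx y hy => Subtype.ext (hab _ hx _ hy)
  have hRP : R ≤ P.subgroupOf (Cen Q) :=
    sup_le (fun x hx => hQP hx) (Subgroup.zpowers_le.2 v.2)
  have hcen : Cen (Subgroup.zpowers (v : Cen Q)) = Cen R := by
    refine le_antisymm (fun x hx => ?_) (BrauerPairs81Pairs.centralizer_le le_sup_right)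
    have hle : R ≤ Subgroup.centralizer ({x} : Set (Cen Q)) := sup_le (fun q hq =>
        Subgroup.mem_centralizer_singleton_iff.mpr
          (Subtype.ext (Subgroup.mem_centralizer_iff.mp x.2 q hq)))
      (Subgroup.zpowers_le.2 (Subgroup.mem_centralizer_singleton_iff.mpr
        (Subgroup.mem_centralizer_iff.mp hx _ (Subgroup.mem_zpowers _))))
    exact Subgroup.mem_centralizer_iff.mpr fun y hy =>
      Subgroup.mem_centralizer_singleton_iff.mp (hle hy)
  have hmap : R.map (Cen Q).subtype = Q ⊔ Subgroup.zpowers ((v : Cen Q) : G) := by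
    rw [hR, Subgroup.map_sup, MonoidHom.map_zpowers,
      Subgroup.map_subgroupOf_eq_of_le (hQP.trans hPQ)]
    rfl
  show lr p M top₀ (Subgroup.zpowers (v : Cen Q)) = _
  rw [lr_congr hM hmax₀ hab₀ le_sup_right hRP hcen, ← hmap]
  have hQR : Q ≤ R.map (Cen Q).subtype := hmap ▸ le_sup_left
  have hpush := subpairLE_push le_rfl hQR hS (pairOn_le hM hmax₀ hRP)
  set a : BrauerPairIdx G := ⟨R.map (Cen Q).subtype,
    pushSet (cenIso (cenCompat_map le_rfl hQR)) (blockOn p M top₀ R)⟩ with ha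
  have hle : PLE p M a ⟨P, c⟩ := by rw [← he]; exact hpush
  have heq : a = pairOn p M ⟨P, c⟩ (R.map (Cen Q).subtype) :=
    ple_unique (c := (⟨P, c⟩ : BrauerPairIdx G)) hM hmax.1.1 hle
      (pairOn_le hM hmax (subgroup_le_of_subpairLE hle :)) rfl
  show _ = blockRank p (blockOn p M ⟨P, c⟩ (R.map (Cen Q).subtype))
  have h3 := rank_eq_of_pair_eq (p := p) (R' := R.map (Cen Q).subtype)
    (f' := blockOn p M ⟨P, c⟩ (R.map (Cen Q).subtype)) heq
  rw [BlockTheoryChains.blockRank_push] at h3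
  exact h3

theorem sup_zpowers_mul (Q : Subgroup G) (x z : G) :
    Q ⊔ Subgroup.zpowers (z * x) ⊔ Subgroup.zpowers z =
      Q ⊔ Subgroup.zpowers x ⊔ Subgroup.zpowers z := by
  refine le_antisymm (sup_le (sup_le (le_sup_left.trans le_sup_left) (Subgroup.zpowers_le.2 ?_))
    le_sup_right) (sup_le (sup_le (le_sup_left.trans le_sup_left) (Subgroup.zpowers_le.2 ?_))
    le_sup_right)
  · exact mul_mem (Subgroup.mem_sup_right (Subgroup.mem_zpowers z))
      (Subgroup.mem_sup_left (Subgroup.mem_sup_right (Subgroup.mem_zpowers x)))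
  · have h := mul_mem (inv_mem (Subgroup.mem_sup_right (S := Q ⊔ Subgroup.zpowers (z * x))
      (Subgroup.mem_zpowers z))) (Subgroup.mem_sup_left (T := Subgroup.zpowers z)
      (Subgroup.mem_sup_right (S := Q) (Subgroup.mem_zpowers (z * x))))
    rwa [inv_mul_cancel_left] at h

/-- Adjoining a fixed element keeps the rank. -/
theorem lr_sup (hM : IsPModular p M) (htw : TwistsExist.{u} p M)
    (hmax : IsMaximalBrauerPair p M B P c) (hab : ∀ x ∈ P, ∀ y ∈ P, x * y = y * x) {z : P}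
    (hz : Fixed c z) : ∀ (n : ℕ) (Q : Subgroup G), Q ≤ P → Nat.card (Cen Q) ≤ n →
      lr p M (⟨P, c⟩ : BrauerPairIdx G) Q =
        lr p M (⟨P, c⟩ : BrauerPairIdx G) (Q ⊔ Subgroup.zpowers (z : G)) := by
  intro n
  induction n with
  | zero => intro Q _ h; exact absurd h (Nat.not_le.2 Nat.card_pos)
  | succ n ih =>
    intro Q hQP hn
    have hPQ : P ≤ Cen Q := fun x hx =>
      Subgroup.mem_centralizer_iff.mpr fun q hq => hab q (hQP hq) x hx
    obtain ⟨hS, c₀, hmax₀, he, hst⟩ := exists_inner hM hmax hQP hPQ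
    set z₀ : P.subgroupOf (Cen Q) := ⟨⟨z, hPQ z.2⟩, z.2⟩
    have hz₀ : Fixed c₀ z₀ := fun y hy => Subtype.ext (hz _ ((hst y).1 hy))
    have hab₀ : ∀ x ∈ P.subgroupOf (Cen Q), ∀ y ∈ P.subgroupOf (Cen Q), x * y = y * x :=
      fun x hx y hy => Subtype.ext (hab _ hx _ hy)
    have hmove : ∀ v : P.subgroupOf (Cen Q), ¬ Fixed c₀ v →
        lr p M (⟨P, c⟩ : BrauerPairIdx G) (Q ⊔ Subgroup.zpowers ((v : Cen Q) : G)) =
          lr p M (⟨P, c⟩ : BrauerPairIdx G)
            (Q ⊔ Subgroup.zpowers ((v : Cen Q) : G) ⊔ Subgroup.zpowers (z : G)) := by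
      intro v hv
      refine ih _ (sup_le hQP (Subgroup.zpowers_le.2 v.2)) (Nat.lt_succ_iff.1 (lt_of_lt_of_le ?_ hn))
      obtain ⟨y, hy⟩ := not_forall.1 hv
      obtain ⟨-, hy⟩ := Classical.not_imp.1 hy
      have hmem : (y : G) ∉ Cen (Q ⊔ Subgroup.zpowers ((v : Cen Q) : G)) := fun h => hy (Subtype.ext (by
        show (y : G) * ((v : Cen Q) : G) * (y : G)⁻¹ = ((v : Cen Q) : G)
        rw [← Subgroup.mem_centralizer_iff.mp h _
          (Subgroup.mem_sup_right (Subgroup.mem_zpowers _)), mul_inv_cancel_right]))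
      refine Nat.lt_of_not_ge fun hge => hmem ?_
      rw [Subgroup.eq_of_le_of_card_ge (BrauerPairs81Pairs.centralizer_le le_sup_left) hge]
      exact y.2
    have h := step hM htw hmax₀ hab₀ hz₀ fun v hv => by
      have hzv : ¬ Fixed c₀ (z₀ * v) := fun h => hv (by
        simpa using fixed_mul (fixed_inv hz₀) h)
      rw [rank_inner hM hmax hab hQP hPQ (hS := hS) hmax₀ he, rank_inner hM hmax hab hQP hPQ (hS := hS) hmax₀ he,
        hmove _ hzv, hmove _ hv]
      exact congrArg _ (sup_zpowers_mul Q _ _)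
    rw [rank_inner hM hmax hab hQP hPQ (hS := hS) hmax₀ he] at h
    exact h

/-- The block at a fixed element has the rank and the number of characters of the block. -/
theorem rank_card_eq (hM : IsPModular p M) (htw : TwistsExist.{u} p M)
    (hmax : IsMaximalBrauerPair p M B P c) (hab : ∀ x ∈ P, ∀ y ∈ P, x * y = y * x) {z : P}
    (hz : Fixed c z) :
    blockRank p B = blockRank p (blockAt p M (⟨P, c⟩ : BrauerPairIdx G) (z : G)) ∧
      Nat.card B = Nat.card (blockAt p M (⟨P, c⟩ : BrauerPairIdx G) (z : G)) := by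
  have hkey : ∀ v : P, lr p M (⟨P, c⟩ : BrauerPairIdx G) (Subgroup.zpowers (v : G)) =
      lr p M (⟨P, c⟩ : BrauerPairIdx G) (Subgroup.zpowers (v : G) ⊔ Subgroup.zpowers (z : G)) :=
    fun v => lr_sup hM htw hmax hab hz _ _ (Subgroup.zpowers_le.2 v.2) le_rfl
  refine ⟨step hM htw hmax hab hz fun v _ => ?_, ?_⟩
  · show lr p M (⟨P, c⟩ : BrauerPairIdx G) (Subgroup.zpowers ((z : G) * (v : G))) =
      lr p M (⟨P, c⟩ : BrauerPairIdx G) (Subgroup.zpowers (v : G))
    rw [hkey v]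
    refine (hkey (z * v)).trans (congrArg _ ?_)
    simpa using sup_zpowers_mul (⊥ : Subgroup G) (v : G) (z : G)
  · set Q := Subgroup.zpowers (z : G) with hQ
    have hQP : Q ≤ P := Subgroup.zpowers_le.2 z.2
    have hPQ : P ≤ Cen Q := fun x hx =>
      Subgroup.mem_centralizer_iff.mpr fun q hq => hab q (hQP hq) x hx
    obtain ⟨hS, c₀, hmax₀, he, hst⟩ := exists_inner hM hmax hQP hPQ
    have hab₀ : ∀ x ∈ P.subgroupOf (Cen Q), ∀ y ∈ P.subgroupOf (Cen Q), x * y = y * x :=
      fun x hx y hy => Subtype.ext (hab _ hx _ hy)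
    suffices h : (Nat.card B : ℂ) = (Nat.card (blockOn p M (⟨P, c⟩ : BrauerPairIdx G) Q) : ℂ) by
      exact_mod_cast h
    rw [card_eq_weight hM hmax hab, card_eq_weight hM hmax₀ hab₀]
    refine (Fintype.sum_equiv (Subgroup.subgroupOfEquivOfLe hPQ).toEquiv _ _ fun v => ?_).symm
    show weight p M c₀ v = weight p M c ⟨((v : Cen Q) : G), v.2⟩
    have hr : blockRank p (blockAt p M (⟨P.subgroupOf (Cen Q), c₀⟩ : BrauerPairIdx (Cen Q))
        (v : Cen Q)) =
        blockRank p (blockAt p M (⟨P, c⟩ : BrauerPairIdx G) ((v : Cen Q) : G)) := by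
      rw [rank_inner hM hmax hab hQP hPQ (hS := hS) hmax₀ he, sup_comm]
      exact (hkey ⟨_, v.2⟩).symm
    have ho : (orbit c₀ v).card = (orbit c (⟨((v : Cen Q) : G), v.2⟩ : P)).card := by
      refine Finset.card_bij (fun w _ => (⟨((w : Cen Q) : G), w.2⟩ : P)) (fun w hw => ?_)
        (fun w _ w' _ h => Subtype.ext (Subtype.ext (congrArg (fun x : P => (x : G)) h))) fun w hw => ?_
      · obtain ⟨y, hy, hyw⟩ := mem_orbit.1 hw
        exact mem_orbit.2 ⟨y, (hst y).1 hy, congrArg (Subtype.val : Cen Q → G) hyw⟩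
      · obtain ⟨y, hy, hyw⟩ := mem_orbit.1 hw
        have hyQ : y ∈ Cen Q := (centralizer_zpowers _ _).2 (by
          show (z : G) * y = y * z
          conv_lhs => rw [← hz y hy]
          group)
        exact ⟨⟨⟨w, hPQ w.2⟩, w.2⟩,
          mem_orbit.2 ⟨⟨y, hyQ⟩, (hst ⟨y, hyQ⟩).2 hy, Subtype.ext hyw⟩, rfl⟩
    rw [weight, weight, hr, ho]

end Cfsg.Agent.BlockAbelianNorm31
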