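import Cfsg.Agent.Lib.ZStarSection
import Cfsg.Agent.Lib.BlockTheoryNormal
import Cfsg.Agent.Lib.BlockContribSection
import Cfsg.Agent.Lib.CharBasicLinear
import Cfsg.Agent.Lib.SignedDifferences86

/-!
The principal block of a group with an abelian Sylow `p`-subgroup `P` such that the normalizer
acts freely modulo `C(P)` on the non-identity elements of `P`.
-/

set_option autoImplicit false

open scoped ComplexConjugate

namespace Cfsg.Agent.BlockAbelianSylow86

open Cfsg Cfsg.Agent.BlockTheoryLocalRing Cfsg.Agent.BlockTheoryCentre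
  Cfsg.Agent.BlockTheoryIdem Cfsg.Agent.BlockPrincipal81 Cfsg.Agent.CharBasic
  Cfsg.Agent.CharBasicOrth

attribute [local instance] Classical.propDecidable

universe u

section Dual

variable {A : Type*} [CommGroup A] [Fintype A]

theorem sum_apply_eq_zero {ψ : A →* ℂˣ} (h : ψ ≠ 1) : ∑ x : A, (ψ x : ℂ) = 0 := by
  obtain ⟨a, ha⟩ : ∃ a, ψ a ≠ 1 := by
    by_contra hh
    push Not at hh
    exact h (MonoidHom.ext hh)
  have e : (ψ a : ℂ) * ∑ x : A, (ψ x : ℂ) = ∑ x : A, (ψ x : ℂ) := by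
    rw [Finset.mul_sum]
    exact Fintype.sum_equiv (Equiv.mulLeft a) _ _ fun x => by simp
  have e2 : ((ψ a : ℂ) - 1) * ∑ x : A, (ψ x : ℂ) = 0 := by rw [sub_mul, e, one_mul, sub_self]
  exact (mul_eq_zero.1 e2).resolve_left fun h0 => ha (Units.ext (sub_eq_zero.1 h0))

theorem conj_apply (ψ : A →* ℂˣ) (x : A) : conj (ψ x : ℂ) = (ψ x⁻¹ : ℂ) := by
  rw [map_inv, Units.val_inv_eq_inv_val, Complex.inv_eq_conj (CharBasicDecomp.norm_linear ψ x)]

theorem sum_mul_conj [Fintype (A →* ℂˣ)] (ψ φ : A →* ℂˣ) :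
    ∑ x : A, (ψ x : ℂ) * conj (φ x : ℂ) = if ψ = φ then (Fintype.card A : ℂ) else 0 := by
  have e : ∀ x : A, (ψ x : ℂ) * conj (φ x : ℂ) = (((ψ * φ⁻¹) x : ℂˣ) : ℂ) := fun x => by
    rw [conj_apply, MonoidHom.mul_apply, MonoidHom.inv_apply, map_inv, Units.val_mul]
  rw [Finset.sum_congr rfl fun x _ => e x]
  split_ifs with h
  · subst h; simp
  · exact sum_apply_eq_zero fun h0 => h (mul_inv_eq_one.1 h0)

theorem sum_dual [Fintype (A →* ℂˣ)] (a : A) :
    ∑ ψ : A →* ℂˣ, (ψ a : ℂ) = if a = 1 then (Fintype.card A : ℂ) else 0 := by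
  split_ifs with h
  · subst h
    simp only [map_one, Units.val_one, Finset.sum_const, nsmul_eq_mul, mul_one, Finset.card_univ]
    rw [← Nat.card_eq_fintype_card, ← Nat.card_eq_fintype_card,
      CommGroup.card_monoidHom_of_hasEnoughRootsOfUnity A ℂ]
  · obtain ⟨φ, hφ⟩ := CommGroup.exists_apply_ne_one_of_hasEnoughRootsOfUnity A ℂ h
    have e : (φ a : ℂ) * ∑ ψ : A →* ℂˣ, (ψ a : ℂ) = ∑ ψ : A →* ℂˣ, (ψ a : ℂ) := by
      rw [Finset.mul_sum]
      exact Fintype.sum_equiv (Equiv.mulLeft φ) _ _ fun ψ => by simp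
    have e2 : ((φ a : ℂ) - 1) * ∑ ψ : A →* ℂˣ, (ψ a : ℂ) = 0 := by rw [sub_mul, e, one_mul, sub_self]
    exact (mul_eq_zero.1 e2).resolve_left fun h0 => hφ (Units.ext (sub_eq_zero.1 h0))

end Dual

variable {G : Type u} [Group G] [Fintype G] {p : ℕ} [Fact p.Prime] {M : Ideal AlgInt}
  (P : Sylow p G)

/-- The normalizer acts freely modulo the centralizer on the non-identity elements. -/
def FreeAction : Prop :=
  ∀ y : G, y ∈ (P : Subgroup G) → y ≠ 1 →
    Subgroup.centralizer ({y} : Set G) ⊓ Subgroup.normalizer ((P : Subgroup G) : Set G) =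
      Subgroup.centralizer ((P : Subgroup G) : Set G)

variable {P}

theorem pElem {y : G} (hy : y ∈ (P : Subgroup G)) : ∃ k, orderOf y = p ^ k := by
  obtain ⟨k, hk⟩ := (IsPGroup.iff_orderOf.1 P.isPGroup') ⟨y, hy⟩
  exact ⟨k, by rw [← hk, Subgroup.orderOf_mk]⟩

theorem singular {y : G} (hy : y ∈ (P : Subgroup G)) (hy1 : y ≠ 1) : p ∣ orderOf y := by
  obtain ⟨k, hk⟩ := pElem hy
  rcases k with _ | k
  · rw [pow_zero, orderOf_eq_one_iff] at hk; exact absurd hk hy1
  · rw [hk]; exact dvd_pow_self p (Nat.succ_ne_zero k)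

theorem hH (y : G) : ∀ g, g ∈ Subgroup.centralizer ({y} : Set G) ↔ Commute y g := fun _ => by
  rw [Subgroup.mem_centralizer_singleton_iff]
  exact eq_comm

variable (hab : IsMulCommutative (P : Subgroup G)) (hfree : FreeAction P)
include hab hfree

omit [Fintype G] in
theorem exists_complement [Finite G] {y : G} (hy : y ∈ (P : Subgroup G)) (hy1 : y ≠ 1) :
    ∃ K : Subgroup ↥(Subgroup.centralizer ({y} : Set G)), K.Normal ∧ ¬ p ∣ Nat.card K ∧
      Nat.card K * Nat.card (P : Subgroup G) = Nat.card ↥(Subgroup.centralizer ({y} : Set G)) ∧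
      ∀ c, (c ∈ K ↔ ¬ p ∣ orderOf c) := by
  have hle : (P : Subgroup G) ≤ Subgroup.centralizer ({y} : Set G) := fun z hz =>
    Subgroup.mem_centralizer_singleton_iff.2
      (congrArg Subtype.val (mul_comm' (⟨z, hz⟩ : (P : Subgroup G)) ⟨y, hy⟩))
  set P' := P.subtype hle with hP'
  have hmem : ∀ c : ↥(Subgroup.centralizer ({y} : Set G)), c ∈ (P' : Subgroup _) ↔ (c : G) ∈ (P : Subgroup G) :=
    fun c => by rw [hP', Sylow.coe_subtype, Subgroup.mem_subgroupOf]
  have hnc : Subgroup.normalizer ((P' : Subgroup ↥(Subgroup.centralizer ({y} : Set G))) : Set ↥(Subgroup.centralizer ({y} : Set G))) ≤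
      Subgroup.centralizer ((P' : Subgroup ↥(Subgroup.centralizer ({y} : Set G))) : Set ↥(Subgroup.centralizer ({y} : Set G))) := by
    intro n hn
    have hnN : (n : G) ∈ Subgroup.normalizer ((P : Subgroup G) : Set G) := by
      refine Subgroup.mem_normalizer_iff.2 fun z => ⟨fun hz => ?_, fun hz => ?_⟩
      · have h1 := (Subgroup.mem_normalizer_iff.1 hn ⟨z, hle hz⟩).1 ((hmem _).2 hz)
        exact (hmem _).1 h1
      · have hzC : z ∈ Subgroup.centralizer ({y} : Set G) := by
          have := mul_mem (mul_mem (inv_mem n.2) (hle hz)) n.2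
          simpa [mul_assoc] using this
        exact (hmem ⟨z, hzC⟩).1 ((Subgroup.mem_normalizer_iff.1 hn ⟨z, hzC⟩).2 ((hmem _).2 hz))
    have hnC : (n : G) ∈ Subgroup.centralizer ((P : Subgroup G) : Set G) := by
      rw [← hfree y hy hy1]; exact ⟨n.2, hnN⟩
    refine Subgroup.mem_centralizer_iff.2 fun z hz => Subtype.ext ?_
    exact Subgroup.mem_centralizer_iff.1 hnC z ((hmem z).1 hz)
  set K := (MonoidHom.transferSylow P' hnc).ker
  have hK := MonoidHom.ker_transferSylow_isComplement' P' hnc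
  have hcard : Nat.card K * Nat.card (P : Subgroup G) = Nat.card ↥(Subgroup.centralizer ({y} : Set G)) := by
    rw [← hK.card_mul]
    congr 1
    exact (Nat.card_congr (Subgroup.subgroupOfEquivOfLe hle).toEquiv).symm
  have hndvd : ¬ p ∣ Nat.card K := hK.index_eq_card ▸ P'.not_dvd_index
  refine ⟨K, inferInstance, hndvd, hcard, fun c => ⟨fun hc h => hndvd (h.trans (Subgroup.orderOf_dvd_natCard K hc)),
    fun hc => ?_⟩⟩
  obtain ⟨a, ha⟩ := IsPGroup.iff_card.1 P.isPGroup'
  have h1 : c ^ (p ^ a) ∈ K := by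
    have := K.pow_index_mem c
    have hP'card : Nat.card (P' : Subgroup ↥(Subgroup.centralizer ({y} : Set G))) = p ^ a :=
      (Nat.card_congr (Subgroup.subgroupOfEquivOfLe hle).toEquiv).trans ha
    rwa [hK.symm.index_eq_card, hP'card] at this
  have hco : (p ^ a).Coprime (orderOf c) := Nat.Coprime.pow_left a
    ((Fact.out : p.Prime).coprime_iff_not_dvd.2 hc)
  obtain ⟨j, hj⟩ := exists_pow_eq_self_of_coprime hco
  rw [← hj]; exact pow_mem h1 j

variable (hM : IsPModular p M)
include hM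

/-- Members of the principal block are constant on the sections of `P`. -/
theorem apply_mul {y : G} (hy : y ∈ (P : Subgroup G)) (hy1 : y ≠ 1) {χ : IrrCharacter G}
    (hχ : χ ∈ principalBlock M G) {k : G} (hk : Commute y k) (hkr : ¬ p ∣ orderOf k) :
    (χ : G → ℂ) (y * k) = (χ : G → ℂ) y := by
  obtain ⟨K, hKn, hKc, -, hKmem⟩ := exists_complement hab hfree hy hy1
  haveI := hKn
  haveI : Fintype ↥(Subgroup.centralizer ({y} : Set G)) := Fintype.ofFinite _
  let C := ↥(Subgroup.centralizer ({y} : Set G))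
  set F : C → ℂ := fun c => (χ : G → ℂ) (y * (Subgroup.subtype _ c)) with hF
  have hFc : IsClassFunction C F := BlockContribSection.isClassFunction_section (hH y) (irr_classFun χ)
  have hsub := BlockTheoryNormal.blockOf_subset_trivialOn K hM hKc (χ := oneChar C)
    (fun _ _ => rfl)
  have hval : ∀ c : C, ¬ p ∣ orderOf c → F c = F 1 := by
    intro c hc
    have key : ∀ z : C, ¬ p ∣ orderOf z → F z = ∑ ψ : IrrCharacter C,
        if ψ ∈ principalBlock M C then classInner F (ψ : C → ℂ) * (ψ : C → ℂ) z else 0 := by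
      intro z hz
      have h0 := ZStarSection.section_blockPart hM (pElem hy) χ z hz
      have h1 := congrFun (eq_sum_classInner hFc) z
      simp only [Finset.sum_apply, Pi.smul_apply, smul_eq_mul] at h1
      rw [h1, ← sub_eq_zero, ← Finset.sum_sub_distrib]
      refine Eq.trans (Finset.sum_congr rfl fun ψ _ => ?_) h0
      by_cases hψ : ψ ∈ principalBlock M C
      · rw [if_pos hψ, if_pos (iff_of_true hψ hχ), sub_self]
      · rw [if_neg hψ, if_neg (fun h => hψ (h.2 hχ)), sub_zero]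
        exact congrArg (· * _) (Cfsg.Agent.CharInduced.inner_inst_irrel _ _ _ _)
    have h1r : ¬ p ∣ orderOf (1 : C) := by rw [orderOf_one, Nat.dvd_one]; exact hM.1.ne_one
    rw [key c hc, key 1 h1r]
    refine Finset.sum_congr rfl fun ψ _ => ?_
    split_ifs with hψ
    · rw [hsub hψ c ((hKmem c).2 hc)]
    · rfl
  have := hval ⟨k, (hH y k).2 hk⟩ (by rwa [Subgroup.orderOf_mk])
  simpa [hF] using this

/-- Members of the principal block depend only on the `p`-part. -/
theorem apply_eq {z y : G} (hzy : IsPPart p z y) (hy : y ∈ (P : Subgroup G)) (hy1 : y ≠ 1)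
    {χ : IrrCharacter G} (hχ : χ ∈ principalBlock M G) : (χ : G → ℂ) z = (χ : G → ℂ) y := by
  obtain ⟨k, rfl, hk, -, hkr⟩ := hzy
  exact apply_mul hab hfree hM hy hy1 hχ hk hkr

omit hfree hM in
theorem exists_normalizer_conj {x y : G} (hx : x ∈ (P : Subgroup G)) (hy : y ∈ (P : Subgroup G))
    (h : IsConj x y) : ∃ n ∈ Subgroup.normalizer ((P : Subgroup G) : Set G), n * x * n⁻¹ = y := by
  obtain ⟨g, hg⟩ := isConj_iff.1 h
  obtain ⟨n, hn, he⟩ := P.conj_eq_normalizer_conj_of_mem x g⁻¹ hx (by rw [inv_inv, hg]; exact hy)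
  rw [inv_inv, hg] at he
  exact ⟨n⁻¹, inv_mem hn, by rw [inv_inv, he]⟩

/-- Column orthogonality within the principal block. -/
theorem column {x y : G} (hx : x ∈ (P : Subgroup G)) (hx1 : x ≠ 1) (hy : y ∈ (P : Subgroup G))
    (hy1 : y ≠ 1) :
    ∑ χ : IrrCharacter G, (if χ ∈ principalBlock M G then (χ : G → ℂ) x * conj ((χ : G → ℂ) y) else 0) =
      if ∃ n ∈ Subgroup.normalizer ((P : Subgroup G) : Set G), n * x * n⁻¹ = y
      then (Nat.card (P : Subgroup G) : ℂ) else 0 := by
  have main : ∀ {x y : G}, x ∈ (P : Subgroup G) → x ≠ 1 → y ∈ (P : Subgroup G) → y ≠ 1 →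
      ∀ (K : Subgroup ↥(Subgroup.centralizer ({x} : Set G))) (L : Subgroup ↥(Subgroup.centralizer ({y} : Set G))),
      K.Normal → L.Normal → ¬ p ∣ Nat.card K → ¬ p ∣ Nat.card L →
      (∀ c, (c ∈ K ↔ ¬ p ∣ orderOf c)) → (∀ c, (c ∈ L ↔ ¬ p ∣ orderOf c)) →
      (Nat.card K : ℂ) * (Nat.card L : ℂ) *
        (∑ χ : IrrCharacter G, (if χ ∈ principalBlock M G then (χ : G → ℂ) x * conj ((χ : G → ℂ) y) else 0)) =
      ∑ k : K, ∑ l : L, if IsConj (x * ((k : ↥(Subgroup.centralizer ({x} : Set G))) : G))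
          (y * ((l : ↥(Subgroup.centralizer ({y} : Set G))) : G))
        then (Nat.card (Subgroup.centralizer ({x * ((k : ↥(Subgroup.centralizer ({x} : Set G))) : G)} : Set G)) : ℂ) else 0 := by
    intro x y hx hx1 hy hy1 K L hKn hLn hKc hLc hKmem hLmem
    rw [Finset.sum_congr rfl fun k _ => Finset.sum_congr rfl fun l _ => (sum_irr_mul_conj _ _).symm]
    rw [Finset.mul_sum, Finset.sum_congr rfl fun k _ => Finset.sum_comm, Finset.sum_comm]
    refine Finset.sum_congr rfl fun χ _ => ?_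
    rw [← Finset.sum_mul_sum]
    by_cases hχ : χ ∈ principalBlock M G
    · have e1 : ∀ k : K, (χ : G → ℂ) (x * ((k : ↥(Subgroup.centralizer ({x} : Set G))) : G)) = (χ : G → ℂ) x :=
        fun k => apply_mul hab hfree hM hx hx1 hχ ((hH x _).1 k.1.2)
          (by rw [Subgroup.orderOf_coe]; exact (hKmem k.1).1 k.2)
      have e2 : ∀ l : L, conj ((χ : G → ℂ) (y * ((l : ↥(Subgroup.centralizer ({y} : Set G))) : G))) = conj ((χ : G → ℂ) y) :=
        fun l => congrArg conj (apply_mul hab hfree hM hy hy1 hχ ((hH y _).1 l.1.2)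
          (by rw [Subgroup.orderOf_coe]; exact (hLmem l.1).1 l.2))
      simp only [e1, e2, if_pos hχ, Finset.sum_const, nsmul_eq_mul, Finset.card_univ,
        ← Nat.card_eq_fintype_card]
      ring
    · rw [if_neg hχ, mul_zero]
      symm
      refine mul_eq_zero_of_left ?_ _
      have := ZStarSection.apply_average_eq_zero hM (pElem hx)
        (K := K.map (Subgroup.centralizer ({x} : Set G)).subtype) ?_ ?_ ?_ ?_ hχ
      · refine Eq.trans ?_ this
        exact Fintype.sum_equiv (K.equivMapOfInjective _ (Subgroup.subtype_injective _)).toEquiv _ _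
          fun k => rfl
      · rintro _ ⟨k, -, rfl⟩; exact (hH x _).1 k.2
      · rwa [Subgroup.card_map_of_injective (Subgroup.subtype_injective _)]
      · rintro g hg _ ⟨k, hk, rfl⟩
        exact ⟨⟨g, (hH x g).2 hg⟩ * k * ⟨g, (hH x g).2 hg⟩⁻¹, hKn.conj_mem k hk _, rfl⟩
      · intro g hg hgr
        exact ⟨⟨g, (hH x g).2 hg⟩, (hKmem _).2 (by rwa [Subgroup.orderOf_mk]), rfl⟩
  split_ifs with hn
  · obtain ⟨n, -, hn⟩ := hn
    have hval : ∀ χ : IrrCharacter G, (χ : G → ℂ) y = (χ : G → ℂ) x := fun χ =>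
      (apply_eq_of_isConj (irr_classFun χ) (isConj_iff.2 ⟨n, hn⟩)).symm
    simp only [hval]
    obtain ⟨K, hKn, hKc, hKcard, hKmem⟩ := exists_complement hab hfree hx hx1
    have h := main hx hx1 hx hx1 K K hKn hKn hKc hKc hKmem hKmem
    have hrow : ∀ k : K, ∑ l : K, (if IsConj (x * ((k : ↥(Subgroup.centralizer ({x} : Set G))) : G))
          (x * ((l : ↥(Subgroup.centralizer ({x} : Set G))) : G))
        then (Nat.card (Subgroup.centralizer ({x * ((k : ↥(Subgroup.centralizer ({x} : Set G))) : G)} : Set G)) : ℂ) else 0) =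
        (Nat.card ↥(Subgroup.centralizer ({x} : Set G)) : ℂ) := by
      intro k
      have hk := (hKmem k.1).1 k.2
      rw [← card_conj_mul_card_centralizer (k : ↥(Subgroup.centralizer ({x} : Set G))),
        BlockContribSection.card_centralizer_section (hH x) hM.1 (pElem hx) hk, Finset.sum_ite,
        Finset.sum_const_zero, add_zero, Finset.sum_const, nsmul_eq_mul, Nat.cast_mul]
      congr 2
      rw [Nat.card_eq_fintype_card, Fintype.card_subtype]
      refine Finset.card_bij (fun l _ => (l : ↥(Subgroup.centralizer ({x} : Set G)))) ?_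
        (fun a _ b _ h => Subtype.ext h) ?_
      · intro l hl
        rw [Finset.mem_filter] at hl ⊢
        exact ⟨Finset.mem_univ _, (BlockContribSection.isConj_section_iff (hH x) hM.1 (pElem hx) hk
          ((hKmem l.1).1 l.2)).1 hl.2⟩
      · intro c hc
        rw [Finset.mem_filter] at hc
        obtain ⟨g, hg⟩ := isConj_iff.1 hc.2
        have hcK : c ∈ K := hg ▸ hKn.conj_mem _ k.2 g
        exact ⟨⟨c, hcK⟩, by
          rw [Finset.mem_filter]
          exact ⟨Finset.mem_univ _, (BlockContribSection.isConj_section_iff (hH x) hM.1 (pElem hx) hk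
            ((hKmem c).1 hcK)).2 hc.2⟩, rfl⟩
    rw [Finset.sum_congr rfl fun k _ => hrow k, Finset.sum_const, nsmul_eq_mul, Finset.card_univ,
      ← Nat.card_eq_fintype_card (α := K), ← hKcard, Nat.cast_mul] at h
    have hK0 : (Nat.card K : ℂ) ≠ 0 := Nat.cast_ne_zero.2 Nat.card_pos.ne'
    exact mul_left_cancel₀ (mul_ne_zero hK0 hK0) (h.trans (by ring))
  · obtain ⟨K, hKn, hKc, -, hKmem⟩ := exists_complement hab hfree hx hx1
    obtain ⟨L, hLn, hLc, -, hLmem⟩ := exists_complement hab hfree hy hy1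
    have h := main hx hx1 hy hy1 K L hKn hLn hKc hLc hKmem hLmem
    rw [Finset.sum_eq_zero (f := fun k : K => ∑ l : L, _) fun k _ => Finset.sum_eq_zero fun l _ => ?_] at h
    · refine (mul_eq_zero.1 h).resolve_left (mul_ne_zero ?_ ?_) <;>
        exact Nat.cast_ne_zero.2 Nat.card_pos.ne'
    · rw [if_neg]
      intro hc
      obtain ⟨g, hg⟩ := isConj_iff.1 hc
      refine hn (exists_normalizer_conj hab hx hy (isConj_iff.2 ⟨g, ?_⟩))
      have hkr := (hKmem k.1).1 k.2
      refine pPart_unique hM.1 (g := y * ((l : ↥(Subgroup.centralizer ({y} : Set G))) : G))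
        ⟨g * ((k : ↥(Subgroup.centralizer ({x} : Set G))) : G) * g⁻¹, ?_, ?_, ?_, ?_⟩
        ⟨_, rfl, (hH y _).1 l.1.2, pElem hy, by rw [Subgroup.orderOf_coe]; exact (hLmem l.1).1 l.2⟩
      · rw [← hg]; group
      · exact (((hH x _).1 k.1.2).map (MulAut.conj g).toMonoidHom)
      · obtain ⟨j, hj⟩ := pElem hx
        exact ⟨j, hj ▸ orderOf_injective (MulAut.conj g).toMonoidHom (MulAut.conj g).injective x⟩
      · rw [← Subgroup.orderOf_coe] at hkr
        exact (orderOf_injective (MulAut.conj g).toMonoidHom (MulAut.conj g).injective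
          ((k : ↥(Subgroup.centralizer ({x} : Set G))) : G)).symm ▸ hkr

end Cfsg.Agent.BlockAbelianSylow86
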