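import Cfsg.Agent.Lib.BlockAbelianSylow86
import Cfsg.Agent.Lib.ClassAlgebraVal

/-!
The structure of the principal block for an abelian Sylow `p`-subgroup with free inertia quotient.
-/

set_option autoImplicit false

open scoped ComplexConjugate IsMulCommutative

namespace Cfsg.Agent.BlockAbelianSylow86

open Cfsg Cfsg.Agent.BlockTheoryLocalRing Cfsg.Agent.BlockTheoryCentre
  Cfsg.Agent.BlockTheoryIdem Cfsg.Agent.BlockPrincipal81 Cfsg.Agent.CharBasic
  Cfsg.Agent.CharBasicOrth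

attribute [local instance] Classical.propDecidable

universe u

variable {G : Type u} [Group G] [Fintype G] {p : ℕ} [Fact p.Prime] {M : Ideal AlgInt}
  (P : Sylow p G)

/-- Conjugation of `P` by its normalizer. -/
abbrev conjP : ↥(Subgroup.normalizer ((P : Subgroup G) : Set G)) →* MulAut ↥(P : Subgroup G) :=
  (P : Subgroup G).normalizerMonoidHom

theorem conjP_coe (n : ↥(Subgroup.normalizer ((P : Subgroup G) : Set G))) (y : ↥(P : Subgroup G)) :
    ((conjP P n y : ↥(P : Subgroup G)) : G) = (n : G) * y * (n : G)⁻¹ := rfl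

/-- The transform of a linear character of `P`. -/
noncomputable def act (φ : ↥(P : Subgroup G) →* ℂˣ) (n : ↥(Subgroup.normalizer ((P : Subgroup G) : Set G))) :
    ↥(P : Subgroup G) →* ℂˣ := φ.comp (conjP P n).toMonoidHom

theorem act_apply (φ : ↥(P : Subgroup G) →* ℂˣ) (n : ↥(Subgroup.normalizer ((P : Subgroup G) : Set G)))
    (y : ↥(P : Subgroup G)) : act P φ n y = φ (conjP P n y) := rfl

/-- Conjugacy of linear characters of `P` under the normalizer. -/
def SameOrbit (ψ φ : ↥(P : Subgroup G) →* ℂˣ) : Prop := ∃ n, act P φ n = ψ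

variable {P}

theorem sameOrbit_refl (ψ : ↥(P : Subgroup G) →* ℂˣ) : SameOrbit P ψ ψ :=
  ⟨1, MonoidHom.ext fun y => by rw [act_apply, map_one]; rfl⟩

theorem act_act (φ : ↥(P : Subgroup G) →* ℂˣ) (n n' : ↥(Subgroup.normalizer ((P : Subgroup G) : Set G))) :
    act P (act P φ n) n' = act P φ (n * n') :=
  MonoidHom.ext fun y => by rw [act_apply, act_apply, act_apply, map_mul]; rfl

theorem sameOrbit_symm {ψ φ : ↥(P : Subgroup G) →* ℂˣ} (h : SameOrbit P ψ φ) : SameOrbit P φ ψ := by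
  obtain ⟨n, rfl⟩ := h
  refine ⟨n⁻¹, ?_⟩
  rw [act_act, mul_inv_cancel]
  exact MonoidHom.ext fun y => by rw [act_apply, map_one]; rfl

theorem sameOrbit_trans {ψ φ θ : ↥(P : Subgroup G) →* ℂˣ} (h : SameOrbit P ψ φ)
    (h' : SameOrbit P φ θ) : SameOrbit P ψ θ := by
  obtain ⟨n, rfl⟩ := h
  obtain ⟨n', rfl⟩ := h'
  exact ⟨n' * n, (act_act θ n' n).symm⟩

theorem sameOrbit_one {ψ φ : ↥(P : Subgroup G) →* ℂˣ} (h : SameOrbit P ψ φ) (hψ : ψ ≠ 1) : φ ≠ 1 := by
  obtain ⟨n, rfl⟩ := h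
  rintro rfl
  exact hψ (MonoidHom.ext fun y => by rw [act_apply]; rfl)

theorem coe_ne_one {y : ↥(P : Subgroup G)} (hy : y ≠ 1) : (y : G) ≠ 1 := fun h => hy (Subtype.ext h)

variable (hab : IsMulCommutative (P : Subgroup G)) (hfree : FreeAction P) (hM : IsPModular p M)
  (m : ℕ) (hm : (Subgroup.centralizer ((P : Subgroup G) : Set G)).relIndex
    (Subgroup.normalizer ((P : Subgroup G) : Set G)) = m)

/-- The kernel of the action. -/
abbrev kerN (P : Sylow p G) : Subgroup ↥(Subgroup.normalizer ((P : Subgroup G) : Set G)) :=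
  (Subgroup.centralizer ((P : Subgroup G) : Set G)).subgroupOf (Subgroup.normalizer ((P : Subgroup G) : Set G))

include hab hfree in
theorem fixed_iff {y : ↥(P : Subgroup G)} (hy : y ≠ 1)
    (n : ↥(Subgroup.normalizer ((P : Subgroup G) : Set G))) : conjP P n y = y ↔ n ∈ kerN P := by
  rw [Subgroup.mem_subgroupOf, ← hfree y y.2 (coe_ne_one hy)]
  rw [Subtype.ext_iff, conjP_coe]
  constructor
  · exact fun h => ⟨Subgroup.mem_centralizer_singleton_iff.2 (mul_inv_eq_iff_eq_mul.1 h), n.2⟩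
  · exact fun h => mul_inv_eq_iff_eq_mul.2 (Subgroup.mem_centralizer_singleton_iff.1 h.1)

include hab hfree in
theorem act_fixed_iff {φ : ↥(P : Subgroup G) →* ℂˣ} (hφ : φ ≠ 1)
    (n : ↥(Subgroup.normalizer ((P : Subgroup G) : Set G))) : act P φ n = φ ↔ n ∈ kerN P := by
  constructor
  · intro h
    by_contra hn
    apply hφ
    set f : ↥(P : Subgroup G) →* ↥(P : Subgroup G) := (conjP P n).toMonoidHom / MonoidHom.id _ with hf
    have hinj : Function.Injective f := by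
      rw [injective_iff_map_eq_one]
      intro y hy
      by_contra hy1
      refine hn ((fixed_iff hab hfree hy1 n).1 ?_)
      rw [hf, MonoidHom.div_apply, div_eq_one] at hy
      exact hy
    have hsurj := (Finite.injective_iff_surjective).1 hinj
    refine MonoidHom.ext fun z => ?_
    obtain ⟨y, rfl⟩ := hsurj z
    rw [hf, MonoidHom.div_apply, map_div, MonoidHom.id_apply, MonoidHom.one_apply, div_eq_one]
    exact DFunLike.congr_fun h y
  · intro hn
    refine MonoidHom.ext fun y => ?_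
    rw [act_apply]
    rcases eq_or_ne y 1 with rfl | hy
    · rw [map_one]
    · rw [(fixed_iff hab hfree hy n).2 hn]

theorem card_kerN : Nat.card (kerN P) * (Subgroup.centralizer ((P : Subgroup G) : Set G)).relIndex
    (Subgroup.normalizer ((P : Subgroup G) : Set G)) =
    Nat.card ↥(Subgroup.normalizer ((P : Subgroup G) : Set G)) := Subgroup.card_mul_index _

include hm in
theorem card_kerN' : (Nat.card (kerN P) : ℂ) * m =
    (Nat.card ↥(Subgroup.normalizer ((P : Subgroup G) : Set G)) : ℂ) := by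
  rw [← card_kerN, hm, Nat.cast_mul]

section Fibres

variable [Fintype ↥(Subgroup.normalizer ((P : Subgroup G) : Set G))]

include hab hfree in
theorem count_conj {x y : ↥(P : Subgroup G)} (hx : x ≠ 1) :
    ((Finset.univ.filter fun n : ↥(Subgroup.normalizer ((P : Subgroup G) : Set G)) => conjP P n x = y).card : ℂ) =
      if ∃ n, conjP P n x = y then (Nat.card (kerN P) : ℂ) else 0 := by
  split_ifs with h
  · obtain ⟨n₀, rfl⟩ := h
    rw [Nat.cast_inj, Nat.card_eq_fintype_card, Fintype.card_subtype]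
    refine Finset.card_equiv (Equiv.mulLeft n₀⁻¹) fun n => ?_
    simp only [Finset.mem_filter, Finset.mem_univ, true_and, Equiv.coe_mulLeft]
    rw [← fixed_iff hab hfree hx, map_mul, MulAut.mul_apply, map_inv]
    exact ⟨fun h => by rw [h]; exact (conjP P n₀).symm_apply_apply x,
      fun h => (conjP P n₀).symm.injective (h.trans ((conjP P n₀).symm_apply_apply x).symm)⟩
  · rw [Nat.cast_eq_zero, Finset.card_eq_zero, Finset.filter_eq_empty_iff]
    exact fun n _ hn => h ⟨n, hn⟩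

include hab hfree in
theorem count_act {ψ φ : ↥(P : Subgroup G) →* ℂˣ} (hψ : ψ ≠ 1) :
    (Finset.univ.filter fun n : ↥(Subgroup.normalizer ((P : Subgroup G) : Set G)) => act P φ n = ψ).card =
      if SameOrbit P ψ φ then Nat.card (kerN P) else 0 := by
  split_ifs with h
  · obtain ⟨n₀, rfl⟩ := h
    rw [Nat.card_eq_fintype_card, Fintype.card_subtype]
    refine Finset.card_equiv (Equiv.mulLeft n₀⁻¹) fun n => ?_
    simp only [Finset.mem_filter, Finset.mem_univ, true_and, Equiv.coe_mulLeft]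
    rw [← act_fixed_iff hab hfree hψ, act_act, mul_inv_cancel_left]
  · rw [Finset.card_eq_zero, Finset.filter_eq_empty_iff]
    exact fun n _ hn => h ⟨n, hn⟩

end Fibres

include hab hfree hm in
theorem card_orbit {ψ : ↥(P : Subgroup G) →* ℂˣ} (hψ : ψ ≠ 1) :
    Nat.card {φ // SameOrbit P φ ψ} = m := by
  haveI : Fintype (↥(P : Subgroup G) →* ℂˣ) := Fintype.ofFinite _
  haveI : Fintype ↥(Subgroup.normalizer ((P : Subgroup G) : Set G)) := Fintype.ofFinite _
  have h := Finset.card_eq_sum_card_fiberwise (f := fun n => act P ψ n)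
    (s := (Finset.univ : Finset ↥(Subgroup.normalizer ((P : Subgroup G) : Set G))))
    (t := Finset.univ.filter fun φ => SameOrbit P φ ψ) (fun n _ => by
      simp only [Finset.coe_filter, Finset.mem_univ, true_and]; exact ⟨n, rfl⟩)
  rw [Finset.sum_congr rfl fun φ hφ => (count_act hab hfree
    (sameOrbit_one (sameOrbit_symm (Finset.mem_filter.1 hφ).2) hψ)).trans (if_pos (Finset.mem_filter.1 hφ).2),
    Finset.sum_const, smul_eq_mul, Finset.card_univ, ← Nat.card_eq_fintype_card, ← card_kerN, hm] at h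
  rw [Nat.card_eq_fintype_card, Fintype.card_subtype]
  exact (Nat.eq_of_mul_eq_mul_left Nat.card_pos (h.trans (mul_comm _ _))).symm

/-- The reduced multiplicity of `ψ` in `χ` restricted to `P`, as a complex number. -/
noncomputable def multC (P : Sylow p G) [Fintype ↥(P : Subgroup G)] (χ : G → ℂ)
    (ψ : ↥(P : Subgroup G) →* ℂˣ) : ℂ :=
  (Nat.card (P : Subgroup G) : ℂ)⁻¹ * ∑ y : ↥(P : Subgroup G), χ y * (conj (ψ y : ℂ) - 1)

theorem exists_multC_eq (P : Sylow p G) [Fintype ↥(P : Subgroup G)] (χ : IrrCharacter G)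
    (ψ : ↥(P : Subgroup G) →* ℂˣ) : ∃ z : ℤ, multC P (χ : G → ℂ) ψ = z := by
  have hc := isCharacter_comap (P : Subgroup G).subtype (isCharacter_of_isIrrCharacter χ.2)
  obtain ⟨a, ha⟩ := classInner_isCharacter hc (CharBasicDecomp.isCharacter_linear ψ)
  obtain ⟨b, hb⟩ := classInner_isCharacter hc (CharBasicDecomp.isCharacter_one)
  refine ⟨(a : ℤ) - b, ?_⟩
  rw [Int.cast_sub, Int.cast_natCast, Int.cast_natCast, ← ha, ← hb, multC, classInner, classInner,
    ← mul_sub, ← Finset.sum_sub_distrib]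
  refine congrArg _ (Finset.sum_congr rfl fun y _ => ?_)
  simp only [Function.comp_apply, Subgroup.subtype_apply, map_one]
  ring

/-- The reduced multiplicity of `ψ` in `χ` restricted to `P`. -/
noncomputable def mult (P : Sylow p G) [Fintype ↥(P : Subgroup G)] (χ : IrrCharacter G)
    (ψ : ↥(P : Subgroup G) →* ℂˣ) : ℤ := (exists_multC_eq P χ ψ).choose

theorem mult_spec (P : Sylow p G) [Fintype ↥(P : Subgroup G)] (χ : IrrCharacter G)
    (ψ : ↥(P : Subgroup G) →* ℂˣ) : multC P (χ : G → ℂ) ψ = (mult P χ ψ : ℂ) :=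
  (exists_multC_eq P χ ψ).choose_spec

variable [Fintype ↥(P : Subgroup G)]

theorem mult_trivial (χ : IrrCharacter G) : mult P χ 1 = 0 := by
  have h := mult_spec P χ 1
  rw [multC] at h
  simp only [MonoidHom.one_apply, Units.val_one, map_one, sub_self, mul_zero, Finset.sum_const_zero] at h
  exact_mod_cast h.symm

include hab in
theorem apply_eq_sum_mult [Fintype (↥(P : Subgroup G) →* ℂˣ)] (χ : IrrCharacter G)
    {x : ↥(P : Subgroup G)} (hx : x ≠ 1) :
    (χ : G → ℂ) x = ∑ ψ : ↥(P : Subgroup G) →* ℂˣ, (mult P χ ψ : ℂ) * (ψ x : ℂ) := by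
  haveI := hab
  simp only [← mult_spec, multC, mul_assoc, Finset.sum_mul, ← Finset.mul_sum]
  rw [Finset.sum_comm]
  have e : ∀ y : ↥(P : Subgroup G), ∑ ψ : ↥(P : Subgroup G) →* ℂˣ,
      (χ : G → ℂ) y * ((conj (ψ y : ℂ) - 1) * (ψ x : ℂ)) =
      if x = y then (χ : G → ℂ) y * (Fintype.card ↥(P : Subgroup G) : ℂ) else 0 := by
    intro y
    rw [← Finset.mul_sum]
    have e2 : ∑ ψ : ↥(P : Subgroup G) →* ℂˣ, (conj (ψ y : ℂ) - 1) * (ψ x : ℂ) =
        (∑ ψ : ↥(P : Subgroup G) →* ℂˣ, (ψ (y⁻¹ * x) : ℂ)) - ∑ ψ : ↥(P : Subgroup G) →* ℂˣ, (ψ x : ℂ) := by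
      rw [← Finset.sum_sub_distrib]
      refine Finset.sum_congr rfl fun ψ _ => ?_
      rw [sub_mul, one_mul, conj_apply, map_mul, Units.val_mul]
    rw [e2, sum_dual, sum_dual, if_neg hx, sub_zero]
    by_cases h : x = y
    · subst h; simp
    · rw [if_neg h, if_neg fun h' => h (inv_mul_eq_one.1 h').symm, mul_zero]
  rw [Finset.sum_congr rfl fun y _ => e y, Finset.sum_ite_eq, if_pos (Finset.mem_univ x),
    Nat.card_eq_fintype_card]
  have : (Fintype.card ↥(P : Subgroup G) : ℂ) ≠ 0 := Nat.cast_ne_zero.2 Fintype.card_ne_zero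
  field_simp

include hab hfree hM hm in
theorem gram [Fintype (↥(P : Subgroup G) →* ℂˣ)] {ψ φ : ↥(P : Subgroup G) →* ℂˣ} (hψ : ψ ≠ 1) (hφ : φ ≠ 1) :
    ∑ χ ∈ Finset.univ.filter (fun χ : IrrCharacter G => χ ∈ principalBlock M G),
      mult P χ ψ * mult P χ φ = (m : ℤ) + if SameOrbit P ψ φ then 1 else 0 := by
  haveI := hab
  haveI : Fintype ↥(Subgroup.normalizer ((P : Subgroup G) : Set G)) := Fintype.ofFinite _
  have hint : ((∑ χ ∈ Finset.univ.filter (fun χ : IrrCharacter G => χ ∈ principalBlock M G),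
      mult P χ ψ * mult P χ φ : ℤ) : ℂ) = (((m : ℤ) + if SameOrbit P ψ φ then 1 else 0 : ℤ) : ℂ) := by
    set q : ℂ := (Nat.card (P : Subgroup G) : ℂ) with hq
    have hq0 : q ≠ 0 := Nat.cast_ne_zero.2 Nat.card_pos.ne'
    set c : ℂ := (Nat.card (kerN P) : ℂ) with hc
    have hc0 : c ≠ 0 := Nat.cast_ne_zero.2 Nat.card_pos.ne'
    have h1 : ∀ χ : IrrCharacter G, ((mult P χ ψ * mult P χ φ : ℤ) : ℂ) = q⁻¹ * q⁻¹ *
        ∑ x : ↥(P : Subgroup G), ∑ y : ↥(P : Subgroup G),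
          ((χ : G → ℂ) x * conj ((χ : G → ℂ) y)) * ((conj (ψ x : ℂ) - 1) * ((φ y : ℂ) - 1)) := by
      intro χ
      rw [Int.cast_mul, ← mult_spec, show multC P (χ : G → ℂ) ψ * (mult P χ φ : ℂ) = multC P (χ : G → ℂ) ψ * conj (multC P (χ : G → ℂ) φ) by
        rw [mult_spec P χ φ, map_intCast]]
      simp only [multC, map_mul, map_inv₀, map_natCast, map_sum, map_sub, map_one,
        Complex.conj_conj, ← hq]
      rw [show conj q = q by rw [hq, map_natCast], mul_mul_mul_comm, Finset.sum_mul_sum]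
      exact congrArg _ (Finset.sum_congr rfl fun x _ => Finset.sum_congr rfl fun y _ => by ring)
    have h2 : ∀ x y : ↥(P : Subgroup G),
        (∑ χ ∈ Finset.univ.filter (fun χ : IrrCharacter G => χ ∈ principalBlock M G),
          (χ : G → ℂ) x * conj ((χ : G → ℂ) y)) * ((conj (ψ x : ℂ) - 1) * ((φ y : ℂ) - 1)) =
        q * c⁻¹ * ((((Finset.univ.filter fun n : ↥(Subgroup.normalizer ((P : Subgroup G) : Set G)) =>
          conjP P n x = y).card : ℂ)) * ((conj (ψ x : ℂ) - 1) * ((φ y : ℂ) - 1))) := by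
      intro x y
      rcases eq_or_ne x 1 with rfl | hx
      · simp
      rcases eq_or_ne y 1 with rfl | hy
      · simp
      rw [Finset.sum_filter, column hab hfree hM x.2 (coe_ne_one hx) y.2 (coe_ne_one hy),
        count_conj hab hfree hx, ← mul_assoc (q * c⁻¹)]
      refine congrArg (· * _) ?_
      have hiff : (∃ n ∈ Subgroup.normalizer ((P : Subgroup G) : Set G), n * (x : G) * n⁻¹ = (y : G)) ↔
          ∃ n, conjP P n x = y :=
        ⟨fun ⟨n, hn, h⟩ => ⟨⟨n, hn⟩, Subtype.ext h⟩, fun ⟨n, h⟩ => ⟨n, n.2, congrArg Subtype.val h⟩⟩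
      simp only [hiff]
      split_ifs
      · rw [← hc, ← hq]; field_simp
      · simp
    have h3 : ∀ n : ↥(Subgroup.normalizer ((P : Subgroup G) : Set G)),
        ∑ x : ↥(P : Subgroup G), (conj (ψ x : ℂ) - 1) * ((φ (conjP P n x) : ℂ) - 1) =
          q * ((if act P φ n = ψ then 1 else 0) + 1) := by
      intro n
      have e : ∀ x, (conj (ψ x : ℂ) - 1) * ((φ (conjP P n x) : ℂ) - 1) =
          (act P φ n x : ℂ) * conj (ψ x : ℂ) - (act P φ n x : ℂ) - (ψ⁻¹ x : ℂ) + 1 := fun x => by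
        rw [conj_apply, MonoidHom.inv_apply, ← map_inv, act_apply]; ring
      have hn1 : act P φ n ≠ 1 := sameOrbit_one (sameOrbit_symm ⟨n, rfl⟩) hφ
      rw [Finset.sum_congr rfl fun x _ => e x, Finset.sum_add_distrib, Finset.sum_sub_distrib,
        Finset.sum_sub_distrib, sum_mul_conj, sum_apply_eq_zero hn1,
        sum_apply_eq_zero (ψ := ψ⁻¹) (fun h' => hψ (by rw [← inv_inv ψ, h']; exact MonoidHom.ext fun _ => inv_one)), Finset.sum_const, nsmul_eq_mul, mul_one, Finset.card_univ,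
        hq, Nat.card_eq_fintype_card]
      split_ifs <;> ring
    calc ((∑ χ ∈ Finset.univ.filter (fun χ : IrrCharacter G => χ ∈ principalBlock M G),
          mult P χ ψ * mult P χ φ : ℤ) : ℂ)
        = q⁻¹ * q⁻¹ * ∑ x : ↥(P : Subgroup G), ∑ y : ↥(P : Subgroup G),
          (∑ χ ∈ Finset.univ.filter (fun χ : IrrCharacter G => χ ∈ principalBlock M G),
            (χ : G → ℂ) x * conj ((χ : G → ℂ) y)) * ((conj (ψ x : ℂ) - 1) * ((φ y : ℂ) - 1)) := by
          rw [Int.cast_sum, Finset.sum_congr rfl fun χ _ => h1 χ, ← Finset.mul_sum, Finset.sum_comm]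
          refine congrArg _ (Finset.sum_congr rfl fun x _ => ?_)
          rw [Finset.sum_comm]
          exact Finset.sum_congr rfl fun y _ => (Finset.sum_mul _ _ _).symm
      _ = q⁻¹ * c⁻¹ * ∑ x : ↥(P : Subgroup G), ∑ n : ↥(Subgroup.normalizer ((P : Subgroup G) : Set G)),
          (conj (ψ x : ℂ) - 1) * ((φ (conjP P n x) : ℂ) - 1) := by
          rw [Finset.sum_congr rfl fun x _ => Finset.sum_congr rfl fun y _ => h2 x y]
          simp only [← Finset.mul_sum]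
          rw [show q⁻¹ * q⁻¹ * (q * c⁻¹ * ∑ x : ↥(P : Subgroup G), ∑ y : ↥(P : Subgroup G),
              (((Finset.univ.filter fun n : ↥(Subgroup.normalizer ((P : Subgroup G) : Set G)) =>
                conjP P n x = y).card : ℂ) * ((conj (ψ x : ℂ) - 1) * ((φ y : ℂ) - 1)))) =
              q⁻¹ * c⁻¹ * ∑ x : ↥(P : Subgroup G), ∑ y : ↥(P : Subgroup G),
              (((Finset.univ.filter fun n : ↥(Subgroup.normalizer ((P : Subgroup G) : Set G)) =>
                conjP P n x = y).card : ℂ) * ((conj (ψ x : ℂ) - 1) * ((φ y : ℂ) - 1))) by field_simp]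
          refine congrArg _ (Finset.sum_congr rfl fun x _ => ?_)
          rw [Finset.mul_sum, ← Finset.sum_fiberwise Finset.univ (fun n => conjP P n x)]
          refine Finset.sum_congr rfl fun y _ => ?_
          rw [Finset.sum_congr rfl fun n hn => by rw [(Finset.mem_filter.1 hn).2], Finset.sum_const,
            nsmul_eq_mul]
      _ = q⁻¹ * c⁻¹ * (q * ((if SameOrbit P ψ φ then c else 0) + c * m)) := by
          rw [Finset.sum_comm, Finset.sum_congr rfl fun n _ => h3 n, ← Finset.mul_sum,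
            Finset.sum_add_distrib, Finset.sum_boole, count_act hab hfree hψ, Finset.sum_const,
            nsmul_eq_mul, mul_one, Finset.card_univ, ← Nat.card_eq_fintype_card, hc, card_kerN' m hm]
          split_ifs <;> simp
      _ = _ := by split_ifs <;> · push_cast; field_simp; ring
  exact_mod_cast hint

include hab hfree hM in
theorem sum_mult_mul_regular {ψ : ↥(P : Subgroup G) →* ℂˣ} {g : G} (hg : ¬ p ∣ orderOf g) :
    ∑ χ ∈ Finset.univ.filter (fun χ : IrrCharacter G => χ ∈ principalBlock M G),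
      (mult P χ ψ : ℂ) * (χ : G → ℂ) g = 0 := by
  simp only [← mult_spec, multC, Finset.mul_sum, Finset.sum_mul]
  rw [Finset.sum_comm]
  refine Finset.sum_eq_zero fun x _ => ?_
  rcases eq_or_ne x 1 with rfl | hx
  · simp
  have hs : p ∣ orderOf ((x : G)⁻¹) := by rw [orderOf_inv]; exact singular x.2 (coe_ne_one hx)
  have h0 := weak_orthogonality hM (isPBlock_principal (M := M) (G := G)) hg hs
  rw [← Finset.sum_filter] at h0
  rw [Finset.sum_congr rfl fun (χ : IrrCharacter G) _ => show (Nat.card (P : Subgroup G) : ℂ)⁻¹ *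
    ((χ : G → ℂ) x * (conj (ψ x : ℂ) - 1)) * (χ : G → ℂ) g =
    (Nat.card (P : Subgroup G) : ℂ)⁻¹ * (conj (ψ x : ℂ) - 1) *
      ((χ : G → ℂ) g * conj ((χ : G → ℂ) (x : G)⁻¹)) by
    rw [irr_inv, Complex.conj_conj]; ring, ← Finset.mul_sum, h0, mul_zero]

include hab hfree hM in
/-- A member of the principal block is not zero on all of `P` except the identity. -/
theorem exists_mult_ne_zero [Fintype (↥(P : Subgroup G) →* ℂˣ)] (hP : Nat.card (P : Subgroup G) ≠ 1)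
    {χ : IrrCharacter G} (hχ : χ ∈ principalBlock M G) : ∃ ψ, mult P χ ψ ≠ 0 := by
  by_contra h
  push Not at h
  have hz : ∀ y : G, y ∈ (P : Subgroup G) → y ≠ 1 → (χ : G → ℂ) y = 0 := fun y hy hy1 => by
    rw [show y = ((⟨y, hy⟩ : ↥(P : Subgroup G)) : G) from rfl,
      apply_eq_sum_mult hab χ (x := ⟨y, hy⟩) fun h' => hy1 (congrArg Subtype.val h')]
    simp [h]
  have hsing : ∀ g : G, p ∣ orderOf g → (χ : G → ℂ) g = 0 := by
    intro g hg
    obtain ⟨x, r, hxr, hcm, ⟨j, hj⟩, hr⟩ := exists_pPart (Fact.out : p.Prime) g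
    have hx1 : x ≠ 1 := by
      rintro rfl
      rw [one_mul] at hxr
      exact hr (hxr.symm ▸ hg)
    have hxp : IsPGroup p (Subgroup.zpowers x) := IsPGroup.iff_card.2 ⟨j, by rw [Nat.card_zpowers, hj]⟩
    obtain ⟨Q, hQ⟩ := hxp.exists_le_sylow
    obtain ⟨a, ha⟩ := MulAction.exists_smul_eq G Q P
    have hxP : a * x * a⁻¹ ∈ (P : Subgroup G) := by
      rw [← ha, Sylow.coe_subgroup_smul]
      exact ⟨x, hQ (Subgroup.mem_zpowers x), rfl⟩
    have hne : a * x * a⁻¹ ≠ 1 := fun h' => hx1 (conj_eq_one_iff.1 h')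
    rw [← irr_classFun χ g a, ← hxr,
      apply_eq hab hfree hM (z := a * (x * r) * a⁻¹) (y := a * x * a⁻¹) ⟨a * r * a⁻¹, by group,
        hcm.map (MulAut.conj a).toMonoidHom,
        ⟨j, hj ▸ orderOf_injective (MulAut.conj a).toMonoidHom (MulAut.conj a).injective x⟩,
        (orderOf_injective (MulAut.conj a).toMonoidHom (MulAut.conj a).injective r).symm ▸ hr⟩
        hxP hne hχ]
    exact hz _ hxP hne
  by_cases h1 : χ = oneChar G
  · haveI : Nontrivial ↥(P : Subgroup G) := Finite.one_lt_card_iff_nontrivial.1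
      (lt_of_le_of_ne Nat.card_pos (Ne.symm hP))
    obtain ⟨y, hy⟩ := exists_ne (1 : ↥(P : Subgroup G))
    have := hz y y.2 (coe_ne_one hy)
    rw [h1] at this
    exact one_ne_zero this
  refine (ZStarPrincipal.mem_principal_iff hM χ).1 hχ ?_
  have h0 := classInner_irr_ne χ.2 (oneChar G).2 fun e => h1 (Subtype.ext e)
  rw [classInner, mul_eq_zero] at h0
  rcases h0 with h0 | h0
  · simp at h0
  rw [ZStarPrincipal.regSum]
  refine Eq.trans (Finset.sum_congr rfl fun g _ => ?_) h0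
  simp only [oneChar, map_one, mul_one]
  split_ifs with hg
  · exact (hsing g hg).symm
  · rfl

include hab hfree hM hm in
/-- The shape of the principal block. -/
theorem exists_shape [Fintype (↥(P : Subgroup G) →* ℂˣ)] (hm2 : m + 1 < Nat.card (P : Subgroup G)) :
    ∃ (ζ : (↥(P : Subgroup G) →* ℂˣ) → IrrCharacter G) (δ : ℤ) (R : IrrCharacter G → ℤ) (c : ℤ),
      (δ = 1 ∨ δ = -1) ∧
      (∀ ψ, ψ ≠ 1 → ζ ψ ∈ principalBlock M G ∧ R (ζ ψ) = c) ∧
      (∀ ψ, ψ ≠ 1 → ∀ φ, φ ≠ 1 → (ζ ψ = ζ φ ↔ SameOrbit P ψ φ)) ∧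
      ∀ ψ, ψ ≠ 1 → ∀ χ ∈ principalBlock M G,
        mult P χ ψ = R χ + δ * if χ = ζ ψ then 1 else 0 := by
  haveI := hab
  have htwo : ∃ ψ ∈ {ψ : ↥(P : Subgroup G) →* ℂˣ | ψ ≠ 1}, ∃ φ ∈ {ψ : ↥(P : Subgroup G) →* ℂˣ | ψ ≠ 1},
      ¬ SameOrbit P ψ φ := by
    have hcard : Fintype.card (↥(P : Subgroup G) →* ℂˣ) = Nat.card (P : Subgroup G) := by
      rw [← Nat.card_eq_fintype_card, CommGroup.card_monoidHom_of_hasEnoughRootsOfUnity]
    by_contra h
    push Not at h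
    obtain ⟨ψ₀, hψ₀⟩ : ∃ ψ : ↥(P : Subgroup G) →* ℂˣ, ψ ≠ 1 :=
      Fintype.exists_ne_of_one_lt_card (by omega) 1
    have h1 : (Finset.univ.filter fun φ : ↥(P : Subgroup G) →* ℂˣ => φ ≠ 1) ⊆
        Finset.univ.filter fun φ => SameOrbit P φ ψ₀ := by
      intro φ hφ
      simp only [Finset.mem_filter, Finset.mem_univ, true_and] at hφ ⊢
      exact h φ hφ ψ₀ hψ₀
    have h2 := Finset.card_le_card h1
    rw [Finset.filter_ne', Finset.card_erase_of_mem (Finset.mem_univ _), Finset.card_univ, hcard,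
      ← Fintype.card_subtype, ← Nat.card_eq_fintype_card, card_orbit hab hfree m hm hψ₀] at h2
    omega
  obtain ⟨ζ, δ, R, c, hδ, h1, h2, h3⟩ := SignedDifferences86.exists_signed
    (Finset.univ.filter (fun χ : IrrCharacter G => χ ∈ principalBlock M G))
    {ψ : ↥(P : Subgroup G) →* ℂˣ | ψ ≠ 1} (SameOrbit P) (fun ψ _ => sameOrbit_refl ψ)
    sameOrbit_symm sameOrbit_trans htwo (fun χ ψ => mult P χ ψ)
    (fun χ => (charDegree (χ : G → ℂ) : ℤ))
    (fun χ _ => by exact_mod_cast ClassAlgebraVal.charDegree_pos χ) m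
    (fun ψ hψ φ hφ => gram hab hfree hM m hm hψ hφ)
    (fun ψ _ => by
      have h := sum_mult_mul_regular hab hfree hM (ψ := ψ) (g := 1)
        (by rw [orderOf_one, Nat.dvd_one]; exact hM.1.ne_one)
      simp only [ClassAlgebraVal.apply_one_eq_charDegree] at h
      exact_mod_cast h)
  exact ⟨ζ, δ, R, c, hδ, fun ψ hψ => ⟨(Finset.mem_filter.1 (h1 ψ hψ).1).2, (h1 ψ hψ).2⟩, h2,
    fun ψ hψ χ hχ => (h3 ψ hψ χ (by simp [hχ])).trans (by congr!)⟩


/-- The exceptional sum over the orbit of a linear character. -/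
noncomputable def orbitSum [Fintype (↥(P : Subgroup G) →* ℂˣ)] (ψ : ↥(P : Subgroup G) →* ℂˣ)
    (y : ↥(P : Subgroup G)) : ℂ :=
  ∑ φ ∈ Finset.univ.filter (fun φ => SameOrbit P φ ψ), (φ y : ℂ)

theorem mult_oneChar {ψ : ↥(P : Subgroup G) →* ℂˣ} (hab : IsMulCommutative (P : Subgroup G))
    (hψ : ψ ≠ 1) : mult P (oneChar G) ψ = -1 := by
  haveI := hab
  have h := mult_spec P (oneChar G) ψ
  rw [multC] at h
  simp only [oneChar, one_mul, Finset.sum_sub_distrib, Finset.sum_const, nsmul_eq_mul, mul_one,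
    Finset.card_univ, ← Nat.card_eq_fintype_card, ← map_sum, sum_apply_eq_zero hψ, map_zero,
    zero_sub, mul_neg] at h
  rw [inv_mul_cancel₀ (Nat.cast_ne_zero.2 Nat.card_pos.ne')] at h
  exact_mod_cast h.symm

include hab hfree hM hm in
/-- The principal block is made of non-exceptional characters `X` and exceptional characters `Y`. -/
theorem structure_theorem [Fintype (↥(P : Subgroup G) →* ℂˣ)] (hm2 : m + 1 < Nat.card (P : Subgroup G)) :
    ∃ (X Y : Finset (IrrCharacter G)) (a : IrrCharacter G → ℤ) (d δ : ℤ)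
      (ζ : (↥(P : Subgroup G) →* ℂˣ) → IrrCharacter G),
      (δ = 1 ∨ δ = -1) ∧ Disjoint X Y ∧ (∀ χ, χ ∈ principalBlock M G ↔ χ ∈ X ∨ χ ∈ Y) ∧
      Y.card * m + 1 = Nat.card (P : Subgroup G) ∧ 2 ≤ Y.card ∧
      oneChar G ∈ X ∧ a (oneChar G) = 1 ∧
      (∀ ψ, ψ ≠ 1 → ζ ψ ∈ Y) ∧ (∀ η ∈ Y, ∃ ψ, ψ ≠ 1 ∧ ζ ψ = η) ∧
      (∀ ψ, ψ ≠ 1 → ∀ φ, φ ≠ 1 → (ζ ψ = ζ φ ↔ SameOrbit P ψ φ)) ∧
      (∀ χ ∈ X, a χ ≠ 0 ∧ ∀ y : ↥(P : Subgroup G), y ≠ 1 → (χ : G → ℂ) y = (a χ : ℂ)) ∧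
      (∀ ψ, ψ ≠ 1 → ∀ y : ↥(P : Subgroup G), y ≠ 1 →
        (ζ ψ : G → ℂ) y = (d : ℂ) + (δ : ℂ) * orbitSum ψ y) ∧
      ((d - δ) ^ 2 + ((Y.card : ℤ) - 1) * d ^ 2 + ∑ χ ∈ X, a χ ^ 2 = (m : ℤ) + 1) ∧
      (∀ η ∈ Y, ∀ η' ∈ Y, ∀ g : G, ¬ p ∣ orderOf g → (η : G → ℂ) g = (η' : G → ℂ) g) ∧
      (∀ η ∈ Y, ∀ g : G, ¬ p ∣ orderOf g →
        ((Y.card : ℂ) * d - δ) * (η : G → ℂ) g + ∑ χ ∈ X, (a χ : ℂ) * (χ : G → ℂ) g = 0) := by
  haveI := hab
  obtain ⟨ζ, δ, R, c, hδ, hζ, hinj, hw⟩ := exists_shape hab hfree hM m hm hm2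
  set T := Finset.univ.filter (fun ψ : ↥(P : Subgroup G) →* ℂˣ => ψ ≠ 1) with hT
  have hTmem : ∀ ψ, ψ ∈ T ↔ ψ ≠ 1 := fun ψ => by simp [hT]
  set Y := T.image ζ with hY
  set W := Finset.univ.filter (fun χ : IrrCharacter G => χ ∈ principalBlock M G) with hW
  set X := W \ Y with hX
  have hYW : Y ⊆ W := by
    intro η hη
    obtain ⟨ψ, hψ, rfl⟩ := Finset.mem_image.1 hη
    simp [hW, (hζ ψ ((hTmem ψ).1 hψ)).1]
  have hWmem : ∀ {χ}, χ ∈ W → χ ∈ principalBlock M G := fun h => (Finset.mem_filter.1 h).2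
  have hfib : ∀ ψ, ψ ≠ 1 → T.filter (fun φ => ζ φ = ζ ψ) = Finset.univ.filter (fun φ => SameOrbit P φ ψ) := by
    intro ψ hψ
    ext φ
    simp only [Finset.mem_filter, Finset.mem_univ, true_and, hTmem]
    exact ⟨fun h => (hinj φ h.1 ψ hψ).1 h.2, fun h => ⟨sameOrbit_one (sameOrbit_symm h) hψ,
      (hinj φ (sameOrbit_one (sameOrbit_symm h) hψ) ψ hψ).2 h⟩⟩
  have hTcard : T.card + 1 = Nat.card (P : Subgroup G) := by
    have hne : 1 ≤ Fintype.card (↥(P : Subgroup G) →* ℂˣ) := Fintype.card_pos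
    rw [hT, Finset.filter_ne', Finset.card_erase_of_mem (Finset.mem_univ _), Finset.card_univ,
      Nat.sub_add_cancel hne, ← Nat.card_eq_fintype_card,
      CommGroup.card_monoidHom_of_hasEnoughRootsOfUnity]
  have hYcard : Y.card * m + 1 = Nat.card (P : Subgroup G) := by
    rw [← hTcard, Finset.card_eq_sum_card_image ζ T, ← smul_eq_mul, ← Finset.sum_const, hY]
    refine congrArg (· + 1) (Finset.sum_congr rfl fun η hη => ?_)
    obtain ⟨ψ, hψ, rfl⟩ := Finset.mem_image.1 hη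
    rw [hfib ψ ((hTmem ψ).1 hψ), ← Fintype.card_subtype, ← Nat.card_eq_fintype_card,
      card_orbit hab hfree m hm ((hTmem ψ).1 hψ)]
  have hYtwo : 2 ≤ Y.card := by
    by_contra h
    have : Y.card * m ≤ 1 * m := Nat.mul_le_mul_right m (by omega)
    omega
  have hT1 : ∀ y : ↥(P : Subgroup G), y ≠ 1 → ∑ ψ ∈ T, (ψ y : ℂ) = -1 := by
    intro y hy
    have h := sum_dual (A := ↥(P : Subgroup G)) y
    rw [if_neg hy, ← Finset.add_sum_erase _ _ (Finset.mem_univ (1 : ↥(P : Subgroup G) →* ℂˣ))] at h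
    rw [hT, Finset.filter_ne']
    simp only [MonoidHom.one_apply, Units.val_one] at h
    linear_combination h
  have hval : ∀ χ ∈ W, ∀ y : ↥(P : Subgroup G), y ≠ 1 → (χ : G → ℂ) y =
      -(R χ : ℂ) + (δ : ℂ) * ∑ ψ ∈ T.filter (fun ψ => ζ ψ = χ), (ψ y : ℂ) := by
    intro χ hχ y hy
    rw [apply_eq_sum_mult hab χ hy, ← Finset.sum_filter_add_sum_filter_not Finset.univ (fun ψ => ψ ≠ 1),
      Finset.sum_eq_zero (s := Finset.univ.filter fun ψ : ↥(P : Subgroup G) →* ℂˣ => ¬ ψ ≠ 1)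
        (fun ψ hψ => by
          rw [Finset.mem_filter, not_not] at hψ
          rw [hψ.2, mult_trivial, Int.cast_zero, zero_mul]), add_zero, ← hT,
      Finset.sum_congr rfl fun ψ hψ => show (mult P χ ψ : ℂ) * (ψ y : ℂ) =
        (R χ : ℂ) * (ψ y : ℂ) + if ζ ψ = χ then (δ : ℂ) * (ψ y : ℂ) else 0 by
          rw [hw ψ ((hTmem ψ).1 hψ) χ (hWmem hχ)]
          by_cases h : ζ ψ = χ
          · rw [if_pos h, if_pos h.symm]; push_cast; ring
          · rw [if_neg h, if_neg fun h' => h h'.symm]; simp,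
      Finset.sum_add_distrib, ← Finset.mul_sum, hT1 y hy, ← Finset.sum_filter, Finset.mul_sum]
    ring
  have hnotY : ∀ χ ∈ X, ∀ ψ, ψ ≠ 1 → χ ≠ ζ ψ := fun χ hχ ψ hψ h =>
    (Finset.mem_sdiff.1 hχ).2 (h ▸ Finset.mem_image_of_mem ζ ((hTmem ψ).2 hψ))
  have hone : oneChar G ∈ W := by simp [hW, oneChar_mem hM]
  obtain ⟨ψ₀, hψ₀⟩ : ∃ ψ, ψ ∈ T := Finset.card_pos.1 (by omega)
  have honeX : oneChar G ∈ X := by
    refine Finset.mem_sdiff.2 ⟨hone, fun h => ?_⟩
    obtain ⟨ψ, hψ, he⟩ := Finset.mem_image.1 h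
    obtain ⟨η, hη, hne⟩ := Finset.exists_mem_ne (show 1 < Y.card by omega) (oneChar G)
    obtain ⟨φ, hφ, rfl⟩ := Finset.mem_image.1 hη
    have e1 := hw ψ ((hTmem ψ).1 hψ) _ (hWmem hone)
    have e2 := hw φ ((hTmem φ).1 hφ) _ (hWmem hone)
    rw [mult_oneChar hab ((hTmem ψ).1 hψ), if_pos he.symm] at e1
    rw [mult_oneChar hab ((hTmem φ).1 hφ), if_neg hne.symm] at e2
    rcases hδ with rfl | rfl <;> omega
  have hcY : ∀ η ∈ Y, R η = c := by
    intro η hη
    obtain ⟨ψ, hψ, rfl⟩ := Finset.mem_image.1 hη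
    exact (hζ ψ ((hTmem ψ).1 hψ)).2
  have hWXY : W = X ∪ Y := (Finset.sdiff_union_of_subset hYW).symm
  have hdisj : Disjoint X Y := Finset.sdiff_disjoint
  have hreg : ∀ ψ, ψ ≠ 1 → ∀ g : G, ¬ p ∣ orderOf g →
      ∑ χ ∈ X, (R χ : ℂ) * (χ : G → ℂ) g + (c : ℂ) * (∑ η ∈ Y, (η : G → ℂ) g) +
        (δ : ℂ) * (ζ ψ : G → ℂ) g = 0 := by
    intro ψ hψ g hg
    have h := sum_mult_mul_regular hab hfree hM (ψ := ψ) hg
    rw [← hW, Finset.sum_congr rfl fun χ hχ => show (mult P χ ψ : ℂ) * (χ : G → ℂ) g =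
      (R χ : ℂ) * (χ : G → ℂ) g + if χ = ζ ψ then (δ : ℂ) * (χ : G → ℂ) g else 0 by
        rw [hw ψ hψ χ (hWmem hχ)]
        by_cases h : χ = ζ ψ
        · rw [if_pos h, if_pos h]; push_cast; ring
        · rw [if_neg h, if_neg h]; simp, Finset.sum_add_distrib, Finset.sum_ite_eq',
      if_pos (hYW (Finset.mem_image_of_mem ζ ((hTmem ψ).2 hψ))), hWXY, Finset.sum_union hdisj,
      Finset.sum_congr rfl (fun η hη => by rw [hcY η hη] : ∀ η ∈ Y, (R η : ℂ) * (η : G → ℂ) g = (c : ℂ) * (η : G → ℂ) g),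
      ← Finset.mul_sum] at h
    exact h
  have hagree : ∀ η ∈ Y, ∀ η' ∈ Y, ∀ g : G, ¬ p ∣ orderOf g → (η : G → ℂ) g = (η' : G → ℂ) g := by
    intro η hη η' hη' g hg
    obtain ⟨ψ, hψ, rfl⟩ := Finset.mem_image.1 hη
    obtain ⟨φ, hφ, rfl⟩ := Finset.mem_image.1 hη'
    have e1 := hreg ψ ((hTmem ψ).1 hψ) g hg
    have e2 := hreg φ ((hTmem φ).1 hφ) g hg
    have hδ0 : (δ : ℂ) ≠ 0 := Int.cast_ne_zero.2 (by omega)
    exact mul_left_cancel₀ hδ0 (by linear_combination e1 - e2)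
  refine ⟨X, Y, fun χ => -R χ, -c, δ, ζ, hδ, hdisj, fun χ => ?_, hYcard, hYtwo, honeX, ?_,
    fun ψ hψ => Finset.mem_image_of_mem ζ ((hTmem ψ).2 hψ), ?_, hinj, ?_, ?_, ?_, hagree, ?_⟩
  · rw [← Finset.mem_union, ← hWXY]; simp [hW]
  · have e := hw ψ₀ ((hTmem ψ₀).1 hψ₀) _ (hWmem hone)
    rw [mult_oneChar hab ((hTmem ψ₀).1 hψ₀), if_neg (hnotY _ honeX ψ₀ ((hTmem ψ₀).1 hψ₀))] at e
    show -R (oneChar G) = 1
    omega
  · intro η hη
    obtain ⟨ψ, hψ, rfl⟩ := Finset.mem_image.1 hη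
    exact ⟨ψ, (hTmem ψ).1 hψ, rfl⟩
  · intro χ hχ
    refine ⟨fun h0 => ?_, fun y hy => ?_⟩
    · obtain ⟨ψ, hψ⟩ := exists_mult_ne_zero hab hfree hM (by omega : Nat.card (P : Subgroup G) ≠ 1)
        (hWmem (Finset.mem_sdiff.1 hχ).1)
      have hψ1 : ψ ≠ 1 := fun h => hψ (h ▸ mult_trivial χ)
      rw [hw ψ hψ1 χ (hWmem (Finset.mem_sdiff.1 hχ).1), if_neg (hnotY χ hχ ψ hψ1)] at hψ
      simp only [mul_zero, add_zero] at hψ
      exact hψ (neg_eq_zero.1 h0)
    · rw [hval χ (Finset.mem_sdiff.1 hχ).1 y hy, Finset.filter_eq_empty_iff.2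
        (fun ψ hψ h => hnotY χ hχ ψ ((hTmem ψ).1 hψ) h.symm), Finset.sum_empty, mul_zero, add_zero,
        Int.cast_neg]
  · intro ψ hψ y hy
    rw [hval (ζ ψ) (hYW (Finset.mem_image_of_mem ζ ((hTmem ψ).2 hψ))) y hy, hfib ψ hψ,
      (hζ ψ hψ).2, Int.cast_neg]
    rfl
  · have hψ := (hTmem ψ₀).1 hψ₀
    have h := gram hab hfree hM m hm hψ hψ
    rw [if_pos (sameOrbit_refl ψ₀), ← hW, Finset.sum_congr rfl fun χ hχ => show mult P χ ψ₀ * mult P χ ψ₀ =
      R χ ^ 2 + if χ = ζ ψ₀ then 2 * δ * R χ + δ ^ 2 else 0 by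
        rw [hw ψ₀ hψ χ (hWmem hχ)]
        by_cases h : χ = ζ ψ₀
        · rw [if_pos h, if_pos h]; ring
        · rw [if_neg h, if_neg h]; ring, Finset.sum_add_distrib, Finset.sum_ite_eq',
      if_pos (hYW (Finset.mem_image_of_mem ζ hψ₀)), hWXY, Finset.sum_union hdisj,
      Finset.sum_congr rfl (fun η hη => by rw [hcY η hη] : ∀ η ∈ Y, R η ^ 2 = c ^ 2), Finset.sum_const,
      nsmul_eq_mul, (hζ ψ₀ hψ).2] at h
    simp only [neg_sq]
    linear_combination h
  · intro η hη g hg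
    obtain ⟨ψ, hψ, rfl⟩ := Finset.mem_image.1 hη
    have h := hreg ψ ((hTmem ψ).1 hψ) g hg
    rw [Finset.sum_congr rfl (fun η' hη' => hagree η' hη' (ζ ψ) (Finset.mem_image_of_mem ζ hψ) g hg)
      (s₁ := Y), Finset.sum_const, nsmul_eq_mul] at h
    simp only [Int.cast_neg, neg_mul, Finset.sum_neg_distrib]
    linear_combination -h


end Cfsg.Agent.BlockAbelianSylow86
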