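import Cfsg.Agent.Lib.BlockAbelianSylowMain86

/-!
Conversion between the orbit set of a linear character of `P` and `orbitSum`.
-/

set_option autoImplicit false

namespace Cfsg.Agent.BlockAbelianSylow86

open Cfsg

attribute [local instance] Classical.propDecidable

variable {G : Type*} [Group G] [Fintype G] {p : ℕ} [Fact p.Prime] {P : Sylow p G}

theorem conj_set_iff (ψ ψ' : ↥(P : Subgroup G) →* ℂˣ) :
    (∃ n : G, n ∈ Subgroup.normalizer ((P : Subgroup G) : Set G) ∧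
      ∀ w w' : ↥(P : Subgroup G), (w' : G) = n * w * n⁻¹ → ψ' w' = ψ w) ↔ SameOrbit P ψ' ψ := by
  constructor
  · rintro ⟨n, hn, h⟩
    exact sameOrbit_symm ⟨⟨n, hn⟩, MonoidHom.ext fun w => h w _ (conjP_coe P ⟨n, hn⟩ w)⟩
  · intro h
    obtain ⟨n, hn⟩ := sameOrbit_symm h
    refine ⟨n, n.2, fun w w' hw => ?_⟩
    rw [← hn, act_apply]
    exact congrArg ψ' (Subtype.ext (hw.trans (conjP_coe P n w).symm))

theorem finsum_orbit [Fintype (↥(P : Subgroup G) →* ℂˣ)] (ψ : ↥(P : Subgroup G) →* ℂˣ)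
    (y : ↥(P : Subgroup G)) :
    ∑ᶠ ψ' ∈ {ψ' : ↥(P : Subgroup G) →* ℂˣ | ∃ n : G, n ∈ Subgroup.normalizer ((P : Subgroup G) : Set G) ∧
      ∀ w w' : ↥(P : Subgroup G), (w' : G) = n * w * n⁻¹ → ψ' w' = ψ w}, ((ψ' y : ℂˣ) : ℂ) = orbitSum ψ y := by
  rw [orbitSum, ← finsum_mem_coe_finset]
  exact finsum_mem_congr (Set.ext fun φ => (conj_set_iff ψ φ).trans (by simp)) fun _ _ => rfl

end Cfsg.Agent.BlockAbelianSylow86
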