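import Cfsg.Agent.Lib.FusionSysSaturated
import Cfsg.Agent.Lib.TransferPResidual

/-!
A weak form of Alperin's theorem: a saturated fusion system is generated by the automizers of its
fully normalized subgroups. Also small facts about subgroups normalized by `S`.
-/

set_option autoImplicit false

namespace Cfsg.Agent.FusionWeakAlperin

open Cfsg Cfsg.FusionSystem Cfsg.Agent.FusionSysBasic Cfsg.Agent.FusionSysSaturated

variable {Ω : Type*} [Group Ω] {S : Subgroup Ω} [Finite S] {F : FusionSystem S} {p : ℕ}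

theorem lt_normalizerIn [Fact p.Prime] (hS : IsPGroup p S) {P : Subgroup Ω} (h : P < S) :
    P < normalizerIn S P := by
  haveI := hS.isNilpotent
  have hlt : P.subgroupOf S < ⊤ := lt_top_iff_ne_top.mpr fun e =>
    h.not_ge (Subgroup.subgroupOf_eq_top.mp e)
  obtain ⟨t, htn, htP⟩ := SetLike.exists_of_lt (normalizerCondition_of_isNilpotent _ hlt)
  refine lt_of_le_of_ne (le_normalizerIn h.le) fun e => htP ?_
  have : (t : Ω) ∈ normalizerIn S P := ⟨t.2, mem_normalizer_of_cj_le h.le fun x hx =>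
    (Subgroup.mem_normalizer_iff.mp htn ⟨x, h.le hx⟩).mp hx⟩
  rwa [← e] at this

theorem card_lt_normalizerIn [Fact p.Prime] (hS : IsPGroup p S) {P : Subgroup Ω} (h : P < S) :
    Nat.card P < Nat.card (normalizerIn S P) := by
  have h' := lt_normalizerIn hS h
  haveI := finite_normalizerIn (S := S) P
  exact lt_of_le_of_ne (Subgroup.card_le_of_le h'.le)
    fun e => h'.ne (eq_of_le_of_card_ge inf_le_left h'.le e.ge)

theorem normalizerIn_eq_self {P : Subgroup Ω} (hP : P ≤ S)
    (h : ∀ g ∈ S, ∀ x ∈ P, cj g x ∈ P) : normalizerIn S P = S :=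
  le_antisymm inf_le_left fun g hg => ⟨hg, mem_normalizer_of_cj_le hP (h g hg)⟩

/-- A subgroup normalized by `S` is fully normalized. -/
theorem fullyNormalized_of_normal {P : Subgroup Ω} (hP : P ≤ S)
    (h : ∀ g ∈ S, ∀ x ∈ P, cj g x ∈ P) : F.IsFullyNormalized P :=
  ⟨hP, fun Q _ => by rw [normalizerIn_eq_self hP h]; exact Subgroup.card_le_of_le inf_le_left⟩

/-- A saturated system is contained in every system containing the automizers of its fully
normalized subgroups. -/
theorem mor_of_autGroup [Fact p.Prime] (hS : IsPGroup p S) (hF : F.IsSaturated p)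
    {S' : Subgroup Ω} (H : FusionSystem S')
    (hH : ∀ R, F.IsFullyNormalized R → ∀ α ∈ F.autGroup R, Mor H R (afun α))
    {P : Subgroup Ω} {f : Ω → Ω} (hf : Mor F P f) : Mor H P f := by
  suffices ∀ n (P : Subgroup Ω) (f : Ω → Ω), Mor F P f → Nat.card S - Nat.card P ≤ n → Mor H P f from
    this _ P f hf le_rfl
  intro n
  induction n with
  | zero =>
    intro P f hf h0
    obtain rfl : P = S := eq_of_le_of_card_ge le_rfl hf.le (by omega)
    obtain ⟨α, hα, he⟩ := hf.exists_aut (hf.im_self fun x hx => hf.apply_mem hx)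
    exact (hH _ fullyNormalized_self α hα).congr he
  | succ n IH =>
    intro P f hf hn
    rcases hf.le.eq_or_lt with rfl | hlt
    · exact IH P f hf (by simp)
    set Q := im P f with hQ
    have hPQ : F.IsConj P Q := isConj_iff.mpr ⟨f, hf, rfl⟩
    obtain ⟨R, hR, hRn⟩ := exists_fullyNormalized (F := F) hf.le
    obtain ⟨θ₁, hθ₁, -, hi₁⟩ := exists_map_to_fullyNormalized hS hF hRn hR
    obtain ⟨θ₂, hθ₂, -, hi₂⟩ :=
      exists_map_to_fullyNormalized hS hF hRn (isConj_trans (isConj_symm hPQ) hR)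
    have hQlt : Q < S := by
      refine lt_of_le_of_ne hf.im_le fun e => hlt.ne (eq_of_le_of_card_ge le_rfl hlt.le ?_)
      rw [← hf.card_im, ← hQ, e]
    have hcard : Nat.card Q = Nat.card P := hf.card_im
    have hN₁ := card_lt_normalizerIn hS hlt
    have hN₂ := card_lt_normalizerIn hS hQlt
    have hP₁ : Nat.card (normalizerIn S P) ≤ Nat.card S := Subgroup.card_le_of_le inf_le_left
    have hP₂ : Nat.card (normalizerIn S Q) ≤ Nat.card S := Subgroup.card_le_of_le inf_le_left
    have h₁ := (IH _ θ₁ hθ₁ (by omega)).restrict_to (le_normalizerIn hf.le)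
    have h₂ := (IH _ θ₂ hθ₂ (by omega)).restrict_to (le_normalizerIn hf.im_le)
    have g₁ := hθ₁.restrict_to (le_normalizerIn hf.le)
    have g₂ := hθ₂.restrict_to (le_normalizerIn hf.im_le)
    obtain ⟨j, hj, hjl, -, -⟩ := g₁.exists_inv
    rw [hi₁] at hj
    have hjP : ∀ r ∈ R, j r ∈ P := fun r hr => by
      obtain ⟨x, hx, rfl⟩ := g₁.mem_im.mp (hi₁.symm ▸ hr)
      rwa [hjl x hx]
    have hm : Mor F R (θ₂ ∘ (f ∘ j)) :=
      (hj.comp hf hjP).comp g₂ fun r hr => apply_mem_im (hjP r hr)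
    obtain ⟨α, hα, he⟩ := hm.exists_aut (hm.im_self fun r hr =>
      hi₂ ▸ apply_mem_im (apply_mem_im (hjP r hr)))
    have hH1 : Mor H P (afun α ∘ θ₁) :=
      h₁.comp (hH R hRn α hα) fun x hx => hi₁ ▸ apply_mem_im hx
    obtain ⟨k, hk, hkl, -, -⟩ := h₂.exists_inv
    rw [hi₂] at hk
    refine (hH1.comp hk fun x hx => afun_mem α (hi₁ ▸ apply_mem_im hx)).congr fun x hx => ?_
    have hθx : θ₁ x ∈ R := hi₁ ▸ apply_mem_im hx
    show k (afun α (θ₁ x)) = f x
    rw [he _ hθx]
    show k (θ₂ (f (j (θ₁ x)))) = f x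
    rw [hjl x hx]
    exact hkl _ (apply_mem_im hx)

theorem le_of_autGroup [Fact p.Prime] (hS : IsPGroup p S) (hF : F.IsSaturated p)
    {S' : Subgroup Ω} (H : FusionSystem S')
    (hH : ∀ R, F.IsFullyNormalized R → ∀ α ∈ F.autGroup R, Mor H R (afun α)) :
    F.IsSubsystemOf H := by
  intro P φ hφ
  obtain ⟨ψ, hψ, he⟩ := mor_of_autGroup hS hF H hH (mor_toFun hφ)
  have : φ = ψ := MonoidHom.ext fun x => ((he x).trans (toFun_coe φ x)).symm
  exact this ▸ hψ

/-- In a saturated system, a fully normalized subgroup's automizer is generated by its `p`-residual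
and `Aut_S(P)`. -/
theorem autGroup_le_of_fullyNormalized [Fact p.Prime] (hS : IsPGroup p S) (hF : F.IsSaturated p)
    {P : Subgroup Ω} (hP : F.IsFullyNormalized P) {A : Subgroup (MulAut P)}
    (hres : (Cfsg.pResidual p (F.autGroup P)).map (F.autGroup P).subtype ≤ A)
    (hS' : autInducedBy S P ≤ A) : F.autGroup P ≤ A := by
  haveI := finite_autGroup (F := F) P
  obtain ⟨-, T, hT⟩ := fullyAutomized_of_fullyNormalized hS hF hP
  intro α hα
  have hK : (⊤ : Subgroup (F.autGroup P)) ≤ A.subgroupOf (F.autGroup P) := by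
    rw [← Cfsg.Agent.TransferPResidual.sylow_sup_pResidual T]
    refine sup_le (fun x hx => ?_) fun x hx => hres ⟨x, hx, rfl⟩
    rw [hT] at hx
    exact hS' hx
  exact hK (Subgroup.mem_top ⟨α, hα⟩)

end Cfsg.Agent.FusionWeakAlperin
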