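import Mathlib
import Cfsg.Agent.Lib.FusionWeakAlperin
import Cfsg.Agent.Lib.FusionSysNormal
import Cfsg.Agent.Lib.FusionKit88

/-!
An induction principle for the maps of a saturated fusion system (weak Alperin in predicate form),
and consequences: normal subgroups containing the hyperfocal subgroup are strongly closed.
-/

set_option autoImplicit false

namespace Cfsg.Agent.FusionInduct88

open Cfsg Cfsg.FusionSystem Cfsg.Agent.FusionSysBasic Cfsg.Agent.FusionSysSaturated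
open Cfsg.Agent.TransferPResidual

variable {Ω : Type*} [Group Ω] {S : Subgroup Ω} {F : FusionSystem S} {p : ℕ}

/-- A predicate on maps that cuts out a subsystem of `F`. -/
structure Closed (F : FusionSystem S) {U : Subgroup Ω} (Φ : Subgroup Ω → (Ω → Ω) → Prop) :
    Prop where
  congr : ∀ {P : Subgroup Ω} {f g : Ω → Ω}, Φ P f → (∀ x ∈ P, f x = g x) → Φ P g
  conj : ∀ {P : Subgroup Ω} {g : Ω}, P ≤ U → g ∈ U → Φ P (cj g)
  comp : ∀ {P Q : Subgroup Ω} {f g : Ω → Ω}, Mor F P f → Mor F Q g → P ≤ U → Q ≤ U →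
    (∀ x ∈ P, f x ∈ Q) → Φ P f → Φ Q g → Φ P (g ∘ f)
  inv : ∀ {P : Subgroup Ω} {f g : Ω → Ω}, Mor F P f → Mor F (im P f) g → P ≤ U →
    (∀ x ∈ P, g (f x) = x) → Φ P f → Φ (im P f) g

/-- The subsystem over `U` cut out by a closed predicate. -/
noncomputable def subSystem {U : Subgroup Ω} (hU : U ≤ S) {Φ : Subgroup Ω → (Ω → Ω) → Prop}
    (h : Closed F (U := U) Φ) : FusionSystem U where
  Hom P := {φ | φ ∈ F.Hom P ∧ P ≤ U ∧ (∀ x : P, φ x ∈ U) ∧ Φ P (toFun φ)}
  le_of_mem := fun hφ => ⟨hφ.2.1, hφ.2.2.1⟩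
  injective_of_mem := fun hφ => F.injective_of_mem hφ.1
  conj_mem := fun {P g} hP hg => ⟨F.conj_mem (hP.trans hU) (hU hg), hP,
    fun x => U.mul_mem (U.mul_mem hg (hP x.2)) (U.inv_mem hg),
    h.congr (h.conj hP hg) fun x hx => (toFun_apply (conjHom P g) hx).symm⟩
  comp_mem := by
    rintro P Q φ ψ ⟨hφ, hP, -, hΦ⟩ ⟨hψ, hQ, hψU, hΨ⟩ hm
    refine ⟨F.comp_mem hφ hψ hm, hP, fun x => hψU _, h.congr (h.comp (mor_toFun hφ) (mor_toFun hψ)
      hP hQ (fun x hx => by rw [toFun_apply φ hx]; exact hm ⟨x, hx⟩) hΦ hΨ) fun x hx => ?_⟩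
    rw [Function.comp_apply, toFun_apply φ hx, toFun_apply _ hx,
      toFun_apply ψ (hm ⟨x, hx⟩)]
    rfl
  inv_mem := by
    rintro P φ ⟨hφ, hP, hφU, hΦ⟩
    obtain ⟨ψ, hψ, hi⟩ := F.inv_mem hφ
    have e : φ.range = im P (toFun φ) := Mor.range_eq_im hφ fun x => (toFun_coe φ x).symm
    refine ⟨ψ, ⟨hψ, by rintro _ ⟨x, rfl⟩; exact hφU x, ?_, ?_⟩, hi⟩
    · rintro ⟨_, x, rfl⟩
      rw [hi x]; exact hP x.2
    · have h2 : Φ (im P (toFun φ)) (toFun ψ) := by
        refine h.inv (mor_toFun hφ) ?_ hP (fun x hx => ?_) hΦ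
        · rw [← e]; exact mor_toFun hψ
        · rw [toFun_apply φ hx, toFun_apply ψ (⟨⟨x, hx⟩, rfl⟩ : φ ⟨x, hx⟩ ∈ φ.range)]
          exact hi ⟨x, hx⟩
      rw [← e] at h2
      exact h2

theorem mor_subSystem {U : Subgroup Ω} {hU : U ≤ S} {Φ : Subgroup Ω → (Ω → Ω) → Prop}
    {h : Closed F (U := U) Φ} {P : Subgroup Ω} {f : Ω → Ω} :
    Mor (subSystem hU h) P f ↔ Mor F P f ∧ P ≤ U ∧ (∀ x ∈ P, f x ∈ U) ∧ Φ P f := by
  constructor
  · rintro ⟨φ, ⟨hφ, hP, hφU, hΦ⟩, he⟩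
    exact ⟨⟨φ, hφ, he⟩, hP, fun x hx => he ⟨x, hx⟩ ▸ hφU ⟨x, hx⟩,
      h.congr hΦ fun x hx => (toFun_apply φ hx).trans (he ⟨x, hx⟩)⟩
  · rintro ⟨⟨φ, hφ, he⟩, hP, hfU, hΦ⟩
    exact ⟨φ, ⟨hφ, hP, fun x => (he x).symm ▸ hfU x x.2,
      h.congr hΦ fun x hx => ((toFun_apply φ hx).trans (he ⟨x, hx⟩)).symm⟩, he⟩

variable [Finite S] [Fact p.Prime]

/-- A predicate cutting out a subsystem over `S` that holds on the automizers of the fully
normalized subgroups holds for every map. -/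
theorem induction (hS : IsPGroup p S) (hF : F.IsSaturated p)
    {Φ : Subgroup Ω → (Ω → Ω) → Prop} (h : Closed F (U := S) Φ)
    (haut : ∀ R, F.IsFullyNormalized R → ∀ α ∈ F.autGroup R, Φ R (afun α))
    {P : Subgroup Ω} {f : Ω → Ω} (hf : Mor F P f) : Φ P f := by
  refine (mor_subSystem.1 (FusionWeakAlperin.mor_of_autGroup hS hF (subSystem le_rfl h)
    (fun R hR α hα => ?_) hf)).2.2.2
  have hm := (mem_autGroup hR.1).1 hα
  exact mor_subSystem.2 ⟨hm, hR.1, fun x hx => hm.apply_mem hx, haut R hR α hα⟩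

/-- Variant: it is enough to treat automorphisms of order prime to `p` and conjugations. -/
theorem induction' (hS : IsPGroup p S) (hF : F.IsSaturated p)
    {Φ : Subgroup Ω → (Ω → Ω) → Prop} (h : Closed F (U := S) Φ)
    (haut : ∀ R, R ≤ S → ∀ α ∈ F.autGroup R, (orderOf α).Coprime p → Φ R (afun α))
    {P : Subgroup Ω} {f : Ω → Ω} (hf : Mor F P f) : Φ P f := by
  refine induction hS hF h (fun R hR α hα => ?_) hf
  have hRS := hR.1
  let E : FusionSystem S := subSystem le_rfl h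
  have h1 : F.autGroup R ≤ E.autGroup R :=
    FusionWeakAlperin.autGroup_le_of_fullyNormalized hS hF hR (by
      rw [Subgroup.map_le_iff_le_comap, pResidual_le_iff_coprime]
      intro β hβ
      have hm := (mem_autGroup hRS).1 β.2
      exact mem_autGroup_of_mor (mor_subSystem.2 ⟨hm, hRS, fun x hx => hm.apply_mem hx,
        haut R hRS β β.2 (by rwa [Subgroup.orderOf_coe])⟩)) (autInducedBy_le hRS)
  exact (mor_subSystem.1 ((mem_autGroup hRS).1 (h1 hα))).2.2.2

/-- Membership in `Y` is preserved in both directions. -/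
def Keeps (Y : Subgroup Ω) (P : Subgroup Ω) (f : Ω → Ω) : Prop := ∀ x ∈ P, (x ∈ Y ↔ f x ∈ Y)

omit [Finite S] [Fact p.Prime] in
theorem closed_keeps {Y : Subgroup Ω} (hn : ∀ g ∈ S, ∀ x ∈ Y, cj g x ∈ Y) :
    Closed F (U := S) (Keeps Y) where
  congr := fun h he x hx => he x hx ▸ h x hx
  conj := fun _ hg x _ => ⟨hn _ hg x, fun h1 => by
    have := hn _ (S.inv_mem hg) _ h1
    rwa [cj_inv_cj] at this⟩
  comp := fun _ _ _ _ hfQ h1 h2 x hx => (h1 x hx).trans (h2 _ (hfQ x hx))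
  inv := fun hf _ _ hgf h1 y hy => by
    obtain ⟨x, hx, rfl⟩ := hf.mem_im.1 hy
    rw [hgf x hx]
    exact (h1 x hx).symm

omit [Finite S] [Fact p.Prime] in
theorem gen_mem_hyperfocal {R : Subgroup Ω} (hR : R ≤ S) {α : MulAut R} (hα : α ∈ F.autGroup R)
    (hc : (orderOf α).Coprime p) {x : Ω} (hx : x ∈ R) :
    x⁻¹ * afun α x ∈ F.hyperfocalSubgroup p := by
  refine Subgroup.subset_closure ⟨R, ⟨α, hα⟩, ⟨x, hx⟩, hR,
    mem_pResidual_of_coprime (by rwa [Subgroup.orderOf_mk]), ?_⟩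
  rw [afun_apply _ hx]

/-- A subgroup of `S` normalized by `S` that contains the hyperfocal subgroup is strongly closed. -/
theorem stronglyClosed_of_hyperfocal_le (hS : IsPGroup p S) (hF : F.IsSaturated p)
    {Y : Subgroup Ω} (hYS : Y ≤ S) (hn : ∀ g ∈ S, ∀ x ∈ Y, cj g x ∈ Y)
    (hY : F.hyperfocalSubgroup p ≤ Y) : F.StronglyClosed Y := by
  refine FusionSysNormal.stronglyClosed_iff.2 ⟨hYS, fun P f hP hf x hx => ?_⟩
  refine (induction' hS hF (closed_keeps hn) (fun R hR α hα hc y hy => ?_) hf x hx).1 (hP hx)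
  have h1 := hY (gen_mem_hyperfocal hR hα hc hy)
  constructor
  · intro h2
    have := Y.mul_mem h2 h1
    rwa [mul_inv_cancel_left] at this
  · intro h2
    have := Y.mul_mem h2 (Y.inv_mem h1)
    simpa [mul_assoc] using this

omit [Finite S] [Fact p.Prime] in
/-- The hyperfocal subgroup is normalized by `S`. -/
theorem cj_mem_hyperfocal {g x : Ω} (hg : g ∈ S) (hx : x ∈ F.hyperfocalSubgroup p) :
    cj g x ∈ F.hyperfocalSubgroup p := by
  have key : F.hyperfocalSubgroup p ≤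
      (F.hyperfocalSubgroup p).comap (MulAut.conj g).toMonoidHom := by
    refine (Subgroup.closure_le _).2 ?_
    rintro _ ⟨P, α, a, hP, hα, rfl⟩
    have hm : Mor F P (cj g) := mor_cj hP hg
    let t : F.autGroup P →* F.autGroup (im P (cj g)) :=
      ((hm.transport rfl).toMonoidHom.comp (F.autGroup P).subtype).codRestrict _
        fun b => hm.transport_mem rfl b.2
    show cj g _ ∈ F.hyperfocalSubgroup p
    refine Subgroup.subset_closure ⟨_, t α, ⟨cj g a, apply_mem_im a.2⟩, hm.im_le,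
      map_pResidual_le t ⟨α, hα, rfl⟩, ?_⟩
    rw [← afun_coe (t α : MulAut (im P (cj g)))]
    show _ = (cj g a)⁻¹ * afun (hm.transport rfl (α : MulAut P)) (cj g a)
    rw [hm.afun_transport rfl _ a.2, afun_coe]
    simp [cj_apply, mul_assoc]
  exact key hx

/-- The hyperfocal subgroup is strongly closed. -/
theorem hyperfocal_stronglyClosed (hS : IsPGroup p S) (hF : F.IsSaturated p) :
    F.StronglyClosed (F.hyperfocalSubgroup p) := by
  refine stronglyClosed_of_hyperfocal_le hS hF ?_ (fun g hg x hx => cj_mem_hyperfocal hg hx) le_rfl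
  refine (Subgroup.closure_le _).2 ?_
  rintro y ⟨P, α, x, hP, -, rfl⟩
  exact S.mul_mem (S.inv_mem (hP x.2)) (hP ((α : MulAut P) x).2)

end Cfsg.Agent.FusionInduct88
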