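import Cfsg.Agent.Lib.FusionTransfer
import Cfsg.Agent.Lib.FusionInduct88
import Cfsg.Agent.Lib.TransferTate

/-!
# Focal and hyperfocal subgroups of saturated fusion systems
-/

set_option autoImplicit false

namespace Cfsg.Agent.FusionFocal

open Cfsg Cfsg.FusionSystem Cfsg.Agent.FusionSysBasic Cfsg.Agent.FusionTransfer
open scoped commutatorElement

variable {Ω : Type*} [Group Ω] {S : Subgroup Ω} {F : FusionSystem S} {p : ℕ}

theorem gen_mem_focal {P : Subgroup Ω} {f : Ω → Ω} (hf : Mor F P f) {x : Ω} (hx : x ∈ P) :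
    x⁻¹ * f x ∈ F.focalSubgroup := by
  obtain ⟨φ, hφ, he⟩ := hf
  exact Subgroup.subset_closure ⟨P, φ, ⟨x, hx⟩, hφ, by rw [he ⟨x, hx⟩]⟩

theorem focal_le_iff {K : Subgroup Ω} :
    F.focalSubgroup ≤ K ↔ ∀ P f, Mor F P f → ∀ x ∈ P, x⁻¹ * f x ∈ K := by
  refine ⟨fun h P f hf x hx => h (gen_mem_focal hf hx), fun h => ?_⟩
  rw [focalSubgroup, Subgroup.closure_le]
  rintro _ ⟨P, φ, x, hφ, rfl⟩
  rw [← toFun_coe φ x]
  exact h _ _ (mor_toFun hφ) _ x.2

theorem focal_le : F.focalSubgroup ≤ S :=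
  focal_le_iff.mpr fun _ _ hf _ hx => S.mul_mem (S.inv_mem (hf.le hx)) (hf.apply_mem hx)

theorem commutator_le_focal : ⁅(S : Subgroup Ω), S⁆ ≤ F.focalSubgroup := by
  rw [Subgroup.commutator_le]
  intro a ha b hb
  have := gen_mem_focal (mor_cj (F := F) le_rfl hb) (S.inv_mem ha)
  simpa [cj_apply, commutatorElement_def, mul_assoc] using this

theorem normal_of_commutator_le {K : Subgroup Ω} (hK : K ≤ S) (hc : ⁅(S : Subgroup Ω), S⁆ ≤ K)
    {s x : Ω} (hs : s ∈ S) (hx : x ∈ K) : cj s x ∈ K := by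
  have := K.mul_mem (hc (Subgroup.commutator_mem_commutator hs (hK hx))) hx
  simpa [cj_apply, commutatorElement_def, mul_assoc] using this

theorem hyperfocal_le_focal : F.hyperfocalSubgroup p ≤ F.focalSubgroup := by
  refine (Subgroup.closure_le _).2 ?_
  rintro _ ⟨P, α, x, hP, -, rfl⟩
  rw [← afun_coe]
  exact gen_mem_focal ((mem_autGroup hP).mp α.2) x.2

variable [Finite S] [hp : Fact p.Prime]

/-- Modulo the hyperfocal subgroup every map is a conjugation. -/
theorem congConj_hyperfocal (hS : IsPGroup p S) (hF : F.IsSaturated p) :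
    CongConj F (F.hyperfocalSubgroup p) := by
  intro P f hf
  set T := F.hyperfocalSubgroup p with hTdef
  have hn : ∀ s ∈ S, ∀ x ∈ T, cj s x ∈ T := fun s hs x hx =>
    FusionInduct88.cj_mem_hyperfocal hs hx
  refine FusionInduct88.induction' hS hF
    (Φ := fun P f => ∃ b ∈ S, ∀ x ∈ P, (f x)⁻¹ * cj b x ∈ T) ?_ ?_ hf
  · refine ⟨fun ⟨b, hb, he⟩ hfg => ⟨b, hb, fun x hx => hfg x hx ▸ he x hx⟩,
      fun {P g} _ hg => ⟨g, hg, fun x _ => by rw [inv_mul_cancel]; exact T.one_mem⟩,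
      fun {P Q f g} hf hg _ _ hm ⟨b, hb, hbe⟩ ⟨c, hc, hce⟩ =>
        ⟨c * b, S.mul_mem hc hb, fun x hx => ?_⟩,
      fun {P f g} hf hg _ hgf ⟨b, hb, hbe⟩ => ⟨b⁻¹, S.inv_mem hb, fun y hy => ?_⟩⟩
    · have h1 := hce _ (hm x hx)
      have h2 := hn c hc _ (hbe x hx)
      have := T.mul_mem h1 h2
      rw [← cj_cj]
      simpa [cj_apply, mul_assoc] using this
    · obtain ⟨x, hx, rfl⟩ := hf.mem_im.mp hy
      rw [hgf x hx]
      have := hn b⁻¹ (S.inv_mem hb) _ (T.inv_mem (hbe x hx))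
      simpa [cj_apply, mul_assoc] using this
  · intro R hR α hα hc
    refine ⟨1, S.one_mem, fun x hx => ?_⟩
    have := T.inv_mem (FusionInduct88.gen_mem_hyperfocal hR hα hc hx)
    rw [cj_one]
    simpa [mul_inv_rev] using this

/-- The focal subgroup is the product of the hyperfocal subgroup and `S'`. -/
theorem focal_eq (hS : IsPGroup p S) (hF : F.IsSaturated p) :
    F.focalSubgroup = F.hyperfocalSubgroup p ⊔ ⁅(S : Subgroup Ω), S⁆ := by
  refine le_antisymm (focal_le_iff.mpr fun P f hf x hx => ?_)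
    (sup_le hyperfocal_le_focal commutator_le_focal)
  obtain ⟨b, hb, he⟩ := congConj_hyperfocal hS hF P f hf
  have h1 : ⁅x⁻¹, b⁆ ∈ (⁅(S : Subgroup Ω), S⁆ : Subgroup Ω) :=
    Subgroup.commutator_mem_commutator (S.inv_mem (hf.le hx)) hb
  have := Subgroup.mul_mem _ (Subgroup.mem_sup_right (S := F.hyperfocalSubgroup p) h1)
    (Subgroup.inv_mem _ (Subgroup.mem_sup_left (T := ⁅(S : Subgroup Ω), S⁆) (he x hx)))
  simpa [cj_apply, commutatorElement_def, mul_assoc] using this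

/-- The quotient of `S` by a normal subgroup, as a function on `Ω`. -/
theorem exists_quotient_fun {K : Subgroup Ω} (hK : K ≤ S) (hc : ⁅(S : Subgroup Ω), S⁆ ≤ K) :
    ∃ (_ : (K.subgroupOf S).Normal) (_ : IsMulCommutative (↥S ⧸ K.subgroupOf S)),
      ∀ x y : ↥S, ((x : ↥S ⧸ K.subgroupOf S) = y ↔ (x : Ω)⁻¹ * y ∈ K) := by
  haveI hn : (K.subgroupOf S).Normal := by
    refine ⟨fun a ha b => ?_⟩
    rw [Subgroup.mem_subgroupOf] at ha ⊢
    exact normal_of_commutator_le hK hc b.2 ha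
  refine ⟨hn, Subgroup.Normal.quotient_commutative_iff_commutator_le.mpr ?_,
    fun x y => QuotientGroup.eq.trans Subgroup.mem_subgroupOf⟩
  rw [← Subgroup.map_subtype_le_map_subtype, Subgroup.map_subtype_commutator,
    Subgroup.map_subgroupOf_eq_of_le hK]
  exact hc

open scoped IsMulCommutative in
/-- **Tate's theorem for fusion systems**, first part. -/
theorem focal_le_of_le_sup_frattini (hS : IsPGroup p S) (hF : F.IsSaturated p) {K : Subgroup Ω}
    (hK : K ≤ F.focalSubgroup) (hc : ⁅(S : Subgroup Ω), S⁆ ≤ K)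
    (h : F.focalSubgroup ≤ K ⊔ (frattini ↥S).map S.subtype) : F.focalSubgroup ≤ K := by
  classical
  have hKS : K ≤ S := hK.trans focal_le
  obtain ⟨hn, hcm, hmk⟩ := exists_quotient_fun hKS hc
  haveI := hn
  haveI := hcm
  let π : ↥S →* ↥S ⧸ K.subgroupOf S := QuotientGroup.mk' _
  let χ : Ω → ↥S ⧸ K.subgroupOf S := fun x => if h : x ∈ S then π ⟨x, h⟩ else 1
  have hχ : ∀ x (h : x ∈ S), χ x = π ⟨x, h⟩ := fun x h => dif_pos h
  have hinv : IsInvHom S S χ := by
    refine ⟨fun x hx y hy => ?_, fun s hs x hx => ?_⟩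
    · rw [hχ x hx, hχ y hy, hχ _ (S.mul_mem hx hy), ← map_mul]
      rfl
    · rw [hχ x hx, hχ _ (cj_mem_S hs hx)]
      have e : (⟨cj s x, cj_mem_S hs hx⟩ : ↥S) = ⟨s, hs⟩ * ⟨x, hx⟩ * ⟨s, hs⟩⁻¹ := rfl
      rw [e, map_mul, map_mul, map_inv, mul_inv_cancel_comm]
  have hsc : F.StronglyClosed S :=
    FusionSysNormal.stronglyClosed_iff.2 ⟨le_rfl, fun _ _ _ hf _ hx => hf.apply_mem hx⟩
  obtain ⟨N, W, f, hN, hWm, hWs, -, hWK, -, -⟩ := exists_transfer hS hF hsc
    (fun P g hg => ⟨1, S.one_mem, fun x hx => by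
      rw [cj_one]; exact S.mul_mem (S.inv_mem (hg.apply_mem hx)) (hg.le hx)⟩) hinv
  let Wh : ↥S →* ↥S ⧸ K.subgroupOf S :=
    { toFun := fun x => W x
      map_one' := by
        have h1 := hWm 1 S.one_mem 1 S.one_mem
        rwa [one_mul, left_eq_mul] at h1
      map_mul' := fun x y => hWm x x.2 y y.2 }
  -- `W` kills the focal subgroup
  have hker : F.focalSubgroup.subgroupOf S ≤ Wh.ker := by
    have h1 : F.focalSubgroup ≤ Wh.ker.map S.subtype := focal_le_iff.mpr fun P g hg x hx => by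
      refine ⟨⟨x⁻¹ * g x, S.mul_mem (S.inv_mem (hg.le hx)) (hg.apply_mem hx)⟩, ?_, rfl⟩
      rw [SetLike.mem_coe, MonoidHom.mem_ker]
      have h2 := hWs P g hg x hx (hg.le hx)
      show W (x⁻¹ * g x) = 1
      rw [hWm _ (S.inv_mem (hg.le hx)) _ (hg.apply_mem hx), h2, ← hWm _ (S.inv_mem (hg.le hx)) _
        (hg.le hx), inv_mul_cancel]
      exact Wh.map_one
    exact (Subgroup.comap_mono h1).trans
      (le_of_eq (Subgroup.comap_map_eq_self_of_injective S.subtype_injective _))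
  -- `W` agrees with a power of the projection modulo the image of the focal subgroup
  let FA := (F.focalSubgroup.subgroupOf S).map π
  have hcong := hWK rfl FA (fun P g hg x hx => by
    rw [hχ _ (hg.le hx), hχ _ (hg.apply_mem hx), mul_comm, ← map_inv, ← map_mul]
    exact Subgroup.mem_map_of_mem π (Subgroup.mem_subgroupOf.mpr (gen_mem_focal hg hx)))
  -- hence is surjective
  set U := Wh.range.comap π
  have hpow : ∀ a : ↥S ⧸ K.subgroupOf S, a ∈ Subgroup.zpowers (a ^ N) := by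
    intro a
    obtain ⟨k, hk⟩ := IsPGroup.iff_orderOf.mp (hS.to_quotient (K.subgroupOf S)) a
    obtain ⟨u, v, huv⟩ := (IsCoprime.pow_left (m := k)
      ((Nat.prime_iff_prime_int.mp hp.out).coprime_iff_not_dvd.mpr hN) :
        IsCoprime ((p : ℤ) ^ k) N)
    refine Subgroup.mem_zpowers_iff.mpr ⟨v, ?_⟩
    rw [← zpow_mul, mul_comm N v]
    calc a ^ (v * N) = (a ^ ((p : ℤ) ^ k)) ^ u * a ^ (v * N) := by
          have e : a ^ ((p : ℤ) ^ k) = 1 := by
            rw [← Nat.cast_pow, zpow_natCast, ← hk, pow_orderOf_eq_one]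
          rw [e, one_zpow, one_mul]
      _ = a := by rw [← zpow_mul, mul_comm _ u, ← zpow_add, huv, zpow_one]
  have hUtop : U ⊔ F.focalSubgroup.subgroupOf S = ⊤ := by
    rw [eq_top_iff]
    intro x _
    have hx : π x ∈ Wh.range ⊔ FA := by
      refine Subgroup.zpowers_le.mpr ?_ (hpow (π x))
      rw [show π x ^ N = W x * (W x * (χ x ^ N)⁻¹)⁻¹ by rw [hχ _ x.2]; simp]
      exact Subgroup.mul_mem _ (Subgroup.mem_sup_left ⟨x, rfl⟩)
        (Subgroup.inv_mem _ (Subgroup.mem_sup_right (hcong _ x.2)))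
    obtain ⟨y, hy, z, ⟨w, hw, rfl⟩, e⟩ := Subgroup.mem_sup.mp hx
    have h1 : x * w⁻¹ ∈ U := by
      rw [Subgroup.mem_comap, map_mul, map_inv, ← e, mul_inv_cancel_right]
      exact hy
    have := Subgroup.mul_mem (U ⊔ F.focalSubgroup.subgroupOf S)
      (Subgroup.mem_sup_left h1) (Subgroup.mem_sup_right hw)
    rwa [inv_mul_cancel_right] at this
  have hKU : K.subgroupOf S ≤ U := fun x hx => by
    rw [Subgroup.mem_comap, show π x = 1 from (QuotientGroup.eq_one_iff x).mpr hx]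
    exact one_mem _
  have hU : U = ⊤ := by
    refine frattini_nongenerating ?_
    rw [eq_top_iff, ← hUtop]
    refine sup_le le_sup_left fun x hx => ?_
    have hx' := h hx
    have e : K ⊔ (frattini ↥S).map S.subtype = (K.subgroupOf S ⊔ frattini ↥S).map S.subtype := by
      rw [Subgroup.map_sup, Subgroup.map_subgroupOf_eq_of_le hKS]
    rw [e] at hx'
    obtain ⟨y, hy, he⟩ := hx'
    rw [← S.subtype_injective he]
    exact sup_le_sup_right hKU _ hy
  have hsurj : Function.Surjective Wh := fun a => by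
    obtain ⟨x, rfl⟩ := QuotientGroup.mk'_surjective (K.subgroupOf S) a
    exact (hU ▸ Subgroup.mem_top x : x ∈ U)
  have hidx : Wh.ker.index = (K.subgroupOf S).index := by
    rw [Subgroup.index_ker, MonoidHom.range_eq_top.mpr hsurj, Subgroup.card_top]
    rfl
  have hle : K.subgroupOf S ≤ F.focalSubgroup.subgroupOf S := Subgroup.comap_mono hK
  have heq : K.subgroupOf S = Wh.ker := by
    refine Subgroup.eq_of_le_of_card_ge (hle.trans hker) (le_of_eq ?_)
    refine Nat.eq_of_mul_eq_mul_right (m := Wh.ker.index)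
      (Nat.pos_of_ne_zero Subgroup.index_ne_zero_of_finite) ?_
    rw [Subgroup.card_mul_index, hidx, Subgroup.card_mul_index]
  intro x hx
  exact (heq ▸ hker (show (⟨x, focal_le hx⟩ : ↥S) ∈ F.focalSubgroup.subgroupOf S from hx) :
    (⟨x, focal_le hx⟩ : ↥S) ∈ K.subgroupOf S)

open scoped IsMulCommutative in
/-- **Tate's theorem for fusion systems**, second part. -/
theorem hyperfocal_le_of_le_sup_commutator (hS : IsPGroup p S) (hF : F.IsSaturated p)
    {R : Subgroup Ω} (hR : R ≤ F.hyperfocalSubgroup p) (hRn : ∀ s ∈ S, ∀ x ∈ R, cj s x ∈ R)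
    (h : F.hyperfocalSubgroup p ≤ R ⊔ ⁅(S : Subgroup Ω), S⁆) :
    F.hyperfocalSubgroup p ≤ R := by
  classical
  set T := F.hyperfocalSubgroup p with hTdef
  have hTc : F.StronglyClosed T := FusionInduct88.hyperfocal_stronglyClosed hS hF
  have hTS : T ≤ S := hTc.1
  by_contra hne
  haveI : (R.subgroupOf S).Normal := ⟨fun a ha b => by
    rw [Subgroup.mem_subgroupOf] at ha ⊢; exact hRn b b.2 a ha⟩
  haveI : (T.subgroupOf S).Normal := ⟨fun a ha b => by
    rw [Subgroup.mem_subgroupOf] at ha ⊢; exact FusionPuig.cj_mem_closed hTc b.2 ha⟩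
  have hlt : R.subgroupOf S < T.subgroupOf S := by
    refine lt_of_le_of_ne (Subgroup.comap_mono hR) fun e => hne ?_
    have := congrArg (Subgroup.map S.subtype) e
    rw [Subgroup.map_subgroupOf_eq_of_le (hR.trans hTS), Subgroup.map_subgroupOf_eq_of_le hTS]
      at this
    exact this.ge
  obtain ⟨M, hMn, hRM, hMT, hMc, hMi⟩ := TransferTate.exists_central_maximal hS hlt
  haveI := hMn
  set T' := T.subgroupOf S with hT'
  haveI : (M.subgroupOf T').Normal := Subgroup.normal_subgroupOf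
  haveI : IsCyclic (T' ⧸ M.subgroupOf T') := isCyclic_of_prime_card (p := p) hMi
  letI : CommGroup (T' ⧸ M.subgroupOf T') := IsCyclic.commGroup
  let π : T' →* T' ⧸ M.subgroupOf T' := QuotientGroup.mk' _
  let χ : Ω → T' ⧸ M.subgroupOf T' := fun x =>
    if h : x ∈ T then π ⟨⟨x, hTS h⟩, h⟩ else 1
  have hχ : ∀ x (h : x ∈ T), χ x = π ⟨⟨x, hTS h⟩, h⟩ := fun x h => dif_pos h
  have hinv : IsInvHom S T χ := by
    refine ⟨fun x hx y hy => ?_, fun s hs x hx => ?_⟩
    · rw [hχ x hx, hχ y hy, hχ _ (T.mul_mem hx hy), ← map_mul]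
      rfl
    · rw [hχ x hx, hχ _ (FusionPuig.cj_mem_closed hTc hs hx)]
      refine (QuotientGroup.eq.mpr ?_)
      rw [Subgroup.mem_subgroupOf]
      have h1 := M.inv_mem (hMc (Subgroup.commutator_mem_commutator
        (T'.inv_mem (show (⟨x, hTS hx⟩ : ↥S) ∈ T' from hx)) (Subgroup.mem_top (⟨s, hs⟩ : ↥S))))
      convert h1 using 1
      apply Subtype.ext
      simp [commutatorElement_def, cj_apply, mul_assoc]
  obtain ⟨N, W, f, hN, hWm, hWs, hWf, -, -, -⟩ :=
    exists_transfer hS hF hTc (congConj_hyperfocal hS hF) hinv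
  have hW1 : W 1 = 1 := by
    have h1 := hWm 1 T.one_mem 1 T.one_mem
    rwa [one_mul, left_eq_mul] at h1
  let Z : Subgroup Ω :=
    { carrier := {x | x ∈ T ∧ W x = 1}
      one_mem' := ⟨T.one_mem, hW1⟩
      mul_mem' := fun {a b} ha hb =>
        ⟨T.mul_mem ha.1 hb.1, by rw [hWm a ha.1 b hb.1, ha.2, hb.2, one_mul]⟩
      inv_mem' := fun {a} ha => ⟨T.inv_mem ha.1, by
        have h1 := hWm a ha.1 a⁻¹ (T.inv_mem ha.1)
        rw [mul_inv_cancel, hW1, ha.2, one_mul] at h1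
        exact h1.symm⟩ }
  have hpA : IsPGroup p (T' ⧸ M.subgroupOf T') :=
    (hS.to_subgroup T').to_quotient _
  -- `W` kills the hyperfocal subgroup
  have hTZ : T ≤ Z := by
    rw [hTdef]
    refine (Subgroup.closure_le _).2 ?_
    rintro _ ⟨P, α, x, hP, hα, rfl⟩
    let K : Subgroup (F.autGroup P) :=
      { carrier := {β | ∀ z : P, (z : Ω)⁻¹ * ((β : MulAut P) z : P) ∈ Z}
        one_mem' := fun z => by simp
        mul_mem' := fun {a b} ha hb z => by
          have := mul_mem (hb z) (ha ((b : MulAut P) z))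
          simpa [mul_assoc] using this
        inv_mem' := fun {a} ha z => by
          have h1 := inv_mem (ha ((a : MulAut P)⁻¹ z))
          have h2 : (a : MulAut P) ((a : MulAut P)⁻¹ z) = z := MulEquiv.apply_symm_apply _ _
          rw [h2] at h1
          simpa [mul_inv_rev] using h1 }
    suffices Cfsg.pResidual p (F.autGroup P) ≤ K from this hα x
    rw [TransferPResidual.pResidual_le_iff_coprime]
    intro β hβ z
    have hβ' : (orderOf (β : MulAut P)).Coprime p := by rwa [Subgroup.orderOf_coe]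
    have hcT : (z : Ω)⁻¹ * ((β : MulAut P) z : P) ∈ T := by
      rw [← afun_coe]
      exact FusionInduct88.gen_mem_hyperfocal hP β.2 hβ' z.2
    refine ⟨hcT, ?_⟩
    have key : ∀ m : ℕ, ∃ hz : (z : Ω)⁻¹ * (((β : MulAut P) ^ m) z : P) ∈ T,
        W ((z : Ω)⁻¹ * (((β : MulAut P) ^ m) z : P)) =
          W ((z : Ω)⁻¹ * ((β : MulAut P) z : P)) ^ m := by
      intro m
      induction m with
      | zero => exact ⟨by simp, by simp [hW1]⟩
      | succ m ih =>
        obtain ⟨hm, hWm'⟩ := ih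
        set d : P := z⁻¹ * ((β : MulAut P) ^ m) z
        have hd : (d : Ω) ∈ T := hm
        have hmor := (mem_autGroup hP).mp β.2
        have hβd : afun (β : MulAut P) d ∈ T := FusionKit88.closed_apply' hTc hmor d.2 hd
        have e : (z : Ω)⁻¹ * (((β : MulAut P) ^ (m + 1)) z : P) =
            ((z : Ω)⁻¹ * ((β : MulAut P) z : P)) * afun (β : MulAut P) d := by
          rw [afun_coe, pow_succ', MulAut.mul_apply]
          simp [d, mul_assoc]
        rw [e]
        refine ⟨T.mul_mem hcT hβd, ?_⟩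
        rw [hWm _ hcT _ hβd, hWs P _ hmor d d.2 hd, show W (d : Ω) = _ from hWm', ← pow_succ']
    obtain ⟨-, hk⟩ := key (orderOf (β : MulAut P))
    rw [pow_orderOf_eq_one, MulAut.one_apply, inv_mul_cancel, hW1] at hk
    obtain ⟨k, hk'⟩ := IsPGroup.iff_orderOf.mp hpA (W ((z : Ω)⁻¹ * ((β : MulAut P) z : P)))
    exact orderOf_eq_one_iff.mp (Nat.Coprime.eq_one_of_dvd (hk'.symm ▸ hβ'.symm.pow_left k)
      (orderOf_dvd_of_pow_eq_one hk.symm))
  -- hence `χ ^ N` agrees with a homomorphism on `S`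
  have hfT : ∀ x (hx : x ∈ T), f ⟨x, hTS hx⟩ = (χ x ^ N)⁻¹ := fun x hx => by
    have := hWf x hx
    rw [(hTZ hx).2] at this
    exact eq_inv_of_mul_eq_one_left this.symm
  have hle : R ⊔ ⁅(S : Subgroup Ω), S⁆ ≤ f.ker.map S.subtype := by
    refine sup_le (fun x hx => ?_) ?_
    · refine ⟨⟨x, hTS (hR hx)⟩, ?_, rfl⟩
      rw [SetLike.mem_coe, MonoidHom.mem_ker, hfT x (hR hx), hχ x (hR hx)]
      have : π ⟨⟨x, hTS (hR hx)⟩, hR hx⟩ = 1 :=
        (QuotientGroup.eq_one_iff _).mpr (Subgroup.mem_subgroupOf.mpr (hRM hx))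
      rw [this, one_zpow, inv_one]
    · rw [← Subgroup.map_subtype_commutator]
      exact Subgroup.map_mono (Abelianization.commutator_subset_ker f)
  obtain ⟨t, htT, htM⟩ : ∃ t ∈ T', t ∉ M := by
    by_contra hno
    push Not at hno
    rw [Subgroup.relIndex_eq_one.mpr hno] at hMi
    exact hp.out.ne_one hMi.symm
  obtain ⟨y, hy, e⟩ := hle (h (Subgroup.mem_subgroupOf.mp htT))
  obtain rfl : y = t := Subtype.ext e
  have h1 : χ (y : Ω) ^ N = 1 := by
    rw [← inv_eq_one, ← hfT _ (Subgroup.mem_subgroupOf.mp htT)]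
    exact hy
  obtain ⟨k, hk⟩ := IsPGroup.iff_orderOf.mp hpA (χ (y : Ω))
  have h2 : (orderOf (χ (y : Ω)) : ℤ) ∣ N := orderOf_dvd_iff_zpow_eq_one.mpr h1
  rcases k.eq_zero_or_pos with hk0 | hk0
  · rw [hk0, pow_zero, orderOf_eq_one_iff, hχ _ (Subgroup.mem_subgroupOf.mp htT)] at hk
    exact htM (Subgroup.mem_subgroupOf.mp ((QuotientGroup.eq_one_iff _).mp hk))
  · exact hN (dvd_trans (Int.natCast_dvd_natCast.mpr (hk ▸ dvd_pow_self p hk0.ne')) h2)

end Cfsg.Agent.FusionFocal
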