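import Cfsg.Agent.Lib.BlockContribBounds
import Cfsg.Agent.Lib.BlockContribSection
import Cfsg.Agent.Lib.BrauerPairs81Fusion

/-!
Major subsections: for a block `b` of the centraliser of a `p`-element inducing a block `B` of the
same defect, the `b`-part of the degree of a height zero member of `B` has the exact `p`-part.
-/

set_option autoImplicit false

namespace Cfsg.Agent.BlockContribMajor

open Cfsg Cfsg.Agent.BlockTheoryLocalRing Cfsg.Agent.BlockTheoryCentre Cfsg.Agent.BlockTheoryIdem
open Cfsg.Agent.BlockTheoryBrauer Cfsg.Agent.BlockTheoryDefect Cfsg.Agent.BlockContrib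
open Cfsg.Agent.BrauerPairs81Base Cfsg.Agent.BrauerPairs81Pairs Cfsg.Agent.BrauerPairs81Conj
open Cfsg.Agent.BrauerPairs81Local Cfsg.Agent.BrauerPairs81Max Cfsg.Agent.BrauerPairs81Fusion
open Cfsg.Agent.BrauerPairs81Index Cfsg.Agent.ClassAlgebraVal

attribute [local instance] Classical.propDecidable

set_option linter.unusedSectionVars false

variable {p : ℕ} [Fact p.Prime] {M : Ideal AlgInt} {G : Type*} [Group G] [Fintype G] {u : G}
  {H : Subgroup G}

theorem incl_cjA (c : H) (w : MonoidAlgebra ℂ H) :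
    incl H (cjA c w) = cjA (c : G) (incl H w) := by
  refine MonoidAlgebra.ext ?_
  ext x
  rw [coeff_cjA]
  by_cases hx : x ∈ H
  · rw [show x = ((⟨x, hx⟩ : H) : G) from rfl, coeff_incl_coe, coeff_cjA,
      show (c : G)⁻¹ * ((⟨x, hx⟩ : H) : G) * (c : G) = ((c⁻¹ * ⟨x, hx⟩ * c : H) : G) from rfl,
      coeff_incl_coe]
  · rw [coeff_incl_of_notMem _ _ hx, coeff_incl_of_notMem]
    intro h
    refine hx ?_
    have := H.mul_mem (H.mul_mem c.2 h) (H.inv_mem c.2)
    simpa [mul_assoc] using this

/-- A pair of a block whose subgroup has the order of a defect group is maximal. -/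
theorem isMaximal_of_card {L : Type*} [Group L] [Fintype L] (hM : IsPModular p M)
    {B : Set (IrrCharacter L)} {D : Subgroup L} {f : Set (IrrCharacter (Cen D))}
    (h : IsBrauerPairOf p M B D f) (hc : Nat.card D = p ^ blockDefect p B) :
    IsMaximalBrauerPair p M B D f := by
  refine ⟨h, fun R g hg hle => ?_⟩
  obtain ⟨E, hE⟩ := exists_defectGroup hM h.2.1
  have h1 := card_le_of_conjLe (conjLe_defect_of_pairOf hM hg hE)
  rw [BlockContribBounds.card_defectGroup hM h.2.1 hE, ← hc] at h1
  exact (Subgroup.eq_of_le_of_card_ge (subgroup_le_of_subpairLE hle) h1).symm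

/-- The sum of the conjugates of an element fixed by `H`. -/
noncomputable def conjSum (H : Subgroup G) (w : MonoidAlgebra ℂ G) : MonoidAlgebra ℂ G :=
  ∑ c : G ⧸ H, cjA c.out w

theorem cjA_out_mk {w : MonoidAlgebra ℂ G} (hw : InvBy H w) (g : G) :
    cjA ((g : G ⧸ H)).out w = cjA g w := by
  obtain ⟨h, hh⟩ := QuotientGroup.mk_out_eq_mul H g
  rw [hh, cjA_mul, invBy_iff.mp hw h h.2]

theorem isCen_conjSum {w : MonoidAlgebra ℂ G} (hw : InvBy H w) : IsCen (conjSum H w) := by
  intro x g
  simp only [conjSum, MonoidAlgebra.coeff_sum, Finsupp.finsetSum_apply]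
  refine Fintype.sum_equiv (MulAction.toPerm g⁻¹) _ _ fun c => ?_
  obtain ⟨k, rfl⟩ := QuotientGroup.mk_surjective c
  rw [show MulAction.toPerm g⁻¹ (k : G ⧸ H) = ((g⁻¹ * k : G) : G ⧸ H) from rfl,
    cjA_out_mk hw, cjA_out_mk hw]
  simp only [coeff_cjA, mul_inv_rev, inv_inv, mul_assoc]

theorem chiSum_cjA (χ : IrrCharacter G) (g : G) (w : MonoidAlgebra ℂ G) :
    chiSum (χ : G → ℂ) (cjA g w) = chiSum (χ : G → ℂ) w := by
  rw [chiSum_apply, chiSum_apply, ← Equiv.sum_comp (MulAut.conj g).toEquiv]
  refine Finset.sum_congr rfl fun x _ => ?_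
  simp only [MulEquiv.toEquiv_eq_coe, MulEquiv.coe_toEquiv, MulAut.conj_apply, coeff_cjA]
  rw [irr_classFun χ x g, show g⁻¹ * (g * x * g⁻¹) * g = x by group]

theorem chiSum_conjSum (χ : IrrCharacter G) (w : MonoidAlgebra ℂ G) :
    chiSum (χ : G → ℂ) (conjSum H w) = (H.index : ℂ) * chiSum (χ : G → ℂ) w := by
  rw [conjSum, map_sum, Finset.sum_congr rfl fun c _ => chiSum_cjA χ c.out w, Finset.sum_const,
    Finset.card_univ, nsmul_eq_mul, Subgroup.index, Nat.card_eq_fintype_card]

variable (hH : ∀ g, g ∈ H ↔ Commute u g)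
include hH

set_option maxHeartbeats 1000000 in
/-- The transferred block idempotent has a central character prime to `p`. -/
theorem omega_conjSum_not_ideal (hM : IsPModular p M) (hu : ∃ k, orderOf u = p ^ k)
    {b : Set (IrrCharacter H)} {B : Set (IrrCharacter G)} (hind : IsInducedBlock M H b B)
    (hd : blockDefect p b = blockDefect p B) {χ : IrrCharacter G} (hχ : χ ∈ B) :
    ¬ MemLocalIdeal M (omega (χ : G → ℂ) (conjSum H (eb H b))) := by
  have hb := hind.1
  have hB := hind.2.1
  set e := eb H b with he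
  have hei : IsInt M e := isInt_eb hM hb
  have heH : InvBy H e := invBy_eb_self H b
  obtain ⟨E, hE⟩ := exists_defectGroup hM hb
  have hEp : IsPGroup p E := isPGroup_of_isDefectGroup hE
  set D := E.map H.subtype with hD
  have hDp : IsPGroup p D := hEp.map _
  have hDH : D ≤ H := Subgroup.map_subtype_le E
  have hEcard : Nat.card E = p ^ blockDefect p B := by
    rw [BlockContribBounds.card_defectGroup hM hb hE, hd]
  have hDcard : Nat.card D = p ^ blockDefect p B := by
    rw [hD, Subgroup.card_map_of_injective Subtype.val_injective, hEcard]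
  have huH : u ∈ H := (hH u).2 (Commute.refl u)
  have huD : u ∈ D := by
    set Z := Subgroup.zpowers (⟨u, huH⟩ : H)
    haveI : Z.Normal := ⟨fun z hz g => by
      obtain ⟨i, rfl⟩ := Subgroup.mem_zpowers_iff.mp hz
      have hc : Commute (⟨u, huH⟩ : H) g := Subtype.ext ((hH g).1 g.2).eq
      rw [← (hc.zpow_left i).eq, mul_inv_cancel_right]
      exact Subgroup.mem_zpowers_iff.mpr ⟨i, rfl⟩⟩
    have hZ : IsPGroup p Z := by
      obtain ⟨k, hk⟩ := hu
      exact IsPGroup.of_card (n := k) (by rw [Nat.card_zpowers, ← Subgroup.orderOf_coe, hk])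
    exact ⟨⟨u, huH⟩, normal_le_defectGroup hM hb hE Z hZ (Subgroup.mem_zpowers _), rfl⟩
  have hCH : Cen D ≤ H := fun x hx => (hH x).2 (Subgroup.mem_centralizer_iff.mp hx u huD)
  have hcompat : CenCompat H E D := cenCompat_map (Q := D) hCH le_rfl
  have hinvD : InvBy D e := invBy_mono hDH heH
  have hinvC : InvBy (Cen D) e := invBy_mono hCH heH
  -- a maximal pair of `b` and of `B` at the defect group
  obtain ⟨g0, hg0⟩ := exists_pairOf_of_not_small hM hb hEp (not_small_cut_defect hM hb hE)
  set f := pushSet (cenIso hcompat) g0 with hf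
  have hfb : IsPBlock M f := isPBlock_push _ hg0.1.2
  have hocc : Occ M D f e := by
    rw [he, eb_eq_incl]
    exact occ_push hcompat (isBrauerPairOf_iff.mp hg0).2.2
  obtain ⟨η, hη⟩ := block_nonempty hM hfb
  have hBi := isInt_idem hM hB
  have hpair : IsBrauerPairOf p M B D f := by
    refine isBrauerPairOf_iff.mpr ⟨⟨hDp, hfb⟩, hB, fun ξ hξ => ?_⟩
    set y := res H (idem B) * idem b - idem b with hy
    have hzc : IsCen (res H (idem B)) := isCen_res H (isCen_idem B)
    have hyc : IsCen y := (hzc.mul (isCen_idem b)).sub (isCen_idem b)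
    have hyi : IsInt M y :=
      IsInt.sub hM (IsInt.mul hM (isInt_res H hBi) (isInt_idem hM hb)) (isInt_idem hM hb)
    obtain ⟨N, hN⟩ := exists_small_pow hM hyc hyi fun θ => by
      rw [map_sub, omega_mul θ hzc, omega_idem]
      split_ifs with hθ
      · obtain ⟨χ', hχ'⟩ := block_nonempty hM hB
        have h1 := BlockTheoryInduced.inducedBlock_congr H hM hind hθ hχ' (isCen_idem B) hBi
        rw [omega_idem, if_pos hχ'] at h1
        simpa using h1
      · rw [mul_zero, sub_zero]; exact ideal_zero hM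
    have hIH : InvBy H (incl H y) := by
      rw [invBy_iff]
      intro v hv
      rw [show v = ((⟨v, hv⟩ : H) : G) from rfl, ← incl_cjA, cjA_of_isCen hyc]
    have hyC : InvBy (Cen D) (incl H y) := invBy_mono hCH hIH
    have h1 : MemLocalIdeal M (phi D (incl H y) ξ) := by
      refine phi_ideal_of_small_pow hM hDp (invBy_mono hDH hIH) hyC (isInt_incl H hM hyi) (N := N) ?_ ξ
      rw [← map_pow]
      intro x
      by_cases hx : x ∈ H
      · rw [show x = ((⟨x, hx⟩ : H) : G) from rfl, coeff_incl_coe]; exact hN _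
      · rw [coeff_incl_of_notMem _ _ hx]; exact ideal_zero hM
    have h2 := phi_mul hM hDp (IsCen.invBy (isCen_idem B) D) hinvD (IsCen.invBy (isCen_idem B) _)
      hinvC hBi hei ξ
    have h3 : phi D (incl H y) ξ = phi D (idem B * e) ξ - phi D e ξ := by
      rw [phi, phi, phi, ← map_sub, ← map_sub]
      congr 1
      refine MonoidAlgebra.ext ?_
      ext k
      rw [coeff_res, coeff_res, MonoidAlgebra.coeff_sub, Finsupp.coe_sub, Pi.sub_apply,
        show (k : G) = ((⟨(k : G), hCH k.2⟩ : H) : G) from rfl, coeff_incl_coe, ← coeff_res H (idem B * e),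
        ← coeff_res H e, he, eb_eq_incl, res_mul_incl, hy, MonoidAlgebra.coeff_sub, Finsupp.coe_sub,
        Pi.sub_apply]
      rw [← eb_eq_incl H b, res_eb]
    rw [h3] at h1
    have hBm := phi_mem hM (IsCen.invBy (isCen_idem B) (Cen D)) hBi ξ
    have he1 := hocc ξ hξ
    refine cast (congrArg (MemLocalIdeal M) ?_) (ideal_sub hM (ideal_add hM (ideal_sub hM h1 h2) he1)
      (ideal_mul_left hM hBm he1))
    ring
  have hmax : IsMaximalBrauerPair p M B D f := isMaximal_of_card hM hpair hDcard
  have hmaxH : IsMaximalBrauerPair p M b E g0 := by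
    refine isMaximal_of_card hM hg0 ?_
    rw [hEcard, hd]
  set a : BrauerPairIdx G := ⟨D, f⟩ with ha
  -- cosets of elements normalising `D`
  set S : Finset (G ⧸ H) :=
    Finset.univ.filter fun c => ∃ n ∈ Subgroup.normalizer (D : Set G), (n : G ⧸ H) = c with hS
  set T : Finset (G ⧸ H) := Finset.univ.filter fun c => ∃ n ∈ stab a, (n : G ⧸ H) = c with hT
  have hTS : T ⊆ S := by
    intro c hc
    obtain ⟨n, hn, rfl⟩ := (Finset.mem_filter.mp hc).2
    exact Finset.mem_filter.mpr ⟨Finset.mem_univ _, n, stab_le_normalizer a hn, rfl⟩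
  have hNinv : ∀ n ∈ Subgroup.normalizer (D : Set G),
      InvBy D (cjA n e) ∧ InvBy (Cen D) (cjA n e) := by
    intro n hn
    have hn' := inv_mem hn
    constructor
    · refine invBy_mono ?_ (invBy_cjA (x := n) heH)
      conv_lhs => rw [← cjS_of_normalizer hn]
      exact cjS_mono hDH
    · refine invBy_mono ?_ (invBy_cjA (x := n) heH)
      intro x hx
      refine mem_cjS.mpr (hCH ?_)
      have := conj_mem_centralizer hn' hx
      simpa using this
  have hcint : ∀ c : G, IsInt M (cjA c e) := fun c x => by rw [coeff_cjA]; exact hei _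
  -- truncation keeps only the cosets of the normaliser
  have hsmall : Small M (res (Cen D) (conjSum H e - ∑ c ∈ S, cjA c.out e)) := by
    intro x
    rw [coeff_res, MonoidAlgebra.coeff_sub, Finsupp.coe_sub, Pi.sub_apply, conjSum,
      MonoidAlgebra.coeff_sum, MonoidAlgebra.coeff_sum, Finsupp.finsetSum_apply,
      Finsupp.finsetSum_apply]
    set W : G ⧸ H → ℂ := fun c => (cjA c.out e).coeff (x : G) with hW
    have hWinv : ∀ (v : D) (c : G ⧸ H), W (v • c) = W c := by
      intro v c
      obtain ⟨k, rfl⟩ := QuotientGroup.mk_surjective c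
      simp only [hW]
      rw [show v • (k : G ⧸ H) = (((v : G) * k : G) : G ⧸ H) from rfl, cjA_out_mk heH,
        cjA_out_mk heH, cjA_mul, coeff_cjA (v : G)]
      congr 1
      have hc := Subgroup.mem_centralizer_iff.mp x.2 (v : G) v.2
      rw [mul_assoc, ← hc, inv_mul_cancel_left]
    have h := BlockPrincipal81.ideal_sum_sub_fixed hM hDp W hWinv fun c => hcint _ _
    have hSfix : S ⊆ Finset.univ.filter (· ∈ MulAction.fixedPoints D (G ⧸ H)) := by
      intro c hc
      obtain ⟨n, hn, rfl⟩ := (Finset.mem_filter.mp hc).2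
      refine Finset.mem_filter.mpr ⟨Finset.mem_univ _, fun v => ?_⟩
      show (((v : G) * n : G) : G ⧸ H) = (n : G ⧸ H)
      rw [QuotientGroup.eq]
      refine hDH ?_
      have := (Subgroup.mem_normalizer_iff.mp (inv_mem hn) (v : G)⁻¹).mp (inv_mem v.2)
      simpa [mul_assoc] using this
    rw [← Finset.sum_sdiff hSfix, ← sub_sub] at h
    have h2 : MemLocalIdeal M (∑ c ∈ Finset.univ.filter (· ∈ MulAction.fixedPoints D (G ⧸ H)) \ S, W c) := by
      refine ideal_sum hM fun c hc => ?_
      obtain ⟨hfix, hnS⟩ := Finset.mem_sdiff.mp hc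
      obtain ⟨k, rfl⟩ := QuotientGroup.mk_surjective c
      simp only [hW]
      rw [cjA_out_mk heH, coeff_cjA]
      set D' := cjS k⁻¹ D with hD'
      have hD'H : D' ≤ H := by
        rintro _ ⟨v, hv, rfl⟩
        have h1 : ((v * k : G) : G ⧸ H) = (k : G ⧸ H) := (Finset.mem_filter.mp hfix).2 ⟨v, hv⟩
        rw [QuotientGroup.eq] at h1
        have := H.inv_mem h1
        simpa [mul_assoc] using this
      by_contra hne
      have hxH : k⁻¹ * (x : G) * k ∈ H := by
        by_contra hxH
        exact hne (by rw [he, coeff_eb_of_notMem H b hxH]; exact ideal_zero hM)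
      have hns : ¬ Small M (cut (D'.subgroupOf H) (idem b)) := by
        intro hsm
        refine hne ?_
        have h1 := hsm ⟨_, hxH⟩
        rw [coeff_cut, if_pos, ← coeff_incl_coe H (idem b), ← eb_eq_incl] at h1
        · exact h1
        · refine Subgroup.mem_centralizer_iff.mpr fun v hv => Subtype.ext ?_
          have hx' : k⁻¹ * (x : G) * k ∈ Cen D' := by
            have := (mem_cen_cjS k⁻¹ D (x : G)).mp x.2
            simpa using this
          exact Subgroup.mem_centralizer_iff.mp hx' (v : G) hv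
      have hD'p : IsPGroup p D' := hDp.map _
      have hDs : IsPGroup p ↥(D'.subgroupOf H) := hD'p.comap_subtype
      have hle := (not_small_cut_iff hM hb hE hDs).mp hns
      obtain ⟨t, ht⟩ := eq_map_of_conjLe hle (by
        rw [hEcard, Nat.card_congr (Subgroup.subgroupOfEquivOfLe hD'H).toEquiv, hD', card_cjS, hDcard])
      refine hnS (Finset.mem_filter.mpr ⟨Finset.mem_univ _, k * (t : G)⁻¹, ?_, ?_⟩)
      · have h3 : cjS ((t : G) * k⁻¹) D = D := by
          rw [← cjS_cjS, ← hD']
          conv_rhs => rw [hD, ← ht]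
          ext v
          constructor
          · rintro ⟨w, hw, rfl⟩
            exact ⟨_, ⟨⟨w, hD'H hw⟩, hw, rfl⟩, rfl⟩
          · rintro ⟨_, ⟨w, hw, rfl⟩, rfl⟩
            exact ⟨(w : G), hw, rfl⟩
        have h4 : (t : G) * k⁻¹ ∈ Subgroup.normalizer (D : Set G) :=
          Subgroup.mem_normalizer_iff.mpr fun v => by
            conv_rhs => rw [← h3, mem_cjS]
            simp [mul_assoc]
        have h5 := inv_mem h4
        simpa using h5
      · rw [QuotientGroup.eq]; simpa [mul_assoc] using t.2
    have := ideal_add hM h h2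
    refine cast (congrArg (MemLocalIdeal M) ?_) this
    ring
  -- the value of each remaining term
  have hval : ∀ c ∈ S, MemLocalIdeal M (phi D (cjA c.out e) η - if c ∈ T then 1 else 0) := by
    intro c hc
    obtain ⟨n, hn, rfl⟩ := (Finset.mem_filter.mp hc).2
    rw [cjA_out_mk heH]
    obtain ⟨hID, hIC⟩ := hNinv n hn
    split_ifs with hnT
    · obtain ⟨m, hm, hmn⟩ := (Finset.mem_filter.mp hnT).2
      have hcm : cjA n e = cjA m e := by
        rw [← cjA_out_mk heH n, ← hmn, cjA_out_mk heH m]
      have h1 := occ_conj (x := m) hocc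
      change Occ M (cP m a).1 (cP m a).2 (cjA m e) at h1
      rw [mem_stab.mp hm] at h1
      rw [hcm]
      exact h1 η hη
    · rw [sub_zero]
      have hee : cjA n e * cjA n e = cjA n e := by
        have h4 : cjA n e = eb (cjS n H) (pushSet (conjEquiv n H (cjS n H) fun x => by
            rw [mem_cjS]; simp [mul_assoc]) b) := cjA_eb _ b
        rw [h4, eb_sq]
      rcases phi_dichotomy hM hDp hID hIC (hcint n) hee η with h | h
      · exact h
      · exfalso
        refine hnT ?_
        have ho : Occ M D f (cjA n e) := occ_of_mem hM hfb hIC (hcint n) hη h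
        have h1 := occ_conj (x := n⁻¹) ho
        rw [← cjA_mul, inv_mul_cancel, cjA_one] at h1
        set a' := cP n⁻¹ a with ha'
        change Occ M a'.1 a'.2 e at h1
        have ha1 : a'.1 = D := cjS_of_normalizer (inv_mem hn)
        have ha'b : IsPBlock M a'.2 := isPBlock_conjBlock _ hfb
        have heba : eb (Cen a'.1) a'.2 = cjA n⁻¹ (eb (Cen D) f) := eb_cP n⁻¹ a
        obtain ⟨D1, f1⟩ := a'
        change D1 = D at ha1
        subst D1
        obtain ⟨g1, hg1b, hg1⟩ := exists_pullback hcompat ha'b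
        have hg1p : IsBrauerPairOf p M b E g1 := by
          refine isBrauerPairOf_iff.mpr ⟨⟨hEp, hg1b⟩, hb, occ_of_push hcompat ?_⟩
          rw [hg1, ← eb_eq_incl]
          exact h1
        obtain ⟨c0, hc0, hc0e⟩ := exists_normalizer_of_pairOf hM hmaxH hg1p
        have h2 := congrArg (incl H) hc0e
        rw [incl_cjA, ← eb_cenIso hcompat, ← eb_cenIso hcompat, hg1, heba, ← hf] at h2
        have hc0D : (c0 : G) ∈ Subgroup.normalizer (D : Set G) := by
          refine Subgroup.mem_normalizer_iff.mpr fun v => ?_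
          constructor
          · rintro ⟨w, hw, rfl⟩
            exact ⟨c0 * w * c0⁻¹, (Subgroup.mem_normalizer_iff.mp hc0 w).mp hw, rfl⟩
          · rintro ⟨w, hw, hwv⟩
            refine ⟨c0⁻¹ * w * c0, (Subgroup.mem_normalizer_iff.mp hc0 _).mpr ?_, ?_⟩
            · simpa [mul_assoc] using hw
            · show (c0 : G)⁻¹ * (w : G) * (c0 : G) = v
              rw [show (w : G) = (c0 : G) * v * (c0 : G)⁻¹ from hwv]
              group
        refine Finset.mem_filter.mpr ⟨Finset.mem_univ _, n * (c0 : G), ?_, ?_⟩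
        · refine cP_eq_self_iff.mpr ⟨mul_mem hn hc0D, ?_⟩
          show cjA (n * (c0 : G)) (eb (Cen D) f) = eb (Cen D) f
          rw [cjA_mul, h2, ← cjA_mul, mul_inv_cancel, cjA_one]
        · rw [QuotientGroup.eq]; simp
  -- the number of surviving cosets is prime to `p`
  have hTcard : ¬ p ∣ T.card := by
    set K := stab a
    have horb : T.card = (H.subgroupOf K).index := by
      rw [Subgroup.index, ← Nat.card_eq_finsetCard]
      refine Nat.card_congr ?_
      refine (Equiv.ofBijective (fun q : K ⧸ H.subgroupOf K =>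
        (⟨Quotient.liftOn' q (fun k => ((k : G) : G ⧸ H)) (fun x y hxy => QuotientGroup.eq.mpr (by
          rw [QuotientGroup.leftRel_apply] at hxy; exact hxy)), ?_⟩ : T)) ⟨?_, ?_⟩).symm
      · induction q using QuotientGroup.induction_on with
        | H k => exact Finset.mem_filter.mpr ⟨Finset.mem_univ _, k, k.2, rfl⟩
      · intro q q' hqq
        induction q using QuotientGroup.induction_on with
        | H k =>
          induction q' using QuotientGroup.induction_on with
          | H k' =>
            have h0 : ((k : G) : G ⧸ H) = ((k' : G) : G ⧸ H) := congrArg Subtype.val hqq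
            exact QuotientGroup.eq.mpr (Subgroup.mem_subgroupOf.mpr (QuotientGroup.eq.mp h0))
      · rintro ⟨c, hc⟩
        obtain ⟨k, hk, rfl⟩ := (Finset.mem_filter.mp hc).2
        exact ⟨((⟨k, hk⟩ : K) : K ⧸ H.subgroupOf K), rfl⟩
    obtain ⟨Sy⟩ : Nonempty (Sylow p K) := inferInstance
    have hle : (Sy : Subgroup K) ≤ H.subgroupOf K := by
      intro v hv
      have := le_sup_of_stabilizes hM hmax (S₀ := (Sy : Subgroup K).map K.subtype) (Sy.2.map _)
        (fun w hw => by obtain ⟨w', -, rfl⟩ := hw; exact w'.2)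
      exact sup_le hDH hCH (this ⟨v, hv, rfl⟩)
    rw [horb]
    exact fun hdiv => Sy.not_dvd_index (hdiv.trans (Subgroup.index_dvd_of_le hle))
  intro hid
  refine hTcard ((natCast_mem_iff hM).mp ?_)
  have h1 := phi_eq_omega hM hpair (isCen_conjSum heH) (fun x => by
    simp only [conjSum, MonoidAlgebra.coeff_sum, Finsupp.finsetSum_apply]
    exact (localRing hM).sum_mem fun c _ => hcint _ _) hη hχ
  have hCenInv : InvBy (Cen D) (conjSum H e - ∑ c ∈ S, cjA c.out e) := by
    refine invBy_sub (IsCen.invBy (isCen_conjSum heH) _) ?_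
    refine Finset.sum_induction _ _ (fun z w hz hw v hv y => by simp [hz v hv y, hw v hv y])
      (fun v hv y => by simp) fun c hc => ?_
    obtain ⟨n, hn, rfl⟩ := (Finset.mem_filter.mp hc).2
    rw [cjA_out_mk heH]
    exact (hNinv n hn).2
  have h2 := omega_ideal_of_small hM η (isCen_res_of_invBy hCenInv) hsmall
  rw [map_sub, map_sub] at h2
  have h3 : MemLocalIdeal M (phi D (∑ c ∈ S, cjA c.out e) η - (T.card : ℂ)) := by
    rw [phi, map_sum, map_sum, show (T.card : ℂ) = ∑ c ∈ S, if c ∈ T then (1 : ℂ) else 0 by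
      rw [Finset.sum_boole, Finset.filter_mem_eq_inter, Finset.inter_eq_right.mpr hTS],
      ← Finset.sum_sub_distrib]
    exact ideal_sum hM hval
  refine cast (congrArg (MemLocalIdeal M) ?_)
    (ideal_sub hM (ideal_sub hM (ideal_add hM h1 hid) h2) h3)
  simp only [phi, he]
  ring

/-- The `b`-part of the degree of a height zero character has the exact `p`-part of `b`. -/
theorem exists_degree_part (hM : IsPModular p M) (hu : ∃ k, orderOf u = p ^ k)
    {b : Set (IrrCharacter H)} {B : Set (IrrCharacter G)} (hind : IsInducedBlock M H b B)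
    (hd : blockDefect p b = blockDefect p B) {χ : IrrCharacter G} (hχ : χ ∈ B)
    (hh : blockHeight p B (χ : G → ℂ) = 0) :
    ∃ t : ℂ, MemLocalRing M t ∧ ¬ MemLocalIdeal M t ∧
      chiSum (χ : G → ℂ) (eb H b) = (p : ℂ) ^ minExp p b * t := by
  set w := omega (χ : G → ℂ) (conjSum H (eb H b)) with hw
  have hwi : IsInt M (conjSum H (eb H b)) := fun x => by
    simp only [conjSum, MonoidAlgebra.coeff_sum, Finsupp.finsetSum_apply]
    exact (localRing hM).sum_mem fun c _ => by rw [coeff_cjA]; exact isInt_eb hM hind.1 _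
  have hwR : MemLocalRing M w :=
    omega_mem_localRing hM χ (isCen_conjSum (invBy_eb_self H b)) hwi
  have hwn : ¬ MemLocalIdeal M w := omega_conjSum_not_ideal hH hM hu hind hd hχ
  set n := charDegree (χ : G → ℂ) with hn
  set i := H.index with hi
  have hi0 : i ≠ 0 := Subgroup.index_ne_zero_of_finite
  have hn0 : n ≠ 0 := (charDegree_pos χ).ne'
  have hfac : n.factorization p = minExp p b + i.factorization p := by
    rw [exp_eq_add (p := p) hχ, hh, add_zero]
    have h1 := minExp_add_defect hM hind.1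
    have h2 := minExp_add_defect hM hind.2.1
    have h3 : (Nat.card G).factorization p = i.factorization p + (Nat.card H).factorization p := by
      rw [← H.index_mul_card, Nat.factorization_mul hi0 Nat.card_pos.ne']
      rfl
    omega
  set A := n / p ^ n.factorization p with hA
  set C := i / p ^ i.factorization p with hC
  have eA : (n : ℂ) = (p : ℂ) ^ n.factorization p * (A : ℂ) := by
    exact_mod_cast (Nat.ordProj_mul_ordCompl_eq_self n p).symm
  have eC : (i : ℂ) = (p : ℂ) ^ i.factorization p * (C : ℂ) := by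
    exact_mod_cast (Nat.ordProj_mul_ordCompl_eq_self i p).symm
  have hA0 : ¬ p ∣ A := Nat.not_dvd_ordCompl hM.1 hn0
  have hC0 : ¬ p ∣ C := Nat.not_dvd_ordCompl hM.1 hi0
  have hAu : ¬ MemLocalIdeal M (A : ℂ) := fun h => hA0 ((natCast_mem_iff hM).mp h)
  have hCm : MemLocalRing M (C : ℂ) := natCast_mem (localRing hM) C
  refine ⟨w * (A : ℂ) * (C : ℂ)⁻¹, (localRing hM).mul_mem ((localRing hM).mul_mem hwR
    (natCast_mem (localRing hM) A)) (inv_natCast_mem hM hC0), fun h => ?_, ?_⟩
  · have h' := ideal_mul_right hM h hCm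
    rw [inv_mul_cancel_right₀ (Nat.cast_ne_zero.mpr fun e : C = 0 => hC0 (e ▸ dvd_zero p))] at h'
    exact not_ideal_mul hM hwR (natCast_mem (localRing hM) A) hwn hAu h'
  · have h := hw
    rw [omega_apply, chiSum_conjSum, apply_one_eq_charDegree, ← hn, ← hi, eC, eA, hfac, pow_add] at h
    rw [h]
    have hp0 : (p : ℂ) ≠ 0 := Nat.cast_ne_zero.mpr hM.1.ne_zero
    have hA1 : (A : ℂ) ≠ 0 := Nat.cast_ne_zero.mpr fun e => hA0 (e ▸ dvd_zero p)
    have hC1 : (C : ℂ) ≠ 0 := Nat.cast_ne_zero.mpr fun e => hC0 (e ▸ dvd_zero p)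
    field_simp

end Cfsg.Agent.BlockContribMajor
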