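import Cfsg.Agent.Lib.BrauerPairs81Conj

/-!
Maximal Brauer pairs of a block: their subgroup is a defect group and they are all conjugate.
-/

namespace Cfsg.Agent.BrauerPairs81Max

open Cfsg Cfsg.Agent.BlockTheoryLocalRing Cfsg.Agent.BlockTheoryCentre
open Cfsg.Agent.BlockTheoryIdem Cfsg.Agent.BlockTheoryBrauer Cfsg.Agent.BlockTheoryDefect
open Cfsg.Agent.BrauerPairs81Base Cfsg.Agent.BrauerPairs81Pairs Cfsg.Agent.BrauerPairs81Conj
open scoped ComplexConjugate

attribute [local instance] Classical.propDecidable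

set_option linter.unusedSectionVars false

variable {p : ℕ} [Fact p.Prime] {M : Ideal AlgInt} {G : Type*} [Group G] [Fintype G]
variable {B : Set (IrrCharacter G)} {P : Subgroup G} {e : Set (IrrCharacter (Cen P))}

/-- Central integral elements have the same value on a pair as on the block. -/
theorem phi_eq_omega (hM : IsPModular p M) {R : Subgroup G} {g : Set (IrrCharacter (Cen R))}
    (h : IsBrauerPairOf p M B R g) {z : MonoidAlgebra ℂ G} (hz : IsCen z) (hzi : IsInt M z)
    {η : IrrCharacter (Cen R)} (hη : η ∈ g) {χ : IrrCharacter G} (hχ : χ ∈ B) :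
    MemLocalIdeal M (phi R z η - omega (χ : G → ℂ) z) := by
  obtain ⟨⟨hR, -⟩, hB, ho⟩ := isBrauerPairOf_iff.mp h
  set c := omega (χ : G → ℂ) z with hc
  have hcR : MemLocalRing M c := omega_mem_localRing hM χ hz hzi
  have hBi := isInt_idem hM hB
  set w := z - c • (1 : MonoidAlgebra ℂ G) with hw
  have hwc : IsCen w := hz.sub (isCen_one.smul c)
  have hwi : IsInt M w := IsInt.sub hM hzi (IsInt.smul hM hcR (isInt_one hM))
  have hyc := hwc.mul (isCen_idem B)
  have hyi := IsInt.mul hM hwi hBi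
  obtain ⟨N, hN⟩ := exists_small_pow hM hyc hyi fun ψ => by
    rw [omega_mul ψ hwc, omega_idem]
    split_ifs with hψ
    · rw [mul_one, hw, map_sub, map_smul, omega_one, smul_eq_mul, mul_one, hc]
      exact omega_sub_mem hM (sameBlock_of_mem hM hB hψ hχ) hz hzi
    · rw [mul_zero]; exact ideal_zero hM
  have h1 := phi_ideal_of_small_pow hM hR (IsCen.invBy hyc R) (IsCen.invBy hyc _) hyi hN η
  have h2 := phi_mul hM hR (IsCen.invBy hwc R) (IsCen.invBy (isCen_idem B) R)
    (IsCen.invBy hwc _) (IsCen.invBy (isCen_idem B) _) hwi hBi η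
  have hlin : phi R w η = phi R z η - c := by
    rw [hw, phi, map_sub, map_smul, map_sub, map_smul, res_one, omega_one, smul_eq_mul, mul_one]
    rfl
  rw [hlin] at h2
  have hzm : MemLocalRing M (phi R z η - c) :=
    (localRing hM).sub_mem (phi_mem hM (IsCen.invBy hz _) hzi η) hcR
  refine cast (congrArg (MemLocalIdeal M) ?_)
    (ideal_sub hM (ideal_sub hM h1 h2) (ideal_mul_left hM hzm (ho η hη)))
  ring

/-- Above a maximal pair nothing survives truncation. -/
theorem noExt (hM : IsPModular p M) (hmax : IsMaximalBrauerPair p M B P e) {R : Subgroup G}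
    (hR : IsPGroup p R) (hPR : P < R) (hRN : R ≤ Subgroup.normalizer (P : Set G))
    (hinv : InvBy R (eb (Cen P) e)) : Small M (cut R (eb (Cen P) e)) := by
  by_contra h
  obtain ⟨g, hg⟩ := exists_normal_step hM hmax.1.1 hR hPR.le hRN hinv h
  have hchain : SubpairLE p M P e R g := Relation.ReflTransGen.single hg
  exact hPR.ne' (hmax.2 R g (isBrauerPairOf_up hM hchain hmax.1) hchain)

/-- The orbit of the idempotent of `e` under the normaliser of `P`. -/
noncomputable def orb (P : Subgroup G) (e : Set (IrrCharacter (Cen P))) :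
    Finset (MonoidAlgebra ℂ G) :=
  (Finset.univ.filter fun n => n ∈ Subgroup.normalizer (P : Set G)).image
    fun n => cjA n (eb (Cen P) e)

theorem mem_orb {m : MonoidAlgebra ℂ G} :
    m ∈ orb P e ↔ ∃ n ∈ Subgroup.normalizer (P : Set G), cjA n (eb (Cen P) e) = m := by
  simp [orb]

theorem eb_mem_orb : eb (Cen P) e ∈ orb P e := mem_orb.mpr ⟨1, one_mem _, cjA_one _⟩

theorem exists_block_of_mem_orb (he : IsPBlock M e) {m : MonoidAlgebra ℂ G} (hm : m ∈ orb P e) :
    ∃ e' : Set (IrrCharacter (Cen P)), IsPBlock M e' ∧ eb (Cen P) e' = m := by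
  obtain ⟨n, hn, rfl⟩ := mem_orb.mp hm
  exact ⟨_, isPBlock_push _ he,
    (cjA_eb (conj_mem_iff_of_normalizer (normalizer_le_normalizer_cen hn)) e).symm⟩

theorem cjA_mem_orb {u : G} (hu : u ∈ Subgroup.normalizer (P : Set G)) {m : MonoidAlgebra ℂ G}
    (hm : m ∈ orb P e) : cjA u m ∈ orb P e := by
  obtain ⟨n, hn, rfl⟩ := mem_orb.mp hm
  exact mem_orb.mpr ⟨u * n, mul_mem hu hn, cjA_mul u n _⟩

theorem cjA_injective (u : G) : Function.Injective (cjA (G := G) u) := fun a b h => by
  have := congrArg (cjA u⁻¹) h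
  rwa [← cjA_mul, ← cjA_mul, inv_mul_cancel, cjA_one, cjA_one] at this

/-- The sum of the orbit. -/
noncomputable def orbSum (P : Subgroup G) (e : Set (IrrCharacter (Cen P))) : MonoidAlgebra ℂ G :=
  ∑ m ∈ orb P e, m

theorem invBy_orbSum : InvBy (Subgroup.normalizer (P : Set G)) (orbSum P e) := by
  rw [invBy_iff]
  intro u hu
  refine MonoidAlgebra.ext ?_
  ext x
  rw [coeff_cjA, orbSum, MonoidAlgebra.coeff_sum, Finsupp.finsetSum_apply,
    Finsupp.finsetSum_apply]
  have himg : (orb P e).image (cjA u) = orb P e := Finset.eq_of_subset_of_card_le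
    (Finset.image_subset_iff.mpr fun m hm => cjA_mem_orb hu hm)
    (Finset.card_image_of_injective _ (cjA_injective u)).ge
  conv_rhs => rw [← himg, Finset.sum_image fun a _ b _ h => cjA_injective u h]
  rfl

theorem isInt_orbSum (hM : IsPModular p M) (he : IsPBlock M e) : IsInt M (orbSum P e) := by
  refine Finset.sum_induction _ _ (fun a b ha hb => IsInt.add hM ha hb) (isInt_zero hM) fun m hm => ?_
  obtain ⟨e', he', rfl⟩ := exists_block_of_mem_orb he hm
  exact isInt_eb hM he'

theorem invBy_orbSum_cen : InvBy (Cen P) (orbSum P e) :=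
  invBy_mono (Subgroup.centralizer_le_normalizer _) invBy_orbSum

/-- The value of the orbit sum on a block of `C(P)`. -/
theorem phi_orbSum (hM : IsPModular p M) (he : IsPBlock M e) {g : Set (IrrCharacter (Cen P))}
    (hg : IsPBlock M g) {η : IrrCharacter (Cen P)} (hη : η ∈ g) :
    phi P (orbSum P e) η = if eb (Cen P) g ∈ orb P e then 1 else 0 := by
  rw [orbSum, phi, map_sum, map_sum]
  have key : ∀ m ∈ orb P e,
      omega (η : Cen P → ℂ) (res (Cen P) m) = if m = eb (Cen P) g then 1 else 0 := by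
    intro m hm
    obtain ⟨e', he', rfl⟩ := exists_block_of_mem_orb he hm
    rw [res_eb, omega_idem]
    refine if_congr ⟨fun h => ?_, fun h => ?_⟩ rfl rfl
    · rw [block_eq_of_mem hM he' hg h hη]
    · rw [eb_injective h]; exact hη
  rw [Finset.sum_congr rfl key, Finset.sum_ite_eq']

/-- `P` is a Sylow subgroup of the centraliser of `x`. -/
def IsFull (p : ℕ) (P : Subgroup G) (x : G) : Prop :=
  x ∈ Cen P ∧ Nat.card P = p ^ (Nat.card (Subgroup.centralizer ({x} : Set G))).factorization p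

theorem exists_sylowIn_eq {x : G} (hx : IsFull p P x) :
    ∃ S : Sylow p (Subgroup.centralizer ({x} : Set G)), sylowIn S = P := by
  have hle : P ≤ Subgroup.centralizer ({x} : Set G) := le_centralizer_singleton_iff.mpr hx.1
  refine ⟨Sylow.ofCard (P.subgroupOf _) ?_, Subgroup.map_subgroupOf_eq_of_le hle⟩
  rw [Nat.card_congr (Subgroup.subgroupOfEquivOfLe hle).toEquiv, hx.2]

theorem card_centralizer_conj (x c : G) :
    Nat.card (Subgroup.centralizer ({c * x * c⁻¹} : Set G)) =
      Nat.card (Subgroup.centralizer ({x} : Set G)) :=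
  card_centralizer_singleton (MulAut.conj c) x

theorem exists_normalizer_conj {x y : G} (hx : IsFull p P x) (hy : IsFull p P y)
    (h : IsConj x y) : ∃ n ∈ Subgroup.normalizer (P : Set G), n * x * n⁻¹ = y := by
  obtain ⟨c, rfl⟩ := isConj_iff.mp h
  obtain ⟨S, hS⟩ := exists_sylowIn_eq hx
  have hy' : x ∈ Cen (cjS c⁻¹ P) := by
    have := conj_mem_centralizer_map hy.1 c⁻¹
    rwa [show c⁻¹ * (c * x * c⁻¹) * c⁻¹⁻¹ = x by group] at this
  obtain ⟨S', hS'⟩ := exists_sylowIn_eq (P := cjS c⁻¹ P) (x := x)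
    ⟨hy', by rw [card_cjS, hy.2, card_centralizer_conj]⟩
  obtain ⟨k, hk⟩ := MulAction.exists_smul_eq (Subgroup.centralizer ({x} : Set G)) S S'
  have hkx : (k : G) * x * (k : G)⁻¹ = x := by
    rw [Subgroup.mem_centralizer_singleton_iff.mp k.2, mul_inv_cancel_right]
  have h1 : cjS (k : G) P ≤ cjS c⁻¹ P := by
    rintro _ ⟨a, ha, rfl⟩
    obtain ⟨a', ha', rfl⟩ : a ∈ sylowIn S := hS.symm ▸ ha
    rw [← hS']
    refine ⟨k * a' * k⁻¹, ?_, rfl⟩
    rw [← hk, Sylow.coe_subgroup_smul]
    exact Subgroup.mem_map_of_mem (MulAut.conj k).toMonoidHom ha'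
  have h2 : cjS (k : G) P = cjS c⁻¹ P :=
    Subgroup.eq_of_le_of_card_ge h1 (by rw [card_cjS, card_cjS])
  have h3 : cjS (c * k) P = P := by rw [← cjS_cjS, h2, cjS_cjS, mul_inv_cancel, cjS_one]
  refine ⟨c * k, Subgroup.mem_normalizer_iff.mpr fun a => ?_, ?_⟩
  · conv_rhs => rw [← h3]
    rw [mem_cjS]
    simp [mul_assoc]
  · calc c * k * x * (c * k)⁻¹ = c * ((k : G) * x * (k : G)⁻¹) * c⁻¹ := by group
      _ = c * x * c⁻¹ := by rw [hkx]

/-- The central element lifting the orbit sum. -/
noncomputable def lift (p : ℕ) (P : Subgroup G) (e : Set (IrrCharacter (Cen P))) :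
    MonoidAlgebra ℂ G :=
  ofFun fun y => if h : ∃ x, IsConj x y ∧ IsFull p P x then (orbSum P e).coeff h.choose else 0

theorem coeff_lift_of_full {x y : G} (hx : IsFull p P x) (h : IsConj x y) :
    (lift p P e).coeff y = (orbSum P e).coeff x := by
  have hex : ∃ x, IsConj x y ∧ IsFull p P x := ⟨x, h, hx⟩
  rw [lift, coeff_ofFun, dif_pos hex]
  obtain ⟨hc1, hc2⟩ := hex.choose_spec
  obtain ⟨n, hn, hnx⟩ := exists_normalizer_conj hx hc2 (h.trans hc1.symm)
  rw [← hnx]
  exact invBy_orbSum n hn x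

theorem coeff_lift_ne_zero {y : G} (h : (lift p P e).coeff y ≠ 0) :
    ∃ x, IsConj x y ∧ IsFull p P x := by
  by_contra hne
  rw [lift, coeff_ofFun, dif_neg hne] at h
  exact h rfl

theorem isCen_lift : IsCen (lift p P e) := by
  intro g h
  have hc : IsConj g (h * g * h⁻¹) := isConj_iff.mpr ⟨h, rfl⟩
  by_cases hex : ∃ x, IsConj x g ∧ IsFull p P x
  · obtain ⟨x, hxg, hx⟩ := hex
    show (lift p P e).coeff (h * g * h⁻¹) = (lift p P e).coeff g
    rw [coeff_lift_of_full hx hxg, coeff_lift_of_full hx (hxg.trans hc)]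
  · show (lift p P e).coeff (h * g * h⁻¹) = (lift p P e).coeff g
    have h1 : (lift p P e).coeff g = 0 := not_not.mp fun hn => hex (coeff_lift_ne_zero hn)
    rw [h1]
    by_contra hn
    obtain ⟨x, hxg, hx⟩ := coeff_lift_ne_zero hn
    exact hex ⟨x, hxg.trans hc.symm, hx⟩

theorem isInt_lift (hM : IsPModular p M) (he : IsPBlock M e) : IsInt M (lift p P e) := by
  intro y
  by_cases hn : (lift p P e).coeff y = 0
  · rw [hn]; exact (localRing hM).zero_mem
  · obtain ⟨x, hxy, hx⟩ := coeff_lift_ne_zero hn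
    rw [coeff_lift_of_full hx hxy]
    exact isInt_orbSum hM he x

theorem coeff_orbSum_ideal (hM : IsPModular p M) (hmax : IsMaximalBrauerPair p M B P e) {x : G}
    (hx : x ∈ Cen P) (hnf : ¬ IsFull p P x) : MemLocalIdeal M ((orbSum P e).coeff x) := by
  have hP : IsPGroup p P := hmax.1.1.1
  have he : IsPBlock M e := hmax.1.1.2
  obtain ⟨S, hPS⟩ := exists_le_sylowIn hP hx
  have hS : Nat.card (sylowIn S) =
      p ^ (Nat.card (Subgroup.centralizer ({x} : Set G))).factorization p :=
    (Subgroup.card_map_of_injective (Subgroup.subtype_injective _)).trans S.card_eq_multiplicity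
  have hlt : P < sylowIn S := lt_of_le_of_ne hPS fun h => hnf ⟨hx, by rw [← hS, ← h]⟩
  have hPR := lt_inf_normalizer (isPGroup_sylowIn S) hlt
  set R := sylowIn S ⊓ Subgroup.normalizer (P : Set G) with hRdef
  have hR : IsPGroup p R := (isPGroup_sylowIn S).to_le inf_le_left
  have hRN : R ≤ Subgroup.normalizer (P : Set G) := inf_le_right
  have hxR : x ∈ Cen R :=
    le_centralizer_singleton_iff.mp ((inf_le_left : R ≤ sylowIn S).trans (sylowIn_le S))
  let _ : MulAction R {m // m ∈ orb P e} :=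
    { smul := fun u m => ⟨cjA (u : G) m.1, cjA_mem_orb (hRN u.2) m.2⟩
      one_smul := fun m => Subtype.ext (cjA_one m.1)
      mul_smul := fun u v m => Subtype.ext (cjA_mul (u : G) v m.1) }
  have hint : ∀ m : {m // m ∈ orb P e}, IsInt M m.1 := fun m => by
    obtain ⟨e', he', hm⟩ := exists_block_of_mem_orb he m.2
    exact hm ▸ isInt_eb hM he'
  have h := BlockPrincipal81.ideal_sum_sub_fixed hM hR (fun m : {m // m ∈ orb P e} => m.1.coeff x)
    (fun u m => ?_) (fun m => hint m x)
  swap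
  · show (cjA (u : G) m.1).coeff x = _
    rw [coeff_cjA]
    congr 1
    rw [mul_assoc, ← Subgroup.mem_centralizer_iff.mp hxR u u.2, inv_mul_cancel_left]
  have hzero : ∀ m : {m // m ∈ orb P e},
      m ∈ MulAction.fixedPoints R {m // m ∈ orb P e} → MemLocalIdeal M (m.1.coeff x) := by
    intro m hm
    obtain ⟨n, hn, hnm⟩ := mem_orb.mp m.2
    have hinv : InvBy R m.1 := invBy_iff.mpr fun u hu => congrArg Subtype.val (hm ⟨u, hu⟩)
    have hPn : cjS n⁻¹ P = P := cjS_of_normalizer (inv_mem hn)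
    have hlt' : P < cjS n⁻¹ R := by
      refine lt_of_le_of_ne (hPn ▸ cjS_mono hPR.le) fun h => hPR.ne ?_
      exact Subgroup.eq_of_le_of_card_ge hPR.le (by rw [← card_cjS n⁻¹ R, ← h])
    have hN' : cjS n⁻¹ R ≤ Subgroup.normalizer (P : Set G) := by
      have := cjS_le_normalizer (x := n⁻¹) hRN
      rwa [hPn] at this
    have hi : InvBy (cjS n⁻¹ R) (eb (Cen P) e) := by
      have := invBy_cjA (x := n⁻¹) hinv
      rwa [← hnm, ← cjA_mul, inv_mul_cancel, cjA_one] at this
    have hs := noExt hM hmax (hR.map _) hlt' hN' hi (n⁻¹ * x * n)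
    have hxm : n⁻¹ * x * n ∈ Subgroup.centralizer ((cjS n⁻¹ R : Subgroup G) : Set G) := by
      simpa using conj_mem_centralizer_map hxR n⁻¹
    rw [coeff_cut, if_pos hxm] at hs
    rw [← hnm, coeff_cjA]
    exact hs
  have hsum : (orbSum P e).coeff x = ∑ m : {m // m ∈ orb P e}, m.1.coeff x := by
    rw [orbSum, MonoidAlgebra.coeff_sum, Finsupp.finsetSum_apply,
      ← Finset.sum_subtype (F := inferInstance) (orb P e) (fun _ => Iff.rfl)
        (fun m => m.coeff x)]
  rw [hsum]
  exact cast (congrArg (MemLocalIdeal M) (sub_add_cancel _ _))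
    (ideal_add hM h (ideal_sum hM fun m hm => hzero m (Finset.mem_filter.mp hm).2))

theorem phi_lift (hM : IsPModular p M) (hmax : IsMaximalBrauerPair p M B P e)
    (η : IrrCharacter (Cen P)) :
    MemLocalIdeal M (phi P (lift p P e) η - phi P (orbSum P e) η) := by
  have he : IsPBlock M e := hmax.1.1.2
  rw [phi, phi, ← map_sub]
  refine omega_ideal_of_small hM η ((isCen_res_of_invBy (IsCen.invBy isCen_lift _)).sub
    (isCen_res_of_invBy invBy_orbSum_cen)) fun x => ?_
  rw [MonoidAlgebra.coeff_sub, Finsupp.coe_sub, Pi.sub_apply, coeff_res, coeff_res]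
  by_cases hfx : IsFull p P x
  · rw [coeff_lift_of_full hfx (IsConj.refl _), sub_self]; exact ideal_zero hM
  · have h0 : (lift p P e).coeff (x : G) = 0 := by
      by_contra hn
      obtain ⟨y, hyx, hy⟩ := coeff_lift_ne_zero hn
      obtain ⟨c, hc⟩ := isConj_iff.mp hyx
      exact hfx ⟨x.2, by rw [← hc, card_centralizer_conj, hy.2]⟩
    rw [h0, zero_sub]
    exact ideal_neg (coeff_orbSum_ideal hM hmax x.2 hfx)

/-- Every pair of the block has value one on the lifted orbit sum. -/
theorem phi_lift_one (hM : IsPModular p M) (hmax : IsMaximalBrauerPair p M B P e) {R : Subgroup G}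
    {g : Set (IrrCharacter (Cen R))} (h : IsBrauerPairOf p M B R g) {η : IrrCharacter (Cen R)}
    (hη : η ∈ g) : MemLocalIdeal M (phi R (lift p P e) η - 1) := by
  have he : IsPBlock M e := hmax.1.1.2
  obtain ⟨ξ, hξ⟩ := block_nonempty hM he
  obtain ⟨χ, hχ⟩ := block_nonempty hM h.2.1
  have h1 := phi_eq_omega hM h isCen_lift (isInt_lift hM he) hη hχ
  have h2 := phi_eq_omega hM hmax.1 isCen_lift (isInt_lift hM he) hξ hχ
  have h3 := phi_lift hM hmax ξ
  rw [phi_orbSum hM he he hξ, if_pos eb_mem_orb] at h3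
  refine cast (congrArg (MemLocalIdeal M) ?_) (ideal_add hM (ideal_sub hM h1 h2) h3)
  ring

/-- Every pair of the block is, up to conjugation, inside the subgroup of a maximal one. -/
theorem conjLe_of_pairOf (hM : IsPModular p M) (hmax : IsMaximalBrauerPair p M B P e)
    {R : Subgroup G} {g : Set (IrrCharacter (Cen R))} (h : IsBrauerPairOf p M B R g) :
    ConjLe R P := by
  obtain ⟨η, hη⟩ := block_nonempty hM h.1.2
  have hns := not_small_cut_of_phi hM (IsCen.invBy (isCen_lift (p := p) (P := P) (e := e)) _)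
    (phi_lift_one hM hmax h hη)
  obtain ⟨x, hx⟩ : ∃ x, ¬ MemLocalIdeal M ((cut R (lift p P e)).coeff x) := not_forall.mp hns
  rw [coeff_cut] at hx
  split_ifs at hx with hxR
  · obtain ⟨y, hyx, hy⟩ := coeff_lift_ne_zero fun h0 => hx (by rw [h0]; exact ideal_zero hM)
    obtain ⟨S, hS⟩ := exists_sylowIn_eq hy
    have := conjLe_sylowIn_of_isConj h.1.1 hyx hxR S
    rwa [hS] at this
  · exact absurd (ideal_zero hM) hx

/-- The subgroup of a maximal pair is a defect group of the block. -/
theorem isDefectGroup_of_maximal (hM : IsPModular p M) (hmax : IsMaximalBrauerPair p M B P e) :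
    IsDefectGroup p M B P := by
  have hB := hmax.1.2.1
  obtain ⟨D, hD⟩ := exists_defectGroup hM hB
  obtain ⟨g, hg⟩ := exists_pairOf_of_not_small hM hB (isPGroup_of_isDefectGroup hD)
    (not_small_cut_defect hM hB hD)
  obtain ⟨x, hx⟩ := eq_map_of_conjLe (conjLe_of_pairOf hM hmax hg)
    (card_le_of_conjLe (conjLe_defect_of_pairOf hM hmax.1 hD))
  rw [← hx]
  exact isDefectGroup_map hD x

/-- Pairs of the block on `P` are conjugate under the normaliser of `P`. -/
theorem exists_normalizer_of_pairOf (hM : IsPModular p M) (hmax : IsMaximalBrauerPair p M B P e)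
    {g : Set (IrrCharacter (Cen P))} (h : IsBrauerPairOf p M B P g) :
    ∃ n ∈ Subgroup.normalizer (P : Set G), cjA n (eb (Cen P) e) = eb (Cen P) g := by
  obtain ⟨η, hη⟩ := block_nonempty hM h.1.2
  have h1 := phi_lift_one hM hmax h hη
  have h2 := phi_lift hM hmax η
  rw [phi_orbSum hM hmax.1.1.2 h.1.2 hη] at h2
  by_cases hm : eb (Cen P) g ∈ orb P e
  · exact mem_orb.mp hm
  · rw [if_neg hm] at h2
    exact absurd (cast (congrArg (MemLocalIdeal M) (by ring)) (ideal_sub hM h2 h1))
      (one_not_ideal hM)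

/-- Every pair of the block lies below a maximal one. -/
theorem exists_maximal_above {Q : Subgroup G}
    {f : Set (IrrCharacter (Cen Q))} (h : IsBrauerPairOf p M B Q f) :
    ∃ (R : Subgroup G) (g : Set (IrrCharacter (Cen R))),
      IsMaximalBrauerPair p M B R g ∧ SubpairLE p M Q f R g := by
  induction hn : Nat.card G - Nat.card Q using Nat.strong_induction_on generalizing Q with
  | _ n ih =>
    by_cases hmax : IsMaximalBrauerPair p M B Q f
    · exact ⟨Q, f, hmax, Relation.ReflTransGen.refl⟩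
    · simp only [IsMaximalBrauerPair, h, true_and, not_forall] at hmax
      obtain ⟨R, g, hg, hle, hne⟩ := hmax
      have hlt : Nat.card Q < Nat.card R := by
        have hQR := subgroup_le_of_subpairLE hle
        refine lt_of_le_of_ne (Subgroup.card_le_of_le hQR) fun hc => hne ?_
        exact (Subgroup.eq_of_le_of_card_ge hQR hc.ge).symm
      have hcG : Nat.card R ≤ Nat.card G := Subgroup.card_le_card_group R
      obtain ⟨R', g', h', hle'⟩ := ih (Nat.card G - Nat.card R) (by omega) (Q := R) hg rfl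
      exact ⟨R', g', h', hle.trans hle'⟩

/-- Some conjugate of every pair of the block lies below a given maximal pair. -/
theorem exists_conj_subpairLE (hM : IsPModular p M) (hmax : IsMaximalBrauerPair p M B P e)
    {Q : Subgroup G} {f : Set (IrrCharacter (Cen Q))} (h : IsBrauerPairOf p M B Q f) :
    ∃ x : G, SubpairLE p M (cjS x Q) (conjBlock Q x f) P e := by
  obtain ⟨R, g, hR, hle⟩ := exists_maximal_above h
  obtain ⟨c, hc⟩ := eq_map_of_conjLe (conjLe_of_pairOf hM hmax hR.1)
    (card_le_of_conjLe (conjLe_of_pairOf hM hR hmax.1))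
  replace hc : cjS c R = P := hc
  have hg := isBrauerPairOf_conj c hR.1
  obtain ⟨g', hg', hgeq⟩ : ∃ g' : Set (IrrCharacter (Cen P)), IsBrauerPairOf p M B P g' ∧
      eb (Cen P) g' = cjA c (eb (Cen R) g) := by
    subst hc
    exact ⟨_, hg, eb_conjBlock R c g⟩
  obtain ⟨n, hn, hne⟩ := exists_normalizer_of_pairOf hM hmax hg'
  have heq : (⟨cjS (n⁻¹ * c) R, conjBlock R (n⁻¹ * c) g⟩ : BrauerPairIdx G) = ⟨P, e⟩ := by
    refine pair_ext ?_ ?_
    · rw [← cjS_cjS, hc, cjS_of_normalizer (inv_mem hn)]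
    · rw [eb_conjBlock, cjA_mul, ← hgeq, ← hne, ← cjA_mul, inv_mul_cancel, cjA_one]
  refine ⟨n⁻¹ * c, ?_⟩
  have h2 := subpairLE_conj (n⁻¹ * c) hle
  unfold SubpairLE at h2 ⊢
  rwa [heq] at h2

end Cfsg.Agent.BrauerPairs81Max
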