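import Cfsg.Agent.Lib.BlockTheoryInduced

/-!
Defect classes and defect groups of blocks through the Brauer map.
-/

namespace Cfsg.Agent.BlockTheoryDefect

open Cfsg Cfsg.Agent.BlockTheoryLocalRing Cfsg.Agent.BlockTheoryRotation
open Cfsg.Agent.BlockTheoryCentre Cfsg.Agent.BlockTheoryIdem Cfsg.Agent.BlockTheoryBrauer
open Cfsg.Agent.BlockTheoryInduced
open scoped ComplexConjugate

attribute [local instance] Classical.propDecidable

section Groups

variable {G : Type*} [Group G]

/-- Some conjugate of `Q` is contained in `D`. -/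
def ConjLe (Q D : Subgroup G) : Prop := ∃ x : G, Q.map (MulAut.conj x).toMonoidHom ≤ D

theorem conjLe_of_le {Q D : Subgroup G} (h : Q ≤ D) : ConjLe Q D :=
  ⟨1, by rintro _ ⟨a, ha, rfl⟩; simpa using h ha⟩

theorem conjLe_conj (Q : Subgroup G) (x : G) : ConjLe Q (Q.map (MulAut.conj x).toMonoidHom) :=
  ⟨x, le_rfl⟩

theorem conjLe_trans {Q R D : Subgroup G} (h₁ : ConjLe Q R) (h₂ : ConjLe R D) : ConjLe Q D := by
  obtain ⟨x, hx⟩ := h₁
  obtain ⟨y, hy⟩ := h₂
  refine ⟨y * x, ?_⟩
  rintro _ ⟨a, ha, rfl⟩
  have := hy (Subgroup.mem_map_of_mem (MulAut.conj y).toMonoidHom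
    (hx (Subgroup.mem_map_of_mem (MulAut.conj x).toMonoidHom ha)))
  simpa [mul_assoc] using this

theorem conjLe_conj' (Q : Subgroup G) (x : G) : ConjLe (Q.map (MulAut.conj x).toMonoidHom) Q :=
  ⟨x⁻¹, by rintro _ ⟨_, ⟨a, ha, rfl⟩, rfl⟩; simpa [mul_assoc] using ha⟩

theorem card_le_of_conjLe [Finite G] {Q D : Subgroup G} (h : ConjLe Q D) :
    Nat.card Q ≤ Nat.card D := by
  obtain ⟨x, hx⟩ := h
  exact (Subgroup.card_map_of_injective (MulAut.conj x).injective).symm.le.trans
    (Subgroup.card_le_of_le hx)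

theorem eq_map_of_conjLe [Finite G] {Q D : Subgroup G} (h : ConjLe Q D)
    (hc : Nat.card D ≤ Nat.card Q) : ∃ x : G, Q.map (MulAut.conj x).toMonoidHom = D := by
  obtain ⟨x, hx⟩ := h
  exact ⟨x, Subgroup.eq_of_le_of_card_ge hx
    (hc.trans (Subgroup.card_map_of_injective (MulAut.conj x).injective).symm.le)⟩

theorem le_of_conjLe_normal {Q D : Subgroup G} [Q.Normal] (h : ConjLe Q D) : Q ≤ D := by
  obtain ⟨x, hx⟩ := h
  intro a ha
  have := hx (Subgroup.mem_map_of_mem (MulAut.conj x).toMonoidHom
    ((inferInstance : Q.Normal).conj_mem a ha x⁻¹))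
  simpa [mul_assoc] using this

theorem le_centralizer_singleton_iff {Q : Subgroup G} {g : G} :
    Q ≤ Subgroup.centralizer ({g} : Set G) ↔ g ∈ Subgroup.centralizer (Q : Set G) := by
  constructor
  · exact fun h => Subgroup.mem_centralizer_iff.mpr fun u hu =>
      Subgroup.mem_centralizer_singleton_iff.mp (h hu)
  · exact fun h u hu => Subgroup.mem_centralizer_singleton_iff.mpr
      (Subgroup.mem_centralizer_iff.mp h u hu)

theorem conj_mem_centralizer_map {Q : Subgroup G} {g : G}
    (h : g ∈ Subgroup.centralizer (Q : Set G)) (x : G) :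
    x * g * x⁻¹ ∈ Subgroup.centralizer ((Q.map (MulAut.conj x).toMonoidHom) : Set G) := by
  refine Subgroup.mem_centralizer_iff.mpr ?_
  rintro _ ⟨a, ha, rfl⟩
  have := Subgroup.mem_centralizer_iff.mp h a ha
  simp only [MulEquiv.coe_toMonoidHom, MulAut.conj_apply]
  calc x * a * x⁻¹ * (x * g * x⁻¹) = x * (a * g) * x⁻¹ := by group
    _ = x * (g * a) * x⁻¹ := by rw [this]
    _ = x * g * x⁻¹ * (x * a * x⁻¹) := by group

variable {p : ℕ} [Fact p.Prime] [Finite G]

/-- A Sylow subgroup of a centraliser, as a subgroup of the group. -/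
noncomputable abbrev sylowIn {g : G} (S : Sylow p (Subgroup.centralizer ({g} : Set G))) :
    Subgroup G :=
  (S : Subgroup (Subgroup.centralizer ({g} : Set G))).map
    (Subgroup.centralizer ({g} : Set G)).subtype

omit [Fact p.Prime] [Finite G] in
theorem isPGroup_sylowIn {g : G} (S : Sylow p (Subgroup.centralizer ({g} : Set G))) :
    IsPGroup p (sylowIn S) := S.isPGroup'.map _

omit [Fact p.Prime] [Finite G] in
theorem sylowIn_le {g : G} (S : Sylow p (Subgroup.centralizer ({g} : Set G))) :
    sylowIn S ≤ Subgroup.centralizer ({g} : Set G) := Subgroup.map_subtype_le _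

omit [Fact p.Prime] [Finite G] in
theorem mem_centralizer_sylowIn {g : G} (S : Sylow p (Subgroup.centralizer ({g} : Set G))) :
    g ∈ Subgroup.centralizer (sylowIn S : Set G) :=
  le_centralizer_singleton_iff.mp (sylowIn_le S)

omit [Fact p.Prime] [Finite G] in
theorem exists_le_sylowIn {g : G} {Q : Subgroup G} (hQ : IsPGroup p Q)
    (hg : g ∈ Subgroup.centralizer (Q : Set G)) :
    ∃ S : Sylow p (Subgroup.centralizer ({g} : Set G)), Q ≤ sylowIn S := by
  obtain ⟨S, hS⟩ := (hQ.comap_subtype (K := Subgroup.centralizer ({g} : Set G))).exists_le_sylow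
  refine ⟨S, fun a ha => ?_⟩
  exact ⟨⟨a, le_centralizer_singleton_iff.mpr hg ha⟩, hS ha, rfl⟩

theorem conjLe_sylowIn {g : G} {Q : Subgroup G} (hQ : IsPGroup p Q)
    (hg : g ∈ Subgroup.centralizer (Q : Set G))
    (S : Sylow p (Subgroup.centralizer ({g} : Set G))) : ConjLe Q (sylowIn S) := by
  obtain ⟨S', hS'⟩ := exists_le_sylowIn hQ hg
  obtain ⟨x, hx⟩ := MulAction.exists_smul_eq (Subgroup.centralizer ({g} : Set G)) S' S
  refine ⟨(x : G), ?_⟩
  rintro _ ⟨a, ha, rfl⟩
  obtain ⟨a', ha', rfl⟩ := hS' ha
  refine ⟨x * a' * x⁻¹, ?_, rfl⟩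
  rw [← hx, Sylow.coe_subgroup_smul]
  exact Subgroup.mem_map_of_mem (MulAut.conj x).toMonoidHom ha'

theorem conjLe_sylowIn_of_isConj {g h : G} {Q : Subgroup G} (hQ : IsPGroup p Q)
    (hc : IsConj g h) (hh : h ∈ Subgroup.centralizer (Q : Set G))
    (S : Sylow p (Subgroup.centralizer ({g} : Set G))) : ConjLe Q (sylowIn S) := by
  obtain ⟨c, rfl⟩ := isConj_iff.mp hc.symm
  exact conjLe_trans (conjLe_conj Q c)
    (conjLe_sylowIn (hQ.map _) (conj_mem_centralizer_map hh c) S)

end Groups

variable {p : ℕ} {M : Ideal AlgInt} {G : Type*} [Group G] [Fintype G]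

theorem small_cut_of_small (hM : IsPModular p M) (P : Subgroup G) {z : MonoidAlgebra ℂ G}
    (hz : Small M z) : Small M (cut P z) := by
  intro x
  rw [coeff_cut]
  split_ifs
  exacts [hz x, ideal_zero hM]

theorem small_smul (hM : IsPModular p M) {c : ℂ} (hc : MemLocalRing M c)
    {z : MonoidAlgebra ℂ G} (hz : Small M z) : Small M (c • z) :=
  fun x => by simpa using ideal_mul_left hM hc (hz x)

theorem small_cut_of_conjLe (hM : IsPModular p M) {Q D : Subgroup G} (h : ConjLe Q D)
    {z : MonoidAlgebra ℂ G} (hz : IsCen z) (hs : Small M (cut Q z)) : Small M (cut D z) := by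
  obtain ⟨x, hx⟩ := h
  intro g
  rw [coeff_cut]
  split_ifs with hg
  · have h1 : g ∈ Subgroup.centralizer ((Q.map (MulAut.conj x).toMonoidHom) : Set G) :=
      Subgroup.centralizer_le hx hg
    have h2 : x⁻¹ * g * x ∈ Subgroup.centralizer (Q : Set G) := by
      refine Subgroup.mem_centralizer_iff.mpr fun a ha => ?_
      have := Subgroup.mem_centralizer_iff.mp h1 _ (Subgroup.mem_map_of_mem _ ha)
      simp only [MulEquiv.coe_toMonoidHom, MulAut.conj_apply] at this
      calc a * (x⁻¹ * g * x) = x⁻¹ * (x * a * x⁻¹ * g) * x := by group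
        _ = x⁻¹ * (g * (x * a * x⁻¹)) * x := by rw [this]
        _ = x⁻¹ * g * x * a := by group
    have := hs (x⁻¹ * g * x)
    rw [coeff_cut, if_pos h2] at this
    have e : z.coeff (x⁻¹ * g * x) = z.coeff g := by simpa using hz g x⁻¹
    rwa [e] at this
  · exact ideal_zero hM

/-- A block sees no class outside the centraliser of a subgroup on which its idempotent is not
negligible. -/
theorem omega_ideal_of_cut_small (hM : IsPModular p M) {B : Set (IrrCharacter G)}
    (hB : IsPBlock M B) {Q : Subgroup G} (hQ : IsPGroup p Q)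
    (hQB : ¬ Small M (cut Q (idem B))) {z : MonoidAlgebra ℂ G} (hz : IsCen z) (hzi : IsInt M z)
    (hs : Small M (cut Q z)) {χ : IrrCharacter G} (hχ : χ ∈ B) :
    MemLocalIdeal M (omega (χ : G → ℂ) z) := by
  set c := omega (χ : G → ℂ) z with hcdef
  have hcR : MemLocalRing M c := omega_mem_localRing hM χ hz hzi
  have hwc : IsCen (z - c • 1) := hz.sub (isCen_one.smul c)
  have hwi : IsInt M (z - c • 1) := IsInt.sub hM hzi (IsInt.smul hM hcR (isInt_one hM))
  have hBi := isInt_idem hM hB
  have hyc := hwc.mul (isCen_idem B)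
  have hyi := IsInt.mul hM hwi hBi
  obtain ⟨N, hN⟩ := exists_small_pow hM hyc hyi fun ψ => by
    rw [omega_mul ψ hwc, omega_idem]
    split_ifs with hψ
    · rw [mul_one, map_sub, map_smul, omega_one, smul_eq_mul, mul_one, hcdef]
      exact omega_sub_mem hM (sameBlock_of_mem hM hB hψ hχ) hz hzi
    · rw [mul_zero]; exact ideal_zero hM
  have hN' : Small M (((z - c • 1) * idem B) ^ (N + 1)) := by
    rw [pow_succ]; exact small_mul_right hM hN hyi
  by_contra hc
  have hneg : MemLocalRing M (-c) := (localRing hM).neg_mem hcR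
  have hcut : Small M (cut Q ((z - c • 1) * idem B) - (-c) • cut Q (idem B)) := by
    refine small_trans hM (cut_mul hM Q hQ hwc (isCen_idem B) hwi hBi) ?_
    have e : cut Q (z - c • 1) * cut Q (idem B) - (-c) • cut Q (idem B) =
        cut Q z * cut Q (idem B) := by
      rw [map_sub, map_smul, cut_one, sub_mul, Algebra.smul_mul_assoc, one_mul, neg_smul]
      abel
    rw [e]
    exact small_mul_right hM hs (isInt_cut hM Q hBi)
  have h1 : Small M (cut Q ((z - c • 1) * idem B) ^ (N + 1)) := by
    have := small_sub hM (small_cut_of_small hM Q hN') (cut_pow hM Q hQ hyc hyi (N + 1))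
    simpa using this
  have h2 : Small M (((-c) • cut Q (idem B)) ^ (N + 1)) := by
    have := small_sub hM h1 (small_pow_sub hM hcut (isInt_cut hM Q hyi)
      (IsInt.smul hM hneg (isInt_cut hM Q hBi)) (N + 1))
    simpa using this
  rw [smul_pow] at h2
  have h3 : Small M ((-c) ^ (N + 1) • cut Q (idem B)) := by
    have h4 := small_smul hM ((localRing hM).pow_mem hneg (N + 1))
      (cut_pow hM Q hQ (isCen_idem B) hBi (N + 1))
    rw [pow_idem (idem_sq B) (Nat.succ_pos N), smul_sub] at h4
    have := small_add hM h4 h2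
    simpa using this
  refine hQB fun x => ?_
  have := h3 x
  rw [MonoidAlgebra.coeff_smul_apply, smul_eq_mul] at this
  by_contra hx
  have hn : ¬ MemLocalIdeal M ((-c) ^ (N + 1)) := fun h =>
    hc (neg_neg c ▸ ideal_neg (ideal_of_pow_ideal hM hneg h))
  exact not_ideal_mul hM ((localRing hM).pow_mem hneg _) (isInt_cut hM Q hBi x) hn hx this

variable [Fact p.Prime] {B : Set (IrrCharacter G)} {D : Subgroup G}

omit [Fintype G] [Fact p.Prime] in
theorem isPGroup_of_isDefectGroup (hD : IsDefectGroup p M B D) : IsPGroup p D := by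
  obtain ⟨g, -, S, rfl⟩ := hD
  exact isPGroup_sylowIn S

/-- The subgroups on which the block idempotent is not negligible are those conjugate into a
defect group. -/
theorem not_small_cut_iff (hM : IsPModular p M) (hB : IsPBlock M B) (hD : IsDefectGroup p M B D)
    {Q : Subgroup G} (hQ : IsPGroup p Q) :
    ¬ Small M (cut Q (idem B)) ↔ ConjLe Q D := by
  obtain ⟨g, ⟨hgR, hgI, hgω⟩, S, rfl⟩ := hD
  have hBi := isInt_idem hM hB
  constructor
  · intro hns
    by_contra hQD
    refine hns ?_
    have hK : Small M (cut Q (classSum g)) := by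
      intro x
      rw [coeff_cut]
      split_ifs with hx
      · rw [classSum, coeff_ofFun]
        split_ifs with hgx
        · exact absurd (conjLe_sylowIn_of_isConj hQ hgx hx S) hQD
        · exact ideal_zero hM
      · exact ideal_zero hM
    obtain ⟨χ, hχ⟩ := block_nonempty hM hB
    set u := omega (χ : G → ℂ) (classSum g) with hu
    have huu : ¬ MemLocalIdeal M u := by
      rw [hu, omega_classSum (irr_classFun χ)]; exact hgω χ hχ
    have huR : MemLocalRing M u := omega_mem_localRing hM χ (isCen_classSum g) (isInt_classSum hM g)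
    set a := u • idem B with ha
    set b := classSum g * idem B with hb
    have hac : IsCen a := (isCen_idem B).smul u
    have hai : IsInt M a := IsInt.smul hM huR hBi
    have hbc : IsCen b := (isCen_classSum g).mul (isCen_idem B)
    have hbi : IsInt M b := IsInt.mul hM (isInt_classSum hM g) hBi
    obtain ⟨N, hN⟩ := exists_small_pow hM (hac.sub hbc) (IsInt.sub hM hai hbi) fun ψ => by
      rw [ha, hb, map_sub, map_smul, omega_mul ψ (isCen_classSum g), omega_idem, smul_eq_mul]
      split_ifs with hψ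
      · rw [mul_one, mul_one, hu]
        exact omega_sub_mem hM (sameBlock_of_mem hM hB hχ hψ) (isCen_classSum g)
          (isInt_classSum hM g)
      · rw [mul_zero, mul_zero, sub_zero]; exact ideal_zero hM
    have hN' : Small M ((a - b) ^ (N + 1)) := by
      rw [pow_succ]; exact small_mul_right hM hN (IsInt.sub hM hai hbi)
    have hgeom := (Commute.mul_geom_sum₂ (show Commute a (a - b) from
      (hac.comm (a - b))) (N + 1))
    set Sg := ∑ i ∈ Finset.range (N + 1), a ^ i * (a - b) ^ (N + 1 - 1 - i)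
    have hSg : IsCen Sg ∧ IsInt M Sg := by
      refine Finset.sum_induction _ (fun z => IsCen z ∧ IsInt M z)
        (fun z w hz hw => ⟨hz.1.add hw.1, IsInt.add hM hz.2 hw.2⟩)
        ⟨isCen_zero, isInt_zero hM⟩ fun i _ => ⟨?_, ?_⟩
      · exact (IsCen.pow hac i).mul (IsCen.pow (hac.sub hbc) _)
      · exact IsInt.mul hM (isInt_pow hM hai i) (isInt_pow hM (IsInt.sub hM hai hbi) _)
    rw [sub_sub_cancel, hb, mul_assoc] at hgeom
    have h1 : Small M (cut Q (classSum g * (idem B * Sg))) := by
      have := small_add hM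
        (cut_mul hM Q hQ (isCen_classSum g) ((isCen_idem B).mul hSg.1) (isInt_classSum hM g)
          (IsInt.mul hM hBi hSg.2))
        (small_mul_right hM hK (isInt_cut hM Q (IsInt.mul hM hBi hSg.2)))
      simpa using this
    rw [hgeom, map_sub] at h1
    have h2 : Small M (cut Q (a ^ (N + 1))) := by
      have := small_add hM h1 (small_cut_of_small hM Q hN')
      simpa [← hb] using this
    rw [ha, smul_pow, pow_idem (idem_sq B) (Nat.succ_pos N), map_smul] at h2
    intro x
    have := ideal_mul_left hM (inv_mem hM ((localRing hM).pow_mem huR (N + 1))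
      (fun h => huu (ideal_of_pow_ideal hM huR h))) (h2 x)
    rw [MonoidAlgebra.coeff_smul_apply, smul_eq_mul, ← mul_assoc, inv_mul_cancel₀, one_mul] at this
    · exact this
    · exact pow_ne_zero _ fun h => huu (h ▸ ideal_zero hM)
  · intro hQD hs
    have := small_cut_of_conjLe hM hQD (isCen_idem B) hs g
    rw [coeff_cut, if_pos (mem_centralizer_sylowIn S)] at this
    exact hgI this

theorem not_small_cut_defect (hM : IsPModular p M) (hB : IsPBlock M B)
    (hD : IsDefectGroup p M B D) : ¬ Small M (cut D (idem B)) :=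
  (not_small_cut_iff hM hB hD (isPGroup_of_isDefectGroup hD)).mpr (conjLe_of_le le_rfl)

/-- A normal `p`-subgroup is contained in every defect group. -/
theorem normal_le_defectGroup (hM : IsPModular p M) (hB : IsPBlock M B)
    (hD : IsDefectGroup p M B D) (P : Subgroup G) [P.Normal] (hP : IsPGroup p P) : P ≤ D := by
  refine le_of_conjLe_normal ((not_small_cut_iff hM hB hD hP).mp fun hs => ?_)
  obtain ⟨χ, hχ⟩ := block_nonempty hM hB
  have hcc : IsCen (cut P (idem B)) := by
    intro g h
    simp only [coeff_cut]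
    have hN : ∀ u : G, u ∈ Subgroup.normalizer (P : Set G) := fun u => by
      rw [Subgroup.normalizer_eq_top]; trivial
    have e : (idem B).coeff (h * g * h⁻¹) = (idem B).coeff g := isCen_idem B g h
    rw [e]
    refine if_congr ⟨fun h' => ?_, fun h' => conj_mem_centralizer (hN h) h'⟩ rfl rfl
    have := conj_mem_centralizer (hN h⁻¹) h'
    simpa [mul_assoc] using this
  have h1 := omega_ideal_of_vanish hM P hP ((isCen_idem B).sub hcc)
    (IsInt.sub hM (isInt_idem hM hB) (isInt_cut hM P (isInt_idem hM hB)))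
    (fun x hx => by simp [coeff_cut, hx]) χ
  have h2 := ideal_add hM h1 (omega_ideal_of_small hM χ hcc hs)
  rw [map_sub, sub_add_cancel, omega_idem, if_pos hχ] at h2
  exact one_not_ideal hM h2

omit [Fintype G] in
/-- Conjugates of defect groups are defect groups. -/
theorem isDefectGroup_map [Finite G] (hD : IsDefectGroup p M B D) (x : G) :
    IsDefectGroup p M B (D.map (MulAut.conj x).toMonoidHom) := by
  haveI := Fintype.ofFinite G
  obtain ⟨g, ⟨hgR, hgI, hgω⟩, S, rfl⟩ := hD
  have hcoef : blockCoeff B (x * g * x⁻¹) = blockCoeff B g := isCen_idem B g x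
  refine ⟨x * g * x⁻¹, ⟨hcoef ▸ hgR, hcoef ▸ hgI, fun χ hχ => ?_⟩, ?_⟩
  · have h : centralChar (χ : G → ℂ) (x * g * x⁻¹) = centralChar (χ : G → ℂ) g := by
      rw [← omega_classSum (irr_classFun χ), ← omega_classSum (irr_classFun χ)]
      congr 1
      refine MonoidAlgebra.ext ?_
      ext y
      simp only [classSum, coeff_ofFun]
      have hc : IsConj g (x * g * x⁻¹) := isConj_iff.mpr ⟨x, rfl⟩
      exact if_congr ⟨fun h => hc.trans h, fun h => hc.symm.trans h⟩ rfl rfl
    rw [h]; exact hgω χ hχ
  · set Q := (sylowIn S).map (MulAut.conj x).toMonoidHom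
    have hQ : IsPGroup p Q := (isPGroup_sylowIn S).map _
    have hxQ := conj_mem_centralizer_map (mem_centralizer_sylowIn S) x
    obtain ⟨T, hT⟩ := exists_le_sylowIn hQ hxQ
    refine ⟨T, Subgroup.eq_of_le_of_card_ge hT ?_⟩
    refine (card_le_of_conjLe (conjLe_sylowIn_of_isConj (isPGroup_sylowIn T)
      (isConj_iff.mpr ⟨x, rfl⟩ : IsConj g (x * g * x⁻¹)) (mem_centralizer_sylowIn T) S)).trans ?_
    exact (Subgroup.card_map_of_injective (MulAut.conj x).injective).symm.le

omit [Fintype G] in
/-- Every block has a defect group. -/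
theorem exists_defectGroup [Finite G] (hM : IsPModular p M) (hB : IsPBlock M B) :
    ∃ D, IsDefectGroup p M B D := by
  haveI := Fintype.ofFinite G
  obtain ⟨χ, hχ⟩ := block_nonempty hM hB
  have h1 := omega_idem B χ
  rw [if_pos hχ, (isCen_idem B).eq_sum_classSum, map_sum] at h1
  obtain ⟨C, hC⟩ : ∃ C : ConjClasses G, ¬ MemLocalIdeal M
      (blockCoeff B C.out * centralChar (χ : G → ℂ) C.out) := by
    by_contra! hcon
    refine one_not_ideal hM (h1 ▸ ideal_sum hM fun C _ => ?_)
    rw [map_smul, smul_eq_mul, omega_classSum (irr_classFun χ)]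
    exact hcon C
  have hω : ∀ ψ : IrrCharacter G, MemLocalRing M (centralChar (ψ : G → ℂ) C.out) := fun ψ =>
    of_isIntegral hM (isIntegral_centralChar ψ _)
  have hcoef := blockCoeff_mem hM hB C.out
  refine ⟨_, C.out, ⟨hcoef, fun h => hC (ideal_mul_right hM h (hω χ)),
    fun ψ hψ h => hC (ideal_mul_left hM hcoef ?_)⟩, default, rfl⟩
  rw [show centralChar (χ : G → ℂ) C.out = centralChar (ψ : G → ℂ) C.out +
    (centralChar (χ : G → ℂ) C.out - centralChar (ψ : G → ℂ) C.out) by ring]
  exact ideal_add hM h (sameBlock_of_mem hM hB hχ hψ _)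

/-- Defect groups of a block are conjugate. -/
theorem defectGroup_conj (hM : IsPModular p M) (hB : IsPBlock M B)
    (hD : IsDefectGroup p M B D) {D' : Subgroup G} (hD' : IsDefectGroup p M B D') :
    ∃ x : G, D.map (MulAut.conj x).toMonoidHom = D' := by
  have h1 := (not_small_cut_iff hM hB hD' (isPGroup_of_isDefectGroup hD)).mp
    (not_small_cut_defect hM hB hD)
  have h2 := (not_small_cut_iff hM hB hD (isPGroup_of_isDefectGroup hD')).mp
    (not_small_cut_defect hM hB hD')
  exact eq_map_of_conjLe h1 (card_le_of_conjLe h2)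

/-- If the central character of a block is a unit at `h` then a conjugate of `h` centralises the
defect group. -/
theorem exists_conj_centralizes (hM : IsPModular p M) (hB : IsPBlock M B)
    (hD : IsDefectGroup p M B D) {h : G}
    (hh : ∃ χ ∈ B, ¬ MemLocalIdeal M (centralChar (χ : G → ℂ) h)) :
    ∃ x, IsConj h x ∧ x ∈ Subgroup.centralizer (D : Set G) := by
  obtain ⟨χ, hχ, hne⟩ := hh
  by_contra! hcon
  refine hne ?_
  rw [← omega_classSum (irr_classFun χ)]
  refine omega_ideal_of_cut_small hM hB (isPGroup_of_isDefectGroup hD)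
    (not_small_cut_defect hM hB hD) (isCen_classSum h) (isInt_classSum hM h) (fun x => ?_) hχ
  rw [coeff_cut]
  split_ifs with hx
  · rw [classSum, coeff_ofFun, if_neg fun hc => hcon x hc hx]; exact ideal_zero hM
  · exact ideal_zero hM

/-- A class on which the idempotent has a unit coefficient has defect group inside that of the
block. -/
theorem conjLe_defect_of_coeff (hM : IsPModular p M) (hB : IsPBlock M B)
    (hD : IsDefectGroup p M B D) {h x : G} (hh : ¬ MemLocalIdeal M (blockCoeff B h))
    (hx : IsConj h x) {Q : Subgroup G} (hQ : IsPGroup p Q)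
    (hxQ : x ∈ Subgroup.centralizer (Q : Set G)) : ConjLe Q D := by
  refine (not_small_cut_iff hM hB hD hQ).mp fun hs => hh ?_
  have := hs x
  rw [coeff_cut, if_pos hxQ, coeff_idem] at this
  obtain ⟨c, rfl⟩ := isConj_iff.mp hx
  rwa [show blockCoeff B (c * h * c⁻¹) = blockCoeff B h from isCen_idem B h c] at this

/-- An induced block's defect group contains a conjugate of the original one. -/
theorem inducedBlock_defect_le (hM : IsPModular p M) (H : Subgroup G) [Fintype H]
    {b : Set (IrrCharacter H)} (hind : IsInducedBlock M H b B) {E : Subgroup H}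
    (hE : IsDefectGroup p M b E) (hD : IsDefectGroup p M B D) : ConjLe (E.map H.subtype) D := by
  have hEP := isPGroup_of_isDefectGroup hE
  refine (not_small_cut_iff hM hind.2.1 hD (hEP.map _)).mp fun hs => ?_
  obtain ⟨ξ, hξ⟩ := block_nonempty hM hind.1
  obtain ⟨χ, hχ⟩ := block_nonempty hM hind.2.1
  have h1 := inducedBlock_congr H hM hind hξ hχ (isCen_idem B) (isInt_idem hM hind.2.1)
  rw [omega_idem, if_pos hχ] at h1
  have h2 := omega_ideal_of_cut_small hM hind.1 hEP (not_small_cut_defect hM hind.1 hE)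
    (isCen_res H (isCen_idem B)) (isInt_res H (isInt_idem hM hind.2.1)) (fun h => ?_) hξ
  · refine one_not_ideal hM ?_
    have := ideal_sub hM h2 h1
    simpa using this
  · rw [coeff_cut]
    split_ifs with hh
    · have hmem : (h : G) ∈ Subgroup.centralizer ((E.map H.subtype) : Set G) := by
        refine Subgroup.mem_centralizer_iff.mpr ?_
        rintro _ ⟨a, ha, rfl⟩
        exact congrArg Subtype.val (Subgroup.mem_centralizer_iff.mp hh a ha)
      have := hs (h : G)
      rw [coeff_cut, if_pos hmem] at this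
      exact this
    · exact ideal_zero hM

/-- A character vanishes at elements whose `p`-part is not conjugate into a defect group. -/
theorem eq_zero_of_pPart_notMem (hM : IsPModular p M) (χ : IrrCharacter G) {g x : G}
    (hx : IsPPart p g x)
    (hD : IsDefectGroup p M (blockOf M (χ : G → ℂ)) D) (hxD : ¬ ConjLe (Subgroup.zpowers x) D) :
    (χ : G → ℂ) g = 0 := by
  obtain ⟨y, rfl, hc, ⟨k, hk⟩, hy⟩ := hx
  have hB := isPBlock_blockOf (M := M) χ
  have hP : IsPGroup p (Subgroup.zpowers x) :=
    IsPGroup.of_card (n := k) (by rw [Nat.card_zpowers, hk])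
  have hs : Small M (cut (Subgroup.zpowers x) (idem (blockOf M (χ : G → ℂ)))) := by
    by_contra hns
    exact hxD ((not_small_cut_iff hM hB hD hP).mp hns)
  have h0 : ∀ h, classCoeff h (MonoidAlgebra.single x 1 * idem (blockOf M (χ : G → ℂ)) *
      MonoidAlgebra.single y 1) = 0 := fun h =>
    classCoeff_single_mul_idem_eq_zero hM x y h ⟨k, hk⟩ hc hy _ (idem_sq _) (isInt_idem hM hB)
      ((isCen_idem _).comm _).symm ((isCen_idem _).comm _).symm (Or.inr fun g hg => by
        have := hs g
        rwa [coeff_cut, if_pos] at this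
        rw [Subgroup.zpowers_eq_closure, Subgroup.centralizer_closure]
        exact Subgroup.mem_centralizer_singleton_iff.mpr hg.symm.eq)
  have h1 := chiSum_eq_sum_classCoeff (irr_classFun χ)
    (MonoidAlgebra.single x 1 * idem (blockOf M (χ : G → ℂ)) * MonoidAlgebra.single y 1)
  rw [Finset.sum_eq_zero (fun C _ => by rw [h0, mul_zero]), ← (isCen_idem _).comm, mul_assoc,
    chiSum_idem_mul, if_pos (self_mem_blockOf hM χ), MonoidAlgebra.single_mul_single,
    chiSum_single, one_mul, one_mul] at h1
  exact h1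

end Cfsg.Agent.BlockTheoryDefect
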