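import Cfsg.Agent.Lib.BrauerPairs81Pairs
import Cfsg.Agent.Lib.BlockTheoryDefect

/-!
Brauer pairs: conjugation, and pairs through non-negligible truncations.
-/

namespace Cfsg.Agent.BrauerPairs81Conj

open Cfsg Cfsg.Agent.BlockTheoryLocalRing Cfsg.Agent.BlockTheoryCentre
open Cfsg.Agent.BlockTheoryIdem Cfsg.Agent.BlockTheoryBrauer Cfsg.Agent.BlockTheoryDefect
open Cfsg.Agent.BrauerPairs81Base Cfsg.Agent.BrauerPairs81Pairs
open scoped ComplexConjugate

attribute [local instance] Classical.propDecidable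

set_option linter.unusedSectionVars false

variable {p : ℕ} {M : Ideal AlgInt} {G : Type*} [Group G] [Fintype G]

/-- The conjugate of a subgroup. -/
abbrev cjS (x : G) (H : Subgroup G) : Subgroup G := H.map (MulAut.conj x).toMonoidHom

theorem mem_cjS {x y : G} {H : Subgroup G} : y ∈ cjS x H ↔ x⁻¹ * y * x ∈ H := by
  constructor
  · rintro ⟨a, ha, rfl⟩
    simpa [mul_assoc] using ha
  · intro h
    exact ⟨x⁻¹ * y * x, h, by simp [mul_assoc]⟩

theorem cjS_cjS (x y : G) (H : Subgroup G) : cjS x (cjS y H) = cjS (x * y) H := by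
  ext u
  simp only [mem_cjS, mul_inv_rev, mul_assoc]

theorem cjS_one (H : Subgroup G) : cjS 1 H = H := by
  ext u
  simp

theorem cjS_of_normalizer {x : G} {H : Subgroup G} (hx : x ∈ Subgroup.normalizer (H : Set G)) :
    cjS x H = H := by
  ext u
  rw [mem_cjS]
  have := Subgroup.mem_normalizer_iff.mp (inv_mem hx) u
  rw [inv_inv] at this
  exact this.symm

theorem cjS_mono {x : G} {H K : Subgroup G} (h : H ≤ K) : cjS x H ≤ cjS x K := Subgroup.map_mono h

theorem card_cjS (x : G) (H : Subgroup G) : Nat.card (cjS x H) = Nat.card H :=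
  Subgroup.card_map_of_injective (MulAut.conj x).injective

theorem mem_cen_cjS (x : G) (Q : Subgroup G) (y : G) :
    y ∈ Cen Q ↔ x * y * x⁻¹ ∈ Cen (cjS x Q) := by
  refine ⟨fun h => conj_mem_centralizer_map h x, fun h => Subgroup.mem_centralizer_iff.mpr
    fun a ha => ?_⟩
  have := Subgroup.mem_centralizer_iff.mp h _
    (Subgroup.mem_map_of_mem (MulAut.conj x).toMonoidHom ha)
  simp only [MulEquiv.coe_toMonoidHom, MulAut.conj_apply] at this
  calc a * y = x⁻¹ * (x * a * x⁻¹ * (x * y * x⁻¹)) * x := by group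
    _ = x⁻¹ * (x * y * x⁻¹ * (x * a * x⁻¹)) * x := by rw [this]
    _ = y * a := by group

theorem cjS_le_normalizer {x : G} {H Q : Subgroup G} (h : H ≤ Subgroup.normalizer (Q : Set G)) :
    cjS x H ≤ Subgroup.normalizer (cjS x Q : Set G) := by
  intro u hu
  rw [mem_cjS] at hu
  rw [Subgroup.mem_normalizer_iff]
  intro a
  rw [mem_cjS, mem_cjS, Subgroup.mem_normalizer_iff.mp (h hu) (x⁻¹ * a * x)]
  simp [mul_assoc]

/-- The isomorphism of centralisers. -/
noncomputable def cenEquiv (x : G) (Q : Subgroup G) : Cen Q ≃* Cen (cjS x Q) :=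
  conjEquiv x _ _ (mem_cen_cjS x Q)

theorem conjBlock_eq (Q : Subgroup G) (x : G) (f : Set (IrrCharacter (Cen Q))) :
    conjBlock Q x f = pushSet (cenEquiv x Q) f := by
  ext ξ'
  refine ⟨fun ⟨ξ, hξ, h⟩ => ⟨ξ, hξ, Subtype.ext (funext fun c' => ?_)⟩, ?_⟩
  · obtain ⟨c, rfl⟩ := (cenEquiv x Q).surjective c'
    rw [pushChar_apply]
    exact (h c _ rfl).symm
  · rintro ⟨ξ, hξ, rfl⟩
    refine ⟨ξ, hξ, fun c c' hc => ?_⟩
    have : cenEquiv x Q c = c' := Subtype.ext hc.symm
    rw [← this, pushChar_apply]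

theorem isPBlock_conjBlock {Q : Subgroup G} (x : G) {f : Set (IrrCharacter (Cen Q))}
    (hf : IsPBlock M f) : IsPBlock M (conjBlock Q x f) := by
  rw [conjBlock_eq]; exact isPBlock_push _ hf

theorem eb_conjBlock (Q : Subgroup G) (x : G) (f : Set (IrrCharacter (Cen Q))) :
    eb (Cen (cjS x Q)) (conjBlock Q x f) = cjA x (eb (Cen Q) f) := by
  rw [conjBlock_eq]; exact (cjA_eb (mem_cen_cjS x Q) f).symm

theorem cjA_of_isCen {z : MonoidAlgebra ℂ G} (hz : IsCen z) (x : G) : cjA x z = z := by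
  refine MonoidAlgebra.ext ?_
  ext y
  rw [coeff_cjA]
  have := hz y x⁻¹
  simpa using this

theorem invBy_cjA {x : G} {H : Subgroup G} {z : MonoidAlgebra ℂ G} (hz : InvBy H z) :
    InvBy (cjS x H) (cjA x z) := by
  rw [invBy_iff] at hz ⊢
  intro u hu
  rw [← cjA_mul, show u * x = x * (x⁻¹ * u * x) by group, cjA_mul, hz _ (mem_cjS.mp hu)]

theorem phi_cjA (x : G) (P : Subgroup G) (z : MonoidAlgebra ℂ G) (ξ : IrrCharacter (Cen P)) :
    phi (cjS x P) (cjA x z) (pushChar (cenEquiv x P) ξ) = phi P z ξ := by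
  rw [phi, phi, omega_apply, omega_apply, chiSum_apply, chiSum_apply,
    ← Equiv.sum_comp (cenEquiv x P).toEquiv]
  have h1 : (pushChar (cenEquiv x P) ξ : Cen (cjS x P) → ℂ) 1 = (ξ : Cen P → ℂ) 1 := by
    rw [← map_one (cenEquiv x P), pushChar_apply]
  rw [h1]
  congr 1
  refine Finset.sum_congr rfl fun k _ => ?_
  simp only [MulEquiv.toEquiv_eq_coe, MulEquiv.coe_toEquiv]
  rw [pushChar_apply, coeff_res, coeff_res, coeff_cjA]
  congr 2
  simp [cenEquiv, conjEquiv, mul_assoc]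

theorem occ_conj {x : G} {P : Subgroup G} {e : Set (IrrCharacter (Cen P))}
    {z : MonoidAlgebra ℂ G} (h : Occ M P e z) :
    Occ M (cjS x P) (conjBlock P x e) (cjA x z) := by
  intro ξ' hξ'
  rw [conjBlock_eq] at hξ'
  obtain ⟨ξ, hξ, rfl⟩ := hξ'
  rw [phi_cjA]
  exact h ξ hξ

theorem isBrauerPair_conj {P : Subgroup G} (x : G) {e : Set (IrrCharacter (Cen P))}
    (h : IsBrauerPair p M P e) : IsBrauerPair p M (cjS x P) (conjBlock P x e) :=
  ⟨h.1.map _, isPBlock_conjBlock x h.2⟩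

theorem isNormalSubpair_conj {Q P : Subgroup G} (x : G) {f : Set (IrrCharacter (Cen Q))}
    {e : Set (IrrCharacter (Cen P))} (h : IsNormalSubpair p M Q f P e) :
    IsNormalSubpair p M (cjS x Q) (conjBlock Q x f) (cjS x P) (conjBlock P x e) := by
  obtain ⟨h1, h2, h3, h4, h5, h6⟩ := isNormalSubpair_iff.mp h
  refine isNormalSubpair_iff.mpr ⟨isBrauerPair_conj x h1, isBrauerPair_conj x h2, cjS_mono h3,
    cjS_le_normalizer h4, ?_, ?_⟩
  · rw [eb_conjBlock]; exact invBy_cjA h5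
  · rw [eb_conjBlock]; exact occ_conj h6

theorem isBrauerPairOf_conj {B : Set (IrrCharacter G)} {P : Subgroup G} (x : G)
    {e : Set (IrrCharacter (Cen P))} (h : IsBrauerPairOf p M B P e) :
    IsBrauerPairOf p M B (cjS x P) (conjBlock P x e) := by
  obtain ⟨h1, h2, h3⟩ := isBrauerPairOf_iff.mp h
  refine isBrauerPairOf_iff.mpr ⟨isBrauerPair_conj x h1, h2, ?_⟩
  rw [← cjA_of_isCen (isCen_idem B) x]
  exact occ_conj h3

theorem subpairLE_conj {Q P : Subgroup G} (x : G) {f : Set (IrrCharacter (Cen Q))}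
    {e : Set (IrrCharacter (Cen P))} (h : SubpairLE p M Q f P e) :
    SubpairLE p M (cjS x Q) (conjBlock Q x f) (cjS x P) (conjBlock P x e) :=
  by
  suffices ∀ a b : BrauerPairIdx G, Relation.ReflTransGen (NormalSubpairRel p M) a b →
      SubpairLE p M (cjS x a.1) (conjBlock a.1 x a.2) (cjS x b.1) (conjBlock b.1 x b.2) from
    this _ _ h
  intro a b hab
  induction hab with
  | refl => exact Relation.ReflTransGen.refl
  | tail _ hbc ih =>
    exact Relation.ReflTransGen.tail ih (show IsNormalSubpair p M _ _ _ _ from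
      isNormalSubpair_conj x hbc)

/-- Pairs with the same subgroup and idempotent are equal. -/
theorem pair_ext {Q Q' : Subgroup G} {f : Set (IrrCharacter (Cen Q))}
    {f' : Set (IrrCharacter (Cen Q'))} (hQ : Q = Q') (h : eb (Cen Q) f = eb (Cen Q') f') :
    (⟨Q, f⟩ : BrauerPairIdx G) = ⟨Q', f'⟩ := by
  subst hQ
  rw [eb_injective h]

theorem conjBlock_conjBlock (Q : Subgroup G) (x y : G) (f : Set (IrrCharacter (Cen Q))) :
    (⟨cjS x (cjS y Q), conjBlock (cjS y Q) x (conjBlock Q y f)⟩ : BrauerPairIdx G) =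
      ⟨cjS (x * y) Q, conjBlock Q (x * y) f⟩ :=
  pair_ext (cjS_cjS x y Q) (by rw [eb_conjBlock, eb_conjBlock, eb_conjBlock, cjA_mul])

/-! ### Fixers -/

/-- The elements fixing `z` under conjugation. -/
def fixG (z : MonoidAlgebra ℂ G) : Subgroup G where
  carrier := {u | cjA u z = z}
  one_mem' := cjA_one z
  mul_mem' := fun {a b} (ha : cjA a z = z) (hb : cjA b z = z) =>
    show cjA (a * b) z = z by rw [cjA_mul, hb, ha]
  inv_mem' := fun {a} (ha : cjA a z = z) => show cjA a⁻¹ z = z by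
    conv_lhs => rw [← ha]
    rw [← cjA_mul, inv_mul_cancel, cjA_one]

theorem invBy_iff_le {H : Subgroup G} {z : MonoidAlgebra ℂ G} : InvBy H z ↔ H ≤ fixG z :=
  invBy_iff

theorem invBy_sup {H K : Subgroup G} {z : MonoidAlgebra ℂ G} (hH : InvBy H z) (hK : InvBy K z) :
    InvBy (H ⊔ K) z :=
  invBy_iff_le.mpr (sup_le (invBy_iff_le.mp hH) (invBy_iff_le.mp hK))

/-- A subgroup fixes the idempotent of a block of its centraliser. -/
theorem invBy_eb_cen (Q : Subgroup G) (f : Set (IrrCharacter (Cen Q))) :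
    InvBy Q (eb (Cen Q) f) := by
  intro u hu x
  by_cases hx : x ∈ Cen Q
  · rw [Subgroup.mem_centralizer_iff.mp hx u hu, mul_inv_cancel_right]
  · rw [coeff_eb_of_notMem _ f hx, coeff_eb_of_notMem _ f]
    exact fun h => hx ((conj_mem_iff_of_normalizer
      (normalizer_le_normalizer_cen (Subgroup.le_normalizer hu)) x).mpr h)

/-! ### Truncations -/

theorem small_res_of_small_cut {Q : Subgroup G} {z : MonoidAlgebra ℂ G}
    (h : Small M (cut Q z)) : Small M (res (Cen Q) z) := by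
  intro x
  have := h (x : G)
  rw [coeff_cut, if_pos x.2] at this
  rw [coeff_res]
  exact this

theorem small_cut_of_small_res (hM : IsPModular p M) {Q : Subgroup G} {z : MonoidAlgebra ℂ G}
    (h : Small M (res (Cen Q) z)) : Small M (cut Q z) := by
  intro x
  rw [coeff_cut]
  split_ifs with hx
  · exact h ⟨x, hx⟩
  · exact ideal_zero hM

theorem phi_ideal_of_small_cut (hM : IsPModular p M) {Q : Subgroup G} {z : MonoidAlgebra ℂ G}
    (hz : InvBy (Cen Q) z) (h : Small M (cut Q z)) (ξ : IrrCharacter (Cen Q)) :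
    MemLocalIdeal M (phi Q z ξ) :=
  omega_ideal_of_small hM ξ (isCen_res_of_invBy hz) (small_res_of_small_cut h)

theorem not_small_cut_of_phi (hM : IsPModular p M) {Q : Subgroup G} {z : MonoidAlgebra ℂ G}
    (hz : InvBy (Cen Q) z) {ξ : IrrCharacter (Cen Q)}
    (h : MemLocalIdeal M (phi Q z ξ - 1)) : ¬ Small M (cut Q z) := fun hs => by
  refine one_not_ideal hM ?_
  have := ideal_sub hM (phi_ideal_of_small_cut hM hz hs ξ) h
  simpa using this

theorem exists_occ_of_not_small (hM : IsPModular p M) {Q : Subgroup G} (hQ : IsPGroup p Q)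
    {z : MonoidAlgebra ℂ G} (hzQ : InvBy Q z) (hzC : InvBy (Cen Q) z) (hzi : IsInt M z)
    (hzz : z * z = z) (h : ¬ Small M (cut Q z)) :
    ∃ g : Set (IrrCharacter (Cen Q)), IsPBlock M g ∧ Occ M Q g z := by
  obtain ⟨ξ, hξ⟩ : ∃ ξ, ¬ MemLocalIdeal M (phi Q z ξ) := by
    by_contra! hcon
    exact h (small_cut_of_small_res hM (small_res_of_phi hM hQ hzQ hzC hzi hzz hcon))
  refine ⟨blockOf M (ξ : Cen Q → ℂ), isPBlock_blockOf ξ, occ_of_mem hM (isPBlock_blockOf ξ) hzC hzi
    (self_mem_blockOf hM ξ) ?_⟩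
  exact (phi_dichotomy hM hQ hzQ hzC hzi hzz ξ).resolve_left hξ

theorem exists_pairOf_of_not_small (hM : IsPModular p M) {B : Set (IrrCharacter G)}
    (hB : IsPBlock M B) {Q : Subgroup G} (hQ : IsPGroup p Q) (h : ¬ Small M (cut Q (idem B))) :
    ∃ g : Set (IrrCharacter (Cen Q)), IsBrauerPairOf p M B Q g := by
  obtain ⟨g, hg, ho⟩ := exists_occ_of_not_small hM hQ (IsCen.invBy (isCen_idem B) Q)
    (IsCen.invBy (isCen_idem B) _) (isInt_idem hM hB) (idem_sq B) h
  exact ⟨g, isBrauerPairOf_iff.mpr ⟨⟨hQ, hg⟩, hB, ho⟩⟩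

theorem not_small_of_pairOf (hM : IsPModular p M) {B : Set (IrrCharacter G)} {Q : Subgroup G}
    {g : Set (IrrCharacter (Cen Q))} (h : IsBrauerPairOf p M B Q g) :
    ¬ Small M (cut Q (idem B)) := by
  obtain ⟨⟨-, hg⟩, -, ho⟩ := isBrauerPairOf_iff.mp h
  obtain ⟨ξ, hξ⟩ := block_nonempty hM hg
  exact not_small_cut_of_phi hM (IsCen.invBy (isCen_idem B) _) (ho ξ hξ)

theorem conjLe_defect_of_pairOf [Fact p.Prime] (hM : IsPModular p M) {B : Set (IrrCharacter G)}
    {Q D : Subgroup G} {g : Set (IrrCharacter (Cen Q))} (h : IsBrauerPairOf p M B Q g)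
    (hD : IsDefectGroup p M B D) : ConjLe Q D :=
  (not_small_cut_iff hM h.2.1 hD h.1.1).mp (not_small_of_pairOf hM h)

/-- A stable pair whose idempotent survives truncation at `S` lies normally below a pair at `S`. -/
theorem exists_normal_step (hM : IsPModular p M) {Q S : Subgroup G}
    {f : Set (IrrCharacter (Cen Q))} (hQf : IsBrauerPair p M Q f) (hS : IsPGroup p S)
    (hQS : Q ≤ S) (hSN : S ≤ Subgroup.normalizer (Q : Set G)) (hinv : InvBy S (eb (Cen Q) f))
    (h : ¬ Small M (cut S (eb (Cen Q) f))) :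
    ∃ g : Set (IrrCharacter (Cen S)), IsNormalSubpair p M Q f S g := by
  obtain ⟨g, hg, ho⟩ := exists_occ_of_not_small hM hS hinv
    (invBy_mono (centralizer_le hQS) (invBy_eb_self _ f)) (isInt_eb hM hQf.2) (eb_sq _ f) h
  exact ⟨g, isNormalSubpair_iff.mpr ⟨hQf, ⟨hS, hg⟩, hQS, hSN, hinv, ho⟩⟩

theorem not_small_cut_of_normalSubpair (hM : IsPModular p M) {Q S : Subgroup G}
    {f : Set (IrrCharacter (Cen Q))} {g : Set (IrrCharacter (Cen S))}
    (h : IsNormalSubpair p M Q f S g) : ¬ Small M (cut S (eb (Cen Q) f)) := by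
  obtain ⟨-, ⟨-, hg⟩, hQS, -, -, ho⟩ := isNormalSubpair_iff.mp h
  obtain ⟨ξ, hξ⟩ := block_nonempty hM hg
  exact not_small_cut_of_phi hM (invBy_mono (centralizer_le hQS) (invBy_eb_self _ f)) (ho ξ hξ)

end Cfsg.Agent.BrauerPairs81Conj
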