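import Mathlib

/-!
Elements of a group algebra in characteristic `p` killed by reduction modulo a normal
`p`-subgroup are nilpotent.
-/

namespace Cfsg.Agent.BlockTheoryNilp

open scoped MonoidAlgebra

variable {p : ℕ} [Fact p.Prime] {F : Type*} [Field F] [CharP F p] {G : Type*} [Group G] [Finite G]

/-- In a simple module a normal `p`-subgroup acts trivially. -/
theorem smul_eq_self {V : Type*} [AddCommGroup V] [Module (MonoidAlgebra F G) V]
    [IsSimpleModule (MonoidAlgebra F G) V] (P : Subgroup G) [hPn : P.Normal] (hP : IsPGroup p P)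
    (u : P) (v : V) : MonoidAlgebra.single (u : G) (1 : F) • v = v := by
  classical
  let T : G → MonoidAlgebra F G := fun g => MonoidAlgebra.single g 1
  have hTmul : ∀ a b, T a * T b = T (a * b) := fun a b => by
    simp [T, MonoidAlgebra.single_mul_single]
  have hT1 : T 1 = 1 := MonoidAlgebra.one_def.symm
  let W : Submodule (MonoidAlgebra F G) V :=
    { carrier := {w | ∀ u : P, T (u : G) • w = w}
      add_mem' := fun {a b} ha hb u => by rw [smul_add, ha u, hb u]
      zero_mem' := fun u => smul_zero _
      smul_mem' := fun r w hw u => by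
        conv_lhs => rw [← MonoidAlgebra.sum_coeff_single r]
        conv_rhs => rw [← MonoidAlgebra.sum_coeff_single r]
        rw [Finsupp.sum, Finset.sum_smul, Finset.smul_sum]
        refine Finset.sum_congr rfl fun g _ => ?_
        have hs : MonoidAlgebra.single g (r.coeff g) = MonoidAlgebra.single 1 (r.coeff g) * T g := by
          simp [T, MonoidAlgebra.single_mul_single]
        have hc : T (u : G) * MonoidAlgebra.single 1 (r.coeff g) =
            MonoidAlgebra.single 1 (r.coeff g) * T (u : G) := by
          simp [T, MonoidAlgebra.single_mul_single]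
        rw [hs, smul_smul, ← mul_assoc, hc, mul_assoc, hTmul,
          show (u : G) * g = g * ((⟨g⁻¹ * (u : G) * g, by
            simpa using hPn.conj_mem _ u.2 g⁻¹⟩ : P) : G) by simp [mul_assoc],
          ← hTmul, ← mul_assoc, ← smul_smul, hw] }
  suffices hne : W ≠ ⊥ by
    have hW := (eq_bot_or_eq_top W).resolve_left hne
    exact (show v ∈ W from hW ▸ Submodule.mem_top) u
  haveI := IsSimpleModule.nontrivial (MonoidAlgebra F G) V
  obtain ⟨v0, hv0⟩ := exists_ne (0 : V)
  intro hbot
  -- the additive subgroup spanned by the orbit is a nontrivial finite `p`-group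
  have hp0 : ∀ x : V, p • x = 0 := by
    intro x
    haveI : CharP (MonoidAlgebra F G) p :=
      charP_of_injective_algebraMap (FaithfulSMul.algebraMap_injective F (MonoidAlgebra F G)) p
    rw [← Nat.cast_smul_eq_nsmul (MonoidAlgebra F G), CharP.cast_eq_zero, zero_smul]
  let S : AddSubgroup V := AddSubgroup.closure (Set.range fun u : P => T (u : G) • v0)
  haveI hfg : AddGroup.FG S := by
    exact (AddGroup.fg_iff_addSubgroup_fg S).mpr
      ((AddSubgroup.fg_iff S).mpr ⟨_, rfl, Set.finite_range _⟩)
  haveI : Finite S := AddCommGroup.finite_of_fg_torsion S fun x =>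
    isOfFinAddOrder_iff_nsmul_eq_zero.mpr ⟨p, (Fact.out : p.Prime).pos, Subtype.ext (hp0 x)⟩
  have hclosed : ∀ (u : P) (x : V), x ∈ S → T (u : G) • x ∈ S := by
    intro u x hx
    induction hx using AddSubgroup.closure_induction with
    | mem y hy =>
      obtain ⟨w, rfl⟩ := hy
      refine AddSubgroup.subset_closure ⟨u * w, ?_⟩
      simp only [smul_smul, hTmul, Subgroup.coe_mul]
    | zero => rw [smul_zero]; exact S.zero_mem
    | add a b _ _ ha hb => rw [smul_add]; exact S.add_mem ha hb
    | neg a _ ha => rw [smul_neg]; exact S.neg_mem ha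
  letI : MulAction P S :=
    { smul := fun u x => ⟨T (u : G) • (x : V), hclosed u x x.2⟩
      one_smul := fun x => Subtype.ext (by
        show T ((1 : P) : G) • (x : V) = x
        rw [Subgroup.coe_one, hT1, one_smul])
      mul_smul := fun a b x => Subtype.ext (by
        show T ((a * b : P) : G) • (x : V) = T (a : G) • T (b : G) • (x : V)
        rw [smul_smul, hTmul, Subgroup.coe_mul]) }
  have hv0S : v0 ∈ S :=
    AddSubgroup.subset_closure ⟨1, by simp only [Subgroup.coe_one, hT1, one_smul]⟩
  have hord : addOrderOf (⟨v0, hv0S⟩ : S) = p :=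
    addOrderOf_eq_prime (Subtype.ext (hp0 v0)) fun h => hv0 (congrArg Subtype.val h)
  have hdvd : p ∣ Nat.card S := hord ▸ addOrderOf_dvd_natCard _
  obtain ⟨b, hb, hne⟩ := hP.exists_fixed_point_of_prime_dvd_card_of_fixed_point S hdvd
    (a := (0 : S)) (fun u => Subtype.ext (smul_zero _))
  refine hne (Subtype.ext ?_)
  have : (b : V) ∈ W := fun u => congrArg Subtype.val (hb u)
  rw [hbot, Submodule.mem_bot] at this
  exact this.symm

/-- An element whose image in the group algebra of `G ⧸ P` vanishes is nilpotent. -/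
theorem isNilpotent_of_map_eq_zero (P : Subgroup G) [P.Normal] (hP : IsPGroup p P)
    (z : MonoidAlgebra F G)
    (hz : MonoidAlgebra.mapDomainRingHom F (QuotientGroup.mk' P) z = 0) : IsNilpotent z := by
  classical
  haveI := Fintype.ofFinite G
  haveI : IsArtinianRing (MonoidAlgebra F G) := IsArtinianRing.of_finite F _
  obtain ⟨N, hN⟩ := IsArtinianRing.isNilpotent_jacobson_bot (R := MonoidAlgebra F G)
  suffices hmem : z ∈ Ideal.jacobson (⊥ : Ideal (MonoidAlgebra F G)) by
    refine ⟨N, ?_⟩
    have := Ideal.pow_mem_pow hmem N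
    rw [hN] at this
    exact Ideal.mem_bot.mp this
  refine Ideal.mem_sInf.mpr ?_
  rintro m ⟨-, hm⟩
  haveI : IsSimpleModule (MonoidAlgebra F G) (MonoidAlgebra F G ⧸ m) :=
    isSimpleModule_iff_isCoatom.mpr hm.out
  have h0 : z • (Submodule.Quotient.mk (p := m) (1 : MonoidAlgebra F G)) = 0 := by
    set v := Submodule.Quotient.mk (p := m) (1 : MonoidAlgebra F G)
    let q := QuotientGroup.mk' P
    have hg : ∀ g : G, MonoidAlgebra.single g (z.coeff g) • v =
        MonoidAlgebra.single (q g).out (z.coeff g) • v := by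
      intro g
      obtain ⟨u, hu⟩ := QuotientGroup.mk_out_eq_mul P g
      change _ = MonoidAlgebra.single ((QuotientGroup.mk g : G ⧸ P)).out _ • v
      rw [hu, ← mul_one (z.coeff g), ← MonoidAlgebra.single_mul_single, ← smul_smul,
        smul_eq_self P hP u v, mul_one]
    conv_lhs => rw [← MonoidAlgebra.sum_coeff_single z]
    rw [Finsupp.sum, Finset.sum_smul, Finset.sum_congr rfl fun g _ => hg g, ← Finset.sum_smul]
    rw [show ∑ g ∈ z.coeff.support, MonoidAlgebra.single (q g).out (z.coeff g) =
      (0 : MonoidAlgebra F G) from ?_, zero_smul]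
    have h2 := congrArg (MonoidAlgebra.mapDomain (R := F) (Quotient.out : G ⧸ P → G)) hz
    rw [MonoidAlgebra.mapDomain_zero] at h2
    rw [← h2]
    conv_rhs => rw [← MonoidAlgebra.sum_coeff_single z]
    have hsum : ∀ (t : Finset G) (F' : G → MonoidAlgebra F (G ⧸ P)),
        MonoidAlgebra.mapDomain (Quotient.out : G ⧸ P → G) (∑ x ∈ t, F' x) =
          ∑ x ∈ t, MonoidAlgebra.mapDomain (Quotient.out : G ⧸ P → G) (F' x) := by
      intro t F'
      induction t using Finset.induction with
      | empty => simp
      | insert a t ha ih => rw [Finset.sum_insert ha, Finset.sum_insert ha,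
          MonoidAlgebra.mapDomain_add, ih]
    simp [Finsupp.sum, hsum, q]
  have : Submodule.Quotient.mk (p := m) z = 0 := by
    rw [← h0, ← Submodule.Quotient.mk_smul, smul_eq_mul, mul_one]
  exact (Submodule.Quotient.mk_eq_zero m).mp this

end Cfsg.Agent.BlockTheoryNilp
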