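import Cfsg.Agent.Lib.BlockTheoryIdem
import Cfsg.Agent.Lib.BlockTheoryNilp

/-!
The Brauer map, induced blocks and Brauer's second main theorem.
-/

namespace Cfsg.Agent.BlockTheoryBrauer

open Cfsg Cfsg.Agent.BlockTheoryLocalRing Cfsg.Agent.BlockTheoryRotation
open Cfsg.Agent.BlockTheoryCentre Cfsg.Agent.BlockTheoryIdem
open scoped ComplexConjugate

attribute [local instance] Classical.propDecidable

variable {p : ℕ} {M : Ideal AlgInt} {G : Type*} [Group G] [Fintype G]

/-- All coefficients lie in the local ideal. -/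
def Small (M : Ideal AlgInt) (z : MonoidAlgebra ℂ G) : Prop :=
  ∀ x, MemLocalIdeal M (z.coeff x)

section SmallAPI

variable (hM : IsPModular p M) {z w : MonoidAlgebra ℂ G}
include hM

theorem small_zero : Small M (0 : MonoidAlgebra ℂ G) :=
  fun x => by simpa using ideal_zero hM

theorem small_add (hz : Small M z) (hw : Small M w) : Small M (z + w) :=
  fun x => by simpa using ideal_add hM (hz x) (hw x)

theorem small_sub (hz : Small M z) (hw : Small M w) : Small M (z - w) :=
  fun x => by simpa using ideal_sub hM (hz x) (hw x)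

theorem small_mul_left (hz : IsInt M z) (hw : Small M w) : Small M (z * w) := by
  intro x
  rw [coeff_mul_eq]
  exact ideal_sum hM fun y _ => ideal_mul_left hM (hz y) (hw _)

theorem small_mul_right (hz : Small M z) (hw : IsInt M w) : Small M (z * w) := by
  intro x
  rw [coeff_mul_eq]
  exact ideal_sum hM fun y _ => ideal_mul_right hM (hz y) (hw _)

theorem small_trans {a b c : MonoidAlgebra ℂ G} (h₁ : Small M (a - b)) (h₂ : Small M (b - c)) :
    Small M (a - c) :=
  sub_add_sub_cancel a b c ▸ small_add hM h₁ h₂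

theorem small_symm {a b : MonoidAlgebra ℂ G} (h : Small M (a - b)) : Small M (b - a) := by
  intro x
  have := ideal_neg (h x)
  simpa using this

theorem small_mul_sub {a b c d : MonoidAlgebra ℂ G} (h₁ : Small M (a - b)) (h₂ : Small M (c - d))
    (hc : IsInt M c) (hb : IsInt M b) : Small M (a * c - b * d) := by
  have e : a * c - b * d = (a - b) * c + b * (c - d) := by rw [sub_mul, mul_sub]; abel
  rw [e]
  exact small_add hM (small_mul_right hM h₁ hc) (small_mul_left hM hb h₂)

theorem isInt_pow (hz : IsInt M z) : ∀ n, IsInt M (z ^ n)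
  | 0 => by rw [pow_zero]; exact isInt_one hM
  | n + 1 => by rw [pow_succ]; exact IsInt.mul hM (isInt_pow hz n) hz

theorem small_pow_sub {a b : MonoidAlgebra ℂ G} (h : Small M (a - b)) (ha : IsInt M a)
    (hb : IsInt M b) : ∀ n, Small M (a ^ n - b ^ n)
  | 0 => by simpa using small_zero hM
  | n + 1 => by
    rw [pow_succ, pow_succ]
    exact small_mul_sub hM (small_pow_sub h ha hb n) h ha (isInt_pow hM hb n)

/-- An element that is idempotent and nilpotent modulo the ideal is small. -/
theorem small_of_idem_of_pow (hz : IsInt M z) (h : Small M (z * z - z)) {N : ℕ} (hN : N ≠ 0)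
    (hs : Small M (z ^ N)) : Small M z := by
  have key : ∀ n, Small M (z ^ (n + 1) - z) := by
    intro n
    induction n with
    | zero => simpa using small_zero hM
    | succ n ih =>
      refine small_trans hM (b := z * z) ?_ h
      rw [pow_succ]
      exact small_mul_sub hM ih (by simpa using small_zero hM) hz hz
  obtain ⟨n, rfl⟩ := Nat.exists_eq_succ_of_ne_zero hN
  have := small_sub hM hs (key n)
  simpa using this

end SmallAPI

theorem IsCen.pow {z : MonoidAlgebra ℂ G} (hz : IsCen z) : ∀ n, IsCen (z ^ n)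
  | 0 => by rw [pow_zero]; exact isCen_one
  | n + 1 => by rw [pow_succ]; exact BlockTheoryCentre.IsCen.mul (IsCen.pow hz n) hz

theorem omega_pow (χ : IrrCharacter G) {z : MonoidAlgebra ℂ G} (hz : IsCen z) :
    ∀ n, omega (χ : G → ℂ) (z ^ n) = omega (χ : G → ℂ) z ^ n
  | 0 => by rw [pow_zero, pow_zero, omega_one]
  | n + 1 => by rw [pow_succ', pow_succ', omega_mul χ hz, omega_pow χ hz n]

/-- Central characters of small central elements lie in the ideal. -/
theorem omega_ideal_of_small (hM : IsPModular p M) (χ : IrrCharacter G) {z : MonoidAlgebra ℂ G}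
    (hz : IsCen z) (hs : Small M z) : MemLocalIdeal M (omega (χ : G → ℂ) z) := by
  rw [hz.eq_sum_classSum, map_sum]
  refine ideal_sum hM fun C _ => ?_
  rw [map_smul, smul_eq_mul, omega_classSum (irr_classFun χ)]
  exact ideal_mul_right hM (hs _) (of_isIntegral hM (isIntegral_centralChar χ _))

theorem ideal_of_pow_ideal (hM : IsPModular p M) {x : ℂ} (hx : MemLocalRing M x) :
    ∀ {n : ℕ}, MemLocalIdeal M (x ^ n) → MemLocalIdeal M x
  | 0, h => absurd (by simpa using h) (one_not_ideal hM)
  | n + 1, h => by
    by_contra hne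
    refine hne (ideal_of_pow_ideal hM hx (n := n) ?_)
    by_contra hn
    exact not_ideal_mul hM ((localRing hM).pow_mem hx n) hx hn hne (pow_succ x n ▸ h)

/-- A central element all of whose central characters lie in the ideal is nilpotent modulo it. -/
theorem exists_small_pow (hM : IsPModular p M) {z : MonoidAlgebra ℂ G} (hz : IsCen z)
    (hzi : IsInt M z) (h : ∀ χ : IrrCharacter G, MemLocalIdeal M (omega (χ : G → ℂ) z)) :
    ∃ N, Small M (z ^ N) := by
  suffices key : ∀ S : Finset (IrrCharacter G), ∃ Y, IsCen Y ∧ IsInt M Y ∧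
      (∀ χ ∈ S, omega (χ : G → ℂ) Y = 0) ∧ Small M (Y - z ^ S.card) by
    obtain ⟨Y, hc, -, h0, hs⟩ := key Finset.univ
    refine ⟨(Finset.univ : Finset (IrrCharacter G)).card, ?_⟩
    rw [show Y = 0 from ext_omega hc isCen_zero fun χ => by
      rw [h0 χ (Finset.mem_univ _), map_zero]] at hs
    simpa using small_symm hM hs
  intro S
  induction S using Finset.induction with
  | empty => exact ⟨1, isCen_one, isInt_one hM, by simp, by simpa using small_zero hM⟩
  | @insert χ S hχS ih =>
    obtain ⟨Y, hc, hi, h0, hs⟩ := ih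
    set c := omega (χ : G → ℂ) z with hcdef
    have hwc : IsCen (z - c • 1) := hz.sub (isCen_one.smul c)
    have hwi : IsInt M (z - c • 1) :=
      IsInt.sub hM hzi (IsInt.smul hM (ideal_le_ring (h χ)) (isInt_one hM))
    refine ⟨Y * (z - c • 1), hc.mul hwc, IsInt.mul hM hi hwi, fun ξ hξ => ?_, ?_⟩
    · rw [omega_mul ξ hc]
      rcases Finset.mem_insert.mp hξ with rfl | hξ
      · rw [map_sub, map_smul, omega_one, smul_eq_mul, mul_one, ← hcdef, sub_self, mul_zero]
      · rw [h0 ξ hξ, zero_mul]
    · rw [Finset.card_insert_of_notMem hχS, pow_succ]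
      refine small_mul_sub hM hs (fun x => ?_) hwi (isInt_pow hM hzi _)
      have := ideal_neg (ideal_mul_right hM (h χ) (isInt_one hM (G := G) x))
      simpa [← hcdef] using this

section FixedPoints

/-- A sum of an invariant function over a `p`-group action is congruent to the sum over the fixed
points. -/
theorem ideal_sum_nonfixed (hM : IsPModular p M) {P X : Type*} [Group P] (hP : IsPGroup p P)
    [Fintype X] [MulAction P X] (f : X → ℂ) (hf : ∀ x, MemLocalRing M (f x))
    (hinv : ∀ (u : P) x, f (u • x) = f x) :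
    MemLocalIdeal M (∑ x ∈ Finset.univ.filter (· ∉ MulAction.fixedPoints P X), f x) := by
  haveI : Fact p.Prime := ⟨hM.1⟩
  set S := Finset.univ.filter (· ∉ MulAction.fixedPoints P X)
  rw [← Finset.sum_fiberwise_of_maps_to (s := S) (t := S.image (MulAction.orbit P))
    (g := MulAction.orbit P) (fun x hx => Finset.mem_image_of_mem _ hx) f]
  refine ideal_sum hM fun o ho => ?_
  obtain ⟨x, hx, rfl⟩ := Finset.mem_image.mp ho
  have hxnf : x ∉ MulAction.fixedPoints P X := (Finset.mem_filter.mp hx).2
  have hfib : S.filter (fun y => MulAction.orbit P y = MulAction.orbit P x) =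
      (MulAction.orbit P x).toFinset := by
    ext y
    simp only [Finset.mem_filter, Set.mem_toFinset]
    refine ⟨fun h => h.2 ▸ MulAction.mem_orbit_self y, fun h => ?_⟩
    refine ⟨Finset.mem_filter.mpr ⟨Finset.mem_univ _, fun hy => hxnf ?_⟩,
      MulAction.orbit_eq_iff.mpr h⟩
    obtain ⟨u, rfl⟩ := h
    intro w
    have h1 := hy (u * (u⁻¹ * w * u))
    have h2 := hy u
    have h3 : (u * (u⁻¹ * w * u)) • x = u • x := by
      have h4 := hy (u * (u⁻¹ * w * u) * u⁻¹)
      simpa [smul_smul, mul_assoc] using h4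
    rw [mul_smul, smul_left_cancel_iff] at h3
    have h5 : (u⁻¹ * w * u) • x = x := h3
    have h6 : w • u • x = u • x := hy w
    have h7 : u⁻¹ • u • x = u • x := hy u⁻¹
    rw [inv_smul_smul] at h7
    rwa [← h7] at h6
  rw [hfib, Finset.sum_congr rfl (g := fun _ => f x) fun y hy => ?_, Finset.sum_const,
    nsmul_eq_mul]
  · obtain ⟨j, hj⟩ := hP.card_orbit x
    refine ideal_mul_right hM ?_ (hf x)
    rw [Set.toFinset_card, ← Nat.card_eq_fintype_card, hj, natCast_mem_iff hM]
    refine dvd_pow_self p ?_
    rintro rfl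
    refine hxnf (MulAction.mem_fixedPoints'.mpr fun y hy => ?_)
    have := (Nat.card_eq_one_iff_unique.mp (hj.trans (pow_zero p))).1
    exact congrArg Subtype.val
      (this.elim ⟨y, hy⟩ ⟨x, MulAction.mem_orbit_self x⟩)
  · obtain ⟨u, rfl⟩ := Set.mem_toFinset.mp hy
    exact hinv u x

/-- Conjugation version. -/
theorem ideal_sum_conj (hM : IsPModular p M) (P : Subgroup G) (hP : IsPGroup p P) (f : G → ℂ)
    (hf : ∀ x, MemLocalRing M (f x)) (hinv : ∀ u ∈ P, ∀ x, f (u * x * u⁻¹) = f x) :
    MemLocalIdeal M (∑ x : G, if x ∈ Subgroup.centralizer (P : Set G) then 0 else f x) := by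
  let Q : Subgroup (ConjAct G) := P.map ConjAct.toConjAct.toMonoidHom
  have := ideal_sum_nonfixed hM (P := Q) (X := G) (hP.map _) f hf ?_
  · rw [Finset.sum_filter] at this
    convert this using 1
    refine Finset.sum_congr rfl fun x _ => ?_
    have hiff : x ∈ MulAction.fixedPoints Q G ↔ x ∈ Subgroup.centralizer (P : Set G) := by
      constructor
      · intro h
        refine Subgroup.mem_centralizer_iff.mpr fun u hu => ?_
        have := h ⟨ConjAct.toConjAct u, Subgroup.mem_map_of_mem _ hu⟩
        rw [Subgroup.smul_def, ConjAct.smul_def, ConjAct.ofConjAct_toConjAct,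
          mul_inv_eq_iff_eq_mul] at this
        exact this
      · rintro h ⟨q, hq⟩
        obtain ⟨u, hu, rfl⟩ := Subgroup.mem_map.mp hq
        rw [Subgroup.smul_def, ConjAct.smul_def]
        change u * x * u⁻¹ = x
        rw [Subgroup.mem_centralizer_iff.mp h u hu, mul_inv_cancel_right]
    by_cases hx : x ∈ Subgroup.centralizer (P : Set G)
    · rw [if_pos hx, if_neg (not_not_intro (hiff.mpr hx))]
    · rw [if_neg hx, if_pos (fun h => hx (hiff.mp h))]
  · rintro ⟨q, hq⟩ x
    obtain ⟨u, hu, rfl⟩ := Subgroup.mem_map.mp hq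
    rw [Subgroup.smul_def, ConjAct.smul_def]
    exact hinv u hu x

end FixedPoints

/-- Keep only the coefficients on the centralizer of `P`. -/
noncomputable def cut (P : Subgroup G) : MonoidAlgebra ℂ G →ₗ[ℂ] MonoidAlgebra ℂ G where
  toFun z := ofFun fun x => if x ∈ Subgroup.centralizer (P : Set G) then z.coeff x else 0
  map_add' z w := by refine MonoidAlgebra.ext ?_; ext x; simp; split_ifs <;> simp
  map_smul' c z := by refine MonoidAlgebra.ext ?_; ext x; simp

theorem coeff_cut (P : Subgroup G) (z : MonoidAlgebra ℂ G) (x : G) :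
    (cut P z).coeff x = if x ∈ Subgroup.centralizer (P : Set G) then z.coeff x else 0 := rfl

theorem isInt_cut (hM : IsPModular p M) (P : Subgroup G) {z : MonoidAlgebra ℂ G}
    (hz : IsInt M z) : IsInt M (cut P z) := by
  intro x
  rw [coeff_cut]
  split_ifs
  exacts [hz x, (localRing hM).zero_mem]

/-- The Brauer map is multiplicative modulo the ideal. -/
theorem cut_mul (hM : IsPModular p M) (P : Subgroup G) (hP : IsPGroup p P)
    {z w : MonoidAlgebra ℂ G} (hz : IsCen z) (hw : IsCen w) (hzi : IsInt M z) (hwi : IsInt M w) :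
    Small M (cut P (z * w) - cut P z * cut P w) := by
  intro x
  rw [MonoidAlgebra.coeff_sub, Finsupp.coe_sub, Pi.sub_apply, coeff_cut, coeff_mul_eq,
    coeff_mul_eq]
  simp only [coeff_cut]
  by_cases hx : x ∈ Subgroup.centralizer (P : Set G)
  · rw [if_pos hx, ← Finset.sum_sub_distrib]
    have := ideal_sum_conj hM P hP (fun y => z.coeff y * w.coeff (y⁻¹ * x))
      (fun y => (localRing hM).mul_mem (hzi y) (hwi _)) fun u hu y => ?_
    · convert this using 1
      refine Finset.sum_congr rfl fun y _ => ?_
      by_cases hy : y ∈ Subgroup.centralizer (P : Set G)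
      · rw [if_pos hy, if_pos hy, if_pos (mul_mem (inv_mem hy) hx), sub_self]
      · rw [if_neg hy, if_neg hy, zero_mul, sub_zero]
    · have e : (u * y * u⁻¹)⁻¹ * x = u * (y⁻¹ * x) * u⁻¹ := by
        have hux : u⁻¹ * x = x * u⁻¹ :=
          Subgroup.mem_centralizer_iff.mp hx u⁻¹ (inv_mem hu)
        simp only [mul_inv_rev, inv_inv, mul_assoc, hux]
      rw [e]
      exact congrArg₂ (· * ·) (hz y u) (hw (y⁻¹ * x) u)
  · rw [if_neg hx, zero_sub, Finset.sum_eq_zero, neg_zero]
    · exact ideal_zero hM
    · intro y _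
      by_cases hy : y ∈ Subgroup.centralizer (P : Set G)
      · rw [if_pos hy, if_neg fun h => hx (by simpa using mul_mem hy h), mul_zero]
      · rw [if_neg hy, zero_mul]

theorem cut_one (P : Subgroup G) : cut P (1 : MonoidAlgebra ℂ G) = 1 := by
  refine MonoidAlgebra.ext ?_
  ext x
  rw [coeff_cut, MonoidAlgebra.one_def, MonoidAlgebra.coeff_single, Finsupp.single_apply]
  by_cases h2 : (1 : G) = x
  · subst h2
    rw [if_pos (Subgroup.centralizer (P : Set G)).one_mem, if_pos rfl]
  · rw [if_neg h2]; split_ifs <;> rfl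

theorem cut_pow (hM : IsPModular p M) (P : Subgroup G) (hP : IsPGroup p P)
    {z : MonoidAlgebra ℂ G} (hz : IsCen z) (hzi : IsInt M z) :
    ∀ n, Small M (cut P (z ^ n) - cut P z ^ n)
  | 0 => by rw [pow_zero, pow_zero, cut_one, sub_self]; exact small_zero hM
  | n + 1 => by
    rw [pow_succ, pow_succ]
    refine small_trans hM (cut_mul hM P hP (IsCen.pow hz n) hz (isInt_pow hM hzi n) hzi) ?_
    exact small_mul_sub hM (cut_pow hM P hP hz hzi n) (by simpa using small_zero hM)
      (isInt_cut hM P hzi) (isInt_pow hM (isInt_cut hM P hzi) n)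

section Subgroups

variable (H : Subgroup G)

/-- Restriction of coefficients to a subgroup. -/
noncomputable def res [Fintype H] : MonoidAlgebra ℂ G →ₗ[ℂ] MonoidAlgebra ℂ H where
  toFun z := ofFun fun h => z.coeff h
  map_add' z w := by refine MonoidAlgebra.ext ?_; ext x; simp
  map_smul' c z := by refine MonoidAlgebra.ext ?_; ext x; simp

/-- Inclusion of the group algebra of a subgroup. -/
noncomputable def incl : MonoidAlgebra ℂ H →+* MonoidAlgebra ℂ G :=
  MonoidAlgebra.mapDomainRingHom ℂ H.subtype

theorem coeff_incl_coe (y : MonoidAlgebra ℂ H) (h : H) : (incl H y).coeff h = y.coeff h :=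
  Finsupp.mapDomain_apply Subtype.val_injective _ h

theorem coeff_incl_of_notMem (y : MonoidAlgebra ℂ H) {x : G} (hx : x ∉ H) :
    (incl H y).coeff x = 0 :=
  Finsupp.mapDomain_notin_range _ x fun ⟨h, hh⟩ => hx (hh ▸ h.2)

theorem isInt_incl (hM : IsPModular p M) {y : MonoidAlgebra ℂ H} (hy : IsInt M y) :
    IsInt M (incl H y) := by
  intro x
  by_cases hx : x ∈ H
  · rw [show x = ((⟨x, hx⟩ : H) : G) from rfl, coeff_incl_coe]; exact hy _
  · rw [coeff_incl_of_notMem H y hx]; exact (localRing hM).zero_mem

variable [Fintype H]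

@[simp] theorem coeff_res (z : MonoidAlgebra ℂ G) (h : H) : (res H z).coeff h = z.coeff h := rfl

theorem res_mul_of_supported {z : MonoidAlgebra ℂ G} (hz : ∀ x ∉ H, z.coeff x = 0)
    (w : MonoidAlgebra ℂ G) : res H (z * w) = res H z * res H w := by
  refine MonoidAlgebra.ext ?_
  ext h
  rw [coeff_res, coeff_mul_eq, coeff_mul_eq]
  refine (Fintype.sum_of_injective (fun y : H => (y : G)) Subtype.val_injective _ _ ?_ ?_).symm
  · intro y hy
    rw [hz y (by simpa using hy), zero_mul]
  · intro y
    simp

theorem res_mul_incl (w : MonoidAlgebra ℂ G) (y : MonoidAlgebra ℂ H) :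
    res H (w * incl H y) = res H w * y := by
  refine MonoidAlgebra.ext ?_
  ext h
  rw [coeff_res, coeff_mul_eq, coeff_mul_eq]
  refine (Fintype.sum_of_injective (fun d : H => (d : G)) Subtype.val_injective _ _ ?_ ?_).symm
  · intro d hd
    rw [coeff_incl_of_notMem H y, mul_zero]
    intro hdh
    refine absurd (?_ : d ∈ H) (by simpa using hd)
    have := H.mul_mem h.2 (H.inv_mem hdh)
    simpa using this
  · intro d
    rw [coeff_res, show ((d : G))⁻¹ * (h : G) = ((d⁻¹ * h : H) : G) from rfl, coeff_incl_coe]

theorem isCen_res {z : MonoidAlgebra ℂ G} (hz : IsCen z) : IsCen (res H z) :=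
  fun g h => hz (g : G) (h : G)

theorem isInt_res {z : MonoidAlgebra ℂ G} (hz : IsInt M z) : IsInt M (res H z) :=
  fun h => hz h

theorem omega_eq_finsum (ξ : H → ℂ) (z : MonoidAlgebra ℂ H) :
    omega ξ z = ∑ h : H, z.coeff h * (ξ h / ξ 1) := by
  rw [omega_apply, chiSum_apply, Finset.mul_sum]
  exact Finset.sum_congr rfl fun h _ => by ring

theorem omega_res_classSum (ξ : H → ℂ) (g : G) :
    omega ξ (res H (classSum g)) = inducedCentralChar H ξ g := by
  rw [omega_eq_finsum, inducedCentralChar, ← finsum_eq_sum_of_fintype]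
  refine finsum_congr fun h => ?_
  rw [finsum_eq_if, coeff_res, classSum, coeff_ofFun]
  by_cases hc : IsConj g (h : G)
  · rw [if_pos hc, one_mul, if_pos (show h ∈ {h : H | IsConj g (h : G)} from hc)]
  · rw [if_neg hc, zero_mul, if_neg (show h ∉ {h : H | IsConj g (h : G)} from hc)]

theorem omega_br_classSum (P : Subgroup G) (ξ : H → ℂ) (g : G) :
    omega ξ (res H (cut P (classSum g))) = brauerCentralChar P H ξ g := by
  rw [omega_eq_finsum, brauerCentralChar, ← finsum_eq_sum_of_fintype]
  refine finsum_congr fun h => ?_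
  rw [finsum_eq_if, coeff_res, coeff_cut, classSum, coeff_ofFun]
  simp only [Set.mem_setOf_eq]
  by_cases hc : IsConj g (h : G) <;>
    by_cases hh : (h : G) ∈ Subgroup.centralizer (P : Set G) <;> simp only [hc, hh] <;> simp

omit [Fintype G] [Fintype H] in
theorem conj_mem_centralizer {P : Subgroup G} {u : G} (hu : u ∈ Subgroup.normalizer (P : Set G))
    {x : G} (hx : x ∈ Subgroup.centralizer (P : Set G)) :
    u * x * u⁻¹ ∈ Subgroup.centralizer (P : Set G) := by
  rw [Subgroup.mem_centralizer_iff] at hx ⊢
  intro w hw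
  have h1 : u⁻¹ * w * u ∈ P := by
    have := (Subgroup.mem_normalizer_iff.mp hu (u⁻¹ * w * u)).mpr
    exact this (by simpa [mul_assoc] using hw)
  have h2 := hx _ h1
  calc w * (u * x * u⁻¹) = u * ((u⁻¹ * w * u) * x) * u⁻¹ := by group
    _ = u * (x * (u⁻¹ * w * u)) * u⁻¹ := by rw [h2]
    _ = u * x * u⁻¹ * w := by group

theorem isCen_br {P : Subgroup G} (hH : H ≤ Subgroup.normalizer (P : Set G))
    {z : MonoidAlgebra ℂ G} (hz : IsCen z) : IsCen (res H (cut P z)) := by
  intro g h
  simp only [coeff_res, coeff_cut, Subgroup.coe_mul, Subgroup.coe_inv]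
  have e : z.coeff ((h : G) * (g : G) * (h : G)⁻¹) = z.coeff (g : G) := hz (g : G) (h : G)
  rw [e]
  refine if_congr ⟨fun h' => ?_, conj_mem_centralizer (hH h.2)⟩ rfl rfl
  have := conj_mem_centralizer (inv_mem (hH h.2)) h'
  simpa [mul_assoc] using this

/-- The map to a local subgroup is multiplicative modulo the ideal. -/
theorem br_mul (hM : IsPModular p M) {P : Subgroup G} (hP : IsPGroup p P)
    (hCH : Subgroup.centralizer (P : Set G) ≤ H) {z w : MonoidAlgebra ℂ G} (hz : IsCen z)
    (hw : IsCen w) (hzi : IsInt M z) (hwi : IsInt M w) :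
    Small M (res H (cut P (z * w)) - res H (cut P z) * res H (cut P w)) := by
  intro h
  have := cut_mul hM P hP hz hw hzi hwi (h : G)
  rw [← res_mul_of_supported H (fun x hx => by
    rw [coeff_cut, if_neg fun h' => hx (hCH h')])]
  simpa using this

end Subgroups

/-- Class sums avoiding the centralizer of a normal `p`-subgroup are nilpotent modulo the ideal,
so their central characters lie in the ideal. -/
theorem omega_classSum_ideal (hM : IsPModular p M) (P : Subgroup G) [hPn : P.Normal]
    (hP : IsPGroup p P) (g : G) (hg : g ∉ Subgroup.centralizer (P : Set G))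
    (χ : IrrCharacter G) : MemLocalIdeal M (omega (χ : G → ℂ) (classSum g)) := by
  haveI : Fact p.Prime := ⟨hM.1⟩
  let X : MonoidAlgebra ℤ G :=
    ∑ x ∈ Finset.univ.filter (IsConj g), MonoidAlgebra.single x (1 : ℤ)
  have hXC : MonoidAlgebra.mapRingHom G (Int.castRingHom ℂ) X = classSum g := by
    refine MonoidAlgebra.ext ?_
    ext a
    simp only [X, map_sum, MonoidAlgebra.mapRingHom_single, map_one, classSum, coeff_ofFun,
      MonoidAlgebra.coeff_sum, Finset.sum_apply', MonoidAlgebra.coeff_single,
      Finsupp.single_apply, Finset.sum_ite_eq', Finset.mem_filter, Finset.mem_univ, true_and]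
  let Xp := MonoidAlgebra.mapRingHom G (Int.castRingHom (ZMod p)) X
  have hmap : MonoidAlgebra.mapDomainRingHom (ZMod p) (QuotientGroup.mk' P) Xp = 0 := by
    refine MonoidAlgebra.ext ?_
    ext q
    simp only [Xp, X, map_sum, MonoidAlgebra.mapRingHom_single, map_one,
      MonoidAlgebra.mapDomainRingHom_apply, MonoidAlgebra.mapDomain_single,
      MonoidAlgebra.coeff_sum, Finset.sum_apply', MonoidAlgebra.coeff_single,
      Finsupp.single_apply, MonoidAlgebra.coeff_zero, Finsupp.coe_zero, Pi.zero_apply]
    rw [← Finset.sum_filter, Finset.sum_const, nsmul_one, ZMod.natCast_eq_zero_iff]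
    -- the class meets the coset in a `P`-invariant set without fixed points
    have h := ideal_sum_conj hM P hP
      (fun x => if IsConj g x ∧ (QuotientGroup.mk' P x) = q then 1 else 0)
      (fun x => by split_ifs; exacts [(localRing hM).one_mem, (localRing hM).zero_mem])
      (fun u hu x => by
        have h1 : IsConj x (u * x * u⁻¹) := isConj_iff.mpr ⟨u, rfl⟩
        have h2 : QuotientGroup.mk' P (u * x * u⁻¹) = QuotientGroup.mk' P x := by
          have : QuotientGroup.mk' P u = 1 := (QuotientGroup.eq_one_iff u).mpr hu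
          rw [map_mul, map_mul, map_inv, this]; simp
        rw [h2]
        refine if_congr (and_congr_left' ⟨fun h => h.trans h1.symm, fun h => h.trans h1⟩) rfl rfl)
    rw [← natCast_mem_iff hM]
    convert h using 1
    rw [Finset.filter_filter, ← Finset.sum_boole]
    refine Finset.sum_congr rfl fun x _ => ?_
    by_cases hx : IsConj g x ∧ QuotientGroup.mk' P x = q
    · rw [if_pos hx, if_neg fun hc => hg ?_]
      obtain ⟨c, rfl⟩ := isConj_iff.mp hx.1
      have hN : c⁻¹ ∈ Subgroup.normalizer (P : Set G) := by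
        rw [Subgroup.normalizer_eq_top]; trivial
      simpa [mul_assoc] using conj_mem_centralizer hN hc
    · rw [if_neg hx]; simp
  obtain ⟨N, hN⟩ := BlockTheoryNilp.isNilpotent_of_map_eq_zero P hP Xp hmap
  refine ideal_of_pow_ideal hM (omega_mem_localRing hM χ (isCen_classSum g) (isInt_classSum hM g))
    (n := N) ?_
  rw [← omega_pow χ (isCen_classSum g)]
  refine omega_ideal_of_small hM χ (IsCen.pow (isCen_classSum g) N) fun x => ?_
  rw [← hXC, ← map_pow, MonoidAlgebra.coeff_mapRingHom]
  have h0 := congrArg (fun t : MonoidAlgebra (ZMod p) G => t.coeff x) hN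
  rw [← map_pow] at h0
  simp only [MonoidAlgebra.coeff_mapRingHom, MonoidAlgebra.coeff_zero, Finsupp.coe_zero,
    Pi.zero_apply, eq_intCast, ZMod.intCast_zmod_eq_zero_iff_dvd] at h0
  obtain ⟨k, hk⟩ := h0
  rw [eq_intCast, hk, Int.cast_mul, Int.cast_natCast]
  exact ideal_mul_right hM (natCast_p_mem hM) (intCast_mem (localRing hM) k)

/-- Central elements vanishing on the centralizer of a normal `p`-subgroup have central
characters in the ideal. -/
theorem omega_ideal_of_vanish (hM : IsPModular p M) (P : Subgroup G) [P.Normal]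
    (hP : IsPGroup p P) {z : MonoidAlgebra ℂ G} (hz : IsCen z) (hzi : IsInt M z)
    (h0 : ∀ x ∈ Subgroup.centralizer (P : Set G), z.coeff x = 0) (χ : IrrCharacter G) :
    MemLocalIdeal M (omega (χ : G → ℂ) z) := by
  rw [hz.eq_sum_classSum, map_sum]
  refine ideal_sum hM fun C _ => ?_
  rw [map_smul, smul_eq_mul]
  by_cases hC : C.out ∈ Subgroup.centralizer (P : Set G)
  · rw [h0 _ hC, zero_mul]; exact ideal_zero hM
  · exact ideal_mul_left hM (hzi _) (omega_classSum_ideal hM P hP _ hC χ)

/-- A multiplicative functional modulo the ideal on the centre is the central character of a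
block. -/
theorem exists_block_of_hom (hM : IsPModular p M) (φ : MonoidAlgebra ℂ G →ₗ[ℂ] ℂ)
    (hmem : ∀ z, IsCen z → IsInt M z → MemLocalRing M (φ z))
    (hmul : ∀ z w, IsCen z → IsCen w → IsInt M z → IsInt M w →
      MemLocalIdeal M (φ (z * w) - φ z * φ w))
    (hone : MemLocalIdeal M (φ 1 - 1)) :
    ∃ B : Set (IrrCharacter G), IsPBlock M B ∧ ∀ χ ∈ B, ∀ z, IsCen z → IsInt M z →
      MemLocalIdeal M (φ z - omega (χ : G → ℂ) z) := by
  have hsmall : ∀ z, IsCen z → Small M z → MemLocalIdeal M (φ z) := by
    intro z hz hs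
    rw [hz.eq_sum_classSum, map_sum]
    refine ideal_sum hM fun C _ => ?_
    rw [map_smul, smul_eq_mul]
    exact ideal_mul_right hM (hs _) (hmem _ (isCen_classSum _) (isInt_classSum hM _))
  obtain ⟨B, hB, hne⟩ : ∃ B, IsPBlock M B ∧ ¬ MemLocalIdeal M (φ (idem B)) := by
    by_contra! hcon
    have key : ∀ A : Finset (IrrCharacter G),
        (∀ χ ∈ A, blockOf M (χ : G → ℂ) ⊆ ↑A) → MemLocalIdeal M (φ (idem ↑A)) := by
      intro A
      induction A using Finset.strongInduction with
      | _ A ih =>
        intro hA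
        rcases A.eq_empty_or_nonempty with rfl | ⟨χ, hχ⟩
        · rw [Finset.coe_empty, idem_empty, map_zero]; exact ideal_zero hM
        set A' := A.filter fun ψ => ψ ∉ blockOf M (χ : G → ℂ) with hA'
        have hsub : A' ⊂ A := Finset.filter_ssubset.mpr
          ⟨χ, hχ, not_not_intro (self_mem_blockOf hM χ)⟩
        have hunion : (↑A : Set (IrrCharacter G)) = blockOf M (χ : G → ℂ) ∪ ↑A' := by
          ext ψ
          simp only [hA', Set.mem_union, Finset.coe_filter, Set.mem_setOf_eq, Finset.mem_coe]
          constructor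
          · intro h; tauto
          · rintro (h | h)
            exacts [hA χ hχ h, h.1]
        rw [hunion, idem_union_of_disjoint, map_add]
        · refine ideal_add hM (hcon _ (isPBlock_blockOf χ)) (ih A' hsub fun ψ hψ ξ hξ => ?_)
          simp only [hA', Finset.mem_filter] at hψ
          simp only [hA', Finset.coe_filter, Set.mem_setOf_eq]
          exact ⟨hA ψ hψ.1 hξ, fun h => hψ.2 (sameBlock_trans hM h (sameBlock_symm hξ))⟩
        · rw [Set.disjoint_left]
          intro ψ h1 h2
          simp only [hA', Finset.coe_filter, Set.mem_setOf_eq] at h2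
          exact h2.2 h1
    have h1 := key Finset.univ (by simp)
    rw [Finset.coe_univ, idem_univ] at h1
    refine one_not_ideal hM ?_
    have := ideal_sub hM h1 hone
    simpa using this
  refine ⟨B, hB, fun χ hχ z hz hzi => ?_⟩
  have hBi := isInt_idem hM hB
  set c := omega (χ : G → ℂ) z with hc
  have hcR : MemLocalRing M c := omega_mem_localRing hM χ hz hzi
  have hwc : IsCen (z - c • 1) := hz.sub (isCen_one.smul c)
  have hwi : IsInt M (z - c • 1) := IsInt.sub hM hzi (IsInt.smul hM hcR (isInt_one hM))
  have hyc := hwc.mul (isCen_idem B)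
  have hyi := IsInt.mul hM hwi hBi
  have hall : ∀ ψ : IrrCharacter G,
      MemLocalIdeal M (omega (ψ : G → ℂ) ((z - c • 1) * idem B)) := by
    intro ψ
    rw [omega_mul ψ hwc, omega_idem]
    split_ifs with hψ
    · rw [mul_one, map_sub, map_smul, omega_one, smul_eq_mul, mul_one]
      exact omega_sub_mem hM (sameBlock_of_mem hM hB hψ hχ) hz hzi
    · rw [mul_zero]; exact ideal_zero hM
  obtain ⟨N, hN⟩ := exists_small_pow hM hyc hyi hall
  have hpow : ∀ n, MemLocalIdeal M (φ (((z - c • 1) * idem B) ^ n) -
      φ ((z - c • 1) * idem B) ^ n) := by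
    intro n
    induction n with
    | zero => simpa using hone
    | succ n ih =>
      rw [pow_succ, pow_succ]
      have := ideal_add hM (hmul _ _ (IsCen.pow hyc n) hyc (isInt_pow hM hyi n) hyi)
        (ideal_mul_right hM ih (hmem _ hyc hyi))
      convert this using 1
      ring
  have hy : MemLocalIdeal M (φ ((z - c • 1) * idem B)) := by
    refine ideal_of_pow_ideal hM (hmem _ hyc hyi) (n := N) ?_
    have := ideal_sub hM (hsmall _ (IsCen.pow hyc N) hN) (hpow N)
    simpa using this
  have he : MemLocalIdeal M (φ (idem B) - 1) := by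
    have h := hmul _ _ (isCen_idem B) (isCen_idem B) hBi hBi
    rw [idem_sq] at h
    by_contra hcon
    refine not_ideal_mul hM (hmem _ (isCen_idem B) hBi) ((localRing hM).sub_mem
      (hmem _ (isCen_idem B) hBi) (localRing hM).one_mem) hne hcon ?_
    convert ideal_neg h using 1
    ring
  have hfw : MemLocalIdeal M (φ (z - c • 1)) := by
    have h1 := ideal_sub hM hy (hmul _ _ hwc (isCen_idem B) hwi hBi)
    have h2 := ideal_sub hM h1 (ideal_mul_left hM (hmem _ hwc hwi) he)
    convert h2 using 1
    ring
  rw [map_sub, map_smul, smul_eq_mul] at hfw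
  have := ideal_add hM hfw (ideal_mul_left hM hcR hone)
  convert this using 1
  ring

theorem chiSum_comm_of_classFun {χ : G → ℂ} (hχ : IsClassFunction G χ) (a b : MonoidAlgebra ℂ G) :
    chiSum χ (a * b) = chiSum χ (b * a) := by
  have key : ∀ g h : G, χ (g * h) = χ (h * g) := fun g h => by
    rw [← hχ (g * h) h]; group
  conv_lhs => rw [eq_sum_single a, eq_sum_single b]
  conv_rhs => rw [eq_sum_single a, eq_sum_single b]
  simp only [Finset.sum_mul, Finset.mul_sum, map_sum, MonoidAlgebra.single_mul_single,
    chiSum_single]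
  rw [Finset.sum_comm]
  exact Finset.sum_congr rfl fun x _ => Finset.sum_congr rfl fun y _ => by rw [key]; ring

/-- Brauer's second main theorem, idempotent form. -/
theorem second_main (hM : IsPModular p M) (H : Subgroup G) [Fintype H]
    {b : Set (IrrCharacter H)} (hb : IsPBlock M b) (A : Set (IrrCharacter G))
    (hA : IsInt M (idem A))
    (hbA : ∀ ξ ∈ b, MemLocalIdeal M (omega (ξ : H → ℂ) (res H (idem A))))
    (z : G) (s : H) (hz : ∃ k, orderOf z = p ^ k) (hzs : Commute z (s : G))
    (hs : ¬ p ∣ orderOf (s : G)) (hzH : Subgroup.centralizer ({z} : Set G) ≤ H)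
    (χ : IrrCharacter G) (hχ : χ ∈ A) :
    chiSum (χ : G → ℂ)
      (MonoidAlgebra.single z 1 * incl H (idem b) * MonoidAlgebra.single (s : G) 1) = 0 := by
  haveI : Fact p.Prime := ⟨hM.1⟩
  have hzmem : z ∈ H := hzH (Subgroup.mem_centralizer_singleton_iff.mpr rfl)
  -- the idempotent `f`
  set f := idem A * incl H (idem b) with hf
  have hincl : ∀ {w : G} (hw : w ∈ H), MonoidAlgebra.single w (1 : ℂ) * incl H (idem b) =
      incl H (idem b) * MonoidAlgebra.single w 1 := by
    intro w hw
    have e : MonoidAlgebra.single w (1 : ℂ) = incl H (MonoidAlgebra.single ⟨w, hw⟩ 1) := by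
      simp [incl]
    rw [e, ← map_mul, ← map_mul, (isCen_idem b).comm]
  have hcomm : ∀ {w : G} (hw : w ∈ H),
      MonoidAlgebra.single w (1 : ℂ) * f = f * MonoidAlgebra.single w 1 := by
    intro w hw
    rw [hf, ← mul_assoc, ← (isCen_idem A).comm, mul_assoc, hincl hw, mul_assoc]
  have hff : f * f = f := by
    rw [hf, mul_assoc, ← mul_assoc (incl H (idem b)), ← (isCen_idem A).comm, mul_assoc,
      ← map_mul, idem_sq, ← mul_assoc, idem_sq]
  have hfi : IsInt M f := IsInt.mul hM hA (isInt_incl H hM (isInt_idem hM hb))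
  -- the Brauer image of `f` is small
  set r := res H (idem A) with hr
  have hrc : IsCen r := isCen_res H (isCen_idem A)
  have hri : IsInt M r := isInt_res H hA
  have hbi := isInt_idem hM hb
  have hy : ∀ ξ : IrrCharacter H, MemLocalIdeal M (omega (ξ : H → ℂ) (r * idem b)) := by
    intro ξ
    rw [omega_mul ξ hrc, omega_idem]
    split_ifs with hξ
    · rw [mul_one]; exact hbA ξ hξ
    · rw [mul_zero]; exact ideal_zero hM
  obtain ⟨N, hN⟩ := exists_small_pow hM (hrc.mul (isCen_idem b)) (IsInt.mul hM hri hbi) hy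
  set z' : H := ⟨z, hzmem⟩
  set P : Subgroup H := Subgroup.zpowers z' with hP'
  have hP : IsPGroup p P := by
    obtain ⟨k, hk⟩ := hz
    exact IsPGroup.of_card (n := k) (by rw [Nat.card_zpowers, ← Subgroup.orderOf_coe, hk])
  have hPG : IsPGroup p (Subgroup.zpowers z) := by
    obtain ⟨k, hk⟩ := hz
    exact IsPGroup.of_card (n := k) (by rw [Nat.card_zpowers, hk])
  have hmemP : ∀ h : H, h ∈ Subgroup.centralizer (P : Set H) ↔ Commute z (h : G) := by
    intro h
    constructor
    · intro h'
      exact congrArg Subtype.val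
        (Subgroup.mem_centralizer_iff.mp h' z' (Subgroup.mem_zpowers z'))
    · intro h'
      refine Subgroup.mem_centralizer_iff.mpr fun w hw => ?_
      obtain ⟨i, rfl⟩ := Subgroup.mem_zpowers_iff.mp hw
      exact ((show Commute z' h from Subtype.ext h').zpow_left i).eq
  have hmemG : ∀ x : G, x ∈ Subgroup.centralizer (Subgroup.zpowers z : Set G) ↔ Commute z x := by
    intro x
    constructor
    · exact fun h' => Subgroup.mem_centralizer_iff.mp h' z (Subgroup.mem_zpowers z)
    · intro h'
      refine Subgroup.mem_centralizer_iff.mpr fun w hw => ?_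
      obtain ⟨i, rfl⟩ := Subgroup.mem_zpowers_iff.mp hw
      exact (h'.zpow_left i).eq
  have hCH : ∀ x : G, Commute z x → x ∈ H := fun x hx =>
    hzH (Subgroup.mem_centralizer_singleton_iff.mpr hx.symm.eq)
  -- `cut r` is idempotent modulo the ideal
  have hres : ∀ w : MonoidAlgebra ℂ G, cut P (res H w) = res H (cut (Subgroup.zpowers z) w) := by
    intro w
    refine MonoidAlgebra.ext ?_
    ext h
    rw [coeff_cut, coeff_res, coeff_res, coeff_cut]
    exact if_congr ((hmemP h).trans (hmemG h).symm) rfl rfl
  have hr2 : Small M (cut P r * cut P r - cut P r) := by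
    rw [hr, hres, ← res_mul_of_supported H (fun x hx => by
      rw [coeff_cut, if_neg fun h' => hx (hCH x ((hmemG x).mp h'))])]
    intro h
    have := ideal_neg (cut_mul hM _ hPG (isCen_idem A) (isCen_idem A) hA hA (h : G))
    rw [idem_sq] at this
    simpa using this
  set y := r * idem b with hydef
  have hyi : IsInt M y := IsInt.mul hM hri hbi
  have hyc : IsCen y := hrc.mul (isCen_idem b)
  have hb2 : Small M (cut P (idem b) * cut P (idem b) - cut P (idem b)) := by
    have := small_symm hM (cut_mul hM P hP (isCen_idem b) (isCen_idem b) hbi hbi)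
    rwa [idem_sq] at this
  have hsmallcut : Small M (cut P y) := by
    have hy2 : y * y = y * r := by
      calc y * y = r * (idem b * r) * idem b := by rw [hydef]; simp only [mul_assoc]
        _ = r * r * (idem b * idem b) := by rw [← hrc.comm (idem b)]; simp only [mul_assoc]
        _ = r * (idem b * r) := by rw [idem_sq, ← hrc.comm (idem b), mul_assoc]
        _ = y * r := by rw [hydef, mul_assoc]
    refine small_of_idem_of_pow hM (isInt_cut hM P hyi) ?_ (N := N + 1) (by omega) ?_
    · -- idempotent
      refine small_trans hM (small_symm hM (cut_mul hM P hP hyc hyc hyi hyi)) ?_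
      rw [hy2]
      refine small_trans hM (cut_mul hM P hP hyc hrc hyi hri) ?_
      refine small_trans hM (b := cut P r * cut P (idem b) * cut P r) ?_ ?_
      · exact small_mul_sub hM (cut_mul hM P hP hrc (isCen_idem b) hri hbi)
          (by simpa using small_zero hM) (isInt_cut hM P hri)
          (IsInt.mul hM (isInt_cut hM P hri) (isInt_cut hM P hbi))
      refine small_trans hM (b := cut P (idem b) * (cut P r * cut P r)) ?_ ?_
      · have hc2 : Small M (cut P r * cut P (idem b) - cut P (idem b) * cut P r) := by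
          have h1 := cut_mul hM P hP hrc (isCen_idem b) hri hbi
          have h2 := cut_mul hM P hP (isCen_idem b) hrc hbi hri
          rw [(isCen_idem b).comm r] at h2
          exact small_trans hM (small_symm hM h1) h2
        rw [← mul_assoc (cut P (idem b))]
        exact small_mul_sub hM hc2 (by simpa using small_zero hM) (isInt_cut hM P hri)
          (IsInt.mul hM (isInt_cut hM P hbi) (isInt_cut hM P hri))
      refine small_trans hM (b := cut P (idem b) * cut P r) ?_ ?_
      · exact small_mul_sub hM (by simpa using small_zero hM) hr2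
          (IsInt.mul hM (isInt_cut hM P hri) (isInt_cut hM P hri)) (isInt_cut hM P hbi)
      · have h2 := cut_mul hM P hP (isCen_idem b) hrc hbi hri
        rw [(isCen_idem b).comm r] at h2
        exact small_symm hM h2
    · -- nilpotent
      have h1 : Small M (cut P (y ^ (N + 1))) := by
        intro h
        rw [coeff_cut]
        split_ifs
        · rw [pow_succ]; exact small_mul_right hM hN hyi h
        · exact ideal_zero hM
      have := small_sub hM h1 (cut_pow hM P hP hyc hyi (N + 1))
      simpa using this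
  have hbr : ∀ g, Commute z g → MemLocalIdeal M (f.coeff g) := by
    intro g hg
    have := hsmallcut ⟨g, hCH g hg⟩
    rw [coeff_cut, if_pos ((hmemP _).mpr hg), hydef, hr, ← res_mul_incl, coeff_res] at this
    exact this
  have h0 : ∀ h, classCoeff h
      (MonoidAlgebra.single z 1 * f * MonoidAlgebra.single (s : G) 1) = 0 := fun h =>
    classCoeff_single_mul_idem_eq_zero hM z s h hz hzs hs f hff hfi (hcomm hzmem) (hcomm s.2)
      (Or.inr hbr)
  have h1 := chiSum_eq_sum_classCoeff (irr_classFun χ)
    (MonoidAlgebra.single z 1 * f * MonoidAlgebra.single (s : G) 1)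
  rw [Finset.sum_eq_zero (fun C _ => by rw [h0, mul_zero]), hf, ← mul_assoc,
    ← (isCen_idem A).comm, mul_assoc, mul_assoc, chiSum_idem_mul, if_pos hχ, ← mul_assoc] at h1
  exact h1

end Cfsg.Agent.BlockTheoryBrauer
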