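import Cfsg.Agent.Lib.BrauerPairs81Base
import Cfsg.Agent.Lib.BlockPrincipal81

/-!
Brauer pairs: the unique subpair on each subgroup and the unique block of a pair.
-/

namespace Cfsg.Agent.BrauerPairs81Pairs

open Cfsg Cfsg.Agent.BlockTheoryLocalRing Cfsg.Agent.BlockTheoryCentre
open Cfsg.Agent.BlockTheoryIdem Cfsg.Agent.BlockTheoryBrauer Cfsg.Agent.BrauerPairs81Base
open scoped ComplexConjugate

attribute [local instance] Classical.propDecidable

set_option linter.unusedSectionVars false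

variable {p : ℕ} {M : Ideal AlgInt} {G : Type*} [Group G] [Fintype G]

/-- The idempotent of a set of characters of a subgroup in the group algebra of `G`. -/
noncomputable def eb (H : Subgroup G) (f : Set (IrrCharacter H)) : MonoidAlgebra ℂ G :=
  ofFun (subgroupBlockCoeff H f)

theorem coeff_eb_of_notMem (H : Subgroup G) (f : Set (IrrCharacter H)) {x : G} (hx : x ∉ H) :
    (eb H f).coeff x = 0 := by
  rw [eb, coeff_ofFun, subgroupBlockCoeff, dif_neg hx]

theorem coeff_eb_coe (H : Subgroup G) (f : Set (IrrCharacter H)) (x : H) :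
    (eb H f).coeff x = blockCoeff f x := by
  rw [eb, coeff_ofFun, subgroupBlockCoeff, dif_pos x.2]

theorem eb_eq_incl (H : Subgroup G) (f : Set (IrrCharacter H)) : eb H f = incl H (idem f) := by
  refine MonoidAlgebra.ext ?_
  ext x
  by_cases hx : x ∈ H
  · rw [show x = ((⟨x, hx⟩ : H) : G) from rfl, coeff_eb_coe, coeff_incl_coe]; rfl
  · rw [coeff_eb_of_notMem H f hx, coeff_incl_of_notMem H _ hx]

theorem res_eb (H : Subgroup G) (f : Set (IrrCharacter H)) : res H (eb H f) = idem f := by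
  refine MonoidAlgebra.ext ?_
  ext x
  rw [coeff_res, coeff_eb_coe]
  rfl

theorem eb_injective {H : Subgroup G} {f f' : Set (IrrCharacter H)} (h : eb H f = eb H f') :
    f = f' :=
  idem_injective (by rw [← res_eb H f, h, res_eb])

theorem eb_mul (H : Subgroup G) (f f' : Set (IrrCharacter H)) :
    eb H f * eb H f' = incl H (idem f * idem f') := by
  rw [eb_eq_incl, eb_eq_incl, map_mul]

theorem eb_sq (H : Subgroup G) (f : Set (IrrCharacter H)) : eb H f * eb H f = eb H f := by
  rw [eb_mul, idem_sq, eb_eq_incl]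

theorem isInt_eb (hM : IsPModular p M) {H : Subgroup G} {f : Set (IrrCharacter H)}
    (hf : IsPBlock M f) : IsInt M (eb H f) := by
  rw [eb_eq_incl]
  exact isInt_incl H hM (isInt_idem hM hf)

theorem invBy_eb_self (H : Subgroup G) (f : Set (IrrCharacter H)) : InvBy H (eb H f) := by
  intro u hu x
  by_cases hx : x ∈ H
  · have h1 := coeff_eb_coe H f (⟨u, hu⟩ * ⟨x, hx⟩ * (⟨u, hu⟩ : H)⁻¹)
    have h2 := coeff_eb_coe H f ⟨x, hx⟩
    simp only [Subgroup.coe_mul, Subgroup.coe_inv] at h1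
    rw [h1, h2]
    exact isCen_idem f ⟨x, hx⟩ ⟨u, hu⟩
  · rw [coeff_eb_of_notMem H f hx, coeff_eb_of_notMem H f]
    intro h
    exact hx (by simpa [mul_assoc] using H.mul_mem (H.mul_mem (H.inv_mem hu) h) hu)

theorem sum_eb (hM : IsPModular p M) (H : Subgroup G) :
    ∑ f ∈ blockSet M H, eb H f = (1 : MonoidAlgebra ℂ G) := by
  rw [Finset.sum_congr rfl fun f _ => eb_eq_incl H f, ← map_sum, sum_idem_blockSet hM, map_one]

theorem eb_mul_of_ne (hM : IsPModular p M) {H : Subgroup G} {f f' : Set (IrrCharacter H)}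
    (hf : IsPBlock M f) (hf' : IsPBlock M f') (h : f ≠ f') : eb H f * eb H f' = 0 := by
  rw [eb_mul, idem_mul_of_ne hM hf hf' h, map_zero]

/-! ### Conjugation -/

/-- Conjugation on the group algebra. -/
noncomputable def cjA (g : G) (z : MonoidAlgebra ℂ G) : MonoidAlgebra ℂ G :=
  ofFun fun x => z.coeff (g⁻¹ * x * g)

theorem coeff_cjA (g : G) (z : MonoidAlgebra ℂ G) (x : G) :
    (cjA g z).coeff x = z.coeff (g⁻¹ * x * g) := rfl

theorem cjA_one (z : MonoidAlgebra ℂ G) : cjA 1 z = z := by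
  refine MonoidAlgebra.ext ?_
  ext x
  rw [coeff_cjA]; simp

theorem cjA_mul (g h : G) (z : MonoidAlgebra ℂ G) : cjA (g * h) z = cjA g (cjA h z) := by
  refine MonoidAlgebra.ext ?_
  ext x
  simp only [coeff_cjA, mul_inv_rev, mul_assoc]

theorem invBy_iff {H : Subgroup G} {z : MonoidAlgebra ℂ G} :
    InvBy H z ↔ ∀ u ∈ H, cjA u z = z := by
  refine ⟨fun h u hu => ?_, fun h u hu x => ?_⟩
  · refine MonoidAlgebra.ext ?_
    ext x
    have := h u⁻¹ (inv_mem hu) x
    rw [inv_inv] at this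
    rw [coeff_cjA, this]
  · have := congrArg (fun w : MonoidAlgebra ℂ G => w.coeff x) (h u⁻¹ (inv_mem hu))
    simpa only [coeff_cjA, inv_inv] using this

/-- Conjugation by `g` as an isomorphism from `H` to `H'`. -/
def conjEquiv (g : G) (H H' : Subgroup G) (h : ∀ x, x ∈ H ↔ g * x * g⁻¹ ∈ H') : H ≃* H' where
  toFun x := ⟨g * x * g⁻¹, (h x).mp x.2⟩
  invFun y := ⟨g⁻¹ * y * g, (h _).mpr (by simpa [mul_assoc] using y.2)⟩
  left_inv x := by ext; simp [mul_assoc]
  right_inv y := by ext; simp [mul_assoc]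
  map_mul' x y := by ext; simp [mul_assoc]

theorem cjA_eb {g : G} {H H' : Subgroup G} (h : ∀ x, x ∈ H ↔ g * x * g⁻¹ ∈ H')
    (f : Set (IrrCharacter H)) : cjA g (eb H f) = eb H' (pushSet (conjEquiv g H H' h) f) := by
  refine MonoidAlgebra.ext ?_
  ext y
  rw [coeff_cjA]
  by_cases hy : y ∈ H'
  · have hx : g⁻¹ * y * g ∈ H := (h _).mpr (by simpa [mul_assoc] using hy)
    have e : conjEquiv g H H' h ⟨g⁻¹ * y * g, hx⟩ = ⟨y, hy⟩ :=
      Subtype.ext (by simp [conjEquiv, mul_assoc])
    have h1 := coeff_eb_coe H' (pushSet (conjEquiv g H H' h) f) ⟨y, hy⟩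
    have h2 := coeff_eb_coe H f ⟨g⁻¹ * y * g, hx⟩
    rw [h1, h2, ← e, blockCoeff_push]
  · rw [coeff_eb_of_notMem H' _ hy, coeff_eb_of_notMem H]
    intro hx
    exact hy (by simpa [mul_assoc] using (h _).mp hx)

theorem conj_mem_iff_of_normalizer {K : Subgroup G} {u : G}
    (hu : u ∈ Subgroup.normalizer (K : Set G)) : ∀ x, x ∈ K ↔ u * x * u⁻¹ ∈ K :=
  Subgroup.mem_normalizer_iff.mp hu

/-- Stabilising a block is fixing its idempotent. -/
theorem stabilizes_iff {K : Subgroup G} {f : Set (IrrCharacter K)} {u : G} :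
    StabilizesBlock K f u ↔ u ∈ Subgroup.normalizer (K : Set G) ∧ cjA u (eb K f) = eb K f := by
  constructor
  · rintro ⟨hu, h⟩
    refine ⟨hu, ?_⟩
    rw [cjA_eb (conj_mem_iff_of_normalizer hu)]
    congr 1
    set e := conjEquiv u K K (conj_mem_iff_of_normalizer hu)
    have hsub : pushSet e f ⊆ f := by
      rintro _ ⟨χ, hχ, rfl⟩
      obtain ⟨χ', hχ', hc⟩ := h χ hχ
      have : pushChar e χ = χ' := by
        refine Subtype.ext (funext fun k' => ?_)
        obtain ⟨k, rfl⟩ := e.surjective k'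
        rw [pushChar_apply]
        exact (hc k (e k) rfl).symm
      exact this ▸ hχ'
    refine Set.eq_of_subset_of_ncard_le hsub ?_ (Set.toFinite _)
    rw [pushSet, Set.ncard_image_of_injective _ (pushChar e).injective]
  · rintro ⟨hu, h⟩
    refine ⟨hu, fun χ hχ => ?_⟩
    rw [cjA_eb (conj_mem_iff_of_normalizer hu)] at h
    set e := conjEquiv u K K (conj_mem_iff_of_normalizer hu)
    refine ⟨pushChar e χ, eb_injective h ▸ ⟨χ, hχ, rfl⟩, fun k k' hk => ?_⟩
    have : e k = k' := Subtype.ext hk.symm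
    rw [← this, pushChar_apply]

theorem centralizer_le {Q P : Subgroup G} (h : Q ≤ P) : Cen P ≤ Cen Q :=
  Subgroup.centralizer_le h

theorem normalizer_le_normalizer_cen {Q : Subgroup G} :
    Subgroup.normalizer (Q : Set G) ≤ Subgroup.normalizer (Cen Q : Set G) := by
  intro u hu
  rw [Subgroup.mem_normalizer_iff]
  intro x
  refine ⟨conj_mem_centralizer hu, fun h => ?_⟩
  have := conj_mem_centralizer (inv_mem hu) h
  simpa [mul_assoc] using this

/-- For `P` normalising `Q`: `P` stabilises `f` iff its idempotent is `P`-invariant. -/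
theorem stabilizes_forall_iff {Q P : Subgroup G} (hN : P ≤ Subgroup.normalizer (Q : Set G))
    (f : Set (IrrCharacter (Cen Q))) :
    (∀ x ∈ P, StabilizesBlock (Cen Q) f x) ↔ InvBy P (eb (Cen Q) f) := by
  rw [invBy_iff]
  exact ⟨fun h x hx => (stabilizes_iff.mp (h x hx)).2,
    fun h x hx => stabilizes_iff.mpr ⟨normalizer_le_normalizer_cen (hN hx), h x hx⟩⟩

/-! ### Occurrence -/

/-- The block `e` occurs in the truncation of `z`. -/
def Occ (M : Ideal AlgInt) (P : Subgroup G) (e : Set (IrrCharacter (Cen P)))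
    (z : MonoidAlgebra ℂ G) : Prop :=
  ∀ ξ ∈ e, MemLocalIdeal M (phi P z ξ - 1)

theorem occ_of_mem (hM : IsPModular p M) {P : Subgroup G} {e : Set (IrrCharacter (Cen P))}
    (he : IsPBlock M e) {z : MonoidAlgebra ℂ G} (hz : InvBy (Cen P) z) (hzi : IsInt M z)
    {ξ : IrrCharacter (Cen P)} (hξ : ξ ∈ e) (h : MemLocalIdeal M (phi P z ξ - 1)) :
    Occ M P e z := by
  intro η hη
  refine cast (congrArg (MemLocalIdeal M) ?_) (ideal_add hM (phi_sub_mem hM hz hzi he hη hξ) h)
  ring

theorem isNormalSubpair_iff {Q P : Subgroup G} {f : Set (IrrCharacter (Cen Q))}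
    {e : Set (IrrCharacter (Cen P))} :
    IsNormalSubpair p M Q f P e ↔ IsBrauerPair p M Q f ∧ IsBrauerPair p M P e ∧ Q ≤ P ∧
      P ≤ Subgroup.normalizer (Q : Set G) ∧ InvBy P (eb (Cen Q) f) ∧ Occ M P e (eb (Cen Q) f) := by
  constructor
  · rintro ⟨h1, h2, h3, h4, h5, h6⟩
    refine ⟨h1, h2, h3, h4, (stabilizes_forall_iff h4 f).mp h5, fun ξ hξ => ?_⟩
    have := h6 ξ hξ
    rwa [brauerOmega_eq_phi] at this
  · rintro ⟨h1, h2, h3, h4, h5, h6⟩
    refine ⟨h1, h2, h3, h4, (stabilizes_forall_iff h4 f).mpr h5, fun ξ hξ => ?_⟩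
    rw [brauerOmega_eq_phi]
    exact h6 ξ hξ

theorem isBrauerPairOf_iff {B : Set (IrrCharacter G)} {P : Subgroup G}
    {e : Set (IrrCharacter (Cen P))} :
    IsBrauerPairOf p M B P e ↔ IsBrauerPair p M P e ∧ IsPBlock M B ∧ Occ M P e (idem B) := by
  simp only [IsBrauerPairOf, brauerOmega_eq_phi]
  rfl

/-- The key congruence along a normal inclusion. -/
theorem phi_congr_step (hM : IsPModular p M) {R R' : Subgroup G}
    {g : Set (IrrCharacter (Cen R))} {g' : Set (IrrCharacter (Cen R'))}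
    (hn : IsNormalSubpair p M R g R' g') {z : MonoidAlgebra ℂ G} (hzi : IsInt M z)
    (hz : InvBy R' z) (hz' : InvBy (Cen R) z) {ξ : IrrCharacter (Cen R)} (hξ : ξ ∈ g)
    {ξ' : IrrCharacter (Cen R')} (hξ' : ξ' ∈ g') :
    MemLocalIdeal M (phi R' z ξ' - phi R z ξ) := by
  obtain ⟨⟨hRp, hg⟩, ⟨hR'p, hg'⟩, hle, hN, hinv, hocc⟩ := isNormalSubpair_iff.mp hn
  set c := phi R z ξ with hc
  have hcR : MemLocalRing M c := phi_mem hM hz' hzi ξ
  -- the cut of `z` to `C(R)`
  set zc := incl (Cen R) (res (Cen R) z) with hzc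
  have hzc_i : IsInt M zc := isInt_incl _ hM (isInt_res _ hzi)
  have hzc_coe : ∀ x : G, zc.coeff x = if x ∈ Cen R then z.coeff x else 0 := by
    intro x
    by_cases hx : x ∈ Cen R
    · rw [if_pos hx, show x = ((⟨x, hx⟩ : Cen R) : G) from rfl, hzc, coeff_incl_coe, coeff_res]
    · rw [if_neg hx, hzc, coeff_incl_of_notMem _ _ hx]
  have hcut : ∀ H : Subgroup G, H ≤ Subgroup.normalizer (Cen R : Set G) → InvBy H z →
      InvBy H zc := by
    intro H hH hzH u hu x
    rw [hzc_coe, hzc_coe, hzH u hu x]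
    exact if_congr (conj_mem_iff_of_normalizer (hH hu) x).symm rfl rfl
  set Y := zc * eb (Cen R) g - c • eb (Cen R) g with hY
  have hei := isInt_eb hM hg
  have hYi : IsInt M Y := IsInt.sub hM (IsInt.mul hM hzc_i hei) (IsInt.smul hM hcR hei)
  have hzcR' : InvBy R' zc := hcut R' (hN.trans normalizer_le_normalizer_cen) hz
  have hY' : InvBy R' Y := invBy_sub (invBy_mul hzcR' hinv) (invBy_smul hinv c)
  have hzcC : InvBy (Cen R) zc := hcut _ Subgroup.le_normalizer hz'
  have hCC : Cen R' ≤ Cen R := centralizer_le hle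
  have hYC : InvBy (Cen R') Y := invBy_mono hCC
    (invBy_sub (invBy_mul hzcC (invBy_eb_self _ g)) (invBy_smul (invBy_eb_self _ g) c))
  set y := res (Cen R) z * idem g - c • idem g with hy
  have hyY : incl (Cen R) y = Y := by
    rw [hy, hY, eb_eq_incl, map_sub, map_mul]
    congr 1
    refine MonoidAlgebra.ext ?_
    ext x
    by_cases hx : x ∈ Cen R
    · simp only [MonoidAlgebra.coeff_smul, Finsupp.coe_smul, Pi.smul_apply]
      rw [show x = ((⟨x, hx⟩ : Cen R) : G) from rfl, coeff_incl_coe, coeff_incl_coe]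
      simp
    · simp only [MonoidAlgebra.coeff_smul, Finsupp.coe_smul, Pi.smul_apply,
        coeff_incl_of_notMem _ _ hx, smul_zero]
  have hyc : IsCen y := ((isCen_res_of_invBy hz').mul (isCen_idem g)).sub ((isCen_idem g).smul c)
  have hyi : IsInt M y := IsInt.sub hM (IsInt.mul hM (isInt_res _ hzi) (isInt_idem hM hg))
    (IsInt.smul hM hcR (isInt_idem hM hg))
  obtain ⟨N, hN0⟩ := exists_small_pow hM hyc hyi fun η => by
    rw [hy, map_sub, omega_mul η (isCen_res_of_invBy hz'), map_smul, omega_idem, smul_eq_mul]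
    by_cases hη : η ∈ g
    · rw [if_pos hη, mul_one, mul_one]
      exact phi_sub_mem hM hz' hzi hg hη hξ
    · rw [if_neg hη]; simpa using ideal_zero hM
  have hYN : Small M (Y ^ N) := by
    intro x
    rw [← hyY, ← map_pow]
    by_cases hx : x ∈ Cen R
    · rw [show x = ((⟨x, hx⟩ : Cen R) : G) from rfl, coeff_incl_coe]; exact hN0 _
    · rw [coeff_incl_of_notMem _ _ hx]; exact ideal_zero hM
  have h1 : MemLocalIdeal M (phi R' (zc * eb (Cen R) g) ξ' - c * phi R' (eb (Cen R) g) ξ') := by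
    have := phi_ideal_of_small_pow hM hR'p hY' hYC hYi hYN ξ'
    simpa only [hY, phi, map_sub, map_smul, smul_eq_mul] using this
  have h2 := phi_mul hM hR'p hzcR' hinv (invBy_mono hCC hzcC)
    (invBy_mono hCC (invBy_eb_self _ g)) hzc_i hei ξ'
  have h3 := hocc ξ' hξ'
  have he : phi R' zc ξ' = phi R' z ξ' := by
    rw [phi, phi]
    congr 1
    refine MonoidAlgebra.ext ?_
    ext x
    rw [coeff_res, coeff_res, hzc_coe, if_pos (hCC x.2)]
  rw [he] at h2
  have hzR : MemLocalRing M (phi R' z ξ') := phi_mem hM (invBy_mono hCC hz') hzi ξ'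
  refine cast (congrArg (MemLocalIdeal M) ?_) (ideal_sub hM (ideal_sub hM h1 h2)
    (ideal_mul_left hM ((localRing hM).sub_mem hzR hcR) h3))
  ring

/-! ### The unique normal subpair and the unique block -/

theorem not_both (hM : IsPModular p M) {P : Subgroup G} (hP : IsPGroup p P)
    {z w : MonoidAlgebra ℂ G} (hz : InvBy P z) (hw : InvBy P w) (hz' : InvBy (Cen P) z)
    (hw' : InvBy (Cen P) w) (hzi : IsInt M z) (hwi : IsInt M w) (h0 : z * w = 0)
    (ξ : IrrCharacter (Cen P)) (h1 : MemLocalIdeal M (phi P z ξ - 1))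
    (h2 : MemLocalIdeal M (phi P w ξ - 1)) : False := by
  have h := phi_mul hM hP hz hw hz' hw' hzi hwi ξ
  rw [h0, show phi P (0 : MonoidAlgebra ℂ G) ξ = 0 by simp [phi], zero_sub] at h
  refine one_not_ideal hM (cast (congrArg (MemLocalIdeal M) ?_)
    (ideal_sub hM (ideal_neg h) (ideal_add hM (ideal_mul_right hM h1 (phi_mem hM hw' hwi ξ)) h2)))
  ring

theorem existsUnique_block (hM : IsPModular p M) {P : Subgroup G}
    {e : Set (IrrCharacter (Cen P))} (hPe : IsBrauerPair p M P e) :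
    ∃! B : Set (IrrCharacter G), IsBrauerPairOf p M B P e := by
  obtain ⟨hP, he⟩ := hPe
  obtain ⟨ξ, hξ⟩ := block_nonempty hM he
  have hinv : ∀ (B : Set (IrrCharacter G)) (H : Subgroup G), InvBy H (idem B) :=
    fun B H => IsCen.invBy (isCen_idem B) H
  have hsum : ∑ B ∈ blockSet M G, phi P (idem B) ξ = 1 := by
    rw [← phi_one P ξ, ← sum_idem_blockSet (G := G) hM]
    simp only [phi, map_sum]
  obtain ⟨B, hB, hne⟩ : ∃ B ∈ blockSet M G, ¬ MemLocalIdeal M (phi P (idem B) ξ) := by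
    by_contra h
    push Not at h
    exact one_not_ideal hM (hsum ▸ ideal_sum hM h)
  have hBb := mem_blockSet.mp hB
  have hB1 := (phi_dichotomy hM hP (hinv B P) (hinv B _) (isInt_idem hM hBb) (idem_sq B) ξ
    ).resolve_left hne
  refine ⟨B, isBrauerPairOf_iff.mpr ⟨⟨hP, he⟩, hBb,
    occ_of_mem hM he (hinv B _) (isInt_idem hM hBb) hξ hB1⟩, fun B' hB' => ?_⟩
  obtain ⟨-, hB'b, hocc⟩ := isBrauerPairOf_iff.mp hB'
  by_contra hne'
  exact not_both hM hP (hinv B' P) (hinv B P) (hinv B' _) (hinv B _) (isInt_idem hM hB'b)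
    (isInt_idem hM hBb) (idem_mul_of_ne hM hB'b hBb hne') ξ (hocc ξ hξ) hB1

theorem existsUnique_normalSubpair (hM : IsPModular p M) {P Q : Subgroup G}
    {e : Set (IrrCharacter (Cen P))} (hPe : IsBrauerPair p M P e) (hQP : Q ≤ P)
    (hPN : P ≤ Subgroup.normalizer (Q : Set G)) :
    ∃! f : Set (IrrCharacter (Cen Q)), IsNormalSubpair p M Q f P e := by
  haveI : Fact p.Prime := ⟨hM.1⟩
  obtain ⟨hP, he⟩ := hPe
  obtain ⟨ξ, hξ⟩ := block_nonempty hM he
  have hCC : Cen P ≤ Cen Q := centralizer_le hQP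
  set S : Finset (MonoidAlgebra ℂ G) := (blockSet M (Cen Q)).image (eb (Cen Q)) with hS
  have hclosed : ∀ u ∈ P, ∀ z ∈ S, cjA u z ∈ S := by
    intro u hu z hz
    obtain ⟨f, hf, rfl⟩ := Finset.mem_image.mp hz
    rw [cjA_eb (conj_mem_iff_of_normalizer (normalizer_le_normalizer_cen (hPN hu)))]
    exact Finset.mem_image_of_mem _ (mem_blockSet.mpr (isPBlock_push _ (mem_blockSet.mp hf)))
  let _ : MulAction P {z // z ∈ S} :=
    { smul := fun u z => ⟨cjA (u : G) z.1, hclosed u u.2 z.1 z.2⟩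
      one_smul := fun z => Subtype.ext (cjA_one z.1)
      mul_smul := fun u v z => Subtype.ext (cjA_mul (u : G) v z.1) }
  have hSprop : ∀ z : {z // z ∈ S}, InvBy (Cen P) z.1 ∧ IsInt M z.1 := fun z => by
    obtain ⟨f, hf, hfz⟩ := Finset.mem_image.mp z.2
    rw [← hfz]
    exact ⟨invBy_mono hCC (invBy_eb_self _ f), isInt_eb hM (mem_blockSet.mp hf)⟩
  have h := BlockPrincipal81.ideal_sum_sub_fixed (Q := P) hM hP
    (fun z : {z // z ∈ S} => phi P z.1 ξ) (fun u z => ?_)
    (fun z => phi_mem hM (hSprop z).1 (hSprop z).2 ξ)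
  swap
  · show phi P (cjA (u : G) z.1) ξ = _
    simp only [phi]
    congr 1
    refine MonoidAlgebra.ext ?_
    ext x
    rw [coeff_res, coeff_res, coeff_cjA]
    congr 1
    rw [mul_assoc, ← Subgroup.mem_centralizer_iff.mp x.2 u u.2, inv_mul_cancel_left]
  have htot : ∑ z : {z // z ∈ S}, phi P z.1 ξ = 1 := by
    rw [← phi_one P ξ, ← sum_eb hM (Cen Q)]
    simp only [phi, map_sum]
    rw [← Finset.sum_subtype (F := inferInstance) S (fun z => Iff.rfl)
      (fun z => omega (ξ : Cen P → ℂ) (res (Cen P) z)), hS,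
      Finset.sum_image fun f _ f' _ hff => eb_injective hff]
  rw [htot] at h
  obtain ⟨z, hz, hne⟩ : ∃ z : {z // z ∈ S},
      z ∈ MulAction.fixedPoints P {z // z ∈ S} ∧ ¬ MemLocalIdeal M (phi P z.1 ξ) := by
    by_contra hno
    push Not at hno
    refine one_not_ideal hM (cast (congrArg (MemLocalIdeal M) (sub_add_cancel _ _)) (ideal_add hM h
      (ideal_sum hM fun z hz => hno z (Finset.mem_filter.mp hz).2)))
  obtain ⟨f, hf, hfz⟩ := Finset.mem_image.mp z.2
  have hfb := mem_blockSet.mp hf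
  have hinv : InvBy P (eb (Cen Q) f) := invBy_iff.mpr fun u hu => by
    have h2 := congrArg Subtype.val (hz ⟨u, hu⟩)
    change cjA u z.1 = z.1 at h2
    rwa [← hfz] at h2
  rw [← hfz] at hne
  have h1 := (phi_dichotomy hM hP hinv (invBy_mono hCC (invBy_eb_self _ f)) (isInt_eb hM hfb)
    (eb_sq _ f) ξ).resolve_left hne
  refine ⟨f, isNormalSubpair_iff.mpr ⟨⟨hP.to_le hQP, hfb⟩, ⟨hP, he⟩, hQP, hPN, hinv,
    occ_of_mem hM he (invBy_mono hCC (invBy_eb_self _ f)) (isInt_eb hM hfb) hξ h1⟩, fun f' hf' => ?_⟩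
  obtain ⟨⟨-, hf'b⟩, -, -, -, hinv', hocc⟩ := isNormalSubpair_iff.mp hf'
  by_contra hne'
  exact not_both hM hP hinv' hinv (invBy_mono hCC (invBy_eb_self _ f'))
    (invBy_mono hCC (invBy_eb_self _ f)) (isInt_eb hM hf'b) (isInt_eb hM hfb)
    (eb_mul_of_ne hM hf'b hfb hne') ξ (hocc ξ hξ) h1

/-- A normal inclusion of pairs on one subgroup is trivial. -/
theorem eq_of_normalSubpair_self (hM : IsPModular p M) {Q : Subgroup G}
    {f g : Set (IrrCharacter (Cen Q))} (h : IsNormalSubpair p M Q f Q g) : f = g := by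
  obtain ⟨⟨-, hf⟩, ⟨-, hg⟩, -, -, -, hocc⟩ := isNormalSubpair_iff.mp h
  obtain ⟨ξ, hξ⟩ := block_nonempty hM hg
  have := hocc ξ hξ
  rw [phi, res_eb, omega_idem] at this
  by_cases hξf : ξ ∈ f
  · exact block_eq_of_mem hM hf hg hξf hξ
  · rw [if_neg hξf] at this
    exact absurd (by simpa using ideal_neg this) (one_not_ideal hM)

/-! ### Chains -/

theorem subgroup_le_of_subpairLE {Q P : Subgroup G} {f : Set (IrrCharacter (Cen Q))}
    {e : Set (IrrCharacter (Cen P))} (h : SubpairLE p M Q f P e) : Q ≤ P := by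
  suffices ∀ a b : BrauerPairIdx G, Relation.ReflTransGen (NormalSubpairRel p M) a b → a.1 ≤ b.1
    from this _ _ h
  intro a b hab
  induction hab with
  | refl => exact le_rfl
  | tail _ hbc ih => exact ih.trans hbc.2.2.1

theorem isBrauerPair_of_subpairLE {Q P : Subgroup G} {f : Set (IrrCharacter (Cen Q))}
    {e : Set (IrrCharacter (Cen P))} (h : SubpairLE p M Q f P e) (hPe : IsBrauerPair p M P e) :
    IsBrauerPair p M Q f := by
  rcases Relation.ReflTransGen.cases_head h with heq | ⟨c, hac, -⟩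
  · cases heq; exact hPe
  · exact hac.1

theorem isBrauerPair_top_of_subpairLE {Q P : Subgroup G} {f : Set (IrrCharacter (Cen Q))}
    {e : Set (IrrCharacter (Cen P))} (h : SubpairLE p M Q f P e) (hQf : IsBrauerPair p M Q f) :
    IsBrauerPair p M P e := by
  rcases Relation.ReflTransGen.cases_tail h with heq | ⟨c, -, hcb⟩
  · cases heq; exact hQf
  · exact hcb.2.1

theorem step_isBrauerPairOf (hM : IsPModular p M) {B : Set (IrrCharacter G)} {Q P : Subgroup G}
    {f : Set (IrrCharacter (Cen Q))} {e : Set (IrrCharacter (Cen P))}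
    (hn : IsNormalSubpair p M Q f P e) (h : IsBrauerPairOf p M B Q f) :
    IsBrauerPairOf p M B P e := by
  obtain ⟨-, hB, hocc⟩ := isBrauerPairOf_iff.mp h
  refine isBrauerPairOf_iff.mpr ⟨hn.2.1, hB, fun ξ' hξ' => ?_⟩
  obtain ⟨ξ, hξ⟩ := block_nonempty hM hn.1.2
  have h1 := phi_congr_step hM hn (isInt_idem hM hB) (IsCen.invBy (isCen_idem B) P)
    (IsCen.invBy (isCen_idem B) _) hξ hξ'
  refine cast (congrArg (MemLocalIdeal M) ?_) (ideal_add hM h1 (hocc ξ hξ))
  ring

theorem isBrauerPairOf_up (hM : IsPModular p M) {B : Set (IrrCharacter G)} {Q P : Subgroup G}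
    {f : Set (IrrCharacter (Cen Q))} {e : Set (IrrCharacter (Cen P))}
    (h : SubpairLE p M Q f P e) (hB : IsBrauerPairOf p M B Q f) :
    IsBrauerPairOf p M B P e := by
  suffices ∀ a b : BrauerPairIdx G, Relation.ReflTransGen (NormalSubpairRel p M) a b →
      IsBrauerPairOf p M B a.1 a.2 → IsBrauerPairOf p M B b.1 b.2 from this _ _ h hB
  intro a b hab
  induction hab with
  | refl => exact id
  | tail _ hbc ih => exact fun ha => step_isBrauerPairOf hM hbc (ih ha)

theorem isBrauerPairOf_down (hM : IsPModular p M) {B : Set (IrrCharacter G)} {Q P : Subgroup G}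
    {f : Set (IrrCharacter (Cen Q))} {e : Set (IrrCharacter (Cen P))}
    (h : SubpairLE p M Q f P e) (hB : IsBrauerPairOf p M B P e) :
    IsBrauerPairOf p M B Q f := by
  obtain ⟨B', hB', -⟩ := existsUnique_block hM (isBrauerPair_of_subpairLE h hB.1)
  obtain ⟨B'', -, huniq⟩ := existsUnique_block hM hB.1
  rwa [huniq B hB, ← huniq B' (isBrauerPairOf_up hM h hB')]

theorem lt_inf_normalizer [Fact p.Prime] {P Q : Subgroup G} (hP : IsPGroup p P) (hQP : Q < P) :
    Q < P ⊓ Subgroup.normalizer (Q : Set G) := by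
  haveI := hP.isNilpotent
  have h1 : Q.subgroupOf P < ⊤ := lt_top_iff_ne_top.mpr fun h =>
    hQP.not_ge (Subgroup.subgroupOf_eq_top.mp h)
  obtain ⟨-, u, hu, huQ⟩ := SetLike.lt_iff_le_and_exists.mp
    (Group.normalizerCondition_of_isNilpotent (G := P) _ h1)
  refine lt_of_le_of_ne (le_inf hQP.le Subgroup.le_normalizer) fun he => huQ ?_
  rw [Subgroup.mem_subgroupOf, he]
  refine ⟨u.2, Subgroup.mem_normalizer_iff.mpr fun x => ⟨fun hx => ?_, fun hx => ?_⟩⟩
  · have := (Subgroup.mem_normalizer_iff.mp hu ⟨x, hQP.le hx⟩).mp (by simpa [Subgroup.mem_subgroupOf] using hx)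
    simpa [Subgroup.mem_subgroupOf] using this
  · have hxP : x ∈ P := by
      have := mul_mem (mul_mem (inv_mem u.2) (hQP.le hx)) u.2
      simpa [mul_assoc] using this
    have := (Subgroup.mem_normalizer_iff.mp hu ⟨x, hxP⟩).mpr (by simpa [Subgroup.mem_subgroupOf] using hx)
    simpa [Subgroup.mem_subgroupOf] using this

theorem exists_subpair (hM : IsPModular p M) {P : Subgroup G} {e : Set (IrrCharacter (Cen P))}
    (hPe : IsBrauerPair p M P e) {Q : Subgroup G} (hQP : Q ≤ P) :
    ∃ f : Set (IrrCharacter (Cen Q)), SubpairLE p M Q f P e := by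
  haveI : Fact p.Prime := ⟨hM.1⟩
  induction hn : Nat.card P - Nat.card Q using Nat.strong_induction_on generalizing Q with
  | _ n ih =>
    rcases eq_or_lt_of_le hQP with rfl | hlt
    · exact ⟨e, Relation.ReflTransGen.refl⟩
    set R := P ⊓ Subgroup.normalizer (Q : Set G)
    have hQR := lt_inf_normalizer hPe.1 hlt
    have hc : Nat.card Q < Nat.card R := by
      refine lt_of_le_of_ne (Subgroup.card_le_of_le hQR.le) fun h => hQR.ne ?_
      exact Subgroup.eq_of_le_of_card_ge hQR.le h.ge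
    have hcP : Nat.card R ≤ Nat.card P := Subgroup.card_le_of_le inf_le_left
    obtain ⟨g, hg⟩ := ih (Nat.card P - Nat.card R) (by omega) (Q := R) inf_le_left rfl
    obtain ⟨f, hf, -⟩ := existsUnique_normalSubpair hM (isBrauerPair_of_subpairLE hg hPe) hQR.le
      inf_le_right
    exact ⟨f, Relation.ReflTransGen.head (show NormalSubpairRel p M ⟨Q, f⟩ ⟨R, g⟩ from hf) hg⟩

theorem eq_of_subpairLE_self (hM : IsPModular p M) {P : Subgroup G}
    {f e : Set (IrrCharacter (Cen P))} (h : SubpairLE p M P f P e) : f = e := by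
  suffices ∀ a b : BrauerPairIdx G, Relation.ReflTransGen (NormalSubpairRel p M) a b →
      b.1 ≤ a.1 → a = b by
    have := this _ _ h le_rfl
    simpa using this
  intro a b hab
  induction hab using Relation.ReflTransGen.head_induction_on with
  | refl => exact fun _ => rfl
  | @head a c hac hcb ih =>
    intro hba
    obtain ⟨A, fa⟩ := a
    obtain ⟨C, fc⟩ := c
    have hCA : C ≤ A := (subgroup_le_of_subpairLE (f := fc) hcb).trans hba
    obtain rfl : A = C := le_antisymm hac.2.2.1 hCA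
    obtain rfl := eq_of_normalSubpair_self hM hac
    exact ih hba

theorem exists_step (hM : IsPModular p M) {Q P : Subgroup G} {f : Set (IrrCharacter (Cen Q))}
    {e : Set (IrrCharacter (Cen P))} (h : SubpairLE p M Q f P e) (hne : Q ≠ P) :
    ∃ (R : Subgroup G) (g : Set (IrrCharacter (Cen R))), Q < R ∧
      IsNormalSubpair p M Q f R g ∧ SubpairLE p M R g P e := by
  suffices ∀ a b : BrauerPairIdx G, Relation.ReflTransGen (NormalSubpairRel p M) a b →
      a.1 ≠ b.1 → ∃ (R : Subgroup G) (g : Set (IrrCharacter (Cen R))), a.1 < R ∧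
        IsNormalSubpair p M a.1 a.2 R g ∧ Relation.ReflTransGen (NormalSubpairRel p M) ⟨R, g⟩ b
    from this _ _ h hne
  intro a b hab
  induction hab using Relation.ReflTransGen.head_induction_on with
  | refl => exact fun h => absurd rfl h
  | @head a c hac hcb ih =>
    intro hab'
    obtain ⟨A, fa⟩ := a
    obtain ⟨C, fc⟩ := c
    rcases eq_or_lt_of_le hac.2.2.1 with he | hlt
    · obtain rfl : A = C := he
      obtain rfl := eq_of_normalSubpair_self hM hac
      exact ih hab'
    · exact ⟨C, fc, hlt, hac, hcb⟩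

/-- Below a Brauer pair there is exactly one pair on each subgroup. -/
theorem subpair_unique (hM : IsPModular p M) {P : Subgroup G} {e : Set (IrrCharacter (Cen P))}
    (hPe : IsBrauerPair p M P e) {Q : Subgroup G} {f f' : Set (IrrCharacter (Cen Q))}
    (hf : SubpairLE p M Q f P e) (hf' : SubpairLE p M Q f' P e) : f = f' := by
  haveI : Fact p.Prime := ⟨hM.1⟩
  induction hn : Nat.card P - Nat.card Q using Nat.strong_induction_on generalizing Q with
  | _ n ih =>
    have hQP := subgroup_le_of_subpairLE hf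
    rcases eq_or_ne Q P with rfl | hne
    · rw [eq_of_subpairLE_self hM hf, eq_of_subpairLE_self hM hf']
    set S := P ⊓ Subgroup.normalizer (Q : Set G)
    obtain ⟨gS, hgS⟩ := exists_subpair hM hPe (Q := S) inf_le_left
    have hQS : Q ≤ S := le_inf hQP Subgroup.le_normalizer
    obtain ⟨f0, hf0, -⟩ := existsUnique_normalSubpair hM (isBrauerPair_of_subpairLE hgS hPe) hQS
      inf_le_right
    suffices key : ∀ f1, SubpairLE p M Q f1 P e → f1 = f0 by rw [key f hf, key f' hf']
    intro f1 h1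
    obtain ⟨R, g, hQR, hstep, hRP⟩ := exists_step hM h1 hne
    have hRS : R ≤ S := le_inf (subgroup_le_of_subpairLE hRP) hstep.2.2.2.1
    obtain ⟨gR, hgR⟩ := exists_subpair hM (isBrauerPair_of_subpairLE hgS hPe) hRS
    have hc : Nat.card Q < Nat.card R := by
      refine lt_of_le_of_ne (Subgroup.card_le_of_le hQR.le) fun h => hQR.ne ?_
      exact Subgroup.eq_of_le_of_card_ge hQR.le h.ge
    have hcP : Nat.card R ≤ Nat.card P := Subgroup.card_le_of_le (subgroup_le_of_subpairLE hRP)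
    have heq : gR = g := ih (Nat.card P - Nat.card R) (by omega) (Q := R) (hgR.trans hgS) hRP rfl
    subst heq
    obtain ⟨⟨hQp, hf0b⟩, -, -, -, hinv, hocc⟩ := isNormalSubpair_iff.mp hf0
    have hei := isInt_eb hM hf0b
    have hprop : ∀ a b : BrauerPairIdx G, Relation.ReflTransGen (NormalSubpairRel p M) a b →
        Q ≤ a.1 → b.1 ≤ S → Occ M b.1 b.2 (eb (Cen Q) f0) → Occ M a.1 a.2 (eb (Cen Q) f0) := by
      intro a b hab
      induction hab using Relation.ReflTransGen.head_induction_on with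
      | refl => exact fun _ _ h => h
      | @head a c hac hcb ih' =>
        intro hQa hbS hb ξ hξ
        have hQc : Q ≤ c.1 := hQa.trans hac.2.2.1
        have hcS : c.1 ≤ S := (subgroup_le_of_subpairLE (f := c.2) (e := b.2) hcb).trans hbS
        obtain ⟨η, hη⟩ := block_nonempty hM hac.2.1.2
        have h2 := phi_congr_step hM hac hei (invBy_mono hcS hinv)
          (invBy_mono (centralizer_le hQa) (invBy_eb_self _ f0)) hξ hη
        refine cast (congrArg (MemLocalIdeal M) ?_) (ideal_sub hM (ih' hQc hbS hb η hη) h2)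
        ring
    have hR0 : IsNormalSubpair p M Q f0 R gR := isNormalSubpair_iff.mpr
      ⟨⟨hQp, hf0b⟩, hstep.2.1, hQR.le, hstep.2.2.2.1, invBy_mono hRS hinv,
        hprop ⟨R, gR⟩ ⟨S, gS⟩ hgR hQR.le le_rfl hocc⟩
    exact (existsUnique_normalSubpair hM hstep.2.1 hQR.le hstep.2.2.2.1).unique hstep hR0

theorem existsUnique_subpair (hM : IsPModular p M) {P : Subgroup G}
    {e : Set (IrrCharacter (Cen P))} (hPe : IsBrauerPair p M P e) {Q : Subgroup G} (hQP : Q ≤ P) :
    ∃! f : Set (IrrCharacter (Cen Q)), SubpairLE p M Q f P e := by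
  obtain ⟨f, hf⟩ := exists_subpair hM hPe hQP
  exact ⟨f, hf, fun f' hf' => subpair_unique hM hPe hf' hf⟩

end Cfsg.Agent.BrauerPairs81Pairs
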