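import Mathlib
import Cfsg.Agent.Lib.BlockTheoryBrauer
import Cfsg.Agent.Lib.BrauerPairs81Pairs

/-!
The residue map of the local ring and the Brauer map as a ring homomorphism into a group algebra
over the residue field.
-/

set_option autoImplicit false
set_option linter.unusedSectionVars false

namespace Cfsg.Agent.Star80Res

open Cfsg Cfsg.Agent.BlockTheoryLocalRing Cfsg.Agent.BlockTheoryCentre
open Cfsg.Agent.BlockTheoryIdem Cfsg.Agent.BlockTheoryBrauer
open Cfsg.Agent.BrauerPairs81Base Cfsg.Agent.BrauerPairs81Pairs Polynomial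

attribute [local instance] Classical.propDecidable

variable {p : ℕ} {M : Ideal AlgInt}

/-! ### The residue map -/

/-- The residue field. -/
abbrev kk (M : Ideal AlgInt) : Type := AlgInt ⧸ M

/-- The residue of a local integer. -/
noncomputable def resk (M : Ideal AlgInt) (z : ℂ) : kk M :=
  if h : MemLocalRing M z then
    Ideal.Quotient.mk M h.choose * Ring.inverse (Ideal.Quotient.mk M h.choose_spec.choose)
  else 0

theorem isUnit_mk (hM : IsPModular p M) {b : AlgInt} (hb : b ∉ M) :
    IsUnit (Ideal.Quotient.mk M b) := by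
  haveI := hM.2.1
  letI := Ideal.Quotient.field M
  exact isUnit_iff_ne_zero.mpr fun h => hb (Ideal.Quotient.eq_zero_iff_mem.mp h)

theorem resk_eq (hM : IsPModular p M) {z : ℂ} {a b : AlgInt} (hb : b ∉ M)
    (h : (a : ℂ) / (b : ℂ) = z) :
    resk M z * Ideal.Quotient.mk M b = Ideal.Quotient.mk M a := by
  have hz : MemLocalRing M z := ⟨a, b, hb, h⟩
  rw [resk, dif_pos hz]
  obtain ⟨hd, hcd⟩ := hz.choose_spec.choose_spec
  set c := hz.choose
  set d := hz.choose_spec.choose
  have e : c * b = a * d := by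
    refine Subtype.ext ?_
    have := hcd.trans h.symm
    rw [div_eq_div_iff (coe_ne_zero hd) (coe_ne_zero hb)] at this
    push_cast
    exact this
  calc Ideal.Quotient.mk M c * Ring.inverse (Ideal.Quotient.mk M d) * Ideal.Quotient.mk M b
      = Ideal.Quotient.mk M (c * b) * Ring.inverse (Ideal.Quotient.mk M d) := by
        rw [map_mul]; ring
    _ = Ideal.Quotient.mk M a := by
        rw [e, map_mul, mul_assoc, Ring.mul_inverse_cancel _ (isUnit_mk hM hd), mul_one]

theorem resk_add (hM : IsPModular p M) {x y : ℂ} (hx : MemLocalRing M x) (hy : MemLocalRing M y) :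
    resk M (x + y) = resk M x + resk M y := by
  obtain ⟨a, b, hb, rfl⟩ := hx
  obtain ⟨c, d, hd, rfl⟩ := hy
  have h := resk_eq hM (z := (a : ℂ) / b + (c : ℂ) / d) (a := a * d + b * c) (b := b * d)
    (mul_notMem hM hb hd) (by push_cast; rw [div_add_div _ _ (coe_ne_zero hb) (coe_ne_zero hd)])
  rw [map_add, map_mul, map_mul, map_mul, ← resk_eq hM hb (z := (a : ℂ) / b) rfl,
    ← resk_eq hM hd (z := (c : ℂ) / d) rfl] at h
  refine (isUnit_mk hM (mul_notMem hM hb hd)).mul_right_cancel ?_
  rw [map_mul, h]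
  ring

theorem resk_mul (hM : IsPModular p M) {x y : ℂ} (hx : MemLocalRing M x) (hy : MemLocalRing M y) :
    resk M (x * y) = resk M x * resk M y := by
  obtain ⟨a, b, hb, rfl⟩ := hx
  obtain ⟨c, d, hd, rfl⟩ := hy
  have h := resk_eq hM (z := (a : ℂ) / b * ((c : ℂ) / d)) (a := a * c) (b := b * d)
    (mul_notMem hM hb hd) (by push_cast; rw [div_mul_div_comm])
  rw [map_mul, map_mul, ← resk_eq hM hb (z := (a : ℂ) / b) rfl,
    ← resk_eq hM hd (z := (c : ℂ) / d) rfl] at h
  refine (isUnit_mk hM (mul_notMem hM hb hd)).mul_right_cancel ?_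
  rw [map_mul, h]
  ring

theorem resk_intCast (hM : IsPModular p M) (n : ℤ) : resk M (n : ℂ) = (n : kk M) := by
  have h := resk_eq hM (z := (n : ℂ)) (a := (n : AlgInt)) (b := 1) (one_notMem hM) (by simp)
  simpa using h

theorem resk_zero (hM : IsPModular p M) : resk M 0 = 0 := by simpa using resk_intCast hM 0

theorem resk_one (hM : IsPModular p M) : resk M 1 = 1 := by simpa using resk_intCast hM 1

theorem resk_eq_zero_iff (hM : IsPModular p M) {z : ℂ} (hz : MemLocalRing M z) :
    resk M z = 0 ↔ MemLocalIdeal M z := by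
  constructor
  · intro h
    obtain ⟨a, b, hb, hab⟩ := hz
    have h1 := resk_eq hM hb hab
    rw [h, zero_mul] at h1
    exact ⟨a, b, Ideal.Quotient.eq_zero_iff_mem.mp h1.symm, hb, hab⟩
  · rintro ⟨a, b, ha, hb, hab⟩
    have h1 := resk_eq hM hb hab
    rw [Ideal.Quotient.eq_zero_iff_mem.mpr ha] at h1
    exact (isUnit_mk hM hb).mul_left_eq_zero.mp h1

/-- The residue map as a ring homomorphism. -/
noncomputable def reskHom (hM : IsPModular p M) : localRing hM →+* kk M where
  toFun z := resk M (z : ℂ)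
  map_one' := resk_one hM
  map_mul' x y := resk_mul hM x.2 y.2
  map_zero' := resk_zero hM
  map_add' x y := resk_add hM x.2 y.2

theorem charP_kk (hM : IsPModular p M) : CharP (kk M) p := by
  haveI := hM.2.1
  letI := Ideal.Quotient.field M
  exact (CharP.charP_iff_prime_eq_zero hM.1).2
    (by rw [← map_natCast (Ideal.Quotient.mk M), Ideal.Quotient.eq_zero_iff_mem]; exact hM.2.2)

/-- Roots of monic polynomials over the local ring are local integers. -/
theorem mem_localRing_of_root (hM : IsPModular p M) {z : ℂ} (h : IsIntegral (localRing hM) z) :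
    MemLocalRing M z := by
  obtain ⟨F, hF, hFz⟩ := h
  choose a b hb hab using fun n : ℕ => (F.coeff n).2
  set β : AlgInt := ∏ n ∈ Finset.range F.natDegree, b n with hβ
  have hβM : β ∉ M := Finset.prod_induction b (fun x => x ∉ M) (fun x y => mul_notMem hM)
    (one_notMem hM) fun n _ => hb n
  have hint : ∀ n, IsIntegral ℤ ((β : ℂ) ^ (F.natDegree - n) * (F.coeff n : ℂ)) := by
    intro n
    rcases lt_trichotomy n F.natDegree with hn | rfl | hn
    · obtain ⟨c, hc⟩ : b n ∣ β := Finset.dvd_prod_of_mem b (Finset.mem_range.mpr hn)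
      have hpow : (β : ℂ) ^ (F.natDegree - n) = (β : ℂ) ^ (F.natDegree - n - 1) * β := by
        rw [← pow_succ]; congr 1; omega
      have hbc : (β : ℂ) = (b n : ℂ) * (c : ℂ) := by rw [hc]; push_cast; rfl
      have : (β : ℂ) ^ (F.natDegree - n) * (F.coeff n : ℂ) =
          (((β ^ (F.natDegree - n - 1) * c * a n : AlgInt)) : ℂ) := by
        rw [hpow, ← hab n, hbc]
        have := coe_ne_zero (hb n)
        push_cast
        rw [hbc]
        field_simp
      rw [this]
      exact (β ^ (F.natDegree - n - 1) * c * a n : AlgInt).2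
    · rw [Nat.sub_self, pow_zero, one_mul, hF.coeff_natDegree]
      exact isIntegral_one
    · rw [coeff_eq_zero_of_natDegree_lt hn]
      simpa using isIntegral_zero
  have hbz : IsIntegral ℤ ((β : ℂ) * z) := by
    have h0 : ∑ n ∈ Finset.range (F.natDegree + 1),
        ((β : ℂ) ^ (F.natDegree - n) * (F.coeff n : ℂ)) * ((β : ℂ) * z) ^ n = 0 := by
      rw [eval₂_eq_sum_range] at hFz
      calc _ = (β : ℂ) ^ F.natDegree *
            ∑ n ∈ Finset.range (F.natDegree + 1), (F.coeff n : ℂ) * z ^ n := by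
            rw [Finset.mul_sum]
            refine Finset.sum_congr rfl fun n hn => ?_
            rw [mul_pow, ← pow_sub_mul_pow (β : ℂ) (Nat.lt_succ_iff.mp (Finset.mem_range.mp hn))]
            ring
        _ = 0 := mul_eq_zero_of_right _ hFz
    refine isIntegral_trans (R := ℤ) (A := AlgInt) _
      ⟨∑ n ∈ Finset.range (F.natDegree + 1),
        monomial n (⟨_, hint n⟩ : AlgInt), ?_, ?_⟩
    · refine monic_of_natDegree_le_of_coeff_eq_one F.natDegree ?_ ?_
      · exact natDegree_sum_le_of_forall_le _ _ fun n hn =>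
          (natDegree_monomial_le _).trans (Nat.lt_succ_iff.mp (Finset.mem_range.mp hn))
      · rw [finsetSum_coeff, Finset.sum_eq_single F.natDegree]
        · rw [coeff_monomial_same]
          exact Subtype.ext (by simp [hF.coeff_natDegree])
        · intro n _ hne; rw [coeff_monomial, if_neg hne]
        · simp
    · rw [eval₂_finset_sum, ← h0]
      refine Finset.sum_congr rfl fun n _ => ?_
      rw [eval₂_monomial]
      rfl
  exact ⟨⟨_, hbz⟩, β, hβM, by simp [coe_ne_zero hβM]⟩

/-! ### The Brauer map -/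

variable {G : Type*} [Group G] [Fintype G]

/-- Reduction of a locally integral element. -/
noncomputable def red (M : Ideal AlgInt) (z : MonoidAlgebra ℂ G) : MonoidAlgebra (kk M) G :=
  MonoidAlgebra.ofCoeff (Finsupp.equivFunOnFinite.symm fun x => resk M (z.coeff x))

theorem coeff_red (z : MonoidAlgebra ℂ G) (x : G) : (red M z).coeff x = resk M (z.coeff x) := rfl

theorem red_zero (hM : IsPModular p M) : red M (0 : MonoidAlgebra ℂ G) = 0 := by
  refine MonoidAlgebra.ext ?_
  ext x
  simp [coeff_red, resk_zero hM]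

theorem red_one (hM : IsPModular p M) : red M (1 : MonoidAlgebra ℂ G) = 1 := by
  refine MonoidAlgebra.ext ?_
  ext x
  rw [coeff_red, MonoidAlgebra.one_def, MonoidAlgebra.one_def, MonoidAlgebra.coeff_single,
    MonoidAlgebra.coeff_single, Finsupp.single_apply, Finsupp.single_apply]
  split_ifs
  exacts [resk_one hM, resk_zero hM]

theorem red_add (hM : IsPModular p M) {z w : MonoidAlgebra ℂ G} (hz : IsInt M z) (hw : IsInt M w) :
    red M (z + w) = red M z + red M w := by
  refine MonoidAlgebra.ext ?_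
  ext x
  simp [coeff_red, resk_add hM (hz x) (hw x)]

theorem red_smul (hM : IsPModular p M) {c : ℂ} (hc : MemLocalRing M c) {z : MonoidAlgebra ℂ G}
    (hz : IsInt M z) : red M (c • z) = resk M c • red M z := by
  refine MonoidAlgebra.ext ?_
  ext x
  simp [coeff_red, resk_mul hM hc (hz x)]

theorem red_mul (hM : IsPModular p M) {z w : MonoidAlgebra ℂ G} (hz : IsInt M z) (hw : IsInt M w) :
    red M (z * w) = red M z * red M w := by
  refine MonoidAlgebra.ext ?_
  ext x
  have e : (red M z * red M w).coeff x =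
      ∑ y : G, (red M z).coeff y * (red M w).coeff (y⁻¹ * x) := by
    rw [MonoidAlgebra.coeff_mul_apply_left,
      Finsupp.sum_fintype _ _ fun y => by simp]
  rw [coeff_red, coeff_mul_eq, e]
  have key : ∀ s : Finset G, resk M (∑ y ∈ s, z.coeff y * w.coeff (y⁻¹ * x)) =
      ∑ y ∈ s, (red M z).coeff y * (red M w).coeff (y⁻¹ * x) := by
    intro s
    induction s using Finset.induction_on with
    | empty => simp [resk_zero hM]
    | insert a s has ih =>
      rw [Finset.sum_insert has, Finset.sum_insert has, resk_add hM, ih, resk_mul hM (hz _) (hw _)]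
      · rfl
      · exact (localRing hM).mul_mem (hz _) (hw _)
      · exact (localRing hM).sum_mem fun y _ => (localRing hM).mul_mem (hz _) (hw _)
  exact key Finset.univ

theorem red_eq_zero_iff (hM : IsPModular p M) {z : MonoidAlgebra ℂ G} (hz : IsInt M z) :
    red M z = 0 ↔ Small M z := by
  refine ⟨fun h x => ?_, fun h => MonoidAlgebra.ext (Finsupp.ext fun x => ?_)⟩
  · have := congrArg (fun t : MonoidAlgebra (kk M) G => t.coeff x) h
    exact (resk_eq_zero_iff hM (hz x)).mp (by simpa [coeff_red] using this)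
  · rw [coeff_red, (resk_eq_zero_iff hM (hz x)).mpr (h x)]
    simp

theorem red_sub (hM : IsPModular p M) {z w : MonoidAlgebra ℂ G} (hz : IsInt M z) (hw : IsInt M w) :
    red M (z - w) = red M z - red M w := by
  rw [eq_sub_iff_add_eq, ← red_add hM (IsInt.sub hM hz hw) hw, sub_add_cancel]

theorem red_pow (hM : IsPModular p M) {z : MonoidAlgebra ℂ G} (hz : IsInt M z) :
    ∀ n, red M (z ^ n) = red M z ^ n
  | 0 => by rw [pow_zero, pow_zero, red_one hM]
  | n + 1 => by rw [pow_succ, pow_succ, red_mul hM (isInt_pow hM hz n) hz, red_pow hM hz n]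

/-- The Brauer map at `Q`. -/
noncomputable def br (M : Ideal AlgInt) (Q : Subgroup G) (z : MonoidAlgebra ℂ G) :
    MonoidAlgebra (kk M) (Cen Q) :=
  red M (res (Cen Q) z)

theorem coeff_br (Q : Subgroup G) (z : MonoidAlgebra ℂ G) (x : Cen Q) :
    (br M Q z).coeff x = resk M (z.coeff x) := rfl

variable {Q : Subgroup G} {z w : MonoidAlgebra ℂ G}

theorem br_one (hM : IsPModular p M) (Q : Subgroup G) : br M Q (1 : MonoidAlgebra ℂ G) = 1 := by
  rw [br, res_one, red_one hM]

theorem br_zero (hM : IsPModular p M) (Q : Subgroup G) : br M Q (0 : MonoidAlgebra ℂ G) = 0 := by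
  rw [br, map_zero, red_zero hM]

theorem br_add (hM : IsPModular p M) (Q : Subgroup G) (hz : IsInt M z) (hw : IsInt M w) :
    br M Q (z + w) = br M Q z + br M Q w := by
  rw [br, map_add, red_add hM (isInt_res _ hz) (isInt_res _ hw)]; rfl

theorem br_sub (hM : IsPModular p M) (Q : Subgroup G) (hz : IsInt M z) (hw : IsInt M w) :
    br M Q (z - w) = br M Q z - br M Q w := by
  rw [br, map_sub, red_sub hM (isInt_res _ hz) (isInt_res _ hw)]; rfl

theorem br_smul (hM : IsPModular p M) (Q : Subgroup G) {c : ℂ} (hc : MemLocalRing M c)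
    (hz : IsInt M z) : br M Q (c • z) = resk M c • br M Q z := by
  rw [br, map_smul, red_smul hM hc (isInt_res _ hz)]; rfl

theorem br_mul (hM : IsPModular p M) (hQ : IsPGroup p Q) (hzQ : InvBy Q z) (hwQ : InvBy Q w)
    (hz : IsInt M z) (hw : IsInt M w) : br M Q (z * w) = br M Q z * br M Q w := by
  have h := (red_eq_zero_iff hM (IsInt.sub hM (isInt_res _ (IsInt.mul hM hz hw))
    (IsInt.mul hM (isInt_res _ hz) (isInt_res _ hw)))).mpr (small_res_mul hM hQ hzQ hwQ hz hw)
  rw [red_sub hM (isInt_res _ (IsInt.mul hM hz hw)) (IsInt.mul hM (isInt_res _ hz) (isInt_res _ hw)),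
    sub_eq_zero, red_mul hM (isInt_res _ hz) (isInt_res _ hw)] at h
  exact h

theorem br_pow (hM : IsPModular p M) (hQ : IsPGroup p Q) (hzQ : InvBy Q z) (hz : IsInt M z) :
    ∀ n, br M Q (z ^ n) = br M Q z ^ n
  | 0 => by rw [pow_zero, pow_zero, br_one hM]
  | n + 1 => by
    rw [pow_succ, pow_succ, br_mul hM hQ (invBy_pow hzQ n) hzQ (isInt_pow hM hz n) hz,
      br_pow hM hQ hzQ hz n]

theorem br_eq_zero_iff (hM : IsPModular p M) (hz : IsInt M z) :
    br M Q z = 0 ↔ ∀ x ∈ Cen Q, MemLocalIdeal M (z.coeff x) := by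
  rw [br, red_eq_zero_iff hM (isInt_res _ hz)]
  exact ⟨fun h x hx => h ⟨x, hx⟩, fun h x => h x x.2⟩

theorem br_of_small (hM : IsPModular p M) (hz : IsInt M z) (hs : Small M z) : br M Q z = 0 :=
  (br_eq_zero_iff hM hz).mpr fun x _ => hs x

/-- Block idempotents of the centraliser are central in the Brauer image. -/
theorem br_eb_comm (hM : IsPModular p M) {f : Set (IrrCharacter (Cen Q))} (hf : IsPBlock M f)
    (hz : IsInt M z) :
    br M Q (eb (Cen Q) f) * br M Q z = br M Q z * br M Q (eb (Cen Q) f) := by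
  simp only [br, res_eb]
  rw [← red_mul hM (isInt_idem hM hf) (isInt_res _ hz), (isCen_idem f).comm,
    red_mul hM (isInt_res _ hz) (isInt_idem hM hf)]

end Cfsg.Agent.Star80Res
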