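import Mathlib
import Cfsg.Agent.Lib.Star80Res
import Cfsg.Agent.Lib.BrauerPairs81Conj

/-!
Idempotents fixed by a subgroup in the locally integral group algebra: spectral idempotents,
primitive idempotents and the locality of their corners.
-/

set_option autoImplicit false
set_option linter.unusedSectionVars false

namespace Cfsg.Agent.Star80Spec

open Cfsg Cfsg.Agent.BlockTheoryLocalRing Cfsg.Agent.BlockTheoryCentre
open Cfsg.Agent.BlockTheoryIdem Cfsg.Agent.BlockTheoryBrauer
open Cfsg.Agent.BrauerPairs81Base Cfsg.Agent.BrauerPairs81Pairs Cfsg.Agent.BrauerPairs81Conj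
open Cfsg.Agent.Star80Res Polynomial

attribute [local instance] Classical.propDecidable

variable {p : ℕ} {M : Ideal AlgInt} {G : Type*} [Group G] [Fintype G]

/-- A locally integral idempotent fixed by `Q`. -/
def Idp (M : Ideal AlgInt) (Q : Subgroup G) (i : MonoidAlgebra ℂ G) : Prop :=
  i * i = i ∧ IsInt M i ∧ InvBy Q i

/-- A locally integral element fixed by `Q` in the corner of `i`. -/
def Cn (M : Ideal AlgInt) (Q : Subgroup G) (i z : MonoidAlgebra ℂ G) : Prop :=
  IsInt M z ∧ InvBy Q z ∧ i * z = z ∧ z * i = z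

/-- Nilpotent modulo the ideal. -/
def NilM (M : Ideal AlgInt) (z : MonoidAlgebra ℂ G) : Prop := ∃ N, Small M (z ^ (N + 1))

variable {Q R : Subgroup G} {i j a b c : MonoidAlgebra ℂ G}

theorem Cn.mono (h : R ≤ Q) (ha : Cn M Q i a) : Cn M R i a :=
  ⟨ha.1, invBy_mono h ha.2.1, ha.2.2⟩

theorem Idp.mono (h : R ≤ Q) (hi : Idp M Q i) : Idp M R i :=
  ⟨hi.1, hi.2.1, invBy_mono h hi.2.2⟩

theorem Idp.cn (hi : Idp M Q i) : Cn M Q i i := ⟨hi.2.1, hi.2.2, hi.1, hi.1⟩

theorem invBy_zero (Q : Subgroup G) : InvBy Q (0 : MonoidAlgebra ℂ G) := fun u _ x => by simp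

theorem invBy_add {z w : MonoidAlgebra ℂ G} (hz : InvBy Q z) (hw : InvBy Q w) :
    InvBy Q (z + w) := fun u hu x => by simp [hz u hu x, hw u hu x]

theorem invBy_sum {ι : Type*} {s : Finset ι} {f : ι → MonoidAlgebra ℂ G}
    (h : ∀ k ∈ s, InvBy Q (f k)) : InvBy Q (∑ k ∈ s, f k) :=
  Finset.sum_induction f _ (fun _ _ => invBy_add) (invBy_zero Q) h

theorem isInt_sum (hM : IsPModular p M) {ι : Type*} {s : Finset ι} {f : ι → MonoidAlgebra ℂ G}
    (h : ∀ k ∈ s, IsInt M (f k)) : IsInt M (∑ k ∈ s, f k) :=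
  Finset.sum_induction f _ (fun _ _ => IsInt.add hM) (isInt_zero hM) h

theorem cn_zero (hM : IsPModular p M) : Cn M Q i 0 :=
  ⟨isInt_zero hM, invBy_zero Q, mul_zero i, zero_mul i⟩

theorem Cn.add (hM : IsPModular p M) (ha : Cn M Q i a) (hb : Cn M Q i b) : Cn M Q i (a + b) :=
  ⟨IsInt.add hM ha.1 hb.1, invBy_add ha.2.1 hb.2.1, by rw [mul_add, ha.2.2.1, hb.2.2.1],
    by rw [add_mul, ha.2.2.2, hb.2.2.2]⟩

theorem Cn.sub (hM : IsPModular p M) (ha : Cn M Q i a) (hb : Cn M Q i b) : Cn M Q i (a - b) :=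
  ⟨IsInt.sub hM ha.1 hb.1, invBy_sub ha.2.1 hb.2.1, by rw [mul_sub, ha.2.2.1, hb.2.2.1],
    by rw [sub_mul, ha.2.2.2, hb.2.2.2]⟩

theorem Cn.mul (hM : IsPModular p M) (ha : Cn M Q i a) (hb : Cn M Q i b) : Cn M Q i (a * b) :=
  ⟨IsInt.mul hM ha.1 hb.1, invBy_mul ha.2.1 hb.2.1, by rw [← mul_assoc, ha.2.2.1],
    by rw [mul_assoc, hb.2.2.2]⟩

theorem Cn.smul (hM : IsPModular p M) {r : ℂ} (hr : MemLocalRing M r) (ha : Cn M Q i a) :
    Cn M Q i (r • a) :=
  ⟨IsInt.smul hM hr ha.1, invBy_smul ha.2.1 r, by rw [mul_smul_comm, ha.2.2.1],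
    by rw [smul_mul_assoc, ha.2.2.2]⟩

theorem Cn.sandwich (hM : IsPModular p M) (hi : Idp M Q i) {z : MonoidAlgebra ℂ G}
    (hz : IsInt M z) (hzQ : InvBy Q z) : Cn M Q i (i * z * i) :=
  ⟨IsInt.mul hM (IsInt.mul hM hi.2.1 hz) hi.2.1, invBy_mul (invBy_mul hi.2.2 hzQ) hi.2.2,
    by rw [← mul_assoc, ← mul_assoc, hi.1], by rw [mul_assoc, hi.1]⟩

/-- The `Q`-fixed locally integral elements as an algebra over the local ring. -/
noncomputable def alg (hM : IsPModular p M) (Q : Subgroup G) :
    Subalgebra (localRing hM) (MonoidAlgebra ℂ G) where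
  carrier := {z | IsInt M z ∧ InvBy Q z}
  mul_mem' ha hb := ⟨IsInt.mul hM ha.1 hb.1, invBy_mul ha.2 hb.2⟩
  add_mem' ha hb := ⟨IsInt.add hM ha.1 hb.1, invBy_add ha.2 hb.2⟩
  one_mem' := ⟨isInt_one hM, IsCen.invBy isCen_one Q⟩
  zero_mem' := ⟨isInt_zero hM, invBy_zero Q⟩
  algebraMap_mem' r := by
    rw [Algebra.algebraMap_eq_smul_one]
    exact ⟨IsInt.smul hM r.2 (isInt_one hM), invBy_smul (IsCen.invBy isCen_one Q) _⟩

theorem mem_alg {hM : IsPModular p M} {z : MonoidAlgebra ℂ G} :
    z ∈ alg hM Q ↔ IsInt M z ∧ InvBy Q z := Iff.rfl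

theorem aeval_mem (hM : IsPModular p M) (ha : IsInt M a) (haQ : InvBy Q a)
    (F : (localRing hM)[X]) : IsInt M (aeval a F) ∧ InvBy Q (aeval a F) :=
  mem_alg.mp ((Algebra.adjoin_le (S := alg hM Q)
    (Set.singleton_subset_iff.mpr ⟨ha, haQ⟩)) (aeval_mem_adjoin_singleton _ a))

theorem commute_aeval (hM : IsPModular p M) {w : MonoidAlgebra ℂ G} (h : Commute w a)
    (F : (localRing hM)[X]) : Commute w (aeval a F) := by
  induction F using Polynomial.induction_on' with
  | add F F' hF hF' => rw [map_add]; exact hF.add_right hF'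
  | monomial n r =>
    rw [aeval_monomial]
    exact Commute.mul_right (Algebra.commutes r w).symm (h.pow_right n)

/-- A locally integral element is integral over the local ring. -/
theorem isIntegral_of_isInt (hM : IsPModular p M) (ha : IsInt M a) :
    IsIntegral (localRing hM) a := by
  refine IsIntegral.of_mem_of_fg (alg hM (⊥ : Subgroup G)) ?_ a ⟨ha, fun u hu x => by
    rw [Subgroup.mem_bot.mp hu]; simp⟩
  refine ⟨Finset.univ.image fun g : G => MonoidAlgebra.single g (1 : ℂ), ?_⟩
  refine le_antisymm (Submodule.span_le.mpr ?_) fun z hz => ?_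
  · rintro _ hs
    obtain ⟨g, -, rfl⟩ := Finset.mem_image.mp (Finset.mem_coe.mp hs)
    exact ⟨isInt_single hM g (localRing hM).one_mem, fun u hu x => by
      rw [Subgroup.mem_bot.mp hu]; simp⟩
  · rw [eq_sum_single z]
    refine Submodule.sum_mem _ fun g _ => ?_
    have e : MonoidAlgebra.single g (z.coeff g) =
        (⟨z.coeff g, hz.1 g⟩ : localRing hM) • MonoidAlgebra.single g (1 : ℂ) := by
      show _ = z.coeff g • MonoidAlgebra.single g (1 : ℂ)
      rw [MonoidAlgebra.smul_single, smul_eq_mul, mul_one]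
    rw [e]
    exact Submodule.smul_mem _ _ (Submodule.subset_span
      (Finset.mem_coe.mpr (Finset.mem_image_of_mem _ (Finset.mem_univ g))))

theorem aeval_X_sub_C (hM : IsPModular p M) (r : localRing hM) :
    aeval a (X - C r) = a - (r : ℂ) • (1 : MonoidAlgebra ℂ G) := by
  rw [map_sub, aeval_X, aeval_C, Algebra.algebraMap_eq_smul_one]
  rfl

theorem small_prod_sub (hM : IsPModular p M) (ha : IsInt M a) (r : localRing hM)
    (s : Multiset (localRing hM)) (hs : ∀ x ∈ s, MemLocalIdeal M ((x : ℂ) - r)) :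
    Small M (aeval a (s.map fun x => X - C x).prod - (a - (r : ℂ) • 1) ^ Multiset.card s) := by
  induction s using Multiset.induction_on with
  | empty => simpa using small_zero hM
  | cons x s ih =>
    rw [Multiset.map_cons, Multiset.prod_cons, map_mul, Multiset.card_cons, pow_succ', aeval_X_sub_C]
    refine small_mul_sub hM ?_ (ih fun y hy => hs y (Multiset.mem_cons_of_mem hy)) ?_ ?_
    · intro g
      have e : a - (x : ℂ) • (1 : MonoidAlgebra ℂ G) - (a - (r : ℂ) • 1) =
          -(((x : ℂ) - r) • (1 : MonoidAlgebra ℂ G)) := by rw [sub_smul]; abel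
      rw [e]
      simpa using ideal_neg (ideal_mul_right hM (hs x (Multiset.mem_cons_self x s))
        (isInt_one hM (G := G) g))
    · exact (aeval_mem hM ha (Q := ⊥) (fun u hu y => by rw [Subgroup.mem_bot.mp hu]; simp) _).1
    · exact IsInt.sub hM ha (IsInt.smul hM r.2 (isInt_one hM))

/-- Monic annihilating polynomials over the local ring split. -/
theorem exists_roots (hM : IsPModular p M) {F : (localRing hM)[X]} (hF : F.Monic) :
    ∃ s : Multiset (localRing hM), F = (s.map fun x => X - C x).prod := by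
  set f := F.map (localRing hM).subtype
  have hf : f.Monic := hF.map _
  have hroot : ∀ z ∈ f.roots, MemLocalRing M z := fun z hz => by
    refine mem_localRing_of_root hM ⟨F, hF, ?_⟩
    have := isRoot_of_mem_roots hz
    rwa [IsRoot.def, eval_map] at this
  have hrec : ∀ t : Multiset ℂ, (∀ z ∈ t, MemLocalRing M z) →
      ∃ s : Multiset (localRing hM), s.map (localRing hM).subtype = t := by
    intro t
    induction t using Multiset.induction_on with
    | empty => exact fun _ => ⟨0, rfl⟩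
    | cons z t ih =>
      intro h
      obtain ⟨s, hs⟩ := ih fun y hy => h y (Multiset.mem_cons_of_mem hy)
      exact ⟨(⟨z, h z (Multiset.mem_cons_self z t)⟩ : localRing hM) ::ₘ s,
        (Multiset.map_cons _ _ _).trans (congrArg (z ::ₘ ·) hs)⟩
  obtain ⟨s, hs⟩ := hrec f.roots hroot
  refine ⟨s, map_injective (localRing hM).subtype Subtype.val_injective ?_⟩
  conv_lhs => rw [show F.map (localRing hM).subtype = f from rfl,
    (IsAlgClosed.splits f).eq_prod_roots_of_monic hf, ← hs]
  rw [Polynomial.map_multiset_prod, Multiset.map_map, Multiset.map_map]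
  congr 1
  refine Multiset.map_congr rfl fun z _ => ?_
  simp

set_option maxHeartbeats 1000000 in
/-- The spectral idempotent of `a` at a residue. -/
theorem spec (hM : IsPModular p M) (hi : Idp M Q i) (ha : Cn M Q i a) {r : ℂ}
    (hr : MemLocalRing M r) :
    ∃ e y, Idp M Q e ∧ Cn M Q i e ∧ Cn M Q i y ∧ Commute a y ∧ NilM M ((a - r • i) * e) ∧
      i - e = (a - r • i) * y ∧ ∀ w, Commute w a → Commute w i → Commute w e := by
  obtain ⟨F, hF, hFa⟩ := isIntegral_of_isInt hM ha.1
  change aeval a F = 0 at hFa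
  obtain ⟨s, rfl⟩ := exists_roots hM hF
  set r0 : localRing hM := ⟨r, hr⟩
  set P : localRing hM → Prop := fun x => MemLocalIdeal M ((x : ℂ) - r) with hP
  set f := ((s.filter P).map fun x => X - C x).prod with hfd
  set g := ((s.filter (¬ P ·)).map fun x => X - C x).prod with hgd
  have hfg : f * g = (s.map fun x => X - C x).prod := by
    rw [hfd, hgd, ← Multiset.prod_add, ← Multiset.map_add, Multiset.filter_add_not]
  have hunit : ∀ {x y : localRing hM}, ¬ MemLocalIdeal M ((x : ℂ) - y) → IsUnit (x - y) := by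
    intro x y h
    have h0 : ((x : ℂ) - y) ≠ 0 := fun e => h (e ▸ ideal_zero hM)
    refine isUnit_iff_exists_inv.mpr ⟨⟨_, inv_mem hM ((localRing hM).sub_mem x.2 y.2) h⟩,
      Subtype.ext ?_⟩
    show ((x : ℂ) - y) * ((x : ℂ) - y)⁻¹ = 1
    exact mul_inv_cancel₀ h0
  have hcop : IsCoprime f g := by
    rw [hfd, hgd]
    refine Multiset.prod_induction (fun q => IsCoprime q g) _ (fun _ _ => IsCoprime.mul_left)
      isCoprime_one_left fun q hq => ?_
    obtain ⟨x, hx, rfl⟩ := Multiset.mem_map.mp hq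
    refine Multiset.prod_induction (fun q => IsCoprime (X - C x) q) _
      (fun _ _ => IsCoprime.mul_right) isCoprime_one_right fun q hq => ?_
    obtain ⟨y, hy, rfl⟩ := Multiset.mem_map.mp hq
    refine isCoprime_X_sub_C_of_isUnit_sub (hunit fun h => ?_)
    refine (Multiset.mem_filter.mp hy).2 ?_
    show MemLocalIdeal M ((y : ℂ) - r)
    have := ideal_sub hM (Multiset.mem_filter.mp hx).2 h
    refine cast (congrArg _ ?_) this
    ring
  obtain ⟨u, v, huv⟩ := hcop
  have hai : Commute a i := by rw [commute_iff_eq, ha.2.2.2, ha.2.2.1]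
  have hmem : ∀ q : (localRing hM)[X], IsInt M (aeval a q) ∧ InvBy Q (aeval a q) :=
    aeval_mem hM ha.1 ha.2.1
  have hci : ∀ q : (localRing hM)[X], Commute i (aeval a q) := commute_aeval hM hai.symm
  have hca : ∀ q q' : (localRing hM)[X], Commute (aeval a q) (aeval a q') := fun q q' => by
    rw [commute_iff_eq, ← map_mul, ← map_mul, mul_comm]
  have hcn : ∀ q, Cn M Q i (i * aeval a q) := fun q =>
    ⟨IsInt.mul hM hi.2.1 (hmem q).1, invBy_mul hi.2.2 (hmem q).2, by rw [← mul_assoc, hi.1],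
      by rw [mul_assoc, ← (hci q).eq, ← mul_assoc, hi.1]⟩
  have hmul : ∀ q q' : (localRing hM)[X], (i * aeval a q) * (i * aeval a q') = i * aeval a (q * q') := fun q q' => by
    rw [mul_assoc, ← mul_assoc (aeval a q), ← (hci q).eq, mul_assoc i (aeval a q), ← mul_assoc i i,
      hi.1, map_mul]
  have hfg0 : ∀ q, i * aeval a (f * g * q) = 0 := fun q => by
    rw [map_mul, hfg, hFa, zero_mul, mul_zero]
  set e := i * aeval a (v * g) with he
  have hee : e * e = e := by
    rw [he, hmul]
    have e1 : v * g * (v * g) = v * g - f * g * (u * v) := by linear_combination (v * g) * huv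
    rw [e1, map_sub, mul_sub, hfg0, sub_zero]
  have hie : i - e = i * aeval a (u * f) := by
    rw [show u * f = 1 - v * g by linear_combination huv, map_sub, map_one, mul_sub, mul_one]
  -- the unit part
  set g0 : localRing hM := g.eval r0
  have hg0 : IsUnit g0 := by
    simp only [g0, hgd, eval_multiset_prod, Multiset.map_map]
    refine Multiset.prod_induction IsUnit _ (fun _ _ => IsUnit.mul) isUnit_one fun q hq => ?_
    obtain ⟨x, hx, rfl⟩ := Multiset.mem_map.mp hq
    simp only [Function.comp_apply, eval_sub, eval_X, eval_C]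
    refine hunit fun h => (Multiset.mem_filter.mp hx).2 ?_
    show MemLocalIdeal M ((x : ℂ) - r)
    simpa [r0] using ideal_neg h
  obtain ⟨q, hq⟩ : X - C r0 ∣ g - C g0 := by
    simpa [g0] using X_sub_C_dvd_sub_C_eval
  obtain ⟨c0, hc0⟩ := hg0.exists_left_inv
  set y := i * aeval a (-(C c0) * q * (u * f)) with hy
  have har : a - r • i = i * aeval a (X - C r0) := by
    rw [aeval_X_sub_C, mul_sub, mul_smul_comm, mul_one, ha.2.2.1]
  refine ⟨e, y, ⟨hee, (hcn _).1, (hcn _).2.1⟩, hcn _, hcn _, ?_, ?_, ?_, fun w hwa hwi => ?_⟩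
  · exact (Commute.mul_right hai (commute_aeval hM (Commute.refl a) _))
  · refine ⟨Multiset.card (s.filter P), ?_⟩
    have hc : Commute (a - r • i) e := by
      rw [har, he, commute_iff_eq, hmul, hmul, mul_comm]
    have hs := small_prod_sub hM ha.1 r0 (s.filter P) fun x hx => (Multiset.mem_filter.mp hx).2
    rw [← hfd] at hs
    have h1 : ∀ n, ((a - r • i) * e) ^ (n + 1) = (a - r • i) ^ (n + 1) * e := by
      intro n
      rw [hc.mul_pow]
      congr 1
      induction n with
      | zero => rw [pow_one]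
      | succ n ih => rw [pow_succ, ih, hee]
    rw [h1, pow_succ', mul_assoc]
    have hpow : ∀ n, (a - r • i) ^ n * e = (a - r • (1 : MonoidAlgebra ℂ G)) ^ n * e := by
      intro n
      induction n with
      | zero => simp
      | succ n ih =>
        have e1 : (a - r • i) * e = (a - r • (1 : MonoidAlgebra ℂ G)) * e := by
          have hie' : i * e = e := by rw [he, ← mul_assoc, hi.1]
          rw [sub_mul, sub_mul, smul_mul_assoc, smul_mul_assoc, one_mul, hie']
        rw [pow_succ, pow_succ, mul_assoc, e1, ← mul_assoc, mul_assoc _ _ e]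
        have hc2 : Commute (a - r • (1 : MonoidAlgebra ℂ G)) e := by
          rw [← aeval_X_sub_C hM r0]
          exact (hci _).symm.mul_right (hca _ _)
        rw [hc2.eq, ← mul_assoc, ih, mul_assoc, ← hc2.eq, ← mul_assoc]
    rw [hpow]
    refine small_mul_left hM (IsInt.sub hM ha.1 (IsInt.smul hM hr hi.2.1)) ?_
    have h2 : aeval a f * e = 0 := by
      rw [he, ← mul_assoc, ← (hci f).eq, mul_assoc, ← map_mul,
        show f * (v * g) = f * g * v by ring, hfg0]
    have := small_mul_right hM hs (hcn (v * g)).1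
    rw [sub_mul, h2, zero_sub] at this
    intro x
    have h3 := ideal_neg (this x)
    rw [MonoidAlgebra.coeff_neg, Finsupp.neg_apply, neg_neg] at h3
    exact h3
  · have h3 : i * aeval a (g * (u * f)) = 0 := by
      rw [show g * (u * f) = f * g * u by ring, hfg0]
    have h4 : (X - C r0) * (-(C c0) * q * (u * f)) = u * f - C c0 * (g * (u * f)) := by
      have h5 : C c0 * C g0 = 1 := by rw [← C_mul, hc0, C_1]
      linear_combination (C c0 * (u * f)) * hq + (u * f) * h5
    rw [hie, hy, har, hmul, h4, map_sub, mul_sub, map_mul (aeval a) (C c0),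
      ← mul_assoc i (aeval a (C c0)), (hci (C c0)).eq, mul_assoc, h3, mul_zero, sub_zero]
  · exact Commute.mul_right hwi (commute_aeval hM hwa _)

/-! ### Primitive idempotents -/

/-- A primitive idempotent among those fixed by `Q`. -/
def Prim (M : Ideal AlgInt) (Q : Subgroup G) (i : MonoidAlgebra ℂ G) : Prop :=
  Idp M Q i ∧ i ≠ 0 ∧ ∀ e, Idp M Q e → i * e = e → e * i = e → e = 0 ∨ e = i

/-- A small idempotent vanishes. -/
theorem eq_zero_of_small (hM : IsPModular p M) (hi : i * i = i) (hint : IsInt M i)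
    (hs : Small M i) : i = 0 := by
  haveI := hM.2.1
  letI := Ideal.Quotient.field M
  set L : localRing hM →+* ℂ := (localRing hM).subtype
  set A : Matrix G G (localRing hM) := fun x y => (if x = y then 1 else 0) - ⟨i.coeff (x * y⁻¹), hint _⟩
  have hdet : A.det ≠ 0 := by
    intro h
    have h1 : (A.map (reskHom hM)) = 1 := by
      ext x y
      show resk M (((if x = y then (1 : localRing hM) else 0) : localRing hM) - i.coeff (x * y⁻¹) : ℂ) = _
      rw [sub_eq_add_neg, resk_add hM _ ((localRing hM).neg_mem (hint _)),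
        (resk_eq_zero_iff hM ((localRing hM).neg_mem (hint _))).mpr (ideal_neg (hs _)), add_zero]
      · rw [Matrix.one_apply]
        split_ifs
        exacts [resk_one hM, resk_zero hM]
      · exact (if x = y then (1 : localRing hM) else 0).2
    have := (reskHom hM).map_det A
    rw [h, map_zero] at this
    rw [show (reskHom hM).mapMatrix A = A.map (reskHom hM) from rfl, h1, Matrix.det_one] at this
    exact zero_ne_one this
  have hdetC : (A.map L).det ≠ 0 := by
    rw [show A.map L = L.mapMatrix A from rfl, ← RingHom.map_det]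
    exact fun h => hdet (Subtype.ext h)
  have hv := Matrix.eq_zero_of_mulVec_eq_zero hdetC (v := fun x => i.coeff x) ?_
  · exact MonoidAlgebra.ext (Finsupp.ext fun x => by simpa using congrFun hv x)
  funext x
  have hix : ∑ y, i.coeff (x * y⁻¹) * i.coeff y = i.coeff x := by
    conv_rhs => rw [← hi, coeff_mul_eq]
    refine Fintype.sum_equiv ((Equiv.inv G).trans (Equiv.mulLeft x)) _ _ fun y => ?_
    simp
  have hA : ∀ y, L (A x y) = (if x = y then 1 else 0) - i.coeff (x * y⁻¹) := by
    intro y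
    show ((((if x = y then (1 : localRing hM) else 0) - ⟨i.coeff (x * y⁻¹), hint _⟩ : localRing hM)) : ℂ) = _
    split_ifs <;> rfl
  simp only [Matrix.mulVec, dotProduct, Matrix.map_apply, hA, sub_mul, ite_mul, one_mul, zero_mul,
    Finset.sum_sub_distrib, Finset.sum_ite_eq, Finset.mem_univ, if_true, hix, sub_self, Pi.zero_apply]

theorem pow_idem (hi : i * i = i) : ∀ n, i ^ (n + 1) = i
  | 0 => pow_one i
  | n + 1 => by rw [pow_succ, pow_idem hi n, hi]

theorem not_nilM_idem (hM : IsPModular p M) (hi : i * i = i) (hint : IsInt M i) (h0 : i ≠ 0) :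
    ¬ NilM M i := fun ⟨N, hN⟩ => h0 (eq_zero_of_small hM hi hint (pow_idem hi N ▸ hN))

theorem nilM_zero (hM : IsPModular p M) : NilM M (0 : MonoidAlgebra ℂ G) :=
  ⟨0, by simpa using small_zero hM⟩

theorem nilM_of_small (hs : Small M a) : NilM M a := ⟨0, by simpa using hs⟩

theorem pow_mul_swap (a b : MonoidAlgebra ℂ G) :
    ∀ n, (a * b) ^ (n + 1) = a * (b * a) ^ n * b
  | 0 => by simp
  | n + 1 => by rw [pow_succ, pow_mul_swap a b n, pow_succ (b * a)]; simp only [mul_assoc]

/-- Products in either order are nilpotent together. -/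
theorem nilM_swap (hM : IsPModular p M) (ha : IsInt M a) (hb : IsInt M b)
    (h : NilM M (b * a)) : NilM M (a * b) := by
  obtain ⟨N, hN⟩ := h
  exact ⟨N + 1, by rw [pow_mul_swap]; exact small_mul_right hM (small_mul_left hM ha hN) hb⟩

theorem nilM_swap_iff (hM : IsPModular p M) (ha : IsInt M a) (hb : IsInt M b) :
    NilM M (a * b) ↔ NilM M (b * a) :=
  ⟨nilM_swap hM hb ha, nilM_swap hM ha hb⟩

/-- An element that is not nilpotent in a primitive corner is invertible there. -/
theorem exists_inv (hM : IsPModular p M) (hi : Prim M Q i) (ha : Cn M Q i a) (h : ¬ NilM M a) :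
    ∃ d, Cn M Q i d ∧ a * d = i ∧ d * a = i := by
  obtain ⟨e, y, he, hce, hy, hay, hnil, hey, -⟩ := spec hM hi.1 ha (localRing hM).zero_mem
  simp only [zero_smul, sub_zero] at hnil hey
  rcases hi.2.2 e he hce.2.2.1 hce.2.2.2 with h0 | h1
  · rw [h0, sub_zero] at hey
    exact ⟨y, hy, hey.symm, by rw [← hay.eq, ← hey]⟩
  · rw [h1, ha.2.2.2] at hnil
    exact absurd hnil h

theorem nilM_mul_left (hM : IsPModular p M) (hi : Prim M Q i) (hc : Cn M Q i c) (ha : Cn M Q i a)
    (h : NilM M a) : NilM M (c * a) := by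
  by_contra hn
  obtain ⟨d, hd, -, hd2⟩ := exists_inv hM hi (hc.mul hM ha) hn
  set w := d * c with hw
  have hwc : Cn M Q i w := hd.mul hM hc
  have hwa : w * a = i := by rw [hw, mul_assoc, hd2]
  have hkey : ∀ n, w ^ (n + 1) * a ^ (n + 1) = i := by
    intro n
    induction n with
    | zero => simpa using hwa
    | succ n ih =>
      rw [pow_succ w, pow_succ' a, mul_assoc, ← mul_assoc w, hwa, pow_succ' a, ← mul_assoc i,
        ha.2.2.1, ← pow_succ' a, ih]
  obtain ⟨N, hN⟩ := h
  exact hi.2.1 (eq_zero_of_small hM hi.1.1 hi.1.2.1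
    (hkey N ▸ small_mul_left hM (isInt_pow hM hwc.1 _) hN))

theorem nilM_mul_right (hM : IsPModular p M) (hi : Prim M Q i) (hc : Cn M Q i c) (ha : Cn M Q i a)
    (h : NilM M a) : NilM M (a * c) :=
  nilM_swap hM ha.1 hc.1 (nilM_mul_left hM hi hc ha h)

theorem nilM_neg (h : NilM M a) : NilM M (-a) := by
  obtain ⟨N, hN⟩ := h
  refine ⟨N, ?_⟩
  rcases neg_one_pow_eq_or (MonoidAlgebra ℂ G) (N + 1) with e | e <;> rw [neg_pow, e]
  · rwa [one_mul]
  · intro x; simpa using ideal_neg (hN x)

theorem nilM_add (hM : IsPModular p M) (hi : Prim M Q i) (ha : Cn M Q i a) (hb : Cn M Q i b)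
    (hna : NilM M a) (hnb : NilM M b) : NilM M (a + b) := by
  by_contra hn
  obtain ⟨d, hd, -, hd2⟩ := exists_inv hM hi (ha.add hM hb) hn
  rw [mul_add] at hd2
  have h1 := nilM_mul_left hM hi hd ha hna
  obtain ⟨N, hN⟩ := nilM_mul_left hM hi hd hb hnb
  set x := d * a
  set z := d * b
  obtain ⟨L, hL⟩ := h1
  -- `i = x + z` with commuting nilpotent summands
  have hzx : z = i - x := eq_sub_of_add_eq' hd2
  have hxc : Cn M Q i x := hd.mul hM ha
  have hcomm : Commute x z := by
    rw [hzx, commute_iff_eq, mul_sub, sub_mul, hxc.2.2.1, hxc.2.2.2]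
  have hs : Small M ((x + z) ^ (L + 1 + (N + 1))) := by
    rw [hcomm.add_pow]
    refine Finset.sum_induction _ _ (fun _ _ => small_add hM) (small_zero hM) fun k _ => ?_
    refine small_mul_right hM ?_ (fun g => ?_)
    · rcases le_or_gt (L + 1) k with hk | hk
      · obtain ⟨t, rfl⟩ := Nat.exists_eq_add_of_le hk
        rw [pow_add]
        exact small_mul_right hM (small_mul_right hM hL (isInt_pow hM hxc.1 t))
          (isInt_pow hM (hd.mul hM hb).1 _)
      · obtain ⟨t, ht⟩ := Nat.exists_eq_add_of_le (show N + 1 ≤ L + 1 + (N + 1) - k by omega)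
        rw [ht, pow_add]
        exact small_mul_left hM (isInt_pow hM hxc.1 k)
          (small_mul_right hM hN (isInt_pow hM (hd.mul hM hb).1 t))
    · rw [MonoidAlgebra.natCast_def, MonoidAlgebra.coeff_single, Finsupp.single_apply]
      split_ifs
      exacts [natCast_mem (localRing hM) _, (localRing hM).zero_mem]
  rw [hd2, show L + 1 + (N + 1) = (L + N + 1) + 1 by omega, pow_idem hi.1.1] at hs
  exact hi.2.1 (eq_zero_of_small hM hi.1.1 hi.1.2.1 hs)

theorem nilM_sub (hM : IsPModular p M) (hi : Prim M Q i) (ha : Cn M Q i a) (hb : Cn M Q i b)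
    (hna : NilM M a) (hnb : NilM M b) : NilM M (a - b) := by
  rw [sub_eq_add_neg]
  exact nilM_add hM hi ha ((zero_sub b) ▸ (cn_zero hM).sub hM hb) hna (nilM_neg hnb)

theorem exists_unit_summand (hM : IsPModular p M) (hi : Prim M Q i) {ι : Type*} (s : Finset ι)
    (f : ι → MonoidAlgebra ℂ G) (hf : ∀ k ∈ s, Cn M Q i (f k)) (h : ¬ NilM M (∑ k ∈ s, f k)) :
    ∃ k ∈ s, ¬ NilM M (f k) := by
  by_contra! hall
  refine h ?_
  exact (Finset.sum_induction f (fun z => Cn M Q i z ∧ NilM M z)
    (fun a b ha hb => ⟨ha.1.add hM hb.1, nilM_add hM hi ha.1 hb.1 ha.2 hb.2⟩)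
    ⟨cn_zero hM, nilM_zero hM⟩ fun k hk => ⟨hf k hk, hall k hk⟩).2

/-- Every element of a primitive corner is a scalar up to a nilpotent one. -/
theorem exists_residue (hM : IsPModular p M) (hi : Prim M Q i) (ha : Cn M Q i a) :
    ∃ r, MemLocalRing M r ∧ NilM M (a - r • i) := by
  have hex : ∃ n, ∃ F : (localRing hM)[X], F.Monic ∧ F.natDegree = n ∧ i * aeval a F = 0 := by
    obtain ⟨F, hF, hFa⟩ := isIntegral_of_isInt hM ha.1
    exact ⟨_, F, hF, rfl, by rw [show aeval a F = 0 from hFa, mul_zero]⟩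
  obtain ⟨F, hF, hdeg, hFi⟩ := Nat.find_spec hex
  obtain ⟨s, rfl⟩ := exists_roots hM hF
  rcases Multiset.empty_or_exists_mem s with rfl | ⟨r, hr⟩
  · exact absurd (by simpa using hFi) hi.2.1
  obtain ⟨t, rfl⟩ := Multiset.exists_cons_of_mem hr
  refine ⟨r, r.2, ?_⟩
  obtain ⟨e, y, he, hce, hy, hay, hnil, hey, -⟩ := spec hM hi.1 ha r.2
  rcases hi.2.2 e he hce.2.2.1 hce.2.2.2 with h0 | h1
  · exfalso
    rw [h0, sub_zero] at hey
    have hm : ((t.map fun x => X - C x).prod).Monic :=
      monic_multiset_prod_of_monic _ _ fun x _ => monic_X_sub_C x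
    refine Nat.find_min hex (m := (t.map fun x => X - C x).prod.natDegree) ?_ ⟨_, hm, rfl, ?_⟩
    · rw [← hdeg, Multiset.map_cons, Multiset.prod_cons, (monic_X_sub_C r).natDegree_mul hm,
        natDegree_X_sub_C]
      omega
    · set q := aeval a (t.map fun x => X - C x).prod
      have hiy : (a - (r : ℂ) • i) * y = y * (a - (r : ℂ) • i) := by
        rw [mul_sub, sub_mul, hay.eq, smul_mul_assoc, mul_smul_comm, hy.2.2.1, hy.2.2.2]
      have hai : (a - (r : ℂ) • i) = i * aeval a (X - C r) := by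
        rw [aeval_X_sub_C, mul_sub, mul_smul_comm, mul_one, ha.2.2.1]
      calc i * q = y * (a - (r : ℂ) • i) * q := by rw [← hiy, ← hey]
        _ = y * (i * aeval a (((r ::ₘ t).map fun x => X - C x)).prod) := by
            rw [hai, Multiset.map_cons, Multiset.prod_cons, map_mul, mul_assoc, mul_assoc]
        _ = 0 := by rw [hFi, mul_zero]
  · rw [h1, sub_mul, ha.2.2.2, smul_mul_assoc, hi.1.1] at hnil
    exact hnil

/-- Smaller idempotents have smaller rank. -/
noncomputable def rk (i : MonoidAlgebra ℂ G) : ℕ :=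
  Module.finrank ℂ (LinearMap.range (LinearMap.mulLeft ℂ i))

theorem rk_lt {e : MonoidAlgebra ℂ G} (hi : i * i = i) (he : e * e = e) (h1 : i * e = e)
    (h2 : e * i = e) (hne : e ≠ i) : rk e < rk i := by
  refine Submodule.finrank_lt_finrank_of_lt ?_
  refine lt_of_le_of_ne ?_ fun h => hne ?_
  · rintro _ ⟨x, rfl⟩
    exact ⟨e * x, by simp [LinearMap.mulLeft_apply, ← mul_assoc, h1]⟩
  · obtain ⟨x, hx⟩ : i ∈ LinearMap.range (LinearMap.mulLeft ℂ e) := h ▸ ⟨i, by simp [hi]⟩
    simp only [LinearMap.mulLeft_apply] at hx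
    calc e = e * i := h2.symm
      _ = e * (e * x) := by rw [hx]
      _ = i := by rw [← mul_assoc, he, hx]

/-- Induction along decompositions into primitive idempotents. -/
theorem idem_induction (hM : IsPModular p M) (Q : Subgroup G) {Pr : MonoidAlgebra ℂ G → Prop}
    (h0 : Pr 0)
    (hadd : ∀ e e', Idp M Q e → Idp M Q e' → e * e' = 0 → e' * e = 0 → Pr e → Pr e' → Pr (e + e'))
    (hprim : ∀ i, Prim M Q i → Pr i) {i : MonoidAlgebra ℂ G} (hi : Idp M Q i) : Pr i := by
  induction hn : rk i using Nat.strong_induction_on generalizing i with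
  | _ n ih =>
    by_cases hi0 : i = 0
    · rw [hi0]; exact h0
    by_cases hp : ∀ e, Idp M Q e → i * e = e → e * i = e → e = 0 ∨ e = i
    · exact hprim i ⟨hi, hi0, hp⟩
    push Not at hp
    obtain ⟨e, he, h1, h2, hne0, hne⟩ := hp
    have he' : Idp M Q (i - e) := ⟨by
      simp only [mul_sub, sub_mul, hi.1, h1, h2, he.1]; abel,
      IsInt.sub hM hi.2.1 he.2.1, invBy_sub hi.2.2 he.2.2⟩
    have := hadd e (i - e) he he' (by rw [mul_sub, h2, he.1, sub_self])
      (by rw [sub_mul, h1, he.1, sub_self]) (ih _ (hn ▸ rk_lt hi.1 he.1 h1 h2 hne) he rfl)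
      (ih _ (hn ▸ rk_lt hi.1 he'.1 (by rw [mul_sub, hi.1, h1]) (by rw [sub_mul, hi.1, h2])
        (fun h => hne0 (by simpa using h))) he' rfl)
    rwa [add_sub_cancel] at this

theorem cjA_mul' (g : G) (z w : MonoidAlgebra ℂ G) : cjA g (z * w) = cjA g z * cjA g w := by
  refine MonoidAlgebra.ext (Finsupp.ext fun x => ?_)
  simp only [coeff_cjA, coeff_mul_eq]
  rw [← Equiv.sum_comp (MulAut.conj g⁻¹).toEquiv]
  refine Finset.sum_congr rfl fun y _ => ?_
  simp only [MulEquiv.toEquiv_eq_coe, MulEquiv.coe_toEquiv, MulAut.conj_apply, inv_inv]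
  congr 2
  group

theorem cjA_add (g : G) (z w : MonoidAlgebra ℂ G) : cjA g (z + w) = cjA g z + cjA g w :=
  MonoidAlgebra.ext (Finsupp.ext fun x => by simp [coeff_cjA])

theorem cjA_zero (g : G) : cjA g (0 : MonoidAlgebra ℂ G) = 0 :=
  MonoidAlgebra.ext (Finsupp.ext fun x => by simp [coeff_cjA])

theorem cjA_smul (g : G) (r : ℂ) (z : MonoidAlgebra ℂ G) : cjA g (r • z) = r • cjA g z :=
  MonoidAlgebra.ext (Finsupp.ext fun x => by simp [coeff_cjA])

theorem cjA_sub (g : G) (z w : MonoidAlgebra ℂ G) : cjA g (z - w) = cjA g z - cjA g w :=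
  MonoidAlgebra.ext (Finsupp.ext fun x => by simp [coeff_cjA])

theorem cjA_sum (g : G) {ι : Type*} (s : Finset ι) (f : ι → MonoidAlgebra ℂ G) :
    cjA g (∑ k ∈ s, f k) = ∑ k ∈ s, cjA g (f k) :=
  map_sum (AddMonoidHom.mk' (cjA g) (cjA_add g)) f s

theorem cjA_single (g x : G) (r : ℂ) :
    cjA g (MonoidAlgebra.single x r) = MonoidAlgebra.single (g * x * g⁻¹) r := by
  refine MonoidAlgebra.ext (Finsupp.ext fun y => ?_)
  simp only [coeff_cjA, MonoidAlgebra.coeff_single, Finsupp.single_apply]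
  refine if_congr ⟨fun h => ?_, fun h => ?_⟩ rfl rfl
  · rw [h]; group
  · rw [← h]; group

theorem isInt_cjA (g : G) (hz : IsInt M a) : IsInt M (cjA g a) := fun x => by
  rw [coeff_cjA]; exact hz _

theorem nilM_cjA (g : G) (h : NilM M a) : NilM M (cjA g a) := by
  obtain ⟨N, hN⟩ := h
  refine ⟨N, fun x => ?_⟩
  have e : ∀ n, cjA g a ^ (n + 1) = cjA g (a ^ (n + 1)) := by
    intro n
    induction n with
    | zero => simp
    | succ n ih => rw [pow_succ, ih, ← cjA_mul', ← pow_succ]
  rw [e, coeff_cjA]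
  exact hN _

end Cfsg.Agent.Star80Spec
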