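import Mathlib
import Cfsg.Agent.Lib.Star80Spec

/-!
Green's theorem for idempotents: a primitive idempotent which is a relative trace from a normal
subgroup of index `p` is the sum of orthogonal conjugates of one idempotent of that subgroup.
-/

set_option autoImplicit false
set_option linter.unusedSectionVars false

namespace Cfsg.Agent.Star80Green

open Cfsg Cfsg.Agent.BlockTheoryLocalRing Cfsg.Agent.BlockTheoryCentre
open Cfsg.Agent.BlockTheoryIdem Cfsg.Agent.BlockTheoryBrauer
open Cfsg.Agent.BrauerPairs81Base Cfsg.Agent.BrauerPairs81Pairs Cfsg.Agent.BrauerPairs81Conj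
open Cfsg.Agent.Star80Res Cfsg.Agent.Star80Spec

attribute [local instance] Classical.propDecidable

variable {p : ℕ} [Fact p.Prime] {M : Ideal AlgInt} {G : Type*} [Group G] [Fintype G]

/-- The data of a normal subgroup of index `p`. -/
structure Step (p : ℕ) (R U : Subgroup G) (t : G) : Prop where
  le : U ≤ R
  mem : t ∈ R
  norm : t ∈ Subgroup.normalizer (U : Set G)
  pow : t ^ p ∈ U
  gen : ∀ x ∈ R, ∃ (n : ℕ) (u : G), u ∈ U ∧ x = t ^ n * u

/-- The translate by a power of `t`. -/
noncomputable def sh (t : G) (k : ZMod p) (z : MonoidAlgebra ℂ G) : MonoidAlgebra ℂ G :=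
  cjA (t ^ k.val) z

variable {R U : Subgroup G} {t : G} {i j c z w : MonoidAlgebra ℂ G}

theorem sh_mul (k : ZMod p) (z w : MonoidAlgebra ℂ G) :
    sh t k (z * w) = sh t k z * sh t k w := cjA_mul' _ z w

theorem sh_sub (k : ZMod p) (z w : MonoidAlgebra ℂ G) :
    sh t k (z - w) = sh t k z - sh t k w := cjA_sub _ z w

theorem sh_smul (k : ZMod p) (r : ℂ) (z : MonoidAlgebra ℂ G) :
    sh t k (r • z) = r • sh t k z := cjA_smul _ r z

theorem sh_sum (k : ZMod p) {ι : Type*} (s : Finset ι) (f : ι → MonoidAlgebra ℂ G) :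
    sh t k (∑ m ∈ s, f m) = ∑ m ∈ s, sh t k (f m) := cjA_sum _ s f

theorem sh_zero_apply (k : ZMod p) : sh t k (0 : MonoidAlgebra ℂ G) = 0 := cjA_zero _

theorem sh_zero (z : MonoidAlgebra ℂ G) : sh (p := p) t 0 z = z := by
  rw [sh, ZMod.val_zero, pow_zero, cjA_one]

theorem sh_natCast (hst : Step p R U t) (hz : InvBy U z) (n : ℕ) :
    cjA (t ^ n) z = sh t (n : ZMod p) z := by
  rw [sh, ZMod.val_natCast]
  conv_lhs => rw [← Nat.mod_add_div n p, pow_add, cjA_mul, pow_mul,
    invBy_iff.mp hz _ (pow_mem hst.pow _)]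

theorem invBy_cjA_pow (hst : Step p R U t) (hz : InvBy U z) (n : ℕ) :
    InvBy U (cjA (t ^ n) z) := by
  have h := invBy_cjA (x := t ^ n) hz
  rwa [cjS_of_normalizer (pow_mem hst.norm n)] at h

theorem invBy_sh (hst : Step p R U t) (hz : InvBy U z) (k : ZMod p) : InvBy U (sh t k z) :=
  invBy_cjA_pow hst hz _

theorem sh_sh (hst : Step p R U t) (hz : InvBy U z) (k l : ZMod p) :
    sh t k (sh t l z) = sh t (k + l) z := by
  rw [sh, sh, ← cjA_mul, ← pow_add, sh_natCast hst hz, Nat.cast_add, ZMod.natCast_zmod_val,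
    ZMod.natCast_zmod_val]

theorem sh_inv_self (hst : Step p R U t) (hz : InvBy U z) (k : ZMod p) :
    sh t k (sh t (-k) z) = z := by rw [sh_sh hst hz, add_neg_cancel, sh_zero]

theorem sh_of_invBy (hst : Step p R U t) (hz : InvBy R z) (k : ZMod p) : sh t k z = z :=
  invBy_iff.mp hz _ (pow_mem hst.mem _)

theorem cn_sh (hst : Step p R U t) (hi : InvBy R i) (hz : Cn M U i z) (k : ZMod p) :
    Cn M U i (sh t k z) := by
  refine ⟨isInt_cjA _ hz.1, invBy_sh hst hz.2.1 k, ?_, ?_⟩
  · conv_lhs => rw [← sh_of_invBy hst hi k, ← sh_mul, hz.2.2.1]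
  · conv_lhs => rw [← sh_of_invBy hst hi k, ← sh_mul, hz.2.2.2]

/-- The relative trace. -/
noncomputable def tr [Fact p.Prime] (t : G) (z : MonoidAlgebra ℂ G) : MonoidAlgebra ℂ G :=
  ∑ k : ZMod p, sh t k z

theorem invBy_tr (hst : Step p R U t) (hz : InvBy U z) : InvBy R (tr (p := p) t z) := by
  rw [invBy_iff]
  intro x hx
  obtain ⟨n, u, hu, rfl⟩ := hst.gen x hx
  rw [cjA_mul, tr, cjA_sum, Finset.sum_congr rfl fun k _ =>
    invBy_iff.mp (invBy_sh hst hz k) u hu, cjA_sum]
  refine Fintype.sum_equiv (Equiv.addLeft (n : ZMod p)) _ _ fun k => ?_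
  rw [sh_natCast hst (invBy_sh hst hz k), sh_sh hst hz]
  rfl

theorem cn_tr (hM : IsPModular p M) (hst : Step p R U t) (hi : InvBy R i) (hz : Cn M U i z) :
    Cn M R i (tr (p := p) t z) := by
  refine ⟨isInt_sum hM fun k _ => isInt_cjA _ hz.1, invBy_tr hst hz.2.1, ?_, ?_⟩
  · rw [tr, Finset.mul_sum]
    exact Finset.sum_congr rfl fun k _ => (cn_sh hst hi hz k).2.2.1
  · rw [tr, Finset.sum_mul]
    exact Finset.sum_congr rfl fun k _ => (cn_sh hst hi hz k).2.2.2

theorem tr_mul_left (hst : Step p R U t) (hw : InvBy R w) (z : MonoidAlgebra ℂ G) :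
    tr (p := p) t (w * z) = w * tr (p := p) t z := by
  rw [tr, tr, Finset.mul_sum]
  exact Finset.sum_congr rfl fun k _ => by rw [sh_mul, sh_of_invBy hst hw]

theorem tr_add (z w : MonoidAlgebra ℂ G) :
    tr (p := p) t (z + w) = tr (p := p) t z + tr (p := p) t w := by
  rw [tr, tr, tr, ← Finset.sum_add_distrib]
  exact Finset.sum_congr rfl fun k _ => cjA_add _ _ _

theorem prim_sh (hM : IsPModular p M) (hst : Step p R U t) (hj : Prim M U j) (k : ZMod p) :
    Prim M U (sh t k j) := by
  refine ⟨⟨by rw [← sh_mul, hj.1.1], isInt_cjA _ hj.1.2.1, invBy_sh hst hj.1.2.2 k⟩, ?_, ?_⟩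
  · intro h
    have h1 := congrArg (sh t (-k)) h
    rw [sh_sh hst hj.1.2.2, neg_add_cancel, sh_zero, sh_zero_apply] at h1
    exact hj.2.1 h1
  · intro e he h1 h2
    have hje : j = sh t (-k) (sh t k j) := by
      rw [sh_sh hst hj.1.2.2, neg_add_cancel, sh_zero]
    rcases hj.2.2 (sh t (-k) e)
      ⟨by rw [← sh_mul, he.1], isInt_cjA _ he.2.1, invBy_sh hst he.2.2 _⟩
      (by conv_lhs => rw [hje, ← sh_mul, h1])
      (by conv_lhs => rw [hje, ← sh_mul, h2]) with h | h
    · left
      have := congrArg (sh t k) h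
      rwa [sh_inv_self hst he.2.2, sh_zero_apply] at this
    · right
      have := congrArg (sh t k) h
      rwa [sh_inv_self hst he.2.2] at this

/-- Elements from the `l`-th translate of `j` to the `k`-th. -/
def Hom (M : Ideal AlgInt) (U : Subgroup G) (t : G) (j : MonoidAlgebra ℂ G) (k l : ZMod p)
    (x : MonoidAlgebra ℂ G) : Prop :=
  IsInt M x ∧ InvBy U x ∧ sh t k j * x = x ∧ x * sh t l j = x

variable {k l m : ZMod p} {x y : MonoidAlgebra ℂ G}

theorem Hom.comp (hM : IsPModular p M) (hx : Hom M U t j k l x) (hy : Hom M U t j l m y) :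
    Hom M U t j k m (x * y) :=
  ⟨IsInt.mul hM hx.1 hy.1, invBy_mul hx.2.1 hy.2.1, by rw [← mul_assoc, hx.2.2.1],
    by rw [mul_assoc, hy.2.2.2]⟩

theorem Hom.cn (hx : Hom M U t j k k x) : Cn M U (sh t k j) x := hx

theorem Hom.cn0 (hx : Hom M U t j (0 : ZMod p) 0 x) : Cn M U j x := by
  have := hx.cn
  rwa [sh_zero] at this

theorem cn_hom (hx : Cn M U (sh t k j) x) : Hom M U t j k k x := hx

theorem Hom.shift (hst : Step p R U t) (hj : InvBy U j) (hx : Hom M U t j k l x) (m : ZMod p) :
    Hom M U t j (m + k) (m + l) (sh t m x) :=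
  ⟨isInt_cjA _ hx.1, invBy_sh hst hx.2.1 m,
    by rw [← sh_sh hst hj, ← sh_mul, hx.2.2.1], by rw [← sh_sh hst hj, ← sh_mul, hx.2.2.2]⟩

/-- Isomorphy of `j` with its `l`-th translate. -/
def Linked (M : Ideal AlgInt) (U : Subgroup G) (t : G) (j : MonoidAlgebra ℂ G) (l : ZMod p) :
    Prop :=
  ∃ x y, Hom M U t j 0 l x ∧ Hom M U t j l 0 y ∧ x * y = j ∧ y * x = sh t l j

theorem linked_of_not_nil (hM : IsPModular p M) (hst : Step p R U t) (hj : Prim M U j)
    (hx : Hom M U t j 0 l x) (hy : Hom M U t j l 0 y) (h : ¬ NilM M (x * y)) :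
    Linked M U t j l := by
  obtain ⟨d, hd, hd1, -⟩ := exists_inv hM hj (hx.comp hM hy).cn0 h
  have hd' : Hom M U t j (0 : ZMod p) 0 d := cn_hom (by rwa [sh_zero])
  set y' := y * d
  have hy' : Hom M U t j l 0 y' := hy.comp hM hd'
  have hxy : x * y' = j := by rw [← mul_assoc, hd1]
  have hy'j : y' * j = y' := by rw [mul_assoc, hd.2.2.2]
  refine ⟨x, y', hx, hy', hxy, ?_⟩
  have hid : Idp M U (y' * x) :=
    ⟨by rw [mul_assoc, ← mul_assoc x, hxy, ← mul_assoc, hy'j], (hy'.comp hM hx).1,
      (hy'.comp hM hx).2.1⟩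
  rcases (prim_sh hM hst hj l).2.2 _ hid (hy'.comp hM hx).2.2.1 (hy'.comp hM hx).2.2.2 with h0 | h1
  · exfalso
    refine hj.2.1 ?_
    calc j = j * j := hj.1.1.symm
      _ = x * y' * (x * y') := by rw [hxy]
      _ = x * (y' * x) * y' := by simp only [mul_assoc]
      _ = 0 := by rw [h0, mul_zero, zero_mul]
  · exact h1

theorem linked_zero (hj : Idp M U j) : Linked (p := p) M U t j 0 := by
  refine ⟨j, j, ?_, ?_, hj.1, by rw [sh_zero, hj.1]⟩ <;>
  · refine cn_hom ?_
    rw [sh_zero]; exact hj.cn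

theorem linked_add (hM : IsPModular p M) (hst : Step p R U t) (hj : Prim M U j)
    (hl : Linked M U t j l) (hm : Linked M U t j m) : Linked M U t j (l + m) := by
  obtain ⟨x, y, hx, hy, hxy, hyx⟩ := hl
  obtain ⟨x', y', hx', hy', hxy', hyx'⟩ := hm
  have hX := hx'.shift hst hj.1.2.2 l
  have hY := hy'.shift hst hj.1.2.2 l
  rw [add_zero] at hX hY
  refine linked_of_not_nil hM hst hj (hx.comp hM hX) (hY.comp hM hy) fun hn => ?_
  have : x * sh t l x' * (sh t l y' * y) = j := by
    rw [mul_assoc, ← mul_assoc (sh t l x'), ← sh_mul, hxy', hy.2.2.1, hxy]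
  rw [this] at hn
  exact not_nilM_idem hM hj.1.1 hj.1.2.1 hj.2.1 hn

theorem linked_all (hM : IsPModular p M) (hst : Step p R U t) (hj : Prim M U j)
    (hl : Linked M U t j l) (hl0 : l ≠ 0) (m : ZMod p) : Linked M U t j m := by
  have hn : ∀ n : ℕ, Linked M U t j ((n : ZMod p) * l) := by
    intro n
    induction n with
    | zero => simpa using linked_zero hj.1
    | succ n ih => rw [Nat.cast_succ, add_mul, one_mul]; exact linked_add hM hst hj ih hl
  have := hn (m * l⁻¹).val
  rwa [ZMod.natCast_zmod_val, mul_assoc, inv_mul_cancel₀ hl0, mul_one] at this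

/-! ### The residue of a primitive corner -/

/-- The residue of an element of a primitive corner. -/
noncomputable def rho (M : Ideal AlgInt) (j a : MonoidAlgebra ℂ G) : kk M :=
  if h : ∃ r, MemLocalRing M r ∧ NilM M (a - r • j) then resk M h.choose else 0

variable {a b : MonoidAlgebra ℂ G}

theorem rho_eq (hM : IsPModular p M) (hj : Prim M U j) (ha : Cn M U j a) {r : ℂ}
    (hr : MemLocalRing M r) (h : NilM M (a - r • j)) : rho M j a = resk M r := by
  have hex : ∃ r, MemLocalRing M r ∧ NilM M (a - r • j) := ⟨r, hr, h⟩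
  rw [rho, dif_pos hex]
  obtain ⟨hr', h'⟩ := hex.choose_spec
  set r' := hex.choose
  have hd : NilM M ((r - r') • j) := by
    have := nilM_sub hM hj (ha.sub hM (hj.1.cn.smul hM hr')) (ha.sub hM (hj.1.cn.smul hM hr)) h' h
    rwa [sub_sub_sub_cancel_left, ← sub_smul] at this
  have hsub := (localRing hM).sub_mem hr hr'
  have hid : MemLocalIdeal M (r - r') := by
    by_contra hne
    have hinv := inv_mem hM hsub hne
    have := nilM_mul_left hM hj (hj.1.cn.smul hM hinv) (hj.1.cn.smul hM hsub) hd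
    rw [smul_mul_smul_comm, inv_mul_cancel₀ (fun e : r - r' = 0 => hne (by rw [e]; exact ideal_zero hM)), one_smul,
      hj.1.1] at this
    exact not_nilM_idem hM hj.1.1 hj.1.2.1 hj.2.1 this
  have h0 := (resk_eq_zero_iff hM hsub).mpr hid
  have h1 := resk_add hM hsub hr'
  rw [sub_add_cancel, h0, zero_add] at h1
  exact h1.symm

theorem rho_self (hM : IsPModular p M) (hj : Prim M U j) : rho M j j = 1 := by
  rw [rho_eq hM hj hj.1.cn (localRing hM).one_mem (by rw [one_smul, sub_self]; exact nilM_zero hM),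
    resk_one hM]

theorem rho_zero_iff (hM : IsPModular p M) (hj : Prim M U j) (ha : Cn M U j a) :
    rho M j a = 0 ↔ NilM M a := by
  constructor
  · intro h
    obtain ⟨r, hr, hnil⟩ := exists_residue hM hj ha
    rw [rho_eq hM hj ha hr hnil, resk_eq_zero_iff hM hr] at h
    have hs : Small M (r • j) := fun x => by
      rw [MonoidAlgebra.coeff_smul_apply, smul_eq_mul]
      exact ideal_mul_right hM h (hj.1.2.1 x)
    have := nilM_add hM hj (ha.sub hM (hj.1.cn.smul hM hr)) (hj.1.cn.smul hM hr) hnil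
      (nilM_of_small hs)
    rwa [sub_add_cancel] at this
  · intro h
    rw [rho_eq hM hj ha (localRing hM).zero_mem (by rwa [zero_smul, sub_zero]), resk_zero hM]

theorem rho_add (hM : IsPModular p M) (hj : Prim M U j) (ha : Cn M U j a) (hb : Cn M U j b) :
    rho M j (a + b) = rho M j a + rho M j b := by
  obtain ⟨r, hr, hra⟩ := exists_residue hM hj ha
  obtain ⟨s, hs, hsb⟩ := exists_residue hM hj hb
  rw [rho_eq hM hj ha hr hra, rho_eq hM hj hb hs hsb, ← resk_add hM hr hs]
  refine rho_eq hM hj (ha.add hM hb) ((localRing hM).add_mem hr hs) ?_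
  rw [add_smul, add_sub_add_comm]
  exact nilM_add hM hj (ha.sub hM (hj.1.cn.smul hM hr)) (hb.sub hM (hj.1.cn.smul hM hs)) hra hsb

theorem rho_mul (hM : IsPModular p M) (hj : Prim M U j) (ha : Cn M U j a) (hb : Cn M U j b) :
    rho M j (a * b) = rho M j a * rho M j b := by
  obtain ⟨r, hr, hra⟩ := exists_residue hM hj ha
  obtain ⟨s, hs, hsb⟩ := exists_residue hM hj hb
  rw [rho_eq hM hj ha hr hra, rho_eq hM hj hb hs hsb, ← resk_mul hM hr hs]
  refine rho_eq hM hj (ha.mul hM hb) ((localRing hM).mul_mem hr hs) ?_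
  have hra' := ha.sub hM (hj.1.cn.smul hM hr)
  have hsb' := hb.sub hM (hj.1.cn.smul hM hs)
  have e : a * b - (r * s) • j = (a - r • j) * b + r • j * (b - s • j) := by
    rw [sub_mul, mul_sub, smul_mul_smul_comm, hj.1.1]; abel
  rw [e]
  exact nilM_add hM hj (hra'.mul hM hb) ((hj.1.cn.smul hM hr).mul hM hsb')
    (nilM_mul_right hM hj hb hra' hra) (nilM_mul_left hM hj (hj.1.cn.smul hM hr) hsb' hsb)

theorem rho_sum (hM : IsPModular p M) (hj : Prim M U j) {ι : Type*} (s : Finset ι)
    {f : ι → MonoidAlgebra ℂ G} (hf : ∀ k ∈ s, Cn M U j (f k)) :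
    Cn M U j (∑ k ∈ s, f k) ∧ rho M j (∑ k ∈ s, f k) = ∑ k ∈ s, rho M j (f k) := by
  induction s using Finset.induction_on with
  | empty =>
    simp only [Finset.sum_empty]
    exact ⟨cn_zero hM, (rho_zero_iff hM hj (cn_zero hM)).mpr (nilM_zero hM)⟩
  | @insert a s has ih =>
    obtain ⟨h1, h2⟩ := ih fun k hk => hf k (Finset.mem_insert_of_mem hk)
    rw [Finset.sum_insert has, Finset.sum_insert has]
    exact ⟨(hf a (Finset.mem_insert_self ..)).add hM h1,
      by rw [rho_add hM hj (hf a (Finset.mem_insert_self ..)) h1, h2]⟩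

/-! ### An idempotent matrix with constant diagonal -/

theorem matrix_eq_zero_or_one {k : Type*} [Field k] [CharP k p] {ι : Type*} [Fintype ι]
    [DecidableEq ι] (N : Matrix ι ι k) (hN : N * N = N) {lam : k} (hdiag : ∀ a, N a a = lam)
    (hcard : Fintype.card ι = 1 ∨ Fintype.card ι = p) : N = 0 ∨ N = 1 := by
  set f := Matrix.toLin' N with hf
  have hff : IsIdempotentElem f := by
    show f * f = f
    rw [Module.End.mul_eq_comp, hf, ← Matrix.toLin'_mul, hN]
  have htr := (LinearMap.IsIdempotentElem.isProj_range f hff).trace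
  rw [hf, Matrix.trace_toLin'_eq, Matrix.trace] at htr
  simp only [Matrix.diag_apply, hdiag, Finset.sum_const, Finset.card_univ] at htr
  rw [← hf] at htr
  have hle := Submodule.finrank_le (LinearMap.range f)
  rw [Module.finrank_fintype_fun_eq_card] at hle
  have h0 : Module.finrank k (LinearMap.range f) = 0 ∨
      Module.finrank k (LinearMap.range f) = Fintype.card ι := by
    rcases hcard with h | h
    · omega
    · rw [h, nsmul_eq_mul, CharP.cast_eq_zero, zero_mul] at htr
      have hdvd := (CharP.cast_eq_zero_iff k p _).mp htr.symm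
      rw [h] at hle ⊢
      rcases Nat.eq_zero_or_pos (Module.finrank k (LinearMap.range f)) with h1 | h1
      · exact Or.inl h1
      · exact Or.inr (le_antisymm hle (Nat.le_of_dvd h1 hdvd))
  rcases h0 with h | h
  · left
    rw [Submodule.finrank_eq_zero, LinearMap.range_eq_bot] at h
    exact (map_eq_zero_iff _ Matrix.toLin'.injective).mp h
  · right
    have htop : LinearMap.range f = ⊤ := Submodule.eq_top_of_finrank_eq (by
      rw [h, Module.finrank_fintype_fun_eq_card])
    refine Matrix.toLin'.injective ?_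
    rw [Matrix.toLin'_one]
    refine LinearMap.ext fun v => ?_
    exact (LinearMap.IsIdempotentElem.isProj_range f hff).map_id v (htop ▸ Submodule.mem_top)

/-- The radical elements between translates. -/
def Rad (M : Ideal AlgInt) (U : Subgroup G) (t : G) (j : MonoidAlgebra ℂ G) (k l : ZMod p)
    (D : MonoidAlgebra ℂ G) : Prop :=
  Hom M U t j k l D ∧ ∀ y, Hom M U t j l k y → NilM M (D * y)

/-- A fixed vector of a radical matrix vanishes. -/
theorem eq_zero_of_rad (hM : IsPModular p M) (hst : Step p R U t) (hj : Prim M U j)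
    (S : Finset (ZMod p)) :
    ∀ (D : ZMod p → ZMod p → MonoidAlgebra ℂ G) (v : ZMod p → MonoidAlgebra ℂ G),
      (∀ a ∈ S, ∀ b ∈ S, Rad M U t j a b (D a b)) → (∀ a ∈ S, v a * sh t a j = v a) →
      (∀ b ∈ S, v b = ∑ a ∈ S, v a * D a b) → ∀ a ∈ S, v a = 0 := by
  induction S using Finset.induction_on with
  | empty => simp
  | @insert c S hc ih =>
    intro D v hD hv heq
    have hcS := Finset.mem_insert_self c S
    have hmS : ∀ {a}, a ∈ S → a ∈ insert c S := fun h => Finset.mem_insert_of_mem h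
    have hP := prim_sh hM hst hj c
    have hDc := hD c hcS c hcS
    have hnil : NilM M (D c c) := by
      have := hDc.2 (sh t c j) (cn_hom hP.1.cn)
      rwa [hDc.1.2.2.2] at this
    have hunit : ¬ NilM M (sh t c j - D c c) := fun h => by
      have := nilM_add hM hP (hP.1.cn.sub hM hDc.1.cn) hDc.1.cn h hnil
      rw [sub_add_cancel] at this
      exact not_nilM_idem hM hP.1.1 hP.1.2.1 hP.2.1 this
    obtain ⟨u, hu, hu1, -⟩ := exists_inv hM hP (hP.1.cn.sub hM hDc.1.cn) hunit
    have hvc : v c = ∑ a ∈ S, v a * (D a c * u) := by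
      have h1 := heq c hcS
      rw [Finset.sum_insert hc, ← sub_eq_iff_eq_add'] at h1
      calc v c = v c * (sh t c j - D c c) * u := by rw [mul_assoc, hu1, hv c hcS]
        _ = (∑ a ∈ S, v a * D a c) * u := by rw [mul_sub, hv c hcS, h1]
        _ = _ := by rw [Finset.sum_mul]; simp only [mul_assoc]
    have hS0 := ih (fun a b => D a b + D a c * u * D c b) v ?_ (fun a ha => hv a (hmS ha)) ?_
    · intro a ha
      rcases Finset.mem_insert.mp ha with rfl | ha
      · rw [hvc]; exact Finset.sum_eq_zero fun b hb => by rw [hS0 b hb, zero_mul]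
      · exact hS0 a ha
    · intro a ha b hb
      have hab := hD a (hmS ha) b (hmS hb)
      have hac := hD a (hmS ha) c hcS
      have hcb := hD c hcS b (hmS hb)
      have h2 : Hom M U t j a b (D a c * u * D c b) :=
        ((hac.1.comp hM (cn_hom hu)).comp hM hcb.1)
      refine ⟨⟨IsInt.add hM hab.1.1 h2.1, invBy_add hab.1.2.1 h2.2.1,
        by rw [mul_add, hab.1.2.2.1, h2.2.2.1], by rw [add_mul, hab.1.2.2.2, h2.2.2.2]⟩,
        fun y hy => ?_⟩
      rw [add_mul]
      refine nilM_add hM (prim_sh hM hst hj a) (hab.1.comp hM hy).cn (h2.comp hM hy).cn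
        (hab.2 y hy) ?_
      rw [mul_assoc, mul_assoc (D a c)]
      exact hac.2 _ ((cn_hom hu).comp hM (hcb.1.comp hM hy))
    · intro b hb
      rw [heq b (hmS hb), Finset.sum_insert hc, hvc, Finset.sum_mul]
      simp only [mul_add, Finset.sum_add_distrib, mul_assoc]
      rw [add_comm]

/-! ### Green's theorem -/

/-- A trace `i` of index `p` can be written with orthogonal conjugates of one idempotent. -/
theorem green (hM : IsPModular p M) (hst : Step p R U t) (hi : Prim M R i)
    (hc : Cn M U i c) (htr : tr (p := p) t c = i) :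
    ∃ e, Cn M U i e ∧ e * e = e ∧ tr (p := p) t e = i ∧
      ∀ k l : ZMod p, k ≠ l → sh t k e * sh t l e = 0 := by
  classical
  have hiU : Idp M U i := hi.1.mono hst.le
  -- a primitive part
  obtain ⟨j, hj, hij, hji, hnn⟩ : ∃ j, Prim M U j ∧ i * j = j ∧ j * i = j ∧
      ¬ NilM M (tr (p := p) t (c * j)) := by
    refine idem_induction hM U (Pr := fun e => i * e = e → e * i = e →
      ¬ NilM M (tr (p := p) t (c * e)) → ∃ j, Prim M U j ∧ i * j = j ∧ j * i = j ∧
        ¬ NilM M (tr (p := p) t (c * j))) ?_ ?_ ?_ hiU hi.1.1 hi.1.1 ?_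
    · intro _ _ h
      refine absurd ?_ h
      simpa [tr, sh_zero_apply] using nilM_zero hM
    · intro e e' he he' h1 h2 ihe ihe' hl hr hn
      have a1 : e * (e + e') = e := by rw [mul_add, he.1, h1, add_zero]
      have a2 : (e + e') * e = e := by rw [add_mul, he.1, h2, add_zero]
      have b1 : e' * (e + e') = e' := by rw [mul_add, he'.1, h2, zero_add]
      have b2 : (e + e') * e' = e' := by rw [add_mul, he'.1, h1, zero_add]
      have l1 : i * e = e := by conv_lhs => rw [← a2, ← mul_assoc, hl]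
                                exact a2
      have r1 : e * i = e := by conv_lhs => rw [← a1, mul_assoc, hr]
                                exact a1
      have l2 : i * e' = e' := by conv_lhs => rw [← b2, ← mul_assoc, hl]
                                  exact b2
      have r2 : e' * i = e' := by conv_lhs => rw [← b1, mul_assoc, hr]
                                  exact b1
      rw [mul_add, tr_add] at hn
      by_contra hno
      refine hn (nilM_add hM hi
        (cn_tr hM hst hi.1.2.2 (hc.mul hM ⟨he.2.1, he.2.2, l1, r1⟩))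
        (cn_tr hM hst hi.1.2.2 (hc.mul hM ⟨he'.2.1, he'.2.2, l2, r2⟩)) ?_ ?_)
      · by_contra h; exact hno (ihe l1 r1 h)
      · by_contra h; exact hno (ihe' l2 r2 h)
    · exact fun j hj h1 h2 h3 => ⟨j, hj, h1, h2, h3⟩
    · rw [hc.2.2.2, htr]
      exact not_nilM_idem hM hi.1.1 hi.1.2.1 hi.2.1
  have hjc : Cn M U i j := ⟨hj.1.2.1, hj.1.2.2, hij, hji⟩
  obtain ⟨d, hd, -, hd2⟩ := exists_inv hM hi (cn_tr hM hst hi.1.2.2 (hc.mul hM hjc)) hnn
  set e := d * (c * j) with he
  have hec : Cn M U i e := (hd.mono hst.le).mul hM (hc.mul hM hjc)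
  have hej : e * j = e := by rw [he, mul_assoc, mul_assoc c, hj.1.1]
  have hesum : ∑ m : ZMod p, sh t m e = i := (tr_mul_left hst hd.2.1 (c * j)).trans hd2
  clear_value e
  have hjinv := hj.1.2.2
  -- the matrix
  set E : ZMod p → ZMod p → MonoidAlgebra ℂ G := fun k l => sh t k j * sh t l e with hE
  have hEhom : ∀ k l, Hom M U t j k l (E k l) := fun k l =>
    ⟨IsInt.mul hM (isInt_cjA _ hj.1.2.1) (isInt_cjA _ hec.1),
      invBy_mul (invBy_sh hst hjinv k) (invBy_sh hst hec.2.1 l),
      by simp only [hE]; rw [← mul_assoc, ← sh_mul, hj.1.1],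
      by simp only [hE]; rw [mul_assoc, ← sh_mul, hej]⟩
  have hEsh : ∀ k l, E k l = sh t k (E 0 (l - k)) := by
    intro k l
    show sh t k j * sh t l e = sh t k (sh t 0 j * sh t (l - k) e)
    rw [sh_mul, sh_zero, sh_sh hst hec.2.1, add_sub_cancel]
  have hEE : ∀ k l, ∑ m, E k m * E m l = E k l := by
    intro k l
    have e1 : ∀ m, E k m * E m l = sh t k j * (sh t m e * sh t l e) := by
      intro m
      simp only [hE]
      rw [mul_assoc, ← mul_assoc (sh t m e), ← sh_mul, hej]
    rw [Finset.sum_congr rfl fun m _ => e1 m, ← Finset.mul_sum, ← Finset.sum_mul, hesum,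
      (cn_sh hst hi.1.2.2 hec l).2.2.1]
  -- linked translates
  set K : Finset (ZMod p) := Finset.univ.filter (Linked M U t j) with hK
  have hK' : ∀ {k}, k ∈ K ↔ Linked M U t j k := fun {k} => by simp [hK]
  have h0K : (0 : ZMod p) ∈ K := hK'.mpr (linked_zero hj.1)
  have hchoice : ∀ k : ZMod p, ∃ x y, k ∈ K →
      Hom M U t j 0 k x ∧ Hom M U t j k 0 y ∧ x * y = j ∧ y * x = sh t k j := fun k => by
    by_cases h : k ∈ K
    · obtain ⟨x, y, hxy⟩ := hK'.mp h
      exact ⟨x, y, fun _ => hxy⟩
    · exact ⟨0, 0, fun h' => absurd h' h⟩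
  choose xs ys hxys using hchoice
  have hxs : ∀ {k}, k ∈ K → Hom M U t j 0 k (xs k) := fun h => (hxys _ h).1
  have hys : ∀ {k}, k ∈ K → Hom M U t j k 0 (ys k) := fun h => (hxys _ h).2.1
  set n : K → K → MonoidAlgebra ℂ G := fun k l => xs k.1 * E k.1 l.1 * ys l.1 with hn
  have hncn : ∀ k l, Cn M U j (n k l) := fun k l =>
    (((hxs k.2).comp hM (hEhom k.1 l.1)).comp hM (hys l.2)).cn0
  have hmid : ∀ {k m l : ZMod p} (a b : MonoidAlgebra ℂ G), m ∈ K → Hom M U t j k m a →
      Hom M U t j m l b → a * b = a * ys m * (xs m * b) := by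
    intro k m l a b hm ha _
    rw [mul_assoc, ← mul_assoc (ys m), (hxys m hm).2.2.2, ← mul_assoc, ha.2.2.2]
  set N : Matrix K K (kk M) := fun k l => rho M j (n k l) with hN
  have hNN : N * N = N := by
    ext k l
    simp only [Matrix.mul_apply, hN]
    have hsum : n k l = ∑ m : ZMod p, xs k.1 * E k.1 m * (E m l.1 * ys l.1) := by
      simp only [hn]
      rw [← hEE k.1 l.1, Finset.mul_sum, Finset.sum_mul]
      simp only [mul_assoc]
    have hterm : ∀ m : ZMod p, Cn M U j (xs k.1 * E k.1 m * (E m l.1 * ys l.1)) := fun m =>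
      (((hxs k.2).comp hM (hEhom k.1 m)).comp hM ((hEhom m l.1).comp hM (hys l.2))).cn0
    rw [hsum, (rho_sum hM hj Finset.univ fun m _ => hterm m).2,
      ← Finset.sum_subset (Finset.subset_univ K) fun m _ hm => ?_, ← Finset.sum_coe_sort K]
    · refine Finset.sum_congr rfl fun m _ => ?_
      rw [← rho_mul hM hj (hncn k m) (hncn m l)]
      congr 1
      simp only [hn]
      rw [hmid (xs k.1 * E k.1 m.1) (E m.1 l.1 * ys l.1) m.2 ((hxs k.2).comp hM (hEhom k.1 m.1))
        ((hEhom m.1 l.1).comp hM (hys l.2))]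
      simp only [mul_assoc]
    · by_contra hne
      refine hm (hK'.mpr (linked_of_not_nil hM hst hj ((hxs k.2).comp hM (hEhom k.1 m))
        ((hEhom m l.1).comp hM (hys l.2)) fun h => hne ((rho_zero_iff hM hj (hterm m)).mpr h)))
  obtain ⟨r, hr, hrn⟩ := exists_residue hM hj (hEhom 0 0).cn0
  have hdiag : ∀ k : K, N k k = resk M r := by
    intro k
    refine rho_eq hM hj (hncn k k) hr ?_
    have h1 : n k k - r • j = xs k.1 * (sh t k.1 (E 0 0 - r • j) * ys k.1) := by
      simp only [hn]
      rw [hEsh k.1 k.1, sub_self, sh_sub, sh_smul, sub_mul, mul_sub, smul_mul_assoc, mul_smul_comm,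
        (hys k.2).2.2.1, (hxys _ k.2).2.2.1, mul_assoc]
    have hz := ((cn_hom (k := (0 : ZMod p)) (t := t) (j := j) (x := E 0 0 - r • j) (by
      rw [sh_zero]; exact (hEhom 0 0).cn0.sub hM (hj.1.cn.smul hM hr))).shift hst hjinv k.1)
    rw [add_zero] at hz
    rw [h1]
    refine (nilM_swap_iff hM (hxs k.2).1 (IsInt.mul hM hz.1 (hys k.2).1)).mpr ?_
    rw [mul_assoc, (hxys _ k.2).2.2.2, hz.2.2.2]
    exact nilM_cjA _ hrn
  haveI := hM.2.1
  letI := Ideal.Quotient.field M
  haveI := charP_kk hM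
  have hcard : Fintype.card K = 1 ∨ Fintype.card K = p := by
    rw [Fintype.card_coe]
    by_cases h : ∃ k ∈ K, k ≠ 0
    · obtain ⟨k, hk, hk0⟩ := h
      right
      rw [show K = Finset.univ from Finset.eq_univ_of_forall fun m =>
        hK'.mpr (linked_all hM hst hj (hK'.mp hk) hk0 m), Finset.card_univ, ZMod.card]
    · push Not at h
      left
      rw [Finset.card_eq_one]
      exact ⟨0, Finset.eq_singleton_iff_unique_mem.mpr ⟨h0K, h⟩⟩
  -- row zero in terms of `N`
  have hx0 : rho M j (xs 0) * rho M j (ys 0) = 1 := by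
    rw [← rho_mul hM hj (hxs h0K).cn0 (hys h0K).cn0, (hxys 0 h0K).2.2.1, rho_self hM hj]
  have hrow : ∀ l, (hl : l ∈ K) → rho M j (xs 0) * rho M j (E 0 l * ys l) = N ⟨0, h0K⟩ ⟨l, hl⟩ := by
    intro l hl
    rw [← rho_mul hM hj (hxs h0K).cn0 ((hEhom 0 l).comp hM (hys hl)).cn0, ← mul_assoc]
  -- nilpotency against everything in row zero, from a vanishing entry
  have hkill : ∀ l, ∀ z, Hom M U t j l 0 z →
      (∀ hl : l ∈ K, N ⟨0, h0K⟩ ⟨l, hl⟩ = 0) → NilM M (E 0 l * z) := by
    intro l z hz h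
    by_cases hl : l ∈ K
    · have h1 := h hl
      rw [← hrow l hl] at h1
      have hx0' : rho M j (xs 0) ≠ 0 := fun e => by rw [e, zero_mul] at hx0; exact zero_ne_one hx0
      have h2 := (mul_eq_zero.mp h1).resolve_left hx0'
      rw [rho_zero_iff hM hj ((hEhom 0 l).comp hM (hys hl)).cn0] at h2
      rw [hmid (E 0 l) z hl (hEhom 0 l) hz]
      exact nilM_mul_right hM hj ((hxs hl).comp hM hz).cn0 ((hEhom 0 l).comp hM (hys hl)).cn0 h2
    · by_contra hn
      exact hl (hK'.mpr (linked_of_not_nil hM hst hj (hEhom 0 l) hz hn))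
  rcases matrix_eq_zero_or_one N hNN hdiag hcard with hN0 | hN1
  · exfalso
    have hjeq : j = ∑ l : ZMod p, E 0 l * (sh t l j * j) := by
      have h1 : ∀ l, E 0 l * (sh t l j * j) = j * sh t l e * j := by
        intro l
        rw [← mul_assoc, (hEhom 0 l).2.2.2]
        simp only [hE]
        rw [sh_zero]
      rw [Finset.sum_congr rfl fun l _ => h1 l, ← Finset.sum_mul, ← Finset.mul_sum, hesum, hji,
        hj.1.1]
    have hz : ∀ l : ZMod p, Hom M U t j l 0 (sh t l j * j) := fun l =>
      ⟨IsInt.mul hM (isInt_cjA _ hj.1.2.1) hj.1.2.1, invBy_mul (invBy_sh hst hjinv l) hjinv,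
        by rw [← mul_assoc, ← sh_mul, hj.1.1], by rw [sh_zero, mul_assoc, hj.1.1]⟩
    obtain ⟨l, -, hl⟩ := exists_unit_summand hM hj Finset.univ _
      (fun l _ => ((hEhom 0 l).comp hM (hz l)).cn0)
      (by rw [← hjeq]; exact not_nilM_idem hM hj.1.1 hj.1.2.1 hj.2.1)
    exact hl (hkill l _ (hz l) fun _ => by rw [hN0]; rfl)
  · set D : ZMod p → ZMod p → MonoidAlgebra ℂ G :=
      fun k l => (if k = l then sh t k j else 0) - E k l with hD
    have hDhom : ∀ k l, Hom M U t j k l (D k l) := by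
      intro k l
      simp only [hD]
      by_cases h : k = l
      · subst h
        rw [if_pos rfl]
        exact cn_hom ((prim_sh hM hst hj k).1.cn.sub hM (hEhom k k).cn)
      · rw [if_neg h, zero_sub]
        refine ⟨fun x => ?_, fun u hu x => ?_, by rw [mul_neg, (hEhom k l).2.2.1],
          by rw [neg_mul, (hEhom k l).2.2.2]⟩
        · rw [MonoidAlgebra.coeff_neg, Finsupp.neg_apply]
          exact (localRing hM).neg_mem ((hEhom k l).1 x)
        · simp [(hEhom k l).2.1 u hu x]
    have hrad0 : ∀ l, ∀ y, Hom M U t j l 0 y → NilM M (D 0 l * y) := by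
      intro l y hy
      by_cases hl0 : l = 0
      · subst hl0
        have h1 : rho M j (E 0 0 * ys 0) = rho M j (ys 0) := by
          have h2 := hrow 0 h0K
          rw [hN1, Matrix.one_apply_eq] at h2
          calc _ = rho M j (ys 0) * (rho M j (xs 0) * rho M j (E 0 0 * ys 0)) := by
                rw [← mul_assoc, mul_comm (rho M j (ys 0)), hx0, one_mul]
            _ = _ := by rw [h2, mul_one]
        rw [rho_mul hM hj (hEhom 0 0).cn0 (hys h0K).cn0] at h1
        have hy0 : rho M j (ys 0) ≠ 0 := fun e => by rw [e, mul_zero] at hx0; exact zero_ne_one hx0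
        have h3 : rho M j (E 0 0) = 1 := (mul_eq_right₀ hy0).mp h1
        have hdcn : Cn M U j (D 0 0) := (hDhom 0 0).cn0
        refine nilM_mul_right hM hj hy.cn0 hdcn ((rho_zero_iff hM hj hdcn).mp ?_)
        have h4 := rho_add hM hj hdcn (hEhom 0 0).cn0
        simp only [hD, if_true, sub_add_cancel] at h4
        rw [sh_zero, rho_self hM hj, h3] at h4
        have h5 : rho M j (D 0 0) + 1 = 1 := by simpa [hD, sh_zero] using h4.symm
        simpa using h5
      · have h1 : D 0 l = -E 0 l := by simp [hD, Ne.symm hl0]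
        rw [h1, neg_mul]
        exact nilM_neg (hkill l y hy fun hl => by
          rw [hN1, Matrix.one_apply_ne fun h => hl0 (congrArg Subtype.val h).symm])
    have hrad : ∀ k l, Rad M U t j k l (D k l) := by
      intro k l
      refine ⟨hDhom k l, fun y hy => ?_⟩
      have h1 : D k l = sh t k (D 0 (l - k)) := by
        simp only [hD]
        rw [sh_sub, ← hEsh]
        congr 1
        by_cases h : k = l
        · rw [if_pos h, if_pos (by rw [h, sub_self]), sh_zero]
        · rw [if_neg h, if_neg fun e => h (sub_eq_zero.mp e.symm).symm, sh_zero_apply]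
      have h2 := hy.shift hst hjinv (-k)
      rw [neg_add_cancel, neg_add_eq_sub] at h2
      rw [h1, ← sh_inv_self hst hy.2.1 k, ← sh_mul]
      exact nilM_cjA _ (hrad0 _ _ h2)
    have hDD : ∀ k l, D k l = ∑ m, D k m * D m l := by
      intro k l
      simp only [hD, sub_mul, mul_sub, Finset.sum_sub_distrib, hEE, ite_mul, zero_mul, mul_ite,
        mul_zero, Finset.sum_ite_eq, Finset.sum_ite_eq', Finset.mem_univ, if_true]
      by_cases h : k = l
      · subst h
        simp only [if_true, (prim_sh hM hst hj k).1.1, (hEhom k k).2.2.1, (hEhom k k).2.2.2]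
        abel
      · simp only [if_neg h, (hEhom k l).2.2.1, (hEhom k l).2.2.2]
        abel
    have hzero : ∀ l, D 0 l = 0 := fun l =>
      eq_zero_of_rad hM hst hj Finset.univ D (D 0) (fun a _ b _ => hrad a b)
        (fun a _ => (hDhom 0 a).2.2.2) (fun b _ => hDD 0 b) l (Finset.mem_univ l)
    have hje : ∀ l : ZMod p, j * sh t l e = if (0 : ZMod p) = l then j else 0 := by
      intro l
      have h := (sub_eq_zero.mp (hzero l)).symm
      simpa [hE, sh_zero] using h
    refine ⟨e, hec, ?_, hesum, fun k l hkl => ?_⟩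
    · have h := hje 0
      rw [sh_zero, if_pos rfl] at h
      calc e * e = e * j * e := by rw [hej]
        _ = e := by rw [mul_assoc, h, hej]
    · have h : e * sh t (l - k) e = 0 := by
        calc e * sh t (l - k) e = e * j * sh t (l - k) e := by rw [hej]
          _ = 0 := by
            rw [mul_assoc, hje, if_neg fun h => hkl (sub_eq_zero.mp h.symm).symm, mul_zero]
      have h2 := congrArg (sh t k) h
      rwa [sh_mul, sh_sh hst hec.2.1, add_sub_cancel, sh_zero_apply] at h2

end Cfsg.Agent.Star80Green
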