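import Mathlib
import Cfsg.Agent.Lib.Star80Spec
import Cfsg.Agent.Lib.BrauerPairs81Fusion

/-!
Weighted sums over the pairs of a block on a cyclic `p`-group, and the traces `chi (u i_b)`.
-/

set_option autoImplicit false
set_option linter.unusedSectionVars false

namespace Cfsg.Agent.Star80Pairs

open Cfsg Cfsg.Agent.BlockTheoryLocalRing Cfsg.Agent.BlockTheoryCentre
open Cfsg.Agent.BlockTheoryIdem Cfsg.Agent.BlockTheoryBrauer
open Cfsg.Agent.BrauerPairs81Base Cfsg.Agent.BrauerPairs81Pairs Cfsg.Agent.BrauerPairs81Conj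
open Cfsg.Agent.BrauerPairs81Local Cfsg.Agent.BrauerPairs81Fusion Cfsg.Agent.BrauerPairs81Max
open Cfsg.Agent.Star80Res Cfsg.Agent.Star80Spec

attribute [local instance] Classical.propDecidable

variable {p : ℕ} [Fact p.Prime] {M : Ideal AlgInt} {G : Type*} [Group G] [Fintype G]

theorem cjS_zpowers (g u : G) : cjS g (Subgroup.zpowers u) = Subgroup.zpowers (g * u * g⁻¹) :=
  MonoidHom.map_zpowers _ u

theorem isPGroup_zp {u : G} (hu : ∃ k, orderOf u = p ^ k) :
    IsPGroup p (Subgroup.zpowers u) := by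
  obtain ⟨k, hk⟩ := hu
  exact IsPGroup.of_card (n := k) (by rw [Nat.card_zpowers, hk])

theorem mem_cen_zp {u x : G} : x ∈ Cen (Subgroup.zpowers u) ↔ Commute u x := by
  constructor
  · exact fun h => Subgroup.mem_centralizer_iff.mp h u (Subgroup.mem_zpowers u)
  · intro h
    refine Subgroup.mem_centralizer_iff.mpr fun w hw => ?_
    obtain ⟨i, rfl⟩ := Subgroup.mem_zpowers_iff.mp hw
    exact (h.zpow_left i).eq

/-- A function on elements invariant along the fusion of the pairs below `top`. -/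
def Stable (p : ℕ) (M : Ideal AlgInt) (top : BrauerPairIdx G) (z0 : G → ℂ) : Prop :=
  ∀ g x : G, Fus p M top (Subgroup.zpowers x) g → z0 (g * x * g⁻¹) = z0 x

/-- The value of `z0` at the image of `u` below `top`, along the pair `a`. -/
noncomputable def zvp (p : ℕ) (M : Ideal AlgInt) (top : BrauerPairIdx G) (z0 : G → ℂ) (u : G)
    (a : BrauerPairIdx G) : ℂ :=
  if h : ∃ g, PLE p M (cP g a) top then z0 (h.choose * u * h.choose⁻¹) else 0

variable {top : BrauerPairIdx G} {z0 : G → ℂ}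

theorem zvp_eq (hz : Stable p M top z0) {u g : G} {a : BrauerPairIdx G}
    (ha : a.1 = Subgroup.zpowers u) (h : PLE p M (cP g a) top) :
    zvp p M top z0 u a = z0 (g * u * g⁻¹) := by
  have hex : ∃ g, PLE p M (cP g a) top := ⟨g, h⟩
  rw [zvp, dif_pos hex]
  set g' := hex.choose
  have h' : PLE p M (cP g' a) top := hex.choose_spec
  have hf : Fus p M top (cP g a).1 (g' * g⁻¹) := fus_mk h (by
    rw [cP_cP, inv_mul_cancel_right]; exact h')
  have e1 : (cP g a).1 = Subgroup.zpowers (g * u * g⁻¹) := by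
    show cjS g a.1 = _
    rw [ha, cjS_zpowers]
  rw [e1] at hf
  rw [← hz _ _ hf]
  congr 1
  group

theorem zvp_cP (hz : Stable p M top z0) (c u : G) (a : BrauerPairIdx G)
    (ha : a.1 = Subgroup.zpowers u) :
    zvp p M top z0 (c * u * c⁻¹) (cP c a) = zvp p M top z0 u a := by
  by_cases h : ∃ g, PLE p M (cP g a) top
  · obtain ⟨g, hg⟩ := h
    have e : (cP c a).1 = Subgroup.zpowers (c * u * c⁻¹) := by
      show cjS c a.1 = _
      rw [ha, cjS_zpowers]
    rw [zvp_eq hz ha hg, zvp_eq hz e (g := g * c⁻¹) (by rwa [cP_cP, inv_mul_cancel_right])]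
    congr 1
    group
  · rw [zvp, zvp, dif_neg h, dif_neg]
    rintro ⟨g, hg⟩
    exact h ⟨g * c, by rwa [← cP_cP]⟩

/-- The blocks of the centraliser of `T` giving pairs of `B`. -/
noncomputable def pairs (p : ℕ) (M : Ideal AlgInt) (B : Set (IrrCharacter G)) (T : Subgroup G) :
    Finset (Set (IrrCharacter (Cen T))) :=
  (blockSet M (Cen T)).filter fun b => IsBrauerPairOf p M B T b

theorem mem_pairs {B : Set (IrrCharacter G)} {T : Subgroup G} {b : Set (IrrCharacter (Cen T))} :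
    b ∈ pairs p M B T ↔ IsBrauerPairOf p M B T b := by
  rw [pairs, Finset.mem_filter, mem_blockSet]
  exact ⟨fun h => h.2, fun h => ⟨h.1.2, h⟩⟩

/-- The sum over the pairs of `B` on `T`. -/
noncomputable def pairSum {V : Type*} [AddCommMonoid V] (p : ℕ) (M : Ideal AlgInt)
    (B : Set (IrrCharacter G)) (T : Subgroup G) (F : BrauerPairIdx G → V) : V :=
  ∑ b ∈ pairs p M B T, F ⟨T, b⟩

theorem pairSum_congr {V : Type*} [AddCommMonoid V] {B : Set (IrrCharacter G)} {T : Subgroup G}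
    {F F' : BrauerPairIdx G → V}
    (h : ∀ b, IsBrauerPairOf p M B T b → F ⟨T, b⟩ = F' ⟨T, b⟩) :
    pairSum p M B T F = pairSum p M B T F' :=
  Finset.sum_congr rfl fun b hb => h b (mem_pairs.mp hb)

theorem pairSum_cjS {V : Type*} [AddCommMonoid V] (B : Set (IrrCharacter G)) (c : G)
    (T : Subgroup G) (F : BrauerPairIdx G → V) :
    pairSum p M B (cjS c T) F = pairSum p M B T fun a => F (cP c a) := by
  have key : ∀ (S : Subgroup G) (d : G), cjS d (cjS c T) = S → d * c = 1 →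
      ∀ b' : Set (IrrCharacter (Cen (cjS c T))), IsBrauerPairOf p M B (cjS c T) b' →
        ∃ b, IsBrauerPairOf p M B T b ∧
          (cP c ⟨T, b⟩ : BrauerPairIdx G) = ⟨cjS c T, b'⟩ := by
    intro S d _ hdc b' hb'
    have h1 := isBrauerPairOf_conj d hb'
    have e : cjS d (cjS c T) = T := by rw [cjS_cjS, hdc, cjS_one]
    obtain ⟨b, hb, hbe⟩ : ∃ b, IsBrauerPairOf p M B T b ∧
        (⟨T, b⟩ : BrauerPairIdx G) = cP d ⟨cjS c T, b'⟩ := by
      have : ∀ (S : Subgroup G), cjS d (cjS c T) = S → ∃ b : Set (IrrCharacter (Cen S)),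
          IsBrauerPairOf p M B S b ∧ (⟨S, b⟩ : BrauerPairIdx G) = cP d ⟨cjS c T, b'⟩ := by
        rintro S rfl
        exact ⟨_, h1, rfl⟩
      exact this T e
    refine ⟨b, hb, ?_⟩
    rw [hbe, cP_cP, show c * d = 1 from mul_eq_one_comm.mp hdc, cP_one]
  refine (Finset.sum_bij (fun b _ => conjBlock T c b) ?_ ?_ ?_ fun b _ => rfl).symm
  · exact fun b hb => mem_pairs.mpr (isBrauerPairOf_conj c (mem_pairs.mp hb))
  · intro b _ b₂ _ h
    have h1 : (cP c ⟨T, b⟩ : BrauerPairIdx G) = cP c ⟨T, b₂⟩ :=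
      congrArg (fun x => (⟨cjS c T, x⟩ : BrauerPairIdx G)) h
    have h2 := congrArg (cP c⁻¹) h1
    rw [cP_inv_cP, cP_inv_cP] at h2
    simpa using h2
  · intro b' hb'
    obtain ⟨b, hb, h⟩ := key _ c⁻¹ rfl (inv_mul_cancel c) b' (mem_pairs.mp hb')
    exact ⟨b, mem_pairs.mpr hb, eq_of_heq (Sigma.mk.inj_iff.mp h).2⟩

/-! ### The traces -/

variable {B : Set (IrrCharacter G)} {u : G} {i j E : MonoidAlgebra ℂ G}

theorem single_comm_of_invBy {Q : Subgroup G} (hi : InvBy Q i) (hu : u ∈ Q) :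
    MonoidAlgebra.single u (1 : ℂ) * i = i * MonoidAlgebra.single u 1 := by
  refine MonoidAlgebra.ext (Finsupp.ext fun x => ?_)
  rw [MonoidAlgebra.coeff_single_mul_eq_mul_coeff (u⁻¹ * x) (fun m _ => eq_inv_mul_iff_mul_eq.symm),
    MonoidAlgebra.coeff_mul_single_eq_coeff_mul (x * u⁻¹) (fun m _ => eq_mul_inv_iff_mul_eq.symm),
    one_mul, mul_one]
  have := hi u hu (u⁻¹ * x)
  rw [show u * (u⁻¹ * x) * u⁻¹ = x * u⁻¹ by group] at this
  exact this.symm

theorem chiSum_u_eq_zero (hM : IsPModular p M) (χ : IrrCharacter G)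
    (hu : ∃ k, orderOf u = p ^ k) (hi : Idp M (Subgroup.zpowers u) i)
    (h0 : br M (Subgroup.zpowers u) i = 0) :
    chiSum (χ : G → ℂ) (MonoidAlgebra.single u 1 * i) = 0 := by
  rw [chiSum_eq_sum_classCoeff (irr_classFun χ)]
  refine Finset.sum_eq_zero fun C _ => ?_
  have h := classCoeff_single_mul_idem_eq_zero hM u 1 C.out hu (Commute.one_right u)
    (by simpa using hM.1.ne_one) i hi.1 hi.2.1
    (single_comm_of_invBy hi.2.2 (Subgroup.mem_zpowers u))
    (by rw [← MonoidAlgebra.one_def, one_mul, mul_one])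
    (Or.inr fun g hg => (br_eq_zero_iff hM hi.2.1).mp h0 g (mem_cen_zp.mpr hg))
  rw [← MonoidAlgebra.one_def, mul_one] at h
  rw [h, mul_zero]

/-- Idempotents with the same Brauer image have the same trace against `u`. -/
theorem chiSum_u_congr (hM : IsPModular p M) (χ : IrrCharacter G)
    (hu : ∃ k, orderOf u = p ^ k) (hi : Idp M (Subgroup.zpowers u) i)
    (hj : Idp M (Subgroup.zpowers u) j)
    (h : br M (Subgroup.zpowers u) i = br M (Subgroup.zpowers u) j) :
    chiSum (χ : G → ℂ) (MonoidAlgebra.single u 1 * i) =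
      chiSum (χ : G → ℂ) (MonoidAlgebra.single u 1 * j) := by
  have hP := isPGroup_zp (p := p) hu
  set T := Subgroup.zpowers u
  set q := br M T i with hq
  have hqq : q * q = q := by rw [hq, ← br_mul hM hP hi.2.2 hi.2.2 hi.2.1 hi.2.1, hi.1]
  set a := i * j * i with ha
  have hac : Cn M T i a := Cn.sandwich hM hi hj.2.1 hj.2.2
  obtain ⟨e, y, he, hec, hy, hay, hnil, hey, -⟩ := spec hM hi hac (localRing hM).zero_mem
  simp only [zero_smul, sub_zero] at hnil hey
  have hba : br M T a = q := by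
    rw [ha, br_mul hM hP (invBy_mul hi.2.2 hj.2.2) hi.2.2 (IsInt.mul hM hi.2.1 hj.2.1) hi.2.1,
      br_mul hM hP hi.2.2 hj.2.2 hi.2.1 hj.2.1, ← hq, ← h, hqq, hqq]
  have hbe : br M T e = 0 := by
    obtain ⟨N, hN⟩ := hnil
    have h1 := br_of_small (Q := T) hM (isInt_pow hM (IsInt.mul hM hac.1 hec.1) _) hN
    rw [br_pow hM hP (invBy_mul hac.2.1 hec.2.1) (IsInt.mul hM hac.1 hec.1),
      br_mul hM hP hac.2.1 hec.2.1 hac.1 hec.1, hba, hq, ← br_mul hM hP hi.2.2 he.2.2 hi.2.1 he.2.1,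
      hec.2.2.1, ← br_pow hM hP he.2.2 he.2.1, pow_idem he.1] at h1
    exact h1
  set e2 := i - e with he2
  have he2i : Idp M T e2 := ⟨by simp only [he2, mul_sub, sub_mul, hi.1, hec.2.2.1, hec.2.2.2, he.1]; abel,
    IsInt.sub hM hi.2.1 he.2.1, invBy_sub hi.2.2 he.2.2⟩
  have hei : e2 * i = e2 := by rw [he2, sub_mul, hi.1, hec.2.2.2]
  have hie : i * e2 = e2 := by rw [he2, mul_sub, hi.1, hec.2.2.1]
  have hbe2 : br M T e2 = q := by rw [he2, br_sub hM T hi.2.1 he.2.1, hbe, sub_zero]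
  set x := e2 * (i * j) with hx
  set x' := j * i * y * e2 with hx'
  have hxx : x * x' = e2 := by
    have e1 : i * j * (j * i) = a := by
      rw [ha, mul_assoc i j (j * i), ← mul_assoc j j i, hj.1, mul_assoc]
    calc x * x' = e2 * (i * j * (j * i)) * y * e2 := by simp only [hx, hx', mul_assoc]
      _ = e2 * (a * y) * e2 := by rw [e1, mul_assoc e2 a y]
      _ = e2 := by rw [← hey, he2i.1, he2i.1]
  have hxi : IsInt M x := IsInt.mul hM he2i.2.1 (IsInt.mul hM hi.2.1 hj.2.1)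
  have hxv : InvBy T x := invBy_mul he2i.2.2 (invBy_mul hi.2.2 hj.2.2)
  have hx'i : IsInt M x' := IsInt.mul hM (IsInt.mul hM (IsInt.mul hM hj.2.1 hi.2.1) hy.1) he2i.2.1
  have hx'v : InvBy T x' := invBy_mul (invBy_mul (invBy_mul hj.2.2 hi.2.2) hy.2.1) he2i.2.2
  set f := x' * x with hf
  have hx'e : x' * e2 = x' := by rw [hx', mul_assoc, he2i.1]
  have hjf : j * f = f := by
    simp only [hf, hx', ← mul_assoc, hj.1]
  have hfj : f * j = f := by
    simp only [hf, hx, mul_assoc, hj.1]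
  have hff : Idp M T f := ⟨by
      rw [hf, mul_assoc, ← mul_assoc x, hxx, ← mul_assoc, hx'e],
    IsInt.mul hM hx'i hxi, invBy_mul hx'v hxv⟩
  have hby : br M T y * q = q := by
    have h1 := congrArg (br M T) hey
    rw [hbe2, hay.eq, br_mul hM hP hy.2.1 hac.2.1 hy.1 hac.1, hba] at h1
    exact h1.symm
  have hbf : br M T f = q := by
    have hbx : br M T x = q := by
      rw [hx, br_mul hM hP he2i.2.2 (invBy_mul hi.2.2 hj.2.2) he2i.2.1 (IsInt.mul hM hi.2.1 hj.2.1),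
        br_mul hM hP hi.2.2 hj.2.2 hi.2.1 hj.2.1, hbe2, ← hq, ← h, hqq, hqq]
    rw [hf, br_mul hM hP hx'v hxv hx'i hxi, hbx, hx',
      br_mul hM hP (invBy_mul (invBy_mul hj.2.2 hi.2.2) hy.2.1) he2i.2.2
        (IsInt.mul hM (IsInt.mul hM hj.2.1 hi.2.1) hy.1) he2i.2.1,
      br_mul hM hP (invBy_mul hj.2.2 hi.2.2) hy.2.1 (IsInt.mul hM hj.2.1 hi.2.1) hy.1,
      br_mul hM hP hj.2.2 hi.2.2 hj.2.1 hi.2.1, hbe2, ← hq, ← h, hqq, mul_assoc q, hby, hqq, hqq]
  have hjf' : Idp M T (j - f) := ⟨by simp only [mul_sub, sub_mul, hj.1, hjf, hfj, hff.1]; abel,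
    IsInt.sub hM hj.2.1 hff.2.1, invBy_sub hj.2.2 hff.2.2⟩
  have h1 := chiSum_u_eq_zero hM χ hu he hbe
  have h2 := chiSum_u_eq_zero hM χ hu hjf' (by rw [br_sub hM T hj.2.1 hff.2.1, hbf, ← h, sub_self])
  have h3 : chiSum (χ : G → ℂ) (MonoidAlgebra.single u 1 * e2) =
      chiSum (χ : G → ℂ) (MonoidAlgebra.single u 1 * f) := by
    rw [← hxx, hf, ← mul_assoc, chiSum_comm_of_classFun (irr_classFun χ), ← mul_assoc x',
      ← single_comm_of_invBy hx'v (Subgroup.mem_zpowers u), mul_assoc]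
  rw [mul_sub, map_sub] at h2
  rw [he2, mul_sub, map_sub, h1, sub_zero] at h3
  rw [h3, eq_of_sub_eq_zero h2]

/-- An admissible `E`: fixed, with central idempotent image. -/
def Cut (M : Ideal AlgInt) (T : Subgroup G) (E : MonoidAlgebra ℂ G) : Prop :=
  IsInt M E ∧ InvBy T E ∧ br M T E * br M T E = br M T E ∧
    ∀ z, IsInt M z → br M T E * br M T z = br M T z * br M T E

theorem cut_eb (hM : IsPModular p M) {T : Subgroup G} (hT : IsPGroup p T)
    {b : Set (IrrCharacter (Cen T))} (hb : IsPBlock M b) : Cut M T (eb (Cen T) b) :=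
  ⟨isInt_eb hM hb, invBy_eb_cen T b,
    by rw [← br_mul hM hT (invBy_eb_cen T b) (invBy_eb_cen T b) (isInt_eb hM hb) (isInt_eb hM hb),
      eb_sq], fun _ hz => br_eb_comm hM hb hz⟩

/-- A part of `i` lifting its component at `E`. -/
def IsLift (M : Ideal AlgInt) (T : Subgroup G) (E i w : MonoidAlgebra ℂ G) : Prop :=
  Idp M T w ∧ i * w = w ∧ w * i = w ∧ ∀ x ∈ Cen T, MemLocalIdeal M ((w - E * i).coeff x)

theorem isLift_iff (hM : IsPModular p M) {T : Subgroup G} (hT : IsPGroup p T) (hE : Cut M T E)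
    (hi : Idp M T i) {w : MonoidAlgebra ℂ G} :
    IsLift M T E i w ↔ Idp M T w ∧ i * w = w ∧ w * i = w ∧ br M T w = br M T E * br M T i := by
  refine and_congr_right fun hw => and_congr_right fun _ => and_congr_right fun _ => ?_
  rw [← br_eq_zero_iff hM (IsInt.sub hM hw.2.1 (IsInt.mul hM hE.1 hi.2.1)),
    br_sub hM T hw.2.1 (IsInt.mul hM hE.1 hi.2.1), br_mul hM hT hE.2.1 hi.2.2 hE.1 hi.2.1,
    sub_eq_zero]

theorem exists_lift (hM : IsPModular p M) {T : Subgroup G} (hT : IsPGroup p T) (hE : Cut M T E)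
    (hi : Idp M T i) : ∃ w, IsLift M T E i w := by
  set a := i * E * i with ha
  have hac : Cn M T i a := Cn.sandwich hM hi hE.1 hE.2.1
  obtain ⟨e, y, he, hec, hy, -, hnil, hey, -⟩ := spec hM hi hac (localRing hM).one_mem
  rw [one_smul] at hnil hey
  set q := br M T E
  set qi := br M T i with hqi
  have hii : qi * qi = qi := by rw [hqi, ← br_mul hM hT hi.2.2 hi.2.2 hi.2.1 hi.2.1, hi.1]
  have hba : br M T a = q * qi := by
    rw [ha, br_mul hM hT (invBy_mul hi.2.2 hE.2.1) hi.2.2 (IsInt.mul hM hi.2.1 hE.1) hi.2.1,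
      br_mul hM hT hi.2.2 hE.2.1 hi.2.1 hE.1, ← hE.2.2.2 _ hi.2.1, mul_assoc, hii]
  set qe := br M T e with hqe
  have hie : qi * qe = qe := by
    rw [hqi, hqe, ← br_mul hM hT hi.2.2 he.2.2 hi.2.1 he.2.1, hec.2.2.1]
  have hee : qe * qe = qe := by rw [hqe, ← br_mul hM hT he.2.2 he.2.2 he.2.1 he.2.1, he.1]
  have hqee : q * qe = qe := by
    obtain ⟨N, hN⟩ := hnil
    have hd : IsInt M (a - i) := IsInt.sub hM hac.1 hi.2.1
    have h1 := br_of_small (Q := T) hM (isInt_pow hM (IsInt.mul hM hd he.2.1) _) hN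
    rw [br_pow hM hT (invBy_mul (invBy_sub hac.2.1 hi.2.2) he.2.2) (IsInt.mul hM hd he.2.1),
      br_mul hM hT (invBy_sub hac.2.1 hi.2.2) he.2.2 hd he.2.1, br_sub hM T hac.1 hi.2.1, hba,
      ← hqi, ← hqe, sub_mul, mul_assoc, hie] at h1
    have hX : (qe - q * qe) * (qe - q * qe) = qe - q * qe := by
      have hc : qe * (q * qe) = q * qe := by
        rw [← mul_assoc, ← hE.2.2.2 _ he.2.1, mul_assoc, hee]
      have hc2 : q * qe * (q * qe) = q * qe := by rw [mul_assoc, hc, ← mul_assoc, hE.2.2.1]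
      rw [mul_sub, sub_mul, sub_mul, hee, hc, hc2, mul_assoc q qe qe, hee]
      abel
    have hpow : ∀ n, (qe - q * qe) ^ (n + 1) = qe - q * qe := by
      intro n
      induction n with
      | zero => rw [pow_one]
      | succ n ih => rw [pow_succ, ih, hX]
    rw [show q * qe - qe = -(qe - q * qe) by abel, neg_pow, hpow] at h1
    rcases neg_one_pow_eq_or (MonoidAlgebra (kk M) (Cen T)) (N + 1) with e' | e' <;> rw [e'] at h1
    · rw [one_mul, sub_eq_zero] at h1; exact h1.symm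
    · rw [neg_mul, one_mul, neg_eq_zero, sub_eq_zero] at h1; exact h1.symm
  have hqei : q * qi = qe := by
    have h1 := congrArg (br M T) hey
    rw [br_sub hM T hi.2.1 he.2.1, br_mul hM hT (invBy_sub hac.2.1 hi.2.2) hy.2.1
      (IsInt.sub hM hac.1 hi.2.1) hy.1, br_sub hM T hac.1 hi.2.1, hba, ← hqi, ← hqe] at h1
    have h2 : q * (qi - qe) = 0 := by
      rw [h1, ← mul_assoc, mul_sub, ← mul_assoc, hE.2.2.1, sub_self, zero_mul]
    rwa [mul_sub, sub_eq_zero, hqee] at h2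
  exact ⟨e, (isLift_iff hM hT hE hi).mpr ⟨he, hec.2.2.1, hec.2.2.2, hqei.symm⟩⟩

/-- The trace of `u` on the component of `i` at `E`. -/
noncomputable def tau (M : Ideal AlgInt) (χ : IrrCharacter G) (u : G) (E i : MonoidAlgebra ℂ G) : ℂ :=
  if h : ∃ w, IsLift M (Subgroup.zpowers u) E i w then
    chiSum (χ : G → ℂ) (MonoidAlgebra.single u 1 * h.choose) else 0

theorem tau_eq (hM : IsPModular p M) (χ : IrrCharacter G) (hu : ∃ k, orderOf u = p ^ k)
    (hE : Cut M (Subgroup.zpowers u) E) (hi : Idp M (Subgroup.zpowers u) i) {w : MonoidAlgebra ℂ G}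
    (hw : Idp M (Subgroup.zpowers u) w)
    (hbw : br M (Subgroup.zpowers u) w =
      br M (Subgroup.zpowers u) E * br M (Subgroup.zpowers u) i) :
    tau M χ u E i = chiSum (χ : G → ℂ) (MonoidAlgebra.single u 1 * w) := by
  have hex := exists_lift hM (isPGroup_zp (p := p) hu) hE hi
  rw [tau, dif_pos hex]
  obtain ⟨hc, -, -, hb⟩ := (isLift_iff hM (isPGroup_zp (p := p) hu) hE hi).mp hex.choose_spec
  exact chiSum_u_congr hM χ hu hc hw (hb.trans hbw.symm)

theorem tau_add (hM : IsPModular p M) (χ : IrrCharacter G) (hu : ∃ k, orderOf u = p ^ k)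
    (hE : Cut M (Subgroup.zpowers u) E) (hi : Idp M (Subgroup.zpowers u) i)
    (hj : Idp M (Subgroup.zpowers u) j) (h1 : i * j = 0) (h2 : j * i = 0) :
    tau M χ u E (i + j) = tau M χ u E i + tau M χ u E j := by
  have hP := isPGroup_zp (p := p) hu
  obtain ⟨v, hv⟩ := exists_lift hM hP hE hi
  obtain ⟨w, hw⟩ := exists_lift hM hP hE hj
  obtain ⟨hvi, hv1, hv2, hvb⟩ := (isLift_iff hM hP hE hi).mp hv
  obtain ⟨hwi, hw1, hw2, hwb⟩ := (isLift_iff hM hP hE hj).mp hw
  have hvw : v * w = 0 := by rw [← hv2, mul_assoc, ← hw1, ← mul_assoc i, h1, zero_mul, mul_zero]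
  have hwv : w * v = 0 := by rw [← hw2, mul_assoc, ← hv1, ← mul_assoc j, h2, zero_mul, mul_zero]
  have hij : Idp M (Subgroup.zpowers u) (i + j) :=
    ⟨by rw [add_mul, mul_add, mul_add, hi.1, hj.1, h1, h2, add_zero, zero_add],
      IsInt.add hM hi.2.1 hj.2.1, invBy_add hi.2.2 hj.2.2⟩
  have hs : Idp M (Subgroup.zpowers u) (v + w) :=
    ⟨by rw [add_mul, mul_add, mul_add, hvi.1, hwi.1, hvw, hwv, add_zero, zero_add],
      IsInt.add hM hvi.2.1 hwi.2.1, invBy_add hvi.2.2 hwi.2.2⟩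
  rw [tau_eq hM χ hu hE hi hvi hvb, tau_eq hM χ hu hE hj hwi hwb,
    tau_eq hM χ hu hE hij hs (by rw [br_add hM _ hvi.2.1 hwi.2.1, br_add hM _ hi.2.1 hj.2.1,
      hvb, hwb, mul_add]), mul_add, map_add]

theorem chiSum_cjA' (χ : IrrCharacter G) (g : G) (w : MonoidAlgebra ℂ G) :
    chiSum (χ : G → ℂ) (cjA g w) = chiSum (χ : G → ℂ) w := by
  rw [chiSum_apply, chiSum_apply, ← Equiv.sum_comp (MulAut.conj g).toEquiv]
  refine Finset.sum_congr rfl fun x _ => ?_
  simp only [MulEquiv.toEquiv_eq_coe, MulEquiv.coe_toEquiv, MulAut.conj_apply, coeff_cjA]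
  rw [irr_classFun χ x g, show g⁻¹ * (g * x * g⁻¹) * g = x by group]

theorem idp_cjA {Q : Subgroup G} (c : G) (hi : Idp M Q i) : Idp M (cjS c Q) (cjA c i) :=
  ⟨by rw [← cjA_mul', hi.1], isInt_cjA c hi.2.1, invBy_cjA hi.2.2⟩

theorem isLift_cjA {T : Subgroup G} (c : G) {w : MonoidAlgebra ℂ G} (h : IsLift M T E i w) :
    IsLift M (cjS c T) (cjA c E) (cjA c i) (cjA c w) := by
  obtain ⟨h1, h2, h3, h4⟩ := h
  refine ⟨idp_cjA c h1, by rw [← cjA_mul', h2], by rw [← cjA_mul', h3], fun x hx => ?_⟩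
  rw [← cjA_mul', ← cjA_sub, coeff_cjA]
  refine h4 _ ((mem_cen_cjS c T _).mpr ?_)
  simpa [mul_assoc] using hx

theorem tau_cjA (hM : IsPModular p M) (χ : IrrCharacter G) (hu : ∃ k, orderOf u = p ^ k) (c : G)
    (hE : Cut M (Subgroup.zpowers u) E) (hE' : Cut M (cjS c (Subgroup.zpowers u)) (cjA c E))
    (hi : Idp M (Subgroup.zpowers u) i) :
    tau M χ (c * u * c⁻¹) (cjA c E) (cjA c i) = tau M χ u E i := by
  have hP := isPGroup_zp (p := p) hu
  obtain ⟨w, hw⟩ := exists_lift hM hP hE hi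
  obtain ⟨hwi, -, -, hwb⟩ := (isLift_iff hM hP hE hi).mp hw
  have hw' := isLift_cjA c hw
  have hu' : ∃ k, orderOf (c * u * c⁻¹) = p ^ k := by
    obtain ⟨k, hk⟩ := hu
    exact ⟨k, by rw [show c * u * c⁻¹ = MulAut.conj c u from rfl, MulEquiv.orderOf_eq, hk]⟩
  have hic := idp_cjA c hi
  rw [cjS_zpowers] at hw' hE' hic
  obtain ⟨hwi', -, -, hwb'⟩ := (isLift_iff hM (isPGroup_zp (p := p) hu') hE' hic).mp hw'
  rw [tau_eq hM χ hu hE hi hwi hwb, tau_eq hM χ hu' hE' hic hwi' hwb', ← cjA_single, ← cjA_mul',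
    chiSum_cjA']

/-- The twisted trace function of an idempotent. -/
noncomputable def theta (p : ℕ) (M : Ideal AlgInt) (B : Set (IrrCharacter G)) (top : BrauerPairIdx G)
    (z0 : G → ℂ) (χ : IrrCharacter G) (i : MonoidAlgebra ℂ G) (u : G) : ℂ :=
  pairSum p M B (Subgroup.zpowers u) fun a =>
    zvp p M top z0 u a * tau M χ u (eb (Cen a.1) a.2) i

theorem theta_add (hM : IsPModular p M) (χ : IrrCharacter G) (hu : ∃ k, orderOf u = p ^ k)
    (hi : Idp M (Subgroup.zpowers u) i) (hj : Idp M (Subgroup.zpowers u) j)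
    (h1 : i * j = 0) (h2 : j * i = 0) :
    theta p M B top z0 χ (i + j) u = theta p M B top z0 χ i u + theta p M B top z0 χ j u := by
  simp only [theta, pairSum, ← Finset.sum_add_distrib]
  refine Finset.sum_congr rfl fun b hb => ?_
  rw [tau_add hM χ hu (cut_eb hM (isPGroup_zp hu) (mem_pairs.mp hb).1.2) hi hj h1 h2, mul_add]

theorem theta_zero (hM : IsPModular p M) (χ : IrrCharacter G) (hu : ∃ k, orderOf u = p ^ k) :
    theta p M B top z0 χ 0 u = 0 := by
  have h0 : Idp M (Subgroup.zpowers u) (0 : MonoidAlgebra ℂ G) :=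
    ⟨mul_zero 0, isInt_zero hM, invBy_zero _⟩
  have := theta_add (B := B) (top := top) (z0 := z0) hM χ hu h0 h0 (mul_zero 0) (mul_zero 0)
  rwa [add_zero, left_eq_add] at this

theorem theta_cjA (hM : IsPModular p M) (hz : Stable p M top z0) (χ : IrrCharacter G)
    (hu : ∃ k, orderOf u = p ^ k) (c : G) (hi : Idp M (Subgroup.zpowers u) i) :
    theta p M B top z0 χ (cjA c i) (c * u * c⁻¹) = theta p M B top z0 χ i u := by
  rw [theta, theta, ← cjS_zpowers, pairSum_cjS]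
  refine pairSum_congr fun b hb => ?_
  have hP := isPGroup_zp (p := p) hu
  rw [zvp_cP hz c u ⟨_, b⟩ rfl, eb_cP]
  congr 1
  refine tau_cjA hM χ hu c (cut_eb hM hP hb.1.2) ?_ hi
  have h := cut_eb hM (hP.map (MulAut.conj c).toMonoidHom) (isPBlock_conjBlock c hb.1.2)
  rwa [eb_conjBlock] at h

/-- The value at idempotents whose image lies in one block. -/
theorem theta_eq_of_block (hM : IsPModular p M) (χ : IrrCharacter G)
    (hu : ∃ k, orderOf u = p ^ k) (hi : Idp M (Subgroup.zpowers u) i)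
    {b : Set (IrrCharacter (Cen (Subgroup.zpowers u)))}
    (hb : IsBrauerPairOf p M B (Subgroup.zpowers u) b)
    (h : br M (Subgroup.zpowers u) i * br M (Subgroup.zpowers u) (eb (Cen (Subgroup.zpowers u)) b) =
      br M (Subgroup.zpowers u) i) :
    theta p M B top z0 χ i u = zvp p M top z0 u ⟨_, b⟩ *
      chiSum (χ : G → ℂ) (MonoidAlgebra.single u 1 * i) := by
  have hP := isPGroup_zp (p := p) hu
  rw [theta, pairSum, Finset.sum_eq_single b]
  · congr 1
    have hc := cut_eb hM hP hb.1.2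
    exact tau_eq hM χ hu hc hi hi (by rw [hc.2.2.2 _ hi.2.1]; exact h.symm)
  · intro b' hb' hne
    have hb'' := (mem_pairs.mp hb').1.2
    have hc := cut_eb hM hP hb.1.2
    have hc' := cut_eb hM hP hb''
    rw [tau_eq hM χ hu hc' hi (w := 0) ⟨mul_zero 0, isInt_zero hM, invBy_zero _⟩ ?_, mul_zero,
      map_zero, mul_zero]
    rw [br_zero hM, ← h, ← hc.2.2.2 _ hi.2.1, ← mul_assoc,
      ← br_mul hM hP hc'.2.1 hc.2.1 hc'.1 hc.1, eb_mul_of_ne hM hb'' hb.1.2 hne, br_zero hM,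
      zero_mul]
  · exact fun hn => absurd (mem_pairs.mpr hb) hn

theorem theta_eq_zero_of_br (hM : IsPModular p M) (χ : IrrCharacter G)
    (hu : ∃ k, orderOf u = p ^ k) (hi : Idp M (Subgroup.zpowers u) i)
    (h : br M (Subgroup.zpowers u) i = 0) : theta p M B top z0 χ i u = 0 := by
  have hP := isPGroup_zp (p := p) hu
  refine Finset.sum_eq_zero fun b hb => ?_
  show _ * _ = 0
  rw [tau_eq hM χ hu (cut_eb hM hP (mem_pairs.mp hb).1.2) hi (w := 0)
    ⟨mul_zero 0, isInt_zero hM, invBy_zero _⟩ (by rw [br_zero hM, h, mul_zero]),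
    mul_zero, map_zero, mul_zero]

end Cfsg.Agent.Star80Pairs
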