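import Mathlib
import Cfsg.Agent.Lib.Star80Pairs
import Cfsg.Agent.Lib.Star80Green
import Cfsg.Agent.Lib.PGroupsBasic
import Cfsg.Agent.Lib.CharInducedTI
import Cfsg.Agent.Lib.BrauerPairs81Max

/-!
The function `u ↦ theta i u` is a generalized character of any `p`-subgroup fixing the idempotent
`i` of the block.
-/

set_option autoImplicit false
set_option linter.unusedSectionVars false

namespace Cfsg.Agent.Star80Claim

open Cfsg Cfsg.Agent.BlockTheoryLocalRing Cfsg.Agent.BlockTheoryCentre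
open Cfsg.Agent.BlockTheoryIdem Cfsg.Agent.BlockTheoryBrauer
open Cfsg.Agent.BrauerPairs81Base Cfsg.Agent.BrauerPairs81Pairs Cfsg.Agent.BrauerPairs81Conj
open Cfsg.Agent.BrauerPairs81Local Cfsg.Agent.BrauerPairs81Fusion Cfsg.Agent.BrauerPairs81Max
open Cfsg.Agent.Star80Res Cfsg.Agent.Star80Spec Cfsg.Agent.Star80Green Cfsg.Agent.Star80Pairs
open CharBasic CharBasicDecomp CharInduced

attribute [local instance] Classical.propDecidable

variable {p : ℕ} [Fact p.Prime] {M : Ideal AlgInt} {G : Type*} [Group G] [Fintype G]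
variable {T R : Subgroup G} {i a z : MonoidAlgebra ℂ G} {B : Set (IrrCharacter G)}

/-! ### The Brauer image of a primitive idempotent -/

/-- An element with idempotent image which is nilpotent has zero image. -/
theorem br_eq_zero_of_nil (hM : IsPModular p M) (hT : IsPGroup p T) (ha : IsInt M a)
    (haT : InvBy T a) (hn : NilM M a) (hid : br M T a * br M T a = br M T a) : br M T a = 0 := by
  obtain ⟨N, hN⟩ := hn
  have h := br_of_small (Q := T) hM (isInt_pow hM ha _) hN
  rw [br_pow hM hT haT ha] at h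
  have hp : ∀ n, br M T a ^ (n + 1) = br M T a := by
    intro n
    induction n with
    | zero => rw [pow_one]
    | succ n ih => rw [pow_succ, ih, hid]
  rwa [hp] at h

theorem br_eb_mul_eq_zero (hM : IsPModular p M) (hT : IsPGroup p T)
    {g : Set (IrrCharacter (Cen T))} (hg : IsPBlock M g) (hzT : InvBy T z)
    (hzC : InvBy (Cen T) z) (hzi : IsInt M z) (hzz : z * z = z)
    (h : ∀ ξ ∈ g, MemLocalIdeal M (phi T z ξ)) :
    br M T (eb (Cen T) g) * br M T z = 0 := by
  set w := idem g * res (Cen T) z with hw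
  have hwc : IsCen w := IsCen.mul (isCen_idem g) (isCen_res_of_invBy hzC)
  have hwi : IsInt M w := IsInt.mul hM (isInt_idem hM hg) (isInt_res _ hzi)
  have hom : ∀ χ : IrrCharacter (Cen T), MemLocalIdeal M (omega (χ : Cen T → ℂ) w) := by
    intro χ
    rw [hw, omega_mul χ (isCen_idem g), omega_idem]
    split_ifs with hχ
    · rw [one_mul]; exact h χ hχ
    · rw [zero_mul]; exact ideal_zero hM
  obtain ⟨N, hN⟩ := exists_small_pow hM hwc hwi hom
  set X := br M T (eb (Cen T) g) * br M T z with hX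
  have hwX : red M w = X := by
    rw [hw, red_mul hM (isInt_idem hM hg) (isInt_res _ hzi), hX, br, br, res_eb]
  have hXX : X * X = X := by
    rw [hX, mul_assoc, ← mul_assoc (br M T z), ← br_eb_comm hM hg hzi,
      mul_assoc (br M T (eb (Cen T) g)), ← br_mul hM hT hzT hzT hzi hzi, hzz, ← mul_assoc,
      ← br_mul hM hT (invBy_eb_cen T g) (invBy_eb_cen T g) (isInt_eb hM hg) (isInt_eb hM hg), eb_sq]
  have hp : ∀ n, X ^ (n + 1) = X := by
    intro n
    induction n with
    | zero => rw [pow_one]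
    | succ n ih => rw [pow_succ, ih, hXX]
  have h0 := (red_eq_zero_iff hM (isInt_pow hM hwi (N + 1))).mpr
    (by rw [pow_succ]; exact small_mul_right hM hN hwi)
  rwa [red_pow hM hwi, hwX, hp] at h0

theorem sum_br_eb (hM : IsPModular p M) (T : Subgroup G) :
    ∑ f ∈ blockSet M (Cen T), br M T (eb (Cen T) f) = 1 := by
  have key : ∀ s : Finset (Set (IrrCharacter (Cen T))), (∀ f ∈ s, IsPBlock M f) →
      br M T (∑ f ∈ s, eb (Cen T) f) = ∑ f ∈ s, br M T (eb (Cen T) f) := by
    intro s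
    induction s using Finset.induction_on with
    | empty => simp [br_zero hM]
    | @insert a s has ih =>
      intro h
      rw [Finset.sum_insert has, Finset.sum_insert has,
        br_add hM T (isInt_eb hM (h a (Finset.mem_insert_self a s)))
          (isInt_sum hM fun f hf => isInt_eb hM (h f (Finset.mem_insert_of_mem hf))),
        ih fun f hf => h f (Finset.mem_insert_of_mem hf)]
  rw [← key _ fun f hf => mem_blockSet.mp hf, sum_eb hM, br_one hM]

/-- The image of a primitive idempotent lies in one block. -/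
theorem exists_block (hM : IsPModular p M) (hR : IsPGroup p R) (hi : Prim M R i)
    (h0 : br M R i ≠ 0) :
    ∃ f, IsPBlock M f ∧ br M R i * br M R (eb (Cen R) f) = br M R i := by
  set q := br M R i with hq
  have hqq : q * q = q := by
    rw [hq, ← br_mul hM hR hi.1.2.2 hi.1.2.2 hi.1.2.1 hi.1.2.1, hi.1.1]
  obtain ⟨f, hf, hne⟩ : ∃ f ∈ blockSet M (Cen R), q * br M R (eb (Cen R) f) ≠ 0 := by
    by_contra! hall
    refine h0 ?_
    rw [← mul_one q, ← sum_br_eb hM R, Finset.mul_sum]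
    exact Finset.sum_eq_zero hall
  have hfb := mem_blockSet.mp hf
  set qf := br M R (eb (Cen R) f) with hqf
  have hqf2 : qf * qf = qf := by
    rw [hqf, ← br_mul hM hR (invBy_eb_cen R f) (invBy_eb_cen R f) (isInt_eb hM hfb) (isInt_eb hM hfb),
      eb_sq]
  have hcomm : qf * q = q * qf := br_eb_comm hM hfb hi.1.2.1
  refine ⟨f, hfb, ?_⟩
  set a := i * eb (Cen R) f * i
  have hac : Cn M R i a := Cn.sandwich hM hi.1 (isInt_eb hM hfb) (invBy_eb_cen R f)
  have hba : br M R a = q * qf := by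
    rw [br_mul hM hR (invBy_mul hi.1.2.2 (invBy_eb_cen R f)) hi.1.2.2
      (IsInt.mul hM hi.1.2.1 (isInt_eb hM hfb)) hi.1.2.1,
      br_mul hM hR hi.1.2.2 (invBy_eb_cen R f) hi.1.2.1 (isInt_eb hM hfb), ← hq, ← hqf, mul_assoc,
      hcomm, ← mul_assoc, hqq]
  have hnn : ¬ NilM M a := fun hn => hne (by
    rw [← hba]
    refine br_eq_zero_of_nil hM hR hac.1 hac.2.1 hn ?_
    rw [hba, mul_assoc, ← mul_assoc qf, hcomm, mul_assoc, hqf2, ← mul_assoc, hqq])
  obtain ⟨d, hd, had, -⟩ := exists_inv hM hi hac hnn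
  have h1 : q * qf * br M R d = q := by
    rw [← hba, ← br_mul hM hR hac.2.1 hd.2.1 hac.1 hd.1, had]
  calc q * qf = qf * (q * qf * br M R d) := by rw [h1, hcomm]
    _ = qf * qf * q * br M R d := by rw [← hcomm]; simp only [mul_assoc]
    _ = q := by rw [hqf2, hcomm, h1]

/-- That block gives a pair of `B`. -/
theorem pairOf_of_block (hM : IsPModular p M) (hB : IsPBlock M B) (hR : IsPGroup p R)
    (hi : Idp M R i) (hiB : idem B * i = i) (h0 : br M R i ≠ 0) {f : Set (IrrCharacter (Cen R))}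
    (hf : IsPBlock M f) (h : br M R i * br M R (eb (Cen R) f) = br M R i) :
    IsBrauerPairOf p M B R f := by
  refine isBrauerPairOf_iff.mpr ⟨⟨hR, hf⟩, hB, ?_⟩
  have hzR := IsCen.invBy (isCen_idem B) R
  have hzC := IsCen.invBy (isCen_idem B) (Cen R)
  have hzi := isInt_idem hM hB
  obtain ⟨ξ, hξ, hne⟩ : ∃ ξ ∈ f, ¬ MemLocalIdeal M (phi R (idem B) ξ) := by
    by_contra! hall
    refine h0 ?_
    have hz0 := br_eb_mul_eq_zero hM hR hf hzR hzC hzi (idem_sq B) hall
    have hbB : br M R (idem B) * br M R i = br M R i := by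
      rw [← br_mul hM hR hzR hi.2.2 hzi hi.2.1, hiB]
    calc br M R i = br M R (idem B) * (br M R i * br M R (eb (Cen R) f)) := by rw [h, hbB]
      _ = br M R (idem B) * br M R (eb (Cen R) f) * br M R i := by
          rw [← br_eb_comm hM hf hi.2.1, mul_assoc]
      _ = 0 := by rw [← br_eb_comm hM hf hzi, hz0, zero_mul]
  exact occ_of_mem hM hf hzC hzi hξ
    ((phi_dichotomy hM hR hzR hzC hzi (idem_sq B) ξ).resolve_left hne)

/-! ### Descent along inclusion of pairs -/

/-- The stabiliser in `R` of an element. -/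
def stR (R : Subgroup G) (x : G) : Subgroup G := R ⊓ Subgroup.centralizer ({x} : Set G)

theorem mem_stR {x y : G} : y ∈ stR R x ↔ y ∈ R ∧ x * y = y * x := by
  simp [stR, Subgroup.mem_inf, Subgroup.mem_centralizer_iff]

theorem stR_conj {r : G} (hr : r ∈ R) (x : G) : stR R (r * x * r⁻¹) = cjS r (stR R x) := by
  ext y
  rw [mem_cjS, mem_stR, mem_stR]
  refine and_congr ⟨fun h => mul_mem (mul_mem (inv_mem hr) h) hr, fun h => ?_⟩
    ⟨fun h => ?_, fun h => ?_⟩
  · simpa [mul_assoc] using mul_mem (mul_mem hr h) (inv_mem hr)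
  · calc x * (r⁻¹ * y * r) = r⁻¹ * (r * x * r⁻¹ * y) * r := by group
      _ = r⁻¹ * (y * (r * x * r⁻¹)) * r := by rw [h]
      _ = r⁻¹ * y * r * x := by group
  · calc r * x * r⁻¹ * y = r * (x * (r⁻¹ * y * r)) * r⁻¹ := by group
      _ = r * (r⁻¹ * y * r * x) * r⁻¹ := by rw [h]
      _ = y * (r * x * r⁻¹) := by group

theorem mem_cen_iff_le_stR {x : G} (hT : T ≤ R) : x ∈ Cen T ↔ T ≤ stR R x := by
  rw [Subgroup.mem_centralizer_iff]
  exact ⟨fun h y hy => mem_stR.mpr ⟨hT hy, (h y hy).symm⟩, fun h y hy => (mem_stR.mp (h hy)).2.symm⟩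

theorem eq_of_card (h : T ≤ R) (hc : Nat.card R = Nat.card T) : T = R :=
  Subgroup.eq_of_le_of_card_ge h hc.le

/-- One step of the descent. -/
theorem descend_step (hM : IsPModular p M) (hR : IsPGroup p R) (hi : Prim M R i)
    (h0 : br M R i ≠ 0) {f : Set (IrrCharacter (Cen R))} (hf : IsPBlock M f) (hT : T < R)
    {g : Set (IrrCharacter (Cen T))} (hg : PLE p M ⟨T, g⟩ ⟨R, f⟩)
    (ih : ∀ T', T < T' → T' ≤ R → ∀ g', PLE p M ⟨T', g'⟩ ⟨R, f⟩ →
      br M T' i * br M T' (eb (Cen T') g') = br M T' i) :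
    br M T i * br M T (eb (Cen T) g) = br M T i := by
  have hRf : IsBrauerPair p M R f := ⟨hR, hf⟩
  have hTg : IsBrauerPair p M T g := isBrauerPair_of_subpairLE hg hRf
  have hTp : IsPGroup p T := hTg.1
  set S := R ⊓ Subgroup.normalizer (T : Set G) with hS
  have hTS : T < S := lt_inf_normalizer hR hT
  have hup : ∀ T', T < T' → T' ≤ S → ∃ g', IsNormalSubpair p M T g T' g' ∧
      br M T' i * br M T' (eb (Cen T') g') = br M T' i := by
    intro T' h1 h2
    obtain ⟨⟨T'', g'⟩, e, hle⟩ := ple_exists hM (c := ⟨R, f⟩) hRf (h2.trans inf_le_left)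
    subst e
    refine ⟨g', isNormalSubpair_of_le hM (isBrauerPair_of_subpairLE hle hRf) ?_
      (h2.trans inf_le_right), ih _ h1 (h2.trans inf_le_left) _ hle⟩
    exact ple_of_le hM (c := ⟨R, f⟩) hRf hg hle h1.le
  obtain ⟨gS, hnS, -⟩ := hup S hTS le_rfl
  set y := eb (Cen T) g
  have hyi : IsInt M y := isInt_eb hM hTg.2
  have hyS : InvBy S y := (isNormalSubpair_iff.mp hnS).2.2.2.2.1
  set w := 1 - y with hw
  have hwi : IsInt M w := IsInt.sub hM (isInt_one hM) hyi
  have hwS : InvBy S w := invBy_sub (IsCen.invBy isCen_one S) hyS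
  have hww : w * w = w := by
    rw [hw, sub_mul, one_mul, mul_sub, mul_one, eb_sq]; abel
  have hiS : Idp M S i := hi.1.mono inf_le_left
  set Y := i * w * i with hY
  have hYc : Cn M S i Y := Cn.sandwich hM hiS hwi hwS
  have hbrY : ∀ T' : Subgroup G, IsPGroup p T' → T' ≤ S →
      br M T' Y = br M T' i * br M T' w * br M T' i := by
    intro T' hp' hle
    have hi' : Idp M T' i := hiS.mono hle
    have hw' := invBy_mono hle hwS
    rw [hY, br_mul hM hp' (invBy_mul hi'.2.2 hw') hi'.2.2 (IsInt.mul hM hi'.2.1 hwi) hi'.2.1,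
      br_mul hM hp' hi'.2.2 hw' hi'.2.1 hwi]
  have hY0 : ∀ T', T < T' → T' ≤ S → br M T' Y = 0 := by
    intro T' h1 h2
    obtain ⟨g', hn, hq⟩ := hup T' h1 h2
    obtain ⟨-, ⟨hp', hg'⟩, hle', -, hyI, hocc⟩ := isNormalSubpair_iff.mp hn
    have hyC : InvBy (Cen T') y := invBy_mono (centralizer_le hle') (invBy_eb_self _ g)
    have hz : br M T' (eb (Cen T') g') * br M T' w = 0 := by
      refine br_eb_mul_eq_zero hM hp' hg' (invBy_mono h2 hwS)
        (invBy_sub (IsCen.invBy isCen_one _) hyC) hwi hww fun ξ hξ => ?_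
      have e : phi T' w ξ = -(phi T' y ξ - 1) := by
        have h1' := phi_one T' ξ
        simp only [phi, hw, map_sub] at h1' ⊢
        rw [h1']; ring
      rw [e]
      exact ideal_neg (hocc ξ hξ)
    rw [hbrY T' hp' h2]
    calc br M T' i * br M T' w * br M T' i
        = br M T' i * (br M T' (eb (Cen T') g') * br M T' w) * br M T' i := by
          conv_lhs => arg 1; arg 1; rw [← hq]
          simp only [mul_assoc]
      _ = 0 := by rw [hz, mul_zero, zero_mul]
  have hYM : ∀ x ∈ Cen T, stR R x ≠ T → MemLocalIdeal M (Y.coeff x) := by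
    intro x hx hne
    have h1 : T < stR R x := lt_of_le_of_ne ((mem_cen_iff_le_stR hT.le).mp hx) (Ne.symm hne)
    have h2 := lt_inf_normalizer (hR.to_le inf_le_left) h1
    refine (br_eq_zero_iff hM hYc.1).mp (hY0 _ h2 ?_) x ?_
    · exact inf_le_inf_right _ inf_le_left
    · exact (mem_cen_iff_le_stR ((inf_le_left : _ ≤ stR R x).trans inf_le_left)).mpr inf_le_left
  -- the spread of `Y` over `R`
  have hwd : ∀ x r r' : G, r ∈ R → r' ∈ R → stR R (r⁻¹ * x * r) = T →
      stR R (r'⁻¹ * x * r') = T → Y.coeff (r⁻¹ * x * r) = Y.coeff (r'⁻¹ * x * r') := by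
    intro x r r' hr hr' h1 h2
    have hs : r⁻¹ * r' ∈ R := mul_mem (inv_mem hr) hr'
    have e : r⁻¹ * x * r = (r⁻¹ * r') * (r'⁻¹ * x * r') * (r⁻¹ * r')⁻¹ := by group
    rw [e, stR_conj hs, h2] at h1
    have hsS : r⁻¹ * r' ∈ S := by
      refine Subgroup.mem_inf.mpr ⟨hs, Subgroup.mem_normalizer_iff.mpr fun t => ?_⟩
      conv_rhs => rw [← h1]
      rw [mem_cjS]
      simp [mul_assoc]
    rw [e]
    exact hYc.2.1 _ hsS _
  set L : MonoidAlgebra ℂ G := MonoidAlgebra.ofCoeff (Finsupp.equivFunOnFinite.symm fun x =>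
    if h : ∃ r ∈ R, stR R (r⁻¹ * x * r) = T then Y.coeff (h.choose⁻¹ * x * h.choose) else 0)
    with hL
  have hLx : ∀ x r, r ∈ R → stR R (r⁻¹ * x * r) = T → L.coeff x = Y.coeff (r⁻¹ * x * r) := by
    intro x r hr h
    have hex : ∃ r ∈ R, stR R (r⁻¹ * x * r) = T := ⟨r, hr, h⟩
    simp only [hL, MonoidAlgebra.coeff_ofCoeff, Finsupp.equivFunOnFinite_symm_apply_apply]
    rw [dif_pos hex]
    exact hwd x _ r hex.choose_spec.1 hr hex.choose_spec.2 h
  have hL0 : ∀ x, (¬ ∃ r ∈ R, stR R (r⁻¹ * x * r) = T) → L.coeff x = 0 := by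
    intro x h
    simp only [hL, MonoidAlgebra.coeff_ofCoeff, Finsupp.equivFunOnFinite_symm_apply_apply]
    rw [dif_neg h]
  have hLint : IsInt M L := fun x => by
    by_cases h : ∃ r ∈ R, stR R (r⁻¹ * x * r) = T
    · obtain ⟨r, hr, h⟩ := h
      rw [hLx x r hr h]; exact hYc.1 _
    · rw [hL0 x h]; exact (localRing hM).zero_mem
  have hLinv : InvBy R L := fun u hu x => by
    by_cases h : ∃ r ∈ R, stR R (r⁻¹ * x * r) = T
    · obtain ⟨r, hr, h⟩ := h
      have e : (u * r)⁻¹ * (u * x * u⁻¹) * (u * r) = r⁻¹ * x * r := by group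
      rw [hLx x r hr h, hLx _ (u * r) (mul_mem hu hr) (by rw [e]; exact h), e]
    · rw [hL0 x h, hL0]
      rintro ⟨r, hr, h'⟩
      refine h ⟨u⁻¹ * r, mul_mem (inv_mem hu) hr, ?_⟩
      rw [← h']; congr 1; group
  have hwit : ∀ x, (∃ r ∈ R, stR R (r⁻¹ * x * r) = T) → Nat.card (stR R x) = Nat.card T := by
    rintro x ⟨r, hr, h⟩
    have := stR_conj (inv_mem hr) x
    rw [inv_inv, h] at this
    rw [this, card_cjS]
  have hLT : br M T L = br M T Y := by
    have h1 : br M T (L - Y) = 0 := (br_eq_zero_iff hM (IsInt.sub hM hLint hYc.1)).mpr fun x hx => by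
      rw [MonoidAlgebra.coeff_sub, Finsupp.sub_apply]
      by_cases h : stR R x = T
      · rw [hLx x 1 (one_mem R) (by simpa using h)]
        simpa using ideal_zero hM
      · rw [hL0 x fun hex => h (Subgroup.eq_of_le_of_card_ge ((mem_cen_iff_le_stR hT.le).mp hx)
          (hwit x hex).le).symm, zero_sub]
        exact ideal_neg (hYM x hx h)
    rwa [br_sub hM T hLint hYc.1, sub_eq_zero] at h1
  have hLR : br M R L = 0 := (br_eq_zero_iff hM hLint).mpr fun x hx => by
    rw [hL0 x fun hex => hT.ne (eq_of_card hT.le ?_)]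
    · exact ideal_zero hM
    · have h1 : stR R x = R := le_antisymm inf_le_left ((mem_cen_iff_le_stR le_rfl).mp hx)
      rw [← hwit x hex, h1]
  set a := i * L * i with ha
  have hac : Cn M R i a := Cn.sandwich hM hi.1 hLint hLinv
  have hna : NilM M a := by
    by_contra hnn
    obtain ⟨d, hd, had, -⟩ := exists_inv hM hi hac hnn
    refine h0 ?_
    rw [← had, br_mul hM hR hac.2.1 hd.2.1 hac.1 hd.1, ha,
      br_mul hM hR (invBy_mul hi.1.2.2 hLinv) hi.1.2.2 (IsInt.mul hM hi.1.2.1 hLint) hi.1.2.1,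
      br_mul hM hR hi.1.2.2 hLinv hi.1.2.1 hLint, hLR, mul_zero, zero_mul, zero_mul]
  have hiT : Idp M T i := hi.1.mono hT.le
  set q := br M T i with hq
  set qg := br M T y with hqg
  have hqq : q * q = q := by rw [hq, ← br_mul hM hTp hiT.2.2 hiT.2.2 hiT.2.1 hiT.2.1, hiT.1]
  have hgg : qg * qg = qg := by
    rw [hqg, ← br_mul hM hTp (invBy_eb_cen T g) (invBy_eb_cen T g) hyi hyi, eb_sq]
  have hc : qg * q = q * qg := br_eb_comm hM hTg.2 hiT.2.1
  have hTS' := hTS.le
  have hbw : br M T w = 1 - qg := by rw [hw, br_sub hM T (isInt_one hM) hyi, br_one hM]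
  have hba : br M T a = q - q * qg := by
    have hLTi := invBy_mono hT.le hLinv
    rw [ha, br_mul hM hTp (invBy_mul hiT.2.2 hLTi) hiT.2.2 (IsInt.mul hM hiT.2.1 hLint) hiT.2.1,
      br_mul hM hTp hiT.2.2 hLTi hiT.2.1 hLint, hLT, hbrY T hTp hTS', ← hq, hbw]
    simp only [mul_sub, sub_mul, mul_one, mul_assoc, hc, hqq]
    simp only [← mul_assoc, hqq]
  have h2 : (q * qg) * (q * qg) = q * qg := by
    rw [mul_assoc, ← mul_assoc qg, hc, mul_assoc, hgg, ← mul_assoc, hqq]
  have h3 : q * (q * qg) = q * qg := by rw [← mul_assoc, hqq]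
  have h4 : q * qg * q = q * qg := by rw [mul_assoc, hc, h3]
  have := br_eq_zero_of_nil hM hTp hac.1 (invBy_mono hT.le hac.2.1) hna (by
    rw [hba, mul_sub, sub_mul, sub_mul, hqq, h2, h3, h4]; abel)
  rw [hba, sub_eq_zero] at this
  exact this.symm

theorem descend (hM : IsPModular p M) (hR : IsPGroup p R) (hi : Prim M R i) (h0 : br M R i ≠ 0)
    {f : Set (IrrCharacter (Cen R))} (hf : IsPBlock M f)
    (h : br M R i * br M R (eb (Cen R) f) = br M R i) (T : Subgroup G) (hT : T ≤ R) :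
    ∀ g, PLE p M ⟨T, g⟩ ⟨R, f⟩ → br M T i * br M T (eb (Cen T) g) = br M T i := by
  induction hn : Nat.card R - Nat.card T using Nat.strong_induction_on generalizing T with
  | _ n ih =>
    intro g hg
    rcases eq_or_lt_of_le hT with rfl | hlt
    · have := ple_unique hM (c := ⟨T, f⟩) ⟨hR, hf⟩ hg Relation.ReflTransGen.refl rfl
      obtain rfl : g = f := by simpa using this
      exact h
    · refine descend_step hM hR hi h0 hf hlt hg fun T' h1 h2 g' hg' => ?_
      refine ih (Nat.card R - Nat.card T') ?_ T' h2 rfl g' hg'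
      have c1 : Nat.card T < Nat.card T' := by
        by_contra hle
        exact h1.ne (Subgroup.eq_of_le_of_card_ge h1.le (not_lt.mp hle))
      have c2 := Subgroup.card_le_of_le h2
      omega

/-! ### The traces against a `p`-subgroup form a character -/

theorem isCharacter_chiSum (χ : IrrCharacter G) (hi : i * i = i) (hiR : InvBy R i) :
    IsCharacter R fun u : R => chiSum (χ : G → ℂ) (MonoidAlgebra.single (u : G) 1 * i) := by
  obtain ⟨n, ρ, -, hχ⟩ := χ.2
  set f := ρ.asAlgebraHom i with hf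
  have hff : ∀ v, f (f v) = f v := fun v => by
    rw [← Module.End.mul_apply, hf, ← map_mul, hi]
  have hcomm : ∀ (u : R) v, ρ (u : G) (f v) = f (ρ (u : G) v) := fun u v => by
    rw [← Representation.asAlgebraHom_single_one ρ (u : G), hf, ← Module.End.mul_apply,
      ← Module.End.mul_apply, ← map_mul, ← map_mul, single_comm_of_invBy hiR u.2]
  set W := LinearMap.range f
  have hmem : ∀ u : R, ∀ v ∈ W, ρ (u : G) v ∈ W := by
    rintro u _ ⟨v, rfl⟩
    exact ⟨ρ (u : G) v, (hcomm u v).symm⟩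
  let σ : Representation ℂ R W :=
    { toFun := fun u => (ρ (u : G)).restrict (hmem u)
      map_one' := LinearMap.ext fun v => Subtype.ext (by simp)
      map_mul' := fun u u' => LinearMap.ext fun v => Subtype.ext (by simp) }
  have hσ : σ.character = fun u : R => chiSum (χ : G → ℂ) (MonoidAlgebra.single (u : G) 1 * i) := by
    funext u
    rw [← hχ, chiSum_character, map_mul, Representation.asAlgebraHom_single_one, ← hf]
    have hall : ∀ v, (ρ (u : G) * f) v ∈ W := fun v => hmem u _ ⟨v, rfl⟩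
    rw [← LinearMap.trace_restrict_eq_of_forall_mem W (ρ (u : G) * f) hall]
    show LinearMap.trace ℂ W (σ u) = _
    congr 1
    refine LinearMap.ext fun v => Subtype.ext ?_
    obtain ⟨w, hw⟩ := v.2
    show ρ (u : G) (v : Fin n → ℂ) = ρ (u : G) (f v)
    rw [← hw, hff]
  exact hσ ▸ isCharacter_of_rep σ

/-! ### The claim -/

variable {P : Subgroup G} {e : Set (IrrCharacter (Cen P))} {z0 : G → ℂ}

theorem exists_pow_of_mem (hR : IsPGroup p R) {u : G} (hu : u ∈ R) : ∃ k, orderOf u = p ^ k := by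
  obtain ⟨k, hk⟩ := IsPGroup.iff_orderOf.mp hR ⟨u, hu⟩
  exact ⟨k, by rwa [← Subgroup.orderOf_mk u hu]⟩

theorem claim_top (hM : IsPModular p M) (hmax : IsMaximalBrauerPair p M B P e)
    (hz : Stable p M ⟨P, e⟩ z0) (hgz : IsGeneralizedCharacter P fun x : P => z0 x)
    (χ : IrrCharacter G) (hR : IsPGroup p R) (hi : Prim M R i) (hiB : idem B * i = i)
    (h0 : br M R i ≠ 0) :
    IsGeneralizedCharacter R fun u : R => theta p M B ⟨P, e⟩ z0 χ i u := by
  obtain ⟨f, hf, hq⟩ := exists_block hM hR hi h0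
  have hRf := pairOf_of_block hM hmax.1.2.1 hR hi.1 hiB h0 hf hq
  obtain ⟨x, hx⟩ := exists_conj_subpairLE hM hmax hRf
  have hxR : cjS x R ≤ P := subgroup_le_of_subpairLE hx
  let hom : R →* P := ((MulAut.conj x).toMonoidHom.comp R.subtype).codRestrict P
    fun u => hxR ⟨u, u.2, rfl⟩
  have key : (fun u : R => theta p M B ⟨P, e⟩ z0 χ i u) =
      ((fun y : P => z0 y) ∘ hom) *
        fun u : R => chiSum (χ : G → ℂ) (MonoidAlgebra.single (u : G) 1 * i) := by
    funext u
    have hu := exists_pow_of_mem hR u.2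
    have hle : Subgroup.zpowers (u : G) ≤ R := (Subgroup.zpowers_le).mpr u.2
    obtain ⟨⟨T, g⟩, hT, hg⟩ := ple_exists hM (c := ⟨R, f⟩) hRf.1 hle
    subst hT
    rw [theta_eq_of_block hM χ hu (hi.1.mono hle) (isBrauerPairOf_down hM hg hRf)
      (descend hM hR hi h0 hf hq _ hle g hg),
      zvp_eq hz (g := x) rfl ((ple_cP x hg).trans hx)]
    rfl
  rw [key]
  exact isGeneralizedCharacter_mul (isGeneralizedCharacter_comap hom hgz)
    (isGeneralizedCharacter_of_isCharacter (isCharacter_chiSum χ hi.1.1 hi.1.2.2))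

theorem theta_sum (hM : IsPModular p M) (χ : IrrCharacter G) {u : G}
    (hu : ∃ k, orderOf u = p ^ k) {ι : Type*} (s : Finset ι) {F : ι → MonoidAlgebra ℂ G}
    (hF : ∀ k ∈ s, Idp M (Subgroup.zpowers u) (F k))
    (ho : ∀ k ∈ s, ∀ l ∈ s, k ≠ l → F k * F l = 0) :
    Idp M (Subgroup.zpowers u) (∑ k ∈ s, F k) ∧ theta p M B ⟨P, e⟩ z0 χ (∑ k ∈ s, F k) u =
      ∑ k ∈ s, theta p M B ⟨P, e⟩ z0 χ (F k) u := by
  induction s using Finset.induction_on with
  | empty =>
    simp only [Finset.sum_empty]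
    exact ⟨⟨mul_zero 0, isInt_zero hM, invBy_zero _⟩, theta_zero hM χ hu⟩
  | @insert c s hc ih =>
    obtain ⟨h1, h2⟩ := ih (fun k hk => hF k (Finset.mem_insert_of_mem hk))
      fun k hk l hl => ho k (Finset.mem_insert_of_mem hk) l (Finset.mem_insert_of_mem hl)
    have hcs := Finset.mem_insert_self c s
    have hFc := hF c hcs
    have o1 : F c * ∑ k ∈ s, F k = 0 := by
      rw [Finset.mul_sum]
      exact Finset.sum_eq_zero fun k hk =>
        ho c hcs k (Finset.mem_insert_of_mem hk) fun e => hc (e ▸ hk)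
    have o2 : (∑ k ∈ s, F k) * F c = 0 := by
      rw [Finset.sum_mul]
      exact Finset.sum_eq_zero fun k hk =>
        ho k (Finset.mem_insert_of_mem hk) c hcs fun e => hc (e ▸ hk)
    rw [Finset.sum_insert hc, Finset.sum_insert hc]
    exact ⟨⟨by rw [add_mul, mul_add, mul_add, hFc.1, h1.1, o1, o2, add_zero, zero_add],
      IsInt.add hM hFc.2.1 h1.2.1, invBy_add hFc.2.2 h1.2.2⟩,
      by rw [theta_add hM χ hu hFc h1 o1 o2, h2]⟩

/-- The part of an element supported on a set. -/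
noncomputable def cutSet (s : Set G) (z : MonoidAlgebra ℂ G) : MonoidAlgebra ℂ G :=
  MonoidAlgebra.ofCoeff (Finsupp.equivFunOnFinite.symm fun x => if x ∈ s then z.coeff x else 0)

theorem coeff_cutSet (s : Set G) (z : MonoidAlgebra ℂ G) (x : G) :
    (cutSet s z).coeff x = if x ∈ s then z.coeff x else 0 := by
  simp [cutSet]

theorem isInt_cutSet (hM : IsPModular p M) (s : Set G) (hz : IsInt M z) :
    IsInt M (cutSet s z) := fun x => by
  rw [coeff_cutSet]; split_ifs
  exacts [hz x, (localRing hM).zero_mem]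

/-- The orbit under conjugation. -/
def orbitSet (R : Subgroup G) (x : G) : Set G := {y | ∃ r ∈ R, r * x * r⁻¹ = y}

theorem mem_orbitSet_conj {x u : G} (hu : u ∈ R) (y : G) :
    u * y * u⁻¹ ∈ orbitSet R x ↔ y ∈ orbitSet R x := by
  constructor
  · rintro ⟨r, hr, h⟩
    refine ⟨u⁻¹ * r, mul_mem (inv_mem hu) hr, ?_⟩
    rw [show u⁻¹ * r * x * (u⁻¹ * r)⁻¹ = u⁻¹ * (r * x * r⁻¹) * u by group, h]; group
  · rintro ⟨r, hr, rfl⟩
    exact ⟨u * r, mul_mem hu hr, by group⟩

theorem orbitSet_eq_of_mem {x y : G} (h : y ∈ orbitSet R x) : orbitSet R y = orbitSet R x := by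
  obtain ⟨r, hr, rfl⟩ := h
  ext w
  constructor
  · rintro ⟨s, hs, rfl⟩; exact ⟨s * r, mul_mem hs hr, by group⟩
  · rintro ⟨s, hs, rfl⟩; exact ⟨s * r⁻¹, mul_mem hs (inv_mem hr), by group⟩

theorem invBy_cutSet {U : Subgroup G} {x : G} (hz : InvBy U z) :
    InvBy U (cutSet (orbitSet U x) z) := fun u hu y => by
  rw [coeff_cutSet, coeff_cutSet, hz u hu y]
  exact if_congr (mem_orbitSet_conj hu y) rfl rfl

/-- A normal subgroup of index `p` above a proper subgroup. -/
theorem exists_step (hR : IsPGroup p R) {R0 : Subgroup G} (h : R0 < R) :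
    ∃ (U : Subgroup G) (t : G), Step p R U t ∧ R0 ≤ U ∧ Nat.card R = p * Nat.card U ∧
      ∀ m n : ℕ, (t ^ m)⁻¹ * t ^ n ∈ U → (m : ZMod p) = n := by
  have hne : R0.subgroupOf R ≠ ⊤ := fun e => h.not_ge (Subgroup.subgroupOf_eq_top.mp e)
  obtain ⟨V, hV, hVi, hle⟩ := PGroupsBasic.exists_normal_index_eq hR hne
  haveI := hV
  have hc : Nat.card (R ⧸ V) = p := hVi
  obtain ⟨t, ht⟩ : ∃ t : R, t ∉ V := by
    by_contra! hall
    rw [(Subgroup.eq_top_iff' V).mpr hall, Subgroup.index_top] at hVi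
    exact (Fact.out : p.Prime).ne_one hVi.symm
  have ht1 : (t : R ⧸ V) ≠ 1 := fun e => ht ((QuotientGroup.eq_one_iff t).mp e)
  have hord : orderOf (t : R ⧸ V) = p :=
    ((Fact.out : p.Prime).eq_one_or_self_of_dvd _ (hc ▸ orderOf_dvd_natCard _)).resolve_left
      fun e => ht1 (orderOf_eq_one_iff.mp e)
  refine ⟨V.map R.subtype, t, ⟨Subgroup.map_subtype_le V, t.2, ?_, ?_, ?_⟩, ?_, ?_, ?_⟩
  · refine Subgroup.mem_normalizer_iff.mpr fun x => ?_
    simp only [SetLike.mem_coe, Subgroup.mem_map, Subgroup.coe_subtype]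
    constructor
    · rintro ⟨v, hv, rfl⟩; exact ⟨t * v * t⁻¹, hV.conj_mem v hv t, rfl⟩
    · rintro ⟨v, hv, hvx⟩
      refine ⟨t⁻¹ * v * t⁻¹⁻¹, hV.conj_mem v hv t⁻¹, ?_⟩
      push_cast
      rw [hvx]; group
  · refine ⟨t ^ p, (QuotientGroup.eq_one_iff _).mp ?_, by push_cast; rfl⟩
    rw [QuotientGroup.mk_pow, ← hord]
    exact pow_orderOf_eq_one _
  · intro x hx
    obtain ⟨n, hn⟩ := Submonoid.mem_powers_iff _ _ |>.mp
      (mem_powers_of_prime_card (g' := ((⟨x, hx⟩ : R) : R ⧸ V)) hc ht1)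
    refine ⟨n, (((t ^ n)⁻¹ * ⟨x, hx⟩ : R) : G), ⟨_, QuotientGroup.eq.mp ?_, rfl⟩, by push_cast; group⟩
    rw [QuotientGroup.mk_pow, hn]
  · intro x hx
    exact ⟨⟨x, h.le hx⟩, hle hx, rfl⟩
  · rw [Subgroup.card_map_of_injective R.subtype_injective, ← hVi, Subgroup.index_mul_card]
  · rintro m n ⟨v, hv, hvx⟩
    have he : ((t ^ m)⁻¹ * t ^ n : R) = v := Subtype.ext (by push_cast; exact hvx.symm)
    have := QuotientGroup.eq.mpr (he ▸ hv)
    rw [QuotientGroup.mk_pow, QuotientGroup.mk_pow, pow_eq_pow_iff_modEq, hord] at this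
    exact (ZMod.natCast_eq_natCast_iff' m n p).mpr this

/-- The case of vanishing image. -/
theorem claim_induced (hM : IsPModular p M) (hz : Stable p M ⟨P, e⟩ z0) (χ : IrrCharacter G)
    (hR : IsPGroup p R) (hi : Prim M R i) (hiB : idem B * i = i) (h0 : br M R i = 0)
    (ih : ∀ U : Subgroup G, U < R → ∀ j, Idp M U j → idem B * j = j →
      IsGeneralizedCharacter U fun u : U => theta p M B ⟨P, e⟩ z0 χ j u) :
    IsGeneralizedCharacter R fun u : R => theta p M B ⟨P, e⟩ z0 χ i u := by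
  -- a unit orbit
  set S : Finset (Set G) := Finset.univ.image (orbitSet R) with hS
  have hsum : ∑ O ∈ S, cutSet O i = i := by
    refine MonoidAlgebra.ext (Finsupp.ext fun y => ?_)
    rw [MonoidAlgebra.coeff_sum, Finsupp.finsetSum_apply]
    have hy : y ∈ orbitSet R y := ⟨1, one_mem R, by simp⟩
    rw [Finset.sum_eq_single (orbitSet R y)]
    · rw [coeff_cutSet, if_pos hy]
    · intro O hO hne
      obtain ⟨x, -, rfl⟩ := Finset.mem_image.mp hO
      rw [coeff_cutSet, if_neg fun hyx => hne (orbitSet_eq_of_mem hyx).symm]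
    · exact fun hn => absurd (Finset.mem_image_of_mem _ (Finset.mem_univ y)) hn
  have hcn : ∀ O ∈ S, Cn M R i (i * cutSet O i * i) := fun O hO => by
    obtain ⟨x, -, rfl⟩ := Finset.mem_image.mp hO
    exact Cn.sandwich hM hi.1 (isInt_cutSet hM _ hi.1.2.1) (invBy_cutSet hi.1.2.2)
  obtain ⟨O, hO, hun⟩ := exists_unit_summand hM hi S (fun O => i * cutSet O i * i) hcn (by
    rw [← Finset.sum_mul, ← Finset.mul_sum, hsum, hi.1.1, hi.1.1]
    exact not_nilM_idem hM hi.1.1 hi.1.2.1 hi.2.1)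
  obtain ⟨x0, -, rfl⟩ := Finset.mem_image.mp hO
  have hx0 : x0 ∉ Cen R := fun hx => hun (nilM_of_small (small_mul_right hM
    (small_mul_left hM hi.1.2.1 fun y => by
      rw [coeff_cutSet]
      split_ifs with hy
      · obtain ⟨r, hr, rfl⟩ := hy
        rw [hi.1.2.2 r hr]
        exact (br_eq_zero_iff hM hi.1.2.1).mp h0 x0 hx
      · exact ideal_zero hM) hi.1.2.1))
  have hlt : stR R x0 < R := lt_of_le_of_ne inf_le_left fun e =>
    hx0 ((mem_cen_iff_le_stR le_rfl).mpr e.ge)
  obtain ⟨U, t, hst, hU0, hcard, hmod⟩ := exists_step hR hlt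
  set f0 := cutSet (orbitSet U x0) i with hf0
  have hiU : Idp M U i := hi.1.mono hst.le
  have hf0U : InvBy U f0 := invBy_cutSet hiU.2.2
  have hf0i : IsInt M f0 := isInt_cutSet hM _ hi.1.2.1
  have htr0 : tr (p := p) t f0 = cutSet (orbitSet R x0) i := by
    refine MonoidAlgebra.ext (Finsupp.ext fun y => ?_)
    rw [tr, MonoidAlgebra.coeff_sum, Finsupp.finsetSum_apply]
    simp only [sh, coeff_cjA, hf0, coeff_cutSet]
    have hval : ∀ k : ZMod p, i.coeff ((t ^ k.val)⁻¹ * y * t ^ k.val) = i.coeff y := fun k => by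
      have := hi.1.2.2 _ (pow_mem hst.mem k.val) ((t ^ k.val)⁻¹ * y * t ^ k.val)
      rw [show t ^ k.val * ((t ^ k.val)⁻¹ * y * t ^ k.val) * (t ^ k.val)⁻¹ = y by group] at this
      exact this.symm
    simp only [hval]
    by_cases hy : y ∈ orbitSet R x0
    · rw [if_pos hy]
      obtain ⟨r, hr, hry⟩ := hy
      obtain ⟨n, v, hv, hrv⟩ := hst.gen r hr
      subst hrv hry
      rw [Finset.sum_eq_single (n : ZMod p)]
      · rw [if_pos]
        have hn : (t ^ (n : ZMod p).val)⁻¹ * t ^ n ∈ U := by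
          rw [ZMod.val_natCast]
          have : t ^ n = t ^ (n % p) * (t ^ p) ^ (n / p) := by
            rw [← pow_mul, ← pow_add, Nat.mod_add_div]
          rw [this, inv_mul_cancel_left]
          exact pow_mem hst.pow _
        exact ⟨(t ^ (n : ZMod p).val)⁻¹ * t ^ n * v, mul_mem hn hv, by group⟩
      · intro k _ hne
        rw [if_neg]
        rintro ⟨w, hw, hwe⟩
        refine hne ?_
        have h1 : w⁻¹ * ((t ^ k.val)⁻¹ * t ^ n * v) ∈ stR R x0 := by
          refine mem_stR.mpr ⟨mul_mem (inv_mem (hst.le hw)) (mul_mem (mul_mem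
            (inv_mem (pow_mem hst.mem _)) (pow_mem hst.mem _)) (hst.le hv)), ?_⟩
          set g := (t ^ k.val)⁻¹ * t ^ n * v with hg
          have hwe' : w * x0 * w⁻¹ = g * x0 * g⁻¹ := by rw [hwe, hg]; group
          calc x0 * (w⁻¹ * g) = w⁻¹ * (w * x0 * w⁻¹) * g := by group
            _ = w⁻¹ * (g * x0 * g⁻¹) * g := by rw [hwe']
            _ = w⁻¹ * g * x0 := by group
        have h2 := mul_mem (mul_mem hw (hU0 h1)) (inv_mem hv)
        have e : w * (w⁻¹ * ((t ^ k.val)⁻¹ * t ^ n * v)) * v⁻¹ = (t ^ k.val)⁻¹ * t ^ n := by group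
        rw [e] at h2
        have := hmod _ _ h2
        rwa [ZMod.natCast_zmod_val] at this
      · simp
    · rw [if_neg hy]
      refine Finset.sum_eq_zero fun k _ => if_neg ?_
      rintro ⟨w, hw, hwe⟩
      exact hy ⟨t ^ k.val * w, mul_mem (pow_mem hst.mem _) (hst.le hw), by
        rw [show t ^ k.val * w * x0 * (t ^ k.val * w)⁻¹ =
          t ^ k.val * (w * x0 * w⁻¹) * (t ^ k.val)⁻¹ by group, hwe]; group⟩
  obtain ⟨d, hd, -, hd2⟩ := exists_inv hM hi (hcn _ hO) hun
  set c := d * (i * f0 * i) with hc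
  have hcc : Cn M U i c := (hd.mono hst.le).mul hM (Cn.sandwich hM hiU hf0i hf0U)
  have htr : tr (p := p) t c = i := by
    rw [hc, tr_mul_left hst hd.2.1, mul_assoc i f0 i, tr_mul_left hst hi.1.2.2]
    have : tr (p := p) t (f0 * i) = tr (p := p) t f0 * i := by
      rw [tr, tr, Finset.sum_mul]
      exact Finset.sum_congr rfl fun k _ => by rw [sh_mul, sh_of_invBy hst hi.1.2.2]
    rw [this, htr0, ← mul_assoc i, hd2]
  obtain ⟨j, hj, hjj, hjt, horth⟩ := green hM hst hi hcc htr
  have hjI : Idp M U j := ⟨hjj, hj.1, hj.2.1⟩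
  have hjB : idem B * j = j := by rw [← hj.2.2.1, ← mul_assoc, hiB]
  have hUp : IsPGroup p U := hR.to_le hst.le
  have hUR : U < R := lt_of_le_of_ne hst.le fun e => by
    rw [e] at hcard
    have := Nat.card_pos (α := R)
    nlinarith [(Fact.out : p.Prime).two_le]
  have hcnk := fun k => cn_sh hst hi.1.2.2 hj k
  have hidk : ∀ k : ZMod p, Idp M U (sh t k j) := fun k =>
    ⟨by rw [← sh_mul, hjj], (hcnk k).1, (hcnk k).2.1⟩
  -- values
  have hin : ∀ u ∈ U, theta p M B ⟨P, e⟩ z0 χ i u =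
      ∑ k : ZMod p, theta p M B ⟨P, e⟩ z0 χ j ((t ^ k.val)⁻¹ * u * t ^ k.val) := by
    intro u hu
    have huo := exists_pow_of_mem hUp hu
    have h := (theta_sum (B := B) (z0 := z0) (P := P) (e := e) hM χ huo Finset.univ
      (fun k _ => (hidk k).mono ((Subgroup.zpowers_le).mpr hu)) fun k _ l _ => horth k l).2
    rw [← tr, hjt] at h
    rw [h]
    refine Finset.sum_congr rfl fun k _ => ?_
    have hu' : (t ^ k.val)⁻¹ * u * t ^ k.val ∈ U := by
      have := (Subgroup.mem_normalizer_iff.mp (inv_mem (pow_mem hst.norm k.val)) u).mp hu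
      simpa using this
    have h2 := theta_cjA (B := B) hM hz χ (exists_pow_of_mem hUp hu') (t ^ k.val)
      (hjI.mono ((Subgroup.zpowers_le).mpr hu'))
    rw [show t ^ k.val * ((t ^ k.val)⁻¹ * u * t ^ k.val) * (t ^ k.val)⁻¹ = u by group] at h2
    rw [← h2]; rfl
  have hout : ∀ u ∈ R, u ∉ U → theta p M B ⟨P, e⟩ z0 χ i u = 0 := by
    intro u hu hnu
    have huo := exists_pow_of_mem hR hu
    refine theta_eq_zero_of_br hM χ huo (hi.1.mono ((Subgroup.zpowers_le).mpr hu))
      ((br_eq_zero_iff hM hi.1.2.1).mpr fun x hx => ?_)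
    obtain ⟨n, v, hv, huv⟩ := hst.gen u hu
    have hn0 : (n : ZMod p) ≠ 0 := fun h => by
      refine hnu (huv ▸ mul_mem ?_ hv)
      obtain ⟨m, rfl⟩ := (ZMod.natCast_eq_zero_iff n p).mp h
      rw [pow_mul]; exact pow_mem hst.pow m
    have hpow : ∀ m : ℕ, cjA (u ^ m) j = sh t ((m : ZMod p) * (n : ZMod p)) j := by
      intro m
      induction m with
      | zero => rw [pow_zero, cjA_one, Nat.cast_zero, zero_mul, sh_zero]
      | succ m ihm =>
        rw [pow_succ', cjA_mul, ihm, huv, cjA_mul,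
          invBy_iff.mp (invBy_sh hst hjI.2.2 _) v hv,
          sh_natCast hst (invBy_sh hst hjI.2.2 _), sh_sh hst hjI.2.2, Nat.cast_succ, add_mul,
          one_mul, add_comm]
    rw [← hjt, tr, MonoidAlgebra.coeff_sum, Finsupp.finsetSum_apply,
      Finset.sum_congr rfl (g := fun _ => j.coeff x) fun k _ => ?_, Finset.sum_const,
      Finset.card_univ, ZMod.card, nsmul_eq_mul]
    · exact ideal_mul_right hM (natCast_p_mem hM) (hj.1 x)
    · have e : k = ((k * (n : ZMod p)⁻¹).val : ℕ) * (n : ZMod p) := by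
        rw [ZMod.natCast_zmod_val, mul_assoc, inv_mul_cancel₀ hn0, mul_one]
      rw [e, ← hpow, coeff_cjA]
      set m := (k * (n : ZMod p)⁻¹).val
      have hxu : Commute (u ^ m) x := (mem_cen_zp.mp hx).pow_left m
      rw [show (u ^ m)⁻¹ * x * u ^ m = x by rw [mul_assoc, ← hxu.eq, inv_mul_cancel_left]]
  -- induction
  have hcl : ∀ r ∈ R, ∀ u ∈ R, theta p M B ⟨P, e⟩ z0 χ i (r * u * r⁻¹) =
      theta p M B ⟨P, e⟩ z0 χ i u := fun r hr u hu => by
    have := theta_cjA (B := B) hM hz χ (exists_pow_of_mem hR hu) r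
      (hi.1.mono ((Subgroup.zpowers_le).mpr hu))
    rwa [invBy_iff.mp hi.1.2.2 r hr] at this
  set V := U.subgroupOf R
  have hgen : IsGeneralizedCharacter V fun v : V => theta p M B ⟨P, e⟩ z0 χ j ((v : R) : G) :=
    isGeneralizedCharacter_comap
      ((R.subtype.comp V.subtype).codRestrict U fun v => Subgroup.mem_subgroupOf.mp v.2)
      (ih U hUR j hjI hjB)
  have key : (fun u : R => theta p M B ⟨P, e⟩ z0 χ i u) =
      indFun V fun v : V => theta p M B ⟨P, e⟩ z0 χ j ((v : R) : G) := by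
    funext g
    have hnorm : ∀ (r : R), ((r⁻¹ * g * r : R) : G) ∈ U ↔ (g : G) ∈ U := by
      intro r
      obtain ⟨n, v, hv, hrv⟩ := hst.gen r r.2
      have hN : (r : G) ∈ Subgroup.normalizer (U : Set G) := by
        rw [hrv]; exact mul_mem (pow_mem hst.norm n) (Subgroup.le_normalizer hv)
      have := Subgroup.mem_normalizer_iff.mp (inv_mem hN) g
      push_cast
      simpa using this.symm
    by_cases hg : (g : G) ∈ U
    · rw [indFun_apply]
      have hterm : ∀ x : R, extendByZero V (fun v : V => theta p M B ⟨P, e⟩ z0 χ j ((v : R) : G))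
          (x⁻¹ * g * x) = theta p M B ⟨P, e⟩ z0 χ j ((x : G)⁻¹ * g * x) := fun x =>
        (ext_zero_of_mem _ (Subgroup.mem_subgroupOf.mpr ((hnorm x).mpr hg))).trans (by push_cast; rfl)
      simp only [hterm]
      have havg : ∀ x : R, theta p M B ⟨P, e⟩ z0 χ i g = ∑ k : ZMod p,
          theta p M B ⟨P, e⟩ z0 χ j ((t ^ k.val)⁻¹ * ((x : G)⁻¹ * g * x) * t ^ k.val) := fun x => by
        have h2 := (hnorm x).mpr hg
        push_cast at h2
        rw [← hin _ h2, ← hcl x x.2 _ (hst.le h2)]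
        congr 1; group
      have hX : (Nat.card R : ℂ) * theta p M B ⟨P, e⟩ z0 χ i g =
          (p : ℂ) * ∑ x : R, theta p M B ⟨P, e⟩ z0 χ j ((x : G)⁻¹ * g * x) := by
        have h1 : ∑ _x : R, theta p M B ⟨P, e⟩ z0 χ i g = ∑ k : ZMod p, ∑ x : R,
            theta p M B ⟨P, e⟩ z0 χ j ((t ^ k.val)⁻¹ * ((x : G)⁻¹ * g * x) * t ^ k.val) := by
          rw [Finset.sum_comm]; exact Finset.sum_congr rfl fun x _ => havg x
        rw [Finset.sum_const, Finset.card_univ, nsmul_eq_mul, ← Nat.card_eq_fintype_card] at h1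
        rw [h1]
        have h2 : ∀ k : ZMod p, ∑ x : R,
            theta p M B ⟨P, e⟩ z0 χ j ((t ^ k.val)⁻¹ * ((x : G)⁻¹ * g * x) * t ^ k.val) =
            ∑ x : R, theta p M B ⟨P, e⟩ z0 χ j ((x : G)⁻¹ * g * x) := fun k => by
          rw [← Equiv.sum_comp (Equiv.mulRight (⟨t ^ k.val, pow_mem hst.mem _⟩ : R))
            fun x : R => theta p M B ⟨P, e⟩ z0 χ j ((x : G)⁻¹ * g * x)]
          refine Finset.sum_congr rfl fun x _ => ?_
          simp only [Equiv.coe_mulRight, Subgroup.coe_mul]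
          congr 1; group
        simp only [h2, Finset.sum_const, Finset.card_univ, ZMod.card, nsmul_eq_mul]
      have hVc : Nat.card V = Nat.card U :=
        Nat.card_congr (Subgroup.subgroupOfEquivOfLe hst.le).toEquiv
      have hU0' : (Nat.card U : ℂ) ≠ 0 := Nat.cast_ne_zero.mpr Nat.card_pos.ne'
      have hp0 : (p : ℂ) ≠ 0 := Nat.cast_ne_zero.mpr (Fact.out : p.Prime).ne_zero
      rw [hcard, Nat.cast_mul, mul_assoc] at hX
      rw [hVc, ← mul_left_cancel₀ hp0 hX, ← mul_assoc, inv_mul_cancel₀ hU0', one_mul]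
    · rw [hout g g.2 hg, ind_eq_zero_of_not_conj]
      exact fun x hx => hg ((hnorm x).mp (Subgroup.mem_subgroupOf.mp hx))
  rw [key]
  exact isGenChar_ind V hgen

/-- The twisted traces of an idempotent of the block form a generalized character. -/
theorem claim (hM : IsPModular p M) (hmax : IsMaximalBrauerPair p M B P e)
    (hz : Stable p M ⟨P, e⟩ z0) (hgz : IsGeneralizedCharacter P fun x : P => z0 x)
    (χ : IrrCharacter G) (R : Subgroup G) (hR : IsPGroup p R) {i : MonoidAlgebra ℂ G}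
    (hi : Idp M R i) (hiB : idem B * i = i) :
    IsGeneralizedCharacter R fun u : R => theta p M B ⟨P, e⟩ z0 χ i u := by
  induction hn : Nat.card R using Nat.strong_induction_on generalizing R i with
  | _ n ih =>
    refine idem_induction hM R (Pr := fun i => idem B * i = i →
      IsGeneralizedCharacter R fun u : R => theta p M B ⟨P, e⟩ z0 χ i u) ?_ ?_ ?_ hi hiB
    · intro _
      have : (fun u : R => theta p M B ⟨P, e⟩ z0 χ 0 u) = 0 :=
        funext fun u => theta_zero hM χ (exists_pow_of_mem hR u.2)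
      rw [this]; exact isGeneralizedCharacter_zero
    · intro a b ha hb h1 h2 iha ihb hab
      have e1 : idem B * a = a := by
        have := congrArg (· * a) hab
        simpa [add_mul, mul_assoc, ha.1, h2] using this
      have e2 : idem B * b = b := by
        have := congrArg (· * b) hab
        simpa [add_mul, mul_assoc, hb.1, h1] using this
      have : (fun u : R => theta p M B ⟨P, e⟩ z0 χ (a + b) u) =
          (fun u : R => theta p M B ⟨P, e⟩ z0 χ a u) + fun u : R => theta p M B ⟨P, e⟩ z0 χ b u :=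
        funext fun u => theta_add hM χ (exists_pow_of_mem hR u.2)
          (ha.mono ((Subgroup.zpowers_le).mpr u.2)) (hb.mono ((Subgroup.zpowers_le).mpr u.2)) h1 h2
      rw [this]; exact isGeneralizedCharacter_add (iha e1) (ihb e2)
    · intro j hj hjB
      by_cases h0 : br M R j = 0
      · refine claim_induced hM hz χ hR hj hjB h0 fun U hU k hk hkB =>
          ih (Nat.card U) ?_ U (hR.to_le hU.le) hk hkB rfl
        rw [← hn]
        by_contra hle
        exact hU.ne (Subgroup.eq_of_le_of_card_ge hU.le (not_lt.mp hle))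
      · exact claim_top hM hmax hz hgz χ hR hj hjB h0

end Cfsg.Agent.Star80Claim
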