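import Mathlib
import Cfsg.Agent.Lib.Star80Claim
import Cfsg.Agent.Lib.BlockContribSection
import Cfsg.Agent.Lib.BlockCyclicRank81
import Cfsg.Agent.Lib.BrauerBlocksPPart
import Cfsg.Agent.Lib.BrauerInduction
import Cfsg.Agent.Lib.FittingHallBasic
import Cfsg.Agent.Lib.CharInducedMonomial

/-!
The star construction `zeta * chi` for a block: it is a generalized character.
-/

set_option autoImplicit false
set_option linter.unusedSectionVars false

namespace Cfsg.Agent.Star80Char

open Cfsg Cfsg.Agent.BlockTheoryLocalRing Cfsg.Agent.BlockTheoryCentre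
open Cfsg.Agent.BlockTheoryIdem Cfsg.Agent.BlockTheoryBrauer
open Cfsg.Agent.BrauerPairs81Base Cfsg.Agent.BrauerPairs81Pairs Cfsg.Agent.BrauerPairs81Conj
open Cfsg.Agent.BrauerPairs81Local Cfsg.Agent.BrauerPairs81Fusion Cfsg.Agent.BrauerPairs81Max
open Cfsg.Agent.Star80Res Cfsg.Agent.Star80Spec Cfsg.Agent.Star80Pairs Cfsg.Agent.Star80Claim
open Cfsg.Agent.BlockContribSection
open CharBasic CharBasicDecomp CharInduced
open scoped ComplexConjugate

attribute [local instance] Classical.propDecidable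

variable {p : ℕ} [Fact p.Prime] {M : Ideal AlgInt} {G : Type*} [Group G] [Fintype G]
variable {B : Set (IrrCharacter G)} {top : BrauerPairIdx G} {z0 z1 : G → ℂ}

/-- The `p`-part of an element. -/
noncomputable def pp (p : ℕ) (x : G) : G :=
  if h : ∃ u, IsPPart p x u then h.choose else 1

theorem pp_spec (x : G) : IsPPart p x (pp p x) := by
  have h := BrauerBlocksPPart.exists_isPPart (Fact.out : p.Prime) x
  rw [pp, dif_pos h]
  exact h.choose_spec

theorem pp_mul {u s : G} (hc : Commute u s) (hu : ∃ k, orderOf u = p ^ k)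
    (hs : ¬ p ∣ orderOf s) : pp p (u * s) = u :=
  BrauerBlocksPPart.isPPart_unique (Fact.out : p.Prime) (pp_spec _) ⟨s, rfl, hc, hu, hs⟩

theorem pp_conj (c x : G) : pp p (c * x * c⁻¹) = c * pp p x * c⁻¹ :=
  BrauerBlocksPPart.isPPart_unique (Fact.out : p.Prime) (pp_spec _)
    (BrauerBlocksPPart.isPPart_conj c (pp_spec x))

/-- The weighted sum of the block idempotents of the pairs at `u`. -/
noncomputable def wt (p : ℕ) (M : Ideal AlgInt) (B : Set (IrrCharacter G)) (top : BrauerPairIdx G)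
    (z0 : G → ℂ) (u : G) : MonoidAlgebra ℂ G :=
  pairSum p M B (Subgroup.zpowers u) fun a => zvp p M top z0 u a • eb (Cen a.1) a.2

theorem wt_conj (hz : Stable p M top z0) (c u : G) :
    wt p M B top z0 (c * u * c⁻¹) = cjA c (wt p M B top z0 u) := by
  rw [wt, wt, ← cjS_zpowers, pairSum_cjS, pairSum, pairSum, cjA_sum]
  refine Finset.sum_congr rfl fun b _ => ?_
  rw [zvp_cP hz c u ⟨_, b⟩ rfl, eb_cP, cjA_smul]

/-- The star construction. -/
noncomputable def star (p : ℕ) (M : Ideal AlgInt) (B : Set (IrrCharacter G))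
    (top : BrauerPairIdx G) (z0 : G → ℂ) (χ : G → ℂ) (x : G) : ℂ :=
  chiSum χ (MonoidAlgebra.single x 1 * wt p M B top z0 (pp p x))

theorem isClassFunction_star (hz : Stable p M top z0) (χ : IrrCharacter G) :
    IsClassFunction G (star p M B top z0 (χ : G → ℂ)) := fun x c => by
  rw [star, star, pp_conj, wt_conj hz, ← cjA_single, ← cjA_mul', chiSum_cjA']

/-- The traces against block idempotents of a centraliser are block parts. -/
theorem chiSum_eb_eq_part {u : G} {H : Subgroup G} (hH : ∀ g, g ∈ H ↔ Commute u g)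
    (b : Set (IrrCharacter H)) (χ : IrrCharacter G) (s : H) :
    chiSum (χ : G → ℂ) (MonoidAlgebra.single (u * (s : G)) 1 * eb H b) =
      part u b (χ : G → ℂ) s := by
  rw [chiSum_comm_of_classFun (irr_classFun χ), eb_eq_incl,
    BlockTheoryInduced.chiSum_incl_mul_single, part_eq_sum,
    ← BlockTheoryInduced.sum_blockCoeff_mul b (isClassFunction_section hH (irr_classFun χ))]
  refine Finset.sum_congr rfl fun k _ => ?_
  rw [coeff_idem]
  show _ * (χ : G → ℂ) _ = _ * (χ : G → ℂ) _
  rw [Subgroup.coe_mul, ← mul_assoc, ← mul_assoc u, ((hH k).1 k.2).eq]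

/-- The star at an element of a section. -/
theorem star_apply (χ : IrrCharacter G) {u : G} (hu : ∃ k, orderOf u = p ^ k)
    (s : Cen (Subgroup.zpowers u)) (hs : ¬ p ∣ orderOf s) :
    star p M B top z0 (χ : G → ℂ) (u * (s : G)) =
      ∑ b ∈ pairs p M B (Subgroup.zpowers u),
        zvp p M top z0 u ⟨_, b⟩ * part u b (χ : G → ℂ) s := by
  rw [star, pp_mul (mem_cen_zp.mp s.2) hu (by rwa [Subgroup.orderOf_coe]), wt, pairSum,
    Finset.mul_sum, map_sum]
  refine Finset.sum_congr rfl fun b _ => ?_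
  rw [mul_smul_comm, map_smul, smul_eq_mul, chiSum_eb_eq_part (fun g => mem_cen_zp)]

/-- Every element lies in a section. -/
theorem exists_section (x : G) : ∃ (u : G) (s : Cen (Subgroup.zpowers u)),
    (∃ k, orderOf u = p ^ k) ∧ ¬ p ∣ orderOf s ∧ u * (s : G) = x := by
  obtain ⟨y, hxy, hc, hu, hy⟩ := pp_spec (p := p) x
  exact ⟨pp p x, ⟨y, mem_cen_zp.mpr hc⟩, hu, by rwa [Subgroup.orderOf_mk], hxy⟩

theorem pairs_eq_subs (hM : IsPModular p M) (u : G) (hu : ∃ k, orderOf u = p ^ k) :
    pairs p M B (Subgroup.zpowers u) = BlockCyclicRank81.subs M B u := by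
  ext b
  rw [mem_pairs]
  exact ⟨BlockCyclicRank81.mem_subs hM, fun h => BrauerPairs81Induced.isBrauerPairOf_of_induced hM
    (isPGroup_zp hu) (Finset.mem_filter.mp h).2⟩

/-! ### Linearity and the unit -/

theorem zvp_congr {u : G} {a : BrauerPairIdx G}
    (h : ∀ g, PLE p M (cP g a) top → z0 (g * u * g⁻¹) = z1 (g * u * g⁻¹)) :
    zvp p M top z0 u a = zvp p M top z1 u a := by
  by_cases hex : ∃ g, PLE p M (cP g a) top
  · rw [zvp, zvp, dif_pos hex, dif_pos hex]
    exact h _ hex.choose_spec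
  · rw [zvp, zvp, dif_neg hex, dif_neg hex]

theorem zvp_add (u : G) (a : BrauerPairIdx G) :
    zvp p M top (z0 + z1) u a = zvp p M top z0 u a + zvp p M top z1 u a := by
  simp only [zvp]; split_ifs <;> simp

theorem zvp_smul (r : ℂ) (u : G) (a : BrauerPairIdx G) :
    zvp p M top (r • z0) u a = r * zvp p M top z0 u a := by
  simp only [zvp]; split_ifs <;> simp

theorem star_add (χ : IrrCharacter G) :
    star p M B top (z0 + z1) (χ : G → ℂ) =
      star p M B top z0 (χ : G → ℂ) + star p M B top z1 (χ : G → ℂ) := by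
  funext x
  simp only [star, Pi.add_apply, wt, pairSum, zvp_add, add_smul, Finset.sum_add_distrib, mul_add,
    map_add]

theorem star_smul (r : ℂ) (χ : IrrCharacter G) :
    star p M B top (r • z0) (χ : G → ℂ) = r • star p M B top z0 (χ : G → ℂ) := by
  funext x
  simp only [star, Pi.smul_apply, wt, pairSum, zvp_smul, mul_smul, ← Finset.smul_sum,
    mul_smul_comm, map_smul]

section Top

variable {P : Subgroup G} {e : Set (IrrCharacter (Cen P))}

theorem zvp_of_const (hM : IsPModular p M) (hmax : IsMaximalBrauerPair p M B P e) {u : G}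
    {c : ℂ} (hc : ∀ g : G, g * u * g⁻¹ ∈ P → z0 (g * u * g⁻¹) = c)
    {b : Set (IrrCharacter (Cen (Subgroup.zpowers u)))}
    (hb : IsBrauerPairOf p M B (Subgroup.zpowers u) b) :
    zvp p M ⟨P, e⟩ z0 u ⟨_, b⟩ = c := by
  obtain ⟨x, hx⟩ := exists_conj_subpairLE hM hmax hb
  have hex : ∃ g, PLE p M (cP g (⟨_, b⟩ : BrauerPairIdx G)) ⟨P, e⟩ := ⟨x, hx⟩
  rw [zvp, dif_pos hex]
  refine hc _ (subgroup_le_of_subpairLE hex.choose_spec ?_)
  exact ⟨u, Subgroup.mem_zpowers u, rfl⟩

theorem star_of_const (hM : IsPModular p M) (hmax : IsMaximalBrauerPair p M B P e)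
    {χ : IrrCharacter G} (hχ : χ ∈ B) {c : ℂ} {u : G} (hu : ∃ k, orderOf u = p ^ k)
    (hc : ∀ g : G, g * u * g⁻¹ ∈ P → z0 (g * u * g⁻¹) = c)
    (s : Cen (Subgroup.zpowers u)) (hs : ¬ p ∣ orderOf s) :
    star p M B ⟨P, e⟩ z0 (χ : G → ℂ) (u * (s : G)) = c * (χ : G → ℂ) (u * (s : G)) := by
  rw [star_apply χ hu s hs]
  have h := apply_eq_sum_part (fun g => mem_cen_zp (u := u) (x := g)) hM hu hmax.1.2.1 χ hs
  rw [if_pos hχ] at h
  rw [h, Finset.mul_sum, pairs_eq_subs hM u hu]
  refine Finset.sum_congr rfl fun b hb => ?_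
  rw [zvp_of_const hM hmax hc (mem_pairs.mp ((pairs_eq_subs hM u hu).symm ▸ hb))]

/-- The star of the constant one is the character. -/
theorem star_one (hM : IsPModular p M) (hmax : IsMaximalBrauerPair p M B P e)
    {χ : IrrCharacter G} (hχ : χ ∈ B) (h1 : ∀ x ∈ P, z0 x = 1) :
    star p M B ⟨P, e⟩ z0 (χ : G → ℂ) = (χ : G → ℂ) := by
  funext x
  obtain ⟨u, s, hu, hs, rfl⟩ := exists_section (p := p) x
  rw [star_of_const hM hmax hχ hu (fun g hg => h1 _ hg) s hs, one_mul]

/-- The star on regular elements. -/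
theorem star_regular (hM : IsPModular p M) (hmax : IsMaximalBrauerPair p M B P e)
    {χ : IrrCharacter G} (hχ : χ ∈ B) {x : G} (hx : ¬ p ∣ orderOf x) :
    star p M B ⟨P, e⟩ z0 (χ : G → ℂ) x = z0 1 * (χ : G → ℂ) x := by
  have h := star_of_const (z0 := z0) (c := z0 1) hM hmax hχ (u := 1) ⟨0, by simp⟩
    (fun g _ => by simp) ⟨x, mem_cen_zp.mpr (Commute.one_left x)⟩ (by rwa [Subgroup.orderOf_mk])
  simpa using h

end Top

/-! ### Generalized character -/

/-- Pairing of the star with a linear character of a nilpotent group. -/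
theorem inner_int (hM : IsPModular p M) {P : Subgroup G} {e : Set (IrrCharacter (Cen P))}
    (hmax : IsMaximalBrauerPair p M B P e) (hz : Stable p M ⟨P, e⟩ z0)
    (hgz : IsGeneralizedCharacter P fun x : P => z0 x) {χ : IrrCharacter G} (hχ : χ ∈ B)
    {U : Type*} [Group U] [Fintype U] [Group.IsNilpotent U] (ι : U →* G)
    (hι : Function.Injective ι) (lam : U →* ℂˣ) :
    ∃ n : ℤ, classInner (fun x : U => star p M B ⟨P, e⟩ z0 (χ : G → ℂ) (ι x))
      (fun x : U => (lam x : ℂ)) = n := by
  obtain ⟨S⟩ : Nonempty (Sylow p U) := inferInstance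
  haveI hSn : (S : Subgroup U).Normal :=
    Sylow.normal_of_normalizerCondition Group.normalizerCondition_of_isNilpotent S
  obtain ⟨L, hL⟩ := Subgroup.exists_right_complement'_of_coprime (N := (S : Subgroup U))
    S.card_coprime_index
  have hLc : Nat.card L = (S : Subgroup U).index := hL.symm.index_eq_card.symm
  have hreg : ∀ l : L, ¬ p ∣ orderOf (l : U) := fun l h =>
    S.not_dvd_index (h.trans (hLc ▸ (Subgroup.orderOf_coe l).symm ▸ orderOf_dvd_natCard l))
  have hcom : ∀ (r : (S : Subgroup U)) (l : L), Commute (r : U) (l : U) := fun r l => by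
    refine FittingHallBasic.commute_of_coprime_orderOf ?_
    obtain ⟨k, hk⟩ := exists_pow_of_mem S.isPGroup' r.2
    rw [hk]
    exact Nat.Coprime.pow_left _ (((Fact.out : p.Prime).coprime_iff_not_dvd).mpr (hreg l))
  set R := (S : Subgroup U).map ι
  have hR : IsPGroup p R := S.isPGroup'.map ι
  have hιo : ∀ x, orderOf (ι x) = orderOf x := fun x => orderOf_injective ι hι x
  have hB := hmax.1.2.1
  -- the idempotent of the regular part
  have hL0 : ¬ p ∣ Nat.card L := hLc ▸ S.not_dvd_index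
  set d : L → ℂ := fun l => (lam ((l : U)⁻¹) : ℂ) with hd
  set X : MonoidAlgebra ℂ G := ∑ l : L, MonoidAlgebra.single (ι l) (d l) with hX
  set eK := (Nat.card L : ℂ)⁻¹ • X with heK
  have hXX : X * X = (Nat.card L : ℂ) • X := by
    have h1 : ∀ l : L, MonoidAlgebra.single (ι l) (d l) * X = X := fun l => by
      rw [hX, Finset.mul_sum]
      refine Fintype.sum_equiv (Equiv.mulLeft l) _ _ fun m => ?_
      rw [MonoidAlgebra.single_mul_single, Equiv.coe_mulLeft]
      simp only [hd, Subgroup.coe_mul, map_mul, mul_inv_rev, Units.val_mul]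
      rw [mul_comm]
    nth_rw 1 [hX]
    rw [Finset.sum_mul, Finset.sum_congr rfl fun l _ => h1 l, Finset.sum_const, Finset.card_univ,
      ← Nat.card_eq_fintype_card, Nat.cast_smul_eq_nsmul]
  have hLne : (Nat.card L : ℂ) ≠ 0 := Nat.cast_ne_zero.mpr Nat.card_pos.ne'
  have hKi : IsInt M eK := IsInt.smul hM (inv_natCast_mem hM hL0) (isInt_sum hM fun l _ =>
    isInt_single hM _ (of_isIntegral hM (IsIntegral.of_pow (orderOf_pos ((l : U)⁻¹))
      (by rw [hd, ← Units.val_pow_eq_pow_val, ← map_pow, pow_orderOf_eq_one, map_one, Units.val_one]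
          exact isIntegral_one))))
  have hKR : InvBy R eK := invBy_iff.mpr fun u hu => by
    obtain ⟨r, hr, rfl⟩ := hu
    rw [heK, cjA_smul, hX, cjA_sum]
    congr 1
    refine Finset.sum_congr rfl fun l _ => ?_
    rw [cjA_single, ← map_inv, ← map_mul, ← map_mul, (hcom ⟨r, hr⟩ l).eq, mul_inv_cancel_right]
  have hKK : eK * eK = eK := by
    rw [heK, smul_mul_smul_comm, hXX, smul_smul, mul_assoc, inv_mul_cancel₀ hLne, mul_one]
  set i := idem B * eK with hi
  have hBc := isCen_idem B
  have hii : i * i = i := by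
    rw [hi, mul_assoc, ← mul_assoc eK, ← hBc.comm eK, mul_assoc (idem B) eK eK, hKK, ← mul_assoc,
      idem_sq]
  have hiI : Idp M R i := ⟨hii, IsInt.mul hM (isInt_idem hM hB) hKi,
    invBy_mul (IsCen.invBy hBc R) hKR⟩
  have hiB : idem B * i = i := by rw [hi, ← mul_assoc, idem_sq]
  have hθ := claim hM hmax hz hgz χ R hR hiI hiB
  -- the average over the regular part
  have havg : ∀ r : (S : Subgroup U), ∑ l : L,
      d l * star p M B ⟨P, e⟩ z0 (χ : G → ℂ) (ι r * ι l) =
        (Nat.card L : ℂ) * theta p M B ⟨P, e⟩ z0 χ i (ι r) := by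
    intro r
    set u := ι (r : U)
    have hur : u ∈ R := ⟨r, r.2, rfl⟩
    have hu := exists_pow_of_mem hR hur
    have hP := isPGroup_zp (p := p) hu
    have hiu : Idp M (Subgroup.zpowers u) i := hiI.mono (Subgroup.zpowers_le.mpr hur)
    have h1 : ∀ l : L, d l * star p M B ⟨P, e⟩ z0 (χ : G → ℂ) (u * ι l) = chiSum (χ : G → ℂ)
        (MonoidAlgebra.single u 1 * (MonoidAlgebra.single (ι l) (d l) * wt p M B ⟨P, e⟩ z0 u)) := by
      intro l
      rw [star, pp_mul ((hcom r l).map ι) hu (by rw [hιo]; exact hreg l), ← smul_eq_mul (d l),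
        ← map_smul, ← smul_mul_assoc, MonoidAlgebra.smul_single, smul_eq_mul, mul_one,
        ← mul_assoc (MonoidAlgebra.single u 1), MonoidAlgebra.single_mul_single, one_mul]
    simp only [h1]
    rw [← map_sum, ← Finset.mul_sum, ← Finset.sum_mul, ← hX,
      show X = (Nat.card L : ℂ) • eK by rw [heK, smul_smul, mul_inv_cancel₀ hLne, one_smul],
      smul_mul_assoc, mul_smul_comm, map_smul, smul_eq_mul]
    congr 1
    rw [wt, theta, pairSum, pairSum, Finset.mul_sum, Finset.mul_sum, map_sum]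
    refine Finset.sum_congr rfl fun b hb => ?_
    rw [mul_smul_comm, mul_smul_comm, map_smul, smul_eq_mul]
    congr 1
    have hbb := (mem_pairs.mp hb).1.2
    set eb' := eb (Cen (Subgroup.zpowers u)) b with heb'
    have hKe : eK * eb' = eb' * eK := by
      rw [heK, smul_mul_assoc, mul_smul_comm, hX, Finset.sum_mul, Finset.mul_sum]
      congr 1
      refine Finset.sum_congr rfl fun l _ => ?_
      have hl : ι l ∈ Cen (Subgroup.zpowers u) := mem_cen_zp.mpr ((hcom r l).map ι)
      have := single_comm_of_invBy (invBy_eb_self (Cen (Subgroup.zpowers u)) b) hl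
      rw [show MonoidAlgebra.single (ι (l : U)) (d l) = d l • MonoidAlgebra.single (ι (l : U)) 1 by
        rw [MonoidAlgebra.smul_single, smul_eq_mul, mul_one], smul_mul_assoc, mul_smul_comm, heb',
        this]
    have hie : i * eb' = eb' * i := by
      rw [hi, mul_assoc, hKe, ← mul_assoc, hBc.comm eb', mul_assoc]
    have he2 : eb' * eb' = eb' := eb_sq _ b
    have hw : Idp M (Subgroup.zpowers u) (i * eb') := ⟨by
      rw [mul_assoc, ← mul_assoc eb', ← hie, mul_assoc i eb' eb', he2, ← mul_assoc, hii],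
      IsInt.mul hM hiu.2.1 (isInt_eb hM hbb), invBy_mul hiu.2.2 (invBy_eb_cen _ b)⟩
    rw [tau_eq hM χ hu (cut_eb hM hP hbb) hiu hw (by
      rw [br_mul hM hP hiu.2.2 (invBy_eb_cen _ b) hiu.2.1 (isInt_eb hM hbb),
        br_eb_comm hM hbb hiu.2.1]), hi]
    rw [mul_assoc (idem B), ← mul_assoc (MonoidAlgebra.single u 1) (idem B),
      ← hBc.comm, mul_assoc (idem B), chiSum_mul χ hBc, omega_idem, if_pos hχ, one_mul]
  -- assemble
  set T : ↥(S : Subgroup U) → ℂ := fun r => theta p M B ⟨P, e⟩ z0 χ i (ι r)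
  have hT : IsGeneralizedCharacter (S : Subgroup U) T :=
    isGeneralizedCharacter_comap ((ι.comp (S : Subgroup U).subtype).codRestrict R
      fun r => ⟨r, r.2, rfl⟩) hθ
  obtain ⟨n, hn⟩ := classInner_isGeneralizedCharacter hT (isGeneralizedCharacter_of_isCharacter
    (isCharacter_linear (lam.comp (S : Subgroup U).subtype)))
  refine ⟨n, hn ▸ ?_⟩
  have hconj : ∀ x : U, conj (lam x : ℂ) = (lam x⁻¹ : ℂ) := fun x =>
    (isCharacter_inv (isCharacter_linear lam) x).symm
  simp only [classInner]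
  have hbij : Function.Bijective fun w : ↥(S : Subgroup U) × L => (w.1 : U) * (w.2 : U) := hL
  rw [← (Equiv.ofBijective _ hbij).sum_comp, Fintype.sum_prod_type]
  have hsum : ∀ r : (S : Subgroup U), ∑ l : L,
      star p M B ⟨P, e⟩ z0 (χ : G → ℂ) (ι ((r : U) * l)) * conj (lam ((r : U) * l) : ℂ) =
        (Nat.card L : ℂ) * (T r * conj ((lam.comp (S : Subgroup U).subtype) r : ℂ)) := by
    intro r
    have h2 := havg r
    rw [← mul_assoc, ← h2, Finset.sum_mul]
    refine Finset.sum_congr rfl fun l _ => ?_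
    simp only [hd, map_mul, Units.val_mul, MonoidHom.comp_apply, Subgroup.coe_subtype, hconj]
    ring
  simp only [Equiv.ofBijective_apply, hsum]
  rw [← Finset.mul_sum, ← hL.card_mul, Nat.cast_mul, mul_inv, mul_assoc,
    inv_mul_cancel_left₀ hLne]

/-- The star construction gives generalized characters. -/
theorem isGen_star (hM : IsPModular p M) {P : Subgroup G} {e : Set (IrrCharacter (Cen P))}
    (hmax : IsMaximalBrauerPair p M B P e) (hz : Stable p M ⟨P, e⟩ z0)
    (hgz : IsGeneralizedCharacter P fun x : P => z0 x) {χ : IrrCharacter G} (hχ : χ ∈ B) :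
    IsGeneralizedCharacter G (star p M B ⟨P, e⟩ z0 (χ : G → ℂ)) := by
  refine BrauerInduction.isGeneralizedCharacter_of_elementary (isClassFunction_star hz χ)
    fun E q hq hE => ?_
  haveI : Group.IsNilpotent E := BrauerInduction.isNilpotent_of_isElementary hq hE
  have hcl : IsClassFunction E fun x : E => star p M B ⟨P, e⟩ z0 (χ : G → ℂ) x :=
    fun a c => isClassFunction_star hz χ (a : G) (c : G)
  refine isGeneralizedCharacter_iff.mpr ⟨hcl, fun ψ => ?_⟩
  obtain ⟨U, lam, hψ⟩ := exists_monomial ψ.2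
  haveI : Group.IsNilpotent U := Subgroup.isNilpotent U
  rw [hψ, inner_ind_right U _ hcl]
  exact inner_int hM hmax hz hgz hχ (E.subtype.comp U.subtype)
    (Subtype.val_injective.comp Subtype.val_injective) lam

end Cfsg.Agent.Star80Char
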