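import Mathlib
import Cfsg.Agent.Lib.Star80Char
import Cfsg.Agent.Lib.BlockContribMajor
import Cfsg.Agent.Lib.BlockContrib
import Cfsg.Agent.S4428

/-!
Composition and inner products of the star construction; irreducibility at norm one; the major
subsections see every character.
-/

set_option autoImplicit false
set_option linter.unusedSectionVars false

namespace Cfsg.Agent.Star80Inner

open Cfsg Cfsg.Agent.BlockTheoryLocalRing Cfsg.Agent.BlockTheoryCentre
open Cfsg.Agent.BlockTheoryIdem Cfsg.Agent.BlockTheoryBrauer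
open Cfsg.Agent.BrauerPairs81Base Cfsg.Agent.BrauerPairs81Pairs Cfsg.Agent.BrauerPairs81Conj
open Cfsg.Agent.BrauerPairs81Local Cfsg.Agent.BrauerPairs81Fusion Cfsg.Agent.BrauerPairs81Max
open Cfsg.Agent.Star80Res Cfsg.Agent.Star80Spec Cfsg.Agent.Star80Pairs Cfsg.Agent.Star80Char
open Cfsg.Agent.BlockContribSection Cfsg.Agent.ClassAlgebraVal
open Cfsg.Agent.BlockContrib (minExp)
open CharBasic CharBasicDecomp CharInduced
open scoped ComplexConjugate

attribute [local instance] Classical.propDecidable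

variable {p : ℕ} [Fact p.Prime] {M : Ideal AlgInt} {G : Type*} [Group G] [Fintype G]
variable {B : Set (IrrCharacter G)} {top : BrauerPairIdx G} {z0 z1 : G → ℂ}

section Parts

variable {H : Subgroup G} {u : G} {b b' : Set (IrrCharacter H)}

theorem kern_proj (ψ : IrrCharacter H) (r : H) :
    (Nat.card H : ℂ)⁻¹ * ∑ c : H, (ψ : H → ℂ) c * kern b r c =
      if ψ ∈ b then (ψ : H → ℂ) r else 0 := by
  have h : (Nat.card H : ℂ)⁻¹ * ∑ c : H, (ψ : H → ℂ) c * kern b r c = ∑ φ : IrrCharacter H,
      if φ ∈ b then classInner (ψ : H → ℂ) (φ : H → ℂ) * (φ : H → ℂ) r else 0 := by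
    simp only [kern, classInner, Finset.mul_sum]
    rw [Finset.sum_comm]
    refine Finset.sum_congr rfl fun φ _ => ?_
    split_ifs
    · rw [Finset.sum_mul]
      exact Finset.sum_congr rfl fun c _ => by ring
    · simp
  rw [h, Finset.sum_eq_single ψ]
  · rw [CharBasicOrth.classInner_irr_self ψ.2, one_mul]
  · intro φ _ hne
    rw [CharBasicOrth.classInner_irr_ne ψ.2 φ.2 fun e => hne (Subtype.ext e).symm, zero_mul, ite_self]
  · simp

/-- Projection of a part to a block, on regular arguments only. -/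
theorem part_proj (hM : IsPModular p M) (hb : IsPBlock M b) (hb' : IsPBlock M b') (f : G → ℂ)
    {r : H} (hr : ¬ p ∣ orderOf r) :
    (Nat.card H : ℂ)⁻¹ * ∑ c ∈ Finset.univ.filter (fun c : H => ¬ p ∣ orderOf c),
        part u b' f c * kern b r c = if b' = b then part u b f r else 0 := by
  rw [Finset.sum_filter_of_ne (p := fun c : H => ¬ p ∣ orderOf c) (fun c _ hne hc => hne (by
    rw [show kern b r c = 0 from weak_orthogonality hM hb hr hc, mul_zero]))]
  simp only [part_eq_sum, Finset.sum_mul]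
  rw [Finset.sum_comm, Finset.mul_sum]
  have h : ∀ ψ : IrrCharacter H, (Nat.card H : ℂ)⁻¹ * ∑ c : H,
      (if ψ ∈ b' then classInner (fun c : H => f (u * c)) (ψ : H → ℂ) * (ψ : H → ℂ) c else 0) *
        kern b r c =
      if ψ ∈ b' ∧ ψ ∈ b then classInner (fun c : H => f (u * c)) (ψ : H → ℂ) * (ψ : H → ℂ) r
        else 0 := by
    intro ψ
    by_cases h' : ψ ∈ b'
    · simp only [h', if_true, true_and, mul_assoc]
      rw [← Finset.mul_sum, mul_left_comm, kern_proj, mul_ite, mul_zero]
    · simp [h']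
  simp only [h]
  by_cases hbb : b' = b
  · subst hbb; rw [if_pos rfl]; simp
  · rw [if_neg hbb]
    exact Finset.sum_eq_zero fun ψ _ => if_neg fun hh =>
      hbb (block_eq_of_mem hM hb' hb hh.1 hh.2)

theorem kern_conj (r c : H) : conj (kern b r c) = kern b c r := by
  simp only [kern, map_sum]
  refine Finset.sum_congr rfl fun ψ _ => ?_
  split_ifs
  · rw [map_mul, Complex.conj_conj, mul_comm]
  · exact map_zero _

/-- Parts in different blocks are orthogonal on the regular elements. -/
theorem part_orth (hM : IsPModular p M) (hb : IsPBlock M b) (hb' : IsPBlock M b') (hne : b ≠ b')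
    (f f' : G → ℂ) :
    ∑ s ∈ Finset.univ.filter (fun s : H => ¬ p ∣ orderOf s),
      part u b f s * conj (part u b' f' s) = 0 := by
  set S := Finset.univ.filter (fun s : H => ¬ p ∣ orderOf s) with hS
  have hm : ∀ {s : H}, s ∈ S → ¬ p ∣ orderOf s := fun h => (Finset.mem_filter.1 h).2
  calc ∑ s ∈ S, part u b f s * conj (part u b' f' s)
      = ∑ s ∈ S, ((Nat.card H : ℂ)⁻¹ * ∑ c ∈ S, part u b f c * kern b s c) * conj (part u b' f' s) :=
        Finset.sum_congr rfl fun s hs => by rw [part_proj hM hb hb f (hm hs), if_pos rfl]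
    _ = ∑ c ∈ S, part u b f c * conj ((Nat.card H : ℂ)⁻¹ * ∑ s ∈ S, part u b' f' s * kern b c s) := by
        simp only [map_mul, map_inv₀, map_natCast, map_sum, Finset.mul_sum, Finset.sum_mul, kern_conj]
        rw [Finset.sum_comm]
        exact Finset.sum_congr rfl fun c _ => Finset.sum_congr rfl fun s _ => by ring
    _ = 0 := Finset.sum_eq_zero fun c hc => by
        rw [part_proj hM hb hb' f' (hm hc), if_neg (Ne.symm hne), map_zero, mul_zero]

/-- The product of the parts in `b` over the regular elements. -/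
noncomputable def mm (p : ℕ) (u : G) (b : Set (IrrCharacter H)) (f f' : G → ℂ) : ℂ :=
  ∑ s ∈ Finset.univ.filter (fun s : H => ¬ p ∣ orderOf s), part u b f s * conj (part u b f' s)

theorem mem_blocks (hM : IsPModular p M) {B : Set (IrrCharacter G)}
    (hind : IsInducedBlock M H b B) {ψ : IrrCharacter H} (hψ : ψ ∈ b) :
    b ∈ ((Finset.univ : Finset (IrrCharacter H)).image
      (fun ψ : IrrCharacter H => blockOf M (ψ : H → ℂ))).filter (fun b' => IsInducedBlock M H b' B) :=
  Finset.mem_filter.2 ⟨Finset.mem_image.2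
    ⟨ψ, Finset.mem_univ _, (eq_blockOf_of_mem hM hind.1 hψ).symm⟩, hind⟩

theorem exists_part_ne_zero_of_mm {f f' : G → ℂ} (h : mm p u b f f' ≠ 0) :
    ∃ s : H, ¬ p ∣ orderOf s ∧ part u b f s ≠ 0 := by
  obtain ⟨s, hs, hne⟩ := Finset.exists_ne_zero_of_sum_ne_zero h
  exact ⟨s, (Finset.mem_filter.1 hs).2, fun e => hne (by rw [e, zero_mul])⟩

theorem mm_self_re (f : G → ℂ) :
    ∃ r : ℝ, mm p u b f f = (r : ℂ) ∧ 0 ≤ r ∧ ((∃ s : H, ¬ p ∣ orderOf s ∧ part u b f s ≠ 0) → 0 < r) := by
  refine ⟨∑ s ∈ Finset.univ.filter (fun s : H => ¬ p ∣ orderOf s), Complex.normSq (part u b f s),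
    ?_, Finset.sum_nonneg fun s _ => Complex.normSq_nonneg _, ?_⟩
  · rw [mm, Complex.ofReal_sum]
    exact Finset.sum_congr rfl fun s _ => Complex.mul_conj _
  · rintro ⟨s, hs, hne⟩
    exact Finset.sum_pos' (fun s _ => Complex.normSq_nonneg _)
      ⟨s, Finset.mem_filter.2 ⟨Finset.mem_univ s, hs⟩, Complex.normSq_pos.mpr hne⟩

end Parts

/-! ### Star -/

theorem zvp_mul (u : G) (a : BrauerPairIdx G) :
    zvp p M top (z0 * z1) u a = zvp p M top z0 u a * zvp p M top z1 u a := by
  simp only [zvp]; split_ifs <;> simp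

/-- The part of a star. -/
theorem part_star (hM : IsPModular p M) (χ : IrrCharacter G) {u : G}
    (hu : ∃ k, orderOf u = p ^ k) {b : Set (IrrCharacter (Cen (Subgroup.zpowers u)))}
    (hb : IsBrauerPairOf p M B (Subgroup.zpowers u) b) {s : Cen (Subgroup.zpowers u)}
    (hs : ¬ p ∣ orderOf s) :
    part u b (star p M B top z0 (χ : G → ℂ)) s =
      zvp p M top z0 u ⟨_, b⟩ * part u b (χ : G → ℂ) s := by
  rw [part, ← Finset.sum_filter_of_ne (p := fun c : Cen (Subgroup.zpowers u) => ¬ p ∣ orderOf c)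
    (fun c _ hne hc => hne (by
      rw [show kern b s c = 0 from weak_orthogonality hM hb.1.2 hs hc, mul_zero]))]
  rw [Finset.sum_congr rfl fun c hc => by
    rw [star_apply χ hu c (Finset.mem_filter.1 hc).2, Finset.sum_mul], Finset.sum_comm,
    Finset.mul_sum, Finset.sum_eq_single b]
  · simp only [mul_assoc]
    rw [← Finset.mul_sum, mul_left_comm, part_proj hM hb.1.2 hb.1.2 _ hs, if_pos rfl]
  · intro b' hb' hne
    simp only [mul_assoc]
    rw [← Finset.mul_sum, mul_left_comm, part_proj hM hb.1.2 (mem_pairs.mp hb').1.2 _ hs,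
      if_neg hne, mul_zero]
  · exact fun h => absurd (mem_pairs.mpr hb) h

/-- The star construction is multiplicative in the weight. -/
theorem star_star (hM : IsPModular p M) {χ ψ : IrrCharacter G}
    (hψ : (ψ : G → ℂ) = star p M B top z1 (χ : G → ℂ)) :
    star p M B top z0 (ψ : G → ℂ) = star p M B top (z0 * z1) (χ : G → ℂ) := by
  funext x
  obtain ⟨u, s, hu, hs, rfl⟩ := exists_section (p := p) x
  rw [star_apply ψ hu s hs, star_apply χ hu s hs]
  refine Finset.sum_congr rfl fun b hb => ?_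
  rw [hψ, part_star hM χ hu (mem_pairs.mp hb) hs, zvp_mul, mul_assoc]

/-- Inner products of stars. -/
theorem inner_star (hM : IsPModular p M) (χ χ' : IrrCharacter G) :
    classInner (star p M B top z0 (χ : G → ℂ)) (star p M B top z1 (χ' : G → ℂ)) =
      (Nat.card G : ℂ)⁻¹ * ∑ u ∈ Finset.univ.filter (fun u : G => ∃ k, orderOf u = p ^ k),
        ∑ b ∈ pairs p M B (Subgroup.zpowers u),
          zvp p M top z0 u ⟨_, b⟩ * conj (zvp p M top z1 u ⟨_, b⟩) *
            mm p u b (χ : G → ℂ) (χ' : G → ℂ) := by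
  rw [classInner, BlockCyclicRank81.sum_eq_sum_sections hM]
  congr 1
  refine Finset.sum_congr rfl fun u hu => ?_
  have hu' := (Finset.mem_filter.1 hu).2
  rw [Finset.sum_congr rfl fun s hs => by
    rw [star_apply χ hu' s (Finset.mem_filter.1 hs).2, star_apply χ' hu' s (Finset.mem_filter.1 hs).2,
      map_sum, Finset.sum_mul_sum]]
  rw [Finset.sum_comm]
  refine Finset.sum_congr rfl fun b hb => ?_
  rw [Finset.sum_comm, Finset.sum_eq_single b]
  · rw [mm, Finset.mul_sum]
    exact Finset.sum_congr rfl fun s _ => by rw [map_mul]; ring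
  · intro b' hb' hne
    calc _ = zvp p M top z0 u ⟨_, b⟩ * conj (zvp p M top z1 u ⟨_, b'⟩) *
          ∑ s ∈ Finset.univ.filter (fun s : Cen (Subgroup.zpowers u) => ¬ p ∣ orderOf s),
            part u b (χ : G → ℂ) s * conj (part u b' (χ' : G → ℂ) s) := by
          rw [Finset.mul_sum]
          exact Finset.sum_congr rfl fun s _ => by rw [map_mul]; ring
      _ = 0 := by
          rw [part_orth hM (mem_pairs.mp hb).1.2 (mem_pairs.mp hb').1.2 (Ne.symm hne), mul_zero]
  · exact fun h => absurd hb h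

variable {P : Subgroup G} {e : Set (IrrCharacter (Cen P))}

/-- Weights of absolute value one keep the norm. -/
theorem norm_star (hM : IsPModular p M) (hmax : IsMaximalBrauerPair p M B P e)
    {χ : IrrCharacter G} (hχ : χ ∈ B) (h : ∀ x ∈ P, z0 x * conj (z0 x) = 1) :
    classInner (star p M B ⟨P, e⟩ z0 (χ : G → ℂ)) (star p M B ⟨P, e⟩ z0 (χ : G → ℂ)) = 1 := by
  have h1 : classInner (χ : G → ℂ) (χ : G → ℂ) = 1 := CharBasicOrth.classInner_irr_self χ.2
  rw [← star_one (z0 := fun _ => 1) hM hmax hχ (fun _ _ => rfl)] at h1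
  rw [← h1, inner_star hM, inner_star hM]
  congr 1
  refine Finset.sum_congr rfl fun u _ => Finset.sum_congr rfl fun b hb => ?_
  congr 1
  have hb' := mem_pairs.mp hb
  obtain ⟨x, hx⟩ := exists_conj_subpairLE hM hmax hb'
  rw [zvp_of_const (z0 := fun _ => (1 : ℂ)) hM hmax (fun _ _ => rfl) hb']
  have hex : ∃ g, PLE p M (cP g (⟨_, b⟩ : BrauerPairIdx G)) ⟨P, e⟩ := ⟨x, hx⟩
  rw [zvp, dif_pos hex, map_one, one_mul]
  exact h _ (subgroup_le_of_subpairLE hex.choose_spec ⟨u, Subgroup.mem_zpowers u, rfl⟩)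

/-- A star of norm one is an irreducible character of the block. -/
theorem mem_of_norm_one (hM : IsPModular p M) (hmax : IsMaximalBrauerPair p M B P e)
    {χ : IrrCharacter G} (hχ : χ ∈ B)
    (hgen : IsGeneralizedCharacter G (star p M B ⟨P, e⟩ z0 (χ : G → ℂ)))
    (hnorm : classInner (star p M B ⟨P, e⟩ z0 (χ : G → ℂ)) (star p M B ⟨P, e⟩ z0 (χ : G → ℂ)) = 1)
    {d : ℕ} (hd : d ≠ 0) (h1 : z0 1 = d) :
    ∃ ψ ∈ B, ((ψ : IrrCharacter G) : G → ℂ) = star p M B ⟨P, e⟩ z0 (χ : G → ℂ) := by
  have hone : ¬ p ∣ orderOf (1 : G) := by simpa using (Fact.out : p.Prime).ne_one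
  obtain ⟨f, hf, hcase⟩ := eq_or_neg_irr_of_norm_one hgen hnorm
  have hval : star p M B ⟨P, e⟩ z0 (χ : G → ℂ) 1 = ((d * charDegree (χ : G → ℂ) : ℕ) : ℂ) := by
    rw [star_regular hM hmax hχ hone, h1, apply_one_eq_charDegree]; push_cast; rfl
  have hpos : star p M B ⟨P, e⟩ z0 (χ : G → ℂ) = f := by
    rcases hcase with h | h
    · exact h
    · exfalso
      rw [h, Pi.neg_apply, show f 1 = _ from apply_one_eq_charDegree ⟨f, hf⟩] at hval
      have hz : ((charDegree f + d * charDegree (χ : G → ℂ) : ℕ) : ℂ) = 0 := by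
        push_cast at hval ⊢
        rw [← hval]; simp
      rw [Nat.cast_eq_zero] at hz
      have := charDegree_pos (⟨f, hf⟩ : IrrCharacter G)
      simp only at this
      omega
  refine ⟨⟨f, hf⟩, ?_, hpos.symm⟩
  by_contra hn
  have h0 := BlockContrib.pair_eq_zero hM hmax.1.2.1 hχ hn
  have hpair : BlockContrib.pair p (χ : G → ℂ) f = (d : ℂ) * BlockContrib.pair p (χ : G → ℂ) χ := by
    rw [BlockContrib.pair, BlockContrib.pair, BlockContrib.regSum_eq, BlockContrib.regSum_eq,
      Finset.mul_sum]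
    refine Finset.sum_congr rfl fun g _ => ?_
    by_cases hg : p ∣ orderOf g
    · rw [if_neg (not_not.mpr hg), if_neg (not_not.mpr hg), mul_zero]
    · rw [if_pos hg, if_pos hg, ← hpos, star_regular hM hmax hχ hg, h1]; ring
  change BlockContrib.pair p (χ : G → ℂ) f = 0 at h0
  rw [hpair, mul_eq_zero, Nat.cast_eq_zero] at h0
  refine h0.elim hd fun hp0 => ?_
  rw [BlockContrib.pair, BlockContrib.regSum_eq] at hp0
  have hre : ∑ g : G, (if ¬ p ∣ orderOf g then Complex.normSq ((χ : G → ℂ) g) else 0 : ℝ) = 0 := by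
    have h2 := congrArg Complex.re hp0
    rw [Complex.re_sum, Complex.zero_re] at h2
    refine Eq.trans (Finset.sum_congr rfl fun g _ => ?_) h2
    by_cases hg : p ∣ orderOf g
    · rw [if_neg (not_not.mpr hg), if_neg (not_not.mpr hg), Complex.zero_re]
    · rw [if_pos hg, if_pos hg, ← Complex.normSq_eq_conj_mul_self, Complex.ofReal_re]
  have h3 := (Finset.sum_eq_zero_iff_of_nonneg (fun g _ => by
    by_cases hg : p ∣ orderOf g
    · rw [if_neg (not_not.mpr hg)]
    · rw [if_pos hg]; exact Complex.normSq_nonneg _)).mp hre 1 (Finset.mem_univ _)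
  rw [if_pos hone, Complex.normSq_eq_zero] at h3
  exact irr_one_ne_zero χ h3

/-- The star at a pair below the top. -/
theorem zvp_below (hz : Stable p M top z0) {u : G}
    {b : Set (IrrCharacter (Cen (Subgroup.zpowers u)))}
    (hle : PLE p M ⟨Subgroup.zpowers u, b⟩ top) :
    zvp p M top z0 u ⟨_, b⟩ = z0 u := by
  rw [zvp_eq hz (g := 1) rfl (by rwa [cP_one])]
  simp

/-- A fixed star forces the weight to be one on nonvanishing parts. -/
theorem eq_one_of_fixed (hM : IsPModular p M) (hz : Stable p M top z0) {χ : IrrCharacter G}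
    (hfix : star p M B top z0 (χ : G → ℂ) = (χ : G → ℂ)) {u : G} (hu : ∃ k, orderOf u = p ^ k)
    {b : Set (IrrCharacter (Cen (Subgroup.zpowers u)))}
    (hb : IsBrauerPairOf p M B (Subgroup.zpowers u) b)
    (hle : PLE p M ⟨Subgroup.zpowers u, b⟩ top) {s : Cen (Subgroup.zpowers u)}
    (hs : ¬ p ∣ orderOf s) (hne : part u b (χ : G → ℂ) s ≠ 0) : z0 u = 1 := by
  have h := part_star (top := top) (z0 := z0) hM χ hu hb hs
  rw [hfix, zvp_below hz hle] at h
  exact mul_right_cancel₀ hne (by rw [one_mul, ← h])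

/-! ### Nonvanishing of parts -/

theorem exists_part_aux (hM : IsPModular p M) (hB : IsPBlock M B) {χ : IrrCharacter G} (hχ : χ ∈ B)
    (h0 : blockHeight p B (χ : G → ℂ) = 0) {u : G} (hu : ∃ k, orderOf u = p ^ k) {H : Subgroup G}
    (hH : ∀ g, g ∈ H ↔ Commute u g) {b : Set (IrrCharacter H)} (hind : IsInducedBlock M H b B) :
    ∃ s : H, ¬ p ∣ orderOf s ∧ part u b (χ : G → ℂ) s ≠ 0 := by
  obtain rfl := centralizer_eq hH
  obtain ⟨y, hy, hne⟩ := S4428.result p M hM B hB χ hχ h0 u hu b hind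
  exact ⟨y, hy, by rwa [← blockPart_eq_part]⟩

/-- Height zero characters have nonzero part at every pair. -/
theorem exists_part_of_height_zero (hM : IsPModular p M) {χ : IrrCharacter G} (hχ : χ ∈ B)
    (h0 : blockHeight p B (χ : G → ℂ) = 0) {u : G} (hu : ∃ k, orderOf u = p ^ k)
    {b : Set (IrrCharacter (Cen (Subgroup.zpowers u)))}
    (hb : IsBrauerPairOf p M B (Subgroup.zpowers u) b) :
    ∃ s : Cen (Subgroup.zpowers u), ¬ p ∣ orderOf s ∧ part u b (χ : G → ℂ) s ≠ 0 :=
  exists_part_aux hM hb.2.1 hχ h0 hu (fun _ => mem_cen_zp) (BlockCyclicRank81.induced_of_pairOf hM hb)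

set_option maxHeartbeats 1000000 in
/-- Major subsections see every character of the block. -/
theorem mm_major_ne_zero (hM : IsPModular p M) {u : G} (hu : ∃ k, orderOf u = p ^ k) {H : Subgroup G}
    (hH : ∀ g, g ∈ H ↔ Commute u g) {b : Set (IrrCharacter H)} (hind : IsInducedBlock M H b B)
    (hd : blockDefect p b = blockDefect p B) {χ χ0 : IrrCharacter G} (hχ : χ ∈ B) (hχ0 : χ0 ∈ B)
    (h0 : blockHeight p B (χ0 : G → ℂ) = 0) :
    mm p u b (χ : G → ℂ) (χ0 : G → ℂ) ≠ 0 := by
  have hb := hind.1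
  have hB := hind.2.1
  set S := Finset.univ.filter (fun s : H => ¬ p ∣ orderOf s) with hS
  have hint : ∀ g : G, MemLocalRing M ((χ0 : G → ℂ) g) := fun g => of_isIntegral hM
    (isCharacter_integral (isCharacter_of_isIrrCharacter χ0.2) g)
  have hintc : ∀ g : G, MemLocalRing M (conj ((χ0 : G → ℂ) g)) := fun g => by
    rw [← irr_inv]; exact hint _
  -- class functions on `H`
  have hfc := isClassFunction_section hH (irr_classFun χ0)
  have hpc : IsClassFunction H (part u b (χ0 : G → ℂ)) := fun a c => by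
    simp only [part_eq_sum, irr_classFun _ a c]
  have hord : ∀ a c : H, orderOf (c * a * c⁻¹) = orderOf a := fun a c =>
    orderOf_injective (MulAut.conj c).toMonoidHom (MulAut.conj c).injective a
  set y1 : MonoidAlgebra ℂ H := ofFun fun s => if p ∣ orderOf s then 0 else conj (part u b (χ0 : G → ℂ) s) with hy1
  set y2 : MonoidAlgebra ℂ H := ofFun fun s => if p ∣ orderOf s then 0 else conj ((χ0 : G → ℂ) (u * s)) with hy2
  set zG : MonoidAlgebra ℂ G := ofFun fun g => if p ∣ orderOf g then 0 else conj ((χ0 : G → ℂ) g) with hzG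
  have hy1c : IsCen y1 := fun a c => by simp only [hy1, coeff_ofFun, hord, hpc a c]
  have hy2c : IsCen y2 := fun a c => by
    simp only [hy2, coeff_ofFun, hord]
    exact congrArg (fun t => if p ∣ orderOf a then 0 else conj t) (hfc a c)
  have hzGc : IsCen zG := fun a c => by
    simp only [hzG, coeff_ofFun,
      show orderOf (c * a * c⁻¹) = orderOf a from
        orderOf_injective (MulAut.conj c).toMonoidHom (MulAut.conj c).injective a]
    rw [irr_classFun χ0 a c]
  have hzGi : IsInt M zG := fun g => by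
    simp only [hzG, coeff_ofFun]; split_ifs
    exacts [(localRing hM).zero_mem, hintc g]
  have hy2i : IsInt M y2 := fun g => by
    simp only [hy2, coeff_ofFun]; split_ifs
    exacts [(localRing hM).zero_mem, hintc _]
  -- integrality of parts at regular elements
  have hparti : ∀ s : H, MemLocalRing M (part u b (χ0 : G → ℂ) s) := fun s => by
    rw [← chiSum_eb_eq_part hH b χ0 s, chiSum_apply]
    exact (localRing hM).sum_mem fun g _ => (localRing hM).mul_mem
      (IsInt.mul hM (isInt_single hM _ (localRing hM).one_mem) (isInt_eb hM hb) g) (hint g)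
  have hparti' : ∀ s : H, ¬ p ∣ orderOf s → MemLocalRing M (conj (part u b (χ0 : G → ℂ) s)) := fun s hs => by
    have e : conj (part u b (χ0 : G → ℂ) s) = part u⁻¹ b (χ0 : G → ℂ) s⁻¹ := by
      simp only [part, map_mul, map_inv₀, map_natCast, map_sum, ← irr_inv, mul_inv_rev]
      congr 1
      refine Fintype.sum_equiv (Equiv.inv H) _ _ fun c => ?_
      simp only [Equiv.inv_apply, Subgroup.coe_inv, kern, map_sum, irr_inv]
      rw [show ((c : G)⁻¹ * u⁻¹) = u⁻¹ * (c : G)⁻¹ from
        ((hH c).1 c.2).inv_inv.eq.symm]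
      congr 1
      refine Finset.sum_congr rfl fun ψ _ => ?_
      split_ifs
      · rw [map_mul]
      · exact map_zero _
    rw [e, ← chiSum_eb_eq_part (fun g => (hH g).trans Commute.inv_left_iff.symm) b χ0 s⁻¹, chiSum_apply]
    exact (localRing hM).sum_mem fun g _ => (localRing hM).mul_mem
      (IsInt.mul hM (isInt_single hM _ (localRing hM).one_mem) (isInt_eb hM hb) g) (hint g)
  have hy1i : IsInt M y1 := fun g => by
    simp only [hy1, coeff_ofFun]; split_ifs with hg
    exacts [(localRing hM).zero_mem, hparti' g hg]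
  -- the central element of `G`
  set w : MonoidAlgebra ℂ G := MonoidAlgebra.single u 1 * incl H y1 with hw
  have hwH : InvBy H w := by
    refine invBy_iff.mpr fun g hg => ?_
    rw [hw, cjA_mul', cjA_single, show g * u * g⁻¹ = u by rw [← ((hH g).1 hg).eq, mul_inv_cancel_right]]
    congr 1
    rw [show g = ((⟨g, hg⟩ : H) : G) from rfl, ← BlockContribMajor.incl_cjA, cjA_of_isCen hy1c]
  have hwi : IsInt M w := IsInt.mul hM (isInt_single hM u (localRing hM).one_mem) fun g => by
    by_cases hg : g ∈ H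
    · rw [show g = ((⟨g, hg⟩ : H) : G) from rfl, coeff_incl_coe]; exact hy1i _
    · rw [coeff_incl_of_notMem _ _ hg]; exact (localRing hM).zero_mem
  set Z := BlockContribMajor.conjSum H w
  have hZc : IsCen Z := BlockContribMajor.isCen_conjSum hwH
  have hZi : IsInt M Z := fun x => by
    simp only [Z, BlockContribMajor.conjSum, MonoidAlgebra.coeff_sum, Finsupp.finsetSum_apply]
    exact (localRing hM).sum_mem fun c _ => by rw [coeff_cjA]; exact hwi _
  have hchi : ∀ ξ : IrrCharacter G, ξ ∈ B →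
      chiSum (ξ : G → ℂ) w = mm p u b (ξ : G → ℂ) (χ0 : G → ℂ) := by
    intro ξ hξ
    rw [hw, chiSum_comm_of_classFun (irr_classFun ξ), BlockTheoryInduced.chiSum_incl_mul_single]
    simp only [hy1, coeff_ofFun, ite_mul, zero_mul]
    rw [mm, Finset.sum_filter]
    have hstep : ∀ s : H, (if p ∣ orderOf s then 0 else conj (part u b (χ0 : G → ℂ) s) * (ξ : G → ℂ) (s * u)) =
        ∑ b' ∈ ((Finset.univ : Finset (IrrCharacter H)).image
          (fun ψ : IrrCharacter H => blockOf M (ψ : H → ℂ))).filter (fun b' => IsInducedBlock M H b' B),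
          if ¬ p ∣ orderOf s then part u b' (ξ : G → ℂ) s * conj (part u b (χ0 : G → ℂ) s) else 0 := by
      intro s
      by_cases hs : p ∣ orderOf s
      · rw [if_pos hs, Finset.sum_eq_zero]; exact fun b' _ => if_neg (not_not.mpr hs)
      · have h := apply_eq_sum_part hH hM hu hB ξ hs
        rw [if_pos hξ] at h
        rw [if_neg hs, show (s : G) * u = u * s from ((hH s).1 s.2).eq.symm, h, Finset.mul_sum]
        exact Finset.sum_congr rfl fun b' _ => by rw [if_pos hs]; ring
    simp only [hstep]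
    rw [Finset.sum_comm, Finset.sum_eq_single b]
    · intro b' hb' hne
      rw [← Finset.sum_filter]
      exact part_orth hM (Finset.mem_filter.1 hb').2.1 hb hne _ _
    · intro hn
      obtain ⟨ψ, hψ⟩ := block_nonempty hM hb
      exact absurd (mem_blocks hM hind hψ) hn
  -- it is enough to treat the height zero character
  suffices hkey : ¬ MemLocalIdeal M (omega (χ0 : G → ℂ) Z) by
    intro hzero
    refine hkey ?_
    have h1 := omega_sub_mem hM (sameBlock_of_mem hM hB hχ0 hχ) hZc hZi
    rwa [omega_apply (χ : G → ℂ) Z, BlockContribMajor.chiSum_conjSum, hchi χ hχ, hzero, mul_zero,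
      mul_zero, sub_zero] at h1
  obtain ⟨ξ, hξ⟩ := block_nonempty hM hb
  set a := omega (ξ : H → ℂ) y1 with ha
  have hsame : ∀ φ : IrrCharacter H, φ ∈ b → omega (φ : H → ℂ) y1 = omega (φ : H → ℂ) y2 := by
    intro φ hφ
    rw [omega_apply, omega_apply]
    congr 1
    rw [chiSum_apply, chiSum_apply]
    simp only [hy1, hy2, coeff_ofFun, ite_mul, zero_mul]
    have hstep : ∀ s : H, (if p ∣ orderOf s then 0 else conj ((χ0 : G → ℂ) (u * s)) * (φ : H → ℂ) s) =
        ∑ b' ∈ ((Finset.univ : Finset (IrrCharacter H)).image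
          (fun ψ : IrrCharacter H => blockOf M (ψ : H → ℂ))).filter (fun b' => IsInducedBlock M H b' B),
          if ¬ p ∣ orderOf s then conj (part u b' (χ0 : G → ℂ) s) * (φ : H → ℂ) s else 0 := by
      intro s
      by_cases hs : p ∣ orderOf s
      · rw [if_pos hs, Finset.sum_eq_zero]; exact fun b' _ => if_neg (not_not.mpr hs)
      · have h := apply_eq_sum_part hH hM hu hB χ0 hs
        rw [if_pos hχ0] at h
        rw [if_neg hs, h, map_sum, Finset.sum_mul]
        exact Finset.sum_congr rfl fun b' _ => by rw [if_pos hs]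
    simp only [hstep]
    rw [Finset.sum_comm, Finset.sum_eq_single b]
    · exact Finset.sum_congr rfl fun s _ => by split_ifs <;> rfl
    · intro b' hb' hne
      have hbb := (Finset.mem_filter.1 hb').2.1
      rw [← Finset.sum_filter]
      have hφp : ∀ s ∈ S, (φ : H → ℂ) s = (Nat.card H : ℂ)⁻¹ *
          ∑ c ∈ S, (φ : H → ℂ) c * kern b s c := fun s hs => by
        rw [hS, Finset.sum_filter_of_ne (p := fun c : H => ¬ p ∣ orderOf c) (fun c _ hne hc => hne (by
          rw [show kern b s c = 0 from weak_orthogonality hM hb (Finset.mem_filter.1 hs).2 hc,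
            mul_zero])), kern_proj, if_pos hφ]
      calc ∑ s ∈ S, conj (part u b' (χ0 : G → ℂ) s) * (φ : H → ℂ) s
          = ∑ c ∈ S, (φ : H → ℂ) c *
              conj ((Nat.card H : ℂ)⁻¹ * ∑ s ∈ S, part u b' (χ0 : G → ℂ) s * kern b c s) := by
            rw [Finset.sum_congr rfl fun s hs => by rw [hφp s hs]]
            simp only [map_mul, map_inv₀, map_natCast, map_sum, Finset.mul_sum, kern_conj]
            rw [Finset.sum_comm]
            exact Finset.sum_congr rfl fun c _ => Finset.sum_congr rfl fun s _ => by ring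
        _ = 0 := Finset.sum_eq_zero fun c hc => by
            rw [part_proj hM hb hbb _ (Finset.mem_filter.1 hc).2, if_neg hne, map_zero, mul_zero]
    · intro hn
      exact absurd (mem_blocks hM hind hφ) hn
  have han : ¬ MemLocalIdeal M a := by
    intro h
    rw [ha, hsame ξ hξ] at h
    have hsm : Small M (y2 - res H zG) := by
      intro c
      rw [MonoidAlgebra.coeff_sub, Finsupp.coe_sub, Pi.sub_apply, coeff_res]
      simp only [hy2, hzG, coeff_ofFun, Subgroup.orderOf_coe]
      split_ifs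
      · rw [sub_self]; exact ideal_zero hM
      · rw [← irr_inv, ← irr_inv, mul_inv_rev, ← ((hH c).1 c.2).inv_inv.eq]
        refine PrincipalSylow80.char_mul_congr hM (isCharacter_of_isIrrCharacter χ0.2) ?_
          ((hH c).1 c.2).inv_inv
        obtain ⟨k, hk⟩ := hu
        exact ⟨k, by rw [orderOf_inv, hk]⟩
    have h1 := omega_ideal_of_small hM ξ (hy2c.sub (isCen_res H hzGc)) hsm
    rw [map_sub] at h1
    have h2 := BlockTheoryInduced.inducedBlock_congr H hM hind hξ hχ0 hzGc hzGi
    have h3 : MemLocalIdeal M (omega (χ0 : G → ℂ) zG) := by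
      simpa using ideal_sub hM (ideal_sub hM h h1) h2
    have h4 : omega (χ0 : G → ℂ) zG = BlockContrib.pair p (χ0 : G → ℂ) χ0 / (χ0 : G → ℂ) 1 := by
      rw [omega_apply, chiSum_apply, BlockContrib.pair, BlockContrib.regSum_eq, div_eq_inv_mul]
      congr 1
      refine Finset.sum_congr rfl fun g _ => ?_
      simp only [hzG, coeff_ofFun]
      split_ifs <;> simp_all
    rw [h4, BlockContrib.pair_div_mem_iff hM χ0 hχ0] at h3
    exact BlockContrib.contrib_not_dvd hM hB hχ0 h0 hχ0 h3
  -- the scalar by which `u` acts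
  have huH : u ∈ H := (hH u).2 (Commute.refl u)
  set uH : H := ⟨u, huH⟩
  have huc : IsCen (MonoidAlgebra.single uH (1 : ℂ)) := fun g c => by
    simp only [MonoidAlgebra.coeff_single, Finsupp.single_apply]
    refine if_congr ?_ rfl rfl
    have hcc : Commute uH c := Subtype.ext ((hH c).1 c.2).eq
    constructor
    · intro h
      calc uH = c⁻¹ * (uH * c) := by rw [hcc.eq, inv_mul_cancel_left]
        _ = c⁻¹ * (c * g * c⁻¹ * c) := by rw [h]
        _ = g := by group
    · intro h
      rw [← h, ← hcc.eq, mul_inv_cancel_right]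
  set ω : IrrCharacter H → ℂ := fun φ => omega (φ : H → ℂ) (MonoidAlgebra.single uH 1) with hω
  have hωmul : ∀ (φ : IrrCharacter H) (c : H), (φ : H → ℂ) (uH * c) = ω φ * (φ : H → ℂ) c := by
    intro φ c
    have h := chiSum_mul φ huc (MonoidAlgebra.single c 1)
    rwa [MonoidAlgebra.single_mul_single, mul_one, chiSum_single, chiSum_single, one_mul,
      one_mul] at h
  have hω1 : ∀ φ : IrrCharacter H, MemLocalRing M (ω φ) ∧ MemLocalIdeal M (ω φ - 1) := by
    intro φ
    obtain ⟨k, hk⟩ := hu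
    have hm : MemLocalRing M (ω φ) :=
      omega_mem_localRing hM φ huc (isInt_single hM uH (localRing hM).one_mem)
    refine ⟨hm, ?_⟩
    have hpow : ∀ n : ℕ, ω φ ^ n * (φ : H → ℂ) 1 = (φ : H → ℂ) (uH ^ n) := by
      intro n
      induction n with
      | zero => simp
      | succ n ih => rw [pow_succ', mul_assoc, ih, ← hωmul, ← pow_succ']
    have hk1 : ω φ ^ p ^ k = 1 := by
      refine mul_right_cancel₀ (irr_one_ne_zero φ) ?_
      rw [hpow, one_mul, show uH ^ p ^ k = 1 from Subtype.ext (by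
        rw [Subgroup.coe_pow, ← hk]; exact pow_orderOf_eq_one u)]
    haveI := charP_kk hM
    haveI := hM.2.1
    letI := Ideal.Quotient.field M
    rw [← resk_eq_zero_iff hM ((localRing hM).sub_mem hm (localRing hM).one_mem)]
    refine eq_zero_of_pow_eq_zero (n := p ^ k) ?_
    have e : resk M (ω φ - 1) = reskHom hM ⟨ω φ, hm⟩ - 1 := by
      rw [← map_one (reskHom hM), ← map_sub]; rfl
    rw [e, sub_pow_char_pow, ← map_pow, show (⟨ω φ, hm⟩ : localRing hM) ^ p ^ k = 1 from
      Subtype.ext (by push_cast; exact hk1), map_one, one_pow, sub_self]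
  -- the degree
  set E := minExp p b with hE
  set n : IrrCharacter H → ℕ := fun φ => charDegree (φ : H → ℂ) / p ^ E with hn
  have hdeg : ∀ φ ∈ b, (φ : H → ℂ) 1 = (p : ℂ) ^ E * (n φ : ℂ) := fun φ hφ => by
    rw [apply_one_eq_charDegree, hn]
    have : p ^ E ∣ charDegree (φ : H → ℂ) :=
      (pow_dvd_pow p (BlockContrib.minExp_le (p := p) hφ)).trans (Nat.ordProj_dvd _ p)
    exact_mod_cast (Nat.mul_div_cancel' this).symm
  have hcoef : ∀ φ : IrrCharacter H, ∃ m : ℕ, classInner (fun c : H => (χ0 : G → ℂ) c) (φ : H → ℂ) = m :=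
    fun φ => CharBasicOrth.classInner_isCharacter
      (isCharacter_comap H.subtype (isCharacter_of_isIrrCharacter χ0.2))
      (isCharacter_of_isIrrCharacter φ.2)
  choose m hm using hcoef
  have hsec : ∀ φ : IrrCharacter H,
      classInner (fun c : H => (χ0 : G → ℂ) (u * c)) (φ : H → ℂ) = (m φ : ℂ) * ω φ := by
    intro φ
    have hcl : IsClassFunction H (fun c : H => (χ0 : G → ℂ) c) := fun x c => irr_classFun χ0 (x : G) (c : G)
    have hex : (fun c : H => (χ0 : G → ℂ) (u * c)) =
        ∑ ψ : IrrCharacter H, ((m ψ : ℂ) * ω ψ) • (ψ : H → ℂ) := by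
      funext c
      show (fun c : H => (χ0 : G → ℂ) c) (uH * c) = _
      conv_lhs => rw [CharBasicOrth.eq_sum_classInner hcl]
      simp only [Finset.sum_apply, Pi.smul_apply, smul_eq_mul, hm]
      exact Finset.sum_congr rfl fun ψ _ => by rw [hωmul]; ring
    rw [hex, inner_sum_left, Finset.sum_eq_single φ]
    · rw [CharInduced.inner_smul_left, CharBasicOrth.classInner_irr_self φ.2, mul_one]
    · intro ψ _ hne
      rw [CharInduced.inner_smul_left, CharBasicOrth.classInner_irr_ne ψ.2 φ.2 fun e => hne (Subtype.ext e),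
        mul_zero]
    · simp
  -- `chi0` of the block idempotent
  obtain ⟨t, ht, htn, hte⟩ := BlockContribMajor.exists_degree_part hH hM hu hind hd hχ0 h0
  have heb : chiSum (χ0 : G → ℂ) (eb H b) =
      ∑ φ : IrrCharacter H, if φ ∈ b then (m φ : ℂ) * (φ : H → ℂ) 1 else 0 := by
    have h1 := BlockTheoryInduced.sum_blockCoeff_mul b
      (f := fun c : H => (χ0 : G → ℂ) c) (fun x c => irr_classFun χ0 (x : G) (c : G)) 1
    simp only [hm] at h1
    rw [← h1, eb_eq_incl, ← mul_one (incl H (idem b)), MonoidAlgebra.one_def,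
      BlockTheoryInduced.chiSum_incl_mul_single]
    exact Finset.sum_congr rfl fun k _ => by rw [coeff_idem]; simp
  set T := Finset.univ.filter (fun φ : IrrCharacter H => φ ∈ b) with hT
  have hmem : ∀ {φ}, φ ∈ T → φ ∈ b := fun h => (Finset.mem_filter.1 h).2
  have ht' : t = ∑ φ ∈ T, (m φ : ℂ) * (n φ : ℂ) := by
    have hp0 : (p : ℂ) ^ E ≠ 0 := pow_ne_zero _ (Nat.cast_ne_zero.mpr (Fact.out : p.Prime).ne_zero)
    refine mul_left_cancel₀ hp0 ?_
    rw [← hte, heb, ← Finset.sum_filter, Finset.mul_sum]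
    exact Finset.sum_congr rfl fun φ hφ => by rw [hdeg φ (hmem hφ)]; ring
  -- the value
  set X := ∑ φ ∈ T, (m φ : ℂ) * (n φ : ℂ) * (ω φ * omega (φ : H → ℂ) y1) with hX
  have hmm : mm p u b (χ0 : G → ℂ) (χ0 : G → ℂ) = (p : ℂ) ^ E * X := by
    rw [mm, ← hS, Finset.sum_congr rfl (fun s _ => by rw [part_eq_sum (χ := (χ0 : G → ℂ))]) |>.trans
      (rfl : _ = ∑ s ∈ S, (∑ φ : IrrCharacter H,
        if φ ∈ b then classInner (fun c : H => (χ0 : G → ℂ) (u * c)) (φ : H → ℂ) * (φ : H → ℂ) s else 0) *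
          conj (part u b (χ0 : G → ℂ) s))]
    simp only [← Finset.sum_filter, ← hT, Finset.sum_mul]
    rw [Finset.sum_comm, hX, Finset.mul_sum]
    refine Finset.sum_congr rfl fun φ hφ => ?_
    have hy : omega (φ : H → ℂ) y1 * (φ : H → ℂ) 1 = ∑ s ∈ S, (φ : H → ℂ) s * conj (part u b (χ0 : G → ℂ) s) := by
      rw [omega_apply, mul_comm ((φ : H → ℂ) 1)⁻¹, inv_mul_cancel_right₀ (irr_one_ne_zero φ),
        chiSum_apply, hS, Finset.sum_filter]
      refine Finset.sum_congr rfl fun s _ => ?_
      simp only [hy1, coeff_ofFun]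
      split_ifs <;> ring
    simp only [hsec, mul_assoc]
    rw [← Finset.mul_sum, ← Finset.mul_sum, ← hy, hdeg φ (hmem hφ)]
    ring
  have hXmem : MemLocalRing M X ∧ MemLocalIdeal M (X - a * t) := by
    have hterm : ∀ φ ∈ T, MemLocalRing M (ω φ * omega (φ : H → ℂ) y1) ∧
        MemLocalIdeal M (ω φ * omega (φ : H → ℂ) y1 - a) := by
      intro φ hφ
      have h1 := omega_mem_localRing hM φ hy1c hy1i
      refine ⟨(localRing hM).mul_mem (hω1 φ).1 h1, ?_⟩
      have h2 := ideal_add hM (ideal_mul_right hM (hω1 φ).2 h1)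
        (omega_sub_mem hM (sameBlock_of_mem hM hb (hmem hφ) hξ) hy1c hy1i)
      rw [show ω φ * omega (φ : H → ℂ) y1 - a =
        (ω φ - 1) * omega (φ : H → ℂ) y1 + (omega (φ : H → ℂ) y1 - a) by ring]
      exact h2
    have hmn : ∀ φ, MemLocalRing M ((m φ : ℂ) * (n φ : ℂ)) := fun φ =>
      (localRing hM).mul_mem (natCast_mem _ _) (natCast_mem _ _)
    refine ⟨(localRing hM).sum_mem fun φ hφ => (localRing hM).mul_mem (hmn φ) (hterm φ hφ).1, ?_⟩
    rw [hX, ht', Finset.mul_sum, ← Finset.sum_sub_distrib]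
    refine ideal_sum hM fun φ hφ => ?_
    rw [mul_comm a, ← mul_sub]
    exact ideal_mul_left hM (hmn φ) (hterm φ hφ).2
  have hXn : ¬ MemLocalIdeal M X := fun h => not_ideal_mul hM
    (omega_mem_localRing hM ξ hy1c hy1i) ht han htn (by simpa using ideal_sub hM h hXmem.2)
  -- orders
  rw [omega_apply, BlockContribMajor.chiSum_conjSum, hchi χ0 hχ0, hmm]
  set nG := charDegree (χ0 : G → ℂ) with hnG
  set i := H.index
  have hi0 : i ≠ 0 := Subgroup.index_ne_zero_of_finite
  have hn0 : nG ≠ 0 := (charDegree_pos χ0).ne'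
  have hfac : nG.factorization p = E + i.factorization p := by
    rw [BlockContrib.exp_eq_add (p := p) hχ0, h0, add_zero, hE]
    have h1 := BlockContrib.minExp_add_defect hM hb
    have h2 := BlockContrib.minExp_add_defect hM hB
    have h3 : (Nat.card G).factorization p = i.factorization p + (Nat.card H).factorization p := by
      rw [← H.index_mul_card, Nat.factorization_mul hi0 Nat.card_pos.ne']
      rfl
    omega
  set A := nG / p ^ nG.factorization p
  set C := i / p ^ i.factorization p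
  have eA : (nG : ℂ) = (p : ℂ) ^ nG.factorization p * (A : ℂ) := by
    exact_mod_cast (Nat.ordProj_mul_ordCompl_eq_self nG p).symm
  have eC : (i : ℂ) = (p : ℂ) ^ i.factorization p * (C : ℂ) := by
    exact_mod_cast (Nat.ordProj_mul_ordCompl_eq_self i p).symm
  have hA0 : ¬ p ∣ A := Nat.not_dvd_ordCompl hM.1 hn0
  have hC0 : ¬ p ∣ C := Nat.not_dvd_ordCompl hM.1 hi0
  rw [apply_one_eq_charDegree, ← hnG, eA, eC, hfac, pow_add]
  have hp0 : (p : ℂ) ≠ 0 := Nat.cast_ne_zero.mpr hM.1.ne_zero
  have hA1 : (A : ℂ) ≠ 0 := Nat.cast_ne_zero.mpr fun e => hA0 (e ▸ dvd_zero p)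
  intro hcon
  have hcon' : MemLocalIdeal M ((C : ℂ) * X) := by
    have := ideal_mul_left hM (natCast_mem (localRing hM) A) hcon
    convert this using 1
    field_simp
  exact not_ideal_mul hM (natCast_mem (localRing hM) C) hXmem.1
    (fun h => hC0 ((natCast_mem_iff hM).mp h)) hXn hcon'

end Cfsg.Agent.Star80Inner
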