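import Mathlib
import Cfsg.Agent.Lib.Star80Inner
import Cfsg.Agent.Lib.BlockContribBounds
import Cfsg.Agent.Lib.FusionFocal

/-!
Twisting the characters of a block by linear characters of the defect group trivial on the focal
subgroup.
-/

set_option autoImplicit false
set_option linter.unusedSectionVars false

namespace Cfsg.Agent.Star80Twist

open Cfsg Cfsg.Agent.BlockTheoryLocalRing Cfsg.Agent.BlockTheoryCentre
open Cfsg.Agent.BlockTheoryIdem Cfsg.Agent.BlockTheoryBrauer
open Cfsg.Agent.BrauerPairs81Base Cfsg.Agent.BrauerPairs81Pairs Cfsg.Agent.BrauerPairs81Conj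
open Cfsg.Agent.BrauerPairs81Local Cfsg.Agent.BrauerPairs81Fusion Cfsg.Agent.BrauerPairs81Max
open Cfsg.Agent.Star80Pairs Cfsg.Agent.Star80Char Cfsg.Agent.Star80Inner
open Cfsg.Agent.BlockContribSection
open CharBasic CharBasicDecomp CharInduced
open scoped ComplexConjugate commutatorElement

attribute [local instance] Classical.propDecidable

variable {p : ℕ} [Fact p.Prime] {M : Ideal AlgInt} {G : Type*} [Group G] [Fintype G]
variable {B : Set (IrrCharacter G)} {P : Subgroup G} {e : Set (IrrCharacter (Cen P))}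
  {F : FusionSystem P}

/-- A linear character of a subgroup extended by zero. -/
noncomputable def lin0 (lam : P →* ℂˣ) : G → ℂ := fun x =>
  if h : x ∈ P then (lam ⟨x, h⟩ : ℂ) else 0

theorem lin0_coe (lam : P →* ℂˣ) (x : P) : lin0 lam (x : G) = (lam x : ℂ) := by
  rw [lin0, dif_pos x.2]

theorem lin0_of_mem (lam : P →* ℂˣ) {x : G} (hx : x ∈ P) : lin0 lam x = (lam ⟨x, hx⟩ : ℂ) :=
  dif_pos hx

theorem lin0_mul (lam lam' : P →* ℂˣ) : lin0 (lam * lam') = lin0 lam * lin0 lam' := by
  funext x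
  simp only [lin0, Pi.mul_apply]
  split_ifs
  · rw [MonoidHom.mul_apply, Units.val_mul]
  · rw [mul_zero]

theorem lin0_apply_one (lam : P →* ℂˣ) : lin0 lam 1 = 1 := by
  rw [lin0_of_mem lam (one_mem P), show (⟨1, one_mem P⟩ : P) = 1 from rfl, map_one, Units.val_one]

theorem fus_quot_mem (hF : IsBlockFusionSystemOn p M B P e F) {x g : G}
    (h : Fus p M ⟨P, e⟩ (Subgroup.zpowers x) g) :
    x⁻¹ * (g * x * g⁻¹) ∈ F.focalSubgroup :=
  Subgroup.subset_closure ⟨_, conjHom (Subgroup.zpowers x) g, ⟨x, Subgroup.mem_zpowers x⟩,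
    (hom_iff hF).mpr ⟨g, fun _ => rfl, h⟩, rfl⟩

theorem stable_lin0 (hF : IsBlockFusionSystemOn p M B P e F) {lam : P →* ℂˣ}
    (hlam : ∀ y : P, (y : G) ∈ F.focalSubgroup → lam y = 1) :
    Stable p M ⟨P, e⟩ (lin0 lam) := by
  intro g x h
  have hx : x ∈ P := h.le (Subgroup.mem_zpowers x)
  have hgx : g * x * g⁻¹ ∈ P := h.le' ⟨x, Subgroup.mem_zpowers x, rfl⟩
  rw [lin0_of_mem lam hgx, lin0_of_mem lam hx]
  have hy := hlam ((⟨x, hx⟩ : P)⁻¹ * ⟨g * x * g⁻¹, hgx⟩) (fus_quot_mem hF h)
  rw [map_mul, map_inv, inv_mul_eq_one] at hy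
  rw [← hy]

theorem gen_lin0 (lam : P →* ℂˣ) : IsGeneralizedCharacter P fun x : P => lin0 lam (x : G) := by
  rw [show (fun x : P => lin0 lam (x : G)) = fun x : P => (lam x : ℂ) from funext (lin0_coe lam)]
  exact isGeneralizedCharacter_of_isCharacter (isCharacter_linear lam)

theorem lin0_norm (lam : P →* ℂˣ) {x : G} (hx : x ∈ P) : lin0 lam x * conj (lin0 lam x) = 1 := by
  rw [lin0_of_mem lam hx, Complex.mul_conj, Complex.normSq_eq_norm_sq, norm_linear, one_pow,
    Complex.ofReal_one]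

/-- A twist of a character of the block by a linear character is a character of the block. -/
theorem exists_twist (hM : IsPModular p M) (hF : IsBlockFusionSystemOn p M B P e F)
    {lam : P →* ℂˣ} (hlam : ∀ y : P, (y : G) ∈ F.focalSubgroup → lam y = 1)
    {χ : IrrCharacter G} (hχ : χ ∈ B) :
    ∃ ψ ∈ B, ((ψ : IrrCharacter G) : G → ℂ) = star p M B ⟨P, e⟩ (lin0 lam) (χ : G → ℂ) :=
  mem_of_norm_one hM hF.1 hχ (isGen_star hM hF.1 (stable_lin0 hF hlam) (gen_lin0 lam) hχ)
    (norm_star hM hF.1 hχ fun _ hx => lin0_norm lam hx) one_ne_zero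
    (by rw [lin0_apply_one, Nat.cast_one])

theorem twist_height (hM : IsPModular p M) (hmax : IsMaximalBrauerPair p M B P e)
    (lam : P →* ℂˣ) {χ ψ : IrrCharacter G} (hχ : χ ∈ B)
    (hψ : (ψ : G → ℂ) = star p M B ⟨P, e⟩ (lin0 lam) (χ : G → ℂ)) :
    blockHeight p B (ψ : G → ℂ) = blockHeight p B (χ : G → ℂ) := by
  have h1 : (ψ : G → ℂ) 1 = (χ : G → ℂ) 1 := by
    rw [hψ, star_regular hM hmax hχ (by simpa using (Fact.out : p.Prime).ne_one), lin0_apply_one,
      one_mul]
  simp only [blockHeight, charDegree, h1]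

theorem commutator_le_subgroupOf (F : FusionSystem P) :
    commutator P ≤ F.focalSubgroup.subgroupOf P := by
  rw [commutator_def, Subgroup.commutator_le]
  intro a _ b _
  rw [Subgroup.mem_subgroupOf]
  exact FusionFocal.commutator_le_focal (Subgroup.commutator_mem_commutator a.2 b.2)

/-- Counting with stabilisers inside a subgroup. -/
theorem index_dvd_card {A X : Type*} [Group A] [MulAction A X] [Finite X] (K : Subgroup A)
    (h : ∀ x : X, MulAction.stabilizer A x ≤ K) : K.index ∣ Nat.card X := by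
  haveI : Fintype X := Fintype.ofFinite X
  rw [Nat.card_congr (MulAction.selfEquivSigmaOrbits A X), Nat.card_sigma]
  refine Finset.dvd_sum fun ω _ => ?_
  rw [Nat.card_coe_set_eq, ← MulAction.index_stabilizer]
  exact Subgroup.index_dvd_of_le (h _)

/-- The main counting statement: the characters of height `h` are permuted by the twists, and any
twist fixing a character is trivial on the elements at which all these characters are seen. -/
theorem count_dvd (hM : IsPModular p M) (hF : IsBlockFusionSystemOn p M B P e F) (h : ℕ)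
    (Z : Subgroup G) (hZP : Z ≤ P)
    (hsee : ∀ χ ∈ B, blockHeight p B ((χ : IrrCharacter G) : G → ℂ) = h → ∀ u ∈ Z,
      ∀ b, SubpairLE p M (Subgroup.zpowers u) b P e →
        ∃ s : Cen (Subgroup.zpowers u), ¬ p ∣ orderOf s ∧ part u b (χ : G → ℂ) s ≠ 0) :
    ((Z ⊓ F.focalSubgroup).subgroupOf Z).index ∣
      Nat.card {χ : IrrCharacter G // χ ∈ B ∧ blockHeight p B (χ : G → ℂ) = h} := by
  have hmax := hF.1
  set N := F.focalSubgroup.subgroupOf P with hN
  haveI hNn : N.Normal := Subgroup.Normal.of_commutator_le (h := commutator_le_subgroupOf F)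
  letI : CommGroup (P ⧸ N) :=
    { (inferInstance : Group (P ⧸ N)) with
      mul_comm := fun a b => by
        obtain ⟨a, rfl⟩ := QuotientGroup.mk_surjective a
        obtain ⟨b, rfl⟩ := QuotientGroup.mk_surjective b
        rw [← QuotientGroup.mk_mul, ← QuotientGroup.mk_mul, QuotientGroup.eq]
        refine commutator_le_subgroupOf F ?_
        rw [show (a * b)⁻¹ * (b * a) = ⁅b⁻¹, a⁻¹⁆ by rw [commutatorElement_def]; group]
        exact Subgroup.commutator_mem_commutator (Subgroup.mem_top _) (Subgroup.mem_top _) }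
  set pull : ((P ⧸ N) →* ℂˣ) → (P →* ℂˣ) := fun a => a.comp (QuotientGroup.mk' N) with hpull
  have hfoc : ∀ a, ∀ y : P, (y : G) ∈ F.focalSubgroup → pull a y = 1 := fun a y hy => by
    show a (y : P ⧸ N) = 1
    rw [(QuotientGroup.eq_one_iff y).mpr hy, map_one]
  set X := {χ : IrrCharacter G // χ ∈ B ∧ blockHeight p B (χ : G → ℂ) = h}
  have hex : ∀ (a : (P ⧸ N) →* ℂˣ) (χ : X), ∃ ψ : X,
      ((ψ : IrrCharacter G) : G → ℂ) =
        star p M B ⟨P, e⟩ (lin0 (pull a)) ((χ : IrrCharacter G) : G → ℂ) := fun a χ => by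
    obtain ⟨ψ, hψ, he⟩ := exists_twist hM hF (hfoc a) χ.2.1
    exact ⟨⟨ψ, hψ, (twist_height hM hmax _ χ.2.1 he).trans χ.2.2⟩, he⟩
  have hext : ∀ ψ ψ' : X, ((ψ : IrrCharacter G) : G → ℂ) = ((ψ' : IrrCharacter G) : G → ℂ) → ψ = ψ' :=
    fun _ _ hh => Subtype.ext (Subtype.ext hh)
  letI : MulAction ((P ⧸ N) →* ℂˣ) X :=
    { smul := fun a χ => (hex a χ).choose
      one_smul := fun χ => hext _ _ ((hex 1 χ).choose_spec.trans
        (star_one hM hmax χ.2.1 fun x hx => by
          rw [lin0_of_mem _ hx, hpull]; simp))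
      mul_smul := fun a b χ => hext _ _ (by
        show (((hex (a * b) χ).choose : IrrCharacter G) : G → ℂ) =
          (((hex a (hex b χ).choose).choose : IrrCharacter G) : G → ℂ)
        rw [(hex (a * b) χ).choose_spec, (hex a (hex b χ).choose).choose_spec,
          star_star hM (hex b χ).choose_spec, ← lin0_mul]
        rfl) }
  haveI : Finite ((P ⧸ N)) := inferInstance
  -- the image of `Z`
  set ι : Z →* P ⧸ N := (QuotientGroup.mk' N).comp (Subgroup.inclusion hZP) with hι
  set K := (MonoidHom.domRestrictHom ι.range ℂˣ).ker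
  have hK : K.index = ((Z ⊓ F.focalSubgroup).subgroupOf Z).index := by
    rw [Subgroup.index_ker, MonoidHom.range_eq_top.mpr (MonoidHom.domRestrict_surjective ℂ ι.range),
      Subgroup.card_top, CommGroup.card_monoidHom_of_hasEnoughRootsOfUnity,
      show (Z ⊓ F.focalSubgroup).subgroupOf Z = ι.ker from ?_, Subgroup.index_ker]
    ext z
    rw [MonoidHom.mem_ker, Subgroup.mem_subgroupOf, Subgroup.mem_inf, hι, MonoidHom.comp_apply,
      QuotientGroup.mk'_apply, QuotientGroup.eq_one_iff]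
    exact ⟨fun hh => hh.2, fun hh => ⟨z.2, hh⟩⟩
  rw [← hK]
  refine index_dvd_card K fun χ a ha => ?_
  rw [MulAction.mem_stabilizer_iff] at ha
  have hfix : star p M B ⟨P, e⟩ (lin0 (pull a)) ((χ : IrrCharacter G) : G → ℂ) =
      ((χ : IrrCharacter G) : G → ℂ) := by
    rw [← (hex a χ).choose_spec]
    exact congrArg (fun ψ : X => ((ψ : IrrCharacter G) : G → ℂ)) ha
  refine MonoidHom.mem_ker.mpr (MonoidHom.ext fun q => ?_)
  obtain ⟨q, z, rfl⟩ := q
  show a (ι z) = 1
  obtain ⟨⟨T, b⟩, hT, hle⟩ := ple_exists hM (c := ⟨P, e⟩) hmax.1.1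
    (Subgroup.zpowers_le.mpr (hZP z.2))
  subst hT
  obtain ⟨s, hs, hne⟩ := hsee χ χ.2.1 χ.2.2 z z.2 b hle
  have hu := Star80Claim.exists_pow_of_mem hmax.1.1.1 (hZP z.2)
  have h1 := eq_one_of_fixed hM (stable_lin0 hF (hfoc a)) hfix hu
    (isBrauerPairOf_down hM hle hmax.1) hle hs hne
  rw [lin0_of_mem _ (hZP z.2), Units.val_eq_one] at h1
  exact h1

end Cfsg.Agent.Star80Twist
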