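import Cfsg.Agent.Lib.BlockAbelianNorm31
import Cfsg.Agent.Lib.Star80Twist

/-!
The twists of a block with abelian defect group by invariant linear characters exist.
-/

set_option autoImplicit false

namespace Cfsg.Agent.BlockAbelianTwist31

open Cfsg
open Cfsg.Agent.BrauerPairs81Base Cfsg.Agent.BrauerPairs81Pairs Cfsg.Agent.BrauerPairs81Conj
open Cfsg.Agent.BrauerPairs81Max Cfsg.Agent.BrauerPairs81Local Cfsg.Agent.BrauerPairs81Fusion
open Cfsg.Agent.BlockCyclicRank81 Cfsg.Agent.BlockContribSection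
open Cfsg.Agent.BlockAbelianWeight31 Cfsg.Agent.BlockAbelianNorm31
open Cfsg.Agent.Star80Pairs Cfsg.Agent.Star80Char Cfsg.Agent.Star80Twist

attribute [local instance] Classical.propDecidable

set_option linter.unusedSectionVars false

universe u

theorem twistsExist {p : ℕ} [Fact p.Prime] {M : Ideal AlgInt} (hM : IsPModular p M) :
    TwistsExist.{u} p M := by
  intro G _ _ B P c hmax hab lam hlam χ hχ
  have hz : Stable p M (⟨P, c⟩ : BrauerPairIdx G) (lin0 lam) := by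
    rintro g x ⟨a, ha1, ha, hga⟩
    have hxa : x ∈ a.1 := ha1 ▸ Subgroup.mem_zpowers x
    have hx : x ∈ P := subgroup_le_of_subpairLE ha hxa
    have hgx : g * x * g⁻¹ ∈ P := subgroup_le_of_subpairLE hga ⟨x, hxa, rfl⟩
    obtain ⟨y, hy, z, hz, rfl⟩ := BlockAbelian81.fus_control hM hmax hab ha hga
    rw [lin0_of_mem lam hgx, lin0_of_mem lam hx]
    refine congrArg Units.val (hlam ⟨x, hx⟩ ⟨_, hgx⟩ (mem_orbit.2 ⟨y, hy, ?_⟩))
    show y * x * y⁻¹ = y * z * x * (y * z)⁻¹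
    rw [show y * z * x * (y * z)⁻¹ = y * (z * x) * z⁻¹ * y⁻¹ by group,
      ← Subgroup.mem_centralizer_iff.mp hz x hxa]
    group
  refine ⟨_, isGen_star hM hmax hz (gen_lin0 lam) hχ, fun x hx s hs => ?_⟩
  rw [star_apply χ hx s (Finset.mem_filter.1 hs).2, pairs_eq_subs hM x hx]
  refine Finset.sum_congr rfl fun b hb => ?_
  congr 1
  obtain ⟨⟨v, g⟩, hw⟩ := mem_image_phiSub hM hmax hab hx hb
  rw [← hw, hat_phiSub hM hmax hab hlam]
  obtain ⟨h1, h2⟩ := Prod.ext_iff.1 hw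
  change g * (v : G) * g⁻¹ = x at h1
  change cP g (pairAt p M ⟨P, c⟩ (v : G)) = (⟨Subgroup.zpowers x, b⟩ : BrauerPairIdx G) at h2
  rw [zvp_eq hz (u := x) (g := g⁻¹) (a := ⟨Subgroup.zpowers x, b⟩) rfl
    (by rw [← h2, cP_inv_cP]; exact pairAt_le hM hmax v)]
  rw [show g⁻¹ * x * g⁻¹⁻¹ = (v : G) by rw [← h1]; group, lin0_coe]

end Cfsg.Agent.BlockAbelianTwist31
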