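import Cfsg.Agent.Lib.BlockSubsections79
import Cfsg.Agent.Lib.BrauerPairs81Pairs

/-!
The difference between the number of characters and the rank of a block as a sum over its
subsections, written as a sum over the non-identity `p`-elements, and the cancellation over chains.
-/

set_option autoImplicit false

namespace Cfsg.Agent.BlockTheoryChains

open Cfsg Cfsg.Agent.BlockTheoryLocalRing Cfsg.Agent.BlockTheoryCentre
open Cfsg.Agent.BlockTheoryIdem Cfsg.Agent.BlockTheoryBrauer Cfsg.Agent.BlockTheoryInduced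
open Cfsg.Agent.BlockSubsections79 Cfsg.Agent.BrauerPairs81Base

attribute [local instance] Classical.propDecidable

set_option linter.unusedSectionVars false

universe u

variable {p : ℕ} {M : Ideal AlgInt}

/-! ### Transport -/

section Push

variable {C K : Type u} [Group C] [Group K] (e : C ≃* K)

theorem blockRank_push (B : Set (IrrCharacter C)) : blockRank p (pushSet e B) = blockRank p B := by
  let L : (C → ℂ) ≃ₗ[ℂ] (K → ℂ) := LinearEquiv.funCongrLeft ℂ ℂ e.symm.toEquiv
  have h : (fun χ : IrrCharacter K => pRegularPart p (χ : K → ℂ)) '' pushSet e B =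
      L '' ((fun χ : IrrCharacter C => pRegularPart p (χ : C → ℂ)) '' B) := by
    rw [pushSet, Set.image_image, Set.image_image]
    refine Set.image_congr fun χ _ => funext fun k => ?_
    obtain ⟨c, rfl⟩ := e.surjective k
    show _ = pRegularPart p (χ : C → ℂ) (e.symm (e c))
    simp only [pRegularPart, IsPRegular, MulEquiv.symm_apply_apply, MulEquiv.orderOf_eq,
      pushChar_apply]
  rw [blockRank, blockRank, h, ← LinearEquiv.coe_coe, ← Submodule.map_span]
  exact LinearEquiv.finrank_map_eq L _

theorem card_push (B : Set (IrrCharacter C)) : Nat.card (pushSet e B) = Nat.card B :=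
  (Nat.card_congr ((pushChar e).image B)).symm

theorem pushSet_symm (B : Set (IrrCharacter K)) : pushSet e (pushSet e.symm B) = B := by
  rw [pushSet, pushSet, Set.image_image]
  refine (Set.image_congr fun χ _ => ?_).trans (Set.image_id B)
  refine Subtype.ext (funext fun k => ?_)
  obtain ⟨c, rfl⟩ := e.surjective k
  rw [pushChar_apply, id]
  conv_lhs => rw [← e.symm_apply_apply c, pushChar_apply]

theorem pushSet_injective : Function.Injective (pushSet e) :=
  fun _ _ h => (Set.image_eq_image (pushChar e).injective).1 h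

end Push

section Induced

variable {G : Type u} [Group G] [Fintype G] {K : Subgroup G} [Fintype K]

theorem induced_iff (b : Set (IrrCharacter K)) (B : Set (IrrCharacter G)) :
    IsInducedBlock M K b B ↔ IsPBlock M b ∧ IsPBlock M B ∧ ∀ ξ ∈ b, ∀ χ ∈ B, ∀ g : G,
      MemLocalIdeal M (omega (ξ : K → ℂ) (res K (classSum g)) - omega (χ : G → ℂ) (classSum g)) := by
  refine and_congr_right fun _ => and_congr_right fun _ => forall₄_congr fun ξ _ χ _ =>
    forall_congr' fun g => ?_
  rw [omega_res_classSum, omega_classSum (irr_classFun χ)]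

theorem omega_push {C : Type u} [Group C] [Fintype C] (e : C ≃* K) (z : MonoidAlgebra ℂ G)
    (ξ : IrrCharacter C) :
    omega (pushChar e ξ : K → ℂ) (res K z) =
      ∑ c : C, z.coeff (e c : G) * ((ξ : C → ℂ) c / (ξ : C → ℂ) 1) := by
  have h1 : (pushChar e ξ : K → ℂ) 1 = (ξ : C → ℂ) 1 := by rw [← map_one e, pushChar_apply]
  rw [omega_eq_finsum, h1]
  refine (Fintype.sum_equiv e.toEquiv _ _ fun c => ?_).symm
  rw [MulEquiv.toEquiv_eq_coe, MulEquiv.coe_toEquiv, pushChar_apply, coeff_res]

end Induced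

/-! ### Ranks of sets of blocks -/

section Rank

variable {C : Type u} [Group C] [Fintype C]

theorem regSpan_rank (b : Set (IrrCharacter C)) :
    blockRank p b = Module.finrank ℂ (regSpan p b) := rfl

/-- The members of a set of blocks. -/
def unionOf (S : Finset (Set (IrrCharacter C))) : Set (IrrCharacter C) := {ψ | ∃ β ∈ S, ψ ∈ β}

theorem blockRank_unionOf (hM : IsPModular p M) (S : Finset (Set (IrrCharacter C)))
    (hS : ∀ β ∈ S, IsPBlock M β) : blockRank p (unionOf S) = ∑ β ∈ S, blockRank p β := by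
  induction S using Finset.induction with
  | empty =>
    rw [show unionOf (∅ : Finset (Set (IrrCharacter C))) = ∅ by ext ψ; simp [unionOf]]
    simp [blockRank]
  | @insert β S hβ ih =>
    have hU : unionOf (insert β S) = β ∪ unionOf S := by
      ext ψ; simp [unionOf]
    have hb := hS β (Finset.mem_insert_self _ _)
    have hinf : regSpan p β ⊓ regSpan p (unionOf S) = ⊥ := by
      refine (Submodule.eq_bot_iff _).2 fun F hF => ?_
      obtain ⟨h1, h2⟩ := Submodule.mem_inf.1 hF
      have e1 : proj p β F = F := by rw [proj_regSpan hM hb hb h1, if_pos rfl]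
      rw [← e1]
      refine Submodule.span_induction (p := fun F _ => proj p β F = 0) ?_ (map_zero _) ?_ ?_ h2
      · rintro _ ⟨ψ, ⟨γ, hγ, hψ⟩, rfl⟩
        rw [proj_regSpan hM hb (hS γ (Finset.mem_insert_of_mem hγ))
          (Submodule.subset_span ⟨ψ, hψ, rfl⟩), if_neg fun (h : β = γ) => hβ (by rw [h]; exact hγ)]
      · intro x y _ _ hx hy; rw [map_add, hx, hy, add_zero]
      · intro a x _ hx; rw [map_smul, hx, smul_zero]
    have h := Submodule.finrank_sup_add_finrank_inf_eq (regSpan p β) (regSpan p (unionOf S))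
    rw [hinf, finrank_bot, add_zero] at h
    rw [Finset.sum_insert hβ, ← ih fun γ hγ => hS γ (Finset.mem_insert_of_mem hγ),
      regSpan_rank, regSpan_rank β, regSpan_rank (unionOf S), ← h]
    have hsp : regSpan p (unionOf (insert β S)) = regSpan p β ⊔ regSpan p (unionOf S) := by
      rw [regSpan, regSpan, regSpan, hU, Set.image_union, Submodule.span_union]
    rw [hsp]

theorem card_unionOf (hM : IsPModular p M) (S : Finset (Set (IrrCharacter C)))
    (hS : ∀ β ∈ S, IsPBlock M β) : Nat.card (unionOf S) = ∑ β ∈ S, Nat.card β := by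
  have e : unionOf S = ↑(S.biUnion fun β => β.toFinset) := by ext ψ; simp [unionOf]
  rw [e, Nat.card_coe_set_eq, Set.ncard_coe_finset, Finset.card_biUnion]
  · refine Finset.sum_congr rfl fun β _ => ?_
    rw [Nat.card_coe_set_eq, Set.ncard_eq_toFinset_card']
  · intro β hβ γ hγ hne
    simp only [Function.onFun, Finset.disjoint_left, Set.mem_toFinset]
    exact fun ψ h1 h2 => hne (block_eq_of_mem hM (hS β hβ) (hS γ hγ) h1 h2)

end Rank

/-! ### One group -/

section Local

variable {Γ : Type u} [Group Γ] [Fintype Γ]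

/-- The blocks of `K` inducing the block `b`. -/
noncomputable def blks (M : Ideal AlgInt) (K : Subgroup Γ) (b : Set (IrrCharacter Γ)) :
    Finset (Set (IrrCharacter K)) :=
  Finset.univ.filter fun β => IsInducedBlock M K β b

theorem mem_blks {K : Subgroup Γ} {b : Set (IrrCharacter Γ)} {β : Set (IrrCharacter K)} :
    β ∈ blks M K b ↔ IsInducedBlock M K β b := by simp [blks]

theorem sum_rank_top (hM : IsPModular p M) {β : Set (IrrCharacter Γ)} (hβ : IsPBlock M β)
    (K : Subgroup Γ) (hK : K = ⊤) : ∑ β' ∈ blks M K β, blockRank p β' = blockRank p β := by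
  subst hK
  let e : Γ ≃* (⊤ : Subgroup Γ) := Subgroup.topEquiv.symm
  have key : ∀ (ξ : IrrCharacter Γ) (g : Γ),
      omega (pushChar e ξ : (⊤ : Subgroup Γ) → ℂ) (res ⊤ (classSum g)) =
        omega (ξ : Γ → ℂ) (classSum g) := by
    intro ξ g
    rw [omega_push e, omega_apply, chiSum_apply, Finset.mul_sum]
    refine Finset.sum_congr rfl fun c _ => ?_
    show (classSum g).coeff c * _ = _
    ring
  have hset : blks M (⊤ : Subgroup Γ) β = {pushSet e β} := by
    refine Finset.ext fun β' => ?_
    rw [mem_blks, Finset.mem_singleton, induced_iff]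
    constructor
    · rintro ⟨hb', -, h⟩
      obtain ⟨ξ', hξ'⟩ := block_nonempty hM hb'
      obtain ⟨ξ, rfl⟩ := (pushChar e).surjective ξ'
      obtain ⟨χ, hχ⟩ := block_nonempty hM hβ
      have hs : SameBlock M (χ : Γ → ℂ) (ξ : Γ → ℂ) := sameBlock_symm fun g => by
        have := h _ hξ' χ hχ g
        rwa [key, omega_classSum (irr_classFun ξ), omega_classSum (irr_classFun χ)] at this
      exact block_eq_of_mem hM hb' (isPBlock_push e hβ) hξ'
        ⟨ξ, mem_of_sameBlock hM hβ hχ hs, rfl⟩
    · rintro rfl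
      refine ⟨isPBlock_push e hβ, hβ, ?_⟩
      rintro _ ⟨ξ, hξ, rfl⟩ χ hχ g
      rw [key]
      exact omega_sub_mem hM (sameBlock_of_mem hM hβ hξ hχ) (isCen_classSum g) (isInt_classSum hM g)
  rw [hset, Finset.sum_singleton, blockRank_push]

/-- The non-identity `p`-elements. -/
def IsPEl1 (p : ℕ) {G : Type*} [Group G] (u : G) : Prop := u ≠ 1 ∧ ∃ k : ℕ, orderOf u = p ^ k

theorem isPEl1_conj {G : Type*} [Group G] {u : G} (h : IsPEl1 p u) (c : G) :
    IsPEl1 p (c * u * c⁻¹) := by
  refine ⟨fun e => h.1 ?_, ?_⟩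
  · have : u = c⁻¹ * (c * u * c⁻¹) * c := by group
    rw [this, e]; group
  · rw [show c * u * c⁻¹ = MulAut.conj c u from rfl, MulEquiv.orderOf_eq]
    exact h.2

theorem sum_eq_sum_classes_int {f : Γ → ℤ} :
    ∑ x : Γ, f x = ∑ C : ConjClasses Γ, ∑ x ∈ Finset.univ.filter (IsConj C.out), f x := by
  rw [← Finset.sum_fiberwise Finset.univ ConjClasses.mk f]
  refine Finset.sum_congr rfl fun C _ => Finset.sum_congr ?_ fun _ _ => rfl
  ext x
  simp [isConj_out]

/-- `k - l` of a set of blocks, as a sum over the non-identity `p`-elements. -/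
theorem card_mul_sub (hM : IsPModular p M) (S : Finset (Set (IrrCharacter Γ)))
    (hS : ∀ β ∈ S, IsPBlock M β) (f : Γ → ℤ) (hf : ∀ c g : Γ, f (c * g * c⁻¹) = f g)
    (hval : ∀ u, IsPEl1 p u → f u = (Nat.card (Subgroup.centralizer ({u} : Set Γ)) : ℤ) *
      ∑ β ∈ S, ∑ β' ∈ blks M (Subgroup.centralizer ({u} : Set Γ)) β, (blockRank p β' : ℤ)) :
    (Nat.card Γ : ℤ) * ((Nat.card (unionOf S) : ℤ) - (blockRank p (unionOf S) : ℤ)) =
      ∑ u ∈ Finset.univ.filter (IsPEl1 p), f u := by
  classical
  set P1 : Finset (ConjClasses Γ) := Finset.univ.filter fun C => IsPEl1 p C.out with hP1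
  set X : Finset Γ := insert 1 (P1.image fun C => C.out) with hXdef
  have hout : ∀ C : ConjClasses Γ, ConjClasses.mk C.out = C := Quotient.out_eq
  have hX : ∀ x ∈ X, ∃ k : ℕ, orderOf x = p ^ k := by
    intro x hx
    rcases Finset.mem_insert.1 hx with rfl | hx
    · exact ⟨0, by simp⟩
    · obtain ⟨C, hC, rfl⟩ := Finset.mem_image.1 hx
      exact (Finset.mem_filter.1 hC).2.2
  have h1X : (1 : Γ) ∉ P1.image fun C => C.out := fun h => by
    obtain ⟨C, hC, he⟩ := Finset.mem_image.1 h
    exact (Finset.mem_filter.1 hC).2.1 he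
  have hXrep : ∀ g : Γ, (∃ k : ℕ, orderOf g = p ^ k) → ∃! x, x ∈ X ∧ IsConj g x := by
    intro g hg
    by_cases h1 : g = 1
    · subst h1
      exact ⟨1, ⟨Finset.mem_insert_self _ _, IsConj.refl _⟩, fun y hy => isConj_one_right.1 hy.2⟩
    · have hc : IsConj g (ConjClasses.mk g).out := ((isConj_out _).1 rfl).symm
      refine ⟨(ConjClasses.mk g).out, ⟨Finset.mem_insert_of_mem (Finset.mem_image.2
        ⟨_, Finset.mem_filter.2 ⟨Finset.mem_univ _, ?_⟩, rfl⟩), hc⟩, fun y hy => ?_⟩
      · obtain ⟨c, hc'⟩ := isConj_iff.1 hc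
        exact hc' ▸ isPEl1_conj ⟨h1, hg⟩ c
      · rcases Finset.mem_insert.1 hy.1 with rfl | hy'
        · exact absurd (isConj_one_left.1 hy.2) h1
        · obtain ⟨C, -, rfl⟩ := Finset.mem_image.1 hy'
          rw [show ConjClasses.mk g = C from (ConjClasses.mk_eq_mk_iff_isConj.2 hy.2).trans (hout C)]
  have hk : ∀ β ∈ S, (Nat.card β : ℤ) - (blockRank p β : ℤ) = ∑ C ∈ P1,
      ∑ β' ∈ blks M (Subgroup.centralizer ({C.out} : Set Γ)) β, (blockRank p β' : ℤ) := by
    intro β hβ
    have h := card_eq_sum_rank hM (hS β hβ) hX hXrep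
    rw [Finset.sum_coe_sort X (fun x => ∑ b ∈ Finset.univ.filter
      (fun b => IsInducedBlock M (Subgroup.centralizer ({x} : Set Γ)) b β), blockRank p b)] at h
    rw [hXdef, Finset.sum_insert h1X, Finset.sum_image fun C _ D _ e =>
      (hout C).symm.trans ((congrArg ConjClasses.mk e).trans (hout D))] at h
    rw [h, show (∑ b ∈ Finset.univ.filter
        (fun b => IsInducedBlock M (Subgroup.centralizer ({(1 : Γ)} : Set Γ)) b β), blockRank p b) =
      blockRank p β from sum_rank_top hM (hS β hβ) _ (by simp)]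
    push_cast
    rw [add_sub_cancel_left]
    rfl
  rw [card_unionOf hM S hS, blockRank_unionOf hM S hS]
  push_cast
  rw [← Finset.sum_sub_distrib, Finset.sum_congr rfl hk, Finset.sum_comm, Finset.mul_sum,
    hP1, Finset.sum_filter]
  rw [Finset.sum_filter, sum_eq_sum_classes_int (f := fun u => if IsPEl1 p u then f u else 0)]
  refine Finset.sum_congr rfl fun C _ => ?_
  by_cases hC : IsPEl1 p C.out
  · have hR : ∑ x ∈ Finset.univ.filter (IsConj C.out), (if IsPEl1 p x then f x else 0) =
        ∑ _x ∈ Finset.univ.filter (IsConj C.out), f C.out :=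
      Finset.sum_congr rfl fun x hx => by
        obtain ⟨c, rfl⟩ := isConj_iff.1 (Finset.mem_filter.1 hx).2
        rw [if_pos (isPEl1_conj hC c), hf]
    rw [if_pos hC, hR, Finset.sum_const, hval _ hC, nsmul_eq_mul]
    have hidx : (Finset.univ.filter (IsConj C.out)).card *
        Nat.card (Subgroup.centralizer ({C.out} : Set Γ)) = Nat.card Γ := by
      rw [← Fintype.card_subtype, ← Nat.card_eq_fintype_card, ← index_centralizer_eq,
        Subgroup.index_mul_card]
    rw [← hidx]
    push_cast
    ring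
  · rw [if_neg hC, Finset.sum_eq_zero fun x hx => ?_]
    obtain ⟨c, rfl⟩ := isConj_iff.1 (Finset.mem_filter.1 hx).2
    rw [if_neg]
    intro h
    refine hC ?_
    have := isPEl1_conj h c⁻¹
    simpa [mul_assoc] using this

end Local

end Cfsg.Agent.BlockTheoryChains
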