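import Cfsg.Agent.Lib.BrauerPairs81Local

/-!
The inertial index of a maximal Brauer pair is prime to `p`.
-/

namespace Cfsg.Agent.BrauerPairs81Index

open Cfsg Cfsg.Agent.BlockTheoryLocalRing Cfsg.Agent.BlockTheoryCentre
open Cfsg.Agent.BlockTheoryIdem Cfsg.Agent.BlockTheoryBrauer Cfsg.Agent.BlockTheoryDefect
open Cfsg.Agent.BrauerPairs81Base Cfsg.Agent.BrauerPairs81Pairs Cfsg.Agent.BrauerPairs81Conj
open Cfsg.Agent.BrauerPairs81Max Cfsg.Agent.BrauerPairs81Stab Cfsg.Agent.BrauerPairs81Local
open scoped ComplexConjugate Pointwise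

attribute [local instance] Classical.propDecidable

set_option linter.unusedSectionVars false

variable {p : ℕ} [Fact p.Prime] {M : Ideal AlgInt} {G : Type*} [Group G] [Fintype G]

theorem centralChar_eq_of_isConj {H : Type*} [Group H] [Fintype H] (χ : IrrCharacter H) {g h : H}
    (hgh : IsConj g h) : centralChar (χ : H → ℂ) g = centralChar (χ : H → ℂ) h := by
  obtain ⟨c, rfl⟩ := isConj_iff.mp hgh
  rw [centralChar, centralChar, BlockPrincipal81.index_centralizer_conj, irr_classFun χ g c]

/-- Inside `N(P)`, a `p`-subgroup mapping onto the `p`-quotient modulo a normal subgroup. -/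
theorem exists_pGroup_cover {C S A P : Subgroup G} (hS : IsPGroup p S) (hP : IsPGroup p P)
    (hSC : S ≤ Subgroup.normalizer (C : Set G)) (hA : A ≤ S ⊔ C) (hcov : S ≤ A ⊔ C)
    (hPA : P ≤ A) : ∃ T : Subgroup G, IsPGroup p T ∧ P ≤ T ∧ T ≤ A ∧ S ≤ T ⊔ C := by
  set K := S ⊔ C with hK
  haveI : (C.subgroupOf K).Normal :=
    Subgroup.normal_subgroupOf_of_le_normalizer (sup_le hSC Subgroup.le_normalizer)
  let q : K →* K ⧸ C.subgroupOf K := QuotientGroup.mk' _
  let fS : S →* K ⧸ C.subgroupOf K := q.comp (Subgroup.inclusion le_sup_left)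
  let fA : A →* K ⧸ C.subgroupOf K := q.comp (Subgroup.inclusion hA)
  have hfS : Function.Surjective fS := by
    intro y
    obtain ⟨k, rfl⟩ := QuotientGroup.mk'_surjective _ y
    have hk : (k : G) ∈ ((S : Subgroup G) : Set G) * (C : Set G) := by
      rw [← Subgroup.coe_mul_of_left_le_normalizer_right _ _ hSC]
      exact k.2
    obtain ⟨s, hs, c, hc, hsc⟩ := hk
    refine ⟨⟨s, hs⟩, QuotientGroup.eq.mpr ?_⟩
    rw [Subgroup.mem_subgroupOf]
    simpa [← hsc] using hc
  have hCN : C ⊔ A ≤ Subgroup.normalizer (C : Set G) :=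
    sup_le Subgroup.le_normalizer (hA.trans (sup_le hSC Subgroup.le_normalizer))
  have hfA : Function.Surjective fA := by
    intro y
    obtain ⟨s, rfl⟩ := hfS y
    have hs : (s : G) ∈ (A : Set G) * (C : Set G) := by
      rw [← Subgroup.coe_mul_of_left_le_normalizer_right _ _ (le_sup_right.trans hCN)]
      exact hcov s.2
    obtain ⟨a, ha, c, hc, hac⟩ := hs
    refine ⟨⟨a, ha⟩, QuotientGroup.eq.mpr ?_⟩
    rw [Subgroup.mem_subgroupOf]
    simpa [← hac] using hc
  have hQ : IsPGroup p (K ⧸ C.subgroupOf K) := hS.of_surjective fS hfS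
  obtain ⟨T, hT⟩ := (hP.comap_subtype (K := A)).exists_le_sylow
  have htop : ((T.mapSurjective hfA : Sylow p (K ⧸ C.subgroupOf K)) :
      Subgroup (K ⧸ C.subgroupOf K)) = ⊤ :=
    ((T.mapSurjective hfA).3 (hQ.to_subgroup ⊤) le_top).symm
  rw [Sylow.coe_mapSurjective] at htop
  refine ⟨(T : Subgroup A).map A.subtype, T.2.map _, fun u hu => ⟨⟨u, hPA hu⟩, hT hu, rfl⟩,
    Subgroup.map_subtype_le _, fun s hs => ?_⟩
  obtain ⟨t, ht, hts⟩ : fS ⟨s, hs⟩ ∈ (T : Subgroup A).map fA := htop.symm ▸ Subgroup.mem_top _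
  have := QuotientGroup.eq.mp hts
  rw [Subgroup.mem_subgroupOf] at this
  have h2 : (t : G)⁻¹ * s ∈ C := by simpa using this
  rw [show s = (t : G) * ((t : G)⁻¹ * s) from (mul_inv_cancel_left _ _).symm]
  exact mul_mem (Subgroup.mem_sup_left ⟨t, ht, rfl⟩) (Subgroup.mem_sup_right h2)

set_option maxHeartbeats 800000 in
/-- A `p`-subgroup stabilising a maximal pair lies in `P C(P)`. -/
theorem le_sup_of_stabilizes (hM : IsPModular p M) {B : Set (IrrCharacter G)} {P : Subgroup G}
    {e : Set (IrrCharacter (Cen P))} (hmax : IsMaximalBrauerPair p M B P e) {S₀ : Subgroup G}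
    (hS₀ : IsPGroup p S₀) (hfix : ∀ u ∈ S₀, cP u ⟨P, e⟩ = ⟨P, e⟩) : S₀ ≤ P ⊔ Cen P := by
  have hP : IsPGroup p P := hmax.1.1.1
  have he : IsPBlock M e := hmax.1.1.2
  set S := P ⊔ S₀ with hSdef
  have hS₀N : S₀ ≤ Subgroup.normalizer (P : Set G) := fun u hu =>
    (cP_eq_self_iff.mp (hfix u hu)).1
  have hS : IsPGroup p S := hP.to_sup_of_normal_left' hS₀ hS₀N
  have hinv : InvBy S (eb (Cen P) e) :=
    invBy_sup (invBy_eb_cen P e) (invBy_iff.mpr fun u hu => (cP_eq_self_iff.mp (hfix u hu)).2)
  have hSN : S ≤ Subgroup.normalizer (P : Set G) := sup_le Subgroup.le_normalizer hS₀N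
  have hSC : S ≤ Subgroup.normalizer (Cen P : Set G) := hSN.trans normalizer_le_normalizer_cen
  obtain ⟨ξ, hξ⟩ := block_nonempty hM he
  -- the action on the classes of the centraliser
  let ec : S → (Cen P ≃* Cen P) := fun u =>
    conjEquiv (u : G) (Cen P) (Cen P) (conj_mem_iff_of_normalizer (hSC u.2))
  let _ : MulAction S (ConjClasses (Cen P)) :=
    { smul := fun u c => ConjClasses.map (ec u).toMonoidHom c
      one_smul := fun c => by
        refine Quotient.inductionOn c fun x => ?_
        show ConjClasses.mk (ec 1 x) = ConjClasses.mk x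
        congr 1
        exact Subtype.ext (by simp [ec, conjEquiv])
      mul_smul := fun u v c => by
        refine Quotient.inductionOn c fun x => ?_
        show ConjClasses.mk (ec (u * v) x) = ConjClasses.mk (ec u (ec v x))
        congr 1
        exact Subtype.ext (by simp [ec, conjEquiv, mul_assoc]) }
  have hsmul : ∀ (u : S) (c : ConjClasses (Cen P)), IsConj (ec u c.out) (u • c).out := by
    intro u c
    refine ((isConj_out (u • c)).mp ?_).symm
    show ConjClasses.mk (ec u c.out) = u • c
    conv_rhs => rw [← Quotient.out_eq c]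
    rfl
  have hcoef : ∀ (u : S) (c : ConjClasses (Cen P)),
      blockCoeff e (u • c).out = blockCoeff e c.out := by
    intro u c
    obtain ⟨d, hd⟩ := isConj_iff.mp (hsmul u c)
    rw [← hd, show blockCoeff e (d * ec u c.out * d⁻¹) = blockCoeff e (ec u c.out) from
      isCen_idem e (ec u c.out) d, ← coeff_eb_coe, ← coeff_eb_coe]
    exact hinv u u.2 _
  have hcc : ∀ (u : S) (c : ConjClasses (Cen P)), MemLocalIdeal M
      (centralChar (ξ : Cen P → ℂ) c.out - centralChar (ξ : Cen P → ℂ) (u • c).out) := by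
    intro u c
    have hpush : pushSet (ec u) e = e := eb_injective
      ((cjA_eb (conj_mem_iff_of_normalizer (hSC u.2)) e).symm.trans (invBy_iff.mp hinv u u.2))
    have hmem : pushChar (ec u) ξ ∈ e := by
      conv => arg 1; rw [← hpush]
      exact ⟨ξ, hξ, rfl⟩
    have h1 := sameBlock_of_mem hM he hmem hξ (ec u c.out)
    rwa [centralChar_push, centralChar_eq_of_isConj ξ (hsmul u c)] at h1
  -- pass to orbit representatives
  set rep : ConjClasses (Cen P) → ConjClasses (Cen P) := fun c =>
    (Quotient.mk (MulAction.orbitRel S (ConjClasses (Cen P))) c).out with hrep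
  set W : ConjClasses (Cen P) → ℂ := fun c =>
    blockCoeff e c.out * centralChar (ξ : Cen P → ℂ) (rep c).out with hW
  have hint : ∀ x, MemLocalRing M (centralChar (ξ : Cen P → ℂ) x) := fun x =>
    of_isIntegral hM (isIntegral_centralChar ξ x)
  have h := BlockPrincipal81.ideal_sum_sub_fixed hM hS W (fun u c => by
    simp only [hW, hcoef, hrep]
    congr 4
    exact Quotient.sound (MulAction.mem_orbit c u))
    (fun c => (localRing hM).mul_mem (blockCoeff_mem hM he _) (hint _))
  have htot : MemLocalIdeal M (∑ c, W c - 1) := by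
    have h1 := omega_idem e ξ
    rw [if_pos hξ, (isCen_idem e).eq_sum_classSum, map_sum] at h1
    simp only [map_smul, smul_eq_mul, omega_classSum (irr_classFun ξ), coeff_idem] at h1
    have key : MemLocalIdeal M (∑ c : ConjClasses (Cen P),
        (W c - blockCoeff e c.out * centralChar (ξ : Cen P → ℂ) c.out)) := by
      refine ideal_sum hM fun c _ => ?_
      simp only [hW, ← mul_sub]
      refine ideal_mul_left hM (blockCoeff_mem hM he _) ?_
      obtain ⟨u, hu⟩ : c ∈ MulAction.orbit S (rep c) :=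
        Quotient.exact (Quotient.out_eq (Quotient.mk (MulAction.orbitRel S _) c)).symm
      have := hcc u (rep c)
      rwa [show u • rep c = c from hu] at this
    rw [Finset.sum_sub_distrib] at key
    conv => arg 2; arg 2; rw [← h1]
    convert key using 4
  obtain ⟨c, hc, hne⟩ : ∃ c : ConjClasses (Cen P),
      c ∈ MulAction.fixedPoints S (ConjClasses (Cen P)) ∧ ¬ MemLocalIdeal M (W c) := by
    by_contra hno
    push Not at hno
    refine one_not_ideal hM (cast (congrArg (MemLocalIdeal M) ?_) (ideal_sub hM (ideal_add hM h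
      (ideal_sum hM (s := Finset.univ.filter fun c => c ∈ MulAction.fixedPoints S (ConjClasses (Cen P)))
        fun c hc => hno c (Finset.mem_filter.mp hc).2)) htot))
    ring
  set y := c.out with hy
  have hunit : ¬ MemLocalIdeal M (blockCoeff e y) := fun hh =>
    hne (ideal_mul_right hM hh (hint _))
  set A := Subgroup.centralizer ({(y : G)} : Set G) ⊓ (S ⊔ Cen P) with hA
  have hcov : S ≤ A ⊔ Cen P := by
    intro u hu
    have h1 := hsmul ⟨u, hu⟩ c
    rw [hc ⟨u, hu⟩] at h1
    obtain ⟨d, hd⟩ := isConj_iff.mp h1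
    have hd' : (d : G) * (u * (y : G) * u⁻¹) * (d : G)⁻¹ = (y : G) := congrArg Subtype.val hd
    rw [show u = (d : G)⁻¹ * ((d : G) * u) from (inv_mul_cancel_left _ _).symm]
    refine mul_mem (Subgroup.mem_sup_right (inv_mem d.2)) (Subgroup.mem_sup_left ⟨?_, ?_⟩)
    · refine Subgroup.mem_centralizer_singleton_iff.mpr ?_
      calc (d : G) * u * (y : G) = (d : G) * (u * (y : G) * u⁻¹) * (d : G)⁻¹ * ((d : G) * u) := by
            group
        _ = (y : G) * ((d : G) * u) := by rw [hd']
    · exact mul_mem (Subgroup.mem_sup_right d.2) (Subgroup.mem_sup_left hu)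
  have hPA : P ≤ A :=
    le_inf (le_centralizer_singleton_iff.mpr y.2) (le_sup_left.trans le_sup_left)
  obtain ⟨T, hT, hPT, hTA, hST⟩ := exists_pGroup_cover hS hP hSC inf_le_right hcov hPA
  have hKN : S ⊔ Cen P ≤ Subgroup.normalizer (P : Set G) :=
    sup_le hSN (Subgroup.centralizer_le_normalizer _)
  have hTinv : InvBy T (eb (Cen P) e) :=
    invBy_mono (hTA.trans inf_le_right) (invBy_sup hinv (invBy_eb_self _ e))
  have hTP : T = P := by
    by_contra hne'
    refine hunit ?_
    have := noExt hM hmax hT (lt_of_le_of_ne hPT (Ne.symm hne'))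
      ((hTA.trans inf_le_right).trans hKN) hTinv (y : G)
    rwa [coeff_cut, if_pos (le_centralizer_singleton_iff.mp (hTA.trans inf_le_left)),
      coeff_eb_coe] at this
  subst hTP
  exact le_sup_right.trans hST

end Cfsg.Agent.BrauerPairs81Index
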