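import Cfsg.Agent.Lib.BlockMajorCount31
import Cfsg.Agent.Lib.BlockAbelianCount81
import Cfsg.Agent.Lib.BrauerPairs81Index
import Cfsg.Agent.Lib.CharBasicDecomp
import Cfsg.Agent.Lib.BlockTheoryChains

/-!
Weighted counts over the subsections of a block with abelian defect group, and the consequence of a
free twisting action of linear characters of the defect group.
-/

set_option autoImplicit false

namespace Cfsg.Agent.BlockAbelianWeight31

open Cfsg Cfsg.Agent.BlockTheoryLocalRing Cfsg.Agent.BlockTheoryCentre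
open Cfsg.Agent.BlockTheoryIdem
open Cfsg.Agent.BrauerPairs81Base Cfsg.Agent.BrauerPairs81Pairs Cfsg.Agent.BrauerPairs81Conj
open Cfsg.Agent.BrauerPairs81Max Cfsg.Agent.BrauerPairs81Local Cfsg.Agent.BrauerPairs81Fusion
open Cfsg.Agent.BrauerPairs81Induced Cfsg.Agent.BlockContribBounds
open Cfsg.Agent.BlockContribSection Cfsg.Agent.BlockContrib
open Cfsg.Agent.BlockCyclicRank81 Cfsg.Agent.BlockMajorMean31
open scoped ComplexConjugate

attribute [local instance] Classical.propDecidable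

set_option linter.unusedSectionVars false

/-! ### Translation invariance from vanishing Fourier coefficients -/

theorem translate_eq {A : Type*} [CommGroup A] [Finite A] [Fintype A] (W : A → ℂ) (a₀ : A)
    (h : ∀ ψ : A →* ℂˣ, ψ a₀ ≠ 1 → ∑ a, (ψ a : ℂ) * W a = 0) (a : A) : W (a * a₀) = W a := by
  have : Finite (A →* ℂˣ) := Finite.of_equiv A
    (CommGroup.monoidHom_mulEquiv_of_hasEnoughRootsOfUnity A ℂ).some.symm.toEquiv
  have : Fintype (A →* ℂˣ) := Fintype.ofFinite _
  set D : A → ℂ := fun a => W (a * a₀) - W a with hD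
  have hD0 : ∀ ψ : A →* ℂˣ, ∑ a, (ψ a : ℂ) * D a = 0 := by
    intro ψ
    have hshift : ∑ a, (ψ a : ℂ) * W (a * a₀) = (ψ a₀ : ℂ)⁻¹ * ∑ a, (ψ a : ℂ) * W a := by
      rw [Finset.mul_sum]
      refine Fintype.sum_equiv (Equiv.mulRight a₀) _ _ fun a => ?_
      rw [Equiv.coe_mulRight, map_mul, Units.val_mul]
      field_simp
    simp only [hD, mul_sub, Finset.sum_sub_distrib, hshift]
    by_cases hψ : ψ a₀ = 1
    · simp [hψ]
    · rw [h ψ hψ, mul_zero, sub_zero]
  have horth : ∀ b : A, b ≠ 1 → ∑ ψ : A →* ℂˣ, (ψ b : ℂ) = 0 := by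
    intro b hb
    obtain ⟨φ, hφ⟩ := CommGroup.exists_apply_ne_one_of_hasEnoughRootsOfUnity A ℂ hb
    have hs : ∑ ψ : A →* ℂˣ, (ψ b : ℂ) = (φ b : ℂ) * ∑ ψ : A →* ℂˣ, (ψ b : ℂ) := by
      rw [Finset.mul_sum]
      exact Fintype.sum_equiv (Equiv.mulLeft φ⁻¹) _ _ fun ψ => by simp
    refine (mul_eq_zero.1 (show (1 - (φ b : ℂ)) * _ = 0 by rw [sub_mul, one_mul, ← hs, sub_self])
      ).resolve_left (sub_ne_zero.2 fun h1 => hφ (Units.ext h1.symm))
  have key : ∑ ψ : A →* ℂˣ, ((ψ a : ℂ))⁻¹ * ∑ b, (ψ b : ℂ) * D b =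
      (Fintype.card (A →* ℂˣ) : ℂ) * D a := by
    simp only [Finset.mul_sum]
    rw [Finset.sum_comm, Finset.sum_eq_single a]
    · rw [← Finset.card_univ, ← nsmul_eq_mul, ← Finset.sum_const]
      refine Finset.sum_congr rfl fun ψ _ => ?_
      rw [← mul_assoc, inv_mul_cancel₀ (Units.ne_zero _), one_mul]
    · intro b _ hb
      have : ∀ ψ : A →* ℂˣ, ((ψ a : ℂ))⁻¹ * ((ψ b : ℂ) * D b) = (ψ (a⁻¹ * b) : ℂ) * D b := by
        intro ψ
        rw [map_mul, map_inv, Units.val_mul, Units.val_inv_eq_inv_val]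
        ring
      rw [Finset.sum_congr rfl fun ψ _ => this ψ, ← Finset.sum_mul,
        horth _ (fun h => hb (inv_mul_eq_one.1 h).symm), zero_mul]
    · simp
  rw [Finset.sum_eq_zero fun ψ _ => by rw [hD0 ψ, mul_zero]] at key
  exact sub_eq_zero.1 ((mul_eq_zero.1 key.symm).resolve_left
    (Nat.cast_ne_zero.2 Fintype.card_ne_zero))

variable {p : ℕ} [Fact p.Prime] {M : Ideal AlgInt} {G : Type*} [Group G] [Fintype G]
  {B : Set (IrrCharacter G)}

/-! ### Energies -/

/-- The regular elements of the centraliser of `x`. -/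
noncomputable def regCen (p : ℕ) (x : G) : Finset (Cen (Subgroup.zpowers x)) :=
  Finset.univ.filter fun s => ¬ p ∣ orderOf s

theorem energy_eq_sum (x : G) (b : Set (IrrCharacter (Cen (Subgroup.zpowers x))))
    (χ : IrrCharacter G) :
    (energy p x b χ : ℂ) =
      ∑ s ∈ regCen p x, conj (part x b (χ : G → ℂ) s) * part x b (χ : G → ℂ) s := by
  rw [energy, regCen, Finset.sum_filter, Complex.ofReal_sum]
  refine Finset.sum_congr rfl fun s _ => ?_
  by_cases hs : p ∣ orderOf s <;> simp [hs, Complex.normSq_eq_conj_mul_self]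

/-- Orthogonality of the parts of one character in different blocks. -/
theorem sum_comb (hM : IsPModular p M) {x : G}
    (a a' : Set (IrrCharacter (Cen (Subgroup.zpowers x))) → ℂ) (χ : IrrCharacter G) :
    ∑ s ∈ regCen p x, conj (∑ b ∈ subs M B x, a b * part x b (χ : G → ℂ) s) *
        (∑ b ∈ subs M B x, a' b * part x b (χ : G → ℂ) s) =
      ∑ b ∈ subs M B x, conj (a b) * a' b * (energy p x b χ : ℂ) := by
  simp only [map_sum, map_mul, Finset.sum_mul_sum]
  rw [Finset.sum_comm]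
  refine Finset.sum_congr rfl fun b hb => ?_
  rw [Finset.sum_comm, Finset.sum_eq_single b]
  · rw [energy_eq_sum, Finset.mul_sum]
    exact Finset.sum_congr rfl fun s _ => by ring
  · intro b' hb' hne
    have h := pair_part_ne hM (centralizer_zpowers x) (Finset.mem_filter.1 hb).2.1
      (Finset.mem_filter.1 hb').2.1 (Ne.symm hne) χ
    rw [pair, regSum_eq, ← Finset.sum_filter] at h
    calc _ = conj (a b) * a' b' * ∑ s ∈ regCen p x,
          conj (part x b (χ : G → ℂ) s) * part x b' (χ : G → ℂ) s := by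
          rw [Finset.mul_sum]; exact Finset.sum_congr rfl fun s _ => by ring
      _ = 0 := by rw [regCen, h, mul_zero]
  · exact fun h => absurd hb h

theorem apply_eq_sum (hM : IsPModular p M) (hB : IsPBlock M B) {x : G}
    (hx : ∃ k, orderOf x = p ^ k) {χ : IrrCharacter G} (hχ : χ ∈ B)
    {s : Cen (Subgroup.zpowers x)} (hs : s ∈ regCen p x) :
    (χ : G → ℂ) (x * s) = ∑ b ∈ subs M B x, part x b (χ : G → ℂ) s := by
  have h := apply_eq_sum_part (centralizer_zpowers x) hM hx hB χ (Finset.mem_filter.1 hs).2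
  rwa [if_pos hχ] at h

/-- The square norm of a member along the subsections. -/
theorem sum_energy_eq (hM : IsPModular p M) (hB : IsPBlock M B) {χ : IrrCharacter G}
    (hχ : χ ∈ B) :
    ∑ x ∈ Finset.univ.filter (fun x : G => ∃ k, orderOf x = p ^ k),
      ∑ b ∈ subs M B x, (energy p x b χ : ℂ) = (Nat.card G : ℂ) := by
  have h := CharBasicOrth.card_mul_classInner (χ : G → ℂ) χ
  rw [CharBasicOrth.classInner_irr_self χ.2, mul_one, sum_eq_sum_sections hM] at h
  rw [h]
  refine Finset.sum_congr rfl fun x hx => ?_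
  have hc := sum_comb (B := B) hM (x := x) (fun _ => 1) (fun _ => 1) χ
  simp only [map_one, one_mul] at hc
  rw [← hc]
  refine Finset.sum_congr rfl fun s hs => ?_
  rw [apply_eq_sum hM hB (Finset.mem_filter.1 hx).2 hχ hs, mul_comm]

/-- The energies of a subsection add up to its rank. -/
theorem sum_members_energy (hM : IsPModular p M) {x : G} (hx : ∃ k, orderOf x = p ^ k)
    {b : Set (IrrCharacter (Cen (Subgroup.zpowers x)))}
    (hind : IsInducedBlock M (Cen (Subgroup.zpowers x)) b B) :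
    ∑ χ ∈ members B, (energy p x b χ : ℂ) =
      (Nat.card (Cen (Subgroup.zpowers x)) : ℂ) * (blockRank p b : ℂ) := by
  simp only [energy_eq_sum]
  rw [Finset.sum_comm, ← sum_blockSq_regular hM hind.1]
  refine Finset.sum_congr rfl fun s hs => ?_
  have hs' := (Finset.mem_filter.1 hs).2
  have h := sum_part_mul_induced (centralizer_zpowers x) hM hx hind hs' hs'
  rw [kern] at h
  rw [blockSq, ← h, ← filter_eq_members, Finset.sum_filter]
  exact Finset.sum_congr rfl fun χ _ => if_congr Iff.rfl (by ring) rfl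

/-- The blocks of the whole group seen as a centraliser. -/
theorem sum_rank_one (hM : IsPModular p M) (hB : IsPBlock M B) :
    ∑ b ∈ subs M B (1 : G), blockRank p b = blockRank p B := by
  have h := sum_section hM hB (u := (1 : G)) ⟨0, by simp⟩
  have h2 : ∑ s ∈ Finset.univ.filter
      (fun s : Cen (Subgroup.zpowers (1 : G)) => ¬ p ∣ orderOf s), blockSq B (1 * (s : G)) =
      (Nat.card G : ℂ) * (blockRank p B : ℂ) := by
    rw [← sum_blockSq_regular hM hB]
    refine Finset.sum_bij (fun s _ => (s : G)) (fun s hs => ?_) (fun s _ t _ h => Subtype.ext h)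
      (fun g hg => ⟨⟨g, (centralizer_zpowers 1 g).2 (Commute.one_left g)⟩, ?_, rfl⟩)
      (fun s _ => by rw [one_mul])
    · exact Finset.mem_filter.2 ⟨Finset.mem_univ _, by
        rw [Subgroup.orderOf_coe]; exact (Finset.mem_filter.1 hs).2⟩
    · exact Finset.mem_filter.2 ⟨Finset.mem_univ _, by
        rw [Subgroup.orderOf_mk]; exact (Finset.mem_filter.1 hg).2⟩
  have hcard : Nat.card (Cen (Subgroup.zpowers (1 : G))) = Nat.card G := by
    rw [show Cen (Subgroup.zpowers (1 : G)) = ⊤ from (Subgroup.eq_top_iff' _).2 fun g =>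
      (centralizer_zpowers 1 g).2 (Commute.one_left g), Subgroup.card_top]
  rw [h2, hcard] at h
  exact_mod_cast (mul_left_cancel₀ (Nat.cast_ne_zero.2 Nat.card_pos.ne') h).symm

/-! ### Subsections and elements of the defect group -/

/-- The pair below the top on the cyclic group of `u`. -/
noncomputable def pairAt (p : ℕ) (M : Ideal AlgInt) (top : BrauerPairIdx G) (u : G) :
    BrauerPairIdx G :=
  ⟨Subgroup.zpowers u, Classical.epsilon fun f => SubpairLE p M (Subgroup.zpowers u) f top.1 top.2⟩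

/-- The block of the pair at `u`. -/
noncomputable abbrev blockAt (p : ℕ) (M : Ideal AlgInt) (top : BrauerPairIdx G) (u : G) :
    Set (IrrCharacter (Cen (Subgroup.zpowers u))) := (pairAt p M top u).2

variable {P : Subgroup G} {c : Set (IrrCharacter (Cen P))}


theorem pairAt_le (hM : IsPModular p M) (hmax : IsMaximalBrauerPair p M B P c) (u : P) :
    PLE p M (pairAt p M (⟨P, c⟩ : BrauerPairIdx G) (u : G)) (⟨P, c⟩ : BrauerPairIdx G) :=
  Classical.epsilon_spec (exists_subpair hM hmax.1.1 (Subgroup.zpowers_le.2 u.2))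

/-- The orbit of `u` under the inertial group. -/
noncomputable def orbit (c : Set (IrrCharacter (Cen P))) (u : P) : Finset P :=
  Finset.univ.filter fun v => ∃ y ∈ stab (⟨P, c⟩ : BrauerPairIdx G), y * (u : G) * y⁻¹ = v

theorem self_mem_orbit (u : P) : u ∈ orbit c u :=
  Finset.mem_filter.2 ⟨Finset.mem_univ _, 1, one_mem _, by simp⟩

theorem orbit_eq_of_mem {u v : P} (h : v ∈ orbit c u) : orbit c v = orbit c u := by
  obtain ⟨y, hy, hyv⟩ := (Finset.mem_filter.1 h).2
  ext w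
  simp only [orbit, Finset.mem_filter, Finset.mem_univ, true_and]
  constructor
  · rintro ⟨z, hz, hzw⟩
    exact ⟨z * y, mul_mem hz hy, by rw [← hzw, ← hyv]; group⟩
  · rintro ⟨z, hz, hzw⟩
    exact ⟨z * y⁻¹, mul_mem hz (inv_mem hy), by rw [← hzw, ← hyv]; group⟩

theorem conj_mem_top {y : G} (hy : y ∈ stab (⟨P, c⟩ : BrauerPairIdx G)) {x : G} (hx : x ∈ P) : y * x * y⁻¹ ∈ P :=
  (Subgroup.mem_normalizer_iff.mp (stab_le_normalizer _ hy) x).mp hx

theorem cP_pairAt (hM : IsPModular p M) (hmax : IsMaximalBrauerPair p M B P c) {u v : P} {y : G}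
    (hy : y ∈ stab (⟨P, c⟩ : BrauerPairIdx G)) (h : y * (u : G) * y⁻¹ = v) :
    cP y (pairAt p M (⟨P, c⟩ : BrauerPairIdx G) (u : G)) = pairAt p M (⟨P, c⟩ : BrauerPairIdx G) (v : G) := by
  have hsub : (cP y (pairAt p M (⟨P, c⟩ : BrauerPairIdx G) (u : G))).1 = Subgroup.zpowers (v : G) := by
    rw [← h]; exact MonoidHom.map_zpowers _ _
  have hle : PLE p M (cP y (pairAt p M (⟨P, c⟩ : BrauerPairIdx G) (u : G))) (⟨P, c⟩ : BrauerPairIdx G) := by
    have h := ple_cP y (pairAt_le hM hmax u)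
    rwa [mem_stab.mp hy] at h
  exact ple_unique (c := (⟨P, c⟩ : BrauerPairIdx G)) hM hmax.1.1 hle (pairAt_le hM hmax v) hsub

/-- The subsection of `w = (u, g)`. -/
noncomputable def phiSub (p : ℕ) (M : Ideal AlgInt) (c : Set (IrrCharacter (Cen P))) (w : P × G) :
    G × BrauerPairIdx G :=
  (w.2 * (w.1 : G) * w.2⁻¹, cP w.2 (pairAt p M ⟨P, c⟩ (w.1 : G)))

variable (hM : IsPModular p M) (hmax : IsMaximalBrauerPair p M B P c)
  (hab : ∀ x ∈ P, ∀ y ∈ P, x * y = y * x)
include hM hmax hab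

theorem mem_orbit_of_phiSub {w w' : P × G} (h : phiSub p M c w = phiSub p M c w') :
    w.1 ∈ orbit c w'.1 := by
  obtain ⟨u, g⟩ := w
  obtain ⟨u₀, g₀⟩ := w'
  simp only [phiSub, Prod.mk.injEq] at h
  obtain ⟨h1, h2⟩ := h
  have h3 : cP (g⁻¹ * g₀) (pairAt p M (⟨P, c⟩ : BrauerPairIdx G) (u₀ : G)) = pairAt p M (⟨P, c⟩ : BrauerPairIdx G) (u : G) := by
    rw [← cP_cP, ← h2, cP_inv_cP]
  obtain ⟨y, hy, z, hz, hyz⟩ := BlockAbelian81.fus_control hM hmax hab
    (pairAt_le hM hmax u₀) (g := g⁻¹ * g₀) (by rw [h3]; exact pairAt_le hM hmax u)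
  refine Finset.mem_filter.2 ⟨Finset.mem_univ _, y, hy, ?_⟩
  have hzu : Commute (u₀ : G) z := (centralizer_zpowers _ _).1 hz
  have h4 : g⁻¹ * g₀ * (u₀ : G) * (g⁻¹ * g₀)⁻¹ = u := by
    rw [show g⁻¹ * g₀ * (u₀ : G) * (g⁻¹ * g₀)⁻¹ = g⁻¹ * (g₀ * u₀ * g₀⁻¹) * g by group, ← h1]
    group
  rw [← h4, hyz, show y * z * (u₀ : G) * (y * z)⁻¹ = y * (z * u₀) * z⁻¹ * y⁻¹ by group, ← hzu.eq]
  group

theorem card_fibre (u₀ : P) (g₀ : G) :
    ((Finset.univ : Finset (P × G)).filter
        (fun w => phiSub p M c w = phiSub p M c (u₀, g₀))).card =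
      (orbit c u₀).card * Nat.card (Cen (Subgroup.zpowers (u₀ : G))) := by
  set F := (Finset.univ : Finset (P × G)).filter
    (fun w => phiSub p M c w = phiSub p M c (u₀, g₀))
  rw [Finset.card_eq_sum_card_fiberwise (f := Prod.fst) (t := orbit c u₀) (s := F) fun w hw =>
    mem_orbit_of_phiSub hM hmax hab (Finset.mem_filter.1 hw).2]
  refine Finset.sum_const_nat fun v hv => ?_
  obtain ⟨y, hy, hyv⟩ := (Finset.mem_filter.1 hv).2
  rw [Nat.card_eq_fintype_card, ← Finset.card_univ]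
  symm
  refine Finset.card_bij (fun z _ => (v, g₀ * (z : G) * y⁻¹)) (fun z _ => ?_)
    (fun z _ z' _ h => Subtype.ext (mul_left_cancel (mul_right_cancel (Prod.ext_iff.1 h).2)))
    (fun w hw => ?_)
  · have hzu : Commute (u₀ : G) z := (centralizer_zpowers _ _).1 z.2
    refine Finset.mem_filter.2 ⟨Finset.mem_filter.2 ⟨Finset.mem_univ _, Prod.ext ?_ ?_⟩, rfl⟩
    · show g₀ * z * y⁻¹ * (v : G) * (g₀ * z * y⁻¹)⁻¹ = g₀ * u₀ * g₀⁻¹
      rw [← hyv, show g₀ * z * y⁻¹ * (y * (u₀ : G) * y⁻¹) * (g₀ * z * y⁻¹)⁻¹ =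
        g₀ * (z * u₀) * (z : G)⁻¹ * g₀⁻¹ by group, ← hzu.eq]
      group
    · show cP (g₀ * z * y⁻¹) (pairAt p M (⟨P, c⟩ : BrauerPairIdx G) (v : G)) = cP g₀ (pairAt p M (⟨P, c⟩ : BrauerPairIdx G) (u₀ : G))
      rw [← cP_cP, ← cP_pairAt hM hmax hy hyv, cP_inv_cP, ← cP_cP]
      exact congrArg (cP g₀) (cP_self_of_cen _ z.2)
  · obtain ⟨hw1, hw2⟩ := Finset.mem_filter.1 hw
    obtain ⟨u, g⟩ := w
    obtain rfl : u = v := hw2
    have e : g * (u : G) * g⁻¹ = g₀ * u₀ * g₀⁻¹ :=
      (Prod.ext_iff.1 (Finset.mem_filter.1 hw1).2).1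
    refine ⟨⟨g₀⁻¹ * g * y, (centralizer_zpowers _ _).2 ?_⟩, Finset.mem_univ _,
      Prod.ext rfl ?_⟩
    · show (u₀ : G) * (g₀⁻¹ * g * y) = g₀⁻¹ * g * y * u₀
      calc (u₀ : G) * (g₀⁻¹ * g * y) = g₀⁻¹ * (g₀ * u₀ * g₀⁻¹) * g * y := by group
        _ = g₀⁻¹ * (g * u * g⁻¹) * g * y := by rw [e]
        _ = g₀⁻¹ * g * (y * u₀ * y⁻¹) * y := by rw [hyv]; group
        _ = g₀⁻¹ * g * y * u₀ := by group
    · show g₀ * (g₀⁻¹ * g * y) * y⁻¹ = g
      group

theorem mem_image_phiSub {x : G} (hx : ∃ k, orderOf x = p ^ k)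
    {b : Set (IrrCharacter (Cen (Subgroup.zpowers x)))} (hb : b ∈ subs M B x) :
    ∃ w : P × G, phiSub p M c w = (x, ⟨Subgroup.zpowers x, b⟩) := by
  obtain ⟨k, hk⟩ := hx
  have hpair : IsBrauerPairOf p M B (Subgroup.zpowers x) b :=
    isBrauerPairOf_of_induced hM (BrauerPairs81Nilpotent.isPGroup_zpowers hk)
      (Finset.mem_filter.1 hb).2
  obtain ⟨g, hg'⟩ := exists_conj_subpairLE hM hmax hpair
  have hg : PLE p M (cP g (⟨Subgroup.zpowers x, b⟩ : BrauerPairIdx G)) (⟨P, c⟩ : BrauerPairIdx G) := hg'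
  have hgx : g * x * g⁻¹ ∈ P :=
    subgroup_le_of_subpairLE hg ⟨x, Subgroup.mem_zpowers x, rfl⟩
  refine ⟨(⟨g * x * g⁻¹, hgx⟩, g⁻¹), Prod.ext ?_ ?_⟩
  · show g⁻¹ * (g * x * g⁻¹) * g⁻¹⁻¹ = x
    group
  · show cP g⁻¹ (pairAt p M (⟨P, c⟩ : BrauerPairIdx G) (g * x * g⁻¹)) = _
    rw [← ple_unique (c := (⟨P, c⟩ : BrauerPairIdx G)) hM hmax.1.1 hg (pairAt_le hM hmax ⟨_, hgx⟩)
      (MonoidHom.map_zpowers _ _), cP_inv_cP]

/-- A sum over subsections as a weighted sum over the defect group. -/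
theorem sum_weight (F : G × BrauerPairIdx G → ℂ) :
    ∑ x ∈ Finset.univ.filter (fun x : G => ∃ k, orderOf x = p ^ k), ∑ b ∈ subs M B x,
        (Nat.card (Cen (Subgroup.zpowers x)) : ℂ) * F (x, ⟨Subgroup.zpowers x, b⟩) =
      ∑ u : P, ((orbit c u).card : ℂ)⁻¹ * ∑ g : G, F (phiSub p M c (u, g)) := by
  simp only [Finset.mul_sum]
  rw [← Finset.sum_product', Finset.univ_product_univ, Finset.sum_sigma',
    ← Finset.sum_fiberwise_of_maps_to (g := phiSub p M c)
      (t := (Finset.univ : Finset (P × G)).image (phiSub p M c))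
      (fun w _ => Finset.mem_image_of_mem _ (Finset.mem_univ w))]
  refine Finset.sum_bij
    (fun w _ => ((w.1, ⟨Subgroup.zpowers w.1, w.2⟩) : G × BrauerPairIdx G))
    (fun w hw => ?_) (fun w _ w' _ h => ?_) (fun z hz => ?_) (fun w hw => ?_)
  · obtain ⟨hx, hb⟩ := Finset.mem_sigma.1 hw
    obtain ⟨v, hv⟩ := mem_image_phiSub hM hmax hab (Finset.mem_filter.1 hx).2 hb
    exact Finset.mem_image.2 ⟨v, Finset.mem_univ _, hv⟩
  · obtain ⟨x, b⟩ := w
    obtain ⟨x', b'⟩ := w'
    simp only [Prod.mk.injEq, Sigma.mk.injEq] at h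
    obtain ⟨rfl, -, h2⟩ := h
    rw [eq_of_heq h2]
  · obtain ⟨⟨u, g⟩, -, rfl⟩ := Finset.mem_image.1 hz
    have hpair : IsBrauerPairOf p M B (cP g (pairAt p M (⟨P, c⟩ : BrauerPairIdx G) (u : G))).1
        (cP g (pairAt p M (⟨P, c⟩ : BrauerPairIdx G) (u : G))).2 :=
      isBrauerPairOf_conj g (isBrauerPairOf_down hM (pairAt_le hM hmax u) hmax.1)
    have hsub : (cP g (pairAt p M (⟨P, c⟩ : BrauerPairIdx G) (u : G))).1 = Subgroup.zpowers (g * u * g⁻¹) :=
      MonoidHom.map_zpowers _ _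
    obtain ⟨b, hb⟩ := exists_pair_eq hsub
    rw [hb] at hpair
    refine ⟨⟨g * u * g⁻¹, b⟩, Finset.mem_sigma.2 ⟨Finset.mem_filter.2 ⟨Finset.mem_univ _, ?_⟩,
      mem_subs hM hpair⟩, Prod.ext rfl hb.symm⟩
    obtain ⟨k, hk⟩ := IsPGroup.iff_orderOf.mp hmax.1.1.1 u
    exact ⟨k, by rw [← hk, ← Subgroup.orderOf_coe]; exact MulEquiv.orderOf_eq (MulAut.conj g) _⟩
  · obtain ⟨x, b⟩ := w
    obtain ⟨hx, hb⟩ := Finset.mem_sigma.1 hw
    obtain ⟨⟨u₀, g₀⟩, hv⟩ := mem_image_phiSub hM hmax hab (Finset.mem_filter.1 hx).2 hb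
    simp only [← hv]
    rw [Finset.sum_congr rfl (g := fun _ => ((orbit c u₀).card : ℂ)⁻¹ * F (phiSub p M c (u₀, g₀)))
      fun v hv' => ?_, Finset.sum_const, card_fibre hM hmax hab, nsmul_eq_mul]
    · have hxe : x = g₀ * (u₀ : G) * g₀⁻¹ := (Prod.ext_iff.1 hv).1.symm
      have hc : Nat.card (Cen (Subgroup.zpowers x)) =
          Nat.card (Cen (Subgroup.zpowers (u₀ : G))) := by
        rw [hxe, show Subgroup.zpowers (g₀ * (u₀ : G) * g₀⁻¹) = cjS g₀ (Subgroup.zpowers (u₀ : G))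
          from (MonoidHom.map_zpowers (MulAut.conj g₀).toMonoidHom (u₀ : G)).symm, cen_cjS, card_cjS]
      have hn : ((orbit c u₀).card : ℂ) ≠ 0 :=
        Nat.cast_ne_zero.2 (Finset.card_ne_zero.2 ⟨u₀, self_mem_orbit u₀⟩)
      rw [hc]
      push_cast
      field_simp
    · obtain ⟨-, hv'⟩ := Finset.mem_filter.1 hv'
      rw [hv', orbit_eq_of_mem (mem_orbit_of_phiSub hM hmax hab hv')]

theorem rank_phiSub (u : P) (g : G) :
    blockRank p (phiSub p M c (u, g)).2.2 = blockRank p (blockAt p M (⟨P, c⟩ : BrauerPairIdx G) (u : G)) := by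
  show blockRank p (conjBlock _ g _) = _
  rw [conjBlock_eq]
  exact BlockTheoryChains.blockRank_push _ _

/-- The weight of `u`. -/
noncomputable def weight (p : ℕ) (M : Ideal AlgInt) (c : Set (IrrCharacter (Cen P))) (u : P) : ℂ :=
  (blockRank p (blockAt p M ⟨P, c⟩ (u : G)) : ℂ) / ((orbit c u).card : ℂ)

/-- The number of members as the total weight. -/
theorem card_eq_weight : (Nat.card B : ℂ) = ∑ u : P, weight p M c u := by
  have hB : IsPBlock M B := hmax.1.2.1
  have h : ∑ χ ∈ members B, ∑ x ∈ Finset.univ.filter (fun x : G => ∃ k, orderOf x = p ^ k),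
      ∑ b ∈ subs M B x, (energy p x b χ : ℂ) = (Nat.card G : ℂ) * (Nat.card B : ℂ) := by
    rw [Finset.sum_congr rfl fun χ hχ => sum_energy_eq hM hB (mem_members.1 hχ), Finset.sum_const,
      nsmul_eq_mul, card_members, mul_comm]
  rw [Finset.sum_comm (s := members B)] at h
  have h2 : ∑ x ∈ Finset.univ.filter (fun x : G => ∃ k, orderOf x = p ^ k), ∑ b ∈ subs M B x,
      (Nat.card (Cen (Subgroup.zpowers x)) : ℂ) * (blockRank p b : ℂ) =
        (Nat.card G : ℂ) * (Nat.card B : ℂ) := by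
    rw [← h]
    refine Finset.sum_congr rfl fun x hx => ?_
    rw [Finset.sum_comm (s := members B)]
    refine Finset.sum_congr rfl fun b hb => ?_
    rw [sum_members_energy hM (Finset.mem_filter.1 hx).2 (Finset.mem_filter.1 hb).2]
  rw [sum_weight hM hmax hab (fun z => (blockRank p z.2.2 : ℂ))] at h2
  refine mul_left_cancel₀ (Nat.cast_ne_zero.2 (Nat.card_pos (α := G)).ne' :
    (Nat.card G : ℂ) ≠ 0) (h2.symm.trans ?_)
  rw [Finset.mul_sum]
  refine Finset.sum_congr rfl fun u _ => ?_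
  simp only [rank_phiSub hM hmax hab, Finset.sum_const, Finset.card_univ, nsmul_eq_mul,
    Nat.card_eq_fintype_card, weight]
  ring

/-- The value of an invariant linear character at a subsection. -/
noncomputable def hat (p : ℕ) (M : Ideal AlgInt) (c : Set (IrrCharacter (Cen P))) (lam : P →* ℂˣ)
    (z : G × BrauerPairIdx G) : ℂ :=
  if h : ∃ w : P × G, phiSub p M c w = z then (lam h.choose.1 : ℂ) else 0

theorem hat_phiSub {lam : P →* ℂˣ} (hlam : ∀ u v : P, v ∈ orbit c u → lam v = lam u)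
    (w : P × G) : hat p M c lam (phiSub p M c w) = (lam w.1 : ℂ) := by
  have h : ∃ w' : P × G, phiSub p M c w' = phiSub p M c w := ⟨w, rfl⟩
  rw [hat, dif_pos h, hlam _ _ (mem_orbit_of_phiSub hM hmax hab h.choose_spec)]

/-- Twists by an invariant linear character form generalized characters. -/
def HasTwist (p : ℕ) (M : Ideal AlgInt) (B : Set (IrrCharacter G))
    (c : Set (IrrCharacter (Cen P))) (lam : P →* ℂˣ) : Prop :=
  ∀ χ ∈ B, ∃ η : G → ℂ, IsGeneralizedCharacter G η ∧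
    ∀ x : G, (∃ k, orderOf x = p ^ k) → ∀ s ∈ regCen p x,
      η (x * (s : G)) = ∑ b ∈ subs M B x,
        hat p M c lam (x, ⟨Subgroup.zpowers x, b⟩) * part x b ((χ : IrrCharacter G) : G → ℂ) s

/-- A twist moving `u₀` has no fixed member, so its trace vanishes. -/
theorem sum_twist_eq_zero {lam : P →* ℂˣ} (hlam : ∀ u v : P, v ∈ orbit c u → lam v = lam u)
    (htw : HasTwist p M B c lam) {u₀ : P} (hu₀ : lam u₀ ≠ 1) :
    ∑ u : P, (lam u : ℂ) * weight p M c u = 0 := by
  have hB : IsPBlock M B := hmax.1.2.1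
  set E := Finset.univ.filter (fun x : G => ∃ k, orderOf x = p ^ k) with hE
  have hnorm : ∀ x ∈ E, ∀ b ∈ subs M B x,
      conj (hat p M c lam (x, ⟨Subgroup.zpowers x, b⟩)) *
        hat p M c lam (x, ⟨Subgroup.zpowers x, b⟩) = 1 := by
    intro x hx b hb
    obtain ⟨w, hw⟩ := mem_image_phiSub hM hmax hab (Finset.mem_filter.1 hx).2 hb
    rw [← hw, hat_phiSub hM hmax hab hlam, ← Complex.normSq_eq_conj_mul_self,
      Complex.normSq_eq_norm_sq, CharBasicDecomp.norm_linear lam]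
    simp
  have htr : ∀ χ ∈ members B, ∑ x ∈ E, ∑ b ∈ subs M B x,
      hat p M c lam (x, ⟨Subgroup.zpowers x, b⟩) * (energy p x b χ : ℂ) = 0 := by
    intro χ hχ
    have hχB := mem_members.1 hχ
    obtain ⟨η, hη, hval⟩ := htw χ hχB
    have hsec : ∀ F : G → ℂ, ∀ f : (x : G) → Cen (Subgroup.zpowers x) → ℂ,
        (∀ x ∈ E, ∀ s ∈ regCen p x, F (x * (s : G)) = f x s) →
        ∑ g : G, F g = ∑ x ∈ E, ∑ s ∈ regCen p x, f x s := fun F f hf => by
      rw [sum_eq_sum_sections hM]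
      exact Finset.sum_congr rfl fun x hx => Finset.sum_congr rfl fun s hs => hf x hx s hs
    have hinner : ∀ F : G → ℂ,
        (Nat.card G : ℂ) * classInner F η = ∑ g : G, F g * conj (η g) := fun F =>
      CharBasicOrth.card_mul_classInner F η
    have h1 : classInner η η = 1 := by
      refine mul_left_cancel₀ (Nat.cast_ne_zero.2 (Nat.card_pos (α := G)).ne' :
        (Nat.card G : ℂ) ≠ 0) ?_
      rw [hinner, mul_one, ← sum_energy_eq hM hB hχB,
        hsec _ (fun x s => conj (∑ b ∈ subs M B x,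
            hat p M c lam (x, ⟨Subgroup.zpowers x, b⟩) * part x b (χ : G → ℂ) s) *
          ∑ b ∈ subs M B x, hat p M c lam (x, ⟨Subgroup.zpowers x, b⟩) * part x b (χ : G → ℂ) s)
          (fun x hx s hs => by rw [hval x (Finset.mem_filter.1 hx).2 s hs, mul_comm])]
      refine Finset.sum_congr rfl fun x hx => ?_
      rw [sum_comb hM]
      exact Finset.sum_congr rfl fun b hb => by rw [hnorm x hx b hb, one_mul]
    obtain ⟨θ, hθ, hor⟩ := CharBasicDecomp.eq_or_neg_irr_of_norm_one hη h1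
    have hnot : ∀ (ε : ℂ), η ≠ ε • (χ : G → ℂ) := by
      intro ε hε
      -- at the identity
      have h1x : ∃ k, orderOf (1 : G) = p ^ k := ⟨0, by simp⟩
      have h1s : (1 : Cen (Subgroup.zpowers (1 : G))) ∈ regCen p (1 : G) :=
        Finset.mem_filter.2 ⟨Finset.mem_univ _, by rw [orderOf_one]; exact hM.1.not_dvd_one⟩
      have hat1 : ∀ b ∈ subs M B (1 : G),
          hat p M c lam ((1 : G), ⟨Subgroup.zpowers 1, b⟩) = 1 := by
        intro b hb
        obtain ⟨⟨u, g⟩, hw⟩ := mem_image_phiSub hM hmax hab h1x hb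
        rw [← hw, hat_phiSub hM hmax hab hlam]
        have hu : (u : G) = 1 := conj_eq_one_iff.1 (Prod.ext_iff.1 hw).1
        simp [show u = 1 from Subtype.ext hu]
      have hε1 : ε = 1 := by
        have hv := hval 1 h1x 1 h1s
        rw [Finset.sum_congr rfl fun b hb => by rw [hat1 b hb, one_mul],
          ← apply_eq_sum hM hB h1x hχB h1s, hε, Pi.smul_apply, smul_eq_mul] at hv
        simpa [irr_one_ne_zero χ] using hv
      subst hε1
      rw [one_smul] at hε
      have hu : ∃ k, orderOf (u₀ : G) = p ^ k := by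
        obtain ⟨k, hk⟩ := IsPGroup.iff_orderOf.mp hmax.1.1.1 u₀
        exact ⟨k, by rw [← hk, Subgroup.orderOf_coe]⟩
      have hle := pairAt_le hM hmax u₀
      have hb₀ : blockAt p M (⟨P, c⟩ : BrauerPairIdx G) (u₀ : G) ∈ subs M B (u₀ : G) :=
        mem_subs hM (isBrauerPairOf_down hM hle hmax.1)
      have hd : blockDefect p (blockAt p M (⟨P, c⟩ : BrauerPairIdx G) (u₀ : G)) = blockDefect p B :=
        BlockMajorCount31.defect_central hM hmax (Subgroup.zpowers_le.2 u₀.2)
          (fun v hv => (centralizer_zpowers _ _).2 (hab _ u₀.2 v hv)) hle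
      set a : Set (IrrCharacter (Cen (Subgroup.zpowers (u₀ : G)))) → ℂ := fun b =>
        hat p M c lam ((u₀ : G), ⟨Subgroup.zpowers (u₀ : G), b⟩) - 1 with ha
      have hz := sum_comb (B := B) hM (x := (u₀ : G)) a a χ
      rw [Finset.sum_eq_zero fun s hs => ?_] at hz
      swap
      · have hv := hval _ hu s hs
        rw [hε, apply_eq_sum hM hB hu hχB hs] at hv
        simp only [ha, sub_mul, one_mul, Finset.sum_sub_distrib]
        rw [← hv, sub_self, map_zero, zero_mul]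
      have hz' : (0 : ℝ) = ∑ b ∈ subs M B (u₀ : G), Complex.normSq (a b) * energy p (u₀ : G) b χ := by
        apply Complex.ofReal_injective
        push_cast
        simp only [Complex.normSq_eq_conj_mul_self]
        exact hz
      have h0 := (Finset.sum_eq_zero_iff_of_nonneg fun b _ =>
        mul_nonneg (Complex.normSq_nonneg _) (energy_nonneg _ b χ)).1 hz'.symm _ hb₀
      have hat0 : hat p M c lam ((u₀ : G), ⟨Subgroup.zpowers (u₀ : G), blockAt p M (⟨P, c⟩ : BrauerPairIdx G) (u₀ : G)⟩) =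
          (lam u₀ : ℂ) := by
        have hphi : phiSub p M c (u₀, (1 : G)) =
            ((u₀ : G), ⟨Subgroup.zpowers (u₀ : G), blockAt p M (⟨P, c⟩ : BrauerPairIdx G) (u₀ : G)⟩) := by
          simp only [phiSub, one_mul, inv_one, mul_one, cP_one]
          rfl
        rw [← hphi, hat_phiSub hM hmax hab hlam]
      rcases mul_eq_zero.1 h0 with h | h
      · rw [Complex.normSq_eq_zero] at h
        simp only [ha, hat0, sub_eq_zero] at h
        exact hu₀ (Units.ext h)
      · have hpos : 0 < energy p (u₀ : G) (blockAt p M (⟨P, c⟩ : BrauerPairIdx G) (u₀ : G)) χ := by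
          refine lt_of_lt_of_le ?_ (Finset.single_le_sum
            (fun s _ => ite_nonneg (Complex.normSq_nonneg _) le_rfl)
            (Finset.mem_univ (1 : Cen (Subgroup.zpowers (u₀ : G)))))
          rw [if_pos (by rw [orderOf_one]; exact hM.1.not_dvd_one), Complex.normSq_pos]
          exact BlockMajor81.part_one_ne_zero (centralizer_zpowers _) hM hu
            (Finset.mem_filter.1 hb₀).2 hd hχB
        exact hpos.ne' h
    have h0 : classInner (χ : G → ℂ) η = 0 := by
      have hne : (χ : G → ℂ) ≠ θ := fun e => by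
        rcases hor with h | h
        · exact hnot 1 (by rw [h, ← e, one_smul])
        · exact hnot (-1) (by rw [h, ← e, neg_one_smul])
      have hz := CharBasicOrth.classInner_irr_ne χ.2 hθ hne
      have hcn : classInner (χ : G → ℂ) (-θ) = -classInner (χ : G → ℂ) θ := by
        simp [classInner]
      rcases hor with h | h <;> rw [h]
      · exact hz
      · rw [hcn, hz, neg_zero]
    have h := hinner (χ : G → ℂ)
    rw [h0, mul_zero, hsec _ (fun x s => conj (∑ b ∈ subs M B x,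
        hat p M c lam (x, ⟨Subgroup.zpowers x, b⟩) * part x b (χ : G → ℂ) s) *
      ∑ b ∈ subs M B x, 1 * part x b (χ : G → ℂ) s)
      (fun x hx s hs => by
        rw [hval x (Finset.mem_filter.1 hx).2 s hs,
          apply_eq_sum hM hB (Finset.mem_filter.1 hx).2 hχB hs, mul_comm]
        simp only [one_mul])] at h
    have hc : conj (∑ x ∈ E, ∑ b ∈ subs M B x,
        hat p M c lam (x, ⟨Subgroup.zpowers x, b⟩) * (energy p x b χ : ℂ)) = 0 := by
      rw [h, map_sum]
      refine Finset.sum_congr rfl fun x _ => ?_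
      rw [sum_comb hM, map_sum]
      refine Finset.sum_congr rfl fun b _ => ?_
      rw [map_mul, Complex.conj_ofReal, mul_one]
    exact (map_eq_zero _).1 hc
  have h : ∑ x ∈ E, ∑ b ∈ subs M B x, (Nat.card (Cen (Subgroup.zpowers x)) : ℂ) *
      (hat p M c lam (x, ⟨Subgroup.zpowers x, b⟩) * (blockRank p b : ℂ)) = 0 := by
    rw [← Finset.sum_eq_zero htr, Finset.sum_comm (s := members B)]
    refine Finset.sum_congr rfl fun x hx => ?_
    rw [Finset.sum_comm (s := members B)]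
    refine Finset.sum_congr rfl fun b hb => ?_
    rw [← Finset.mul_sum, sum_members_energy hM (Finset.mem_filter.1 hx).2
      (Finset.mem_filter.1 hb).2]
    ring
  rw [sum_weight hM hmax hab (fun z => hat p M c lam z * (blockRank p z.2.2 : ℂ))] at h
  refine (mul_eq_zero.1 (show (Nat.card G : ℂ) * _ = 0 from ?_)).resolve_left
    (Nat.cast_ne_zero.2 Nat.card_pos.ne')
  rw [← h, Finset.mul_sum]
  refine Finset.sum_congr rfl fun u _ => ?_
  simp only [hat_phiSub hM hmax hab hlam, rank_phiSub hM hmax hab, Finset.sum_const,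
    Finset.card_univ, nsmul_eq_mul, Nat.card_eq_fintype_card, weight]
  ring

end Cfsg.Agent.BlockAbelianWeight31
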