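import Cfsg.Agent.Lib.BlockNormalP81
import Cfsg.Agent.Lib.BlockTheoryDefect
import Cfsg.Agent.Lib.BlockContribBounds
import Cfsg.Agent.Lib.CharKernel
import Cfsg.Agent.Lib.BrauerBlocksOrth
import Cfsg.Agent.S0165

/-!
Blocks with central defect group: a character trivial on the central `p`-subgroup `Z` whose degree
has the full `p`-part of the index of `Z` is alone in its block among such characters, spans the
regular restrictions of the block, and `Z` is the defect group.
-/

set_option autoImplicit false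

namespace Cfsg.Agent.BlockCentral81

open Cfsg Cfsg.Agent.BlockTheoryLocalRing Cfsg.Agent.BlockTheoryCentre
open Cfsg.Agent.BlockTheoryIdem Cfsg.Agent.CharBasic
open scoped ComplexConjugate

attribute [local instance] Classical.propDecidable

variable {p : ℕ} {M : Ideal AlgInt} {G : Type*} [Group G] [Fintype G]

/-- `θ` is trivial on `Z` and has the `p`-part of the index of `Z` in its degree. -/
structure DZero (p : ℕ) (Z : Subgroup G) (θ : IrrCharacter G) : Prop where
  triv : ∀ u ∈ Z, (θ : G → ℂ) u = (θ : G → ℂ) 1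
  deg : (charDegree (θ : G → ℂ)).factorization p + (Nat.card Z).factorization p =
    (Nat.card G).factorization p

theorem char_center_mul (φ : IrrCharacter G) {u : G} (hu : u ∈ Subgroup.center G) (g : G) :
    (φ : G → ℂ) (u * g) = (φ : G → ℂ) u / (φ : G → ℂ) 1 * (φ : G → ℂ) g := by
  obtain ⟨n, ρ, hi, hρ⟩ := φ.2
  obtain ⟨c, hc⟩ := exists_scalar_of_mem_center ρ hu
  have hc1 : (φ : G → ℂ) u = c * (φ : G → ℂ) 1 := by
    rw [← hρ, Representation.char_one]
    show LinearMap.trace ℂ _ (ρ u) = _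
    rw [hc, map_smul, LinearMap.trace_id, smul_eq_mul]
  rw [hc1, mul_div_assoc, div_self (irr_one_ne_zero φ), mul_one, ← hρ]
  show LinearMap.trace ℂ _ (ρ (u * g)) = c * LinearMap.trace ℂ _ (ρ g)
  rw [map_mul, hc, show (c • LinearMap.id : Module.End ℂ (Fin n → ℂ)) * ρ g = c • ρ g from
    LinearMap.ext fun v => rfl, map_smul, smul_eq_mul]

theorem triv_mul {Z : Subgroup G} (hZ : Z ≤ Subgroup.center G) {φ : IrrCharacter G}
    (h : ∀ u ∈ Z, (φ : G → ℂ) u = (φ : G → ℂ) 1) {u : G} (hu : u ∈ Z) (g : G) :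
    (φ : G → ℂ) (u * g) = (φ : G → ℂ) g := by
  rw [char_center_mul φ (hZ hu), h u hu, div_self (irr_one_ne_zero φ), one_mul]

/-- Equivariant sums against a character that is not trivial on `Z` vanish. -/
theorem sum_eq_zero_of_not_triv {Z : Subgroup G} (hZ : Z ≤ Subgroup.center G)
    {φ : IrrCharacter G} (h : ¬ ∀ u ∈ Z, (φ : G → ℂ) u = (φ : G → ℂ) 1) (F : G → ℂ)
    (hF : ∀ u ∈ Z, ∀ g, F (u * g) = F g) : ∑ g, F g * conj ((φ : G → ℂ) g) = 0 := by
  push Not at h
  obtain ⟨u, hu, hne⟩ := h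
  set S := ∑ g, F g * conj ((φ : G → ℂ) g)
  have hl : (φ : G → ℂ) u / (φ : G → ℂ) 1 ≠ 1 := fun e => hne (by
    rwa [div_eq_one_iff_eq (irr_one_ne_zero φ)] at e)
  have h1 : S = conj ((φ : G → ℂ) u / (φ : G → ℂ) 1) * S := by
    conv_lhs => rw [show S = ∑ g, F (u * g) * conj ((φ : G → ℂ) (u * g)) from
      (Fintype.sum_equiv (Equiv.mulLeft u) _ _ fun g => rfl).symm]
    rw [Finset.mul_sum]
    refine Finset.sum_congr rfl fun g _ => ?_
    rw [hF u hu, char_center_mul φ (hZ hu), map_mul]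
    ring
  by_contra hS
  refine hl ?_
  have h2 : conj ((φ : G → ℂ) u / (φ : G → ℂ) 1) = 1 :=
    (mul_eq_right₀ hS).1 h1.symm
  simpa using congrArg conj h2

variable [Fact p.Prime] {Z : Subgroup G}

theorem isPEl_coe (hp : IsPGroup p Z) {u : G} (hu : u ∈ Z) : BrauerBlocksPPart.IsPEl p u :=
  BrauerBlocksPPart.isPEl_of_mem hp hu

theorem split_unique (hZ : Z ≤ Subgroup.center G) (hp : IsPGroup p Z) {u u' r r' : G}
    (hu : u ∈ Z) (hu' : u' ∈ Z) (hr : ¬ p ∣ orderOf r) (hr' : ¬ p ∣ orderOf r')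
    (h : u * r = u' * r') : u = u' ∧ r = r' := by
  have hc : ∀ {v : G} (w : G), v ∈ Z → Commute v w := fun w hv =>
    (Subgroup.mem_center_iff.1 (hZ hv) w).symm
  have h1 := BrauerBlocksPPart.isPPart_mul (hc r hu) (isPEl_coe hp hu) hr
  have h2 := BrauerBlocksPPart.isPPart_mul (hc r' hu') (isPEl_coe hp hu') hr'
  rw [h] at h1
  have h3 := BrauerBlocksPPart.isPPart_unique Fact.out h1 h2
  subst h3
  exact ⟨rfl, mul_left_cancel h⟩

theorem exists_split_of_quot [Z.Normal] {g : G} (hg : ¬ p ∣ orderOf (g : G ⧸ Z)) :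
    ∃ u ∈ Z, ∃ r, ¬ p ∣ orderOf r ∧ g = u * r := by
  have hp : p.Prime := Fact.out
  obtain ⟨x, y, hxy, hc, ⟨k, hk⟩, hy⟩ := BrauerBlocksPPart.exists_isPPart hp g
  refine ⟨x, (QuotientGroup.eq_one_iff x).1 ?_, y, hy, hxy.symm⟩
  have h1 : (x : G ⧸ Z) ^ (orderOf (g : G ⧸ Z) * orderOf y) = 1 := by
    have h2 : ((g : G ⧸ Z)) ^ (orderOf (g : G ⧸ Z) * orderOf y) = 1 := by
      rw [pow_mul, pow_orderOf_eq_one, one_pow]
    have h3 : (y : G ⧸ Z) ^ (orderOf (g : G ⧸ Z) * orderOf y) = 1 := by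
      rw [← QuotientGroup.mk_pow, mul_comm, pow_mul, pow_orderOf_eq_one, one_pow,
        QuotientGroup.mk_one]
    have h4 : (g : G ⧸ Z) = (x : G ⧸ Z) * y := by rw [← hxy, QuotientGroup.mk_mul]
    set N := orderOf (g : G ⧸ Z) * orderOf y
    rw [h4, (show Commute (x : G ⧸ Z) y from hc.map (QuotientGroup.mk' Z)).mul_pow, h3,
      mul_one] at h2
    exact h2
  rw [← orderOf_eq_one_iff]
  have hd : orderOf (x : G ⧸ Z) ∣ p ^ k := by
    rw [← hk]; exact orderOf_map_dvd (QuotientGroup.mk' Z) x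
  refine Nat.eq_one_of_dvd_coprimes (Nat.Coprime.pow_left k ?_) hd (orderOf_dvd_of_pow_eq_one h1)
  rw [hp.coprime_iff_not_dvd]
  exact fun h => (hp.dvd_mul.1 h).elim hg hy

/-- A sum over `G` of a `Z`-invariant function supported on `Z` times regular elements. -/
theorem sum_eq_card_mul (hZ : Z ≤ Subgroup.center G) (hp : IsPGroup p Z) (F : G → ℂ)
    (hF : ∀ u ∈ Z, ∀ g, F (u * g) = F g)
    (hs : ∀ g, F g ≠ 0 → ∃ u ∈ Z, ∃ r, ¬ p ∣ orderOf r ∧ g = u * r) :
    ∑ g, F g = (Nat.card Z : ℂ) *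
      ∑ r ∈ Finset.univ.filter (fun r : G => ¬ p ∣ orderOf r), F r := by
  set R := Finset.univ.filter (fun r : G => ¬ p ∣ orderOf r)
  rw [← Finset.sum_subset (Finset.subset_univ
      ((Finset.univ ×ˢ R).image fun w : Z × G => (w.1 : G) * w.2)) fun g _ hg => by
    by_contra hne
    obtain ⟨u, hu, r, hr, rfl⟩ := hs g hne
    exact hg (Finset.mem_image.2 ⟨(⟨u, hu⟩, r), Finset.mem_product.2
      ⟨Finset.mem_univ _, Finset.mem_filter.2 ⟨Finset.mem_univ _, hr⟩⟩, rfl⟩),
    Finset.sum_image, Finset.sum_product]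
  · simp only [fun (u : Z) (r : G) => hF u u.2 r, Finset.sum_const, Finset.card_univ,
      nsmul_eq_mul, Nat.card_eq_fintype_card]
  · rintro ⟨u, r⟩ hur ⟨u', r'⟩ hur' h
    simp only [R, Finset.coe_product, Set.mem_prod, Finset.coe_filter, Finset.mem_univ, true_and,
      Set.mem_setOf_eq, Finset.coe_univ, Set.mem_univ] at hur hur'
    obtain ⟨h1, h2⟩ := split_unique hZ hp u.2 u'.2 hur hur' h
    exact Prod.ext (Subtype.ext h1) h2

variable {θ : IrrCharacter G}

theorem DZero.vanish (hθ : DZero p Z θ) [Z.Normal] {g : G} (hg : (θ : G → ℂ) g ≠ 0) :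
    ∃ u ∈ Z, ∃ r, ¬ p ∣ orderOf r ∧ g = u * r := by
  refine exists_split_of_quot fun h => hg ?_
  obtain ⟨ψ, hψ⟩ := CharKernel.exists_quot_irr Z θ hθ.triv
  obtain ⟨n, ρ, hi, hρ⟩ := ψ.2
  rw [hψ, ← hρ]
  have hp : p.Prime := Fact.out
  set m := (Nat.card (G ⧸ Z)).factorization p with hm
  refine Cfsg.Agent.S0165.result ρ p m hp (Nat.ordProj_dvd _ _)
    (Nat.pow_succ_factorization_not_dvd Nat.card_pos.ne' hp) ?_ _ h
  have h1 : (Module.finrank ℂ (Fin n → ℂ)) = charDegree (θ : G → ℂ) := by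
    rw [charDegree, hψ, QuotientGroup.mk_one, ← hρ, Representation.char_one]
    simp
  rw [h1]
  have h2 : m = (charDegree (θ : G → ℂ)).factorization p := by
    have h3 := hθ.deg
    rw [Subgroup.card_eq_card_quotient_mul_card_subgroup Z,
      Nat.factorization_mul Nat.card_pos.ne' Nat.card_pos.ne', Finsupp.add_apply] at h3
    omega
  rw [h2]
  exact Nat.ordProj_dvd _ _

omit [Fact p.Prime] in
theorem DZero.scale_mem (hθ : DZero p Z θ) (hM : IsPModular p M) :
    MemLocalRing M ((Nat.card Z : ℂ) * (θ : G → ℂ) 1 / (Nat.card G : ℂ)) := by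
  have hp := hM.1
  obtain ⟨k, hk⟩ : p ^ (Nat.card G).factorization p ∣ Nat.card Z * charDegree (θ : G → ℂ) := by
    rw [← hθ.deg, add_comm, pow_add]
    exact mul_dvd_mul (Nat.ordProj_dvd _ _) (Nat.ordProj_dvd _ _)
  have hm : ¬ p ∣ BlockContrib.cofactor p G := BlockContrib.cofactor_not_dvd hp
  have hG := BlockContrib.pow_mul_cofactor (G := G) p
  rw [CharAverage.irr_apply_one θ, ← Nat.cast_mul, hk,
    show (Nat.card G : ℂ) = ((p ^ (Nat.card G).factorization p * BlockContrib.cofactor p G : ℕ) : ℂ)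
      by rw [hG], Nat.cast_mul, Nat.cast_mul,
    mul_div_mul_left _ _ (Nat.cast_ne_zero.2 (pow_ne_zero _ hp.ne_zero)), div_eq_mul_inv]
  exact (localRing hM).mul_mem (natCast_mem (localRing hM) k) (inv_natCast_mem hM hm)

theorem DZero.sum_reg (hθ : DZero p Z θ) (hZ : Z ≤ Subgroup.center G) (hp : IsPGroup p Z)
    [Z.Normal] {φ : IrrCharacter G} (hφ : ∀ u ∈ Z, (φ : G → ℂ) u = (φ : G → ℂ) 1) :
    (Nat.card Z : ℂ) * ∑ r ∈ Finset.univ.filter (fun r : G => ¬ p ∣ orderOf r),
      (φ : G → ℂ) r * conj ((θ : G → ℂ) r) =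
    if φ = θ then (Nat.card G : ℂ) else 0 := by
  rw [← sum_eq_card_mul hZ hp (fun g => (φ : G → ℂ) g * conj ((θ : G → ℂ) g))
    (fun u hu g => by rw [triv_mul hZ hφ hu, triv_mul hZ hθ.triv hu])
    (fun g hg => hθ.vanish fun e => hg (by simp [e])),
    ← CharBasicOrth.card_mul_classInner, CharBasicOrth.classInner_irrCharacter]
  split_ifs <;> simp

/-- `θ` is the only character of its block that is trivial on `Z`. -/
theorem DZero.unique (hθ : DZero p Z θ) (hM : IsPModular p M) (hZ : Z ≤ Subgroup.center G)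
    (hp : IsPGroup p Z) [Z.Normal] {φ : IrrCharacter G}
    (hφ : ∀ u ∈ Z, (φ : G → ℂ) u = (φ : G → ℂ) 1)
    (h : SameBlock M (φ : G → ℂ) (θ : G → ℂ)) : φ = θ := by
  by_contra hne
  set c := (Nat.card Z : ℂ) * (θ : G → ℂ) 1 / (Nat.card G : ℂ) with hc
  set z : MonoidAlgebra ℂ G :=
    ofFun fun g => if ¬ p ∣ orderOf g then c * conj ((θ : G → ℂ) g) else 0
  have hcen : IsCen z := fun g h => by
    simp only [z, coeff_ofFun]
    rw [show orderOf (h * g * h⁻¹) = orderOf g from
      orderOf_injective (MulAut.conj h).toMonoidHom (MulAut.conj h).injective g,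
      irr_classFun θ g h]
  have hint : IsInt M z := fun g => by
    simp only [z, coeff_ofFun]
    split_ifs
    · exact (localRing hM).zero_mem
    · exact (localRing hM).mul_mem (hθ.scale_mem hM) (of_isIntegral hM
        (by rw [← irr_inv]; exact isCharacter_integral (isCharacter_of_isIrrCharacter θ.2) _))
  have hω : ∀ ψ : IrrCharacter G, (∀ u ∈ Z, (ψ : G → ℂ) u = (ψ : G → ℂ) 1) →
      omega (ψ : G → ℂ) z = if ψ = θ then 1 else 0 := by
    intro ψ hψ
    rw [omega_apply, chiSum_apply]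
    have h1 : ∑ g, z.coeff g * (ψ : G → ℂ) g = c *
        ∑ r ∈ Finset.univ.filter (fun r : G => ¬ p ∣ orderOf r),
          (ψ : G → ℂ) r * conj ((θ : G → ℂ) r) := by
      rw [Finset.mul_sum, Finset.sum_filter]
      refine Finset.sum_congr rfl fun g _ => ?_
      simp only [z, coeff_ofFun]
      split_ifs <;> ring
    have hG : (Nat.card G : ℂ) ≠ 0 := Nat.cast_ne_zero.2 Nat.card_pos.ne'
    rw [h1, hc]
    have h2 := hθ.sum_reg hZ hp hψ
    split_ifs at h2 ⊢ with e
    · subst e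
      field_simp [irr_one_ne_zero ψ]
      linear_combination h2
    · have hZ0 : (Nat.card Z : ℂ) ≠ 0 := Nat.cast_ne_zero.2 Nat.card_pos.ne'
      rw [(mul_eq_zero.1 h2).resolve_left hZ0]
      simp
  have := omega_sub_mem hM h hcen hint
  rw [hω φ hφ, hω θ hθ.triv, if_neg hne, if_pos rfl, zero_sub] at this
  exact one_not_ideal hM (by simpa using ideal_neg this)

/-- The members of the block of `θ` are proportional to `θ` on regular elements. -/
theorem DZero.exists_prop (hθ : DZero p Z θ) (hM : IsPModular p M) (hZ : Z ≤ Subgroup.center G)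
    (hp : IsPGroup p Z) [Z.Normal] {B : Set (IrrCharacter G)} (hB : IsPBlock M B) (hθB : θ ∈ B)
    {ψ : IrrCharacter G} (hψ : ψ ∈ B) :
    ∃ c : ℂ, ∀ r, ¬ p ∣ orderOf r → (ψ : G → ℂ) r = c * (θ : G → ℂ) r := by
  set R := Finset.univ.filter (fun r : G => ¬ p ∣ orderOf r)
  set F : G → ℂ := fun g => ∑ r ∈ R, if g * r⁻¹ ∈ Z then (ψ : G → ℂ) r else 0 with hFdef
  have hFu : ∀ u ∈ Z, ∀ g, F (u * g) = F g := fun u hu g => by
    simp only [hFdef]
    refine Finset.sum_congr rfl fun r _ => ?_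
    rw [mul_assoc, Subgroup.mul_mem_cancel_left Z hu]
  have hFr : ∀ r ∈ R, F r = (ψ : G → ℂ) r := by
    intro r hr
    simp only [hFdef]
    rw [Finset.sum_eq_single r]
    · simp
    · intro s hs hne
      rw [if_neg]
      intro hmem
      refine hne (split_unique hZ hp hmem (one_mem Z) (Finset.mem_filter.1 hs).2
        (Finset.mem_filter.1 hr).2 (by group)).2
    · exact fun h => absurd hr h
  have hFs : ∀ g, F g ≠ 0 → ∃ u ∈ Z, ∃ r, ¬ p ∣ orderOf r ∧ g = u * r := by
    intro g hg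
    obtain ⟨r, hr, hne⟩ := Finset.exists_ne_zero_of_sum_ne_zero hg
    have hmem : g * r⁻¹ ∈ Z := by by_contra e; exact hne (if_neg e)
    exact ⟨g * r⁻¹, hmem, r, (Finset.mem_filter.1 hr).2, by group⟩
  have hFc : IsClassFunction G F := by
    intro g h
    simp only [hFdef, R, Finset.sum_filter]
    refine Fintype.sum_equiv (MulAut.conj h⁻¹).toEquiv _ _ fun r => ?_
    have e1 : orderOf ((MulAut.conj h⁻¹).toEquiv r) = orderOf r :=
      orderOf_injective (MulAut.conj h⁻¹).toMonoidHom (MulAut.conj h⁻¹).injective r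
    have e2 : (ψ : G → ℂ) ((MulAut.conj h⁻¹).toEquiv r) = (ψ : G → ℂ) r := irr_classFun ψ r h⁻¹
    have e3 : h * g * h⁻¹ * r⁻¹ ∈ Z ↔ g * ((MulAut.conj h⁻¹).toEquiv r)⁻¹ ∈ Z := by
      have : g * ((MulAut.conj h⁻¹).toEquiv r)⁻¹ = h⁻¹ * (h * g * h⁻¹ * r⁻¹) * h⁻¹⁻¹ := by
        simp [MulAut.conj_apply, mul_assoc]
      rw [this]
      exact ⟨fun m => (inferInstance : Z.Normal).conj_mem _ m h⁻¹, fun m => by
          simpa [mul_assoc] using (inferInstance : Z.Normal).conj_mem _ m h⟩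
    rw [e1, e2]
    simp only [e3]
  set k := classInner F (θ : G → ℂ)
  have hzero : F - k • (θ : G → ℂ) = 0 := by
    refine CharBasicOrth.eq_zero_of_forall_classInner (fun g h => ?_) fun φ₀ hφ₀ => ?_
    · simp only [Pi.sub_apply, Pi.smul_apply, hFc g h, irr_classFun θ g h]
    let φ : IrrCharacter G := ⟨φ₀, hφ₀⟩
    show classInner (F - k • (θ : G → ℂ)) (φ : G → ℂ) = 0
    rw [CharBasicOrth.classInner_sub_left, CharBasicOrth.classInner_smul_left,
      CharBasicOrth.classInner_irrCharacter]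
    by_cases he : θ = φ
    · rw [if_pos he, mul_one, ← he, sub_self]
    rw [if_neg he, mul_zero, sub_zero]
    have hG : (Nat.card G : ℂ) ≠ 0 := Nat.cast_ne_zero.2 Nat.card_pos.ne'
    refine (mul_eq_zero.1 ?_).resolve_left hG
    rw [CharBasicOrth.card_mul_classInner]
    by_cases ht : ∀ u ∈ Z, (φ : G → ℂ) u = (φ : G → ℂ) 1
    · rw [sum_eq_card_mul hZ hp _ (fun u hu g => by rw [hFu u hu, triv_mul hZ ht hu])
        (fun g hg => hFs g (left_ne_zero_of_mul hg))]
      have hns : ¬ SameBlock M (ψ : G → ℂ) (φ : G → ℂ) := fun hs => he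
        (hθ.unique hM hZ hp ht (sameBlock_trans hM (sameBlock_symm hs)
          (sameBlock_of_mem hM hB hψ hθB))).symm
      rw [Finset.sum_congr rfl fun r hr => by rw [hFr r hr],
        BrauerBlocksOrth.regular_inner_eq_zero hM hns, mul_zero]
    · exact sum_eq_zero_of_not_triv hZ ht F hFu
  refine ⟨k, fun r hr => ?_⟩
  have h1 := congrFun hzero r
  rw [Pi.sub_apply, Pi.smul_apply, Pi.zero_apply, sub_eq_zero, smul_eq_mul,
    hFr r (Finset.mem_filter.2 ⟨Finset.mem_univ _, hr⟩)] at h1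
  exact h1

/-- The idempotent coefficient of the block of `θ` at a regular element. -/
theorem DZero.blockCoeff_regular (hθ : DZero p Z θ) (hM : IsPModular p M)
    (hZ : Z ≤ Subgroup.center G) (hp : IsPGroup p Z) [Z.Normal] {B : Set (IrrCharacter G)}
    (hB : IsPBlock M B) (hθB : θ ∈ B) {y : G} (hy : ¬ p ∣ orderOf y) :
    blockCoeff B y =
      (Nat.card Z : ℂ) * (θ : G → ℂ) 1 / (Nat.card G : ℂ) * conj ((θ : G → ℂ) y) := by
  have h1 : ∑ u : Z, blockCoeff B ((u : G) * y) = blockCoeff B y := by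
    rw [Finset.sum_eq_single (1 : Z)]
    · simp
    · intro u _ hu
      refine blockCoeff_eq_zero_of_dvd hM hB ?_
      by_contra h
      exact hu (Subtype.ext (split_unique hZ hp u.2 (one_mem Z) hy h (one_mul _).symm).1)
    · simp
  rw [← h1]
  have h2 : ∀ φ : IrrCharacter G, ∑ u : Z, conj ((φ : G → ℂ) ((u : G) * y)) =
      if ∀ u ∈ Z, (φ : G → ℂ) u = (φ : G → ℂ) 1 then (Nat.card Z : ℂ) * conj ((φ : G → ℂ) y)
      else 0 := by
    intro φ
    split_ifs with ht
    · simp only [fun u : Z => triv_mul hZ ht u.2, Finset.sum_const, Finset.card_univ,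
        nsmul_eq_mul, Nat.card_eq_fintype_card]
    · push Not at ht
      obtain ⟨v, hv, hne⟩ := ht
      set S := ∑ u : Z, conj ((φ : G → ℂ) ((u : G) * y))
      have h3 : S = conj ((φ : G → ℂ) v / (φ : G → ℂ) 1) * S := by
        conv_lhs => rw [show S = ∑ u : Z, conj ((φ : G → ℂ) (((⟨v, hv⟩ * u : Z) : G) * y)) from
          (Fintype.sum_equiv (Equiv.mulLeft (⟨v, hv⟩ : Z)) _ _ fun u => rfl).symm]
        rw [Finset.mul_sum]
        refine Finset.sum_congr rfl fun u _ => ?_
        rw [Subgroup.coe_mul, mul_assoc, char_center_mul φ (hZ hv), map_mul]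
      by_contra hS
      have h4 : conj ((φ : G → ℂ) v / (φ : G → ℂ) 1) = 1 := (mul_eq_right₀ hS).1 h3.symm
      exact hne ((div_eq_one_iff_eq (irr_one_ne_zero φ)).1 (by simpa using congrArg conj h4))
  simp only [blockCoeff_eq_sum, ← Finset.mul_sum]
  rw [Finset.sum_comm, Finset.sum_eq_single θ]
  · simp only [if_pos hθB, ← Finset.mul_sum, h2, if_pos hθ.triv]
    ring
  · intro φ _ hne
    split_ifs with hφ
    · rw [← Finset.mul_sum, h2, if_neg fun ht => hne
        (hθ.unique hM hZ hp ht (sameBlock_of_mem hM hB hφ hθB)), mul_zero]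
    · simp
  · simp

/-- The central subgroup is the defect group of the block of `θ`. -/
theorem DZero.defectGroup_eq (hθ : DZero p Z θ) (hM : IsPModular p M)
    (hZ : Z ≤ Subgroup.center G) (hp : IsPGroup p Z) [Z.Normal] {B : Set (IrrCharacter G)}
    (hB : IsPBlock M B) (hθB : θ ∈ B) {D : Subgroup G} (hD : IsDefectGroup p M B D) : D = Z := by
  refine le_antisymm ?_ (BlockTheoryDefect.normal_le_defectGroup hM hB hD Z hp)
  obtain ⟨y, ⟨-, hyI, -⟩, S, rfl⟩ := hD
  have hy : ¬ p ∣ orderOf y := fun h => hyI (by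
    rw [blockCoeff_eq_zero_of_dvd hM hB h]; exact ideal_zero hM)
  set D := (S : Subgroup (Subgroup.centralizer ({y} : Set G))).map
    (Subgroup.centralizer ({y} : Set G)).subtype
  set A := D.map (QuotientGroup.mk' Z) with hA
  have hAp : IsPGroup p A := (S.isPGroup'.map _).map _
  have hθy : ¬ MemLocalIdeal M (conj ((θ : G → ℂ) y)) := fun h => hyI (by
    rw [hθ.blockCoeff_regular hM hZ hp hB hθB hy]
    exact ideal_mul_left hM (hθ.scale_mem hM) h)
  obtain ⟨ψ, hψ⟩ := CharKernel.exists_quot_irr Z θ hθ.triv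
  obtain ⟨n, ρ, hi, hρ⟩ := ψ.2
  have hpr : p.Prime := Fact.out
  set m := (Nat.card (G ⧸ Z)).factorization p
  have hdeg : p ^ m ∣ Module.finrank ℂ (Fin n → ℂ) := by
    have h1 : (Module.finrank ℂ (Fin n → ℂ)) = charDegree (θ : G → ℂ) := by
      rw [charDegree, hψ, QuotientGroup.mk_one, ← hρ, Representation.char_one]
      simp
    have h3 := hθ.deg
    rw [Subgroup.card_eq_card_quotient_mul_card_subgroup Z,
      Nat.factorization_mul Nat.card_pos.ne' Nat.card_pos.ne', Finsupp.add_apply] at h3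
    rw [h1, show m = (charDegree (θ : G → ℂ)).factorization p by omega]
    exact Nat.ordProj_dvd _ _
  have hint := Cfsg.Agent.S0165.isIntegral_div_of_commute ρ hpr (Nat.ordProj_dvd _ _)
    (Nat.pow_succ_factorization_not_dvd Nat.card_pos.ne' hpr) hdeg A hAp
    (q := (y : G ⧸ Z)) (by
      rintro _ ⟨d, hd, rfl⟩
      obtain ⟨d', -, rfl⟩ := hd
      show ((d' : G) : G ⧸ Z) * (y : G ⧸ Z) = (y : G ⧸ Z) * ((d' : G) : G ⧸ Z)
      rw [← QuotientGroup.mk_mul, ← QuotientGroup.mk_mul,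
        Subgroup.mem_centralizer_singleton_iff.1 d'.2])
  rw [hρ, ← hψ] at hint
  have hA1 : A = ⊥ := by
    by_contra hne
    obtain ⟨j, hj⟩ := hAp.exists_card_eq
    refine hθy ?_
    have hA0 : (Nat.card A : ℂ) ≠ 0 := Nat.cast_ne_zero.2 Nat.card_pos.ne'
    rw [show conj ((θ : G → ℂ) y) =
      (Nat.card A : ℂ) * conj ((θ : G → ℂ) y / (Nat.card A : ℂ)) by
        rw [map_div₀, map_natCast, mul_div_cancel₀ _ hA0]]
    refine ideal_mul_right hM ((natCast_mem_iff hM).2 ?_)
      (of_isIntegral hM (hint.map (starRingEnd ℂ).toIntAlgHom))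
    rcases j with _ | j
    · exact absurd (Subgroup.eq_bot_of_card_eq A (by simpa using hj)) hne
    · rw [hj]; exact dvd_pow_self p j.succ_ne_zero
  intro d hd
  have h := Subgroup.mem_map_of_mem (QuotientGroup.mk' Z) hd
  rw [← hA, hA1, Subgroup.mem_bot] at h
  exact (QuotientGroup.eq_one_iff d).1 h

/-- A block with central defect group `Z` has a member of defect zero modulo `Z`. -/
theorem exists_dzero (hM : IsPModular p M) {B : Set (IrrCharacter G)} (hB : IsPBlock M B)
    (hD : IsDefectGroup p M B Z) [Z.Normal] :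
    ∃ θ ∈ B, DZero p Z θ := by
  have hp : IsPGroup p Z := BlockTheoryDefect.isPGroup_of_isDefectGroup hD
  obtain ⟨θ, hθB, hθ⟩ := BlockNormalP81.exists_trivial_on hM hB Z hp
  refine ⟨θ, hθB, hθ, ?_⟩
  have hpr : p.Prime := Fact.out
  have h1 := BlockContrib.minExp_add_defect hM hB
  have h2 : (Nat.card Z).factorization p = blockDefect p B := by
    rw [BlockContribBounds.card_defectGroup hM hB hD, Nat.Prime.factorization_pow hpr,
      Finsupp.single_eq_same]
  have h3 := BlockContrib.minExp_le (p := p) hθB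
  have h4 : (charDegree (θ : G → ℂ)).factorization p ≤ Z.index.factorization p := by
    refine (Nat.factorization_le_iff_dvd (ClassAlgebraVal.charDegree_pos θ).ne'
      Subgroup.index_ne_zero_of_finite).2 ((CharKernel.charDegree_dvd_index θ).trans ?_) p
    exact Subgroup.index_dvd_of_le fun u hu => hθ u hu
  have h5 : (Nat.card G).factorization p =
      Z.index.factorization p + (Nat.card Z).factorization p := by
    rw [← Z.index_mul_card,
      Nat.factorization_mul Subgroup.index_ne_zero_of_finite Nat.card_pos.ne', Finsupp.add_apply]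
  omega

/-- A block with central defect group has rank one. -/
theorem blockRank_eq_one (hM : IsPModular p M) {B : Set (IrrCharacter G)} (hB : IsPBlock M B)
    (hD : IsDefectGroup p M B Z) (hZ : Z ≤ Subgroup.center G) : blockRank p B = 1 := by
  have : Z.Normal := ⟨fun u hu g => by
    rwa [Subgroup.mem_center_iff.1 (hZ hu) g, mul_inv_cancel_right]⟩
  obtain ⟨θ, hθB, hθ⟩ := exists_dzero hM hB hD
  have hp : IsPGroup p Z := BlockTheoryDefect.isPGroup_of_isDefectGroup hD
  have hspan : Submodule.span ℂ ((fun χ : IrrCharacter G => pRegularPart p (χ : G → ℂ)) '' B) =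
      ℂ ∙ pRegularPart p (θ : G → ℂ) := by
    refine le_antisymm (Submodule.span_le.2 ?_)
      ((Submodule.span_singleton_le_iff_mem _ _).2 (Submodule.subset_span ⟨θ, hθB, rfl⟩))
    rintro _ ⟨ψ, hψ, rfl⟩
    obtain ⟨c, hc⟩ := hθ.exists_prop hM hZ hp hB hθB hψ
    refine Submodule.mem_span_singleton.2 ⟨c, funext fun g => ?_⟩
    simp only [Pi.smul_apply, pRegularPart, IsPRegular, smul_eq_mul]
    by_cases hg : p ∣ orderOf g
    · simp [hg]
    · simp [hg, hc g hg]
  rw [blockRank, hspan, finrank_span_singleton]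
  intro h
  have h1 := congrFun h 1
  simp [pRegularPart, IsPRegular, orderOf_one, hM.1.ne_one, irr_one_ne_zero θ] at h1

end Cfsg.Agent.BlockCentral81
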