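import Cfsg.Agent.Lib.BlockPrincipal81
import Cfsg.Agent.Lib.BlockContribBounds

/-!
Blocks of a quotient by a central subgroup of prime order `p`.
-/

set_option autoImplicit false

namespace Cfsg.Agent.BlockContribQuot

open Cfsg Cfsg.Agent.BlockTheoryLocalRing Cfsg.Agent.BlockTheoryCentre Cfsg.Agent.BlockTheoryIdem
open Cfsg.Agent.BlockContrib Cfsg.Agent.ClassAlgebraVal
open scoped ComplexConjugate

attribute [local instance] Classical.propDecidable

variable {p : ℕ} {M : Ideal AlgInt} {G : Type*} [Group G] [Finite G]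

/-- Blocks are determined by the central characters on `p`-regular elements. -/
theorem sameBlock_of_regular (hM : IsPModular p M) {χ ψ : IrrCharacter G}
    (h : ∀ g : G, ¬ p ∣ orderOf g →
      MemLocalIdeal M (centralChar (χ : G → ℂ) g - centralChar (ψ : G → ℂ) g)) :
    SameBlock M (χ : G → ℂ) (ψ : G → ℂ) := by
  haveI := Fintype.ofFinite G
  set B := blockOf M (χ : G → ℂ)
  have hB : IsPBlock M B := isPBlock_blockOf χ
  have h1 : MemLocalIdeal M (omega (χ : G → ℂ) (idem B) - omega (ψ : G → ℂ) (idem B)) := by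
    rw [(isCen_idem B).eq_sum_classSum, map_sum, map_sum, ← Finset.sum_sub_distrib]
    refine ideal_sum hM fun C _ => ?_
    rw [map_smul, map_smul, smul_eq_mul, smul_eq_mul, ← mul_sub, omega_classSum (irr_classFun χ),
      omega_classSum (irr_classFun ψ), coeff_idem]
    by_cases hC : p ∣ orderOf C.out
    · rw [blockCoeff_eq_zero_of_dvd hM hB hC, zero_mul]; exact ideal_zero hM
    · exact ideal_mul_left hM (blockCoeff_mem hM hB _) (h _ hC)
  rw [omega_idem, omega_idem, if_pos (self_mem_blockOf hM χ)] at h1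
  by_cases hψ : ψ ∈ B
  · exact sameBlock_of_mem hM hB (self_mem_blockOf hM χ) hψ
  · rw [if_neg hψ, sub_zero] at h1
    exact absurd h1 (one_not_ideal hM)

variable (W : Subgroup G) [W.Normal]

/-- Inflation of a character of the quotient. -/
noncomputable def infl (χ : IrrCharacter (G ⧸ W)) : IrrCharacter G :=
  ⟨(χ : G ⧸ W → ℂ) ∘ QuotientGroup.mk' W,
    CharBasic.isIrrCharacter_comap _ (QuotientGroup.mk'_surjective W) χ.2⟩

theorem infl_apply (χ : IrrCharacter (G ⧸ W)) (g : G) :
    (infl W χ : G → ℂ) g = (χ : G ⧸ W → ℂ) (QuotientGroup.mk' W g) := rfl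

variable (hWc : W ≤ Subgroup.center G) (hWp : IsPGroup p W)

include hWp in
theorem exists_regular_lift (hp : p.Prime) (q : G ⧸ W) (hq : ¬ p ∣ orderOf q) :
    ∃ g : G, ¬ p ∣ orderOf g ∧ QuotientGroup.mk' W g = q := by
  obtain ⟨l, rfl⟩ := QuotientGroup.mk'_surjective W q
  obtain ⟨x, y, hxy, hc, ⟨k, hk⟩, hy⟩ := exists_pPart hp l
  set π := QuotientGroup.mk' W
  have h1 : IsPPart p (π l) (π x) := by
    refine ⟨π y, by rw [← map_mul, hxy], hc.map π, ?_, fun h => hy (h.trans (orderOf_map_dvd π y))⟩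
    obtain ⟨j, -, hj⟩ := (Nat.dvd_prime_pow hp).1 (hk ▸ orderOf_map_dvd π x)
    exact ⟨j, hj⟩
  have h2 : IsPPart p (π l) 1 := ⟨π l, one_mul _, Commute.one_left _, ⟨0, by simp⟩, hq⟩
  refine ⟨y, hy, ?_⟩
  rw [← hxy, map_mul, pPart_unique hp h1 h2, one_mul]

include hWc hWp in
theorem index_centralizer_quot (hp : p.Prime) {g : G} (hg : ¬ p ∣ orderOf g) :
    (Subgroup.centralizer ({QuotientGroup.mk' W g} : Set (G ⧸ W))).index =
      (Subgroup.centralizer ({g} : Set G)).index := by
  haveI := Fintype.ofFinite G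
  haveI := Fintype.ofFinite (G ⧸ W)
  haveI : Fact p.Prime := ⟨hp⟩
  rw [index_centralizer_eq, index_centralizer_eq]
  refine (Nat.card_eq_of_bijective
    (fun x : {x : G // IsConj g x} =>
      (⟨QuotientGroup.mk' W x, MonoidHom.map_isConj _ x.2⟩ :
        {x : G ⧸ W // IsConj (QuotientGroup.mk' W g) x})) ⟨fun x y hxy => ?_, fun q => ?_⟩).symm
  · obtain ⟨x, hx⟩ := x
    obtain ⟨y, hy⟩ := y
    refine Subtype.ext ?_
    have hxy' : QuotientGroup.mk' W x = QuotientGroup.mk' W y := congrArg Subtype.val hxy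
    obtain ⟨w, hw, rfl⟩ := (QuotientGroup.mk'_eq_mk' W).1 hxy'
    have hreg : ∀ z, IsConj g z → ¬ p ∣ orderOf z := fun z hz => by
      obtain ⟨c, rfl⟩ := isConj_iff.1 hz
      rwa [show c * g * c⁻¹ = MulAut.conj c g from rfl, MulEquiv.orderOf_eq]
    obtain ⟨k, hk⟩ := IsPGroup.iff_orderOf.1 hWp ⟨w, hw⟩
    rw [← Subgroup.orderOf_coe] at hk
    have h1 : IsPPart p (x * w) w :=
      ⟨x, (Subgroup.mem_center_iff.1 (hWc hw) x).symm, (Subgroup.mem_center_iff.1 (hWc hw) x).symm, ⟨k, hk⟩, hreg x hx⟩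
    have h2 : IsPPart p (x * w) 1 :=
      ⟨x * w, one_mul _, Commute.one_left _, ⟨0, by simp⟩, hreg _ hy⟩
    show x = x * w
    simp [pPart_unique hp h1 h2]
  · obtain ⟨q, hq⟩ := q
    obtain ⟨c, rfl⟩ := isConj_iff.1 hq
    obtain ⟨c, rfl⟩ := QuotientGroup.mk'_surjective W c
    exact ⟨⟨c * g * c⁻¹, isConj_iff.2 ⟨c, rfl⟩⟩, Subtype.ext (by simp)⟩

include hWc hWp in
/-- Inflation does not merge blocks. -/
theorem sameBlock_of_infl (hM : IsPModular p M) {χ ψ : IrrCharacter (G ⧸ W)}
    (h : SameBlock M (infl W χ : G → ℂ) (infl W ψ : G → ℂ)) :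
    SameBlock M (χ : G ⧸ W → ℂ) (ψ : G ⧸ W → ℂ) := by
  refine sameBlock_of_regular hM fun q hq => ?_
  obtain ⟨g, hg, rfl⟩ := exists_regular_lift W hWp hM.1 q hq
  have := h g
  simp only [centralChar, infl_apply, map_one, index_centralizer_quot W hWc hWp hM.1 hg] at this ⊢
  exact this

theorem infl_oneChar : infl W (BlockPrincipal81.oneChar (G ⧸ W)) = BlockPrincipal81.oneChar G :=
  Subtype.ext rfl

include hWc hWp in
/-- A non-principal block of the quotient lies in a non-principal block of larger defect. -/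
theorem exists_block_above (hM : IsPModular p M) (hW : Nat.card W = p)
    {B : Set (IrrCharacter (G ⧸ W))} (hB : IsPBlock M B)
    (hne : B ≠ principalBlock M (G ⧸ W)) :
    ∃ B' : Set (IrrCharacter G), IsPBlock M B' ∧ B' ≠ principalBlock M G ∧
      blockDefect p B + 1 ≤ blockDefect p B' := by
  obtain ⟨χ, hχ, hχ0⟩ := exists_height_zero hM hB
  refine ⟨blockOf M (infl W χ : G → ℂ), isPBlock_blockOf _, fun he => hne ?_, ?_⟩
  · have h1 : infl W χ ∈ principalBlock M G := he ▸ self_mem_blockOf hM (infl W χ)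
    have h2 := sameBlock_of_mem hM BlockPrincipal81.isPBlock_principal h1 (BlockPrincipal81.oneChar_mem hM)
    rw [← infl_oneChar W] at h2
    exact block_eq_of_sameBlock hM hB BlockPrincipal81.isPBlock_principal hχ
      (BlockPrincipal81.oneChar_mem hM) (sameBlock_of_infl W hWc hWp hM h2)
  · have hd : charDegree (infl W χ : G → ℂ) = charDegree (χ : G ⧸ W → ℂ) := by
      simp [charDegree, infl_apply]
    have h1 := minExp_le (p := p) (self_mem_blockOf hM (infl W χ))
    rw [hd, exp_eq_add (p := p) hχ, hχ0, add_zero] at h1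
    have hcard : (Nat.card G).factorization p = (Nat.card (G ⧸ W)).factorization p + 1 := by
      rw [Subgroup.card_eq_card_quotient_mul_card_subgroup W, hW,
        Nat.factorization_mul Nat.card_pos.ne' hM.1.ne_zero, Finsupp.add_apply, hM.1.factorization_self]
    have h2 := minExp_add_defect hM hB
    rw [blockDefect_eq, blockDefect_eq]
    omega

end Cfsg.Agent.BlockContribQuot
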