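import Cfsg.Agent.Lib.BlockPrincipal81
import Cfsg.Agent.Lib.BlockTheoryIdem

/-!
Blocks and normal `p`-subgroups: each block has a member trivial on the subgroup, and block
idempotents are supported on its centraliser.
-/

namespace Cfsg.Agent.BlockNormalP81

open Cfsg Cfsg.Agent.BlockTheoryLocalRing Cfsg.Agent.BlockTheoryCentre
open Cfsg.Agent.BlockTheoryIdem Cfsg.Agent.CharBasic Cfsg.Agent.BlockPrincipal81
open Cfsg.Agent.BlockTheoryRotation (classCoeff)
open scoped ComplexConjugate

attribute [local instance] Classical.propDecidable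

variable {p : ℕ} {M : Ideal AlgInt} {G : Type*} [Group G] [Fintype G]

theorem dvdPow_of_mul (hM : IsPModular p M) {n : ℕ} {x y : ℂ} (hx : MemLocalRing M x)
    (hy : DvdPow M p n y) : DvdPow M p n (x * y) := by
  rw [mul_comm]; exact dvdPow_mul_right hM hy hx

/-- A block has a member that is trivial on a normal `p`-subgroup. -/
theorem exists_trivial_on [Fact p.Prime] (hM : IsPModular p M) {B : Set (IrrCharacter G)}
    (hB : IsPBlock M B) (P : Subgroup G) [P.Normal] (hP : IsPGroup p P) :
    ∃ ψ ∈ B, ∀ u ∈ P, (ψ : G → ℂ) u = (ψ : G → ℂ) 1 := by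
  by_contra hne
  -- the average of each member over `P` vanishes
  have h0 : ∀ ψ ∈ B, ∑ u : P, (ψ : G → ℂ) u = 0 := by
    intro ψ hψ
    by_contra hsum
    refine hne ⟨ψ, hψ, ?_⟩
    obtain ⟨n, ρ, hρ, hχ⟩ := ψ.2
    set f : Module.End ℂ (Fin n → ℂ) := ∑ u : P, ρ u
    have hfg : ∀ (g : G), f * ρ g = ρ g * f := by
      intro g
      simp only [f, Finset.sum_mul, Finset.mul_sum, ← map_mul]
      have hi : g⁻¹ ∈ Subgroup.normalizer (P : Set G) := by
        rw [Subgroup.normalizer_eq_top]; exact Subgroup.mem_top _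
      refine Finset.sum_equiv (P.normalizerMonoidHom ⟨g⁻¹, hi⟩).toEquiv (fun _ => by simp)
        (fun u _ => ?_)
      congr 1
      show (u : G) * g = g * (g⁻¹ * (u : G) * (g⁻¹)⁻¹)
      group
    have hfu : ∀ u : P, ρ u * f = f := by
      intro u
      simp only [f, Finset.mul_sum, ← map_mul]
      exact Fintype.sum_equiv (Equiv.mulLeft u) _ _ fun v => rfl
    obtain ⟨w, hw, hwt⟩ := exists_scalar_of_commute ρ f fun g v => LinearMap.congr_fun (hfg g) v
    have hw0 : w ≠ 0 := by
      rintro rfl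
      apply hsum
      rw [zero_smul] at hw
      rw [← hχ]
      simp only [Representation.character, ← map_sum]
      rw [show (∑ u : P, ρ u) = 0 from hw, map_zero]
    intro u hu
    rw [← hχ, apply_eq_one_iff_ker]
    have h1 := hfu ⟨u, hu⟩
    rw [hw] at h1
    have h2 : (1 : Module.End ℂ (Fin n → ℂ)) = LinearMap.id := rfl
    rw [← h2, mul_smul_comm, mul_one] at h1
    exact smul_right_injective _ hw0 h1
  -- but the block part of the permutation character of `G/P` is not zero
  refine blockCoeff_one_ne_zero (block_nonempty hM hB) ?_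
  have h1 : ∑ u : P, blockCoeff B (u : G) = blockCoeff B 1 := by
    rw [Finset.sum_eq_single (1 : P)]
    · simp
    · intro u _ hu
      refine blockCoeff_eq_zero_of_dvd hM hB ?_
      obtain ⟨k, hk⟩ := IsPGroup.iff_orderOf.mp hP u
      rw [Subgroup.orderOf_coe, hk]
      rcases k with _ | k
      · rw [pow_zero, orderOf_eq_one_iff] at hk; exact absurd hk hu
      · exact dvd_pow_self p k.succ_ne_zero
    · simp
  rw [← h1]
  simp only [blockCoeff_eq_sum, ← Finset.mul_sum]
  rw [Finset.sum_comm, Finset.sum_eq_zero, mul_zero]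
  intro χ _
  split_ifs with h
  · rw [← Finset.mul_sum, ← map_sum, h0 χ h, map_zero, mul_zero]
  · simp

/-- The central character of every irreducible character lies in the local ideal at classes
outside the centraliser of a normal `p`-subgroup. -/
theorem centralChar_ideal [Fact p.Prime] (hM : IsPModular p M) (P : Subgroup G) [P.Normal]
    (hP : IsPGroup p P) (χ : IrrCharacter G) {g : G}
    (hg : g ∉ Subgroup.centralizer (P : Set G)) :
    MemLocalIdeal M (centralChar (χ : G → ℂ) g) := by
  obtain ⟨ψ, hψ, hker⟩ := exists_trivial_on hM (isPBlock_blockOf (M := M) χ) P hP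
  suffices h : MemLocalIdeal M (centralChar (ψ : G → ℂ) g) by
    have := ideal_add hM ((show SameBlock M (χ : G → ℂ) (ψ : G → ℂ) from hψ) g) h
    simpa using this
  obtain ⟨n, ρ, hρ, hχ⟩ := ψ.2
  set N := fun x : G => Nat.card {u : P // IsConj g (x * u)} with hN
  have hdiv : ∀ x : G, p ∣ N x := by
    intro x
    let _ : MulAction P {y : G // IsConj g y ∧ x⁻¹ * y ∈ P} :=
      { smul := fun v y => ⟨(v : G) * y.1 * (v : G)⁻¹,
          y.2.1.trans (isConj_iff.mpr ⟨v, rfl⟩), by
            have h1 : x⁻¹ * ((v : G) * y.1 * (v : G)⁻¹) =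
                (x⁻¹ * (v : G) * x) * (x⁻¹ * y.1) * (v : G)⁻¹ := by group
            rw [h1]
            refine mul_mem (mul_mem ?_ y.2.2) (inv_mem v.2)
            simpa using (inferInstance : P.Normal).conj_mem _ v.2 x⁻¹⟩
        one_smul := fun y => Subtype.ext (by show (1 : G) * y.1 * (1 : G)⁻¹ = y.1; simp)
        mul_smul := fun v w y => Subtype.ext (by
          show (v * w : G) * y.1 * (v * w : G)⁻¹ = (v : G) * ((w : G) * y.1 * (w : G)⁻¹) * (v : G)⁻¹
          group) }
    have hmod := hP.card_modEq_card_fixedPoints (α := {y : G // IsConj g y ∧ x⁻¹ * y ∈ P})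
    have hempty : Nat.card (MulAction.fixedPoints P {y : G // IsConj g y ∧ x⁻¹ * y ∈ P}) = 0 := by
      rw [Nat.card_eq_zero]
      left
      constructor
      rintro ⟨⟨y, hy, hy2⟩, hfix⟩
      obtain ⟨c, rfl⟩ := isConj_iff.mp hy
      apply hg
      have hy' : c * g * c⁻¹ ∈ Subgroup.centralizer (P : Set G) := by
        rw [Subgroup.mem_centralizer_iff]
        intro v hv
        exact mul_inv_eq_iff_eq_mul.mp (congrArg Subtype.val (hfix ⟨v, hv⟩))
      simpa [mul_assoc] using
        (inferInstance : (Subgroup.centralizer (P : Set G)).Normal).conj_mem _ hy' c⁻¹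
    rw [hempty] at hmod
    refine dvd_trans (Nat.modEq_zero_iff_dvd.mp hmod) (dvd_of_eq (Nat.card_congr ?_))
    exact
      { toFun := fun y => ⟨⟨x⁻¹ * y.1, y.2.2⟩, by simpa using y.2.1⟩
        invFun := fun u => ⟨x * u.1, u.2, by simp⟩
        left_inv := fun y => by simp
        right_inv := fun u => by simp }
  choose c hc using hdiv
  set f : Module.End ℂ (Fin n → ℂ) := ∑ q : G ⧸ P, c q.out • ρ q.out with hf
  have hclass : ∑ x : G, (if IsConj g x then (1 : ℂ) else 0) • ρ x = (p : ℂ) • f := by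
    have e : ∀ q : G ⧸ P, ∑ u : P, (if IsConj g (q.out * u) then (1 : ℂ) else 0) • ρ (q.out * u) =
        (p : ℂ) • (c q.out • ρ q.out) := by
      intro q
      have hu : ∀ u : P, ρ (q.out * u) = ρ q.out := fun u => by
        rw [map_mul, (apply_eq_one_iff_ker ρ u).mp (by rw [hχ]; exact hker u u.2), mul_one]
      simp only [hu, ← Finset.sum_smul, Finset.sum_boole]
      have h2 : (Finset.univ.filter fun u : P => IsConj g (q.out * u)).card = p * c q.out := by
        rw [← hc, hN, ← Fintype.card_subtype, ← Nat.card_eq_fintype_card]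
      rw [h2, ← Nat.cast_smul_eq_nsmul ℂ (c q.out), smul_smul, Nat.cast_mul]
    rw [hf, Finset.smul_sum, ← Finset.sum_congr rfl fun q _ => e q, ← Fintype.sum_prod_type']
    refine (Fintype.sum_equiv
      (Equiv.ofBijective (fun q : (G ⧸ P) × P => q.1.out * (q.2 : G)) ⟨?_, ?_⟩) _ _ fun _ => rfl).symm
    · rintro ⟨q, u⟩ ⟨q', u'⟩ h
      simp only at h
      have h3 : q = q' := by
        have := congrArg (QuotientGroup.mk (s := P)) h
        rwa [QuotientGroup.mk_mul_of_mem _ u.2, QuotientGroup.mk_mul_of_mem _ u'.2,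
          QuotientGroup.out_eq', QuotientGroup.out_eq'] at this
      subst h3
      exact Prod.ext rfl (Subtype.ext (mul_left_cancel h))
    · intro x
      obtain ⟨u, hu⟩ := QuotientGroup.mk_out_eq_mul P x
      refine ⟨⟨(x : G ⧸ P), u⁻¹⟩, ?_⟩
      simp [hu]
  have hp0 : (p : ℂ) ≠ 0 := Nat.cast_ne_zero.mpr hM.1.ne_zero
  have hasAlg : ρ.asAlgebraHom (classSum g) = (p : ℂ) • f := by
    rw [← hclass, eq_sum_single (classSum g), map_sum]
    refine Finset.sum_congr rfl fun x _ => ?_
    rw [Representation.asAlgebraHom_single, classSum, coeff_ofFun]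
  obtain ⟨w, hw, hwt⟩ := exists_scalar_of_commute ρ f fun h v => by
    have h2 := congrArg ρ.asAlgebraHom ((isCen_classSum g).comm (MonoidAlgebra.single h 1))
    rw [map_mul, map_mul, Representation.asAlgebraHom_single_one, hasAlg, smul_mul_assoc,
      mul_smul_comm] at h2
    exact LinearMap.congr_fun (smul_right_injective _ hp0 h2) v
  have hwi : IsIntegral ℤ w := by
    have : Nontrivial (Fin n → ℂ) := CharBasic.nontrivial_of_irreducible ρ
    let φ : MonoidAlgebra ℤ G →ₐ[ℤ] Module.End ℂ (Fin n → ℂ) :=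
      MonoidAlgebra.lift ℤ _ G (ρ : G →* Module.End ℂ (Fin n → ℂ))
    have h1 : IsIntegral ℤ (∑ q : G ⧸ P, c q.out • MonoidAlgebra.single q.out (1 : ℤ)) :=
      IsIntegral.of_finite ℤ _
    have h2 : IsIntegral ℤ f := by
      have h3 := h1.map φ
      rw [map_sum] at h3
      convert h3 using 2 with x hx
      rw [map_nsmul]; simp [φ]
    rw [hw, show (LinearMap.id : Module.End ℂ (Fin n → ℂ)) = 1 from rfl,
      ← Algebra.algebraMap_eq_smul_one] at h2
    exact (isIntegral_algebraMap_iff
      (FaithfulSMul.algebraMap_injective ℂ (Module.End ℂ (Fin n → ℂ)))).mp h2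
  have hval : centralChar (ψ : G → ℂ) g = (p : ℂ) * w := by
    rw [← omega_classSum (irr_classFun ψ), omega_apply, ← hχ, chiSum_character, hasAlg, map_smul,
      smul_eq_mul, hwt, Representation.char_one]
    have hn : (Module.finrank ℂ (Fin n → ℂ) : ℂ) ≠ 0 :=
      Nat.cast_ne_zero.mpr (finrank_pos_of_irreducible ρ).ne'
    field_simp
  rw [hval]
  exact ideal_mul_right hM (natCast_p_mem hM) (of_isIntegral hM hwi)

/-- Central integral elements supported on the centraliser of `P`. -/
def InC (M : Ideal AlgInt) (P : Subgroup G) (z : MonoidAlgebra ℂ G) : Prop :=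
  IsCen z ∧ IsInt M z ∧ ∀ x, x ∉ Subgroup.centralizer (P : Set G) → z.coeff x = 0

theorem InC.mul (hM : IsPModular p M) {P : Subgroup G} {z w : MonoidAlgebra ℂ G}
    (hz : InC M P z) (hw : InC M P w) : InC M P (z * w) := by
  refine ⟨hz.1.mul hw.1, IsInt.mul hM hz.2.1 hw.2.1, fun x hx => ?_⟩
  rw [coeff_mul_eq]
  refine Finset.sum_eq_zero fun y _ => ?_
  by_cases hy : y ∈ Subgroup.centralizer (P : Set G)
  · rw [hw.2.2 _ fun h => hx ?_, mul_zero]
    simpa using mul_mem hy h
  · rw [hz.2.2 y hy, zero_mul]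

theorem inC_one (hM : IsPModular p M) (P : Subgroup G) :
    InC M P (1 : MonoidAlgebra ℂ G) := by
  refine ⟨isCen_one, isInt_one hM, fun x hx => ?_⟩
  rw [MonoidAlgebra.one_def, MonoidAlgebra.coeff_single, Finsupp.single_apply, if_neg]
  rintro rfl
  exact hx (one_mem _)

theorem InC.sub (hM : IsPModular p M) {P : Subgroup G} {z w : MonoidAlgebra ℂ G}
    (hz : InC M P z) (hw : InC M P w) : InC M P (z - w) :=
  ⟨hz.1.sub hw.1, IsInt.sub hM hz.2.1 hw.2.1, fun x hx => by simp [hz.2.2 x hx, hw.2.2 x hx]⟩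

theorem InC.pow (hM : IsPModular p M) {P : Subgroup G} {z : MonoidAlgebra ℂ G}
    (hz : InC M P z) : ∀ k : ℕ, InC M P (z ^ k)
  | 0 => by rw [pow_zero]; exact inC_one hM P
  | k + 1 => by rw [pow_succ]; exact (InC.pow hM hz k).mul hM hz

omit [Fintype G] in
theorem omega_pow [Fintype G] (χ : IrrCharacter G) {z : MonoidAlgebra ℂ G} (hz : IsCen z) :
    ∀ k : ℕ, omega (χ : G → ℂ) (z ^ k) = omega (χ : G → ℂ) z ^ k
  | 0 => by rw [pow_zero, pow_zero, omega_one]
  | k + 1 => by rw [pow_succ', omega_mul χ hz, omega_pow χ hz k, pow_succ']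

/-- The truncation of a central element to `C(P)` has congruent central characters. -/
theorem omega_trunc_sub [Fact p.Prime] (hM : IsPModular p M) (P : Subgroup G) [P.Normal]
    (hP : IsPGroup p P) (χ : IrrCharacter G) {z : MonoidAlgebra ℂ G} (hz : IsCen z)
    (hzi : IsInt M z) :
    let z' := ofFun fun x => if x ∈ Subgroup.centralizer (P : Set G) then z.coeff x else 0
    InC M P z' ∧ MemLocalIdeal M (omega (χ : G → ℂ) z' - omega (χ : G → ℂ) z) := by
  intro z'
  have hN : (Subgroup.centralizer (P : Set G)).Normal := inferInstance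
  have hc : IsCen z' := fun g h => by
    simp only [z', coeff_ofFun]
    have : h * g * h⁻¹ ∈ Subgroup.centralizer (P : Set G) ↔ g ∈ Subgroup.centralizer (P : Set G) :=
      ⟨fun e => by simpa [mul_assoc] using hN.conj_mem _ e h⁻¹, fun e => hN.conj_mem _ e h⟩
    simp only [this]
    rw [show z.coeff (h * g * h⁻¹) = z.coeff g from hz g h]
  have hi : IsInt M z' := fun x => by
    simp only [z', coeff_ofFun]
    split_ifs
    exacts [hzi x, (localRing hM).zero_mem]
  refine ⟨⟨hc, hi, fun x hx => by simp [z', hx]⟩, ?_⟩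
  rw [← map_sub, (hc.sub hz).eq_sum_classSum, map_sum]
  refine ideal_sum hM fun C _ => ?_
  rw [map_smul, smul_eq_mul, omega_classSum (irr_classFun χ)]
  by_cases hC : C.out ∈ Subgroup.centralizer (P : Set G)
  · simp [z', hC, ideal_zero hM]
  · exact ideal_mul_left hM (IsInt.sub hM hi hzi _) (centralChar_ideal hM P hP χ hC)

/-- Polynomial approximations of a block idempotent supported on `C(P)`. -/
theorem exists_approx [Fact p.Prime] (hM : IsPModular p M) (P : Subgroup G) [P.Normal]
    (hP : IsPGroup p P) {B : Set (IrrCharacter G)} (hB : IsPBlock M B) (t : ℕ) :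
    ∃ F, InC M P F ∧ ∀ χ : IrrCharacter G,
      DvdPow M p t (omega (χ : G → ℂ) F - omega (χ : G → ℂ) (idem B)) := by
  set z' := ofFun fun x => if x ∈ Subgroup.centralizer (P : Set G) then (idem B).coeff x else 0
  have h := fun χ => omega_trunc_sub hM P hP χ (isCen_idem B) (isInt_idem hM hB)
  have hz : InC M P z' := (h (oneChar G)).1
  have hmem : ∀ χ : IrrCharacter G, MemLocalRing M (omega (χ : G → ℂ) z') := fun χ =>
    omega_mem_localRing hM χ hz.1 hz.2.1
  have hclose : ∀ χ : IrrCharacter G,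
      MemLocalIdeal M (omega (χ : G → ℂ) z' - if χ ∈ B then 1 else 0) := fun χ => by
    rw [← omega_idem B χ]; exact (h χ).2
  have hN1 : ∀ χ : IrrCharacter G, ∃ q₀ : ℕ, χ ∉ B → ∀ q, q₀ ≤ q →
      DvdPow M p t (omega (χ : G → ℂ) z' ^ q) := fun χ => by
    by_cases hχ : χ ∈ B
    · exact ⟨0, fun h => absurd hχ h⟩
    · obtain ⟨q₀, hq⟩ := exists_pow_dvdPow hM (by simpa [hχ] using hclose χ) t
      exact ⟨q₀, fun _ => hq⟩
  choose n₁ hn₁ using hN1
  set N := (∑ χ, n₁ χ) + 1
  have hN2 : ∀ χ : IrrCharacter G, ∃ q₀ : ℕ, χ ∈ B → ∀ q, q₀ ≤ q →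
      DvdPow M p t ((1 - omega (χ : G → ℂ) z' ^ N) ^ q) := fun χ => by
    by_cases hχ : χ ∈ B
    · set a := omega (χ : G → ℂ) z'
      have h1 : MemLocalIdeal M (1 - a) := by
        have := ideal_neg (hclose χ)
        simpa [hχ, a] using this
      have h2 : ∀ k : ℕ, MemLocalIdeal M (1 - a ^ k) := fun k => by
        induction k with
        | zero => simpa using ideal_zero hM
        | succ k ih =>
          have := ideal_add hM ih (ideal_mul_left hM ((localRing hM).pow_mem (hmem χ) k) h1)
          refine cast (congrArg (MemLocalIdeal M) ?_) this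
          ring
      obtain ⟨q₀, hq⟩ := exists_pow_dvdPow hM (h2 N) t
      exact ⟨q₀, fun _ => hq⟩
    · exact ⟨0, fun h => absurd h hχ⟩
  choose n₂ hn₂ using hN2
  set K := (∑ χ, n₂ χ) + 1
  refine ⟨1 - (1 - z' ^ N) ^ K, (inC_one hM P).sub hM (((inC_one hM P).sub hM (hz.pow hM N)).pow hM K),
    fun χ => ?_⟩
  rw [map_sub, omega_one, omega_pow χ (isCen_one.sub (hz.pow hM N).1), map_sub, omega_one,
    omega_pow χ hz.1, omega_idem]
  set a := omega (χ : G → ℂ) z'
  by_cases hχ : χ ∈ B
  · rw [if_pos hχ, show (1 : ℂ) - (1 - a ^ N) ^ K - 1 = (-1) * (1 - a ^ N) ^ K by ring]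
    refine dvdPow_of_mul hM ((localRing hM).neg_mem (localRing hM).one_mem) (hn₂ χ hχ K ?_)
    exact (Finset.single_le_sum (fun i _ => Nat.zero_le (n₂ i)) (Finset.mem_univ χ)).trans
      (Nat.le_succ _)
  · rw [if_neg hχ, sub_zero]
    have hd : (1 : ℂ) - (1 - a ^ N) ^ K = (∑ i ∈ Finset.range K, (1 - a ^ N) ^ i) * a ^ N := by
      have := geom_sum_mul (1 - a ^ N) K
      linear_combination this
    rw [hd]
    refine dvdPow_of_mul hM ((localRing hM).sum_mem fun i _ => (localRing hM).pow_mem
      ((localRing hM).sub_mem (localRing hM).one_mem ((localRing hM).pow_mem (hmem χ) N)) i)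
      (hn₁ χ hχ N ?_)
    exact (Finset.single_le_sum (fun i _ => Nat.zero_le (n₁ i)) (Finset.mem_univ χ)).trans
      (Nat.le_succ _)

/-- Block idempotents are supported on the centraliser of every normal `p`-subgroup. -/
theorem blockCoeff_eq_zero [Fact p.Prime] (hM : IsPModular p M) (P : Subgroup G) [P.Normal]
    (hP : IsPGroup p P) {B : Set (IrrCharacter G)} (hB : IsPBlock M B) {g : G}
    (hg : g ∉ Subgroup.centralizer (P : Set G)) : blockCoeff B g = 0 := by
  suffices h : (Nat.card G : ℂ) * blockCoeff B g = 0 from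
    (mul_eq_zero.mp h).resolve_left (Nat.cast_ne_zero.mpr Nat.card_pos.ne')
  refine eq_zero_of_forall_dvdPow hM fun t => ?_
  obtain ⟨F, hF, hω⟩ := exists_approx hM P hP hB t
  have h1 := card_centralizer_mul_classCoeff g (idem B - F)
  have hcen := (isCen_idem B).sub hF.1
  have h2 : classCoeff g (idem B - F) =
      ((Subgroup.centralizer ({g} : Set G)).index : ℂ) * blockCoeff B g := by
    rw [classCoeff_apply, ← Finset.sum_filter, Finset.sum_congr rfl fun x hx =>
      (apply_eq_of_isConj hcen (Finset.mem_filter.1 hx).2).symm, Finset.sum_const, nsmul_eq_mul,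
      index_centralizer_eq, Nat.card_eq_fintype_card, Fintype.card_subtype]
    simp [hF.2.2 g hg, coeff_idem]
  rw [h2, ← mul_assoc, ← Nat.cast_mul, Subgroup.card_mul_index] at h1
  rw [h1]
  refine dvdPow_sum hM fun χ _ => ?_
  have h3 : chiSum (χ : G → ℂ) (idem B - F) =
      (χ : G → ℂ) 1 * (-1 * (omega (χ : G → ℂ) F - omega (χ : G → ℂ) (idem B))) := by
    rw [omega_apply, omega_apply, map_sub]
    field_simp [irr_one_ne_zero χ]
    ring
  rw [h3, ← mul_assoc, ← mul_assoc]
  refine dvdPow_of_mul hM ?_ (hω χ)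
  have hint : ∀ x, MemLocalRing M ((χ : G → ℂ) x) := fun x =>
    of_isIntegral hM (isCharacter_integral (isCharacter_of_isIrrCharacter χ.2) x)
  refine (localRing hM).mul_mem ((localRing hM).mul_mem ?_ (hint 1))
    ((localRing hM).neg_mem (localRing hM).one_mem)
  rw [← irr_inv]
  exact hint g⁻¹

end Cfsg.Agent.BlockNormalP81
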