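import Cfsg.Agent.Lib.BlockTheoryDefect
import Cfsg.Agent.Lib.BlockTheoryNormal
import Cfsg.Agent.Lib.CharKernel
import Cfsg.Agent.Lib.BlockNormalP81

/-!
Blocks and quotient groups: inflation, defect groups of blocks contained in a block.
-/

set_option autoImplicit false

namespace Cfsg.Agent.BlockQuotient78

open Cfsg Cfsg.Agent.BlockTheoryLocalRing Cfsg.Agent.BlockTheoryCentre
open Cfsg.Agent.BlockTheoryIdem Cfsg.Agent.BlockTheoryDefect
open scoped ComplexConjugate

attribute [local instance] Classical.propDecidable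

universe u

variable {p : ℕ} {M : Ideal AlgInt} {G : Type u} [Group G] [Fintype G] (N : Subgroup G) [N.Normal]

/-- Inflation of an irreducible character of a quotient. -/
noncomputable def infl (χ : IrrCharacter (G ⧸ N)) : IrrCharacter G := (CharKernel.quotEquiv N χ).1

theorem infl_apply (χ : IrrCharacter (G ⧸ N)) (g : G) :
    (infl N χ : G → ℂ) g = (χ : G ⧸ N → ℂ) (QuotientGroup.mk' N g) :=
  CharKernel.quotEquiv_apply N χ g

/-- The preimage of the centraliser of the image of `g`. -/
def preCent (g : G) : Subgroup G :=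
  (Subgroup.centralizer ({QuotientGroup.mk' N g} : Set (G ⧸ N))).comap (QuotientGroup.mk' N)

omit [Fintype G] in
theorem centralizer_le_preCent (g : G) : Subgroup.centralizer ({g} : Set G) ≤ preCent N g := fun c hc => by
  refine Subgroup.mem_centralizer_singleton_iff.mpr ?_
  rw [← map_mul, ← map_mul, Subgroup.mem_centralizer_singleton_iff.mp hc]

/-- The index `[preCent g : C(g)]`. -/
noncomputable def mult (g : G) : ℕ := (Subgroup.centralizer ({g} : Set G)).relIndex (preCent N g)

theorem index_eq (g : G) : (Subgroup.centralizer ({g} : Set G)).index =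
    mult N g * (Subgroup.centralizer ({QuotientGroup.mk' N g} : Set (G ⧸ N))).index := by
  rw [mult, ← Subgroup.relIndex_mul_index (centralizer_le_preCent N g)]
  congr 1
  exact Subgroup.index_comap_of_surjective _ (QuotientGroup.mk'_surjective N)

theorem centralChar_infl (χ : IrrCharacter (G ⧸ N)) (g : G) :
    centralChar (infl N χ : G → ℂ) g = mult N g * centralChar (χ : G ⧸ N → ℂ) (QuotientGroup.mk' N g) := by
  simp only [centralChar, infl_apply, map_one, index_eq N g, Nat.cast_mul]
  ring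

theorem sameBlock_infl (hM : IsPModular p M) {χ ψ : IrrCharacter (G ⧸ N)}
    (h : SameBlock M (χ : G ⧸ N → ℂ) (ψ : G ⧸ N → ℂ)) :
    SameBlock M (infl N χ : G → ℂ) (infl N ψ : G → ℂ) := fun g => by
  rw [centralChar_infl, centralChar_infl, ← mul_sub]
  exact ideal_mul_left hM (natCast_mem (localRing hM) _) (h _)

/-- The blocks of the quotient whose inflations lie in `B`. -/
def contained (B : Set (IrrCharacter G)) : Set (IrrCharacter (G ⧸ N)) := {χ | infl N χ ∈ B}

theorem contained_closed (hM : IsPModular p M) {B : Set (IrrCharacter G)} (hB : IsPBlock M B)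
    {χ ψ : IrrCharacter (G ⧸ N)} (hχ : χ ∈ contained N B)
    (h : SameBlock M (χ : G ⧸ N → ℂ) (ψ : G ⧸ N → ℂ)) : ψ ∈ contained N B :=
  mem_of_sameBlock hM hB hχ (sameBlock_infl N hM h)

variable [Fact p.Prime]

/-- If `p` does not divide the index of `C(g)` in the preimage of the centraliser of the image, a
Sylow subgroup of `C(g)` maps onto a Sylow subgroup of that centraliser. -/
theorem map_sylow (g : G) (hm : ¬ p ∣ mult N g) (S : Sylow p (Subgroup.centralizer ({g} : Set G))) :
    ∃ T : Sylow p (Subgroup.centralizer ({QuotientGroup.mk' N g} : Set (G ⧸ N))),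
      sylowIn T = (sylowIn S).map (QuotientGroup.mk' N) := by
  set q := QuotientGroup.mk' N
  set Cb := Subgroup.centralizer ({q g} : Set (G ⧸ N)) with hCb
  set Q := sylowIn S
  have hQC : Q ≤ Subgroup.centralizer ({g} : Set G) := sylowIn_le S
  have hle : Q.map q ≤ Cb :=
    (Subgroup.map_mono (hQC.trans (centralizer_le_preCent N g))).trans (Subgroup.map_comap_le _ _)
  have hQ : IsPGroup p ((Q.map q).subgroupOf Cb) := ((isPGroup_sylowIn S).map q).comap_subtype
  have hidx : ¬ p ∣ ((Q.map q).subgroupOf Cb).index := by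
    intro h
    have h1 : Q.relIndex (preCent N g) = Q.relIndex (Subgroup.centralizer ({g} : Set G)) * mult N g :=
      (Subgroup.relIndex_mul_relIndex _ _ _ hQC (centralizer_le_preCent N g)).symm
    have h2 : (Q.map q).relIndex Cb ∣ Q.relIndex (preCent N g) := by
      rw [← Subgroup.map_comap_eq_self_of_surjective (QuotientGroup.mk'_surjective N) Cb,
        Subgroup.relIndex_map_map]
      have hsup : preCent N g ⊔ q.ker = preCent N g :=
        sup_eq_left.mpr (by rw [preCent, ← MonoidHom.comap_bot]; exact Subgroup.comap_mono bot_le)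
      rw [show Subgroup.comap q Cb = preCent N g from rfl, hsup]
      exact Subgroup.relIndex_dvd_of_le_left _ le_sup_left
    have h3 : Q.relIndex (Subgroup.centralizer ({g} : Set G)) = (S : Subgroup (Subgroup.centralizer ({g} : Set G))).index := by
      show (Q.subgroupOf _).index = _
      rw [show Q.subgroupOf (Subgroup.centralizer ({g} : Set G)) = (S : Subgroup (Subgroup.centralizer ({g} : Set G)))
        from Subgroup.comap_map_eq_self_of_injective (Subgroup.subtype_injective _) _]
    rw [h1, h3] at h2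
    rcases (Fact.out : p.Prime).dvd_mul.mp (h.trans h2) with h | h
    · exact S.not_dvd_index h
    · exact hm h
  refine ⟨hQ.toSylow hidx, ?_⟩
  show ((Q.map q).subgroupOf Cb).map Cb.subtype = _
  rw [Subgroup.subgroupOf_map_subtype, inf_eq_left.mpr hle]

/-- A defect group of a block contained in `B` lies in the image of a defect group of `B`. -/
theorem exists_defect_ge (hM : IsPModular p M) {B : Set (IrrCharacter G)} (hB : IsPBlock M B)
    {Bb : Set (IrrCharacter (G ⧸ N))} (hBb : IsPBlock M Bb) (hsub : Bb ⊆ contained N B)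
    {Db : Subgroup (G ⧸ N)} (hDb : IsDefectGroup p M Bb Db) :
    ∃ P : Subgroup G, IsDefectGroup p M B P ∧ Db ≤ P.map (QuotientGroup.mk' N) := by
  obtain ⟨D₀, hD₀⟩ := exists_defectGroup hM hB
  have hD := hD₀
  obtain ⟨g, ⟨-, -, hω⟩, S, rfl⟩ := hD₀
  obtain ⟨χ, hχ⟩ := block_nonempty hM hBb
  have hu : ¬ MemLocalIdeal M (centralChar (infl N χ : G → ℂ) g) := hω _ (hsub hχ)
  rw [centralChar_infl] at hu
  have hcR : MemLocalRing M (centralChar (χ : G ⧸ N → ℂ) (QuotientGroup.mk' N g)) :=
    of_isIntegral hM (isIntegral_centralChar χ _)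
  have hm : ¬ p ∣ mult N g := fun h => hu (ideal_mul_right hM ((natCast_mem_iff hM).mpr h) hcR)
  obtain ⟨x, hgx, hx⟩ := exists_conj_centralizes hM hBb hDb
    ⟨χ, hχ, fun h => hu (ideal_mul_left hM (natCast_mem (localRing hM) _) h)⟩
  obtain ⟨T, hT⟩ := map_sylow N g hm S
  obtain ⟨y, hy⟩ := conjLe_sylowIn_of_isConj (isPGroup_of_isDefectGroup hDb) hgx hx T
  obtain ⟨y, rfl⟩ := QuotientGroup.mk'_surjective N y
  refine ⟨(sylowIn S).map (MulAut.conj y⁻¹).toMonoidHom, isDefectGroup_map hD y⁻¹, fun a ha => ?_⟩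
  have h1 := hy (Subgroup.mem_map_of_mem _ ha)
  rw [hT] at h1
  obtain ⟨b, hb, hbe⟩ := h1
  refine ⟨_, Subgroup.mem_map_of_mem _ hb, ?_⟩
  simp only [MulEquiv.coe_toMonoidHom, MulAut.conj_apply] at hbe ⊢
  rw [map_mul, map_mul, hbe, inv_inv, map_inv]
  group

/-- A coset sum of the idempotent coefficients of `B`. -/
theorem sum_coset (B : Set (IrrCharacter G)) (g : G) :
    blockCoeff (contained N B) (QuotientGroup.mk' N g) = ∑ n : N, blockCoeff B (g * n) := by
  have hsum : ∀ χ : IrrCharacter G, ∑ n : N, (χ : G → ℂ) (g * n) =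
      if (∀ n ∈ N, (χ : G → ℂ) n = (χ : G → ℂ) 1) then (Nat.card N : ℂ) * (χ : G → ℂ) g else 0 := by
    intro χ
    have h1 := ZStarPrincipal.chiSum_single_mul_avg N (χ : G → ℂ) g 1
    rw [← MonoidAlgebra.one_def, mul_one, ← (BlockTheoryNormal.isCen_avg N).comm,
      chiSum_mul χ (BlockTheoryNormal.isCen_avg N), BlockTheoryNormal.omega_avg, chiSum_single] at h1
    simp only [mul_one, one_mul] at h1
    have hN : (Nat.card N : ℂ) ≠ 0 := Nat.cast_ne_zero.mpr Nat.card_pos.ne'
    split_ifs at h1 ⊢ with h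
    · rw [one_mul] at h1
      rw [h1, ← mul_assoc, mul_inv_cancel₀ hN, one_mul]
    · rw [zero_mul, eq_comm, mul_eq_zero] at h1
      exact h1.resolve_left (inv_ne_zero hN)
  simp only [blockCoeff_eq_sum]
  rw [← Finset.mul_sum, Finset.sum_comm]
  have hrhs : ∀ χ : IrrCharacter G,
      (∑ n : N, if χ ∈ B then (χ : G → ℂ) 1 * conj ((χ : G → ℂ) (g * n)) else 0) =
        if (∀ n ∈ N, (χ : G → ℂ) n = (χ : G → ℂ) 1) then
          (if χ ∈ B then (χ : G → ℂ) 1 * ((Nat.card N : ℂ) * conj ((χ : G → ℂ) g)) else 0) else 0 := by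
    intro χ
    by_cases hχ : χ ∈ B
    · simp only [if_pos hχ, ← Finset.mul_sum, ← map_sum, hsum]
      split_ifs <;> simp [Complex.conj_natCast]
    · simp [hχ]
  simp only [hrhs]
  have hsub : ∀ f : IrrCharacter G → ℂ,
      (∑ χ : IrrCharacter G, if (∀ n ∈ N, (χ : G → ℂ) n = (χ : G → ℂ) 1) then f χ else 0) =
        ∑ χ : IrrCharacter (G ⧸ N), f (infl N χ) := by
    intro f
    rw [← Finset.sum_filter, ← Finset.sum_subtype_eq_sum_filter, Finset.subtype_univ]
    exact ((CharKernel.quotEquiv N).sum_comp (fun χ => f χ.1)).symm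
  rw [hsub, Finset.mul_sum, Finset.mul_sum]
  refine Finset.sum_congr rfl fun χ _ => ?_
  have hcard : (Nat.card G : ℂ) = Nat.card (G ⧸ N) * Nat.card N := by
    rw [← Nat.cast_mul, mul_comm]; exact_mod_cast (N.card_mul_index).symm
  have hN : (Nat.card N : ℂ) ≠ 0 := Nat.cast_ne_zero.mpr Nat.card_pos.ne'
  show _ = _ * if infl N χ ∈ B then (infl N χ : G → ℂ) 1 * ((Nat.card N : ℂ) * conj ((infl N χ : G → ℂ) g)) else 0
  simp only [infl_apply, map_one, hcard]
  by_cases h : infl N χ ∈ B
  · rw [if_pos (show χ ∈ contained N B from h), if_pos h]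
    field_simp
  · rw [if_neg (show χ ∉ contained N B from h), if_neg h]
    simp

/-- A block contained in `B` with unit coefficient, given one on the union of them. -/
theorem exists_block_unit (hM : IsPModular p M) {B : Set (IrrCharacter G)} (hB : IsPBlock M B)
    {x : G ⧸ N} (h : ¬ MemLocalIdeal M (blockCoeff (contained N B) x)) :
    ∃ Bb : Set (IrrCharacter (G ⧸ N)), IsPBlock M Bb ∧ Bb ⊆ contained N B ∧ ¬ MemLocalIdeal M (blockCoeff Bb x) := by
  by_contra! hcon
  refine h ?_
  rw [blockCoeff_eq_sum, ← Finset.sum_fiberwise (Finset.univ : Finset (IrrCharacter (G ⧸ N)))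
    (fun χ : IrrCharacter (G ⧸ N) => blockOf M (χ : G ⧸ N → ℂ)), Finset.mul_sum]
  refine ideal_sum hM fun Bb _ => ?_
  by_cases hBb : ∃ χ : IrrCharacter (G ⧸ N), χ ∈ contained N B ∧ blockOf M (χ : G ⧸ N → ℂ) = Bb
  · obtain ⟨χ, hχ, rfl⟩ := hBb
    have hblk := isPBlock_blockOf (M := M) χ
    have hsub : blockOf M (χ : G ⧸ N → ℂ) ⊆ contained N B := fun ψ hψ => contained_closed N hM hB hχ hψ
    have := hcon _ hblk hsub
    rw [blockCoeff_eq_sum] at this
    convert this using 2
    rw [Finset.sum_filter]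
    refine Finset.sum_congr rfl fun ψ _ => ?_
    by_cases hψ : ψ ∈ blockOf M (χ : G ⧸ N → ℂ)
    · rw [if_pos hψ, if_pos (eq_blockOf_of_mem hM hblk hψ).symm, if_pos (hsub hψ)]
    · rw [if_neg hψ, if_neg fun e : blockOf M (ψ : G ⧸ N → ℂ) = blockOf M (χ : G ⧸ N → ℂ) =>
        hψ (e ▸ self_mem_blockOf hM ψ)]
  · rw [Finset.sum_eq_zero, mul_zero]
    · exact ideal_zero hM
    · intro χ hχ
      exact if_neg fun h' => hBb ⟨χ, h', (Finset.mem_filter.mp hχ).2⟩

end Cfsg.Agent.BlockQuotient78
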