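import Mathlib

/-!
An integral symmetric matrix `c` with `c * c = p • c`, of rank one modulo `p` and with diagonal prime
to `p`: every nonzero value `c *ᵥ a` has square norm at least the trace of `c`.
-/

set_option autoImplicit false

namespace Cfsg.Agent.LatticeProjBound38

open Matrix

section Gram

variable {ι κ : Type*} [Fintype ι] [DecidableEq ι] [Fintype κ] [DecidableEq κ]

theorem one_add_sum_sq_le_det (Y : Matrix ι κ ℝ) :
    1 + ∑ i, ∑ k, Y i k ^ 2 ≤ (1 + Yᵀ * Y).det := by
  have hpsd : (Yᵀ * Y).PosSemidef := by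
    simpa [Matrix.conjTranspose_eq_transpose_of_trivial] using
      Matrix.posSemidef_conjTranspose_mul_self Y
  set ev := hpsd.1.eigenvalues with hev
  have hdet : (1 + Yᵀ * Y).det = ∏ k, (1 + ev k) := by
    conv_lhs => rw [hpsd.1.spectral_theorem]
    rw [← map_one (Unitary.conjStarAlgAut ℝ (Matrix κ κ ℝ) hpsd.1.eigenvectorUnitary), ← map_add,
      Unitary.conjStarAlgAut_apply, Matrix.det_mul_right_comm,
      Matrix.det_mul (hpsd.1.eigenvectorUnitary.1 * _)]
    rw [show (hpsd.1.eigenvectorUnitary : Matrix κ κ ℝ) * star (hpsd.1.eigenvectorUnitary : Matrix κ κ ℝ) = 1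
      from (Matrix.mem_unitaryGroup_iff.1 hpsd.1.eigenvectorUnitary.2), Matrix.det_one, one_mul,
      ← Matrix.diagonal_one, Matrix.diagonal_add, Matrix.det_diagonal]
    rfl
  have htr : ∑ i, ∑ k, Y i k ^ 2 = ∑ k, ev k := by
    have h := hpsd.1.trace_eq_sum_eigenvalues
    simp only [RCLike.ofReal_real_eq_id, id] at h
    rw [← h, Finset.sum_comm]
    simp [Matrix.trace, Matrix.mul_apply, pow_two]
  have h0 : ∀ k, 0 ≤ ev k := fun k => hpsd.eigenvalues_nonneg k
  rw [hdet, htr]
  clear hdet htr hev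
  induction (Finset.univ : Finset κ) using Finset.induction_on with
  | empty => simp
  | insert k s hk ih =>
    rw [Finset.sum_insert hk, Finset.prod_insert hk]
    nlinarith [mul_le_mul_of_nonneg_left ih (h0 k), h0 k,
      mul_nonneg (h0 k) (Finset.sum_nonneg fun j (_ : j ∈ s) => h0 j)]

/-- The Gram determinant of an injective integral matrix without zero rows. -/
theorem card_le_gram_det (A : Matrix ι κ ℤ)
    (hinj : Function.Injective (A.map (Int.cast : ℤ → ℝ)).mulVec) (hrow : ∀ i, A i ≠ 0) :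
    (Fintype.card ι : ℤ) + 1 ≤ (Aᵀ * A).det + Fintype.card κ := by
  set Ar := A.map (Int.cast : ℤ → ℝ) with hAr
  have hrank : Module.finrank ℝ ↥(Submodule.span ℝ (Set.range Ar.row)) = Fintype.card κ := by
    rw [← Matrix.rank_eq_finrank_span_row, Matrix.rank, LinearMap.finrank_range_of_inj hinj,
      Module.finrank_pi]
  obtain ⟨T, hTsub, hspan, hli⟩ := exists_linearIndependent ℝ (Set.range Ar.row)
  have hTfin : T.Finite := (Set.finite_range _).subset hTsub
  haveI := hTfin.fintype
  have hTcard : Fintype.card T = Fintype.card κ := by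
    rw [← hrank, ← hspan]
    have h := finrank_span_eq_card hli
    rw [← h]
    congr <;> simp
  obtain ⟨e₀⟩ := Fintype.card_eq.1 hTcard.symm
  choose e he using fun k : κ => hTsub (e₀ k).2
  have heinj : Function.Injective e := fun a b h => e₀.injective (Subtype.ext (by rw [← he, ← he, h]))
  set B : Matrix κ κ ℤ := A.submatrix e id with hB
  set Br := B.map (Int.cast : ℤ → ℝ) with hBr
  have hBunit : IsUnit Br := by
    rw [← Matrix.linearIndependent_rows_iff_isUnit]
    have h : Br.row = fun k => ((e₀ k : T) : κ → ℝ) := funext fun k => (he k : Ar.row (e k) = _)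
    rw [h]
    exact hli.comp e₀ e₀.injective
  have hdet : Br.det = (B.det : ℝ) := ((Int.castRingHom ℝ).map_det B).symm
  have hdet0 : (B.det : ℝ) ≠ 0 := hdet ▸ ((Matrix.isUnit_iff_isUnit_det _).1 hBunit).ne_zero
  -- the remaining rows
  let S : Finset ι := (Finset.univ.image e)ᶜ
  set Y : Matrix S κ ℝ := (Ar.submatrix (fun i : S => (i : ι)) id) * Br⁻¹ with hY
  have hYB : Y * Br = Ar.submatrix (fun i : S => (i : ι)) id := by
    rw [hY, Matrix.mul_assoc, Matrix.nonsing_inv_mul _ ((Matrix.isUnit_iff_isUnit_det _).1 hBunit),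
      Matrix.mul_one]
  have hsplit : Arᵀ * Ar = Brᵀ * (1 + Yᵀ * Y) * Br := by
    rw [Matrix.mul_add, Matrix.add_mul, Matrix.mul_one]
    rw [show Brᵀ * (Yᵀ * Y) * Br = (Y * Br)ᵀ * (Y * Br) by
      rw [Matrix.transpose_mul Y Br]; simp only [Matrix.mul_assoc]]
    rw [hYB]
    ext a b
    simp only [Matrix.mul_apply, Matrix.transpose_apply, Matrix.add_apply, Matrix.submatrix_apply, id]
    rw [← Finset.sum_add_sum_compl (Finset.univ.image e)]
    congr 1
    · rw [Finset.sum_image fun a _ b _ h => heinj h]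
      rfl
    · exact (Finset.sum_coe_sort S (fun i => Ar i a * Ar i b)).symm
  have hD : ((Aᵀ * A).det : ℝ) = (B.det : ℝ) ^ 2 * (1 + Yᵀ * Y).det := by
    have h1 : ((Aᵀ * A).det : ℝ) = (Arᵀ * Ar).det := by
      have h := (Int.castRingHom ℝ).map_det (Aᵀ * A)
      rw [RingHom.mapMatrix_apply, Matrix.map_mul, Matrix.transpose_map] at h
      exact h
    rw [h1, hsplit, Matrix.det_mul, Matrix.det_mul, Matrix.det_transpose, hdet]
    ring
  have hYint : ∀ i : S, 1 ≤ (B.det : ℝ) ^ 2 * ∑ k, Y i k ^ 2 := by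
    intro i
    set w : κ → ℤ := Matrix.vecMul (A (i : ι)) B.adjugate with hw
    have hwY : ∀ k, (B.det : ℝ) * Y i k = (w k : ℝ) := by
      intro k
      have h2 : (B.det : ℝ) • Br⁻¹ = B.adjugate.map (Int.cast : ℤ → ℝ) := by
        rw [Matrix.inv_def, smul_smul, hdet, Ring.mul_inverse_cancel _ (isUnit_iff_ne_zero.2 hdet0),
          one_smul]
        exact (RingHom.map_adjugate (Int.castRingHom ℝ) B).symm
      have h3 : (B.det : ℝ) • Y = (Ar.submatrix (fun i : S => (i : ι)) id) *
          B.adjugate.map (Int.cast : ℤ → ℝ) := by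
        rw [hY, ← Matrix.mul_smul, h2]
      have h4 := congrFun (congrFun h3 i) k
      rw [Matrix.smul_apply, smul_eq_mul] at h4
      rw [h4, hw]
      simp [Matrix.mul_apply, Matrix.vecMul, dotProduct, hAr]
    have hw0 : w ≠ 0 := by
      intro h
      have h5 : Matrix.vecMul w B = 0 := by rw [h, Matrix.zero_vecMul]
      rw [hw, Matrix.vecMul_vecMul, Matrix.adjugate_mul, Matrix.vecMul_smul, Matrix.vecMul_one] at h5
      exact hrow i ((smul_eq_zero.1 h5).resolve_left fun h6 => hdet0 (by rw [h6]; simp))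
    obtain ⟨k, hk⟩ := Function.ne_iff.1 hw0
    rw [Finset.mul_sum]
    refine le_trans ?_ (Finset.single_le_sum (fun j _ => by positivity) (Finset.mem_univ k))
    rw [← mul_pow, hwY]
    have : (1 : ℤ) ≤ w k ^ 2 := by
      have h0 : 0 < w k ^ 2 := by
        have := pow_pos (abs_pos.2 hk) 2
        rwa [sq_abs] at this
      omega
    exact_mod_cast this
  have hS : (S.card : ℝ) + Fintype.card κ = Fintype.card ι := by
    rw [Finset.card_compl, Finset.card_image_of_injective _ heinj, Finset.card_univ,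
      Nat.cast_sub (Fintype.card_le_of_injective e heinj)]
    ring
  have hB1 : (1 : ℝ) ≤ (B.det : ℝ) ^ 2 := by
    have h : (1 : ℤ) ≤ B.det ^ 2 := by
      have : B.det ≠ 0 := fun h => hdet0 (by rw [h]; simp)
      nlinarith [Int.one_le_abs this, sq_abs B.det]
    exact_mod_cast h
  have hmain : (S.card : ℝ) + 1 ≤ (B.det : ℝ) ^ 2 * (1 + ∑ i, ∑ k, Y i k ^ 2) := by
    rw [mul_add, mul_one, Finset.mul_sum, add_comm]
    refine add_le_add hB1 ?_
    have := Finset.sum_le_sum (s := Finset.univ) fun i (_ : i ∈ (Finset.univ : Finset S)) => hYint i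
    simpa using this
  have hfin := hmain.trans (mul_le_mul_of_nonneg_left (one_add_sum_sq_le_det Y) (sq_nonneg _))
  rw [← hD] at hfin
  have : (Fintype.card ι : ℝ) + 1 ≤ ((Aᵀ * A).det : ℝ) + Fintype.card κ := by linarith
  exact_mod_cast this

end Gram

theorem pow_dvd_det_of_rank_one {m : Type*} [Fintype m] [DecidableEq m] {p : ℕ} (hp : p.Prime)
    (K : Matrix m m ℤ) (β : ℤ) (w : m → ℤ) (h : ∀ a b, (p : ℤ) ∣ K a b - β * w a * w b) :
    (p : ℤ) ^ (Fintype.card m - 1) ∣ K.det := by
  have hpz : Prime (p : ℤ) := Nat.prime_iff_prime_int.1 hp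
  have hscale : ∀ (K' : Matrix m m ℤ) (s : Finset m), (∀ a ∈ s, ∀ b, (p : ℤ) ∣ K' a b) →
      (p : ℤ) ^ s.card ∣ K'.det := by
    intro K' s hs
    have hE : ∀ a b, ∃ E : ℤ, K' a b = (if a ∈ s then (p : ℤ) else 1) * E := fun a b => by
      split_ifs with ha
      · exact hs a ha b
      · exact ⟨K' a b, (one_mul _).symm⟩
    choose E hE using hE
    rw [show K' = Matrix.diagonal (fun a => if a ∈ s then (p : ℤ) else 1) * Matrix.of E from by
      ext a b; simp [Matrix.diagonal_mul, hE a b], Matrix.det_mul, Matrix.det_diagonal,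
      Finset.prod_ite_mem, Finset.univ_inter, Finset.prod_const]
    exact dvd_mul_right _ _
  by_cases hw : ∀ a, (p : ℤ) ∣ w a
  · refine (pow_dvd_pow _ (Nat.sub_le _ _)).trans (Finset.card_univ (α := m) ▸ hscale K Finset.univ ?_)
    intro a _ b
    have := dvd_add (h a b) (dvd_mul_of_dvd_left (dvd_mul_of_dvd_right (hw a) β) (w b))
    simpa using this
  push Not at hw
  obtain ⟨k, hk⟩ := hw
  obtain ⟨x, y, hxy⟩ := (hpz.coprime_iff_not_dvd.2 hk).symm
  set μ : m → ℤ := fun a => if a = k then 0 else w a * x with hμ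
  set K' : Matrix m m ℤ := Matrix.of fun a b => K a b - μ a * K k b with hK'
  have hdet : K.det = K'.det := Matrix.det_eq_of_forall_row_eq_smul_add_const μ k (by simp [hμ])
    fun a b => by simp [hK', hμ]
  rw [hdet, show Fintype.card m - 1 = (Finset.univ.erase k).card by
    rw [Finset.card_erase_of_mem (Finset.mem_univ k), Finset.card_univ]]
  refine hscale K' _ fun a ha b => ?_
  rw [hK', Matrix.of_apply, hμ]
  dsimp only
  rw [if_neg (Finset.mem_erase.1 ha).1]
  have : K a b - w a * x * K k b = (K a b - β * w a * w b) - w a * x * (K k b - β * w k * w b) +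
      β * w a * w b * (1 - x * w k) := by ring
  rw [this, show (1 : ℤ) - x * w k = y * p by linarith]
  exact dvd_add (dvd_sub (h a b) ((h k b).mul_left _)) (dvd_mul_of_dvd_right (dvd_mul_left _ _) _)

/-- The bound. -/
theorem trace_le {n : Type*} [Fintype n] [DecidableEq n] {p : ℕ} (hp : p.Prime) (c : Matrix n n ℤ)
    (hsym : cᵀ = c) (hsq : c * c = (p : ℤ) • c)
    (hrk : ∀ i j k l, (p : ℤ) ∣ c i j * c k l - c i l * c k j)
    (hdiag : ∀ i, ¬ (p : ℤ) ∣ c i i) (a : n → ℤ) (ha : c *ᵥ a ≠ 0) :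
    c.trace ≤ ∑ i, (c *ᵥ a) i ^ 2 := by
  have hpz : Prime (p : ℤ) := Nat.prime_iff_prime_int.1 hp
  obtain ⟨i₀, -⟩ := Function.ne_iff.1 ha
  -- the kernel and a retraction onto it
  set L := LinearMap.ker c.mulVecLin with hL
  obtain ⟨s, hs⟩ := Module.projective_lifting_property c.mulVecLin.rangeRestrict LinearMap.id
    c.mulVecLin.surjective_rangeRestrict
  let g : (n → ℤ) →ₗ[ℤ] L := LinearMap.codRestrict L (LinearMap.id - s ∘ₗ c.mulVecLin.rangeRestrict)
    fun v => by
      rw [hL, LinearMap.mem_ker, LinearMap.sub_apply, map_sub, sub_eq_zero, LinearMap.id_apply]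
      exact (congrArg Subtype.val (LinearMap.congr_fun hs (c.mulVecLin.rangeRestrict v))).symm
  have hg : ∀ v : L, g v = v := fun v => by
    refine Subtype.ext ?_
    show (v : n → ℤ) - s (c.mulVecLin.rangeRestrict v) = v
    rw [show c.mulVecLin.rangeRestrict (v : n → ℤ) = 0 from Subtype.ext v.2, map_zero, sub_zero]
  set bs := Module.finBasis ℤ L
  set m := Module.finrank ℤ L
  set N : Matrix n (Fin m) ℤ := Matrix.of fun i k => (bs k : n → ℤ) i with hN
  set R : Matrix (Fin m) n ℤ := LinearMap.toMatrix' (bs.equivFun.toLinearMap ∘ₗ g) with hR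
  have hRv : ∀ v, R *ᵥ v = bs.equivFun (g v) := fun v => by
    rw [hR, LinearMap.toMatrix'_mulVec]; rfl
  have hNv : ∀ x : Fin m → ℤ, N *ᵥ x = (bs.equivFun.symm x : n → ℤ) := fun x => by
    ext i
    rw [Module.Basis.equivFun_symm_apply]
    simp [hN, Matrix.mulVec, dotProduct, mul_comm]
  have hNR : ∀ v, c *ᵥ v = 0 → N *ᵥ (R *ᵥ v) = v := fun v hv => by
    rw [hRv, hg ⟨v, hv⟩, hNv, LinearEquiv.symm_apply_apply]
  have hRN : R * N = 1 := by
    refine Matrix.toLin'.injective (LinearMap.ext fun x => ?_)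
    rw [Matrix.toLin'_apply, Matrix.toLin'_apply, Matrix.one_mulVec, ← Matrix.mulVec_mulVec, hRv, hNv,
      hg, LinearEquiv.apply_symm_apply]
  have hcN : c * N = 0 := by
    refine Matrix.toLin'.injective (LinearMap.ext fun x => ?_)
    rw [Matrix.toLin'_apply, Matrix.toLin'_apply, ← Matrix.mulVec_mulVec, hNv, Matrix.zero_mulVec]
    exact (bs.equivFun.symm x).2
  set P : Matrix n n ℤ := (p : ℤ) • 1 - c with hP
  have hcP : c * P = 0 := by rw [hP, Matrix.mul_sub, Matrix.mul_smul, Matrix.mul_one, hsq, sub_self]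
  have hNRP : N * (R * P) = P := by
    refine Matrix.toLin'.injective (LinearMap.ext fun x => ?_)
    rw [Matrix.toLin'_apply, Matrix.toLin'_apply, ← Matrix.mulVec_mulVec, ← Matrix.mulVec_mulVec]
    exact hNR _ (by rw [Matrix.mulVec_mulVec, hcP, Matrix.zero_mulVec])
  have hPT : Pᵀ = P := by rw [hP, Matrix.transpose_sub, Matrix.transpose_smul, Matrix.transpose_one, hsym]
  have hPN : P * N = (p : ℤ) • N := by
    rw [hP, Matrix.sub_mul, Matrix.smul_mul, Matrix.one_mul, hcN, sub_zero]
  set G := Nᵀ * N with hG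
  set K := R * P * Rᵀ with hK
  have hGK : G * K = (p : ℤ) • 1 := by
    calc G * K = Nᵀ * (N * (R * P)) * Rᵀ := by simp only [hG, hK, Matrix.mul_assoc]
      _ = (P * N)ᵀ * Rᵀ := by rw [hNRP, Matrix.transpose_mul, hPT]
      _ = (p : ℤ) • (R * N)ᵀ := by rw [hPN, Matrix.transpose_smul, Matrix.smul_mul, Matrix.transpose_mul]
      _ = _ := by rw [hRN, Matrix.transpose_one]
  have hNKN : N * K * Nᵀ = P := by
    calc N * K * Nᵀ = (N * (R * P)) * (Rᵀ * Nᵀ) := by simp only [hK, Matrix.mul_assoc]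
      _ = ((N * R) * P)ᵀ := by
          rw [hNRP, Matrix.transpose_mul (N * R) P, Matrix.transpose_mul, hPT]
      _ = P := by rw [Matrix.mul_assoc, hNRP, hPT]
  -- rank one
  set u := c i₀ i₀ with hu
  obtain ⟨x₀, y₀, hxy₀⟩ := (hpz.coprime_iff_not_dvd.2 (hdiag i₀)).symm
  set w : Fin m → ℤ := R *ᵥ (fun i => c i i₀) with hw
  have hKdvd : (p : ℤ) ^ (Fintype.card (Fin m) - 1) ∣ K.det := by
    refine pow_dvd_det_of_rank_one hp K (-x₀) w fun a b => ?_
    have he : ∀ i j, (p : ℤ) ∣ P i j - (-x₀) * c i i₀ * c j i₀ := by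
      intro i j
      have h1 := hrk i j i₀ i₀
      rw [show c i₀ j = c j i₀ from congrFun (congrFun hsym j) i₀, ← hu] at h1
      have : P i j - (-x₀) * c i i₀ * c j i₀ =
          (p : ℤ) * ((1 : Matrix n n ℤ) i j) - x₀ * (c i j * u - c i i₀ * c j i₀) - c i j * (1 - x₀ * u) := by
        rw [hP, Matrix.sub_apply, Matrix.smul_apply, smul_eq_mul]; ring
      rw [this, show (1 : ℤ) - x₀ * u = y₀ * p by rw [hu]; linarith]
      exact dvd_sub (dvd_sub (dvd_mul_right _ _) (h1.mul_left _)) (dvd_mul_of_dvd_right (dvd_mul_left _ _) _)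
    have : K a b - (-x₀) * w a * w b =
        ∑ i, ∑ j, R a i * R b j * (P i j - (-x₀) * c i i₀ * c j i₀) := by
      simp only [hK, hw, Matrix.mulVec, dotProduct, Matrix.mul_apply, Matrix.transpose_apply, mul_sub,
        Finset.sum_sub_distrib, Finset.mul_sum, Finset.sum_mul]
      congr 1 <;>
      · rw [Finset.sum_comm]
        exact Finset.sum_congr rfl fun i _ => Finset.sum_congr rfl fun j _ => by ring
    rw [this]
    exact Finset.dvd_sum fun i _ => Finset.dvd_sum fun j _ => (he i j).mul_left _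
  have hpos : (0 : ℤ) < p := by exact_mod_cast hp.pos
  have hGnn : (0 : ℤ) ≤ G.det := by
    have h : (0 : ℝ) ≤ (G.det : ℝ) := by
      have h1 : (G.det : ℝ) = ((N.map (Int.cast : ℤ → ℝ))ᵀ * N.map (Int.cast : ℤ → ℝ)).det := by
        have h := (Int.castRingHom ℝ).map_det G
        rw [RingHom.mapMatrix_apply, hG, Matrix.map_mul, Matrix.transpose_map] at h
        exact h
      rw [h1]
      exact (by simpa [Matrix.conjTranspose_eq_transpose_of_trivial] using
        Matrix.posSemidef_conjTranspose_mul_self (N.map (Int.cast : ℤ → ℝ)) :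
          ((N.map (Int.cast : ℤ → ℝ))ᵀ * N.map (Int.cast : ℤ → ℝ)).PosSemidef).det_nonneg
    exact_mod_cast h
  have hGle : G.det ≤ p := by
    obtain ⟨e, he⟩ := hKdvd
    have hprod : G.det * K.det = (p : ℤ) ^ Fintype.card (Fin m) := by
      rw [← Matrix.det_mul, hGK, Matrix.det_smul, Matrix.det_one, mul_one]
    rcases Nat.eq_zero_or_pos m with hm | hm
    · have : IsEmpty (Fin m) := by rw [hm]; infer_instance
      rw [Matrix.det_isEmpty]; omega
    rw [he, ← mul_assoc, mul_comm G.det, mul_assoc, Fintype.card_fin] at hprod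
    have h2 : G.det * e = p := by
      refine mul_left_cancel₀ (pow_ne_zero (m - 1) hpos.ne') ?_
      rw [hprod, ← pow_succ, Nat.sub_add_cancel hm]
    have he0 : 0 < e := by
      by_contra hle
      push Not at hle
      nlinarith [mul_nonpos_of_nonneg_of_nonpos hGnn hle]
    nlinarith
  -- the bordered Gram matrix
  set Ac : Matrix n Unit ℤ := Matrix.of fun i _ => a i with hAc
  set A := Matrix.fromCols N Ac with hA
  have hAA : Aᵀ * A = Matrix.fromBlocks G (Nᵀ * Ac) (Acᵀ * N) (Acᵀ * Ac) := by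
    rw [hA, Matrix.transpose_fromCols, Matrix.fromRows_mul_fromCols]
  set q : ℤ := dotProduct a (c *ᵥ a) with hq
  have hborder : (p : ℤ) * (Aᵀ * A).det = G.det * q := by
    set U : Matrix (Fin m ⊕ Unit) (Fin m ⊕ Unit) ℤ :=
      Matrix.fromBlocks 1 (-(K * (Nᵀ * Ac))) 0 ((p : ℤ) • 1) with hU
    have hmul : Aᵀ * A * U = Matrix.fromBlocks G 0 (Acᵀ * N) (Acᵀ * c * Ac) := by
      rw [hAA, hU, Matrix.fromBlocks_multiply]
      congr 1
      · simp
      · rw [Matrix.mul_neg, ← Matrix.mul_assoc G K, hGK, Matrix.smul_mul, Matrix.one_mul,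
          Matrix.mul_smul, Matrix.mul_one, neg_add_cancel]
      · simp
      · rw [Matrix.mul_neg, Matrix.mul_smul, Matrix.mul_one]
        have : Acᵀ * N * (K * (Nᵀ * Ac)) = Acᵀ * P * Ac := by
          rw [← hNKN]; simp only [Matrix.mul_assoc]
        rw [this, hP, Matrix.mul_sub, Matrix.sub_mul, Matrix.mul_smul, Matrix.mul_one, Matrix.smul_mul]
        abel
    have h := congrArg Matrix.det hmul
    rw [Matrix.det_mul, hU, Matrix.det_fromBlocks_zero₂₁, Matrix.det_fromBlocks_zero₁₂, Matrix.det_one,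
      one_mul, Matrix.det_smul, Matrix.det_one, Matrix.det_unique (Acᵀ * c * Ac)] at h
    rw [mul_comm (p : ℤ), ← show (Acᵀ * c * Ac) default default = q by
      simp [hq, hAc, Matrix.mul_apply, dotProduct, Matrix.mulVec, Finset.mul_sum, Finset.sum_mul,
        mul_assoc]
      rw [Finset.sum_comm]]
    simpa using h
  have hqt : ∑ i, (c *ᵥ a) i ^ 2 = (p : ℤ) * q := by
    calc ∑ i, (c *ᵥ a) i ^ 2 = dotProduct (c *ᵥ a) (c *ᵥ a) := by simp [dotProduct, pow_two]
      _ = dotProduct a (cᵀ *ᵥ (c *ᵥ a)) := by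
          rw [Matrix.dotProduct_mulVec a, Matrix.vecMul_transpose]
      _ = _ := by rw [hsym, Matrix.mulVec_mulVec, hsq, Matrix.smul_mulVec, dotProduct_smul, smul_eq_mul]
  have hq0 : 0 ≤ q := by
    have h := Finset.sum_nonneg (s := Finset.univ) fun i (_ : i ∈ (Finset.univ : Finset n)) =>
      sq_nonneg ((c *ᵥ a) i)
    rw [hqt] at h
    exact nonneg_of_mul_nonneg_right h hpos
  -- injectivity and rows
  have hinj : Function.Injective (A.map (Int.cast : ℤ → ℝ)).mulVec := by
    set φ := Int.castRingHom ℝ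
    intro v v' hv
    rw [← sub_eq_zero, ← Matrix.mulVec_sub] at hv
    refine sub_eq_zero.1 ?_
    generalize v - v' = z at hv
    rw [hA, Matrix.fromCols_map, ← Sum.elim_comp_inl_inr z, Matrix.fromCols_mulVec_sumElim] at hv
    have h1 := congrArg (fun y => (c.map φ) *ᵥ y) hv
    simp only [Matrix.mulVec_add, Matrix.mulVec_mulVec, Matrix.mulVec_zero] at h1
    rw [show (c.map φ) * N.map (Int.cast : ℤ → ℝ) = 0 by
      rw [show (c.map φ) * N.map (Int.cast : ℤ → ℝ) = (c * N).map φ from Matrix.map_mul.symm, hcN]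
      simp, Matrix.zero_mulVec, zero_add] at h1
    have hz : (z ∘ Sum.inr) () = 0 := by
      obtain ⟨i, hi⟩ := Function.ne_iff.1 ha
      have h2 := congrFun h1 i
      rw [show (c.map φ) * Ac.map (Int.cast : ℤ → ℝ) = (c * Ac).map φ from Matrix.map_mul.symm] at h2
      simp only [Matrix.mulVec, dotProduct, Pi.zero_apply, Finset.univ_unique, Finset.sum_singleton] at h2
      refine (mul_eq_zero.1 h2).resolve_left ?_
      simp only [Matrix.map_apply, Matrix.mul_apply, hAc, Matrix.of_apply, ne_eq]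
      rw [map_eq_zero_iff φ Int.cast_injective]
      exact hi
    have hz' : z ∘ Sum.inr = 0 := funext fun j => hz
    rw [hz', Matrix.mulVec_zero, add_zero] at hv
    have h3 := congrArg (fun y => (R.map φ) *ᵥ y) hv
    simp only [Matrix.mulVec_mulVec, Matrix.mulVec_zero] at h3
    rw [show (R.map φ) * N.map (Int.cast : ℤ → ℝ) = 1 by
      rw [show (R.map φ) * N.map (Int.cast : ℤ → ℝ) = (R * N).map φ from Matrix.map_mul.symm, hRN]
      simp, Matrix.one_mulVec] at h3
    funext j
    cases j with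
    | inl j => exact congrFun h3 j
    | inr j => exact congrFun hz' j
  have hrow : ∀ i, A i ≠ 0 := by
    intro i h
    refine hdiag i ?_
    have hN0 : ∀ k, N i k = 0 := fun k => congrFun h (Sum.inl k)
    have : P i i = 0 := by
      rw [← hNRP, Matrix.mul_apply]
      simp [hN0]
    rw [hP, Matrix.sub_apply, Matrix.smul_apply, Matrix.one_apply_eq, smul_eq_mul, mul_one,
      sub_eq_zero] at this
    exact this ▸ dvd_rfl
  have hgram := card_le_gram_det A hinj hrow
  rw [Fintype.card_sum, Fintype.card_fin, Fintype.card_unit] at hgram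
  push_cast at hgram
  -- the trace
  have htr : c.trace = (p : ℤ) * ((Fintype.card n : ℤ) - m) := by
    have h1 : P.trace = (p : ℤ) * m := by
      rw [← hNRP, Matrix.trace_mul_comm, Matrix.mul_assoc, hPN, Matrix.mul_smul, hRN,
        Matrix.trace_smul, Matrix.trace_one, Fintype.card_fin, smul_eq_mul]
    rw [hP, Matrix.trace_sub, Matrix.trace_smul, Matrix.trace_one, smul_eq_mul] at h1
    linarith
  rw [htr, hqt]
  have h4 : (Fintype.card n : ℤ) - m ≤ (Aᵀ * A).det := by linarith
  calc (p : ℤ) * ((Fintype.card n : ℤ) - m) ≤ (p : ℤ) * (Aᵀ * A).det :=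
        mul_le_mul_of_nonneg_left h4 hpos.le
    _ = G.det * q := hborder
    _ ≤ p * q := mul_le_mul_of_nonneg_right hGle hq0

end Cfsg.Agent.LatticeProjBound38
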