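import Cfsg.Agent.Lib.BlockMajorLattice82
import Cfsg.Agent.Lib.BlockContribQuot
import Cfsg.Agent.Lib.BlockQuotient78
import Cfsg.Agent.Lib.LatticeProjBound38
import Cfsg.Agent.S4667

/-!
The members of a block that are trivial on a central element of order `p`: their part of the
contribution matrix is again an idempotent up to a power of `p`. Consequences: the regular rank is at
most their number, and `k(B) ≤ p ^ 2` for a block of defect two with all heights zero.
-/

set_option autoImplicit false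

namespace Cfsg.Agent.BlockCentralSlice38

open Cfsg Cfsg.Agent.BlockTheoryLocalRing Cfsg.Agent.BlockTheoryCentre Cfsg.Agent.BlockTheoryIdem
open Cfsg.Agent.BlockTheoryBrauer
open Cfsg.Agent.BlockContrib Cfsg.Agent.BlockContribBounds Cfsg.Agent.BlockMajorLattice82
open scoped ComplexConjugate

attribute [local instance] Classical.propDecidable

set_option linter.unusedSectionVars false

variable {p : ℕ} [Fact p.Prime] {M : Ideal AlgInt}

section Slice

variable {G : Type*} [Group G] [Fintype G] {H : Subgroup G} {b : Set (IrrCharacter H)} {z : H}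

/-- The members trivial on `z`. -/
noncomputable def slice (b : Set (IrrCharacter H)) (z : H) : Finset (IrrCharacter H) :=
  (members b).filter fun ξ => S4716.lam z ξ = 1

theorem mem_slice {ξ : IrrCharacter H} : ξ ∈ slice b z ↔ ξ ∈ b ∧ S4716.lam z ξ = 1 := by
  rw [slice, Finset.mem_filter, mem_members]

theorem lam_pow_p (hzc : z ∈ Subgroup.center H) (hzo : orderOf z = p) (ξ : IrrCharacter H) :
    S4716.lam z ξ ^ p = 1 := by
  rw [← S4716.lam_pow hzc, ← hzo, pow_orderOf_eq_one, S4716.lam, div_self (irr_one_ne_zero ξ)]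

/-- On the regular elements the members trivial on `z` carry a `p`-th of the block. -/
theorem sum_slice (hM : IsPModular p M) (hb : IsPBlock M b) (hzc : z ∈ Subgroup.center H)
    (hzo : orderOf z = p) {g h : H} (hg : ¬ p ∣ orderOf g) (hh : ¬ p ∣ orderOf h) :
    (p : ℂ) * ∑ ξ ∈ slice b z, (ξ : H → ℂ) g * conj ((ξ : H → ℂ) h) =
      ∑ ξ ∈ members b, (ξ : H → ℂ) g * conj ((ξ : H → ℂ) h) := by
  have hp := hM.1
  have hgeo : ∀ ξ : IrrCharacter H, ∑ s ∈ Finset.range p, conj (S4716.lam z ξ ^ s) =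
      if S4716.lam z ξ = 1 then (p : ℂ) else 0 := by
    intro ξ
    split_ifs with h1
    · simp [h1]
    · simp only [map_pow]
      rw [geom_sum_eq (fun h2 => h1 (by simpa using congrArg conj h2)), ← map_pow,
        lam_pow_p hzc hzo, map_one, sub_self, zero_div]
  have hsing : ∀ s ∈ Finset.range p, s ≠ 0 →
      ∑ ξ ∈ members b, (ξ : H → ℂ) g * conj ((ξ : H → ℂ) (z ^ s * h)) = 0 := by
    intro s hs hs0
    rw [← filter_eq_members, Finset.sum_filter]
    refine weak_orthogonality hM hb hg ?_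
    have hsp : ¬ p ∣ s := fun hd =>
      absurd (Finset.mem_range.1 hs) (not_lt.2 (Nat.le_of_dvd (Nat.pos_of_ne_zero hs0) hd))
    have ho : orderOf (z ^ s) = p := by
      rw [Nat.Coprime.orderOf_pow (by rw [hzo]; exact hp.coprime_iff_not_dvd.2 hsp), hzo]
    have hc : Commute (z ^ s) h :=
      ((Subgroup.mem_center_iff.1 (pow_mem hzc s) h).symm : _)
    rw [hc.orderOf_mul_eq_mul_orderOf_of_coprime (by rw [ho]; exact hp.coprime_iff_not_dvd.2 hh), ho]
    exact dvd_mul_right _ _
  symm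
  calc ∑ ξ ∈ members b, (ξ : H → ℂ) g * conj ((ξ : H → ℂ) h)
      = ∑ s ∈ Finset.range p, ∑ ξ ∈ members b, (ξ : H → ℂ) g * conj ((ξ : H → ℂ) (z ^ s * h)) := by
        rw [Finset.sum_eq_single_of_mem 0 (Finset.mem_range.2 hp.pos) hsing]
        simp
    _ = ∑ ξ ∈ members b, if S4716.lam z ξ = 1 then (p : ℂ) * ((ξ : H → ℂ) g * conj ((ξ : H → ℂ) h)) else 0 := by
        rw [Finset.sum_comm]
        refine Finset.sum_congr rfl fun ξ _ => ?_
        simp only [S4716.lam_mul (pow_mem hzc _), S4716.lam_pow hzc, map_mul]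
        rw [Finset.sum_congr rfl (g := fun s => conj (S4716.lam z ξ ^ s) *
          ((ξ : H → ℂ) g * conj ((ξ : H → ℂ) h))) fun s _ => by ring, ← Finset.sum_mul, hgeo]
        split_ifs <;> simp
    _ = _ := by
        rw [slice, Finset.sum_filter, Finset.mul_sum]
        refine Finset.sum_congr rfl fun ξ _ => ?_
        split_ifs <;> simp

theorem slice_nonempty (hM : IsPModular p M) (hb : IsPBlock M b) (hzc : z ∈ Subgroup.center H)
    (hzo : orderOf z = p) : (slice b z).Nonempty := by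
  have h1 : ¬ p ∣ orderOf (1 : H) := by rw [orderOf_one]; exact hM.1.not_dvd_one
  by_contra he
  rw [Finset.not_nonempty_iff_eq_empty] at he
  have h := sum_slice hM hb hzc hzo h1 h1
  rw [he, Finset.sum_empty, mul_zero] at h
  obtain ⟨ξ, hξ⟩ := block_nonempty hM hb
  have hre := congrArg Complex.re h
  rw [Complex.re_sum, Complex.zero_re] at hre
  have := (Finset.sum_eq_zero_iff_of_nonneg fun i _ => by
    rw [Complex.mul_conj, Complex.ofReal_re]; exact Complex.normSq_nonneg _).1 hre.symm ξ (mem_members.2 hξ)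
  rw [Complex.mul_conj, Complex.ofReal_re, Complex.normSq_eq_zero] at this
  exact irr_one_ne_zero ξ this

theorem mul_sum_pair (hM : IsPModular p M) (hb : IsPBlock M b) (hzc : z ∈ Subgroup.center H)
    (hzo : orderOf z = p) (φ ψ : IrrCharacter H) :
    (p : ℂ) * ∑ ξ ∈ slice b z, pair p (φ : H → ℂ) ξ * pair p (ξ : H → ℂ) ψ =
      ∑ ξ ∈ members b, pair p (φ : H → ℂ) ξ * pair p (ξ : H → ℂ) ψ := by
  have hexp : ∀ T : Finset (IrrCharacter H), ∑ ξ ∈ T, pair p (φ : H → ℂ) ξ * pair p (ξ : H → ℂ) ψ =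
      ∑ a : H, ∑ c : H, if ¬ p ∣ orderOf a ∧ ¬ p ∣ orderOf c then
        conj ((φ : H → ℂ) a) * (ψ : H → ℂ) c * ∑ ξ ∈ T, (ξ : H → ℂ) a * conj ((ξ : H → ℂ) c) else 0 := by
    intro T
    simp only [pair, regSum_eq, Finset.sum_mul_sum]
    rw [Finset.sum_comm]
    refine Finset.sum_congr rfl fun a _ => ?_
    rw [Finset.sum_comm]
    refine Finset.sum_congr rfl fun c _ => ?_
    by_cases ha : p ∣ orderOf a
    · simp [ha]
    by_cases hc : p ∣ orderOf c
    · simp [hc]
    simp only [if_pos (And.intro ha hc), if_pos ha, if_pos hc, Finset.mul_sum]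
    exact Finset.sum_congr rfl fun ξ _ => by ring
  rw [hexp, hexp, Finset.mul_sum]
  refine Finset.sum_congr rfl fun a _ => ?_
  rw [Finset.mul_sum]
  refine Finset.sum_congr rfl fun c _ => ?_
  split_ifs with h
  · rw [← sum_slice hM hb hzc hzo h.1 h.2]; ring
  · simp

theorem mul_sum_contrib (hM : IsPModular p M) (hb : IsPBlock M b) (hzc : z ∈ Subgroup.center H)
    (hzo : orderOf z = p) {φ ψ : IrrCharacter H} (hφ : φ ∈ b) (hψ : ψ ∈ b) :
    (p : ℤ) * ∑ ξ ∈ slice b z, contrib p b φ ξ * contrib p b ξ ψ =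
      (p : ℤ) ^ blockDefect p b * contrib p b φ ψ := by
  rw [← sum_contrib_mul hM hb hφ hψ, filter_eq_members]
  have h := mul_sum_pair hM hb hzc hzo φ ψ
  have hs := scale_ne_zero (G := H) hM.1 b
  set s : ℂ := (cofactor p H : ℂ) * (p : ℂ) ^ minExp p b
  have hterm : ∀ T : Finset (IrrCharacter H), T ⊆ members b →
      ∑ ξ ∈ T, pair p (φ : H → ℂ) ξ * pair p (ξ : H → ℂ) ψ =
        s * s * ((∑ ξ ∈ T, contrib p b φ ξ * contrib p b ξ ψ : ℤ) : ℂ) := by
    intro T hT
    rw [Int.cast_sum, Finset.mul_sum]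
    refine Finset.sum_congr rfl fun ξ hξ => ?_
    rw [pair_eq_contrib hM.1 φ (mem_members.1 (hT hξ)), pair_eq_contrib hM.1 ξ hψ]
    push_cast
    ring
  rw [hterm _ (show slice b z ⊆ members b from Finset.filter_subset _ _), hterm _ subset_rfl, ← mul_assoc, mul_comm (p : ℂ),
    mul_assoc (s * s)] at h
  exact_mod_cast mul_left_cancel₀ (mul_ne_zero hs hs) h

/-- The regular rank is at most the number of members trivial on `z`. -/
theorem rank_le (hM : IsPModular p M) (hb : IsPBlock M b) (hzc : z ∈ Subgroup.center H)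
    (hzo : orderOf z = p) : blockRank p b ≤ (slice b z).card := by
  have hp := hM.1
  set s : ℂ := (cofactor p H : ℂ) * (p : ℂ) ^ minExp p b with hs
  set d := blockDefect p b with hd
  have hH : (Nat.card H : ℂ) = s * (p : ℂ) ^ d := by
    have h := pow_mul_cofactor (G := H) p
    rw [← minExp_add_defect hM hb, pow_add] at h
    rw [hs, ← h]; push_cast; ring
  have hkey : (Nat.card H : ℂ) * (blockRank p b : ℂ) =
      s * (((p : ℤ) * ∑ φ ∈ slice b z, contrib p b φ φ : ℤ) : ℂ) := by
    rw [S4667.result p M hM b hb]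
    calc ∑ x : H, ∑ᶠ χ ∈ b, pRegularPart p (χ : H → ℂ) x * (χ : H → ℂ) x⁻¹
        = ∑ x : H, if ¬ p ∣ orderOf x then
            (p : ℂ) * ∑ ξ ∈ slice b z, (ξ : H → ℂ) x * conj ((ξ : H → ℂ) x) else 0 := by
          refine Finset.sum_congr rfl fun x _ => ?_
          rw [finsum_eq_members]
          by_cases hx : p ∣ orderOf x
          · rw [if_neg (not_not.2 hx)]
            exact Finset.sum_eq_zero fun ξ _ => by
              simp [Cfsg.pRegularPart, Cfsg.IsPRegular, hx]
          · rw [if_pos hx, sum_slice hM hb hzc hzo hx hx]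
            exact Finset.sum_congr rfl fun ξ _ => by
              rw [irr_inv]; simp [Cfsg.pRegularPart, Cfsg.IsPRegular, hx]
      _ = ∑ ξ ∈ slice b z, (p : ℂ) * pair p (ξ : H → ℂ) ξ := by
          simp only [pair, regSum_eq, Finset.mul_sum]
          rw [Finset.sum_comm]
          refine Finset.sum_congr rfl fun x _ => ?_
          by_cases hx : p ∣ orderOf x
          · simp [hx]
          · simp only [if_pos hx]
            exact Finset.sum_congr rfl fun ξ _ => by ring
      _ = _ := by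
          push_cast
          rw [Finset.mul_sum, Finset.mul_sum]
          refine Finset.sum_congr rfl fun ξ hξ => ?_
          rw [pair_eq_contrib hp ξ (mem_slice.1 hξ).1, ← hs]; ring
  rw [hH, mul_assoc] at hkey
  have heq : (p : ℤ) ^ d * (blockRank p b : ℤ) = (p : ℤ) * ∑ φ ∈ slice b z, contrib p b φ φ := by
    exact_mod_cast mul_left_cancel₀ (scale_ne_zero (G := H) hp b) hkey
  have hle : ∀ φ ∈ slice b z, (p : ℤ) * contrib p b φ φ ≤ (p : ℤ) ^ d := by
    intro φ hφ
    have hφb := (mem_slice.1 hφ).1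
    have hc := contrib_self_pos hp hφb
    refine le_of_mul_le_mul_right ?_ hc
    rw [← mul_sum_contrib hM hb hzc hzo hφb hφb, mul_assoc]
    refine mul_le_mul_of_nonneg_left ?_ (by positivity)
    refine Finset.single_le_sum (f := fun ξ => contrib p b φ ξ * contrib p b ξ φ) (fun ξ hξ => ?_) hφ
    show 0 ≤ contrib p b φ ξ * contrib p b ξ φ
    rw [contrib_comm hp (mem_slice.1 hξ).1 hφb]
    exact mul_self_nonneg _
  have : (p : ℤ) ^ d * (blockRank p b : ℤ) ≤ (p : ℤ) ^ d * ((slice b z).card : ℤ) := by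
    rw [heq, Finset.mul_sum, mul_comm ((p : ℤ) ^ d), ← nsmul_eq_mul]
    exact Finset.sum_le_card_nsmul _ _ _ hle
  exact_mod_cast le_of_mul_le_mul_left this (pow_pos (by exact_mod_cast hp.pos) _)

/-- The members trivial on `z` lie in one block of the quotient, of smaller defect. -/
theorem exists_quotient_block (hM : IsPModular p M) (hb : IsPBlock M b)
    (hzc : z ∈ Subgroup.center H) (hzo : orderOf z = p) [(Subgroup.zpowers z).Normal] :
    ∃ B' : Set (IrrCharacter (H ⧸ Subgroup.zpowers z)), IsPBlock M B' ∧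
      blockDefect p B' + 1 ≤ blockDefect p b ∧ (slice b z).card ≤ Nat.card B' := by
  set W := Subgroup.zpowers z
  have hWc : W ≤ Subgroup.center H := Subgroup.zpowers_le.2 hzc
  have hWcard : Nat.card W = p := by rw [Nat.card_zpowers, hzo]
  have hWp : IsPGroup p W := IsPGroup.of_card (n := 1) (by rw [hWcard, pow_one])
  have hex : ∀ ξ : slice b z, ∃ χ : IrrCharacter (H ⧸ W), BlockContribQuot.infl W χ = ξ.1 := by
    rintro ⟨ξ, hξ⟩
    have htriv : ∀ u ∈ W, (ξ : H → ℂ) u = (ξ : H → ℂ) 1 := by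
      intro u hu
      have : Finite H := inferInstance
      obtain ⟨i, rfl⟩ := (isOfFinOrder_of_finite z).mem_powers_iff_mem_zpowers.2 hu
      have h := S4716.lam_pow hzc ξ i
      rw [(mem_slice.1 hξ).2, one_pow, S4716.lam, div_eq_one_iff_eq (irr_one_ne_zero ξ)] at h
      exact h
    obtain ⟨χ, hχ⟩ := CharKernel.exists_quot_irr W ξ htriv
    exact ⟨χ, Subtype.ext (funext fun g => (hχ g).symm)⟩
  choose f hf using hex
  obtain ⟨ξ₀, hξ₀⟩ := slice_nonempty hM hb hzc hzo
  set χ₀ := f ⟨ξ₀, hξ₀⟩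
  set B' := blockOf M (χ₀ : H ⧸ W → ℂ)
  have hB' : IsPBlock M B' := isPBlock_blockOf χ₀
  have hup : ∀ χ ∈ B', BlockContribQuot.infl W χ ∈ b := by
    intro χ hχ
    have h0 : BlockContribQuot.infl W χ₀ ∈ b := by rw [hf]; exact (mem_slice.1 hξ₀).1
    refine BlockTheoryIdem.mem_of_sameBlock hM hb h0 ?_
    have e : ∀ η : IrrCharacter (H ⧸ W), BlockContribQuot.infl W η = BlockQuotient78.infl W η :=
      fun η => Subtype.ext (funext fun g => (BlockQuotient78.infl_apply W η g).symm)
    rw [e, e]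
    exact BlockQuotient78.sameBlock_infl W hM
      (sameBlock_of_mem hM hB' (self_mem_blockOf hM χ₀) hχ)
  refine ⟨B', hB', ?_, ?_⟩
  · obtain ⟨χ, hχ, hχ0⟩ := exists_height_zero hM hB'
    have hdeg : charDegree (BlockContribQuot.infl W χ : H → ℂ) = charDegree (χ : H ⧸ W → ℂ) := by
      simp [charDegree, BlockContribQuot.infl_apply]
    have h1 := minExp_le (p := p) (hup χ hχ)
    rw [hdeg, exp_eq_add (p := p) hχ, hχ0, add_zero] at h1
    have hcard : (Nat.card H).factorization p = (Nat.card (H ⧸ W)).factorization p + 1 := by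
      rw [Subgroup.card_eq_card_quotient_mul_card_subgroup W, hWcard,
        Nat.factorization_mul Nat.card_pos.ne' hM.1.ne_zero, Finsupp.add_apply, hM.1.factorization_self]
    have h2 := minExp_add_defect hM hB'
    have h3 := minExp_add_defect hM hb
    simp only [W] at *
    omega
  · rw [card_members B']
    refine Finset.card_le_card_of_injOn (fun ξ => if h : ξ ∈ slice b z then f ⟨ξ, h⟩ else χ₀)
      (fun ξ hξ => ?_) (fun ξ hξ η hη h => ?_)
    · simp only [Finset.mem_coe, mem_members]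
      rw [dif_pos (Finset.mem_coe.1 hξ)]
      refine mem_of_sameBlock hM hB' (self_mem_blockOf hM χ₀) ?_
      refine BlockContribQuot.sameBlock_of_infl W hWc hWp hM ?_
      rw [hf, hf]
      exact sameBlock_of_mem hM hb (mem_slice.1 hξ₀).1 (mem_slice.1 (Finset.mem_coe.1 hξ)).1
    · dsimp only at h
      rw [dif_pos (Finset.mem_coe.1 hξ), dif_pos (Finset.mem_coe.1 hη)] at h
      have := congrArg (BlockContribQuot.infl W) h
      rwa [hf, hf] at this

end Slice

theorem sum_range_normSq {ζ : ℂ} (hζ : IsPrimitiveRoot ζ p) (y : ℕ → ℤ) :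
    ∑ s ∈ Finset.range p, Complex.normSq (∑ j ∈ Finset.range p, (y j : ℂ) * ζ ^ (j * s)) =
      (p : ℝ) * ∑ j ∈ Finset.range p, (y j : ℝ) ^ 2 := by
  have hp : p.Prime := Fact.out
  have hnorm : conj ζ * ζ = 1 := by
    rw [mul_comm, Complex.mul_conj]
    have : Complex.normSq ζ = 1 := by
      rw [Complex.normSq_eq_norm_sq, hζ.norm'_eq_one hp.ne_zero, one_pow]
    rw [this, Complex.ofReal_one]
  have hgeo : ∀ j l, j < p → l < p → ∑ s ∈ Finset.range p, ζ ^ (j * s) * conj (ζ ^ (l * s)) =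
      if j = l then (p : ℂ) else 0 := by
    intro j l hj hl
    have e : ∀ s, ζ ^ (j * s) * conj (ζ ^ (l * s)) = (ζ ^ j * conj (ζ ^ l)) ^ s := fun s => by
      rw [mul_pow, ← map_pow, ← pow_mul, ← pow_mul]
    simp only [e]
    split_ifs with hjl
    · subst hjl
      rw [map_pow, ← mul_pow, mul_comm ζ, hnorm]
      simp
    · have hne : ζ ^ j * conj (ζ ^ l) ≠ 1 := fun h => hjl (hζ.pow_inj hj hl (by
        have h2 := congrArg (· * ζ ^ l) h
        simp only [one_mul, mul_assoc, map_pow] at h2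
        rwa [← mul_pow, hnorm, one_pow, mul_one] at h2))
      rw [geom_sum_eq hne, mul_pow, ← map_pow, ← pow_mul, ← pow_mul, mul_comm j, mul_comm l, pow_mul,
        pow_mul, hζ.pow_eq_one, one_pow, one_pow, map_one, one_mul, sub_self, zero_div]
  apply Complex.ofReal_injective
  push_cast
  simp only [← Complex.mul_conj, map_sum, map_mul, map_intCast, Finset.sum_mul_sum]
  rw [Finset.sum_comm, Finset.mul_sum]
  refine Finset.sum_congr rfl fun j hj => ?_
  rw [Finset.sum_comm]
  rw [Finset.sum_congr rfl (g := fun l => (y j : ℂ) * (y l : ℂ) *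
    if j = l then (p : ℂ) else 0) fun l hl => by
      rw [← hgeo j l (Finset.mem_range.1 hj) (Finset.mem_range.1 hl), Finset.mul_sum]
      exact Finset.sum_congr rfl fun s _ => by rw [map_pow]; ring]
  simp only [mul_ite, mul_zero, Finset.sum_ite_eq, if_pos hj]
  ring

theorem sum_pair_sq (y : ℕ → ℤ) :
    ∑ j ∈ Finset.range p, ∑ l ∈ Finset.range p, (y j - y l) ^ 2 =
      2 * ((p : ℤ) * ∑ j ∈ Finset.range p, y j ^ 2 - (∑ j ∈ Finset.range p, y j) ^ 2) := by
  rw [Finset.sum_congr rfl fun j _ => Finset.sum_congr rfl (g := fun l => y j ^ 2 + y l ^ 2 - 2 * (y j * y l))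
    fun l _ => by ring]
  simp only [Finset.sum_sub_distrib, Finset.sum_add_distrib, Finset.sum_const, Finset.card_range,
    nsmul_eq_mul, ← Finset.mul_sum, pow_two (∑ j ∈ Finset.range p, y j), Finset.sum_mul]
  ring

/-- A symmetric kernel that is large between two points and every other one. -/
theorem two_mul_le_sum {ι : Type*} (S : Finset ι) (f : ι → ι → ℤ) (T : ℤ) (hsymm : ∀ i j, f i j = f j i)
    (h0 : ∀ i j, 0 ≤ f i j) {a c : ι} (ha : a ∈ S) (hc : c ∈ S) (hac : a ≠ c)
    (hT : ∀ l ∈ S, T ≤ f a l + f c l) :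
    2 * ((S.card : ℤ) - 1) * T ≤ ∑ j ∈ S, ∑ l ∈ S, f j l := by
  have hsub : ({a, c} : Finset ι) ⊆ S := Finset.insert_subset ha (Finset.singleton_subset_iff.2 hc)
  rw [← Finset.sum_sdiff hsub, Finset.sum_pair hac, ← Finset.sum_add_distrib]
  have h1 : (S.card : ℤ) * T ≤ ∑ l ∈ S, (f a l + f c l) := by
    simpa [mul_comm] using Finset.card_nsmul_le_sum S _ T hT
  have h2 : ((S \ {a, c}).card : ℤ) * T ≤ ∑ j ∈ S \ {a, c}, ∑ l ∈ S, f j l := by
    have := Finset.card_nsmul_le_sum (S \ {a, c}) (fun j => ∑ l ∈ S, f j l) T fun j hj => by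
      refine (hT j (Finset.mem_sdiff.1 hj).1).trans ?_
      rw [hsymm a, hsymm c, ← Finset.sum_pair hac]
      exact Finset.sum_le_sum_of_subset_of_nonneg hsub fun l _ _ => h0 j l
    simpa [mul_comm] using this
  rw [Finset.card_sdiff_of_subset hsub, Finset.card_pair hac] at h2
  have h2' : 2 ≤ S.card := Finset.card_pair hac ▸ Finset.card_le_card hsub
  push_cast [Nat.cast_sub h2'] at h2
  linarith

section Main

variable {G : Type*} [Group G] [Fintype G] {u : G} {H : Subgroup G}

/-- `k(B) ≤ p ^ 2` at a major subsection of defect two with all heights zero. -/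
theorem card_le_sq (hM : IsPModular p M) (hu : orderOf u = p) (hH : ∀ g, g ∈ H ↔ Commute u g)
    {b : Set (IrrCharacter H)} {B : Set (IrrCharacter G)} (hind : IsInducedBlock M H b B)
    (hd : blockDefect p b = blockDefect p B) (hd2 : blockDefect p b = 2)
    (hh : ∀ φ ∈ b, blockHeight p b (φ : H → ℂ) = 0) : Nat.card B ≤ p ^ 2 := by
  have hp := hM.1
  have hu' : ∃ k, orderOf u = p ^ k := ⟨1, by rw [hu, pow_one]⟩
  set z : H := ⟨u, (hH u).2 (Commute.refl u)⟩ with hz
  have hzc : z ∈ Subgroup.center H :=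
    Subgroup.mem_center_iff.2 fun g => Subtype.ext ((hH g).1 g.2).eq.symm
  have hzo : orderOf z = p := by rw [← Subgroup.orderOf_coe]; exact hu
  have hb := hind.1
  set S := slice b z
  set c : Matrix S S ℤ := Matrix.of fun φ ψ => contrib p b φ ψ with hc
  have hmem : ∀ φ : S, φ.1 ∈ b := fun φ => (mem_slice.1 φ.2).1
  have hdiag : ∀ φ : S, ¬ (p : ℤ) ∣ c φ φ := fun φ => by
    have h := contrib_not_dvd hM hb (hmem φ) (hh _ (hmem φ)) (hmem φ)
    rwa [hh _ (hmem φ), zero_add, pow_one] at h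
  have hsym : c.transpose = c := by
    ext φ ψ; exact contrib_comm hp (hmem ψ) (hmem φ)
  have hrow : ∀ (φ : S) {ψ : IrrCharacter H}, ψ ∈ b →
      ∑ ξ : S, c φ ξ * contrib p b ξ ψ = (p : ℤ) * contrib p b φ ψ := by
    intro φ ψ hψ
    have h := mul_sum_contrib hM hb hzc hzo (hmem φ) hψ
    rw [hd2, pow_two, mul_assoc] at h
    rw [← mul_left_cancel₀ (by exact_mod_cast hp.ne_zero) h]
    exact Finset.sum_coe_sort S (fun ξ => contrib p b φ ξ * contrib p b ξ ψ)
  have hsq : c * c = (p : ℤ) • c := by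
    ext φ ψ; exact hrow φ (hmem ψ)
  obtain ⟨φ₀, hφ₀⟩ := slice_nonempty hM hb hzc hzo
  set i₀ : S := ⟨φ₀, hφ₀⟩
  have hpz : Prime (p : ℤ) := Nat.prime_iff_prime_int.1 hp
  -- congruences
  have hcong : ∀ (φ : S) {ψ : IrrCharacter H}, ψ ∈ b →
      (p : ℤ) ∣ contrib p b φ₀ φ₀ * contrib p b φ ψ - contrib p b φ φ₀ * contrib p b φ₀ ψ := by
    intro φ ψ hψ
    set v : IrrCharacter H → ℤ :=
      contrib p b φ₀ φ₀ • col p b ψ - contrib p b φ₀ ψ • col p b φ₀ with hv
    have hvl : v ∈ lat p b :=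
      sub_mem (Submodule.smul_mem _ _ (col_mem hψ)) (Submodule.smul_mem _ _ (col_mem (hmem i₀)))
    have h0 : v φ₀ = 0 := by
      have h0b : φ₀ ∈ b := hmem i₀
      simp only [hv, Pi.sub_apply, Pi.smul_apply, smul_eq_mul, col, if_pos h0b]
      rw [contrib_comm hp hψ h0b]; ring
    have h := coord_congr hM hb (hmem i₀) (hh _ (hmem i₀)) (hmem φ) hvl (h0 ▸ dvd_zero _)
    simp only [hv, Pi.sub_apply, Pi.smul_apply, smul_eq_mul, col, if_pos (hmem φ)] at h
    rw [contrib_comm hp hψ (hmem φ), contrib_comm hp (hmem i₀) (hmem φ)] at h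
    rw [mul_comm (contrib p b φ φ₀)]
    exact h
  have hrk : ∀ i j k l : S, (p : ℤ) ∣ c i j * c k l - c i l * c k j := by
    intro i j k l
    have hA := hcong i (hmem j)
    have hB := hcong k (hmem l)
    have hC := hcong i (hmem l)
    have hD := hcong k (hmem j)
    set e := contrib p b φ₀ φ₀
    set a := fun x : S => contrib p b x φ₀
    set r := fun x : S => contrib p b φ₀ x
    have key : (p : ℤ) ∣ e * e * (c i j * c k l - c i l * c k j) := by
      have : e * e * (c i j * c k l - c i l * c k j) =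
          (e * c i j - a i * r j) * (e * c k l) + (a i * r j) * (e * c k l - a k * r l) -
          ((e * c i l - a i * r l) * (e * c k j) + (a i * r l) * (e * c k j - a k * r j)) := by ring
      rw [this]
      exact dvd_sub (dvd_add (hA.mul_right _) (hB.mul_left _)) (dvd_add (hC.mul_right _) (hD.mul_left _))
    rcases hpz.dvd_mul.1 key with h | h
    · exact absurd ((hpz.dvd_mul.1 h).elim id id) (hdiag i₀)
    · exact h
  set T := c.trace with hT
  have hTpos : 0 < T := by
    refine lt_of_lt_of_le (contrib_self_pos hp (hmem i₀)) ?_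
    exact Finset.single_le_sum (f := fun φ : S => contrib p b φ φ)
      (fun φ _ => (contrib_self_pos hp (hmem φ)).le) (Finset.mem_univ i₀)
  -- the roots
  obtain ⟨ζ, hζ⟩ : ∃ ζ : ℂ, IsPrimitiveRoot ζ p := ⟨_, Complex.isPrimitiveRoot_exp p hp.ne_zero⟩
  have : NeZero p := ⟨hp.ne_zero⟩
  choose ex hexlt hex using fun ξ : IrrCharacter H => hζ.eq_pow_of_pow_eq_one (lam_pow_p hzc hzo ξ)
  -- the integral parts
  set t : IrrCharacter G → ℕ → S → ℤ := fun χ j φ =>
    ∑ ξ ∈ members b, if ex ξ = j then (S4716.mult χ ξ : ℤ) * contrib p b φ ξ else 0 with ht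
  have hsval : ∀ (χ : IrrCharacter G) (s : ℕ) (φ : S),
      sval (z ^ s) χ (col p b φ) = ∑ j ∈ Finset.range p, (t χ j φ : ℂ) * ζ ^ (j * s) := by
    intro χ s φ
    rw [sval, ← Finset.sum_subset (Finset.subset_univ (members b)) fun ψ _ hψ => by
      rw [show col p b φ ψ = 0 from if_neg fun h => hψ (mem_members.2 h)]; simp]
    simp only [ht, Int.cast_sum, Finset.sum_mul]
    rw [Finset.sum_comm]
    refine Finset.sum_congr rfl fun ξ hξ => ?_
    rw [Finset.sum_eq_single (ex ξ) (fun j _ hj => by rw [if_neg (Ne.symm hj)]; simp)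
      (fun h => absurd (Finset.mem_range.2 (hexlt ξ)) h), if_pos rfl,
      show col p b φ ξ = contrib p b φ ξ from if_pos (mem_members.1 hξ), S4716.lam_pow hzc,
      ← hex ξ, ← pow_mul]
    push_cast
    ring
  have htc : ∀ χ j, c.mulVec (t χ j) = (p : ℤ) • t χ j := by
    intro χ j
    funext φ
    simp only [Matrix.mulVec, dotProduct, ht, Finset.mul_sum, Pi.smul_apply, smul_eq_mul]
    rw [Finset.sum_comm]
    refine Finset.sum_congr rfl fun ξ hξ => ?_
    split_ifs
    · rw [Finset.sum_congr rfl (g := fun x : S => (S4716.mult χ ξ : ℤ) * (c φ x * contrib p b x ξ))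
        fun x _ => by ring, ← Finset.mul_sum, hrow φ (mem_members.1 hξ)]
      ring
    · simp
  have htcong : ∀ χ j (φ : S), (p : ℤ) ∣ contrib p b φ₀ φ₀ * t χ j φ - contrib p b φ φ₀ * t χ j i₀ := by
    intro χ j φ
    simp only [ht, Finset.mul_sum, ← Finset.sum_sub_distrib]
    refine Finset.dvd_sum fun ξ hξ => ?_
    split_ifs
    · have := (hcong φ (mem_members.1 hξ)).mul_left (S4716.mult χ ξ : ℤ)
      convert this using 1
      ring
    · simp
  have hbound : ∀ v : S → ℤ, v ≠ 0 → c.mulVec v = (p : ℤ) • v →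
      (∀ φ : S, (p : ℤ) ∣ contrib p b φ₀ φ₀ * v φ - contrib p b φ φ₀ * v i₀) →
      T ≤ ∑ φ, v φ ^ 2 := by
    intro v hv0 hv hvc
    obtain ⟨x, y, hxy⟩ := (hpz.coprime_iff_not_dvd.2 (hdiag i₀)).symm
    have hxy' : x * contrib p b φ₀ φ₀ + y * p = 1 := hxy
    set lamb := x * v i₀ with hlamb
    have hdvd : ∀ φ : S, (p : ℤ) ∣ v φ - lamb * c φ i₀ := fun φ => by
      have e : v φ - lamb * c φ i₀ =
          x * (contrib p b φ₀ φ₀ * v φ - contrib p b φ φ₀ * v i₀) + y * v φ * p := by
        rw [show c φ i₀ = contrib p b φ φ₀ from rfl, hlamb]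
        linear_combination (-(v φ)) * hxy'
      rw [e]; exact dvd_add ((hvc φ).mul_left _) (dvd_mul_left _ _)
    choose w hw using hdvd
    set e₀ : S → ℤ := Pi.single i₀ 1
    have hce : c.mulVec e₀ = fun φ => c φ i₀ := Matrix.mulVec_single_one _ _
    have hvw : v = lamb • c.mulVec e₀ + (p : ℤ) • w := by
      funext φ
      simp only [hce, Pi.add_apply, Pi.smul_apply, smul_eq_mul]
      linarith [hw φ]
    have hcw : c.mulVec w = (p : ℤ) • w := by
      have h := hv
      rw [hvw, Matrix.mulVec_add, Matrix.mulVec_smul, Matrix.mulVec_smul, Matrix.mulVec_mulVec, hsq,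
        Matrix.smul_mulVec, smul_add, smul_comm lamb] at h
      exact smul_right_injective _ (by exact_mod_cast hp.ne_zero : (p : ℤ) ≠ 0) (add_left_cancel h)
    have hva : c.mulVec (lamb • e₀ + w) = v := by
      rw [Matrix.mulVec_add, Matrix.mulVec_smul, hcw, ← hvw]
    have h := LatticeProjBound38.trace_le hp c hsym hsq hrk hdiag (lamb • e₀ + w) (hva.symm ▸ hv0)
    rwa [hva] at h
  -- summation
  set E : IrrCharacter G → ℕ → ℝ := fun χ s =>
    ∑ φ : S, Complex.normSq (sval (z ^ s) χ (col p b φ)) with hE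
  have hup : ∀ s ∈ (Finset.range p).erase 0, ∑ χ ∈ members B, E χ s = (p : ℝ) ^ 2 * (T : ℝ) := by
    intro s hs
    have hs0 := (Finset.mem_erase.1 hs).1
    have hsp : ¬ p ∣ s := fun hd' => absurd (Finset.mem_range.1 (Finset.mem_erase.1 hs).2)
      (not_lt.2 (Nat.le_of_dvd (Nat.pos_of_ne_zero hs0) hd'))
    have hcop : (orderOf u).Coprime s := hu ▸ hp.coprime_iff_not_dvd.2 hsp
    obtain ⟨r, hr⟩ := exists_pow_eq_self_of_coprime hcop.symm
    have hHs : ∀ g, g ∈ H ↔ Commute (u ^ s) g := fun g => by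
      rw [hH]
      exact ⟨fun h => h.pow_left s, fun h => by rw [← hr]; exact h.pow_left r⟩
    have hus : ∃ i, orderOf (u ^ s) = p ^ i := ⟨1, by rw [Nat.Coprime.orderOf_pow hcop, hu, pow_one]⟩
    simp only [hE]
    rw [Finset.sum_comm, hT, Matrix.trace, Int.cast_sum, Finset.mul_sum]
    refine Finset.sum_congr rfl fun φ _ => ?_
    have h := sum_sval hM hus hHs hind (col_mem (hmem φ)) (col_mem (hmem φ))
    rw [show (⟨u ^ s, (hHs (u ^ s)).2 (Commute.refl _)⟩ : H) = z ^ s from Subtype.ext (by simp [hz]),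
      form_spec hM hb (col_mem (hmem φ)) (col_mem (hmem φ)),
      form_col hM hb (hmem φ) (col_mem (hmem φ)), hd2,
      show col p b φ φ = c φ φ from if_pos (hmem φ)] at h
    apply Complex.ofReal_injective
    push_cast
    push_cast at h
    rw [Matrix.diag_apply, ← h]
    exact Finset.sum_congr rfl fun χ _ => by rw [← Complex.mul_conj]
  have hlow : ∀ χ ∈ members B, ((p : ℝ) - 1) * (T : ℝ) ≤ ∑ s ∈ (Finset.range p).erase 0, E χ s := by
    intro χ hχ
    have hne : ∃ a ∈ Finset.range p, ∃ c' ∈ Finset.range p, t χ a ≠ t χ c' := by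
      by_contra hall
      push Not at hall
      have h1 := sval_ne_zero hM hu' hH hind hd (hmem i₀) (hh _ (hmem i₀)) (mem_members.1 hχ)
        (col_mem (hmem i₀)) (by
          rw [show col p b φ₀ φ₀ = contrib p b φ₀ φ₀ from if_pos (hmem i₀)]
          exact hdiag i₀)
      apply h1
      have h := hsval χ 1 i₀
      rw [pow_one] at h
      rw [← hz, h, Finset.sum_congr rfl (g := fun j => (t χ 0 i₀ : ℂ) * ζ ^ j) fun j hj => by
        rw [hall j hj 0 (Finset.mem_range.2 hp.pos), mul_one], ← Finset.mul_sum,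
        hζ.geom_sum_eq_zero hp.one_lt, mul_zero]
    obtain ⟨a, ha, c', hc', hac⟩ := hne
    set f : ℕ → ℕ → ℤ := fun j l => ∑ φ : S, (t χ j φ - t χ l φ) ^ 2 with hf
    have hfT : ∀ j l, t χ j ≠ t χ l → T ≤ f j l := fun j l hjl => by
      refine hbound (t χ j - t χ l) (sub_ne_zero.2 hjl) ?_ fun φ => ?_
      · rw [Matrix.mulVec_sub, htc, htc, smul_sub]
      · simp only [Pi.sub_apply]
        have := dvd_sub (htcong χ j φ) (htcong χ l φ)
        rwa [mul_sub, mul_sub, sub_sub_sub_comm]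
    have h0 : ∀ j l, 0 ≤ f j l := fun j l => Finset.sum_nonneg fun φ _ => sq_nonneg _
    have hpairs := two_mul_le_sum (Finset.range p) f T
      (fun j l => Finset.sum_congr rfl fun φ _ => by ring) h0 ha hc' (fun h => hac (by rw [h]))
      (fun l _ => by
        by_cases h : t χ a = t χ l
        · linarith [h0 a l, hfT c' l fun e => hac (h.trans e.symm)]
        · linarith [h0 c' l, hfT a l h])
    rw [Finset.card_range] at hpairs
    have hsum : ∑ s ∈ (Finset.range p).erase 0, E χ s =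
        ((∑ j ∈ Finset.range p, ∑ l ∈ Finset.range p, f j l : ℤ) : ℝ) / 2 := by
      have hsw : ∑ j ∈ Finset.range p, ∑ l ∈ Finset.range p, f j l =
          ∑ φ : S, ∑ j ∈ Finset.range p, ∑ l ∈ Finset.range p, (t χ j φ - t χ l φ) ^ 2 := by
        simp only [hf]
        exact (Finset.sum_congr rfl fun j _ => Finset.sum_comm).trans Finset.sum_comm
      rw [hsw, eq_div_iff two_ne_zero, Int.cast_sum, Finset.sum_mul]
      simp only [hE, Finset.sum_mul]
      rw [Finset.sum_comm]
      refine Finset.sum_congr rfl fun φ _ => ?_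
      rw [sum_pair_sq, ← Finset.sum_mul]
      simp only [hsval]
      have h := sum_range_normSq hζ fun j => t χ j φ
      rw [← Finset.add_sum_erase _ _ (Finset.mem_range.2 hp.pos)] at h
      simp only [mul_zero, pow_zero, mul_one] at h
      rw [← Int.cast_sum, Complex.normSq_intCast] at h
      push_cast at h ⊢
      linarith
    rw [hsum, le_div_iff₀ two_pos]
    have hcast : ((2 * ((p : ℤ) - 1) * T : ℤ) : ℝ) ≤
        ((∑ j ∈ Finset.range p, ∑ l ∈ Finset.range p, f j l : ℤ) : ℝ) := by exact_mod_cast hpairs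
    push_cast at hcast ⊢
    linarith
  have hfinal : ((members B).card : ℝ) * (((p : ℝ) - 1) * (T : ℝ)) ≤
      ((p : ℝ) - 1) * ((p : ℝ) ^ 2 * (T : ℝ)) := by
    calc ((members B).card : ℝ) * (((p : ℝ) - 1) * (T : ℝ))
        ≤ ∑ χ ∈ members B, ∑ s ∈ (Finset.range p).erase 0, E χ s := by
          rw [← nsmul_eq_mul]; exact Finset.card_nsmul_le_sum _ _ _ hlow
      _ = _ := by
          rw [Finset.sum_comm, Finset.sum_congr rfl hup, Finset.sum_const, Finset.card_erase_of_mem
            (Finset.mem_range.2 hp.pos), Finset.card_range, nsmul_eq_mul, Nat.cast_sub hp.one_le,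
            Nat.cast_one]
  have hpos : (0 : ℝ) < ((p : ℝ) - 1) * (T : ℝ) :=
    mul_pos (sub_pos.2 (by exact_mod_cast hp.one_lt)) (by exact_mod_cast hTpos)
  rw [card_members]
  have : ((members B).card : ℝ) ≤ ((p ^ 2 : ℕ) : ℝ) := by
    push_cast
    nlinarith
  exact_mod_cast this

end Main

end Cfsg.Agent.BlockCentralSlice38
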