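import Cfsg.Agent.Lib.BlockContribSection
import Cfsg.Agent.Lib.BlockTheoryDefect

/-!
A block whose idempotent survives the Brauer map at a `p`-group `D` containing a central element `u`
is induced from a block of the centraliser of `u` surviving at `D`.
-/

set_option autoImplicit false

namespace Cfsg.Agent.BlockContribLift

open Cfsg Cfsg.Agent.BlockTheoryLocalRing Cfsg.Agent.BlockTheoryCentre Cfsg.Agent.BlockTheoryIdem
open Cfsg.Agent.BlockTheoryBrauer Cfsg.Agent.BlockTheoryDefect

attribute [local instance] Classical.propDecidable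

variable {p : ℕ} {M : Ideal AlgInt} {G : Type*} [Group G] [Fintype G] {u : G} {H : Subgroup G}
  [Fintype H]

theorem exists_induced_not_small (hM : IsPModular p M) (hH : ∀ g, g ∈ H ↔ Commute u g)
    (hu : ∃ k, orderOf u = p ^ k) {B : Set (IrrCharacter G)} (hB : IsPBlock M B)
    {D : Subgroup G} (hDp : IsPGroup p D) (hDH : D ≤ H) (huD : u ∈ D)
    (hne : ¬ Small M (cut D (idem B))) :
    ∃ b : Set (IrrCharacter H), IsInducedBlock M H b B ∧
      ¬ Small M (cut (D.subgroupOf H) (idem b)) := by
  haveI : Fact p.Prime := ⟨hM.1⟩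
  by_contra hcon
  push Not at hcon
  set S := ((Finset.univ : Finset (IrrCharacter H)).image
    (fun ψ : IrrCharacter H => blockOf M (ψ : H → ℂ))).filter (fun b => IsInducedBlock M H b B)
    with hS
  set P := D.subgroupOf H with hP'
  have hP : IsPGroup p P := hDp.comap_subtype
  have hcent : ∀ h : H, h ∈ Subgroup.centralizer (P : Set H) ↔ (h : G) ∈ Subgroup.centralizer (D : Set G) := by
    intro h
    simp only [Subgroup.mem_centralizer_iff]
    exact ⟨fun h' v hv => congrArg Subtype.val (h' ⟨v, hDH hv⟩ hv),
      fun h' v hv => Subtype.ext (h' v hv)⟩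
  have hcutres : ∀ w : MonoidAlgebra ℂ G, cut P (res H w) = res H (cut D w) := by
    intro w
    refine MonoidAlgebra.ext ?_
    ext h
    rw [coeff_cut, coeff_res, coeff_res, coeff_cut]
    exact if_congr (hcent h) rfl rfl
  have hCH : ∀ x : G, x ∈ Subgroup.centralizer (D : Set G) → x ∈ H := fun x hx =>
    (hH x).2 (Subgroup.mem_centralizer_iff.1 hx u huD)
  have hei : IsInt M (idem B) := isInt_idem hM hB
  set z := res H (idem B) with hz
  have hzc : IsCen z := isCen_res H (isCen_idem B)
  have hzi : IsInt M z := isInt_res H hei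
  set E : MonoidAlgebra ℂ H := ∑ b ∈ S, idem b with hE
  have hEc : IsCen E := Finset.sum_induction _ IsCen (fun a b ha hb => ha.add hb) isCen_zero
    fun b _ => isCen_idem b
  have hEi : IsInt M E := Finset.sum_induction _ (IsInt M) (fun a b ha hb => IsInt.add hM ha hb)
    (isInt_zero hM) fun b hb => isInt_idem hM (Finset.mem_filter.1 hb).2.1
  have hEs : Small M (cut P E) := by
    rw [hE, map_sum]
    exact Finset.sum_induction _ (Small M) (fun a b ha hb => small_add hM ha hb) (small_zero hM)
      fun b hb => hcon b (Finset.mem_filter.1 hb).2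
  have hω : ∀ ξ : IrrCharacter H, MemLocalIdeal M (omega (ξ : H → ℂ) (z * (1 - E))) := by
    intro ξ
    obtain ⟨B', hB'⟩ := BlockContribSection.exists_induced hH hM hu (isPBlock_blockOf (M := M) ξ)
    rw [omega_mul ξ hzc, map_sub, omega_one, hE, map_sum,
      Finset.sum_congr rfl fun b _ => omega_idem b ξ]
    by_cases h : IsInducedBlock M H (blockOf M (ξ : H → ℂ)) B
    · rw [Finset.sum_eq_single (blockOf M (ξ : H → ℂ))]
      · rw [if_pos (self_mem_blockOf hM ξ), sub_self, mul_zero]; exact ideal_zero hM
      · intro b hb hne'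
        rw [if_neg fun hm => hne' (block_eq_of_mem hM (Finset.mem_filter.1 hb).2.1 (isPBlock_blockOf ξ) hm (self_mem_blockOf hM ξ))]
      · exact fun h' => absurd (Finset.mem_filter.2 ⟨Finset.mem_image_of_mem _ (Finset.mem_univ ξ), h⟩) h'
    · refine ideal_mul_right hM ?_ ((localRing hM).sub_mem (localRing hM).one_mem
        ((localRing hM).sum_mem fun b _ => ?_))
      · obtain ⟨χ, hχ⟩ := block_nonempty hM hB'.2.1
        have h1 := BlockTheoryInduced.inducedBlock_congr H hM hB' (self_mem_blockOf hM ξ) hχ
          (isCen_idem B) hei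
        rw [omega_idem, if_neg (fun hm => h (block_eq_of_mem hM hB'.2.1 hB hχ hm ▸ hB')), sub_zero] at h1
        exact h1
      · split_ifs
        exacts [(localRing hM).one_mem, (localRing hM).zero_mem]
  have h1c : IsCen (1 - E) := isCen_one.sub hEc
  have h1i : IsInt M (1 - E) := IsInt.sub hM (isInt_one hM) hEi
  obtain ⟨n, hn⟩ := exists_small_pow hM (hzc.mul h1c) (IsInt.mul hM hzi h1i) hω
  set y := z * (1 - E) with hy
  have hyi : IsInt M y := IsInt.mul hM hzi h1i
  have hcz : Small M (cut P z - cut P y) := by
    have e : z = y + z * E := by rw [hy, mul_sub, mul_one, sub_add_cancel]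
    have h2 : Small M (cut P (z * E)) := by
      have := small_add hM (cut_mul hM P hP hzc hEc hzi hEi) (small_mul_left hM (isInt_cut hM P hzi) hEs)
      simpa using this
    rw [show cut P z - cut P y = cut P (z * E) by conv_lhs => rw [e, map_add]; abel]
    exact h2
  have hidem : Small M (cut P z * cut P z - cut P z) := by
    rw [hz, hcutres, ← res_mul_of_supported H (fun x hx => by
      rw [coeff_cut, if_neg fun h' => hx (hCH x h')]), ← map_sub]
    intro h
    rw [coeff_res]
    have := ideal_neg (cut_mul hM D hDp (isCen_idem B) (isCen_idem B) hei hei (h : G))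
    rw [idem_sq] at this
    simpa using this
  have hs : Small M (cut P z) := by
    refine small_of_idem_of_pow hM (isInt_cut hM P hzi) hidem (N := n + 1) (by omega) ?_
    have h3 := small_pow_sub hM hcz (isInt_cut hM P hzi) (isInt_cut hM P hyi) (n + 1)
    have h4 : Small M (cut P (y ^ (n + 1))) :=
      small_cut_of_small hM P (by rw [pow_succ]; exact small_mul_right hM hn hyi)
    have h5 := small_symm hM (cut_pow hM P hP (hzc.mul h1c) hyi (n + 1))
    have h6 := small_add hM h3 (small_add hM h5 h4)
    simpa [← hy] using h6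
  refine hne fun x => ?_
  rw [coeff_cut]
  split_ifs with hx
  · have := hs ⟨x, hCH x hx⟩
    rw [coeff_cut, if_pos ((hcent _).2 hx)] at this
    exact this
  · exact ideal_zero hM

end Cfsg.Agent.BlockContribLift
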