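import Cfsg.Agent.Lib.BlockMajorValue82

/-!
The lattice of contribution columns of a major subsection and the values on it.
-/

set_option autoImplicit false

namespace Cfsg.Agent.BlockMajorLattice82

open Cfsg Cfsg.Agent.BlockTheoryLocalRing Cfsg.Agent.BlockTheoryCentre
open Cfsg.Agent.BlockTheoryIdem Cfsg.Agent.BlockTheoryBrauer
open Cfsg.Agent.BlockContrib Cfsg.Agent.BlockContribBounds Cfsg.Agent.ClassAlgebraVal
open Cfsg.Agent.BlockContribPrime Cfsg.Agent.BlockContribSection Cfsg.Agent.BlockMajorValue82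
open scoped ComplexConjugate

attribute [local instance] Classical.propDecidable

set_option linter.unusedSectionVars false

section Lattice

variable {p : ℕ} [Fact p.Prime] {M : Ideal AlgInt} {H : Type*} [Group H] [Fintype H]

/-- A column of the contribution matrix. -/
noncomputable def col (p : ℕ) (b : Set (IrrCharacter H)) (φ : IrrCharacter H) :
    IrrCharacter H → ℤ := fun ψ => if ψ ∈ b then contrib p b φ ψ else 0

/-- The lattice spanned by the columns. -/
noncomputable def lat (p : ℕ) (b : Set (IrrCharacter H)) :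
    Submodule ℤ (IrrCharacter H → ℤ) := Submodule.span ℤ (col p b '' b)

/-- The standard scalar product. -/
noncomputable def dot (v w : IrrCharacter H → ℤ) : ℤ := ∑ ψ, v ψ * w ψ

/-- The form of the lattice. -/
noncomputable def form (p : ℕ) (b : Set (IrrCharacter H)) (v w : IrrCharacter H → ℤ) : ℤ :=
  dot v w / (p : ℤ) ^ blockDefect p b

theorem dot_comm (v w : IrrCharacter H → ℤ) : dot v w = dot w v := by
  simp only [dot, mul_comm]

theorem dot_add (v w w' : IrrCharacter H → ℤ) : dot v (w + w') = dot v w + dot v w' := by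
  simp only [dot, Pi.add_apply, mul_add, Finset.sum_add_distrib]

theorem dot_smul (v w : IrrCharacter H → ℤ) (n : ℤ) : dot v (n • w) = n * dot v w := by
  simp only [dot, Pi.smul_apply, smul_eq_mul, Finset.mul_sum]
  exact Finset.sum_congr rfl fun ψ _ => by ring

variable {b : Set (IrrCharacter H)}

theorem col_mem {φ : IrrCharacter H} (hφ : φ ∈ b) : col p b φ ∈ lat p b :=
  Submodule.subset_span ⟨φ, hφ, rfl⟩

theorem dot_col (hM : IsPModular p M) (hb : IsPBlock M b) {φ : IrrCharacter H} (hφ : φ ∈ b)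
    {v : IrrCharacter H → ℤ} (hv : v ∈ lat p b) :
    dot v (col p b φ) = (p : ℤ) ^ blockDefect p b * v φ := by
  induction hv using Submodule.span_induction with
  | mem x hx =>
    obtain ⟨ξ, hξ, rfl⟩ := hx
    rw [show col p b ξ φ = contrib p b ξ φ from if_pos hφ, ← sum_contrib_mul hM hb hξ hφ,
      Finset.sum_filter, dot]
    refine Finset.sum_congr rfl fun ψ _ => ?_
    by_cases hψ : ψ ∈ b
    · simp only [col, if_pos hψ]
      rw [contrib_comm hM.1 hφ hψ]
    · simp [col, hψ]
  | zero => simp [dot]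
  | add x y _ _ hx hy =>
    rw [dot_comm, dot_add, dot_comm (col p b φ), dot_comm (col p b φ), hx, hy, Pi.add_apply, mul_add]
  | smul n x _ hx =>
    rw [dot_comm, dot_smul, dot_comm, hx, Pi.smul_apply, smul_eq_mul]; ring

theorem form_spec (hM : IsPModular p M) (hb : IsPBlock M b) {v w : IrrCharacter H → ℤ}
    (hv : v ∈ lat p b) (hw : w ∈ lat p b) :
    dot v w = (p : ℤ) ^ blockDefect p b * form p b v w := by
  have hd : (p : ℤ) ^ blockDefect p b ∣ dot v w := by
    induction hw using Submodule.span_induction with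
    | mem x hx => obtain ⟨φ, hφ, rfl⟩ := hx; exact ⟨_, dot_col hM hb hφ hv⟩
    | zero => simp [dot]
    | add x y _ _ hx hy => rw [dot_add]; exact dvd_add hx hy
    | smul n x _ hx => rw [dot_smul]; exact hx.mul_left _
  rw [form, Int.mul_ediv_cancel' hd]

theorem pow_defect_ne_zero (hp : p.Prime) : (p : ℤ) ^ blockDefect p b ≠ 0 :=
  pow_ne_zero _ (by exact_mod_cast hp.ne_zero)

theorem form_col (hM : IsPModular p M) (hb : IsPBlock M b) {φ : IrrCharacter H} (hφ : φ ∈ b)
    {v : IrrCharacter H → ℤ} (hv : v ∈ lat p b) : form p b v (col p b φ) = v φ :=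
  mul_left_cancel₀ (pow_defect_ne_zero hM.1)
    ((form_spec hM hb hv (col_mem hφ)).symm.trans (dot_col hM hb hφ hv))

theorem form_comm (v w : IrrCharacter H → ℤ) : form p b v w = form p b w v := by
  rw [form, form, dot_comm]

theorem form_add (hM : IsPModular p M) (hb : IsPBlock M b) {v w w' : IrrCharacter H → ℤ}
    (hv : v ∈ lat p b) (hw : w ∈ lat p b) (hw' : w' ∈ lat p b) :
    form p b v (w + w') = form p b v w + form p b v w' := by
  refine mul_left_cancel₀ (pow_defect_ne_zero (b := b) hM.1) ?_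
  rw [mul_add, ← form_spec hM hb hv hw, ← form_spec hM hb hv hw',
    ← form_spec hM hb hv (add_mem hw hw'), dot_add]

theorem form_smul (hM : IsPModular p M) (hb : IsPBlock M b) {v w : IrrCharacter H → ℤ}
    (hv : v ∈ lat p b) (hw : w ∈ lat p b) (n : ℤ) :
    form p b v (n • w) = n * form p b v w := by
  refine mul_left_cancel₀ (pow_defect_ne_zero (b := b) hM.1) ?_
  rw [← form_spec hM hb hv (Submodule.smul_mem _ n hw), dot_smul, form_spec hM hb hv hw]; ring

theorem form_pos (hM : IsPModular p M) (hb : IsPBlock M b) {v : IrrCharacter H → ℤ}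
    (hv : v ∈ lat p b) (hne : v ≠ 0) : 0 < form p b v v := by
  have h1 : 0 < dot v v := by
    obtain ⟨ψ, hψ⟩ := Function.ne_iff.1 hne
    exact Finset.sum_pos' (fun i _ => mul_self_nonneg _) ⟨ψ, Finset.mem_univ _, mul_self_pos.2 hψ⟩
  rw [form_spec hM hb hv hv] at h1
  exact Int.pos_of_mul_pos_right h1 (pow_pos (by exact_mod_cast hM.1.pos) _)

theorem pair_eq_col (hp : p.Prime) {φ ψ : IrrCharacter H} (hψ : ψ ∈ b) :
    pair p (φ : H → ℂ) ψ = (cofactor p H : ℂ) * (p : ℂ) ^ minExp p b * (col p b φ ψ : ℂ) := by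
  rw [show col p b φ ψ = contrib p b φ ψ from if_pos hψ, pair_eq_contrib hp φ hψ]

/-- The coordinates are determined modulo `p` by one of height zero. -/
theorem coord_congr (hM : IsPModular p M) (hb : IsPBlock M b) {φ₀ φ : IrrCharacter H}
    (hφ₀ : φ₀ ∈ b) (h0 : blockHeight p b (φ₀ : H → ℂ) = 0) (hφ : φ ∈ b)
    {v : IrrCharacter H → ℤ} (hv : v ∈ lat p b) (hd : (p : ℤ) ∣ v φ₀) : (p : ℤ) ∣ v φ := by
  have hp := hM.1
  set n := charDegree (φ : H → ℂ) with hn
  set n₀ := charDegree (φ₀ : H → ℂ) with hn₀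
  set s : ℂ := (cofactor p H : ℂ) * (p : ℂ) ^ minExp p b with hs
  set r₀ := n₀ / p ^ n₀.factorization p with hr₀
  set r := n / p ^ n.factorization p with hr
  have hr₀p : ¬ p ∣ r₀ := Nat.not_dvd_ordCompl hp (charDegree_pos φ₀).ne'
  have hn₀e : (n₀ : ℂ) = (p : ℂ) ^ minExp p b * (r₀ : ℂ) := by
    have h1 := exp_eq_add (p := p) hφ₀
    rw [h0, add_zero] at h1
    rw [← h1]
    exact_mod_cast (Nat.ordProj_mul_ordCompl_eq_self n₀ p).symm
  have hne : (n : ℂ) = (p : ℂ) ^ minExp p b * ((p : ℂ) ^ blockHeight p b (φ : H → ℂ) * (r : ℂ)) := by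
    rw [← mul_assoc, ← pow_add, ← exp_eq_add (p := p) hφ]
    exact_mod_cast (Nat.ordProj_mul_ordCompl_eq_self n p).symm
  set lam : ℂ := (p : ℂ) ^ blockHeight p b (φ : H → ℂ) * (r : ℂ) * (r₀ : ℂ)⁻¹ with hlam
  have hlamR : MemLocalRing M lam := (localRing hM).mul_mem ((localRing hM).mul_mem
    ((localRing hM).pow_mem (natCast_mem (localRing hM) p) _) (natCast_mem (localRing hM) r))
    (inv_natCast_mem hM hr₀p)
  have key : ∀ x ∈ lat p b, MemLocalIdeal M ((x φ : ℂ) - lam * (x φ₀ : ℂ)) := by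
    intro x hx
    induction hx using Submodule.span_induction with
    | mem y hy =>
      obtain ⟨ξ, hξ, rfl⟩ := hy
      have h := pair_div_congr hM ξ (sameBlock_of_mem hM hb hφ hφ₀)
      rw [pair_eq_col hp hφ, pair_eq_col hp hφ₀, ← hs, apply_one_eq_charDegree φ,
        apply_one_eq_charDegree φ₀, ← hn, ← hn₀, hne, hn₀e] at h
      have hu : MemLocalRing M ((p : ℂ) ^ blockHeight p b (φ : H → ℂ) * (r : ℂ) *
          (cofactor p H : ℂ)⁻¹) := (localRing hM).mul_mem ((localRing hM).mul_mem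
        ((localRing hM).pow_mem (natCast_mem (localRing hM) p) _) (natCast_mem (localRing hM) r))
        (inv_natCast_mem hM (cofactor_not_dvd (G := H) hp))
      refine cast (congrArg (MemLocalIdeal M) ?_) (ideal_mul_left hM hu h)
      have hp0 : (p : ℂ) ≠ 0 := Nat.cast_ne_zero.mpr hp.ne_zero
      have hc0 : (cofactor p H : ℂ) ≠ 0 :=
        Nat.cast_ne_zero.mpr fun e => cofactor_not_dvd (G := H) hp (e ▸ dvd_zero p)
      have hr0 : (r : ℂ) ≠ 0 := Nat.cast_ne_zero.mpr fun e =>
        Nat.not_dvd_ordCompl hp (charDegree_pos φ).ne' (show p ∣ r from e ▸ dvd_zero p)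
      have hr00 : (r₀ : ℂ) ≠ 0 := Nat.cast_ne_zero.mpr fun e => hr₀p (e ▸ dvd_zero p)
      rw [hs, hlam]
      field_simp
    | zero => simpa using ideal_zero hM
    | add y y' _ _ hy hy' =>
      exact cast (congrArg (MemLocalIdeal M) (by simp [Pi.add_apply]; ring)) (ideal_add hM hy hy')
    | smul m y _ hy =>
      exact cast (congrArg (MemLocalIdeal M) (by simp [Pi.smul_apply]; ring))
        (ideal_mul_left hM (intCast_mem (localRing hM) m) hy)
  refine (intCast_mem_iff hM _).1 ?_
  exact cast (congrArg (MemLocalIdeal M) (by ring))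
    (ideal_add hM (key v hv) (ideal_mul_left hM hlamR ((intCast_mem_iff hM _).2 hd)))

theorem not_dvd_coord (hM : IsPModular p M) (hb : IsPBlock M b) {φ₀ : IrrCharacter H}
    (hφ₀ : φ₀ ∈ b) (h0 : blockHeight p b (φ₀ : H → ℂ) = 0) {v : IrrCharacter H → ℤ}
    (hv : v ∈ lat p b) (h : ¬ (p : ℤ) ∣ form p b v v) : ¬ (p : ℤ) ∣ v φ₀ := by
  intro hd
  refine h ?_
  suffices ∀ w ∈ lat p b, (p : ℤ) ∣ form p b v w from this v hv
  intro w hw
  induction hw using Submodule.span_induction with
  | mem x hx =>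
    obtain ⟨φ, hφ, rfl⟩ := hx
    rw [form_col hM hb hφ hv]
    exact coord_congr hM hb hφ₀ h0 hφ hv hd
  | zero => simp [form, dot]
  | add x y hx' hy' hx hy => rw [form_add hM hb hv hx' hy']; exact dvd_add hx hy
  | smul n x hx' hx => rw [form_smul hM hb hv hx']; exact hx.mul_left _

/-- The rank of the lattice is at most the regular rank of the block. -/
theorem finrank_le (hM : IsPModular p M) : Module.finrank ℤ ↥(lat p b) ≤ blockRank p b := by
  set s : ℂ := (cofactor p H : ℂ) * (p : ℂ) ^ minExp p b with hs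
  let Ψ : (H → ℂ) →ₗ[ℂ] (IrrCharacter H → ℂ) :=
    { toFun := fun F ξ => if ξ ∈ b then
        s⁻¹ * ∑ g : H, if ¬ p ∣ orderOf g then conj ((ξ : H → ℂ) g) * F g else 0 else 0
      map_add' := fun F F' => by
        funext ξ
        simp only [Pi.add_apply]
        split_ifs
        · rw [← mul_add, ← Finset.sum_add_distrib]
          congr 1
          exact Finset.sum_congr rfl fun g _ => by split_ifs <;> ring
        · rw [add_zero]
      map_smul' := fun c F => by
        funext ξ
        simp only [Pi.smul_apply, smul_eq_mul, RingHom.id_apply]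
        split_ifs
        · rw [Finset.mul_sum, Finset.mul_sum, Finset.mul_sum]
          exact Finset.sum_congr rfl fun g _ => by split_ifs <;> ring
        · rw [mul_zero] }
  set V := Submodule.span ℂ ((fun χ : IrrCharacter H => pRegularPart p (χ : H → ℂ)) '' b) with hV
  let cast' : (IrrCharacter H → ℤ) → (IrrCharacter H → ℂ) := fun v ξ => (v ξ : ℂ)
  have hin : ∀ v ∈ lat p b, cast' v ∈ V.map Ψ := by
    intro v hv
    induction hv using Submodule.span_induction with
    | mem x hx =>
      obtain ⟨φ, hφ, rfl⟩ := hx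
      refine ⟨pRegularPart p (φ : H → ℂ), Submodule.subset_span ⟨φ, hφ, rfl⟩, ?_⟩
      funext ξ
      show (if ξ ∈ b then s⁻¹ * _ else 0) = (col p b φ ξ : ℂ)
      split_ifs with hξ
      · have hreg : (∑ g : H, if ¬ p ∣ orderOf g then conj ((ξ : H → ℂ) g) *
            pRegularPart p (φ : H → ℂ) g else 0) = pair p (φ : H → ℂ) ξ := by
          rw [pair_comm, pair, regSum_eq]
          refine Finset.sum_congr rfl fun g _ => ?_
          by_cases hg : p ∣ orderOf g
          · simp [hg]
          · simp [hg, Cfsg.pRegularPart, Cfsg.IsPRegular]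
        rw [hreg, pair_eq_col hM.1 hξ, ← hs, ← mul_assoc,
          inv_mul_cancel₀ (scale_ne_zero hM.1 b), one_mul]
      · simp [col, hξ]
    | zero =>
      rw [show cast' 0 = 0 from funext fun ξ => Int.cast_zero]
      exact zero_mem _
    | add x y _ _ hx hy =>
      rw [show cast' (x + y) = cast' x + cast' y from funext fun ξ => Int.cast_add _ _]
      exact add_mem hx hy
    | smul n x _ hx =>
      rw [show cast' (n • x) = (n : ℂ) • cast' x from funext fun ξ => by simp [cast']]
      exact Submodule.smul_mem _ _ hx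
  set e := Module.finBasis ℤ ↥(lat p b)
  set r := Module.finrank ℤ ↥(lat p b)
  set E : Fin r → IrrCharacter H → ℤ := fun i => (e i : IrrCharacter H → ℤ)
  have hE : LinearIndependent ℤ E := e.linearIndependent.map' _ (Submodule.ker_subtype _)
  set Gm : Matrix (Fin r) (Fin r) ℤ := Matrix.of fun i k => dot (E i) (E k) with hGm
  have hdet : Gm.det ≠ 0 := by
    intro h
    obtain ⟨c, hc, hc0⟩ := Matrix.exists_mulVec_eq_zero_iff.2 h
    set w : IrrCharacter H → ℤ := ∑ k, c k • E k with hw
    have hdot : ∀ x, dot x w = ∑ k, c k * dot x (E k) := by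
      intro x
      simp only [dot, hw, Finset.sum_apply, Pi.smul_apply, smul_eq_mul, Finset.mul_sum]
      rw [Finset.sum_comm]
      exact Finset.sum_congr rfl fun k _ => Finset.sum_congr rfl fun ψ _ => by ring
    have hz : ∀ i, dot (E i) w = 0 := fun i => by
      rw [hdot]
      have := congrFun hc0 i
      simpa [Matrix.mulVec, dotProduct, hGm, mul_comm] using this
    have hww : dot w w = 0 := by
      rw [hdot]
      exact Finset.sum_eq_zero fun k _ => by rw [dot_comm, hz, mul_zero]
    have hw0 : w = 0 := by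
      funext ψ
      have := (Finset.sum_eq_zero_iff_of_nonneg fun i _ => mul_self_nonneg (w i)).1 hww ψ
        (Finset.mem_univ _)
      exact mul_self_eq_zero.1 this
    exact hc (funext fun k => Fintype.linearIndependent_iff.1 hE c hw0 k)
  have hEC : LinearIndependent ℂ (fun i => cast' (E i)) := by
    rw [Fintype.linearIndependent_iff]
    intro c hc
    have hzero : (Gm.map (Int.castRingHom ℂ)).mulVec c = 0 := by
      funext i
      simp only [Matrix.mulVec, dotProduct, hGm, Matrix.map_apply, Matrix.of_apply, dot,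
        eq_intCast, Int.cast_sum, Int.cast_mul, Finset.sum_mul, Pi.zero_apply]
      rw [Finset.sum_comm]
      refine Finset.sum_eq_zero fun ψ _ => ?_
      have h1 := congrFun hc ψ
      simp only [Finset.sum_apply, Pi.smul_apply, smul_eq_mul, Pi.zero_apply, cast'] at h1
      calc ∑ k, (E i ψ : ℂ) * (E k ψ : ℂ) * c k = (E i ψ : ℂ) * ∑ k, c k * (E k ψ : ℂ) := by
            rw [Finset.mul_sum]; exact Finset.sum_congr rfl fun k _ => by ring
        _ = 0 := by rw [h1, mul_zero]
    by_contra hne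
    push Not at hne
    obtain ⟨i, hi⟩ := hne
    have := Matrix.exists_mulVec_eq_zero_iff.1 ⟨c, fun h => hi (congrFun h i), hzero⟩
    rw [← RingHom.mapMatrix_apply, ← RingHom.map_det, eq_intCast, Int.cast_eq_zero] at this
    exact hdet this
  have h1 : r ≤ Module.finrank ℂ ↥(V.map Ψ) := by
    have hli : LinearIndependent ℂ (fun i => (⟨cast' (E i), hin _ (e i).2⟩ : ↥(V.map Ψ))) :=
      LinearIndependent.of_comp (V.map Ψ).subtype hEC
    simpa using hli.fintype_card_le_finrank
  exact h1.trans (Submodule.finrank_map_le Ψ V)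

end Lattice

section Values

variable {p : ℕ} [Fact p.Prime] {M : Ideal AlgInt} {G : Type*} [Group G] [Fintype G] {u : G}
  {H : Subgroup G}

/-- The value of `χ` in the subsection along an integral vector. -/
noncomputable def sval (z : H) (χ : IrrCharacter G) (v : IrrCharacter H → ℤ) : ℂ :=
  ∑ ψ : IrrCharacter H, (S4716.mult χ ψ : ℂ) * S4716.lam z ψ * (v ψ : ℂ)

theorem sval_add (z : H) (χ : IrrCharacter G) (v w : IrrCharacter H → ℤ) :
    sval z χ (v + w) = sval z χ v + sval z χ w := by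
  simp [sval, mul_add, Finset.sum_add_distrib]

theorem sval_smul (z : H) (χ : IrrCharacter G) (v : IrrCharacter H → ℤ) (n : ℤ) :
    sval z χ (n • v) = (n : ℂ) * sval z χ v := by
  simp only [sval, Pi.smul_apply, smul_eq_mul, Finset.mul_sum]
  exact Finset.sum_congr rfl fun ψ _ => by push_cast; ring

theorem sval_zero (z : H) (χ : IrrCharacter G) : sval z χ 0 = 0 := by simp [sval]

theorem sval_col (hp : p.Prime) (hH : ∀ g, g ∈ H ↔ Commute u g) {b : Set (IrrCharacter H)}
    (χ : IrrCharacter G) (φ : IrrCharacter H) :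
    pair p (φ : H → ℂ) (part u b (χ : G → ℂ)) =
      (cofactor p H : ℂ) * (p : ℂ) ^ minExp p b *
        sval (⟨u, (hH u).2 (Commute.refl u)⟩ : H) χ (col p b φ) := by
  set z : H := ⟨u, (hH u).2 (Commute.refl u)⟩ with hz
  calc pair p (φ : H → ℂ) (part u b (χ : G → ℂ))
      = ∑ ξ ∈ members b, (S4716.mult χ ξ : ℂ) * S4716.lam z ξ * pair p (φ : H → ℂ) ξ := by
        simp only [pair, regSum_eq, S4716.part_eq hH, ← hz, Finset.mul_sum]
        rw [Finset.sum_comm (s := members b)]
        refine Finset.sum_congr rfl fun g _ => ?_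
        split_ifs
        all_goals first
          | exact Finset.sum_congr rfl fun ξ _ => by ring
          | simp
    _ = ∑ ξ ∈ members b, (cofactor p H : ℂ) * (p : ℂ) ^ minExp p b *
          ((S4716.mult χ ξ : ℂ) * S4716.lam z ξ * (col p b φ ξ : ℂ)) := by
        refine Finset.sum_congr rfl fun ξ hξ => ?_
        rw [pair_eq_col hp (mem_members.1 hξ)]; ring
    _ = _ := by
        rw [sval, Finset.mul_sum]
        refine Finset.sum_subset (Finset.subset_univ _) fun ξ _ hξ => ?_
        rw [show col p b φ ξ = 0 from if_neg fun h => hξ (mem_members.2 h)]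
        simp

/-- The orthogonality relations on the lattice. -/
theorem sum_sval (hM : IsPModular p M) (hu : ∃ k, orderOf u = p ^ k)
    (hH : ∀ g, g ∈ H ↔ Commute u g) {b : Set (IrrCharacter H)} {B : Set (IrrCharacter G)}
    (hind : IsInducedBlock M H b B) {v w : IrrCharacter H → ℤ} (hv : v ∈ lat p b)
    (hw : w ∈ lat p b) :
    ∑ χ ∈ members B, sval (⟨u, (hH u).2 (Commute.refl u)⟩ : H) χ v *
      conj (sval (⟨u, (hH u).2 (Commute.refl u)⟩ : H) χ w) = (dot v w : ℂ) := by
  set z : H := ⟨u, (hH u).2 (Commute.refl u)⟩ with hz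
  set s : ℂ := (cofactor p H : ℂ) * (p : ℂ) ^ minExp p b with hs
  have hs0 : s ≠ 0 := scale_ne_zero hM.1 b
  have hgen : ∀ φ φ' : IrrCharacter H,
      ∑ χ ∈ members B, sval z χ (col p b φ) * conj (sval z χ (col p b φ')) =
        (dot (col p b φ) (col p b φ') : ℂ) := by
    intro φ φ'
    have hcs : conj s = s := by rw [hs, map_mul, map_pow, map_natCast, map_natCast]
    refine mul_left_cancel₀ (mul_ne_zero hs0 hs0) ?_
    calc s * s * ∑ χ ∈ members B, sval z χ (col p b φ) * conj (sval z χ (col p b φ'))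
        = ∑ χ ∈ members B, pair p (φ : H → ℂ) (part u b (χ : G → ℂ)) *
            conj (pair p (φ' : H → ℂ) (part u b (χ : G → ℂ))) := by
          rw [Finset.mul_sum]
          refine Finset.sum_congr rfl fun χ _ => ?_
          rw [sval_col hM.1 hH, sval_col hM.1 hH, ← hs, ← hz, map_mul, hcs]; ring
      _ = ∑ a : H, ∑ c : H, if ¬ p ∣ orderOf a ∧ ¬ p ∣ orderOf c then
            conj ((φ : H → ℂ) a) * (φ' : H → ℂ) c * kern b a c else 0 := by
          simp only [pair, regSum_eq, map_sum, Finset.sum_mul_sum]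
          rw [Finset.sum_comm]
          refine Finset.sum_congr rfl fun a _ => ?_
          rw [Finset.sum_comm]
          refine Finset.sum_congr rfl fun c _ => ?_
          by_cases ha : p ∣ orderOf a
          · simp [ha]
          by_cases hc : p ∣ orderOf c
          · simp [hc]
          rw [if_pos ⟨ha, hc⟩, ← sum_part_mul_induced hH hM hu hind ha hc, ← filter_eq_members,
            Finset.sum_filter, Finset.mul_sum]
          refine Finset.sum_congr rfl fun χ _ => ?_
          rw [if_pos ha, if_pos hc, map_mul, Complex.conj_conj]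
          split_ifs <;> ring
      _ = ∑ ψ ∈ members b, pair p (φ : H → ℂ) ψ * conj (pair p (φ' : H → ℂ) ψ) := by
          simp only [pair, regSum_eq, map_sum, Finset.sum_mul_sum]
          symm
          rw [Finset.sum_comm]
          refine Finset.sum_congr rfl fun a _ => ?_
          rw [Finset.sum_comm]
          refine Finset.sum_congr rfl fun c _ => ?_
          by_cases ha : p ∣ orderOf a
          · simp [ha]
          by_cases hc : p ∣ orderOf c
          · simp [hc]
          rw [if_pos ⟨ha, hc⟩, kern, ← filter_eq_members, Finset.sum_filter, Finset.mul_sum]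
          refine Finset.sum_congr rfl fun ψ _ => ?_
          rw [if_pos ha, if_pos hc, map_mul, Complex.conj_conj]
          split_ifs <;> ring
      _ = s * s * (dot (col p b φ) (col p b φ') : ℂ) := by
          rw [dot, Int.cast_sum, Finset.mul_sum]
          refine Eq.trans (Finset.sum_congr rfl fun ψ hψ => ?_)
            (Finset.sum_subset (Finset.subset_univ (members b)) fun ψ _ hψ => ?_)
          · rw [pair_eq_col hM.1 (mem_members.1 hψ), pair_eq_col hM.1 (mem_members.1 hψ), ← hs,
              map_mul, hcs, map_intCast, Int.cast_mul]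
            ring
          · rw [show col p b φ ψ = 0 from if_neg fun h => hψ (mem_members.2 h)]
            simp
  induction hv using Submodule.span_induction with
  | mem x hx =>
    obtain ⟨φ, -, rfl⟩ := hx
    induction hw using Submodule.span_induction with
    | mem y hy => obtain ⟨φ', -, rfl⟩ := hy; exact hgen φ φ'
    | zero => simp [sval_zero, dot]
    | add y y' _ _ hy hy' =>
      rw [dot_add, Int.cast_add, ← hy, ← hy', ← Finset.sum_add_distrib]
      exact Finset.sum_congr rfl fun χ _ => by rw [sval_add z χ y, map_add, mul_add]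
    | smul n y _ hy =>
      rw [dot_smul, Int.cast_mul, ← hy, Finset.mul_sum]
      exact Finset.sum_congr rfl fun χ _ => by rw [sval_smul, map_mul, map_intCast]; ring
  | zero => simp [sval_zero, dot]
  | add x x' _ _ hx hx' =>
    rw [dot_comm, dot_add, dot_comm w, dot_comm w, Int.cast_add, ← hx, ← hx', ← Finset.sum_add_distrib]
    exact Finset.sum_congr rfl fun χ _ => by rw [sval_add z χ x, add_mul]
  | smul n x _ hx =>
    rw [dot_comm, dot_smul, dot_comm w, Int.cast_mul, ← hx, Finset.mul_sum]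
    exact Finset.sum_congr rfl fun χ _ => by rw [sval_smul]; ring

/-- The values on the lattice have the exact power of `p` where the coordinate is prime to `p`. -/
theorem exists_sval_value (hM : IsPModular p M) (hu : ∃ k, orderOf u = p ^ k)
    (hH : ∀ g, g ∈ H ↔ Commute u g) {b : Set (IrrCharacter H)} {B : Set (IrrCharacter G)}
    (hind : IsInducedBlock M H b B) (hd : blockDefect p b = blockDefect p B) {φ₀ : IrrCharacter H}
    (hφ₀ : φ₀ ∈ b) (h0 : blockHeight p b (φ₀ : H → ℂ) = 0) {χ : IrrCharacter G} (hχ : χ ∈ B) :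
    ∃ κ : ℂ, MemLocalRing M κ ∧ ¬ MemLocalIdeal M κ ∧ ∀ v ∈ lat p b, ∃ t : ℂ, MemLocalRing M t ∧
      MemLocalIdeal M (t - κ * (v φ₀ : ℂ)) ∧
      sval (⟨u, (hH u).2 (Commute.refl u)⟩ : H) χ v =
        (p : ℂ) ^ blockHeight p B (χ : G → ℂ) * t := by
  have hp := hM.1
  set z : H := ⟨u, (hH u).2 (Commute.refl u)⟩ with hz
  have hzc : z ∈ Subgroup.center H :=
    Subgroup.mem_center_iff.2 fun g => Subtype.ext ((hH g).1 g.2).eq.symm
  obtain ⟨t₀, ht₀, ht₀n, hval⟩ := exists_value hH hM hu hind hd hχ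
  set n₀ := charDegree (φ₀ : H → ℂ) with hn₀
  set r₀ := n₀ / p ^ n₀.factorization p with hr₀
  have hr₀p : ¬ p ∣ r₀ := Nat.not_dvd_ordCompl hp (charDegree_pos φ₀).ne'
  have hn₀e : (n₀ : ℂ) = (p : ℂ) ^ minExp p b * (r₀ : ℂ) := by
    have h1 := exp_eq_add (p := p) hφ₀
    rw [h0, add_zero] at h1
    rw [← h1]
    exact_mod_cast (Nat.ordProj_mul_ordCompl_eq_self n₀ p).symm
  have hr00 : (r₀ : ℂ) ≠ 0 := Nat.cast_ne_zero.mpr fun e => hr₀p (e ▸ dvd_zero p)
  have hcof : (cofactor p H : ℂ) ≠ 0 :=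
    Nat.cast_ne_zero.mpr fun e => cofactor_not_dvd (G := H) hp (e ▸ dvd_zero p)
  have hp0 : (p : ℂ) ≠ 0 := Nat.cast_ne_zero.mpr hp.ne_zero
  set κ : ℂ := t₀ * (r₀ : ℂ)⁻¹ with hκ
  have hκR : MemLocalRing M κ := (localRing hM).mul_mem ht₀ (inv_natCast_mem hM hr₀p)
  refine ⟨κ, hκR, fun h => ht₀n (by
    have h' := ideal_mul_right hM h (natCast_mem (localRing hM) r₀)
    rwa [hκ, inv_mul_cancel_right₀ hr00] at h'), fun v hv => ?_⟩
  induction hv using Submodule.span_induction with
  | mem x hx =>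
    obtain ⟨φ, -, rfl⟩ := hx
    set Z : MonoidAlgebra ℂ H :=
      ofFun fun c => if p ∣ orderOf c then 0 else (φ : H → ℂ) c⁻¹ with hZ
    set y : MonoidAlgebra ℂ H := MonoidAlgebra.single z 1 * Z with hy
    have hycoe : ∀ c, y.coeff c = Z.coeff (z⁻¹ * c) := fun c => by
      rw [hy, coeff_mul_eq, Finset.sum_eq_single z]
      · simp
      · intro a _ ha; simp [Finsupp.single_apply, Ne.symm ha]
      · simp
    have hZc : ∀ g c : H, Z.coeff (g * c * g⁻¹) = Z.coeff c := fun g c => by
      simp only [hZ, coeff_ofFun]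
      rw [show g * c * g⁻¹ = MulAut.conj g c from rfl, MulEquiv.orderOf_eq, ← map_inv,
        MulAut.conj_apply, irr_classFun φ c⁻¹ g]
    have hyc : IsCen y := fun g c => by
      show y.coeff (c * g * c⁻¹) = y.coeff g
      rw [hycoe, hycoe, show z⁻¹ * (c * g * c⁻¹) = c * (z⁻¹ * g) * c⁻¹ by
        rw [← mul_assoc, ← mul_assoc, ← (Subgroup.mem_center_iff.1 (inv_mem hzc) c), mul_assoc c,
          mul_assoc], hZc]
    have hyi : IsInt M y := fun c => by
      rw [hycoe, hZ, coeff_ofFun]
      split_ifs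
      · exact (localRing hM).zero_mem
      · exact of_isIntegral hM (CharBasic.isCharacter_integral (irr_isCharacter φ) _)
    have hchi : ∀ ψ ∈ b, chiSum ((ψ : IrrCharacter H) : H → ℂ) y =
        (cofactor p H : ℂ) * (p : ℂ) ^ minExp p b * (S4716.lam z ψ * (col p b φ ψ : ℂ)) := by
      intro ψ hψ
      rw [← mul_left_comm, ← pair_eq_col hp hψ, pair, regSum_eq, chiSum_apply, Finset.mul_sum,
        ← Equiv.sum_comp (Equiv.mulLeft z)]
      refine Finset.sum_congr rfl fun c _ => ?_
      rw [Equiv.coe_mulLeft, hycoe, inv_mul_cancel_left, hZ, coeff_ofFun, S4716.lam_mul hzc, irr_inv]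
      split_ifs <;> ring
    obtain ⟨t, htR, hte, hts⟩ := hval y hyc hyi φ₀ hφ₀
    rw [chiSum_incl_mul_idem χ hyc] at hts
    have hlam : MemLocalIdeal M (S4716.lam z φ₀ - 1) := by
      obtain ⟨k, hk⟩ := hu
      refine S4716.root_congr_one hM (k := k) ?_
      rw [← S4716.lam_pow hzc, show z ^ p ^ k = 1 from Subtype.ext (by
        rw [Subgroup.coe_pow, ← hk, pow_orderOf_eq_one]; rfl), S4716.lam,
        div_self (irr_one_ne_zero φ₀)]
    refine ⟨t * (cofactor p H : ℂ)⁻¹,
      (localRing hM).mul_mem htR (inv_natCast_mem hM (cofactor_not_dvd (G := H) hp)), ?_, ?_⟩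
    · rw [omega_apply, hchi φ₀ hφ₀, apply_one_eq_charDegree φ₀, ← hn₀, hn₀e] at hte
      refine cast (congrArg (MemLocalIdeal M) ?_) (ideal_add hM
        (ideal_mul_right hM hte (inv_natCast_mem hM (cofactor_not_dvd (G := H) hp)))
        (ideal_mul_right hM hlam ((localRing hM).mul_mem hκR
          (intCast_mem (localRing hM) (col p b φ φ₀)))))
      rw [hκ]
      field_simp
      ring
    · rw [Finset.sum_congr rfl fun ψ hψ => by rw [hchi ψ (mem_members.1 hψ)]] at hts
      have hsum : sval z χ (col p b φ) =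
          ∑ ψ ∈ members b, (S4716.mult χ ψ : ℂ) * (S4716.lam z ψ * (col p b φ ψ : ℂ)) := by
        rw [sval]
        refine Eq.trans ?_ (Finset.sum_congr rfl fun ψ _ => mul_assoc _ _ _)
        refine (Finset.sum_subset (Finset.subset_univ _) fun ψ _ hψ => ?_).symm
        rw [show col p b φ ψ = 0 from if_neg fun h => hψ (mem_members.2 h)]
        simp
      have h2 : (cofactor p H : ℂ) * (p : ℂ) ^ minExp p b * sval z χ (col p b φ) =
          (p : ℂ) ^ (minExp p b + blockHeight p B (χ : G → ℂ)) * t := by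
        rw [hsum, ← hts, Finset.mul_sum]
        exact Finset.sum_congr rfl fun ψ _ => by ring
      refine mul_left_cancel₀ (mul_ne_zero hcof (pow_ne_zero (minExp p b) hp0)) (h2.trans ?_)
      rw [pow_add]
      field_simp
  | zero => exact ⟨0, (localRing hM).zero_mem, by simpa using ideal_zero hM, by simp [sval_zero]⟩
  | add x x' _ _ hx hx' =>
    obtain ⟨t, htR, hte, hts⟩ := hx
    obtain ⟨t', htR', hte', hts'⟩ := hx'
    refine ⟨t + t', (localRing hM).add_mem htR htR', ?_, by rw [sval_add, hts, hts']; ring⟩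
    exact cast (congrArg (MemLocalIdeal M) (by simp; ring)) (ideal_add hM hte hte')
  | smul n x _ hx =>
    obtain ⟨t, htR, hte, hts⟩ := hx
    refine ⟨n * t, (localRing hM).mul_mem (intCast_mem (localRing hM) n) htR, ?_,
      by rw [sval_smul, hts]; ring⟩
    exact cast (congrArg (MemLocalIdeal M) (by simp; ring))
      (ideal_mul_left hM (intCast_mem (localRing hM) n) hte)

theorem sval_ne_zero (hM : IsPModular p M) (hu : ∃ k, orderOf u = p ^ k)
    (hH : ∀ g, g ∈ H ↔ Commute u g) {b : Set (IrrCharacter H)} {B : Set (IrrCharacter G)}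
    (hind : IsInducedBlock M H b B) (hd : blockDefect p b = blockDefect p B) {φ₀ : IrrCharacter H}
    (hφ₀ : φ₀ ∈ b) (h0 : blockHeight p b (φ₀ : H → ℂ) = 0) {χ : IrrCharacter G} (hχ : χ ∈ B)
    {v : IrrCharacter H → ℤ} (hv : v ∈ lat p b) (hvn : ¬ (p : ℤ) ∣ v φ₀) :
    sval (⟨u, (hH u).2 (Commute.refl u)⟩ : H) χ v ≠ 0 := by
  obtain ⟨κ, hκR, hκn, h⟩ := exists_sval_value hM hu hH hind hd hφ₀ h0 hχ
  obtain ⟨t, -, hte, hts⟩ := h v hv
  rw [hts]
  refine mul_ne_zero (pow_ne_zero _ (Nat.cast_ne_zero.mpr hM.1.ne_zero)) fun ht => ?_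
  rw [ht, zero_sub] at hte
  exact not_ideal_mul hM hκR (intCast_mem (localRing hM) _) hκn
    (fun h' => hvn ((intCast_mem_iff hM _).1 h')) (neg_neg (κ * (v φ₀ : ℂ)) ▸ ideal_neg hte)

/-- Averaging over the conjugates: data for the powers of `u`. -/
theorem exists_mean (hM : IsPModular p M) (hu : ∃ k, orderOf u = p ^ k)
    (hH : ∀ g, g ∈ H ↔ Commute u g) {b : Set (IrrCharacter H)} {B : Set (IrrCharacter G)}
    (hind : IsInducedBlock M H b B) :
    ∃ m : IrrCharacter G → (IrrCharacter H → ℤ) → ℝ,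
      (∀ χ v, 0 ≤ m χ v) ∧
      (∀ χ v, sval (⟨u, (hH u).2 (Commute.refl u)⟩ : H) χ v ≠ 0 → 1 ≤ m χ v) ∧
      (∀ χ v (n : ℤ), m χ (n • v) = (n : ℝ) ^ 2 * m χ v) ∧
      (∀ v ∈ lat p b, ∑ χ ∈ members B, m χ v = (dot v v : ℝ)) := by
  set z : H := ⟨u, (hH u).2 (Commute.refl u)⟩ with hz
  have hzc : z ∈ Subgroup.center H :=
    Subgroup.mem_center_iff.2 fun g => Subtype.ext ((hH g).1 g.2).eq.symm
  obtain ⟨k, hk⟩ := hu
  set N := p ^ (k + 1) with hN
  have hN0 : 0 < N := pow_pos hM.1.pos _
  have hzk : z ^ N = 1 := by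
    refine Subtype.ext ?_
    rw [Subgroup.coe_pow, hN, pow_succ, pow_mul, ← hk, pow_orderOf_eq_one, one_pow]
    rfl
  have hlk : ∀ ξ : IrrCharacter H, S4716.lam z ξ ^ N = 1 := fun ξ => by
    rw [← S4716.lam_pow hzc, hzk, S4716.lam, div_self (irr_one_ne_zero ξ)]
  obtain ⟨ζ, hζ⟩ : ∃ ζ : ℂ, IsPrimitiveRoot ζ N := ⟨_, Complex.isPrimitiveRoot_exp N hN0.ne'⟩
  have : NeZero N := ⟨hN0.ne'⟩
  have hlam : ∀ ξ : IrrCharacter H, ∃ a < N, ζ ^ a = S4716.lam z ξ := fun ξ =>
    hζ.eq_pow_of_pow_eq_one (hlk ξ)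
  choose a haN ha using hlam
  set J := (Finset.range N).filter fun j => ¬ p ∣ j with hJ
  have hJpos : (0 : ℝ) < J.card := by
    refine Nat.cast_pos.2 (Finset.card_pos.2 ⟨1, ?_⟩)
    rw [hJ, Finset.mem_filter, Finset.mem_range]
    exact ⟨Nat.one_lt_pow k.succ_ne_zero hM.1.one_lt, hM.1.not_dvd_one⟩
  have hval : ∀ (j : ℕ) (χ : IrrCharacter G) (v : IrrCharacter H → ℤ), sval (z ^ j) χ v =
      ∑ ψ : IrrCharacter H, (((S4716.mult χ ψ : ℤ) * v ψ : ℤ) : ℂ) * ζ ^ (a ψ * j) := by
    intro j χ v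
    refine Finset.sum_congr rfl fun ψ _ => ?_
    rw [S4716.lam_pow hzc, ← ha ψ, ← pow_mul]
    push_cast
    ring
  refine ⟨fun χ v => (J.card : ℝ)⁻¹ * ∑ j ∈ J, Complex.normSq (sval (z ^ j) χ v),
    fun χ v => mul_nonneg (inv_nonneg.2 hJpos.le) (Finset.sum_nonneg fun j _ => Complex.normSq_nonneg _),
    fun χ v hne => ?_, fun χ v n => ?_, fun v hv => ?_⟩
  · beta_reduce
    rw [inv_mul_eq_div, le_div_iff₀ hJpos, one_mul]
    simp only [hval]
    refine BlockContribRoots.card_le_sum_normSq _ _ a hM.1 hζ fun h0 => hne ?_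
    have h1 := hval 1 χ v
    simp only [mul_one, pow_one] at h1
    rw [h1]
    exact h0
  · simp only [sval_smul, Complex.normSq_mul, Complex.normSq_intCast, ← Finset.mul_sum]
    ring
  · rw [← Finset.mul_sum, Finset.sum_comm, inv_mul_eq_div, div_eq_iff hJpos.ne',
      Finset.sum_congr rfl (g := fun _ => (dot v v : ℝ)) fun j hj => ?_,
      Finset.sum_const, nsmul_eq_mul, mul_comm]
    have hjp : ¬ p ∣ j := (Finset.mem_filter.1 hj).2
    have hcop : (orderOf u).Coprime j := hk ▸ (hM.1.coprime_iff_not_dvd.2 hjp).pow_left _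
    obtain ⟨r, hr⟩ := exists_pow_eq_self_of_coprime hcop.symm
    have hHj : ∀ g, g ∈ H ↔ Commute (u ^ j) g := fun g => by
      rw [hH]
      exact ⟨fun h => h.pow_left j, fun h => by rw [← hr]; exact h.pow_left r⟩
    have hvj : ∃ i, orderOf (u ^ j) = p ^ i := ⟨k, by rw [Nat.Coprime.orderOf_pow hcop, hk]⟩
    have h := sum_sval hM hvj hHj hind hv hv
    rw [show (⟨u ^ j, (hHj (u ^ j)).2 (Commute.refl _)⟩ : H) = z ^ j from Subtype.ext (by simp [hz])] at h
    apply Complex.ofReal_injective
    push_cast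
    rw [← h]
    exact Finset.sum_congr rfl fun χ _ => by rw [← Complex.mul_conj]

/-- A lattice vector of norm prime to `p` bounds the block. -/
theorem card_le_form (hM : IsPModular p M) (hu : ∃ k, orderOf u = p ^ k)
    (hH : ∀ g, g ∈ H ↔ Commute u g) {b : Set (IrrCharacter H)} {B : Set (IrrCharacter G)}
    (hind : IsInducedBlock M H b B) (hd : blockDefect p b = blockDefect p B)
    {v : IrrCharacter H → ℤ} (hv : v ∈ lat p b) (hn : ¬ (p : ℤ) ∣ form p b v v) :
    (Nat.card B : ℤ) ≤ (p : ℤ) ^ blockDefect p b * form p b v v := by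
  obtain ⟨φ₀, hφ₀, h0⟩ := exists_height_zero hM hind.1
  have hvn := not_dvd_coord hM hind.1 hφ₀ h0 hv hn
  obtain ⟨m, -, hm1, -, hmsum⟩ := exists_mean hM hu hH hind
  rw [← form_spec hM hind.1 hv hv, card_members]
  have : ((members B).card : ℝ) ≤ (dot v v : ℝ) := by
    rw [← hmsum v hv, Finset.card_eq_sum_ones, Nat.cast_sum, Nat.cast_one]
    exact Finset.sum_le_sum fun χ hχ =>
      hm1 χ v (sval_ne_zero hM hu hH hind hd hφ₀ h0 (mem_members.1 hχ) hv hvn)
  exact_mod_cast this

end Values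

end Cfsg.Agent.BlockMajorLattice82
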