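import Cfsg.Agent.S4716

/-!
Integer combinations of roots of unity of two-power order which are fixed by complex conjugation.
-/

set_option autoImplicit false

namespace Cfsg.Agent.BlockRealRoots81

open Cfsg Cfsg.Agent.BlockTheoryLocalRing Cfsg.Agent.BlockContrib

variable {M : Ideal AlgInt} {k : ℕ} {ζ : ℂ}

/-- The primitive exponents. -/
def oddSet (k : ℕ) : Finset ℕ := (Finset.range (2 ^ (k + 1))).filter fun j => ¬ 2 ∣ j

/-- The coordinates of a root of unity in the power basis. -/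
def coef (k f r : ℕ) : ℤ :=
  if f % 2 ^ (k + 1) = r then 1 else if f % 2 ^ (k + 1) = r + 2 ^ k then -1 else 0

theorem oddSet_eq (k : ℕ) :
    oddSet k = (Finset.range (2 ^ k)).image fun t => 2 * t + 1 := by
  ext j
  simp only [oddSet, Finset.mem_filter, Finset.mem_range, Finset.mem_image, pow_succ]
  constructor
  · rintro ⟨hj, hodd⟩
    exact ⟨j / 2, by omega, by omega⟩
  · rintro ⟨t, ht, rfl⟩
    exact ⟨by omega, by omega⟩

theorem card_oddSet (k : ℕ) : (oddSet k).card = 2 ^ k := by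
  rw [oddSet_eq, Finset.card_image_of_injective _ (fun a b h => by simpa using h),
    Finset.card_range]

theorem not_dvd_of_mem {j : ℕ} (hj : j ∈ oddSet k) : ¬ 2 ∣ j := (Finset.mem_filter.1 hj).2

theorem pow_half (hζ : IsPrimitiveRoot ζ (2 ^ (k + 1))) : ζ ^ 2 ^ k = -1 := by
  have h2 : IsPrimitiveRoot (ζ ^ 2 ^ k) 2 :=
    hζ.pow (pow_pos two_pos _) (by rw [pow_succ])
  exact h2.eq_neg_one_of_two_right

theorem pow_eq_sum (hζ : IsPrimitiveRoot ζ (2 ^ (k + 1))) {j : ℕ} (hj : ¬ 2 ∣ j) (f : ℕ) :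
    ζ ^ (f * j) = ∑ r ∈ Finset.range (2 ^ k), (coef k f r : ℂ) * ζ ^ (r * j) := by
  set N := 2 ^ (k + 1) with hN
  have hN2 : N = 2 ^ k + 2 ^ k := by rw [hN, pow_succ]; omega
  have hlt : f % N < N := Nat.mod_lt _ (pow_pos two_pos _)
  have hred : ζ ^ (f * j) = ζ ^ (f % N * j) := by
    conv_lhs => rw [← Nat.mod_add_div f N, add_mul, pow_add, mul_assoc N, pow_mul ζ N,
      hζ.pow_eq_one, one_pow, mul_one]
  rw [hred]
  by_cases hc : f % N < 2 ^ k
  · rw [Finset.sum_eq_single (f % N)]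
    · simp [coef, ← hN]
    · intro r hr hne
      rw [Finset.mem_range] at hr
      rw [coef, ← hN, if_neg (Ne.symm hne), if_neg (by omega)]
      simp
    · intro h; exact absurd (Finset.mem_range.mpr hc) h
  · rw [Finset.sum_eq_single (f % N - 2 ^ k)]
    · rw [coef, ← hN, if_neg (by have := Nat.one_le_two_pow (n := k); omega), if_pos (by omega)]
      have hneg : ζ ^ (2 ^ k * j) = -1 := by
        rw [pow_mul, pow_half hζ, neg_one_pow_eq_pow_mod_two,
          show j % 2 = 1 by omega, pow_one]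
      conv_lhs => rw [show f % N = 2 ^ k + (f % N - 2 ^ k) by omega, add_mul, pow_add, hneg]
      simp
    · intro r hr hne
      rw [Finset.mem_range] at hr
      rw [coef, ← hN, if_neg (by omega), if_neg (by omega)]
      simp
    · intro h; exact absurd (Finset.mem_range.mpr (by omega)) h

theorem sum_oddSet (hζ : IsPrimitiveRoot ζ (2 ^ (k + 1))) {r : ℕ} (hr : r < 2 ^ k) :
    ∑ j ∈ oddSet k, ζ ^ (r * j) = if r = 0 then (2 ^ k : ℂ) else 0 := by
  by_cases hr0 : r = 0
  · simp [hr0, card_oddSet]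
  rw [if_neg hr0, oddSet_eq, Finset.sum_image (fun a _ b _ h => by simpa using h)]
  have hη : IsPrimitiveRoot (ζ ^ 2) (2 ^ k) :=
    hζ.pow (pow_pos two_pos _) (by rw [pow_succ, mul_comm])
  set x := (ζ ^ 2) ^ r with hx
  have hx1 : x ≠ 1 := hη.pow_ne_one_of_pos_of_lt hr0 hr
  have hxN : x ^ 2 ^ k = 1 := by rw [hx, ← pow_mul, mul_comm, pow_mul, hη.pow_eq_one, one_pow]
  rw [Finset.sum_congr rfl (g := fun t => ζ ^ r * x ^ t) fun t _ => by
    rw [hx, ← pow_mul, ← pow_mul, ← pow_add]; ring_nf, ← Finset.mul_sum]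
  have h0 := geom_sum_mul x (2 ^ k)
  rw [hxN, sub_self] at h0
  rw [(mul_eq_zero.1 h0).resolve_right (sub_ne_zero.2 hx1), mul_zero]

theorem coef_neg {f f' r : ℕ} (hf : (f' + f) % 2 ^ (k + 1) = 0) (hr0 : 0 < r) (hr : r < 2 ^ k) :
    coef k f' (2 ^ k - r) = - coef k f r := by
  have hN2 : 2 ^ (k + 1) = 2 ^ k + 2 ^ k := by rw [pow_succ]; omega
  set N := 2 ^ (k + 1) with hN
  rw [Nat.add_mod] at hf
  have h1 : f' % N < N := Nat.mod_lt _ (pow_pos two_pos _)
  have h2 : f % N < N := Nat.mod_lt _ (pow_pos two_pos _)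
  have hsum : f' % N + f % N = 0 ∨ f' % N + f % N = N := by
    by_cases h : f' % N + f % N < N
    · left; rwa [Nat.mod_eq_of_lt h] at hf
    · right
      rw [Nat.mod_eq_sub_mod (by omega), Nat.mod_eq_of_lt (by omega)] at hf
      omega
  simp only [coef, ← hN]
  split_ifs <;> omega

/-- If half of the element is in the local ring then all its coordinates are even. -/
theorem two_dvd_coord (hM : IsPModular 2 M) (hζ : IsPrimitiveRoot ζ (2 ^ (k + 1))) (a : ℕ → ℤ)
    (h : MemLocalRing M ((∑ r ∈ Finset.range (2 ^ k), (a r : ℂ) * ζ ^ r) / 2)) :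
    ∀ r < 2 ^ k, (2 : ℤ) ∣ a r := by
  set h0 := 2 ^ k with hh0
  have hint : MemLocalRing M ζ := of_isIntegral hM (hζ.isIntegral (pow_pos two_pos _))
  set π : ℂ := 1 - ζ with hπ
  have hπI : MemLocalIdeal M π := by
    have := ideal_neg (S4716.root_congr_one hM (k := k + 1) hζ.pow_eq_one)
    rwa [neg_sub] at this
  have hπR : MemLocalRing M π := ideal_le_ring hπI
  -- `2` is a multiple of `π ^ (2 ^ k)`
  obtain ⟨u, huR, hu⟩ : ∃ u : ℂ, MemLocalRing M u ∧ (2 : ℂ) = π ^ h0 * u := by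
    obtain ⟨c, hc⟩ := exists_add_pow_prime_pow_eq Nat.prime_two (1 : localRing hM)
      (-(⟨π, hπR⟩ : localRing hM)) k
    have hc' := congrArg Subtype.val hc
    push_cast at hc'
    have h2c : ∀ x : localRing hM, x = 2 → (x : ℂ) = 2 := fun x hx => by
      rw [hx]; exact map_ofNat (localRing hM).subtype 2
    rw [h2c _ rfl] at hc'
    rw [hπ, neg_sub, add_sub_cancel, ← hh0, pow_half hζ] at hc'
    have hw : MemLocalIdeal M ((ζ - 1) * (c : ℂ)) :=
      ideal_mul_right hM (S4716.root_congr_one hM (k := k + 1) hζ.pow_eq_one) c.2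
    have hne : ¬ MemLocalIdeal M (1 + (ζ - 1) * (c : ℂ)) := fun h1 => one_not_ideal hM
      (cast (congrArg (MemLocalIdeal M) (by ring)) (ideal_sub hM h1 hw))
    have hR : MemLocalRing M (1 + (ζ - 1) * (c : ℂ)) :=
      (localRing hM).add_mem (localRing hM).one_mem (ideal_le_ring hw)
    have hne0 : (1 + (ζ - 1) * (c : ℂ)) ≠ 0 := fun e => hne (e ▸ ideal_zero hM)
    have hpi : (ζ - 1) ^ h0 = -2 * (1 + (ζ - 1) * (c : ℂ)) := by
      rw [one_pow] at hc'
      linear_combination -hc'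
    refine ⟨(-1) ^ h0 * (-1) * (1 + (ζ - 1) * (c : ℂ))⁻¹, (localRing hM).mul_mem
      ((localRing hM).mul_mem ((localRing hM).pow_mem ((localRing hM).neg_mem
        (localRing hM).one_mem) _) ((localRing hM).neg_mem (localRing hM).one_mem))
      (inv_mem hM hR hne), ?_⟩
    rw [hπ, ← mul_assoc, ← mul_assoc, ← mul_pow, show (1 - ζ) * -1 = ζ - 1 by ring, hpi]
    field_simp
  set P : Polynomial ℤ := ∑ r ∈ Finset.range h0, Polynomial.C (a r) * Polynomial.X ^ r with hP
  set Q : Polynomial ℤ := P.comp (1 - Polynomial.X) with hQ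
  have hh1 : 0 < h0 := pow_pos two_pos k
  have hPdeg : P.natDegree ≤ h0 - 1 :=
    Polynomial.natDegree_sum_le_of_forall_le _ _ fun r hr =>
      (Polynomial.natDegree_C_mul_X_pow_le _ _).trans (by
        have := Finset.mem_range.1 hr; omega)
  have hQdeg : Q.natDegree < h0 := by
    have h1 : (1 - Polynomial.X : Polynomial ℤ).natDegree ≤ 1 :=
      (Polynomial.natDegree_sub_le _ _).trans (by simp)
    have := (Polynomial.natDegree_comp_le (p := P) (q := 1 - Polynomial.X)).trans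
      (Nat.mul_le_mul hPdeg h1)
    rw [hQ]; omega
  have hval : ∑ r ∈ Finset.range h0, (a r : ℂ) * ζ ^ r =
      ∑ s ∈ Finset.range h0, (Q.coeff s : ℂ) * π ^ s := by
    have h1 : Polynomial.aeval π Q = ∑ r ∈ Finset.range h0, (a r : ℂ) * ζ ^ r := by
      rw [hQ, Polynomial.aeval_comp, map_sub, Polynomial.aeval_one, Polynomial.aeval_X, hπ,
        sub_sub_cancel, hP, map_sum]
      exact Finset.sum_congr rfl fun r _ => by simp
    rw [← h1, Polynomial.aeval_eq_sum_range' hQdeg]
    exact Finset.sum_congr rfl fun s _ => by simp [Algebra.smul_def]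
  rw [hval] at h
  have heven : ∀ s < h0, (2 : ℤ) ∣ Q.coeff s := by
    intro s
    induction s using Nat.strong_induction_on with
    | _ s ih =>
      intro hs
      have hlow : MemLocalRing M ((∑ t ∈ Finset.range s, (Q.coeff t : ℂ) * π ^ t) / 2) := by
        rw [Finset.sum_div]
        refine (localRing hM).sum_mem fun t ht => ?_
        obtain ⟨e, he⟩ := ih t (Finset.mem_range.1 ht) ((Finset.mem_range.1 ht).trans hs)
        rw [he]
        push_cast
        rw [show (2 : ℂ) * (e : ℂ) * π ^ t / 2 = (e : ℂ) * π ^ t by ring]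
        exact (localRing hM).mul_mem (intCast_mem (localRing hM) e) ((localRing hM).pow_mem hπR t)
      set T := ∑ t ∈ Finset.Ico (s + 1) h0, (Q.coeff t : ℂ) * π ^ (t - (s + 1)) with hT
      have hTR : MemLocalRing M T := (localRing hM).sum_mem fun t _ =>
        (localRing hM).mul_mem (intCast_mem (localRing hM) _) ((localRing hM).pow_mem hπR _)
      have hdiff : MemLocalRing M ((π ^ s * ((Q.coeff s : ℂ) + π * T)) / 2) := by
        refine cast (congrArg (MemLocalRing M) ?_) ((localRing hM).sub_mem h hlow)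
        rw [← sub_div, ← Finset.sum_range_add_sum_Ico _ hs.le, add_sub_cancel_left,
          Finset.sum_eq_sum_Ico_succ_bot hs, hT, Finset.mul_sum, mul_add, Finset.mul_sum]
        congr 1
        refine congrArg₂ (· + ·) (mul_comm _ _) (Finset.sum_congr rfl fun t ht => ?_)
        have ht' := (Finset.mem_Ico.1 ht).1
        conv_lhs => rw [show t = s + 1 + (t - (s + 1)) by omega, pow_add, pow_succ]
        rw [show s + 1 + (t - (s + 1)) = t by omega]
        ring
      have hπ0 : π ≠ 0 := fun e => by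
        rw [e, zero_pow hh1.ne', zero_mul] at hu
        exact two_ne_zero hu
      have hI : MemLocalIdeal M (π ^ (h0 - s) * u) := by
        rw [show h0 - s = (h0 - s - 1) + 1 by omega, pow_succ]
        exact ideal_mul_right hM (ideal_mul_left hM ((localRing hM).pow_mem hπR _) hπI) huR
      have h3 := ideal_mul_left hM hdiff hI
      have hkey : (π ^ s * ((Q.coeff s : ℂ) + π * T)) / 2 * (π ^ (h0 - s) * u) =
          (Q.coeff s : ℂ) + π * T := by
        have hp : π ^ s * π ^ (h0 - s) = π ^ h0 := by rw [← pow_add]; congr 1; omega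
        field_simp
        linear_combination ((Q.coeff s : ℂ) + π * T) * u * hp - ((Q.coeff s : ℂ) + π * T) * hu
      rw [hkey] at h3
      have h4 := ideal_sub hM h3 (ideal_mul_right hM hπI hTR)
      rw [add_sub_cancel_right] at h4
      exact (intCast_mem_iff hM _).1 h4
  have hQ2 : Q.map (Int.castRingHom (ZMod 2)) = 0 := by
    ext s
    rw [Polynomial.coeff_map, Polynomial.coeff_zero, eq_intCast]
    by_cases hs : s < h0
    · exact (ZMod.intCast_zmod_eq_zero_iff_dvd _ 2).2 (heven s hs)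
    · rw [Polynomial.coeff_eq_zero_of_natDegree_lt (by omega), Int.cast_zero]
  have hP2 : P.map (Int.castRingHom (ZMod 2)) = 0 := by
    have h1 : P = Q.comp (1 - Polynomial.X) := by
      rw [hQ, Polynomial.comp_assoc]
      simp
    rw [h1, Polynomial.map_comp, hQ2, Polynomial.zero_comp]
  intro r hr
  have h2 := congrArg (fun q => Polynomial.coeff q r) hP2
  have hPr : P.coeff r = a r := by
    rw [hP, Polynomial.finsetSum_coeff, Finset.sum_eq_single r]
    · rw [Polynomial.coeff_C_mul_X_pow, if_pos rfl]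
    · intro b _ hb
      rw [Polynomial.coeff_C_mul_X_pow, if_neg (Ne.symm hb)]
    · intro h; exact absurd (Finset.mem_range.mpr hr) h
  simp only [Polynomial.coeff_map, Polynomial.coeff_zero, eq_intCast, hPr] at h2
  exact (ZMod.intCast_zmod_eq_zero_iff_dvd _ 2).1 h2

/-- The mean over the conjugates of a real combination. -/
theorem exists_mean (hM : IsPModular 2 M) (hζ : IsPrimitiveRoot ζ (2 ^ (k + 1))) {ι : Type*}
    (s : Finset ι) (q : ι → ℤ) (f : ι → ℕ) (τ : ι → ι) (hτs : ∀ i ∈ s, τ i ∈ s)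
    (hττ : ∀ i ∈ s, τ (τ i) = i) (hqτ : ∀ i ∈ s, q (τ i) = q i)
    (hfτ : ∀ i ∈ s, (f (τ i) + f i) % 2 ^ (k + 1) = 0) :
    ∃ m : ℤ,
      ∑ j ∈ oddSet k, ∑ i ∈ s, (q i : ℂ) * ζ ^ (f i * j) = (2 ^ k : ℂ) * (m : ℂ) ∧
      (2 ^ k : ℝ) * (m : ℝ) ^ 2 ≤
        ∑ j ∈ oddSet k, Complex.normSq (∑ i ∈ s, (q i : ℂ) * ζ ^ (f i * j)) ∧
      MemLocalIdeal M ((∑ i ∈ s, (q i : ℂ) * ζ ^ f i) - (m : ℂ)) ∧
      (MemLocalIdeal M ((∑ i ∈ s, (q i : ℂ) * ζ ^ f i) / 2) → (4 : ℤ) ∣ m) := by
  set a : ℕ → ℤ := fun r => ∑ i ∈ s, q i * coef k (f i) r with ha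
  have hexp : ∀ j, ¬ 2 ∣ j → ∑ i ∈ s, (q i : ℂ) * ζ ^ (f i * j) =
      ∑ r ∈ Finset.range (2 ^ k), (a r : ℂ) * ζ ^ (r * j) := by
    intro j hj
    simp only [ha, Int.cast_sum, Int.cast_mul, Finset.sum_mul]
    rw [Finset.sum_comm]
    refine Finset.sum_congr rfl fun i _ => ?_
    rw [pow_eq_sum hζ hj, Finset.mul_sum]
    exact Finset.sum_congr rfl fun r _ => by ring
  have hanti : ∀ r, 0 < r → r < 2 ^ k → a (2 ^ k - r) = - a r := by
    intro r h0 hr
    simp only [ha, ← Finset.sum_neg_distrib]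
    refine Finset.sum_bij' (fun i _ => τ i) (fun i _ => τ i) hτs hτs hττ hττ fun i hi => ?_
    rw [hqτ i hi, ← mul_neg]
    congr 1
    rw [← coef_neg (f' := f i) (f := f (τ i)) (by rw [add_comm]; exact hfτ i hi) h0 hr]
  have htot : ∀ b : ℕ → ℤ, (∀ r, 0 < r → r < 2 ^ k → b (2 ^ k - r) = - b r) →
      ∑ r ∈ Finset.range (2 ^ k), b r = b 0 := by
    intro b hb
    have h1 : 0 < 2 ^ k := pow_pos two_pos k
    rw [Finset.range_eq_Ico, Finset.sum_eq_sum_Ico_succ_bot h1]
    have h2 : ∑ r ∈ Finset.Ico (0 + 1) (2 ^ k), b r = - ∑ r ∈ Finset.Ico (0 + 1) (2 ^ k), b r := by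
      rw [← Finset.sum_neg_distrib]
      refine Finset.sum_bij' (fun r _ => 2 ^ k - r) (fun r _ => 2 ^ k - r) ?_ ?_ ?_ ?_ ?_ <;>
        intro r hr <;> simp only [Finset.mem_Ico] at * <;> try omega
      rw [hb r (by omega) (by omega), neg_neg]
    omega
  refine ⟨a 0, ?_, ?_, ?_, ?_⟩
  · rw [Finset.sum_congr rfl fun j hj => hexp j (not_dvd_of_mem hj), Finset.sum_comm]
    rw [Finset.sum_congr rfl (g := fun r => (a r : ℂ) * if r = 0 then (2 ^ k : ℂ) else 0)
      fun r hr => by rw [← Finset.mul_sum, sum_oddSet hζ (Finset.mem_range.1 hr)]]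
    simp [mul_comm]
  · set F : ℕ → ℂ := fun j => ∑ i ∈ s, (q i : ℂ) * ζ ^ (f i * j) with hF
    have hsum : ∑ j ∈ oddSet k, (F j).re = (2 ^ k : ℝ) * (a 0 : ℝ) := by
      rw [← Complex.re_sum, hF, Finset.sum_congr rfl fun j hj => hexp j (not_dvd_of_mem hj),
        Finset.sum_comm, Finset.sum_congr rfl (g := fun r => (a r : ℂ) * if r = 0 then (2 ^ k : ℂ) else 0)
        fun r hr => by rw [← Finset.mul_sum, sum_oddSet hζ (Finset.mem_range.1 hr)]]
      simp only [mul_ite, mul_zero, Finset.sum_ite_eq', Finset.mem_range, pow_pos (two_pos : (0:ℕ) < 2),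
        if_true]
      rw [show (2 : ℂ) ^ k = ((2 ^ k : ℝ) : ℂ) by push_cast; ring,
        show (a 0 : ℂ) = ((a 0 : ℝ) : ℂ) by push_cast; ring, ← Complex.ofReal_mul, Complex.ofReal_re]
      ring
    have hcs := sq_sum_le_card_mul_sum_sq (s := oddSet k) (f := fun j => (F j).re)
    rw [hsum, card_oddSet] at hcs
    push_cast at hcs
    have hle : ∑ j ∈ oddSet k, (F j).re ^ 2 ≤ ∑ j ∈ oddSet k, Complex.normSq (F j) :=
      Finset.sum_le_sum fun j _ => by
        rw [Complex.normSq_apply]; nlinarith [mul_self_nonneg (F j).im]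
    refine le_trans ?_ hle
    refine le_of_mul_le_mul_left ?_ (pow_pos two_pos k : (0 : ℝ) < 2 ^ k)
    nlinarith [hcs]
  · have h1 := hexp 1 (by omega)
    simp only [mul_one] at h1
    rw [h1, ← htot a hanti, Int.cast_sum, ← Finset.sum_sub_distrib]
    refine ideal_sum hM fun r _ => ?_
    rw [show (a r : ℂ) * ζ ^ r - (a r : ℂ) = (a r : ℂ) * (ζ ^ r - 1) by ring]
    exact ideal_mul_left hM (intCast_mem (localRing hM) _)
      (S4716.root_congr_one hM (k := k + 1) (by
        rw [← pow_mul, mul_comm, pow_mul, hζ.pow_eq_one, one_pow]))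
  · intro hI
    have h1 := hexp 1 (by omega)
    simp only [mul_one] at h1
    rw [h1] at hI
    have hev := two_dvd_coord hM hζ a (ideal_le_ring hI)
    set b : ℕ → ℤ := fun r => a r / 2 with hb
    have hab : ∀ r < 2 ^ k, a r = 2 * b r := fun r hr => (Int.mul_ediv_cancel' (hev r hr)).symm
    have hb0 := htot b fun r h0 hr => by
      have := hanti r h0 hr
      rw [hab r hr, hab _ (by omega)] at this
      omega
    have h2 : MemLocalIdeal M ((b 0 : ℤ) : ℂ) := by
      rw [← hb0, Int.cast_sum]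
      have h3 : MemLocalIdeal M (∑ r ∈ Finset.range (2 ^ k), (b r : ℂ) * (ζ ^ r - 1)) :=
        ideal_sum hM fun r _ => ideal_mul_left hM (intCast_mem (localRing hM) _)
          (S4716.root_congr_one hM (k := k + 1) (by
            rw [← pow_mul, mul_comm, pow_mul, hζ.pow_eq_one, one_pow]))
      refine cast (congrArg (MemLocalIdeal M) ?_) (ideal_sub hM hI h3)
      rw [Finset.sum_div, ← Finset.sum_sub_distrib]
      refine Finset.sum_congr rfl fun r hr => ?_
      rw [hab r (Finset.mem_range.1 hr)]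
      push_cast
      ring
    obtain ⟨c, hc⟩ := (intCast_mem_iff hM _).1 h2
    refine ⟨c, ?_⟩
    rw [hab 0 (pow_pos two_pos k), hc]
    push_cast
    ring

end Cfsg.Agent.BlockRealRoots81
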