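import Cfsg.Agent.Lib.BlockSectionDegree81
import Cfsg.Agent.Lib.BlockRealRoots81
import Cfsg.Agent.Lib.BlockMajorLattice82

/-!
The contribution matrix of a subsection: row norms, trace and the diagonal means for `p = 2`.
-/

set_option autoImplicit false

namespace Cfsg.Agent.BlockContribMatrix81

open Cfsg Cfsg.Agent.BlockTheoryLocalRing Cfsg.Agent.BlockTheoryCentre Cfsg.Agent.BlockTheoryIdem
open Cfsg.Agent.BlockContrib Cfsg.Agent.BlockContribBounds Cfsg.Agent.ClassAlgebraVal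
open Cfsg.Agent.BlockContribSection Cfsg.Agent.BlockMajorLattice82 Cfsg.Agent.S4716
open scoped ComplexConjugate

attribute [local instance] Classical.propDecidable

set_option linter.unusedSectionVars false

variable {p : ℕ} [Fact p.Prime] {M : Ideal AlgInt} {G : Type*} [Group G] [Fintype G] {u : G}
  {H : Subgroup G}

/-- The entry without the roots of unity is prime to `p` in every subsection. -/
theorem entry_sum_not_ideal (hM : IsPModular p M) (hu : ∃ k, orderOf u = p ^ k)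
    (hH : ∀ g, g ∈ H ↔ Commute u g) {b : Set (IrrCharacter H)} {B : Set (IrrCharacter G)}
    (hind : IsInducedBlock M H b B)
    {χ ψ : IrrCharacter G} (hχ : χ ∈ B) (hψ : ψ ∈ B) (hχ0 : blockHeight p B (χ : G → ℂ) = 0)
    (hψ0 : blockHeight p B (ψ : G → ℂ) = 0) :
    ¬ MemLocalIdeal M (∑ ξ ∈ members b, ∑ η ∈ members b,
      (mult χ ξ : ℂ) * (mult ψ η : ℂ) * (contrib p b ξ η : ℂ)) := by
  have hb := hind.1
  set e := minExp p b with he
  obtain ⟨φ, hφ, hφ0⟩ := exists_height_zero hM hb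
  set D : IrrCharacter H → ℕ := fun ξ => charDegree (ξ : H → ℂ) / p ^ e with hD
  have hDmul : ∀ ξ ∈ b, charDegree (ξ : H → ℂ) = p ^ e * D ξ := fun ξ hξ =>
    (Nat.mul_div_cancel' ((pow_dvd_pow p (minExp_le (p := p) hξ)).trans (Nat.ordProj_dvd _ p))).symm
  have hDφ : ¬ p ∣ D φ := by
    have h := Nat.not_dvd_ordCompl hM.1 (charDegree_pos φ).ne'
    rwa [exp_eq_add (p := p) hφ, hφ0, add_zero] at h
  have hDφ0 : (D φ : ℂ) ≠ 0 := Nat.cast_ne_zero.2 fun h => hDφ (h ▸ dvd_zero p)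
  have hcof : ¬ p ∣ cofactor p H := cofactor_not_dvd hM.1
  have hcof0 : (cofactor p H : ℂ) ≠ 0 := Nat.cast_ne_zero.2 fun h => hcof (h ▸ dvd_zero p)
  have hp0 : ((p : ℂ) ^ e) ≠ 0 := pow_ne_zero _ (Nat.cast_ne_zero.2 hM.1.ne_zero)
  have hZ : ∀ n : ℤ, MemLocalRing M (n : ℂ) := fun n => intCast_mem (localRing hM) n
  have hN : ∀ n : ℕ, MemLocalRing M (n : ℂ) := fun n => natCast_mem (localRing hM) n
  have hstep : ∀ ξ, ∀ η ∈ b, MemLocalIdeal M
      ((contrib p b ξ η : ℂ) - (D η : ℂ) * (D φ : ℂ)⁻¹ * (contrib p b ξ φ : ℂ)) := by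
    intro ξ η hη
    have hDη : (D η : ℂ) ≠ 0 := Nat.cast_ne_zero.2 fun h => (charDegree_pos η).ne' (by rw [hDmul η hη, h, mul_zero])
    have h := pair_div_congr hM ξ (sameBlock_of_mem hM hb hη hφ)
    rw [pair_eq_contrib hM.1 ξ hη, pair_eq_contrib hM.1 ξ hφ, apply_one_eq_charDegree η,
      apply_one_eq_charDegree φ, hDmul η hη, hDmul φ hφ] at h
    push_cast at h
    have h2 := ideal_mul_right hM h ((localRing hM).mul_mem (hN (D η)) (inv_natCast_mem hM hcof))
    convert h2 using 1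
    rw [← he]
    field_simp
  set κ : ℂ := ((D φ : ℂ)⁻¹ * (D φ : ℂ)⁻¹) * (contrib p b φ φ : ℂ) with hκ
  have hκu : ¬ MemLocalIdeal M κ := by
    refine not_ideal_mul hM ((localRing hM).mul_mem (inv_natCast_mem hM hDφ) (inv_natCast_mem hM hDφ))
      (hZ _) (fun h => ?_) fun h => ?_
    · have h' := ideal_mul_right hM h ((localRing hM).mul_mem (hN (D φ)) (hN (D φ)))
      rw [show (D φ : ℂ)⁻¹ * (D φ : ℂ)⁻¹ * ((D φ : ℂ) * (D φ : ℂ)) = 1 by field_simp] at h'
      exact one_not_ideal hM h'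
    · have h' := contrib_not_dvd hM hb hφ hφ0 hφ
      rw [hφ0, zero_add, pow_one] at h'
      exact h' ((intCast_mem_iff hM _).1 h)
  have hcong : ∀ ξ ∈ b, ∀ η ∈ b,
      MemLocalIdeal M ((contrib p b ξ η : ℂ) - κ * ((D ξ : ℂ) * (D η : ℂ))) := by
    intro ξ hξ η hη
    have h1 := hstep ξ η hη
    have h2 := hstep φ ξ hξ
    rw [contrib_comm hM.1 hξ hφ] at h1
    have h3 := ideal_add hM h1 (ideal_mul_left hM
      ((localRing hM).mul_mem (hN (D η)) (inv_natCast_mem hM hDφ)) h2)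
    convert h3 using 1
    rw [hκ]; ring
  have hT : ∀ χ : IrrCharacter G, χ ∈ B → blockHeight p B (χ : G → ℂ) = 0 →
      ¬ MemLocalIdeal M (∑ ξ ∈ members b, (mult χ ξ : ℂ) * (D ξ : ℂ)) := fun χ hχ hχ0 =>
    BlockSectionDegree81.sum_mult_degree_not_ideal hM hu hH hind hχ hχ0
  intro hI
  set Tχ := ∑ ξ ∈ members b, (mult χ ξ : ℂ) * (D ξ : ℂ) with hTχ
  set Tψ := ∑ η ∈ members b, (mult ψ η : ℂ) * (D η : ℂ) with hTψ
  have hTm : ∀ χ : IrrCharacter G, MemLocalRing M (∑ ξ ∈ members b, (mult χ ξ : ℂ) * (D ξ : ℂ)) := fun χ =>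
    (localRing hM).sum_mem fun ξ _ => (localRing hM).mul_mem (hN _) (hN _)
  have hκm : MemLocalRing M κ := (localRing hM).mul_mem
    ((localRing hM).mul_mem (inv_natCast_mem hM hDφ) (inv_natCast_mem hM hDφ)) (hZ _)
  refine not_ideal_mul hM hκm ((localRing hM).mul_mem (hTm χ) (hTm ψ)) hκu
    (not_ideal_mul hM (hTm χ) (hTm ψ) (hT χ hχ hχ0) (hT ψ hψ hψ0)) ?_
  have hdiff : MemLocalIdeal M (∑ ξ ∈ members b, ∑ η ∈ members b,
      ((mult χ ξ : ℂ) * (mult ψ η : ℂ)) *
        ((contrib p b ξ η : ℂ) - κ * ((D ξ : ℂ) * (D η : ℂ)))) :=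
    ideal_sum hM fun ξ hξ => ideal_sum hM fun η hη => ideal_mul_left hM
      ((localRing hM).mul_mem (hN _) (hN _)) (hcong ξ (mem_members.1 hξ) η (mem_members.1 hη))
  convert ideal_sub hM hI hdiff using 1
  rw [Finset.sum_mul_sum]
  simp only [Finset.mul_sum, ← Finset.sum_sub_distrib]
  exact Finset.sum_congr rfl fun ξ _ => Finset.sum_congr rfl fun η _ => by ring

theorem lam_root (hu : ∃ k, orderOf u = p ^ k) (hH : ∀ g, g ∈ H ↔ Commute u g) :
    ∃ k, ∀ ξ : IrrCharacter H,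
      lam (⟨u, (hH u).2 (Commute.refl u)⟩ : H) ξ ^ p ^ k = 1 := by
  set z : H := ⟨u, (hH u).2 (Commute.refl u)⟩ with hz
  have hzc : z ∈ Subgroup.center H :=
    Subgroup.mem_center_iff.2 fun g => Subtype.ext ((hH g).1 g.2).eq.symm
  obtain ⟨k, hk⟩ := hu
  refine ⟨k, fun ξ => ?_⟩
  rw [← lam_pow hzc, show z ^ p ^ k = 1 from Subtype.ext (by
    rw [Subgroup.coe_pow, ← hk, pow_orderOf_eq_one]; rfl), lam, div_self (irr_one_ne_zero ξ)]

/-- An entry of two members of height zero is prime to `p`. -/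
theorem entry_not_ideal (hM : IsPModular p M) (hu : ∃ k, orderOf u = p ^ k)
    (hH : ∀ g, g ∈ H ↔ Commute u g) {b : Set (IrrCharacter H)} {B : Set (IrrCharacter G)}
    (hind : IsInducedBlock M H b B) {χ ψ : IrrCharacter G} (hχ : χ ∈ B) (hψ : ψ ∈ B)
    (hχ0 : blockHeight p B (χ : G → ℂ) = 0) (hψ0 : blockHeight p B (ψ : G → ℂ) = 0) :
    ¬ MemLocalIdeal M (entry p (⟨u, (hH u).2 (Commute.refl u)⟩ : H) b χ ψ) := by
  obtain ⟨k, hk⟩ := lam_root hu hH
  set z : H := ⟨u, (hH u).2 (Commute.refl u)⟩ with hz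
  intro hI
  refine entry_sum_not_ideal hM hu hH hind hχ hψ hχ0 hψ0 ?_
  have hdiff : MemLocalIdeal M (∑ ξ ∈ members b, ∑ η ∈ members b,
      ((mult χ ξ : ℂ) * (mult ψ η : ℂ) * (contrib p b ξ η : ℂ)) *
        (conj (lam z ξ) * (lam z η - 1) + (conj (lam z ξ) - 1))) := by
    refine ideal_sum hM fun ξ _ => ideal_sum hM fun η _ => ideal_mul_left hM
      ((localRing hM).mul_mem ((localRing hM).mul_mem (natCast_mem (localRing hM) _)
        (natCast_mem (localRing hM) _)) (intCast_mem (localRing hM) _)) ?_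
    have hcj : conj (lam z ξ) ^ p ^ k = 1 := by rw [← map_pow, hk, map_one]
    exact ideal_add hM (ideal_mul_left hM
      (of_isIntegral hM (IsIntegral.of_pow (pow_pos hM.1.pos k) (by rw [hcj]; exact isIntegral_one)))
      (root_congr_one hM (hk η))) (root_congr_one hM hcj)
  convert ideal_sub hM hI hdiff using 1
  simp only [entry, ← Finset.sum_sub_distrib]
  exact Finset.sum_congr rfl fun ξ _ => Finset.sum_congr rfl fun η _ => by ring

/-- An entry is a combination of values along the columns. -/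
theorem entry_eq_sval (z : H) (b : Set (IrrCharacter H)) (χ ψ : IrrCharacter G) :
    entry p z b χ ψ = ∑ ξ ∈ members b,
      ((mult χ ξ : ℂ) * conj (lam z ξ)) * sval z ψ (col p b ξ) := by
  refine Finset.sum_congr rfl fun ξ _ => ?_
  rw [sval, Finset.mul_sum]
  refine Eq.trans (Finset.sum_congr rfl fun η hη => ?_)
    (Finset.sum_subset (Finset.subset_univ _) fun η _ hη => ?_)
  · rw [show col p b ξ η = contrib p b ξ η from if_pos (mem_members.1 hη)]
    ring
  · rw [show col p b ξ η = 0 from if_neg fun h => hη (mem_members.2 h)]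
    simp

/-- The norm of a row. -/
theorem row_sum (hM : IsPModular p M) (hu : ∃ k, orderOf u = p ^ k)
    (hH : ∀ g, g ∈ H ↔ Commute u g) {b : Set (IrrCharacter H)} {B : Set (IrrCharacter G)}
    (hind : IsInducedBlock M H b B) (χ : IrrCharacter G) :
    ∑ ψ ∈ members B, (Complex.normSq (entry p (⟨u, (hH u).2 (Commute.refl u)⟩ : H) b χ ψ) : ℂ) =
      (p : ℂ) ^ blockDefect p b * entry p (⟨u, (hH u).2 (Commute.refl u)⟩ : H) b χ χ := by
  set z : H := ⟨u, (hH u).2 (Commute.refl u)⟩ with hz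
  set a : IrrCharacter H → ℂ := fun ξ => (mult χ ξ : ℂ) * conj (lam z ξ) with ha
  calc ∑ ψ ∈ members B, (Complex.normSq (entry p z b χ ψ) : ℂ)
      = ∑ ξ ∈ members b, ∑ η ∈ members b, a ξ * conj (a η) *
          ∑ ψ ∈ members B, sval z ψ (col p b ξ) * conj (sval z ψ (col p b η)) := by
        rw [Finset.sum_congr rfl (g := fun ψ => ∑ ξ ∈ members b, ∑ η ∈ members b,
            a ξ * conj (a η) * (sval z ψ (col p b ξ) * conj (sval z ψ (col p b η)))) fun ψ _ => ?_]
        · rw [Finset.sum_comm]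
          refine Finset.sum_congr rfl fun ξ _ => ?_
          rw [Finset.sum_comm]
          exact Finset.sum_congr rfl fun η _ => (Finset.mul_sum _ _ _).symm
        · rw [← Complex.mul_conj, entry_eq_sval, map_sum, Finset.sum_mul_sum]
          refine Finset.sum_congr rfl fun ξ _ => Finset.sum_congr rfl fun η _ => ?_
          simp only [ha, map_mul]
          ring
    _ = _ := by
        simp only [entry, Finset.mul_sum]
        refine Finset.sum_congr rfl fun ξ hξ => Finset.sum_congr rfl fun η hη => ?_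
        rw [← Finset.mul_sum, hz, sum_sval hM hu hH hind (col_mem (mem_members.1 hξ))
          (col_mem (mem_members.1 hη)), dot_col hM hind.1 (mem_members.1 hη)
          (col_mem (mem_members.1 hξ)),
          show col p b ξ η = contrib p b ξ η from if_pos (mem_members.1 hη), ← hz]
        simp only [ha, map_mul, map_natCast, Complex.conj_conj]
        push_cast
        ring

/-- The trace. -/
theorem trace (hM : IsPModular p M) (hu : ∃ k, orderOf u = p ^ k)
    (hH : ∀ g, g ∈ H ↔ Commute u g) {b : Set (IrrCharacter H)} {B : Set (IrrCharacter G)}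
    (hind : IsInducedBlock M H b B) :
    ∑ χ ∈ members B, entry p (⟨u, (hH u).2 (Commute.refl u)⟩ : H) b χ χ =
      (p : ℂ) ^ blockDefect p b * (blockRank p b : ℂ) := by
  refine mul_left_cancel₀ (pow_ne_zero (blockDefect p b)
    (Nat.cast_ne_zero.2 hM.1.ne_zero : (p : ℂ) ≠ 0)) ?_
  rw [Finset.mul_sum, ← Finset.sum_congr rfl fun χ _ => row_sum hM hu hH hind χ, ← mul_assoc,
    ← pow_add, ← two_mul]
  have h := congrArg (fun r : ℝ => (r : ℂ)) (sum_normSq_entry hM hu hH hind)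
  push_cast at h
  exact h

/-- Entries in a major subsection. -/
theorem entry_major (hM : IsPModular p M) (hu : ∃ k, orderOf u = p ^ k)
    (hH : ∀ g, g ∈ H ↔ Commute u g) {b : Set (IrrCharacter H)} {B : Set (IrrCharacter G)}
    (hind : IsInducedBlock M H b B) (hd : blockDefect p b = blockDefect p B)
    {χ ψ : IrrCharacter G} (hχ : χ ∈ B) (hψ : ψ ∈ B) :
    ∃ s : ℂ, MemLocalRing M s ∧ (MemLocalIdeal M s ↔ blockHeight p B (χ : G → ℂ) ≠ 0) ∧
      entry p (⟨u, (hH u).2 (Commute.refl u)⟩ : H) b χ ψ =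
        (p : ℂ) ^ blockHeight p B (ψ : G → ℂ) * s := by
  obtain ⟨φ, hφ, h0⟩ := exists_height_zero hM hind.1
  obtain ⟨κ, hκR, hκn, hκ⟩ := exists_sval_value hM hu hH hind hd hφ h0 hψ
  obtain ⟨κ', hκR', hκn', hκ'⟩ := exists_sval_value hM hu hH hind hd hφ h0 hχ
  choose t htR hte hts using fun ξ : {ξ // ξ ∈ members b} =>
    hκ (col p b ξ.1) (col_mem (mem_members.1 ξ.2))
  obtain ⟨k, hk⟩ := lam_root hu hH
  set z : H := ⟨u, (hH u).2 (Commute.refl u)⟩ with hz
  obtain ⟨t', htR', hte', hts'⟩ := hκ' (col p b φ) (col_mem hφ)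
  set a : IrrCharacter H → ℂ := fun ξ => (mult χ ξ : ℂ) * conj (lam z ξ) with ha
  have hcj : ∀ ξ : IrrCharacter H, conj (lam z ξ) ^ p ^ k = 1 := fun ξ => by
    rw [← map_pow, hk, map_one]
  have haR : ∀ ξ, MemLocalRing M (a ξ) := fun ξ => (localRing hM).mul_mem
    (natCast_mem (localRing hM) _)
    (of_isIntegral hM (IsIntegral.of_pow (pow_pos hM.1.pos k) (by rw [hcj]; exact isIntegral_one)))
  set T : ℂ := ∑ ξ ∈ members b, a ξ * (contrib p b ξ φ : ℂ) with hT
  have hTR : MemLocalRing M T := (localRing hM).sum_mem fun ξ _ =>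
    (localRing hM).mul_mem (haR ξ) (intCast_mem (localRing hM) _)
  have hTt : MemLocalIdeal M (T - (p : ℂ) ^ blockHeight p B (χ : G → ℂ) * t') := by
    rw [← hts', hT, sval, ← Finset.sum_subset (Finset.subset_univ (members b)) fun ξ _ hξ => by
      rw [show col p b φ ξ = 0 from if_neg fun h => hξ (mem_members.2 h)]; simp,
      ← Finset.sum_sub_distrib]
    refine ideal_sum hM fun ξ hξ => ?_
    rw [show col p b φ ξ = contrib p b φ ξ from if_pos (mem_members.1 hξ),
      contrib_comm hM.1 (mem_members.1 hξ) hφ]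
    refine cast (congrArg (MemLocalIdeal M) ?_) (ideal_mul_left hM ((localRing hM).mul_mem
      (natCast_mem (localRing hM) (mult χ ξ)) (intCast_mem (localRing hM) (contrib p b φ ξ)))
      (ideal_sub hM (root_congr_one hM (hcj ξ)) (root_congr_one hM (hk ξ))))
    simp only [ha]
    ring
  have hc00 : ¬ (p : ℤ) ∣ contrib p b φ φ := by
    have := contrib_not_dvd hM hind.1 hφ h0 hφ
    rwa [h0, zero_add, pow_one] at this
  have ht'n : ¬ MemLocalIdeal M t' := fun h => by
    have h1 := ideal_sub hM h hte'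
    rw [sub_sub_cancel, show col p b φ φ = contrib p b φ φ from if_pos hφ] at h1
    exact not_ideal_mul hM hκR' (intCast_mem (localRing hM) _) hκn'
      (fun h' => hc00 ((intCast_mem_iff hM _).1 h')) h1
  set s : ℂ := ∑ ξ ∈ (members b).attach, a ξ.1 * t ξ with hs
  have hsR : MemLocalRing M s := (localRing hM).sum_mem fun ξ _ =>
    (localRing hM).mul_mem (haR _) (htR ξ)
  have hsT : MemLocalIdeal M (s - κ * T) := by
    rw [hs, hT, ← Finset.sum_attach (members b), Finset.mul_sum, ← Finset.sum_sub_distrib]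
    refine ideal_sum hM fun ξ _ => ?_
    refine cast (congrArg (MemLocalIdeal M) ?_) (ideal_mul_left hM (haR ξ.1) (hte ξ))
    rw [show col p b ξ.1 φ = contrib p b ξ.1 φ from if_pos hφ]
    ring
  refine ⟨s, hsR, ⟨fun hsI h => ?_, fun h => ?_⟩, ?_⟩
  · have hTI : ¬ MemLocalIdeal M T := fun hTI => ht'n (by
      have := ideal_sub hM hTI hTt
      rwa [h, pow_zero, one_mul, sub_sub_cancel] at this)
    refine not_ideal_mul hM hκR hTR hκn hTI ?_
    have := ideal_sub hM hsI hsT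
    rwa [sub_sub_cancel] at this
  · have hTI : MemLocalIdeal M T := by
      have h1 : MemLocalIdeal M ((p : ℂ) ^ blockHeight p B (χ : G → ℂ) * t') := by
        obtain ⟨n, hn⟩ := Nat.exists_eq_succ_of_ne_zero h
        rw [hn, pow_succ]
        exact ideal_mul_right hM (ideal_mul_left hM ((localRing hM).pow_mem
          (natCast_mem (localRing hM) p) _) (natCast_p_mem hM)) htR'
      simpa using ideal_add hM hTt h1
    simpa using ideal_add hM hsT (ideal_mul_left hM hκR hTI)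
  · rw [entry_eq_sval, hs, Finset.mul_sum, ← Finset.sum_attach (members b)]
    exact Finset.sum_congr rfl fun ξ _ => by rw [hts ξ]; ring

section Two

/-- The means of the diagonal for `p = 2`. -/
theorem exists_diag {M : Ideal AlgInt} (hM : IsPModular 2 M) (hu : ∃ k, orderOf u = 2 ^ k)
    (hH : ∀ g, g ∈ H ↔ Commute u g) {b : Set (IrrCharacter H)} {B : Set (IrrCharacter G)}
    (hind : IsInducedBlock M H b B) :
    ∃ m : IrrCharacter G → ℤ,
      (∑ χ ∈ members B, m χ = 2 ^ blockDefect 2 b * (blockRank 2 b : ℤ)) ∧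
      (∀ χ ∈ members B, m χ ^ 2 + (((members B).filter fun ψ => ψ ≠ χ ∧
          entry 2 (⟨u, (hH u).2 (Commute.refl u)⟩ : H) b χ ψ ≠ 0).card : ℤ) ≤
        2 ^ blockDefect 2 b * m χ) ∧
      (∀ χ, MemLocalIdeal M (entry 2 (⟨u, (hH u).2 (Commute.refl u)⟩ : H) b χ χ - (m χ : ℂ))) ∧
      (∀ χ, MemLocalIdeal M (entry 2 (⟨u, (hH u).2 (Commute.refl u)⟩ : H) b χ χ / 2) →
        (4 : ℤ) ∣ m χ) := by
  have : Fact (Nat.Prime 2) := ⟨Nat.prime_two⟩
  set z : H := ⟨u, (hH u).2 (Commute.refl u)⟩ with hz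
  have hzc : z ∈ Subgroup.center H :=
    Subgroup.mem_center_iff.2 fun g => Subtype.ext ((hH g).1 g.2).eq.symm
  obtain ⟨k, hk⟩ := hu
  set N := 2 ^ (k + 1) with hN
  have hN0 : 0 < N := pow_pos two_pos _
  have hzk : z ^ N = 1 := by
    refine Subtype.ext ?_
    rw [Subgroup.coe_pow, hN, pow_succ, pow_mul, ← hk, pow_orderOf_eq_one, one_pow]
    rfl
  obtain ⟨ζ, hζ⟩ : ∃ ζ : ℂ, IsPrimitiveRoot ζ N := ⟨_, Complex.isPrimitiveRoot_exp N hN0.ne'⟩
  have : NeZero N := ⟨hN0.ne'⟩
  have hlam : ∀ ξ : IrrCharacter H, ∃ a < N, ζ ^ a = lam z ξ := fun ξ =>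
    hζ.eq_pow_of_pow_eq_one (by rw [← lam_pow hzc, hzk, lam, div_self (irr_one_ne_zero ξ)])
  choose a haN ha using hlam
  set f : IrrCharacter H × IrrCharacter H → ℕ := fun x => (N - a x.1) + a x.2 with hf
  set q : IrrCharacter G → IrrCharacter G → IrrCharacter H × IrrCharacter H → ℤ :=
    fun χ ψ x => (mult χ x.1 : ℤ) * (mult ψ x.2 : ℤ) * contrib 2 b x.1 x.2 with hq
  have hval : ∀ (j : ℕ) (χ ψ : IrrCharacter G), entry 2 (z ^ j) b χ ψ =
      ∑ x ∈ members b ×ˢ members b, (q χ ψ x : ℂ) * ζ ^ (f x * j) := by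
    intro j χ ψ
    rw [entry, Finset.sum_product]
    refine Finset.sum_congr rfl fun ξ _ => Finset.sum_congr rfl fun η _ => ?_
    have hcj : conj (lam z ξ) = ζ ^ (N - a ξ) := by
      rw [← ha, map_pow, ← Complex.inv_eq_conj (Complex.norm_eq_one_of_pow_eq_one hζ.pow_eq_one hN0.ne'), inv_pow]
      refine inv_eq_of_mul_eq_one_right ?_
      rw [← pow_add, Nat.add_sub_of_le (haN ξ).le, hζ.pow_eq_one]
    rw [lam_pow hzc, lam_pow hzc, map_pow, ← mul_pow, hcj, ← ha η, ← pow_add, ← pow_mul]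
    simp only [hq, hf]
    push_cast
    ring
  have hmean := fun χ => BlockRealRoots81.exists_mean hM hζ (members b ×ˢ members b) (q χ χ) f
    Prod.swap (fun x hx => by simpa [and_comm] using hx) (fun x _ => Prod.swap_swap x)
    (fun x hx => by
      obtain ⟨h1, h2⟩ := Finset.mem_product.1 hx
      simp only [hq, Prod.fst_swap, Prod.snd_swap]
      rw [contrib_comm hM.1 (mem_members.1 h2) (mem_members.1 h1)]
      ring)
    (fun x _ => by
      simp only [hf, Prod.fst_swap, Prod.snd_swap]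
      have h1 := haN x.1
      have h2 := haN x.2
      rw [show N - a x.2 + a x.1 + (N - a x.1 + a x.2) = 2 * N by omega]
      exact Nat.mul_mod_left _ _)
  choose m hm1 hm2 hm3 hm4 using hmean
  set J := BlockRealRoots81.oddSet k with hJ
  have hone : ∀ χ ψ, entry 2 z b χ ψ = ∑ x ∈ members b ×ˢ members b, (q χ ψ x : ℂ) * ζ ^ f x :=
    fun χ ψ => by
      have := hval 1 χ ψ
      simpa using this
  have hpow : ∀ j ∈ J, ∃ hHj : ∀ g, g ∈ H ↔ Commute (u ^ j) g, (∃ i, orderOf (u ^ j) = 2 ^ i) ∧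
      (⟨u ^ j, (hHj (u ^ j)).2 (Commute.refl _)⟩ : H) = z ^ j := by
    intro j hj
    have hjp : ¬ 2 ∣ j := BlockRealRoots81.not_dvd_of_mem hj
    have hcop : (orderOf u).Coprime j := hk ▸ (Nat.prime_two.coprime_iff_not_dvd.2 hjp).pow_left _
    obtain ⟨r, hr⟩ := exists_pow_eq_self_of_coprime hcop.symm
    refine ⟨fun g => ?_, ⟨k, by rw [Nat.Coprime.orderOf_pow hcop, hk]⟩, Subtype.ext (by simp [hz])⟩
    rw [hH]
    exact ⟨fun h => h.pow_left j, fun h => by rw [← hr]; exact h.pow_left r⟩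
  have hrow : ∀ χ : IrrCharacter G, ∑ j ∈ J, ∑ ψ ∈ members B,
      Complex.normSq (entry 2 (z ^ j) b χ ψ) =
        (2 : ℝ) ^ blockDefect 2 b * ((2 : ℝ) ^ k * (m χ : ℝ)) := by
    intro χ
    apply Complex.ofReal_injective
    push_cast
    rw [← hm1 χ, Finset.mul_sum]
    refine Finset.sum_congr rfl fun j hj => ?_
    obtain ⟨hHj, hvj, hzj⟩ := hpow j hj
    have h := row_sum hM hvj hHj hind χ
    rw [hzj] at h
    rw [h, hval]
    push_cast
    ring
  refine ⟨m, ?_, fun χ hχ => ?_, fun χ => by rw [hone]; exact hm3 χ,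
    fun χ h => hm4 χ (by rwa [← hone])⟩
  · have h : ((2 : ℂ) ^ k) * ((∑ χ ∈ members B, m χ : ℤ) : ℂ) =
        (2 : ℂ) ^ k * (((2 : ℤ) ^ blockDefect 2 b * (blockRank 2 b : ℤ) : ℤ) : ℂ) := by
      push_cast
      rw [Finset.mul_sum, ← Finset.sum_congr rfl fun χ _ => hm1 χ, Finset.sum_comm,
        Finset.sum_congr rfl (g := fun _ => (2 : ℂ) ^ blockDefect 2 b * (blockRank 2 b : ℂ))
        fun j hj => ?_, Finset.sum_const, BlockRealRoots81.card_oddSet, nsmul_eq_mul]
      · push_cast; ring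
      · obtain ⟨hHj, hvj, hzj⟩ := hpow j hj
        have ht := trace hM hvj hHj hind
        rw [hzj] at ht
        rw [← Finset.sum_congr rfl fun χ _ => hval j χ χ, ht]
        norm_num
    exact_mod_cast mul_left_cancel₀ (pow_ne_zero k two_ne_zero) h
  · set S := (members B).filter fun ψ => ψ ≠ χ ∧ entry 2 z b χ ψ ≠ 0 with hS
    have hR : (2 : ℝ) ^ k * ((m χ : ℝ) ^ 2 + (S.card : ℝ)) ≤
        (2 : ℝ) ^ k * ((2 : ℝ) ^ blockDefect 2 b * (m χ : ℝ)) := by
      have hsub : insert χ S ⊆ members B :=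
        Finset.insert_subset hχ (Finset.filter_subset _ _)
      have hnot : χ ∉ S := fun h => (Finset.mem_filter.1 h).2.1 rfl
      calc (2 : ℝ) ^ k * ((m χ : ℝ) ^ 2 + (S.card : ℝ))
          = (2 : ℝ) ^ k * (m χ : ℝ) ^ 2 + ∑ _ψ ∈ S, (2 : ℝ) ^ k := by
            rw [Finset.sum_const, nsmul_eq_mul]; ring
        _ ≤ ∑ ψ ∈ insert χ S, ∑ j ∈ J, Complex.normSq (entry 2 (z ^ j) b χ ψ) := by
            rw [Finset.sum_insert hnot]
            refine add_le_add ?_ (Finset.sum_le_sum fun ψ hψ => ?_)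
            · simp only [hval]; exact hm2 χ
            · have hne := (Finset.mem_filter.1 hψ).2.2
              rw [hone] at hne
              have hle := BlockContribRoots.card_le_sum_normSq _ (q χ ψ) f Nat.prime_two hζ hne
              rw [show ((Finset.range (2 ^ (k + 1))).filter fun j => ¬ 2 ∣ j) = J from rfl,
                hJ, BlockRealRoots81.card_oddSet] at hle
              simp only [hval, hJ]
              exact_mod_cast hle
        _ ≤ ∑ ψ ∈ members B, ∑ j ∈ J, Complex.normSq (entry 2 (z ^ j) b χ ψ) :=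
            Finset.sum_le_sum_of_subset_of_nonneg hsub fun ψ _ _ =>
              Finset.sum_nonneg fun j _ => Complex.normSq_nonneg _
        _ = _ := by rw [Finset.sum_comm, hrow]; ring
    have := le_of_mul_le_mul_left hR (pow_pos two_pos k)
    exact_mod_cast this

end Two

end Cfsg.Agent.BlockContribMatrix81
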