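import Mathlib

/-!
A nonvanishing value of an integer combination of roots of unity of prime power order has mean square
at least one over the primitive roots.
-/

set_option autoImplicit false

open scoped ComplexConjugate

namespace Cfsg.Agent.BlockContribRoots

/-- Parseval over the group of `M`-th roots of unity. -/
theorem sum_range_normSq {ι : Type*} (s : Finset ι) (q : ι → ℤ) (f : ι → ℕ) {M : ℕ} (hM : 0 < M)
    {η : ℂ} (hη : IsPrimitiveRoot η M) :
    ∑ j ∈ Finset.range M, Complex.normSq (∑ i ∈ s, (q i : ℂ) * η ^ (f i * j)) =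
      (M : ℝ) * ∑ r ∈ Finset.range M, ((∑ i ∈ s with f i % M = r, q i : ℤ) : ℝ) ^ 2 := by
  set g : ℕ → ℤ := fun r => ∑ i ∈ s with f i % M = r, q i with hg
  have hη1 : conj η = η⁻¹ :=
    (Complex.inv_eq_conj (Complex.norm_eq_one_of_pow_eq_one hη.pow_eq_one hM.ne')).symm
  have h1 : ∀ j : ℕ, ∑ i ∈ s, (q i : ℂ) * η ^ (f i * j) =
      ∑ r ∈ Finset.range M, (g r : ℂ) * η ^ (r * j) := by
    intro j
    rw [← Finset.sum_fiberwise_of_maps_to (s := s) (t := Finset.range M) (g := fun i => f i % M)
      (fun i _ => Finset.mem_range.2 (Nat.mod_lt _ hM))]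
    refine Finset.sum_congr rfl fun r _ => ?_
    simp only [hg]
    push_cast
    rw [Finset.sum_mul]
    refine Finset.sum_congr rfl fun i hi => ?_
    rw [pow_mul, pow_mul, ← (Finset.mem_filter.1 hi).2]
    congr 2
    conv_lhs => rw [← Nat.mod_add_div (f i) M, pow_add, pow_mul, hη.pow_eq_one, one_pow, mul_one]
  apply Complex.ofReal_injective
  push_cast
  simp only [Complex.normSq_eq_conj_mul_self, h1, map_sum, map_mul, map_intCast, map_pow, hη1]
  calc ∑ j ∈ Finset.range M, (∑ r ∈ Finset.range M, (g r : ℂ) * η⁻¹ ^ (r * j)) *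
        ∑ r' ∈ Finset.range M, (g r' : ℂ) * η ^ (r' * j)
      = ∑ r ∈ Finset.range M, ∑ r' ∈ Finset.range M, (g r : ℂ) * (g r' : ℂ) *
          ∑ j ∈ Finset.range M, (η⁻¹ ^ r * η ^ r') ^ j := by
        simp only [Finset.sum_mul_sum]
        rw [Finset.sum_comm]
        refine Finset.sum_congr rfl fun r _ => ?_
        rw [Finset.sum_comm]
        refine Finset.sum_congr rfl fun r' _ => ?_
        rw [Finset.mul_sum]
        exact Finset.sum_congr rfl fun j _ => by
          rw [pow_mul, pow_mul, mul_pow]; ring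
    _ = ∑ r ∈ Finset.range M, ∑ r' ∈ Finset.range M,
          if r = r' then (M : ℂ) * (g r : ℂ) ^ 2 else 0 := by
        refine Finset.sum_congr rfl fun r hr => Finset.sum_congr rfl fun r' hr' => ?_
        by_cases h : r = r'
        · subst h
          rw [if_pos rfl, ← mul_pow, inv_mul_cancel₀ (hη.ne_zero hM.ne')]
          simp; ring
        · rw [if_neg h]
          set x := η⁻¹ ^ r * η ^ r' with hx
          have hxM : x ^ M = 1 := by
            rw [hx, mul_pow, ← pow_mul, ← pow_mul, mul_comm r, mul_comm r', pow_mul, pow_mul,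
              inv_pow, hη.pow_eq_one]
            simp
          have hx1 : x ≠ 1 := by
            intro hx1
            refine h (hη.pow_inj (Finset.mem_range.1 hr) (Finset.mem_range.1 hr') ?_)
            have : η ^ r * x = η ^ r := by rw [hx1, mul_one]
            rw [hx, ← mul_assoc, ← mul_pow, mul_inv_cancel₀ (hη.ne_zero hM.ne'), one_pow, one_mul] at this
            exact this.symm
          have h0 := geom_sum_mul x M
          rw [hxM, sub_self] at h0
          rw [(mul_eq_zero.1 h0).resolve_right (sub_ne_zero.2 hx1), mul_zero]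
    _ = _ := by
        rw [Finset.mul_sum]
        refine Finset.sum_congr rfl fun r hr => ?_
        rw [Finset.sum_ite_eq, if_pos hr]
        simp only [hg]
        push_cast
        ring

/-- Non-constant integers have variance at least `(n - 1) / n ^ 2`. -/
theorem card_sub_one_le (g : ℕ → ℤ) (n : ℕ) (h : ∃ t < n, ∃ s < n, g t ≠ g s) :
    (n : ℤ) - 1 ≤ n * ∑ t ∈ Finset.range n, g t ^ 2 - (∑ t ∈ Finset.range n, g t) ^ 2 := by
  obtain ⟨t, ht, s, hs, hne⟩ := h
  have hts : t ≠ s := fun e => hne (by rw [e])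
  set D : ℕ → ℕ → ℤ := fun v w => (g v - g w) ^ 2 with hD
  have hid : ∑ v ∈ Finset.range n, ∑ w ∈ Finset.range n, D v w =
      2 * (n * ∑ t ∈ Finset.range n, g t ^ 2 - (∑ t ∈ Finset.range n, g t) ^ 2) := by
    simp only [hD, sub_sq, Finset.sum_add_distrib, Finset.sum_sub_distrib, Finset.sum_const,
      Finset.card_range, nsmul_eq_mul, ← Finset.mul_sum, ← Finset.sum_mul, mul_assoc]
    ring
  have h1 : ∀ v, 1 ≤ D v t + D v s := by
    intro v
    have hns : (g v - g t) ^ 2 + (g v - g s) ^ 2 ≠ 0 := by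
      intro h0
      have e1 : g v - g t = 0 := by nlinarith [sq_nonneg (g v - g t), sq_nonneg (g v - g s)]
      have e2 : g v - g s = 0 := by nlinarith [sq_nonneg (g v - g t), sq_nonneg (g v - g s)]
      exact hne (by omega)
    have := add_nonneg (sq_nonneg (g v - g t)) (sq_nonneg (g v - g s))
    simp only [hD]
    omega
  have hsym : ∀ v w, D v w = D w v := fun v w => by simp only [hD]; ring
  have hnn : ∀ v w, 0 ≤ D v w := fun v w => sq_nonneg _
  have hsub : ({t, s} : Finset ℕ) ⊆ Finset.range n := by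
    simp [Finset.insert_subset_iff, ht, hs]
  have hge : ∑ v ∈ Finset.range n \ {t, s}, (D v t + D v s) +
      (∑ w ∈ Finset.range n, D t w + ∑ w ∈ Finset.range n, D s w) ≤
      ∑ v ∈ Finset.range n, ∑ w ∈ Finset.range n, D v w := by
    rw [← Finset.sum_sdiff (f := fun v => ∑ w ∈ Finset.range n, D v w) hsub, Finset.sum_pair hts]
    refine add_le_add (Finset.sum_le_sum fun v _ => ?_) le_rfl
    rw [← Finset.sum_pair (f := D v) hts]
    exact Finset.sum_le_sum_of_subset_of_nonneg hsub fun w _ _ => hnn v w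
  have hrow : (n : ℤ) ≤ ∑ w ∈ Finset.range n, D t w + ∑ w ∈ Finset.range n, D s w := by
    rw [← Finset.sum_add_distrib]
    calc (n : ℤ) = ∑ _w ∈ Finset.range n, (1 : ℤ) := by simp
      _ ≤ _ := Finset.sum_le_sum fun w _ => by rw [hsym t, hsym s]; exact h1 w
  have hrest : (n : ℤ) - 2 ≤ ∑ v ∈ Finset.range n \ {t, s}, (D v t + D v s) := by
    have hn2 : 2 ≤ n := by omega
    calc (n : ℤ) - 2 = ∑ _v ∈ Finset.range n \ {t, s}, (1 : ℤ) := by
          rw [Finset.sum_const, Finset.card_sdiff_of_subset hsub, Finset.card_pair hts, Finset.card_range]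
          simp; omega
      _ ≤ _ := Finset.sum_le_sum fun v _ => h1 v
  omega

/-- The mean square over primitive roots. -/
theorem card_le_sum_normSq {ι : Type*} (s : Finset ι) (q : ι → ℤ) (f : ι → ℕ) {p k : ℕ}
    (hp : p.Prime) {ζ : ℂ} (hζ : IsPrimitiveRoot ζ (p ^ (k + 1)))
    (hne : ∑ i ∈ s, (q i : ℂ) * ζ ^ f i ≠ 0) :
    (((Finset.range (p ^ (k + 1))).filter fun j => ¬ p ∣ j).card : ℝ) ≤
      ∑ j ∈ (Finset.range (p ^ (k + 1))).filter (fun j => ¬ p ∣ j),
        Complex.normSq (∑ i ∈ s, (q i : ℂ) * ζ ^ (f i * j)) := by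
  set N' := p ^ k with hN'
  set N := p ^ (k + 1) with hN
  have hNN : N = p * N' := by rw [hN, hN', pow_succ']
  have hN0 : 0 < N' := pow_pos hp.pos k
  have hNpos : 0 < N := pow_pos hp.pos _
  have himg : (Finset.range N).filter (fun j => p ∣ j) = (Finset.range N').image (p * ·) := by
    ext j
    simp only [Finset.mem_filter, Finset.mem_range, Finset.mem_image]
    constructor
    · rintro ⟨hj, m, rfl⟩
      exact ⟨m, Nat.lt_of_mul_lt_mul_left (hNN ▸ hj), rfl⟩
    · rintro ⟨m, hm, rfl⟩
      exact ⟨hNN ▸ Nat.mul_lt_mul_of_pos_left hm hp.pos, dvd_mul_right p m⟩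
  have hη : IsPrimitiveRoot (ζ ^ p) N' := hζ.pow hNpos hNN
  set g : ℕ → ℤ := fun r => ∑ i ∈ s with f i % N = r, q i with hg
  have hg' : ∀ r < N', (∑ i ∈ s with f i % N' = r, q i) = ∑ t ∈ Finset.range p, g (r + t * N') := by
    intro r hr
    rw [← Finset.sum_fiberwise_of_maps_to (s := s.filter fun i => f i % N' = r) (t := Finset.range p)
      (g := fun i => f i % N / N') (fun i _ => Finset.mem_range.2 (Nat.div_lt_of_lt_mul (by
        rw [mul_comm, ← hNN]; exact Nat.mod_lt _ hNpos)))]
    refine Finset.sum_congr rfl fun t ht => ?_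
    simp only [hg, Finset.filter_filter]
    refine Finset.sum_congr (Finset.filter_congr fun i _ => ?_) fun i _ => rfl
    have e : f i % N % N' = f i % N' := Nat.mod_mod_of_dvd _ ⟨p, by rw [hNN, mul_comm]⟩
    constructor
    · rintro ⟨h1, h2⟩
      rw [← Nat.mod_add_div (f i % N) N', e, h1, h2, mul_comm]
    · intro h
      constructor
      · rw [← e, h, Nat.add_mul_mod_self_right, Nat.mod_eq_of_lt hr]
      · rw [h, Nat.add_mul_div_right _ _ hN0, Nat.div_eq_of_lt hr, zero_add]
  have hsplit : ∀ F : ℕ → ℤ, ∑ m ∈ Finset.range N, F m =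
      ∑ r ∈ Finset.range N', ∑ t ∈ Finset.range p, F (r + t * N') := by
    intro F
    rw [← Finset.sum_product', eq_comm]
    refine Finset.sum_bij' (fun x _ => x.1 + x.2 * N') (fun m _ => (m % N', m / N')) ?_ ?_ ?_ ?_ ?_
    · rintro ⟨r, t⟩ h
      simp only [Finset.mem_product, Finset.mem_range] at h
      refine Finset.mem_range.2 ?_
      calc r + t * N' < N' + t * N' := by omega
        _ = (t + 1) * N' := by ring
        _ ≤ N := by rw [hNN]; exact Nat.mul_le_mul_right _ h.2
    · intro m hm
      simp only [Finset.mem_product, Finset.mem_range] at hm ⊢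
      exact ⟨Nat.mod_lt _ hN0, Nat.div_lt_of_lt_mul (by rw [mul_comm, ← hNN]; exact hm)⟩
    · rintro ⟨r, t⟩ h
      simp only [Finset.mem_product, Finset.mem_range] at h
      simp [Nat.add_mul_mod_self_right, Nat.mod_eq_of_lt h.1, Nat.add_mul_div_right _ _ hN0,
        Nat.div_eq_of_lt h.1]
    · intro m _
      simp [Nat.mod_add_div']
    · intros; rfl
  have hS : ∑ j ∈ (Finset.range N).filter (fun j => ¬ p ∣ j),
      Complex.normSq (∑ i ∈ s, (q i : ℂ) * ζ ^ (f i * j)) =
      (N' : ℝ) * ((∑ r ∈ Finset.range N', ((p : ℤ) * ∑ t ∈ Finset.range p, g (r + t * N') ^ 2 -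
        (∑ t ∈ Finset.range p, g (r + t * N')) ^ 2) : ℤ) : ℝ) := by
    have h1 := sum_range_normSq s q f hNpos hζ
    have h2 := sum_range_normSq s q f hN0 hη
    rw [← Finset.sum_filter_add_sum_filter_not (Finset.range N) (fun j => p ∣ j), himg,
      Finset.sum_image (fun a _ b _ h => Nat.eq_of_mul_eq_mul_left hp.pos h),
      Finset.sum_congr rfl (g := fun j => Complex.normSq (∑ i ∈ s, (q i : ℂ) * (ζ ^ p) ^ (f i * j)))
        (fun j _ => by simp only [← pow_mul, mul_left_comm p]), h2,
      Finset.sum_congr rfl (fun r hr => by rw [hg' r (Finset.mem_range.1 hr)])] at h1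
    have h3 := congrArg (fun z : ℤ => (z : ℝ)) (hsplit fun m => g m ^ 2)
    push_cast at h3 h1 ⊢
    simp only [hg] at h3 h1 ⊢
    push_cast at h3 h1 ⊢
    rw [h3, hNN] at h1
    push_cast at h1
    simp only [Finset.sum_sub_distrib, ← Finset.mul_sum]
    rw [mul_sub]
    simp only [hNN]
    linarith [h1]
  obtain ⟨r0, hr0, hne0⟩ : ∃ r < N', ∃ t < p, ∃ u < p, g (r + t * N') ≠ g (r + u * N') := by
    by_contra hcon
    push Not at hcon
    refine hne ?_
    rw [← Finset.sum_fiberwise_of_maps_to (s := s) (t := Finset.range N) (g := fun i => f i % N)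
      (fun i _ => Finset.mem_range.2 (Nat.mod_lt _ hNpos))]
    rw [Finset.sum_congr rfl (g := fun m => (g m : ℂ) * ζ ^ m) fun m _ => by
      simp only [hg]; push_cast; rw [Finset.sum_mul]
      refine Finset.sum_congr rfl fun i hi => ?_
      rw [← (Finset.mem_filter.1 hi).2]
      congr 1
      conv_lhs => rw [← Nat.mod_add_div (f i) N, pow_add, pow_mul, hζ.pow_eq_one, one_pow, mul_one]]
    have hgeo : ∑ t ∈ Finset.range p, (ζ ^ N') ^ t = 0 :=
      (hζ.pow hNpos (by rw [hNN, mul_comm])).geom_sum_eq_zero hp.one_lt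
    calc ∑ m ∈ Finset.range N, (g m : ℂ) * ζ ^ m
        = ∑ r ∈ Finset.range N', ∑ t ∈ Finset.range p, (g (r + 0 * N') : ℂ) * ζ ^ r * (ζ ^ N') ^ t := by
          refine (?_ : _ = ∑ r ∈ Finset.range N', ∑ t ∈ Finset.range p, (g (r + t * N') : ℂ) * ζ ^ (r + t * N')).trans ?_
          · rw [← Finset.sum_product', eq_comm]
            refine Finset.sum_bij' (fun x _ => x.1 + x.2 * N') (fun m _ => (m % N', m / N')) ?_ ?_ ?_ ?_ ?_
            · rintro ⟨r, t⟩ h
              simp only [Finset.mem_product, Finset.mem_range] at h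
              refine Finset.mem_range.2 ?_
              calc r + t * N' < N' + t * N' := by omega
                _ = (t + 1) * N' := by ring
                _ ≤ N := by rw [hNN]; exact Nat.mul_le_mul_right _ h.2
            · intro m hm
              simp only [Finset.mem_product, Finset.mem_range] at hm ⊢
              exact ⟨Nat.mod_lt _ hN0, Nat.div_lt_of_lt_mul (by rw [mul_comm, ← hNN]; exact hm)⟩
            · rintro ⟨r, t⟩ h
              simp only [Finset.mem_product, Finset.mem_range] at h
              simp [Nat.add_mul_mod_self_right, Nat.mod_eq_of_lt h.1, Nat.add_mul_div_right _ _ hN0,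
                Nat.div_eq_of_lt h.1]
            · intro m _
              simp [Nat.mod_add_div']
            · intros; rfl
          · refine Finset.sum_congr rfl fun r hr => Finset.sum_congr rfl fun t ht => ?_
            rw [hcon r (Finset.mem_range.1 hr) t (Finset.mem_range.1 ht) 0 hp.pos, pow_add, mul_comm t,
              pow_mul]
            ring
      _ = 0 := Finset.sum_eq_zero fun r _ => by rw [← Finset.mul_sum, hgeo, mul_zero]
  have hcard : ((Finset.range N).filter fun j => ¬ p ∣ j).card = N' * (p - 1) := by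
    have h := Finset.card_filter_add_card_filter_not (s := Finset.range N) (fun j => p ∣ j)
    rw [himg, Finset.card_image_of_injective _ (fun a b h => Nat.eq_of_mul_eq_mul_left hp.pos h),
      Finset.card_range, Finset.card_range, hNN] at h
    rw [hNN]
    have : N' * (p - 1) + N' = p * N' := by
      rw [← Nat.mul_succ, Nat.succ_eq_add_one, Nat.sub_add_cancel hp.one_le, mul_comm]
    omega
  rw [hcard, hS, Nat.cast_mul]
  refine mul_le_mul_of_nonneg_left ?_ (Nat.cast_nonneg _)
  have hbr : ∀ r, 0 ≤ (p : ℤ) * ∑ t ∈ Finset.range p, g (r + t * N') ^ 2 -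
      (∑ t ∈ Finset.range p, g (r + t * N')) ^ 2 := fun r => by
    have := sq_sum_le_card_mul_sum_sq (s := Finset.range p) (f := fun t => g (r + t * N'))
    rw [Finset.card_range] at this
    linarith
  have hz : ((p - 1 : ℕ) : ℤ) ≤ ∑ r ∈ Finset.range N',
      ((p : ℤ) * ∑ t ∈ Finset.range p, g (r + t * N') ^ 2 - (∑ t ∈ Finset.range p, g (r + t * N')) ^ 2) :=
    le_trans (by rw [Nat.cast_sub hp.one_le]; exact card_sub_one_le (fun t => g (r0 + t * N')) p hne0)
      (Finset.single_le_sum (fun r _ => hbr r) (Finset.mem_range.2 hr0))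
  exact_mod_cast hz

end Cfsg.Agent.BlockContribRoots
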