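import Mathlib
import Cfsg.Agent.Lib.SimpleStarKill
import Cfsg.Agent.Lib.ExcChar68

/-!
A simple group with a self-centralizing subgroup of order `p` whose normalizer is dihedral has
order different from `p * m ^ 2` (two characters with consecutive degrees and the class algebra).
-/

set_option autoImplicit false

open scoped ComplexConjugate
open Finset

namespace Cfsg.Agent.DihedralStar68

open Cfsg.Agent.CharBasic Cfsg.Agent.CharBasicOrth Cfsg.Agent.CharBasicInt
open Cfsg.Agent.CharBasicLinear Cfsg.Agent.SimpleStarKill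

variable {G : Type*} [Group G] [Finite G]

theorem linear_eq_one [IsSimpleGroup G] (hG : ¬ IsMulCommutative G) (χ : Cfsg.IrrCharacter G)
    (h1 : (χ : G → ℂ) 1 = 1) : (χ : G → ℂ) = fun _ => 1 := by
  have hperf : commutator G = ⊤ :=
    (SimpleOrder.eq_bot_or_top (inferInstance : (commutator G).Normal)).resolve_left
      fun h => hG ⟨⟨fun a b => by
        have hm := Subgroup.commutator_mem_commutator (Subgroup.mem_top a) (Subgroup.mem_top b)
        rw [← commutator_def, h, Subgroup.mem_bot, commutatorElement_eq_one_iff_mul_comm] at hm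
        exact hm⟩⟩
  have h2 := card_linear (G := G)
  rw [hperf, Subgroup.index_top, Nat.card_eq_one_iff_unique] at h2
  have hτ : Cfsg.IsIrrCharacter G (fun _ : G => (1 : ℂ)) := by
    simpa using CharBasicDecomp.isIrrCharacter_linear (1 : G →* ℂˣ)
  exact congrArg (fun ψ : {ψ : Cfsg.IrrCharacter G // (ψ : G → ℂ) 1 = 1} => ((ψ : Cfsg.IrrCharacter G) : G → ℂ))
    (h2.1.elim ⟨χ, h1⟩ ⟨⟨_, hτ⟩, rfl⟩)

/-- Characters take integer values on involutions. -/
theorem exists_int_apply {u : G} (hu : orderOf u = 2) (χ : Cfsg.IrrCharacter G) {d : ℕ}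
    (hd : (χ : G → ℂ) 1 = d) : ∃ z : ℤ, (χ : G → ℂ) u = z := by
  haveI : Fact (Nat.Prime 2) := ⟨Nat.prime_two⟩
  obtain ⟨n, hn⟩ := exists_mult hu (isCharacter_of_isIrrCharacter χ.2) (0 : ZMod 2)
  refine ⟨2 * n - d, ?_⟩
  have huniv : (Finset.univ : Finset (ZMod 2)) = {0, 1} := by ext z; fin_cases z <;> simp <;> rfl
  rw [mult, huniv, Finset.sum_pair zero_ne_one, pw_zero, pw_one, hd] at hn
  simp only [neg_zero, zero_mul, AddChar.map_zero_eq_one, mul_one] at hn
  push_cast
  push_cast at hn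
  linear_combination (2 : ℂ) * hn

set_option maxHeartbeats 1200000 in
/-- The dihedral criterion. -/
theorem false_of_dihedral [IsSimpleGroup G] (hG : ¬ IsMulCommutative G) {p : ℕ} [Fact p.Prime]
    (hp2 : p ≠ 2) (P : Sylow p G) (hP : Nat.card ↥(P : Subgroup G) = p)
    (hN : Nat.card ↥(Subgroup.normalizer ((P : Subgroup G) : Set G)) = 2 * p)
    (hC : Nat.card ↥(Subgroup.centralizer ((P : Subgroup G) : Set G)) = p)
    (m : ℕ) (hn : Nat.card G = p * m ^ 2) : False := by
  classical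
  letI : Fintype G := Fintype.ofFinite G
  have hp : p.Prime := Fact.out
  set N := Subgroup.normalizer ((P : Subgroup G) : Set G) with hNdef
  obtain ⟨x, hxP, hx⟩ : ∃ x ∈ (P : Subgroup G), orderOf x = p := by
    obtain ⟨g, hg⟩ := exists_prime_orderOf_dvd_card' p (G := ↥(P : Subgroup G))
      (dvd_of_eq hP.symm)
    exact ⟨g, g.2, by rw [Subgroup.orderOf_coe, hg]⟩
  have hzP : Subgroup.zpowers x = (P : Subgroup G) :=
    Subgroup.eq_of_le_of_card_ge (Subgroup.zpowers_le.2 hxP) (by rw [hP, Nat.card_zpowers, hx])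
  have hCx : Subgroup.centralizer ({x} : Set G) = Subgroup.zpowers x := by
    have hle : Subgroup.zpowers x ≤ Subgroup.centralizer ({x} : Set G) :=
      Subgroup.zpowers_le.2 (by simp [Subgroup.mem_centralizer_singleton_iff])
    refine (Subgroup.eq_of_le_of_card_ge hle ?_).symm
    rw [Nat.card_zpowers, hx, ← Subgroup.centralizer_closure, ← Subgroup.zpowers_eq_closure,
      hzP, hC]
  have hE : (fus (p := p) x).card = 2 := by
    have h1 := card_fus_mul P hP hxP hx hCx
    rw [P.card_eq_index_normalizer] at h1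
    have h2 := N.card_mul_index
    rw [hN, ← h1] at h2
    exact (Nat.eq_of_mul_eq_mul_right hp.pos
      (Nat.eq_of_mul_eq_mul_right (Nat.pos_of_ne_zero Subgroup.index_ne_zero_of_finite) h2)).symm
  -- the involutions of the dihedral group
  have hout : ∀ q : G, q ∈ N → q ∉ (P : Subgroup G) → orderOf q = 2 := by
    intro q hqN hqP
    have hd : orderOf q ∣ 2 * p := hN ▸ Subgroup.orderOf_coe (⟨q, hqN⟩ : N) ▸ orderOf_dvd_natCard _
    obtain ⟨a, b, ha, hb, hab⟩ := (Nat.dvd_mul.1 hd)
    rcases (Nat.dvd_prime hp).1 hb with rfl | rfl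
    · rcases (Nat.dvd_prime Nat.prime_two).1 ha with rfl | rfl
      · simp only [mul_one] at hab
        exact absurd (orderOf_eq_one_iff.1 hab.symm ▸ (P : Subgroup G).one_mem) hqP
      · simpa using hab.symm
    · rcases (Nat.dvd_prime Nat.prime_two).1 ha with rfl | rfl
      · exfalso
        have hzp : IsPGroup b ↥(Subgroup.zpowers q) := IsPGroup.of_card (n := 1) (by
          rw [Nat.card_zpowers, pow_one, ← hab, one_mul])
        exact hqP ((hzp.inf_normalizer_sylow P).le ⟨Subgroup.mem_zpowers q, hqN⟩).2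
      · exfalso
        -- `q` would centralize `P`
        have hq2 : q ^ 2 ∈ (P : Subgroup G) := by
          have hzp : IsPGroup b ↥(Subgroup.zpowers (q ^ 2)) := IsPGroup.of_card (n := 1) (by
            rw [Nat.card_zpowers, pow_one, orderOf_pow, ← hab, Nat.gcd_mul_right_left,
              Nat.mul_div_cancel_left b two_pos])
          exact ((hzp.inf_normalizer_sylow P).le ⟨Subgroup.mem_zpowers _, pow_mem hqN 2⟩).2
        have hgen : Subgroup.zpowers (q ^ 2) = (P : Subgroup G) :=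
          Subgroup.eq_of_le_of_card_ge (Subgroup.zpowers_le.2 hq2) (by
            rw [hP, Nat.card_zpowers, orderOf_pow, ← hab, Nat.gcd_mul_right_left,
              Nat.mul_div_cancel_left b two_pos])
        have hqC : q ∈ Subgroup.centralizer ((P : Subgroup G) : Set G) := by
          rw [Subgroup.mem_centralizer_iff, ← hgen]
          intro h hh
          obtain ⟨k, rfl⟩ := Subgroup.mem_zpowers_iff.1 hh
          exact (((Commute.refl q).pow_left 2).zpow_left k).eq
        have := Subgroup.orderOf_coe (⟨q, hqC⟩ : Subgroup.centralizer ((P : Subgroup G) : Set G)) ▸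
          orderOf_dvd_natCard (⟨q, hqC⟩ : Subgroup.centralizer ((P : Subgroup G) : Set G))
        rw [hC, ← hab] at this
        have := Nat.le_of_dvd hp.pos this
        have := hp.pos
        omega
  obtain ⟨u, huN, hu⟩ : ∃ u ∈ N, orderOf u = 2 := by
    haveI : Fact (Nat.Prime 2) := ⟨Nat.prime_two⟩
    obtain ⟨g, hg⟩ := exists_prime_orderOf_dvd_card' 2 (G := ↥N) (hN ▸ dvd_mul_right 2 p)
    exact ⟨g, g.2, by rw [Subgroup.orderOf_coe, hg]⟩
  have hnotP : ∀ q : G, orderOf q = 2 → q ∉ (P : Subgroup G) := by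
    intro q hq hqP
    have := Subgroup.orderOf_coe (⟨q, hqP⟩ : (P : Subgroup G)) ▸
      orderOf_dvd_natCard (⟨q, hqP⟩ : (P : Subgroup G))
    rw [hP, hq] at this
    exact hp2 ((Nat.prime_dvd_prime_iff_eq Nat.prime_two hp).1 this).symm
  have hPN : (P : Subgroup G) ≤ N := Subgroup.le_normalizer
  have hidx : ((P : Subgroup G).subgroupOf N).index = 2 := by
    have h := ((P : Subgroup G).subgroupOf N).card_mul_index
    rw [Nat.card_congr (Subgroup.subgroupOfEquivOfLe hPN).toEquiv, hP, hN, mul_comm 2 p] at h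
    exact Nat.eq_of_mul_eq_mul_left hp.pos h
  have hprod : ∀ a b : G, a ∈ N → b ∈ N → (a * b ∈ (P : Subgroup G) ↔
      (a ∈ (P : Subgroup G) ↔ b ∈ (P : Subgroup G))) := by
    intro a b ha hb
    simpa [Subgroup.mem_subgroupOf] using
      Subgroup.mul_mem_iff_of_index_two hidx (a := ⟨a, ha⟩) (b := ⟨b, hb⟩)
  have hconj : ∀ q : G, q ∈ N → q ∉ (P : Subgroup G) → IsConj u q := by
    intro q hqN hqP
    have huP := hnotP u hu
    have hu2 : u * u = 1 := by rw [← pow_two, ← hu]; exact pow_orderOf_eq_one u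
    have hy : q * u ∈ (P : Subgroup G) := (hprod q u hqN huN).2 (by simp [hqP, huP])
    -- a square root in `P`
    set y := (q * u) ^ ((p + 1) / 2) with hy'
    have hyP : y ∈ (P : Subgroup G) := pow_mem hy _
    have hyy : y * y = q * u := by
      have h1 : (q * u) ^ p = 1 := by
        have := hP ▸ pow_card_eq_one' (x := (⟨q * u, hy⟩ : (P : Subgroup G)))
        exact congrArg Subtype.val this
      obtain ⟨k, hk⟩ := hp.odd_of_ne_two hp2
      rw [hy', ← pow_add, show (p + 1) / 2 + (p + 1) / 2 = p + 1 by omega, pow_succ, h1, one_mul]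
    have hyu : y * u ∉ (P : Subgroup G) := fun h =>
      huP ((Subgroup.mul_mem_cancel_left _ hyP).1 h)
    have h2 : (y * u) * (y * u) = 1 := by
      rw [← pow_two, ← hout _ (mul_mem (hPN hyP) huN) hyu]; exact pow_orderOf_eq_one _
    refine isConj_iff.2 ⟨y, ?_⟩
    have h3 : u * y⁻¹ = y * u := by
      calc u * y⁻¹ = u⁻¹ * y⁻¹ := by rw [inv_eq_of_mul_eq_one_right hu2]
        _ = (y * u)⁻¹ := by group
        _ = y * u := inv_eq_of_mul_eq_one_right h2
    rw [mul_assoc, h3, ← mul_assoc, hyy, mul_assoc, hu2, mul_one]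
  set c := Nat.card (Subgroup.centralizer ({u} : Set G)) with hcdef
  -- the pairs
  have hpairs : ∀ d ∈ (P : Subgroup G), d ≠ 1 →
      Nat.card {q : G × G // q.1 * u * q.1⁻¹ * (q.2 * u * q.2⁻¹) = d} = c ^ 2 * p := by
    intro d hdP hd1
    have hzd : Subgroup.zpowers d = (P : Subgroup G) := by
      refine Subgroup.eq_of_le_of_card_ge (Subgroup.zpowers_le.2 hdP) ?_
      rw [hP, Nat.card_zpowers]
      have := Subgroup.orderOf_coe (⟨d, hdP⟩ : (P : Subgroup G)) ▸
        orderOf_dvd_natCard (⟨d, hdP⟩ : (P : Subgroup G))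
      rw [hP, Nat.dvd_prime hp] at this
      rcases this with h | h
      · exact absurd (orderOf_eq_one_iff.1 h) hd1
      · exact h.ge
    have hinvN : ∀ a b : G, IsConj u a → IsConj u b → a * b = d → a ∈ N ∧ b ∈ N := by
      intro a b ha hb hab
      have sq : ∀ z, IsConj u z → z * z = 1 := by
        intro z hz
        obtain ⟨g, rfl⟩ := isConj_iff.1 hz
        rw [conj_mul, ← pow_two, ← hu, pow_orderOf_eq_one, mul_one, mul_inv_cancel]
      have haN : a ∈ N := by
        have hinv : a * d * a⁻¹ = d⁻¹ := by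
          rw [← hab, mul_inv_rev, inv_eq_of_mul_eq_one_right (sq a ha),
            inv_eq_of_mul_eq_one_right (sq b hb), ← mul_assoc, sq a ha, one_mul]
        rw [hNdef, Subgroup.mem_normalizer_iff]
        have hmem : ∀ h ∈ (P : Subgroup G), a * h * a⁻¹ ∈ (P : Subgroup G) := by
          intro h hh
          obtain ⟨k, rfl⟩ := Subgroup.mem_zpowers_iff.1 (hzd ▸ hh : h ∈ Subgroup.zpowers d)
          rw [← conj_zpow, hinv]
          exact zpow_mem (inv_mem hdP) k
        intro h
        refine ⟨hmem h, fun h' => ?_⟩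
        have := hmem _ h'
        have e : a * (a * h * a⁻¹) * a⁻¹ = (a * a) * h * (a * a)⁻¹ := by group
        rw [e, sq a ha, one_mul, inv_one, mul_one] at this
        exact this
      exact ⟨haN, by rw [show b = a⁻¹ * d by rw [← hab]; group]; exact mul_mem (inv_mem haN) (hPN hdP)⟩
    haveI : Fintype ↥N := Fintype.ofFinite _
    have h := ExcChar68.card_pairs (ι := N.subtype) N.subtype_injective u ⟨d, hPN hdP⟩
      (fun a b ha hb hab => ⟨⟨⟨a, (hinvN a b ha hb hab).1⟩, rfl⟩, ⟨⟨b, (hinvN a b ha hb hab).2⟩, rfl⟩⟩)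
    rw [Subgroup.coe_subtype] at h
    rw [h, ← hcdef]
    congr 1
    have hiff : ∀ a : ↥N, IsConj u (a : G) ↔ (a : G) ∉ (P : Subgroup G) := by
      intro a
      refine ⟨fun ha => hnotP _ ?_, hconj _ a.2⟩
      obtain ⟨g, hg⟩ := isConj_iff.1 ha
      rw [← hg, ← MulAut.conj_apply, MulEquiv.orderOf_eq, hu]
    rw [Nat.card_congr (β := {a : ↥N // (a : G) ∉ (P : Subgroup G)})
      { toFun := fun q => ⟨q.1.1, (hiff _).1 q.2.1⟩
        invFun := fun a => ⟨(a.1, a.1⁻¹ * ⟨d, hPN hdP⟩), (hiff _).2 a.2, (hiff _).2 (by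
          intro h
          have := (hprod _ _ (inv_mem a.1.2) (hPN hdP)).1 h
          exact a.2 (inv_mem_iff.1 (this.2 hdP))), mul_inv_cancel_left _ _⟩
        left_inv := fun q => Subtype.ext (Prod.ext rfl (inv_mul_eq_iff_eq_mul.2 q.2.2.2.symm))
        right_inv := fun a => rfl }]
    have hsplit := Fintype.card_subtype_compl (fun a : ↥N => (a : G) ∈ (P : Subgroup G))
    rw [Nat.card_eq_fintype_card, hsplit, ← Nat.card_eq_fintype_card, hN, ← Nat.card_eq_fintype_card]
    have : Nat.card {a : ↥N // (a : G) ∈ (P : Subgroup G)} = p := by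
      refine Eq.trans ?_ hP
      exact Nat.card_congr (Subgroup.subgroupOfEquivOfLe hPN).toEquiv
    rw [this]; omega
  -- integral coordinates
  have hZ : ∀ (χ : Cfsg.IrrCharacter G) (j : ZMod p), ∃ z : ℤ, dv x (χ : G → ℂ) j = z := by
    intro χ j
    obtain ⟨a, ha⟩ := exists_mult hx (isCharacter_of_isIrrCharacter χ.2) (0 : ZMod p)
    obtain ⟨b, hb⟩ := exists_mult hx (isCharacter_of_isIrrCharacter χ.2) j
    exact ⟨(a : ℤ) - b, by rw [dv, ha, hb]; push_cast; ring⟩
  choose v hv using hZ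
  choose d hd0 hd hdn using fun χ : Cfsg.IrrCharacter G => exists_apply_one_dvd_card χ.2
  choose a hau using fun χ : Cfsg.IrrCharacter G => exists_int_apply hu χ (hd χ)
  let τ : Cfsg.IrrCharacter G := ⟨fun _ => 1, by
    simpa using CharBasicDecomp.isIrrCharacter_linear (1 : G →* ℂˣ)⟩
  have hτv : v τ 1 = 1 := by
    have h := hv τ 1
    rw [dv_triv one_ne_zero] at h
    exact_mod_cast h.symm
  have hdτ : d τ = 1 := by
    have h : (1 : ℂ) = (d τ : ℂ) := hd τ
    exact_mod_cast h.symm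
  have haτ : a τ = 1 := by
    have h : (1 : ℂ) = (a τ : ℂ) := hau τ
    exact_mod_cast h.symm
  have hd1 : ∀ χ, χ ≠ τ → 1 < d χ := by
    intro χ hχ
    by_contra hle
    have := hd0 χ
    exact hχ (Subtype.ext (linear_eq_one hG χ (by rw [hd χ, show d χ = 1 by omega, Nat.cast_one])))
  set U := (Finset.univ : Finset (Cfsg.IrrCharacter G)).erase τ with hU
  have hone : (1 : ZMod p) ∈ fus x := mem_fus.2 (by rw [pw_one])
  have hsq : ∑ χ ∈ U, v χ 1 * v χ 1 = 2 := by
    have h := gram hx hCx (one_ne_zero (α := ZMod p)) one_ne_zero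
    simp only [hv, map_intCast, hE, inv_one, mul_one, if_pos hone] at h
    rw [← Finset.add_sum_erase _ _ (Finset.mem_univ τ), hτv] at h
    have h' : (1 : ℤ) * 1 + ∑ χ ∈ U, v χ 1 * v χ 1 = 3 := by
      simp only [Int.cast_one, map_one] at h
      exact_mod_cast h
    omega
  -- the three relations
  set S := U.filter (fun χ => v χ 1 ≠ 0) with hS
  have hsupp : ∀ f : Cfsg.IrrCharacter G → ℂ,
      ∑ χ : Cfsg.IrrCharacter G, (v χ 1 : ℂ) * f χ = f τ + ∑ χ ∈ S, (v χ 1 : ℂ) * f χ := by
    intro f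
    rw [← Finset.add_sum_erase _ _ (Finset.mem_univ τ), hτv, Int.cast_one, one_mul, ← hU, hS,
      Finset.sum_filter_of_ne (p := fun χ => v χ 1 ≠ 0)]
    intro χ _ h h0
    exact h (by simp [h0])
  have e1 : (1 : ℂ) + ∑ χ ∈ S, (v χ 1 : ℂ) * (d χ : ℂ) = 0 := by
    have h := sum_deg hx (j := (1 : ZMod p))
    simp only [hv, hd, map_natCast] at h
    rw [hsupp, hdτ] at h
    simpa using h
  have hdvsum : ∀ (f : Cfsg.IrrCharacter G → ℂ) (k : ℂ),
      (∀ a : ZMod p, a ≠ 0 → ∑ χ : Cfsg.IrrCharacter G, f χ * (χ : G → ℂ) (pw x a) = k) →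
      ∑ χ : Cfsg.IrrCharacter G, (v χ 1 : ℂ) * f χ = k := by
    intro f k hf
    simp only [← hv, dv_eq, mul_assoc, Finset.sum_mul, ← Finset.mul_sum]
    rw [Finset.sum_comm]
    have hterm : ∀ b : ZMod p, ∑ χ : Cfsg.IrrCharacter G,
        (χ : G → ℂ) (pw x b) * ((1 - sg (-1 * b)) * f χ) = k * (1 - sg (-1 * b)) := by
      intro b
      rcases eq_or_ne b 0 with rfl | hb
      · simp
      · rw [← hf b hb, Finset.sum_mul]
        exact Finset.sum_congr rfl fun χ _ => by ring
    simp only [hterm]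
    rw [← Finset.mul_sum, Finset.sum_sub_distrib, sum_sg, if_neg (neg_ne_zero.2 one_ne_zero),
      Finset.sum_const, Finset.card_univ, ZMod.card, nsmul_eq_mul, mul_one, sub_zero,
      mul_left_comm, inv_mul_cancel₀ (Nat.cast_ne_zero.2 hp.ne_zero), mul_one]
  have e2 : (1 : ℂ) + ∑ χ ∈ S, (v χ 1 : ℂ) * (a χ : ℂ) = 0 := by
    have h := hdvsum (fun χ => (a χ : ℂ)) 0 fun b hb => by
      simp only [← hau]
      have := sum_irr_mul_conj u (pw x b)⁻¹
      simp only [isCharacter_inv (isCharacter_of_isIrrCharacter (Subtype.prop _)), Complex.conj_conj] at this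
      rw [this, if_neg]
      intro hc
      obtain ⟨g, hg⟩ := isConj_iff.1 hc
      apply hnotP u hu
      have hmem : (pw x b)⁻¹ ∈ (P : Subgroup G) := inv_mem (pow_mem hxP _)
      have h2 : orderOf (pw x b)⁻¹ = 2 := by rw [← hg, ← MulAut.conj_apply, MulEquiv.orderOf_eq, hu]
      exact absurd hmem (hnotP _ h2)
    rw [hsupp, haτ] at h
    simpa using h
  have e3 : (1 : ℂ) + ∑ χ ∈ S, (v χ 1 : ℂ) * ((a χ : ℂ) ^ 2 / (d χ : ℂ)) =
      ((c ^ 2 * p : ℕ) : ℂ) / (Nat.card G : ℂ) := by
    have h := hdvsum (fun χ => (a χ : ℂ) ^ 2 / (d χ : ℂ)) (((c ^ 2 * p : ℕ) : ℂ) / (Nat.card G : ℂ))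
      fun b hb => by
      have hne : (pw x b)⁻¹ ≠ 1 := fun h => hb (pw_inj hx ((inv_eq_one.1 h).trans pw_zero.symm))
      have hcs := ExcChar68.class_sum u (pw x b)⁻¹
      rw [hpairs (pw x b)⁻¹ (inv_mem (pow_mem hxP _)) hne] at hcs
      rw [← hcs]
      refine Finset.sum_congr rfl fun χ _ => ?_
      rw [isCharacter_inv (isCharacter_of_isIrrCharacter χ.2), Complex.conj_conj, ← hau, ← hd]
      ring
    rw [hsupp, haτ, hdτ] at h
    simpa using h
  -- exactly two characters
  have hsmall : ∀ χ ∈ S, v χ 1 = 1 ∨ v χ 1 = -1 := by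
    intro χ hχ
    obtain ⟨hχU, hne⟩ := Finset.mem_filter.1 hχ
    have h := Finset.single_le_sum (f := fun χ => v χ 1 * v χ 1) (fun χ _ => mul_self_nonneg _) hχU
    rw [hsq] at h
    have : -1 ≤ v χ 1 ∧ v χ 1 ≤ 1 := ⟨by nlinarith, by nlinarith⟩
    omega
  have hScard : S.card = 2 := by
    have h := hsq
    rw [← Finset.sum_filter_of_ne (p := fun χ => v χ 1 ≠ 0) (fun χ _ h h0 => h (by simp [h0])),
      ← hS, Finset.sum_congr rfl (g := fun _ => (1 : ℤ)) (fun χ hχ => by
        rcases hsmall χ hχ with h | h <;> simp [h]), Finset.sum_const, nsmul_eq_mul, mul_one] at h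
    exact_mod_cast h
  obtain ⟨s, t, hst, hSst⟩ := Finset.card_eq_two.1 hScard
  rw [hSst, Finset.sum_pair hst] at e1 e2 e3
  have hgt : ∀ χ ∈ S, 1 < d χ := fun χ hχ => hd1 χ (Finset.ne_of_mem_erase (Finset.mem_filter.1 hχ).1)
  have hds := hgt s (by simp [hSst])
  have hdt := hgt t (by simp [hSst])
  have key : ∀ (D E : ℕ) (A B : ℤ), 1 < D → (1 : ℂ) + D - E = 0 → (1 : ℂ) + A - B = 0 →
      (1 : ℂ) + (A : ℂ) ^ 2 / D - (B : ℂ) ^ 2 / E = ((c ^ 2 * p : ℕ) : ℂ) / (Nat.card G : ℂ) → False := by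
    intro D E A B hD r1 r2 r3
    obtain rfl : E = D + 1 := by
      have : ((D + 1 : ℕ) : ℂ) = (E : ℂ) := by push_cast; linear_combination r1
      exact_mod_cast this.symm
    obtain rfl : B = A + 1 := by
      have : ((A + 1 : ℤ) : ℂ) = (B : ℂ) := by push_cast; linear_combination r2
      exact_mod_cast this.symm
    have hm0 : m ≠ 0 := fun h => by rw [h] at hn; simp at hn
    have hD0 : (D : ℂ) ≠ 0 := Nat.cast_ne_zero.2 (by omega)
    have hD1 : ((D : ℂ) + 1) ≠ 0 := by exact_mod_cast Nat.succ_ne_zero D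
    have hp0 : (p : ℂ) ≠ 0 := Nat.cast_ne_zero.2 hp.ne_zero
    have hm0' : (m : ℂ) ≠ 0 := Nat.cast_ne_zero.2 hm0
    rw [hn] at r3
    push_cast at r3
    field_simp at r3
    have hint : ((m : ℤ) * (A - D)) ^ 2 = (c : ℤ) ^ 2 * (D * (D + 1)) := by
      have : ((((m : ℤ) * (A - D)) ^ 2 : ℤ) : ℂ) = (((c : ℤ) ^ 2 * (D * (D + 1)) : ℤ) : ℂ) := by
        push_cast
        linear_combination r3
      exact_mod_cast this
    set z := ((m : ℤ) * (A - D)).natAbs with hz
    have hzz : z ^ 2 = c ^ 2 * (D * (D + 1)) := by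
      have : ((z ^ 2 : ℕ) : ℤ) = ((c ^ 2 * (D * (D + 1)) : ℕ) : ℤ) := by
        push_cast
        rw [hz, Int.natCast_natAbs, sq_abs]
        exact hint
      exact_mod_cast this
    have hc0 : c ≠ 0 := by rw [hcdef]; exact Nat.card_pos.ne'
    obtain ⟨w, hw⟩ : c ∣ z := (Nat.pow_dvd_pow_iff (by norm_num)).1 (hzz ▸ dvd_mul_right _ _)
    have hww : w ^ 2 = D * (D + 1) :=
      Nat.eq_of_mul_eq_mul_left (pow_pos (Nat.pos_of_ne_zero hc0) 2) (by rw [← mul_pow, ← hw, hzz])
    rcases Nat.lt_or_ge D w with h1 | h1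
    · have h2 := Nat.pow_le_pow_left h1 2
      rw [hww, pow_two] at h2
      have h3 := Nat.mul_lt_mul_of_pos_right (Nat.lt_succ_self D) (Nat.succ_pos D)
      simp only [Nat.succ_eq_add_one] at h2 h3
      omega
    · have h2 := Nat.pow_le_pow_left h1 2
      rw [hww, pow_two] at h2
      have h3 := Nat.mul_lt_mul_of_pos_left (Nat.lt_succ_self D) (show 0 < D by omega)
      simp only [Nat.succ_eq_add_one] at h2 h3
      omega
  rcases hsmall s (by simp [hSst]) with hs | hs <;> rcases hsmall t (by simp [hSst]) with ht | ht <;>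
    rw [hs, ht] at e1 e2 e3 <;> push_cast at e1 e2 e3
  · have : ((1 + d s + d t : ℕ) : ℂ) = 0 := by push_cast; linear_combination e1
    exact absurd (Nat.cast_eq_zero.1 this) (by omega)
  · exact key (d s) (d t) (a s) (a t) hds (by linear_combination e1) (by linear_combination e2)
      (by push_cast; linear_combination e3)
  · exact key (d t) (d s) (a t) (a s) hdt (by linear_combination e1) (by linear_combination e2)
      (by push_cast; linear_combination e3)
  · have : ((d s + d t : ℕ) : ℂ) = ((1 : ℕ) : ℂ) := by push_cast; linear_combination -e1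
    have := Nat.cast_injective this
    omega

end Cfsg.Agent.DihedralStar68
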