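import Cfsg.Agent.Lib.M11Order91Weight
import Cfsg.Agent.Lib.ClassAlgebraMod
import Cfsg.Agent.Lib.ClassAlgebraVal
import Cfsg.Agent.Lib.Simple720
import Cfsg.Agent.Lib.SimpleSearch
import Cfsg.Agent.Lib.DihedralStar68
import Cfsg.Agent.Lib.ZStarCount

/-!
The principal block of a simple group with a Sylow subgroup of prime order: a small degree forces
the Sylow subgroup to be self-centralising, and then counting the pairs of conjugate involutions
with product of order `p` gives an equation between the values at an involution.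
-/

set_option autoImplicit false
set_option linter.style.haveILetI false
set_option linter.unusedSectionVars false

open scoped ComplexConjugate

namespace Cfsg.Agent.BlockCount91

open Cfsg Cfsg.Agent.BlockPrime86 Cfsg.Agent.BlockPrincipal81

attribute [local instance] Classical.propDecidable

variable {G : Type*} [Group G] [Fintype G]

/-- The degree of an irreducible character. -/
noncomputable def deg (χ : IrrCharacter G) : ℕ := charDegree (χ : G → ℂ)

theorem apply_one (χ : IrrCharacter G) : (χ : G → ℂ) 1 = (deg χ : ℂ) :=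
  ClassAlgebraVal.apply_one_eq_charDegree χ

theorem deg_one : deg (oneChar G) = 1 := by simp [deg, charDegree, oneChar]

theorem deg_pos (χ : IrrCharacter G) : 0 < deg χ := ClassAlgebraVal.charDegree_pos χ

theorem sum_deg_sq : ∑ χ : IrrCharacter G, deg χ ^ 2 = Nat.card G := by
  have h := CharBasicOrth.sum_sq_apply_one (G := G)
  simp only [apply_one] at h
  exact_mod_cast h

theorem deg_dvd (χ : IrrCharacter G) : deg χ ∣ Nat.card G := CharAverage.charDegree_dvd_card χ

theorem sum_subset_le (B : Finset (IrrCharacter G)) : ∑ χ ∈ B, deg χ ^ 2 ≤ Nat.card G := by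
  rw [← sum_deg_sq]
  exact Finset.sum_le_sum_of_subset_of_nonneg (Finset.subset_univ B) fun _ _ _ => Nat.zero_le _

theorem deg_sq_lt [IsSimpleGroup G] {χ : IrrCharacter G} (hne : χ ≠ oneChar G) :
    deg χ * deg χ < Nat.card G := by
  have h := sum_subset_le ({oneChar G, χ} : Finset (IrrCharacter G))
  rw [Finset.sum_pair (Ne.symm hne), deg_one, pow_two, pow_two] at h
  omega

theorem two_le_deg [IsSimpleGroup G] (hG : ¬ IsMulCommutative G) {χ : IrrCharacter G}
    (hne : χ ≠ oneChar G) : 2 ≤ deg χ := by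
  have h0 := deg_pos χ
  have h1 : deg χ ≠ 1 := fun h => hne (Subtype.ext
    (DihedralStar68.linear_eq_one hG χ (by rw [apply_one, h, Nat.cast_one])))
  omega

theorem eq_one_of_fixes [IsSimpleGroup G] {χ : IrrCharacter G} {u : G} (hu : u ≠ 1)
    (h : (χ : G → ℂ) u = (χ : G → ℂ) 1) : χ = oneChar G :=
  BlockIndexThree86.eq_one_of_apply_eq (t := u) (fun K hK huK =>
    (SimpleOrder.eq_bot_or_top hK).resolve_left fun e => hu (by rwa [e, Subgroup.mem_bot] at huK)) h

variable {p : ℕ} [hp : Fact p.Prime] {M : Ideal AlgInt} (hM : IsPModular p M) {P : Sylow p G}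
  (hP : Nat.card ↥(P : Subgroup G) = p)

theorem le_centralizer_pow {u : G} (hu : u ∈ Subgroup.centralizer ((P : Subgroup G) : Set G)) (k : ℕ) :
    (P : Subgroup G) ≤ Subgroup.centralizer ({u ^ k} : Set G) := fun x hx =>
  Subgroup.mem_centralizer_singleton_iff.2
    ((show Commute x u from Subgroup.mem_centralizer_iff.1 hu x hx).pow_right k).eq

include hM in
theorem congr_centralizing {χ : IrrCharacter G} (hχ : χ ∈ principalBlock M G) {u : G}
    (hu : u ∈ Subgroup.centralizer ((P : Subgroup G) : Set G)) (k : ℕ) :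
    MemLocalIdeal M ((χ : G → ℂ) (u ^ k) - (deg χ : ℂ)) := by
  rw [← apply_one]
  exact ClassAlgebraMod.principal_congr hM hχ fun h =>
    P.not_dvd_index (h.trans (Subgroup.index_dvd_of_le (le_centralizer_pow hu k)))

include hM hP in
/-- A nontrivial character of the principal block of degree less than `2 p` forbids elements of
order prime to `p` centralising the Sylow subgroup. -/
theorem two_mul_le_deg [IsSimpleGroup G] (hG : ¬ IsMulCommutative G) {χ : IrrCharacter G}
    (hχ : χ ∈ principalBlock M G) (hne : χ ≠ oneChar G) {u : G}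
    (hu : u ∈ Subgroup.centralizer ((P : Subgroup G) : Set G)) {r : ℕ} (hr : r.Prime) (hrp : r ≠ p)
    (hur : orderOf u = r) : 2 * p ≤ deg χ := by
  have hu1 : u ≠ 1 := fun e => by rw [e, orderOf_one] at hur; exact hr.ne_one hur.symm
  have h1 := apply_one χ
  obtain ⟨d, ρ, -, hρ⟩ := χ.2
  obtain ⟨b, μ, hb, hμ, -, hpow⟩ := CharBasic.exists_rep_eigenbasis ρ u
  rw [hur] at hμ
  have hdeg : Module.finrank ℂ (Fin d → ℂ) = deg χ := by
    rw [← hρ, Representation.char_one] at h1
    exact_mod_cast h1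
  have hdiv : ∀ l : ℂ, l ≠ 1 → l ^ r = 1 → p ∣ (Finset.univ.filter fun i => μ i = l).card := fun l hl hlr =>
    ClassAlgebraMod.dvd_multiplicity hM μ (fun h => hrp ((Nat.prime_dvd_prime_iff_eq hp.out hr).1 h).symm) hμ
      (deg χ : ℂ) (fun k => by
        rw [← hpow k, hρ]
        exact congr_centralizing hM hχ hu k) hl hlr
  obtain ⟨i, hi⟩ : ∃ i, μ i ≠ 1 := by
    by_contra hc
    push Not at hc
    refine hne (eq_one_of_fixes hu1 ?_)
    have := hpow 1
    rw [pow_one, hρ] at this
    rw [this, apply_one, ← hdeg]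
    simp [hc]
  set A := Finset.univ.filter fun j => μ j = μ i with hA
  have hApos : 0 < A.card := Finset.card_pos.2 ⟨i, by simp [hA]⟩
  have hAp := hdiv (μ i) hi (hμ i)
  rw [← hA] at hAp
  have hcard : ∀ S : Finset (Fin (Module.finrank ℂ (Fin d → ℂ))), S.card ≤ deg χ := fun S => by
    have := S.card_le_univ
    rw [Fintype.card_fin] at this
    omega
  by_cases hall : ∀ j, μ j = 1 ∨ μ j = μ i
  · -- a single eigenvalue, of determinant one
    by_contra hlt
    have hAc : A.card = p := by
      obtain ⟨c, hc⟩ := hAp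
      have := hcard A
      rcases c with _ | _ | c
      · omega
      · omega
      · nlinarith
    have hdet : ∏ j, μ j = 1 := by
      rw [← ClassAlgebraMod.det_eq_one_of_perfect (Simple720.commutator_eq_top hG) ρ u, ← LinearMap.det_toMatrix b]
      have e : LinearMap.toMatrix b b (ρ u) = Matrix.diagonal μ := by
        ext i j
        rw [LinearMap.toMatrix_apply, hb j, map_smul, b.repr_self, Finsupp.smul_single, smul_eq_mul,
          mul_one, Finsupp.single_apply, Matrix.diagonal_apply]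
        rcases eq_or_ne i j with rfl | hne
        · simp
        · simp [hne, hne.symm]
      rw [e, Matrix.det_diagonal]
    rw [Finset.prod_congr rfl (g := fun j => if μ j = μ i then μ i else 1) fun j _ => by
      by_cases e : μ j = μ i
      · rw [if_pos e, e]
      · rw [if_neg e, (hall j).resolve_right e],
      Finset.prod_ite, Finset.prod_const, Finset.prod_const_one, mul_one, ← hA, hAc] at hdet
    have h := pow_gcd_eq_one.mpr ⟨hdet, hμ i⟩
    rw [(Nat.coprime_primes hp.out hr).2 (Ne.symm hrp), pow_one] at h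
    exact hi h
  · push Not at hall
    obtain ⟨j, hj1, hj2⟩ := hall
    set B := Finset.univ.filter fun k => μ k = μ j with hB
    have hBpos : 0 < B.card := Finset.card_pos.2 ⟨j, by simp [hB]⟩
    have hBp := hdiv (μ j) hj1 (hμ j)
    rw [← hB] at hBp
    have hdis : Disjoint A B := Finset.disjoint_filter.2 fun k _ h2 h3 => hj2 (h3 ▸ h2)
    have := hcard (A ∪ B)
    rw [Finset.card_union_of_disjoint hdis] at this
    have := Nat.le_of_dvd hApos hAp
    have := Nat.le_of_dvd hBpos hBp
    omega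

include hM hP in
theorem card_centralizer_eq [IsSimpleGroup G] (hG : ¬ IsMulCommutative G) {χ : IrrCharacter G}
    (hχ : χ ∈ principalBlock M G) (hne : χ ≠ oneChar G) (hd : deg χ < 2 * p) :
    Nat.card ↥(Subgroup.centralizer ((P : Subgroup G) : Set G)) = p := by
  set C := Subgroup.centralizer ((P : Subgroup G) : Set G) with hC
  have hPC : (P : Subgroup G) ≤ C := SimpleSearch.le_centralizer_self hP
  obtain ⟨m, hm⟩ : p ∣ Nat.card ↥C := hP ▸ Subgroup.card_dvd_of_le hPC
  by_contra hne'
  have hm1 : m ≠ 1 := fun e => hne' (by rw [hm, e, mul_one])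
  obtain ⟨r, hr, hrm⟩ := Nat.exists_prime_and_dvd hm1
  have hrp : r ≠ p := by
    rintro rfl
    have h2 : r ^ 2 ∣ Nat.card G := by
      refine dvd_trans ?_ C.card_subgroup_dvd_card
      rw [hm, pow_two]
      exact mul_dvd_mul_left _ hrm
    obtain ⟨Q, hQ⟩ := Sylow.exists_subgroup_card_pow_prime r h2
    obtain ⟨S, hS⟩ := (IsPGroup.of_card hQ).exists_le_sylow
    have h3 := Subgroup.card_dvd_of_le hS
    rw [hQ, S.card_eq_multiplicity, ← P.card_eq_multiplicity, hP] at h3
    exact absurd (Nat.le_of_dvd hr.pos h3) (by nlinarith [hr.two_le])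
  haveI : Fact r.Prime := ⟨hr⟩
  obtain ⟨⟨u, hu⟩, hur⟩ := exists_prime_orderOf_dvd_card' r (G := ↥C) (hrm.trans (Dvd.intro_left p hm.symm))
  rw [Subgroup.orderOf_mk] at hur
  exact absurd (two_mul_le_deg hM hP hG hχ hne hu hr hrp hur) (by omega)

include hM hP in
/-- The value at an involution centralising the Sylow subgroup. -/
theorem value_centralizing_involution [IsSimpleGroup G] (hG : ¬ IsMulCommutative G) (hodd : p ≠ 2)
    {χ : IrrCharacter G} (hχ : χ ∈ principalBlock M G) (hne : χ ≠ oneChar G) {u : G}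
    (hu : u ∈ Subgroup.centralizer ((P : Subgroup G) : Set G)) (hur : orderOf u = 2) :
    ∃ j : ℕ, 0 < j ∧ 2 * (p * j) ≤ deg χ ∧ (χ : G → ℂ) u = (deg χ : ℂ) - 4 * ((p * j : ℕ) : ℂ) := by
  have hu1 : u ≠ 1 := fun e => by rw [e, orderOf_one] at hur; omega
  obtain ⟨a, ha, h4⟩ := Simple720.exists_invol_value (Simple720.commutator_eq_top hG)
    (ClassAlgebraVal.irr_isCharacter χ) (apply_one χ) hur
  have hcg := congr_centralizing hM hχ hu 1
  rw [pow_one, ha] at hcg
  obtain ⟨r, hr⟩ := h4
  have hnorm : ‖(χ : G → ℂ) u‖ ≤ (deg χ : ℝ) := by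
    obtain ⟨d, ρ, -, hρ⟩ := χ.2
    have h := CharBasic.norm_character_le ρ u
    have h1 := apply_one χ
    rw [← hρ, Representation.char_one] at h1
    have h1' : Module.finrank ℂ (Fin d → ℂ) = deg χ := by exact_mod_cast h1
    rwa [hρ, h1'] at h
  rw [ha, Complex.norm_intCast] at hnorm
  have habs : |a| ≤ (deg χ : ℤ) := by exact_mod_cast hnorm
  rw [abs_le] at habs
  have hr0 : 0 < r := by
    rcases lt_trichotomy r 0 with h | h | h
    · omega
    · exact absurd (eq_one_of_fixes hu1 (by
        rw [ha, apply_one, show a = (deg χ : ℤ) by omega, Int.cast_natCast])) hne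
    · exact h
  lift r to ℕ using hr0.le
  have hdvd : p ∣ 4 * r := by
    refine (BlockTheoryLocalRing.natCast_mem_iff hM).1 ?_
    have := BlockTheoryLocalRing.ideal_neg hcg
    convert this using 1
    rw [show ((a : ℤ) : ℂ) = (deg χ : ℂ) - 4 * (r : ℂ) by
      rw [show a = (deg χ : ℤ) - 4 * (r : ℤ) by omega]; push_cast; rfl]
    push_cast
    ring
  obtain ⟨j, hj⟩ : p ∣ r := by
    rcases (hp.out.dvd_mul).1 hdvd with h | h
    · exfalso
      have := (Nat.prime_dvd_prime_iff_eq hp.out Nat.prime_two).1 (hp.out.dvd_of_dvd_pow (show p ∣ 2 ^ 2 from h))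
      exact hodd this
    · exact h
  subst hj
  refine ⟨j, ?_, by push_cast at hr; omega, ?_⟩
  · rcases Nat.eq_zero_or_pos j with e | e
    · subst e; simp at hr0
    · exact e
  · rw [ha, show a = (deg χ : ℤ) - 4 * ((p * j : ℕ) : ℤ) by omega]
    push_cast
    ring

omit [Fintype G] in
theorem centralizer_conj [Finite G] {R : Sylow p G} (hR : Nat.card ↥(R : Subgroup G) = p) {g : G}
    (hg : g ∈ (R : Subgroup G)) (hg1 : g ≠ 1) :
    Nat.card ↥(Subgroup.centralizer ({g} : Set G)) =
      Nat.card ↥(Subgroup.centralizer ((R : Subgroup G) : Set G)) := by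
  have he : Subgroup.zpowers g = (R : Subgroup G) := by
    refine Subgroup.eq_of_le_of_card_ge (Subgroup.zpowers_le.2 hg) ?_
    rw [hR, Nat.card_zpowers, orderOf_eq_prime (PGroupsBasic.pow_eq_one_of_card hR hg) hg1]
  rw [← Subgroup.centralizer_closure, ← Subgroup.zpowers_eq_closure, he]

include hP in
theorem centralizer_of_order [IsSimpleGroup G] (hC : Nat.card ↥(Subgroup.centralizer ((P : Subgroup G) : Set G)) = p)
    {g : G} (hg : orderOf g = p) : Subgroup.centralizer ({g} : Set G) = Subgroup.zpowers g := by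
  obtain ⟨R, hle⟩ := (IsPGroup.of_card (G := ↥(Subgroup.zpowers g)) (p := p) (n := 1)
    (by rw [Nat.card_zpowers, hg, pow_one])).exists_le_sylow
  have hR : Nat.card ↥(R : Subgroup G) = p := by rw [R.card_eq_multiplicity, ← P.card_eq_multiplicity, hP]
  refine (Subgroup.eq_of_le_of_card_ge (Subgroup.zpowers_le.2 (Subgroup.mem_centralizer_singleton_iff.2 rfl)) ?_).symm
  rw [centralizer_conj hR (hle (Subgroup.mem_zpowers g)) (fun e => by
    rw [e, orderOf_one] at hg; exact hp.out.ne_one hg.symm),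
    SimpleSearch.card_centralizer_congr R P, hC, Nat.card_zpowers, hg]

include hP in
/-- The number of `x` with `t * x t x⁻¹` conjugate to a given element `y` of order `p`. -/
theorem count_eq [IsSimpleGroup G] (hodd : p ≠ 2) (hC : Nat.card ↥(Subgroup.centralizer ((P : Subgroup G) : Set G)) = p)
    {y t : G} (hy : orderOf y = p) (ht : orderOf t = 2) :
    (Nat.card {x : G // IsConj y (t * (x * t * x⁻¹))} = 0 ∨
      Nat.card {x : G // IsConj y (t * (x * t * x⁻¹))} =
        Nat.card ↥(Subgroup.centralizer ({t} : Set G)) ^ 2) ∧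
      (t * y * t⁻¹ = y⁻¹ → Nat.card {x : G // IsConj y (t * (x * t * x⁻¹))} ≠ 0) := by
  have ht2 : t * t = 1 := by rw [← pow_two, ← ht]; exact pow_orderOf_eq_one t
  have htinv : t⁻¹ = t := inv_eq_of_mul_eq_one_left ht2
  have hpodd : p % 2 = 1 := Nat.odd_iff.1 (hp.out.odd_of_ne_two hodd)
  constructor
  · rcases isEmpty_or_nonempty {x : G // IsConj y (t * (x * t * x⁻¹))} with h | ⟨⟨x₀, hx₀⟩⟩
    · exact Or.inl Nat.card_of_isEmpty
    right
    set H := Subgroup.centralizer ({t} : Set G) with hH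
    have hmemH : ∀ h, h ∈ H ↔ h * t = t * h := fun h => Subgroup.mem_centralizer_singleton_iff
    set b₀ := x₀ * t * x₀⁻¹ with hb₀
    have hb2 : b₀ * b₀ = 1 := by rw [hb₀, show x₀ * t * x₀⁻¹ * (x₀ * t * x₀⁻¹) = x₀ * (t * t) * x₀⁻¹ by group, ht2]; group
    set g₀ := t * b₀ with hg₀
    have horder : ∀ {g : G}, IsConj y g → orderOf g = p := fun hg => by
      obtain ⟨c, hc⟩ := isConj_iff.1 hg
      rw [← hc, ← hy]
      exact orderOf_injective (MulAut.conj c).toMonoidHom (MulAut.conj c).injective y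
    have hg₀o := horder hx₀
    have hcen := centralizer_of_order hP hC hg₀o
    have hinv₀ : t * g₀ * t⁻¹ = g₀⁻¹ := by
      rw [hg₀, mul_inv_rev, htinv, inv_eq_of_mul_eq_one_left hb2]
      rw [← mul_assoc t t, ht2, one_mul]
    have hinv : ∀ w ∈ Subgroup.zpowers g₀, t * w * t⁻¹ = w⁻¹ := by
      rintro w ⟨i, rfl⟩
      show t * g₀ ^ i * t⁻¹ = (g₀ ^ i)⁻¹
      rw [← conj_zpow, hinv₀, inv_zpow]
    have hpow : ∀ w ∈ Subgroup.zpowers g₀, w ^ p = 1 := fun w hw => by
      obtain ⟨i, rfl⟩ := hw
      show (g₀ ^ i) ^ p = 1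
      rw [← zpow_natCast, ← zpow_mul, mul_comm, zpow_mul, zpow_natCast, ← hg₀o, pow_orderOf_eq_one, one_zpow]
    let φ : ↥H × ↥H → {x : G // IsConj y (t * (x * t * x⁻¹))} := fun q =>
      ⟨(q.1 : G) * x₀ * q.2, by
        refine hx₀.trans (isConj_iff.2 ⟨(q.1 : G), ?_⟩)
        have h1 := (hmemH _).1 q.1.2
        have h2 : (q.2 : G) * t * (q.2 : G)⁻¹ = t := by rw [(hmemH _).1 q.2.2, mul_inv_cancel_right]
        calc (q.1 : G) * (t * (x₀ * t * x₀⁻¹)) * (q.1 : G)⁻¹
            = ((q.1 : G) * t) * x₀ * t * x₀⁻¹ * (q.1 : G)⁻¹ := by group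
          _ = (t * q.1) * x₀ * ((q.2 : G) * t * (q.2 : G)⁻¹) * x₀⁻¹ * (q.1 : G)⁻¹ := by rw [h1, h2]
          _ = t * ((q.1 : G) * x₀ * q.2 * t * ((q.1 : G) * x₀ * q.2)⁻¹) := by group⟩
    have hφ : Function.Bijective φ := by
      constructor
      · rintro ⟨⟨h, hh⟩, ⟨h', hh'⟩⟩ ⟨⟨k, hk⟩, ⟨k', hk'⟩⟩ e
        have e' : h * x₀ * h' = k * x₀ * k' := congrArg Subtype.val e
        set w := k⁻¹ * h with hw
        have hwH : w ∈ H := mul_mem (inv_mem hk) hh
        have hwx : x₀⁻¹ * w * x₀ ∈ H := by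
          have : x₀⁻¹ * w * x₀ = k' * h'⁻¹ := by
            calc x₀⁻¹ * w * x₀ = x₀⁻¹ * k⁻¹ * (h * x₀ * h') * h'⁻¹ := by rw [hw]; group
              _ = k' * h'⁻¹ := by rw [e']; group
          rw [this]; exact mul_mem hk' (inv_mem hh')
        have hwt : Commute w t := (hmemH _).1 hwH
        have hwb : Commute w b₀ := by
          have h3 : Commute (x₀⁻¹ * w * x₀) t := (hmemH _).1 hwx
          have h4 := (Commute.conj_iff x₀).2 h3
          simpa [hb₀, mul_assoc] using h4
        have hwg : w ∈ Subgroup.zpowers g₀ := by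
          rw [← hcen, Subgroup.mem_centralizer_singleton_iff]
          exact (hwt.mul_right hwb).eq
        have h5 : w⁻¹ = w := by
          rw [← hinv w hwg, ← hwt.eq, mul_inv_cancel_right]
        have h6 : w ^ 2 = 1 := by rw [pow_two]; nth_rw 1 [← h5]; rw [inv_mul_cancel]
        have h7 := pow_gcd_eq_one.mpr ⟨h6, hpow w hwg⟩
        rw [(Nat.coprime_primes Nat.prime_two hp.out).2 (Ne.symm hodd), pow_one] at h7
        obtain rfl : k = h := by rw [hw, inv_mul_eq_one] at h7; exact h7
        obtain rfl : k' = h' := (mul_left_cancel e').symm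
        rfl
      · rintro ⟨x, hx⟩
        obtain ⟨c, hc⟩ := isConj_iff.1 (hx₀.symm.trans hx).symm
        set b := x * t * x⁻¹ with hb
        set t' := c * t * c⁻¹ with ht'
        have hb2' : b * b = 1 := by rw [hb, show x * t * x⁻¹ * (x * t * x⁻¹) = x * (t * t) * x⁻¹ by group, ht2]; group
        have hg : c * (t * b) * c⁻¹ = g₀ := hc
        have ht'g : t' * g₀ * t'⁻¹ = g₀⁻¹ := by
          have e1 : t * (t * b) * t⁻¹ = (t * b)⁻¹ := by
            rw [mul_inv_rev, htinv, inv_eq_of_mul_eq_one_left hb2', ← mul_assoc t t, ht2, one_mul]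
          rw [← hg, ht']
          calc c * t * c⁻¹ * (c * (t * b) * c⁻¹) * (c * t * c⁻¹)⁻¹ = c * (t * (t * b) * t⁻¹) * c⁻¹ := by group
            _ = c * (t * b)⁻¹ * c⁻¹ := by rw [e1]
            _ = (c * (t * b) * c⁻¹)⁻¹ := by group
        set w := t' * t with hw
        have hwg : w ∈ Subgroup.zpowers g₀ := by
          rw [← hcen, Subgroup.mem_centralizer_singleton_iff]
          have e2 : w * g₀ * w⁻¹ = g₀ := by
            calc w * g₀ * w⁻¹ = t' * (t * g₀ * t⁻¹) * t'⁻¹ := by rw [hw]; group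
              _ = t' * g₀⁻¹ * t'⁻¹ := by rw [hinv₀]
              _ = (t' * g₀ * t'⁻¹)⁻¹ := by group
              _ = g₀ := by rw [ht'g, inv_inv]
          exact mul_inv_eq_iff_eq_mul.1 e2
        set v := w ^ ((p + 1) / 2) with hv
        have hvg : v ∈ Subgroup.zpowers g₀ := pow_mem hwg _
        have hvv : v * v = w := by
          rw [hv, ← pow_add, show (p + 1) / 2 + (p + 1) / 2 = p + 1 by omega, pow_succ, hpow w hwg, one_mul]
        have hvt : v * t * v⁻¹ = t' := by
          have e3 : t * v⁻¹ = v * t := by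
            have := hinv v hvg
            rw [mul_inv_eq_iff_eq_mul] at this
            have h8 := congrArg (fun z => v * z * v⁻¹) this
            simpa [mul_assoc] using h8.symm
          rw [mul_assoc, e3, ← mul_assoc, hvv, hw, mul_assoc, ht2, mul_one]
        set h := v⁻¹ * c with hh
        have hhH : h ∈ H := by
          rw [hmemH]
          have e4 : c * t * c⁻¹ = v * t * v⁻¹ := hvt.symm
          calc v⁻¹ * c * t = v⁻¹ * (c * t * c⁻¹) * c := by group
            _ = v⁻¹ * (v * t * v⁻¹) * c := by rw [e4]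
            _ = t * (v⁻¹ * c) := by group
        have hhg : h * (t * b) * h⁻¹ = g₀ := by
          have hvc : Commute g₀ v := by
            obtain ⟨i, hi⟩ := hvg
            exact hi ▸ Commute.zpow_right (Commute.refl g₀) i
          calc h * (t * b) * h⁻¹ = v⁻¹ * (c * (t * b) * c⁻¹) * v := by rw [hh]; group
            _ = v⁻¹ * (g₀ * v) := by rw [hg, mul_assoc]
            _ = g₀ := by rw [hvc.eq, inv_mul_cancel_left]
        have hbb : h * b * h⁻¹ = b₀ := by
          have e5 : h * t * h⁻¹ = t := by rw [(hmemH _).1 hhH, mul_inv_cancel_right]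
          have e6 : t * (h * b * h⁻¹) = t * b₀ := by
            rw [← hg₀, ← hhg]
            nth_rw 1 [← e5]
            group
          exact mul_left_cancel e6
        have hk : x₀⁻¹ * h * x ∈ H := by
          rw [hmemH]
          calc x₀⁻¹ * h * x * t = x₀⁻¹ * (h * (x * t * x⁻¹) * h⁻¹) * h * x := by group
            _ = x₀⁻¹ * b₀ * h * x := by rw [← hb, hbb]
            _ = t * (x₀⁻¹ * h * x) := by rw [hb₀]; group
        exact ⟨(⟨h⁻¹, inv_mem hhH⟩, ⟨_, hk⟩), Subtype.ext (by show h⁻¹ * x₀ * (x₀⁻¹ * h * x) = x; group)⟩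
    rw [← Nat.card_eq_of_bijective φ hφ, Nat.card_prod, pow_two]
  · intro hinv h0
    have hyp : y ^ p = 1 := by rw [← hy]; exact pow_orderOf_eq_one y
    set v := y ^ ((p - 1) / 2) with hv
    have h1 : t * v * t⁻¹ = v⁻¹ := by rw [hv, ← conj_pow, hinv, inv_pow]
    have hvv : v⁻¹ * v⁻¹ = y := by
      rw [hv, ← mul_inv_rev, ← pow_add, show (p - 1) / 2 + (p - 1) / 2 = p - 1 by omega]
      refine inv_eq_of_mul_eq_one_left ?_
      rw [← pow_succ', show p - 1 + 1 = p by have := hp.out.pos; omega, hyp]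
    have hmem : IsConj y (t * (v * t * v⁻¹)) := by
      have e : t * (v * t * v⁻¹) = y := by
        calc t * (v * t * v⁻¹) = (t * v * t⁻¹) * (t * t) * v⁻¹ := by group
          _ = v⁻¹ * v⁻¹ := by rw [h1, ht2, mul_one]
          _ = y := hvv
      rw [e]
    rcases Nat.card_eq_zero.1 h0 with h | h
    · exact h.false ⟨v, hmem⟩
    · exact not_finite {x : G // IsConj y (t * (x * t * x⁻¹))}

end Cfsg.Agent.BlockCount91
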