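import Cfsg.Agent.Lib.BlockTheoryNormal
import Mathlib.RingTheory.Artinian.Module
import Mathlib.RingTheory.Idempotents
import Mathlib.RingTheory.SimpleModule.Basic
import Mathlib.LinearAlgebra.Trace
import Mathlib.LinearAlgebra.Matrix.Nondegenerate

/-!
# Blocks covering a block of a normal subgroup

If `N` is normal in `G`, the restriction of the coefficients of a block ideal of `k[G]` to `N`
is a two sided ideal generated by a central idempotent of `k[N]`. Consequently every character in
a covered block lies under some character of the covering block.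
-/

set_option autoImplicit false

namespace Cfsg.Agent.BlockCovering78

open MonoidAlgebra (single)

attribute [local instance] Classical.propDecidable

section GroupAlgebra

variable {k : Type*} [CommRing k] {G : Type*} [Group G] (N : Subgroup G)

/-- Inclusion of the group algebra of a subgroup. -/
noncomputable def up : MonoidAlgebra k N →+* MonoidAlgebra k G :=
  MonoidAlgebra.mapDomainRingHom k N.subtype

/-- Restriction of coefficients to a subgroup. -/
noncomputable def down : MonoidAlgebra k G →+ MonoidAlgebra k N :=
  MonoidAlgebra.comapDomainAddMonoidHom (Subtype.val : N → G) Subtype.val_injective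

@[simp] theorem coeff_down (z : MonoidAlgebra k G) (n : N) :
    (down N z).coeff n = z.coeff n := by
  show (MonoidAlgebra.comapDomain (Subtype.val : N → G) Subtype.val_injective z).coeff n = _
  rw [MonoidAlgebra.coeff_comapDomain, Finsupp.comapDomain_apply]

theorem down_single (a : G) (r : k) :
    down N (single a r) = if h : a ∈ N then single (⟨a, h⟩ : N) r else 0 := by
  split_ifs with h
  · exact MonoidAlgebra.comapDomain_single_map (Subtype.val : N → G) Subtype.val_injective ⟨a, h⟩ r
  · exact MonoidAlgebra.comapDomain_single_of_not_mem_range (by simpa using h) Subtype.val_injective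

theorem up_single (a : N) (r : k) : up N (single a r) = single (a : G) r := by
  simp [up]

theorem down_mul_up (u : MonoidAlgebra k G) (y : MonoidAlgebra k N) :
    down N (u * up N y) = down N u * y := by
  induction u using MonoidAlgebra.induction_linear with
  | zero => simp
  | add a b ha hb => simp [add_mul, ha, hb]
  | single a r =>
    induction y using MonoidAlgebra.induction_linear with
    | zero => simp
    | add c d hc hd => simp [mul_add, hc, hd]
    | single n s =>
      rw [up_single, MonoidAlgebra.single_mul_single, down_single, down_single]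
      by_cases h : a ∈ N
      · rw [dif_pos h, dif_pos (mul_mem h n.2), MonoidAlgebra.single_mul_single]
        rfl
      · rw [dif_neg h, dif_neg fun h' => h (by simpa using mul_mem h' (inv_mem n.2)), zero_mul]

theorem down_up_mul (y : MonoidAlgebra k N) (u : MonoidAlgebra k G) :
    down N (up N y * u) = y * down N u := by
  induction u using MonoidAlgebra.induction_linear with
  | zero => simp
  | add a b ha hb => simp [mul_add, ha, hb]
  | single a r =>
    induction y using MonoidAlgebra.induction_linear with
    | zero => simp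
    | add c d hc hd => simp [add_mul, hc, hd]
    | single n s =>
      rw [up_single, MonoidAlgebra.single_mul_single, down_single, down_single]
      by_cases h : a ∈ N
      · rw [dif_pos h, dif_pos (mul_mem n.2 h), MonoidAlgebra.single_mul_single]
        rfl
      · rw [dif_neg h, dif_neg fun h' => h (by simpa [← mul_assoc] using mul_mem (inv_mem n.2) h'),
          mul_zero]

variable [N.Normal]

/-- Multiplication decomposes along the cosets. -/
theorem down_mul_eq_sum [Fintype (G ⧸ N)] (u v : MonoidAlgebra k G) :
    down N (u * v) =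
      ∑ q : G ⧸ N, down N (u * single q.out 1) * down N (single q.out⁻¹ 1 * v) := by
  induction u using MonoidAlgebra.induction_linear with
  | zero => simp
  | add a b ha hb => simp [add_mul, Finset.sum_add_distrib, ha, hb]
  | single a r =>
    induction v using MonoidAlgebra.induction_linear with
    | zero => simp
    | add c d hc hd => simp [mul_add, Finset.sum_add_distrib, hc, hd]
    | single b s =>
      rw [Finset.sum_eq_single ((a : G ⧸ N)⁻¹)]
      · simp only [MonoidAlgebra.single_mul_single, one_mul, mul_one, down_single]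
        set t := ((a : G ⧸ N)⁻¹).out with ht
        have h1 : a * t ∈ N := by
          rw [← QuotientGroup.eq_one_iff, QuotientGroup.mk_mul, ht, QuotientGroup.out_eq',
            mul_inv_cancel]
        rw [dif_pos h1]
        by_cases h2 : a * b ∈ N
        · have h3 : t⁻¹ * b ∈ N := by
            have := mul_mem (inv_mem h1) h2
            simpa [mul_assoc] using this
          rw [dif_pos h2, dif_pos h3, MonoidAlgebra.single_mul_single]
          congr 1
          exact Subtype.ext (by simp [mul_assoc])
        · have h3 : t⁻¹ * b ∉ N := fun h3 => h2 (by simpa [mul_assoc] using mul_mem h1 h3)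
          rw [dif_neg h2, dif_neg h3, mul_zero]
      · intro q _ hq
        simp only [MonoidAlgebra.single_mul_single, down_single]
        rw [dif_neg, zero_mul]
        intro h
        apply hq
        rw [← QuotientGroup.eq_one_iff, QuotientGroup.mk_mul, QuotientGroup.out_eq'] at h
        exact eq_inv_of_mul_eq_one_right h
      · simp

/-- Conjugation on the group algebra of a normal subgroup. -/
noncomputable def conjHom (t : G) : MonoidAlgebra k N ≃+* MonoidAlgebra k N :=
  MonoidAlgebra.mapDomainRingEquiv k (MulAut.conjNormal t : MulAut N)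

theorem down_conj (t : G) (y : MonoidAlgebra k G) :
    down N (single t 1 * y * single t⁻¹ 1) = conjHom N t (down N y) := by
  induction y using MonoidAlgebra.induction_linear with
  | zero => simp
  | add a b ha hb => simp [add_mul, mul_add, ha, hb]
  | single a r =>
    rw [MonoidAlgebra.single_mul_single, MonoidAlgebra.single_mul_single, one_mul, mul_one,
      down_single, down_single]
    by_cases h : a ∈ N
    · rw [dif_pos h, dif_pos (‹N.Normal›.conj_mem a h t)]
      simp [conjHom]
      rfl
    · rw [dif_neg h, dif_neg fun h' => h ?_, map_zero]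
      have := ‹N.Normal›.conj_mem _ h' t⁻¹
      simpa [mul_assoc] using this

end GroupAlgebra

section CentralIdempotent

variable {k : Type*} [Field k] {G : Type*} [Group G] [Finite G] (N : Subgroup G) [N.Normal]

/-- Restricting a central idempotent ideal of `k[G]` to a normal subgroup gives an ideal
generated by a central idempotent of `k[N]` which fixes the idempotent. -/
theorem exists_central_idem {ε : MonoidAlgebra k G} (hc : ∀ w, ε * w = w * ε)
    (hi : ε * ε = ε) :
    ∃ (c : MonoidAlgebra k G) (f : MonoidAlgebra k N), f = down N (ε * c) ∧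
      (∀ a, f * a = a * f) ∧ f * f = f ∧ ε * up N f = ε := by
  haveI : IsArtinianRing (MonoidAlgebra k N) := IsArtinianRing.of_finite k _
  haveI : Fintype (G ⧸ N) := Fintype.ofFinite _
  set J := Ring.jacobson (MonoidAlgebra k N) with hJ
  let U : Ideal (MonoidAlgebra k N) :=
    { carrier := Set.range fun c => down N (ε * c)
      add_mem' := by
        rintro _ _ ⟨a, rfl⟩ ⟨b, rfl⟩
        exact ⟨a + b, by simp [mul_add]⟩
      zero_mem' := ⟨0, by simp⟩
      smul_mem' := by
        rintro a _ ⟨c, rfl⟩
        refine ⟨up N a * c, ?_⟩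
        show down N (ε * (up N a * c)) = a * down N (ε * c)
        rw [← mul_assoc, hc, mul_assoc, down_up_mul] }
  have hmemU : ∀ c, down N (ε * c) ∈ U := fun c => ⟨c, rfl⟩
  have hUr : ∀ u ∈ U, ∀ a, u * a ∈ U := by
    rintro _ ⟨c, rfl⟩ a
    exact ⟨c * up N a, by simp only; rw [← mul_assoc, down_mul_up]⟩
  let q : MonoidAlgebra k N →+* MonoidAlgebra k N ⧸ J := Ideal.Quotient.mk J
  have hqs : Function.Surjective q := Ideal.Quotient.mk_surjective
  obtain ⟨n, hn⟩ := IsSemiprimaryRing.isNilpotent (R := MonoidAlgebra k N)
  haveI : IsSemisimpleRing (MonoidAlgebra k N ⧸ J) := IsSemiprimaryRing.isSemisimpleRing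
  obtain ⟨e', he', hspan⟩ := IsSemisimpleRing.ideal_eq_span_idempotent (U.map q)
  have hnil : ∀ x ∈ RingHom.ker q, IsNilpotent x := by
    intro x hx
    refine ⟨n, ?_⟩
    have := Submodule.pow_mem_pow _ (Ideal.Quotient.eq_zero_iff_mem.mp hx) n
    rw [← hJ] at hn
    rw [hn] at this
    exact this
  obtain ⟨g, hg, hqg⟩ := exists_isIdempotentElem_eq_of_ker_isNilpotent q hnil e'
    (RingHom.mem_range.mpr (hqs e')) he'
  have hue : ∀ u ∈ U, u * (1 - g) ∈ J := by
    intro u hu
    have : q u ∈ Ideal.span {e'} := hspan ▸ Ideal.mem_map_of_mem q hu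
    obtain ⟨r, hr⟩ := Ideal.mem_span_singleton'.mp this
    refine Ideal.Quotient.eq_zero_iff_mem.mp (show q _ = 0 from ?_)
    rw [map_mul, map_sub, map_one, hqg, mul_sub, mul_one, ← hr, mul_assoc, he'.eq, sub_self]
  have hgU : g ∈ U := by
    have h0 : ∃ a ∈ U, g - a ∈ J := by
      have : e' ∈ U.map q := hspan ▸ Ideal.mem_span_singleton_self e'
      obtain ⟨a, ha, hqa⟩ := (Ideal.mem_map_iff_of_surjective q hqs).mp this
      exact ⟨a, ha, Ideal.Quotient.eq.mp (hqg.trans hqa.symm)⟩
    obtain ⟨a0, ha0, hga0⟩ := h0
    have key : ∀ m, ∃ a ∈ U, g - a ∈ J ^ (m + 1) := by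
      intro m
      induction m with
      | zero => exact ⟨a0, ha0, by rwa [Nat.zero_add, Submodule.pow_one]⟩
      | succ m ih =>
        obtain ⟨a, ha, hga⟩ := ih
        refine ⟨g * a0 + a * g - a * a0, U.sub_mem (U.add_mem (U.mul_mem_left g ha0)
          (hUr a ha g)) (U.mul_mem_left a ha0), ?_⟩
        rw [Submodule.pow_succ]
        convert Submodule.mul_mem_mul hga hga0 using 1
        simp only [mul_sub, sub_mul, hg.eq]
        abel
    obtain ⟨a, ha, hga⟩ := key n
    rw [Submodule.pow_succ, hn, zero_mul] at hga
    rwa [sub_eq_zero.mp hga]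
  set e := 1 - g with he
  have hee : e * e = e := hg.one_sub.eq
  set x := ε * up N e with hx
  have hxx : x * x = x := by
    rw [hx, mul_assoc, ← mul_assoc (up N e), ← hc (up N e), mul_assoc ε (up N e), ← mul_assoc,
      hi, ← map_mul, hee]
  have hσ : ∀ t, ∀ y ∈ J, conjHom N t y ∈ J := fun t y hy => by
    haveI : RingHomSurjective (conjHom (k := k) N t).toRingHom :=
      ⟨(conjHom (k := k) N t).surjective⟩
    exact Ring.le_comap_jacobson (conjHom (k := k) N t).toRingHom hy
  have hP1 : ∀ (c : MonoidAlgebra k G) (t : G), down N (c * x * single t 1) ∈ J := by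
    intro c t
    have h1 : down N (single t 1 * (c * x)) ∈ J := by
      rw [hx, ← mul_assoc c, ← hc c, ← mul_assoc, down_mul_up, ← mul_assoc, ← hc, mul_assoc]
      exact hue _ (hmemU _)
    have h2 : c * x * single t 1 = single t⁻¹ 1 * (single t 1 * (c * x)) * single (t⁻¹)⁻¹ 1 := by
      rw [← mul_assoc (single t⁻¹ 1), MonoidAlgebra.single_mul_single, inv_mul_cancel, one_mul,
        ← MonoidAlgebra.one_def, one_mul, inv_inv]
    rw [h2, down_conj]
    exact hσ _ _ h1
  have hP0 : ∀ c d : MonoidAlgebra k G, down N (c * x * d) ∈ J := by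
    intro c d
    rw [down_mul_eq_sum]
    exact sum_mem fun q _ => Ideal.mul_mem_right _ _ (hP1 c _)
  have hP : ∀ (m : ℕ) (c d : MonoidAlgebra k G), down N (c * x * d) ∈ J ^ (m + 1) := by
    intro m
    induction m with
    | zero =>
      intro c d
      rw [Nat.zero_add, Submodule.pow_one]
      exact hP0 c d
    | succ m ih =>
      intro c d
      rw [Submodule.pow_succ, ← hxx, ← mul_assoc c x x, mul_assoc (c * x) x d, down_mul_eq_sum]
      refine sum_mem fun q _ => Submodule.mul_mem_mul (ih c _) ?_
      rw [← mul_assoc]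
      exact hP0 _ _
  have hx0 : x = 0 := by
    refine MonoidAlgebra.ext (Finsupp.ext fun a => ?_)
    have := hP n 1 (single a⁻¹ 1)
    rw [Submodule.pow_succ, hn, zero_mul, one_mul] at this
    have h2 := congrArg (fun y => y.coeff (1 : N)) (show down N (x * single a⁻¹ 1) = 0 from this)
    simpa using h2
  have hεg : ε * up N g = ε := by
    rw [hx, he, map_sub, map_one, mul_sub, mul_one, sub_eq_zero] at hx0
    exact hx0.symm
  have hl : ∀ u ∈ U, g * u = u := by
    rintro _ ⟨c, rfl⟩
    show g * down N (ε * c) = down N (ε * c)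
    rw [← down_up_mul, ← mul_assoc, ← hc, hεg]
  have hr : ∀ u ∈ U, u * g = u := by
    rintro _ ⟨c, rfl⟩
    show down N (ε * c) * g = down N (ε * c)
    rw [← down_mul_up, hc c, mul_assoc, hεg]
  obtain ⟨c, hcg⟩ := hgU
  refine ⟨c, g, hcg.symm, fun a => ?_, hg.eq, hεg⟩
  have hgU' : g ∈ U := ⟨c, hcg⟩
  calc g * a = g * a * g := (hr _ (hUr g hgU' a)).symm
    _ = g * (a * g) := mul_assoc _ _ _
    _ = a * g := hl _ (U.mul_mem_left a hgU')

end CentralIdempotent

section Reduction

open Cfsg Cfsg.Agent.BlockTheoryLocalRing Cfsg.Agent.BlockTheoryCentre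
open Cfsg.Agent.BlockTheoryIdem Cfsg.Agent.BlockTheoryBrauer Cfsg.Agent.BlockTheoryNormal

variable {p : ℕ} {M : Ideal AlgInt} (hM : IsPModular p M) {G : Type*} [Group G] [Fintype G]

/-- The local ideal inside the local ring. -/
def locIdeal : Ideal (localRing hM) where
  carrier := {z | MemLocalIdeal M (z : ℂ)}
  add_mem' := fun ha hb => ideal_add hM ha hb
  zero_mem' := ideal_zero hM
  smul_mem' := fun c _ hz => ideal_mul_left hM c.2 hz

theorem isMaximal_locIdeal : (locIdeal hM).IsMaximal := by
  refine Ideal.isMaximal_iff.mpr ⟨fun h => one_not_ideal hM h, fun J x _ hx hxJ => ?_⟩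
  have hne : (x : ℂ) ≠ 0 := fun h => hx (show MemLocalIdeal M (x : ℂ) from h ▸ ideal_zero hM)
  let y : localRing hM := ⟨(x : ℂ)⁻¹, inv_mem hM x.2 hx⟩
  have h1 : y * x = 1 := Subtype.ext (inv_mul_cancel₀ hne)
  exact h1 ▸ J.mul_mem_left y hxJ

/-- Local integral group algebra elements as elements over `ℂ`. -/
noncomputable def iota (H : Type*) [Group H] :
    MonoidAlgebra (localRing hM) H →+* MonoidAlgebra ℂ H :=
  MonoidAlgebra.mapRingHom H (localRing hM).subtype

theorem coeff_iota {H : Type*} [Group H] (w : MonoidAlgebra (localRing hM) H) (x : H) :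
    (iota hM H w).coeff x = (w.coeff x : ℂ) := by simp [iota]

theorem iota_injective {H : Type*} [Group H] : Function.Injective (iota hM H) := fun a b h =>
  MonoidAlgebra.ext <| Finsupp.ext fun x => Subtype.ext <| by
    simpa [coeff_iota] using congrArg (fun z => z.coeff x) h

theorem exists_iota {H : Type*} [Group H] [Fintype H] {z : MonoidAlgebra ℂ H} (hz : IsInt M z) :
    ∃ w, iota hM H w = z := by
  refine ⟨MonoidAlgebra.ofCoeff (Finsupp.equivFunOnFinite.symm fun x => ⟨z.coeff x, hz x⟩),
    MonoidAlgebra.ext (Finsupp.ext fun x => ?_)⟩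
  rw [coeff_iota]
  rfl

theorem isInt_iota {H : Type*} [Group H] [Fintype H] (w : MonoidAlgebra (localRing hM) H) :
    IsInt M (iota hM H w) := fun x => by rw [coeff_iota]; exact (w.coeff x).2

/-- Reduction modulo the local ideal. -/
noncomputable def red (H : Type*) [Group H] :
    MonoidAlgebra (localRing hM) H →+* MonoidAlgebra (localRing hM ⧸ locIdeal hM) H :=
  MonoidAlgebra.mapRingHom H (Ideal.Quotient.mk (locIdeal hM))

theorem coeff_red {H : Type*} [Group H] (w : MonoidAlgebra (localRing hM) H) (x : H) :
    (red hM H w).coeff x = Ideal.Quotient.mk (locIdeal hM) (w.coeff x) := by simp [red]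

theorem small_iota_iff {H : Type*} [Group H] [Fintype H] (a b : MonoidAlgebra (localRing hM) H) :
    Small M (iota hM H a - iota hM H b) ↔ red hM H a = red hM H b := by
  constructor
  · intro h
    refine MonoidAlgebra.ext (Finsupp.ext fun x => ?_)
    rw [coeff_red, coeff_red, Ideal.Quotient.eq]
    have := h x
    simp only [MonoidAlgebra.coeff_sub, Finsupp.coe_sub, Pi.sub_apply, coeff_iota] at this
    exact this
  · intro h x
    have := congrArg (fun z => z.coeff x) h
    simp only [coeff_red, Ideal.Quotient.eq] at this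
    simp only [MonoidAlgebra.coeff_sub, Finsupp.coe_sub, Pi.sub_apply, coeff_iota]
    exact this

/-- A lift of a residue class. -/
noncomputable def lift (a : localRing hM ⧸ locIdeal hM) : localRing hM :=
  Function.surjInv Ideal.Quotient.mk_surjective a

theorem mk_lift (a : localRing hM ⧸ locIdeal hM) : Ideal.Quotient.mk (locIdeal hM) (lift hM a) = a :=
  Function.surjInv_eq _ a

theorem exists_red {H : Type*} [Group H] [Fintype H]
    (w : MonoidAlgebra (localRing hM ⧸ locIdeal hM) H) : ∃ u, red hM H u = w :=
  ⟨MonoidAlgebra.ofCoeff (Finsupp.equivFunOnFinite.symm fun x => lift hM (w.coeff x)),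
    MonoidAlgebra.ext (Finsupp.ext fun x => by rw [coeff_red]; exact mk_lift hM _)⟩

variable {hM} (N : Subgroup G) [Fintype N]

omit [Fintype G] [Fintype N] in
theorem iota_up (w : MonoidAlgebra (localRing hM) N) :
    iota hM G (up N w) = incl N (iota hM N w) := by
  have := MonoidAlgebra.mapRingHom_comp_mapDomainRingHom (localRing hM).subtype N.subtype
  exact RingHom.congr_fun this w

theorem iota_down (w : MonoidAlgebra (localRing hM) G) :
    iota hM N (down N w) = res N (iota hM G w) := by
  refine MonoidAlgebra.ext (Finsupp.ext fun x => ?_)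
  rw [coeff_iota, coeff_down, coeff_res, coeff_iota]

theorem red_down (w : MonoidAlgebra (localRing hM) G) :
    red hM N (down N w) = down N (red hM G w) := by
  refine MonoidAlgebra.ext (Finsupp.ext fun x => ?_)
  rw [coeff_red, coeff_down, coeff_down, coeff_red]

omit [Fintype G] [Fintype N] in
theorem red_up (w : MonoidAlgebra (localRing hM) N) :
    red hM G (up N w) = up N (red hM N w) := by
  have := MonoidAlgebra.mapRingHom_comp_mapDomainRingHom (Ideal.Quotient.mk (locIdeal hM)) N.subtype
  exact RingHom.congr_fun this w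

/-- Coefficients of a central element are constant on classes. -/
theorem coeff_conj_of_comm {k : Type*} [CommRing k] {H : Type*} [Group H] {f : MonoidAlgebra k H}
    (hf : ∀ a, f * a = a * f) (g h : H) : f.coeff (h * g * h⁻¹) = f.coeff g := by
  have := congrArg (fun z => z.coeff (h * g)) (hf (single h 1))
  rw [MonoidAlgebra.coeff_mul_single_eq_coeff_mul (h * g * h⁻¹) (fun m _ => ?_),
    MonoidAlgebra.coeff_single_mul_eq_mul_coeff g (fun m _ => ?_)] at this
  · simpa using this
  · exact mul_left_cancel_iff
  · exact eq_mul_inv_iff_mul_eq.symm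

/-- A small element fixed by right multiplication by a small element is zero. -/
theorem eq_zero_of_mul_small (hM : IsPModular p M) {H : Type*} [Group H] [Fintype H]
    {w s : MonoidAlgebra ℂ H} (hs : Small M s) (h : w * s = w) : w = 0 := by
  let A : Matrix H H (localRing hM) := fun y x =>
    (if y = x then 1 else 0) - ⟨s.coeff (y⁻¹ * x), ideal_le_ring (hs _)⟩
  have hA : A.map (Ideal.Quotient.mk (locIdeal hM)) = 1 := by
    ext y x
    have h0 : Ideal.Quotient.mk (locIdeal hM)
        (⟨s.coeff (y⁻¹ * x), ideal_le_ring (hs _)⟩ : localRing hM) = 0 :=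
      Ideal.Quotient.eq_zero_iff_mem.mpr (hs _)
    show Ideal.Quotient.mk (locIdeal hM) ((if y = x then 1 else 0) - _) = _
    rw [map_sub, h0, sub_zero, Matrix.one_apply]
    split_ifs <;> first | exact map_one _ | exact map_zero _
  haveI := isMaximal_locIdeal hM
  have hdet : A.det ≠ 0 := by
    intro h0
    have := RingHom.map_det (Ideal.Quotient.mk (locIdeal hM)) A
    rw [h0, map_zero, show (Ideal.Quotient.mk (locIdeal hM)).mapMatrix A = 1 from hA,
      Matrix.det_one] at this
    exact zero_ne_one this
  have hdet' : (A.map (localRing hM).subtype).det ≠ 0 := by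
    rw [← RingHom.mapMatrix_apply, ← RingHom.map_det]
    simpa using hdet
  have hv : Matrix.vecMul (fun y => w.coeff y) (A.map (localRing hM).subtype) = 0 := by
    funext x
    have e := congrArg (fun z => z.coeff x) h
    simp only [coeff_mul_eq] at e
    have hAe : ∀ y, (A.map (localRing hM).subtype) y x =
        (if y = x then 1 else 0) - s.coeff (y⁻¹ * x) := fun y => by
      show (localRing hM).subtype ((if y = x then 1 else 0) - _) = _
      rw [map_sub]
      split_ifs <;> simp
    simp only [Matrix.vecMul, dotProduct, hAe, mul_sub, Finset.sum_sub_distrib, Pi.zero_apply]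
    rw [e, sub_eq_zero, Finset.sum_eq_single x]
    · simp
    · intro y _ hy; simp [hy]
    · simp
  have := Matrix.eq_zero_of_vecMul_eq_zero hdet' hv
  exact MonoidAlgebra.ext (Finsupp.ext fun x => congrFun this x)

/-- A group algebra element killed by all character sums of its translates is zero. -/
theorem eq_zero_of_chiSum {z : MonoidAlgebra ℂ G}
    (h : ∀ (χ : IrrCharacter G) (g : G), chiSum (χ : G → ℂ) (z * single g 1) = 0) : z = 0 := by
  refine MonoidAlgebra.ext (Finsupp.ext fun g => ?_)
  have key : ∀ y : MonoidAlgebra ℂ G, (∀ χ : IrrCharacter G, chiSum (χ : G → ℂ) y = 0) →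
      y.coeff 1 = 0 := by
    intro y hy
    have h1 : y.coeff 1 = ∑ x : G, y.coeff x * (idem (Set.univ : Set (IrrCharacter G))).coeff x⁻¹ := by
      rw [idem_univ, Finset.sum_eq_single 1]
      · simp [MonoidAlgebra.one_def]
      · intro x _ hx
        simp [MonoidAlgebra.one_def, Ne.symm hx, hx]
      · simp
    rw [h1]
    simp only [coeff_idem, blockCoeff_eq_sum, Set.mem_univ, if_true, Finset.mul_sum]
    rw [Finset.sum_comm]
    refine Finset.sum_eq_zero fun χ _ => ?_
    calc _ = (Nat.card G : ℂ)⁻¹ * (χ : G → ℂ) 1 * chiSum (χ : G → ℂ) y := by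
          rw [chiSum_apply, Finset.mul_sum]
          refine Finset.sum_congr rfl fun x _ => ?_
          rw [irr_inv, Complex.conj_conj]
          ring
      _ = 0 := by rw [hy χ, mul_zero]
  have := key (z * single g⁻¹ 1) fun χ => h χ g⁻¹
  simpa using this

variable [N.Normal]

theorem chiSum_incl (χ : G → ℂ) (w : MonoidAlgebra ℂ N) :
    chiSum χ (incl N w) = chiSum (fun n : N => χ n) w := by
  rw [chiSum_apply, chiSum_apply]
  refine (Fintype.sum_of_injective (fun n : N => (n : G)) Subtype.val_injective _ _ ?_ ?_).symm
  · intro x hx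
    rw [coeff_incl_of_notMem N w (by simpa using hx), zero_mul]
  · intro n
    rw [coeff_incl_coe]

theorem chiSum_incl_idem (χ : IrrCharacter G) (θ : IrrCharacter N) :
    chiSum (χ : G → ℂ) (incl N (idem {θ})) =
      classInner (fun n : N => (χ : G → ℂ) n) (θ : N → ℂ) * (θ : N → ℂ) 1 := by
  have hcf : IsClassFunction N (fun n : N => (χ : G → ℂ) n) :=
    fun a b => irr_classFun χ (a : G) (b : G)
  rw [chiSum_incl]
  have h : ∀ ξ : IrrCharacter N, chiSum (ξ : N → ℂ) (idem {θ}) =
      if ξ = θ then (ξ : N → ℂ) 1 else 0 := fun ξ => by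
    have := chiSum_idem_mul {θ} ξ 1
    rw [mul_one] at this
    rw [this, MonoidAlgebra.one_def, chiSum_single, one_mul]
    simp
  conv_lhs => rw [CharBasicOrth.eq_sum_classInner hcf]
  rw [chiSum_apply]
  simp only [Finset.sum_apply, Pi.smul_apply, smul_eq_mul, Finset.mul_sum]
  rw [Finset.sum_comm, Finset.sum_eq_single θ]
  · calc _ = classInner (fun n : N => (χ : G → ℂ) n) (θ : N → ℂ) *
          chiSum (θ : N → ℂ) (idem {θ}) := by
          rw [chiSum_apply, Finset.mul_sum]; exact Finset.sum_congr rfl fun n _ => by ring
      _ = _ := by rw [h, if_pos rfl]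
  · intro ξ _ hξ
    calc _ = classInner (fun n : N => (χ : G → ℂ) n) (ξ : N → ℂ) *
          chiSum (ξ : N → ℂ) (idem {θ}) := by
          rw [chiSum_apply, Finset.mul_sum]; exact Finset.sum_congr rfl fun n _ => by ring
      _ = 0 := by rw [h, if_neg hξ, mul_zero]
  · simp

/-- A character that is no constituent is killed by the corresponding idempotent. -/
theorem chiSum_incl_idem_mul (χ : IrrCharacter G) (θ : IrrCharacter N)
    (h : classInner (fun n : N => (χ : G → ℂ) n) (θ : N → ℂ) = 0) (w : MonoidAlgebra ℂ G) :
    chiSum (χ : G → ℂ) (incl N (idem {θ}) * w) = 0 := by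
  obtain ⟨n, ρ, -, hρ⟩ := χ.2
  have htr := chiSum_incl_idem N χ θ
  rw [h, zero_mul, ← hρ, chiSum_character] at htr
  set P := ρ.asAlgebraHom (incl N (idem {θ})) with hP
  have hidem : IsIdempotentElem P := by
    rw [IsIdempotentElem, hP, ← map_mul, ← map_mul, idem_sq]
  have hP0 : P = 0 := by
    obtain ⟨hrange, htr'⟩ : LinearMap.IsProj (LinearMap.range P) P ∧ True :=
      ⟨LinearMap.IsIdempotentElem.isProj_range P hidem, trivial⟩
    rw [LinearMap.IsProj.trace hrange, Nat.cast_eq_zero, Submodule.finrank_eq_zero,
      LinearMap.range_eq_bot] at htr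
    exact htr
  rw [← hρ, chiSum_character, map_mul, ← hP, hP0, zero_mul, map_zero]

/-- The idempotent of a covered block is the restriction of an element of the covering block
ideal, up to a small error. -/
theorem exists_small {B : Set (IrrCharacter G)} (hB : IsPBlock M B)
    {b : Set (IrrCharacter N)} (hb : IsPBlock M b) (hM : IsPModular p M)
    (hcov : ∃ χ ∈ B, ∃ θ ∈ b, classInner (fun n : N => (χ : G → ℂ) n) (θ : N → ℂ) ≠ 0) :
    ∃ C : MonoidAlgebra ℂ G, Small M (idem b - res N (idem B * C)) := by
  haveI := isMaximal_locIdeal hM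
  letI : Field (localRing hM ⧸ locIdeal hM) := Ideal.Quotient.field _
  have hEi : IsInt M (idem B) := isInt_idem hM hB
  have hei : IsInt M (idem b) := isInt_idem hM hb
  obtain ⟨E, hE⟩ := exists_iota hM hEi
  obtain ⟨c0, f, hf, hfc, hff, hfε⟩ := exists_central_idem N (ε := red hM G E)
    (fun w => by
      obtain ⟨u, rfl⟩ := exists_red hM w
      rw [← map_mul, ← map_mul]
      congr 1
      apply iota_injective hM
      rw [map_mul, map_mul, hE]
      exact (isCen_idem B).comm _)
    (by
      rw [← map_mul]
      congr 1
      apply iota_injective hM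
      rw [map_mul, hE, idem_sq])
  obtain ⟨C, hC⟩ := exists_red hM c0
  let F : MonoidAlgebra (localRing hM) N :=
    MonoidAlgebra.ofCoeff (Finsupp.equivFunOnFinite.symm fun x => lift hM (f.coeff x))
  have hF : red hM N F = f :=
    MonoidAlgebra.ext (Finsupp.ext fun x => by rw [coeff_red]; exact mk_lift hM _)
  set z := iota hM N F with hz
  have hzi : IsInt M z := isInt_iota hM F
  have hzc : IsCen z := fun g h => by
    simp only [hz, coeff_iota]
    show ((lift hM (f.coeff (h * g * h⁻¹))) : ℂ) = (lift hM (f.coeff g) : ℂ)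
    rw [coeff_conj_of_comm hfc]
  have hzz : Small M (z * z - z) := by
    rw [hz, ← map_mul, small_iota_iff, map_mul, hF, hff]
  have hzC : Small M (z - res N (idem B * iota hM G C)) := by
    rw [hz, ← hE, ← map_mul, ← iota_down, small_iota_iff, red_down, map_mul, hF, hC, hf]
  have hzE : Small M (idem B * incl N z - idem B) := by
    rw [hz, ← hE, ← iota_up, ← map_mul, small_iota_iff, map_mul, red_up, hF, hfε]
  refine ⟨iota hM G C * incl N (idem b), ?_⟩
  obtain ⟨χ0, hχ0, θ0, hθ0, hne⟩ := hcov
  have hω : ∀ φ : IrrCharacter N, MemLocalIdeal M (omega (φ : N → ℂ) z) ∨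
      MemLocalIdeal M (omega (φ : N → ℂ) z - 1) := by
    intro φ
    have h1 := omega_ideal_of_small hM φ ((hzc.mul hzc).sub hzc) hzz
    rw [map_sub, omega_mul φ hzc] at h1
    by_contra! hn
    have hr := omega_mem_localRing hM φ hzc hzi
    exact not_ideal_mul hM hr ((localRing hM).sub_mem hr (localRing hM).one_mem) hn.1 hn.2
      (by rwa [mul_sub, mul_one])
  have hconst : ∀ φ ∈ b, MemLocalIdeal M (omega (φ : N → ℂ) z - omega (θ0 : N → ℂ) z) :=
    fun φ hφ => omega_sub_mem hM (sameBlock_of_mem hM hb hφ hθ0) hzc hzi
  -- central elements whose characters on `b` are small become small on the block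
  have hsmall : ∀ y : MonoidAlgebra ℂ N, IsCen y → IsInt M y → Small M (y * y - y) →
      (∀ φ ∈ b, MemLocalIdeal M (omega (φ : N → ℂ) y)) → Small M (y * idem b) := by
    intro y hyc hyi hyy hy
    have hc := hyc.mul (isCen_idem b)
    have hi := IsInt.mul hM hyi hei
    obtain ⟨m, hm⟩ := exists_small_pow hM hc hi fun φ => by
      rw [omega_mul φ hyc, omega_idem]
      split_ifs with hφ
      · rw [mul_one]; exact hy φ hφ
      · rw [mul_zero]; exact ideal_zero hM
    refine small_of_idem_of_pow hM hi ?_ (N := m + 1) (Nat.succ_ne_zero m) ?_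
    · have : y * idem b * (y * idem b) - y * idem b = (y * y - y) * idem b := by
        rw [mul_assoc, ← mul_assoc (idem b) y, ← hyc.comm (idem b), mul_assoc y (idem b), idem_sq,
          sub_mul, mul_assoc]
      rw [this]
      exact small_mul_right hM hyy hei
    · rw [pow_succ]
      exact small_mul_right hM hm hi
  rcases hω θ0 with h0 | h1
  · exfalso
    have hs := hsmall z hzc hzi hzz fun φ hφ => by
      simpa using ideal_add hM (hconst φ hφ) h0
    have h2 : Small M (idem B * incl N (idem b)) := by
      have h3 : Small M (idem B * incl N (z * idem b)) :=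
        small_mul_left hM hEi fun x => by
          by_cases hx : x ∈ N
          · rw [show x = ((⟨x, hx⟩ : N) : G) from rfl, coeff_incl_coe]; exact hs _
          · rw [coeff_incl_of_notMem N _ hx]; exact ideal_zero hM
      have h4 : Small M ((idem B * incl N z - idem B) * incl N (idem b)) :=
        small_mul_right hM hzE (isInt_incl N hM hei)
      have := small_sub hM h3 h4
      rwa [sub_mul, map_mul, ← mul_assoc, sub_sub_cancel] at this
    have h5 : idem B * incl N (idem b) = 0 := by
      refine eq_zero_of_mul_small hM h2 ?_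
      rw [mul_assoc, ← mul_assoc (incl N (idem b)), ← (isCen_idem B).comm (incl N (idem b)),
        mul_assoc (idem B) (incl N (idem b)), ← mul_assoc, idem_sq, ← map_mul, idem_sq]
    have h6 : idem B * incl N (idem {θ0}) = 0 := by
      have : idem {θ0} = idem b * idem {θ0} := by
        rw [idem_mul_idem, Set.inter_eq_right.mpr (Set.singleton_subset_iff.mpr hθ0)]
      rw [this, map_mul, ← mul_assoc, h5, zero_mul]
    have h7 := chiSum_idem_mul B χ0 (incl N (idem {θ0}))
    rw [h6, map_zero, if_pos hχ0, chiSum_incl_idem] at h7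
    exact mul_ne_zero hne (irr_one_ne_zero θ0) h7.symm
  · have hyy : Small M ((1 - z) * (1 - z) - (1 - z)) := by
      have : (1 - z) * (1 - z) - (1 - z) = z * z - z := by
        simp only [sub_mul, mul_sub, one_mul, mul_one]; abel
      rwa [this]
    have hs := hsmall (1 - z) (isCen_one.sub hzc) (IsInt.sub hM (isInt_one hM) hzi) hyy
      fun φ hφ => by
        rw [map_sub, omega_one]
        have := ideal_neg (ideal_add hM (hconst φ hφ) h1)
        simpa using this
    have := small_add hM hs (small_mul_right hM hzC hei)
    rw [← mul_assoc, res_mul_incl]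
    rw [sub_mul, sub_mul, one_mul, sub_add_sub_cancel] at this
    exact this

/-- Every character of a covered block lies under a character of the covering block. -/
theorem exists_over {B : Set (IrrCharacter G)} (hB : IsPBlock M B)
    {b : Set (IrrCharacter N)} (hb : IsPBlock M b) (hM : IsPModular p M)
    (hcov : ∃ χ ∈ B, ∃ θ ∈ b, classInner (fun n : N => (χ : G → ℂ) n) (θ : N → ℂ) ≠ 0)
    {θ : IrrCharacter N} (hθ : θ ∈ b) :
    ∃ χ ∈ B, classInner (fun n : N => (χ : G → ℂ) n) (θ : N → ℂ) ≠ 0 := by
  by_contra! hall
  obtain ⟨C, hC⟩ := exists_small N hB hb hM hcov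
  have h0 : incl N (idem {θ}) * (idem B * C) = 0 := by
    refine eq_zero_of_chiSum fun χ g => ?_
    rw [mul_assoc, mul_assoc]
    by_cases hχ : χ ∈ B
    · exact chiSum_incl_idem_mul N χ θ (hall χ hχ) _
    · rw [← mul_assoc, ← (isCen_idem B).comm (incl N (idem {θ})), mul_assoc, chiSum_idem_mul,
        if_neg hχ]
  have hres : idem {θ} * res N (idem B * C) = 0 := by
    have := res_mul_of_supported N (z := incl N (idem {θ}))
      (fun x hx => coeff_incl_of_notMem N _ hx) (idem B * C)
    rw [h0, map_zero] at this
    have h1 : res N (incl N (idem {θ})) = idem {θ} :=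
      MonoidAlgebra.ext (Finsupp.ext fun n => by rw [coeff_res, coeff_incl_coe])
    rw [h1] at this
    exact this.symm
  have hfix : idem {θ} * (idem b - res N (idem B * C)) = idem {θ} := by
    rw [mul_sub, hres, sub_zero, idem_mul_idem,
      Set.inter_eq_left.mpr (Set.singleton_subset_iff.mpr hθ)]
  have hzero := eq_zero_of_mul_small hM hC hfix
  have := omega_idem {θ} θ
  rw [hzero, map_zero, if_pos (Set.mem_singleton θ)] at this
  exact zero_ne_one this

end Reduction

end Cfsg.Agent.BlockCovering78
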