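import Cfsg.Agent.Lib.BlockAbelianSylow86
import Cfsg.Agent.Lib.SignedDifferences86

/-!
The abstract shape of a block of defect one: a family of functions on the nontrivial elements of a
group `A` of prime order with prescribed column inner products, together with the relations on
regular elements and a lower bound on the number of modular constituents.
-/

set_option autoImplicit false

open scoped ComplexConjugate

namespace Cfsg.Agent.BlockDefectOneShape86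

open Cfsg.Agent.BlockAbelianSylow86 (sum_apply_eq_zero sum_mul_conj sum_dual conj_apply)

attribute [local instance] Classical.propDecidable

variable {A : Type*} [CommGroup A] [Fintype A] [Fintype (A →* ℂˣ)] {p : ℕ} [Fact p.Prime]
  (E : Subgroup (MulAut A))

/-- Conjugacy of linear characters under a group of automorphisms. -/
def Same (ψ φ : A →* ℂˣ) : Prop := ∃ σ ∈ E, φ.comp (σ : MulAut A).toMonoidHom = ψ

/-- The sum over an orbit of linear characters. -/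
noncomputable def orbitVal (ψ : A →* ℂˣ) (y : A) : ℂ :=
  ∑ φ ∈ Finset.univ.filter (fun φ => Same E φ ψ), (φ y : ℂ)

variable {E}

omit [Fintype A] [Fintype (A →* ℂˣ)] in
theorem same_refl (ψ : A →* ℂˣ) : Same E ψ ψ := ⟨1, one_mem _, rfl⟩

omit [Fintype A] [Fintype (A →* ℂˣ)] in
theorem same_symm {ψ φ : A →* ℂˣ} (h : Same E ψ φ) : Same E φ ψ := by
  obtain ⟨σ, hσ, rfl⟩ := h
  exact ⟨σ⁻¹, inv_mem hσ, MonoidHom.ext fun x => congrArg φ (MulAut.apply_inv_self A σ x)⟩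

omit [Fintype A] [Fintype (A →* ℂˣ)] in
theorem same_trans {ψ φ χ : A →* ℂˣ} (h : Same E ψ φ) (h' : Same E φ χ) : Same E ψ χ := by
  obtain ⟨σ, hσ, rfl⟩ := h
  obtain ⟨τ, hτ, rfl⟩ := h'
  exact ⟨τ * σ, mul_mem hτ hσ, rfl⟩

omit [Fintype A] [Fintype (A →* ℂˣ)] in
theorem same_ne_one {ψ φ : A →* ℂˣ} (h : Same E ψ φ) (hψ : ψ ≠ 1) : φ ≠ 1 := by
  obtain ⟨σ, hσ, rfl⟩ := h
  rintro rfl
  exact hψ rfl

variable (hA : Nat.card A = p)

include hA

omit [Fintype A] [Fintype (A →* ℂˣ)] in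
theorem eq_one_of_fixed {σ : MulAut A} {x : A} (hx : x ≠ 1) (h : σ x = x) : σ = 1 := by
  refine MulEquiv.ext fun y => ?_
  obtain ⟨i, rfl⟩ := Subgroup.mem_zpowers_iff.1
    (show y ∈ Subgroup.zpowers x by rw [zpowers_eq_top_of_prime_card hA hx]; trivial)
  rw [map_zpow, h, MulAut.one_apply]

omit [Fintype A] [Fintype (A →* ℂˣ)] in
theorem act_injective {φ : A →* ℂˣ} (hφ : φ ≠ 1) {σ τ : MulAut A}
    (h : φ.comp σ.toMonoidHom = φ.comp τ.toMonoidHom) : σ = τ := by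
  haveI : Finite A := Nat.finite_of_card_ne_zero (by rw [hA]; exact (Fact.out : p.Prime).ne_zero)
  obtain ⟨x, hx⟩ : ∃ x : A, φ x ≠ 1 := by
    by_contra hh
    push Not at hh
    exact hφ (MonoidHom.ext hh)
  have hinj : Function.Injective φ := by
    rw [injective_iff_map_eq_one]
    intro y hy
    by_contra hy1
    apply hx
    obtain ⟨i, rfl⟩ := Subgroup.mem_zpowers_iff.1
      (show x ∈ Subgroup.zpowers y by rw [zpowers_eq_top_of_prime_card hA hy1]; trivial)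
    rw [map_zpow, hy, one_zpow]
  exact MulEquiv.ext fun y => hinj (DFunLike.congr_fun h y)

variable [Fintype E]

theorem card_orbit {ψ : A →* ℂˣ} (hψ : ψ ≠ 1) :
    (Finset.univ.filter fun φ => Same E φ ψ).card = Nat.card E := by
  rw [show (Finset.univ.filter fun φ => Same E φ ψ) =
    (Finset.univ : Finset E).image (fun σ : E => ψ.comp (σ : MulAut A).toMonoidHom) by
      ext φ
      constructor
      · intro hφ
        obtain ⟨σ, hσ, h⟩ := (Finset.mem_filter.1 hφ).2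
        exact Finset.mem_image.2 ⟨⟨σ, hσ⟩, Finset.mem_univ _, h⟩
      · intro hφ
        obtain ⟨σ, -, h⟩ := Finset.mem_image.1 hφ
        exact Finset.mem_filter.2 ⟨Finset.mem_univ _, σ, σ.2, h⟩,
    Finset.card_image_of_injective _ (fun σ τ h => Subtype.ext (act_injective hA hψ h)),
    Finset.card_univ, Nat.card_eq_fintype_card]

omit [Fintype (A →* ℂˣ)] in
theorem sum_conj_orbit {x : A} (hx : x ≠ 1) (F : A → ℂ) :
    ∑ y : A, (if ∃ σ ∈ E, (σ : MulAut A) x = y then F y else 0) =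
      ∑ σ : E, F ((σ : MulAut A) x) := by
  rw [← Finset.sum_filter, show (Finset.univ.filter fun y : A => ∃ σ ∈ E, (σ : MulAut A) x = y) =
    (Finset.univ : Finset E).image (fun σ : E => (σ : MulAut A) x) by ext y; simp]
  refine Finset.sum_image fun σ _ τ _ h => Subtype.ext ?_
  have h1 : ((τ : MulAut A)⁻¹ * (σ : MulAut A)) x = x := by
    show (τ : MulAut A)⁻¹ ((σ : MulAut A) x) = x
    rw [h]
    exact MulAut.inv_apply_self A (τ : MulAut A) x
  exact (inv_mul_eq_one.1 (eq_one_of_fixed hA hx h1)).symm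

omit hA [Fintype (A →* ℂˣ)] [Fintype E]

variable {ι : Type*} (c : ι → A → ℂ)

/-- The reduced multiplicity of a linear character. -/
noncomputable def mult (χ : ι) (ψ : A →* ℂˣ) : ℂ :=
  (Nat.card A : ℂ)⁻¹ * ∑ y : A, c χ y * (conj (ψ y : ℂ) - 1)

theorem mult_one (χ : ι) : mult c χ 1 = 0 := by
  simp [mult]

theorem eq_sum_mult [Fintype (A →* ℂˣ)] (χ : ι) {x : A} (hx : x ≠ 1) :
    c χ x = ∑ ψ : A →* ℂˣ, mult c χ ψ * (ψ x : ℂ) := by
  simp only [mult, mul_assoc, Finset.sum_mul, ← Finset.mul_sum]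
  rw [Finset.sum_comm]
  have e : ∀ y : A, ∑ ψ : A →* ℂˣ, c χ y * ((conj (ψ y : ℂ) - 1) * (ψ x : ℂ)) =
      if x = y then c χ y * (Fintype.card A : ℂ) else 0 := by
    intro y
    rw [← Finset.mul_sum]
    have e2 : ∑ ψ : A →* ℂˣ, (conj (ψ y : ℂ) - 1) * (ψ x : ℂ) =
        (∑ ψ : A →* ℂˣ, (ψ (y⁻¹ * x) : ℂ)) - ∑ ψ : A →* ℂˣ, (ψ x : ℂ) := by
      rw [← Finset.sum_sub_distrib]
      refine Finset.sum_congr rfl fun ψ _ => ?_
      rw [sub_mul, one_mul, conj_apply, map_mul, Units.val_mul]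
    rw [e2, sum_dual, sum_dual, if_neg hx, sub_zero]
    by_cases h : x = y
    · subst h; simp
    · rw [if_neg h, if_neg fun h' => h (inv_mul_eq_one.1 h').symm, mul_zero]
  rw [Finset.sum_congr rfl fun y _ => e y, Finset.sum_ite_eq, if_pos (Finset.mem_univ x),
    Nat.card_eq_fintype_card]
  have : (Fintype.card A : ℂ) ≠ 0 := Nat.cast_ne_zero.2 Fintype.card_ne_zero
  field_simp

variable {R : Type*} (W : Finset ι) (val : ι → R → ℂ)

theorem sum_mult_val (hrel : ∀ x : A, x ≠ 1 → ∀ g, ∑ χ ∈ W, c χ x * val χ g = 0)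
    (ψ : A →* ℂˣ) (g : R) : ∑ χ ∈ W, mult c χ ψ * val χ g = 0 := by
  simp only [mult, Finset.mul_sum, Finset.sum_mul]
  rw [Finset.sum_comm]
  refine Finset.sum_eq_zero fun x _ => ?_
  rcases eq_or_ne x 1 with rfl | hx
  · simp
  · rw [Finset.sum_congr rfl fun χ _ => show (Nat.card A : ℂ)⁻¹ * (c χ x * (conj (ψ x : ℂ) - 1)) * val χ g =
      (Nat.card A : ℂ)⁻¹ * (conj (ψ x : ℂ) - 1) * (c χ x * val χ g) by ring, ← Finset.mul_sum,
      hrel x hx g, mul_zero]

variable [Fintype (A →* ℂˣ)] [Fintype E]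

include hA in
theorem gram (hcol : ∀ x y : A, x ≠ 1 → y ≠ 1 → ∑ χ ∈ W, c χ x * conj (c χ y) =
      if ∃ σ ∈ E, (σ : MulAut A) x = y then (p : ℂ) else 0)
    (m : ι → (A →* ℂˣ) → ℤ) (hm : ∀ χ ψ, mult c χ ψ = (m χ ψ : ℂ))
    {ψ φ : A →* ℂˣ} (hψ : ψ ≠ 1) (hφ : φ ≠ 1) :
    ∑ χ ∈ W, m χ ψ * m χ φ = (Nat.card E : ℤ) + if Same E ψ φ then 1 else 0 := by
  refine Int.cast_injective (α := ℂ) ?_
  set q : ℂ := (p : ℂ) with hq
  have hq0 : q ≠ 0 := Nat.cast_ne_zero.2 (Fact.out : p.Prime).ne_zero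
  have h1 : ∀ χ : ι, ((m χ ψ * m χ φ : ℤ) : ℂ) = q⁻¹ * q⁻¹ *
      ∑ x : A, ∑ y : A, (c χ x * conj (c χ y)) * ((conj (ψ x : ℂ) - 1) * ((φ y : ℂ) - 1)) := by
    intro χ
    rw [Int.cast_mul, ← hm, show mult c χ ψ * (m χ φ : ℂ) = mult c χ ψ * conj (mult c χ φ) by
      rw [hm χ φ, map_intCast]]
    simp only [mult, map_mul, map_inv₀, map_natCast, map_sum, map_sub, map_one, Complex.conj_conj,
      hA, ← hq]
    rw [show conj q = q by rw [hq, map_natCast], mul_mul_mul_comm, Finset.sum_mul_sum]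
    exact congrArg _ (Finset.sum_congr rfl fun x _ => Finset.sum_congr rfl fun y _ => by ring)
  have h2 : ∀ x : A, ∑ y : A, (∑ χ ∈ W, c χ x * conj (c χ y)) * ((conj (ψ x : ℂ) - 1) * ((φ y : ℂ) - 1)) =
      q * ∑ σ : E, (conj (ψ x : ℂ) - 1) * ((φ ((σ : MulAut A) x) : ℂ) - 1) := by
    intro x
    rcases eq_or_ne x 1 with rfl | hx
    · simp
    rw [← sum_conj_orbit hA hx (fun y => (conj (ψ x : ℂ) - 1) * ((φ y : ℂ) - 1)), Finset.mul_sum]
    refine Finset.sum_congr rfl fun y _ => ?_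
    rcases eq_or_ne y 1 with rfl | hy
    · simp
    rw [hcol x y hx hy]
    split_ifs <;> simp
  have h3 : ∀ σ : E, ∑ x : A, (conj (ψ x : ℂ) - 1) * ((φ ((σ : MulAut A) x) : ℂ) - 1) =
      q * ((if φ.comp (σ : MulAut A).toMonoidHom = ψ then 1 else 0) + 1) := by
    intro σ
    set φ' := φ.comp (σ : MulAut A).toMonoidHom with hφ'
    have e : ∀ x, (conj (ψ x : ℂ) - 1) * ((φ ((σ : MulAut A) x) : ℂ) - 1) =
        (φ' x : ℂ) * conj (ψ x : ℂ) - (φ' x : ℂ) - (ψ⁻¹ x : ℂ) + 1 := fun x => by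
      rw [conj_apply, MonoidHom.inv_apply, ← map_inv, hφ', MonoidHom.comp_apply]
      simp only [MulEquiv.coe_toMonoidHom]
      ring
    have hn1 : φ' ≠ 1 := same_ne_one (E := E) (same_symm ⟨σ, σ.2, rfl⟩) hφ
    rw [Finset.sum_congr rfl fun x _ => e x, Finset.sum_add_distrib, Finset.sum_sub_distrib,
      Finset.sum_sub_distrib, sum_mul_conj, sum_apply_eq_zero hn1,
      sum_apply_eq_zero (ψ := ψ⁻¹) (fun h' => hψ (MonoidHom.ext fun z => inv_eq_one.1 (DFunLike.congr_fun h' z))), Finset.sum_const, nsmul_eq_mul, mul_one,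
      Finset.card_univ, ← Nat.card_eq_fintype_card, hA, ← hq]
    split_ifs <;> ring
  have h4 : (∑ σ : E, if φ.comp (σ : MulAut A).toMonoidHom = ψ then (1 : ℂ) else 0) =
      if Same E ψ φ then 1 else 0 := by
    split_ifs with h
    · obtain ⟨σ, hσ, hσe⟩ := h
      rw [Finset.sum_eq_single ⟨σ, hσ⟩ (fun τ _ hne => if_neg fun h' => hne (Subtype.ext
        (act_injective hA hφ (h'.trans hσe.symm)))) (fun h => absurd (Finset.mem_univ _) h),
        if_pos hσe]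
    · exact Finset.sum_eq_zero fun σ _ => if_neg fun h' => h ⟨σ, σ.2, h'⟩
  calc ((∑ χ ∈ W, m χ ψ * m χ φ : ℤ) : ℂ)
      = q⁻¹ * q⁻¹ * ∑ x : A, ∑ y : A,
          (∑ χ ∈ W, c χ x * conj (c χ y)) * ((conj (ψ x : ℂ) - 1) * ((φ y : ℂ) - 1)) := by
        rw [Int.cast_sum, Finset.sum_congr rfl fun χ _ => h1 χ, ← Finset.mul_sum, Finset.sum_comm]
        refine congrArg _ (Finset.sum_congr rfl fun x _ => ?_)
        rw [Finset.sum_comm]
        exact Finset.sum_congr rfl fun y _ => (Finset.sum_mul _ _ _).symm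
    _ = (∑ σ : E, if φ.comp (σ : MulAut A).toMonoidHom = ψ then (1 : ℂ) else 0) + Nat.card E := by
        rw [Finset.sum_congr rfl fun x _ => h2 x, ← Finset.mul_sum, Finset.sum_comm,
          Finset.sum_congr rfl fun σ _ => h3 σ, ← Finset.mul_sum, Finset.sum_add_distrib,
          Finset.sum_const, nsmul_eq_mul, mul_one, Finset.card_univ, ← Nat.card_eq_fintype_card]
        field_simp
    _ = _ := by rw [h4]; split_ifs <;> · push_cast; ring

/-- The shape of a block of defect one. -/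
structure Shape (E : Subgroup (MulAut A)) {ι R : Type*} (W : Finset ι) (c : ι → A → ℂ)
    (val : ι → R → ℂ) (p : ℕ) (X Y : Finset ι) (a : ι → ℤ) (ε d δ : ℤ) (ζ : (A →* ℂˣ) → ι) : Prop where
  sign : ε = 1 ∨ ε = -1
  sign' : δ = 1 ∨ δ = -1
  cases : (d = 0 ∧ ε = δ) ∨ (Y.card = 2 ∧ d = δ ∧ ε = -δ)
  disj : Disjoint X Y
  block : ∀ χ, χ ∈ W ↔ χ ∈ X ∨ χ ∈ Y
  cardX : X.card = Nat.card E
  cardY : Y.card * Nat.card E + 1 = p
  signX : ∀ χ ∈ X, a χ = 1 ∨ a χ = -1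
  valX : ∀ χ ∈ X, ∀ y : A, y ≠ 1 → c χ y = (a χ : ℂ)
  agree : ∀ η ∈ Y, ∀ η' ∈ Y, ∀ g, val η g = val η' g
  regular : ∀ η ∈ Y, ∀ g, (ε : ℂ) * val η g = ∑ χ ∈ X, (a χ : ℂ) * val χ g
  maps : ∀ ψ, ψ ≠ 1 → ζ ψ ∈ Y
  surj : ∀ η ∈ Y, ∃ ψ, ψ ≠ 1 ∧ ζ ψ = η
  inj : ∀ ψ, ψ ≠ 1 → ∀ φ, φ ≠ 1 → (ζ ψ = ζ φ ↔ Same E ψ φ)
  valY : ∀ ψ, ψ ≠ 1 → ∀ y : A, y ≠ 1 → c (ζ ψ) y = (d : ℂ) + (δ : ℂ) * orbitVal E ψ y

omit [Fintype E] in
theorem sum_nontrivial {y : A} (hy : y ≠ 1) :
    ∑ ψ ∈ (Finset.univ : Finset (A →* ℂˣ)).erase 1, (ψ y : ℂ) = -1 := by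
  have h := sum_dual (A := A) y
  rw [if_neg hy, ← Finset.add_sum_erase _ _ (Finset.mem_univ (1 : A →* ℂˣ))] at h
  simp only [MonoidHom.one_apply, Units.val_one] at h
  linear_combination h

include hA in
omit [Fintype E] in
theorem card_nontrivial : ((Finset.univ : Finset (A →* ℂˣ)).erase 1).card + 1 = p := by
  rw [Finset.card_erase_of_mem (Finset.mem_univ _), Finset.card_univ,
    Nat.sub_add_cancel Fintype.card_pos, ← Nat.card_eq_fintype_card,
    CommGroup.card_monoidHom_of_hasEnoughRootsOfUnity, hA]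

include hA in
theorem orbit_subset {ψ : A →* ℂˣ} (hψ : ψ ≠ 1) :
    (Finset.univ.filter fun φ => Same E φ ψ) ⊆ (Finset.univ : Finset (A →* ℂˣ)).erase 1 :=
  fun φ hφ => Finset.mem_erase.2 ⟨same_ne_one (same_symm (Finset.mem_filter.1 hφ).2) hψ,
    Finset.mem_univ _⟩

variable {k V : Type*} [Field k] [CharP k p] [AddCommGroup V] [Module k V] (φk : ι → V)

theorem mem_span_of_rel {S : Finset ι} {χ₀ : ι} (h₀ : χ₀ ∈ S) (z : ι → ℤ) (hz : (z χ₀ : k) ≠ 0)
    (h : ∑ χ ∈ S, (z χ : k) • φk χ = 0) :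
    φk χ₀ ∈ Submodule.span k (((S.erase χ₀).image φk : Finset V) : Set V) := by
  rw [← Finset.add_sum_erase _ _ h₀] at h
  have e : φk χ₀ = (-(z χ₀ : k)⁻¹) • ∑ χ ∈ S.erase χ₀, (z χ : k) • φk χ := by
    rw [eq_neg_of_add_eq_zero_right h, smul_neg, neg_smul, neg_neg, inv_smul_smul₀ hz]
  rw [e]
  exact Submodule.smul_mem _ _ (Submodule.sum_mem _ fun χ hχ => Submodule.smul_mem _ _
    (Submodule.subset_span (Finset.mem_coe.2 (Finset.mem_image_of_mem φk hχ))))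

include hA in
set_option maxHeartbeats 800000 in
/-- The shape theorem. -/
theorem exists_shape
    (hint : ∀ χ ψ, ∃ z : ℤ, mult c χ ψ = (z : ℂ))
    (hne : ∀ χ ∈ W, ∃ x : A, x ≠ 1 ∧ c χ x ≠ 0)
    (hcol : ∀ x y : A, x ≠ 1 → y ≠ 1 → ∑ χ ∈ W, c χ x * conj (c χ y) =
      if ∃ σ ∈ E, (σ : MulAut A) x = y then (p : ℂ) else 0)
    (hrel : ∀ x : A, x ≠ 1 → ∀ g, ∑ χ ∈ W, c χ x * val χ g = 0)
    (one : R) (deg : ι → ℕ) (hdeg : ∀ χ ∈ W, 0 < deg χ) (hone : ∀ χ ∈ W, val χ one = (deg χ : ℂ))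
    (hlin : ∀ (S : Finset ι) (z : ι → ℤ), S ⊆ W → (∀ g, ∑ χ ∈ S, (z χ : ℂ) * val χ g = 0) →
      ∑ χ ∈ S, (z χ : k) • φk χ = 0)
    (hbound : ∀ Ψ : Finset V, (∀ χ ∈ W, φk χ ∈ Submodule.span k (Ψ : Set V)) → Nat.card E ≤ Ψ.card) :
    ∃ X Y a ε d δ ζ, Shape E W c val p X Y a ε d δ ζ := by
  choose m hm using hint
  have hp := (Fact.out : p.Prime)
  set e := Nat.card E with he
  have he0 : 0 < e := Nat.card_pos
  set T := (Finset.univ : Finset (A →* ℂˣ)).erase 1 with hT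
  have hTcard : T.card + 1 = p := card_nontrivial hA
  have hTmem : ∀ {ψ}, ψ ∈ T ↔ ψ ≠ 1 := fun {ψ} => by simp [hT]
  have hgram := fun {ψ φ : A →* ℂˣ} (h1 : ψ ≠ 1) (h2 : φ ≠ 1) => gram (E := E) hA c W hcol m hm h1 h2
  have hm1 : ∀ χ, m χ 1 = 0 := fun χ => by
    have h := hm χ 1
    rw [mult_one] at h
    exact_mod_cast h.symm
  have hsum : ∀ ψ g, ∑ χ ∈ W, (m χ ψ : ℂ) * val χ g = 0 := fun ψ g => by
    simp only [← hm]
    exact sum_mult_val c W val hrel ψ g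
  have hval : ∀ χ, ∀ y : A, y ≠ 1 → c χ y = ∑ ψ ∈ T, (m χ ψ : ℂ) * (ψ y : ℂ) := by
    intro χ y hy
    rw [eq_sum_mult c χ hy, ← Finset.add_sum_erase _ _ (Finset.mem_univ (1 : A →* ℂˣ)), mult_one,
      zero_mul, zero_add]
    exact Finset.sum_congr rfl fun ψ _ => by rw [hm]
  -- small spanning sets
  have hsmall : ∀ (S : Finset ι) (z : ι → ℤ), S ⊆ W → (∀ g, ∑ χ ∈ S, (z χ : ℂ) * val χ g = 0) →
      ∀ χ₀ ∈ S, (z χ₀ : k) ≠ 0 → (∀ χ ∈ W, φk χ ∈ Submodule.span k ((S.image φk : Finset V) : Set V)) →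
      e < S.card := by
    intro S z hS h0 χ₀ hχ₀ hz hcov
    have hmem := mem_span_of_rel φk hχ₀ z hz (hlin S z hS h0)
    have h1 := hbound ((S.erase χ₀).image φk) fun χ hχ => by
      refine (Submodule.span_le.2 ?_) (hcov χ hχ)
      intro v hv
      obtain ⟨ψ, hψ, rfl⟩ := Finset.mem_image.1 (Finset.mem_coe.1 hv)
      rcases eq_or_ne ψ χ₀ with rfl | hne'
      · exact hmem
      · exact Submodule.subset_span (Finset.mem_coe.2 (Finset.mem_image_of_mem φk (Finset.mem_erase.2 ⟨hne', hψ⟩)))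
    have h2 := h1.trans Finset.card_image_le
    rw [Finset.card_erase_of_mem hχ₀] at h2
    have := Finset.card_pos.2 ⟨_, hχ₀⟩
    omega
  have hcast : ∀ z : ℤ, (z : k) = 0 → z ≠ 0 → (p : ℤ) ^ 2 ≤ z ^ 2 := fun z hz hz0 => by
    rw [CharP.intCast_eq_zero_iff k p] at hz
    obtain ⟨w, rfl⟩ := hz
    have : 1 ≤ w ^ 2 := Int.add_one_le_of_lt (pow_two_pos_of_ne_zero fun h => hz0 (by rw [h, mul_zero]))
    rw [mul_pow]
    nlinarith [sq_nonneg (p : ℤ)]
  obtain ⟨ψ₀, hψ₀⟩ : ∃ ψ, ψ ∈ T := Finset.card_pos.1 (by have := hp.two_le; omega)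
  have hle : e ≤ T.card := by
    rw [he, ← card_orbit hA (hTmem.1 hψ₀)]
    exact Finset.card_le_card (orbit_subset hA (hTmem.1 hψ₀))
  rcases eq_or_lt_of_le hle with heq | hlt
  · -- one orbit
    have hsame : ∀ ψ φ, ψ ≠ 1 → φ ≠ 1 → Same E φ ψ := fun ψ φ hψ hφ => by
      have h := Finset.eq_of_subset_of_card_le (orbit_subset (E := E) hA hψ)
        (by rw [card_orbit hA hψ, ← he, heq])
      exact (Finset.mem_filter.1 (h.symm ▸ hTmem.2 hφ : φ ∈ Finset.univ.filter fun φ => Same E φ ψ)).2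
    have hw : ∀ χ ∈ W, ∀ ψ, ψ ≠ 1 → m χ ψ = m χ ψ₀ := by
      intro χ hχ ψ hψ
      have hψ₀' := hTmem.1 hψ₀
      have g1 := hgram hψ hψ
      have g2 := hgram hψ₀' hψ₀'
      have g3 := hgram hψ hψ₀'
      rw [if_pos (same_refl _)] at g1 g2
      rw [if_pos (hsame _ _ hψ₀' hψ)] at g3
      have h0 : ∑ χ ∈ W, (m χ ψ - m χ ψ₀) ^ 2 = 0 := by
        rw [Finset.sum_congr rfl fun χ _ => show (m χ ψ - m χ ψ₀) ^ 2 =
          m χ ψ * m χ ψ + m χ ψ₀ * m χ ψ₀ - 2 * (m χ ψ * m χ ψ₀) by ring,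
          Finset.sum_sub_distrib, Finset.sum_add_distrib, ← Finset.mul_sum, g1, g2, g3]
        ring
      exact sub_eq_zero.1 (pow_eq_zero_iff two_ne_zero |>.1
        ((Finset.sum_eq_zero_iff_of_nonneg fun χ _ => sq_nonneg _).1 h0 χ hχ))
    set a : ι → ℤ := fun χ => -m χ ψ₀ with ha
    have hconst : ∀ χ ∈ W, ∀ y : A, y ≠ 1 → c χ y = (a χ : ℂ) := fun χ hχ y hy => by
      rw [hval χ y hy, Finset.sum_congr rfl fun ψ hψ => by rw [hw χ hχ ψ (hTmem.1 hψ)],
        ← Finset.mul_sum, hT, sum_nontrivial hy, ha]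
      push_cast
      ring
    have hne0 : ∀ χ ∈ W, a χ ≠ 0 := fun χ hχ h => by
      obtain ⟨x, hx, hcx⟩ := hne χ hχ
      exact hcx (by rw [hconst χ hχ x hx, h, Int.cast_zero])
    have hnorm : ∑ χ ∈ W, a χ ^ 2 = (p : ℤ) := by
      have h := hgram (hTmem.1 hψ₀) (hTmem.1 hψ₀)
      rw [if_pos (same_refl _)] at h
      rw [show (p : ℤ) = (e : ℤ) + 1 by omega, ← h]
      exact Finset.sum_congr rfl fun χ _ => by rw [ha]; ring
    have hrel0 : ∀ g, ∑ χ ∈ W, (a χ : ℂ) * val χ g = 0 := fun g => by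
      rw [← neg_eq_zero, ← hsum ψ₀ g, ← Finset.sum_neg_distrib]
      exact Finset.sum_congr rfl fun χ _ => by rw [ha]; push_cast; ring
    have hpos : ∀ χ ∈ W, 1 ≤ a χ ^ 2 := fun χ hχ =>
      Int.add_one_le_of_lt (pow_two_pos_of_ne_zero (hne0 χ hχ))
    have hWne : W.Nonempty := by
      by_contra h
      rw [Finset.not_nonempty_iff_eq_empty] at h
      rw [h, Finset.sum_empty] at hnorm
      have := hp.pos
      omega
    obtain ⟨χ₀, hχ₀, hu⟩ : ∃ χ ∈ W, (a χ : k) ≠ 0 := by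
      by_contra hall
      push Not at hall
      obtain ⟨χ, hχ⟩ := hWne
      have h1 := Finset.single_le_sum (fun ψ _ => sq_nonneg (a ψ)) hχ
      rw [hnorm] at h1
      have h2 := hcast _ (hall χ hχ) (hne0 χ hχ)
      have h3 : (2 : ℤ) ≤ p := by exact_mod_cast hp.two_le
      nlinarith
    have hWc := hsmall W a subset_rfl hrel0 χ₀ hχ₀ hu fun χ hχ =>
      Submodule.subset_span (Finset.mem_coe.2 (Finset.mem_image_of_mem φk hχ))
    have h0 : ∑ χ ∈ W, (a χ ^ 2 - 1) = (p : ℤ) - W.card := by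
      rw [Finset.sum_sub_distrib, hnorm, Finset.sum_const, nsmul_one]
    have hWp : W.card = p := by
      have h1 : 0 ≤ ∑ χ ∈ W, (a χ ^ 2 - 1) := Finset.sum_nonneg fun χ hχ => sub_nonneg.2 (hpos χ hχ)
      omega
    have hall : ∀ χ ∈ W, a χ = 1 ∨ a χ = -1 := fun χ hχ => sq_eq_one_iff.1 (sub_eq_zero.1
      ((Finset.sum_eq_zero_iff_of_nonneg fun χ hχ => sub_nonneg.2 (hpos χ hχ)).1
        (by rw [h0, hWp, sub_self]) χ hχ))
    obtain ⟨η, hη⟩ := hWne
    refine ⟨W.erase η, {η}, a, -a η, 0, -a η, fun _ => η, ?_, ?_, Or.inl ⟨rfl, rfl⟩,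
      Finset.disjoint_singleton_right.2 (Finset.notMem_erase η W), fun χ => ?_, ?_, ?_,
      fun χ hχ => hall χ (Finset.mem_of_mem_erase hχ),
      fun χ hχ => hconst χ (Finset.mem_of_mem_erase hχ),
      fun θ hθ θ' hθ' g => by rw [Finset.mem_singleton.1 hθ, Finset.mem_singleton.1 hθ'],
      fun θ hθ g => ?_, fun ψ _ => Finset.mem_singleton_self η,
      fun θ hθ => ⟨ψ₀, hTmem.1 hψ₀, (Finset.mem_singleton.1 hθ).symm⟩,
      fun ψ hψ φ hφ => iff_of_true rfl (hsame φ ψ hφ hψ), fun ψ hψ y hy => ?_⟩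
    · rcases hall η hη with h | h <;> omega
    · rcases hall η hη with h | h <;> omega
    · rw [Finset.mem_erase, Finset.mem_singleton]
      by_cases h : χ = η
      · subst h; simp [hη]
      · simp [h]
    · rw [Finset.card_erase_of_mem hη, hWp]; omega
    · rw [Finset.card_singleton, one_mul]; omega
    · rw [Finset.mem_singleton.1 hθ]
      have h := hrel0 g
      rw [← Finset.add_sum_erase _ _ hη] at h
      push_cast
      linear_combination -h
    · have horb : orbitVal E ψ y = -1 := by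
        rw [orbitVal, ← sum_nontrivial hy]
        refine Finset.sum_congr (Finset.Subset.antisymm (orbit_subset hA hψ) fun φ hφ => ?_) fun _ _ => rfl
        exact Finset.mem_filter.2 ⟨Finset.mem_univ _, hsame ψ φ hψ (Finset.mem_erase.1 hφ).1⟩
      rw [hconst η hη y hy, horb]
      push_cast
      ring
  · -- at least two orbits
    obtain ⟨ψ₁, hψ₁, hψ01⟩ : ∃ ψ ∈ T, ¬ Same E ψ ψ₀ := by
      by_contra h
      push Not at h
      have h1 := Finset.card_le_card (show T ⊆ Finset.univ.filter (fun φ => Same E φ ψ₀) from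
        fun φ hφ => Finset.mem_filter.2 ⟨Finset.mem_univ _, h φ hφ⟩)
      rw [card_orbit hA (hTmem.1 hψ₀), ← he] at h1
      omega
    obtain ⟨ζ, δ, R₀, cY, hδ, hζ, hinj, hw⟩ := SignedDifferences86.exists_signed W
      {ψ : A →* ℂˣ | ψ ≠ 1} (Same E) (fun ψ _ => same_refl ψ) same_symm same_trans
      ⟨ψ₁, hTmem.1 hψ₁, ψ₀, hTmem.1 hψ₀, hψ01⟩ m (fun χ => (deg χ : ℤ))
      (fun χ hχ => by exact_mod_cast hdeg χ hχ) e (fun ψ hψ φ hφ => hgram hψ hφ)
      (fun ψ _ => by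
        refine Int.cast_injective (α := ℂ) ?_
        push_cast
        rw [← hsum ψ one]
        exact Finset.sum_congr rfl fun χ hχ => by rw [hone χ hχ])
    set Y := T.image ζ with hY
    have hYW : Y ⊆ W := fun η hη => by
      obtain ⟨ψ, hψ, rfl⟩ := Finset.mem_image.1 hη
      exact (hζ ψ (hTmem.1 hψ)).1
    set X := W \ Y with hX
    have hdisj : Disjoint X Y := Finset.sdiff_disjoint
    have hWXY : W = X ∪ Y := (Finset.sdiff_union_of_subset hYW).symm
    have hfib : ∀ ψ, ψ ≠ 1 → T.filter (fun φ => ζ φ = ζ ψ) = Finset.univ.filter (fun φ => Same E φ ψ) := by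
      intro ψ hψ
      ext φ
      simp only [Finset.mem_filter, Finset.mem_univ, true_and]
      exact ⟨fun h => (hinj φ (hTmem.1 h.1) ψ hψ).1 h.2, fun h => ⟨hTmem.2 (same_ne_one (same_symm h) hψ),
        (hinj φ (same_ne_one (same_symm h) hψ) ψ hψ).2 h⟩⟩
    have hYcard : Y.card * e + 1 = p := by
      rw [← hTcard, Finset.card_eq_sum_card_image ζ T, ← smul_eq_mul, ← Finset.sum_const, hY]
      refine congrArg (· + 1) (Finset.sum_congr rfl fun η hη => ?_)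
      obtain ⟨ψ, hψ, rfl⟩ := Finset.mem_image.1 hη
      rw [hfib ψ (hTmem.1 hψ), card_orbit hA (hTmem.1 hψ)]
    have hY2 : 2 ≤ Y.card := by
      by_contra h
      have : Y.card * e ≤ 1 * e := Nat.mul_le_mul_right e (by omega)
      omega
    have hcY : ∀ η ∈ Y, R₀ η = cY := fun η hη => by
      obtain ⟨ψ, hψ, rfl⟩ := Finset.mem_image.1 hη
      exact (hζ ψ (hTmem.1 hψ)).2
    have hc : ∀ χ ∈ W, ∀ y : A, y ≠ 1 → c χ y =
        -(R₀ χ : ℂ) + (δ : ℂ) * ∑ ψ ∈ T.filter (fun ψ => ζ ψ = χ), (ψ y : ℂ) := by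
      intro χ hχ y hy
      rw [hval χ y hy, Finset.sum_congr rfl fun ψ hψ => show (m χ ψ : ℂ) * (ψ y : ℂ) =
        (R₀ χ : ℂ) * (ψ y : ℂ) + if ζ ψ = χ then (δ : ℂ) * (ψ y : ℂ) else 0 by
          rw [hw ψ (hTmem.1 hψ) χ hχ]
          by_cases h : ζ ψ = χ
          · rw [if_pos h, if_pos h.symm]; push_cast; ring
          · rw [if_neg h, if_neg fun h' => h h'.symm]; simp,
        Finset.sum_add_distrib, ← Finset.mul_sum, hT, sum_nontrivial hy, ← Finset.sum_filter,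
        Finset.mul_sum]
      ring
    have hnotY : ∀ χ ∈ X, T.filter (fun ψ => ζ ψ = χ) = ∅ := fun χ hχ =>
      Finset.filter_eq_empty_iff.2 fun ψ hψ h =>
        (Finset.mem_sdiff.1 hχ).2 (h ▸ Finset.mem_image_of_mem ζ hψ)
    set a : ι → ℤ := fun χ => -R₀ χ with ha
    set d : ℤ := -cY with hd
    have hXv : ∀ χ ∈ X, ∀ y : A, y ≠ 1 → c χ y = (a χ : ℂ) := fun χ hχ y hy => by
      rw [hc χ (Finset.mem_sdiff.1 hχ).1 y hy, hnotY χ hχ, Finset.sum_empty, mul_zero, add_zero,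
        ha, Int.cast_neg]
    have hne0 : ∀ χ ∈ X, a χ ≠ 0 := fun χ hχ h => by
      obtain ⟨x, hx, hcx⟩ := hne χ (Finset.mem_sdiff.1 hχ).1
      exact hcx (by rw [hXv χ hχ x hx, h, Int.cast_zero])
    have hYv : ∀ ψ, ψ ≠ 1 → ∀ y : A, y ≠ 1 → c (ζ ψ) y = (d : ℂ) + (δ : ℂ) * orbitVal E ψ y :=
      fun ψ hψ y hy => by
        rw [hc _ (hζ ψ hψ).1 y hy, hfib ψ hψ, (hζ ψ hψ).2, hd, Int.cast_neg]
        rfl
    have hψ₀' := hTmem.1 hψ₀
    have hnorm : (d - δ) ^ 2 + ((Y.card : ℤ) - 1) * d ^ 2 + ∑ χ ∈ X, a χ ^ 2 = (e : ℤ) + 1 := by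
      have h := hgram hψ₀' hψ₀'
      rw [if_pos (same_refl ψ₀), Finset.sum_congr rfl fun χ hχ => show m χ ψ₀ * m χ ψ₀ =
        R₀ χ ^ 2 + if χ = ζ ψ₀ then 2 * δ * R₀ χ + δ ^ 2 else 0 by
          rw [hw ψ₀ hψ₀' χ hχ]
          by_cases h : χ = ζ ψ₀
          · rw [if_pos h, if_pos h]; ring
          · rw [if_neg h, if_neg h]; ring, Finset.sum_add_distrib, Finset.sum_ite_eq',
        if_pos (hζ ψ₀ hψ₀').1, hWXY, Finset.sum_union hdisj,
        Finset.sum_congr rfl (fun η hη => by rw [hcY η hη] : ∀ η ∈ Y, R₀ η ^ 2 = cY ^ 2),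
        Finset.sum_const, nsmul_eq_mul, (hζ ψ₀ hψ₀').2] at h
      simp only [ha, hd, neg_sq]
      linear_combination h
    have hreg : ∀ ψ, ψ ≠ 1 → ∀ g, ∑ χ ∈ X, (R₀ χ : ℂ) * val χ g +
        (cY : ℂ) * (∑ η ∈ Y, val η g) + (δ : ℂ) * val (ζ ψ) g = 0 := by
      intro ψ hψ g
      have h := hsum ψ g
      rw [Finset.sum_congr rfl fun χ hχ => show (m χ ψ : ℂ) * val χ g =
        (R₀ χ : ℂ) * val χ g + if χ = ζ ψ then (δ : ℂ) * val χ g else 0 by
          rw [hw ψ hψ χ hχ]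
          by_cases h : χ = ζ ψ
          · rw [if_pos h, if_pos h]; push_cast; ring
          · rw [if_neg h, if_neg h]; simp, Finset.sum_add_distrib, Finset.sum_ite_eq',
        if_pos (hζ ψ hψ).1, hWXY, Finset.sum_union hdisj,
        Finset.sum_congr rfl (fun η hη => by rw [hcY η hη] : ∀ η ∈ Y, (R₀ η : ℂ) * val η g = (cY : ℂ) * val η g),
        ← Finset.mul_sum] at h
      exact h
    have hagree : ∀ η ∈ Y, ∀ η' ∈ Y, ∀ g, val η g = val η' g := by
      intro η hη η' hη' g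
      obtain ⟨ψ, hψ, rfl⟩ := Finset.mem_image.1 hη
      obtain ⟨φ, hφ, rfl⟩ := Finset.mem_image.1 hη'
      refine mul_left_cancel₀ (Int.cast_ne_zero.2 (by omega : δ ≠ 0) : (δ : ℂ) ≠ 0) ?_
      linear_combination hreg ψ (hTmem.1 hψ) g - hreg φ (hTmem.1 hφ) g
    set cr : ℤ := (Y.card : ℤ) * d - δ with hcr
    have hrelY : ∀ η ∈ Y, ∀ g, (cr : ℂ) * val η g + ∑ χ ∈ X, (a χ : ℂ) * val χ g = 0 := by
      intro η hη g
      obtain ⟨ψ, hψ, rfl⟩ := Finset.mem_image.1 hη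
      have h := hreg ψ (hTmem.1 hψ) g
      rw [Finset.sum_congr rfl (fun η' hη' => hagree η' hη' (ζ ψ) hη g) (s₁ := Y), Finset.sum_const,
        nsmul_eq_mul] at h
      simp only [hcr, hd, ha, Int.cast_neg, neg_mul, Finset.sum_neg_distrib, Int.cast_sub, Int.cast_mul,
        Int.cast_natCast]
      linear_combination -h
    -- the lower bound
    set η₀ := ζ ψ₀ with hη₀
    have hη₀Y : η₀ ∈ Y := Finset.mem_image_of_mem ζ hψ₀
    set S := insert η₀ X with hS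
    have hη₀X : η₀ ∉ X := fun h => (Finset.mem_sdiff.1 h).2 hη₀Y
    have hScard : S.card = X.card + 1 := Finset.card_insert_of_notMem hη₀X
    have hcov : ∀ χ ∈ W, φk χ ∈ Submodule.span k ((S.image φk : Finset V) : Set V) := by
      intro χ hχ
      rw [hWXY, Finset.mem_union] at hχ
      rcases hχ with hχ | hχ
      · exact Submodule.subset_span (Finset.mem_coe.2 (Finset.mem_image_of_mem φk (Finset.mem_insert_of_mem hχ)))
      · rcases eq_or_ne χ η₀ with rfl | hne'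
        · exact Submodule.subset_span (Finset.mem_coe.2 (Finset.mem_image_of_mem φk (Finset.mem_insert_self _ _)))
        have h := hlin {χ, η₀} (fun x => if x = χ then 1 else -1)
          (fun x hx => by
            rcases Finset.mem_insert.1 hx with rfl | hx
            · exact hYW hχ
            · rw [Finset.mem_singleton.1 hx]; exact hYW hη₀Y)
          (fun g => by rw [Finset.sum_pair hne', if_pos rfl, if_neg hne'.symm, hagree χ hχ η₀ hη₀Y g]; simp)
        rw [Finset.sum_pair hne', if_pos rfl, if_neg hne'.symm, Int.cast_one, one_smul, Int.cast_neg,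
          Int.cast_one, neg_one_smul, add_neg_eq_zero] at h
        rw [h]
        exact Submodule.subset_span (Finset.mem_coe.2 (Finset.mem_image_of_mem φk (Finset.mem_insert_self _ _)))
    set z : ι → ℤ := fun x => if x = η₀ then cr else a x with hz
    have hz0 : ∀ g, ∑ χ ∈ S, (z χ : ℂ) * val χ g = 0 := fun g => by
      rw [hS, Finset.sum_insert hη₀X, ← hrelY η₀ hη₀Y g]
      simp only [hz, if_pos]
      refine congrArg _ (Finset.sum_congr rfl fun χ hχ => ?_)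
      rw [if_neg fun h : χ = η₀ => hη₀X (h ▸ hχ)]
    have hSW : S ⊆ W := Finset.insert_subset_iff.2 ⟨hYW hη₀Y, Finset.sdiff_subset⟩
    have hpos : ∀ χ ∈ X, 1 ≤ a χ ^ 2 := fun χ hχ =>
      Int.add_one_le_of_lt (pow_two_pos_of_ne_zero (hne0 χ hχ))
    have hA' : 1 ≤ (d - δ) ^ 2 + ((Y.card : ℤ) - 1) * d ^ 2 := by
      rcases eq_or_ne d 0 with h | h
      · rw [h]; rcases hδ with rfl | rfl <;> norm_num
      · have : 1 ≤ d ^ 2 := Int.add_one_le_of_lt (pow_two_pos_of_ne_zero h)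
        have : (2 : ℤ) ≤ Y.card := by exact_mod_cast hY2
        nlinarith [sq_nonneg (d - δ)]
    have hXe : e ≤ X.card := by
      by_cases hu : ∃ χ ∈ S, (z χ : k) ≠ 0
      · obtain ⟨χ₀, hχ₀, hu⟩ := hu
        have := hsmall S z hSW hz0 χ₀ hχ₀ hu hcov
        omega
      push Not at hu
      have h1 := hbound _ hcov
      have h2 := h1.trans Finset.card_image_le
      rw [hScard] at h2
      exfalso
      have hp2 : (3 : ℤ) ≤ p := by
        have : 2 * e ≤ Y.card * e := Nat.mul_le_mul_right e hY2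
        omega
      rcases X.eq_empty_or_nonempty with hXe | ⟨χ, hχ⟩
      · rw [hXe, Finset.card_empty] at h2
        rw [hXe, Finset.sum_empty, add_zero] at hnorm
        have he1 : e = 1 := by omega
        have hc0 := hu η₀ (Finset.mem_insert_self _ _)
        simp only [hz, if_pos] at hc0
        rw [CharP.intCast_eq_zero_iff k p, hcr] at hc0
        have hYp : (Y.card : ℤ) = (p : ℤ) - 1 := by rw [he1, mul_one] at hYcard; omega
        rw [hYp] at hnorm hc0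
        rw [he1] at hnorm
        have hdd : d ≠ 0 := by
          intro h
          rw [h, mul_zero, zero_sub, dvd_neg] at hc0
          rcases hδ with rfl | rfl
          · exact hp.ne_one (by exact_mod_cast Int.eq_one_of_dvd_one (by omega) hc0)
          · rw [dvd_neg] at hc0
            exact hp.ne_one (by exact_mod_cast Int.eq_one_of_dvd_one (by omega) hc0)
        have hd1 : 1 ≤ d ^ 2 := Int.add_one_le_of_lt (pow_two_pos_of_ne_zero hdd)
        have hd2 : d ^ 2 ≤ 2 := by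
          push_cast at hnorm
          nlinarith [sq_nonneg (d - δ), mul_nonneg (sub_nonneg.2 hp2) (sq_nonneg d)]
        have hd3 : d = 1 ∨ d = -1 := by
          have h4 : -1 ≤ d ∧ d ≤ 1 := ⟨by nlinarith, by nlinarith⟩
          omega
        have hpd : (p : ℤ) ∣ d + δ := by
          have e' : d + δ = (p : ℤ) * d - (((p : ℤ) - 1) * d - δ) := by ring
          rw [e']
          exact dvd_sub (dvd_mul_right _ _) hc0
        have hsum0 : d + δ = 0 := Int.eq_zero_of_abs_lt_dvd hpd (by rw [abs_lt]; omega)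
        have hd4 : d = -δ := by omega
        rw [hd4] at hnorm
        have hδ2 : δ ^ 2 = 1 := by rcases hδ with h | h <;> rw [h] <;> norm_num
        ring_nf at hnorm
        rw [hδ2] at hnorm
        omega
      · have h3 := hu χ (Finset.mem_insert_of_mem hχ)
        simp only [hz, if_neg (fun h : χ = η₀ => hη₀X (h ▸ hχ))] at h3
        have h4 := hcast _ h3 (hne0 χ hχ)
        have h5 := Finset.single_le_sum (fun ψ _ => sq_nonneg (a ψ)) hχ
        have h6 : (e : ℤ) + 1 ≤ p := by omega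
        nlinarith
    have hsum1 : (X.card : ℤ) ≤ ∑ χ ∈ X, a χ ^ 2 := by
      rw [Finset.card_eq_sum_ones, Nat.cast_sum]
      exact Finset.sum_le_sum fun χ hχ => by simpa using hpos χ hχ
    have hXe' : (e : ℤ) ≤ X.card := by exact_mod_cast hXe
    have hcX : X.card = e := by exact_mod_cast (show (X.card : ℤ) = e by linarith)
    have hsq : ∀ χ ∈ X, a χ = 1 ∨ a χ = -1 := by
      intro χ hχ
      have h0 : ∑ χ ∈ X, (a χ ^ 2 - 1) = 0 := by
        rw [Finset.sum_sub_distrib, Finset.sum_const, nsmul_one]; linarith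
      exact sq_eq_one_iff.1 (sub_eq_zero.1
        ((Finset.sum_eq_zero_iff_of_nonneg fun χ hχ => sub_nonneg.2 (hpos χ hχ)).1 h0 χ hχ))
    have hA1 : (d - δ) ^ 2 + ((Y.card : ℤ) - 1) * d ^ 2 = 1 := by linarith
    have hcases : (d = 0 ∧ -cr = δ) ∨ (Y.card = 2 ∧ d = δ ∧ -cr = -δ) := by
      rcases eq_or_ne d 0 with h | h
      · exact Or.inl ⟨h, by rw [hcr, h]; ring⟩
      have hd1 : 1 ≤ d ^ 2 := Int.add_one_le_of_lt (pow_two_pos_of_ne_zero h)
      have hY2' : (2 : ℤ) ≤ Y.card := by exact_mod_cast hY2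
      have h2 : (d - δ) ^ 2 = 0 := by nlinarith [sq_nonneg (d - δ)]
      have h3 : d = δ := sub_eq_zero.1 (pow_eq_zero_iff two_ne_zero |>.1 h2)
      rw [h2, h3, show δ ^ 2 = 1 by rcases hδ with rfl | rfl <;> norm_num] at hA1
      refine Or.inr ⟨by omega, h3, ?_⟩
      rw [hcr, h3, show (Y.card : ℤ) = 2 by omega]
      ring
    refine ⟨X, Y, a, -cr, d, δ, ζ, ?_, hδ, hcases, hdisj, fun χ => ?_, hcX, hYcard, hsq, hXv, hagree,
      fun η hη g => ?_, fun ψ hψ => Finset.mem_image_of_mem ζ (hTmem.2 hψ), fun η hη => ?_, hinj, hYv⟩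
    · rcases hcases with ⟨-, h⟩ | ⟨-, -, h⟩ <;> rw [h] <;> omega
    · rw [hWXY, Finset.mem_union]
    · push_cast
      linear_combination -(hrelY η hη g)
    · obtain ⟨ψ, hψ, rfl⟩ := Finset.mem_image.1 hη
      exact ⟨ψ, hTmem.1 hψ, rfl⟩

end Cfsg.Agent.BlockDefectOneShape86
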