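import Cfsg.Agent.Lib.DefectOneRoots7
import Cfsg.Agent.Lib.BlockAbelianSylowOrbit86

/-!
# The principal block of a group with a Sylow subgroup of order `p`

Brauer's theorem: with `e = |N(P) : C(P)|` and `t = (p - 1) / e` the principal block consists of
`e` characters with values `±1` on the sections of `P` and `t` exceptional characters.
-/

set_option autoImplicit false

open Finset
open scoped ComplexConjugate IsMulCommutative

namespace Cfsg.Agent.DefectOneShape7

open Cfsg Cfsg.Agent.BlockTheoryIdem Cfsg.Agent.CharBasic Cfsg.Agent.CharBasicOrth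
open Cfsg.Agent.BlockAbelianSylow86 Cfsg.Agent.DefectOneSign7 Cfsg.Agent.BlockPrincipal81

attribute [local instance] Classical.propDecidable

universe u

variable {G : Type u} [Group G] [Fintype G] {p : ℕ} [Fact p.Prime] {M : Ideal AlgInt}
  {P : Sylow p G}

/-- The shape of the principal block when the Sylow subgroup `P` has order `p`. -/
structure Shape (M : Ideal AlgInt) (P : Sylow p G) (e : ℕ)
    [Fintype (↥(P : Subgroup G) →* ℂˣ)] (X Y : Finset (IrrCharacter G))
    (a : IrrCharacter G → ℤ) (ε d δ : ℤ)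
    (ζ : (↥(P : Subgroup G) →* ℂˣ) → IrrCharacter G) : Prop where
  sign : ε = 1 ∨ ε = -1
  sign' : δ = 1 ∨ δ = -1
  cases : (d = 0 ∧ ε = δ) ∨ (Y.card = 2 ∧ d = δ ∧ ε = -δ)
  disj : Disjoint X Y
  block : ∀ χ, χ ∈ principalBlock M G ↔ χ ∈ X ∨ χ ∈ Y
  cardX : X.card = e
  cardY : Y.card * e + 1 = p
  one_mem : oneChar G ∈ X
  a_one : a (oneChar G) = 1
  signX : ∀ χ ∈ X, a χ = 1 ∨ a χ = -1
  valX : ∀ χ ∈ X, ∀ y ∈ (P : Subgroup G), y ≠ 1 →
    ∀ k ∈ Subgroup.centralizer ((P : Subgroup G) : Set G), ¬ p ∣ orderOf k →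
      (χ : G → ℂ) (y * k) = (a χ : ℂ)
  congrX : ∀ χ ∈ X, (charDegree (χ : G → ℂ) : ℤ) ≡ a χ [ZMOD p]
  congrY : ∀ η ∈ Y, (charDegree (η : G → ℂ) : ℤ) ≡ ε * (e : ℤ) [ZMOD p]
  agree : ∀ η ∈ Y, ∀ η' ∈ Y, ∀ g : G, ¬ p ∣ orderOf g → (η : G → ℂ) g = (η' : G → ℂ) g
  regular : ∀ η ∈ Y, ∀ g : G, ¬ p ∣ orderOf g →
    (ε : ℂ) * (η : G → ℂ) g = ∑ χ ∈ X, (a χ : ℂ) * (χ : G → ℂ) g
  maps : ∀ ψ, ψ ≠ 1 → ζ ψ ∈ Y
  surj : ∀ η ∈ Y, ∃ ψ, ψ ≠ 1 ∧ ζ ψ = η
  inj : ∀ ψ, ψ ≠ 1 → ∀ φ, φ ≠ 1 → (ζ ψ = ζ φ ↔ SameOrbit P ψ φ)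
  valY : ∀ ψ, ψ ≠ 1 → ∀ y : ↥(P : Subgroup G), y ≠ 1 →
    ∀ k ∈ Subgroup.centralizer ((P : Subgroup G) : Set G), ¬ p ∣ orderOf k →
      (ζ ψ : G → ℂ) ((y : G) * k) = (d : ℂ) + (δ : ℂ) * orbitSum ψ y

omit [Fact p.Prime] in
/-- A field automorphism acts on character values as a power map. -/
theorem exists_pow_char (σ : ℂ ≃+* ℂ) : ∃ k : ℕ, k.Coprime (Nat.card G) ∧
    ∀ χ : G → ℂ, IsCharacter G χ → ∀ g, σ (χ g) = χ (g ^ k) := by
  set N := Nat.card G with hN
  haveI : NeZero N := ⟨Nat.card_pos.ne'⟩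
  set ω : ℂ := Complex.exp (2 * Real.pi * Complex.I / N)
  have hω : IsPrimitiveRoot ω N := Complex.isPrimitiveRoot_exp N Nat.card_pos.ne'
  have hσω : IsPrimitiveRoot (σ ω) N := hω.map_of_injective σ.injective
  obtain ⟨k, -, hk, hke⟩ := (hω.isPrimitiveRoot_iff (ζ := ω)).1 hσω
  refine ⟨k, hk, ?_⟩
  rintro χ ⟨n, ρ, rfl⟩ g
  obtain ⟨b, μ, -, hμ, -, hpow⟩ := exists_rep_eigenbasis ρ g
  have h1 : ρ.character g = ∑ i, μ i := by simpa using hpow 1
  rw [h1, hpow k, map_sum]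
  refine Finset.sum_congr rfl fun i _ => ?_
  have hμN : μ i ^ N = 1 := by
    obtain ⟨j, hj⟩ := orderOf_dvd_natCard g
    rw [hN, hj, pow_mul, hμ, one_pow]
  obtain ⟨j, -, hj⟩ := hω.eq_pow_of_pow_eq_one hμN
  rw [← hj, map_pow, ← hke, ← pow_mul, mul_comm, pow_mul]

theorem value_mul (hP : Nat.card P = p) (hM : IsPModular p M) {χ : IrrCharacter G}
    (hχ : χ ∈ principalBlock M G) {y : G} (hy : y ∈ (P : Subgroup G)) (hy1 : y ≠ 1) {k : G}
    (hk : k ∈ Subgroup.centralizer ((P : Subgroup G) : Set G)) (hkr : ¬ p ∣ orderOf k) :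
    (χ : G → ℂ) (y * k) = (χ : G → ℂ) y :=
  apply_mul (isMulCommutative_of_card P hP) (freeAction_of_card P hP) hM hy hy1 hχ
    (Subgroup.mem_centralizer_iff.1 hk y hy) hkr

variable [Fintype ↥(P : Subgroup G)] [Fintype (↥(P : Subgroup G) →* ℂˣ)]

/-- A constant value on `P` minus the identity is congruent to the degree. -/
theorem degree_congr (hP : Nat.card P = p) (χ : IrrCharacter G) (a : ℤ)
    (h : ∀ y ∈ (P : Subgroup G), y ≠ 1 → (χ : G → ℂ) y = (a : ℂ)) :
    (charDegree (χ : G → ℂ) : ℤ) ≡ a [ZMOD p] := by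
  have hc := isCharacter_comap (P : Subgroup G).subtype (isCharacter_of_isIrrCharacter χ.2)
  obtain ⟨n, hn⟩ := classInner_isCharacter hc (CharBasicDecomp.isCharacter_one)
  rw [classInner] at hn
  simp only [Function.comp_apply, Subgroup.subtype_apply, map_one, mul_one] at hn
  rw [← Finset.add_sum_erase _ _ (mem_univ (1 : ↥(P : Subgroup G))),
    Finset.sum_congr rfl fun (y : ↥(P : Subgroup G)) hy =>
      h y y.2 fun h1 => Finset.ne_of_mem_erase hy (Subtype.ext h1),
    Finset.sum_const, Finset.card_erase_of_mem (mem_univ _), Finset.card_univ,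
    ← Nat.card_eq_fintype_card, show Nat.card (P : Subgroup G) = p from hP, nsmul_eq_mul,
    OneMemClass.coe_one, ClassAlgebraVal.apply_one_eq_charDegree,
    Nat.cast_sub (Fact.out : p.Prime).one_le,
    inv_mul_eq_iff_eq_mul₀ (Nat.cast_ne_zero.2 (Fact.out : p.Prime).ne_zero)] at hn
  have hz : (charDegree (χ : G → ℂ) : ℤ) + ((p : ℤ) - 1) * a = (p : ℤ) * n := by
    refine Int.cast_injective (α := ℂ) ?_
    push_cast
    push_cast at hn
    linear_combination hn
  rw [Int.modEq_iff_dvd]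
  exact ⟨a - n, by linear_combination -hz⟩

theorem sum_orbitSum_conj (hP : Nat.card P = p) (e : ℕ)
    (he : (Subgroup.centralizer ((P : Subgroup G) : Set G)).relIndex
      (Subgroup.normalizer ((P : Subgroup G) : Set G)) = e)
    {ψ : ↥(P : Subgroup G) →* ℂˣ} (hψ : ψ ≠ 1) (φ : ↥(P : Subgroup G) →* ℂˣ) :
    ∑ y ∈ (Finset.univ : Finset ↥(P : Subgroup G)).erase 1, orbitSum ψ y * conj (φ y : ℂ) =
      (if SameOrbit P φ ψ then (p : ℂ) else 0) - (e : ℂ) := by
  haveI := isMulCommutative_of_card P hP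
  have h1 : ∑ y : ↥(P : Subgroup G), orbitSum ψ y * conj (φ y : ℂ) =
      if SameOrbit P φ ψ then (p : ℂ) else 0 := by
    simp only [orbitSum, Finset.sum_mul]
    rw [Finset.sum_comm, Finset.sum_congr rfl fun θ _ => sum_mul_conj θ φ, Finset.sum_ite_eq']
    simp only [Finset.mem_filter, Finset.mem_univ, true_and]
    rw [← Nat.card_eq_fintype_card, show Nat.card (P : Subgroup G) = p from hP]
  have h0 : orbitSum ψ 1 * conj (φ 1 : ℂ) = (e : ℂ) := by
    simp only [orbitSum, map_one, Units.val_one, Finset.sum_const, nsmul_eq_mul, mul_one]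
    congr 1
    rw [← Fintype.card_subtype, ← Nat.card_eq_fintype_card]
    exact card_orbit (isMulCommutative_of_card P hP) (freeAction_of_card P hP) e he hψ
  rw [← h1, ← Finset.add_sum_erase _ _ (mem_univ (1 : ↥(P : Subgroup G))), h0]
  ring

theorem sum_conj_erase (hP : Nat.card P = p) {φ : ↥(P : Subgroup G) →* ℂˣ} (hφ : φ ≠ 1) :
    ∑ y ∈ (Finset.univ : Finset ↥(P : Subgroup G)).erase 1, conj (φ y : ℂ) = -1 := by
  haveI := isMulCommutative_of_card P hP
  have h1 : ∑ y : ↥(P : Subgroup G), conj (φ y : ℂ) = 0 := by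
    rw [← map_sum, sum_apply_eq_zero hφ, map_zero]
  rw [← Finset.add_sum_erase _ _ (mem_univ (1 : ↥(P : Subgroup G)))] at h1
  simp only [map_one, Units.val_one] at h1
  linear_combination h1

/-- Orbit sums determine the orbit. -/
theorem sameOrbit_of_eq (hP : Nat.card P = p) (e : ℕ)
    (he : (Subgroup.centralizer ((P : Subgroup G) : Set G)).relIndex
      (Subgroup.normalizer ((P : Subgroup G) : Set G)) = e)
    {ψ φ : ↥(P : Subgroup G) →* ℂˣ} (hψ : ψ ≠ 1) (hφ : φ ≠ 1)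
    (h : ∀ y : ↥(P : Subgroup G), y ≠ 1 → orbitSum φ y = orbitSum ψ y) : SameOrbit P ψ φ := by
  by_contra hne
  have h1 := sum_orbitSum_conj hP e he hφ ψ
  have h2 := sum_orbitSum_conj hP e he hψ ψ
  rw [Finset.sum_congr rfl fun y hy => by rw [h y (Finset.ne_of_mem_erase hy)], h2,
    if_pos (sameOrbit_refl ψ), if_neg hne] at h1
  have : (p : ℂ) = 0 := by linear_combination h1
  exact (Fact.out : p.Prime).ne_zero (Nat.cast_eq_zero.1 this)

/-- An orbit sum is not constant, if there are two orbits. -/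
theorem orbitSum_ne_const (hP : Nat.card P = p) (e : ℕ)
    (he : (Subgroup.centralizer ((P : Subgroup G) : Set G)).relIndex
      (Subgroup.normalizer ((P : Subgroup G) : Set G)) = e)
    {ψ φ : ↥(P : Subgroup G) →* ℂˣ} (hψ : ψ ≠ 1) (hφ : φ ≠ 1) (hne : ¬ SameOrbit P φ ψ) (c : ℂ) :
    ¬ ∀ y : ↥(P : Subgroup G), y ≠ 1 → orbitSum ψ y = c := by
  intro h
  have h1 := sum_orbitSum_conj hP e he hψ ψ
  have h2 := sum_orbitSum_conj hP e he hψ φ
  rw [Finset.sum_congr rfl fun y hy => by rw [h y (Finset.ne_of_mem_erase hy)], ← Finset.mul_sum,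
    sum_conj_erase hP hψ, if_pos (sameOrbit_refl ψ)] at h1
  rw [Finset.sum_congr rfl fun y hy => by rw [h y (Finset.ne_of_mem_erase hy)], ← Finset.mul_sum,
    sum_conj_erase hP hφ, if_neg hne] at h2
  have : (p : ℂ) = 0 := by linear_combination h2 - h1
  exact (Fact.out : p.Prime).ne_zero (Nat.cast_eq_zero.1 this)

/-- Transport of a linear character of `P` by a field automorphism. -/
noncomputable def galDual (σ : ℂ ≃+* ℂ) (θ : ↥(P : Subgroup G) →* ℂˣ) :
    ↥(P : Subgroup G) →* ℂˣ := (Units.map σ.toRingHom.toMonoidHom).comp θ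

omit [Fintype ↥(P : Subgroup G)] [Fintype (↥(P : Subgroup G) →* ℂˣ)] in
theorem galDual_apply (σ : ℂ ≃+* ℂ) (θ : ↥(P : Subgroup G) →* ℂˣ) (y : ↥(P : Subgroup G)) :
    (galDual σ θ y : ℂ) = σ (θ y : ℂ) := rfl

theorem galDual_injective (σ : ℂ ≃+* ℂ) :
    Function.Injective (galDual (P := P) σ) := fun θ θ' h =>
  MonoidHom.ext fun y => Units.ext (σ.injective (congrArg Units.val (DFunLike.congr_fun h y)))

theorem galDual_ne_one (σ : ℂ ≃+* ℂ) {θ : ↥(P : Subgroup G) →* ℂˣ} (hθ : θ ≠ 1) :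
    galDual σ θ ≠ 1 := fun h => hθ (galDual_injective σ (h.trans (MonoidHom.ext fun y => Units.ext
      (show (1 : ℂ) = σ 1 from (map_one σ).symm))))

theorem galDual_orbitSum (hP : Nat.card P = p) (e : ℕ)
    (he : (Subgroup.centralizer ((P : Subgroup G) : Set G)).relIndex
      (Subgroup.normalizer ((P : Subgroup G) : Set G)) = e)
    (σ : ℂ ≃+* ℂ) {ψ : ↥(P : Subgroup G) →* ℂˣ} (hψ : ψ ≠ 1) (y : ↥(P : Subgroup G)) :
    σ (orbitSum ψ y) = orbitSum (galDual σ ψ) y := by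
  have hab := isMulCommutative_of_card P hP
  have hfree := freeAction_of_card P hP
  have hmaps : (Finset.univ.filter fun θ => SameOrbit P θ ψ).image (galDual σ) =
      Finset.univ.filter fun θ => SameOrbit P θ (galDual σ ψ) := by
    refine Finset.eq_of_subset_of_card_le ?_ ?_
    · intro θ hθ
      simp only [Finset.mem_image, Finset.mem_filter, Finset.mem_univ, true_and] at hθ ⊢
      obtain ⟨θ', ⟨n, rfl⟩, rfl⟩ := hθ
      exact ⟨n, MonoidHom.ext fun z => rfl⟩
    · rw [Finset.card_image_of_injective _ (galDual_injective σ), ← Fintype.card_subtype,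
        ← Fintype.card_subtype, ← Nat.card_eq_fintype_card, ← Nat.card_eq_fintype_card,
        card_orbit hab hfree e he hψ, card_orbit hab hfree e he (galDual_ne_one σ hψ)]
  rw [orbitSum, orbitSum, map_sum, ← hmaps,
    Finset.sum_image ((galDual_injective σ).injOn)]
  rfl

set_option maxHeartbeats 1200000 in
/-- The case of at least two exceptional characters. -/
theorem exists_shape_two (hM : IsPModular p M) (hP : Nat.card P = p) (e : ℕ)
    (he : (Subgroup.centralizer ((P : Subgroup G) : Set G)).relIndex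
      (Subgroup.normalizer ((P : Subgroup G) : Set G)) = e)
    (hlt : e + 1 < p) : ∃ X Y a ε d δ ζ, Shape M P e X Y a ε d δ ζ := by
  haveI hab := isMulCommutative_of_card P hP
  have hfree := freeAction_of_card P hP
  have hp := (Fact.out : p.Prime)
  have hP' : Nat.card (P : Subgroup G) = p := hP
  obtain ⟨X, Y, a, d, δ, ζ, hδ, hdisj, hB, hYc, hY2, h1X, h1a, hζY, hsurj, hinj, hXv, hYv, hnorm,
    hagree, hreg⟩ := structure_theorem hab hfree hM e he (by rw [hP']; exact hlt)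
  rw [hP'] at hYc
  have hYB : ∀ η ∈ Y, η ∈ principalBlock M G := fun η hη => (hB η).2 (Or.inr hη)
  have hXsec : ∀ χ ∈ X, ∀ y ∈ (P : Subgroup G), y ≠ 1 →
      ∀ k ∈ Subgroup.centralizer ((P : Subgroup G) : Set G), ¬ p ∣ orderOf k →
        (χ : G → ℂ) (y * k) = (a χ : ℂ) := fun χ hχ y hy hy1 k hk hkr => by
    rw [value_mul hP hM ((hB χ).2 (Or.inl hχ)) hy hy1 hk hkr]
    exact (hXv χ hχ).2 ⟨y, hy⟩ fun h => hy1 (congrArg Subtype.val h)
  have ha : ∀ χ ∈ X, a χ = 1 ∨ a χ = -1 := fun χ hχ => by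
    have h1 := DefectOneSign7.abs_le_one hP χ (a χ) (hXsec χ hχ)
    have h2 := (hXv χ hχ).1
    rw [abs_le] at h1
    omega
  -- two orbits
  obtain ⟨ψ₀, hψ₀, hψ₀Y⟩ : ∃ ψ, ψ ≠ 1 ∧ ζ ψ ∈ Y := by
    obtain ⟨η, hη⟩ := Finset.card_pos.1 (show 0 < Y.card by omega)
    obtain ⟨ψ, hψ, rfl⟩ := hsurj η hη
    exact ⟨ψ, hψ, hη⟩
  have hother : ∀ ψ, ψ ≠ 1 → ∃ φ, φ ≠ 1 ∧ ¬ SameOrbit P φ ψ := by
    intro ψ hψ
    obtain ⟨η, hη, hne⟩ := Finset.exists_mem_ne (show 1 < Y.card by omega) (ζ ψ)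
    obtain ⟨φ, hφ, rfl⟩ := hsurj η hη
    exact ⟨φ, hφ, fun h => hne ((hinj φ hφ ψ hψ).2 h)⟩
  -- Galois stability
  have hgal : ∀ (σ : ℂ ≃+* ℂ) (ψ : ↥(P : Subgroup G) →* ℂˣ), ψ ≠ 1 →
      ∀ g, (ζ (galDual σ ψ) : G → ℂ) g = σ ((ζ ψ : G → ℂ) g) := by
    intro σ ψ hψ
    obtain ⟨k, hk, hσk⟩ := exists_pow_char (G := G) σ
    set η := GaloisChar80.twist hk (ζ ψ) with hη
    have hval : ∀ g, (η : G → ℂ) g = σ ((ζ ψ : G → ℂ) g) := fun g => by
      rw [hη, GaloisChar80.twist_apply, hσk _ (isCharacter_of_isIrrCharacter (ζ ψ).2)]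
    have hηval : ∀ y : ↥(P : Subgroup G), y ≠ 1 →
        (η : G → ℂ) y = (d : ℂ) + (δ : ℂ) * orbitSum (galDual σ ψ) y := fun y hy => by
      rw [hval, hYv ψ hψ y hy, map_add, map_mul, map_intCast, map_intCast,
        galDual_orbitSum hP e he σ hψ]
    have hηY : η ∈ Y := by
      rcases (hB η).1 (GaloisChar80.twist_mem_principalBlock hk (hYB _ (hζY ψ hψ))) with h | h
      · exfalso
        obtain ⟨φ, hφ, hφne⟩ := hother _ (galDual_ne_one σ hψ)
        refine orbitSum_ne_const hP e he (galDual_ne_one σ hψ) hφ hφne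
          (((a η : ℂ) - d) * δ) fun y hy => ?_
        have h1 := hηval y hy
        rw [(hXv η h).2 y hy] at h1
        have hδ2 : (δ : ℂ) * δ = 1 := by rcases hδ with rfl | rfl <;> norm_num
        linear_combination -(δ : ℂ) * h1 - orbitSum (galDual σ ψ) y * hδ2
      · exact h
    obtain ⟨φ, hφ, hφe⟩ := hsurj η hηY
    have hsame : SameOrbit P (galDual σ ψ) φ := by
      refine sameOrbit_of_eq hP e he (galDual_ne_one σ hψ) hφ fun y hy => ?_
      have h1 := hηval y hy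
      rw [← hφe, hYv φ hφ y hy, add_right_inj] at h1
      exact mul_left_cancel₀ (Int.cast_ne_zero.2 (by omega : δ ≠ 0)) h1
    intro g
    rw [(hinj _ (galDual_ne_one σ hψ) φ hφ).2 hsame, hφe, hval]
  have hstab : ∀ σ : ℂ ≃+* ℂ, ∀ η ∈ Y, ∃ η' ∈ Y, ∀ g, (η' : G → ℂ) g = σ ((η : G → ℂ) g) := by
    intro σ η hη
    obtain ⟨ψ, hψ, rfl⟩ := hsurj η hη
    exact ⟨_, hζY _ (galDual_ne_one σ hψ), hgal σ ψ hψ⟩
  have hconj : ∀ m : ℕ, ¬ p ∣ m → ∀ η ∈ Y, ∃ σ : ℂ ≃+* ℂ, (∀ z : ℂ, z ^ m = 1 → σ z = z) ∧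
      ∀ g, σ ((ζ ψ₀ : G → ℂ) g) = (η : G → ℂ) g := by
    intro m hm η hη
    obtain ⟨φ, hφ, rfl⟩ := hsurj η hη
    have hcard : Nat.card (↥(P : Subgroup G) →* ℂˣ) = p := by
      rw [CommGroup.card_monoidHom_of_hasEnoughRootsOfUnity, hP']
    have hmem : φ ∈ Subgroup.zpowers ψ₀ := mem_zpowers_of_prime_card hcard hψ₀
    obtain ⟨k0, hk0'⟩ := Finset.mem_image.1
      ((IsOfFinOrder.mem_zpowers_iff_mem_range_orderOf (isOfFinOrder_of_finite ψ₀)).1 hmem)
    obtain ⟨k, hk1, hk2⟩ := Nat.chineseRemainder ((hp.coprime_iff_not_dvd).2 hm) k0 1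
    have hk0p : ¬ p ∣ k0 := by
      intro hd
      apply hφ
      rw [← hk0'.2]
      exact orderOf_dvd_iff_pow_eq_one.1 ((hcard ▸ orderOf_dvd_natCard ψ₀).trans hd)
    have hkc : k.Coprime (p * m) := Nat.Coprime.mul_right
      ((hp.coprime_iff_not_dvd).2 (fun hd => hk0p
        ((Nat.modEq_zero_iff_dvd).1 (hk1.symm.trans (Nat.modEq_zero_iff_dvd.2 hd))))).symm
      (by rw [Nat.Coprime, hk2.gcd_eq, Nat.gcd_one_left])
    have hm0 : 0 < m := Nat.pos_of_ne_zero fun h => hm (h ▸ dvd_zero p)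
    obtain ⟨σ, hσ⟩ := GaloisChar80.exists_aut (Nat.mul_pos hp.pos hm0) hkc
    refine ⟨σ, fun z hz => ?_, fun g => ?_⟩
    · rw [hσ z (by rw [mul_comm, pow_mul, hz, one_pow])]
      rw [pow_eq_pow_mod k hz, show k % m = 1 % m from hk2, ← pow_eq_pow_mod 1 hz, pow_one]
    · rw [← hgal σ ψ₀ hψ₀]
      have hge : galDual σ ψ₀ = φ := by
        refine MonoidHom.ext fun y => Units.ext ?_
        have hyp : (ψ₀ y : ℂ) ^ p = 1 := by
          have h1 : y ^ p = 1 := by
            have h := pow_card_eq_one' (x := y)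
            rwa [hP'] at h
          rw [← Units.val_pow_eq_pow_val, ← map_pow, h1, map_one, Units.val_one]
        rw [galDual_apply, hσ _ (by rw [pow_mul, hyp, one_pow]), ← hk0'.2, MonoidHom.pow_apply,
          Units.val_pow_eq_pow_val]
        rw [pow_eq_pow_mod k hyp, show k % p = k0 % p from hk1, ← pow_eq_pow_mod k0 hyp]
      rw [hge]
  -- the sum of the exceptional values
  set n := charDegree (ζ ψ₀ : G → ℂ) with hn
  have hdeg : ∀ η ∈ Y, (η : G → ℂ) 1 = (n : ℂ) := fun η hη => by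
    rw [hagree η hη _ hψ₀Y 1 (by rw [orderOf_one, Nat.dvd_one]; exact hp.ne_one), hn,
      ClassAlgebraVal.apply_one_eq_charDegree]
  have hsumY : ∀ y : ↥(P : Subgroup G), y ≠ 1 →
      ∑ η ∈ Y, (η : G → ℂ) y = (((Y.card : ℤ) * d - δ : ℤ) : ℂ) := by
    intro y hy
    set T := Finset.univ.filter (fun ψ : ↥(P : Subgroup G) →* ℂˣ => ψ ≠ 1) with hT
    have hTsum : ∑ ψ ∈ T, (ψ y : ℂ) = -1 := by
      have h := sum_dual (A := ↥(P : Subgroup G)) y
      rw [if_neg hy, ← Finset.add_sum_erase _ _ (Finset.mem_univ (1 : ↥(P : Subgroup G) →* ℂˣ))] at h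
      rw [hT, Finset.filter_ne']
      simp only [MonoidHom.one_apply, Units.val_one] at h
      linear_combination h
    have himg : T.image ζ = Y := by
      ext η
      simp only [Finset.mem_image, hT, Finset.mem_filter, Finset.mem_univ, true_and]
      exact ⟨fun ⟨ψ, hψ, h⟩ => h ▸ hζY ψ hψ, fun hη => hsurj η hη⟩
    have hfib : ∀ ψ, ψ ≠ 1 → T.filter (fun φ => ζ φ = ζ ψ) =
        Finset.univ.filter (fun φ => SameOrbit P φ ψ) := by
      intro ψ hψ
      ext φ
      simp only [hT, Finset.mem_filter, Finset.mem_univ, true_and]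
      exact ⟨fun h => (hinj φ h.1 ψ hψ).1 h.2, fun h => ⟨sameOrbit_one (sameOrbit_symm h) hψ,
        (hinj φ (sameOrbit_one (sameOrbit_symm h) hψ) ψ hψ).2 h⟩⟩
    have hY' : ∀ η ∈ Y, (η : G → ℂ) y =
        (d : ℂ) + (δ : ℂ) * ∑ φ ∈ T.filter (fun φ => ζ φ = η), (φ y : ℂ) := by
      intro η hη
      obtain ⟨ψ, hψ, rfl⟩ := hsurj η hη
      rw [hYv ψ hψ y hy, hfib ψ hψ]
      rfl
    rw [Finset.sum_congr rfl hY', Finset.sum_add_distrib, Finset.sum_const, nsmul_eq_mul,
      ← Finset.mul_sum, ← himg, Finset.sum_fiberwise_of_maps_to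
        (fun ψ hψ => Finset.mem_image_of_mem ζ hψ), hTsum, himg]
    push_cast
    ring
  -- the bound
  have hpG : p ∣ Nat.card G := hP' ▸ (P : Subgroup G).card_subgroup_dvd_card
  have hp2 : ¬ p * p ∣ Nat.card G := by
    intro h2
    have := P.not_dvd_index
    rw [← (P : Subgroup G).card_mul_index, hP'] at h2
    exact this (Nat.dvd_of_mul_dvd_mul_left hp.pos h2)
  have hbound : |(n : ℤ) * ((Y.card : ℤ) * d - δ)| ≤ (n : ℤ) := by
    refine DefectOneSign7.abs_sum_le hM hP Y hstab _ (fun y hy hy1 k hk hkr => ?_) n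
      (fun D ρ hρ m hm T hT hTi hTF =>
        roots_of_conj hM hpG hp2 Y hψ₀Y hconj ρ hρ m hm T hT hTi hTF)
    rw [Finset.sum_congr rfl fun η hη => by
      rw [hdeg η hη, value_mul hP hM (hYB η hη) hy hy1 hk hkr], ← Finset.mul_sum,
      hsumY ⟨y, hy⟩ (fun h => hy1 (congrArg Subtype.val h)), Int.cast_mul, Int.cast_natCast]
  have hn0 : (0 : ℤ) < n := by rw [hn]; exact_mod_cast ClassAlgebraVal.charDegree_pos (ζ ψ₀)
  have hb : |(Y.card : ℤ) * d - δ| ≤ 1 := by
    rw [abs_mul, Nat.abs_cast] at hbound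
    exact le_of_mul_le_mul_left (by rwa [mul_one]) hn0
  have hcases : d = 0 ∨ (Y.card = 2 ∧ d = δ) := by
    rw [abs_le] at hb
    obtain ⟨hb1, hb2⟩ := hb
    by_cases hd : d = 0
    · exact Or.inl hd
    right
    have h2 : (2 : ℤ) ≤ Y.card := by exact_mod_cast hY2
    rcases lt_or_gt_of_ne hd with hd' | hd'
    · have h3 : (Y.card : ℤ) * d ≤ (Y.card : ℤ) * (-1) := mul_le_mul_of_nonneg_left (by omega) (by omega)
      have hYe : (Y.card : ℤ) = 2 := by omega
      rw [hYe] at hb1 hb2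
      exact ⟨by omega, by omega⟩
    · have h3 : (Y.card : ℤ) * 1 ≤ (Y.card : ℤ) * d := mul_le_mul_of_nonneg_left (by omega) (by omega)
      have hYe : (Y.card : ℤ) = 2 := by omega
      rw [hYe] at hb1 hb2
      exact ⟨by omega, by omega⟩
  have hXsum : ∑ χ ∈ X, a χ ^ 2 = (X.card : ℤ) := by
    rw [Finset.sum_congr rfl fun χ hχ => show a χ ^ 2 = 1 by rcases ha χ hχ with h | h <;> simp [h],
      Finset.sum_const, nsmul_eq_mul, mul_one]
  rw [hXsum] at hnorm
  have hcX : X.card = e := by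
    have hδ2 : δ ^ 2 = 1 := by rcases hδ with rfl | rfl <;> norm_num
    rcases hcases with rfl | ⟨hY', rfl⟩
    · norm_num [hδ2] at hnorm
      omega
    · rw [hY', sub_self, hδ2] at hnorm
      push_cast at hnorm
      omega
  set ε : ℤ := δ - (Y.card : ℤ) * d with hε
  have hεcases : (d = 0 ∧ ε = δ) ∨ (Y.card = 2 ∧ d = δ ∧ ε = -δ) := by
    rcases hcases with rfl | ⟨hY', rfl⟩
    · exact Or.inl ⟨rfl, by rw [hε]; ring⟩
    · exact Or.inr ⟨hY', rfl, by rw [hε, hY']; push_cast; ring⟩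
  have hεsign : ε = 1 ∨ ε = -1 := by rcases hεcases with ⟨-, h⟩ | ⟨-, -, h⟩ <;> omega
  have hregular : ∀ η ∈ Y, ∀ g : G, ¬ p ∣ orderOf g →
      (ε : ℂ) * (η : G → ℂ) g = ∑ χ ∈ X, (a χ : ℂ) * (χ : G → ℂ) g := fun η hη g hg => by
    have := hreg η hη g hg
    rw [hε]
    push_cast
    linear_combination -this
  have hcongX : ∀ χ ∈ X, (charDegree (χ : G → ℂ) : ℤ) ≡ a χ [ZMOD p] := fun χ hχ =>
    degree_congr hP χ (a χ) fun y hy hy1 =>
      (hXv χ hχ).2 ⟨y, hy⟩ fun h => hy1 (congrArg Subtype.val h)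
  refine ⟨X, Y, a, ε, d, δ, ζ, hεsign, hδ, hεcases, hdisj, hB, hcX, ?_, h1X, h1a, ha, hXsec,
    hcongX, fun η hη => ?_, hagree, hregular, hζY, hsurj, hinj, fun ψ hψ y hy k hk hkr => ?_⟩
  · exact hYc
  · have h1 := hregular η hη 1 (by rw [orderOf_one, Nat.dvd_one]; exact hp.ne_one)
    simp only [ClassAlgebraVal.apply_one_eq_charDegree] at h1
    have h2 : ε * (charDegree (η : G → ℂ) : ℤ) = ∑ χ ∈ X, a χ * (charDegree (χ : G → ℂ) : ℤ) := by
      refine Int.cast_injective (α := ℂ) ?_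
      push_cast
      exact h1
    have h3 : ε * (charDegree (η : G → ℂ) : ℤ) ≡ (e : ℤ) [ZMOD p] := by
      rw [h2, ← hcX, Finset.card_eq_sum_ones, Nat.cast_sum]
      refine Int.ModEq.sum fun χ hχ => ?_
      have := (hcongX χ hχ).mul_left (a χ)
      rcases ha χ hχ with h | h <;> simp [h] at this ⊢ <;> exact this
    have h4 := h3.mul_left ε
    have hε2 : ε * ε = 1 := by rcases hεsign with h | h <;> simp [h]
    rwa [← mul_assoc, hε2, one_mul] at h4
  · rw [value_mul hP hM (hYB _ (hζY ψ hψ)) y.2 (coe_ne_one hy) hk hkr, hYv ψ hψ y hy]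

/-- The case of one exceptional character. -/
theorem exists_shape_one (hM : IsPModular p M) (hP : Nat.card P = p) (e : ℕ)
    (he : (Subgroup.centralizer ((P : Subgroup G) : Set G)).relIndex
      (Subgroup.normalizer ((P : Subgroup G) : Set G)) = e)
    (hep : e + 1 = p) : ∃ X Y a ε d δ ζ, Shape M P e X Y a ε d δ ζ := by
  haveI hab := isMulCommutative_of_card P hP
  have hfree := freeAction_of_card P hP
  have hp := (Fact.out : p.Prime)
  have hP' : Nat.card (P : Subgroup G) = p := hP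
  have hcardP : Fintype.card ↥(P : Subgroup G) = p := by rw [← Nat.card_eq_fintype_card, hP']
  have hcardD : Fintype.card (↥(P : Subgroup G) →* ℂˣ) = p := by
    rw [← Nat.card_eq_fintype_card, CommGroup.card_monoidHom_of_hasEnoughRootsOfUnity, hP']
  obtain ⟨ψ₀, hψ₀⟩ : ∃ ψ : ↥(P : Subgroup G) →* ℂˣ, ψ ≠ 1 :=
    Fintype.exists_ne_of_one_lt_card (by rw [hcardD]; exact hp.one_lt) 1
  have hsame : ∀ ψ : ↥(P : Subgroup G) →* ℂˣ, ψ ≠ 1 → ∀ φ, φ ≠ 1 → SameOrbit P ψ φ := by
    intro ψ hψ φ hφ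
    have h1 : (Finset.univ.filter fun θ => SameOrbit P θ φ) = Finset.univ.erase 1 := by
      refine Finset.eq_of_subset_of_card_le (fun θ hθ => Finset.mem_erase.2
        ⟨sameOrbit_one (sameOrbit_symm (Finset.mem_filter.1 hθ).2) hφ, mem_univ _⟩) ?_
      rw [← Fintype.card_subtype, ← Nat.card_eq_fintype_card, card_orbit hab hfree e he hφ,
        Finset.card_erase_of_mem (mem_univ _), Finset.card_univ, hcardD]
      omega
    exact (Finset.mem_filter.1 (h1.symm ▸ Finset.mem_erase.2 ⟨hψ, mem_univ ψ⟩ :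
      ψ ∈ Finset.univ.filter fun θ => SameOrbit P θ φ)).2
  haveI : Fintype ↥(Subgroup.normalizer ((P : Subgroup G) : Set G)) := Fintype.ofFinite _
  have htrans : ∀ x y : ↥(P : Subgroup G), x ≠ 1 → y ≠ 1 → ∃ n, conjP P n x = y := by
    intro x y hx hy
    by_contra hne
    push Not at hne
    set I := (Finset.univ : Finset ↥(Subgroup.normalizer ((P : Subgroup G) : Set G))).image
      (fun n => conjP P n x) with hI
    have hfib : ∀ z ∈ I, ((Finset.univ.filter fun n : ↥(Subgroup.normalizer ((P : Subgroup G) : Set G)) =>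
        conjP P n x = z).card) = Nat.card (kerN P) := by
      intro z hz
      obtain ⟨n, -, hn⟩ := Finset.mem_image.1 hz
      have h := count_conj hab hfree (y := z) hx
      rw [if_pos ⟨n, hn⟩] at h
      exact_mod_cast h
    have hc : Nat.card ↥(Subgroup.normalizer ((P : Subgroup G) : Set G)) =
        I.card * Nat.card (kerN P) := by
      rw [Nat.card_eq_fintype_card, ← Finset.card_univ,
        Finset.card_eq_sum_card_fiberwise (t := I) (f := fun n => conjP P n x)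
          (fun n hn => Finset.mem_image_of_mem _ hn), Finset.sum_congr rfl hfib, Finset.sum_const,
        smul_eq_mul]
    rw [← card_kerN, he, mul_comm] at hc
    have hIe : I.card = e := (Nat.eq_of_mul_eq_mul_right Nat.card_pos hc).symm
    have hle : I.card ≤ ((Finset.univ.erase (1 : ↥(P : Subgroup G))).erase y).card := by
      refine Finset.card_le_card fun z hz => ?_
      obtain ⟨n, -, rfl⟩ := Finset.mem_image.1 hz
      exact Finset.mem_erase.2 ⟨hne n, Finset.mem_erase.2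
        ⟨fun h => hx ((conjP P n).injective (h.trans (map_one _).symm)), mem_univ _⟩⟩
    rw [Finset.card_erase_of_mem (Finset.mem_erase.2 ⟨hy, mem_univ _⟩),
      Finset.card_erase_of_mem (mem_univ _), Finset.card_univ, hcardP] at hle
    have := hp.two_le
    omega
  set a : IrrCharacter G → ℤ := fun χ => -mult P χ ψ₀ with ha
  have hconst : ∀ (χ : IrrCharacter G) (x : ↥(P : Subgroup G)), x ≠ 1 →
      (χ : G → ℂ) x = (a χ : ℂ) := by
    intro χ x hx
    have h1 : ∀ y : ↥(P : Subgroup G), y ≠ 1 → (χ : G → ℂ) y = (χ : G → ℂ) x := fun y hy => by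
      obtain ⟨n, rfl⟩ := htrans x y hx hy
      rw [conjP_coe]
      exact BlockTheoryCentre.irr_classFun χ x n
    have h2 := mult_spec P χ ψ₀
    rw [multC, ← Finset.add_sum_erase _ _ (mem_univ (1 : ↥(P : Subgroup G))),
      Finset.sum_congr rfl fun y hy => by rw [h1 y (Finset.ne_of_mem_erase hy)],
      ← Finset.mul_sum, Finset.sum_sub_distrib, sum_conj_erase hP hψ₀, Finset.sum_const,
      Finset.card_erase_of_mem (mem_univ _), Finset.card_univ, hcardP, hP', nsmul_eq_mul, mul_one,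
      Nat.cast_sub hp.one_le] at h2
    simp only [map_one, Units.val_one, sub_self, mul_zero, zero_add, Nat.cast_one] at h2
    rw [show (-1 : ℂ) - ((p : ℂ) - 1) = -(p : ℂ) by ring, mul_neg, mul_neg,
      mul_comm ((χ : G → ℂ) x), ← mul_assoc, inv_mul_cancel₀ (Nat.cast_ne_zero.2 hp.ne_zero),
      one_mul] at h2
    rw [ha]
    push_cast
    linear_combination -h2
  set W := Finset.univ.filter (fun χ : IrrCharacter G => χ ∈ principalBlock M G) with hW
  have hWmem : ∀ {χ}, χ ∈ W ↔ χ ∈ principalBlock M G := by simp [hW]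
  have hsec : ∀ χ ∈ W, ∀ y ∈ (P : Subgroup G), y ≠ 1 →
      ∀ k ∈ Subgroup.centralizer ((P : Subgroup G) : Set G), ¬ p ∣ orderOf k →
        (χ : G → ℂ) (y * k) = (a χ : ℂ) := fun χ hχ y hy hy1 k hk hkr => by
    rw [value_mul hP hM (hWmem.1 hχ) hy hy1 hk hkr]
    exact hconst χ ⟨y, hy⟩ fun h => hy1 (congrArg Subtype.val h)
  obtain ⟨x₀, hx₀⟩ : ∃ x : ↥(P : Subgroup G), x ≠ 1 :=
    Fintype.exists_ne_of_one_lt_card (by rw [hcardP]; exact hp.one_lt) 1
  have hsign : ∀ χ ∈ W, a χ = 1 ∨ a χ = -1 := by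
    intro χ hχ
    have h1 := DefectOneSign7.abs_le_one hP χ (a χ) (hsec χ hχ)
    have h2 : a χ ≠ 0 := by
      intro h0
      obtain ⟨ψ, hψ⟩ := exists_mult_ne_zero hab hfree hM (by rw [hP']; exact hp.ne_one)
        (hWmem.1 hχ)
      apply hψ
      have h3 := mult_spec P χ ψ
      rw [multC, ← Finset.add_sum_erase _ _ (mem_univ (1 : ↥(P : Subgroup G))),
        Finset.sum_eq_zero fun y hy => by
          rw [hconst χ y (Finset.ne_of_mem_erase hy), h0, Int.cast_zero, zero_mul]] at h3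
      simp only [map_one, Units.val_one, sub_self, mul_zero, zero_add] at h3
      exact_mod_cast h3.symm
    rw [abs_le] at h1
    omega
  have hsq : ∀ χ ∈ W, a χ ^ 2 = 1 := fun χ hχ => by rcases hsign χ hχ with h | h <;> simp [h]
  have hWcard : W.card = p := by
    have h := gram hab hfree hM e he hψ₀ hψ₀
    rw [if_pos (sameOrbit_refl ψ₀), ← hW] at h
    have h' : ∑ χ ∈ W, a χ ^ 2 = (e : ℤ) + 1 := by
      rw [← h]
      exact Finset.sum_congr rfl fun χ _ => by rw [ha]; ring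
    rw [Finset.sum_congr rfl hsq, Finset.sum_const, nsmul_eq_mul, mul_one] at h'
    omega
  have hone : oneChar G ∈ W := hWmem.2 (oneChar_mem hM)
  have ha1 : a (oneChar G) = 1 := by
    have h := hconst (oneChar G) x₀ hx₀
    simp only [oneChar] at h
    exact_mod_cast h.symm
  obtain ⟨η, hη, hηne⟩ := Finset.exists_mem_ne (by rw [hWcard]; exact hp.one_lt) (oneChar G)
  have hregW : ∀ g : G, ¬ p ∣ orderOf g → ∑ χ ∈ W, (a χ : ℂ) * (χ : G → ℂ) g = 0 := by
    intro g hg
    have h := sum_mult_mul_regular hab hfree hM (ψ := ψ₀) hg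
    rw [← hW] at h
    rw [← neg_eq_zero, ← h, ← Finset.sum_neg_distrib]
    exact Finset.sum_congr rfl fun χ _ => by rw [ha]; push_cast; ring
  refine ⟨W.erase η, {η}, a, -a η, 0, -a η, fun _ => η, by rcases hsign η hη with h | h <;> omega,
    by rcases hsign η hη with h | h <;> omega, Or.inl ⟨rfl, rfl⟩,
    Finset.disjoint_singleton_right.2 (Finset.notMem_erase η W), fun χ => ?_, ?_, ?_,
    Finset.mem_erase.2 ⟨hηne.symm, hone⟩, ha1, fun χ hχ => hsign χ (Finset.mem_of_mem_erase hχ),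
    fun χ hχ => hsec χ (Finset.mem_of_mem_erase hχ),
    fun χ _ => degree_congr hP χ (a χ) fun y hy hy1 =>
      hconst χ ⟨y, hy⟩ fun h => hy1 (congrArg Subtype.val h),
    fun θ hθ => ?_, fun θ hθ θ' hθ' g _ => ?_, fun θ hθ g hg => ?_,
    fun ψ _ => Finset.mem_singleton_self η, fun θ hθ => ⟨ψ₀, hψ₀, (Finset.mem_singleton.1 hθ).symm⟩,
    fun ψ hψ φ hφ => iff_of_true rfl (hsame ψ hψ φ hφ), fun ψ hψ y hy k hk hkr => ?_⟩
  · rw [Finset.mem_erase, Finset.mem_singleton, ← hWmem]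
    constructor
    · intro h
      by_cases h' : χ = η
      · exact Or.inr h'
      · exact Or.inl ⟨h', h⟩
    · rintro (⟨-, h⟩ | rfl) <;> assumption
  · rw [Finset.card_erase_of_mem hη, hWcard]; omega
  · rw [Finset.card_singleton, one_mul]; exact hep
  · rw [Finset.mem_singleton.1 hθ]
    have h1 := degree_congr hP η (a η) fun y hy hy1 =>
      hconst η ⟨y, hy⟩ fun h => hy1 (congrArg Subtype.val h)
    refine h1.trans (Int.modEq_iff_dvd.2 ⟨-a η, ?_⟩)
    have : (e : ℤ) + 1 = p := by exact_mod_cast hep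
    linear_combination (-a η) * this
  · rw [Finset.mem_singleton.1 hθ, Finset.mem_singleton.1 hθ']
  · rw [Finset.mem_singleton.1 hθ]
    have h := hregW g hg
    rw [← Finset.add_sum_erase _ _ hη] at h
    push_cast
    linear_combination -h
  · have horb : orbitSum ψ y = -1 := by
      rw [orbitSum, Finset.filter_congr (q := fun φ => φ ≠ 1) (fun φ _ =>
        ⟨fun h => sameOrbit_one (sameOrbit_symm h) hψ, fun h => hsame φ h ψ hψ⟩),
        Finset.filter_ne']
      have h := sum_dual (A := ↥(P : Subgroup G)) y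
      rw [if_neg hy, ← Finset.add_sum_erase _ _ (Finset.mem_univ (1 : ↥(P : Subgroup G) →* ℂˣ))] at h
      simp only [MonoidHom.one_apply, Units.val_one] at h
      linear_combination h
    rw [hsec η hη y y.2 (coe_ne_one hy) k hk hkr, horb]
    push_cast
    ring

omit [Fintype ↥(P : Subgroup G)] [Fintype (↥(P : Subgroup G) →* ℂˣ)] in
/-- The order of `N(P) / C(P)` divides `p - 1`. -/
theorem index_dvd (hP : Nat.card P = p) (e : ℕ)
    (he : (Subgroup.centralizer ((P : Subgroup G) : Set G)).relIndex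
      (Subgroup.normalizer ((P : Subgroup G) : Set G)) = e) : e ∣ p - 1 := by
  have hP' : Nat.card (P : Subgroup G) = p := hP
  haveI : IsCyclic (P : Subgroup G) := isCyclic_of_prime_card (p := p) hP'
  rw [← he, Subgroup.relIndex, ← Subgroup.normalizerMonoidHom_ker, Subgroup.index_ker]
  refine (Subgroup.card_subgroup_dvd_card _).trans ?_
  rw [IsCyclic.card_mulAut, hP', Nat.totient_prime (Fact.out : p.Prime)]

/-- **Brauer's theorem** on the principal block when the Sylow subgroup has order `p`. -/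
theorem exists_shape (hM : IsPModular p M) (hP : Nat.card P = p) (e : ℕ)
    (he : (Subgroup.centralizer ((P : Subgroup G) : Set G)).relIndex
      (Subgroup.normalizer ((P : Subgroup G) : Set G)) = e) :
    ∃ X Y a ε d δ ζ, Shape M P e X Y a ε d δ ζ := by
  have hdvd := index_dvd hP e he
  have hp := (Fact.out : p.Prime).two_le
  have hle := Nat.le_of_dvd (by omega) hdvd
  rcases eq_or_lt_of_le (show e + 1 ≤ p by omega) with h | h
  · exact exists_shape_one hM hP e he h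
  · exact exists_shape_two hM hP e he h

end Cfsg.Agent.DefectOneShape7
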