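import Cfsg.Agent.Lib.BlockDefectOneBound86
import Cfsg.Agent.Lib.BlockDefectOneShape86
import Cfsg.Agent.Lib.DefectOneShape7
import Cfsg.Agent.Lib.ClassAlgebraVal

/-!
Blocks with a Sylow subgroup of order `p` as defect group: the characters of the block attached to
an irreducible character `η` of the `p`-regular part of the centralizer.
-/

set_option autoImplicit false

open scoped ComplexConjugate

namespace Cfsg.Agent.BlockDefectOneBlock86

open Cfsg Cfsg.Agent.BlockTheoryLocalRing Cfsg.Agent.BlockTheoryCentre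
  Cfsg.Agent.BlockTheoryIdem Cfsg.Agent.BlockTheoryBrauer Cfsg.Agent.BlockTheoryInduced
  Cfsg.Agent.CharBasic Cfsg.Agent.CharBasicOrth Cfsg.Agent.CharBasicDecomp
  Cfsg.Agent.BlockAbelianSylow86 Cfsg.Agent.BlockPrime86
  Cfsg.Agent.BlockDefectOneLocal86 Cfsg.Agent.BlockDefectOneBound86

attribute [local instance] Classical.propDecidable

universe u

variable {G : Type u} [Group G] [Fintype G] {p : ℕ} [Fact p.Prime] {M : Ideal AlgInt}
  {P : Sylow p G} {U : Subgroup G}

/-- The conjugates of a character of `U` under the normalizer. -/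
noncomputable def orbit (hU : RegPart P U) (η : IrrCharacter U) : Finset (IrrCharacter U) :=
  Finset.univ.image fun n : ↥(Subgroup.normalizer ((P : Subgroup G) : Set G)) => twist hU η n

variable (hP : Nat.card (P : Subgroup G) = p) (hU : RegPart P U)

theorem mem_orbit {η η' : IrrCharacter U} :
    η' ∈ orbit hU η ↔
      ∃ n : ↥(Subgroup.normalizer ((P : Subgroup G) : Set G)), twist hU η n = η' := by
  simp [orbit]

theorem self_mem_orbit (η : IrrCharacter U) : η ∈ orbit hU η :=
  (mem_orbit hU).2 ⟨1, twist_one hU η⟩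

theorem twist_mem_orbit {η η' : IrrCharacter U} (h : η' ∈ orbit hU η)
    (n : ↥(Subgroup.normalizer ((P : Subgroup G) : Set G))) : twist hU η' n ∈ orbit hU η := by
  obtain ⟨m, rfl⟩ := (mem_orbit hU).1 h
  exact (mem_orbit hU).2 ⟨m * n, (twist_twist hU η m n).symm⟩

theorem twist_inv (η : IrrCharacter U) (n : ↥(Subgroup.normalizer ((P : Subgroup G) : Set G))) :
    twist hU (twist hU η n) n⁻¹ = η := by
  rw [twist_twist, mul_inv_cancel, twist_one]

theorem twist_one_apply (η : IrrCharacter U) (n : ↥(Subgroup.normalizer ((P : Subgroup G) : Set G))) :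
    (twist hU η n : U → ℂ) 1 = (η : U → ℂ) 1 :=
  twist_apply hU η n (w := 1) (w' := 1) (by simp)

theorem orbit_apply_one {η η' : IrrCharacter U} (h : η' ∈ orbit hU η) :
    (η' : U → ℂ) 1 = (η : U → ℂ) 1 := by
  obtain ⟨n, rfl⟩ := (mem_orbit hU).1 h
  exact twist_one_apply hU η n

theorem card_orbit (η : IrrCharacter U) :
    (orbit hU η).card * Nat.card (stab hU η) =
      Nat.card ↥(Subgroup.normalizer ((P : Subgroup G) : Set G)) := by
  have h := Finset.card_eq_sum_card_image (fun n => twist hU η n)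
    (Finset.univ : Finset ↥(Subgroup.normalizer ((P : Subgroup G) : Set G)))
  rw [Finset.card_univ, ← Nat.card_eq_fintype_card] at h
  rw [h, Finset.sum_congr rfl (g := fun _ => Nat.card (stab hU η)), Finset.sum_const, smul_eq_mul]
  · rfl
  intro η' hη'
  obtain ⟨n, -, rfl⟩ := Finset.mem_image.1 hη'
  rw [Nat.card_eq_fintype_card, ← Fintype.card_subtype]
  refine Fintype.card_congr
    { toFun := fun m => ⟨m.1 * n⁻¹, show twist hU η (m.1 * n⁻¹) = η by
        rw [← twist_twist, m.2, twist_inv]⟩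
      invFun := fun s => ⟨s.1 * n, by
        show twist hU η (s.1 * n) = twist hU η n
        rw [← twist_twist, show twist hU η s.1 = η from s.2]⟩
      left_inv := fun m => Subtype.ext (inv_mul_cancel_right m.1 n)
      right_inv := fun s => Subtype.ext (mul_inv_cancel_right s.1 n) }

include hP

theorem exists_block (hM : IsPModular p M) (η : IrrCharacter U) :
    ∃ B, IsInducedBlock M (Subgroup.centralizer ((P : Subgroup G) : Set G))
      (blockOf M (ext hP hU η : _ → ℂ)) B := by
  haveI := comm_P hP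
  exact inducedBlockDefined _ hM P.2 (Subgroup.le_centralizer _) le_rfl
    (Subgroup.centralizer_le_normalizer _) (isPBlock_blockOf _)

include hU in
/-- Every singular element lies in a section of `P`. -/
theorem exists_section {g : G} (hg : p ∣ orderOf g) :
    ∃ y ∈ (P : Subgroup G), y ≠ 1 ∧ ∃ w : U, IsConj (y * (w : G)) g := by
  obtain ⟨x, r, hxr', hxr, hxp, hr⟩ := exists_pPart (p := p) (Fact.out) g
  obtain ⟨j, hj⟩ := hxp
  have hpg : IsPGroup p (Subgroup.zpowers x) := IsPGroup.of_card (n := j) (by rw [Nat.card_zpowers, hj])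
  obtain ⟨Q, hQ⟩ := hpg.exists_le_sylow
  obtain ⟨c, hc⟩ := MulAction.exists_smul_eq G Q P
  have hy : c * x * c⁻¹ ∈ (P : Subgroup G) := by
    rw [← hc, Sylow.coe_subgroup_smul]
    exact Subgroup.smul_mem_pointwise_smul _ _ _ (hQ (Subgroup.mem_zpowers x))
  have hy1 : c * x * c⁻¹ ≠ 1 := by
    intro h
    have hx1 : x = 1 := by simpa using h
    rw [← hxr', hx1, one_mul] at hg
    exact hr hg
  have hw : c * r * c⁻¹ ∈ U := (hU _).2 ⟨(commute_iff hP hU hy hy1 _).2
    (hxr.map (MulAut.conj c).toMonoidHom), by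
      rwa [show c * r * c⁻¹ = MulAut.conj c r from rfl, MulEquiv.orderOf_eq]⟩
  refine ⟨_, hy, hy1, ⟨_, hw⟩, isConj_iff.2 ⟨c⁻¹, ?_⟩⟩
  rw [← hxr']
  group

include hU in
/-- Irreducible characters with the same coefficients agree on singular elements. -/
theorem eq_singular {χ ψ : IrrCharacter G}
    (h : ∀ η : IrrCharacter U, ∀ y ∈ (P : Subgroup G), y ≠ 1 →
      cval η (χ : G → ℂ) y = cval η (ψ : G → ℂ) y) {g : G} (hg : p ∣ orderOf g) :
    (χ : G → ℂ) g = (ψ : G → ℂ) g := by
  obtain ⟨y, hy, hy1, w, hw⟩ := exists_section hP hU hg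
  rw [← apply_eq_of_isConj (irr_classFun χ) hw, ← apply_eq_of_isConj (irr_classFun ψ) hw,
    apply_eq_sum hU χ hy w, apply_eq_sum hU ψ hy w]
  exact Finset.sum_congr rfl fun η _ => by rw [h η y hy hy1]

include hU in
/-- A character of degree prime to `p` has a nonzero coefficient. -/
theorem exists_cval_ne {χ : IrrCharacter G} (hχ : ¬ p ∣ charDegree (χ : G → ℂ)) :
    ∃ η : IrrCharacter U, ∃ y ∈ (P : Subgroup G), y ≠ 1 ∧ cval η (χ : G → ℂ) y ≠ 0 := by
  by_contra h
  push Not at h
  refine hχ ?_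
  haveI := comm_P hP
  haveI : Fintype (↥(P : Subgroup G) →* ℂˣ) := Fintype.ofFinite _
  have h1 := DefectOneShape7.degree_congr hP χ 0 fun y hy hy1 => by
    have e := apply_eq_sum hU χ hy 1
    rw [OneMemClass.coe_one, mul_one] at e
    rw [e, Int.cast_zero]
    exact Finset.sum_eq_zero fun η _ => by rw [h η y hy hy1, zero_mul]
  exact Int.natCast_dvd_natCast.1 (Int.modEq_zero_iff_dvd.1 h1)

include hU in
theorem eq_of_cval_ne (hM : IsPModular p M) {η : IrrCharacter U} {B B' : Set (IrrCharacter G)}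
    (hB : IsPBlock M B') (hind : IsInducedBlock M (Subgroup.centralizer ((P : Subgroup G) : Set G))
      (blockOf M (ext hP hU η : _ → ℂ)) B) {χ : IrrCharacter G} (hχ : χ ∈ B') {y : G}
    (hy : y ∈ (P : Subgroup G)) (hy1 : y ≠ 1) (hne : cval η (χ : G → ℂ) y ≠ 0) : B = B' := by
  refine block_eq_of_mem hM hind.2.1 hB ?_ hχ
  by_contra h
  exact hne (cval_eq_zero hP hU hM η hind h hy hy1)

set_option maxHeartbeats 400000 in
/-- Characters of `U` inducing the same block are conjugate. -/
theorem separation (hM : IsPModular p M) {η η' : IrrCharacter U} {B : Set (IrrCharacter G)}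
    (hind : IsInducedBlock M (Subgroup.centralizer ((P : Subgroup G) : Set G))
      (blockOf M (ext hP hU η : _ → ℂ)) B)
    (hind' : IsInducedBlock M (Subgroup.centralizer ((P : Subgroup G) : Set G))
      (blockOf M (ext hP hU η' : _ → ℂ)) B) : η' ∈ orbit hU η := by
  haveI := comm_P hP
  have hpU := not_dvd_card hP hU
  set zU : MonoidAlgebra ℂ U := idem (orbit hU η : Set (IrrCharacter U)) with hzU
  have hzUi : IsInt M zU := BlockTheoryNormal.isInt_idem_of_not_dvd hM hpU _
  have hinv : ∀ (n : ↥(Subgroup.normalizer ((P : Subgroup G) : Set G))) (w : U),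
      zU.coeff (conjU hU n w) = zU.coeff w := by
    intro n w
    simp only [hzU, coeff_idem, blockCoeff_eq_sum]
    refine congrArg _ ?_
    refine Fintype.sum_bijective (fun χ => twist hU χ n)
      ⟨fun a b h => by
        have := congrArg (fun χ => twist hU χ n⁻¹) h
        simpa only [twist_inv] using this,
       fun a => ⟨twist hU a n⁻¹, by
        simp only [twist_twist, inv_mul_cancel, twist_one]⟩⟩ _ _ fun χ => ?_
    have hiff : twist hU χ n ∈ (orbit hU η : Set (IrrCharacter U)) ↔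
        χ ∈ (orbit hU η : Set (IrrCharacter U)) :=
      ⟨fun h => twist_inv hU χ n ▸ twist_mem_orbit hU h n⁻¹, fun h => twist_mem_orbit hU h n⟩
    simp only [hiff, twist_one_apply]
    split_ifs <;> rfl
  have hfus : ∀ u u' : U, IsConj (u : G) (u' : G) → zU.coeff u = zU.coeff u' := by
    intro u u' h
    obtain ⟨c, hc⟩ := isConj_iff.1 h
    obtain ⟨n, hn, hn'⟩ := Sylow.conj_eq_normalizer_conj_of_mem_centralizer P (u : G) c⁻¹
      ((hU u).1 u.2).1 (by rw [inv_inv, hc]; exact ((hU u').1 u'.2).1)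
    rw [inv_inv, hc] at hn'
    rw [show u' = conjU hU ⟨n⁻¹, inv_mem hn⟩ u from Subtype.ext (by
      rw [hn']; show _ = n⁻¹ * (u : G) * n⁻¹⁻¹; rw [inv_inv]), hinv]
  set z : MonoidAlgebra ℂ G := ofFun fun g =>
    if h : ∃ u : U, IsConj (u : G) g then zU.coeff h.choose else 0 with hz
  have hzval : ∀ (g : G) (u : U), IsConj (u : G) g → z.coeff g = zU.coeff u := by
    intro g u hu
    have h : ∃ u : U, IsConj (u : G) g := ⟨u, hu⟩
    rw [hz, coeff_ofFun, dif_pos h]
    exact hfus _ _ (h.choose_spec.trans hu.symm)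
  have hz0 : ∀ g : G, (¬ ∃ u : U, IsConj (u : G) g) → z.coeff g = 0 := fun g hg => by
    rw [hz, coeff_ofFun, dif_neg hg]
  have hzcen : IsCen z := by
    intro g x
    have hconj : IsConj g (x * g * x⁻¹) := isConj_iff.2 ⟨x, rfl⟩
    by_cases h : ∃ u : U, IsConj (u : G) g
    · obtain ⟨u, hu⟩ := h
      exact (hzval _ u (hu.trans hconj)).trans (hzval g u hu).symm
    · exact (hz0 _ fun ⟨u, hu⟩ => h ⟨u, hu.trans hconj.symm⟩).trans (hz0 g h).symm
  have hzint : IsInt M z := by
    intro g
    by_cases h : ∃ u : U, IsConj (u : G) g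
    · obtain ⟨u, hu⟩ := h
      rw [hzval g u hu]
      exact hzUi u
    · rw [hz0 g h]
      exact (localRing hM).zero_mem
  have homega : ∀ ξ : IrrCharacter U,
      omega (ext hP hU ξ : _ → ℂ) (res (Subgroup.centralizer ((P : Subgroup G) : Set G))
        (cut (P : Subgroup G) z)) = if ξ ∈ orbit hU η then 1 else 0 := by
    intro ξ
    have hUC : U ≤ Subgroup.centralizer ((P : Subgroup G) : Set G) := fun w hw => ((hU w).1 hw).1
    have hext : ∀ w : U, (ext hP hU ξ : ↥(Subgroup.centralizer ((P : Subgroup G) : Set G)) → ℂ)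
        (Subgroup.inclusion hUC w) = (ξ : U → ℂ) w := fun w =>
      ext_apply hP hU ξ (y := 1) (w := w) (by simp)
    rw [show (if ξ ∈ orbit hU η then (1 : ℂ) else 0) = omega (ξ : U → ℂ) zU by
      rw [hzU, omega_idem]; simp only [Finset.mem_coe]]
    rw [omega_eq_finsum, omega_apply, chiSum_apply, Finset.mul_sum]
    refine (Fintype.sum_of_injective (Subgroup.inclusion hUC) (Subgroup.inclusion_injective hUC)
      _ _ ?_ ?_).symm
    · intro c hc
      rw [coeff_res, coeff_cut, if_pos c.2, hz0 _ ?_, zero_mul]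
      rintro ⟨u, hu⟩
      refine hc ⟨⟨(c : G), (hU _).2 ⟨c.2, ?_⟩⟩, rfl⟩
      obtain ⟨a, ha⟩ := isConj_iff.1 hu
      rw [← ha, show a * (u : G) * a⁻¹ = MulAut.conj a (u : G) from rfl, MulEquiv.orderOf_eq]
      exact ((hU u).1 u.2).2
    · intro w
      rw [coeff_res, coeff_cut, if_pos (Subgroup.inclusion hUC w).2, hext,
        hzval ((Subgroup.inclusion hUC w : ↥(Subgroup.centralizer ((P : Subgroup G) : Set G))) : G) w
          (IsConj.refl _), ← map_one (Subgroup.inclusion hUC), hext]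
      ring
  obtain ⟨χ, hχ⟩ := block_nonempty hM hind.2.1
  have hmain : ∀ ξ : IrrCharacter U, IsInducedBlock M (Subgroup.centralizer ((P : Subgroup G) : Set G))
      (blockOf M (ext hP hU ξ : _ → ℂ)) B →
      MemLocalIdeal M ((if ξ ∈ orbit hU η then (1 : ℂ) else 0) - omega (χ : G → ℂ) z) := by
    intro ξ hξ
    have h1 := inducedBlock_congr _ hM hξ (self_mem_blockOf hM (ext hP hU ξ)) hχ hzcen hzint
    have h2 := omega_res_sub_br _ hM P.2 (Subgroup.le_centralizer _)
      (Subgroup.centralizer_le_normalizer _) (ext hP hU ξ) hzcen hzint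
    rw [homega ξ] at h2
    convert ideal_sub hM h1 h2 using 1
    ring
  by_contra h
  have h1 := hmain η hind
  have h2 := hmain η' hind'
  rw [if_pos (self_mem_orbit hU η)] at h1
  rw [if_neg h] at h2
  have h3 := ideal_sub hM h1 h2
  rw [show (1 : ℂ) - omega (χ : G → ℂ) z - (0 - omega (χ : G → ℂ) z) = 1 by ring] at h3
  exact one_not_ideal hM h3

/-- Outside the orbit the coefficients vanish on the block. -/
theorem cval_off_orbit (hM : IsPModular p M) {η η' : IrrCharacter U} {B : Set (IrrCharacter G)}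
    (hind : IsInducedBlock M (Subgroup.centralizer ((P : Subgroup G) : Set G))
      (blockOf M (ext hP hU η : _ → ℂ)) B) (hη' : η' ∉ orbit hU η) {χ : IrrCharacter G}
    (hχ : χ ∈ B) {y : G} (hy : y ∈ (P : Subgroup G)) (hy1 : y ≠ 1) :
    cval η' (χ : G → ℂ) y = 0 := by
  by_contra h
  obtain ⟨B', hind'⟩ := exists_block hP hU hM η'
  have e := eq_of_cval_ne hP hU hM hind.2.1 hind' hχ hy hy1 h
  exact hη' (separation hP hU hM hind (e ▸ hind'))

/-- The values of a character of the block on the sections of `P`. -/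
theorem value (hM : IsPModular p M) {η : IrrCharacter U} {B : Set (IrrCharacter G)}
    (hind : IsInducedBlock M (Subgroup.centralizer ((P : Subgroup G) : Set G))
      (blockOf M (ext hP hU η : _ → ℂ)) B) {χ : IrrCharacter G}
    (hχ : χ ∈ B) {y : G} (hy : y ∈ (P : Subgroup G)) (hy1 : y ≠ 1) (w : U) :
    (χ : G → ℂ) (y * (w : G)) =
      ∑ η' ∈ orbit hU η, cval η' (χ : G → ℂ) y * (η' : U → ℂ) w := by
  rw [apply_eq_sum hU χ hy w]
  refine (Finset.sum_subset (Finset.subset_univ _) fun η' _ h => ?_).symm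
  rw [cval_off_orbit hP hU hM hind h hχ hy hy1, zero_mul]

/-- On the block a coefficient does not vanish identically. -/
theorem exists_ne (hM : IsPModular p M) {η : IrrCharacter U} {B : Set (IrrCharacter G)}
    (hind : IsInducedBlock M (Subgroup.centralizer ((P : Subgroup G) : Set G))
      (blockOf M (ext hP hU η : _ → ℂ)) B) {χ : IrrCharacter G} (hχ : χ ∈ B) :
    ∃ x : ↥(P : Subgroup G), x ≠ 1 ∧ cval η (χ : G → ℂ) x ≠ 0 := by
  have hp := hM.1
  by_contra h
  push Not at h
  have h' : ∀ y ∈ (P : Subgroup G), y ≠ 1 → cval η (χ : G → ℂ) y = 0 := fun y hy hy1 =>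
    h ⟨y, hy⟩ fun e => hy1 (congrArg Subtype.val e)
  have hvan : ∀ g : G, p ∣ orderOf g → (χ : G → ℂ) g = 0 := by
    intro g hg
    obtain ⟨y, hy, hy1, w, hw⟩ := exists_section hP hU hg
    rw [← apply_eq_of_isConj (irr_classFun χ) hw, value hP hU hM hind hχ hy hy1 w]
    refine Finset.sum_eq_zero fun η' hη' => ?_
    obtain ⟨n, rfl⟩ := (mem_orbit hU).1 hη'
    rw [← cval_conj hU η χ n y, h' _ ((Subgroup.mem_normalizer_iff.1 n.2 y).1 hy)
      fun e => hy1 (by simpa using e), zero_mul]
  set d := charDegree (χ : G → ℂ) with hd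
  haveI := comm_P hP
  haveI : Fintype (↥(P : Subgroup G) →* ℂˣ) := Fintype.ofFinite _
  have hdvd : p ∣ d := Int.natCast_dvd_natCast.1 (Int.modEq_zero_iff_dvd.1
    (DefectOneShape7.degree_congr hP χ 0 fun y hy hy1 => by
      rw [hvan y (singular hy hy1), Int.cast_zero]))
  obtain ⟨d', hd'⟩ := hdvd
  have hindex := P.card_mul_index
  have hmem : ∀ g, MemLocalRing M (blockCoeff ({χ} : Set (IrrCharacter G)) g) := by
    intro g
    simp only [blockCoeff_eq_sum, Set.mem_singleton_iff, Finset.sum_ite_eq', Finset.mem_univ, if_true]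
    have e : (Nat.card G : ℂ)⁻¹ * ((χ : G → ℂ) 1 * conj ((χ : G → ℂ) g)) =
        ((P : Subgroup G).index : ℂ)⁻¹ * ((d' : ℂ) * (χ : G → ℂ) g⁻¹) := by
      have hG : (Nat.card G : ℂ) = (p : ℂ) * ((P : Subgroup G).index : ℂ) := by
        rw [← hindex, hP, Nat.cast_mul]
      rw [hG, ClassAlgebraVal.apply_one_eq_charDegree, ← hd, hd', Nat.cast_mul, irr_inv]
      have : (p : ℂ) ≠ 0 := Nat.cast_ne_zero.2 hp.ne_zero
      field_simp
    rw [e]
    refine (localRing hM).mul_mem ?_ ((localRing hM).mul_mem (natCast_mem (localRing hM) d')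
      (irr_mem hM χ g⁻¹))
    refine BlockTheoryLocalRing.inv_mem hM (natCast_mem (localRing hM) _) ?_
    intro hid
    exact P.not_dvd_index ((natCast_mem_iff hM).1 hid)
  have hsub : B ⊆ {χ} := by
    rw [eq_blockOf_of_mem hM hind.2.1 hχ]
    refine blockOf_subset_of_isInt hM ?_ (Set.mem_singleton χ)
    intro g
    rw [coeff_idem]
    exact hmem g
  obtain ⟨x, hx, hx1⟩ : ∃ x ∈ (P : Subgroup G), x ≠ 1 := by
    by_contra hh
    push Not at hh
    have := (Subgroup.eq_bot_iff_forall (P : Subgroup G)).2 hh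
    rw [this, Subgroup.card_bot] at hP
    exact hp.one_lt.ne hP
  have hcol := column hP hU η hx hx1 hx hx1
  rw [if_pos ⟨1, by simp, twist_one hU η⟩, Finset.sum_eq_zero fun ψ _ => ?_] at hcol
  · exact Nat.cast_ne_zero.2 hp.ne_zero hcol.symm
  by_cases hψ : ψ ∈ B
  · rw [Set.mem_singleton_iff.1 (hsub hψ), h' x hx hx1, zero_mul]
  · rw [cval_eq_zero hP hU hM η hind hψ hx hx1, zero_mul]

variable [IsMulCommutative ↥(P : Subgroup G)] [Fintype ↥(P : Subgroup G)]

open scoped IsMulCommutative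

include hU in
/-- The reduced multiplicities are integers. -/
theorem exists_int (η : IrrCharacter U) (χ : IrrCharacter G) (ψ : ↥(P : Subgroup G) →* ℂˣ) :
    ∃ z : ℤ, BlockDefectOneShape86.mult (fun (χ : IrrCharacter G) (y : ↥(P : Subgroup G)) =>
      cval η (χ : G → ℂ) (y : G)) χ ψ = (z : ℂ) := by
  set C := Subgroup.centralizer ((P : Subgroup G) : Set G) with hC
  have hχ : IsCharacter C fun c : C => (χ : G → ℂ) c :=
    isCharacter_comap C.subtype (isCharacter_of_isIrrCharacter χ.2)
  have key : ∀ φ : ↥(P : Subgroup G) →* ℂˣ, ∃ n : ℕ, (Nat.card ↥(P : Subgroup G) : ℂ)⁻¹ *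
      ∑ y : ↥(P : Subgroup G), cval η (χ : G → ℂ) (y : G) * conj (φ y : ℂ) = n := by
    intro φ
    obtain ⟨n, hn⟩ := classInner_isCharacter hχ (isCharacter_of_isIrrCharacter
      (isIrrCharacter_mul_linear (ext hP hU η).2 (φ.comp (projP hP hU))))
    refine ⟨n, ?_⟩
    have hcard : (Nat.card C : ℂ) = (Nat.card ↥(P : Subgroup G) : ℂ) * (Nat.card U : ℂ) := by
      rw [← Nat.cast_mul, ← Nat.card_prod]
      exact congrArg _ (Nat.card_congr (Equiv.ofBijective _
        (DefectOneSign7.prodC_bijective hP hU))).symm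
    rw [← hn]
    simp only [classInner, cval]
    rw [hcard, ← Fintype.sum_bijective (DefectOneSign7.prodC hU)
      (DefectOneSign7.prodC_bijective hP hU) _ _ fun z => rfl, Fintype.sum_prod_type, mul_inv,
      mul_assoc]
    simp only [Finset.mul_sum, Finset.sum_mul]
    refine Finset.sum_congr rfl fun y _ => Finset.sum_congr rfl fun w _ => ?_
    have hc := proj_eq hP hU (y := y) (w := w) (c := DefectOneSign7.prodC hU (y, w)) rfl
    rw [ext_apply hP hU η (y := y) (w := w) rfl, map_mul, MonoidHom.comp_apply, hc.1]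
    show _ = _ * (_ * ((χ : G → ℂ) ((y : G) * (w : G)) * _))
    ring
  obtain ⟨a, ha⟩ := key ψ
  obtain ⟨b, hb⟩ := key 1
  refine ⟨(a : ℤ) - b, ?_⟩
  simp only [MonoidHom.one_apply, Units.val_one, map_one, mul_one] at hb
  rw [BlockDefectOneShape86.mult, Int.cast_sub, Int.cast_natCast, Int.cast_natCast, ← ha, ← hb, ← mul_sub,
    ← Finset.sum_sub_distrib]
  exact congrArg _ (Finset.sum_congr rfl fun y _ => by ring)

set_option maxHeartbeats 3000000 in
/-- The shape of the block attached to `η`. -/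
theorem exists_data [Fintype (↥(P : Subgroup G) →* ℂˣ)] (hM : IsPModular p M)
    {η : IrrCharacter U} {B : Set (IrrCharacter G)}
    (hind : IsInducedBlock M (Subgroup.centralizer ((P : Subgroup G) : Set G))
      (blockOf M (ext hP hU η : _ → ℂ)) B) :
    ∃ X Y a ε d δ ζ, BlockDefectOneShape86.Shape (autE hU η) (Finset.univ.filter (· ∈ B))
      (fun (χ : IrrCharacter G) (y : ↥(P : Subgroup G)) => cval η (χ : G → ℂ) (y : G))
      (fun (χ : IrrCharacter G) (g : {g : G // ¬ p ∣ orderOf g}) => (χ : G → ℂ) g)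
      p X Y a ε d δ ζ := by
  obtain ⟨k, _, _, _, red, hred⟩ := exists_residue hM
  haveI : Fintype (autE hU η) := Fintype.ofFinite _
  have h1 : ¬ p ∣ orderOf (1 : G) := by rw [orderOf_one, Nat.dvd_one]; exact hM.1.ne_one
  refine BlockDefectOneShape86.exists_shape (k := k) hP _ _ _
    (fun (χ : IrrCharacter G) (g : {g : G // ¬ p ∣ orderOf g}) => rd hM red ((χ : G → ℂ) g))
    (exists_int hP hU η) (fun χ hχ => exists_ne hP hU hM hind (Finset.mem_filter.1 hχ).2) ?_ ?_
    ⟨1, h1⟩ (fun χ : IrrCharacter G => charDegree (χ : G → ℂ))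
    (fun χ _ => ClassAlgebraVal.charDegree_pos χ)
    (fun χ _ => ClassAlgebraVal.apply_one_eq_charDegree χ) ?_ ?_
  · intro x y hx hy
    have hx' : (x : G) ≠ 1 := fun h => hx (Subtype.ext h)
    have hy' : (y : G) ≠ 1 := fun h => hy (Subtype.ext h)
    beta_reduce
    have hc := column hP hU η x.2 hx' y.2 hy'
    rw [Finset.sum_subset (Finset.filter_subset (· ∈ B) Finset.univ)
      (f := fun χ : IrrCharacter G => cval η (χ : G → ℂ) (x : G) * conj (cval η (χ : G → ℂ) (y : G)))
      (fun χ _ hχ => ?_), hc]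
    swap
    · rw [cval_eq_zero hP hU hM η hind (fun h => hχ (Finset.mem_filter.2 ⟨Finset.mem_univ _, h⟩))
        x.2 hx', zero_mul]
    by_cases hex : ∃ n : ↥(Subgroup.normalizer ((P : Subgroup G) : Set G)),
        (n : G) * (x : G) * (n : G)⁻¹ = (y : G) ∧ twist hU η n = η
    · rw [if_pos hex, if_pos]
      obtain ⟨n, hn, hfix⟩ := hex
      exact ⟨conjP P n, Subgroup.mem_map_of_mem _ (show n ∈ stab hU η from hfix),
        Subtype.ext (by rw [conjP_coe]; exact hn)⟩
    · rw [if_neg hex, if_neg]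
      rintro ⟨σ, hσ, hσx⟩
      obtain ⟨n, hn, rfl⟩ := Subgroup.mem_map.1 hσ
      exact hex ⟨n, by rw [← hσx, conjP_coe], hn⟩
  · intro x hx g
    have hx' : (x : G) ≠ 1 := fun h => hx (Subtype.ext h)
    refine (Finset.sum_subset (Finset.filter_subset _ _) fun χ _ hχ => ?_).trans
      (cval_regular hP hU η x.2 hx' g.2)
    rw [cval_eq_zero hP hU hM η hind (fun h => hχ (Finset.mem_filter.2 ⟨Finset.mem_univ _, h⟩))
        x.2 hx', zero_mul]
  · intro S z _ h
    funext g
    have hm : ∀ χ : IrrCharacter G, (χ : G → ℂ) g ∈ localRing hM := fun χ => irr_mem hM χ g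
    rw [Finset.sum_apply, Pi.zero_apply, ← rd_zero hM red, ← h g,
      rd_sum hM red _ _ (fun χ _ => mul_mem (intCast_mem (localRing hM) (z χ)) (hm χ))]
    refine Finset.sum_congr rfl fun χ _ => ?_
    rw [rd_mul hM red (intCast_mem (localRing hM) (z χ)) (hm χ), rd_intCast]
    rfl
  · intro Ψ hΨ
    exact index_le_span hP hM red hred hU η hind Ψ fun χ hχ =>
      hΨ χ (Finset.mem_filter.2 ⟨Finset.mem_univ _, hχ⟩)

end Cfsg.Agent.BlockDefectOneBlock86
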