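import Cfsg.Agent.Lib.DefectOneSign7
import Cfsg.Agent.Lib.BlockAbelianSylowMain86
import Cfsg.Agent.Lib.BlockTheoryNormal

/-!
A Sylow subgroup `P` of order `p`, its centralizer `P × U`, and the coefficients of the
irreducible characters of `G` at an irreducible character of `U` on the sections of `P`.
-/

set_option autoImplicit false

open scoped ComplexConjugate

namespace Cfsg.Agent.BlockDefectOneLocal86

open Cfsg Cfsg.Agent.BlockTheoryLocalRing Cfsg.Agent.BlockTheoryCentre
  Cfsg.Agent.BlockTheoryIdem Cfsg.Agent.BlockTheoryBrauer Cfsg.Agent.BlockTheoryInduced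
  Cfsg.Agent.CharBasic Cfsg.Agent.CharBasicOrth Cfsg.Agent.CharBasicDecomp
  Cfsg.Agent.DefectOneSign7 Cfsg.Agent.BlockAbelianSylow86

attribute [local instance] Classical.propDecidable

universe u

variable {G : Type u} [Group G] [Fintype G] {p : ℕ} [Fact p.Prime] {M : Ideal AlgInt}

/-- `U` consists of the `p`-regular elements of the centralizer of `P`. -/
abbrev RegPart (P : Sylow p G) (U : Subgroup G) : Prop :=
  ∀ c, c ∈ U ↔ c ∈ Subgroup.centralizer ((P : Subgroup G) : Set G) ∧ ¬ p ∣ orderOf c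

variable {P : Sylow p G} {U : Subgroup G} (hP : Nat.card (P : Subgroup G) = p) (hU : RegPart P U)

include hP hU

theorem not_dvd_card : ¬ p ∣ Nat.card U := by
  obtain ⟨U', h1, -, h3⟩ := exists_regular_part P hP
  rwa [Subgroup.ext fun c => (h3 c).trans (hU c).symm] at h1

theorem exists_split : ∃ (π₁ : ↥(Subgroup.centralizer ((P : Subgroup G) : Set G)) →* ↥(P : Subgroup G))
    (π₂ : ↥(Subgroup.centralizer ((P : Subgroup G) : Set G)) →* U),
      Function.Surjective π₂ ∧ (∀ c, ((π₁ c : G) * (π₂ c : G)) = c) ∧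
      ∀ (y : ↥(P : Subgroup G)) (w : U) (c : ↥(Subgroup.centralizer ((P : Subgroup G) : Set G))),
        (c : G) = y * w → π₁ c = y ∧ π₂ c = w := by
  haveI := isMulCommutative_of_card P hP
  let f : ↥(P : Subgroup G) × U →* ↥(Subgroup.centralizer ((P : Subgroup G) : Set G)) :=
    MonoidHom.mk' (prodC hU) fun a b => Subtype.ext (by
      show ((a.1 : G) * b.1) * ((a.2 : G) * b.2) = ((a.1 : G) * a.2) * ((b.1 : G) * b.2)
      have h := (DefectOneSign7.hasCommute hU b.1 a.2).eq
      calc ((a.1 : G) * b.1) * ((a.2 : G) * b.2) = (a.1 : G) * ((b.1 : G) * a.2) * b.2 := by group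
        _ = (a.1 : G) * ((a.2 : G) * b.1) * b.2 := by rw [h]
        _ = _ := by group)
  let e := MulEquiv.ofBijective f (prodC_bijective hP hU)
  refine ⟨(MonoidHom.fst _ _).comp e.symm.toMonoidHom, (MonoidHom.snd _ _).comp e.symm.toMonoidHom,
    fun w => ⟨e (1, w), ?_⟩, fun c => ?_, fun y w c hc => ?_⟩
  · show (e.symm (e (1, w))).2 = w
    rw [e.symm_apply_apply]
  · show ((e.symm c).1 : G) * ((e.symm c).2 : G) = c
    exact congrArg Subtype.val (e.apply_symm_apply c)
  · have h : e.symm c = (y, w) := by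
      rw [MulEquiv.symm_apply_eq]
      exact Subtype.ext hc
    exact ⟨congrArg Prod.fst h, congrArg Prod.snd h⟩

/-- The projection of the centralizer to `P`. -/
noncomputable def projP : ↥(Subgroup.centralizer ((P : Subgroup G) : Set G)) →* ↥(P : Subgroup G) :=
  (exists_split hP hU).choose

/-- The projection of the centralizer to `U`. -/
noncomputable def projU : ↥(Subgroup.centralizer ((P : Subgroup G) : Set G)) →* U :=
  (exists_split hP hU).choose_spec.choose

theorem projU_surjective : Function.Surjective (projU hP hU) :=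
  (exists_split hP hU).choose_spec.choose_spec.1

theorem proj_mul (c : ↥(Subgroup.centralizer ((P : Subgroup G) : Set G))) :
    (projP hP hU c : G) * (projU hP hU c : G) = c :=
  (exists_split hP hU).choose_spec.choose_spec.2.1 c

theorem proj_eq {y : ↥(P : Subgroup G)} {w : U}
    {c : ↥(Subgroup.centralizer ((P : Subgroup G) : Set G))} (hc : (c : G) = y * w) :
    projP hP hU c = y ∧ projU hP hU c = w :=
  (exists_split hP hU).choose_spec.choose_spec.2.2 y w c hc

/-- The extension of a character of `U` to the centralizer, trivial on `P`. -/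
noncomputable def ext (η : IrrCharacter U) :
    IrrCharacter ↥(Subgroup.centralizer ((P : Subgroup G) : Set G)) :=
  ⟨fun c => (η : U → ℂ) (projU hP hU c), isIrrCharacter_comap _ (projU_surjective hP hU) η.2⟩

omit hP hU [Fintype G] in
theorem comm_of_mem [Finite G] (hU : RegPart P U) {y : G} (hy : y ∈ (P : Subgroup G)) {w : G}
    (hw : w ∈ U) : Commute y w :=
  Subgroup.mem_centralizer_iff.1 ((hU w).1 hw).1 y hy

theorem ext_apply (η : IrrCharacter U) {y : ↥(P : Subgroup G)} {w : U}
    {c : ↥(Subgroup.centralizer ((P : Subgroup G) : Set G))} (hc : (c : G) = y * w) :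
    (ext hP hU η : _ → ℂ) c = (η : U → ℂ) w := by
  show (η : U → ℂ) (projU hP hU c) = _
  rw [(proj_eq hP hU hc).2]

theorem commute_iff {y : G} (hy : y ∈ (P : Subgroup G)) (hy1 : y ≠ 1) (g : G) :
    g ∈ Subgroup.centralizer ((P : Subgroup G) : Set G) ↔ Commute y g := by
  rw [← centralizer_singleton_eq P hP hy hy1, Subgroup.mem_centralizer_singleton_iff]
  exact eq_comm

/-- The coefficient of `χ` at `η` on the section of `y`. -/
noncomputable def cval (η : IrrCharacter U) (χ : G → ℂ) (y : G) : ℂ :=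
  classInner (fun w : U => χ (y * (w : G))) (η : U → ℂ)

omit hP in
theorem isClassFunction_sec (χ : IrrCharacter G) {y : G} (hy : y ∈ (P : Subgroup G)) :
    IsClassFunction U fun w : U => (χ : G → ℂ) (y * (w : G)) := by
  intro a c
  have hc := (comm_of_mem hU hy c.2).eq
  show (χ : G → ℂ) (y * ((c * a * c⁻¹ : U) : G)) = _
  rw [show y * ((c * a * c⁻¹ : U) : G) = (c : G) * (y * (a : G)) * (c : G)⁻¹ by
    simp only [Subgroup.coe_mul, Subgroup.coe_inv, ← mul_assoc, hc]]
  exact irr_classFun χ _ _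

omit hP in
theorem apply_eq_sum (χ : IrrCharacter G) {y : G} (hy : y ∈ (P : Subgroup G)) (w : U) :
    (χ : G → ℂ) (y * (w : G)) =
      ∑ η : IrrCharacter U, cval η (χ : G → ℂ) y * (η : U → ℂ) w := by
  have h := congrFun (eq_sum_classInner (isClassFunction_sec hU χ hy)) w
  simp only [Finset.sum_apply, Pi.smul_apply, smul_eq_mul] at h
  exact h

/-- An irreducible character of the centralizer restricts irreducibly to `U`, and `P` acts by
scalars of absolute value one. -/
theorem irr_centralizer (ψ : IrrCharacter ↥(Subgroup.centralizer ((P : Subgroup G) : Set G))) :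
    ∃ (η : IrrCharacter U) (ω : ↥(P : Subgroup G) → ℂ), ω 1 = 1 ∧
      ∀ (c : ↥(Subgroup.centralizer ((P : Subgroup G) : Set G))) (y : ↥(P : Subgroup G)) (w : U),
        (c : G) = y * w → (ψ : _ → ℂ) c = ω y * (η : U → ℂ) w := by
  obtain ⟨n, ρ, hρ, hψ⟩ := ψ.2
  haveI := hρ
  haveI := isMulCommutative_of_card P hP
  have hPC : (P : Subgroup G) ≤ (Subgroup.centralizer ((P : Subgroup G) : Set G)) := Subgroup.le_centralizer _
  set iU : U →* (Subgroup.centralizer ((P : Subgroup G) : Set G)) := Subgroup.inclusion (fun w hw => ((hU w).1 hw).1)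
  have hsc : ∀ y : ↥(P : Subgroup G), ∃ z : ℂ, ρ ⟨y, hPC y.2⟩ = z • 1 ∧ ‖z‖ = 1 := by
    intro y
    obtain ⟨z, hz, -⟩ := exists_scalar_of_commute ρ (ρ ⟨y, hPC y.2⟩) (fun g v => by
      rw [← Module.End.mul_apply, ← Module.End.mul_apply, ← map_mul, ← map_mul, show (⟨y, hPC y.2⟩ : (Subgroup.centralizer ((P : Subgroup G) : Set G))) * g = g * ⟨y, hPC y.2⟩ from
        Subtype.ext (Subgroup.mem_centralizer_iff.1 g.2 y y.2)])
    have hz' : ρ ⟨y, hPC y.2⟩ = z • (1 : Module.End ℂ (Fin n → ℂ)) := hz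
    refine ⟨z, hz', ?_⟩
    haveI := nontrivial_of_irreducible ρ
    have h1 : (⟨y, hPC y.2⟩ : (Subgroup.centralizer ((P : Subgroup G) : Set G))) ^ p = 1 := by
      have h := pow_card_eq_one' (x := y)
      rw [hP] at h
      exact Subtype.ext (by rw [SubmonoidClass.coe_pow]; exact congrArg Subtype.val h)
    have h2 : (z ^ p) • (1 : Module.End ℂ (Fin n → ℂ)) = (1 : ℂ) • 1 := by
      rw [one_smul, ← one_pow p, ← smul_pow, ← hz', ← map_pow, h1, map_one, one_pow]
    have h3 : z ^ p = 1 := by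
      obtain ⟨v, hv⟩ := exists_ne (0 : Fin n → ℂ)
      have h4 := LinearMap.congr_fun h2 v
      simp only [LinearMap.smul_apply, Module.End.one_apply] at h4
      exact smul_left_injective ℂ hv h4
    exact Complex.norm_eq_one_of_pow_eq_one h3 (Fact.out : p.Prime).ne_zero
  choose ω hω hnorm using hsc
  have hval : ∀ (c : (Subgroup.centralizer ((P : Subgroup G) : Set G))) (y : ↥(P : Subgroup G)) (w : U), (c : G) = y * w →
      (ψ : (Subgroup.centralizer ((P : Subgroup G) : Set G)) → ℂ) c = ω y * (ψ : (Subgroup.centralizer ((P : Subgroup G) : Set G)) → ℂ) (iU w) := by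
    intro c y w hc
    rw [← hψ, show c = ⟨y, hPC y.2⟩ * iU w from Subtype.ext hc, Representation.character,
      Representation.character, map_mul, hω, smul_mul_assoc, one_mul, map_smul, smul_eq_mul]
  have hres : IsIrrCharacter U fun w => (ψ : (Subgroup.centralizer ((P : Subgroup G) : Set G)) → ℂ) (iU w) := by
    rw [isIrrCharacter_iff]
    refine ⟨isCharacter_comap iU (isCharacter_of_isIrrCharacter ψ.2), ?_⟩
    have h1 := classInner_irr_self ψ.2
    rw [classInner, ← Fintype.sum_bijective (prodC hU) (prodC_bijective hP hU)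
      (fun z => (ψ : (Subgroup.centralizer ((P : Subgroup G) : Set G)) → ℂ) (prodC hU z) * conj ((ψ : (Subgroup.centralizer ((P : Subgroup G) : Set G)) → ℂ) (prodC hU z))) _ fun z => rfl,
      Fintype.sum_prod_type] at h1
    have h2 : ∀ (y : ↥(P : Subgroup G)) (w : U), (ψ : (Subgroup.centralizer ((P : Subgroup G) : Set G)) → ℂ) (prodC hU (y, w)) *
        conj ((ψ : (Subgroup.centralizer ((P : Subgroup G) : Set G)) → ℂ) (prodC hU (y, w))) = (ψ : (Subgroup.centralizer ((P : Subgroup G) : Set G)) → ℂ) (iU w) * conj ((ψ : (Subgroup.centralizer ((P : Subgroup G) : Set G)) → ℂ) (iU w)) := by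
      intro y w
      have hz : ω y * conj (ω y) = 1 := by
        rw [Complex.mul_conj, Complex.normSq_eq_norm_sq, hnorm]; simp
      rw [hval (prodC hU (y, w)) y w rfl, map_mul,
        mul_mul_mul_comm, hz, one_mul]
    rw [Finset.sum_congr rfl fun y _ => Finset.sum_congr rfl fun w _ => h2 y w, Finset.sum_const,
      Finset.card_univ, ← Nat.card_eq_fintype_card, hP, nsmul_eq_mul] at h1
    have hcard : (Nat.card (Subgroup.centralizer ((P : Subgroup G) : Set G)) : ℂ) = (p : ℂ) * (Nat.card U : ℂ) := by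
      rw [← Nat.cast_mul, ← Nat.card_congr (Equiv.ofBijective _ (prodC_bijective hP hU)), Nat.card_prod,
        hP]
    rw [hcard, mul_inv, mul_comm (p : ℂ)⁻¹, mul_assoc, inv_mul_cancel_left₀
      (Nat.cast_ne_zero.2 (Fact.out : p.Prime).ne_zero : (p : ℂ) ≠ 0)] at h1
    rw [classInner]
    exact h1
  have h11 := hval 1 1 1 (by simp)
  rw [map_one] at h11
  exact ⟨⟨_, hres⟩, ω, mul_right_cancel₀ (irr_one_ne_zero ψ) (h11.symm.trans (one_mul _).symm), hval⟩

/-- Characters of the centralizer with the same restriction to `U` lie in one block. -/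
theorem same_block (hM : IsPModular p M) (η : IrrCharacter U)
    (ψ : IrrCharacter ↥(Subgroup.centralizer ((P : Subgroup G) : Set G))) (ω : ↥(P : Subgroup G) → ℂ)
    (h : ∀ (c : ↥(Subgroup.centralizer ((P : Subgroup G) : Set G))) (y : ↥(P : Subgroup G)) (w : U), (c : G) = y * w →
      (ψ : _ → ℂ) c = ω y * (η : U → ℂ) w) :
    ψ ∈ blockOf M (ext hP hU η : _ → ℂ) := by
  have hreg : ∀ c : ↥(Subgroup.centralizer ((P : Subgroup G) : Set G)), ¬ p ∣ orderOf c →
      (ψ : _ → ℂ) c = ω 1 * (ext hP hU η : _ → ℂ) c := by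
    intro c hc
    have hcU : (c : G) ∈ U := (hU _).2 ⟨c.2, by rwa [Subgroup.orderOf_coe]⟩
    rw [h c 1 ⟨c, hcU⟩ (by simp), ext_apply hP hU η (y := 1) (w := ⟨c, hcU⟩) (by simp)]
  refine BlockTheoryNormal.sameBlock_of_regular hM fun g hg => ?_
  have h1 : ¬ p ∣ orderOf (1 : ↥(Subgroup.centralizer ((P : Subgroup G) : Set G))) := by
    rw [orderOf_one, Nat.dvd_one]; exact hM.1.ne_one
  rw [centralChar, centralChar, hreg g hg, hreg 1 h1]
  have hω : ω 1 ≠ 0 := fun h0 => irr_one_ne_zero ψ (by rw [hreg 1 h1, h0, zero_mul])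
  have hη := irr_one_ne_zero (ext hP hU η)
  convert ideal_zero hM using 1
  field_simp
  ring

/-- Outside the induced block the coefficient at `η` vanishes. -/
theorem cval_eq_zero (hM : IsPModular p M) (η : IrrCharacter U) {B : Set (IrrCharacter G)}
    (hind : IsInducedBlock M (Subgroup.centralizer ((P : Subgroup G) : Set G))
      (blockOf M (ext hP hU η : _ → ℂ)) B)
    {χ : IrrCharacter G} (hχ : χ ∉ B) {y : G} (hy : y ∈ (P : Subgroup G)) (hy1 : y ≠ 1) :
    cval η (χ : G → ℂ) y = 0 := by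
  set b := blockOf M (ext hP hU η : (Subgroup.centralizer ((P : Subgroup G) : Set G)) → ℂ) with hb
  haveI := isMulCommutative_of_card P hP
  set F : (Subgroup.centralizer ((P : Subgroup G) : Set G)) → ℂ := fun c => (χ : G → ℂ) c with hF
  have hFc : IsClassFunction (Subgroup.centralizer ((P : Subgroup G) : Set G)) F := fun a c => irr_classFun χ _ _
  have hyC : y ∈ (Subgroup.centralizer ((P : Subgroup G) : Set G)) := Subgroup.le_centralizer _ hy
  set iU : U →* (Subgroup.centralizer ((P : Subgroup G) : Set G)) := Subgroup.inclusion (fun w hw => ((hU w).1 hw).1)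
  have hg : ∀ w : U, ∑ ψ : IrrCharacter (Subgroup.centralizer ((P : Subgroup G) : Set G)),
      (if ψ ∈ b then classInner F (ψ : (Subgroup.centralizer ((P : Subgroup G) : Set G)) → ℂ) * (ψ : (Subgroup.centralizer ((P : Subgroup G) : Set G)) → ℂ) (⟨y, hyC⟩ * iU w) else 0) = 0 := by
    intro w
    rw [← sum_blockCoeff_mul b hFc]
    refine second_main_sum (Subgroup.centralizer ((P : Subgroup G) : Set G)) hM hind _ (fun z hz => ?_) χ hχ
    have hzy : z = y := pPart_unique hM.1 hz ⟨w, rfl, comm_of_mem hU hy w.2, pElem hy, ((hU w).1 w.2).2⟩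
    rw [hzy]
    exact (centralizer_singleton_eq P hP hy hy1).le
  have hexp : (fun w : U => (χ : G → ℂ) (y * (w : G))) =
      ∑ ψ : IrrCharacter (Subgroup.centralizer ((P : Subgroup G) : Set G)), classInner F (ψ : (Subgroup.centralizer ((P : Subgroup G) : Set G)) → ℂ) • fun w : U => (ψ : (Subgroup.centralizer ((P : Subgroup G) : Set G)) → ℂ) (⟨y, hyC⟩ * iU w) := by
    funext w
    have h := congrFun (eq_sum_classInner hFc) (⟨y, hyC⟩ * iU w)
    rw [Finset.sum_apply]
    simp only [Finset.sum_apply, Pi.smul_apply, smul_eq_mul] at h ⊢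
    exact h
  have hzero : ∀ ψ : IrrCharacter (Subgroup.centralizer ((P : Subgroup G) : Set G)), ψ ∉ b →
      classInner (fun w : U => (ψ : (Subgroup.centralizer ((P : Subgroup G) : Set G)) → ℂ) (⟨y, hyC⟩ * iU w)) (η : U → ℂ) = 0 := by
    intro ψ hψ
    obtain ⟨η', ω, -, hη'⟩ := irr_centralizer hP hU ψ
    have hne : (η' : U → ℂ) ≠ (η : U → ℂ) := fun e =>
      hψ (same_block hP hU hM η ψ ω fun c z w hc => e ▸ hη' c z w hc)
    rw [show (fun w : U => (ψ : (Subgroup.centralizer ((P : Subgroup G) : Set G)) → ℂ) (⟨y, hyC⟩ * iU w)) = ω ⟨y, hy⟩ • (η' : U → ℂ) from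
      funext fun w => hη' _ ⟨y, hy⟩ w rfl, classInner_smul_left, classInner_irr_ne η'.2 η.2 hne,
      mul_zero]
  rw [cval, hexp, classInner_sum_left]
  simp only [classInner_smul_left]
  rw [Finset.sum_congr rfl fun (ψ : IrrCharacter ↥(Subgroup.centralizer ((P : Subgroup G) : Set G))) _ => show classInner F (ψ : (Subgroup.centralizer ((P : Subgroup G) : Set G)) → ℂ) *
      classInner (fun w : U => (ψ : (Subgroup.centralizer ((P : Subgroup G) : Set G)) → ℂ) (⟨y, hyC⟩ * iU w)) (η : U → ℂ) =
    if ψ ∈ b then classInner F (ψ : (Subgroup.centralizer ((P : Subgroup G) : Set G)) → ℂ) *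
      classInner (fun w : U => (ψ : (Subgroup.centralizer ((P : Subgroup G) : Set G)) → ℂ) (⟨y, hyC⟩ * iU w)) (η : U → ℂ) else 0 by
    split_ifs with h
    · rfl
    · rw [hzero ψ h, mul_zero]]
  have h2 : classInner (∑ ψ : IrrCharacter (Subgroup.centralizer ((P : Subgroup G) : Set G)), if ψ ∈ b then classInner F (ψ : (Subgroup.centralizer ((P : Subgroup G) : Set G)) → ℂ) •
      (fun w : U => (ψ : (Subgroup.centralizer ((P : Subgroup G) : Set G)) → ℂ) (⟨y, hyC⟩ * iU w)) else 0) (η : U → ℂ) = 0 := by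
    rw [show (∑ ψ : IrrCharacter (Subgroup.centralizer ((P : Subgroup G) : Set G)), if ψ ∈ b then classInner F (ψ : (Subgroup.centralizer ((P : Subgroup G) : Set G)) → ℂ) •
        (fun w : U => (ψ : (Subgroup.centralizer ((P : Subgroup G) : Set G)) → ℂ) (⟨y, hyC⟩ * iU w)) else 0) = (0 : U → ℂ) from funext fun w => by
      rw [Finset.sum_apply, Pi.zero_apply]
      refine Eq.trans (Finset.sum_congr rfl fun ψ _ => ?_) (hg w)
      split_ifs <;> simp]
    simp [classInner]
  rw [classInner_sum_left] at h2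
  refine Eq.trans (Finset.sum_congr rfl fun ψ _ => ?_) h2
  split_ifs
  · rw [classInner_smul_left]
  · simp [classInner]

omit hP in
/-- Conjugation of `U` by the normalizer. -/
theorem conj_mem {n : G} (hn : n ∈ Subgroup.normalizer ((P : Subgroup G) : Set G)) {w : G}
    (hw : w ∈ U) : n * w * n⁻¹ ∈ U := by
  refine (hU _).2 ⟨?_, ?_⟩
  · have h := conj_mem_centralizer (P := P) ((hU w).1 hw).1 (inv_mem hn)
    rwa [inv_inv] at h
  · rw [show n * w * n⁻¹ = MulAut.conj n w from rfl, MulEquiv.orderOf_eq]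
    exact ((hU w).1 hw).2

/-- Conjugation of `U` by an element of the normalizer. -/
noncomputable def conjU (n : ↥(Subgroup.normalizer ((P : Subgroup G) : Set G))) : U →* U where
  toFun w := ⟨(n : G) * w * (n : G)⁻¹, conj_mem hU n.2 w.2⟩
  map_one' := Subtype.ext (by simp)
  map_mul' a b := Subtype.ext (by simp [mul_assoc])

omit hP in
theorem conjU_surjective (n : ↥(Subgroup.normalizer ((P : Subgroup G) : Set G))) :
    Function.Surjective (conjU hU n) := fun w =>
  ⟨conjU hU n⁻¹ w, Subtype.ext (by simp [conjU, mul_assoc])⟩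

/-- The conjugate of a character of `U`. -/
noncomputable def twist (η : IrrCharacter U) (n : ↥(Subgroup.normalizer ((P : Subgroup G) : Set G))) :
    IrrCharacter U :=
  ⟨fun w => (η : U → ℂ) (conjU hU n w), isIrrCharacter_comap _ (conjU_surjective hU n) η.2⟩

omit hP in
theorem twist_apply (η : IrrCharacter U) (n : ↥(Subgroup.normalizer ((P : Subgroup G) : Set G)))
    {w w' : U} (h : (w' : G) = n * w * (n : G)⁻¹) :
    (twist hU η n : U → ℂ) w = (η : U → ℂ) w' :=
  congrArg (η : U → ℂ) (Subtype.ext h.symm)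

omit hP in
theorem twist_twist (η : IrrCharacter U) (m n : ↥(Subgroup.normalizer ((P : Subgroup G) : Set G))) :
    twist hU (twist hU η m) n = twist hU η (m * n) :=
  Subtype.ext (funext fun w => congrArg (η : U → ℂ) (Subtype.ext (by simp [conjU, mul_assoc])))

omit hP in
theorem twist_one (η : IrrCharacter U) : twist hU η 1 = η :=
  Subtype.ext (funext fun w => congrArg (η : U → ℂ) (Subtype.ext (by simp [conjU])))

theorem twist_eq_self_of_mem (η : IrrCharacter U) {n : ↥(Subgroup.normalizer ((P : Subgroup G) : Set G))}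
    (hn : (n : G) ∈ Subgroup.centralizer ((P : Subgroup G) : Set G)) : twist hU η n = η := by
  refine Subtype.ext (funext fun w => ?_)
  obtain ⟨z, v, hzv⟩ : ∃ (z : ↥(P : Subgroup G)) (v : U), (n : G) = z * v :=
    ⟨_, _, (proj_mul hP hU ⟨n, hn⟩).symm⟩
  have e : conjU hU n w = v * w * v⁻¹ := Subtype.ext (by
    show (n : G) * w * (n : G)⁻¹ = v * w * (v : G)⁻¹
    have hc := comm_of_mem hU z.2 (v * w * v⁻¹ : U).2
    push_cast at hc
    calc (n : G) * w * (n : G)⁻¹ = (z : G) * (v * w * (v : G)⁻¹) * (z : G)⁻¹ := by rw [hzv]; group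
      _ = (v * w * (v : G)⁻¹) * z * (z : G)⁻¹ := by rw [hc.eq]
      _ = _ := by group)
  show (η : U → ℂ) (conjU hU n w) = _
  rw [e]
  exact irr_classFun η _ _

omit hP in
/-- Conjugation invariance of the coefficients. -/
theorem cval_conj (η : IrrCharacter U) (χ : IrrCharacter G)
    (n : ↥(Subgroup.normalizer ((P : Subgroup G) : Set G))) (y : G) :
    cval η (χ : G → ℂ) ((n : G) * y * (n : G)⁻¹) = cval (twist hU η n) (χ : G → ℂ) y := by
  rw [cval, cval, classInner, classInner]
  refine congrArg _ (Eq.symm (Fintype.sum_bijective (conjU hU n)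
    (Finite.surjective_iff_bijective.1 (conjU_surjective hU n)) _ _ fun w => ?_))
  show (χ : G → ℂ) (y * w) * conj ((η : U → ℂ) (conjU hU n w)) =
    (χ : G → ℂ) ((n : G) * y * (n : G)⁻¹ * ((n : G) * w * (n : G)⁻¹)) * _
  rw [show (n : G) * y * (n : G)⁻¹ * ((n : G) * w * (n : G)⁻¹) = (n : G) * (y * w) * (n : G)⁻¹ by group,
    irr_classFun χ]

set_option maxHeartbeats 1000000 in
/-- Column orthogonality at `η`. -/
theorem column (η : IrrCharacter U) {x y : G} (hx : x ∈ (P : Subgroup G)) (hx1 : x ≠ 1)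
    (hy : y ∈ (P : Subgroup G)) (hy1 : y ≠ 1) :
    ∑ χ : IrrCharacter G, cval η (χ : G → ℂ) x * conj (cval η (χ : G → ℂ) y) =
      if ∃ n : ↥(Subgroup.normalizer ((P : Subgroup G) : Set G)),
        (n : G) * x * (n : G)⁻¹ = y ∧ twist hU η n = η then (p : ℂ) else 0 := by
  haveI := isMulCommutative_of_card P hP
  set u : ℂ := (Nat.card U : ℂ) with hu
  have hu0 : u ≠ 0 := Nat.cast_ne_zero.2 Nat.card_pos.ne'
  have h1 : ∑ χ : IrrCharacter G, cval η (χ : G → ℂ) x * conj (cval η (χ : G → ℂ) y) =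
      u⁻¹ * u⁻¹ * ∑ a : U, ∑ b : U, conj ((η : U → ℂ) a) * (η : U → ℂ) b *
        (if IsConj (x * (a : G)) (y * (b : G)) then
          (Nat.card (Subgroup.centralizer ({x * (a : G)} : Set G)) : ℂ) else 0) := by
    simp only [← sum_irr_mul_conj, cval, classInner, map_mul, map_inv₀, map_natCast, map_sum,
      Complex.conj_conj, ← hu, show conj u = u by rw [hu, map_natCast], Finset.mul_sum, Finset.sum_mul]
    conv_rhs => rw [Finset.sum_comm]
    rw [Finset.sum_comm]
    refine Finset.sum_congr rfl fun a _ => ?_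
    rw [Finset.sum_comm]
    exact Finset.sum_congr rfl fun b _ => Finset.sum_congr rfl fun χ _ => by ring
  rw [h1]
  by_cases hn : ∃ n : ↥(Subgroup.normalizer ((P : Subgroup G) : Set G)), (n : G) * x * (n : G)⁻¹ = y
  swap
  · rw [if_neg fun ⟨n, h, _⟩ => hn ⟨n, h⟩, Finset.sum_eq_zero (fun a _ => Finset.sum_eq_zero
      fun b _ => ?_), mul_zero]
    rw [if_neg, mul_zero]
    intro hc
    obtain ⟨g, hg⟩ := isConj_iff.1 hc
    have hx' : IsPPart p (y * (b : G)) (g * x * g⁻¹) := by
      refine ⟨g * a * g⁻¹, ?_, ?_, ?_, ?_⟩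
      · rw [← hg]; group
      · exact (comm_of_mem hU hx a.2).map (MulAut.conj g).toMonoidHom
      · obtain ⟨j, hj⟩ := pElem hx
        exact ⟨j, hj ▸ orderOf_injective (MulAut.conj g).toMonoidHom (MulAut.conj g).injective x⟩
      · exact (orderOf_injective (MulAut.conj g).toMonoidHom (MulAut.conj g).injective (a : G)).symm ▸
          ((hU a).1 a.2).2
    have e := pPart_unique (Fact.out : p.Prime) hx'
      ⟨b, rfl, comm_of_mem hU hy b.2, pElem hy, ((hU b).1 b.2).2⟩
    obtain ⟨n, hnN, hnx⟩ := exists_normalizer_conj (isMulCommutative_of_card P hP) hx hy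
      (isConj_iff.2 ⟨g, e⟩)
    exact hn ⟨⟨n, hnN⟩, hnx⟩
  obtain ⟨n, hn⟩ := hn
  have hH : ∀ g, g ∈ (Subgroup.centralizer ((P : Subgroup G) : Set G)) ↔ Commute x g := commute_iff hP hU hx hx1
  have hrow : ∀ a : U, ∑ b : U, conj ((η : U → ℂ) a) * (η : U → ℂ) b *
        (if IsConj (x * (a : G)) (y * (b : G)) then
          (Nat.card (Subgroup.centralizer ({x * (a : G)} : Set G)) : ℂ) else 0) =
      (p : ℂ) * u * (conj ((η : U → ℂ) a) * (twist hU η n : U → ℂ) a) := by
    intro a
    set iU : U →* (Subgroup.centralizer ((P : Subgroup G) : Set G)) := Subgroup.inclusion (fun w hw => ((hU w).1 hw).1) with hiU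
    have hreg : ∀ b : U, ¬ p ∣ orderOf (iU b) := fun b => by
      rw [← Subgroup.orderOf_coe]; exact ((hU b).1 b.2).2
    rw [← Fintype.sum_bijective (conjU hU n)
      (Finite.surjective_iff_bijective.1 (conjU_surjective hU n)) _ _ fun b => rfl]
    have hiff : ∀ b : U, IsConj (x * (a : G)) (y * (conjU hU n b : G)) ↔ IsConj (iU a) (iU b) := by
      intro b
      rw [← BlockContribSection.isConj_section_iff hH (Fact.out : p.Prime) (pElem hx) (hreg a) (hreg b)]
      have e : y * (conjU hU n b : G) = (n : G) * (x * (b : G)) * (n : G)⁻¹ := by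
        show y * ((n : G) * b * (n : G)⁻¹) = _
        rw [← hn]; group
      rw [e]
      have e2 : IsConj ((n : G) * (x * (b : G)) * (n : G)⁻¹) (x * (b : G)) :=
        isConj_iff.2 ⟨(n : G)⁻¹, by group⟩
      exact ⟨fun h => h.trans e2, fun h => h.trans e2.symm⟩
    have hval : ∀ b : U, IsConj (iU a) (iU b) →
        (η : U → ℂ) (conjU hU n b) = (twist hU η n : U → ℂ) a := by
      intro b hb
      have hab : IsConj a b := by
        have h := (projU hP hU).map_isConj hb
        rwa [(proj_eq hP hU (y := 1) (w := a) (c := iU a) (by simp [hiU])).2,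
          (proj_eq hP hU (y := 1) (w := b) (c := iU b) (by simp [hiU])).2] at h
      exact CharBasic.apply_eq_of_isConj (irr_classFun (twist hU η n)) hab.symm
    simp only [hiff]
    have hcs := BlockContribSection.card_centralizer_section hH (Fact.out : p.Prime) (pElem hx) (hreg a)
    have hcoe : ((iU a : ↥(Subgroup.centralizer ((P : Subgroup G) : Set G))) : G) = (a : G) := rfl
    rw [hcoe] at hcs
    rw [hcs]
    rw [Finset.sum_congr rfl fun b _ => show conj ((η : U → ℂ) a) * (η : U → ℂ) (conjU hU n b) *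
        (if IsConj (iU a) (iU b) then (Nat.card (Subgroup.centralizer ({iU a} : Set (Subgroup.centralizer ((P : Subgroup G) : Set G)))) : ℂ) else 0) =
      if IsConj (iU a) (iU b) then conj ((η : U → ℂ) a) * (twist hU η n : U → ℂ) a *
        (Nat.card (Subgroup.centralizer ({iU a} : Set (Subgroup.centralizer ((P : Subgroup G) : Set G)))) : ℂ) else 0 by
      split_ifs with h
      · rw [hval b h]
      · rw [mul_zero],
      ← Finset.sum_filter, Finset.sum_const, nsmul_eq_mul]
    have hcount : ((Finset.univ.filter fun b : U => IsConj (iU a) (iU b)).card : ℂ) *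
        (Nat.card (Subgroup.centralizer ({iU a} : Set (Subgroup.centralizer ((P : Subgroup G) : Set G)))) : ℂ) = (p : ℂ) * u := by
      have hC' : Nat.card (Subgroup.centralizer ((P : Subgroup G) : Set G)) = p * Nat.card U := by
        rw [← Nat.card_congr (Equiv.ofBijective _ (prodC_bijective hP hU)), Nat.card_prod, hP]
      rw [hu, ← Nat.cast_mul, ← Nat.cast_mul, ← hC', ← card_conj_mul_card_centralizer (iU a)]
      congr 2
      rw [Nat.card_eq_fintype_card, Fintype.card_subtype]
      refine Finset.card_bij (fun b _ => iU b) (fun b hb => ?_)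
        (fun b _ b' _ h => Subgroup.inclusion_injective _ h) fun c hc => ?_
      · exact Finset.mem_filter.2 ⟨Finset.mem_univ _, (Finset.mem_filter.1 hb).2⟩
      · obtain ⟨z, hz⟩ := isConj_iff.1 (Finset.mem_filter.1 hc).2
        have hcU : (c : G) ∈ U := (hU _).2 ⟨c.2, by
          rw [Subgroup.orderOf_coe, ← hz,
            show z * iU a * z⁻¹ = MulAut.conj z (iU a) from rfl, MulEquiv.orderOf_eq]
          exact hreg a⟩
        exact ⟨⟨c, hcU⟩, Finset.mem_filter.2 ⟨Finset.mem_univ _, (Finset.mem_filter.1 hc).2⟩, rfl⟩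
    linear_combination (conj ((η : U → ℂ) a) * (twist hU η n : U → ℂ) a) * hcount
  rw [Finset.sum_congr rfl fun a _ => hrow a, ← Finset.mul_sum]
  have h2 : ∑ a : U, conj ((η : U → ℂ) a) * (twist hU η n : U → ℂ) a =
      u * classInner (twist hU η n : U → ℂ) (η : U → ℂ) := by
    rw [classInner, ← hu, mul_inv_cancel_left₀ hu0]
    exact Finset.sum_congr rfl fun a _ => mul_comm _ _
  rw [h2]
  by_cases hfix : twist hU η n = η
  · rw [if_pos ⟨n, hn, hfix⟩, hfix, classInner_irr_self η.2]
    field_simp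
  · rw [if_neg ?_, classInner_irr_ne (twist hU η n).2 η.2 (fun e => hfix (Subtype.ext e))]
    · simp
    rintro ⟨m, hm, hmfix⟩
    refine hfix ?_
    have hc : ((m⁻¹ * n : ↥(Subgroup.normalizer ((P : Subgroup G) : Set G))) : G) ∈ (Subgroup.centralizer ((P : Subgroup G) : Set G)) := by
      rw [hH, Subgroup.coe_mul, Subgroup.coe_inv]
      refine Eq.symm ?_
      have e : (m : G) * x * (m : G)⁻¹ = (n : G) * x * (n : G)⁻¹ := hm.trans hn.symm
      calc ((m : G)⁻¹ * n) * x = (m : G)⁻¹ * ((n : G) * x * (n : G)⁻¹) * n := by group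
        _ = (m : G)⁻¹ * ((m : G) * x * (m : G)⁻¹) * n := by rw [e]
        _ = x * ((m : G)⁻¹ * n) := by group
    rw [show n = m * (m⁻¹ * n) by rw [mul_inv_cancel_left], ← twist_twist hU, hmfix,
      twist_eq_self_of_mem hP hU η hc]

/-- Orthogonality to the regular elements. -/
theorem cval_regular (η : IrrCharacter U) {x : G} (hx : x ∈ (P : Subgroup G)) (hx1 : x ≠ 1) {g : G}
    (hg : ¬ p ∣ orderOf g) :
    ∑ χ : IrrCharacter G, cval η (χ : G → ℂ) x * (χ : G → ℂ) g = 0 := by
  simp only [cval, classInner, Finset.mul_sum, Finset.sum_mul]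
  rw [Finset.sum_comm]
  refine Finset.sum_eq_zero fun w _ => ?_
  have h := sum_irr_mul_conj g (x * (w : G))⁻¹
  rw [if_neg] at h
  · rw [Finset.sum_congr rfl fun (χ : IrrCharacter G) _ => show (Nat.card U : ℂ)⁻¹ * ((χ : G → ℂ) (x * w) * conj ((η : U → ℂ) w)) *
      (χ : G → ℂ) g = (Nat.card U : ℂ)⁻¹ * conj ((η : U → ℂ) w) *
        ((χ : G → ℂ) g * conj ((χ : G → ℂ) (x * (w : G))⁻¹)) by
      rw [irr_inv, Complex.conj_conj]; ring, ← Finset.mul_sum, h, mul_zero]
  · intro hc
    obtain ⟨z, hz⟩ := isConj_iff.1 hc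
    refine hg ?_
    have h1 : orderOf g = orderOf (x * (w : G)) := by
      rw [← orderOf_inv (x * (w : G)), ← hz, show z * g * z⁻¹ = MulAut.conj z g from rfl,
        MulEquiv.orderOf_eq]
    rw [h1, (comm_of_mem hU hx w.2).orderOf_mul_eq_mul_orderOf_of_coprime]
    · exact (singular hx hx1).mul_right _
    · obtain ⟨j, hj⟩ := pElem hx
      rw [hj]
      exact Nat.Coprime.pow_left j ((Fact.out : p.Prime).coprime_iff_not_dvd.2 ((hU w).1 w.2).2)

end Cfsg.Agent.BlockDefectOneLocal86
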