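import Mathlib
import Cfsg.Agent.Lib.CharBasicDecomp
import Cfsg.Agent.Lib.CharInducedClifford

/-!
The Gallagher correspondence.
-/

set_option autoImplicit false

open scoped ComplexConjugate

namespace Cfsg.Agent.CharGallagher

open Cfsg Cfsg.Agent.CharBasic Cfsg.Agent.CharBasicOrth Cfsg.Agent.CharBasicDecomp
  Cfsg.Agent.CharInduced

universe u

variable {G : Type u} [Group G] [Fintype G] (N : Subgroup G) [hN : N.Normal]

theorem inertia_eq_top {θ : N → ℂ}
    (hinv : ∀ (g : G) (n : N), θ ⟨g * n * g⁻¹, hN.conj_mem (n : G) n.2 g⟩ = θ n) :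
    inertia N θ = ⊤ :=
  Subgroup.ext fun g => iff_of_true ((mem_inertia_iff N).2 (hinv g)) trivial

/-- Gallagher: `β ↦ β * χ` is a bijection from the irreducible characters over `φ` to those
over `φ * θ`. -/
theorem bijOn [Fintype N] {φ θ : N → ℂ} (hφ : IsIrrCharacter N φ)
    (hφinv : ∀ (g : G) (n : N), φ ⟨g * n * g⁻¹, hN.conj_mem (n : G) n.2 g⟩ = φ n)
    (hθinv : ∀ (g : G) (n : N), θ ⟨g * n * g⁻¹, hN.conj_mem (n : G) n.2 g⟩ = θ n)
    (hprod : IsIrrCharacter N (φ * θ)) {χ : G → ℂ} (hχ : IsIrrCharacter G χ)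
    (hext : ∀ n : N, χ n = θ n) :
    Set.BijOn (fun β : G → ℂ => β * χ)
      {β : G → ℂ | IsIrrCharacter G β ∧ classInner (indFun N φ) β ≠ 0}
      {ψ : G → ℂ | IsIrrCharacter G ψ ∧ classInner (indFun N (φ * θ)) ψ ≠ 0} := by
  classical
  have hind : indFun N (φ * θ) = indFun N φ * χ := by
    rw [← ind_mul_res N φ (isClassFunction_irr hχ)]
    congr 1; funext n; simp [hext]
  obtain ⟨b, hb, hbsum⟩ := exists_mult (isCharacter_ind N (isCharacter_of_isIrrCharacter hφ))
  have hχc := isCharacter_of_isIrrCharacter hχ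
  have hprodc : ∀ β : IrrCharacter G, IsCharacter G ((β : G → ℂ) * χ) :=
    fun β => isCharacter_mul (isCharacter_of_isIrrCharacter β.2) hχc
  choose k hk using fun β β' : IrrCharacter G => classInner_isCharacter (hprodc β) (hprodc β')
  have hsum : indFun N (φ * θ) = ∑ β : IrrCharacter G, (b β : ℂ) • ((β : G → ℂ) * χ) := by
    rw [hind, hbsum, Finset.sum_mul]
    exact Finset.sum_congr rfl fun β _ => smul_mul_assoc _ _ _
  -- norms
  have hn1 : classInner (indFun N φ) (indFun N φ) = ((∑ β, b β * b β : ℕ) : ℂ) := by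
    rw [classInner_eq_sum (isClassFunction_ind N φ)]
    simp only [hb, map_natCast]
    push_cast; rfl
  have hn2 : classInner (indFun N (φ * θ)) (indFun N (φ * θ)) =
      ((∑ β, ∑ β', b β * b β' * k β β' : ℕ) : ℂ) := by
    rw [hsum, CharBasicOrth.classInner_sum_left]
    push_cast
    refine Finset.sum_congr rfl fun β _ => ?_
    rw [CharBasicOrth.classInner_smul_left, CharBasicOrth.classInner_sum_right, Finset.mul_sum]
    refine Finset.sum_congr rfl fun β' _ => ?_
    rw [CharBasicOrth.classInner_smul_right, hk, map_natCast]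
    ring
  have heq : ∑ β, ∑ β', b β * b β' * k β β' = ∑ β, b β * b β := by
    have e : classInner (indFun N (φ * θ)) (indFun N (φ * θ)) =
        classInner (indFun N φ) (indFun N φ) := by
      rw [classInner_ind_self N hprod, classInner_ind_self N hφ, inertia_eq_top N hφinv,
        inertia_eq_top N (θ := φ * θ) (fun g n => by simp only [Pi.mul_apply, hφinv, hθinv])]
    rw [hn1, hn2] at e
    exact_mod_cast e
  -- diagonal terms are positive
  have hkpos : ∀ β, 1 ≤ k β β := by
    intro β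
    rw [Nat.one_le_iff_ne_zero]
    intro h0
    have h := hk β β
    rw [h0, Nat.cast_zero] at h
    have := congrFun (CharBasicOrth.eq_zero_of_classInner_self h) 1
    exact mul_ne_zero (isIrrCharacter_apply_one_ne_zero β.2) (isIrrCharacter_apply_one_ne_zero hχ) this
  have hterm : ∀ β ∈ (Finset.univ : Finset (IrrCharacter G)),
      b β * b β ≤ ∑ β', b β * b β' * k β β' := fun β _ =>
    (Nat.le_mul_of_pos_right _ (hkpos β)).trans
      (Finset.single_le_sum (f := fun β' => b β * b β' * k β β') (fun _ _ => Nat.zero_le _)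
        (Finset.mem_univ β))
  have hrow := (Finset.sum_eq_sum_iff_of_le hterm).1 heq.symm
  have hdiag : ∀ β, b β ≠ 0 → k β β = 1 ∧ ∀ β', β' ≠ β → b β' ≠ 0 → k β β' = 0 := by
    intro β hβ
    have h1 := hrow β (Finset.mem_univ β)
    rw [← Finset.add_sum_erase _ _ (Finset.mem_univ β)] at h1
    have h2 : b β * b β ≤ b β * b β * k β β := Nat.le_mul_of_pos_right _ (hkpos β)
    have h3 : ∑ β' ∈ Finset.univ.erase β, b β * b β' * k β β' = 0 := by omega
    refine ⟨?_, fun β' hne hβ' => ?_⟩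
    · have h4 : b β * b β * k β β = b β * b β * 1 := by omega
      exact Nat.eq_of_mul_eq_mul_left (Nat.pos_of_ne_zero (mul_ne_zero hβ hβ)) h4
    · have := (Finset.sum_eq_zero_iff.1 h3) β' (Finset.mem_erase.2 ⟨hne, Finset.mem_univ _⟩)
      simpa [hβ, hβ'] using this
  have hirr : ∀ β, b β ≠ 0 → IsIrrCharacter G ((β : G → ℂ) * χ) := fun β hβ =>
    isIrrCharacter_iff.2 ⟨hprodc β, by rw [hk, (hdiag β hβ).1, Nat.cast_one]⟩
  have hmem : ∀ β : IrrCharacter G, classInner (indFun N φ) (β : G → ℂ) ≠ 0 ↔ b β ≠ 0 := by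
    intro β; rw [hb]; exact Nat.cast_ne_zero
  refine ⟨?_, ?_, ?_⟩
  · rintro β ⟨hβi, hβ0⟩
    have hb0 := (hmem ⟨β, hβi⟩).1 hβ0
    refine ⟨hirr ⟨β, hβi⟩ hb0, ?_⟩
    change classInner (indFun N (φ * θ)) (((⟨β, hβi⟩ : IrrCharacter G) : G → ℂ) * χ) ≠ 0
    rw [hsum, CharBasicOrth.classInner_sum_left,
      Finset.sum_eq_single (⟨β, hβi⟩ : IrrCharacter G)]
    · rw [CharBasicOrth.classInner_smul_left, hk, (hdiag _ hb0).1, Nat.cast_one, mul_one]
      exact Nat.cast_ne_zero.2 hb0
    · intro β' _ hne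
      by_cases hb' : b β' = 0
      · simp [CharBasicOrth.classInner_smul_left, hb']
      · rw [CharBasicOrth.classInner_smul_left, hk, (hdiag β' hb').2 _ hne.symm hb0, Nat.cast_zero,
          mul_zero]
    · intro h; exact absurd (Finset.mem_univ _) h
  · rintro β ⟨hβi, hβ0⟩ β' ⟨hβi', hβ0'⟩ hp
    by_contra hne
    have hb0 := (hmem ⟨β, hβi⟩).1 hβ0
    have hb0' := (hmem ⟨β', hβi'⟩).1 hβ0'
    have h1 := hk ⟨β, hβi⟩ ⟨β', hβi'⟩
    rw [(hdiag _ hb0).2 _ (fun e => hne (congrArg Subtype.val e).symm) hb0', Nat.cast_zero] at h1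
    change classInner (β * χ) (β' * χ) = 0 at h1
    rw [← (show β * χ = β' * χ from hp)] at h1
    have h2 := hk ⟨β, hβi⟩ ⟨β, hβi⟩
    rw [(hdiag _ hb0).1, Nat.cast_one] at h2
    change classInner (β * χ) (β * χ) = 1 at h2
    exact zero_ne_one (h1.symm.trans h2)
  · rintro ψ ⟨hψ, hψ0⟩
    rw [hsum, CharBasicOrth.classInner_sum_left] at hψ0
    obtain ⟨β, -, hne⟩ := Finset.exists_ne_zero_of_sum_ne_zero hψ0
    rw [CharBasicOrth.classInner_smul_left] at hne
    have hb0 : b β ≠ 0 := fun h => hne (by simp [h])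
    refine ⟨β, ⟨β.2, (hmem β).2 hb0⟩, ?_⟩
    by_contra h
    exact hne (by rw [classInner_irr_ne (hirr β hb0) hψ h, mul_zero])

/-- An irreducible character lying over the trivial character is trivial on `N`. -/
theorem mem_over_one_iff [Fintype N] {β : G → ℂ} (hβ : IsIrrCharacter G β) :
    classInner (indFun N (fun _ => 1)) β ≠ 0 ↔ ∀ n : N, β n = β 1 := by
  rw [inner_ind_left N _ (isClassFunction_irr hβ), ← CharInduced.inner_conj_symm, map_ne_zero]
  constructor
  · intro h n
    have hc := clifford N hβ (isIrrCharacter_one (G := N)) h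
    have horb : orbitFin N (fun _ : N => (1 : ℂ)) = {fun _ : N => (1 : ℂ)} := by
      rw [Finset.eq_singleton_iff_unique_mem]
      refine ⟨self_mem_orbitFin N _, fun φ hφ => ?_⟩
      obtain ⟨g, rfl⟩ := (mem_orbitFin N).1 hφ
      rfl
    rw [horb, Finset.sum_singleton] at hc
    have h1 := congrFun hc n
    have h2 := congrFun hc 1
    simp only [Pi.smul_apply, smul_eq_mul, mul_one, OneMemClass.coe_one] at h1 h2
    rw [h1, h2]
  · intro h
    have : classInner (fun n : N => β n) (fun _ => 1) = β 1 := by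
      rw [classInner, Finset.sum_congr rfl (g := fun _ => β 1) (fun n _ => by simp [h n]),
        Finset.sum_const, Finset.card_univ, nsmul_eq_mul, ← Nat.card_eq_fintype_card,
        ← mul_assoc, inv_mul_cancel₀ (Nat.cast_ne_zero.2 Nat.card_pos.ne'), one_mul]
    rw [this]
    exact isIrrCharacter_apply_one_ne_zero hβ

/-- The classical Gallagher correspondence. -/
theorem bijOn_one [Fintype N] {θ : N → ℂ} (hθ : IsIrrCharacter N θ) {χ : G → ℂ}
    (hχ : IsIrrCharacter G χ) (hext : ∀ n : N, χ n = θ n) :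
    Set.BijOn (fun β : G → ℂ => β * χ)
      {β : G → ℂ | IsIrrCharacter G β ∧ ∀ n : N, β n = β 1}
      {ψ : G → ℂ | IsIrrCharacter G ψ ∧ classInner (fun n : N => ψ n) θ ≠ 0} := by
  have hinv : ∀ (g : G) (n : N), θ ⟨g * n * g⁻¹, hN.conj_mem (n : G) n.2 g⟩ = θ n := fun g n => by
    rw [← hext, ← hext]; exact isClassFunction_irr hχ _ _
  have e1 : (fun _ : N => (1 : ℂ)) * θ = θ := funext fun n => one_mul _
  have h := bijOn N (φ := fun _ : N => (1 : ℂ)) (θ := θ) isIrrCharacter_one (fun _ _ => rfl) hinv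
    (by rwa [e1]) hχ hext
  rw [e1] at h
  have s1 : {β : G → ℂ | IsIrrCharacter G β ∧ classInner (indFun N (fun _ => (1 : ℂ))) β ≠ 0} =
      {β : G → ℂ | IsIrrCharacter G β ∧ ∀ n : N, β n = β 1} :=
    Set.ext fun β => and_congr_right fun hβ => mem_over_one_iff N hβ
  have s2 : {ψ : G → ℂ | IsIrrCharacter G ψ ∧ classInner (indFun N θ) ψ ≠ 0} =
      {ψ : G → ℂ | IsIrrCharacter G ψ ∧ classInner (fun n : N => ψ n) θ ≠ 0} :=
    Set.ext fun ψ => and_congr_right fun hψ => by
      rw [inner_ind_left N _ (isClassFunction_irr hψ), ← CharInduced.inner_conj_symm, map_ne_zero]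
  rw [s1, s2] at h
  exact h

end Cfsg.Agent.CharGallagher
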