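import Cfsg.Agent.S0886
import Cfsg.Agent.Lib.CharGallagher

/-!
Characters over an irreducible character of a normal subgroup with cyclic quotient.
-/

set_option autoImplicit false

open scoped ComplexConjugate

namespace Cfsg.Agent.BlockDefectOneOver86

open Cfsg Cfsg.Agent.CharBasic Cfsg.Agent.CharBasicOrth Cfsg.Agent.CharBasicDecomp
  Cfsg.Agent.CharInduced

attribute [local instance] Classical.propDecidable

universe u

variable {G : Type u} [Group G] [Fintype G] (N : Subgroup G) [N.Normal]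

omit [Fintype G] in
/-- A subgroup above a normal subgroup with cyclic quotient is normal. -/
theorem normal_of_ge (hcyc : IsCyclic (G ⧸ N)) {T : Subgroup G} (hNT : N ≤ T) : T.Normal := by
  refine ⟨fun t ht g => ?_⟩
  letI := hcyc.commGroup
  have h : (QuotientGroup.mk (g * t * g⁻¹) : G ⧸ N) = QuotientGroup.mk t := by
    rw [QuotientGroup.mk_mul, QuotientGroup.mk_mul, QuotientGroup.mk_inv,
      mul_comm (QuotientGroup.mk g : G ⧸ N), mul_inv_cancel_right]
  have h1 := hNT (QuotientGroup.eq.1 h.symm)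
  simpa [mul_assoc] using mul_mem ht h1

/-- There are at least `|inertia : N|` irreducible characters over `θ`. -/
theorem exists_over (hcyc : IsCyclic (G ⧸ N)) (θ : IrrCharacter N) (e : ℕ)
    (he : e * Nat.card N = Nat.card (inertia N (θ : N → ℂ))) :
    ∃ Φ : Fin e → IrrCharacter G, Function.Injective Φ ∧
      ∀ i, classInner (fun n : N => (Φ i : G → ℂ) n) (θ : N → ℂ) ≠ 0 := by
  set T := inertia N (θ : N → ℂ) with hT
  have hNT : N ≤ T := le_inertia N (isClassFunction_of_isCharacter (isCharacter_of_isIrrCharacter θ.2))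
  haveI hTn := normal_of_ge N hcyc hNT
  set NT := N.subgroupOf T with hNT'
  let θ' : NT → ℂ := fun x => (θ : N → ℂ) (Subgroup.subgroupOfEquivOfLe hNT x)
  have hθ' : IsIrrCharacter NT θ' :=
    isIrrCharacter_comap (Subgroup.subgroupOfEquivOfLe hNT).toMonoidHom
      (Subgroup.subgroupOfEquivOfLe hNT).surjective θ.2
  have hcycT : IsCyclic (T ⧸ NT) := by
    haveI := hcyc
    refine isCyclic_of_injective (QuotientGroup.map NT N T.subtype (fun x hx => hx)) ?_
    rw [injective_iff_map_eq_one]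
    intro x hx
    obtain ⟨t, rfl⟩ := QuotientGroup.mk_surjective x
    have hx' : (QuotientGroup.mk (t : G) : G ⧸ N) = 1 := hx
    replace hx := (QuotientGroup.eq_one_iff _).1 hx'
    exact (QuotientGroup.eq_one_iff t).2 hx
  have hinv : ∀ (g : T) (n : NT),
      θ' ⟨g * n * g⁻¹, Subgroup.Normal.conj_mem inferInstance (n : T) n.2 g⟩ = θ' n := fun g n =>
    (mem_inertia_iff N).1 g.2 (Subgroup.subgroupOfEquivOfLe hNT n)
  obtain ⟨χ, hχ, hext⟩ := Cfsg.Agent.S0886.result NT hcycT θ' hθ' hinv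
  have hbij := CharGallagher.bijOn_one (G := T) NT hθ' hχ hext
  letI : CommGroup (T ⧸ NT) := hcycT.commGroup
  have hcard : Nat.card ((T ⧸ NT) →* ℂˣ) = e := by
    rw [CommGroup.card_monoidHom_of_hasEnoughRootsOfUnity, ← Subgroup.index_eq_card]
    have h := NT.card_mul_index
    rw [Nat.card_congr (Subgroup.subgroupOfEquivOfLe hNT).toEquiv, ← he, mul_comm e] at h
    exact Nat.eq_of_mul_eq_mul_left Nat.card_pos h
  haveI : Finite ((T ⧸ NT) →* ℂˣ) := Nat.finite_of_card_ne_zero (by
    rw [hcard]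
    intro h0
    rw [h0, zero_mul] at he
    exact Nat.card_pos.ne he)
  let L : Fin e → ((T ⧸ NT) →* ℂˣ) := fun i => (Finite.equivFinOfCardEq hcard).symm i
  let β : Fin e → (T → ℂ) := fun i t => ((L i (QuotientGroup.mk t) : ℂˣ) : ℂ)
  have hβ : ∀ i, β i ∈ {β : T → ℂ | IsIrrCharacter T β ∧ ∀ n : NT, β n = β 1} := fun i => by
    refine ⟨isIrrCharacter_linear ((L i).comp (QuotientGroup.mk' NT)), fun n => ?_⟩
    show ((L i (QuotientGroup.mk (n : T)) : ℂˣ) : ℂ) = ((L i (QuotientGroup.mk (1 : T)) : ℂˣ) : ℂ)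
    rw [(QuotientGroup.eq_one_iff (n : T)).2 n.2, QuotientGroup.mk_one]
  have hψ : ∀ i, IsIrrCharacter T (β i * χ) ∧
      classInner (fun n : NT => (β i * χ) n) θ' ≠ 0 := fun i => hbij.mapsTo (hβ i)
  have hψinj : ∀ i j, β i * χ = β j * χ → i = j := fun i j h => by
    have h1 := hbij.injOn (hβ i) (hβ j) h
    refine (Finite.equivFinOfCardEq hcard).symm.injective (MonoidHom.ext fun q => ?_)
    obtain ⟨t, rfl⟩ := QuotientGroup.mk_surjective q
    exact Units.ext (congrFun h1 t)
  set ψ : Fin e → (T → ℂ) := fun i => β i * χ with hψdef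
  have hres : ∀ i, ∀ n : N, ψ i ⟨(n : G), hNT n.2⟩ = (θ : N → ℂ) n := by
    intro i n
    have hn : (⟨(n : G), hNT n.2⟩ : T) ∈ NT := n.2
    show β i _ * χ _ = _
    rw [show χ ⟨(n : G), hNT n.2⟩ = θ' ⟨_, hn⟩ from hext ⟨_, hn⟩,
      show β i ⟨(n : G), hNT n.2⟩ = 1 by
        show ((L i (QuotientGroup.mk _) : ℂˣ) : ℂ) = 1
        rw [(QuotientGroup.eq_one_iff _).2 hn, map_one, Units.val_one], one_mul]
    rfl
  have horb : ∀ i j, ψ j ∈ orbitFin T (ψ i) → i = j := by
    intro i j h
    obtain ⟨g, hg⟩ := (mem_orbitFin T).1 h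
    have hgT : g ∈ T := by
      refine (mem_inertia_iff N).2 fun n => ?_
      have h1 := congrFun hg ⟨(n : G), hNT n.2⟩
      rw [hres j n] at h1
      rw [← h1, ← hres i]
      rfl
    rw [conjFun_mem_eq T (isClassFunction_of_isCharacter (isCharacter_of_isIrrCharacter (hψ i).1)) hgT] at hg
    exact hψinj i j hg
  have hirr : ∀ i, IsIrrCharacter G (indFun T (ψ i)) := by
    intro i
    rw [isIrrCharacter_iff]
    refine ⟨isCharacter_ind T (isCharacter_of_isIrrCharacter (hψ i).1), ?_⟩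
    rw [classInner_ind_self T (hψ i).1]
    have hle : inertia T (ψ i) = T := le_antisymm (fun g hg => by
      refine (mem_inertia_iff N).2 fun n => ?_
      have h1 := (mem_inertia_iff T).1 hg ⟨(n : G), hNT n.2⟩
      rw [hres i n] at h1
      rw [← h1, ← hres i]) (le_inertia T (isClassFunction_of_isCharacter (isCharacter_of_isIrrCharacter (hψ i).1)))
    rw [hle, div_self (Nat.cast_ne_zero.2 Nat.card_pos.ne')]
  refine ⟨fun i => ⟨_, hirr i⟩, fun i j h => ?_, fun i => ?_⟩
  · by_contra hne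
    have h1 : classInner (indFun T (ψ i)) (indFun T (ψ j)) = 0 :=
      classInner_ind_ind_eq_zero T (hψ i).1 (hψ j).1 fun h' => hne (horb i j h')
    have hh : indFun T (ψ i) = indFun T (ψ j) := congrArg Subtype.val h
    rw [← hh, classInner_irr_self (hirr i)] at h1
    exact one_ne_zero h1
  · show classInner (fun n : N => indFun T (ψ i) n) (θ : N → ℂ) ≠ 0
    rw [show (fun n : N => indFun T (ψ i) n) =
        (Nat.card T : ℂ)⁻¹ • ∑ x : G, conjFun N (θ : N → ℂ) x from funext fun n => by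
      have h1 := congrFun (res_ind_normal T (ψ i)) ⟨(n : G), hNT n.2⟩
      rw [Pi.smul_apply, Finset.sum_apply] at h1 ⊢
      rw [h1]
      refine congrArg _ (Finset.sum_congr rfl fun x _ => ?_)
      exact hres i ⟨x * n * x⁻¹, Subgroup.Normal.conj_mem inferInstance (n : G) n.2 x⟩,
      classInner_smul_left, classInner_sum_left,
      Finset.sum_congr rfl fun x _ => classInner_irr _ _ (isIrrCharacter_conjFun N θ.2 x) θ.2,
      Finset.sum_boole]
    refine mul_ne_zero (inv_ne_zero (Nat.cast_ne_zero.2 Nat.card_pos.ne')) (Nat.cast_ne_zero.2 ?_)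
    exact (Finset.card_pos.2 ⟨(1 : G), Finset.mem_filter.2 ⟨Finset.mem_univ _, conjFun_one N _⟩⟩).ne'

end Cfsg.Agent.BlockDefectOneOver86
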