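import Cfsg.Agent.Lib.BlockPrimeSimple86

/-!
Irreducible modular representations of `G` and simple modules of `N(P) / P` inside the `P`-fixed
vectors modulo traces, for a Sylow subgroup `P` of prime order.
-/

set_option autoImplicit false

namespace Cfsg.Agent.BlockDefectOneSimple86

open Cfsg Cfsg.Agent.BlockAbelianSylow86 Cfsg.Agent.BlockPrime86

attribute [local instance] Classical.propDecidable

universe u

variable {k : Type} [Field k] {G : Type u} [Group G] [Fintype G] {p : ℕ} [Fact p.Prime]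
  (P : Sylow p G) [Fintype ↥(P : Subgroup G)]

section Defs

variable {V W : Type*} [AddCommGroup V] [Module k V] [AddCommGroup W] [Module k W]

/-- An intertwiner of the normalizer whose image is not made of traces. -/
def IsBadHom (ρ : G →* Module.End k V)
    (σ : ↥(Subgroup.normalizer ((P : Subgroup G) : Set G)) →* Module.End k W) (f : W →ₗ[k] V) : Prop :=
  (∀ (n : ↥(Subgroup.normalizer ((P : Subgroup G) : Set G))) (w : W), ρ (n : G) (f w) = f (σ n w)) ∧
    ¬ LinearMap.range f ≤ LinearMap.range (traceOp P ρ)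

end Defs

variable {P} (hP : Nat.card (P : Subgroup G) = p) [CharP k p]
variable {W : Type u} [AddCommGroup W] [Module k W]
  (σ : ↥(Subgroup.normalizer ((P : Subgroup G) : Set G)) →* Module.End k W)
  (hσ : ∀ n ∈ PN P, σ n = 1)

section Avg

variable {V : Type*} [AddCommGroup V] [Module k V] (ρ : G →* Module.End k V)
  [Fintype (↥(Subgroup.normalizer ((P : Subgroup G) : Set G)) ⧸ PN P)]

/-- The average of a map from the module of `N(P) / P`. -/
noncomputable def avgHom (φ : W →ₗ[k] V) : W →ₗ[k] V :=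
  ∑ q : ↥(Subgroup.normalizer ((P : Subgroup G) : Set G)) ⧸ PN P,
    (ρ (q.out : G)).comp (φ.comp (σ q.out⁻¹))

/-- The average of a map to the module of `N(P) / P`. -/
noncomputable def avgInto (g : V →ₗ[k] W) : V →ₗ[k] W :=
  ∑ q : ↥(Subgroup.normalizer ((P : Subgroup G) : Set G)) ⧸ PN P,
    (σ q.out).comp (g.comp (ρ ((q.out : G)⁻¹)))

include hσ in
omit [Fintype G] [Fact (Nat.Prime p)] [Fintype ↥(P : Subgroup G)] [CharP k p]
  [Fintype (↥(Subgroup.normalizer ((P : Subgroup G) : Set G)) ⧸ PN P)] in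
theorem sigma_eq {a b : ↥(Subgroup.normalizer ((P : Subgroup G) : Set G))} (h : a⁻¹ * b ∈ PN P) :
    σ a = σ b := by
  rw [show b = a * (a⁻¹ * b) by rw [mul_inv_cancel_left], map_mul, hσ _ h, mul_one]

omit [Fact (Nat.Prime p)] [Fintype ↥(P : Subgroup G)] [CharP k p]
  [Fintype (↥(Subgroup.normalizer ((P : Subgroup G) : Set G)) ⧸ PN P)] in
theorem rho_eq {z : V} (hz : ∀ x ∈ (P : Subgroup G), ρ x z = z)
    {a b : ↥(Subgroup.normalizer ((P : Subgroup G) : Set G))} (h : a⁻¹ * b ∈ PN P) :
    ρ (a : G) z = ρ (b : G) z := by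
  rw [Subgroup.mem_subgroupOf] at h
  conv_rhs => rw [show (b : G) = (a : G) * ((a⁻¹ * b : ↥(Subgroup.normalizer _)) : G) by simp,
    map_mul, Module.End.mul_apply, hz _ h]

include hσ in
omit [Fact (Nat.Prime p)] [Fintype ↥(P : Subgroup G)] [CharP k p] in
theorem avgHom_equivariant {φ : W →ₗ[k] V} (hφ : ∀ w, ∀ x ∈ (P : Subgroup G), ρ x (φ w) = φ w)
    (n : ↥(Subgroup.normalizer ((P : Subgroup G) : Set G))) (w : W) :
    ρ (n : G) (avgHom σ ρ φ w) = avgHom σ ρ φ (σ n w) := by
  simp only [avgHom, LinearMap.sum_apply, LinearMap.comp_apply, map_sum]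
  refine Fintype.sum_equiv (Equiv.mulLeft (n : _ ⧸ PN P)) _ _ fun q => ?_
  have hab : (n * q.out)⁻¹ * ((n : _ ⧸ PN P) * q).out ∈ PN P := by
    rw [← QuotientGroup.eq, QuotientGroup.mk_mul, QuotientGroup.out_eq', QuotientGroup.out_eq']
  have h1 : σ ((n * q.out)⁻¹) = σ (((n : _ ⧸ PN P) * q).out⁻¹) := by
    refine sigma_eq σ hσ ?_
    rw [inv_inv]
    have h2 : ((n : _ ⧸ PN P) * q).out * (n * q.out)⁻¹ ∈ PN P :=
      (PN_normal (P := P)).mem_comm hab
    have h3 := inv_mem h2
    rwa [mul_inv_rev, inv_inv] at h3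
  rw [Equiv.coe_mulLeft, ← Module.End.mul_apply (ρ (n : G)), ← map_mul, ← h1,
    show (n : G) * (q.out : G) = ((n * q.out : ↥(Subgroup.normalizer ((P : Subgroup G) : Set G))) : G) from rfl,
    rho_eq ρ (hφ _) hab, ← Module.End.mul_apply, ← map_mul]
  congr 3
  rw [mul_inv_rev, inv_mul_cancel_right]

omit [Fact (Nat.Prime p)] [Fintype ↥(P : Subgroup G)] [CharP k p] in
theorem avgHom_fixed {φ : W →ₗ[k] V}
    (h : ∀ (n : ↥(Subgroup.normalizer ((P : Subgroup G) : Set G))) w, ρ (n : G) (φ w) = φ (σ n w)) (w : W) :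
    avgHom σ ρ φ w =
      (Nat.card (↥(Subgroup.normalizer ((P : Subgroup G) : Set G)) ⧸ PN P) : k) • φ w := by
  simp only [avgHom, LinearMap.sum_apply, LinearMap.comp_apply, h, ← Module.End.mul_apply, ← map_mul,
    mul_inv_cancel, map_one, Module.End.one_apply, Finset.sum_const, Finset.card_univ,
    Nat.card_eq_fintype_card]
  exact (Nat.cast_smul_eq_nsmul k _ _).symm

theorem avgHom_trace (φ : W →ₗ[k] V) (w : W) :
    avgHom σ ρ ((traceOp P ρ).comp φ) w = traceOp P ρ (avgHom σ ρ φ w) := by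
  simp only [avgHom, LinearMap.sum_apply, LinearMap.comp_apply, map_sum]
  exact Finset.sum_congr rfl fun q _ => traceOp_comm ρ q.out _

include hσ in
omit [Fact (Nat.Prime p)] [Fintype ↥(P : Subgroup G)] [CharP k p] in
theorem avgInto_equivariant (g : V →ₗ[k] W) {z : V} (hz : ∀ x ∈ (P : Subgroup G), ρ x z = z)
    (n : ↥(Subgroup.normalizer ((P : Subgroup G) : Set G))) :
    avgInto σ ρ g (ρ (n : G) z) = σ n (avgInto σ ρ g z) := by
  simp only [avgInto, LinearMap.sum_apply, LinearMap.comp_apply, map_sum]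
  symm
  refine Fintype.sum_equiv (Equiv.mulLeft (n : _ ⧸ PN P)) _ _ fun q => ?_
  have hab : (n * q.out)⁻¹ * ((n : _ ⧸ PN P) * q).out ∈ PN P := by
    rw [← QuotientGroup.eq, QuotientGroup.mk_mul, QuotientGroup.out_eq', QuotientGroup.out_eq']
  have h2 : (((n : _ ⧸ PN P) * q).out⁻¹ * n)⁻¹ * q.out⁻¹ ∈ PN P := by
    have h3 : (n * q.out) * ((n : _ ⧸ PN P) * q).out⁻¹ ∈ PN P := by
      have h4 := inv_mem ((PN_normal (P := P)).mem_comm hab)
      rwa [mul_inv_rev, inv_inv] at h4
    have e : (((n : _ ⧸ PN P) * q).out⁻¹ * n)⁻¹ * q.out⁻¹ =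
        n⁻¹ * (((n * q.out) * ((n : _ ⧸ PN P) * q).out⁻¹)⁻¹) * n := by group
    rw [e]
    have h5 := (PN_normal (P := P)).conj_mem _ (inv_mem h3) n⁻¹
    rwa [inv_inv] at h5
  rw [Equiv.coe_mulLeft, ← Module.End.mul_apply, ← map_mul, sigma_eq σ hσ hab,
    ← Module.End.mul_apply (ρ (((n : _ ⧸ PN P) * q).out : G)⁻¹), ← map_mul]
  congr 2
  rw [show ((((n : _ ⧸ PN P) * q).out : G)⁻¹ * (n : G)) =
      (((((n : _ ⧸ PN P) * q).out⁻¹ * n : ↥(Subgroup.normalizer ((P : Subgroup G) : Set G)))) : G) from rfl,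
    rho_eq ρ hz h2]
  rfl

end Avg

include hP hσ in
/-- Some irreducible representation contains the module outside the traces. -/
theorem exists_bad_irred [Nontrivial W] [FiniteDimensional k W] :
    ∃ (V : Type u) (_ : AddCommGroup V) (_ : Module k V) (_ : FiniteDimensional k V)
      (ρ : G →* Module.End k V), Irred ρ ∧ ∃ f : W →ₗ[k] V, IsBadHom P ρ σ f := by
  by_contra hno
  haveI : Fintype (↥(Subgroup.normalizer ((P : Subgroup G) : Set G)) ⧸ PN P) := Fintype.ofFinite _
  have key : ∀ (d : ℕ) (V : Type u) [AddCommGroup V] [Module k V] [FiniteDimensional k V]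
      (ρ : G →* Module.End k V), Module.finrank k V = d → ∀ f : W →ₗ[k] V, ¬ IsBadHom P ρ σ f := by
    intro d
    induction d using Nat.strong_induction_on with
    | _ d IH =>
      intro V _ _ _ ρ hd f hf
      by_cases hirr : Irred ρ
      · exact hno ⟨V, _, _, inferInstance, ρ, hirr, f, hf⟩
      obtain ⟨v, hv0⟩ : ∃ v : V, v ≠ 0 := by
        by_contra h
        push Not at h
        exact hf.2 fun x _ => by rw [h x]; exact Submodule.zero_mem _
      obtain ⟨U, hU, hU0, hU1⟩ : ∃ U : Submodule k V, (∀ g, ∀ x ∈ U, ρ g x ∈ U) ∧ U ≠ ⊥ ∧ U ≠ ⊤ := by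
        by_contra h
        push Not at h
        exact hirr ⟨⟨v, 0, hv0⟩, fun U hU => or_iff_not_imp_left.2 (h U hU)⟩
      let ρU : G →* Module.End k U :=
        { toFun := fun g => (ρ g).restrict (hU g)
          map_one' := LinearMap.ext fun x => Subtype.ext (by simp)
          map_mul' := fun a b => LinearMap.ext fun x => Subtype.ext (by simp) }
      let ρQ : G →* Module.End k (V ⧸ U) :=
        { toFun := fun g => U.mapQ U (ρ g) (hU g)
          map_one' := Submodule.linearMap_qext _ (LinearMap.ext fun x => by simp)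
          map_mul' := fun a b => Submodule.linearMap_qext _ (LinearMap.ext fun x => by simp) }
      have hdimU : Module.finrank k U < d := hd ▸ Submodule.finrank_lt hU1
      have hdimQ : Module.finrank k (V ⧸ U) < d := by
        have h1 := U.finrank_quotient_add_finrank
        have h2 : 0 < Module.finrank k U := Nat.pos_of_ne_zero fun h => hU0 (Submodule.finrank_eq_zero.1 h)
        omega
      have hTQ : ∀ w, traceOp P ρQ (Submodule.Quotient.mk w) = Submodule.Quotient.mk (traceOp P ρ w) := by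
        intro w
        simp only [traceOp, LinearMap.sum_apply]
        rw [← Submodule.mkQ_apply, ← Submodule.mkQ_apply, map_sum]
        rfl
      have h1 := IH _ hdimQ (V ⧸ U) ρQ rfl (U.mkQ.comp f)
      simp only [IsBadHom, not_and, not_not] at h1
      have h1' := h1 fun n w => by
        show Submodule.Quotient.mk (ρ (n : G) (f w)) = _
        rw [hf.1 n w]
        rfl
      set Tq := U.mkQ.comp (traceOp P ρ) with hTq
      have hle : ∀ w, Submodule.Quotient.mk (f w) ∈ LinearMap.range Tq := fun w => by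
        obtain ⟨y, hy⟩ := h1' ⟨w, rfl⟩
        obtain ⟨y, rfl⟩ := Submodule.Quotient.mk_surjective U y
        refine ⟨y, ?_⟩
        show Submodule.Quotient.mk (traceOp P ρ y) = _
        rw [← hTQ, hy]
        rfl
      obtain ⟨s, hs⟩ := LinearMap.exists_rightInverse_of_surjective Tq.rangeRestrict
        (LinearMap.range_rangeRestrict Tq)
      set h : W →ₗ[k] V := s.comp ((U.mkQ.comp f).codRestrict (LinearMap.range Tq) hle) with hh
      have hhs : ∀ w, traceOp P ρ (h w) - f w ∈ U := by
        intro w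
        rw [← Submodule.Quotient.eq]
        have := LinearMap.congr_fun hs ((U.mkQ.comp f).codRestrict (LinearMap.range Tq) hle w)
        exact congrArg Subtype.val this
      have hfix : ∀ w, ∀ x ∈ (P : Subgroup G), ρ x (f w) = f w := by
        intro w x hx
        have h2 := hf.1 ⟨x, Subgroup.le_normalizer hx⟩ w
        rw [hσ _ (show (⟨x, Subgroup.le_normalizer hx⟩ : ↥(Subgroup.normalizer _)) ∈ PN P from hx),
          Module.End.one_apply] at h2
        exact h2
      have hTf : ∀ w, ∀ x ∈ (P : Subgroup G), ρ x (traceOp P ρ w) = traceOp P ρ w := by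
        intro w x hx
        simp only [traceOp, LinearMap.sum_apply, map_sum, ← Module.End.mul_apply, ← map_mul]
        exact Fintype.sum_equiv (Equiv.mulLeft (⟨x, hx⟩ : ↥(P : Subgroup G))) _ _ fun y => rfl
      set z := avgHom σ ρ ((traceOp P ρ).comp h - f) with hz
      have hzU : ∀ w, z w ∈ U := fun w => by
        simp only [hz, avgHom, LinearMap.sum_apply, LinearMap.comp_apply, LinearMap.sub_apply]
        exact U.sum_mem fun q _ => hU _ _ (hhs _)
      have hzeq := avgHom_equivariant σ hσ ρ (φ := (traceOp P ρ).comp h - f) (fun w x hx => by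
        rw [LinearMap.sub_apply, LinearMap.comp_apply, map_sub, hTf _ x hx, hfix w x hx])
      have h2 := IH _ hdimU U ρU rfl (z.codRestrict U hzU)
      simp only [IsBadHom, not_and, not_not] at h2
      have h2' := h2 fun n w => Subtype.ext (hzeq n w)
      have hc := card_ne_zero (P := P) (k := k)
      set c : k := (Nat.card (↥(Subgroup.normalizer ((P : Subgroup G) : Set G)) ⧸ PN P) : k) with hcdef
      refine hf.2 ?_
      rintro _ ⟨w, rfl⟩
      obtain ⟨y, hy⟩ := h2' ⟨w, rfl⟩
      have hy' : traceOp P ρ (y : V) = z w := by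
        have h3 := congrArg Subtype.val hy
        simp only [traceOp, LinearMap.sum_apply, AddSubmonoidClass.coe_finset_sum] at h3 ⊢
        exact h3
      refine ⟨c⁻¹ • (avgHom σ ρ h w - (y : V)), ?_⟩
      have hA : z w = traceOp P ρ (avgHom σ ρ h w) - c • f w := by
        rw [← avgHom_trace, hcdef, ← avgHom_fixed σ ρ hf.1 w, hz]
        simp only [avgHom, LinearMap.sum_apply, LinearMap.comp_apply, LinearMap.sub_apply, map_sub,
          Finset.sum_sub_distrib]
      rw [map_smul, map_sub, hy', hA, sub_sub_cancel, smul_smul, inv_mul_cancel₀ hc, one_smul]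
  let N0 := Subgroup.normalizer ((P : Subgroup G) : Set G)
  let Mi : Submodule k (G → W) :=
    { carrier := {φ | ∀ (n : ↥(Subgroup.normalizer ((P : Subgroup G) : Set G))) (g : G),
        φ ((n : G) * g) = σ n (φ g)}
      add_mem' := fun {a b} ha hb n g => by
        show a _ + b _ = σ n (a g + b g)
        rw [ha n g, hb n g, map_add]
      zero_mem' := fun n g => by show (0 : W) = σ n 0; rw [map_zero]
      smul_mem' := fun a φ hφ n g => by
        show a • φ _ = σ n (a • φ g)
        rw [hφ n g, map_smul] }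
  let ρ₀ : G →* Module.End k Mi :=
    { toFun := fun h =>
        { toFun := fun φ => ⟨fun g => (φ : G → W) (g * h), fun n g => by
            show (φ : G → W) ((n : G) * g * h) = _
            rw [mul_assoc]; exact φ.2 n (g * h)⟩
          map_add' := fun a b => rfl
          map_smul' := fun a b => rfl }
      map_one' := LinearMap.ext fun φ => Subtype.ext (funext fun g => congrArg (φ : G → W) (mul_one g))
      map_mul' := fun a b => LinearMap.ext fun φ =>
        Subtype.ext (funext fun g => congrArg (φ : G → W) (mul_assoc g a b).symm) }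
  have hmem : ∀ w : W, (fun g : G => if h : g ∈ Subgroup.normalizer ((P : Subgroup G) : Set G) then σ ⟨g, h⟩ w else 0) ∈ Mi := by
    intro w n g
    beta_reduce
    by_cases hg : g ∈ Subgroup.normalizer ((P : Subgroup G) : Set G)
    · rw [dif_pos hg, dif_pos (mul_mem n.2 hg), ← Module.End.mul_apply, ← map_mul]
      rfl
    · rw [dif_neg hg, dif_neg fun h => hg ((Subgroup.mul_mem_cancel_left _ n.2).1 h), map_zero]
  let f₀ : W →ₗ[k] Mi :=
    { toFun := fun w => ⟨_, hmem w⟩
      map_add' := fun a b => Subtype.ext (funext fun g => by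
        simp only [Submodule.coe_add, Pi.add_apply]
        split_ifs <;> simp)
      map_smul' := fun a b => Subtype.ext (funext fun g => by
        simp only [Submodule.coe_smul, RingHom.id_apply, Pi.smul_apply]
        split_ifs <;> simp) }
  refine key _ Mi ρ₀ rfl f₀ ⟨fun n w => Subtype.ext (funext fun g => ?_), ?_⟩
  · show (if h : g * (n : G) ∈ Subgroup.normalizer ((P : Subgroup G) : Set G) then σ ⟨_, h⟩ w else 0) =
      (if h : g ∈ Subgroup.normalizer ((P : Subgroup G) : Set G) then σ ⟨g, h⟩ (σ n w) else 0)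
    by_cases hg : g ∈ Subgroup.normalizer ((P : Subgroup G) : Set G)
    · rw [dif_pos hg, dif_pos (mul_mem hg n.2), ← Module.End.mul_apply, ← map_mul]
      rfl
    · rw [dif_neg hg, dif_neg fun h => hg ((Subgroup.mul_mem_cancel_right _ n.2).1 h)]
  · intro hle
    obtain ⟨w, hw⟩ := exists_ne (0 : W)
    obtain ⟨φ, hφ⟩ := hle ⟨w, rfl⟩
    have h := congrArg (fun φ : Mi => (φ : G → W) 1) hφ
    simp only [traceOp, LinearMap.sum_apply, AddSubmonoidClass.coe_finset_sum, Finset.sum_apply] at h
    rw [Finset.sum_congr rfl fun (x : ↥(P : Subgroup G)) _ => show ((ρ₀ (x : G) φ : Mi) : G → W) 1 = (φ : G → W) 1 by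
      show (φ : G → W) (1 * (x : G)) = _
      rw [one_mul]
      have h' := φ.2 ⟨(x : G), Subgroup.le_normalizer x.2⟩ 1
      rwa [hσ _ (show (⟨(x : G), Subgroup.le_normalizer x.2⟩ : ↥(Subgroup.normalizer _)) ∈ PN P from x.2),
        mul_one, Module.End.one_apply] at h',
      Finset.sum_const, Finset.card_univ, ← Nat.card_eq_fintype_card, hP, ← Nat.cast_smul_eq_nsmul k,
      CharP.cast_eq_zero, zero_smul] at h
    change (0 : W) = if h : (1 : G) ∈ Subgroup.normalizer ((P : Subgroup G) : Set G) then σ ⟨1, h⟩ w else 0 at h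
    rw [dif_pos (one_mem _)] at h
    exact hw (h.trans (by
      rw [show (⟨1, one_mem _⟩ : ↥(Subgroup.normalizer ((P : Subgroup G) : Set G))) = 1 from rfl,
        map_one, Module.End.one_apply])).symm

variable [IsAlgClosed k] {V : Type*} [AddCommGroup V] [Module k V] [FiniteDimensional k V]
  {ρ : G →* Module.End k V} (hirr : Irred ρ)

include hP hσ hirr in
/-- In an irreducible representation the image of a bad simple module fills the fixed vectors
modulo traces, through an equivariant map. -/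
theorem bad_spans [FiniteDimensional k W] (hW : Irred σ) {f : W →ₗ[k] V} (hf : IsBadHom P ρ σ f) :
    ∃ (g : V →ₗ[k] W) (a : k),
      (∀ (n : ↥(Subgroup.normalizer ((P : Subgroup G) : Set G))) z,
        (∀ x ∈ (P : Subgroup G), ρ x z = z) → g (ρ (n : G) z) = σ n (g z)) ∧
      ∀ z, (∀ x ∈ (P : Subgroup G), ρ x z = z) → z - a • f (g z) ∈ LinearMap.range (traceOp P ρ) := by
  haveI : Fintype (↥(Subgroup.normalizer ((P : Subgroup G) : Set G)) ⧸ PN P) := Fintype.ofFinite _
  haveI : Fintype (G ⧸ (P : Subgroup G)) := Fintype.ofFinite _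
  haveI := hW.1
  obtain ⟨s, hs, hs1, hgen⟩ := exists_generator_P hP
  set X : Module.End k V := ρ s - 1 with hX
  have hff : ∀ w, ∀ x ∈ (P : Subgroup G), ρ x (f w) = f w := by
    intro w x hx
    have h2 := hf.1 ⟨x, Subgroup.le_normalizer hx⟩ w
    rw [hσ _ (show (⟨x, Subgroup.le_normalizer hx⟩ : ↥(Subgroup.normalizer _)) ∈ PN P from hx),
      Module.End.one_apply] at h2
    exact h2
  have hXfix : ∀ z, (∀ x ∈ (P : Subgroup G), ρ x z = z) → X z = 0 := fun z hz => by
    rw [hX, LinearMap.sub_apply, Module.End.one_apply, hz s hs, sub_self]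
  have hXp : X ^ p = 0 := by
    have hsp : s ^ p = 1 := by
      have h := congrArg Subtype.val (pow_card_eq_one' (x := (⟨s, hs⟩ : ↥(P : Subgroup G))))
      rw [hP] at h
      exact h
    have e : X ^ p = Polynomial.aeval (ρ s) ((Polynomial.X - 1 : Polynomial k) ^ p) := by simp [hX]
    rw [e, sub_pow_char, one_pow]
    simp [← map_pow ρ, hsp]
  have hstab : ∀ (j : ℕ) (n : ↥(Subgroup.normalizer ((P : Subgroup G) : Set G))),
      ∀ y ∈ LinearMap.range (X ^ j), ρ (n : G) y ∈ LinearMap.range (X ^ j) := by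
    intro j n
    obtain ⟨i, hi⟩ := hgen _ (conjP P n ⟨s, hs⟩).2
    rw [conjP_coe] at hi
    set S : Module.End k V := ∑ l ∈ Finset.range i, ρ s ^ l with hS
    have hcomm : ∀ j, Commute (X ^ j) S := fun j => by
      refine (Commute.sum_right _ _ _ fun l _ => ?_).pow_left j
      exact ((Commute.refl (ρ s)).pow_right l).sub_left (Commute.one_left _)
    have h1 : ∀ y, ρ (n : G) (X y) = X (S (ρ (n : G) y)) := by
      intro y
      rw [← Module.End.mul_apply X S, hX, hS, mul_geom_sum, ← map_pow, ← hi, LinearMap.sub_apply,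
        Module.End.one_apply, LinearMap.sub_apply, Module.End.one_apply, map_sub,
        ← Module.End.mul_apply, ← Module.End.mul_apply, ← map_mul, ← map_mul, inv_mul_cancel_right]
    induction j with
    | zero => intro y _; exact ⟨ρ (n : G) y, by simp⟩
    | succ j IH =>
      rintro _ ⟨y, rfl⟩
      obtain ⟨z, hz⟩ := IH ((X ^ j) y) ⟨y, rfl⟩
      refine ⟨S z, ?_⟩
      rw [pow_succ', Module.End.mul_apply, Module.End.mul_apply, h1, ← hz, ← Module.End.mul_apply S,
        ← (hcomm j).eq, Module.End.mul_apply]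
  obtain ⟨w₁, hw₁⟩ : ∃ w, f w ∉ LinearMap.range (traceOp P ρ) := by
    by_contra h
    push Not at h
    exact hf.2 (by rintro _ ⟨w, rfl⟩; exact h w)
  obtain ⟨h, hh, hh1⟩ : ∃ h : ℕ, (∀ w, f w ∈ LinearMap.range (X ^ h)) ∧
      ¬ ∀ w, f w ∈ LinearMap.range (X ^ (h + 1)) := by
    have hex : ∃ j, ¬ ∀ w, f w ∈ LinearMap.range (X ^ j) := ⟨p, fun hall => by
      obtain ⟨y, hy⟩ := hall w₁
      exact hw₁ (by rw [← hy, hXp]; exact Submodule.zero_mem _)⟩
    have h0 : Nat.find hex ≠ 0 := fun h0 => Nat.find_spec hex (by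
      rw [h0]; exact fun w => ⟨f w, by simp⟩)
    refine ⟨Nat.find hex - 1, ?_, ?_⟩
    · exact not_not.1 (Nat.find_min hex (Nat.pred_lt h0))
    · rw [Nat.sub_add_cancel (Nat.one_le_iff_ne_zero.2 h0)]
      exact Nat.find_spec hex
  have hker : (LinearMap.range (X ^ (h + 1))).comap f = ⊥ := by
    refine (hW.2 _ fun n w hw => ?_).resolve_right fun htop => hh1 fun w => by
      have : w ∈ (LinearMap.range (X ^ (h + 1))).comap f := by rw [htop]; exact Submodule.mem_top
      exact this
    rw [Submodule.mem_comap, ← hf.1 n w]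
    exact hstab _ n _ hw
  obtain ⟨l, hl⟩ := LinearMap.exists_leftInverse_of_injective
    ((LinearMap.range (X ^ (h + 1))).mkQ.comp f) (by
      rw [LinearMap.ker_comp, Submodule.ker_mkQ, hker])
  set g1 : V →ₗ[k] W := l.comp (LinearMap.range (X ^ (h + 1))).mkQ with hg1
  have hg1f : ∀ w, g1 (f w) = w := fun w => LinearMap.congr_fun hl w
  have hc := card_ne_zero (P := P) (k := k)
  set c₁ : k := (Nat.card (↥(Subgroup.normalizer ((P : Subgroup G) : Set G)) ⧸ PN P) : k) with hc₁
  set g : V →ₗ[k] W := c₁⁻¹ • avgInto σ ρ g1 with hg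
  have hgeq : ∀ (n : ↥(Subgroup.normalizer ((P : Subgroup G) : Set G))) z,
      (∀ x ∈ (P : Subgroup G), ρ x z = z) → g (ρ (n : G) z) = σ n (g z) := fun n z hz => by
    rw [hg, LinearMap.smul_apply, LinearMap.smul_apply, avgInto_equivariant σ hσ ρ g1 hz, map_smul]
  have hgf : ∀ w, g (f w) = w := fun w => by
    rw [hg, LinearMap.smul_apply]
    have e : avgInto σ ρ g1 (f w) = c₁ • w := by
      simp only [avgInto, LinearMap.sum_apply, LinearMap.comp_apply]
      rw [Finset.sum_congr rfl fun q _ => show σ q.out (g1 (ρ ((q.out : G)⁻¹) (f w))) = w by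
        rw [show ((q.out : G)⁻¹) = ((q.out⁻¹ : ↥(Subgroup.normalizer ((P : Subgroup G) : Set G))) : G) from rfl,
          hf.1, hg1f, ← Module.End.mul_apply, ← map_mul, mul_inv_cancel, map_one, Module.End.one_apply],
        Finset.sum_const, Finset.card_univ, hc₁, Nat.card_eq_fintype_card]
      exact (Nat.cast_smul_eq_nsmul k _ _).symm
    rw [e, smul_smul, inv_mul_cancel₀ hc, one_smul]
  have hg0 : ∀ y ∈ LinearMap.range (X ^ (h + 1)), g y = 0 := fun y hy => by
    rw [hg, LinearMap.smul_apply]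
    simp only [avgInto, LinearMap.sum_apply, LinearMap.comp_apply]
    rw [Finset.sum_eq_zero fun q _ => ?_, smul_zero]
    have hm := hstab (h + 1) q.out⁻¹ y hy
    rw [hg1, LinearMap.comp_apply, show (LinearMap.range (X ^ (h + 1))).mkQ (ρ ((q.out : G)⁻¹) y) = 0 from
      (Submodule.Quotient.mk_eq_zero _).2 hm, map_zero, map_zero]
  obtain ⟨sx, hsx⟩ := LinearMap.exists_rightInverse_of_surjective (X ^ h).rangeRestrict
    (LinearMap.range_rangeRestrict _)
  set x₀ : W →ₗ[k] V := sx.comp (f.codRestrict (LinearMap.range (X ^ h)) hh) with hx₀def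
  have hx₀ : ∀ w, (X ^ h) (x₀ w) = f w := fun w =>
    congrArg Subtype.val (LinearMap.congr_fun hsx (f.codRestrict (LinearMap.range (X ^ h)) hh w))
  set r : Module.End k V :=
    ∑ i ∈ Finset.range (h + 1), (X ^ i).comp (x₀.comp (g.comp (X ^ (h - i)))) with hr
  have hrapp : ∀ y, r y = ∑ i ∈ Finset.range (h + 1), (X ^ i) (x₀ (g ((X ^ (h - i)) y))) := fun y => by
    simp [hr]
  have hrX : ∀ y, r (X y) = X (r y) := by
    intro y
    rw [hrapp, hrapp, map_sum, Finset.sum_range_succ']
    conv_rhs => rw [Finset.sum_range_succ]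
    congr 1
    · refine Finset.sum_congr rfl fun i hi => ?_
      rw [pow_succ' X i, Module.End.mul_apply]
      congr 4
      rw [← Module.End.mul_apply, ← pow_succ, show h - (i + 1) + 1 = h - i by
        have := Finset.mem_range.1 hi; omega]
    · rw [Nat.sub_zero, ← Module.End.mul_apply (X ^ h) X, ← pow_succ, hg0 _ ⟨y, rfl⟩, map_zero,
        map_zero, hx₀, hXfix _ (hff _)]
  have hrfix : ∀ z, (∀ x ∈ (P : Subgroup G), ρ x z = z) → r z = f (g z) := by
    intro z hz
    rw [hrapp, Finset.sum_range_succ, Nat.sub_self, pow_zero, Module.End.one_apply, hx₀,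
      add_eq_right]
    refine Finset.sum_eq_zero fun i hi => ?_
    obtain ⟨j, hj⟩ : ∃ j, h - i = j + 1 := ⟨h - i - 1, by have := Finset.mem_range.1 hi; omega⟩
    rw [hj, pow_succ, Module.End.mul_apply, hXfix z hz, map_zero, map_zero, map_zero, map_zero]
  have hrP : ∀ x ∈ (P : Subgroup G), Commute (ρ x) r := by
    intro x hx
    obtain ⟨i, rfl⟩ := hgen x hx
    rw [map_pow]
    refine Commute.pow_left ?_ i
    refine LinearMap.ext fun y => ?_
    show ρ s (r y) = r (ρ s y)
    have e : ∀ z, ρ s z = X z + z := fun z => by simp [hX]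
    rw [e, e y, map_add, hrX]
  set F : G → Module.End k V := fun a => ρ a * r * ρ a⁻¹ with hF
  have hFmul : ∀ a b, F (a * b) = ρ a * F b * ρ a⁻¹ := fun a b => by
    simp only [hF, mul_inv_rev, map_mul, mul_assoc]
  have hFP : ∀ a, ∀ x ∈ (P : Subgroup G), F (a * x) = F a := by
    intro a x hx
    rw [hFmul]
    show ρ a * (ρ x * r * ρ x⁻¹) * ρ a⁻¹ = _
    rw [(hrP x hx).eq, mul_assoc r, ← map_mul, mul_inv_cancel, map_one, mul_one]
  have hFout : ∀ a, F (QuotientGroup.mk (s := (P : Subgroup G)) a).out = F a := by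
    intro a
    obtain ⟨x, hx⟩ := QuotientGroup.mk_out_eq_mul (P : Subgroup G) a
    rw [hx, hFP a _ x.2]
  have hsmul : ∀ (x : G) (q : G ⧸ (P : Subgroup G)), F (x • q).out = ρ x * F q.out * ρ x⁻¹ := by
    intro x q
    conv_lhs => rw [← QuotientGroup.out_eq' q, MulAction.Quotient.smul_mk, hFout, smul_eq_mul, hFmul]
  set Φ : Module.End k V := ∑ q : G ⧸ (P : Subgroup G), F q.out with hΦ
  obtain ⟨c, hcΦ⟩ := schur hirr Φ (fun x y => by
    have e : ρ x * Φ * ρ x⁻¹ = Φ := by
      rw [hΦ, Finset.mul_sum, Finset.sum_mul]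
      exact Fintype.sum_equiv (MulAction.toPerm x) _ _ fun q => (hsmul x q).symm
    conv_lhs => rw [← e]
    rw [Module.End.mul_apply, Module.End.mul_apply, ← Module.End.mul_apply (ρ x⁻¹), ← map_mul,
      inv_mul_cancel, map_one, Module.End.one_apply])
  set fix : Finset (G ⧸ (P : Subgroup G)) :=
    Finset.univ.filter fun q => ∀ x : ↥(P : Subgroup G), x • q = q with hfix
  have hfree : ∀ (x : ↥(P : Subgroup G)) q, q ∈ Finset.univ \ fix → x • q = q → x = 1 := by
    intro x q hq hxq
    by_contra hx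
    refine (Finset.mem_sdiff.1 hq).2 (Finset.mem_filter.2 ⟨Finset.mem_univ _, fun y => ?_⟩)
    have htop := zpowers_eq_top_of_prime_card hP hx
    have : y ∈ MulAction.stabilizer ↥(P : Subgroup G) q :=
      Subgroup.zpowers_le.2 (MulAction.mem_stabilizer_iff.2 hxq) (htop ▸ Subgroup.mem_top y)
    exact MulAction.mem_stabilizer_iff.1 this
  have hinv : ∀ (x : ↥(P : Subgroup G)) q, q ∈ Finset.univ \ fix → x • q ∈ Finset.univ \ fix := by
    intro x q hq
    refine Finset.mem_sdiff.2 ⟨Finset.mem_univ _, fun hm => (Finset.mem_sdiff.1 hq).2 ?_⟩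
    have h1 : q = x • q := by
      have := (Finset.mem_filter.1 hm).2 x⁻¹
      rwa [inv_smul_smul] at this
    rw [h1]; exact hm
  have hfixN : ∀ q ∈ fix, q.out ∈ Subgroup.normalizer ((P : Subgroup G) : Set G) := by
    intro q hq
    have hmap : ∀ x ∈ (P : Subgroup G), q.out⁻¹ * x * q.out ∈ (P : Subgroup G) := by
      intro x hx
      have h1 : x • q = q := (Finset.mem_filter.1 hq).2 ⟨x, hx⟩
      rw [← QuotientGroup.out_eq' q, MulAction.Quotient.smul_mk, smul_eq_mul, QuotientGroup.eq] at h1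
      simpa [mul_assoc] using inv_mem h1
    rw [Subgroup.mem_normalizer_iff]
    have heq : (P : Subgroup G).map (MulAut.conj q.out⁻¹).toMonoidHom = (P : Subgroup G) := by
      refine Subgroup.eq_of_le_of_card_ge ?_ ?_
      · rintro _ ⟨x, hx, rfl⟩
        simpa using hmap x hx
      · exact (Subgroup.card_map_of_injective (MulAut.conj q.out⁻¹).injective).ge
    intro x
    constructor
    · intro hx
      rw [← heq] at hx
      obtain ⟨y, hy, hxy⟩ := hx
      have : q.out * x * q.out⁻¹ = y := by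
        rw [← hxy]
        simp [mul_assoc]
      rw [this]; exact hy
    · intro hx
      have := hmap _ hx
      simpa [mul_assoc] using this
  have hN0 : (fix.card : k) ≠ 0 := by
    have h1 := sum_free_eq_zero (Q := ↥(P : Subgroup G)) (R := k) (Finset.univ \ fix) hinv hfree
      (fun _ => 1) (fun _ _ _ => rfl) (by rw [← Nat.card_eq_fintype_card, hP, CharP.cast_eq_zero])
    rw [Finset.sum_const, nsmul_one] at h1
    have h2 : ((Nat.card (G ⧸ (P : Subgroup G)) : ℕ) : k) = (fix.card : k) := by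
      rw [Nat.card_eq_fintype_card, ← Finset.card_univ,
        ← Finset.card_sdiff_add_card_eq_card (Finset.subset_univ fix), Nat.cast_add, h1, zero_add]
    rw [← h2, Ne, CharP.cast_eq_zero_iff k p]
    exact P.not_dvd_index
  have key : ∀ z, (∀ x ∈ (P : Subgroup G), ρ x z = z) →
      c • z - (fix.card : k) • f (g z) ∈ LinearMap.range (traceOp P ρ) := by
    intro z hz
    obtain ⟨z', hz'⟩ := sum_free (Q := ↥(P : Subgroup G)) (k := k) (Finset.univ \ fix) hinv hfree
      (ρ.comp (P : Subgroup G).subtype) (fun q => F q.out z) (fun x q _ => by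
        show F ((x : G) • q).out z = ρ (x : G) (F q.out z)
        rw [hsmul, Module.End.mul_apply, Module.End.mul_apply, hz _ (inv_mem x.2)])
    refine ⟨z', ?_⟩
    rw [← hcΦ z, hΦ, LinearMap.sum_apply, ← Finset.sum_sdiff (Finset.subset_univ fix), hz']
    have hfix' : ∀ q ∈ fix, F q.out z = f (g z) := by
      intro q hq
      set n : ↥(Subgroup.normalizer ((P : Subgroup G) : Set G)) := ⟨q.out, hfixN q hq⟩ with hn
      have hzn : ∀ x ∈ (P : Subgroup G), ρ x (ρ q.out⁻¹ z) = ρ q.out⁻¹ z := by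
        intro x hx
        have hm := (Subgroup.mem_normalizer_iff.1 n.2 x).1 hx
        rw [← Module.End.mul_apply, ← map_mul,
          show x * q.out⁻¹ = q.out⁻¹ * (q.out * x * q.out⁻¹) by group, map_mul, Module.End.mul_apply,
          hz _ hm]
      show ρ q.out (r (ρ q.out⁻¹ z)) = _
      rw [hrfix _ hzn]
      show ρ (n : G) (f (g (ρ ((n⁻¹ : ↥(Subgroup.normalizer ((P : Subgroup G) : Set G))) : G) z))) = _
      rw [hgeq _ z hz, hf.1, ← Module.End.mul_apply (σ n), ← map_mul, mul_inv_cancel, map_one,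
        Module.End.one_apply]
    rw [Finset.sum_congr rfl hfix', Finset.sum_const, ← Nat.cast_smul_eq_nsmul k,
      add_sub_cancel_right]
    rfl
  have hc0 : c ≠ 0 := by
    intro hc'
    have h1 := key (f w₁) (hff w₁)
    rw [hc', zero_smul, hgf, zero_sub] at h1
    have h2 := Submodule.smul_mem _ (fix.card : k)⁻¹ (Submodule.neg_mem _ h1)
    rw [neg_neg, smul_smul, inv_mul_cancel₀ hN0, one_smul] at h2
    exact hw₁ h2
  refine ⟨g, c⁻¹ * (fix.card : k), hgeq, fun z hz => ?_⟩
  have h3 := Submodule.smul_mem _ c⁻¹ (key z hz)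
  rwa [smul_sub, smul_smul, smul_smul, inv_mul_cancel₀ hc0, one_smul] at h3

include hP hσ hirr in
/-- Two bad simple modules of one irreducible representation are isomorphic. -/
theorem exists_intertwiner [FiniteDimensional k W] (hW : Irred σ) {f : W →ₗ[k] V}
    (hf : IsBadHom P ρ σ f) {W' : Type u} [AddCommGroup W'] [Module k W']
    {σ' : ↥(Subgroup.normalizer ((P : Subgroup G) : Set G)) →* Module.End k W'}
    (hσ' : ∀ n ∈ PN P, σ' n = 1) {f' : W' →ₗ[k] V} (hf' : IsBadHom P ρ σ' f') :
    ∃ L : W' →ₗ[k] W, L ≠ 0 ∧ ∀ n w, L (σ' n w) = σ n (L w) := by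
  obtain ⟨g, a, hg, hspan⟩ := bad_spans hP σ hσ hirr hW hf
  have hfix : ∀ w, ∀ x ∈ (P : Subgroup G), ρ x (f' w) = f' w := by
    intro w x hx
    have h2 := hf'.1 ⟨x, Subgroup.le_normalizer hx⟩ w
    rw [hσ' _ (show (⟨x, Subgroup.le_normalizer hx⟩ : ↥(Subgroup.normalizer _)) ∈ PN P from hx),
      Module.End.one_apply] at h2
    exact h2
  refine ⟨g.comp f', fun h0 => hf'.2 ?_, fun n w => ?_⟩
  · rintro _ ⟨w, rfl⟩
    have h1 := hspan (f' w) (hfix w)
    rwa [show g (f' w) = 0 from LinearMap.congr_fun h0 w, map_zero, smul_zero, sub_zero] at h1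
  · rw [LinearMap.comp_apply, LinearMap.comp_apply, ← hf'.1, hg n _ (hfix w)]

include hP hσ in
/-- Isomorphic irreducible representations have isomorphic bad simple modules. -/
theorem exists_intertwiner_hom [FiniteDimensional k W] (hW : Irred σ) {V' : Type*} [AddCommGroup V']
    [Module k V'] [FiniteDimensional k V'] {ρ' : G →* Module.End k V'} (hρ : Irred ρ) (hρ' : Irred ρ')
    (φ : V →ₗ[k] V') (hφ : ∀ g x, φ (ρ g x) = ρ' g (φ x)) (h0 : φ ≠ 0) {f : W →ₗ[k] V'}
    (hf : IsBadHom P ρ' σ f) {W' : Type u} [AddCommGroup W'] [Module k W']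
    {σ' : ↥(Subgroup.normalizer ((P : Subgroup G) : Set G)) →* Module.End k W'}
    (hσ' : ∀ n ∈ PN P, σ' n = 1) {f' : W' →ₗ[k] V} (hf' : IsBadHom P ρ σ' f') :
    ∃ L : W' →ₗ[k] W, L ≠ 0 ∧ ∀ n w, L (σ' n w) = σ n (L w) := by
  have hbij := bijective_of_ne_zero hρ hρ' φ hφ h0
  refine exists_intertwiner hP σ hσ hρ' hW hf hσ' (f' := φ.comp f')
    ⟨fun n w => by rw [LinearMap.comp_apply, LinearMap.comp_apply, ← hφ, hf'.1], fun hle => hf'.2 ?_⟩
  rintro _ ⟨w, rfl⟩
  obtain ⟨y, hy⟩ := hle ⟨w, rfl⟩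
  obtain ⟨z, rfl⟩ := hbij.2 y
  refine ⟨z, hbij.1 ?_⟩
  rw [show φ (f' w) = (φ.comp f') w from rfl, ← hy]
  simp only [traceOp, LinearMap.sum_apply, map_sum, hφ]

end Cfsg.Agent.BlockDefectOneSimple86
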