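import Cfsg.Agent.Lib.BlockPrimeCount86
import Cfsg.Agent.Lib.BlockDefectOneLocal86
import Cfsg.Agent.Lib.BlockDefectOneSimple86
import Cfsg.Agent.Lib.BlockDefectOneOver86

/-!
The number of irreducible modular representations in a block of defect one is at least the inertia
index of its character `η` of `U`.
-/

set_option autoImplicit false

open scoped ComplexConjugate

namespace Cfsg.Agent.BlockDefectOneBound86

open Cfsg Cfsg.Agent.BlockTheoryLocalRing Cfsg.Agent.BlockTheoryCentre
  Cfsg.Agent.BlockTheoryIdem Cfsg.Agent.BlockTheoryBrauer Cfsg.Agent.CharBasicOrth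
  Cfsg.Agent.BlockAbelianSylow86 Cfsg.Agent.BlockPrime86 Cfsg.Agent.BlockDefectOneSimple86
  Cfsg.Agent.BlockDefectOneLocal86

attribute [local instance] Classical.propDecidable

universe u

variable {p : ℕ} {M : Ideal AlgInt} {k : Type} [Field k] {G : Type u} [Group G] [Fintype G]
  [hp : Fact p.Prime] {P : Sylow p G} [Fintype ↥(P : Subgroup G)] (hP : Nat.card (P : Subgroup G) = p)
  [CharP k p] [IsAlgClosed k] (hM : IsPModular p M) (red : localRing hM →+* k)
  (hred : ∀ z : localRing hM, MemLocalIdeal M (z : ℂ) → red z = 0)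

include hP hred in
/-- The trace function of a representation with a bad vector lies in the span of the principal block. -/
theorem trace_mem_block {B : Set (IrrCharacter G)} (hblk : IsPBlock M B)
    {W : Type u} [AddCommGroup W] [Module k W]
    {σ : ↥(Subgroup.normalizer ((P : Subgroup G) : Set G)) →* Module.End k W}
    (hσ : ∀ n ∈ PN P, σ n = 1)
    (hEC : ∀ w, ∑ h : ↥(Subgroup.centralizer ((P : Subgroup G) : Set G)), rd hM red (blockCoeff B (h : G)) •
      σ ⟨h, Subgroup.centralizer_le_normalizer _ h.2⟩ w = w)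
    {V : Type*} [AddCommGroup V] [Module k V] [FiniteDimensional k V]
    {ρ : G →* Module.End k V} (hirr : Irred ρ) {f : W →ₗ[k] V} (hf : IsBadHom P ρ σ f) :
    ∃ c : IrrCharacter G → k, ∀ g : G, LinearMap.trace k V (ρ g) =
      ∑ χ, if χ ∈ B then c χ * rd hM red ((χ : G → ℂ) g) else 0 := by
  set β : G → k := fun h => rd hM red (blockCoeff B h) with hβ
  set E : Module.End k V := ∑ h, β h • ρ h with hE
  obtain ⟨ε, hε⟩ := schur hirr E (fun x y => by
    simp only [hE, LinearMap.sum_apply, LinearMap.smul_apply, map_sum, map_smul,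
      ← Module.End.mul_apply, ← map_mul]
    refine Fintype.sum_equiv (MulAut.conj x⁻¹).toEquiv _ _ fun h => ?_
    have hb : blockCoeff B (x⁻¹ * h * x) = blockCoeff B h := by
      simp only [blockCoeff_eq_sum]
      simp only [CharBasic.apply_eq_of_isConj (irr_classFun _) (isConj_iff.2 ⟨x, by group⟩ :
        IsConj (x⁻¹ * h * x) h)]
    simp only [MulEquiv.toEquiv_eq_coe, MulEquiv.coe_toEquiv, MulAut.conj_apply, inv_inv, hβ, hb]
    congr 2
    group)
  letI : MulAction ↥(P : Subgroup G) G :=
    MulAction.compHom G ((MulAut.conj (G := G)).comp (P : Subgroup G).subtype)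
  have hsmul : ∀ (x : ↥(P : Subgroup G)) (h : G), x • h = (x : G) * h * (x : G)⁻¹ := fun x h => rfl
  set C : Finset G := Finset.univ.filter (· ∈ Subgroup.centralizer ((P : Subgroup G) : Set G)) with hC
  have hinv : ∀ (x : ↥(P : Subgroup G)) h, h ∈ Finset.univ \ C → x • h ∈ Finset.univ \ C := by
    intro x h hh
    simp only [hC, Finset.mem_sdiff, Finset.mem_univ, Finset.mem_filter, true_and] at hh ⊢
    rw [hsmul]
    intro hm
    refine hh (Subgroup.mem_centralizer_iff.2 fun z hz => ?_)
    have hx : ∀ w ∈ (P : Subgroup G), w * (x : G) = (x : G) * w := fun w hw => by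
      haveI := comm_P hP
      exact congrArg Subtype.val (mul_comm' (⟨w, hw⟩ : (P : Subgroup G)) x)
    have := Subgroup.mem_centralizer_iff.1 hm z hz
    calc z * h = (x : G)⁻¹ * (z * ((x : G) * h * (x : G)⁻¹)) * x := by
          rw [← mul_assoc z, ← mul_assoc z, hx z hz]; group
      _ = (x : G)⁻¹ * ((x : G) * h * (x : G)⁻¹ * z) * x := by rw [this]
      _ = h * z := by
          rw [mul_assoc _ (_ * z), mul_assoc _ z, hx z hz]; group
  have hfree : ∀ (x : ↥(P : Subgroup G)) h, h ∈ Finset.univ \ C → x • h = h → x = 1 := by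
    intro x h hh hxh
    by_contra hx
    simp only [hC, Finset.mem_sdiff, Finset.mem_univ, Finset.mem_filter, true_and] at hh
    refine hh (Subgroup.mem_centralizer_iff.2 fun z hz => ?_)
    have : (⟨z, hz⟩ : ↥(P : Subgroup G)) ∈ MulAction.stabilizer ↥(P : Subgroup G) h :=
      Subgroup.zpowers_le.2 (MulAction.mem_stabilizer_iff.2 hxh)
        (by rw [zpowers_eq_top_of_prime_card hP hx]; exact Subgroup.mem_top _)
    have h2 := MulAction.mem_stabilizer_iff.1 this
    rw [hsmul] at h2
    exact mul_inv_eq_iff_eq_mul.1 h2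
  have hβinv : ∀ (x : ↥(P : Subgroup G)) h, β (x • h) = β h := fun x h => by
    simp only [hβ, blockCoeff_eq_sum, hsmul,
      CharBasic.apply_eq_of_isConj (irr_classFun _) (isConj_iff.2 ⟨(x : G)⁻¹, by group⟩ :
        IsConj ((x : G) * h * (x : G)⁻¹) h)]
  have hε1 : ε = 1 := by
    by_contra hne
    refine hf.2 ?_
    rintro _ ⟨v, rfl⟩
    have hvf : ∀ x ∈ (P : Subgroup G), ρ x (f v) = f v := by
      intro x hx
      have h2 := hf.1 ⟨x, Subgroup.le_normalizer hx⟩ v
      rw [hσ _ (show (⟨x, Subgroup.le_normalizer hx⟩ : ↥(Subgroup.normalizer _)) ∈ PN P from hx),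
        Module.End.one_apply] at h2
      exact h2
    obtain ⟨w, hw⟩ := sum_free (Q := ↥(P : Subgroup G)) (k := k) (Finset.univ \ C) hinv hfree
      (ρ.comp (P : Subgroup G).subtype) (fun h => β h • ρ h (f v)) (fun x h _ => by
        rw [hsmul, ← hsmul, hβinv, hsmul, MonoidHom.comp_apply, map_smul, map_mul ρ, map_mul ρ, Module.End.mul_apply,
          Module.End.mul_apply, hvf _ (inv_mem x.2)]
        rfl)
    have hsumC : ∑ h ∈ C, β h • ρ h (f v) = f v := by
      conv_rhs => rw [← hEC v, map_sum]
      rw [Finset.sum_subtype C (p := fun h => h ∈ Subgroup.centralizer ((P : Subgroup G) : Set G))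
        (fun h => by simp [hC]) (fun h => β h • ρ h (f v))]
      refine Finset.sum_congr rfl fun h _ => ?_
      rw [map_smul, ← hf.1]
    have hEv : ε • f v = traceOp P ρ w + f v := by
      rw [← hε (f v), hE, LinearMap.sum_apply, ← Finset.sum_sdiff (Finset.subset_univ C)]
      simp only [LinearMap.smul_apply]
      rw [hw, hsumC]
      rfl
    refine ⟨(ε - 1)⁻¹ • w, ?_⟩
    rw [map_smul, show traceOp P ρ w = (ε - 1) • f v by rw [sub_smul, one_smul, hEv, add_sub_cancel_right],
      smul_smul, inv_mul_cancel₀ (sub_ne_zero.2 hne), one_smul]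
  obtain ⟨c, hc⟩ := exists_expansion hM red (fun g => LinearMap.trace k V (ρ g)) (fun a b hab => by
    obtain ⟨x, rfl⟩ := isConj_iff.1 hab
    rw [map_mul ρ, LinearMap.trace_mul_comm k, ← map_mul ρ, ← mul_assoc, inv_mul_cancel, one_mul])
  have hall : ∀ g : G, LinearMap.trace k V (ρ g) = ∑ χ, c χ * rd hM red ((χ : G → ℂ) g) := by
    intro g
    obtain ⟨x, r, rfl, hxr, hxp, hr⟩ := exists_pPart hp.out g
    rw [trace_mul_pElement ρ hxp hxr, hc r hr]
    refine Finset.sum_congr rfl fun χ _ => congrArg _ ?_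
    exact (rd_congr hM red hred (irr_mem hM χ r)
      (PrincipalSylow80.char_mul_congr hM (CharBasic.isCharacter_of_isIrrCharacter χ.2) hxp hxr)).symm
  refine ⟨c, fun g => ?_⟩
  have hE1 : ρ g = ρ g * E := by
    refine LinearMap.ext fun y => ?_
    rw [Module.End.mul_apply, hε y, hε1, one_smul]
  conv_lhs => rw [hE1, hE, Finset.mul_sum]
  simp only [mul_smul_comm, ← map_mul, map_sum, map_smul, hall, smul_eq_mul, Finset.mul_sum]
  rw [Finset.sum_comm]
  refine Finset.sum_congr rfl fun χ _ => ?_
  rw [Finset.sum_congr rfl fun h _ => mul_left_comm (β h) (c χ) _, ← Finset.mul_sum]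
  simp only [hβ]
  simp only [← rd_mul hM red (blockCoeff_mem hM hblk _) (irr_mem hM χ _)]
  rw [← rd_sum hM red _ _ (fun h _ => mul_mem (show _ ∈ localRing hM from blockCoeff_mem hM hblk h)
      (irr_mem hM χ _)),
    sum_blockCoeff_mul]
  split_ifs
  · rfl
  · rw [rd_zero, mul_zero]


section Operators

variable {Q : Type u} [Group Q] [Fintype Q]

/-- The translation of functions. -/
def transl (k : Type) [Field k] (Q : Type u) [Group Q] : Q →* Module.End k (Q → k) where
  toFun a := LinearMap.funLeft k k fun q => a⁻¹ * q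
  map_one' := LinearMap.ext fun f => funext fun q => by simp [LinearMap.funLeft]
  map_mul' a b := LinearMap.ext fun f => funext fun q => by simp [LinearMap.funLeft, mul_assoc]

theorem transl_apply (a : Q) (f : Q → k) (q : Q) : transl k Q a f q = f (a⁻¹ * q) := rfl

/-- The operator of an element of the group algebra. -/
noncomputable def opOf (z : MonoidAlgebra ℂ Q) : Module.End k (Q → k) :=
  ∑ q : Q, rd hM red (z.coeff q) • transl k Q q

theorem opOf_apply (z : MonoidAlgebra ℂ Q) (f : Q → k) (x : Q) :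
    opOf hM red z f x = ∑ q : Q, rd hM red (z.coeff q) * f (q⁻¹ * x) := by
  simp [opOf, transl_apply]

theorem opOf_mul {z w : MonoidAlgebra ℂ Q} (hz : IsInt M z) (hw : IsInt M w) :
    opOf hM red (z * w) = opOf hM red z * opOf hM red w := by
  refine LinearMap.ext fun f => funext fun x => ?_
  rw [Module.End.mul_apply, opOf_apply, opOf_apply]
  simp only [opOf_apply, coeff_mul_eq, Finset.mul_sum]
  rw [Finset.sum_congr rfl fun q _ => by
    rw [rd_sum hM red _ _ (fun y _ => mul_mem (show _ ∈ localRing hM from hz y) (hw _)), Finset.sum_mul]]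
  rw [Finset.sum_comm]
  refine Finset.sum_congr rfl fun y _ => ?_
  refine (Fintype.sum_equiv (Equiv.mulLeft y) _ _ fun q => ?_).symm
  rw [Equiv.coe_mulLeft, rd_mul hM red (hz y) (hw _), inv_mul_cancel_left, mul_inv_rev, mul_assoc, mul_assoc]

theorem opOf_smul {z : MonoidAlgebra ℂ Q} (hz : IsInt M z) {c : ℂ} (hc : MemLocalRing M c) :
    opOf hM red (c • z) = rd hM red c • opOf hM red z := by
  simp only [opOf, Finset.smul_sum, smul_smul]
  exact Finset.sum_congr rfl fun q _ => by
    rw [MonoidAlgebra.coeff_smul_apply, smul_eq_mul, rd_mul hM red hc (hz q)]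

theorem transl_comm {z : MonoidAlgebra ℂ Q} (hz : IsCen z) (a : Q) :
    transl k Q a * opOf hM red z = opOf hM red z * transl k Q a := by
  simp only [opOf, Finset.mul_sum, Finset.sum_mul, mul_smul_comm, smul_mul_assoc, ← map_mul]
  refine Fintype.sum_equiv (MulAut.conj a).toEquiv _ _ fun q => ?_
  simp only [MulEquiv.toEquiv_eq_coe, MulEquiv.coe_toEquiv, MulAut.conj_apply]
  rw [inv_mul_cancel_right, show z.coeff (a * q * a⁻¹) = z.coeff q from hz q a]

end Operators

variable {U : Subgroup G} (hU : RegPart P U)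

/-- The stabilizer of a character of `U` in the normalizer. -/
noncomputable def stab (η : IrrCharacter U) :
    Subgroup ↥(Subgroup.normalizer ((P : Subgroup G) : Set G)) where
  carrier := {n | twist hU η n = η}
  one_mem' := twist_one hU η
  mul_mem' := fun {a b} (ha : twist hU η a = η) (hb : twist hU η b = η) => by
    show twist hU η (a * b) = η
    rw [← twist_twist, ha, hb]
  inv_mem' := fun {a} (ha : twist hU η a = η) => by
    show twist hU η a⁻¹ = η
    conv_lhs => rw [← ha]
    rw [twist_twist, mul_inv_cancel, twist_one]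

/-- The inertia automorphisms of `P`. -/
noncomputable def autE (η : IrrCharacter U) : Subgroup (MulAut ↥(P : Subgroup G)) :=
  (stab hU η).map (conjP P)


include hP in
theorem card_autE (η : IrrCharacter U) :
    Nat.card (autE hU η) * (p * Nat.card U) = Nat.card (stab hU η) := by
  haveI := comm_P hP
  have hle : kerN P ≤ stab hU η := fun n hn => twist_eq_self_of_mem hP hU η hn
  have hk : Nat.card (kerN P) = p * Nat.card U := by
    rw [Nat.card_congr (Subgroup.subgroupOfEquivOfLe (Subgroup.centralizer_le_normalizer _)).toEquiv,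
      ← Nat.card_congr (Equiv.ofBijective _ (DefectOneSign7.prodC_bijective hP hU)), Nat.card_prod, hP]
  set φ := (conjP P).comp (stab hU η).subtype with hφ
  have hr : φ.range = autE hU η := by
    rw [hφ, MonoidHom.range_comp, Subgroup.range_subtype]; rfl
  have hker : φ.ker = (kerN P).subgroupOf (stab hU η) := by
    ext n
    rw [MonoidHom.mem_ker, Subgroup.mem_subgroupOf, hφ, MonoidHom.comp_apply, ← MonoidHom.mem_ker]
    exact Iff.of_eq (congrArg (fun H => (n : ↥(Subgroup.normalizer ((P : Subgroup G) : Set G))) ∈ H)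
      (P : Subgroup G).normalizerMonoidHom_ker)
  rw [← hr, ← Subgroup.index_ker, ← hk, ← Nat.card_congr (Subgroup.subgroupOfEquivOfLe hle).toEquiv,
    ← hker, mul_comm, Subgroup.card_mul_index]

include hP hred in
set_option maxHeartbeats 1000000 in
/-- The inertia index bounds the span of a block of defect one on regular elements. -/
theorem index_le_span (η : IrrCharacter U) {B : Set (IrrCharacter G)}
    (hind : IsInducedBlock M (Subgroup.centralizer ((P : Subgroup G) : Set G))
      (blockOf M (ext hP hU η : _ → ℂ)) B)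
    (Ψ : Finset ({g : G // ¬ p ∣ orderOf g} → k))
    (hspan : ∀ χ ∈ B, (fun g : {g : G // ¬ p ∣ orderOf g} => rd hM red ((χ : G → ℂ) g)) ∈
      Submodule.span k (Ψ : Set ({g : G // ¬ p ∣ orderOf g} → k))) :
    Nat.card (autE hU η) ≤ Ψ.card := by
  set e := Nat.card (autE hU η) with he
  let mk := QuotientGroup.mk' (PN P)
  have hmk : Function.Surjective mk := QuotientGroup.mk'_surjective _
  have hPN : Nat.card (PN P) = p := by
    rw [Nat.card_congr (Subgroup.subgroupOfEquivOfLe Subgroup.le_normalizer).toEquiv, hP]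
  have hQp : ¬ p ∣ Nat.card (↥(Subgroup.normalizer ((P : Subgroup G) : Set G)) ⧸ PN P) :=
    fun h => P.not_dvd_index (h.trans (Subgroup.relIndex_dvd_index_of_le Subgroup.le_normalizer))
  haveI : Fintype (↥(Subgroup.normalizer ((P : Subgroup G) : Set G)) ⧸ PN P) := Fintype.ofFinite _
  have hUN : U ≤ Subgroup.normalizer ((P : Subgroup G) : Set G) := fun w hw =>
    Subgroup.centralizer_le_normalizer _ ((hU w).1 hw).1
  set φU : U →* ↥(Subgroup.normalizer ((P : Subgroup G) : Set G)) ⧸ PN P :=
    mk.comp (Subgroup.inclusion hUN) with hφU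
  have hφinj : Function.Injective φU := by
    rw [injective_iff_map_eq_one]
    intro w hw
    have h1 : Subgroup.inclusion hUN w ∈ PN P := (QuotientGroup.eq_one_iff _).1 hw
    rw [Subgroup.mem_subgroupOf] at h1
    by_contra hne
    exact ((hU (w : G)).1 w.2).2 (singular (y := (w : G)) h1 fun h => hne (Subtype.ext h))
  set Ub := φU.range with hUb
  letI : Fintype Ub :=
    @Subgroup.instFintypeSubtypeMemOfDecidablePred _ _ Ub (fun _ => Classical.propDecidable _) _
  have hmkC : ∀ c : ↥(Subgroup.centralizer ((P : Subgroup G) : Set G)),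
      mk ⟨c, Subgroup.centralizer_le_normalizer _ c.2⟩ = φU (projU hP hU c) := by
    intro c
    refine QuotientGroup.eq.2 ?_
    rw [Subgroup.mem_subgroupOf]
    have h1 := proj_mul hP hU c
    show ((c : G))⁻¹ * (projU hP hU c : G) ∈ (P : Subgroup G)
    rw [← h1]
    have hc := comm_of_mem hU (projP hP hU c).2 (projU hP hU c).2
    rw [mul_inv_rev, mul_assoc, (hc.inv_left).eq, inv_mul_cancel_left]
    exact inv_mem (projP hP hU c).2
  haveI hUbn : Ub.Normal := by
    refine ⟨fun x hx a => ?_⟩
    obtain ⟨w, rfl⟩ := hx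
    obtain ⟨n, rfl⟩ := hmk a
    exact ⟨conjU hU n w, by simp only [hφU, MonoidHom.comp_apply, ← map_inv, ← map_mul]; rfl⟩
  have hcyc : IsCyclic ((↥(Subgroup.normalizer ((P : Subgroup G) : Set G)) ⧸ PN P) ⧸ Ub) := by
    haveI : IsCyclic ↥(P : Subgroup G) := isCyclic_of_prime_card hP
    haveI : IsCyclic (MulAut ↥(P : Subgroup G)) := by
      haveI : IsCyclic (ZMod (Nat.card ↥(P : Subgroup G)))ˣ := by rw [hP]; infer_instance
      exact isCyclic_of_surjective (IsCyclic.mulAutMulEquiv ↥(P : Subgroup G)).symm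
        (IsCyclic.mulAutMulEquiv ↥(P : Subgroup G)).symm.surjective
    have hkc : IsCyclic (↥(Subgroup.normalizer ((P : Subgroup G) : Set G)) ⧸ (conjP P).ker) :=
      isCyclic_of_injective (QuotientGroup.kerLift (conjP P)) (QuotientGroup.kerLift_injective _)
    haveI := hkc
    refine isCyclic_of_surjective (QuotientGroup.lift (conjP P).ker ((QuotientGroup.mk' Ub).comp mk)
      (fun n hn => ?_)) ?_
    · have hn' : n ∈ kerN P := (congrArg (fun H => n ∈ H) (P : Subgroup G).normalizerMonoidHom_ker).mp hn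
      rw [MonoidHom.mem_ker, MonoidHom.comp_apply, QuotientGroup.mk'_apply, QuotientGroup.eq_one_iff]
      exact ⟨projU hP hU ⟨n, hn'⟩, (hmkC ⟨n, hn'⟩).symm⟩
    · intro x
      obtain ⟨y, rfl⟩ := QuotientGroup.mk_surjective x
      obtain ⟨n, rfl⟩ := hmk y
      exact ⟨(n : _ ⧸ (conjP P).ker), rfl⟩
  set eU := MonoidHom.ofInjective hφinj with heU
  let θb : IrrCharacter Ub := ⟨fun x => (η : U → ℂ) (eU.symm x),
    CharBasic.isIrrCharacter_comap eU.symm.toMonoidHom eU.symm.surjective η.2⟩
  have hθb : ∀ (w : U) (x : Ub), (x : _ ⧸ PN P) = φU w → (θb : Ub → ℂ) x = (η : U → ℂ) w := by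
    intro w x hx
    show (η : U → ℂ) (eU.symm x) = _
    exact congrArg _ (eU.symm_apply_eq.2 (Subtype.ext hx))
  have hstab : stab hU η = (CharInduced.inertia Ub (θb : Ub → ℂ)).comap mk := by
    ext n
    rw [Subgroup.mem_comap, CharInduced.mem_inertia_iff]
    have key : ∀ w : U, (θb : Ub → ℂ) ⟨mk n * φU w * (mk n)⁻¹, hUbn.conj_mem _ ⟨w, rfl⟩ _⟩ =
        (twist hU η n : U → ℂ) w := fun w =>
      hθb (conjU hU n w) _ (by simp only [hφU, MonoidHom.comp_apply, ← map_inv, ← map_mul]; rfl)
    constructor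
    · intro h x
      obtain ⟨x, w, rfl⟩ := x
      rw [key w, show twist hU η n = η from h, hθb w ⟨φU w, w, rfl⟩ rfl]
    · intro h
      refine Subtype.ext (funext fun w => ?_)
      rw [← key w, ← hθb w ⟨φU w, w, rfl⟩ rfl]
      exact h ⟨φU w, w, rfl⟩
  have hTb : e * Nat.card Ub = Nat.card (CharInduced.inertia Ub (θb : Ub → ℂ)) := by
    have h1 := card_autE hP hU η
    rw [hstab] at h1
    have h2 := (CharInduced.inertia Ub (θb : Ub → ℂ)).card_mul_index
    have h3 := ((CharInduced.inertia Ub (θb : Ub → ℂ)).comap mk).card_mul_index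
    rw [Subgroup.index_comap_of_surjective _ hmk, ← h1,
      Subgroup.card_eq_card_quotient_mul_card_subgroup (PN P), hPN, ← h2] at h3
    have hU' : Nat.card Ub = Nat.card U := Nat.card_congr eU.symm.toEquiv
    rw [hU']
    have hpos : 0 < (CharInduced.inertia Ub (θb : Ub → ℂ)).index * p :=
      Nat.mul_pos (Nat.pos_of_ne_zero Subgroup.index_ne_zero_of_finite) hp.out.pos
    refine Nat.eq_of_mul_eq_mul_right hpos ?_
    calc e * Nat.card U * ((CharInduced.inertia Ub (θb : Ub → ℂ)).index * p)
        = e * (p * Nat.card U) * (CharInduced.inertia Ub (θb : Ub → ℂ)).index := by ring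
      _ = _ := by rw [h3]; ring
  obtain ⟨Φ, hΦinj, hΦover⟩ := BlockDefectOneOver86.exists_over Ub hcyc θb e hTb
  set zC : MonoidAlgebra ℂ (↥(Subgroup.normalizer ((P : Subgroup G) : Set G)) ⧸ PN P) := ofFun fun q =>
    ∑ c : ↥(Subgroup.centralizer ((P : Subgroup G) : Set G)),
      if mk ⟨c, Subgroup.centralizer_le_normalizer _ c.2⟩ = q then blockCoeff B (c : G) else 0 with hzC
  have hzint : IsInt M zC := fun q => by
    rw [hzC, coeff_ofFun]
    refine (localRing hM).sum_mem fun c _ => ?_
    split_ifs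
    · exact blockCoeff_mem hM hind.2.1 _
    · exact (localRing hM).zero_mem
  have hzcen : IsCen zC := by
    intro q a
    simp only [hzC, coeff_ofFun]
    obtain ⟨n, rfl⟩ := hmk a
    have hcj : ∀ c : ↥(Subgroup.centralizer ((P : Subgroup G) : Set G)),
        (n : G)⁻¹ * c * n ∈ Subgroup.centralizer ((P : Subgroup G) : Set G) := fun c =>
      DefectOneSign7.conj_mem_centralizer c.2 n.2
    refine Fintype.sum_bijective (fun c => (⟨_, hcj c⟩ : ↥(Subgroup.centralizer ((P : Subgroup G) : Set G))))
      (Finite.injective_iff_bijective.1 fun c d h =>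
        Subtype.ext (mul_left_cancel (mul_right_cancel (congrArg Subtype.val h)))) _ _ fun c => ?_
    have hb : blockCoeff B ((n : G)⁻¹ * c * n) = blockCoeff B (c : G) := by
      have h := isCen_idem B (c : G) (n : G)⁻¹
      simpa only [coeff_idem, inv_inv] using h
    show _ = if mk _ = q then blockCoeff B ((n : G)⁻¹ * c * n) else 0
    rw [hb]
    have hmn : mk ⟨(n : G)⁻¹ * c * n, Subgroup.centralizer_le_normalizer _ (hcj c)⟩ =
        (mk n)⁻¹ * mk ⟨c, Subgroup.centralizer_le_normalizer _ c.2⟩ * mk n := by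
      rw [← map_inv, ← map_mul, ← map_mul]; rfl
    simp only [hmn]
    refine if_congr ⟨fun h => by rw [h]; group, fun h => by rw [← h]; group⟩ rfl rfl
  have hzsupp : ∀ q ∉ Ub, zC.coeff q = 0 := fun q hq => by
    rw [hzC, coeff_ofFun]
    refine Finset.sum_eq_zero fun c _ => if_neg fun h => hq ?_
    rw [← h, hmkC]
    exact ⟨_, rfl⟩
  have hone : MemLocalIdeal M (omega (θb : Ub → ℂ) (res Ub zC) - 1) := by
    obtain ⟨χ, hχ⟩ := block_nonempty hM hind.2.1
    have h1 := BlockTheoryInduced.inducedBlock_congr _ hM hind (self_mem_blockOf hM (ext hP hU η)) hχ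
      (isCen_idem B) (isInt_idem hM hind.2.1)
    rw [omega_idem, if_pos hχ] at h1
    convert h1 using 2
    rw [omega_eq_finsum, omega_eq_finsum]
    simp only [coeff_res, coeff_idem, hzC, coeff_ofFun, Finset.sum_mul]
    rw [Finset.sum_comm]
    refine Finset.sum_congr rfl fun c _ => ?_
    rw [Finset.sum_eq_single ⟨mk ⟨c, Subgroup.centralizer_le_normalizer _ c.2⟩, projU hP hU c, (hmkC c).symm⟩
      (fun x _ hx => by rw [if_neg fun h => hx (Subtype.ext h.symm), zero_mul])
      (fun h => absurd (Finset.mem_univ _) h), if_pos rfl,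
      hθb (projU hP hU c) _ (hmkC c), hθb 1 1 (map_one _).symm]
    show _ = blockCoeff B (c : G) * ((ext hP hU η : ↥(Subgroup.centralizer ((P : Subgroup G) : Set G)) → ℂ) c / (ext hP hU η : ↥(Subgroup.centralizer ((P : Subgroup G) : Set G)) → ℂ) 1)
    rw [show (ext hP hU η : ↥(Subgroup.centralizer ((P : Subgroup G) : Set G)) → ℂ) 1 = (η : U → ℂ) 1 from congrArg (η : U → ℂ) (map_one _)]
    rfl
  -- the modules
  set E : Fin e → Module.End k ((↥(Subgroup.normalizer ((P : Subgroup G) : Set G)) ⧸ PN P) → k) :=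
    fun i => opOf hM red (idem {Φ i}) with hE
  have hIi : ∀ i, IsInt M (idem {Φ i}) := fun i => BlockTheoryNormal.isInt_idem_of_not_dvd hM hQp _
  have hEE : ∀ i, E i * E i = E i := fun i => by
    simp only [hE, ← opOf_mul hM red (hIi i) (hIi i), idem_sq]
  have hEne : ∀ i j, i ≠ j → E i * E j = 0 := fun i j hij => by
    simp only [hE, ← opOf_mul hM red (hIi i) (hIi j), idem_mul_idem]
    rw [show ({Φ i} ∩ {Φ j} : Set _) = ∅ from Set.singleton_inter_eq_empty.2 fun h => hij (hΦinj h),
      idem_empty]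
    refine LinearMap.ext fun f => funext fun x => ?_
    rw [opOf_apply]
    simp [rd_zero]
  have hz1 : ∀ i, opOf hM red zC * E i = E i := by
    intro i
    set s := omega (Φ i : _ → ℂ) zC with hs
    have hsR : MemLocalRing M s := omega_mem_localRing hM (Φ i) hzcen hzint
    have heq : zC * idem {Φ i} = s • idem {Φ i} := by
      refine ext_omega (hzcen.mul (isCen_idem _)) ((isCen_idem _).smul s) fun χ => ?_
      rw [omega_mul χ hzcen, map_smul, omega_idem, smul_eq_mul]
      by_cases h : χ = Φ i
      · subst h; rfl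
      · rw [if_neg (fun h' : χ ∈ ({Φ i} : Set _) => h h'), mul_zero, mul_zero]
    have hs1 : rd hM red s = 1 := by
      rw [← rd_one hM red]
      refine rd_congr hM red hred (show (1 : ℂ) ∈ localRing hM from one_mem _) ?_
      rw [hs, BlockTheoryNormal.omega_eq_omega_res Ub (Φ i) θb (hΦover i) hzcen hzsupp]
      exact hone
    simp only [hE, ← opOf_mul hM red hzint (hIi i), heq, opOf_smul hM red (hIi i) hsR, hs1, one_smul]
  have hEnz : ∀ i, E i ≠ 0 := by
    intro i h0
    have hs : Small M (idem {Φ i}) := by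
      intro q
      by_contra hq
      obtain ⟨a, b, hb, hab⟩ := hIi i q
      have h1 := congrFun (LinearMap.congr_fun h0 (Pi.single 1 1)) q
      rw [hE, opOf_apply, Finset.sum_eq_single q (fun x _ hx => by
          rw [Pi.single_eq_of_ne (fun h : x⁻¹ * q = 1 => hx (inv_mul_eq_one.1 h)), mul_zero])
        (fun h => absurd (Finset.mem_univ _) h), inv_mul_cancel, Pi.single_eq_same, mul_one] at h1
      have hinv : MemLocalRing M ((idem {Φ i}).coeff q)⁻¹ := BlockTheoryLocalRing.inv_mem hM (hIi i q) hq
      have h2 := rd_mul hM red (hIi i q) hinv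
      rw [mul_inv_cancel₀ (fun h => hq (by rw [h]; exact ideal_zero hM)), rd_one, h1] at h2
      simp at h2
    have := omega_ideal_of_small hM (Φ i) (isCen_idem _) hs
    rw [omega_idem, if_pos (Set.mem_singleton _)] at this
    exact one_not_ideal hM this
  have hsimple : ∀ i, ∃ S : Submodule k ((↥(Subgroup.normalizer ((P : Subgroup G) : Set G)) ⧸ PN P) → k),
      S ≠ ⊥ ∧ (∀ a, ∀ x ∈ S, transl k _ a x ∈ S) ∧ (∀ x ∈ S, E i x = x) ∧
      ∀ S' : Submodule k _, S' ≤ S → (∀ a, ∀ x ∈ S', transl k _ a x ∈ S') → S' = ⊥ ∨ S' = S := by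
    intro i
    have hex : ∃ d, ∃ S : Submodule k ((↥(Subgroup.normalizer ((P : Subgroup G) : Set G)) ⧸ PN P) → k),
        S ≠ ⊥ ∧ (∀ a, ∀ x ∈ S, transl k _ a x ∈ S) ∧ (∀ x ∈ S, E i x = x) ∧ Module.finrank k S = d := by
      refine ⟨_, LinearMap.range (E i), fun h => hEnz i (LinearMap.range_eq_bot.1 h), ?_, ?_, rfl⟩
      · rintro a _ ⟨x, rfl⟩
        exact ⟨transl k _ a x, (LinearMap.congr_fun (transl_comm hM red (isCen_idem {Φ i}) a) x).symm⟩
      · rintro _ ⟨x, rfl⟩
        exact LinearMap.congr_fun (hEE i) x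
    obtain ⟨S, hS0, hSi, hSE, hSd⟩ := Nat.find_spec hex
    refine ⟨S, hS0, hSi, hSE, fun S' hle hS' => or_iff_not_imp_left.2 fun h0 => ?_⟩
    refine Submodule.eq_of_le_of_finrank_le hle ?_
    rw [hSd]
    exact Nat.find_le ⟨S', h0, hS', fun x hx => hSE x (hle hx), rfl⟩
  choose S hS0 hSi hSE hSmin using hsimple
  let σ : ∀ i, ↥(Subgroup.normalizer ((P : Subgroup G) : Set G)) →* Module.End k (S i) := fun i =>
    { toFun := fun n => (transl k _ (mk n)).restrict (hSi i (mk n))
      map_one' := LinearMap.ext fun x => Subtype.ext (by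
        show transl k _ (mk 1) (x : _ → k) = x
        rw [map_one, map_one]; rfl)
      map_mul' := fun a b => LinearMap.ext fun x => Subtype.ext (by
        show transl k _ (mk (a * b)) (x : _ → k) = transl k _ (mk a) (transl k _ (mk b) x)
        rw [map_mul, map_mul]; rfl) }
  have hσ : ∀ i, ∀ n ∈ PN P, σ i n = 1 := fun i n hn => LinearMap.ext fun x => Subtype.ext (by
    show transl k _ (mk n) (x : _ → k) = x
    rw [show mk n = 1 from (QuotientGroup.eq_one_iff n).2 hn, map_one]; rfl)
  have hirrσ : ∀ i, Irred (σ i) := fun i => by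
    refine ⟨Submodule.nontrivial_iff_ne_bot.2 (hS0 i), fun S' hS' => ?_⟩
    rcases hSmin i (S'.map (S i).subtype) (Submodule.map_subtype_le _ _) (fun a x hx => by
      obtain ⟨n, rfl⟩ := hmk a
      obtain ⟨y, hy, rfl⟩ := hx
      exact ⟨_, hS' n y hy, rfl⟩) with h | h
    · exact Or.inl (Submodule.map_injective_of_injective (S i).injective_subtype (h.trans (Submodule.map_bot _).symm))
    · exact Or.inr (Submodule.map_injective_of_injective (S i).injective_subtype
        (h.trans (Submodule.map_subtype_top _).symm))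
  have hEC : ∀ i (w : S i), ∑ h : ↥(Subgroup.centralizer ((P : Subgroup G) : Set G)),
      rd hM red (blockCoeff B (h : G)) • σ i ⟨h, Subgroup.centralizer_le_normalizer _ h.2⟩ w = w := by
    intro i w
    refine Subtype.ext ?_
    have h1 := LinearMap.congr_fun (hz1 i) (w : _ → k)
    rw [Module.End.mul_apply, hSE i w w.2] at h1
    conv_rhs => rw [← h1]
    rw [opOf, LinearMap.sum_apply, AddSubmonoidClass.coe_finset_sum]
    simp only [hzC, coeff_ofFun, LinearMap.smul_apply, Submodule.coe_smul]
    symm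
    rw [Finset.sum_congr rfl fun q _ => by
      rw [rd_sum hM red _ _ (fun c _ => by
        split_ifs
        · exact blockCoeff_mem hM hind.2.1 _
        · exact (localRing hM).zero_mem), Finset.sum_smul], Finset.sum_comm]
    refine Finset.sum_congr rfl fun c _ => ?_
    rw [Finset.sum_eq_single (mk ⟨c, Subgroup.centralizer_le_normalizer _ c.2⟩)
      (fun q _ hq => by rw [if_neg hq.symm, rd_zero, zero_smul]) (fun h => absurd (Finset.mem_univ _) h),
      if_pos rfl]
    rfl
  have hdisj : ∀ i j, i ≠ j → ∀ L : S i →ₗ[k] S j, (∀ n w, L (σ i n w) = σ j n (L w)) → L = 0 := by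
    intro i j hij L hL
    refine LinearMap.ext fun w => Subtype.ext ?_
    have e1 : w = ∑ q, rd hM red ((idem {Φ i}).coeff q) • σ i q.out w := Subtype.ext (by
      conv_lhs => rw [← hSE i w w.2]
      simp only [hE, opOf, LinearMap.sum_apply, LinearMap.smul_apply, AddSubmonoidClass.coe_finset_sum,
        Submodule.coe_smul]
      refine Finset.sum_congr rfl fun q _ => congrArg _ ?_
      show _ = transl k _ (mk q.out) (w : _ → k)
      rw [show mk q.out = q from QuotientGroup.out_eq' q])
    have e2 : ((L w : S j) : _ → k) = E i (L w : _ → k) := by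
      conv_lhs => rw [e1]
      simp only [map_sum, map_smul, hL, hE, opOf, LinearMap.sum_apply, LinearMap.smul_apply,
        AddSubmonoidClass.coe_finset_sum, Submodule.coe_smul]
      refine Finset.sum_congr rfl fun q _ => congrArg _ ?_
      show transl k _ (mk q.out) _ = _
      rw [show mk q.out = q from QuotientGroup.out_eq' q]
    rw [e2, ← hSE j _ (L w).2, ← Module.End.mul_apply, hEne i j hij]
    rfl
  haveI : ∀ i, Nontrivial (S i) := fun i => (hirrσ i).1
  choose V i1 i2 i3 ρ hirr f hf using fun i => exists_bad_irred hP (σ i) (hσ i)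
  set T : Fin e → ({g : G // ¬ p ∣ orderOf g} → k) := fun i g => LinearMap.trace k (V i) (ρ i g) with hT
  have hli : LinearIndependent k T := by
    rw [Fintype.linearIndependent_iff]
    intro a ha
    have h0 := trace_independent V ρ hirr (fun i j hij φ hφ => by
      by_contra hne
      obtain ⟨L, hL0, hL⟩ := exists_intertwiner_hom hP (σ j) (hσ j) (hirrσ j) (hirr i) (hirr j) φ hφ hne
        (hf j) (hσ i) (hf i)
      exact hL0 (hdisj i j hij L hL))
      a (fun g => by
        obtain ⟨x, r, rfl, hxr, hxp, hr⟩ := exists_pPart hp.out g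
        simp only [trace_mul_pElement (ρ _) hxp hxr]
        have := congrFun ha ⟨r, hr⟩
        simpa [hT] using this)
    exact fun i => congrFun h0 i
  have hsub : Set.range T ⊆ (Submodule.span k (Ψ : Set ({g : G // ¬ p ∣ orderOf g} → k)) :
      Set ({g : G // ¬ p ∣ orderOf g} → k)) := by
    rintro _ ⟨i, rfl⟩
    obtain ⟨c, hc⟩ := trace_mem_block hP hM red hred hind.2.1 (hσ i) (hEC i) (hirr i) (hf i)
    have e0 : T i = ∑ χ : IrrCharacter G, if χ ∈ B then
        c χ • (fun g : {g : G // ¬ p ∣ orderOf g} => rd hM red ((χ : G → ℂ) g)) else 0 := by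
      funext g
      rw [hT, Finset.sum_apply]
      show LinearMap.trace k (V i) (ρ i g) = _
      rw [hc g]
      refine Finset.sum_congr rfl fun χ _ => ?_
      split_ifs <;> simp
    rw [e0]
    refine Submodule.sum_mem _ fun χ _ => ?_
    split_ifs with h
    · exact Submodule.smul_mem _ _ (hspan χ h)
    · exact Submodule.zero_mem _
  haveI : FiniteDimensional k (Submodule.span k (Ψ : Set ({g : G // ¬ p ∣ orderOf g} → k))) :=
    FiniteDimensional.span_finset k Ψ
  calc e = Module.finrank k (Submodule.span k (Set.range T)) := by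
        rw [finrank_span_eq_card hli, Fintype.card_fin]
    _ ≤ Module.finrank k (Submodule.span k (Ψ : Set ({g : G // ¬ p ∣ orderOf g} → k))) :=
        Submodule.finrank_mono (Submodule.span_le.2 hsub)
    _ ≤ Ψ.card := finrank_span_finset_le_card Ψ

end Cfsg.Agent.BlockDefectOneBound86
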