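import Cfsg.Agent.Lib.BlockDefectOneBlock86

/-!
Degrees of the characters of a block with defect group of order `p`.
-/

set_option autoImplicit false

open scoped ComplexConjugate IsMulCommutative

namespace Cfsg.Agent.BlockDefectOneCount86

open Cfsg Cfsg.Agent.BlockTheoryCentre Cfsg.Agent.CharBasic
  Cfsg.Agent.BlockAbelianSylow86 Cfsg.Agent.BlockDefectOneLocal86 Cfsg.Agent.BlockDefectOneBound86
  Cfsg.Agent.BlockDefectOneBlock86

attribute [local instance] Classical.propDecidable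

universe u

variable {G : Type u} [Group G] [Fintype G] {p : ℕ} [Fact p.Prime] {M : Ideal AlgInt}
  {P : Sylow p G} {U : Subgroup G} (hP : Nat.card (P : Subgroup G) = p) (hU : RegPart P U)

include hP hU

theorem card_centralizer :
    Nat.card ↥(Subgroup.centralizer ((P : Subgroup G) : Set G)) = p * Nat.card U := by
  haveI := BlockPrime86.comm_P hP
  rw [← Nat.card_congr (Equiv.ofBijective _ (DefectOneSign7.prodC_bijective hP hU)), Nat.card_prod, hP]

/-- The number of conjugates times the inertia index is the index of `C(P)` in `N(P)`. -/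
theorem orbit_mul_index (η : IrrCharacter U) :
    (orbit hU η).card * Nat.card (autE hU η) =
      (Subgroup.centralizer ((P : Subgroup G) : Set G)).relIndex
        (Subgroup.normalizer ((P : Subgroup G) : Set G)) := by
  have h1 := card_orbit hU η
  rw [← card_autE hP hU η, ← card_centralizer hP hU] at h1
  have h2 := ((Subgroup.centralizer ((P : Subgroup G) : Set G)).subgroupOf
    (Subgroup.normalizer ((P : Subgroup G) : Set G))).card_mul_index
  rw [Nat.card_congr (Subgroup.subgroupOfEquivOfLe (Subgroup.centralizer_le_normalizer _)).toEquiv,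
    ← h1, ← mul_assoc, mul_comm] at h2
  exact (Nat.eq_of_mul_eq_mul_right Nat.card_pos h2).symm

variable [IsMulCommutative ↥(P : Subgroup G)] [Fintype ↥(P : Subgroup G)]
  [Fintype (↥(P : Subgroup G) →* ℂˣ)]

/-- The degree of a character with constant coefficient. -/
theorem degree_const (hM : IsPModular p M) {η : IrrCharacter U} {B : Set (IrrCharacter G)}
    (hind : IsInducedBlock M (Subgroup.centralizer ((P : Subgroup G) : Set G))
      (blockOf M (ext hP hU η : _ → ℂ)) B) {χ : IrrCharacter G} (hχ : χ ∈ B) {a : ℤ}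
    (ha : ∀ y : ↥(P : Subgroup G), y ≠ 1 → cval η (χ : G → ℂ) (y : G) = (a : ℂ)) :
    (charDegree (χ : G → ℂ) : ℤ) ≡
      a * (((orbit hU η).card * charDegree (η : U → ℂ) : ℕ) : ℤ) [ZMOD p] := by
  refine DefectOneShape7.degree_congr hP χ _ fun y hy hy1 => ?_
  have h := value hP hU hM hind hχ hy hy1 1
  rw [OneMemClass.coe_one, mul_one] at h
  rw [h, Finset.sum_congr rfl (g := fun _ => (a : ℂ) * (charDegree (η : U → ℂ) : ℂ)),
    Finset.sum_const, nsmul_eq_mul]
  · push_cast; ring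
  intro η' hη'
  rw [orbit_apply_one hU hη', ← ClassAlgebraVal.apply_one_eq_charDegree]
  obtain ⟨n, rfl⟩ := (mem_orbit hU).1 hη'
  rw [← cval_conj hU η χ n y,
    ha ⟨_, (Subgroup.mem_normalizer_iff.1 n.2 y).1 hy⟩ fun e => hy1 (by
      have := congrArg Subtype.val e
      simpa using this)]

/-- The two families of a block with their degrees. -/
theorem exists_degrees (hM : IsPModular p M) {η : IrrCharacter U} {B : Set (IrrCharacter G)}
    (hind : IsInducedBlock M (Subgroup.centralizer ((P : Subgroup G) : Set G))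
      (blockOf M (ext hP hU η : _ → ℂ)) B) :
    ∃ X Y a ε d δ ζ, BlockDefectOneShape86.Shape (autE hU η) (Finset.univ.filter (· ∈ B))
      (fun (χ : IrrCharacter G) (y : ↥(P : Subgroup G)) => cval η (χ : G → ℂ) (y : G))
      (fun (χ : IrrCharacter G) (g : {g : G // ¬ p ∣ orderOf g}) => (χ : G → ℂ) g)
      p X Y a ε d δ ζ ∧
    (∀ χ ∈ X, (charDegree (χ : G → ℂ) : ℤ) ≡
      a χ * (((orbit hU η).card * charDegree (η : U → ℂ) : ℕ) : ℤ) [ZMOD p]) ∧
    ∀ ψ ∈ Y, (charDegree (ψ : G → ℂ) : ℤ) ≡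
      ε * (((Subgroup.centralizer ((P : Subgroup G) : Set G)).relIndex
        (Subgroup.normalizer ((P : Subgroup G) : Set G)) * charDegree (η : U → ℂ) : ℕ) : ℤ)
        [ZMOD p] := by
  obtain ⟨X, Y, a, ε, d, δ, ζ, S⟩ := exists_data hP hU hM hind
  have hX : ∀ χ ∈ X, (charDegree (χ : G → ℂ) : ℤ) ≡
      a χ * (((orbit hU η).card * charDegree (η : U → ℂ) : ℕ) : ℤ) [ZMOD p] := fun χ hχ =>
    degree_const hP hU hM hind (Finset.mem_filter.1 ((S.block χ).2 (Or.inl hχ))).2 (S.valX χ hχ)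
  refine ⟨X, Y, a, ε, d, δ, ζ, S, hX, fun ψ hψ => ?_⟩
  have h1 : (ε : ℂ) * (ψ : G → ℂ) 1 = ∑ χ ∈ X, (a χ : ℂ) * (χ : G → ℂ) 1 :=
    S.regular ψ hψ ⟨1, by rw [orderOf_one, Nat.dvd_one]; exact hM.1.ne_one⟩
  simp only [ClassAlgebraVal.apply_one_eq_charDegree] at h1
  have h2 : ε * (charDegree (ψ : G → ℂ) : ℤ) = ∑ χ ∈ X, a χ * (charDegree (χ : G → ℂ) : ℤ) :=
    Int.cast_injective (α := ℂ) (by push_cast; exact h1)
  have h3 : ∑ χ ∈ X, a χ * (charDegree (χ : G → ℂ) : ℤ) ≡
      ∑ χ ∈ X, a χ * (a χ * (((orbit hU η).card * charDegree (η : U → ℂ) : ℕ) : ℤ)) [ZMOD p] :=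
    Int.ModEq.sum fun χ hχ => (hX χ hχ).mul_left _
  rw [Finset.sum_congr rfl (fun χ hχ => show a χ * (a χ * _) = _ by
    rcases S.signX χ hχ with h | h <;> rw [h] <;> simp), Finset.sum_const, S.cardX, nsmul_eq_mul,
    ← h2] at h3
  rw [← orbit_mul_index hP hU η]
  have h4 := h3.mul_left ε
  rw [← mul_assoc, show ε * ε = 1 by rcases S.sign with h | h <;> rw [h] <;> rfl, one_mul] at h4
  refine h4.trans ?_
  push_cast
  ring_nf
  rfl

end Cfsg.Agent.BlockDefectOneCount86
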