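import Mathlib
import Cfsg.Agent.Lib.SectionOrth79
import Cfsg.Agent.Lib.BlockTheoryDefect
import Cfsg.Agent.Lib.BlockContribBounds

/-!
# 2-blocks of defect one, and representatives of the classes of `p`-elements
-/

set_option autoImplicit false

open scoped ComplexConjugate

namespace Cfsg.Agent.BlockDefectOneTwo79

open Cfsg BlockTheoryLocalRing BlockTheoryCentre BlockTheoryIdem BlockContribPrime BlockContrib
  BlockSubsections79

attribute [local instance] Classical.propDecidable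

universe u

variable {M : Ideal AlgInt} {G : Type u} [Group G] [Fintype G]

/-- Representatives of the classes of `p`-elements containing two given ones. -/
theorem exists_reps {p : ℕ} {x : G} (hx : ∃ k : ℕ, orderOf x = p ^ k) :
    ∃ X : Finset G, (∀ g ∈ X, ∃ k : ℕ, orderOf g = p ^ k) ∧
      (∀ g : G, (∃ k : ℕ, orderOf g = p ^ k) → ∃! y, y ∈ X ∧ IsConj g y) ∧ (1 : G) ∈ X ∧ x ∈ X ∨ x = 1 := by
  by_cases hx1 : x = 1
  · exact ⟨∅, Or.inr hx1⟩
  let r : ConjClasses G → G := fun C =>
    if C = ConjClasses.mk 1 then 1 else if C = ConjClasses.mk x then x else C.out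
  have hr : ∀ C, ConjClasses.mk (r C) = C := by
    intro C
    simp only [r]
    split_ifs with h1 h2
    · exact h1.symm
    · exact h2.symm
    · exact Quotient.out_eq C
  have hord : ∀ {g h : G}, IsConj g h → orderOf g = orderOf h := by
    intro g h hc
    obtain ⟨c, rfl⟩ := isConj_iff.1 hc
    rw [show c * g * c⁻¹ = MulAut.conj c g from rfl, MulEquiv.orderOf_eq]
  refine ⟨Finset.univ.filter fun g => (∃ k : ℕ, orderOf g = p ^ k) ∧ r (ConjClasses.mk g) = g, Or.inl ⟨?_, ?_, ?_, ?_⟩⟩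
  · intro g hg; exact (Finset.mem_filter.1 hg).2.1
  · intro g hg
    have hc : IsConj g (r (ConjClasses.mk g)) :=
      ConjClasses.mk_eq_mk_iff_isConj.1 (hr _).symm
    refine ⟨r (ConjClasses.mk g), ⟨Finset.mem_filter.2 ⟨Finset.mem_univ _, ?_, by rw [hr]⟩, hc⟩, ?_⟩
    · rwa [← hord hc]
    · rintro y ⟨hy, hgy⟩
      rw [← (Finset.mem_filter.1 hy).2.2, ConjClasses.mk_eq_mk_iff_isConj.2 hgy]
  · exact Finset.mem_filter.2 ⟨Finset.mem_univ _, ⟨0, by simp⟩, by simp [r]⟩
  · refine Finset.mem_filter.2 ⟨Finset.mem_univ _, hx, ?_⟩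
    have hne : ConjClasses.mk x ≠ ConjClasses.mk (1 : G) := fun h =>
      hx1 (isConj_one_left.1 (ConjClasses.mk_eq_mk_iff_isConj.1 h))
    show (if ConjClasses.mk x = ConjClasses.mk 1 then 1
      else if ConjClasses.mk x = ConjClasses.mk x then x else (ConjClasses.mk x).out) = x
    rw [if_neg hne, if_pos rfl]

theorem regPart_ne_zero {p : ℕ} (hp : p.Prime) (ψ : IrrCharacter G) : pRegularPart p (ψ : G → ℂ) ≠ 0 := by
  intro h
  have h1 := congrFun h 1
  simp only [pRegularPart, IsPRegular, orderOf_one, Pi.zero_apply, Nat.dvd_one, hp.ne_one,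
    not_false_eq_true, if_true] at h1
  exact CharAverage.irr_one_ne_zero ψ h1

theorem one_le_blockRank {p : ℕ} (hM : IsPModular p M) {b : Set (IrrCharacter G)} (hb : IsPBlock M b) :
    1 ≤ blockRank p b := by
  obtain ⟨ψ, hψ⟩ := block_nonempty hM hb
  have : Nontrivial (regSpan p b) := ⟨⟨_, Submodule.subset_span ⟨ψ, hψ, rfl⟩⟩, 0, fun h =>
    regPart_ne_zero hM.1 ψ (congrArg Subtype.val h)⟩
  exact Module.finrank_pos (R := ℂ) (M := regSpan p b)

/-- Some block of `C(1)` induces a given block. -/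
theorem exists_induced_one {p : ℕ} (hM : IsPModular p M) {B : Set (IrrCharacter G)} (hB : IsPBlock M B) :
    ∃ b, IsInducedBlock M (Subgroup.centralizer ({(1 : G)} : Set G)) b B := by
  obtain ⟨χ, hχ⟩ := block_nonempty hM hB
  set C := Subgroup.centralizer ({(1 : G)} : Set G)
  have hsurj : Function.Surjective C.subtype := fun g =>
    ⟨⟨g, Subgroup.mem_centralizer_singleton_iff.2 (by simp)⟩, rfl⟩
  let ψ : IrrCharacter C := ⟨(χ : G → ℂ) ∘ C.subtype, CharBasic.isIrrCharacter_comap C.subtype hsurj χ.2⟩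
  obtain ⟨B', hB'⟩ := inducedBlockDefined_centralizer hM (x := (1 : G)) ⟨0, by simp⟩
    (isPBlock_blockOf (M := M) ψ)
  refine ⟨blockOf M (ψ : C → ℂ), ?_⟩
  suffices B' = B by rwa [this] at hB'
  by_contra hne
  have h := proj_sec_eq_zero hM (x := (1 : G)) ⟨0, by simp⟩ hB'
    (fun hm => hne (block_eq_of_mem hM hB'.2.1 hB hm hχ))
  rw [show sec (1 : G) (χ : G → ℂ) = (ψ : C → ℂ) from funext fun y => by simp [sec, ψ, C],
    proj_irr, if_pos (self_mem_blockOf hM ψ)] at h
  exact regPart_ne_zero hM.1 ψ h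

/-- The members of a 2-block of defect one. -/
theorem defect_one (hM : IsPModular 2 M) {B : Set (IrrCharacter G)} (hB : IsPBlock M B)
    (hd : blockDefect 2 B = 1) :
    Nat.card B = 2 ∧ (∀ χ ∈ B, ∀ ψ ∈ B, ∀ g : G, ¬ 2 ∣ orderOf g → (χ : G → ℂ) g = (ψ : G → ℂ) g) ∧
      ∀ χ ∈ B, 2 * pair 2 (χ : G → ℂ) χ = (Nat.card G : ℂ) := by
  have h0 : ∀ χ ∈ B, blockHeight 2 B (χ : G → ℂ) = 0 := fun χ hχ => by
    by_contra h
    have := BlockContribBounds.height_add_two_le hM hB hχ (Nat.pos_of_ne_zero h)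
    omega
  have hcard : Nat.card B ≤ 2 := by
    refine (BlockContribBounds.card_le hM hB).trans ?_
    rw [hd]; norm_num
  have key : ∀ χ ∈ B, ∃ ψ ∈ B, ψ ≠ χ ∧ contrib 2 B χ χ = 1 ∧
      (contrib 2 B χ ψ = 1 ∨ contrib 2 B χ ψ = -1) ∧ ∀ ξ ∈ B, ξ = χ ∨ ξ = ψ := by
    intro χ hχ
    have hsq := sum_contrib_sq hM hB hχ
    rw [hd, BlockContribBounds.filter_eq_members] at hsq
    have hm : χ ∈ BlockContribBounds.members B := BlockContribBounds.mem_members.2 hχ
    rw [← Finset.add_sum_erase _ _ hm] at hsq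
    have hpos := contrib_self_pos (G := G) hM.1 hχ (B := B)
    obtain ⟨ψ, hψ⟩ : ((BlockContribBounds.members B).erase χ).Nonempty := by
      by_contra he
      rw [Finset.not_nonempty_iff_eq_empty.1 he, Finset.sum_empty, add_zero] at hsq
      refine contrib_not_dvd hM hB hχ (h0 χ hχ) hχ ?_
      rw [h0 χ hχ]
      have : contrib 2 B χ χ = 2 := by
        have h2 : contrib 2 B χ χ * (contrib 2 B χ χ - 2) = 0 := by linear_combination hsq
        rcases mul_eq_zero.1 h2 with h2 | h2 <;> omega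
      rw [this]
      norm_num
    have hψB := BlockContribBounds.mem_members.1 (Finset.mem_of_mem_erase hψ)
    have hall : (BlockContribBounds.members B).erase χ = {ψ} := by
      refine (Finset.eq_of_subset_of_card_le (Finset.singleton_subset_iff.2 hψ) ?_).symm
      rw [Finset.card_erase_of_mem hm, ← BlockContribBounds.card_members, Finset.card_singleton]
      omega
    rw [hall, Finset.sum_singleton] at hsq
    have hne := contrib_ne_zero hM hB hχ (h0 χ hχ) hψB
    have h1 : contrib 2 B χ χ = 1 := by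
      have : (contrib 2 B χ χ - 1) ^ 2 + contrib 2 B χ ψ ^ 2 = 1 := by linear_combination hsq
      nlinarith [sq_pos_of_ne_zero hne, sq_nonneg (contrib 2 B χ χ - 1)]
    refine ⟨ψ, hψB, Finset.ne_of_mem_erase hψ, h1, sq_eq_one_iff.1 (by rw [h1] at hsq; norm_num at hsq; linarith), fun ξ hξ => ?_⟩
    by_cases he : ξ = χ
    · exact Or.inl he
    · refine Or.inr (Finset.mem_singleton.1 (hall ▸ Finset.mem_erase.2 ⟨he, BlockContribBounds.mem_members.2 hξ⟩))
  obtain ⟨χ₀, hχ₀⟩ := block_nonempty hM hB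
  have hcard2 : Nat.card B = 2 := by
    obtain ⟨ψ, hψ, hne, -, -, -⟩ := key χ₀ hχ₀
    refine le_antisymm hcard ?_
    rw [BlockContribBounds.card_members]
    exact Finset.one_lt_card.2 ⟨ψ, BlockContribBounds.mem_members.2 hψ, χ₀, BlockContribBounds.mem_members.2 hχ₀, hne⟩
  have hscale : (Nat.card G : ℂ) = 2 * ((cofactor 2 G : ℂ) * (2 : ℂ) ^ minExp 2 B) := by
    have hd' := minExp_add_defect hM hB
    rw [hd] at hd'
    rw [mul_comm (cofactor 2 G : ℂ), ← mul_assoc, ← pow_succ', hd']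
    exact_mod_cast (pow_mul_cofactor (G := G) 2).symm
  have hpair : ∀ χ ∈ B, 2 * pair 2 (χ : G → ℂ) χ = (Nat.card G : ℂ) := by
    intro χ hχ
    obtain ⟨-, -, -, h1, -, -⟩ := key χ hχ
    rw [pair_eq_contrib hM.1 χ hχ (B := B), h1, hscale]
    push_cast
    ring
  refine ⟨hcard2, fun χ hχ ξ hξ g hg => ?_, hpair⟩
  obtain ⟨ψ, hψ, -, h1, hn, hall⟩ := key χ hχ
  rcases hall ξ hξ with rfl | rfl
  · rfl
  obtain ⟨-, -, -, h2, -, -⟩ := key ξ hξ
  set n : ℤ := contrib 2 B χ ξ with hn'
  have hn2 : (n : ℂ) * n = 1 := by rcases hn with h | h <;> rw [h] <;> norm_num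
  set s := (cofactor 2 G : ℂ) * (2 : ℂ) ^ minExp 2 B with hs
  have p11 : pair 2 (χ : G → ℂ) χ = s := by
    rw [pair_eq_contrib hM.1 χ hχ (B := B), h1, hs]; push_cast; ring
  have p22 : pair 2 (ξ : G → ℂ) ξ = s := by
    rw [pair_eq_contrib hM.1 ξ hξ (B := B), h2, hs]; push_cast; ring
  have p12 : pair 2 (χ : G → ℂ) ξ = s * n := by
    rw [pair_eq_contrib hM.1 χ hξ (B := B), hs, hn']; push_cast; ring
  have p21 : pair 2 (ξ : G → ℂ) χ = s * n := by rw [pair_comm, p12]
  let d : G → ℂ := fun y => (χ : G → ℂ) y - (n : ℂ) * (ξ : G → ℂ) y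
  have hzero : pair 2 d d = 0 := by
    have e : pair 2 d d = pair 2 (χ : G → ℂ) χ - (n : ℂ) * pair 2 (χ : G → ℂ) ξ -
        (n : ℂ) * pair 2 (ξ : G → ℂ) χ + (n : ℂ) * (n : ℂ) * pair 2 (ξ : G → ℂ) ξ := by
      simp only [pair, regSum_eq, Finset.mul_sum, ← Finset.sum_sub_distrib, ← Finset.sum_add_distrib, d]
      refine Finset.sum_congr rfl fun y _ => ?_
      split_ifs
      · simp
      · simp only [map_sub, map_mul, map_intCast]; ring
    rw [e, p11, p12, p21, p22]
    linear_combination (-s) * hn2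
  have hd0 : ∀ y : G, ¬ 2 ∣ orderOf y → d y = 0 := by
    intro y hy
    have hre := congrArg Complex.re hzero
    simp only [pair, regSum_eq, Complex.re_sum, Complex.zero_re] at hre
    have := (Finset.sum_eq_zero_iff_of_nonneg fun t _ => ?_).1 hre y (Finset.mem_univ _)
    · rw [if_pos hy, ← Complex.normSq_eq_conj_mul_self, Complex.ofReal_re, Complex.normSq_eq_zero] at this
      exact this
    · split_ifs
      · simp
      · rw [← Complex.normSq_eq_conj_mul_self, Complex.ofReal_re]; exact Complex.normSq_nonneg _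
  have hn1 : (n : ℂ) = 1 := by
    rcases hn with h | h
    · rw [h]; norm_num
    · exfalso
      have := hd0 1 (by simp)
      simp only [d, h, CharAverage.irr_apply_one] at this
      push_cast at this
      have h3 : charDegree (χ : G → ℂ) + charDegree (ξ : G → ℂ) = 0 := by
        have : ((charDegree (χ : G → ℂ) + charDegree (ξ : G → ℂ) : ℕ) : ℂ) = 0 := by push_cast; linear_combination this
        exact_mod_cast this
      have := CharAverage.irr_degree_pos χ
      omega
  have := hd0 g hg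
  simp only [d, hn1, one_mul, sub_eq_zero] at this
  exact this

end Cfsg.Agent.BlockDefectOneTwo79
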