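import Cfsg.Prelude.Def_BrauerPairs
import Cfsg.Agent.Lib.BlockTheoryBrauer

/-!
Brauer pairs: transport along isomorphisms and the truncation maps modulo the maximal ideal.
-/

namespace Cfsg.Agent.BrauerPairs81Base

open Cfsg Cfsg.Agent.BlockTheoryLocalRing Cfsg.Agent.BlockTheoryCentre
open Cfsg.Agent.BlockTheoryIdem Cfsg.Agent.BlockTheoryBrauer Cfsg.Agent.CharBasic
open scoped ComplexConjugate

set_option linter.unusedSectionVars false

attribute [local instance] Classical.propDecidable

/-! ### Transport along isomorphisms -/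

section Transport

variable {H K : Type*} [Group H] [Group K] (e : H ≃* K)

/-- Transport of an irreducible character. -/
noncomputable def pushChar : IrrCharacter H ≃ IrrCharacter K where
  toFun χ := ⟨(χ : H → ℂ) ∘ e.symm.toMonoidHom, isIrrCharacter_comap _ e.symm.surjective χ.2⟩
  invFun χ := ⟨(χ : K → ℂ) ∘ e.toMonoidHom, isIrrCharacter_comap _ e.surjective χ.2⟩
  left_inv χ := by ext x; simp
  right_inv χ := by ext x; simp

theorem pushChar_apply (χ : IrrCharacter H) (x : H) :
    (pushChar e χ : K → ℂ) (e x) = (χ : H → ℂ) x := by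
  show (χ : H → ℂ) (e.symm (e x)) = _
  rw [MulEquiv.symm_apply_apply]

/-- Transport of a set of irreducible characters. -/
def pushSet (B : Set (IrrCharacter H)) : Set (IrrCharacter K) := pushChar e '' B

theorem card_centralizer_singleton (x : H) :
    Nat.card (Subgroup.centralizer ({e x} : Set K)) =
      Nat.card (Subgroup.centralizer ({x} : Set H)) := by
  refine (Nat.card_congr (e.toEquiv.subtypeEquiv fun y => ?_)).symm
  rw [Subgroup.mem_centralizer_singleton_iff, Subgroup.mem_centralizer_singleton_iff,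
    show e.toEquiv y = e y from rfl, ← map_mul, ← map_mul, e.injective.eq_iff]

theorem index_centralizer_singleton [Finite H] (x : H) :
    (Subgroup.centralizer ({e x} : Set K)).index =
      (Subgroup.centralizer ({x} : Set H)).index := by
  have := Finite.of_equiv H e.toEquiv
  refine Nat.eq_of_mul_eq_mul_left (Nat.card_pos (α := Subgroup.centralizer ({x} : Set H))) ?_
  rw [Subgroup.card_mul_index, ← card_centralizer_singleton e x, Subgroup.card_mul_index,
    Nat.card_congr e.toEquiv]

variable [Finite H]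

theorem centralChar_push (χ : IrrCharacter H) (x : H) :
    centralChar (pushChar e χ : K → ℂ) (e x) = centralChar (χ : H → ℂ) x := by
  rw [centralChar, centralChar, index_centralizer_singleton, pushChar_apply,
    ← map_one e, pushChar_apply]

variable {M : Ideal AlgInt}

theorem sameBlock_push (χ ψ : IrrCharacter H) :
    SameBlock M (pushChar e χ : K → ℂ) (pushChar e ψ : K → ℂ) ↔
      SameBlock M (χ : H → ℂ) (ψ : H → ℂ) := by
  refine ⟨fun h x => ?_, fun h y => ?_⟩
  · have := h (e x)
    rwa [centralChar_push, centralChar_push] at this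
  · obtain ⟨x, rfl⟩ := e.surjective y
    rw [centralChar_push, centralChar_push]
    exact h x

theorem isPBlock_push {B : Set (IrrCharacter H)} (hB : IsPBlock M B) :
    IsPBlock M (pushSet e B) := by
  obtain ⟨χ, rfl⟩ := hB
  refine ⟨pushChar e χ, Set.ext fun ψ => ?_⟩
  obtain ⟨ψ, rfl⟩ := (pushChar e).surjective ψ
  rw [pushSet, (pushChar e).injective.mem_set_image]
  exact (sameBlock_push e χ ψ).symm

theorem blockCoeff_push (B : Set (IrrCharacter H)) (x : H) :
    blockCoeff (pushSet e B) (e x) = blockCoeff B x := by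
  rw [blockCoeff, blockCoeff, ← Nat.card_congr e.toEquiv, pushSet,
    finsum_mem_image (pushChar e).injective.injOn]
  congr 1
  refine finsum_mem_congr rfl fun χ _ => ?_
  rw [pushChar_apply, ← map_one e, pushChar_apply]

theorem isDefectClass_push {B : Set (IrrCharacter H)} {x : H} (h : IsDefectClass M B x) :
    IsDefectClass M (pushSet e B) (e x) := by
  refine ⟨?_, ?_, ?_⟩
  · rw [blockCoeff_push]; exact h.1
  · rw [blockCoeff_push]; exact h.2.1
  · rintro _ ⟨χ, hχ, rfl⟩
    rw [centralChar_push]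
    exact h.2.2 χ hχ

end Transport

/-- Defect groups through orders. -/
theorem isDefectGroup_iff {p : ℕ} [Fact p.Prime] {M : Ideal AlgInt} {G : Type*} [Group G]
    [Finite G] {B : Set (IrrCharacter G)} {D : Subgroup G} :
    IsDefectGroup p M B D ↔ ∃ g, IsDefectClass M B g ∧
      D ≤ Subgroup.centralizer ({g} : Set G) ∧
      Nat.card D = p ^ (Nat.card (Subgroup.centralizer ({g} : Set G))).factorization p := by
  constructor
  · rintro ⟨g, hg, P, rfl⟩
    refine ⟨g, hg, Subgroup.map_subtype_le _, ?_⟩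
    rw [← Nat.card_congr ((P : Subgroup (Subgroup.centralizer ({g} : Set G))).equivMapOfInjective _
      (Subgroup.subtype_injective _)).toEquiv, P.card_eq_multiplicity]
  · rintro ⟨g, hg, hle, hc⟩
    refine ⟨g, hg, Sylow.ofCard (D.subgroupOf _) ?_, ?_⟩
    · rw [Nat.card_congr (Subgroup.subgroupOfEquivOfLe hle).toEquiv, hc]
    · exact (Subgroup.map_subgroupOf_eq_of_le hle).symm

theorem isDefectGroup_push {p : ℕ} [Fact p.Prime] {M : Ideal AlgInt} {H K : Type*} [Group H]
    [Group K] [Finite H] [Finite K] (e : H ≃* K) {B : Set (IrrCharacter H)} {D : Subgroup H}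
    (h : IsDefectGroup p M B D) : IsDefectGroup p M (pushSet e B) (D.map e.toMonoidHom) := by
  obtain ⟨g, hg, hle, hc⟩ := isDefectGroup_iff.mp h
  refine isDefectGroup_iff.mpr ⟨e g, isDefectClass_push e hg, ?_, ?_⟩
  · rintro _ ⟨d, hd, rfl⟩
    have := Subgroup.mem_centralizer_singleton_iff.mp (hle hd)
    rw [Subgroup.mem_centralizer_singleton_iff]
    show e d * e g = e g * e d
    rw [← map_mul, this, map_mul]
  · rw [card_centralizer_singleton, ← hc]
    exact (Nat.card_congr (D.equivMapOfInjective _ e.injective).toEquiv).symm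

variable {p : ℕ} {M : Ideal AlgInt} {G : Type*} [Group G] [Fintype G]

theorem idem_injective {A B : Set (IrrCharacter G)} (h : idem A = idem B) : A = B := by
  ext χ
  have := congrArg (omega (χ : G → ℂ)) h
  rw [omega_idem, omega_idem] at this
  by_cases hA : χ ∈ A <;> by_cases hB : χ ∈ B <;> simp_all

/-- The blocks. -/
noncomputable def blockSet (M : Ideal AlgInt) (H : Type*) [Group H] [Finite H] :
    Finset (Set (IrrCharacter H)) :=
  (Set.toFinite {B : Set (IrrCharacter H) | IsPBlock M B}).toFinset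

theorem mem_blockSet {B : Set (IrrCharacter G)} : B ∈ blockSet M G ↔ IsPBlock M B := by
  simp [blockSet]

/-- The block idempotents sum to one. -/
theorem sum_idem_blockSet (hM : IsPModular p M) :
    ∑ B ∈ blockSet M G, idem B = (1 : MonoidAlgebra ℂ G) := by
  refine ext_omega ?_ isCen_one fun χ => ?_
  · exact Finset.sum_induction _ _ (fun _ _ => IsCen.add) isCen_zero fun B _ => isCen_idem B
  rw [map_sum, omega_one, Finset.sum_eq_single (blockOf M (χ : G → ℂ))]
  · rw [omega_idem, if_pos (self_mem_blockOf hM χ)]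
  · intro B hB hne
    rw [omega_idem, if_neg fun h => hne (eq_blockOf_of_mem hM (mem_blockSet.mp hB) h)]
  · intro h; exact absurd (mem_blockSet.mpr (isPBlock_blockOf χ)) h

theorem idem_mul_of_ne (hM : IsPModular p M) {A B : Set (IrrCharacter G)} (hA : IsPBlock M A)
    (hB : IsPBlock M B) (h : A ≠ B) : idem A * idem B = 0 := by
  rw [idem_mul_idem, show A ∩ B = ∅ from Set.eq_empty_iff_forall_notMem.mpr
    fun χ hχ => h (block_eq_of_mem hM hA hB hχ.1 hχ.2), idem_empty]

/-! ### Invariant elements and truncation -/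

/-- `z` is invariant under conjugation by `H`. -/
def InvBy (H : Subgroup G) (z : MonoidAlgebra ℂ G) : Prop :=
  ∀ u ∈ H, ∀ x, z.coeff (u * x * u⁻¹) = z.coeff x

theorem IsCen.invBy {z : MonoidAlgebra ℂ G} (hz : IsCen z) (H : Subgroup G) : InvBy H z :=
  fun u _ x => hz x u

theorem invBy_mono {H K : Subgroup G} (h : H ≤ K) {z : MonoidAlgebra ℂ G} (hz : InvBy K z) :
    InvBy H z := fun u hu => hz u (h hu)

theorem invBy_sub {H : Subgroup G} {z w : MonoidAlgebra ℂ G} (hz : InvBy H z) (hw : InvBy H w) :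
    InvBy H (z - w) := fun u hu x => by simp [hz u hu x, hw u hu x]

theorem invBy_smul {H : Subgroup G} {z : MonoidAlgebra ℂ G} (hz : InvBy H z) (c : ℂ) :
    InvBy H (c • z) := fun u hu x => by simp [hz u hu x]

theorem invBy_mul {H : Subgroup G} {z w : MonoidAlgebra ℂ G} (hz : InvBy H z) (hw : InvBy H w) :
    InvBy H (z * w) := by
  intro u hu x
  rw [coeff_mul_eq, coeff_mul_eq, ← Equiv.sum_comp (MulAut.conj u).toEquiv]
  refine Finset.sum_congr rfl fun y _ => ?_
  simp only [MulEquiv.toEquiv_eq_coe, MulEquiv.coe_toEquiv, MulAut.conj_apply]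
  rw [hz u hu, show (u * y * u⁻¹)⁻¹ * (u * x * u⁻¹) = u * (y⁻¹ * x) * u⁻¹ by group, hw u hu]

theorem invBy_pow {H : Subgroup G} {z : MonoidAlgebra ℂ G} (hz : InvBy H z) :
    ∀ n, InvBy H (z ^ n)
  | 0 => by rw [pow_zero]; exact IsCen.invBy isCen_one H
  | n + 1 => by rw [pow_succ]; exact invBy_mul (invBy_pow hz n) hz

/-- The centraliser of a subgroup. -/
abbrev Cen (P : Subgroup G) : Subgroup G := Subgroup.centralizer (P : Set G)

theorem isCen_res_of_invBy {H : Subgroup G} {z : MonoidAlgebra ℂ G} (hz : InvBy H z) :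
    IsCen (res H z) := fun g h => hz h h.2 g

theorem res_one (H : Subgroup G) : res H (1 : MonoidAlgebra ℂ G) = 1 := by
  refine MonoidAlgebra.ext ?_
  ext h
  simp [MonoidAlgebra.one_def, Finsupp.single_apply, eq_comm (a := (1 : G)),
    eq_comm (a := (1 : H))]

/-- Truncation to the centraliser of a `p`-group is multiplicative modulo the ideal. -/
theorem small_res_mul (hM : IsPModular p M) {P : Subgroup G} (hP : IsPGroup p P)
    {z w : MonoidAlgebra ℂ G} (hz : InvBy P z) (hw : InvBy P w) (hzi : IsInt M z)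
    (hwi : IsInt M w) :
    Small M (res (Cen P) (z * w) - res (Cen P) z * res (Cen P) w) := by
  intro x
  rw [MonoidAlgebra.coeff_sub, Finsupp.coe_sub, Pi.sub_apply, coeff_res, coeff_mul_eq,
    coeff_mul_eq]
  have h := ideal_sum_conj hM P hP (fun y => z.coeff y * w.coeff (y⁻¹ * x))
    (fun y => (localRing hM).mul_mem (hzi y) (hwi _)) fun u hu y => ?_
  · refine cast (congrArg (MemLocalIdeal M) ?_) h
    rw [eq_sub_iff_add_eq]
    have e : ∑ y : Cen P, (res (Cen P) z).coeff y * (res (Cen P) w).coeff (y⁻¹ * x) =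
        ∑ y : G, if y ∈ Cen P then z.coeff y * w.coeff (y⁻¹ * x) else 0 := by
      rw [← Finset.sum_filter, Finset.sum_subtype (F := inferInstance) (p := fun y => y ∈ Cen P)
        (Finset.univ.filter fun y => y ∈ Cen P) (fun y => by simp)]
      rfl
    rw [e, ← Finset.sum_add_distrib]
    exact Finset.sum_congr rfl fun y _ => by split_ifs <;> simp
  · have hc : u⁻¹ * (x : G) = (x : G) * u⁻¹ :=
      Subgroup.mem_centralizer_iff.mp x.2 u⁻¹ (inv_mem hu)
    have e : (u * y * u⁻¹)⁻¹ * (x : G) = u * (y⁻¹ * x) * u⁻¹ := by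
      simp only [mul_inv_rev, inv_inv, mul_assoc, hc]
    rw [e, hz u hu, hw u hu]

/-- The central character on the truncation. -/
noncomputable def phi (P : Subgroup G) (z : MonoidAlgebra ℂ G) (ξ : IrrCharacter (Cen P)) : ℂ :=
  omega (ξ : Cen P → ℂ) (res (Cen P) z)

theorem brauerOmega_eq_phi (P : Subgroup G) (β : G → ℂ) (ξ : IrrCharacter (Cen P)) :
    brauerOmega P β (ξ : Cen P → ℂ) = phi P (ofFun β) ξ := by
  rw [brauerOmega, finsum_eq_sum_of_fintype, phi, omega_eq_finsum]
  refine Finset.sum_congr rfl fun x _ => ?_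
  rw [coeff_res, coeff_ofFun]
  ring

theorem phi_mem (hM : IsPModular p M) {P : Subgroup G} {z : MonoidAlgebra ℂ G}
    (hz : InvBy (Cen P) z) (hzi : IsInt M z) (ξ : IrrCharacter (Cen P)) :
    MemLocalRing M (phi P z ξ) :=
  omega_mem_localRing hM ξ (isCen_res_of_invBy hz) (isInt_res _ hzi)

theorem phi_sub_mem (hM : IsPModular p M) {P : Subgroup G} {z : MonoidAlgebra ℂ G}
    (hz : InvBy (Cen P) z) (hzi : IsInt M z) {e : Set (IrrCharacter (Cen P))}
    (he : IsPBlock M e) {ξ η : IrrCharacter (Cen P)} (hξ : ξ ∈ e) (hη : η ∈ e) :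
    MemLocalIdeal M (phi P z ξ - phi P z η) :=
  omega_sub_mem hM (sameBlock_of_mem hM he hξ hη) (isCen_res_of_invBy hz) (isInt_res _ hzi)

theorem phi_mul (hM : IsPModular p M) {P : Subgroup G} (hP : IsPGroup p P)
    {z w : MonoidAlgebra ℂ G} (hz : InvBy P z) (hw : InvBy P w) (hz' : InvBy (Cen P) z)
    (hw' : InvBy (Cen P) w) (hzi : IsInt M z) (hwi : IsInt M w) (ξ : IrrCharacter (Cen P)) :
    MemLocalIdeal M (phi P (z * w) ξ - phi P z ξ * phi P w ξ) := by
  have := omega_ideal_of_small hM ξ ((isCen_res_of_invBy (invBy_mul hz' hw')).sub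
    ((isCen_res_of_invBy hz').mul (isCen_res_of_invBy hw')))
    (small_res_mul hM hP hz hw hzi hwi)
  rwa [map_sub, omega_mul ξ (isCen_res_of_invBy hz')] at this

theorem phi_one (P : Subgroup G) (ξ : IrrCharacter (Cen P)) :
    phi P (1 : MonoidAlgebra ℂ G) ξ = 1 := by
  rw [phi, res_one, omega_one]

theorem phi_pow (hM : IsPModular p M) {P : Subgroup G} (hP : IsPGroup p P)
    {z : MonoidAlgebra ℂ G} (hz : InvBy P z) (hz' : InvBy (Cen P) z) (hzi : IsInt M z)
    (ξ : IrrCharacter (Cen P)) :
    ∀ n, MemLocalIdeal M (phi P (z ^ n) ξ - phi P z ξ ^ n)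
  | 0 => by rw [pow_zero, pow_zero, phi_one, sub_self]; exact ideal_zero hM
  | n + 1 => by
    have h1 := phi_mul hM hP (invBy_pow hz n) hz (invBy_pow hz' n) hz' (isInt_pow hM hzi n) hzi ξ
    have h2 := ideal_mul_right hM (phi_pow hM hP hz hz' hzi ξ n) (phi_mem hM hz' hzi ξ)
    rw [pow_succ, pow_succ]
    refine cast (congrArg (MemLocalIdeal M) ?_) (ideal_add hM h1 h2)
    ring

/-- A nilpotent element modulo the ideal has zero image. -/
theorem phi_ideal_of_small_pow (hM : IsPModular p M) {P : Subgroup G} (hP : IsPGroup p P)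
    {z : MonoidAlgebra ℂ G} (hz : InvBy P z) (hz' : InvBy (Cen P) z) (hzi : IsInt M z) {N : ℕ}
    (hs : Small M (z ^ N)) (ξ : IrrCharacter (Cen P)) : MemLocalIdeal M (phi P z ξ) := by
  refine ideal_of_pow_ideal hM (phi_mem hM hz' hzi ξ) (n := N) ?_
  have h1 : MemLocalIdeal M (phi P (z ^ N) ξ) := omega_ideal_of_small hM ξ
    (isCen_res_of_invBy (invBy_pow hz' N)) (fun x => hs x)
  have := ideal_sub hM h1 (phi_pow hM hP hz hz' hzi ξ N)
  simpa using this

/-- An idempotent has image `0` or `1`. -/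
theorem phi_dichotomy (hM : IsPModular p M) {P : Subgroup G} (hP : IsPGroup p P)
    {z : MonoidAlgebra ℂ G} (hz : InvBy P z) (hz' : InvBy (Cen P) z) (hzi : IsInt M z)
    (hzz : z * z = z) (ξ : IrrCharacter (Cen P)) :
    MemLocalIdeal M (phi P z ξ) ∨ MemLocalIdeal M (phi P z ξ - 1) := by
  by_contra h
  push Not at h
  have hm := phi_mem hM hz' hzi ξ
  have h1 := phi_mul hM hP hz hz hz' hz' hzi hzi ξ
  rw [hzz] at h1
  refine not_ideal_mul hM hm ((localRing hM).sub_mem hm (localRing hM).one_mem) h.1 h.2 ?_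
  refine cast (congrArg (MemLocalIdeal M) ?_) (ideal_neg h1)
  ring

/-- An idempotent with zero image at every character of `C(P)` is small on `C(P)`. -/
theorem small_res_of_phi (hM : IsPModular p M) {P : Subgroup G} (hP : IsPGroup p P)
    {z : MonoidAlgebra ℂ G} (hz : InvBy P z) (hz' : InvBy (Cen P) z) (hzi : IsInt M z)
    (hzz : z * z = z) (h : ∀ ξ, MemLocalIdeal M (phi P z ξ)) :
    Small M (res (Cen P) z) := by
  have hc := isCen_res_of_invBy hz'
  obtain ⟨N, hN⟩ := exists_small_pow hM hc (isInt_res (Cen P) hzi) h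
  refine small_of_idem_of_pow hM (isInt_res (Cen P) hzi) ?_ (N := N + 1) (by omega)
    (by rw [pow_succ]; exact small_mul_right hM hN (isInt_res _ hzi))
  have := small_symm hM (small_res_mul hM hP hz hz hzi hzi)
  rwa [hzz] at this

end Cfsg.Agent.BrauerPairs81Base
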