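import Cfsg.Agent.Lib.BlockTheoryFirstMain
import Cfsg.Agent.Lib.BrauerPairs81Base
import Cfsg.Agent.Lib.BlockNormalP81

/-!
Brauer's first main theorem in the form of matching idempotents on `C(P)`: blocks of `G` with
defect group `P` correspond to blocks of `N(P)` with defect group `P`, and congruence of the
idempotent coefficients on `C(P)` is the correspondence.
-/

namespace Cfsg.Agent.BlockFirstMain32

open Cfsg Cfsg.Agent.BlockTheoryLocalRing Cfsg.Agent.BlockTheoryCentre
open Cfsg.Agent.BlockTheoryIdem Cfsg.Agent.BlockTheoryBrauer Cfsg.Agent.BlockTheoryInduced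
open Cfsg.Agent.BlockTheoryDefect Cfsg.Agent.BlockTheoryFirstMain
open Cfsg.Agent.CharBasic (apply_eq_of_isConj)

attribute [local instance] Classical.propDecidable

variable {p : ℕ} [Fact p.Prime] {M : Ideal AlgInt} {G : Type*} [Group G] [Fintype G]
  {P : Subgroup G}

/-- Congruence on `C(P)` of a block idempotent of `G` and one of a subgroup. -/
def Agree (M : Ideal AlgInt) (P K : Subgroup G) (B : Set (IrrCharacter G))
    (b : Set (IrrCharacter K)) : Prop :=
  ∀ x : G, x ∈ Subgroup.centralizer (P : Set G) →
    MemLocalIdeal M (blockCoeff B x - subgroupBlockCoeff K b x)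

/-- The central element of `G` lifting the idempotent of a block `b` of `N(P)` with defect group
`P` through the Brauer map. -/
theorem exists_lift (hM : IsPModular p M) (hP : IsPGroup p P)
    [Fintype (Subgroup.normalizer (P : Set G))]
    {b : Set (IrrCharacter (Subgroup.normalizer (P : Set G)))} (hb : IsPBlock M b)
    (hbD : IsDefectGroup p M b (P.subgroupOf (Subgroup.normalizer (P : Set G)))) :
    ∃ z : MonoidAlgebra ℂ G, IsCen z ∧ IsInt M z ∧
      Small M (res (Subgroup.normalizer (P : Set G)) (cut P z) - idem b) ∧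
      ∀ (D : Subgroup G), IsPGroup p D → ¬ Small M (cut D z) → ConjLe D P := by
  have hPN : P ≤ (Subgroup.normalizer (P : Set G)) := Subgroup.le_normalizer
  haveI hPn : (P.subgroupOf (Subgroup.normalizer (P : Set G))).Normal := Subgroup.normal_subgroupOf_of_le_normalizer le_rfl
  have hCN : Subgroup.centralizer (P : Set G) ≤ (Subgroup.normalizer (P : Set G)) := Subgroup.centralizer_le_normalizer _
  set f := idem b with hf
  have hfc : IsCen f := isCen_idem b
  have hfi : IsInt M f := isInt_idem hM hb
  have hcard : Nat.card (P.subgroupOf (Subgroup.normalizer (P : Set G))) = Nat.card P :=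
    Nat.card_congr (Subgroup.subgroupOfEquivOfLe hPN).toEquiv
  -- where the idempotent is visible, `P` is a Sylow subgroup of the centralizer
  have hsyl : ∀ y : (Subgroup.normalizer (P : Set G)), ¬ MemLocalIdeal M (f.coeff y) →
      (y : G) ∈ Subgroup.centralizer (P : Set G) ∧
      ∀ S : Sylow p (Subgroup.centralizer ({(y : G)} : Set G)), P ≤ sylowIn S →
        sylowIn S = P := by
    intro y hy
    have hyC : y ∈ Subgroup.centralizer ((P.subgroupOf (Subgroup.normalizer (P : Set G)) : Subgroup (Subgroup.normalizer (P : Set G))) : Set (Subgroup.normalizer (P : Set G))) := by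
      by_contra hc
      rw [hf, coeff_idem, BlockNormalP81.blockCoeff_eq_zero hM (P.subgroupOf (Subgroup.normalizer (P : Set G))) hP.comap_subtype hb
        hc] at hy
      exact hy (ideal_zero hM)
    have hyC' : (y : G) ∈ Subgroup.centralizer (P : Set G) := by
      refine Subgroup.mem_centralizer_iff.mpr fun u hu => ?_
      exact congrArg Subtype.val
        (Subgroup.mem_centralizer_iff.mp hyC ⟨u, hPN hu⟩ (Subgroup.mem_subgroupOf.mpr hu))
    refine ⟨hyC', fun S hS => ?_⟩
    by_contra hne
    have hlt : P < sylowIn S := lt_of_le_of_ne hS (Ne.symm hne)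
    haveI : Fintype (sylowIn S) := Fintype.ofFinite _
    haveI hnil : Group.IsNilpotent (sylowIn S) := (isPGroup_sylowIn S).isNilpotent
    have hltop : P.subgroupOf (sylowIn S) < ⊤ := by
      refine lt_top_iff_ne_top.mpr fun h => ?_
      rw [Subgroup.subgroupOf_eq_top] at h
      exact absurd h (not_le_of_gt hlt)
    have hgrow := normalizerCondition_of_isNilpotent _ hltop
    set Q := ((Subgroup.normalizer ((P.subgroupOf (sylowIn S)) : Set (sylowIn S))).map
      (sylowIn S).subtype) with hQ
    have hQp : IsPGroup p Q := (isPGroup_sylowIn S).to_le (Subgroup.map_subtype_le _)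
    have hQN : Q ≤ (Subgroup.normalizer (P : Set G)) := by
      rintro _ ⟨s, hs, rfl⟩
      refine Subgroup.mem_normalizer_iff.mpr fun h => ⟨fun hh => ?_, fun hh => ?_⟩
      · have := (Subgroup.mem_normalizer_iff.mp hs ⟨h, hS hh⟩).mp
          (Subgroup.mem_subgroupOf.mpr hh)
        simpa [Subgroup.mem_subgroupOf] using this
      · have hhS : h ∈ sylowIn S := by
          have h1 : (s : G) * h * (s : G)⁻¹ ∈ sylowIn S := hS hh
          have := (sylowIn S).mul_mem ((sylowIn S).mul_mem ((sylowIn S).inv_mem s.2) h1) s.2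
          simpa [mul_assoc] using this
        have := (Subgroup.mem_normalizer_iff.mp hs ⟨h, hhS⟩).mpr
          (by simpa [Subgroup.mem_subgroupOf] using hh)
        simpa [Subgroup.mem_subgroupOf] using this
    have hyQ : y ∈ Subgroup.centralizer ((Q.subgroupOf (Subgroup.normalizer (P : Set G)) : Subgroup (Subgroup.normalizer (P : Set G))) : Set (Subgroup.normalizer (P : Set G))) := by
      refine Subgroup.mem_centralizer_iff.mpr fun u hu => Subtype.ext ?_
      have hu' : (u : G) ∈ sylowIn S := Subgroup.map_subtype_le _ (Subgroup.mem_subgroupOf.mp hu)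
      exact Subgroup.mem_centralizer_iff.mp (mem_centralizer_sylowIn S) _ hu'
    rw [hf, coeff_idem] at hy
    have hle := card_le_of_conjLe (conjLe_defect_of_coeff hM hb hbD hy (IsConj.refl y)
      (Q := Q.subgroupOf (Subgroup.normalizer (P : Set G))) (hQp.comap_subtype) hyQ)
    rw [Nat.card_congr (Subgroup.subgroupOfEquivOfLe hQN).toEquiv, hcard, hQ,
      Nat.card_congr ((Subgroup.normalizer _).equivMapOfInjective _
        (Subgroup.subtype_injective _)).toEquiv.symm,
      ← Nat.card_congr (Subgroup.subgroupOfEquivOfLe hS).toEquiv] at hle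
    exact absurd (Subgroup.eq_of_le_of_card_ge hgrow.le hle) hgrow.ne
  -- fusion of such elements is controlled by `N(P)`
  have hfus : ∀ x y : (Subgroup.normalizer (P : Set G)), ¬ MemLocalIdeal M (f.coeff y) →
      (x : G) ∈ Subgroup.centralizer (P : Set G) → IsConj (y : G) (x : G) → IsConj y x := by
    intro x y hy hx hxy
    obtain ⟨hyC, hS⟩ := hsyl y hy
    obtain ⟨c, hc⟩ := isConj_iff.mp hxy
    obtain ⟨S, hPS⟩ := exists_le_sylowIn hP hyC
    have hPS' := hS S hPS
    set P₁ := P.map (MulAut.conj c⁻¹).toMonoidHom with hP₁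
    have hy₁ : (y : G) ∈ Subgroup.centralizer (P₁ : Set G) := by
      have := BlockTheoryDefect.conj_mem_centralizer_map hx c⁻¹
      have e : (y : G) = c⁻¹ * (x : G) * c⁻¹⁻¹ := by rw [← hc]; group
      rw [e]; exact this
    obtain ⟨T, hT⟩ := exists_le_sylowIn (hP.map _) hy₁
    have hTc : Nat.card (sylowIn T) = Nat.card (sylowIn S) := by
      refine le_antisymm (card_le_of_conjLe ?_) (card_le_of_conjLe ?_)
      · exact conjLe_sylowIn (isPGroup_sylowIn T) (mem_centralizer_sylowIn T) S
      · exact conjLe_sylowIn (isPGroup_sylowIn S) (mem_centralizer_sylowIn S) T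
    have hTeq : P₁ = sylowIn T := by
      refine Subgroup.eq_of_le_of_card_ge hT ?_
      rw [hTc, hPS']
      exact (Subgroup.card_map_of_injective (MulAut.conj c⁻¹).injective).symm.le
    obtain ⟨d, hd⟩ := MulAction.exists_smul_eq (Subgroup.centralizer ({(y : G)} : Set G)) S T
    have hmap : P.map (MulAut.conj (d : G)).toMonoidHom = P₁ := by
      rw [hTeq]
      refine Subgroup.eq_of_le_of_card_ge ?_ ?_
      · rintro _ ⟨a, ha, rfl⟩
        obtain ⟨a', ha', rfl⟩ := hPS ha
        refine ⟨d * a' * d⁻¹, ?_, rfl⟩
        rw [← hd, Sylow.coe_subgroup_smul]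
        exact Subgroup.mem_map_of_mem (MulAut.conj d).toMonoidHom ha'
      · refine le_of_eq ?_
        rw [hTc, hPS']
        exact (Subgroup.card_map_of_injective (MulAut.conj (d : G)).injective).symm
    have hcd : c * (d : G) ∈ (Subgroup.normalizer (P : Set G)) := by
      have hmap' : P.map (MulAut.conj (c * (d : G))).toMonoidHom = P := by
        have e : (MulAut.conj (c * (d : G))).toMonoidHom =
            (MulAut.conj c).toMonoidHom.comp (MulAut.conj (d : G)).toMonoidHom := by
          ext a; simp [mul_assoc]
        rw [e, ← Subgroup.map_map, hmap, hP₁, Subgroup.map_map]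
        convert Subgroup.map_id P using 2
        ext a; simp [mul_assoc]
      refine Subgroup.mem_normalizer_iff.mpr fun a => ⟨fun ha => ?_, fun ha => ?_⟩
      · have := Subgroup.mem_map_of_mem (MulAut.conj (c * (d : G))).toMonoidHom ha
        rw [hmap'] at this
        simpa [mul_assoc] using this
      · obtain ⟨a', ha', he⟩ := hmap'.ge ha
        have : a' = a := by
          have he' : c * (d : G) * a' * (c * (d : G))⁻¹ = c * (d : G) * a * (c * (d : G))⁻¹ := by
            simpa [mul_assoc] using he
          exact mul_left_cancel (mul_right_cancel he')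
        rwa [← this]
    refine isConj_iff.mpr ⟨⟨c * d, hcd⟩, Subtype.ext ?_⟩
    have hdy : (d : G) * y = y * d := Subgroup.mem_centralizer_singleton_iff.mp d.2
    show c * (d : G) * (y : G) * (c * (d : G))⁻¹ = (x : G)
    rw [← hc]
    calc c * (d : G) * (y : G) * (c * (d : G))⁻¹ = c * ((d : G) * y) * (d : G)⁻¹ * c⁻¹ := by group
      _ = c * ((y : G) * d) * (d : G)⁻¹ * c⁻¹ := by rw [hdy]
      _ = c * (y : G) * c⁻¹ := by group
  set s := (Finset.univ : Finset (ConjClasses (Subgroup.normalizer (P : Set G)))).filter
    (fun C => ¬ MemLocalIdeal M (f.coeff C.out)) with hs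
  set z := ∑ C ∈ s, f.coeff C.out • classSum ((C.out : (Subgroup.normalizer (P : Set G))) : G) with hz
  have hzcoeff : ∀ x : G, z.coeff x =
      ∑ C ∈ s, if IsConj ((C.out : (Subgroup.normalizer (P : Set G))) : G) x then f.coeff C.out else 0 := by
    intro x
    simp [hz, classSum, Finset.sum_apply', MonoidAlgebra.coeff_sum]
  refine ⟨z, ?_, ?_, ?_, ?_⟩
  · exact Finset.sum_induction _ _ (fun _ _ => IsCen.add) isCen_zero
      fun C _ => (isCen_classSum _).smul _
  · exact Finset.sum_induction _ (IsInt M) (fun _ _ => IsInt.add hM) (isInt_zero hM)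
      fun C _ => IsInt.smul hM (hfi _) (isInt_classSum hM _)
  · intro x
    simp only [MonoidAlgebra.coeff_sub, Finsupp.coe_sub, Pi.sub_apply, coeff_res, coeff_cut]
    by_cases hx : (x : G) ∈ Subgroup.centralizer (P : Set G)
    · rw [if_pos hx, hzcoeff]
      by_cases hxs : MemLocalIdeal M (f.coeff x)
      · rw [Finset.sum_eq_zero fun C hC => if_neg fun hc => ?_, zero_sub]
        · exact ideal_neg hxs
        · have hC' := (Finset.mem_filter.mp hC).2
          have : f.coeff x = f.coeff C.out := apply_eq_of_isConj hfc (hfus x C.out hC' hx hc).symm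
          exact hC' (this ▸ hxs)
      · have hout : IsConj (ConjClasses.mk x).out x := (isConj_out _).mp rfl
        have hcx : f.coeff (ConjClasses.mk x).out = f.coeff x := apply_eq_of_isConj hfc hout
        rw [Finset.sum_eq_single (ConjClasses.mk x), if_pos, hcx, sub_self]
        · exact ideal_zero hM
        · exact (Subgroup.normalizer (P : Set G)).subtype.map_isConj hout
        · intro C hC hne
          refine if_neg fun hc => hne ?_
          exact ((isConj_out C).mpr (hfus x C.out (Finset.mem_filter.mp hC).2 hx hc)).symm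
        · intro h
          exact absurd (Finset.mem_filter.mpr ⟨Finset.mem_univ _, by rwa [hcx]⟩) h
    · rw [if_neg hx, zero_sub]
      refine ideal_neg ?_
      by_contra hne
      exact hx (hsyl x hne).1
  · intro D hD hns
    obtain ⟨x, hx⟩ : ∃ x, ¬ MemLocalIdeal M ((cut D z).coeff x) := by
      by_contra! h; exact hns h
    rw [coeff_cut] at hx
    split_ifs at hx with hxD
    · rw [hzcoeff] at hx
      obtain ⟨C, hC, hC'⟩ : ∃ C ∈ s, IsConj ((C.out : (Subgroup.normalizer (P : Set G))) : G) x := by
        by_contra! h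
        exact hx (ideal_sum hM fun C hC => by rw [if_neg (h C hC)]; exact ideal_zero hM)
      obtain ⟨hyC, hS⟩ := hsyl C.out (Finset.mem_filter.mp hC).2
      obtain ⟨S, hPS⟩ := exists_le_sylowIn hP hyC
      exact hS S hPS ▸ conjLe_sylowIn_of_isConj hD hC' hxD S
    · exact absurd (ideal_zero hM) hx

/-- Blocks of a subgroup of `N(P)` containing `C(P)` agreeing on `C(P)` are equal. -/
theorem block_unique_of_cen (hM : IsPModular p M) (hP : IsPGroup p P)
    [Fintype (Subgroup.normalizer (P : Set G))]
    {b b' : Set (IrrCharacter (Subgroup.normalizer (P : Set G)))} (hb : IsPBlock M b)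
    (hb' : IsPBlock M b')
    (h : ∀ x : Subgroup.normalizer (P : Set G), (x : G) ∈ Subgroup.centralizer (P : Set G) →
      MemLocalIdeal M (blockCoeff b x - blockCoeff b' x)) : b = b' := by
  have hPN : P ≤ (Subgroup.normalizer (P : Set G)) := Subgroup.le_normalizer
  haveI hPn : (P.subgroupOf (Subgroup.normalizer (P : Set G))).Normal := Subgroup.normal_subgroupOf_of_le_normalizer le_rfl
  have hsm : Small M (idem b - idem b') := by
    intro x
    simp only [MonoidAlgebra.coeff_sub, Finsupp.coe_sub, Pi.sub_apply, coeff_idem]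
    by_cases hx : x ∈ Subgroup.centralizer ((P.subgroupOf (Subgroup.normalizer (P : Set G)) : Subgroup (Subgroup.normalizer (P : Set G))) : Set (Subgroup.normalizer (P : Set G)))
    · refine h x (Subgroup.mem_centralizer_iff.mpr fun u hu => ?_)
      exact congrArg Subtype.val
        (Subgroup.mem_centralizer_iff.mp hx ⟨u, hPN hu⟩ (Subgroup.mem_subgroupOf.mpr hu))
    · rw [BlockNormalP81.blockCoeff_eq_zero hM (P.subgroupOf _) hP.comap_subtype hb hx,
        BlockNormalP81.blockCoeff_eq_zero hM (P.subgroupOf _) hP.comap_subtype hb' hx, sub_zero]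
      exact ideal_zero hM
  obtain ⟨χ, hχ⟩ := block_nonempty hM hb
  by_contra hne
  have := omega_ideal_of_small hM χ ((isCen_idem b).sub (isCen_idem b')) hsm
  rw [map_sub, omega_idem, omega_idem, if_pos hχ,
    if_neg fun h => hne (block_eq_of_mem hM hb hb' hχ h), sub_zero] at this
  exact one_not_ideal hM this

/-- A block of `N(P)` with defect group `P` induces a block with defect group `P`, whose
idempotent agrees with that of the original block on `C(P)`. -/
theorem induce_agree (hM : IsPModular p M) (hP : IsPGroup p P)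
    [Fintype (Subgroup.normalizer (P : Set G))]
    {b : Set (IrrCharacter (Subgroup.normalizer (P : Set G)))} (hb : IsPBlock M b)
    (hbD : IsDefectGroup p M b (P.subgroupOf (Subgroup.normalizer (P : Set G)))) :
    ∃ B : Set (IrrCharacter G), IsPBlock M B ∧ IsDefectGroup p M B P ∧
      Agree M P (Subgroup.normalizer (P : Set G)) B b := by
  have hPN : P ≤ (Subgroup.normalizer (P : Set G)) := Subgroup.le_normalizer
  have hCN : Subgroup.centralizer (P : Set G) ≤ (Subgroup.normalizer (P : Set G)) := Subgroup.centralizer_le_normalizer _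
  obtain ⟨z, hzc, hzi, hzf, hzD⟩ := exists_lift hM hP hb hbD
  obtain ⟨B, hind⟩ := inducedBlockDefined (Subgroup.normalizer (P : Set G)) hM hP hPN hCN le_rfl hb
  have hB := hind.2.1
  obtain ⟨χ, hχ⟩ := block_nonempty hM hB
  -- central characters of blocks inducing `B` at the lifted idempotent
  have hval : ∀ {b' : Set (IrrCharacter (Subgroup.normalizer (P : Set G)))}, IsInducedBlock M (Subgroup.normalizer (P : Set G)) b' B → ∀ ξ ∈ b',
      MemLocalIdeal M (omega (ξ : (Subgroup.normalizer (P : Set G)) → ℂ) (idem b) - omega (χ : G → ℂ) z) := by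
    intro b' hind' ξ hξ
    have h1 := inducedBlock_congr (Subgroup.normalizer (P : Set G)) hM hind' hξ hχ hzc hzi
    have h2 := omega_res_sub_br (Subgroup.normalizer (P : Set G)) hM hP hPN le_rfl ξ hzc hzi
    have h3 := omega_ideal_of_small hM ξ ((isCen_br (Subgroup.normalizer (P : Set G)) le_rfl hzc).sub (isCen_idem b)) hzf
    rw [map_sub] at h3
    have := ideal_sub hM h1 (ideal_add hM h2 h3)
    convert this using 1
    ring
  obtain ⟨ξ₀, hξ₀⟩ := block_nonempty hM hb
  have hz1 : MemLocalIdeal M (1 - omega (χ : G → ℂ) z) := by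
    have := hval hind ξ₀ hξ₀
    rwa [omega_idem, if_pos hξ₀] at this
  -- the defect group
  obtain ⟨D, hD⟩ := exists_defectGroup (p := p) hM hB
  have hPD : ConjLe P D := by
    have := inducedBlock_defect_le hM (Subgroup.normalizer (P : Set G)) hind hbD hD
    rwa [Subgroup.map_subgroupOf_eq_of_le hPN] at this
  have hDP : ConjLe D P := by
    refine hzD D (isPGroup_of_isDefectGroup hD) fun hs => one_not_ideal hM ?_
    have := ideal_add hM hz1 (omega_ideal_of_cut_small hM hB (isPGroup_of_isDefectGroup hD)
      (not_small_cut_defect hM hB hD) hzc hzi hs hχ)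
    simpa using this
  have hBD : IsDefectGroup p M B P := by
    obtain ⟨x, hx⟩ := eq_map_of_conjLe hDP (card_le_of_conjLe hPD)
    rw [← hx]
    exact isDefectGroup_map hD x
  refine ⟨B, hB, hBD, ?_⟩
  have hBi := isInt_idem hM hB
  set e := res (Subgroup.normalizer (P : Set G)) (cut P (idem B)) with he
  set f := idem b with hf
  have hec : IsCen e := isCen_br (Subgroup.normalizer (P : Set G)) le_rfl (isCen_idem B)
  have hei : IsInt M e := isInt_res (Subgroup.normalizer (P : Set G)) (isInt_cut hM P hBi)
  have hfi : IsInt M f := isInt_idem hM hb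
  have hω : ∀ ξ : IrrCharacter (Subgroup.normalizer (P : Set G)),
      MemLocalIdeal M (omega (ξ : (Subgroup.normalizer (P : Set G)) → ℂ) e - omega (ξ : (Subgroup.normalizer (P : Set G)) → ℂ) f) := by
    intro ξ
    have hb' : IsPBlock M (blockOf M (ξ : (Subgroup.normalizer (P : Set G)) → ℂ)) := isPBlock_blockOf ξ
    have hξ : ξ ∈ blockOf M (ξ : (Subgroup.normalizer (P : Set G)) → ℂ) := self_mem_blockOf hM ξ
    obtain ⟨B', hind'⟩ := inducedBlockDefined (Subgroup.normalizer (P : Set G)) hM hP hPN hCN le_rfl hb'
    obtain ⟨χ', hχ'⟩ := block_nonempty hM hind'.2.1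
    have h1 := inducedBlock_congr (Subgroup.normalizer (P : Set G)) hM hind' hξ hχ' (isCen_idem B) hBi
    have h2 := omega_res_sub_br (Subgroup.normalizer (P : Set G)) hM hP hPN le_rfl ξ (isCen_idem B) hBi
    have h3 := ideal_sub hM h1 h2
    simp only [sub_sub_sub_cancel_left] at h3
    rw [omega_idem] at h3
    by_cases hBB : B' = B
    · subst hBB
      rw [if_pos hχ'] at h3
      have h4 := hval hind' ξ hξ
      have h5 := ideal_sub hM h4 hz1
      simp only [sub_sub_sub_cancel_right] at h5
      rw [show omega (ξ : (Subgroup.normalizer (P : Set G)) → ℂ) e - omega (ξ : (Subgroup.normalizer (P : Set G)) → ℂ) f =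
        (omega (ξ : (Subgroup.normalizer (P : Set G)) → ℂ) (res (Subgroup.normalizer (P : Set G)) (cut P (idem B'))) - 1) - (omega (ξ : (Subgroup.normalizer (P : Set G)) → ℂ) f - 1) by
        rw [he]; ring]
      exact ideal_sub hM h3 h5
    · rw [if_neg fun h => hBB (block_eq_of_mem hM hind'.2.1 hB hχ' h), sub_zero] at h3
      have hfξ : omega (ξ : (Subgroup.normalizer (P : Set G)) → ℂ) f = 0 := by
        rw [hf, omega_idem, if_neg fun h => hBB ?_]
        rw [block_eq_of_mem hM hb' hb hξ h] at hind'
        exact inducedBlock_unique (Subgroup.normalizer (P : Set G)) hM hind' hind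
      rw [hfξ, sub_zero, he]
      exact h3
  have hfc : IsCen f := isCen_idem b
  have hee : Small M (e * e - e) := by
    have := br_mul (Subgroup.normalizer (P : Set G)) hM hP hCN (isCen_idem B) (isCen_idem B) hBi hBi
    rw [idem_sq] at this
    exact small_symm hM this
  have hff : f * f = f := idem_sq b
  have hefi : IsInt M (e * f) := IsInt.mul hM hei hfi
  have hcomm : f * e = e * f := hfc.comm e
  have hsq : Small M (e * f * (e * f) - e * f) := by
    have e1 : e * f * (e * f) - e * f = (e * e - e) * f := by
      rw [mul_assoc e f, ← mul_assoc f e f, hcomm, mul_assoc e f f, hff, ← mul_assoc, sub_mul]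
    rw [e1]
    exact small_mul_right hM hee hfi
  have hkill : ∀ h : MonoidAlgebra ℂ (Subgroup.normalizer (P : Set G)), IsCen h → IsInt M h → Small M (h * h - h) →
      (∀ ξ : IrrCharacter (Subgroup.normalizer (P : Set G)), MemLocalIdeal M (omega (ξ : (Subgroup.normalizer (P : Set G)) → ℂ) h)) → Small M h := by
    intro h hc hi hid hom
    obtain ⟨n, hn⟩ := exists_small_pow hM hc hi hom
    exact small_of_idem_of_pow hM hi hid (Nat.succ_ne_zero n)
      (by rw [pow_succ]; exact small_mul_right hM hn hi)
  have hωef : ∀ ξ : IrrCharacter (Subgroup.normalizer (P : Set G)),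
      omega (ξ : (Subgroup.normalizer (P : Set G)) → ℂ) (e * f) = omega (ξ : (Subgroup.normalizer (P : Set G)) → ℂ) e * omega (ξ : (Subgroup.normalizer (P : Set G)) → ℂ) f :=
    fun ξ => omega_mul ξ hec f
  have h1 : Small M (e - e * f) := by
    refine hkill _ (hec.sub (hec.mul hfc)) (IsInt.sub hM hei hefi) ?_ fun ξ => ?_
    · have e1 : (e - e * f) * (e - e * f) - (e - e * f) =
          (e * e - e) - (e * e - e) * f - (e * e - e) * f + (e * f * (e * f) - e * f) := by
        have a1 : e * f * e = e * e * f := by rw [mul_assoc, hcomm, ← mul_assoc]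
        simp only [sub_mul, mul_sub, a1, ← mul_assoc e e f]
        abel
      rw [e1]
      exact small_add hM (small_sub hM (small_sub hM hee (small_mul_right hM hee hfi))
        (small_mul_right hM hee hfi)) hsq
    · rw [map_sub, hωef, hf, omega_idem]
      split_ifs with hc
      · rw [mul_one, sub_self]; exact ideal_zero hM
      · have := hω ξ
        rw [hf, omega_idem, if_neg hc, sub_zero] at this
        rw [mul_zero, sub_zero]; exact this
  have h2 : Small M (f - e * f) := by
    refine hkill _ (hfc.sub (hec.mul hfc)) (IsInt.sub hM hfi hefi) ?_ fun ξ => ?_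
    · have e1 : (f - e * f) * (f - e * f) - (f - e * f) = e * f * (e * f) - e * f := by
        have a1 : f * (e * f) = e * f := by rw [← mul_assoc, hcomm, mul_assoc, hff]
        have a2 : e * f * f = e * f := by rw [mul_assoc, hff]
        simp only [sub_mul, mul_sub, hff, a1, a2]
        abel
      rw [e1]
      exact hsq
    · rw [map_sub, hωef, hf, omega_idem]
      split_ifs with hc
      · have := ideal_neg (hω ξ)
        rw [hf, omega_idem, if_pos hc] at this
        rw [mul_one]
        simpa using this
      · rw [mul_zero, sub_zero]; exact ideal_zero hM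
  intro x hx
  have h := ideal_sub hM (h1 ⟨x, hCN hx⟩) (h2 ⟨x, hCN hx⟩)
  rw [subgroupBlockCoeff, dif_pos (hCN hx)]
  simp only [MonoidAlgebra.coeff_sub, Finsupp.coe_sub, Pi.sub_apply, sub_sub_sub_cancel_right] at h
  rw [he, hf, coeff_res, coeff_cut, if_pos hx, coeff_idem, coeff_idem] at h
  exact h

/-- A block agreeing with `b` on `C(P)` is the block induced by `b`. -/
theorem eq_induced_of_agree (hM : IsPModular p M) (hP : IsPGroup p P)
    [Fintype (Subgroup.normalizer (P : Set G))]
    {b : Set (IrrCharacter (Subgroup.normalizer (P : Set G)))} {B B' : Set (IrrCharacter G)}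
    (hind : IsInducedBlock M (Subgroup.normalizer (P : Set G)) b B) (hB' : IsPBlock M B')
    (hag : Agree M P (Subgroup.normalizer (P : Set G)) B' b) : B' = B := by
  have hPN : P ≤ Subgroup.normalizer (P : Set G) := Subgroup.le_normalizer
  have hB := hind.2.1
  symm
  obtain ⟨χ, hχ⟩ := block_nonempty hM hB'
  by_contra hne
  obtain ⟨ξ, hξ⟩ := block_nonempty hM hind.1
  obtain ⟨χ₀, hχ₀⟩ := block_nonempty hM hB
  have hzi := isInt_idem hM hB'
  have h1 := inducedBlock_congr (Subgroup.normalizer (P : Set G)) hM hind hξ hχ₀ (isCen_idem B') hzi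
  have h2 := omega_res_sub_br (Subgroup.normalizer (P : Set G)) hM hP hPN le_rfl ξ (isCen_idem B') hzi
  have hsm : Small M (res (Subgroup.normalizer (P : Set G)) (cut P (idem B')) - idem b) := by
    intro x
    simp only [MonoidAlgebra.coeff_sub, Finsupp.coe_sub, Pi.sub_apply, coeff_res, coeff_cut,
      coeff_idem]
    split_ifs with hx
    · have := hag (x : G) hx
      rwa [subgroupBlockCoeff, dif_pos x.2] at this
    · haveI : (P.subgroupOf (Subgroup.normalizer (P : Set G))).Normal := Subgroup.normal_subgroupOf_of_le_normalizer le_rfl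
      rw [BlockNormalP81.blockCoeff_eq_zero hM (P.subgroupOf (Subgroup.normalizer (P : Set G))) hP.comap_subtype hind.1,
        sub_zero]
      · exact ideal_zero hM
      · refine fun hc => hx (Subgroup.mem_centralizer_iff.mpr fun u hu => ?_)
        exact congrArg Subtype.val
          (Subgroup.mem_centralizer_iff.mp hc ⟨u, hPN hu⟩ (Subgroup.mem_subgroupOf.mpr hu))
  have h3 := omega_ideal_of_small hM ξ ((isCen_br (Subgroup.normalizer (P : Set G)) le_rfl (isCen_idem B')).sub (isCen_idem b))
    hsm
  rw [map_sub] at h3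
  have h4 := ideal_sub hM h1 (ideal_add hM h2 h3)
  rw [omega_idem, omega_idem, if_pos hξ,
    if_neg fun h => hne (block_eq_of_mem hM hB hB' hχ₀ h)] at h4
  refine one_not_ideal hM ?_
  convert h4 using 1
  ring

/-- A block with defect group `P` agrees with a block of `N(P)` with defect group `P`. -/
theorem exists_agree (hM : IsPModular p M) (hP : IsPGroup p P)
    [Fintype (Subgroup.normalizer (P : Set G))] {B : Set (IrrCharacter G)} (hB : IsPBlock M B)
    (hD : IsDefectGroup p M B P) :
    ∃ b : Set (IrrCharacter (Subgroup.normalizer (P : Set G))), IsPBlock M b ∧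
      IsDefectGroup p M b (P.subgroupOf (Subgroup.normalizer (P : Set G))) ∧
      Agree M P (Subgroup.normalizer (P : Set G)) B b := by
  have hPN : P ≤ (Subgroup.normalizer (P : Set G)) := Subgroup.le_normalizer
  obtain ⟨b, hind⟩ := exists_inducing hM hB hP (Subgroup.normalizer (P : Set G)) hPN (Subgroup.centralizer_le_normalizer _)
    le_rfl (not_small_cut_defect hM hB hD)
  obtain ⟨E, hE⟩ := exists_defectGroup (G := (Subgroup.normalizer (P : Set G))) (p := p) hM hind.1
  have hbD := defect_eq_of_induced hM hD (Subgroup.normalizer (P : Set G)) hPN le_rfl hind hE ▸ hE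
  refine ⟨b, hind.1, hbD, ?_⟩
  obtain ⟨B', hB', -, hag⟩ := induce_agree hM hP hind.1 hbD
  have hBB : B = B' := (eq_induced_of_agree hM hP hind hB' hag).symm
  rw [hBB]
  exact hag

end Cfsg.Agent.BlockFirstMain32
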