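import Cfsg.Agent.Lib.BrauerPairs81Max

/-!
The Brauer correspondence between blocks of `G` and of a subgroup `H ≥ N_G(P)` with defect
group `P`, through the occurrences of blocks of `C_G(P)`.
-/

set_option autoImplicit false

namespace Cfsg.Agent.BlockFirstMainOver

open Cfsg Cfsg.Agent.BlockTheoryLocalRing Cfsg.Agent.BlockTheoryCentre
open Cfsg.Agent.BlockTheoryIdem Cfsg.Agent.BlockTheoryBrauer Cfsg.Agent.BlockTheoryDefect
open Cfsg.Agent.BrauerPairs81Base Cfsg.Agent.BrauerPairs81Pairs Cfsg.Agent.BrauerPairs81Conj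
open Cfsg.Agent.BrauerPairs81Max

attribute [local instance] Classical.propDecidable

set_option linter.unusedSectionVars false

variable {p : ℕ} [Fact p.Prime] {M : Ideal AlgInt} {G : Type*} [Group G] [Fintype G]
variable {P H : Subgroup G}

/-- Idempotents with the same occurrences agree on the centraliser. -/
theorem small_res_sub (hM : IsPModular p M) (hP : IsPGroup p P) {z w : MonoidAlgebra ℂ G}
    (hz : InvBy P z) (hz' : InvBy (Cen P) z) (hw : InvBy P w) (hw' : InvBy (Cen P) w)
    (hzi : IsInt M z) (hwi : IsInt M w) (hzz : z * z = z) (hww : w * w = w) (hc : Commute z w)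
    (h : ∀ ξ : IrrCharacter (Cen P), MemLocalIdeal M (phi P z ξ - 1) ↔
      MemLocalIdeal M (phi P w ξ - 1)) :
    Small M (res (Cen P) (z - w)) := by
  have key : ∀ a b : MonoidAlgebra ℂ G, InvBy P a → InvBy (Cen P) a → InvBy P b →
      InvBy (Cen P) b → IsInt M a → IsInt M b → a * a = a → b * b = b → Commute a b →
      (∀ ξ : IrrCharacter (Cen P), MemLocalIdeal M (phi P a ξ - 1) →
        MemLocalIdeal M (phi P b ξ - 1)) → Small M (res (Cen P) (a - a * b)) := by
    intro a b ha ha' hb hb' hai hbi haa hbb hab hi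
    have hidem : (a - a * b) * (a - a * b) = a - a * b := by
      have h1 : a * (a * b) = a * b := by rw [← mul_assoc, haa]
      have h2 : a * b * a = a * b := by rw [mul_assoc, ← hab.eq, h1]
      have h3 : a * b * (a * b) = a * b := by rw [← mul_assoc, h2, mul_assoc, hbb]
      rw [sub_mul, mul_sub, mul_sub, haa, h1, h2, h3, sub_self, sub_zero]
    refine small_res_of_phi hM hP (invBy_sub ha (invBy_mul ha hb))
      (invBy_sub ha' (invBy_mul ha' hb')) (IsInt.sub hM hai (IsInt.mul hM hai hbi)) hidem fun ξ => ?_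
    have hm := phi_mul hM hP ha hb ha' hb' hai hbi ξ
    have hlin : phi P (a - a * b) ξ = phi P a ξ - phi P (a * b) ξ := by simp [phi]
    rw [hlin]
    rcases phi_dichotomy hM hP ha ha' hai haa ξ with h0 | h1
    · refine cast (congrArg (MemLocalIdeal M) ?_) (ideal_sub hM
        (ideal_sub hM h0 hm) (ideal_mul_right hM h0 (phi_mem hM hb' hbi ξ)))
      ring
    · refine cast (congrArg (MemLocalIdeal M) ?_) (ideal_sub hM
        (ideal_sub hM (ideal_zero hM) hm) (ideal_mul_left hM (phi_mem hM ha' hai ξ) (hi ξ h1)))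
      ring
  have h1 := key z w hz hz' hw hw' hzi hwi hzz hww hc fun ξ => (h ξ).1
  have h2 := key w z hw hw' hz hz' hwi hzi hww hzz hc.symm fun ξ => (h ξ).2
  rw [hc.symm.eq] at h2
  have h3 := small_sub hM h1 h2
  rwa [← map_sub, sub_sub_sub_cancel_right] at h3

variable [Fintype H]

theorem cen_le (hH : Subgroup.normalizer (P : Set G) ≤ H) : Cen P ≤ H :=
  (Subgroup.centralizer_le_normalizer _).trans hH

/-- The congruence of the statement. -/
theorem congr_iff (B : Set (IrrCharacter G)) (c : Set (IrrCharacter H)) :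
    (∀ x : G, x ∈ Subgroup.centralizer (P : Set G) →
      MemLocalIdeal M (blockCoeff B x - subgroupBlockCoeff H c x)) ↔
      Small M (res (Cen P) (idem B - eb H c)) := by
  constructor
  · intro h x
    simp only [coeff_res, MonoidAlgebra.coeff_sub, Finsupp.coe_sub, Pi.sub_apply, eb, coeff_idem,
      coeff_ofFun]
    exact h x x.2
  · intro h x hx
    have := h ⟨x, hx⟩
    simpa only [coeff_res, MonoidAlgebra.coeff_sub, Finsupp.coe_sub, Pi.sub_apply, eb, coeff_idem,
      coeff_ofFun] using this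

theorem phi_congr_of_small (hM : IsPModular p M) {B : Set (IrrCharacter G)}
    {c : Set (IrrCharacter H)} (hH : Subgroup.normalizer (P : Set G) ≤ H)
    (h : Small M (res (Cen P) (idem B - eb H c))) (ξ : IrrCharacter (Cen P)) :
    MemLocalIdeal M (phi P (idem B) ξ - phi P (eb H c) ξ) := by
  have hinv : InvBy (Cen P) (idem B - eb H c) :=
    invBy_sub (IsCen.invBy (isCen_idem B) _) (invBy_mono (cen_le hH) (invBy_eb_self H c))
  have := omega_ideal_of_small hM ξ (isCen_res_of_invBy hinv) h
  rwa [map_sub, map_sub] at this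

/-- Central elements of `H` take on the occurrences of a block of `H` its central character. -/
theorem phi_incl_eq_omega (hM : IsPModular p M) (hP : IsPGroup p P)
    (hPH : P ≤ H) (hH : Subgroup.normalizer (P : Set G) ≤ H) {c : Set (IrrCharacter H)}
    (hc : IsPBlock M c) {z : MonoidAlgebra ℂ H} (hz : IsCen z) (hzi : IsInt M z)
    {θ : IrrCharacter H} (hθ : θ ∈ c) {η : IrrCharacter (Cen P)}
    (hη : MemLocalIdeal M (phi P (eb H c) η - 1)) :
    MemLocalIdeal M (phi P (incl H z) η - omega (θ : H → ℂ) z) := by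
  set κ := omega (θ : H → ℂ) z with hκ
  have hκR : MemLocalRing M κ := omega_mem_localRing hM θ hz hzi
  have hci := isInt_idem hM hc
  set w := z - κ • (1 : MonoidAlgebra ℂ H) with hw
  have hwc : IsCen w := hz.sub (isCen_one.smul κ)
  have hwi : IsInt M w := IsInt.sub hM hzi (IsInt.smul hM hκR (isInt_one hM))
  have hyc := hwc.mul (isCen_idem c)
  have hyi := IsInt.mul hM hwi hci
  obtain ⟨N, hN⟩ := exists_small_pow hM hyc hyi fun ψ => by
    rw [omega_mul ψ hwc, omega_idem]
    split_ifs with hψ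
    · rw [mul_one, hw, map_sub, map_smul, omega_one, smul_eq_mul, mul_one, hκ]
      exact omega_sub_mem hM (sameBlock_of_mem hM hc hψ hθ) hz hzi
    · rw [mul_zero]; exact ideal_zero hM
  have hinv : ∀ y : MonoidAlgebra ℂ H, IsCen y → InvBy H (incl H y) := by
    intro y hy u hu x
    by_cases hx : x ∈ H
    · rw [show x = ((⟨x, hx⟩ : H) : G) from rfl, show u * ((⟨x, hx⟩ : H) : G) * u⁻¹ =
        (((⟨u, hu⟩ : H) * ⟨x, hx⟩ * (⟨u, hu⟩ : H)⁻¹ : H) : G) from rfl, coeff_incl_coe,
        coeff_incl_coe]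
      exact hy _ _
    · rw [coeff_incl_of_notMem H y hx, coeff_incl_of_notMem H y]
      intro h
      exact hx (by simpa [mul_assoc] using H.mul_mem (H.mul_mem (H.inv_mem hu) h) hu)
  have hsmall : Small M (incl H (w * idem c) ^ N) := by
    intro x
    rw [← map_pow]
    by_cases hx : x ∈ H
    · rw [show x = ((⟨x, hx⟩ : H) : G) from rfl, coeff_incl_coe]; exact hN _
    · rw [coeff_incl_of_notMem H _ hx]; exact ideal_zero hM
  have hC := cen_le hH
  have h1 := phi_ideal_of_small_pow hM hP (invBy_mono hPH (hinv _ hyc))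
    (invBy_mono hC (hinv _ hyc)) (isInt_incl H hM hyi) hsmall η
  rw [map_mul, show incl H (idem c) = eb H c from (eb_eq_incl H c).symm] at h1
  have h2 := phi_mul hM hP (invBy_mono hPH (hinv _ hwc)) (invBy_mono hPH (invBy_eb_self H c))
    (invBy_mono hC (hinv _ hwc)) (invBy_mono hC (invBy_eb_self H c)) (isInt_incl H hM hwi)
    (isInt_eb hM hc) η
  have hlin : phi P (incl H w) η = phi P (incl H z) η - κ := by
    have hs : incl H (κ • (1 : MonoidAlgebra ℂ H)) = κ • (1 : MonoidAlgebra ℂ G) := by
      rw [MonoidAlgebra.one_def, MonoidAlgebra.one_def, MonoidAlgebra.smul_single,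
        MonoidAlgebra.smul_single]
      simp [incl]
    rw [hw, map_sub, hs, phi, map_sub, map_smul, map_sub, map_smul, res_one, omega_one,
      smul_eq_mul, mul_one]
    rfl
  rw [hlin] at h2
  have hzm : MemLocalRing M (phi P (incl H z) η - κ) :=
    (localRing hM).sub_mem (phi_mem hM (invBy_mono hC (hinv _ hz)) (isInt_incl H hM hzi) η) hκR
  refine cast (congrArg (MemLocalIdeal M) ?_)
    (ideal_sub hM (ideal_sub hM h1 h2) (ideal_mul_left hM hzm hη))
  ring

/-- The occurrences of a block of `H` are stable under the normaliser. -/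
theorem occ_normalizer (hH : Subgroup.normalizer (P : Set G) ≤ H) {c : Set (IrrCharacter H)}
    {e g : Set (IrrCharacter (Cen P))} {n : G} (hn : n ∈ Subgroup.normalizer (P : Set G))
    (heg : cjA n (eb (Cen P) e) = eb (Cen P) g) (h : Occ M P e (eb H c)) :
    Occ M P g (eb H c) := by
  have key : ∀ (Q : Subgroup G) (g : Set (IrrCharacter (Cen Q))), cjS n P = Q →
      cjA n (eb (Cen P) e) = eb (Cen Q) g → Occ M Q g (eb H c) := by
    rintro Q g rfl hg
    obtain rfl : conjBlock P n e = g := eb_injective (by rw [eb_conjBlock, hg])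
    rw [← invBy_iff.mp (invBy_eb_self H c) n (hH hn)]
    exact occ_conj h
  exact key P g (cjS_of_normalizer hn) heg

theorem existsUnique_occ_block (hM : IsPModular p M) (hP : IsPGroup p P) (hPH : P ≤ H)
    (hH : Subgroup.normalizer (P : Set G) ≤ H) (ξ : IrrCharacter (Cen P)) :
    ∃! c : Set (IrrCharacter H), IsPBlock M c ∧ MemLocalIdeal M (phi P (eb H c) ξ - 1) := by
  have hC := cen_le hH
  have hsum : ∑ c ∈ blockSet M H, phi P (eb H c) ξ = 1 := by
    rw [← phi_one P ξ, ← sum_eb (G := G) hM H]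
    simp only [phi, map_sum]
  obtain ⟨c, hc, hne⟩ : ∃ c ∈ blockSet M H, ¬ MemLocalIdeal M (phi P (eb H c) ξ) := by
    by_contra h
    push Not at h
    exact one_not_ideal hM (hsum ▸ ideal_sum hM h)
  have hcb := mem_blockSet.mp hc
  have hc1 := (phi_dichotomy hM hP (invBy_mono hPH (invBy_eb_self H c))
    (invBy_mono hC (invBy_eb_self H c)) (isInt_eb hM hcb) (eb_sq H c) ξ).resolve_left hne
  refine ⟨c, ⟨hcb, hc1⟩, fun c' ⟨hc'b, hc'1⟩ => ?_⟩
  by_contra hne'
  exact not_both hM hP (invBy_mono hPH (invBy_eb_self H c')) (invBy_mono hPH (invBy_eb_self H c))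
    (invBy_mono hC (invBy_eb_self H c')) (invBy_mono hC (invBy_eb_self H c)) (isInt_eb hM hc'b)
    (isInt_eb hM hcb) (eb_mul_of_ne hM hc'b hcb hne') ξ hc'1 hc1

/-- A pair of a block with defect group `P` on `P` is maximal. -/
theorem maximal_of_defect (hM : IsPModular p M) {B : Set (IrrCharacter G)}
    (hD : IsDefectGroup p M B P) {e : Set (IrrCharacter (Cen P))}
    (h : IsBrauerPairOf p M B P e) : IsMaximalBrauerPair p M B P e :=
  ⟨h, fun _R _g hg hle => (Subgroup.eq_of_le_of_card_ge (subgroup_le_of_subpairLE hle)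
    (card_le_of_conjLe (conjLe_defect_of_pairOf hM hg hD))).symm⟩

/-- Occurrences of a block of `G` with a given maximal pair and of a block of `H` sharing it. -/
theorem small_of_shared (hM : IsPModular p M) (hP : IsPGroup p P) (hPH : P ≤ H)
    (hH : Subgroup.normalizer (P : Set G) ≤ H) {B : Set (IrrCharacter G)}
    {e : Set (IrrCharacter (Cen P))} (hmax : IsMaximalBrauerPair p M B P e)
    {c : Set (IrrCharacter H)} (hc : IsPBlock M c) (hec : Occ M P e (eb H c)) :
    Small M (res (Cen P) (idem B - eb H c)) := by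
  obtain ⟨⟨-, he⟩, hB, heB⟩ := isBrauerPairOf_iff.mp hmax.1
  have hC := cen_le hH
  refine small_res_sub hM hP (IsCen.invBy (isCen_idem B) _) (IsCen.invBy (isCen_idem B) _)
    (invBy_mono hPH (invBy_eb_self H c)) (invBy_mono hC (invBy_eb_self H c))
    (isInt_idem hM hB) (isInt_eb hM hc) (idem_sq B) (eb_sq H c) ((isCen_idem B).comm _) fun η => ?_
  set g := blockOf M (η : Cen P → ℂ) with hg
  have hgb : IsPBlock M g := isPBlock_blockOf η
  have hηg : η ∈ g := self_mem_blockOf hM η
  constructor
  · intro h1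
    have hpair : IsBrauerPairOf p M B P g := isBrauerPairOf_iff.mpr
      ⟨⟨hP, hgb⟩, hB, occ_of_mem hM hgb (IsCen.invBy (isCen_idem B) _) (isInt_idem hM hB) hηg h1⟩
    obtain ⟨n, hn, hne⟩ := exists_normalizer_of_pairOf hM hmax hpair
    exact occ_normalizer hH hn hne hec η hηg
  · intro h1
    obtain ⟨ξ, hξ⟩ := block_nonempty hM he
    obtain ⟨θ, hθ⟩ := block_nonempty hM hc
    set L := lift p P e
    have hLi : IsInt M L := isInt_lift hM he
    have hval : ∀ ζ : IrrCharacter (Cen P), phi P (incl H (res H L)) ζ = phi P L ζ := fun ζ => by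
      rw [phi, phi]
      congr 1
      refine MonoidAlgebra.ext ?_
      ext x
      rw [coeff_res, coeff_res, show (x : G) = ((⟨x, hC x.2⟩ : H) : G) from rfl, coeff_incl_coe,
        coeff_res]
    have hzc : IsCen (res H L) := isCen_res H isCen_lift
    have a1 := phi_incl_eq_omega hM hP hPH hH hc hzc (isInt_res H hLi) hθ h1
    have a2 := phi_incl_eq_omega hM hP hPH hH hc hzc (isInt_res H hLi) hθ (hec ξ hξ)
    rw [hval] at a1 a2
    have b1 := phi_lift hM hmax η
    have b2 := phi_lift hM hmax ξ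
    rw [phi_orbSum hM he hgb hηg] at b1
    rw [phi_orbSum hM he he hξ, if_pos eb_mem_orb] at b2
    by_cases hmem : eb (Cen P) g ∈ orb P e
    · obtain ⟨n, hn, hne⟩ := mem_orb.mp hmem
      have heBn : Occ M P g (idem B) := by
        have key : ∀ (Q : Subgroup G) (g : Set (IrrCharacter (Cen Q))), cjS n P = Q →
            cjA n (eb (Cen P) e) = eb (Cen Q) g → Occ M Q g (idem B) := by
          rintro Q g rfl hg
          obtain rfl : conjBlock P n e = g := eb_injective (by rw [eb_conjBlock, hg])
          rw [← cjA_of_isCen (isCen_idem B) n]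
          exact occ_conj heB
        exact key P g (cjS_of_normalizer hn) hne
      exact heBn η hηg
    · rw [if_neg hmem] at b1
      refine absurd (cast (congrArg (MemLocalIdeal M) ?_)
        (ideal_sub hM (ideal_sub hM b1 b2) (ideal_sub hM a1 a2))) (one_not_ideal hM)
      ring

/-- A block of `H` congruent on `C(P)` to a block with defect group `P` has defect group `P`. -/
theorem defect_of_congr (hM : IsPModular p M) (hP : IsPGroup p P) (hPH : P ≤ H)
    (hH : Subgroup.normalizer (P : Set G) ≤ H) {B : Set (IrrCharacter G)}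
    (hB : IsPBlock M B) (hD : IsDefectGroup p M B P) {c : Set (IrrCharacter H)}
    (hc : IsPBlock M c) (h : Small M (res (Cen P) (idem B - eb H c))) :
    IsDefectGroup p M c (P.subgroupOf H) := by
  set P' := P.subgroupOf H with hP'
  have hPp : IsPGroup p P' := hP.comap_subtype
  have hmem : ∀ (R : Subgroup H) (x : G) (hx : x ∈ H),
      x ∈ Subgroup.centralizer ((R.map H.subtype : Subgroup G) : Set G) ↔
        (⟨x, hx⟩ : H) ∈ Subgroup.centralizer (R : Set H) := by
    intro R x hx
    rw [Subgroup.mem_centralizer_iff, Subgroup.mem_centralizer_iff]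
    refine ⟨fun h a ha => Subtype.ext (h a (Subgroup.mem_map_of_mem _ ha)), ?_⟩
    rintro h _ ⟨a, ha, rfl⟩
    exact congrArg Subtype.val (h a ha)
  have hmapP : P'.map H.subtype = P := Subgroup.map_subgroupOf_eq_of_le hPH
  have hcoeff : ∀ x : G, x ∈ Cen P → ∀ hx : x ∈ H,
      MemLocalIdeal M ((idem B).coeff x - (idem c).coeff ⟨x, hx⟩) := by
    intro x hx hxH
    have := h ⟨x, hx⟩
    rw [coeff_res, MonoidAlgebra.coeff_sub, Finsupp.coe_sub, Pi.sub_apply] at this
    have e : (eb H c).coeff x = (idem c).coeff ⟨x, hxH⟩ := coeff_eb_coe H c ⟨x, hxH⟩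
    rw [← e]; exact this
  obtain ⟨E, hE⟩ := exists_defectGroup hM hc
  have hns : ¬ Small M (cut P' (idem c)) := by
    intro hs
    refine not_small_cut_defect hM hB hD fun x => ?_
    rw [coeff_cut]
    split_ifs with hx
    · have hxH := cen_le hH hx
      have h1 := hs ⟨x, hxH⟩
      rw [coeff_cut, if_pos ((hmem P' x hxH).mp (by rw [hmapP]; exact hx))] at h1
      exact cast (congrArg (MemLocalIdeal M) (sub_add_cancel _ _))
        (ideal_add hM (hcoeff x hx hxH) h1)
    · exact ideal_zero hM
  obtain ⟨y, hy⟩ := (not_small_cut_iff hM hc hE hPp).mp hns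
  set E' := E.map (MulAut.conj y⁻¹).toMonoidHom with hE'
  have hE'd : IsDefectGroup p M c E' := isDefectGroup_map hE y⁻¹
  have hPE : P' ≤ E' := by
    intro a ha
    exact ⟨y * a * y⁻¹, hy ⟨a, ha, rfl⟩, by simp [mul_assoc]⟩
  rcases eq_or_lt_of_le hPE with heq | hlt
  · rwa [← heq] at hE'd
  exfalso
  have hPR := lt_inf_normalizer (isPGroup_of_isDefectGroup hE'd) hlt
  set R := E' ⊓ Subgroup.normalizer (P' : Set H) with hR
  have hRp : IsPGroup p R := (isPGroup_of_isDefectGroup hE'd).to_le inf_le_left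
  have hRns : ¬ Small M (cut R (idem c)) :=
    (not_small_cut_iff hM hc hE'd hRp).mpr (conjLe_of_le inf_le_left)
  refine hRns fun z => ?_
  rw [coeff_cut]
  split_ifs with hz
  · by_contra hne
    have hzR : (z : G) ∈ Subgroup.centralizer ((R.map H.subtype : Subgroup G) : Set G) :=
      (hmem R z z.2).mpr hz
    have hle : P ≤ R.map H.subtype := hmapP ▸ Subgroup.map_mono hPR.le
    have hzP : (z : G) ∈ Cen P := centralizer_le hle hzR
    have hBz : ¬ Small M (cut (R.map H.subtype) (idem B)) := fun hs => hne (by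
      have h1 := hs z
      rw [coeff_cut, if_pos hzR] at h1
      exact cast (congrArg (MemLocalIdeal M) (sub_sub_cancel _ _))
        (ideal_sub hM h1 (hcoeff z hzP z.2)))
    have hcard := card_le_of_conjLe ((not_small_cut_iff hM hB hD (hRp.map _)).mp hBz)
    rw [← hmapP, Subgroup.card_map_of_injective H.subtype_injective,
      Subgroup.card_map_of_injective H.subtype_injective] at hcard
    exact hPR.ne (Subgroup.eq_of_le_of_card_ge hPR.le hcard)
  · exact ideal_zero hM

/-- A pair occurring in a block of `H` with defect group `P` is maximal in `G`. -/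
theorem maximal_of_occ (hM : IsPModular p M) (hPH : P ≤ H)
    (hH : Subgroup.normalizer (P : Set G) ≤ H) {B : Set (IrrCharacter G)}
    {e : Set (IrrCharacter (Cen P))} (hpair : IsBrauerPairOf p M B P e)
    {c : Set (IrrCharacter H)} (hc : IsPBlock M c) (hD : IsDefectGroup p M c (P.subgroupOf H))
    (hec : Occ M P e (eb H c)) : IsMaximalBrauerPair p M B P e := by
  refine ⟨hpair, fun S g _ hle => ?_⟩
  by_contra hne
  obtain ⟨R, f, hPR, hstep, -⟩ := exists_step hM hle (Ne.symm hne)
  obtain ⟨-, ⟨hRp, hf⟩, -, hRN, -, -⟩ := isNormalSubpair_iff.mp hstep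
  have hRH : R ≤ H := hRN.trans hH
  have hCR : Cen R ≤ H := (centralizer_le hPR.le).trans (cen_le hH)
  obtain ⟨ξ, hξ⟩ := block_nonempty hM hstep.1.2
  obtain ⟨η, hη⟩ := block_nonempty hM hf
  have h1 := phi_congr_step hM hstep (isInt_eb hM hc) (invBy_mono hRH (invBy_eb_self H c))
    (invBy_mono (cen_le hH) (invBy_eb_self H c)) hξ hη
  have h2 : MemLocalIdeal M (phi R (eb H c) η - 1) :=
    cast (congrArg (MemLocalIdeal M) (by ring)) (ideal_add hM h1 (hec ξ hξ))
  have hns := not_small_cut_of_phi hM (invBy_mono hCR (invBy_eb_self H c)) h2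
  have hns' : ¬ Small M (cut (R.subgroupOf H) (idem c)) := fun hs => hns fun x => by
    rw [coeff_cut]
    split_ifs with hx
    · have h3 := hs ⟨x, hCR hx⟩
      have hxR : (⟨x, hCR hx⟩ : H) ∈ Subgroup.centralizer (R.subgroupOf H : Set H) :=
        Subgroup.mem_centralizer_iff.mpr fun a ha =>
          Subtype.ext (Subgroup.mem_centralizer_iff.mp hx a ha)
      rw [coeff_cut, if_pos hxR] at h3
      rwa [show x = ((⟨x, hCR hx⟩ : H) : G) from rfl, coeff_eb_coe]
    · exact ideal_zero hM
  have hcard := card_le_of_conjLe ((not_small_cut_iff hM hc hD hRp.comap_subtype).mp hns')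
  rw [show Subgroup.comap H.subtype R = R.subgroupOf H from rfl,
    Nat.card_congr (Subgroup.subgroupOfEquivOfLe hRH).toEquiv,
    Nat.card_congr (Subgroup.subgroupOfEquivOfLe hPH).toEquiv] at hcard
  exact hPR.ne (Subgroup.eq_of_le_of_card_ge hPR.le hcard)

/-- Each block of `G` with defect group `P` corresponds to exactly one block of `H`. -/
theorem existsUnique_down (hM : IsPModular p M) (hP : IsPGroup p P)
    (hH : Subgroup.normalizer (P : Set G) ≤ H) {B : Set (IrrCharacter G)} (hB : IsPBlock M B)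
    (hD : IsDefectGroup p M B P) :
    ∃! c : Set (IrrCharacter H), IsPBlock M c ∧ IsDefectGroup p M c (P.subgroupOf H) ∧
      ∀ x : G, x ∈ Subgroup.centralizer (P : Set G) →
        MemLocalIdeal M (blockCoeff B x - subgroupBlockCoeff H c x) := by
  have hPH : P ≤ H := Subgroup.le_normalizer.trans hH
  obtain ⟨e, he⟩ := exists_pairOf_of_not_small hM hB hP (not_small_cut_defect hM hB hD)
  obtain ⟨⟨-, heb⟩, -, heB⟩ := isBrauerPairOf_iff.mp he
  obtain ⟨ξ, hξ⟩ := block_nonempty hM heb
  obtain ⟨c, ⟨hc, hc1⟩, huniq⟩ := existsUnique_occ_block hM hP hPH hH ξ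
  have hs := small_of_shared hM hP hPH hH (maximal_of_defect hM hD he) hc
    (occ_of_mem hM heb (invBy_mono (cen_le hH) (invBy_eb_self H c)) (isInt_eb hM hc) hξ hc1)
  refine ⟨c, ⟨hc, defect_of_congr hM hP hPH hH hB hD hc hs, (congr_iff (M := M) B c).mpr hs⟩, ?_⟩
  rintro c' ⟨hc', -, hcong⟩
  refine huniq c' ⟨hc', ?_⟩
  have := phi_congr_of_small hM hH ((congr_iff (M := M) B c').mp hcong) ξ
  exact cast (congrArg (MemLocalIdeal M) (by ring)) (ideal_sub hM (heB ξ hξ) this)

/-- Each block of `H` with defect group `P` corresponds to exactly one block of `G`. -/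
theorem existsUnique_up (hM : IsPModular p M) (hP : IsPGroup p P)
    (hH : Subgroup.normalizer (P : Set G) ≤ H) {c : Set (IrrCharacter H)} (hc : IsPBlock M c)
    (hD : IsDefectGroup p M c (P.subgroupOf H)) :
    ∃! B : Set (IrrCharacter G), IsPBlock M B ∧ IsDefectGroup p M B P ∧
      ∀ x : G, x ∈ Subgroup.centralizer (P : Set G) →
        MemLocalIdeal M (blockCoeff B x - subgroupBlockCoeff H c x) := by
  have hPH : P ≤ H := Subgroup.le_normalizer.trans hH
  have hC := cen_le hH
  have hns : ¬ Small M (cut P (eb H c)) := fun hs => not_small_cut_defect hM hc hD fun z => by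
    rw [coeff_cut]
    split_ifs with hz
    · have hzP : (z : G) ∈ Cen P := Subgroup.mem_centralizer_iff.mpr fun a ha =>
        congrArg Subtype.val
          (Subgroup.mem_centralizer_iff.mp hz ⟨a, hPH ha⟩ (Subgroup.mem_subgroupOf.mpr ha))
      have h1 := hs z
      rwa [coeff_cut, if_pos hzP, coeff_eb_coe] at h1
    · exact ideal_zero hM
  obtain ⟨e, heb, hec⟩ := exists_occ_of_not_small hM hP (invBy_mono hPH (invBy_eb_self H c))
    (invBy_mono hC (invBy_eb_self H c)) (isInt_eb hM hc) (eb_sq H c) hns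
  obtain ⟨B, hpair, huniq⟩ := existsUnique_block hM (G := G) (P := P) (e := e) ⟨hP, heb⟩
  have hmax := maximal_of_occ hM hPH hH hpair hc hD hec
  have hs := small_of_shared hM hP hPH hH hmax hc hec
  refine ⟨B, ⟨hpair.2.1, isDefectGroup_of_maximal hM hmax, (congr_iff (M := M) B c).mpr hs⟩, ?_⟩
  rintro B' ⟨hB', -, hcong⟩
  refine huniq B' (isBrauerPairOf_iff.mpr ⟨⟨hP, heb⟩, hB', fun ξ hξ => ?_⟩)
  have := phi_congr_of_small hM hH ((congr_iff (M := M) B' c).mp hcong) ξ
  exact cast (congrArg (MemLocalIdeal M) (by ring)) (ideal_add hM this (hec ξ hξ))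

end Cfsg.Agent.BlockFirstMainOver
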