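import Cfsg.Agent.Lib.BrauerPairs81Max
import Cfsg.Agent.Lib.BlockNormalP81

/-!
Blocks of the stabiliser of a Brauer pair and their defect groups.
-/

namespace Cfsg.Agent.BrauerPairs81Stab

open Cfsg Cfsg.Agent.BlockTheoryLocalRing Cfsg.Agent.BlockTheoryCentre
open Cfsg.Agent.BlockTheoryIdem Cfsg.Agent.BlockTheoryBrauer Cfsg.Agent.BlockTheoryDefect
open Cfsg.Agent.BrauerPairs81Base Cfsg.Agent.BrauerPairs81Pairs Cfsg.Agent.BrauerPairs81Conj
open Cfsg.Agent.BrauerPairs81Max
open scoped ComplexConjugate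

attribute [local instance] Classical.propDecidable

set_option linter.unusedSectionVars false

variable {p : ℕ} [Fact p.Prime] {M : Ideal AlgInt} {G : Type*} [Group G] [Fintype G]

/-- A central idempotent is the idempotent of the characters on which it is one. -/
theorem exists_idem_eq {H : Type*} [Group H] [Fintype H] {z : MonoidAlgebra ℂ H} (hz : IsCen z)
    (hzz : z * z = z) : ∃ A : Set (IrrCharacter H), idem A = z := by
  refine ⟨{χ | omega (χ : H → ℂ) z = 1}, ext_omega (isCen_idem _) hz fun χ => ?_⟩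
  have h := congrArg (omega (χ : H → ℂ)) hzz
  rw [omega_mul χ hz] at h
  rw [omega_idem]
  by_cases h1 : omega (χ : H → ℂ) z = 1
  · rw [if_pos (show χ ∈ {χ : IrrCharacter H | omega (χ : H → ℂ) z = 1} from h1), h1]
  · rw [if_neg (show χ ∉ {χ : IrrCharacter H | omega (χ : H → ℂ) z = 1} from h1)]
    by_contra h0
    exact h1 (mul_eq_left₀ (fun hh => h0 hh.symm) |>.mp h)

section Block

variable {Q : Subgroup G} {f : Set (IrrCharacter (Cen Q))} {H : Subgroup G}

theorem res_mul_incl_eq (hCH : Cen Q ≤ H) :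
    res H (eb (Cen Q) f) * res H (eb (Cen Q) f) = res H (eb (Cen Q) f) := by
  rw [← res_mul_of_supported H (fun x hx => coeff_eb_of_notMem _ f fun h => hx (hCH h)), eb_sq]

set_option maxHeartbeats 800000 in
/-- The idempotent of a pair is a block idempotent of every intermediate group fixing it. -/
theorem exists_block (hM : IsPModular p M) (hQ : IsPGroup p Q) (hf : IsPBlock M f)
    (hCH : Cen Q ≤ H) (hQH : Q ≤ H) (hHN : H ≤ Subgroup.normalizer (Q : Set G))
    (hinv : InvBy H (eb (Cen Q) f)) :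
    ∃ F : Set (IrrCharacter H), IsPBlock M F ∧
      ∀ t : H, blockCoeff F t = (eb (Cen Q) f).coeff t := by
  obtain ⟨F, hF⟩ := exists_idem_eq (isCen_res_of_invBy hinv) (res_mul_incl_eq (f := f) hCH)
  have hFc : ∀ t : H, blockCoeff F t = (eb (Cen Q) f).coeff t := fun t => by
    rw [← coeff_idem F t, hF, coeff_res]
  have hFi : IsInt M (idem F) := hF ▸ isInt_res H (isInt_eb hM hf)
  obtain ⟨χ, hχ⟩ : F.Nonempty := by
    rw [Set.nonempty_iff_ne_empty]
    intro h0
    rw [h0, idem_empty] at hF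
    obtain ⟨ξ, hξ⟩ := block_nonempty hM hf
    have h1 : idem f = 0 := by
      refine MonoidAlgebra.ext ?_
      ext y
      have h2 := congrArg (fun w : MonoidAlgebra ℂ H => w.coeff ⟨y, hCH y.2⟩) hF
      simp only [coeff_res] at h2
      rw [coeff_idem, ← coeff_eb_coe, ← h2]
      simp
    have := omega_idem f ξ
    rw [h1, map_zero, if_pos hξ] at this
    exact zero_ne_one this
  refine ⟨F, ?_, hFc⟩
  suffices hsub : ∀ ψ ∈ F, blockOf M (ψ : H → ℂ) = blockOf M (χ : H → ℂ) by
    refine ⟨χ, Set.Subset.antisymm (fun ψ hψ => ?_) (blockOf_subset_of_isInt hM hFi hχ)⟩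
    show ψ ∈ blockOf M (χ : H → ℂ)
    rw [← hsub ψ hψ]
    exact self_mem_blockOf hM ψ
  intro ψ hψ
  by_contra hne
  haveI : (Q.subgroupOf H).Normal := Subgroup.normal_subgroupOf_of_le_normalizer hHN
  have hQp : IsPGroup p (Q.subgroupOf H) := hQ.comap_subtype
  -- every block inside `F` restricts to the idempotent of `f`
  have key : ∀ A : Set (IrrCharacter H), IsPBlock M A → A ⊆ F →
      res (Cen Q) (incl H (idem A)) = idem f := by
    intro A hA hAF
    have hsupp : ∀ x ∉ Cen Q, (incl H (idem A)).coeff x = 0 := by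
      intro x hx
      by_cases hxH : x ∈ H
      · rw [show x = ((⟨x, hxH⟩ : H) : G) from rfl, coeff_incl_coe, coeff_idem]
        refine BlockNormalP81.blockCoeff_eq_zero hM (Q.subgroupOf H) hQp hA fun h => hx ?_
        refine Subgroup.mem_centralizer_iff.mpr fun u hu => ?_
        exact congrArg Subtype.val
          (Subgroup.mem_centralizer_iff.mp h ⟨u, hQH hu⟩ (Subgroup.mem_subgroupOf.mpr hu))
      · exact coeff_incl_of_notMem _ _ hxH
    set a := res (Cen Q) (incl H (idem A)) with ha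
    have hac : IsCen a := by
      intro g h
      show (res (Cen Q) (incl H (idem A))).coeff (h * g * h⁻¹) =
        (res (Cen Q) (incl H (idem A))).coeff g
      rw [coeff_res, coeff_res]
      have h1 := coeff_incl_coe H (idem A) (⟨h, hCH h.2⟩ * ⟨g, hCH g.2⟩ * (⟨h, hCH h.2⟩ : H)⁻¹)
      have h2 := coeff_incl_coe H (idem A) (⟨g, hCH g.2⟩ : H)
      simp only [Subgroup.coe_mul, Subgroup.coe_inv] at h1 h2 ⊢
      rw [h1, h2]
      exact isCen_idem A _ _
    have hai : IsInt M a := isInt_res _ (isInt_incl _ hM (isInt_idem hM hA))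
    have haf : a * idem f = a := by
      rw [← res_eb (Cen Q) f, ha, ← res_mul_of_supported _ hsupp]
      congr 1
      have e : eb (Cen Q) f = incl H (idem F) := by
        refine MonoidAlgebra.ext ?_
        ext x
        by_cases hxH : x ∈ H
        · rw [show x = ((⟨x, hxH⟩ : H) : G) from rfl, coeff_incl_coe, coeff_idem, hFc]
        · rw [coeff_incl_of_notMem _ _ hxH, coeff_eb_of_notMem _ f fun h => hxH (hCH h)]
      rw [e, ← map_mul, idem_mul_idem, Set.inter_eq_left.mpr hAF]
    have haa : a * a = a := by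
      rw [ha, ← res_mul_of_supported _ hsupp, ← map_mul, idem_sq]
    obtain ⟨S, hS⟩ := exists_idem_eq hac haa
    have hSf : S ⊆ f := fun ξ hξ => by
      by_contra hξf
      have := congrArg (omega (ξ : Cen Q → ℂ)) haf
      rw [omega_mul ξ hac, omega_idem, if_neg hξf, mul_zero, ← hS, omega_idem, if_pos hξ] at this
      exact zero_ne_one this
    rcases S.eq_empty_or_nonempty with h0 | ⟨ξ, hξ⟩
    · exfalso
      rw [h0, idem_empty] at hS
      obtain ⟨χ', hχ'⟩ := block_nonempty hM hA
      have h1 : idem A = 0 := by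
        refine MonoidAlgebra.ext ?_
        ext x
        have hx := coeff_incl_coe H (idem A) x
        by_cases hxC : (x : G) ∈ Cen Q
        · have h2 := congrArg (fun w : MonoidAlgebra ℂ (Cen Q) => w.coeff ⟨x, hxC⟩) hS
          simp only [ha, coeff_res] at h2
          rw [← hx, ← h2]
          simp
        · rw [← hx, hsupp _ hxC]
          simp
      have := omega_idem A χ'
      rw [h1, map_zero, if_pos hχ'] at this
      exact zero_ne_one this
    · have hfS : f ⊆ S := by
        have hb := blockOf_subset_of_isInt hM (hS ▸ hai) hξ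
        rwa [← eq_blockOf_of_mem hM hf (hSf hξ)] at hb
      rw [← hS, Set.Subset.antisymm hSf hfS]
  have h1 := key _ (isPBlock_blockOf ψ) (blockOf_subset_of_isInt hM hFi hψ)
  have h2 := key _ (isPBlock_blockOf χ) (blockOf_subset_of_isInt hM hFi hχ)
  have h3 : idem f * idem f = 0 := by
    conv_lhs => arg 1; rw [← h1]
    rw [← h2, ← res_mul_of_supported _ (fun x hx => ?_), ← map_mul,
      idem_mul_of_ne hM (isPBlock_blockOf ψ) (isPBlock_blockOf χ) hne, map_zero, map_zero]
    by_cases hxH : x ∈ H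
    · rw [show x = ((⟨x, hxH⟩ : H) : G) from rfl, coeff_incl_coe, coeff_idem]
      refine BlockNormalP81.blockCoeff_eq_zero hM (Q.subgroupOf H) hQp (isPBlock_blockOf ψ)
        fun h => hx ?_
      refine Subgroup.mem_centralizer_iff.mpr fun u hu => ?_
      exact congrArg Subtype.val
        (Subgroup.mem_centralizer_iff.mp h ⟨u, hQH hu⟩ (Subgroup.mem_subgroupOf.mpr hu))
    · exact coeff_incl_of_notMem _ _ hxH
  obtain ⟨ξ, hξ⟩ := block_nonempty hM hf
  have := omega_idem f ξ
  rw [← idem_sq f, h3, map_zero, if_pos hξ] at this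
  exact zero_ne_one this

variable {F : Set (IrrCharacter H)}

theorem invBy_of_block (hCH : Cen Q ≤ H)
    (hFc : ∀ t : H, blockCoeff F t = (eb (Cen Q) f).coeff t) : InvBy H (eb (Cen Q) f) := by
  intro u hu x
  by_cases hx : x ∈ H
  · have h1 := hFc (⟨u, hu⟩ * ⟨x, hx⟩ * (⟨u, hu⟩ : H)⁻¹)
    have h2 := hFc ⟨x, hx⟩
    simp only [Subgroup.coe_mul, Subgroup.coe_inv] at h1
    rw [← h1, ← h2]
    exact isCen_idem F ⟨x, hx⟩ ⟨u, hu⟩
  · rw [coeff_eb_of_notMem _ f fun h => hx (hCH h), coeff_eb_of_notMem _ f fun h => hx ?_]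
    simpa [mul_assoc] using H.mul_mem (H.mul_mem (H.inv_mem hu) (hCH h)) hu

variable {B : Set (IrrCharacter G)} {P : Subgroup G} {e : Set (IrrCharacter (Cen P))}

/-- The part of `P` in `H` lies in a defect group. -/
theorem exists_defect_ge (hM : IsPModular p M) (hPe : IsBrauerPair p M P e) (hQP : Q ≤ P)
    (hle : SubpairLE p M Q f P e) (hCH : Cen Q ≤ H)
    (hHN : H ≤ Subgroup.normalizer (Q : Set G)) (hF : IsPBlock M F)
    (hFc : ∀ t : H, blockCoeff F t = (eb (Cen Q) f).coeff t) :
    ∃ D : Subgroup H, IsDefectGroup p M F D ∧ (P ⊓ H).subgroupOf H ≤ D := by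
  set S := Q ⊔ P ⊓ H with hS
  have hSP : S ≤ P := sup_le hQP inf_le_left
  have hSN : S ≤ Subgroup.normalizer (Q : Set G) :=
    sup_le Subgroup.le_normalizer (inf_le_right.trans hHN)
  obtain ⟨g, hg⟩ := exists_subpair hM hPe hSP
  obtain ⟨f0, hf0, -⟩ := existsUnique_normalSubpair hM (isBrauerPair_of_subpairLE hg hPe)
    le_sup_left hSN
  have he : f = f0 := subpair_unique hM hPe hle
    (Relation.ReflTransGen.head (show NormalSubpairRel p M ⟨Q, f0⟩ ⟨S, g⟩ from hf0) hg)
  subst he
  have hns := not_small_cut_of_normalSubpair hM hf0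
  obtain ⟨x, hx⟩ := not_forall.mp hns
  rw [coeff_cut] at hx
  split_ifs at hx with hxS
  swap
  · exact absurd (ideal_zero hM) hx
  have hxH : x ∈ H := hCH (centralizer_le le_sup_left hxS)
  obtain ⟨D0, hD0⟩ := exists_defectGroup hM hF
  have hR : IsPGroup p ((P ⊓ H).subgroupOf H) := (hPe.1.to_le inf_le_left).comap_subtype
  have hxR : (⟨x, hxH⟩ : H) ∈
      Subgroup.centralizer (((P ⊓ H).subgroupOf H : Subgroup H) : Set H) := by
    refine Subgroup.mem_centralizer_iff.mpr fun u hu => Subtype.ext ?_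
    exact Subgroup.mem_centralizer_iff.mp hxS (u : G)
      ((le_sup_right : P ⊓ H ≤ S) (Subgroup.mem_subgroupOf.mp hu))
  have hns' : ¬ Small M (cut ((P ⊓ H).subgroupOf H) (idem F)) := by
    intro hs
    have := hs ⟨x, hxH⟩
    rw [coeff_cut, if_pos hxR, coeff_idem, hFc] at this
    exact hx this
  obtain ⟨c, hc⟩ := (not_small_cut_iff hM hF hD0 hR).mp hns'
  refine ⟨_, isDefectGroup_map hD0 c⁻¹, fun u hu => ?_⟩
  exact ⟨c * u * c⁻¹, hc ⟨u, hu, rfl⟩, by simp [mul_assoc]⟩

/-- A conjugate moves a defect group into a maximal pair. -/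
theorem exists_conj_defect_le (hM : IsPModular p M) (hmax : IsMaximalBrauerPair p M B P e)
    (hQf : IsBrauerPairOf p M B Q f) (hCH : Cen Q ≤ H)
    (hHN : H ≤ Subgroup.normalizer (Q : Set G))
    (hFc : ∀ t : H, blockCoeff F t = (eb (Cen Q) f).coeff t) (hF : IsPBlock M F)
    {D : Subgroup H} (hD : IsDefectGroup p M F D) :
    ∃ x : G, SubpairLE p M (cjS x Q) (conjBlock Q x f) P e ∧
      cjS x (D.map H.subtype) ≤ P := by
  set D' := D.map H.subtype with hD'
  set S := Q ⊔ D' with hS
  have hD'H : D' ≤ H := Subgroup.map_subtype_le _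
  have hD'N : D' ≤ Subgroup.normalizer (Q : Set G) := hD'H.trans hHN
  have hSp : IsPGroup p S :=
    hQf.1.1.to_sup_of_normal_left' ((isPGroup_of_isDefectGroup hD).map _) hD'N
  have hSN : S ≤ Subgroup.normalizer (Q : Set G) := sup_le Subgroup.le_normalizer hD'N
  have hinv : InvBy S (eb (Cen Q) f) :=
    invBy_sup (invBy_eb_cen Q f) (invBy_mono hD'H (invBy_of_block hCH hFc))
  have hns : ¬ Small M (cut S (eb (Cen Q) f)) := by
    intro hs
    refine not_small_cut_defect hM hF hD fun t => ?_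
    rw [coeff_cut]
    split_ifs with ht
    swap
    · exact ideal_zero hM
    rw [coeff_idem, hFc]
    by_cases htQ : (t : G) ∈ Cen Q
    · have htS : (t : G) ∈ Cen S := by
        refine le_centralizer_singleton_iff.mp (sup_le (le_centralizer_singleton_iff.mpr htQ) ?_)
        rintro _ ⟨d, hd, rfl⟩
        exact Subgroup.mem_centralizer_singleton_iff.mpr
          (congrArg Subtype.val (Subgroup.mem_centralizer_iff.mp ht d hd))
      have := hs (t : G)
      rwa [coeff_cut, if_pos htS] at this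
    · rw [coeff_eb_of_notMem _ f htQ]; exact ideal_zero hM
  obtain ⟨g, hg⟩ := exists_normal_step hM hQf.1 hSp le_sup_left hSN hinv hns
  have hBg := isBrauerPairOf_up hM (Relation.ReflTransGen.single
    (show NormalSubpairRel p M ⟨Q, f⟩ ⟨S, g⟩ from hg)) hQf
  obtain ⟨x, hx⟩ := exists_conj_subpairLE hM hmax hBg
  refine ⟨x, (subpairLE_conj x (Relation.ReflTransGen.single
    (show NormalSubpairRel p M ⟨Q, f⟩ ⟨S, g⟩ from hg))).trans hx, ?_⟩
  exact (cjS_mono le_sup_right).trans (subgroup_le_of_subpairLE hx)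

/-- Transport of the block along conjugation. -/
theorem conj_block (x : G) {H' : Subgroup G} (h : ∀ y, y ∈ H ↔ x * y * x⁻¹ ∈ H')
    (hFc : ∀ t : H, blockCoeff F t = (eb (Cen Q) f).coeff t) (t : H') :
    blockCoeff (pushSet (conjEquiv x H H' h) F) t =
      (eb (Cen (cjS x Q)) (conjBlock Q x f)).coeff t := by
  obtain ⟨s, rfl⟩ := (conjEquiv x H H' h).surjective t
  rw [blockCoeff_push, hFc, eb_conjBlock, coeff_cjA]
  congr 1
  simp [conjEquiv, mul_assoc]

/-- The defect group inside a maximal pair. -/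
theorem exists_conj_defect_eq (hM : IsPModular p M) (hmax : IsMaximalBrauerPair p M B P e)
    (hQf : IsBrauerPairOf p M B Q f) (hCH : Cen Q ≤ H)
    (hHN : H ≤ Subgroup.normalizer (Q : Set G))
    (hFc : ∀ t : H, blockCoeff F t = (eb (Cen Q) f).coeff t) (hF : IsPBlock M F) :
    ∃ x : G, SubpairLE p M (cjS x Q) (conjBlock Q x f) P e ∧
      ∀ (H' : Subgroup G) (h : ∀ y, y ∈ H ↔ x * y * x⁻¹ ∈ H'),
        IsDefectGroup p M (pushSet (conjEquiv x H H' h) F) ((P ⊓ H').subgroupOf H') := by
  obtain ⟨D, hD⟩ := exists_defectGroup hM hF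
  obtain ⟨x, hx, hxP⟩ := exists_conj_defect_le hM hmax hQf hCH hHN hFc hF hD
  refine ⟨x, hx, fun H' h => ?_⟩
  have hH' : H' = cjS x H := by
    ext y
    rw [mem_cjS, h (x⁻¹ * y * x)]
    simp [mul_assoc]
  have hFp := isPBlock_push (conjEquiv x H H' h) hF
  have hCH' : Cen (cjS x Q) ≤ H' := fun y hy => by
    rw [hH', mem_cjS]
    refine hCH ((mem_cen_cjS x Q _).mpr ?_)
    simpa [mul_assoc] using hy
  obtain ⟨D'', hD'', hle⟩ := exists_defect_ge hM hmax.1.1 (subgroup_le_of_subpairLE hx) hx hCH'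
    (hH' ▸ cjS_le_normalizer hHN) hFp (conj_block x h hFc)
  obtain ⟨c, hc⟩ := defectGroup_conj hM hFp (isDefectGroup_push (conjEquiv x H H' h) hD) hD''
  have hcard : Nat.card D'' = Nat.card D := by
    rw [← hc, Subgroup.card_map_of_injective (MulAut.conj c).injective,
      Subgroup.card_map_of_injective (conjEquiv x H H' h).injective]
  have hge : Nat.card D ≤ Nat.card ((P ⊓ H').subgroupOf H') := by
    rw [Nat.card_congr (Subgroup.subgroupOfEquivOfLe (inf_le_right : P ⊓ H' ≤ H')).toEquiv,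
      Nat.card_congr (D.equivMapOfInjective _ H.subtype_injective).toEquiv, ← card_cjS x (D.map H.subtype)]
    exact Subgroup.card_le_of_le (le_inf hxP (hH' ▸ cjS_mono (Subgroup.map_subtype_le _)))
  rwa [Subgroup.eq_of_le_of_card_ge hle (hcard ▸ hge)]

end Block

end Cfsg.Agent.BrauerPairs81Stab
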