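import Cfsg.Agent.Lib.BrauerBlocksCovering
import Cfsg.Agent.Lib.BlockTheoryDefect
import Cfsg.Agent.Lib.BlockContribBounds
import Cfsg.Agent.Lib.BrauerPairs81Stab

/-!
Fong: the largest defect group of a block covering an invariant block of a normal subgroup.
-/

set_option autoImplicit false

namespace Cfsg.Agent.BlockFong9

open Cfsg Cfsg.Agent.BlockTheoryLocalRing Cfsg.Agent.BlockTheoryCentre
open Cfsg.Agent.BlockTheoryIdem Cfsg.Agent.BlockTheoryBrauer Cfsg.Agent.BlockTheoryDefect
open Cfsg.Agent.BrauerBlocksCovering Cfsg.Agent.BrauerPairs81Base Cfsg.Agent.BlockTheoryNormal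
open Cfsg.Agent.CharInduced Cfsg.Agent.BlockTheoryRotation
open scoped ComplexConjugate

attribute [local instance] Classical.propDecidable

set_option linter.unusedSectionVars false

variable {p : ℕ} [Fact p.Prime] {M : Ideal AlgInt} {G : Type*} [Group G] [Fintype G]
variable (N : Subgroup G) [hN : N.Normal] [Fintype N]

theorem isConj_sub_iff {g x : N} : IsConj g x → IsConj (g : G) (x : G) :=
  fun h => N.subtype.map_isConj h

theorem card_class_conj {g x : N} (h : IsConj (g : G) (x : G)) :
    Nat.card {y : N // IsConj x y} = Nat.card {y : N // IsConj g y} := by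
  obtain ⟨c, hc⟩ := isConj_iff.mp h
  have hσ : (MulAut.conjNormal c : N ≃* N) g = x := Subtype.ext (by simpa using hc)
  refine (Nat.card_congr ((MulAut.conjNormal c : N ≃* N).toEquiv.subtypeEquiv
    fun y => ⟨fun h => ?_, fun h => ?_⟩)).symm
  · have := (MulAut.conjNormal c : N ≃* N).toMonoidHom.map_isConj h
    simpa [hσ] using this
  · have := (MulAut.conjNormal c : N ≃* N).symm.toMonoidHom.map_isConj h
    simpa [← hσ] using this

/-- The classes of `N` inside the class of `g` in `G`. -/
noncomputable def subClasses (g : N) : Finset (ConjClasses N) :=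
  Finset.univ.filter fun C => IsConj (g : G) (C.out : G)

theorem card_class_eq (g : N) :
    Nat.card {x : G // IsConj (g : G) x} =
      (subClasses N g).card * Nat.card {y : N // IsConj g y} := by
  have h1 : Nat.card {x : G // IsConj (g : G) x} = Nat.card {x : N // IsConj (g : G) (x : G)} := by
    refine Nat.card_congr
      { toFun := fun x => ⟨⟨x.1, ?_⟩, x.2⟩
        invFun := fun x => ⟨x.1, x.2⟩
        left_inv := fun _ => rfl
        right_inv := fun _ => rfl }
    obtain ⟨c, hc⟩ := isConj_iff.mp x.2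
    rw [← hc]
    exact hN.conj_mem _ g.2 c
  have hmaps : Set.MapsTo ConjClasses.mk
      (↑(Finset.univ.filter fun x : N => IsConj (g : G) (x : G)) : Set N)
      (↑(subClasses N g) : Set (ConjClasses N)) := by
    intro x hx
    have hx' : IsConj (g : G) (x : G) := (Finset.mem_filter.mp hx).2
    exact Finset.mem_filter.mpr ⟨Finset.mem_univ _,
      hx'.trans (isConj_sub_iff N ((isConj_out _).mp rfl)).symm⟩
  have hfib : ∀ C ∈ subClasses N g,
      ((Finset.univ.filter fun x : N => IsConj (g : G) (x : G)).filter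
        fun x => ConjClasses.mk x = C).card = Nat.card {y : N // IsConj g y} := by
    intro C hC
    have hC' : IsConj (g : G) (C.out : G) := (Finset.mem_filter.mp hC).2
    rw [← card_class_conj N hC', Nat.card_eq_fintype_card, Fintype.card_subtype,
      Finset.filter_filter]
    congr 1
    ext y
    simp only [Finset.mem_filter, Finset.mem_univ, true_and]
    exact ⟨fun h => (isConj_out _).mp h.2,
      fun h => ⟨hC'.trans (isConj_sub_iff N h), (isConj_out _).mpr h⟩⟩
  rw [h1, Nat.card_eq_fintype_card, Fintype.card_subtype,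
    Finset.card_eq_sum_card_fiberwise hmaps, Finset.sum_const_nat hfib]

theorem classCoeff_res_classSum (g c : N) :
    classCoeff c (res N (classSum (g : G))) =
      if IsConj (g : G) (c : G) then
        ((Subgroup.centralizer ({c} : Set N)).index : ℂ) else 0 := by
  have hval : ∀ x ∈ Finset.univ.filter (IsConj c),
      (res N (classSum (g : G))).coeff x = if IsConj (g : G) (c : G) then (1 : ℂ) else 0 := by
    intro x hx
    simp only [coeff_res, classSum, coeff_ofFun]
    have hx' : IsConj (c : G) (x : G) := isConj_sub_iff N (Finset.mem_filter.mp hx).2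
    exact if_congr ⟨fun h => h.trans hx'.symm, fun h => h.trans hx'⟩ rfl rfl
  have e : classCoeff c (res N (classSum (g : G))) =
      ∑ x ∈ Finset.univ.filter (IsConj c), (res N (classSum (g : G))).coeff x := by
    simp only [classCoeff, LinearMap.coe_mk, AddHom.coe_mk]
    exact Finset.sum_congr (Finset.ext fun x => by simp) fun _ _ => rfl
  rw [e, Finset.sum_congr rfl hval, Finset.sum_const, nsmul_eq_mul, index_centralizer_eq, Nat.card_eq_fintype_card, Fintype.card_subtype]
  split_ifs <;> simp

theorem omega_res_classSum_eq (θ : IrrCharacter N) (g : N) :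
    omega (θ : N → ℂ) (res N (classSum (g : G))) =
      ∑ C ∈ subClasses N g, centralChar (θ : N → ℂ) C.out := by
  rw [omega_apply, chiSum_eq_sum_classCoeff (irr_classFun θ), Finset.mul_sum, subClasses,
    Finset.sum_filter]
  refine Finset.sum_congr (Finset.ext fun _ => by simp) fun C _ => ?_
  rw [classCoeff_res_classSum, centralChar]
  split_ifs with h
  · rw [div_eq_inv_mul]; ring
  · simp

variable {b : Set (IrrCharacter N)}

theorem orb_eq (hinv : ∀ g : G, ∀ θ ∈ b, conjIrr N θ g ∈ b) : orb N b = b := by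
  refine Set.Subset.antisymm ?_ fun ξ => mem_orb_of_mem N
  rintro ξ ⟨g, hg⟩
  have := hinv g⁻¹ _ hg
  rwa [conjIrr_conjIrr, mul_inv_cancel, conjIrr_one] at this

theorem centralChar_conj_congr (hM : IsPModular p M) (hb : IsPBlock M b)
    (hinv : ∀ g : G, ∀ θ ∈ b, conjIrr N θ g ∈ b) {θ : IrrCharacter N} (hθ : θ ∈ b) {g x : N}
    (h : IsConj (g : G) (x : G)) :
    MemLocalIdeal M (centralChar (θ : N → ℂ) x - centralChar (θ : N → ℂ) g) := by
  obtain ⟨c, hc⟩ := isConj_iff.mp h
  have hσ : (MulAut.conjNormal c : N ≃* N) g = x := Subtype.ext (by simpa using hc)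
  have h1 := sameBlock_of_mem hM hb (hinv c θ hθ) hθ g
  rw [show ((conjIrr N θ c : IrrCharacter N) : N → ℂ) = conjFun N (θ : N → ℂ) c from rfl,
    centralChar_conjFun, hσ] at h1
  exact h1

/-- A defect class of the invariant block whose number of classes in `N` is prime to `p`. -/
theorem exists_good_class (hM : IsPModular p M) (hb : IsPBlock M b)
    (hinv : ∀ g : G, ∀ θ ∈ b, conjIrr N θ g ∈ b) :
    ∃ g : N, IsDefectClass M b g ∧ ¬ p ∣ (subClasses N g).card := by
  obtain ⟨θ, hθ⟩ := block_nonempty hM hb
  have horb := orb_eq N hinv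
  have hcen : IsCen (liftIdem N b) := horb ▸ isCen_liftIdem N fun ξ a => conjIrr_mem_orb_iff N a
  have hbi := isInt_idem hM hb
  have hl : omega (θ : N → ℂ) (res N (liftIdem N b)) = 1 := by
    rw [res_liftIdem, omega_idem, if_pos hθ]
  by_contra hcon
  refine one_not_ideal hM ?_
  rw [← hl, hcen.eq_sum_classSum, map_sum, map_sum]
  refine ideal_sum hM fun K _ => ?_
  rw [map_smul, map_smul, smul_eq_mul]
  by_cases hK : K.out ∈ N
  swap
  · rw [liftIdem_supp N b _ hK, zero_mul]
    exact ideal_zero hM
  set g : N := ⟨K.out, hK⟩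
  have hc : (liftIdem N b).coeff K.out = blockCoeff b g := by
    simp only [liftIdem, coeff_ofFun, dif_pos hK]
    rfl
  have hcR : MemLocalRing M (blockCoeff b g) := blockCoeff_mem hM hb g
  rw [hc, show (K.out : G) = (g : G) from rfl, omega_res_classSum_eq]
  by_cases hcI : MemLocalIdeal M (blockCoeff b g)
  · refine ideal_mul_right hM hcI ((localRing hM).sum_mem fun C _ => ?_)
    rw [← omega_classSum (irr_classFun θ)]
    exact omega_mem_localRing hM θ (isCen_classSum _) (isInt_classSum hM _)
  refine ideal_mul_left hM hcR ?_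
  have hsum : MemLocalIdeal M ((∑ C ∈ subClasses N g, centralChar (θ : N → ℂ) C.out) -
      ((subClasses N g).card : ℂ) * centralChar (θ : N → ℂ) g) := by
    rw [← nsmul_eq_mul, ← Finset.sum_const, ← Finset.sum_sub_distrib]
    exact ideal_sum hM fun C hC =>
      centralChar_conj_congr N hM hb hinv hθ (Finset.mem_filter.mp hC).2
  have hωR : MemLocalRing M (centralChar (θ : N → ℂ) g) := by
    rw [← omega_classSum (irr_classFun θ)]
    exact omega_mem_localRing hM θ (isCen_classSum _) (isInt_classSum hM _)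
  suffices hm : MemLocalIdeal M (((subClasses N g).card : ℂ) * centralChar (θ : N → ℂ) g) by
    simpa using ideal_add hM hsum hm
  by_cases hp : p ∣ (subClasses N g).card
  · exact ideal_mul_right hM ((natCast_mem_iff hM).mpr hp) hωR
  by_cases hω : MemLocalIdeal M (centralChar (θ : N → ℂ) g)
  · exact ideal_mul_left hM (natCast_mem (localRing hM) _) hω
  exfalso
  refine hcon ⟨g, ⟨hcR, hcI, fun ψ hψ hψI => hω ?_⟩, hp⟩
  have h2 := sameBlock_of_mem hM hb hθ hψ g
  simpa using ideal_add hM h2 hψI

/-- The Fong bound is attained on the centraliser of a good class. -/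
theorem exists_large_sylow (hM : IsPModular p M) (hb : IsPBlock M b)
    (hinv : ∀ g : G, ∀ θ ∈ b, conjIrr N θ g ∈ b) :
    ∃ R : Subgroup G, IsPGroup p R ∧
      Nat.card R = p ^ (blockDefect p b + N.index.factorization p) ∧
      ¬ Small M (cut R (liftIdem N b)) := by
  obtain ⟨g, hg, hm⟩ := exists_good_class N hM hb hinv
  obtain ⟨S⟩ : Nonempty (Sylow p (Subgroup.centralizer ({(g : G)} : Set G))) := Sylow.nonempty
  obtain ⟨T⟩ : Nonempty (Sylow p (Subgroup.centralizer ({g} : Set N))) := Sylow.nonempty
  have hd : (Nat.card (Subgroup.centralizer ({g} : Set N))).factorization p = blockDefect p b := by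
    have h1 := BlockContribBounds.card_defectGroup hM hb ⟨g, hg, T, rfl⟩
    rw [Subgroup.card_map_of_injective Subtype.val_injective, Sylow.card_eq_multiplicity] at h1
    exact Nat.pow_right_injective (Fact.out : p.Prime).two_le h1
  refine ⟨_, isPGroup_sylowIn S, ?_, fun hs => hg.2.1 ?_⟩
  · rw [Subgroup.card_map_of_injective Subtype.val_injective, Sylow.card_eq_multiplicity]
    congr 1
    have h1 := card_class_eq N g
    rw [← index_centralizer_eq, ← index_centralizer_eq] at h1
    have h2 : (Subgroup.centralizer ({(g : G)} : Set G)).index.factorization p =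
        (Subgroup.centralizer ({g} : Set N)).index.factorization p := by
      rw [h1, Nat.factorization_mul (fun h => hm (by rw [h]; exact dvd_zero p))
        Subgroup.index_ne_zero_of_finite, Finsupp.add_apply,
        Nat.factorization_eq_zero_of_not_dvd hm, zero_add]
    have key : ∀ {H : Type _} [Group H] [Finite H] (K : Subgroup H),
        (Nat.card H).factorization p = K.index.factorization p + (Nat.card K).factorization p := by
      intro H _ _ K
      rw [← K.index_mul_card, Nat.factorization_mul Subgroup.index_ne_zero_of_finite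
        Nat.card_pos.ne']
      rfl
    have e1 := key (Subgroup.centralizer ({(g : G)} : Set G))
    have e2 := key (Subgroup.centralizer ({g} : Set N))
    have e3 := key N
    omega
  · have := hs (g : G)
    rw [coeff_cut, if_pos (mem_centralizer_sylowIn S)] at this
    simpa [liftIdem] using this

theorem omega_lift_of_cover (hM : IsPModular p M) (hb : IsPBlock M b)
    (hinv : ∀ g : G, ∀ θ ∈ b, conjIrr N θ g ∈ b) {B : Set (IrrCharacter G)} (hB : IsPBlock M B)
    (hcov : ∃ χ ∈ B, ∃ θ ∈ b, classInner (fun n : N => (χ : G → ℂ) n) (θ : N → ℂ) ≠ 0)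
    {χ : IrrCharacter G} (hχ : χ ∈ B) : omega (χ : G → ℂ) (liftIdem N b) = 1 := by
  obtain ⟨χ₀, hχ₀, θ, hθ, hcon⟩ := hcov
  obtain ⟨ψ, hψ⟩ := exists_constituent (G := N)
    (isCharacter_res N (CharBasic.isCharacter_of_isIrrCharacter χ.2)) (irr_one_ne_zero χ)
  have hmem := mem_orb_of_sameBlock N hM hb (sameBlock_of_mem hM hB hχ₀ hχ) hθ hcon hψ
  rw [← orb_eq N hinv, omega_lift N χ hψ, if_pos hmem]

theorem exists_cover_large (hM : IsPModular p M) (hb : IsPBlock M b)
    (hinv : ∀ g : G, ∀ θ ∈ b, conjIrr N θ g ∈ b) :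
    ∃ B : Set (IrrCharacter G), IsPBlock M B ∧
      (∃ χ ∈ B, ∃ θ ∈ b, classInner (fun n : N => (χ : G → ℂ) n) (θ : N → ℂ) ≠ 0) ∧
      blockDefect p b + N.index.factorization p ≤ blockDefect p B := by
  obtain ⟨R, hR, hcard, hns⟩ := exists_large_sylow N hM hb hinv
  have hcen : IsCen (liftIdem N b) :=
    orb_eq N hinv ▸ isCen_liftIdem N fun ξ a => conjIrr_mem_orb_iff N a
  by_contra hcon
  refine hns ?_
  rw [← mul_one (liftIdem N b), ← sum_idem_blockSet hM, Finset.mul_sum, map_sum]
  refine Finset.sum_induction _ (Small M) (fun a c => small_add hM) (small_zero hM) fun B hB => ?_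
  have hB' := mem_blockSet.mp hB
  by_cases hcov : ∃ χ ∈ B, ∃ θ ∈ b, classInner (fun n : N => (χ : G → ℂ) n) (θ : N → ℂ) ≠ 0
  · have e : liftIdem N b * idem B = idem B := by
      refine ext_omega (hcen.mul (isCen_idem B)) (isCen_idem B) fun χ => ?_
      rw [omega_mul χ hcen, omega_idem]
      split_ifs with hχ
      · rw [omega_lift_of_cover N hM hb hinv hB' hcov hχ, one_mul]
      · rw [mul_zero]
    rw [e]
    by_contra hs
    obtain ⟨D, hD⟩ := exists_defectGroup hM hB'
    have h1 := card_le_of_conjLe ((not_small_cut_iff hM hB' hD hR).mp hs)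
    rw [hcard, BlockContribBounds.card_defectGroup hM hB' hD] at h1
    exact hcon ⟨B, hB', hcov, (Nat.pow_le_pow_iff_right (Fact.out : p.Prime).one_lt).mp h1⟩
  · have e : liftIdem N b * idem B = 0 := by
      refine ext_omega (hcen.mul (isCen_idem B)) isCen_zero fun χ => ?_
      rw [omega_mul χ hcen, omega_idem, map_zero]
      split_ifs with hχ
      · obtain ⟨ψ, hψ⟩ := exists_constituent (G := N)
          (isCharacter_res N (CharBasic.isCharacter_of_isIrrCharacter χ.2)) (irr_one_ne_zero χ)
        rw [← orb_eq N hinv, omega_lift N χ hψ, if_neg, zero_mul]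
        intro hmem
        obtain ⟨θ, hθ, hc⟩ := exists_constituent_mem N hψ hmem
        exact hcov ⟨χ, hχ, θ, hθ, hc⟩
      · rw [mul_zero]
    rw [e, map_zero]
    exact small_zero hM

theorem inter_conjLe (hM : IsPModular p M) (hb : IsPBlock M b)
    (hinv : ∀ g : G, ∀ θ ∈ b, conjIrr N θ g ∈ b) {B : Set (IrrCharacter G)} (hB : IsPBlock M B)
    (hcov : ∃ χ ∈ B, ∃ θ ∈ b, classInner (fun n : N => (χ : G → ℂ) n) (θ : N → ℂ) ≠ 0)
    {P : Subgroup G} (hP : IsDefectGroup p M B P) {D : Subgroup N} (hD : IsDefectGroup p M b D) :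
    ConjLe (P.subgroupOf N) D := by
  have hPp := isPGroup_of_isDefectGroup hP
  refine (not_small_cut_iff hM hb hD hPp.comap_subtype).mp fun hs => ?_
  have hcen : IsCen (liftIdem N b) :=
    orb_eq N hinv ▸ isCen_liftIdem N fun ξ a => conjIrr_mem_orb_iff N a
  have hli : IsInt M (liftIdem N b) := isInt_liftIdem N hM (isInt_idem hM hb)
  have hsmall : Small M (cut P (liftIdem N b)) := by
    intro x
    rw [coeff_cut]
    split_ifs with hx
    · by_cases hxN : x ∈ N
      · have := hs ⟨x, hxN⟩
        rw [coeff_cut, if_pos, coeff_idem] at this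
        · simpa [liftIdem, hxN] using this
        · exact Subgroup.mem_centralizer_iff.mpr fun u hu => Subtype.ext
            (Subgroup.mem_centralizer_iff.mp hx (u : G) (Subgroup.mem_subgroupOf.mp hu))
      · rw [liftIdem_supp N b x hxN]; exact ideal_zero hM
    · exact ideal_zero hM
  have e : liftIdem N b * idem B = idem B := by
    refine ext_omega (hcen.mul (isCen_idem B)) (isCen_idem B) fun χ => ?_
    rw [omega_mul χ hcen, omega_idem]
    split_ifs with hχ
    · rw [omega_lift_of_cover N hM hb hinv hB hcov hχ, one_mul]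
    · rw [mul_zero]
  refine not_small_cut_defect hM hB hP ?_
  have h1 := small_add hM
    (cut_mul hM P hPp hcen (isCen_idem B) hli (isInt_idem hM hB))
    (small_mul_right hM hsmall (isInt_cut hM P (isInt_idem hM hB)))
  rw [sub_add_cancel, e] at h1
  exact h1

/-- Fong's theorem. -/
theorem fong (hM : IsPModular p M) (hb : IsPBlock M b)
    (hinv : ∀ g : G, ∀ θ ∈ b, conjIrr N θ g ∈ b) {B : Set (IrrCharacter G)} (hB : IsPBlock M B)
    (hcov : ∃ χ ∈ B, ∃ θ ∈ b, classInner (fun n : N => (χ : G → ℂ) n) (θ : N → ℂ) ≠ 0)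
    (hmax : ∀ B' : Set (IrrCharacter G), IsPBlock M B' →
      (∃ χ ∈ B', ∃ θ ∈ b, classInner (fun n : N => (χ : G → ℂ) n) (θ : N → ℂ) ≠ 0) →
      blockDefect p B' ≤ blockDefect p B)
    {P : Subgroup G} (hP : IsDefectGroup p M B P) :
    ¬ p ∣ (P ⊔ N).index ∧ IsDefectGroup p M b (P.subgroupOf N) ∧
      blockDefect p B = blockDefect p b + N.index.factorization p := by
  have hp : p.Prime := Fact.out
  obtain ⟨B', hB', hcov', hlow⟩ := exists_cover_large N hM hb hinv
  have hge := hlow.trans (hmax B' hB' hcov')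
  obtain ⟨D, hD⟩ := exists_defectGroup hM hb
  have hcj := inter_conjLe N hM hb hinv hB hcov hP hD
  have hcard := card_le_of_conjLe hcj
  have hDc := BlockContribBounds.card_defectGroup hM hb hD
  have hPc := BlockContribBounds.card_defectGroup hM hB hP
  have hsplit : Nat.card (P.subgroupOf N) * N.relIndex P = Nat.card P := by
    rw [Subgroup.relIndex, ← (N.subgroupOf P).index_mul_card, mul_comm]
    congr 1
    exact Nat.card_congr
      { toFun := fun x => ⟨⟨x.1.1, x.2⟩, x.1.2⟩
        invFun := fun x => ⟨⟨x.1.1, x.2⟩, x.1.2⟩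
        left_inv := fun _ => rfl
        right_inv := fun _ => rfl }
  obtain ⟨k, hk, hkeq⟩ := (Nat.dvd_prime_pow hp).mp (hPc ▸ ⟨_, hsplit.symm⟩ :
    Nat.card (P.subgroupOf N) ∣ p ^ blockDefect p B)
  have hr : N.relIndex P = p ^ (blockDefect p B - k) := by
    refine Nat.eq_of_mul_eq_mul_left (pow_pos hp.pos k) ?_
    rw [← hkeq, hsplit, hPc, hkeq, ← pow_add, Nat.add_sub_cancel' hk]
  have hkd : k ≤ blockDefect p b := by
    rw [hDc, hkeq] at hcard
    exact (Nat.pow_le_pow_iff_right hp.one_lt).mp hcard
  have hri : blockDefect p B - k ≤ N.index.factorization p := by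
    refine (hp.pow_dvd_iff_le_factorization Subgroup.index_ne_zero_of_finite).mp ?_
    rw [← hr]
    exact Subgroup.relIndex_dvd_index_of_normal N P
  have heq : blockDefect p B = blockDefect p b + N.index.factorization p := by omega
  refine ⟨?_, ?_, heq⟩
  · intro hdvd
    have h1 := Subgroup.relIndex_mul_index (show N ≤ P ⊔ N from le_sup_right)
    rw [Subgroup.relIndex_sup_right, hr] at h1
    have h2 : (p ^ (blockDefect p B - k) * p) ∣ N.index := h1 ▸ mul_dvd_mul_left _ hdvd
    rw [← pow_succ, hp.pow_dvd_iff_le_factorization Subgroup.index_ne_zero_of_finite] at h2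
    omega
  · obtain ⟨x, hx⟩ := eq_map_of_conjLe hcj (by
      rw [hkeq, hDc]
      exact Nat.pow_le_pow_right hp.pos (by omega))
    have h3 := isDefectGroup_map hD x⁻¹
    rw [← hx] at h3
    change IsDefectGroup p M b
      (BrauerPairs81Conj.cjS x⁻¹ (BrauerPairs81Conj.cjS x (P.subgroupOf N))) at h3
    rwa [BrauerPairs81Conj.cjS_cjS, inv_mul_cancel, BrauerPairs81Conj.cjS_one] at h3

end Cfsg.Agent.BlockFong9
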