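import Mathlib

/-!
A coprime group of automorphisms of an abelian `p`-group, fixing a subgroup with two-generated
quotient in which every cyclic subgroup has index at least `p ^ 2`, moves some element freely.
-/

set_option autoImplicit false

namespace Cfsg.Agent.BlockFreeElement31

attribute [local instance] Classical.propDecidable

variable {V : Type*} [CommGroup V] [Finite V] {p : ℕ}

theorem zpowers_le_of_coprime {x : V} {S : Subgroup V} (hp : p.Prime) (hV : IsPGroup p V) {n : ℕ}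
    (hn : ¬ p ∣ n) (h : x ^ n ∈ S) : x ∈ S := by
  haveI := Fact.mk hp
  obtain ⟨k, hk⟩ := IsPGroup.iff_orderOf.mp hV x
  have hcop : n.Coprime (orderOf x) := hk ▸ ((hp.coprime_iff_not_dvd.2 hn).pow_left k).symm
  obtain ⟨r, hr⟩ := exists_pow_eq_self_of_coprime hcop
  rw [← hr]
  exact pow_mem h r

/-- The displacement of an automorphism. -/
def disp (c : MulAut V) : V →* V where
  toFun x := c x * x⁻¹
  map_one' := by simp
  map_mul' x y := by
    rw [map_mul, mul_inv]
    exact mul_mul_mul_comm _ _ _ _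

theorem disp_apply (c : MulAut V) (x : V) : disp c x = c x * x⁻¹ := rfl

theorem apply_eq_disp (c : MulAut V) (x : V) : c x = disp c x * x := by
  rw [disp_apply, inv_mul_cancel_right]

/-- One step of the descent of the displacement of an automorphism of order prime to `p`. -/
theorem disp_step (hp : p.Prime) (hV : IsPGroup p V) {c : MulAut V} {m : ℕ} (hm : ¬ p ∣ m)
    (hc : c ^ m = 1) {S S' : Subgroup V} (hS'S : S' ≤ S) (h1 : ∀ x, disp c x ∈ S)
    (h2 : ∀ x ∈ S, disp c x ∈ S') (x : V) : disp c x ∈ S' := by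
  have key : ∀ i : ℕ, (c ^ i) x * ((disp c x) ^ i * x)⁻¹ ∈ S' := by
    intro i
    induction i with
    | zero => simp
    | succ i ih =>
      obtain ⟨t, ht, hxt⟩ : ∃ t ∈ S', (c ^ i) x = t * ((disp c x) ^ i * x) :=
        ⟨_, ih, (inv_mul_cancel_right _ _).symm⟩
      have hct : c t ∈ S' := by
        rw [apply_eq_disp c t]; exact mul_mem (h2 t (hS'S ht)) ht
      rw [pow_succ' c i, MulAut.mul_apply, hxt, map_mul, map_mul, map_pow,
        apply_eq_disp c (disp c x), apply_eq_disp c x, mul_pow, pow_succ]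
      have hd : disp c (disp c x) ^ i ∈ S' := pow_mem (h2 _ (h1 x)) i
      have e : c t * (disp c (disp c x) ^ i * disp c x ^ i * (disp c x * x)) *
          (disp c x ^ i * disp c x * x)⁻¹ = c t * disp c (disp c x) ^ i := by
        rw [show disp c (disp c x) ^ i * disp c x ^ i * (disp c x * x) =
          disp c (disp c x) ^ i * (disp c x ^ i * disp c x * x) by
          simp only [mul_assoc], ← mul_assoc, mul_inv_cancel_right]
      rw [e]
      exact mul_mem hct hd
  have h := key m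
  rw [hc, MulAut.one_apply, mul_inv_rev, ← mul_assoc, mul_inv_cancel, one_mul] at h
  exact zpowers_le_of_coprime hp hV hm (inv_mem_iff.1 h)

/-- The powers of exponent `p ^ i`. -/
def pw (p : ℕ) (i : ℕ) : Subgroup V := (powMonoidHom (p ^ i) : V →* V).range

theorem exists_pw_eq_bot (hp : p.Prime) (hV : IsPGroup p V) : ∃ n, (pw p n : Subgroup V) = ⊥ := by
  haveI := Fact.mk hp
  obtain ⟨n, hn⟩ := IsPGroup.iff_card.1 hV
  refine ⟨n, (Subgroup.eq_bot_iff_forall _).2 ?_⟩
  rintro _ ⟨x, rfl⟩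
  show x ^ p ^ n = 1
  rw [← hn]
  exact pow_card_eq_one'

/-- An automorphism of order prime to `p`, trivial on `W` and modulo `W` times the `p`-th powers. -/
theorem eq_one_of_mod (hp : p.Prime) (hV : IsPGroup p V) {c : MulAut V} {m : ℕ} (hm : ¬ p ∣ m)
    (hc : c ^ m = 1) {W : Subgroup V} (hW : ∀ x ∈ W, c x = x)
    (h : ∀ x, disp c x ∈ W ⊔ pw p 1) : c = 1 := by
  have hW' : ∀ x ∈ W, disp c x = 1 := fun x hx => by rw [disp_apply, hW x hx, mul_inv_cancel]
  have hall : ∀ i, ∀ x, disp c x ∈ W ⊔ pw p (i + 1) := by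
    intro i
    induction i with
    | zero => exact h
    | succ i ih =>
      refine disp_step hp hV hm hc (sup_le_sup_left ?_ W) ih fun x hx => ?_
      · rintro _ ⟨y, rfl⟩
        exact ⟨y ^ p, by simp [powMonoidHom_apply, ← pow_mul, ← pow_succ']⟩
      · obtain ⟨w, hw, _, ⟨y, rfl⟩, rfl⟩ := Subgroup.mem_sup.1 hx
        rw [map_mul, hW' w hw, one_mul, powMonoidHom_apply, map_pow]
        obtain ⟨w', hw', _, ⟨y', rfl⟩, he⟩ := Subgroup.mem_sup.1 (ih y)
        rw [← he, mul_pow, powMonoidHom_apply, ← pow_mul, ← pow_add]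
        refine mul_mem (Subgroup.mem_sup_left (pow_mem hw' _)) (Subgroup.mem_sup_right ⟨y' ^ p ^ i, ?_⟩)
        rw [powMonoidHom_apply, ← pow_mul, ← pow_add]
        congr 2
        omega
  obtain ⟨n, hn⟩ := exists_pw_eq_bot (V := V) hp hV
  have hn1 : ∀ x, disp c x ∈ W := fun x => by
    have h1 := hall n x
    have hle : (pw p (n + 1) : Subgroup V) ≤ pw p n := by
      rintro _ ⟨y, rfl⟩
      exact ⟨y ^ p, by simp [powMonoidHom_apply, ← pow_mul, ← pow_succ']⟩
    rw [hn, le_bot_iff] at hle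
    rwa [hle, sup_bot_eq] at h1
  refine MulEquiv.ext fun x => ?_
  have h2 : disp c x = 1 := Subgroup.mem_bot.1 (disp_step hp hV hm hc bot_le hn1
    (fun y hy => Subgroup.mem_bot.2 (hW' y hy)) x)
  rw [apply_eq_disp, h2, one_mul, MulAut.one_apply]

/-- The structure at an element with a nontrivial fixer. -/
theorem fixer_structure (hp : p.Prime) (hV : IsPGroup p V) {g : MulAut V} {m : ℕ} (hm : ¬ p ∣ m)
    (hg : g ^ m = 1) (hg1 : g ≠ 1) {W : Subgroup V} (hW : ∀ x ∈ W, g x = x) {a b : V}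
    (hab : W ⊔ Subgroup.zpowers a ⊔ Subgroup.zpowers b = ⊤) (ha : g a = a) :
    (∀ x, g x = x → x ∈ W ⊔ Subgroup.zpowers a) ∧
      (W ⊔ Subgroup.zpowers a) ⊔ Subgroup.zpowers (disp g b) = ⊤ ∧
      (∀ x, disp g x ∈ Subgroup.zpowers (disp g b)) ∧
      (∀ y ∈ Subgroup.zpowers (disp g b), g y = y → y = 1) ∧
      Nat.card (W ⊔ Subgroup.zpowers a : Subgroup V) * orderOf (disp g b) = Nat.card V := by
  haveI := Fact.mk hp
  set w := disp g b with hw
  set A := W ⊔ Subgroup.zpowers a with hA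
  have hdA : A ≤ (disp g).ker := sup_le (fun x hx => by
    rw [MonoidHom.mem_ker, disp_apply, hW x hx, mul_inv_cancel])
    (Subgroup.zpowers_le.2 (by rw [MonoidHom.mem_ker, disp_apply, ha, mul_inv_cancel]))
  have hdec : ∀ x : V, ∃ f ∈ A, ∃ i : ℤ, f * b ^ i = x := fun x => by
    obtain ⟨f, hf, _, ⟨i, rfl⟩, he⟩ := Subgroup.mem_sup.1 (hab.symm ▸ Subgroup.mem_top x :
      x ∈ A ⊔ Subgroup.zpowers b)
    exact ⟨f, hf, i, he⟩
  have himage : ∀ x, disp g x ∈ Subgroup.zpowers w := fun x => by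
    obtain ⟨f, hf, i, rfl⟩ := hdec x
    rw [map_mul, MonoidHom.mem_ker.1 (hdA hf), one_mul, map_zpow]
    exact zpow_mem (Subgroup.mem_zpowers w) i
  have hinj : ∀ y ∈ Subgroup.zpowers w, g y = y → y = 1 := by
    intro y hy hfy
    obtain ⟨i, rfl⟩ := Subgroup.mem_zpowers_iff.1 hy
    rw [hw, ← map_zpow] at hfy ⊢
    have key : ∀ j : ℕ, (g ^ j) (b ^ i) = disp g (b ^ i) ^ j * b ^ i := by
      intro j
      induction j with
      | zero => simp
      | succ j ih =>
        rw [pow_succ' g j, MulAut.mul_apply, ih, map_mul, map_pow, hfy, apply_eq_disp g (b ^ i),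
          ← mul_assoc, ← pow_succ]
    have h1 := key m
    rw [hg, MulAut.one_apply, right_eq_mul] at h1
    exact Subgroup.mem_bot.1 (zpowers_le_of_coprime hp hV hm (Subgroup.mem_bot.2 h1))
  have hw1 : w ≠ 1 := fun h => hg1 (MulEquiv.ext fun x => by
    have h1 := himage x
    rw [h, Subgroup.zpowers_one_eq_bot, Subgroup.mem_bot] at h1
    rw [apply_eq_disp, h1, one_mul, MulAut.one_apply])
  have hrange : (disp g).range = Subgroup.zpowers w :=
    le_antisymm (by rintro _ ⟨x, rfl⟩; exact himage x) (Subgroup.zpowers_le.2 ⟨b, rfl⟩)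
  have hdisj : Disjoint (disp g).ker (Subgroup.zpowers w) :=
    Subgroup.disjoint_def.2 fun {x} hx hx' => hinj x hx' (by
      rw [apply_eq_disp, MonoidHom.mem_ker.1 hx, one_mul])
  have hcard : Nat.card (disp g).ker * orderOf w = Nat.card V := by
    rw [← Nat.card_zpowers, ← hrange, ← Subgroup.index_ker, Subgroup.card_mul_index]
  have htop : (disp g).ker ⊔ Subgroup.zpowers w = ⊤ := by
    refine (Subgroup.isComplement'_of_card_mul_and_disjoint ?_ hdisj).sup_eq_top
    rw [Nat.card_zpowers, hcard]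
  -- the fixed subgroup is `A`
  obtain ⟨f₀, hf₀, _, ⟨r, rfl⟩, hb⟩ := Subgroup.mem_sup.1 (htop ▸ Subgroup.mem_top b :
    b ∈ (disp g).ker ⊔ Subgroup.zpowers w)
  have hpord : (p : ℤ) ∣ (orderOf w : ℤ) := by
    obtain ⟨k, hk⟩ := IsPGroup.iff_orderOf.mp hV w
    rcases k with _ | k
    · exact absurd (orderOf_eq_one_iff.1 (by rw [hk, pow_zero])) hw1
    · rw [hk]; exact_mod_cast dvd_pow_self p k.succ_ne_zero
  have hker : ∀ x ∈ (disp g).ker, ∀ n : ℕ, ∃ f ∈ (disp g).ker, x * (f ^ p ^ n)⁻¹ ∈ A := by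
    intro x hx n
    induction n with
    | zero => exact ⟨x, hx, by simp⟩
    | succ n ih =>
      obtain ⟨f, hf, hfA⟩ := ih
      obtain ⟨f', hf', i, he⟩ := hdec f
      have h1 : disp g (b ^ i) = 1 := by
        have := MonoidHom.mem_ker.1 hf
        rwa [← he, map_mul, MonoidHom.mem_ker.1 (hdA hf'), one_mul] at this
      rw [map_zpow, ← hw, ← orderOf_dvd_iff_zpow_eq_one] at h1
      obtain ⟨j, hj⟩ := hpord.trans h1
      have hbi : b ^ i = (f₀ ^ j) ^ p := by
        have hwi : w ^ i = 1 := orderOf_dvd_iff_zpow_eq_one.1 h1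
        conv_lhs => rw [← hb, mul_zpow, ← zpow_mul, mul_comm r, zpow_mul, hwi, one_zpow, mul_one, hj,
          mul_comm, zpow_mul, zpow_natCast]
      refine ⟨f₀ ^ j, zpow_mem hf₀ j, ?_⟩
      have e : x * ((f₀ ^ j) ^ p ^ (n + 1))⁻¹ = (x * (f ^ p ^ n)⁻¹) * f' ^ p ^ n := by
        rw [← he, hbi, mul_pow, ← pow_mul, ← pow_succ', mul_inv]
        rw [mul_comm (f' ^ p ^ n)⁻¹, ← mul_assoc, inv_mul_cancel_right]
      rw [e]
      exact mul_mem hfA (pow_mem hf' _)
  have hfix : (disp g).ker = A := le_antisymm (fun x hx => by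
    obtain ⟨n, hn⟩ := exists_pw_eq_bot (V := V) hp hV
    obtain ⟨f, -, hfA⟩ := hker x hx n
    have h1 : f ^ p ^ n = 1 :=
      Subgroup.mem_bot.1 (hn ▸ (⟨f, rfl⟩ : f ^ p ^ n ∈ (pw p n : Subgroup V)))
    rwa [h1, inv_one, mul_one] at hfA) hdA
  refine ⟨fun x hx => hfix ▸ MonoidHom.mem_ker.2 (by rw [disp_apply, hx, mul_inv_cancel]), ?_,
    himage, hinj, ?_⟩
  · rw [← hfix]; exact htop
  · rw [← hfix]; exact hcard

/-- Some element is moved freely. -/
theorem exists_free {E : Type*} [Group E] (hp : p.Prime) (hV : IsPGroup p V)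
    (act : E →* MulAut V) {m : ℕ} (hm : ¬ p ∣ m) (hact : ∀ e, act e ^ m = 1) (W : Subgroup V)
    (hW : ∀ e, ∀ x ∈ W, act e x = x) (a b : V)
    (hab : W ⊔ Subgroup.zpowers a ⊔ Subgroup.zpowers b = ⊤)
    (hbig : ∀ v, Nat.card (W ⊔ Subgroup.zpowers v : Subgroup V) * p ^ 2 ≤ Nat.card V) :
    ∃ v, ∀ e, act e v = v → act e = 1 := by
  haveI := Fact.mk hp
  by_contra hno
  push Not at hno
  obtain ⟨eg, hga, hg1⟩ := hno a
  set g := act eg with hgdef
  obtain ⟨hfix, htop, himage, hinj, hcard⟩ :=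
    fixer_structure hp hV hm (hact eg) hg1 (hW eg) hab hga
  set w := disp g b with hw
  set A := W ⊔ Subgroup.zpowers a with hA
  obtain ⟨eh, hhv, hh1⟩ := hno (a * w ^ p)
  set h := act eh with hhdef
  set Φ := W ⊔ pw p 1 with hΦ
  have hwp : w ^ p ∈ Φ := Subgroup.mem_sup_right ⟨w, by simp [powMonoidHom_apply]⟩
  have hΦc : ∀ (e : E), ∀ x ∈ Φ, act e x ∈ Φ := by
    intro e x hx
    obtain ⟨u, hu, _, ⟨y, rfl⟩, rfl⟩ := Subgroup.mem_sup.1 hx
    rw [map_mul, hW e u hu, powMonoidHom_apply, map_pow]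
    exact mul_mem (Subgroup.mem_sup_left hu) (Subgroup.mem_sup_right ⟨act e y, rfl⟩)
  -- `h` fixes `a` modulo `Φ`, hence commutes with `g`
  have hha : h a * a⁻¹ ∈ Φ := by
    rw [map_mul] at hhv
    have e : h a * a⁻¹ = w ^ p * (h (w ^ p))⁻¹ := by
      rw [show h a = a * w ^ p * (h (w ^ p))⁻¹ by rw [← hhv, mul_inv_cancel_right], mul_comm a,
        mul_assoc (w ^ p), mul_comm a, ← mul_assoc, mul_inv_cancel_right]
    rw [e]
    exact mul_mem hwp (inv_mem (hΦc eh _ hwp))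
  have hcomm : h * g = g * h := by
    set c := act (eh * eg * eh⁻¹ * eg⁻¹) with hcdef
    have hc : c = h * g * h⁻¹ * g⁻¹ := by simp [hcdef, hgdef, hhdef]
    have hh'a : h⁻¹ a * a⁻¹ ∈ Φ := by
      have h1 := inv_mem (hΦc eh⁻¹ _ hha)
      rw [map_inv, map_mul, MulAut.inv_apply_self, map_inv, mul_inv_rev, inv_inv] at h1
      exact h1
    have hg'a : g⁻¹ a = a := by
      conv_lhs => rw [← hga]
      exact MulAut.inv_apply_self _ _ _
    have hca : ∀ x ∈ A ⊔ Φ, disp c x ∈ Φ := by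
      refine fun x hx => (sup_le (sup_le ?_ (Subgroup.zpowers_le.2 ?_)) ?_ :
        A ⊔ Φ ≤ Φ.comap (disp c)) hx
      · intro y hy
        rw [Subgroup.mem_comap, disp_apply, hcdef, hW _ y hy, mul_inv_cancel]
        exact one_mem _
      · rw [Subgroup.mem_comap, disp_apply, hc]
        simp only [MulAut.mul_apply, hg'a]
        obtain ⟨φ, hφ, he⟩ : ∃ φ ∈ Φ, h⁻¹ a = φ * a := ⟨_, hh'a, (inv_mul_cancel_right _ _).symm⟩
        rw [he, map_mul, hga, map_mul, mul_assoc]
        exact mul_mem (hΦc eh _ (hΦc eg _ hφ)) hha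
      · intro y hy
        rw [Subgroup.mem_comap, disp_apply]
        exact mul_mem (hΦc _ _ hy) (inv_mem hy)
    have hcA : ∀ x, disp c x ∈ A ⊔ Φ := by
      -- the displacement lies in the part fixed by `g` modulo `Φ`
      intro x
      set S := A ⊔ Φ
      have hpS : ∀ k : E, act k a * a⁻¹ ∈ Φ → ∀ y ∈ S, act k y ∈ S := fun k hk y hy => by
        refine (sup_le (sup_le (fun u hu => ?_) (Subgroup.zpowers_le.2 ?_)) (fun u hu => ?_) :
          S ≤ S.comap (act k).toMonoidHom) hy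
        · show act k u ∈ S
          rw [hW k u hu]; exact Subgroup.mem_sup_left (Subgroup.mem_sup_left hu)
        · show act k a ∈ S
          rw [show act k a = (act k a * a⁻¹) * a from (inv_mul_cancel_right _ _).symm]
          exact mul_mem (Subgroup.mem_sup_right hk)
            (Subgroup.mem_sup_left (Subgroup.mem_sup_right (Subgroup.mem_zpowers a)))
        · exact Subgroup.mem_sup_right (hΦc k u hu)
      have hdecS : ∀ y : V, ∃ i : ℤ, y * (w ^ i)⁻¹ ∈ S := fun y => by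
        obtain ⟨f, hf, _, ⟨i, rfl⟩, rfl⟩ := Subgroup.mem_sup.1 (htop ▸ Subgroup.mem_top y :
          y ∈ A ⊔ Subgroup.zpowers w)
        exact ⟨i, by rw [mul_inv_cancel_right]; exact Subgroup.mem_sup_left hf⟩
      have hmult : ∀ k : E, act k a * a⁻¹ ∈ Φ → ∀ i : ℤ, act k w * (w ^ i)⁻¹ ∈ S →
          ∀ y, ∀ j : ℤ, y * (w ^ j)⁻¹ ∈ S → act k y * (w ^ (i * j))⁻¹ ∈ S := by
        intro k hk i hi y j hy
        have h1 := hpS k hk _ hy
        rw [map_mul, map_inv, map_zpow] at h1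
        have e : act k y * (w ^ (i * j))⁻¹ =
            (act k y * (act k w ^ j)⁻¹) * (act k w * (w ^ i)⁻¹) ^ j := by
          rw [mul_zpow, inv_zpow, ← zpow_mul, ← mul_assoc, inv_mul_cancel_right]
        rw [e]
        exact mul_mem h1 (zpow_mem hi j)
      obtain ⟨j, hj⟩ := hdecS x
      obtain ⟨s, hs⟩ := hdecS (g w)
      obtain ⟨s', hs'⟩ := hdecS (g⁻¹ w)
      obtain ⟨t, ht⟩ := hdecS (h w)
      obtain ⟨t', ht'⟩ := hdecS (h⁻¹ w)
      have hga' : act eg a * a⁻¹ ∈ Φ := by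
        rw [← hgdef, hga, mul_inv_cancel]; exact one_mem _
      have hga'' : act eg⁻¹ a * a⁻¹ ∈ Φ := by
        rw [map_inv, ← hgdef, hg'a, mul_inv_cancel]; exact one_mem _
      have hha'' : act eh⁻¹ a * a⁻¹ ∈ Φ := by rw [map_inv]; exact hh'a
      have h1 : g (g⁻¹ w) * (w ^ (s * s'))⁻¹ ∈ S := hmult eg hga' s hs _ s' hs'
      have h2 : h (h⁻¹ w) * (w ^ (t * t'))⁻¹ ∈ S := hmult eh hha t ht _ t' ht'
      rw [MulAut.apply_inv_self] at h1 h2
      have h3 : ∀ {y : V} {i : ℤ}, w * (w ^ i)⁻¹ ∈ S → y * (w ^ (j * i))⁻¹ ∈ S →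
          y * (w ^ j)⁻¹ ∈ S := fun {y i} hi hy => by
        have e : y * (w ^ j)⁻¹ = (y * (w ^ (j * i))⁻¹) * ((w * (w ^ i)⁻¹) ^ j)⁻¹ := by
          rw [mul_zpow, inv_zpow, ← zpow_mul, mul_comm i j, mul_inv, inv_inv, mul_comm (w ^ j)⁻¹,
            ← mul_assoc, inv_mul_cancel_right]
        rw [e]
        exact mul_mem hy (inv_mem (zpow_mem hi j))
      have h4 := hmult eh hha t ht _ _ (hmult eg hga' s hs _ _
        (hmult eh⁻¹ hha'' t' (by rw [map_inv]; exact ht') _ _
          (hmult eg⁻¹ hga'' s' (by rw [map_inv]; exact hs') x j hj)))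
      have h5 : c x * (w ^ j)⁻¹ ∈ S := by
        refine h3 h2 ?_
        have e : w ^ (t * (s * (t' * (s' * j)))) = w ^ (j * (t * t')) * (w ^ (j * (t * t'))) ⁻¹ *
            w ^ (t * (s * (t' * (s' * j)))) := by rw [mul_inv_cancel, one_mul]
        have h6 : (w * (w ^ (s * s'))⁻¹) ^ (j * (t * t')) ∈ S := zpow_mem h1 _
        have e2 : c x * (w ^ (j * (t * t')))⁻¹ =
            (c x * (w ^ (t * (s * (t' * (s' * j)))))⁻¹) *
              ((w * (w ^ (s * s'))⁻¹) ^ (j * (t * t')))⁻¹ := by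
          rw [mul_zpow, inv_zpow, ← zpow_mul, mul_inv, inv_inv,
            show s * s' * (j * (t * t')) = t * (s * (t' * (s' * j))) by ring,
            mul_comm (w ^ (j * (t * t')))⁻¹, mul_assoc, inv_mul_cancel_left]
        rw [e2]
        refine mul_mem ?_ (inv_mem h6)
        simp only [hcdef, map_mul, MulAut.mul_apply, ← hhdef, ← hgdef]
        exact h4
      rw [disp_apply, show c x * x⁻¹ = (c x * (w ^ j)⁻¹) * (x * (w ^ j)⁻¹)⁻¹ by
        rw [mul_inv, inv_inv, mul_comm x⁻¹, ← mul_assoc, inv_mul_cancel_right]]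
      exact mul_mem h5 (inv_mem hj)
    have hc1 : c = 1 := eq_one_of_mod hp hV hm (hact _) (hW _)
      (disp_step hp hV hm (hact _) le_sup_right hcA hca)
    rw [hc] at hc1
    exact mul_inv_eq_iff_eq_mul.1 (mul_inv_eq_one.1 hc1)
  -- so `h` preserves both parts
  have hhA : h a ∈ A := hfix _ (by
    rw [← MulAut.mul_apply, ← hcomm, MulAut.mul_apply, hga])
  have hdisp : ∀ x, h (disp g x) = disp g (h x) := fun x => by
    rw [disp_apply, disp_apply, map_mul, map_inv, ← MulAut.mul_apply, hcomm, MulAut.mul_apply]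
  have hhw : h w ∈ Subgroup.zpowers w := by rw [hw, hdisp]; exact himage _
  have hsplit : h a * a⁻¹ = 1 := by
    have h1 : h a * a⁻¹ ∈ Subgroup.zpowers w := by
      rw [map_mul, map_pow] at hhv
      rw [show h a * a⁻¹ = w ^ p * (h w ^ p)⁻¹ by
        rw [show h a = a * w ^ p * (h w ^ p)⁻¹ by rw [← hhv, mul_inv_cancel_right], mul_comm a,
          mul_assoc (w ^ p), mul_comm a, ← mul_assoc, mul_inv_cancel_right]]
      exact mul_mem (pow_mem (Subgroup.mem_zpowers w) p) (inv_mem (pow_mem hhw p))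
    refine hinj _ h1 ?_
    have hker : ∀ x ∈ A, g x = x := fun x hx =>
      (sup_le (hW eg) (Subgroup.zpowers_le.2 hga) :
        A ≤ (g.toMonoidHom.eqLocus (MonoidHom.id V))) hx
    exact hker _ (mul_mem hhA (inv_mem (Subgroup.mem_sup_right (Subgroup.mem_zpowers a))))
  have hha1 : h a = a := mul_inv_eq_one.1 hsplit
  rw [map_mul, hha1, map_pow, mul_right_inj] at hhv
  -- `h` fixes `w`
  obtain ⟨k, hk⟩ := IsPGroup.iff_orderOf.mp hV w
  have hk2 : 2 ≤ k := by
    have h1 := hbig a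
    rw [← hA, ← hcard, hk] at h1
    exact (Nat.pow_le_pow_iff_right hp.one_lt).1 (Nat.le_of_mul_le_mul_left h1 Nat.card_pos)
  obtain ⟨s, hs⟩ := Subgroup.mem_zpowers_iff.1 hhw
  have hs1 : (p : ℤ) ∣ s - 1 := by
    have h1 : w ^ ((s - 1) * (p : ℤ)) = 1 := by
      rw [sub_mul, zpow_sub, zpow_mul, hs, zpow_natCast, hhv, one_mul, zpow_natCast, mul_inv_cancel]
    rw [← orderOf_dvd_iff_zpow_eq_one, hk] at h1
    have h2 : ((p : ℤ) * (p : ℤ)) ∣ (s - 1) * (p : ℤ) :=
      (by exact_mod_cast (pow_two p ▸ pow_dvd_pow p hk2) : ((p : ℤ) * p) ∣ ((p ^ k : ℕ) : ℤ)).trans h1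
    exact (mul_dvd_mul_iff_right (by exact_mod_cast hp.ne_zero)).1 h2
  set y := h w * w⁻¹ with hy
  have hy1 : y ^ p = 1 := by rw [hy, mul_pow, hhv, inv_pow, mul_inv_cancel]
  have hyw : y = w ^ (s - 1) := by rw [hy, zpow_sub, zpow_one, hs]
  have hhy : h y = y := by
    rw [hyw, map_zpow, ← hs, ← zpow_mul, mul_comm, zpow_mul]
    obtain ⟨t, ht⟩ := hs1
    rw [← hyw, show s = 1 + (p : ℤ) * t by rw [← ht]; ring, zpow_add, zpow_one, zpow_mul,
      zpow_natCast, hy1, one_zpow, mul_one]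
  have key : ∀ i : ℕ, (h ^ i) w = y ^ i * w := by
    intro i
    induction i with
    | zero => simp
    | succ i ih =>
      rw [pow_succ' h i, MulAut.mul_apply, ih, map_mul, map_pow, hhy, pow_succ y, mul_assoc, hy,
        inv_mul_cancel_right]
  have hw0 : h w = w := by
    have h1 := key m
    rw [hhdef, hact, MulAut.one_apply, right_eq_mul] at h1
    exact mul_inv_eq_one.1 (Subgroup.mem_bot.1 (zpowers_le_of_coprime hp hV hm (Subgroup.mem_bot.2 h1)))
  refine hh1 (MulEquiv.ext fun x => ?_)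
  exact (sup_le (sup_le (hW eh) (Subgroup.zpowers_le.2 hha1)) (Subgroup.zpowers_le.2 hw0) :
    A ⊔ Subgroup.zpowers w ≤ (h.toMonoidHom.eqLocus (MonoidHom.id V))) (htop.symm ▸ Subgroup.mem_top x)

end Cfsg.Agent.BlockFreeElement31
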