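import Cfsg.Agent.Lib.BlockHeightSection82

/-!
The contribution matrix of an arbitrary subsection at height zero characters, and its averages over
conjugate roots of unity.
-/

set_option autoImplicit false

namespace Cfsg.Agent.BlockHeightEntry82

open Cfsg Cfsg.Agent.BlockTheoryLocalRing Cfsg.Agent.BlockTheoryCentre
open Cfsg.Agent.BlockTheoryIdem Cfsg.Agent.BlockContrib Cfsg.Agent.BlockContribBounds
open Cfsg.Agent.ClassAlgebraVal Cfsg.Agent.BlockContribSection Cfsg.Agent.BlockContribPrime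
open scoped ComplexConjugate

attribute [local instance] Classical.propDecidable

set_option linter.unusedSectionVars false

variable {p : ℕ} [Fact p.Prime] {M : Ideal AlgInt} {G : Type*} [Group G] [Fintype G] {u : G}
  {H : Subgroup G}

/-- The entry without the roots of unity is prime to `p`. -/
theorem entry_int_not_ideal (hM : IsPModular p M) (hu : ∃ k, orderOf u = p ^ k)
    (hH : ∀ g, g ∈ H ↔ Commute u g) {b : Set (IrrCharacter H)} {B : Set (IrrCharacter G)}
    (hind : IsInducedBlock M H b B) {χ ψ : IrrCharacter G} (hχ : χ ∈ B) (hψ : ψ ∈ B)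
    (hχ0 : blockHeight p B (χ : G → ℂ) = 0) (hψ0 : blockHeight p B (ψ : G → ℂ) = 0) :
    ¬ MemLocalIdeal M (∑ ξ ∈ members b, ∑ η ∈ members b,
      (S4716.mult χ ξ : ℂ) * (S4716.mult ψ η : ℂ) * (contrib p b ξ η : ℂ)) := by
  have hb := hind.1
  set e := minExp p b with he
  obtain ⟨φ, hφ, hφ0⟩ := exists_height_zero hM hb
  set D : IrrCharacter H → ℕ := fun ξ => charDegree (ξ : H → ℂ) / p ^ e with hD
  have hDmul : ∀ ξ ∈ b, charDegree (ξ : H → ℂ) = p ^ e * D ξ := fun ξ hξ =>
    (Nat.mul_div_cancel' ((pow_dvd_pow p (minExp_le (p := p) hξ)).trans (Nat.ordProj_dvd _ p))).symm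
  have hDφ : ¬ p ∣ D φ := by
    have h := Nat.not_dvd_ordCompl hM.1 (charDegree_pos φ).ne'
    rwa [exp_eq_add (p := p) hφ, hφ0, add_zero] at h
  have hDφ0 : (D φ : ℂ) ≠ 0 := Nat.cast_ne_zero.2 fun h => hDφ (h ▸ dvd_zero p)
  have hcof : ¬ p ∣ cofactor p H := cofactor_not_dvd hM.1
  have hcof0 : (cofactor p H : ℂ) ≠ 0 := Nat.cast_ne_zero.2 fun h => hcof (h ▸ dvd_zero p)
  have hp0 : ((p : ℂ) ^ e) ≠ 0 := pow_ne_zero _ (Nat.cast_ne_zero.2 hM.1.ne_zero)
  have hZ : ∀ n : ℤ, MemLocalRing M (n : ℂ) := fun n => intCast_mem (localRing hM) n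
  have hN : ∀ n : ℕ, MemLocalRing M (n : ℂ) := fun n => natCast_mem (localRing hM) n
  have hstep : ∀ ξ, ∀ η ∈ b, MemLocalIdeal M
      ((contrib p b ξ η : ℂ) - (D η : ℂ) * (D φ : ℂ)⁻¹ * (contrib p b ξ φ : ℂ)) := by
    intro ξ η hη
    have hDη : (D η : ℂ) ≠ 0 := Nat.cast_ne_zero.2 fun h => (charDegree_pos η).ne' (by rw [hDmul η hη, h, mul_zero])
    have h := pair_div_congr hM ξ (sameBlock_of_mem hM hb hη hφ)
    rw [pair_eq_contrib hM.1 ξ hη, pair_eq_contrib hM.1 ξ hφ, apply_one_eq_charDegree η,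
      apply_one_eq_charDegree φ, hDmul η hη, hDmul φ hφ] at h
    push_cast at h
    have h2 := ideal_mul_right hM h ((localRing hM).mul_mem (hN (D η)) (inv_natCast_mem hM hcof))
    convert h2 using 1
    rw [← he]
    field_simp
  set κ : ℂ := ((D φ : ℂ)⁻¹ * (D φ : ℂ)⁻¹) * (contrib p b φ φ : ℂ) with hκ
  have hκu : ¬ MemLocalIdeal M κ := by
    refine not_ideal_mul hM ((localRing hM).mul_mem (inv_natCast_mem hM hDφ) (inv_natCast_mem hM hDφ))
      (hZ _) (fun h => ?_) fun h => ?_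
    · have h' := ideal_mul_right hM h ((localRing hM).mul_mem (hN (D φ)) (hN (D φ)))
      rw [show (D φ : ℂ)⁻¹ * (D φ : ℂ)⁻¹ * ((D φ : ℂ) * (D φ : ℂ)) = 1 by field_simp] at h'
      exact one_not_ideal hM h'
    · have h' := contrib_not_dvd hM hb hφ hφ0 hφ
      rw [hφ0, zero_add, pow_one] at h'
      exact h' ((intCast_mem_iff hM _).1 h)
  have hcong : ∀ ξ ∈ b, ∀ η ∈ b,
      MemLocalIdeal M ((contrib p b ξ η : ℂ) - κ * ((D ξ : ℂ) * (D η : ℂ))) := by
    intro ξ hξ η hη
    have h1 := hstep ξ η hη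
    have h2 := hstep φ ξ hξ
    rw [contrib_comm hM.1 hξ hφ] at h1
    have h3 := ideal_add hM h1 (ideal_mul_left hM
      ((localRing hM).mul_mem (hN (D η)) (inv_natCast_mem hM hDφ)) h2)
    convert h3 using 1
    rw [hκ]; ring
  intro hI
  set Tχ := ∑ ξ ∈ members b, (S4716.mult χ ξ : ℂ) * (D ξ : ℂ) with hTχ
  set Tψ := ∑ η ∈ members b, (S4716.mult ψ η : ℂ) * (D η : ℂ) with hTψ
  have hTm : ∀ χ : IrrCharacter G, MemLocalRing M (∑ ξ ∈ members b, (S4716.mult χ ξ : ℂ) * (D ξ : ℂ)) := fun χ =>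
    (localRing hM).sum_mem fun ξ _ => (localRing hM).mul_mem (hN _) (hN _)
  have hκm : MemLocalRing M κ := (localRing hM).mul_mem
    ((localRing hM).mul_mem (inv_natCast_mem hM hDφ) (inv_natCast_mem hM hDφ)) (hZ _)
  refine not_ideal_mul hM hκm ((localRing hM).mul_mem (hTm χ) (hTm ψ)) hκu
    (not_ideal_mul hM (hTm χ) (hTm ψ) (BlockHeightSection82.degree_part_not_ideal hH hM hu hind hχ hχ0) (BlockHeightSection82.degree_part_not_ideal hH hM hu hind hψ hψ0)) ?_
  have hdiff : MemLocalIdeal M (∑ ξ ∈ members b, ∑ η ∈ members b,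
      ((S4716.mult χ ξ : ℂ) * (S4716.mult ψ η : ℂ)) *
        ((contrib p b ξ η : ℂ) - κ * ((D ξ : ℂ) * (D η : ℂ)))) :=
    ideal_sum hM fun ξ hξ => ideal_sum hM fun η hη => ideal_mul_left hM
      ((localRing hM).mul_mem (hN _) (hN _)) (hcong ξ (mem_members.1 hξ) η (mem_members.1 hη))
  convert ideal_sub hM hI hdiff using 1
  rw [Finset.sum_mul_sum]
  simp only [Finset.mul_sum, ← Finset.sum_sub_distrib]
  exact Finset.sum_congr rfl fun ξ _ => Finset.sum_congr rfl fun η _ => by ring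

/-- The sum of squares along a row of the contribution matrix. -/
theorem sum_normSq_row (hM : IsPModular p M) (hv : ∃ k, orderOf u = p ^ k)
    (hH : ∀ g, g ∈ H ↔ Commute u g) {b : Set (IrrCharacter H)} {B : Set (IrrCharacter G)}
    (hind : IsInducedBlock M H b B) (χ : IrrCharacter G) :
    ∑ ψ ∈ members B,
        (Complex.normSq (S4716.entry p (⟨u, (hH u).2 (Commute.refl u)⟩ : H) b χ ψ) : ℂ) =
      (p : ℂ) ^ blockDefect p b * S4716.entry p (⟨u, (hH u).2 (Commute.refl u)⟩ : H) b χ χ := by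
  have hb := hind.1
  set z : H := ⟨u, (hH u).2 (Commute.refl u)⟩ with hz
  set R := Finset.univ.filter fun s : H => ¬ p ∣ orderOf s with hR
  set F : IrrCharacter G → H → ℂ := fun χ => part u b (χ : G → ℂ) with hF
  have hpair : ∀ χ ψ : IrrCharacter G, pair p (F χ) (F ψ) = ∑ s ∈ R, conj (F χ s) * F ψ s := by
    intro χ ψ
    simp only [pair, regSum_eq, hR, Finset.sum_filter]
  have hproj : ∀ t ∈ R, ∑ s ∈ R, kern b t s * F χ s = (Nat.card H : ℂ) * F χ t := by
    intro t ht
    have hall : ∑ s ∈ R, kern b t s * F χ s = ∑ s : H, kern b t s * F χ s := by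
      refine Finset.sum_subset (Finset.subset_univ _) fun s _ hs => ?_
      have : p ∣ orderOf s := by simpa [hR] using hs
      rw [show kern b t s = 0 from weak_orthogonality hM hb (Finset.mem_filter.1 ht).2 this,
        zero_mul]
    rw [hall]
    simp only [hF, S4716.part_eq hH, ← hz, Finset.mul_sum]
    rw [Finset.sum_comm]
    refine Finset.sum_congr rfl fun ξ hξ => ?_
    simp only [kern, Finset.sum_mul]
    rw [Finset.sum_comm, Finset.sum_eq_single ξ]
    · simp only [if_pos (mem_members.1 hξ)]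
      have h := CharBasicOrth.card_mul_classInner (ξ : H → ℂ) ξ
      rw [CharBasicOrth.classInner_irr_self ξ.2, mul_one] at h
      rw [h, Finset.sum_mul]
      exact Finset.sum_congr rfl fun s _ => by ring
    · intro η _ hne
      split_ifs
      · have h := CharBasicOrth.card_mul_classInner (ξ : H → ℂ) η
        rw [CharBasicOrth.classInner_irr_ne ξ.2 η.2 fun e => hne (Subtype.ext e.symm), mul_zero] at h
        calc ∑ s : H, (η : H → ℂ) t * conj ((η : H → ℂ) s) *
              ((S4716.mult χ ξ : ℂ) * S4716.lam z ξ * (ξ : H → ℂ) s)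
            = (η : H → ℂ) t * ((S4716.mult χ ξ : ℂ) * S4716.lam z ξ) *
                ∑ s : H, (ξ : H → ℂ) s * conj ((η : H → ℂ) s) := by
              rw [Finset.mul_sum]; exact Finset.sum_congr rfl fun s _ => by ring
          _ = 0 := by rw [← h, mul_zero]
      · simp
    · simp
  have hker : ∀ s ∈ R, ∀ t ∈ R, ∑ ψ ∈ members B, F ψ s * conj (F ψ t) = kern b s t := by
    intro s hs t ht
    rw [← filter_eq_members, Finset.sum_filter]
    exact sum_part_mul_induced hH hM hv hind (Finset.mem_filter.1 hs).2 (Finset.mem_filter.1 ht).2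
  set c : ℂ := (cofactor p H : ℂ) * (p : ℂ) ^ minExp p b with hc
  have hc0 : c ≠ 0 := scale_ne_zero hM.1 b
  have hHc : (Nat.card H : ℂ) = c * (p : ℂ) ^ blockDefect p b := by
    have h := pow_mul_cofactor (G := H) p
    rw [show (Nat.card H).factorization p = minExp p b + blockDefect p b from
      (minExp_add_defect hM hb).symm, pow_add] at h
    rw [← h, hc]
    push_cast
    ring
  refine mul_left_cancel₀ (mul_ne_zero hc0 hc0) ?_
  calc c * c * ∑ ψ ∈ members B, (Complex.normSq (S4716.entry p z b χ ψ) : ℂ)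
      = ∑ ψ ∈ members B, pair p (F χ) (F ψ) * conj (pair p (F χ) (F ψ)) := by
        rw [Finset.mul_sum]
        refine Finset.sum_congr rfl fun ψ _ => ?_
        simp only [hF, S4716.pair_part hM.1 hH b χ ψ, ← hc, ← hz, ← Complex.mul_conj, map_mul]
        rw [show conj c = c by rw [hc, map_mul, map_pow, map_natCast, map_natCast]]
        ring
    _ = ∑ t ∈ R, ∑ s ∈ R, conj (F χ t) * (kern b t s * F χ s) := by
        simp only [hpair, map_sum, Finset.sum_mul_sum]
        rw [Finset.sum_comm]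
        refine Finset.sum_congr rfl fun t ht => ?_
        rw [Finset.sum_comm]
        refine Finset.sum_congr rfl fun s hs => ?_
        rw [← hker t ht s hs, Finset.sum_mul, Finset.mul_sum]
        exact Finset.sum_congr rfl fun ψ _ => by rw [map_mul, Complex.conj_conj]; ring
    _ = (Nat.card H : ℂ) * pair p (F χ) (F χ) := by
        rw [hpair, Finset.mul_sum]
        exact Finset.sum_congr rfl fun t ht => by rw [← Finset.mul_sum, hproj t ht]; ring
    _ = c * c * ((p : ℂ) ^ blockDefect p b * S4716.entry p z b χ χ) := by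
        simp only [hF, S4716.pair_part hM.1 hH b χ χ, ← hc, ← hz, hHc]
        ring

/-- The mean of the odd powers of a root of unity. -/
noncomputable def eps (x : ℂ) : ℤ := if x = 1 then 1 else if x = -1 then -1 else 0

theorem sum_odd_pow {N' : ℕ} {x : ℂ} (hx : x ^ (2 * N') = 1) :
    ∑ j ∈ (Finset.range (2 * N')).filter (fun j => ¬ 2 ∣ j), x ^ j =
      (N' : ℂ) * (eps x : ℂ) := by
  have himg : (Finset.range (2 * N')).filter (fun j => ¬ 2 ∣ j) =
      (Finset.range N').image fun i => 2 * i + 1 := by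
    ext j
    simp only [Finset.mem_filter, Finset.mem_range, Finset.mem_image]
    constructor
    · rintro ⟨h1, h2⟩
      exact ⟨j / 2, by omega, by omega⟩
    · rintro ⟨i, hi, rfl⟩
      omega
  rw [himg, Finset.sum_image fun a _ b _ (h : 2 * a + 1 = 2 * b + 1) => by omega]
  have hterm : ∀ i : ℕ, x ^ (2 * i + 1) = (x ^ 2) ^ i * x := fun i => by rw [pow_succ, pow_mul]
  simp only [hterm, ← Finset.sum_mul]
  unfold eps
  split_ifs with h1 h2
  · simp [h1]
  · simp [h2]
  · have hx2 : x ^ 2 ≠ 1 := fun h => (sq_eq_one_iff.1 h).elim h1 h2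
    rw [geom_sum_eq hx2, ← pow_mul, hx]
    simp

theorem eps_cast_two (x : ℂ) : (eps x : ZMod 2) = if x ^ 2 = 1 then 1 else 0 := by
  unfold eps
  by_cases h1 : x = 1
  · simp [h1]
  by_cases h2 : x = -1
  · rw [if_neg h1, if_pos h2, if_pos (by rw [h2]; norm_num)]
    decide
  rw [if_neg h1, if_neg h2, if_neg fun h => (sq_eq_one_iff.1 h).elim h1 h2]
  simp

/-- For `p = 2`: the bounds on the number of characters of height zero through an odd integer. -/
theorem exists_weights {M : Ideal AlgInt} (hM : IsPModular 2 M) [Fact (Nat.Prime 2)]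
    (hu : ∃ k, orderOf u = 2 ^ k) (hH : ∀ g, g ∈ H ↔ Commute u g) {b : Set (IrrCharacter H)}
    {B : Set (IrrCharacter G)} (hind : IsInducedBlock M H b B) :
    ∃ a : IrrCharacter G → ℤ, (∀ χ ∈ B, 0 ≤ a χ) ∧
      (∑ χ ∈ members B, a χ = (2 : ℤ) ^ blockDefect 2 b * blockRank 2 b) ∧
      ∀ χ ∈ B, blockHeight 2 B (χ : G → ℂ) = 0 → Odd (a χ) ∧
        ((((members B).filter fun ψ => blockHeight 2 B ((ψ : IrrCharacter G) : G → ℂ) = 0).card : ℤ)
          ≤ (2 : ℤ) ^ blockDefect 2 b * a χ) := by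
  set z : H := ⟨u, (hH u).2 (Commute.refl u)⟩ with hz
  have hzc : z ∈ Subgroup.center H :=
    Subgroup.mem_center_iff.2 fun g => Subtype.ext ((hH g).1 g.2).eq.symm
  obtain ⟨k, hk⟩ := hu
  set N := 2 ^ (k + 1) with hN
  have hN2 : N = 2 * 2 ^ k := by rw [hN, pow_succ']
  have hN0 : 0 < N := pow_pos two_pos _
  have hzN : z ^ N = 1 := by
    refine Subtype.ext ?_
    rw [Subgroup.coe_pow, hN, pow_succ, pow_mul, ← hk, pow_orderOf_eq_one, one_pow]
    rfl
  have hlk : ∀ ξ : IrrCharacter H, S4716.lam z ξ ^ N = 1 := fun ξ => by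
    rw [← S4716.lam_pow hzc, hzN, S4716.lam, div_self (irr_one_ne_zero ξ)]
  set x : IrrCharacter H × IrrCharacter H → ℂ :=
    fun t => conj (S4716.lam z t.1) * S4716.lam z t.2 with hx
  have hxN : ∀ t, x t ^ N = 1 := fun t => by
    rw [hx, mul_pow, ← map_pow, hlk, hlk, map_one, mul_one]
  set c : IrrCharacter G → IrrCharacter G → IrrCharacter H × IrrCharacter H → ℤ :=
    fun χ ψ t => (S4716.mult χ t.1 : ℤ) * (S4716.mult ψ t.2 : ℤ) * contrib 2 b t.1 t.2 with hc
  have hpow : ∀ (j : ℕ) (χ ψ : IrrCharacter G), S4716.entry 2 (z ^ j) b χ ψ =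
      ∑ t ∈ members b ×ˢ members b, (c χ ψ t : ℂ) * x t ^ j := by
    intro j χ ψ
    rw [S4716.entry, Finset.sum_product]
    refine Finset.sum_congr rfl fun ξ _ => Finset.sum_congr rfl fun η _ => ?_
    rw [S4716.lam_pow hzc, S4716.lam_pow hzc, map_pow, ← mul_pow]
    simp only [hc, hx]
    push_cast
    ring
  set a : IrrCharacter G → ℤ := fun χ => ∑ t ∈ members b ×ˢ members b, c χ χ t * eps (x t)
    with ha
  set J := (Finset.range N).filter fun j => ¬ 2 ∣ j with hJ
  have hmean : ∀ χ, ∑ j ∈ J, S4716.entry 2 (z ^ j) b χ χ = ((2 : ℂ) ^ k) * (a χ : ℂ) := by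
    intro χ
    simp only [hpow, ha, Int.cast_sum, Int.cast_mul, Finset.mul_sum]
    rw [Finset.sum_comm]
    refine Finset.sum_congr rfl fun t _ => ?_
    rw [← Finset.mul_sum, hJ, hN2, sum_odd_pow (hN2 ▸ hxN t)]
    push_cast
    ring
  have hJcard : J.card = 2 ^ k := by
    have h := sum_odd_pow (N' := 2 ^ k) (x := 1) (one_pow _)
    simp only [one_pow, Finset.sum_const, nsmul_eq_mul, mul_one, eps, if_true, Int.cast_one] at h
    rw [← hN2, ← hJ] at h
    exact_mod_cast h
  have hpowdata : ∀ j ∈ J, ∃ hHj : (∀ g, g ∈ H ↔ Commute (u ^ j) g),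
      (∃ i, orderOf (u ^ j) = 2 ^ i) ∧
      (⟨u ^ j, (hHj (u ^ j)).2 (Commute.refl _)⟩ : H) = z ^ j := by
    intro j hj
    have hjp : ¬ 2 ∣ j := (Finset.mem_filter.1 hj).2
    have hcop : (orderOf u).Coprime j := hk ▸ (hM.1.coprime_iff_not_dvd.2 hjp).pow_left _
    obtain ⟨m, hm⟩ := exists_pow_eq_self_of_coprime hcop.symm
    have hHj : ∀ g, g ∈ H ↔ Commute (u ^ j) g := fun g => by
      rw [hH]
      exact ⟨fun h => h.pow_left j, fun h => by rw [← hm]; exact h.pow_left m⟩
    exact ⟨hHj, ⟨k, by rw [Nat.Coprime.orderOf_pow hcop, hk]⟩, Subtype.ext (by simp [hz])⟩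
  have hrow : ∀ χ : IrrCharacter G, ∑ j ∈ J, ∑ ψ ∈ members B,
      Complex.normSq (S4716.entry 2 (z ^ j) b χ ψ) =
        (2 : ℝ) ^ blockDefect 2 b * ((2 : ℝ) ^ k * (a χ : ℝ)) := by
    intro χ
    apply Complex.ofReal_injective
    push_cast
    rw [← hmean, Finset.mul_sum]
    refine Finset.sum_congr rfl fun j hj => ?_
    obtain ⟨hHj, hvj, he⟩ := hpowdata j hj
    have h := sum_normSq_row hM hvj hHj hind χ
    rw [he] at h
    rw [h]
    push_cast
    rfl
  have h2q : (0 : ℝ) < (2 : ℝ) ^ blockDefect 2 b := pow_pos two_pos _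
  have h2k : (0 : ℝ) < (2 : ℝ) ^ k := pow_pos two_pos _
  refine ⟨a, fun χ _ => ?_, ?_, fun χ hχ h0 => ⟨?_, ?_⟩⟩
  · have h : (0 : ℝ) ≤ (2 : ℝ) ^ blockDefect 2 b * ((2 : ℝ) ^ k * (a χ : ℝ)) := hrow χ ▸
      Finset.sum_nonneg fun j _ => Finset.sum_nonneg fun ψ _ => Complex.normSq_nonneg _
    exact_mod_cast nonneg_of_mul_nonneg_right (nonneg_of_mul_nonneg_right h h2q) h2k
  · have h : ∑ χ ∈ members B, ∑ j ∈ J, ∑ ψ ∈ members B,
        Complex.normSq (S4716.entry 2 (z ^ j) b χ ψ) =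
        (2 : ℝ) ^ k * ((2 : ℝ) ^ (2 * blockDefect 2 b) * (blockRank 2 b : ℝ)) := by
      rw [Finset.sum_comm, Finset.sum_congr rfl
        (g := fun _ => (2 : ℝ) ^ (2 * blockDefect 2 b) * (blockRank 2 b : ℝ)) fun j hj => ?_,
        Finset.sum_const, hJcard, nsmul_eq_mul]
      · push_cast; rfl
      obtain ⟨hHj, hvj, he⟩ := hpowdata j hj
      have h := S4716.sum_normSq_entry hM hvj hHj hind
      rw [he] at h
      exact_mod_cast h
    rw [Finset.sum_congr rfl fun χ _ => hrow χ, ← Finset.mul_sum, ← Finset.mul_sum] at h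
    have h' : ((∑ χ ∈ members B, a χ : ℤ) : ℝ) =
        (((2 : ℤ) ^ blockDefect 2 b * blockRank 2 b : ℤ) : ℝ) := by
      push_cast
      refine mul_left_cancel₀ (mul_ne_zero h2q.ne' h2k.ne') ?_
      rw [mul_assoc, h, pow_mul, show ((2 : ℝ) ^ 2) ^ blockDefect 2 b =
        (2 : ℝ) ^ blockDefect 2 b * (2 : ℝ) ^ blockDefect 2 b by rw [← mul_pow]; norm_num]
      ring
    exact Int.cast_injective h'
  · have hodd : ¬ (2 : ℤ) ∣ ∑ t ∈ members b ×ˢ members b, c χ χ t := by
      intro hd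
      refine entry_int_not_ideal hM ⟨k, hk⟩ hH hind hχ hχ h0 h0 ?_
      have := (intCast_mem_iff hM _).2 (show ((2 : ℕ) : ℤ) ∣ _ from hd)
      refine cast (congrArg (MemLocalIdeal M) ?_) this
      rw [Finset.sum_product]
      simp only [hc, Int.cast_sum, Int.cast_mul, Int.cast_natCast]
    have hconj : ∀ t : IrrCharacter H × IrrCharacter H, x t.swap = conj (x t) := fun t => by
      simp only [hx, Prod.fst_swap, Prod.snd_swap, map_mul, Complex.conj_conj, mul_comm]
    have hrest : ∑ t ∈ members b ×ˢ members b,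
        (if x t ^ 2 = 1 then 0 else (c χ χ t : ZMod 2)) = 0 := by
      refine Finset.sum_involution (fun t _ => t.swap) (fun t ht => ?_) (fun t ht hne => ?_)
        (fun t ht => ?_) (fun t ht => Prod.swap_swap t)
      · have hiff : x t.swap ^ 2 = 1 ↔ x t ^ 2 = 1 := by
          rw [hconj, ← map_pow, map_eq_one_iff _ (RingHom.injective (starRingEnd ℂ))]
        have hcs : c χ χ t.swap = c χ χ t := by
          obtain ⟨h1, h2⟩ := Finset.mem_product.1 ht
          simp only [hc, Prod.fst_swap, Prod.snd_swap]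
          rw [contrib_comm hM.1 (mem_members.1 h2) (mem_members.1 h1)]
          ring
        rw [if_congr hiff rfl rfl, hcs]
        split_ifs
        · exact add_zero 0
        · exact CharTwo.add_self_eq_zero _
      · intro he
        obtain ⟨ξ, η⟩ := t
        simp only [Prod.swap_prod_mk, Prod.mk.injEq] at he
        obtain ⟨rfl, -⟩ := he
        refine hne (if_pos ?_)
        have h1 : ‖S4716.lam z η‖ = 1 := Complex.norm_eq_one_of_pow_eq_one (hlk η) hN0.ne'
        simp only [hx]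
        rw [mul_comm, Complex.mul_conj, Complex.normSq_eq_norm_sq, h1]
        simp
      · obtain ⟨h1, h2⟩ := Finset.mem_product.1 ht
        exact Finset.mem_product.2 ⟨h2, h1⟩
    rw [← Int.not_even_iff_odd, even_iff_two_dvd, show (2 : ℤ) = ((2 : ℕ) : ℤ) from rfl,
      ← ZMod.intCast_zmod_eq_zero_iff_dvd]
    intro h
    refine hodd ?_
    rw [show (2 : ℤ) = ((2 : ℕ) : ℤ) from rfl, ← ZMod.intCast_zmod_eq_zero_iff_dvd]
    rw [← zero_add (0 : ZMod 2)]
    conv_rhs => lhs; rw [← h]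
    conv_rhs => rhs; rw [← hrest]
    simp only [ha, Int.cast_sum, Int.cast_mul, eps_cast_two, ← Finset.sum_add_distrib]
    exact Finset.sum_congr rfl fun t _ => by split_ifs <;> simp
  · obtain ⟨ζ, hζ⟩ : ∃ ζ : ℂ, IsPrimitiveRoot ζ N := ⟨_, Complex.isPrimitiveRoot_exp N hN0.ne'⟩
    have : NeZero N := ⟨hN0.ne'⟩
    have hex : ∀ t, ∃ e < N, ζ ^ e = x t := fun t => hζ.eq_pow_of_pow_eq_one (hxN t)
    choose e _ he using hex
    set S := (members B).filter fun ψ => blockHeight 2 B ((ψ : IrrCharacter G) : G → ℂ) = 0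
    have key : (S.card : ℝ) * (J.card : ℝ) ≤
        (2 : ℝ) ^ blockDefect 2 b * ((2 : ℝ) ^ k * (a χ : ℝ)) := by
      rw [← hrow χ, Finset.sum_comm, ← nsmul_eq_mul, ← Finset.sum_const]
      refine le_trans (Finset.sum_le_sum fun ψ hψ => ?_)
        (Finset.sum_le_sum_of_subset_of_nonneg (Finset.filter_subset _ _)
          fun ψ _ _ => Finset.sum_nonneg fun j _ => Complex.normSq_nonneg _)
      obtain ⟨hψB, hψ0⟩ := Finset.mem_filter.1 hψ
      simp only [hpow, ← he, ← pow_mul]
      refine BlockContribRoots.card_le_sum_normSq _ (c χ ψ) e Nat.prime_two hζ fun h0' => ?_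
      refine entry_int_not_ideal hM ⟨k, hk⟩ hH hind hχ (mem_members.1 hψB) h0 hψ0 ?_
      have h1 : MemLocalIdeal M (∑ t ∈ members b ×ˢ members b, (c χ ψ t : ℂ) * (x t - 1)) :=
        ideal_sum hM fun t _ => ideal_mul_left hM (intCast_mem (localRing hM) _)
          (S4716.root_congr_one hM (k := k + 1) (hxN t))
      simp only [mul_sub, mul_one, Finset.sum_sub_distrib] at h1
      simp only [he] at h0'
      rw [h0', zero_sub] at h1
      refine cast (congrArg (MemLocalIdeal M) ?_) (ideal_neg h1)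
      rw [neg_neg, Finset.sum_product]
      simp only [hc, Int.cast_mul, Int.cast_natCast]
    rw [hJcard] at key
    push_cast at key
    have h : (S.card : ℝ) ≤ (2 : ℝ) ^ blockDefect 2 b * (a χ : ℝ) := by
      refine le_of_mul_le_mul_right ?_ h2k
      linarith
    exact_mod_cast h

end Cfsg.Agent.BlockHeightEntry82
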