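import Cfsg.Agent.Lib.BlockTheoryDefect
import Cfsg.Agent.Lib.BlockContribBounds
import Cfsg.Agent.Lib.PrincipalSylow80

/-!
Height zero characters at elements whose p'-part is a defect class representative.
-/

namespace Cfsg.Agent.BlockTheoryHeight

open Cfsg Cfsg.Agent.BlockTheoryLocalRing Cfsg.Agent.BlockTheoryCentre
open Cfsg.Agent.BlockTheoryIdem Cfsg.Agent.BlockTheoryDefect
open Cfsg.Agent.BlockContrib (minExp minExp_add_defect exists_height_zero exp_eq_add)

variable {p : ℕ} {M : Ideal AlgInt} {G : Type*} [Group G] [Finite G]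

theorem defectClass_regular (hM : IsPModular p M) {B : Set (IrrCharacter G)} (hB : IsPBlock M B)
    {y : G} (hy : IsDefectClass M B y) : ¬ p ∣ orderOf y := fun h => by
  haveI := Fintype.ofFinite G
  exact hy.2.1 (by rw [blockCoeff_eq_zero_of_dvd hM hB h]; exact ideal_zero hM)

theorem index_exp (H : Subgroup G) :
    H.index.factorization p + (Nat.card H).factorization p = (Nat.card G).factorization p := by
  rw [← H.index_mul_card, Nat.factorization_mul Subgroup.index_ne_zero_of_finite Nat.card_pos.ne']
  rfl

/-- The centraliser of an element centralised by a defect group inside the centraliser of a defect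
class representative has index with the least degree exponent of the block. -/
theorem index_exp_eq [Fact p.Prime] (hM : IsPModular p M) {B : Set (IrrCharacter G)}
    (hB : IsPBlock M B) {y : G} (hy : IsDefectClass M B y)
    (S : Sylow p (Subgroup.centralizer ({y} : Set G))) {g : G}
    (hle : Subgroup.centralizer ({g} : Set G) ≤ Subgroup.centralizer ({y} : Set G))
    (hg : g ∈ Subgroup.centralizer (sylowIn S : Set G)) :
    (Subgroup.centralizer ({g} : Set G)).index.factorization p = minExp p B := by
  have hp : p.Prime := Fact.out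
  have hcard := BlockContribBounds.card_defectGroup hM hB ⟨y, hy, S, rfl⟩
  have h1 : (Nat.card (Subgroup.centralizer ({y} : Set G))).factorization p = blockDefect p B := by
    rw [Subgroup.card_map_of_injective Subtype.val_injective, Sylow.card_eq_multiplicity] at hcard
    exact Nat.pow_right_injective hp.two_le hcard
  have hup : (Nat.card (Subgroup.centralizer ({g} : Set G))).factorization p ≤ blockDefect p B :=
    h1 ▸ (Nat.factorization_le_iff_dvd Nat.card_pos.ne' Nat.card_pos.ne').mpr
      (Subgroup.card_dvd_of_le hle) p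
  have hlow : blockDefect p B ≤ (Nat.card (Subgroup.centralizer ({g} : Set G))).factorization p := by
    refine (hp.pow_dvd_iff_le_factorization Nat.card_pos.ne').mp ?_
    rw [← hcard]
    exact Subgroup.card_dvd_of_le (le_centralizer_singleton_iff.mpr hg)
  have := index_exp (p := p) (Subgroup.centralizer ({g} : Set G))
  have := minExp_add_defect hM hB
  omega

/-- When the index of the centraliser and the degree have the same exponent, the value and the
central character are small together. -/
theorem centralChar_ideal_iff (hM : IsPModular p M) (χ : IrrCharacter G) {g : G}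
    (h : (Subgroup.centralizer ({g} : Set G)).index.factorization p =
      (charDegree (χ : G → ℂ)).factorization p) :
    MemLocalIdeal M (centralChar (χ : G → ℂ) g) ↔ MemLocalIdeal M ((χ : G → ℂ) g) := by
  haveI := Fintype.ofFinite G
  set n := charDegree (χ : G → ℂ) with hn
  set N := (Subgroup.centralizer ({g} : Set G)).index with hN
  have hn1 : (χ : G → ℂ) 1 = n := ClassAlgebraVal.apply_one_eq_charDegree χ
  have hn0 : n ≠ 0 := (ClassAlgebraVal.charDegree_pos χ).ne'
  have hN0 : N ≠ 0 := Subgroup.index_ne_zero_of_finite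
  set a := n / p ^ n.factorization p
  set b := N / p ^ N.factorization p
  have ha : ¬ p ∣ a := Nat.not_dvd_ordCompl hM.1 hn0
  have hb : ¬ p ∣ b := Nat.not_dvd_ordCompl hM.1 hN0
  have hne : (n : ℂ) = (p : ℂ) ^ n.factorization p * (a : ℂ) := by
    exact_mod_cast (Nat.ordProj_mul_ordCompl_eq_self n p).symm
  have hNe : (N : ℂ) = (p : ℂ) ^ n.factorization p * (b : ℂ) := by
    rw [← h]; exact_mod_cast (Nat.ordProj_mul_ordCompl_eq_self N p).symm
  have hpne : (p : ℂ) ≠ 0 := Nat.cast_ne_zero.2 hM.1.ne_zero
  have key : centralChar (χ : G → ℂ) g * a = (b : ℂ) * (χ : G → ℂ) g := by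
    have ha0 : (a : ℂ) ≠ 0 := fun h0 => ha (by rw [Nat.cast_eq_zero.1 h0]; exact dvd_zero p)
    rw [centralChar, hn1, ← hN, hne, hNe]
    field_simp
  have haR : MemLocalRing M (a : ℂ) := natCast_mem (localRing hM) a
  have hbR : MemLocalRing M (b : ℂ) := natCast_mem (localRing hM) b
  have hgR : MemLocalRing M ((χ : G → ℂ) g) :=
    of_isIntegral hM (CharBasic.isCharacter_integral (CharBasic.isCharacter_of_isIrrCharacter χ.2) g)
  have hcR : MemLocalRing M (centralChar (χ : G → ℂ) g) :=
    of_isIntegral hM (isIntegral_centralChar χ g)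
  constructor
  · intro hc
    by_contra hg
    exact not_ideal_mul hM hbR hgR (fun hb' => hb ((natCast_mem_iff hM).1 hb')) hg
      (key ▸ ideal_mul_right hM hc haR)
  · intro hg
    by_contra hc
    exact not_ideal_mul hM hcR haR hc (fun ha' => ha ((natCast_mem_iff hM).1 ha'))
      (key ▸ ideal_mul_left hM hbR hg)

/-- A height zero member does not vanish modulo the ideal at a defect class times an element of
its Sylow subgroup. -/
theorem apply_mul_not_ideal [Fact p.Prime] (hM : IsPModular p M) {B : Set (IrrCharacter G)}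
    (hB : IsPBlock M B) {y : G} (hy : IsDefectClass M B y)
    (S : Sylow p (Subgroup.centralizer ({y} : Set G))) {x : G} (hx : x ∈ sylowIn S)
    {χ : IrrCharacter G} (hχ : χ ∈ B) (h0 : blockHeight p B (χ : G → ℂ) = 0) :
    ¬ MemLocalIdeal M ((χ : G → ℂ) (x * y)) := by
  have hexp := index_exp_eq hM hB hy S le_rfl (mem_centralizer_sylowIn S)
  rw [show minExp p B = (charDegree (χ : G → ℂ)).factorization p by
    rw [exp_eq_add hχ, h0, add_zero]] at hexp
  have hyn : ¬ MemLocalIdeal M ((χ : G → ℂ) y) := fun h =>
    hy.2.2 χ hχ ((centralChar_ideal_iff hM χ hexp).2 h)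
  intro h
  refine hyn ?_
  obtain ⟨k, hk⟩ := IsPGroup.iff_orderOf.mp (isPGroup_sylowIn S) ⟨x, hx⟩
  have := PrincipalSylow80.char_mul_congr hM (CharBasic.isCharacter_of_isIrrCharacter χ.2)
    (u := x) (x := y) ⟨k, by rw [← hk, Subgroup.orderOf_mk]⟩
    (Subgroup.mem_centralizer_singleton_iff.mp (sylowIn_le S hx))
  have := ideal_sub hM h this
  simpa using this

/-- Central characters are units at a defect class times an element of the centre of the defect
group. -/
theorem centralChar_mul_not_ideal [Fact p.Prime] (hM : IsPModular p M)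
    {B : Set (IrrCharacter G)} (hB : IsPBlock M B) {y : G} (hy : IsDefectClass M B y)
    (S : Sylow p (Subgroup.centralizer ({y} : Set G))) {x : G} (hx : x ∈ sylowIn S)
    (hxc : ∀ w ∈ sylowIn S, x * w = w * x) {χ : IrrCharacter G} (hχ : χ ∈ B) :
    ¬ MemLocalIdeal M (centralChar (χ : G → ℂ) (x * y)) := by
  obtain ⟨φ, hφ, h0⟩ := exists_height_zero hM hB
  have hp : p.Prime := Fact.out
  have hxy : Commute x y := Subgroup.mem_centralizer_singleton_iff.mp (sylowIn_le S hx)
  have hyreg := defectClass_regular hM hB hy
  obtain ⟨k, hk⟩ := IsPGroup.iff_orderOf.mp (isPGroup_sylowIn S) ⟨x, hx⟩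
  rw [Subgroup.orderOf_mk] at hk
  have hpart : IsPPart p (x * y) x := ⟨y, rfl, hxy, ⟨k, hk⟩, hyreg⟩
  have hle : Subgroup.centralizer ({x * y} : Set G) ≤ Subgroup.centralizer ({y} : Set G) := by
    intro c hc
    rw [Subgroup.mem_centralizer_singleton_iff] at hc ⊢
    have hcx : c * x * c⁻¹ = x := by
      refine pPart_unique hp ⟨c * y * c⁻¹, ?_, ?_, ⟨k, ?_⟩, ?_⟩ hpart
      · calc c * x * c⁻¹ * (c * y * c⁻¹) = c * (x * y) * c⁻¹ := by group
          _ = x * y := by rw [hc, mul_inv_cancel_right]
      · have := hxy.map (MulAut.conj c).toMonoidHom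
        simpa using this
      · rw [← hk]; exact orderOf_injective (MulAut.conj c).toMonoidHom (MulAut.conj c).injective x
      · rw [show orderOf (c * y * c⁻¹) = orderOf y from
          orderOf_injective (MulAut.conj c).toMonoidHom (MulAut.conj c).injective y]
        exact hyreg
    calc c * y = c * x⁻¹ * c⁻¹ * (c * (x * y)) := by group
      _ = (c * x * c⁻¹)⁻¹ * (x * y * c) := by rw [hc]; group
      _ = y * c := by rw [hcx]; group
  have hmem : x * y ∈ Subgroup.centralizer (sylowIn S : Set G) :=
    Subgroup.mem_centralizer_iff.mpr fun w hw =>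
      ((Commute.mul_right (show Commute w x from (hxc w hw).symm))
        (Subgroup.mem_centralizer_singleton_iff.mp (sylowIn_le S hw))).eq
  have hexp := index_exp_eq hM hB hy S hle hmem
  rw [show minExp p B = (charDegree (φ : G → ℂ)).factorization p by
    rw [exp_eq_add hφ, h0, add_zero]] at hexp
  intro h
  refine apply_mul_not_ideal hM hB hy S hx hφ h0 ((centralChar_ideal_iff hM φ hexp).1 ?_)
  have := ideal_add hM h (sameBlock_of_mem hM hB hφ hχ (x * y))
  simpa using this

end Cfsg.Agent.BlockTheoryHeight
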