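import Cfsg.Agent.Lib.BlockMajorLattice82
import Cfsg.Agent.Lib.BlockTheoryHeight

/-!
Height zero characters at arbitrary subsections: the part of the degree in the block of the
centraliser has the exact power of `p`.
-/

set_option autoImplicit false

namespace Cfsg.Agent.BlockHeightSection82

open Cfsg Cfsg.Agent.BlockTheoryLocalRing Cfsg.Agent.BlockTheoryCentre
open Cfsg.Agent.BlockTheoryIdem Cfsg.Agent.BlockTheoryBrauer Cfsg.Agent.BlockTheoryDefect
open Cfsg.Agent.BrauerPairs81Base Cfsg.Agent.BrauerPairs81Pairs Cfsg.Agent.BrauerPairs81Conj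
open Cfsg.Agent.BrauerPairs81Max Cfsg.Agent.BrauerPairs81Local Cfsg.Agent.BlockContribMajor
open Cfsg.Agent.BlockContrib Cfsg.Agent.BlockContribBounds Cfsg.Agent.ClassAlgebraVal
open scoped ComplexConjugate

attribute [local instance] Classical.propDecidable

set_option linter.unusedSectionVars false

variable {p : ℕ} [Fact p.Prime] {M : Ideal AlgInt} {G : Type*} [Group G] [Fintype G]

theorem incl_res {H : Subgroup G} {y : MonoidAlgebra ℂ G} (hy : ∀ x ∉ H, y.coeff x = 0) :
    incl H (res H y) = y := by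
  refine MonoidAlgebra.ext ?_
  ext x
  by_cases hx : x ∈ H
  · rw [show x = ((⟨x, hx⟩ : H) : G) from rfl, coeff_incl_coe, coeff_res]
  · rw [coeff_incl_of_notMem H _ hx, hy x hx]

theorem invBy_incl_cen {P : Subgroup G} (v : MonoidAlgebra ℂ (Cen P)) :
    InvBy P (incl (Cen P) v) := by
  intro u hu x
  by_cases hx : x ∈ Cen P
  · rw [Subgroup.mem_centralizer_iff.mp hx u hu, mul_inv_cancel_right]
  · rw [coeff_incl_of_notMem _ _ hx, coeff_incl_of_notMem]
    rwa [← conj_mem_iff_of_normalizer
      (normalizer_le_normalizer_cen (Subgroup.le_normalizer hu)) x]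

theorem chiSum_ideal_of_small (hM : IsPModular p M) (χ : IrrCharacter G) {z : MonoidAlgebra ℂ G}
    (hz : Small M z) : MemLocalIdeal M (chiSum (χ : G → ℂ) z) := by
  rw [chiSum_apply]
  exact ideal_sum hM fun x _ => ideal_mul_right hM (hz x)
    (of_isIntegral hM (CharBasic.isCharacter_integral (irr_isCharacter χ) x))

theorem chiSum_mem (hM : IsPModular p M) (χ : IrrCharacter G) {z : MonoidAlgebra ℂ G}
    (hz : IsInt M z) : MemLocalRing M (chiSum (χ : G → ℂ) z) := by
  rw [chiSum_apply]
  exact (localRing hM).sum_mem fun x _ => (localRing hM).mul_mem (hz x)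
    (of_isIntegral hM (CharBasic.isCharacter_integral (irr_isCharacter χ) x))

/-- An idempotent in which the block occurs acts as one on its traces. -/
theorem chiSum_mul_occ (hM : IsPModular p M) (χ : IrrCharacter G) {P : Subgroup G}
    (hP : IsPGroup p P) {e : Set (IrrCharacter (Cen P))} (he : IsPBlock M e)
    {z : MonoidAlgebra ℂ G} (hzP : InvBy P z) (hzC : InvBy (Cen P) z) (hzi : IsInt M z)
    (hzz : z * z = z) (hocc : Occ M P e z) {w : MonoidAlgebra ℂ (Cen P)} (hw : IsInt M w) :
    MemLocalIdeal M (chiSum (χ : G → ℂ) (incl (Cen P) (w * idem e) * z) -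
      chiSum (χ : G → ℂ) (incl (Cen P) (w * idem e))) := by
  set v := w * idem e with hv
  set y := incl (Cen P) v with hy
  have hvi : IsInt M v := IsInt.mul hM hw (isInt_idem hM he)
  have hyi : IsInt M (y * z) := IsInt.mul hM (isInt_incl _ hM hvi) hzi
  have hinv : InvBy P (y * z) := invBy_mul (invBy_incl_cen v) hzP
  have h1 : MemLocalIdeal M (chiSum (χ : G → ℂ) (y * z) -
      chiSum (χ : G → ℂ) (incl (Cen P) (res (Cen P) (y * z)))) := by
    have h := ideal_sum_conj hM P hP (fun x => (y * z).coeff x * (χ : G → ℂ) x)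
      (fun x => (localRing hM).mul_mem (hyi x)
        (of_isIntegral hM (CharBasic.isCharacter_integral (irr_isCharacter χ) x)))
      (fun u hu x => by rw [hinv u hu x, ← irr_classFun χ x u])
    refine cast (congrArg (MemLocalIdeal M) ?_) h
    rw [chiSum_apply, chiSum_apply, ← Finset.sum_sub_distrib]
    refine Finset.sum_congr rfl fun x _ => ?_
    by_cases hx : x ∈ Cen P
    · rw [if_pos hx, show x = ((⟨x, hx⟩ : Cen P) : G) from rfl, coeff_incl_coe, coeff_res, sub_self]
    · rw [if_neg hx, coeff_incl_of_notMem _ _ hx, zero_mul, sub_zero]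
  have h2 : res (Cen P) (y * z) = v * res (Cen P) z := by
    rw [res_mul_of_supported (Cen P) (fun x hx => coeff_incl_of_notMem _ _ hx),
      BrauerPairs81Induced.res_incl]
  have hrc := isCen_res_of_invBy hzC
  set t := (1 - res (Cen P) z) * idem e with ht
  have htc : IsCen t := (isCen_one.sub hrc).mul (isCen_idem e)
  have hti : IsInt M t :=
    IsInt.mul hM (IsInt.sub hM (isInt_one hM) (isInt_res _ hzi)) (isInt_idem hM he)
  have hts : Small M t := by
    obtain ⟨N, hN⟩ := exists_small_pow hM htc hti fun η => by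
      rw [ht, omega_mul η (isCen_one.sub hrc), map_sub, omega_one, omega_idem]
      split_ifs with hη
      · rw [mul_one]
        have h := ideal_neg (hocc η hη)
        rw [neg_sub] at h
        exact h
      · rw [mul_zero]; exact ideal_zero hM
    refine small_of_idem_of_pow hM hti ?_ (N := N + 1) (by omega)
      (by rw [pow_succ]; exact small_mul_right hM hN hti)
    have h3 := small_mul_right hM (small_symm hM (small_res_mul hM hP hzP hzP hzi hzi))
      (isInt_idem hM he)
    rw [hzz] at h3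
    refine cast (congrArg (Small M) ?_) h3
    have h8 : t * t = (1 - res (Cen P) z) * (1 - res (Cen P) z) * idem e := by
      rw [ht, ← mul_assoc, mul_assoc _ (idem e) _, (isCen_idem e).comm (1 - res (Cen P) z),
        ← mul_assoc, mul_assoc _ (idem e) (idem e), idem_sq]
    rw [h8, ht, ← sub_mul]
    congr 1
    noncomm_ring
  have h4 : Small M (incl (Cen P) (res (Cen P) (y * z)) - y) := by
    have h5 : v * res (Cen P) z - v = -(v * t) := by
      rw [ht, hv, ← mul_assoc, mul_assoc w (idem e) (1 - res (Cen P) z),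
        (isCen_idem e).comm (1 - res (Cen P) z), ← mul_assoc, mul_assoc _ (idem e) (idem e),
        idem_sq, mul_assoc w (idem e) (res (Cen P) z), (isCen_idem e).comm (res (Cen P) z),
        mul_sub, mul_one, sub_mul, mul_assoc]
      abel
    rw [h2, hy, ← map_sub, h5]
    intro x
    have h6 : Small M (v * t) := small_mul_left hM hvi hts
    by_cases hx : x ∈ Cen P
    · rw [show x = ((⟨x, hx⟩ : Cen P) : G) from rfl, coeff_incl_coe, MonoidAlgebra.coeff_neg,
        Finsupp.neg_apply]
      exact ideal_neg (h6 _)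
    · rw [coeff_incl_of_notMem _ _ hx]; exact ideal_zero hM
  have h7 := chiSum_ideal_of_small hM χ h4
  rw [map_sub] at h7
  exact cast (congrArg (MemLocalIdeal M) (by ring)) (ideal_add hM h1 h7)

/-- The trace of `χ` does not vanish on the block of the pair. -/
def NZ (M : Ideal AlgInt) (χ : IrrCharacter G) (P : Subgroup G)
    (e : Set (IrrCharacter (Cen P))) : Prop :=
  ∃ w : MonoidAlgebra ℂ (Cen P), IsInt M w ∧
    ¬ MemLocalIdeal M (chiSum (χ : G → ℂ) (incl (Cen P) (w * idem e)))

theorem nz_step (hM : IsPModular p M) (χ : IrrCharacter G) {Q P : Subgroup G}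
    {f : Set (IrrCharacter (Cen Q))} {e : Set (IrrCharacter (Cen P))}
    (hn : IsNormalSubpair p M Q f P e) (h : NZ M χ P e) : NZ M χ Q f := by
  obtain ⟨⟨-, hf⟩, ⟨hP, he⟩, hQP, -, hinv, hocc⟩ := isNormalSubpair_iff.mp hn
  obtain ⟨w, hw, hne⟩ := h
  have hk := chiSum_mul_occ hM χ hP he hinv (invBy_mono (centralizer_le hQP) (invBy_eb_self _ f))
    (isInt_eb hM hf) (eb_sq _ f) hocc hw
  set y := incl (Cen P) (w * idem e) with hy
  have hsupp : ∀ x ∉ Cen Q, y.coeff x = 0 := fun x hx =>
    coeff_incl_of_notMem _ _ fun hxP => hx (centralizer_le hQP hxP)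
  refine ⟨res (Cen Q) y, isInt_res _ (isInt_incl _ hM (IsInt.mul hM hw (isInt_idem hM he))), ?_⟩
  intro hI
  rw [map_mul, incl_res hsupp, ← eb_eq_incl] at hI
  exact hne (cast (congrArg (MemLocalIdeal M) (by ring)) (ideal_sub hM hI hk))

theorem nz_of_subpairLE (hM : IsPModular p M) (χ : IrrCharacter G) {Q P : Subgroup G}
    {f : Set (IrrCharacter (Cen Q))} {e : Set (IrrCharacter (Cen P))}
    (h : SubpairLE p M Q f P e) : NZ M χ P e → NZ M χ Q f := by
  suffices ∀ a b : BrauerPairIdx G, Relation.ReflTransGen (NormalSubpairRel p M) a b →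
      NZ M χ b.1 b.2 → NZ M χ a.1 a.2 from this _ _ h
  intro a b hab
  induction hab with
  | refl => exact id
  | tail _ hbc ih => exact fun hc => ih (nz_step hM χ hbc hc)

/-- A height zero character does not vanish on a maximal pair of its block. -/
theorem nz_maximal (hM : IsPModular p M) {B : Set (IrrCharacter G)} {R : Subgroup G}
    {e : Set (IrrCharacter (Cen R))} (hmax : IsMaximalBrauerPair p M B R e) {χ : IrrCharacter G}
    (hχ : χ ∈ B) (h0 : blockHeight p B (χ : G → ℂ) = 0) : NZ M χ R e := by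
  have hB := hmax.1.2.1
  obtain ⟨y, hy, S, rfl⟩ := isDefectGroup_of_maximal hM hmax
  set P := sylowIn S with hP
  have hyC : y ∈ Cen P := mem_centralizer_sylowIn S
  have hPp : IsPGroup p P := isPGroup_sylowIn S
  set w₀ : MonoidAlgebra ℂ (Cen P) := MonoidAlgebra.single ⟨y, hyC⟩ 1 with hw₀
  have hw₀i : IsInt M w₀ := isInt_single hM _ (localRing hM).one_mem
  have hval : chiSum (χ : G → ℂ) (incl (Cen P) w₀) = (χ : G → ℂ) y := by
    rw [chiSum_apply, Finset.sum_eq_single y]
    · rw [show y = ((⟨y, hyC⟩ : Cen P) : G) from rfl, coeff_incl_coe, hw₀]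
      simp
    · intro x _ hx
      by_cases hxC : x ∈ Cen P
      · rw [show x = ((⟨x, hxC⟩ : Cen P) : G) from rfl, coeff_incl_coe, hw₀]
        simp [Finsupp.single_apply, Ne.symm hx]
      · rw [coeff_incl_of_notMem _ _ hxC, zero_mul]
    · simp
  obtain ⟨g, hg, hgne⟩ : ∃ g, IsPBlock M g ∧
      ¬ MemLocalIdeal M (chiSum (χ : G → ℂ) (incl (Cen P) (w₀ * idem g))) := by
    by_contra hcon
    push Not at hcon
    have h1 := BlockTheoryHeight.apply_mul_not_ideal hM hB hy S (one_mem _) hχ h0
    rw [one_mul] at h1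
    refine h1 ?_
    rw [← hval, ← mul_one w₀, ← sum_idem_blockSet hM, Finset.mul_sum, map_sum, map_sum]
    exact ideal_sum hM fun g hg => hcon g (mem_blockSet.1 hg)
  have hocc : Occ M P g (idem B) := by
    obtain ⟨η, hη⟩ := block_nonempty hM hg
    refine occ_of_mem hM hg (IsCen.invBy (isCen_idem B) _) (isInt_idem hM hB) hη ?_
    refine (phi_dichotomy hM hPp (IsCen.invBy (isCen_idem B) _) (IsCen.invBy (isCen_idem B) _)
      (isInt_idem hM hB) (idem_sq B) η).resolve_left fun h => hgne ?_
    have hz := isCen_one.sub (isCen_idem (G := G) B)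
    have hk := chiSum_mul_occ hM χ hPp hg (z := 1 - idem B) (IsCen.invBy hz _) (IsCen.invBy hz _)
      (IsInt.sub hM (isInt_one hM) (isInt_idem hM hB))
      (by simp [sub_mul, mul_sub, idem_sq])
      (occ_of_mem hM hg (IsCen.invBy hz _) (IsInt.sub hM (isInt_one hM) (isInt_idem hM hB)) hη (by
        rw [phi, map_sub (res (Cen P)), res_one, map_sub, omega_one]
        exact cast (congrArg (MemLocalIdeal M) (by simp [phi])) (ideal_neg h))) hw₀i
    rw [mul_sub, mul_one, map_sub, ← (isCen_idem B).comm, chiSum_idem_mul, if_pos hχ, sub_self,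
      zero_sub] at hk
    have hk' := ideal_neg hk
    rwa [neg_neg] at hk'
  have hpair : IsBrauerPairOf p M B P g := isBrauerPairOf_iff.2 ⟨⟨hPp, hg⟩, hB, hocc⟩
  obtain ⟨n, hn, hne⟩ := exists_normalizer_of_pairOf hM hmax hpair
  set a := cjA n⁻¹ (incl (Cen P) w₀) with ha
  have hsupp : ∀ x ∉ Cen P, a.coeff x = 0 := fun x hx => by
    rw [ha, coeff_cjA, coeff_incl_of_notMem]
    intro h
    refine hx ?_
    have := conj_mem_centralizer (inv_mem hn) h
    rwa [show n⁻¹ * (n⁻¹⁻¹ * x * n⁻¹) * n⁻¹⁻¹ = x by group] at this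
  have hai : IsInt M a := fun x => by rw [ha, coeff_cjA]; exact isInt_incl _ hM hw₀i _
  refine ⟨res (Cen P) a, isInt_res _ hai, fun hI => hgne ?_⟩
  rw [map_mul, incl_res hsupp, ← eb_eq_incl, ← chiSum_cjA χ n, BlockTheoryMeet.cjA_distrib, hne,
    ha, ← cjA_mul, mul_inv_cancel, cjA_one, eb_eq_incl, ← map_mul] at hI
  exact hI

section Section

variable {u : G} {H : Subgroup G} (hH : ∀ g, g ∈ H ↔ Commute u g)
include hH

/-- The reduced degree of the part of a height zero character is prime to `p`. -/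
theorem degree_part_not_ideal (hM : IsPModular p M) (hu : ∃ k, orderOf u = p ^ k)
    {b : Set (IrrCharacter H)} {B : Set (IrrCharacter G)} (hind : IsInducedBlock M H b B)
    {χ : IrrCharacter G} (hχ : χ ∈ B) (h0 : blockHeight p B (χ : G → ℂ) = 0) :
    ¬ MemLocalIdeal M (∑ ξ ∈ members b,
      (S4716.mult χ ξ : ℂ) * ((charDegree (ξ : H → ℂ) / p ^ minExp p b : ℕ) : ℂ)) := by
  have hb := hind.1
  obtain ⟨E, hE⟩ := exists_defectGroup hM hb
  have hEp : IsPGroup p E := isPGroup_of_isDefectGroup hE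
  set Q := E.map H.subtype with hQ
  have huH : u ∈ H := (hH u).2 (Commute.refl u)
  have huQ : u ∈ Q := by
    set Z := Subgroup.zpowers (⟨u, huH⟩ : H)
    haveI : Z.Normal := ⟨fun z hz g => by
      obtain ⟨i, rfl⟩ := Subgroup.mem_zpowers_iff.mp hz
      have hc : Commute (⟨u, huH⟩ : H) g := Subtype.ext ((hH g).1 g.2).eq
      rw [← (hc.zpow_left i).eq, mul_inv_cancel_right]
      exact Subgroup.mem_zpowers_iff.mpr ⟨i, rfl⟩⟩
    have hZ : IsPGroup p Z := by
      obtain ⟨k, hk⟩ := hu
      exact IsPGroup.of_card (n := k) (by rw [Nat.card_zpowers, ← Subgroup.orderOf_coe, hk])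
    exact ⟨⟨u, huH⟩, normal_le_defectGroup hM hb hE Z hZ (Subgroup.mem_zpowers _), rfl⟩
  have hCH : Cen Q ≤ H := fun x hx => (hH x).2 (Subgroup.mem_centralizer_iff.mp hx u huQ)
  have hQH : Q ≤ H := Subgroup.map_subtype_le E
  obtain ⟨g0, hg0⟩ := exists_pairOf_of_not_small hM hb hEp (not_small_cut_defect hM hb hE)
  have hpair := BlockPiKernel.pair_up hM hind hg0 hCH
  set f := pushSet (cenIso (cenCompat_map (R := E) hCH le_rfl)) g0
  obtain ⟨R, e, hmax, hle⟩ := exists_maximal_above hpair
  obtain ⟨w, hw, hne⟩ := nz_of_subpairLE hM χ hle (nz_maximal hM hmax hχ h0)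
  have hocc : Occ M Q f (eb H b) := by
    rw [eb_eq_incl]
    exact occ_push _ (isBrauerPairOf_iff.1 hg0).2.2
  have hk := chiSum_mul_occ hM χ hpair.1.1 hpair.1.2 (invBy_mono hQH (invBy_eb_self H b))
    (invBy_mono hCH (invBy_eb_self H b)) (isInt_eb hM hb) (eb_sq H b) hocc hw
  set y := incl (Cen Q) (w * idem f) with hy
  have hysupp : ∀ x ∉ H, y.coeff x = 0 := fun x hx =>
    coeff_incl_of_notMem _ _ fun hxC => hx (hCH hxC)
  set a := res H y with ha
  have hai : IsInt M a :=
    isInt_res _ (isInt_incl _ hM (IsInt.mul hM hw (isInt_idem hM hpair.1.2)))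
  have haE : InvBy E a := fun v hv x => invBy_incl_cen (w * idem f) (v : G) ⟨v, hv, rfl⟩ (x : G)
  set z := conjSum E a with hz
  have hzc : IsCen z := isCen_conjSum haE
  have hzi : IsInt M z := fun x => by
    simp only [hz, conjSum, MonoidAlgebra.coeff_sum, Finsupp.finsetSum_apply]
    exact (localRing hM).sum_mem fun c _ => by rw [coeff_cjA]; exact hai _
  have hF : ∀ v : MonoidAlgebra ℂ H, chiSum (χ : G → ℂ) (incl H (v * idem b)) =
      ∑ ψ ∈ members b, (S4716.mult χ ψ : ℂ) * chiSum (ψ : H → ℂ) v := fun v => by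
    have h1 : chiSum (χ : G → ℂ) (incl H (v * idem b)) =
        ∑ c : H, (v * idem b).coeff c * (χ : G → ℂ) c := by
      rw [chiSum_apply]
      refine (Fintype.sum_of_injective (fun c : H => (c : G)) Subtype.val_injective _ _ ?_ ?_).symm
      · intro x hx
        rw [coeff_incl_of_notMem H _ (by simpa using hx), zero_mul]
      · intro c
        rw [coeff_incl_coe]
    rw [h1, ← filter_eq_members, Finset.sum_filter]
    simp only [S4716.apply_eq_sum, Finset.mul_sum]
    rw [Finset.sum_comm]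
    refine Finset.sum_congr rfl fun ψ _ => ?_
    rw [Finset.sum_congr rfl (g := fun c : H => (S4716.mult χ ψ : ℂ) *
      ((v * idem b).coeff c * (ψ : H → ℂ) c)) fun c _ => by ring, ← Finset.mul_sum,
      ← chiSum_apply, ← (isCen_idem b).comm v, chiSum_idem_mul, mul_ite, mul_zero]
  set D : IrrCharacter H → ℕ := fun ξ => charDegree (ξ : H → ℂ) / p ^ minExp p b with hD
  have hDmul : ∀ ξ ∈ b, charDegree (ξ : H → ℂ) = p ^ minExp p b * D ξ := fun ξ hξ =>
    (Nat.mul_div_cancel' ((pow_dvd_pow p (minExp_le (p := p) hξ)).trans (Nat.ordProj_dvd _ p))).symm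
  have hEi0 : E.index ≠ 0 := Subgroup.index_ne_zero_of_finite
  set r := E.index / p ^ minExp p b with hr
  have hEfac : E.index.factorization p = minExp p b := by
    have h1 := minExp_add_defect hM hb
    have h2 : (Nat.card H).factorization p = E.index.factorization p + blockDefect p b := by
      rw [← E.index_mul_card, Nat.factorization_mul hEi0 Nat.card_pos.ne', Finsupp.add_apply,
        BlockContribBounds.card_defectGroup hM hb hE, Nat.factorization_pow, Finsupp.smul_apply,
        hM.1.factorization_self, smul_eq_mul, mul_one]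
    omega
  have hrp : ¬ p ∣ r := by rw [hr, ← hEfac]; exact Nat.not_dvd_ordCompl hM.1 hEi0
  have hre : (E.index : ℂ) = (p : ℂ) ^ minExp p b * (r : ℂ) := by
    rw [hr, ← hEfac]; exact_mod_cast (Nat.ordProj_mul_ordCompl_eq_self E.index p).symm
  set X := chiSum (χ : G → ℂ) (y * eb H b) with hX
  have hXn : ¬ MemLocalIdeal M X := fun h =>
    hne (cast (congrArg (MemLocalIdeal M) (by ring)) (ideal_sub hM h hk))
  have hXe : X = ∑ ψ ∈ members b, (S4716.mult χ ψ : ℂ) * chiSum (ψ : H → ℂ) a := by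
    rw [← hF, map_mul, ha, incl_res hysupp, ← eb_eq_incl]
  have key : (r : ℂ) * X =
      ∑ ψ ∈ members b, (S4716.mult χ ψ : ℂ) * (D ψ : ℂ) * omega (ψ : H → ℂ) z := by
    refine mul_left_cancel₀ (pow_ne_zero (minExp p b) (Nat.cast_ne_zero.2 hM.1.ne_zero :
      (p : ℂ) ≠ 0)) ?_
    rw [← mul_assoc, ← hre, hXe, Finset.mul_sum, Finset.mul_sum]
    refine Finset.sum_congr rfl fun ψ hψ => ?_
    have hne0 : (ψ : H → ℂ) 1 ≠ 0 := irr_one_ne_zero ψ
    rw [omega_apply, hz, chiSum_conjSum, apply_one_eq_charDegree, hDmul ψ (mem_members.1 hψ)]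
    have hDψ : (D ψ : ℂ) ≠ 0 := Nat.cast_ne_zero.2 fun h =>
      (charDegree_pos ψ).ne' (by rw [hDmul ψ (mem_members.1 hψ), h, mul_zero])
    have hp0 : (p : ℂ) ≠ 0 := Nat.cast_ne_zero.2 hM.1.ne_zero
    push_cast
    field_simp
  obtain ⟨θ, hθ⟩ := block_nonempty hM hb
  intro hI
  refine not_ideal_mul hM (natCast_mem (localRing hM) r) (chiSum_mem hM χ (IsInt.mul hM
    (isInt_incl _ hM (IsInt.mul hM hw (isInt_idem hM hpair.1.2))) (isInt_eb hM hb)))
    (fun h => hrp ((natCast_mem_iff hM).1 h)) hXn ?_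
  rw [key]
  have h1 : MemLocalIdeal M (∑ ψ ∈ members b, (S4716.mult χ ψ : ℂ) * (D ψ : ℂ) *
      (omega (ψ : H → ℂ) z - omega (θ : H → ℂ) z)) :=
    ideal_sum hM fun ψ hψ => ideal_mul_left hM
      ((localRing hM).mul_mem (natCast_mem (localRing hM) _) (natCast_mem (localRing hM) _))
      (omega_sub_mem hM (sameBlock_of_mem hM hb (mem_members.1 hψ) hθ) hzc hzi)
  refine cast (congrArg (MemLocalIdeal M) ?_) (ideal_add hM h1
    (ideal_mul_right hM hI (omega_mem_localRing hM θ hzc hzi)))
  rw [Finset.sum_mul, ← Finset.sum_add_distrib]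
  exact Finset.sum_congr rfl fun ψ _ => by ring

end Section

end Cfsg.Agent.BlockHeightSection82
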