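import Cfsg.Agent.Lib.BlockMajorCount31
import Cfsg.Agent.Lib.BlockContribMatrix81
import Cfsg.Agent.S4675

/-!
When every nontrivial subsection is major with one Brauer character the squares of `p ^ h`, weighted
by the characters off the regular classes, are bounded by the order of the defect group.
-/

set_option autoImplicit false
set_option linter.unusedSectionVars false
set_option linter.unusedVariables false

namespace Cfsg.Agent.BlockRankOneHeight9

open Cfsg Cfsg.Agent.BlockTheoryLocalRing Cfsg.Agent.BlockTheoryCentre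
open Cfsg.Agent.BlockTheoryIdem Cfsg.Agent.BlockTheoryBrauer
open Cfsg.Agent.BlockContrib Cfsg.Agent.BlockContribBounds Cfsg.Agent.ClassAlgebraVal
open Cfsg.Agent.BlockContribPrime Cfsg.Agent.BlockContribSection Cfsg.Agent.BlockMajorLattice82
open Cfsg.Agent.BlockMajorMean31 Cfsg.Agent.BlockMajorCount31
open Cfsg.Agent.BrauerPairs81Base Cfsg.Agent.BlockCyclicRank81
open scoped ComplexConjugate

attribute [local instance] Classical.propDecidable

variable {p : ℕ} [Fact p.Prime] {M : Ideal AlgInt} {G : Type*} [Group G] [Fintype G]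
  {H : Subgroup G} {v : G}

/-- The entries of a subsection of rank one have rank one. -/
theorem entry_rank_one (hM : IsPModular p M) (hH : ∀ g, g ∈ H ↔ Commute v g)
    {b : Set (IrrCharacter H)} (hb : IsPBlock M b) (hl : blockRank p b = 1)
    (χ ψ : IrrCharacter G) :
    S4716.entry p (⟨v, (hH v).2 (Commute.refl v)⟩ : H) b χ χ *
        S4716.entry p (⟨v, (hH v).2 (Commute.refl v)⟩ : H) b ψ ψ =
      S4716.entry p (⟨v, (hH v).2 (Commute.refl v)⟩ : H) b χ ψ *
        S4716.entry p (⟨v, (hH v).2 (Commute.refl v)⟩ : H) b ψ χ := by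
  obtain ⟨F, d, -, hF, -⟩ := S4675.main hM hb hl
  set z : H := ⟨v, (hH v).2 (Commute.refl v)⟩ with hz
  set a : IrrCharacter G → ℂ := fun χ =>
    ∑ ξ ∈ members b, ((S4716.mult χ ξ : ℂ) * S4716.lam z ξ) * (d ξ : ℂ) with ha
  have hpair : ∀ χ ψ : IrrCharacter G,
      (cofactor p H : ℂ) * (p : ℂ) ^ minExp p b * S4716.entry p z b χ ψ =
        conj (a χ) * a ψ * pair p F F := by
    intro χ ψ
    rw [← S4716.pair_part hM.1 hH b χ ψ, pair, pair, regSum_eq, regSum_eq, Finset.mul_sum]
    refine Finset.sum_congr rfl fun s _ => ?_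
    by_cases hs : p ∣ orderOf s
    · simp [hs]
    · rw [if_pos hs, if_pos hs]
      have hpart : ∀ χ : IrrCharacter G, part v b (χ : G → ℂ) s = a χ * F s := fun χ => by
        rw [S4716.part_eq hH, ha, Finset.sum_mul]
        refine Finset.sum_congr rfl fun ξ hξ => ?_
        rw [hF ξ (mem_members.1 hξ) s hs]
        ring
      rw [hpart, hpart, map_mul]
      ring
  refine mul_left_cancel₀ (mul_ne_zero (scale_ne_zero (G := H) hM.1 b) (scale_ne_zero (G := H) hM.1 b)) ?_
  calc _ = ((cofactor p H : ℂ) * (p : ℂ) ^ minExp p b * S4716.entry p z b χ χ) *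
        ((cofactor p H : ℂ) * (p : ℂ) ^ minExp p b * S4716.entry p z b ψ ψ) := by ring
    _ = ((cofactor p H : ℂ) * (p : ℂ) ^ minExp p b * S4716.entry p z b χ ψ) *
        ((cofactor p H : ℂ) * (p : ℂ) ^ minExp p b * S4716.entry p z b ψ χ) := by
        simp only [hpair]; ring
    _ = _ := by ring

/-- The diagonal entries are divisible by the square of `p ^ h`. -/
theorem entry_self_sq (hM : IsPModular p M) (hv : ∃ k, orderOf v = p ^ k)
    (hH : ∀ g, g ∈ H ↔ Commute v g) {b : Set (IrrCharacter H)} {B : Set (IrrCharacter G)}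
    (hind : IsInducedBlock M H b B) (hd : blockDefect p b = blockDefect p B)
    (hl : blockRank p b = 1) {χ : IrrCharacter G} (hχ : χ ∈ B) :
    ∃ t : ℂ, MemLocalRing M t ∧ S4716.entry p (⟨v, (hH v).2 (Commute.refl v)⟩ : H) b χ χ =
      (p : ℂ) ^ (2 * blockHeight p B (χ : G → ℂ)) * t := by
  obtain ⟨χ0, hχ0, h0⟩ := exists_height_zero hM hind.2.1
  obtain ⟨s1, h1R, -, h1⟩ := BlockContribMatrix81.entry_major hM hv hH hind hd hχ0 hχ
  obtain ⟨s2, h2R, -, h2⟩ := BlockContribMatrix81.entry_major hM hv hH hind hd hχ hχ0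
  obtain ⟨s0, h0R, h0i, h00⟩ := BlockContribMatrix81.entry_major hM hv hH hind hd hχ0 hχ0
  rw [h0, pow_zero, one_mul] at h2 h00
  have hn : ¬ MemLocalIdeal M s0 := fun h => h0i.1 h h0
  have hs0 : s0 ≠ 0 := fun h => hn (h ▸ ideal_zero hM)
  have hH' : ∀ g, g ∈ H ↔ Commute v⁻¹ g := fun g => (hH g).trans Commute.inv_left_iff.symm
  have hv' : ∃ k, orderOf v⁻¹ = p ^ k := by simpa only [orderOf_inv] using hv
  obtain ⟨φ, hφ, hφ0⟩ := exists_height_zero hM hind.1
  obtain ⟨κ, -, -, hsv⟩ := exists_sval_value hM hv' hH' hind hd hφ hφ0 hχ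
  set z : H := ⟨v, (hH v).2 (Commute.refl v)⟩ with hz
  rw [show (⟨v⁻¹, (hH' v⁻¹).2 (Commute.refl _)⟩ : H) = z⁻¹ from Subtype.ext rfl] at hsv
  have hdvd : ∃ w : ℂ, MemLocalRing M w ∧ S4716.entry p z b χ χ0 =
      (p : ℂ) ^ blockHeight p B (χ : G → ℂ) * w := by
    have hlam : ∀ ξ : IrrCharacter H, S4716.lam z⁻¹ ξ = conj (S4716.lam z ξ) := fun ξ => by
      rw [S4716.lam, S4716.lam, irr_inv, map_div₀, ← irr_inv ξ 1, inv_one]
    choose! t htR _ hts using fun η (hη : η ∈ members b) => hsv _ (col_mem (mem_members.1 hη))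
    obtain ⟨k, hk⟩ := BlockContribMatrix81.lam_root (p := p) hv hH
    have hlR : ∀ ξ : IrrCharacter H, MemLocalRing M (S4716.lam z ξ) := fun ξ =>
      of_isIntegral hM (IsIntegral.of_pow (pow_pos hM.1.pos k) (by
        rw [hk]; exact isIntegral_one))
    refine ⟨∑ η ∈ members b, (S4716.mult χ0 η : ℂ) * S4716.lam z η * t η,
      (localRing hM).sum_mem fun η hη => (localRing hM).mul_mem
        ((localRing hM).mul_mem (natCast_mem (localRing hM) _) (hlR η)) (htR η hη), ?_⟩
    rw [S4716.entry, Finset.sum_comm, Finset.mul_sum]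
    refine Finset.sum_congr rfl fun η hη => ?_
    rw [mul_left_comm, ← hts η hη, sval, Finset.mul_sum]
    refine Eq.trans (Finset.sum_congr rfl fun ξ hξ => ?_)
      (Finset.sum_subset (Finset.subset_univ _) fun ξ _ hξ => ?_)
    · rw [show col p b η ξ = contrib p b η ξ from if_pos (mem_members.1 hξ),
        contrib_comm hM.1 (mem_members.1 hη) (mem_members.1 hξ), hlam]
      ring
    · rw [show col p b η ξ = 0 from if_neg fun h => hξ (mem_members.2 h)]
      simp
  obtain ⟨w, hwR, hw⟩ := hdvd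
  refine ⟨s1 * w * s0⁻¹, (localRing hM).mul_mem ((localRing hM).mul_mem h1R hwR)
    (inv_mem hM h0R hn), ?_⟩
  have h := entry_rank_one hM hH hind.1 hl χ χ0
  rw [← hz, hw, h1, h00] at h
  rw [← mul_inv_cancel_right₀ hs0 (S4716.entry p z b χ χ), h, two_mul, pow_add]
  ring

/-- The Galois mean of the energy of a major subsection. -/
theorem card_mul_sq_le_sum_energy (hM : IsPModular p M) {n : ℕ} (hvn : v ^ p ^ (n + 1) = 1)
    (hv : ∃ k, orderOf v = p ^ k) (hH : ∀ g, g ∈ H ↔ Commute v g) {b : Set (IrrCharacter H)}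
    {B : Set (IrrCharacter G)} (hind : IsInducedBlock M H b B)
    (hd : blockDefect p b = blockDefect p B) (hl : blockRank p b = 1) {χ : IrrCharacter G}
    (hχ : χ ∈ B) :
    ((expo p n).card : ℝ) * Nat.card H * (p : ℝ) ^ (2 * blockHeight p B (χ : G → ℂ)) ≤
      (p : ℝ) ^ blockDefect p B * ∑ j ∈ expo p n, energy p (v ^ j) b χ := by
  have hp := hM.1
  set N := p ^ (n + 1) with hN
  have hN0 : 0 < N := pow_pos hp.pos _
  obtain ⟨ζ, hζ⟩ : ∃ ζ : ℂ, IsPrimitiveRoot ζ N := ⟨_, Complex.isPrimitiveRoot_exp N hN0.ne'⟩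
  have : NeZero N := ⟨hN0.ne'⟩
  set z : H := ⟨v, (hH v).2 (Commute.refl v)⟩ with hz
  have hzc : z ∈ Subgroup.center H := BlockMajor81.uH_center hH
  have hzN : z ^ N = 1 := Subtype.ext (by simpa [hz] using hvn)
  have hlam : ∀ ξ : IrrCharacter H, ∃ a < N, ζ ^ a = S4716.lam z ξ := fun ξ =>
    hζ.eq_pow_of_pow_eq_one (by
      rw [← S4716.lam_pow hzc, hzN, S4716.lam, div_self (irr_one_ne_zero ξ)])
  choose a haN ha using hlam
  let Q : Polynomial ℤ := ∑ ξ ∈ members b, ∑ η ∈ members b,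
    Polynomial.C ((S4716.mult χ ξ : ℤ) * (S4716.mult χ η : ℤ) * contrib p b ξ η) *
      Polynomial.X ^ ((N - a ξ) + a η)
  have hconj : ∀ j : ℕ, ∀ ξ, conj ((ζ ^ a ξ) ^ j) = (ζ ^ (N - a ξ)) ^ j := fun j ξ => by
    rw [map_pow]
    congr 1
    rw [← Complex.inv_eq_conj (by
      rw [norm_pow, Complex.norm_eq_one_of_pow_eq_one hζ.pow_eq_one hN0.ne', one_pow])]
    refine inv_eq_of_mul_eq_one_right ?_
    rw [← pow_add, Nat.add_sub_cancel' (haN ξ).le, hζ.pow_eq_one]
  have hcard0 : (0 : ℝ) < Nat.card H := Nat.cast_pos.2 Nat.card_pos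
  set r : ℕ → ℝ := fun j => (p : ℝ) ^ blockDefect p B * energy p (v ^ j) b χ / Nat.card H with hr
  have hj : ∀ j ∈ expo p n, (∀ g, g ∈ H ↔ Commute (v ^ j) g) ∧ (∃ i, orderOf (v ^ j) = p ^ i) := by
    intro j hj
    obtain ⟨k, hk⟩ := hv
    have hcop : (orderOf v).Coprime j :=
      hk ▸ (hp.coprime_iff_not_dvd.2 (Finset.mem_filter.1 hj).2).pow_left _
    obtain ⟨q, hq⟩ := exists_pow_eq_self_of_coprime hcop.symm
    exact ⟨fun g => by
      rw [hH]
      exact ⟨fun h => h.pow_left j, fun h => by rw [← hq]; exact h.pow_left q⟩,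
      ⟨k, by rw [Nat.Coprime.orderOf_pow hcop, hk]⟩⟩
  have hentry : ∀ j ∈ expo p n, (r j : ℂ) = S4716.entry p (z ^ j) b χ χ := by
    intro j hjm
    obtain ⟨hHj, -⟩ := hj j hjm
    have h := S4716.pair_part hp hHj b χ χ
    rw [← energy_cast] at h
    rw [show (⟨v ^ j, (hHj (v ^ j)).2 (Commute.refl _)⟩ : H) = z ^ j from
      Subtype.ext (by simp [hz])] at h
    have hHc : (Nat.card H : ℂ) =
        (p : ℂ) ^ blockDefect p B * ((cofactor p H : ℂ) * (p : ℂ) ^ minExp p b) := by
      conv_lhs => rw [← pow_mul_cofactor (G := H) p]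
      rw [← minExp_add_defect hM hind.1, hd, pow_add]
      push_cast
      ring
    simp only [hr]
    push_cast
    rw [h, hHc]
    have h1 := scale_ne_zero (G := H) hp b
    have h2 : (p : ℂ) ^ blockDefect p B ≠ 0 := pow_ne_zero _ (Nat.cast_ne_zero.2 hp.ne_zero)
    rw [mul_div_mul_left _ _ h2, mul_div_cancel_left₀ _ h1]
  have key := card_mul_le (h := 2 * blockHeight p B (χ : G → ℂ)) hM hζ Q r (fun j hjm => ?_)
    (fun j hjm => ?_) (fun j hjm => ?_)
  · simp only [hr, ← Finset.sum_div, ← Finset.mul_sum] at key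
    rw [le_div_iff₀ hcard0] at key
    linarith [key]
  · rw [hentry j hjm, S4716.entry]
    simp only [Q, map_sum, map_mul, Polynomial.aeval_C, map_pow, Polynomial.aeval_X]
    refine Finset.sum_congr rfl fun ξ _ => Finset.sum_congr rfl fun η _ => ?_
    rw [S4716.lam_pow hzc, S4716.lam_pow hzc, ← ha ξ, ← ha η, hconj, pow_add, ← pow_mul ζ (N - a ξ),
      ← pow_mul ζ (a η), mul_comm (N - a ξ), mul_comm (a η), pow_mul ζ j, pow_mul ζ j]
    simp
  · obtain ⟨hHj, hoj⟩ := hj j hjm
    refine div_pos (mul_pos (pow_pos (Nat.cast_pos.2 hp.pos) _) ?_) hcard0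
    refine lt_of_lt_of_le ?_ (Finset.single_le_sum (fun s _ => ?_) (Finset.mem_univ (1 : H)))
    · rw [if_pos (by rw [orderOf_one]; exact hp.not_dvd_one), Complex.normSq_pos]
      exact BlockMajor81.part_one_ne_zero hHj hM hoj hind hd hχ
    · exact ite_nonneg (Complex.normSq_nonneg _) le_rfl
  · obtain ⟨hHj, hoj⟩ := hj j hjm
    rw [hentry j hjm, show z ^ j = (⟨v ^ j, (hHj (v ^ j)).2 (Commute.refl _)⟩ : H) from
      Subtype.ext (by simp [hz])]
    exact entry_self_sq hM hoj hHj hind hd hl hχ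

/-- Nontrivial major subsections of rank one carry at most the group order. -/
theorem sum_rank_one_le (hM : IsPModular p M) {B : Set (IrrCharacter G)} (hB : IsPBlock M B)
    (hrank : ∀ x ∈ (pEls (G := G) p).erase 1, ∀ b ∈ majorSubs p M B x, blockRank p b = 1)
    {χ : IrrCharacter G} (hχ : χ ∈ B) :
    p ^ (2 * blockHeight p B (χ : G → ℂ)) *
        ∑ x ∈ (pEls p).erase 1, Nat.card (Cen (Subgroup.zpowers x)) * (majorSubs p M B x).card ≤
      p ^ blockDefect p B * Nat.card G := by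
  have hp := hM.1
  set n := (Nat.card G).factorization p
  set J := expo p n
  have hJ0 : (0 : ℝ) < J.card := Nat.cast_pos.2 (Finset.card_pos.2 ⟨1, one_mem_expo hp n⟩)
  have hperm : ∀ j ∈ J, ∑ x ∈ pEls (G := G) p, total p (x ^ j) χ =
      ∑ x ∈ pEls (G := G) p, total p x χ := by
    intro j hj
    obtain ⟨q, hq⟩ := Nat.exists_mul_mod_eq_one_of_coprime (coprime_of_mem hp hj)
      (Nat.one_lt_pow n.succ_ne_zero hp.one_lt)
    have hmem : ∀ x ∈ pEls (G := G) p, ∀ i : ℕ, x ^ i ∈ pEls (G := G) p := by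
      intro x hx i
      refine Finset.mem_filter.2 ⟨Finset.mem_univ _, ?_⟩
      obtain ⟨k, -, hk⟩ := (Nat.dvd_prime_pow hp).1
        (orderOf_dvd_of_pow_eq_one (show (x ^ i) ^ p ^ (n + 1) = 1 by
          rw [← pow_mul, mul_comm, pow_mul, pow_exp_eq_one hp hx, one_pow]))
      exact ⟨k, hk⟩
    have hinv : ∀ x ∈ pEls (G := G) p, x ^ (j * q) = x := fun x hx => by
      rw [pow_eq_pow_mod _ (pow_exp_eq_one hp hx), hq.2, pow_one]
    refine Finset.sum_bij' (fun x _ => x ^ j) (fun x _ => x ^ q) (fun x hx => hmem x hx j)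
      (fun x hx => hmem x hx q) (fun x hx => by rw [← pow_mul]; exact hinv x hx)
      (fun x hx => by rw [← pow_mul, mul_comm]; exact hinv x hx) (fun _ _ => rfl)
  have hlow : ∀ x ∈ (pEls (G := G) p).erase 1,
      ((J.card : ℝ) * Nat.card (Cen (Subgroup.zpowers x)) * (p : ℝ) ^ (2 * blockHeight p B (χ : G → ℂ))) *
          (majorSubs p M B x).card ≤
        (p : ℝ) ^ blockDefect p B * ∑ j ∈ J, total p (x ^ j) χ := by
    intro x hx0
    have hx := Finset.mem_of_mem_erase hx0
    have hxo := (Finset.mem_filter.1 hx).2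
    have hH := centralizer_zpowers x
    calc _ ≤ ∑ b ∈ majorSubs p M B x,
          (p : ℝ) ^ blockDefect p B * ∑ j ∈ J, energy p (x ^ j) b χ := by
          rw [mul_comm _ ((majorSubs p M B x).card : ℝ), ← nsmul_eq_mul]
          refine Finset.card_nsmul_le_sum _ _ _ fun b hb => ?_
          obtain ⟨hb1, hb2⟩ := Finset.mem_filter.1 hb
          exact card_mul_sq_le_sum_energy hM (pow_exp_eq_one hp hx) hxo hH
            (Finset.mem_filter.1 hb1).2 hb2 (hrank x hx0 b hb) hχ
      _ ≤ _ := by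
          rw [← Finset.mul_sum, Finset.sum_comm]
          refine mul_le_mul_of_nonneg_left (Finset.sum_le_sum fun j hj => ?_) (by positivity)
          obtain ⟨k, hk⟩ := hxo
          have hcop : (orderOf x).Coprime j :=
            hk ▸ (hp.coprime_iff_not_dvd.2 (Finset.mem_filter.1 hj).2).pow_left _
          obtain ⟨q, hq⟩ := exists_pow_eq_self_of_coprime hcop.symm
          have hHj : ∀ g, g ∈ Cen (Subgroup.zpowers x) ↔ Commute (x ^ j) g := fun g => by
            rw [hH]
            exact ⟨fun h => h.pow_left j, fun h => by rw [← hq]; exact h.pow_left q⟩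
          have hind : ∀ b ∈ majorSubs p M B x,
              IsInducedBlock M (Cen (Subgroup.zpowers x)) b B := fun b hb =>
            (Finset.mem_filter.1 (Finset.mem_filter.1 hb).1).2
          exact sum_energy_le hM ⟨k, by rw [Nat.Coprime.orderOf_pow hcop, hk]⟩ hHj hB _ hind hχ
  have h := (Finset.sum_le_sum hlow).trans
    (Finset.sum_le_sum_of_subset_of_nonneg (Finset.erase_subset 1 _) fun x _ _ =>
      mul_nonneg (by positivity) (Finset.sum_nonneg fun j _ =>
        Finset.sum_nonneg fun g _ => Complex.normSq_nonneg _))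
  have hrhs : ∑ x ∈ pEls (G := G) p, (p : ℝ) ^ blockDefect p B * ∑ j ∈ J, total p (x ^ j) χ =
      (p : ℝ) ^ blockDefect p B * ((J.card : ℝ) * Nat.card G) := by
    rw [← Finset.mul_sum, Finset.sum_comm, Finset.sum_congr rfl hperm, pEls, sum_total hM,
      Finset.sum_const, nsmul_eq_mul]
  rw [hrhs] at h
  have h' : (J.card : ℝ) * ((p : ℝ) ^ (2 * blockHeight p B (χ : G → ℂ)) *
      ((∑ x ∈ (pEls p).erase 1, Nat.card (Cen (Subgroup.zpowers x)) * (majorSubs p M B x).card : ℕ) : ℝ)) ≤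
      (J.card : ℝ) * ((p : ℝ) ^ blockDefect p B * Nat.card G) := by
    refine le_trans (le_of_eq ?_) (h.trans (le_of_eq (by ring)))
    push_cast
    rw [pEls, Finset.mul_sum, Finset.mul_sum]
    exact Finset.sum_congr rfl fun x _ => by ring
  exact_mod_cast le_of_mul_le_mul_left h' hJ0

/-- The bound for abelian defect groups with rank one at all nontrivial subsections. -/
theorem pow_height_sq_mul_le (hM : IsPModular p M) {B : Set (IrrCharacter G)} (hB : IsPBlock M B)
    (hall : ∀ x ∈ (pEls (G := G) p).erase 1, ∀ b ∈ subs M B x,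
      blockDefect p b = blockDefect p B ∧ blockRank p b = 1)
    {χ : IrrCharacter G} (hχ : χ ∈ B) :
    p ^ (2 * blockHeight p B (χ : G → ℂ)) * Nat.card B ≤
      p ^ blockDefect p B + p ^ (2 * blockHeight p B (χ : G → ℂ)) * blockRank p B := by
  have h := sum_rank_one_le hM hB
    (fun x hx b hb => (hall x hx b (Finset.mem_filter.1 hb).1).2) hχ
  have heq : ∑ x ∈ (pEls (G := G) p).erase 1,
      Nat.card (Cen (Subgroup.zpowers x)) * (majorSubs p M B x).card =
      ∑ x ∈ (pEls (G := G) p).erase 1,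
        Nat.card (Cen (Subgroup.zpowers x)) * ∑ b ∈ subs M B x, blockRank p b := by
    refine Finset.sum_congr rfl fun x hx => ?_
    rw [Finset.sum_congr rfl fun b hb => (hall x hx b hb).2, ← Finset.card_eq_sum_ones, majorSubs,
      Finset.filter_true_of_mem fun b hb => (hall x hx b hb).1]
  rw [heq] at h
  refine Nat.le_of_mul_le_mul_left ?_ (Nat.card_pos (α := G))
  have hc := card_eq hM hB
  calc Nat.card G * (p ^ (2 * blockHeight p B (χ : G → ℂ)) * Nat.card B)
      = p ^ (2 * blockHeight p B (χ : G → ℂ)) * (Nat.card G * Nat.card B) := by ring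
    _ = p ^ (2 * blockHeight p B (χ : G → ℂ)) * (Nat.card G * blockRank p B) +
        p ^ (2 * blockHeight p B (χ : G → ℂ)) * ∑ x ∈ (pEls (G := G) p).erase 1,
          Nat.card (Cen (Subgroup.zpowers x)) * ∑ b ∈ subs M B x, blockRank p b := by
        rw [hc, Nat.mul_add]
        rfl
    _ ≤ p ^ (2 * blockHeight p B (χ : G → ℂ)) * (Nat.card G * blockRank p B) +
        p ^ blockDefect p B * Nat.card G := Nat.add_le_add_left h _
    _ = _ := by ring

end Cfsg.Agent.BlockRankOneHeight9
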