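import Cfsg.Agent.Lib.BlockStarMatrix9
import Cfsg.Agent.Lib.BlockRankOneHeight9
import Cfsg.Agent.Lib.BlockAbelianSylow86
import Cfsg.Agent.Lib.BlockFirstMainOver

/-!
A `2`-block with defect group `C_{2^m} × C_{2^m}`, `m ≥ 2`, and inertial index three has three
Brauer characters: the integral matrices of the star construction bound the number of characters
fixed by the inversion of `2`-power roots of unity, and the contributions of an involution make
the number of characters divisible by eight.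
-/

set_option autoImplicit false
set_option linter.unusedSectionVars false

namespace Cfsg.Agent.BlockHomocyclicDefect9

open Cfsg Cfsg.Agent.BlockTheoryLocalRing Cfsg.Agent.BlockTheoryCentre
open Cfsg.Agent.BlockTheoryIdem Cfsg.Agent.BlockTheoryBrauer
open Cfsg.Agent.BrauerPairs81Base Cfsg.Agent.BrauerPairs81Pairs Cfsg.Agent.BrauerPairs81Conj
open Cfsg.Agent.BrauerPairs81Local Cfsg.Agent.BrauerPairs81Fusion Cfsg.Agent.BrauerPairs81Max
open Cfsg.Agent.BrauerPairs81Induced
open Cfsg.Agent.BlockContribBounds Cfsg.Agent.BlockStarMatrix9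
open CharBasic CharBasicDecomp
open scoped ComplexConjugate

attribute [local instance] Classical.propDecidable

/-! ### Characters of an abelian group -/

section Abelian

variable {V : Type*} [CommGroup V] [Fintype V] [Fintype (V →* ℂˣ)]

theorem isGen_sum_int (a : (V →* ℂˣ) → ℤ) :
    IsGeneralizedCharacter V (fun y => ∑ lam : V →* ℂˣ, (a lam : ℂ) * (lam y : ℂ)) := by
  have h : (fun y => ∑ lam : V →* ℂˣ, (a lam : ℂ) * (lam y : ℂ)) =
      ∑ lam : V →* ℂˣ, (a lam : ℂ) • fun y => (lam y : ℂ) := by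
    funext y
    simp [Finset.sum_apply]
  rw [h]
  exact isGeneralizedCharacter_sum _ _ fun lam _ => isGeneralizedCharacter_zsmul
    (isGeneralizedCharacter_of_isCharacter (isCharacter_linear lam)) _

theorem card_dual : Fintype.card (V →* ℂˣ) = Fintype.card V := by
  rw [← Nat.card_eq_fintype_card, ← Nat.card_eq_fintype_card,
    CommGroup.card_monoidHom_of_hasEnoughRootsOfUnity]

theorem isGen_card_delta : IsGeneralizedCharacter V
    (fun y : V => if y = 1 then (Fintype.card V : ℂ) else 0) := by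
  convert isGen_sum_int (V := V) (fun _ => 1) using 2 with y
  simp [BlockAbelianSylow86.sum_dual]

theorem lam_involution (lam : V →* ℂˣ) {x : V} (hx : x * x = 1) :
    ((lam x : ℂ) = 1) ∨ ((lam x : ℂ) = -1) := by
  refine mul_self_eq_one_iff.1 ?_
  rw [← Units.val_mul, ← map_mul, hx, map_one, Units.val_one]

/-- The multiple by the group order of the indicator of an element of order at most two. -/
theorem isGen_card_point {x : V} (hx : x * x = 1) : IsGeneralizedCharacter V
    (fun y : V => if y = x then (Fintype.card V : ℂ) else 0) := by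
  convert isGen_sum_int (V := V) (fun lam => if (lam x : ℂ) = 1 then 1 else -1) using 2 with y
  have h : ∀ lam : V →* ℂˣ,
      (((if (lam x : ℂ) = 1 then 1 else -1 : ℤ)) : ℂ) * (lam y : ℂ) = (lam (x * y) : ℂ) := by
    intro lam
    rw [map_mul, Units.val_mul]
    rcases lam_involution lam hx with h | h
    · rw [if_pos h, h]; simp
    · rw [if_neg (by rw [h]; norm_num), h]; simp
  rw [Finset.sum_congr rfl fun lam _ => h lam, BlockAbelianSylow86.sum_dual]
  refine if_congr ⟨fun h => by rw [h, hx], fun h => ?_⟩ rfl rfl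
  rw [← mul_left_cancel (a := x) (h.trans hx.symm)]

theorem card_dual_two (h4 : (Finset.univ.filter fun x : V => x * x = 1).card = 4) :
    (Finset.univ.filter fun lam : V →* ℂˣ => lam * lam = 1).card = 4 := by
  obtain ⟨φ⟩ := CommGroup.monoidHom_mulEquiv_of_hasEnoughRootsOfUnity V ℂ
  rw [← h4]
  refine Finset.card_bij (fun lam _ => φ lam) (fun lam hlam => ?_) (fun a _ b _ h => φ.injective h)
    (fun x hx => ⟨φ.symm x, ?_, φ.apply_symm_apply x⟩)
  · exact Finset.mem_filter.2 ⟨Finset.mem_univ _, by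
      rw [← map_mul, (Finset.mem_filter.1 hlam).2, map_one]⟩
  · exact Finset.mem_filter.2 ⟨Finset.mem_univ _, by
      rw [← map_mul, (Finset.mem_filter.1 hx).2, map_one]⟩

/-- The sum of the linear characters of order at most two. -/
theorem sum_two (m : ℕ) (hm : 1 ≤ m) (h4 : (Finset.univ.filter fun x : V => x * x = 1).card = 4)
    (hexp : ∀ x : V, x ^ 2 ^ m = 1) (hsq : ∀ x : V, x ^ 2 ^ (m - 1) = 1 → ∃ w, w * w = x) (y : V) :
    ∑ lam ∈ Finset.univ.filter (fun lam : V →* ℂˣ => lam * lam = 1), (lam y : ℂ) =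
      if ∃ w, w * w = y then 4 else 0 := by
  by_cases hy : ∃ w, w * w = y
  · obtain ⟨w, rfl⟩ := hy
    rw [if_pos ⟨w, rfl⟩, Finset.sum_eq_card_nsmul (b := (1 : ℂ)), card_dual_two h4]
    · simp
    · intro lam hlam
      rw [map_mul, ← MonoidHom.mul_apply, (Finset.mem_filter.1 hlam).2]
      simp
  · rw [if_neg hy]
    obtain ⟨μ, hμ⟩ := CommGroup.exists_apply_ne_one_of_hasEnoughRootsOfUnity V ℂ
      (fun h : y ^ 2 ^ (m - 1) = 1 => hy (hsq y h))
    have hμ2 : μ ^ 2 ^ (m - 1) * μ ^ 2 ^ (m - 1) = 1 := by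
      ext v
      rw [MonoidHom.mul_apply, MonoidHom.pow_apply, ← pow_add, ← two_mul, ← pow_succ',
        Nat.sub_add_cancel hm, ← map_pow, hexp, map_one]
      rfl
    set T := Finset.univ.filter (fun lam : V →* ℂˣ => lam * lam = 1)
    have h : ((μ ^ 2 ^ (m - 1)) y : ℂ) * ∑ lam ∈ T, (lam y : ℂ) = ∑ lam ∈ T, (lam y : ℂ) := by
      rw [Finset.mul_sum]
      refine Finset.sum_equiv (Equiv.mulLeft (μ ^ 2 ^ (m - 1))) (fun lam => ?_) fun lam _ => by simp
      simp only [T, Finset.mem_filter, Finset.mem_univ, true_and, Equiv.coe_mulLeft]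
      rw [mul_mul_mul_comm (μ ^ 2 ^ (m - 1)) lam, hμ2, one_mul]
    have h2 : (((μ ^ 2 ^ (m - 1)) y : ℂ) - 1) * ∑ lam ∈ T, (lam y : ℂ) = 0 := by
      rw [sub_mul, h, one_mul, sub_self]
    refine (mul_eq_zero.1 h2).resolve_left fun h0 => hμ ?_
    rw [map_pow, ← MonoidHom.pow_apply]
    exact Units.ext (sub_eq_zero.1 h0)

/-- The multiple of the indicator of the elements of order at most two. -/
theorem isGen_card_two (h4 : (Finset.univ.filter fun x : V => x * x = 1).card = 4) :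
    IsGeneralizedCharacter V
      (fun y : V => if y * y = 1 then (Fintype.card V : ℂ) / 4 else 0) := by
  set T := Finset.univ.filter (fun x : V => x * x = 1) with hT
  convert isGen_sum_int (V := V) (fun lam => if ∀ x ∈ T, lam x = 1 then 1 else 0) using 2 with y
  have hcoef : ∀ lam : V →* ℂˣ, ∑ x ∈ T, (lam x : ℂ) =
      4 * (((if ∀ x ∈ T, lam x = 1 then 1 else 0 : ℤ)) : ℂ) := by
    intro lam
    split_ifs with h
    · rw [Finset.sum_eq_card_nsmul (b := (1 : ℂ)) fun x hx => by rw [h x hx, Units.val_one], h4]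
      simp
    · push Not at h
      obtain ⟨a, ha, hne⟩ := h
      have ha2 := (Finset.mem_filter.1 ha).2
      have h1 : (lam a : ℂ) * ∑ x ∈ T, (lam x : ℂ) = ∑ x ∈ T, (lam x : ℂ) := by
        rw [Finset.mul_sum]
        refine Finset.sum_equiv (Equiv.mulLeft a) (fun x => ?_) fun x _ => by simp
        simp only [T, Finset.mem_filter, Finset.mem_univ, true_and, Equiv.coe_mulLeft]
        rw [mul_mul_mul_comm, ha2, one_mul]
      have h2 : ((lam a : ℂ) - 1) * ∑ x ∈ T, (lam x : ℂ) = 0 := by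
        rw [sub_mul, h1, one_mul, sub_self]
      simp [(mul_eq_zero.1 h2).resolve_left fun h0 => hne (Units.ext (sub_eq_zero.1 h0))]
  have hsum : ∑ lam : V →* ℂˣ, (∑ x ∈ T, (lam x : ℂ)) * (lam y : ℂ) =
      if y * y = 1 then (Fintype.card V : ℂ) else 0 := by
    simp only [Finset.sum_mul]
    rw [Finset.sum_comm, Finset.sum_congr rfl fun x hx => by
      rw [Finset.sum_congr rfl fun lam _ => show (lam x : ℂ) * (lam y : ℂ) = (lam (x * y) : ℂ) by
        rw [map_mul, Units.val_mul], BlockAbelianSylow86.sum_dual],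
      Finset.sum_congr rfl fun x hx => if_congr (show x * y = 1 ↔ y = x from
        ⟨fun h => (mul_left_cancel (h.trans (Finset.mem_filter.1 hx).2.symm)), fun h => by
          rw [h, (Finset.mem_filter.1 hx).2]⟩) rfl rfl, Finset.sum_ite_eq]
    simp [T]
  simp only [hcoef, mul_assoc, ← Finset.mul_sum] at hsum
  split_ifs at hsum ⊢ with hy
  · rw [← hsum]; ring
  · linear_combination (1 / 4 : ℂ) * hsum.symm

end Abelian

/-! ### The block -/

variable {G : Type*} [Group G] [Fintype G] {M : Ideal AlgInt} {B : Set (IrrCharacter G)}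
  {P : Subgroup G} {c : Set (IrrCharacter (Cen P))}

/-- The setting: an inertial group of order three acting freely. -/
structure Data (M : Ideal AlgInt) (B : Set (IrrCharacter G)) (P : Subgroup G)
    (c : Set (IrrCharacter (Cen P))) (m : ℕ) : Prop where
  hM : IsPModular 2 M
  hmax : IsMaximalBrauerPair 2 M B P c
  hab : ∀ x ∈ P, ∀ y ∈ P, x * y = y * x
  hm : 2 ≤ m
  cardP : Nat.card P = 4 ^ m
  four : (Finset.univ.filter fun x : P => x * x = 1).card = 4
  expo : ∀ x : P, x ^ 2 ^ m = 1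
  square : ∀ x : P, x ^ 2 ^ (m - 1) = 1 → ∃ w, w * w = x
  three : Nat.card (act c).range = 3
  free : ∀ γ ∈ (act c).range, ∀ x : P, x ≠ 1 → γ x = x → γ = 1

theorem ker_act : (act c).ker = (Cen P).subgroupOf (stab (⟨P, c⟩ : BrauerPairIdx G)) := by
  ext y
  rw [MonoidHom.mem_ker, Subgroup.mem_subgroupOf, Subgroup.mem_centralizer_iff]
  constructor
  · intro h x hx
    have h1 : ((act c y ⟨x, hx⟩ : P) : G) = x := by rw [h]; rfl
    rw [coe_act] at h1
    exact (mul_inv_eq_iff_eq_mul.1 h1).symm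
  · intro h
    refine MulEquiv.ext fun x => Subtype.ext ?_
    rw [coe_act, MulAut.one_apply, ← h x x.2, mul_inv_cancel_right]

theorem relIndex_eq :
    (Cen P).relIndex (stab (⟨P, c⟩ : BrauerPairIdx G)) = Nat.card (act c).range := by
  rw [Subgroup.relIndex, ← ker_act, Subgroup.index_ker]

/-- The orbit of an element under the inertial group. -/
noncomputable def orb (c : Set (IrrCharacter (Cen P))) (u : P) : Set P :=
  {x | ∃ γ ∈ (act c).range, γ u = x}

theorem self_mem_orb (u : P) : u ∈ orb c u := ⟨1, one_mem _, rfl⟩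

theorem inv_ind {S : Set P} (h : ∀ γ ∈ (act c).range, ∀ x, γ x ∈ S ↔ x ∈ S) : Inv c (ind S) :=
  fun y x => if_congr (h _ ⟨y, rfl⟩ x) rfl rfl

theorem inv_orb (u : P) : Inv c (ind (orb c u)) := by
  refine inv_ind fun γ hγ x => ⟨?_, ?_⟩
  · rintro ⟨δ, hδ, h⟩
    exact ⟨γ⁻¹ * δ, mul_mem (inv_mem hγ) hδ, by
      rw [MulAut.mul_apply, h, MulAut.inv_apply, MulEquiv.symm_apply_apply]⟩
  · rintro ⟨δ, hδ, rfl⟩
    exact ⟨γ * δ, mul_mem hγ hδ, rfl⟩

variable {m : ℕ}

theorem hfree (h : Data M B P c m) (g : G) (hg : g ∈ stab (⟨P, c⟩ : BrauerPairIdx G)) (x : G)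
    (hx : x ∈ P) (hx1 : x ≠ 1) (hfix : g * x * g⁻¹ = x) : g ∈ Cen P := by
  have h1 := h.free _ ⟨⟨g, hg⟩, rfl⟩ ⟨x, hx⟩ (fun e => hx1 (congrArg Subtype.val e))
    (Subtype.ext (by rw [coe_act]; exact hfix))
  rw [← MonoidHom.mem_ker, ker_act] at h1
  exact h1

theorem card_formula (h : Data M B P c m) :
    3 * Nat.card B = 3 * blockRank 2 B + (4 ^ m - 1) := by
  haveI : Fact (Nat.Prime 2) := ⟨Nat.prime_two⟩
  rw [← h.cardP]
  exact BlockAbelianCount81.card_eq_of_free h.hM h.hmax h.hab (hfree h)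
    (by rw [relIndex_eq, h.three])

theorem card_orb (h : Data M B P c m) {x : P} (hx : x ≠ 1) :
    (Finset.univ.filter fun u : P => x ∈ orb c u).card = 3 := by
  rw [← h.three, Nat.card_eq_fintype_card, ← Finset.card_univ]
  symm
  refine Finset.card_bij (fun γ _ => (γ : MulAut P)⁻¹ x) (fun γ _ => ?_) (fun γ _ δ _ e => ?_)
    (fun u hu => ?_)
  · exact Finset.mem_filter.2 ⟨Finset.mem_univ _, γ, γ.2,
      by rw [MulAut.inv_apply, MulEquiv.apply_symm_apply]⟩
  · refine Subtype.ext (mul_inv_eq_one.1 (h.free _ (mul_mem γ.2 (inv_mem δ.2)) x hx ?_))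
    rw [MulAut.mul_apply, ← e, MulAut.inv_apply, MulEquiv.apply_symm_apply]
  · obtain ⟨γ, hγ, rfl⟩ := (Finset.mem_filter.1 hu).2
    exact ⟨⟨γ, hγ⟩, Finset.mem_univ _, by rw [MulAut.inv_apply, MulEquiv.symm_apply_apply]⟩

theorem sum_orb (h : Data M B P c m) {S : Set P} (hS : ∀ γ ∈ (act c).range, ∀ x, γ x ∈ S ↔ x ∈ S)
    (h1 : (1 : P) ∉ S) {F : Finset P} (hF : ∀ u, u ∈ F ↔ u ∈ S) :
    ∑ u ∈ F, ind (orb c u) = (3 : ℂ) • ind S := by
  obtain rfl : F = Finset.univ.filter (fun u : P => u ∈ S) := Finset.ext fun u => by simp [hF]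
  funext x
  simp only [Finset.sum_apply, ind, Pi.smul_apply, smul_eq_mul]
  rw [Finset.sum_boole, Finset.filter_filter]
  by_cases hx : x ∈ S
  · rw [if_pos hx, mul_one]
    have : (Finset.univ.filter fun u : P => u ∈ S ∧ x ∈ orb c u) =
        Finset.univ.filter fun u : P => x ∈ orb c u := by
      refine Finset.filter_congr fun u _ => ⟨fun hu => hu.2, fun hu => ⟨?_, hu⟩⟩
      obtain ⟨γ, hγ, rfl⟩ := hu
      exact (hS γ hγ u).1 hx
    rw [this, card_orb h (fun e => h1 (e ▸ hx))]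
    norm_num
  · rw [if_neg hx, mul_zero, Finset.filter_eq_empty_iff.2 (fun u _ hu => hx ?_)]
    · simp
    · obtain ⟨hu, γ, hγ, rfl⟩ := hu
      exact (hS γ hγ u).2 hu

theorem ind_off_one : ind {x : P | x ≠ 1} = 1 - delta P := by
  funext x
  by_cases hx : x = 1 <;> simp [ind, delta, hx]

/-- Every orbit has trace one. -/
theorem trace_orb (h : Data M B P c m) {u : P} (hu : u ≠ 1) :
    ∑ χ ∈ members B, A 2 M B c (ind (orb c u)) χ χ = 1 := by
  haveI : Fact (Nat.Prime 2) := ⟨Nat.prime_two⟩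
  choose n hn using fun v : P => trace_ind h.hM h.hmax h.hab (inv_orb (c := c) v)
  have hpos : ∀ v : P, 1 ≤ n v := fun v => Nat.one_le_iff_ne_zero.2 fun e =>
    trace_ind_ne_zero h.hM h.hmax h.hab (inv_orb v) (self_mem_orb v) (by rw [hn, e, Nat.cast_zero])
  set S := Finset.univ.filter (fun v : P => v ∈ {x : P | x ≠ 1}) with hS
  have hsum : ((∑ v ∈ S, n v : ℕ) : ℂ) = 3 * ((Nat.card B : ℂ) - blockRank 2 B) := by
    rw [Nat.cast_sum, Finset.sum_congr rfl fun v _ => (hn v).symm, Finset.sum_comm,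
      ← trace_punctured h.hM h.hmax, Finset.mul_sum]
    refine Finset.sum_congr rfl fun χ _ => ?_
    rw [← A_sum, sum_orb h (S := {x : P | x ≠ 1}) (fun γ _ x => by simp) (by simp)
      (F := S) (fun v => by simp [hS]), A_smul, ind_off_one]
  have hcard : S.card = 4 ^ m - 1 := by
    rw [← h.cardP, hS, show (Finset.univ.filter fun v : P => v ∈ {x : P | x ≠ 1}) =
      Finset.univ.erase 1 from Finset.ext fun v => by simp,
      Finset.card_erase_of_mem (Finset.mem_univ _), Finset.card_univ, Nat.card_eq_fintype_card]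
  have hle : ∑ v ∈ S, n v = S.card := by
    have hf := card_formula h
    have : ((∑ v ∈ S, n v : ℕ) : ℂ) + ((3 * blockRank 2 B : ℕ) : ℂ) = ((3 * Nat.card B : ℕ) : ℂ) := by
      rw [hsum]; push_cast; ring
    rw [← Nat.cast_add, Nat.cast_inj] at this
    omega
  rw [Finset.card_eq_sum_ones] at hle
  have := (Finset.sum_eq_sum_iff_of_le fun v _ => hpos v).1 hle.symm u (by simp [hS, hu])
  rw [hn u, ← this, Nat.cast_one]

theorem exists_involution (h : Data M B P c m) : ∃ z : P, z * z = 1 ∧ z ≠ 1 := by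
  by_contra h0
  push Not at h0
  have h2 : (Finset.univ.filter fun x : P => x * x = 1) ⊆ {1} := fun x hx =>
    Finset.mem_singleton.2 (h0 x (Finset.mem_filter.1 hx).2)
  have := Finset.card_le_card h2
  rw [h.four] at this
  simp at this

theorem orb_involution (h : Data M B P c m) {z : P} (hz : z * z = 1) (hz1 : z ≠ 1) :
    orb c z = {x : P | x * x = 1 ∧ x ≠ 1} := by
  set T := (Finset.univ.filter fun x : P => x * x = 1).erase 1 with hT
  set O := Finset.univ.image (fun γ : (act c).range => (γ : MulAut P) z) with hO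
  have hsub : O ⊆ T := by
    intro x hx
    obtain ⟨γ, -, rfl⟩ := Finset.mem_image.1 hx
    refine Finset.mem_erase.2 ⟨fun e => hz1 ?_, Finset.mem_filter.2 ⟨Finset.mem_univ _, ?_⟩⟩
    · exact (γ : MulAut P).injective (e.trans (map_one _).symm)
    · rw [← map_mul, hz, map_one]
  have hcard : O.card = 3 := by
    rw [hO, Finset.card_image_of_injective _ (fun γ δ e => Subtype.ext ?_), Finset.card_univ,
      ← Nat.card_eq_fintype_card, h.three]
    refine (inv_mul_eq_one.1 (h.free _ (mul_mem (inv_mem γ.2) δ.2) z hz1 ?_))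
    rw [MulAut.mul_apply, ← e, MulAut.inv_apply, MulEquiv.symm_apply_apply]
  have hTc : T.card = 3 := by
    rw [hT, Finset.card_erase_of_mem (by simp), h.four]
  have heq := Finset.eq_of_subset_of_card_le hsub (by omega)
  ext x
  constructor
  · rintro ⟨γ, hγ, rfl⟩
    have := hsub (Finset.mem_image.2 ⟨⟨γ, hγ⟩, Finset.mem_univ _, rfl⟩)
    exact ⟨(Finset.mem_filter.1 (Finset.mem_of_mem_erase this)).2, Finset.ne_of_mem_erase this⟩
  · rintro ⟨hx, hx1⟩
    have : x ∈ O := heq ▸ Finset.mem_erase.2 ⟨hx1, Finset.mem_filter.2 ⟨Finset.mem_univ _, hx⟩⟩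
    obtain ⟨γ, -, rfl⟩ := Finset.mem_image.1 this
    exact ⟨γ, γ.2, rfl⟩

/-! ### Integral symmetric matrices -/

/-- A symmetric matrix with square `N` times itself and trace `N` has rank one. -/
theorem rank_one_of_trace {α : Type*} (s : Finset α) (q : α → α → ℤ) (N : ℤ)
    (hsym : ∀ x ∈ s, ∀ y ∈ s, q x y = q y x)
    (hmul : ∀ x ∈ s, ∀ y ∈ s, ∑ w ∈ s, q x w * q w y = N * q x y)
    (htr : ∑ x ∈ s, q x x = N) {x y z : α} (hx : x ∈ s) (hy : y ∈ s) (hz : z ∈ s) :
    q x y * q z z = q x z * q z y := by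
  have h1 : ∑ a ∈ s, ∑ b ∈ s, q a b * q a b = N * N := by
    calc ∑ a ∈ s, ∑ b ∈ s, q a b * q a b = ∑ a ∈ s, N * q a a := Finset.sum_congr rfl fun a ha => by
          rw [← hmul a ha a ha]
          exact Finset.sum_congr rfl fun b hb => by rw [hsym b hb a ha]
      _ = N * N := by rw [← Finset.mul_sum, htr]
  have h2 : ∑ a ∈ s, ∑ b ∈ s, q a b * (q a z * q z b) = N * (N * q z z) := by
    calc ∑ a ∈ s, ∑ b ∈ s, q a b * (q a z * q z b) = ∑ a ∈ s, q a z * (N * q a z) :=
          Finset.sum_congr rfl fun a ha => by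
            rw [← hmul a ha z hz, Finset.mul_sum]
            exact Finset.sum_congr rfl fun b hb => by rw [hsym z hz b hb]; ring
      _ = N * (N * q z z) := by
          rw [← hmul z hz z hz, Finset.mul_sum]
          exact Finset.sum_congr rfl fun a ha => by rw [hsym z hz a ha]; ring
  have h3 : ∑ a ∈ s, ∑ b ∈ s, (q a z * q z b) * (q a z * q z b) = N * q z z * (N * q z z) := by
    rw [← hmul z hz z hz, Finset.sum_mul_sum]
    exact Finset.sum_congr rfl fun a ha => Finset.sum_congr rfl fun b hb => by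
      rw [hsym z hz a ha, hsym b hb z hz]; ring
  have h0 : ∑ a ∈ s, ∑ b ∈ s,
      (q a b * q z z - q a z * q z b) * (q a b * q z z - q a z * q z b) = 0 := by
    have : ∀ a b : α, (q a b * q z z - q a z * q z b) * (q a b * q z z - q a z * q z b) =
        q z z * q z z * (q a b * q a b) - 2 * q z z * (q a b * (q a z * q z b)) +
          (q a z * q z b) * (q a z * q z b) := fun a b => by ring
    simp only [this, Finset.sum_add_distrib, Finset.sum_sub_distrib, ← Finset.mul_sum, h1, h2, h3]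
    ring
  have h4 := (Finset.sum_eq_zero_iff_of_nonneg fun b _ => mul_self_nonneg _).1
    ((Finset.sum_eq_zero_iff_of_nonneg fun a _ =>
      Finset.sum_nonneg fun b _ => mul_self_nonneg _).1 h0 x hx) y hy
  exact sub_eq_zero.1 (mul_self_eq_zero.1 h4)

theorem zmod_eight : ∀ a b : ZMod 8, a * b = 1 → a * a = 1 → a = b := by decide

theorem odd_sq_eight {x : ℤ} (hx : ¬ (2 : ℤ) ∣ x) : ((x * x : ℤ) : ZMod 8) = 1 := by
  obtain ⟨k, rfl⟩ : ∃ k, x = 2 * k + 1 := ⟨x / 2, by omega⟩
  have h : ∀ a : ZMod 8, (2 * a + 1) * (2 * a + 1) = 1 := by decide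
  push_cast
  exact h _

/-- An exponent inverting the `2`-elements and fixing the elements of odd order. -/
theorem exists_invExp (G : Type*) [Group G] [Finite G] : ∃ k, InvExp 2 G k := by
  set a := (Nat.card G).factorization 2 with ha
  set n := Nat.card G / 2 ^ a with hn
  have hsplit : 2 ^ a * n = Nat.card G := Nat.ordProj_mul_ordCompl_eq_self _ _
  have hn2 : ¬ 2 ∣ n := Nat.not_dvd_ordCompl Nat.prime_two Nat.card_pos.ne'
  have hcop : (2 ^ a).Coprime n := ((Nat.prime_two.coprime_iff_not_dvd).2 hn2).pow_left _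
  obtain ⟨k, hk1, hk2⟩ := Nat.chineseRemainder hcop (2 ^ a - 1) 1
  have hpos : 0 < 2 ^ a := pow_pos two_pos _
  have hk1' : k + 1 ≡ 0 [MOD 2 ^ a] := by
    have := hk1.add_right 1
    rw [Nat.sub_add_cancel hpos] at this
    exact this.trans (Nat.modEq_zero_iff_dvd.2 dvd_rfl)
  refine ⟨k, ⟨?_, fun u hu => ?_, fun s hs => ?_⟩⟩
  · rw [← hsplit]
    refine Nat.Coprime.mul_right ?_ ?_
    · rcases Nat.eq_zero_or_pos a with h0 | h0
      · rw [h0, pow_zero]; exact Nat.coprime_one_right _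
      · refine Nat.Coprime.pow_right _ ((Nat.prime_two.coprime_iff_not_dvd).2 fun h2 => ?_).symm
        have := (Nat.modEq_zero_iff_dvd.1 hk1')
        have h3 : 2 ∣ k + 1 := (dvd_pow_self 2 h0.ne').trans this
        omega
    · exact hk2.gcd_eq.trans (Nat.gcd_one_left n)
  · obtain ⟨j, hj⟩ := hu
    have hd : orderOf u ∣ k + 1 := by
      refine dvd_trans ?_ (Nat.modEq_zero_iff_dvd.1 hk1')
      rw [hj]
      exact Nat.pow_dvd_pow 2 ((Nat.prime_two.pow_dvd_iff_le_factorization Nat.card_pos.ne').1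
        (hj ▸ orderOf_dvd_natCard u))
    rw [eq_inv_iff_mul_eq_one, ← pow_succ]
    exact orderOf_dvd_iff_pow_eq_one.1 hd
  · have hd : orderOf s ∣ n := by
      have h1 : orderOf s ∣ 2 ^ a * n := hsplit.symm ▸ orderOf_dvd_natCard s
      exact Nat.Coprime.dvd_of_dvd_mul_left
        (((Nat.prime_two.coprime_iff_not_dvd).2 hs).pow_left _).symm h1
    calc s ^ k = s ^ 1 := pow_eq_pow_iff_modEq.2 (hk2.of_dvd hd)
      _ = s := pow_one s

/-! ### The inversion on the characters -/

theorem sum_twist {k : ℕ} (hM : IsPModular 2 M) (hB : IsPBlock M B) (hk : InvExp 2 G k)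
    (f : IrrCharacter G → ℂ) :
    ∑ χ ∈ members B, f (GaloisChar80.twist hk.coprime χ) = ∑ χ ∈ members B, f χ := by
  haveI : Fact (Nat.Prime 2) := ⟨Nat.prime_two⟩
  have hinj := GaloisChar80.twist_injective (G := G) hk.coprime
  have himg : (members B).image (GaloisChar80.twist hk.coprime) = members B := by
    refine Finset.eq_of_subset_of_card_le (fun χ hχ => ?_)
      (by rw [Finset.card_image_of_injective _ hinj])
    obtain ⟨φ, hφ, rfl⟩ := Finset.mem_image.1 hχ
    exact mem_members.2 (twist_mem hM hB hk (mem_members.1 hφ))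
  conv_rhs => rw [← himg, Finset.sum_image fun a _ b _ e => hinj e]

/-- An orbit not closed under inversion contributes nothing to the trace of the inversion. -/
theorem twist_trace_orb (h : Data M B P c m) {k : ℕ} (hk : InvExp 2 G k) {u : P}
    (hu : u * u ≠ 1) :
    ∑ χ ∈ members B, A 2 M B c (ind (orb c u)) χ (GaloisChar80.twist hk.coprime χ) = 0 := by
  haveI : Fact (Nat.Prime 2) := ⟨Nat.prime_two⟩
  have hM := h.hM
  have hB := h.hmax.1.2.1
  set σ := GaloisChar80.twist (G := G) hk.coprime with hσ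
  set J : P → ℂ := fun y => ind (orb c u) y⁻¹ with hJ
  have hzero : ind (orb c u) * J = 0 := by
    funext x
    simp only [hJ, ind, Pi.mul_apply, Pi.zero_apply]
    by_cases h1 : x ∈ orb c u
    · rw [if_pos h1, if_neg, mul_zero]
      intro h2
      obtain ⟨γ, hγ, rfl⟩ := h1
      obtain ⟨δ, hδ, h2⟩ := h2
      have hu1 : u ≠ 1 := fun e => hu (by rw [e, one_mul])
      set ε : MulAut P := γ⁻¹ * δ with hε
      have he : ε u = u⁻¹ := by
        rw [hε, MulAut.mul_apply, h2, MulAut.inv_apply, ← map_inv γ, MulEquiv.symm_apply_apply]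
      have hε2 : ε * ε = 1 := h.free _ (mul_mem (mul_mem (inv_mem hγ) hδ) (mul_mem (inv_mem hγ) hδ))
        u hu1 (by rw [MulAut.mul_apply, he, map_inv, he, inv_inv])
      have hε3 : ε ^ 3 = 1 := by
        have := pow_card_eq_one' (G := (act c).range) (x := ⟨ε, mul_mem (inv_mem hγ) hδ⟩)
        rw [h.three] at this
        exact congrArg Subtype.val this
      have hε1 : ε = 1 := by
        rw [pow_succ, pow_two, hε2, one_mul] at hε3
        exact hε3
      rw [hε1, MulAut.one_apply] at he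
      exact hu (mul_eq_one_iff_eq_inv.2 he)
    · rw [if_neg h1, zero_mul]
  have hA : ∀ φ : IrrCharacter G, φ ∈ B →
      ∑ χ ∈ members B, A 2 M B c (ind (orb c u)) φ (σ χ) * A 2 M B c (ind (orb c u)) χ φ = 0 := by
    intro φ hφ
    calc _ = ∑ χ ∈ members B, A 2 M B c (ind (orb c u)) φ (σ χ) * A 2 M B c J (σ χ) (σ φ) :=
          Finset.sum_congr rfl fun χ _ => by rw [hJ, hσ, A_twist hM hk (ind (orb c u)) χ φ]
      _ = ∑ χ ∈ members B, A 2 M B c (ind (orb c u)) φ χ * A 2 M B c J χ (σ φ) :=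
          sum_twist hM hB hk fun χ => A 2 M B c (ind (orb c u)) φ χ * A 2 M B c J χ (σ φ)
      _ = A 2 M B c (ind (orb c u) * J) φ (σ φ) :=
          A_mul hM h.hmax h.hab (inv_orb u) _ (twist_mem hM hB hk hφ)
      _ = 0 := by rw [hzero, ← zero_smul ℂ (0 : P → ℂ), A_smul, zero_mul]
  have hidem : ind (orb c u) * ind (orb c u) = ind (orb c u) := by rw [ind_mul, Set.inter_self]
  calc ∑ χ ∈ members B, A 2 M B c (ind (orb c u)) χ (σ χ)
      = ∑ χ ∈ members B, ∑ φ ∈ members B,
          A 2 M B c (ind (orb c u)) φ (σ χ) * A 2 M B c (ind (orb c u)) χ φ :=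
        Finset.sum_congr rfl fun χ hχ => by
          rw [← hidem, ← A_mul hM h.hmax h.hab (inv_orb u) _ (twist_mem hM hB hk (mem_members.1 hχ))]
          simp only [hidem, mul_comm]
          rfl
    _ = 0 := by
        rw [Finset.sum_comm]
        exact Finset.sum_eq_zero fun φ hφ => hA φ (mem_members.1 hφ)

/-- The traces of the inversion: the regular classes, the involutions and the other orbits. -/
theorem card_fixed (h : Data M B P c m) {k : ℕ} (hk : InvExp 2 G k) :
    (((members B).filter fun χ => GaloisChar80.twist hk.coprime χ = χ).card : ℂ) =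
      (blockRank 2 B : ℂ) + ∑ χ ∈ members B,
        A 2 M B c (ind {x : P | x * x = 1 ∧ x ≠ 1}) χ (GaloisChar80.twist hk.coprime χ) := by
  haveI : Fact (Nat.Prime 2) := ⟨Nat.prime_two⟩
  have hM := h.hM
  set σ := GaloisChar80.twist (G := G) hk.coprime with hσ
  set S : Set P := {x : P | x * x ≠ 1} with hS
  have hdec : (1 : P → ℂ) = delta P + (ind {x : P | x * x = 1 ∧ x ≠ 1} + ind S) := by
    funext x
    by_cases hx : x = 1
    · simp [delta, ind, hS, hx]
    · by_cases h2 : x * x = 1 <;> simp [delta, ind, hS, hx, h2]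
  have hd : ∑ χ ∈ members B, A 2 M B c (delta P) χ (σ χ) = (blockRank 2 B : ℂ) := by
    have h1 : ∀ χ ∈ members B, A 2 M B c (delta P) χ (σ χ) = A 2 M B c (delta P) χ χ := by
      intro χ hχ
      rw [A_delta hM h.hmax (mem_members.1 hχ), A_delta hM h.hmax (mem_members.1 hχ)]
      refine congrArg _ ?_
      simp only [BlockContrib.pair, BlockContrib.regSum_eq]
      refine Finset.sum_congr rfl fun g _ => ?_
      split_ifs with hg
      · rfl
      · rw [hσ, GaloisChar80.twist_apply, hk.fix g hg]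
    rw [Finset.sum_congr rfl h1]
    have h2 := trace_punctured hM h.hmax
    rw [Finset.sum_congr rfl fun χ hχ => by
      rw [A_sub, A_one hM h.hmax (mem_members.1 hχ), if_pos rfl], Finset.sum_sub_distrib,
      Finset.sum_const, ← card_members, nsmul_eq_mul, mul_one] at h2
    exact sub_right_inj.1 h2
  have hs : ∑ χ ∈ members B, A 2 M B c (ind S) χ (σ χ) = 0 := by
    have hinv : ∀ γ ∈ (act c).range, ∀ x, γ x ∈ S ↔ x ∈ S := fun γ _ x => by
      simp only [hS, Set.mem_ofPred_eq, ← map_mul, ne_eq, MulEquiv.map_eq_one_iff]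
    have h3 : (3 : ℂ) * ∑ χ ∈ members B, A 2 M B c (ind S) χ (σ χ) = 0 := by
      rw [Finset.mul_sum, Finset.sum_congr rfl fun χ _ => by
        rw [← A_smul, ← sum_orb h hinv (by simp [hS]) (F := Finset.univ.filter fun u : P => u * u ≠ 1)
          (fun u => by simp [hS]), A_sum], Finset.sum_comm]
      exact Finset.sum_eq_zero fun u hu => twist_trace_orb h hk (Finset.mem_filter.1 hu).2
    exact (mul_eq_zero.1 h3).resolve_left (by norm_num)
  have hz : ∑ χ ∈ members B, A 2 M B c (ind {x : P | x * x = 1 ∧ x ≠ 1}) χ (σ χ) =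
      ∑ χ ∈ members B, (A 2 M B c (ind {x : P | x * x = 1 ∧ x ≠ 1}) χ (σ χ) +
        A 2 M B c (ind S) χ (σ χ)) := by rw [Finset.sum_add_distrib, hs, add_zero]
  rw [← hd, hz, Finset.card_eq_sum_ones, Nat.cast_sum, Finset.sum_filter,
    ← Finset.sum_add_distrib]
  refine Finset.sum_congr rfl fun χ hχ => ?_
  rw [← A_add, ← A_add, ← hdec, A_one hM h.hmax (mem_members.1 hχ)]
  by_cases e : σ χ = χ
  · rw [if_pos e, if_pos e.symm, Nat.cast_one]
  · rw [if_neg e, if_neg fun e' => e e'.symm]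

/-! ### Parity -/

theorem rankOne_major (h : Data M B P c m) :
    ∀ x ∈ (BlockMajorCount31.pEls (G := G) 2).erase 1, ∀ b ∈ BlockCyclicRank81.subs M B x,
      blockDefect 2 b = blockDefect 2 B ∧ blockRank 2 b = 1 := by
  haveI : Fact (Nat.Prime 2) := ⟨Nat.prime_two⟩
  intro x hx b hb
  have hM := h.hM
  have hmax := h.hmax
  obtain ⟨hx1, hxk⟩ := Finset.mem_erase.1 hx
  obtain ⟨j, hj⟩ := (Finset.mem_filter.1 hxk).2
  have hpair : IsBrauerPairOf 2 M B (Subgroup.zpowers x) b :=
    isBrauerPairOf_of_induced hM (BrauerPairs81Nilpotent.isPGroup_zpowers hj)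
      (Finset.mem_filter.1 hb).2
  obtain ⟨g, hg'⟩ := exists_conj_subpairLE hM hmax hpair
  have hg : PLE 2 M (cP g (⟨Subgroup.zpowers x, b⟩ : BrauerPairIdx G)) ⟨P, c⟩ := hg'
  have hgx : g * x * g⁻¹ ∈ P := subgroup_le_of_subpairLE hg ⟨x, Subgroup.mem_zpowers x, rfl⟩
  have hback : PLE 2 M (⟨Subgroup.zpowers x, b⟩ : BrauerPairIdx G) (cP g⁻¹ ⟨P, c⟩) := by
    have h := ple_cP g⁻¹ hg
    rwa [cP_inv_cP] at h
  have hxP : x ∈ cjS g⁻¹ P := mem_cjS.2 (by simpa using hgx)
  have habx : ∀ a ∈ cjS g⁻¹ P, ∀ a' ∈ cjS g⁻¹ P, a * a' = a' * a := by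
    rintro _ ⟨a, ha, rfl⟩ _ ⟨a', ha', rfl⟩
    rw [← map_mul, ← map_mul, h.hab a ha a' ha']
  have hmax' : IsMaximalBrauerPair 2 M B (cjS g⁻¹ P) (conjBlock P g⁻¹ c) := by
    refine ⟨isBrauerPairOf_conj g⁻¹ hmax.1, fun R r hR hle => ?_⟩
    refine (Subgroup.eq_of_le_of_card_ge (subgroup_le_of_subpairLE hle) ?_).symm
    rw [card_cjS]
    exact BlockTheoryDefect.card_le_of_conjLe (conjLe_defect_of_pairOf hM hR
      (isDefectGroup_of_maximal hM hmax))
  refine ⟨BlockAbelian81.defect_cen hM hmax' habx (Subgroup.zpowers_le.2 hxP) hback,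
    BlockAbelian81.rank_cen_eq_one hM hmax' habx hxP hback fun s hs hc => ?_⟩
  rw [show (⟨cjS g⁻¹ P, conjBlock P g⁻¹ c⟩ : BrauerPairIdx G) = cP g⁻¹ ⟨P, c⟩ from rfl,
    stab_cP, mem_cjS, inv_inv] at hs
  rw [cen_cjS, mem_cjS, inv_inv]
  refine hfree h _ hs _ hgx (fun e => hx1 (conj_eq_one_iff.1 e)) ?_
  rw [show g * s * g⁻¹ * (g * x * g⁻¹) * (g * s * g⁻¹)⁻¹ = g * (s * x) * s⁻¹ * g⁻¹ by group,
    ← hc.eq]
  group

theorem height_zero (h : Data M B P c m) {χ : IrrCharacter G} (hχ : χ ∈ B) :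
    blockHeight 2 B (χ : G → ℂ) = 0 := by
  haveI : Fact (Nat.Prime 2) := ⟨Nat.prime_two⟩
  have hM := h.hM
  have h1 := BlockRankOneHeight9.pow_height_sq_mul_le hM h.hmax.1.2.1 (rankOne_major h) hχ
  rw [← card_defectGroup hM h.hmax.1.2.1 (isDefectGroup_of_maximal hM h.hmax), h.cardP] at h1
  have h2 := card_formula h
  have h16 : 4 ^ 2 ≤ 4 ^ m := Nat.pow_le_pow_right (by norm_num) h.hm
  by_contra h0
  have h4 : 2 ^ 2 ≤ 2 ^ (2 * blockHeight 2 B (χ : G → ℂ)) :=
    Nat.pow_le_pow_right two_pos (by omega)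
  have h5 : blockRank 2 B ≤ Nat.card B := by omega
  have h6 : 2 ^ (2 * blockHeight 2 B (χ : G → ℂ)) * (Nat.card B - blockRank 2 B) ≤ 4 ^ m := by
    rw [Nat.mul_sub]; omega
  have h7 := (Nat.mul_le_mul_right (Nat.card B - blockRank 2 B) h4).trans h6
  omega

/-- The scaled pairing on the regular classes is the contribution. -/
theorem A_delta_contrib (h : Data M B P c m) {χ ψ : IrrCharacter G} (hχ : χ ∈ B) :
    A 2 M B c ((Nat.card P : ℂ) • delta P) χ ψ = (BlockContrib.contrib 2 B ψ χ : ℂ) := by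
  haveI : Fact (Nat.Prime 2) := ⟨Nat.prime_two⟩
  have hM := h.hM
  have hB := h.hmax.1.2.1
  rw [A_smul, A_delta hM h.hmax hχ, BlockContrib.pair_eq_contrib hM.1 ψ hχ]
  have hG : (Nat.card G : ℂ) = (Nat.card P : ℂ) *
      ((BlockContrib.cofactor 2 G : ℂ) * ((2 : ℕ) : ℂ) ^ BlockContrib.minExp 2 B) := by
    rw [card_defectGroup hM hB (isDefectGroup_of_maximal hM h.hmax)]
    conv_lhs => rw [← BlockContrib.pow_mul_cofactor (G := G) 2,
      ← BlockContrib.minExp_add_defect hM hB, pow_add]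
    push_cast
    ring
  have hne : (Nat.card G : ℂ) ≠ 0 := Nat.cast_ne_zero.2 Nat.card_pos.ne'
  rw [hG] at hne ⊢
  have h1 := left_ne_zero_of_mul hne
  have h2 := right_ne_zero_of_mul hne
  have h3 := left_ne_zero_of_mul h2
  have h4 := right_ne_zero_of_mul h2
  field_simp

set_option maxHeartbeats 3200000 in
/-- The number of Brauer characters is three. -/
theorem rank_eq_three (h : Data M B P c m) :
    blockRank 2 B = 3 ∧ 3 * Nat.card B = 4 ^ m + 8 := by
  haveI : Fact (Nat.Prime 2) := ⟨Nat.prime_two⟩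
  have hM := h.hM
  have hB := h.hmax.1.2.1
  have hmax := h.hmax
  have hab := h.hab
  letI : CommGroup P := { (inferInstance : Group P) with
    mul_comm := fun x y => Subtype.ext (hab x x.2 y y.2) }
  haveI : Fintype (P →* ℂˣ) := Fintype.ofFinite _
  obtain ⟨k, hk⟩ := exists_invExp G
  set σ := GaloisChar80.twist (G := G) hk.coprime with hσ
  have hcardC : (Fintype.card P : ℂ) = (Nat.card P : ℂ) := by rw [Nat.card_eq_fintype_card]
  set N : ℤ := (Nat.card P : ℤ) with hN
  have hN8 : (N : ZMod 8) = 0 := by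
    rw [hN, h.cardP, Int.cast_natCast, ZMod.natCast_eq_zero_iff]
    exact dvd_trans (by norm_num) (Nat.pow_dvd_pow 4 h.hm)
  -- the involutions
  set Z : Set P := {x : P | x * x = 1 ∧ x ≠ 1} with hZ
  have hZinv : ∀ γ ∈ (act c).range, ∀ x, γ x ∈ Z ↔ x ∈ Z := fun γ _ x => by
    simp only [hZ, Set.mem_ofPred_eq, ← map_mul, ne_eq, MulEquiv.map_eq_one_iff]
  obtain ⟨z, hz, hz1⟩ := exists_involution h
  have hEtr : ∑ χ ∈ members B, A 2 M B c (ind Z) χ χ = 1 := by
    rw [hZ, ← orb_involution h hz hz1]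
    exact trace_orb h hz1
  set qf : P → ℂ := (Nat.card P : ℂ) • ind Z with hqf
  have hqfInv : Inv c qf := (inv_ind hZinv).smul _
  have hqfGen : IsGeneralizedCharacter P qf := by
    have e : qf = ∑ x ∈ Finset.univ.filter (fun x : P => x ∈ Z),
        fun y : P => if y = x then (Fintype.card P : ℂ) else 0 := by
      funext y
      rw [Finset.sum_apply, Finset.sum_ite_eq]
      simp [hqf, ind, hcardC]
    rw [e]
    exact isGeneralizedCharacter_sum _ _ fun x hx => by
      convert isGen_card_point (V := P) (Finset.mem_filter.1 hx).2.1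
      rfl
  choose q hq using fun χ : {χ // χ ∈ B} => exists_int hM hmax hab hqfInv hqfGen χ.2
  set Q : IrrCharacter G → IrrCharacter G → ℤ :=
    fun χ ψ => if hχ : χ ∈ B then q ⟨χ, hχ⟩ ψ else 0 with hQ
  have hQA : ∀ χ ∈ B, ∀ ψ, (Q χ ψ : ℂ) = A 2 M B c qf χ ψ := fun χ hχ ψ => by
    simp only [hQ, dif_pos hχ]
    exact (hq ⟨χ, hχ⟩ ψ).symm
  have hQsym : ∀ χ ∈ members B, ∀ ψ ∈ members B, Q χ ψ = Q ψ χ := by
    intro χ hχ ψ hψ
    have h1 := hQA χ (mem_members.1 hχ) ψ
    have h2 := A_conj hM hmax qf (mem_members.1 hψ) (mem_members.1 hχ)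
    rw [← hQA ψ (mem_members.1 hψ) χ, map_intCast,
      show (fun x => conj (qf x)) = qf from funext fun x => by
        simp only [hqf, Pi.smul_apply, smul_eq_mul, map_mul, map_natCast]
        rw [congrFun (conj_ind Z) x], ← h1] at h2
    exact_mod_cast h2.symm
  have hQmul : ∀ χ ∈ members B, ∀ ψ ∈ members B, ∑ w ∈ members B, Q χ w * Q w ψ = N * Q χ ψ := by
    intro χ hχ ψ hψ
    have h1 := A_mul hM hmax hab hqfInv qf (χ := χ) (mem_members.1 hψ)
    rw [show qf * qf = (Nat.card P : ℂ) • qf by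
      rw [hqf, smul_mul_smul_comm, ind_mul, Set.inter_self, smul_smul], A_smul,
      ← hQA χ (mem_members.1 hχ) ψ, Finset.sum_congr rfl fun w hw => by
        rw [← hQA χ (mem_members.1 hχ) w, ← hQA w (mem_members.1 hw) ψ]] at h1
    rw [hN]
    exact_mod_cast h1
  have hQtr : ∑ χ ∈ members B, Q χ χ = N := by
    have : ((∑ χ ∈ members B, Q χ χ : ℤ) : ℂ) = ((N : ℤ) : ℂ) := by
      rw [Int.cast_sum, Finset.sum_congr rfl fun χ hχ => by
        rw [hQA χ (mem_members.1 hχ) χ, hqf, A_smul], ← Finset.mul_sum, hEtr, mul_one, hN,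
        Int.cast_natCast]
    exact_mod_cast this
  obtain ⟨χ₀, hχ₀, h0⟩ := BlockContrib.exists_height_zero hM hB
  -- the involution entries are odd
  set gT : P → ℂ := fun y => if y * y = 1 then (Fintype.card P : ℂ) / 4 else 0 with hgT
  have hgTinv : Inv c gT := fun y x => by
    simp only [hgT, ← map_mul, MulEquiv.map_eq_one_iff]
  have hsplit : qf + (Nat.card P : ℂ) • delta P = (4 : ℂ) • gT := by
    funext y
    simp only [hqf, hgT, delta, ind, hZ, Pi.add_apply, Pi.smul_apply, smul_eq_mul,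
      Set.mem_ofPred_eq, hcardC]
    by_cases hy : y = 1
    · simp [hy]; ring
    · by_cases h2 : y * y = 1 <;> simp [hy, h2]
      ring
  have hQdelta : ∀ χ ∈ B, ∀ ψ,
      (2 : ℤ) ∣ Q χ ψ + BlockContrib.contrib 2 B ψ χ := by
    intro χ hχ ψ
    obtain ⟨a, ha⟩ := exists_int hM hmax hab hgTinv
      (by convert isGen_card_two (V := P) (by convert h.four); rfl) hχ ψ
    refine ⟨2 * a, ?_⟩
    have := A_add (p := 2) (M := M) (B := B) (c := c) qf ((Nat.card P : ℂ) • delta P) χ ψ
    rw [hsplit, A_smul, ha, A_delta_contrib h hχ, ← hQA χ hχ ψ] at this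
    have h2 : 4 * a = Q χ ψ + BlockContrib.contrib 2 B ψ χ := by exact_mod_cast this
    rw [← h2]; ring
  have hQ0 : ∀ χ ∈ members B, ¬ (2 : ℤ) ∣ Q χ χ₀ := by
    intro χ hχ hd
    have h1 : (2 : ℤ) ∣ BlockContrib.contrib 2 B χ₀ χ :=
      (dvd_add_right hd).1 (hQdelta χ (mem_members.1 hχ) χ₀)
    have h2 := BlockContrib.contrib_not_dvd hM hB hχ₀ h0 (mem_members.1 hχ)
    rw [height_zero h (mem_members.1 hχ), zero_add, pow_one] at h2
    exact h2 h1
  have hχ₀' : χ₀ ∈ members B := mem_members.2 hχ₀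
  have hfac := fun {x y z : IrrCharacter G} (hx : x ∈ members B) (hy : y ∈ members B)
      (hz : z ∈ members B) => rank_one_of_trace (members B) Q N hQsym hQmul hQtr hx hy hz
  have hQodd : ∀ χ ∈ members B, ∀ ψ ∈ members B, ¬ (2 : ℤ) ∣ Q χ ψ := by
    intro χ hχ ψ hψ hd
    have h1 := hfac hχ hψ hχ₀'
    rcases (Int.prime_two.dvd_mul.1 (h1 ▸ dvd_mul_of_dvd_left hd _)) with h2 | h2
    · exact hQ0 χ hχ h2
    · exact hQ0 ψ hψ (hQsym χ₀ hχ₀' ψ hψ ▸ h2)
  have hdiag : ∀ χ ∈ members B, (Q χ χ : ZMod 8) = (Q χ₀ χ₀ : ZMod 8) := by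
    intro χ hχ
    refine zmod_eight _ _ ?_ ?_
    · rw [← Int.cast_mul, hfac hχ hχ hχ₀', ← hQsym χ hχ χ₀ hχ₀']
      exact odd_sq_eight (hQ0 χ hχ)
    · rw [← Int.cast_mul]
      exact odd_sq_eight (hQodd χ hχ χ hχ)
  have hk8 : (Nat.card B : ZMod 8) = 0 := by
    have h1 : ((∑ χ ∈ members B, Q χ χ : ℤ) : ZMod 8) = 0 := by rw [hQtr, hN8]
    rw [Int.cast_sum, Finset.sum_congr rfl hdiag, Finset.sum_const, ← card_members,
      nsmul_eq_mul] at h1
    have h2 := odd_sq_eight (hQodd χ₀ hχ₀' χ₀ hχ₀')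
    push_cast at h2
    calc (Nat.card B : ZMod 8) = (Nat.card B : ZMod 8) * (Q χ₀ χ₀ : ZMod 8) * Q χ₀ χ₀ := by
          rw [mul_assoc, h2, mul_one]
      _ = 0 := by rw [h1, zero_mul]
  -- the fixed characters
  set R := (members B).filter fun χ => σ χ = χ with hR
  have hRmem : ∀ {χ}, χ ∈ R → χ ∈ members B ∧ σ χ = χ := by
    intro χ hx
    simpa only [hR, Finset.mem_filter] using hx
  have hRQ : (N : ℂ) * (R.card : ℂ) = (N : ℂ) * (blockRank 2 B : ℂ) +
      ((∑ χ ∈ members B, Q χ (σ χ) : ℤ) : ℂ) := by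
    rw [hR, hσ, card_fixed h hk, mul_add, Finset.mul_sum, Int.cast_sum]
    congr 1
    refine Finset.sum_congr rfl fun χ hχ => ?_
    rw [hQA χ (mem_members.1 hχ), hqf, A_smul, hN, Int.cast_natCast]
  have hQtw : ∀ χ ∈ members B, ∀ ψ ∈ members B, Q (σ χ) (σ ψ) = Q χ ψ := by
    intro χ hχ ψ hψ
    have h1 := A_twist (c := c) (B := B) hM hk qf χ ψ
    rw [show (fun y => qf y⁻¹) = qf from funext fun y => by
      simp [hqf, hZ, ind, ← mul_inv_rev],
      ← hσ, ← hQA _ (twist_mem hM hB hk (mem_members.1 hχ)), ← hQA χ (mem_members.1 hχ)] at h1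
    exact_mod_cast h1
  have hNpos : 0 < N := by rw [hN]; exact_mod_cast Nat.card_pos
  have hRcard : R.card = blockRank 2 B + 1 ∨ blockRank 2 B ≤ 1 := by
    rcases R.eq_empty_or_nonempty with he | ⟨r, hr⟩
    · right
      rw [he, Finset.card_empty, Nat.cast_zero, mul_zero] at hRQ
      have h1 : (0 : ℤ) = N * (blockRank 2 B : ℤ) + ∑ χ ∈ members B, Q χ (σ χ) := by
        exact_mod_cast hRQ
      have h2 : -N ≤ ∑ χ ∈ members B, Q χ (σ χ) := by
        rw [← hQtr, ← Finset.sum_neg_distrib]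
        refine Finset.sum_le_sum fun χ hχ => ?_
        have hσχ : σ χ ∈ members B := mem_members.2 (twist_mem hM hB hk (mem_members.1 hχ))
        have h3 := hfac hχ hχ hσχ
        rw [hQsym (σ χ) hσχ χ hχ, hQtw χ hχ χ hχ] at h3
        have h4 : 0 ≤ Q χ χ := by
          have h5 : 0 ≤ N * Q χ χ := by
            rw [← hQmul χ hχ χ hχ]
            exact Finset.sum_nonneg fun w hw => by
              rw [hQsym w hw χ hχ]; exact mul_self_nonneg _
          exact nonneg_of_mul_nonneg_right h5 hNpos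
        nlinarith [mul_self_nonneg (Q χ χ + Q χ (σ χ))]
      have h3 : (blockRank 2 B : ℤ) ≤ 1 := by nlinarith
      exact_mod_cast h3
    · left
      obtain ⟨hrB, hrfix⟩ := hRmem hr
      have hne : Q r r ≠ 0 := fun e => hQodd r hrB r hrB (e ▸ dvd_zero 2)
      have h1 : (∑ χ ∈ members B, Q χ (σ χ)) * Q r r = N * Q r r := by
        rw [Finset.sum_mul, ← hQmul r hrB r hrB]
        refine Finset.sum_congr rfl fun χ hχ => ?_
        have hσχ : σ χ ∈ members B := mem_members.2 (twist_mem hM hB hk (mem_members.1 hχ))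
        rw [hfac hχ hσχ hrB]
        nth_rewrite 2 [← hrfix]
        rw [hQtw r hrB χ hχ, hQsym χ hχ r hrB]
      rw [mul_right_cancel₀ hne h1] at hRQ
      have h2 : N * (R.card : ℤ) = N * ((blockRank 2 B : ℤ) + 1) := by
        rw [mul_add, mul_one]; exact_mod_cast hRQ
      exact_mod_cast mul_left_cancel₀ hNpos.ne' h2
  -- the top orbits
  set g1 : P → ℂ := fun y =>
    ∑ lam ∈ Finset.univ.filter (fun lam : P →* ℂˣ => lam * lam = 1), (lam y : ℂ) with hg1
  have hg1v : g1 = fun y : P => if ∃ w, w * w = y then (4 : ℂ) else 0 :=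
    funext fun y => by
      convert sum_two (V := P) m (le_trans one_le_two h.hm) (by convert h.four) h.expo h.square y
  have hg1inv : Inv c g1 := fun y x => by
    rw [hg1v]
    refine if_congr ⟨fun ⟨w, hw⟩ => ⟨(act c y).symm w, ?_⟩, fun ⟨w, hw⟩ => ⟨act c y w, ?_⟩⟩ rfl rfl
    · rw [← map_mul, hw, MulEquiv.symm_apply_apply]
    · rw [← map_mul, hw]
  have hg1gen : IsGeneralizedCharacter P g1 := by
    rw [hg1, show (fun y : P => ∑ lam ∈ Finset.univ.filter (fun lam : P →* ℂˣ => lam * lam = 1),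
        (lam y : ℂ)) = ∑ lam ∈ Finset.univ.filter (fun lam : P →* ℂˣ => lam * lam = 1),
        fun y => (lam y : ℂ) from funext fun y => by rw [Finset.sum_apply]]
    exact isGeneralizedCharacter_sum _ _ fun lam _ =>
      isGeneralizedCharacter_of_isCharacter (isCharacter_linear lam)
  set kf : P → ℂ := (4 : ℂ) • (1 : P → ℂ) - g1 with hkf
  have hkfinv : Inv c kf := (BlockStarMatrix9.inv_one.smul _).sub hg1inv
  have hkfsq : kf * kf = (4 : ℂ) • kf := by
    funext y
    simp only [hkf, hg1v, Pi.mul_apply, Pi.smul_apply, Pi.sub_apply, Pi.one_apply, smul_eq_mul]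
    split_ifs <;> ring
  have hkfconj : (fun x => conj (kf x)) = kf := by
    funext y
    simp only [hkf, hg1v, Pi.smul_apply, Pi.sub_apply, Pi.one_apply, smul_eq_mul]
    split_ifs <;> simp [map_ofNat]
  choose g hgA using fun χ : {χ // χ ∈ B} => exists_int hM hmax hab hg1inv hg1gen χ.2
  set K : IrrCharacter G → IrrCharacter G → ℤ := fun χ ψ =>
    if hχ : χ ∈ B then 4 * (if χ = ψ then 1 else 0) - g ⟨χ, hχ⟩ ψ else 0 with hK
  have hKA : ∀ χ ∈ B, ∀ ψ, (K χ ψ : ℂ) = A 2 M B c kf χ ψ := by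
    intro χ hχ ψ
    rw [hkf, A_sub, A_smul, A_one hM hmax hχ, hgA ⟨χ, hχ⟩]
    simp only [hK, dif_pos hχ]
    split_ifs <;> simp
  have hKsym : ∀ χ ∈ members B, ∀ ψ ∈ members B, K χ ψ = K ψ χ := by
    intro χ hχ ψ hψ
    have h2 := A_conj hM hmax kf (mem_members.1 hψ) (mem_members.1 hχ)
    rw [← hKA ψ (mem_members.1 hψ) χ, map_intCast, hkfconj, ← hKA χ (mem_members.1 hχ) ψ] at h2
    exact_mod_cast h2.symm
  have hKrow : ∀ r ∈ members B, ∑ w ∈ members B, K r w * K r w = 4 * K r r := by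
    intro r hr
    have h1 := A_mul hM hmax hab hkfinv kf (χ := r) (mem_members.1 hr)
    rw [hkfsq, A_smul, ← hKA r (mem_members.1 hr) r, Finset.sum_congr rfl fun w hw => by
      rw [← hKA r (mem_members.1 hr) w, ← hKA w (mem_members.1 hw) r, hKsym w hw r hr]] at h1
    exact_mod_cast h1
  -- the paired orbit sums
  set η : (P →* ℂˣ) → P → ℂ := fun lam x => ∑ γ : (act c).range, (lam ((γ : MulAut P) x) : ℂ) with hη
  have hηinv : ∀ lam, Inv c (η lam) := fun lam y x => by
    simp only [hη]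
    exact Fintype.sum_equiv (Equiv.mulRight ⟨act c y, y, rfl⟩) _ _ fun γ => by
      simp [MulAut.mul_apply]
  have hηgen : ∀ lam, IsGeneralizedCharacter P (η lam) := fun lam => by
    have e : η lam = ∑ γ : (act c).range,
        fun x => ((lam.comp (γ : MulAut P).toMonoidHom) x : ℂ) := by
      funext x; simp [hη, Finset.sum_apply]
    rw [e]
    exact isGeneralizedCharacter_sum _ _ fun γ _ =>
      isGeneralizedCharacter_of_isCharacter (isCharacter_linear _)
  choose a ha using fun (lam : P →* ℂˣ) (χ : {χ // χ ∈ B}) =>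
    exists_int hM hmax hab (hηinv lam) (hηgen lam) χ.2
  set W := Finset.univ.filter (fun lam : P →* ℂˣ => ¬ lam * lam = 1) with hW
  have hWsum : ∑ lam ∈ W, η lam = (3 : ℂ) • ((Nat.card P : ℂ) • delta P - g1) := by
    funext x
    have hin : ∀ y : P, ∑ lam ∈ W, (lam y : ℂ) = ((Nat.card P : ℂ) • delta P - g1) y := by
      intro y
      rw [Pi.sub_apply, eq_sub_iff_add_eq, hg1, hW, add_comm, Finset.sum_filter_add_sum_filter_not,
        BlockAbelianSylow86.sum_dual, Pi.smul_apply, delta, smul_eq_mul, hcardC]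
      split_ifs <;> simp
    have hiv : Inv c ((Nat.card P : ℂ) • delta P - g1) := (inv_delta.smul _).sub hg1inv
    rw [Finset.sum_apply]
    simp only [hη]
    rw [Finset.sum_comm, Finset.sum_congr rfl fun γ _ => (hin _).trans (by
      obtain ⟨y, hy⟩ := γ.2
      rw [← hy]
      exact hiv y x), Finset.sum_const, Finset.card_univ, ← Nat.card_eq_fintype_card, h.three,
      Pi.smul_apply, smul_eq_mul, nsmul_eq_mul]
    norm_num
  have hKodd : ∀ r ∈ R, ∀ s ∈ R, ¬ (2 : ℤ) ∣ K r s := by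
    intro r hr s hs hd
    obtain ⟨hrB, hrfix⟩ := hRmem hr
    obtain ⟨hsB, hsfix⟩ := hRmem hs
    have hrB' := mem_members.1 hrB
    have hflip : ∀ lam, a lam⁻¹ ⟨r, hrB'⟩ s = a lam ⟨r, hrB'⟩ s := by
      intro lam
      have h1 := A_twist (c := c) (B := B) hM hk (η lam) r s
      rw [show (fun y => η lam y⁻¹) = η lam⁻¹ from funext fun y => by
        simp only [hη]
        exact Finset.sum_congr rfl fun γ _ => by rw [map_inv, map_inv]; rfl, ← hσ, hrfix, hsfix, ha lam⁻¹ ⟨r, hrB'⟩,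
        ha lam ⟨r, hrB'⟩] at h1
      exact_mod_cast h1
    have hsum : ∑ lam ∈ W, a lam ⟨r, hrB'⟩ s =
        3 * (BlockContrib.contrib 2 B s r - g ⟨r, hrB'⟩ s) := by
      have h1 : A 2 M B c (∑ lam ∈ W, η lam) r s =
          A 2 M B c ((3 : ℂ) • ((Nat.card P : ℂ) • delta P - g1)) r s := by rw [hWsum]
      rw [A_sum, A_smul, A_sub, A_delta_contrib h hrB', hgA ⟨r, hrB'⟩,
        Finset.sum_congr rfl fun lam _ => ha lam ⟨r, hrB'⟩ s] at h1
      exact_mod_cast h1
    have heven : ((∑ lam ∈ W, a lam ⟨r, hrB'⟩ s : ℤ) : ZMod 2) = 0 := by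
      rw [Int.cast_sum]
      refine Finset.sum_involution (fun lam _ => lam⁻¹) (fun lam _ => ?_) (fun lam hlam _ => ?_)
        (fun lam hlam => ?_) (fun lam _ => inv_inv lam)
      · rw [hflip lam]
        exact CharTwo.add_self_eq_zero _
      · intro e
        refine (Finset.mem_filter.1 hlam).2 ?_
        nth_rewrite 1 [← e]
        exact inv_mul_cancel lam
      · refine Finset.mem_filter.2 ⟨Finset.mem_univ _, fun e => (Finset.mem_filter.1 hlam).2 ?_⟩
        refine MonoidHom.ext fun v => ?_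
        have e1 : (lam v)⁻¹ * (lam v)⁻¹ = 1 := DFunLike.congr_fun e v
        show lam v * lam v = 1
        rwa [← mul_inv, inv_eq_one] at e1
    rw [hsum, ZMod.intCast_zmod_eq_zero_iff_dvd] at heven
    have h1 := hQdelta r hrB' s
    have h2 := hQodd r hrB s hsB
    simp only [hK, dif_pos hrB'] at hd
    have h3 : (2 : ℤ) ∣ 3 * (BlockContrib.contrib 2 B s r - g ⟨r, hrB'⟩ s) := by exact_mod_cast heven
    split_ifs at hd <;> omega
  have hR4 : R.card ≤ 4 := by
    rcases R.eq_empty_or_nonempty with he | ⟨r, hr⟩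
    · rw [he, Finset.card_empty]; omega
    have hrB := (hRmem hr).1
    have h1 : ∑ w ∈ R, K r w * K r w ≤ 4 * K r r :=
      (Finset.sum_le_sum_of_subset_of_nonneg (Finset.filter_subset _ _)
        fun w _ _ => mul_self_nonneg _).trans (hKrow r hrB).le
    rw [← Finset.add_sum_erase R _ hr] at h1
    have h2 : ((R.erase r).card : ℤ) ≤ ∑ w ∈ R.erase r, K r w * K r w := by
      rw [Finset.card_eq_sum_ones, Nat.cast_sum]
      refine Finset.sum_le_sum fun w hw => ?_
      have h3 := hKodd r hr w (Finset.mem_of_mem_erase hw)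
      have : K r w ≠ 0 := fun e => h3 (e ▸ dvd_zero 2)
      push_cast
      nlinarith [mul_self_pos.2 this]
    rw [Finset.card_erase_of_mem hr] at h2
    have h4 : (1 : ℤ) ≤ (K r r - 2) * (K r r - 2) := by
      have h5 := hKodd r hr r hr
      have : K r r - 2 ≠ 0 := by omega
      nlinarith [mul_self_pos.2 this]
    have h5 : (((R.card - 1 : ℕ)) : ℤ) ≤ 3 := by nlinarith
    omega
  have hl : blockRank 2 B ≤ 3 := by omega
  have hf := card_formula h
  have h8 : 8 ∣ Nat.card B := (ZMod.natCast_eq_zero_iff _ _).1 hk8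
  have hm8 : 8 ∣ 4 ^ m := dvd_trans (by norm_num) (Nat.pow_dvd_pow 4 h.hm)
  have hpos : 1 ≤ 4 ^ m := Nat.one_le_pow _ _ (by norm_num)
  omega

end Cfsg.Agent.BlockHomocyclicDefect9
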