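import Cfsg.Agent.Lib.BlockPCount9
import Cfsg.Agent.Lib.ZStarSection

/-!
Lifting stable class functions from an abelian Sylow `2`-subgroup whose automizer acts fixed point
freely with order 3, and the averages of characters over sections.
-/

set_option autoImplicit false

namespace Cfsg.Agent.BlockHomocyclicLift9

open Cfsg Cfsg.Agent.CharBasic Cfsg.Agent.CharBasicOrth Cfsg.Agent.CharBasicDecomp
open Cfsg.Agent.BlockPCount9
open scoped ComplexConjugate

attribute [local instance] Classical.propDecidable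

set_option linter.unusedSectionVars false

variable {G : Type*} [Group G] [Fintype G]

/-- The elements of odd order commuting with `a`. -/
noncomputable def oddCen (a : G) : Finset G :=
  Finset.univ.filter fun k => Commute a k ∧ ¬ 2 ∣ orderOf k

theorem mem_oddCen {a k : G} : k ∈ oddCen a ↔ Commute a k ∧ ¬ 2 ∣ orderOf k := by
  simp [oddCen]

theorem sum_oddCen_conj (g a : G) (f : G → ℂ) :
    ∑ k ∈ oddCen (g * a * g⁻¹), f k = ∑ k ∈ oddCen a, f (g * k * g⁻¹) := by
  refine (Finset.sum_nbij' (fun k => g * k * g⁻¹) (fun k => g⁻¹ * k * g) ?_ ?_ ?_ ?_ ?_).symm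
  · intro k hk
    rw [mem_oddCen] at hk ⊢
    exact ⟨hk.1.map (MulAut.conj g).toMonoidHom, by
      rw [show orderOf (g * k * g⁻¹) = orderOf k from MulEquiv.orderOf_eq (MulAut.conj g) k]
      exact hk.2⟩
  · intro k hk
    rw [mem_oddCen] at hk ⊢
    refine ⟨?_, ?_⟩
    · have := hk.1.map (MulAut.conj g⁻¹).toMonoidHom
      simpa [mul_assoc] using this
    · rw [show g⁻¹ * k * g = MulAut.conj g⁻¹ k by simp]
      rw [MulEquiv.orderOf_eq]
      exact hk.2
  · intro k _; group
  · intro k _; group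
  · intro k _; rfl

theorem card_oddCen_conj (g a : G) : (oddCen (g * a * g⁻¹)).card = (oddCen a).card := by
  have := sum_oddCen_conj g a (fun _ => 1)
  simpa using this

/-- The average of `χ` over the section of `a`. -/
noncomputable def avgSec (χ : G → ℂ) (a : G) : ℂ :=
  ((oddCen a).card : ℂ)⁻¹ * ∑ k ∈ oddCen a, χ (a * k)

theorem avgSec_conj {χ : G → ℂ} (hχ : IsClassFunction G χ) (g a : G) :
    avgSec χ (g * a * g⁻¹) = avgSec χ a := by
  rw [avgSec, avgSec, card_oddCen_conj, sum_oddCen_conj]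
  congr 1
  refine Finset.sum_congr rfl fun k _ => ?_
  rw [show g * a * g⁻¹ * (g * k * g⁻¹) = g * (a * k) * g⁻¹ by group]
  exact hχ _ g

/-- An abelian Sylow `2`-subgroup with automizer of order 3 acting fixed point freely. -/
structure Data {G : Type*} [Group G] [Fintype G] (P : Sylow 2 G)
    (σ : (P : Subgroup G) →* (P : Subgroup G)) : Prop where
  comm : ∀ u v : (P : Subgroup G), u * v = v * u
  cube : ∀ u, σ (σ (σ u)) = u
  fpf : ∀ u, σ u = u → u = 1
  isConj : ∀ u, IsConj ((u : (P : Subgroup G)) : G) ((σ u : (P : Subgroup G)) : G)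
  fus : ∀ u v : (P : Subgroup G), IsConj (u : G) (v : G) → v = u ∨ v = σ u ∨ v = σ (σ u)
  cen : ∀ u : (P : Subgroup G), u ≠ 1 → ∃ K : Subgroup G, (∀ k ∈ K, Commute (u : G) k) ∧
    ¬ 2 ∣ Nat.card K ∧ (∀ g, Commute (u : G) g → ∀ k ∈ K, g * k * g⁻¹ ∈ K) ∧
    (∀ g, Commute (u : G) g → ¬ 2 ∣ orderOf g → g ∈ K) ∧
    Nat.card (Subgroup.centralizer ({(u : G)} : Set G)) = Nat.card (P : Subgroup G) * Nat.card K

theorem pp_conj (g x : G) : pp 2 (x * g * x⁻¹) = x * pp 2 g * x⁻¹ :=
  pp_eq (BrauerBlocksPPart.isPPart_conj x (pp_spec g))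

theorem pp_regular {y : G} (hy : ¬ 2 ∣ orderOf y) : pp 2 y = 1 :=
  pp_eq (BrauerBlocksPPart.isPPart_of_regular Nat.prime_two hy)

theorem exists_conj_mem (P : Sylow 2 G) {S : Subgroup G} (hS : IsPGroup 2 S) :
    ∃ c : G, ∀ s ∈ S, c * s * c⁻¹ ∈ (P : Subgroup G) := by
  obtain ⟨Q, hQ⟩ := hS.exists_le_sylow
  obtain ⟨c, hc⟩ := MulAction.exists_smul_eq G Q P
  refine ⟨c, fun s hs => ?_⟩
  rw [← hc]
  exact ⟨s, hQ hs, rfl⟩

theorem exists_rep (P : Sylow 2 G) (g : G) :
    ∃ v : (P : Subgroup G), IsConj (pp 2 g) (v : G) := by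
  have hS : IsPGroup 2 (Subgroup.zpowers (pp 2 g)) := by
    obtain ⟨k, hk⟩ := BrauerBlocksPPart.isPEl_pPart (pp_spec (p := 2) g)
    exact IsPGroup.of_card (n := k) (by rw [Nat.card_zpowers, hk])
  obtain ⟨c, hc⟩ := exists_conj_mem P hS
  exact ⟨⟨_, hc _ (Subgroup.mem_zpowers _)⟩, isConj_iff.mpr ⟨c, rfl⟩⟩

/-- The lift of a function on the Sylow subgroup. -/
noncomputable def lift (P : Sylow 2 G) (f : ↥(P : Subgroup G) → ℂ) (g : G) : ℂ :=
  f (exists_rep P g).choose

/-- The averages of a function over sections, as a function on the Sylow subgroup. -/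
noncomputable def dec (P : Sylow 2 G) (χ : G → ℂ) (u : (P : Subgroup G)) : ℂ :=
  if u = 1 then 0 else avgSec χ (u : G)

namespace Data

variable {P : Sylow 2 G} {σ : (P : Subgroup G) →* (P : Subgroup G)} (D : Data P σ)
include D

theorem sigma_ne {u : (P : Subgroup G)} (hu : u ≠ 1) :
    σ u ≠ u ∧ σ (σ u) ≠ u ∧ σ (σ u) ≠ σ u := by
  refine ⟨fun h => hu (D.fpf u h), fun h => hu (D.fpf u ?_), fun h => ?_⟩
  · have := congrArg σ h
    rw [D.cube] at this
    exact this.symm
  · have h1 := D.fpf _ h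
    have h2 := congrArg σ (congrArg σ h1)
    rw [D.cube, map_one, map_one] at h2
    exact hu h2

theorem sigma_bijective : Function.Bijective σ :=
  Function.bijective_iff_has_inverse.mpr ⟨fun u => σ (σ u), fun u => D.cube u, fun u => D.cube u⟩

theorem sum_sigma {A : Type*} [AddCommMonoid A] (f : ↥(P : Subgroup G) → A) :
    ∑ u, f (σ u) = ∑ u, f u := D.sigma_bijective.sum_comp f

theorem lift_eq {f : ↥(P : Subgroup G) → ℂ} (hf : ∀ u, f (σ u) = f u) {g : G}
    {v : (P : Subgroup G)} (h : IsConj (pp 2 g) (v : G)) : lift P f g = f v := by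
  rcases D.fus _ v ((exists_rep P g).choose_spec.symm.trans h) with e | e | e
  · rw [e]; rfl
  · rw [e, hf]; rfl
  · rw [e, hf, hf]; rfl

theorem lift_regular {f : ↥(P : Subgroup G) → ℂ} (hf : ∀ u, f (σ u) = f u) {g : G}
    (hg : pp 2 g = 1) : lift P f g = f 1 :=
  D.lift_eq hf (by rw [hg]; exact IsConj.refl _)

theorem isClassFunction_lift {f : ↥(P : Subgroup G) → ℂ} (hf : ∀ u, f (σ u) = f u) :
    IsClassFunction G (lift P f) := fun g h => by
  refine D.lift_eq hf ?_
  rw [pp_conj]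
  exact (isConj_iff.mpr ⟨h, rfl⟩ : IsConj (pp 2 g) _).symm.trans (exists_rep P g).choose_spec

theorem isGeneralizedCharacter_lift {f : ↥(P : Subgroup G) → ℂ} (hf : ∀ u, f (σ u) = f u)
    (hgen : IsGeneralizedCharacter (P : Subgroup G) f) : IsGeneralizedCharacter G (lift P f) := by
  refine BrauerInduction.isGeneralizedCharacter_of_elementary (D.isClassFunction_lift hf)
    fun E q hq hE => ?_
  haveI : Group.IsNilpotent E := BrauerInduction.isNilpotent_of_isElementary hq hE
  let φ : E →* G := E.subtype.comp (piP 2 E)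
  have hφ : ∀ e : E, φ e = pp 2 (e : G) := fun e => (pp_eq (isPPart_coe (pp_spec e))).symm
  have hS : IsPGroup 2 φ.range := by
    rintro ⟨_, e, rfl⟩
    obtain ⟨k, hk⟩ := BrauerBlocksPPart.isPEl_pPart (pp_spec (p := 2) (e : G))
    refine ⟨k, Subtype.ext ?_⟩
    show φ e ^ 2 ^ k = 1
    rw [hφ, ← hk, pow_orderOf_eq_one]
  obtain ⟨c, hc⟩ := exists_conj_mem P hS
  let ψ : E →* (P : Subgroup G) :=
    ((MulAut.conj c).toMonoidHom.comp φ).codRestrict (P : Subgroup G)
      fun e => hc _ ⟨e, rfl⟩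
  have e : (fun e : E => lift P f e) = f ∘ ψ := funext fun e => by
    refine D.lift_eq hf ?_
    rw [← hφ]
    exact isConj_iff.mpr ⟨c, rfl⟩
  rw [e]
  exact isGeneralizedCharacter_comap ψ hgen

theorem card_oddCen {u : (P : Subgroup G)} (hu : u ≠ 1) :
    (oddCen (u : G)).card ≠ 0 ∧ Nat.card (Subgroup.centralizer ({(u : G)} : Set G)) =
      Nat.card (P : Subgroup G) * (oddCen (u : G)).card := by
  obtain ⟨K, h1, h2, -, h4, h5⟩ := D.cen u hu
  have e : (oddCen (u : G)).card = Nat.card K := by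
    rw [Nat.card_eq_fintype_card, Fintype.card_subtype]
    congr 1
    ext k
    simp only [mem_oddCen, Finset.mem_filter, Finset.mem_univ, true_and]
    exact ⟨fun h => h4 k h.1 h.2,
      fun h => ⟨h1 k h, fun hd => h2 (hd.trans (Subgroup.orderOf_dvd_natCard K h))⟩⟩
  exact ⟨e ▸ Nat.card_pos.ne', e ▸ h5⟩

theorem card_transporter {a : G} {v : (P : Subgroup G)} (hv : IsConj a (v : G)) (hv1 : v ≠ 1) :
    (Finset.univ.filter fun x : G => x * a * x⁻¹ ∈ (P : Subgroup G)).card =
      3 * Nat.card (Subgroup.centralizer ({a} : Set G)) := by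
  have hfib : ∀ w : (P : Subgroup G), IsConj a (w : G) →
      (Finset.univ.filter fun x : G => x * a * x⁻¹ = (w : G)).card =
        Nat.card (Subgroup.centralizer ({a} : Set G)) := by
    intro w hw
    obtain ⟨c, hc⟩ := isConj_iff.mp hw
    rw [← Fintype.card_subtype, ← Nat.card_eq_fintype_card]
    refine Nat.card_congr
      { toFun := fun x => ⟨c⁻¹ * x.1, Subgroup.mem_centralizer_singleton_iff.mpr ?_⟩
        invFun := fun y => ⟨c * y.1, ?_⟩
        left_inv := fun x => Subtype.ext (mul_inv_cancel_left _ _)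
        right_inv := fun y => Subtype.ext (inv_mul_cancel_left _ _) }
    · have h1 : x.1 * a * x.1⁻¹ = c * a * c⁻¹ := x.2.trans hc.symm
      calc c⁻¹ * x.1 * a = c⁻¹ * (x.1 * a * x.1⁻¹) * x.1 := by group
        _ = c⁻¹ * (c * a * c⁻¹) * x.1 := by rw [h1]
        _ = a * (c⁻¹ * x.1) := by group
    · show c * y.1 * a * (c * y.1)⁻¹ = (w : G)
      rw [← hc, mul_assoc c (y : G) a, Subgroup.mem_centralizer_singleton_iff.mp y.2]
      group
  obtain ⟨h1, h2, h3⟩ := D.sigma_ne hv1
  have hsplit : (Finset.univ.filter fun x : G => x * a * x⁻¹ ∈ (P : Subgroup G)) =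
      ({v, σ v, σ (σ v)} : Finset (P : Subgroup G)).biUnion
        fun w => Finset.univ.filter fun x : G => x * a * x⁻¹ = (w : G) := by
    ext x
    simp only [Finset.mem_filter, Finset.mem_univ, true_and, Finset.mem_biUnion, Finset.mem_insert,
      Finset.mem_singleton]
    constructor
    · intro hx
      exact ⟨⟨_, hx⟩, D.fus v ⟨_, hx⟩ (hv.symm.trans (isConj_iff.mpr ⟨x, rfl⟩)), rfl⟩
    · rintro ⟨w, -, hw⟩
      rw [hw]; exact w.2
  rw [hsplit, Finset.card_biUnion fun w _ w' _ hne => Finset.disjoint_filter.mpr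
    fun x _ h h' => hne (Subtype.ext (h.symm.trans h')),
    Finset.sum_insert (by simp [h1.symm, h2.symm]), Finset.sum_insert (by simp [h3.symm]),
    Finset.sum_singleton, hfib v hv, hfib _ (hv.trans (D.isConj v)),
    hfib _ ((hv.trans (D.isConj v)).trans (D.isConj _))]
  omega

/-- Summation over the sections of the nontrivial elements of the Sylow subgroup. -/
theorem sum_section {F : G → ℂ} (hF : IsClassFunction G F) (h0 : ∀ g, pp 2 g = 1 → F g = 0) :
    (3 * Nat.card (P : Subgroup G) : ℂ) * ∑ g, F g =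
      (Nat.card G : ℂ) * ∑ u, if u = 1 then 0 else avgSec F ((u : (P : Subgroup G)) : G) := by
  set n : G → ℂ := fun a => (Nat.card (Subgroup.centralizer ({a} : Set G)) : ℂ) with hn
  have hnc : ∀ x a, n (x * a * x⁻¹) = n a := fun x a => by
    have h1 := (Subgroup.centralizer ({x * a * x⁻¹} : Set G)).card_mul_index
    have h2 := (Subgroup.centralizer ({a} : Set G)).card_mul_index
    have h3 : (Subgroup.centralizer ({x * a * x⁻¹} : Set G)).index =
        (Subgroup.centralizer ({a} : Set G)).index := by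
      rw [BlockTheoryCentre.index_centralizer_eq, BlockTheoryCentre.index_centralizer_eq]
      refine Nat.card_congr (Equiv.subtypeEquivRight fun y => ?_)
      have hc : IsConj a (x * a * x⁻¹) := isConj_iff.mpr ⟨x, rfl⟩
      exact ⟨fun h => hc.trans h, fun h => hc.symm.trans h⟩
    rw [h3, ← h2] at h1
    simp only [hn, Nat.eq_of_mul_eq_mul_right (Nat.pos_of_ne_zero Subgroup.index_ne_zero_of_finite) h1]
  set W : G → ℂ := fun g => F g / n (pp 2 g) with hW
  have hWc : ∀ x g, W (x * g * x⁻¹) = W g := fun x g => by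
    simp only [hW, pp_conj, hnc, hF g x]
  have hn0 : ∀ a, n a ≠ 0 := fun a => Nat.cast_ne_zero.mpr Nat.card_pos.ne'
  have hA : ∑ g, ∑ x : G, (if x * pp 2 g * x⁻¹ ∈ (P : Subgroup G) then W g else 0) =
      3 * ∑ g, F g := by
    rw [Finset.mul_sum]
    refine Finset.sum_congr rfl fun g _ => ?_
    by_cases hg : pp 2 g = 1
    · simp [hW, h0 g hg]
    obtain ⟨v, hv⟩ := exists_rep P g
    have hv1 : v ≠ 1 := fun h => hg (by
      rw [h] at hv
      exact isConj_one_left.mp hv)
    rw [← Finset.sum_filter, Finset.sum_const, D.card_transporter hv hv1, nsmul_eq_mul,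
      Nat.cast_mul]
    simp only [hW]
    have := hn0 (pp 2 g)
    rw [hn] at this ⊢
    field_simp
    push_cast
    ring
  have hB : ∑ g, ∑ x : G, (if x * pp 2 g * x⁻¹ ∈ (P : Subgroup G) then W g else 0) =
      (Nat.card G : ℂ) * ∑ g, (if pp 2 g ∈ (P : Subgroup G) then W g else 0) := by
    rw [Finset.sum_comm]
    have : ∀ x : G, ∑ g, (if x * pp 2 g * x⁻¹ ∈ (P : Subgroup G) then W g else 0) =
        ∑ g, (if pp 2 g ∈ (P : Subgroup G) then W g else 0) := fun x =>
      Fintype.sum_equiv (MulAut.conj x).toEquiv _ _ fun g => by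
        simp only [MulEquiv.toEquiv_eq_coe, MulEquiv.coe_toEquiv, MulAut.conj_apply, pp_conj, hWc]
    rw [Finset.sum_congr rfl fun x _ => this x, Finset.sum_const, Finset.card_univ, nsmul_eq_mul,
      Nat.card_eq_fintype_card]
  have hC : (Nat.card (P : Subgroup G) : ℂ) * ∑ g, (if pp 2 g ∈ (P : Subgroup G) then W g else 0) =
      ∑ u, if u = 1 then 0 else avgSec F ((u : (P : Subgroup G)) : G) := by
    have e : ∀ g, (if pp 2 g ∈ (P : Subgroup G) then W g else 0) =
        ∑ u : (P : Subgroup G), if pp 2 g = (u : G) then W g else 0 := by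
      intro g
      by_cases h : pp 2 g ∈ (P : Subgroup G)
      · rw [if_pos h, Finset.sum_eq_single ⟨_, h⟩]
        · rw [if_pos rfl]
        · exact fun u _ hu => if_neg fun hh => hu (Subtype.ext hh.symm)
        · simp
      · rw [if_neg h, Finset.sum_eq_zero]
        exact fun u _ => if_neg fun hh : pp 2 g = (u : G) => h (by rw [hh]; exact u.2)
    rw [Finset.sum_congr rfl fun g _ => e g, Finset.sum_comm, Finset.mul_sum]
    refine Finset.sum_congr rfl fun u _ => ?_
    by_cases hu : u = 1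
    · rw [if_pos hu, Finset.sum_eq_zero, mul_zero]
      intro g _
      split_ifs with hg
      · simp only [hW, h0 g (by rw [hg, hu]; rfl), zero_div]
      · rfl
    rw [if_neg hu, ← Finset.sum_filter]
    obtain ⟨hc0, hcard⟩ := D.card_oddCen hu
    have e2 : ∑ g ∈ Finset.univ.filter (fun g => pp 2 g = (u : G)), W g =
        ∑ k ∈ oddCen (u : G), F ((u : G) * k) / n (u : G) := by
      refine Finset.sum_nbij' (fun g => (u : G)⁻¹ * g) (fun k => (u : G) * k) ?_ ?_ ?_ ?_ ?_
      · intro g hg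
        rw [Finset.mem_filter] at hg
        rw [mem_oddCen]
        obtain ⟨y, hy1, hy2, -, hy3⟩ := pp_spec (p := 2) g
        rw [hg.2] at hy1 hy2
        have hy : (u : G)⁻¹ * g = y := by rw [← hy1, inv_mul_cancel_left]
        show Commute _ ((u : G)⁻¹ * g) ∧ _
        rw [hy]
        exact ⟨hy2, hy3⟩
      · intro k hk
        rw [mem_oddCen] at hk
        rw [Finset.mem_filter]
        exact ⟨Finset.mem_univ _, pp_mul hk.1 (BrauerBlocksPPart.isPEl_of_mem P.isPGroup' u.2) hk.2⟩
      · intro g _; exact mul_inv_cancel_left _ _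
      · intro k _; exact inv_mul_cancel_left _ _
      · intro g hg
        rw [Finset.mem_filter] at hg
        simp only [hW, hg.2, mul_inv_cancel_left]
    rw [e2, avgSec, ← Finset.sum_div]
    simp only [hn, hcard, Nat.cast_mul]
    have : (Nat.card (P : Subgroup G) : ℂ) ≠ 0 := Nat.cast_ne_zero.mpr Nat.card_pos.ne'
    have : ((oddCen (u : G)).card : ℂ) ≠ 0 := Nat.cast_ne_zero.mpr hc0
    field_simp
  rw [← hC]
  linear_combination (Nat.card (P : Subgroup G) : ℂ) * (hA.symm.trans hB)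

theorem classInner_lift {f : ↥(P : Subgroup G) → ℂ} (hf : ∀ u, f (σ u) = f u) (h1 : f 1 = 0)
    {χ : G → ℂ} (hχ : IsClassFunction G χ) :
    3 * classInner (lift P f) χ = classInner f (dec P χ) := by
  have h := D.sum_section (F := fun g => lift P f g * conj (χ g))
    (fun g h => by
      show lift P f (h * g * h⁻¹) * conj (χ (h * g * h⁻¹)) = _
      rw [D.isClassFunction_lift hf g h, hχ g h])
    (fun g hg => by simp [D.lift_regular hf hg, h1])
  have e : ∀ u : (P : Subgroup G),
      (if u = 1 then 0 else avgSec (fun g => lift P f g * conj (χ g)) (u : G)) =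
        f u * conj (dec P χ u) := by
    intro u
    by_cases hu : u = 1
    · simp [dec, hu]
    rw [if_neg hu, dec, if_neg hu, avgSec, avgSec, map_mul, map_inv₀, map_natCast, map_sum,
      mul_left_comm (f u)]
    congr 1
    rw [Finset.mul_sum]
    refine Finset.sum_congr rfl fun k hk => ?_
    rw [mem_oddCen] at hk
    congr 1
    refine D.lift_eq hf ?_
    rw [pp_mul hk.1 (BrauerBlocksPPart.isPEl_of_mem P.isPGroup' u.2) hk.2]
  simp only [e] at h
  have hG : (Nat.card G : ℂ) ≠ 0 := Nat.cast_ne_zero.mpr Nat.card_pos.ne'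
  have hP : (Nat.card (P : Subgroup G) : ℂ) ≠ 0 := Nat.cast_ne_zero.mpr Nat.card_pos.ne'
  rw [classInner, classInner]
  field_simp
  linear_combination h

theorem classInner_lift_lift {f h : ↥(P : Subgroup G) → ℂ} (hf : ∀ u, f (σ u) = f u) (h1 : f 1 = 0)
    (hh : ∀ u, h (σ u) = h u) :
    3 * classInner (lift P f) (lift P h) = classInner f h := by
  rw [D.classInner_lift hf h1 (D.isClassFunction_lift hh), classInner, classInner]
  congr 1
  refine Finset.sum_congr rfl fun u _ => ?_
  by_cases hu : u = 1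
  · simp [hu, h1]
  congr 2
  rw [dec, if_neg hu, avgSec]
  rw [Finset.sum_congr rfl (g := fun _ => h u) fun k hk => by
    rw [mem_oddCen] at hk
    refine D.lift_eq hh ?_
    rw [pp_mul hk.1 (BrauerBlocksPPart.isPEl_of_mem P.isPGroup' u.2) hk.2]]
  rw [Finset.sum_const, nsmul_eq_mul, ← mul_assoc,
    inv_mul_cancel₀ (Nat.cast_ne_zero.mpr (D.card_oddCen hu).1), one_mul]

theorem dec_sigma {χ : G → ℂ} (hχ : IsClassFunction G χ) (u : (P : Subgroup G)) :
    dec P χ (σ u) = dec P χ u := by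
  by_cases hu : u = 1
  · simp [hu]
  have hu' : σ u ≠ 1 := fun h => hu (D.sigma_bijective.1 (by rw [h, map_one]))
  rw [dec, dec, if_neg hu, if_neg hu']
  obtain ⟨c, hc⟩ := isConj_iff.mp (D.isConj u)
  rw [← hc, avgSec_conj hχ]

/-- A character that does not vanish on the sections lies in the principal block. -/
theorem mem_principal {M : Ideal AlgInt} (hM : IsPModular 2 M) {χ : IrrCharacter G}
    {u : (P : Subgroup G)} (h : dec P (χ : G → ℂ) u ≠ 0) : χ ∈ principalBlock M G := by
  have hu : u ≠ 1 := fun hu => h (by simp [dec, hu])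
  by_contra hχ
  obtain ⟨K, h1, h2, h3, h4, -⟩ := D.cen u hu
  refine h ?_
  rw [dec, if_neg hu, avgSec]
  have := ZStarSection.apply_average_eq_zero hM (BrauerBlocksPPart.isPEl_of_mem P.isPGroup' u.2)
    h1 h2 h3 h4 hχ
  rw [Finset.sum_subtype (p := fun k => k ∈ K) (oddCen (u : G)) (fun k => ?_), this, mul_zero]
  rw [mem_oddCen]
  exact ⟨fun hk => h4 k hk.1 hk.2,
    fun hk => ⟨h1 k hk, fun hd => h2 (hd.trans (Subgroup.orderOf_dvd_natCard K hk))⟩⟩

theorem apply_mul_eq {M : Ideal AlgInt} (hM : IsPModular 2 M) {χ : IrrCharacter G}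
    (hχ : χ ∈ principalBlock M G) {u : (P : Subgroup G)} (hu : u ≠ 1) {k : G}
    (hk : k ∈ oddCen (u : G)) : (χ : G → ℂ) ((u : G) * k) = (χ : G → ℂ) u := by
  obtain ⟨K, h1, h2, h3, h4, -⟩ := D.cen u hu
  rw [mem_oddCen] at hk
  exact ZStarPrincipal.apply_eq_of_mem hM (BrauerBlocksPPart.isPEl_of_mem P.isPGroup' u.2) h1 h2 h3
    hχ (h4 k hk.1 hk.2)

theorem dec_eq_apply {M : Ideal AlgInt} (hM : IsPModular 2 M) {χ : IrrCharacter G}
    (hχ : χ ∈ principalBlock M G) {u : (P : Subgroup G)} (hu : u ≠ 1) :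
    dec P (χ : G → ℂ) u = (χ : G → ℂ) u := by
  rw [dec, if_neg hu, avgSec, Finset.sum_congr rfl fun k hk => D.apply_mul_eq hM hχ hu hk,
    Finset.sum_const, nsmul_eq_mul, ← mul_assoc,
    inv_mul_cancel₀ (Nat.cast_ne_zero.mpr (D.card_oddCen hu).1), one_mul]

end Data

end Cfsg.Agent.BlockHomocyclicLift9
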