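import Cfsg.Agent.Lib.BlockHomocyclicLift9

/-!
Brauer's theorem on homocyclic Sylow `2`-subgroups: the exceptional characters have degree 3.
-/

set_option autoImplicit false

namespace Cfsg.Agent.BlockHomocyclicMain9

open Cfsg Cfsg.Agent.CharBasic Cfsg.Agent.CharBasicOrth Cfsg.Agent.CharBasicDecomp
open Cfsg.Agent.BlockPCount9 Cfsg.Agent.BlockHomocyclicLift9
open Cfsg.Agent.BlockTheoryCentre
open scoped ComplexConjugate

attribute [local instance] Classical.propDecidable

set_option linter.unusedSectionVars false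

/-- At least five triples meeting pairwise in two points have a common pair. -/
theorem exists_common_pair {α : Type*} [DecidableEq α] (𝒜 : Finset (Finset α))
    (h3 : ∀ A ∈ 𝒜, A.card = 3) (h2 : ∀ A ∈ 𝒜, ∀ B ∈ 𝒜, A ≠ B → (A ∩ B).card = 2)
    (h5 : 5 ≤ 𝒜.card) : ∃ C : Finset α, C.card = 2 ∧ ∀ A ∈ 𝒜, C ⊆ A := by
  obtain ⟨A, hA, B, hB, hAB⟩ := Finset.one_lt_card.mp (by omega : 1 < 𝒜.card)
  refine ⟨A ∩ B, h2 A hA B hB hAB, ?_⟩
  by_contra! hcon
  obtain ⟨D, hD, hDC⟩ := hcon
  -- any triple without the common pair lies in the union of the first two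
  have hout : ∀ E ∈ 𝒜, ¬ A ∩ B ⊆ E → E ⊆ A ∪ B := by
    intro E hE hEC
    have hEA : E ≠ A := fun e => hEC (e ▸ Finset.inter_subset_left)
    have hEB : E ≠ B := fun e => hEC (e ▸ Finset.inter_subset_right)
    have h1 := h2 E hE A hA hEA
    have h1' := h2 E hE B hB hEB
    have h4 : (E ∩ A ∩ (E ∩ B)).card ≤ 1 := by
      by_contra h
      refine hEC fun x hx => ?_
      have : E ∩ A ∩ (E ∩ B) = A ∩ B := Finset.eq_of_subset_of_card_le
        (fun y hy => by
          simp only [Finset.mem_inter] at hy ⊢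
          exact ⟨hy.1.2, hy.2.2⟩)
        (by rw [h2 A hA B hB hAB]; omega)
      rw [← this] at hx
      simp only [Finset.mem_inter] at hx
      exact hx.1.1
    have h6 := Finset.card_union_add_card_inter (E ∩ A) (E ∩ B)
    have h7 : (E ∩ A) ∪ (E ∩ B) = E := Finset.eq_of_subset_of_card_le
      (Finset.union_subset Finset.inter_subset_left Finset.inter_subset_left)
      (by rw [h3 E hE]; omega)
    rw [← h7]
    exact Finset.union_subset_union Finset.inter_subset_right Finset.inter_subset_right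
  have hU : (A ∪ B).card = 4 := by
    have := Finset.card_union_add_card_inter A B
    rw [h3 A hA, h3 B hB, h2 A hA B hB hAB] at this
    omega
  have hall : ∀ E ∈ 𝒜, E ⊆ A ∪ B := by
    intro E hE
    by_cases hEC : A ∩ B ⊆ E
    swap
    · exact hout E hE hEC
    intro x hx
    by_contra hxU
    have hxC : x ∉ A ∩ B := fun h => hxU (Finset.mem_union_left _ (Finset.mem_inter.mp h).1)
    have hEeq : insert x (A ∩ B) = E := Finset.eq_of_subset_of_card_le
      (Finset.insert_subset hx hEC)
      (by rw [h3 E hE, Finset.card_insert_of_notMem hxC, h2 A hA B hB hAB])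
    have hsub : E ∩ D ⊆ (A ∩ B).filter (fun y => y ∈ D) := by
      intro y hy
      obtain ⟨hyE, hyD⟩ := Finset.mem_inter.mp hy
      rw [← hEeq] at hyE
      rcases Finset.mem_insert.mp hyE with h | h
      · exact absurd (h ▸ hout D hD hDC hyD) hxU
      · exact Finset.mem_filter.mpr ⟨h, hyD⟩
    have hne : E ≠ D := fun e => hDC (e ▸ hEC)
    have h4 := Finset.card_le_card hsub
    rw [h2 E hE D hD hne] at h4
    have h5' : (A ∩ B).filter (fun y => y ∈ D) = A ∩ B :=
      Finset.eq_of_subset_of_card_le (Finset.filter_subset _ _) (by rw [h2 A hA B hB hAB]; omega)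
    exact hDC fun y hy => (Finset.mem_filter.mp (h5'.symm ▸ hy)).2
  have hle : 𝒜.card ≤ ((A ∪ B).powersetCard 3).card :=
    Finset.card_le_card fun E hE => Finset.mem_powersetCard.mpr ⟨hall E hE, h3 E hE⟩
  rw [Finset.card_powersetCard, hU] at hle
  norm_num [Nat.choose] at hle
  omega

variable {G : Type*} [Group G] [Fintype G] {P : Sylow 2 G}
variable {σ : (P : Subgroup G) →* (P : Subgroup G)}

/-- The rotated character. -/
noncomputable def rot (D : Data P σ) (l : IrrCharacter (P : Subgroup G)) :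
    IrrCharacter (P : Subgroup G) :=
  ⟨(l : ↥(P : Subgroup G) → ℂ) ∘ σ, isIrrCharacter_comap σ D.sigma_bijective.2 l.2⟩

/-- The function `3 - O(l)`. -/
noncomputable def fO (D : Data P σ) (l : IrrCharacter (P : Subgroup G)) :
    ↥(P : Subgroup G) → ℂ := fun u =>
  3 - ((l : ↥(P : Subgroup G) → ℂ) u + (rot D l : ↥(P : Subgroup G) → ℂ) u +
    (rot D (rot D l) : ↥(P : Subgroup G) → ℂ) u)

/-- The trivial character. -/
noncomputable def one' : IrrCharacter (P : Subgroup G) := BlockPrincipal81.oneChar _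

section Basic

variable (D : Data P σ)
include D

theorem rot_cube (l : IrrCharacter (P : Subgroup G)) : rot D (rot D (rot D l)) = l :=
  Subtype.ext (funext fun u => congrArg (l : ↥(P : Subgroup G) → ℂ) (D.cube u))

theorem apply_one (l : IrrCharacter (P : Subgroup G)) : (l : ↥(P : Subgroup G) → ℂ) 1 = 1 :=
  CharBasicLinear.apply_one_eq_one_of_comm D.comm l.2

theorem apply_mul (l : IrrCharacter (P : Subgroup G)) (u v : (P : Subgroup G)) :
    (l : ↥(P : Subgroup G) → ℂ) (u * v) =
      (l : ↥(P : Subgroup G) → ℂ) u * (l : ↥(P : Subgroup G) → ℂ) v := by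
  obtain ⟨lam, hlam⟩ := CharBasicLinear.exists_hom_of_comm D.comm l.2
  simp [hlam]

theorem apply_ne_zero (l : IrrCharacter (P : Subgroup G)) (u : (P : Subgroup G)) :
    (l : ↥(P : Subgroup G) → ℂ) u ≠ 0 := fun h => by
  have := apply_mul D l u u⁻¹
  rw [mul_inv_cancel, apply_one D, h, zero_mul] at this
  exact one_ne_zero this

theorem rot_ne {l : IrrCharacter (P : Subgroup G)} (hl : l ≠ one') : rot D l ≠ l := by
  intro h
  refine hl (Subtype.ext (funext fun u => ?_))
  let f : ↥(P : Subgroup G) → ↥(P : Subgroup G) := fun v => σ v * v⁻¹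
  have hf : Function.Injective f := by
    intro v w hvw
    have : σ (v * w⁻¹) = v * w⁻¹ := by
      rw [map_mul, map_inv]
      calc σ v * (σ w)⁻¹ = f v * v * (f w * w)⁻¹ := by simp [f]
        _ = v * w⁻¹ := by rw [hvw, D.comm (f w) v, D.comm (f w) w]; group
    exact mul_inv_eq_one.mp (D.fpf _ this)
  obtain ⟨v, rfl⟩ := Finite.injective_iff_surjective.mp hf u
  show (l : ↥(P : Subgroup G) → ℂ) (σ v * v⁻¹) = 1
  have h1 := congrFun (congrArg Subtype.val h) v
  change (l : ↥(P : Subgroup G) → ℂ) (σ v) = (l : ↥(P : Subgroup G) → ℂ) v at h1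
  rw [apply_mul D, h1, ← apply_mul D, mul_inv_cancel, apply_one D]

theorem rot_ne_one {l : IrrCharacter (P : Subgroup G)} (hl : l ≠ one') : rot D l ≠ one' := by
  intro h
  refine hl (Subtype.ext (funext fun u => ?_))
  obtain ⟨v, rfl⟩ := D.sigma_bijective.2 u
  exact congrFun (congrArg Subtype.val h) v

theorem fO_stable (l : IrrCharacter (P : Subgroup G)) (u : (P : Subgroup G)) :
    fO D l (σ u) = fO D l u := by
  simp only [fO, rot, Function.comp_apply, D.cube]
  ring

theorem fO_one (l : IrrCharacter (P : Subgroup G)) : fO D l 1 = 0 := by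
  simp only [fO, apply_one D]
  norm_num

theorem fO_rot (l : IrrCharacter (P : Subgroup G)) : fO D (rot D l) = fO D l := by
  funext u
  simp only [fO, rot_cube]
  ring

theorem isGen_fO (l : IrrCharacter (P : Subgroup G)) :
    IsGeneralizedCharacter (P : Subgroup G) (fO D l) := by
  have h := isGeneralizedCharacter_sub
    (isGeneralizedCharacter_zsmul (isGeneralizedCharacter_of_isCharacter
      (isCharacter_of_isIrrCharacter (one' (P := P)).2)) 3)
    (isGeneralizedCharacter_add (isGeneralizedCharacter_add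
      (isGeneralizedCharacter_of_isCharacter (isCharacter_of_isIrrCharacter l.2))
      (isGeneralizedCharacter_of_isCharacter (isCharacter_of_isIrrCharacter (rot D l).2)))
      (isGeneralizedCharacter_of_isCharacter (isCharacter_of_isIrrCharacter (rot D (rot D l)).2)))
  convert h using 1
  funext u
  simp [fO, one', BlockPrincipal81.oneChar]

theorem classInner_fO_eq (l : IrrCharacter (P : Subgroup G)) (h : ↥(P : Subgroup G) → ℂ) :
    classInner (fO D l) h = 3 * classInner (one' (P := P) : ↥(P : Subgroup G) → ℂ) h -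
      (classInner (l : ↥(P : Subgroup G) → ℂ) h + classInner (rot D l : ↥(P : Subgroup G) → ℂ) h +
        classInner (rot D (rot D l) : ↥(P : Subgroup G) → ℂ) h) := by
  have e : fO D l = (3 : ℂ) • (one' (P := P) : ↥(P : Subgroup G) → ℂ) -
      ((l : ↥(P : Subgroup G) → ℂ) + (rot D l : ↥(P : Subgroup G) → ℂ) +
        (rot D (rot D l) : ↥(P : Subgroup G) → ℂ)) := by
    funext u
    simp [fO, one', BlockPrincipal81.oneChar]
  rw [e, classInner_sub_left, classInner_smul_left, classInner_add_left, classInner_add_left]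

theorem classInner_fO_one {l : IrrCharacter (P : Subgroup G)} (hl : l ≠ one') :
    classInner (fO D l) (one' (P := P) : ↥(P : Subgroup G) → ℂ) = 3 := by
  simp only [classInner_fO_eq, classInner_irrCharacter, if_pos, if_neg hl,
    if_neg (rot_ne_one D hl), if_neg (rot_ne_one D (rot_ne_one D hl))]
  ring

theorem classInner_fO_irr {l m : IrrCharacter (P : Subgroup G)} (hl : l ≠ one') (hm : m ≠ one') :
    classInner (fO D l) (m : ↥(P : Subgroup G) → ℂ) =
      -(if m = l ∨ m = rot D l ∨ m = rot D (rot D l) then 1 else 0) := by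
  simp only [classInner_fO_eq, classInner_irrCharacter, if_neg (Ne.symm hm), mul_zero]
  have h1 := rot_ne D hl
  have h2 := rot_ne D (rot_ne_one D hl)
  have h3 : rot D (rot D l) ≠ l := fun h => h1 (by
    have := congrArg (rot D) h
    rw [rot_cube] at this
    exact this.symm)
  by_cases ha : l = m
  · subst ha
    rw [if_pos rfl, if_neg h1, if_neg h3, if_pos (Or.inl rfl)]
    ring
  by_cases hb : rot D l = m
  · subst hb
    rw [if_neg h1.symm, if_pos rfl, if_neg h2, if_pos (Or.inr (Or.inl rfl))]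
    ring
  by_cases hc : rot D (rot D l) = m
  · subst hc
    rw [if_neg h3.symm, if_neg h2.symm, if_pos rfl, if_pos (Or.inr (Or.inr rfl))]
    ring
  rw [if_neg ha, if_neg hb, if_neg hc, if_neg (by rintro (e | e | e) <;> simp_all)]
  ring

theorem classInner_fO_fO {l m : IrrCharacter (P : Subgroup G)} (hl : l ≠ one') (hm : m ≠ one') :
    classInner (fO D l) (fO D m) =
      if m = l ∨ m = rot D l ∨ m = rot D (rot D l) then 12 else 9 := by
  have hconj : ∀ x : IrrCharacter (P : Subgroup G), classInner (fO D l) (x : ↥(P : Subgroup G) → ℂ)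
      = conj (classInner (x : ↥(P : Subgroup G) → ℂ) (fO D l)) := fun x => (conj_classInner _ _).symm
  have e := classInner_fO_eq D m (fO D l)
  rw [← conj_classInner (fO D m) (fO D l), e]
  simp only [map_sub, map_mul, map_add, map_ofNat, ← hconj, classInner_fO_one D hl,
    classInner_fO_irr D hl hm, classInner_fO_irr D hl (rot_ne_one D hm),
    classInner_fO_irr D hl (rot_ne_one D (rot_ne_one D hm))]
  have key : ∀ x y : IrrCharacter (P : Subgroup G),
      (x = y ∨ x = rot D y ∨ x = rot D (rot D y)) →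
      (rot D x = y ∨ rot D x = rot D y ∨ rot D x = rot D (rot D y)) := by
    rintro x y (rfl | rfl | rfl)
    · exact Or.inr (Or.inl rfl)
    · exact Or.inr (Or.inr rfl)
    · exact Or.inl (rot_cube D y)
  by_cases h : m = l ∨ m = rot D l ∨ m = rot D (rot D l)
  · rw [if_pos h, if_pos (key _ _ h), if_pos (key _ _ (key _ _ h)), if_pos h]
    norm_num
  · rw [if_neg h, if_neg (fun h' => h ?_), if_neg (fun h' => h ?_), if_neg h]
    · norm_num
    · have := key _ _ h'; rwa [rot_cube] at this
    · have := key _ _ (key _ _ h'); rwa [rot_cube] at this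

/-- The lifts of the functions `fO` determine the averages on the sections. -/
theorem dec_unique {d d' : ↥(P : Subgroup G) → ℂ}
    (hd : ∀ u, d (σ u) = d u) (hd' : ∀ u, d' (σ u) = d' u)
    (h : ∀ l, l ≠ one' → classInner (fO D l) d = classInner (fO D l) d')
    {u : (P : Subgroup G)} (hu : u ≠ 1) : d u = d' u := by
  set k : ↥(P : Subgroup G) → ℂ := fun v =>
    if v = 1 then -∑ w ∈ Finset.univ.erase (1 : (P : Subgroup G)), (d w - d' w) else d v - d' v
    with hk
  have hks : ∀ v, k (σ v) = k v := by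
    intro v
    by_cases hv : v = 1
    · rw [hv, map_one]
    have hv' : σ v ≠ 1 := fun e => hv (D.sigma_bijective.1 (by rw [e, map_one]))
    simp only [hk, if_neg hv, if_neg hv', hd, hd']
  have hsum : ∑ v, k v = 0 := by
    rw [← Finset.add_sum_erase _ _ (Finset.mem_univ (1 : (P : Subgroup G)))]
    rw [Finset.sum_congr rfl (g := fun w => d w - d' w) fun w hw => by
      simp [hk, Finset.ne_of_mem_erase hw]]
    simp [hk]
  have hk1 : classInner (one' (P := P) : ↥(P : Subgroup G) → ℂ) k = 0 := by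
    rw [classInner]
    simp only [one', BlockPrincipal81.oneChar, one_mul, ← map_sum, hsum, map_zero, mul_zero]
  have hall : ∀ l : IrrCharacter (P : Subgroup G), classInner k (l : ↥(P : Subgroup G) → ℂ) = 0 := by
    intro l
    by_cases hl : l = one'
    · rw [hl, ← conj_classInner (one' (P := P) : ↥(P : Subgroup G) → ℂ) k, hk1, map_zero]
    have e1 : classInner (fO D l) k = 0 := by
      have := h l hl
      rw [classInner, classInner] at this
      rw [classInner]
      have hne : ((Nat.card (P : Subgroup G) : ℂ))⁻¹ ≠ 0 :=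
        inv_ne_zero (Nat.cast_ne_zero.mpr Nat.card_pos.ne')
      have h2 := mul_left_cancel₀ hne this
      refine mul_eq_zero_of_right _ ?_
      have e : ∀ v, fO D l v * conj (k v) = fO D l v * conj (d v) - fO D l v * conj (d' v) := by
        intro v
        by_cases hv : v = 1
        · simp [hv, fO_one D]
        · simp [hk, hv, mul_sub]
      rw [Finset.sum_congr rfl fun v _ => e v, Finset.sum_sub_distrib, h2, sub_self]
    have hrot : ∀ x : IrrCharacter (P : Subgroup G),
        classInner (rot D x : ↥(P : Subgroup G) → ℂ) k = classInner (x : ↥(P : Subgroup G) → ℂ) k := by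
      intro x
      rw [classInner, classInner, ← D.sum_sigma (fun v => (x : ↥(P : Subgroup G) → ℂ) v * conj (k v))]
      congr 1
      refine Finset.sum_congr rfl fun v _ => ?_
      rw [hks]
      rfl
    rw [classInner_fO_eq, hk1, hrot (rot D l), hrot l] at e1
    rw [← conj_classInner, show classInner (l : ↥(P : Subgroup G) → ℂ) k = 0 by
      linear_combination (-1 / 3 : ℂ) * e1, map_zero]
  have := congrFun (eq_zero_of_forall_classInner (f := k) (fun a b => by rw [D.comm b a, mul_inv_cancel_right])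
    fun χ hχ => hall ⟨χ, hχ⟩) u
  simp only [hk, if_neg hu, Pi.zero_apply] at this
  exact sub_eq_zero.mp this

theorem sum_fO (l : IrrCharacter (P : Subgroup G)) (hl : l ≠ one') :
    ∑ u, fO D l u = 3 * Nat.card (P : Subgroup G) := by
  have h1 := classInner_fO_one D hl
  rw [classInner, inv_mul_eq_iff_eq_mul₀ (Nat.cast_ne_zero.mpr Nat.card_pos.ne')] at h1
  simp only [one', BlockPrincipal81.oneChar, map_one, mul_one] at h1
  rw [h1]; ring

end Basic

/-! ### The exceptional characters -/

theorem classInner_lift_eq (D : Data P σ) {f : ↥(P : Subgroup G) → ℂ} (hf : ∀ u, f (σ u) = f u)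
    (hf1 : f 1 = 0) (hgen : IsGeneralizedCharacter (P : Subgroup G) f) :
    ∃ m : IrrCharacter G → ℤ, (∀ χ : IrrCharacter G, classInner (lift P f) (χ : G → ℂ) = m χ) ∧
      lift P f = ∑ χ : IrrCharacter G, (m χ : ℂ) • (χ : G → ℂ) :=
  exists_int_coeff (D.isGeneralizedCharacter_lift hf hgen)

/-- A square with a given bound. -/
theorem sq_le_one_of_le_three {n : ℤ} (h : n * n ≤ 3) : n = -1 ∨ n = 0 ∨ n = 1 := by
  have h1 : -2 < n := by nlinarith
  have h2 : n < 2 := by nlinarith
  omega

theorem int_of_dvd_small {a : ℕ} {e : ℤ} (he : e = 1 ∨ e = -1) (ha : 0 < a)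
    (hd : (16 : ℤ) ∣ (a : ℤ) - e) : (a = 1 ∧ e = 1) ∨ 15 ≤ a := by
  rcases he with rfl | rfl <;> omega

/-- The numerical heart of Brauer's proof. -/
theorem degrees_eq {a b x : ℕ} {e1 e2 s : ℤ} (ha : 0 < a) (hb : 0 < b) (hx : 0 < x)
    (h1 : e1 = 1 ∨ e1 = -1) (h2 : e2 = 1 ∨ e2 = -1) (hs : s = 1 ∨ s = -1)
    (da : (16 : ℤ) ∣ (a : ℤ) - e1) (db : (16 : ℤ) ∣ (b : ℤ) - e2) (dx : (16 : ℤ) ∣ (x : ℤ) + 3 * s)
    (hdeg : 1 + e1 * a + e2 * b + s * x = 0)
    (hz : (a : ℤ) * b * x + e1 * (b * x) + e2 * (a * x) + 9 * s * (a * b) = 0) :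
    a = 1 ∧ b = 1 ∧ x = 3 ∧ e1 = 1 ∧ e2 = 1 ∧ s = -1 := by
  have hx' : (x = 3 ∧ s = -1) ∨ 13 ≤ x := by rcases hs with rfl | rfl <;> omega
  have hA : (1 : ℤ) ≤ a := by exact_mod_cast ha
  have hB : (1 : ℤ) ≤ b := by exact_mod_cast hb
  have hX : (1 : ℤ) ≤ x := by exact_mod_cast hx
  have hs' : -((a : ℤ) * b) ≤ s * (a * b) := by
    rcases hs with rfl | rfl <;> nlinarith
  have h1' : -((b : ℤ) * x) ≤ e1 * (b * x) := by
    rcases h1 with rfl | rfl <;> nlinarith
  have h2' : -((a : ℤ) * x) ≤ e2 * (a * x) := by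
    rcases h2 with rfl | rfl <;> nlinarith
  rcases int_of_dvd_small h1 ha da with ⟨rfl, rfl⟩ | ha' <;>
    rcases int_of_dvd_small h2 hb db with ⟨rfl, rfl⟩ | hb'
  · rcases hs with rfl | rfl
    · omega
    · exact ⟨rfl, rfl, by omega, rfl, rfl, rfl⟩
  · exfalso
    have hB' : (15 : ℤ) ≤ b := by exact_mod_cast hb'
    rcases hx' with ⟨rfl, rfl⟩ | hx''
    · push_cast at hz
      rcases h2 with rfl | rfl <;> omega
    · have hX' : (13 : ℤ) ≤ x := by exact_mod_cast hx''
      push_cast at hz h2' hs'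
      nlinarith [mul_le_mul_of_nonneg_left hX' (by omega : (0 : ℤ) ≤ b),
        mul_le_mul_of_nonneg_left hB' (by omega : (0 : ℤ) ≤ x)]
  · exfalso
    have hA' : (15 : ℤ) ≤ a := by exact_mod_cast ha'
    rcases hx' with ⟨rfl, rfl⟩ | hx''
    · push_cast at hz
      rcases h1 with rfl | rfl <;> omega
    · have hX' : (13 : ℤ) ≤ x := by exact_mod_cast hx''
      push_cast at hz h1' hs'
      nlinarith [mul_le_mul_of_nonneg_left hX' (by omega : (0 : ℤ) ≤ a),
        mul_le_mul_of_nonneg_left hA' (by omega : (0 : ℤ) ≤ x)]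
  · exfalso
    have hA' : (15 : ℤ) ≤ a := by exact_mod_cast ha'
    have hB' : (15 : ℤ) ≤ b := by exact_mod_cast hb'
    rcases hx' with ⟨rfl, rfl⟩ | hx''
    · push_cast at hz
      rcases h1 with rfl | rfl <;> rcases h2 with rfl | rfl <;>
        nlinarith [mul_le_mul_of_nonneg_left hA' (by omega : (0 : ℤ) ≤ b),
          mul_le_mul_of_nonneg_left hB' (by omega : (0 : ℤ) ≤ a)]
    · have hX' : (13 : ℤ) ≤ x := by exact_mod_cast hx''
      have hab : (0 : ℤ) ≤ a * b := by positivity
      have hbx : (0 : ℤ) ≤ b * x := by positivity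
      have hax : (0 : ℤ) ≤ a * x := by positivity
      nlinarith [mul_le_mul_of_nonneg_left hX' hab, mul_le_mul_of_nonneg_left hA' hbx,
        mul_le_mul_of_nonneg_left hB' hax]

theorem mem_supp_iff {m : IrrCharacter G → ℤ} {c : IrrCharacter G × ℤ} :
    c ∈ ((Finset.univ.filter fun χ : IrrCharacter G =>
        χ ≠ BlockPrincipal81.oneChar G ∧ m χ ≠ 0).image fun χ => (χ, m χ)) ↔
      c.1 ≠ BlockPrincipal81.oneChar G ∧ m c.1 ≠ 0 ∧ c.2 = m c.1 := by
  simp only [Finset.mem_image, Finset.mem_filter, Finset.mem_univ, true_and]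
  constructor
  · rintro ⟨χ, ⟨h1, h2⟩, rfl⟩; exact ⟨h1, h2, rfl⟩
  · rintro ⟨h1, h2, h3⟩; exact ⟨c.1, ⟨h1, h2⟩, Prod.ext rfl h3.symm⟩

/-- The constituents other than the trivial one: two common ones and an exceptional one. -/
theorem exists_coherent (D : Data P σ) (h16 : 16 ≤ Nat.card (P : Subgroup G)) :
    ∃ (α β : IrrCharacter G) (e1 e2 : ℤ), (e1 = 1 ∨ e1 = -1) ∧ (e2 = 1 ∨ e2 = -1) ∧
      ∀ l : IrrCharacter (P : Subgroup G), l ≠ one' → ∃ (X : IrrCharacter G) (s : ℤ),
        (s = 1 ∨ s = -1) ∧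
        (lift P (fO D l) = fun g => 1 + (e1 : ℂ) * (α : G → ℂ) g + (e2 : ℂ) * (β : G → ℂ) g +
          (s : ℂ) * (X : G → ℂ) g) ∧
        classInner (lift P (fO D l)) (X : G → ℂ) = (s : ℂ) ∧
        (∀ m, m ≠ one' → (m = l ∨ m = rot D l ∨ m = rot D (rot D l) →
            classInner (lift P (fO D m)) (X : G → ℂ) = (s : ℂ)) ∧
          (¬ (m = l ∨ m = rot D l ∨ m = rot D (rot D l)) →
            classInner (lift P (fO D m)) (X : G → ℂ) = 0)) ∧
        classInner (lift P (fO D l)) (α : G → ℂ) = (e1 : ℂ) ∧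
        classInner (lift P (fO D l)) (β : G → ℂ) = (e2 : ℂ) := by
  set o := BlockPrincipal81.oneChar G with ho
  choose m hm hsum using fun l : IrrCharacter (P : Subgroup G) =>
    classInner_lift_eq D (fO_stable D l) (fO_one D l) (isGen_fO D l)
  have hone : ∀ l, l ≠ one' → m l o = 1 := by
    intro l hl
    have h := D.classInner_lift (fO_stable D l) (fO_one D l) (irr_classFun o)
    rw [hm l o] at h
    have e : classInner (fO D l) (dec P (o : G → ℂ)) = 3 := by
      refine Eq.trans ?_ (classInner_fO_one D hl)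
      rw [classInner, classInner]
      congr 1
      refine Finset.sum_congr rfl fun u _ => ?_
      by_cases hu : u = 1
      · simp [hu, fO_one D]
      · simp [dec, hu, avgSec, ho, BlockPrincipal81.oneChar, one',
          (D.card_oddCen hu).1]
    rw [e] at h
    have : (m l o : ℂ) = 1 := by linear_combination h / 3
    exact_mod_cast this
  have hinner : ∀ l k, l ≠ one' → k ≠ one' →
      ∑ χ ∈ Finset.univ.erase o, m l χ * m k χ =
        (if k = l ∨ k = rot D l ∨ k = rot D (rot D l) then 3 else 2 : ℤ) := by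
    intro l k hl hk
    have h1 := D.classInner_lift_lift (fO_stable D l) (fO_one D l) (fO_stable D k)
    rw [classInner_fO_fO D hl hk, classInner_eq_sum (D.isClassFunction_lift (fO_stable D l))] at h1
    simp only [hm, map_intCast] at h1
    rw [← Finset.add_sum_erase _ _ (Finset.mem_univ o), hone l hl, hone k hk] at h1
    have : ((∑ χ ∈ Finset.univ.erase o, m l χ * m k χ : ℤ) : ℂ) =
        ((if k = l ∨ k = rot D l ∨ k = rot D (rot D l) then 3 else 2 : ℤ) : ℂ) := by
      push_cast
      split_ifs at h1 ⊢ <;> · push_cast at h1 ⊢; linear_combination h1 / 3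
    exact_mod_cast this
  set A : IrrCharacter (P : Subgroup G) → Finset (IrrCharacter G × ℤ) := fun l =>
    (Finset.univ.filter fun χ : IrrCharacter G => χ ≠ o ∧ m l χ ≠ 0).image fun χ => (χ, m l χ)
    with hA
  have hval : ∀ l, l ≠ one' → ∀ χ, χ ≠ o → m l χ = -1 ∨ m l χ = 0 ∨ m l χ = 1 := by
    intro l hl χ hχ
    refine sq_le_one_of_le_three ?_
    have h1 := hinner l l hl hl
    rw [if_pos (Or.inl rfl)] at h1
    rw [← h1]
    exact Finset.single_le_sum (f := fun χ => m l χ * m l χ) (fun i _ => mul_self_nonneg _)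
      (Finset.mem_erase.mpr ⟨hχ, Finset.mem_univ _⟩)
  have hcardA : ∀ l, l ≠ one' → (A l).card = 3 := by
    intro l hl
    rw [hA, Finset.card_image_of_injective _ fun a b h => congrArg Prod.fst h]
    have h1 := hinner l l hl hl
    rw [if_pos (Or.inl rfl), Finset.sum_congr rfl
      (g := fun χ => if m l χ ≠ 0 then (1 : ℤ) else 0) fun χ hχ => by
        rcases hval l hl χ (Finset.ne_of_mem_erase hχ) with e | e | e <;> simp [e],
      Finset.sum_boole] at h1
    rw [← Finset.filter_filter, show (Finset.univ.filter fun χ : IrrCharacter G => χ ≠ o) =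
      Finset.univ.erase o by ext; simp]
    exact_mod_cast h1
  have hcap : ∀ l k, l ≠ one' → k ≠ one' → ¬ (k = l ∨ k = rot D l ∨ k = rot D (rot D l)) →
      (A l ∩ A k).card = 2 := by
    intro l k hl hk hne
    have h1 := hinner l k hl hk
    rw [if_neg hne] at h1
    set S := (Finset.univ.erase o).filter fun χ => m l χ * m k χ = 1 with hS
    set T := (Finset.univ.erase o).filter fun χ => m l χ * m k χ = -1 with hT
    have hsplit : ∀ χ ∈ Finset.univ.erase o, m l χ * m k χ =
        (if m l χ * m k χ = 1 then 1 else 0) - (if m l χ * m k χ = -1 then (1 : ℤ) else 0) := by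
      intro χ hχ
      rcases hval l hl χ (Finset.ne_of_mem_erase hχ) with e | e | e <;>
        rcases hval k hk χ (Finset.ne_of_mem_erase hχ) with e' | e' | e' <;> simp [e, e']
    rw [Finset.sum_congr rfl hsplit, Finset.sum_sub_distrib, Finset.sum_boole, Finset.sum_boole,
      ← hS, ← hT] at h1
    have hle : S.card + T.card ≤ 3 := by
      rw [← Finset.card_union_of_disjoint (Finset.disjoint_filter.mpr fun χ _ h h' => by omega),
        ← hcardA l hl, hA, Finset.card_image_of_injective _ fun a b h => congrArg Prod.fst h]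
      refine Finset.card_le_card fun χ hχ => ?_
      simp only [hS, hT, Finset.mem_union, Finset.mem_filter, Finset.mem_erase] at hχ
      refine Finset.mem_filter.mpr ⟨Finset.mem_univ _, ?_, ?_⟩
      · rcases hχ with h | h <;> exact h.1.1
      · intro h0
        rcases hχ with h | h <;> simp [h0] at h
    have hScard : S.card = 2 := by omega
    rw [← hScard]
    refine Finset.card_bij' (fun c _ => c.1) (fun χ _ => (χ, m l χ)) ?_ ?_ ?_ ?_
    · intro c hc
      obtain ⟨hc1, hc2⟩ := Finset.mem_inter.mp hc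
      obtain ⟨h1', h2', h3'⟩ := mem_supp_iff.mp hc1
      obtain ⟨-, -, h4'⟩ := mem_supp_iff.mp hc2
      refine Finset.mem_filter.mpr ⟨Finset.mem_erase.mpr ⟨h1', Finset.mem_univ _⟩, ?_⟩
      rw [← h4', h3']
      rcases hval l hl c.1 h1' with e | e | e
      · rw [e]; norm_num
      · exact absurd e h2'
      · rw [e]; norm_num
    · intro χ hχ
      obtain ⟨hχo, hprod⟩ := Finset.mem_filter.mp hχ
      have hχo' := Finset.ne_of_mem_erase hχo
      have hl0 : m l χ ≠ 0 := fun h => by simp [h] at hprod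
      have heq : m l χ = m k χ := by
        rcases Int.mul_eq_one_iff_eq_one_or_neg_one.mp hprod with ⟨e, e'⟩ | ⟨e, e'⟩ <;> rw [e, e']
      refine Finset.mem_inter.mpr ⟨mem_supp_iff.mpr ⟨hχo', hl0, rfl⟩,
        mem_supp_iff.mpr ⟨hχo', ?_, heq⟩⟩
      rwa [← heq]
    · intro c hc
      exact Prod.ext rfl (mem_supp_iff.mp (Finset.mem_inter.mp hc).1).2.2.symm
    · intro χ _; rfl
  set I := Finset.univ.filter fun l : IrrCharacter (P : Subgroup G) => l ≠ one' with hI
  have hmemI : ∀ l, l ∈ I ↔ l ≠ one' := fun l => by simp [hI]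
  have hAeq : ∀ l k, l ≠ one' → k ≠ one' → (k = l ∨ k = rot D l ∨ k = rot D (rot D l)) →
      A l = A k := by
    intro l k hl hk h
    have e : fO D k = fO D l := by
      rcases h with rfl | rfl | rfl
      · rfl
      · exact fO_rot D l
      · rw [fO_rot, fO_rot]
    have e2 : m k = m l := funext fun χ => by
      have := (hm k χ).symm.trans (e ▸ hm l χ)
      exact_mod_cast this
    simp only [hA, e2]
  set 𝒜 := I.image A with h𝒜
  have h5 : 5 ≤ 𝒜.card := by
    have h1 : I.card ≤ 3 * 𝒜.card := by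
      refine Finset.card_le_mul_card_image I 3 fun C hC => ?_
      obtain ⟨l, hl, rfl⟩ := Finset.mem_image.mp hC
      refine (Finset.card_le_card (t := {l, rot D l, rot D (rot D l)}) fun k hk => ?_).trans
        Finset.card_le_three
      obtain ⟨hkI, hkA⟩ := Finset.mem_filter.mp hk
      simp only [Finset.mem_insert, Finset.mem_singleton]
      by_contra hne
      have := hcap l k ((hmemI l).mp hl) ((hmemI k).mp hkI) hne
      rw [hkA, Finset.inter_self, hcardA l ((hmemI l).mp hl)] at this
      omega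
    have h2 : I.card + 1 = Nat.card (P : Subgroup G) := by
      rw [hI, Finset.filter_ne' , Finset.card_erase_of_mem (Finset.mem_univ _), Finset.card_univ,
        Nat.sub_add_cancel (Fintype.card_pos_iff.mpr ⟨one' (P := P)⟩), ← Nat.card_eq_fintype_card, card_irrCharacter]
      refine (Nat.card_eq_of_bijective (ConjClasses.mk (α := (P : Subgroup G))) ⟨?_, ?_⟩).symm
      · intro a b h
        obtain ⟨c, hc⟩ := isConj_iff.mp (ConjClasses.mk_eq_mk_iff_isConj.mp h)
        rw [← hc, D.comm c a, mul_inv_cancel_right]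
      · exact ConjClasses.mk_surjective
    omega
  obtain ⟨C, hC2, hC⟩ := exists_common_pair 𝒜
    (by intro B hB; obtain ⟨l, hl, rfl⟩ := Finset.mem_image.mp hB; exact hcardA l ((hmemI l).mp hl))
    (by
      intro B hB B' hB' hne
      obtain ⟨l, hl, rfl⟩ := Finset.mem_image.mp hB
      obtain ⟨k, hk, rfl⟩ := Finset.mem_image.mp hB'
      exact hcap l k ((hmemI l).mp hl) ((hmemI k).mp hk)
        fun h => hne (hAeq l k ((hmemI l).mp hl) ((hmemI k).mp hk) h))
    h5
  obtain ⟨⟨α, e1⟩, ⟨β, e2⟩, hab, rfl⟩ := Finset.card_eq_two.mp hC2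
  have hin : ∀ l, l ≠ one' → (α ≠ o ∧ m l α ≠ 0 ∧ e1 = m l α) ∧ (β ≠ o ∧ m l β ≠ 0 ∧ e2 = m l β) :=
    fun l hl =>
      have hsub := hC _ (Finset.mem_image.mpr ⟨l, (hmemI l).mpr hl, rfl⟩)
      ⟨mem_supp_iff.mp (hsub (Finset.mem_insert_self _ _)),
        mem_supp_iff.mp (hsub (Finset.mem_insert_of_mem (Finset.mem_singleton_self _)))⟩
  obtain ⟨l₀, hl₀⟩ : ∃ l : IrrCharacter (P : Subgroup G), l ≠ one' := by
    obtain ⟨B, hB⟩ := Finset.card_pos.mp (show 0 < 𝒜.card by omega)
    obtain ⟨l, hl, -⟩ := Finset.mem_image.mp hB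
    exact ⟨l, (hmemI l).mp hl⟩
  obtain ⟨⟨hαo, hα0, he1⟩, hβo, hβ0, he2⟩ := hin l₀ hl₀
  have hαβ : α ≠ β := fun h => hab (by rw [he1, he2, h])
  refine ⟨α, β, e1, e2, ?_, ?_, fun l hl => ?_⟩
  · rcases hval l₀ hl₀ α hαo with e | e | e <;> omega
  · rcases hval l₀ hl₀ β hβo with e | e | e <;> omega
  obtain ⟨⟨-, -, hle1⟩, -, -, hle2⟩ := hin l hl
  obtain ⟨⟨X, s⟩, hX⟩ : ∃ c, A l \ {(α, e1), (β, e2)} = {c} := Finset.card_eq_one.mp (by
    rw [Finset.card_sdiff_of_subset (hC _ (Finset.mem_image.mpr ⟨l, (hmemI l).mpr hl, rfl⟩)),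
      hcardA l hl, hC2])
  have hXmem : (X, s) ∈ A l \ {(α, e1), (β, e2)} := hX ▸ Finset.mem_singleton_self _
  obtain ⟨hXA, hXC⟩ := Finset.mem_sdiff.mp hXmem
  obtain ⟨hXo, hX0, hs⟩ := mem_supp_iff.mp hXA
  simp only at hXo hX0 hs
  have hXα : X ≠ α := fun h => hXC (by rw [hs, h, ← hle1]; exact Finset.mem_insert_self _ _)
  have hXβ : X ≠ β := fun h => hXC (by
    rw [hs, h, ← hle2]; exact Finset.mem_insert_of_mem (Finset.mem_singleton_self _))
  have hother : ∀ χ, χ ≠ o → χ ≠ α → χ ≠ β → χ ≠ X → m l χ = 0 := by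
    intro χ h1 h2 h3 h4
    by_contra h0
    have h5' : (χ, m l χ) ∈ A l \ {(α, e1), (β, e2)} :=
      Finset.mem_sdiff.mpr ⟨mem_supp_iff.mpr ⟨h1, h0, rfl⟩, by simp [h2, h3]⟩
    rw [hX, Finset.mem_singleton] at h5'
    exact h4 (congrArg Prod.fst h5')
  refine ⟨X, s, ?_, ?_, by rw [hm, ← hs], fun k hk => ⟨fun h => ?_, fun h => ?_⟩,
    by rw [hm, ← hle1], by rw [hm, ← hle2]⟩
  · rcases hval l hl X hXo with e | e | e <;> omega
  · refine (hsum l).trans (funext fun g => ?_)
    rw [Finset.sum_apply, ← Finset.sum_subset (Finset.subset_univ {o, α, β, X}) fun χ _ hχ => ?_]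
    · rw [Finset.sum_insert (by
        simp only [Finset.mem_insert, Finset.mem_singleton, not_or]
        exact ⟨hαo.symm, hβo.symm, Ne.symm hXo⟩),
        Finset.sum_insert (by simp [hαβ, hXα.symm]), Finset.sum_insert (by simp [hXβ.symm]),
        Finset.sum_singleton]
      simp only [Pi.smul_apply, smul_eq_mul, hone l hl, ← hle1, ← hle2, ← hs, Int.cast_one]
      simp only [ho, BlockPrincipal81.oneChar]
      ring
    · simp only [Finset.mem_insert, Finset.mem_singleton, not_or] at hχ
      simp [hother χ hχ.1 hχ.2.1 hχ.2.2.1 hχ.2.2.2]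
  · rw [hm]
    have : (X, s) ∈ A k := hAeq l k hl hk h ▸ hXA
    exact_mod_cast (mem_supp_iff.mp this).2.2.symm
  · rw [hm]
    obtain ⟨⟨-, -, hke1⟩, -, -, hke2⟩ := hin k hk
    by_contra h0
    have hk0 : m k X ≠ 0 := fun e => h0 (by rw [e, Int.cast_zero])
    have hinnerlk := hinner l k hl hk
    rw [if_neg h] at hinnerlk
    rw [← Finset.sum_subset (s₁ := {α, β, X}) (fun χ hχ => Finset.mem_erase.mpr ⟨?_, Finset.mem_univ _⟩)
      (fun χ hχ hχ' => ?_), Finset.sum_insert (by simp [hαβ, hXα.symm]),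
      Finset.sum_insert (by simp [hXβ.symm]), Finset.sum_singleton] at hinnerlk
    · obtain ⟨⟨-, ha0, -⟩, -, hb0, -⟩ := hin l hl
      have ea : m l α * m k α = 1 := by
        rw [← hke1, hle1]
        rcases hval l hl α hαo with e | e | e
        · rw [e]; norm_num
        · exact absurd e ha0
        · rw [e]; norm_num
      have eb : m l β * m k β = 1 := by
        rw [← hke2, hle2]
        rcases hval l hl β hβo with e | e | e
        · rw [e]; norm_num
        · exact absurd e hb0
        · rw [e]; norm_num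
      rw [ea, eb] at hinnerlk
      have : m l X * m k X = 0 := by omega
      rcases mul_eq_zero.mp this with e | e
      · exact hX0 e
      · exact hk0 e
    · simp only [Finset.mem_insert, Finset.mem_singleton] at hχ
      rcases hχ with rfl | rfl | rfl
      exacts [hαo, hβo, hXo]
    · simp only [Finset.mem_insert, Finset.mem_singleton, not_or] at hχ'
      rw [hother χ (Finset.ne_of_mem_erase hχ) hχ'.1 hχ'.2.1 hχ'.2.2, zero_mul]

end Cfsg.Agent.BlockHomocyclicMain9
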