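import Mathlib

/-!
The Diophantine part of the index three principal block theorem.
-/

set_option autoImplicit false

namespace Cfsg.Agent.BlockIndexThree86

theorem isSquare_of_mul_sq {n k j : ℤ} (hk : k ≠ 0) (h : n * k ^ 2 = j ^ 2) : IsSquare n := by
  obtain ⟨l, rfl⟩ : k ∣ j := (Int.pow_dvd_pow_iff two_ne_zero).1 ⟨n, by rw [← h, mul_comm]⟩
  exact ⟨l, mul_right_cancel₀ (pow_ne_zero 2 hk) (by linear_combination h)⟩

theorem not_one_neg {B C D U V W : ℤ} (hx : 1 + B + C + D = 0) (hu : 1 + U + V + W = 0)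
    (hq : B * C * D + U ^ 2 * (C * D) + V ^ 2 * (B * D) + W ^ 2 * (B * C) = 0)
    (hUB : U ≠ B) (hB : 0 < B) (hC : 0 < C) : False := by
  obtain rfl : D = -(1 + B + C) := by omega
  obtain rfl : W = -(1 + U + V) := by omega
  have h1 : C * (B - U) ^ 2 + B * (C - V) ^ 2 + (U * C - V * B) ^ 2 = 0 := by
    linear_combination -hq
  have h2 : 0 < (B - U) ^ 2 := pow_two_pos_of_ne_zero (sub_ne_zero.2 hUB.symm)
  nlinarith [mul_pos hC h2, mul_nonneg hB.le (sq_nonneg (C - V)), sq_nonneg (U * C - V * B)]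

theorem square_two_neg {B C D U V W : ℤ} (hx : 1 + B + C + D = 0) (hu : 1 + U + V + W = 0)
    (hq : B * C * D + U ^ 2 * (C * D) + V ^ 2 * (B * D) + W ^ 2 * (B * C) = 0)
    (hWD : W ≠ D) : IsSquare (B * C * D) := by
  refine isSquare_of_mul_sq (k := D - W) (j := D * (U * C - V * B))
    (sub_ne_zero.2 hWD.symm) ?_
  obtain rfl : B = -(1 + C + D) := by omega
  obtain rfl : U = -(1 + V + W) := by omega
  linear_combination ((1 + D) * D) * hq

/-- Exactly two of `B C D` are negative and the product is a square. -/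
theorem two_neg_square {B C D U V W : ℤ} (hB : B ≠ 0) (hC : C ≠ 0) (hD : D ≠ 0)
    (hx : 1 + B + C + D = 0) (hu : 1 + U + V + W = 0)
    (hq : B * C * D + U ^ 2 * (C * D) + V ^ 2 * (B * D) + W ^ 2 * (B * C) = 0)
    (hUB : U ≠ B) (hVC : V ≠ C) (hWD : W ≠ D) :
    (if B < 0 then 1 else 0) + (if C < 0 then 1 else 0) + (if D < 0 then 1 else 0) = 2 ∧
      IsSquare (B * C * D) := by
  refine ⟨?_, square_two_neg hx hu hq hWD⟩
  rcases lt_or_gt_of_ne hB with hB' | hB' <;> rcases lt_or_gt_of_ne hC with hC' | hC' <;>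
    rcases lt_or_gt_of_ne hD with hD' | hD'
  all_goals first
    | exact absurd hx (by omega)
    | (simp only [hB', hC', hD', hB'.not_gt, hC'.not_gt, hD'.not_gt, if_true, if_false]; done)
    | exact (not_one_neg hx hu hq hUB hB' hC').elim
    | exact (not_one_neg (B := B) (C := D) (D := C) (U := U) (V := W) (W := V) (by omega) (by omega)
        (by linear_combination hq) hUB hB' hD').elim
    | exact (not_one_neg (B := C) (C := D) (D := B) (U := V) (V := W) (W := U) (by omega) (by omega)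
        (by linear_combination hq) hVC hC' hD').elim

/-- The equation which arises for `p = 2` has no solution. -/
theorem no_two_solution {n₂ n₃ n₄ q a₂ a₃ δ : ℤ} (ha₂ : a₂ = 1 ∨ a₂ = -1) (ha₃ : a₃ = 1 ∨ a₃ = -1)
    (hδ : δ = 1 ∨ δ = -1) (hq : 16 ≤ q) (h2 : 15 ≤ n₂) (h3 : 15 ≤ n₃) (h4 : 0 < n₄)
    (hdvd : q ∣ n₄ - 3 * δ)
    (he : n₂ * n₃ * n₄ + a₂ * (n₃ * n₄) + a₃ * (n₂ * n₄) - 9 * δ * (n₂ * n₃) = 0) : False := by
  have h23 : 0 < n₂ * n₃ := mul_pos (by omega) (by omega)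
  have e2 : 15 * n₃ ≤ n₂ * n₃ := by nlinarith
  have e3 : 15 * n₂ ≤ n₂ * n₃ := by nlinarith
  have k2 : -n₃ ≤ a₂ * n₃ := by rcases ha₂ with rfl | rfl <;> omega
  have k3 : -n₂ ≤ a₃ * n₂ := by rcases ha₃ with rfl | rfl <;> omega
  have u2 : a₂ * n₃ ≤ n₃ := by rcases ha₂ with rfl | rfl <;> omega
  have u3 : a₃ * n₂ ≤ n₂ := by rcases ha₃ with rfl | rfl <;> omega
  have key : n₄ * (13 * (n₂ * n₃)) ≤ 15 * (n₄ * (n₂ * n₃ + a₂ * n₃ + a₃ * n₂)) := by nlinarith
  rcases hδ with rfl | rfl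
  · have hle : n₄ ≤ 10 := by nlinarith
    obtain ⟨c, hc⟩ := hdvd
    obtain rfl : n₄ = 3 := by
      rcases lt_trichotomy c 0 with h | rfl | h
      · nlinarith
      · omega
      · nlinarith
    nlinarith
  · nlinarith [mul_pos h4 h23]

end Cfsg.Agent.BlockIndexThree86
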