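import Cfsg.Agent.Lib.BlockAbelianSylowOrbit86
import Cfsg.Agent.Lib.CharKernel
import Cfsg.Agent.Lib.BlockIndexThreeArith86

/-!
The principal block when the inertia quotient of the abelian Sylow subgroup has order three.
-/

set_option autoImplicit false

open scoped ComplexConjugate IsMulCommutative

namespace Cfsg.Agent.BlockIndexThree86

open Cfsg Cfsg.Agent.BlockTheoryLocalRing Cfsg.Agent.BlockTheoryCentre
  Cfsg.Agent.BlockTheoryIdem Cfsg.Agent.BlockPrincipal81 Cfsg.Agent.CharBasic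
  Cfsg.Agent.CharBasicOrth Cfsg.Agent.BlockAbelianSylow86

attribute [local instance] Classical.propDecidable

universe u

variable {G : Type u} [Group G] [Fintype G] {p : ℕ} [Fact p.Prime] {M : Ideal AlgInt}
  {P : Sylow p G}

theorem kerN_eq : kerN P = (conjP P).ker := ((P : Subgroup G).normalizerMonoidHom_ker).symm

instance kerN_normal : (kerN P).Normal := kerN_eq (P := P) ▸ inferInstance

variable (hab : IsMulCommutative (P : Subgroup G)) (hfree : FreeAction P)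
  (hm : (Subgroup.centralizer ((P : Subgroup G) : Set G)).relIndex
    (Subgroup.normalizer ((P : Subgroup G) : Set G)) = 3)

include hab hfree hm in
theorem inv_conj_trivial {y : ↥(P : Subgroup G)} (n : ↥(Subgroup.normalizer ((P : Subgroup G) : Set G)))
    (h : conjP P n y = y⁻¹) : y⁻¹ = y := by
  rcases eq_or_ne y 1 with rfl | hy
  · exact inv_one
  have h2 : n ^ 2 ∈ kerN P := by
    rw [← fixed_iff hab hfree hy, pow_two, map_mul, MulAut.mul_apply, h, map_inv, h, inv_inv]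
  have h3 : n ^ 3 ∈ kerN P := by
    have := (kerN P).pow_index_mem n
    rwa [show (kerN P).index = 3 from hm] at this
  have hn : n ∈ kerN P := by
    have := mul_mem (inv_mem h2) h3
    rwa [pow_succ n 2, inv_mul_cancel_left] at this
  rw [(fixed_iff hab hfree hy n).2 hn] at h
  exact h.symm

include hab hfree hm in
theorem exists_generator : ∃ n₀ : ↥(Subgroup.normalizer ((P : Subgroup G) : Set G)),
    n₀ ∉ kerN P ∧ n₀ ^ 3 ∈ kerN P ∧
    ∀ n, ∃ i < 3, ∀ y, conjP P n y = conjP P (n₀ ^ i) y := by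
  obtain ⟨n₀, hn₀⟩ : ∃ n₀, n₀ ∉ kerN P := by
    by_contra h
    push Not at h
    have hi : (kerN P).index = 3 := hm
    rw [(Subgroup.eq_top_iff' _).2 h, Subgroup.index_top] at hi
    omega
  have h3 : n₀ ^ 3 ∈ kerN P := by
    have := (kerN P).pow_index_mem n₀
    rwa [show (kerN P).index = 3 from hm] at this
  refine ⟨n₀, hn₀, h3, fun n => ?_⟩
  have hcard : Nat.card (↥(Subgroup.normalizer ((P : Subgroup G) : Set G)) ⧸ kerN P) = 3 := hm
  haveI : Fact (Nat.Prime 3) := ⟨by norm_num⟩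
  have hord : orderOf ((n₀ : _ ⧸ kerN P)) = 3 :=
    orderOf_eq_prime (by rw [← QuotientGroup.mk_pow, QuotientGroup.eq_one_iff]; exact h3)
      (fun h => hn₀ ((QuotientGroup.eq_one_iff _).1 h))
  have hmem : (n : _ ⧸ kerN P) ∈ Subgroup.zpowers ((n₀ : _ ⧸ kerN P)) := by
    have htop : Subgroup.zpowers ((n₀ : _ ⧸ kerN P)) = ⊤ :=
      Subgroup.eq_top_of_card_eq _ (by rw [Nat.card_zpowers, hord, hcard])
    rw [htop]; trivial
  obtain ⟨i, hi⟩ := mem_powers_iff_mem_zpowers.2 hmem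
  refine ⟨i % 3, Nat.mod_lt _ (by norm_num), fun y => ?_⟩
  simp only at hi
  rw [← pow_mod_orderOf, hord, ← QuotientGroup.mk_pow, QuotientGroup.eq] at hi
  rw [kerN_eq, MonoidHom.mem_ker, map_mul, map_inv, inv_mul_eq_one] at hi
  rw [hi]

include hab hfree hm in
theorem orbitSum_three [Fintype ↥(P : Subgroup G)] [Fintype (↥(P : Subgroup G) →* ℂˣ)]
    {n₀ : ↥(Subgroup.normalizer ((P : Subgroup G) : Set G))}
    (hgen : ∀ n, ∃ i < 3, ∀ y, conjP P n y = conjP P (n₀ ^ i) y)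
    {φ : ↥(P : Subgroup G) →* ℂˣ} (hφ : φ ≠ 1) (y : ↥(P : Subgroup G)) :
    orbitSum φ y = (φ y : ℂ) + (φ (conjP P n₀ y) : ℂ) + (φ (conjP P (n₀ ^ 2) y) : ℂ) := by
  have hsub : Finset.univ.filter (fun ψ => SameOrbit P ψ φ) =
      (Finset.range 3).image (fun i => act P φ (n₀ ^ i)) := by
    ext ψ
    simp only [Finset.mem_filter, Finset.mem_univ, true_and, Finset.mem_image, Finset.mem_range]
    constructor
    · rintro ⟨n, rfl⟩
      obtain ⟨i, hi, he⟩ := hgen n
      exact ⟨i, hi, MonoidHom.ext fun w => by rw [act_apply, act_apply, he]⟩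
    · rintro ⟨i, -, rfl⟩
      exact ⟨_, rfl⟩
  have hinj : Set.InjOn (fun i => act P φ (n₀ ^ i)) (Finset.range 3 : Set ℕ) := by
    rw [← Finset.card_image_iff, ← hsub, Finset.card_range, ← Fintype.card_subtype,
      ← Nat.card_eq_fintype_card, card_orbit hab hfree 3 hm hφ]
  rw [orbitSum, hsub, Finset.sum_image hinj, Finset.sum_range_succ, Finset.sum_range_succ,
    Finset.sum_range_one, act_apply, act_apply, act_apply, pow_zero, pow_one, map_one]
  rfl

include hab hfree in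
/-- A class multiplication coefficient vanishing on a whole section. -/
theorem section_sum (hM : IsPModular p M) (a b : G) {y : G} (hy : y ∈ (P : Subgroup G)) (hy1 : y ≠ 1)
    (h : ∀ k, Commute y k → ¬ p ∣ orderOf k → ∀ x, ¬ IsConj (y * k) (a * (x * b * x⁻¹))) :
    ∑ χ ∈ Finset.univ.filter (fun χ : IrrCharacter G => χ ∈ principalBlock M G),
      (χ : G → ℂ) a * (χ : G → ℂ) b * conj ((χ : G → ℂ) y) / (χ : G → ℂ) 1 = 0 := by
  obtain ⟨K, hKn, hKc, -, hKmem⟩ := exists_complement hab hfree hy hy1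
  have hC : ∀ k : ↥(Subgroup.centralizer ({y} : Set G)), Commute y (k : G) := fun k => (hH y _).1 k.2
  have hreg : ∀ k : ↥K, ¬ p ∣ orderOf ((k : ↥(Subgroup.centralizer ({y} : Set G))) : G) := fun k => by
    rw [Subgroup.orderOf_coe]; exact (hKmem _).1 k.2
  have h0 : ∀ k : ↥K, ∑ χ : IrrCharacter G, (χ : G → ℂ) a * (χ : G → ℂ) b *
      conj ((χ : G → ℂ) (y * ((k : ↥(Subgroup.centralizer ({y} : Set G))) : G))) / (χ : G → ℂ) 1 = 0 := by
    intro k
    rw [ClassAlgebraVal.sum_irr_triple]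
    haveI : IsEmpty {x : G // IsConj (y * ((k : ↥(Subgroup.centralizer ({y} : Set G))) : G))
        (a * (x * b * x⁻¹))} := ⟨fun x => h _ (hC _) (hreg k) x.1 x.2⟩
    rw [@Nat.card_of_isEmpty _ this]
    simp
  have h1 := Finset.sum_eq_zero (s := Finset.univ) fun k _ => h0 k
  rw [Finset.sum_comm] at h1
  have h2 : ∀ χ : IrrCharacter G, ∑ k : ↥K, (χ : G → ℂ) a * (χ : G → ℂ) b *
      conj ((χ : G → ℂ) (y * ((k : ↥(Subgroup.centralizer ({y} : Set G))) : G))) / (χ : G → ℂ) 1 =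
      if χ ∈ principalBlock M G then (Nat.card K : ℂ) *
        ((χ : G → ℂ) a * (χ : G → ℂ) b * conj ((χ : G → ℂ) y) / (χ : G → ℂ) 1) else 0 := by
    intro χ
    split_ifs with hχ
    · rw [Finset.sum_congr rfl fun k _ => by rw [apply_mul hab hfree hM hy hy1 hχ (hC _) (hreg k)],
        Finset.sum_const, nsmul_eq_mul, Finset.card_univ, Nat.card_eq_fintype_card]
    · rw [← Finset.sum_div, ← Finset.mul_sum, ← map_sum]
      have := ZStarSection.apply_average_eq_zero hM (pElem hy)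
        (K := K.map (Subgroup.centralizer ({y} : Set G)).subtype) ?_ ?_ ?_ ?_ hχ
      · rw [show ∑ k : ↥K, (χ : G → ℂ) (y * ((k : ↥(Subgroup.centralizer ({y} : Set G))) : G)) = 0 from
          Eq.trans (Fintype.sum_equiv (K.equivMapOfInjective _ (Subgroup.subtype_injective _)).toEquiv _ _
            fun k => rfl) this]
        simp
      · rintro _ ⟨k, -, rfl⟩; exact hC k
      · rwa [Subgroup.card_map_of_injective (Subgroup.subtype_injective _)]
      · rintro g hg _ ⟨k, hk, rfl⟩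
        exact ⟨⟨g, (hH y g).2 hg⟩ * k * ⟨g, (hH y g).2 hg⟩⁻¹, hKn.conj_mem k hk _, rfl⟩
      · intro g hg hgr
        exact ⟨⟨g, (hH y g).2 hg⟩, (hKmem _).2 (by rwa [Subgroup.orderOf_mk]), rfl⟩
  rw [Finset.sum_congr rfl fun χ _ => h2 χ, ← Finset.sum_filter, ← Finset.mul_sum] at h1
  exact (mul_eq_zero.1 h1).resolve_left (Nat.cast_ne_zero.2 Nat.card_pos.ne')

theorem exists_involutions {t x z : G} (ht : t * t = 1) (h : IsConj z (t * (x * t * x⁻¹))) :
    ∃ u v : G, IsConj t u ∧ IsConj t v ∧ u * u = 1 ∧ v * v = 1 ∧ z = u * v ∧ u * z * u⁻¹ = z⁻¹ := by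
  obtain ⟨c, hc⟩ := isConj_iff.1 h.symm
  have hu : IsConj t (c * t * c⁻¹) := isConj_iff.2 ⟨c, rfl⟩
  have hv : IsConj t (c * (x * t * x⁻¹) * c⁻¹) := isConj_iff.2 ⟨c * x, by group⟩
  have hsq : ∀ w, IsConj t w → w * w = 1 := by
    intro w hw
    obtain ⟨d, rfl⟩ := isConj_iff.1 hw
    rw [conj_mul, ht, mul_one, mul_inv_cancel]
  refine ⟨_, _, hu, hv, hsq _ hu, hsq _ hv, by rw [← hc]; group, ?_⟩
  have hz : z = (c * t * c⁻¹) * (c * (x * t * x⁻¹) * c⁻¹) := by rw [← hc]; group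
  have h1 := hsq _ hu
  have h2 := hsq _ hv
  generalize c * t * c⁻¹ = U at hz h1
  generalize c * (x * t * x⁻¹) * c⁻¹ = V at hz h2
  subst hz
  rw [mul_inv_rev, inv_eq_of_mul_eq_one_left h1, inv_eq_of_mul_eq_one_left h2, ← mul_assoc U U V,
    h1, one_mul]

include hab hfree hm in
theorem inverted_part (hp : p.Prime) {y k u : G} (hy : y ∈ (P : Subgroup G)) (hyk : Commute y k)
    (hk : ¬ p ∣ orderOf k) (hu : u * (y * k) * u⁻¹ = (y * k)⁻¹) :
    u * y * u⁻¹ = y⁻¹ ∧ y * y = 1 := by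
  obtain ⟨j, hj⟩ := pElem hy
  have e1 : u * y * u⁻¹ = y⁻¹ := by
    refine pPart_unique hp (g := (y * k)⁻¹) ⟨u * k * u⁻¹, ?_, ?_, ?_, ?_⟩
      ⟨k⁻¹, by rw [← mul_inv_rev, hyk.eq], hyk.inv_inv, ⟨j, by rw [orderOf_inv, hj]⟩,
        by rwa [orderOf_inv]⟩
    · rw [← hu]; group
    · exact hyk.map (MulAut.conj u).toMonoidHom
    · exact ⟨j, hj ▸ orderOf_injective (MulAut.conj u).toMonoidHom (MulAut.conj u).injective y⟩
    · exact (orderOf_injective (MulAut.conj u).toMonoidHom (MulAut.conj u).injective k).symm ▸ hk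
  refine ⟨e1, ?_⟩
  obtain ⟨n, hn, he⟩ := exists_normalizer_conj hab hy (inv_mem hy) (isConj_iff.2 ⟨u, e1⟩)
  have := inv_conj_trivial hab hfree hm (y := ⟨y, hy⟩) ⟨n, hn⟩ (Subtype.ext he)
  exact mul_eq_one_iff_eq_inv.2 (congrArg Subtype.val this).symm

include hab hfree hm in
/-- In odd characteristic no element of a section is a product of two involutions. -/
theorem not_product_odd (hp : p ≠ 2) {y : G} (hy : y ∈ (P : Subgroup G)) (hy1 : y ≠ 1) {t : G}
    (ht : t * t = 1) :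
    ∀ k, Commute y k → ¬ p ∣ orderOf k → ∀ x, ¬ IsConj (y * k) (t * (x * t * x⁻¹)) := by
  intro k hyk hk x hc
  obtain ⟨u, v, -, -, -, -, -, hu⟩ := exists_involutions ht hc
  obtain ⟨-, h2⟩ := inverted_part hab hfree hm Fact.out hy hyk hk hu
  have := (singular hy hy1).trans (orderOf_dvd_of_pow_eq_one (show y ^ 2 = 1 by rw [pow_two, h2]))
  exact hp ((Nat.prime_dvd_prime_iff_eq Fact.out Nat.prime_two).1 this)

include hab hfree in
theorem mem_sylow_conj {y w : G} (hy : y ∈ (P : Subgroup G)) (hw : Commute y w)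
    (hwp : ∃ j, orderOf w = p ^ j) : ∃ c, Commute y c ∧ c * w * c⁻¹ ∈ (P : Subgroup G) := by
  have _ := hfree
  have hle : (P : Subgroup G) ≤ Subgroup.centralizer ({y} : Set G) := fun z hz =>
    Subgroup.mem_centralizer_singleton_iff.2
      (congrArg Subtype.val (mul_comm' (⟨z, hz⟩ : (P : Subgroup G)) ⟨y, hy⟩))
  obtain ⟨j, hj⟩ := hwp
  have hW : IsPGroup p (Subgroup.zpowers (⟨w, (hH y w).2 hw⟩ : ↥(Subgroup.centralizer ({y} : Set G)))) :=
    IsPGroup.iff_card.2 ⟨j, by rw [Nat.card_zpowers, Subgroup.orderOf_mk, hj]⟩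
  obtain ⟨Q, hQ⟩ := hW.exists_le_sylow
  obtain ⟨c, hc⟩ := MulAction.exists_smul_eq ↥(Subgroup.centralizer ({y} : Set G)) Q (P.subtype hle)
  have hmem : c * ⟨w, (hH y w).2 hw⟩ * c⁻¹ ∈
      ((P.subtype hle : Sylow p ↥(Subgroup.centralizer ({y} : Set G))) : Subgroup _) := by
    rw [← hc, Sylow.coe_subgroup_smul]
    exact ⟨_, hQ (Subgroup.mem_zpowers _), rfl⟩
  rw [Sylow.coe_subtype, Subgroup.mem_subgroupOf] at hmem
  exact ⟨c, (hH y c).1 c.2, hmem⟩

include hab hfree in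
theorem section_unique {y : G} (hy : y ∈ (P : Subgroup G)) (hy1 : y ≠ 1) {ρ σ k c : G}
    (hρ : ρ ∈ (P : Subgroup G)) (hσ : σ ∈ (P : Subgroup G)) (hk : Commute y k)
    (hkr : ¬ p ∣ orderOf k) (hc : Commute y c) (h : c * (ρ * k) * c⁻¹ = σ) : σ = ρ := by
  obtain ⟨K, hKn, hKc, hKcard, hKmem⟩ := exists_complement hab hfree hy hy1
  have hle : (P : Subgroup G) ≤ Subgroup.centralizer ({y} : Set G) := fun z hz =>
    Subgroup.mem_centralizer_singleton_iff.2
      (congrArg Subtype.val (mul_comm' (⟨z, hz⟩ : (P : Subgroup G)) ⟨y, hy⟩))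
  set f : ↥(P : Subgroup G) →* ↥(Subgroup.centralizer ({y} : Set G)) ⧸ K :=
    (QuotientGroup.mk' K).comp (Subgroup.inclusion hle) with hf
  have hinj : Function.Injective f := by
    rw [injective_iff_map_eq_one]
    intro z hz
    rw [hf, MonoidHom.comp_apply, QuotientGroup.mk'_apply, QuotientGroup.eq_one_iff, hKmem,
      ← Subgroup.orderOf_coe, Subgroup.coe_inclusion] at hz
    by_contra hne
    exact hz (singular z.2 fun e => hne (Subtype.ext e))
  have hbij : Function.Bijective f := by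
    refine (Nat.bijective_iff_injective_and_card _).2 ⟨hinj, ?_⟩
    have h1 := Subgroup.card_eq_card_quotient_mul_card_subgroup K
    rw [← hKcard, mul_comm] at h1
    exact Nat.eq_of_mul_eq_mul_right Nat.card_pos h1
  obtain ⟨π, hπ⟩ := hbij.2 (QuotientGroup.mk' K ⟨c, (hH y c).2 hc⟩)
  have hk1 : QuotientGroup.mk' K ⟨k, (hH y k).2 hk⟩ = 1 :=
    (QuotientGroup.eq_one_iff _).2 ((hKmem _).2 (by rwa [Subgroup.orderOf_mk]))
  have e : (⟨σ, hle hσ⟩ : ↥(Subgroup.centralizer ({y} : Set G))) =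
      ⟨c, (hH y c).2 hc⟩ * (⟨ρ, hle hρ⟩ * ⟨k, (hH y k).2 hk⟩) * ⟨c, (hH y c).2 hc⟩⁻¹ := Subtype.ext h.symm
  have e2 : f ⟨σ, hσ⟩ = f π * f ⟨ρ, hρ⟩ * (f π)⁻¹ := by
    show QuotientGroup.mk' K ⟨σ, hle hσ⟩ = _
    rw [e, map_mul, map_mul, map_mul, map_inv, hk1, mul_one, hπ]
    rfl
  rw [← map_mul, mul_comm' π, map_mul, mul_inv_cancel_right] at e2
  exact congrArg Subtype.val (hbij.1 e2)

include hab hfree hm in
/-- In characteristic two there is an element whose section contains no product of two conjugates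
of a given involution. -/
theorem not_product_two (hp : p = 2) {t : G} {t₀ : ↥(P : Subgroup G)} (ht : t * t = 1)
    (ht₀ : IsConj t (t₀ : G)) (ht₁ : t₀ ≠ 1) {y : G} (hy : y ∈ (P : Subgroup G)) (hy1 : y ≠ 1)
    (hout : ∀ n, conjP P n t₀ ≠ ⟨y, hy⟩) :
    ∀ k, Commute y k → ¬ p ∣ orderOf k → ∀ x, ¬ IsConj (y * k) (t * (x * t * x⁻¹)) := by
  intro k hyk hk x hc
  obtain ⟨u, v, hu, hv, huu, hvv, huv, hinv⟩ := exists_involutions ht hc
  obtain ⟨e1, e2⟩ := inverted_part hab hfree hm Fact.out hy hyk hk hinv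
  have hyu : Commute y u := by
    rw [inv_eq_of_mul_eq_one_left e2] at e1
    exact (mul_inv_eq_iff_eq_mul.1 e1).symm
  have hord : ∀ w : G, w * w = 1 → ∃ j, orderOf w = p ^ j := fun w hw => by
    obtain ⟨j, -, hj⟩ := (Nat.dvd_prime_pow (Fact.out : p.Prime) (m := 1)).1
      (orderOf_dvd_of_pow_eq_one (show w ^ p ^ 1 = 1 by rw [pow_one, hp, pow_two, hw]))
    exact ⟨j, hj⟩
  obtain ⟨c, hcy, hcu⟩ := mem_sylow_conj hab hfree hy hyu (hord u huu)
  have hcv : c * v * c⁻¹ = (c * u * c⁻¹ * y) * (c * k * c⁻¹) := by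
    have hcyc : c * y * c⁻¹ = y := mul_inv_eq_iff_eq_mul.2 hcy.symm
    have hv' : v = u * (y * k) := by rw [huv, ← mul_assoc, huu, one_mul]
    rw [hv']
    conv_rhs => rw [← hcyc]
    group
  have hkc : Commute y (c * k * c⁻¹) := (hcy.mul_right hyk).mul_right hcy.inv_right
  have hyv : Commute y (c * v * c⁻¹) := by
    rw [hcv]
    exact ((((hcy.mul_right hyu).mul_right hcy.inv_right)).mul_right (Commute.refl y)).mul_right hkc
  obtain ⟨d, hdy, hdv⟩ := mem_sylow_conj hab hfree hy hyv (hord _ (by rw [conj_mul, hvv, mul_one, mul_inv_cancel]))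
  have hσ : d * (c * v * c⁻¹) * d⁻¹ = c * u * c⁻¹ * y :=
    section_unique hab hfree hy hy1 (mul_mem hcu hy) hdv hkc
      ((orderOf_injective (MulAut.conj c).toMonoidHom (MulAut.conj c).injective k).symm ▸ hk)
      hdy (by rw [← hcv])
  have horb : ∀ w : ↥(P : Subgroup G), IsConj t (w : G) → ∃ n, conjP P n t₀ = w := by
    intro w hw
    obtain ⟨n, hn, he⟩ := exists_normalizer_conj hab t₀.2 w.2 (ht₀.symm.trans hw)
    exact ⟨⟨n, hn⟩, Subtype.ext he⟩
  obtain ⟨n₁, hn₁⟩ := horb ⟨_, hcu⟩ (hu.trans (isConj_iff.2 ⟨c, rfl⟩))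
  obtain ⟨n₂, hn₂⟩ := horb ⟨_, mul_mem hcu hy⟩
    (hv.trans (isConj_iff.2 ⟨d * c, by show _ = c * u * c⁻¹ * y; rw [← hσ]; group⟩))
  obtain ⟨n₀, hn₀, hn₀3, hgen⟩ := exists_generator hab hfree hm
  have hY : conjP P n₁ t₀ * conjP P n₂ t₀ = ⟨y, hy⟩ := by
    rw [hn₁, hn₂]
    refine Subtype.ext ?_
    show c * u * c⁻¹ * (c * u * c⁻¹ * y) = y
    rw [← mul_assoc, conj_mul, huu, mul_one, mul_inv_cancel, one_mul]
  have hsq : ∀ n, conjP P n t₀ * conjP P n t₀ = 1 := by
    intro n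
    rw [← map_mul, show t₀ * t₀ = 1 from ?_, map_one]
    obtain ⟨g, hg⟩ := isConj_iff.1 ht₀
    refine Subtype.ext ?_
    show (t₀ : G) * t₀ = 1
    rw [← hg, conj_mul, ht, mul_one, mul_inv_cancel]
  have hprod : t₀ * conjP P n₀ t₀ * conjP P (n₀ ^ 2) t₀ = 1 := by
    by_contra hne
    refine hn₀ ((fixed_iff hab hfree hne n₀).1 ?_)
    have h1 : conjP P n₀ (conjP P (n₀ ^ 2) t₀) = t₀ := by
      rw [← MulAut.mul_apply, ← map_mul, ← pow_succ', (fixed_iff hab hfree ht₁ _).2 hn₀3]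
    have h2 : conjP P n₀ (conjP P n₀ t₀) = conjP P (n₀ ^ 2) t₀ := by
      rw [← MulAut.mul_apply, ← map_mul, pow_two]
    rw [map_mul, map_mul, h1, h2, mul_comm', ← mul_assoc]
  set A := t₀ with hA
  set B := conjP P n₀ t₀ with hB
  set C := conjP P (n₀ ^ 2) t₀ with hC
  have hA2 : A * A = 1 := by simpa using hsq 1
  have hB2 : B * B = 1 := hsq n₀
  have hC2 : C * C = 1 := hsq _
  have hthree : ∀ n, conjP P n t₀ = A ∨ conjP P n t₀ = B ∨ conjP P n t₀ = C := by
    intro n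
    obtain ⟨i, hi, he⟩ := hgen n
    rw [he]
    interval_cases i
    · left; simp [hA]
    · right; left; rw [pow_one]
    · right; right; rfl
  have eAB : A * B = C := mul_eq_one_iff_eq_inv.1 hprod |>.trans (inv_eq_of_mul_eq_one_left hC2)
  have eBC : B * C = A := by rw [← eAB, mul_comm' A, ← mul_assoc, hB2, one_mul]
  have eAC : A * C = B := by rw [← eAB, ← mul_assoc, hA2, one_mul]
  have hy' : (⟨y, hy⟩ : ↥(P : Subgroup G)) = A ∨ (⟨y, hy⟩ : ↥(P : Subgroup G)) = B ∨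
      (⟨y, hy⟩ : ↥(P : Subgroup G)) = C ∨ (⟨y, hy⟩ : ↥(P : Subgroup G)) = 1 := by
    rw [← hY]
    rcases hthree n₁ with e | e | e <;> rcases hthree n₂ with e' | e' | e' <;> rw [e, e'] <;>
      first
        | (simp only [hA2, hB2, hC2, or_true]; done)
        | (simp only [eAB, eBC, eAC, true_or, or_true]; done)
        | (rw [mul_comm']; simp only [eAB, eBC, eAC, true_or, or_true]; done)
  rcases hy' with e | e | e | e
  · exact hout 1 (by rw [map_one]; exact e.symm)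
  · exact hout n₀ e.symm
  · exact hout (n₀ ^ 2) e.symm
  · exact hy1 (congrArg Subtype.val e)

end Cfsg.Agent.BlockIndexThree86
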