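import Cfsg.Agent.Lib.BlockIndexThree86

/-!
The principal block theorem for inertia index three.
-/

set_option autoImplicit false

open scoped ComplexConjugate IsMulCommutative

namespace Cfsg.Agent.BlockIndexThree86

open Cfsg Cfsg.Agent.BlockTheoryLocalRing Cfsg.Agent.BlockTheoryCentre
  Cfsg.Agent.BlockTheoryIdem Cfsg.Agent.BlockPrincipal81 Cfsg.Agent.CharBasic
  Cfsg.Agent.CharBasicOrth Cfsg.Agent.BlockAbelianSylow86

attribute [local instance] Classical.propDecidable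

universe u

variable {G : Type u} [Group G] [Fintype G] {p : ℕ} [Fact p.Prime] {M : Ideal AlgInt}
  {P : Sylow p G} [Fintype ↥(P : Subgroup G)] [Fintype (↥(P : Subgroup G) →* ℂˣ)]

/-- The shape of the principal block in index three. -/
structure NormalForm (M : Ideal AlgInt) (P : Sylow p G) [Fintype (↥(P : Subgroup G) →* ℂˣ)]
    (X Y : Finset (IrrCharacter G))
    (a : IrrCharacter G → ℤ) (δ : ℤ) (ζ : (↥(P : Subgroup G) →* ℂˣ) → IrrCharacter G) : Prop where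
  sign : δ = 1 ∨ δ = -1
  disj : Disjoint X Y
  block : ∀ χ, χ ∈ principalBlock M G ↔ χ ∈ X ∨ χ ∈ Y
  cardX : X.card = 3
  cardY : Y.card * 3 + 1 = Nat.card (P : Subgroup G)
  one_mem : oneChar G ∈ X
  a_one : a (oneChar G) = 1
  maps : ∀ ψ, ψ ≠ 1 → ζ ψ ∈ Y
  surj : ∀ η ∈ Y, ∃ ψ, ψ ≠ 1 ∧ ζ ψ = η
  inj : ∀ ψ, ψ ≠ 1 → ∀ φ, φ ≠ 1 → (ζ ψ = ζ φ ↔ SameOrbit P ψ φ)
  valX : ∀ χ ∈ X, (a χ = 1 ∨ a χ = -1) ∧ ∀ y : ↥(P : Subgroup G), y ≠ 1 → (χ : G → ℂ) y = (a χ : ℂ)
  valY : ∀ ψ, ψ ≠ 1 → ∀ y : ↥(P : Subgroup G), y ≠ 1 → (ζ ψ : G → ℂ) y = (δ : ℂ) * orbitSum ψ y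
  agree : ∀ η ∈ Y, ∀ η' ∈ Y, ∀ g : G, ¬ p ∣ orderOf g → (η : G → ℂ) g = (η' : G → ℂ) g
  regular : ∀ η ∈ Y, ∀ g : G, ¬ p ∣ orderOf g →
    -(δ : ℂ) * (η : G → ℂ) g + ∑ χ ∈ X, (a χ : ℂ) * (χ : G → ℂ) g = 0

theorem sum_nontrivial (hab : IsMulCommutative (P : Subgroup G)) {y : ↥(P : Subgroup G)} (hy : y ≠ 1) :
    ∑ ψ ∈ Finset.univ.filter (fun ψ : ↥(P : Subgroup G) →* ℂˣ => ψ ≠ 1), (ψ y : ℂ) = -1 := by
  haveI := hab
  have h := sum_dual (A := ↥(P : Subgroup G)) y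
  rw [if_neg hy, ← Finset.add_sum_erase _ _ (Finset.mem_univ (1 : ↥(P : Subgroup G) →* ℂˣ))] at h
  rw [Finset.filter_ne']
  simp only [MonoidHom.one_apply, Units.val_one] at h
  linear_combination h

variable (hab : IsMulCommutative (P : Subgroup G)) (hfree : FreeAction P)
  (hm : (Subgroup.centralizer ((P : Subgroup G) : Set G)).relIndex
    (Subgroup.normalizer ((P : Subgroup G) : Set G)) = 3) (hM : IsPModular p M)

include hab hfree hm hM in
theorem exists_normal_form (hm2 : 3 + 1 < Nat.card (P : Subgroup G)) :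
    ∃ X Y a δ ζ, NormalForm M P X Y a δ ζ := by
  obtain ⟨X, Y, a, d, δ, ζ, hδ, hdisj, hB, hYc, hY2, h1X, h1a, hζY, hsurj, hinj, hXv, hYv, hnorm,
    hagree, hreg⟩ := structure_theorem hab hfree hM 3 hm hm2
  have hnorm : (d - δ) ^ 2 + ((Y.card : ℤ) - 1) * d ^ 2 + ∑ χ ∈ X, a χ ^ 2 = 4 := by
    rw [hnorm]; norm_num
  have hpos : ∀ χ ∈ X, 1 ≤ a χ ^ 2 := fun χ hχ =>
    Int.add_one_le_of_lt (pow_two_pos_of_ne_zero (hXv χ hχ).1)
  have hcard : (X.card : ℤ) ≤ ∑ χ ∈ X, a χ ^ 2 := by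
    rw [Finset.card_eq_sum_ones, Nat.cast_sum]
    exact Finset.sum_le_sum fun χ hχ => by simpa using hpos χ hχ
  have h1le : 1 ≤ ∑ χ ∈ X, a χ ^ 2 :=
    (hpos _ h1X).trans (Finset.single_le_sum (f := fun χ => a χ ^ 2) (fun χ _ => sq_nonneg _) h1X)
  have hall : ∑ χ ∈ X, a χ ^ 2 = 3 → (∀ χ ∈ X, a χ = 1 ∨ a χ = -1) ∧ X.card = 3 := by
    intro h3
    have h1 : ∀ χ ∈ X, a χ ^ 2 = 1 := by
      intro χ hχ
      have hle : a χ ^ 2 ≤ 3 := h3 ▸ Finset.single_le_sum (f := fun χ => a χ ^ 2) (fun χ _ => sq_nonneg _) hχ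
      have hb1 : -2 < a χ := by nlinarith
      have hb2 : a χ < 2 := by nlinarith
      have := (hXv χ hχ).1
      rcases (show a χ = -1 ∨ a χ = 1 by omega) with e | e <;> simp [e]
    refine ⟨fun χ hχ => sq_eq_one_iff.1 (h1 χ hχ), ?_⟩
    rw [Finset.sum_congr rfl h1, Finset.sum_const, nsmul_eq_mul, mul_one] at h3
    exact_mod_cast h3
  have hY2' : (2 : ℤ) ≤ Y.card := by exact_mod_cast hY2
  rcases eq_or_ne d 0 with rfl | hd
  · have h3 : ∑ χ ∈ X, a χ ^ 2 = 3 := by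
      rcases hδ with rfl | rfl <;> norm_num at hnorm <;> omega
    obtain ⟨ha, hX3⟩ := hall h3
    refine ⟨X, Y, a, δ, ζ, hδ, hdisj, hB, hX3, hYc, h1X, h1a, hζY, hsurj, hinj,
      fun χ hχ => ⟨ha χ hχ, (hXv χ hχ).2⟩, fun ψ hψ y hy => ?_, hagree, fun η hη g hg => ?_⟩
    · rw [hYv ψ hψ y hy, Int.cast_zero, zero_add]
    · have := hreg η hη g hg
      rw [Int.cast_zero, mul_zero, zero_sub] at this
      exact this
  have hdd : 1 ≤ d ^ 2 := Int.add_one_le_of_lt (pow_two_pos_of_ne_zero hd)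
  obtain rfl : d = δ := by
    have hb : d ^ 2 ≤ 3 := by
      nlinarith [mul_nonneg (show (0 : ℤ) ≤ (Y.card : ℤ) - 2 by omega) (sq_nonneg d), sq_nonneg (d - δ)]
    have hb1 : -2 < d := by nlinarith
    have hb2 : d < 2 := by nlinarith
    rcases (show d = 1 ∨ d = -1 by omega) with rfl | rfl <;> rcases hδ with rfl | rfl <;>
      first | rfl | (exfalso; norm_num at hnorm; omega)
  have hd2 : d ^ 2 = 1 := by rcases hδ with rfl | rfl <;> norm_num
  rw [sub_self, hd2] at hnorm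
  have hr4 : Y.card ≤ 4 := by
    have : (Y.card : ℤ) ≤ 4 := by nlinarith
    exact_mod_cast this
  obtain ⟨k, hk⟩ := IsPGroup.iff_card.1 P.isPGroup'
  have hr2 : Y.card = 2 := by
    by_contra hne
    rcases (show Y.card = 3 ∨ Y.card = 4 by omega) with hr | hr
    · rw [hr, hk] at hYc
      have hp : p.Prime := Fact.out
      have hdvd : p ∣ 2 * 5 := by
        rw [show (2 * 5 : ℕ) = p ^ k by omega]
        exact dvd_pow_self p (by rintro rfl; simp at hYc)
      rcases hp.dvd_mul.1 hdvd with h | h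
      · obtain rfl := (Nat.prime_dvd_prime_iff_eq hp Nat.prime_two).1 h
        have h5 : 5 ∣ 2 ^ k := ⟨2, by omega⟩
        have := (Nat.prime_five).dvd_of_dvd_pow h5
        omega
      · obtain rfl := (Nat.prime_dvd_prime_iff_eq hp Nat.prime_five).1 h
        have h5 : 2 ∣ 5 ^ k := ⟨5, by omega⟩
        have := (Nat.prime_two).dvd_of_dvd_pow h5
        omega
    · have hone : ∑ χ ∈ X, a χ ^ 2 = 1 := by rw [hr] at hnorm; push_cast at hnorm; omega
      have hXone : X = {oneChar G} := by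
        refine (Finset.eq_singleton_iff_unique_mem).2 ⟨h1X, fun χ hχ => ?_⟩
        by_contra hne'
        have h2 := Finset.sum_le_sum_of_subset_of_nonneg
          (show ({oneChar G, χ} : Finset (IrrCharacter G)) ⊆ X by
            intro z hz; simp only [Finset.mem_insert, Finset.mem_singleton] at hz
            rcases hz with rfl | rfl <;> assumption) (fun z _ _ => sq_nonneg (a z))
        rw [Finset.sum_pair (Ne.symm hne'), hone, h1a] at h2
        linarith [hpos χ hχ]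
      obtain ⟨η, hη⟩ := Finset.card_pos.1 (show 0 < Y.card by omega)
      have h := hreg η hη 1 (by rw [orderOf_one, Nat.dvd_one]; exact hM.1.ne_one)
      rw [hXone, Finset.sum_singleton, h1a, hr, ClassAlgebraVal.apply_one_eq_charDegree] at h
      simp only [oneChar, Int.cast_one, mul_one] at h
      have h' : (3 * d * (charDegree (η : G → ℂ) : ℤ) + 1 : ℤ) = 0 := by
        have h'' : ((3 * d * (charDegree (η : G → ℂ) : ℤ) + 1 : ℤ) : ℂ) = 0 := by
          push_cast; push_cast at h; linear_combination h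
        exact_mod_cast h''
      rcases hδ with rfl | rfl <;> omega
  have h3 : ∑ χ ∈ X, a χ ^ 2 = 3 := by rw [hr2] at hnorm; push_cast at hnorm; omega
  obtain ⟨ha, hX3⟩ := hall h3
  obtain ⟨A, B, hAB, hY⟩ := Finset.card_eq_two.1 hr2
  let sw : IrrCharacter G → IrrCharacter G := fun η => if η = A then B else A
  have hswY : ∀ η, sw η ∈ Y := fun η => by
    rw [hY]; simp only [sw]; split_ifs <;> simp
  have hswsw : ∀ η ∈ Y, sw (sw η) = η := by
    intro η hη
    rw [hY, Finset.mem_insert, Finset.mem_singleton] at hη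
    rcases hη with rfl | rfl <;> simp [sw, hAB.symm]
  have hswne : ∀ η ∈ Y, sw η ≠ η := by
    intro η hη
    rw [hY, Finset.mem_insert, Finset.mem_singleton] at hη
    rcases hη with rfl | rfl <;> simp [sw, hAB, hAB.symm]
  refine ⟨X, Y, a, -d, fun ψ => sw (ζ ψ), by omega, hdisj, hB, hX3, hYc, h1X, h1a,
    fun ψ hψ => hswY _, fun η hη => ?_, fun ψ hψ φ hφ => ?_,
    fun χ hχ => ⟨ha χ hχ, (hXv χ hχ).2⟩, fun ψ hψ y hy => ?_, hagree, fun η hη g hg => ?_⟩
  · obtain ⟨ψ, hψ, he⟩ := hsurj _ (hswY η)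
    exact ⟨ψ, hψ, show sw (ζ ψ) = η by rw [he, hswsw η hη]⟩
  · rw [← hinj ψ hψ φ hφ]
    exact ⟨fun h => by rw [← hswsw _ (hζY ψ hψ), ← hswsw _ (hζY φ hφ)]; exact congrArg sw h,
      fun h => congrArg sw h⟩
  · obtain ⟨φ, hφ, he⟩ := hsurj _ (hswY (ζ ψ))
    show (sw (ζ ψ) : G → ℂ) y = _
    rw [← he, hYv φ hφ y hy]
    have hnsame : ¬ SameOrbit P φ ψ := fun h =>
      hswne _ (hζY ψ hψ) (he ▸ (hinj φ hφ ψ hψ).2 h)
    have hsplit : Finset.univ.filter (fun θ : ↥(P : Subgroup G) →* ℂˣ => θ ≠ 1) =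
        Finset.univ.filter (fun θ => SameOrbit P θ ψ) ∪ Finset.univ.filter (fun θ => SameOrbit P θ φ) := by
      ext θ
      simp only [Finset.mem_filter, Finset.mem_univ, true_and, Finset.mem_union]
      refine ⟨fun hθ => ?_, fun h => h.elim (fun h => sameOrbit_one (sameOrbit_symm h) hψ)
        (fun h => sameOrbit_one (sameOrbit_symm h) hφ)⟩
      rw [← hinj θ hθ ψ hψ, ← hinj θ hθ φ hφ, he]
      have h2 := hζY θ hθ
      have h3 := hζY ψ hψ
      rw [hY, Finset.mem_insert, Finset.mem_singleton] at h2 h3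
      rcases h2 with h2 | h2 <;> rcases h3 with h3 | h3 <;> simp [sw, h2, h3, hAB.symm]
    have hd' : Disjoint (Finset.univ.filter (fun θ => SameOrbit P θ ψ))
        (Finset.univ.filter (fun θ => SameOrbit P θ φ)) := by
      rw [Finset.disjoint_filter]
      exact fun θ _ h h' => hnsame (sameOrbit_trans (sameOrbit_symm h') h)
    have hs := sum_nontrivial hab hy
    rw [hsplit, Finset.sum_union hd'] at hs
    simp only [orbitSum] at *
    push_cast
    linear_combination (d : ℂ) * hs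
  · have := hreg η hη g hg
    rw [hr2] at this
    push_cast at this ⊢
    linear_combination this

variable {X Y : Finset (IrrCharacter G)} {a : IrrCharacter G → ℤ} {δ : ℤ}
  {ζ : (↥(P : Subgroup G) →* ℂˣ) → IrrCharacter G} (hN : NormalForm M P X Y a δ ζ)

include hab hN in
theorem sum_Y_apply {y : ↥(P : Subgroup G)} (hy : y ≠ 1) : ∑ η ∈ Y, (η : G → ℂ) y = -(δ : ℂ) := by
  have e : ∀ η ∈ Y, (η : G → ℂ) y = (δ : ℂ) * ∑ φ ∈ (Finset.univ.filter
      (fun ψ : ↥(P : Subgroup G) →* ℂˣ => ψ ≠ 1)).filter (fun φ => ζ φ = η), (φ y : ℂ) := by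
    intro η hη
    obtain ⟨ψ, hψ, rfl⟩ := hN.surj η hη
    rw [hN.valY ψ hψ y hy]
    show (δ : ℂ) * (∑ φ ∈ Finset.univ.filter (fun φ => SameOrbit P φ ψ), (φ y : ℂ)) = _
    refine congrArg _ (Finset.sum_congr ?_ fun _ _ => rfl)
    ext φ
    simp only [Finset.mem_filter, Finset.mem_univ, true_and]
    exact ⟨fun h => ⟨sameOrbit_one (sameOrbit_symm h) hψ, (hN.inj φ (sameOrbit_one (sameOrbit_symm h) hψ) ψ hψ).2 h⟩,
      fun h => (hN.inj φ h.1 ψ hψ).1 h.2⟩
  rw [Finset.sum_congr rfl e, ← Finset.mul_sum, Finset.sum_fiberwise_of_maps_to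
    (fun φ hφ => hN.maps φ (Finset.mem_filter.1 hφ).2), sum_nontrivial hab hy, mul_neg_one]

include hN in
theorem filter_block : Finset.univ.filter (fun χ : IrrCharacter G => χ ∈ principalBlock M G) = X ∪ Y := by
  ext χ; simp [hN.block]

theorem eq_one_of_apply_eq {t : G} (hgen : ∀ K : Subgroup G, K.Normal → t ∈ K → K = ⊤)
    {χ : IrrCharacter G} (h : (χ : G → ℂ) t = (χ : G → ℂ) 1) : χ = oneChar G := by
  have htop := hgen _ (CharKernel.irrKer_normal χ) (CharKernel.mem_irrKer.2 h)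
  by_contra hne
  have h0 := classInner_irr_ne χ.2 (oneChar G).2 fun e => hne (Subtype.ext e)
  have hc : ∀ g : G, (χ : G → ℂ) g = (χ : G → ℂ) 1 := fun g => by
    rw [← CharKernel.mem_irrKer, htop]; trivial
  rw [classInner, Finset.sum_congr rfl fun g _ => by rw [hc g]] at h0
  simp only [oneChar, map_one, mul_one, Finset.sum_const, nsmul_eq_mul, Finset.card_univ] at h0
  rcases mul_eq_zero.1 h0 with h1 | h1
  · simp at h1
  rcases mul_eq_zero.1 h1 with h2 | h2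
  · simp at h2
  · exact CharBasic.isIrrCharacter_apply_one_ne_zero χ.2 h2

theorem dvd_of_sum (χ : IrrCharacter G) {z : ℤ}
    (h : ∑ y : ↥(P : Subgroup G), conj ((χ : G → ℂ) y) = (z : ℂ)) :
    (Nat.card (P : Subgroup G) : ℤ) ∣ z := by
  obtain ⟨k, hk⟩ := ClassAlgebraVal.exists_sum_subgroup (ClassAlgebraVal.irr_isCharacter χ) (P : Subgroup G)
  refine ⟨k, ?_⟩
  rw [h] at hk
  exact_mod_cast hk

theorem degree_one_eq (χ : IrrCharacter G) :
    (χ : G → ℂ) 1 = ((charDegree (χ : G → ℂ) : ℤ) : ℂ) := by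
  rw [ClassAlgebraVal.apply_one_eq_charDegree, Int.cast_natCast]

include hab hfree hm hM hN in
theorem involution_case (hcard : 3 + 1 < Nat.card (P : Subgroup G)) {t : G} (ht : orderOf t = 2)
    (hgen : ∀ K : Subgroup G, K.Normal → t ∈ K → K = ⊤) :
    ((X.erase (oneChar G)).filter (fun χ => a χ = -1)).card + (if δ = 1 then 1 else 0) = 2 ∧
      ∀ η ∈ Y, IsSquare (charDegree (η : G → ℂ) *
        ∏ χ ∈ X.erase (oneChar G), charDegree (χ : G → ℂ)) := by
  obtain ⟨χ₂, χ₃, h23, hXe⟩ := Finset.card_eq_two.1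
    (show (X.erase (oneChar G)).card = 2 by rw [Finset.card_erase_of_mem hN.one_mem, hN.cardX])
  have hm2 : χ₂ ∈ X.erase (oneChar G) := by rw [hXe]; simp
  have hm3 : χ₃ ∈ X.erase (oneChar G) := by rw [hXe]; simp
  rw [Finset.mem_erase] at hm2 hm3
  have hsumX : ∀ f : IrrCharacter G → ℂ, ∑ χ ∈ X, f χ = f (oneChar G) + (f χ₂ + f χ₃) := fun f => by
    rw [← Finset.add_sum_erase _ _ hN.one_mem, hXe, Finset.sum_pair h23]
  obtain ⟨ψ₀, hψ₀⟩ : ∃ ψ : ↥(P : Subgroup G) →* ℂˣ, ψ ≠ 1 := by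
    have := hN.cardY
    obtain ⟨η, hη⟩ := Finset.card_pos.1 (show 0 < Y.card by omega)
    obtain ⟨ψ, hψ, -⟩ := hN.surj η hη
    exact ⟨ψ, hψ⟩
  set η₀ := ζ ψ₀ with hη₀def
  have hη₀ : η₀ ∈ Y := hN.maps ψ₀ hψ₀
  have h1r : ¬ p ∣ orderOf (1 : G) := by rw [orderOf_one, Nat.dvd_one]; exact hM.1.ne_one
  set n₂ : ℤ := (charDegree (χ₂ : G → ℂ) : ℤ) with hn₂
  set n₃ : ℤ := (charDegree (χ₃ : G → ℂ) : ℤ) with hn₃
  set n₄ : ℤ := (charDegree (η₀ : G → ℂ) : ℤ) with hn₄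
  have hn₂0 : 0 < n₂ := Int.natCast_pos.2 (ClassAlgebraVal.charDegree_pos χ₂)
  have hn₃0 : 0 < n₃ := Int.natCast_pos.2 (ClassAlgebraVal.charDegree_pos χ₃)
  have hn₄0 : 0 < n₄ := Int.natCast_pos.2 (ClassAlgebraVal.charDegree_pos η₀)
  have ha2 := (hN.valX χ₂ hm2.2).1
  have ha3 := (hN.valX χ₃ hm3.2).1
  have hδ := hN.sign
  have hone1 : ∀ g, ((oneChar G : IrrCharacter G) : G → ℂ) g = 1 := fun _ => rfl
  have hdeg : 1 + a χ₂ * n₂ + a χ₃ * n₃ + -δ * n₄ = 0 := by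
    have h := hN.regular η₀ hη₀ 1 h1r
    rw [hsumX, hN.a_one, hone1, degree_one_eq, degree_one_eq, degree_one_eq, ← hn₂, ← hn₃, ← hn₄] at h
    have h' : ((1 + a χ₂ * n₂ + a χ₃ * n₃ + -δ * n₄ : ℤ) : ℂ) = 0 := by
      push_cast; push_cast at h; linear_combination h
    exact_mod_cast h'
  have ht2 : t * t = 1 := by rw [← pow_two, ← ht, pow_orderOf_eq_one]
  have hsum : ∀ f : IrrCharacter G → ℂ,
      ∑ χ ∈ Finset.univ.filter (fun χ : IrrCharacter G => χ ∈ principalBlock M G), f χ =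
        f (oneChar G) + (f χ₂ + f χ₃) + ∑ η ∈ Y, f η := fun f => by
    rw [filter_block hN, Finset.sum_union hN.disj, hsumX]
  by_cases hp : p = 2
  · -- this case does not occur
    exfalso
    obtain ⟨t₀, ht₀⟩ : ∃ t₀ : ↥(P : Subgroup G), IsConj t (t₀ : G) := by
      have hQ : IsPGroup p (Subgroup.zpowers t) :=
        IsPGroup.iff_card.2 ⟨1, by rw [Nat.card_zpowers, ht, hp, pow_one]⟩
      obtain ⟨Q, hQ'⟩ := hQ.exists_le_sylow
      obtain ⟨c, hc⟩ := MulAction.exists_smul_eq G Q P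
      have : c * t * c⁻¹ ∈ (P : Subgroup G) := by
        rw [← hc, Sylow.coe_subgroup_smul]
        exact ⟨t, hQ' (Subgroup.mem_zpowers t), rfl⟩
      exact ⟨⟨_, this⟩, isConj_iff.2 ⟨c, rfl⟩⟩
    have ht₁ : t₀ ≠ 1 := by
      rintro rfl
      have : t = 1 := isConj_one_left.1 ht₀
      rw [this, orderOf_one] at ht
      omega
    have ht₀2 : t₀ * t₀ = 1 := by
      obtain ⟨g, hg⟩ := isConj_iff.1 ht₀
      refine Subtype.ext ?_
      show (t₀ : G) * t₀ = 1
      rw [← hg, conj_mul, ht2, mul_one, mul_inv_cancel]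
    have hq : (16 : ℤ) ≤ Nat.card (P : Subgroup G) := by
      obtain ⟨k, hk⟩ := IsPGroup.iff_card.1 P.isPGroup'
      rw [show p ^ k = 2 ^ k by rw [hp]] at hk
      have hc := hN.cardY
      have : 4 ≤ k := by
        by_contra hlt
        have hk' : Nat.card (P : Subgroup G) = 2 ^ k := hk
        rw [hk'] at hc hcard
        interval_cases k <;> norm_num at hc hcard <;> omega
      have h16 : 16 ≤ Nat.card (P : Subgroup G) :=
        hk ▸ (Nat.pow_le_pow_right (by norm_num) this : 2 ^ 4 ≤ 2 ^ k)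
      exact_mod_cast h16
    obtain ⟨n₀, hn₀, hn₀3, hgen'⟩ := exists_generator hab hfree hm
    set B := conjP P n₀ t₀ with hB
    set C := conjP P (n₀ ^ 2) t₀ with hC
    have hprod : t₀ * B * C = 1 := by
      by_contra hne
      refine hn₀ ((fixed_iff hab hfree hne n₀).1 ?_)
      have h1 : conjP P n₀ C = t₀ := by
        rw [hC, ← MulAut.mul_apply, ← map_mul, ← pow_succ', (fixed_iff hab hfree ht₁ _).2 hn₀3]
      have h2 : conjP P n₀ B = C := by
        rw [hB, hC, ← MulAut.mul_apply, ← map_mul, pow_two]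
      rw [map_mul, map_mul, ← hB, h1, h2, mul_comm', ← mul_assoc]
    obtain ⟨y, hy⟩ : ∃ y : ↥(P : Subgroup G), y ∉ ({1, t₀, B, C} : Finset ↥(P : Subgroup G)) := by
      by_contra h
      push Not at h
      have h1 := (Finset.card_le_card (fun y _ => h y : Finset.univ ⊆ ({1, t₀, B, C} : Finset ↥(P : Subgroup G)))).trans
        Finset.card_le_four
      rw [Finset.card_univ, ← Nat.card_eq_fintype_card] at h1
      omega
    simp only [Finset.mem_insert, Finset.mem_singleton, not_or] at hy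
    have hout : ∀ n, conjP P n t₀ ≠ ⟨(y : G), y.2⟩ := by
      intro n h
      obtain ⟨i, hi, he⟩ := hgen' n
      rw [he] at h
      interval_cases i
      · rw [pow_zero, map_one] at h; exact hy.2.1 h.symm
      · rw [pow_one, ← hB] at h; exact hy.2.2.1 h.symm
      · exact hy.2.2.2 h.symm
    have hy1 : (y : G) ≠ 1 := coe_ne_one hy.1
    have hE := section_sum hab hfree hM t t y.2 hy1
      (not_product_two hab hfree hm hp ht2 ht₀ ht₁ y.2 hy1 hout)
    have hcol := column hab hfree hM t₀.2 (coe_ne_one ht₁) y.2 hy1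
    rw [if_neg fun ⟨n, hn, h⟩ => hout ⟨n, hn⟩ (Subtype.ext h), ← Finset.sum_filter, hsum] at hcol
    have htval : ∀ χ : IrrCharacter G, (χ : G → ℂ) t = (χ : G → ℂ) t₀ := fun χ =>
      apply_eq_of_isConj (irr_classFun χ) ht₀
    have hsq : ∀ η ∈ Y, (η : G → ℂ) t₀ * (η : G → ℂ) t₀ = 3 + 2 * (δ : ℂ) * (η : G → ℂ) t₀ := by
      intro η hη
      obtain ⟨φ, hφ, rfl⟩ := hN.surj η hη
      rw [hN.valY φ hφ t₀ ht₁, orbitSum_three hab hfree hm hgen' hφ, ← hB, ← hC]
      have hA : (φ t₀ : ℂ) * (φ t₀ : ℂ) = 1 := by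
        rw [← Units.val_mul, ← map_mul, ht₀2, map_one, Units.val_one]
      have hB2 : (φ B : ℂ) * (φ B : ℂ) = 1 := by
        rw [← Units.val_mul, ← map_mul, hB, ← map_mul, ht₀2, map_one, map_one, Units.val_one]
      have h3 : (φ t₀ : ℂ) * (φ B : ℂ) * (φ C : ℂ) = 1 := by
        rw [← Units.val_mul, ← Units.val_mul, ← map_mul, ← map_mul, hprod, map_one, Units.val_one]
      generalize (φ t₀ : ℂ) = a at hA h3 ⊢
      generalize (φ B : ℂ) = b at hB2 h3 ⊢
      generalize (φ C : ℂ) = c at h3 ⊢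
      obtain rfl : c = a * b := by
        linear_combination (a * b) * h3 - c * (b * b) * hA - c * hB2
      rcases hδ with rfl | rfl <;> push_cast <;>
        linear_combination (1 + b * b + 2 * b) * hA + (2 + 2 * a) * hB2
    have hcolY : ∑ η ∈ Y, (η : G → ℂ) t₀ * conj ((η : G → ℂ) y) = -3 := by
      rw [(hN.valX χ₂ hm2.2).2 t₀ ht₁, (hN.valX χ₂ hm2.2).2 y hy.1, (hN.valX χ₃ hm3.2).2 t₀ ht₁,
        (hN.valX χ₃ hm3.2).2 y hy.1, hone1, hone1, map_one, map_intCast, map_intCast] at hcol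
      rcases ha2 with e2 | e2 <;> rcases ha3 with e3 | e3 <;> rw [e2, e3] at hcol <;>
        push_cast at hcol <;> linear_combination hcol
    have hconjY : ∑ η ∈ Y, conj ((η : G → ℂ) y) = -(δ : ℂ) := by
      rw [← map_sum, sum_Y_apply hab hN hy.1, map_neg, map_intCast]
    have hdegY : ∀ η ∈ Y, (η : G → ℂ) 1 = (n₄ : ℂ) := fun η hη => by
      rw [hN.agree η hη η₀ hη₀ 1 h1r, degree_one_eq]
    have hYsum : ∑ η ∈ Y, (η : G → ℂ) t * (η : G → ℂ) t * conj ((η : G → ℂ) y) / (η : G → ℂ) 1 =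
        (-9 * δ : ℂ) / (n₄ : ℂ) := by
      rw [Finset.sum_congr rfl fun η hη => by rw [htval η, hdegY η hη, hsq η hη, add_mul, mul_assoc],
        ← Finset.sum_div, Finset.sum_add_distrib, ← Finset.mul_sum, ← Finset.mul_sum, hconjY, hcolY]
      ring
    rw [hsum, hYsum, htval χ₂, htval χ₃, (hN.valX χ₂ hm2.2).2 t₀ ht₁, (hN.valX χ₂ hm2.2).2 y hy.1,
      (hN.valX χ₃ hm3.2).2 t₀ ht₁, (hN.valX χ₃ hm3.2).2 y hy.1, hone1, hone1, hone1, degree_one_eq χ₂,
      degree_one_eq χ₃, ← hn₂, ← hn₃, map_one, map_intCast, map_intCast] at hE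
    have hc2 : (n₂ : ℂ) ≠ 0 := Int.cast_ne_zero.2 hn₂0.ne'
    have hc3 : (n₃ : ℂ) ≠ 0 := Int.cast_ne_zero.2 hn₃0.ne'
    have hc4 : (n₄ : ℂ) ≠ 0 := Int.cast_ne_zero.2 hn₄0.ne'
    have he : n₂ * n₃ * n₄ + a χ₂ * (n₃ * n₄) + a χ₃ * (n₂ * n₄) - 9 * δ * (n₂ * n₃) = 0 := by
      have h' : ((n₂ * n₃ * n₄ + a χ₂ * (n₃ * n₄) + a χ₃ * (n₂ * n₄) - 9 * δ * (n₂ * n₃) : ℤ) : ℂ) = 0 := by
        rcases ha2 with e2 | e2 <;> rcases ha3 with e3 | e3 <;> rw [e2, e3] at hE ⊢ <;>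
          push_cast at hE ⊢ <;> field_simp at hE <;> linear_combination hE
      exact_mod_cast h'
    set q : ℤ := (Nat.card (P : Subgroup G) : ℤ) with hqdef
    have hcardE : ((Finset.univ.erase (1 : ↥(P : Subgroup G))).card : ℂ) = (q : ℂ) - 1 := by
      rw [Finset.card_erase_of_mem (Finset.mem_univ _), Finset.card_univ, Nat.cast_pred Fintype.card_pos,
        hqdef, Nat.card_eq_fintype_card]
      push_cast; ring
    have hXdvd : ∀ χ ∈ X, q ∣ (charDegree (χ : G → ℂ) : ℤ) - a χ := by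
      intro χ hχ
      have h : q ∣ (charDegree (χ : G → ℂ) : ℤ) + (q - 1) * a χ := by
        refine dvd_of_sum χ ?_
        rw [← Finset.add_sum_erase _ _ (Finset.mem_univ (1 : ↥(P : Subgroup G))),
          Finset.sum_congr rfl fun u hu => by
            rw [(hN.valX χ hχ).2 u (Finset.mem_erase.1 hu).1, map_intCast],
          Finset.sum_const, nsmul_eq_mul, hcardE, OneMemClass.coe_one, degree_one_eq, map_intCast]
        push_cast; ring
      have h' := dvd_sub h (dvd_mul_right q (a χ))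
      rwa [show (charDegree (χ : G → ℂ) : ℤ) + (q - 1) * a χ - q * a χ = _ - a χ by ring] at h'
    have hYdvd : q ∣ n₄ - 3 * δ := by
      refine dvd_of_sum η₀ ?_
      rw [← Finset.add_sum_erase _ _ (Finset.mem_univ (1 : ↥(P : Subgroup G))), OneMemClass.coe_one,
        degree_one_eq, map_intCast, ← hn₄]
      have hu : ∀ u ∈ Finset.univ.erase (1 : ↥(P : Subgroup G)), conj ((η₀ : G → ℂ) u) =
          ∑ φ ∈ Finset.univ.filter (fun φ => SameOrbit P φ ψ₀), (δ : ℂ) * conj (φ u : ℂ) := fun u hu => by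
        rw [hN.valY ψ₀ hψ₀ u (Finset.mem_erase.1 hu).1, map_mul, map_intCast]
        show (δ : ℂ) * conj (∑ φ ∈ Finset.univ.filter (fun φ => SameOrbit P φ ψ₀), (φ u : ℂ)) = _
        rw [map_sum, Finset.mul_sum]
      rw [Finset.sum_congr rfl hu, Finset.sum_comm, Finset.sum_congr rfl (g := fun _ => -(δ : ℂ)),
        Finset.sum_const, nsmul_eq_mul, ← Fintype.card_subtype, ← Nat.card_eq_fintype_card,
        card_orbit hab hfree 3 hm hψ₀]
      · push_cast; ring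
      · intro φ hφ
        haveI := hab
        rw [← Finset.mul_sum, ← map_sum]
        have h0 := sum_apply_eq_zero (ψ := φ) (sameOrbit_one (sameOrbit_symm (Finset.mem_filter.1 hφ).2) hψ₀)
        rw [← Finset.add_sum_erase _ _ (Finset.mem_univ (1 : ↥(P : Subgroup G))), map_one, Units.val_one] at h0
        rw [show ∑ u ∈ Finset.univ.erase (1 : ↥(P : Subgroup G)), (φ u : ℂ) = -1 by linear_combination h0,
          map_neg, map_one, mul_neg_one]
    have hbig : ∀ χ ∈ X, χ ≠ oneChar G → 15 ≤ (charDegree (χ : G → ℂ) : ℤ) := by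
      intro χ hχ hne
      have hd1 : 0 < (charDegree (χ : G → ℂ) : ℤ) := Int.natCast_pos.2 (ClassAlgebraVal.charDegree_pos χ)
      obtain ⟨c, hc⟩ := hXdvd χ hχ
      rcases le_or_gt c 0 with h0 | h0
      · exfalso
        have : q * c ≤ 0 := mul_nonpos_of_nonneg_of_nonpos (by omega) h0
        have he1 : (charDegree (χ : G → ℂ) : ℤ) = a χ := by
          rcases (hN.valX χ hχ).1 with e | e <;> omega
        refine hne (eq_one_of_apply_eq hgen ?_)
        rw [htval χ, (hN.valX χ hχ).2 t₀ ht₁, degree_one_eq, he1]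
      · have : q * 1 ≤ q * c := mul_le_mul_of_nonneg_left h0 (by omega)
        rcases (hN.valX χ hχ).1 with e | e <;> omega
    exact no_two_solution ha2 ha3 hδ hq (hbig χ₂ hm2.2 hm2.1) (hbig χ₃ hm3.2 hm3.1) hn₄0 hYdvd he
  · have htr : ¬ p ∣ orderOf t := by
      rw [ht]; exact fun h => hp ((Nat.prime_dvd_prime_iff_eq Fact.out Nat.prime_two).1 h)
    obtain ⟨y, hy⟩ : ∃ y : ↥(P : Subgroup G), y ≠ 1 :=
      Fintype.exists_ne_of_one_lt_card (by rw [← Nat.card_eq_fintype_card]; omega) 1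
    have hE := section_sum hab hfree hM t t y.2 (coe_ne_one hy)
      (not_product_odd hab hfree hm hp y.2 (coe_ne_one hy) ht2)
    obtain ⟨z₂, hz₂⟩ := CharAverage.apply_involution_eq_int (ClassAlgebraVal.irr_isCharacter χ₂) ht2
    obtain ⟨z₃, hz₃⟩ := CharAverage.apply_involution_eq_int (ClassAlgebraVal.irr_isCharacter χ₃) ht2
    obtain ⟨z₄, hz₄⟩ := CharAverage.apply_involution_eq_int (ClassAlgebraVal.irr_isCharacter η₀) ht2
    have hu : 1 + a χ₂ * z₂ + a χ₃ * z₃ + -δ * z₄ = 0 := by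
      have h := hN.regular η₀ hη₀ t htr
      rw [hsumX, hN.a_one, hone1, hz₂, hz₃, hz₄] at h
      have h' : ((1 + a χ₂ * z₂ + a χ₃ * z₃ + -δ * z₄ : ℤ) : ℂ) = 0 := by
        push_cast; push_cast at h; linear_combination h
      exact_mod_cast h'
    have hconjY : ∑ η ∈ Y, conj ((η : G → ℂ) y) = -(δ : ℂ) := by
      rw [← map_sum, sum_Y_apply hab hN hy, map_neg, map_intCast]
    have hYsum : ∑ η ∈ Y, (η : G → ℂ) t * (η : G → ℂ) t * conj ((η : G → ℂ) y) / (η : G → ℂ) 1 =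
        (z₄ * z₄ * -δ : ℂ) / (n₄ : ℂ) := by
      rw [Finset.sum_congr rfl fun η hη => by
          rw [hN.agree η hη η₀ hη₀ t htr, hN.agree η hη η₀ hη₀ 1 h1r, hz₄, degree_one_eq, ← hn₄],
        ← Finset.sum_div, ← Finset.mul_sum, hconjY]
    rw [hsum, hYsum, (hN.valX χ₂ hm2.2).2 y hy, (hN.valX χ₃ hm3.2).2 y hy, hz₂, hz₃, hone1, hone1,
      hone1, degree_one_eq χ₂, degree_one_eq χ₃, ← hn₂, ← hn₃, map_one, map_intCast, map_intCast] at hE
    have hc2 : (n₂ : ℂ) ≠ 0 := Int.cast_ne_zero.2 hn₂0.ne'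
    have hc3 : (n₃ : ℂ) ≠ 0 := Int.cast_ne_zero.2 hn₃0.ne'
    have hc4 : (n₄ : ℂ) ≠ 0 := Int.cast_ne_zero.2 hn₄0.ne'
    have hbase : n₂ * n₃ * n₄ + a χ₂ * z₂ ^ 2 * (n₃ * n₄) + a χ₃ * z₃ ^ 2 * (n₂ * n₄)
        - δ * z₄ ^ 2 * (n₂ * n₃) = 0 := by
      have h' : ((n₂ * n₃ * n₄ + a χ₂ * z₂ ^ 2 * (n₃ * n₄) + a χ₃ * z₃ ^ 2 * (n₂ * n₄)
          - δ * z₄ ^ 2 * (n₂ * n₃) : ℤ) : ℂ) = 0 := by
        push_cast
        field_simp at hE
        linear_combination hE
      exact_mod_cast h'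
    have hq : a χ₂ * n₂ * (a χ₃ * n₃) * (-δ * n₄) + (a χ₂ * z₂) ^ 2 * (a χ₃ * n₃ * (-δ * n₄)) +
        (a χ₃ * z₃) ^ 2 * (a χ₂ * n₂ * (-δ * n₄)) + (-δ * z₄) ^ 2 * (a χ₂ * n₂ * (a χ₃ * n₃)) = 0 := by
      rcases ha2 with e2 | e2 <;> rcases ha3 with e3 | e3 <;> rcases hδ with rfl | rfl <;>
        rw [e2, e3] at hbase ⊢ <;> first | linear_combination hbase | linear_combination -hbase
    have ha20 : a χ₂ ≠ 0 := by omega
    have ha30 : a χ₃ ≠ 0 := by omega
    have hδ0 : -δ ≠ 0 := by omega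
    have hmove : ∀ χ : IrrCharacter G, χ ≠ oneChar G → ∀ {z n : ℤ}, (χ : G → ℂ) t = (z : ℂ) →
        (χ : G → ℂ) 1 = (n : ℂ) → z ≠ n := by
      intro χ hne z n h1 h2 he
      exact hne (eq_one_of_apply_eq hgen (by rw [h1, h2, he]))
    have hηne : η₀ ≠ oneChar G := fun h => Finset.disjoint_left.1 hN.disj hN.one_mem (h ▸ hη₀)
    obtain ⟨hcount, hsqr⟩ := two_neg_square (mul_ne_zero ha20 hn₂0.ne') (mul_ne_zero ha30 hn₃0.ne')
      (mul_ne_zero hδ0 hn₄0.ne') hdeg hu hq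
      (fun h => hmove χ₂ hm2.1 hz₂ (degree_one_eq χ₂) (mul_left_cancel₀ ha20 h))
      (fun h => hmove χ₃ hm3.1 hz₃ (degree_one_eq χ₃) (mul_left_cancel₀ ha30 h))
      (fun h => hmove η₀ hηne hz₄ (degree_one_eq η₀) (mul_left_cancel₀ hδ0 h))
    refine ⟨?_, fun η hη => ?_⟩
    · have e2 : (a χ₂ * n₂ < 0) ↔ a χ₂ = -1 := by
        rcases ha2 with e | e <;> rw [e] <;> constructor <;> intro h <;> omega
      have e3 : (a χ₃ * n₃ < 0) ↔ a χ₃ = -1 := by
        rcases ha3 with e | e <;> rw [e] <;> constructor <;> intro h <;> omega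
      have e4 : (-δ * n₄ < 0) ↔ δ = 1 := by
        rcases hδ with e | e <;> rw [e] <;> constructor <;> intro h <;> omega
      simp only [e2, e3, e4] at hcount
      rw [Finset.card_filter, hXe, Finset.sum_pair h23]
      exact hcount
    · have hdeg' : charDegree (η : G → ℂ) = charDegree (η₀ : G → ℂ) := by
        have h := hN.agree η hη η₀ hη₀ 1 h1r
        rw [degree_one_eq, degree_one_eq] at h
        exact_mod_cast h
      rw [hdeg', hXe, Finset.prod_pair h23]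
      obtain ⟨l, hl⟩ := hsqr
      refine ⟨l.natAbs, ?_⟩
      have h := congrArg Int.natAbs hl
      simp only [Int.natAbs_mul, Int.natAbs_neg] at h
      rw [show (a χ₂).natAbs = 1 by omega, show (a χ₃).natAbs = 1 by omega,
        show δ.natAbs = 1 by omega] at h
      simp only [one_mul, hn₂, hn₃, hn₄, Int.natAbs_natCast] at h
      rw [← h]; ring

end Cfsg.Agent.BlockIndexThree86
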