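import Cfsg.Agent.Lib.BlockPiKernel

/-!
Induced blocks from subgroups containing the centraliser of a defect group.
-/

set_option autoImplicit false

namespace Cfsg.Agent.BlockInducedCen

open Cfsg Cfsg.Agent.BlockTheoryLocalRing Cfsg.Agent.BlockTheoryCentre
open Cfsg.Agent.BlockTheoryIdem Cfsg.Agent.BlockTheoryBrauer Cfsg.Agent.BlockTheoryDefect
open Cfsg.Agent.BrauerPairs81Base Cfsg.Agent.BrauerPairs81Pairs Cfsg.Agent.BrauerPairs81Conj
open Cfsg.Agent.BrauerPairs81Max Cfsg.Agent.BrauerPairs81Local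

attribute [local instance] Classical.propDecidable

set_option linter.unusedSectionVars false

variable {p : ℕ} [Fact p.Prime] {M : Ideal AlgInt} {G : Type*} [Group G] [Fintype G]
  {H : Subgroup G}

/-- A pair of a block of `H` whose subgroup has centraliser in `H` determines an induced block. -/
theorem exists_induced (hM : IsPModular p M) {b : Set (IrrCharacter H)} {R : Subgroup H}
    {g : Set (IrrCharacter (Cen R))} (hg : IsBrauerPairOf p M b R g)
    (hC : Cen (R.map H.subtype) ≤ H) : ∃ B : Set (IrrCharacter G), IsInducedBlock M H b B := by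
  set e := pushSet (cenIso (cenCompat_map hC le_rfl)) g with he
  have hpair : IsBrauerPair p M (R.map H.subtype) e := ⟨hg.1.1.map _, isPBlock_push _ hg.1.2⟩
  obtain ⟨B, hB, -⟩ := existsUnique_block hM (G := G) hpair
  refine ⟨B, hg.2.1, hB.2.1, fun θ hθ χ hχ x => ?_⟩
  obtain ⟨η, hη⟩ := block_nonempty hM hg.1.2
  have h1 := phi_eq_omega hM hg (isCen_res H (isCen_classSum x))
    (isInt_res H (isInt_classSum hM x)) hη hθ
  have h2 := phi_eq_omega hM hB (isCen_classSum x) (isInt_classSum hM x)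
    (⟨η, hη, rfl⟩ : pushChar (cenIso (cenCompat_map hC le_rfl)) η ∈ e) hχ
  rw [← BlockPiKernel.phi_incl_res hC, phi_cenIso, omega_classSum (irr_classFun χ)] at h2
  rw [omega_res_classSum] at h1
  exact cast (congrArg (MemLocalIdeal M) (by ring)) (ideal_sub hM h2 h1)

/-- Above a pair maximal in `H`, only the identity lies inside `H` and its normaliser. -/
theorem eq_of_step_in (hM : IsPModular p M) {b : Set (IrrCharacter H)} {D₀ : Subgroup H}
    (hD₀ : IsDefectGroup p M b D₀) {g : Set (IrrCharacter (Cen D₀))}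
    (hg : IsBrauerPairOf p M b D₀ g) (hC : Cen (D₀.map H.subtype) ≤ H) {R : Subgroup G}
    (hRH : R ≤ H) {f : Set (IrrCharacter (Cen R))}
    (hn : IsNormalSubpair p M (D₀.map H.subtype) (pushSet (cenIso (cenCompat_map hC le_rfl)) g) R f) :
    R = D₀.map H.subtype := by
  obtain ⟨-, ⟨hRp, hf⟩, hle, -, -, -⟩ := isNormalSubpair_iff.mp hn
  have hCR : Cen R ≤ H := (centralizer_le hle).trans hC
  obtain ⟨η, hη⟩ := block_nonempty hM hf
  obtain ⟨ξ, hξ⟩ := block_nonempty hM hg.1.2
  have hbi := isInt_idem hM hg.2.1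
  have hinv : InvBy H (eb H b) := invBy_eb_self H b
  have h1 := phi_congr_step hM hn (isInt_eb hM hg.2.1) (invBy_mono hRH hinv) (invBy_mono hC hinv)
    (⟨ξ, hξ, rfl⟩ : pushChar (cenIso (cenCompat_map hC le_rfl)) ξ ∈
      pushSet (cenIso (cenCompat_map hC le_rfl)) g) hη
  have h0 := (isBrauerPairOf_iff.mp hg).2.2 ξ hξ
  rw [eb_eq_incl, phi_cenIso] at h1
  have h2 : MemLocalIdeal M (phi R (incl H (idem b)) η - 1) :=
    cast (congrArg (MemLocalIdeal M) (by ring)) (ideal_add hM h1 h0)
  have hns := not_small_cut_of_phi hM (by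
    rw [← eb_eq_incl]; exact invBy_mono hCR hinv) h2
  have hns' : ¬ Small M (cut (R.subgroupOf H) (idem b)) := fun hs => hns fun x => by
    rw [coeff_cut]
    split_ifs with hx
    · have h3 := hs ⟨x, hCR hx⟩
      have hxR : (⟨x, hCR hx⟩ : H) ∈ Subgroup.centralizer (R.subgroupOf H : Set H) :=
        Subgroup.mem_centralizer_iff.mpr fun a ha =>
          Subtype.ext (Subgroup.mem_centralizer_iff.mp hx a ha)
      rw [coeff_cut, if_pos hxR] at h3
      rwa [show x = ((⟨x, hCR hx⟩ : H) : G) from rfl, coeff_incl_coe]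
    · exact ideal_zero hM
  have hcard := card_le_of_conjLe ((not_small_cut_iff hM hg.2.1 hD₀ hRp.comap_subtype).mp hns')
  rw [show Subgroup.comap H.subtype R = R.subgroupOf H from rfl,
    Nat.card_congr (Subgroup.subgroupOfEquivOfLe hRH).toEquiv,
    ← Subgroup.card_map_of_injective H.subtype_injective (K := D₀)] at hcard
  exact (Subgroup.eq_of_le_of_card_ge hle hcard).symm

/-- The centre of a defect group of the induced block lies in that of the inducing one. -/
theorem exists_defect_center (hM : IsPModular p M) {b : Set (IrrCharacter H)}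
    (hb : IsPBlock M b) {D₀ : Subgroup H} (hD₀ : IsDefectGroup p M b D₀)
    (hC : Cen (D₀.map H.subtype) ≤ H) {B : Set (IrrCharacter G)} (hind : IsInducedBlock M H b B) :
    ∃ D : Subgroup G, IsDefectGroup p M B D ∧ D₀.map H.subtype ≤ D ∧
      ∀ z ∈ D, (∀ w ∈ D, w * z = z * w) → z ∈ D₀.map H.subtype := by
  set Q := D₀.map H.subtype with hQ
  have hQH : Q ≤ H := Subgroup.map_subtype_le _
  obtain ⟨g, hg⟩ := exists_pairOf_of_not_small hM hb (isPGroup_of_isDefectGroup hD₀)
    (not_small_cut_defect hM hb hD₀)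
  have hpair := BlockPiKernel.pair_up hM hind hg hC
  set e := pushSet (cenIso (cenCompat_map hC le_rfl)) g with he
  obtain ⟨D, eD, hmax, hle⟩ := exists_maximal_above hpair
  refine ⟨D, isDefectGroup_of_maximal hM hmax, subgroup_le_of_subpairLE hle, fun z hz hzc => ?_⟩
  have hQD : Q ≤ D := subgroup_le_of_subpairLE hle
  have hzC : z ∈ Cen Q := Subgroup.mem_centralizer_iff.mpr fun a ha => hzc a (hQD ha)
  set R := Q ⊔ Subgroup.zpowers z with hR
  have hRD : R ≤ D := sup_le hQD (Subgroup.zpowers_le.mpr hz)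
  have hRN : R ≤ Subgroup.normalizer (Q : Set G) := sup_le Subgroup.le_normalizer
    (Subgroup.zpowers_le.mpr (Subgroup.centralizer_le_normalizer _ hzC))
  obtain ⟨a, ha1, ha⟩ := ple_exists (c := ⟨D, eD⟩) hM hmax.1.1 hRD
  obtain ⟨R', f⟩ := a
  obtain rfl : R' = R := ha1
  have hQR : SubpairLE p M Q e R f :=
    ple_of_le (a := ⟨Q, e⟩) (b := ⟨R, f⟩) (c := ⟨D, eD⟩) hM hmax.1.1 hle ha le_sup_left
  have hn := isNormalSubpair_of_le hM (isBrauerPair_of_subpairLE ha hmax.1.1) hQR hRN
  show z ∈ Q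
  rw [hQ, ← eq_of_step_in hM hD₀ hg hC (sup_le hQH (Subgroup.zpowers_le.mpr (hC hzC))) hn]
  exact (le_sup_right : Subgroup.zpowers z ≤ R) (Subgroup.mem_zpowers z)

end Cfsg.Agent.BlockInducedCen
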