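import Cfsg.Agent.Lib.BlockContribMajor
import Cfsg.Agent.S4716
import Cfsg.Agent.S4675
import Cfsg.Agent.S4574
import Cfsg.Agent.Lib.BrauerPairs81Induced
import Cfsg.Agent.Lib.BrauerBlocksRegFun
import Cfsg.Agent.Lib.BlockCentral81

/-!
Major subsections: the part of a character at a major subsection does not vanish, and `k(B) ≤ p^d`
when the block of the subsection has one Brauer character.
-/

set_option autoImplicit false

namespace Cfsg.Agent.BlockMajor81

open Cfsg Cfsg.Agent.BlockTheoryLocalRing Cfsg.Agent.BlockTheoryCentre Cfsg.Agent.BlockTheoryIdem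
open Cfsg.Agent.BlockTheoryBrauer Cfsg.Agent.BlockContribSection Cfsg.Agent.BlockContrib
open Cfsg.Agent.BlockContribBounds Cfsg.Agent.BlockContribMajor
open Cfsg.Agent.BrauerPairs81Base Cfsg.Agent.BrauerPairs81Pairs Cfsg.Agent.BrauerPairs81Induced
open scoped ComplexConjugate

attribute [local instance] Classical.propDecidable

set_option linter.unusedSectionVars false

variable {p : ℕ} [Fact p.Prime] {M : Ideal AlgInt} {G : Type*} [Group G] [Fintype G] {u : G}
  {H : Subgroup G} [Fintype H]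

theorem natCast_div_mem (hM : IsPModular p M) {n m : ℕ} (hm : m ≠ 0)
    (h : n ≠ 0 → m.factorization p ≤ n.factorization p) :
    MemLocalRing M ((n : ℂ) / (m : ℂ)) := by
  rcases eq_or_ne n 0 with rfl | hn
  · rw [Nat.cast_zero, zero_div]; exact (localRing hM).zero_mem
  obtain ⟨q, hq⟩ := (pow_dvd_pow p (h hn)).trans (Nat.ordProj_dvd n p)
  have em : (m : ℂ) = (p : ℂ) ^ m.factorization p * ((m / p ^ m.factorization p : ℕ) : ℂ) := by
    rw [← Nat.cast_pow, ← Nat.cast_mul, Nat.ordProj_mul_ordCompl_eq_self]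
  rw [em, hq, Nat.cast_mul, Nat.cast_pow,
    mul_div_mul_left _ _ (pow_ne_zero _ (Nat.cast_ne_zero.2 hM.1.ne_zero)), div_eq_mul_inv]
  exact (localRing hM).mul_mem (natCast_mem (localRing hM) _)
    (inv_natCast_mem hM (Nat.not_dvd_ordCompl hM.1 hm))

theorem classSum_central {z : H} (hz : z ∈ Subgroup.center H) :
    classSum z = MonoidAlgebra.single z (1 : ℂ) := by
  refine MonoidAlgebra.ext ?_
  ext x
  have hiff : IsConj z x ↔ z = x := by
    refine ⟨fun h => ?_, fun h => h ▸ IsConj.refl z⟩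
    obtain ⟨c, hc⟩ := isConj_iff.1 h
    rwa [Subgroup.mem_center_iff.1 hz c, mul_inv_cancel_right] at hc
  simp only [classSum, coeff_ofFun, MonoidAlgebra.coeff_single, Finsupp.single_apply, hiff]

variable (hH : ∀ g, g ∈ H ↔ Commute u g)
include hH

theorem uH_center : (⟨u, (hH u).2 (Commute.refl u)⟩ : H) ∈ Subgroup.center H :=
  Subgroup.mem_center_iff.2 fun g => Subtype.ext ((hH g).1 g.2).eq.symm

/-- The part of every member of `B` at a major subsection is nonzero at `1`. -/
theorem part_one_ne_zero (hM : IsPModular p M) (hu : ∃ k, orderOf u = p ^ k)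
    {b : Set (IrrCharacter H)} {B : Set (IrrCharacter G)} (hind : IsInducedBlock M H b B)
    (hd : blockDefect p b = blockDefect p B) {χ : IrrCharacter G} (hχ : χ ∈ B) :
    part u b (χ : G → ℂ) 1 ≠ 0 := by
  have hb := hind.1
  have hB := hind.2.1
  set z : H := ⟨u, (hH u).2 (Commute.refl u)⟩ with hz
  have hzc : z ∈ Subgroup.center H := uH_center hH
  set w : MonoidAlgebra ℂ H := idem b * classSum z with hw
  have hwc : IsCen w := (isCen_idem b).mul (isCen_classSum z)
  have hwi : IsInt M w := IsInt.mul hM (isInt_idem hM hb) (isInt_classSum hM z)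
  have hWH : InvBy H (incl H w) := invBy_incl_self hwc
  have hWi : IsInt M (conjSum H (incl H w)) := fun x => by
    simp only [conjSum, MonoidAlgebra.coeff_sum, Finsupp.finsetSum_apply]
    exact (localRing hM).sum_mem fun c _ => by rw [coeff_cjA]; exact isInt_incl _ hM hwi _
  -- its value
  have hval : ∀ ξ : IrrCharacter G, omega (ξ : G → ℂ) (conjSum H (incl H w)) =
      ((ξ : G → ℂ) 1)⁻¹ * ((H.index : ℂ) * part u b (ξ : G → ℂ) 1) := by
    intro ξ
    rw [omega_apply, chiSum_conjSum, hw, classSum_central hzc, map_mul,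
      show incl H (MonoidAlgebra.single z (1 : ℂ)) = MonoidAlgebra.single u 1 by simp [incl, hz],
      BlockTheoryInduced.chiSum_incl_mul_single H, part_eq_sum,
      ← BlockTheoryInduced.sum_blockCoeff_mul b
        (isClassFunction_section hH (irr_classFun ξ))]
    congr 2
    refine Finset.sum_congr rfl fun k _ => ?_
    rw [coeff_idem, Subgroup.coe_mul, Subgroup.coe_one, mul_one, ((hH k).1 k.2).eq]
  -- at a member of height zero it differs from the idempotent by an element of the ideal
  obtain ⟨φ, hφ, hφ0⟩ := exists_height_zero hM hB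
  have hφn : ¬ MemLocalIdeal M (omega (φ : G → ℂ) (conjSum H (eb H b))) :=
    omega_conjSum_not_ideal hH hM hu hind hd hφ
  have hzero : chiSum (φ : G → ℂ) (eb H b) =
      ∑ ξ ∈ members b, (S4716.mult φ ξ : ℂ) * (ξ : H → ℂ) 1 := by
    have h1 : ∀ y : MonoidAlgebra ℂ H, chiSum (φ : G → ℂ) (incl H y) =
        ∑ k : H, y.coeff k * (φ : G → ℂ) k := fun y => by
      have := BlockTheoryInduced.chiSum_incl_mul_single H (φ : G → ℂ) y (1 : G)
      rw [← MonoidAlgebra.one_def, mul_one] at this
      simpa using this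
    rw [eb_eq_incl, h1, ← filter_eq_members, Finset.sum_filter]
    have h2 := BlockTheoryInduced.sum_blockCoeff_mul b (f := fun c : H => (φ : G → ℂ) c)
      (fun a c => irr_classFun φ (a : G) (c : G)) 1
    simp only [mul_one] at h2
    simp only [coeff_idem]
    rw [h2]
    exact Finset.sum_congr rfl fun ξ _ => by
      rw [show classInner (fun c : H => (φ : G → ℂ) c) (ξ : H → ℂ) = (S4716.mult φ ξ : ℂ) from
        S4716.mult_spec φ ξ]
  have hlam : ∀ ξ : IrrCharacter H, MemLocalIdeal M (S4716.lam z ξ - 1) := by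
    intro ξ
    obtain ⟨k, hk⟩ := hu
    refine S4716.root_congr_one hM (k := k) ?_
    rw [← S4716.lam_pow hzc, show z ^ p ^ k = 1 from Subtype.ext (by simp [hz, ← hk, pow_orderOf_eq_one])]
    simp [S4716.lam, irr_one_ne_zero ξ]
  have hdiff : MemLocalIdeal M (omega (φ : G → ℂ) (conjSum H (incl H w)) -
      omega (φ : G → ℂ) (conjSum H (eb H b))) := by
    rw [hval, omega_apply, chiSum_conjSum, hzero, S4716.part_eq hH]
    simp only [Finset.mul_sum, ← Finset.sum_sub_distrib]
    refine ideal_sum hM fun ξ hξ => ?_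
    have hξb := mem_members.1 hξ
    have hr : MemLocalRing M ((S4716.mult φ ξ : ℂ) *
        (((H.index * charDegree (ξ : H → ℂ) : ℕ) : ℂ) / (charDegree (φ : G → ℂ) : ℂ))) := by
      refine (localRing hM).mul_mem (natCast_mem (localRing hM) _)
        (natCast_div_mem hM (ClassAlgebraVal.charDegree_pos φ).ne' fun _ => ?_)
      rw [Nat.factorization_mul Subgroup.index_ne_zero_of_finite
        (ClassAlgebraVal.charDegree_pos ξ).ne', Finsupp.add_apply]
      have h1 := minExp_add_defect hM hb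
      have h2 := minExp_add_defect hM hB
      have h3 : (Nat.card G).factorization p =
          H.index.factorization p + (Nat.card H).factorization p := by
        rw [← H.index_mul_card, Nat.factorization_mul Subgroup.index_ne_zero_of_finite
          Nat.card_pos.ne']
        rfl
      have h4 := exp_eq_add (p := p) hφ
      rw [hφ0] at h4
      have h5 := minExp_le (p := p) hξb
      omega
    have h := ideal_mul_left hM hr (hlam ξ)
    convert h using 1
    rw [CharAverage.irr_apply_one φ, CharAverage.irr_apply_one ξ, ← hz]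
    push_cast
    ring
  obtain ⟨ξ, hξ⟩ := block_nonempty hM hb
  intro h0
  refine hφn ?_
  have h1 := BlockTheoryInduced.inducedBlock_congr H hM hind hξ hφ (isCen_conjSum hWH) hWi
  have h2 := BlockTheoryInduced.inducedBlock_congr H hM hind hξ hχ (isCen_conjSum hWH) hWi
  rw [show omega (χ : G → ℂ) (conjSum H (incl H w)) = 0 by rw [hval, h0]; simp, sub_zero] at h2
  have h3 := ideal_sub hM (ideal_sub hM h2 h1) hdiff
  convert h3 using 1
  ring

/-- `k(B) ≤ p ^ d` at a major subsection with one Brauer character. -/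
theorem card_le (hM : IsPModular p M) (hu : ∃ k, orderOf u = p ^ k)
    {b : Set (IrrCharacter H)} {B : Set (IrrCharacter G)} (hind : IsInducedBlock M H b B)
    (hd : blockDefect p b = blockDefect p B) (hl : blockRank p b = 1) :
    Nat.card B ≤ p ^ blockDefect p B := by
  obtain ⟨F, d, -, hF, hsum⟩ := S4675.main hM hind.1 hl
  have h1r : ¬ p ∣ orderOf (1 : H) := by rw [orderOf_one]; exact hM.1.not_dvd_one
  have hd1 : ∀ ξ ∈ b, (ξ : H → ℂ) 1 = (d ξ : ℂ) * F 1 := fun ξ hξ => hF ξ hξ 1 h1r
  have hF0 : F 1 ≠ 0 := by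
    obtain ⟨ξ, hξ⟩ := block_nonempty hM hind.1
    intro h
    exact irr_one_ne_zero ξ (by rw [hd1 ξ hξ, h, mul_zero])
  rw [finsum_eq_members] at hsum
  set z : H := ⟨u, (hH u).2 (Commute.refl u)⟩ with hz
  have hzc : z ∈ Subgroup.center H := uH_center hH
  set Z := Subgroup.center H
  -- the decomposition numbers as characters of the centre
  let Dv : IrrCharacter G → Z → ℂ := fun χ a =>
    ∑ ξ ∈ members b, ((S4716.mult χ ξ * d ξ : ℕ) : ℂ) * S4716.lam (a : H) ξ
  have hchar : ∀ χ, IsCharacter Z (Dv χ) := by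
    intro χ
    have e : Dv χ = ∑ ξ ∈ members b,
        fun a : Z => ((S4716.mult χ ξ * d ξ : ℕ) : ℂ) * S4716.lam (a : H) ξ := by
      funext a; rw [Finset.sum_apply]
    rw [e]
    refine CharBasicDecomp.isCharacter_sum _ _ fun ξ _ => ?_
    let l : Z →* ℂ :=
      { toFun := fun a => S4716.lam (a : H) ξ
        map_one' := div_self (irr_one_ne_zero ξ)
        map_mul' := fun a b => by
          show S4716.lam ((a : H) * (b : H)) ξ = S4716.lam (a : H) ξ * S4716.lam (b : H) ξ
          conv_lhs => rw [S4716.lam, S4716.lam_mul a.2]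
          simp only [S4716.lam]; ring }
    have h := CharBasicDecomp.isCharacter_nsmul
      (CharBasicDecomp.isCharacter_linear l.toHomUnits) (S4716.mult χ ξ * d ξ)
    convert h using 1
    funext a
    simp only [Pi.smul_apply, nsmul_eq_mul, MonoidHom.coe_toHomUnits]
    rfl
  have hpart : ∀ (χ : IrrCharacter G) (a : Z), (∀ g, g ∈ H ↔ Commute ((a : H) : G) g) →
      part ((a : H) : G) b (χ : G → ℂ) 1 = Dv χ a * F 1 := by
    intro χ a ha
    rw [S4716.part_eq ha, Finset.sum_mul]
    refine Finset.sum_congr rfl fun ξ hξ => ?_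
    rw [hd1 ξ (mem_members.1 hξ)]
    push_cast
    ring
  set gs := CharBasicCyclic.gens (Subgroup.zpowers (⟨z, hzc⟩ : Z)) with hgs
  have hgens : ∀ a ∈ gs, Subgroup.zpowers ((a : H) : G) = Subgroup.zpowers u := by
    intro a ha
    have := congrArg (Subgroup.map (H.subtype.comp Z.subtype)) (CharBasicCyclic.mem_gens.1 ha)
    rwa [MonoidHom.map_zpowers, MonoidHom.map_zpowers] at this
  have hsame : ∀ a ∈ gs, (∀ g, g ∈ H ↔ Commute ((a : H) : G) g) ∧
      ∃ k, orderOf ((a : H) : G) = p ^ k := by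
    intro a ha
    refine ⟨fun g => ?_, ?_⟩
    · rw [hH]
      have e : ∀ v w : G, v ∈ Subgroup.zpowers w → Commute w g → Commute v g := by
        rintro v w hv hc
        obtain ⟨i, rfl⟩ := Subgroup.mem_zpowers_iff.1 hv
        exact hc.zpow_left i
      exact ⟨e _ _ (hgens a ha ▸ Subgroup.mem_zpowers _),
        e _ _ ((hgens a ha).symm ▸ Subgroup.mem_zpowers u)⟩
    · obtain ⟨k, hk⟩ := hu
      exact ⟨k, by rw [← Nat.card_zpowers, hgens a ha, Nat.card_zpowers, hk]⟩
  have hnorm : ∀ a ∈ gs, ∑ χ ∈ members B, ‖Dv χ a‖ ^ 2 = (p : ℝ) ^ blockDefect p B := by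
    intro a ha
    obtain ⟨haH, hao⟩ := hsame a ha
    have h := sum_part_mul_induced haH hM hao hind h1r h1r
    have hk : kern b 1 1 = F 1 * conj (F 1) * ((p : ℂ) ^ blockDefect p B) := by
      rw [← hd, ← Nat.cast_pow, ← hsum, kern, ← Finset.sum_filter, filter_eq_members,
        Nat.cast_sum, Finset.mul_sum]
      refine Finset.sum_congr rfl fun ξ hξ => ?_
      rw [hd1 ξ (mem_members.1 hξ), map_mul, map_natCast]
      push_cast
      ring
    rw [hk, ← Finset.sum_filter, filter_eq_members] at h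
    have h2 : (∑ χ ∈ members B, Dv χ a * conj (Dv χ a)) * (F 1 * conj (F 1)) =
        ((p : ℂ) ^ blockDefect p B) * (F 1 * conj (F 1)) := by
      rw [Finset.sum_mul, mul_comm ((p : ℂ) ^ blockDefect p B), ← h]
      refine Finset.sum_congr rfl fun χ _ => ?_
      rw [hpart χ a haH, map_mul]; ring
    have h3 := mul_right_cancel₀
      (mul_ne_zero hF0 (by simpa using hF0 : conj (F 1) ≠ 0)) h2
    apply Complex.ofReal_injective
    push_cast
    rw [← h3]
    exact Finset.sum_congr rfl fun χ _ => by rw [Complex.mul_conj']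
  have hne : ∀ χ ∈ members B, Dv χ ⟨z, hzc⟩ ≠ 0 := by
    intro χ hχ h0
    refine part_one_ne_zero hH hM hu hind hd (mem_members.1 hχ) ?_
    have h := hpart χ ⟨z, hzc⟩ hH
    rw [h0, zero_mul] at h
    exact h
  have hfinal : (gs.card : ℝ) * Nat.card B ≤ gs.card * (p : ℝ) ^ blockDefect p B := by
    calc (gs.card : ℝ) * Nat.card B = ∑ χ ∈ members B, (gs.card : ℝ) := by
          rw [Finset.sum_const, nsmul_eq_mul, card_members, mul_comm]
      _ ≤ ∑ χ ∈ members B, ∑ a ∈ gs, ‖Dv χ a‖ ^ 2 := Finset.sum_le_sum fun χ hχ =>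
          S4574.sum_gens_ge _ (hchar χ) (hne χ hχ)
      _ = _ := by rw [Finset.sum_comm, Finset.sum_congr rfl hnorm, Finset.sum_const, nsmul_eq_mul]
  have hg0 : (0 : ℝ) < gs.card := by
    exact_mod_cast Finset.card_pos.2 ⟨_, CharBasicCyclic.mem_gens.2 rfl⟩
  exact_mod_cast le_of_mul_le_mul_left hfinal hg0

/-- At an involution the decomposition numbers of a subsection with one Brauer character are
nonzero integers. -/
theorem exists_int_decomp (hM : IsPModular p M) (hu : ∃ k, orderOf u = p ^ k) (hu2 : u * u = 1)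
    {b : Set (IrrCharacter H)} {B : Set (IrrCharacter G)} (hind : IsInducedBlock M H b B)
    (hd : blockDefect p b = blockDefect p B) (hl : blockRank p b = 1) :
    ∃ f : IrrCharacter G → ℤ, (∀ χ ∈ B, f χ ≠ 0) ∧
      ∑ χ ∈ members B, f χ ^ 2 = (p : ℤ) ^ blockDefect p B := by
  obtain ⟨F, d, -, hF, hsum⟩ := S4675.main hM hind.1 hl
  have h1r : ¬ p ∣ orderOf (1 : H) := by rw [orderOf_one]; exact hM.1.not_dvd_one
  have hd1 : ∀ ξ ∈ b, (ξ : H → ℂ) 1 = (d ξ : ℂ) * F 1 := fun ξ hξ => hF ξ hξ 1 h1r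
  have hF0 : F 1 ≠ 0 := by
    obtain ⟨ξ, hξ⟩ := block_nonempty hM hind.1
    intro h
    exact irr_one_ne_zero ξ (by rw [hd1 ξ hξ, h, mul_zero])
  rw [finsum_eq_members] at hsum
  set z : H := ⟨u, (hH u).2 (Commute.refl u)⟩ with hz
  have hzc : z ∈ Subgroup.center H := uH_center hH
  have hsgn : ∀ ξ : IrrCharacter H, ∃ s : ℤ, S4716.lam z ξ = (s : ℂ) := by
    intro ξ
    have h : S4716.lam z ξ ^ 2 = 1 := by
      rw [← S4716.lam_pow hzc, show z ^ 2 = 1 from Subtype.ext (by simp [hz, pow_two, hu2])]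
      simp [S4716.lam, irr_one_ne_zero ξ]
    rcases sq_eq_one_iff.1 h with h | h
    · exact ⟨1, by simpa using h⟩
    · exact ⟨-1, by simpa using h⟩
  choose s hs using hsgn
  let f : IrrCharacter G → ℤ := fun χ => ∑ ξ ∈ members b, (S4716.mult χ ξ * d ξ : ℕ) * s ξ
  have hpart : ∀ χ : IrrCharacter G, part u b (χ : G → ℂ) 1 = (f χ : ℂ) * F 1 := by
    intro χ
    simp only [f]
    rw [Int.cast_sum, S4716.part_eq hH, Finset.sum_mul]
    refine Finset.sum_congr rfl fun ξ hξ => ?_
    rw [← hz, hs, hd1 ξ (mem_members.1 hξ)]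
    push_cast
    ring
  refine ⟨f, fun χ hχ h0 => part_one_ne_zero hH hM hu hind hd hχ (by rw [hpart, h0]; simp), ?_⟩
  have h := sum_part_mul_induced hH hM hu hind h1r h1r
  have hk : kern b 1 1 = F 1 * conj (F 1) * ((p : ℂ) ^ blockDefect p B) := by
    rw [← hd, ← Nat.cast_pow, ← hsum, kern, ← Finset.sum_filter, filter_eq_members,
      Nat.cast_sum, Finset.mul_sum]
    refine Finset.sum_congr rfl fun ξ hξ => ?_
    rw [hd1 ξ (mem_members.1 hξ), map_mul, map_natCast]
    push_cast
    ring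
  rw [hk, ← Finset.sum_filter, filter_eq_members] at h
  have h2 : (∑ χ ∈ members B, (f χ : ℂ) ^ 2) * (F 1 * conj (F 1)) =
      ((p : ℂ) ^ blockDefect p B) * (F 1 * conj (F 1)) := by
    rw [Finset.sum_mul, mul_comm ((p : ℂ) ^ blockDefect p B), ← h]
    refine Finset.sum_congr rfl fun χ _ => ?_
    rw [hpart, map_mul, map_intCast]; ring
  exact_mod_cast mul_right_cancel₀
    (mul_ne_zero hF0 (by simpa using hF0 : conj (F 1) ≠ 0)) h2

end Cfsg.Agent.BlockMajor81
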