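import Cfsg.Agent.Lib.BrauerBlocksCovering
import Cfsg.Agent.Lib.BrauerPairs81Conj

/-!
The defect group of a block covering a block `b` of a normal subgroup meets the subgroup in a
defect group of `b`.

The idempotents of the two blocks are decomposed along the cosets of the normal subgroup `N`; if
the truncation at the defect group of `b` vanished, the component in `N` would be nilpotent modulo
the ideal, hence so would the whole product.
-/

set_option autoImplicit false

namespace Cfsg.Agent.BlockTheoryMeet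

open Cfsg Cfsg.Agent.BlockTheoryLocalRing Cfsg.Agent.BlockTheoryCentre
open Cfsg.Agent.BlockTheoryIdem Cfsg.Agent.BlockTheoryBrauer Cfsg.Agent.BlockTheoryDefect
open Cfsg.Agent.BrauerBlocksCovering Cfsg.Agent.BrauerPairs81Base
open Cfsg.Agent.BrauerPairs81Pairs Cfsg.Agent.BrauerPairs81Conj Cfsg.Agent.BlockTheoryNormal
open Cfsg.Agent.CharInduced Cfsg.Agent.BlockTheoryRotation
open scoped ComplexConjugate

attribute [local instance] Classical.propDecidable

set_option linter.unusedSectionVars false

/-! ### Returns of a word to a value -/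

section Word

variable {K : Type*} [Group K]

/-- The number of prefixes of a word with a given product. -/
noncomputable def cnt : List K → K → ℕ
  | [], c => if c = 1 then 1 else 0
  | a :: l, c => (if c = 1 then 1 else 0) + cnt l (a⁻¹ * c)

theorem sum_cnt [Fintype K] : ∀ l : List K, ∑ c, cnt l c = l.length + 1
  | [] => by simp [cnt]
  | a :: l => by
    have h : ∑ c, cnt l (a⁻¹ * c) = ∑ c, cnt l c := Equiv.sum_comp (Equiv.mulLeft a⁻¹) (cnt l)
    simp only [cnt, Finset.sum_add_distrib, h, sum_cnt l]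
    simp [add_comm]

theorem split_cnt : ∀ (l : List K) (c : K), 1 ≤ cnt l c →
    ∃ l₁ l₂, l = l₁ ++ l₂ ∧ l₁.prod = c ∧ cnt l c ≤ cnt l₂ 1
  | [], c, h => by
    by_cases hc : c = 1
    · exact ⟨[], [], rfl, by simp [hc], by rw [hc]⟩
    · simp [cnt, hc] at h
  | a :: l, c, h => by
    by_cases hc : c = 1
    · exact ⟨[], a :: l, rfl, by simp [hc], by rw [hc]⟩
    · obtain ⟨l₁, l₂, rfl, hp, hn⟩ := split_cnt l (a⁻¹ * c) (by simpa [cnt, hc] using h)
      exact ⟨a :: l₁, l₂, rfl, by simp [hp], by simpa [cnt, hc] using hn⟩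

theorem exists_segments : ∀ (j : ℕ) (l : List K), j + 1 ≤ cnt l 1 →
    ∃ (S : List (List K)) (r : List K), l = S.flatten ++ r ∧ S.length = j ∧
      ∀ s ∈ S, s ≠ [] ∧ s.prod = 1
  | 0, l, _ => ⟨[], l, rfl, rfl, by simp⟩
  | j + 1, [], h => by simp [cnt] at h
  | j + 1, a :: l, h => by
    have h' : j + 1 ≤ cnt l a⁻¹ := by simp [cnt] at h; omega
    obtain ⟨l₁, l₂, rfl, hp, hn⟩ := split_cnt l a⁻¹ (by omega)
    obtain ⟨S, r, rfl, hS, hall⟩ := exists_segments j l₂ (by omega)
    refine ⟨(a :: l₁) :: S, r, by simp, by simp [hS], ?_⟩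
    intro s hs
    rcases List.mem_cons.mp hs with rfl | hs
    · exact ⟨by simp, by simp [hp]⟩
    · exact hall s hs

/-- A long word returns `d` times to the same value. -/
theorem exists_returns [Fintype K] (d : ℕ) (l : List K) (h : Fintype.card K * d ≤ l.length) :
    ∃ (l₁ : List K) (S : List (List K)) (r : List K), l = l₁ ++ S.flatten ++ r ∧ S.length = d ∧
      ∀ s ∈ S, s ≠ [] ∧ s.prod = 1 := by
  obtain ⟨c, hc⟩ : ∃ c, d + 1 ≤ cnt l c := by
    by_contra! hcon
    have h1 : ∑ c, cnt l c ≤ ∑ _c : K, d := Finset.sum_le_sum fun c _ => by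
      have := hcon c; omega
    rw [sum_cnt, Finset.sum_const, smul_eq_mul, Finset.card_univ] at h1
    omega
  obtain ⟨l₁, l₂, rfl, -, hn⟩ := split_cnt l c (by omega)
  obtain ⟨S, r, rfl, hS, hall⟩ := exists_segments d l₂ (hc.trans hn)
  exact ⟨l₁, S, r, by simp [List.append_assoc], hS, hall⟩

end Word

variable {p : ℕ} [Fact p.Prime] {M : Ideal AlgInt}

section Nilpotent

variable {H : Type*} [Group H] [Fintype H]

/-- A product of enough central elements, all of whose central characters lie in the ideal, is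
negligible. -/
theorem small_prod (hM : IsPModular p M) (l : List (MonoidAlgebra ℂ H))
    (hl : ∀ z ∈ l, IsCen z ∧ IsInt M z ∧
      ∀ χ : IrrCharacter H, MemLocalIdeal M (omega (χ : H → ℂ) z))
    (hlen : l.length = Fintype.card (IrrCharacter H)) : Small M l.prod := by
  suffices key : ∀ (l : List (MonoidAlgebra ℂ H)) (S : Finset (IrrCharacter H)),
      (∀ z ∈ l, IsCen z ∧ IsInt M z ∧
        ∀ χ : IrrCharacter H, MemLocalIdeal M (omega (χ : H → ℂ) z)) → S.card = l.length →
      ∃ Y, IsCen Y ∧ IsInt M Y ∧ (∀ χ ∈ S, omega (χ : H → ℂ) Y = 0) ∧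
        IsInt M l.prod ∧ Small M (Y - l.prod) by
    obtain ⟨Y, hc, -, h0, -, hs⟩ := key l Finset.univ hl (by rw [hlen, Finset.card_univ])
    rw [show Y = 0 from ext_omega hc isCen_zero fun χ => by
      rw [h0 χ (Finset.mem_univ _), map_zero]] at hs
    simpa using small_symm hM hs
  intro l
  induction l with
  | nil =>
    intro S _ hS
    exact ⟨1, isCen_one, isInt_one hM, by simp [Finset.card_eq_zero.mp hS],
      by simpa using isInt_one hM, by simpa using small_zero hM⟩
  | cons z l ih =>
    intro S h hS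
    obtain ⟨χ, hχ⟩ : S.Nonempty := Finset.card_pos.mp (by simp [hS])
    obtain ⟨hzc, hzi, hz⟩ := h z (by simp)
    obtain ⟨Y, hc, hi, h0, hpi, hs⟩ := ih (S.erase χ) (fun w hw => h w (by simp [hw]))
      (by rw [Finset.card_erase_of_mem hχ, hS]; simp)
    set c := omega (χ : H → ℂ) z with hcdef
    have hwc : IsCen (z - c • 1) := hzc.sub (isCen_one.smul c)
    have hwi : IsInt M (z - c • 1) :=
      IsInt.sub hM hzi (IsInt.smul hM (ideal_le_ring (hz χ)) (isInt_one hM))
    refine ⟨(z - c • 1) * Y, hwc.mul hc, IsInt.mul hM hwi hi, fun ξ hξ => ?_, ?_, ?_⟩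
    · rw [omega_mul ξ hwc]
      by_cases hξχ : ξ = χ
      · subst hξχ
        rw [map_sub, map_smul, omega_one, smul_eq_mul, mul_one, ← hcdef, sub_self, zero_mul]
      · rw [h0 ξ (Finset.mem_erase.mpr ⟨hξχ, hξ⟩), mul_zero]
    · rw [List.prod_cons]; exact IsInt.mul hM hzi hpi
    · rw [List.prod_cons]
      refine small_mul_sub hM (fun x => ?_) hs hi hzi
      have := ideal_neg (ideal_mul_right hM (hz χ) (isInt_one hM (G := H) x))
      simpa [← hcdef] using this

end Nilpotent

variable {G : Type*} [Group G] [Fintype G] (N : Subgroup G) [hN : N.Normal] [Fintype N]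

/-! ### The components along the cosets -/

/-- The part of an element in a coset. -/
noncomputable def comp (z : MonoidAlgebra ℂ G) (c : G ⧸ N) : MonoidAlgebra ℂ G :=
  ofFun fun x => if (x : G ⧸ N) = c then z.coeff x else 0

theorem coeff_comp (z : MonoidAlgebra ℂ G) (c : G ⧸ N) (x : G) :
    (comp N z c).coeff x = if (x : G ⧸ N) = c then z.coeff x else 0 := rfl

theorem sum_comp (z : MonoidAlgebra ℂ G) : ∑ c, comp N z c = z := by
  refine MonoidAlgebra.ext ?_
  ext x
  simp only [MonoidAlgebra.coeff_sum, Finset.sum_apply', coeff_comp, Finset.sum_ite_eq,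
    Finset.mem_univ, if_true]

theorem mk_conj {u : G} (hu : u ∈ N) (x : G) : ((u * x * u⁻¹ : G) : G ⧸ N) = (x : G ⧸ N) := by
  simp [(QuotientGroup.eq_one_iff u).mpr hu]

theorem invBy_comp {z : MonoidAlgebra ℂ G} (hz : InvBy N z) (c : G ⧸ N) :
    InvBy N (comp N z c) := fun u hu x => by
  rw [coeff_comp, coeff_comp, mk_conj N hu, hz u hu]

theorem isInt_comp (hM : IsPModular p M) {z : MonoidAlgebra ℂ G} (hz : IsInt M z) (c : G ⧸ N) :
    IsInt M (comp N z c) := fun x => by
  rw [coeff_comp]
  split_ifs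
  exacts [hz x, (localRing hM).zero_mem]

/-- Supported in a coset. -/
def SuppIn (c : G ⧸ N) (w : MonoidAlgebra ℂ G) : Prop :=
  ∀ x : G, (x : G ⧸ N) ≠ c → w.coeff x = 0

theorem suppIn_comp (z : MonoidAlgebra ℂ G) (c : G ⧸ N) : SuppIn N c (comp N z c) :=
  fun x hx => by rw [coeff_comp, if_neg hx]

theorem suppIn_one : SuppIn N 1 (1 : MonoidAlgebra ℂ G) := fun x hx => by
  rw [MonoidAlgebra.one_def, MonoidAlgebra.coeff_single, Finsupp.single_apply, if_neg]
  rintro rfl
  exact hx rfl

theorem suppIn_mul {c d : G ⧸ N} {w v : MonoidAlgebra ℂ G} (hw : SuppIn N c w)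
    (hv : SuppIn N d v) : SuppIn N (c * d) (w * v) := fun x hx => by
  rw [coeff_mul_eq]
  refine Finset.sum_eq_zero fun y _ => ?_
  by_cases hy : (y : G ⧸ N) = c
  · rw [hv (y⁻¹ * x) ?_, mul_zero]
    intro h
    exact hx (by rw [← hy, ← h]; simp)
  · rw [hw y hy, zero_mul]

theorem comp_mul_incl {z : MonoidAlgebra ℂ G} (e : MonoidAlgebra ℂ N)
    (hz : z * incl N e = z) (c : G ⧸ N) : comp N z c * incl N e = comp N z c := by
  refine MonoidAlgebra.ext ?_
  ext x
  have hzx := congrArg (fun w : MonoidAlgebra ℂ G => w.coeff x) hz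
  simp only [coeff_mul_eq] at hzx ⊢
  rw [coeff_comp]
  have key : ∀ y : G, (comp N z c).coeff y * (incl N e).coeff (y⁻¹ * x) =
      if (x : G ⧸ N) = c then z.coeff y * (incl N e).coeff (y⁻¹ * x) else 0 := by
    intro y
    by_cases hy : y⁻¹ * x ∈ N
    · rw [coeff_comp, QuotientGroup.eq.mpr hy]
      split_ifs <;> simp
    · rw [coeff_incl_of_notMem N e hy]; simp
  rw [Finset.sum_congr rfl fun y _ => key y]
  split_ifs with hx
  · exact hzx
  · exact Finset.sum_const_zero

/-- The product of the components along a word. -/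
noncomputable def word (z : MonoidAlgebra ℂ G) (l : List (G ⧸ N)) : MonoidAlgebra ℂ G :=
  (l.map (comp N z)).prod

theorem word_append (z : MonoidAlgebra ℂ G) (l l' : List (G ⧸ N)) :
    word N z (l ++ l') = word N z l * word N z l' := by simp [word]

theorem word_flatten (z : MonoidAlgebra ℂ G) : ∀ S : List (List (G ⧸ N)),
    word N z S.flatten = (S.map (word N z)).prod
  | [] => by simp [word]
  | s :: S => by rw [List.flatten_cons, word_append, word_flatten z S, List.map_cons, List.prod_cons]

theorem suppIn_word (z : MonoidAlgebra ℂ G) : ∀ l, SuppIn N l.prod (word N z l)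
  | [] => by simpa [word] using suppIn_one N
  | c :: l => by
    rw [List.prod_cons, word, List.map_cons, List.prod_cons]
    exact suppIn_mul N (suppIn_comp N z c) (suppIn_word z l)

theorem invBy_word {z : MonoidAlgebra ℂ G} (hz : InvBy N z) : ∀ l, InvBy N (word N z l)
  | [] => by simpa [word] using IsCen.invBy isCen_one N
  | c :: l => by
    rw [word, List.map_cons, List.prod_cons]
    exact invBy_mul (invBy_comp N hz c) (invBy_word hz l)

theorem isInt_word (hM : IsPModular p M) {z : MonoidAlgebra ℂ G} (hz : IsInt M z) :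
    ∀ l, IsInt M (word N z l)
  | [] => by simpa [word] using isInt_one hM
  | c :: l => by
    rw [word, List.map_cons, List.prod_cons]
    exact IsInt.mul hM (isInt_comp N hM hz c) (isInt_word hM hz l)

theorem word_mul_incl {z : MonoidAlgebra ℂ G} {e : MonoidAlgebra ℂ N} (hz : z * incl N e = z) :
    ∀ l : List (G ⧸ N), l ≠ [] → word N z l * incl N e = word N z l
  | [], h => absurd rfl h
  | [c], _ => by simpa [word] using comp_mul_incl N e hz c
  | c :: d :: l, _ => by
    have := word_mul_incl hz (d :: l) (by simp)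
    rw [word] at this ⊢
    rw [List.map_cons, List.prod_cons, mul_assoc, this]

theorem incl_res_of_supp {w : MonoidAlgebra ℂ G} (hw : SuppIn N 1 w) :
    incl N (res N w) = w := by
  refine MonoidAlgebra.ext ?_
  ext x
  by_cases hx : x ∈ N
  · rw [show x = ((⟨x, hx⟩ : N) : G) from rfl, coeff_incl_coe, coeff_res]
  · rw [coeff_incl_of_notMem N _ hx, hw x fun h => hx ((QuotientGroup.eq_one_iff x).mp h)]

theorem small_incl (hM : IsPModular p M) {y : MonoidAlgebra ℂ N} (hy : Small M y) :
    Small M (incl N y) := fun x => by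
  by_cases hx : x ∈ N
  · rw [show x = ((⟨x, hx⟩ : N) : G) from rfl, coeff_incl_coe]; exact hy _
  · rw [coeff_incl_of_notMem N _ hx]; exact ideal_zero hM

/-! ### The defect group of the covered block is seen by the covering block -/

variable {b : Set (IrrCharacter N)} {Q : Subgroup G}

theorem small_res_word (hM : IsPModular p M) (hQN : Q ≤ N) (hQ : IsPGroup p Q)
    {z : MonoidAlgebra ℂ G} (hz : InvBy N z) (hzi : IsInt M z)
    (hs : Small M (res (Cen Q) z)) :
    ∀ l : List (G ⧸ N), l ≠ [] → Small M (res (Cen Q) (word N z l))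
  | [], h => absurd rfl h
  | c :: l, _ => by
    have h1 : Small M (res (Cen Q) (comp N z c)) := fun x => by
      rw [coeff_res, coeff_comp]
      split_ifs
      exacts [hs x, ideal_zero hM]
    rw [word, List.map_cons, List.prod_cons]
    have h2 := small_res_mul hM hQ (invBy_mono hQN (invBy_comp N hz c))
      (invBy_mono hQN (invBy_word N hz l)) (isInt_comp N hM hzi c) (isInt_word N hM hzi l)
    have h3 := small_mul_right hM h1 (isInt_res (Cen Q) (isInt_word N hM hzi l))
    simpa [word] using small_add hM h2 h3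

/-- An idempotent fixed by `e_b` and negligible on `C(Q)` is negligible. -/
theorem small_of_small_res (hM : IsPModular p M) (hb : IsPBlock M b) (hQN : Q ≤ N)
    (hD : IsDefectGroup p M b (Q.subgroupOf N)) (hQ : IsPGroup p Q) {z : MonoidAlgebra ℂ G}
    (hz : InvBy N z) (hzi : IsInt M z) (hzz : z * z = z) (hzb : z * incl N (idem b) = z)
    (hs : Small M (res (Cen Q) z)) : Small M z := by
  set d := Fintype.card (IrrCharacter N)
  set m := Fintype.card (G ⧸ N) * d + 1
  suffices key : ∀ (k : ℕ) (l : List (G ⧸ N)), l.length + k = m → Small M (word N z l * z ^ k) by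
    have h := key m [] (by simp)
    rwa [word, List.map_nil, List.prod_nil, one_mul, show z ^ m = z from pow_idem hzz (by omega)]
      at h
  intro k
  induction k with
  | zero =>
    intro l hl
    obtain ⟨l₁, S, r, rfl, hS, hall⟩ := exists_returns d l (by omega)
    rw [pow_zero, mul_one, word_append, word_append, word_flatten]
    refine small_mul_right hM (small_mul_left hM (isInt_word N hM hzi l₁) ?_)
      (isInt_word N hM hzi r)
    have e : S.map (word N z) =
        (S.map fun s => res N (word N z s) * idem b).map (incl N) := by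
      rw [List.map_map]
      refine List.map_congr_left fun s hs' => ?_
      obtain ⟨hne, hp⟩ := hall s hs'
      have hsupp : SuppIn N 1 (word N z s) := hp ▸ suppIn_word N z s
      show word N z s = incl N (res N (word N z s) * idem b)
      rw [map_mul, incl_res_of_supp N hsupp, word_mul_incl N hzb s hne]
    rw [e, ← map_list_prod]
    refine small_incl N hM (small_prod hM _ ?_ (by simp [hS, d]))
    intro y hy
    obtain ⟨s, hs', rfl⟩ := List.mem_map.mp hy
    have hc : IsCen (res N (word N z s)) := isCen_res_of_invBy (invBy_word N hz s)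
    have hi : IsInt M (res N (word N z s)) := isInt_res N (isInt_word N hM hzi s)
    refine ⟨hc.mul (isCen_idem b), IsInt.mul hM hi (isInt_idem hM hb), fun θ => ?_⟩
    rw [omega_mul θ hc, omega_idem]
    split_ifs with hθ
    · rw [mul_one]
      refine omega_ideal_of_cut_small hM hb (hQ.comap_subtype)
        (not_small_cut_defect hM hb hD) hc hi (fun x => ?_) hθ
      rw [coeff_cut]
      split_ifs with hx
      · have hxQ : (x : G) ∈ Cen Q := Subgroup.mem_centralizer_iff.mpr fun u hu =>
          congrArg Subtype.val (Subgroup.mem_centralizer_iff.mp hx ⟨u, hQN hu⟩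
            (Subgroup.mem_subgroupOf.mpr hu))
        exact small_res_word N hM hQN hQ hz hzi hs s (hall s hs').1 ⟨x, hxQ⟩
      · exact ideal_zero hM
    · rw [mul_zero]; exact ideal_zero hM
  | succ k ih =>
    intro l hl
    rw [pow_succ', ← mul_assoc]
    conv => arg 2; arg 1; arg 2; rw [← sum_comp N z]
    rw [Finset.mul_sum, Finset.sum_mul]
    refine Finset.sum_induction _ (Small M) (fun _ _ => small_add hM) (small_zero hM)
      fun c _ => ?_
    have := ih (l ++ [c]) (by simp; omega)
    rwa [word_append, show word N z [c] = comp N z c from by simp [word]] at this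

/-! ### Conjugate blocks -/

theorem cjA_distrib (g : G) (z w : MonoidAlgebra ℂ G) : cjA g (z * w) = cjA g z * cjA g w := by
  refine MonoidAlgebra.ext ?_
  ext x
  rw [coeff_cjA, coeff_mul_eq, coeff_mul_eq, ← Equiv.sum_comp (MulAut.conj g⁻¹).toEquiv]
  refine Finset.sum_congr rfl fun y _ => ?_
  simp only [MulEquiv.toEquiv_eq_coe, MulEquiv.coe_toEquiv, MulAut.conj_apply, inv_inv, coeff_cjA]
  congr 2
  group

theorem conj_mem_iff (g x : G) : x ∈ N ↔ g * x * g⁻¹ ∈ N :=
  ⟨fun h => hN.conj_mem x h g, fun h => by simpa [mul_assoc] using hN.conj_mem _ h g⁻¹⟩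

theorem exists_conj_of_mem_orb (hM : IsPModular p M) (hb : IsPBlock M b)
    {b' : Set (IrrCharacter N)} (hb' : IsPBlock M b') (hsub : b' ⊆ orb N b) :
    ∃ g : G, eb N b' = cjA g (eb N b) := by
  obtain ⟨ξ, hξ⟩ := block_nonempty hM hb'
  obtain ⟨g, hg⟩ := hsub hξ
  refine ⟨g, ?_⟩
  rw [cjA_eb (conj_mem_iff N g)]
  congr 1
  refine block_eq_of_mem hM hb' (isPBlock_push _ hb) hξ ⟨_, hg, ?_⟩
  refine Subtype.ext (funext fun n' => ?_)
  obtain ⟨n, rfl⟩ := (conjEquiv g N N (conj_mem_iff N g)).surjective n'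
  rw [pushChar_apply]
  rfl

/-- The blocks in the orbit. -/
noncomputable def orbBlocks (M : Ideal AlgInt) (b : Set (IrrCharacter N)) :
    Finset (Set (IrrCharacter N)) := (blockSet M N).filter fun b' => b' ⊆ orb N b

theorem sum_orbBlocks (hM : IsPModular p M) (hb : IsPBlock M b) :
    idem (orb N b) = ∑ b' ∈ orbBlocks N M b, idem b' := by
  refine ext_omega (isCen_idem _)
    (Finset.sum_induction _ IsCen (fun _ _ => IsCen.add) isCen_zero fun c _ => isCen_idem c)
    fun θ => ?_
  rw [map_sum, omega_idem]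
  simp only [omega_idem]
  by_cases hθ : θ ∈ orb N b
  · rw [if_pos hθ, Finset.sum_eq_single (blockOf M (θ : N → ℂ)), if_pos (self_mem_blockOf hM θ)]
    · intro c hc hne
      exact if_neg fun h => hne (eq_blockOf_of_mem hM (mem_blockSet.mp (Finset.mem_filter.mp hc).1) h)
    · intro h
      refine absurd (Finset.mem_filter.mpr ⟨mem_blockSet.mpr (isPBlock_blockOf θ), ?_⟩) h
      exact fun ψ hψ => orb_closed N hM hb θ hθ ψ hψ
  · rw [if_neg hθ, Finset.sum_eq_zero]
    intro c hc
    exact if_neg fun h => hθ ((Finset.mem_filter.mp hc).2 h)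

theorem incl_orb (hM : IsPModular p M) (hb : IsPBlock M b) :
    liftIdem N (orb N b) = ∑ b' ∈ orbBlocks N M b, eb N b' := by
  rw [Finset.sum_congr rfl fun b' _ => eb_eq_incl N b', ← map_sum]
  erw [← sum_orbBlocks N hM hb]
  refine MonoidAlgebra.ext ?_
  ext x
  by_cases hx : x ∈ N
  · rw [show x = ((⟨x, hx⟩ : N) : G) from rfl, coeff_incl_coe]
    simp only [liftIdem, coeff_ofFun]
    rw [dif_pos hx, coeff_idem]
  · rw [coeff_incl_of_notMem N _ hx, liftIdem_supp N _ x hx]

theorem liftIdem_mul_idem (hM : IsPModular p M) (hb : IsPBlock M b) {B : Set (IrrCharacter G)}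
    (hB : IsPBlock M B)
    (hcov : ∃ χ ∈ B, ∃ θ ∈ b, classInner (fun n : N => (χ : G → ℂ) n) (θ : N → ℂ) ≠ 0) :
    liftIdem N (orb N b) * idem B = idem B := by
  have hcen : IsCen (liftIdem N (orb N b)) :=
    isCen_liftIdem N fun ξ a => conjIrr_mem_orb_iff N a
  refine ext_omega (hcen.mul (isCen_idem B)) (isCen_idem B) fun χ => ?_
  rw [omega_mul χ hcen, omega_idem]
  split_ifs with hχ
  · obtain ⟨χ₀, hχ₀, θ, hθ, hcon⟩ := hcov
    obtain ⟨ψ, hψ⟩ := exists_constituent (G := N)
      (isCharacter_res N (CharBasic.isCharacter_of_isIrrCharacter χ.2)) (irr_one_ne_zero χ)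
    rw [omega_lift N χ hψ, if_pos (mem_orb_of_sameBlock N hM hb (sameBlock_of_mem hM hB hχ₀ hχ)
      hθ hcon hψ), one_mul]
  · rw [mul_zero]

theorem not_small_cut_covered (hM : IsPModular p M) (hb : IsPBlock M b) (hQN : Q ≤ N)
    (hD : IsDefectGroup p M b (Q.subgroupOf N)) (hQ : IsPGroup p Q) {B : Set (IrrCharacter G)}
    (hB : IsPBlock M B)
    (hcov : ∃ χ ∈ B, ∃ θ ∈ b, classInner (fun n : N => (χ : G → ℂ) n) (θ : N → ℂ) ≠ 0) :
    ¬ Small M (cut Q (idem B)) := by
  intro hs
  have hBi := isInt_idem hM hB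
  have hbinv : InvBy N (eb N b) := invBy_eb_self N b
  have hbi : IsInt M (eb N b) := isInt_eb hM hb
  set z := idem B * eb N b with hzdef
  have hzz : z * z = z := by
    rw [hzdef, mul_assoc, ← mul_assoc (eb N b), ← (isCen_idem B).comm, mul_assoc, eb_sq,
      ← mul_assoc, idem_sq]
  have hzs : Small M (res (Cen Q) z) := by
    have h1 := small_res_mul hM hQ (IsCen.invBy (isCen_idem B) Q) (invBy_mono hQN hbinv) hBi hbi
    have h2 := small_mul_right hM (small_res_of_small_cut hs) (isInt_res (Cen Q) hbi)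
    simpa [hzdef] using small_add hM h1 h2
  have hsm : Small M z := small_of_small_res N hM hb hQN hD hQ
    (invBy_mul (IsCen.invBy (isCen_idem B) N) hbinv) (IsInt.mul hM hBi hbi) hzz
    (by
      have h := eb_sq N b
      rw [eb_eq_incl] at h
      rw [hzdef, mul_assoc, eb_eq_incl]
      convert congrArg (idem B * ·) h) hzs
  have hall : Small M (idem B) := by
    rw [← liftIdem_mul_idem N hM hb hB hcov, ← (isCen_idem B).comm, incl_orb N hM hb,
      Finset.mul_sum]
    refine Finset.sum_induction _ (Small M) (fun _ _ => small_add hM) (small_zero hM)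
      fun b' hb' => ?_
    obtain ⟨hb'b, hsub⟩ := Finset.mem_filter.mp hb'
    obtain ⟨g, hg⟩ := exists_conj_of_mem_orb N hM hb (mem_blockSet.mp hb'b) hsub
    rw [hg, ← cjA_of_isCen (isCen_idem B) g, ← cjA_distrib]
    exact fun x => hsm _
  obtain ⟨χ, hχ⟩ := block_nonempty hM hB
  have := omega_ideal_of_small hM χ (isCen_idem B) hall
  rw [omega_idem, if_pos hχ] at this
  exact one_not_ideal hM this

/-- A covering block has a defect group meeting the normal subgroup in a given defect group of
the covered block. -/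
theorem exists_defectGroup_inf_eq (hM : IsPModular p M) (hb : IsPBlock M b) (hQN : Q ≤ N)
    (hD : IsDefectGroup p M b (Q.subgroupOf N)) {B : Set (IrrCharacter G)} (hB : IsPBlock M B)
    (hcov : ∃ χ ∈ B, ∃ θ ∈ b, classInner (fun n : N => (χ : G → ℂ) n) (θ : N → ℂ) ≠ 0) :
    ∃ P : Subgroup G, IsDefectGroup p M B P ∧ P ⊓ N = Q := by
  have hQ : IsPGroup p Q := by
    have := (isPGroup_of_isDefectGroup hD).map N.subtype
    rwa [Subgroup.map_subgroupOf_eq_of_le hQN] at this
  obtain ⟨P, hP⟩ := exists_defectGroup hM hB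
  have hPp := isPGroup_of_isDefectGroup hP
  have hcard : Nat.card (P ⊓ N : Subgroup G) ≤ Nat.card Q := by
    obtain ⟨b', hb', x, hxN, hxP, hx⟩ : ∃ b' ∈ orbBlocks N M b, ∃ x, x ∈ N ∧ x ∈ Cen P ∧
        ¬ MemLocalIdeal M ((eb N b').coeff x) := by
      by_contra! hcon
      refine not_small_cut_defect hM hB hP ?_
      have hcen : IsCen (liftIdem N (orb N b)) :=
        isCen_liftIdem N fun ξ a => conjIrr_mem_orb_iff N a
      have hli : IsInt M (liftIdem N (orb N b)) :=
        isInt_liftIdem N hM (isInt_idem_of_closed hM (orb_closed N hM hb))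
      have hsmall : Small M (cut P (liftIdem N (orb N b))) := fun x => by
        rw [coeff_cut]
        split_ifs with hx
        · by_cases hxN : x ∈ N
          · rw [incl_orb N hM hb, MonoidAlgebra.coeff_sum, Finset.sum_apply']
            exact ideal_sum hM fun b' hb' => hcon b' hb' x hxN hx
          · rw [liftIdem_supp N _ x hxN]; exact ideal_zero hM
        · exact ideal_zero hM
      have h1 := small_add hM
        (cut_mul hM P hPp hcen (isCen_idem B) hli (isInt_idem hM hB))
        (small_mul_right hM hsmall (isInt_cut hM P (isInt_idem hM hB)))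
      rwa [sub_add_cancel, liftIdem_mul_idem N hM hb hB hcov] at h1
    obtain ⟨hb'b, hsub⟩ := Finset.mem_filter.mp hb'
    obtain ⟨g, hg⟩ := exists_conj_of_mem_orb N hM hb (mem_blockSet.mp hb'b) hsub
    have hyN : g⁻¹ * x * g ∈ N := by simpa using (conj_mem_iff N g⁻¹ x).mp hxN
    rw [hg, coeff_cjA, show g⁻¹ * x * g = ((⟨_, hyN⟩ : N) : G) from rfl, coeff_eb_coe] at hx
    set R := cjS g⁻¹ (P ⊓ N)
    have hRN : R ≤ N := fun u hu => by
      have h2 := (mem_cjS.mp hu).2
      simpa [mul_assoc] using (conj_mem_iff N g⁻¹ _).mp h2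
    have hRp : IsPGroup p (R.subgroupOf N) :=
      ((hPp.to_le inf_le_left).map _).comap_subtype
    have hc := conjLe_defect_of_coeff hM hb hD hx (IsConj.refl _) hRp
      (Subgroup.mem_centralizer_iff.mpr fun u hu => Subtype.ext (by
        have h3 := conj_mem_centralizer_map (Q := P ⊓ N)
          (Subgroup.centralizer_le (s := ((P ⊓ N : Subgroup G) : Set G)) inf_le_left hxP) g⁻¹
        have h4 := Subgroup.mem_centralizer_iff.mp h3 (u : G) (Subgroup.mem_subgroupOf.mp hu)
        simpa using h4))
    have h5 := card_le_of_conjLe hc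
    rw [Nat.card_congr (Subgroup.subgroupOfEquivOfLe hRN).toEquiv, card_cjS,
      Nat.card_congr (Subgroup.subgroupOfEquivOfLe hQN).toEquiv] at h5
    exact h5
  obtain ⟨y, hy⟩ := (not_small_cut_iff hM hB hP hQ).mp
    (not_small_cut_covered N hM hb hQN hD hQ hB hcov)
  refine ⟨_, isDefectGroup_map hP y⁻¹, (Subgroup.eq_of_le_of_card_ge ?_ ?_).symm⟩
  · refine le_inf (fun u hu => ?_) hQN
    exact ⟨y * u * y⁻¹, hy ⟨u, hu, rfl⟩, by simp [mul_assoc]⟩
  · refine le_trans (le_of_eq ?_) hcard
    rw [← card_cjS y⁻¹ (P ⊓ N)]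
    have e : P.map (MulAut.conj y⁻¹).toMonoidHom ⊓ N = cjS y⁻¹ (P ⊓ N) := by
      ext u
      simp only [Subgroup.mem_inf, mem_cjS, inv_inv]
      exact and_congr Iff.rfl (by simpa using conj_mem_iff N y u)
    rw [e]

end Cfsg.Agent.BlockTheoryMeet
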