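import Cfsg.Agent.Lib.BlockContribMajor
import Cfsg.Agent.Lib.BlockInducedCen
import Cfsg.Agent.Lib.BlockTheoryMeet
import Cfsg.Agent.Lib.BrauerPairs81Induced
import Cfsg.Agent.S4716

/-!
The exact valuation of the values of a major subsection.
-/

set_option autoImplicit false

namespace Cfsg.Agent.BlockMajorValue82

open Cfsg Cfsg.Agent.BlockTheoryLocalRing Cfsg.Agent.BlockTheoryCentre
open Cfsg.Agent.BlockTheoryIdem Cfsg.Agent.BlockTheoryBrauer Cfsg.Agent.BlockTheoryDefect
open Cfsg.Agent.BrauerPairs81Base Cfsg.Agent.BrauerPairs81Pairs Cfsg.Agent.BrauerPairs81Conj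
open Cfsg.Agent.BrauerPairs81Max Cfsg.Agent.BrauerPairs81Local Cfsg.Agent.BlockContribMajor
open Cfsg.Agent.BlockContrib Cfsg.Agent.BlockContribBounds Cfsg.Agent.ClassAlgebraVal
open scoped ComplexConjugate

attribute [local instance] Classical.propDecidable

set_option linter.unusedSectionVars false

variable {p : ℕ} [Fact p.Prime] {M : Ideal AlgInt} {G : Type*} [Group G] [Fintype G] {u : G}
  {H : Subgroup G}

theorem cjA_pow (g : G) (z : MonoidAlgebra ℂ G) : ∀ N : ℕ, cjA g (z ^ N) = cjA g z ^ N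
  | 0 => by
    rw [pow_zero, pow_zero]
    exact cjA_of_isCen isCen_one g
  | N + 1 => by rw [pow_succ, pow_succ, BlockTheoryMeet.cjA_distrib, cjA_pow g z N]

theorem incl_smul (c : ℂ) (z : MonoidAlgebra ℂ H) : incl H (c • z) = c • incl H z := by
  refine MonoidAlgebra.ext ?_
  ext x
  by_cases hx : x ∈ H
  · rw [show x = ((⟨x, hx⟩ : H) : G) from rfl, coeff_incl_coe, MonoidAlgebra.coeff_smul_apply,
      MonoidAlgebra.coeff_smul_apply, coeff_incl_coe]
  · rw [coeff_incl_of_notMem H _ hx, MonoidAlgebra.coeff_smul_apply, coeff_incl_of_notMem H z hx,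
      smul_zero]

theorem isInt_conjSum (hM : IsPModular p M) {w : MonoidAlgebra ℂ G} (hw : IsInt M w) :
    IsInt M (conjSum H w) := fun x => by
  simp only [conjSum, MonoidAlgebra.coeff_sum, Finsupp.finsetSum_apply]
  exact (localRing hM).sum_mem fun c _ => by rw [coeff_cjA]; exact hw _

theorem chiSum_incl_mul_idem (χ : IrrCharacter G) {y : MonoidAlgebra ℂ H} (hy : IsCen y)
    (b : Set (IrrCharacter H)) :
    chiSum (χ : G → ℂ) (incl H (y * idem b)) =
      ∑ ψ ∈ members b, (S4716.mult χ ψ : ℂ) * chiSum (ψ : H → ℂ) y := by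
  have h1 : chiSum (χ : G → ℂ) (incl H (y * idem b)) =
      ∑ c : H, (y * idem b).coeff c * (χ : G → ℂ) c := by
    rw [chiSum_apply]
    refine (Fintype.sum_of_injective (fun c : H => (c : G)) Subtype.val_injective _ _ ?_ ?_).symm
    · intro x hx
      rw [coeff_incl_of_notMem H _ (by simpa using hx), zero_mul]
    · intro c
      rw [coeff_incl_coe]
  rw [h1, ← filter_eq_members, Finset.sum_filter]
  simp only [S4716.apply_eq_sum, Finset.mul_sum]
  rw [Finset.sum_comm]
  refine Finset.sum_congr rfl fun ψ _ => ?_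
  rw [Finset.sum_congr rfl (g := fun c : H => (S4716.mult χ ψ : ℂ) *
    ((y * idem b).coeff c * (ψ : H → ℂ) c)) fun c _ => by ring, ← Finset.mul_sum,
    ← chiSum_apply, hy.comm, chiSum_idem_mul, mul_ite, mul_zero]

variable (hH : ∀ g, g ∈ H ↔ Commute u g)
include hH

/-- The transfer of a nilpotent element of the block has its central characters in the ideal. -/
theorem omega_conjSum_ideal (hM : IsPModular p M) (hu : ∃ k, orderOf u = p ^ k)
    {b : Set (IrrCharacter H)} {B : Set (IrrCharacter G)} (hind : IsInducedBlock M H b B)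
    (hd : blockDefect p b = blockDefect p B) {y : MonoidAlgebra ℂ H} (hyc : IsCen y)
    (hyi : IsInt M y) (hyb : y * idem b = y) {N : ℕ} (hN : Small M (y ^ N)) {χ : IrrCharacter G}
    (hχ : χ ∈ B) : MemLocalIdeal M (omega (χ : G → ℂ) (conjSum H (incl H y))) := by
  have hb := hind.1
  set w := incl H y with hw
  have hwi : IsInt M w := isInt_incl H hM hyi
  have hwH : InvBy H w := BrauerPairs81Induced.invBy_incl_self hyc
  have hwN : Small M (w ^ N) := fun x => by
    rw [hw, ← map_pow]
    by_cases hx : x ∈ H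
    · rw [show x = ((⟨x, hx⟩ : H) : G) from rfl, coeff_incl_coe]; exact hN _
    · rw [coeff_incl_of_notMem _ _ hx]; exact ideal_zero hM
  obtain ⟨E, hE⟩ := exists_defectGroup hM hb
  have hEp : IsPGroup p E := isPGroup_of_isDefectGroup hE
  set D := E.map H.subtype with hD
  have hDp : IsPGroup p D := hEp.map _
  have hDH : D ≤ H := Subgroup.map_subtype_le E
  have hEcard : Nat.card E = p ^ blockDefect p B := by
    rw [BlockContribBounds.card_defectGroup hM hb hE, hd]
  have hDcard : Nat.card D = p ^ blockDefect p B := by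
    rw [hD, Subgroup.card_map_of_injective Subtype.val_injective, hEcard]
  have huH : u ∈ H := (hH u).2 (Commute.refl u)
  have huD : u ∈ D := by
    set Z := Subgroup.zpowers (⟨u, huH⟩ : H)
    haveI : Z.Normal := ⟨fun z hz g => by
      obtain ⟨i, rfl⟩ := Subgroup.mem_zpowers_iff.mp hz
      have hc : Commute (⟨u, huH⟩ : H) g := Subtype.ext ((hH g).1 g.2).eq
      rw [← (hc.zpow_left i).eq, mul_inv_cancel_right]
      exact Subgroup.mem_zpowers_iff.mpr ⟨i, rfl⟩⟩
    have hZ : IsPGroup p Z := by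
      obtain ⟨k, hk⟩ := hu
      exact IsPGroup.of_card (n := k) (by rw [Nat.card_zpowers, ← Subgroup.orderOf_coe, hk])
    exact ⟨⟨u, huH⟩, normal_le_defectGroup hM hb hE Z hZ (Subgroup.mem_zpowers _), rfl⟩
  have hCH : Cen D ≤ H := fun x hx => (hH x).2 (Subgroup.mem_centralizer_iff.mp hx u huD)
  obtain ⟨g0, hg0⟩ := exists_pairOf_of_not_small hM hb hEp (not_small_cut_defect hM hb hE)
  have hpair := BlockPiKernel.pair_up hM hind hg0 hCH
  set f := pushSet (cenIso (cenCompat_map (R := E) hCH le_rfl)) g0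
  obtain ⟨η, hη⟩ := block_nonempty hM hpair.1.2
  set S : Finset (G ⧸ H) :=
    Finset.univ.filter fun c => ∃ n ∈ Subgroup.normalizer (D : Set G), (n : G ⧸ H) = c with hS
  have hNinv : ∀ n ∈ Subgroup.normalizer (D : Set G),
      InvBy D (cjA n w) ∧ InvBy (Cen D) (cjA n w) := by
    intro n hn
    have hn' := inv_mem hn
    constructor
    · refine invBy_mono ?_ (invBy_cjA (x := n) hwH)
      conv_lhs => rw [← cjS_of_normalizer hn]
      exact cjS_mono hDH
    · refine invBy_mono ?_ (invBy_cjA (x := n) hwH)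
      intro x hx
      refine mem_cjS.mpr (hCH ?_)
      have := conj_mem_centralizer hn' hx
      simpa using this
  have hcint : ∀ c : G, IsInt M (cjA c w) := fun c x => by rw [coeff_cjA]; exact hwi _
  have hsmall : Small M (res (Cen D) (conjSum H w - ∑ c ∈ S, cjA c.out w)) := by
    intro x
    rw [coeff_res, MonoidAlgebra.coeff_sub, Finsupp.coe_sub, Pi.sub_apply, conjSum,
      MonoidAlgebra.coeff_sum, MonoidAlgebra.coeff_sum, Finsupp.finsetSum_apply,
      Finsupp.finsetSum_apply]
    set W : G ⧸ H → ℂ := fun c => (cjA c.out w).coeff (x : G) with hW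
    have hWinv : ∀ (v : D) (c : G ⧸ H), W (v • c) = W c := by
      intro v c
      obtain ⟨k, rfl⟩ := QuotientGroup.mk_surjective c
      simp only [hW]
      rw [show v • (k : G ⧸ H) = (((v : G) * k : G) : G ⧸ H) from rfl, cjA_out_mk hwH,
        cjA_out_mk hwH, cjA_mul, coeff_cjA (v : G)]
      congr 1
      have hc := Subgroup.mem_centralizer_iff.mp x.2 (v : G) v.2
      rw [mul_assoc, ← hc, inv_mul_cancel_left]
    have h := BlockPrincipal81.ideal_sum_sub_fixed hM hDp W hWinv fun c => hcint _ _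
    have hSfix : S ⊆ Finset.univ.filter (· ∈ MulAction.fixedPoints D (G ⧸ H)) := by
      intro c hc
      obtain ⟨n, hn, rfl⟩ := (Finset.mem_filter.mp hc).2
      refine Finset.mem_filter.mpr ⟨Finset.mem_univ _, fun v => ?_⟩
      show (((v : G) * n : G) : G ⧸ H) = (n : G ⧸ H)
      rw [QuotientGroup.eq]
      refine hDH ?_
      have := (Subgroup.mem_normalizer_iff.mp (inv_mem hn) (v : G)⁻¹).mp (inv_mem v.2)
      simpa [mul_assoc] using this
    rw [← Finset.sum_sdiff hSfix, ← sub_sub] at h
    have h2 : MemLocalIdeal M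
        (∑ c ∈ Finset.univ.filter (· ∈ MulAction.fixedPoints D (G ⧸ H)) \ S, W c) := by
      refine ideal_sum hM fun c hc => ?_
      obtain ⟨hfix, hnS⟩ := Finset.mem_sdiff.mp hc
      obtain ⟨k, rfl⟩ := QuotientGroup.mk_surjective c
      simp only [hW]
      rw [cjA_out_mk hwH, coeff_cjA]
      set D' := cjS k⁻¹ D with hD'
      have hD'H : D' ≤ H := by
        rintro _ ⟨v, hv, rfl⟩
        have h1 : ((v * k : G) : G ⧸ H) = (k : G ⧸ H) := (Finset.mem_filter.mp hfix).2 ⟨v, hv⟩
        rw [QuotientGroup.eq] at h1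
        have := H.inv_mem h1
        simpa [mul_assoc] using this
      have hDs : IsPGroup p ↥(D'.subgroupOf H) := (hDp.map _ : IsPGroup p D').comap_subtype
      by_contra hne
      have hxH : k⁻¹ * (x : G) * k ∈ H := by
        by_contra hxH
        exact hne (by rw [hw, coeff_incl_of_notMem H y hxH]; exact ideal_zero hM)
      have hns : ¬ Small M (cut (D'.subgroupOf H) (idem b)) := by
        intro hsm
        refine hne ?_
        have h1 : Small M (cut (D'.subgroupOf H) y) := by
          have h3 := small_add hM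
            (cut_mul hM _ hDs hyc (isCen_idem b) hyi (isInt_idem hM hb))
            (small_mul_left hM (isInt_cut hM (D'.subgroupOf H) hyi) hsm)
          rw [sub_add_cancel, hyb] at h3
          exact h3
        have h4 := h1 ⟨_, hxH⟩
        rw [coeff_cut, if_pos, ← coeff_incl_coe H y] at h4
        · exact h4
        · refine Subgroup.mem_centralizer_iff.mpr fun v hv => Subtype.ext ?_
          have hx' : k⁻¹ * (x : G) * k ∈ Cen D' := by
            have := (mem_cen_cjS k⁻¹ D (x : G)).mp x.2
            simpa using this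
          exact Subgroup.mem_centralizer_iff.mp hx' (v : G) hv
      have hle := (not_small_cut_iff hM hb hE hDs).mp hns
      obtain ⟨t, ht⟩ := eq_map_of_conjLe hle (by
        rw [hEcard, Nat.card_congr (Subgroup.subgroupOfEquivOfLe hD'H).toEquiv, hD', card_cjS, hDcard])
      refine hnS (Finset.mem_filter.mpr ⟨Finset.mem_univ _, k * (t : G)⁻¹, ?_, ?_⟩)
      · have h3 : cjS ((t : G) * k⁻¹) D = D := by
          rw [← cjS_cjS, ← hD']
          conv_rhs => rw [hD, ← ht]
          ext v
          constructor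
          · rintro ⟨v', hv', rfl⟩
            exact ⟨_, ⟨⟨v', hD'H hv'⟩, hv', rfl⟩, rfl⟩
          · rintro ⟨_, ⟨v', hv', rfl⟩, rfl⟩
            exact ⟨(v' : G), hv', rfl⟩
        have h4 : (t : G) * k⁻¹ ∈ Subgroup.normalizer (D : Set G) :=
          Subgroup.mem_normalizer_iff.mpr fun v => by
            conv_rhs => rw [← h3, mem_cjS]
            simp [mul_assoc]
        have h5 := inv_mem h4
        simpa using h5
      · rw [QuotientGroup.eq]; simpa [mul_assoc] using t.2
    have := ideal_add hM h h2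
    refine cast (congrArg (MemLocalIdeal M) ?_) this
    ring
  have hval : ∀ c ∈ S, MemLocalIdeal M (phi D (cjA c.out w) η) := by
    intro c hc
    obtain ⟨n, hn, rfl⟩ := (Finset.mem_filter.mp hc).2
    rw [cjA_out_mk hwH]
    obtain ⟨hID, hIC⟩ := hNinv n hn
    refine phi_ideal_of_small_pow hM hDp hID hIC (hcint n) (N := N) ?_ η
    intro x
    rw [← cjA_pow, coeff_cjA]
    exact hwN _
  have hCenInv : InvBy (Cen D) (conjSum H w - ∑ c ∈ S, cjA c.out w) := by
    refine invBy_sub (IsCen.invBy (isCen_conjSum hwH) _) ?_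
    refine Finset.sum_induction _ _ (fun z z' hz hz' v hv x => by simp [hz v hv x, hz' v hv x])
      (fun v hv x => by simp) fun c hc => ?_
    obtain ⟨n, hn, rfl⟩ := (Finset.mem_filter.mp hc).2
    rw [cjA_out_mk hwH]
    exact (hNinv n hn).2
  have h2 := omega_ideal_of_small hM η (isCen_res_of_invBy hCenInv) hsmall
  rw [map_sub, map_sub] at h2
  have h1 := phi_eq_omega hM hpair (isCen_conjSum hwH) (isInt_conjSum hM hwi) hη hχ
  have h3 : MemLocalIdeal M (phi D (∑ c ∈ S, cjA c.out w) η) := by
    rw [phi, map_sum, map_sum]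
    exact ideal_sum hM hval
  refine cast (congrArg (MemLocalIdeal M) ?_) (ideal_sub hM (ideal_add hM h2 h3) h1)
  simp only [phi]
  ring

/-- The value on a central element of the block has the exact power of `p`, up to its residue. -/
theorem exists_value (hM : IsPModular p M) (hu : ∃ k, orderOf u = p ^ k)
    {b : Set (IrrCharacter H)} {B : Set (IrrCharacter G)} (hind : IsInducedBlock M H b B)
    (hd : blockDefect p b = blockDefect p B) {χ : IrrCharacter G} (hχ : χ ∈ B) :
    ∃ t₀ : ℂ, MemLocalRing M t₀ ∧ ¬ MemLocalIdeal M t₀ ∧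
      ∀ y : MonoidAlgebra ℂ H, IsCen y → IsInt M y → ∀ φ ∈ b, ∃ t : ℂ, MemLocalRing M t ∧
        MemLocalIdeal M (t - omega ((φ : IrrCharacter H) : H → ℂ) y * t₀) ∧
        chiSum (χ : G → ℂ) (incl H (y * idem b)) =
          (p : ℂ) ^ (minExp p b + blockHeight p B (χ : G → ℂ)) * t := by
  set n := charDegree (χ : G → ℂ) with hn
  set i := H.index with hi
  have hi0 : i ≠ 0 := Subgroup.index_ne_zero_of_finite
  have hn0 : n ≠ 0 := (charDegree_pos χ).ne'
  have hfac : n.factorization p =
      minExp p b + blockHeight p B (χ : G → ℂ) + i.factorization p := by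
    rw [exp_eq_add (p := p) hχ]
    have h1 := minExp_add_defect hM hind.1
    have h2 := minExp_add_defect hM hind.2.1
    have h3 : (Nat.card G).factorization p = i.factorization p + (Nat.card H).factorization p := by
      rw [← H.index_mul_card, Nat.factorization_mul hi0 Nat.card_pos.ne']
      rfl
    omega
  set A := n / p ^ n.factorization p with hA
  set C := i / p ^ i.factorization p with hC
  have eA : (n : ℂ) = (p : ℂ) ^ n.factorization p * (A : ℂ) := by
    exact_mod_cast (Nat.ordProj_mul_ordCompl_eq_self n p).symm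
  have eC : (i : ℂ) = (p : ℂ) ^ i.factorization p * (C : ℂ) := by
    exact_mod_cast (Nat.ordProj_mul_ordCompl_eq_self i p).symm
  have hA0 : ¬ p ∣ A := Nat.not_dvd_ordCompl hM.1 hn0
  have hC0 : ¬ p ∣ C := Nat.not_dvd_ordCompl hM.1 hi0
  have hCm : MemLocalRing M ((C : ℂ)⁻¹) := inv_natCast_mem hM hC0
  have hAm : MemLocalRing M (A : ℂ) := natCast_mem (localRing hM) A
  set κ : ℂ := (A : ℂ) * (C : ℂ)⁻¹ with hκ
  have hκm : MemLocalRing M κ := (localRing hM).mul_mem hAm hCm
  have hκn : ¬ MemLocalIdeal M κ := fun h => hA0 ((natCast_mem_iff hM).mp (by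
    have h' := ideal_mul_right hM h (natCast_mem (localRing hM) C)
    rwa [hκ, inv_mul_cancel_right₀ (Nat.cast_ne_zero.mpr fun e : C = 0 => hC0 (e ▸ dvd_zero p))]
      at h'))
  have hei := isInt_idem hM hind.1
  have hwR : ∀ z : MonoidAlgebra ℂ H, IsCen z → IsInt M z →
      MemLocalRing M (omega (χ : G → ℂ) (conjSum H (incl H z))) := fun z hz hzi =>
    omega_mem_localRing hM χ (isCen_conjSum (BrauerPairs81Induced.invBy_incl_self hz))
      (isInt_conjSum hM (isInt_incl H hM hzi))
  set w₀ := omega (χ : G → ℂ) (conjSum H (incl H (idem b))) with hw₀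
  have hw₀n : ¬ MemLocalIdeal M w₀ := by
    rw [hw₀, ← eb_eq_incl]
    exact omega_conjSum_not_ideal hH hM hu hind hd hχ
  refine ⟨w₀ * κ, (localRing hM).mul_mem (hwR _ (isCen_idem b) hei) hκm,
    not_ideal_mul hM (hwR _ (isCen_idem b) hei) hκm hw₀n hκn, fun y hy hyi φ hφ => ?_⟩
  set c := omega ((φ : IrrCharacter H) : H → ℂ) y with hc
  have hcR : MemLocalRing M c := omega_mem_localRing hM φ hy hyi
  set y' := (y - c • (1 : MonoidAlgebra ℂ H)) * idem b with hy'
  have hy'c : IsCen y' := (hy.sub (isCen_one.smul c)).mul (isCen_idem b)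
  have hy'i : IsInt M y' :=
    IsInt.mul hM (IsInt.sub hM hyi (IsInt.smul hM hcR (isInt_one hM))) hei
  obtain ⟨N, hN⟩ := exists_small_pow hM hy'c hy'i fun ψ => by
    rw [hy', omega_mul ψ (hy.sub (isCen_one.smul c)), omega_idem]
    split_ifs with hψ
    · rw [mul_one, map_sub, map_smul, omega_one, smul_eq_mul, mul_one, hc]
      exact omega_sub_mem hM (sameBlock_of_mem hM hind.1 hψ hφ) hy hyi
    · rw [mul_zero]; exact ideal_zero hM
  have hnil := omega_conjSum_ideal hH hM hu hind hd hy'c hy'i
    (by rw [hy', mul_assoc, idem_sq]) hN hχ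
  set w := omega (χ : G → ℂ) (conjSum H (incl H (y * idem b))) with hw
  have hlin : omega (χ : G → ℂ) (conjSum H (incl H y')) = w - c * w₀ := by
    rw [hw, hw₀, omega_apply, omega_apply, omega_apply, chiSum_conjSum, chiSum_conjSum,
      chiSum_conjSum, hy', sub_mul, smul_mul_assoc, one_mul, map_sub, map_sub, incl_smul, map_smul,
      smul_eq_mul]
    ring
  rw [hlin] at hnil
  refine ⟨w * κ, (localRing hM).mul_mem (hwR _ (hy.mul (isCen_idem b)) (IsInt.mul hM hyi hei)) hκm,
    cast (congrArg (MemLocalIdeal M) (by ring)) (ideal_mul_right hM hnil hκm), ?_⟩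
  have h := hw
  rw [omega_apply, chiSum_conjSum, apply_one_eq_charDegree, ← hn, ← hi, eC, eA, hfac, pow_add] at h
  rw [h, hκ]
  have hp0 : (p : ℂ) ≠ 0 := Nat.cast_ne_zero.mpr hM.1.ne_zero
  have hA1 : (A : ℂ) ≠ 0 := Nat.cast_ne_zero.mpr fun e => hA0 (e ▸ dvd_zero p)
  have hC1 : (C : ℂ) ≠ 0 := Nat.cast_ne_zero.mpr fun e => hC0 (e ▸ dvd_zero p)
  field_simp

end Cfsg.Agent.BlockMajorValue82
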