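import Cfsg.Agent.Lib.BrauerPairs81Stab

/-!
Pairs inside an intermediate group, and conjugacy of the pairs above a given one.
-/

namespace Cfsg.Agent.BrauerPairs81Local

open Cfsg Cfsg.Agent.BlockTheoryLocalRing Cfsg.Agent.BlockTheoryCentre
open Cfsg.Agent.BlockTheoryIdem Cfsg.Agent.BlockTheoryBrauer Cfsg.Agent.BlockTheoryDefect
open Cfsg.Agent.BrauerPairs81Base Cfsg.Agent.BrauerPairs81Pairs Cfsg.Agent.BrauerPairs81Conj
open Cfsg.Agent.BrauerPairs81Max Cfsg.Agent.BrauerPairs81Stab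
open scoped ComplexConjugate

attribute [local instance] Classical.propDecidable

set_option linter.unusedSectionVars false

variable {p : ℕ} [Fact p.Prime] {M : Ideal AlgInt} {G : Type*} [Group G] [Fintype G]

/-! ### Pairs as points -/

/-- Conjugation of pairs. -/
noncomputable def cP (x : G) (a : BrauerPairIdx G) : BrauerPairIdx G :=
  ⟨cjS x a.1, conjBlock a.1 x a.2⟩

/-- Inclusion of pairs. -/
abbrev PLE (p : ℕ) (M : Ideal AlgInt) (a b : BrauerPairIdx G) : Prop :=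
  SubpairLE p M a.1 a.2 b.1 b.2

theorem pairIdx_ext {a b : BrauerPairIdx G} (h₁ : a.1 = b.1)
    (h₂ : eb (Cen a.1) a.2 = eb (Cen b.1) b.2) : a = b := by
  obtain ⟨Q, f⟩ := a; obtain ⟨R, g⟩ := b
  exact pair_ext h₁ h₂

theorem eb_cP (x : G) (a : BrauerPairIdx G) :
    eb (Cen (cP x a).1) (cP x a).2 = cjA x (eb (Cen a.1) a.2) := eb_conjBlock _ _ _

theorem cP_cP (x y : G) (a : BrauerPairIdx G) : cP x (cP y a) = cP (x * y) a :=
  conjBlock_conjBlock a.1 x y a.2

theorem cP_one (a : BrauerPairIdx G) : cP 1 a = a :=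
  pairIdx_ext (cjS_one _) (by rw [eb_cP, cjA_one])

theorem cP_inv_cP (x : G) (a : BrauerPairIdx G) : cP x⁻¹ (cP x a) = a := by
  rw [cP_cP, inv_mul_cancel, cP_one]

theorem cP_eq_self_iff {x : G} {a : BrauerPairIdx G} :
    cP x a = a ↔ x ∈ Subgroup.normalizer (a.1 : Set G) ∧
      cjA x (eb (Cen a.1) a.2) = eb (Cen a.1) a.2 := by
  constructor
  · intro h
    have h1 : cjS x a.1 = a.1 := congrArg Sigma.fst h
    refine ⟨Subgroup.mem_normalizer_iff.mpr fun u => ?_, ?_⟩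
    · conv_rhs => rw [← h1, mem_cjS]
      simp [mul_assoc]
    · rw [← eb_cP, h]
  · intro h
    exact pairIdx_ext (cjS_of_normalizer h.1) (by rw [eb_cP]; exact h.2)

/-- An element of the stabiliser, phrased with `StabilizesBlock`. -/
theorem cP_eq_self_iff_stabilizes {x : G} {Q : Subgroup G} {f : Set (IrrCharacter (Cen Q))} :
    cP x ⟨Q, f⟩ = ⟨Q, f⟩ ↔
      x ∈ Subgroup.normalizer (Q : Set G) ∧ StabilizesBlock (Cen Q) f x := by
  rw [cP_eq_self_iff, stabilizes_iff]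
  exact ⟨fun h => ⟨h.1, normalizer_le_normalizer_cen h.1, h.2⟩, fun h => ⟨h.1, h.2.2⟩⟩

theorem cP_self_of_mem {Q : Subgroup G} (f : Set (IrrCharacter (Cen Q))) {u : G} (hu : u ∈ Q) :
    cP u ⟨Q, f⟩ = ⟨Q, f⟩ :=
  cP_eq_self_iff.mpr ⟨Subgroup.le_normalizer hu, invBy_iff.mp (invBy_eb_cen Q f) u hu⟩

theorem cP_self_of_cen {Q : Subgroup G} (f : Set (IrrCharacter (Cen Q))) {u : G}
    (hu : u ∈ Cen Q) : cP u ⟨Q, f⟩ = ⟨Q, f⟩ :=
  cP_eq_self_iff.mpr ⟨Subgroup.centralizer_le_normalizer _ hu,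
    invBy_iff.mp (invBy_eb_self _ f) u hu⟩

theorem ple_cP (x : G) {a b : BrauerPairIdx G} (h : PLE p M a b) : PLE p M (cP x a) (cP x b) :=
  subpairLE_conj x h

theorem ple_unique (hM : IsPModular p M) {a b c : BrauerPairIdx G}
    (hc : IsBrauerPair p M c.1 c.2) (ha : PLE p M a c) (hb : PLE p M b c) (h : a.1 = b.1) :
    a = b := by
  obtain ⟨Q, f⟩ := a; obtain ⟨R, g⟩ := b
  obtain rfl : Q = R := h
  obtain rfl := subpair_unique hM hc ha hb
  rfl

theorem ple_antisymm_top (hM : IsPModular p M) {a b : BrauerPairIdx G}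
    (hb : IsBrauerPair p M b.1 b.2) (ha : PLE p M a b) (h : a.1 = b.1) : a = b :=
  ple_unique hM hb ha Relation.ReflTransGen.refl h

theorem ple_of_le (hM : IsPModular p M) {a b c : BrauerPairIdx G}
    (hc : IsBrauerPair p M c.1 c.2) (ha : PLE p M a c) (hb : PLE p M b c) (h : a.1 ≤ b.1) :
    PLE p M a b := by
  obtain ⟨f, hf⟩ := exists_subpair hM (isBrauerPair_of_subpairLE hb hc) h
  rwa [ple_unique hM hc ha (a := a) (b := ⟨a.1, f⟩) (hf.trans hb) rfl]

theorem ple_exists (hM : IsPModular p M) {c : BrauerPairIdx G} (hc : IsBrauerPair p M c.1 c.2)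
    {Q : Subgroup G} (h : Q ≤ c.1) : ∃ a : BrauerPairIdx G, a.1 = Q ∧ PLE p M a c := by
  obtain ⟨f, hf⟩ := exists_subpair hM hc h
  exact ⟨⟨Q, f⟩, rfl, hf⟩

/-- A pair below another, with subgroup normalised, is a normal subpair. -/
theorem isNormalSubpair_of_le (hM : IsPModular p M) {Q S : Subgroup G}
    {f : Set (IrrCharacter (Cen Q))} {g : Set (IrrCharacter (Cen S))}
    (hS : IsBrauerPair p M S g) (h : SubpairLE p M Q f S g)
    (hN : S ≤ Subgroup.normalizer (Q : Set G)) : IsNormalSubpair p M Q f S g := by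
  obtain ⟨f0, hf0, -⟩ := existsUnique_normalSubpair hM hS (subgroup_le_of_subpairLE h) hN
  rwa [subpair_unique hM hS h (Relation.ReflTransGen.single
    (show NormalSubpairRel p M ⟨Q, f0⟩ ⟨S, g⟩ from hf0))]

/-! ### Pairs inside an intermediate group -/

section Inner

variable {H : Subgroup G}

/-- `R'` has the same centraliser in `G` as `R` in `H`. -/
def CenCompat (H : Subgroup G) (R : Subgroup H) (R' : Subgroup G) : Prop :=
  ∀ x : G, x ∈ Cen R' ↔ ∃ h : x ∈ H, (⟨x, h⟩ : H) ∈ Cen R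

/-- The isomorphism of the two centralisers. -/
noncomputable def cenIso {R : Subgroup H} {R' : Subgroup G} (h : CenCompat H R R') :
    Cen R ≃* Cen R' where
  toFun x := ⟨((x : H) : G), (h _).mpr ⟨(x : H).2, x.2⟩⟩
  invFun y := ⟨⟨y, ((h _).mp y.2).choose⟩, ((h _).mp y.2).choose_spec⟩
  left_inv _ := rfl
  right_inv _ := rfl
  map_mul' _ _ := rfl

theorem coe_cenIso {R : Subgroup H} {R' : Subgroup G} (h : CenCompat H R R') (x : Cen R) :
    (cenIso h x : G) = ((x : H) : G) := rfl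

theorem eb_cenIso {R : Subgroup H} {R' : Subgroup G} (h : CenCompat H R R')
    (g : Set (IrrCharacter (Cen R))) :
    eb (Cen R') (pushSet (cenIso h) g) = incl H (eb (Cen R) g) := by
  refine MonoidAlgebra.ext ?_
  ext x
  by_cases hx : x ∈ Cen R'
  · obtain ⟨y, hy⟩ := (cenIso h).surjective ⟨x, hx⟩
    rw [show x = ((y : H) : G) from (congrArg Subtype.val hy).symm, coeff_incl_coe,
      coeff_eb_coe, ← coe_cenIso h y, coeff_eb_coe, blockCoeff_push]
  · rw [coeff_eb_of_notMem _ _ hx]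
    by_cases hxH : x ∈ H
    · rw [show x = ((⟨x, hxH⟩ : H) : G) from rfl, coeff_incl_coe,
        coeff_eb_of_notMem _ _ fun h' => hx ((h x).mpr ⟨hxH, h'⟩)]
    · rw [coeff_incl_of_notMem _ _ hxH]

theorem phi_cenIso {R : Subgroup H} {R' : Subgroup G} (h : CenCompat H R R')
    (z : MonoidAlgebra ℂ H) (ξ : IrrCharacter (Cen R)) :
    phi R' (incl H z) (pushChar (cenIso h) ξ) = phi R z ξ := by
  rw [phi, phi, omega_apply, omega_apply, chiSum_apply, chiSum_apply,
    ← Equiv.sum_comp (cenIso h).toEquiv]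
  have h1 : (pushChar (cenIso h) ξ : Cen R' → ℂ) 1 = (ξ : Cen R → ℂ) 1 := by
    rw [← map_one (cenIso h), pushChar_apply]
  rw [h1]
  congr 1
  refine Finset.sum_congr rfl fun k _ => ?_
  simp only [MulEquiv.toEquiv_eq_coe, MulEquiv.coe_toEquiv]
  rw [pushChar_apply, coeff_res, coeff_res, coe_cenIso, coeff_incl_coe]

theorem occ_push {R : Subgroup H} {R' : Subgroup G} (h : CenCompat H R R')
    {g : Set (IrrCharacter (Cen R))} {z : MonoidAlgebra ℂ H} (hz : Occ M R g z) :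
    Occ M R' (pushSet (cenIso h) g) (incl H z) := by
  rintro _ ⟨ξ, hξ, rfl⟩
  rw [phi_cenIso]
  exact hz ξ hξ

theorem occ_of_push {R : Subgroup H} {R' : Subgroup G} (h : CenCompat H R R')
    {g : Set (IrrCharacter (Cen R))} {z : MonoidAlgebra ℂ H}
    (hz : Occ M R' (pushSet (cenIso h) g) (incl H z)) : Occ M R g z := by
  intro ξ hξ
  rw [← phi_cenIso h]
  exact hz _ ⟨ξ, hξ, rfl⟩

theorem exists_pullback {R : Subgroup H} {R' : Subgroup G} (h : CenCompat H R R')
    {g' : Set (IrrCharacter (Cen R'))} (hg : IsPBlock M g') :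
    ∃ g : Set (IrrCharacter (Cen R)), IsPBlock M g ∧ pushSet (cenIso h) g = g' := by
  refine ⟨pushSet (cenIso h).symm g', isPBlock_push _ hg, ?_⟩
  rw [pushSet, pushSet, Set.image_image]
  refine Eq.trans (Set.image_congr fun ξ _ => ?_) (Set.image_id g')
  refine Subtype.ext (funext fun y => ?_)
  obtain ⟨x, rfl⟩ := (cenIso h).surjective y
  rw [pushChar_apply, id]
  conv_lhs => rw [← (cenIso h).symm_apply_apply x, pushChar_apply]

variable {Q : Subgroup G}

theorem cenCompat_map (hCH : Cen Q ≤ H) {R : Subgroup H} (hQR : Q ≤ R.map H.subtype) :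
    CenCompat H R (R.map H.subtype) := by
  intro x
  constructor
  · intro hx
    refine ⟨hCH (centralizer_le hQR hx), Subgroup.mem_centralizer_iff.mpr fun u hu => ?_⟩
    exact Subtype.ext (Subgroup.mem_centralizer_iff.mp hx (u : G)
      (Subgroup.mem_map_of_mem H.subtype hu))
  · rintro ⟨hxH, hx⟩
    refine Subgroup.mem_centralizer_iff.mpr ?_
    rintro _ ⟨u, hu, rfl⟩
    exact congrArg Subtype.val (Subgroup.mem_centralizer_iff.mp hx u hu)

theorem normal_push (hCH : Cen Q ≤ H) {R R' : Subgroup H} (hR : Q ≤ R.map H.subtype)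
    (hR' : Q ≤ R'.map H.subtype) {g : Set (IrrCharacter (Cen R))}
    {g' : Set (IrrCharacter (Cen R'))} (h : IsNormalSubpair p M R g R' g') :
    IsNormalSubpair p M (R.map H.subtype) (pushSet (cenIso (cenCompat_map hCH hR)) g)
      (R'.map H.subtype) (pushSet (cenIso (cenCompat_map hCH hR')) g') := by
  obtain ⟨h1, h2, h3, h4, h5, h6⟩ := isNormalSubpair_iff.mp h
  refine isNormalSubpair_iff.mpr ⟨⟨h1.1.map _, isPBlock_push _ h1.2⟩,
    ⟨h2.1.map _, isPBlock_push _ h2.2⟩, Subgroup.map_mono h3, ?_, ?_, ?_⟩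
  · rintro _ ⟨u, hu, rfl⟩
    refine Subgroup.mem_normalizer_iff.mpr fun a => ?_
    constructor
    · rintro ⟨b, hb, rfl⟩
      exact ⟨u * b * u⁻¹, (Subgroup.mem_normalizer_iff.mp (h4 hu) b).mp hb, rfl⟩
    · rintro ⟨b, hb, hba⟩
      refine ⟨u⁻¹ * b * u, (Subgroup.mem_normalizer_iff.mp (h4 hu) _).mpr ?_, ?_⟩
      · simpa [mul_assoc] using hb
      · have : (b : G) = (u : G) * a * (u : G)⁻¹ := hba
        show (u : G)⁻¹ * b * u = a
        rw [this]; group
  · rw [eb_cenIso]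
    rintro _ ⟨u, hu, rfl⟩ x
    by_cases hx : x ∈ H
    · have e := coeff_incl_coe H (eb (Cen R) g) (u * ⟨x, hx⟩ * u⁻¹)
      simp only [Subgroup.coe_mul, Subgroup.coe_inv] at e
      show (incl H (eb (Cen R) g)).coeff ((u : G) * x * (u : G)⁻¹) = _
      rw [e]
      exact (h5 u hu _).trans (coeff_incl_coe H (eb (Cen R) g) ⟨x, hx⟩).symm
    · rw [coeff_incl_of_notMem _ _ hx, coeff_incl_of_notMem]
      intro h
      exact hx (by simpa [mul_assoc] using H.mul_mem (H.mul_mem (H.inv_mem u.2) h) u.2)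
  · rw [eb_cenIso]; exact occ_push _ h6

theorem subpairLE_push (hCH : Cen Q ≤ H) {R R' : Subgroup H} (hR : Q ≤ R.map H.subtype)
    (hR' : Q ≤ R'.map H.subtype) {g : Set (IrrCharacter (Cen R))}
    {g' : Set (IrrCharacter (Cen R'))} (h : SubpairLE p M R g R' g') :
    SubpairLE p M (R.map H.subtype) (pushSet (cenIso (cenCompat_map hCH hR)) g)
      (R'.map H.subtype) (pushSet (cenIso (cenCompat_map hCH hR')) g') := by
  suffices ∀ a b : BrauerPairIdx H, Relation.ReflTransGen (NormalSubpairRel p M) a b →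
      ∀ (ha : Q ≤ a.1.map H.subtype) (hb : Q ≤ b.1.map H.subtype),
        SubpairLE p M (a.1.map H.subtype) (pushSet (cenIso (cenCompat_map hCH ha)) a.2)
          (b.1.map H.subtype) (pushSet (cenIso (cenCompat_map hCH hb)) b.2) from
    this _ _ h hR hR'
  intro a b hab
  induction hab using Relation.ReflTransGen.head_induction_on with
  | refl => exact fun _ _ => Relation.ReflTransGen.refl
  | @head a c hac hcb ih =>
    intro ha hb
    have hc : Q ≤ c.1.map H.subtype := ha.trans (Subgroup.map_mono hac.2.2.1)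
    exact Relation.ReflTransGen.head
      (show NormalSubpairRel p M ⟨_, _⟩ ⟨_, _⟩ from normal_push hCH ha hc hac) (ih hc hb)

end Inner

/-! ### Pairs above a given one -/

variable {Q H : Subgroup G} {f : Set (IrrCharacter (Cen Q))} {F : Set (IrrCharacter H)}

theorem incl_idem_eq (hCH : Cen Q ≤ H) (hFc : ∀ t : H, blockCoeff F t = (eb (Cen Q) f).coeff t) :
    incl H (idem F) = eb (Cen Q) f := by
  refine MonoidAlgebra.ext ?_
  ext x
  by_cases hxH : x ∈ H
  · rw [show x = ((⟨x, hxH⟩ : H) : G) from rfl, coeff_incl_coe, coeff_idem, hFc]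
  · rw [coeff_incl_of_notMem _ _ hxH, coeff_eb_of_notMem _ f fun h => hxH (hCH h)]

/-- A pair above `(Q, f)` inside `H` is a pair of the block of `H`. -/
theorem exists_pairOf_inner (hCH : Cen Q ≤ H) (hF : IsPBlock M F)
    (hFc : ∀ t : H, blockCoeff F t = (eb (Cen Q) f).coeff t) {S : Subgroup G}
    {g : Set (IrrCharacter (Cen S))} (hSH : S ≤ H) (hn : IsNormalSubpair p M Q f S g) :
    ∃ (hS : Q ≤ (S.subgroupOf H).map H.subtype)
      (g0 : Set (IrrCharacter (Cen (S.subgroupOf H)))),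
      IsBrauerPairOf p M F (S.subgroupOf H) g0 ∧
      (⟨(S.subgroupOf H).map H.subtype, pushSet (cenIso (cenCompat_map hCH hS)) g0⟩ :
        BrauerPairIdx G) = ⟨S, g⟩ := by
  have e : (S.subgroupOf H).map H.subtype = S := Subgroup.map_subgroupOf_eq_of_le hSH
  have hS : Q ≤ (S.subgroupOf H).map H.subtype := e.symm ▸ hn.2.2.1
  obtain ⟨g', hg', hg'o, hg'e⟩ : ∃ g' : Set (IrrCharacter (Cen ((S.subgroupOf H).map H.subtype))),
      IsPBlock M g' ∧ Occ M ((S.subgroupOf H).map H.subtype) g' (eb (Cen Q) f) ∧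
        (⟨_, g'⟩ : BrauerPairIdx G) = ⟨S, g⟩ := by
    rw [e]
    exact ⟨g, hn.2.1.2, (isNormalSubpair_iff.mp hn).2.2.2.2.2, rfl⟩
  obtain ⟨g0, hg0, hpush⟩ := exists_pullback (cenCompat_map hCH hS) hg'
  refine ⟨hS, g0, isBrauerPairOf_iff.mpr ⟨⟨hn.2.1.1.comap_subtype, hg0⟩, hF,
    occ_of_push (cenCompat_map hCH hS) ?_⟩, hpush.symm ▸ hg'e⟩
  rw [incl_idem_eq hCH hFc, hpush]
  exact hg'o

/-- Over `(Q, f)`, pairs inside `H` are conjugate in `H` into one whose subgroup is as large as a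
defect group of the block of `H`. -/
theorem exists_conj_into (hM : IsPModular p M) (hCH : Cen Q ≤ H)
    (hHN : H ≤ Subgroup.normalizer (Q : Set G)) (hF : IsPBlock M F)
    (hFc : ∀ t : H, blockCoeff F t = (eb (Cen Q) f).coeff t) {D : Subgroup H}
    (hD : IsDefectGroup p M F D) {S : Subgroup G} {g : Set (IrrCharacter (Cen S))} (hSH : S ≤ H)
    (hn : IsNormalSubpair p M Q f S g) (hcard : Nat.card D ≤ Nat.card S) {R : Subgroup G}
    {h : Set (IrrCharacter (Cen R))} (hRH : R ≤ H) (hn' : IsNormalSubpair p M Q f R h) :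
    ∃ c ∈ H, PLE p M (cP c ⟨R, h⟩) ⟨S, g⟩ := by
  obtain ⟨hS, g0, hg0, hge⟩ := exists_pairOf_inner hCH hF hFc hSH hn
  obtain ⟨hR, h0, hh0, hhe⟩ := exists_pairOf_inner hCH hF hFc hRH hn'
  have hmax : IsMaximalBrauerPair p M F (S.subgroupOf H) g0 := by
    refine ⟨hg0, fun T k hT hle => (Subgroup.eq_of_le_of_card_ge (subgroup_le_of_subpairLE hle) ?_).symm⟩
    refine (card_le_of_conjLe (conjLe_defect_of_pairOf hM hT hD)).trans (hcard.trans ?_)
    rw [Nat.card_congr (Subgroup.subgroupOfEquivOfLe hSH).toEquiv]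
  obtain ⟨c, hc⟩ := exists_conj_subpairLE hM hmax hh0
  refine ⟨c, c.2, ?_⟩
  have hQN : cjS (c : G) R = (cjS c (R.subgroupOf H)).map H.subtype := by
    ext u
    constructor
    · rintro ⟨a, ha, rfl⟩
      exact ⟨c * ⟨a, hRH ha⟩ * c⁻¹, ⟨⟨a, hRH ha⟩, ha, rfl⟩, rfl⟩
    · rintro ⟨_, ⟨a, ha, rfl⟩, rfl⟩
      exact ⟨a, ha, rfl⟩
  have hcR : Q ≤ (cjS c (R.subgroupOf H)).map H.subtype := by
    intro q hq
    have hnQ : (c : G) ∈ Subgroup.normalizer (Q : Set G) → q ∈ cjS (c : G) R := fun hn2 => by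
      have := cjS_mono (x := (c : G)) hn'.2.2.1
      exact this (by rwa [cjS_of_normalizer hn2])
    rw [← hQN]
    exact hnQ (hHN c.2)
  have h2 := subpairLE_push hCH hcR hS hc
  have e1 : (⟨(cjS c (R.subgroupOf H)).map H.subtype,
      pushSet (cenIso (cenCompat_map hCH hcR)) (conjBlock (R.subgroupOf H) c h0)⟩ :
        BrauerPairIdx G) = cP (c : G) ⟨R, h⟩ := by
    refine pairIdx_ext hQN.symm ?_
    rw [eb_cP, eb_cenIso, eb_conjBlock, ← hhe, eb_cenIso]
    refine MonoidAlgebra.ext ?_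
    ext x
    rw [coeff_cjA]
    by_cases hx : x ∈ H
    · refine (coeff_incl_coe H _ ⟨x, hx⟩).trans ?_
      rw [coeff_cjA]
      exact (coeff_incl_coe H _ (c⁻¹ * ⟨x, hx⟩ * c)).symm
    · rw [coeff_incl_of_notMem _ _ hx, coeff_incl_of_notMem]
      intro hh
      exact hx (by simpa [mul_assoc] using H.mul_mem (H.mul_mem c.2 hh) (H.inv_mem c.2))
  unfold PLE
  rw [← e1, ← hge]
  exact h2

end Cfsg.Agent.BrauerPairs81Local
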