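import Cfsg.Agent.Lib.BlockFirstMainOver
import Cfsg.Agent.Lib.BlockTheoryNormal
import Cfsg.Agent.Lib.BrauerPairs81Local
import Cfsg.Agent.Lib.BGTransitivity

/-!
The largest normal `π'`-subgroup of the centraliser in the kernel of the block of a Brauer pair:
propagation along inclusions of pairs.
-/

set_option autoImplicit false

namespace Cfsg.Agent.BlockPiKernel

open Cfsg Cfsg.Agent.BlockTheoryLocalRing Cfsg.Agent.BlockTheoryCentre
open Cfsg.Agent.BlockTheoryIdem Cfsg.Agent.BlockTheoryBrauer Cfsg.Agent.BlockTheoryDefect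
open Cfsg.Agent.BrauerPairs81Base Cfsg.Agent.BrauerPairs81Pairs Cfsg.Agent.BrauerPairs81Conj
open Cfsg.Agent.BrauerPairs81Max Cfsg.Agent.BrauerPairs81Local
open Cfsg.Agent.HallCore Cfsg.Agent.BGTransitivity

attribute [local instance] Classical.propDecidable

set_option linter.unusedSectionVars false

/-- The largest normal `π'`-subgroup lies in the kernel of `f`. -/
def CoreKer (π : Set ℕ) {C : Type*} [Group C] (f : Set (IrrCharacter C)) : Prop :=
  ∀ x ∈ Cfsg.piCore {q | q ∉ π} C, x ∈ blockKer f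

/-- All `π'`-elements lie in the largest normal `π'`-subgroup. -/
def CoreCompl (π : Set ℕ) (C : Type*) [Group C] : Prop :=
  ∀ x : C, (∀ q : ℕ, q.Prime → q ∣ orderOf x → q ∉ π) → x ∈ Cfsg.piCore {q | q ∉ π} C

variable {p : ℕ} [Fact p.Prime] {M : Ideal AlgInt} {G : Type*} [Group G] [Fintype G] {π : Set ℕ}

/-- `L` lies in the kernel of `f`, as far as it meets `C`. -/
def KerOn (L : Subgroup G) {C : Subgroup G} (f : Set (IrrCharacter C)) : Prop :=
  ∀ c : C, (c : G) ∈ L → c ∈ blockKer f

theorem coeff_avg (L : Subgroup G) (x : G) :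
    (ZStarPrincipal.avg L).coeff x = if x ∈ L then (Nat.card L : ℂ)⁻¹ else 0 := by
  rw [ZStarPrincipal.avg, MonoidAlgebra.coeff_smul_apply, MonoidAlgebra.coeff_sum,
    Finsupp.finsetSum_apply, smul_eq_mul]
  simp only [MonoidAlgebra.coeff_single, Finsupp.single_apply]
  by_cases hx : x ∈ L
  · rw [if_pos hx, Finset.sum_eq_single ⟨x, hx⟩]
    · simp
    · exact fun k _ hk => if_neg fun h => hk (Subtype.ext h)
    · simp
  · rw [if_neg hx, Finset.sum_eq_zero fun (k : L) _ => if_neg fun (h : (k : G) = x) => hx (h ▸ k.2),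
      mul_zero]

theorem invBy_avg {L H : Subgroup G} (h : H ≤ Subgroup.normalizer (L : Set G)) :
    InvBy H (ZStarPrincipal.avg L) := fun u hu x => by
  rw [coeff_avg, coeff_avg]
  exact if_congr (Subgroup.mem_normalizer_iff.mp (h hu) x).symm rfl rfl

theorem iff_of_ideal (hM : IsPModular p M) {A B : Prop} [Decidable A] [Decidable B]
    (h : MemLocalIdeal M ((if A then 1 else 0 : ℂ) - (if B then 1 else 0))) : A ↔ B := by
  by_cases hA : A <;> by_cases hB : B <;> simp only [hA, hB, if_true, if_false] at h ⊢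
  · refine absurd ?_ (one_not_ideal hM)
    simpa using h
  · refine absurd ?_ (one_not_ideal hM)
    simpa using ideal_neg h

/-- The truncated average of a subgroup of order prime to `p`. -/
theorem phi_avg (hM : IsPModular p M) {R L : Subgroup G} (hR : IsPGroup p R)
    (hL : ¬ p ∣ Nat.card L) (hRL : R ≤ Subgroup.normalizer (L : Set G))
    (hCL : Cen R ≤ Subgroup.normalizer (L : Set G)) {g : Set (IrrCharacter (Cen R))}
    (hg : IsPBlock M g) {ξ : IrrCharacter (Cen R)} (hξ : ξ ∈ g) :
    MemLocalIdeal M (phi R (ZStarPrincipal.avg L) ξ - if KerOn L g then 1 else 0) := by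
  set L₀ := L.subgroupOf (Cen R) with hL₀
  haveI : L₀.Normal := Subgroup.normal_subgroupOf_of_le_normalizer hCL
  have hL₀p : ¬ p ∣ Nat.card L₀ := fun h => hL (h.trans (card_subgroupOf_dvd L (Cen R)))
  set c : ℂ := (Nat.card L : ℂ)⁻¹ * (Nat.card L₀ : ℂ) with hc
  have hL₀0 : (Nat.card L₀ : ℂ) ≠ 0 := Nat.cast_ne_zero.mpr Nat.card_pos.ne'
  have hres : res (Cen R) (ZStarPrincipal.avg L) = c • ZStarPrincipal.avg L₀ := by
    refine MonoidAlgebra.ext ?_
    ext x
    rw [coeff_res, MonoidAlgebra.coeff_smul_apply, smul_eq_mul, coeff_avg, coeff_avg, hc,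
      mul_ite, mul_zero, mul_assoc, mul_inv_cancel₀ hL₀0, mul_one]
    exact if_congr Subgroup.mem_subgroupOf.symm rfl rfl
  have hcm : MemLocalIdeal M (1 - c) := by
    have h := BlockPrincipal81.ideal_sum_sub_centralizer hM hR (invBy_avg hRL)
      (ZStarPrincipal.isInt_avg hM L hL)
    have e1 : ∑ x : G, (ZStarPrincipal.avg L).coeff x = 1 := by
      simp only [coeff_avg]
      rw [← Finset.sum_filter, Finset.sum_const, nsmul_eq_mul,
        show (Finset.univ.filter (fun x : G => x ∈ L)).card = Nat.card L by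
          rw [Nat.card_eq_fintype_card, Fintype.card_subtype],
        mul_inv_cancel₀ (Nat.cast_ne_zero.mpr Nat.card_pos.ne')]
    have e2 : ∑ x : Cen R, (ZStarPrincipal.avg L).coeff x = c := by
      simp only [coeff_avg]
      rw [← Finset.sum_filter, Finset.sum_const, nsmul_eq_mul, hc, mul_comm]
      congr 2
      rw [Nat.card_eq_fintype_card, Fintype.card_subtype]
      exact congrArg Finset.card (Finset.filter_congr fun x _ => Subgroup.mem_subgroupOf.symm)
    rwa [e1, e2] at h
  have hiff : KerOn L g ↔ ∀ n ∈ L₀, (ξ : Cen R → ℂ) n = (ξ : Cen R → ℂ) 1 := by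
    refine ⟨fun h n hn => h n hn ξ hξ, fun h c hcL θ hθ => ?_⟩
    rw [eq_blockOf_of_mem hM hg hξ] at hθ
    exact BlockTheoryNormal.blockOf_subset_trivialOn L₀ hM hL₀p h hθ c hcL
  rw [phi, hres, map_smul, BlockTheoryNormal.omega_avg, smul_eq_mul]
  by_cases hk : KerOn L g
  · rw [if_pos hk, if_pos (hiff.mp hk), mul_one]
    simpa using ideal_neg hcm
  · rw [if_neg hk, if_neg fun h => hk (hiff.mpr h), mul_zero, sub_zero]
    exact ideal_zero hM

/-- The kernel of a block seen at one of its pairs. -/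
theorem ker_iff_of_pairOf (hM : IsPModular p M) {B : Set (IrrCharacter G)} {R : Subgroup G}
    {g : Set (IrrCharacter (Cen R))} (h : IsBrauerPairOf p M B R g) (K : Subgroup G) [K.Normal]
    (hK : ¬ p ∣ Nat.card K) : (∀ x ∈ K, x ∈ blockKer B) ↔ KerOn K g := by
  obtain ⟨χ, hχ⟩ := block_nonempty hM h.2.1
  obtain ⟨ξ, hξ⟩ := block_nonempty hM h.1.2
  have hN : ∀ H : Subgroup G, H ≤ Subgroup.normalizer (K : Set G) := fun H => by
    rw [Subgroup.normalizer_eq_top]; exact le_top
  have h1 := phi_eq_omega hM h (BlockTheoryNormal.isCen_avg K)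
    (ZStarPrincipal.isInt_avg hM K hK) hξ hχ
  have h2 := phi_avg hM h.1.1 hK (hN R) (hN _) h.1.2 hξ
  rw [BlockTheoryNormal.omega_avg] at h1
  have hiff := iff_of_ideal hM
    (cast (congrArg (MemLocalIdeal M) (by ring)) (ideal_sub hM h2 h1) :
      MemLocalIdeal M ((if (∀ n ∈ K, (χ : G → ℂ) n = (χ : G → ℂ) 1) then 1 else 0 : ℂ) -
        if KerOn K g then 1 else 0))
  refine Iff.trans ⟨fun hx n hn => hx n hn χ hχ, fun hx n hn θ hθ => ?_⟩ hiff
  rw [eq_blockOf_of_mem hM h.2.1 hχ] at hθ
  exact BlockTheoryNormal.blockOf_subset_trivialOn K hM hK hx hθ n hn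

/-- Kernels along a normal inclusion of pairs. -/
theorem kerOn_step (hM : IsPModular p M) {R R' : Subgroup G} {f : Set (IrrCharacter (Cen R))}
    {g : Set (IrrCharacter (Cen R'))} (hn : IsNormalSubpair p M R f R' g) {L : Subgroup G}
    (hL : ¬ p ∣ Nat.card L) (hR'L : R' ≤ Subgroup.normalizer (L : Set G))
    (hCL : Cen R ≤ Subgroup.normalizer (L : Set G)) : KerOn L f ↔ KerOn L g := by
  obtain ⟨⟨hR, hf⟩, ⟨hR', hg⟩, hle, -, -, -⟩ := isNormalSubpair_iff.mp hn
  obtain ⟨ξ, hξ⟩ := block_nonempty hM hf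
  obtain ⟨η, hη⟩ := block_nonempty hM hg
  have h1 := phi_congr_step hM hn (ZStarPrincipal.isInt_avg hM L hL) (invBy_avg hR'L)
    (invBy_avg hCL) hξ hη
  have h2 := phi_avg hM hR hL (hle.trans hR'L) hCL hf hξ
  have h3 := phi_avg hM hR' hL hR'L ((centralizer_le hle).trans hCL) hg hη
  refine iff_of_ideal hM (cast (congrArg (MemLocalIdeal M) ?_)
    (ideal_sub hM (ideal_sub hM h3 h2) h1))
  ring

theorem not_dvd_card_core (hπ : p ∈ π) (C : Subgroup G) :
    ¬ p ∣ Nat.card (piCoreOf {q | q ∉ π} C) := fun h =>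
  piNat_card_piCoreOf {q | q ∉ π} C p Fact.out h hπ

theorem coreKer_iff {C : Subgroup G} {f : Set (IrrCharacter C)} :
    CoreKer π f ↔ KerOn (piCoreOf {q | q ∉ π} C) f := by
  refine ⟨fun h c hc => ?_, fun h x hx => h x ⟨x, hx, rfl⟩⟩
  obtain ⟨x, hx, hxc⟩ := hc
  rw [← Subtype.ext (show (x : G) = c from hxc)]
  exact h x hx

theorem inf_core_le {C C' : Subgroup G} (h : C' ≤ C) :
    piCoreOf {q | q ∉ π} C ⊓ C' ≤ piCoreOf {q | q ∉ π} C' := by
  refine le_piCoreOf inf_le_right (fun u hu => Subgroup.mem_normalizer_iff.mpr fun x => ?_)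
    ((piNat_card_piCoreOf _ C).of_dvd (Subgroup.card_dvd_of_le inf_le_left))
  have hN : u ∈ Subgroup.normalizer (piCoreOf {q | q ∉ π} C : Set G) :=
    normalizer_le_normalizer_piCoreOf _ C (Subgroup.le_normalizer (h hu))
  rw [Subgroup.mem_inf, Subgroup.mem_inf, ← Subgroup.mem_normalizer_iff.mp hN x,
    ← Subgroup.mem_normalizer_iff.mp (Subgroup.le_normalizer hu : u ∈ Subgroup.normalizer (C' : Set G)) x]

theorem kerOn_core_step (hM : IsPModular p M) (hπ : p ∈ π) {R R' : Subgroup G}
    {f : Set (IrrCharacter (Cen R))} {g : Set (IrrCharacter (Cen R'))}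
    (hn : IsNormalSubpair p M R f R' g) :
    CoreKer π f ↔ KerOn (piCoreOf {q | q ∉ π} (Cen R)) g := by
  obtain ⟨-, -, -, hN, -, -⟩ := isNormalSubpair_iff.mp hn
  rw [coreKer_iff]
  exact kerOn_step hM hn (not_dvd_card_core hπ _)
    (le_normalizer_piCoreOf _ (hN.trans normalizer_le_normalizer_cen))
    (le_normalizer_piCoreOf _ Subgroup.le_normalizer)

/-- Down a normal inclusion. -/
theorem coreKer_down_step (hM : IsPModular p M) (hπ : p ∈ π) {R R' : Subgroup G}
    {f : Set (IrrCharacter (Cen R))} {g : Set (IrrCharacter (Cen R'))}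
    (hn : IsNormalSubpair p M R f R' g) (h : CoreKer π g) : CoreKer π f := by
  rw [kerOn_core_step hM hπ hn]
  intro c hc
  exact coreKer_iff.mp h c (inf_core_le (centralizer_le hn.2.2.1) ⟨hc, c.2⟩)

/-- Up a normal inclusion. -/
theorem coreKer_up_step (hM : IsPModular p M) (hπ : p ∈ π) {R R' : Subgroup G}
    {f : Set (IrrCharacter (Cen R))} {g : Set (IrrCharacter (Cen R'))}
    (hn : IsNormalSubpair p M R f R' g) (hc : CoreCompl π (Cen R)) (h : CoreKer π f) :
    CoreCompl π (Cen R') ∧ CoreKer π g := by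
  have hle : Cen R' ≤ Cen R := centralizer_le hn.2.2.1
  have hmem : ∀ x : Cen R', (∀ q : ℕ, q.Prime → q ∣ orderOf x → q ∉ π) →
      (x : G) ∈ piCoreOf {q | q ∉ π} (Cen R) := fun x hx => by
    refine ⟨⟨x, hle x.2⟩, hc _ fun q hq hd => hx q hq ?_, rfl⟩
    rwa [← Subgroup.orderOf_coe, show (((⟨x, hle x.2⟩ : Cen R) : G)) = (x : G) from rfl,
      Subgroup.orderOf_coe] at hd
  refine ⟨fun x hx => ?_, fun x hx => ?_⟩
  · obtain ⟨y, hy, hyx⟩ := inf_core_le (π := π) hle ⟨hmem x hx, x.2⟩
    rw [← Subtype.ext (show (y : G) = x from hyx)]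
    exact hy
  · refine (kerOn_core_step hM hπ hn).mp h x (hmem x fun q hq hd => ?_)
    exact piNat_card_piCore {q | q ∉ π} (Cen R') q hq
      (hd.trans (Subgroup.orderOf_dvd_natCard _ hx))

theorem coreKer_down (hM : IsPModular p M) (hπ : p ∈ π) {R S : Subgroup G}
    {f : Set (IrrCharacter (Cen R))} {g : Set (IrrCharacter (Cen S))}
    (h : SubpairLE p M R f S g) (hg : CoreKer π g) : CoreKer π f := by
  suffices ∀ a b : BrauerPairIdx G, Relation.ReflTransGen (NormalSubpairRel p M) a b →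
      CoreKer π b.2 → CoreKer π a.2 from this _ _ h hg
  intro a b hab hb
  induction hab using Relation.ReflTransGen.head_induction_on with
  | refl => exact hb
  | head hac _ ih => exact coreKer_down_step hM hπ hac ih

theorem coreKer_up (hM : IsPModular p M) (hπ : p ∈ π) {R S : Subgroup G}
    {f : Set (IrrCharacter (Cen R))} {g : Set (IrrCharacter (Cen S))}
    (h : SubpairLE p M R f S g) (hc : CoreCompl π (Cen R)) (hf : CoreKer π f) : CoreKer π g := by
  suffices ∀ a b : BrauerPairIdx G, Relation.ReflTransGen (NormalSubpairRel p M) a b →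
      CoreCompl π (Cen a.1) → CoreKer π a.2 → CoreCompl π (Cen b.1) ∧ CoreKer π b.2 from
    (this _ _ h hc hf).2
  intro a b hab ha ha'
  induction hab with
  | refl => exact ⟨ha, ha'⟩
  | tail _ hcb ih => exact coreKer_up_step hM hπ hcb ih.1 ih.2

theorem coreKer_push {C C' : Type*} [Group C] [Group C'] [Finite C] [Finite C'] (e : C ≃* C')
    (f : Set (IrrCharacter C)) : CoreKer π (pushSet e f) ↔ CoreKer π f := by
  have hcore := map_equiv_piCore (π := {q | q ∉ π}) e
  constructor
  · intro h x hx θ hθ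
    have := h (e x) (hcore ▸ Subgroup.mem_map_of_mem e.toMonoidHom hx) _ ⟨θ, hθ, rfl⟩
    rwa [pushChar_apply, ← map_one e, pushChar_apply] at this
  · intro h x' hx'
    obtain ⟨x, hx, rfl⟩ := Subgroup.mem_map.mp (hcore.symm ▸ hx')
    rintro _ ⟨θ, hθ, rfl⟩
    show (pushChar e θ : C' → ℂ) (e x) = _
    rw [pushChar_apply, ← map_one e, pushChar_apply]
    exact h x hx θ hθ

theorem coreCompl_push {C C' : Type*} [Group C] [Group C'] [Finite C] [Finite C'] (e : C ≃* C')
    (h : CoreCompl π C) : CoreCompl π C' := fun x hx => by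
  have := h (e.symm x) fun q hq hd => hx q hq (by rwa [MulEquiv.orderOf_eq] at hd)
  rw [← map_equiv_piCore (π := {q | q ∉ π}) e]
  exact ⟨e.symm x, this, e.apply_symm_apply x⟩

/-- The kernel of every pair, from that of a maximal one. -/
theorem coreKer_of_pair (hM : IsPModular p M) (hπ : p ∈ π) {B : Set (IrrCharacter G)}
    {D : Subgroup G} {e : Set (IrrCharacter (Cen D))} (hmax : IsMaximalBrauerPair p M B D e)
    (he : CoreKer π e) {R : Subgroup G} {g : Set (IrrCharacter (Cen R))}
    (h : IsBrauerPairOf p M B R g) : CoreKer π g := by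
  obtain ⟨x, hx⟩ := exists_conj_subpairLE hM hmax h
  have := coreKer_down hM hπ hx he
  rwa [conjBlock_eq, coreKer_push] at this

/-- The kernel of a maximal pair, from that of a pair with a normal `π'`-complement. -/
theorem coreKer_max_of_pair (hM : IsPModular p M) (hπ : p ∈ π) {B : Set (IrrCharacter G)}
    {D : Subgroup G} {e : Set (IrrCharacter (Cen D))} (hmax : IsMaximalBrauerPair p M B D e)
    {R : Subgroup G} {g : Set (IrrCharacter (Cen R))} (h : IsBrauerPairOf p M B R g)
    (hc : CoreCompl π (Cen R)) (hg : CoreKer π g) : CoreKer π e := by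
  obtain ⟨x, hx⟩ := exists_conj_subpairLE hM hmax h
  refine coreKer_up hM hπ hx (coreCompl_push (cenEquiv x R) hc) ?_
  rwa [conjBlock_eq, coreKer_push]

/-- The kernel of a block from that of one of its pairs. -/
theorem coreKer_block_of_pair (hM : IsPModular p M) (hπ : p ∈ π) {B : Set (IrrCharacter G)}
    {R : Subgroup G} {g : Set (IrrCharacter (Cen R))} (h : IsBrauerPairOf p M B R g)
    (hg : CoreKer π g) : CoreKer π B := by
  refine (ker_iff_of_pairOf hM h _ fun hd =>
    piNat_card_piCore {q | q ∉ π} G p Fact.out hd hπ).mpr fun c hc => hg c ?_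
  exact piCore_subgroupOf_le (Cen R) hc

/-- The kernel of a pair on a normal subgroup from that of the block. -/
theorem coreKer_pair_of_block (hM : IsPModular p M) (hπ : p ∈ π) {B : Set (IrrCharacter G)}
    {R : Subgroup G} {g : Set (IrrCharacter (Cen R))} (h : IsBrauerPairOf p M B R g)
    [(Cen R).Normal] (hB : CoreKer π B) : CoreKer π g := by
  intro x hx
  refine (ker_iff_of_pairOf hM h _ fun hd =>
    piNat_card_piCore {q | q ∉ π} G p Fact.out hd hπ).mp hB x ?_
  have : (x : G) ∈ (Cfsg.piCore {q | q ∉ π} (Cen R)).map (Cen R).subtype := ⟨x, hx, rfl⟩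
  rw [map_subtype_piCore (Cen R)] at this
  exact this.1

theorem phi_incl_res {H : Subgroup G} [Fintype H] {R : Subgroup G} (hC : Cen R ≤ H)
    (z : MonoidAlgebra ℂ G) (ξ : IrrCharacter (Cen R)) :
    phi R (incl H (res H z)) ξ = phi R z ξ := by
  rw [phi, phi]
  congr 1
  refine MonoidAlgebra.ext ?_
  ext x
  rw [coeff_res, coeff_res, show (x : G) = ((⟨x, hC x.2⟩ : H) : G) from rfl, coeff_incl_coe,
    coeff_res]

/-- Pairs of a block of a subgroup give pairs of the induced block. -/
theorem pair_up (hM : IsPModular p M) {H : Subgroup G} {b : Set (IrrCharacter H)}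
    {B : Set (IrrCharacter G)} (hind : IsInducedBlock M H b B) {R : Subgroup H}
    {g : Set (IrrCharacter (Cen R))} (hg : IsBrauerPairOf p M b R g)
    (hC : Cen (R.map H.subtype) ≤ H) :
    IsBrauerPairOf p M B (R.map H.subtype)
      (pushSet (cenIso (cenCompat_map hC le_rfl)) g) := by
  have hcc := cenCompat_map (R := R) (H := H) hC (le_refl (R.map H.subtype))
  refine isBrauerPairOf_iff.mpr ⟨⟨hg.1.1.map _, isPBlock_push _ hg.1.2⟩, hind.2.1, ?_⟩
  obtain ⟨θ, hθ⟩ := block_nonempty hM hind.1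
  obtain ⟨χ, hχ⟩ := block_nonempty hM hind.2.1
  have hocc : Occ M R g (res H (idem B)) := fun ξ hξ => by
    have h1 := phi_eq_omega hM hg (isCen_res H (isCen_idem B))
      (isInt_res H (isInt_idem hM hind.2.1)) hξ hθ
    have h2 := BlockTheoryInduced.inducedBlock_congr H hM hind hθ hχ (isCen_idem B)
      (isInt_idem hM hind.2.1)
    rw [omega_idem, if_pos hχ] at h2
    exact cast (congrArg (MemLocalIdeal M) (by ring)) (ideal_add hM h1 h2)
  intro ξ hξ
  obtain ⟨η, hη, rfl⟩ := hξ
  rw [← phi_incl_res hC, phi_cenIso]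
  exact hocc η hη

/-- A maximal pair whose kernel contains the core, from the correspondent in `N(D)`. -/
theorem exists_max_coreKer (hM : IsPModular p M) (hπ : p ∈ π) {B : Set (IrrCharacter G)}
    {D : Subgroup G} (hD : IsDefectGroup p M B D)
    {B₁ : Set (IrrCharacter (Subgroup.normalizer (D : Set G)))}
    (hind : IsInducedBlock M (Subgroup.normalizer (D : Set G)) B₁ B)
    (hB₁D : IsDefectGroup p M B₁ (D.subgroupOf (Subgroup.normalizer (D : Set G))))
    (hker : CoreKer π B₁) :
    ∃ e : Set (IrrCharacter (Cen D)), IsMaximalBrauerPair p M B D e ∧ CoreKer π e := by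
  set N := Subgroup.normalizer (D : Set G) with hN
  set D' := D.subgroupOf N
  obtain ⟨e', he'⟩ := exists_pairOf_of_not_small hM hind.1 (isPGroup_of_isDefectGroup hB₁D)
    (not_small_cut_defect hM hind.1 hB₁D)
  have hmap : D'.map N.subtype = D := Subgroup.map_subgroupOf_eq_of_le Subgroup.le_normalizer
  have hC : Cen (D'.map N.subtype) ≤ N := by
    rw [hmap]; exact Subgroup.centralizer_le_normalizer _
  haveI : D'.Normal := Subgroup.normal_subgroupOf_of_le_normalizer le_rfl
  haveI : (Cen D').Normal := ⟨fun x hx u => conj_mem_centralizer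
    (by rw [Subgroup.normalizer_eq_top]; exact Subgroup.mem_top u) hx⟩
  have h1 := pair_up hM hind he' hC
  have h2 : CoreKer π (pushSet (cenIso (cenCompat_map hC le_rfl)) e') :=
    (coreKer_push _ _).mpr (coreKer_pair_of_block hM hπ he' hker)
  have key : ∀ (Q : Subgroup G), D'.map N.subtype = Q →
      ∃ e : Set (IrrCharacter (Cen Q)), IsBrauerPairOf p M B Q e ∧ CoreKer π e := by
    rintro Q rfl; exact ⟨_, h1, h2⟩
  obtain ⟨e, he, hek⟩ := key D hmap
  exact ⟨e, BlockFirstMainOver.maximal_of_defect hM hD he, hek⟩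

/-- `S4728`: the core of `N(D)` is in the kernel of the correspondent. -/
theorem coreKer_correspondent (hM : IsPModular p M) (hπ : p ∈ π) {B : Set (IrrCharacter G)}
    {D : Subgroup G} (hD : IsDefectGroup p M B D)
    {B₁ : Set (IrrCharacter (Subgroup.normalizer (D : Set G)))}
    (hind : IsInducedBlock M (Subgroup.normalizer (D : Set G)) B₁ B)
    (hB₁D : IsDefectGroup p M B₁ (D.subgroupOf (Subgroup.normalizer (D : Set G))))
    {R : Subgroup G} {g : Set (IrrCharacter (Cen R))} (h : IsBrauerPairOf p M B R g)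
    (hc : CoreCompl π (Cen R)) (hg : CoreKer π g) : CoreKer π B₁ := by
  set N := Subgroup.normalizer (D : Set G) with hN
  set D' := D.subgroupOf N
  obtain ⟨e', he'⟩ := exists_pairOf_of_not_small hM hind.1 (isPGroup_of_isDefectGroup hB₁D)
    (not_small_cut_defect hM hind.1 hB₁D)
  have hmap : D'.map N.subtype = D := Subgroup.map_subgroupOf_eq_of_le Subgroup.le_normalizer
  have hC : Cen (D'.map N.subtype) ≤ N := by
    rw [hmap]; exact Subgroup.centralizer_le_normalizer _
  have h1 := pair_up hM hind he' hC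
  have key : ∀ (Q : Subgroup G), Q = D → ∀ e : Set (IrrCharacter (Cen Q)),
      IsBrauerPairOf p M B Q e → CoreKer π e := by
    rintro Q rfl e he
    exact coreKer_max_of_pair hM hπ (BlockFirstMainOver.maximal_of_defect hM hD he) h hc hg
  have h2 := key _ hmap _ h1
  rw [coreKer_push] at h2
  exact coreKer_block_of_pair hM hπ he' h2

end Cfsg.Agent.BlockPiKernel
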