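import Cfsg.Agent.Lib.BlockContribMajor
import Cfsg.Agent.Lib.BlockInducedCen
import Cfsg.Agent.Lib.BlockPiKernel
import Cfsg.Agent.Lib.BlockMajorValue82
import Cfsg.Agent.S4716

/-!
For any subsection `(u, b)` of `B` and any member of height zero, the `b`-part of the degree
has exactly the `p`-part of the degrees in `b`.
-/

set_option autoImplicit false

namespace Cfsg.Agent.BlockSectionDegree81

open Cfsg Cfsg.Agent.BlockTheoryLocalRing Cfsg.Agent.BlockTheoryCentre
open Cfsg.Agent.BlockTheoryIdem Cfsg.Agent.BlockTheoryBrauer Cfsg.Agent.BlockTheoryDefect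
open Cfsg.Agent.BrauerPairs81Base Cfsg.Agent.BrauerPairs81Pairs Cfsg.Agent.BrauerPairs81Conj
open Cfsg.Agent.BrauerPairs81Max Cfsg.Agent.BrauerPairs81Local Cfsg.Agent.BlockContrib
open Cfsg.Agent.BlockContribBounds Cfsg.Agent.ClassAlgebraVal Cfsg.Agent.BlockContribSection

attribute [local instance] Classical.propDecidable

set_option linter.unusedSectionVars false

variable {p : ℕ} [Fact p.Prime] {M : Ideal AlgInt} {G : Type*} [Group G] [Fintype G]

theorem irr_mem (hM : IsPModular p M) (χ : IrrCharacter G) (x : G) :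
    MemLocalRing M ((χ : G → ℂ) x) :=
  of_isIntegral hM (CharBasic.isCharacter_integral (irr_isCharacter χ) x)

theorem chiSum_mem (hM : IsPModular p M) (χ : IrrCharacter G) {z : MonoidAlgebra ℂ G}
    (hz : IsInt M z) : MemLocalRing M (chiSum (χ : G → ℂ) z) := by
  rw [chiSum_apply]
  exact (localRing hM).sum_mem fun x _ => (localRing hM).mul_mem (hz x) (irr_mem hM χ x)

theorem chiSum_small (hM : IsPModular p M) (χ : IrrCharacter G) {z : MonoidAlgebra ℂ G}
    (hz : Small M z) : MemLocalIdeal M (chiSum (χ : G → ℂ) z) := by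
  rw [chiSum_apply]
  exact ideal_sum hM fun x _ => ideal_mul_right hM (hz x) (irr_mem hM χ x)

theorem small_incl (hM : IsPModular p M) (H : Subgroup G) {y : MonoidAlgebra ℂ H}
    (hy : Small M y) : Small M (incl H y) := by
  intro x
  by_cases hx : x ∈ H
  · rw [show x = ((⟨x, hx⟩ : H) : G) from rfl, coeff_incl_coe]; exact hy _
  · rw [coeff_incl_of_notMem _ _ hx]; exact ideal_zero hM

/-- A character value only depends on the truncation. -/
theorem chiSum_trunc (hM : IsPModular p M) (χ : IrrCharacter G) {Q : Subgroup G}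
    (hQ : IsPGroup p Q) {z : MonoidAlgebra ℂ G} (hz : InvBy Q z) (hzi : IsInt M z) :
    MemLocalIdeal M (chiSum (χ : G → ℂ) z -
      chiSum (χ : G → ℂ) (incl (Cen Q) (res (Cen Q) z))) := by
  have h := ideal_sum_conj hM Q hQ (fun x => z.coeff x * (χ : G → ℂ) x)
    (fun x => (localRing hM).mul_mem (hzi x) (irr_mem hM χ x))
    fun v hv x => by rw [irr_classFun χ x v, hz v hv x]
  refine cast (congrArg (MemLocalIdeal M) ?_) h
  rw [chiSum_apply, chiSum_apply, ← Finset.sum_sub_distrib]
  refine Finset.sum_congr rfl fun x _ => ?_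
  by_cases hx : x ∈ Cen Q
  · rw [if_pos hx, show x = ((⟨x, hx⟩ : Cen Q) : G) from rfl, coeff_incl_coe, coeff_res]
    simp
  · rw [if_neg hx, coeff_incl_of_notMem _ _ hx]
    simp

/-- An element supported on the centraliser is fixed. -/
theorem invBy_supported {Q : Subgroup G} {w : MonoidAlgebra ℂ G}
    (hw : ∀ x ∉ Cen Q, w.coeff x = 0) : InvBy Q w := by
  intro v hv x
  by_cases hx : x ∈ Cen Q
  · rw [← (Subgroup.mem_centralizer_iff.mp hx v hv).symm.trans rfl, mul_inv_cancel_right]
  · rw [hw x hx, hw]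
    intro h
    refine hx ?_
    have h1 : v * (v * x * v⁻¹) = (v * x * v⁻¹) * v := Subgroup.mem_centralizer_iff.mp h v hv
    have h2 : v * x * v⁻¹ = x := by
      have : v * (v * x * v⁻¹) = v * x := by rw [h1]; group
      exact mul_left_cancel this
    rwa [h2] at h

theorem incl_res_supported {H : Subgroup G} {w : MonoidAlgebra ℂ G}
    (hw : ∀ x ∉ H, w.coeff x = 0) : incl H (res H w) = w := by
  refine MonoidAlgebra.ext ?_
  ext x
  by_cases hx : x ∈ H
  · rw [show x = ((⟨x, hx⟩ : H) : G) from rfl, coeff_incl_coe, coeff_res]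
  · rw [coeff_incl_of_notMem _ _ hx, hw x hx]

/-- An idempotent occurring at a block fixes the idempotent of that block modulo the ideal. -/
theorem small_res_idem (hM : IsPModular p M) {Q : Subgroup G} (hQ : IsPGroup p Q)
    {z : MonoidAlgebra ℂ G} (hz : InvBy Q z) (hz' : InvBy (Cen Q) z) (hzi : IsInt M z)
    (hzz : z * z = z) {c : Set (IrrCharacter (Cen Q))} (hc : IsPBlock M c)
    (ho : Occ M Q c z) : Small M (res (Cen Q) z * idem c - idem c) := by
  set a := res (Cen Q) z with ha
  have hac : IsCen a := isCen_res_of_invBy hz'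
  have hai : IsInt M a := isInt_res _ hzi
  have hei := isInt_idem hM hc
  set y := (1 - a) * idem c with hy
  have hyc : IsCen y := (isCen_one.sub hac).mul (isCen_idem c)
  have hyi : IsInt M y := IsInt.mul hM (IsInt.sub hM (isInt_one hM) hai) hei
  obtain ⟨N, hN⟩ := exists_small_pow hM hyc hyi fun ξ => by
    rw [hy, omega_mul ξ (isCen_one.sub hac), omega_idem]
    split_ifs with hξ
    · rw [mul_one, map_sub, omega_one]
      exact cast (congrArg (MemLocalIdeal M) (neg_sub _ _)) (ideal_neg (ho ξ hξ))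
    · rw [mul_zero]; exact ideal_zero hM
  have hsq : Small M (y * y - y) := by
    have h1 : Small M (a - a * a) := by
      have := small_res_mul hM hQ hz hz hzi hzi
      rwa [hzz, ← ha] at this
    have h2 : y * y - y = (a * a - a) * idem c := by
      have he : idem c * (1 - a) = (1 - a) * idem c :=
        (((isCen_one.sub hac).comm (idem c))).symm
      rw [hy, mul_assoc (1 - a), ← mul_assoc (idem c), he, mul_assoc (1 - a) (idem c),
        idem_sq, ← mul_assoc, ← sub_mul]
      congr 1
      noncomm_ring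
    rw [h2]
    exact small_mul_right hM (small_symm hM h1) hei
  have hsm : Small M y := by
    rcases Nat.eq_zero_or_pos N with rfl | hN0
    · intro x
      have h := small_mul_left hM hyi hN
      rw [pow_zero, mul_one] at h
      exact h x
    · exact small_of_idem_of_pow hM hyi hsq hN0.ne' hN
  intro x
  have h := ideal_neg (hsm x)
  rw [hy, sub_mul, one_mul] at h
  simpa using h

/-- Off the blocks where it occurs an idempotent is small. -/
theorem small_res_idem_zero (hM : IsPModular p M) {Q : Subgroup G} (hQ : IsPGroup p Q)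
    {z : MonoidAlgebra ℂ G} (hz : InvBy Q z) (hz' : InvBy (Cen Q) z) (hzi : IsInt M z)
    (hzz : z * z = z) {c : Set (IrrCharacter (Cen Q))} (hc : IsPBlock M c)
    (ho : ¬ Occ M Q c z) : Small M (res (Cen Q) z * idem c) := by
  have h := small_res_idem hM (z := 1 - z) hQ
    (fun v hv x => by
      simp only [MonoidAlgebra.coeff_sub, Finsupp.coe_sub, Pi.sub_apply, hz v hv x,
        (IsCen.invBy isCen_one Q) v hv x])
    (fun v hv x => by
      simp only [MonoidAlgebra.coeff_sub, Finsupp.coe_sub, Pi.sub_apply, hz' v hv x,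
        (IsCen.invBy isCen_one (Cen Q)) v hv x])
    (IsInt.sub hM (isInt_one hM) hzi)
    (by rw [mul_sub, sub_mul, sub_mul, one_mul, one_mul, mul_one, hzz]; abel) hc
    fun ξ hξ => by
      rcases phi_dichotomy hM hQ hz hz' hzi hzz ξ with h0 | h1
      · refine cast (congrArg (MemLocalIdeal M) ?_) (ideal_neg h0)
        rw [phi, phi, map_sub, map_sub, res_one, omega_one]
        ring
      · exact absurd (occ_of_mem hM hc hz' hzi hξ h1) ho
  intro x
  have h1 := ideal_neg (h x)
  rw [map_sub, res_one, sub_mul, one_mul] at h1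
  simpa using h1

/-- Some element of the pair has a value prime to `p`. -/
def Good (M : Ideal AlgInt) (χ : IrrCharacter G) (a : BrauerPairIdx G) : Prop :=
  ∃ w : MonoidAlgebra ℂ G, IsInt M w ∧ (∀ x ∉ Cen a.1, w.coeff x = 0) ∧
    ¬ MemLocalIdeal M (chiSum (χ : G → ℂ) (eb (Cen a.1) a.2 * w))

theorem good_step (hM : IsPModular p M) {χ : IrrCharacter G} {a c : BrauerPairIdx G}
    (h : NormalSubpairRel p M a c) (hg : Good M χ c) : Good M χ a := by
  obtain ⟨⟨-, hgb⟩, ⟨hQp, hcb⟩, hle, -, hinv, hocc⟩ := isNormalSubpair_iff.mp h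
  obtain ⟨w, hwi, hws, hwn⟩ := hg
  set v := eb (Cen c.1) c.2 * w with hv
  have hvinc : v = incl (Cen c.1) (idem c.2 * res (Cen c.1) w) := by
    rw [map_mul, incl_res_supported hws, ← eb_eq_incl]
  have hvs : ∀ x ∉ Cen c.1, v.coeff x = 0 := fun x hx => by
    rw [hvinc, coeff_incl_of_notMem _ _ hx]
  have hvi : IsInt M v := IsInt.mul hM (isInt_eb hM hcb) hwi
  refine ⟨v, hvi, fun x hx => hvs x fun h' => hx (centralizer_le hle h'), fun hid => hwn ?_⟩
  have hei := isInt_eb hM hgb
  have hCC : InvBy (Cen c.1) (eb (Cen a.1) a.2) :=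
    invBy_mono (centralizer_le hle) (invBy_eb_self _ _)
  have h1 := chiSum_trunc hM χ hQp (invBy_mul hinv (invBy_supported hvs)) (IsInt.mul hM hei hvi)
  have h2 : Small M (res (Cen c.1) (eb (Cen a.1) a.2 * v) - res (Cen c.1) v) := by
    have h3 := small_res_idem hM hQp hinv hCC hei (eb_sq _ _) hcb hocc
    have h4 : res (Cen c.1) v = idem c.2 * res (Cen c.1) w := by
      refine MonoidAlgebra.ext ?_
      ext x
      rw [coeff_res, hvinc, coeff_incl_coe]
    rw [hvinc, res_mul_incl, ← hvinc, h4, ← mul_assoc, ← sub_mul]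
    exact small_mul_right hM h3 (isInt_res _ hwi)
  have h5 := chiSum_small hM χ (small_incl hM (Cen c.1) h2)
  rw [map_sub, map_sub, incl_res_supported hvs] at h5
  refine cast (congrArg (MemLocalIdeal M) ?_) (ideal_sub hM (ideal_sub hM hid h1) h5)
  ring

theorem good_of_ple (hM : IsPModular p M) {χ : IrrCharacter G} {a c : BrauerPairIdx G}
    (h : PLE p M a c) (hg : Good M χ c) : Good M χ a := by
  change Relation.ReflTransGen (NormalSubpairRel p M) a c at h
  induction h using Relation.ReflTransGen.head_induction_on with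
  | refl => exact hg
  | head h1 _ ih => exact good_step hM h1 ih

theorem good_cP (x : G) {χ : IrrCharacter G} {a : BrauerPairIdx G} (hg : Good M χ a) :
    Good M χ (cP x a) := by
  obtain ⟨w, hwi, hws, hwn⟩ := hg
  refine ⟨cjA x w, fun y => by rw [coeff_cjA]; exact hwi _, fun y hy => ?_, fun h => hwn ?_⟩
  · rw [coeff_cjA]
    exact hws _ fun h => hy (show y ∈ Cen (cjS x a.1) by
      simpa [mul_assoc] using (mem_cen_cjS x a.1 _).mp h)
  · rw [eb_cP, ← BlockTheoryMeet.cjA_distrib, BlockContribMajor.chiSum_cjA] at h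
    exact h

/-- A character of height zero has a value prime to `p` at a pair at the top. -/
theorem good_maximal (hM : IsPModular p M) {B : Set (IrrCharacter G)} {χ : IrrCharacter G}
    (hχ : χ ∈ B) (h0 : blockHeight p B (χ : G → ℂ) = 0) {D : Subgroup G}
    {c : Set (IrrCharacter (Cen D))} (hmax : IsMaximalBrauerPair p M B D c) :
    Good M χ ⟨D, c⟩ := by
  have hB := hmax.1.2.1
  have hp := hM.1
  have hD := isDefectGroup_of_maximal hM hmax
  have hDp : IsPGroup p D := hmax.1.1.1
  obtain ⟨g, ⟨-, -, hω⟩, hle, hcard⟩ := isDefectGroup_iff.mp hD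
  have hgD : g ∈ Cen D := le_centralizer_singleton_iff.mp hle
  set C := Subgroup.centralizer ({g} : Set G) with hC
  have hCd : (Nat.card C).factorization p = blockDefect p B :=
    Nat.pow_right_injective hp.two_le
      (hcard.symm.trans (BlockContribBounds.card_defectGroup hM hB hD))
  have hval : ¬ MemLocalIdeal M ((χ : G → ℂ) g) := by
    intro hid
    refine hω χ hχ ?_
    set n := charDegree (χ : G → ℂ) with hn
    have hn0 : n ≠ 0 := (charDegree_pos χ).ne'
    have hi0 : C.index ≠ 0 := Subgroup.index_ne_zero_of_finite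
    set A := n / p ^ n.factorization p with hA
    set I := C.index / p ^ C.index.factorization p with hI
    have hA0 : ¬ p ∣ A := Nat.not_dvd_ordCompl hp hn0
    have heq : n.factorization p = C.index.factorization p := by
      have h1 : n.factorization p = minExp p B := by rw [exp_eq_add (p := p) hχ, h0, add_zero]
      have h2 := minExp_add_defect hM hB
      have h3 : (Nat.card G).factorization p =
          C.index.factorization p + (Nat.card C).factorization p := by
        rw [← C.index_mul_card, Nat.factorization_mul hi0 Nat.card_pos.ne']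
        rfl
      omega
    have hc : centralChar (χ : G → ℂ) g = (χ : G → ℂ) g * ((I : ℂ) * (A : ℂ)⁻¹) := by
      rw [centralChar, ← hC, apply_one_eq_charDegree, ← hn,
        ← Nat.ordProj_mul_ordCompl_eq_self n p, ← Nat.ordProj_mul_ordCompl_eq_self C.index p,
        ← hA, ← hI, heq]
      push_cast
      have hp0 : (p : ℂ) ≠ 0 := Nat.cast_ne_zero.mpr hp.ne_zero
      have hA1 : (A : ℂ) ≠ 0 := Nat.cast_ne_zero.mpr fun e => hA0 (e ▸ dvd_zero p)
      field_simp
    rw [hc]
    exact ideal_mul_right hM hid ((localRing hM).mul_mem (natCast_mem (localRing hM) I)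
      (inv_natCast_mem hM hA0))
  set w : MonoidAlgebra ℂ G := MonoidAlgebra.single g 1 with hw
  have hws : ∀ x ∉ Cen D, w.coeff x = 0 := fun x hx => by
    rw [hw, MonoidAlgebra.coeff_single, Finsupp.single_apply,
      if_neg fun e : g = x => hx (e ▸ hgD)]
  have hwi : IsInt M w := isInt_single hM g (localRing hM).one_mem
  have hei := isInt_idem hM hB
  obtain ⟨f, hfb, hfn⟩ : ∃ f, IsPBlock M f ∧ ¬ MemLocalIdeal M (chiSum (χ : G → ℂ)
      (incl (Cen D) (res (Cen D) (idem B) * idem f * res (Cen D) w))) := by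
    by_contra hall
    push Not at hall
    refine hval ?_
    have h1 := chiSum_trunc hM χ hDp (invBy_mul (IsCen.invBy (isCen_idem B) D)
      (invBy_supported hws)) (IsInt.mul hM hei hwi)
    rw [chiSum_idem_mul, if_pos hχ, hw, chiSum_single, one_mul, ← hw] at h1
    have h2 : res (Cen D) (idem B * w) = ∑ f ∈ blockSet M (Cen D),
        res (Cen D) (idem B) * idem f * res (Cen D) w := by
      conv_lhs => rw [← incl_res_supported hws, res_mul_incl]
      rw [← Finset.sum_mul, ← Finset.mul_sum, sum_idem_blockSet hM, mul_one]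
    rw [h2, map_sum, map_sum] at h1
    exact cast (congrArg (MemLocalIdeal M) (sub_add_cancel _ _))
      (ideal_add hM h1 (ideal_sum hM fun f hf => hall f (mem_blockSet.mp hf)))
  have hI := IsCen.invBy (isCen_idem (G := G) B)
  have hocc : Occ M D f (idem B) := by
    by_contra ho
    exact hfn (chiSum_small hM χ (small_incl hM _ (small_mul_right hM
      (small_res_idem_zero hM hDp (hI D) (hI _) hei (idem_sq B) hfb ho) (isInt_res _ hwi))))
  have hgood : Good M χ ⟨D, f⟩ := by
    refine ⟨w, hwi, hws, fun h => hfn ?_⟩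
    have h1 := chiSum_small hM χ (small_incl hM (Cen D) (small_mul_right hM
      (small_res_idem hM hDp (hI D) (hI _) hei (idem_sq B) hfb hocc) (isInt_res _ hwi)))
    rw [sub_mul, map_sub, map_sub, map_mul (incl (Cen D)) (idem f), incl_res_supported hws,
      ← eb_eq_incl] at h1
    exact cast (congrArg (MemLocalIdeal M) (sub_add_cancel _ _)) (ideal_add hM h1 h)
  obtain ⟨n, hn, hne⟩ := exists_normalizer_of_pairOf hM hmax
    (isBrauerPairOf_iff.mpr ⟨⟨hDp, hfb⟩, hB, hocc⟩)
  have heq : cP n⁻¹ (⟨D, f⟩ : BrauerPairIdx G) = ⟨D, c⟩ :=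
    pairIdx_ext (cjS_of_normalizer (inv_mem hn))
      (by rw [eb_cP, ← hne, ← cjA_mul, inv_mul_cancel, cjA_one])
  rw [← heq]
  exact good_cP n⁻¹ hgood

/-- Every pair of the block carries a value prime to `p`. -/
theorem good_pair (hM : IsPModular p M) {B : Set (IrrCharacter G)} {χ : IrrCharacter G}
    (hχ : χ ∈ B) (h0 : blockHeight p B (χ : G → ℂ) = 0) {Q : Subgroup G}
    {f : Set (IrrCharacter (Cen Q))} (h : IsBrauerPairOf p M B Q f) : Good M χ ⟨Q, f⟩ := by
  obtain ⟨R, c, hR, hle⟩ := exists_maximal_above h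
  exact good_of_ple hM hle (good_maximal hM hχ h0 hR)

variable {u : G} {H : Subgroup G}

theorem chiSum_incl_idem_mul (χ : IrrCharacter G) (y : MonoidAlgebra ℂ H)
    (b : Set (IrrCharacter H)) :
    chiSum (χ : G → ℂ) (incl H (idem b * y)) =
      ∑ ψ ∈ members b, (S4716.mult χ ψ : ℂ) * chiSum (ψ : H → ℂ) y := by
  have h1 : chiSum (χ : G → ℂ) (incl H (idem b * y)) =
      ∑ c : H, (idem b * y).coeff c * (χ : G → ℂ) c := by
    rw [chiSum_apply]
    refine (Fintype.sum_of_injective (fun c : H => (c : G)) Subtype.val_injective _ _ ?_ ?_).symm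
    · intro x hx
      rw [coeff_incl_of_notMem H _ (by simpa using hx), zero_mul]
    · intro c
      rw [coeff_incl_coe]
  rw [h1, ← filter_eq_members, Finset.sum_filter]
  simp only [S4716.apply_eq_sum, Finset.mul_sum]
  rw [Finset.sum_comm]
  refine Finset.sum_congr rfl fun ψ _ => ?_
  rw [Finset.sum_congr rfl (g := fun c : H => (S4716.mult χ ψ : ℂ) *
    ((idem b * y).coeff c * (ψ : H → ℂ) c)) fun c _ => by ring, ← Finset.mul_sum,
    ← chiSum_apply, chiSum_idem_mul, mul_ite, mul_zero]

/-- The `b`-part of the degree of a height zero member is prime to `p` after dividing by the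
`p`-part of `b`. -/
theorem sum_mult_degree_not_ideal (hM : IsPModular p M) (hu : ∃ k, orderOf u = p ^ k)
    (hH : ∀ g, g ∈ H ↔ Commute u g) {b : Set (IrrCharacter H)} {B : Set (IrrCharacter G)}
    (hind : IsInducedBlock M H b B) {χ : IrrCharacter G} (hχ : χ ∈ B)
    (h0 : blockHeight p B (χ : G → ℂ) = 0) :
    ¬ MemLocalIdeal M (∑ ξ ∈ members b, (S4716.mult χ ξ : ℂ) *
      ((charDegree (ξ : H → ℂ) / p ^ minExp p b : ℕ) : ℂ)) := by
  have hb := hind.1
  have hp := hM.1
  obtain ⟨E, hE⟩ := exists_defectGroup hM hb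
  have hEp : IsPGroup p E := isPGroup_of_isDefectGroup hE
  set D := E.map H.subtype with hD
  have huH : u ∈ H := (hH u).2 (Commute.refl u)
  have huD : u ∈ D := by
    set Z := Subgroup.zpowers (⟨u, huH⟩ : H)
    haveI : Z.Normal := ⟨fun z hz g => by
      obtain ⟨i, rfl⟩ := Subgroup.mem_zpowers_iff.mp hz
      have hc : Commute (⟨u, huH⟩ : H) g := Subtype.ext ((hH g).1 g.2).eq
      rw [← (hc.zpow_left i).eq, mul_inv_cancel_right]
      exact Subgroup.mem_zpowers_iff.mpr ⟨i, rfl⟩⟩
    have hZ : IsPGroup p Z := by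
      obtain ⟨k, hk⟩ := hu
      exact IsPGroup.of_card (n := k) (by rw [Nat.card_zpowers, ← Subgroup.orderOf_coe, hk])
    exact ⟨⟨u, huH⟩, normal_le_defectGroup hM hb hE Z hZ (Subgroup.mem_zpowers _), rfl⟩
  have hDH : D ≤ H := Subgroup.map_subtype_le E
  have hCH : Cen D ≤ H := fun x hx => (hH x).2 (Subgroup.mem_centralizer_iff.mp hx u huD)
  obtain ⟨g0, hg0⟩ := exists_pairOf_of_not_small hM hb hEp (not_small_cut_defect hM hb hE)
  have hpair := BlockPiKernel.pair_up hM hind hg0 hCH
  have hcompat : CenCompat H E D := cenCompat_map (Q := D) hCH le_rfl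
  set f := pushSet (cenIso hcompat) g0 with hf
  have hocc : Occ M D f (eb H b) := by
    rw [eb_eq_incl]
    exact occ_push hcompat (isBrauerPairOf_iff.mp hg0).2.2
  have hfb : IsPBlock M f := isPBlock_push _ hg0.1.2
  obtain ⟨w, hwi, hws, hwn⟩ := good_pair hM hχ h0 hpair
  set v := eb (Cen D) f * w with hv
  have hvinc : v = incl (Cen D) (idem f * res (Cen D) w) := by
    rw [map_mul, incl_res_supported hws, ← eb_eq_incl]
  have hvs : ∀ x ∉ Cen D, v.coeff x = 0 := fun x hx => by
    rw [hvinc, coeff_incl_of_notMem _ _ hx]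
  have hvi : IsInt M v := IsInt.mul hM (isInt_eb hM hfb) hwi
  have hDp : IsPGroup p D := hEp.map _
  have heH : InvBy H (eb H b) := invBy_eb_self H b
  have hei := isInt_eb hM hb
  have h1 := chiSum_trunc hM χ hDp (invBy_mul (invBy_mono hDH heH) (invBy_supported hvs))
    (IsInt.mul hM hei hvi)
  have h2 : Small M (res (Cen D) (eb H b * v) - res (Cen D) v) := by
    have h3 := small_res_idem hM hDp (invBy_mono hDH heH) (invBy_mono hCH heH) hei
      (eb_sq _ _) hfb hocc
    have h4 : res (Cen D) v = idem f * res (Cen D) w := by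
      refine MonoidAlgebra.ext ?_
      ext x
      rw [coeff_res, hvinc, coeff_incl_coe]
    rw [hvinc, res_mul_incl, ← hvinc, h4, ← mul_assoc, ← sub_mul]
    exact small_mul_right hM h3 (isInt_res _ hwi)
  have h5 := chiSum_small hM χ (small_incl hM (Cen D) h2)
  rw [map_sub, map_sub, incl_res_supported hvs] at h5
  have hunit : ¬ MemLocalIdeal M (chiSum (χ : G → ℂ) (eb H b * v)) := fun h => hwn
    (cast (congrArg (MemLocalIdeal M) (by ring)) (ideal_sub hM (ideal_sub hM h h1) h5))
  -- the transfer from `E` to `H`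
  set x₀ : MonoidAlgebra ℂ H := res H v with hx₀
  have hx₀v : incl H x₀ = v := incl_res_supported fun x hx => hvs x fun h => hx (hCH h)
  have hx₀inv : InvBy E x₀ := fun e he x => by
    simp only [hx₀, coeff_res]
    exact invBy_supported hvs (e : G) ⟨e, he, rfl⟩ (x : G)
  set z := BlockContribMajor.conjSum E x₀ with hz
  have hzc : IsCen z := BlockContribMajor.isCen_conjSum hx₀inv
  have hzi : IsInt M z := fun x => by
    simp only [hz, BlockContribMajor.conjSum, MonoidAlgebra.coeff_sum, Finsupp.finsetSum_apply]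
    exact (localRing hM).sum_mem fun c _ => by rw [coeff_cjA]; exact isInt_res H hvi _
  set e := minExp p b with he
  have hindex : E.index = p ^ e * cofactor p H := by
    have h3 := pow_mul_cofactor (G := H) p
    rw [← minExp_add_defect hM hb, ← he, pow_add, ← E.index_mul_card,
      BlockContribBounds.card_defectGroup hM hb hE] at h3
    refine (Nat.eq_of_mul_eq_mul_right (pow_pos hp.pos (blockDefect p b)) ?_).symm
    rw [← h3]; ring
  intro hid
  refine hunit ?_
  rw [← hx₀v, eb_eq_incl, ← map_mul, chiSum_incl_idem_mul]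
  obtain ⟨φ, hφ⟩ := block_nonempty hM hb
  set D' : IrrCharacter H → ℕ := fun ξ => charDegree (ξ : H → ℂ) / p ^ e with hD'
  have hcof : (cofactor p H : ℂ) ≠ 0 :=
    Nat.cast_ne_zero.mpr fun h => cofactor_not_dvd (G := H) hp (h ▸ dvd_zero p)
  have hterm : ∀ ψ ∈ members b, chiSum (ψ : H → ℂ) x₀ =
      (cofactor p H : ℂ)⁻¹ * (omega (ψ : H → ℂ) z * (D' ψ : ℂ)) := by
    intro ψ hψ
    have h3 : omega (ψ : H → ℂ) z * ((p ^ e * D' ψ : ℕ) : ℂ) =
        ((p ^ e * cofactor p H : ℕ) : ℂ) * chiSum (ψ : H → ℂ) x₀ := by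
      rw [omega_apply, hz, BlockContribMajor.chiSum_conjSum, hindex,
        show p ^ e * D' ψ = charDegree (ψ : H → ℂ) from Nat.mul_div_cancel'
          ((pow_dvd_pow p (minExp_le (p := p) (mem_members.1 hψ))).trans (Nat.ordProj_dvd _ p)),
        ← apply_one_eq_charDegree]
      field_simp [irr_one_ne_zero ψ]
    have hp0 : (p : ℂ) ≠ 0 := Nat.cast_ne_zero.mpr hp.ne_zero
    push_cast at h3
    field_simp
    refine mul_left_cancel₀ (pow_ne_zero e hp0) ?_
    linear_combination -h3
  rw [Finset.sum_congr rfl fun ψ hψ => by rw [hterm ψ hψ]]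
  set ω₀ := omega ((φ : IrrCharacter H) : H → ℂ) z with hω₀
  have hci : MemLocalRing M ((cofactor p H : ℂ)⁻¹) :=
    inv_natCast_mem hM (cofactor_not_dvd (G := H) hp)
  have hdiff : MemLocalIdeal M (∑ ψ ∈ members b, ((S4716.mult χ ψ : ℂ) * (D' ψ : ℂ)) *
      ((cofactor p H : ℂ)⁻¹ * (omega (ψ : H → ℂ) z - ω₀))) := by
    refine ideal_sum hM fun ψ hψ => ideal_mul_left hM ((localRing hM).mul_mem
      (natCast_mem (localRing hM) _) (natCast_mem (localRing hM) _))
      (ideal_mul_left hM hci ?_)
    exact omega_sub_mem hM (sameBlock_of_mem hM hb (mem_members.1 hψ) hφ) hzc hzi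
  refine cast (congrArg (MemLocalIdeal M) ?_) (ideal_add hM hdiff (ideal_mul_right hM hid
    ((localRing hM).mul_mem hci (omega_mem_localRing hM φ hzc hzi))))
  rw [Finset.sum_mul, ← Finset.sum_add_distrib]
  refine Finset.sum_congr rfl fun ψ _ => ?_
  simp only [hD']
  ring

end Cfsg.Agent.BlockSectionDegree81
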