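import Cfsg.Agent.Lib.KleinFourDefect79
import Cfsg.Agent.Lib.BlockMajor81
import Cfsg.Agent.Lib.BlockSectionDegree81
import Cfsg.Agent.Lib.BrauerBlocksPPart
import Cfsg.Prelude.Def_BlockLocal

/-!
# Perfect isometries between blocks with a Klein four defect group

Values on singular sections are integral combinations of a fixed orthogonal family of sign
vectors; the divisibility on regular elements is Green's divisibility for combinations of
characters vanishing on singular elements.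
-/

set_option autoImplicit false

namespace Cfsg.Agent.BlockKleinIso81

open Cfsg Cfsg.Agent.BlockTheoryLocalRing Cfsg.Agent.BlockTheoryCentre
open Cfsg.Agent.BlockTheoryIdem Cfsg.Agent.BlockTheoryBrauer Cfsg.Agent.BlockTheoryDefect
open Cfsg.Agent.BrauerPairs81Base Cfsg.Agent.BrauerPairs81Pairs Cfsg.Agent.BrauerPairs81Conj
open Cfsg.Agent.BrauerPairs81Max Cfsg.Agent.BrauerPairs81Local Cfsg.Agent.BrauerPairs81Fusion
open Cfsg.Agent.BrauerPairs81Stab Cfsg.Agent.BrauerPairs81Index
open Cfsg.Agent.BrauerPairs81Nilpotent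
open Cfsg.Agent.BrauerPairs81Induced Cfsg.Agent.BlockCyclicRank81
open Cfsg.Agent.BlockContribSection Cfsg.Agent.BlockContribBounds
open scoped ComplexConjugate

attribute [local instance] Classical.propDecidable

set_option linter.unusedSectionVars false

universe u v

/-! ### Green's divisibility -/

section Green

variable {p : ℕ} [Fact p.Prime] {M : Ideal AlgInt} {G : Type u} [Group G] [Fintype G]

/-- A local combination of characters vanishing on singular elements is divisible by the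
centraliser order at a regular element. -/
theorem div_centralizer_mem (hM : IsPModular p M) {ι : Type*} [Fintype ι] (a : ι → ℂ)
    (ha : ∀ i, MemLocalRing M (a i)) (χ : ι → IrrCharacter G)
    (h0 : ∀ z : G, p ∣ orderOf z → ∑ i, a i * (χ i : G → ℂ) z = 0) {x : G}
    (hx : ¬ p ∣ orderOf x) :
    MemLocalRing M ((∑ i, a i * (χ i : G → ℂ) x) /
      (Nat.card (Subgroup.centralizer ({x} : Set G)) : ℂ)) := by
  set C := Subgroup.centralizer ({x} : Set G)
  obtain ⟨Q⟩ : Nonempty (Sylow p C) := inferInstance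
  have hxC : x ∈ C := Subgroup.mem_centralizer_singleton_iff.2 rfl
  set xC : C := ⟨x, hxC⟩
  have hcen : xC ∈ Subgroup.center C := Subgroup.mem_center_iff.2 fun g =>
    Subtype.ext (Subgroup.mem_centralizer_singleton_iff.1 g.2)
  have hlam : ∀ ξ : IrrCharacter C, MemLocalRing M (S4716.lam xC ξ) := by
    intro ξ
    refine of_isIntegral hM (IsIntegral.of_pow (isOfFinOrder_of_finite xC).orderOf_pos ?_)
    rw [← S4716.lam_pow hcen, pow_orderOf_eq_one, S4716.lam, div_self (irr_one_ne_zero ξ)]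
    exact isIntegral_one
  have hq : ∀ ξ : IrrCharacter C, ∃ m : ℕ,
      ∑ q : (Q : Subgroup C), (ξ : C → ℂ) q = (Nat.card (Q : Subgroup C) : ℂ) * m := by
    intro ξ
    obtain ⟨m, hm⟩ := CharBasicOrth.classInner_isCharacter
      (CharBasic.isCharacter_comap (Q : Subgroup C).subtype (ClassAlgebraVal.irr_isCharacter ξ))
      CharBasicDecomp.isCharacter_one
    refine ⟨m, ?_⟩
    rw [← hm, classInner, ← mul_assoc, mul_inv_cancel₀ (Nat.cast_ne_zero.2 Nat.card_pos.ne'),
      one_mul]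
    exact Finset.sum_congr rfl fun q _ => by simp
  choose m hm using hq
  have hz : ∀ q : (Q : Subgroup C), q ≠ 1 → p ∣ orderOf (x * ((q : C) : G)) := by
    intro q hq1
    have hc : Commute x ((q : C) : G) :=
      (Subgroup.mem_centralizer_singleton_iff.1 (q : C).2).symm
    obtain ⟨k, hk⟩ := (IsPGroup.iff_orderOf.1 Q.isPGroup') q
    have hk' : orderOf ((q : C) : G) = p ^ k := by
      rw [Subgroup.orderOf_coe, Subgroup.orderOf_coe, hk]
    have hk0 : k ≠ 0 := by
      rintro rfl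
      exact hq1 (orderOf_eq_one_iff.1 (by rw [hk, pow_zero]))
    rw [hc.orderOf_mul_eq_mul_orderOf_of_coprime (by
      rw [hk']; exact ((hM.1.coprime_iff_not_dvd.2 hx).symm).pow_right k), hk']
    exact dvd_mul_of_dvd_right (dvd_pow_self p hk0) _
  have hexp : ∀ i, ∑ q : (Q : Subgroup C), (χ i : G → ℂ) (x * ((q : C) : G)) =
      ∑ ξ : IrrCharacter C, ((S4716.mult (χ i) ξ : ℂ) * S4716.lam xC ξ) *
        ((Nat.card (Q : Subgroup C) : ℂ) * m ξ) := by
    intro i
    rw [Finset.sum_congr rfl (g := fun q : (Q : Subgroup C) => ∑ ξ : IrrCharacter C,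
        ((S4716.mult (χ i) ξ : ℂ) * S4716.lam xC ξ) * (ξ : C → ℂ) q) fun q _ => by
        rw [show x * ((q : C) : G) = ((xC * (q : C) : C) : G) from rfl, S4716.apply_eq_sum]
        exact Finset.sum_congr rfl fun ξ _ => by rw [S4716.lam_mul hcen]; ring,
      Finset.sum_comm]
    exact Finset.sum_congr rfl fun ξ _ => by rw [← Finset.mul_sum, hm]
  have hkey : ∑ i, a i * (χ i : G → ℂ) x = (Nat.card (Q : Subgroup C) : ℂ) *
      ∑ i, a i * ∑ ξ : IrrCharacter C,
        ((S4716.mult (χ i) ξ : ℂ) * S4716.lam xC ξ) * (m ξ : ℂ) := by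
    have h1 : ∑ q : (Q : Subgroup C), ∑ i, a i * (χ i : G → ℂ) (x * ((q : C) : G)) =
        ∑ i, a i * (χ i : G → ℂ) x := by
      rw [Finset.sum_eq_single (1 : (Q : Subgroup C)) (fun q _ hq1 => h0 _ (hz q hq1))
        (fun h => absurd (Finset.mem_univ _) h)]
      simp
    rw [← h1, Finset.sum_comm, Finset.mul_sum]
    refine Finset.sum_congr rfl fun i _ => ?_
    rw [← Finset.mul_sum, hexp, Finset.mul_sum, Finset.mul_sum, Finset.mul_sum]
    exact Finset.sum_congr rfl fun ξ _ => by ring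
  rw [hkey, mul_comm, mul_div_assoc]
  refine (localRing hM).mul_mem ?_ (BlockMajor81.natCast_div_mem hM Nat.card_pos.ne' fun _ => ?_)
  · exact (localRing hM).sum_mem fun i _ => (localRing hM).mul_mem (ha i)
      ((localRing hM).sum_mem fun ξ _ => (localRing hM).mul_mem
        ((localRing hM).mul_mem (natCast_mem (localRing hM) _) (hlam ξ))
        (natCast_mem (localRing hM) _))
  · rw [Q.card_eq_multiplicity, Nat.Prime.factorization_pow hM.1]
    simp

end Green

/-! ### The sign vector of a subsection -/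

variable {G : Type u} [Group G] [Fintype G] {M : Ideal AlgInt} {B : Set (IrrCharacter G)}
  {P : Subgroup G} {c : Set (IrrCharacter (Cen P))}

theorem sub_data (hM : IsPModular 2 M) (hmax : IsMaximalBrauerPair 2 M B P c)
    (hV : IsKleinFour P) (hB4 : Nat.card B = 4) {x : G} (hx : ∃ k, orderOf x = 2 ^ k)
    (hx1 : x ≠ 1) {b : Set (IrrCharacter (Cen (Subgroup.zpowers x)))} (hb : b ∈ subs M B x) :
    ∃ φ : Cen (Subgroup.zpowers x) → ℂ, ∃ a : IrrCharacter G → ℤ,
      (∀ χ ∈ B, a χ = 1 ∨ a χ = -1) ∧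
      (∀ s : Cen (Subgroup.zpowers x), ¬ 2 ∣ orderOf s → MemLocalRing M (φ s) ∧
        MemLocalRing M (φ s * 4 /
          (Nat.card (Subgroup.centralizer ({s} : Set (Cen (Subgroup.zpowers x)))) : ℂ))) ∧
      (∀ (χ : IrrCharacter G) (s : Cen (Subgroup.zpowers x)), ¬ 2 ∣ orderOf s →
        part x b (χ : G → ℂ) s = (a χ : ℂ) * φ s) ∧
      (∀ y : G, ¬ 2 ∣ orderOf y → ∑ χ ∈ members B, (a χ : ℂ) * (χ : G → ℂ) y = 0) := by
  haveI : Fact (Nat.Prime 2) := ⟨Nat.prime_two⟩
  have hP : Nat.card P = 4 := hV.card_four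
  obtain ⟨k, hk⟩ := hx
  have hind : IsInducedBlock M (Cen (Subgroup.zpowers x)) b B := (Finset.mem_filter.1 hb).2
  have hpair : IsBrauerPairOf 2 M B (Subgroup.zpowers x) b :=
    isBrauerPairOf_of_induced hM (BrauerPairs81Nilpotent.isPGroup_zpowers hk) hind
  have hH := centralizer_zpowers (G := G) x
  have hB : IsPBlock M B := hmax.1.2.1
  -- the element is an involution
  have hxx : x * x = 1 := by
    obtain ⟨g, hg⟩ := exists_conj_subpairLE hM hmax hpair
    have h1 : x ∈ Subgroup.zpowers x := Subgroup.mem_zpowers x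
    have h2 := subgroup_le_of_subpairLE hg (Subgroup.mem_map_of_mem _ h1)
    have h3 : (⟨_, h2⟩ : P) * ⟨_, h2⟩ = 1 := IsKleinFour.mul_self _
    have h4 := congrArg Subtype.val h3
    simp only [Subgroup.coe_mul, Subgroup.coe_one, MulEquiv.coe_toMonoidHom,
      ← map_mul (MulAut.conj _)] at h4
    exact (map_eq_one_iff _ (MulAut.conj _).injective).1 h4
  -- its block has defect two
  have hd : blockDefect 2 b = 2 ∧ blockDefect 2 B = 2 := by
    obtain ⟨R, g, hRmax, hle⟩ := exists_maximal_above hpair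
    have hR : Nat.card R = 4 := by
      rw [← hP, card_defectGroup hM hB (isDefectGroup_of_maximal hM hRmax),
        card_defectGroup hM hB (isDefectGroup_of_maximal hM hmax)]
    have hab : ∀ a ∈ R, ∀ b ∈ R, a * b = b * a := KleinFourDefect79.comm_four hR
    have hQR : Subgroup.zpowers x ≤ R := subgroup_le_of_subpairLE hle
    have hRQ : R ≤ Cen (Subgroup.zpowers x) := fun a ha =>
      Subgroup.mem_centralizer_iff.mpr fun q hq => hab q (hQR hq) a ha
    obtain ⟨c₀, hmax₀, -⟩ := exists_maximal_cen hM hRmax hQR hRQ hle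
    have h1 := card_defectGroup hM hmax₀.1.2.1 (isDefectGroup_of_maximal hM hmax₀)
    rw [Nat.card_congr (Subgroup.subgroupOfEquivOfLe hRQ).toEquiv, hR,
      show (4 : ℕ) = 2 ^ 2 by norm_num] at h1
    have h2 := card_defectGroup hM hB (isDefectGroup_of_maximal hM hmax)
    rw [hP, show (4 : ℕ) = 2 ^ 2 by norm_num] at h2
    exact ⟨(Nat.pow_right_injective le_rfl h1).symm, (Nat.pow_right_injective le_rfl h2).symm⟩
  have hl : blockRank 2 b = 1 := KleinFourDefect79.subs_rank hM hmax hP ⟨k, hk⟩ hx1 hb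
  obtain ⟨φ, d, ⟨n, hn⟩, hF, hsum⟩ := S4675.main hM hind.1 hl
  rw [finsum_eq_members, hd.1] at hsum
  have h1r : ¬ 2 ∣ orderOf (1 : Cen (Subgroup.zpowers x)) := by simp
  have hF0 : φ 1 ≠ 0 := by
    obtain ⟨ξ, hξ⟩ := block_nonempty hM hind.1
    intro h
    exact irr_one_ne_zero ξ (by rw [hF ξ hξ 1 h1r, h, mul_zero])
  set z : Cen (Subgroup.zpowers x) := ⟨x, (hH x).2 (Commute.refl x)⟩ with hz
  have hzc : z ∈ Subgroup.center (Cen (Subgroup.zpowers x)) := BlockMajor81.uH_center hH
  have hsgn : ∀ ξ : IrrCharacter (Cen (Subgroup.zpowers x)),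
      ∃ s : ℤ, S4716.lam z ξ = (s : ℂ) := by
    intro ξ
    have h : S4716.lam z ξ ^ 2 = 1 := by
      rw [← S4716.lam_pow hzc, show z ^ 2 = 1 from Subtype.ext (by simp [hz, pow_two, hxx])]
      simp [S4716.lam, irr_one_ne_zero ξ]
    rcases sq_eq_one_iff.1 h with h | h
    · exact ⟨1, by simpa using h⟩
    · exact ⟨-1, by simpa using h⟩
  choose sg hsg using hsgn
  let f : IrrCharacter G → ℤ := fun χ => ∑ ξ ∈ members b, (S4716.mult χ ξ * d ξ : ℕ) * sg ξ
  have hpart : ∀ (χ : IrrCharacter G) (s : Cen (Subgroup.zpowers x)), ¬ 2 ∣ orderOf s →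
      part x b (χ : G → ℂ) s = (f χ : ℂ) * φ s := by
    intro χ s hs
    simp only [f]
    rw [Int.cast_sum, S4716.part_eq hH, Finset.sum_mul]
    refine Finset.sum_congr rfl fun ξ hξ => ?_
    rw [← hz, hsg, hF ξ (mem_members.1 hξ) s hs]
    push_cast
    ring
  have hne : ∀ χ ∈ B, f χ ≠ 0 := fun χ hχ h0 =>
    BlockMajor81.part_one_ne_zero hH hM ⟨k, hk⟩ hind (hd.1.trans hd.2.symm) hχ
      (by rw [hpart χ 1 h1r, h0]; simp)
  -- the squares add up to four
  have hsq : ∑ χ ∈ members B, f χ ^ 2 = 4 := by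
    have h := sum_part_mul_induced hH hM ⟨k, hk⟩ hind h1r h1r
    have hk1 : kern b (1 : Cen (Subgroup.zpowers x)) 1 = φ 1 * conj (φ 1) * 4 := by
      rw [kern, ← Finset.sum_filter, filter_eq_members,
        show (4 : ℂ) = ((∑ ξ ∈ members b, d ξ ^ 2 : ℕ) : ℂ) by rw [hsum]; norm_num,
        Nat.cast_sum, Finset.mul_sum]
      refine Finset.sum_congr rfl fun ξ hξ => ?_
      rw [hF ξ (mem_members.1 hξ) 1 h1r, map_mul, map_natCast]
      push_cast
      ring
    rw [hk1, ← Finset.sum_filter, filter_eq_members] at h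
    have h2 : (∑ χ ∈ members B, (f χ : ℂ) ^ 2) * (φ 1 * conj (φ 1)) =
        4 * (φ 1 * conj (φ 1)) := by
      rw [Finset.sum_mul, mul_comm (4 : ℂ), ← h]
      refine Finset.sum_congr rfl fun χ _ => ?_
      rw [hpart χ 1 h1r, map_mul, map_intCast]; ring
    exact_mod_cast mul_right_cancel₀
      (mul_ne_zero hF0 (by simpa using hF0 : conj (φ 1) ≠ 0)) h2
  refine ⟨φ, f, fun χ hχ => ?_, fun s hs => ?_, hpart, fun y hy => ?_⟩
  · have h1 : ∀ ψ ∈ members B, (1 : ℤ) ≤ f ψ ^ 2 := fun ψ hψ =>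
      (sq_pos_of_ne_zero (hne ψ (mem_members.1 hψ)) :)
    have h2 : f χ ^ 2 = 1 := by
      have hm : χ ∈ members B := mem_members.2 hχ
      rw [← Finset.add_sum_erase _ _ hm] at hsq
      have h3 : (((members B).erase χ).card : ℤ) ≤ ∑ ψ ∈ (members B).erase χ, f ψ ^ 2 := by
        rw [Finset.card_eq_sum_ones, Nat.cast_sum]
        exact Finset.sum_le_sum fun ψ hψ => by
          exact_mod_cast h1 ψ (Finset.mem_of_mem_erase hψ)
      rw [Finset.card_erase_of_mem hm, ← card_members, hB4] at h3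
      have := h1 χ hm
      norm_num at h3
      omega
    exact sq_eq_one_iff.1 h2
  · -- integrality and divisibility of the Brauer character
    have hφR : MemLocalRing M (φ s) := by
      rw [hn s hs, finsum_eq_members]
      exact (localRing hM).sum_mem fun ψ _ => (localRing hM).mul_mem
        (intCast_mem (localRing hM) _) (BlockSectionDegree81.irr_mem hM ψ s)
    refine ⟨hφR, ?_⟩
    let a : IrrCharacter (Cen (Subgroup.zpowers x)) → ℂ := fun ξ => if ξ ∈ b then (d ξ : ℂ) else 0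
    have hsum4 : ∀ t : Cen (Subgroup.zpowers x),
        ∑ ξ, a ξ * (ξ : _ → ℂ) t = ∑ ξ ∈ members b, (d ξ : ℂ) * (ξ : _ → ℂ) t := fun t => by
      rw [← filter_eq_members, Finset.sum_filter]
      exact Finset.sum_congr rfl fun ξ _ => by simp only [a]; split_ifs <;> simp
    have h := div_centralizer_mem hM a (fun ξ => by
      simp only [a]; split_ifs
      · exact natCast_mem (localRing hM) _
      · exact (localRing hM).zero_mem) id (fun t ht => ?_) hs
    · simp only [id] at h
      rw [hsum4, Finset.sum_congr rfl fun ξ hξ => by rw [hF ξ (mem_members.1 hξ) s hs]] at h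
      convert h using 2
      rw [show (4 : ℂ) = ((∑ ξ ∈ members b, d ξ ^ 2 : ℕ) : ℂ) by rw [hsum]; norm_num,
        Nat.cast_sum, Finset.mul_sum]
      exact Finset.sum_congr rfl fun ξ _ => by push_cast; ring
    · simp only [id]
      rw [hsum4]
      have h := congrArg conj (weak_orthogonality hM hind.1 h1r ht)
      rw [map_zero, map_sum] at h
      refine mul_left_cancel₀ (show conj (φ 1) ≠ 0 by simpa using hF0) ?_
      rw [mul_zero, ← h, Finset.mul_sum, ← filter_eq_members, Finset.sum_filter]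
      refine Finset.sum_congr rfl fun ξ _ => ?_
      split_ifs with hξ
      · rw [hF ξ hξ 1 h1r, map_mul, map_mul, map_natCast, Complex.conj_conj]; ring
      · rw [map_zero]
  · -- orthogonality to the regular values
    have hsing : ∀ t : Cen (Subgroup.zpowers x), ¬ 2 ∣ orderOf t →
        2 ∣ orderOf (x * (t : G)) := by
      intro t ht
      have hk0 : k ≠ 0 := by
        rintro rfl
        exact hx1 (orderOf_eq_one_iff.1 (by rw [hk, pow_zero]))
      rw [((hH t).1 t.2).orderOf_mul_eq_mul_orderOf_of_coprime (by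
        rw [hk, Subgroup.orderOf_coe]; exact (Nat.prime_two.coprime_iff_not_dvd.2 ht).pow_left k),
        hk]
      exact dvd_mul_of_dvd_left (dvd_pow_self 2 hk0) _
    have h0 : ∑ χ ∈ members B,
        part x b (χ : G → ℂ) 1 * conj ((χ : G → ℂ) y) = 0 := by
      simp only [part, mul_assoc, ← Finset.mul_sum, Finset.sum_mul]
      rw [Finset.sum_comm, Finset.sum_eq_zero fun t _ => ?_, mul_zero]
      by_cases ht : 2 ∣ orderOf t
      · rw [show kern b 1 t = 0 from weak_orthogonality hM hind.1 h1r ht]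
        simp
      · have h := congrArg conj (weak_orthogonality hM hB hy (hsing t ht))
        rw [map_zero, map_sum] at h
        rw [← mul_zero (kern b 1 t), ← h, Finset.mul_sum, ← filter_eq_members,
          Finset.sum_filter]
        refine Finset.sum_congr rfl fun χ _ => ?_
        split_ifs
        · rw [map_mul, Complex.conj_conj]; ring
        · simp
    have h2 : φ 1 * ∑ χ ∈ members B, (f χ : ℂ) * conj ((χ : G → ℂ) y) = 0 := by
      rw [← h0, Finset.mul_sum]
      exact Finset.sum_congr rfl fun χ _ => by rw [hpart χ 1 h1r]; ring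
    have h3 := congrArg conj ((mul_eq_zero.1 h2).resolve_left hF0)
    rw [map_zero, map_sum] at h3
    rw [← h3]
    exact Finset.sum_congr rfl fun χ _ => by rw [map_mul, map_intCast, Complex.conj_conj]

/-! ### The shape of a block -/

/-- The signed values of the block are orthogonal to the vectors `h` on regular elements and
divisible combinations of them on singular elements. -/
def Coded (M : Ideal AlgInt) (B : Set (IrrCharacter G)) {m : ℕ}
    (h : Fin m → Fin 4 → ℤ) : Prop :=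
  ∃ ι : Fin 4 → IrrCharacter G, Function.Injective ι ∧ Set.range ι = B ∧
    ∃ r : Fin 4 → ℤ, (∀ i, r i = 1 ∨ r i = -1) ∧
      (∀ x : G, ¬ 2 ∣ orderOf x → ∀ j, ∑ i, (h j i : ℂ) * ((r i : ℂ) * (ι i : G → ℂ) x) = 0) ∧
      (∀ x : G, 2 ∣ orderOf x → ∃ κ : Fin m → ℂ,
        (∀ j, MemLocalRing M (κ j) ∧
          MemLocalRing M (κ j * 4 / (Nat.card (Subgroup.centralizer ({x} : Set G)) : ℂ))) ∧
        ∀ i, (r i : ℂ) * (ι i : G → ℂ) x = ∑ j, κ j * (h j i : ℂ))

theorem coded_of (hM : IsPModular 2 M) (hmax : IsMaximalBrauerPair 2 M B P c)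
    (hV : IsKleinFour P) (hB4 : Nat.card B = 4) {m : ℕ} [NeZero m] (h : Fin m → Fin 4 → ℤ)
    {ι : Fin 4 → IrrCharacter G} (hι : Function.Injective ι) (hrange : Set.range ι = B)
    {r : Fin 4 → ℤ} (hr : ∀ i, r i = 1 ∨ r i = -1)
    (hreg : ∀ x : G, ¬ 2 ∣ orderOf x → ∀ j,
      ∑ i, (h j i : ℂ) * ((r i : ℂ) * (ι i : G → ℂ) x) = 0)
    (hvec : ∀ a : IrrCharacter G → ℤ, (∀ χ ∈ B, a χ = 1 ∨ a χ = -1) →
      (∀ y : G, ¬ 2 ∣ orderOf y → ∑ χ ∈ members B, (a χ : ℂ) * (χ : G → ℂ) y = 0) →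
      ∃ j, ∃ t : ℤ, ∀ i, r i * a (ι i) = t * h j i) :
    Coded M B h := by
  haveI : Fact (Nat.Prime 2) := ⟨Nat.prime_two⟩
  have hB : IsPBlock M B := hmax.1.2.1
  refine ⟨ι, hι, hrange, r, hr, hreg, fun x hx => ?_⟩
  obtain ⟨u, s, rfl, hc, hu, hs⟩ := BrauerBlocksPPart.exists_isPPart hM.1 x
  have hu1 : u ≠ 1 := by
    rintro rfl
    rw [one_mul] at hx
    exact hs hx
  set sH : Cen (Subgroup.zpowers u) := ⟨s, (centralizer_zpowers u s).2 hc⟩
  have hsH : ¬ 2 ∣ orderOf sH := by rwa [← Subgroup.orderOf_coe]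
  have hex : ∀ b : Set (IrrCharacter (Cen (Subgroup.zpowers u))), b ∈ subs M B u →
      ∃ (j : Fin m) (q : ℂ), MemLocalRing M q ∧
        MemLocalRing M (q * 4 / (Nat.card (Subgroup.centralizer ({u * s} : Set G)) : ℂ)) ∧
        ∀ i, (r i : ℂ) * part u b (ι i : G → ℂ) sH = q * (h j i : ℂ) := by
    intro b hb
    obtain ⟨φ, a, ha, hφ, hpart, horth⟩ := sub_data hM hmax hV hB4 hu hu1 hb
    obtain ⟨j, t, ht⟩ := hvec a ha horth
    obtain ⟨h1, h2⟩ := hφ sH hsH
    refine ⟨j, (t : ℂ) * φ sH, (localRing hM).mul_mem (intCast_mem (localRing hM) t) h1, ?_,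
      fun i => ?_⟩
    · rw [show u * s = u * (sH : G) from rfl,
        card_centralizer_section (centralizer_zpowers u) Nat.prime_two hu hsH, mul_assoc,
        mul_div_assoc]
      exact (localRing hM).mul_mem (intCast_mem (localRing hM) t) h2
    · rw [hpart _ _ hsH, ← mul_assoc, ← Int.cast_mul, ht i]
      push_cast
      ring
  choose! J q hqR hqD hval using hex
  refine ⟨fun j => ∑ b ∈ (subs M B u).filter (fun b => J b = j), q b, fun j => ⟨?_, ?_⟩,
    fun i => ?_⟩
  · exact (localRing hM).sum_mem fun b hb => hqR b (Finset.mem_filter.1 hb).1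
  · rw [Finset.sum_mul, Finset.sum_div]
    exact (localRing hM).sum_mem fun b hb => hqD b (Finset.mem_filter.1 hb).1
  · have hiB : ι i ∈ B := hrange ▸ Set.mem_range_self i
    have h1 := apply_eq_sum_part (centralizer_zpowers u) hM hu hB (ι i) hsH
    rw [if_pos hiB] at h1
    rw [show u * s = u * (sH : G) from rfl, h1, Finset.mul_sum]
    simp only [Finset.sum_mul]
    refine Eq.trans ?_ (Finset.sum_fiberwise (subs M B u) J
      (fun b => q b * (h (J b) i : ℂ))).symm |>.trans ?_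
    · exact Finset.sum_congr rfl fun b hb => hval b hb i
    · refine Finset.sum_congr rfl fun j _ => Finset.sum_congr rfl fun b hb => ?_
      rw [(Finset.mem_filter.1 hb).2]

/-- The three nontrivial rows of the Hadamard matrix of order four. -/
def had : Fin 3 → Fin 4 → ℤ := ![![1, 1, -1, -1], ![1, -1, 1, -1], ![1, -1, -1, 1]]

theorem had_orth : ∀ j j', ∑ i, had j i * had j' i = if j = j' then 4 else 0 := by decide

theorem had_complete (v : Fin 4 → ℤ) (hv : ∀ i, v i = 1 ∨ v i = -1) (h0 : ∑ i, v i = 0) :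
    ∃ j, ∃ t : ℤ, ∀ i, v i = t * had j i := by
  rw [Fin.sum_univ_four] at h0
  rcases hv 0 with a | a <;> rcases hv 1 with b | b <;> rcases hv 2 with e | e <;>
    rcases hv 3 with f | f <;> first
      | omega
      | (refine ⟨0, v 0, fun i => ?_⟩; fin_cases i <;> simp [had, a, b, e, f] <;> done)
      | (refine ⟨1, v 0, fun i => ?_⟩; fin_cases i <;> simp [had, a, b, e, f] <;> done)
      | (refine ⟨2, v 0, fun i => ?_⟩; fin_cases i <;> simp [had, a, b, e, f] <;> done)

theorem exists_enum (h4 : Nat.card B = 4) :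
    ∃ ι : Fin 4 → IrrCharacter G, Function.Injective ι ∧ Set.range ι = B ∧
      ∀ F : IrrCharacter G → ℂ, ∑ χ ∈ members B, F χ = ∑ i, F (ι i) := by
  let E : B ≃ Fin 4 := Finite.equivFinOfCardEq h4
  refine ⟨fun i => (E.symm i : IrrCharacter G), Subtype.val_injective.comp E.symm.injective,
    ?_, fun F => ?_⟩
  · rw [show (fun i => (E.symm i : IrrCharacter G)) = Subtype.val ∘ E.symm from rfl,
      E.symm.surjective.range_comp, Subtype.range_coe]
  · symm
    exact Finset.sum_bij (fun i _ => (E.symm i : IrrCharacter G))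
      (fun i _ => mem_members.2 (E.symm i).2)
      (fun i _ j _ h => E.symm.injective (Subtype.ext h))
      (fun χ hχ => ⟨E ⟨χ, mem_members.1 hχ⟩, Finset.mem_univ _, by simp⟩) (fun i _ => rfl)

theorem blockDefect_eq (hM : IsPModular 2 M) (hmax : IsMaximalBrauerPair 2 M B P c)
    (hV : IsKleinFour P) : blockDefect 2 B = 2 := by
  haveI : Fact (Nat.Prime 2) := ⟨Nat.prime_two⟩
  have := card_defectGroup hM hmax.1.2.1 (isDefectGroup_of_maximal hM hmax)
  rw [hV.card_four, show (4 : ℕ) = 2 ^ 2 by norm_num] at this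
  exact (Nat.pow_right_injective le_rfl this).symm

/-- Inertial index one. -/
theorem coded_one (hM : IsPModular 2 M) (hmax : IsMaximalBrauerPair 2 M B P c)
    (hV : IsKleinFour P) (hB4 : Nat.card B = 4) (hl : blockRank 2 B = 1) : Coded M B had := by
  haveI : Fact (Nat.Prime 2) := ⟨Nat.prime_two⟩
  have hB : IsPBlock M B := hmax.1.2.1
  obtain ⟨ι, hι, hrange, hsum⟩ := exists_enum hB4
  obtain ⟨φ, d, -, hF, hd⟩ := S4675.main hM hB hl
  rw [finsum_eq_members, blockDefect_eq hM hmax hV] at hd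
  have hmem : ∀ i, ι i ∈ B := fun i => hrange ▸ Set.mem_range_self i
  have h1 : ¬ 2 ∣ orderOf (1 : G) := by simp
  have hdpos : ∀ i, d (ι i) ≠ 0 := fun i h => irr_one_ne_zero (ι i)
    (by rw [hF _ (hmem i) 1 h1, h, Nat.cast_zero, zero_mul])
  have hd1 : ∀ i, d (ι i) = 1 := by
    intro i
    have h := hsum (fun χ => ((d χ ^ 2 : ℕ) : ℂ))
    rw [← Nat.cast_sum, hd, ← Nat.cast_sum, Nat.cast_inj, Fin.sum_univ_four] at h
    have := Nat.one_le_pow 2 _ (Nat.pos_of_ne_zero (hdpos 0))
    have := Nat.one_le_pow 2 _ (Nat.pos_of_ne_zero (hdpos 1))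
    have := Nat.one_le_pow 2 _ (Nat.pos_of_ne_zero (hdpos 2))
    have := Nat.one_le_pow 2 _ (Nat.pos_of_ne_zero (hdpos 3))
    have h2 : d (ι i) ^ 2 = 1 := by
      fin_cases i <;> simp only [Fin.zero_eta, Fin.mk_one, Fin.reduceFinMk, Fin.isValue] <;> omega
    exact (Nat.pow_eq_one.1 h2).resolve_right two_ne_zero
  have hval : ∀ x : G, ¬ 2 ∣ orderOf x → ∀ i, (ι i : G → ℂ) x = φ x := fun x hx i => by
    rw [hF _ (hmem i) x hx, hd1, Nat.cast_one, one_mul]
  refine coded_of hM hmax hV hB4 had hι hrange (r := fun _ => 1) (fun _ => Or.inl rfl)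
    (fun x hx j => ?_) fun a ha horth => ?_
  · simp only [hval x hx, Int.cast_one, one_mul]
    rw [← Finset.sum_mul, ← Int.cast_sum]
    have : ∑ i, had j i = 0 := by revert j; decide
    rw [this, Int.cast_zero, zero_mul]
  · have h := horth 1 h1
    rw [hsum] at h
    simp only [hval 1 h1, ← Finset.sum_mul, ← Int.cast_sum] at h
    have hφ : φ 1 ≠ 0 := fun h0 => irr_one_ne_zero (ι 0) (by rw [hval 1 h1 0, h0])
    obtain ⟨j, t, ht⟩ := had_complete (fun i => a (ι i)) (fun i => ha _ (hmem i))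
      (by exact_mod_cast (mul_eq_zero.1 h).resolve_right hφ)
    exact ⟨j, t, fun i => by rw [one_mul]; exact ht i⟩

/-- Inertial index three. -/
theorem coded_three (hM : IsPModular 2 M) (hmax : IsMaximalBrauerPair 2 M B P c)
    (hV : IsKleinFour P) (hB4 : Nat.card B = 4) (hl : blockRank 2 B = 3) :
    Coded M B (fun (_ : Fin 1) (_ : Fin 4) => (1 : ℤ)) := by
  haveI : Fact (Nat.Prime 2) := ⟨Nat.prime_two⟩
  have hB : IsPBlock M B := hmax.1.2.1
  obtain ⟨ι, hι, hrange, hsum⟩ := exists_enum hB4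
  have hmem : ∀ i, ι i ∈ B := fun i => hrange ▸ Set.mem_range_self i
  let L : (Fin 4 → ℂ) →ₗ[ℂ] (G → ℂ) :=
    Fintype.linearCombination ℂ (fun i => pRegularPart 2 (ι i : G → ℂ))
  have hker : Module.finrank ℂ (LinearMap.ker L) = 1 := by
    have h := LinearMap.finrank_range_add_finrank_ker L
    have h2 : Module.finrank ℂ (LinearMap.range L) = 3 := by
      rw [← hl, blockRank, ← hrange, ← Set.range_comp, Fintype.range_linearCombination]
      rfl
    rw [h2, Module.finrank_fin_fun] at h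
    omega
  have hin : ∀ a : IrrCharacter G → ℤ,
      (∀ y : G, ¬ 2 ∣ orderOf y → ∑ χ ∈ members B, (a χ : ℂ) * (χ : G → ℂ) y = 0) →
      (fun i => (a (ι i) : ℂ)) ∈ LinearMap.ker L := by
    intro a ha
    rw [LinearMap.mem_ker]
    funext y
    simp only [L, Fintype.linearCombination_apply, Finset.sum_apply, Pi.smul_apply, smul_eq_mul,
      Pi.zero_apply, pRegularPart]
    by_cases hy : 2 ∣ orderOf y
    · simp [IsPRegular, hy]
    · simp only [IsPRegular, hy, not_false_iff, if_true]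
      exact (hsum fun χ => (a χ : ℂ) * (χ : G → ℂ) y).symm.trans (ha y hy)
  obtain ⟨u, hu, hu1, hsub⟩ : ∃ u : G, (∃ k, orderOf u = 2 ^ k) ∧ u ≠ 1 ∧
      (subs M B u).Nonempty := by
    by_contra hne
    push Not at hne
    have h := card_eq hM hB
    rw [Finset.sum_eq_zero fun u hu => by
      rw [hne u (Finset.mem_filter.1 (Finset.mem_of_mem_erase hu)).2
        (Finset.ne_of_mem_erase hu)]; simp, hl, hB4, add_zero] at h
    have := Nat.card_pos (α := G)
    omega
  obtain ⟨b, hb⟩ := hsub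
  obtain ⟨-, a₀, ha₀, -, -, horth₀⟩ := sub_data hM hmax hV hB4 hu hu1 hb
  refine coded_of hM hmax hV hB4 _ hι hrange (r := fun i => a₀ (ι i))
    (fun i => ha₀ _ (hmem i)) (fun x hx j => ?_) fun a ha horth => ?_
  · simp only [Int.cast_one, one_mul]
    exact (hsum fun χ => (a₀ χ : ℂ) * (χ : G → ℂ) x).symm.trans (horth₀ x hx)
  · refine ⟨0, a₀ (ι 0) * a (ι 0), fun i => ?_⟩
    obtain ⟨v, hv0, hv⟩ := finrank_eq_one_iff'.1 hker
    obtain ⟨s, hs⟩ := hv ⟨_, hin a₀ horth₀⟩
    obtain ⟨t, ht⟩ := hv ⟨_, hin a horth⟩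
    have e1 : ∀ i, (a₀ (ι i) : ℂ) = s * (v : Fin 4 → ℂ) i := fun i =>
      (congrFun (congrArg Subtype.val hs) i).symm
    have e2 : ∀ i, (a (ι i) : ℂ) = t * (v : Fin 4 → ℂ) i := fun i =>
      (congrFun (congrArg Subtype.val ht) i).symm
    have key : a₀ (ι i) * a (ι 0) = a₀ (ι 0) * a (ι i) := by
      have : (a₀ (ι i) : ℂ) * a (ι 0) = a₀ (ι 0) * a (ι i) := by
        rw [e1 i, e1 0, e2 i, e2 0]; ring
      exact_mod_cast this
    rw [mul_one]
    rcases ha₀ _ (hmem i) with h1 | h1 <;> rcases ha₀ _ (hmem 0) with h2 | h2 <;>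
      simp only [h1, h2] at key ⊢ <;> omega

/-! ### Gluing -/

theorem sum_combination {m : ℕ} {h : Fin m → Fin 4 → ℤ}
    (horth : ∀ j j', ∑ i, h j i * h j' i = if j = j' then 4 else 0) (κ κ' : Fin m → ℂ) :
    ∑ i, (∑ j, κ j * (h j i : ℂ)) * (∑ j, κ' j * (h j i : ℂ)) = ∑ j, κ j * 4 * κ' j := by
  simp only [Finset.sum_mul_sum]
  rw [Finset.sum_comm]
  refine Finset.sum_congr rfl fun j _ => ?_
  rw [Finset.sum_comm]
  have : ∀ j', ∑ i, κ j * (h j i : ℂ) * (κ' j' * (h j' i : ℂ)) =
      κ j * κ' j' * ((∑ i, h j i * h j' i : ℤ) : ℂ) := fun j' => by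
    rw [Int.cast_sum, Finset.mul_sum]
    exact Finset.sum_congr rfl fun i _ => by push_cast; ring
  simp only [this, horth]
  rw [Finset.sum_eq_single j (fun j' _ hne => by rw [if_neg (Ne.symm hne)]; simp)
    (fun hh => absurd (Finset.mem_univ j) hh), if_pos rfl]
  push_cast
  ring

theorem perfect_of_coded {H : Type v} [Group H] [Fintype H] (hM : IsPModular 2 M)
    {C : Set (IrrCharacter H)} {m : ℕ} (h : Fin m → Fin 4 → ℤ)
    (horth : ∀ j j', ∑ i, h j i * h j' i = if j = j' then 4 else 0)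
    (hB : Coded M B h) (hC : Coded M C h) :
    ∃ (I : IrrCharacter H → IrrCharacter G) (ε : IrrCharacter H → ℤ),
      IsPerfectIsometry 2 M C B I ε := by
  haveI : Fact (Nat.Prime 2) := ⟨Nat.prime_two⟩
  obtain ⟨ιB, hιB, hBr, r, hr, hreg, hsing⟩ := hB
  obtain ⟨ιC, hιC, hCr, r', hr', hreg', hsing'⟩ := hC
  set inv := Function.invFun ιC
  have hinv : ∀ i, inv (ιC i) = i := Function.leftInverse_invFun hιC
  refine ⟨fun η => ιB (inv η), fun η => r (inv η) * r' (inv η), ?_, ?_, ?_⟩
  · subst hCr hBr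
    refine ⟨?_, ?_, ?_⟩
    · rintro _ ⟨i, rfl⟩; exact Set.mem_range_self _
    · rintro _ ⟨i, rfl⟩ _ ⟨j, rfl⟩ hij
      have := hιB hij
      rw [hinv, hinv] at this
      rw [this]
    · rintro _ ⟨i, rfl⟩
      exact ⟨ιC i, Set.mem_range_self i, congrArg ιB (hinv i)⟩
  · intro η _
    rcases hr (inv η) with a | a <;> rcases hr' (inv η) with b | b <;> simp [a, b]
  · intro x y
    set μ := signedBijectionKernel C (fun η => ιB (inv η))
      (fun η => r (inv η) * r' (inv η)) x y with hμ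
    have hμe : μ = ∑ i, ((r i : ℂ) * (ιB i : G → ℂ) x) * ((r' i : ℂ) * (ιC i : H → ℂ) y) := by
      rw [hμ, signedBijectionKernel, ← hCr, finsum_mem_range hιC, finsum_eq_sum_of_fintype]
      refine Finset.sum_congr rfl fun i _ => ?_
      simp only [hinv]
      push_cast
      ring
    have mix1 : ∀ (x : G) (y : H), ¬ 2 ∣ orderOf x → 2 ∣ orderOf y →
        ∑ i, ((r i : ℂ) * (ιB i : G → ℂ) x) * ((r' i : ℂ) * (ιC i : H → ℂ) y) = 0 := by
      intro x y hx hy
      obtain ⟨κ, -, hκ⟩ := hsing' y hy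
      simp only [hκ, Finset.mul_sum]
      rw [Finset.sum_comm, Finset.sum_eq_zero fun j _ => ?_]
      rw [← mul_zero (κ j), ← hreg x hx j, Finset.mul_sum]
      exact Finset.sum_congr rfl fun i _ => by ring
    have mix2 : ∀ (x : G) (y : H), 2 ∣ orderOf x → ¬ 2 ∣ orderOf y →
        ∑ i, ((r i : ℂ) * (ιB i : G → ℂ) x) * ((r' i : ℂ) * (ιC i : H → ℂ) y) = 0 := by
      intro x y hx hy
      obtain ⟨κ, -, hκ⟩ := hsing x hx
      simp only [hκ, Finset.sum_mul]
      rw [Finset.sum_comm, Finset.sum_eq_zero fun j _ => ?_]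
      rw [← mul_zero (κ j), ← hreg' y hy j, Finset.mul_sum]
      exact Finset.sum_congr rfl fun i _ => by ring
    have hrr : ∀ z : ℤ, MemLocalRing M (z : ℂ) := fun z => intCast_mem (localRing hM) z
    by_cases hx : 2 ∣ orderOf x <;> by_cases hy : 2 ∣ orderOf y
    · obtain ⟨κ, hκR, hκ⟩ := hsing x hx
      obtain ⟨κ', hκR', hκ'⟩ := hsing' y hy
      simp only [hκ, hκ', sum_combination horth] at hμe
      rw [hμe, Finset.sum_div, Finset.sum_div]
      refine ⟨(localRing hM).sum_mem fun j _ => ?_, (localRing hM).sum_mem fun j _ => ?_,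
        Or.inl ⟨fun h => absurd hx h, fun h => absurd hy h⟩⟩
      · rw [show κ j * 4 * κ' j / (Nat.card (Subgroup.centralizer ({x} : Set G)) : ℂ) =
          κ' j * (κ j * 4 / (Nat.card (Subgroup.centralizer ({x} : Set G)) : ℂ)) by ring]
        exact (localRing hM).mul_mem (hκR' j).1 (hκR j).2
      · rw [show κ j * 4 * κ' j / (Nat.card (Subgroup.centralizer ({y} : Set H)) : ℂ) =
          κ j * (κ' j * 4 / (Nat.card (Subgroup.centralizer ({y} : Set H)) : ℂ)) by ring]
        exact (localRing hM).mul_mem (hκR j).1 (hκR' j).2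
    · rw [hμe, mix2 x y hx hy]
      simp only [zero_div, (localRing hM).zero_mem, or_true, and_true]
      exact ⟨(localRing hM).zero_mem, (localRing hM).zero_mem⟩
    · rw [hμe, mix1 x y hx hy]
      simp only [zero_div, or_true, and_true]
      exact ⟨(localRing hM).zero_mem, (localRing hM).zero_mem⟩
    · refine ⟨?_, ?_, Or.inl ⟨fun _ => hy, fun _ => hx⟩⟩
      · have key : ∀ z : G, ∑ i, ((r i : ℂ) * (r' i : ℂ) * (ιC i : H → ℂ) y) * (ιB i : G → ℂ) z =
            ∑ i, ((r i : ℂ) * (ιB i : G → ℂ) z) * ((r' i : ℂ) * (ιC i : H → ℂ) y) := fun z =>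
          Finset.sum_congr rfl fun i _ => by ring
        rw [hμe, ← key x]
        exact div_centralizer_mem hM _ (fun i => (localRing hM).mul_mem
          ((localRing hM).mul_mem (hrr _) (hrr _)) (BlockSectionDegree81.irr_mem hM _ _)) ιB
          (fun z hz => by rw [key z]; exact mix2 z y hz hy) hx
      · have key : ∀ z : H, ∑ i, ((r i : ℂ) * (r' i : ℂ) * (ιB i : G → ℂ) x) * (ιC i : H → ℂ) z =
            ∑ i, ((r i : ℂ) * (ιB i : G → ℂ) x) * ((r' i : ℂ) * (ιC i : H → ℂ) z) := fun z =>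
          Finset.sum_congr rfl fun i _ => by ring
        rw [hμe, ← key y]
        exact div_centralizer_mem hM _ (fun i => (localRing hM).mul_mem
          ((localRing hM).mul_mem (hrr _) (hrr _)) (BlockSectionDegree81.irr_mem hM _ _)) ιC
          (fun z hz => by rw [key z]; exact mix1 x z hx hz) hy

end Cfsg.Agent.BlockKleinIso81
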