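import Mathlib

/-!
A lower bound for the form of an integral scaled projection of rank one modulo `p`, all of whose
columns occur repeatedly: the sum of principal minors of a projection counts bases.
-/

set_option autoImplicit false

namespace Cfsg.Agent.BlockLatticeBound31

open Matrix Finset

attribute [local instance] Classical.propDecidable

/-- A matrix of rank one modulo `p` has determinant divisible by `p ^ (n - 1)`. -/
theorem pow_dvd_det {n : Type*} [Fintype n] [DecidableEq n] (p : ℤ) (hp : p ≠ 0)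
    (A : Matrix n n ℤ) (a b : n → ℤ) (h : ∀ i j, p ∣ A i j - a i * b j) :
    p ^ (Fintype.card n - 1) ∣ A.det := by
  rcases Nat.eq_zero_or_pos (Fintype.card n) with hn | hn
  · rw [hn]; simp
  choose R hR using h
  set B : Matrix Unit n ℤ := Matrix.of fun _ j => b j with hB
  set C : Matrix n Unit ℤ := Matrix.of fun i _ => -a i with hC
  have hA : A.det = (fromBlocks 1 B C (p • Matrix.of R)).det := by
    rw [det_fromBlocks_one₁₁]
    congr 1
    ext i j
    simp only [Matrix.sub_apply, Matrix.smul_apply, Matrix.mul_apply, hB, hC, Matrix.of_apply,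
      smul_eq_mul, Fintype.univ_unit, Finset.sum_singleton]
    linear_combination hR i j
  have hfac : fromBlocks (p • (1 : Matrix Unit Unit ℤ)) 0 0 (1 : Matrix n n ℤ) *
      fromBlocks 1 B C (p • Matrix.of R) =
      fromBlocks (p • (1 : Matrix Unit Unit ℤ)) B C (Matrix.of R) *
        fromBlocks (1 : Matrix Unit Unit ℤ) 0 0 (p • (1 : Matrix n n ℤ)) := by
    rw [fromBlocks_multiply, fromBlocks_multiply]
    simp only [Matrix.smul_mul, Matrix.mul_smul, Matrix.one_mul, Matrix.mul_one, Matrix.zero_mul,
      Matrix.mul_zero, add_zero, zero_add, smul_zero]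
  have hdet := congrArg Matrix.det hfac
  rw [det_mul, det_mul, det_fromBlocks_zero₂₁, det_fromBlocks_zero₂₁, ← hA] at hdet
  simp only [det_smul, det_one, Fintype.card_unit, pow_one, mul_one, one_mul] at hdet
  refine ⟨(fromBlocks (p • (1 : Matrix Unit Unit ℤ)) B C (Matrix.of R)).det,
    mul_left_cancel₀ hp (hdet.trans ?_)⟩
  rw [← mul_assoc, ← pow_succ', Nat.sub_add_cancel hn]
  ring

variable {ι : Type*} [Fintype ι]

/-- The sum of the principal minors of size `r` of a projection of rank `r` is one. -/
theorem exists_rank_sum_minors [DecidableEq ι] (P : Matrix ι ι ℝ) (hP : P * P = P) :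
    ∃ r : ℕ, (r : ℝ) = P.trace ∧
      ∑ s ∈ univ.powersetCard r,
        (P.submatrix (Subtype.val : s → ι) (Subtype.val : s → ι)).det = 1 := by
  set L := P.mulVecLin with hL
  have hLL : ∀ x, L (L x) = L x := fun x => by
    simp only [hL, Matrix.mulVecLin_apply, Matrix.mulVec_mulVec, hP]
  set R := LinearMap.range L
  have hcoe : ∀ x, (L.rangeRestrict x : ι → ℝ) = L x := fun _ => rfl
  set r := Module.finrank ℝ R with hr
  set bR := Module.finBasis ℝ R
  set U : Matrix ι (Fin r) ℝ := Matrix.of fun i t => ((bR t : R) : ι → ℝ) i with hU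
  set V : Matrix (Fin r) ι ℝ :=
    Matrix.of fun t i => bR.repr (L.rangeRestrict (Pi.single i 1)) t with hV
  have hUV : U * V = P := by
    ext i j
    have h := congrArg (fun x : R => (x : ι → ℝ) i) (bR.sum_repr (L.rangeRestrict (Pi.single j 1)))
    simp only [Submodule.coe_sum, Submodule.coe_smul, Finset.sum_apply, Pi.smul_apply, smul_eq_mul,
      hcoe] at h
    rw [Matrix.mul_apply]
    simp only [hU, hV, Matrix.of_apply]
    rw [Finset.sum_congr rfl fun t _ => mul_comm _ _, h, show L (Pi.single j 1) = P *ᵥ Pi.single j 1 from rfl,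
      Matrix.mulVec_single_one]
    rfl
  have hVU : V * U = 1 := by
    ext t s
    have hfix : L.rangeRestrict (bR s : ι → ℝ) = bR s := by
      obtain ⟨x, hx⟩ := (bR s).2
      refine Subtype.ext ?_
      rw [hcoe, ← hx, hLL]
    have hexp : (bR s : ι → ℝ) = ∑ i, ((bR s : ι → ℝ) i) • (Pi.single i (1 : ℝ) : ι → ℝ) := by
      conv_lhs => rw [pi_eq_sum_univ' (bR s : ι → ℝ)]
    have h := congrArg (fun y => bR.repr y t) hfix
    conv_lhs at h => rw [hexp, map_sum, map_sum, Finsupp.finsetSum_apply]
    rw [Matrix.mul_apply, Matrix.one_apply]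
    simp only [hU, hV, Matrix.of_apply]
    simp only [map_smul, Finsupp.smul_apply, smul_eq_mul, Module.Basis.repr_self,
      Finsupp.single_apply] at h
    rw [Finset.sum_congr rfl fun i _ => mul_comm _ _, h]
    exact if_congr eq_comm rfl rfl
  refine ⟨r, ?_, ?_⟩
  · rw [← hUV, Matrix.trace_mul_comm, hVU, Matrix.trace_one, Fintype.card_fin]
  · rw [← coeff_det_one_add_X_smul_eq_sum_minors]
    have h1 : (Polynomial.X : Polynomial ℝ) • P.map Polynomial.C =
        ((Polynomial.X : Polynomial ℝ) • U.map Polynomial.C) * V.map Polynomial.C := by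
      rw [Matrix.smul_mul, ← Matrix.map_mul, hUV]
    have h2 : V.map Polynomial.C * ((Polynomial.X : Polynomial ℝ) • U.map Polynomial.C) =
        (Polynomial.X : Polynomial ℝ) • (1 : Matrix (Fin r) (Fin r) (Polynomial ℝ)) := by
      rw [Matrix.mul_smul, ← Matrix.map_mul, hVU, Matrix.map_one _ Polynomial.C_0 Polynomial.C_1]
    rw [h1, det_one_add_mul_comm, h2]
    have h3 : (1 : Matrix (Fin r) (Fin r) (Polynomial ℝ)) +
        (Polynomial.X : Polynomial ℝ) • (1 : Matrix (Fin r) (Fin r) (Polynomial ℝ)) =
        (1 + Polynomial.X : Polynomial ℝ) • (1 : Matrix (Fin r) (Fin r) (Polynomial ℝ)) := by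
      rw [add_smul, one_smul]
    rw [h3, det_smul, det_one, mul_one, Fintype.card_fin, Polynomial.coeff_one_add_X_pow,
      Nat.choose_self, Nat.cast_one]

/-- The form of an integral scaled projection of rank `l`, of rank one modulo `p`, with columns
repeated `p ^ (d - 1)` times and a column without zeros, is at least `l` off the kernel. -/
theorem le_form [DecidableEq ι] (C : ι → ι → ℤ) {p d l N : ℕ} (hp : 0 < p) (hd : 1 ≤ d)
    (hN : N = p ^ (d - 1)) (hsymm : ∀ i j, C i j = C j i)
    (hsq : ∀ i j, ∑ k, C i k * C k j = (p : ℤ) ^ d * C i j)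
    (htr : ∑ i, C i i = (p : ℤ) ^ d * l) (h : ι → ℤ) (c : ℤ)
    (hr1 : ∀ i j, (p : ℤ) ∣ C i j - c * h i * h j) (i₀ : ι) (hfull : ∀ i, C i i₀ ≠ 0)
    (hclass : ∀ i, N ≤ (univ.filter fun j => ∀ k, C k j = C k i).card) (z : ι → ℤ)
    (hz : ∃ i, ∑ k, C i k * z k ≠ 0) :
    (l : ℤ) ≤ ∑ i, z i * ∑ k, C i k * z k := by
  set q : ℝ := (p : ℝ) ^ d with hq
  have hq0 : q ≠ 0 := pow_ne_zero _ (by exact_mod_cast hp.ne')
  set v : ι → ℤ := fun i => ∑ k, C i k * z k with hv
  set Q : ℤ := ∑ i, z i * v i with hQ
  have hvv : ∑ i, v i * v i = (p : ℤ) ^ d * Q := by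
    calc ∑ i, v i * v i = ∑ k, z k * ∑ k', (∑ i, C k i * C i k') * z k' := by
          simp only [hv, Finset.sum_mul_sum, Finset.sum_mul, Finset.mul_sum]
          rw [Finset.sum_comm]
          refine Finset.sum_congr rfl fun k _ => ?_
          rw [Finset.sum_comm]
          exact Finset.sum_congr rfl fun k' _ => Finset.sum_congr rfl fun i _ => by
            rw [hsymm i k]; ring
      _ = _ := by
          simp only [hsq, hQ, hv, Finset.mul_sum]
          exact Finset.sum_congr rfl fun k _ => Finset.sum_congr rfl fun k' _ => by ring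
  have hQpos : 0 < Q := by
    obtain ⟨i, hi⟩ := hz
    have h1 : 0 < ∑ i, v i * v i :=
      Finset.sum_pos' (fun j _ => mul_self_nonneg _) ⟨i, mem_univ _, mul_self_pos.2 hi⟩
    rw [hvv] at h1
    exact pos_of_mul_pos_right h1 (pow_nonneg (Int.natCast_nonneg p) d)
  set P : Matrix ι ι ℝ := Matrix.of fun i j => (C i j : ℝ) / q with hP
  set u : ι → ℝ := fun i => (v i : ℝ) / q with hu
  set uu : ℝ := (Q : ℝ) / q with huu
  have huu0 : uu ≠ 0 := div_ne_zero (by exact_mod_cast hQpos.ne') hq0
  have huusum : ∑ i, u i * u i = uu := by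
    have h1 : ∑ i, (v i : ℝ) * (v i : ℝ) = q * (Q : ℝ) := by rw [hq]; exact_mod_cast hvv
    calc ∑ i, u i * u i = (∑ i, (v i : ℝ) * (v i : ℝ)) / (q * q) := by
          rw [Finset.sum_div]; exact Finset.sum_congr rfl fun i _ => by rw [hu]; ring
      _ = uu := by rw [h1, huu]; field_simp
  have hPP : ∀ i j, ∑ k, P i k * P k j = P i j := fun i j => by
    have h1 : ∑ k, (C i k : ℝ) * (C k j : ℝ) = q * (C i j : ℝ) := by rw [hq]; exact_mod_cast hsq i j
    calc ∑ k, P i k * P k j = (∑ k, (C i k : ℝ) * (C k j : ℝ)) / (q * q) := by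
          rw [Finset.sum_div]; exact Finset.sum_congr rfl fun k _ => by simp [hP]; ring
      _ = P i j := by rw [h1, hP, Matrix.of_apply]; field_simp
  have hPu : ∀ i, ∑ k, P i k * u k = u i := fun i => by
    have h0 : ∑ k, C i k * v k = (p : ℤ) ^ d * v i := by
      simp only [hv, Finset.mul_sum]
      rw [Finset.sum_comm]
      refine Finset.sum_congr rfl fun k' _ => ?_
      rw [Finset.sum_congr rfl fun k _ => (mul_assoc (C i k) (C k k') (z k')).symm, ← Finset.sum_mul,
        hsq, mul_assoc]
    have h1 : ∑ k, (C i k : ℝ) * (v k : ℝ) = q * (v i : ℝ) := by rw [hq]; exact_mod_cast h0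
    calc ∑ k, P i k * u k = (∑ k, (C i k : ℝ) * (v k : ℝ)) / (q * q) := by
          rw [Finset.sum_div]; exact Finset.sum_congr rfl fun k _ => by simp [hP, hu]; ring
      _ = u i := by rw [h1, hu]; field_simp
  have hPsymm : ∀ i j, P i j = P j i := fun i j => by simp only [hP, Matrix.of_apply, hsymm i j]
  set P' : Matrix ι ι ℝ := Matrix.of fun i j => P i j - u i * u j / uu with hP'
  have hP'symm : ∀ i j, P' i j = P' j i := fun i j => by
    simp only [hP', Matrix.of_apply, hPsymm i j, mul_comm (u i)]
  have hPP' : ∀ i j, ∑ k, P i k * P' k j = P' i j := fun i j => by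
    simp only [hP', Matrix.of_apply, mul_sub, Finset.sum_sub_distrib, hPP]
    congr 1
    rw [← hPu i, Finset.sum_mul, Finset.sum_div]
    exact Finset.sum_congr rfl fun k _ => by ring
  have huP' : ∀ j, ∑ k, u k * P' k j = 0 := fun j => by
    simp only [hP', Matrix.of_apply, mul_sub, Finset.sum_sub_distrib]
    rw [Finset.sum_congr rfl (g := fun k => P j k * u k) fun k _ => by rw [hPsymm j k]; ring, hPu,
      Finset.sum_congr rfl (g := fun k => u k * u k * (u j / uu)) fun k _ => by ring,
      ← Finset.sum_mul, huusum]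
    field_simp
    ring
  have hP'idem : ∀ i j, ∑ k, P' i k * P' k j = P' i j := fun i j => by
    have : ∀ k, P' i k * P' k j = P i k * P' k j - u i / uu * (u k * P' k j) := fun k => by
      simp only [hP', Matrix.of_apply]; ring
    simp only [this, Finset.sum_sub_distrib, ← Finset.mul_sum, huP', mul_zero, sub_zero, hPP']
  obtain ⟨r, hrtr, hminors⟩ := exists_rank_sum_minors P' (by
    ext i j; rw [Matrix.mul_apply]; exact hP'idem i j)
  have hl : l = r + 1 := by
    have h1 : P.trace = (l : ℝ) := by
      rw [Matrix.trace]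
      simp only [Matrix.diag, hP, Matrix.of_apply]
      rw [← Finset.sum_div, div_eq_iff hq0, hq, mul_comm]
      exact_mod_cast htr
    have h2 : P'.trace = (l : ℝ) - 1 := by
      rw [← h1, Matrix.trace, Matrix.trace]
      simp only [Matrix.diag, hP', Matrix.of_apply, Finset.sum_sub_distrib]
      congr 1
      rw [← Finset.sum_div, huusum, div_self huu0]
    have h3 : ((r + 1 : ℕ) : ℝ) = (l : ℝ) := by push_cast; linarith
    exact_mod_cast h3.symm
  -- the minors
  set D : (Fin r → ι) → ℝ := fun f => (P'.submatrix f f).det with hD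
  have hD0 : ∀ f, 0 ≤ D f := fun f => by
    have e : P'.submatrix f f =
        (Matrix.of fun k (a : Fin r) => P' k (f a))ᴴ * Matrix.of fun k (a : Fin r) => P' k (f a) := by
      ext a b
      simp only [Matrix.mul_apply, Matrix.conjTranspose_apply, Matrix.of_apply, star_trivial,
        Matrix.submatrix_apply]
      rw [← hP'idem]
      exact Finset.sum_congr rfl fun k _ => by rw [hP'symm (f a) k]
    show 0 ≤ (P'.submatrix f f).det
    rw [e]
    exact (Matrix.posSemidef_conjTranspose_mul_self _).det_nonneg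
  have hint : ∀ f, ∃ m : ℤ, (m : ℝ) = (N : ℝ) ^ r * Q * D f := by
    intro f
    set Mi : Matrix (Fin r ⊕ Unit) (Fin r ⊕ Unit) ℤ :=
      fromBlocks (Matrix.of fun a b => C (f a) (f b)) (Matrix.of fun a _ => v (f a))
        (Matrix.of fun _ b => v (f b)) (Matrix.of fun _ _ => Q) with hMi
    set H : ℤ := ∑ k, h k * z k with hH
    have hv1 : ∀ i, (p : ℤ) ∣ v i - c * h i * H := fun i => by
      have e : v i - c * h i * H = ∑ k, (C i k - c * h i * h k) * z k := by
        simp only [hv, hH, Finset.mul_sum, sub_mul, Finset.sum_sub_distrib]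
        exact congrArg _ (Finset.sum_congr rfl fun k _ => by ring)
      exact e ▸ Finset.dvd_sum fun k _ => (hr1 i k).mul_right _
    have hQ1 : (p : ℤ) ∣ Q - c * H * H := by
      have e : Q - c * H * H = ∑ i, z i * (v i - c * h i * H) := by
        simp only [hQ, mul_sub, Finset.sum_sub_distrib]
        congr 1
        conv_lhs => rw [mul_assoc, mul_comm H H]
        rw [show c * (H * H) = (∑ i, h i * z i) * (c * H) by rw [← hH]; ring, Finset.sum_mul]
        exact Finset.sum_congr rfl fun k _ => by ring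
      exact e ▸ Finset.dvd_sum fun i _ => (hv1 i).mul_left _
    obtain ⟨m, hm⟩ := pow_dvd_det (p : ℤ) (by exact_mod_cast hp.ne') Mi
      (Sum.elim (fun a => c * h (f a)) fun _ => c * H) (Sum.elim (fun a => h (f a)) fun _ => H)
      (by
        rintro (a | a) (b | b)
        · exact hr1 _ _
        · exact hv1 _
        · have := hv1 (f b)
          rwa [show c * h (f b) * H = c * H * h (f b) by ring] at this
        · exact hQ1)
    refine ⟨m, ?_⟩
    have hMr : Mi.map (Int.castRingHom ℝ) = q •
        fromBlocks (Matrix.of fun a b => P (f a) (f b)) (Matrix.of fun a (_ : Unit) => u (f a))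
          (Matrix.of fun (_ : Unit) b => u (f b)) (Matrix.of fun _ _ => uu) := by
      ext (a | a) (b | b) <;> simp [hMi, hP, hu, huu, mul_div_cancel₀ _ hq0]
    have hfac : fromBlocks (Matrix.of fun a b => P (f a) (f b)) (Matrix.of fun a (_ : Unit) => u (f a))
          (Matrix.of fun (_ : Unit) b => u (f b)) (Matrix.of fun _ _ => uu) =
        fromBlocks (1 : Matrix (Fin r) (Fin r) ℝ) (Matrix.of fun a (_ : Unit) => u (f a) / uu) 0
            (1 : Matrix Unit Unit ℝ) *
          fromBlocks (P'.submatrix f f) 0 (Matrix.of fun (_ : Unit) b => u (f b))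
            (Matrix.of fun _ _ => uu) := by
      ext (a | a) (b | b)
      · rw [fromBlocks_multiply]
        simp only [fromBlocks_apply₁₁, Matrix.one_mul, Matrix.add_apply, Matrix.mul_apply,
          Fintype.univ_unit, Finset.sum_singleton, Matrix.of_apply, Matrix.submatrix_apply, hP']
        ring
      · simp [fromBlocks_multiply, Matrix.mul_apply]; field_simp
      · simp [fromBlocks_multiply]
      · simp [fromBlocks_multiply]
    have hdet : ((Mi.det : ℤ) : ℝ) = q ^ (r + 1) * (uu * D f) := by
      rw [show ((Mi.det : ℤ) : ℝ) = (Mi.map (Int.castRingHom ℝ)).det from RingHom.map_det (Int.castRingHom ℝ) Mi,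
        hMr, det_smul, hfac, det_mul, det_fromBlocks_zero₂₁, det_fromBlocks_zero₁₂, det_one,
        det_one, det_unique (Matrix.of fun (_ : Unit) (_ : Unit) => uu)]
      simp only [Fintype.card_sum, Fintype.card_fin, Fintype.card_unit, hD, Matrix.of_apply]
      ring
    rw [hm] at hdet
    simp only [Fintype.card_sum, Fintype.card_fin, Fintype.card_unit, Nat.add_sub_cancel] at hdet
    push_cast at hdet
    have hpq : (p : ℝ) ^ r * ((N : ℝ) ^ r) = q ^ r := by
      rw [← mul_pow, hN, hq, Nat.cast_pow, ← pow_succ', Nat.sub_add_cancel hd]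
    refine mul_left_cancel₀ (pow_ne_zero r (by exact_mod_cast hp.ne' : (p : ℝ) ≠ 0)) ?_
    rw [hdet, huu, show (p : ℝ) ^ r * ((N : ℝ) ^ r * (Q : ℝ) * D f) =
      (p : ℝ) ^ r * (N : ℝ) ^ r * (Q : ℝ) * D f by ring, hpq]
    field_simp
    ring
  choose m hm using hint
  have hm0 : ∀ f, 0 ≤ m f := fun f => by
    have : (0 : ℝ) ≤ (m f : ℝ) := by
      rw [hm]; exact mul_nonneg (mul_nonneg (by positivity) (by exact_mod_cast hQpos.le)) (hD0 f)
    exact_mod_cast this
  have hm1 : ∀ f, D f ≠ 0 → 1 ≤ m f := fun f hf => by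
    have h1 : m f ≠ 0 := fun e => by
      have := hm f
      rw [e, Int.cast_zero] at this
      exact mul_ne_zero (mul_ne_zero (pow_ne_zero _ (by rw [hN]; positivity))
        (by exact_mod_cast hQpos.ne')) hf this.symm
    have := hm0 f
    omega
  -- reindexing
  set S := (univ : Finset ι).powersetCard r with hS
  have hDs : ∀ s ∈ S, ∀ f : Fin r → ι, Function.Injective f → univ.image f = s →
      (P'.submatrix (Subtype.val : s → ι) (Subtype.val : s → ι)).det = D f := by
    intro s _ f hf hfs
    subst hfs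
    let e : Fin r ≃ ↥(univ.image f) := Equiv.ofBijective
      (fun a => ⟨f a, mem_image_of_mem f (mem_univ a)⟩)
      ⟨fun a b hab => hf (congrArg Subtype.val hab), fun ⟨x, hx⟩ => by
        obtain ⟨a, -, rfl⟩ := mem_image.1 hx; exact ⟨a, rfl⟩⟩
    rw [← det_submatrix_equiv_self e]
    rfl
  have hfun : ∀ s ∈ S, ∃ f : Fin r → ι, Function.Injective f ∧ univ.image f = s := by
    intro s hs
    let e := (s.equivFinOfCardEq (mem_powersetCard.1 hs).2).symm
    exact ⟨fun a => (e a : ι), fun a b hab => e.injective (Subtype.ext hab), by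
      ext x
      simp only [mem_image, mem_univ, true_and]
      exact ⟨fun ⟨a, ha⟩ => ha ▸ (e a).2, fun hx => ⟨e.symm ⟨x, hx⟩, by simp⟩⟩⟩
  obtain ⟨s₀, hs₀, hne₀⟩ := Finset.exists_ne_zero_of_sum_ne_zero (hminors.symm ▸ one_ne_zero :
    ∑ s ∈ S, (P'.submatrix (Subtype.val : s → ι) (Subtype.val : s → ι)).det ≠ 0)
  obtain ⟨f₀, hf₀, hf₀s⟩ := hfun s₀ hs₀
  rw [hDs s₀ hs₀ f₀ hf₀ hf₀s] at hne₀
  -- classes
  set R : ι → ι → Prop := fun i j => ∀ k, C k j = C k i with hR
  have hRP : ∀ {i j}, R i j → ∀ k, P' k j = P' k i := fun {i j} hij k => by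
    have hu' : u j = u i := by
      simp only [hu, hv]
      congr 2
      exact Finset.sum_congr rfl fun k _ => by rw [hsymm j k, hij k, hsymm k i]
    simp only [hP', hP, Matrix.of_apply, hu', hij k]
  have hRP2 : ∀ {f g : Fin r → ι}, (∀ a, R (f a) (g a)) → D g = D f := fun {f g} hfg => by
    refine congrArg Matrix.det (Matrix.ext fun a b => ?_)
    simp only [Matrix.submatrix_apply]
    rw [hRP (hfg b) (g a), hP'symm (g a) (f b), hRP (hfg a) (f b), hP'symm (f b)]
  have hdistinct : ∀ {f : Fin r → ι}, D f ≠ 0 → ∀ {a b}, R (f a) (f b) → a = b := by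
    intro f hf a b hab
    by_contra hne
    exact hf (det_zero_of_column_eq hne fun k => (hRP hab (f k)).symm)
  set A := P'.submatrix f₀ f₀ with hA
  have hAu : IsUnit A.det := isUnit_iff_ne_zero.2 hne₀
  set coord : Fin r → ι → ℝ := fun x y => ∑ t, A⁻¹ x t * P' (f₀ t) y with hcoord
  have hcoord0 : ∀ x x', coord x (f₀ x') = if x = x' then 1 else 0 := fun x x' => by
    have := congrFun (congrFun (Matrix.nonsing_inv_mul A hAu) x) x'
    rw [Matrix.mul_apply, Matrix.one_apply] at this
    exact this
  have hcoordP : ∀ x y, ∑ k, P y k * coord x k = coord x y := fun x y => by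
    simp only [hcoord, Finset.mul_sum]
    rw [Finset.sum_comm]
    refine Finset.sum_congr rfl fun t _ => ?_
    rw [Finset.sum_congr rfl (g := fun k => A⁻¹ x t * (P y k * P' k (f₀ t))) fun k _ => by
      rw [hP'symm (f₀ t) k]; ring, ← Finset.mul_sum, hPP', hP'symm]
  have hex : ∀ x, ∃ y, coord x y ≠ 0 ∧ ∀ x', ¬ R (f₀ x') y := by
    intro x
    by_contra hno
    push Not at hno
    set K := univ.filter fun j => R (f₀ x) j with hK
    have hval : ∀ {x' y}, R (f₀ x') y → coord x y = if x = x' then 1 else 0 := fun {x' y} hy => by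
      rw [← hcoord0]
      exact Finset.sum_congr rfl fun t _ => by rw [hRP hy]
    have hg : ∀ y, coord x y = if y ∈ K then 1 else 0 := by
      intro y
      by_cases hy : y ∈ K
      · rw [if_pos hy, hval (mem_filter.1 hy).2, if_pos rfl]
      · rw [if_neg hy]
        by_contra hne
        obtain ⟨x', hx'⟩ := hno y hne
        rw [hval hx'] at hne
        split_ifs at hne with he
        · subst he; exact hy (mem_filter.2 ⟨mem_univ _, hx'⟩)
        · exact hne rfl
    have hsum : ∀ y, (K.card : ℝ) * (C y (f₀ x) : ℝ) = if y ∈ K then q else 0 := fun y => by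
      have h1 := hcoordP x y
      simp only [hg, mul_ite, mul_one, mul_zero, Finset.sum_ite_mem, Finset.univ_inter] at h1
      rw [Finset.sum_congr rfl (g := fun _ => (C y (f₀ x) : ℝ) / q) fun k hk => by
        simp only [hP, Matrix.of_apply, (mem_filter.1 hk).2 y], Finset.sum_const, nsmul_eq_mul,
        mul_div_assoc', div_eq_iff hq0] at h1
      rw [h1]
      split_ifs <;> simp
    have hi₀ : i₀ ∈ K := by
      by_contra hn
      have h1 := hsum i₀
      rw [if_neg hn, mul_eq_zero] at h1
      rcases h1 with h1 | h1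
      · have : f₀ x ∈ K := mem_filter.2 ⟨mem_univ _, fun _ => rfl⟩
        exact (Finset.card_pos.2 ⟨_, this⟩).ne' (by exact_mod_cast h1)
      · exact hfull (f₀ x) (by rw [hsymm]; exact_mod_cast h1)
    have hall : ∀ y, y ∈ K := fun y => by
      by_contra hn
      have h1 := hsum y
      rw [if_neg hn, mul_eq_zero] at h1
      rcases h1 with h1 | h1
      · exact (Finset.card_pos.2 ⟨_, hi₀⟩).ne' (by exact_mod_cast h1)
      · refine hfull y ?_
        rw [(mem_filter.1 hi₀).2 y]
        exact_mod_cast h1
    have hcard : K.card = Fintype.card ι := by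
      rw [Finset.eq_univ_of_forall hall, Finset.card_univ]
    have hone : ((p : ℤ) ^ d * l : ℤ) = (p : ℤ) ^ d := by
      rw [← htr]
      have h1 : ∀ i, C i i = C (f₀ x) (f₀ x) := fun i => by
        rw [(mem_filter.1 (hall i)).2 i, hsymm, (mem_filter.1 (hall i)).2 (f₀ x)]
      simp only [h1, Finset.sum_const, Finset.card_univ, nsmul_eq_mul]
      have h2 := hsum (f₀ x)
      rw [if_pos (hall _), hcard, hq] at h2
      exact_mod_cast h2
    have hl1 : (l : ℤ) = 1 := by
      have hpd : (p : ℤ) ^ d ≠ 0 := pow_ne_zero _ (by exact_mod_cast hp.ne')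
      exact mul_left_cancel₀ hpd (by rw [hone, mul_one])
    have : 0 < r := Fin.pos x
    omega
  choose y hy1 hy2 using hex
  -- the exchanged systems
  set base : Option (Fin r) → Fin r → ι := fun o =>
    o.elim f₀ fun x => Function.update f₀ x (y x) with hbase
  have hbase0 : ∀ o, D (base o) ≠ 0 := by
    rintro (_ | x) hdet
    · exact hne₀ hdet
    · obtain ⟨w, hw, hw0⟩ := Matrix.exists_mulVec_eq_zero_iff.2 hdet
      set f := base (some x) with hf
      have hcomb : ∀ k, ∑ b, P' k (f b) * w b = 0 := by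
        have h1 : ∑ k, (∑ b, P' k (f b) * w b) * (∑ b, P' k (f b) * w b) = 0 := by
          simp only [Finset.sum_mul_sum]
          rw [Finset.sum_comm]
          refine Finset.sum_eq_zero fun a _ => ?_
          rw [Finset.sum_comm]
          have h2 := congrFun hw0 a
          simp only [Matrix.mulVec, dotProduct, Matrix.submatrix_apply, Pi.zero_apply] at h2
          calc ∑ b, ∑ k, P' k (f a) * w a * (P' k (f b) * w b)
              = w a * ∑ b, P' (f a) (f b) * w b := by
                rw [Finset.mul_sum]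
                refine Finset.sum_congr rfl fun b _ => ?_
                rw [← hP'idem (f a) (f b), Finset.sum_mul, Finset.mul_sum]
                exact Finset.sum_congr rfl fun k _ => by rw [hP'symm (f a) k]; ring
            _ = 0 := by rw [h2, mul_zero]
        exact fun k => mul_self_eq_zero.1 ((Finset.sum_eq_zero_iff_of_nonneg fun i _ =>
          mul_self_nonneg _).1 h1 k (mem_univ k))
      have hlin : ∀ x', ∑ b, coord x' (f b) * w b = 0 := fun x' => by
        simp only [hcoord, Finset.sum_mul, mul_assoc]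
        rw [Finset.sum_comm]
        exact Finset.sum_eq_zero fun t _ => by rw [← Finset.mul_sum, hcomb, mul_zero]
      have hfx : f x = y x := by simp [hf, hbase]
      have hfb : ∀ b, b ≠ x → f b = f₀ b := fun b hb => by simp [hf, hbase, hb]
      have hwx : w x = 0 := by
        have h2 := hlin x
        rw [Finset.sum_eq_single x (fun b _ hb => by
          rw [hfb b hb, hcoord0, if_neg (Ne.symm hb), zero_mul]) (by simp), hfx] at h2
        exact (mul_eq_zero.1 h2).resolve_left (hy1 x)
      refine hw (funext fun x' => ?_)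
      by_cases hx' : x' = x
      · rw [hx', hwx, Pi.zero_apply]
      · have h2 := hlin x'
        rw [Finset.sum_eq_single x' (fun b _ hb => by
          by_cases hbx : b = x
          · rw [hbx, hwx, mul_zero]
          · rw [hfb b hbx, hcoord0, if_neg (Ne.symm hb), zero_mul]) (by simp), hfb x' hx', hcoord0,
          if_pos rfl, one_mul] at h2
        exact h2
  -- lifts
  have hN0 : 0 < N := hN ▸ pow_pos hp _
  have hemb : ∀ i, ∃ e : Fin N → ι, Function.Injective e ∧ ∀ a, R i (e a) := fun i => by
    obtain ⟨t, ht, htc⟩ := Finset.exists_subset_card_eq (hclass i)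
    exact ⟨fun a => ((t.equivFinOfCardEq htc).symm a : ι),
      fun a b hab => (t.equivFinOfCardEq htc).symm.injective (Subtype.ext hab),
      fun a => (mem_filter.1 (ht ((t.equivFinOfCardEq htc).symm a).2)).2⟩
  choose e he1 he2 using hemb
  set lift : Option (Fin r) × (Fin r → Fin N) → Fin r → ι := fun w a => e (base w.1 a) (w.2 a)
    with hlift
  have hRsymm : ∀ {i j}, R i j → R j i := fun h k => (h k).symm
  have hRtrans : ∀ {i j k}, R i j → R j k → R i k := fun h h' t => (h' t).trans (h t)
  have hliftD : ∀ w, D (lift w) ≠ 0 := fun w => by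
    rw [hRP2 (f := base w.1) fun a => he2 _ _]; exact hbase0 _
  have hlinj : ∀ w, Function.Injective (lift w) := fun w a b hab =>
    hdistinct (hbase0 w.1) (hRtrans (he2 _ (w.2 a)) (by
      rw [show e (base w.1 a) (w.2 a) = e (base w.1 b) (w.2 b) from hab]
      exact hRsymm (he2 _ _)))
  have hclassOf : ∀ w w', univ.image (lift w) = univ.image (lift w') →
      ∀ a, ∃ b, lift w a = lift w' b := fun w w' heq a => by
    obtain ⟨b, -, hb⟩ := mem_image.1 (heq ▸ mem_image_of_mem (lift w) (mem_univ a))
    exact ⟨b, hb.symm⟩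
  have hnone : ∀ o, (∀ a, ∃ x', R (f₀ x') (base o a)) → o = none := by
    rintro (_ | x) h1
    · rfl
    · obtain ⟨x', hx'⟩ := h1 x
      exact absurd hx' (by simpa [hbase] using hy2 x x')
  have hinj : Set.InjOn (fun w => univ.image (lift w))
      ↑(univ : Finset (Option (Fin r) × (Fin r → Fin N))) := by
    intro w _ w' _ heq
    have hcls : ∀ a, ∃ b, R (base w.1 a) (base w'.1 b) := fun a => by
      obtain ⟨b, hb⟩ := hclassOf w w' heq a
      exact ⟨b, hRtrans (he2 _ (w.2 a)) (by
        rw [show e (base w.1 a) (w.2 a) = e (base w'.1 b) (w'.2 b) from hb]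
        exact hRsymm (he2 _ _))⟩
    have hcls' : ∀ a, ∃ b, R (base w'.1 a) (base w.1 b) := fun a => by
      obtain ⟨b, hb⟩ := hclassOf w' w heq.symm a
      exact ⟨b, hRtrans (he2 _ (w'.2 a)) (by
        rw [show e (base w'.1 a) (w'.2 a) = e (base w.1 b) (w.2 b) from hb]
        exact hRsymm (he2 _ _))⟩
    have ho : w.1 = w'.1 := by
      obtain ⟨o, g⟩ := w
      obtain ⟨o', g'⟩ := w'
      rcases o with _ | x
      · exact (hnone o' fun a => by
          obtain ⟨b, hb⟩ := hcls' a; exact ⟨b, hRsymm hb⟩).symm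
      · rcases o' with _ | x'
        · exact hnone _ fun a => by obtain ⟨b, hb⟩ := hcls a; exact ⟨b, hRsymm hb⟩
        · show some x = some x'
          by_contra hne
          have hxx : x ≠ x' := fun h => hne (congrArg some h)
          obtain ⟨b, hb⟩ := hcls' x
          have hb0 : R (base (some x') x) (base (some x) b) := hb
          rw [show base (some x') x = f₀ x by simp [hbase, hxx]] at hb0
          by_cases hbx : b = x
          · subst hbx; exact hy2 b b (by simpa [hbase] using hb0)
          · exact hbx (hdistinct hne₀ (by simpa [hbase, hbx] using hb0)).symm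
    have hg : ∀ a, w.2 a = w'.2 a := fun a => by
      obtain ⟨b, hb⟩ := hclassOf w w' heq a
      have hab : a = b := by
        refine hdistinct (hbase0 w.1) (hRtrans (he2 _ (w.2 a)) ?_)
        rw [show e (base w.1 a) (w.2 a) = e (base w'.1 b) (w'.2 b) from hb, ho]
        exact hRsymm (he2 _ _)
      subst hab
      exact he1 (base w.1 a) (hb.trans (by rw [hlift, ho]))
    exact Prod.ext ho (funext hg)
  -- the count
  choose fs hfs1 hfs2 using hfun
  have hsum : ((∑ s ∈ S.attach, m (fs s.1 s.2) : ℤ) : ℝ) = (N : ℝ) ^ r * Q := by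
    push_cast
    simp only [hm]
    rw [← Finset.mul_sum, Finset.sum_congr rfl fun s _ =>
      (hDs s.1 s.2 _ (hfs1 _ s.2) (hfs2 _ s.2)).symm,
      Finset.sum_attach S (fun s => (P'.submatrix (Subtype.val : s → ι) (Subtype.val : s → ι)).det),
      hminors, mul_one]
  have hsum' : ∑ s ∈ S.attach, m (fs s.1 s.2) = (N : ℤ) ^ r * Q := by exact_mod_cast hsum
  have hmem : ∀ w, univ.image (lift w) ∈ S := fun w =>
    mem_powersetCard.2 ⟨subset_univ _, by simp [card_image_of_injective _ (hlinj w)]⟩
  have hle : (((univ : Finset (Option (Fin r) × (Fin r → Fin N))).card : ℕ) : ℤ) ≤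
      ∑ s ∈ S.attach, m (fs s.1 s.2) := by
    rw [← Finset.card_image_of_injOn hinj, Finset.card_eq_sum_ones, Nat.cast_sum, Nat.cast_one,
      Finset.sum_attach_eq_sum_dite]
    refine le_trans (Finset.sum_le_sum fun s hs => ?_)
      (Finset.sum_le_sum_of_subset_of_nonneg (subset_univ _)
        fun s hs _ => by split_ifs <;> first | exact hm0 _ | exact le_rfl)
    obtain ⟨w, -, rfl⟩ := mem_image.1 hs
    rw [dif_pos (hmem w)]
    refine hm1 _ ?_
    rw [← hDs _ (hmem w) _ (hfs1 _ (hmem w)) (hfs2 _ (hmem w)),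
      hDs _ (hmem w) _ (hlinj w) rfl]
    exact hliftD w
  rw [hsum'] at hle
  simp only [card_univ, Fintype.card_prod, Fintype.card_option, Fintype.card_fin, Fintype.card_fun,
    Nat.cast_mul, Nat.cast_pow, mul_comm ((r + 1 : ℕ) : ℤ)] at hle
  rw [hl]
  exact le_of_mul_le_mul_left hle (pow_pos (by exact_mod_cast hN0) r)

end Cfsg.Agent.BlockLatticeBound31
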