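import Cfsg.Agent.Lib.BlockMajorMean31
import Cfsg.Agent.Lib.BlockAbelian81

/-!
The subsections on the centre of a defect group: fusion by the inertial group, and the resulting
bound on heights.
-/

set_option autoImplicit false

namespace Cfsg.Agent.BlockMajorCount31

open Cfsg Cfsg.Agent.BlockTheoryLocalRing Cfsg.Agent.BlockTheoryCentre
open Cfsg.Agent.BlockTheoryIdem Cfsg.Agent.BlockTheoryBrauer Cfsg.Agent.BlockTheoryDefect
open Cfsg.Agent.BrauerPairs81Base Cfsg.Agent.BrauerPairs81Pairs Cfsg.Agent.BrauerPairs81Conj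
open Cfsg.Agent.BrauerPairs81Max Cfsg.Agent.BrauerPairs81Local Cfsg.Agent.BrauerPairs81Fusion
open Cfsg.Agent.BrauerPairs81Stab Cfsg.Agent.BrauerPairs81Induced
open Cfsg.Agent.BlockContribBounds Cfsg.Agent.BlockCyclicRank81 Cfsg.Agent.BlockMajorMean31

attribute [local instance] Classical.propDecidable

set_option linter.unusedSectionVars false

variable {p : ℕ} [Fact p.Prime] {M : Ideal AlgInt} {G : Type*} [Group G] [Fintype G]
  {B : Set (IrrCharacter G)} {P : Subgroup G} {c : Set (IrrCharacter (Cen P))}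

/-- Pairs below a maximal pair, centralised by its group, are fused by the inertial group. -/
theorem fus_central (hM : IsPModular p M) (hmax : IsMaximalBrauerPair p M B P c)
    {a : BrauerPairIdx G} (ha : PLE p M a ⟨P, c⟩) {g : G}
    (hga : PLE p M (cP g a) ⟨P, c⟩) (hPC : P ≤ Cen a.1) (hPC' : P ≤ Cen (cjS g a.1)) :
    ∃ y ∈ stab (⟨P, c⟩ : BrauerPairIdx G), ∃ z ∈ Cen a.1, g = y * z := by
  obtain ⟨Q, f⟩ := a
  have hQf := isBrauerPairOf_down hM ha hmax.1
  have hN : Cen Q ≤ Subgroup.normalizer (Q : Set G) := Subgroup.centralizer_le_normalizer _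
  have hn : IsNormalSubpair p M Q f P c := isNormalSubpair_of_le hM hmax.1.1 ha (hPC.trans hN)
  have hle' : PLE p M ⟨Q, f⟩ (cP g⁻¹ ⟨P, c⟩) := by
    have h := ple_cP g⁻¹ hga
    rwa [cP_inv_cP] at h
  have hxP : cjS g⁻¹ P ≤ Cen Q := by
    intro w hw
    refine Subgroup.mem_centralizer_iff.mpr fun q hq => ?_
    have hw' : g * w * g⁻¹ ∈ P := by simpa using (mem_cjS.1 hw)
    have h := Subgroup.mem_centralizer_iff.mp (hPC' hw') (g * q * g⁻¹)
      (mem_cjS.2 (by simpa [mul_assoc] using hq))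
    calc q * w = g⁻¹ * (g * q * g⁻¹ * (g * w * g⁻¹)) * g := by group
      _ = g⁻¹ * (g * w * g⁻¹ * (g * q * g⁻¹)) * g := by rw [h]
      _ = w * q := by group
  have hn' : IsNormalSubpair p M Q f (cjS g⁻¹ P) (conjBlock P g⁻¹ c) :=
    isNormalSubpair_of_le hM (isBrauerPair_conj g⁻¹ hmax.1.1) hle' (hxP.trans hN)
  obtain ⟨D, hD⟩ := exists_defectGroup hM hQf.1.2
  obtain ⟨y, hy, hyD⟩ := exists_conj_defect_le hM hmax hQf le_rfl hN
    (fun t => (coeff_eb_coe _ f t).symm) hQf.1.2 hD
  have hcard : Nat.card D ≤ Nat.card P := by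
    rw [Nat.card_congr (D.equivMapOfInjective _ (Cen Q).subtype_injective).toEquiv,
      ← card_cjS y (D.map (Cen Q).subtype)]
    exact Subgroup.card_le_of_le hyD
  obtain ⟨z, hz, hzle⟩ := exists_conj_into hM le_rfl hN hQf.1.2
    (fun t => (coeff_eb_coe _ f t).symm) hD hPC hn hcard hxP hn'
  have heq : cP (z * g⁻¹) ⟨P, c⟩ = ⟨P, c⟩ := by
    rw [← cP_cP]
    exact ple_antisymm_top hM hmax.1.1 hzle
      (Subgroup.eq_of_le_of_card_ge (subgroup_le_of_subpairLE hzle :)
        (le_of_eq (by rw [show (cP z (cP g⁻¹ ⟨P, c⟩)).1 = cjS z (cjS g⁻¹ P) from rfl,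
          card_cjS, card_cjS])))
  exact ⟨(z * g⁻¹)⁻¹, inv_mem (mem_stab.mpr heq : z * g⁻¹ ∈ _), z, hz, by group⟩

/-- A block below a maximal pair centralised by its group is major. -/
theorem defect_central (hM : IsPModular p M) (hmax : IsMaximalBrauerPair p M B P c)
    {Q : Subgroup G} (hQP : Q ≤ P) (hPQ : P ≤ Cen Q)
    {f : Set (IrrCharacter (Cen Q))} (hle : SubpairLE p M Q f P c) :
    blockDefect p f = blockDefect p B := by
  obtain ⟨c₀, hc₀, -⟩ := exists_maximal_cen hM hmax hQP hPQ hle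
  have h1 := card_defectGroup hM hc₀.1.2.1 (isDefectGroup_of_maximal hM hc₀)
  have h2 := card_defectGroup hM hmax.1.2.1 (isDefectGroup_of_maximal hM hmax)
  rw [Nat.card_congr (Subgroup.subgroupOfEquivOfLe hPQ).toEquiv, h2] at h1
  exact ((Nat.pow_right_injective hM.1.two_le) h1).symm

/-- The centre of `P`, as a finite set of elements of `G`. -/
noncomputable def centreSet (P : Subgroup G) : Finset G :=
  Finset.univ.filter fun x => x ∈ P ∧ ∀ y ∈ P, y * x = x * y

theorem mem_centreSet {x : G} : x ∈ centreSet P ↔ x ∈ P ∧ ∀ y ∈ P, y * x = x * y := by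
  simp [centreSet]

theorem card_centreSet (P : Subgroup G) : (centreSet P).card = Nat.card (Subgroup.center P) := by
  rw [Nat.card_eq_fintype_card, ← Finset.card_univ]
  refine Finset.card_bij' (fun x hx => ⟨⟨x, (mem_centreSet.1 hx).1⟩,
      Subgroup.mem_center_iff.2 fun y => Subtype.ext ((mem_centreSet.1 hx).2 y y.2)⟩)
    (fun z _ => ((z : P) : G)) (fun _ _ => Finset.mem_univ _)
    (fun z _ => mem_centreSet.2 ⟨(z : P).2, fun y hy =>
      congrArg Subtype.val (Subgroup.mem_center_iff.1 z.2 ⟨y, hy⟩)⟩)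
    (fun _ _ => rfl) (fun _ _ => rfl)

/-- The blocks of major subsections at `x`. -/
noncomputable def majorSubs (p : ℕ) (M : Ideal AlgInt) (B : Set (IrrCharacter G)) (x : G) :
    Finset (Set (IrrCharacter (Cen (Subgroup.zpowers x)))) :=
  (subs M B x).filter fun b => blockDefect p b = blockDefect p B

/-- The `p`-elements. -/
noncomputable def pEls (p : ℕ) : Finset G := Finset.univ.filter fun x => ∃ k, orderOf x = p ^ k

theorem pow_exp_eq_one (hp : p.Prime) {x : G} (hx : x ∈ pEls (G := G) p) :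
    x ^ p ^ ((Nat.card G).factorization p + 1) = 1 := by
  obtain ⟨k, hk⟩ := (Finset.mem_filter.1 hx).2
  refine orderOf_dvd_iff_pow_eq_one.1 ?_
  rw [hk]
  refine pow_dvd_pow p (le_trans ?_ (Nat.le_succ _))
  exact (hp.pow_dvd_iff_le_factorization Nat.card_pos.ne').1 (hk ▸ orderOf_dvd_natCard x)

/-- The major subsections carry at most the group order. -/
theorem sum_major_le (hM : IsPModular p M) (hB : IsPBlock M B) {χ : IrrCharacter G} (hχ : χ ∈ B) :
    p ^ blockHeight p B (χ : G → ℂ) *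
        ∑ x ∈ pEls p, Nat.card (Cen (Subgroup.zpowers x)) * (majorSubs p M B x).card ≤
      p ^ blockDefect p B * Nat.card G := by
  have hp := hM.1
  set n := (Nat.card G).factorization p
  set J := expo p n
  have hJ0 : (0 : ℝ) < J.card := Nat.cast_pos.2 (Finset.card_pos.2 ⟨1, one_mem_expo hp n⟩)
  have hperm : ∀ j ∈ J, ∑ x ∈ pEls (G := G) p, total p (x ^ j) χ =
      ∑ x ∈ pEls (G := G) p, total p x χ := by
    intro j hj
    obtain ⟨q, hq⟩ := Nat.exists_mul_mod_eq_one_of_coprime (coprime_of_mem hp hj)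
      (Nat.one_lt_pow n.succ_ne_zero hp.one_lt)
    have hmem : ∀ x ∈ pEls (G := G) p, ∀ i : ℕ, x ^ i ∈ pEls (G := G) p := by
      intro x hx i
      refine Finset.mem_filter.2 ⟨Finset.mem_univ _, ?_⟩
      obtain ⟨k, -, hk⟩ := (Nat.dvd_prime_pow hp).1
        (orderOf_dvd_of_pow_eq_one (show (x ^ i) ^ p ^ (n + 1) = 1 by
          rw [← pow_mul, mul_comm, pow_mul, pow_exp_eq_one hp hx, one_pow]))
      exact ⟨k, hk⟩
    have hinv : ∀ x ∈ pEls (G := G) p, x ^ (j * q) = x := fun x hx => by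
      rw [pow_eq_pow_mod _ (pow_exp_eq_one hp hx), hq.2, pow_one]
    refine Finset.sum_bij' (fun x _ => x ^ j) (fun x _ => x ^ q) (fun x hx => hmem x hx j)
      (fun x hx => hmem x hx q) (fun x hx => by rw [← pow_mul]; exact hinv x hx)
      (fun x hx => by rw [← pow_mul, mul_comm]; exact hinv x hx) (fun _ _ => rfl)
  have hlow : ∀ x ∈ pEls (G := G) p,
      ((J.card : ℝ) * Nat.card (Cen (Subgroup.zpowers x)) * (p : ℝ) ^ blockHeight p B (χ : G → ℂ)) *
          (majorSubs p M B x).card ≤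
        (p : ℝ) ^ blockDefect p B * ∑ j ∈ J, total p (x ^ j) χ := by
    intro x hx
    have hxo := (Finset.mem_filter.1 hx).2
    have hH := centralizer_zpowers x
    calc _ ≤ ∑ b ∈ majorSubs p M B x,
          (p : ℝ) ^ blockDefect p B * ∑ j ∈ J, energy p (x ^ j) b χ := by
          rw [mul_comm _ ((majorSubs p M B x).card : ℝ), ← nsmul_eq_mul]
          refine Finset.card_nsmul_le_sum _ _ _ fun b hb => ?_
          obtain ⟨hb1, hb2⟩ := Finset.mem_filter.1 hb
          exact card_mul_le_sum_energy hM (pow_exp_eq_one hp hx) hxo hH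
            (Finset.mem_filter.1 hb1).2 hb2 hχ
      _ ≤ _ := by
          rw [← Finset.mul_sum, Finset.sum_comm]
          refine mul_le_mul_of_nonneg_left (Finset.sum_le_sum fun j hj => ?_) (by positivity)
          obtain ⟨k, hk⟩ := hxo
          have hcop : (orderOf x).Coprime j :=
            hk ▸ (hp.coprime_iff_not_dvd.2 (Finset.mem_filter.1 hj).2).pow_left _
          obtain ⟨q, hq⟩ := exists_pow_eq_self_of_coprime hcop.symm
          have hHj : ∀ g, g ∈ Cen (Subgroup.zpowers x) ↔ Commute (x ^ j) g := fun g => by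
            rw [hH]
            exact ⟨fun h => h.pow_left j, fun h => by rw [← hq]; exact h.pow_left q⟩
          have hind : ∀ b ∈ majorSubs p M B x,
              IsInducedBlock M (Cen (Subgroup.zpowers x)) b B := fun b hb =>
            (Finset.mem_filter.1 (Finset.mem_filter.1 hb).1).2
          exact sum_energy_le hM ⟨k, by rw [Nat.Coprime.orderOf_pow hcop, hk]⟩ hHj hB _ hind hχ
  have h := Finset.sum_le_sum hlow
  have hrhs : ∑ x ∈ pEls (G := G) p, (p : ℝ) ^ blockDefect p B * ∑ j ∈ J, total p (x ^ j) χ =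
      (p : ℝ) ^ blockDefect p B * ((J.card : ℝ) * Nat.card G) := by
    rw [← Finset.mul_sum, Finset.sum_comm, Finset.sum_congr rfl hperm, pEls, sum_total hM,
      Finset.sum_const, nsmul_eq_mul]
  rw [hrhs] at h
  have h' : (J.card : ℝ) * ((p : ℝ) ^ blockHeight p B (χ : G → ℂ) *
      ((∑ x ∈ pEls p, Nat.card (Cen (Subgroup.zpowers x)) * (majorSubs p M B x).card : ℕ) : ℝ)) ≤
      (J.card : ℝ) * ((p : ℝ) ^ blockDefect p B * Nat.card G) := by
    refine le_trans (le_of_eq ?_) (h.trans (le_of_eq (by ring)))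
    push_cast
    rw [pEls, Finset.mul_sum, Finset.mul_sum]
    exact Finset.sum_congr rfl fun x _ => by ring
  exact_mod_cast le_of_mul_le_mul_left h' hJ0

/-- The height bound. -/
theorem pow_height_mul_card_center_le (hM : IsPModular p M)
    (hmax : IsMaximalBrauerPair p M B P c) (K : Subgroup G)
    (hKP : K ≤ stab (⟨P, c⟩ : BrauerPairIdx G))
    (hKfix : ∀ k ∈ K, ∀ z ∈ centreSet P, k * z * k⁻¹ = z) {χ : IrrCharacter G} (hχ : χ ∈ B) :
    p ^ blockHeight p B (χ : G → ℂ) * Nat.card (Subgroup.center P) ≤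
      p ^ blockDefect p B * K.relIndex (stab (⟨P, c⟩ : BrauerPairIdx G)) := by
  have hp := hM.1
  have hB : IsPBlock M B := hmax.1.2.1
  have hPe : IsBrauerPair p M P c := hmax.1.1
  set S := stab (⟨P, c⟩ : BrauerPairIdx G)
  set e := K.relIndex S with he
  have hchoice : ∀ u : G, ∃ f, u ∈ P → SubpairLE p M (Subgroup.zpowers u) f P c := fun u => by
    by_cases hu : u ∈ P
    · obtain ⟨f, hf⟩ := exists_subpair hM hPe (Subgroup.zpowers_le.2 hu)
      exact ⟨f, fun _ => hf⟩
    · exact ⟨∅, fun h => absurd h hu⟩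
  choose f hf using hchoice
  set pr : G → BrauerPairIdx G := fun u => ⟨Subgroup.zpowers u, f u⟩
  set Φ : G × G → G × BrauerPairIdx G := fun w =>
    (w.2 * w.1 * w.2⁻¹, cP w.2 (pr w.1)) with hΦ
  set W := centreSet P ×ˢ (Finset.univ : Finset G)
  suffices hcount : (centreSet P).card * Nat.card G ≤
      e * ∑ x ∈ pEls p, Nat.card (Cen (Subgroup.zpowers x)) * (majorSubs p M B x).card by
    refine Nat.le_of_mul_le_mul_right ?_ (Nat.card_pos (α := G))
    rw [← card_centreSet]
    calc p ^ blockHeight p B (χ : G → ℂ) * (centreSet P).card * Nat.card G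
        ≤ p ^ blockHeight p B (χ : G → ℂ) *
          (e * ∑ x ∈ pEls p, Nat.card (Cen (Subgroup.zpowers x)) * (majorSubs p M B x).card) := by
          rw [mul_assoc]; exact Nat.mul_le_mul_left _ hcount
      _ = e * (p ^ blockHeight p B (χ : G → ℂ) *
          ∑ x ∈ pEls p, Nat.card (Cen (Subgroup.zpowers x)) * (majorSubs p M B x).card) := by ring
      _ ≤ e * (p ^ blockDefect p B * Nat.card G) := Nat.mul_le_mul_left _ (sum_major_le hM hB hχ)
      _ = _ := by ring
  have hcentral : ∀ u ∈ centreSet P, P ≤ Cen (Subgroup.zpowers u) := fun u hu y hy =>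
    (centralizer_zpowers u y).2 (((mem_centreSet.1 hu).2 y hy).symm)
  have hmaps : ∀ z ∈ W.image Φ, z.1 ∈ pEls p := by
    intro z hz
    obtain ⟨⟨u, g⟩, hw, rfl⟩ := Finset.mem_image.1 hz
    have hu := (mem_centreSet.1 (Finset.mem_product.1 hw).1).1
    obtain ⟨k, hk⟩ := IsPGroup.iff_orderOf.mp hPe.1 ⟨u, hu⟩
    refine Finset.mem_filter.2 ⟨Finset.mem_univ _, k, ?_⟩
    rw [← hk, ← Subgroup.orderOf_coe]
    exact MulEquiv.orderOf_eq (MulAut.conj g) u
  rw [Nat.card_eq_fintype_card (α := G), ← Finset.card_univ (α := G),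
    ← Finset.card_product, Finset.card_eq_sum_card_fiberwise
      (t := W.image Φ) (f := Φ) (fun w hw => Finset.mem_image_of_mem _ hw),
    ← Finset.sum_fiberwise_of_maps_to (g := Prod.fst) (t := pEls p) hmaps, Finset.mul_sum]
  refine Finset.sum_le_sum fun x _ => ?_
  set I := (W.image Φ).filter (fun z => z.1 = x)
  have hfib : ∀ z ∈ I, (W.filter (fun w => Φ w = z)).card ≤
      e * Nat.card (Cen (Subgroup.zpowers x)) := by
    intro z hz
    obtain ⟨hz1, rfl⟩ := Finset.mem_filter.1 hz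
    obtain ⟨⟨u₀, g₀⟩, hw₀, rfl⟩ := Finset.mem_image.1 hz1
    have hu₀ := (Finset.mem_product.1 hw₀).1
    set F := W.filter (fun w => Φ w = Φ (u₀, g₀))
    have hU : (F.image Prod.fst).card ≤ e := by
      have key : ∀ u ∈ F.image Prod.fst, ∃ q : S ⧸ K.subgroupOf S,
          u = ((q.out : S) : G)⁻¹ * u₀ * (q.out : S) := by
        intro u hu
        obtain ⟨⟨v, g⟩, hw, rfl⟩ := Finset.mem_image.1 hu
        obtain ⟨hwW, hwΦ⟩ := Finset.mem_filter.1 hw
        have hv := (Finset.mem_product.1 hwW).1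
        simp only [hΦ, Prod.mk.injEq] at hwΦ
        obtain ⟨h1, h2⟩ := hwΦ
        have h3 : cP (g₀⁻¹ * g) (pr v) = pr u₀ := by rw [← cP_cP, h2, cP_inv_cP]
        have h4 : g₀⁻¹ * g * v * (g₀⁻¹ * g)⁻¹ = u₀ := by
          rw [show g₀⁻¹ * g * v * (g₀⁻¹ * g)⁻¹ = g₀⁻¹ * (g * v * g⁻¹) * g₀ by group, h1]
          group
        have h5 : cjS (g₀⁻¹ * g) (Subgroup.zpowers v) = Subgroup.zpowers u₀ :=
          congrArg Sigma.fst h3
        obtain ⟨y, hy, w, hwC, hyw⟩ := fus_central hM hmax (a := pr v)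
          (hf v (mem_centreSet.1 hv).1) (g := g₀⁻¹ * g)
          (by rw [h3]; exact hf u₀ (mem_centreSet.1 hu₀).1) (hcentral v hv)
          (by rw [show cjS (g₀⁻¹ * g) (pr v).1 = Subgroup.zpowers u₀ from h5]
              exact hcentral u₀ hu₀)
        have hwv : w * v * w⁻¹ = v := by
          rw [((centralizer_zpowers v w).1 hwC).eq.symm]; group
        have hyv : y * v * y⁻¹ = u₀ := by
          rw [← h4, hyw, show y * w * v * (y * w)⁻¹ = y * (w * v * w⁻¹) * y⁻¹ by group, hwv]
        refine ⟨((⟨y, hy⟩ : S) : S ⧸ K.subgroupOf S), ?_⟩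
        obtain ⟨⟨k, hk⟩, hkq⟩ := QuotientGroup.mk_out_eq_mul (K.subgroupOf S) (⟨y, hy⟩ : S)
        rw [hkq]
        show v = (y * (k : G))⁻¹ * u₀ * (y * (k : G))
        have hkv : (k : G)⁻¹ * v * (k : G) = v := by
          simpa using hKfix _ (K.inv_mem (Subgroup.mem_subgroupOf.1 hk)) v hv
        rw [← hyv]
        conv_lhs => rw [← hkv]
        group
      calc (F.image Prod.fst).card ≤ ((Finset.univ : Finset (S ⧸ K.subgroupOf S)).image
            fun q => ((q.out : S) : G)⁻¹ * u₀ * (q.out : S)).card :=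
            Finset.card_le_card fun u hu => by
              obtain ⟨q, hq⟩ := key u hu
              exact Finset.mem_image.2 ⟨q, Finset.mem_univ _, hq.symm⟩
        _ ≤ _ := Finset.card_image_le
        _ = e := by rw [Finset.card_univ, ← Nat.card_eq_fintype_card]; rfl
    rw [Finset.card_eq_sum_card_image Prod.fst F]
    refine le_trans (Finset.sum_le_card_nsmul _ _ (Nat.card (Cen (Subgroup.zpowers
      (Φ (u₀, g₀)).1))) fun u hu => ?_) (by rw [smul_eq_mul]; exact Nat.mul_le_mul_right _ hU)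
    obtain ⟨⟨v, gr⟩, hr, rfl⟩ := Finset.mem_image.1 hu
    rw [Nat.card_eq_fintype_card, ← Finset.card_univ]
    refine Finset.card_le_card_of_injOn
      (fun w => if h : w.2 * gr⁻¹ ∈ Cen (Subgroup.zpowers (Φ (u₀, g₀)).1) then ⟨_, h⟩ else 1)
      (fun _ _ => Finset.mem_univ _) ?_
    have key : ∀ w ∈ F.filter (fun w => w.1 = v),
        w.2 * gr⁻¹ ∈ Cen (Subgroup.zpowers (Φ (u₀, g₀)).1) := by
      rintro ⟨v', g⟩ hw
      obtain ⟨hwF, rfl⟩ := Finset.mem_filter.1 hw
      have e1 : g * v' * g⁻¹ = (Φ (u₀, g₀)).1 :=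
        congrArg Prod.fst (Finset.mem_filter.1 hwF).2
      have e2 : gr * v' * gr⁻¹ = (Φ (u₀, g₀)).1 :=
        congrArg Prod.fst (Finset.mem_filter.1 hr).2
      refine (centralizer_zpowers _ _).2 ?_
      show (Φ (u₀, g₀)).1 * (g * gr⁻¹) = g * gr⁻¹ * (Φ (u₀, g₀)).1
      conv_lhs => rw [← e1]
      conv_rhs => rw [← e2]
      group
    intro w hw w' hw' h
    simp only [dif_pos (key w hw), dif_pos (key w' hw'), Subtype.mk.injEq] at h
    exact Prod.ext ((Finset.mem_filter.1 hw).2.trans (Finset.mem_filter.1 hw').2.symm)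
      (mul_right_cancel h)
  refine (Finset.sum_le_sum hfib).trans ?_
  rw [Finset.sum_const, smul_eq_mul, mul_comm, mul_assoc]
  refine Nat.mul_le_mul_left _ (Nat.mul_le_mul_left _ ?_)
  calc I.card ≤ ((majorSubs p M B x).image fun b => ((x, ⟨Subgroup.zpowers x, b⟩) :
        G × BrauerPairIdx G)).card := by
        refine Finset.card_le_card fun z hz => ?_
        obtain ⟨hz1, rfl⟩ := Finset.mem_filter.1 hz
        obtain ⟨⟨u, g⟩, hw, rfl⟩ := Finset.mem_image.1 hz1
        have huZ := (Finset.mem_product.1 hw).1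
        have hu := (mem_centreSet.1 huZ).1
        have hle : PLE p M (cP g (pr u)) (cP g ⟨P, c⟩) := ple_cP g (hf u hu)
        have hmax' : IsMaximalBrauerPair p M B (cjS g P) (conjBlock P g c) :=
          ⟨isBrauerPairOf_conj g hmax.1, fun R r hR hle' =>
            (Subgroup.eq_of_le_of_card_ge (subgroup_le_of_subpairLE hle')
              ((card_le_of_conjLe (conjLe_of_pairOf hM hmax hR)).trans_eq (card_cjS g P).symm)).symm⟩
        have hpair : IsBrauerPairOf p M B (cP g (pr u)).1 (cP g (pr u)).2 :=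
          isBrauerPairOf_down hM hle hmax'.1
        have hsub : (cP g (pr u)).1 = Subgroup.zpowers (Φ (u, g)).1 :=
          MonoidHom.map_zpowers _ _
        obtain ⟨b, hb⟩ := exists_pair_eq hsub
        rw [hb] at hpair hle
        have hQP : Subgroup.zpowers (Φ (u, g)).1 ≤ cjS g P :=
          hsub ▸ cjS_mono (Subgroup.zpowers_le.2 hu)
        have hPQ : cjS g P ≤ Cen (Subgroup.zpowers (Φ (u, g)).1) := by
          intro y hy
          refine (centralizer_zpowers _ _).2 ?_
          have h := (mem_centreSet.1 huZ).2 _ (mem_cjS.1 hy)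
          show g * u * g⁻¹ * y = y * (g * u * g⁻¹)
          calc g * u * g⁻¹ * y = g * (u * (g⁻¹ * y * g)) * g⁻¹ := by group
            _ = g * (g⁻¹ * y * g * u) * g⁻¹ := by rw [h]
            _ = y * (g * u * g⁻¹) := by group
        refine Finset.mem_image.2 ⟨b, Finset.mem_filter.2 ⟨mem_subs hM hpair,
          defect_central hM hmax' hQP hPQ hle⟩, Prod.ext rfl hb.symm⟩
    _ ≤ _ := Finset.card_image_le

end Cfsg.Agent.BlockMajorCount31
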