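import Cfsg.Agent.Lib.BlockMajorLattice82
import Cfsg.Agent.Lib.BlockMajor81
import Cfsg.Agent.Lib.BlockCyclicRank81

/-!
The Galois mean of the diagonal contribution of a major subsection is at least `p ^ (h - d)`, and the
contributions of all subsections add up to the square norm of the character.
-/

set_option autoImplicit false

namespace Cfsg.Agent.BlockMajorMean31

open Cfsg Cfsg.Agent.BlockTheoryLocalRing Cfsg.Agent.BlockTheoryCentre
open Cfsg.Agent.BlockTheoryIdem Cfsg.Agent.BlockTheoryBrauer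
open Cfsg.Agent.BlockContrib Cfsg.Agent.BlockContribBounds Cfsg.Agent.ClassAlgebraVal
open Cfsg.Agent.BlockContribPrime Cfsg.Agent.BlockContribSection Cfsg.Agent.BlockMajorLattice82
open Cfsg.Agent.BrauerPairs81Base Cfsg.Agent.BlockCyclicRank81
open scoped ComplexConjugate

attribute [local instance] Classical.propDecidable

set_option linter.unusedSectionVars false

/-! ### Means over the primitive roots of `p`-power order -/

section Galois

variable {p : ℕ} {M : Ideal AlgInt}

/-- The residues prime to `p` below `p ^ (n + 1)`. -/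
noncomputable def expo (p n : ℕ) : Finset ℕ :=
  (Finset.range (p ^ (n + 1))).filter fun j => ¬ p ∣ j

theorem one_mem_expo (hp : p.Prime) (n : ℕ) : 1 ∈ expo p n := by
  simp only [expo, Finset.mem_filter, Finset.mem_range]
  exact ⟨Nat.one_lt_pow n.succ_ne_zero hp.one_lt, hp.not_dvd_one⟩

theorem coprime_of_mem (hp : p.Prime) {n j : ℕ} (hj : j ∈ expo p n) :
    j.Coprime (p ^ (n + 1)) :=
  ((hp.coprime_iff_not_dvd.2 (Finset.mem_filter.1 hj).2).pow_left _).symm

theorem exists_int_geom {x : ℂ} {N : ℕ} (hx : x ^ N = 1) :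
    ∃ z : ℤ, ∑ i ∈ Finset.range N, x ^ i = z := by
  by_cases h : x = 1
  · exact ⟨N, by simp [h]⟩
  · refine ⟨0, ?_⟩
    have h0 := geom_sum_mul x N
    rw [hx, sub_self] at h0
    rw [(mul_eq_zero.1 h0).resolve_right (sub_ne_zero.2 h), Int.cast_zero]

theorem exists_int_sum_expo (hp : p.Prime) {n : ℕ} {ζ : ℂ}
    (hζ : IsPrimitiveRoot ζ (p ^ (n + 1))) (m : ℕ) :
    ∃ z : ℤ, ∑ j ∈ expo p n, (ζ ^ j) ^ m = z := by
  set N' := p ^ n with hN'
  have hNN : p ^ (n + 1) = p * N' := pow_succ' p n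
  have hx : (ζ ^ m) ^ (p ^ (n + 1)) = 1 := by
    rw [← pow_mul, mul_comm, pow_mul, hζ.pow_eq_one, one_pow]
  obtain ⟨a, ha⟩ := exists_int_geom hx
  obtain ⟨b, hb⟩ := exists_int_geom (x := (ζ ^ m) ^ p) (N := N') (by rwa [← pow_mul, ← hNN])
  refine ⟨a - b, ?_⟩
  have himg : (Finset.range (p ^ (n + 1))).filter (fun j => p ∣ j) =
      (Finset.range N').image (p * ·) := by
    ext j
    simp only [Finset.mem_filter, Finset.mem_range, Finset.mem_image]
    constructor
    · rintro ⟨hj, q, rfl⟩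
      exact ⟨q, Nat.lt_of_mul_lt_mul_left (hNN ▸ hj), rfl⟩
    · rintro ⟨q, hq, rfl⟩
      exact ⟨hNN ▸ Nat.mul_lt_mul_of_pos_left hq hp.pos, dvd_mul_right p q⟩
  rw [← Finset.sum_filter_add_sum_filter_not _ (fun j => p ∣ j), himg,
    Finset.sum_image (fun x _ y _ h => Nat.eq_of_mul_eq_mul_left hp.pos h)] at ha
  rw [Int.cast_sub, ← ha, ← hb, expo, Finset.sum_congr rfl fun j _ => pow_right_comm ζ j m]
  simp only [← pow_mul, mul_assoc]
  ring

theorem dvd_of_local (hM : IsPModular p M) : ∀ (k : ℕ) {w : ℤ} {t : ℂ}, MemLocalRing M t →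
    (w : ℂ) = (p : ℂ) ^ k * t → (p : ℤ) ^ k ∣ w
  | 0, w, _, _, _ => by simp
  | k + 1, w, t, ht, h => by
    have hpI : MemLocalIdeal M (p : ℂ) := natCast_p_mem hM
    obtain ⟨v, rfl⟩ := (intCast_mem_iff hM w).1 (by
      rw [h, pow_succ', mul_assoc]
      exact ideal_mul_right hM hpI ((localRing hM).mul_mem ((localRing hM).pow_mem
        (natCast_mem (localRing hM) p) k) ht))
    rw [pow_succ']
    refine mul_dvd_mul_left _ (dvd_of_local hM k ht ?_)
    refine mul_left_cancel₀ (Nat.cast_ne_zero.2 hM.1.ne_zero : (p : ℂ) ≠ 0) ?_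
    rw [Int.cast_mul, Int.cast_natCast, pow_succ'] at h
    rw [h]; ring

theorem isIntegral_aeval {x : ℂ} (hx : IsIntegral ℤ x) (Q : Polynomial ℤ) :
    IsIntegral ℤ (Polynomial.aeval x Q) := by
  rw [Polynomial.aeval_eq_sum_range]
  exact IsIntegral.sum _ fun i _ => (hx.pow i).smul _

/-- Positive Galois conjugates divisible by `p ^ h` have mean at least `p ^ h`. -/
theorem card_mul_le (hM : IsPModular p M) {n h : ℕ} {ζ : ℂ}
    (hζ : IsPrimitiveRoot ζ (p ^ (n + 1))) (Q : Polynomial ℤ) (r : ℕ → ℝ)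
    (hr : ∀ j ∈ expo p n, Polynomial.aeval (ζ ^ j) Q = (r j : ℂ))
    (hpos : ∀ j ∈ expo p n, 0 < r j)
    (hdiv : ∀ j ∈ expo p n, ∃ t : ℂ, MemLocalRing M t ∧ (r j : ℂ) = (p : ℂ) ^ h * t) :
    ((expo p n).card : ℝ) * (p : ℝ) ^ h ≤ ∑ j ∈ expo p n, r j := by
  have hp := hM.1
  set J := expo p n with hJ
  set N := p ^ (n + 1) with hN
  have hN0 : 0 < N := pow_pos hp.pos _
  have hJ0 : 0 < J.card := Finset.card_pos.2 ⟨1, one_mem_expo hp n⟩
  set P : ℝ := ∏ j ∈ J, r j with hP
  have hθ : ∀ j ∈ J, Polynomial.aeval (ζ ^ j) (∏ i ∈ J, Q.comp (Polynomial.X ^ i)) = (P : ℂ) := by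
    intro j hj
    have hinj : Set.InjOn (fun i => j * i % N) J := by
      intro a ha b hb hab
      have hab' : j * a ≡ j * b [MOD N] := hab
      have ha' := Finset.mem_range.1 (Finset.mem_filter.1 ha).1
      have hb' := Finset.mem_range.1 (Finset.mem_filter.1 hb).1
      exact (Nat.ModEq.cancel_left_of_coprime (coprime_of_mem hp hj).symm hab').eq_of_lt_of_lt ha' hb'
    have himg : J.image (fun i => j * i % N) = J := by
      refine Finset.eq_of_subset_of_card_le (fun x hx => ?_)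
        (by rw [Finset.card_image_of_injOn hinj])
      obtain ⟨i, hi, rfl⟩ := Finset.mem_image.1 hx
      rw [hJ, expo, Finset.mem_filter, Finset.mem_range]
      refine ⟨Nat.mod_lt _ hN0, fun hd => ?_⟩
      rw [Nat.dvd_mod_iff (dvd_pow_self p n.succ_ne_zero)] at hd
      rcases hp.dvd_mul.1 hd with h' | h'
      · exact (Finset.mem_filter.1 hj).2 h'
      · exact (Finset.mem_filter.1 hi).2 h'
    rw [map_prod, hP, Complex.ofReal_prod]
    conv_rhs => rw [← himg, Finset.prod_image hinj]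
    refine Finset.prod_congr rfl fun i hi => ?_
    rw [← hr _ (himg ▸ Finset.mem_image_of_mem _ hi), Polynomial.aeval_comp, map_pow,
      Polynomial.aeval_X, ← pow_mul]
    rw [← pow_eq_pow_mod _ hζ.pow_eq_one]
  set θ := ∏ i ∈ J, Q.comp (Polynomial.X ^ i) with hθdef
  choose z hz using fun m => exists_int_sum_expo hp hζ m
  have hsum : (J.card : ℂ) * (P : ℂ) =
      ((∑ m ∈ Finset.range (θ.natDegree + 1), θ.coeff m * z m : ℤ) : ℂ) := by
    rw [← nsmul_eq_mul, ← Finset.sum_const, ← Finset.sum_congr rfl hθ]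
    simp only [Polynomial.aeval_eq_sum_range, zsmul_eq_mul, Int.cast_sum, Int.cast_mul]
    rw [Finset.sum_comm]
    refine Finset.sum_congr rfl fun m _ => ?_
    rw [← hz m, Finset.mul_sum]
  have hint : IsIntegral ℤ (P : ℂ) := by
    rw [← hθ 1 (one_mem_expo hp n)]
    exact isIntegral_aeval ((hζ.isIntegral hN0).pow 1) _
  set zz : ℤ := ∑ m ∈ Finset.range (θ.natDegree + 1), θ.coeff m * z m
  have hPq : (P : ℂ) = algebraMap ℚ ℂ ((zz : ℚ) / J.card) := by
    rw [map_div₀, eq_div_iff (by simpa using hJ0.ne'), map_intCast, map_natCast, mul_comm]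
    exact hsum
  rw [hPq, isIntegral_algebraMap_iff (algebraMap ℚ ℂ).injective] at hint
  obtain ⟨w, hw⟩ := IsIntegrallyClosed.isIntegral_iff.1 hint
  rw [← hw] at hPq
  have hPw : P = (w : ℝ) := by
    apply Complex.ofReal_injective
    rw [hPq]; simp
  choose! t htR ht using hdiv
  have hdvd : (p : ℤ) ^ (h * J.card) ∣ w := by
    refine dvd_of_local hM _ (t := ∏ j ∈ J, t j) ((localRing hM).prod_mem fun j hj => htR j hj) ?_
    rw [show (w : ℂ) = (P : ℂ) by rw [hPw]; simp, hP, Complex.ofReal_prod,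
      Finset.prod_congr rfl ht, Finset.prod_mul_distrib, Finset.prod_const, ← pow_mul]
  have hP0 : 0 < P := Finset.prod_pos hpos
  have hPge : ((p : ℝ) ^ h) ^ J.card ≤ P := by
    rw [hPw] at hP0 ⊢
    rw [← pow_mul]
    exact_mod_cast Int.le_of_dvd (by exact_mod_cast hP0) hdvd
  have h2 := Real.geom_mean_le_arith_mean_weighted J (fun _ => 1 / (J.card : ℝ)) r
    (fun _ _ => by positivity)
    (by rw [Finset.sum_const, nsmul_eq_mul, mul_one_div, div_self]; exact_mod_cast hJ0.ne')
    (fun j hj => (hpos j hj).le)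
  rw [Real.finsetProd_rpow _ _ (fun j hj => (hpos j hj).le), ← Finset.mul_sum, one_div,
    inv_mul_eq_div, le_div_iff₀ (by exact_mod_cast hJ0)] at h2
  refine le_trans ?_ h2
  rw [mul_comm]
  refine mul_le_mul_of_nonneg_right ?_ (Nat.cast_nonneg _)
  rw [← hP, ← Real.pow_rpow_inv_natCast (pow_nonneg (Nat.cast_nonneg p) h) hJ0.ne']
  exact Real.rpow_le_rpow (by positivity) hPge (by positivity)

end Galois

/-! ### The energy of a subsection -/

section Energy

variable {p : ℕ} [Fact p.Prime] {M : Ideal AlgInt} {G : Type*} [Group G] [Fintype G]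
  {H : Subgroup G} {v : G}

/-- The square norm of the part of `χ` at `v` in `b` on the regular elements. -/
noncomputable def energy (p : ℕ) (v : G) (b : Set (IrrCharacter H)) (χ : IrrCharacter G) : ℝ :=
  ∑ s : H, if ¬ p ∣ orderOf s then Complex.normSq (part v b (χ : G → ℂ) s) else 0

/-- The square norm of `χ` on the section of `v`. -/
noncomputable def total (p : ℕ) (v : G) (χ : IrrCharacter G) : ℝ :=
  ∑ g ∈ Finset.univ.filter (fun g : G => ¬ p ∣ orderOf g ∧ Commute v g),
    Complex.normSq ((χ : G → ℂ) (v * g))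

theorem energy_cast (v : G) (b : Set (IrrCharacter H)) (χ : IrrCharacter G) :
    (energy p v b χ : ℂ) = pair p (part v b (χ : G → ℂ)) (part v b (χ : G → ℂ)) := by
  rw [energy, pair, regSum_eq, Complex.ofReal_sum]
  refine Finset.sum_congr rfl fun s _ => ?_
  by_cases hs : p ∣ orderOf s <;> simp [hs, Complex.normSq_eq_conj_mul_self]

theorem energy_nonneg (v : G) (b : Set (IrrCharacter H)) (χ : IrrCharacter G) :
    0 ≤ energy p v b χ :=
  Finset.sum_nonneg fun s _ => ite_nonneg (Complex.normSq_nonneg _) le_rfl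

theorem pair_part_ne (hM : IsPModular p M) (hH : ∀ g, g ∈ H ↔ Commute v g)
    {b b' : Set (IrrCharacter H)} (hb : IsPBlock M b) (hb' : IsPBlock M b') (hne : b ≠ b')
    (χ : IrrCharacter G) :
    pair p (part v b (χ : G → ℂ)) (part v b' (χ : G → ℂ)) = 0 := by
  simp only [pair, regSum_eq, S4716.part_eq hH, map_sum, Finset.sum_mul_sum]
  rw [← Finset.sum_filter, Finset.sum_comm]
  refine Finset.sum_eq_zero fun ξ hξ => ?_
  rw [Finset.sum_comm]
  refine Finset.sum_eq_zero fun η hη => ?_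
  have h0 := pair_eq_zero hM hb (mem_members.1 hξ) (ψ := η) fun h =>
    hne (block_eq_of_mem hM hb hb' h (mem_members.1 hη))
  rw [pair, regSum_eq, ← Finset.sum_filter] at h0
  set z : H := ⟨v, (hH v).2 (Commute.refl v)⟩
  calc _ = conj ((S4716.mult χ ξ : ℂ) * S4716.lam z ξ) * ((S4716.mult χ η : ℂ) * S4716.lam z η) *
        ∑ s ∈ Finset.univ.filter (fun s : H => ¬ p ∣ orderOf s),
          conj ((ξ : H → ℂ) s) * (η : H → ℂ) s := by
        rw [Finset.mul_sum]
        exact Finset.sum_congr rfl fun s _ => by simp only [map_mul]; ring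
    _ = 0 := by rw [h0, mul_zero]

theorem sum_energy_le (hM : IsPModular p M) (hv : ∃ k, orderOf v = p ^ k)
    (hH : ∀ g, g ∈ H ↔ Commute v g) {B : Set (IrrCharacter G)} (hB : IsPBlock M B)
    (S : Finset (Set (IrrCharacter H))) (hS : ∀ b ∈ S, IsInducedBlock M H b B)
    {χ : IrrCharacter G} (hχ : χ ∈ B) :
    ∑ b ∈ S, energy p v b χ ≤ total p v χ := by
  set T := ((Finset.univ : Finset (IrrCharacter H)).image
    (fun ψ : IrrCharacter H => blockOf M (ψ : H → ℂ))).filter (fun b => IsInducedBlock M H b B)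
    with hT
  have hsub : S ⊆ T := fun b hb => by
    obtain ⟨ψ, hψ⟩ := block_nonempty hM (hS b hb).1
    exact Finset.mem_filter.2 ⟨Finset.mem_image.2
      ⟨ψ, Finset.mem_univ _, (eq_blockOf_of_mem hM (hS b hb).1 hψ).symm⟩, hS b hb⟩
  refine (Finset.sum_le_sum_of_subset_of_nonneg hsub fun b _ _ => energy_nonneg v b χ).trans
    (le_of_eq ?_)
  apply Complex.ofReal_injective
  rw [Complex.ofReal_sum]
  calc ∑ b ∈ T, (energy p v b χ : ℂ)
      = ∑ b ∈ T, ∑ b' ∈ T, pair p (part v b (χ : G → ℂ)) (part v b' (χ : G → ℂ)) := by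
        refine Finset.sum_congr rfl fun b hb => ?_
        rw [energy_cast, Finset.sum_eq_single b (fun b' hb' hne => pair_part_ne hM hH
          (Finset.mem_filter.1 hb).2.1 (Finset.mem_filter.1 hb').2.1 (Ne.symm hne) χ)
          (fun h => absurd hb h)]
    _ = ∑ s : H, if ¬ p ∣ orderOf s then
          (Complex.normSq ((χ : G → ℂ) (v * s)) : ℂ) else 0 := by
        simp only [pair, regSum_eq]
        rw [Finset.sum_congr rfl fun b _ => Finset.sum_comm, Finset.sum_comm]
        refine Finset.sum_congr rfl fun s _ => ?_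
        by_cases hs : p ∣ orderOf s
        · simp [hs]
        · simp only [if_pos hs, ← Finset.sum_mul_sum, ← map_sum]
          rw [Complex.normSq_eq_conj_mul_self]
          have h := apply_eq_sum_part hH hM hv hB χ hs
          rw [if_pos hχ, ← hT] at h
          rw [h]
    _ = (total p v χ : ℂ) := by
        rw [total, Complex.ofReal_sum, ← Finset.sum_filter]
        refine Finset.sum_bij (fun s _ => (s : G)) (fun s hs => ?_) (fun s _ t _ h => Subtype.ext h)
          (fun g hg => ?_) (fun s _ => rfl)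
        · exact Finset.mem_filter.2 ⟨Finset.mem_univ _, by
            rw [Subgroup.orderOf_coe]; exact (Finset.mem_filter.1 hs).2, (hH _).1 s.2⟩
        · obtain ⟨-, h1, h2⟩ := Finset.mem_filter.1 hg
          exact ⟨⟨g, (hH g).2 h2⟩, Finset.mem_filter.2 ⟨Finset.mem_univ _, by
            rw [Subgroup.orderOf_mk]; exact h1⟩, rfl⟩

/-- The sections exhaust the square norm of a character. -/
theorem sum_total (hM : IsPModular p M) (χ : IrrCharacter G) :
    ∑ x ∈ Finset.univ.filter (fun x : G => ∃ k, orderOf x = p ^ k), total p x χ =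
      (Nat.card G : ℝ) := by
  apply Complex.ofReal_injective
  have h := CharBasicOrth.card_mul_classInner (χ : G → ℂ) χ
  rw [CharBasicOrth.classInner_irr_self χ.2, mul_one,
    sum_eq_sum_sections hM] at h
  rw [Complex.ofReal_sum, Complex.ofReal_natCast, h]
  refine Finset.sum_congr rfl fun x _ => ?_
  rw [total, Complex.ofReal_sum]
  symm
  refine Finset.sum_bij (fun s _ => (s : G)) (fun s hs => ?_) (fun s _ t _ h => Subtype.ext h)
    (fun g hg => ?_) (fun s _ => ?_)
  · exact Finset.mem_filter.2 ⟨Finset.mem_univ _, by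
      rw [Subgroup.orderOf_coe]; exact (Finset.mem_filter.1 hs).2,
      (centralizer_zpowers x _).1 s.2⟩
  · obtain ⟨-, h1, h2⟩ := Finset.mem_filter.1 hg
    exact ⟨⟨g, (centralizer_zpowers x g).2 h2⟩, Finset.mem_filter.2 ⟨Finset.mem_univ _, by
      rw [Subgroup.orderOf_mk]; exact h1⟩, rfl⟩
  · exact Complex.mul_conj _

/-- The Galois mean of the energy of a major subsection. -/
theorem card_mul_le_sum_energy (hM : IsPModular p M) {n : ℕ} (hvn : v ^ p ^ (n + 1) = 1)
    (hv : ∃ k, orderOf v = p ^ k) (hH : ∀ g, g ∈ H ↔ Commute v g) {b : Set (IrrCharacter H)}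
    {B : Set (IrrCharacter G)} (hind : IsInducedBlock M H b B)
    (hd : blockDefect p b = blockDefect p B) {χ : IrrCharacter G} (hχ : χ ∈ B) :
    ((expo p n).card : ℝ) * Nat.card H * (p : ℝ) ^ blockHeight p B (χ : G → ℂ) ≤
      (p : ℝ) ^ blockDefect p B * ∑ j ∈ expo p n, energy p (v ^ j) b χ := by
  have hp := hM.1
  set N := p ^ (n + 1) with hN
  have hN0 : 0 < N := pow_pos hp.pos _
  obtain ⟨ζ, hζ⟩ : ∃ ζ : ℂ, IsPrimitiveRoot ζ N := ⟨_, Complex.isPrimitiveRoot_exp N hN0.ne'⟩
  have : NeZero N := ⟨hN0.ne'⟩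
  set z : H := ⟨v, (hH v).2 (Commute.refl v)⟩ with hz
  have hzc : z ∈ Subgroup.center H := BlockMajor81.uH_center hH
  have hzN : z ^ N = 1 := Subtype.ext (by simpa [hz] using hvn)
  have hlam : ∀ ξ : IrrCharacter H, ∃ a < N, ζ ^ a = S4716.lam z ξ := fun ξ =>
    hζ.eq_pow_of_pow_eq_one (by
      rw [← S4716.lam_pow hzc, hzN, S4716.lam, div_self (irr_one_ne_zero ξ)])
  choose a haN ha using hlam
  let Q : Polynomial ℤ := ∑ ξ ∈ members b, ∑ η ∈ members b,
    Polynomial.C ((S4716.mult χ ξ : ℤ) * (S4716.mult χ η : ℤ) * contrib p b ξ η) *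
      Polynomial.X ^ ((N - a ξ) + a η)
  have hconj : ∀ j : ℕ, ∀ ξ, conj ((ζ ^ a ξ) ^ j) = (ζ ^ (N - a ξ)) ^ j := fun j ξ => by
    rw [map_pow]
    congr 1
    rw [← Complex.inv_eq_conj (by
      rw [norm_pow, Complex.norm_eq_one_of_pow_eq_one hζ.pow_eq_one hN0.ne', one_pow])]
    refine inv_eq_of_mul_eq_one_right ?_
    rw [← pow_add, Nat.add_sub_cancel' (haN ξ).le, hζ.pow_eq_one]
  have hcard0 : (0 : ℝ) < Nat.card H := Nat.cast_pos.2 Nat.card_pos
  set r : ℕ → ℝ := fun j => (p : ℝ) ^ blockDefect p B * energy p (v ^ j) b χ / Nat.card H with hr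
  have hj : ∀ j ∈ expo p n, (∀ g, g ∈ H ↔ Commute (v ^ j) g) ∧ (∃ i, orderOf (v ^ j) = p ^ i) := by
    intro j hj
    obtain ⟨k, hk⟩ := hv
    have hcop : (orderOf v).Coprime j :=
      hk ▸ (hp.coprime_iff_not_dvd.2 (Finset.mem_filter.1 hj).2).pow_left _
    obtain ⟨q, hq⟩ := exists_pow_eq_self_of_coprime hcop.symm
    exact ⟨fun g => by
      rw [hH]
      exact ⟨fun h => h.pow_left j, fun h => by rw [← hq]; exact h.pow_left q⟩,
      ⟨k, by rw [Nat.Coprime.orderOf_pow hcop, hk]⟩⟩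
  have hentry : ∀ j ∈ expo p n, (r j : ℂ) = S4716.entry p (z ^ j) b χ χ := by
    intro j hjm
    obtain ⟨hHj, -⟩ := hj j hjm
    have h := S4716.pair_part hp hHj b χ χ
    rw [← energy_cast] at h
    rw [show (⟨v ^ j, (hHj (v ^ j)).2 (Commute.refl _)⟩ : H) = z ^ j from
      Subtype.ext (by simp [hz])] at h
    have hHc : (Nat.card H : ℂ) =
        (p : ℂ) ^ blockDefect p B * ((cofactor p H : ℂ) * (p : ℂ) ^ minExp p b) := by
      conv_lhs => rw [← pow_mul_cofactor (G := H) p]
      rw [← minExp_add_defect hM hind.1, hd, pow_add]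
      push_cast
      ring
    simp only [hr]
    push_cast
    rw [h, hHc]
    have h1 := scale_ne_zero (G := H) hp b
    have h2 : (p : ℂ) ^ blockDefect p B ≠ 0 := pow_ne_zero _ (Nat.cast_ne_zero.2 hp.ne_zero)
    rw [mul_div_mul_left _ _ h2, mul_div_cancel_left₀ _ h1]
  have key := card_mul_le (h := blockHeight p B (χ : G → ℂ)) hM hζ Q r (fun j hjm => ?_)
    (fun j hjm => ?_) (fun j hjm => ?_)
  · simp only [hr, ← Finset.sum_div, ← Finset.mul_sum] at key
    rw [le_div_iff₀ hcard0] at key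
    linarith [key]
  · rw [hentry j hjm, S4716.entry]
    simp only [Q, map_sum, map_mul, Polynomial.aeval_C, map_pow, Polynomial.aeval_X]
    refine Finset.sum_congr rfl fun ξ _ => Finset.sum_congr rfl fun η _ => ?_
    rw [S4716.lam_pow hzc, S4716.lam_pow hzc, ← ha ξ, ← ha η, hconj, pow_add, ← pow_mul ζ (N - a ξ),
      ← pow_mul ζ (a η), mul_comm (N - a ξ), mul_comm (a η), pow_mul ζ j, pow_mul ζ j]
    simp
  · obtain ⟨hHj, hoj⟩ := hj j hjm
    refine div_pos (mul_pos (pow_pos (Nat.cast_pos.2 hp.pos) _) ?_) hcard0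
    refine lt_of_lt_of_le ?_ (Finset.single_le_sum (fun s _ => ?_) (Finset.mem_univ (1 : H)))
    · rw [if_pos (by rw [orderOf_one]; exact hp.not_dvd_one), Complex.normSq_pos]
      exact BlockMajor81.part_one_ne_zero hHj hM hoj hind hd hχ
    · exact ite_nonneg (Complex.normSq_nonneg _) le_rfl
  · obtain ⟨hHj, hoj⟩ := hj j hjm
    obtain ⟨φ₀, hφ₀, h0⟩ := exists_height_zero hM hind.1
    obtain ⟨κ, -, -, hv'⟩ := exists_sval_value hM hoj hHj hind hd hφ₀ h0 hχ
    rw [show (⟨v ^ j, (hHj (v ^ j)).2 (Commute.refl _)⟩ : H) = z ^ j from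
      Subtype.ext (by simp [hz])] at hv'
    have : ∀ ξ ∈ members b, ∃ t : ℂ, MemLocalRing M t ∧
        ∑ η ∈ members b, (S4716.mult χ η : ℂ) * S4716.lam (z ^ j) η * (contrib p b ξ η : ℂ) =
          (p : ℂ) ^ blockHeight p B (χ : G → ℂ) * t := by
      intro ξ hξ
      obtain ⟨t, htR, -, hts⟩ := hv' _ (col_mem (mem_members.1 hξ))
      refine ⟨t, htR, ?_⟩
      rw [← hts, sval]
      refine Eq.trans (Finset.sum_congr rfl fun η hη => ?_)
        (Finset.sum_subset (Finset.subset_univ _) fun η _ hη => ?_)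
      · simp [col, mem_members.1 hη]
      · simp [col, show η ∉ b from fun h => hη (mem_members.2 h)]
    choose! t htR hts using this
    refine ⟨∑ ξ ∈ members b, (S4716.mult χ ξ : ℂ) * conj (S4716.lam (z ^ j) ξ) * t ξ,
      (localRing hM).sum_mem fun ξ hξ => (localRing hM).mul_mem
        ((localRing hM).mul_mem (natCast_mem (localRing hM) _) ?_) (htR ξ hξ), ?_⟩
    · rw [S4716.lam_pow hzc, ← ha ξ, hconj, ← pow_mul]
      exact of_isIntegral hM ((hζ.isIntegral hN0).pow _)
    · rw [hentry j hjm, S4716.entry, Finset.mul_sum]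
      refine Finset.sum_congr rfl fun ξ hξ => ?_
      rw [mul_left_comm, ← hts ξ hξ, Finset.mul_sum]
      exact Finset.sum_congr rfl fun η _ => by ring

end Energy

end Cfsg.Agent.BlockMajorMean31
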