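import Cfsg.Agent.Lib.BlockMajorLattice82

/-!
Major subsections of rank at most two.
-/

set_option autoImplicit false

namespace Cfsg.Agent.BlockMajorTwo82

open Cfsg Cfsg.Agent.BlockTheoryIdem Cfsg.Agent.BlockContrib Cfsg.Agent.BlockContribBounds
open Cfsg.Agent.BlockTheoryLocalRing Cfsg.Agent.BlockMajorLattice82

attribute [local instance] Classical.propDecidable

set_option linter.unusedSectionVars false

variable {p : ℕ} [Fact p.Prime] {M : Ideal AlgInt}

section Lattice

variable {H : Type*} [Group H] [Fintype H] {b : Set (IrrCharacter H)}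

theorem exists_not_dvd_form (hM : IsPModular p M) (hb : IsPBlock M b) :
    ∃ φ ∈ b, col p b φ ∈ lat p b ∧ ¬ (p : ℤ) ∣ form p b (col p b φ) (col p b φ) := by
  obtain ⟨φ, hφ, h0⟩ := exists_height_zero hM hb
  refine ⟨φ, hφ, col_mem hφ, ?_⟩
  rw [form_col hM hb hφ (col_mem hφ), show col p b φ φ = contrib p b φ φ from if_pos hφ]
  simpa [h0] using contrib_not_dvd hM hb hφ h0 hφ

/-- A lattice with one generator contains a vector of norm one. -/
theorem form_eq_one_of_gen (hM : IsPModular p M) (hb : IsPBlock M b) {e : IrrCharacter H → ℤ}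
    (he : e ∈ lat p b) (hgen : ∀ v ∈ lat p b, ∃ n : ℤ, v = n • e) : form p b e e = 1 := by
  have hp := hM.1
  set g := form p b e e with hg
  obtain ⟨φ, hφ, hc, hnd⟩ := exists_not_dvd_form hM hb
  choose n hn using fun ψ : b => hgen (col p b ψ) (col_mem ψ.2)
  have hcoord : ∀ ψ : b, e ψ = n ψ * g := fun ψ => by
    rw [← form_col hM hb ψ.2 he, hn ψ, form_smul hM hb he he, hg]
  have hsupp : ∀ ψ ∉ b, e ψ = 0 := by
    suffices ∀ v ∈ lat p b, ∀ ψ ∉ b, v ψ = 0 from this e he
    intro v hv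
    induction hv using Submodule.span_induction with
    | mem x hx => obtain ⟨φ', -, rfl⟩ := hx; intro ψ hψ; exact if_neg hψ
    | zero => intro ψ _; rfl
    | add x y _ _ hx hy => intro ψ hψ; simp [hx ψ hψ, hy ψ hψ]
    | smul m x _ hx => intro ψ hψ; simp [hx ψ hψ]
  have hne : e ≠ 0 := fun h => by
    obtain ⟨m, hm⟩ := hgen _ hc
    rw [hm, h, smul_zero] at hnd
    exact hnd (by simp [form, dot])
  have hgpos : 0 < g := form_pos hM hb he hne
  have hdvd : g ∣ (p : ℤ) ^ blockDefect p b := by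
    have h1 : dot e e = g * g * ∑ ψ : b, n ψ * n ψ := by
      rw [dot, ← Finset.sum_subset (Finset.subset_univ (members b)) fun ψ _ hψ => by
        rw [hsupp ψ fun h => hψ (mem_members.2 h), mul_zero]]
      rw [Finset.mul_sum, ← Finset.sum_coe_sort]
      refine Fintype.sum_equiv
        (Equiv.subtypeEquivRight fun ψ => mem_members (B := b) (χ := ψ)) _ _ fun ψ => ?_
      simp only [Equiv.subtypeEquivRight_apply]
      rw [hcoord ⟨ψ.1, mem_members.1 ψ.2⟩]
      ring
    rw [form_spec hM hb he he, ← hg, mul_assoc, mul_comm ((p : ℤ) ^ blockDefect p b)] at h1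
    exact ⟨_, mul_left_cancel₀ hgpos.ne' h1⟩
  have hpg : ¬ (p : ℤ) ∣ g := by
    intro h
    refine hnd ?_
    obtain ⟨m, hm⟩ := hgen _ hc
    rw [hm, form_smul hM hb (Submodule.smul_mem _ m he) he, form_comm,
      form_smul hM hb he he, ← hg]
    exact (h.mul_left _).mul_left _
  obtain ⟨i, -, hi⟩ := (Nat.dvd_prime_pow hp).1
    (by simpa [Int.natAbs_pow] using Int.natAbs_dvd_natAbs.2 hdvd : g.natAbs ∣ p ^ blockDefect p b)
  rcases i with _ | i
  · rw [pow_zero] at hi; omega
  · exact absurd (Int.natCast_dvd.2 (hi ▸ dvd_pow_self p (Nat.succ_ne_zero i))) hpg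

/-- The lattice is generated by two vectors forming a reduced pair, or contains a vector of norm
one. -/
theorem exists_reduced (hM : IsPModular p M) (hb : IsPBlock M b) (hl : blockRank p b ≤ 2)
    (hone : ∀ v ∈ lat p b, form p b v v ≠ 1) :
    ∃ e f : IrrCharacter H → ℤ, e ∈ lat p b ∧ f ∈ lat p b ∧
      (∀ v ∈ lat p b, ∃ m n : ℤ, v = m • e + n • f) ∧
      2 ≤ form p b e e ∧ 2 ≤ form p b f f ∧ 0 ≤ form p b e f ∧
      2 * form p b e f ≤ form p b e e ∧ 2 * form p b e f ≤ form p b f f := by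
  let Gen : (IrrCharacter H → ℤ) → (IrrCharacter H → ℤ) → Prop := fun e f =>
    e ∈ lat p b ∧ f ∈ lat p b ∧ ∀ v ∈ lat p b, ∃ m n : ℤ, v = m • e + n • f
  have hex : ∃ k : ℕ, ∃ e f, Gen e f ∧ (form p b e e + form p b f f).toNat = k := by
    have hr := (finrank_le (b := b) hM).trans hl
    set β := Module.finBasis ℤ ↥(lat p b)
    set r := Module.finrank ℤ ↥(lat p b)
    let E : ℕ → IrrCharacter H → ℤ := fun i => if h : i < r then (β ⟨i, h⟩ : IrrCharacter H → ℤ) else 0
    have hE : ∀ i, E i ∈ lat p b := fun i => by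
      simp only [E]; split_ifs
      · exact (β _).2
      · exact zero_mem _
    refine ⟨_, E 0, E 1, ⟨hE 0, hE 1, fun v hv => ?_⟩, rfl⟩
    have h1 := congrArg Subtype.val (β.sum_repr ⟨v, hv⟩)
    rw [Submodule.coe_sum] at h1
    simp only [Submodule.coe_smul] at h1
    set c : ℕ → ℤ := fun i => if h : i < r then β.repr ⟨v, hv⟩ ⟨i, h⟩ else 0 with hc
    refine ⟨c 0, c 1, h1.symm.trans ?_⟩
    rw [Finset.sum_congr rfl (g := fun i : Fin r => c i • E i) fun i _ => by
      simp [hc, E, i.2]]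
    rw [Fin.sum_univ_eq_sum_range (fun i => c i • E i) r]
    have : Finset.range r ⊆ Finset.range 2 := Finset.range_mono hr
    rw [Finset.sum_subset this fun i _ hi => by
      simp [E, dif_neg (show ¬ i < r by simpa using hi)]]
    rw [Finset.sum_range_succ, Finset.sum_range_one]
  obtain ⟨e, f, ⟨he, hf, hgen⟩, hk⟩ := Nat.find_spec hex
  have hmin : ∀ e' f', Gen e' f' →
      (form p b e e + form p b f f).toNat ≤ (form p b e' e' + form p b f' f').toNat := by
    intro e' f' h
    rw [hk]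
    exact Nat.find_le ⟨e', f', h, rfl⟩
  have hne : ∀ e f : IrrCharacter H → ℤ, Gen e f → f ≠ 0 := by
    intro e f h h0
    refine hone e h.1 (form_eq_one_of_gen hM hb h.1 fun v hv => ?_)
    obtain ⟨m, n, rfl⟩ := h.2.2 v hv
    exact ⟨m, by rw [h0, smul_zero, add_zero]⟩
  have hswap : ∀ {e f}, Gen e f → Gen f e := fun {e f} h => ⟨h.2.1, h.1, fun v hv => by
    obtain ⟨m, n, rfl⟩ := h.2.2 v hv; exact ⟨n, m, add_comm _ _⟩⟩
  have h2 : ∀ v ∈ lat p b, v ≠ 0 → 2 ≤ form p b v v := fun v hv hv0 => by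
    have := form_pos hM hb hv hv0
    have := hone v hv
    omega
  have he2 := h2 e he (hne f e (hswap ⟨he, hf, hgen⟩))
  have hf2 := h2 f hf (hne e f ⟨he, hf, hgen⟩)
  have hexp : ∀ {x y : IrrCharacter H → ℤ}, x ∈ lat p b → y ∈ lat p b → ∀ t : ℤ,
      form p b (x + t • y) (x + t • y) =
        form p b x x + 2 * t * form p b x y + t * t * form p b y y := by
    intro x y hx hy t
    have hty : t • y ∈ lat p b := Submodule.smul_mem _ t hy
    rw [form_add hM hb (add_mem hx hty) hx hty, form_comm (x + t • y) x,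
      form_comm (x + t • y) (t • y), form_add hM hb hx hx hty, form_add hM hb hty hx hty,
      form_smul hM hb hx hy, form_comm (t • y) x, form_smul hM hb hx hy,
      form_smul hM hb hty hy, form_comm (t • y) y, form_smul hM hb hy hy]
    ring
  have hkey : ∀ {x y : IrrCharacter H → ℤ}, Gen x y →
      form p b x x + form p b y y = form p b e e + form p b f f →
      ∀ t : ℤ, 0 ≤ 2 * t * form p b x y + t * t * form p b x x := by
    intro x y h hs t
    have hg : Gen x (y + t • x) := ⟨h.1, add_mem h.2.1 (Submodule.smul_mem _ t h.1), fun v hv => by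
      obtain ⟨m, n, rfl⟩ := h.2.2 v hv
      exact ⟨m - n * t, n, by module⟩⟩
    have h1 := hmin _ _ hg
    have h3 := form_pos hM hb hg.1 (hne _ _ (hswap hg))
    have h4 := form_pos hM hb hg.2.1 (hne _ _ hg)
    have h5 := hexp h.2.1 h.1 t
    rw [form_comm y x] at h5
    omega
  have a1 := hkey ⟨he, hf, hgen⟩ rfl 1
  have a2 := hkey ⟨he, hf, hgen⟩ rfl (-1)
  have a3 := hkey (hswap ⟨he, hf, hgen⟩) (add_comm _ _) 1
  have a4 := hkey (hswap ⟨he, hf, hgen⟩) (add_comm _ _) (-1)
  rw [form_comm f e] at a3 a4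
  rcases le_total 0 (form p b e f) with hpos | hneg
  · exact ⟨e, f, he, hf, hgen, he2, hf2, hpos, by linarith, by linarith⟩
  · have hnf : form p b e ((-1 : ℤ) • f) = - form p b e f := by
      rw [form_smul hM hb he hf]; ring
    have hff : form p b ((-1 : ℤ) • f) ((-1 : ℤ) • f) = form p b f f := by
      rw [form_smul hM hb (Submodule.smul_mem _ _ hf) hf, form_comm, form_smul hM hb hf hf]; ring
    refine ⟨e, (-1 : ℤ) • f, he, Submodule.smul_mem _ _ hf, fun v hv => ?_, he2,
      by rw [hff]; exact hf2, by rw [hnf]; linarith, by rw [hnf]; linarith,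
      by rw [hnf, hff]; linarith⟩
    obtain ⟨m, n, rfl⟩ := hgen v hv
    exact ⟨m, -n, by module⟩

end Lattice

section Main

variable {G : Type*} [Group G] [Fintype G] {u : G} {H : Subgroup G}

/-- `k(B) ≤ p ^ d` when a major subsection has rank at most two. -/
theorem card_le (hM : IsPModular p M) (hu : ∃ k, orderOf u = p ^ k)
    (hH : ∀ g, g ∈ H ↔ Commute u g) {b : Set (IrrCharacter H)} {B : Set (IrrCharacter G)}
    (hind : IsInducedBlock M H b B) (hd : blockDefect p b = blockDefect p B)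
    (hl : blockRank p b ≤ 2) : Nat.card B ≤ p ^ blockDefect p B := by
  have hb := hind.1
  have hp := hM.1
  suffices h : (Nat.card B : ℤ) ≤ (p : ℤ) ^ blockDefect p b by
    rw [← hd]; exact_mod_cast h
  by_cases hone : ∃ v ∈ lat p b, form p b v v = 1
  · obtain ⟨v, hv, h1⟩ := hone
    have h := card_le_form hM hu hH hind hd hv (by
      rw [h1]; exact_mod_cast hp.not_dvd_one)
    rwa [h1, mul_one] at h
  push Not at hone
  obtain ⟨e, f, he, hf, hgen, hα, hγ, hβ0, hβα, hβγ⟩ := exists_reduced hM hb hl hone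
  set α := form p b e e with hαd
  set β := form p b e f with hβd
  set γ := form p b f f with hγd
  set D := α * γ - β * β with hD
  have hD0 : 0 < D := by nlinarith
  -- the coefficients of the columns
  have hn' : ∀ φ : IrrCharacter H, ∃ m n : ℤ,
      if φ ∈ b then col p b φ = m • e + n • f else m = 0 ∧ n = 0 := fun φ => by
    by_cases hφ : φ ∈ b
    · obtain ⟨m, n, h⟩ := hgen _ (col_mem hφ)
      exact ⟨m, n, by rw [if_pos hφ]; exact h⟩
    · exact ⟨0, 0, by rw [if_neg hφ]; exact ⟨rfl, rfl⟩⟩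
  choose n₁ n₂ hn using hn'
  have hsupp : ∀ v ∈ lat p b, ∀ ψ ∉ b, v ψ = 0 := by
    intro v hv
    induction hv using Submodule.span_induction with
    | mem x hx => obtain ⟨φ', -, rfl⟩ := hx; intro ψ hψ; exact if_neg hψ
    | zero => intro ψ _; rfl
    | add x y _ _ hx hy => intro ψ hψ; simp [hx ψ hψ, hy ψ hψ]
    | smul m x _ hx => intro ψ hψ; simp [hx ψ hψ]
  have hcoord : ∀ ψ, e ψ = n₁ ψ * α + n₂ ψ * β ∧ f ψ = n₁ ψ * β + n₂ ψ * γ := by
    intro ψ
    by_cases hψ : ψ ∈ b
    · have h := hn ψ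
      rw [if_pos hψ] at h
      rw [← form_col hM hb hψ he, ← form_col hM hb hψ hf, h,
        form_add hM hb he (Submodule.smul_mem _ _ he) (Submodule.smul_mem _ _ hf),
        form_add hM hb hf (Submodule.smul_mem _ _ he) (Submodule.smul_mem _ _ hf),
        form_smul hM hb he he, form_smul hM hb he hf, form_smul hM hb hf he,
        form_smul hM hb hf hf, form_comm f e]
      exact ⟨rfl, rfl⟩
    · have h := hn ψ
      rw [if_neg hψ] at h
      rw [h.1, h.2, hsupp e he ψ hψ, hsupp f hf ψ hψ]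
      simp
  obtain ⟨m, hm0, hm1, hmsmul, hmsum⟩ := exists_mean hM hu hH hind
  set z : H := ⟨u, (hH u).2 (Commute.refl u)⟩
  -- the sums of the three coordinates
  have hcomb : ∀ (r s : ℤ) (v : IrrCharacter H → ℤ), D • v = r • e + s • f →
      (D : ℝ) ^ 2 * ∑ χ ∈ members B, m χ v =
        (p : ℝ) ^ blockDefect p b * ((r * r * α + 2 * r * s * β + s * s * γ : ℤ) : ℝ) := by
    intro r s v hv
    have hw : r • e + s • f ∈ lat p b :=
      add_mem (Submodule.smul_mem _ r he) (Submodule.smul_mem _ s hf)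
    have h := hmsum _ hw
    rw [form_spec hM hb hw hw] at h
    rw [Finset.mul_sum, Finset.sum_congr rfl fun χ _ => (hmsmul χ v D).symm, hv, h]
    have hre := Submodule.smul_mem _ r he
    have hsf := Submodule.smul_mem _ s hf
    rw [form_add hM hb hw hre hsf, form_smul hM hb hw he, form_smul hM hb hw hf,
      form_comm (r • e + s • f) e, form_comm (r • e + s • f) f, form_add hM hb he hre hsf,
      form_add hM hb hf hre hsf, form_smul hM hb he he, form_smul hM hb he hf,
      form_smul hM hb hf he, form_smul hM hb hf hf, form_comm f e]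
    push_cast
    ring
  have hv1 : D • n₁ = γ • e + (-β) • f := by
    funext ψ
    obtain ⟨h1, h2⟩ := hcoord ψ
    simp only [Pi.smul_apply, Pi.add_apply, smul_eq_mul, h1, h2, hD]
    ring
  have hv2 : D • n₂ = (-β) • e + α • f := by
    funext ψ
    obtain ⟨h1, h2⟩ := hcoord ψ
    simp only [Pi.smul_apply, Pi.add_apply, smul_eq_mul, h1, h2, hD]
    ring
  have hv3 : D • (n₁ + n₂) = (γ - β) • e + (α - β) • f := by
    rw [smul_add, hv1, hv2]; module
  have s1 := hcomb _ _ _ hv1
  have s2 := hcomb _ _ _ hv2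
  have s3 := hcomb _ _ _ hv3
  -- each character has two nonzero coordinates
  have hlow : ∀ χ ∈ members B, 2 ≤ m χ n₁ + m χ n₂ + m χ (n₁ + n₂) := by
    intro χ hχ
    obtain ⟨φ₀, hφ₀, h0⟩ := exists_height_zero hM hb
    have hc := sval_ne_zero hM hu hH hind hd hφ₀ h0 (mem_members.1 hχ) (col_mem hφ₀) (by
      rw [show col p b φ₀ φ₀ = contrib p b φ₀ φ₀ from if_pos hφ₀]
      simpa [h0] using contrib_not_dvd hM hb hφ₀ h0 hφ₀)
    have hne : ¬ (sval z χ n₁ = 0 ∧ sval z χ n₂ = 0) := by
      rintro ⟨h1, h2⟩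
      have hD' : (D : ℂ) ≠ 0 := Int.cast_ne_zero.2 hD0.ne'
      refine hc (mul_left_cancel₀ hD' ?_)
      have h3 : sval z χ e = 0 ∧ sval z χ f = 0 := by
        constructor
        · rw [show e = α • n₁ + β • n₂ from funext fun ψ => by
            rw [(hcoord ψ).1]; simp [mul_comm], sval_add, sval_smul, sval_smul, h1, h2]
          simp
        · rw [show f = β • n₁ + γ • n₂ from funext fun ψ => by
            rw [(hcoord ψ).2]; simp [mul_comm], sval_add, sval_smul, sval_smul, h1, h2]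
          simp
      have h4 := hn φ₀
      rw [if_pos hφ₀] at h4
      rw [h4, sval_add, sval_smul, sval_smul, h3.1, h3.2]
      simp
    have g0 := fun v => hm0 χ v
    have g1 := fun v => hm1 χ v
    by_cases h1 : sval z χ n₁ = 0
    · have h2 : sval z χ n₂ ≠ 0 := fun h => hne ⟨h1, h⟩
      have h3 : sval z χ (n₁ + n₂) ≠ 0 := by rwa [sval_add, h1, zero_add]
      linarith [g0 n₁, g1 _ h2, g1 _ h3]
    · by_cases h2 : sval z χ n₂ = 0
      · have h3 : sval z χ (n₁ + n₂) ≠ 0 := by rwa [sval_add, h2, add_zero]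
        linarith [g0 n₂, g1 _ h1, g1 _ h3]
      · linarith [g0 (n₁ + n₂), g1 _ h1, g1 _ h2]
  have hsum := Finset.sum_le_sum hlow
  rw [Finset.sum_const, nsmul_eq_mul, Finset.sum_add_distrib, Finset.sum_add_distrib,
    ← card_members] at hsum
  have hineq : α + γ - β ≤ D := by nlinarith
  have hA : (D : ℝ) ^ 2 * (∑ χ ∈ members B, m χ n₁ + ∑ χ ∈ members B, m χ n₂ +
      ∑ χ ∈ members B, m χ (n₁ + n₂)) =
      (p : ℝ) ^ blockDefect p b * (2 * (D * (α + γ - β) : ℤ) : ℝ) := by
    rw [mul_add, mul_add, s1, s2, s3, hD]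
    push_cast
    ring
  have hDR : (0 : ℝ) < D := Int.cast_pos.2 hD0
  have hR : (Nat.card B : ℝ) * (D : ℝ) ^ 2 ≤ (p : ℝ) ^ blockDefect p b * (D : ℝ) ^ 2 := by
    have h1 : (Nat.card B : ℝ) * 2 * (D : ℝ) ^ 2 ≤
        (p : ℝ) ^ blockDefect p b * (2 * (D * (α + γ - β) : ℤ) : ℝ) := by
      rw [← hA, mul_comm _ ((D : ℝ) ^ 2)]
      exact mul_le_mul_of_nonneg_left hsum (sq_nonneg _)
    have h2 : ((α + γ - β : ℤ) : ℝ) ≤ (D : ℝ) := Int.cast_le.2 hineq
    push_cast at h1 h2
    have h3 := mul_le_mul_of_nonneg_left h2 (mul_nonneg (pow_nonneg (Nat.cast_nonneg p) (blockDefect p b)) hDR.le)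
    nlinarith
  exact_mod_cast le_of_mul_le_mul_right hR (by positivity)

end Main

end Cfsg.Agent.BlockMajorTwo82
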