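import Cfsg.Agent.Lib.BlockTwoPowRoots82

/-!
The contributions of a major subsection for the prime two, weighted by the heights.
-/

set_option autoImplicit false

namespace Cfsg.Agent.BlockMajorWeighted82

open Cfsg Cfsg.Agent.BlockTheoryLocalRing Cfsg.Agent.BlockTheoryCentre
open Cfsg.Agent.BlockTheoryIdem Cfsg.Agent.BlockContrib Cfsg.Agent.BlockContribBounds
open Cfsg.Agent.ClassAlgebraVal Cfsg.Agent.BlockMajorLattice82 Cfsg.Agent.BlockTwoPowRoots82
open scoped ComplexConjugate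

attribute [local instance] Classical.propDecidable

set_option linter.unusedSectionVars false

variable {p : ℕ} [Fact p.Prime] {M : Ideal AlgInt} {G : Type*} [Group G] [Fintype G] {u : G}
  {H : Subgroup G}

theorem conj_entry (hp : p.Prime) (z : H) (b : Set (IrrCharacter H)) (χ ψ : IrrCharacter G) :
    conj (S4716.entry p z b χ ψ) = S4716.entry p z b ψ χ := by
  simp only [S4716.entry, map_sum]
  rw [Finset.sum_comm]
  refine Finset.sum_congr rfl fun η hη => Finset.sum_congr rfl fun ξ hξ => ?_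
  rw [map_mul, map_mul, map_mul, map_mul, map_natCast, map_natCast, map_intCast, Complex.conj_conj,
    contrib_comm hp (mem_members.1 hξ) (mem_members.1 hη)]
  ring

/-- The entries of a major subsection have the power of `p` given by the height. -/
theorem exists_entry_value (hM : IsPModular p M) (hu : ∃ k, orderOf u = p ^ k)
    (hH : ∀ g, g ∈ H ↔ Commute u g) {b : Set (IrrCharacter H)} {B : Set (IrrCharacter G)}
    (hind : IsInducedBlock M H b B) (hd : blockDefect p b = blockDefect p B)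
    {χ ψ : IrrCharacter G} (hχ : χ ∈ B) (hψ : ψ ∈ B) :
    ∃ T : ℂ, MemLocalRing M T ∧
      (MemLocalIdeal M T ↔ 0 < blockHeight p B (χ : G → ℂ)) ∧
      S4716.entry p (⟨u, (hH u).2 (Commute.refl u)⟩ : H) b χ ψ =
        (p : ℂ) ^ blockHeight p B (ψ : G → ℂ) * T := by
  set z : H := ⟨u, (hH u).2 (Commute.refl u)⟩ with hz
  have hzc : z ∈ Subgroup.center H :=
    Subgroup.mem_center_iff.2 fun g => Subtype.ext ((hH g).1 g.2).eq.symm
  obtain ⟨k, hk⟩ := hu
  have hzk : z ^ p ^ k = 1 := Subtype.ext (by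
    rw [Subgroup.coe_pow, ← hk, pow_orderOf_eq_one]; rfl)
  have hlk : ∀ ξ : IrrCharacter H, S4716.lam z ξ ^ p ^ k = 1 := fun ξ => by
    rw [← S4716.lam_pow hzc, hzk, S4716.lam, div_self (irr_one_ne_zero ξ)]
  have hlR : ∀ x : ℂ, x ^ p ^ k = 1 → MemLocalRing M x := fun x hx =>
    of_isIntegral hM (IsIntegral.of_pow (pow_pos hM.1.pos k) (by rw [hx]; exact isIntegral_one))
  have hcj : ∀ ξ : IrrCharacter H, conj (S4716.lam z ξ) ^ p ^ k = 1 := fun ξ => by
    rw [← map_pow, hlk, map_one]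
  obtain ⟨φ₀, hφ₀, h0⟩ := exists_height_zero (p := p) hM hind.1
  obtain ⟨κ, hκR, hκn, hval⟩ :=
    exists_sval_value hM ⟨k, hk⟩ hH hind hd hφ₀ h0 hψ
  obtain ⟨κ', hκ'R, hκ'n, hval'⟩ :=
    exists_sval_value hM ⟨k, hk⟩ hH hind hd hφ₀ h0 hχ
  obtain ⟨t₀, ht₀R, ht₀c, ht₀⟩ := hval' (col p b φ₀) (col_mem hφ₀)
  rw [← hz] at hval ht₀
  have hcols : ∀ ξ ∈ members b, ∃ t : ℂ, MemLocalRing M t ∧
      MemLocalIdeal M (t - κ * (col p b ξ φ₀ : ℂ)) ∧
      sval z ψ (col p b ξ) = (p : ℂ) ^ blockHeight p B (ψ : G → ℂ) * t :=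
    fun ξ hξ => hval _ (col_mem (mem_members.1 hξ))
  choose! t htR htc hts using hcols
  set c : IrrCharacter H → ℂ := fun ξ => conj (S4716.lam z ξ) * (S4716.mult χ ξ : ℂ) with hc
  have hcR : ∀ ξ, MemLocalRing M (c ξ) := fun ξ =>
    (localRing hM).mul_mem (hlR _ (hcj ξ)) (natCast_mem (localRing hM) _)
  set T := ∑ ξ ∈ members b, c ξ * t ξ with hT
  have hTR : MemLocalRing M T :=
    (localRing hM).sum_mem fun ξ hξ => (localRing hM).mul_mem (hcR ξ) (htR ξ hξ)
  refine ⟨T, hTR, ?_, ?_⟩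
  · have hs : sval z χ (col p b φ₀) = ∑ ξ ∈ members b,
        (S4716.mult χ ξ : ℂ) * S4716.lam z ξ * (col p b ξ φ₀ : ℂ) := by
      rw [sval]
      refine ((Finset.sum_subset (Finset.subset_univ _) fun ξ _ hξ => ?_).symm).trans
        (Finset.sum_congr rfl fun ξ hξ => ?_)
      · rw [show col p b φ₀ ξ = 0 from if_neg fun h => hξ (mem_members.2 h)]
        simp
      · rw [show col p b ξ φ₀ = contrib p b ξ φ₀ from if_pos hφ₀,
          show col p b φ₀ ξ = contrib p b φ₀ ξ from if_pos (mem_members.1 hξ),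
          contrib_comm hM.1 hφ₀ (mem_members.1 hξ)]
    have h1 : MemLocalIdeal M (T - κ * sval z χ (col p b φ₀)) := by
      have h : MemLocalIdeal M (∑ ξ ∈ members b, (c ξ * (t ξ - κ * (col p b ξ φ₀ : ℂ)) +
          κ * (S4716.mult χ ξ : ℂ) * (col p b ξ φ₀ : ℂ) *
            ((conj (S4716.lam z ξ) - 1) - (S4716.lam z ξ - 1)))) :=
        ideal_sum hM fun ξ hξ => ideal_add hM (ideal_mul_left hM (hcR ξ) (htc ξ hξ))
          (ideal_mul_left hM ((localRing hM).mul_mem ((localRing hM).mul_mem hκR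
            (natCast_mem (localRing hM) _)) (intCast_mem (localRing hM) _))
            (ideal_sub hM (S4716.root_congr_one hM (hcj ξ)) (S4716.root_congr_one hM (hlk ξ))))
      refine cast (congrArg (MemLocalIdeal M) ?_) h
      rw [hT, hs, Finset.mul_sum, ← Finset.sum_sub_distrib]
      exact Finset.sum_congr rfl fun ξ _ => by simp only [hc]; ring
    rw [ht₀] at h1
    constructor
    · intro hI
      by_contra hh
      rw [Nat.eq_zero_of_not_pos hh, pow_zero, one_mul] at h1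
      have h2 : ¬ MemLocalIdeal M (κ * t₀) := by
        refine not_ideal_mul hM hκR ht₀R hκn fun ht => ?_
        have h3 := ideal_sub hM ht ht₀c
        rw [sub_sub_cancel] at h3
        refine not_ideal_mul hM hκ'R (intCast_mem (localRing hM) _) hκ'n (fun h4 => ?_) h3
        rw [intCast_mem_iff hM, show col p b φ₀ φ₀ = contrib p b φ₀ φ₀ from if_pos hφ₀] at h4
        exact contrib_not_dvd hM hind.1 hφ₀ h0 hφ₀ (by rwa [h0, zero_add, pow_one])
      exact h2 (cast (congrArg (MemLocalIdeal M) (by ring)) (ideal_sub hM hI h1))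
    · intro hh
      obtain ⟨n, hn⟩ := Nat.exists_eq_succ_of_ne_zero hh.ne'
      have hp : MemLocalIdeal M (p : ℂ) := (natCast_mem_iff hM).2 dvd_rfl
      have h2 : MemLocalIdeal M (κ * ((p : ℂ) ^ blockHeight p B (χ : G → ℂ) * t₀)) := by
        rw [hn, pow_succ]
        exact ideal_mul_left hM hκR (ideal_mul_right hM
          (ideal_mul_left hM ((localRing hM).pow_mem (natCast_mem (localRing hM) p) n) hp) ht₀R)
      exact cast (congrArg (MemLocalIdeal M) (by ring)) (ideal_add hM h1 h2)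
  · calc S4716.entry p z b χ ψ = ∑ ξ ∈ members b, c ξ * sval z ψ (col p b ξ) := by
          rw [S4716.entry]
          refine Finset.sum_congr rfl fun ξ _ => ?_
          rw [sval, Finset.mul_sum]
          refine (Finset.sum_congr rfl fun η hη => ?_).trans
            (Finset.sum_subset (Finset.subset_univ (members b)) fun η _ hη => ?_)
          · rw [show col p b ξ η = contrib p b ξ η from if_pos (mem_members.1 hη)]
            simp only [hc]; ring
          · rw [show col p b ξ η = 0 from if_neg fun h => hη (mem_members.2 h)]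
            simp
      _ = _ := by
          rw [hT, Finset.mul_sum]
          exact Finset.sum_congr rfl fun ξ hξ => by rw [hts ξ hξ]; ring

/-- For `p = 2`: the integral mean contributions and their divisibility. -/
theorem exists_weights [Fact (Nat.Prime 2)] (hM : IsPModular 2 M)
    (hu : ∃ k, orderOf u = 2 ^ k) (hH : ∀ g, g ∈ H ↔ Commute u g) {b : Set (IrrCharacter H)}
    {B : Set (IrrCharacter G)} (hind : IsInducedBlock M H b B)
    (hd : blockDefect 2 b = blockDefect 2 B) :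
    ∃ a : IrrCharacter G → ℤ,
      (∑ χ ∈ members B, a χ = (2 : ℤ) ^ blockDefect 2 b * blockRank 2 b) ∧
      ∀ χ ∈ B, 0 < a χ ∧ (0 < blockHeight 2 B (χ : G → ℂ) →
          (2 : ℤ) ^ (blockHeight 2 B (χ : G → ℂ) + 1) ∣ a χ) ∧
        (blockHeight 2 B (χ : G → ℂ) = 0 → Odd (a χ) ∧
          ∑ ψ ∈ members B, (4 : ℤ) ^ blockHeight 2 B ((ψ : IrrCharacter G) : G → ℂ) ≤
            (2 : ℤ) ^ blockDefect 2 b * a χ) := by
  set z : H := ⟨u, (hH u).2 (Commute.refl u)⟩ with hz
  have hzc : z ∈ Subgroup.center H :=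
    Subgroup.mem_center_iff.2 fun g => Subtype.ext ((hH g).1 g.2).eq.symm
  obtain ⟨k, hk⟩ := hu
  set N := 2 ^ (k + 1) with hN
  have hN0 : 0 < N := pow_pos two_pos _
  have hzN : z ^ N = 1 := by
    refine Subtype.ext ?_
    rw [Subgroup.coe_pow, hN, pow_succ, pow_mul, ← hk, pow_orderOf_eq_one, one_pow]
    rfl
  have hlk : ∀ ξ : IrrCharacter H, S4716.lam z ξ ^ N = 1 := fun ξ => by
    rw [← S4716.lam_pow hzc, hzN, S4716.lam, div_self (irr_one_ne_zero ξ)]
  obtain ⟨ζ, hζ⟩ : ∃ ζ : ℂ, IsPrimitiveRoot ζ N := ⟨_, Complex.isPrimitiveRoot_exp N hN0.ne'⟩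
  have : NeZero N := ⟨hN0.ne'⟩
  have hlam : ∀ ξ : IrrCharacter H, ∃ i < N, ζ ^ i = S4716.lam z ξ := fun ξ =>
    hζ.eq_pow_of_pow_eq_one (hlk ξ)
  choose e heN he using hlam
  set f : IrrCharacter H × IrrCharacter H → ℕ := fun x => (N - e x.1) + e x.2 with hf
  set q : IrrCharacter G → IrrCharacter G → IrrCharacter H × IrrCharacter H → ℤ :=
    fun χ ψ x => (S4716.mult χ x.1 : ℤ) * (S4716.mult ψ x.2 : ℤ) * contrib 2 b x.1 x.2 with hq
  have hval : ∀ (j : ℕ) (χ ψ : IrrCharacter G), S4716.entry 2 (z ^ j) b χ ψ =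
      ∑ x ∈ members b ×ˢ members b, (q χ ψ x : ℂ) * ζ ^ (f x * j) := by
    intro j χ ψ
    rw [S4716.entry, Finset.sum_product]
    refine Finset.sum_congr rfl fun ξ _ => Finset.sum_congr rfl fun η _ => ?_
    have hcj : conj (S4716.lam z ξ) = ζ ^ (N - e ξ) := by
      rw [← he, map_pow, ← Complex.inv_eq_conj
        (Complex.norm_eq_one_of_pow_eq_one hζ.pow_eq_one hN0.ne'), inv_pow]
      refine inv_eq_of_mul_eq_one_right ?_
      rw [← pow_add, Nat.add_sub_of_le (heN ξ).le, hζ.pow_eq_one]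
    rw [S4716.lam_pow hzc, S4716.lam_pow hzc, map_pow, ← mul_pow, hcj, ← he η, ← pow_add, ← pow_mul]
    simp only [hq, hf]
    push_cast
    ring
  have hval1 : ∀ χ ψ : IrrCharacter G, S4716.entry 2 z b χ ψ =
      ∑ x ∈ members b ×ˢ members b, (q χ ψ x : ℂ) * ζ ^ f x := fun χ ψ => by
    have h := hval 1 χ ψ
    simp only [pow_one, mul_one] at h
    exact h
  set a : IrrCharacter G → ℤ := fun χ => red k (members b ×ˢ members b) (q χ χ) f 0 with ha
  set J := (Finset.range N).filter fun j => ¬ 2 ∣ j with hJ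
  have hJcard : J.card = 2 ^ k := by
    have h := BlockHeightEntry82.sum_odd_pow (N' := 2 ^ k) (x := 1) (one_pow _)
    simp only [one_pow, Finset.sum_const, nsmul_eq_mul, mul_one, BlockHeightEntry82.eps, if_true,
      Int.cast_one] at h
    rw [← pow_succ', ← hN, ← hJ] at h
    exact_mod_cast h
  have hmean : ∀ χ, ∑ j ∈ J, S4716.entry 2 (z ^ j) b χ χ = (2 : ℂ) ^ k * (a χ : ℂ) := fun χ => by
    simp only [hval, ha, hJ, hN]
    exact sum_odd_eq _ (q χ χ) f hζ
  have hpowdata : ∀ j ∈ J, ∃ hHj : (∀ g, g ∈ H ↔ Commute (u ^ j) g),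
      (∃ i, orderOf (u ^ j) = 2 ^ i) ∧
      (⟨u ^ j, (hHj (u ^ j)).2 (Commute.refl _)⟩ : H) = z ^ j := by
    intro j hj
    have hjp : ¬ 2 ∣ j := (Finset.mem_filter.1 hj).2
    have hcop : (orderOf u).Coprime j := hk ▸ (hM.1.coprime_iff_not_dvd.2 hjp).pow_left _
    obtain ⟨m, hm⟩ := exists_pow_eq_self_of_coprime hcop.symm
    have hHj : ∀ g, g ∈ H ↔ Commute (u ^ j) g := fun g => by
      rw [hH]
      exact ⟨fun h => h.pow_left j, fun h => by rw [← hm]; exact h.pow_left m⟩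
    exact ⟨hHj, ⟨k, by rw [Nat.Coprime.orderOf_pow hcop, hk]⟩, Subtype.ext (by simp [hz])⟩
  have hrow : ∀ χ : IrrCharacter G, ∑ j ∈ J, ∑ ψ ∈ members B,
      Complex.normSq (S4716.entry 2 (z ^ j) b χ ψ) =
        (2 : ℝ) ^ blockDefect 2 b * ((2 : ℝ) ^ k * (a χ : ℝ)) := by
    intro χ
    apply Complex.ofReal_injective
    push_cast
    rw [← hmean, Finset.mul_sum]
    refine Finset.sum_congr rfl fun j hj => ?_
    obtain ⟨hHj, hvj, hej⟩ := hpowdata j hj
    have h := BlockHeightEntry82.sum_normSq_row hM hvj hHj hind χ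
    rw [hej] at h
    rw [h]
    push_cast
    rfl
  have h2q : (0 : ℝ) < (2 : ℝ) ^ blockDefect 2 b := pow_pos two_pos _
  have h2k : (0 : ℝ) < (2 : ℝ) ^ k := pow_pos two_pos _
  refine ⟨a, ?_, fun χ hχ => ⟨?_, fun hh => ?_, fun h0 => ⟨?_, ?_⟩⟩⟩
  · have h : ∑ χ ∈ members B, ∑ j ∈ J, ∑ ψ ∈ members B,
        Complex.normSq (S4716.entry 2 (z ^ j) b χ ψ) =
        (2 : ℝ) ^ k * ((2 : ℝ) ^ (2 * blockDefect 2 b) * (blockRank 2 b : ℝ)) := by
      rw [Finset.sum_comm, Finset.sum_congr rfl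
        (g := fun _ => (2 : ℝ) ^ (2 * blockDefect 2 b) * (blockRank 2 b : ℝ)) fun j hj => ?_,
        Finset.sum_const, hJcard, nsmul_eq_mul]
      · push_cast; rfl
      obtain ⟨hHj, hvj, hej⟩ := hpowdata j hj
      have h := S4716.sum_normSq_entry hM hvj hHj hind
      rw [hej] at h
      exact_mod_cast h
    rw [Finset.sum_congr rfl fun χ _ => hrow χ, ← Finset.mul_sum, ← Finset.mul_sum] at h
    have h' : ((∑ χ ∈ members B, a χ : ℤ) : ℝ) =
        (((2 : ℤ) ^ blockDefect 2 b * blockRank 2 b : ℤ) : ℝ) := by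
      push_cast
      refine mul_left_cancel₀ (mul_ne_zero h2q.ne' h2k.ne') ?_
      rw [mul_assoc, h, pow_mul, show ((2 : ℝ) ^ 2) ^ blockDefect 2 b =
        (2 : ℝ) ^ blockDefect 2 b * (2 : ℝ) ^ blockDefect 2 b by rw [← mul_pow]; norm_num]
      ring
    exact Int.cast_injective h'
  · -- the row is not zero
    obtain ⟨χ₀, hχ₀, hχ₀0⟩ := exists_height_zero (p := 2) hM hind.2.1
    obtain ⟨T, -, hTI, hTe⟩ := exists_entry_value hM ⟨k, hk⟩ hH hind hd hχ₀ hχ
    have hne : S4716.entry 2 z b χ χ₀ ≠ 0 := by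
      rw [← conj_entry hM.1, ← hz.symm, map_ne_zero, hTe]
      refine mul_ne_zero (pow_ne_zero _ (by norm_num)) fun h => ?_
      have := hTI.1 (h ▸ ideal_zero hM)
      omega
    have h1 : (1 : ℕ) ∈ J := by
      rw [hJ, Finset.mem_filter, Finset.mem_range]
      exact ⟨Nat.one_lt_two_pow (Nat.succ_ne_zero k), by decide⟩
    have h : (0 : ℝ) < (2 : ℝ) ^ blockDefect 2 b * ((2 : ℝ) ^ k * (a χ : ℝ)) := hrow χ ▸
      Finset.sum_pos' (fun j _ => Finset.sum_nonneg fun ψ _ => Complex.normSq_nonneg _)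
        ⟨1, h1, Finset.sum_pos' (fun ψ _ => Complex.normSq_nonneg _)
          ⟨χ₀, mem_members.2 hχ₀, by rw [pow_one]; exact Complex.normSq_pos.2 hne⟩⟩
    exact_mod_cast (pos_of_mul_pos_right (pos_of_mul_pos_right h h2q.le) h2k.le)
  · obtain ⟨T, hTR, hTI, hTe⟩ := exists_entry_value hM ⟨k, hk⟩ hH hind hd hχ hχ
    have hreal := conj_entry (p := 2) hM.1 z b χ χ
    rw [hval1] at hreal hTe
    exact ((const_coeff hM _ (q χ χ) f hζ hTR hTe hreal).2).1 (hTI.2 hh)
  · obtain ⟨T, hTR, hTI, hTe⟩ := exists_entry_value hM ⟨k, hk⟩ hH hind hd hχ hχ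
    have hreal := conj_entry (p := 2) hM.1 z b χ χ
    rw [hval1] at hreal hTe
    have h := (const_coeff hM _ (q χ χ) f hζ hTR hTe hreal).2
    rw [hTI, h0, zero_add, pow_one] at h
    rw [← Int.not_even_iff_odd, even_iff_two_dvd]
    exact fun hdv => lt_irrefl 0 (h.2 hdv)
  · have key : ((∑ ψ ∈ members B, (4 : ℤ) ^ blockHeight 2 B ((ψ : IrrCharacter G) : G → ℂ) : ℤ) : ℝ) *
        (2 : ℝ) ^ k ≤ (2 : ℝ) ^ blockDefect 2 b * ((2 : ℝ) ^ k * (a χ : ℝ)) := by
      rw [← hrow χ, Finset.sum_comm, Int.cast_sum, Finset.sum_mul]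
      refine Finset.sum_le_sum fun ψ hψ => ?_
      obtain ⟨T, hTR, hTI, hTe⟩ := exists_entry_value hM ⟨k, hk⟩ hH hind hd hχ (mem_members.1 hψ)
      rw [hval1] at hTe
      have hT0 : T ≠ 0 := fun h => by
        have := hTI.1 (h ▸ ideal_zero hM)
        omega
      have h := pow_four_le hM _ (q χ ψ) f hζ hTR hT0 hTe
      rw [← hN, ← hJ, hJcard] at h
      simp only [hval]
      push_cast at h ⊢
      exact h
    have h : ((∑ ψ ∈ members B, (4 : ℤ) ^ blockHeight 2 B ((ψ : IrrCharacter G) : G → ℂ) : ℤ) : ℝ) ≤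
        (((2 : ℤ) ^ blockDefect 2 b * a χ : ℤ) : ℝ) := by
      rw [Int.cast_mul, Int.cast_pow, Int.cast_ofNat]
      refine le_of_mul_le_mul_right ?_ h2k
      linarith
    exact Int.cast_le.1 h

end Cfsg.Agent.BlockMajorWeighted82
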