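import Cfsg.Agent.Lib.CharAverage
import Cfsg.Agent.Lib.BlockTheoryDefect
import Cfsg.Agent.Lib.Star80Res

/-!
Blocks whose degree square sum is the least possible: the block algebra over the residue field
is, as a module for two sided multiplication by a Sylow subgroup, one single orbit.
-/

set_option autoImplicit false

namespace Cfsg.Agent.BlockMinDim82

open Cfsg Cfsg.Agent.BlockTheoryLocalRing Cfsg.Agent.BlockTheoryCentre
open Cfsg.Agent.BlockTheoryIdem Cfsg.Agent.BlockTheoryBrauer Cfsg.Agent.BlockTheoryDefect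
open Cfsg.Agent.BrauerPairs81Base Cfsg.Agent.Star80Res
open scoped ComplexConjugate

attribute [local instance] Classical.propDecidable
attribute [local instance] Ideal.Quotient.field

set_option linter.unusedSectionVars false
set_option linter.style.haveILetI false
set_option synthInstance.maxHeartbeats 400000
set_option maxHeartbeats 1000000

section Fixed

variable {p : ℕ} [Fact p.Prime] {R α k : Type*} [Group R] [Fintype R] [MulAction R α]
  [Field k] [CharP k p]

/-- An invariant function without fixed points in its domain sums to zero. -/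
theorem sum_nonfixed (hR : IsPGroup p R) [Fintype α] (F : α → k)
    (hF : ∀ (r : R) a, F (r • a) = F a) (hno : ∀ a : α, ∃ r : R, r • a ≠ a) :
    ∑ a, F a = 0 := by
  rw [← Finset.sum_fiberwise Finset.univ (Quotient.mk (MulAction.orbitRel R α))]
  refine Finset.sum_eq_zero fun o _ => ?_
  induction o using Quotient.inductionOn with
  | h a =>
    have hset : ∀ b, b ∈ Finset.univ.filter
        (fun b => Quotient.mk (MulAction.orbitRel R α) b = Quotient.mk _ a) ↔
        b ∈ MulAction.orbit R a := fun b => by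
      simp [Quotient.eq, MulAction.orbitRel_apply]
    rw [Finset.sum_congr rfl fun b hb => show F b = F a by
      obtain ⟨r, rfl⟩ := (hset b).mp hb
      exact hF r a, Finset.sum_const, nsmul_eq_mul]
    refine mul_eq_zero_of_left ?_ _
    have hc : (Finset.univ.filter
        (fun b => Quotient.mk (MulAction.orbitRel R α) b = Quotient.mk _ a)).card =
        Nat.card (MulAction.orbit R a) := by
      rw [Nat.card_eq_fintype_card]
      refine (Fintype.card_of_subtype _ hset).symm.trans ?_
      exact Fintype.card_congr (Equiv.refl _)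
    rw [hc, CharP.cast_eq_zero_iff k p]
    obtain ⟨n, hn⟩ := hR.card_orbit a
    rcases n with _ | n
    · exfalso
      obtain ⟨r, hr⟩ := hno a
      rw [pow_zero, Nat.card_eq_one_iff_unique] at hn
      haveI := hn.1
      exact hr (congrArg Subtype.val (Subsingleton.elim
        (⟨r • a, MulAction.mem_orbit _ _⟩ : MulAction.orbit R a)
        ⟨a, MulAction.mem_orbit_self a⟩))
    · rw [hn]; exact dvd_pow_self p n.succ_ne_zero

/-- A `p`-group acting linearly in characteristic `p` fixes a nonzero vector of every nonzero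
invariant set closed under addition. -/
theorem exists_fixed {W : Type*} [AddCommGroup W] [Module k W] (hR : IsPGroup p R)
    (ρ : R →* Module.End k W) (U : AddSubgroup W) (hU : ∀ r w, w ∈ U → ρ r w ∈ U)
    {v : W} (hv : v ∈ U) (hv0 : v ≠ 0) :
    ∃ w ∈ U, w ≠ 0 ∧ ∀ r, ρ r w = w := by
  have htor : ∀ x : W, p • x = 0 := fun x => by
    rw [← Nat.cast_smul_eq_nsmul k, CharP.cast_eq_zero, zero_smul]
  obtain ⟨S, hS⟩ : ∃ S : AddSubgroup W, S = AddSubgroup.closure (Set.range fun r => ρ r v) :=
    ⟨_, rfl⟩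
  have hfg : AddGroup.FG S := (AddGroup.fg_iff_addSubgroup_fg S).mpr
    ((AddSubgroup.fg_iff S).mpr ⟨_, hS.symm, Set.finite_range _⟩)
  have hSf : Finite S := AddCommGroup.finite_of_fg_torsion S fun x =>
    isOfFinAddOrder_iff_nsmul_eq_zero.mpr ⟨p, (Fact.out : p.Prime).pos,
      Subtype.ext (htor (x : W))⟩
  have hSU : ∀ w ∈ S, w ∈ U := fun w hw => by
    rw [hS] at hw
    refine (AddSubgroup.closure_le U).mpr ?_ hw
    rintro _ ⟨r, rfl⟩
    exact hU r v hv
  have hinv : ∀ r, ∀ w ∈ S, ρ r w ∈ S := fun r w hw => by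
    rw [hS] at hw ⊢
    refine (AddSubgroup.closure_le
      ((AddSubgroup.closure (Set.range fun r => ρ r v)).comap (ρ r).toAddMonoidHom)).mpr ?_ hw
    rintro _ ⟨s, rfl⟩
    exact AddSubgroup.subset_closure ⟨r * s, by simp [map_mul]⟩
  letI : MulAction R S :=
    { smul := fun r w => ⟨ρ r w.1, hinv r w.1 w.2⟩
      one_smul := fun w => Subtype.ext (by show ρ 1 w.1 = w.1; simp)
      mul_smul := fun r s w => Subtype.ext (by show ρ (r * s) w.1 = ρ r (ρ s w.1); simp) }
  have hvS : v ∈ S := hS ▸ AddSubgroup.subset_closure ⟨1, by simp⟩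
  have hp : p ∣ Nat.card S := by
    have hord : addOrderOf (⟨v, hvS⟩ : S) = p :=
      addOrderOf_eq_prime (Subtype.ext (htor v)) fun h => hv0 (congrArg Subtype.val h)
    exact hord ▸ addOrderOf_dvd_natCard _
  have h0 : (0 : S) ∈ MulAction.fixedPoints R S := fun r => Subtype.ext (by
    show ρ r 0 = 0; simp)
  obtain ⟨w, hw, hne⟩ := hR.exists_fixed_point_of_prime_dvd_card_of_fixed_point S hp h0
  exact ⟨w.1, hSU _ w.2, fun h => hne (Subtype.ext h).symm,
    fun r => congrArg Subtype.val (hw r)⟩

end Fixed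

section Span

variable {p : ℕ} {M : Ideal AlgInt} {G : Type*} [Group G] [Fintype G]

theorem resk_coe (hM : IsPModular p M) (a : AlgInt) :
    resk M (a : ℂ) = Ideal.Quotient.mk M a := by
  have h := resk_eq hM (z := (a : ℂ)) (a := a) (b := 1) (one_notMem hM) (by simp)
  simpa using h

variable [M.IsMaximal]

/-- Independence modulo the ideal lifts. -/
theorem linearIndependent_lift (hM : IsPModular p M) {ι : Type*} [Fintype ι]
    (v : ι → MonoidAlgebra ℂ G) (hv : ∀ i, IsInt M (v i))
    (hk : LinearIndependent (kk M) fun i => red M (v i)) : LinearIndependent ℂ v := by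
  set A : Matrix ι G (localRing hM) := Matrix.of fun i x => ⟨(v i).coeff x, hv i x⟩
  have hAk : Function.Injective (A.map (reskHom hM)).vecMul := by
    intro c d hcd
    have : ∑ i, (c i - d i) • red M (v i) = 0 := by
      refine MonoidAlgebra.ext (Finsupp.ext fun x => ?_)
      have h := congrFun hcd x
      simp only [Matrix.vecMul, dotProduct, Matrix.map_apply] at h
      rw [MonoidAlgebra.coeff_sum, Finsupp.finsetSum_apply]
      simp only [MonoidAlgebra.coeff_smul_apply, MonoidAlgebra.coeff_zero, Finsupp.coe_zero,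
        Pi.zero_apply, smul_eq_mul, sub_mul, Finset.sum_sub_distrib, sub_eq_zero]
      exact h
    funext i
    exact sub_eq_zero.mp (Fintype.linearIndependent_iff.mp hk _ this i)
  obtain ⟨Bk, hBk⟩ : ∃ Bk : Matrix G ι (kk M), A.map (reskHom hM) * Bk = 1 := by
    obtain ⟨φ, hφ⟩ := LinearMap.exists_leftInverse_of_injective
      (A.map (reskHom hM)).vecMulLinear (LinearMap.ker_eq_bot.mpr hAk)
    refine ⟨Matrix.of fun x j => φ (Pi.single x 1) j, Matrix.ext fun i j => ?_⟩
    have h1 := congrFun (LinearMap.congr_fun hφ (Pi.single i 1)) j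
    rw [LinearMap.comp_apply, Matrix.vecMulLinear_apply, Matrix.single_one_vecMul,
      pi_eq_sum_univ ((A.map (reskHom hM)).row i), map_sum] at h1
    simp only [map_smul, Finset.sum_apply, Pi.smul_apply, smul_eq_mul, LinearMap.id_apply] at h1
    rw [Matrix.mul_apply, Matrix.one_apply]
    refine Eq.trans ?_ (h1.trans ?_)
    · refine Finset.sum_congr rfl fun x _ => ?_
      simp only [Matrix.of_apply, Matrix.row_apply]
      congr 1
      exact congrArg (fun z => φ z j) (funext fun y => by simp [Pi.single_apply, eq_comm])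
    · simp [Pi.single_apply, eq_comm]
  have hsurj : ∀ y : kk M, ∃ z : localRing hM, reskHom hM z = y := fun y => by
    obtain ⟨a, rfl⟩ := Ideal.Quotient.mk_surjective y
    exact ⟨⟨(a : ℂ), algInt_mem hM a⟩, resk_coe hM a⟩
  choose L hL using hsurj
  set Bl : Matrix G ι (localRing hM) := Bk.map L
  have hmap : (A * Bl).map (reskHom hM) = 1 := by
    rw [Matrix.map_mul, show Bl.map (reskHom hM) = Bk from Matrix.ext fun x i => hL _, hBk]
  have hdet : reskHom hM (A * Bl).det = 1 := by
    rw [RingHom.map_det, RingHom.mapMatrix_apply, hmap, Matrix.det_one]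
  have hne : ((A * Bl).map (localRing hM).subtype).det ≠ 0 := by
    rw [← RingHom.mapMatrix_apply, ← RingHom.map_det]
    intro h
    have : (A * Bl).det = 0 := Subtype.ext h
    rw [this, map_zero] at hdet
    exact zero_ne_one hdet
  refine Fintype.linearIndependent_iff.mpr fun c hc => ?_
  have h0 : Matrix.vecMul c ((A * Bl).map (localRing hM).subtype) = 0 := by
    rw [Matrix.map_mul, ← Matrix.vecMul_vecMul]
    have : Matrix.vecMul c (A.map (localRing hM).subtype) = 0 := by
      funext x
      have := congrArg (fun z : MonoidAlgebra ℂ G => z.coeff x) hc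
      simp only [MonoidAlgebra.coeff_sum, Finsupp.finsetSum_apply,
        MonoidAlgebra.coeff_smul_apply, MonoidAlgebra.coeff_zero, Finsupp.coe_zero, Pi.zero_apply,
        smul_eq_mul] at this
      simpa [Matrix.vecMul, dotProduct, A] using this
    rw [this, Matrix.zero_vecMul]
  exact congrFun (Matrix.eq_zero_of_vecMul_eq_zero hne h0)

theorem red_single (hM : IsPModular p M) (g : G) :
    red M (MonoidAlgebra.single g (1 : ℂ)) = MonoidAlgebra.single g (1 : kk M) := by
  refine MonoidAlgebra.ext (Finsupp.ext fun x => ?_)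
  rw [coeff_red, MonoidAlgebra.coeff_single, MonoidAlgebra.coeff_single, Finsupp.single_apply,
    Finsupp.single_apply]
  split_ifs
  exacts [resk_one hM, resk_zero hM]

/-- The dimension of the block algebra over `ℂ` is the sum of the squares of the degrees. -/
theorem finrank_range_idem (B : Set (IrrCharacter G)) :
    ((Module.finrank ℂ (LinearMap.range (LinearMap.mulLeft ℂ (idem B))) : ℕ) : ℂ) =
      ((∑ᶠ χ ∈ B, charDegree (χ : G → ℂ) ^ 2 : ℕ) : ℂ) := by
  have hid : IsIdempotentElem (LinearMap.mulLeft ℂ (idem B)) :=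
    LinearMap.ext fun z => by simp [← mul_assoc, idem_sq]
  rw [← (LinearMap.IsIdempotentElem.isProj_range _ hid).trace,
    LinearMap.trace_eq_matrix_trace ℂ (MonoidAlgebra.basis G ℂ), Matrix.trace]
  have hdiag : ∀ x : G, Matrix.diag (LinearMap.toMatrix (MonoidAlgebra.basis G ℂ)
      (MonoidAlgebra.basis G ℂ) (LinearMap.mulLeft ℂ (idem B))) x = blockCoeff B 1 := fun x => by
    rw [Matrix.diag, LinearMap.toMatrix_apply, MonoidAlgebra.basis_apply,
      LinearMap.mulLeft_apply]
    show (idem B * MonoidAlgebra.single x (1 : ℂ)).coeff x = _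
    rw [MonoidAlgebra.coeff_mul_single_apply, mul_one, mul_inv_cancel, coeff_idem]
  rw [Finset.sum_congr rfl fun x _ => hdiag x, Finset.sum_const, Finset.card_univ, nsmul_eq_mul,
    blockCoeff, ← mul_assoc, Nat.card_eq_fintype_card,
    mul_inv_cancel₀ (by exact_mod_cast Fintype.card_ne_zero), one_mul,
    BlockTheoryIdem.finsum_mem_eq_sum, BlockTheoryIdem.finsum_mem_eq_sum, Nat.cast_sum]
  refine Finset.sum_congr rfl fun χ _ => ?_
  have h1 : (χ : G → ℂ) 1 = (charDegree (χ : G → ℂ) : ℂ) :=
    Cfsg.Agent.CharAverage.irr_apply_one χ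
  push_cast
  rw [h1, Complex.conj_natCast]
  ring

/-- The dimension over the residue field is at most that over `ℂ`. -/
theorem finrank_red_le (hM : IsPModular p M) {B : Set (IrrCharacter G)} (hB : IsPBlock M B) :
    Module.finrank (kk M) (LinearMap.range (LinearMap.mulLeft (kk M) (red M (idem B)))) ≤
      ∑ᶠ χ ∈ B, charDegree (χ : G → ℂ) ^ 2 := by
  have hr : LinearMap.range (LinearMap.mulLeft (kk M) (red M (idem B))) =
      Submodule.span (kk M)
        (Set.range fun g : G => red M (idem B) * MonoidAlgebra.single g (1 : kk M)) := by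
    rw [LinearMap.range_eq_map, ← (MonoidAlgebra.basis G (kk M)).span_eq, Submodule.map_span,
      ← Set.range_comp]
    simp only [Function.comp_def, MonoidAlgebra.basis_apply, LinearMap.mulLeft_apply]
  rw [hr]
  obtain ⟨b, hbs, hbspan, hbli⟩ := exists_linearIndependent (kk M)
    (Set.range fun g : G => red M (idem B) * MonoidAlgebra.single g (1 : kk M))
  haveI : Fintype b := ((Set.finite_range _).subset hbs).fintype
  rw [← hbspan, finrank_span_set_eq_card hbli, Set.toFinset_card]
  choose g hg using fun i : b => hbs i.2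
  have hint : ∀ i : b, IsInt M (idem B * MonoidAlgebra.single (g i) (1 : ℂ)) := fun i =>
    IsInt.mul hM (isInt_idem hM hB) (isInt_single hM _ (localRing hM).one_mem)
  have hli : LinearIndependent ℂ fun i : b => idem B * MonoidAlgebra.single (g i) (1 : ℂ) := by
    refine linearIndependent_lift hM _ hint ?_
    have : (fun i : b => red M (idem B * MonoidAlgebra.single (g i) (1 : ℂ))) = Subtype.val :=
      funext fun i => by
        rw [red_mul hM (isInt_idem hM hB) (isInt_single hM _ (localRing hM).one_mem),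
          red_single hM]
        exact hg i
    rw [this]
    exact hbli
  have hli' : LinearIndependent ℂ fun i : b =>
      (⟨idem B * MonoidAlgebra.single (g i) (1 : ℂ), LinearMap.mem_range_self
        (LinearMap.mulLeft ℂ (idem B)) _⟩ :
        LinearMap.range (LinearMap.mulLeft ℂ (idem B))) :=
    LinearIndependent.of_comp (Submodule.subtype _) hli
  refine hli'.fintype_card_le_finrank.trans (le_of_eq ?_)
  exact_mod_cast finrank_range_idem B

end Span

section Orbit

variable {p : ℕ} [Fact p.Prime] {k : Type*} [Field k] [CharP k p]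
variable {G : Type*} [Group G] [Fintype G] (P : Subgroup G)

/-- Two sided multiplication by a subgroup. -/
@[instance_reducible]
def twoSided (P : Subgroup G) : MulAction (P × P) G where
  smul r x := (r.1 : G) * x * (r.2 : G)⁻¹
  one_smul x := show ((1 : P) : G) * x * ((1 : P) : G)⁻¹ = x by simp
  mul_smul r s x := show ((r.1 * s.1 : P) : G) * x * ((r.2 * s.2 : P) : G)⁻¹ =
      (r.1 : G) * ((s.1 : G) * x * (s.2 : G)⁻¹) * (r.2 : G)⁻¹ by
    push_cast; group

attribute [local instance] twoSided

theorem twoSided_smul (r : P × P) (x : G) : r • x = (r.1 : G) * x * (r.2 : G)⁻¹ := rfl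

/-- The linear maps of two sided multiplication. -/
noncomputable def lr (P : Subgroup G) : P × P →* Module.End k (MonoidAlgebra k G) where
  toFun r := (LinearMap.mulLeft k (MonoidAlgebra.single (r.1 : G) 1)) ∘ₗ
    (LinearMap.mulRight k (MonoidAlgebra.single (r.2 : G)⁻¹ 1))
  map_one' := LinearMap.ext fun z => by
    simp [← MonoidAlgebra.one_def]
  map_mul' r s := LinearMap.ext fun z => by
    simp [Module.End.mul_apply, mul_assoc, MonoidAlgebra.single_mul_single]
    rw [← mul_assoc (MonoidAlgebra.single (r.1 : G) (1 : k)),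
      MonoidAlgebra.single_mul_single, one_mul]

theorem lr_apply (r : P × P) (z : MonoidAlgebra k G) :
    lr P r z = MonoidAlgebra.single (r.1 : G) 1 * (z * MonoidAlgebra.single (r.2 : G)⁻¹ 1) := rfl

theorem coeff_lr (r : P × P) (z : MonoidAlgebra k G) (x : G) :
    (lr P r z).coeff x = z.coeff ((r.1 : G)⁻¹ * x * (r.2 : G)) := by
  rw [lr_apply, MonoidAlgebra.coeff_single_mul_apply, MonoidAlgebra.coeff_mul_single_apply,
    one_mul, mul_one, inv_inv]

theorem lr_single (r : P × P) (x : G) :
    lr P r (MonoidAlgebra.single x (1 : k)) = MonoidAlgebra.single (r • x) 1 := by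
  rw [lr_apply, MonoidAlgebra.single_mul_single, MonoidAlgebra.single_mul_single, twoSided_smul,
    one_mul, one_mul, mul_assoc]

theorem coeff_lr_smul (r : P × P) (z : MonoidAlgebra k G) (x : G) :
    (lr P r z).coeff (r • x) = z.coeff x := by
  rw [coeff_lr, twoSided_smul]
  congr 1
  group

variable {E : MonoidAlgebra k G}

theorem lr_idem (hEc : ∀ z, E * z = z * E) (r : P × P) (z : MonoidAlgebra k G) :
    lr P r (E * z) = E * lr P r z := by
  simp only [lr_apply, ← mul_assoc]
  rw [hEc (MonoidAlgebra.single (r.1 : G) 1)]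

/-- A block image of the sum over a double coset. -/
noncomputable def osum (E : MonoidAlgebra k G) (P : Subgroup G) (x : G) : MonoidAlgebra k G :=
  E * ∑ w : MulAction.orbit (P × P) x, MonoidAlgebra.single (w : G) (1 : k)

/-- An invariant element is killed by the idempotent when all double cosets it meets are. -/
theorem mul_eq_zero_of_osum (m : MonoidAlgebra k G)
    (hm : ∀ (r : P × P) x, m.coeff (r • x) = m.coeff x)
    (h : ∀ x, m.coeff x ≠ 0 → osum E P x = 0) : E * m = 0 := by
  have hdec : m = ∑ x : G, m.coeff x • MonoidAlgebra.single x (1 : k) := by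
    refine MonoidAlgebra.ext (Finsupp.ext fun y => ?_)
    simp
  rw [hdec, ← Finset.sum_fiberwise Finset.univ (Quotient.mk (MulAction.orbitRel (P × P) G)),
    Finset.mul_sum]
  refine Finset.sum_eq_zero fun o _ => ?_
  induction o using Quotient.inductionOn with
  | h x =>
    have hmem : ∀ b, b ∈ Finset.univ.filter
        (fun b => Quotient.mk (MulAction.orbitRel (P × P) G) b = Quotient.mk _ x) ↔
        b ∈ MulAction.orbit (P × P) x := fun b => by
      simp [Quotient.eq, MulAction.orbitRel_apply]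
    rw [Finset.sum_congr rfl fun b hb => show m.coeff b • MonoidAlgebra.single b (1 : k) =
        m.coeff x • MonoidAlgebra.single b (1 : k) by
      obtain ⟨r, rfl⟩ := (hmem b).mp hb
      rw [hm], ← Finset.smul_sum, mul_smul_comm,
      Finset.sum_subtype _ hmem (fun b => MonoidAlgebra.single b (1 : k))]
    by_cases hx : m.coeff x = 0
    · rw [hx, zero_smul]
    · rw [show E * ∑ w : MulAction.orbit (P × P) x, MonoidAlgebra.single (w : G) (1 : k) = 0 from
        h x hx, smul_zero]

theorem exists_osum_ne (hEE : E * E = E) (hEc : ∀ z, E * z = z * E) (hE0 : E ≠ 0)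
    (hP : IsPGroup p (P × P)) : ∃ x, osum E P x ≠ 0 := by
  obtain ⟨w, hwU, hw0, hwfix⟩ := exists_fixed (k := k) hP (lr P)
    (LinearMap.range (LinearMap.mulLeft k E)).toAddSubgroup
    (by rintro r _ ⟨z, rfl⟩; exact ⟨_, (lr_idem P hEc r z).symm⟩)
    (v := E) ⟨1, by simp⟩ hE0
  obtain ⟨z₀, hz₀⟩ := hwU
  have hEw : E * w = w := by
    rw [← hz₀, LinearMap.mulLeft_apply, ← mul_assoc, hEE]
  have hinv : ∀ (r : P × P) x, w.coeff (r • x) = w.coeff x := fun r x => by
    conv_lhs => rw [← hwfix r]
    rw [coeff_lr_smul]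
  by_contra h
  push Not at h
  exact hw0 (hEw.symm.trans (mul_eq_zero_of_osum P w hinv fun x _ => h x))

theorem coeff_idem_smul (hEc : ∀ z, E * z = z * E) (r : P × P) (x t : G) :
    (E * MonoidAlgebra.single (r • x) (1 : k)).coeff (r • t) =
      (E * MonoidAlgebra.single x (1 : k)).coeff t := by
  rw [← lr_single, ← lr_idem P hEc, coeff_lr_smul]

/-- For a surviving double coset with least stabiliser, the block has a nonzero coefficient at a
point fixed by the stabiliser. -/
theorem exists_fixed_coeff (hEE : E * E = E) (hEc : ∀ z, E * z = z * E)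
    (hP : IsPGroup p (P × P)) {x₀ : G} (hx₀ : osum E P x₀ ≠ 0)
    (hmin : ∀ x, osum E P x ≠ 0 → Nat.card (MulAction.stabilizer (P × P) x₀) ≤
      Nat.card (MulAction.stabilizer (P × P) x)) :
    ∃ z : G, (∀ r ∈ MulAction.stabilizer (P × P) x₀, r • z = z) ∧
      (E * MonoidAlgebra.single x₀ (1 : k)).coeff z ≠ 0 := by
  by_contra hno
  push Not at hno
  have hc : ∀ t, (osum E P x₀).coeff t = ∑ w : MulAction.orbit (P × P) x₀,
      (E * MonoidAlgebra.single (w : G) (1 : k)).coeff t := fun t => by
    rw [osum, Finset.mul_sum, MonoidAlgebra.coeff_sum, Finsupp.finsetSum_apply]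
  refine hx₀ ?_
  have hEm : E * osum E P x₀ = osum E P x₀ := by rw [osum, ← mul_assoc, hEE]
  rw [← hEm]
  refine mul_eq_zero_of_osum P _ (fun r t => ?_) fun t ht => ?_
  · rw [hc, hc, ← Equiv.sum_comp (MulAction.toPerm r)]
    exact Finset.sum_congr rfl fun w _ => coeff_idem_smul P hEc r w t
  by_contra hst
  refine ht ?_
  rw [hc]
  set T := MulAction.stabilizer (P × P) t with hT
  have hTp : IsPGroup p T := hP.to_subgroup T
  letI : MulAction T (MulAction.orbit (P × P) x₀) :=
    MulAction.compHom _ T.subtype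
  have hinv : ∀ (r : T) (w : MulAction.orbit (P × P) x₀),
      (E * MonoidAlgebra.single ((r • w : MulAction.orbit (P × P) x₀) : G) (1 : k)).coeff t =
        (E * MonoidAlgebra.single (w : G) (1 : k)).coeff t := fun r w => by
    have h1 := coeff_idem_smul (k := k) P hEc (r : P × P) (w : G) t
    rw [MulAction.mem_stabilizer_iff.mp r.2] at h1
    exact h1
  rw [← Finset.sum_filter_add_sum_filter_not Finset.univ
    (fun w : MulAction.orbit (P × P) x₀ => ∀ r : T, r • w = w)]
  have h1 : ∀ w : MulAction.orbit (P × P) x₀, (∀ r : T, r • w = w) →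
      (E * MonoidAlgebra.single (w : G) (1 : k)).coeff t = 0 := by
    intro w hw
    obtain ⟨q, hq⟩ := w.2
    have hq' : q • x₀ = (w : G) := hq
    have hle : T ≤ MulAction.stabilizer (P × P) (w : G) := fun r hr =>
      MulAction.mem_stabilizer_iff.mpr (congrArg Subtype.val (hw ⟨r, hr⟩))
    have hcard : Nat.card (MulAction.stabilizer (P × P) (w : G)) =
        Nat.card (MulAction.stabilizer (P × P) x₀) := by
      rw [← hq', MulAction.stabilizer_smul_eq_stabilizer_map_conj,
        Subgroup.card_map_of_injective (MulEquiv.injective _)]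
    have heq : T = MulAction.stabilizer (P × P) (w : G) :=
      Subgroup.eq_of_le_of_card_ge hle (hcard.trans_le (hmin t hst))
    have h2 := coeff_idem_smul (k := k) P hEc q x₀ (q⁻¹ • t)
    rw [smul_inv_smul, hq'] at h2
    rw [h2]
    refine hno _ fun r hr => ?_
    have h3 : q * r * q⁻¹ ∈ T := by
      rw [heq, MulAction.mem_stabilizer_iff, mul_smul, mul_smul, ← hq', inv_smul_smul,
        MulAction.mem_stabilizer_iff.mp hr]
    rw [hT, MulAction.mem_stabilizer_iff, mul_smul, mul_smul] at h3
    conv_rhs => rw [← h3]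
    rw [inv_smul_smul]
  rw [Finset.sum_eq_zero fun w hw => h1 w (Finset.mem_filter.mp hw).2, zero_add]
  let Y : Set (MulAction.orbit (P × P) x₀) := {w | ¬ ∀ r : T, r • w = w}
  rw [Finset.sum_subtype (p := fun w => w ∈ Y) _ (fun w => by simp [Y])]
  letI : MulAction T Y :=
    { smul := fun r w => ⟨r • (w : MulAction.orbit (P × P) x₀), fun h => w.2 fun u => by
        have h2 := h (r * u * r⁻¹)
        rw [mul_smul, inv_smul_smul, mul_smul] at h2
        exact MulAction.injective r h2⟩
      one_smul := fun w => Subtype.ext (one_smul T (w : MulAction.orbit (P × P) x₀))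
      mul_smul := fun r u w => Subtype.ext (mul_smul r u (w : MulAction.orbit (P × P) x₀)) }
  refine sum_nonfixed (R := T) hTp _ (fun r w => hinv r w) fun w => ?_
  by_contra h
  push Not at h
  exact w.2 fun r => congrArg Subtype.val (h r)

theorem linearIndependent_orbit (hEc : ∀ z, E * z = z * E)
    (hP : IsPGroup p (P × P)) {x₀ : G} (hx₀ : osum E P x₀ ≠ 0) :
    LinearIndependent k
      fun w : MulAction.orbit (P × P) x₀ => E * MonoidAlgebra.single (w : G) (1 : k) := by
  rw [Fintype.linearIndependent_iff]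
  by_contra hdep
  push Not at hdep
  obtain ⟨c, hc, hc0⟩ := hdep
  let ρ : P × P →* Module.End k (MulAction.orbit (P × P) x₀ → k) :=
    { toFun := fun r => LinearMap.funLeft k k fun w : MulAction.orbit (P × P) x₀ => r⁻¹ • w
      map_one' := LinearMap.ext fun f => funext fun w => by simp [LinearMap.funLeft]
      map_mul' := fun r t => LinearMap.ext fun f => funext fun w => by
        simp [LinearMap.funLeft, Module.End.mul_apply, mul_smul] }
  have hcomm : ∀ (r : P × P) (f : MulAction.orbit (P × P) x₀ → k),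
      ∑ w, (ρ r f) w • (E * MonoidAlgebra.single (w : G) (1 : k)) =
        lr P r (∑ w, f w • (E * MonoidAlgebra.single (w : G) (1 : k))) := by
    intro r f
    rw [map_sum, ← Equiv.sum_comp (MulAction.toPerm r)]
    refine Finset.sum_congr rfl fun w _ => ?_
    rw [map_smul, lr_idem P hEc, lr_single]
    show f (r⁻¹ • r • w) • _ = _
    rw [inv_smul_smul]
    rfl
  obtain ⟨f, hfU, hf0, hff⟩ := exists_fixed (k := k) hP ρ
    { carrier := {f | ∑ w, f w • (E * MonoidAlgebra.single (w : G) (1 : k)) = 0}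
      add_mem' := fun {f g} hf hg => by
        show ∑ w, (f w + g w) • (E * MonoidAlgebra.single (w : G) (1 : k)) = 0
        simp only [add_smul, Finset.sum_add_distrib]
        rw [show ∑ w, f w • (E * MonoidAlgebra.single (w : G) (1 : k)) = 0 from hf,
          show ∑ w, g w • (E * MonoidAlgebra.single (w : G) (1 : k)) = 0 from hg, add_zero]
      zero_mem' := by
        show ∑ w : MulAction.orbit (P × P) x₀,
          (0 : k) • (E * MonoidAlgebra.single (w : G) (1 : k)) = 0
        simp
      neg_mem' := fun {f} hf => by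
        show ∑ w, (-f w) • (E * MonoidAlgebra.single (w : G) (1 : k)) = 0
        simp only [neg_smul, Finset.sum_neg_distrib]
        rw [show ∑ w, f w • (E * MonoidAlgebra.single (w : G) (1 : k)) = 0 from hf, neg_zero] }
    (fun r f hf => by
      show _ = _
      rw [hcomm, hf, map_zero])
    (v := c) hc (fun h => by obtain ⟨i, hi⟩ := hc0; exact hi (congrFun h i))
  set w₀ : MulAction.orbit (P × P) x₀ := ⟨x₀, MulAction.mem_orbit_self x₀⟩
  have hfc : ∀ w, f w = f w₀ := fun w => by
    obtain ⟨r, hr⟩ := w.2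
    conv_lhs => rw [← hff r]
    show f (r⁻¹ • w) = _
    congr 1
    refine Subtype.ext ?_
    show r⁻¹ • (w : G) = x₀
    rw [← hr]
    exact inv_smul_smul r x₀
  have hne : f w₀ ≠ 0 := fun h => hf0 (funext fun w => (hfc w).trans h)
  refine hx₀ ?_
  have h2 : ∑ w, f w • (E * MonoidAlgebra.single (w : G) (1 : k)) = 0 := hfU
  rw [Finset.sum_congr rfl fun w _ => by rw [hfc w], ← Finset.smul_sum, ← Finset.mul_sum] at h2
  exact (smul_eq_zero.mp h2).resolve_left hne

/-- Every twisted diagonal seen by the block fixes a point of the orbit. -/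
theorem exists_point (hEc : ∀ z, E * z = z * E) (hP : IsPGroup p (P × P)) {x₀ : G}
    (hx₀ : osum E P x₀ ≠ 0)
    (hspan : ∀ g : G, E * MonoidAlgebra.single g (1 : k) ∈ Submodule.span k
      (Set.range fun w : MulAction.orbit (P × P) x₀ => E * MonoidAlgebra.single (w : G) (1 : k)))
    {Q : Subgroup G} (hQP : Q ≤ P) {c : G} (hcC : c ∈ Subgroup.centralizer (Q : Set G))
    (hcne : E.coeff c ≠ 0) {g : G} (hg : ∀ q ∈ Q, g⁻¹ * q * g ∈ P) :
    ∃ w ∈ MulAction.orbit (P × P) x₀, w * g⁻¹ ∈ Subgroup.centralizer (Q : Set G) := by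
  by_contra hno
  push Not at hno
  let R : Subgroup (P × P) :=
    { carrier := {r | (r.1 : G) ∈ Q ∧ (r.2 : G) = g⁻¹ * r.1 * g}
      one_mem' := ⟨by simp [one_mem], by simp⟩
      mul_mem' := fun {r t} hr ht => ⟨by simpa using mul_mem hr.1 ht.1, by
        show ((r.2 * t.2 : P) : G) = g⁻¹ * ((r.1 * t.1 : P) : G) * g
        push_cast
        rw [hr.2, ht.2]; group⟩
      inv_mem' := fun {r} hr => ⟨by simpa using inv_mem hr.1, by
        show ((r.2⁻¹ : P) : G) = g⁻¹ * ((r.1⁻¹ : P) : G) * g
        push_cast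
        rw [hr.2]; group⟩ }
  have hind := linearIndependent_orbit P hEc hP hx₀
  obtain ⟨f, hf⟩ := (Submodule.mem_span_range_iff_exists_fun k).mp (hspan g)
  letI : MulAction R (MulAction.orbit (P × P) x₀) := MulAction.compHom _ R.subtype
  have hRg : ∀ r ∈ R, r • g = g := fun r hr => by
    rw [twoSided_smul, hr.2]; group
  have hRc : ∀ r ∈ R, r • (c * g) = c * g := fun r hr => by
    rw [twoSided_smul, hr.2, ← mul_assoc, Subgroup.mem_centralizer_iff.mp hcC _ hr.1]
    group
  have hfinv : ∀ (r : R) (w : MulAction.orbit (P × P) x₀), f (r • w) = f w := by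
    intro r
    have h1 : lr P (r : P × P) (E * MonoidAlgebra.single g (1 : k)) =
        E * MonoidAlgebra.single g (1 : k) := by
      rw [lr_idem P hEc, lr_single, hRg r r.2]
    rw [← hf, map_sum] at h1
    simp only [map_smul, lr_idem P hEc, lr_single] at h1
    have h2 : ∑ w : MulAction.orbit (P × P) x₀,
        (f w - f (r⁻¹ • w)) • (E * MonoidAlgebra.single (w : G) (1 : k)) = 0 := by
      simp only [sub_smul, Finset.sum_sub_distrib]
      rw [sub_eq_zero, ← Equiv.sum_comp (MulAction.toPerm r)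
        (fun w : MulAction.orbit (P × P) x₀ => f (r⁻¹ • w) •
          (E * MonoidAlgebra.single (w : G) (1 : k))), ← h1]
      refine Finset.sum_congr rfl fun w _ => ?_
      simp only [MulAction.toPerm_apply, inv_smul_smul]
      rfl
    intro w
    have := sub_eq_zero.mp (Fintype.linearIndependent_iff.mp hind _ h2 (r • w))
    rwa [inv_smul_smul] at this
  have hRp : IsPGroup p R := hP.to_subgroup R
  have hzero : (E * MonoidAlgebra.single g (1 : k)).coeff (c * g) = 0 := by
    rw [← hf, MonoidAlgebra.coeff_sum, Finsupp.finsetSum_apply]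
    refine sum_nonfixed (R := R) hRp _ (fun r w => ?_) fun w => ?_
    · rw [MonoidAlgebra.coeff_smul_apply, MonoidAlgebra.coeff_smul_apply, hfinv]
      congr 1
      have h1 := coeff_idem_smul (k := k) P hEc (r : P × P) (w : G) (c * g)
      rw [hRc r r.2] at h1
      exact h1
    · by_contra hfixw
      push Not at hfixw
      refine hno w w.2 (Subgroup.mem_centralizer_iff.mpr fun q hq => ?_)
      have := congrArg Subtype.val (hfixw ⟨(⟨q, hQP hq⟩, ⟨_, hg q hq⟩), hq, rfl⟩)
      change q * (w : G) * (g⁻¹ * q * g)⁻¹ = w at this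
      conv_rhs => rw [← this]
      group
  rw [MonoidAlgebra.coeff_mul_single_apply, mul_one, mul_inv_cancel_right] at hzero
  exact hcne hzero

end Orbit

section Block

variable {p : ℕ} [Fact p.Prime] {M : Ideal AlgInt} {G : Type*} [Group G] [Fintype G]
variable [M.IsMaximal]

attribute [local instance] twoSided

theorem red_idem_comm (hM : IsPModular p M) {B : Set (IrrCharacter G)} (hB : IsPBlock M B)
    (z : MonoidAlgebra (kk M) G) : red M (idem B) * z = z * red M (idem B) := by
  have hs : ∀ g : G, red M (idem B) * MonoidAlgebra.single g (1 : kk M) =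
      MonoidAlgebra.single g (1 : kk M) * red M (idem B) := fun g => by
    rw [← red_single hM, ← red_mul hM (isInt_idem hM hB) (isInt_single hM g (localRing hM).one_mem),
      (isCen_idem B).comm, red_mul hM (isInt_single hM g (localRing hM).one_mem) (isInt_idem hM hB)]
  induction z using MonoidAlgebra.induction_on with
  | of g => exact hs g
  | add x y hx hy => rw [mul_add, add_mul, hx, hy]
  | smul c x hx => rw [mul_smul_comm, smul_mul_assoc, hx]

/-- The structure of a block of least dimension: some double coset of the Sylow subgroup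
contains a representative of every twisted diagonal subgroup on which the block lives. -/
theorem exists_orbit (hM : IsPModular p M) {B : Set (IrrCharacter G)} (hB : IsPBlock M B)
    {D : Subgroup G} (hD : IsDefectGroup p M B D) (P : Sylow p G) {a d : ℕ}
    (ha : Nat.card (P : Subgroup G) = p ^ a) (hd : Nat.card D = p ^ d)
    (hmin : ∑ᶠ χ ∈ B, charDegree (χ : G → ℂ) ^ 2 = p ^ (2 * a - d)) :
    ∃ c₀ : G,
      (∀ h ∈ (P : Subgroup G), c₀⁻¹ * h * c₀ ∈ (P : Subgroup G) → c₀ * h = h * c₀) ∧
      ∀ (Q : Subgroup G), Q ≤ (P : Subgroup G) →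
        (∃ c ∈ Cen Q, ¬ MemLocalIdeal M (blockCoeff B c)) →
        ∀ g : G, (∀ q ∈ Q, g⁻¹ * q * g ∈ (P : Subgroup G)) →
          ∃ u ∈ (P : Subgroup G), ∃ v ∈ (P : Subgroup G), ∃ c ∈ Cen Q, c * g = u * c₀ * v := by
  haveI : CharP (kk M) p := charP_kk hM
  set P₀ : Subgroup G := (P : Subgroup G)
  have hRp : IsPGroup p (P₀ × P₀) :=
    IsPGroup.of_card (n := a + a) (by rw [Nat.card_prod, ha, pow_add])
  set E := red M (idem B) with hE
  have hE0 : E ≠ 0 := fun h => by
    have hs := (red_eq_zero_iff hM (isInt_idem hM hB)).mp h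
    exact not_small_cut_defect hM hB hD (small_cut_of_small hM D hs)
  have hEE : E * E = E := by
    rw [hE, ← red_mul hM (isInt_idem hM hB) (isInt_idem hM hB), idem_sq]
  have hEc : ∀ z, E * z = z * E := red_idem_comm hM hB
  have hEne : ∀ x, E.coeff x ≠ 0 ↔ ¬ MemLocalIdeal M (blockCoeff B x) := fun x => by
    rw [hE, coeff_red, coeff_idem, Ne, resk_eq_zero_iff hM (blockCoeff_mem hM hB _)]
  obtain ⟨x₀, hx₀, hx₀min⟩ := Set.exists_min_image {x : G | osum E P₀ x ≠ 0}
    (fun x => Nat.card (MulAction.stabilizer (P₀ × P₀) x)) (Set.toFinite _)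
    (exists_osum_ne P₀ hEE hEc hE0 hRp)
  obtain ⟨z₁, hz₁fix, hz₁⟩ := exists_fixed_coeff P₀ hEE hEc hRp hx₀ hx₀min
  set S := MulAction.stabilizer (P₀ × P₀) x₀ with hS
  set X := MulAction.orbit (P₀ × P₀) x₀ with hX
  set Q₀ : Subgroup G := S.map (P₀.subtype.comp (MonoidHom.fst P₀ P₀)) with hQ₀
  have hQ₀P : Q₀ ≤ P₀ := by rintro _ ⟨r, -, rfl⟩; exact r.1.2
  have hSinj : Function.Injective fun r : S => ((r : P₀ × P₀).1 : G) := by
    rintro ⟨⟨u, v⟩, hr⟩ ⟨⟨u', v'⟩, hr'⟩ h
    obtain rfl : u = u' := Subtype.ext h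
    rw [hS, MulAction.mem_stabilizer_iff, twoSided_smul] at hr hr'
    have := hr.trans hr'.symm
    simp only [mul_right_inj, inv_inj, SetLike.coe_eq_coe] at this
    rw [Subtype.ext_iff, Prod.ext_iff]
    exact ⟨rfl, this⟩
  have hQ₀card : Nat.card Q₀ = Nat.card S := by
    refine (Nat.card_congr (Equiv.ofBijective
      (fun r : S => (⟨((r : P₀ × P₀).1 : G), ⟨r.1, r.2, rfl⟩⟩ : Q₀)) ⟨?_, ?_⟩)).symm
    · exact fun r r' h => hSinj (show ((r : P₀ × P₀).1 : G) = ((r' : P₀ × P₀).1 : G) from
        congrArg (Subtype.val (p := (· ∈ Q₀))) h)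
    · rintro ⟨_, r, hr, rfl⟩; exact ⟨⟨r, hr⟩, rfl⟩
  have hcoef : (E * MonoidAlgebra.single x₀ (1 : kk M)).coeff z₁ = E.coeff (z₁ * x₀⁻¹) := by
    rw [MonoidAlgebra.coeff_mul_single_apply, mul_one]
  have hzC : z₁ * x₀⁻¹ ∈ Cen Q₀ := by
    refine Subgroup.mem_centralizer_iff.mpr ?_
    rintro _ ⟨r, hr, rfl⟩
    have e1 := MulAction.mem_stabilizer_iff.mp hr
    have e2 := hz₁fix r hr
    rw [twoSided_smul] at e1 e2
    show (r.1 : G) * (z₁ * x₀⁻¹) = z₁ * x₀⁻¹ * (r.1 : G)
    calc (r.1 : G) * (z₁ * x₀⁻¹)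
        = ((r.1 : G) * z₁ * (r.2 : G)⁻¹) * ((r.1 : G) * x₀ * (r.2 : G)⁻¹)⁻¹ * (r.1 : G) := by group
      _ = z₁ * x₀⁻¹ * (r.1 : G) := by rw [e1, e2]
  have hzne : E.coeff (z₁ * x₀⁻¹) ≠ 0 := hcoef ▸ hz₁
  have hSle : Nat.card S ≤ p ^ d := by
    rw [← hQ₀card, ← hd]
    refine card_le_of_conjLe ((not_small_cut_iff hM hB hD (P.2.to_le hQ₀P)).mp fun hs => ?_)
    have := hs (z₁ * x₀⁻¹)
    rw [coeff_cut, if_pos hzC, coeff_idem] at this
    exact (hEne _).mp hzne this
  have hXS : Nat.card X * Nat.card S = p ^ (2 * a) := by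
    rw [hX, hS, ← Nat.card_prod,
      Nat.card_congr (MulAction.orbitProdStabilizerEquivGroup (P₀ × P₀) x₀), Nat.card_prod, ha,
      ← pow_add, two_mul]
  have hind := linearIndependent_orbit P₀ hEc hRp hx₀
  set U := LinearMap.range (LinearMap.mulLeft (kk M) E) with hUdef
  have hle : Submodule.span (kk M)
      (Set.range fun w : X => E * MonoidAlgebra.single (w : G) (1 : kk M)) ≤ U :=
    Submodule.span_le.mpr (by rintro _ ⟨w, rfl⟩; exact ⟨_, rfl⟩)
  have hUd : Module.finrank (kk M) U ≤ p ^ (2 * a - d) := hmin ▸ finrank_red_le hM hB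
  have hXle : Nat.card X ≤ p ^ (2 * a - d) := by
    refine le_trans ?_ hUd
    rw [Nat.card_eq_fintype_card, ← finrank_span_eq_card hind]
    exact Submodule.finrank_mono hle
  have hda : d ≤ 2 * a := by
    have hDle : Nat.card D ≤ Nat.card P₀ := by
      obtain ⟨Q, hQ⟩ := (isPGroup_of_isDefectGroup hD).exists_le_sylow
      refine (Subgroup.card_le_of_le hQ).trans_eq ?_
      rw [Q.card_eq_multiplicity]
      exact P.card_eq_multiplicity.symm
    rw [hd, ha] at hDle
    have := (Nat.pow_le_pow_iff_right (Fact.out : p.Prime).one_lt).mp hDle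
    omega
  have hXeq : Nat.card X = p ^ (2 * a - d) := by
    have h : p ^ (2 * a - d) * p ^ d = p ^ (2 * a) := by
      rw [← pow_add, Nat.sub_add_cancel hda]
    refine le_antisymm hXle (Nat.le_of_mul_le_mul_right ?_ (Nat.card_pos (α := S)))
    rw [hXS, ← h]
    exact Nat.mul_le_mul_left _ hSle
  have hspan : ∀ g : G, E * MonoidAlgebra.single g (1 : kk M) ∈ Submodule.span (kk M)
      (Set.range fun w : X => E * MonoidAlgebra.single (w : G) (1 : kk M)) := by
    intro g
    rw [Submodule.eq_of_le_of_finrank_le hle (by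
      rw [finrank_span_eq_card hind, ← Nat.card_eq_fintype_card, hXeq]
      exact hUd)]
    exact ⟨_, rfl⟩
  have key : ∀ (Q : Subgroup G), Q ≤ P₀ →
      (∃ c ∈ Cen Q, ¬ MemLocalIdeal M (blockCoeff B c)) →
      ∀ g : G, (∀ q ∈ Q, g⁻¹ * q * g ∈ P₀) → ∃ w ∈ X, w * g⁻¹ ∈ Cen Q := by
    rintro Q hQP ⟨c, hcC, hcne⟩ g hg
    exact exists_point P₀ hEc hRp hx₀ hspan hQP hcC ((hEne c).mpr hcne) hg
  obtain ⟨c₀, hc₀X, hc₀C⟩ :=
    key Q₀ hQ₀P ⟨_, hzC, (hEne _).mp hzne⟩ 1 fun q hq => by simpa using hQ₀P hq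
  rw [inv_one, mul_one] at hc₀C
  have hc₀card : Nat.card (MulAction.stabilizer (P₀ × P₀) c₀) = Nat.card S := by
    obtain ⟨r₀, hr₀⟩ := hc₀X
    rw [← hr₀, MulAction.stabilizer_smul_eq_stabilizer_map_conj,
      Subgroup.card_map_of_injective (MulEquiv.injective _)]
  let Δ : Q₀ →* P₀ × P₀ := (Subgroup.inclusion hQ₀P).prod (Subgroup.inclusion hQ₀P)
  have hΔ : Δ.range = MulAction.stabilizer (P₀ × P₀) c₀ := by
    have hsub : Δ.range ≤ MulAction.stabilizer (P₀ × P₀) c₀ := by
      rintro _ ⟨q, rfl⟩
      rw [MulAction.mem_stabilizer_iff, twoSided_smul]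
      show (q : G) * c₀ * (q : G)⁻¹ = c₀
      rw [Subgroup.mem_centralizer_iff.mp hc₀C (q : G) q.2, mul_inv_cancel_right]
    refine Subgroup.eq_of_le_of_card_ge hsub ?_
    rw [hc₀card, ← hQ₀card]
    exact (Nat.card_congr (MonoidHom.ofInjective (f := Δ) fun q q' h => Subtype.ext
      (congrArg (fun t : P₀ × P₀ => (t.1 : G)) h)).toEquiv).le
  refine ⟨c₀, fun h hh hh' => ?_, fun Q hQP hQB g hg => ?_⟩
  · have hr : ((⟨h, hh⟩, ⟨_, hh'⟩) : P₀ × P₀) ∈ MulAction.stabilizer (P₀ × P₀) c₀ := by
      rw [MulAction.mem_stabilizer_iff, twoSided_smul]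
      show h * c₀ * (c₀⁻¹ * h * c₀)⁻¹ = c₀
      group
    rw [← hΔ] at hr
    obtain ⟨q, hq⟩ := hr
    have hqh : (q : G) = h := congrArg (fun t : P₀ × P₀ => (t.1 : G)) hq
    exact (hqh ▸ Subgroup.mem_centralizer_iff.mp hc₀C (q : G) q.2).symm
  · obtain ⟨w, hwX, hw⟩ := key Q hQP hQB g hg
    have hwc : w ∈ MulAction.orbit (P₀ × P₀) c₀ := by
      rw [MulAction.orbit_eq_iff.mpr hc₀X]; exact hwX
    obtain ⟨r, hr⟩ := hwc
    have hr' : (r.1 : G) * c₀ * (r.2 : G)⁻¹ = w := hr
    exact ⟨r.1, r.1.2, (r.2 : G)⁻¹, inv_mem r.2.2, w * g⁻¹, hw, by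
      rw [inv_mul_cancel_right, hr']⟩

end Block

end Cfsg.Agent.BlockMinDim82
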