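import Mathlib
import Cfsg.Prelude.Def_SolvableStructure
import Cfsg.Agent.Lib.HallCore

/-!
Basic theory of supersolvable groups (`Cfsg.IsSupersolvable`).
-/

set_option autoImplicit false
set_option linter.unusedVariables false
set_option linter.unusedSectionVars false
set_option linter.style.haveILetI false

namespace Cfsg.Agent.Supersolvable

open Cfsg Subgroup
open scoped commutatorElement

universe u v

variable {G : Type u} [Group G] {Q : Type v} [Group Q]

theorem of_subsingleton [Subsingleton G] : IsSupersolvable G :=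
  ⟨0, fun _ => ⊥, rfl, Subsingleton.elim _ _, fun _ => inferInstance, fun i => i.elim0⟩

theorem of_surjective (f : G →* Q) (hf : Function.Surjective f) (h : IsSupersolvable G) :
    IsSupersolvable Q := by
  obtain ⟨n, H, h0, hl, hn, hs⟩ := h
  refine ⟨n, fun i => (H i).map f, ?_, ?_, fun i => (hn i).map f hf, fun i => ?_⟩
  · simp [h0]
  · simp [hl, Subgroup.map_top_of_surjective f hf]
  · obtain ⟨g, hg⟩ := hs i
    exact ⟨f g, by simp only [hg, Subgroup.map_sup, MonoidHom.map_zpowers]⟩

theorem of_mulEquiv (e : G ≃* Q) (h : IsSupersolvable G) : IsSupersolvable Q :=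
  of_surjective e.toMonoidHom e.surjective h

theorem quotient (h : IsSupersolvable G) (N : Subgroup G) [N.Normal] : IsSupersolvable (G ⧸ N) :=
  of_surjective (QuotientGroup.mk' N) (QuotientGroup.mk'_surjective N) h

theorem step_isCyclic {A B : Subgroup G} [A.Normal] {g : G} (h : B = A ⊔ zpowers g) :
    IsCyclic (B.map (QuotientGroup.mk' A)) := by
  have : B.map (QuotientGroup.mk' A) = zpowers (QuotientGroup.mk' A g) := by
    rw [h, Subgroup.map_sup, MonoidHom.map_zpowers,
      (Subgroup.map_eq_bot_iff _).mpr (le_of_eq (QuotientGroup.ker_mk' A).symm), bot_sup_eq]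
  rw [this]
  infer_instance

theorem exists_step_of_isCyclic {A B : Subgroup G} [A.Normal] (h : A ≤ B)
    (hc : IsCyclic (B.map (QuotientGroup.mk' A))) : ∃ g : G, B = A ⊔ zpowers g := by
  obtain ⟨⟨z, hz⟩, hgen⟩ := hc.exists_zpow_surjective
  obtain ⟨g, hgB, rfl⟩ := hz
  refine ⟨g, le_antisymm (fun b hb => ?_) (sup_le h ((zpowers_le).mpr hgB))⟩
  obtain ⟨k, hk⟩ := hgen ⟨QuotientGroup.mk' A b, b, hb, rfl⟩
  have hk' : QuotientGroup.mk' A (g ^ k) = QuotientGroup.mk' A b := by
    rw [map_zpow]; exact congrArg Subtype.val hk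
  obtain ⟨a, ha, hab⟩ := (QuotientGroup.mk'_eq_mk' A).mp hk'
  rw [← hab]
  exact mul_mem (mem_sup_right (zpow_mem (mem_zpowers g) k)) (mem_sup_left ha)

theorem of_injective (f : Q →* G) (hf : Function.Injective f) (h : IsSupersolvable G) :
    IsSupersolvable Q := by
  obtain ⟨n, H, h0, hl, hn, hs⟩ := h
  have hn' : ∀ i, ((H i).comap f).Normal := fun i => (hn i).comap f
  refine ⟨n, fun i => (H i).comap f, ?_, ?_, hn', fun i => ?_⟩
  · simp [h0, MonoidHom.comap_bot, (MonoidHom.ker_eq_bot_iff f).mpr hf]
  · simp [hl]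
  · obtain ⟨g, hg⟩ := hs i
    have := hn i.castSucc
    have := hn' i.castSucc
    have hle : (H i.castSucc).comap f ≤ (H i.succ).comap f :=
      comap_mono (hg.symm ▸ le_sup_left)
    refine exists_step_of_isCyclic hle ?_
    have : IsCyclic ((H i.succ).map (QuotientGroup.mk' (H i.castSucc))) := step_isCyclic hg
    let ψ : Q ⧸ (H i.castSucc).comap f →* G ⧸ H i.castSucc := QuotientGroup.map _ _ f le_rfl
    have hψ : Function.Injective ψ := by
      rw [← MonoidHom.ker_eq_bot_iff, eq_bot_iff]
      intro x hx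
      obtain ⟨x, rfl⟩ := QuotientGroup.mk_surjective x
      rw [MonoidHom.mem_ker, QuotientGroup.map_mk] at hx
      exact mem_bot.mpr ((QuotientGroup.eq_one_iff _).mpr ((QuotientGroup.eq_one_iff (f x)).mp hx))
    refine isCyclic_of_injective ((ψ.comp (Subgroup.subtype _)).codRestrict
      ((H i.succ).map (QuotientGroup.mk' (H i.castSucc))) ?_) ?_
    · rintro ⟨_, x, hx, rfl⟩
      exact ⟨f x, hx, rfl⟩
    · intro a b hab
      exact Subtype.ext (hψ (congrArg Subtype.val hab))

theorem subgroup (h : IsSupersolvable G) (K : Subgroup G) : IsSupersolvable K :=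
  of_injective K.subtype K.subtype_injective h

theorem of_ker_cyclic (f : G →* Q) (hf : Function.Surjective f) (hk : IsCyclic f.ker)
    (h : IsSupersolvable Q) : IsSupersolvable G := by
  obtain ⟨n, H, h0, hl, hn, hs⟩ := h
  refine ⟨n + 1, Fin.cons ⊥ (fun i => (H i).comap f), rfl, ?_, ?_, ?_⟩
  · rw [← Fin.succ_last, Fin.cons_succ, hl, comap_top]
  · intro i
    refine Fin.cases ?_ (fun j => ?_) i
    · rw [Fin.cons_zero]; infer_instance
    · rw [Fin.cons_succ]; exact (hn j).comap f
  · intro i
    refine Fin.cases ?_ (fun j => ?_) i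
    · obtain ⟨g, hg⟩ := (Subgroup.isCyclic_iff_exists_zpowers_eq_top f.ker).mp hk
      refine ⟨g, ?_⟩
      rw [Fin.castSucc_zero, Fin.cons_zero, Fin.cons_succ, h0, MonoidHom.comap_bot, bot_sup_eq, hg]
    · obtain ⟨q, hq⟩ := hs j
      obtain ⟨g, rfl⟩ := hf q
      refine ⟨g, ?_⟩
      rw [Fin.castSucc_succ, Fin.cons_succ, Fin.cons_succ, hq]
      rw [← MonoidHom.map_zpowers]
      conv_lhs => rw [← Subgroup.map_comap_eq_self_of_surjective hf (H j.castSucc), ← Subgroup.map_sup]
      rw [comap_map_eq, sup_eq_left.mpr]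
      exact le_trans (ker_le_comap f _) le_sup_left

theorem of_cyclic_normal (N : Subgroup G) [N.Normal] (hN : IsCyclic N)
    (h : IsSupersolvable (G ⧸ N)) : IsSupersolvable G :=
  of_ker_cyclic (QuotientGroup.mk' N) (QuotientGroup.mk'_surjective N)
    (by rw [QuotientGroup.ker_mk']; exact hN) h

/-- A subgroup of prime order is cyclic. -/
theorem isCyclic_of_prime {M : Subgroup G} (h : (Nat.card M).Prime) : IsCyclic M :=
  haveI : Fact (Nat.card M).Prime := ⟨h⟩
  isCyclic_of_prime_card rfl

theorem of_prime_normal (N : Subgroup G) [N.Normal] (hN : (Nat.card N).Prime)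
    (h : IsSupersolvable (G ⧸ N)) : IsSupersolvable G :=
  of_cyclic_normal N (isCyclic_of_prime hN) h

/-- A cyclic normal subgroup contains a normal subgroup of every prime order dividing it. -/
theorem exists_normal_prime_le_cyclic [Finite G] (C : Subgroup G) [C.Normal] (hC : IsCyclic C)
    {r : ℕ} (hr : r.Prime) (hd : r ∣ Nat.card C) :
    ∃ M : Subgroup G, M.Normal ∧ M ≤ C ∧ Nat.card M = r := by
  classical
  haveI : Fact r.Prime := ⟨hr⟩
  haveI : Fintype C := Fintype.ofFinite _
  obtain ⟨x, hx⟩ := exists_prime_orderOf_dvd_card' r hd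
  have hall : ∀ y : C, y ^ r = 1 → y ∈ zpowers x := by
    intro y hy
    have hsub : (Finset.univ.filter fun z : C => z ∈ zpowers x) ⊆
        Finset.univ.filter fun z : C => z ^ r = 1 := by
      intro z hz
      simp only [Finset.mem_filter, Finset.mem_univ, true_and] at hz ⊢
      obtain ⟨k, rfl⟩ := mem_zpowers_iff.mp hz
      rw [← zpow_natCast, ← zpow_mul, mul_comm, zpow_mul, zpow_natCast, ← hx, pow_orderOf_eq_one,
        one_zpow]
    have hcard : (Finset.univ.filter fun z : C => z ∈ zpowers x).card = r := by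
      rw [← Fintype.card_subtype, ← Nat.card_eq_fintype_card]
      exact (Nat.card_zpowers x).trans hx
    have := Finset.eq_of_subset_of_card_le hsub
      (hcard.symm ▸ IsCyclic.card_pow_eq_one_le hr.pos)
    have hy' : y ∈ Finset.univ.filter fun z : C => z ∈ zpowers x :=
      this ▸ Finset.mem_filter.mpr ⟨Finset.mem_univ _, hy⟩
    exact (Finset.mem_filter.mp hy').2
  refine ⟨(zpowers x).map C.subtype, ⟨?_⟩, map_subtype_le _, ?_⟩
  · rintro _ ⟨z, hz, rfl⟩ g
    refine ⟨MulAut.conjNormal g z, hall _ ?_, MulAut.conjNormal_apply g z⟩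
    obtain ⟨k, rfl⟩ := mem_zpowers_iff.mp hz
    rw [← map_pow, ← zpow_natCast, ← zpow_mul, mul_comm, zpow_mul, zpow_natCast, ← hx,
      pow_orderOf_eq_one, one_zpow, map_one]
  · rw [card_map_of_injective C.subtype_injective, Nat.card_zpowers, hx]

/-- In a supersolvable group every nontrivial normal subgroup contains a normal subgroup of prime
order. -/
theorem exists_normal_prime_le [Finite G] (h : IsSupersolvable G) (N : Subgroup G) [N.Normal]
    (hN : N ≠ ⊥) : ∃ M : Subgroup G, M.Normal ∧ M ≤ N ∧ (Nat.card M).Prime := by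
  obtain ⟨n, H, h0, hl, hn, hs⟩ := h
  have key : ∀ i, H i ⊓ N = ⊥ ∨ ∃ C : Subgroup G, C.Normal ∧ C ≤ N ∧ C ≠ ⊥ ∧ IsCyclic C := by
    intro i
    induction i using Fin.induction with
    | zero => exact Or.inl (by rw [h0, bot_inf_eq])
    | succ i ih =>
      rcases ih with hb | hex
      · by_cases hne : H i.succ ⊓ N = ⊥
        · exact Or.inl hne
        obtain ⟨g, hg⟩ := hs i
        have := hn i.succ
        have := hn i.castSucc
        have : IsCyclic ((H i.succ).map (QuotientGroup.mk' (H i.castSucc))) := step_isCyclic hg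
        refine Or.inr ⟨_, inferInstance, inf_le_right, hne, ?_⟩
        refine isCyclic_of_injective (((QuotientGroup.mk' (H i.castSucc)).comp (Subgroup.subtype _)).codRestrict
          ((H i.succ).map (QuotientGroup.mk' (H i.castSucc))) fun x => ⟨_, x.2.1, rfl⟩) ?_
        rw [← MonoidHom.ker_eq_bot_iff, eq_bot_iff]
        intro x hx
        have hx' : (x : G) ∈ H i.castSucc ⊓ N :=
          ⟨(QuotientGroup.eq_one_iff _).mp (congrArg Subtype.val hx), x.2.2⟩
        exact mem_bot.mpr (Subtype.ext (mem_bot.mp (hb ▸ hx')))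
      · exact Or.inr hex
  obtain ⟨C, hCn, hCN, hC, hCc⟩ := (key (Fin.last n)).resolve_left (by rw [hl, top_inf_eq]; exact hN)
  obtain ⟨r, hr, hrd⟩ := Nat.exists_prime_and_dvd (n := Nat.card C)
    (fun e => hC (Subgroup.eq_bot_of_card_eq C e))
  obtain ⟨M, hMn, hMC, hM⟩ := exists_normal_prime_le_cyclic C hCc hr hrd
  exact ⟨M, hMn, hMC.trans hCN, hM.symm ▸ hr⟩

theorem exists_normal_prime [Finite G] [Nontrivial G] (h : IsSupersolvable G) :
    ∃ M : Subgroup G, M.Normal ∧ (Nat.card M).Prime := by
  obtain ⟨M, hM, -, hp⟩ := exists_normal_prime_le h ⊤ top_ne_bot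
  exact ⟨M, hM, hp⟩

theorem ne_bot_of_prime {M : Subgroup G} (hM : (Nat.card M).Prime) : M ≠ ⊥ :=
  fun e => hM.ne_one (by rw [e, Subgroup.card_bot])

theorem card_quotient_lt [Finite G] (M : Subgroup G) (hM : M ≠ ⊥) :
    Nat.card (G ⧸ M) < Nat.card G := by
  rw [card_eq_card_quotient_mul_card_subgroup M]
  exact lt_mul_of_one_lt_right Nat.card_pos ((one_lt_card_iff_ne_bot M).mpr hM)

/-- Induction along normal subgroups of prime order. -/
theorem induction_on {motive : ∀ (X : Type u) [Group X] [Finite X], Prop}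
    (triv : ∀ (X : Type u) [Group X] [Finite X], Subsingleton X → motive X)
    (step : ∀ (X : Type u) [Group X] [Finite X], IsSupersolvable X → ∀ (M : Subgroup X) [M.Normal],
      (Nat.card M).Prime → motive (X ⧸ M) → motive X)
    [Finite G] (h : IsSupersolvable G) : motive G := by
  induction hn : Nat.card G using Nat.strong_induction_on generalizing G with
  | _ n ih =>
    rcases subsingleton_or_nontrivial G with hs | hs
    · exact triv G hs
    obtain ⟨M, hM, hp⟩ := exists_normal_prime h
    exact step G h M hp (ih _ (hn ▸ card_quotient_lt M (ne_bot_of_prime hp)) (quotient h M) rfl)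

theorem isSolvable [Finite G] (h : IsSupersolvable G) : Group.IsSolvable G := by
  refine induction_on (motive := fun X _ _ => Group.IsSolvable X) ?_ ?_ h
  · intro X _ _ hs; infer_instance
  · intro X _ _ _ M _ hp hq
    have : IsCyclic M := isCyclic_of_prime hp
    exact Group.isSolvable_of_ker_le_range M.subtype (QuotientGroup.mk' M) (by simp)

theorem prod [Finite G] [Finite Q] (hG : IsSupersolvable G) (hQ : IsSupersolvable Q) :
    IsSupersolvable (G × Q) := by
  refine induction_on (motive := fun X _ _ => IsSupersolvable (X × Q)) ?_ ?_ hG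
  · intro X _ _ hs
    refine of_injective (MonoidHom.snd X Q) ?_ hQ
    intro a b hab
    exact Prod.ext (Subsingleton.elim _ _) hab
  · intro X _ _ _ M _ hp hq
    refine of_ker_cyclic ((QuotientGroup.mk' M).prodMap (MonoidHom.id Q)) ?_ ?_ hq
    · rintro ⟨x, y⟩
      obtain ⟨x, rfl⟩ := QuotientGroup.mk'_surjective M x
      exact ⟨(x, y), rfl⟩
    · have : IsCyclic M := isCyclic_of_prime hp
      have e : ((QuotientGroup.mk' M).prodMap (MonoidHom.id Q)).ker = M.map (MonoidHom.inl X Q) := by
        ext ⟨x, y⟩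
        simp only [MonoidHom.mem_ker, MonoidHom.prodMap_def, Subgroup.mem_map, MonoidHom.inl_apply,
          MonoidHom.prod_apply, MonoidHom.coe_comp, MonoidHom.coe_fst, MonoidHom.coe_snd,
          Function.comp_apply, QuotientGroup.mk'_apply, MonoidHom.id_apply, Prod.mk_eq_one,
          QuotientGroup.eq_one_iff, Prod.mk.injEq]
        constructor
        · rintro ⟨hx, rfl⟩; exact ⟨x, hx, rfl, rfl⟩
        · rintro ⟨z, hz, rfl, rfl⟩; exact ⟨hz, rfl⟩
      rw [e]
      exact isCyclic_of_surjective _ ((MonoidHom.inl X Q).subgroupMap_surjective M)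

/-- The commutator subgroup centralizes every cyclic normal subgroup. -/
theorem commutator_le_centralizer (C : Subgroup G) [C.Normal] (hC : IsCyclic C) :
    commutator G ≤ centralizer (C : Set G) := by
  rw [_root_.commutator_def, Subgroup.commutator_le]
  intro g _ h _
  rw [mem_centralizer_iff]
  intro c hc
  have h1 : MulAut.conjNormal (H := C) ⁅g, h⁆ = 1 := by
    rw [map_commutatorElement, commutatorElement_eq_one_iff_mul_comm]
    exact (IsCyclic.mulAutMulEquiv C).injective (by rw [map_mul, map_mul]; exact mul_comm _ _)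
  have h2 := congrArg Subtype.val (DFunLike.congr_fun h1 ⟨c, hc⟩)
  rw [MulAut.conjNormal_apply] at h2
  simp only [MulAut.one_apply] at h2
  calc c * ⁅g, h⁆ = ⁅g, h⁆ * c * ⁅g, h⁆⁻¹ * ⁅g, h⁆ := by rw [h2]
    _ = ⁅g, h⁆ * c := by group

/-- A `(p-1)`-st power centralizes every normal subgroup of order `p`. -/
theorem pow_mem_centralizer [Finite G] {M : Subgroup G} [M.Normal] {p : ℕ} (hp : p.Prime)
    (hM : Nat.card M = p) (x : G) : x ^ (p - 1) ∈ centralizer (M : Set G) := by
  haveI : Fact p.Prime := ⟨hp⟩
  have : IsCyclic M := isCyclic_of_prime_card hM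
  have hc : Nat.card (MulAut M) = p - 1 := by
    rw [IsCyclic.card_mulAut, hM, Nat.totient_prime hp]
  have h1 : MulAut.conjNormal (H := M) (x ^ (p - 1)) = 1 := by
    rw [map_pow, ← hc, pow_card_eq_one']
  rw [mem_centralizer_iff]
  intro c hc'
  have h2 := congrArg Subtype.val (DFunLike.congr_fun h1 ⟨c, hc'⟩)
  rw [MulAut.conjNormal_apply] at h2
  simp only [MulAut.one_apply] at h2
  calc c * x ^ (p - 1) = x ^ (p - 1) * c * (x ^ (p - 1))⁻¹ * x ^ (p - 1) := by rw [h2]
    _ = x ^ (p - 1) * c := by group

theorem commutator_isNilpotent [Finite G] (h : IsSupersolvable G) :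
    Group.IsNilpotent (commutator G) := by
  refine induction_on (motive := fun X _ _ => Group.IsNilpotent (commutator X)) ?_ ?_ h
  · intro X _ _ hs; infer_instance
  · intro X _ _ _ M _ hp hq
    have hle : (commutator X).map (QuotientGroup.mk' M) ≤ commutator (X ⧸ M) := by
      rw [_root_.commutator_def, Subgroup.map_commutator]
      exact commutator_mono le_top le_top
    have := hq
    refine Subgroup.isNilpotent_of_ker_le_center (((QuotientGroup.mk' M).comp (Subgroup.subtype _)).codRestrict
      (commutator (X ⧸ M)) fun x => hle ⟨x, x.2, rfl⟩) ?_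
    intro x hx
    rw [Subgroup.mem_center_iff]
    intro y
    have hxM : (x : X) ∈ M := (QuotientGroup.eq_one_iff _).mp (congrArg Subtype.val hx)
    exact Subtype.ext (mem_centralizer_iff.mp
      (commutator_le_centralizer M (isCyclic_of_prime hp) y.2) x hxM).symm

/-- Every maximal subgroup of a supersolvable group has prime index. -/
theorem index_prime_of_isCoatom [Finite G] (h : IsSupersolvable G) :
    ∀ K : Subgroup G, IsCoatom K → K.index.Prime := by
  refine induction_on (motive := fun X _ _ => ∀ K : Subgroup X, IsCoatom K → K.index.Prime) ?_ ?_ h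
  · intro X _ _ hs K hK
    exact absurd (Subsingleton.elim _ _) hK.1
  · intro X _ _ _ M _ hp hq K hK
    by_cases hle : M ≤ K
    · have hker : (QuotientGroup.mk' M).ker ≤ K := by rwa [QuotientGroup.ker_mk']
      have hsur := QuotientGroup.mk'_surjective M
      rw [← index_map_eq K hsur hker]
      refine hq _ ⟨fun e => hK.1 ?_, fun L hL => ?_⟩
      · rw [← comap_map_eq_self hker, e, comap_top]
      · rw [← comap_lt_comap_of_surjective hsur, comap_map_eq_self hker] at hL
        rw [← map_comap_eq_self_of_surjective hsur L, hK.2 _ hL, map_top_of_surjective _ hsur]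
    · haveI : Fact (Nat.card M).Prime := ⟨hp⟩
      have htop : M ⊔ K = ⊤ := hK.2 _ (lt_of_le_of_ne le_sup_right fun e => hle (e ▸ le_sup_left))
      have hbot : M ⊓ K = ⊥ := by
        rcases (K.subgroupOf M).eq_bot_or_eq_top_of_prime_card with h1 | h1
        · rwa [subgroupOf_eq_bot, disjoint_iff, inf_comm] at h1
        · exact absurd (subgroupOf_eq_top.mp h1) hle
      have hc : IsComplement' M K := isComplement'_of_disjoint_and_mul_eq_univ
        (disjoint_iff.mpr hbot) (by rw [← Subgroup.normal_mul, htop, coe_top])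
      rw [hc.index_eq_card]
      exact hp

/-- The Sylow subgroups for a prime at least as large as all prime divisors of the order are
normal. -/
theorem sylow_normal_of_max [Finite G] (h : IsSupersolvable G) (p : ℕ) [Fact p.Prime]
    (hmax : ∀ q : ℕ, q.Prime → q ∣ Nat.card G → q ≤ p) (P : Sylow p G) : (P : Subgroup G).Normal := by
  revert hmax P
  refine induction_on (motive := fun X _ _ => (∀ q : ℕ, q.Prime → q ∣ Nat.card X → q ≤ p) →
    ∀ P : Sylow p X, (P : Subgroup X).Normal) ?_ ?_ h
  · intro X _ _ hs _ P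
    exact ⟨fun x hx g => by rwa [Subsingleton.elim (g * x * g⁻¹) x]⟩
  · intro X _ _ _ M hMn hp hq hmax P
    have hsur := QuotientGroup.mk'_surjective M
    have := hq (fun q hq' hd => hmax q hq' (hd.trans (card_quotient_dvd_card M))) (P.mapSurjective hsur)
    set K := (P : Subgroup X) ⊔ M with hK
    have hKn : K.Normal := by
      have hK' : ((P : Subgroup X).map (QuotientGroup.mk' M)).comap (QuotientGroup.mk' M) = K := by
        rw [comap_map_eq, QuotientGroup.ker_mk']
      exact hK' ▸ this.comap _
    have hPK : (P : Subgroup X) ≤ K := le_sup_left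
    set r := Nat.card M with hr
    have hsub : Subsingleton (Sylow p K) := by
      rw [← Finite.card_le_one_iff_subsingleton]
      have h1 := card_sylow_modEq_one p K
      have h2 := (P.subtype hPK).card_dvd_index
      have h3 : ((P : Subgroup X).subgroupOf K).index ∣ r := by
        have := card_mul_index ((P : Subgroup X).subgroupOf K)
        rw [Nat.card_congr (subgroupOfEquivOfLe hPK).toEquiv] at this
        exact Nat.dvd_of_mul_dvd_mul_left Nat.card_pos
          (this ▸ HallCore.card_sup_dvd (P : Subgroup X) M)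
      rcases (Nat.dvd_prime hp).mp (h2.trans h3) with h4 | h4
      · exact h4.le
      · have hrp : r ≤ p := hmax r hp M.card_subgroup_dvd_card
        rw [h4] at h1
        unfold Nat.ModEq at h1
        rw [Nat.mod_eq_of_lt (Fact.out : p.Prime).one_lt] at h1
        rcases lt_or_eq_of_le hrp with hlt | he
        · rw [Nat.mod_eq_of_lt hlt] at h1
          exact absurd h1 hp.ne_one
        · rw [he, Nat.mod_self] at h1
          exact absurd h1 zero_ne_one
    have := Sylow.characteristic_of_subsingleton (P.subtype hPK)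
    have e : ((P.subtype hPK : Sylow p K) : Subgroup K).map K.subtype = P := by
      rw [Sylow.coe_subtype]; exact map_subgroupOf_eq_of_le hPK
    rw [← e]
    infer_instance

/-- A nontrivial supersolvable group has a normal subgroup whose order is the largest prime
dividing the group order. -/
theorem exists_normal_card_max [Finite G] [Nontrivial G] (h : IsSupersolvable G) :
    ∃ (p : ℕ) (M : Subgroup G), p.Prime ∧ M.Normal ∧ Nat.card M = p ∧
      ∀ q : ℕ, q.Prime → q ∣ Nat.card G → q ≤ p := by
  have hne : (Nat.card G).primeFactors.Nonempty :=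
    Nat.nonempty_primeFactors.mpr Finite.one_lt_card
  set p := (Nat.card G).primeFactors.max' hne
  have hpm := Nat.mem_primeFactors.mp ((Nat.card G).primeFactors.max'_mem hne)
  have hmax : ∀ q : ℕ, q.Prime → q ∣ Nat.card G → q ≤ p := fun q hq hd =>
    Finset.le_max' _ _ (Nat.mem_primeFactors.mpr ⟨hq, hd, hpm.2.2⟩)
  haveI : Fact p.Prime := ⟨hpm.1⟩
  obtain ⟨P⟩ := (inferInstance : Nonempty (Sylow p G))
  have := sylow_normal_of_max h p hmax P
  obtain ⟨M, hM, hMP, hMp⟩ := exists_normal_prime_le h (P : Subgroup G)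
    (P.ne_bot_of_dvd_card hpm.2.1)
  obtain ⟨k, hk⟩ := IsPGroup.iff_card.mp (P.2.to_le hMP)
  refine ⟨p, M, hpm.1, hM, ?_, hmax⟩
  exact (Nat.prime_dvd_prime_iff_eq hMp hpm.1).mp (hMp.dvd_of_dvd_pow (dvd_of_eq hk))

/-- In a supersolvable group, a `p'`-element that is a commutator or a `(p-1)`-st power
centralizes every normal `p`-subgroup. -/
theorem commute_of_coprime [Finite G] (h : IsSupersolvable G) (p : ℕ) [hp : Fact p.Prime]
    (P : Subgroup G) [P.Normal] (hP : IsPGroup p P) (k : G) (hk : (orderOf k).Coprime p)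
    (hk' : k ∈ commutator G ∨ ∃ x, k = x ^ (p - 1)) : ∀ y ∈ P, k * y = y * k := by
  induction hn : Nat.card G using Nat.strong_induction_on generalizing G with
  | _ n ih =>
    intro y hy
    by_cases hP0 : P = ⊥
    · rw [hP0, mem_bot] at hy; rw [hy, mul_one, one_mul]
    obtain ⟨M, hM, hMP, hMp⟩ := exists_normal_prime_le h P hP0
    obtain ⟨j, hj⟩ := IsPGroup.iff_card.mp (hP.to_le hMP)
    have hMc : Nat.card M = p :=
      (Nat.prime_dvd_prime_iff_eq hMp hp.out).mp (hMp.dvd_of_dvd_pow (dvd_of_eq hj))
    have hkM : k ∈ centralizer (M : Set G) := by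
      rcases hk' with h1 | ⟨x, rfl⟩
      · exact commutator_le_centralizer M (isCyclic_of_prime hMp) h1
      · exact pow_mem_centralizer hp.out hMc x
    set π := QuotientGroup.mk' M with hπ
    have hPn : (P.map π).Normal := (inferInstance : P.Normal).map π (QuotientGroup.mk'_surjective M)
    have hq := ih _ (hn ▸ card_quotient_lt M (ne_bot_of_prime hMp)) (quotient h M) (P.map π)
      (hP.map π) (π k) (hk.coprime_dvd_left (orderOf_map_dvd π k))
      (hk'.imp (fun h1 => by
        have h2 : (commutator G).map π ≤ commutator (G ⧸ M) := by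
          rw [_root_.commutator_def, Subgroup.map_commutator]
          exact commutator_mono le_top le_top
        exact h2 ⟨k, h1, rfl⟩) (fun ⟨x, hx⟩ => ⟨π x, by rw [hx, map_pow]⟩)) rfl (π y) ⟨y, hy, rfl⟩
    set c := y⁻¹ * k * y * k⁻¹ with hc
    have hcM : c ∈ M := by
      rw [← QuotientGroup.eq_one_iff]
      show π c = 1
      rw [hc, map_mul, map_mul, map_mul, map_inv, map_inv, mul_assoc (π y)⁻¹ (π k) (π y), hq,
        inv_mul_cancel_left, mul_inv_cancel]
    have hkc : Commute k c := (mem_centralizer_iff.mp hkM c hcM).symm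
    have h1 : k * y = y * (c * k) := by rw [hc]; group
    have hiter : ∀ i : ℕ, k ^ i * y = y * c ^ i * k ^ i := by
      intro i
      induction i with
      | zero => simp
      | succ i ih =>
        rw [pow_succ', mul_assoc, ih, ← mul_assoc, ← mul_assoc, h1, pow_succ']
        rw [show y * (c * k) * c ^ i * k ^ i = y * c * (k * c ^ i) * k ^ i by group,
          (hkc.pow_right i).eq]
        group
    have h2 := hiter (orderOf k)
    rw [pow_orderOf_eq_one, one_mul, mul_one, left_eq_mul] at h2
    have hcp : c ^ p = 1 := by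
      have : (⟨c, hcM⟩ : M) ^ Nat.card M = 1 := pow_card_eq_one'
      rw [hMc] at this
      exact congrArg Subtype.val this
    have hc1 : c = 1 := orderOf_eq_one_iff.mp (Nat.eq_one_of_dvd_coprimes hk
      (orderOf_dvd_of_pow_eq_one h2) (orderOf_dvd_of_pow_eq_one hcp))
    rw [h1, hc1, one_mul]

end Cfsg.Agent.Supersolvable
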