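import Mathlib.Data.Nat.Choose.Dvd
import Cfsg.Agent.Lib.TransferAlperin

/-!
# Elements of order `p` (or `4`) detect actions of `p'`-elements on `p`-groups
-/

set_option linter.style.haveILetI false

namespace Cfsg.Agent.TransferOmega

open Subgroup Cfsg.Agent.TransferTate Cfsg.Agent.TransferAlperin
open scoped commutatorElement

variable {G : Type*} [Group G] {p : ℕ}

/-- The orders tested: `x ^ p = 1`, or `x ^ 4 = 1` when `p = 2`. -/
def IsSmall (p : ℕ) (x : G) : Prop := x ^ p = 1 ∨ (p = 2 ∧ x ^ 4 = 1)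

/-- If conjugation by `a` moves `x` by a `p`-element `c` that it fixes, and `a` has order prime
to `p`, then it fixes `x`. -/
theorem conj_eq_of_step [Fact p.Prime] {a x c : G} (hc : ∃ j, orderOf c = p ^ j)
    (ha : Nat.Coprime (orderOf a) p) (hx : a * x * a⁻¹ = x * c) (hac : a * c * a⁻¹ = c) :
    a * x * a⁻¹ = x := by
  have hiter : ∀ m : ℕ, a ^ m * x * (a ^ m)⁻¹ = x * c ^ m := by
    intro m
    induction m with
    | zero => simp
    | succ m ihm =>
      calc a ^ (m + 1) * x * (a ^ (m + 1))⁻¹ = a * (a ^ m * x * (a ^ m)⁻¹) * a⁻¹ := by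
            rw [pow_succ']; group
        _ = (a * x * a⁻¹) * (a * c ^ m * a⁻¹) := by rw [ihm]; group
        _ = x * c * c ^ m := by rw [hx, ← conj_pow, hac]
        _ = x * c ^ (m + 1) := by rw [pow_succ', mul_assoc]
  have h1 := hiter (orderOf a)
  rw [pow_orderOf_eq_one, one_mul, inv_one, mul_one, left_eq_mul] at h1
  obtain ⟨j, hj⟩ := hc
  have hcop : Nat.Coprime (orderOf c) (orderOf a) := hj ▸ ha.symm.pow_left j
  have : c = 1 := orderOf_eq_one_iff.mp (hcop.eq_one_of_dvd (orderOf_dvd_of_pow_eq_one h1))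
  rw [hx, this, mul_one]

/-- A `p'`-element acting non-trivially on a `p`-subgroup acts non-trivially on an invariant
subgroup all of whose elements satisfy `x ^ p = 1` (`x ^ 4 = 1` for `p = 2`). -/
theorem exists_small_of_not_centralize [Finite G] [hp : Fact p.Prime] (Q : Subgroup G)
    (hQ : IsPGroup p Q) {a : G} (ha : a ∈ normalizer (Q : Set G))
    (hcop : Nat.Coprime (orderOf a) p) (hne : a ∉ centralizer (Q : Set G)) :
    ∃ R ≤ Q, a ∈ normalizer (R : Set G) ∧ a ∉ centralizer (R : Set G) ∧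
      ∀ x ∈ R, IsSmall p x := by
  suffices ∀ (n : ℕ) (Q : Subgroup G), Nat.card Q = n → IsPGroup p Q →
      a ∈ normalizer (Q : Set G) → a ∉ centralizer (Q : Set G) →
      ∃ R ≤ Q, a ∈ normalizer (R : Set G) ∧ a ∉ centralizer (R : Set G) ∧
        ∀ x ∈ R, IsSmall p x from this _ Q rfl hQ ha hne
  intro n
  induction n using Nat.strong_induction_on with
  | _ n ih =>
    clear hQ ha hne Q
    intro Q hn hQ ha hne
    by_cases hmin : ∀ Q' : Subgroup G, Q' < Q → a ∈ normalizer (Q' : Set G) →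
        a ∈ centralizer (Q' : Set G)
    swap
    · push Not at hmin
      obtain ⟨Q', hlt, hn', hne'⟩ := hmin
      obtain ⟨R, hR, h1, h2, h3⟩ := ih (Nat.card Q')
        (hn ▸ Set.Finite.card_lt_card (Set.toFinite _) hlt) Q' rfl (hQ.to_le hlt.le) hn' hne'
      exact ⟨R, hR.trans hlt.le, h1, h2, h3⟩
    refine ⟨Q, le_rfl, ha, hne, ?_⟩
    have hQa : ∀ x ∈ Q, a * x * a⁻¹ ∈ Q := fun x hx => (mem_normalizer_iff.mp ha x).mp hx
    have hord : ∀ c ∈ Q, ∃ j, orderOf c = p ^ j := by
      intro c hc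
      obtain ⟨j, hj⟩ := IsPGroup.iff_orderOf.mp hQ ⟨c, hc⟩
      exact ⟨j, by rw [← hj, orderOf_mk]⟩
    -- an invariant set generates an invariant subgroup
    have hinv : ∀ S : Set G, (∀ x ∈ S, a * x * a⁻¹ ∈ S) → a ∈ normalizer ((closure S : Subgroup G) : Set G) := by
      intro S hS
      refine mem_normalizer_of_cj_eq (eq_of_le_of_card_ge ?_ (card_cj _ _).ge)
      rw [cj, MonoidHom.map_closure]
      exact closure_mono (by rintro _ ⟨x, hx, rfl⟩; exact hS x hx)
    -- `Q` is generated by the elements `x⁻¹ a x a⁻¹`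
    have hgen : closure {c : G | ∃ x ∈ Q, c = x⁻¹ * (a * x * a⁻¹)} = Q := by
      have hle : closure {c : G | ∃ x ∈ Q, c = x⁻¹ * (a * x * a⁻¹)} ≤ Q := by
        rw [closure_le]
        rintro _ ⟨x, hx, rfl⟩
        exact mul_mem (inv_mem hx) (hQa x hx)
      rcases eq_or_lt_of_le hle with h | h
      · exact h
      exfalso
      refine hne (mem_centralizer_iff.mpr fun x hx => ?_)
      have hca := hmin _ h (hinv _ (by
        rintro _ ⟨y, hy, rfl⟩
        exact ⟨a * y * a⁻¹, hQa y hy, by group⟩))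
      have hc : x⁻¹ * (a * x * a⁻¹) ∈ closure {c : G | ∃ x ∈ Q, c = x⁻¹ * (a * x * a⁻¹)} :=
        subset_closure ⟨x, hx, rfl⟩
      have := conj_eq_of_step (hord _ (hle hc)) hcop
        (show a * x * a⁻¹ = x * (x⁻¹ * (a * x * a⁻¹)) by group)
        (mul_inv_eq_iff_eq_mul.mpr (mem_centralizer_iff.mp hca _ hc).symm)
      exact (mul_inv_eq_iff_eq_mul.mp this).symm
    -- the subgroup generated by `p`-th powers and commutators is proper, hence fixed
    let F : Subgroup G := closure {y : G | ∃ x ∈ Q, y = x ^ p ∨ ∃ z ∈ Q, y = ⁅x, z⁆}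
    have hF : F < Q := by
      haveI : Nontrivial Q := by
        rw [nontrivial_iff_ne_bot]
        rintro rfl
        exact hne (mem_centralizer_iff.mpr fun x hx => by rw [mem_bot.mp hx, one_mul, mul_one])
      obtain ⟨M, hMn, -, -, -, hMi⟩ := exists_central_maximal hQ
        (R := (⊥ : Subgroup Q)) (T := ⊤) bot_lt_top
      rw [relIndex_top_right] at hMi
      haveI := hMn
      have h1 : F ≤ M.map Q.subtype := by
        rw [closure_le]
        rintro y ⟨x, hx, rfl | ⟨z, hz, rfl⟩⟩
        · exact ⟨⟨x, hx⟩ ^ p, hMi ▸ M.pow_index_mem _, rfl⟩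
        · exact ⟨⁅(⟨x, hx⟩ : Q), ⟨z, hz⟩⁆,
            commutator_le_of_index_prime hMi (commutator_mem_commutator (mem_top _) (mem_top _)),
            rfl⟩
      refine lt_of_le_of_lt h1 (lt_of_le_of_ne (map_subtype_le _) fun e => ?_)
      have h2 : Nat.card (M.map Q.subtype) = Nat.card Q := by rw [e]
      rw [card_map_of_injective Q.subtype_injective, ← M.card_mul_index, hMi] at h2
      exact hp.out.one_lt.ne (mul_left_cancel₀ (Nat.card_pos (α := M)).ne' (by linarith [h2]))
    have hFfix : ∀ f ∈ F, a * f * a⁻¹ = f := by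
      intro f hf
      refine mul_inv_eq_iff_eq_mul.mpr (mem_centralizer_iff.mp (hmin F hF (hinv _ ?_)) f hf).symm
      rintro y ⟨x, hx, rfl | ⟨z, hz, rfl⟩⟩
      · exact ⟨a * x * a⁻¹, hQa x hx, Or.inl conj_pow.symm⟩
      · refine ⟨a * x * a⁻¹, hQa x hx, Or.inr ⟨a * z * a⁻¹, hQa z hz, ?_⟩⟩
        simp only [commutatorElement_def]
        group
    -- `F` is central in `Q`
    have hFc : ∀ f ∈ F, ∀ x ∈ Q, x * f = f * x := by
      intro f hf x hx
      have hle : Q ≤ centralizer ({f} : Set G) := by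
        rw [← hgen, closure_le]
        rintro _ ⟨y, hy, rfl⟩
        rw [SetLike.mem_coe, mem_centralizer_iff]
        intro t ht
        rw [Set.mem_singleton_iff.mp ht]
        have hyf : y * f * y⁻¹ ∈ F := by
          have h1 : ⁅y, f⁆ ∈ F := subset_closure ⟨y, hy, Or.inr ⟨f, hF.le hf, rfl⟩⟩
          have := mul_mem h1 hf
          rwa [commutatorElement_def, inv_mul_cancel_right] at this
        have h2 : a * y * a⁻¹ * f * (a * y * a⁻¹)⁻¹ = y * f * y⁻¹ := by
          calc a * y * a⁻¹ * f * (a * y * a⁻¹)⁻¹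
              = a * y * (a⁻¹ * f * a) * (a * y)⁻¹ := by group
            _ = a * y * f * (a * y)⁻¹ := by
              rw [show a⁻¹ * f * a = f by
                conv_lhs => rw [← hFfix f hf]
                group]
            _ = a * (y * f * y⁻¹) * a⁻¹ := by group
            _ = y * f * y⁻¹ := hFfix _ hyf
        calc f * (y⁻¹ * (a * y * a⁻¹))
            = y⁻¹ * (y * f * y⁻¹) * (a * y * a⁻¹) := by group
          _ = y⁻¹ * (a * y * a⁻¹ * f * (a * y * a⁻¹)⁻¹) * (a * y * a⁻¹) := by rw [h2]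
          _ = y⁻¹ * (a * y * a⁻¹) * f := by group
      exact (mem_centralizer_iff.mp (hle hx) f (Set.mem_singleton f)).symm
    have hcomm : ∀ x ∈ Q, ∀ y ∈ Q, ∀ z ∈ Q, z * ⁅x, y⁆ = ⁅x, y⁆ * z := fun x hx y hy z hz =>
      hFc _ (subset_closure ⟨x, hx, Or.inr ⟨y, hy, rfl⟩⟩) z hz
    -- powers of products in class two
    have hmul : ∀ x ∈ Q, ∀ y ∈ Q, ∀ m : ℕ,
        (x * y) ^ m = x ^ m * y ^ m * ⁅y, x⁆ ^ (m.choose 2) := by
      intro x hx y hy m
      induction m with
      | zero => simp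
      | succ m ihm =>
        have hyx : ∀ k : ℕ, y ^ k * x = x * y ^ k * ⁅y, x⁆ ^ k := by
          intro k
          induction k with
          | zero => simp
          | succ k ihk =>
            have e : y * x = x * y * ⁅y, x⁆ := by
              have h1 := hcomm y hy x hx _ (mul_mem hx hy)
              rw [h1, commutatorElement_def]
              group
            calc y ^ (k + 1) * x = y * (y ^ k * x) := by rw [pow_succ']; group
              _ = y * x * (y ^ k * ⁅y, x⁆ ^ k) := by rw [ihk]; group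
              _ = x * y * (⁅y, x⁆ * y ^ k) * ⁅y, x⁆ ^ k := by rw [e]; group
              _ = x * y * (y ^ k * ⁅y, x⁆) * ⁅y, x⁆ ^ k := by
                rw [hcomm y hy x hx _ (pow_mem hy k)]
              _ = x * (y * y ^ k) * (⁅y, x⁆ * ⁅y, x⁆ ^ k) := by simp only [mul_assoc]
              _ = x * y ^ (k + 1) * ⁅y, x⁆ ^ (k + 1) := by rw [← pow_succ', ← pow_succ']
        have hcpow : ∀ (k : ℕ) (z : G), z ∈ Q → z * ⁅y, x⁆ ^ k = ⁅y, x⁆ ^ k * z :=
          fun k z hz => Commute.pow_right (hcomm y hy x hx z hz) k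
        rw [show (m + 1).choose 2 = m + m.choose 2 by
          rw [Nat.choose_succ_succ', Nat.choose_one_right]]
        calc (x * y) ^ (m + 1) = x ^ m * y ^ m * ⁅y, x⁆ ^ m.choose 2 * (x * y) := by
              rw [pow_succ, ihm]
          _ = x ^ m * y ^ m * ((x * y) * ⁅y, x⁆ ^ m.choose 2) := by
              rw [hcpow _ _ (mul_mem hx hy)]; group
          _ = x ^ m * (y ^ m * x) * (y * ⁅y, x⁆ ^ m.choose 2) := by group
          _ = x ^ m * (x * y ^ m * ⁅y, x⁆ ^ m) * (y * ⁅y, x⁆ ^ m.choose 2) := by rw [hyx]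
          _ = x ^ m * x * y ^ m * (⁅y, x⁆ ^ m * y) * ⁅y, x⁆ ^ m.choose 2 := by group
          _ = x ^ m * x * y ^ m * (y * ⁅y, x⁆ ^ m) * ⁅y, x⁆ ^ m.choose 2 := by rw [hcpow _ _ hy]
          _ = (x ^ m * x) * (y ^ m * y) * (⁅y, x⁆ ^ m * ⁅y, x⁆ ^ m.choose 2) := by group
          _ = x ^ (m + 1) * y ^ (m + 1) * ⁅y, x⁆ ^ (m + m.choose 2) := by
              rw [← pow_succ, ← pow_succ, ← pow_add]
    -- commutators have order dividing `p`
    have hcp : ∀ x ∈ Q, ∀ y ∈ Q, ⁅y, x⁆ ^ p = 1 := by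
      intro x hx y hy
      have h1 : ⁅y, x⁆ ^ p = ⁅y ^ p, x⁆ := by
        have hind : ∀ k : ℕ, ⁅y ^ k, x⁆ = ⁅y, x⁆ ^ k := by
          intro k
          induction k with
          | zero => simp
          | succ k ihk =>
            calc ⁅y ^ (k + 1), x⁆ = y * ⁅y ^ k, x⁆ * (x * y⁻¹ * x⁻¹) := by
                  rw [pow_succ']; simp only [commutatorElement_def]; group
              _ = ⁅y, x⁆ ^ k * y * (x * y⁻¹ * x⁻¹) := by
                  rw [ihk, Commute.pow_right (hcomm y hy x hx y hy) k]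
              _ = ⁅y, x⁆ ^ k * ⁅y, x⁆ := by simp only [commutatorElement_def]; group
              _ = ⁅y, x⁆ ^ (k + 1) := (pow_succ _ _).symm
        exact (hind p).symm
      rw [h1, commutatorElement_eq_one_iff_mul_comm]
      exact (hFc _ (subset_closure ⟨y, hy, Or.inl rfl⟩) x hx).symm
    have hgen_small : ∀ x ∈ Q, (x⁻¹ * (a * x * a⁻¹)) ^ p = ⁅a * x * a⁻¹, x⁻¹⁆ ^ (p.choose 2) := by
      intro x hx
      have h1 : (a * x * a⁻¹) ^ p = x ^ p := by
        rw [conj_pow]; exact hFfix _ (subset_closure ⟨x, hx, Or.inl rfl⟩)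
      rw [hmul _ (inv_mem hx) _ (hQa x hx), h1, inv_pow, inv_mul_cancel, one_mul]
    intro x hx
    rw [← hgen] at hx
    induction hx using closure_induction with
    | mem c hc =>
      obtain ⟨y, hy, rfl⟩ := hc
      rcases hp.out.eq_two_or_odd' with rfl | hodd
      · refine Or.inr ⟨rfl, ?_⟩
        rw [show 4 = 2 * 2 from rfl, pow_mul, hgen_small y hy, ← pow_mul, Nat.mul_comm, pow_mul,
          hcp _ (inv_mem hy) _ (hQa y hy), one_pow]
      · refine Or.inl ?_
        rw [hgen_small y hy]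
        obtain ⟨k, hk⟩ : p ∣ p.choose 2 := by
          refine Nat.Prime.dvd_choose_self hp.out two_ne_zero ?_
          rcases hp.out.two_le.eq_or_lt with h | h
          · rw [← h] at hodd; exact absurd hodd (by decide)
          · exact h
        rw [hk, pow_mul, hcp _ (inv_mem hy) _ (hQa y hy), one_pow]
    | one => exact Or.inl (one_pow _)
    | mul u v hu hv iu iv =>
      rw [hgen] at hu hv
      rcases hp.out.eq_two_or_odd' with rfl | hodd
      · refine Or.inr ⟨rfl, ?_⟩
        have e : ∀ t : G, IsSmall 2 t → t ^ 4 = 1 := by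
          rintro t (h | h)
          · rw [show 4 = 2 * 2 from rfl, pow_mul, h, one_pow]
          · exact h.2
        rw [hmul u hu v hv, e u iu, e v iv, show Nat.choose 4 2 = 2 * 3 from rfl, pow_mul,
          hcp _ hu _ hv, one_pow, one_mul, one_mul]
      · refine Or.inl ?_
        have e : ∀ t : G, IsSmall p t → t ^ p = 1 := by
          rintro t (h | h)
          · exact h
          · exact absurd (h.1 ▸ hodd) (by decide)
        obtain ⟨k, hk⟩ : p ∣ p.choose 2 := by
          refine Nat.Prime.dvd_choose_self hp.out two_ne_zero ?_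
          rcases hp.out.two_le.eq_or_lt with h | h
          · rw [← h] at hodd; exact absurd hodd (by decide)
          · exact h
        rw [hmul u hu v hv, e u iu, e v iv, hk, pow_mul, hcp _ hu _ hv, one_pow, one_mul, one_mul]
    | inv u _ iu =>
      rcases iu with h | ⟨h1, h2⟩
      · exact Or.inl (by rw [inv_pow, h, inv_one])
      · exact Or.inr ⟨h1, by rw [inv_pow, h2, inv_one]⟩

/-- Criterion for a normal `p`-complement through subgroups of small exponent. -/
theorem hasNormalPComplement_of_small [Finite G] [Fact p.Prime] (P : Sylow p G)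
    (h : ∀ R : Subgroup G, R ≤ (P : Subgroup G) → (∀ x ∈ R, IsSmall p x) →
      ∀ g ∈ normalizer (R : Set G), Nat.Coprime (orderOf g) p → g ∈ centralizer (R : Set G)) :
    Cfsg.HasNormalPComplement p G := by
  refine hasNormalPComplement_of_local P fun T hT _ _ _ g hg hcop => ?_
  by_contra hne
  obtain ⟨R, hR, h1, h2, h3⟩ :=
    exists_small_of_not_centralize T (P.isPGroup'.to_le hT) hg hcop hne
  exact h2 (h R (hR.trans hT) h3 g h1 hcop)

/-- If `P` controls the fusion of its elements of order dividing `p` (`4` for `p = 2`) then `G`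
has a normal `p`-complement. -/
theorem hasNormalPComplement_of_small_control [Finite G] [Fact p.Prime] (P : Sylow p G)
    (h : ∀ x ∈ (P : Subgroup G), IsSmall p x → ∀ g : G, g * x * g⁻¹ ∈ (P : Subgroup G) →
      ∃ z ∈ (P : Subgroup G), z * x * z⁻¹ = g * x * g⁻¹) :
    Cfsg.HasNormalPComplement p G := by
  refine hasNormalPComplement_of_small P fun R hR hsmall g hg hcop => ?_
  haveI : Group.IsNilpotent (P : Subgroup G) := P.isPGroup'.isNilpotent
  obtain ⟨n, hn⟩ : ∃ n, Subgroup.upperCentralSeries (P : Subgroup G) n = ⊤ :=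
    ⟨_, Subgroup.upperCentralSeries_nilpotencyClass⟩
  suffices ∀ (i : ℕ) (x : G) (hx : x ∈ R),
      (⟨x, hR hx⟩ : (P : Subgroup G)) ∈ Subgroup.upperCentralSeries (P : Subgroup G) i →
      g * x * g⁻¹ = x by
    rw [mem_centralizer_iff]
    intro x hx
    exact (mul_inv_eq_iff_eq_mul.mp (this n x hx (hn ▸ mem_top _))).symm
  intro i
  induction i with
  | zero =>
    intro x hx hi
    rw [Subgroup.upperCentralSeries_zero, mem_bot] at hi
    have : x = 1 := congrArg Subtype.val hi
    rw [this]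
    group
  | succ i ih =>
    intro x hx hi
    have hgx : g * x * g⁻¹ ∈ R := (mem_normalizer_iff.mp hg x).mp hx
    obtain ⟨z, hz, hzx⟩ := h x (hR hx) (hsmall x hx) g (hR hgx)
    have hcR : x⁻¹ * (g * x * g⁻¹) ∈ R := mul_mem (inv_mem hx) hgx
    have hci : (⟨_, hR hcR⟩ : (P : Subgroup G)) ∈ Subgroup.upperCentralSeries (P : Subgroup G) i := by
      have h1 := Subgroup.mem_upperCentralSeries_succ_iff.mp (inv_mem hi) ⟨z, hz⟩
      convert h1 using 1
      apply Subtype.ext
      simp only [commutatorElement_def, ← hzx, coe_mul, coe_inv, inv_inv]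
      group
    obtain ⟨j, hj⟩ := IsPGroup.iff_orderOf.mp (P.isPGroup'.to_le hR) ⟨_, hcR⟩
    rw [orderOf_mk] at hj
    exact conj_eq_of_step ⟨j, hj⟩ hcop (by group) (ih _ hcR hci)

end Cfsg.Agent.TransferOmega
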