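import Mathlib
import Cfsg.Agent.Lib.TransferOmega
import Cfsg.Agent.Lib.CoprimeAction
import Cfsg.Agent.Lib.Supersolvable
import Cfsg.Agent.Lib.PGroupsBasic

/-!
# Subgroups of one fixed order that are strongly closed in their normalizers

A coprime-action lemma for `p`-groups all of whose subgroups of a fixed order are invariant, and
the resulting criterion for a normal `p`-complement.
-/

set_option autoImplicit false

open Subgroup
open scoped commutatorElement

namespace Cfsg.Agent.OrderDSubgroups

open Cfsg.Agent.TransferAlperin (cj mem_cj conj_mem_cj card_cj)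

variable {G : Type*} [Group G] {p : ℕ}

/-- The subgroups tested: order `d`, or order `4` when `d = 2`. -/
def IsTested (d : ℕ) (E : Subgroup G) : Prop := Nat.card E = d ∨ (d = 2 ∧ Nat.card E = 4)

/-- Every tested subgroup of `P` is strongly closed in its normalizer. -/
def StrongD (P : Subgroup G) (d : ℕ) : Prop :=
  ∀ E : Subgroup G, E ≤ P → IsTested d E →
    ∀ g : G, E.map (MulAut.conj g).toMonoidHom ⊓ normalizer (E : Set G) ≤ E

theorem mem_normalizer_of_forall [Finite G] {H : Subgroup G} {g : G}
    (h : ∀ x ∈ H, g * x * g⁻¹ ∈ H) : g ∈ normalizer (H : Set G) := by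
  refine TransferAlperin.mem_normalizer_of_cj_eq (eq_of_le_of_card_ge ?_ (card_cj g H).ge)
  intro y hy
  have := h _ (mem_cj.mp hy)
  simpa [mul_assoc] using this

theorem le_normalizer_of_strongD [Finite G] [Fact p.Prime] {P : Subgroup G} {d : ℕ}
    (hP : IsPGroup p P) (h : StrongD P d) {E : Subgroup G} (hE : E ≤ P) (hd : IsTested d E) :
    P ≤ normalizer (E : Set G) := by
  set T := P ⊓ normalizer (E : Set G) with hT
  by_contra hne
  have hlt : T < P := lt_of_le_of_ne inf_le_left fun e => hne (e ▸ inf_le_right)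
  have hcard := TransferAlperin.card_lt_card_inf_normalizer hP hlt
  apply hcard.not_ge
  refine card_le_of_le (le_inf inf_le_left fun n hn => ?_)
  refine mem_normalizer_of_forall fun x hx => h E hE hd n ⟨conj_mem_cj hx, ?_⟩
  have hxT : x ∈ T := ⟨hE hx, le_normalizer hx⟩
  exact ((mem_normalizer_iff.mp hn.2 x).mp hxT).2

theorem conj_mem_of_strongD [Finite G] [Fact p.Prime] {P : Subgroup G} {d : ℕ}
    (hP : IsPGroup p P) (h : StrongD P d) {E : Subgroup G} (hE : E ≤ P) (hd : IsTested d E)
    {x g : G} (hx : x ∈ E) (hg : g * x * g⁻¹ ∈ P) : g * x * g⁻¹ ∈ E :=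
  h E hE hd g ⟨conj_mem_cj hx, le_normalizer_of_strongD hP h hE hd hg⟩

/-- An element of order prime to `p` normalizing a cyclic `p`-group has `(p-1)`-st power
centralizing it. -/
theorem pow_mem_centralizer_of_cyclic [Finite G] [hp : Fact p.Prime] {S : Subgroup G}
    (hS : IsPGroup p S) (hcyc : IsCyclic S) {h : G} (hn : h ∈ normalizer (S : Set G))
    (hcop : (orderOf h).Coprime p) : h ^ (p - 1) ∈ centralizer (S : Set G) := by
  obtain ⟨j, hj⟩ := hS.exists_card_eq
  set σ : MulAut S := normalizerMonoidHom S ⟨h, hn⟩ with hσ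
  have h1 : orderOf σ ∣ orderOf h := by
    refine (orderOf_map_dvd _ _).trans ?_
    rw [orderOf_mk]
  have h2 : orderOf σ ∣ Nat.totient (p ^ j) := by
    rw [← hj, ← hcyc.card_mulAut]
    exact orderOf_dvd_natCard σ
  have h3 : orderOf σ ∣ p - 1 := by
    rcases Nat.eq_zero_or_pos j with h0 | h0
    · rw [h0, pow_zero, Nat.totient_one, Nat.dvd_one] at h2
      rw [h2]
      exact one_dvd _
    · rw [Nat.totient_prime_pow hp.out h0] at h2
      exact ((hcop.coprime_dvd_left h1).pow_right _).dvd_of_dvd_mul_left h2
  have h4 : normalizerMonoidHom S (⟨h, hn⟩ ^ (p - 1)) = 1 := by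
    rw [map_pow]
    exact orderOf_dvd_iff_pow_eq_one.mp h3
  rw [← MonoidHom.mem_ker, normalizerMonoidHom_ker, mem_subgroupOf] at h4
  simpa using h4

/-- An element of order prime to `p` normalizing `T ≤ S` with `|S : T| = p` has `(p-1)`-st power
acting trivially on `S / T`. -/
theorem pow_commutator_mem [Finite G] [hp : Fact p.Prime] {T S : Subgroup G}
    (hST : S ≤ normalizer (T : Set G)) (hi : T.relIndex S = p) {h : G}
    (hT : h ∈ normalizer (T : Set G)) (hS : h ∈ normalizer (S : Set G))
    (hcop : (orderOf h).Coprime p) {s : G} (hs : s ∈ S) :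
    h ^ (p - 1) * s * (h ^ (p - 1))⁻¹ * s⁻¹ ∈ T := by
  set H := normalizer (T : Set G) ⊓ normalizer (S : Set G) with hH
  have hSH : S ≤ H := le_inf hST le_normalizer
  haveI : (T.subgroupOf H).Normal := normal_subgroupOf_of_le_normalizer inf_le_left
  set f := QuotientGroup.mk' (T.subgroupOf H) with hf
  set S' := (S.subgroupOf H).map f with hS'
  have hc : Nat.card S' = p := by
    rw [hS', ← relIndex_ker, hf, QuotientGroup.ker_mk', relIndex_subgroupOf hSH]
    exact hi
  set h' : H := ⟨h, mem_inf.mpr ⟨hT, hS⟩⟩ with hh'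
  have hn : f h' ∈ normalizer (S' : Set (↥H ⧸ T.subgroupOf H)) := by
    refine mem_normalizer_of_forall fun y hy => ?_
    obtain ⟨a, ha, rfl⟩ := mem_map.mp hy
    rw [← map_inv, ← map_mul, ← map_mul]
    refine mem_map_of_mem _ ?_
    rw [mem_subgroupOf] at ha ⊢
    exact (mem_normalizer_iff.mp hS _).mp ha
  have hcop' : (orderOf (f h')).Coprime p := by
    refine hcop.coprime_dvd_left ((orderOf_map_dvd f _).trans ?_)
    rw [hh', orderOf_mk]
  have h1 := pow_mem_centralizer_of_cyclic (IsPGroup.of_card (n := 1) (by rw [hc, pow_one]))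
    (isCyclic_of_prime_card hc) hn hcop'
  have h2 := mem_centralizer_iff.mp h1 (f ⟨s, hSH hs⟩) (mem_map_of_mem f (mem_subgroupOf.mpr hs))
  rw [← map_pow] at h2
  have h3 : f (h' ^ (p - 1) * ⟨s, hSH hs⟩ * (h' ^ (p - 1))⁻¹ *
      ⟨s, hSH hs⟩⁻¹) = 1 := by
    simp only [map_mul, map_inv, ← h2]
    group
  rw [← MonoidHom.mem_ker, hf, QuotientGroup.ker_mk', mem_subgroupOf] at h3
  simpa using h3

theorem exists_card_le_le [Finite G] [Fact p.Prime] {X M : Subgroup G} (hM : IsPGroup p M)
    (hXM : X ≤ M) {k : ℕ} (hX : Nat.card X ≤ p ^ k) (hk : p ^ k ≤ Nat.card M) :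
    ∃ E : Subgroup G, X ≤ E ∧ E ≤ M ∧ Nat.card E = p ^ k := by
  obtain ⟨m, hm⟩ := hM.exists_card_eq
  obtain ⟨i, hi⟩ := (hM.to_le hXM).exists_card_eq
  have hp1 := (Fact.out : p.Prime).one_lt
  rw [hm] at hk
  rw [hi] at hX
  obtain ⟨K, hK, hle⟩ := Sylow.exists_subgroup_card_pow_prime_le (G := M) p (n := i) (m := k)
    (hm ▸ pow_dvd_pow p ((Nat.pow_le_pow_iff_right hp1).mp hk)) (X.subgroupOf M)
    ((Nat.card_congr (subgroupOfEquivOfLe hXM).toEquiv).trans hi)
    ((Nat.pow_le_pow_iff_right hp1).mp hX)
  refine ⟨K.map M.subtype, ?_, map_subtype_le K, ?_⟩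
  · have := map_mono (f := M.subtype) hle
    rwa [map_subgroupOf_eq_of_le hXM] at this
  · rw [card_map_of_injective M.subtype_injective, hK]

theorem index_eq_of_isCoatom [Finite G] [Fact p.Prime] (hG : IsPGroup p G) {M : Subgroup G}
    (hM : IsCoatom M) : M.index = p := by
  obtain ⟨n, hn⟩ := hG.exists_card_eq
  obtain ⟨i, hi⟩ := (hG.to_subgroup M).exists_card_eq
  have hp1 := (Fact.out : p.Prime).one_lt
  have hlt : i < n := by
    by_contra hle
    refine hM.1 (eq_of_le_of_card_ge le_top ?_)
    rw [card_top, hn, hi]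
    exact Nat.pow_le_pow_right hp1.le (not_lt.mp hle)
  obtain ⟨K, hK, hle⟩ := Sylow.exists_subgroup_card_pow_prime_le (G := G) p (n := i) (m := n - 1)
    (hn ▸ pow_dvd_pow p (Nat.sub_le n 1)) M hi (Nat.le_sub_one_of_lt hlt)
  have hKM : M = K := by
    rcases hle.eq_or_lt with e | e
    · exact e
    · exfalso
      have h1 : Nat.card K = Nat.card G := by rw [hM.2 K e, card_top]
      rw [hK, hn] at h1
      have := Nat.pow_right_injective hp1 h1
      omega
  have h := M.card_mul_index
  rw [hKM, hK, hn, show p ^ n = p ^ (n - 1) * p by rw [← pow_succ]; congr 1; omega] at h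
  rw [hKM]
  exact Nat.eq_of_mul_eq_mul_left (pow_pos (by omega) _) h

theorem normalizer_le_normalizer_map_char [Finite G] (R : Subgroup G) (K : Subgroup R)
    [hK : K.Characteristic] :
    normalizer (R : Set G) ≤ normalizer ((K.map R.subtype : Subgroup G) : Set G) := by
  intro g hg
  refine mem_normalizer_of_forall fun x hx => ?_
  obtain ⟨y, hy, rfl⟩ := mem_map.mp hx
  refine mem_map.mpr ⟨normalizerMonoidHom R ⟨g, hg⟩ y, ?_, rfl⟩
  have := hK.fixed (normalizerMonoidHom R ⟨g, hg⟩)
  rw [← this] at hy
  exact hy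

theorem mem_frattini_of_forall {x : G} (h : ∀ M : Subgroup G, IsCoatom M → x ∈ M) :
    x ∈ frattini G := by
  rw [frattini, Order.radical]
  simp only [mem_iInf]
  exact fun M hM => h M hM

theorem pow_mem_frattini [Finite G] [Fact p.Prime] (hG : IsPGroup p G) (x : G) :
    x ^ p ∈ frattini G := by
  refine mem_frattini_of_forall fun M hM => ?_
  haveI := PGroupsBasic.normal_of_isCoatom hG hM
  have := M.pow_index_mem x
  rwa [index_eq_of_isCoatom hG hM] at this

/-- The coprime-action lemma: if all tested subgroups of `R` are `A`-invariant and `h ∈ A` acts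
trivially on invariant cyclic subgroups and on invariant sections of order `p`, then `h`
centralizes `R`. -/
theorem mem_centralizer_of_tested [Finite G] [hp : Fact p.Prime] {k : ℕ} (hk : 1 ≤ k)
    {A : Subgroup G} {h : G} (hA : h ∈ A) (hcop : (orderOf h).Coprime p)
    (c1 : ∀ S : Subgroup G, IsPGroup p S → IsCyclic S → A ≤ normalizer (S : Set G) →
      h ∈ centralizer (S : Set G))
    (c2 : ∀ T S : Subgroup G, T ≤ S → A ≤ normalizer (T : Set G) → A ≤ normalizer (S : Set G) →
      S ≤ normalizer (T : Set G) → T.relIndex S = p → ∀ s ∈ S, h * s * h⁻¹ * s⁻¹ ∈ T)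
    (R : Subgroup G) (hR : IsPGroup p R) (hAR : A ≤ normalizer (R : Set G))
    (hcard : p ^ k < Nat.card R)
    (hinv : ∀ F : Subgroup G, F ≤ R → IsTested (p ^ k) F → A ≤ normalizer (F : Set G)) :
    h ∈ centralizer (R : Set G) := by
  suffices ∀ (n : ℕ) (R : Subgroup G), Nat.card R = n → IsPGroup p R →
      A ≤ normalizer (R : Set G) → p ^ k < Nat.card R →
      (∀ F : Subgroup G, F ≤ R → IsTested (p ^ k) F → A ≤ normalizer (F : Set G)) →
      h ∈ centralizer (R : Set G) from this _ R rfl hR hAR hcard hinv
  intro n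
  induction n using Nat.strong_induction_on with
  | _ n ih =>
    clear hR hAR hcard hinv R
    intro R hn hR hAR hcard hinv
    by_cases hcyc : IsCyclic R
    · exact c1 R hR hcyc hAR
    have hp1 := hp.out.one_lt
    set Φ := (frattini R).map R.subtype with hΦ
    have hΦR : Φ ≤ R := map_subtype_le _
    have hAΦ : A ≤ normalizer (Φ : Set G) := hAR.trans (normalizer_le_normalizer_map_char R _)
    have hΦc : Nat.card Φ = Nat.card (frattini R) :=
      card_map_of_injective R.subtype_injective
    obtain ⟨e, he⟩ := hR.exists_card_eq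
    have hke : k + 1 ≤ e := (Nat.pow_lt_pow_iff_right hp1).mp (he ▸ hcard)
    by_cases hsmall : Nat.card Φ < p ^ k
    · have hM : ∀ M : Subgroup R, IsCoatom M →
          A ≤ normalizer ((M.map R.subtype : Subgroup G) : Set G) := by
        intro M hM a ha
        refine mem_normalizer_of_forall fun x hx => ?_
        obtain ⟨y, hy, rfl⟩ := mem_map.mp hx
        set Y := frattini R ⊔ zpowers y with hY
        have hYM : Y ≤ M := sup_le (frattini_le_coatom hM) ((zpowers_le (g := y)).mpr hy)
        have hMc : Nat.card M = p ^ (e - 1) := by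
          have h1 := M.card_mul_index
          rw [index_eq_of_isCoatom hR hM, he,
            show p ^ e = p ^ (e - 1) * p by rw [← pow_succ]; congr 1; omega] at h1
          exact Nat.eq_of_mul_eq_mul_right (by omega) h1
        have hYc : Nat.card Y ≤ p ^ k := by
          have h1 : (frattini R).relIndex Y ∣ p := by
            conv_lhs => rw [← QuotientGroup.ker_mk' (frattini R)]
            rw [relIndex_ker, hY, Subgroup.map_sup, show (frattini R).map (QuotientGroup.mk' (frattini R)) = ⊥ from
                (Subgroup.map_eq_bot_iff _).mpr (QuotientGroup.ker_mk' _).ge, bot_sup_eq, MonoidHom.map_zpowers,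
              Nat.card_zpowers]
            refine orderOf_dvd_of_pow_eq_one ?_
            rw [← map_pow, ← MonoidHom.mem_ker, QuotientGroup.ker_mk']
            exact pow_mem_frattini hR y
          have h2 : Nat.card (frattini R) * (frattini R).relIndex Y = Nat.card Y := by
            rw [← relIndex_bot_left, ← relIndex_bot_left,
              relIndex_mul_relIndex ⊥ (frattini R) Y bot_le le_sup_left]
          obtain ⟨j, hj⟩ := (hR.to_subgroup (frattini R)).exists_card_eq
          have hjk : j < k := by
            rw [hΦc, hj] at hsmall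
            exact (Nat.pow_lt_pow_iff_right hp1).mp hsmall
          calc Nat.card Y = p ^ j * (frattini R).relIndex Y := by rw [← hj, h2]
            _ ≤ p ^ j * p := Nat.mul_le_mul_left _ (Nat.le_of_dvd (by omega) h1)
            _ ≤ p ^ k := by rw [← pow_succ]; exact Nat.pow_le_pow_right (by omega) hjk
        obtain ⟨E, hYE, hEM, hEc⟩ := exists_card_le_le (hR.to_subgroup M) hYM hYc
          (hMc ▸ Nat.pow_le_pow_right (by omega) (by omega))
        have hE1 : Nat.card (E.map R.subtype) = p ^ k := by
          rw [card_map_of_injective R.subtype_injective, hEc]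
        have h1 := (mem_normalizer_iff.mp
          (hinv _ (map_subtype_le E) (Or.inl hE1) ha) _).mp
          (mem_map_of_mem R.subtype (hYE (mem_sup_right (mem_zpowers y))))
        exact map_mono hEM h1
      have hstep : ∀ r ∈ R, h * r * h⁻¹ * r⁻¹ ∈ Φ := by
        intro r hr
        have hrR : h * r * h⁻¹ * r⁻¹ ∈ R :=
          mul_mem ((mem_normalizer_iff.mp (hAR hA) r).mp hr) (inv_mem hr)
        refine mem_map.mpr ⟨⟨_, hrR⟩, mem_frattini_of_forall fun M hMc => ?_, rfl⟩
        haveI := PGroupsBasic.normal_of_isCoatom hR hMc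
        have hRN : R ≤ normalizer ((M.map R.subtype : Subgroup G) : Set G) := by
          have h1 := le_normalizer_map (H := M) R.subtype
          rwa [normalizer_eq_top, ← MonoidHom.range_eq_map, range_subtype] at h1
        have hi : (M.map R.subtype).relIndex R = p := by
          rw [relIndex, subgroupOf, comap_map_eq_self_of_injective R.subtype_injective,
            index_eq_of_isCoatom hR hMc]
        obtain ⟨y, hy, hye⟩ := mem_map.mp (c2 _ R (map_subtype_le M) (hM M hMc) hAR hRN hi r hr)
        have he' : (⟨_, hrR⟩ : R) = y := Subtype.ext hye.symm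
        rw [he']
        exact hy
      have hle : zpowers h ≤ centralizer (R : Set G) := by
        refine CoprimeAction.le_centralizer_of_frattini ((zpowers_le).mpr (hAR hA)) ?_ ?_
        · rw [Nat.card_zpowers]
          obtain ⟨j, hj⟩ := (hR.to_subgroup (frattini R)).exists_card_eq
          rw [hj]
          exact hcop.pow_right j
        · intro a ha r hr
          obtain ⟨i, rfl⟩ := mem_powers_iff_mem_zpowers.mpr ha
          have hiter : ∀ i : ℕ, ∀ r ∈ R, h ^ i * r * (h ^ i)⁻¹ * r⁻¹ ∈ Φ := by
            intro i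
            induction i with
            | zero => intro r _; simp [one_mem]
            | succ i ihi =>
              intro r hr
              have h1 := mul_mem (hstep _ ((mem_normalizer_iff.mp (pow_mem (hAR hA) i) r).mp hr))
                (ihi r hr)
              convert h1 using 1
              rw [pow_succ']
              group
          exact hiter i r hr
      exact hle (mem_zpowers h)
    push Not at hsmall
    -- subgroups above `Φ` generated by it and a tested subgroup
    have key : ∀ (E : Subgroup G) (y : G), E ≤ R → IsTested (p ^ k) E → y ∈ E → y ∉ Φ →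
        h ∈ centralizer ((E ⊔ Φ : Subgroup G) : Set G) := by
      intro E y hER hE hyE hyΦ
      have hlt : Φ < E ⊔ Φ := lt_of_le_of_ne le_sup_right fun e' =>
        hyΦ (e' ▸ mem_sup_left hyE)
      have hgt : p ^ k < Nat.card (E ⊔ Φ : Subgroup G) := by
        by_contra hle
        exact hlt.ne (eq_of_le_of_card_ge hlt.le ((not_lt.mp hle).trans hsmall))
      have hne : E ⊔ Φ ≠ R := by
        intro e'
        have hER' : E = R := by
          have h1 : (E.subgroupOf R) ⊔ frattini R = ⊤ := by
            apply map_injective R.subtype_injective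
            rw [Subgroup.map_sup, map_subgroupOf_eq_of_le hER, ← hΦ, e', ← MonoidHom.range_eq_map,
              range_subtype]
          exact le_antisymm hER (subgroupOf_eq_top.mp (frattini_nongenerating h1))
        subst hER'
        rcases hE with hE | ⟨hd, hE⟩
        · omega
        · have hyE' : (⟨y, hyE⟩ : E) ∉ frattini E := fun hmem => hyΦ ⟨⟨y, hyE⟩, hmem, rfl⟩
          apply hcyc
          have h4 : frattini E ⊔ zpowers (⟨y, hyE⟩ : E) = ⊤ := by
            apply eq_top_of_card_eq
            have hlt' : frattini E < frattini E ⊔ zpowers (⟨y, hyE⟩ : E) :=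
              lt_of_le_of_ne le_sup_left fun e'' =>
                hyE' (e''.symm ▸ mem_sup_right (mem_zpowers _))
            have hc1 : Nat.card (frattini E) <
                Nat.card (frattini E ⊔ zpowers (⟨y, hyE⟩ : E) : Subgroup E) := by
              by_contra hle
              exact hlt'.ne (eq_of_le_of_card_ge hlt'.le (not_lt.mp hle))
            have hdvd := card_subgroup_dvd_card (frattini E ⊔ zpowers (⟨y, hyE⟩ : E))
            rw [hE] at hdvd ⊢
            have h5 := Nat.le_of_dvd (by norm_num) hdvd
            rw [hΦc, hd] at hsmall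
            interval_cases hY : Nat.card (frattini E ⊔ zpowers (⟨y, hyE⟩ : E) : Subgroup E) <;>
              omega
          rw [sup_comm] at h4
          rw [isCyclic_iff_exists_zpowers_eq_top]
          exact ⟨_, frattini_nongenerating h4⟩
      refine ih _ ?_ _ rfl (hR.to_le (sup_le hER hΦR)) ?_ hgt fun F hF =>
        hinv F (hF.trans (sup_le hER hΦR))
      · rw [← hn]
        refine lt_of_le_of_ne (card_le_of_le (sup_le hER hΦR)) fun e' => ?_
        exact hne (eq_of_le_of_card_ge (sup_le hER hΦR) e'.ge)
      · intro a ha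
        refine mem_normalizer_of_forall fun z hz => ?_
        have : cj a (E ⊔ Φ) = E ⊔ Φ := by
          rw [cj, Subgroup.map_sup, ← cj, ← cj, TransferAlperin.cj_eq_self (hinv E hER hE ha),
            TransferAlperin.cj_eq_self (hAΦ ha)]
        exact this ▸ conj_mem_cj hz
    have tested : ∀ y ∈ R, (orderOf y ≤ p ^ k ∨ (p ^ k = 2 ∧ orderOf y = 4)) →
        ∃ E : Subgroup G, E ≤ R ∧ IsTested (p ^ k) E ∧ y ∈ E := by
      intro y hy ho
      rcases ho with ho | ⟨h2, ho⟩
      · obtain ⟨E, hyE, hER, hEc⟩ := exists_card_le_le hR ((zpowers_le).mpr hy)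
          (by rwa [Nat.card_zpowers]) hcard.le
        exact ⟨E, hER, Or.inl hEc, hyE (mem_zpowers y)⟩
      · exact ⟨zpowers y, (zpowers_le).mpr hy, Or.inr ⟨h2, by rw [Nat.card_zpowers, ho]⟩,
          mem_zpowers y⟩
    by_contra hne
    obtain ⟨R', hR', _, h2, h3⟩ :=
      TransferOmega.exists_small_of_not_centralize R hR (hAR hA) hcop hne
    apply h2
    rw [mem_centralizer_iff]
    intro x hx
    have hxR := hR' hx
    by_cases hxΦ : x ∈ Φ
    · rcases hsmall.lt_or_eq with hlt | heq
      · refine mem_centralizer_iff.mp (ih _ ?_ Φ rfl (hR.to_le hΦR) hAΦ hlt fun F hF =>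
          hinv F (hF.trans hΦR)) x hxΦ
        rw [← hn]
        refine lt_of_le_of_ne (card_le_of_le hΦR) fun e' => ?_
        have hΦeq := eq_of_le_of_card_ge hΦR e'.ge
        have : frattini R = ⊤ := by
          apply map_injective R.subtype_injective
          rw [← hΦ, hΦeq, ← MonoidHom.range_eq_map, range_subtype]
        apply hne
        rw [mem_centralizer_iff]
        intro r hr
        have hbot : (⊥ : Subgroup R) = ⊤ := frattini_nongenerating (by rw [this, bot_sup_eq])
        have : (⟨r, hr⟩ : R) ∈ (⊥ : Subgroup R) := hbot ▸ mem_top _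
        rw [mem_bot] at this
        have hr1 : r = 1 := congrArg Subtype.val this
        rw [hr1]; simp
      · by_cases hex : ∃ y ∈ R, y ∉ Φ ∧ (orderOf y ≤ p ^ k ∨ (p ^ k = 2 ∧ orderOf y = 4))
        · obtain ⟨y, hy, hyΦ, ho⟩ := hex
          obtain ⟨E, hER, hE, hyE⟩ := tested y hy ho
          exact mem_centralizer_iff.mp (key E y hER hE hyE hyΦ) x (mem_sup_right hxΦ)
        · push Not at hex
          obtain ⟨y, hy, hyΦ⟩ : ∃ y ∈ R, y ∉ Φ := by
            by_contra hall
            push Not at hall
            have h1 := card_le_of_le (show R ≤ Φ from hall)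
            omega
          have hyp : y ^ p ∈ Φ := ⟨⟨y, hy⟩ ^ p, pow_mem_frattini hR _, rfl⟩
          have ho := (hex y hy hyΦ).1
          obtain ⟨j, hj⟩ := IsPGroup.iff_orderOf.mp hR ⟨y, hy⟩
          rw [orderOf_mk] at hj
          rw [hj] at ho
          have hjk := (Nat.pow_lt_pow_iff_right hp1).mp ho
          have hgen : zpowers (y ^ p) = Φ := by
            refine eq_of_le_of_card_ge ((zpowers_le).mpr hyp) ?_
            rw [← heq, Nat.card_zpowers, orderOf_pow_of_dvd hp.out.ne_zero
              (hj ▸ dvd_pow_self p (by omega)), hj,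
              show p ^ j = p ^ (j - 1) * p by rw [← pow_succ]; congr 1; omega,
              Nat.mul_div_cancel _ hp.out.pos]
            exact Nat.pow_le_pow_right (by omega) (by omega)
          have hcΦ : IsCyclic Φ := hgen ▸ inferInstance
          exact mem_centralizer_iff.mp (c1 Φ (hR.to_le hΦR) hcΦ hAΦ) x hxΦ
    · have ho : orderOf x ≤ p ^ k ∨ (p ^ k = 2 ∧ orderOf x = 4) := by
        rcases h3 x hx with hxp | ⟨h2', hx4⟩
        · exact Or.inl ((orderOf_le_of_pow_eq_one hp.out.pos hxp).trans
            (Nat.le_self_pow (by omega) p))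
        · have h4 : orderOf x ∣ 4 := orderOf_dvd_of_pow_eq_one hx4
          have h5 := Nat.le_of_dvd (by norm_num) h4
          by_cases hk1 : k = 1
          · subst hk1
            subst h2'
            interval_cases hox : orderOf x <;> simp_all
          · refine Or.inl (h5.trans ?_)
            subst h2'
            exact (show (4 : ℕ) = 2 ^ 2 by norm_num) ▸ Nat.pow_le_pow_right (by norm_num) (by omega)
      obtain ⟨E, hER, hE, hxE⟩ := tested x hxR ho
      exact mem_centralizer_iff.mp (key E x hER hE hxE hxΦ) x (mem_sup_left hxE)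

/-- **Normal `p`-complements from strongly closed subgroups of one order.** -/
theorem hasNormalPComplement [Finite G] [hp : Fact p.Prime] (hdiv : p ∣ Nat.card G)
    (hmin : ∀ q : ℕ, q.Prime → q ∣ Nat.card G → p ≤ q) (P : Sylow p G)
    (h : IsCyclic ↥(P : Subgroup G) ∨ ∃ d : ℕ, 1 < d ∧ d < Nat.card (P : Subgroup G) ∧
      d ∣ Nat.card (P : Subgroup G) ∧ StrongD (P : Subgroup G) d) :
    Cfsg.HasNormalPComplement p G := by
  rcases h with hcyc | ⟨d, hd1, hd2, hd3, hs⟩
  · have hp' : (Nat.card G).minFac = p :=
      le_antisymm (Nat.minFac_le_of_dvd hp.out.two_le hdiv) (hmin _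
        (Nat.minFac_prime fun h1 => hp.out.not_dvd_one (h1 ▸ hdiv)) (Nat.minFac_dvd _))
    exact ⟨P, _, inferInstance, IsCyclic.isComplement' hp' hcyc⟩
  obtain ⟨e, he⟩ := P.isPGroup'.exists_card_eq
  rw [he] at hd2 hd3
  obtain ⟨k, hke, rfl⟩ := (Nat.dvd_prime_pow hp.out).mp hd3
  have hk : 1 ≤ k := by
    rcases Nat.eq_zero_or_pos k with h0 | h0
    · rw [h0] at hd1; simp at hd1
    · exact h0
  have hlt : k < e := (Nat.pow_lt_pow_iff_right hp.out.one_lt).mp hd2
  set F := (frattini (P : Subgroup G)).map (P : Subgroup G).subtype with hF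
  have hinv : ∀ E : Subgroup G, E ≤ (P : Subgroup G) → IsTested (p ^ k) E → ∀ R : Subgroup G,
      E ≤ R → R ≤ (P : Subgroup G) → normalizer (R : Set G) ≤ normalizer (E : Set G) := by
    intro E hE hEd R hER hR a ha
    exact mem_normalizer_of_forall fun x hx => conj_mem_of_strongD P.isPGroup' hs hE hEd hx
      (hR ((mem_normalizer_iff.mp ha x).mp (hER hx)))
  have claim : ∀ R : Subgroup G, R ≤ (P : Subgroup G) → ∀ n ∈ normalizer (R : Set G),
      (orderOf n).Coprime p → ∀ x ∈ R, n * x * n⁻¹ * x⁻¹ ∈ F := by
    intro R hR n hn hcop x hx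
    have hcop1 : (p - 1).Coprime (orderOf n) := by
      refine Nat.coprime_of_dvd fun q hq h1 h2 => ?_
      have := hmin q hq (h2.trans (orderOf_dvd_natCard n))
      have h2' := hp.out.two_le
      have h3 : 0 < p - 1 := by omega
      have := Nat.le_of_dvd h3 h1
      omega
    obtain ⟨m, hm⟩ := exists_pow_eq_self_of_coprime hcop1
    rw [← pow_mul, mul_comm, pow_mul] at hm
    have hcop2 : (orderOf (n ^ m)).Coprime p := hcop.coprime_dvd_left (orderOf_pow_dvd m)
    by_cases hsz : p ^ k < Nat.card R
    · have hc : n ∈ centralizer (R : Set G) := by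
        refine mem_centralizer_of_tested hk (A := zpowers n) (mem_zpowers n) hcop ?_ ?_ R
          (P.isPGroup'.to_le hR) ((zpowers_le).mpr hn) hsz fun E hE hEd =>
            ((zpowers_le).mpr hn).trans (hinv E (hE.trans hR) hEd R hE hR)
        · intro S hS hcyc hAS
          have := pow_mem_centralizer_of_cyclic hS hcyc (hAS (pow_mem (mem_zpowers n) m)) hcop2
          rwa [hm] at this
        · intro T S _ hAT hAS hST hi s hs'
          have := pow_commutator_mem hST hi (hAT (pow_mem (mem_zpowers n) m))
            (hAS (pow_mem (mem_zpowers n) m)) hcop2 hs'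
          rwa [hm] at this
      rw [← mem_centralizer_iff.mp hc x hx]
      simp [one_mem]
    · have hxP : n * x * n⁻¹ * x⁻¹ ∈ (P : Subgroup G) :=
        hR (mul_mem ((mem_normalizer_iff.mp hn x).mp hx) (inv_mem hx))
      refine mem_map.mpr ⟨⟨_, hxP⟩, mem_frattini_of_forall fun M hMc => ?_, rfl⟩
      haveI := PGroupsBasic.normal_of_isCoatom P.isPGroup' hMc
      set M' := M.map (P : Subgroup G).subtype with hM'
      have hMi : M.index = p := index_eq_of_isCoatom P.isPGroup' hMc
      have hMc' : Nat.card M' = p ^ (e - 1) := by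
        rw [hM', card_map_of_injective (P : Subgroup G).subtype_injective]
        have h1 := M.card_mul_index
        rw [hMi, he, show p ^ e = p ^ (e - 1) * p by rw [← pow_succ]; congr 1; omega] at h1
        exact Nat.eq_of_mul_eq_mul_right hp.out.pos h1
      have hPM : (P : Subgroup G) ≤ normalizer (M' : Set G) := by
        have h1 := le_normalizer_map (H := M) (P : Subgroup G).subtype
        rwa [normalizer_eq_top, ← MonoidHom.range_eq_map, range_subtype] at h1
      have hninv : ∀ y ∈ R ⊓ M', ∀ m' : ℕ, n ^ m' * y * (n ^ m')⁻¹ ∈ R ⊓ M' := by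
        intro y hy m'
        have hyR : n ^ m' * y * (n ^ m')⁻¹ ∈ R :=
          (mem_normalizer_iff.mp (pow_mem hn m') y).mp hy.1
        refine ⟨hyR, ?_⟩
        have h1 : Nat.card (zpowers y) ≤ p ^ k :=
          (card_le_of_le ((zpowers_le).mpr hy.1)).trans (not_lt.mp hsz)
        obtain ⟨E, hyE, hEM, hEc⟩ := exists_card_le_le (P.isPGroup'.to_le (map_subtype_le M))
          ((zpowers_le).mpr hy.2) h1 (hMc' ▸ Nat.pow_le_pow_right hp.out.pos (by omega))
        exact hEM (conj_mem_of_strongD P.isPGroup' hs (hEM.trans (map_subtype_le M))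
          (Or.inl hEc) (hyE (mem_zpowers y)) (hR hyR))
      have hrel : (R ⊓ M').relIndex R ∣ p := by
        rw [inf_relIndex_left]
        have h1 := relIndex_dvd_index_of_normal M (R.subgroupOf (P : Subgroup G))
        rw [hMi, ← relIndex_map_map_of_injective M _ (P : Subgroup G).subtype_injective,
          map_subgroupOf_eq_of_le hR] at h1
        exact h1
      have hmem : n * x * n⁻¹ * x⁻¹ ∈ R ⊓ M' := by
        rcases (Nat.dvd_prime hp.out).mp hrel with h1 | h1
        · exact relIndex_eq_one.mp h1 (mul_mem ((mem_normalizer_iff.mp hn x).mp hx) (inv_mem hx))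
        · have hRN : R ≤ normalizer ((R ⊓ M' : Subgroup G) : Set G) := fun r hr =>
            mem_normalizer_of_forall fun y hy =>
              mem_inf.mpr ⟨mul_mem (mul_mem hr hy.1) (inv_mem hr),
                (mem_normalizer_iff.mp (hPM (hR hr)) y).mp hy.2⟩
          have := pow_commutator_mem hRN h1 (mem_normalizer_of_forall fun y hy => hninv y hy m)
            (pow_mem hn m) hcop2 hx
          rwa [hm] at this
      obtain ⟨y, hy, hye⟩ := mem_map.mp hmem.2
      have he' : (⟨_, hxP⟩ : (P : Subgroup G)) = y := Subtype.ext hye.symm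
      rw [he']
      exact hy
  have hbase : ∀ T : Subgroup G, T ≤ (P : Subgroup G) →
      TransferAlperin.IsFullyNormalized p (P : Subgroup G) T →
      ∀ c ∈ normalizer (T : Set G), ∀ x ∈ T, c * x * c⁻¹ * x⁻¹ ∈ F := by
    intro T hT hfn
    set N := normalizer (T : Set G) with hN
    let K : Subgroup G :=
      { carrier := {c | c ∈ N ∧ ∀ x ∈ T, c * x * c⁻¹ * x⁻¹ ∈ F}
        one_mem' := ⟨one_mem _, fun x _ => by simp [one_mem]⟩
        mul_mem' := fun {a b} ha hb => ⟨mul_mem ha.1 hb.1, fun x hx => by
          have h1 := ha.2 _ ((mem_normalizer_iff.mp hb.1 x).mp hx)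
          have h2 := mul_mem h1 (hb.2 x hx)
          convert h2 using 1
          group⟩
        inv_mem' := fun {a} ha => ⟨inv_mem ha.1, fun x hx => by
          have hy : a⁻¹ * x * a⁻¹⁻¹ ∈ T := (mem_normalizer_iff.mp (inv_mem ha.1) x).mp hx
          have h1 := inv_mem (ha.2 _ hy)
          convert h1 using 1
          group⟩ }
    suffices hK : N ≤ K from fun c hc => (hK hc).2
    set S := ((P : Subgroup G) ⊓ N).subgroupOf N with hS
    have hSp : IsPGroup p S :=
      ((P.isPGroup'.to_le inf_le_left).comap_subtype (K := N))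
    have hSi : ¬ p ∣ S.index := TransferAlperin.not_dvd_relIndex_of_isFullyNormalized P hfn
    have htop := TransferPResidual.sylow_sup_pResidual (hSp.toSylow hSi)
    have hle : (⊤ : Subgroup N) ≤ K.subgroupOf N := by
      rw [← htop]
      refine sup_le ?_ ?_
      · intro s hs'
        have hs'' : s ∈ S := hs'
        rw [hS, mem_subgroupOf] at hs''
        rw [mem_subgroupOf]
        refine ⟨s.2, fun x hx => ?_⟩
        have h1 : ⁅(⟨(s : G), hs''.1⟩ : (P : Subgroup G)), ⟨x, hT hx⟩⁆ ∈ frattini (P : Subgroup G) := by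
          refine mem_frattini_of_forall fun M hMc => ?_
          haveI := PGroupsBasic.normal_of_isCoatom P.isPGroup' hMc
          exact TransferTate.commutator_le_of_index_prime
            (index_eq_of_isCoatom P.isPGroup' hMc) (commutator_mem_commutator (mem_top _) (mem_top _))
        exact mem_map.mpr ⟨_, h1, by simp [commutatorElement_def]⟩
      · rw [TransferPResidual.pResidual_le_iff_coprime]
        intro g hg
        rw [mem_subgroupOf]
        refine ⟨g.2, fun x hx => claim T hT g g.2 ?_ x hx⟩
        rwa [orderOf_coe]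
    intro c hc
    exact mem_subgroupOf.mp (hle (mem_top ⟨c, hc⟩))
  have halp := TransferAlperin.alperin_induction P
    (fun T g => ∀ x ∈ T, g * x * g⁻¹ * x⁻¹ ∈ F)
    (fun T g g' _ _ _ h1 h2 x hx => by
      have h3 := mul_mem (h2 _ (conj_mem_cj hx)) (h1 x hx)
      convert h3 using 1
      group)
    (fun T g _ _ h1 x hx => by
      have h2 := inv_mem (h1 _ (mem_cj.mp hx))
      convert h2 using 1
      group)
    (fun S T g hST _ _ h1 x hx => h1 x (hST hx))
    (fun T hT hfn _ => hbase T hT hfn)
  apply TransferTate.hasNormalPComplement_of_le_frattini P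
  refine (TransferPResidual.inf_pResidual_le_focal P).trans ?_
  rw [focalSubgroup_def, closure_le]
  rintro g ⟨hg, x, hx, u, rfl⟩
  have hu : u * x * u⁻¹ ∈ (P : Subgroup G) := by
    have h1 := mul_mem (inv_mem hg) hx
    convert h1 using 1
    rw [commutatorElement_def]
    group
  have h1 := halp (zpowers x) u ((zpowers_le).mpr hx) (by
    rw [cj, MonoidHom.map_zpowers, zpowers_le]
    exact hu) x (mem_zpowers x)
  have e : ⁅x, u⁆ = (u * x * u⁻¹ * x⁻¹)⁻¹ := by rw [commutatorElement_def]; group
  rw [SetLike.mem_coe, e]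
  exact inv_mem h1

end Cfsg.Agent.OrderDSubgroups
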