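import Mathlib
import Cfsg.Agent.Lib.Supersolvable
import Cfsg.Agent.Lib.HallSolvable
import Cfsg.Agent.Lib.CoprimeSZ
import Cfsg.Agent.Lib.PGroupsBasic

/-!
Criteria for supersolvability: chains with decreasing primes, the converse of Lagrange's theorem,
groups of order `2 p^n`, the saturation property, supersolvable supplements of normal `p`-subgroups,
conjugacy of supersolvable Hall subgroups.
-/

set_option autoImplicit false
set_option linter.unusedVariables false
set_option linter.unusedSectionVars false
set_option linter.style.haveILetI false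

namespace Cfsg.Agent.SupersolvableCriteria

open Cfsg Subgroup
open Cfsg.Agent.Supersolvable
open scoped commutatorElement Pointwise

universe u

theorem exists_decreasing_chain {G : Type u} [Group G] [Finite G] (h : IsSupersolvable G) :
    ∃ (n : ℕ) (H : Fin (n + 1) → Subgroup G), H 0 = ⊥ ∧ H (Fin.last n) = ⊤ ∧ (∀ i, (H i).Normal) ∧
      (∀ i : Fin n, H i.castSucc ≤ H i.succ ∧ ((H i.castSucc).relIndex (H i.succ)).Prime) ∧
      ∀ i j : Fin n, i ≤ j →
        (H j.castSucc).relIndex (H j.succ) ≤ (H i.castSucc).relIndex (H i.succ) := by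
  induction hn : Nat.card G using Nat.strong_induction_on generalizing G with
  | _ n ih =>
    rcases subsingleton_or_nontrivial G with hs | hs
    · exact ⟨0, fun _ => ⊥, rfl, Subsingleton.elim _ _, fun _ => inferInstance, fun i => i.elim0,
        fun i => i.elim0⟩
    obtain ⟨p, M, hp, hM, hMc, hmax⟩ := exists_normal_card_max h
    have hMp : (Nat.card M).Prime := hMc.symm ▸ hp
    obtain ⟨m, H, h0, hl, hN, hst, hmono⟩ :=
      ih _ (hn ▸ Supersolvable.card_quotient_lt M (ne_bot_of_prime hMp))
        (Supersolvable.quotient h M) rfl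
    set π := QuotientGroup.mk' M with hπ
    have hsur : Function.Surjective π := QuotientGroup.mk'_surjective M
    let K : Fin (m + 2) → Subgroup G := Fin.cons ⊥ fun i => (H i).comap π
    have hK0 : K (Fin.castSucc 0) = ⊥ := rfl
    have hK1 : K (Fin.succ 0) = M := by
      show (H 0).comap π = M
      rw [h0, MonoidHom.comap_bot, hπ, QuotientGroup.ker_mk']
    have hrel : ∀ j : Fin m, (K j.succ.castSucc).relIndex (K j.succ.succ) =
        (H j.castSucc).relIndex (H j.succ) := by
      intro j
      rw [Fin.castSucc_succ]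
      show ((H j.castSucc).comap π).relIndex ((H j.succ).comap π) = _
      rw [relIndex_comap, map_comap_eq_self_of_surjective hsur]
    have hrel0 : (K (Fin.castSucc 0)).relIndex (K (Fin.succ 0)) = p := by
      rw [hK0, hK1, relIndex_bot_left, hMc]
    refine ⟨m + 1, K, rfl, ?_, ?_, ?_, ?_⟩
    · show K (Fin.last (m + 1)) = ⊤
      rw [← Fin.succ_last]
      show (H (Fin.last m)).comap π = ⊤
      rw [hl, comap_top]
    · intro i
      refine Fin.cases ?_ (fun j => ?_) i
      · exact normal_bot
      · exact (hN j).comap π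
    · intro i
      refine Fin.cases ?_ (fun j => ?_) i
      · exact ⟨hK0.symm ▸ bot_le, hrel0.symm ▸ hp⟩
      · refine ⟨?_, (hrel j).symm ▸ (hst j).2⟩
        rw [Fin.castSucc_succ]
        exact comap_mono (hst j).1
    · intro i j hij
      have hle : ∀ j : Fin m, (H j.castSucc).relIndex (H j.succ) ≤ p := fun j =>
        hmax _ (hst j).2 (((H j.castSucc).subgroupOf (H j.succ)).index_dvd_card.trans
          ((card_subgroup_dvd_card _).trans (card_quotient_dvd_card M)))
      induction i using Fin.cases with
      | zero =>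
        induction j using Fin.cases with
        | zero => exact le_rfl
        | succ j => rw [hrel0, hrel j]; exact hle j
      | succ i =>
        induction j using Fin.cases with
        | zero => exact absurd hij (by simp)
        | succ j => rw [hrel i, hrel j]; exact hmono i j (Fin.succ_le_succ_iff.mp hij)

theorem hasSubgroupOfEveryOrder {G : Type u} [Group G] [Finite G] (h : IsSupersolvable G) :
    HasSubgroupOfEveryOrder G := by
  induction hn : Nat.card G using Nat.strong_induction_on generalizing G with
  | _ n ih =>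
    intro d hd
    rcases subsingleton_or_nontrivial G with hs | hs
    · refine ⟨⊥, ?_⟩
      rw [Nat.card_unique (α := G)] at hd
      rw [Nat.dvd_one.mp hd, card_bot]
    obtain ⟨p, M, hp, hM, hMc, hmax⟩ := exists_normal_card_max h
    have hMp : (Nat.card M).Prime := hMc.symm ▸ hp
    have hlt := hn ▸ Supersolvable.card_quotient_lt M (ne_bot_of_prime hMp)
    have hG : Nat.card G = Nat.card (G ⧸ M) * p := by
      rw [card_eq_card_quotient_mul_card_subgroup M, hMc]
    have hQ := ih _ hlt (Supersolvable.quotient h M) rfl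
    by_cases hpd : p ∣ d
    · obtain ⟨e, rfl⟩ := hpd
      rw [hG, mul_comm (Nat.card (G ⧸ M)) p] at hd
      obtain ⟨X, hX⟩ := hQ e (Nat.dvd_of_mul_dvd_mul_left hp.pos hd)
      exact ⟨X.comap (QuotientGroup.mk' M), by rw [← HallCore.card_comap_mk', hX, hMc, mul_comm]⟩
    · have hcop : Nat.Coprime d p := (hp.coprime_iff_not_dvd.mpr hpd).symm
      rw [hG] at hd
      obtain ⟨X, hX⟩ := hQ d (hcop.dvd_of_dvd_mul_right hd)
      set Y := X.comap (QuotientGroup.mk' M) with hY
      have hMY : M ≤ Y := QuotientGroup.le_comap_mk' M X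
      have hYc : Nat.card Y = d * p := by rw [hY, ← HallCore.card_comap_mk', hX, hMc]
      have hMc' : Nat.card (M.subgroupOf Y) = p := by
        rw [Nat.card_congr (subgroupOfEquivOfLe hMY).toEquiv, hMc]
      have hidx : (M.subgroupOf Y).index = d := by
        have := card_mul_index (M.subgroupOf Y)
        rw [hMc', hYc, mul_comm d p] at this
        exact Nat.eq_of_mul_eq_mul_left hp.pos this
      obtain ⟨C, hC⟩ := exists_right_complement'_of_coprime (N := M.subgroupOf Y)
        (by rw [hMc', hidx]; exact hcop.symm)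
      refine ⟨C.map Y.subtype, ?_⟩
      rw [card_map_of_injective Y.subtype_injective, ← hC.symm.index_eq_card, hidx]

theorem of_card_two_mul_prime_pow {G : Type u} [Group G] [Finite G] {p : ℕ} (hp : p.Prime)
    (n : ℕ) (hG : Nat.card G = 2 * p ^ n) : IsSupersolvable G := by
  haveI : Fact p.Prime := ⟨hp⟩
  induction n generalizing G with
  | zero =>
    rw [pow_zero, mul_one] at hG
    haveI : Fact (Nat.Prime 2) := ⟨Nat.prime_two⟩
    have hc : IsCyclic G := isCyclic_of_prime_card hG
    have : IsCyclic (⊤ : Subgroup G) := inferInstance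
    refine of_cyclic_normal ⊤ this ?_
    have := QuotientGroup.subsingleton_quotient_top (G := G)
    exact of_subsingleton
  | succ n ih =>
    have hpd : p ∣ Nat.card G := by rw [hG]; exact (dvd_pow_self p n.succ_ne_zero).mul_left 2
    obtain ⟨M, hM, hMc⟩ : ∃ M : Subgroup G, M.Normal ∧ Nat.card M = p := by
      obtain ⟨P⟩ := (inferInstance : Nonempty (Sylow p G))
      set S := (P : Subgroup G)
      have hidx : S.index ∣ 2 := by
        have h1 : p ^ (n + 1) ∣ Nat.card S := by
          refine P.pow_dvd_card_of_pow_dvd_card ?_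
          rw [hG]; exact dvd_mul_left _ _
        obtain ⟨c, hc⟩ := h1
        have h2 := S.card_mul_index
        rw [hc, hG, mul_comm 2, mul_assoc] at h2
        exact ⟨c, (Nat.eq_of_mul_eq_mul_left (pow_pos hp.pos _) h2).symm.trans (mul_comm _ _)⟩
      obtain ⟨x0, hx0⟩ := exists_prime_orderOf_dvd_card' (G := G) p hpd
      have hne : S ≠ ⊥ := P.ne_bot_of_dvd_card hpd
      set Z := (center S).map S.subtype with hZ
      have hnS : S.Normal := by
        rcases (Nat.dvd_prime Nat.prime_two).mp hidx with h1 | h1
        · rw [index_eq_one.mp h1]; infer_instance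
        · exact normal_of_index_eq_two h1
      have hZne : Z ≠ ⊥ := by
        rw [hZ, ne_eq, map_eq_bot_iff_of_injective _ S.subtype_injective]
        have : Nontrivial S := nontrivial_iff_ne_bot S |>.mpr hne
        exact P.2.bot_lt_center.ne'
      obtain ⟨x, hxZ, hxo⟩ := PGroupsBasic.exists_orderOf_eq_of_ne_bot (p := p) (H := Z)
        (P.2.to_le (map_subtype_le _)) hZne
      have hxp : x ^ p = 1 := hxo ▸ pow_orderOf_eq_one x
      have hcomm : ∀ z ∈ Z, ∀ s ∈ S, s * z = z * s := by
        rintro _ ⟨z, hz, rfl⟩ s hs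
        exact congrArg Subtype.val (mem_center_iff.mp hz ⟨s, hs⟩)
      by_cases htop : S = ⊤
      · refine ⟨zpowers x, PGroupsBasic.normal_of_le_center ?_, by rw [Nat.card_zpowers, hxo]⟩
        rw [zpowers_le, mem_center_iff]
        exact fun g => hcomm x hxZ g (htop ▸ mem_top g)
      have hidx2 : S.index = 2 := ((Nat.dvd_prime Nat.prime_two).mp hidx).resolve_left
        (fun h1 => htop (index_eq_one.mp h1))
      obtain ⟨t, ht⟩ : ∃ t, t ∉ S := not_forall.mp fun h => htop ((eq_top_iff' S).mpr h)
      have ht2 : t * t ∈ S := mul_self_mem_of_index_two hidx2 t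
      have hZn : Z.Normal := inferInstance
      set y := t * x * t⁻¹ with hy
      have hyZ : y ∈ Z := hZn.conj_mem x hxZ t
      have hyp : y ^ p = 1 := by rw [hy, conj_pow, hxp, mul_one, mul_inv_cancel]
      have hxy : x * y = y * x := (hcomm y hyZ x ((map_subtype_le _) hxZ))
      have hty : t * y * t⁻¹ = x := by
        calc t * y * t⁻¹ = (t * t) * x * (t * t)⁻¹ := by rw [hy]; group
          _ = x := by rw [hcomm x hxZ _ ht2, mul_inv_cancel_right]
      -- any `a ∈ Z` of order `p` whose powers are normalized by `t` spans a normal subgroup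
      have key : ∀ a ∈ Z, a ^ p = 1 → a ≠ 1 → t * a * t⁻¹ ∈ zpowers a →
          ∃ M : Subgroup G, M.Normal ∧ Nat.card M = p := by
        intro a haZ hap ha1 hta
        refine ⟨zpowers a, ⟨fun z hz g => ?_⟩, ?_⟩
        · obtain ⟨k, rfl⟩ := mem_zpowers_iff.mp hz
          rw [← conj_zpow]
          refine zpow_mem ?_ k
          by_cases hg : g ∈ S
          · rw [hcomm a haZ g hg, mul_inv_cancel_right]; exact mem_zpowers a
          · obtain ⟨k, hk⟩ := mem_zpowers_iff.mp hta
            have hs : t⁻¹ * g ∈ S := by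
              rw [mul_mem_iff_of_index_two hidx2]
              exact iff_of_false (fun h => ht (by simpa using inv_mem h)) hg
            have : g * a * g⁻¹ = t * a * t⁻¹ := by
              calc g * a * g⁻¹ = t * ((t⁻¹ * g) * a * (t⁻¹ * g)⁻¹) * t⁻¹ := by group
                _ = _ := by rw [hcomm a haZ _ hs, mul_inv_cancel_right]
            rw [this]; exact hta
        · rw [Nat.card_zpowers, PGroupsBasic.orderOf_eq_of_pow_eq_one hap ha1]
      have hx1 : x ≠ 1 := fun e => hp.ne_one (by rw [← hxo, e, orderOf_one])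
      by_cases ha : x * y = 1
      · refine key x hxZ hxp hx1 ?_
        rw [← hy, show y = x⁻¹ from eq_inv_of_mul_eq_one_right ha]
        exact inv_mem (mem_zpowers x)
      · refine key (x * y) (mul_mem hxZ hyZ) (by rw [Commute.mul_pow hxy, hxp, hyp, mul_one]) ha ?_
        rw [show t * (x * y) * t⁻¹ = (t * x * t⁻¹) * (t * y * t⁻¹) by group, hty, ← hy, ← hxy]
        exact mem_zpowers _
    refine of_prime_normal M (hMc.symm ▸ hp) (ih ?_)
    have h2 := card_eq_card_quotient_mul_card_subgroup M
    rw [hMc, hG, pow_succ, ← mul_assoc] at h2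
    exact (Nat.eq_of_mul_eq_mul_right hp.pos h2).symm

/-- An automorphism of order dividing `q - 1` of an elementary abelian `q`-group has an eigenvector. -/
theorem exists_scalar_eigen {q : ℕ} [hq : Fact q.Prime] {W : Type*} [CommGroup W] [Finite W] [Nontrivial W]
    (σ : W →* W) (hpow : ∀ w : W, w ^ q = 1) (hσ : ∀ w, σ^[q] w = σ w) :
    ∃ w : W, w ≠ 1 ∧ ∃ a : ℕ, σ w = w ^ a := by
  letI : Module (ZMod q) (Additive W) := AddCommGroup.zmodModule (n := q) fun v => hpow v
  let f : Module.End (ZMod q) (Additive W) :=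
    AddMonoidHom.toZModLinearMap q (MonoidHom.toAdditive σ)
  have hfi : ∀ (i : ℕ) (v : Additive W), ((f ^ i) v : Additive W) = Additive.ofMul (σ^[i] v.toMul) := by
    intro i v
    induction i with
    | zero => rfl
    | succ i ih =>
      rw [pow_succ', Module.End.mul_apply, ih, Function.iterate_succ_apply']
      rfl
  have hfq : f ^ q = f := LinearMap.ext fun v => by rw [hfi, hσ]; rfl
  have hdvd : minpoly (ZMod q) f ∣ (Polynomial.X ^ q - Polynomial.X : Polynomial (ZMod q)) := by
    refine minpoly.dvd _ _ ?_
    simp [hfq]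
  have hint : IsIntegral (ZMod q) f := Algebra.IsIntegral.isIntegral f
  have hspl : (Polynomial.X ^ q - Polynomial.X : Polynomial (ZMod q)).Splits := by
    rw [Polynomial.splits_iff_card_roots]
    have h1 := FiniteField.roots_X_pow_card_sub_X (ZMod q)
    rw [ZMod.card] at h1
    rw [h1, FiniteField.X_pow_card_sub_X_natDegree_eq _ hq.out.one_lt]
    exact ZMod.card q
  obtain ⟨μ, hμ⟩ := (hspl.of_dvd (FiniteField.X_pow_card_sub_X_ne_zero _ hq.out.one_lt)
    hdvd).exists_eval_eq_zero (minpoly.degree_pos hint).ne'
  obtain ⟨w, hw, hw0⟩ := (Module.End.hasEigenvalue_of_isRoot (f := f) hμ).exists_hasEigenvector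
  rw [Module.End.mem_eigenspace_iff] at hw
  refine ⟨w.toMul, fun e => hw0 (Additive.toMul.injective e), μ.val, ?_⟩
  rw [← ZMod.natCast_zmod_val μ, Nat.cast_smul_eq_nsmul] at hw
  exact congrArg Additive.toMul hw

/-- Saturation: supersolvability can be detected modulo any normal subgroup inside the Frattini
subgroup. -/
theorem of_quotient_le_frattini {G : Type u} [Group G] [Finite G] (N : Subgroup G) [N.Normal]
    (hN : N ≤ frattini G) (h : IsSupersolvable (G ⧸ N)) : IsSupersolvable G := by
  induction hn : Nat.card G using Nat.strong_induction_on generalizing G with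
  | _ n ih =>
    have hsolvN : Group.IsSolvable N := by
      have : Group.IsNilpotent (frattini G) := frattini_nilpotent
      exact Group.isSolvable_of_surjective (f := (subgroupOfEquivOfLe hN).toMonoidHom)
        (subgroupOfEquivOfLe hN).surjective
    have hsG : Group.IsSolvable G := by
      have := Supersolvable.isSolvable h
      exact Group.isSolvable_of_ker_le_range N.subtype (QuotientGroup.mk' N) (by simp)
    by_cases hN0 : N = ⊥
    · subst hN0
      exact of_mulEquiv QuotientGroup.quotientBot h
    -- quotients by nontrivial normal subgroups are supersolvable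
    have step : ∀ (R : Subgroup G) [R.Normal], R ≠ ⊥ → IsSupersolvable (G ⧸ R) := by
      intro R _ hR
      set π := QuotientGroup.mk' R
      have hsur : Function.Surjective π := QuotientGroup.mk'_surjective R
      have : (N.map π).Normal := (inferInstance : N.Normal).map π hsur
      refine ih _ (hn ▸ Supersolvable.card_quotient_lt R hR) (N.map π)
        ((map_mono hN).trans (map_le_iff_le_comap.mpr (frattini_le_comap_frattini_of_surjective hsur))) ?_ rfl
      refine of_surjective (QuotientGroup.map N (N.map π) π (le_comap_map π N)) ?_ h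
      intro x
      obtain ⟨x, rfl⟩ := QuotientGroup.mk_surjective x
      obtain ⟨g, rfl⟩ := hsur x
      exact ⟨g, rfl⟩
    obtain ⟨V, hV, hVN⟩ := HallSolvable.exists_minNormal_le hN0
    haveI := hV.normal
    have hVΦ : V ≤ frattini G := hVN.trans hN
    have hVq := step V hV.ne_bot
    by_cases huniq : ∃ R : Subgroup G, R.Normal ∧ R ≠ ⊥ ∧ V ⊓ R = ⊥
    · obtain ⟨R, hR, hR0, hVR⟩ := huniq
      refine of_injective ((QuotientGroup.mk' V).prod (QuotientGroup.mk' R)) ?_
        (prod hVq (step R hR0))
      rw [← MonoidHom.ker_eq_bot_iff, MonoidHom.ker_prod, QuotientGroup.ker_mk',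
        QuotientGroup.ker_mk', hVR]
    push Not at huniq
    have hmin : ∀ R : Subgroup G, R.Normal → R ≠ ⊥ → V ≤ R := fun R hR hR0 =>
      (hV.le_or_inf_eq_bot (K := R)).resolve_right (fun e => huniq R hR hR0 e)
    obtain ⟨p, k, hp, hk, hVc, hVe⟩ := hV.card_eq_pow
    have : Nontrivial G := by
      rw [← nontrivial_iff (G := G)]
      exact ⟨⟨V, ⊥, hV.ne_bot⟩⟩
    have : Nontrivial (G ⧸ V) := (QuotientGroup.nontrivial_iff (N := V)).mpr
      (fun e => PGroupsBasic.frattini_ne_top (G := G) (top_le_iff.mp (e ▸ hVΦ)))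
    obtain ⟨q, M, hq, hMn, hMc, hmax⟩ := exists_normal_card_max hVq
    haveI : Fact q.Prime := ⟨hq⟩
    obtain ⟨P⟩ := (inferInstance : Nonempty (Sylow q G))
    have hqG : q ∣ Nat.card G :=
      ((hMc ▸ M.card_subgroup_dvd_card)).trans (card_quotient_dvd_card V)
    have hPn : (P : Subgroup G).Normal := by
      have h1 := sylow_normal_of_max hVq q hmax (P.mapSurjective (QuotientGroup.mk'_surjective V))
      have hPV : ((P : Subgroup G) ⊔ V).Normal := by
        rw [← HallSolvable.comap_mk'_map]
        exact h1.comap _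
      have hfr := Sylow.normalizer_sup_eq_top' P (N := (P : Subgroup G) ⊔ V) le_sup_left
      replace hfr : normalizer ((P : Subgroup G) : Set G) ⊔ ((P : Subgroup G) ⊔ V) = ⊤ := hfr
      rw [← sup_assoc, sup_eq_left.mpr (le_normalizer (H := (P : Subgroup G)))] at hfr
      exact normalizer_eq_top_iff.mp
        (frattini_nongenerating (top_le_iff.mp (hfr ▸ sup_le_sup_left hVΦ _)))
    have hVP : V ≤ (P : Subgroup G) := hmin _ hPn (P.ne_bot_of_dvd_card hqG)
    have hqp : q = p := by
      obtain ⟨j, hj⟩ := IsPGroup.iff_card.mp (P.2.to_le hVP)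
      rw [hVc] at hj
      exact ((Nat.prime_dvd_prime_iff_eq hp hq).mp
        (hp.dvd_of_dvd_pow (hj ▸ dvd_pow_self p hk.ne'))).symm
    subst hqp
    obtain ⟨Kc, hKc⟩ := exists_right_complement'_of_coprime (N := (P : Subgroup G)) P.card_coprime_index
    have hKcop : (Nat.card Kc).Coprime q := by
      rw [← hKc.symm.index_eq_card]
      exact (hq.coprime_iff_not_dvd.mpr P.not_dvd_index).symm
    set π := QuotientGroup.mk' V
    have hPπ : ((P : Subgroup G).map π).Normal := hPn.map π (QuotientGroup.mk'_surjective V)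
    set C := (centralizer ((((P : Subgroup G).map π) : Subgroup (G ⧸ V)) : Set (G ⧸ V))).comap π with hC
    have hCn : C.Normal := by rw [hC]; exact Subgroup.Normal.comap inferInstance π
    set K1 := Kc ⊓ C with hK1
    -- `K1` is normal in `G`, hence trivial
    have hK1bot : K1 = ⊥ := by
      have hKX : ∀ g : G, ∀ x ∈ K1, g * x * g⁻¹ ∈ V ⊔ K1 := by
        intro g x hx
        obtain ⟨y, hy, c, hc, rfl⟩ := mem_sup_of_normal_left.mp
          (hKc.sup_eq_top ▸ mem_top g : g ∈ (P : Subgroup G) ⊔ Kc)
        set z := c * x * c⁻¹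
        have hz : z ∈ K1 := mem_inf.mpr
          ⟨mul_mem (mul_mem hc (mem_inf.mp hx).1) (inv_mem hc), hCn.conj_mem x (mem_inf.mp hx).2 c⟩
        have hcomm : y * z * y⁻¹ * z⁻¹ ∈ V := by
          rw [← QuotientGroup.eq_one_iff]
          show π (y * z * y⁻¹ * z⁻¹) = 1
          have h1 := mem_centralizer_iff.mp hz.2 (π y) ⟨y, hy, rfl⟩
          rw [map_mul, map_mul, map_mul, map_inv, map_inv, h1, mul_inv_cancel_right, mul_inv_cancel]
        rw [show y * c * x * (y * c)⁻¹ = (y * z * y⁻¹ * z⁻¹) * z by simp only [z]; group]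
        exact mul_mem (mem_sup_left hcomm) (mem_sup_right hz)
      have hcop1 : (Nat.card K1).Coprime (Nat.card V) := by
        rw [hVc]
        exact (hKcop.coprime_dvd_left (card_dvd_of_le inf_le_left)).pow_right k
      have hsolv : Group.IsSolvable K1 ∨ Group.IsSolvable V := Or.inl inferInstance
      have hN1 : normalizer (K1 : Set G) ⊔ V = ⊤ := by
        rw [eq_top_iff]
        intro g _
        have hle : MulAut.conj g • K1 ≤ V ⊔ K1 := by
          rintro _ ⟨x, hx, rfl⟩
          exact hKX g x hx
        obtain ⟨v, hv, he⟩ := CoprimeSZ.exists_conj_of_card_eq (N := V) (A := K1)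
          (B := MulAut.conj g • K1) (fun x _ => by rw [normalizer_eq_top]; exact mem_top x)
          hcop1 hsolv hle (CoprimeSZ.card_conj_smul g K1)
        have hmem : v⁻¹ * g ∈ normalizer (K1 : Set G) := by
          have : MulAut.conj (v⁻¹ * g) • K1 = K1 := by
            rw [CoprimeSZ.conj_smul_mul, ← he, ← CoprimeSZ.conj_smul_mul, inv_mul_cancel, map_one,
              one_smul]
          rw [mem_normalizer_iff]
          intro x
          rw [← Subgroup.smul_mem_pointwise_smul_iff (a := MulAut.conj (v⁻¹ * g)) (S := K1), this]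
          simp [MulAut.smul_def, MulAut.conj_apply, mul_assoc]
        have hg := mul_mem (mem_sup_right hv : v ∈ normalizer (K1 : Set G) ⊔ V) (mem_sup_left hmem)
        simpa using hg
      have hK1n : K1.Normal := normalizer_eq_top_iff.mp
        (frattini_nongenerating (top_le_iff.mp (hN1 ▸ sup_le_sup_left hVΦ _)))
      by_contra hne
      have hle := hmin K1 hK1n hne
      exact hV.ne_bot (Subgroup.eq_bot_of_card_eq V (Nat.eq_one_of_dvd_coprimes hcop1
        (card_dvd_of_le hle) dvd_rfl))
    have hkill : ∀ x ∈ Kc, (x ∈ commutator G ∨ ∃ y, x = y ^ (q - 1)) → x = 1 := by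
      intro x hx hx'
      refine mem_bot.mp (hK1bot ▸ mem_inf.mpr ⟨hx, ?_⟩)
      rw [hC, mem_comap, mem_centralizer_iff]
      intro y hy
      refine (commute_of_coprime hVq q ((P : Subgroup G).map π) (P.2.map π) (π x) ?_ ?_ y hy).symm
      · exact (hKcop.coprime_dvd_left (orderOf_dvd_natCard Kc hx)).coprime_dvd_left (orderOf_map_dvd π x)
      · refine hx'.imp (fun h1 => ?_) (fun ⟨y, hy⟩ => ⟨π y, by rw [hy, map_pow]⟩)
        have h2 : (commutator G).map π ≤ commutator (G ⧸ V) := by
          rw [_root_.commutator_def, Subgroup.map_commutator]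
          exact commutator_mono le_top le_top
        exact h2 ⟨x, h1, rfl⟩
    have hKab : ∀ x ∈ Kc, ∀ y ∈ Kc, x * y = y * x := by
      intro x hx y hy
      rw [← commutatorElement_eq_one_iff_mul_comm]
      refine hkill _ ?_ (Or.inl (commutator_mem_commutator (mem_top x) (mem_top y)))
      rw [commutatorElement_def]
      exact mul_mem (mul_mem (mul_mem hx hy) (inv_mem hx)) (inv_mem hy)
    have hKexp : ∀ x ∈ Kc, x ^ (q - 1) = 1 := fun x hx =>
      hkill _ (pow_mem hx _) (Or.inr ⟨x, rfl⟩)
    -- `V` is central in `P`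
    have hVZ : ∀ v ∈ V, ∀ y ∈ (P : Subgroup G), y * v = v * y := by
      set Z := (center (P : Subgroup G)).map (P : Subgroup G).subtype
      have hZn : Z.Normal := inferInstance
      have hne : V ⊓ Z ≠ ⊥ := by
        have hb : V.subgroupOf (P : Subgroup G) ≠ ⊥ := by
          rw [ne_eq, subgroupOf_eq_bot, disjoint_iff, inf_eq_left.mpr hVP]
          exact hV.ne_bot
        have h1 := PGroupsBasic.inf_center_ne_bot P.2 hb
        obtain ⟨⟨z, hzP⟩, hz, hz1⟩ := (bot_or_exists_ne_one _).resolve_left h1
        intro e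
        exact hz1 (Subtype.ext (mem_bot.mp (e ▸ ⟨hz.1, ⟨⟨z, hzP⟩, hz.2, rfl⟩⟩)))
      have hVZ : V ≤ Z := hV.eq_of_le inf_le_left hne ▸ inf_le_right
      intro v hv y hy
      obtain ⟨w, hw, rfl⟩ := hVZ hv
      exact congrArg Subtype.val (mem_center_iff.mp hw ⟨y, hy⟩)
    -- each element of `Kc` acts on `V` as a scalar
    have hscal : ∀ c ∈ Kc, ∃ a : ℕ, ∀ v ∈ V, c * v * c⁻¹ = v ^ a := by
      intro c hc
      have hab : IsMulCommutative V := hVe.1
      haveI : Nontrivial V := (nontrivial_iff_ne_bot V).mpr hV.ne_bot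
      letI : CommGroup V := { (inferInstance : Group V) with mul_comm := hab.is_comm.comm }
      have hiter : ∀ (i : ℕ) (v : V),
          (MulAut.conjNormal (H := V) c).toMonoidHom^[i] v = MulAut.conjNormal (H := V) (c ^ i) v := by
        intro i v
        induction i with
        | zero => simp
        | succ i ih => rw [Function.iterate_succ_apply', ih, pow_succ', map_mul]; rfl
      obtain ⟨w, hw1, a, hwa'⟩ := exists_scalar_eigen (q := q) (MulAut.conjNormal (H := V) c).toMonoidHom
        (fun v => Subtype.ext (hVe.2 _ v.2)) (fun v => by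
          rw [hiter]
          have hcq : c ^ q = c := by
            conv_lhs => rw [show q = (q - 1) + 1 from (Nat.sub_add_cancel hq.one_le).symm]
            rw [pow_succ, hKexp c hc, one_mul]
          rw [hcq]; rfl)
      have hwa : c * (w : G) * c⁻¹ = (w : G) ^ a := by
        have h3 := congrArg Subtype.val hwa'
        simpa [MulAut.conjNormal_apply] using h3
      refine ⟨a, ?_⟩
      let E : Subgroup G :=
        { carrier := {v | v ∈ V ∧ c * v * c⁻¹ = v ^ a}
          one_mem' := ⟨one_mem V, by simp⟩
          mul_mem' := by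
            rintro a b ⟨ha, ha'⟩ ⟨hb, hb'⟩
            refine ⟨mul_mem ha hb, ?_⟩
            rw [Commute.mul_pow (PGroupsBasic.comm_of_isMulCommutative hab ha hb), ← ha', ← hb']
            group
          inv_mem' := by
            rintro a ⟨ha, ha'⟩
            refine ⟨inv_mem ha, ?_⟩
            rw [inv_pow, ← ha']; group }
      have hEn : E.Normal := by
        constructor
        rintro v ⟨hv, hv'⟩ g
        obtain ⟨y, hy, d, hd, rfl⟩ := mem_sup_of_normal_left.mp
          (hKc.sup_eq_top ▸ mem_top g : g ∈ (P : Subgroup G) ⊔ Kc)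
        have hu : d * v * d⁻¹ ∈ V := hV.normal.conj_mem v hv d
        rw [show y * d * v * (y * d)⁻¹ = y * (d * v * d⁻¹) * y⁻¹ by group, hVZ _ hu y hy,
          mul_inv_cancel_right]
        refine ⟨hu, ?_⟩
        calc c * (d * v * d⁻¹) * c⁻¹ = (c * d) * v * (c * d)⁻¹ := by group
          _ = d * (c * v * c⁻¹) * d⁻¹ := by rw [hKab c hc d hd]; group
          _ = (d * v * d⁻¹) ^ a := by rw [hv', conj_pow]
      have hEV : E = V := (hV.2.2 E hEn fun v hv => hv.1).resolve_left fun e => by
        apply hw1
        have hwE : (w : G) ∈ E := ⟨w.2, hwa⟩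
        rw [e, mem_bot] at hwE
        exact Subtype.ext hwE
      intro v hv
      exact (hEV.symm ▸ hv : v ∈ E).2
    obtain ⟨v, hv, hv1⟩ := (bot_or_exists_ne_one V).resolve_left hV.ne_bot
    have hvn : (zpowers v).Normal := by
      refine ⟨fun z hz g => ?_⟩
      obtain ⟨j, rfl⟩ := mem_zpowers_iff.mp hz
      rw [← conj_zpow]
      refine zpow_mem ?_ j
      obtain ⟨y, hy, d, hd, rfl⟩ := mem_sup_of_normal_left.mp
        (hKc.sup_eq_top ▸ mem_top g : g ∈ (P : Subgroup G) ⊔ Kc)
      obtain ⟨a, ha⟩ := hscal d hd
      rw [show y * d * v * (y * d)⁻¹ = y * (d * v * d⁻¹) * y⁻¹ by group, ha v hv,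
        hVZ _ (pow_mem hv a) y hy, mul_inv_cancel_right]
      exact pow_mem (mem_zpowers v) a
    have hVz : zpowers v = V := hV.eq_of_le (zpowers_le.mpr hv) (zpowers_ne_bot.mpr hv1)
    exact of_cyclic_normal V (hVz ▸ inferInstance) hVq

/-- A group with a normal `p`-subgroup `P` and a supersolvable supplement `L` meeting `P` in a
subgroup of index `p` is supersolvable as soon as the quotient by `P` is. -/
theorem of_supplement {G : Type u} [Group G] [Finite G] {p : ℕ} [hp : Fact p.Prime]
    (P L : Subgroup G) [P.Normal] (hP : IsPGroup p P) (hL : IsSupersolvable L)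
    (htop : P ⊔ L = ⊤) (hq : IsSupersolvable (G ⧸ P)) (hrel : L.relIndex P = p) :
    IsSupersolvable G := by
  induction hn : Nat.card G using Nat.strong_induction_on generalizing G with
  | _ n ih =>
    set D := P ⊓ L with hD
    by_cases hD0 : D = ⊥
    · refine of_prime_normal P ?_ hq
      rw [← relIndex_bot_left, ← hD0, hD, inf_comm, inf_relIndex_right, hrel]
      exact hp.out
    have hDn : D.Normal := by
      rw [← normalizer_eq_top_iff, eq_top_iff, ← htop]
      refine sup_le ?_ (fun l hl => ?_)
      · have h1 : (D.subgroupOf P).index = p := by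
          rw [← relIndex, hD, inf_comm, inf_relIndex_right, hrel]
        exact (normal_subgroupOf_iff_le_normalizer inf_le_left).mp
          (PGroupsBasic.normal_of_index_eq hP h1)
      · rw [mem_normalizer_iff]
        intro x
        exact and_congr (mem_normalizer_iff.mp (normalizer_eq_top (H := P) ▸ mem_top l) x)
          (mem_normalizer_iff.mp (le_normalizer hl) x)
    set Z := (center P).map P.subtype with hZ
    have hZn : Z.Normal := inferInstance
    have hne : (D ⊓ Z).subgroupOf L ≠ ⊥ := by
      have hb : D.subgroupOf P ≠ ⊥ := by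
        rw [ne_eq, subgroupOf_eq_bot, disjoint_iff, inf_eq_left.mpr inf_le_left]
        exact hD0
      obtain ⟨⟨z, hzP⟩, hz, hz1⟩ := (bot_or_exists_ne_one _).resolve_left
        (PGroupsBasic.inf_center_ne_bot hP hb)
      intro e
      have hzD : z ∈ D := hz.1
      have hm : (⟨z, hzD.2⟩ : L) ∈ (D ⊓ Z).subgroupOf L := ⟨hzD, ⟨⟨z, hzP⟩, hz.2, rfl⟩⟩
      rw [e, mem_bot] at hm
      exact hz1 (Subtype.ext (congrArg Subtype.val hm :))
    obtain ⟨M0, hM0, hM0le, hM0p⟩ := exists_normal_prime_le hL _ hne
    set M := M0.map L.subtype with hM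
    have hMD : M ≤ D ⊓ Z := map_le_iff_le_comap.mpr hM0le
    have hMc : Nat.card M = Nat.card M0 := card_map_of_injective L.subtype_injective
    have hMn : M.Normal := by
      rw [← normalizer_eq_top_iff, eq_top_iff, ← htop]
      refine sup_le (fun y hy => ?_) (fun l hl => ?_)
      · rw [mem_normalizer_iff]
        have hc : ∀ x ∈ M, y * x * y⁻¹ = x := by
          intro x hx
          obtain ⟨z, hz, rfl⟩ := (hMD hx).2
          have : y * z = z * y := congrArg Subtype.val (mem_center_iff.mp hz ⟨y, hy⟩)
          show y * z * y⁻¹ = z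
          rw [this, mul_inv_cancel_right]
        intro x
        constructor
        · intro hx; rwa [hc x hx]
        · intro hx
          have h2 := hc _ hx
          have : x = y * x * y⁻¹ := mul_left_cancel (mul_right_cancel h2).symm
          rwa [this]
      · rw [hM]
        refine le_normalizer_map L.subtype ⟨⟨l, hl⟩, ?_, rfl⟩
        rw [normalizer_eq_top]; exact mem_top _
    have hMp : (Nat.card M).Prime := hMc.symm ▸ hM0p
    refine of_prime_normal M hMp ?_
    set π := QuotientGroup.mk' M
    have hsur : Function.Surjective π := QuotientGroup.mk'_surjective M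
    have hMP : M ≤ P := hMD.trans (inf_le_left.trans inf_le_left)
    have hML : M ≤ L := hMD.trans (inf_le_left.trans inf_le_right)
    have : (P.map π).Normal := (inferInstance : P.Normal).map π hsur
    refine ih _ (hn ▸ Supersolvable.card_quotient_lt M (ne_bot_of_prime hMp)) (P.map π) (L.map π)
      (hP.map π) (of_surjective (π.subgroupMap L) (π.subgroupMap_surjective L) hL)
      (by rw [← Subgroup.map_sup, htop, map_top_of_surjective π hsur]) ?_ ?_ rfl
    · refine of_surjective (QuotientGroup.map P (P.map π) π (le_comap_map π P)) ?_ hq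
      intro x
      obtain ⟨x, rfl⟩ := QuotientGroup.mk_surjective x
      obtain ⟨g, rfl⟩ := hsur x
      exact ⟨g, rfl⟩
    · rw [← relIndex_comap, HallSolvable.comap_mk'_map_of_le hML, hrel]

/-- Supersolvable Hall subgroups of equal order are conjugate. -/
theorem hall_conjugate {G : Type u} [Group G] [Finite G] {H K : Subgroup G}
    (hH : IsSupersolvable H) (hK : IsSupersolvable K) (hcard : Nat.card H = Nat.card K)
    (hHall : (Nat.card H).Coprime H.index) : ∃ x : G, MulAut.conj x • H = K := by
  induction hn : Nat.card H using Nat.strong_induction_on generalizing G with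
  | _ n ih =>
    by_cases h1 : Nat.card H = 1
    · refine ⟨1, ?_⟩
      rw [map_one, one_smul, eq_bot_of_card_eq H h1, eq_bot_of_card_eq K (hcard ▸ h1)]
    have hne : (Nat.card H).primeFactors.Nonempty := Nat.nonempty_primeFactors.mpr (by
      have := Nat.card_pos (α := H); omega)
    set q := (Nat.card H).primeFactors.max' hne
    have hqm := Nat.mem_primeFactors.mp ((Nat.card H).primeFactors.max'_mem hne)
    haveI : Fact q.Prime := ⟨hqm.1⟩
    -- a supersolvable Hall subgroup of this order lies in the normalizer of a Sylow subgroup of `G`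
    have key : ∀ K : Subgroup G, IsSupersolvable K → Nat.card K = Nat.card H →
        ∃ S : Sylow q G, (S : Subgroup G) ≤ K ∧ K ≤ normalizer ((S : Subgroup G) : Set G) := by
      intro K hK hc
      obtain ⟨P⟩ := (inferInstance : Nonempty (Sylow q K))
      have hPn := sylow_normal_of_max hK q (fun r hr hd => Finset.le_max' _ _
        (Nat.mem_primeFactors.mpr ⟨hr, hc ▸ hd, hqm.2.2⟩)) P
      have hidx : ¬ q ∣ ((P : Subgroup K).map K.subtype).index := by
        rw [index_map_subtype]
        intro hd
        rcases hqm.1.dvd_mul.mp hd with h2 | h2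
        · exact P.not_dvd_index h2
        · have hKi : K.index = H.index := by
            have e1 := K.card_mul_index
            rw [← H.card_mul_index, hc] at e1
            exact Nat.eq_of_mul_eq_mul_left Nat.card_pos e1
          exact hqm.1.not_dvd_one (hHall ▸ Nat.dvd_gcd hqm.2.1 (hKi ▸ h2))
      refine ⟨(P.2.map K.subtype).toSylow hidx, ?_, ?_⟩
      · rw [IsPGroup.toSylow_coe]; exact map_subtype_le _
      · rw [IsPGroup.toSylow_coe]
        intro x hx
        refine le_normalizer_map K.subtype ⟨⟨x, hx⟩, ?_, rfl⟩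
        rw [normalizer_eq_top]; exact mem_top _
    obtain ⟨S1, hS1H, hHN⟩ := key H hH rfl
    obtain ⟨S2, hS2K, hKN⟩ := key K hK hcard.symm
    obtain ⟨g, hg⟩ := MulAction.exists_smul_eq G S1 S2
    set H1 := MulAut.conj g • H with hH1d
    have hH1c : Nat.card H1 = Nat.card H := CoprimeSZ.card_conj_smul g H
    have hH1 : IsSupersolvable H1 := of_mulEquiv (equivSMul (MulAut.conj g) H) hH
    have hS2 : (S2 : Subgroup G) = MulAut.conj g • (S1 : Subgroup G) := by rw [← hg]; rfl
    have hS2H : (S2 : Subgroup G) ≤ H1 := by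
      rw [hS2]; exact Subgroup.pointwise_smul_le_pointwise_smul_iff.mpr hS1H
    have hH1N : H1 ≤ normalizer ((S2 : Subgroup G) : Set G) := by
      intro x hx
      rw [hH1d, CoprimeSZ.mem_conj_smul] at hx
      rw [mem_normalizer_iff]
      intro y
      rw [hS2, CoprimeSZ.mem_conj_smul, CoprimeSZ.mem_conj_smul]
      rw [mem_normalizer_iff.mp (hHN hx) (g⁻¹ * y * g)]
      constructor <;> intro h2 <;> convert h2 using 1 <;> group
    set N := normalizer ((S2 : Subgroup G) : Set G)
    set S := (S2 : Subgroup G).subgroupOf N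
    set π := QuotientGroup.mk' S
    set A := (H1.subgroupOf N).map π
    set B := (K.subgroupOf N).map π
    have hSA : S ≤ H1.subgroupOf N := fun x hx => hS2H hx
    have hSB : S ≤ K.subgroupOf N := fun x hx => hS2K hx
    have hcA := HallCore.card_map_mk'_mul S (H1.subgroupOf N) hSA
    have hcB := HallCore.card_map_mk'_mul S (K.subgroupOf N) hSB
    rw [Nat.card_congr (subgroupOfEquivOfLe hH1N).toEquiv, hH1c] at hcA
    rw [Nat.card_congr (subgroupOfEquivOfLe hKN).toEquiv, ← hcard] at hcB
    have hlt : Nat.card A < n := by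
      rw [← hn, ← hcA]
      refine lt_mul_of_one_lt_right Nat.card_pos ?_
      rw [Nat.card_congr (subgroupOfEquivOfLe (le_normalizer (H := (S2 : Subgroup G)))).toEquiv]
      obtain ⟨j, hj⟩ := IsPGroup.iff_card.mp S2.2
      have hqS : q ∣ Nat.card (S2 : Subgroup G) :=
        S2.dvd_card_of_dvd_card (hqm.2.1.trans H.card_subgroup_dvd_card)
      exact lt_of_lt_of_le hqm.1.one_lt (Nat.le_of_dvd Nat.card_pos hqS)
    have hAB : Nat.card A = Nat.card B :=
      Nat.eq_of_mul_eq_mul_right Nat.card_pos (hcA.trans hcB.symm)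
    have hHallA : (Nat.card A).Coprime A.index := by
      rw [HallSolvable.index_map_mk'_of_le hSA]
      have hd : (H1.subgroupOf N).index ∣ H.index := by
        have e1 : H1.index = H.index := by
          have e2 := H1.card_mul_index
          rw [← H.card_mul_index, hH1c] at e2
          exact Nat.eq_of_mul_eq_mul_left Nat.card_pos e2
        rw [← e1, ← relIndex]
        exact Dvd.intro _ (relIndex_mul_index hH1N)
      exact (hHall.coprime_dvd_left ⟨_, hcA.symm⟩).coprime_dvd_right hd
    obtain ⟨x, hx⟩ := ih _ hlt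
      (of_surjective (π.subgroupMap _) (π.subgroupMap_surjective _)
        (of_mulEquiv (subgroupOfEquivOfLe hH1N).symm hH1))
      (of_surjective (π.subgroupMap _) (π.subgroupMap_surjective _)
        (of_mulEquiv (subgroupOfEquivOfLe hKN).symm hK))
      hAB hHallA rfl
    obtain ⟨y, rfl⟩ := QuotientGroup.mk'_surjective S x
    refine ⟨(y : G) * g, ?_⟩
    rw [CoprimeSZ.conj_smul_mul, ← hH1d]
    refine eq_of_le_of_card_ge ?_ (by rw [CoprimeSZ.card_conj_smul, hH1c, hcard])
    intro z hz
    rw [CoprimeSZ.mem_conj_smul] at hz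
    have hzN : z ∈ N := by
      have := mul_mem (mul_mem y.2 (hH1N hz)) (inv_mem y.2)
      simpa [mul_assoc] using this
    have hmem : π ⟨z, hzN⟩ ∈ (K.subgroupOf N).map π := by
      rw [← hx, CoprimeSZ.mem_conj_smul]
      refine ⟨y⁻¹ * ⟨z, hzN⟩ * y, hz, ?_⟩
      rw [map_mul, map_mul, map_inv]
    have h2 : (⟨z, hzN⟩ : N) ∈ B.comap π := hmem
    rw [HallSolvable.comap_mk'_map_of_le hSB] at h2
    exact h2

end Cfsg.Agent.SupersolvableCriteria
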