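import Mathlib
import Cfsg.Agent.Lib.OrderDSubgroups
import Cfsg.Agent.Lib.SupersolvableCriteria
import Cfsg.Agent.Lib.CoprimeExtra

/-!
# Supersolvability from strongly closed subgroups of one order
-/

set_option autoImplicit false

open Subgroup
open scoped commutatorElement

universe u

namespace Cfsg.Agent.OrderDSupersolvable

open Cfsg.Agent.OrderDSubgroups
open Cfsg.Agent.TransferAlperin (cj mem_cj conj_mem_cj card_cj)

variable {G : Type u} [Group G]

theorem exists_pow_part {H : Type*} [Group H] (f : G →* H) (g : G) {a c : ℕ}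
    (hac : orderOf g = a * c) (hcop : a.Coprime c) (hf : orderOf (f g) ∣ a) :
    ∃ m : ℕ, orderOf (g ^ m) ∣ a ∧ f (g ^ m) = f g := by
  obtain ⟨m, hm1, hm0⟩ := Nat.chineseRemainder hcop 1 0
  refine ⟨m, orderOf_dvd_of_pow_eq_one ?_, ?_⟩
  · rw [← pow_mul, ← orderOf_dvd_iff_pow_eq_one, hac, mul_comm m a]
    exact mul_dvd_mul_left a (Nat.modEq_zero_iff_dvd.mp hm0)
  · rw [map_pow]
    conv_rhs => rw [← pow_one (f g)]
    rw [pow_eq_pow_iff_modEq]
    exact hm1.of_dvd hf

theorem exists_coprime_lift [Finite G] {H : Type*} [Group H] (f : G →* H) (g : G) {r : ℕ}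
    (hr : r.Prime) (hf : (orderOf (f g)).Coprime r) :
    ∃ m : ℕ, (orderOf (g ^ m)).Coprime r ∧ f (g ^ m) = f g := by
  have hn : orderOf g ≠ 0 := (orderOf_pos g).ne'
  have hcop := Nat.coprime_ordCompl hr hn
  obtain ⟨m, hm, hfm⟩ := exists_pow_part f g
    (a := orderOf g / r ^ (orderOf g).factorization r) (c := r ^ (orderOf g).factorization r)
    (Nat.div_mul_cancel (Nat.ordProj_dvd _ r)).symm (hcop.symm.pow_right _)
    ((hf.pow_right _).dvd_of_dvd_mul_left
      (by rw [Nat.ordProj_mul_ordCompl_eq_self]; exact orderOf_map_dvd f g))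
  exact ⟨m, hcop.symm.coprime_dvd_left hm, hfm⟩

theorem exists_primary_lift [Finite G] {H : Type*} [Group H] (f : G →* H) (g : G) {q : ℕ}
    (hq : q.Prime) (hf : ∃ i, orderOf (f g) = q ^ i) :
    ∃ m : ℕ, (∃ i, orderOf (g ^ m) = q ^ i) ∧ f (g ^ m) = f g := by
  have hn : orderOf g ≠ 0 := (orderOf_pos g).ne'
  have hcop := Nat.coprime_ordCompl hq hn
  obtain ⟨i, hi⟩ := hf
  obtain ⟨m, hm, hfm⟩ := exists_pow_part f g
    (a := q ^ (orderOf g).factorization q) (c := orderOf g / q ^ (orderOf g).factorization q)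
    (Nat.ordProj_mul_ordCompl_eq_self _ q).symm (hcop.pow_left _)
    (hi ▸ (hq.pow_dvd_iff_dvd_ordProj hn).mp (hi ▸ orderOf_map_dvd f g))
  obtain ⟨i', -, hi'⟩ := (Nat.dvd_prime_pow hq).mp hm
  exact ⟨m, ⟨i', hi'⟩, hfm⟩

/-- A normal subgroup all of whose elements of order prime to `r` centralize the minimal normal
`r`-subgroup `M` centralizes it, since it then acts as an `r`-group. -/
theorem le_centralizer_of_coprime_trivial [Finite G] {r : ℕ} [hr : Fact r.Prime]
    {M W : Subgroup G} [M.Normal] [W.Normal] (hM : IsPGroup r M) (hne : M ≠ ⊥)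
    (hmin : ∀ K : Subgroup G, K.Normal → K ≤ M → K ≠ ⊥ → K = M)
    (hW : ∀ w ∈ W, (orderOf w).Coprime r → w ∈ centralizer (M : Set G)) :
    W ≤ centralizer (M : Set G) := by
  set φ := MulAut.conjNormal (G := G) (H := M) with hφ
  have hker : ∀ x ∈ centralizer (M : Set G), φ x = 1 := by
    intro x hx
    apply MulEquiv.ext
    intro m
    apply Subtype.ext
    rw [hφ, MulAut.conjNormal_apply]
    simp [← mem_centralizer_iff.mp hx m m.2]
  have hK : IsPGroup r (W.map φ) := by
    rintro ⟨k, hk⟩
    obtain ⟨w, hw, rfl⟩ := mem_map.mp hk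
    refine ⟨(orderOf w).factorization r, Subtype.ext ?_⟩
    have hn : orderOf w ≠ 0 := (orderOf_pos w).ne'
    have h1 : (orderOf (w ^ r ^ (orderOf w).factorization r)).Coprime r := by
      rw [orderOf_pow_of_dvd (pow_ne_zero _ hr.out.ne_zero) (Nat.ordProj_dvd _ r)]
      exact (Nat.coprime_ordCompl hr.out hn).symm
    simp only [SubmonoidClass.coe_pow, OneMemClass.coe_one]
    rw [← map_pow]
    exact hker _ (hW _ (pow_mem hw _) h1)
  have hdvd : r ∣ Nat.card M := by
    refine (hM.card_eq_or_dvd).resolve_left fun h1 => hne ?_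
    exact eq_bot_of_card_eq _ h1
  have hfix : M ⊓ centralizer (W : Set G) ≠ ⊥ := by
    have h1 : (1 : M) ∈ MulAction.fixedPoints (W.map φ) M := fun k => smul_one k
    have h2 := (hK.card_modEq_card_fixedPoints M).of_dvd dvd_rfl
    have h3 : r ∣ Nat.card (MulAction.fixedPoints (W.map φ) M) := by
      rw [Nat.ModEq, Nat.mod_eq_zero_of_dvd hdvd] at h2
      exact Nat.dvd_of_mod_eq_zero h2.symm
    haveI : Nonempty (MulAction.fixedPoints (W.map φ) M) := ⟨⟨1, h1⟩⟩
    have h4 : 1 < Nat.card (MulAction.fixedPoints (W.map φ) M) :=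
      hr.out.one_lt.trans_le (Nat.le_of_dvd Nat.card_pos h3)
    rw [Finite.one_lt_card_iff_nontrivial] at h4
    obtain ⟨⟨m, hm⟩, hm1⟩ := exists_ne (⟨1, h1⟩ : MulAction.fixedPoints (W.map φ) M)
    intro hbot
    apply hm1
    have hmem : (m : G) ∈ M ⊓ centralizer (W : Set G) := by
      refine mem_inf.mpr ⟨m.2, mem_centralizer_iff.mpr fun w hw => ?_⟩
      have h5 : φ w m = m := hm ⟨φ w, mem_map_of_mem φ hw⟩
      have h6 := congrArg Subtype.val h5
      rw [hφ, MulAut.conjNormal_apply] at h6
      exact mul_inv_eq_iff_eq_mul.mp h6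
    rw [hbot, mem_bot] at hmem
    exact Subtype.ext (Subtype.ext hmem)
  have := hmin _ inferInstance inf_le_left hfix
  rw [le_centralizer_iff]
  exact this ▸ inf_le_right

theorem minimal_card_eq [Finite G] {r : ℕ} [hr : Fact r.Prime] {R M : Subgroup G} [R.Normal]
    [M.Normal] (hR : IsPGroup r R) (hMR : M ≤ R) (hne : M ≠ ⊥)
    (hmin : ∀ K : Subgroup G, K.Normal → K ≤ M → K ≠ ⊥ → K = M)
    (h1 : ∀ h ∈ commutator G, (orderOf h).Coprime r → h ∈ centralizer (R : Set G))
    (h2 : ∀ g : G, (orderOf g).Coprime r → g ^ (r - 1) ∈ centralizer (R : Set G)) :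
    Nat.card M = r := by
  have hMp : IsPGroup r M := hR.to_le hMR
  have hCR : centralizer (R : Set G) ≤ centralizer (M : Set G) := centralizer_le hMR
  have hcommM : M ≤ centralizer (M : Set G) := by
    haveI : (M.subgroupOf R).Normal := inferInstance
    have hne' : M.subgroupOf R ≠ ⊥ := fun h =>
      hne (disjoint_self.mp ((subgroupOf_eq_bot.mp h).mono_right hMR))
    have h3 : M ⊓ centralizer (R : Set G) ≠ ⊥ := by
      intro hb
      apply PGroupsBasic.inf_center_ne_bot hR hne'
      rw [eq_bot_iff]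
      intro x hx
      have h4 : (x : G) ∈ M ⊓ centralizer (R : Set G) :=
        mem_inf.mpr ⟨mem_subgroupOf.mp hx.1, mem_centralizer_iff.mpr fun y hy =>
          congrArg Subtype.val (mem_center_iff.mp hx.2 ⟨y, hy⟩)⟩
      rw [hb, mem_bot] at h4
      exact mem_bot.mpr (Subtype.ext h4)
    have := hmin _ inferInstance inf_le_left h3
    exact (this ▸ inf_le_right : M ≤ centralizer (R : Set G)).trans hCR
  have hab : ∀ a ∈ M, ∀ b ∈ M, a * b = b * a := fun a ha b hb =>
    (mem_centralizer_iff.mp (hcommM hb)) a ha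
  letI : CommGroup M :=
    { (inferInstance : Group M) with mul_comm := fun a b => Subtype.ext (hab a a.2 b b.2) }
  -- exponent `r`
  let Ω : Subgroup G :=
    { carrier := {x | x ∈ M ∧ x ^ r = 1}
      one_mem' := ⟨one_mem _, one_pow r⟩
      mul_mem' := fun {a b} ha hb => ⟨mul_mem ha.1 hb.1, by
        rw [(show Commute a b from hab a ha.1 b hb.1).mul_pow, ha.2, hb.2, one_mul]⟩
      inv_mem' := fun {a} ha => ⟨inv_mem ha.1, by rw [inv_pow, ha.2, inv_one]⟩ }
  have hΩ : Ω = M := by
    refine hmin Ω ⟨fun x hx g => ⟨Normal.conj_mem inferInstance x hx.1 g, ?_⟩⟩ (fun x hx => hx.1) ?_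
    · rw [conj_pow, hx.2, mul_one, mul_inv_cancel]
    · intro hbot
      obtain ⟨x, hx, hxo⟩ := PGroupsBasic.exists_orderOf_eq_of_ne_bot hMp hne
      have : x ∈ Ω := ⟨hx, hxo ▸ pow_orderOf_eq_one x⟩
      rw [hbot, mem_bot] at this
      rw [this, orderOf_one] at hxo
      exact hr.out.one_lt.ne hxo
  have hpow : ∀ x ∈ M, x ^ r = 1 := fun x hx => (hΩ.symm ▸ hx : x ∈ Ω).2
  have hcomm : commutator G ≤ centralizer (M : Set G) :=
    le_centralizer_of_coprime_trivial hMp hne hmin fun w hw hc => hCR (h1 w hw hc)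
  set φ := MulAut.conjNormal (G := G) (H := M) with hφ
  have hker : ∀ x ∈ centralizer (M : Set G), φ x = 1 := by
    intro x hx
    apply MulEquiv.ext
    intro m
    apply Subtype.ext
    rw [hφ, MulAut.conjNormal_apply]
    simp [← mem_centralizer_iff.mp hx m m.2]
  have hgr : ∀ g : G, g ^ (r - 1) ∈ centralizer (M : Set G) := by
    intro g
    haveI : (centralizer (M : Set G) ⊔ zpowers (g ^ (r - 1))).Normal :=
      PGroupsBasic.normal_of_commutator_le (hcomm.trans le_sup_left)
    refine le_centralizer_of_coprime_trivial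
      (W := centralizer (M : Set G) ⊔ zpowers (g ^ (r - 1))) hMp hne hmin ?_
      (mem_sup_right (mem_zpowers _))
    intro w hw hc
    set a := r ^ (orderOf g).factorization r with ha
    have h3 : φ (g ^ (r - 1)) ^ a = 1 := by
      rw [← map_pow, ← pow_mul, mul_comm, pow_mul]
      refine hker _ (hCR (h2 _ ?_))
      rw [ha, orderOf_pow_of_dvd (pow_ne_zero _ hr.out.ne_zero) (Nat.ordProj_dvd _ r)]
      exact (Nat.coprime_ordCompl hr.out (orderOf_pos g).ne').symm
    have h4 : φ w ∈ zpowers (φ (g ^ (r - 1))) := by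
      have h5 := mem_map_of_mem φ hw
      rwa [Subgroup.map_sup, (Subgroup.map_eq_bot_iff _).mpr (fun x hx => hker x hx), bot_sup_eq,
        MonoidHom.map_zpowers] at h5
    obtain ⟨i, hi⟩ := h4
    have h6 : orderOf (φ w) ∣ a := orderOf_dvd_of_pow_eq_one (by
      rw [← hi, ← zpow_natCast, ← zpow_mul, mul_comm, zpow_mul, zpow_natCast, h3, one_zpow])
    have h7 : φ w = 1 := orderOf_eq_one_iff.mp (Nat.eq_one_of_dvd_coprimes
      (hc.pow_right _) (orderOf_map_dvd φ w) h6)
    rw [mem_centralizer_iff]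
    intro m hm
    have h8 := congrArg Subtype.val (DFunLike.congr_fun h7 ⟨m, hm⟩)
    rw [hφ, MulAut.conjNormal_apply] at h8
    exact (mul_inv_eq_iff_eq_mul.mp h8).symm
  -- every element acts as a power map
  have hscal : ∀ g : G, ∀ x ∈ M, g * x * g⁻¹ ∈ zpowers x := by
    intro g
    haveI : Nontrivial M := (nontrivial_iff_ne_bot M).mpr hne
    have hiter : ∀ (n : ℕ) (w : M), ((φ g).toMonoidHom : M → M)^[n] w = (φ (g ^ n)) w := by
      intro n
      induction n with
      | zero => intro w; simp
      | succ n ih =>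
        intro w
        rw [Function.iterate_succ_apply', ih, pow_succ' g n, map_mul, MulAut.mul_apply]
        rfl
    obtain ⟨w, hw1, a, hwa⟩ := SupersolvableCriteria.exists_scalar_eigen (q := r) (W := M)
      (φ g).toMonoidHom (fun w => Subtype.ext (by simpa using hpow w w.2)) (by
        intro w
        have hrr : g ^ r = g ^ (r - 1) * g := by
          rw [← pow_succ]; congr 1; have := hr.out.two_le; omega
        rw [hiter, hrr, map_mul, hker _ (hgr g), one_mul]
        rfl)
    let E : Subgroup G :=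
      { carrier := {x | x ∈ M ∧ g * x * g⁻¹ = x ^ a}
        one_mem' := ⟨one_mem _, by simp⟩
        mul_mem' := fun {x y} hx hy => ⟨mul_mem hx.1 hy.1, by
          rw [(show Commute x y from hab x hx.1 y hy.1).mul_pow, ← hx.2, ← hy.2]; group⟩
        inv_mem' := fun {x} hx => ⟨inv_mem hx.1, by rw [inv_pow, ← hx.2]; group⟩ }
    have hE : E = M := by
      refine hmin E ⟨fun x hx y => ⟨Normal.conj_mem inferInstance x hx.1 y, ?_⟩⟩ (fun x hx => hx.1) ?_
      · have hc : φ g * φ y = φ y * φ g := by
          have h3 := hker _ (hcomm (show ⁅g, y⁆ ∈ commutator G from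
            commutator_mem_commutator (mem_top _) (mem_top _)))
          rw [commutatorElement_def, map_mul, map_mul, map_mul, map_inv, map_inv,
            mul_inv_eq_one, mul_inv_eq_iff_eq_mul] at h3
          exact h3
        have hx2 : φ g ⟨x, hx.1⟩ = (⟨x, hx.1⟩ : M) ^ a :=
          Subtype.ext (by rw [hφ, MulAut.conjNormal_apply]; simpa using hx.2)
        have h4 : φ g (φ y ⟨x, hx.1⟩) = (φ y ⟨x, hx.1⟩) ^ a := by
          rw [← MulAut.mul_apply, hc, MulAut.mul_apply, hx2, map_pow]
        have h5 := congrArg Subtype.val h4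
        simpa [hφ, MulAut.conjNormal_apply] using h5
      · intro hbot
        have h3 : (w : G) ∈ E := ⟨w.2, by
          have h4 : φ g w = w ^ a := hwa
          have h5 := congrArg Subtype.val h4
          simpa [hφ, MulAut.conjNormal_apply] using h5⟩
        rw [hbot, mem_bot] at h3
        exact hw1 (Subtype.ext h3)
    intro x hx
    have hx2 : x ∈ E := hE.symm ▸ hx
    rw [hx2.2]
    exact pow_mem (mem_zpowers x) a
  obtain ⟨w, hw, hwo⟩ := PGroupsBasic.exists_orderOf_eq_of_ne_bot hMp hne
  have hwne : zpowers w ≠ ⊥ := by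
    intro hb
    rw [zpowers_eq_bot] at hb
    rw [hb, orderOf_one] at hwo
    exact hr.out.one_lt.ne hwo
  have hwn : (zpowers w).Normal := by
    refine ⟨fun x hx y => ?_⟩
    obtain ⟨i, rfl⟩ := hx
    rw [← conj_zpow]
    exact zpow_mem (hscal y w hw) i
  rw [← hmin _ hwn ((zpowers_le).mpr hw) hwne, Nat.card_zpowers, hwo]

theorem of_power_centralize (X : Type u) [Group X] [Finite X] {r : ℕ} [hr : Fact r.Prime]
    (R : Subgroup X) [hRn : R.Normal] (hR : IsPGroup r R) (hXR : Cfsg.IsSupersolvable (X ⧸ R))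
    (h1 : ∀ h ∈ commutator X, (orderOf h).Coprime r → h ∈ centralizer (R : Set X))
    (h2 : ∀ g : X, (orderOf g).Coprime r → g ^ (r - 1) ∈ centralizer (R : Set X)) :
    Cfsg.IsSupersolvable X := by
  suffices ∀ (n : ℕ) (X : Type u) [Group X] [Finite X] (R : Subgroup X) [R.Normal],
      Nat.card R = n → IsPGroup r R → Cfsg.IsSupersolvable (X ⧸ R) →
      (∀ h ∈ commutator X, (orderOf h).Coprime r → h ∈ centralizer (R : Set X)) →
      (∀ g : X, (orderOf g).Coprime r → g ^ (r - 1) ∈ centralizer (R : Set X)) →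
      Cfsg.IsSupersolvable X from this _ X R rfl hR hXR h1 h2
  intro n
  induction n using Nat.strong_induction_on with
  | _ n ih =>
    clear hR hXR h1 h2 hRn R
    intro X _ _ R _ hn hR hXR h1 h2
    by_cases hbot : R = ⊥
    · subst hbot
      exact Supersolvable.of_mulEquiv QuotientGroup.quotientBot hXR
    classical
    have hex : ∃ c, ∃ M : Subgroup X, M.Normal ∧ M ≤ R ∧ M ≠ ⊥ ∧ Nat.card M = c :=
      ⟨_, R, inferInstance, le_rfl, hbot, rfl⟩
    obtain ⟨M, hMn, hMR, hMne, hMc⟩ := Nat.find_spec hex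
    haveI := hMn
    have hmin : ∀ K : Subgroup X, K.Normal → K ≤ M → K ≠ ⊥ → K = M := fun K hK hle hne =>
      eq_of_le_of_card_ge hle (hMc ▸ Nat.find_le ⟨K, hK, hle.trans hMR, hne, rfl⟩)
    have hMr := minimal_card_eq hR hMR hMne hmin h1 h2
    refine Supersolvable.of_prime_normal M (hMr ▸ hr.out) ?_
    set f := QuotientGroup.mk' M with hf
    haveI : (R.map f).Normal := Normal.map inferInstance f (QuotientGroup.mk'_surjective M)
    refine ih _ ?_ (X ⧸ M) (R.map f) rfl (hR.map f) ?_ ?_ ?_
    · have h3 : M.relIndex R * Nat.card M = Nat.card R := by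
        rw [mul_comm, ← relIndex_bot_left, ← relIndex_bot_left,
          relIndex_mul_relIndex ⊥ M R bot_le hMR]
      have h4 : Nat.card (R.map f) = M.relIndex R := by
        rw [← relIndex_ker, hf, QuotientGroup.ker_mk']
      have h5 := hr.out.two_le
      have h6 : 0 < M.relIndex R := by rw [← h4]; exact Nat.card_pos
      rw [← hn, h4, ← h3, hMr]
      nlinarith
    · exact Supersolvable.of_mulEquiv
        (QuotientGroup.quotientQuotientEquivQuotient M R hMR).symm hXR
    · intro h hh hc
      have h3 : (commutator X).map f = commutator (X ⧸ M) := by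
        rw [commutator_def, map_commutator,
          map_top_of_surjective f (QuotientGroup.mk'_surjective M), commutator_def]
      rw [← h3] at hh
      obtain ⟨x, hx, rfl⟩ := mem_map.mp hh
      obtain ⟨m, hm, hfm⟩ := exists_coprime_lift f x hr.out hc
      rw [← hfm, mem_centralizer_iff]
      intro y hy
      obtain ⟨z, hz, rfl⟩ := mem_map.mp hy
      rw [← map_mul, mem_centralizer_iff.mp (h1 _ (pow_mem hx m) hm) z hz, map_mul]
    · intro g hc
      obtain ⟨x, rfl⟩ := QuotientGroup.mk'_surjective M g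
      obtain ⟨m, hm, hfm⟩ := exists_coprime_lift f x hr.out hc
      rw [← hfm, mem_centralizer_iff]
      intro y hy
      obtain ⟨z, hz, rfl⟩ := mem_map.mp hy
      rw [← map_pow, ← map_mul, mem_centralizer_iff.mp (h2 _ hm) z hz, map_mul]

/-- Extension by a normal `r`-subgroup satisfying the condition. -/
theorem of_normal_pgroup [Finite G] {r : ℕ} [hr : Fact r.Prime] (R : Subgroup G) [R.Normal]
    (hR : IsPGroup r R) (hGR : Cfsg.IsSupersolvable (G ⧸ R)) {d : ℕ} (hd1 : 1 < d)
    (hd2 : d < Nat.card R) (hd3 : d ∣ Nat.card R) (hs : StrongD R d) :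
    Cfsg.IsSupersolvable G := by
  obtain ⟨e, he⟩ := hR.exists_card_eq
  rw [he] at hd3
  obtain ⟨k, -, rfl⟩ := (Nat.dvd_prime_pow hr.out).mp hd3
  have hk : 1 ≤ k := by
    rcases Nat.eq_zero_or_pos k with h0 | h0
    · rw [h0] at hd1; simp at hd1
    · exact h0
  have hinv : ∀ F : Subgroup G, F ≤ R → IsTested (r ^ k) F →
      (⊤ : Subgroup G) ≤ normalizer (F : Set G) := by
    intro F hF hFd g _
    exact mem_normalizer_of_forall fun x hx => conj_mem_of_strongD hR hs hF hFd hx
      (Normal.conj_mem inferInstance x (hF hx) g)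
  have hnormal : ∀ S : Subgroup G, (⊤ : Subgroup G) ≤ normalizer (S : Set G) → S.Normal :=
    fun S h => normalizer_eq_top_iff.mp (top_le_iff.mp h)
  have hRN : (⊤ : Subgroup G) ≤ normalizer (R : Set G) := by rw [normalizer_eq_top]
  refine of_power_centralize G R hR hGR ?_ ?_
  · intro h hh hcop
    refine mem_centralizer_of_tested hk (mem_top h) hcop ?_ ?_ R hR hRN hd2 hinv
    · intro S _ hcyc hS
      haveI := hnormal S hS
      exact Supersolvable.commutator_le_centralizer S hcyc hh
    · intro T S _ hT hS _ hi s hs'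
      haveI := hnormal T hT
      haveI := hnormal S hS
      set f := QuotientGroup.mk' T with hf
      haveI : (S.map f).Normal := Normal.map inferInstance f (QuotientGroup.mk'_surjective T)
      have hc : Nat.card (S.map f) = r := by rw [← relIndex_ker, hf, QuotientGroup.ker_mk', hi]
      have hh' : f h ∈ commutator (G ⧸ T) := by
        have h3 := mem_map_of_mem f hh
        rwa [commutator_def, map_commutator,
          map_top_of_surjective f (QuotientGroup.mk'_surjective T)] at h3
      have h4 := mem_centralizer_iff.mp (Supersolvable.commutator_le_centralizer (S.map f)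
        (isCyclic_of_prime_card hc) hh') _ (mem_map_of_mem f hs')
      rw [← QuotientGroup.ker_mk' T, MonoidHom.mem_ker, map_mul, map_mul, map_mul, map_inv, map_inv,
        ← hf, ← h4]
      group
  · intro g hcop
    refine mem_centralizer_of_tested hk (mem_top (g ^ (r - 1)))
      (hcop.coprime_dvd_left (orderOf_pow_dvd _)) ?_ ?_ R hR hRN hd2 hinv
    · intro S hSp hcyc hS
      exact pow_mem_centralizer_of_cyclic hSp hcyc (hS (mem_top g)) hcop
    · intro T S _ hT hS hST hi s hs'
      exact pow_commutator_mem hST hi (hT (mem_top g)) (hS (mem_top g)) hcop hs'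

/-- The hypothesis on the non-cyclic Sylow subgroups of `E`. -/
def Hyp (E : Subgroup G) : Prop :=
  ∀ (p : ℕ), p.Prime → ∀ P : Subgroup G, P ≤ E → IsPGroup p P → ¬ p ∣ P.relIndex E →
    ¬ IsCyclic ↥P → ∃ d : ℕ, 1 < d ∧ d < Nat.card P ∧ d ∣ Nat.card P ∧ StrongD P d

/-- A nontrivial group with the hypothesis has a normal Sylow subgroup. -/
theorem exists_normal_sylow [Finite G] (E : Subgroup G) [E.Normal] (hE : E ≠ ⊥) (h : Hyp E) :
    ∃ (r : ℕ) (R : Subgroup G), r.Prime ∧ R.Normal ∧ R ≤ E ∧ R ≠ ⊥ ∧ IsPGroup r R ∧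
      ¬ r ∣ R.relIndex E := by
  suffices ∀ (n : ℕ) (N : Subgroup G), Nat.card N = n → N.Normal → N ≤ E → N ≠ ⊥ →
      (∀ q : ℕ, q.Prime → q ∣ Nat.card N → ¬ q ∣ N.relIndex E) →
      ∃ (r : ℕ) (R : Subgroup G), r.Prime ∧ R.Normal ∧ R ≤ E ∧ R ≠ ⊥ ∧ IsPGroup r R ∧
        ¬ r ∣ R.relIndex E from this _ E rfl inferInstance le_rfl hE fun q hq _ hd => by
    rw [relIndex_self] at hd
    exact hq.not_dvd_one hd
  intro n
  induction n using Nat.strong_induction_on with
  | _ n ih =>
    intro N hn hNn hNE hNne hNh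
    have hc1 : Nat.card N ≠ 1 := fun h1 => hNne (eq_bot_of_card_eq _ h1)
    set p := (Nat.card N).minFac with hp
    have hpp : p.Prime := Nat.minFac_prime hc1
    haveI : Fact p.Prime := ⟨hpp⟩
    have hpd : p ∣ Nat.card N := Nat.minFac_dvd _
    by_cases hNp : IsPGroup p N
    · exact ⟨p, N, hpp, hNn, hNE, hNne, hNp, hNh p hpp hpd⟩
    obtain ⟨P⟩ : Nonempty (Sylow p N) := inferInstance
    have hcompl : Cfsg.HasNormalPComplement p N := by
      refine OrderDSubgroups.hasNormalPComplement hpd
        (fun q hq hqd => Nat.minFac_le_of_dvd hq.two_le hqd) P ?_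
      by_cases hcyc : IsCyclic (P : Subgroup N)
      · exact Or.inl hcyc
      set e := (P : Subgroup N).equivMapOfInjective N.subtype N.subtype_injective
      obtain ⟨d, hd1, hd2, hd3, hs⟩ := h p hpp ((P : Subgroup N).map N.subtype)
        ((map_subtype_le _).trans hNE) (P.isPGroup'.map _) (by
          rw [← relIndex_mul_relIndex _ N E (map_subtype_le _) hNE, hpp.dvd_mul, not_or]
          refine ⟨?_, hNh p hpp hpd⟩
          rw [relIndex, subgroupOf, comap_map_eq_self_of_injective N.subtype_injective]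
          exact P.not_dvd_index)
        (fun hc => hcyc (e.isCyclic.mpr hc))
      rw [card_map_of_injective N.subtype_injective] at hd2 hd3
      refine Or.inr ⟨d, hd1, hd2, hd3, fun F hF hFd g x hx => ?_⟩
      have hFd' : IsTested d (F.map N.subtype) := by
        unfold IsTested at hFd ⊢
        rwa [card_map_of_injective N.subtype_injective]
      have h3 := hs _ (map_mono hF) hFd' (g : G) (show (x : G) ∈ _ from mem_inf.mpr ⟨?_, ?_⟩)
      · obtain ⟨y, hy, hye⟩ := mem_map.mp h3
        exact (Subtype.ext hye : y = x) ▸ hy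
      · obtain ⟨y, hy, rfl⟩ := mem_map.mp hx.1
        exact mem_map.mpr ⟨(y : G), mem_map_of_mem N.subtype hy, by simp⟩
      · exact le_normalizer_map N.subtype (mem_map_of_mem N.subtype hx.2)
    have hK := TransferPResidual.hasNormalPComplement_iff_not_dvd.mp hcompl
    set K := Cfsg.pResidual p N with hKdef
    set K' := K.map N.subtype with hK'
    haveI : K'.Normal := by
      refine normalizer_eq_top_iff.mp (top_le_iff.mp ?_)
      calc (⊤ : Subgroup G) = normalizer (N : Set G) := (normalizer_eq_top N).symm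
        _ ≤ _ := normalizer_le_normalizer_map_char N K
    have hKc : Nat.card K' = Nat.card K := card_map_of_injective N.subtype_injective
    refine ih _ ?_ K' rfl inferInstance ((map_subtype_le _).trans hNE) ?_ ?_
    · rw [← hn, hKc]
      refine lt_of_le_of_ne (card_le_card_group K) fun e => hK (e.symm ▸ hpd)
    · intro hbot
      apply hNp
      rw [hK', map_eq_bot_iff_of_injective _ N.subtype_injective] at hbot
      exact TransferPResidual.pResidual_eq_bot_iff.mp hbot
    · intro q hq hqd
      rw [hKc] at hqd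
      rw [← relIndex_mul_relIndex K' N E (map_subtype_le _) hNE, hq.dvd_mul, not_or]
      refine ⟨fun hqi => ?_, hNh q hq (hqd.trans (card_subgroup_dvd_card K))⟩
      have h1 : K'.relIndex N = K.index := by
        rw [relIndex, subgroupOf, hK', comap_map_eq_self_of_injective N.subtype_injective]
      obtain ⟨i, hi⟩ := (TransferPResidual.isPGroup_quotient_pResidual (p := p) (G := N)).exists_card_eq
      rw [h1, hKdef, index_eq_card, hi] at hqi
      have := (Nat.prime_dvd_prime_iff_eq hq hpp).mp (hq.dvd_of_dvd_pow hqi)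
      exact hK (this ▸ hqd)

/-- Strong closure passes to the quotient by a normal subgroup of coprime order. -/
theorem strongD_map [Finite G] {H : Type*} [Group H] (f : G →* H) (hf : Function.Surjective f)
    {r q : ℕ} [hr : Fact r.Prime] [hq : Fact q.Prime] (hne : r ≠ q) (hk : IsPGroup r f.ker)
    {Q : Subgroup G} (hQ : IsPGroup q Q) {d : ℕ} (hs : StrongD Q d) :
    StrongD (Q.map f) d := by
  haveI : Finite H := Finite.of_surjective f hf
  intro Fb hFb hd gb yb hyb
  obtain ⟨g, rfl⟩ := hf gb
  set F := Fb.comap f ⊓ Q with hF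
  have hFq : IsPGroup q F := hQ.to_le inf_le_right
  have hFmap : F.map f = Fb := by
    refine le_antisymm ?_ ?_
    · intro y hy
      obtain ⟨x, hx, rfl⟩ := mem_map.mp hy
      exact hx.1
    · intro y hy
      obtain ⟨x, hx, rfl⟩ := mem_map.mp (hFb hy)
      exact mem_map_of_mem f (mem_inf.mpr ⟨hy, hx⟩)
  have hcop : ∀ U : Subgroup G, IsPGroup q U → (Nat.card U).Coprime (Nat.card f.ker) := by
    intro U hU
    exact IsPGroup.coprime_card_of_ne q r hne.symm U f.ker hU hk
  have hFd : IsTested d F := by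
    have h1 : Nat.card F = Nat.card Fb := by
      have h2 := relIndex_ker (f := f) F
      rw [← inf_relIndex_right, inf_eq_bot_of_coprime (hcop F hFq).symm, relIndex_bot_left,
        hFmap] at h2
      exact h2
    unfold IsTested at hd ⊢
    rwa [h1]
  obtain ⟨hy1, hy2⟩ := mem_inf.mp hyb
  obtain ⟨xb, hxb, rfl⟩ := mem_map.mp hy1
  rw [← hFmap] at hxb
  obtain ⟨x, hx, rfl⟩ := mem_map.mp hxb
  set u := g * x * g⁻¹ with hu
  have hfu : (MulAut.conj (f g)).toMonoidHom (f x) = f u := by simp [hu]
  rw [hfu] at hy2 ⊢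
  -- move `u` into the normalizer of `F`
  have hkN : F ≤ normalizer (f.ker : Set G) := by rw [normalizer_eq_top]; exact le_top
  obtain ⟨n, hn, hle⟩ := CoprimeExtra.exists_le_conj_of_le_sup (N := f.ker) (H := F)
    (U := cj u F) hkN (by
      intro y hy
      rw [sup_comm, ← comap_map_eq, hFmap, mem_comap]
      have hy3 : u⁻¹ * y * u ∈ F := mem_cj.mp hy
      have hy4 : f (u⁻¹ * y * u) ∈ Fb := hFmap ▸ mem_map_of_mem f hy3
      have := (mem_normalizer_iff.mp hy2 _).mp hy4
      convert this using 1
      simp [mul_assoc])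
    (hcop F hFq) (hcop _ (TransferAlperin.isPGroup_cj hFq))
    (Or.inl (by haveI := hFq.isNilpotent; infer_instance))
  set v := n⁻¹ * u with hv
  have hvN : v ∈ normalizer (F : Set G) := by
    refine mem_normalizer_of_forall fun z hz => ?_
    have h1 := hle (conj_mem_cj (g := u) hz)
    rw [mem_pointwise_smul_iff_inv_smul_mem, ← map_inv, MulAut.smul_def, MulAut.conj_apply] at h1
    convert h1 using 1
    simp [hv, mul_assoc]
  have hfv : f v = f u := by
    rw [hv, map_mul, map_inv, MonoidHom.mem_ker.mp hn, inv_one, one_mul]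
  have hord : ∃ i, orderOf (f v) = q ^ i := by
    obtain ⟨i, hi⟩ := IsPGroup.iff_orderOf.mp hFq ⟨x, hx⟩
    rw [orderOf_mk] at hi
    have hdv : orderOf (f v) ∣ q ^ i := by
      rw [hfv, hu, map_mul, map_mul, map_inv, ← MulAut.conj_apply, MulEquiv.orderOf_eq, ← hi]
      exact orderOf_map_dvd f x
    obtain ⟨i', -, hi'⟩ := (Nat.dvd_prime_pow hq.out).mp hdv
    exact ⟨i', hi'⟩
  obtain ⟨m, ⟨i, hi⟩, hfm⟩ := exists_primary_lift f v hq.out hord
  have hUq : IsPGroup q (zpowers (v ^ m)) :=
    IsPGroup.of_card (n := i) (by rw [Nat.card_zpowers, hi])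
  obtain ⟨n', hn', hle'⟩ := CoprimeExtra.exists_le_conj_of_le_sup (N := f.ker) (H := cj g F)
    (U := zpowers (v ^ m)) (by rw [normalizer_eq_top]; exact le_top) (by
      rw [zpowers_le, sup_comm, ← comap_map_eq, mem_comap, hfm, hfv]
      exact mem_map_of_mem f (conj_mem_cj hx))
    (hcop _ (TransferAlperin.isPGroup_cj hFq)) (hcop _ hUq)
    (Or.inl (by haveI := (TransferAlperin.isPGroup_cj (g := g) hFq).isNilpotent; infer_instance))
  have hvF : v ^ m ∈ F := by
    refine hs F inf_le_right hFd (n' * g) (mem_inf.mpr ⟨?_, pow_mem hvN m⟩)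
    have h1 := hle' (mem_zpowers (v ^ m))
    change v ^ m ∈ cj (n' * g) F
    rw [TransferAlperin.cj_mul]
    exact h1
  rw [← hfv, ← hfm, ← hFmap]
  exact mem_map_of_mem f hvF

/-- **Supersolvability criterion.** -/
theorem supersolvable (E : Subgroup G) [Finite G] [E.Normal]
    (hGE : Cfsg.IsSupersolvable (G ⧸ E)) (h : Hyp E) : Cfsg.IsSupersolvable G := by
  suffices ∀ (n : ℕ) (X : Type u) [Group X] [Finite X] (E : Subgroup X) [E.Normal],
      Nat.card X = n → Cfsg.IsSupersolvable (X ⧸ E) → Hyp E → Cfsg.IsSupersolvable X from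
    this _ G E rfl hGE h
  intro n
  induction n using Nat.strong_induction_on with
  | _ n ih =>
    intro X _ _ E _ hn hXE hyp
    by_cases hE : E = ⊥
    · subst hE
      exact Supersolvable.of_mulEquiv QuotientGroup.quotientBot hXE
    obtain ⟨r, R, hr, hRn, hRE, hRne, hRp, hRi⟩ := exists_normal_sylow E hE hyp
    haveI : Fact r.Prime := ⟨hr⟩
    set f := QuotientGroup.mk' R with hf
    have hfs : Function.Surjective f := QuotientGroup.mk'_surjective R
    haveI : (E.map f).Normal := Normal.map inferInstance f hfs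
    have hXR : Cfsg.IsSupersolvable (X ⧸ R) := by
      refine ih _ ?_ (X ⧸ R) (E.map f) rfl
        (Supersolvable.of_mulEquiv (QuotientGroup.quotientQuotientEquivQuotient R E hRE).symm hXE) ?_
      · rw [← hn]
        exact Supersolvable.card_quotient_lt R hRne
      intro q hq Pb hPb hPbq hPbi hPbc
      haveI : Fact q.Prime := ⟨hq⟩
      have hker : f.ker = R := QuotientGroup.ker_mk' R
      have hcardE : Nat.card (E.map f) = R.relIndex E := by rw [← relIndex_ker, hker]
      by_cases hqr : q = r
      · exfalso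
        subst hqr
        apply hPbc
        have h1 : Nat.card Pb = 1 := by
          refine hPbq.card_eq_or_dvd.resolve_right fun hd => hRi ?_
          rw [← hcardE]
          exact hd.trans (card_dvd_of_le hPb)
        haveI : Subsingleton Pb := (Nat.card_eq_one_iff_unique.mp h1).1
        infer_instance
      set K := Pb.comap f with hK
      have hKE : K ≤ E := by
        intro x hx
        obtain ⟨y, hy, hye⟩ := mem_map.mp (hPb hx)
        have h1 : y⁻¹ * x ∈ R := by
          rw [← hker, MonoidHom.mem_ker, map_mul, map_inv, hye, inv_mul_cancel]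
        have := mul_mem hy (hRE h1)
        simpa using this
      obtain ⟨Q⟩ : Nonempty (Sylow q K) := inferInstance
      set Q' := (Q : Subgroup K).map K.subtype with hQ'
      have hQq : IsPGroup q Q' := Q.isPGroup'.map _
      have hinf : f.ker ⊓ Q' = ⊥ := by
        rw [hker]
        exact inf_eq_bot_of_coprime
          (IsPGroup.coprime_card_of_ne r q (Ne.symm hqr) R Q' hRp hQq)
      have hKc : Nat.card K = Nat.card R * Nat.card Pb := by
        have h1 : R ≤ K := by
          rw [← hker]
          exact ker_le_comap f Pb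
        rw [← relIndex_bot_left K, ← relIndex_mul_relIndex ⊥ R K bot_le h1, relIndex_bot_left]
        congr 1
        have h2 := relIndex_ker (f := f) K
        rw [hker, hK, map_comap_eq_self_of_surjective hfs] at h2
        exact h2
      have hQc : Nat.card Q' = Nat.card (Q'.map f) := by
        have h2 := relIndex_ker (f := f) Q'
        rw [← inf_relIndex_right, hinf, relIndex_bot_left] at h2
        exact h2
      have hQP : Q'.map f = Pb := by
        refine eq_of_le_of_card_ge ((map_mono (map_subtype_le _)).trans (map_comap_le f Pb)) ?_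
        rw [← hQc, hQ', card_map_of_injective K.subtype_injective, Q.card_eq_multiplicity]
        obtain ⟨j, hj⟩ := hPbq.exists_card_eq
        rw [hj]
        refine Nat.le_of_dvd (pow_pos hq.pos _)
          ((hq.pow_dvd_iff_dvd_ordProj Nat.card_pos.ne').mp ?_)
        rw [← hj, hKc]
        exact dvd_mul_left _ _
      have hQi : ¬ q ∣ Q'.relIndex E := by
        rw [← relIndex_mul_relIndex Q' K E (map_subtype_le _) hKE, hq.dvd_mul, not_or]
        refine ⟨?_, ?_⟩
        · rw [relIndex, subgroupOf, hQ', comap_map_eq_self_of_injective K.subtype_injective]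
          exact Q.not_dvd_index
        · have h1 : K.relIndex E = Pb.relIndex (E.map f) := by rw [hK, relIndex_comap]
          rwa [h1]
      set e := MulEquiv.ofBijective (f.subgroupMap Q') ((Nat.bijective_iff_surjective_and_card _).mpr
        ⟨f.subgroupMap_surjective Q', hQc⟩)
      obtain ⟨d, hd1, hd2, hd3, hs⟩ := hyp q hq Q' ((map_subtype_le _).trans hKE) hQq hQi
        (fun hc => hPbc (hQP ▸ e.isCyclic.mp hc))
      rw [hQc, hQP] at hd2 hd3
      refine ⟨d, hd1, hd2, hd3, ?_⟩
      rw [← hQP]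
      exact strongD_map f hfs (Ne.symm hqr) (by rw [hker]; exact hRp) hQq hs
    by_cases hcyc : IsCyclic R
    · exact Supersolvable.of_cyclic_normal R hcyc hXR
    obtain ⟨d, hd1, hd2, hd3, hs⟩ := hyp r hr R hRE hRp hRi hcyc
    exact of_normal_pgroup R hRp hXR hd1 hd2 hd3 hs

end Cfsg.Agent.OrderDSupersolvable
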