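import Mathlib

/-!
Wielandt's join theorem for subnormal subgroups of a finite group and the zipper lemma.
-/

namespace Cfsg.Agent.SubnormalJoin

open scoped Pointwise
open Subgroup

variable {G : Type*} [Group G]

theorem mem_normalizer_of_conj_smul_eq {S : Subgroup G} {g : G} (h : MulAut.conj g • S = S) :
    g ∈ normalizer (S : Set G) := by
  rw [mem_normalizer_iff]
  intro x
  have : g * x * g⁻¹ ∈ MulAut.conj g • S ↔ x ∈ S := by
    rw [← MulAut.conj_apply, ← MulAut.smul_def, smul_mem_pointwise_smul_iff]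
  rw [h] at this
  exact this.symm

theorem conj_smul_eq_iff_mem_normalizer {S : Subgroup G} {g : G} :
    MulAut.conj g • S = S ↔ g ∈ normalizer (S : Set G) := by
  refine ⟨mem_normalizer_of_conj_smul_eq, fun h => ?_⟩
  ext x
  rw [mem_pointwise_smul_iff_inv_smul_mem, MulAut.smul_def, MulAut.conj_inv_apply]
  have := mem_normalizer_iff.1 (inv_mem h) x
  rw [inv_inv] at this
  exact this.symm

theorem conj_mem_normalizer {S : Subgroup G} {g l : G}
    (h : l ∈ normalizer ((MulAut.conj g⁻¹ • S : Subgroup G) : Set G)) :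
    g * l * g⁻¹ ∈ normalizer (S : Set G) := by
  rw [← conj_smul_eq_iff_mem_normalizer] at h ⊢
  rw [map_mul, map_mul, mul_smul, mul_smul, map_inv]
  rw [map_inv] at h
  rw [h, smul_inv_smul]

theorem inf_normalizer_le_normalizer_sup (H K : Subgroup G) :
    normalizer (H : Set G) ⊓ normalizer (K : Set G) ≤ normalizer ((H ⊔ K : Subgroup G) : Set G) := by
  intro g hg
  rw [← conj_smul_eq_iff_mem_normalizer, smul_sup, conj_smul_eq_iff_mem_normalizer.2 hg.1,
    conj_smul_eq_iff_mem_normalizer.2 hg.2]

universe u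

/-- A minimal normal subgroup normalises every subnormal subgroup. -/
theorem minNormal_le_normalizer {G : Type u} [Group G] [Finite G] {N S : Subgroup G} (hN : N.Normal)
    (hmin : ∀ L : Subgroup G, L.Normal → L ≤ N → L = ⊥ ∨ L = N) (hS : S.IsSubnormal) :
    N ≤ normalizer (S : Set G) := by
  generalize hn : Nat.card G = n
  induction n using Nat.strong_induction_on generalizing G with
  | _ n ih =>
    rcases hS.lt_normal with rfl | ⟨M, hM, hSM, hlt⟩
    · intro x _; exact mem_normalizer_iff.2 fun y => by simp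
    rcases hmin (N ⊓ M) inferInstance inf_le_left with h | h
    · intro x hx
      refine centralizer_le_normalizer _ (mem_centralizer_iff.2 fun s hs => ?_)
      exact commute_of_normal_of_disjoint M N hM hN (by rw [disjoint_iff, inf_comm]; exact h) s x (hSM hs) hx
    have hNM : N ≤ M := inf_eq_left.1 h
    rcases eq_or_ne N ⊥ with rfl | hNb
    · exact bot_le
    obtain ⟨L, ⟨hLn, hLN, hLb⟩, hLmin⟩ := Set.Finite.exists_minimal
      (Set.toFinite {L : Subgroup M | L.Normal ∧ L ≤ N.subgroupOf M ∧ L ≠ ⊥})
      ⟨N.subgroupOf M, inferInstance, le_rfl, by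
        rw [Ne, subgroupOf_eq_bot, disjoint_iff, h]; exact hNb⟩
    have hLmin' : ∀ L' : Subgroup M, L'.Normal → L' ≤ L → L' = ⊥ ∨ L' = L := fun L' h1 h2 => by
      by_cases h3 : L' = ⊥
      · exact Or.inl h3
      · exact Or.inr (le_antisymm h2 (hLmin ⟨h1, h2.trans hLN, h3⟩ h2))
    have hcard : Nat.card M < n := by
      rw [← hn]
      refine lt_of_le_of_ne (card_le_card_group M) fun e => hlt.ne (eq_top_of_card_eq M e)
    have hkey : ∀ g : G, ∀ l : M, l ∈ L → g * (l : G) * g⁻¹ ∈ normalizer (S : Set G) := by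
      intro g l hl
      apply conj_mem_normalizer
      have hle : MulAut.conj g⁻¹ • S ≤ M := by
        intro x hx
        obtain ⟨s, hs, rfl⟩ := hx
        exact hM.conj_mem s (hSM hs) g⁻¹
      have h2 : l ∈ normalizer (((MulAut.conj g⁻¹ • S).subgroupOf M : Subgroup M) : Set M) :=
        ih _ hcard (S := (MulAut.conj g⁻¹ • S).subgroupOf M) hLn hLmin'
          ((hS.smul _).subgroupOf) rfl hl
      rw [mem_normalizer_iff] at h2 ⊢
      intro x
      by_cases hx : x ∈ M
      · simpa [mem_subgroupOf] using h2 ⟨x, hx⟩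
      · refine ⟨fun h' => absurd (hle h') hx, fun h' => absurd ?_ hx⟩
        have := M.mul_mem (M.mul_mem (M.inv_mem l.2) (hle h')) l.2
        simpa [mul_assoc] using this
    have hcl : normalClosure ((L.map M.subtype : Subgroup G) : Set G) = N := by
      refine (hmin _ inferInstance (normalClosure_le_normal ?_)).resolve_left fun hb => hLb ?_
      · rintro _ ⟨l, hl, rfl⟩; exact hLN hl
      · rw [eq_bot_iff] at hb ⊢
        intro l hl
        have := hb (subset_normalClosure ⟨l, hl, rfl⟩)
        rw [mem_bot] at this ⊢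
        exact Subtype.ext this
    rw [← hcl]
    refine (closure_le _).2 fun x hx => ?_
    obtain ⟨_, ⟨l, hl, rfl⟩, hc⟩ := Group.mem_conjugatesOfSet_iff.1 hx
    obtain ⟨g, rfl⟩ := isConj_iff.1 hc
    exact hkey g l hl

/-- **Wielandt**: the join of two subnormal subgroups of a finite group is subnormal. -/
theorem isSubnormal_sup {G : Type u} [Group G] [Finite G] {H K : Subgroup G}
    (hH : H.IsSubnormal) (hK : K.IsSubnormal) : (H ⊔ K).IsSubnormal := by
  generalize hn : Nat.card G = n
  induction n using Nat.strong_induction_on generalizing G with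
  | _ n ih =>
    by_cases htriv : Subsingleton G
    · have : H ⊔ K = ⊤ := Subsingleton.elim _ _
      rw [this]; exact Normal.isSubnormal inferInstance
    haveI := not_subsingleton_iff_nontrivial.1 htriv
    obtain ⟨N, ⟨hNn, hNb⟩, hNmin⟩ := Set.Finite.exists_minimal
      (Set.toFinite {L : Subgroup G | L.Normal ∧ L ≠ ⊥}) ⟨⊤, inferInstance, top_ne_bot⟩
    have hmin : ∀ L : Subgroup G, L.Normal → L ≤ N → L = ⊥ ∨ L = N := fun L h1 h2 => by
      by_cases h3 : L = ⊥
      · exact Or.inl h3
      · exact Or.inr (le_antisymm h2 (hNmin ⟨h1, h3⟩ h2))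
    let π := QuotientGroup.mk' N
    have hπ : Function.Surjective π := QuotientGroup.mk'_surjective N
    have hcard : Nat.card (G ⧸ N) < n := by
      rw [← hn, card_eq_card_quotient_mul_card_subgroup N]
      exact lt_mul_of_one_lt_right Nat.card_pos ((one_lt_card_iff_ne_bot N).2 hNb)
    have h1 := ih _ hcard (hH.map hπ) (hK.map hπ) rfl
    rw [← Subgroup.map_sup] at h1
    have h2 := h1.comap π
    rw [comap_map_eq, QuotientGroup.ker_mk'] at h2
    refine IsSubnormal.step _ _ le_sup_left h2 ?_
    rw [normal_subgroupOf_iff_le_normalizer le_sup_left]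
    refine sup_le le_normalizer ((le_inf ?_ ?_).trans (inf_normalizer_le_normalizer_sup H K))
    · exact minNormal_le_normalizer hNn hmin hH
    · exact minNormal_le_normalizer hNn hmin hK

/-- A subnormal subgroup which is not normal has a conjugate, different from itself, in its normaliser. -/
theorem exists_conj_le_normalizer {S : Subgroup G} (hS : S.IsSubnormal) (hn : ¬ S.Normal) :
    ∃ g : G, MulAut.conj g • S ≠ S ∧ MulAut.conj g • S ≤ normalizer (S : Set G) := by
  by_contra hc
  push Not at hc
  have hP : ∀ X : Subgroup G, S ≤ X → X ≤ normalizer (S : Set G) → normalizer (X : Set G) ≤ normalizer (S : Set G) := by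
    intro X hSX hXN g hg
    rw [← conj_smul_eq_iff_mem_normalizer]
    by_contra hne
    refine hc g hne ?_
    refine le_trans ?_ hXN
    rw [← conj_smul_eq_iff_mem_normalizer.2 hg]
    exact pointwise_smul_le_pointwise_smul_iff.2 hSX
  have key : ∀ K : Subgroup G, K.IsSubnormal → S ≤ K → K ≤ normalizer (S : Set G) → (⊤ : Subgroup G) ≤ normalizer (S : Set G) := by
    intro K hK
    induction hK with
    | top => exact fun _ h => h
    | step A B hAB hB hnorm ih =>
      intro hSA hAN
      exact ih (hSA.trans hAB) (((normal_subgroupOf_iff_le_normalizer hAB).1 hnorm).trans (hP A hSA hAN))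
  exact hn (normalizer_eq_top_iff.mp (top_le_iff.1 (key S hS le_rfl le_normalizer)))

theorem isSubnormal_subgroupOf_mono {A H K : Subgroup G} (hHK : H ≤ K)
    (h : (A.subgroupOf K).IsSubnormal) : (A.subgroupOf H).IsSubnormal := by
  have e : A.subgroupOf H = (A.subgroupOf K).comap (inclusion hHK) := rfl
  rw [e]
  exact h.comap _

/-- **Zipper lemma**. -/
theorem zipper [Finite G] (A : Subgroup G)
    (h : ∀ X : Subgroup G, A ≤ X → X ≠ ⊤ → (A.subgroupOf X).IsSubnormal) (hA : ¬ A.IsSubnormal) :
    ∃ M : Subgroup G, IsCoatom M ∧ A ≤ M ∧ ∀ X : Subgroup G, A ≤ X → X ≠ ⊤ → X ≤ M := by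
  induction A using WellFoundedGT.induction with
  | _ A ih =>
    have hN : normalizer (A : Set G) ≠ ⊤ := fun e => hA (normalizer_eq_top_iff.mp e).isSubnormal
    obtain ⟨M, hM, hNM⟩ := (eq_top_or_exists_le_coatom (normalizer (A : Set G))).resolve_left hN
    have hAM : A ≤ M := le_normalizer.trans hNM
    refine ⟨M, hM, hAM, fun X hAX hX => ?_⟩
    obtain ⟨M', hM', hXM'⟩ := (eq_top_or_exists_le_coatom X).resolve_left hX
    refine hXM'.trans (le_of_eq ?_)
    have hAM' : A ≤ M' := hAX.trans hXM'
    by_cases hn : (A.subgroupOf M').Normal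
    · have : M' ≤ M := ((normal_subgroupOf_iff_le_normalizer hAM').1 hn).trans hNM
      exact ((hM'.le_iff.1 this).resolve_left hM.1).symm
    obtain ⟨g, hg1, hg2⟩ := exists_conj_le_normalizer (h M' hAM' hM'.1) hn
    set B := A ⊔ MulAut.conj (g : G) • A with hB
    have hgM' : MulAut.conj (g : G) • A ≤ M' := by
      rintro _ ⟨a, ha, rfl⟩
      exact M'.mul_mem (M'.mul_mem g.2 (hAM' ha)) (M'.inv_mem g.2)
    have hgN : MulAut.conj (g : G) • A ≤ normalizer (A : Set G) := by
      rintro _ ⟨a, ha, rfl⟩
      have h1 : g * ⟨a, hAM' ha⟩ * g⁻¹ ∈ normalizer ((A.subgroupOf M' : Subgroup M') : Set M') :=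
        hg2 ⟨⟨a, hAM' ha⟩, ha, rfl⟩
      rw [mem_normalizer_iff] at h1
      rw [mem_normalizer_iff]
      intro x
      have hm : (g : G) * a * (g : G)⁻¹ ∈ M' := M'.mul_mem (M'.mul_mem g.2 (hAM' ha)) (M'.inv_mem g.2)
      by_cases hx : x ∈ M'
      · simpa [mem_subgroupOf] using h1 ⟨x, hx⟩
      · refine ⟨fun h' => absurd (hAM' h') hx, fun h' => absurd ?_ hx⟩
        have := M'.mul_mem (M'.mul_mem (M'.inv_mem hm) (hAM' h')) hm
        simpa [mul_assoc] using this
    have hne : A < B := by
      refine lt_of_le_of_ne le_sup_left fun e => hg1 ?_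
      have hle : MulAut.conj (g : G) • A ≤ A := le_sup_right.trans e.ge
      have heq : MulAut.conj (g : G) • A = A := by
        refine eq_of_le_of_card_ge hle (le_of_eq ?_)
        exact Nat.card_congr (equivSMul (MulAut.conj (g : G)) A).toEquiv
      have hgN' := conj_smul_eq_iff_mem_normalizer.1 heq
      rw [conj_smul_eq_iff_mem_normalizer, mem_normalizer_iff]
      intro x
      simpa [mem_subgroupOf] using mem_normalizer_iff.1 hgN' x
    have hBN : B ≤ normalizer (A : Set G) := sup_le le_normalizer hgN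
    have hBns : ¬ B.IsSubnormal := fun hs => hA (IsSubnormal.step A B le_sup_left hs
      ((normal_subgroupOf_iff_le_normalizer le_sup_left).2 hBN))
    have hBsub : ∀ Y : Subgroup G, B ≤ Y → Y ≠ ⊤ → (B.subgroupOf Y).IsSubnormal := by
      intro Y hBY hY
      have h2 : MulAut.conj (g : G) • A ≤ Y := le_sup_right.trans hBY
      rw [hB, subgroupOf_sup (le_sup_left.trans hBY) h2]
      refine isSubnormal_sup (h Y (le_sup_left.trans hBY) hY) ?_
      set Y' := MulAut.conj (g : G)⁻¹ • Y with hY'
      have hAY' : A ≤ Y' := by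
        intro a ha
        have : MulAut.conj (g : G) a ∈ Y := h2 ⟨a, ha, rfl⟩
        rw [hY', mem_pointwise_smul_iff_inv_smul_mem]
        simpa using this
      have hY't : Y' ≠ ⊤ := by
        intro e
        apply hY
        rw [eq_top_iff']
        intro y
        have hy : MulAut.conj (g : G)⁻¹ y ∈ Y' := e ▸ mem_top _
        rw [hY'] at hy
        exact (smul_mem_pointwise_smul_iff (a := MulAut.conj (g : G)⁻¹)).1 hy
      let φ : Y →* Y' := ((MulAut.conj (g : G)⁻¹).toMonoidHom.comp Y.subtype).codRestrict Y'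
        (fun y => ⟨y, y.2, rfl⟩)
      have e : (MulAut.conj (g : G) • A).subgroupOf Y = (A.subgroupOf Y').comap φ := by
        ext y
        rw [mem_subgroupOf, mem_pointwise_smul_iff_inv_smul_mem]
        simp [φ, mem_subgroupOf, MulAut.smul_def]
      rw [e]
      exact (h Y' hAY' hY't).comap φ
    obtain ⟨M₀, hM₀, _, huniq⟩ := ih B hne hBsub hBns
    have e1 : M ≤ M₀ := huniq M (hBN.trans hNM) hM.1
    have e2 : M' ≤ M₀ := huniq M' (sup_le hAM' hgM') hM'.1
    exact ((hM'.le_iff.1 e2).resolve_left hM₀.1).symm.trans ((hM.le_iff.1 e1).resolve_left hM₀.1)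

/-- **Wielandt's criterion** for subnormality. -/
theorem isSubnormal_of_forall_sup_conj {G : Type u} [Group G] [Finite G] (A : Subgroup G)
    (h : ∀ g : G, (A.subgroupOf (A ⊔ MulAut.conj g • A)).IsSubnormal) : A.IsSubnormal := by
  generalize hn : Nat.card G = n
  induction n using Nat.strong_induction_on generalizing G with
  | _ n ih =>
    by_contra hA
    have hsub : ∀ X : Subgroup G, A ≤ X → X ≠ ⊤ → (A.subgroupOf X).IsSubnormal := by
      intro X hAX hX
      refine ih (Nat.card X) ?_ _ ?_ rfl
      · rw [← hn]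
        exact lt_of_le_of_ne (card_le_card_group X) fun e => hX (eq_top_of_card_eq X e)
      intro g
      set J := A.subgroupOf X ⊔ MulAut.conj g • A.subgroupOf X with hJ
      set J₀ := A ⊔ MulAut.conj (g : G) • A with hJ₀
      have hle : J.map X.subtype ≤ J₀ := by
        rw [hJ, Subgroup.map_sup]
        refine sup_le_sup ?_ ?_
        · rw [subgroupOf_map_subtype]; exact inf_le_left
        · rintro _ ⟨_, ⟨a, ha, rfl⟩, rfl⟩
          exact ⟨(a : G), ha, rfl⟩
      let φ : J →* J₀ := (X.subtype.comp J.subtype).codRestrict J₀ (fun y => hle ⟨y, y.2, rfl⟩)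
      have e : (A.subgroupOf X).subgroupOf J = (A.subgroupOf J₀).comap φ := rfl
      rw [e]
      exact (h g).comap φ
    obtain ⟨M, hM, hAM, huniq⟩ := zipper A hsub hA
    have hall : ∀ g : G, MulAut.conj g • A ≤ M := by
      intro g
      refine le_sup_right.trans (huniq _ le_sup_left fun e => hA ?_)
      have h1 := h g
      rw [e] at h1
      exact IsSubnormal.trans le_top h1 IsSubnormal.top
    have hle : normalClosure (A : Set G) ≤ M := by
      refine (closure_le _).2 fun x hx => ?_
      obtain ⟨a, ha, hc⟩ := Group.mem_conjugatesOfSet_iff.1 hx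
      obtain ⟨g, rfl⟩ := isConj_iff.1 hc
      exact hall g ⟨a, ha, rfl⟩
    have hne : normalClosure (A : Set G) ≠ ⊤ := fun e => hM.1 (top_le_iff.1 (e ▸ hle))
    exact hA (IsSubnormal.trans (subset_normalClosure) (hsub _ subset_normalClosure hne)
      (Normal.isSubnormal inferInstance))

end Cfsg.Agent.SubnormalJoin
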