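import Mathlib
import Cfsg.Agent.Lib.SubnormalJoin
import Cfsg.Agent.Lib.OrderDSupersolvable
import Cfsg.Agent.Lib.CentralSylow
import Cfsg.Agent.Lib.CoprimeAction
import Cfsg.Agent.Lib.OffendersReplace

/-!
# Joins of subnormal subgroups: `O^p` and Sylow subgroups

For subnormal subgroups `A`, `B` of a finite group, `O^p(⟨A, B⟩) = ⟨O^p(A), O^p(B)⟩` and
`⟨A, B⟩ ⊓ S = ⟨A ⊓ S, B ⊓ S⟩` for every Sylow `p`-subgroup `S`.
-/

set_option autoImplicit false
set_option linter.style.haveILetI false

open Subgroup
open scoped commutatorElement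

universe u

namespace Cfsg.Agent.SubnormalResidual

variable {G : Type*} [Group G] {p : ℕ}

/-- The subgroup generated by the elements of `A` of order prime to `p`. -/
def opr (p : ℕ) (A : Subgroup G) : Subgroup G :=
  closure {x | x ∈ A ∧ (orderOf x).Coprime p}

theorem mem_opr {A : Subgroup G} {x : G} (hx : x ∈ A) (hc : (orderOf x).Coprime p) :
    x ∈ opr p A :=
  subset_closure ⟨hx, hc⟩

theorem opr_le (A : Subgroup G) : opr p A ≤ A :=
  (closure_le _).mpr fun _ hx => hx.1

theorem opr_mono {A B : Subgroup G} (h : A ≤ B) : opr p A ≤ opr p B :=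
  closure_mono fun _ hx => ⟨h hx.1, hx.2⟩

theorem opr_opr (A : Subgroup G) : opr p (opr p A) = opr p A :=
  le_antisymm (opr_le _) ((closure_le _).mpr fun _ hx => mem_opr (mem_opr hx.1 hx.2) hx.2)

theorem normalizer_le_normalizer_opr [Finite G] (A : Subgroup G) :
    normalizer (A : Set G) ≤ normalizer ((opr p A : Subgroup G) : Set G) := by
  intro g hg
  refine OrderDSubgroups.mem_normalizer_of_forall fun x hx => ?_
  have h : opr p A ≤ (opr p A).comap (MulAut.conj g).toMonoidHom :=
    (closure_le _).mpr fun y hy => mem_opr ((mem_normalizer_iff.mp hg y).mp hy.1) (by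
      have e : orderOf ((MulAut.conj g).toMonoidHom y) = orderOf y :=
        MulEquiv.orderOf_eq (MulAut.conj g) y
      exact e.symm ▸ hy.2)
  exact h hx

theorem isPGroup_of_opr_eq_bot [Finite G] [hp : Fact p.Prime] {A : Subgroup G}
    (h : opr p A = ⊥) : IsPGroup p A := by
  rintro ⟨x, hx⟩
  refine ⟨(orderOf x).factorization p, Subtype.ext ?_⟩
  have h1 : x ^ p ^ (orderOf x).factorization p ∈ opr p A := by
    refine mem_opr (pow_mem hx _) ?_
    rw [orderOf_pow_of_dvd (pow_ne_zero _ hp.out.ne_zero) (Nat.ordProj_dvd _ p)]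
    exact (Nat.coprime_ordCompl hp.out (orderOf_pos x).ne').symm
  rw [h, mem_bot] at h1
  exact h1

theorem map_opr [Finite G] [hp : Fact p.Prime] {H : Type*} [Group H] (f : G →* H)
    (A : Subgroup G) : (opr p A).map f = opr p (A.map f) := by
  rw [opr, MonoidHom.map_closure]
  refine le_antisymm ((closure_le _).mpr ?_) ((closure_le _).mpr ?_)
  · rintro _ ⟨x, hx, rfl⟩
    exact mem_opr (mem_map_of_mem f hx.1) (hx.2.coprime_dvd_left (orderOf_map_dvd f x))
  · rintro y ⟨hy, hc⟩
    obtain ⟨x, hx, rfl⟩ := mem_map.mp hy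
    obtain ⟨m, hm, hfm⟩ := OrderDSupersolvable.exists_coprime_lift f x hp.out hc
    rw [SetLike.mem_coe, ← hfm]
    exact subset_closure ⟨x ^ m, ⟨pow_mem hx m, hm⟩, rfl⟩

theorem mem_of_index_coprime [Finite G] {H : Subgroup G} (hH : H.IsSubnormal) {x : G}
    (hco : H.index.Coprime (orderOf x)) : x ∈ H := by
  induction hH with
  | top => trivial
  | step H K h_le hSubn hN ih =>
    rw [← relIndex_mul_index h_le, Nat.coprime_mul_iff_left] at hco
    haveI := hN
    have hxK := ih hco.2
    have h1 : orderOf (QuotientGroup.mk' (H.subgroupOf K) ⟨x, hxK⟩) ∣ orderOf x := by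
      rw [← orderOf_mk x hxK]; exact orderOf_map_dvd _ _
    have h2 : orderOf (QuotientGroup.mk' (H.subgroupOf K) ⟨x, hxK⟩) ∣ H.relIndex K :=
      orderOf_dvd_natCard _
    have h3 := Nat.eq_one_of_dvd_coprimes hco.1 h2 h1
    rw [orderOf_eq_one_iff] at h3
    exact mem_subgroupOf.mp ((QuotientGroup.eq_one_iff _).mp h3)

/-- A subnormal subgroup of `p`-power index in `D` contains `O^p(D)`. -/
theorem opr_le_of_relIndex [Finite G] [hp : Fact p.Prime] {H D : Subgroup G}
    (hH : H.IsSubnormal) {n : ℕ} (hi : H.relIndex D ∣ p ^ n) : opr p D ≤ H := by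
  refine (closure_le _).mpr fun x hx => ?_
  have h := mem_of_index_coprime (hH.subgroupOf (K := D)) (x := ⟨x, hx.1⟩)
    ((((hx.2.pow_right n).coprime_dvd_right hi).symm).coprime_dvd_right (by rw [orderOf_mk]))
  exact mem_subgroupOf.mp h

theorem isSubnormal_opr [Finite G] {A : Subgroup G} (hA : A.IsSubnormal) :
    (opr p A).IsSubnormal :=
  IsSubnormal.step _ A (opr_le A) hA
    (normal_subgroupOf_of_le_normalizer (le_normalizer.trans (normalizer_le_normalizer_opr A)))

theorem not_dvd_relIndex_inf [Finite G] [hp : Fact p.Prime] (S : Sylow p G) {A : Subgroup G}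
    (hA : A.IsSubnormal) : ¬ p ∣ ((S : Subgroup G) ⊓ A).relIndex A := by
  induction hA with
  | top => rw [inf_top_eq, relIndex_top_right]; exact S.not_dvd_index
  | step H K h_le hSubn hN ih =>
    have h1 : IsPGroup p ((S : Subgroup G).subgroupOf K) := S.isPGroup'.comap_subtype
    have h2 : ¬ p ∣ ((S : Subgroup G).subgroupOf K).index := by
      rw [← inf_subgroupOf_right]
      exact ih
    haveI := hN
    have h3 := CentralSylow.not_dvd_relIndex_normal (h1.toSylow h2) (H.subgroupOf K)
    rw [IsPGroup.toSylow_coe, inf_relIndex_right, relIndex_subgroupOf h_le] at h3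
    rwa [inf_relIndex_right]

theorem relIndex_map_dvd_of_le {H : Type*} [Group H] (f : G →* H) {U V : Subgroup G} (h : U ≤ V) :
    (U.map f).relIndex (V.map f) ∣ U.relIndex V := by
  have e : (U.subgroupOf V).map (f.subgroupMap V) = (U.map f).subgroupOf (V.map f) := by
    ext ⟨y, hy⟩
    constructor
    · rintro ⟨⟨x, hx⟩, hxU, hxy⟩
      exact ⟨x, hxU, congrArg Subtype.val hxy⟩
    · rintro ⟨x, hx, hxy⟩
      exact ⟨⟨x, h hx⟩, hx, Subtype.ext hxy⟩
  rw [relIndex, relIndex, ← e]
  exact index_map_dvd _ (f.subgroupMap_surjective V)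

/-- The image of the Sylow subgroup of a subnormal subgroup is the Sylow subgroup of its image. -/
theorem map_inf_sylow [Finite G] [hp : Fact p.Prime] {H : Type*} [Group H] (f : G →* H)
    {A : Subgroup G} (hA : A.IsSubnormal) (S : Sylow p G) {Q : Subgroup H}
    (hQ : IsPGroup p Q) (hQA : Q ≤ A.map f) (hle : ((S : Subgroup G) ⊓ A).map f ≤ Q) :
    Q = ((S : Subgroup G) ⊓ A).map f := by
  haveI : Finite (A.map f) := Finite.of_surjective _ (f.subgroupMap_surjective A)
  haveI : Finite Q := Finite.of_injective _ (Subgroup.inclusion_injective hQA)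
  refine le_antisymm (relIndex_eq_one.mp ?_) hle
  have h1 : (((S : Subgroup G) ⊓ A).map f).relIndex Q ∣ ((S : Subgroup G) ⊓ A).relIndex A := by
    refine (Dvd.intro _ (relIndex_mul_relIndex _ _ _ hle hQA)).trans ?_
    exact relIndex_map_dvd_of_le f inf_le_right
  obtain ⟨j, hj⟩ := hQ.exists_card_eq
  obtain ⟨i, -, hi⟩ := (Nat.dvd_prime_pow hp.out).mp
    (hj ▸ relIndex_dvd_card (((S : Subgroup G) ⊓ A).map f) Q)
  rcases Nat.eq_zero_or_pos i with h0 | h0
  · rw [hi, h0, pow_zero]
  · exact absurd ((dvd_pow_self p h0.ne').trans (hi ▸ h1)) (not_dvd_relIndex_inf S hA)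

/-- `A = O^p(A) (S ⊓ A)` for subnormal `A`. -/
theorem eq_opr_sup [Finite G] [hp : Fact p.Prime] (S : Sylow p G) {A : Subgroup G}
    (hA : A.IsSubnormal) : A = opr p A ⊔ ((S : Subgroup G) ⊓ A) := by
  refine le_antisymm ?_ (sup_le (opr_le A) inf_le_right)
  have h1 : IsPGroup p ((S : Subgroup G).subgroupOf A) := S.isPGroup'.comap_subtype
  have h2 : ¬ p ∣ ((S : Subgroup G).subgroupOf A).index := by
    rw [← inf_subgroupOf_right]
    exact not_dvd_relIndex_inf S hA
  have h3 := congrArg (Subgroup.map A.subtype) (TransferPResidual.sylow_sup_pResidual (h1.toSylow h2))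
  rw [Subgroup.map_sup, IsPGroup.toSylow_coe, ← MonoidHom.range_eq_map, range_subtype,
    subgroupOf_map_subtype] at h3
  have h4 : (Cfsg.pResidual p A).map A.subtype ≤ opr p A := by
    rw [Cfsg.pResidual, MonoidHom.map_closure, closure_le]
    rintro _ ⟨x, hx, rfl⟩
    exact mem_opr x.2 (by simpa [orderOf_coe] using hx)
  calc A = (S : Subgroup G) ⊓ A ⊔ (Cfsg.pResidual p A).map A.subtype := h3.symm
    _ ≤ _ := sup_le le_sup_right (h4.trans le_sup_left)

theorem relIndex_sup_dvd_card [Finite G] {M P : Subgroup G} (h : P ≤ normalizer (M : Set G)) :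
    M.relIndex (P ⊔ M) ∣ Nat.card P := by
  have h1 := OffendersReplace.card_sup_mul_card_inf P M h
  rw [← HallCore.card_mul_relIndex (le_sup_right : M ≤ P ⊔ M)] at h1
  refine ⟨Nat.card ↥(P ⊓ M), ?_⟩
  refine Nat.eq_of_mul_eq_mul_left (Nat.card_pos (α := M)) ?_
  rw [← mul_assoc, h1, mul_comm]

/-- The facts about a minimal normal subgroup `N` and `W = ⟨N ⊓ A, N ⊓ B⟩`. -/
theorem minNormal_cases [Finite G] {N A B : Subgroup G} [N.Normal]
    (hmin : ∀ L : Subgroup G, L.Normal → L ≤ N → L = ⊥ ∨ L = N) (hA : A.IsSubnormal)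
    (hB : B.IsSubnormal) (htop : A ⊔ B = ⊤) :
    (N ⊓ A) ⊔ (N ⊓ B) = N ∨ N ≤ center G := by
  have hNA := SubnormalJoin.minNormal_le_normalizer inferInstance hmin hA
  have hNB := SubnormalJoin.minNormal_le_normalizer inferInstance hmin hB
  have hcomm : ∀ (C : Subgroup G), N ≤ normalizer (C : Set G) → ∀ c ∈ C, ∀ x ∈ N,
      c * x * c⁻¹ * x⁻¹ ∈ N ⊓ C := by
    intro C hC c hc x hx
    refine mem_inf.mpr ⟨mul_mem (Normal.conj_mem inferInstance x hx c) (inv_mem hx), ?_⟩
    have h1 := mul_mem hc ((mem_normalizer_iff.mp (hC hx) c⁻¹).mp (inv_mem hc))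
    convert h1 using 1
    group
  set W := (N ⊓ A) ⊔ (N ⊓ B) with hW
  have hWN : W ≤ N := sup_le inf_le_left inf_le_left
  have hWn : W.Normal := by
    rw [← normalizer_eq_top_iff, eq_top_iff, ← htop]
    refine sup_le (fun a ha => ?_) (fun b hb => ?_)
    all_goals refine OrderDSubgroups.mem_normalizer_of_forall fun x hx => ?_
    · have h1 := mul_mem ((le_sup_left : N ⊓ A ≤ W) (hcomm A hNA a ha x (hWN hx))) hx
      simpa using h1
    · have h1 := mul_mem ((le_sup_right : N ⊓ B ≤ W) (hcomm B hNB b hb x (hWN hx))) hx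
      simpa using h1
  rcases hmin W hWn hWN with h | h
  · refine Or.inr fun x hx => ?_
    have hle : A ⊔ B ≤ centralizer ({x} : Set G) := by
      refine sup_le (fun a ha => ?_) (fun b hb => ?_)
      all_goals refine mem_centralizer_singleton_iff.mpr (mul_inv_eq_iff_eq_mul.mp ?_)
      all_goals rw [← mul_inv_eq_one, ← mem_bot, ← h]
      · exact mem_sup_left (hcomm A hNA a ha x hx)
      · exact mem_sup_right (hcomm B hNB b hb x hx)
    rw [htop] at hle
    exact mem_center_iff.mpr fun g => mem_centralizer_singleton_iff.mp (hle (mem_top g))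
  · exact Or.inl h

/-- **`O^p` of a join of subnormal subgroups.** -/
theorem opr_sup_eq_of_top {G : Type u} [Group G] [Finite G] [hp : Fact p.Prime] {A B : Subgroup G}
    (hA : A.IsSubnormal) (hB : B.IsSubnormal) (htop : A ⊔ B = ⊤) :
    opr p A ⊔ opr p B = opr p (⊤ : Subgroup G) := by
  generalize hn : Nat.card G = n
  induction n using Nat.strong_induction_on generalizing G with
  | _ n ih =>
    set J := opr p A ⊔ opr p B with hJ
    refine le_antisymm (sup_le (opr_mono le_top) (opr_mono le_top)) ?_
    have hJs : J.IsSubnormal :=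
      SubnormalJoin.isSubnormal_sup (isSubnormal_opr hA) (isSubnormal_opr hB)
    by_cases htriv : Subsingleton G
    · exact fun x _ => by rw [Subsingleton.elim x 1]; exact one_mem _
    haveI := not_subsingleton_iff_nontrivial.1 htriv
    -- modulo a normal subgroup
    have hquot : ∀ M : Subgroup G, M.Normal → M ≠ ⊥ → opr p (⊤ : Subgroup G) ≤ J ⊔ M := by
      intro M hM hMne
      set f := QuotientGroup.mk' M with hf
      have hs : Function.Surjective f := QuotientGroup.mk'_surjective M
      have h1 := ih _ (hn ▸ Supersolvable.card_quotient_lt M hMne) (hA.map hs) (hB.map hs)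
        (by rw [← Subgroup.map_sup, htop, map_top_of_surjective f hs]) rfl
      rw [← map_opr, ← map_opr, ← Subgroup.map_sup, ← hJ, ← map_top_of_surjective f hs,
        ← map_opr] at h1
      have h2 := (le_comap_map f (opr p (⊤ : Subgroup G))).trans_eq (congrArg (comap f) h1.symm)
      rwa [comap_map_eq, QuotientGroup.ker_mk'] at h2
    by_cases hex : ∃ M : Subgroup G, M.Normal ∧ M ≠ ⊥ ∧ M ≤ J
    · obtain ⟨M, hM, hMne, hMJ⟩ := hex
      exact (hquot M hM hMne).trans (sup_le le_rfl hMJ)
    obtain ⟨N, ⟨hNn, hNb⟩, hNmin⟩ := Set.Finite.exists_minimal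
      (Set.toFinite {L : Subgroup G | L.Normal ∧ L ≠ ⊥}) ⟨⊤, inferInstance, top_ne_bot⟩
    haveI := hNn
    have hmin : ∀ L : Subgroup G, L.Normal → L ≤ N → L = ⊥ ∨ L = N := fun L h1 h2 => by
      by_cases h3 : L = ⊥
      · exact Or.inl h3
      · exact Or.inr (le_antisymm h2 (hNmin ⟨h1, h3⟩ h2))
    have hD := hquot N hNn hNb
    have hNJ := SubnormalJoin.minNormal_le_normalizer hNn hmin hJs
    have hrelN : J.relIndex (J ⊔ N) ∣ Nat.card N := by
      have h1 : Nat.card ↥(J ⊔ N) ∣ Nat.card J * Nat.card N := HallCore.card_sup_dvd J N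
      rw [← HallCore.card_mul_relIndex (le_sup_left : J ≤ J ⊔ N)] at h1
      exact (Nat.mul_dvd_mul_iff_left Nat.card_pos).mp h1
    by_cases hNp : IsPGroup p N
    · obtain ⟨i, hi⟩ := hNp.exists_card_eq
      have h1 := opr_le_of_relIndex (p := p) hJs (D := J ⊔ N) (n := i) (hi ▸ hrelN)
      exact (opr_opr (⊤ : Subgroup G)).ge.trans ((opr_mono hD).trans h1)
    have hoprN : opr p N = N := by
      have hn' : (opr p N).Normal := by
        refine normalizer_eq_top_iff.mp (top_le_iff.mp ?_)
        rw [← normalizer_eq_top N]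
        exact normalizer_le_normalizer_opr N
      exact (hmin _ hn' (opr_le N)).resolve_left fun h => hNp (isPGroup_of_opr_eq_bot h)
    exfalso
    rcases minNormal_cases hmin hA hB htop with hW | hcen
    · -- `N` is covered by `A` and `B`
      apply hex
      refine ⟨N, hNn, hNb, ?_⟩
      obtain ⟨S⟩ : Nonempty (Sylow p G) := inferInstance
      set M := opr p (N ⊓ A) ⊔ opr p (N ⊓ B) with hM
      have hsnA := hNn.isSubnormal.inf hA
      have hsnB := hNn.isSubnormal.inf hB
      have hMs : M.IsSubnormal :=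
        SubnormalJoin.isSubnormal_sup (isSubnormal_opr hsnA) (isSubnormal_opr hsnB)
      have hnorm : ∀ C : Subgroup G, C.IsSubnormal →
          N ≤ normalizer ((opr p (N ⊓ C) : Subgroup G) : Set G) := by
        intro C hC
        refine le_trans ?_ (normalizer_le_normalizer_opr (N ⊓ C))
        intro x hx
        refine OrderDSubgroups.mem_normalizer_of_forall fun y hy => mem_inf.mpr ⟨?_, ?_⟩
        · exact mul_mem (mul_mem hx (mem_inf.mp hy).1) (inv_mem hx)
        · exact (mem_normalizer_iff.mp
            (SubnormalJoin.minNormal_le_normalizer hNn hmin hC hx) y).mp (mem_inf.mp hy).2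
      have hSN : (S : Subgroup G) ⊓ N ≤ normalizer (M : Set G) :=
        inf_le_right.trans ((le_inf (hnorm A hA) (hnorm B hB)).trans
          (SubnormalJoin.inf_normalizer_le_normalizer_sup _ _))
      have hNle : N ≤ M ⊔ ((S : Subgroup G) ⊓ N) := by
        conv_lhs => rw [← hW, eq_opr_sup (p := p) S hsnA, eq_opr_sup (p := p) S hsnB]
        refine sup_le (sup_le ?_ ?_) (sup_le ?_ ?_)
        · exact le_sup_of_le_left le_sup_left
        · exact le_sup_of_le_right (inf_le_inf_left _ inf_le_left)
        · exact le_sup_of_le_left le_sup_right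
        · exact le_sup_of_le_right (inf_le_inf_left _ inf_le_left)
      obtain ⟨i, hi⟩ := (S.isPGroup'.to_le (inf_le_left : (S : Subgroup G) ⊓ N ≤ S)).exists_card_eq
      have hdvd : M.relIndex N ∣ p ^ i := by
        have e : N = ((S : Subgroup G) ⊓ N) ⊔ M := by
          refine le_antisymm (hNle.trans_eq (sup_comm _ _)) (sup_le inf_le_right
            (sup_le ((opr_le _).trans inf_le_left) ((opr_le _).trans inf_le_left)))
        nth_rw 1 [e]
        exact hi ▸ relIndex_sup_dvd_card hSN
      have h1 := opr_le_of_relIndex (p := p) hMs hdvd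
      rw [hoprN] at h1
      exact h1.trans (sup_le ((opr_mono inf_le_right).trans le_sup_left)
        ((opr_mono inf_le_right).trans le_sup_right))
    · -- `N` is central of prime order
      set q := (Nat.card N).minFac with hq
      haveI : Fact q.Prime := ⟨Nat.minFac_prime fun h1 => hNb (eq_bot_of_card_eq _ h1)⟩
      have hNq : Nat.card N = q := by
        obtain ⟨x, hx⟩ := exists_prime_orderOf_dvd_card' (G := N) q (Nat.minFac_dvd _)
        have hn' : (zpowers (x : G)).Normal :=
          PGroupsBasic.normal_of_le_center ((zpowers_le).mpr (hcen x.2))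
        rcases hmin _ hn' ((zpowers_le).mpr x.2) with h | h
        · exfalso
          rw [zpowers_eq_bot] at h
          rw [← orderOf_coe, h, orderOf_one] at hx
          exact (Fact.out : q.Prime).one_lt.ne hx
        · rw [← h, Nat.card_zpowers, orderOf_coe, hx]
      have hqp : q.Coprime p := by
        rw [Nat.coprime_primes (Fact.out : q.Prime) hp.out]
        intro e
        exact hNp (IsPGroup.of_card (n := 1) (by rw [hNq, e, pow_one]))
      set D := opr p (⊤ : Subgroup G) ⊔ N with hDdef
      haveI hDn : D.Normal := by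
        haveI : (opr p (⊤ : Subgroup G)).Normal := by
          refine normalizer_eq_top_iff.mp (top_le_iff.mp ?_)
          exact (normalizer_eq_top (⊤ : Subgroup G)).ge.trans (normalizer_le_normalizer_opr ⊤)
        rw [hDdef]
        infer_instance
      have hDJ : D = J ⊔ N :=
        le_antisymm (sup_le hD le_sup_right)
          (sup_le ((sup_le (opr_mono le_top) (opr_mono le_top)).trans le_sup_left) le_sup_right)
      -- `D` is a `q`-group
      have hD0 : opr q D = ⊥ := by
        by_contra hne
        refine hex ⟨opr q D, ?_, hne, ?_⟩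
        · refine normalizer_eq_top_iff.mp (top_le_iff.mp ?_)
          exact (normalizer_eq_top D).ge.trans (normalizer_le_normalizer_opr D)
        · refine opr_le_of_relIndex (p := q) hJs (n := 1) ?_
          rw [pow_one, ← hNq, hDJ]
          exact hrelN
      have hDq : IsPGroup q D := isPGroup_of_opr_eq_bot hD0
      have hcopD : ∀ y ∈ D, (orderOf y).Coprime p := fun y hy => by
        obtain ⟨j, hj⟩ := IsPGroup.iff_orderOf.mp hDq ⟨y, hy⟩
        rw [orderOf_mk] at hj
        rw [hj]
        exact hqp.pow_left j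
      obtain ⟨S⟩ : Nonempty (Sylow p G) := inferInstance
      have hJD : J ≤ D := hDJ ▸ le_sup_left
      have hnorm : ∀ C : Subgroup G, C.IsSubnormal → opr p C ≤ J → C ≤ normalizer (J : Set G) := by
        intro C hC hCJ
        rw [eq_opr_sup (p := p) S hC]
        refine sup_le (hCJ.trans le_normalizer) ?_
        set P := (S : Subgroup G) ⊓ C with hP
        have hPD : P ≤ normalizer (D : Set G) := by rw [normalizer_eq_top]; exact le_top
        have hPp : IsPGroup p P := S.isPGroup'.to_le inf_le_left
        have hcc : (Nat.card P).Coprime (Nat.card D) :=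
          IsPGroup.coprime_card_of_ne p q (fun e => by
            rw [e, Nat.coprime_self] at hqp; exact (Fact.out : q.Prime).one_lt.ne' hqp) P D hPp hDq
        have hcc2 := CoprimeAction.commutator_commutator_eq hPD hcc
          (Or.inl (CoprimeAction.isSolvable_of_isPGroup hPp))
        have hle : ⁅D, P⁆ ≤ C := by
          have hstep : ∀ K : Subgroup G, K.IsSubnormal → P ≤ K → ⁅D, P⁆ ≤ K := by
            intro K hK
            induction hK with
            | top => exact fun _ => le_top
            | step H K h_le hSubn hN ih =>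
              intro hPH
              rw [← hcc2]
              refine (commutator_mono (ih (hPH.trans h_le)) hPH).trans ?_
              rw [commutator_le]
              intro k hk h hh
              have h1 := (normal_subgroupOf_iff_le_normalizer h_le).mp hN hk
              exact mul_mem ((mem_normalizer_iff.mp h1 h).mp hh) (inv_mem hh)
          exact hstep C hC inf_le_right
        intro x hx
        refine OrderDSubgroups.mem_normalizer_of_forall fun y hy => ?_
        have h1 : ⁅y, x⁆ ∈ ⁅D, P⁆ := commutator_mem_commutator (hJD hy) hx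
        have h2 : ⁅y, x⁆ ∈ opr p C :=
          mem_opr (hle h1) (hcopD _ (CoprimeAction.commutator_le_self_of_le_normalizer hPD h1))
        have h3 := mul_mem (inv_mem (hCJ h2)) hy
        convert h3 using 1
        rw [commutatorElement_def]
        group
      have hJn : J.Normal := by
        rw [← normalizer_eq_top_iff, eq_top_iff, ← htop]
        exact sup_le (hnorm A hA le_sup_left) (hnorm B hB le_sup_right)
      by_cases hJb : J = ⊥
      · apply hNp
        have hA1 := eq_opr_sup (p := p) S hA
        have hB1 := eq_opr_sup (p := p) S hB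
        have hJ1 : opr p A = ⊥ ∧ opr p B = ⊥ := by
          rw [hJ] at hJb
          exact sup_eq_bot_iff.mp hJb
        rw [hJ1.1, bot_sup_eq] at hA1
        rw [hJ1.2, bot_sup_eq] at hB1
        refine S.isPGroup'.to_le (le_top.trans ?_)
        rw [← htop, hA1, hB1]
        exact sup_le inf_le_left inf_le_left
      · exact hex ⟨J, hJn, hJb, le_rfl⟩

/-- A `p`-group covered modulo `U` by the image of a smaller one. -/
theorem le_sup_of_map_le {H : Type*} [Group H] (f : G →* H) {Q P U : Subgroup G} (hP : P ≤ Q)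
    (hU : Q ⊓ f.ker ≤ U) (h : Q.map f ≤ P.map f) : Q ≤ P ⊔ U := by
  intro x hx
  obtain ⟨y, hy, hxy⟩ := mem_map.mp (h (mem_map_of_mem f hx))
  have h1 : y⁻¹ * x ∈ Q ⊓ f.ker :=
    mem_inf.mpr ⟨mul_mem (inv_mem (hP hy)) hx,
      MonoidHom.mem_ker.mpr (by rw [map_mul, map_inv, hxy, inv_mul_cancel])⟩
  have h2 := mul_mem ((le_sup_left : P ≤ P ⊔ U) hy) ((le_sup_right : U ≤ P ⊔ U) (hU h1))
  rwa [mul_inv_cancel_left] at h2

/-- A group generated by elements of order prime to `p` has no proper central complement of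
order `p` to a subgroup of a Sylow subgroup. -/
theorem no_central_split {G : Type u} [Group G] [Finite G] [hp : Fact p.Prime] (S : Sylow p G)
    (htop : opr p (⊤ : Subgroup G) = ⊤) {N R : Subgroup G} (hN : N ≤ center G)
    (hNc : Nat.card N = p) (hNS : N ≤ (S : Subgroup G)) (hR : R ≤ (S : Subgroup G))
    (hsup : (S : Subgroup G) ≤ R ⊔ N) : N ≤ R := by
  by_contra hne
  obtain ⟨n, hn, hnR⟩ := SetLike.not_le_iff_exists.mp hne
  set R' := R.subgroupOf (S : Subgroup G) with hR'
  have hSR : (S : Subgroup G) ≤ normalizer (R : Set G) := by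
    refine hsup.trans (sup_le le_normalizer fun z hz => ?_)
    refine OrderDSubgroups.mem_normalizer_of_forall fun r hr => ?_
    rw [← mem_center_iff.mp (hN hz) r, mul_inv_cancel_right]
    exact hr
  haveI : R'.Normal := normal_subgroupOf_of_le_normalizer hSR
  set f := QuotientGroup.mk' R' with hf
  have hgen : ∀ q : (S : Subgroup G) ⧸ R', q ∈ center ((S : Subgroup G) ⧸ R') := by
    intro q
    obtain ⟨⟨s, hs⟩, rfl⟩ := QuotientGroup.mk'_surjective R' q
    haveI : N.Normal := PGroupsBasic.normal_of_le_center hN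
    obtain ⟨r, hr, z, hz, hrz⟩ := mem_sup_of_normal_right.mp (hsup hs)
    have e : f ⟨s, hs⟩ = f ⟨z, hNS hz⟩ := by
      have h1 : (⟨s, hs⟩ : (S : Subgroup G)) = ⟨r, hR hr⟩ * ⟨z, hNS hz⟩ := Subtype.ext hrz.symm
      have h2 : f ⟨r, hR hr⟩ = 1 := by
        rw [← MonoidHom.mem_ker, hf, QuotientGroup.ker_mk']
        exact mem_subgroupOf.mpr hr
      rw [h1, map_mul, h2, one_mul]
    rw [e, mem_center_iff]
    intro w
    obtain ⟨⟨w, hw⟩, rfl⟩ := QuotientGroup.mk'_surjective R' w
    rw [← map_mul, ← map_mul]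
    exact congrArg f (Subtype.ext (mem_center_iff.mp (hN hz) w))
  letI : CommGroup ((S : Subgroup G) ⧸ R') :=
    { (inferInstance : Group ((S : Subgroup G) ⧸ R')) with
      mul_comm := fun a b => (mem_center_iff.mp (hgen a) b).symm }
  set τ : G →* (S : Subgroup G) ⧸ R' := MonoidHom.transfer f with hτ
  have h1 : τ n = f ⟨n, hNS hn⟩ ^ (S : Subgroup G).index := by
    rw [hτ, MonoidHom.transfer_eq_pow f n (fun k g₀ _ => by
      rw [mul_assoc, ← mem_center_iff.mp (pow_mem (hN hn) k) g₀, inv_mul_cancel_left]), ← map_pow]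
    rfl
  have hp' : IsPGroup p ((S : Subgroup G) ⧸ R') := S.isPGroup'.to_quotient R'
  have h2 : τ n = 1 := by
    have hker : (⊤ : Subgroup G) ≤ τ.ker := by
      rw [← htop]
      refine (closure_le _).mpr fun x hx => ?_
      obtain ⟨j, hj⟩ := IsPGroup.iff_orderOf.mp hp' (τ x)
      exact MonoidHom.mem_ker.mpr (orderOf_eq_one_iff.mp (Nat.eq_one_of_dvd_coprimes
        (hx.2.pow_right j) (orderOf_map_dvd τ x) hj.dvd))
    exact hker (mem_top n)
  rw [h1] at h2
  have h3 : orderOf (f ⟨n, hNS hn⟩) ∣ (S : Subgroup G).index := orderOf_dvd_of_pow_eq_one h2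
  have h4 : orderOf (f ⟨n, hNS hn⟩) ∣ p := by
    refine (orderOf_map_dvd f _).trans ?_
    rw [orderOf_mk, ← hNc, ← orderOf_mk n hn]
    exact orderOf_dvd_natCard _
  rcases (Nat.dvd_prime hp.out).mp h4 with h5 | h5
  · rw [orderOf_eq_one_iff, ← MonoidHom.mem_ker, hf, QuotientGroup.ker_mk', mem_subgroupOf] at h5
    exact hnR h5
  · rw [h5] at h3
    exact S.not_dvd_index h3

/-- **Sylow subgroups of a join of subnormal subgroups.** -/
theorem sup_inf_sylow {G : Type u} [Group G] [Finite G] [hp : Fact p.Prime] (S : Sylow p G)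
    {A B : Subgroup G} (hA : A.IsSubnormal) (hB : B.IsSubnormal) :
    (A ⊔ B) ⊓ (S : Subgroup G) = (A ⊓ (S : Subgroup G)) ⊔ (B ⊓ (S : Subgroup G)) := by
  refine le_antisymm ?_ (sup_le (inf_le_inf_right _ le_sup_left) (inf_le_inf_right _ le_sup_right))
  generalize hn : Nat.card G = n
  induction n using Nat.strong_induction_on generalizing G with
  | _ n ih =>
    set R := (A ⊓ (S : Subgroup G)) ⊔ (B ⊓ (S : Subgroup G)) with hR
    have hRS : R ≤ (S : Subgroup G) := sup_le inf_le_right inf_le_right
    -- inside a proper subnormal subgroup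
    have hsub : ∀ (K A' B' : Subgroup G), K.IsSubnormal → K ≠ ⊤ → A'.IsSubnormal →
        B'.IsSubnormal → A' ≤ K → B' ≤ K →
        (A' ⊔ B') ⊓ (S : Subgroup G) ≤ (A' ⊓ (S : Subgroup G)) ⊔ (B' ⊓ (S : Subgroup G)) := by
      intro K A' B' hK hKne hA' hB' hA'K hB'K
      have h1 : IsPGroup p ((S : Subgroup G).subgroupOf K) := S.isPGroup'.comap_subtype
      have h2 : ¬ p ∣ ((S : Subgroup G).subgroupOf K).index := by
        rw [← inf_subgroupOf_right]
        exact not_dvd_relIndex_inf S hK
      have h3 := ih _ (hn ▸ lt_of_le_of_ne (card_le_card_group K) fun e =>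
        hKne (eq_top_of_card_eq K e)) (h1.toSylow h2) (hA'.subgroupOf (K := K))
        (hB'.subgroupOf (K := K)) rfl
      rw [IsPGroup.toSylow_coe] at h3
      intro x hx
      obtain ⟨hx1, hx2⟩ := mem_inf.mp hx
      have hxK : x ∈ K := sup_le hA'K hB'K hx1
      have h4 := h3 (show (⟨x, hxK⟩ : K) ∈ _ from mem_inf.mpr ⟨by
        rw [← subgroupOf_sup hA'K hB'K]; exact mem_subgroupOf.mpr hx1, mem_subgroupOf.mpr hx2⟩)
      have h5 := mem_map_of_mem K.subtype h4
      rw [Subgroup.map_sup, map_inf _ _ _ K.subtype_injective, map_inf _ _ _ K.subtype_injective,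
        map_subgroupOf_eq_of_le hA'K, map_subgroupOf_eq_of_le hB'K, subgroupOf_map_subtype] at h5
      exact (sup_le_sup (inf_le_inf_left A' inf_le_left) (inf_le_inf_left B' inf_le_left) :
        _ ≤ (A' ⊓ (S : Subgroup G)) ⊔ (B' ⊓ (S : Subgroup G))) h5
    by_cases htop : A ⊔ B = ⊤
    swap
    · exact hsub _ A B (SubnormalJoin.isSubnormal_sup hA hB) htop hA hB le_sup_left le_sup_right
    rw [htop, top_inf_eq]
    set D := opr p (⊤ : Subgroup G) with hD
    haveI hDn : D.Normal := by
      refine normalizer_eq_top_iff.mp (top_le_iff.mp ?_)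
      exact (normalizer_eq_top (⊤ : Subgroup G)).ge.trans (normalizer_le_normalizer_opr ⊤)
    have hDe := opr_sup_eq_of_top (p := p) hA hB htop
    by_cases hDtop : D = ⊤
    swap
    · have h1 := hsub D _ _ hDn.isSubnormal hDtop (isSubnormal_opr hA) (isSubnormal_opr hB)
        (opr_mono le_top) (opr_mono le_top)
      rw [hDe, ← hD] at h1
      have h1' : D ⊓ (S : Subgroup G) ≤ R :=
        h1.trans (sup_le_sup (inf_le_inf_right _ (opr_le A)) (inf_le_inf_right _ (opr_le B)))
      intro s hs
      have hG : (⊤ : Subgroup G) ≤ R ⊔ D := by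
        conv_lhs => rw [← htop, eq_opr_sup (p := p) S hA, eq_opr_sup (p := p) S hB]
        refine sup_le (sup_le ?_ ?_) (sup_le ?_ ?_)
        · exact (opr_mono le_top).trans le_sup_right
        · rw [inf_comm]; exact le_sup_of_le_left le_sup_left
        · exact (opr_mono le_top).trans le_sup_right
        · rw [inf_comm]; exact le_sup_of_le_left le_sup_right
      obtain ⟨r, hr, d, hd, hrd⟩ := mem_sup_of_normal_right.mp (hG (mem_top s))
      have h2 : d ∈ D ⊓ (S : Subgroup G) := by
        refine mem_inf.mpr ⟨hd, ?_⟩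
        have h3 := mul_mem (inv_mem (hRS hr)) hs
        rwa [← hrd, inv_mul_cancel_left] at h3
      rw [← hrd]
      exact mul_mem hr (h1' h2)
    by_cases htriv : Subsingleton G
    · exact fun x _ => by rw [Subsingleton.elim x 1]; exact one_mem _
    haveI := not_subsingleton_iff_nontrivial.1 htriv
    obtain ⟨N, ⟨hNn, hNb⟩, hNmin⟩ := Set.Finite.exists_minimal
      (Set.toFinite {L : Subgroup G | L.Normal ∧ L ≠ ⊥}) ⟨⊤, inferInstance, top_ne_bot⟩
    haveI := hNn
    have hmin : ∀ L : Subgroup G, L.Normal → L ≤ N → L = ⊥ ∨ L = N := fun L h1 h2 => by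
      by_cases h3 : L = ⊥
      · exact Or.inl h3
      · exact Or.inr (le_antisymm h2 (hNmin ⟨h1, h3⟩ h2))
    set f := QuotientGroup.mk' N with hf
    have hs : Function.Surjective f := QuotientGroup.mk'_surjective N
    -- modulo `N`
    have hSle : (S : Subgroup G) ≤ R ⊔ ((S : Subgroup G) ⊓ N) := by
      refine le_sup_of_map_le f hRS (by rw [hf, QuotientGroup.ker_mk']) ?_
      have h1 := ih _ (hn ▸ Supersolvable.card_quotient_lt N hNb) (S.mapSurjective hs)
        (hA.map hs) (hB.map hs) rfl
      rw [← Subgroup.map_sup, htop, map_top_of_surjective f hs, top_inf_eq,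
        Sylow.coe_mapSurjective] at h1
      refine h1.trans ?_
      have e : ∀ C : Subgroup G, C.IsSubnormal →
          C.map f ⊓ (S : Subgroup G).map f = (C ⊓ (S : Subgroup G)).map f := by
        intro C hC
        have h2 := map_inf_sylow f hC S (Q := C.map f ⊓ (S : Subgroup G).map f)
          ((S.isPGroup'.map f).to_le inf_le_right) inf_le_left
          (le_inf (map_mono inf_le_right) (map_mono inf_le_left))
        rwa [inf_comm (S : Subgroup G) C] at h2
      rw [e A hA, e B hB, ← Subgroup.map_sup]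
    suffices hSN : (S : Subgroup G) ⊓ N ≤ R from hSle.trans (sup_le le_rfl hSN)
    rcases minNormal_cases hmin hA hB htop with hW | hcen
    · -- `N` is covered by `A` and `B`
      have hsnA := hNn.isSubnormal.inf hA
      have hsnB := hNn.isSubnormal.inf hB
      set U := N ⊓ A with hU
      set V := N ⊓ B with hV
      haveI : (U.subgroupOf N).Normal := normal_subgroupOf_of_le_normalizer (fun x hx =>
        OrderDSubgroups.mem_normalizer_of_forall fun y hy => mem_inf.mpr
          ⟨mul_mem (mul_mem hx (mem_inf.mp hy).1) (inv_mem hx),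
            (mem_normalizer_iff.mp (SubnormalJoin.minNormal_le_normalizer hNn hmin hA hx) y).mp
              (mem_inf.mp hy).2⟩)
      set g := QuotientGroup.mk' (U.subgroupOf N) with hg
      have h1 : IsPGroup p ((S : Subgroup G).subgroupOf N) := S.isPGroup'.comap_subtype
      have h2 : ¬ p ∣ ((S : Subgroup G).subgroupOf N).index := by
        rw [← inf_subgroupOf_right]
        exact not_dvd_relIndex_inf S hNn.isSubnormal
      set T := h1.toSylow h2 with hT
      have hTc : (T : Subgroup N) = (S : Subgroup G).subgroupOf N := IsPGroup.toSylow_coe _ _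
      have hVtop : (V.subgroupOf N).map g = ⊤ := by
        have h3 : U.subgroupOf N ⊔ V.subgroupOf N = ⊤ := by
          rw [← subgroupOf_sup inf_le_left inf_le_left, hW, subgroupOf_self]
        have h4 := congrArg (Subgroup.map g) h3
        rwa [Subgroup.map_sup, (Subgroup.map_eq_bot_iff _).mpr (QuotientGroup.ker_mk' _).ge,
          bot_sup_eq, map_top_of_surjective g (QuotientGroup.mk'_surjective _)] at h4
      have h5 : (T : Subgroup N) ≤ ((T : Subgroup N) ⊓ V.subgroupOf N) ⊔
          ((T : Subgroup N) ⊓ U.subgroupOf N) := by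
        refine le_sup_of_map_le g inf_le_left (by rw [hg, QuotientGroup.ker_mk']) ?_
        exact (map_inf_sylow g (hsnB.subgroupOf (K := N)) T (T.isPGroup'.map g)
          (by rw [hVtop]; exact le_top) (map_mono inf_le_left)).le
      have h6 := map_mono (f := N.subtype) h5
      rw [hTc, Subgroup.map_sup, map_inf _ _ _ N.subtype_injective,
        map_inf _ _ _ N.subtype_injective, subgroupOf_map_subtype, subgroupOf_map_subtype,
        subgroupOf_map_subtype] at h6
      refine h6.trans (sup_le ?_ ?_)
      · refine le_sup_of_le_right (le_inf ?_ (inf_le_left.trans inf_le_left))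
        exact inf_le_right.trans (inf_le_left.trans inf_le_right)
      · refine le_sup_of_le_left (le_inf ?_ (inf_le_left.trans inf_le_left))
        exact inf_le_right.trans (inf_le_left.trans inf_le_right)
    · -- `N` is central
      by_cases hbot : (S : Subgroup G) ⊓ N = ⊥
      · rw [hbot]; exact bot_le
      obtain ⟨x, hx, hxo⟩ := PGroupsBasic.exists_orderOf_eq_of_ne_bot
        (S.isPGroup'.to_le (inf_le_left : (S : Subgroup G) ⊓ N ≤ S)) hbot
      have hn' : (zpowers x).Normal :=
        PGroupsBasic.normal_of_le_center ((zpowers_le).mpr (hcen (mem_inf.mp hx).2))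
      have hxN : zpowers x = N := by
        refine (hmin _ hn' ((zpowers_le).mpr (mem_inf.mp hx).2)).resolve_left fun h => ?_
        rw [zpowers_eq_bot] at h
        rw [h, orderOf_one] at hxo
        exact hp.out.one_lt.ne hxo
      have hNS : N ≤ (S : Subgroup G) := hxN ▸ (zpowers_le).mpr (mem_inf.mp hx).1
      refine inf_le_right.trans (no_central_split S hDtop hcen ?_ hNS hRS ?_)
      · rw [← hxN, Nat.card_zpowers, hxo]
      · exact hSle.trans (sup_le_sup le_rfl inf_le_right)

end Cfsg.Agent.SubnormalResidual
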