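import Mathlib
import Cfsg.Agent.Lib.BaumannSubnormal58Pairs
import Cfsg.Agent.Lib.BlockNormal16Offender
import Cfsg.Agent.Lib.SubnormalResidual

/-!
# Subnormal blocks: conjugates, and the Thompson subgroups fix every subnormal block
-/

set_option autoImplicit false
set_option linter.style.haveILetI false

namespace Cfsg.Agent.BlockNormal16

open Subgroup Cfsg BaumannBlockBasics BaumannBlockStructure BaumannSubnormal58
open scoped commutatorElement

variable {G : Type*} [Group G] [Finite G] {p : ℕ} [Fact p.Prime] {E : Subgroup G}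

/-- What is used about a subnormal block. -/
structure SBlk (p : ℕ) (E : Subgroup G) : Prop where
  char : centralizer (pCore p G : Set G) ≤ pCore p G
  blk : Blk p E
  sub : E.IsSubnormal
  comm : ∀ g : G, g ∉ normalizer (E : Set G) →
    ∀ x ∈ E, ∀ y ∈ E, (g * x * g⁻¹) * y = y * (g * x * g⁻¹)

theorem sblk_of_block (hG : centralizer (pCore p G : Set G) ≤ pCore p G) {T : Sylow p G}
    (hE : IsBaumannBlock p (T : Subgroup G) E) (hs : E.IsSubnormal) : SBlk p E := by
  refine ⟨hG, blk_of_block hG hE, hs, fun g hg => ?_⟩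
  set F := E.map (MulAut.conj g).toMonoidHom with hF
  have bE := blk_of_block hG hE
  have bF : Blk p F := blk_map (MulAut.conj g) bE
  have hFs : F.IsSubnormal := hs.map (MulAut.conj g).surjective
  have hER := LocalBasics.pCoreOf_le_of_subnormal p hs
  have hFR := LocalBasics.pCoreOf_le_of_subnormal p hFs
  have hcom : ⁅E.map (QuotientGroup.mk' (pCore p G)), F.map (QuotientGroup.mk' (pCore p G))⁆ = ⊥ →
      E = F ∨ ⁅E, F⁆ = ⊥ := fun h => by
    refine eq_or_commute_of_commutator_le hG bE bF hFR hER ?_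
    rwa [← map_commutator, Subgroup.map_eq_bot_iff, QuotientGroup.ker_mk'] at h
  have key : E = F ∨ ⁅E, F⁆ = ⊥ := by
    rcases block_type hE with qE | ⟨sE, -⟩
    · have qF : IsQuasisimple (↥F ⧸ pCore p ↥F) := by
        let e : ↥E ≃* ↥F := E.equivMapOfInjective _ (MulAut.conj g).injective
        exact ComponentsBasic.isQuasisimple_of_mulEquiv
          (QuotientGroup.congr _ _ e (HallCore.map_equiv_pCore (p := p) e)) qE
      rcases ComponentsBasic.component_le_or_commute (component_map hs qE)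
          (hFs.map (QuotientGroup.mk'_surjective (pCore p G))) with h | h
      · have he := ComponentsBasic.component_eq_of_le (component_map hs qE) (component_map hFs qF) h
        rw [Subgroup.map_eq_map_iff, QuotientGroup.ker_mk'] at he
        exact Or.inl (le_antisymm (le_of_le_sup bF.nR bE.res (le_sup_left.trans he.le))
          (le_of_le_sup bE.nR bF.res (le_sup_left.trans he.ge)))
      · exact hcom h
    · exact small_pair hG _ E F bE bF sE (small_map _ sE) hs hFs rfl
  rcases key with h | h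
  · exfalso
    refine hg (Subgroup.mem_normalizer_fintype fun x hx => ?_)
    have : g * x * g⁻¹ ∈ F := ⟨x, hx, rfl⟩
    rwa [← h] at this
  · intro x hx y hy
    rw [commutator_eq_bot_iff_le_centralizer] at h
    exact (h hy (g * x * g⁻¹) ⟨x, hx, rfl⟩)

theorem wE_le_E (h : Blk p E) : wE p E ≤ E :=
  (BaumannSubnormal58.wE_le h).trans ((wo_le E).trans (qo_le E))

/-- A conjugate of an element of `W_E` by an element outside `N(E)` is centralised by `E`. -/
theorem conj_mem_centralizer (h : SBlk p E) {g : G} (hg : g ∉ normalizer (E : Set G)) {w : G}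
    (hw : w ∈ wE p E) : g * w * g⁻¹ ∈ centralizer (E : Set G) := fun e he =>
  (h.comm g hg w (wE_le_E h.blk hw) e he).symm

theorem wE_not_le_centralizer (h : SBlk p E) : ¬ wE p E ≤ centralizer (E : Set G) := by
  intro hc
  have h0 : wE p E = ⊥ := by
    rw [← wE_idem h.blk, commutator_eq_bot_iff_le_centralizer]; exact hc
  refine h.blk.notP ((qo_pGroup E).to_le fun e he => BaumannSubnormal58.mem_core_of_centralizes h.blk he ?_)
  intro v hv
  rw [h0, mem_bot] at hv
  rw [hv, mul_one, one_mul]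

/-- An element of `N(E)` moving `W_E` only inside `C(E)` centralises `W_E`. -/
theorem centralizes_wE (h : SBlk p E) {b : G} (hb : b ∈ normalizer (E : Set G))
    (hw : ∀ w ∈ wE p E, ⁅b, w⁆ ∈ centralizer (E : Set G)) : ∀ w ∈ wE p E, b * w = w * b := by
  have hN : zpowers b ≤ normalizer (E : Set G) := zpowers_le.2 hb
  have hbW : b ∈ normalizer (Wo p E : Set G) := le_normalizer_omega hN (mem_zpowers b)
  have hbZ : b ∈ normalizer (Zo p E : Set G) :=
    LocalBasics.le_normalizer_inf (le_normalizer_omega hN)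
      (LocalBasics.le_normalizer_centralizer hN) (mem_zpowers b)
  have hbc : b ∈ cent (Wo p E) (Zo p E) := ⟨hbW, hbZ, fun w hw' => by
    obtain ⟨a, ha, z, hz, rfl⟩ := exists_decomp h.blk hw'
    have h1 : ⁅b, a⁆ ∈ Zo p E :=
      ⟨commutatorElement_mem hbW (BaumannSubnormal58.wE_le h.blk ha), hw a ha⟩
    have h2 : ⁅b, z⁆ ∈ Zo p E := commutatorElement_mem hbZ hz
    have e : ⁅b, a * z⁆ = ⁅b, a⁆ * (a * ⁅b, z⁆ * a⁻¹) := by
      simp only [commutatorElement_def]; group
    rw [e, omega_comm p _ (BaumannSubnormal58.wE_le h.blk ha) h2.1, mul_inv_cancel_right]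
    exact mul_mem h1 h2⟩
  have hle : wE p E ≤ centralizer ({b} : Set G) := by
    refine commutator_le.2 fun w hw' e he => mem_centralizer_singleton_iff.2 ?_
    have hq : b * e * b⁻¹ * e⁻¹ ∈ Qo p E := by
      refine h.blk.natW.ker _ (mul_mem (conj_mem' hb he) (inv_mem he)) fun v hv => ?_
      have hm : b * e * b⁻¹ * e⁻¹ ∈ cent (Wo p E) (Zo p E) := by
        have h1 := LocalBasics.conj_mem_of_le_normalizer
          (le_normalizer_cent h.blk.natW.norm le_normalizer_cz) he (inv_mem hbc)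
        have := mul_mem hbc h1
        simpa [mul_assoc] using this
      exact hm.2.2 v hv
    set q := b * e * b⁻¹ * e⁻¹ with hqdef
    set z := w⁻¹ * (b * w * b⁻¹) with hzdef
    have hz : z ∈ Zo p E := by
      have h1 := hbc.2.2 w hw'
      have e1 : z = w⁻¹ * ⁅b, w⁆ * w := by rw [hzdef, commutatorElement_def]; group
      rw [e1, mul_assoc, omega_comm p _ h1.1 hw', inv_mul_cancel_left]
      exact h1
    have hwz : w * z ∈ Wo p E := mul_mem hw' hz.1
    have e2 : b * ⁅w, e⁆ * b⁻¹ = ⁅w * z, q * e⁆ := by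
      rw [hzdef, hqdef]; simp only [commutatorElement_def]; group
    have e3 : ⁅w * z, e⁆ = ⁅w, e⁆ := by
      have h1 : z * e * z⁻¹ = e := by rw [← hz.2 e he, mul_inv_cancel_right]
      rw [commutatorElement_def, commutatorElement_def, mul_inv_rev]
      calc w * z * e * (z⁻¹ * w⁻¹) * e⁻¹ = w * (z * e * z⁻¹) * w⁻¹ * e⁻¹ := by group
        _ = _ := by rw [h1]
    have e4 : ⁅w * z, q * e⁆ = ⁅w * z, q⁆ * (q * ⁅w * z, e⁆ * q⁻¹) := by
      simp only [commutatorElement_def]; group
    have hwe : ⁅w, e⁆ ∈ Wo p E := BaumannSubnormal58.wE_le h.blk (commutator_mem_commutator hw' he)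
    rw [e4, commutatorElement_eq_one_iff_mul_comm.2 (wo_commute E hwz hq).symm, one_mul, e3,
      wo_commute E hwe hq, mul_inv_cancel_right] at e2
    exact (mul_inv_eq_iff_eq_mul.1 e2).symm
  exact fun w hw' => (mem_centralizer_singleton_iff.1 (hle hw')).symm

/-- A largest elementary abelian subgroup fixes every subnormal block. -/
theorem max_le_normalizer (h : SBlk p E) {A : Subgroup G}
    (hA : A ∈ maxElementaryAbelianSubgroups p G) : A ≤ normalizer (E : Set G) := by
  classical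
  by_contra hAN
  set S : Set G := {x | ∃ a ∈ A, ∃ w ∈ wE p E, a * w * a⁻¹ = x} with hS
  set V := closure S with hV
  have hVo : V ≤ Vo p G := (closure_le _).2 (by
    rintro _ ⟨a, -, w, hw, rfl⟩
    exact conj_mem' (le_normalizer_vo ⊤ (mem_top a)) (wE_le_vo h.char h.blk hw))
  have hVea : IsElementaryAbelian p V := Offenders.ea_mono
    (Offenders.omegaOne_ea (K := pCore p G ⊓ centralizer (pCore p G : Set G))
      fun x hx y hy => hy.2 x hx.1) hVo
  have hVc := ((Offenders.ea_iff V).1 hVea).1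
  have hAV : A ≤ normalizer (V : Set G) := by
    refine LocalBasics.le_normalizer_of_conj fun a ha v hv => ?_
    have hle : V ≤ V.comap (MulAut.conj a).toMonoidHom := by
      refine (closure_le _).2 ?_
      rintro _ ⟨a', ha', w, hw, rfl⟩
      exact subset_closure ⟨a * a', mul_mem ha ha', w, hw, by simp [mul_assoc]⟩
    exact hle hv
  have hWV : wE p E ≤ V := fun w hw => subset_closure ⟨1, one_mem A, w, hw, by simp⟩
  have hmoved : ∀ {g : G}, g ∉ normalizer (E : Set G) → ∀ {w : G}, w ∈ wE p E →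
      g * w = w * g → w ∈ centralizer (E : Set G) := fun {g} hg {w} hw hc => by
    have := conj_mem_centralizer h hg hw
    rwa [hc, mul_inv_cancel_right] at this
  obtain ⟨a₀, ha₀, ha₀N⟩ := SetLike.not_le_iff_exists.1 hAN
  have hne : ¬ A ≤ centralizer (V : Set G) := fun hc => wE_not_le_centralizer h fun w hw =>
    hmoved ha₀N hw (hc ha₀ w (hWV hw)).symm
  obtain ⟨b, hb, hbV, hbc⟩ := exists_quadratic hA hVea hAV hne
  have hcA : ∀ {x y : G}, x ∈ A → y ∈ A → x * y = y * x := fun hx hy => comm_of_max hA hx hy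
  -- an element of `A ∩ N(E)` centralising `W_E` centralises `V`
  have hcV : ∀ c ∈ A, (∀ w ∈ wE p E, c * w = w * c) → c ∈ centralizer (V : Set G) := by
    intro c hc hcw
    have hle : V ≤ centralizer ({c} : Set G) := by
      refine (closure_le _).2 ?_
      rintro _ ⟨a, ha, w, hw, rfl⟩
      refine mem_centralizer_singleton_iff.2 ?_
      calc a * w * a⁻¹ * c = a * w * (a⁻¹ * c) := by group
        _ = a * w * (c * a⁻¹) := by rw [hcA (inv_mem ha) hc]
        _ = a * (c * w) * a⁻¹ := by rw [hcw w hw]; group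
        _ = c * (a * w * a⁻¹) := by rw [← mul_assoc, hcA ha hc]; group
    intro v hv
    exact (mem_centralizer_singleton_iff.1 (hle hv))
  have hbN : b ∉ normalizer (E : Set G) := by
    intro hbN
    refine hbV (hcV b hb (centralizes_wE h hbN fun w hw => ?_))
    have h1 : b * ⁅a₀, w⁆ * b⁻¹ = ⁅a₀, w⁆ := by rw [hbc a₀ ha₀ w (hWV hw), mul_inv_cancel_right]
    have hbw : ⁅b, w⁆ ∈ wE p E :=
      commutatorElement_mem (le_normalizer_wE (zpowers_le.2 hbN) (mem_zpowers b)) hw
    have hv1 : a₀ * w * a₀⁻¹ ∈ V := subset_closure ⟨a₀, ha₀, w, hw, rfl⟩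
    have h2 : ⁅b, w⁆ = a₀ * ⁅b, w⁆ * a₀⁻¹ := by
      have e1 : b * ⁅a₀, w⁆ * b⁻¹ = (a₀ * ⁅b, w⁆ * a₀⁻¹) * (a₀ * w * a₀⁻¹) * (⁅b, w⁆ * w)⁻¹ := by
        have hc1 := hcA hb ha₀
        calc b * ⁅a₀, w⁆ * b⁻¹ = ((b * a₀) * w * (b * a₀)⁻¹) * (b * w * b⁻¹)⁻¹ := by
              simp only [commutatorElement_def]; group
          _ = ((a₀ * b) * w * (a₀ * b)⁻¹) * (b * w * b⁻¹)⁻¹ := by rw [hc1]
          _ = _ := by simp only [commutatorElement_def]; group
      rw [h1] at e1
      have hu : a₀ * ⁅b, w⁆ * a₀⁻¹ ∈ V := subset_closure ⟨a₀, ha₀, _, hbw, rfl⟩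
      have e2 : ⁅a₀, w⁆ = (a₀ * ⁅b, w⁆ * a₀⁻¹) * ⁅b, w⁆⁻¹ * ⁅a₀, w⁆ := by
        calc ⁅a₀, w⁆ = (a₀ * ⁅b, w⁆ * a₀⁻¹) * (a₀ * w * a₀⁻¹) * (⁅b, w⁆ * w)⁻¹ := e1
          _ = (a₀ * ⁅b, w⁆ * a₀⁻¹) * ((a₀ * w * a₀⁻¹) * w⁻¹ * ⁅b, w⁆⁻¹) := by group
          _ = (a₀ * ⁅b, w⁆ * a₀⁻¹) * (⁅b, w⁆⁻¹ * ((a₀ * w * a₀⁻¹) * w⁻¹)) := by
            rw [hVc _ (mul_mem hv1 (inv_mem (hWV hw))) _ (inv_mem (hWV hbw))]
          _ = _ := by simp only [commutatorElement_def]; group
      exact (mul_inv_eq_one.1 (by simpa using e2)).symm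
    rw [h2]
    exact conj_mem_centralizer h ha₀N hbw
  have hb2 : b * b ∈ normalizer (E : Set G) := by
    by_contra hb2
    refine wE_not_le_centralizer h fun w hw => ?_
    have hv1 : b * w * b⁻¹ ∈ V := subset_closure ⟨b, hb, w, hw, rfl⟩
    have h1 : b * ⁅b, w⁆ * b⁻¹ = ⁅b, w⁆ := by rw [hbc b hb w (hWV hw), mul_inv_cancel_right]
    have e : ((b * b) * w * (b * b)⁻¹) * (b * w * b⁻¹)⁻¹ = (b * w * b⁻¹) * w⁻¹ := by
      rw [← commutatorElement_def b w, ← h1]; simp only [commutatorElement_def]; group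
    have e2 : w = (((b * b) * w * (b * b)⁻¹) * (b * w * b⁻¹)⁻¹ * (b * w * b⁻¹)⁻¹)⁻¹ := by
      rw [e, hVc _ hv1 _ (inv_mem (hWV hw))]; group
    rw [e2]
    exact inv_mem (mul_mem (mul_mem (conj_mem_centralizer h hb2 hw)
      (inv_mem (conj_mem_centralizer h hbN hw))) (inv_mem (conj_mem_centralizer h hbN hw)))
  have hp2 : p = 2 := by
    rcases (Fact.out : p.Prime).eq_two_or_odd with h2 | h2
    · exact h2
    exfalso
    apply hbN
    have hbp : b ^ p = 1 := ((Offenders.ea_iff A).1 hA.1).2 b hb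
    have : b = (b * b) ^ ((p + 1) / 2) := by
      rw [← pow_two, ← pow_mul, show 2 * ((p + 1) / 2) = p + 1 by omega, pow_succ, hbp, one_mul]
    rw [this]
    exact pow_mem hb2 _
  have hcover : ∀ a ∈ A, a ∉ normalizer (E : Set G) → b * a ∈ normalizer (E : Set G) := by
    intro a ha haN
    by_contra hba
    refine wE_not_le_centralizer h fun w hw => ?_
    have hv1 : a * w * a⁻¹ ∈ V := subset_closure ⟨a, ha, w, hw, rfl⟩
    have h1 : b * ⁅a, w⁆ * b⁻¹ = ⁅a, w⁆ := by rw [hbc a ha w (hWV hw), mul_inv_cancel_right]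
    have e : ((b * a) * w * (b * a)⁻¹) * (b * w * b⁻¹)⁻¹ = (a * w * a⁻¹) * w⁻¹ := by
      rw [← commutatorElement_def a w, ← h1]; simp only [commutatorElement_def]; group
    have e2 : w = (((b * a) * w * (b * a)⁻¹) * (b * w * b⁻¹)⁻¹ * (a * w * a⁻¹)⁻¹)⁻¹ := by
      rw [e, hVc _ hv1 _ (inv_mem (hWV hw))]; group
    rw [e2]
    exact inv_mem (mul_mem (mul_mem (conj_mem_centralizer h hba hw)
      (inv_mem (conj_mem_centralizer h hbN hw))) (inv_mem (conj_mem_centralizer h haN hw)))
  have hker : A ⊓ normalizer (E : Set G) ≤ A ⊓ centralizer (V : Set G) := fun c hc => by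
    refine ⟨hc.1, hcV c hc.1 (centralizes_wE h hc.2 fun w hw => ?_)⟩
    have hcw : ⁅c, w⁆ ∈ wE p E :=
      commutatorElement_mem (le_normalizer_wE (zpowers_le.2 hc.2) (mem_zpowers c)) hw
    have h1 := conj_mem_centralizer h hbN hcw
    rwa [hbc c hc.1 w (hWV hw), mul_inv_cancel_right] at h1
  set N := A ⊓ centralizer (V : Set G) with hN
  have hidx : Nat.card ↥A ≤ 2 * Nat.card ↥N := by
    have hNA : A ⊓ normalizer (E : Set G) ≤ A := inf_le_left
    have h1 := HallCore.card_mul_relIndex hNA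
    have h2 : ((A ⊓ normalizer (E : Set G)).subgroupOf A).index = 2 := by
      rw [index_eq_two_iff]
      refine ⟨⟨b, hb⟩, fun x => ?_⟩
      by_cases hx : (x : G) ∈ normalizer (E : Set G)
      · refine Or.inr ⟨?_, fun hxb => hbN ?_⟩
        · exact ⟨x.2, hx⟩
        · have := mul_mem (inv_mem hx) (mem_inf.1 hxb).2
          simpa [mul_assoc] using this
      · refine Or.inl ⟨⟨mul_mem x.2 hb, ?_⟩, fun hx' => hx (mem_inf.1 hx').2⟩
        show (x : G) * b ∈ normalizer (E : Set G)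
        rw [hcA x.2 hb]
        exact hcover x x.2 hx
    rw [show (A ⊓ normalizer (E : Set G)).relIndex A = 2 from h2] at h1
    rw [← h1, mul_comm]
    exact Nat.mul_le_mul_left _ (Subgroup.card_le_of_le hker)
  set C := V ⊓ centralizer (A : Set G) with hC
  have hVN : V ≤ V ⊓ centralizer (N : Set G) := le_inf le_rfl fun v hv x hx => (hx.2 v hv).symm
  have hmax := card_le_of_max hA hVea (inf_le_left : N ≤ A)
  have hCle : Nat.card ↥V ≤ 2 * Nat.card ↥C := by
    refine Nat.le_of_mul_le_mul_left ?_ (Nat.card_pos (α := ↥N))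
    calc Nat.card ↥N * Nat.card ↥V ≤ Nat.card ↥N * Nat.card ↥(V ⊓ centralizer (N : Set G)) :=
          Nat.mul_le_mul_left _ (Subgroup.card_le_of_le hVN)
      _ ≤ Nat.card ↥A * Nat.card ↥C := hmax
      _ ≤ 2 * Nat.card ↥N * Nat.card ↥C := Nat.mul_le_mul_right _ hidx
      _ = _ := by ring
  set X := wE p E ⊓ centralizer (E : Set G) with hX
  have hWC : wE p E ⊓ C ≤ X := fun w hw => ⟨hw.1, hmoved hbN hw.1 (hw.2.2 b hb)⟩
  have hCV : C ≤ V := inf_le_left
  have hrel : C.relIndex V ≤ 2 := by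
    have := HallCore.card_mul_relIndex hCV
    rw [← this, mul_comm 2] at hCle
    exact Nat.le_of_mul_le_mul_left hCle Nat.card_pos
  have hXle : X.relIndex (wE p E) ≤ 2 := by
    have h1 : (wE p E ⊓ C).relIndex (wE p E) ≤ C.relIndex V := by
      rw [inf_relIndex_left]
      exact relIndex_le_of_le_right hWV index_ne_zero_of_finite
    refine le_trans ?_ (h1.trans hrel)
    exact Nat.le_of_dvd (Nat.pos_of_ne_zero index_ne_zero_of_finite) (relIndex_dvd_of_le_left _ hWC)
  apply wE_not_le_centralizer h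
  rw [← wE_idem h.blk]
  refine commutator_le.2 fun w hw e he => ?_
  by_cases hwX : w ∈ X
  · rw [commutatorElement_eq_one_iff_mul_comm.2 (hwX.2 e he).symm]
    exact one_mem _
  have hWn := le_normalizer_wE (p := p) (Subgroup.le_normalizer (H := E))
  have h2 : (X.subgroupOf (wE p E)).index = 2 := by
    have h0 : X.relIndex (wE p E) ≠ 1 := fun h1 => hwX (relIndex_eq_one.1 h1 hw)
    have h00 : X.relIndex (wE p E) ≠ 0 := index_ne_zero_of_finite
    show X.relIndex (wE p E) = 2
    omega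
  set w' : ↥(wE p E) := ⟨e * w * e⁻¹, conj_mem' (hWn he) hw⟩ with hw'
  have hw'X : w' ∉ X.subgroupOf (wE p E) := fun hh => by
    have h3 := conj_mem' (LocalBasics.le_normalizer_inf hWn
      (LocalBasics.le_normalizer_centralizer Subgroup.le_normalizer) (inv_mem he))
      (show e * w * e⁻¹ ∈ X from hh)
    exact hwX (by simpa [hX, mul_assoc] using h3)
  have hwinv : (⟨w, hw⟩ : ↥(wE p E))⁻¹ ∉ X.subgroupOf (wE p E) := fun hh => hwX (by
    simpa using inv_mem (show w⁻¹ ∈ X from hh))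
  have h3 : w' * (⟨w, hw⟩ : ↥(wE p E))⁻¹ ∈ X.subgroupOf (wE p E) :=
    (mul_mem_iff_of_index_two h2).2 (iff_of_false hw'X hwinv)
  have h4 : e * w * e⁻¹ * w⁻¹ ∈ X := h3
  have : ⁅w, e⁆ = (e * w * e⁻¹ * w⁻¹)⁻¹ := by simp only [commutatorElement_def]; group
  rw [this]
  exact inv_mem h4.2

end Cfsg.Agent.BlockNormal16
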