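import Mathlib
import Cfsg.Agent.Lib.BlockNormal16Conj

/-!
# Fixed points in `W_E` of the Sylow subgroups, by transfer over `E / (T ∩ E)`
-/

set_option autoImplicit false
set_option linter.style.haveILetI false

namespace Cfsg.Agent.BlockNormal16

open Subgroup Cfsg BaumannBlockBasics BaumannBlockStructure BaumannSubnormal58
open scoped commutatorElement

variable {G : Type*} [Group G] [Finite G] {p : ℕ} [Fact p.Prime] {E : Subgroup G}

omit [Fact p.Prime] in
theorem vo_comm {x y : G} (hx : x ∈ Vo p G) (hy : y ∈ Vo p G) : x * y = y * x :=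
  omega_comm p _ hx hy

theorem commutator_mem_wE (h : SBlk p E) {e z : G} (he : e ∈ E) (hz : z ∈ Vo p G) :
    ⁅e, z⁆ ∈ wE p E := by
  rw [← commutatorElement_inv]
  exact inv_mem (commutator_vo_le h.blk (LocalBasics.pCoreOf_le_of_subnormal p h.sub)
    (commutator_mem_commutator hz he))

omit [Finite G] in
theorem conj_commutator (g x z : G) : g * ⁅x, z⁆ * g⁻¹ = ⁅g * x * g⁻¹, g * z * g⁻¹⁆ := by
  simp only [commutatorElement_def]; group

open Classical in
/-- A fixed point of `T ∩ N(E)` in `W_E` not centralised by `E`, for one suitable element `z`. -/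
theorem exists_fixed_aux (h : SBlk p E) (T : Sylow p G)
    (hz : ∃ z ∈ Vo p G, (∀ q ∈ (T : Subgroup G) ⊓ E, q * z = z * q) ∧
      z ∉ centralizer (E : Set G)) :
    ∃ y ∈ wE p E, y ∉ centralizer (E : Set G) ∧
      ∀ t ∈ (T : Subgroup G), t ∈ normalizer (E : Set G) → t * y = y * t := by
  set P := ((T : Subgroup G) ⊓ E).subgroupOf E with hP
  haveI : Fintype (↥E ⧸ P) := Fintype.ofFinite _
  set V := Vo p G with hV
  have hVn : ∀ g : G, ∀ v ∈ V, g * v * g⁻¹ ∈ V := fun g v hv =>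
    conj_mem' (le_normalizer_vo ⊤ (mem_top g)) hv
  letI : CommGroup ↥V :=
    { (inferInstance : Group ↥V) with
      mul_comm := fun a b => Subtype.ext (vo_comm a.2 b.2) }
  have hmem : ∀ (x : ↥E) (z : ↥V), ⁅(x : G), (z : G)⁆ ∈ V := fun x z => by
    rw [commutatorElement_def]; exact mul_mem (hVn _ _ z.2) (inv_mem z.2)
  let D : Subgroup ↥V :=
    { carrier := {z | ∀ q ∈ (T : Subgroup G) ⊓ E, q * (z : G) = z * q}
      one_mem' := fun q _ => by simp
      mul_mem' := fun {a b} ha hb q hq => by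
        show q * ((a : G) * b) = (a : G) * b * q
        rw [← mul_assoc, ha q hq, mul_assoc, hb q hq, mul_assoc]
      inv_mem' := fun {a} ha q hq => ((show Commute q (a : G) from ha q hq).inv_right).eq }
  let f : ↥V → ↥E ⧸ P → ↥V := fun z r => ⟨⁅(r.out : G), (z : G)⁆, hmem _ z⟩
  -- independence of the representative
  have hrep : ∀ z ∈ D, ∀ x : ↥E, (f z (QuotientGroup.mk x) : G) = ⁅(x : G), (z : G)⁆ := by
    intro z hzD x
    obtain ⟨q, hq⟩ := QuotientGroup.mk_out_eq_mul P x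
    show ⁅((QuotientGroup.mk (s := P) x).out : G), (z : G)⁆ = _
    rw [hq]
    have hc := hzD _ (mem_subgroupOf.1 q.2)
    simp only [Subgroup.coe_mul, commutatorElement_def]
    calc (x : G) * ((q : ↥E) : G) * z * ((x : G) * ((q : ↥E) : G))⁻¹ * (z : G)⁻¹
        = (x : G) * (((q : ↥E) : G) * z) * (((q : ↥E) : G))⁻¹ * (x : G)⁻¹ * (z : G)⁻¹ := by group
      _ = _ := by rw [hc]; group
  let φ : ↥D →* ↥V :=
    { toFun := fun z => ∏ r, f z r
      map_one' := Finset.prod_eq_one fun r _ => Subtype.ext (by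
        show ⁅((r.out : ↥E) : G), (((1 : ↥D) : ↥V) : G)⁆ = ((1 : ↥V) : G)
        simp)
      map_mul' := fun a b => by
        rw [← Finset.prod_mul_distrib]
        refine Finset.prod_congr rfl fun r _ => Subtype.ext ?_
        show ⁅((r.out : ↥E) : G), (((a : ↥V) : G) * ((b : ↥V) : G))⁆ =
          ⁅((r.out : ↥E) : G), ((a : ↥V) : G)⁆ * ⁅((r.out : ↥E) : G), ((b : ↥V) : G)⁆
        have e : ∀ x u v : G, ⁅x, u * v⁆ = ⁅x, u⁆ * (u * ⁅x, v⁆ * u⁻¹) := fun x u v => by
          simp only [commutatorElement_def]; group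
        rw [e, vo_comm (a : ↥V).2 (hmem _ _), mul_inv_cancel_right] }
  -- the values lie in `W_E`
  have hval : ∀ z : ↥D, (φ z : G) ∈ wE p E := fun z => by
    show (V.subtype (∏ r, f z r)) ∈ wE p E
    exact Finset.prod_induction (f z) (fun v : ↥V => (v : G) ∈ wE p E)
      (fun a b ha hb => mul_mem ha hb) (one_mem _)
      (fun r _ => commutator_mem_wE h r.out.2 (z : ↥V).2)
  set k := Nat.card (↥E ⧸ P) with hk
  have hkp : ¬ p ∣ k := by
    have := SubnormalResidual.not_dvd_relIndex_inf T h.sub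
    rwa [relIndex, Subgroup.index, ← hP] at this
  -- commutators with `E`
  have hcomm : ∀ (z : ↥D) (e : ↥E), ⁅(e : G), (φ z : G)⁆ = (⁅(e : G), ((z : ↥V) : G)⁆ ^ k)⁻¹ := by
    intro z e
    let c : ↥V →* ↥V :=
      { toFun := fun v => ⟨(e : G) * v * (e : G)⁻¹, hVn _ _ v.2⟩
        map_one' := Subtype.ext (by simp)
        map_mul' := fun a b => Subtype.ext (by simp [mul_assoc]) }
    have h1 : c (φ z) * (⟨⁅(e : G), ((z : ↥V) : G)⁆, hmem e z⟩ : ↥V) ^ k = φ z := by
      show c (∏ r, f z r) * _ = ∏ r, f z r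
      rw [map_prod, hk, Nat.card_eq_fintype_card, ← Finset.card_univ, ← Finset.prod_const,
        ← Finset.prod_mul_distrib]
      refine Fintype.prod_equiv (MulAction.toPerm e) _ _ fun r => Subtype.ext ?_
      obtain ⟨x, rfl⟩ := QuotientGroup.mk_surjective r
      have hr : MulAction.toPerm e (QuotientGroup.mk (s := P) x) = QuotientGroup.mk (e * x) := rfl
      rw [hr]
      show (e : G) * (f z (QuotientGroup.mk x) : G) * (e : G)⁻¹ * ⁅(e : G), ((z : ↥V) : G)⁆ = _
      rw [hrep z z.2 x, hrep z z.2 (e * x)]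
      simp only [Subgroup.coe_mul, commutatorElement_def]
      group
    have h2 := congrArg (Subtype.val) h1
    simp only [Subgroup.coe_mul, SubmonoidClass.coe_pow] at h2
    show (e : G) * (φ z : G) * (e : G)⁻¹ * (φ z : G)⁻¹ = _
    set u := (c (φ z) : G) with hu
    set w := (φ z : G) with hw
    set d := ⁅(e : G), ((z : ↥V) : G)⁆ ^ k with hd
    show u * w⁻¹ = d⁻¹
    have hcu : u * d = d * u := vo_comm (c (φ z)).2 (pow_mem (hmem e z) k)
    rw [← h2, mul_inv_rev, ← mul_assoc]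
    calc u * d⁻¹ * u⁻¹ = (u * d⁻¹) * u⁻¹ := rfl
      _ = (d⁻¹ * u) * u⁻¹ := by rw [(show Commute u d from hcu).inv_right.eq]
      _ = _ := by group
  have hne : ∀ z : ↥D, ((z : ↥V) : G) ∉ centralizer (E : Set G) →
      (φ z : G) ∉ centralizer (E : Set G) := by
    intro z hz hy
    refine hz fun e he => ?_
    have h1 := hcomm z ⟨e, he⟩
    rw [commutatorElement_eq_one_iff_mul_comm.2 (hy e he), eq_comm, inv_eq_one] at h1
    have h2 : ⁅e, ((z : ↥V) : G)⁆ ^ p = 1 := omega_pow p _ (hmem ⟨e, he⟩ z)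
    have h3 := pow_gcd_eq_one.2 ⟨h1, h2⟩
    rw [Nat.coprime_comm.1 ((Fact.out : p.Prime).coprime_iff_not_dvd.2 hkp), pow_one] at h3
    exact commutatorElement_eq_one_iff_mul_comm.1 h3
  have hzero : ∀ z : ↥D, ((z : ↥V) : G) ∈ centralizer (E : Set G) → φ z = 1 := fun z hz =>
    Finset.prod_eq_one fun r _ => Subtype.ext
      (commutatorElement_eq_one_iff_mul_comm.2 (hz _ r.out.2))
  set M : Subgroup G := φ.range.map V.subtype with hM
  have hMne : M ≠ ⊥ := by
    obtain ⟨z, hzV, hzP, hzE⟩ := hz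
    intro hb
    have h1 : (φ ⟨⟨z, hzV⟩, hzP⟩ : G) ∈ M := ⟨_, ⟨_, rfl⟩, rfl⟩
    rw [hb, mem_bot] at h1
    exact hne ⟨⟨z, hzV⟩, hzP⟩ hzE (h1 ▸ one_mem _)
  have hMp : IsPGroup p ↥M := by
    refine (HallCore.isPGroup_pCore p G).to_le ?_
    rintro _ ⟨v, -, rfl⟩
    exact omega_le p _ v.2
  set H := (T : Subgroup G) ⊓ normalizer (E : Set G) with hH
  have hHM : H ≤ normalizer (M : Set G) := by
    refine LocalBasics.le_normalizer_of_conj fun t ht m hm => ?_
    replace ht : t ∈ (T : Subgroup G) ∧ t ∈ normalizer (E : Set G) := mem_inf.1 ht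
    obtain ⟨_, ⟨z, rfl⟩, rfl⟩ := hm
    have htP : ∀ q ∈ (T : Subgroup G) ⊓ E, t⁻¹ * q * t ∈ (T : Subgroup G) ⊓ E := fun q hq =>
      mem_inf.2 ⟨mul_mem (mul_mem (inv_mem ht.1) (mem_inf.1 hq).1) ht.1, by
        simpa using conj_mem' (inv_mem ht.2) (mem_inf.1 hq).2⟩
    have hzD : (⟨t * ((z : ↥V) : G) * t⁻¹, hVn _ _ (z : ↥V).2⟩ : ↥V) ∈ D := by
      intro q hq
      show q * (t * ((z : ↥V) : G) * t⁻¹) = t * ((z : ↥V) : G) * t⁻¹ * q
      have := z.2 _ (htP q hq)
      calc q * (t * ((z : ↥V) : G) * t⁻¹) = t * ((t⁻¹ * q * t) * ((z : ↥V) : G)) * t⁻¹ := by group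
        _ = t * (((z : ↥V) : G) * (t⁻¹ * q * t)) * t⁻¹ := by rw [this]
        _ = _ := by group
    refine ⟨_, ⟨⟨_, hzD⟩, rfl⟩, ?_⟩
    show (V.subtype (∏ r, f _ r)) = t * (V.subtype (∏ r, f z r)) * t⁻¹
    let ct : ↥E ≃* ↥E :=
      { toFun := fun x => ⟨t * x * t⁻¹, conj_mem' ht.2 x.2⟩
        invFun := fun x => ⟨t⁻¹ * x * t, by simpa using conj_mem' (inv_mem ht.2) x.2⟩
        left_inv := fun x => Subtype.ext (by simp [mul_assoc])
        right_inv := fun x => Subtype.ext (by simp [mul_assoc])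
        map_mul' := fun a b => Subtype.ext (by simp [mul_assoc]) }
    have hct : ∀ q ∈ P, ct q ∈ P := fun q hq => mem_subgroupOf.2 (mem_inf.2
      ⟨mul_mem (mul_mem ht.1 (mem_inf.1 (mem_subgroupOf.1 hq)).1) (inv_mem ht.1),
        conj_mem' ht.2 q.2⟩)
    let π : ↥E ⧸ P → ↥E ⧸ P := Quotient.map' ct fun a b hab => by
      rw [QuotientGroup.leftRel_apply] at hab ⊢
      rw [← map_inv, ← map_mul]
      exact hct _ hab
    have hπ : Function.Bijective π := by
      refine Finite.injective_iff_bijective.1 fun a b hab => ?_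
      obtain ⟨x, rfl⟩ := QuotientGroup.mk_surjective a
      obtain ⟨y, rfl⟩ := QuotientGroup.mk_surjective b
      have hab' : (QuotientGroup.mk (ct x) : ↥E ⧸ P) = QuotientGroup.mk (ct y) := hab
      rw [QuotientGroup.eq, ← map_inv, ← map_mul] at hab'
      rw [QuotientGroup.eq, mem_subgroupOf]
      have := htP _ (mem_subgroupOf.1 hab')
      simpa [ct, mul_assoc] using this
    let c : ↥V →* ↥V :=
      { toFun := fun v => ⟨t * v * t⁻¹, hVn _ _ v.2⟩
        map_one' := Subtype.ext (by simp)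
        map_mul' := fun a b => Subtype.ext (by simp [mul_assoc]) }
    show ((∏ r, f _ r : ↥V) : G) = ((c (∏ r, f z r) : ↥V) : G)
    rw [map_prod c]
    refine congrArg Subtype.val (Fintype.prod_bijective π hπ _ _ fun r => Subtype.ext ?_).symm
    obtain ⟨x, rfl⟩ := QuotientGroup.mk_surjective r
    have hr : π (QuotientGroup.mk x) = QuotientGroup.mk (ct x) := rfl
    rw [hr]
    show t * (f z (QuotientGroup.mk x) : G) * t⁻¹ = (f _ (QuotientGroup.mk (ct x)) : G)
    rw [hrep z z.2 x, hrep _ hzD (ct x), conj_commutator]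
    rfl
  -- a fixed point of the `p`-group `H`
  haveI := ((T.isPGroup'.to_le (inf_le_left : H ≤ T)).to_sup_of_normal_right' hMp hHM).isNilpotent
  obtain ⟨y, hyM, hy1, hyH⟩ : ∃ y ∈ M, y ≠ 1 ∧ ∀ t ∈ H, t * y = y * t := by
    obtain ⟨n, hn⟩ := Subgroup.isNilpotent_iff_lowerCentralSeries (H ⊔ M) |>.1 inferInstance
    by_contra hcon
    push Not at hcon
    have hall : ∀ j, ∀ y ∈ M ⊓ (H ⊔ M).lowerCentralSeries (n - j), y = 1 := by
      intro j
      induction j with
      | zero => intro y hy; simpa [hn] using hy.2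
      | succ j ih =>
        intro y hy
        by_contra hy1
        obtain ⟨t, ht, hne'⟩ := hcon y hy.1 hy1
        refine hne' (commutatorElement_eq_one_iff_mul_comm.1 (ih _ (mem_inf.2 ⟨?_, ?_⟩)))
        · rw [commutatorElement_def]
          exact mul_mem (conj_mem' (hHM ht) hy.1) (inv_mem hy.1)
        · by_cases hj : j < n
          · have e : n - j = (n - (j + 1)) + 1 := by omega
            rw [e, Subgroup.lowerCentralSeries_succ, ← commutatorElement_inv y t]
            exact inv_mem (commutator_mem_commutator hy.2 (mem_sup_left ht))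
          · rw [show n - j = 0 by omega]
            show ⁅t, y⁆ ∈ H ⊔ M
            rw [commutatorElement_def]
            exact mul_mem (mul_mem (mul_mem (mem_sup_left ht) (mem_sup_right hy.1))
              (inv_mem (mem_sup_left ht))) (inv_mem (mem_sup_right hy.1))
    obtain ⟨y, hy, hy1⟩ := SetLike.not_le_iff_exists.1 fun hle => hMne (le_bot_iff.1 hle)
    refine hy1 (mem_bot.2 (hall n y ⟨hy, ?_⟩))
    rw [Nat.sub_self]
    exact mem_sup_right hy
  obtain ⟨_, ⟨z, rfl⟩, rfl⟩ := hyM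
  refine ⟨_, hval z, hne z fun hz' => hy1 ?_, fun t ht htN => hyH t ⟨ht, htN⟩⟩
  rw [hzero z hz', map_one]

end Cfsg.Agent.BlockNormal16
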