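import Mathlib
import Cfsg.Agent.Lib.BlockNormal16Fixed

/-!
# A subnormal block is a block for every Sylow subgroup and normal in `B(G)`
-/

set_option autoImplicit false
set_option linter.style.haveILetI false

namespace Cfsg.Agent.BlockNormal16

open Subgroup Cfsg BaumannBlockBasics BaumannBlockStructure BaumannSubnormal58
open scoped commutatorElement Pointwise

variable {G : Type*} [Group G] [Finite G] {p : ℕ} [Fact p.Prime] {E : Subgroup G}

theorem omegaOneCenter_le_vo (hG : centralizer (pCore p G : Set G) ≤ pCore p G) (T : Sylow p G) :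
    omegaOneCenter p (T : Subgroup G) ≤ Vo p G := by
  intro z hz
  have hc : z ∈ centralizer (pCore p G : Set G) := fun r hr =>
    ((Offenders.omegaOne_le _ hz).2 r (HallCore.pCore_le_sylow T hr))
  exact Offenders.mem_omegaOne ⟨hG hc, hc⟩ (omega_pow p _ hz)

/-- A fixed point of `T ∩ N(E)` in `W_E` not centralised by `E`, for every Sylow subgroup `T`. -/
theorem exists_fixed (h : SBlk p E) {T₀ : Sylow p G}
    (hz : ⁅E, omegaOneCenter p (T₀ : Subgroup G)⁆ ≠ ⊥) (T : Sylow p G) :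
    ∃ y ∈ wE p E, y ∉ centralizer (E : Set G) ∧
      ∀ t ∈ (T : Subgroup G), t ∈ normalizer (E : Set G) → t * y = y * t := by
  rw [Ne, commutator_comm, commutator_eq_bot_iff_le_centralizer] at hz
  obtain ⟨z, hzT, hzE⟩ := SetLike.not_le_iff_exists.1 hz
  have mk : ∀ S : Sylow p G, ∃ Q : Sylow p ↥E,
      (Q : Subgroup ↥E) = ((S : Subgroup G) ⊓ E).subgroupOf E := fun S => by
    have h1 : IsPGroup p ↥(((S : Subgroup G) ⊓ E).subgroupOf E) :=
      (S.isPGroup'.to_le (inf_le_left : (S : Subgroup G) ⊓ E ≤ S)).comap_subtype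
    exact ⟨h1.toSylow (SubnormalResidual.not_dvd_relIndex_inf S h.sub), IsPGroup.toSylow_coe _ _⟩
  obtain ⟨Q₀, hQ₀⟩ := mk T₀
  obtain ⟨Q, hQ⟩ := mk T
  obtain ⟨e, he⟩ := MulAction.exists_smul_eq ↥E Q₀ Q
  refine exists_fixed_aux h T ⟨(e : G) * z * (e : G)⁻¹, ?_, fun q hq => ?_, fun hc => hzE ?_⟩
  · exact conj_mem' (le_normalizer_vo ⊤ (mem_top _)) (omegaOneCenter_le_vo h.char T₀ hzT)
  · have hqQ : (⟨q, (mem_inf.1 hq).2⟩ : ↥E) ∈ (Q : Subgroup ↥E) := by
      rw [hQ]; exact mem_subgroupOf.2 hq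
    rw [← he] at hqQ
    change _ ∈ MulAut.conj e • (Q₀ : Subgroup ↥E) at hqQ
    obtain ⟨x, hx, hxq⟩ := hqQ
    rw [SetLike.mem_coe, hQ₀, mem_subgroupOf] at hx
    have hxz : (x : G) * z = z * x := (Offenders.omegaOne_le _ hzT).2 _ (mem_inf.1 hx).1
    have hxq' : (e : G) * x * (e : G)⁻¹ = q := congrArg Subtype.val hxq
    rw [← hxq']
    calc (e : G) * x * (e : G)⁻¹ * ((e : G) * z * (e : G)⁻¹) = e * ((x : G) * z) * (e : G)⁻¹ := by group
      _ = _ := by rw [hxz]; group
  · have := LocalBasics.conj_mem_of_le_normalizer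
      (LocalBasics.le_normalizer_centralizer (Subgroup.le_normalizer (H := E))) (inv_mem e.2) hc
    simpa [mul_assoc] using this

theorem thompson_le_normalizer (h : SBlk p E) (T : Sylow p G) :
    thompsonSubgroupOf p (T : Subgroup G) ≤ normalizer (E : Set G) := by
  rw [Offenders.thompsonOf_eq]
  exact sSup_le fun A hA => max_le_normalizer h (Offenders.maxIn_sylow hA)

/-- An element of `W_E` in `Ω₁(Z(J(T)))` not centralised by `E`. -/
theorem exists_omega_thompson (h : SBlk p E) {T₀ : Sylow p G}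
    (hz : ⁅E, omegaOneCenter p (T₀ : Subgroup G)⁆ ≠ ⊥) (T : Sylow p G) :
    ∃ y ∈ wE p E, y ∉ centralizer (E : Set G) ∧
      y ∈ omegaOne p (centerThompsonOf p (T : Subgroup G)) := by
  obtain ⟨y, hyW, hyE, hy⟩ := exists_fixed h hz T
  refine ⟨y, hyW, hyE, ?_⟩
  have hyp : y ^ p = 1 := omega_pow p _ (BaumannSubnormal58.wE_le h.blk hyW)
  have hJT := Offenders.thompsonOf_le (p := p) (T : Subgroup G)
  have hcJ : ∀ j ∈ thompsonSubgroupOf p (T : Subgroup G), j * y = y * j := fun j hj =>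
    hy j (hJT hj) (thompson_le_normalizer h T hj)
  refine Offenders.mem_omegaOne (mem_inf.2 ⟨?_, fun j hj => hcJ j hj⟩) hyp
  obtain ⟨A₁, hA₁⟩ := Offenders.exists_max (G := G) p
  obtain ⟨S, hS⟩ := Offenders.exists_mem_sylow hA₁.1
  obtain ⟨g, hg⟩ := MulAction.exists_smul_eq G S T
  have hA' := Offenders.max_map_equiv hA₁ (MulAut.conj g)
  have hAT : A₁.map (MulAut.conj g).toMonoidHom ≤ (T : Subgroup G) := by
    rintro _ ⟨a, ha, rfl⟩
    rw [← hg]
    exact Subgroup.smul_mem_pointwise_smul a (MulAut.conj g) (S : Subgroup G) (hS ha)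
  have hAJ : A₁.map (MulAut.conj g).toMonoidHom ≤ thompsonSubgroupOf p (T : Subgroup G) := by
    rw [Offenders.thompsonOf_eq]; exact le_sSup (Offenders.max_maxIn hA' hAT)
  exact hAJ (Offenders.mem_max_of_commute hA' hyp fun a ha => hcJ a (hAJ ha))

/-- `C(Ω₁ Z(J(T)))` fixes every subnormal block. -/
theorem centralizer_le_normalizer (h : SBlk p E) {T₀ : Sylow p G}
    (hz : ⁅E, omegaOneCenter p (T₀ : Subgroup G)⁆ ≠ ⊥) (T : Sylow p G) :
    centralizer (omegaOne p (centerThompsonOf p (T : Subgroup G)) : Set G) ≤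
      normalizer (E : Set G) := by
  intro c hc
  by_contra hcN
  obtain ⟨y, hyW, hyE, hyJ⟩ := exists_omega_thompson h hz T
  have h1 := conj_mem_centralizer h hcN hyW
  rw [← hc y hyJ, mul_inv_cancel_right] at h1
  exact hyE h1

theorem baumann_le_normalizer (h : SBlk p E) {T₀ : Sylow p G}
    (hz : ⁅E, omegaOneCenter p (T₀ : Subgroup G)⁆ ≠ ⊥) (T : Sylow p G) :
    baumannSubgroupOf p (T : Subgroup G) ≤ normalizer (E : Set G) :=
  inf_le_right.trans (centralizer_le_normalizer h hz T)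

/-- The Baumann subgroups of all Sylow subgroups are conjugate under `N(E)`. -/
theorem exists_conj_baumann (h : SBlk p E) {T₀ : Sylow p G}
    (hz : ⁅E, omegaOneCenter p (T₀ : Subgroup G)⁆ ≠ ⊥) (T : Sylow p G) :
    ∃ g ∈ normalizer (E : Set G), baumannSubgroupOf p (T : Subgroup G) =
      (baumannSubgroupOf p (T₀ : Subgroup G)).map (MulAut.conj g).toMonoidHom := by
  set H := normalizer (E : Set G) with hH
  have mk : ∀ S : Sylow p G, ∃ Q : Sylow p ↥H,
      (baumannSubgroupOf p (S : Subgroup G)).subgroupOf H ≤ Q := fun S =>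
    (S.isPGroup'.to_le (BaumannBlockBasics.baumann_le p _)).comap_subtype.exists_le_sylow
  obtain ⟨Q₀, hQ₀⟩ := mk T₀
  obtain ⟨Q, hQ⟩ := mk T
  obtain ⟨g, hg⟩ := MulAction.exists_smul_eq ↥H Q₀ Q
  obtain ⟨T₁, hT₁⟩ := (Q₀.isPGroup'.map H.subtype).exists_le_sylow
  have hB₀ : baumannSubgroupOf p (T₁ : Subgroup G) = baumannSubgroupOf p (T₀ : Subgroup G) :=
    baumann_eq_of_le T₀ T₁ fun x hx =>
      hT₁ ⟨⟨x, baumann_le_normalizer h hz T₀ hx⟩, hQ₀ (mem_subgroupOf.2 hx), rfl⟩
  have hB : baumannSubgroupOf p (((g : G) • T₁ : Sylow p G) : Subgroup G) =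
      baumannSubgroupOf p (T : Subgroup G) := by
    refine baumann_eq_of_le T ((g : G) • T₁) fun x hx => ?_
    have hxQ : (⟨x, baumann_le_normalizer h hz T hx⟩ : ↥H) ∈ (Q : Subgroup ↥H) :=
      hQ (mem_subgroupOf.2 hx)
    rw [← hg] at hxQ
    change _ ∈ MulAut.conj g • (Q₀ : Subgroup ↥H) at hxQ
    obtain ⟨u, hu, hux⟩ := hxQ
    show x ∈ MulAut.conj (g : G) • (T₁ : Subgroup G)
    have hux' : (g : G) * (u : G) * (g : G)⁻¹ = x := congrArg Subtype.val hux
    rw [← hux']
    exact Subgroup.smul_mem_pointwise_smul (u : G) (MulAut.conj (g : G)) _ (hT₁ ⟨u, hu, rfl⟩)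
  refine ⟨g, g.2, ?_⟩
  rw [← hB, ← hB₀, baumann_map_conj]
  rfl

omit [Finite G] in
theorem map_conj_eq {g : G} (hg : g ∈ normalizer (E : Set G)) :
    E.map (MulAut.conj g).toMonoidHom = E := by
  ext x
  constructor
  · rintro ⟨y, hy, rfl⟩
    exact conj_mem' hg hy
  · intro hx
    refine ⟨g⁻¹ * x * g, ?_, by simp [mul_assoc]⟩
    simpa using conj_mem' (inv_mem hg) hx

open Classical in
/-- `[E, Ω₁ Z(T)] ≠ 1` for every Sylow subgroup. -/
theorem commutator_omega_ne_bot (h : SBlk p E) {T₀ : Sylow p G}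
    (hz : ⁅E, omegaOneCenter p (T₀ : Subgroup G)⁆ ≠ ⊥) (T : Sylow p G) :
    ⁅E, omegaOneCenter p (T : Subgroup G)⁆ ≠ ⊥ := by
  obtain ⟨y, hyW, hyE, hy⟩ := exists_fixed h hz T
  set V := Vo p G with hV
  have hyV : y ∈ V := wE_le_vo h.char h.blk hyW
  have hVn : ∀ g : G, ∀ v ∈ V, g * v * g⁻¹ ∈ V := fun g v hv =>
    conj_mem' (le_normalizer_vo ⊤ (mem_top g)) hv
  letI : CommGroup ↥V :=
    { (inferInstance : Group ↥V) with
      mul_comm := fun a b => Subtype.ext (vo_comm a.2 b.2) }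
  set K := (normalizer (E : Set G)).subgroupOf (T : Subgroup G) with hK
  haveI : Fintype (↥(T : Subgroup G) ⧸ K) := Fintype.ofFinite _
  let f : ↥(T : Subgroup G) ⧸ K → ↥V := fun r =>
    ⟨(r.out : G) * y * (r.out : G)⁻¹, hVn _ _ hyV⟩
  have hrep : ∀ x : ↥(T : Subgroup G),
      (f (QuotientGroup.mk x) : G) = (x : G) * y * (x : G)⁻¹ := by
    intro x
    obtain ⟨q, hq⟩ := QuotientGroup.mk_out_eq_mul K x
    show ((QuotientGroup.mk (s := K) x).out : G) * y * ((QuotientGroup.mk (s := K) x).out : G)⁻¹ = _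
    rw [hq]
    have hc := hy _ (q : ↥(T : Subgroup G)).2 (mem_subgroupOf.1 q.2)
    simp only [Subgroup.coe_mul]
    calc (x : G) * ((q : ↥(T : Subgroup G)) : G) * y * ((x : G) * ((q : ↥(T : Subgroup G)) : G))⁻¹
        = (x : G) * (((q : ↥(T : Subgroup G)) : G) * y) * (((q : ↥(T : Subgroup G)) : G))⁻¹ *
            (x : G)⁻¹ := by group
      _ = _ := by rw [hc]; group
  set N : ↥V := ∏ r, f r with hN
  have hNT : ∀ t : ↥(T : Subgroup G), (t : G) * (N : G) = N * t := by
    intro t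
    let c : ↥V →* ↥V :=
      { toFun := fun v => ⟨(t : G) * v * (t : G)⁻¹, hVn _ _ v.2⟩
        map_one' := Subtype.ext (by simp)
        map_mul' := fun a b => Subtype.ext (by simp [mul_assoc]) }
    have h1 : c N = N := by
      rw [hN, map_prod]
      refine Fintype.prod_equiv (MulAction.toPerm t) _ _ fun r => Subtype.ext ?_
      obtain ⟨x, rfl⟩ := QuotientGroup.mk_surjective r
      have hr : MulAction.toPerm t (QuotientGroup.mk (s := K) x) = QuotientGroup.mk (t * x) := rfl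
      rw [hr]
      show (t : G) * (f (QuotientGroup.mk x) : G) * (t : G)⁻¹ = _
      rw [hrep x, hrep (t * x)]
      simp only [Subgroup.coe_mul]
      group
    exact mul_inv_eq_iff_eq_mul.1 (congrArg Subtype.val h1)
  intro hbot
  rw [commutator_comm, commutator_eq_bot_iff_le_centralizer] at hbot
  have hNZ : (N : G) ∈ omegaOneCenter p (T : Subgroup G) := Offenders.mem_omegaOne
    ⟨HallCore.pCore_le_sylow T (omega_le p _ N.2), fun t ht => hNT ⟨t, ht⟩⟩ (omega_pow p _ N.2)
  have hrest : (N : G) * y⁻¹ ∈ centralizer (E : Set G) := by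
    set r₀ : ↥(T : Subgroup G) ⧸ K := QuotientGroup.mk 1 with hr₀
    have h0 : (f r₀ : G) = y := by rw [hr₀, hrep]; simp
    have h1 : N = (∏ r ∈ Finset.univ.erase r₀, f r) * f r₀ := by
      rw [hN, Finset.prod_erase_mul _ _ (Finset.mem_univ r₀)]
    rw [h1, Subgroup.coe_mul, h0, mul_inv_cancel_right]
    refine Finset.prod_induction f (fun v : ↥V => (v : G) ∈ centralizer (E : Set G))
      (fun a b ha hb => mul_mem ha hb) (one_mem _) fun r hr => ?_
    obtain ⟨x, rfl⟩ := QuotientGroup.mk_surjective r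
    rw [hrep x]
    refine conj_mem_centralizer h (fun hx => (Finset.mem_erase.1 hr).1 ?_) hyW
    rw [hr₀, QuotientGroup.eq, mul_one]
    exact inv_mem (mem_subgroupOf.2 hx)
  apply hyE
  have := mul_mem (inv_mem hrest) (hbot hNZ)
  simpa using this

/-- A subnormal block is a block for every Sylow subgroup. -/
theorem block_all (hG : centralizer (pCore p G : Set G) ≤ pCore p G) {T₀ : Sylow p G}
    (hE : IsBaumannBlock p (T₀ : Subgroup G) E) (hs : E.IsSubnormal) (T : Sylow p G) :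
    IsBaumannBlock p (T : Subgroup G) E := by
  have h := sblk_of_block hG hE hs
  obtain ⟨g, hg, hB⟩ := exists_conj_baumann h hE.2.2.2.1 T
  obtain ⟨h1, h2, h3, h4, h5⟩ := hE
  refine ⟨h1, ?_, h3, commutator_omega_ne_bot h h4 T, ?_⟩
  · rw [hB]
    conv_lhs => rw [← map_conj_eq hg]
    rw [← map_commutator, h2, map_conj_eq hg]
  · rcases h5 with ⟨F, iF, iF', n, e1, e2, e3, e4⟩ | h5
    · refine Or.inl ⟨F, iF, iF', n, e1, e2, e3, ?_⟩
      rcases e4 with e4 | ⟨a1, a2, a3, a4, a5, a6, hquad⟩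
      · exact Or.inl e4
      refine Or.inr ⟨a1, a2, a3, a4, a5, a6, fun b hb hbW hle => ?_⟩
      rw [hB] at hb
      obtain ⟨b₀, hb₀, rfl⟩ := hb
      have hgW : g ∈ normalizer (omegaOneCenter p (pCoreOf p E) : Set G) :=
        le_normalizer_omega (zpowers_le.2 hg) (mem_zpowers g)
      refine hquad b₀ hb₀ (fun hc => hbW ?_) ?_
      · exact LocalBasics.conj_mem_of_le_normalizer
          (LocalBasics.le_normalizer_centralizer (zpowers_le.2 hgW)) (mem_zpowers g) hc
      · have e := map_mono (f := (MulAut.conj g⁻¹).toMonoidHom) hle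
        rw [map_commutator, map_commutator, MonoidHom.map_zpowers] at e
        have hQ : (pCoreOf p E).map (MulAut.conj g⁻¹).toMonoidHom = pCoreOf p E := by
          rw [map_pCoreOf, map_conj_eq (inv_mem hg)]
        have hZ : (E ⊓ centralizer (E : Set G)).map (MulAut.conj g⁻¹).toMonoidHom =
            E ⊓ centralizer (E : Set G) := by
          rw [Subgroup.map_inf _ _ _ (MulAut.conj g⁻¹).injective, map_centralizer_conj,
            map_conj_eq (inv_mem hg)]
        have hb' : (MulAut.conj g⁻¹).toMonoidHom ((MulAut.conj g).toMonoidHom b₀) = b₀ := by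
          simp [mul_assoc]
        rw [hQ, hZ, hb'] at e
        exact e
    · exact Or.inr h5

omit [Finite G] [Fact p.Prime] in
theorem baumannSubgroup_normal : (baumannSubgroup p G).Normal := by
  refine ⟨fun x hx g => ?_⟩
  have hle : baumannSubgroup p G ≤ (baumannSubgroup p G).comap (MulAut.conj g).toMonoidHom := by
    refine iSup_le fun T => ?_
    rw [← map_le_iff_le_comap, baumann_map_conj]
    exact le_iSup (fun S : Sylow p G => baumannSubgroupOf p (S : Subgroup G)) (g • T)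
  exact hle hx

theorem block_le_baumann {T : Sylow p G} {F : Subgroup G}
    (hF : IsBaumannBlock p (T : Subgroup G) F) : F ≤ baumannSubgroup p G := by
  haveI := baumannSubgroup_normal (p := p) (G := G)
  rw [← hF.2.1]
  have h1 : baumannSubgroupOf p (T : Subgroup G) ≤ baumannSubgroup p G :=
    le_iSup (fun S : Sylow p G => baumannSubgroupOf p (S : Subgroup G)) T
  exact (commutator_mono le_rfl h1).trans (commutator_le_right _ _)

theorem baumannSubgroup_le_normalizer (h : SBlk p E) {T₀ : Sylow p G}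
    (hz : ⁅E, omegaOneCenter p (T₀ : Subgroup G)⁆ ≠ ⊥) :
    baumannSubgroup p G ≤ normalizer (E : Set G) :=
  iSup_le fun T => baumann_le_normalizer h hz T

end Cfsg.Agent.BlockNormal16
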