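import Mathlib
import Cfsg.Agent.Lib.BaumannBlockModules

/-!
# Additive maps normalising `SL₂` on the natural module, or `Aₙ` on the even-weight module
-/

set_option autoImplicit false
set_option linter.style.haveILetI false

namespace Cfsg.Agent.BlockNormal16

open BaumannBlockModules
open scoped commutatorElement

section SL2

variable {F : Type} [Field F]

local notation "SL" => Matrix.SpecialLinearGroup (Fin 2) F
local notation "V" => Fin 2 → F

/-- `SL₂(F)` is generated by transvections. -/
theorem sl2_mem_of_transvections (H : Subgroup SL) (hu : ∀ x, up x ∈ H) (hl : ∀ x, low x ∈ H)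
    (M : SL) : M ∈ H := by
  have key : ∀ M : SL, (M : Matrix (Fin 2) (Fin 2) F) 1 0 ≠ 0 → M ∈ H := by
    intro M hc
    have hd := M.2
    rw [Matrix.det_fin_two] at hd
    set A := (M : Matrix (Fin 2) (Fin 2) F) with hA
    have e : M = up ((A 0 0 - 1) / A 1 0) * low (A 1 0) * up ((A 1 1 - 1) / A 1 0) := by
      apply Subtype.ext
      rw [Matrix.SpecialLinearGroup.coe_mul, Matrix.SpecialLinearGroup.coe_mul, up_coe, low_coe, up_coe]
      ext i j
      fin_cases i <;> fin_cases j <;>
        simp [Matrix.mul_apply, Fin.sum_univ_two] <;> (try field_simp) <;>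
        first | ring1 | linear_combination hd | linear_combination -hd
    rw [e]
    exact mul_mem (mul_mem (hu _) (hl _)) (hu _)
  by_cases hc : (M : Matrix (Fin 2) (Fin 2) F) 1 0 = 0
  · have hne : ((low 1 * M : SL) : Matrix (Fin 2) (Fin 2) F) 1 0 ≠ 0 := by
      have hd := M.2
      rw [Matrix.det_fin_two, hc, mul_zero, sub_zero] at hd
      rw [Matrix.SpecialLinearGroup.coe_mul, low_coe]
      simpa [Matrix.mul_apply, Fin.sum_univ_two, hc] using left_ne_zero_of_mul_eq_one hd
    have := mul_mem (inv_mem (hl 1)) (key _ hne)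
    rwa [inv_mul_cancel_left] at this
  · exact key M hc

theorem up_pow (x : F) (n : ℕ) : (up x) ^ n = up ((n : F) * x) := by
  induction n with
  | zero =>
    apply Subtype.ext
    rw [pow_zero, Matrix.SpecialLinearGroup.coe_one, up_coe]
    simp [Matrix.one_fin_two]
  | succ n ih =>
    rw [pow_succ, ih]
    apply Subtype.ext
    rw [Matrix.SpecialLinearGroup.coe_mul, up_coe, up_coe, up_coe, Matrix.mul_fin_two]
    ext i j
    fin_cases i <;> fin_cases j <;> simp
    ring

theorem low_pow (x : F) (n : ℕ) : (low x) ^ n = low ((n : F) * x) := by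
  induction n with
  | zero =>
    apply Subtype.ext
    rw [pow_zero, Matrix.SpecialLinearGroup.coe_one, low_coe]
    simp [Matrix.one_fin_two]
  | succ n ih =>
    rw [pow_succ, ih]
    apply Subtype.ext
    rw [Matrix.SpecialLinearGroup.coe_mul, low_coe, low_coe, low_coe, Matrix.mul_fin_two]
    ext i j
    fin_cases i <;> fin_cases j <;> simp
    ring

variable [Fintype F] {p : ℕ} [Fact p.Prime] {n : ℕ}

theorem natCast_eq_zero (hcard : Fintype.card F = p ^ n) : (p : F) = 0 := by
  have h0 : ((Fintype.card F : ℕ) : F) = 0 := Nat.cast_card_eq_zero F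
  rw [hcard, Nat.cast_pow] at h0
  exact eq_zero_of_pow_eq_zero h0

theorem eq_one_of_pow_prime_pow (hcard : Fintype.card F = p ^ n) {μ : F} {k : ℕ}
    (h : μ ^ p ^ k = 1) : μ = 1 := by
  have hμ : μ ≠ 0 := by
    intro h0
    rw [h0, zero_pow (pow_ne_zero _ (Fact.out : p.Prime).ne_zero)] at h
    exact zero_ne_one h
  have h1 := pow_gcd_eq_one.2 ⟨h, FiniteField.pow_card_sub_one_eq_one μ hμ⟩
  have hco : Nat.Coprime (p ^ k) (Fintype.card F - 1) := by
    refine (((Fact.out : p.Prime).coprime_iff_not_dvd).2 fun hdvd => ?_).pow_left k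
    have h1 := Fintype.one_lt_card (α := F)
    have hn : n ≠ 0 := by rintro rfl; simp at hcard; omega
    have h2 : p ∣ Fintype.card F := hcard ▸ dvd_pow_self p hn
    have h3 := Nat.dvd_sub h2 hdvd
    rw [show Fintype.card F - (Fintype.card F - 1) = 1 by omega, Nat.dvd_one] at h3
    exact (Fact.out : p.Prime).one_lt.ne' h3
  rwa [hco, pow_one] at h1

/-- Elements of order prime to `p` lie in the derived group. -/
theorem mem_commutator_of_coprime (hcard : Fintype.card F = p ^ n) {M : SL} {k : ℕ}
    (hk : M ^ k = 1) (hkp : k.Coprime p) : M ∈ commutator SL := by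
  let f := Abelianization.of (G := SL)
  have hf : ∀ M : SL, f (M ^ p) = 1 := by
    refine fun M => sl2_mem_of_transvections
      { carrier := {M | f (M ^ p) = 1}
        one_mem' := by simp
        mul_mem' := fun {a b} (ha : f (a ^ p) = 1) (hb : f (b ^ p) = 1) => by
          show f ((a * b) ^ p) = 1
          rw [map_pow] at ha hb ⊢
          rw [map_mul, mul_pow, ha, hb, one_mul]
        inv_mem' := fun {a} (ha : f (a ^ p) = 1) => by
          show f (a⁻¹ ^ p) = 1
          rw [inv_pow, map_inv, ha, inv_one] } (fun x => ?_) (fun x => ?_) M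
    · show f (up x ^ p) = 1
      rw [up_pow, natCast_eq_zero hcard, zero_mul]
      have : (up (0 : F)) = 1 := by
        apply Subtype.ext; rw [Matrix.SpecialLinearGroup.coe_one, up_coe]; simp [Matrix.one_fin_two]
      rw [this, map_one]
    · show f (low x ^ p) = 1
      rw [low_pow, natCast_eq_zero hcard, zero_mul]
      have : (low (0 : F)) = 1 := by
        apply Subtype.ext; rw [Matrix.SpecialLinearGroup.coe_one, low_coe]; simp [Matrix.one_fin_two]
      rw [this, map_one]
  have h1 : f M ^ k = 1 := by rw [← map_pow, hk, map_one]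
  have h2 : f M ^ p = 1 := by rw [← map_pow]; exact hf M
  have h3 := pow_gcd_eq_one.2 ⟨h1, h2⟩
  rw [hkp, pow_one] at h3
  exact (QuotientGroup.eq_one_iff M).1 h3

/-- An additive map commuting with the derived group of `SL₂` is scalar, unless `|F| ≤ 3`. -/
theorem scalar_of_commute {t : F} (ht : t ≠ 0) (ht2 : t * t ≠ 1) (M : V →+ V)
    (hM : ∀ k ∈ commutator SL, ∀ v, M ((k : Matrix (Fin 2) (Fin 2) F).mulVec v) =
      (k : Matrix (Fin 2) (Fin 2) F).mulVec (M v)) : ∃ μ : F, ∀ v, M v = μ • v := by
  have hu : ∀ (x : F) v, M ((!![1, x; 0, 1] : Matrix (Fin 2) (Fin 2) F).mulVec v) =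
      (!![1, x; 0, 1] : Matrix (Fin 2) (Fin 2) F).mulVec (M v) := fun x v => by
    rw [← up_coe]; exact hM _ (up_mem ht ht2 x) v
  have hl : ∀ (x : F) v, M ((!![1, 0; x, 1] : Matrix (Fin 2) (Fin 2) F).mulVec v) =
      (!![1, 0; x, 1] : Matrix (Fin 2) (Fin 2) F).mulVec (M v) := fun x v => by
    rw [← low_coe]; exact hM _ (low_mem ht ht2 x) v
  have hm : ∀ (x : F) (w : V), (!![1, x; 0, 1] : Matrix (Fin 2) (Fin 2) F).mulVec w =
      w + ![x * w 1, 0] := fun x w => by
    funext i; fin_cases i <;> simp [Matrix.mulVec, dotProduct, Fin.sum_univ_two] <;> ring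
  have hm' : ∀ (x : F) (w : V), (!![1, 0; x, 1] : Matrix (Fin 2) (Fin 2) F).mulVec w =
      w + ![0, x * w 0] := fun x w => by
    funext i; fin_cases i <;> simp [Matrix.mulVec, dotProduct, Fin.sum_univ_two] <;> ring
  have h1 : ∀ (x : F) (v : V), M ![x * v 1, 0] = ![x * M v 1, 0] := fun x v => by
    have := hu x v
    rw [hm, hm, map_add] at this
    exact add_left_cancel this
  have h2 : ∀ (x : F) (v : V), M ![0, x * v 0] = ![0, x * M v 0] := fun x v => by
    have := hl x v
    rw [hm', hm', map_add] at this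
    exact add_left_cancel this
  have ha : ∀ a : F, M ![a, 0] = ![a * M ![0, 1] 1, 0] := fun a => by
    simpa using h1 a ![0, 1]
  have hb : ∀ b : F, M ![0, b] = ![0, b * M ![0, 1] 1] := fun b => by
    have h := h2 b ![1, 0]
    rw [ha 1] at h
    simpa using h
  refine ⟨M ![0, 1] 1, fun v => ?_⟩
  have hv : v = ![v 0, 0] + ![0, v 1] := by funext i; fin_cases i <;> simp
  rw [congrArg M hv, map_add, ha (v 0), hb (v 1)]
  funext i; fin_cases i <;> simp [mul_comm]

/-- An additive bijection normalising the derived group of `SL₂(F)` is semilinear. -/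
theorem semilinear_of_normalizes (g : V →+ V) (hg : Function.Bijective g)
    (hn : ∀ k ∈ commutator SL, ∃ k' ∈ commutator SL, ∀ v,
      g ((k : Matrix (Fin 2) (Fin 2) F).mulVec v) = (k' : Matrix (Fin 2) (Fin 2) F).mulVec (g v)) :
    ∃ σ : F → F, ∀ (c : F) (v : V), g (c • v) = σ c • g v := by
  classical
  by_cases hsmall : ∃ t : F, t ≠ 0 ∧ t * t ≠ 1
  swap
  · refine ⟨id, fun c v => ?_⟩
    push Not at hsmall
    by_cases hc : c = 0
    · simp [hc]
    rcases mul_self_eq_one_iff.1 (hsmall c hc) with rfl | rfl <;> simp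
  obtain ⟨t, ht, ht2⟩ := hsmall
  haveI : Finite SL := Finite.of_injective _ Subtype.val_injective
  choose π hπm hπ using hn
  let π' : ↥(commutator SL) → ↥(commutator SL) := fun k => ⟨π k k.2, hπm k k.2⟩
  have hπinj : Function.Injective π' := by
    intro a b hab
    have h : π a a.2 = π b b.2 := congrArg Subtype.val hab
    apply Subtype.ext; apply Subtype.ext
    refine Matrix.ext_iff_mulVec.2 fun v => hg.1 ?_
    rw [hπ a a.2, hπ b b.2, h]
  have hsurj := (Finite.injective_iff_bijective.1 hπinj).2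
  let e := AddEquiv.ofBijective g hg
  have hex : ∀ c : F, ∃ μ : F, ∀ v, g (c • e.symm v) = μ • v := by
    intro c
    refine scalar_of_commute ht ht2
      (g.comp ((DistribSMul.toAddMonoidHom V c).comp e.symm.toAddMonoidHom)) fun k' hk' v => ?_
    obtain ⟨k, hk⟩ := hsurj ⟨k', hk'⟩
    have hk2 : π k k.2 = k' := congrArg Subtype.val hk
    show g (c • e.symm _) = (k' : Matrix (Fin 2) (Fin 2) F).mulVec (g (c • e.symm v))
    rw [← hk2, ← hπ k k.2, Matrix.mulVec_smul]
    congr 2
    apply e.injective
    rw [AddEquiv.apply_symm_apply]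
    show _ = g _
    rw [hπ k k.2]
    show _ = Matrix.mulVec _ (e (e.symm v))
    rw [AddEquiv.apply_symm_apply]
  choose σ hσ using hex
  refine ⟨σ, fun c v => ?_⟩
  have h := hσ c (g v)
  rwa [show e.symm (g v) = v from e.symm_apply_apply v] at h

end SL2

/-! ### The even-weight module -/

section Alt

variable {n : ℕ}

theorem pr_apply (a b x : Fin n) :
    pr a b x = (if x = a then 1 else 0) + (if x = b then 1 else 0) := by
  simp [pr, Pi.single_apply]

theorem pr_one_iff {a b x : Fin n} (hab : a ≠ b) : pr a b x = 1 ↔ x = a ∨ x = b := by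
  rw [pr_apply]
  by_cases h1 : x = a <;> by_cases h2 : x = b <;> simp_all

theorem pr_comm (a b : Fin n) : pr a b = pr b a := add_comm _ _

theorem pr_sum (a b : Fin n) : ∑ i, pr a b i = 0 := by
  simp [pr, Finset.sum_add_distrib, CharTwo.add_self_eq_zero]

theorem pr_add (a b c : Fin n) : pr a b + pr b c = pr a c := by
  funext x
  simp only [Pi.add_apply, pr_apply]
  have h : ∀ u v w : ZMod 2, u + v + (v + w) = u + w := by decide
  exact h _ _ _

theorem zmod_two_cases (x : ZMod 2) : x = 0 ∨ x = 1 := by revert x; decide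

theorem eq_of_support {a b : Fin n} (hab : a ≠ b) {v : Fin n → ZMod 2}
    (h : ∀ x, v x = 1 ↔ x = a ∨ x = b) : v = pr a b := by
  funext x
  have h1 := h x
  have h2 := pr_one_iff (x := x) hab
  rcases zmod_two_cases (v x) with hv | hv <;> rcases zmod_two_cases (pr a b x) with hp | hp <;>
    rw [hv, hp] <;> rw [hv] at h1 <;> rw [hp] at h2 <;> simp_all

theorem mem_of_pair_sum {a b c d e f : Fin n} (hab : a ≠ b) (hcd : c ≠ d) (hef : e ≠ f)
    (h : pr a b + pr c d = pr e f) : a = c ∨ a = d ∨ b = c ∨ b = d := by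
  by_contra hcon
  push Not at hcon
  obtain ⟨h1, h2, h3, h4⟩ := hcon
  have k : ∀ x, pr a b x + pr c d x = 1 → x = e ∨ x = f := fun x hx =>
    (pr_one_iff hef).1 (by rw [← h]; exact hx)
  have ka := k a (by simp [pr_apply, hab, h1, h2])
  have kb := k b (by simp [pr_apply, hab.symm, h3, h4])
  have kc := k c (by simp [pr_apply, h1.symm, h3.symm, hcd])
  rcases ka with ka | ka <;> rcases kb with kb | kb <;> rcases kc with kc | kc <;>
    simp_all

/-- An element of order 3 moving two orbits moves more than four vectors. -/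
theorem single_orbit {s : Equiv.Perm (Fin n)} (hs3 : s * s * s = 1) {x : Fin n} (hx : s x ≠ x)
    {S : Finset (Fin n → ZMod 2)} (hS : S.card ≤ 4)
    (hmem : ∀ v : Fin n → ZMod 2, ∑ i, v i = 0 → (fun i => v (s⁻¹ i)) + v ∈ S) :
    s x ≠ s (s x) ∧ x ≠ s (s x) ∧ ∀ v ∈ S, v = 0 ∨ v = pr x (s x) ∨ v = pr x (s (s x)) ∨
      v = pr (s x) (s (s x)) := by
  classical
  have hcyc : ∀ z, s (s (s z)) = z := fun z => by
    have := congrArg (fun t : Equiv.Perm (Fin n) => t z) hs3; simpa using this
  have hd : ∀ {z}, s z ≠ z → s z ≠ s (s z) ∧ z ≠ s (s z) := fun {z} hz =>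
    ⟨fun h => hz (s.injective h).symm, fun h => hz (by
      have := congrArg s h; rw [hcyc] at this; exact this)⟩
  obtain ⟨h12, h02⟩ := hd hx
  have hshift : ∀ a b : Fin n, (fun i => pr a b (s⁻¹ i)) = pr (s a) (s b) := fun a b => by
    funext i
    simp only [pr_apply, Equiv.Perm.inv_eq_iff_eq]
  have hin : ∀ z, s z ≠ z → pr z (s (s z)) ∈ S ∧ pr z (s z) ∈ S ∧ pr (s z) (s (s z)) ∈ S := by
    intro z hz
    have m : ∀ a b, pr (s a) (s b) + pr a b ∈ S := fun a b => by
      rw [← hshift]; exact hmem _ (pr_sum a b)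
    refine ⟨?_, ?_, ?_⟩
    · have := m z (s z)
      rwa [add_comm, pr_add] at this
    · have := m (s z) (s (s z))
      rwa [hcyc, pr_comm (s (s z)) z, pr_comm (s z) (s (s z)), pr_add] at this
    · have := m z (s (s z))
      rwa [hcyc, pr_comm (s z) z, pr_comm z (s z), pr_add] at this
  have hzero : (0 : Fin n → ZMod 2) ∈ S := by
    have := hmem 0 (by simp)
    convert this using 1
    funext i; simp
  refine ⟨h12, h02, fun v hv => ?_⟩
  set T : Finset (Fin n → ZMod 2) :=
    {0, pr x (s x), pr x (s (s x)), pr (s x) (s (s x))} with hT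
  have hTS : T ⊆ S := by
    obtain ⟨a, b, c⟩ := hin x hx
    intro w hw
    simp only [hT, Finset.mem_insert, Finset.mem_singleton] at hw
    rcases hw with rfl | rfl | rfl | rfl <;> assumption
  have hne : ∀ {a b : Fin n}, a ≠ b → pr a b ≠ 0 := fun {a b} hab h => by
    have := congrFun h a; simp [pr_apply, hab] at this
  have hne' : ∀ {a b c d : Fin n}, a ≠ b → a ≠ c → a ≠ d → pr a b ≠ pr c d := fun {a b c d} h1 h2 h3 h => by
    have := congrFun h a; simp [pr_apply, h1, h2, h3] at this
  have hTc : T.card = 4 := by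
    have d1 : pr x (s x) ≠ pr x (s (s x)) := by
      rw [pr_comm x (s x)]; exact hne' hx hx h12
    have d2 : pr x (s x) ≠ pr (s x) (s (s x)) := hne' hx.symm hx.symm h02
    have d3 : pr x (s (s x)) ≠ pr (s x) (s (s x)) := hne' h02 hx.symm h02
    rw [hT, Finset.card_insert_of_notMem, Finset.card_insert_of_notMem, Finset.card_pair d3]
    · simp [d1, d2]
    · simp [(hne hx.symm).symm, (hne h02).symm, (hne h12).symm]
  have := Finset.eq_of_subset_of_card_le hTS (by omega)
  rw [← this] at hv
  simpa [hT] using hv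

/-- An additive bijection of the even-weight module normalising `Aₙ` is a permutation. -/
theorem perm_of_normalizes (h3 : 3 ≤ n) (g : (Fin n → ZMod 2) → (Fin n → ZMod 2))
    (hadd : ∀ u v, ∑ i, u i = 0 → ∑ i, v i = 0 → g (u + v) = g u + g v)
    (heven : ∀ v, ∑ i, v i = 0 → ∑ i, g v i = 0)
    (hsurj : ∀ w, ∑ i, w i = 0 → ∃ v, (∑ i, v i = 0) ∧ g v = w)
    (hinj : ∀ v, ∑ i, v i = 0 → g v = 0 → v = 0)
    (hn : ∀ s ∈ alternatingGroup (Fin n), ∃ s' ∈ alternatingGroup (Fin n), ∀ v, ∑ i, v i = 0 →
      g (fun i => v (s⁻¹ i)) = fun i => g v (s'⁻¹ i)) :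
    ∃ π : Equiv.Perm (Fin n), ∀ v, ∑ i, v i = 0 → g v = fun i => v (π⁻¹ i) := by
  classical
  have hz : g 0 = 0 := by
    have h := hadd 0 0 (by simp) (by simp)
    rw [add_zero] at h
    exact (left_eq_add.1 h)
  -- pairs go to pairs
  have hpair : ∀ a b : Fin n, a ≠ b → ∃ x y, x ≠ y ∧ g (pr a b) = pr x y := by
    intro a b hab
    obtain ⟨c, hca, hcb⟩ : ∃ c, c ≠ a ∧ c ≠ b := by
      by_contra h
      push Not at h
      have hcard : Fintype.card (Fin n) ≤ ({a, b} : Finset (Fin n)).card := by
        rw [← Finset.card_univ]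
        refine Finset.card_le_card fun x _ => ?_
        rw [Finset.mem_insert, Finset.mem_singleton]
        exact or_iff_not_imp_left.2 (h x)
      rw [Finset.card_pair hab, Fintype.card_fin] at hcard
      omega
    set s := Equiv.swap a b * Equiv.swap b c with hs
    obtain ⟨s', -, hs'⟩ := hn s (three_cycle_mem hab hcb.symm)
    have sa : s a = b := by simp [hs, Equiv.swap_apply_of_ne_of_ne hab hca.symm]
    have sb : s b = c := by simp [hs, Equiv.swap_apply_of_ne_of_ne hca hcb]
    have sc : s c = a := by simp [hs]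
    have so : ∀ x, x ≠ a → x ≠ b → x ≠ c → s x = x := fun x p q r => by
      simp [hs, Equiv.swap_apply_of_ne_of_ne q r, Equiv.swap_apply_of_ne_of_ne p q]
    have hs3 : s * s * s = 1 := Equiv.ext fun x => by
      by_cases p : x = a
      · subst p; simp [sa, sb, sc]
      by_cases q : x = b
      · subst q; simp [sa, sb, sc]
      by_cases r : x = c
      · subst r; simp [sa, sb, sc]
      simp [so x p q r]
    have hsum : ∀ (t : Equiv.Perm (Fin n)) (v : Fin n → ZMod 2), ∑ i, v i = 0 →
        ∑ i, v (t⁻¹ i) = 0 := fun t v hv => by rwa [Equiv.sum_comp t⁻¹ v]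
    -- the order of `s'`
    have hit : ∀ (t : Equiv.Perm (Fin n)) (v : Fin n → ZMod 2), ∑ i, v i = 0 →
        ∑ i, ((fun i => v (t⁻¹ i)) + v) i = 0 := fun t v hv => by
      simp only [Pi.add_apply, Finset.sum_add_distrib]
      rw [hsum t v hv, hv, add_zero]
    have hs'3 : s' * s' * s' = 1 := by
      refine BaumannBlockModules.alt_faithful h3 _ fun w hw => ?_
      obtain ⟨v, hv, rfl⟩ := hsurj w hw
      have e1 := hs' v hv
      have e2 := hs' _ (hsum s v hv)
      have e3 := hs' _ (hsum s _ (hsum s v hv))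
      intro i
      have e : (fun i => v (s⁻¹ (s⁻¹ (s⁻¹ i)))) = v := by
        funext j
        have : s⁻¹ * s⁻¹ * s⁻¹ = 1 := by rw [← mul_inv_rev, ← mul_inv_rev, ← mul_assoc, hs3, inv_one]
        have := congrArg (fun t : Equiv.Perm (Fin n) => v (t j)) this
        simpa using this
      rw [e, e2, e1] at e3
      have := congrFun e3 i
      simpa [mul_inv_rev, mul_assoc] using this.symm
    -- vectors supported on `{a, b, c}`
    set S : Finset (Fin n → ZMod 2) :=
      ({0, pr a b, pr a c, pr b c} : Finset (Fin n → ZMod 2)).image g with hS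
    have hScard : S.card ≤ 4 := Finset.card_image_le.trans Finset.card_le_four
    have hmem : ∀ w : Fin n → ZMod 2, ∑ i, w i = 0 → (fun i => w (s'⁻¹ i)) + w ∈ S := by
      intro w hw
      obtain ⟨v, hv, rfl⟩ := hsurj w hw
      rw [← hs' v hv, ← hadd _ _ (hsum s v hv) hv]
      refine Finset.mem_image_of_mem _ ?_
      set u := (fun i => v (s⁻¹ i)) + v with hu
      have hu0 : ∀ x, x ≠ a → x ≠ b → x ≠ c → u x = 0 := fun x p q r => by
        have hx : s⁻¹ x = x := by rw [Equiv.Perm.inv_eq_iff_eq, so x p q r]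
        show v (s⁻¹ x) + v x = 0
        rw [hx]; exact CharTwo.add_self_eq_zero _
      have hua : u a = v c + v a := by
        show v (s⁻¹ a) + v a = _
        rw [show s⁻¹ a = c by rw [Equiv.Perm.inv_eq_iff_eq, sc]]
      have hub : u b = v a + v b := by
        show v (s⁻¹ b) + v b = _
        rw [show s⁻¹ b = a by rw [Equiv.Perm.inv_eq_iff_eq, sa]]
      have huc : u c = v b + v c := by
        show v (s⁻¹ c) + v c = _
        rw [show s⁻¹ c = b by rw [Equiv.Perm.inv_eq_iff_eq, sb]]
      have hdec : u = (fun x => u a * pr a c x + u b * pr b c x) := by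
        funext x
        simp only [pr_apply]
        by_cases p : x = a
        · subst p; simp [hab, hca.symm]
        by_cases q : x = b
        · subst q; simp [p, hcb.symm]
        by_cases r : x = c
        · subst r
          simp [p, q, hua, hub, huc]
          generalize v a = A, v b = B, v x = C
          revert A B C; decide
        · simp [p, q, r, hu0 x p q r]
      simp only [Finset.mem_insert, Finset.mem_singleton]
      have hac : (fun x => pr a c x + pr b c x) = pr a b := by
        show pr a c + pr b c = pr a b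
        rw [pr_comm b c, pr_add]
      rcases zmod_two_cases (u a) with ha | ha <;> rcases zmod_two_cases (u b) with hb | hb <;>
        rw [hdec, ha, hb] <;> simp [hac, funext_iff]
    obtain ⟨x, hx⟩ : ∃ x, s' x ≠ x := by
      by_contra hcon
      push Not at hcon
      have h1 := hs' (pr a b) (pr_sum a b)
      have h2 : (fun i => g (pr a b) (s'⁻¹ i)) = g (pr a b) := funext fun i => by
        rw [show s'⁻¹ i = i by rw [Equiv.Perm.inv_eq_iff_eq, hcon]]
      rw [h2] at h1
      have h3 : (fun i => pr a b (s⁻¹ i)) + pr a b = 0 := by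
        refine hinj _ (hit s _ (pr_sum a b)) ?_
        rw [hadd _ _ (hsum s _ (pr_sum a b)) (pr_sum a b), h1]
        funext i; exact CharTwo.add_self_eq_zero _
      have := congrFun h3 a
      rw [Pi.add_apply, show s⁻¹ a = c by rw [Equiv.Perm.inv_eq_iff_eq, sc]] at this
      simp [pr_apply, hca, hcb, hab] at this
    obtain ⟨h12, h02, hv⟩ := single_orbit hs'3 hx hScard hmem
    have hgS : g (pr a b) ∈ S := Finset.mem_image_of_mem _ (by simp)
    rcases hv _ hgS with h | h | h | h
    · have := congrFun (hinj _ (pr_sum a b) h) a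
      simp [pr_apply, hab] at this
    · exact ⟨_, _, hx.symm, h⟩
    · exact ⟨_, _, h02, h⟩
    · exact ⟨_, _, h12, h⟩
  -- the common point
  have hcommon : ∀ a : Fin n, ∃ x, ∀ b, b ≠ a → g (pr a b) x = 1 := by
    intro a
    obtain ⟨b, hb⟩ : ∃ b, b ≠ a := by
      by_contra h
      push Not at h
      have hsub : Subsingleton (Fin n) := ⟨fun u v => (h u).trans (h v).symm⟩
      have := Fintype.card_le_one_iff_subsingleton.2 hsub
      rw [Fintype.card_fin] at this; omega
    obtain ⟨x, y, hxy, hgb⟩ := hpair a b hb.symm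
    by_contra hcon
    push Not at hcon
    obtain ⟨c, hca, hcx⟩ := hcon x
    obtain ⟨d, hda, hdy⟩ := hcon y
    have hone : ∀ {p q r : Fin n}, q ≠ p → r ≠ p → q ≠ r → ∀ {u v u' v' : Fin n}, u ≠ v → u' ≠ v' →
        g (pr p q) = pr u v → g (pr p r) = pr u' v' → u = u' ∨ u = v' ∨ v = u' ∨ v = v' := by
      intro p q r hq hr hqr u v u' v' huv huv' e1 e2
      obtain ⟨s, t, hst, e3⟩ := hpair q r hqr
      refine mem_of_pair_sum huv huv' hst ?_
      rw [← e1, ← e2, ← e3, ← hadd _ _ (pr_sum _ _) (pr_sum _ _), pr_comm p q, pr_add]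
    obtain ⟨x', y', hxy', hgc⟩ := hpair a c hca.symm
    obtain ⟨x'', y'', hxy'', hgd⟩ := hpair a d hda.symm
    have hcb : c ≠ b := by rintro rfl; exact hcx (by rw [hgb]; exact (pr_one_iff hxy).2 (Or.inl rfl))
    have hdb : d ≠ b := by rintro rfl; exact hdy (by rw [hgb]; exact (pr_one_iff hxy).2 (Or.inr rfl))
    rw [hgc] at hcx
    rw [hgd] at hdy
    have nc : x ≠ x' ∧ x ≠ y' := ⟨fun h => hcx ((pr_one_iff hxy').2 (Or.inl h)),
      fun h => hcx ((pr_one_iff hxy').2 (Or.inr h))⟩
    have nd : y ≠ x'' ∧ y ≠ y'' := ⟨fun h => hdy ((pr_one_iff hxy'').2 (Or.inl h)),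
      fun h => hdy ((pr_one_iff hxy'').2 (Or.inr h))⟩
    have hc1 := hone hb hca hcb.symm hxy hxy' hgb hgc
    have hd1 := hone hb hda hdb.symm hxy hxy'' hgb hgd
    -- `g (a c) = {y, z}`, `g (a d) = {x, w}`
    obtain ⟨z, hzy, hgc'⟩ : ∃ z, y ≠ z ∧ g (pr a c) = pr y z := by
      rcases hc1 with h | h | h | h
      · exact absurd h nc.1
      · exact absurd h nc.2
      · exact ⟨y', h ▸ hxy', h ▸ hgc⟩
      · exact ⟨x', h ▸ hxy'.symm, by rw [hgc, pr_comm, h]⟩
    obtain ⟨w, hwx, hgd'⟩ : ∃ w, x ≠ w ∧ g (pr a d) = pr x w := by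
      rcases hd1 with h | h | h | h
      · exact ⟨y'', h ▸ hxy'', h ▸ hgd⟩
      · exact ⟨x'', h ▸ hxy''.symm, by rw [hgd, pr_comm, h]⟩
      · exact absurd h nd.1
      · exact absurd h nd.2
    have hcd : c ≠ d := by
      rintro rfl
      exact hdy (by rw [← hgd, hgc']; exact (pr_one_iff hzy).2 (Or.inl rfl))
    have hxz : x ≠ z := fun h => hcx (by
      rw [← hgc, hgc']; exact (pr_one_iff hzy).2 (Or.inr h))
    have hyw : y ≠ w := fun h => hdy (by
      rw [← hgd, hgd']; exact (pr_one_iff hwx).2 (Or.inr h))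
    rcases hone hca hda hcd hzy hwx hgc' hgd' with h | h | h | h
    · exact hxy h.symm
    · exact hyw h
    · exact hxz h.symm
    · subst h
      have e : g (pr a b) + g (pr a c) + g (pr a d) = 0 := by
        rw [hgb, hgc', hgd', pr_add, ]
        funext i; exact CharTwo.add_self_eq_zero (pr x z i)
      have hs1 : ∑ i, (pr a b + pr a c) i = 0 := by
        simp [Finset.sum_add_distrib, pr_sum]
      rw [← hadd _ _ (pr_sum _ _) (pr_sum _ _), ← hadd _ _ hs1 (pr_sum _ _)] at e
      have := congrFun (hinj _ (by simp [Finset.sum_add_distrib, pr_sum]) e) b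
      simp [pr_apply, hb, hcb.symm, hdb.symm] at this
  choose π hπ using hcommon
  have hπne : ∀ {a b : Fin n}, a ≠ b → π a ≠ π b := by
    intro a b hab heq
    obtain ⟨c, hca, hcb⟩ : ∃ c, c ≠ a ∧ c ≠ b := by
      by_contra h
      push Not at h
      have hcard : Fintype.card (Fin n) ≤ ({a, b} : Finset (Fin n)).card := by
        rw [← Finset.card_univ]
        refine Finset.card_le_card fun x _ => ?_
        rw [Finset.mem_insert, Finset.mem_singleton]
        exact or_iff_not_imp_left.2 (h x)
      rw [Finset.card_pair hab, Fintype.card_fin] at hcard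
      omega
    have e : g (pr a b) + g (pr a c) = g (pr b c) := by
      rw [← hadd _ _ (pr_sum _ _) (pr_sum _ _), pr_comm a b, pr_add]
    have := congrFun e (π a)
    rw [Pi.add_apply, hπ a b hab.symm, hπ a c hca, heq, hπ b c hcb] at this
    exact absurd this (by decide)
  let πe : Equiv.Perm (Fin n) := Equiv.ofBijective π
    ((Finite.injective_iff_bijective).1 fun a b h => by_contra fun hab => hπne hab h)
  refine ⟨πe, ?_⟩
  have hgp : ∀ a b : Fin n, a ≠ b → g (pr a b) = pr (π a) (π b) := by
    intro a b hab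
    obtain ⟨x, y, hxy, h⟩ := hpair a b hab
    have h1 := hπ a b hab.symm
    have h2 := hπ b a hab
    rw [pr_comm b a, h] at h2
    rw [h, pr_one_iff hxy] at h1
    rw [pr_one_iff hxy] at h2
    have := hπne hab
    rw [h]
    rcases h1 with h1 | h1 <;> rcases h2 with h2 | h2
    · exact absurd (h1.trans h2.symm) this
    · rw [h1, h2]
    · rw [h1, h2, pr_comm]
    · exact absurd (h1.trans h2.symm) this
  intro v hv
  let o : Fin n := ⟨0, by omega⟩
  have hdec : ∀ v : Fin n → ZMod 2, ∑ i, v i = 0 →
      v = ∑ i ∈ Finset.univ.filter (fun i => v i = 1), pr i o := by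
    intro v hv
    funext x
    rw [Finset.sum_apply]
    simp only [pr_apply, Finset.sum_add_distrib, Finset.sum_filter]
    have e1 : ∑ i, (if v i = 1 then (if x = i then (1 : ZMod 2) else 0) else 0) = v x := by
      rw [Finset.sum_eq_single x]
      · rcases zmod_two_cases (v x) with h | h <;> simp [h]
      · intro i _ hi; simp [Ne.symm hi]
      · simp
    have e2 : ∑ i, (if v i = 1 then (if x = o then (1 : ZMod 2) else 0) else 0) = 0 := by
      by_cases hxo : x = o
      · subst hxo
        simp only [if_true]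
        rw [show (∑ i, if v i = 1 then (1 : ZMod 2) else 0) = ∑ i, v i from
          Finset.sum_congr rfl fun i _ => by rcases zmod_two_cases (v i) with h | h <;> simp [h], hv]
      · simp [hxo]
    rw [e1, e2, add_zero]
  have key : ∀ s : Finset (Fin n), g (∑ i ∈ s, pr i o) = fun x => (∑ i ∈ s, pr i o) (πe⁻¹ x) := by
    intro s
    induction s using Finset.induction_on with
    | empty => simp only [Finset.sum_empty, hz]; rfl
    | insert a s ha ih =>
      rw [Finset.sum_insert ha, hadd _ _ (pr_sum _ _) (by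
        simp only [Finset.sum_apply]; rw [Finset.sum_comm]; simp [pr_sum]), ih]
      funext x
      simp only [Pi.add_apply]
      congr 1
      by_cases hao : a = o
      · subst hao
        rw [show pr o o = (0 : Fin n → ZMod 2) from funext fun i => by
          simp only [pr_apply]; exact CharTwo.add_self_eq_zero _, hz]; rfl
      · rw [hgp a o hao]
        simp only [pr_apply, Equiv.Perm.inv_eq_iff_eq]
        rfl
  rw [hdec v hv]
  exact key _

end Alt

end Cfsg.Agent.BlockNormal16
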