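import Mathlib
import Cfsg.Agent.Lib.BlockNormal16Natural

/-!
# Abelian groups of semilinear maps of exponent `p` with many fixed points
-/

set_option autoImplicit false
set_option linter.style.haveILetI false

namespace Cfsg.Agent.BlockNormal16

open scoped Classical

variable {F : Type} [Field F] [Fintype F] {p n : ℕ} [Fact p.Prime]

/-- Hypotheses: a commutative action of exponent `p` by semilinear maps fixing `v₀ ≠ 0`. -/
structure SemiAct (p : ℕ) {A : Type*} [CommGroup A] (act : A → (Fin 2 → F) → (Fin 2 → F)) : Prop where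
  mul : ∀ a b v, act (a * b) v = act a (act b v)
  one : ∀ v, act 1 v = v
  add : ∀ a u v, act a (u + v) = act a u + act a v
  semi : ∀ a, ∃ σ : F → F, ∀ (c : F) v, act a (c • v) = σ c • act a v
  exp : ∀ a : A, a ^ p = 1
  big : Fintype.card F * Fintype.card F ≤
    (Set.range act).ncard * {v | ∀ a, act a v = v}.ncard

variable {A : Type*} [CommGroup A] {act : A → (Fin 2 → F) → (Fin 2 → F)}

omit [Fintype F] in
theorem exists_coords_inj {u v : Fin 2 → F} (hv : v ≠ 0) (hu : ∀ c : F, u ≠ c • v) :
    Function.Injective fun x : F × F => x.1 • u + x.2 • v := by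
  rintro ⟨a, b⟩ ⟨a', b'⟩ h
  simp only at h
  have h' : (a - a') • u = (b' - b) • v := by
    rw [sub_smul, sub_smul, sub_eq_sub_iff_add_eq_add, h, add_comm]
  by_cases ha : a - a' = 0
  · rw [ha, zero_smul, eq_comm, smul_eq_zero] at h'
    exact Prod.ext (sub_eq_zero.1 ha) (sub_eq_zero.1 (h'.resolve_right hv)).symm
  · refine absurd ?_ (hu ((a - a')⁻¹ * (b' - b)))
    rw [mul_smul, ← h', ← mul_smul, inv_mul_cancel₀ ha, one_smul]

theorem exists_coords {u v : Fin 2 → F} (hv : v ≠ 0) (hu : ∀ c : F, u ≠ c • v) (w : Fin 2 → F) :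
    ∃ a b : F, w = a • u + b • v := by
  have hb := (Fintype.bijective_iff_injective_and_card _).2
    ⟨exists_coords_inj hv hu, by simp [sq]⟩
  obtain ⟨⟨a, b⟩, h⟩ := hb.2 w
  exact ⟨a, b, h.symm⟩

variable (hcard : Fintype.card F = p ^ n) (h : SemiAct p act) {v₀ : Fin 2 → F} (hv₀ : v₀ ≠ 0)
  (hfix : ∀ a, act a v₀ = v₀)

include h in
theorem act_ne_zero {a : A} {v : Fin 2 → F} (hv : v ≠ 0) : act a v ≠ 0 := by
  intro h0
  apply hv
  have hz : act a⁻¹ 0 = 0 := by
    have h1 := h.add a⁻¹ 0 0
    rw [add_zero] at h1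
    exact left_eq_add.1 h1
  have := h.mul a⁻¹ a v
  rw [inv_mul_cancel, h.one, h0, hz] at this
  exact this

include hcard h hv₀ hfix in
/-- A linear element: `u ↦ u + ν • v₀`. -/
theorem linear_form {a : A} (hl : ∀ (c : F) v, act a (c • v) = c • act a v) {u : Fin 2 → F}
    (hu : ∀ c : F, u ≠ c • v₀) : ∃ ν : F, act a u = u + ν • v₀ := by
  obtain ⟨μ, ν, hμ⟩ := exists_coords hv₀ hu (act a u)
  refine ⟨ν, ?_⟩
  have key : ∀ j : ℕ, ∃ x : F, act (a ^ j) u = μ ^ j • u + x • v₀ := by
    intro j
    induction j with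
    | zero => exact ⟨0, by simp [h.one]⟩
    | succ j ih =>
      obtain ⟨x, hx⟩ := ih
      refine ⟨μ ^ j * ν + x, ?_⟩
      rw [pow_succ', h.mul, hx, h.add, hl, hl, hμ, hfix, smul_add, smul_smul, smul_smul,
        add_smul, pow_succ, add_assoc]
  obtain ⟨x, hx⟩ := key p
  rw [h.exp, h.one] at hx
  have h1 : ((1 : F), (0 : F)) = (μ ^ p, x) := by
    apply exists_coords_inj hv₀ hu
    simpa using hx
  have h2 : μ ^ p ^ 1 = 1 := by rw [pow_one]; exact (Prod.ext_iff.1 h1).1.symm
  rw [eq_one_of_pow_prime_pow hcard h2, one_smul] at hμ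
  exact hμ

include hcard h hv₀ hfix in
/-- All the maps are linear. -/
theorem linear_of_big (a₀ : A) (c₀ : F) (v : Fin 2 → F) :
    act a₀ (c₀ • v) = c₀ • act a₀ v := by
  choose σ hσ using h.semi
  have huniq : ∀ (a : A) {w : Fin 2 → F}, w ≠ 0 → ∀ c d : F, σ a c • act a w = d • act a w → σ a c = d :=
    fun a w hw c d hcd => by
      by_contra hne
      exact act_ne_zero h hw ((smul_eq_zero.1 (by rw [sub_smul, hcd, sub_self] :
        (σ a c - d) • act a w = 0)).resolve_left (sub_ne_zero.2 hne))
  by_contra hne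
  have hσ0 : σ a₀ c₀ ≠ c₀ := fun e => hne (by rw [hσ, e])
  -- the fixed field of `σ a₀`
  have hfixv : ∀ a c, act a (c • v₀) = σ a c • v₀ := fun a c => by rw [hσ, hfix]
  have hmul : ∀ a c d, σ a (c * d) = σ a c * σ a d := fun a c d => by
    refine huniq a hv₀ _ _ ?_
    rw [← hσ, mul_smul, hσ, hσ, mul_smul]
  have hadd : ∀ a c d, σ a (c + d) = σ a c + σ a d := fun a c d => by
    refine huniq a hv₀ _ _ ?_
    rw [← hσ, add_smul, h.add, hσ, hσ, add_smul]
  have hzero : ∀ a, σ a 0 = 0 := fun a => by
    have := hadd a 0 0; rw [add_zero] at this; exact left_eq_add.1 this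
  set K : Finset F := Finset.univ.filter fun c => σ a₀ c = c with hK
  set r := K.card with hr
  have hr2 : r * r ≤ Fintype.card F := by
    rw [hr, ← Finset.card_product, ← Finset.card_univ]
    refine Finset.card_le_card_of_injOn (fun x => x.1 + x.2 * c₀) (fun _ _ => Finset.mem_univ _) ?_
    rintro ⟨a, b⟩ hab ⟨a', b'⟩ hab' e
    simp only [Finset.coe_product, Set.mem_prod, Finset.mem_coe, hK, Finset.mem_filter,
      Finset.mem_univ, true_and] at hab hab'
    simp only at e
    have e1 := congrArg (σ a₀) e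
    rw [hadd, hadd, hmul, hmul, hab.1, hab.2, hab'.1, hab'.2] at e1
    have hbb : b = b' := by
      by_contra hne'
      apply hσ0
      have : (b - b') * σ a₀ c₀ = (b - b') * c₀ := by linear_combination e1 - e
      exact mul_left_cancel₀ (sub_ne_zero.2 hne') this
    subst hbb
    exact Prod.ext (add_right_cancel e) rfl
  obtain ⟨u, hu⟩ : ∃ u : Fin 2 → F, ∀ c : F, u ≠ c • v₀ := by
    by_contra hcon
    push Not at hcon
    have hle : Fintype.card (Fin 2 → F) ≤ Fintype.card F :=
      Fintype.card_le_of_surjective (fun c : F => c • v₀) fun u => by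
        obtain ⟨c, hc⟩ := hcon u; exact ⟨c, hc.symm⟩
    rw [Fintype.card_fun, Fintype.card_fin] at hle
    have := Fintype.one_lt_card (α := F)
    nlinarith
  -- fixed vectors
  set C := {v : Fin 2 → F | ∀ a, act a v = v} with hC
  obtain ⟨ζ, hζ⟩ := IsCyclic.exists_generator (α := Fˣ)
  have hdet : ∀ a b, σ a ζ = σ b ζ → σ a = σ b := by
    intro a b e
    funext c
    by_cases hc : c = 0
    · rw [hc, hzero, hzero]
    obtain ⟨k, hk⟩ := (mem_powers_iff_mem_zpowers (x := ζ)).2 (hζ (Units.mk0 c hc))
    have hk' : (ζ : F) ^ k = c := by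
      have := congrArg Units.val hk; simpa using this
    have hp : ∀ a k, σ a ((ζ : F) ^ (k + 1)) = σ a ζ ^ (k + 1) := fun a k => by
      induction k with
      | zero => simp
      | succ k ih => rw [pow_succ, hmul, ih, pow_succ _ (k + 1)]
    rcases k with _ | k
    · rw [pow_zero] at hk'
      subst hk'
      have h1 : ∀ a, σ a 1 = 1 := fun a => huniq a hv₀ _ _ (by rw [← hσ, one_smul, one_smul])
      rw [h1, h1]
    · rw [← hk', hp, hp, e]
  set Sig : Finset F := Finset.univ.erase 0 with hSig
  have hσζ : ∀ a, σ a ζ ∈ Sig := fun a => by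
    refine Finset.mem_erase.2 ⟨fun e => ?_, Finset.mem_univ _⟩
    have h2 : act a ((ζ : F) • v₀) = 0 := by rw [hfixv, e, zero_smul]
    exact act_ne_zero h (smul_ne_zero ζ.ne_zero hv₀) h2
  have hsame : ∀ a b, σ a = σ b → ∀ (c : F) (w : Fin 2 → F), act (a * b⁻¹) (c • w) = c • act (a * b⁻¹) w := by
    intro a b e c w
    set y := act b⁻¹ w with hy
    have hw : act b y = w := by rw [hy, ← h.mul, mul_inv_cancel, h.one]
    have hc' : act b (σ b⁻¹ c • y) = σ b (σ b⁻¹ c) • w := by rw [hσ, hw]
    have hback : act b⁻¹ (c • w) = σ b⁻¹ c • y := hσ _ _ _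
    have hid : σ b (σ b⁻¹ c) = c := by
      refine huniq b hv₀ _ _ ?_
      rw [← hσ, ← hfixv, ← h.mul, mul_inv_cancel, h.one, hfix]
    rw [h.mul, hback, hσ, e, hid, h.mul]
  have hCv : ∀ c, act a₀ (c • v₀) = c • v₀ → c ∈ K := fun c hc => by
    rw [hfixv] at hc
    refine Finset.mem_filter.2 ⟨Finset.mem_univ _, ?_⟩
    exact smul_left_injective F hv₀ hc
  have hbound : (Set.range act).ncard * C.ncard ≤ (Sig.card * r) * r ∨
      (Set.range act).ncard * C.ncard ≤ Sig.card * (r * r) := by
    by_cases hCu : ∃ w ∈ C, ∀ c : F, w ≠ c • v₀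
    · right
      obtain ⟨w, hw, hwv⟩ := hCu
      refine Nat.mul_le_mul ?_ ?_
      · refine le_trans (Set.ncard_le_ncard_of_injOn (t := (Sig : Set F))
          (fun f => σ (Classical.epsilon fun a => act a = f) ζ) (fun f _ => hσζ _) ?_)
          (Set.ncard_coe_finset _).le
        rintro _ ⟨a, rfl⟩ _ ⟨b, rfl⟩ e
        set a' := Classical.epsilon fun x => act x = act a with ha'
        set b' := Classical.epsilon fun x => act x = act b with hb'
        have ea : act a' = act a := Classical.epsilon_spec (p := fun x => act x = act a) ⟨a, rfl⟩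
        have eb : act b' = act b := Classical.epsilon_spec (p := fun x => act x = act b) ⟨b, rfl⟩
        rw [← ea, ← eb]
        have hlin := hsame a' b' (hdet _ _ e)
        funext z
        obtain ⟨x, y, hz⟩ := exists_coords hv₀ hwv (act b' z)
        calc act a' z = act (a' * b'⁻¹) (act b' z) := by rw [← h.mul, inv_mul_cancel_right]
          _ = act b' z := by rw [hz, h.add, hlin, hlin, hw, hfix]
      · rw [hr, ← Finset.card_product, ← Set.ncard_coe_finset]
        choose ca cb hc using exists_coords hv₀ hwv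
        refine Set.ncard_le_ncard_of_injOn (fun z => (ca z, cb z)) (fun z hz => ?_)
          (fun x _ y _ e => by
            simp only [Prod.mk.injEq] at e
            rw [hc x, hc y, e.1, e.2]) (Finset.finite_toSet _)
        have e := hz a₀
        rw [hc z, h.add, hσ, hσ, hw, hfix] at e
        have := exists_coords_inj hv₀ hwv (a₁ := (σ a₀ (ca z), σ a₀ (cb z))) (a₂ := (ca z, cb z)) e
        simp only [Prod.mk.injEq] at this
        simp [hK, this.1, this.2]
    · left
      push Not at hCu
      refine Nat.mul_le_mul ?_ ?_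
      · -- linear elements give an element of `K` after normalisation
        obtain ⟨α, β, ha₀⟩ := exists_coords hv₀ hu (act a₀ u)
        set N : Finset F := Finset.univ.filter fun ν => σ a₀ ν = α * ν with hN
        have hNK : N.card ≤ r := by
          by_cases h0 : ∃ ν ∈ N, ν ≠ 0
          · obtain ⟨ν₀, hν₀, hne0⟩ := h0
            rw [hN, Finset.mem_filter] at hν₀
            have hα : α ≠ 0 := by
              rintro rfl
              have h3 := hν₀.2
              rw [zero_mul] at h3
              exact act_ne_zero h (a := a₀) (smul_ne_zero hne0 hv₀) (by rw [hfixv, h3, zero_smul])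
            refine Finset.card_le_card_of_injOn (fun ν => ν / ν₀) (fun ν hν => ?_)
              (fun x _ y _ e => by field_simp at e; exact e)
            rw [Finset.mem_coe, hN, Finset.mem_filter] at hν
            refine Finset.mem_filter.2 ⟨Finset.mem_univ _, ?_⟩
            have e := hmul a₀ (ν / ν₀) ν₀
            rw [div_mul_cancel₀ _ hne0, hν.2, hν₀.2] at e
            field_simp
            refine mul_left_cancel₀ hα ?_
            linear_combination -e
          · push Not at h0
            refine (Finset.card_le_card (t := {0}) fun x hx => by simp [h0 x hx]).trans ?_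
            rw [Finset.card_singleton]
            exact Finset.card_pos.2 ⟨0, by simp [hK, hzero]⟩
        have key : ∀ f ∈ Set.range act, ∀ g ∈ Set.range act, ∀ a b, act a = f → act b = g →
            σ a = σ b → ∃ ν ∈ N, ∀ z, f z = (act (a * b⁻¹) (g z)) ∧ act (a * b⁻¹) u = u + ν • v₀ := by
          rintro f - g - a b rfl rfl e
          obtain ⟨ν, hν⟩ := linear_form hcard h hv₀ hfix (hsame a b e) hu
          refine ⟨ν, ?_, fun z => ⟨by rw [← h.mul, inv_mul_cancel_right], hν⟩⟩
          refine Finset.mem_filter.2 ⟨Finset.mem_univ _, ?_⟩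
          have e1 : act a₀ (act (a * b⁻¹) u) = act (a * b⁻¹) (act a₀ u) := by
            rw [← h.mul, ← h.mul, mul_comm]
          rw [hν, h.add, hfixv, ha₀, h.add, hsame a b e, hsame a b e, hν, hfix, smul_add,
            smul_smul] at e1
          have e2 : α • u + (β + σ a₀ ν) • v₀ = α • u + (β + α * ν) • v₀ := by
            rw [add_smul, add_smul, ← add_assoc, ← add_assoc]
            rw [e1]; abel
          have := exists_coords_inj hv₀ hu (a₁ := (α, β + σ a₀ ν)) (a₂ := (α, β + α * ν)) e2
          simpa using this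
        set S := (Set.range act).toFinite.toFinset with hS
        rw [Set.ncard_eq_toFinset_card _ (Set.toFinite _), ← hS, mul_comm]
        let ch : (( Fin 2 → F) → (Fin 2 → F)) → A := fun f => Classical.epsilon fun a => act a = f
        have hch : ∀ f ∈ S, act (ch f) = f := fun f hf =>
          Classical.epsilon_spec (p := fun a => act a = f) (by simpa [hS] using hf)
        calc S.card ≤ N.card * Sig.card := ?_
          _ ≤ r * Sig.card := Nat.mul_le_mul_right _ hNK
        refine Finset.card_le_mul_card_image_of_maps_to (f := fun f => σ (ch f) ζ)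
          (fun f _ => hσζ _) N.card fun s _ => ?_
        by_cases hempty : (S.filter fun f => σ (ch f) ζ = s) = ∅
        · simp [hempty]
        obtain ⟨g, hg⟩ := Finset.nonempty_of_ne_empty hempty
        rw [Finset.mem_filter] at hg
        have hmk : ∀ f ∈ S.filter (fun f => σ (ch f) ζ = s), ∃ ν ∈ N,
            ∀ z, f z = (act (ch f * (ch g)⁻¹) (g z)) ∧ act (ch f * (ch g)⁻¹) u = u + ν • v₀ := by
          intro f hf
          rw [Finset.mem_filter] at hf
          exact key f (by simpa [hS] using hf.1) g (by simpa [hS] using hg.1) _ _ (hch f hf.1)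
            (hch g hg.1) (hdet _ _ (hf.2.trans hg.2.symm))
        choose! νf hνN hνf using hmk
        refine Finset.card_le_card_of_injOn νf (fun f hf => hνN f hf) fun f hf f' hf' e => ?_
        funext z
        rw [Finset.mem_coe] at hf hf'
        have hlin : ∀ k ∈ S.filter (fun k => σ (ch k) ζ = s), ∀ (c : F) (w : Fin 2 → F),
            act (ch k * (ch g)⁻¹) (c • w) = c • act (ch k * (ch g)⁻¹) w := fun k hk =>
          hsame _ _ (hdet _ _ ((Finset.mem_filter.1 hk).2.trans hg.2.symm))
        rw [(hνf f hf z).1, (hνf f' hf' z).1]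
        obtain ⟨x, y, hz⟩ := exists_coords hv₀ hu (g z)
        rw [hz, h.add, h.add, hlin f hf, hlin f hf, hlin f' hf', hlin f' hf', (hνf f hf z).2,
          (hνf f' hf' z).2, e, hfix, hfix]
      · rw [hr, ← Set.ncard_coe_finset]
        choose cc hcc using hCu
        refine Set.ncard_le_ncard_of_injOn (fun z => if hz : z ∈ C then cc z hz else 0)
          (fun z hz => ?_) (fun x hx y hy e => ?_) (Finset.finite_toSet _)
        · have e := hz a₀
          simp only [dif_pos hz]
          refine hCv _ ?_
          rw [← hcc z hz, e]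
        · simp only [dif_pos hx, dif_pos hy] at e
          rw [hcc x hx, hcc y hy, e]
  have hSigc : Sig.card < Fintype.card F := by
    rw [hSig, Finset.card_erase_of_mem (Finset.mem_univ _), Finset.card_univ]
    exact Nat.sub_lt Fintype.card_pos one_pos
  have := h.big
  rcases hbound with hb | hb <;> nlinarith

include hcard h hv₀ hfix in
/-- A nontrivial action fixes exactly the line through `v₀`. -/
theorem fixed_eq_line {a : A} {u : Fin 2 → F} (ha : act a u ≠ u) :
    (∀ v, (∀ b, act b v = v) ↔ ∃ c : F, v = c • v₀) ∧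
      (Set.range act).ncard = Fintype.card F := by
  have hl := linear_of_big hcard h hv₀ hfix
  set C := {v : Fin 2 → F | ∀ b, act b v = v} with hC
  set L := Set.range fun c : F => c • v₀ with hL
  have hLcard : L.ncard = Fintype.card F := by
    rw [hL, Set.ncard_range_of_injective (smul_left_injective F hv₀), Nat.card_eq_fintype_card]
  have hu : ∀ c : F, u ≠ c • v₀ := fun c e => ha (by rw [e, hl, hfix])
  have hCL : C ⊆ L := by
    intro w hw
    by_contra hwL
    have hw' : ∀ c : F, w ≠ c • v₀ := fun c e => hwL ⟨c, e.symm⟩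
    obtain ⟨x, y, hz⟩ := exists_coords hv₀ hw' u
    exact ha (by rw [hz, h.add, hl, hl, hw, hfix])
  have hR : (Set.range act).ncard ≤ Fintype.card F := by
    rw [← Nat.card_eq_fintype_card, ← Set.ncard_univ]
    have hex : ∀ f ∈ Set.range act, ∃ ν : F, f u = u + ν • v₀ ∧ ∀ x y : F,
        f (x • u + y • v₀) = x • f u + y • v₀ := by
      rintro _ ⟨b, rfl⟩
      obtain ⟨ν, hν⟩ := linear_form hcard h hv₀ hfix (hl b) hu
      exact ⟨ν, hν, fun x y => by rw [h.add, hl, hl, hfix]⟩
    choose! νf h1 h2 using hex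
    refine Set.ncard_le_ncard_of_injOn νf (fun _ _ => Set.mem_univ _) fun f hf g hg e => ?_
    funext z
    obtain ⟨x, y, hz⟩ := exists_coords hv₀ hu z
    rw [hz, h2 f hf, h2 g hg, h1 f hf, h1 g hg, e]
  have hCle : C.ncard ≤ Fintype.card F := hLcard ▸ Set.ncard_le_ncard hCL (Set.toFinite _)
  have hbig := h.big
  have hpos : 0 < Fintype.card F := Fintype.card_pos
  have hC1 : Fintype.card F ≤ C.ncard := by
    by_contra hlt
    push Not at hlt
    nlinarith
  have hR1 : Fintype.card F ≤ (Set.range act).ncard := by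
    by_contra hlt
    push Not at hlt
    nlinarith
  have heq : C = L := Set.eq_of_subset_of_ncard_le hCL (hLcard.trans_le hC1) (Set.toFinite _)
  refine ⟨fun v => ?_, le_antisymm hR hR1⟩
  show v ∈ C ↔ _
  rw [heq]
  exact ⟨fun ⟨c, hc⟩ => ⟨c, hc.symm⟩, fun ⟨c, hc⟩ => ⟨c, hc.symm⟩⟩

end Cfsg.Agent.BlockNormal16
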