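import Mathlib
import Cfsg.Agent.Lib.BlockNormal16Main
import Cfsg.Agent.Lib.BlockNormal16Semilinear

/-!
# The action of `N(E)` on `W_E / C(E)` for a subnormal block `E`

The Baumann subgroups induce linear maps of determinant 1 in the linear case; in the symmetric
case all of `N(E)` induces permutations.
-/

set_option autoImplicit false
set_option linter.style.haveILetI false

namespace Cfsg.Agent.BlockNormal16

open Subgroup Cfsg BaumannBlockBasics BaumannBlockStructure BaumannSubnormal58
open scoped commutatorElement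

variable {G : Type*} [Group G] [Finite G] {p : ℕ} [Fact p.Prime] {E : Subgroup G}

/-- An element of `W_E` centralised by `J(T)` lies in `Ω₁(Z(J(T)))`. -/
theorem mem_omega_thompson (h : SBlk p E) (T : Sylow p G) {y : G} (hy : y ∈ wE p E)
    (hcJ : ∀ j ∈ thompsonSubgroupOf p (T : Subgroup G), j * y = y * j) :
    y ∈ omegaOne p (centerThompsonOf p (T : Subgroup G)) := by
  have hyp : y ^ p = 1 := omega_pow p _ (BaumannSubnormal58.wE_le h.blk hy)
  refine Offenders.mem_omegaOne (mem_inf.2 ⟨?_, fun j hj => hcJ j hj⟩) hyp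
  obtain ⟨A₁, hA₁⟩ := Offenders.exists_max (G := G) p
  obtain ⟨S, hS⟩ := Offenders.exists_mem_sylow hA₁.1
  obtain ⟨g, hg⟩ := MulAction.exists_smul_eq G S T
  have hA' := Offenders.max_map_equiv hA₁ (MulAut.conj g)
  have hAT : A₁.map (MulAut.conj g).toMonoidHom ≤ (T : Subgroup G) := by
    rintro _ ⟨a, ha, rfl⟩
    rw [← hg]
    exact Subgroup.smul_mem_pointwise_smul a (MulAut.conj g) (S : Subgroup G) (hS ha)
  have hAJ : A₁.map (MulAut.conj g).toMonoidHom ≤ thompsonSubgroupOf p (T : Subgroup G) := by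
    rw [Offenders.thompsonOf_eq]; exact le_sSup (Offenders.max_maxIn hA' hAT)
  exact hAJ (Offenders.mem_max_of_commute hA' hyp fun a ha => hcJ a (hAJ ha))

/-- An equivariant parametrisation `ψ` of `W / C_W(E)` by an additive group. -/
structure Param (p : ℕ) (E : Subgroup G) (V : Type) [AddCommGroup V] (M0 : AddSubgroup V) where
  ψ : ↥(omegaOneCenter p (pCoreOf p E)) →* Multiplicative V
  mem : ∀ u, Multiplicative.toAdd (ψ u) ∈ M0
  sur : ∀ v ∈ M0, ∃ u, Multiplicative.toAdd (ψ u) = v
  ker : ∀ u, ψ u = 1 ↔ (u : G) ∈ omegaOneCenter p (pCoreOf p E) ⊓ centralizer (E : Set G)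

namespace Param

variable {V : Type} [AddCommGroup V] {M0 : AddSubgroup V}

open Classical in
/-- The map induced by `g ∈ N(E)`. -/
noncomputable def act (P : Param p E V M0) (g : G) (v : V) : V :=
  if hv : g ∈ normalizer (E : Set G) ∧ v ∈ M0 then
    Multiplicative.toAdd (P.ψ ⟨g * ((P.sur v hv.2).choose : G) * g⁻¹,
      conj_mem' (le_normalizer_omega (E := E) (zpowers_le.2 hv.1) (mem_zpowers g))
        (P.sur v hv.2).choose.2⟩)
  else v

variable (P : Param p E V M0)

theorem act_spec {g : G} (hg : g ∈ normalizer (E : Set G))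
    (u : ↥(omegaOneCenter p (pCoreOf p E)))
    (hu : g * (u : G) * g⁻¹ ∈ omegaOneCenter p (pCoreOf p E)) :
    P.act g (Multiplicative.toAdd (P.ψ u)) = Multiplicative.toAdd (P.ψ ⟨g * (u : G) * g⁻¹, hu⟩) := by
  have hv : g ∈ normalizer (E : Set G) ∧ Multiplicative.toAdd (P.ψ u) ∈ M0 := ⟨hg, P.mem u⟩
  rw [act, dif_pos hv]
  set u' := (P.sur _ hv.2).choose with hu'
  have he : P.ψ u' = P.ψ u := Multiplicative.toAdd.injective (P.sur _ hv.2).choose_spec
  refine congrArg Multiplicative.toAdd ?_
  have h1 : P.ψ (u' * u⁻¹) = 1 := by rw [map_mul, map_inv, he, mul_inv_cancel]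
  have h2 := (P.ker _).1 h1
  have hgZ : g ∈ normalizer ((omegaOneCenter p (pCoreOf p E) ⊓ centralizer (E : Set G) : Subgroup G) : Set G) :=
    LocalBasics.le_normalizer_inf (le_normalizer_omega (zpowers_le.2 hg))
      (LocalBasics.le_normalizer_centralizer (zpowers_le.2 hg)) (mem_zpowers g)
  have h3 := conj_mem' hgZ h2
  refine mul_inv_eq_one.1 ?_
  rw [← map_inv, ← map_mul]
  refine (P.ker _).2 ?_
  have e : g * ((u' * u⁻¹ : ↥(omegaOneCenter p (pCoreOf p E))) : G) * g⁻¹ =
      (g * (u' : G) * g⁻¹) * (g * (u : G) * g⁻¹)⁻¹ := by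
    rw [Subgroup.coe_mul, Subgroup.coe_inv]; group
  rw [e] at h3
  exact h3

theorem omega_conj {g : G} (hg : g ∈ normalizer (E : Set G))
    (u : ↥(omegaOneCenter p (pCoreOf p E))) : g * (u : G) * g⁻¹ ∈ omegaOneCenter p (pCoreOf p E) :=
  conj_mem' (le_normalizer_omega (zpowers_le.2 hg) (mem_zpowers g)) u.2

theorem act_mem {g : G} (hg : g ∈ normalizer (E : Set G)) {v : V} (hv : v ∈ M0) :
    P.act g v ∈ M0 := by
  obtain ⟨u, rfl⟩ := P.sur v hv
  rw [P.act_spec hg u (omega_conj hg u)]
  exact P.mem _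

theorem act_mul {g g' : G} (hg : g ∈ normalizer (E : Set G)) (hg' : g' ∈ normalizer (E : Set G))
    {v : V} (hv : v ∈ M0) : P.act (g * g') v = P.act g (P.act g' v) := by
  obtain ⟨u, rfl⟩ := P.sur v hv
  rw [P.act_spec hg' u (omega_conj hg' u), P.act_spec (mul_mem hg hg') u (omega_conj (mul_mem hg hg') u),
    P.act_spec hg _ (omega_conj hg _)]
  exact congrArg (fun x => Multiplicative.toAdd (P.ψ x)) (Subtype.ext (by simp [mul_assoc]))

theorem act_one {v : V} (hv : v ∈ M0) : P.act 1 v = v := by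
  obtain ⟨u, rfl⟩ := P.sur v hv
  rw [P.act_spec (one_mem _) u (omega_conj (one_mem _) u)]
  exact congrArg (fun x => Multiplicative.toAdd (P.ψ x)) (Subtype.ext (by simp))

theorem act_add {g : G} (hg : g ∈ normalizer (E : Set G)) {u v : V} (hu : u ∈ M0) (hv : v ∈ M0) :
    P.act g (u + v) = P.act g u + P.act g v := by
  obtain ⟨a, rfl⟩ := P.sur u hu
  obtain ⟨b, rfl⟩ := P.sur v hv
  rw [P.act_spec hg a (omega_conj hg a), P.act_spec hg b (omega_conj hg b), ← toAdd_mul, ← map_mul,
    P.act_spec hg (a * b) (omega_conj hg _), ← toAdd_mul, ← map_mul]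
  exact congrArg (fun x => Multiplicative.toAdd (P.ψ x)) (Subtype.ext (by simp [mul_assoc]))

theorem centralizes_of_act (h : SBlk p E) {g : G} (hg : g ∈ normalizer (E : Set G))
    (hfix : ∀ v ∈ M0, P.act g v = v) : ∀ w ∈ wE p E, g * w = w * g := by
  refine centralizes_wE h hg fun w hw => ?_
  let u : ↥(omegaOneCenter p (pCoreOf p E)) := ⟨w, BaumannSubnormal58.wE_le h.blk hw⟩
  have h1 := hfix _ (P.mem u)
  rw [P.act_spec hg u (omega_conj hg u)] at h1
  have h2 : P.ψ (⟨g * (u : G) * g⁻¹, omega_conj hg u⟩ * u⁻¹) = 1 := by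
    rw [map_mul, map_inv, Multiplicative.toAdd.injective h1, mul_inv_cancel]
  have h3 := ((P.ker _).1 h2).2
  rw [commutatorElement_def]
  exact h3

theorem act_inv_cancel {g : G} (hg : g ∈ normalizer (E : Set G)) {v : V} (hv : v ∈ M0) :
    P.act g⁻¹ (P.act g v) = v := by
  rw [← P.act_mul (inv_mem hg) hg hv, inv_mul_cancel, P.act_one hv]

/-- `ψ` restricted to `W_E`. -/
noncomputable def res (h : SBlk p E) : ↥(wE p E) →* Multiplicative V :=
  P.ψ.comp (Subgroup.inclusion (BaumannSubnormal58.wE_le h.blk))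

theorem res_surjective (h : SBlk p E) {v : V} (hv : v ∈ M0) :
    ∃ w : ↥(wE p E), Multiplicative.toAdd (P.res h w) = v := by
  obtain ⟨u, rfl⟩ := P.sur v hv
  obtain ⟨a, ha, z, hz, e⟩ := exists_decomp h.blk u.2
  refine ⟨⟨a, ha⟩, congrArg Multiplicative.toAdd ?_⟩
  have e' : u = ⟨a, BaumannSubnormal58.wE_le h.blk ha⟩ * ⟨z, hz.1⟩ := Subtype.ext e
  rw [e', map_mul, (P.ker ⟨z, hz.1⟩).2 hz, mul_one]
  rfl

theorem res_ne_zero (h : SBlk p E) {w : G} (hw : w ∈ wE p E) (hc : w ∉ centralizer (E : Set G)) :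
    Multiplicative.toAdd (P.res h ⟨w, hw⟩) ≠ 0 := fun e =>
  hc ((P.ker ⟨w, BaumannSubnormal58.wE_le h.blk hw⟩).1 (toAdd_eq_zero.1 e)).2

theorem act_res (h : SBlk p E) {g : G} (hg : g ∈ normalizer (E : Set G)) (w : ↥(wE p E))
    (hfix : g * (w : G) = w * g) :
    P.act g (Multiplicative.toAdd (P.res h w)) = Multiplicative.toAdd (P.res h w) := by
  refine (P.act_spec hg (Subgroup.inclusion (BaumannSubnormal58.wE_le h.blk) w) (omega_conj hg _)).trans ?_
  refine congrArg (fun x => Multiplicative.toAdd (P.ψ x)) (Subtype.ext ?_)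
  show g * (w : G) * g⁻¹ = w
  rw [hfix, mul_inv_cancel_right]

end Param

section linear

variable {F : Type} [Field F] [Fintype F] {n : ℕ}

/-- The linear case data. -/
structure Lin (p : ℕ) [Fact p.Prime] (E : Subgroup G) (F : Type) [Field F] extends
    Param p E (Fin 2 → F) ⊤ where
  ρ : ↥E →* Matrix.SpecialLinearGroup (Fin 2) F
  range_eq : ρ.range = commutator (Matrix.SpecialLinearGroup (Fin 2) F)
  act_eq : ∀ (e : ↥E) (v : Fin 2 → F),
    toParam.act (e : G) v = (ρ e : Matrix (Fin 2) (Fin 2) F).mulVec v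

variable (L : Lin p E F) (h : SBlk p E) (hcard : Fintype.card F = p ^ n)

theorem act_semilinear {g : G} (hg : g ∈ normalizer (E : Set G)) :
    ∃ σ : F → F, ∀ (c : F) (v : Fin 2 → F), L.act g (c • v) = σ c • L.act g v := by
  let f : (Fin 2 → F) →+ (Fin 2 → F) :=
    AddMonoidHom.mk' (L.act g) fun u v => L.act_add hg trivial trivial
  refine semilinear_of_normalizes f ⟨fun u v e => ?_, fun v => ⟨L.act g⁻¹ v, ?_⟩⟩ fun k hk => ?_
  · have := congrArg (L.act g⁻¹) (show L.act g u = L.act g v from e)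
    rwa [L.act_inv_cancel hg trivial, L.act_inv_cancel hg trivial] at this
  · show L.act g (L.act g⁻¹ v) = v
    rw [← L.act_mul hg (inv_mem hg) trivial, mul_inv_cancel, L.act_one trivial]
  · rw [← L.range_eq] at hk
    obtain ⟨e, rfl⟩ := hk
    refine ⟨L.ρ ⟨g * e * g⁻¹, conj_mem' hg e.2⟩, L.range_eq ▸ ⟨_, rfl⟩, fun v => ?_⟩
    show L.act g ((L.ρ e : Matrix (Fin 2) (Fin 2) F).mulVec v) = _
    rw [← L.act_eq]
    show _ = Matrix.mulVec _ (L.act g v)
    rw [← L.act_eq, ← L.act_mul hg (le_normalizer e.2) trivial,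
      ← L.act_mul (le_normalizer (conj_mem' hg e.2)) hg trivial]
    simp [mul_assoc]

open Classical in
include h in
/-- A largest elementary abelian subgroup gives a big semilinear action. -/
theorem semiAct {A : Subgroup G} (hA : A ∈ maxElementaryAbelianSubgroups p G) :
    letI : CommGroup ↥A := { (inferInstance : Group ↥A) with
      mul_comm := fun a b => Subtype.ext (comm_of_max hA a.2 b.2) }
    SemiAct p (fun (a : ↥A) v => L.act (a : G) v) := by
  have hAN := max_le_normalizer h hA
  letI : CommGroup ↥A := { (inferInstance : Group ↥A) with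
    mul_comm := fun a b => Subtype.ext (comm_of_max hA a.2 b.2) }
  refine ⟨fun a b v => L.act_mul (hAN a.2) (hAN b.2) trivial, fun v => L.act_one trivial,
    fun a u v => L.act_add (hAN a.2) trivial trivial, fun a => act_semilinear L (hAN a.2),
    fun a => Subtype.ext (((Offenders.ea_iff A).1 hA.1).2 _ a.2), ?_⟩
  set W := wE p E with hW
  have hWea : IsElementaryAbelian p W := Offenders.ea_mono
    (Offenders.omegaOne_ea (K := pCore p G ⊓ centralizer (pCore p G : Set G))
      fun x hx y hy => hy.2 x hx.1) (wE_le_vo h.char h.blk)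
  set B := A ⊓ centralizer (W : Set G) with hB
  have h1 := card_le_of_max hA hWea (inf_le_left : B ≤ A)
  have h2 : W ≤ W ⊓ centralizer (B : Set G) := le_inf le_rfl fun w hw b hb => (hb.2 w hw).symm
  set C := W ⊓ centralizer (A : Set G) with hC
  have h3 : C.relIndex W ≤ B.relIndex A := by
    have e1 := HallCore.card_mul_relIndex (inf_le_left : B ≤ A)
    have e2 := HallCore.card_mul_relIndex (inf_le_left : C ≤ W)
    have h4 := (Nat.mul_le_mul_left (Nat.card ↥B) (Subgroup.card_le_of_le h2)).trans h1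
    rw [← e1, ← e2] at h4
    have hpos : 0 < Nat.card ↥B * Nat.card ↥C := Nat.mul_pos Nat.card_pos Nat.card_pos
    refine Nat.le_of_mul_le_mul_left ?_ hpos
    calc Nat.card ↥B * Nat.card ↥C * C.relIndex W = Nat.card ↥B * (Nat.card ↥C * C.relIndex W) := by ring
      _ ≤ Nat.card ↥B * B.relIndex A * Nat.card ↥C := h4
      _ = _ := by ring
  set R := Set.range fun (a : ↥A) (v : Fin 2 → F) => L.act (a : G) v with hR
  have h5 : B.relIndex A ≤ R.ncard := by
    rw [relIndex, Subgroup.index, ← Nat.card_coe_set_eq]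
    refine Nat.card_le_card_of_injective (fun r => (⟨_, ⟨r.out, rfl⟩⟩ : R)) fun r s e => ?_
    rw [← QuotientGroup.out_eq' r, ← QuotientGroup.out_eq' s, QuotientGroup.eq, mem_subgroupOf]
    have e' : ∀ v, L.act ((r.out : ↥A) : G) v = L.act ((s.out : ↥A) : G) v :=
      congrFun (congrArg Subtype.val e)
    refine mem_inf.2 ⟨(r.out⁻¹ * s.out).2, fun w hw => ?_⟩
    refine (L.centralizes_of_act h (hAN (r.out⁻¹ * s.out).2) (fun v _ => ?_) w hw).symm
    show L.act (((r.out : ↥A) : G)⁻¹ * ((s.out : ↥A) : G)) v = v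
    rw [L.act_mul (inv_mem (hAN r.out.2)) (hAN s.out.2) trivial, ← e',
      L.act_inv_cancel (hAN r.out.2) trivial]
  set Cf := {v : Fin 2 → F | ∀ a : ↥A, L.act (a : G) v = v} with hCf
  have h6 : Fintype.card F * Fintype.card F ≤ C.relIndex W * Cf.ncard := by
    set π := L.res h with hπ
    have hsur : Function.Surjective π := fun x => by
      obtain ⟨w, hw⟩ := L.res_surjective h (v := Multiplicative.toAdd x) trivial
      exact ⟨w, Multiplicative.toAdd.injective hw⟩
    have hd := index_map_dvd (C.subgroupOf W) hsur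
    have hle : Nat.card ↥((C.subgroupOf W).map π) ≤ Cf.ncard := by
      rw [← Nat.card_coe_set_eq]
      refine Nat.card_le_card_of_injective
        (fun x => (⟨Multiplicative.toAdd (x : Multiplicative (Fin 2 → F)), ?_⟩ : Cf))
        (fun x y e => by
          have := congrArg Subtype.val e
          exact Subtype.ext (Multiplicative.toAdd.injective this))
      obtain ⟨w, hw, hwx⟩ := x.2
      intro a
      rw [← hwx]
      exact L.act_res h (hAN a.2) w ((mem_inf.1 (mem_subgroupOf.1 hw)).2 a a.2)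
    calc Fintype.card F * Fintype.card F = Nat.card (Multiplicative (Fin 2 → F)) := by
          rw [Nat.card_congr (Multiplicative.toAdd (α := Fin 2 → F)), Nat.card_eq_fintype_card,
            Fintype.card_fun, Fintype.card_fin, sq]
      _ = Nat.card ↥((C.subgroupOf W).map π) * ((C.subgroupOf W).map π).index :=
          (card_mul_index _).symm
      _ ≤ Cf.ncard * C.relIndex W :=
          Nat.mul_le_mul hle (Nat.le_of_dvd (Nat.pos_of_ne_zero index_ne_zero_of_finite) hd)
      _ = _ := mul_comm _ _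
  exact h6.trans (Nat.mul_le_mul_right _ (h3.trans h5))

open Classical in
include h hcard in
/-- The Baumann subgroups act by linear maps of determinant 1. -/
theorem baumann_special {T₀ : Sylow p G} (hz : ⁅E, omegaOneCenter p (T₀ : Subgroup G)⁆ ≠ ⊥)
    (T : Sylow p G) {b : G} (hb : b ∈ baumannSubgroupOf p (T : Subgroup G)) :
    ∃ M : Matrix.SpecialLinearGroup (Fin 2) F, ∀ v,
      L.act b v = (M : Matrix (Fin 2) (Fin 2) F).mulVec v := by
  have hbN := baumann_le_normalizer h hz T hb
  set W := wE p E with hW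
  obtain ⟨y, hyW, hyE, hy⟩ := exists_fixed h hz T
  set v₀ := Multiplicative.toAdd (L.res h ⟨y, hyW⟩) with hv₀
  have hv0 : v₀ ≠ 0 := L.res_ne_zero h hyW hyE
  -- the preimage of the line through `v₀` is centralised by `J(T)`
  have key : ∀ (c : F) (w : ↥(wE p E)), Multiplicative.toAdd (L.res h w) = c • v₀ →
      ∀ j ∈ thompsonSubgroupOf p (T : Subgroup G), j * (w : G) = w * j := by
    intro c w hw
    have hle : thompsonSubgroupOf p (T : Subgroup G) ≤ centralizer ({(w : G)} : Set G) := by
      rw [Offenders.thompsonOf_eq]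
      refine sSup_le fun A hA a ha => mem_centralizer_singleton_iff.2 ?_
      have hAmax := Offenders.maxIn_sylow hA
      have hAN := max_le_normalizer h hAmax
      letI : CommGroup ↥A := { (inferInstance : Group ↥A) with
        mul_comm := fun a b => Subtype.ext (comm_of_max hAmax a.2 b.2) }
      have hs := semiAct L h hAmax
      have hfix : ∀ a : ↥A, L.act (a : G) v₀ = v₀ := fun a =>
        L.act_res h (hAN a.2) _ (hy a (hA.1 a.2) (hAN a.2))
      by_cases htriv : ∀ (a : ↥A) (v : Fin 2 → F), L.act (a : G) v = v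
      · exact L.centralizes_of_act h (hAN ha) (fun v _ => htriv ⟨a, ha⟩ v) w w.2
      push Not at htriv
      obtain ⟨a₁, u, hu⟩ := htriv
      obtain ⟨hline, hrange⟩ := fixed_eq_line hcard hs hv0 hfix hu
      -- the two subgroups of `W_E`
      set C := (W ⊓ centralizer (A : Set G)).subgroupOf W with hC
      set Line : Subgroup (Multiplicative (Fin 2 → F)) :=
        (AddMonoidHom.toMultiplicative (AddMonoidHom.mk' (fun c : F => c • v₀)
          fun x y => add_smul x y v₀)).range with hLine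
      set P := Line.comap (L.res h) with hP
      have hCP : C ≤ P := fun x hx => by
        obtain ⟨c, hc⟩ := (hline (Multiplicative.toAdd (L.res h x))).1 fun b =>
          L.act_res h (hAN b.2) x ((mem_inf.1 (mem_subgroupOf.1 hx)).2 b b.2)
        exact ⟨Multiplicative.ofAdd c, Multiplicative.toAdd.injective hc.symm⟩
      have hsur : Function.Surjective (L.res h) := fun x => by
        obtain ⟨w, hw⟩ := L.res_surjective h (v := Multiplicative.toAdd x) trivial
        exact ⟨w, Multiplicative.toAdd.injective hw⟩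
      have hPi : Fintype.card F ≤ P.index := by
        rw [hP, index_comap_of_surjective _ hsur]
        have h1 := card_mul_index Line
        rw [show Nat.card (Multiplicative (Fin 2 → F)) = Fintype.card F * Fintype.card F by
          rw [Nat.card_congr (Multiplicative.toAdd (α := Fin 2 → F)), Nat.card_eq_fintype_card,
            Fintype.card_fun, Fintype.card_fin, sq]] at h1
        have h2 : Nat.card ↥Line ≤ Fintype.card F := by
          refine (Finite.card_range_le _).trans ?_
          rw [Nat.card_congr (Multiplicative.toAdd (α := F)), Nat.card_eq_fintype_card]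
        refine Nat.le_of_mul_le_mul_left ?_ (Fintype.card_pos (α := F))
        exact h1.symm.le.trans (Nat.mul_le_mul_right _ h2)
      have hCi : C.index ≤ Fintype.card F := by
        have hWea : IsElementaryAbelian p W := Offenders.ea_mono
          (Offenders.omegaOne_ea (K := pCore p G ⊓ centralizer (pCore p G : Set G))
            fun x hx y hy => hy.2 x hx.1) (wE_le_vo h.char h.blk)
        set B := A ⊓ centralizer (W : Set G) with hB
        have g1 := card_le_of_max hAmax hWea (inf_le_left : B ≤ A)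
        have g2 : W ≤ W ⊓ centralizer (B : Set G) := le_inf le_rfl fun w hw b hb => (hb.2 w hw).symm
        have g4 := (Nat.mul_le_mul_left (Nat.card ↥B) (Subgroup.card_le_of_le g2)).trans g1
        have e1 := HallCore.card_mul_relIndex (inf_le_left : B ≤ A)
        have e2 := HallCore.card_mul_relIndex (inf_le_left : W ⊓ centralizer (A : Set G) ≤ W)
        rw [← e1, ← e2] at g4
        have g3 : (W ⊓ centralizer (A : Set G)).relIndex W ≤ B.relIndex A := by
          have hpos : 0 < Nat.card ↥B * Nat.card ↥(W ⊓ centralizer (A : Set G)) :=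
            Nat.mul_pos Nat.card_pos Nat.card_pos
          refine Nat.le_of_mul_le_mul_left ?_ hpos
          calc _ = Nat.card ↥B * (Nat.card ↥(W ⊓ centralizer (A : Set G)) *
                (W ⊓ centralizer (A : Set G)).relIndex W) := by ring
            _ ≤ Nat.card ↥B * B.relIndex A * Nat.card ↥(W ⊓ centralizer (A : Set G)) := g4
            _ = _ := by ring
        refine g3.trans (le_trans ?_ hrange.le)
        rw [relIndex, Subgroup.index, ← Nat.card_coe_set_eq]
        refine Nat.card_le_card_of_injective (fun r =>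
          (⟨_, ⟨r.out, rfl⟩⟩ : Set.range fun (a : ↥A) (v : Fin 2 → F) => L.act (a : G) v)) fun r s e => ?_
        rw [← QuotientGroup.out_eq' r, ← QuotientGroup.out_eq' s, QuotientGroup.eq, mem_subgroupOf]
        have e' : ∀ v, L.act ((r.out : ↥A) : G) v = L.act ((s.out : ↥A) : G) v :=
          congrFun (congrArg Subtype.val e)
        refine mem_inf.2 ⟨(r.out⁻¹ * s.out).2, fun w hw => ?_⟩
        refine (L.centralizes_of_act h (hAN (r.out⁻¹ * s.out).2) (fun v _ => ?_) w hw).symm
        show L.act (((r.out : ↥A) : G)⁻¹ * ((s.out : ↥A) : G)) v = v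
        rw [L.act_mul (inv_mem (hAN r.out.2)) (hAN s.out.2) trivial, ← e',
          L.act_inv_cancel (hAN r.out.2) trivial]
      have heq : C = P := by
        refine Subgroup.eq_of_le_of_card_ge hCP ?_
        have e1 := card_mul_index C
        have e2 := card_mul_index P
        refine Nat.le_of_mul_le_mul_right ?_ (Fintype.card_pos (α := F))
        calc Nat.card ↥P * Fintype.card F ≤ Nat.card ↥P * P.index := Nat.mul_le_mul_left _ hPi
          _ = Nat.card ↥C * C.index := e2.trans e1.symm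
          _ ≤ _ := Nat.mul_le_mul_left _ hCi
      have hwC : w ∈ C := by
        rw [heq]; exact ⟨Multiplicative.ofAdd c, Multiplicative.toAdd.injective hw.symm⟩
      exact (mem_inf.1 (mem_subgroupOf.1 hwC)).2 a ha
    exact fun j hj => mem_centralizer_singleton_iff.1 (hle hj)
  have hfixline : ∀ c : F, L.act b (c • v₀) = c • v₀ := by
    intro c
    obtain ⟨w, hw⟩ := L.res_surjective h (v := c • v₀) trivial
    rw [← hw]
    exact L.act_res h hbN w ((mem_inf.1 hb).2 _ (mem_omega_thompson h T w.2 (key c w hw))).symm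
  obtain ⟨σ, hσ⟩ := act_semilinear L hbN
  have hb0 : L.act b v₀ = v₀ := by simpa using hfixline 1
  have hlin : ∀ (c : F) v, L.act b (c • v) = c • L.act b v := by
    intro c v
    have e := hσ c v₀
    rw [hfixline, hb0] at e
    rw [hσ, ← smul_left_injective F hv0 e]
  let f : (Fin 2 → F) →ₗ[F] (Fin 2 → F) :=
    { toFun := L.act b
      map_add' := fun u v => L.act_add hbN trivial trivial
      map_smul' := hlin }
  set M := LinearMap.toMatrix' f with hM
  have hMv : ∀ v, M.mulVec v = L.act b v := fun v => by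
    rw [hM, ← Matrix.toLin'_apply, Matrix.toLin'_toMatrix']; rfl
  obtain ⟨k, hk⟩ := T.isPGroup' ⟨b, BaumannBlockBasics.baumann_le p _ hb⟩
  have hbk : b ^ p ^ k = 1 := congrArg Subtype.val hk
  have hpow : ∀ (j : ℕ) v, (M ^ j).mulVec v = L.act (b ^ j) v := by
    intro j
    induction j with
    | zero => intro v; rw [pow_zero, pow_zero, Matrix.one_mulVec, L.act_one trivial]
    | succ j ih =>
      intro v
      rw [pow_succ', ← Matrix.mulVec_mulVec, ih, hMv, ← L.act_mul hbN (pow_mem hbN j) trivial,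
        ← pow_succ']
  have hMp : M ^ p ^ k = 1 := Matrix.ext_iff_mulVec.2 fun v => by
    rw [hpow, hbk, L.act_one trivial, Matrix.one_mulVec]
  have hdet : M.det = 1 := by
    have := congrArg Matrix.det hMp
    rw [Matrix.det_pow, Matrix.det_one] at this
    exact eq_one_of_pow_prime_pow hcard this
  exact ⟨⟨M, hdet⟩, fun v => (hMv v).symm⟩

include L h hcard in
/-- A `p'`-element of `B(G)` acts as an element of `E`. -/
theorem exists_same_linear {T₀ : Sylow p G} (hz : ⁅E, omegaOneCenter p (T₀ : Subgroup G)⁆ ≠ ⊥)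
    {f : G} (hf : f ∈ baumannSubgroup p G) (hfo : (orderOf f).Coprime p) :
    ∃ e ∈ E, ∀ w ∈ wE p E, (e⁻¹ * f) * w = w * (e⁻¹ * f) := by
  let X : Subgroup G :=
    { carrier := {g | g ∈ normalizer (E : Set G) ∧ ∃ M : Matrix.SpecialLinearGroup (Fin 2) F,
        ∀ v, L.act g v = (M : Matrix (Fin 2) (Fin 2) F).mulVec v}
      one_mem' := ⟨one_mem _, 1, fun v => by rw [L.act_one trivial]; simp⟩
      mul_mem' := fun {a b} ⟨ha, Ma, hMa⟩ ⟨hb, Mb, hMb⟩ => ⟨mul_mem ha hb, Ma * Mb, fun v => by
        rw [L.act_mul ha hb trivial, hMb, hMa, Matrix.SpecialLinearGroup.coe_mul,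
          Matrix.mulVec_mulVec]⟩
      inv_mem' := fun {a} ⟨ha, Ma, hMa⟩ => ⟨inv_mem ha, Ma⁻¹, fun v => by
        have h1 := L.act_inv_cancel ha (v := ((Ma⁻¹ : Matrix.SpecialLinearGroup (Fin 2) F) :
          Matrix (Fin 2) (Fin 2) F).mulVec v) trivial
        rw [hMa, Matrix.mulVec_mulVec, ← Matrix.SpecialLinearGroup.coe_mul, mul_inv_cancel] at h1
        simpa using h1⟩ }
  have hle : baumannSubgroup p G ≤ X := iSup_le fun T b hb =>
    ⟨baumann_le_normalizer h hz T hb, baumann_special L h hcard hz T hb⟩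
  obtain ⟨hfN, M, hM⟩ := hle hf
  have hMk : M ^ orderOf f = 1 := by
    have hp : ∀ (j : ℕ) v, ((M ^ j : Matrix.SpecialLinearGroup (Fin 2) F) :
        Matrix (Fin 2) (Fin 2) F).mulVec v = L.act (f ^ j) v := by
      intro j
      induction j with
      | zero => intro v; rw [pow_zero, pow_zero, L.act_one trivial]; simp
      | succ j ih =>
        intro v
        rw [pow_succ', Matrix.SpecialLinearGroup.coe_mul, ← Matrix.mulVec_mulVec, ih,
          ← hM, ← L.act_mul hfN (pow_mem hfN j) trivial, ← pow_succ']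
    refine BaumannBlockModules.sl2_faithful _ fun v => ?_
    rw [hp, pow_orderOf_eq_one, L.act_one trivial]
  obtain ⟨e, he⟩ := L.range_eq.ge (mem_commutator_of_coprime hcard hMk hfo)
  refine ⟨e, e.2, L.centralizes_of_act h (mul_mem (inv_mem (le_normalizer e.2)) hfN) fun v _ => ?_⟩
  rw [L.act_mul (inv_mem (le_normalizer e.2)) hfN trivial, hM, ← he, ← L.act_eq,
    L.act_inv_cancel (le_normalizer e.2) trivial]

end linear

section symmetric

/-- In the symmetric case every `2'`-element of `N(E)` acts as an element of `E`. -/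
theorem exists_same_symmetric (h : SBlk p E) {m : ℕ} (hp : p = 2) (hm : 1 ≤ m)
    (M0 : AddSubgroup (Fin (2 * m + 1) → ZMod 2)) (hM0 : ∀ v, v ∈ M0 ↔ ∑ i, v i = 0)
    (P : Param p E (Fin (2 * m + 1) → ZMod 2) M0) (ρ : ↥E →* Equiv.Perm (Fin (2 * m + 1)))
    (hρ : ρ.range = alternatingGroup (Fin (2 * m + 1)))
    (hact : ∀ (e : ↥E) v, v ∈ M0 → P.act (e : G) v = fun i => v ((ρ e)⁻¹ i))
    {f : G} (hfN : f ∈ normalizer (E : Set G)) (hfo : (orderOf f).Coprime p) :
    ∃ e ∈ E, ∀ w ∈ wE p E, (e⁻¹ * f) * w = w * (e⁻¹ * f) := by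
  have hperm : ∃ π : Equiv.Perm (Fin (2 * m + 1)), ∀ v ∈ M0, P.act f v = fun i => v (π⁻¹ i) := by
    obtain ⟨π, hπ⟩ := perm_of_normalizes (n := 2 * m + 1) (by omega) (P.act f)
      (fun u v hu hv => P.act_add hfN ((hM0 u).2 hu) ((hM0 v).2 hv))
      (fun v hv => (hM0 _).1 (P.act_mem hfN ((hM0 v).2 hv)))
      (fun w hw => ⟨P.act f⁻¹ w, (hM0 _).1 (P.act_mem (inv_mem hfN) ((hM0 w).2 hw)), by
        rw [← P.act_mul hfN (inv_mem hfN) ((hM0 w).2 hw), mul_inv_cancel, P.act_one ((hM0 w).2 hw)]⟩)
      (fun v hv hv0 => by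
        rw [← P.act_inv_cancel hfN ((hM0 v).2 hv), hv0]
        have e := P.act_add (inv_mem hfN) (zero_mem M0) (zero_mem M0)
        rw [add_zero] at e
        exact left_eq_add.1 e)
      (fun s hs => by
        rw [← hρ] at hs
        obtain ⟨e, rfl⟩ := hs
        refine ⟨ρ ⟨f * e * f⁻¹, conj_mem' hfN e.2⟩, hρ ▸ ⟨_, rfl⟩, fun v hv => ?_⟩
        have hv' := (hM0 v).2 hv
        rw [← hact e v hv', ← hact _ _ (P.act_mem hfN hv'), ← P.act_mul hfN (le_normalizer e.2) hv',
          ← P.act_mul (le_normalizer (conj_mem' hfN e.2)) hfN hv']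
        simp [mul_assoc])
    exact ⟨π, fun v hv => hπ v ((hM0 v).1 hv)⟩
  obtain ⟨π, hπ⟩ := hperm
  have hmem : ∀ (t : Equiv.Perm (Fin (2 * m + 1))) (v : Fin (2 * m + 1) → ZMod 2), v ∈ M0 →
      (fun i => v (t⁻¹ i)) ∈ M0 := fun t v hv => by
    rw [hM0] at hv ⊢
    rwa [Equiv.sum_comp t⁻¹ v]
  have hp' : ∀ (j : ℕ), ∀ v ∈ M0, P.act (f ^ j) v = fun i => v ((π ^ j)⁻¹ i) := by
    intro j
    induction j with
    | zero => intro v hv; rw [pow_zero, P.act_one hv]; simp
    | succ j ih =>
      intro v hv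
      rw [pow_succ', P.act_mul hfN (pow_mem hfN j) hv, ih v hv, hπ _ (hmem _ v hv)]
      funext i
      rw [pow_succ', mul_inv_rev]
      rfl
  have hπk : π ^ orderOf f = 1 := by
    refine BaumannBlockModules.alt_faithful (by omega) _ fun v hv i => ?_
    have := congrFun (hp' (orderOf f) v ((hM0 v).2 hv)) i
    rwa [pow_orderOf_eq_one, P.act_one ((hM0 v).2 hv), eq_comm] at this
  have hsign : π ∈ alternatingGroup (Fin (2 * m + 1)) := by
    rw [Equiv.Perm.mem_alternatingGroup]
    have h1 := congrArg Equiv.Perm.sign hπk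
    rw [map_pow, map_one] at h1
    have h2 : Equiv.Perm.sign π ^ 2 = 1 := Int.units_sq _
    have h3 := pow_gcd_eq_one.2 ⟨h1, h2⟩
    rw [hp] at hfo
    rwa [hfo, pow_one] at h3
  rw [← hρ] at hsign
  obtain ⟨e, rfl⟩ := hsign
  refine ⟨e, e.2, P.centralizes_of_act h (mul_mem (inv_mem (le_normalizer e.2)) hfN) fun v hv => ?_⟩
  rw [P.act_mul (inv_mem (le_normalizer e.2)) hfN hv, hπ v hv, ← hact e v hv,
    P.act_inv_cancel (le_normalizer e.2) hv]

end symmetric

/-- A `p'`-element of `B(G)` acts on `W_E` as an element of `E`. -/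
theorem exists_same (hG : centralizer (pCore p G : Set G) ≤ pCore p G) {T₀ : Sylow p G}
    (hE : IsBaumannBlock p (T₀ : Subgroup G) E) (hs : E.IsSubnormal)
    {f : G} (hf : f ∈ baumannSubgroup p G) (hfo : (orderOf f).Coprime p) :
    ∃ e ∈ E, ∀ w ∈ wE p E, (e⁻¹ * f) * w = w * (e⁻¹ * f) := by
  have h := sblk_of_block hG hE hs
  have hz := hE.2.2.2.1
  rcases hE.2.2.2.2 with ⟨F, _, _, n, hcard, -, ⟨-, -, ρ, ψ, hρ, hsur, hker, hact⟩, -⟩ |
    ⟨hp, m, -, ⟨-, -, ρ, ψ, hρ, heven, hsur, hker, hact⟩, -⟩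
  · let P : Param p E (Fin 2 → F) ⊤ :=
      { ψ := ψ
        mem := fun _ => trivial
        sur := fun v _ => by
          obtain ⟨u, hu⟩ := hsur (Multiplicative.ofAdd v)
          exact ⟨u, by rw [hu]; rfl⟩
        ker := hker }
    refine exists_same_linear (L := { P with ρ := ρ, range_eq := hρ, act_eq := fun e v => ?_ })
      h hcard hz hf hfo
    obtain ⟨u, rfl⟩ := P.sur v trivial
    obtain ⟨w, hw, hval⟩ := hact e u
    rw [P.act_spec (le_normalizer e.2) u (Param.omega_conj (le_normalizer e.2) u)]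
    show Multiplicative.toAdd (ψ _) = _
    rw [show (⟨(e : G) * (u : G) * (e : G)⁻¹, _⟩ : ↥(omegaOneCenter p (pCoreOf p E))) = w from
      Subtype.ext hw.symm]
    exact hval
  · let M0 : AddSubgroup (Fin (2 * m + 1) → ZMod 2) :=
      { carrier := {v | ∑ i, v i = 0}
        zero_mem' := by simp
        add_mem' := fun {a b} (ha : ∑ i, a i = 0) (hb : ∑ i, b i = 0) => by
          simp [Finset.sum_add_distrib, ha, hb]
        neg_mem' := fun {a} (ha : ∑ i, a i = 0) => by simp [Finset.sum_neg_distrib, ha] }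
    have hm : 1 ≤ m := by
      rcases Nat.eq_zero_or_pos m with rfl | h0
      · exfalso
        apply wE_not_le_centralizer h
        intro w hw
        have hone : ∀ v : Fin (2 * 0 + 1) → ZMod 2, ∑ i, v i = 0 → v = 0 := by
          intro v hv; funext i
          have : i = 0 := Fin.ext (by omega)
          subst this
          simpa using hv
        exact ((hker ⟨w, BaumannSubnormal58.wE_le h.blk hw⟩).1
          (Multiplicative.toAdd.injective (hone _ (heven _)))).2
      · exact h0
    let P : Param p E (Fin (2 * m + 1) → ZMod 2) M0 :=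
      { ψ := ψ
        mem := heven
        sur := fun v hv => hsur v hv
        ker := hker }
    refine exists_same_symmetric h hp hm M0 (fun _ => Iff.rfl) P ρ hρ (fun e v hv => ?_)
      (baumannSubgroup_le_normalizer h hz hf) hfo
    obtain ⟨u, rfl⟩ := P.sur v hv
    obtain ⟨w, hw, hval⟩ := hact e u
    rw [P.act_spec (le_normalizer e.2) u (Param.omega_conj (le_normalizer e.2) u)]
    show Multiplicative.toAdd (ψ _) = _
    rw [show (⟨(e : G) * (u : G) * (e : G)⁻¹, _⟩ : ↥(omegaOneCenter p (pCoreOf p E))) = w from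
      Subtype.ext hw.symm]
    exact funext hval

end Cfsg.Agent.BlockNormal16
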