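import Mathlib
import Cfsg.Agent.Lib.BlockNormal16Action

/-!
# Normalising elements on a natural section, and unipotent facts for `2 × 2` matrices
-/

set_option autoImplicit false
set_option linter.style.haveILetI false

namespace Cfsg.Agent.BlockNormal16

open Subgroup Cfsg BaumannSubnormal58
open scoped commutatorElement

variable {G : Type*} [Group G]

/-- A parametrisation of a section `U / U₀` by an additive group. -/
structure Sec (U U₀ : Subgroup G) (V : Type) [AddCommGroup V] where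
  ψ : ↥U →* Multiplicative V
  sur : ∀ v : V, ∃ u, Multiplicative.toAdd (ψ u) = v
  ker : ∀ u, ψ u = 1 ↔ (u : G) ∈ U₀

namespace Sec

variable {U U₀ : Subgroup G} {V : Type} [AddCommGroup V] (S : Sec U U₀ V)

/-- The normalizer of the section. -/
abbrev nrm (_S : Sec U U₀ V) : Subgroup G := normalizer (U : Set G) ⊓ normalizer (U₀ : Set G)

open Classical in
/-- The map induced by an element of the normalizer. -/
noncomputable def act (g : G) (v : V) : V :=
  if hg : g ∈ normalizer (U : Set G) then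
    Multiplicative.toAdd (S.ψ ⟨g * ((S.sur v).choose : G) * g⁻¹, conj_mem' hg (S.sur v).choose.2⟩)
  else v

theorem act_spec {g : G} (hg : g ∈ S.nrm) (u : ↥U) (hu : g * (u : G) * g⁻¹ ∈ U) :
    S.act g (Multiplicative.toAdd (S.ψ u)) = Multiplicative.toAdd (S.ψ ⟨g * (u : G) * g⁻¹, hu⟩) := by
  rw [act, dif_pos (mem_inf.1 hg).1]
  set u' := (S.sur (Multiplicative.toAdd (S.ψ u))).choose with hu'
  have he : S.ψ u' = S.ψ u :=
    Multiplicative.toAdd.injective (S.sur (Multiplicative.toAdd (S.ψ u))).choose_spec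
  refine congrArg Multiplicative.toAdd ?_
  have h1 : S.ψ (u' * u⁻¹) = 1 := by rw [map_mul, map_inv, he, mul_inv_cancel]
  have h3 := conj_mem' (mem_inf.1 hg).2 ((S.ker _).1 h1)
  refine mul_inv_eq_one.1 ?_
  rw [← map_inv, ← map_mul]
  refine (S.ker _).2 ?_
  have e : g * ((u' * u⁻¹ : ↥U) : G) * g⁻¹ = (g * (u' : G) * g⁻¹) * (g * (u : G) * g⁻¹)⁻¹ := by
    rw [Subgroup.coe_mul, Subgroup.coe_inv]; group
  rw [e] at h3
  exact h3

theorem act_mul {g g' : G} (hg : g ∈ S.nrm) (hg' : g' ∈ S.nrm) (v : V) :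
    S.act (g * g') v = S.act g (S.act g' v) := by
  obtain ⟨u, rfl⟩ := S.sur v
  have h0 := conj_mem' (mem_inf.1 hg').1 u.2
  rw [S.act_spec hg' u h0, S.act_spec hg _ (conj_mem' (mem_inf.1 hg).1 h0),
    S.act_spec (mul_mem hg hg') u (conj_mem' (mem_inf.1 (mul_mem hg hg')).1 u.2)]
  exact congrArg (fun x => Multiplicative.toAdd (S.ψ x)) (Subtype.ext (by simp [mul_assoc]))

theorem act_one (v : V) : S.act 1 v = v := by
  obtain ⟨u, rfl⟩ := S.sur v
  rw [S.act_spec (one_mem _) u (by simp)]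
  exact congrArg (fun x => Multiplicative.toAdd (S.ψ x)) (Subtype.ext (by simp))

theorem act_add {g : G} (hg : g ∈ S.nrm) (u v : V) : S.act g (u + v) = S.act g u + S.act g v := by
  obtain ⟨a, rfl⟩ := S.sur u
  obtain ⟨b, rfl⟩ := S.sur v
  rw [S.act_spec hg a (conj_mem' (mem_inf.1 hg).1 a.2),
    S.act_spec hg b (conj_mem' (mem_inf.1 hg).1 b.2), ← toAdd_mul, ← map_mul,
    S.act_spec hg (a * b) (conj_mem' (mem_inf.1 hg).1 (a * b).2), ← toAdd_mul, ← map_mul]
  exact congrArg (fun x => Multiplicative.toAdd (S.ψ x)) (Subtype.ext (by simp [mul_assoc]))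

/-- An element centralising the section modulo `U₀` induces the identity. -/
theorem act_eq_self {g : G} (hg : g ∈ S.nrm) (h : ∀ u ∈ U, ⁅g, u⁆ ∈ U₀) (v : V) : S.act g v = v := by
  obtain ⟨u, rfl⟩ := S.sur v
  rw [S.act_spec hg u (conj_mem' (mem_inf.1 hg).1 u.2)]
  refine congrArg Multiplicative.toAdd (mul_inv_eq_one.1 ?_)
  rw [← map_inv, ← map_mul]
  refine (S.ker _).2 ?_
  have := h u u.2
  rw [commutatorElement_def] at this
  exact this

/-- `[[u, x], y]` vanishes modulo `U₀` when the maps satisfy `(x - 1)(y - 1) = 0`. -/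
theorem double_commutator_mem {x y : G} (hx : x ∈ S.nrm) (hy : y ∈ S.nrm)
    (h : ∀ v, S.act y (S.act x v - v) = S.act x v - v) {u : G} (hu : u ∈ U) :
    ⁅y, ⁅x, u⁆⁆ ∈ U₀ := by
  have hxu : ⁅x, u⁆ ∈ U := commutatorElement_mem (mem_inf.1 hx).1 hu
  have key := h (Multiplicative.toAdd (S.ψ ⟨u, hu⟩))
  have e : Multiplicative.toAdd (S.ψ ⟨⁅x, u⁆, hxu⟩) =
      S.act x (Multiplicative.toAdd (S.ψ ⟨u, hu⟩)) - Multiplicative.toAdd (S.ψ ⟨u, hu⟩) := by
    have h1 : (⟨⁅x, u⁆, hxu⟩ : ↥U) = ⟨x * u * x⁻¹, conj_mem' (mem_inf.1 hx).1 hu⟩ * ⟨u, hu⟩⁻¹ :=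
      Subtype.ext (by simp [commutatorElement_def])
    rw [h1, S.act_spec hx ⟨u, hu⟩ (conj_mem' (mem_inf.1 hx).1 hu), map_mul, map_inv, toAdd_mul,
      toAdd_inv, sub_eq_add_neg]
  rw [← e, S.act_spec hy ⟨⁅x, u⁆, hxu⟩ (conj_mem' (mem_inf.1 hy).1 hxu)] at key
  have h2 : S.ψ (⟨y * ⁅x, u⁆ * y⁻¹, conj_mem' (mem_inf.1 hy).1 hxu⟩ * (⟨⁅x, u⁆, hxu⟩ : ↥U)⁻¹) = 1 := by
    rw [map_mul, map_inv, Multiplicative.toAdd.injective key, mul_inv_cancel]
  have h3 := (S.ker _).1 h2
  rw [commutatorElement_def y]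
  simpa using h3

theorem act_pow {g : G} (hg : g ∈ S.nrm) {F : Type} [CommRing F] {k : ℕ}
    {S' : Sec U U₀ (Fin k → F)} {M : Matrix (Fin k) (Fin k) F} (hM : ∀ v, S'.act g v = M.mulVec v)
    (j : ℕ) (v : Fin k → F) : S'.act (g ^ j) v = (M ^ j).mulVec v := by
  induction j generalizing v with
  | zero => rw [pow_zero, pow_zero, S'.act_one, Matrix.one_mulVec]
  | succ j ih =>
    rw [pow_succ', S'.act_mul hg (pow_mem hg j), ih, hM, Matrix.mulVec_mulVec, ← pow_succ']

end Sec

section matrices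

variable {F : Type} [Field F]

/-- A `2 × 2` matrix with `M ^ 3 = 1` in characteristic 3 satisfies `(M - 1)² = 0`. -/
theorem sq_zero_of_cube (h3 : (3 : F) = 0) {M : Matrix (Fin 2) (Fin 2) F} (hM : M ^ 3 = 1) :
    (M - 1) * (M - 1) = 0 := by
  set N := M - 1 with hN
  have hMN : M = N + 1 := by rw [hN, sub_add_cancel]
  have hN3 : N * N * N = 0 := by
    have h1 : (N + 1) ^ 3 = N * N * N + (3 : F) • (N * N) + (3 : F) • N + 1 := by
      rw [pow_three]
      simp only [add_mul, mul_add, mul_one, one_mul, ← add_assoc]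
      rw [show (3 : F) = 1 + 1 + 1 by norm_num, add_smul, add_smul, add_smul, add_smul, one_smul,
        one_smul, mul_assoc]
      abel
    rw [← hMN, hM, h3, zero_smul, zero_smul, add_zero, add_zero] at h1
    exact right_eq_add.1 h1
  have hsq : N * N = N.trace • N - N.det • (1 : Matrix (Fin 2) (Fin 2) F) := by
    ext i j
    fin_cases i <;> fin_cases j <;>
      simp [Matrix.mul_apply, Fin.sum_univ_two, Matrix.trace_fin_two, Matrix.det_fin_two] <;> ring
  have hdet : N.det = 0 := by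
    have := congrArg Matrix.det hN3
    rw [Matrix.det_mul, Matrix.det_mul, Matrix.det_zero, mul_eq_zero, mul_eq_zero] at this
    rcases this with (h | h) | h <;> exact h
  rw [hdet, zero_smul, sub_zero] at hsq
  by_cases ht : N.trace = 0
  · rw [hsq, ht, zero_smul]
  · have h2 : N * N * N = (N.trace * N.trace) • N := by
      rw [hsq, smul_mul_assoc, hsq, smul_smul]
    rw [hN3] at h2
    have h4 : N = 0 := (smul_eq_zero.1 h2.symm).resolve_left (mul_ne_zero ht ht)
    rw [h4, mul_zero]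

theorem pow_sub_one_mul (M : Matrix (Fin 2) (Fin 2) F) (hM : (M - 1) * (M - 1) = 0) (i j : ℕ)
    (v : Fin 2 → F) :
    (M ^ j).mulVec ((M ^ i).mulVec v - v) = (M ^ i).mulVec v - v := by
  have hp : ∀ k : ℕ, M ^ k = 1 + (k : F) • (M - 1) := by
    intro k
    induction k with
    | zero => simp
    | succ k ih =>
      conv_lhs => rw [pow_succ, ih, ← sub_add_cancel M 1]
      rw [add_mul, one_mul, mul_add, mul_one, smul_mul_assoc]
      simp only [add_sub_cancel_right, hM, smul_zero, zero_add]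
      push_cast
      rw [add_smul, one_smul]
      abel
  rw [hp i, hp j]
  simp only [Matrix.add_mulVec, Matrix.one_mulVec, add_sub_cancel_left]
  rw [Matrix.mulVec_mulVec, smul_mul_smul_comm, hM, smul_zero, Matrix.zero_mulVec, add_zero]

variable [Fintype F]

/-- A subgroup containing the stabilisers of two independent vectors is everything. -/
theorem sl2_top_of_stabilisers (H : Subgroup (Matrix.SpecialLinearGroup (Fin 2) F))
    {v w : Fin 2 → F} (hv : v ≠ 0) (hw : ∀ c : F, w ≠ c • v)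
    (h1 : ∀ M : Matrix.SpecialLinearGroup (Fin 2) F,
      (M : Matrix (Fin 2) (Fin 2) F).mulVec v = v → M ∈ H)
    (h2 : ∀ M : Matrix.SpecialLinearGroup (Fin 2) F,
      (M : Matrix (Fin 2) (Fin 2) F).mulVec w = w → M ∈ H)
    (M : Matrix.SpecialLinearGroup (Fin 2) F) : M ∈ H := by
  set g : Matrix (Fin 2) (Fin 2) F := Matrix.of fun i j => if j = 0 then v i else w i with hg
  have hg0 : g.mulVec ![1, 0] = v := by
    funext i; simp [hg, Matrix.mulVec, dotProduct, Fin.sum_univ_two]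
  have hg1 : g.mulVec ![0, 1] = w := by
    funext i; simp [hg, Matrix.mulVec, dotProduct, Fin.sum_univ_two]
  have hdet : IsUnit g.det := by
    rw [← Matrix.isUnit_iff_isUnit_det, ← Matrix.mulVec_injective_iff_isUnit]
    intro x y hxy
    have e : ∀ z : Fin 2 → F, g.mulVec z = z 1 • w + z 0 • v := fun z => by
      funext i; simp [hg, Matrix.mulVec, dotProduct, Fin.sum_univ_two]; ring
    rw [e, e] at hxy
    have := exists_coords_inj hv hw (a₁ := (x 1, x 0)) (a₂ := (y 1, y 0)) hxy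
    simp only [Prod.mk.injEq] at this
    funext i; fin_cases i
    · exact this.2
    · exact this.1
  have hc : ∀ N : Matrix.SpecialLinearGroup (Fin 2) F,
      (g * (N : Matrix (Fin 2) (Fin 2) F) * g⁻¹).det = 1 := fun N => by
    rw [Matrix.det_mul, Matrix.det_mul, mul_comm g.det, mul_assoc, ← Matrix.det_mul,
      Matrix.mul_nonsing_inv _ hdet, Matrix.det_one, mul_one, N.2]
  let φ : Matrix.SpecialLinearGroup (Fin 2) F →* Matrix.SpecialLinearGroup (Fin 2) F :=
    { toFun := fun N => ⟨_, hc N⟩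
      map_one' := Subtype.ext (by simp [Matrix.mul_nonsing_inv _ hdet])
      map_mul' := fun a b => Subtype.ext (by
        show g * ((a * b : Matrix.SpecialLinearGroup (Fin 2) F) : Matrix (Fin 2) (Fin 2) F) * g⁻¹ =
          (g * (a : Matrix (Fin 2) (Fin 2) F) * g⁻¹) * (g * (b : Matrix (Fin 2) (Fin 2) F) * g⁻¹)
        rw [Matrix.SpecialLinearGroup.coe_mul]
        calc g * ((a : Matrix (Fin 2) (Fin 2) F) * b) * g⁻¹
            = g * (a : Matrix (Fin 2) (Fin 2) F) * (g⁻¹ * g) * b * g⁻¹ := by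
              rw [Matrix.nonsing_inv_mul _ hdet]; simp [mul_assoc]
          _ = _ := by simp [mul_assoc]) }
  have hstab : ∀ (N : Matrix.SpecialLinearGroup (Fin 2) F) (e x : Fin 2 → F), g.mulVec e = x →
      (N : Matrix (Fin 2) (Fin 2) F).mulVec e = e →
      ((φ N : Matrix.SpecialLinearGroup (Fin 2) F) : Matrix (Fin 2) (Fin 2) F).mulVec x = x := by
    intro N e x hx hN
    show (g * (N : Matrix (Fin 2) (Fin 2) F) * g⁻¹).mulVec x = x
    rw [← hx, Matrix.mulVec_mulVec, mul_assoc, Matrix.nonsing_inv_mul _ hdet, mul_one,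
      ← Matrix.mulVec_mulVec, hN]
  have hall := sl2_mem_of_transvections (H.comap φ)
    (fun x => h1 _ (hstab _ ![1, 0] v hg0 (by
      rw [BaumannBlockModules.up_coe]; funext i
      fin_cases i <;> simp [Matrix.mulVec, dotProduct, Fin.sum_univ_two])))
    (fun x => h2 _ (hstab _ ![0, 1] w hg1 (by
      rw [BaumannBlockModules.low_coe]; funext i
      fin_cases i <;> simp [Matrix.mulVec, dotProduct, Fin.sum_univ_two])))
  have hinj : Function.Injective φ := fun a b hab => by
    have e := congrArg Subtype.val hab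
    have e1 : g⁻¹ * (g * (a : Matrix (Fin 2) (Fin 2) F) * g⁻¹) * g =
        g⁻¹ * (g * (b : Matrix (Fin 2) (Fin 2) F) * g⁻¹) * g := congrArg (fun X => g⁻¹ * X * g) e
    refine Subtype.ext ?_
    simpa [mul_assoc, Matrix.nonsing_inv_mul _ hdet, ← mul_assoc (g⁻¹) g] using e1
  haveI : Finite (Matrix.SpecialLinearGroup (Fin 2) F) := Finite.of_injective _ Subtype.val_injective
  obtain ⟨N, rfl⟩ := (Finite.injective_iff_bijective.1 hinj).2 M
  exact hall N

end matrices

end Cfsg.Agent.BlockNormal16
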