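import Mathlib
import Cfsg.Agent.Lib.BlockNormal16Section

/-!
# A second block `F`: `[V, F] ≤ W_F`, invariant subgroups of `W_F`, inverting elements
-/

set_option autoImplicit false
set_option linter.style.haveILetI false

namespace Cfsg.Agent.BlockNormal16

open Subgroup Cfsg BaumannBlockBasics BaumannBlockStructure BaumannSubnormal58
open scoped commutatorElement

variable {G : Type*} [Group G] [Finite G] {p : ℕ} [Fact p.Prime] {E F : Subgroup G}

/-- `[Ω₁ Z(O_p(G)), F] ≤ W_F` for every block `F`. -/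
theorem vo_commutator (hF : Blk p F) : ⁅Vo p G, F⁆ ≤ wE p F := by
  have hFn : F ≤ normalizer ((⁅Vo p G, F⁆ : Subgroup G) : Set G) :=
    le_sup_right.trans (le_normalizer_commutator _ _)
  have hY : ⁅Vo p G, F⁆ ≤ Qo p F := (commutator_mono (omega_le p _) le_rfl).trans hF.comR
  have hVn : F ≤ normalizer (Vo p G : Set G) := le_normalizer_vo F
  have hYV : ⁅Vo p G, F⁆ ≤ Vo p G := (Subgroup.le_normalizer_iff_commutator_le_left).1 hVn
  have hW : ⁅Vo p G, F⁆ ≤ Wo p F := by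
    rcases hF.shape with ho | hx
    · exact hY.trans ho.le
    rcases irred_qo hF (⁅Vo p G, F⁆ ⊔ Wo p F) le_sup_right (sup_le hY (wo_le F))
      (LocalBasics.le_normalizer_sup hFn hF.natW.norm) with hc | hc
    · exact le_sup_left.trans hc.le
    exfalso
    apply hx.zne
    rw [← hx.comm, commutator_eq_bot_iff_le_centralizer]
    have hYc : ⁅Vo p G, F⁆ ≤ centralizer (Qo p F : Set G) := by
      intro y hy q hq
      have hq' := hc.ge hq
      rw [← SetLike.mem_coe, Subgroup.coe_mul_of_left_le_normalizer_right _ (Wo p F)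
        (hY.trans (qo_le_normalizer_wo F))] at hq'
      obtain ⟨a, ha, w, hw, rfl⟩ := hq'
      exact ((show Commute a y from omega_comm p _ (hYV ha) (hYV hy)).mul_left
        (show Commute w y from (wo_commute F hw (hY hy)).symm)).eq
    calc Qo p F = ⁅Vo p G, F⁆ ⊔ Wo p F := hc.symm
      _ ≤ _ := sup_le hYc fun w hw q hq => wo_commute F hw hq
  rw [commutator_comm]
  refine commutator_le_of_le_cent (le_of_residual hF.res fun x hx hxo =>
    ⟨hVn hx, le_normalizer_wE Subgroup.le_normalizer hx, fun v hv => ?_⟩)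
  have hw : ⁅x, v⁆ ∈ Wo p F := hW (by
    rw [← commutatorElement_inv]
    exact inv_mem (commutator_mem_commutator hv hx))
  refine mem_of_stab hxo (le_normalizer_wE Subgroup.le_normalizer hx) ?_
    (wo_le_normalizer F (BaumannSubnormal58.wE_le hF) (wo_le F hw))
    ⟨1, by rw [pow_one, omega_pow p _ hw]; exact one_mem _⟩
  rw [← commutatorElement_inv]
  exact inv_mem (commutator_mem_commutator hw hx)

/-- An `F`-invariant subgroup of `W` is central in `F` or contains `W_F`. -/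
theorem wE_dichotomy (hF : Blk p F) {X : Subgroup G} (hX : X ≤ Wo p F)
    (hn : F ≤ normalizer (X : Set G)) : X ≤ centralizer (F : Set G) ∨ wE p F ≤ X := by
  rcases hF.natW.irred (X ⊔ Zo p F) le_sup_right (sup_le hX inf_le_left)
    (LocalBasics.le_normalizer_sup hn le_normalizer_cz) with hc | hc
  · exact Or.inl ((le_sup_left.trans hc.le).trans inf_le_right)
  refine Or.inr (commutator_le.2 fun w hw e he => ?_)
  have hw' := hc.ge hw
  rw [← SetLike.mem_coe, Subgroup.coe_mul_of_right_le_normalizer_left X (Zo p F)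
    ((inf_le_left.trans (wo_le F)).trans (wo_le_normalizer F hX))] at hw'
  obtain ⟨a, ha, y, hy, rfl⟩ := hw'
  have h1 : y * e * y⁻¹ = e := by rw [← hy.2 e he, mul_inv_cancel_right]
  have : ⁅a * y, e⁆ = ⁅a, e⁆ := by
    rw [commutatorElement_def, commutatorElement_def, mul_inv_rev]
    calc a * y * e * (y⁻¹ * a⁻¹) * e⁻¹ = a * (y * e * y⁻¹) * a⁻¹ * e⁻¹ := by group
      _ = _ := by rw [h1]
  rw [this, ← commutatorElement_inv]
  exact inv_mem (commutatorElement_mem (hn he) ha)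

/-- An element inverting `W / Z` inverts `W_E`, provided it is central modulo `C(W)`. -/
theorem inverts_of_neg (hE : Blk p E) {z : G} (hz : z ∈ E)
    (hi : Inverts (Wo p E) (Zo p E) z) {w : G} (hw : w ∈ wE p E) : z * w * z⁻¹ = w⁻¹ := by
  have hWZ : Wo p E ≤ normalizer (Zo p E : Set G) :=
    (wo_le E).trans (wo_le_normalizer E inf_le_left)
  have hab : ⁅Wo p E, Wo p E⁆ ≤ Zo p E := commutator_le.2 fun a ha b hb => by
    rw [commutatorElement_eq_one_iff_mul_comm.2 (omega_comm p _ ha hb)]; exact one_mem _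
  let S : Subgroup G :=
    { carrier := {a | a ∈ Wo p E ∧ z * a * z⁻¹ = a⁻¹}
      one_mem' := ⟨one_mem _, by simp⟩
      mul_mem' := fun {a b} ha hb => ⟨mul_mem ha.1 hb.1, by
        calc z * (a * b) * z⁻¹ = (z * a * z⁻¹) * (z * b * z⁻¹) := by group
          _ = a⁻¹ * b⁻¹ := by rw [ha.2, hb.2]
          _ = b⁻¹ * a⁻¹ := omega_comm p _ (inv_mem ha.1) (inv_mem hb.1)
          _ = _ := (mul_inv_rev a b).symm⟩
      inv_mem' := fun {a} ha => ⟨inv_mem ha.1, by
        calc z * a⁻¹ * z⁻¹ = (z * a * z⁻¹)⁻¹ := by group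
          _ = _ := by rw [ha.2]⟩ }
  suffices h : wE p E ≤ S from (h hw).2
  refine commutator_le.2 fun a ha e he => ⟨BaumannSubnormal58.wE_le hE (commutator_mem_commutator ha he), ?_⟩
  have he' : e * z * e⁻¹ ∈ E := mul_mem (mul_mem he hz) (inv_mem he)
  have hq : e * z * e⁻¹ * z⁻¹ ∈ Qo p E := by
    refine hE.natW.ker _ (mul_mem he' (inv_mem hz)) (inverts_mul hWZ hab (hE.natW.norm he')
      (le_normalizer_cz he') (inv_mem (hE.natW.norm hz)) (inv_mem (le_normalizer_cz hz))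
      (inverts_conj (hE.natW.norm he) (le_normalizer_cz he) hi)
      (inverts_inv hWZ (hE.natW.norm hz) hi)).2.2
  set q := e * z * e⁻¹ * z⁻¹
  set ζ := z * a * z⁻¹ * a with hζdef
  have hζ : ζ ∈ Zo p E := hi a ha
  have h1 : z * a * z⁻¹ = a⁻¹ * ζ := by
    rw [omega_comm p _ (inv_mem ha) hζ.1, hζdef, mul_inv_cancel_right]
  have hea : e * a * e⁻¹ ∈ Wo p E := conj_mem' (hE.natW.norm he) ha
  have hza : z * (e * a⁻¹ * e⁻¹) * z⁻¹ ∈ Wo p E :=
    conj_mem' (hE.natW.norm hz) (conj_mem' (hE.natW.norm he) (inv_mem ha))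
  have h2 : e * ζ * e⁻¹ = ζ := by rw [hζ.2 e he, mul_inv_cancel_right]
  have h3 : z * (e * a⁻¹ * e⁻¹) * z⁻¹ = e * a * e⁻¹ * ζ⁻¹ := by
    calc z * (e * a⁻¹ * e⁻¹) * z⁻¹
        = q * (z * (e * a⁻¹ * e⁻¹) * z⁻¹) * q⁻¹ := by
          rw [wo_commute E hza hq, mul_inv_cancel_right]
      _ = e * (z * a * z⁻¹)⁻¹ * e⁻¹ := by simp only [q]; group
      _ = _ := by
        rw [h1, mul_inv_rev, inv_inv, ← omega_comm p _ ha (inv_mem hζ.1)]
        calc e * (a * ζ⁻¹) * e⁻¹ = e * a * e⁻¹ * (e * ζ * e⁻¹)⁻¹ := by group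
          _ = _ := by rw [h2]
  calc z * ⁅a, e⁆ * z⁻¹ = (z * a * z⁻¹) * (z * (e * a⁻¹ * e⁻¹) * z⁻¹) := by
        rw [commutatorElement_def]; group
    _ = a⁻¹ * ζ * (e * a * e⁻¹ * ζ⁻¹) := by rw [h1, h3]
    _ = a⁻¹ * (ζ * (e * a * e⁻¹)) * ζ⁻¹ := by group
    _ = a⁻¹ * (e * a * e⁻¹) := by rw [omega_comm p _ hζ.1 hea]; group
    _ = (e * a * e⁻¹) * a⁻¹ := omega_comm p _ (inv_mem ha) hea
    _ = _ := by rw [commutatorElement_def]; group

/-- A parametrisation of `W / Z` which is the natural module of `SL₂(K)'`, in the form of the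
definition. -/
theorem exists_inverter (hE : Blk p E) (hp : p ≠ 2) {K : Type} [Field K] [Fintype K] {n : ℕ}
    (hcard : Fintype.card K = p ^ n) (ρ : ↥E →* Matrix.SpecialLinearGroup (Fin 2) K)
    (ψ : ↥(Wo p E) →* Multiplicative (Fin 2 → K))
    (hρ : ρ.range = commutator (Matrix.SpecialLinearGroup (Fin 2) K))
    (hker : ∀ u, ψ u = 1 ↔ (u : G) ∈ Zo p E)
    (hact : ∀ (e : ↥E) (u : ↥(Wo p E)), ∃ w : ↥(Wo p E), (w : G) = (e : G) * (u : G) * (e : G)⁻¹ ∧
      Multiplicative.toAdd (ψ w) = ((ρ e : Matrix.SpecialLinearGroup (Fin 2) K) :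
        Matrix (Fin 2) (Fin 2) K).mulVec (Multiplicative.toAdd (ψ u))) :
    ∃ z ∈ E, (∀ w ∈ wE p E, z * w * z⁻¹ = w⁻¹) ∧ wE p E ⊓ centralizer (E : Set G) = ⊥ := by
  have hodd : Odd p := (Fact.out : p.Prime).odd_of_ne_two hp
  set N : Matrix.SpecialLinearGroup (Fin 2) K :=
    ⟨-1, by simp [Matrix.det_neg]⟩ with hN
  have hNc : (N : Matrix (Fin 2) (Fin 2) K) = -1 := rfl
  have hN2 : N ^ 2 = 1 := Subtype.ext (by
    rw [Matrix.SpecialLinearGroup.coe_pow, hNc, neg_one_sq, Matrix.SpecialLinearGroup.coe_one])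
  obtain ⟨z, hz⟩ := hρ.ge (mem_commutator_of_coprime hcard hN2 (Nat.coprime_two_left.2 hodd))
  have hi : Inverts (Wo p E) (Zo p E) (z : G) := by
    intro w hw
    obtain ⟨u, hu, hval⟩ := hact z ⟨w, hw⟩
    rw [hz] at hval
    simp only [hN, Matrix.neg_mulVec, Matrix.one_mulVec] at hval
    have h1 : ψ (u * ⟨w, hw⟩) = 1 := by
      apply Multiplicative.toAdd.injective
      rw [map_mul, toAdd_mul, hval, neg_add_cancel, toAdd_one]
    have h2 := (hker _).1 h1
    simpa [hu] using h2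
  have hinv := fun w hw => inverts_of_neg hE z.2 hi (w := w) hw
  refine ⟨z, z.2, hinv, eq_bot_iff.2 fun w hw => mem_bot.2 ?_⟩
  have h1 := hinv w hw.1
  rw [hw.2 z z.2, mul_inv_cancel_right] at h1
  have h2 : w ^ 2 = 1 := by rw [pow_two]; exact mul_eq_one_iff_eq_inv.2 h1
  have h3 := pow_gcd_eq_one.2 ⟨h2, omega_pow p _ (BaumannSubnormal58.wE_le hE hw.1)⟩
  rwa [Nat.coprime_two_left.2 hodd, pow_one] at h3

/-- `|W_E| = q²`. -/
theorem card_wE_linear (hE : Blk p E) {K : Type} [Field K] [Fintype K]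
    (ψ : ↥(Wo p E) →* Multiplicative (Fin 2 → K)) (hsur : Function.Surjective ψ)
    (hker : ∀ u, ψ u = 1 ↔ (u : G) ∈ Zo p E) (hbot : wE p E ⊓ centralizer (E : Set G) = ⊥) :
    Nat.card ↥(wE p E) = Fintype.card K ^ 2 := by
  have e : Nat.card (Multiplicative (Fin 2 → K)) = Fintype.card K ^ 2 := by
    rw [Nat.card_congr (Multiplicative.toAdd (α := Fin 2 → K)), Nat.card_eq_fintype_card,
      Fintype.card_fun, Fintype.card_fin]
  rw [← e]
  refine Nat.card_congr (Equiv.ofBijective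
    (ψ.comp (Subgroup.inclusion (BaumannSubnormal58.wE_le hE))) ⟨?_, fun x => ?_⟩)
  · rw [← MonoidHom.ker_eq_bot_iff, eq_bot_iff]
    intro w hw
    have h1 := (hker _).1 hw
    have h2 : (w : G) ∈ wE p E ⊓ centralizer (E : Set G) := ⟨w.2, h1.2⟩
    rw [hbot, mem_bot] at h2
    exact mem_bot.2 (Subtype.ext h2)
  · obtain ⟨u, rfl⟩ := hsur x
    obtain ⟨a, ha, y, hy, he⟩ := exists_decomp hE u.2
    refine ⟨⟨a, ha⟩, ?_⟩
    have hu : u = Subgroup.inclusion (BaumannSubnormal58.wE_le hE) ⟨a, ha⟩ * ⟨y, hy.1⟩ := Subtype.ext he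
    rw [MonoidHom.comp_apply, hu, map_mul ψ, (hker ⟨y, hy.1⟩).2 hy, mul_one]

end Cfsg.Agent.BlockNormal16
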