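import Mathlib
import Cfsg.Agent.Lib.BlockNormal16Pair

/-!
# The action of a second block on `Q_E / W` for an exceptional subnormal block `E`
-/

set_option autoImplicit false
set_option linter.style.haveILetI false

namespace Cfsg.Agent.BlockNormal16

open Subgroup Cfsg BaumannBlockBasics BaumannBlockStructure BaumannSubnormal58
open scoped commutatorElement

variable {G : Type*} [Group G] [Finite G] {p : ℕ} [Fact p.Prime] {E F : Subgroup G}

open Classical in
/-- For exceptional `E`, an element `e⁻¹ f` centralising `W_E` centralises `Q_E / W`. -/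
theorem mem_cent_of_exc (hG : centralizer (pCore p G : Set G) ≤ pCore p G) {T₀ T : Sylow p G}
    (hE : IsBaumannBlock p (T₀ : Subgroup G) E) (hs : E.IsSubnormal) (hx : Exc p E)
    (hF : IsBaumannBlock p (T : Subgroup G) F) {f : G} (hf : f ∈ F) (hfo : (orderOf f).Coprime p)
    {e : G} (he : e ∈ E) (hc : ∀ w ∈ wE p E, (e⁻¹ * f) * w = w * (e⁻¹ * f)) :
    e⁻¹ * f ∈ cent (Qo p E) (Wo p E) := by
  have h := sblk_of_block hG hE hs
  have bE := h.blk
  set N := normalizer (E : Set G) with hN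
  have hFN : F ≤ N := (block_le_baumann hF).trans (baumannSubgroup_le_normalizer h hE.2.2.2.1)
  have hNQ : N ≤ normalizer (Qo p E : Set G) := le_normalizer_qo le_rfl
  have hNW : N ≤ normalizer (Wo p E : Set G) := le_normalizer_omega le_rfl
  set C := N ⊓ centralizer (wE p E : Set G) with hC
  set C0 := C ⊓ cent (Qo p E) (Wo p E) with hC0
  have hNC0 : N ≤ normalizer (C0 : Set G) := by
    refine LocalBasics.le_normalizer_inf (LocalBasics.le_normalizer_inf Subgroup.le_normalizer
      (LocalBasics.le_normalizer_centralizer (le_normalizer_wE le_rfl))) (le_normalizer_cent hNQ hNW)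
  have hNK : N ≤ normalizer ((E ⊔ C0 : Subgroup G) : Set G) :=
    LocalBasics.le_normalizer_sup le_rfl hNC0
  haveI : ((E ⊔ C0).subgroupOf N).Normal := LocalBasics.normal_subgroupOf_of_le hNK
  let π := QuotientGroup.mk' ((E ⊔ C0).subgroupOf N)
  have hπ : ∀ x : ↥N, π x = 1 ↔ (x : G) ∈ E ⊔ C0 := fun x => QuotientGroup.eq_one_iff x
  -- elements of `C` commute with `E` modulo the kernel on `Q / W`
  have hCe : ∀ c ∈ C, ∀ a ∈ E, ⁅c, a⁆ ∈ cent (Qo p E) (Wo p E) := by
    intro c hc' a ha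
    have hEW := le_normalizer_wE (p := p) (Subgroup.le_normalizer (H := E))
    have h1 : ⁅c, a⁆ ∈ E := commutatorElement_mem (mem_inf.1 hc').1 ha
    have h2 : ⁅c, a⁆ ∈ centralizer (wE p E : Set G) := by
      rw [commutatorElement_def, show c * a * c⁻¹ * a⁻¹ = c * (a * c⁻¹ * a⁻¹) by group]
      exact mul_mem (mem_inf.1 hc').2
        (conj_mem' (LocalBasics.le_normalizer_centralizer hEW ha) (inv_mem (mem_inf.1 hc').2))
    exact qo_le_cent bE (BaumannSubnormal58.mem_core_of_centralizes bE h1 fun v hv => (h2 v hv).symm)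
  have hab : ∀ a ∈ C, ∀ b ∈ C, ⁅a, b⁆ ∈ C0 := fun a ha b hb =>
    mem_inf.2 ⟨mul_mem (mul_mem (mul_mem ha hb) (inv_mem ha)) (inv_mem hb),
      commutator_mem_cent (wo_le E) (qo_le_normalizer_wo E) ((commutator_qo_le bE).trans inf_le_left)
        (LocalBasics.le_normalizer_pCoreOf p E) bE.natW.norm hx.natU.irred
        (hNQ (mem_inf.1 ha).1) (hNW (mem_inf.1 ha).1) (hNQ (mem_inf.1 hb).1) (hNW (mem_inf.1 hb).1)
        (hCe a ha) (hCe b hb)⟩
  have hKC : ∀ x ∈ C, x ∈ E ⊔ C0 → x ∈ cent (Qo p E) (Wo p E) := by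
    intro x hx1 hx2
    rw [← SetLike.mem_coe, Subgroup.coe_mul_of_left_le_normalizer_right E C0
      (Subgroup.le_normalizer.trans hNC0)] at hx2
    obtain ⟨a, ha, c, hc', rfl⟩ := hx2
    refine mul_mem (qo_le_cent bE ?_) (mem_inf.1 hc').2
    refine BaumannSubnormal58.mem_core_of_centralizes bE ha fun v hv => ?_
    have h1 : a ∈ centralizer (wE p E : Set G) := by
      simpa using mul_mem (mem_inf.1 hx1).2 (inv_mem (mem_inf.1 (mem_inf.1 hc').1).2)
    exact (h1 v hv).symm
  -- the image of `C` is abelian, with at most one involution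
  let A := (C.subgroupOf N).map π
  have hAc : ∀ x ∈ A, ∀ y ∈ A, x * y = y * x := by
    rintro _ ⟨x, hx', rfl⟩ _ ⟨y, hy', rfl⟩
    rw [← commutatorElement_eq_one_iff_mul_comm, ← map_commutatorElement, hπ]
    exact mem_sup_right (hab x (mem_subgroupOf.1 hx') y (mem_subgroupOf.1 hy'))
  have hinv : ∀ x : ↥N, (x : G) ∈ C → π x ^ 2 = 1 → π x ≠ 1 →
      Inverts (Qo p E) (Wo p E) (x : G) := by
    intro x hxC h2 h1
    have hc2 : (x : G) ^ 2 ∈ cent (Qo p E) (Wo p E) :=
      hKC _ (pow_mem hxC 2) ((hπ (x ^ 2)).1 (by rw [map_pow, h2]))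
    have hcn : (x : G) ∉ cent (Qo p E) (Wo p E) := fun hh =>
      h1 ((hπ x).2 (mem_sup_right (mem_inf.2 ⟨hxC, hh⟩)))
    have hcQ : (x : G) ∈ normalizer (Qo p E : Set G) := hNQ x.2
    have hcW : (x : G) ∈ normalizer (Wo p E : Set G) := hNW x.2
    have hQW := qo_le_normalizer_wo (p := p) E
    have hQQ : ∀ u ∈ Qo p E, ∀ v ∈ Qo p E, ⁅u, v⁆ ∈ Wo p E := fun u hu v hv =>
      ((commutator_qo_le bE).trans inf_le_left) (commutator_mem_commutator hu hv)
    let M : Subgroup G :=
      { carrier := {u | u ∈ Qo p E ∧ (x : G) * u * (x : G)⁻¹ * u ∈ Wo p E}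
        one_mem' := ⟨one_mem _, by simp⟩
        mul_mem' := fun {u v} hu hv => ⟨mul_mem hu.1 hv.1, by
          have hv' : (x : G) * v * (x : G)⁻¹ ∈ Qo p E := conj_mem' hcQ hv.1
          have eq : (x : G) * (u * v) * (x : G)⁻¹ * (u * v) =
              (x : G) * u * (x : G)⁻¹ * (⁅(x : G) * v * (x : G)⁻¹, u⁆ *
                (u * ((x : G) * v * (x : G)⁻¹ * v) * u⁻¹)) * ((x : G) * u * (x : G)⁻¹)⁻¹ *
                ((x : G) * u * (x : G)⁻¹ * u) := by
            simp only [commutatorElement_def]; group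
          rw [eq]
          exact mul_mem (conj_mem' (hQW (conj_mem' hcQ hu.1))
            (mul_mem (hQQ _ hv' _ hu.1) (conj_mem' (hQW hu.1) hv.2))) hu.2⟩
        inv_mem' := fun {u} hu => ⟨inv_mem hu.1, by
          have hu' := conj_mem' hcQ hu.1
          have eq : (x : G) * u⁻¹ * (x : G)⁻¹ * u⁻¹ =
              ((x : G) * u * (x : G)⁻¹)⁻¹ * ((x : G) * u * (x : G)⁻¹ * u)⁻¹ *
                ((x : G) * u * (x : G)⁻¹) := by group
          rw [eq]
          simpa using conj_mem' (inv_mem (hQW hu')) (inv_mem hu.2)⟩ }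
    have hEM : E ≤ normalizer (M : Set G) := by
      refine LocalBasics.le_normalizer_of_conj fun a ha u hu =>
        ⟨conj_mem' (LocalBasics.le_normalizer_pCoreOf p E ha) hu.1, ?_⟩
      have hv : a * u * a⁻¹ ∈ Qo p E := conj_mem' (LocalBasics.le_normalizer_pCoreOf p E ha) hu.1
      have hv' : a * ((x : G) * u * (x : G)⁻¹) * a⁻¹ ∈ Qo p E :=
        conj_mem' (LocalBasics.le_normalizer_pCoreOf p E ha) (conj_mem' hcQ hu.1)
      have eq : (x : G) * (a * u * a⁻¹) * (x : G)⁻¹ * (a * u * a⁻¹) =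
          ⁅⁅(x : G), a⁆, a * ((x : G) * u * (x : G)⁻¹) * a⁻¹⁆ *
            (a * ((x : G) * u * (x : G)⁻¹ * u) * a⁻¹) := by
        simp only [commutatorElement_def]; group
      rw [eq]
      exact mul_mem ((hCe _ hxC a ha).2.2 _ hv') (conj_mem' (bE.natW.norm ha) hu.2)
    have hWM : Wo p E ≤ M := fun u hu =>
      ⟨wo_le E hu, mul_mem (conj_mem' hcW hu) hu⟩
    rcases hx.natU.irred M hWM (fun u hu => hu.1) hEM with hM | hM
    · exfalso
      refine hcn ⟨hcQ, hcW, fun u hu => hM.le ⟨commutatorElement_mem hcQ hu, ?_⟩⟩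
      have eq : (x : G) * ⁅(x : G), u⁆ * (x : G)⁻¹ * ⁅(x : G), u⁆ = ⁅(x : G) ^ 2, u⁆ := by
        simp only [commutatorElement_def, pow_two]; group
      rw [eq]
      exact hc2.2.2 u hu
    · exact fun u hu => (hM.ge hu).2
  have huniq : ∀ a ∈ A, a ^ 2 = 1 → a ≠ 1 → ∀ b ∈ A, b ^ 2 = 1 → b ≠ 1 → a = b := by
    rintro _ ⟨x, hx', rfl⟩ hx2 hx1 _ ⟨y, hy', rfl⟩ hy2 hy1
    have hxC := mem_subgroupOf.1 hx'
    have hyC := mem_subgroupOf.1 hy'
    have h3 := inverts_mul (qo_le_normalizer_wo E) ((commutator_qo_le bE).trans inf_le_left)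
      (hNQ x.2) (hNW x.2) (hNQ y.2) (hNW y.2) (hinv x hxC hx2 hx1) (hinv y hyC hy2 hy1)
    have h4 : π x * π y = 1 := by
      rw [← map_mul, hπ]
      exact mem_sup_right (mem_inf.2 ⟨mul_mem hxC hyC, h3⟩)
    rw [eq_inv_of_mul_eq_one_left h4]
    exact inv_eq_of_mul_eq_one_left (by rwa [pow_two] at hy2)
  -- the image of `F`
  let θ : ↥F →* ↥N ⧸ (E ⊔ C0).subgroupOf N := π.comp (Subgroup.inclusion hFN)
  have hθA : ∀ x : ↥F, θ x ∈ A := by
    have hle : F ≤ ((A.comap π).map N.subtype) := by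
      refine le_of_residual hF.1 fun g hg hgo => ?_
      obtain ⟨a, ha, hac⟩ := exists_same hG hE hs (block_le_baumann hF hg) hgo
      have haC : a⁻¹ * g ∈ C :=
        mem_inf.2 ⟨mul_mem (inv_mem (Subgroup.le_normalizer ha)) (hFN hg), fun v hv => (hac v hv).symm⟩
      refine ⟨⟨g, hFN hg⟩, ⟨⟨a⁻¹ * g, (mem_inf.1 haC).1⟩, mem_subgroupOf.2 haC, ?_⟩, rfl⟩
      rw [← mul_inv_eq_one, ← map_inv, ← map_mul, hπ]
      exact mem_sup_left (by simpa using ha)
    rintro ⟨x, hx'⟩
    obtain ⟨y, hy, hyx⟩ := hle hx'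
    obtain rfl : y = ⟨x, hFN hx'⟩ := Subtype.ext hyx
    exact hy
  have hθQ : ∀ x : ↥F, (x : G) ∈ Qo p F → ∃ k, θ x ^ p ^ k = 1 := fun x hx' => by
    obtain ⟨k, hk⟩ := qo_pGroup F ⟨_, hx'⟩
    have hk' : x ^ p ^ k = 1 := Subtype.ext (congrArg Subtype.val hk :)
    exact ⟨k, by rw [← map_pow, hk', map_one]⟩
  have hθ1 : θ ⟨f, hf⟩ = 1 := by
    rcases block_type hF with hq | ⟨hsm, -⟩
    · -- a perfect quotient
      have hθc : commutator ↥F ≤ θ.ker := by
        rw [commutator_def, commutator_le]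
        intro a _ b _
        rw [MonoidHom.mem_ker, map_commutatorElement, commutatorElement_eq_one_iff_mul_comm]
        exact hAc _ (hθA a) _ (hθA b)
      have hperf := hq.1
      have htop : commutator (↥F ⧸ pCore p ↥F) = ⊤ := hperf.1
      have h1 : (QuotientGroup.mk' (pCore p ↥F)) ⟨f, hf⟩ ∈
          (commutator ↥F).map (QuotientGroup.mk' (pCore p ↥F)) := by
        rw [commutator_def, map_commutator, ← MonoidHom.range_eq_map,
          MonoidHom.range_eq_top.2 (QuotientGroup.mk'_surjective _), ← commutator_def, htop]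
        trivial
      obtain ⟨c, hc', hcf⟩ := h1
      have hq' : ((c⁻¹ * ⟨f, hf⟩ : ↥F) : G) ∈ Qo p F := ⟨_, QuotientGroup.eq.1 hcf, rfl⟩
      obtain ⟨k, hk⟩ := hθQ _ hq'
      rw [map_mul, map_inv, MonoidHom.mem_ker.1 (hθc hc'), inv_one, one_mul] at hk
      have ho : θ ⟨f, hf⟩ ^ orderOf f = 1 := by
        rw [← map_pow, show (⟨f, hf⟩ : ↥F) ^ orderOf f = 1 from Subtype.ext (pow_orderOf_eq_one f),
          map_one]
      have := pow_gcd_eq_one.2 ⟨ho, hk⟩
      rwa [hfo.pow_right k, pow_one] at this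
    · -- a quaternion quotient
      have hp3 : p = 3 := hx.three
      have hcard : Nat.card (↥F ⧸ pCore p ↥F) = 8 := by
        rw [← relIndex_core]
        rcases hsm.card with ⟨hp, -⟩ | ⟨-, h8⟩
        · omega
        · exact h8
      have h8 : ∀ x : ↥F, θ x ^ 8 = 1 := by
        let S : Subgroup ↥F :=
          { carrier := {x | θ x ^ 8 = 1}
            one_mem' := by simp
            mul_mem' := fun {a b} (ha : θ a ^ 8 = 1) (hb : θ b ^ 8 = 1) => by
              show θ (a * b) ^ 8 = 1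
              rw [map_mul, (show Commute (θ a) (θ b) from hAc _ (hθA a) _ (hθA b)).mul_pow, ha, hb,
                one_mul]
            inv_mem' := fun {a} (ha : θ a ^ 8 = 1) => by
              show θ a⁻¹ ^ 8 = 1
              rw [map_inv, inv_pow, ha, inv_one] }
        have hle : F ≤ S.map F.subtype := by
          refine le_of_residual hF.1 fun g hg hgo => ⟨⟨g, hg⟩, ?_, rfl⟩
          have hq' : ((⟨g, hg⟩ ^ 8 : ↥F) : G) ∈ Qo p F := by
            refine ⟨(⟨g, hg⟩ ^ 8 : ↥F), (QuotientGroup.eq_one_iff _).1 ?_, rfl⟩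
            rw [QuotientGroup.mk_pow, ← hcard, pow_card_eq_one']
          obtain ⟨k, hk⟩ := hθQ _ hq'
          rw [map_pow] at hk
          have ho : (θ ⟨g, hg⟩ ^ 8) ^ orderOf g = 1 := by
            rw [← pow_mul, mul_comm, pow_mul, ← map_pow,
              show (⟨g, hg⟩ : ↥F) ^ orderOf g = 1 from Subtype.ext (pow_orderOf_eq_one g), map_one,
              one_pow]
          have := pow_gcd_eq_one.2 ⟨ho, hk⟩
          rw [hgo.pow_right k, pow_one] at this
          exact this
        intro x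
        obtain ⟨y, hy, hyx⟩ := hle x.2
        obtain rfl : y = x := Subtype.ext hyx
        exact hy
      have hBN : baumannSubgroupOf p (T : Subgroup G) ≤ N := baumann_le_normalizer h hE.2.2.2.1 T
      have hBF : baumannSubgroupOf p (T : Subgroup G) ≤ normalizer (F : Set G) :=
        BaumannBlockStructure.block_le_normalizer hF
      have hK : F ≤ E ⊔ C0 := by
        rw [← hF.2.1]
        refine commutator_le.2 fun g hg b hb => ?_
        obtain ⟨k, hk⟩ := T.isPGroup' ⟨b, BaumannBlockBasics.baumann_le p _ hb⟩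
        set β := π ⟨b, hBN hb⟩ with hβ
        have hβk : β ^ 3 ^ k = 1 := by
          rw [hβ, ← map_pow, ← hp3, show (⟨b, hBN hb⟩ : ↥N) ^ p ^ k = 1 from
            Subtype.ext (congrArg Subtype.val hk :), map_one]
        have hst : ∀ y ∈ θ.range, β * y * β⁻¹ ∈ θ.range := by
          rintro _ ⟨x, rfl⟩
          refine ⟨⟨b * x * b⁻¹, conj_mem' (hBF hb) x.2⟩, ?_⟩
          show π ⟨b * x * b⁻¹, _⟩ = π ⟨b, hBN hb⟩ * π ⟨x, hFN x.2⟩ * (π ⟨b, hBN hb⟩)⁻¹
          rw [← map_mul, ← map_inv, ← map_mul]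
          rfl
        have hfix : ∀ j : ℕ, ∀ y ∈ θ.range, y ^ 2 ^ j = 1 → β * y * β⁻¹ = y := by
          intro j
          induction j with
          | zero => intro y _ hy; rw [pow_zero, pow_one] at hy; simp [hy]
          | succ j ih =>
            intro y hy hy2
            have hA' : ∀ y ∈ θ.range, y ∈ A := by rintro _ ⟨x, rfl⟩; exact hθA x
            have hsq : β * y ^ 2 * β⁻¹ = y ^ 2 :=
              ih _ (pow_mem hy 2) (by rwa [← pow_mul, ← pow_succ'])
            set z := β * y * β⁻¹ * y⁻¹ with hz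
            have hzr : z ∈ θ.range := mul_mem (hst y hy) (inv_mem hy)
            have hz2 : z ^ 2 = 1 := by
              rw [hz, (show Commute (β * y * β⁻¹) y⁻¹ from
                hAc _ (hA' _ (hst y hy)) _ (hA' _ (inv_mem hy))).mul_pow, conj_pow, hsq, inv_pow,
                mul_inv_cancel]
            have hzfix : β * z * β⁻¹ = z := by
              by_cases hz1 : z = 1
              · simp [hz1]
              refine huniq _ (hA' _ (hst z hzr)) (by rw [conj_pow, hz2, mul_one, mul_inv_cancel])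
                (fun hh => hz1 (conj_eq_one_iff.1 hh)) _ (hA' _ hzr) hz2 hz1
            have hiter : ∀ i : ℕ, β ^ i * y * (β ^ i)⁻¹ = z ^ i * y := by
              intro i
              induction i with
              | zero => simp
              | succ i ih2 =>
                calc β ^ (i + 1) * y * (β ^ (i + 1))⁻¹
                    = β * (β ^ i * y * (β ^ i)⁻¹) * β⁻¹ := by rw [pow_succ']; group
                  _ = (β * z ^ i * β⁻¹) * (β * y * β⁻¹) := by rw [ih2]; group
                  _ = z ^ i * (z * y) := by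
                    rw [← conj_pow, hzfix, show z * y = β * y * β⁻¹ from inv_mul_cancel_right _ _]
                  _ = _ := by rw [pow_succ, ← mul_assoc]
            have hzk := hiter (3 ^ k)
            rw [hβk, inv_one, one_mul, mul_one, right_eq_mul] at hzk
            have hz1 := pow_gcd_eq_one.2 ⟨hzk, hz2⟩
            rw [(Nat.Coprime.pow_left k (by norm_num : Nat.Coprime 3 2)), pow_one] at hz1
            exact mul_inv_eq_one.1 hz1
        have hc1 : π ⁅(⟨g, hFN hg⟩ : ↥N), ⟨b, hBN hb⟩⁆ = 1 := by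
          rw [map_commutatorElement, commutatorElement_eq_one_iff_mul_comm]
          have := hfix 3 (θ ⟨g, hg⟩) ⟨_, rfl⟩ (h8 _)
          exact (mul_inv_eq_iff_eq_mul.1 this).symm
        exact (hπ _).1 hc1
      exact (hπ _).2 (hK hf)
  have hfK : f ∈ E ⊔ C0 := (hπ _).1 hθ1
  exact hKC _ (mem_inf.2 ⟨mul_mem (inv_mem (Subgroup.le_normalizer he)) (hFN hf), fun v hv => (hc v hv).symm⟩)
    (mul_mem (mem_sup_left (inv_mem he)) hfK)

end Cfsg.Agent.BlockNormal16
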