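import Mathlib
import Cfsg.Agent.Lib.BlockNormal16Exc

/-!
# An exceptional block cannot act on an ordinary subnormal block with `Q_F` in `O_p(G)`
-/

set_option autoImplicit false
set_option linter.style.haveILetI false
set_option maxHeartbeats 1000000

namespace Cfsg.Agent.BlockNormal16

open Subgroup Cfsg BaumannBlockBasics BaumannBlockStructure BaumannSubnormal58
open scoped commutatorElement

variable {G : Type*} [Group G] [Finite G] {p : ℕ} [Fact p.Prime] {E F : Subgroup G}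

/-- All of `B(G)` acts by linear maps of determinant 1. -/
theorem baumannSubgroup_special {K : Type} [Field K] [Fintype K] {n : ℕ} (L : Lin p E K)
    (h : SBlk p E) (hcard : Fintype.card K = p ^ n) {T₀ : Sylow p G}
    (hz : ⁅E, omegaOneCenter p (T₀ : Subgroup G)⁆ ≠ ⊥) {g : G} (hg : g ∈ baumannSubgroup p G) :
    ∃ M : Matrix.SpecialLinearGroup (Fin 2) K, ∀ v,
      L.act g v = (M : Matrix (Fin 2) (Fin 2) K).mulVec v := by
  let X : Subgroup G :=
    { carrier := {g | g ∈ normalizer (E : Set G) ∧ ∃ M : Matrix.SpecialLinearGroup (Fin 2) K,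
        ∀ v, L.act g v = (M : Matrix (Fin 2) (Fin 2) K).mulVec v}
      one_mem' := ⟨one_mem _, 1, fun v => by rw [L.act_one trivial]; simp⟩
      mul_mem' := fun {a b} ⟨ha, Ma, hMa⟩ ⟨hb, Mb, hMb⟩ => ⟨mul_mem ha hb, Ma * Mb, fun v => by
        rw [L.act_mul ha hb trivial, hMb, hMa, Matrix.SpecialLinearGroup.coe_mul,
          Matrix.mulVec_mulVec]⟩
      inv_mem' := fun {a} ⟨ha, Ma, hMa⟩ => ⟨inv_mem ha, Ma⁻¹, fun v => by
        have h1 := L.act_inv_cancel ha (v := ((Ma⁻¹ : Matrix.SpecialLinearGroup (Fin 2) K) :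
          Matrix (Fin 2) (Fin 2) K).mulVec v) trivial
        rw [hMa, Matrix.mulVec_mulVec, ← Matrix.SpecialLinearGroup.coe_mul, mul_inv_cancel] at h1
        simpa using h1⟩ }
  have hle : baumannSubgroup p G ≤ X := iSup_le fun T b hb =>
    ⟨baumann_le_normalizer h hz T hb, baumann_special L h hcard hz T hb⟩
  exact (hle hg).2

open Classical in
theorem exc_contra (hG : centralizer (pCore p G : Set G) ≤ pCore p G) {T₀ T : Sylow p G}
    (hE : IsBaumannBlock p (T₀ : Subgroup G) E) (hs : E.IsSubnormal) (hord : Qo p E = Wo p E)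
    (hF : IsBaumannBlock p (T : Subgroup G) F) (hne : Qo p F ≠ Wo p F)
    (hQR : Qo p F ≤ pCore p G) (hWle : wE p F ≤ wE p E) : False := by
  have h := sblk_of_block hG hE hs
  have bE := h.blk
  have bF := blk_of_block hG hF
  have hz₀ := hE.2.2.2.1
  set W := wE p E with hW
  -- the data of the two blocks
  rcases hF.2.2.2.2 with ⟨K, _, _, n', hcardK, -, ⟨-, -, ρW, ψW, hρW, hsurW, hkerW, hactW⟩, hQ⟩ |
    ⟨-, _, -, -, hQ⟩
  swap; · exact hne hQ
  obtain ⟨hp3, ⟨-, -, ρQ, ψQ, hρQ, hsurQ, hkerQ, hactQ⟩, hcommQ, -, hZ, -, hquad⟩ :=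
    hQ.resolve_left hne
  rcases hE.2.2.2.2 with ⟨K₀, _, _, n, hcard, -, ⟨-, -, ρ, ψ, hρ, hsur, hker, hact⟩, -⟩ |
    ⟨hp2, -⟩
  swap; · omega
  let P : Param p E (Fin 2 → K₀) ⊤ :=
    { ψ := ψ
      mem := fun _ => trivial
      sur := fun v _ => by
        obtain ⟨u, hu⟩ := hsur (Multiplicative.ofAdd v)
        exact ⟨u, by rw [hu]; rfl⟩
      ker := hker }
  let L : Lin p E K₀ := { P with
    ρ := ρ
    range_eq := hρ
    act_eq := fun e v => by
      obtain ⟨u, rfl⟩ := P.sur v trivial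
      obtain ⟨w, hw, hval⟩ := hact e u
      rw [P.act_spec (Subgroup.le_normalizer e.2) u (Param.omega_conj (Subgroup.le_normalizer e.2) u)]
      show Multiplicative.toAdd (ψ _) = _
      rw [show (⟨(e : G) * (u : G) * (e : G)⁻¹, _⟩ : ↥(omegaOneCenter p (pCoreOf p E))) = w from
        Subtype.ext hw.symm]
      exact hval }
  obtain ⟨z, hzE, hzinv, hEbot⟩ := exists_inverter bE (by omega) hcard ρ ψ hρ hker hact
  obtain ⟨-, -, -, hFbot⟩ := exists_inverter bF (by omega) hcardK ρW ψW hρW hkerW hactW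
  -- coordinates on `W`
  set r : ↥W → (Fin 2 → K₀) := fun w => Multiplicative.toAdd (L.res h w) with hr
  have rinj : Function.Injective r := by
    intro x y hxy
    have h1 : L.res h (x * y⁻¹) = 1 := by
      rw [map_mul, map_inv, Multiplicative.toAdd.injective hxy, mul_inv_cancel]
    have h2 : ((x * y⁻¹ : ↥W) : G) ∈ W ⊓ centralizer (E : Set G) :=
      ⟨(x * y⁻¹).2, ((L.ker _).1 h1).2⟩
    rw [hEbot, mem_bot] at h2
    exact mul_inv_eq_one.1 (Subtype.ext h2)
  have hWnorm : normalizer (E : Set G) ≤ normalizer (W : Set G) := le_normalizer_wE le_rfl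
  have racts : ∀ {g : G} (hg : g ∈ normalizer (E : Set G)) (w : ↥W),
      L.act g (r w) = r ⟨g * w * g⁻¹, conj_mem' (hWnorm hg) w.2⟩ := fun {g} hg w =>
    L.act_spec hg (Subgroup.inclusion (BaumannSubnormal58.wE_le bE) w) (Param.omega_conj hg _)
  have hWR : W ≤ pCore p G := fun w hw => h.char (bE.cenR hw)
  have hWc : ∀ w ∈ W, ∀ x ∈ pCore p G, x * w = w * x := fun w hw x hx => bE.cenR hw x hx
  have hpow3 : ∀ w ∈ W, w ^ 3 = 1 := fun w hw => by
    rw [← hp3]; exact omega_pow p _ (BaumannSubnormal58.wE_le bE hw)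
  -- a maximal elementary abelian subgroup moving `W_F`
  obtain ⟨A, hA, a, haA, w, hw, haw⟩ : ∃ A ∈ maxElementaryAbelianSubgroups p G,
      ∃ a, (a ∈ A ∧ A ≤ thompsonSubgroupOf p (T : Subgroup G)) ∧ ∃ w ∈ wE p F, a * w ≠ w * a := by
    by_contra hcon
    push Not at hcon
    apply BaumannBlockCharP.commutator_thompson_ne_bot hG hF
    rw [commutator_eq_bot_iff_le_centralizer]
    intro w hw
    have hle : thompsonSubgroupOf p (T : Subgroup G) ≤ centralizer ({w} : Set G) := by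
      rw [Offenders.thompsonOf_eq]
      refine sSup_le fun A hA a ha => mem_centralizer_singleton_iff.2 ?_
      refine hcon A (Offenders.maxIn_sylow hA) a ⟨ha, ?_⟩ w hw
      rw [Offenders.thompsonOf_eq]; exact le_sSup hA
    exact fun j hj => mem_centralizer_singleton_iff.1 (hle hj)
  obtain ⟨haA, hAJ⟩ := haA
  have hAB : A ≤ baumannSubgroupOf p (T : Subgroup G) :=
    hAJ.trans (BaumannBlockBasics.thompson_le_baumann p _)
  have hAN : A ≤ normalizer (E : Set G) := max_le_normalizer h hA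
  have hAF : A ≤ normalizer (F : Set G) := hAB.trans (BaumannBlockStructure.block_le_normalizer hF)
  have hFB : F ≤ baumannSubgroup p G := block_le_baumann hF
  have hFN : F ≤ normalizer (E : Set G) := hFB.trans (baumannSubgroup_le_normalizer h hz₀)
  letI : CommGroup ↥A := { (inferInstance : Group ↥A) with
    mul_comm := fun a b => Subtype.ext (comm_of_max hA a.2 b.2) }
  have hsA := semiAct L h hA
  obtain ⟨y, hyW, hyE, hy⟩ := exists_fixed h hz₀ T
  set v₀ := r ⟨y, hyW⟩ with hv₀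
  have hv0 : v₀ ≠ 0 := L.res_ne_zero h hyW hyE
  have hfix : ∀ b : ↥A, L.act (b : G) v₀ = v₀ := fun b =>
    L.act_res h (hAN b.2) ⟨y, hyW⟩ (hy b ((hAJ.trans (Offenders.thompsonOf_le _)) b.2) (hAN b.2))
  have hu : L.act a (r ⟨w, hWle hw⟩) ≠ r ⟨w, hWle hw⟩ := by
    rw [racts (hAN haA)]
    intro e
    exact haw (mul_inv_eq_iff_eq_mul.1 (congrArg Subtype.val (rinj e)))
  obtain ⟨hline, hrange⟩ := fixed_eq_line (a := (⟨a, haA⟩ : ↥A)) hcard hsA hv0 hfix hu
  set u := r ⟨w, hWle hw⟩ with hudef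
  -- the image of `W_F`
  let U : AddSubgroup (Fin 2 → K₀) :=
    { carrier := {v | ∃ (x : G) (hx : x ∈ wE p F), r ⟨x, hWle hx⟩ = v}
      zero_mem' := ⟨1, one_mem _, by
        show Multiplicative.toAdd (L.res h 1) = 0
        rw [map_one, toAdd_one]⟩
      add_mem' := by
        rintro _ _ ⟨x, hx, rfl⟩ ⟨x', hx', rfl⟩
        exact ⟨x * x', mul_mem hx hx', by
          rw [hr]; show Multiplicative.toAdd (L.res h (⟨x, hWle hx⟩ * ⟨x', hWle hx'⟩)) = _
          rw [map_mul, toAdd_mul]⟩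
      neg_mem' := by
        rintro _ ⟨x, hx, rfl⟩
        exact ⟨x⁻¹, inv_mem hx, by
          rw [hr]; show Multiplicative.toAdd (L.res h (⟨x, hWle hx⟩⁻¹)) = _
          rw [map_inv, toAdd_inv]⟩ }
  have hFW : normalizer (F : Set G) ≤ normalizer (wE p F : Set G) := le_normalizer_wE le_rfl
  have hUact : ∀ {g : G}, g ∈ normalizer (E : Set G) → g ∈ normalizer (F : Set G) →
      ∀ v ∈ U, L.act g v ∈ U := by
    rintro g hgE hgF _ ⟨x, hx, rfl⟩
    exact ⟨g * x * g⁻¹, conj_mem' (hFW hgF) hx, (racts hgE ⟨x, hWle hx⟩).symm⟩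
  have hlineU : ∀ c : K₀, c • v₀ ∈ U := by
    have hu0 : ∀ c : K₀, u ≠ c • v₀ := fun c e => hu ((hline u).2 ⟨c, e⟩ ⟨a, haA⟩)
    have hd : ∀ b : ↥A, ∃ c : K₀, L.act (b : G) u - u = c • v₀ := by
      intro b
      obtain ⟨Mb, hMb⟩ := baumann_special L h hcard hz₀ T (hAB b.2)
      obtain ⟨α, β, hαβ⟩ := exists_coords hv0 hu0 (L.act (b : G) u)
      have hb3 : ∀ v, L.act ((b : G) ^ 3) v = v := fun v => by
        rw [← hp3, ((Offenders.ea_iff A).1 hA.1).2 _ b.2, L.act_one trivial]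
      have hlin : ∀ x y : K₀, L.act (b : G) (x • u + y • v₀) = x • L.act (b : G) u + y • v₀ := by
        intro x y
        rw [hMb, Matrix.mulVec_add, Matrix.mulVec_smul, Matrix.mulVec_smul, ← hMb, ← hMb, hfix]
      have hα : α = 1 := by
        have h3 := hb3 u
        rw [pow_three, L.act_mul (hAN b.2) (mul_mem (hAN b.2) (hAN b.2)) trivial,
          L.act_mul (hAN b.2) (hAN b.2) trivial, hαβ, hlin, hαβ, smul_add, smul_smul, smul_smul,
          add_assoc, ← add_smul, hlin, hαβ, smul_add, smul_smul, smul_smul, add_assoc, ← add_smul] at h3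
        have h4 := exists_coords_inj hv0 hu0
          (a₁ := (α * α * α, α * α * β + (α * β + β))) (a₂ := (1, 0)) (by simpa using h3)
        simp only [Prod.mk.injEq] at h4
        refine eq_one_of_pow_prime_pow (k := 1) hcard ?_
        rw [pow_one, hp3, ← h4.1]; ring
      exact ⟨β, by rw [hαβ, hα, one_smul, add_sub_cancel_left]⟩
    choose c hc using hd
    have hcU : ∀ b : ↥A, c b • v₀ ∈ U := fun b => by
      rw [← hc]
      exact U.sub_mem (hUact (hAN b.2) (hAF b.2) _ ⟨w, hw, rfl⟩) ⟨w, hw, rfl⟩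
    let ε : (Fin 2 → K₀) → K₀ := fun v =>
      Classical.epsilon fun α : K₀ => ∃ β : K₀, v = α • u + β • v₀
    have hε : ∀ α β : K₀, ε (α • u + β • v₀) = α := by
      intro α β
      obtain ⟨β', hβ'⟩ := Classical.epsilon_spec (p := fun α' : K₀ =>
        ∃ β' : K₀, α • u + β • v₀ = α' • u + β' • v₀) ⟨α, β, rfl⟩
      exact (congrArg Prod.fst (exists_coords_inj hv0 hu0 (a₁ := (α, β))
        (a₂ := (ε (α • u + β • v₀), β')) hβ')).symm
    have hsurc : ∀ x : K₀, ∃ b, c b = x := by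
      have hsub : (Set.range fun (b : ↥A) (v : Fin 2 → K₀) => L.act (b : G) v) ⊆
          (fun (x : K₀) (v : Fin 2 → K₀) =>
            v + ε v • x • v₀) ''
            Set.range c := by
        rintro _ ⟨b, rfl⟩
        refine ⟨c b, ⟨b, rfl⟩, funext fun v => ?_⟩
        obtain ⟨α, β, rfl⟩ := exists_coords hv0 hu0 v
        dsimp only
        rw [hε]
        obtain ⟨Mb, hMb⟩ := baumann_special L h hcard hz₀ T (hAB b.2)
        rw [← hc, hMb (α • u + β • v₀), Matrix.mulVec_add, Matrix.mulVec_smul, Matrix.mulVec_smul,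
          ← hMb, ← hMb, hfix, smul_sub]
        abel
      have h1 : Fintype.card K₀ ≤ (Set.range c).ncard :=
        hrange.symm.le.trans ((Set.ncard_le_ncard hsub (Set.toFinite _)).trans
          (Set.ncard_image_le (Set.toFinite _)))
      intro x
      have h2 : Set.range c = Set.univ :=
        Set.eq_of_subset_of_ncard_le (Set.subset_univ _)
          (by rw [Set.ncard_univ, Nat.card_eq_fintype_card]; exact h1)
      exact h2.ge (Set.mem_univ x)
    intro x
    obtain ⟨b, rfl⟩ := hsurc x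
    exact hcU b
  -- some element of `F` moves the line
  obtain ⟨f, hfF, x, hx, hxA, hfx⟩ : ∃ f ∈ F, ∃ x, x ∈ wE p F ∧ x ∈ centralizer (A : Set G) ∧
      f * x * f⁻¹ ∉ centralizer (A : Set G) := by
    by_contra hcon
    push Not at hcon
    rcases wE_dichotomy bF (X := wE p F ⊓ centralizer (A : Set G))
      (inf_le_left.trans (BaumannSubnormal58.wE_le bF))
      (LocalBasics.le_normalizer_of_conj fun f hf x hx =>
        mem_inf.2 ⟨conj_mem' (hFW (Subgroup.le_normalizer hf)) (mem_inf.1 hx).1,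
          hcon f hf x (mem_inf.1 hx).1 (mem_inf.1 hx).2⟩) with hX | hX
    · obtain ⟨x, hx, hxv⟩ := hlineU 1
      rw [one_smul] at hxv
      have hxy : x = y := congrArg Subtype.val (rinj hxv)
      subst hxy
      have hxc : x ∈ centralizer (A : Set G) := fun b hb =>
        hy b ((hAJ.trans (Offenders.thompsonOf_le _)) hb) (hAN hb)
      have : x ∈ wE p F ⊓ centralizer (F : Set G) := ⟨hx, hX (mem_inf.2 ⟨hx, hxc⟩)⟩
      rw [hFbot, mem_bot] at this
      subst this
      exact hyE (one_mem _)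
    · exact haw (((mem_inf.1 (hX hw)).2 a haA))
  have hWeq : wE p F = W := by
    refine le_antisymm hWle fun g hg => ?_
    have hmemline : ∀ {x : G} (hx : x ∈ W),
        x ∈ centralizer (A : Set G) ↔ ∃ c : K₀, r ⟨x, hx⟩ = c • v₀ := by
      intro x hx
      rw [← hline]
      constructor
      · intro hc b
        exact L.act_res h (hAN b.2) ⟨x, hx⟩ (hc b b.2)
      · intro hc b hb
        have h1 := hc ⟨b, hb⟩
        rw [racts (hAN hb)] at h1
        exact mul_inv_eq_iff_eq_mul.1 (congrArg Subtype.val (rinj h1))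
    obtain ⟨c, hc⟩ := (hmemline (hWle hx)).1 hxA
    have hfE := hFN hfF
    obtain ⟨σ, hσ⟩ := act_semilinear L hfE
    have hfoff : ∀ d : K₀, L.act f v₀ ≠ d • v₀ := by
      intro d hd
      refine hfx ((hmemline (conj_mem' (hWnorm hfE) (hWle hx))).2 ⟨σ c * d, ?_⟩)
      have e := racts hfE ⟨x, hWle hx⟩
      rw [hc, hσ, hd, smul_smul] at e
      exact e.symm
    have hσi : Function.Injective σ := fun s t est => by
      have e : L.act f (s • v₀) = L.act f (t • v₀) := by rw [hσ, hσ, est]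
      have e' := congrArg (L.act f⁻¹) e
      rw [L.act_inv_cancel hfE trivial, L.act_inv_cancel hfE trivial] at e'
      exact smul_left_injective K₀ hv0 e'
    obtain ⟨α, β, hαβ⟩ := exists_coords hv0 hfoff (r ⟨g, hg⟩)
    obtain ⟨α', rfl⟩ := (Finite.injective_iff_surjective.1 hσi) α
    obtain ⟨g', hg', hgg⟩ : r ⟨g, hg⟩ ∈ U := by
      rw [hαβ, ← hσ]
      exact U.add_mem (hUact hfE (Subgroup.le_normalizer hfF) _ (hlineU α')) (hlineU β)
    have e : g' = g := congrArg Subtype.val (rinj hgg)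
    exact e ▸ hg'
  -- equal fields
  have hq : Fintype.card K = Fintype.card K₀ := by
    have h1 := card_wE_linear bF ψW hsurW hkerW hFbot
    have h2 := card_wE_linear bE ψ hsur hker hEbot
    rw [hWeq, h2] at h1
    exact Nat.pow_left_injective two_ne_zero h1.symm
  -- the action on `Q_F / W`
  let S : Sec (Qo p F) (Wo p F) (Fin 2 → K) :=
    { ψ := ψQ
      sur := fun v => by
        obtain ⟨x, hx⟩ := hsurQ (Multiplicative.ofAdd v)
        exact ⟨x, by rw [hx]; rfl⟩
      ker := hkerQ }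
  have hSn : ∀ {g : G}, g ∈ normalizer (F : Set G) → g ∈ S.nrm := fun {g} hg =>
    mem_inf.2 ⟨le_normalizer_qo le_rfl hg, le_normalizer_omega le_rfl hg⟩
  have hSρ : ∀ (g : ↥F) v, S.act (g : G) v =
      (ρQ g : Matrix (Fin 2) (Fin 2) K).mulVec v := by
    intro g v
    obtain ⟨x, rfl⟩ := S.sur v
    obtain ⟨x', hx', hval⟩ := hactQ g x
    rw [S.act_spec (hSn (Subgroup.le_normalizer g.2)) x
      (conj_mem' (LocalBasics.le_normalizer_pCoreOf p F g.2) x.2)]
    rw [← hval, show (⟨(g : G) * x * (g : G)⁻¹, _⟩ : ↥(Qo p F)) = x' from Subtype.ext hx'.symm]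
  have haS := hSn (hAF haA)
  obtain ⟨M', hM'⟩ : ∃ M' : Matrix (Fin 2) (Fin 2) K, ∀ v, S.act a v = M'.mulVec v := by
    rcases Nat.lt_or_ge (Fintype.card K) 4 with hlt | h4
    · have hK3 : Fintype.card K = 3 := by
        have h1 := Fintype.one_lt_card (α := K)
        rcases Nat.eq_zero_or_pos n' with rfl | hn'
        · rw [pow_zero] at hcardK; omega
        · have h2 : 3 ≤ 3 ^ n' := Nat.le_self_pow (by omega) 3
          rw [hcardK, hp3] at hlt ⊢; omega
      let f : (Fin 2 → K) →+ (Fin 2 → K) := AddMonoidHom.mk' (S.act a) (S.act_add haS)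
      let g : (Fin 2 → K) →ₗ[K] (Fin 2 → K) :=
        { toFun := S.act a
          map_add' := S.act_add haS
          map_smul' := fun c v => by
            obtain ⟨t, rfl⟩ := (ZMod.ringEquivOfPrime K Nat.prime_three hK3).surjective c
            rw [← ZMod.natCast_zmod_val t, map_natCast, RingHom.id_apply, Nat.cast_smul_eq_nsmul,
              Nat.cast_smul_eq_nsmul]
            exact f.map_nsmul _ _ }
      exact ⟨LinearMap.toMatrix' g, fun v => by
        rw [← Matrix.toLin'_apply, Matrix.toLin'_toMatrix']; rfl⟩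
    · have h4' : (2 : ℕ) = 2 → 4 ≤ Nat.card K := fun _ => by rwa [Nat.card_eq_fintype_card]
      have htop : commutator (Matrix.SpecialLinearGroup (Fin 2) K) = ⊤ :=
        PSLSimple.commutator_SL_fin_eq_top le_rfl fun h => PSLSimple.exists_sq_ne_one (h4' h)
      have hsur' : ∀ k : Matrix.SpecialLinearGroup (Fin 2) K, ∃ g, ρW g = k := fun k => by
        have : k ∈ ρW.range := by rw [hρW, htop]; trivial
        exact this
      choose pre hpre using hsur'
      choose mat hmat using fun g : ↥F => baumannSubgroup_special L h hcard hz₀ (hFB g.2)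
      have hinj : Function.Injective fun k => mat (pre k) := by
        intro k k' e
        set g := (pre k)⁻¹ * pre k' with hg
        have hgW : ∀ x ∈ W, (g : G) * x = x * g := by
          refine L.centralizes_of_act h (hFN g.2) fun v _ => ?_
          show L.act (((pre k : ↥F) : G)⁻¹ * ((pre k' : ↥F) : G)) v = v
          rw [L.act_mul (inv_mem (hFN (pre k).2)) (hFN (pre k').2) trivial, hmat,
            ← show mat (pre k) = mat (pre k') from e, ← hmat,
            L.act_inv_cancel (hFN (pre k).2) trivial]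
        have h1 : ρW g = 1 := by
          refine BaumannBlockModules.sl2_faithful _ fun v => ?_
          obtain ⟨x, hx⟩ := hsurW (Multiplicative.ofAdd v)
          obtain ⟨x', hx', hval⟩ := hactW g x
          rw [hx, toAdd_ofAdd] at hval
          rw [← hval]
          obtain ⟨α, hα, ζ, hζ, e'⟩ := exists_decomp bF x.2
          have : x' = x := Subtype.ext (by
            rw [hx', e', mul_inv_eq_iff_eq_mul]
            calc (g : G) * (α * ζ) = ((g : G) * α) * ζ := by group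
              _ = α * ((g : G) * ζ) := by rw [hgW α (hWeq.le hα)]; group
              _ = α * ζ * g := by rw [hζ.2 g g.2]; group)
          rw [this, hx, toAdd_ofAdd]
        rw [hg, map_mul, map_inv, hpre, hpre, inv_mul_eq_one] at h1
        exact h1
      haveI : Finite (Matrix.SpecialLinearGroup (Fin 2) K₀) :=
        Finite.of_injective _ Subtype.val_injective
      have hbij : Function.Bijective fun k => mat (pre k) :=
        (Nat.bijective_iff_injective_and_card _).2
          ⟨hinj, Nat.card_congr (slEquiv (FiniteField.ringEquivOfCardEq hq)).toEquiv⟩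
      obtain ⟨Ma, hMa⟩ := baumann_special L h hcard hz₀ T (hAB haA)
      obtain ⟨k, hk⟩ := hbij.2 Ma
      set g := pre k with hg
      set μ := (g : G)⁻¹ * a with hμ
      have hgN := hFN g.2
      have hμW : ∀ x ∈ W, μ * x = x * μ :=
        L.centralizes_of_act h (mul_mem (inv_mem hgN) (hAN haA)) fun v _ => by
          rw [hμ, L.act_mul (inv_mem hgN) (hAN haA) trivial, hMa, ← show mat g = Ma from hk, ← hmat,
            L.act_inv_cancel hgN trivial]
      have hμF : μ ∈ normalizer (F : Set G) := mul_mem (inv_mem (Subgroup.le_normalizer g.2)) (hAF haA)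
      obtain ⟨t, ht, ht2⟩ : ∃ t : K, t ≠ 0 ∧ t * t ≠ 1 := by
        obtain ⟨t, ht, ht2⟩ := PSLSimple.exists_sq_ne_one (h4' rfl)
        exact ⟨t, ht, by rwa [pow_two] at ht2⟩
      obtain ⟨m, hm⟩ := scalar_of_commute ht ht2
        (AddMonoidHom.mk' (S.act μ) (S.act_add (hSn hμF))) (fun k hk v => by
          obtain ⟨g', rfl⟩ := hρQ.ge hk
          show S.act μ ((ρQ g' : Matrix (Fin 2) (Fin 2) K).mulVec v) = Matrix.mulVec _ (S.act μ v)
          rw [← hSρ, ← hSρ, ← S.act_mul (hSn hμF) (hSn (Subgroup.le_normalizer g'.2)),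
            ← S.act_mul (hSn (Subgroup.le_normalizer g'.2)) (hSn hμF)]
          set q := ⁅μ, (g' : G)⁆ with hq'
          have hqF : q ∈ F := commutatorElement_mem hμF g'.2
          have hμc : μ ∈ centralizer (W : Set G) := fun x hx => (hμW x hx).symm
          have hqQ : q ∈ Qo p F := by
            refine BaumannSubnormal58.mem_core_of_centralizes bF hqF fun x hx => ?_
            have h1 : q ∈ centralizer (W : Set G) := by
              rw [hq', commutatorElement_def, show μ * (g' : G) * μ⁻¹ * (g' : G)⁻¹ =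
                μ * ((g' : G) * μ⁻¹ * (g' : G)⁻¹) by group]
              exact mul_mem hμc (conj_mem'
                (LocalBasics.le_normalizer_centralizer hWnorm (hFN g'.2)) (inv_mem hμc))
            exact (h1 x (hWeq.le hx)).symm
          rw [show μ * (g' : G) = q * ((g' : G) * μ) by
              rw [hq', commutatorElement_def]; group,
            S.act_mul (hSn (Subgroup.le_normalizer hqF)) (hSn (mul_mem (Subgroup.le_normalizer g'.2) hμF))]
          exact S.act_eq_self (hSn (Subgroup.le_normalizer hqF))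
            (fun x hx => (qo_le_cent bF hqQ).2.2 x hx) _)
      refine ⟨m • (ρQ g : Matrix (Fin 2) (Fin 2) K), fun v => ?_⟩
      rw [show a = (g : G) * μ by rw [hμ, mul_inv_cancel_left],
        S.act_mul (hSn (Subgroup.le_normalizer g.2)) (hSn hμF), hSρ,
        show S.act μ v = m • v from hm v, Matrix.mulVec_smul, Matrix.smul_mulVec]
  have ha3 : a ^ 3 = 1 := by rw [← hp3]; exact ((Offenders.ea_iff A).1 hA.1).2 a haA
  have hchar : ∀ (K' : Type) [Field K'] [Fintype K'] (k : ℕ), Fintype.card K' = p ^ k → (3 : K') = 0 := by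
    intro K' _ _ k hk
    have h0 : ((Fintype.card K' : ℕ) : K') = 0 := Nat.cast_card_eq_zero K'
    rw [hk, Nat.cast_pow, hp3] at h0
    exact_mod_cast eq_zero_of_pow_eq_zero h0
  have hsq' : (M' - 1) * (M' - 1) = 0 := by
    refine sq_zero_of_cube (hchar K n' hcardK) (Matrix.ext_iff_mulVec.2 fun v => ?_)
    rw [← S.act_pow haS hM', ha3, S.act_one, Matrix.one_mulVec]
  obtain ⟨M, hM⟩ := baumann_special L h hcard hz₀ T (hAB haA)
  have hMpow : ∀ (j : ℕ) v, L.act (a ^ j) v = ((M : Matrix (Fin 2) (Fin 2) K₀) ^ j).mulVec v := by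
    intro j
    induction j with
    | zero => intro v; rw [pow_zero, pow_zero, L.act_one trivial, Matrix.one_mulVec]
    | succ j ih =>
      intro v
      rw [pow_succ', L.act_mul (hAN haA) (pow_mem (hAN haA) j) trivial, ih, hM, Matrix.mulVec_mulVec,
        ← pow_succ']
  have hsq : ((M : Matrix (Fin 2) (Fin 2) K₀) - 1) * ((M : Matrix (Fin 2) (Fin 2) K₀) - 1) = 0 := by
    refine sq_zero_of_cube (hchar K₀ n hcard) (Matrix.ext_iff_mulVec.2 fun v => ?_)
    rw [← hMpow, ha3, L.act_one trivial, Matrix.one_mulVec]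
  have hquadW : ∀ (i j : ℕ), ∀ x ∈ W, ⁅a ^ j, ⁅a ^ i, x⁆⁆ = 1 := by
    intro i j x hx
    have hai := hWnorm (pow_mem (hAN haA) i)
    have hi : ⁅a ^ i, x⁆ ∈ W := commutatorElement_mem hai hx
    have e : r ⟨⁅a ^ i, x⁆, hi⟩ = L.act (a ^ i) (r ⟨x, hx⟩) - r ⟨x, hx⟩ := by
      rw [racts (pow_mem (hAN haA) i), sub_eq_add_neg, hr]
      show Multiplicative.toAdd (L.res h ⟨⁅a ^ i, x⁆, hi⟩) = _
      rw [← toAdd_inv, ← toAdd_mul, ← map_inv, ← map_mul]
      rfl
    have h1 : L.act (a ^ j) (r ⟨⁅a ^ i, x⁆, hi⟩) = r ⟨⁅a ^ i, x⁆, hi⟩ := by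
      rw [e, hMpow i, hMpow j, pow_sub_one_mul _ hsq]
    rw [racts (pow_mem (hAN haA) j)] at h1
    exact commutatorElement_eq_one_iff_mul_comm.2
      (mul_inv_eq_iff_eq_mul.1 (congrArg Subtype.val (rinj h1)))
  -- the centraliser of `z` in `Q_F`
  set D := Qo p F ⊓ centralizer ({z} : Set G) with hD
  have hWQ : W ≤ Qo p F := hWeq ▸ (BaumannSubnormal58.wE_le bF).trans (wo_le F)
  have hDinv : normalizer (E : Set G) ⊓ normalizer (F : Set G) ≤ normalizer (D : Set G) := by
    refine LocalBasics.le_normalizer_of_conj fun g hg x hx => mem_inf.2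
      ⟨conj_mem' (le_normalizer_qo le_rfl (mem_inf.1 hg).2) (mem_inf.1 hx).1, ?_⟩
    set ξ := z⁻¹ * (g * z * g⁻¹) with hξ
    have hgz : g * z * g⁻¹ = z * ξ := by rw [hξ, mul_inv_cancel_left]
    have hξW : ξ ∈ W := by
      rw [hW, ← eq_wE_of_ordinary bE hord]
      refine BaumannSubnormal58.mem_core_of_centralizes bE
        (mul_mem (inv_mem hzE) (conj_mem' (mem_inf.1 hg).1 hzE)) fun v hv => ?_
      have hv' : g⁻¹ * v * g ∈ W := by simpa using conj_mem' (inv_mem (hWnorm (mem_inf.1 hg).1)) hv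
      have h1 : g * z * g⁻¹ * v * (g * z * g⁻¹)⁻¹ = v⁻¹ := by
        calc g * z * g⁻¹ * v * (g * z * g⁻¹)⁻¹ = g * (z * (g⁻¹ * v * g) * z⁻¹) * g⁻¹ := by group
          _ = g * (g⁻¹ * v * g)⁻¹ * g⁻¹ := by rw [hzinv _ hv']
          _ = _ := by group
      refine mul_inv_eq_iff_eq_mul.1 ?_
      calc ξ * v * ξ⁻¹ = z⁻¹ * (g * z * g⁻¹ * v * (g * z * g⁻¹)⁻¹) * z := by rw [hξ]; group
        _ = z⁻¹ * (z * v * z⁻¹) * z := by rw [h1, hzinv v hv]
        _ = v := by group
    have hxz : x * z = z * x := mem_centralizer_singleton_iff.1 (mem_inf.1 hx).2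
    have hxξ : x * ξ = ξ * x := hWc ξ hξW x (hQR (mem_inf.1 hx).1)
    have hx' : g * x * g⁻¹ ∈ Qo p F :=
      conj_mem' (le_normalizer_qo le_rfl (mem_inf.1 hg).2) (mem_inf.1 hx).1
    have hyξ : (g * x * g⁻¹) * ξ = ξ * (g * x * g⁻¹) := hWc ξ hξW _ (hQR hx')
    rw [mem_centralizer_singleton_iff]
    have h2 : (g * x * g⁻¹) * (z * ξ) = z * ξ * (g * x * g⁻¹) := by
      rw [← hgz]
      calc g * x * g⁻¹ * (g * z * g⁻¹) = g * (x * z) * g⁻¹ := by group
        _ = g * (z * x) * g⁻¹ := by rw [hxz]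
        _ = _ := by group
    rw [mul_assoc z, ← hyξ] at h2
    exact mul_right_cancel (b := ξ) (by rw [mul_assoc, h2]; simp only [mul_assoc])
  have hdec : ∀ q ∈ Qo p F, ∃ x ∈ W, ∃ d ∈ D, q = x * d := by
    intro q hq'
    set ξ := ⁅z, q⁆ with hξ
    have hξW : ξ ∈ W := by
      rw [hW, ← eq_wE_of_ordinary bE hord, hξ, ← commutatorElement_inv]
      exact inv_mem (bE.comR (commutator_mem_commutator (hQR hq') hzE))
    refine ⟨(ξ ^ 2)⁻¹, inv_mem (pow_mem hξW 2), ξ ^ 2 * q,
      mem_inf.2 ⟨mul_mem (pow_mem (hWQ hξW) 2) hq', ?_⟩, by group⟩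
    rw [mem_centralizer_singleton_iff, eq_comm, ← mul_inv_eq_iff_eq_mul]
    calc z * (ξ ^ 2 * q) * z⁻¹ = (z * ξ * z⁻¹) ^ 2 * (ξ * q) := by
          rw [conj_pow, hξ, commutatorElement_def]; group
      _ = (ξ⁻¹) ^ 2 * ξ * q := by rw [hzinv ξ hξW, mul_assoc]
      _ = ξ ^ 3 * (ξ⁻¹) ^ 2 * ξ * q * 1 := by rw [hpow3 ξ hξW]; group
      _ = ξ ^ 2 * q := by group
  -- the quadratic action
  have hquadQ : ∀ (i j : ℕ), ∀ q ∈ Qo p F, ⁅a ^ j, ⁅a ^ i, q⁆⁆ ∈ F ⊓ centralizer (F : Set G) := by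
    intro i j q hq'
    obtain ⟨x, hx, d, hd, rfl⟩ := hdec q hq'
    have hain := mem_inf.2 ⟨pow_mem (hAN haA) i, pow_mem (hAF haA) i⟩
    have hajn := mem_inf.2 ⟨pow_mem (hAN haA) j, pow_mem (hAF haA) j⟩
    have h1 : ⁅a ^ i, x⁆ ∈ W := commutatorElement_mem (hWnorm (mem_inf.1 hain).1) hx
    have hdd : ⁅a ^ i, d⁆ ∈ D := commutatorElement_mem (hDinv hain) hd
    have h2 : ⁅a ^ j, ⁅a ^ i, d⁆⁆ ∈ D := commutatorElement_mem (hDinv hajn) hdd
    have hDR : D ≤ pCore p G := inf_le_left.trans hQR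
    have e1 : ⁅a ^ i, x * d⁆ = ⁅a ^ i, x⁆ * ⁅a ^ i, d⁆ := by
      have e : ⁅a ^ i, x * d⁆ = ⁅a ^ i, x⁆ * (x * ⁅a ^ i, d⁆ * x⁻¹) := by
        simp only [commutatorElement_def]; group
      rw [e, ← hWc x hx _ (hDR hdd), mul_inv_cancel_right]
    have e2 : ⁅a ^ j, ⁅a ^ i, x * d⁆⁆ = ⁅a ^ j, ⁅a ^ i, d⁆⁆ := by
      have e : ⁅a ^ j, ⁅a ^ i, x⁆ * ⁅a ^ i, d⁆⁆ = ⁅a ^ j, ⁅a ^ i, x⁆⁆ *
          (⁅a ^ i, x⁆ * ⁅a ^ j, ⁅a ^ i, d⁆⁆ * ⁅a ^ i, x⁆⁻¹) := by
        simp only [commutatorElement_def]; group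
      rw [e1, e, hquadW i j x hx, one_mul, ← hWc _ h1 _ (hDR h2), mul_inv_cancel_right]
    rw [e2]
    set d' := ⁅a ^ j, ⁅a ^ i, d⁆⁆ with hd'
    have hd'W : d' ∈ Wo p F := S.double_commutator_mem (pow_mem haS i) (pow_mem haS j)
      (fun v => by
        rw [S.act_pow haS hM', S.act_pow haS hM', pow_sub_one_mul _ hsq'])
      (mem_inf.1 hd).1
    refine mem_inf.2 ⟨BaumannSubnormal58.qo_le F (wo_le F hd'W), fun g hg => ?_⟩
    obtain ⟨α, hα, ζ, hζ, e⟩ := exists_decomp bF hd'W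
    have hgD : ⁅g, d'⁆ ∈ D :=
      commutatorElement_mem (hDinv (mem_inf.2 ⟨hFN hg, Subgroup.le_normalizer hg⟩)) h2
    have hgW : ⁅g, d'⁆ ∈ W := by
      have hgα : ⁅g, α⁆ ∈ W := commutatorElement_mem (hWnorm (hFN hg)) (hWeq.le hα)
      have e' : ⁅g, α * ζ⁆ = ⁅g, α⁆ * (α * ⁅g, ζ⁆ * α⁻¹) := by
        simp only [commutatorElement_def]; group
      rw [e, e', commutatorElement_eq_one_iff_mul_comm.2 (hζ.2 g hg)]
      simpa using hgα
    have h3 := hzinv _ hgW
    rw [← mem_centralizer_singleton_iff.1 (mem_inf.1 hgD).2, mul_inv_cancel_right] at h3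
    have h4 : ⁅g, d'⁆ ^ 3 = 1 := hpow3 _ hgW
    have h5 : ⁅g, d'⁆ = 1 := by
      generalize ⁅g, d'⁆ = s at h3 h4 ⊢
      calc s = s ^ 3 * (s * s)⁻¹ := by group
        _ = 1 := by rw [h4, mul_eq_one_iff_eq_inv.2 h3]; group
    exact commutatorElement_eq_one_iff_mul_comm.1 h5
  refine hquad a (hAB haA) (fun hc => haw (hc w (BaumannSubnormal58.wE_le bF hw)).symm) ?_
  have hzp : ∀ b ∈ zpowers a, ∃ i : ℕ, a ^ i = b := fun b hb => by
    rwa [← (isOfFinOrder_of_finite a).mem_powers_iff_mem_zpowers] at hb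
  have haQ : zpowers a ≤ normalizer (Qo p F : Set G) := zpowers_le.2 (mem_inf.1 haS).1
  refine commutator_le.2 fun q hq' b hb => ?_
  obtain ⟨j, rfl⟩ := hzp b hb
  let Y : Subgroup G :=
    { carrier := {q | q ∈ Qo p F ∧ ⁅a ^ j, q⁆ ∈ F ⊓ centralizer (F : Set G)}
      one_mem' := ⟨one_mem _, by simp⟩
      mul_mem' := fun {s t} hs ht => ⟨mul_mem hs.1 ht.1, by
        have e : ⁅a ^ j, s * t⁆ = ⁅a ^ j, s⁆ * (s * ⁅a ^ j, t⁆ * s⁻¹) := by
          simp only [commutatorElement_def]; group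
        rw [e, (mem_inf.1 ht.2).2 s (BaumannSubnormal58.qo_le F hs.1), mul_inv_cancel_right]
        exact mul_mem hs.2 ht.2⟩
      inv_mem' := fun {s} hs => ⟨inv_mem hs.1, by
        have e : ⁅a ^ j, s⁻¹⁆ = s⁻¹ * ⁅a ^ j, s⁆⁻¹ * s := by
          simp only [commutatorElement_def]; group
        rw [e, (mem_inf.1 (inv_mem hs.2)).2 _ (inv_mem (BaumannSubnormal58.qo_le F hs.1)),
          inv_mul_cancel_right]
        exact inv_mem hs.2⟩ }
  have hY : ⁅Qo p F, zpowers a⁆ ≤ Y := commutator_le.2 fun s hs c hc => by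
    obtain ⟨i, rfl⟩ := hzp c hc
    rw [← commutatorElement_inv]
    exact Y.inv_mem ⟨commutatorElement_mem (pow_mem (mem_inf.1 haS).1 i) hs, hquadQ i j s hs⟩
  rw [← commutatorElement_inv]
  exact inv_mem (hY hq').2

end Cfsg.Agent.BlockNormal16
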