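import Mathlib
import Cfsg.Agent.Lib.BlockNormal16Contra

/-!
# A block is contained in, or commutes with, a subnormal block
-/

set_option autoImplicit false
set_option linter.style.haveILetI false

namespace Cfsg.Agent.BlockNormal16

open Subgroup Cfsg BaumannBlockBasics BaumannBlockStructure BaumannSubnormal58
open scoped commutatorElement

variable {G : Type*} [Group G] [Finite G] {p : ℕ} [Fact p.Prime] {E F : Subgroup G}

/-- `[O_p(G), F] ≤ Q_E` when `W_F ≤ W_E` and `F` does not centralise `W_E`. -/
theorem commutator_pCore_le_qo (hG : centralizer (pCore p G : Set G) ≤ pCore p G) {T₀ T : Sylow p G}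
    (hE : IsBaumannBlock p (T₀ : Subgroup G) E) (hs : E.IsSubnormal)
    (hF : IsBaumannBlock p (T : Subgroup G) F) (hW : wE p F ≤ wE p E)
    (hnc : ¬ F ≤ centralizer (wE p E : Set G))
    {f : G} (hf : f ∈ F) (hfo : (orderOf f).Coprime p) {r : G} (hr : r ∈ pCore p G) :
    ⁅f, r⁆ ∈ Qo p E := by
  have h := sblk_of_block hG hE hs
  have bE := h.blk
  have bF := blk_of_block hG hF
  have hFN : F ≤ normalizer (E : Set G) :=
    (block_le_baumann hF).trans (baumannSubgroup_le_normalizer h hE.2.2.2.1)
  have hWQ : wE p E ≤ Qo p E := (BaumannSubnormal58.wE_le bE).trans (wo_le E)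
  have hWR : wE p E ≤ pCore p G := fun w hw => hG (bE.cenR hw)
  have hq : ⁅f, r⁆ ∈ Qo p F := by
    rw [← commutatorElement_inv]
    exact inv_mem (bF.comR (commutator_mem_commutator hr hf))
  rcases bF.shape with ho | hxF
  · exact hWQ (hW (eq_wE_of_ordinary bF ho ▸ hq))
  set Y := ⁅pCore p G, F⁆ ⊔ Wo p F with hY
  rcases irred_qo bF Y le_sup_right (sup_le bF.comR (wo_le F))
      (LocalBasics.le_normalizer_sup (le_sup_right.trans (le_normalizer_commutator _ _))
        bF.natW.norm) with hc | hc
  · -- `[O_p(G), F]` inside `W`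
    have hw : ⁅f, r⁆ ∈ Wo p F := hc.le (mem_sup_left (by
      rw [← commutatorElement_inv]
      exact inv_mem (commutator_mem_commutator hr hf)))
    have hrN : ⁅f, r⁆ ∈ pCore p G :=
      commutatorElement_mem (LocalBasics.le_normalizer_of_normal F hf) hr
    refine hWQ (mem_of_stab hfo (le_normalizer_wE hFN hf) ?_
      (LocalBasics.le_normalizer_of_conj (fun x hx w hw => by
        rwa [bE.cenR hw x hx, mul_inv_cancel_right]) hrN)
      ⟨1, by rw [pow_one, omega_pow p _ hw]; exact one_mem _⟩)
    rw [← commutatorElement_inv]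
    exact inv_mem (hW (commutator_mem_commutator hw hf))
  -- `Q_F ≤ O_p(G)`
  have hQR : Qo p F ≤ pCore p G := by
    rw [← bF.comm]
    refine commutator_le.2 fun q hq g hg => ?_
    have hq' := hc.ge hq
    rw [← SetLike.mem_coe, Subgroup.coe_mul_of_left_le_normalizer_right _ (Wo p F)
      (bF.comR.trans (qo_le_normalizer_wo F))] at hq'
    obtain ⟨a, ha, w, hw, rfl⟩ := hq'
    have haR : a ∈ pCore p G :=
      ((Subgroup.le_normalizer_iff_commutator_le_left).1 (LocalBasics.le_normalizer_of_normal F)) ha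
    have e : ⁅a * w, g⁆ = a * ⁅w, g⁆ * a⁻¹ * ⁅a, g⁆ := by
      simp only [commutatorElement_def]; group
    rw [e]
    refine mul_mem (mul_mem (mul_mem haR (hWR (hW (commutator_mem_commutator hw hg)))) (inv_mem haR)) ?_
    rw [← commutatorElement_inv]
    exact inv_mem (commutatorElement_mem (LocalBasics.le_normalizer_of_normal F hg) haR)
  rcases bE.shape with ho | hxE
  · refine (exc_contra hG hE hs ho hF (fun e => hxF.zne ?_) hQR hW).elim
    rw [← hxF.comm, commutator_eq_bot_iff_le_centralizer]
    intro x hx y hy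
    exact omega_comm p _ (e.le hy) (e.le hx)
  -- both exceptional
  have hER := LocalBasics.pCoreOf_le_of_subnormal p hs
  have hFQ : F ≤ normalizer (Qo p E : Set G) := le_normalizer_qo hFN
  have hYE : ⁅Qo p E, F⁆ ≤ Qo p E := (Subgroup.le_normalizer_iff_commutator_le_left).1 hFQ
  have hYF : ⁅Qo p E, F⁆ ≤ Qo p F := (commutator_mono hER le_rfl).trans bF.comR
  rcases irred_qo bF (⁅Qo p E, F⁆ ⊔ Wo p F) le_sup_right (sup_le hYF (wo_le F))
      (LocalBasics.le_normalizer_sup (le_sup_right.trans (le_normalizer_commutator _ _))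
        bF.natW.norm) with hd | hd
  · exfalso
    refine hnc (le_of_residual bF.res fun g hg hgo => ?_)
    obtain ⟨a, ha, hac⟩ := exists_same hG hE hs (block_le_baumann hF hg) hgo
    have hcc := mem_cent_of_exc hG hE hs hxE hF hg hgo ha hac
    have hgc : ∀ q ∈ Qo p E, ⁅g, q⁆ ∈ Wo p E := by
      intro q hq
      have hw : ⁅g, q⁆ ∈ Wo p F := hd.le (mem_sup_left (by
        rw [← commutatorElement_inv]
        exact inv_mem (commutator_mem_commutator hq hg)))
      refine mem_of_stab hgo (le_normalizer_omega hFN hg) ?_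
        (qo_le_normalizer_wo E (commutatorElement_mem (hFQ hg) hq))
        ⟨1, by rw [pow_one, omega_pow p _ hw]; exact one_mem _⟩
      rw [← commutatorElement_inv]
      exact inv_mem ((hW.trans (BaumannSubnormal58.wE_le bE)) (commutator_mem_commutator hw hg))
    have hgm : g ∈ cent (Qo p E) (Wo p E) := ⟨hFQ hg, le_normalizer_omega hFN hg, hgc⟩
    have ham : a ∈ cent (Qo p E) (Wo p E) := by
      have := Subgroup.mul_mem _ hgm (Subgroup.inv_mem _ hcc)
      simpa using this
    have haQ : a ∈ Qo p E := hxE.natU.ker a ha ham.2.2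
    intro v hv
    have h1 := wo_commute E (BaumannSubnormal58.wE_le bE hv) haQ
    calc v * g = (v * a) * (a⁻¹ * g) := by group
      _ = a * (v * (a⁻¹ * g)) := by rw [← h1, mul_assoc]
      _ = a * ((a⁻¹ * g) * v) := by rw [hac v hv]
      _ = g * v := by group
  · have hle : Qo p F ≤ Qo p E := by
      rw [← bF.comm]
      refine commutator_le.2 fun q hq g hg => ?_
      have hq' := hd.ge hq
      rw [← SetLike.mem_coe, Subgroup.coe_mul_of_left_le_normalizer_right _ (Wo p F)
        (hYF.trans (qo_le_normalizer_wo F))] at hq'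
      obtain ⟨a, ha, w, hw, rfl⟩ := hq'
      have haE := hYE ha
      have e : ⁅a * w, g⁆ = a * ⁅w, g⁆ * a⁻¹ * ⁅a, g⁆ := by
        simp only [commutatorElement_def]; group
      rw [e]
      refine mul_mem (mul_mem (mul_mem haE (hWQ (hW (commutator_mem_commutator hw hg)))) (inv_mem haE)) ?_
      rw [← commutatorElement_inv]
      exact inv_mem (commutatorElement_mem (hFQ hg) haE)
    exact hle hq

/-- Every block lies in `E` or commutes with it. -/
theorem le_or_commute (hG : centralizer (pCore p G : Set G) ≤ pCore p G) {T₀ T : Sylow p G}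
    (hE : IsBaumannBlock p (T₀ : Subgroup G) E) (hs : E.IsSubnormal)
    (hF : IsBaumannBlock p (T : Subgroup G) F) : F ≤ E ∨ ⁅F, E⁆ = ⊥ := by
  have h := sblk_of_block hG hE hs
  have bE := h.blk
  have bF := blk_of_block hG hF
  have hER := LocalBasics.pCoreOf_le_of_subnormal p hs
  have hFN : F ≤ normalizer (E : Set G) :=
    (block_le_baumann hF).trans (baumannSubgroup_le_normalizer h hE.2.2.2.1)
  have hFW : F ≤ normalizer (wE p E : Set G) := le_normalizer_wE hFN
  by_cases hcen : F ≤ centralizer (wE p E : Set G)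
  · -- `F` centralises `W_E`
    right
    have hEW := le_normalizer_wE (p := p) (Subgroup.le_normalizer (H := E))
    have hEF : ⁅E, F⁆ ≤ pCore p G := commutator_le.2 fun a ha g hg => hER (by
      have h1 : ⁅a, g⁆ ∈ E := by
        rw [← commutatorElement_inv]
        exact inv_mem (commutatorElement_mem (hFN hg) ha)
      have h2 : ⁅a, g⁆ ∈ centralizer (wE p E : Set G) := by
        rw [commutatorElement_def, mul_assoc, mul_assoc]
        rw [← mul_assoc, ← mul_assoc]
        exact mul_mem (conj_mem' (LocalBasics.le_normalizer_centralizer hEW ha) (hcen hg))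
          (inv_mem (hcen hg))
      exact BaumannSubnormal58.mem_core_of_centralizes bE h1 fun v hv => (h2 v hv).symm)
    have hnFE : E ≤ normalizer (F : Set G) :=
      normalizes_of_commutator_le bF (by rwa [commutator_comm])
    rw [commutator_comm]
    refine commute_of_centralizes bE bF hER hFN hnFE hEF ?_
    rw [commutator_comm, commutator_eq_bot_iff_le_centralizer]
    exact hcen
  left
  -- `W_F ≤ W_E`
  have hXE : ⁅wE p E, F⁆ ≤ wE p E := (Subgroup.le_normalizer_iff_commutator_le_left).1 hFW
  have hXF : ⁅wE p E, F⁆ ≤ wE p F :=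
    (commutator_mono (wE_le_vo hG bE) le_rfl).trans (vo_commutator bF)
  have hW : wE p F ≤ wE p E := by
    rcases wE_dichotomy bF (hXF.trans (BaumannSubnormal58.wE_le bF))
      (le_sup_right.trans (le_normalizer_commutator _ _)) with hX | hX
    · refine absurd (le_of_residual (S := centralizer (wE p E : Set G)) bF.res fun g hg hgo w hw => ?_) hcen
      have hm : ⁅g, w⁆ ∈ ⁅wE p E, F⁆ := by
        rw [← commutatorElement_inv]
        exact inv_mem (commutator_mem_commutator hw hg)
      exact (commutatorElement_eq_one_iff_mul_comm.1 (eq_one_of_stab hgo (hX hm g hg)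
        ⟨1, by rw [pow_one]; exact omega_pow p _ (BaumannSubnormal58.wE_le bE (hXE hm))⟩)).symm
    · exact hX.trans hXE
  refine le_of_residual bF.res fun f hf hfo => ?_
  obtain ⟨e, he, hec⟩ := exists_same hG hE hs (block_le_baumann hF hf) hfo
  have hfR : f ∈ cent (pCore p G) (Qo p E) :=
    ⟨LocalBasics.le_normalizer_of_normal F hf, le_normalizer_qo hFN hf,
      fun r hr => commutator_pCore_le_qo hG hE hs hF hW hcen hf hfo hr⟩
  have h1 : e⁻¹ * f ∈ cent (pCore p G) (Qo p E) :=
    Subgroup.mul_mem _ (Subgroup.inv_mem _ (le_cent_pCore bE he)) hfR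
  have h2 : e⁻¹ * f ∈ cent (Qo p E) (Wo p E) := by
    rcases bE.shape with ho | hx
    · have hN : e⁻¹ * f ∈ normalizer (E : Set G) :=
        mul_mem (inv_mem (Subgroup.le_normalizer he)) (hFN hf)
      refine ⟨le_normalizer_qo le_rfl hN, le_normalizer_omega le_rfl hN, fun q hq => ?_⟩
      rw [commutatorElement_eq_one_iff_mul_comm.2 (hec q (eq_wE_of_ordinary bE ho ▸ hq))]
      exact one_mem _
    · exact mem_cent_of_exc hG hE hs hx hF hf hfo he hec
  have hD : e⁻¹ * f ∈ Dgrp p E :=
    mem_inf.2 ⟨mem_inf.2 ⟨fun w hw => (hec w hw).symm, h1⟩, h2⟩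
  refine BaumannBlockBasics.mem_of_coprime_of_sup (dgrp_le_normalizer hG bE) (dgrp_pGroup hG bE) ?_ hfo
  have := mul_mem (mem_sup_left (T := Dgrp p E) he) (mem_sup_right (S := E) hD)
  simpa using this

end Cfsg.Agent.BlockNormal16
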