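import Mathlib
import Cfsg.Agent.Lib.HallCore

/-!
# Finite groups of characteristic p

`G` has characteristic `p` when `C_G(O_p(G)) ≤ O_p(G)`.  Elementary consequences.
-/

set_option autoImplicit false

namespace Cfsg.Agent.CharPBasic

open Subgroup
open scoped Pointwise
open Cfsg.Agent.HallCore (le_pCore isPGroup_pCore map_equiv_pCore)

variable {G : Type*} [Group G] {p : ℕ}

/-- `G` has characteristic `p`. -/
abbrev HasCharP (p : ℕ) (G : Type*) [Group G] : Prop :=
  Subgroup.centralizer (Cfsg.pCore p G : Set G) ≤ Cfsg.pCore p G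

/-- A subgroup without nontrivial elements of order prime to `p` is a `p`-group. -/
theorem isPGroup_of_coprime_eq_one [Finite G] [hp : Fact p.Prime] {H : Subgroup G}
    (h : ∀ x ∈ H, (orderOf x).Coprime p → x = 1) : IsPGroup p H := by
  intro x
  obtain ⟨k, m, hm, hkm⟩ :=
    Nat.exists_eq_pow_mul_and_not_dvd (orderOf_pos (x : G)).ne' p hp.out.ne_one
  refine ⟨k, Subtype.ext ?_⟩
  have hord : orderOf ((x : G) ^ p ^ k) = m := by
    rw [orderOf_pow_of_dvd (pow_ne_zero _ hp.out.ne_zero) (hkm ▸ dvd_mul_right _ _), hkm,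
      Nat.mul_div_cancel_left _ (pow_pos hp.out.pos _)]
  have := h ((x : G) ^ p ^ k) (H.pow_mem x.2 _)
    (by rw [hord]; exact ((hp.out.coprime_iff_not_dvd).mpr hm).symm)
  simpa using this

theorem eq_one_of_coprime_of_mem [hp : Fact p.Prime] {H : Subgroup G} (hH : IsPGroup p H) {x : G}
    (hx : x ∈ H) (hc : (orderOf x).Coprime p) : x = 1 := by
  obtain ⟨k, hk⟩ := hH ⟨x, hx⟩
  have h1 : orderOf x ∣ p ^ k := orderOf_dvd_of_pow_eq_one (by
    simpa [Subtype.ext_iff] using hk)
  exact orderOf_eq_one_iff.mp (Nat.eq_one_of_dvd_coprimes (hc.pow_right k) dvd_rfl h1)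

theorem eq_one_of_pow_eq_one {n m : ℕ} (hnm : n.Coprime m) {e : G} (h1 : e ^ n = 1)
    (h2 : e ^ m = 1) : e = 1 :=
  orderOf_eq_one_iff.mp
    (Nat.eq_one_of_dvd_coprimes hnm (orderOf_dvd_of_pow_eq_one h1) (orderOf_dvd_of_pow_eq_one h2))

/-- If `e = x q x⁻¹ q⁻¹` commutes with `x` and is a `p`-element while `x` has order prime to `p`,
then `x` and `q` commute. -/
theorem commute_of_comm_commute [hp : Fact p.Prime] {H : Subgroup G} (hH : IsPGroup p H)
    {x q : G} (hx : (orderOf x).Coprime p) (hmem : x * q * x⁻¹ * q⁻¹ ∈ H)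
    (hcomm : Commute x (x * q * x⁻¹ * q⁻¹)) : Commute x q := by
  set e := x * q * x⁻¹ * q⁻¹ with he
  have hstep : ∀ n : ℕ, x ^ n * q * (x ^ n)⁻¹ = e ^ n * q := by
    intro n
    induction n with
    | zero => simp
    | succ n ih =>
      calc x ^ (n + 1) * q * (x ^ (n + 1))⁻¹
          = x * (x ^ n * q * (x ^ n)⁻¹) * x⁻¹ := by rw [pow_succ']; group
        _ = (x * e ^ n) * q * x⁻¹ := by rw [ih]; group
        _ = (e ^ n * x) * q * x⁻¹ := by rw [(hcomm.pow_right n).eq]
        _ = e ^ n * (x * q * x⁻¹ * q⁻¹) * q := by group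
        _ = e ^ (n + 1) * q := by rw [← he, pow_succ]
  have h1 : e ^ orderOf x = 1 := by
    have := hstep (orderOf x)
    simp only [pow_orderOf_eq_one, one_mul, inv_one, mul_one] at this
    exact mul_right_cancel (this.symm.trans (one_mul q).symm)
  obtain ⟨k, hk⟩ := hH ⟨e, hmem⟩
  have h2 : e ^ p ^ k = 1 := by simpa [Subtype.ext_iff] using hk
  have he1 : e = 1 := eq_one_of_pow_eq_one (hx.pow_right k) h1 h2
  rw [he, mul_inv_eq_one, mul_inv_eq_iff_eq_mul] at he1
  exact he1

/-- If `O_p(G)` normalizes `L` and `G` has characteristic `p`, then so does `L`. -/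
theorem hasCharP_of_le_normalizer [Finite G] [hp : Fact p.Prime] (hG : HasCharP p G)
    (L : Subgroup G) (hL : Cfsg.pCore p G ≤ Subgroup.normalizer (L : Set G)) : HasCharP p L := by
  set C := Subgroup.centralizer (Cfsg.pCore p L : Set L)
  have hC : IsPGroup p C := by
    refine isPGroup_of_coprime_eq_one fun x hx hxo => ?_
    have hxo' : (orderOf (x : G)).Coprime p := by simpa using hxo
    have key : ∀ q ∈ Cfsg.pCore p G, Commute (x : G) q := by
      intro q hq
      have hd1 : (x : G) * q * (x : G)⁻¹ * q⁻¹ ∈ Cfsg.pCore p G :=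
        mul_mem ((Cfsg.Agent.HallCore.pCore_normal p G).conj_mem q hq x) (inv_mem hq)
      have hd2 : (x : G) * q * (x : G)⁻¹ * q⁻¹ ∈ L := by
        have h := (mem_normalizer_iff.mp (hL hq) (x : G)⁻¹).mp (inv_mem x.2)
        have := mul_mem x.2 h
        simpa [mul_assoc] using this
      have hd : (⟨_, hd2⟩ : L) ∈ Cfsg.pCore p L :=
        Cfsg.Agent.HallCore.pCore_subgroupOf_le L (by simpa [mem_subgroupOf] using hd1)
      have hc := mem_centralizer_iff.mp hx ⟨_, hd2⟩ hd
      exact commute_of_comm_commute (isPGroup_pCore p G) hxo' hd1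
        (congrArg Subtype.val hc).symm
    have hxp : (x : G) ∈ Cfsg.pCore p G :=
      hG (mem_centralizer_iff.mpr fun q hq => (key q hq).eq.symm)
    exact Subtype.ext (eq_one_of_coprime_of_mem (isPGroup_pCore p G) hxp hxo')
  exact le_pCore hC

theorem hasCharP_of_normal [Finite G] [Fact p.Prime] (hG : HasCharP p G) (L : Subgroup G)
    [L.Normal] : HasCharP p L :=
  hasCharP_of_le_normalizer hG L (by simp [Subgroup.normalizer_eq_top_iff.mpr ‹L.Normal›])

theorem hasCharP_of_equiv {H : Type*} [Group H] (e : G ≃* H) (hG : HasCharP p G) :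
    HasCharP p H := by
  intro x hx
  have h1 : e.symm x ∈ Subgroup.centralizer (Cfsg.pCore p G : Set G) := by
    refine mem_centralizer_iff.mpr fun y hy => ?_
    have hy' : e y ∈ Cfsg.pCore p H := by
      rw [← map_equiv_pCore (p := p) e]; exact ⟨y, hy, rfl⟩
    have := mem_centralizer_iff.mp hx (e y) hy'
    apply e.injective
    simpa using this
  rw [← map_equiv_pCore (p := p) e]
  exact ⟨e.symm x, hG h1, by simp⟩

theorem hasCharP_congr_equiv {H : Type*} [Group H] (e : G ≃* H) :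
    HasCharP p G ↔ HasCharP p H :=
  ⟨hasCharP_of_equiv e, hasCharP_of_equiv e.symm⟩

theorem hasCharP_of_le [Finite G] [Fact p.Prime] {H K : Subgroup G} (hHK : H ≤ K)
    (hn : (H.subgroupOf K).Normal) (hK : HasCharP p K) : HasCharP p H :=
  hasCharP_of_equiv (Subgroup.subgroupOfEquivOfLe hHK) (hasCharP_of_normal hK (H.subgroupOf K))

theorem hasCharP_of_isSubnormal [Finite G] [Fact p.Prime] (hG : HasCharP p G) {H : Subgroup G}
    (hH : H.IsSubnormal) : HasCharP p H := by
  induction hH with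
  | top => exact hasCharP_of_equiv Subgroup.topEquiv.symm hG
  | step H K hle _ hn ih => exact hasCharP_of_le hle hn ih

/-- Thompson's A×B lemma, elementwise: an element `x` of order prime to `p` normalizing the
`p`-group `P`, commuting with the `p`-group `Q ≤ N(P)` and centralizing `C_P(Q)` centralizes `P`. -/
theorem commute_of_centralizes_fixed [Finite G] [hp : Fact p.Prime] {P Q : Subgroup G}
    (hP : IsPGroup p P) (hQ : IsPGroup p Q) (hQP : Q ≤ Subgroup.normalizer (P : Set G))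
    {x : G} (hxo : (orderOf x).Coprime p) (hxP : x ∈ Subgroup.normalizer (P : Set G))
    (hxQ : ∀ q ∈ Q, Commute x q)
    (hfix : ∀ y ∈ P, (∀ q ∈ Q, Commute q y) → Commute x y) : ∀ y ∈ P, Commute x y := by
  set C := P ⊓ Subgroup.centralizer ({x} : Set G) with hC
  suffices h : P ≤ C from fun y hy => (mem_centralizer_iff.mp (h hy).2 x rfl)
  have hQC : Q ≤ Subgroup.normalizer (C : Set G) := by
    have key : ∀ q ∈ Q, ∀ y ∈ C, q * y * q⁻¹ ∈ C := by
      intro q hq y hy
      refine ⟨(mem_normalizer_iff.mp (hQP hq) y).mp hy.1, mem_centralizer_iff.mpr ?_⟩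
      intro z hz
      rw [Set.mem_singleton_iff.mp hz]
      exact (((hxQ q hq).mul_right (mem_centralizer_iff.mp hy.2 x rfl)).mul_right
        (hxQ q hq).inv_right).eq
    intro q hq
    refine mem_normalizer_iff.mpr fun y => ⟨key q hq y, fun hy => ?_⟩
    simpa [mul_assoc] using key q⁻¹ (inv_mem hq) _ hy
  by_contra hne
  set R : Subgroup G := P ⊔ Q with hR
  set M : Subgroup G := C ⊔ Q with hM
  have hRp : IsPGroup p R := hP.to_sup_of_normal_left' hQ hQP
  have hMR : M ≤ R := sup_le (inf_le_left.trans le_sup_left) le_sup_right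
  have hMP : M ⊓ P ≤ C := by
    rintro y ⟨hyM, hyP⟩
    have hyM' : y ∈ (C : Set G) * (Q : Set G) := by
      rw [← Subgroup.coe_mul_of_right_le_normalizer_left C Q hQC]; exact hyM
    obtain ⟨c, hc, q, hq, rfl⟩ := Set.mem_mul.mp hyM'
    have hqP : q ∈ P := by simpa using P.mul_mem (P.inv_mem hc.1) hyP
    exact mul_mem hc ⟨hqP, mem_centralizer_iff.mpr (by
      intro z hz
      rw [Set.mem_singleton_iff.mp hz]
      exact (hxQ q hq).eq)⟩
  have hlt : M < R := lt_of_le_of_ne hMR fun h => hne fun y hy => hMP ⟨h ▸ le_sup_left (b := Q) hy, hy⟩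
  have : Group.IsNilpotent R := IsPGroup.isNilpotent hRp
  have hne' : (M.subgroupOf R) < ⊤ := lt_top_iff_ne_top.mpr fun h =>
    hlt.not_ge (Subgroup.subgroupOf_eq_top.mp h)
  obtain ⟨n, hnN, hnM⟩ := SetLike.exists_of_lt (Group.normalizerCondition_of_isNilpotent _ hne')
  have hnR : (n : G) ∈ (P : Set G) * (Q : Set G) := by
    rw [← Subgroup.coe_mul_of_right_le_normalizer_left P Q hQP]; exact n.2
  obtain ⟨p0, hp0, q0, hq0, hn0⟩ := Set.mem_mul.mp hnR
  have hd : ∀ q ∈ Q, p0 * q * p0⁻¹ * q⁻¹ ∈ C := by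
    intro q hq
    refine hMP ⟨?_, ?_⟩
    · have hq' : q0⁻¹ * q * q0 ∈ M :=
        le_sup_right (a := C) (mul_mem (mul_mem (inv_mem hq0) hq) hq0)
      have h' := (mem_normalizer_iff.mp hnN ⟨_, hMR hq'⟩).mp
        (by simpa [mem_subgroupOf] using hq')
      have h'' : (n : G) * (q0⁻¹ * q * q0) * (n : G)⁻¹ ∈ M := by
        simpa [mem_subgroupOf] using h'
      rw [← hn0] at h''
      have h3 := mul_mem h'' (le_sup_right (a := C) (inv_mem hq) : q⁻¹ ∈ M)
      simpa [mul_assoc] using h3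
    · have h1 := (mem_normalizer_iff.mp (hQP hq) p0⁻¹).mp (inv_mem hp0)
      have := mul_mem hp0 h1
      simpa [mul_assoc] using this
  have he : Commute x (x * p0⁻¹ * x⁻¹ * p0⁻¹⁻¹) := by
    refine hfix _ (mul_mem ((mem_normalizer_iff.mp hxP p0⁻¹).mp (inv_mem hp0))
      (inv_mem (inv_mem hp0))) fun q hq => ?_
    set d := p0 * q * p0⁻¹ * q⁻¹ with hd0
    have hxd : x * d = d * x := mem_centralizer_iff.mp (hd q hq).2 x rfl
    have hq1 : q * p0⁻¹ * q⁻¹ = p0⁻¹ * d := by rw [hd0]; group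
    have hqx : q * x * q⁻¹ = x := by rw [← (hxQ q hq).eq]; group
    change q * (x * p0⁻¹ * x⁻¹ * p0⁻¹⁻¹) = (x * p0⁻¹ * x⁻¹ * p0⁻¹⁻¹) * q
    calc q * (x * p0⁻¹ * x⁻¹ * p0⁻¹⁻¹)
        = (q * x * q⁻¹) * (q * p0⁻¹ * q⁻¹) * (q * x * q⁻¹)⁻¹ * (q * p0⁻¹ * q⁻¹)⁻¹ * q := by group
      _ = x * (p0⁻¹ * d) * x⁻¹ * (p0⁻¹ * d)⁻¹ * q := by rw [hqx, hq1]
      _ = x * p0⁻¹ * x⁻¹ * (x * d) * (d * x)⁻¹ * p0⁻¹⁻¹ * q := by group
      _ = _ := by rw [hxd]; group
  have hxp : Commute x p0⁻¹ := commute_of_comm_commute hP hxo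
    (mul_mem ((mem_normalizer_iff.mp hxP p0⁻¹).mp (inv_mem hp0)) (inv_mem (inv_mem hp0))) he
  have hp0C : p0 ∈ C := by
    refine ⟨hp0, mem_centralizer_iff.mpr ?_⟩
    intro z hz
    rw [Set.mem_singleton_iff.mp hz]
    simpa using hxp.inv_right.eq
  refine hnM ?_
  rw [mem_subgroupOf, ← hn0]
  exact mul_mem (le_sup_left (b := Q) hp0C) (le_sup_right (a := C) hq0)

/-- In a group of characteristic `p`, a normal subgroup `Q` of a Sylow subgroup containing its
centralizer in it contains its centralizer in the group. -/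
theorem centralizer_le_of_sylow [Finite G] [hp : Fact p.Prime] (hG : HasCharP p G) (T : Sylow p G)
    (Q : Subgroup G) (hQT : Q ≤ (T : Subgroup G))
    (hQn : (T : Subgroup G) ≤ Subgroup.normalizer (Q : Set G))
    (hC : (T : Subgroup G) ⊓ Subgroup.centralizer (Q : Set G) ≤ Q) :
    Subgroup.centralizer (Q : Set G) ≤ Q := by
  have hP := isPGroup_pCore p G
  have hPT : Cfsg.pCore p G ≤ (T : Subgroup G) := by
    obtain ⟨U, hU⟩ := hP.exists_le_sylow
    obtain ⟨g, hg⟩ := MulAction.exists_smul_eq G U T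
    intro y hy
    rw [← hg, Sylow.coe_subgroup_smul, mem_pointwise_smul_iff_inv_smul_mem]
    apply hU
    simpa [MulAut.smul_def, MulAut.conj_apply] using
      (Cfsg.Agent.HallCore.pCore_normal p G).conj_mem y hy g⁻¹
  have hCp : IsPGroup p (Subgroup.centralizer (Q : Set G)) := by
    refine isPGroup_of_coprime_eq_one fun x hx hxo => ?_
    have hfix := commute_of_centralizes_fixed hP (T.2.to_le hQT)
      (le_top.trans (le_of_eq (Subgroup.normalizer_eq_top_iff.mpr
        (Cfsg.Agent.HallCore.pCore_normal p G)).symm))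
      hxo (by simp [Subgroup.normalizer_eq_top_iff.mpr (Cfsg.Agent.HallCore.pCore_normal p G)])
      (fun q hq => (mem_centralizer_iff.mp hx q hq).symm)
      (fun y hy hyQ => (mem_centralizer_iff.mp hx y
        (hC ⟨hPT hy, mem_centralizer_iff.mpr fun q hq => (hyQ q hq).eq⟩)).symm)
    exact eq_one_of_coprime_of_mem hP
      (hG (mem_centralizer_iff.mpr fun y hy => (hfix y hy).eq.symm)) hxo
  have hTn : (T : Subgroup G) ≤
      Subgroup.normalizer ((Subgroup.centralizer (Q : Set G) : Subgroup G) : Set G) := by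
    have key : ∀ g ∈ (T : Subgroup G), ∀ x ∈ Subgroup.centralizer (Q : Set G),
        g * x * g⁻¹ ∈ Subgroup.centralizer (Q : Set G) := by
      intro g hg x hx
      refine mem_centralizer_iff.mpr fun q hq => ?_
      have h1 : g⁻¹ * q * g ∈ Q := by
        simpa using (mem_normalizer_iff.mp (hQn (inv_mem hg)) q).mp hq
      calc q * (g * x * g⁻¹) = g * ((g⁻¹ * q * g) * x) * g⁻¹ := by group
        _ = g * (x * (g⁻¹ * q * g)) * g⁻¹ := by rw [mem_centralizer_iff.mp hx _ h1]
        _ = g * x * g⁻¹ * q := by group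
    intro g hg
    refine mem_normalizer_iff.mpr fun x => ⟨key g hg x, fun hx => ?_⟩
    simpa [mul_assoc] using key g⁻¹ (inv_mem hg) _ hx
  have hle : Subgroup.centralizer (Q : Set G) ≤ (T : Subgroup G) :=
    le_sup_left.trans (T.3 (hCp.to_sup_of_normal_left' T.2 hTn) le_sup_right).le
  exact fun x hx => hC ⟨hle hx, hx⟩

/-- In a group of characteristic `p`, overgroups of such a `Q` have characteristic `p`. -/
theorem hasCharP_of_sylow_normal_le [Finite G] [hp : Fact p.Prime] (hG : HasCharP p G)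
    (T : Sylow p G) (Q : Subgroup G) (hQT : Q ≤ (T : Subgroup G))
    (hQn : (T : Subgroup G) ≤ Subgroup.normalizer (Q : Set G))
    (hC : (T : Subgroup G) ⊓ Subgroup.centralizer (Q : Set G) ≤ Q) (L : Subgroup G)
    (hQL : Q ≤ L) : HasCharP p L := by
  have hP := isPGroup_pCore p G
  have hPn := Cfsg.Agent.HallCore.pCore_normal p G
  have hCQ := centralizer_le_of_sylow hG T Q hQT hQn hC
  have hPT : Cfsg.pCore p G ≤ (T : Subgroup G) :=
    le_sup_left.trans (T.3 (hP.to_sup_of_normal_left' T.2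
      (by simp [Subgroup.normalizer_eq_top_iff.mpr hPn])) le_sup_right).le
  set P := Cfsg.pCore p G with hPdef
  set D := Subgroup.centralizer (Cfsg.pCore p L : Set L) with hD
  have hDn : D.Normal := inferInstance
  set I := P ⊓ Q with hI
  have hDI : ∀ d ∈ D, ∀ k ∈ I, Commute (d : G) k := by
    intro d hd k hk
    have : (⟨k, hQL hk.2⟩ : L) ∈ Cfsg.pCore p L :=
      Cfsg.Agent.HallCore.pCore_subgroupOf_le L (by simpa [mem_subgroupOf] using hk.1)
    exact (congrArg Subtype.val (mem_centralizer_iff.mp hd _ this)).symm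
  -- `E`: elements of `D` acting trivially on `P / (P ⊓ Q)`
  let E : Subgroup L :=
    { carrier := {g | g ∈ D ∧ ∀ y ∈ P, (g : G) * y * (g : G)⁻¹ * y⁻¹ ∈ I}
      one_mem' := ⟨one_mem _, by simp⟩
      mul_mem' := by
        intro a b ha hb
        refine ⟨mul_mem ha.1 hb.1, fun y hy => ?_⟩
        have hk := hb.2 y hy
        have hk2 := ha.2 y hy
        have hc := (hDI a ha.1 _ hk).eq
        have : ((a * b : L) : G) * y * ((a * b : L) : G)⁻¹ * y⁻¹
            = ((b : G) * y * (b : G)⁻¹ * y⁻¹) * ((a : G) * y * (a : G)⁻¹ * y⁻¹) := by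
          calc ((a * b : L) : G) * y * ((a * b : L) : G)⁻¹ * y⁻¹
              = ((a : G) * ((b : G) * y * (b : G)⁻¹ * y⁻¹)) * y * (a : G)⁻¹ * y⁻¹ := by
                simp [mul_assoc]
            _ = (((b : G) * y * (b : G)⁻¹ * y⁻¹) * (a : G)) * y * (a : G)⁻¹ * y⁻¹ := by rw [hc]
            _ = _ := by group
        rw [this]; exact mul_mem hk hk2
      inv_mem' := by
        intro a ha
        refine ⟨inv_mem ha.1, fun y hy => ?_⟩
        have hy' : (a : G)⁻¹ * y * (a : G) ∈ P := by simpa using hPn.conj_mem y hy (a : G)⁻¹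
        have hk := inv_mem (ha.2 _ hy')
        have : (((a⁻¹ : L)) : G) * y * (((a⁻¹ : L)) : G)⁻¹ * y⁻¹
            = ((a : G) * ((a : G)⁻¹ * y * (a : G)) * (a : G)⁻¹ *
                ((a : G)⁻¹ * y * (a : G))⁻¹)⁻¹ := by
          simp [mul_assoc]
        rw [this]; exact hk }
  have hEp : IsPGroup p E := by
    refine isPGroup_of_coprime_eq_one fun g hg hgo => ?_
    have hgo' : (orderOf (g : G)).Coprime p := by simpa using hgo
    have hgP : (g : G) ∈ P := hG (mem_centralizer_iff.mpr fun y hy =>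
      (commute_of_comm_commute (H := I) (hP.to_le inf_le_left) hgo' (hg.2 y hy)
        (hDI g hg.1 _ (hg.2 y hy))).eq.symm)
    exact Subtype.ext (eq_one_of_coprime_of_mem hP hgP hgo')
  have hED : E ≤ D := fun g hg => hg.1
  have hconj : ∀ d ∈ D, ∀ g ∈ E, d * g * d⁻¹ ∈ E := by
    intro d hd g hg
    refine ⟨hDn.conj_mem g hg.1 d, fun y hy => ?_⟩
    have hy' : (d : G)⁻¹ * y * (d : G) ∈ P := by simpa using hPn.conj_mem y hy (d : G)⁻¹
    have hk := hg.2 _ hy'
    have hc := (hDI d hd _ hk).eq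
    have : (((d * g * d⁻¹ : L)) : G) * y * (((d * g * d⁻¹ : L)) : G)⁻¹ * y⁻¹ =
        (d : G) * ((g : G) * ((d : G)⁻¹ * y * (d : G)) * (g : G)⁻¹ *
          ((d : G)⁻¹ * y * (d : G))⁻¹) * (d : G)⁻¹ := by
      simp [mul_assoc]
    rw [this, hc, mul_inv_cancel_right]
    exact hk
  have hEn : (E.subgroupOf D).Normal :=
    ⟨fun n hn g => by
      rw [mem_subgroupOf] at hn ⊢
      simpa using hconj g g.2 n hn⟩
  have hEcore : E ≤ Cfsg.pCore p L := by
    have h1 : E.subgroupOf D ≤ Cfsg.pCore p D :=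
      le_pCore (hEp.comap_of_injective _ D.subtype_injective)
    intro g hg
    have h2 : g ∈ (Cfsg.pCore p D).map D.subtype :=
      ⟨⟨g, hED hg⟩, h1 (by simpa [mem_subgroupOf] using hg), rfl⟩
    rw [Cfsg.Agent.HallCore.map_subtype_pCore] at h2
    exact h2.1
  have hDp : IsPGroup p D := by
    refine isPGroup_of_coprime_eq_one fun d hd hdo => ?_
    have hdQ : (d : G) ∈ Subgroup.centralizer (Q : Set G) := by
      refine mem_centralizer_iff.mpr fun q hq => ?_
      set qL : L := ⟨q, hQL hq⟩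
      have hcD : d * qL * d⁻¹ * qL⁻¹ ∈ D := by
        have := mul_mem hd (hDn.conj_mem d⁻¹ (inv_mem hd) qL)
        simpa [mul_assoc] using this
      have hqP : ∀ y ∈ P, q * y * q⁻¹ * y⁻¹ ∈ I := by
        intro y hy
        refine ⟨P.mul_mem (hPn.conj_mem y hy q) (P.inv_mem hy), ?_⟩
        have := mul_mem hq ((mem_normalizer_iff.mp (hQn (hPT hy)) q⁻¹).mp (inv_mem hq))
        simpa [mul_assoc] using this
      have hcE : d * qL * d⁻¹ * qL⁻¹ ∈ E := by
        refine ⟨hcD, fun y hy => ?_⟩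
        -- c = (d q d⁻¹) q⁻¹
        have hy1 : q⁻¹ * y * q ∈ P := by simpa using hPn.conj_mem y hy q⁻¹
        have hy2 : (d : G)⁻¹ * (q⁻¹ * y * q) * (d : G) ∈ P := by
          simpa using hPn.conj_mem _ hy1 (d : G)⁻¹
        have k1 := hqP _ hy1
        have k2 := hqP _ hy2
        have hc := (hDI d hd _ k2).eq
        have : (((d * qL * d⁻¹ * qL⁻¹ : L)) : G) * y * (((d * qL * d⁻¹ * qL⁻¹ : L)) : G)⁻¹ * y⁻¹ =
            (d : G) * (q * ((d : G)⁻¹ * (q⁻¹ * y * q) * (d : G)) * q⁻¹ *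
              ((d : G)⁻¹ * (q⁻¹ * y * q) * (d : G))⁻¹) * (d : G)⁻¹ *
              (q * (q⁻¹ * y * q) * q⁻¹ * (q⁻¹ * y * q)⁻¹)⁻¹ := by
          simp [qL, mul_assoc]
        rw [this, hc, mul_inv_cancel_right]
        exact mul_mem k2 (inv_mem k1)
      have hcomm := mem_centralizer_iff.mp hd _ (hEcore hcE)
      have := commute_of_comm_commute (isPGroup_pCore p L) hdo (hEcore hcE) hcomm.symm
      exact (congrArg Subtype.val this.eq).symm
    exact Subtype.ext (eq_one_of_coprime_of_mem (T.2.to_le hQT) (hCQ hdQ) (by simpa using hdo))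
  exact le_pCore hDp


end Cfsg.Agent.CharPBasic
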