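import Mathlib
import Cfsg.Prelude.Def_Characters
import Cfsg.Agent.Lib.CharBasic
import Cfsg.Agent.Lib.CharBasicOrth
import Cfsg.Agent.Lib.CharBasicDecomp
import Cfsg.Agent.Lib.CharBasicInt
import Cfsg.Agent.Lib.CharAverage

/-!
# The Glauberman correspondence for a p-group of operators (helper78)

`A` is a p-group acting on `G` through `φ`, `p` does not divide the order of `G`, and `ι : C →* G`
identifies `C` with the fixed points.  Every congruence is taken modulo `p` in the ring of all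
algebraic integers (`PDvd`), so no prime ideal is needed.
-/

set_option autoImplicit false

namespace Cfsg.Agent.GlaubermanP

open scoped ComplexConjugate
open Cfsg.Agent.CharBasic Cfsg.Agent.CharBasicOrth Cfsg.Agent.CharBasicDecomp

/-! ### Congruences modulo `p` in the algebraic integers -/

/-- `p` divides the complex number `z` in the ring of algebraic integers. -/
def PDvd (p : ℕ) (z : ℂ) : Prop := IsIntegral ℤ (z / (p : ℂ))

section PDvd

variable {p : ℕ}

theorem pDvd_zero : PDvd p 0 := by rw [PDvd, zero_div]; exact isIntegral_zero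

theorem PDvd.add {x y : ℂ} (hx : PDvd p x) (hy : PDvd p y) : PDvd p (x + y) := by
  rw [PDvd, add_div]; exact IsIntegral.add hx hy

theorem PDvd.sub {x y : ℂ} (hx : PDvd p x) (hy : PDvd p y) : PDvd p (x - y) := by
  rw [PDvd, sub_div]; exact IsIntegral.sub hx hy

theorem PDvd.mul_left {x y : ℂ} (hx : IsIntegral ℤ x) (hy : PDvd p y) : PDvd p (x * y) := by
  rw [PDvd, mul_div_assoc]; exact hx.mul hy

theorem PDvd.mul_right {x y : ℂ} (hx : PDvd p x) (hy : IsIntegral ℤ y) : PDvd p (x * y) := by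
  rw [mul_comm]; exact hx.mul_left hy

theorem pDvd_sum {ι : Type*} {s : Finset ι} {f : ι → ℂ} (h : ∀ i ∈ s, PDvd p (f i)) :
    PDvd p (∑ i ∈ s, f i) :=
  Finset.sum_induction f _ (fun _ _ => PDvd.add) pDvd_zero h

theorem pDvd_natCast_mul [Fact p.Prime] {k : ℕ} (h : p ∣ k) {x : ℂ} (hx : IsIntegral ℤ x) :
    PDvd p ((k : ℂ) * x) := by
  obtain ⟨j, rfl⟩ := h
  have hp : (p : ℂ) ≠ 0 := Nat.cast_ne_zero.2 (Fact.out : p.Prime).ne_zero
  have e : ((p * j : ℕ) : ℂ) * x / (p : ℂ) = (j : ℂ) * x := by push_cast; field_simp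
  rw [PDvd, e]
  exact (isIntegral_algebraMap (R := ℤ) (A := ℂ) (x := (j : ℤ))).mul hx

theorem int_dvd_of_pDvd [Fact p.Prime] {k : ℤ} (h : PDvd p (k : ℂ)) : (p : ℤ) ∣ k := by
  rw [Int.natCast_dvd]
  refine CharBasicInt.dvd_of_isIntegral_div (Fact.out : p.Prime).ne_zero ?_
  rcases k.natAbs_eq with e | e
  · rw [PDvd, e, Int.cast_natCast] at h; exact h
  · rw [PDvd, e, Int.cast_neg, Int.cast_natCast, neg_div] at h
    simpa using h.neg

theorem isIntegral_natCast (k : ℕ) : IsIntegral ℤ (k : ℂ) := by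
  simpa using isIntegral_algebraMap (R := ℤ) (A := ℂ) (x := (k : ℤ))

theorem isIntegral_conj {z : ℂ} (hz : IsIntegral ℤ z) : IsIntegral ℤ (conj z) :=
  hz.map (starRingEnd ℂ).toIntAlgHom

/-- A sum of an invariant function over a set with a p-group acting is congruent to the sum over
the fixed points. -/
theorem pDvd_sum_sub_fixed [Fact p.Prime] {A : Type*} [Group A] [Finite A] (hA : IsPGroup p A)
    {X : Type*} [Fintype X] [MulAction A X] (f : X → ℂ) (hf : ∀ (a : A) (x : X), f (a • x) = f x)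
    (hint : ∀ x, IsIntegral ℤ (f x)) [DecidablePred (· ∈ MulAction.fixedPoints A X)] :
    PDvd p (∑ x, f x - ∑ x ∈ Finset.univ.filter (· ∈ MulAction.fixedPoints A X), f x) := by
  classical
  rw [← Finset.sum_filter_add_sum_filter_not Finset.univ (· ∈ MulAction.fixedPoints A X) f,
    add_sub_cancel_left,
    ← Finset.sum_fiberwise _ (fun x : X => (Quotient.mk (MulAction.orbitRel A X) x))]
  refine pDvd_sum fun q _ => ?_
  obtain ⟨x₀, rfl⟩ := Quotient.exists_rep q
  by_cases h0 : x₀ ∈ MulAction.fixedPoints A X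
  · rw [Finset.sum_eq_zero]
    · exact pDvd_zero
    intro x hx
    simp only [Finset.mem_filter, Finset.mem_univ, true_and] at hx
    obtain ⟨a, ha⟩ := (Quotient.eq.mp hx.2 : x ∈ MulAction.orbit A x₀)
    have hx0 : x = x₀ := ha.symm.trans (h0 a)
    exact absurd (hx0 ▸ h0) hx.1
  · have hset : (((Finset.univ.filter fun x => x ∉ MulAction.fixedPoints A X).filter fun x =>
        (Quotient.mk (MulAction.orbitRel A X) x) = Quotient.mk _ x₀) : Finset X) =
        (MulAction.orbit A x₀).toFinset := by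
      ext x
      simp only [Finset.mem_filter, Finset.mem_univ, true_and, Set.mem_toFinset]
      refine ⟨fun hx => Quotient.eq.mp hx.2, fun hx => ⟨fun hfix => ?_, Quotient.eq.mpr hx⟩⟩
      obtain ⟨a, ha⟩ := hx
      have ha' : x₀ = a⁻¹ • x := by rw [← ha]; simp
      rw [hfix a⁻¹] at ha'
      exact h0 (ha' ▸ hfix)
    rw [hset, Finset.sum_congr rfl (g := fun _ => f x₀) (fun x hx => by
      obtain ⟨a, rfl⟩ := Set.mem_toFinset.mp hx
      exact hf a x₀), Finset.sum_const, nsmul_eq_mul, Set.toFinset_card,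
      ← Nat.card_eq_fintype_card]
    refine pDvd_natCast_mul ?_ (hint _)
    obtain ⟨k, hk⟩ := hA.card_orbit x₀
    rw [hk]
    refine dvd_pow_self p fun hk0 => h0 fun a => ?_
    rw [hk0, pow_zero, Nat.card_eq_one_iff_unique] at hk
    exact congrArg Subtype.val
      (hk.1.elim ⟨a • x₀, ⟨a, rfl⟩⟩ ⟨x₀, MulAction.mem_orbit_self x₀⟩)

end PDvd

/-! ### The correspondence -/

/-- The data: a p-group acting coprimely, with `C` embedded as the fixed points. -/
structure Setup (p : ℕ) (A G C : Type*) [Group A] [Group G] [Group C] : Prop where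
  prime : p.Prime
  pgroup : IsPGroup p A
  coprime : ¬ p ∣ Nat.card G

variable {p : ℕ} {A G C : Type*} [Group A] [Group G] [Group C]

/-- `χ` is invariant under the action. -/
def Inv (φ : A →* MulAut G) (χ : G → ℂ) : Prop := ∀ (a : A) (g : G), χ (φ a g) = χ g

/-- `C` is the fixed-point subgroup. -/
def IsFix (φ : A →* MulAut G) (ι : C →* G) : Prop :=
  Function.Injective ι ∧ ∀ g : G, g ∈ ι.range ↔ ∀ a : A, φ a g = g

/-- The action on the irreducible characters. -/
noncomputable def act (φ : A →* MulAut G) (a : A) (χ : Cfsg.IrrCharacter G) :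
    Cfsg.IrrCharacter G :=
  ⟨(χ : G → ℂ) ∘ (φ a⁻¹).toMonoidHom,
    isIrrCharacter_comap _ (φ a⁻¹).surjective χ.2⟩

theorem act_apply (φ : A →* MulAut G) (a : A) (χ : Cfsg.IrrCharacter G) (g : G) :
    ((act φ a χ : Cfsg.IrrCharacter G) : G → ℂ) g = (χ : G → ℂ) (φ a⁻¹ g) := rfl

/-- The multiplicity of `β` in the restriction of `χ`. -/
noncomputable def mult [Fintype C] (ι : C →* G) (χ : Cfsg.IrrCharacter G)
    (β : Cfsg.IrrCharacter C) : ℕ :=
  (exists_mult (isCharacter_comap ι (isCharacter_of_isIrrCharacter χ.2))).choose β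

section Mult

variable [Fintype C] (ι : C →* G)

theorem classInner_eq_mult (χ : Cfsg.IrrCharacter G) (β : Cfsg.IrrCharacter C) :
    Cfsg.classInner ((χ : G → ℂ) ∘ ι) (β : C → ℂ) = (mult ι χ β : ℂ) :=
  (exists_mult (isCharacter_comap ι (isCharacter_of_isIrrCharacter χ.2))).choose_spec.1 β

theorem comp_eq_sum (χ : Cfsg.IrrCharacter G) :
    (χ : G → ℂ) ∘ ι = ∑ β : Cfsg.IrrCharacter C, (mult ι χ β : ℂ) • (β : C → ℂ) :=
  (exists_mult (isCharacter_comap ι (isCharacter_of_isIrrCharacter χ.2))).choose_spec.2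

theorem mult_eq_iff (χ : Cfsg.IrrCharacter G) (β : Cfsg.IrrCharacter C) (m : ℕ) :
    Cfsg.classInner ((χ : G → ℂ) ∘ ι) (β : C → ℂ) = (m : ℂ) ↔ mult ι χ β = m := by
  rw [classInner_eq_mult, Nat.cast_inj]

theorem sum_mul_conj (χ : Cfsg.IrrCharacter G) (β : Cfsg.IrrCharacter C) :
    ∑ c : C, (χ : G → ℂ) (ι c) * conj ((β : C → ℂ) c) = (Nat.card C : ℂ) * mult ι χ β := by
  rw [← classInner_eq_mult, card_mul_classInner]
  rfl

theorem sum_mul_conj_irr (β γ : Cfsg.IrrCharacter C) [Decidable (β = γ)] :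
    ∑ c : C, (β : C → ℂ) c * conj ((γ : C → ℂ) c) =
      if β = γ then (Nat.card C : ℂ) else 0 := by
  classical
  rw [← card_mul_classInner, classInner_irrCharacter]
  by_cases h : β = γ <;> simp [h]

end Mult

theorem isIntegral_irr [Finite G] (χ : Cfsg.IrrCharacter G) (g : G) :
    IsIntegral ℤ ((χ : G → ℂ) g) :=
  isCharacter_integral (isCharacter_of_isIrrCharacter χ.2) g

variable {φ : A →* MulAut G} {ι : C →* G}

theorem fixed_iota (hι : IsFix φ ι) (a : A) (c : C) : φ a (ι c) = ι c :=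
  (hι.2 (ι c)).1 ⟨c, rfl⟩ a

/-- Sums over `G` of invariant functions are congruent to sums over `C`. -/
theorem pDvd_sum_sub [Finite A] [Fintype G] [Fintype C] (hS : Setup p A G C) (hι : IsFix φ ι)
    (f : G → ℂ) (hf : ∀ a g, f (φ a g) = f g) (hint : ∀ g, IsIntegral ℤ (f g)) :
    PDvd p (∑ g, f g - ∑ c, f (ι c)) := by
  classical
  haveI : Fact p.Prime := ⟨hS.prime⟩
  letI : MulAction A G :=
    { smul := fun a g => φ a g
      one_smul := fun g => by show φ 1 g = g; rw [map_one]; rfl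
      mul_smul := fun a b g => by show φ (a * b) g = φ a (φ b g); rw [map_mul]; rfl }
  have h := pDvd_sum_sub_fixed hS.pgroup f hf hint
  have e : ∑ x ∈ Finset.univ.filter (· ∈ MulAction.fixedPoints A G), f x = ∑ c, f (ι c) := by
    refine (Finset.sum_bij (fun c _ => ι c) (fun c _ => ?_) (fun a _ b _ hab => hι.1 hab) ?_
      (fun c _ => rfl)).symm
    · exact Finset.mem_filter.2 ⟨Finset.mem_univ _, fun a => fixed_iota hι a c⟩
    · intro g hg
      obtain ⟨c, hc⟩ := (hι.2 g).2 (Finset.mem_filter.1 hg).2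
      exact ⟨c, Finset.mem_univ _, hc⟩
  rwa [e] at h

theorem pDvd_card_sub [Finite A] [Fintype G] [Fintype C] (hS : Setup p A G C) (hι : IsFix φ ι) :
    PDvd p ((Nat.card G : ℂ) - Nat.card C) := by
  have h := pDvd_sum_sub hS hι (fun _ => 1) (fun _ _ => rfl) (fun _ => isIntegral_one)
  simpa [Nat.card_eq_fintype_card] using h

theorem not_dvd_card [Finite G] (hS : Setup p A G C) (hι : IsFix φ ι) : ¬ p ∣ Nat.card C :=
  fun h => hS.coprime (h.trans (Subgroup.card_dvd_of_injective ι hι.1))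

theorem dvd_of_card_mul [Finite G] (hS : Setup p A G C) (hι : IsFix φ ι) {k : ℤ} {e : ℕ}
    (h : PDvd p ((Nat.card C : ℂ) ^ e * k)) : (p : ℤ) ∣ k := by
  haveI : Fact p.Prime := ⟨hS.prime⟩
  have h' : PDvd p ((((Nat.card C : ℤ) ^ e * k : ℤ)) : ℂ) := by push_cast; exact h
  refine ((Nat.prime_iff_prime_int.mp hS.prime).dvd_mul.1 (int_dvd_of_pDvd h')).resolve_left
    fun hd => ?_
  exact not_dvd_card hS hι (by exact_mod_cast (Nat.prime_iff_prime_int.mp hS.prime).dvd_of_dvd_pow hd)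

variable [Finite A] [Fintype G] [Fintype C]

/-- Rows are orthonormal modulo `p`. -/
theorem sum_mult_mul (hS : Setup p A G C) (hι : IsFix φ ι) (χ χ' : Cfsg.IrrCharacter G)
    (hχ : Inv φ χ) (hχ' : Inv φ χ') [Decidable (χ = χ')] :
    (p : ℤ) ∣ (if χ = χ' then 1 else 0) -
      ∑ β : Cfsg.IrrCharacter C, (mult ι χ β : ℤ) * (mult ι χ' β : ℤ) := by
  classical
  have h := pDvd_sum_sub hS hι (fun g => (χ : G → ℂ) g * conj ((χ' : G → ℂ) g))
    (fun a g => by rw [hχ a g, hχ' a g])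
    (fun g => (isIntegral_irr χ g).mul (isIntegral_conj (isIntegral_irr χ' g)))
  have e1 : ∑ g, (χ : G → ℂ) g * conj ((χ' : G → ℂ) g) =
      (Nat.card G : ℂ) * (if χ = χ' then 1 else 0) := by
    rw [← card_mul_classInner, classInner_irrCharacter]
    congr 1
    split_ifs <;> rfl
  have e2 : ∑ c, (χ : G → ℂ) (ι c) * conj ((χ' : G → ℂ) (ι c)) =
      (Nat.card C : ℂ) * ∑ β : Cfsg.IrrCharacter C, (mult ι χ β : ℂ) * (mult ι χ' β : ℂ) := by
    have hcf : Cfsg.IsClassFunction C ((χ : G → ℂ) ∘ ι) :=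
      isClassFunction_of_isCharacter (isCharacter_comap ι (isCharacter_of_isIrrCharacter χ.2))
    have h3 := card_mul_classInner ((χ : G → ℂ) ∘ ι) ((χ' : G → ℂ) ∘ ι)
    rw [classInner_eq_sum hcf] at h3
    refine h3.symm.trans ?_
    simp only [classInner_eq_mult, map_natCast]
  rw [e1, e2] at h
  have h4 := (pDvd_card_sub hS hι).mul_right (y := (if χ = χ' then 1 else 0 : ℂ))
    (by split_ifs <;> simp [isIntegral_one, isIntegral_zero])
  refine dvd_of_card_mul hS hι (e := 1) ?_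
  convert h.sub h4 using 1
  push_cast
  ring

/-- At most one multiplicity is prime to `p`. -/
theorem dvd_mult_mul (hS : Setup p A G C) (hι : IsFix φ ι) (χ : Cfsg.IrrCharacter G)
    (hχ : Inv φ χ) (β γ : Cfsg.IrrCharacter C) (hne : β ≠ γ) :
    (p : ℤ) ∣ (mult ι χ β : ℤ) * (mult ι χ γ : ℤ) := by
  classical
  obtain ⟨n, -, hn⟩ := isIrrCharacter_apply_one χ.2
  set ψ : C → ℂ := fun c => (χ : G → ℂ) (ι c) with hψ
  have hE : ∀ c d : C, PDvd p
      ((n : ℂ) * ∑ a : C, ψ (a * c * a⁻¹ * d) - (Nat.card C : ℂ) * (ψ c * ψ d)) := by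
    intro c d
    have h1 := pDvd_sum_sub hS hι (fun a => (χ : G → ℂ) (a * ι c * a⁻¹ * ι d))
      (fun a g => by
        have := hχ a (g * ι c * g⁻¹ * ι d)
        simpa [map_mul, map_inv, fixed_iota hι] using this)
      (fun g => isIntegral_irr χ _)
    rw [CharAverage.sum_conj_mul] at h1
    have h1' := h1.mul_left (x := (n : ℂ)) (isIntegral_natCast n)
    have h2 := (pDvd_card_sub hS hι).mul_right (y := ψ c * ψ d)
      ((isIntegral_irr χ _).mul (isIntegral_irr χ _))
    have hn0 : (n : ℂ) ≠ 0 := hn ▸ isIrrCharacter_apply_one_ne_zero χ.2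
    convert h2.sub h1' using 1
    simp only [hψ, map_mul, map_inv, hn]
    field_simp
    ring
  have hsum : PDvd p (∑ c : C, ∑ d : C,
      ((n : ℂ) * ∑ a : C, ψ (a * c * a⁻¹ * d) - (Nat.card C : ℂ) * (ψ c * ψ d)) *
        (conj ((β : C → ℂ) c) * conj ((γ : C → ℂ) d))) :=
    pDvd_sum fun c _ => pDvd_sum fun d _ =>
      (hE c d).mul_right ((isIntegral_conj (isIntegral_irr β c)).mul
        (isIntegral_conj (isIntegral_irr γ d)))
  have hexp : ∀ x : C, ψ x = ∑ δ : Cfsg.IrrCharacter C, (mult ι χ δ : ℂ) * (δ : C → ℂ) x := by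
    intro x
    have := congrFun (comp_eq_sum ι χ) x
    simpa [hψ, Finset.sum_apply] using this
  have hfac : ∀ δ : Cfsg.IrrCharacter C,
      ∑ c : C, ∑ d : C, ((δ : C → ℂ) c * (δ : C → ℂ) d) *
        (conj ((β : C → ℂ) c) * conj ((γ : C → ℂ) d)) = 0 := by
    intro δ
    have : ∑ c : C, ∑ d : C, ((δ : C → ℂ) c * (δ : C → ℂ) d) *
        (conj ((β : C → ℂ) c) * conj ((γ : C → ℂ) d)) =
        (∑ c : C, (δ : C → ℂ) c * conj ((β : C → ℂ) c)) *
          (∑ d : C, (δ : C → ℂ) d * conj ((γ : C → ℂ) d)) := by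
      rw [Finset.sum_mul_sum]
      exact Finset.sum_congr rfl fun c _ => Finset.sum_congr rfl fun d _ => by ring
    rw [this, sum_mul_conj_irr, sum_mul_conj_irr]
    split_ifs with h1 h2
    · exact absurd (h1.symm.trans h2) hne
    all_goals simp
  have e : ∀ c d : C, ∑ a : C, ψ (a * c * a⁻¹ * d) = ∑ δ : Cfsg.IrrCharacter C,
      ((mult ι χ δ : ℂ) * (Nat.card C : ℂ) / (δ : C → ℂ) 1) * ((δ : C → ℂ) c * (δ : C → ℂ) d) := by
    intro c d
    simp only [hexp]
    rw [Finset.sum_comm]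
    refine Finset.sum_congr rfl fun δ _ => ?_
    rw [← Finset.mul_sum, CharAverage.sum_conj_mul]
    ring
  have hA1 : ∑ c : C, ∑ d : C, (∑ a : C, ψ (a * c * a⁻¹ * d)) *
      (conj ((β : C → ℂ) c) * conj ((γ : C → ℂ) d)) = 0 := by
    simp only [e, Finset.sum_mul]
    rw [Finset.sum_congr rfl fun c _ => Finset.sum_comm, Finset.sum_comm]
    refine Finset.sum_eq_zero fun δ _ => ?_
    simp only [mul_assoc ((mult ι χ δ : ℂ) * (Nat.card C : ℂ) / (δ : C → ℂ) 1), ← Finset.mul_sum]
    rw [hfac δ, mul_zero]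
  have hA2 : ∑ c : C, ∑ d : C, (ψ c * ψ d) * (conj ((β : C → ℂ) c) * conj ((γ : C → ℂ) d)) =
      ((Nat.card C : ℂ) * mult ι χ β) * ((Nat.card C : ℂ) * mult ι χ γ) := by
    rw [← sum_mul_conj, ← sum_mul_conj, Finset.sum_mul_sum]
    exact Finset.sum_congr rfl fun c _ => Finset.sum_congr rfl fun d _ => by
      simp only [hψ]; ring
  have hneg := pDvd_zero.sub hsum
  refine dvd_of_card_mul hS hι (e := 3) ?_
  convert hneg using 1
  simp only [sub_mul, Finset.sum_sub_distrib, mul_assoc (n : ℂ), mul_assoc (Nat.card C : ℂ),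
    ← Finset.mul_sum]
  rw [hA1, hA2]
  push_cast
  ring

/-- Every invariant character has a constituent of multiplicity prime to `p`, and it is unique. -/
theorem existsUnique_mult (hS : Setup p A G C) (hι : IsFix φ ι) (χ : Cfsg.IrrCharacter G)
    (hχ : Inv φ χ) : ∃! β : Cfsg.IrrCharacter C, ¬ p ∣ mult ι χ β := by
  classical
  have hex : ∃ β : Cfsg.IrrCharacter C, ¬ p ∣ mult ι χ β := by
    by_contra hc
    push_neg at hc
    have h1 := sum_mult_mul hS hι χ χ hχ hχ
    rw [if_pos rfl] at h1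
    have h2 : (p : ℤ) ∣ ∑ β : Cfsg.IrrCharacter C, (mult ι χ β : ℤ) * (mult ι χ β : ℤ) :=
      Finset.dvd_sum fun β _ => (Int.natCast_dvd_natCast.2 (hc β)).mul_right _
    have h3 := dvd_add h1 h2
    rw [sub_add_cancel] at h3
    exact hS.prime.not_dvd_one (by exact_mod_cast h3)
  obtain ⟨β, hβ⟩ := hex
  refine ⟨β, hβ, fun γ hγ => by_contra fun hne => ?_⟩
  have := dvd_mult_mul hS hι χ hχ γ β hne
  rw [← Nat.cast_mul, Int.natCast_dvd_natCast, hS.prime.dvd_mul] at this
  exact this.elim hγ hβ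

theorem sum_mult_mul_eq (hS : Setup p A G C) (hι : IsFix φ ι) (χ χ' : Cfsg.IrrCharacter G)
    (hχ : Inv φ χ) {β : Cfsg.IrrCharacter C} (hβ : ¬ p ∣ mult ι χ β) :
    (p : ℤ) ∣ (mult ι χ β : ℤ) * (mult ι χ' β : ℤ) -
      ∑ γ : Cfsg.IrrCharacter C, (mult ι χ γ : ℤ) * (mult ι χ' γ : ℤ) := by
  classical
  rw [← Finset.add_sum_erase _ _ (Finset.mem_univ β), sub_add_cancel_left, dvd_neg]
  refine Finset.dvd_sum fun γ hγ => (Int.natCast_dvd_natCast.2 ?_).mul_right _
  by_contra h
  exact (Finset.mem_erase.1 hγ).1 ((existsUnique_mult hS hι χ hχ).unique h hβ)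

/-- The exceptional multiplicity is congruent to `1` or `-1`. -/
theorem mult_modEq (hS : Setup p A G C) (hι : IsFix φ ι) (χ : Cfsg.IrrCharacter G)
    (hχ : Inv φ χ) {β : Cfsg.IrrCharacter C} (hβ : ¬ p ∣ mult ι χ β) :
    (mult ι χ β : ℤ) ≡ 1 [ZMOD p] ∨ (mult ι χ β : ℤ) ≡ -1 [ZMOD p] := by
  classical
  have h1 := sum_mult_mul hS hι χ χ hχ hχ
  have h2 := sum_mult_mul_eq hS hι χ χ hχ hβ
  rw [if_pos rfl] at h1
  have h3 : (p : ℤ) ∣ ((mult ι χ β : ℤ) - 1) * ((mult ι χ β : ℤ) + 1) := by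
    rw [show ((mult ι χ β : ℤ) - 1) * ((mult ι χ β : ℤ) + 1) =
      ((mult ι χ β : ℤ) * (mult ι χ β : ℤ) -
        ∑ γ : Cfsg.IrrCharacter C, (mult ι χ γ : ℤ) * (mult ι χ γ : ℤ)) -
      (1 - ∑ γ : Cfsg.IrrCharacter C, (mult ι χ γ : ℤ) * (mult ι χ γ : ℤ)) by ring]
    exact dvd_sub h2 h1
  rcases (Nat.prime_iff_prime_int.mp hS.prime).dvd_mul.1 h3 with h | h
  · exact Or.inl (Int.modEq_iff_dvd.2 h).symm
  · exact Or.inr (Int.modEq_iff_dvd.2 (by simpa using h)).symm

/-- Distinct invariant characters have distinct correspondents. -/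
theorem mult_injective (hS : Setup p A G C) (hι : IsFix φ ι) (χ χ' : Cfsg.IrrCharacter G)
    (hχ : Inv φ χ) (hχ' : Inv φ χ') {β : Cfsg.IrrCharacter C} (hβ : ¬ p ∣ mult ι χ β)
    (hβ' : ¬ p ∣ mult ι χ' β) : χ = χ' := by
  classical
  by_contra hne
  have h1 := sum_mult_mul hS hι χ χ' hχ hχ'
  have h2 := sum_mult_mul_eq hS hι χ χ' hχ hβ
  rw [if_neg hne] at h1
  have h3 := dvd_sub h2 h1
  rw [zero_sub, sub_neg_eq_add, sub_add_cancel, ← Nat.cast_mul, Int.natCast_dvd_natCast,
    hS.prime.dvd_mul] at h3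
  exact h3.elim hβ hβ'

theorem card_conjugators (c d : G) [Decidable (IsConj c d)] [DecidableEq G] :
    (∑ a : G, if a * c * a⁻¹ = d then (1 : ℂ) else 0) =
      if IsConj c d then (Nat.card (Subgroup.centralizer ({c} : Set G)) : ℂ) else 0 := by
  rw [Finset.sum_boole]
  split_ifs with h
  · obtain ⟨b, hb⟩ := isConj_iff.1 h
    rw [Nat.cast_inj, ← Fintype.card_subtype, ← Nat.card_eq_fintype_card]
    refine Nat.card_congr ((Equiv.mulLeft b⁻¹).subtypeEquiv fun a => ?_)
    rw [Subgroup.mem_centralizer_singleton_iff, Equiv.coe_mulLeft, ← hb]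
    refine ⟨fun e => ?_, fun e => ?_⟩
    · have := congrArg (fun t => b⁻¹ * t * a) e
      simpa [mul_assoc] using this
    · have := congrArg (fun t => b * t * a⁻¹) e
      simpa [mul_assoc] using this
  · rw [Nat.cast_eq_zero, Finset.card_eq_zero, Finset.filter_eq_empty_iff]
    exact fun a _ e => h (isConj_iff.2 ⟨a, e⟩)

/-- Every irreducible character of `C` is a correspondent. -/
theorem mult_surjective (hS : Setup p A G C) (hι : IsFix φ ι) (β : Cfsg.IrrCharacter C) :
    ∃ χ : Cfsg.IrrCharacter G, Inv φ χ ∧ ¬ p ∣ mult ι χ β := by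
  classical
  haveI : Fact p.Prime := ⟨hS.prime⟩
  by_contra hc
  push_neg at hc
  set b : C → ℂ := (β : C → ℂ) with hb
  -- all characters together
  have hall : ∑ χ : Cfsg.IrrCharacter G,
      ((Nat.card C : ℂ) * mult ι χ β) * ((Nat.card C : ℂ) * mult ι χ β) =
      ∑ a : G, ∑ c : C, ∑ d : C,
        (if a * ι c * a⁻¹ = ι d then (1 : ℂ) else 0) * (conj (b c) * b d) := by
    rw [Finset.sum_comm]
    conv_rhs => enter [2, c]; rw [Finset.sum_comm]
    simp only [← Finset.sum_mul, card_conjugators, ← sum_irr_mul_conj]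
    have hconj : ∀ χ : Cfsg.IrrCharacter G, (Nat.card C : ℂ) * mult ι χ β =
        ∑ d : C, conj ((χ : G → ℂ) (ι d)) * b d := by
      intro χ
      have h := congrArg conj (sum_mul_conj ι χ β)
      simp only [map_sum, map_mul, Complex.conj_conj, map_natCast] at h
      exact h.symm
    have e2 : ∀ χ : Cfsg.IrrCharacter G,
        ((Nat.card C : ℂ) * mult ι χ β) * ((Nat.card C : ℂ) * mult ι χ β) =
        ∑ c : C, ∑ d : C,
          ((χ : G → ℂ) (ι c) * conj ((χ : G → ℂ) (ι d))) * (conj (b c) * b d) := by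
      intro χ
      nth_rewrite 1 [← sum_mul_conj]
      rw [hconj, Finset.sum_mul_sum]
      exact Finset.sum_congr rfl fun c _ => Finset.sum_congr rfl fun d _ => by ring
    simp only [e2, Finset.sum_mul]
    rw [Finset.sum_comm]
    exact Finset.sum_congr rfl fun c _ => Finset.sum_comm
  -- the sum over all characters is divisible by p
  letI : MulAction A (Cfsg.IrrCharacter G) :=
    { smul := act φ
      one_smul := fun χ => Subtype.ext (funext fun g => by
        show (act φ 1 χ : Cfsg.IrrCharacter G).1 g = _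
        rw [act_apply, inv_one, map_one]; rfl)
      mul_smul := fun a a' χ => Subtype.ext (funext fun g => by
        show (act φ (a * a') χ : Cfsg.IrrCharacter G).1 g =
          (act φ a (act φ a' χ) : Cfsg.IrrCharacter G).1 g
        simp only [act_apply, mul_inv_rev, map_mul]; rfl) }
  have h1 := pDvd_sum_sub_fixed (p := p) hS.pgroup
    (fun χ : Cfsg.IrrCharacter G =>
      ((Nat.card C : ℂ) * mult ι χ β) * ((Nat.card C : ℂ) * mult ι χ β))
    (fun a χ => by
      have : mult ι (a • χ) β = mult ι χ β := by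
        rw [← mult_eq_iff, ← classInner_eq_mult]
        congr 1
        funext c
        exact congrArg (χ : G → ℂ) (fixed_iota hι a⁻¹ c)
      simp only [this])
    (fun χ => ((isIntegral_natCast _).mul (isIntegral_natCast _)).mul
      ((isIntegral_natCast _).mul (isIntegral_natCast _)))
  have h2 : PDvd p (∑ χ ∈ Finset.univ.filter (· ∈ MulAction.fixedPoints A (Cfsg.IrrCharacter G)),
      ((Nat.card C : ℂ) * mult ι χ β) * ((Nat.card C : ℂ) * mult ι χ β)) := by
    refine pDvd_sum fun χ hχ => ?_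
    have hinv : Inv φ χ := fun a g => by
      have := congrFun (congrArg Subtype.val ((Finset.mem_filter.1 hχ).2 a)) (φ a g)
      rw [show ((a • χ : Cfsg.IrrCharacter G) : G → ℂ) (φ a g) =
        (χ : G → ℂ) (φ a⁻¹ (φ a g)) from rfl, map_inv] at this
      simpa using this.symm
    have := pDvd_natCast_mul (p := p) (hc χ hinv)
      (x := (Nat.card C : ℂ) * ((Nat.card C : ℂ) * mult ι χ β))
      ((isIntegral_natCast _).mul ((isIntegral_natCast _).mul (isIntegral_natCast _)))
    convert this using 1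
    ring
  have h3 := h1.add h2
  rw [sub_add_cancel, hall] at h3
  have h4 := pDvd_sum_sub hS hι
    (fun a => ∑ c : C, ∑ d : C,
      (if a * ι c * a⁻¹ = ι d then (1 : ℂ) else 0) * (conj (b c) * b d))
    (fun a g => by
      refine Finset.sum_congr rfl fun c _ => Finset.sum_congr rfl fun d _ => ?_
      have : φ a g * ι c * (φ a g)⁻¹ = ι d ↔ g * ι c * g⁻¹ = ι d := by
        conv_rhs => rw [← (φ a).injective.eq_iff]
        simp [fixed_iota hι]
      simp only [this])
    (fun a => IsIntegral.sum _ fun c _ => IsIntegral.sum _ fun d _ => by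
      refine IsIntegral.mul ?_ ((isIntegral_conj (isIntegral_irr β c)).mul (isIntegral_irr β d))
      split_ifs
      exacts [isIntegral_one, isIntegral_zero])
  have h5 : ∑ x : C, ∑ c : C, ∑ d : C,
      (if ι x * ι c * (ι x)⁻¹ = ι d then (1 : ℂ) else 0) * (conj (b c) * b d) =
      (Nat.card C : ℂ) ^ 2 := by
    have : ∀ x : C, ∑ c : C, ∑ d : C,
        (if ι x * ι c * (ι x)⁻¹ = ι d then (1 : ℂ) else 0) * (conj (b c) * b d) =
        (Nat.card C : ℂ) := by
      intro x
      rw [show (Nat.card C : ℂ) = ∑ c : C, b c * conj (b c) by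
        rw [hb, sum_mul_conj_irr, if_pos rfl]]
      refine Finset.sum_congr rfl fun c _ => ?_
      rw [Finset.sum_eq_single (x * c * x⁻¹)]
      · simp [hb, CharAverage.irr_conj_apply, mul_comm]
      · intro d _ hd
        rw [if_neg fun e => hd (hι.1 (by simpa using e.symm)), zero_mul]
      · simp
    simp only [this]
    simp [Nat.card_eq_fintype_card, pow_two]
  have h6 := h3.sub h4
  rw [sub_sub_cancel, h5] at h6
  exact hS.prime.not_dvd_one (by
    exact_mod_cast dvd_of_card_mul hS hι (e := 2) (k := 1) (by simpa using h6))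

/-- The Glauberman correspondence. -/
noncomputable def corr (hS : Setup p A G C) (hι : IsFix φ ι) :
    {χ : Cfsg.IrrCharacter G // Inv φ χ} ≃ Cfsg.IrrCharacter C :=
  Equiv.ofBijective (fun χ => (existsUnique_mult hS hι χ.1 χ.2).exists.choose)
    ⟨fun χ χ' e => by
      have h1 := (existsUnique_mult hS hι χ.1 χ.2).exists.choose_spec
      have h2 := (existsUnique_mult hS hι χ'.1 χ'.2).exists.choose_spec
      simp only at e
      rw [← e] at h2
      exact Subtype.ext (mult_injective hS hι χ.1 χ'.1 χ.2 χ'.2 h1 h2),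
    fun β => by
      obtain ⟨χ, hχ, hβ⟩ := mult_surjective hS hι β
      exact ⟨⟨χ, hχ⟩, (existsUnique_mult hS hι χ hχ).unique
        (existsUnique_mult hS hι χ hχ).exists.choose_spec hβ⟩⟩

theorem corr_spec (hS : Setup p A G C) (hι : IsFix φ ι)
    (χ : {χ : Cfsg.IrrCharacter G // Inv φ χ}) (β : Cfsg.IrrCharacter C) :
    corr hS hι χ = β ↔ ¬ p ∣ mult ι χ.1 β :=
  ⟨fun h => h ▸ (existsUnique_mult hS hι χ.1 χ.2).exists.choose_spec,
    fun h => (existsUnique_mult hS hι χ.1 χ.2).unique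
      (existsUnique_mult hS hι χ.1 χ.2).exists.choose_spec h⟩

/-- Equivariance: an automorphism pair fixing `χ` fixes its correspondent, and conversely. -/
theorem corr_comp (hS : Setup p A G C) (hι : IsFix φ ι) (e : G ≃* G) (f : C ≃* C)
    (hef : ∀ c, ι (f c) = e (ι c)) (χ χ' : {χ : Cfsg.IrrCharacter G // Inv φ χ})
    (h : ∀ g, (χ'.1 : G → ℂ) g = (χ.1 : G → ℂ) (e g)) :
    ∀ c, (corr hS hι χ' : C → ℂ) c = (corr hS hι χ : C → ℂ) (f c) := by
  intro c
  let β' : Cfsg.IrrCharacter C :=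
    ⟨(corr hS hι χ : C → ℂ) ∘ f.toMonoidHom,
      isIrrCharacter_comap _ f.surjective (corr hS hι χ).2⟩
  have hm : mult ι χ'.1 β' = mult ι χ.1 (corr hS hι χ) := by
    rw [← mult_eq_iff, ← classInner_eq_mult]
    conv_rhs => rw [← classInner_congr_equiv f]
    congr 1
    funext x
    exact (h (ι x)).trans (by rw [← hef]; rfl)
  have : corr hS hι χ' = β' := (corr_spec hS hι χ' β').2 (hm ▸ (corr_spec hS hι χ _).1 rfl)
  rw [this]; rfl

/-- Degrees: `χ(1) ≡ m β(1)`. -/
theorem degree_congr (hS : Setup p A G C) (hι : IsFix φ ι) (χ : Cfsg.IrrCharacter G)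
    (hχ : Inv φ χ) {β : Cfsg.IrrCharacter C} (hβ : ¬ p ∣ mult ι χ β) {n k : ℕ}
    (hn : (χ : G → ℂ) 1 = n) (hk : (β : C → ℂ) 1 = k) :
    (n : ℤ) ≡ (mult ι χ β : ℤ) * k [ZMOD p] := by
  classical
  haveI : Fact p.Prime := ⟨hS.prime⟩
  refine Int.modEq_iff_dvd.2 (int_dvd_of_pDvd ?_)
  have h := congrFun (comp_eq_sum ι χ) 1
  rw [Function.comp_apply, map_one, hn, Finset.sum_apply,
    ← Finset.add_sum_erase _ _ (Finset.mem_univ β), Pi.smul_apply, smul_eq_mul, hk] at h
  push_cast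
  have hsum : PDvd p (∑ γ ∈ Finset.univ.erase β, (mult ι χ γ : ℂ) * (γ : C → ℂ) 1) := by
    refine pDvd_sum fun γ hγ => pDvd_natCast_mul ?_ (isIntegral_irr γ 1)
    by_contra hd
    exact (Finset.mem_erase.1 hγ).1 ((existsUnique_mult hS hι χ hχ).unique hd hβ)
  simp only [Pi.smul_apply, smul_eq_mul] at h
  rw [h, sub_add_cancel_left]
  simpa [zero_sub] using pDvd_zero.sub hsum

end Cfsg.Agent.GlaubermanP
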