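import Cfsg.Agent.Lib.BlockTheoryNormal
import Cfsg.Agent.Lib.BlockTheoryMeet
import Cfsg.Agent.Lib.BrauerPairs81Induced
import Cfsg.Agent.Lib.GlaubermanP
import Cfsg.Agent.Lib.SignalizerCoprime
import Cfsg.Agent.Lib.CharPBasic

/-!
The characters over an invariant irreducible character of a normal subgroup of order prime to `p`.
-/

set_option autoImplicit false

namespace Cfsg.Agent.BlockOverCore82

open Cfsg Cfsg.Agent.BlockTheoryLocalRing Cfsg.Agent.BlockTheoryCentre
open Cfsg.Agent.BlockTheoryIdem Cfsg.Agent.BlockTheoryBrauer Cfsg.Agent.BlockTheoryDefect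
open Cfsg.Agent.BrauerPairs81Base Cfsg.Agent.BrauerPairs81Pairs Cfsg.Agent.BrauerPairs81Conj
open Cfsg.Agent.BrauerPairs81Max
open scoped ComplexConjugate

attribute [local instance] Classical.propDecidable

set_option linter.unusedSectionVars false

universe u

variable {p : ℕ} [Fact p.Prime] {M : Ideal AlgInt} {G : Type u} [Group G] [Fintype G]
  (K : Subgroup G) [Fintype K]

/-- `θ` is invariant under conjugation by the whole group. -/
def Stable (θ : IrrCharacter K) : Prop :=
  ∀ g : G, IsConjCharOf K g (θ : K → ℂ) (θ : K → ℂ)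

/-- The characters lying over `θ`. -/
def lying (θ : IrrCharacter K) : Set (IrrCharacter G) :=
  {χ | classInner (fun k : K => (χ : G → ℂ) k) (θ : K → ℂ) ≠ 0}

variable {K} {θ : IrrCharacter K}

theorem blockCoeff_singleton (θ : IrrCharacter K) (k : K) :
    blockCoeff {θ} k = (Nat.card K : ℂ)⁻¹ * ((θ : K → ℂ) 1 * conj ((θ : K → ℂ) k)) := by
  rw [blockCoeff, finsum_mem_singleton]

theorem isInt_eb_core (hM : IsPModular p M) (hK : ¬ p ∣ Nat.card K) :
    IsInt M (eb K {θ}) := by
  rw [eb_eq_incl]; exact isInt_incl K hM (BlockTheoryNormal.isInt_idem_of_not_dvd hM hK _)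

theorem res_eb_core (A : Set (IrrCharacter K)) : res K (eb K A) = idem A := by
  refine MonoidAlgebra.ext ?_
  ext x
  rw [coeff_res, coeff_eb_coe, coeff_idem]

variable [K.Normal]

theorem isCen_eb (hθ : Stable K θ) : IsCen (eb K {θ}) := by
  intro h g
  have hN : ∀ x : G, x ∈ K ↔ g * x * g⁻¹ ∈ K := fun x => by
    refine ⟨fun hx => Subgroup.Normal.conj_mem ‹K.Normal› x hx g, fun hx => ?_⟩
    simpa [mul_assoc] using Subgroup.Normal.conj_mem ‹K.Normal› _ hx g⁻¹
  have key : ∀ x : G, (eb K {θ}).coeff (g * x * g⁻¹) = (eb K {θ}).coeff x := by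
    intro x
    by_cases hx : x ∈ K
    · refine (coeff_eb_coe K {θ} ⟨g * x * g⁻¹, (hN x).mp hx⟩).trans
        (Eq.trans ?_ (coeff_eb_coe K {θ} ⟨x, hx⟩).symm)
      rw [blockCoeff_singleton, blockCoeff_singleton,
        hθ g ⟨x, hx⟩ ⟨g * x * g⁻¹, (hN x).mp hx⟩ rfl]
    · rw [coeff_eb_of_notMem K _ hx, coeff_eb_of_notMem K _ fun h' => hx ((hN x).mpr h')]
  simpa using key h

theorem chiSum_eb (χ : IrrCharacter G) :
    chiSum (χ : G → ℂ) (eb K {θ}) =
      (θ : K → ℂ) 1 * classInner (fun k : K => (χ : G → ℂ) k) (θ : K → ℂ) := by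
  rw [chiSum_apply, classInner, Finset.mul_sum, Finset.mul_sum]
  refine (Fintype.sum_of_injective (fun k : K => (k : G)) Subtype.val_injective _ _ ?_ ?_).symm
  · intro x hx
    rw [coeff_eb_of_notMem K _ (by simpa using hx), zero_mul]
  · intro k
    rw [coeff_eb_coe, blockCoeff_singleton]
    ring

theorem omega_eb (hθ : Stable K θ) (χ : IrrCharacter G) :
    omega (χ : G → ℂ) (eb K {θ}) = if χ ∈ lying K θ then 1 else 0 := by
  split_ifs with h
  · rw [BlockTheoryNormal.omega_eq_omega_res K χ θ h (isCen_eb hθ)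
      (fun x hx => coeff_eb_of_notMem K _ hx), res_eb_core, omega_idem, if_pos (Set.mem_singleton θ)]
  · rw [omega_apply, chiSum_eb, not_not.mp h, mul_zero, mul_zero]

theorem idem_lying (hθ : Stable K θ) : idem (lying K θ) = eb K {θ} :=
  ext_omega (isCen_idem _) (isCen_eb hθ) fun χ => by rw [omega_idem, omega_eb hθ]

theorem lying_nonempty (hθ : Stable K θ) : (lying K θ).Nonempty := by
  rw [Set.nonempty_iff_ne_empty]
  intro h
  have h1 := idem_lying hθ
  rw [h, idem_empty] at h1
  have h2 := congrArg (res K) h1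
  rw [map_zero, res_eb_core] at h2
  have h3 := congrArg (omega (θ : K → ℂ)) h2
  rw [map_zero, omega_idem, if_pos (Set.mem_singleton θ)] at h3
  exact zero_ne_one h3

theorem block_subset (hM : IsPModular p M) (hK : ¬ p ∣ Nat.card K) (hθ : Stable K θ)
    {χ : IrrCharacter G} (hχ : χ ∈ lying K θ) : blockOf M (χ : G → ℂ) ⊆ lying K θ :=
  blockOf_subset_of_isInt hM (by rw [idem_lying hθ]; exact isInt_eb_core hM hK) hχ

theorem idem_mul_eb (hM : IsPModular p M) (hK : ¬ p ∣ Nat.card K) (hθ : Stable K θ)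
    {b : Set (IrrCharacter G)} (hb : IsPBlock M b) {χ : IrrCharacter G} (hχb : χ ∈ b)
    (hχ : χ ∈ lying K θ) : idem b * eb K {θ} = idem b := by
  rw [← idem_lying hθ, idem_mul_idem,
    Set.inter_eq_left.mpr (by rw [eq_blockOf_of_mem hM hb hχb]; exact block_subset hM hK hθ hχ)]

/-- When `K` contains all elements of order prime to `p`, the characters over `θ` form a block. -/
theorem isPBlock_lying_of_regular (hM : IsPModular p M) (hK : ¬ p ∣ Nat.card K)
    (hθ : Stable K θ) (hreg : ∀ x : G, IsPRegular p x → x ∈ K) : IsPBlock M (lying K θ) := by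
  obtain ⟨χ, hχ⟩ := lying_nonempty hθ
  refine ⟨χ, (Set.Subset.antisymm (block_subset hM hK hθ hχ) fun ψ hψ => ?_).symm⟩
  refine BlockTheoryNormal.sameBlock_of_regular hM fun g hg => ?_
  have hsupp : ∀ x ∉ K, (classSum g).coeff x = 0 := fun x hx => by
    rw [classSum, coeff_ofFun, if_neg]
    intro hc
    obtain ⟨c, rfl⟩ := isConj_iff.mp hc
    exact hx (Subgroup.Normal.conj_mem ‹K.Normal› g (hreg g hg) c)
  rw [← omega_classSum (irr_classFun χ), ← omega_classSum (irr_classFun ψ),
    BlockTheoryNormal.omega_eq_omega_res K χ θ hχ (isCen_classSum g) hsupp,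
    BlockTheoryNormal.omega_eq_omega_res K ψ θ hψ (isCen_classSum g) hsupp, sub_self]
  exact ideal_zero hM

/-- The truncation to the centraliser of a `p`-subgroup is given by the Glauberman correspondent. -/
theorem exists_correspondent (hM : IsPModular p M) (hK : ¬ p ∣ Nat.card K) (hθ : Stable K θ)
    {R : Subgroup G} (hR : IsPGroup p R) :
    ∃ β : IrrCharacter (K.subgroupOf (Cen R)), Stable (K.subgroupOf (Cen R)) β ∧
      Small M (res (Cen R) (eb K {θ}) - eb (K.subgroupOf (Cen R)) {β}) := by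
  set C := K.subgroupOf (Cen R) with hC
  let φ : R →* MulAut K := (MulAut.conjNormal : G →* MulAut K).comp R.subtype
  have hφ : ∀ (a : R) (k : K), ((φ a k : K) : G) = (a : G) * (k : G) * (a : G)⁻¹ :=
    fun a k => MulAut.conjNormal_apply _ _
  let ι : C →* K :=
    { toFun := fun c => ⟨((c : Cen R) : G), Subgroup.mem_subgroupOf.mp c.2⟩
      map_one' := rfl
      map_mul' := fun _ _ => rfl }
  have hι : GlaubermanP.IsFix φ ι := by
    refine ⟨fun a b h => Subtype.ext (Subtype.ext (congrArg (fun z : K => (z : G)) h)),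
      fun k => ?_⟩
    constructor
    · rintro ⟨c, rfl⟩ a
      refine Subtype.ext ((hφ a _).trans ?_)
      show (a : G) * ((c : Cen R) : G) * (a : G)⁻¹ = _
      rw [Subgroup.mem_centralizer_iff.mp (c : Cen R).2 a a.2, mul_inv_cancel_right]
      rfl
    · intro h
      have hk : (k : G) ∈ Cen R := Subgroup.mem_centralizer_iff.mpr fun a ha => by
        have h1 := congrArg (fun z : K => (z : G)) (h ⟨a, ha⟩)
        simp only [hφ] at h1
        exact mul_inv_eq_iff_eq_mul.mp h1
      exact ⟨⟨⟨k, hk⟩, Subgroup.mem_subgroupOf.mpr k.2⟩, rfl⟩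
  have hS : GlaubermanP.Setup p R K C := ⟨hM.1, hR, hK⟩
  have hinv : GlaubermanP.Inv φ (θ : K → ℂ) := fun a k => hθ (a : G) k (φ a k) (hφ a k)
  obtain ⟨β, hβ, huniq⟩ := GlaubermanP.existsUnique_mult hS hι θ hinv
  refine ⟨β, fun g => ?_, ?_⟩
  · let f : C ≃* C := MulAut.conjNormal g
    have hf : ∀ c : C, ((f c : C) : Cen R) = g * (c : Cen R) * g⁻¹ :=
      fun c => MulAut.conjNormal_apply _ _
    let β' : IrrCharacter C := pushChar f β
    have hm : GlaubermanP.mult ι θ β' = GlaubermanP.mult ι θ β := by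
      rw [← GlaubermanP.mult_eq_iff, ← GlaubermanP.classInner_eq_mult,
        ← CharBasicOrth.classInner_congr_equiv f]
      congr 1
      · funext c
        refine hθ (g : G) (ι c) (ι (f c)) ?_
        show (((f c : C) : Cen R) : G) = _
        rw [hf]
        rfl
      · funext c
        exact pushChar_apply f β c
    have : β' = β := huniq β' (by
      show ¬ p ∣ GlaubermanP.mult ι θ β'
      rw [hm]; exact hβ)
    intro k k' hk
    rw [show k' = f k from Subtype.ext (hk.trans (hf k).symm)]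
    conv_lhs => rw [← this]
    exact pushChar_apply f β k
  · set N : ℕ := Nat.card K with hN
    set n : ℕ := Nat.card C with hn
    obtain ⟨d, hd⟩ := CharBasic.isCharacter_apply_one
      (CharBasic.isCharacter_of_isIrrCharacter θ.2)
    obtain ⟨e, he⟩ := CharBasic.isCharacter_apply_one
      (CharBasic.isCharacter_of_isIrrCharacter β.2)
    set m : IrrCharacter C → ℕ := GlaubermanP.mult ι θ with hm
    have hnp : ¬ p ∣ n := GlaubermanP.not_dvd_card hS hι
    have hcast : ∀ z : ℤ, (p : ℤ) ∣ z → MemLocalIdeal M (z : ℂ) := by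
      rintro z ⟨q, rfl⟩
      push_cast
      exact ideal_mul_right hM (natCast_p_mem hM)
        (of_isIntegral hM (isIntegral_algebraMap (R := ℤ) (A := ℂ) (x := q)))
    have hco : ∀ γ : IrrCharacter C, MemLocalIdeal M
        ((N : ℂ)⁻¹ * ((d : ℂ) * (m γ : ℂ)) - if γ = β then (n : ℂ)⁻¹ * e else 0) := by
      intro γ
      split_ifs with hγ
      · subst hγ
        have h1 : (p : ℤ) ∣ (d : ℤ) * (m γ : ℤ) * n - (e : ℤ) * N := by
          have a1 := GlaubermanP.degree_congr hS hι θ hinv hβ hd he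
          have a2 : (p : ℤ) ∣ (N : ℤ) - n := GlaubermanP.int_dvd_of_pDvd (by
            push_cast; exact GlaubermanP.pDvd_card_sub hS hι)
          have a3 : (m γ : ℤ) * m γ ≡ 1 [ZMOD p] := by
            rcases GlaubermanP.mult_modEq hS hι θ hinv hβ with h | h <;>
              simpa using h.mul h
          have a4 : (n : ℤ) ≡ N [ZMOD p] := Int.modEq_iff_dvd.mpr a2
          have a5 : (d : ℤ) * (m γ : ℤ) * n ≡ (e : ℤ) * N [ZMOD p] :=
            calc (d : ℤ) * (m γ : ℤ) * n ≡ ((m γ : ℤ) * e) * (m γ : ℤ) * n [ZMOD p] :=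
                  ((a1.mul_right _).mul_right _)
              _ = ((m γ : ℤ) * m γ) * ((e : ℤ) * n) := by ring
              _ ≡ 1 * ((e : ℤ) * N) [ZMOD p] := a3.mul (a4.mul_left _)
              _ = (e : ℤ) * N := one_mul _
          exact Int.modEq_iff_dvd.mp a5.symm
        have hN0 : (N : ℂ) ≠ 0 := Nat.cast_ne_zero.mpr Nat.card_pos.ne'
        have hn0 : (n : ℂ) ≠ 0 := Nat.cast_ne_zero.mpr Nat.card_pos.ne'
        refine cast (congrArg (MemLocalIdeal M) ?_) (ideal_mul_left hM
          ((localRing hM).mul_mem (inv_natCast_mem hM hK) (inv_natCast_mem hM hnp)) (hcast _ h1))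
        push_cast
        field_simp
      · rw [sub_zero]
        have : p ∣ m γ := by
          by_contra h; exact hγ (huniq γ h)
        exact ideal_mul_left hM (inv_natCast_mem hM hK)
          (ideal_mul_left hM (of_isIntegral hM (GlaubermanP.isIntegral_natCast d))
            ((natCast_mem_iff hM).mpr this))
    intro x
    rw [MonoidAlgebra.coeff_sub, Finsupp.coe_sub, Pi.sub_apply, coeff_res]
    by_cases hx : x ∈ C
    · have hsum : conj ((θ : K → ℂ) (ι ⟨x, hx⟩)) =
          ∑ γ : IrrCharacter C, (m γ : ℂ) * conj ((γ : C → ℂ) ⟨x, hx⟩) := by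
        have h := congrFun (GlaubermanP.comp_eq_sum ι θ) ⟨x, hx⟩
        rw [Function.comp_apply] at h
        rw [h, Finset.sum_apply, map_sum]
        simp [hm, Pi.smul_apply]
      have e1 : (eb C {β}).coeff x = (n : ℂ)⁻¹ * ((e : ℂ) * conj ((β : C → ℂ) ⟨x, hx⟩)) := by
        refine (coeff_eb_coe C {β} ⟨x, hx⟩).trans ?_
        rw [blockCoeff_singleton, he]
      rw [show (x : G) = ((ι ⟨x, hx⟩ : K) : G) from rfl, coeff_eb_coe, blockCoeff_singleton, hd,
        e1, hsum, Finset.mul_sum, Finset.mul_sum]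
      refine cast (congrArg (MemLocalIdeal M) ?_) (ideal_sum hM (s := Finset.univ) fun γ _ =>
        ideal_mul_right hM (hco γ)
          (of_isIntegral hM (GlaubermanP.isIntegral_conj (GlaubermanP.isIntegral_irr γ ⟨x, hx⟩))))
      simp only [sub_mul, Finset.sum_sub_distrib]
      congr 1
      · exact Finset.sum_congr rfl fun γ _ => by ring
      · simp only [ite_mul, zero_mul, Finset.sum_ite_eq', Finset.mem_univ, if_true]
        ring
    · rw [coeff_eb_of_notMem K _ fun h => hx (Subgroup.mem_subgroupOf.mpr h),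
        coeff_eb_of_notMem C _ hx, sub_self]
      exact ideal_zero hM

/-- The value of the truncation. -/
theorem phi_eb (hM : IsPModular p M) (hθ : Stable K θ) {R : Subgroup G}
    {β : IrrCharacter (K.subgroupOf (Cen R))} (hβ : Stable (K.subgroupOf (Cen R)) β)
    (hs : Small M (res (Cen R) (eb K {θ}) - eb (K.subgroupOf (Cen R)) {β}))
    (ξ : IrrCharacter (Cen R)) :
    MemLocalIdeal M (phi R (eb K {θ}) ξ -
      if ξ ∈ lying (K.subgroupOf (Cen R)) β then 1 else 0) := by
  have h := omega_ideal_of_small hM ξ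
    ((isCen_res (Cen R) (isCen_eb hθ)).sub (isCen_eb hβ)) hs
  rwa [map_sub, omega_eb hβ] at h

theorem mem_over_iff (hM : IsPModular p M) (hθ : Stable K θ) {R : Subgroup G}
    {β : IrrCharacter (K.subgroupOf (Cen R))} (hβ : Stable (K.subgroupOf (Cen R)) β)
    (hs : Small M (res (Cen R) (eb K {θ}) - eb (K.subgroupOf (Cen R)) {β}))
    (ξ : IrrCharacter (Cen R)) :
    MemLocalIdeal M (phi R (eb K {θ}) ξ - 1) ↔ ξ ∈ lying (K.subgroupOf (Cen R)) β := by
  have h := phi_eb hM hθ hβ hs ξ
  constructor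
  · intro h1
    by_contra hn
    rw [if_neg hn] at h
    exact one_not_ideal hM (cast (congrArg (MemLocalIdeal M) (by ring)) (ideal_sub hM h h1))
  · intro hn
    rwa [if_pos hn] at h

/-- The truncation never vanishes. -/
theorem not_small_eb (hM : IsPModular p M) (hK : ¬ p ∣ Nat.card K) (hθ : Stable K θ)
    {R : Subgroup G} (hR : IsPGroup p R) : ¬ Small M (cut R (eb K {θ})) := by
  obtain ⟨β, hβ, hs⟩ := exists_correspondent hM hK hθ hR
  obtain ⟨ξ, hξ⟩ := lying_nonempty hβ
  exact not_small_cut_of_phi hM (IsCen.invBy (isCen_eb hθ) _) ((mem_over_iff hM hθ hβ hs ξ).mpr hξ)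

/-- A `p`-subgroup of index prime to `p` is a defect group when the characters form one block. -/
theorem isDefectGroup_lying (hM : IsPModular p M) (hK : ¬ p ∣ Nat.card K) (hθ : Stable K θ)
    (hB : IsPBlock M (lying K θ)) {S : Subgroup G} (hS : IsPGroup p S) (hidx : ¬ p ∣ S.index) :
    IsDefectGroup p M (lying K θ) S := by
  obtain ⟨D, hD⟩ := exists_defectGroup hM hB
  obtain ⟨y, hy⟩ := (not_small_cut_iff hM hB hD hS).mp
    (by rw [idem_lying hθ]; exact not_small_eb hM hK hθ hS)
  have hD' := isDefectGroup_map hD y⁻¹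
  set D' := D.map (MulAut.conj y⁻¹).toMonoidHom with hD'def
  have hle : S ≤ D' := fun a ha => ⟨y * a * y⁻¹, hy ⟨a, ha, rfl⟩, by simp [mul_assoc]⟩
  have h := (IsPGroup.toSylow hS hidx).is_maximal' (isPGroup_of_isDefectGroup hD') hle
  rwa [show D' = S from h] at hD'

end Cfsg.Agent.BlockOverCore82
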