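import Cfsg.Agent.Lib.BlockOverCoreMain82
import Cfsg.Agent.Lib.HallCore

/-!
Groups whose `O_{p',p}` contains the centraliser of one of its Sylow subgroups.
-/

set_option autoImplicit false

namespace Cfsg.Agent.BlockOverCore82

open Cfsg Cfsg.Agent.BlockTheoryLocalRing Cfsg.Agent.BlockTheoryCentre
open Cfsg.Agent.BlockTheoryIdem Cfsg.Agent.BlockTheoryBrauer Cfsg.Agent.BlockTheoryDefect
open Cfsg.Agent.BrauerPairs81Base Cfsg.Agent.BrauerPairs81Pairs Cfsg.Agent.BrauerPairs81Conj
open Cfsg.Agent.BrauerPairs81Max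

attribute [local instance] Classical.propDecidable

set_option linter.unusedSectionVars false

universe u

variable {p : ℕ} [Fact p.Prime] {M : Ideal AlgInt} {G : Type u} [Group G] [Fintype G]

/-- A pair of a block gives an inducing block. -/
theorem induced_of_pair (hM : IsPModular p M) {B : Set (IrrCharacter G)} {R : Subgroup G}
    {f : Set (IrrCharacter (Cen R))} (h : IsBrauerPairOf p M B R f) :
    IsInducedBlock M (Cen R) f B := by
  refine ⟨h.1.2, h.2.1, fun ξ hξ χ hχ g => ?_⟩
  have h1 := phi_eq_omega hM h (isCen_classSum g) (isInt_classSum hM g) hξ hχ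
  rwa [phi, omega_res_classSum, omega_classSum (irr_classFun χ)] at h1

/-- A subgroup of index prime to `p` covers every `p`-group image. -/
theorem exists_preimage {A B : Type*} [Group A] [Group B] [Finite A] (f : A →* B)
    (T : Subgroup A) (hT : ¬ p ∣ T.index) (hf : IsPGroup p f.range) (a : A) :
    ∃ t ∈ T, f t = f a := by
  haveI : Finite f.range := Finite.of_surjective _ f.rangeRestrict_surjective
  have hd := Subgroup.index_map_dvd T f.rangeRestrict_surjective
  obtain ⟨n, hn⟩ := hf.index (T.map f.rangeRestrict)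
  rcases n with _ | n
  · rw [pow_zero, Subgroup.index_eq_one] at hn
    obtain ⟨t, ht, h⟩ := hn.ge (Subgroup.mem_top (f.rangeRestrict a))
    exact ⟨t, ht, congrArg Subtype.val h⟩
  · exact absurd (((hn ▸ dvd_pow_self p (Nat.succ_ne_zero n)) : p ∣ _).trans hd) hT

theorem relIndex_map_subtype {A : Type*} [Group A] (U : Subgroup A) (T : Subgroup U) :
    (T.map U.subtype).relIndex U = T.index := by
  rw [Subgroup.relIndex]
  exact congrArg Subgroup.index (Subgroup.comap_map_eq_self_of_injective U.subtype_injective T)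

theorem mem_pPrimeCore_of_mem (x : G) (hx : x ∈ pPrimePCore p G) (hr : IsPRegular p x) :
    x ∈ pPrimeCore p G := by
  haveI := HallCore.pPrimeCore_normal p G
  obtain ⟨k, hk⟩ := HallCore.isPGroup_pCore p (G ⧸ pPrimeCore p G) ⟨_, hx⟩
  have h1 : ((x : G ⧸ pPrimeCore p G)) ^ p ^ k = 1 := congrArg Subtype.val hk
  refine (QuotientGroup.eq_one_iff x).mp (orderOf_eq_one_iff.mp ?_)
  obtain ⟨i, -, hi⟩ := (Nat.dvd_prime_pow (Fact.out : p.Prime)).mp (orderOf_dvd_of_pow_eq_one h1)
  rcases i with _ | i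
  · rwa [pow_zero] at hi
  · refine absurd ?_ hr
    exact (hi ▸ dvd_pow_self p (Nat.succ_ne_zero i) : p ∣ orderOf (x : G ⧸ pPrimeCore p G)).trans
      (orderOf_map_dvd (QuotientGroup.mk' _) x)

variable {Q : Subgroup G} (hQL : Q ≤ pPrimePCore p G) (hQp : IsPGroup p Q)
  (hCQ : Cen Q ≤ pPrimePCore p G)

include hQL hQp hCQ

/-- An element of order prime to `p` centralising the next layer lies in the core. -/
theorem mem_core_of_centralizes {x : G} (hr : IsPRegular p x)
    (hx : ∀ v ∈ Cfsg.pCore p (G ⧸ pPrimeCore p G), Commute (x : G ⧸ pPrimeCore p G) v) :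
    x ∈ pPrimeCore p G := by
  haveI := HallCore.pPrimeCore_normal p G
  have hn : Q ≤ Subgroup.normalizer ((pPrimeCore p G : Subgroup G) : Set G) := by
    rw [Subgroup.normalizer_eq_top]; exact le_top
  obtain ⟨y, hy, hyc⟩ := SignalizerCoprime.exists_fixed_in_coset hQp
    (HallCore.not_dvd_card_pPrimeCore p G) hn (x := x) fun g hg => by
      refine (QuotientGroup.eq_one_iff _).mp ?_
      have h : Commute (x : G ⧸ pPrimeCore p G) (g : G ⧸ pPrimeCore p G) := hx _ (hQL hg)
      rw [QuotientGroup.mk_mul, QuotientGroup.mk_mul, QuotientGroup.mk_mul, QuotientGroup.mk_inv,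
        QuotientGroup.mk_inv, ← h.eq, mul_inv_cancel_right, mul_inv_cancel]
  have hxy : y * x ∈ pPrimePCore p G := hCQ (Subgroup.mem_centralizer_iff.mpr hyc)
  refine mem_pPrimeCore_of_mem x ?_ hr
  have := mul_mem (inv_mem (HallCore.pPrimeCore_le_pPrimePCore p G hy)) hxy
  rwa [inv_mul_cancel_left] at this

/-- Elements of order prime to `p` centralising a Sylow subgroup of `C_L(R)`. -/
theorem mem_core_of_sylow {R : Subgroup G} (hR : IsPGroup p R)
    (T : Sylow p ((pPrimePCore p G).subgroupOf (Cen R))) {x : Cen R} (hr : IsPRegular p x)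
    (hx : ∀ t ∈ T, x * ((t : (pPrimePCore p G).subgroupOf (Cen R)) : Cen R) =
      ((t : (pPrimePCore p G).subgroupOf (Cen R)) : Cen R) * x) :
    (x : G) ∈ pPrimeCore p G := by
  haveI := HallCore.pPrimeCore_normal p G
  haveI := HallCore.pCore_normal p (G ⧸ pPrimeCore p G)
  have hxr : IsPRegular p (x : G) := by
    show ¬ p ∣ orderOf (x : G)
    rw [Subgroup.orderOf_coe]; exact hr
  refine mem_core_of_centralizes hQL hQp hCQ hxr ?_
  set π := QuotientGroup.mk' (pPrimeCore p G)
  refine CharPBasic.commute_of_centralizes_fixed (HallCore.isPGroup_pCore p _) (hR.map π) ?_ ?_ ?_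
    ?_ ?_
  · rw [Subgroup.normalizer_eq_top]; exact le_top
  · refine Nat.Coprime.coprime_dvd_left (orderOf_map_dvd π (x : G)) ?_
    exact ((Nat.Prime.coprime_iff_not_dvd Fact.out).mpr hxr).symm
  · rw [Subgroup.normalizer_eq_top]; exact Subgroup.mem_top _
  · rintro _ ⟨r, hr', rfl⟩
    exact ((show Commute r (x : G) from Subgroup.mem_centralizer_iff.mp x.2 r hr').symm).map π
  intro v hv hfix
  obtain ⟨l, rfl⟩ := QuotientGroup.mk'_surjective (pPrimeCore p G) v
  have hn : R ≤ Subgroup.normalizer ((pPrimeCore p G : Subgroup G) : Set G) := by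
    rw [Subgroup.normalizer_eq_top]; exact le_top
  obtain ⟨y, hy, hyc⟩ := SignalizerCoprime.exists_fixed_in_coset hR
    (HallCore.not_dvd_card_pPrimeCore p G) hn (x := l) fun g hg => by
      refine (QuotientGroup.eq_one_iff _).mp ?_
      have h := hfix _ (Subgroup.mem_map_of_mem π hg)
      rw [QuotientGroup.mk_mul, QuotientGroup.mk_mul, QuotientGroup.mk_mul, QuotientGroup.mk_inv,
        QuotientGroup.mk_inv]
      rw [show ((g : G ⧸ pPrimeCore p G)) * l = l * g from h.eq, mul_inv_cancel_right,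
        mul_inv_cancel]
  have hyl : y * l ∈ pPrimePCore p G :=
    mul_mem (HallCore.pPrimeCore_le_pPrimePCore p G hy) hv
  set z : (pPrimePCore p G).subgroupOf (Cen R) :=
    ⟨⟨y * l, Subgroup.mem_centralizer_iff.mpr hyc⟩, hyl⟩
  let f : ↥((pPrimePCore p G).subgroupOf (Cen R)) →* G ⧸ pPrimeCore p G :=
    (π.comp (Cen R).subtype).comp ((pPrimePCore p G).subgroupOf (Cen R)).subtype
  have hrange : f.range ≤ Cfsg.pCore p (G ⧸ pPrimeCore p G) := by
    rintro b ⟨a, rfl⟩
    exact Subgroup.mem_comap.mp (Subgroup.mem_subgroupOf.mp a.2)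
  have hfp : IsPGroup p f.range := (HallCore.isPGroup_pCore p (G ⧸ pPrimeCore p G)).to_le hrange
  have hi : ¬ p ∣ (T : Subgroup ↥((pPrimePCore p G).subgroupOf (Cen R))).index := T.not_dvd_index
  obtain ⟨t, ht, htz⟩ :=
    exists_preimage f (T : Subgroup ↥((pPrimePCore p G).subgroupOf (Cen R))) hi hfp z
  have hzl : π (y * l) = π l := by
    rw [map_mul, show π y = 1 from (QuotientGroup.eq_one_iff y).mpr hy, one_mul]
  have h : Commute (π (x : G)) (f t) :=
    (show Commute (x : G) ((t : Cen R) : G) from congrArg Subtype.val (hx t ht)).map π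
  rw [htz] at h
  exact hzl ▸ h

end Cfsg.Agent.BlockOverCore82
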