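import Cfsg.Agent.Lib.BlockOverCore82

/-!
The characters over an invariant irreducible character of a normal `p'`-subgroup form one block
when the elements of order prime to `p` centralising a Sylow subgroup of the next layer lie in it.
-/

set_option autoImplicit false

namespace Cfsg.Agent.BlockOverCore82

open Cfsg Cfsg.Agent.BlockTheoryLocalRing Cfsg.Agent.BlockTheoryCentre
open Cfsg.Agent.BlockTheoryIdem Cfsg.Agent.BlockTheoryBrauer Cfsg.Agent.BlockTheoryDefect
open Cfsg.Agent.BrauerPairs81Base Cfsg.Agent.BrauerPairs81Pairs Cfsg.Agent.BrauerPairs81Conj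
open Cfsg.Agent.BrauerPairs81Max
open scoped ComplexConjugate

attribute [local instance] Classical.propDecidable

set_option linter.unusedSectionVars false

universe u

variable {p : ℕ} [Fact p.Prime] {M : Ideal AlgInt} {G : Type u} [Group G] [Fintype G]
  {K : Subgroup G} [Fintype K] [K.Normal] {θ : IrrCharacter K}

/-- A block over `θ` covers the characters over `θ` of an intermediate subgroup. -/
theorem exists_covered {L : Subgroup G} [Fintype L] (hKL : K ≤ L)
    {χ : IrrCharacter G} (hχ : χ ∈ lying K θ) :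
    ∃ ψ ∈ lying (K.subgroupOf L) (pushChar (Subgroup.subgroupOfEquivOfLe hKL).symm θ),
      classInner (fun n : L => (χ : G → ℂ) n) (ψ : L → ℂ) ≠ 0 := by
  set K' := K.subgroupOf L
  set e := (Subgroup.subgroupOfEquivOfLe hKL).symm with he
  set θ' := pushChar e θ with hθ'
  have hcf : IsClassFunction L (fun n : L => (χ : G → ℂ) n) :=
    fun a b => irr_classFun χ (a : G) (b : G)
  have h1 : classInner (fun k : K' => (χ : G → ℂ) ((k : L) : G)) (θ' : K' → ℂ) =
      classInner (fun k : K => (χ : G → ℂ) k) (θ : K → ℂ) := by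
    rw [← CharBasicOrth.classInner_congr_equiv e]
    congr 1
    all_goals (funext k; first | rfl | exact pushChar_apply e θ k)
  by_contra hno
  push Not at hno
  refine hχ (h1.symm.trans ?_)
  simp only [classInner]
  rw [mul_eq_zero]
  right
  calc ∑ k : K', (χ : G → ℂ) ((k : L) : G) * conj ((θ' : K' → ℂ) k)
      = ∑ k : K', ∑ ψ : IrrCharacter L, classInner (fun n : L => (χ : G → ℂ) n) (ψ : L → ℂ) *
          ((ψ : L → ℂ) k * conj ((θ' : K' → ℂ) k)) := by
        refine Finset.sum_congr rfl fun k _ => ?_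
        have h := congrFun (CharBasicOrth.eq_sum_classInner hcf) (k : L)
        simp only [Finset.sum_apply, Pi.smul_apply, smul_eq_mul] at h
        rw [h, Finset.sum_mul]
        exact Finset.sum_congr rfl fun ψ _ => by ring
    _ = 0 := by
        rw [Finset.sum_comm]
        refine Finset.sum_eq_zero fun ψ _ => ?_
        rw [← Finset.mul_sum]
        by_cases hψ : classInner (fun k : K' => (ψ : L → ℂ) k) (θ' : K' → ℂ) = 0
        · have h : (Nat.card K' : ℂ)⁻¹ *
              ∑ k : K', (ψ : L → ℂ) k * conj ((θ' : K' → ℂ) k) = 0 := hψ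
          rw [(mul_eq_zero.mp h).resolve_left
            (inv_ne_zero (Nat.cast_ne_zero.mpr Nat.card_pos.ne')), mul_zero]
        · rw [hno ψ hψ, zero_mul]

theorem stable_push {L : Subgroup G} (hKL : K ≤ L) (hθ : Stable K θ) :
    Stable (K.subgroupOf L) (pushChar (Subgroup.subgroupOfEquivOfLe hKL).symm θ) := by
  intro g k k' hk
  show (θ : K → ℂ) (Subgroup.subgroupOfEquivOfLe hKL k') =
    (θ : K → ℂ) (Subgroup.subgroupOfEquivOfLe hKL k)
  refine hθ (g : G) _ _ ?_
  exact congrArg Subtype.val hk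

variable {L : Subgroup G} [hL : L.Normal] [Fintype L]

/-- Every block over `θ` has a pair on a Sylow subgroup of `L`. -/
theorem not_small_block (hM : IsPModular p M) (hK : ¬ p ∣ Nat.card K) (hθ : Stable K θ)
    (hKL : K ≤ L) (hreg : ∀ x ∈ L, IsPRegular p x → x ∈ K) {T : Subgroup G} (hTL : T ≤ L)
    (hT : IsPGroup p T) (hTi : ¬ p ∣ T.relIndex L) {b : Set (IrrCharacter G)} (hb : IsPBlock M b)
    {χ : IrrCharacter G} (hχb : χ ∈ b) (hχ : χ ∈ lying K θ) :
    ¬ Small M (cut T (idem b)) := by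
  set e := (Subgroup.subgroupOfEquivOfLe hKL).symm
  have hK' : ¬ p ∣ Nat.card (K.subgroupOf L) := by
    rwa [Nat.card_congr (Subgroup.subgroupOfEquivOfLe hKL).toEquiv]
  have hθ' := stable_push hKL hθ
  have hbL : IsPBlock M (lying (K.subgroupOf L) (pushChar e θ)) :=
    isPBlock_lying_of_regular hM hK' hθ' fun x hx => by
      refine Subgroup.mem_subgroupOf.mpr (hreg x x.2 ?_)
      show ¬ p ∣ orderOf (x : G)
      rw [Subgroup.orderOf_coe]
      exact hx
  have hD := isDefectGroup_lying hM hK' hθ' hbL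
    (hT.comap_subtype : IsPGroup p (T.subgroupOf L)) hTi
  obtain ⟨ψ, hψ, hne⟩ := exists_covered hKL hχ
  obtain ⟨P, hP, hPT⟩ := BlockTheoryMeet.exists_defectGroup_inf_eq L hM hbL hTL hD hb
    ⟨χ, hχb, ψ, hψ, hne⟩
  exact (not_small_cut_iff hM hb hP hT).mpr (conjLe_of_le (hPT ▸ inf_le_left))

/-- The characters over `θ` form one block. -/
theorem isPBlock_lying (hM : IsPModular p M) (hK : ¬ p ∣ Nat.card K) (hθ : Stable K θ)
    (hKL : K ≤ L) (hreg : ∀ x ∈ L, IsPRegular p x → x ∈ K) {T : Subgroup G} (hTL : T ≤ L)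
    (hT : IsPGroup p T) (hTi : ¬ p ∣ T.relIndex L)
    (hcen : ∀ x ∈ Cen T, IsPRegular p x → x ∈ K) : IsPBlock M (lying K θ) := by
  obtain ⟨β, hβ, hs⟩ := exists_correspondent hM hK hθ hT
  have hKT : ¬ p ∣ Nat.card (K.subgroupOf (Cen T)) := fun h => hK (h.trans (HallCore.card_subgroupOf_dvd K (Cen T)))
  have hf : IsPBlock M (lying (K.subgroupOf (Cen T)) β) := isPBlock_lying_of_regular hM hKT hβ fun x hx => by
    refine Subgroup.mem_subgroupOf.mpr (hcen x x.2 ?_)
    show ¬ p ∣ orderOf (x : G)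
    rw [Subgroup.orderOf_coe]
    exact hx
  have hpair : ∀ χ ∈ lying K θ, IsBrauerPairOf p M (blockOf M (χ : G → ℂ)) T (lying (K.subgroupOf (Cen T)) β) := by
    intro χ hχ
    set b := blockOf M (χ : G → ℂ)
    have hb : IsPBlock M b := isPBlock_blockOf χ
    have hχb : χ ∈ b := self_mem_blockOf hM χ
    obtain ⟨g, hg⟩ := exists_pairOf_of_not_small hM hb hT
      (not_small_block hM hK hθ hKL hreg hTL hT hTi hb hχb hχ)
    obtain ⟨⟨-, hgb⟩, -, ho⟩ := isBrauerPairOf_iff.mp hg
    obtain ⟨ξ, hξ⟩ := block_nonempty hM hgb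
    have hm := phi_mul hM hT (IsCen.invBy (isCen_idem b) T) (IsCen.invBy (isCen_eb hθ) T)
      (IsCen.invBy (isCen_idem b) _) (IsCen.invBy (isCen_eb hθ) _) (isInt_idem hM hb)
      (isInt_eb_core hM hK) ξ
    rw [idem_mul_eb hM hK hθ hb hχb hχ] at hm
    have h1 : MemLocalIdeal M (phi T (eb K {θ}) ξ - 1) := by
      refine cast (congrArg (MemLocalIdeal M) ?_) (ideal_add hM
        (ideal_sub hM (ideal_neg hm) (ideal_mul_right hM (ho ξ hξ)
          (phi_mem hM (IsCen.invBy (isCen_eb hθ) _) (isInt_eb_core hM hK) ξ))) (ho ξ hξ))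
      ring
    rwa [block_eq_of_mem hM hgb hf hξ ((mem_over_iff hM hθ hβ hs ξ).mp h1)] at hg
  obtain ⟨χ, hχ⟩ := lying_nonempty hθ
  refine ⟨χ, (Set.Subset.antisymm (block_subset hM hK hθ hχ) fun ψ hψ => ?_).symm⟩
  rw [(existsUnique_block hM (hpair χ hχ).1).unique (hpair χ hχ) (hpair ψ hψ)]
  exact self_mem_blockOf hM ψ

end Cfsg.Agent.BlockOverCore82
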