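import Cfsg.Agent.Lib.BlockFirstMainOver
import Cfsg.Agent.Lib.BrauerPairs81Local

/-!
Blocks of `P C(P)` as Brauer pairs on `P`.
-/

set_option autoImplicit false

namespace Cfsg.Agent.BlockPCP9

open Cfsg Cfsg.Agent.BlockTheoryLocalRing Cfsg.Agent.BlockTheoryCentre
open Cfsg.Agent.BlockTheoryIdem Cfsg.Agent.BlockTheoryBrauer Cfsg.Agent.BlockTheoryDefect
open Cfsg.Agent.BlockTheoryInduced
open Cfsg.Agent.BrauerPairs81Base Cfsg.Agent.BrauerPairs81Pairs Cfsg.Agent.BrauerPairs81Conj
open Cfsg.Agent.BrauerPairs81Max Cfsg.Agent.BrauerPairs81Stab Cfsg.Agent.BrauerPairs81Local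
open scoped ComplexConjugate

attribute [local instance] Classical.propDecidable

set_option linter.unusedSectionVars false

variable {p : ℕ} [Fact p.Prime] {M : Ideal AlgInt} {G : Type*} [Group G] [Fintype G]
variable {P : Subgroup G}

/-- The subgroup `P C(P)`. -/
abbrev PC (P : Subgroup G) : Subgroup G := P ⊔ Subgroup.centralizer (P : Set G)

theorem le_PC : P ≤ PC P := le_sup_left

theorem cen_le_PC : Cen P ≤ PC P := le_sup_right

theorem PC_le_normalizer : PC P ≤ Subgroup.normalizer (P : Set G) :=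
  sup_le Subgroup.le_normalizer (Subgroup.centralizer_le_normalizer _)

theorem cenCompat_PC : CenCompat (PC P) (P.subgroupOf (PC P)) P := by
  intro x
  constructor
  · intro hx
    refine ⟨cen_le_PC hx, Subgroup.mem_centralizer_iff.mpr fun u hu => Subtype.ext ?_⟩
    exact Subgroup.mem_centralizer_iff.mp hx (u : G) (Subgroup.mem_subgroupOf.mp hu)
  · rintro ⟨hxH, hx⟩
    refine Subgroup.mem_centralizer_iff.mpr fun a ha => ?_
    exact congrArg Subtype.val (Subgroup.mem_centralizer_iff.mp hx ⟨a, le_PC ha⟩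
      (Subgroup.mem_subgroupOf.mpr ha))

theorem invBy_PC (e : Set (IrrCharacter (Cen P))) : InvBy (PC P) (eb (Cen P) e) :=
  invBy_sup (invBy_eb_cen P e) (invBy_eb_self _ e)

/-- The block of `P C(P)` of a pair on `P`. -/
theorem exists_block_PC (hM : IsPModular p M) {e : Set (IrrCharacter (Cen P))}
    (he : IsBrauerPair p M P e) :
    ∃ F : Set (IrrCharacter (PC P)), IsPBlock M F ∧ eb (PC P) F = eb (Cen P) e := by
  obtain ⟨F, hF, hFc⟩ := exists_block (H := PC P) hM he.1 he.2 cen_le_PC le_PC PC_le_normalizer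
    (invBy_PC e)
  exact ⟨F, hF, by rw [eb_eq_incl]; exact incl_idem_eq cen_le_PC hFc⟩

theorem exists_pairOf_PC (hM : IsPModular p M) {e : Set (IrrCharacter (Cen P))}
    (he : IsBrauerPair p M P e) {F : Set (IrrCharacter (PC P))} (hF : IsPBlock M F)
    (hFe : eb (PC P) F = eb (Cen P) e) :
    ∃ e0 : Set (IrrCharacter (Cen (P.subgroupOf (PC P)))),
      IsBrauerPairOf p M F (P.subgroupOf (PC P)) e0 ∧
        pushSet (cenIso (cenCompat_PC (P := P))) e0 = e := by
  obtain ⟨e0, he0, hpush⟩ := exists_pullback (cenCompat_PC (P := P)) he.2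
  refine ⟨e0, isBrauerPairOf_iff.mpr ⟨⟨he.1.comap_subtype, he0⟩, hF,
    occ_of_push (cenCompat_PC (P := P)) ?_⟩, hpush⟩
  rw [hpush, ← eb_eq_incl, hFe]
  intro ξ hξ
  rw [phi, res_eb, omega_idem, if_pos hξ, sub_self]
  exact ideal_zero hM

/-- Central elements of `G` at a block of `P C(P)` and at its pair. -/
theorem omega_res_eq_phi (hM : IsPModular p M) {e : Set (IrrCharacter (Cen P))}
    (he : IsBrauerPair p M P e) {F : Set (IrrCharacter (PC P))} (hF : IsPBlock M F)
    (hFe : eb (PC P) F = eb (Cen P) e) {z : MonoidAlgebra ℂ G} (hz : IsCen z) (hzi : IsInt M z)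
    {η : IrrCharacter (PC P)} (hη : η ∈ F) {ξ : IrrCharacter (Cen P)} (hξ : ξ ∈ e) :
    MemLocalIdeal M (phi P z ξ - omega (η : PC P → ℂ) (res (PC P) z)) := by
  obtain ⟨e0, hp, hpush⟩ := exists_pairOf_PC hM he hF hFe
  rw [← hpush] at hξ
  obtain ⟨ξ0, hξ0, rfl⟩ := hξ
  have h1 := phi_eq_omega hM hp (isCen_res (PC P) hz) (isInt_res (PC P) hzi) hξ0 hη
  rw [← phi_cenIso (cenCompat_PC (P := P))] at h1
  have h2 : phi P (incl (PC P) (res (PC P) z)) (pushChar (cenIso (cenCompat_PC (P := P))) ξ0) =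
      phi P z (pushChar (cenIso (cenCompat_PC (P := P))) ξ0) := by
    rw [phi, phi]
    congr 1
    refine MonoidAlgebra.ext ?_
    ext x
    rw [coeff_res, coeff_res, show (x : G) = ((⟨(x : G), cen_le_PC x.2⟩ : PC P) : G) from rfl,
      coeff_incl_coe, coeff_res]
  rwa [h2] at h1

/-- Induction from `P C(P)` is the pair relation. -/
theorem induced_iff (hM : IsPModular p M) {e : Set (IrrCharacter (Cen P))}
    (he : IsBrauerPair p M P e) {F : Set (IrrCharacter (PC P))} (hF : IsPBlock M F)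
    (hFe : eb (PC P) F = eb (Cen P) e) (B : Set (IrrCharacter G)) :
    IsInducedBlock M (PC P) F B ↔ IsBrauerPairOf p M B P e := by
  constructor
  · intro h
    obtain ⟨η, hη⟩ := block_nonempty hM hF
    obtain ⟨χ, hχ⟩ := block_nonempty hM h.2.1
    refine isBrauerPairOf_iff.mpr ⟨he, h.2.1, fun ξ hξ => ?_⟩
    have h1 := inducedBlock_congr (PC P) hM h hη hχ (isCen_idem B) (isInt_idem hM h.2.1)
    rw [omega_idem, if_pos hχ] at h1
    have h2 := omega_res_eq_phi hM he hF hFe (isCen_idem B) (isInt_idem hM h.2.1) hη hξ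
    exact cast (congrArg (MemLocalIdeal M) (by ring)) (ideal_add hM h2 h1)
  · intro h
    refine ⟨hF, h.2.1, fun η hη χ hχ g => ?_⟩
    obtain ⟨ξ, hξ⟩ := block_nonempty hM he.2
    have h1 := omega_res_eq_phi hM he hF hFe (isCen_classSum g) (isInt_classSum hM g) hη hξ
    have h2 := phi_eq_omega hM h (isCen_classSum g) (isInt_classSum hM g) hξ hχ
    rw [omega_res_classSum] at h1
    rw [omega_classSum (irr_classFun χ)] at h2
    exact cast (congrArg (MemLocalIdeal M) (by ring)) (ideal_sub hM h2 h1)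

theorem cut_idem_eq (hM : IsPModular p M) (hP : IsPGroup p P) {H : Subgroup G}
    [(P.subgroupOf H).Normal] {F : Set (IrrCharacter H)} (hF : IsPBlock M F) :
    cut (P.subgroupOf H) (idem F) = idem F := by
  refine MonoidAlgebra.ext ?_
  ext t
  rw [coeff_cut]
  split_ifs with ht
  · rfl
  · rw [coeff_idem]
    exact (BlockNormalP81.blockCoeff_eq_zero hM (P.subgroupOf H) hP.comap_subtype hF ht).symm

/-- Every block of `P C(P)` is the block of a pair on `P`. -/
theorem exists_pair_of_block (hM : IsPModular p M) (hP : IsPGroup p P)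
    {F : Set (IrrCharacter (PC P))} (hF : IsPBlock M F) :
    ∃ e : Set (IrrCharacter (Cen P)), IsBrauerPair p M P e ∧ eb (PC P) F = eb (Cen P) e := by
  haveI : (P.subgroupOf (PC P)).Normal :=
    Subgroup.normal_subgroupOf_of_le_normalizer PC_le_normalizer
  have hns : ¬ Small M (cut (P.subgroupOf (PC P)) (idem F)) := by
    rw [cut_idem_eq hM hP hF]
    intro hs
    obtain ⟨χ, hχ⟩ := block_nonempty hM hF
    have := omega_ideal_of_small hM χ (isCen_idem F) hs
    rw [omega_idem, if_pos hχ] at this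
    exact one_not_ideal hM this
  obtain ⟨e0, hp⟩ := exists_pairOf_of_not_small hM hF hP.comap_subtype hns
  have he : IsBrauerPair p M P (pushSet (cenIso (cenCompat_PC (P := P))) e0) :=
    ⟨hP, isPBlock_push _ hp.1.2⟩
  obtain ⟨F', hF', hF'e⟩ := exists_block_PC hM he
  obtain ⟨e0', hp', hpush⟩ := exists_pairOf_PC hM he hF' hF'e
  have heq : e0' = e0 :=
    ((pushChar (cenIso (cenCompat_PC (P := P)))).injective.image_injective) hpush
  subst heq
  obtain ⟨_, -, huniq⟩ := existsUnique_block hM hp.1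
  refine ⟨_, he, ?_⟩
  rw [← hF'e, huniq F hp, huniq F' hp']

/-- The block of a pair on a defect group has that defect group. -/
theorem isDefectGroup_PC (hM : IsPModular p M) {B : Set (IrrCharacter G)}
    {e : Set (IrrCharacter (Cen P))} (hmax : IsMaximalBrauerPair p M B P e)
    {F : Set (IrrCharacter (PC P))} (hF : IsPBlock M F) (hFe : eb (PC P) F = eb (Cen P) e) :
    IsDefectGroup p M F (P.subgroupOf (PC P)) := by
  haveI : (P.subgroupOf (PC P)).Normal :=
    Subgroup.normal_subgroupOf_of_le_normalizer PC_le_normalizer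
  have hFc : ∀ t : PC P, blockCoeff F t = (eb (Cen P) e).coeff t := fun t => by
    rw [← hFe, coeff_eb_coe]
  obtain ⟨D, hD⟩ := exists_defectGroup hM hF
  have hle := normal_le_defectGroup hM hF hD (P.subgroupOf (PC P)) hmax.1.1.1.comap_subtype
  obtain ⟨x, -, hx⟩ := exists_conj_defect_le hM hmax hmax.1 cen_le_PC PC_le_normalizer hFc hF hD
  have hcard : Nat.card D ≤ Nat.card (P.subgroupOf (PC P)) := by
    rw [Nat.card_congr (Subgroup.subgroupOfEquivOfLe (le_PC (P := P))).toEquiv,
      Nat.card_congr (D.equivMapOfInjective _ (PC P).subtype_injective).toEquiv,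
      ← card_cjS x (D.map (PC P).subtype)]
    exact Subgroup.card_le_of_le hx
  rwa [Subgroup.eq_of_le_of_card_ge hle hcard]

/-- The conjugating element between two blocks of `P C(P)` with the same induced block. -/
theorem exists_conj_of_induced (hM : IsPModular p M) {B : Set (IrrCharacter G)}
    (hD : IsDefectGroup p M B P) {b b' : Set (IrrCharacter (PC P))}
    (h : IsInducedBlock M (PC P) b B) (h' : IsInducedBlock M (PC P) b' B) :
    ∃ n ∈ Subgroup.normalizer (P : Set G), ∀ θ ∈ b, ∃ θ' ∈ b', ∀ x : PC P,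
      ∀ hx : n * (x : G) * n⁻¹ ∈ PC P,
        (θ' : PC P → ℂ) x = (θ : PC P → ℂ) ⟨n * (x : G) * n⁻¹, hx⟩ := by
  have hP := isPGroup_of_isDefectGroup hD
  obtain ⟨e, he, hbe⟩ := exists_pair_of_block hM hP h.1
  obtain ⟨e', he', hb'e⟩ := exists_pair_of_block hM hP h'.1
  have hp := (induced_iff hM he h.1 hbe B).mp h
  have hp' := (induced_iff hM he' h'.1 hb'e B).mp h'
  obtain ⟨u, hu, hue⟩ := exists_normalizer_of_pairOf hM
    (BlockFirstMainOver.maximal_of_defect hM hD hp) hp'
  have hmem : ∀ x, x ∈ PC P ↔ u * x * u⁻¹ ∈ PC P := by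
    refine conj_mem_iff_of_normalizer ?_
    refine Subgroup.mem_normalizer_iff.mpr fun y => ?_
    have h1 : cjS u (PC P) = PC P := by
      rw [cjS, Subgroup.map_sup]
      exact congrArg₂ (· ⊔ ·) (cjS_of_normalizer hu)
        (cjS_of_normalizer (normalizer_le_normalizer_cen hu))
    constructor
    · intro hy
      rw [← h1, mem_cjS]
      simpa [mul_assoc] using hy
    · intro hy
      rw [← h1, mem_cjS] at hy
      simpa [mul_assoc] using hy
  refine ⟨u⁻¹, inv_mem hu, fun θ hθ => ⟨pushChar (conjEquiv u _ _ hmem) θ, ?_, fun x hx => ?_⟩⟩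
  · have h2 : eb (PC P) (pushSet (conjEquiv u _ _ hmem) b) = eb (PC P) b' := by
      rw [← cjA_eb hmem b, hbe, hue, hb'e]
    rw [← eb_injective h2]
    exact ⟨θ, hθ, rfl⟩
  · have h3 : conjEquiv u _ _ hmem ⟨u⁻¹ * (x : G) * (u⁻¹)⁻¹, hx⟩ = x :=
      Subtype.ext (by simp [conjEquiv, mul_assoc])
    conv_lhs => rw [← h3, pushChar_apply]

end Cfsg.Agent.BlockPCP9
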