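import Cfsg.Agent.Lib.BlockNormalP81
import Cfsg.Agent.Lib.BlockContribBounds
import Cfsg.Agent.Lib.BlockTheoryNormal
import Cfsg.Agent.Lib.BlockTheoryDefect
import Cfsg.Agent.Lib.BrauerBlocksPPart
import Cfsg.Agent.Lib.BrauerInduction
import Cfsg.Agent.Lib.CharKernel
import Cfsg.Agent.Lib.FittingHallBasic

/-!
Blocks with defect group `P` in a group `G = P C(P)`: their members are `φ ⋆ θ`, one for each
irreducible character `φ` of `P`.
-/

set_option autoImplicit false

namespace Cfsg.Agent.BlockPCount9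

open Cfsg Cfsg.Agent.BlockTheoryLocalRing Cfsg.Agent.BlockTheoryCentre
open Cfsg.Agent.BlockTheoryIdem Cfsg.Agent.BlockTheoryBrauer Cfsg.Agent.BlockTheoryDefect
open Cfsg.Agent.CharBasic Cfsg.Agent.CharBasicOrth Cfsg.Agent.CharBasicDecomp
open scoped ComplexConjugate

attribute [local instance] Classical.propDecidable

set_option linter.unusedSectionVars false

variable {p : ℕ} [Fact p.Prime] {M : Ideal AlgInt} {G : Type*} [Group G] [Fintype G]

/-- The `p`-part of an element. -/
noncomputable def pp (p : ℕ) [Fact p.Prime] {H : Type*} [Group H] [Finite H] (g : H) : H :=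
  (BrauerBlocksPPart.exists_isPPart (p := p) (Fact.out) g).choose

theorem pp_spec {H : Type*} [Group H] [Finite H] (g : H) : IsPPart p g (pp p g) :=
  (BrauerBlocksPPart.exists_isPPart (p := p) (Fact.out) g).choose_spec

theorem pp_eq {H : Type*} [Group H] [Finite H] {g x : H} (h : IsPPart p g x) : pp p g = x :=
  BrauerBlocksPPart.isPPart_unique Fact.out (pp_spec g) h

theorem pp_mul {H : Type*} [Group H] [Finite H] {x y : H} (hc : Commute x y)
    (hx : ∃ k, orderOf x = p ^ k) (hy : ¬ p ∣ orderOf y) : pp p (x * y) = x :=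
  pp_eq ⟨y, rfl, hc, hx, hy⟩

theorem isPPart_coe {E : Subgroup G} {e x : E} (h : IsPPart p e x) :
    IsPPart p (e : G) (x : G) := by
  obtain ⟨y, hxy, hc, ⟨k, hk⟩, hy⟩ := h
  exact ⟨y, congrArg Subtype.val hxy, congrArg Subtype.val hc.eq,
    ⟨k, by rwa [Subgroup.orderOf_coe]⟩, by rwa [Subgroup.orderOf_coe]⟩

/-- In a nilpotent group taking `p`-parts is multiplicative. -/
theorem pp_hom {E : Type*} [Group E] [Finite E] [Group.IsNilpotent E] (a b : E) :
    pp p (a * b) = pp p a * pp p b ∧ ¬ p ∣ orderOf ((pp p a)⁻¹ * a * ((pp p b)⁻¹ * b)) := by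
  have hp : p.Prime := Fact.out
  obtain ⟨R⟩ : Nonempty (Sylow p E) := Sylow.nonempty
  have hRn : (R : Subgroup E).Normal :=
    Sylow.normal_of_normalizerCondition Group.normalizerCondition_of_isNilpotent R
  obtain ⟨H, hH⟩ := Subgroup.exists_right_complement'_of_coprime R.card_coprime_index
  have hHp : ¬ p ∣ Nat.card H := by
    rw [← hH.symm.index_eq_card]
    exact Sylow.not_dvd_index R
  have hHreg : ∀ h ∈ H, ¬ p ∣ orderOf h := fun h hh hd =>
    hHp (hd.trans ((Subgroup.orderOf_coe (⟨h, hh⟩ : H)) ▸ orderOf_dvd_natCard (⟨h, hh⟩ : H)))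
  have hRel : ∀ r ∈ (R : Subgroup E), ∃ k, orderOf r = p ^ k := fun r hr =>
    BrauerBlocksPPart.isPEl_of_mem R.isPGroup' hr
  have hcomm : ∀ x y : E, (∃ k, orderOf x = p ^ k) → ¬ p ∣ orderOf y → Commute x y := by
    rintro x y ⟨k, hk⟩ hy
    exact FittingHallBasic.commute_of_coprime_orderOf
      (hk ▸ (hp.coprime_iff_not_dvd.mpr hy).pow_left k)
  have key : ∀ g : E, pp p g ∈ (R : Subgroup E) ∧ (pp p g)⁻¹ * g ∈ H := by
    intro g
    obtain ⟨⟨r, h⟩, hrh⟩ := hH.2 g
    have hrh' : (r : E) * (h : E) = g := hrh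
    have := pp_mul (hcomm _ _ (hRel r r.2) (hHreg h h.2)) (hRel r r.2) (hHreg h h.2)
    rw [hrh'] at this
    rw [this]
    exact ⟨r.2, by rw [← hrh', inv_mul_cancel_left]; exact h.2⟩
  have hx := mul_mem (key a).1 (key b).1
  have hy := mul_mem (key a).2 (key b).2
  refine ⟨?_, hHreg _ hy⟩
  have hc := hcomm _ _ (hRel _ (key b).1) (hHreg _ (key a).2)
  have e : pp p a * pp p b * ((pp p a)⁻¹ * a * ((pp p b)⁻¹ * b)) = a * b := by
    calc pp p a * pp p b * ((pp p a)⁻¹ * a * ((pp p b)⁻¹ * b))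
        = pp p a * (pp p b * ((pp p a)⁻¹ * a)) * ((pp p b)⁻¹ * b) := by group
      _ = pp p a * ((pp p a)⁻¹ * a * pp p b) * ((pp p b)⁻¹ * b) := by rw [hc.eq]
      _ = a * b := by group
  rw [← e]
  exact pp_mul (hcomm _ _ (hRel _ hx) (hHreg _ hy)) (hRel _ hx) (hHreg _ hy)

/-- Projection of a nilpotent group on its `p`-part. -/
noncomputable def piP (p : ℕ) [Fact p.Prime] (E : Type*) [Group E] [Finite E]
    [Group.IsNilpotent E] : E →* E :=
  MonoidHom.mk' (pp p) fun a b => (pp_hom a b).1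

/-- Projection of a nilpotent group on its `p'`-part. -/
noncomputable def piP' (p : ℕ) [Fact p.Prime] (E : Type*) [Group E] [Finite E]
    [Group.IsNilpotent E] : E →* E :=
  MonoidHom.mk' (fun g => (pp p g)⁻¹ * g) fun a b => by
    obtain ⟨y, hy1, hc, hx, hy2⟩ := pp_spec (p := p) b
    have hb : (pp p b)⁻¹ * b = y := by
      nth_rw 2 [← hy1]
      rw [inv_mul_cancel_left]
    have hA : ¬ p ∣ orderOf ((pp p a)⁻¹ * a) := by
      have := (pp_hom (p := p) a 1).2
      have h1 : pp p (1 : E) = 1 := pp_eq (BrauerBlocksPPart.isPPart_self Fact.out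
        BrauerBlocksPPart.isPEl_one)
      simpa [h1] using this
    have hcomm : Commute (pp p b) ((pp p a)⁻¹ * a) := by
      obtain ⟨k, hk⟩ := hx
      exact FittingHallBasic.commute_of_coprime_orderOf
        (hk ▸ ((Fact.out : p.Prime).coprime_iff_not_dvd.mpr hA).pow_left k)
    rw [(pp_hom a b).1]
    calc (pp p a * pp p b)⁻¹ * (a * b) = (pp p b)⁻¹ * ((pp p a)⁻¹ * a) * b := by group
      _ = (pp p a)⁻¹ * a * (pp p b)⁻¹ * b := by rw [(hcomm.inv_left).eq]
      _ = (pp p a)⁻¹ * a * ((pp p b)⁻¹ * b) := by group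

section PC

variable {P : Subgroup G}

theorem normal_of_sup_top (hG : P ⊔ Subgroup.centralizer (P : Set G) = ⊤) :
    P.Normal := by
  rw [← Subgroup.normalizer_eq_top_iff, eq_top_iff, ← hG]
  exact sup_le Subgroup.le_normalizer (Subgroup.centralizer_le_normalizer _)

theorem exists_decomp (hG : P ⊔ Subgroup.centralizer (P : Set G) = ⊤) (g : G) :
    ∃ u ∈ P, ∃ c ∈ Subgroup.centralizer (P : Set G), u * c = g := by
  have hg : g ∈ (P ⊔ Subgroup.centralizer (P : Set G) : Subgroup G) := hG ▸ Subgroup.mem_top g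
  haveI := normal_of_sup_top hG
  obtain ⟨u, hu, c, hc, h⟩ := Subgroup.mem_sup_of_normal_left.mp hg
  exact ⟨u, hu, c, hc, h⟩

theorem regular_commute (hP : IsPGroup p P) (hG : P ⊔ Subgroup.centralizer (P : Set G) = ⊤)
    {y : G} (hy : ¬ p ∣ orderOf y) : y ∈ Subgroup.centralizer (P : Set G) := by
  obtain ⟨k, hk⟩ := IsPGroup.iff_card.mp hP
  obtain ⟨u, hu, c, hc, rfl⟩ := exists_decomp hG y
  have huc : Commute u c := Subgroup.mem_centralizer_iff.mp hc u hu
  have hun : u ^ p ^ k = 1 := by
    rw [← hk]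
    exact congrArg Subtype.val (pow_card_eq_one' (x := (⟨u, hu⟩ : P)))
  obtain ⟨e, he⟩ := exists_pow_eq_self_of_coprime (n := p ^ k) (x := u * c)
    (((Fact.out : p.Prime).coprime_iff_not_dvd.mpr hy).pow_left k)
  rw [← he, huc.mul_pow, hun, one_mul]
  exact pow_mem (pow_mem hc _) _

theorem classFun_conj (hG : P ⊔ Subgroup.centralizer (P : Set G) = ⊤) {φ : P → ℂ}
    (hφ : IsClassFunction P φ) {u : G} (hu : u ∈ P) (g : G) :
    ∃ h : g * u * g⁻¹ ∈ P, φ ⟨g * u * g⁻¹, h⟩ = φ ⟨u, hu⟩ := by
  obtain ⟨v, hv, c, hc, rfl⟩ := exists_decomp hG g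
  have e : v * c * u * (v * c)⁻¹ = v * u * v⁻¹ := by
    rw [mul_assoc v c u, ← Subgroup.mem_centralizer_iff.mp hc u hu]
    group
  refine ⟨e ▸ mul_mem (mul_mem hv hu) (inv_mem hv), ?_⟩
  exact (congrArg φ (Subtype.ext (show v * c * u * (v * c)⁻¹ = _ from e.trans rfl))).trans
    (hφ ⟨u, hu⟩ ⟨v, hv⟩)

variable (θ : IrrCharacter G)

/-- The function `φ ⋆ θ`. -/
noncomputable def star (p : ℕ) [Fact p.Prime] (θ : IrrCharacter G) (P : Subgroup G)
    (φ : P → ℂ) (g : G) : ℂ :=
  if h : pp p g ∈ P then φ ⟨pp p g, h⟩ * (θ : G → ℂ) g else 0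

theorem star_mul (hP : IsPGroup p P) (hG : P ⊔ Subgroup.centralizer (P : Set G) = ⊤)
    (φ : P → ℂ) (u : P) {y : G} (hy : ¬ p ∣ orderOf y) :
    star p θ P φ ((u : G) * y) = φ u * (θ : G → ℂ) ((u : G) * y) := by
  have h := pp_mul (Subgroup.mem_centralizer_iff.mp (regular_commute hP hG hy) u u.2)
    (BrauerBlocksPPart.isPEl_of_mem hP u.2) hy
  simp only [star, h, dif_pos u.2]

theorem star_regular (φ : P → ℂ) {y : G} (hy : ¬ p ∣ orderOf y) :
    star p θ P φ y = φ 1 * (θ : G → ℂ) y := by
  have h : pp p y = 1 := pp_eq (BrauerBlocksPPart.isPPart_of_regular Fact.out hy)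
  simp only [star, h, dif_pos (one_mem P)]
  rfl

theorem isClassFunction_star (hG : P ⊔ Subgroup.centralizer (P : Set G) = ⊤) {φ : P → ℂ}
    (hφ : IsClassFunction P φ) : IsClassFunction G (star p θ P φ) := by
  intro g h
  have hpp : pp p (h * g * h⁻¹) = h * pp p g * h⁻¹ :=
    pp_eq (BrauerBlocksPPart.isPPart_conj h (pp_spec g))
  unfold star
  rw [irr_classFun θ g h]
  by_cases hg : pp p g ∈ P
  · obtain ⟨h', he⟩ := classFun_conj hG hφ hg h
    simp only [hpp, dif_pos hg, dif_pos h', he]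
  · have hg' : pp p (h * g * h⁻¹) ∉ P := fun h' => hg (by
      obtain ⟨h'', -⟩ := classFun_conj hG hφ (hpp ▸ h') h⁻¹
      simpa [mul_assoc] using h'')
    simp only [dif_neg hg, dif_neg hg']

/-- The `θ`-weighted sum over the regular elements. -/
noncomputable def regInner (p : ℕ) (θ : IrrCharacter G) (χ : G → ℂ) : ℂ :=
  ∑ y ∈ Finset.univ.filter (fun y => ¬ p ∣ orderOf y), χ y * conj ((θ : G → ℂ) y)

theorem sum_split (hP : IsPGroup p P) (hG : P ⊔ Subgroup.centralizer (P : Set G) = ⊤) (f : G → ℂ)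
    (hf : ∀ g, pp p g ∉ P → f g = 0) :
    ∑ g, f g = ∑ u : P, ∑ y ∈ Finset.univ.filter (fun y => ¬ p ∣ orderOf y), f ((u : G) * y) := by
  rw [← Finset.sum_filter_of_ne (p := fun g => pp p g ∈ P) fun g _ h => by
    by_contra hg; exact h (hf g hg)]
  rw [← Finset.sum_product']
  refine Finset.sum_bij' (i := fun g hg => (⟨pp p g, (Finset.mem_filter.mp hg).2⟩, (pp p g)⁻¹ * g))
    (j := fun uy _ => (uy.1 : G) * uy.2) ?_ ?_ ?_ ?_ ?_
  · intro g hg
    refine Finset.mem_product.mpr ⟨Finset.mem_univ _, Finset.mem_filter.mpr ⟨Finset.mem_univ _, ?_⟩⟩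
    obtain ⟨y, hxy, -, -, hy⟩ := pp_spec (p := p) g
    show ¬ p ∣ orderOf ((pp p g)⁻¹ * g)
    nth_rw 2 [← hxy]
    rwa [inv_mul_cancel_left]
  · rintro ⟨u, y⟩ huy
    have hy := (Finset.mem_filter.mp (Finset.mem_product.mp huy).2).2
    refine Finset.mem_filter.mpr ⟨Finset.mem_univ _, ?_⟩
    rw [pp_mul (Subgroup.mem_centralizer_iff.mp (regular_commute hP hG hy) u u.2)
      (BrauerBlocksPPart.isPEl_of_mem hP u.2) hy]
    exact u.2
  · intro g hg
    exact mul_inv_cancel_left _ _
  · rintro ⟨u, y⟩ huy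
    have hy := (Finset.mem_filter.mp (Finset.mem_product.mp huy).2).2
    have h := pp_mul (Subgroup.mem_centralizer_iff.mp (regular_commute hP hG hy) u u.2)
      (BrauerBlocksPPart.isPEl_of_mem hP u.2) hy
    refine Prod.ext (Subtype.ext h) ?_
    simp only [h, inv_mul_cancel_left]
  · intro g hg
    simp only [mul_inv_cancel_left]

theorem apply_mul_of_trivial (hθ : ∀ x ∈ P, (θ : G → ℂ) x = (θ : G → ℂ) 1) [P.Normal] (u : P)
    (g : G) : (θ : G → ℂ) ((u : G) * g) = (θ : G → ℂ) g := by
  obtain ⟨ψ, hψ⟩ := CharKernel.exists_quot_irr P θ hθ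
  rw [hψ, hψ]
  congr 1
  rw [QuotientGroup.mk_mul, (QuotientGroup.eq_one_iff (u : G)).mpr u.2, one_mul]

end PC

/-- The standing hypotheses. -/
structure Setting (p : ℕ) [Fact p.Prime] (M : Ideal AlgInt) (B : Set (IrrCharacter G))
    (P : Subgroup G) (θ : IrrCharacter G) : Prop where
  hM : IsPModular p M
  hP : IsPGroup p P
  hG : P ⊔ Subgroup.centralizer (P : Set G) = ⊤
  hN : P.Normal
  hB : IsPBlock M B
  hD : IsDefectGroup p M B P
  mem : θ ∈ B
  triv : ∀ x ∈ P, (θ : G → ℂ) x = (θ : G → ℂ) 1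

namespace Setting

variable {B : Set (IrrCharacter G)} {P : Subgroup G} {θ : IrrCharacter G}
variable (S : Setting p M B P θ)
include S

theorem eq_zero_of_notMem {χ : IrrCharacter G} (hχ : χ ∈ B) {g : G} (hg : pp p g ∉ P) :
    (χ : G → ℂ) g = 0 := by
  refine eq_zero_of_pPart_notMem (D := P) S.hM χ (pp_spec g) ?_ fun hle => hg ?_
  · rw [← eq_blockOf_of_mem S.hM S.hB hχ]; exact S.hD
  · obtain ⟨c, hc⟩ := hle
    have := hc ⟨pp p g, Subgroup.mem_zpowers _, rfl⟩
    have h2 := S.hN.conj_mem _ this c⁻¹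
    simpa [mul_assoc] using h2

theorem degree_exp : (charDegree (θ : G → ℂ)).factorization p = P.index.factorization p := by
  have hp : p.Prime := Fact.out
  have hPc := BlockContribBounds.card_defectGroup S.hM S.hB S.hD
  have h1 : (Nat.card G).factorization p =
      P.index.factorization p + blockDefect p B := by
    rw [← P.index_mul_card, Nat.factorization_mul Subgroup.index_ne_zero_of_finite
      Nat.card_pos.ne', Finsupp.add_apply, hPc, Nat.factorization_pow, Finsupp.smul_apply,
      hp.factorization_self, smul_eq_mul, mul_one]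
  have h2 := BlockContrib.minExp_add_defect S.hM S.hB
  have h3 : BlockContrib.minExp p B ≤ (charDegree (θ : G → ℂ)).factorization p :=
    Nat.sInf_le ⟨θ, S.mem, rfl⟩
  have h4 : (charDegree (θ : G → ℂ)).factorization p ≤ P.index.factorization p := by
    refine (Nat.factorization_le_iff_dvd (ClassAlgebraVal.charDegree_pos θ).ne'
      Subgroup.index_ne_zero_of_finite).mpr ?_ p
    exact (CharKernel.charDegree_dvd_index θ).trans (Subgroup.index_dvd_of_le fun x hx => S.triv x hx)
  omega

theorem card_mul_regInner_self :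
    (Nat.card P : ℂ) * regInner p θ (θ : G → ℂ) = Nat.card G := by
  have h1 := card_mul_classInner (θ : G → ℂ) (θ : G → ℂ)
  rw [classInner_irr_self θ.2, mul_one] at h1
  rw [h1, sum_split S.hP S.hG _ fun g hg => by rw [S.eq_zero_of_notMem S.mem hg, zero_mul]]
  haveI := S.hN
  simp only [apply_mul_of_trivial θ S.triv]
  rw [Finset.sum_const, Finset.card_univ, nsmul_eq_mul, Nat.card_eq_fintype_card]
  rfl

theorem regInner_congr (χ : IrrCharacter G) (hχ : χ ∈ B) :
    MemLocalIdeal M (((χ : G → ℂ) 1)⁻¹ * regInner p θ (χ : G → ℂ) -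
      ((θ : G → ℂ) 1)⁻¹ * regInner p θ (θ : G → ℂ)) := by
  set z : MonoidAlgebra ℂ G :=
    ofFun fun y => if ¬ p ∣ orderOf y then conj ((θ : G → ℂ) y) else 0 with hz
  have hzc : IsCen z := fun g h => by
    simp only [hz, coeff_ofFun, irr_classFun θ g h]
    rw [show orderOf (h * g * h⁻¹) = orderOf g from MulEquiv.orderOf_eq (MulAut.conj h) g]
  have hzi : IsInt M z := fun y => by
    simp only [hz, coeff_ofFun]
    split_ifs
    · exact (localRing S.hM).zero_mem
    · rw [← irr_inv]
      exact of_isIntegral S.hM (isCharacter_integral (isCharacter_of_isIrrCharacter θ.2) _)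
  have hom : ∀ ψ : IrrCharacter G,
      omega (ψ : G → ℂ) z = ((ψ : G → ℂ) 1)⁻¹ * regInner p θ (ψ : G → ℂ) := by
    intro ψ
    rw [omega_apply, chiSum_apply, regInner, Finset.sum_filter]
    congr 1
    refine Finset.sum_congr rfl fun y _ => ?_
    simp only [hz, coeff_ofFun]
    split_ifs <;> ring
  rw [← hom, ← hom]
  exact omega_sub_mem S.hM (sameBlock_of_mem S.hM S.hB hχ S.mem) hzc hzi

theorem regInner_ne_zero (χ : IrrCharacter G) (hχ : χ ∈ B) : regInner p θ (χ : G → ℂ) ≠ 0 := by
  intro h0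
  have hp : p.Prime := Fact.out
  have h := S.regInner_congr χ hχ
  rw [h0, mul_zero, zero_sub] at h
  have h' := ideal_neg h
  rw [neg_neg] at h'
  set n := charDegree (θ : G → ℂ)
  set q := P.index
  have hn1 : (θ : G → ℂ) 1 = n := ClassAlgebraVal.apply_one_eq_charDegree θ
  have hn0 : n ≠ 0 := (ClassAlgebraVal.charDegree_pos θ).ne'
  have hS : regInner p θ (θ : G → ℂ) = (q : ℂ) := by
    have := S.card_mul_regInner_self
    rw [← P.card_mul_index, Nat.cast_mul] at this
    exact mul_left_cancel₀ (Nat.cast_ne_zero.mpr Nat.card_pos.ne') this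
  obtain ⟨r, hr⟩ : n ∣ q :=
    (CharKernel.charDegree_dvd_index θ).trans (Subgroup.index_dvd_of_le fun x hx => S.triv x hx)
  have hr0 : r ≠ 0 := fun h => Subgroup.index_ne_zero_of_finite (H := P) (by
    rw [show P.index = q from rfl, hr, h, mul_zero])
  rw [hS, hn1, hr, Nat.cast_mul, inv_mul_cancel_left₀ (Nat.cast_ne_zero.mpr hn0),
    natCast_mem_iff S.hM] at h'
  have h5 := S.degree_exp
  change n.factorization p = q.factorization p at h5
  rw [hr, Nat.factorization_mul hn0 hr0, Finsupp.add_apply] at h5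
  have := hp.factorization_pos_of_dvd hr0 h'
  omega

/-! ### The characters `φ ⋆ θ` -/

theorem isGeneralizedCharacter_star (φ : IrrCharacter P) :
    IsGeneralizedCharacter G (star p θ P (φ : P → ℂ)) := by
  haveI := S.hN
  refine BrauerInduction.isGeneralizedCharacter_of_elementary
    (isClassFunction_star θ S.hG (irr_classFun φ)) fun E q hq hE => ?_
  haveI : Group.IsNilpotent E := BrauerInduction.isNilpotent_of_isElementary hq hE
  set K : Subgroup E := (P.subgroupOf E).comap (piP p E) with hK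
  set H : Subgroup E := (piP' p E).range with hH
  have hppE : ∀ e : E, pp p (e : G) = ((piP p E e : E) : G) := fun e =>
    pp_eq (isPPart_coe (pp_spec e))
  have hsplit : ∀ e : E, (piP p E e : E) * piP' p E e = e := fun e => mul_inv_cancel_left _ _
  have hHreg : ∀ h ∈ H, ¬ p ∣ orderOf (h : E) := by
    rintro _ ⟨e, rfl⟩
    obtain ⟨y, hxy, -, -, hy⟩ := pp_spec (p := p) e
    show ¬ p ∣ orderOf ((pp p e)⁻¹ * e)
    nth_rw 2 [← hxy]
    rwa [inv_mul_cancel_left]
  have hKθ : ∀ k : K, (θ : G → ℂ) ((k : E) : G) = (θ : G → ℂ) ((piP' p E k : E) : G) := by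
    intro k
    conv_lhs => rw [← hsplit (k : E)]
    rw [Subgroup.coe_mul]
    exact apply_mul_of_trivial θ S.triv ⟨_, k.2⟩ _
  -- the weighted restriction of `θ` to the regular part
  have hg : IsGeneralizedCharacter H
      (fun h : H => ((K.index : ℂ))⁻¹ * (θ : G → ℂ) ((h : E) : G)) := by
    refine isGeneralizedCharacter_iff.mpr ⟨fun a b => ?_, fun β => ?_⟩
    · show _ * _ = _ * _
      congr 1
      exact irr_classFun θ ((a : E) : G) ((b : E) : G)
    have hθE : IsGeneralizedCharacter E (fun e : E => (θ : G → ℂ) e) :=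
      isGeneralizedCharacter_comap E.subtype
        (isGeneralizedCharacter_of_isCharacter (isCharacter_of_isIrrCharacter θ.2))
    have hψ : IsGeneralizedCharacter E ((β : H → ℂ) ∘ (piP' p E).rangeRestrict) :=
      isGeneralizedCharacter_comap _
        (isGeneralizedCharacter_of_isCharacter (isCharacter_of_isIrrCharacter β.2))
    obtain ⟨n, hn⟩ := classInner_isGeneralizedCharacter hθE hψ
    refine ⟨n, Eq.trans ?_ hn⟩
    apply mul_left_cancel₀ (Nat.cast_ne_zero.mpr (Nat.card_pos (α := E)).ne' : (Nat.card E : ℂ) ≠ 0)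
    rw [card_mul_classInner, classInner]
    have hval : ∀ e : E, e ∉ K → (θ : G → ℂ) (e : G) = 0 := fun e he =>
      S.eq_zero_of_notMem S.mem (by rw [hppE]; exact he)
    have hKc : Nat.card E = K.index * Nat.card K := K.index_mul_card.symm
    set Q : Subgroup E := K ⊓ (piP' p E).ker with hQ
    have hcard : Nat.card K = Nat.card Q * Nat.card H := by
      rw [← Nat.card_prod]
      refine Nat.card_congr
        { toFun := fun k => (⟨piP p E k, ?_, ?_⟩, ⟨piP' p E k, k, rfl⟩)
          invFun := fun x => ⟨(x.1 : E) * (x.2 : E), ?_⟩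
          left_inv := fun k => Subtype.ext (hsplit _)
          right_inv := fun x => ?_ }
      · show piP p E (piP p E k) ∈ P.subgroupOf E
        have : piP p E (piP p E k) = piP p E k :=
          pp_eq (BrauerBlocksPPart.isPPart_self Fact.out (BrauerBlocksPPart.isPEl_pPart (pp_spec _)))
        rw [this]; exact k.2
      · show (pp p (pp p (k : E)))⁻¹ * pp p (k : E) = 1
        rw [pp_eq (BrauerBlocksPPart.isPPart_self Fact.out
          (BrauerBlocksPPart.isPEl_pPart (pp_spec _))), inv_mul_cancel]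
      · show piP p E ((x.1 : E) * (x.2 : E)) ∈ P.subgroupOf E
        rw [map_mul, show piP p E (x.2 : E) = 1 from
          pp_eq (BrauerBlocksPPart.isPPart_of_regular Fact.out (hHreg _ x.2.2)), mul_one]
        exact x.1.2.1
      · have h1 : piP p E (x.2 : E) = 1 :=
          pp_eq (BrauerBlocksPPart.isPPart_of_regular Fact.out (hHreg _ x.2.2))
        have h2 : piP' p E (x.2 : E) = x.2 := by
          have := hsplit (x.2 : E)
          rwa [h1, one_mul] at this
        have h3 : piP' p E (x.1 : E) = 1 := x.1.2.2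
        have h4 : piP p E (x.1 : E) = x.1 := by
          have := hsplit (x.1 : E)
          rwa [h3, mul_one] at this
        refine Prod.ext (Subtype.ext ?_) (Subtype.ext ?_)
        · show piP p E ((x.1 : E) * (x.2 : E)) = (x.1 : E)
          rw [map_mul, h1, mul_one, h4]
        · show piP' p E ((x.1 : E) * (x.2 : E)) = (x.2 : E)
          rw [map_mul, h3, one_mul, h2]
    have hsum : ∑ e : E, (θ : G → ℂ) (e : G) * conj (((β : H → ℂ) ∘ (piP' p E).rangeRestrict) e)
        = (Nat.card Q : ℂ) * ∑ h : H, (θ : G → ℂ) ((h : E) : G) * conj ((β : H → ℂ) h) := by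
      rw [← Finset.sum_filter_of_ne (p := fun e => e ∈ K) fun e _ he => by
        by_contra hek; exact he (by rw [hval e hek, zero_mul])]
      rw [Finset.sum_subtype (p := fun e => e ∈ K) _ (fun e => by simp)]
      let f : K →* H := (piP' p E).rangeRestrict.comp K.subtype
      have hf : ∀ h : H, (Finset.univ.filter fun k : K => f k = h).card = Nat.card Q := by
        intro h
        rw [← Fintype.card_subtype, ← Nat.card_eq_fintype_card]
        have hhK : (h : E) ∈ K := by
          show piP p E (h : E) ∈ P.subgroupOf E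
          rw [show piP p E (h : E) = 1 from
            pp_eq (BrauerBlocksPPart.isPPart_of_regular Fact.out (hHreg _ h.2))]
          exact one_mem _
        have hh : piP' p E (h : E) = h := by
          have := hsplit (h : E)
          rwa [show piP p E (h : E) = 1 from
            pp_eq (BrauerBlocksPPart.isPPart_of_regular Fact.out (hHreg _ h.2)), one_mul] at this
        refine Nat.card_congr
          { toFun := fun k => ⟨(k.1 : E) * (h : E)⁻¹, K.mul_mem k.1.2 (K.inv_mem hhK), ?_⟩
            invFun := fun x => ⟨⟨(x : E) * (h : E), K.mul_mem x.2.1 hhK⟩, ?_⟩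
            left_inv := fun k => Subtype.ext (Subtype.ext (inv_mul_cancel_right _ _))
            right_inv := fun x => Subtype.ext (mul_inv_cancel_right _ _) }
        · show piP' p E ((k.1 : E) * (h : E)⁻¹) = 1
          rw [map_mul, map_inv, hh,
            show piP' p E (k.1 : E) = (h : E) from congrArg Subtype.val k.2, mul_inv_cancel]
        · refine Subtype.ext ?_
          show piP' p E ((x : E) * (h : E)) = (h : E)
          rw [map_mul, show piP' p E (x : E) = 1 from x.2.2, one_mul, hh]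
      rw [← Finset.sum_fiberwise Finset.univ f, Finset.mul_sum]
      refine Finset.sum_congr rfl fun h _ => ?_
      rw [Finset.sum_congr rfl (g := fun _ => (θ : G → ℂ) ((h : E) : G) * conj ((β : H → ℂ) h))
        fun k hk => ?_, Finset.sum_const, hf, nsmul_eq_mul]
      have hk' : f k = h := (Finset.mem_filter.mp hk).2
      rw [hKθ k, ← hk']
      rfl
    rw [hsum, hKc, hcard]
    have : (K.index : ℂ) ≠ 0 := Nat.cast_ne_zero.mpr Subgroup.index_ne_zero_of_finite
    have : (Nat.card H : ℂ) ≠ 0 := Nat.cast_ne_zero.mpr Nat.card_pos.ne'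
    simp only [mul_assoc, ← Finset.mul_sum]
    push_cast
    field_simp
  -- the two pulled back characters
  let toP : K →* P :=
    { toFun := fun k => ⟨((piP p E k : E) : G), k.2⟩
      map_one' := Subtype.ext (by simp)
      map_mul' := fun a b => Subtype.ext (by simp) }
  have h1 : IsGeneralizedCharacter K
      (((φ : P → ℂ) ∘ toP) *
        ((fun h : H => ((K.index : ℂ))⁻¹ * (θ : G → ℂ) ((h : E) : G)) ∘
          ((piP' p E).rangeRestrict.comp K.subtype))) :=
    isGeneralizedCharacter_mul (isGeneralizedCharacter_comap toP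
      (isGeneralizedCharacter_of_isCharacter (isCharacter_of_isIrrCharacter φ.2)))
      (isGeneralizedCharacter_comap _ hg)
  refine isGeneralizedCharacter_iff.mpr ⟨fun a b =>
    isClassFunction_star θ S.hG (irr_classFun φ) (a : G) (b : G), fun ψ => ?_⟩
  obtain ⟨n, hn⟩ := classInner_isGeneralizedCharacter h1 (isGeneralizedCharacter_comap K.subtype
    (isGeneralizedCharacter_of_isCharacter (isCharacter_of_isIrrCharacter ψ.2)))
  refine ⟨n, Eq.trans ?_ hn⟩
  rw [classInner, classInner, ← K.index_mul_card, Nat.cast_mul, mul_inv,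
    mul_comm (K.index : ℂ)⁻¹, mul_assoc]
  congr 1
  rw [Finset.mul_sum, ← Finset.sum_filter_of_ne (p := fun e => e ∈ K) fun e _ he => by
    by_contra hek
    refine he ?_
    simp only [star]
    rw [dif_neg (by rw [hppE]; exact hek), zero_mul, mul_zero]]
  rw [Finset.sum_subtype (p := fun e => e ∈ K) _ (fun e => by simp)]
  refine Finset.sum_congr rfl fun k _ => ?_
  simp only [star, hppE, Pi.mul_apply, Function.comp_apply]
  rw [dif_pos (show ((piP p E (k : E) : E) : G) ∈ P from k.2), hKθ k]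
  simp only [MonoidHom.coe_comp, Subgroup.coe_subtype, Function.comp_apply,
    MonoidHom.coe_rangeRestrict]
  show _ = (φ : P → ℂ) (toP k) * _ * _
  ring!

theorem classInner_star_right {f : G → ℂ} (hf : ∀ g, pp p g ∉ P → f g = 0) (φ : P → ℂ) :
    (Nat.card G : ℂ) * classInner f (star p θ P φ) =
      ∑ u : P, conj (φ u) *
        ∑ y ∈ Finset.univ.filter (fun y => ¬ p ∣ orderOf y),
          f ((u : G) * y) * conj ((θ : G → ℂ) y) := by
  haveI := S.hN
  rw [card_mul_classInner, sum_split S.hP S.hG _ fun g hg => by rw [hf g hg, zero_mul]]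
  refine Finset.sum_congr rfl fun u _ => ?_
  rw [Finset.mul_sum]
  refine Finset.sum_congr rfl fun y hy => ?_
  rw [star_mul θ S.hP S.hG φ u (Finset.mem_filter.mp hy).2, apply_mul_of_trivial θ S.triv,
    map_mul]
  ring

theorem classInner_star_star (φ ψ : P → ℂ) :
    classInner (star p θ P φ) (star p θ P ψ) = classInner φ ψ := by
  haveI := S.hN
  apply mul_left_cancel₀ (Nat.cast_ne_zero.mpr (Nat.card_pos (α := G)).ne' : (Nat.card G : ℂ) ≠ 0)
  rw [S.classInner_star_right (fun g hg => by simp [star, hg]), ← S.card_mul_regInner_self,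
    mul_comm (Nat.card P : ℂ), mul_assoc, card_mul_classInner, regInner, Finset.sum_mul_sum,
    Finset.sum_comm]
  refine Finset.sum_congr rfl fun u _ => ?_
  rw [Finset.mul_sum]
  refine Finset.sum_congr rfl fun y hy => ?_
  rw [star_mul θ S.hP S.hG φ u (Finset.mem_filter.mp hy).2, apply_mul_of_trivial θ S.triv]
  ring

theorem isIrr_star (φ : IrrCharacter P) : IsIrrCharacter G (star p θ P (φ : P → ℂ)) := by
  obtain ⟨χ, hχ, h | h⟩ := eq_or_neg_irr_of_norm_one (S.isGeneralizedCharacter_star φ)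
    (by rw [S.classInner_star_star]; exact classInner_irr_self φ.2)
  · exact h ▸ hχ
  exfalso
  have h1 := congrFun h 1
  rw [star_regular θ _ (by simpa using (Fact.out : p.Prime).ne_one), Pi.neg_apply,
    ClassAlgebraVal.apply_one_eq_charDegree φ, ClassAlgebraVal.apply_one_eq_charDegree θ,
    show χ 1 = (charDegree χ : ℂ) from
      ClassAlgebraVal.apply_one_eq_charDegree (⟨χ, hχ⟩ : IrrCharacter G), ← Nat.cast_mul, eq_neg_iff_add_eq_zero,
    ← Nat.cast_add, Nat.cast_eq_zero] at h1
  have h2 : 0 < charDegree χ := ClassAlgebraVal.charDegree_pos (⟨χ, hχ⟩ : IrrCharacter G)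
  omega

/-- The member of `B` attached to a character of `P`. -/
noncomputable def member (φ : IrrCharacter P) : IrrCharacter G :=
  ⟨star p θ P (φ : P → ℂ), S.isIrr_star φ⟩

theorem member_mem (φ : IrrCharacter P) : S.member φ ∈ B := by
  refine mem_of_sameBlock S.hM S.hB S.mem (sameBlock_symm ?_)
  refine BlockTheoryNormal.sameBlock_of_regular S.hM fun y hy => ?_
  have h1 : (S.member φ : G → ℂ) y = (φ : P → ℂ) 1 * (θ : G → ℂ) y := star_regular θ _ hy
  have h2 : (S.member φ : G → ℂ) 1 = (φ : P → ℂ) 1 * (θ : G → ℂ) 1 :=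
    star_regular θ _ (by simpa using (Fact.out : p.Prime).ne_one)
  have e : centralChar (S.member φ : G → ℂ) y = centralChar (θ : G → ℂ) y := by
    rw [centralChar, centralChar, h1, h2, mul_left_comm, mul_div_mul_left _ _ (irr_one_ne_zero φ)]
  rw [e, sub_self]
  exact ideal_zero S.hM

theorem member_injective : Function.Injective S.member := by
  intro φ ψ h
  by_contra hne
  have h1 := S.classInner_star_star (φ : P → ℂ) (ψ : P → ℂ)
  rw [classInner_irr_ne φ.2 ψ.2 (fun he => hne (Subtype.ext he))] at h1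
  have h2 : star p θ P (φ : P → ℂ) = star p θ P (ψ : P → ℂ) := congrArg Subtype.val h
  rw [h2, classInner_irr_self (S.isIrr_star ψ)] at h1
  exact one_ne_zero h1

theorem member_surjective {χ : IrrCharacter G} (hχ : χ ∈ B) : ∃ φ, S.member φ = χ := by
  set f : P → ℂ := fun u => ∑ y ∈ Finset.univ.filter (fun y => ¬ p ∣ orderOf y),
    (χ : G → ℂ) ((u : G) * y) * conj ((θ : G → ℂ) y) with hf
  have hfc : IsClassFunction P f := by
    intro u v
    refine Finset.sum_congr rfl fun y hy => ?_
    congr 1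
    have hy' := Subgroup.mem_centralizer_iff.mp
      (regular_commute S.hP S.hG (Finset.mem_filter.mp hy).2) (v : G)⁻¹ (inv_mem v.2)
    rw [Subgroup.coe_mul, Subgroup.coe_mul, Subgroup.coe_inv, mul_assoc, hy', ← mul_assoc,
      mul_assoc (v : G), irr_classFun χ]
  obtain ⟨φ, hφ⟩ : ∃ φ : IrrCharacter P, classInner f (φ : P → ℂ) ≠ 0 := by
    by_contra! hall
    have h1 := congrFun (eq_zero_of_forall_classInner hfc fun φ hφ => hall ⟨φ, hφ⟩) 1
    refine S.regInner_ne_zero χ hχ (Eq.trans ?_ h1)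
    simp [hf, regInner]
  refine ⟨φ, Subtype.ext ?_⟩
  by_contra hne
  have h1 := S.classInner_star_right (f := (χ : G → ℂ))
    (fun g hg => S.eq_zero_of_notMem hχ hg) (φ : P → ℂ)
  rw [classInner_irr_ne χ.2 (S.isIrr_star φ) fun h => hne h.symm, mul_zero] at h1
  refine hφ ?_
  rw [classInner, mul_eq_zero]
  refine Or.inr ?_
  rw [h1]
  exact Finset.sum_congr rfl fun u _ => mul_comm _ _

theorem card_eq : Nat.card B = Nat.card (ConjClasses P) := by
  rw [← card_irrCharacter]
  refine (Nat.card_eq_of_bijective (fun φ => (⟨S.member φ, S.member_mem φ⟩ : B)) ⟨?_, ?_⟩).symm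
  · exact fun a b h => S.member_injective (congrArg Subtype.val h)
  · rintro ⟨χ, hχ⟩
    obtain ⟨φ, rfl⟩ := S.member_surjective hχ
    exact ⟨φ, rfl⟩

theorem eq_of_trivial {χ : IrrCharacter G} (hχ : χ ∈ B)
    (htriv : ∀ x ∈ P, (χ : G → ℂ) x = (χ : G → ℂ) 1) : χ = θ := by
  haveI := S.hN
  obtain ⟨φ, rfl⟩ := S.member_surjective hχ
  have hconst : ∀ u : P, (φ : P → ℂ) u = (φ : P → ℂ) 1 := by
    intro u
    have h1 : star p θ P (φ : P → ℂ) ((u : G) * 1) = star p θ P (φ : P → ℂ) 1 := by
      rw [mul_one]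
      exact htriv u u.2
    rw [star_mul θ S.hP S.hG _ u (by simpa using (Fact.out : p.Prime).ne_one),
      star_regular θ _ (by simpa using (Fact.out : p.Prime).ne_one), mul_one, S.triv u u.2] at h1
    exact mul_right_cancel₀ (irr_one_ne_zero θ) h1
  have hone : (φ : P → ℂ) 1 = 1 := by
    have h1 := card_mul_classInner (φ : P → ℂ) (φ : P → ℂ)
    simp only [classInner_irr_self φ.2, mul_one, hconst, Finset.sum_const, Finset.card_univ,
      nsmul_eq_mul, ← Nat.card_eq_fintype_card, ClassAlgebraVal.apply_one_eq_charDegree φ,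
      map_natCast, ← Nat.cast_mul, Nat.cast_inj] at h1
    have h2 : charDegree (φ : P → ℂ) * charDegree (φ : P → ℂ) = 1 :=
      Nat.eq_of_mul_eq_mul_left (Nat.card_pos (α := P)) (by rw [mul_one]; exact h1.symm)
    rw [ClassAlgebraVal.apply_one_eq_charDegree φ, Nat.eq_one_of_mul_eq_one_right h2, Nat.cast_one]
  refine Subtype.ext (funext fun g => ?_)
  show star p θ P (φ : P → ℂ) g = (θ : G → ℂ) g
  by_cases hg : pp p g ∈ P
  · simp only [star, dif_pos hg, hconst, hone, one_mul]
  · simp only [star, dif_neg hg]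
    exact (S.eq_zero_of_notMem S.mem hg).symm

end Setting

end Cfsg.Agent.BlockPCount9
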