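import Cfsg.Agent.Lib.BlockPrimeSimple86
import Cfsg.Agent.Lib.BlockContribPrime
import Cfsg.Agent.Lib.PrincipalSylow80

/-!
The number of irreducible modular representations in the principal block is at least the inertia index,
for a Sylow subgroup of prime order.
-/

set_option autoImplicit false

open scoped ComplexConjugate

namespace Cfsg.Agent.BlockPrime86

open Cfsg Cfsg.Agent.BlockTheoryLocalRing Cfsg.Agent.BlockTheoryCentre
  Cfsg.Agent.BlockTheoryIdem Cfsg.Agent.BlockPrincipal81 Cfsg.Agent.CharBasicOrth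
  Cfsg.Agent.BlockAbelianSylow86

attribute [local instance] Classical.propDecidable

universe u

variable {p : ℕ} {M : Ideal AlgInt} {k : Type} [Field k]

/-- The reduction extended by zero. -/
noncomputable def rd (hM : IsPModular p M) (red : localRing hM →+* k) (z : ℂ) : k :=
  if h : MemLocalRing M z then red ⟨z, h⟩ else 0

section Rd

variable (hM : IsPModular p M) (red : localRing hM →+* k)

theorem rd_eq {z : ℂ} (h : MemLocalRing M z) : rd hM red z = red ⟨z, h⟩ := dif_pos h

theorem rd_mul {x y : ℂ} (hx : MemLocalRing M x) (hy : MemLocalRing M y) :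
    rd hM red (x * y) = rd hM red x * rd hM red y := by
  rw [rd_eq hM red hx, rd_eq hM red hy, rd_eq hM red (mul_mem (show x ∈ localRing hM from hx) hy), ← map_mul]
  rfl

theorem rd_add {x y : ℂ} (hx : MemLocalRing M x) (hy : MemLocalRing M y) :
    rd hM red (x + y) = rd hM red x + rd hM red y := by
  rw [rd_eq hM red hx, rd_eq hM red hy, rd_eq hM red (add_mem (show x ∈ localRing hM from hx) hy), ← map_add]
  rfl

theorem rd_natCast (n : ℕ) : rd hM red (n : ℂ) = (n : k) := by
  rw [rd_eq hM red (natCast_mem (localRing hM) n)]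
  exact (congrArg red (Subtype.ext (by simp))).trans (map_natCast red n)

theorem rd_intCast (n : ℤ) : rd hM red (n : ℂ) = (n : k) := by
  rw [rd_eq hM red (intCast_mem (localRing hM) n)]
  exact (congrArg red (Subtype.ext (by simp))).trans (map_intCast red n)

theorem rd_one : rd hM red 1 = 1 := by simpa using rd_natCast hM red 1

theorem rd_zero : rd hM red 0 = 0 := by simpa using rd_natCast hM red 0

theorem rd_sum {ι : Type*} (s : Finset ι) (f : ι → ℂ) (hf : ∀ i ∈ s, MemLocalRing M (f i)) :
    rd hM red (∑ i ∈ s, f i) = ∑ i ∈ s, rd hM red (f i) := by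
  classical
  induction s using Finset.induction with
  | empty => simp [rd_zero]
  | insert a s ha ih =>
    rw [Finset.sum_insert ha, Finset.sum_insert ha, rd_add hM red (hf a (Finset.mem_insert_self a s)) ?_,
      ih fun i hi => hf i (Finset.mem_insert_of_mem hi)]
    exact sum_mem (S := localRing hM) fun i hi => hf i (Finset.mem_insert_of_mem hi)

theorem rd_congr (hred : ∀ z : localRing hM, MemLocalIdeal M (z : ℂ) → red z = 0) {x y : ℂ}
    (hy : MemLocalRing M y) (h : MemLocalIdeal M (x - y)) : rd hM red x = rd hM red y := by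
  have e := rd_add hM red (ideal_le_ring h) hy
  rw [sub_add_cancel] at e
  rw [e, rd_eq hM red (ideal_le_ring h), hred _ h, zero_add]

end Rd

variable {G : Type u} [Group G] [Fintype G] [hp : Fact p.Prime]

theorem irr_mem (hM : IsPModular p M) (χ : IrrCharacter G) (g : G) :
    MemLocalRing M ((χ : G → ℂ) g) :=
  of_isIntegral hM (CharBasic.isCharacter_integral (CharBasic.isCharacter_of_isIrrCharacter χ.2) g)

theorem trace_mul_pElement [CharP k p] {V : Type*} [AddCommGroup V] [Module k V] [FiniteDimensional k V]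
    (ρ : G →* Module.End k V) {x r : G} (hx : ∃ j, orderOf x = p ^ j) (hc : Commute x r) :
    LinearMap.trace k V (ρ (x * r)) = LinearMap.trace k V (ρ r) := by
  obtain ⟨j, hj⟩ := hx
  have hnil : IsNilpotent (ρ x - 1) := by
    refine ⟨p ^ j, ?_⟩
    have e : (ρ x - 1) ^ p ^ j =
        Polynomial.aeval (ρ x) ((Polynomial.X - 1 : Polynomial k) ^ p ^ j) := by simp
    rw [e, sub_pow_char_pow, one_pow]
    simp [← map_pow ρ, ← hj, pow_orderOf_eq_one]
  have h2 : IsNilpotent ((ρ x - 1) * ρ r) :=
    (((hc.map ρ).sub_left (Commute.one_left _))).isNilpotent_mul_right hnil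
  have h3 := (LinearMap.isNilpotent_trace_of_isNilpotent h2).eq_zero
  rw [sub_mul, one_mul, ← map_mul ρ, map_sub, sub_eq_zero] at h3
  exact h3

theorem exists_indicator [CharP k p] (hM : IsPModular p M) (red : localRing hM →+* k) {r : G}
    (hr : ¬ p ∣ orderOf r) : ∃ c : IrrCharacter G → k, ∀ g : G, ¬ p ∣ orderOf g →
      ∑ χ, c χ * rd hM red ((χ : G → ℂ) g) = if IsConj g r then 1 else 0 := by
  have Q : Sylow p ↥(Subgroup.centralizer ({r} : Set G)) := default
  set R : Subgroup G := (Q : Subgroup ↥(Subgroup.centralizer ({r} : Set G))).map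
    (Subgroup.centralizer ({r} : Set G)).subtype with hR
  have hRc : ∀ x ∈ R, Commute r x := by
    rintro _ ⟨x, -, rfl⟩
    exact (hH r _).1 x.2
  have hRp : IsPGroup p R := Q.isPGroup'.map _
  set n : ℕ := (Q : Subgroup ↥(Subgroup.centralizer ({r} : Set G))).index with hn
  have hn0 : (n : k) ≠ 0 := by
    rw [Ne, CharP.cast_eq_zero_iff k p]; exact Q.not_dvd_index
  have hcard : Nat.card R * n = Nat.card ↥(Subgroup.centralizer ({r} : Set G)) := by
    rw [hR, Subgroup.card_map_of_injective (Subgroup.subtype_injective _), hn, Subgroup.card_mul_index]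
  set cc : IrrCharacter G → ℂ := fun χ => (Nat.card R : ℂ)⁻¹ * ∑ x : R, conj ((χ : G → ℂ) (r * x)) with hcc
  have hccR : ∀ χ, MemLocalRing M (cc χ) := by
    intro χ
    refine of_isIntegral hM ?_
    have := BlockContribPrime.isIntegral_avg_coset (CharBasic.isCharacter_of_isIrrCharacter χ.2) r⁻¹ R
      fun x hx => (hRc x hx).inv_left
    convert this using 2
    refine Fintype.sum_equiv (Equiv.inv R) (fun x : R => conj ((χ : G → ℂ) (r * x))) (fun x : R => (χ : G → ℂ) (r⁻¹ * x)) fun x => ?_
    rw [← irr_inv, mul_inv_rev, Equiv.inv_apply, Subgroup.coe_inv]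
    rw [((hRc x x.2).inv_inv).eq]
  refine ⟨fun χ => (n : k)⁻¹ * rd hM red (cc χ), fun g hg => ?_⟩
  have key : ∑ χ : IrrCharacter G, (χ : G → ℂ) g * cc χ = if IsConj g r then (n : ℂ) else 0 := by
    have e : ∀ χ : IrrCharacter G, (χ : G → ℂ) g * cc χ =
        ∑ x : R, (Nat.card R : ℂ)⁻¹ * ((χ : G → ℂ) g * conj ((χ : G → ℂ) (r * x))) := fun χ => by
      simp only [hcc, Finset.mul_sum]
      exact Finset.sum_congr rfl fun x _ => mul_left_comm _ _ _
    simp only [e]
    rw [Finset.sum_comm]
    simp only [← Finset.mul_sum, sum_irr_mul_conj]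
    rw [Finset.sum_eq_single (1 : R)]
    · simp only [OneMemClass.coe_one, mul_one]
      split_ifs with h
      · have hcg : Nat.card ↥(Subgroup.centralizer ({g} : Set G)) =
            Nat.card ↥(Subgroup.centralizer ({r} : Set G)) := by
          have h1 := (sum_irr_mul_conj g g).symm
          rw [if_pos (IsConj.refl g)] at h1
          have h2 := (sum_irr_mul_conj r r).symm
          rw [if_pos (IsConj.refl r)] at h2
          have h3 : (Nat.card ↥(Subgroup.centralizer ({g} : Set G)) : ℂ) =
              (Nat.card ↥(Subgroup.centralizer ({r} : Set G)) : ℂ) := by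
            rw [h1, h2]
            exact Finset.sum_congr rfl fun χ _ => by rw [CharBasic.apply_eq_of_isConj (irr_classFun χ) h]
          exact_mod_cast h3
        rw [hcg, ← hcard, Nat.cast_mul, inv_mul_cancel_left₀ (Nat.cast_ne_zero.2 Nat.card_pos.ne')]
      · rw [mul_zero]
    · intro x _ hx
      rw [if_neg]
      intro h
      refine hx (Subtype.ext ?_)
      obtain ⟨j, hj⟩ := (IsPGroup.iff_orderOf.1 hRp) x
      obtain ⟨c, hc⟩ := isConj_iff.1 h
      have hreg : ¬ p ∣ orderOf (r * (x : G)) := by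
        rw [← hc]
        exact (orderOf_injective (MulAut.conj c).toMonoidHom (MulAut.conj c).injective g).symm ▸ hg
      exact pPart_unique hp.out (g := r * (x : G))
        ⟨r, (hRc x x.2).eq.symm, (hRc x x.2).symm, ⟨j, by rw [Subgroup.orderOf_coe, hj]⟩, hr⟩
        ⟨r * x, one_mul _, Commute.one_left _, ⟨0, by simp⟩, hreg⟩
    · simp
  have h2 := congrArg (rd hM red) key
  rw [rd_sum hM red _ _ (fun χ _ => mul_mem (show _ ∈ localRing hM from irr_mem hM χ g) (hccR χ))] at h2
  simp only [rd_mul hM red (irr_mem hM _ g) (hccR _)] at h2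
  simp only [mul_assoc, ← Finset.mul_sum]
  simp only [mul_comm (rd hM red (cc _)), h2]
  split_ifs
  · rw [rd_natCast, inv_mul_cancel₀ hn0]
  · rw [rd_zero, mul_zero]

theorem exists_expansion [CharP k p] (hM : IsPModular p M) (red : localRing hM →+* k) (f : G → k)
    (hf : ∀ g h, IsConj g h → f g = f h) :
    ∃ c : IrrCharacter G → k, ∀ g : G, ¬ p ∣ orderOf g → f g = ∑ χ, c χ * rd hM red ((χ : G → ℂ) g) := by
  haveI : Fintype (ConjClasses G) := Fintype.ofFinite _
  choose c hc using fun D : {D : ConjClasses G // ¬ p ∣ orderOf D.out} => exists_indicator hM red D.2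
  refine ⟨fun χ => ∑ D, f D.1.out * c D χ, fun g hg => ?_⟩
  simp only [Finset.sum_mul, mul_assoc]
  rw [Finset.sum_comm]
  simp only [← Finset.mul_sum, hc _ g hg]
  have hgD : ¬ p ∣ orderOf (ConjClasses.mk g).out := by
    obtain ⟨a, ha⟩ := isConj_iff.1 ((isConj_out (ConjClasses.mk g)).1 rfl)
    rw [← ha] at hg
    exact fun h => hg ((orderOf_injective (MulAut.conj a).toMonoidHom (MulAut.conj a).injective _).symm ▸ h)
  rw [Finset.sum_eq_single ⟨ConjClasses.mk g, hgD⟩]
  · have h := (isConj_out (ConjClasses.mk g)).1 rfl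
    rw [if_pos h.symm, mul_one, hf _ _ h]
  · intro D _ hD
    rw [if_neg, mul_zero]
    intro h
    exact hD (Subtype.ext ((isConj_out D.1).2 h.symm).symm)
  · simp

theorem sum_blockCoeff_mul (B : Set (IrrCharacter G)) (χ : IrrCharacter G) (g : G) :
    ∑ h : G, blockCoeff B h * (χ : G → ℂ) (g * h) = if χ ∈ B then (χ : G → ℂ) g else 0 := by
  have h := chiSum_idem_mul B χ (MonoidAlgebra.single g 1)
  rw [chiSum_single, one_mul] at h
  rw [← h, eq_sum_single (idem B), Finset.sum_mul, map_sum]
  refine Finset.sum_congr rfl fun x _ => ?_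
  rw [MonoidAlgebra.single_mul_single, chiSum_single, mul_one, coeff_idem]
  congr 1
  exact CharBasic.apply_eq_of_isConj (irr_classFun χ) (isConj_iff.2 ⟨x, by group⟩)

variable {P : Sylow p G} [Fintype ↥(P : Subgroup G)] (hP : Nat.card (P : Subgroup G) = p)
  [CharP k p] [IsAlgClosed k] (hM : IsPModular p M) (red : localRing hM →+* k)
  (hred : ∀ z : localRing hM, MemLocalIdeal M (z : ℂ) → red z = 0)

include hP in
theorem exists_weights (e : ℕ) (he : (Subgroup.centralizer ((P : Subgroup G) : Set G)).relIndex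
    (Subgroup.normalizer ((P : Subgroup G) : Set G)) = e) :
    ∃ L : Fin e → (↥(Subgroup.normalizer ((P : Subgroup G) : Set G)) →* kˣ),
      Function.Injective L ∧ ∀ i, kerN P ≤ (L i).ker := by
  set R := (conjP P).range
  have hker : (conjP P).ker = kerN P := (P : Subgroup G).normalizerMonoidHom_ker
  have hcardR : Nat.card R = e := by
    rw [← Subgroup.index_ker, hker]; exact he
  haveI := comm_P hP
  obtain ⟨σ, hσ, -, hgen⟩ := exists_generator_P hP
  have hall : ∀ z : ↥(P : Subgroup G), ∃ i : ℕ, z = ⟨σ, hσ⟩ ^ i := fun z => by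
    obtain ⟨i, hi⟩ := hgen z z.2
    exact ⟨i, Subtype.ext (by rw [hi]; simp)⟩
  have hcomm : ∀ a b : R, a * b = b * a := by
    intro a b
    refine Subtype.ext (MulEquiv.ext fun x => ?_)
    show (a : MulAut ↥(P : Subgroup G)) ((b : MulAut ↥(P : Subgroup G)) x) =
      (b : MulAut ↥(P : Subgroup G)) ((a : MulAut ↥(P : Subgroup G)) x)
    obtain ⟨i, rfl⟩ := hall x
    simp only [map_pow]
    obtain ⟨i₁, h₁⟩ := hall ((a : MulAut ↥(P : Subgroup G)) ⟨σ, hσ⟩)
    obtain ⟨i₂, h₂⟩ := hall ((b : MulAut ↥(P : Subgroup G)) ⟨σ, hσ⟩)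
    congr 1
    rw [h₂, map_pow, h₁, map_pow, h₂, ← pow_mul, ← pow_mul, mul_comm]
  letI : CommGroup R := { (inferInstance : Group R) with mul_comm := hcomm }
  have hpR : ¬ p ∣ Monoid.exponent R := fun h => by
    refine P.not_dvd_index ?_
    have h1 : p ∣ (kerN P).index := by
      rw [← hker, Subgroup.index_ker]
      exact h.trans Group.exponent_dvd_nat_card
    refine h1.trans (((Subgroup.index_dvd_of_le (PN_le_kerN hP))).trans ?_)
    exact Subgroup.relIndex_dvd_index_of_le Subgroup.le_normalizer
  haveI : NeZero ((Monoid.exponent R : ℕ) : k) := ⟨by rwa [Ne, CharP.cast_eq_zero_iff k p]⟩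
  have hcard : Nat.card (R →* kˣ) = e := by
    rw [CommGroup.card_monoidHom_of_hasEnoughRootsOfUnity R k, hcardR]
  haveI : Finite (R →* kˣ) := Nat.finite_of_card_ne_zero (by
    rw [hcard, ← he]; exact Subgroup.index_ne_zero_of_finite)
  refine ⟨fun i => ((Finite.equivFinOfCardEq hcard).symm i).comp (conjP P).rangeRestrict,
    fun i j h => ?_, fun i n hn => ?_⟩
  · exact (Finite.equivFinOfCardEq hcard).symm.injective
      ((MonoidHom.cancel_right (conjP P).rangeRestrict_surjective).1 h)
  · rw [← hker, MonoidHom.mem_ker] at hn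
    rw [MonoidHom.mem_ker, MonoidHom.comp_apply, show (conjP P).rangeRestrict n = 1 from Subtype.ext hn,
      map_one]

include hP hred in
/-- The trace function of a representation with a bad vector lies in the span of the principal block. -/
theorem trace_mem_block {lam : ↥(Subgroup.normalizer ((P : Subgroup G) : Set G)) →* kˣ}
    (hlam : kerN P ≤ lam.ker) {V : Type*} [AddCommGroup V] [Module k V] [FiniteDimensional k V]
    {ρ : G →* Module.End k V} (hirr : Irred ρ) {v : V} (hv : IsBad P ρ lam v) :
    ∃ c : IrrCharacter G → k, ∀ g : G, LinearMap.trace k V (ρ g) =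
      ∑ χ, if χ ∈ principalBlock M G then c χ * rd hM red ((χ : G → ℂ) g) else 0 := by
  set β : G → k := fun h => rd hM red (blockCoeff (principalBlock M G) h) with hβ
  have hblk := isPBlock_principal (M := M) (G := G)
  set E : Module.End k V := ∑ h, β h • ρ h with hE
  obtain ⟨ε, hε⟩ := schur hirr E (fun x y => by
    simp only [hE, LinearMap.sum_apply, LinearMap.smul_apply, map_sum, map_smul,
      ← Module.End.mul_apply, ← map_mul]
    refine Fintype.sum_equiv (MulAut.conj x⁻¹).toEquiv _ _ fun h => ?_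
    have hb : blockCoeff (principalBlock M G) (x⁻¹ * h * x) = blockCoeff (principalBlock M G) h := by
      simp only [blockCoeff_eq_sum]
      simp only [CharBasic.apply_eq_of_isConj (irr_classFun _) (isConj_iff.2 ⟨x, by group⟩ :
        IsConj (x⁻¹ * h * x) h)]
    simp only [MulEquiv.toEquiv_eq_coe, MulEquiv.coe_toEquiv, MulAut.conj_apply, inv_inv, hβ, hb]
    congr 2
    group)
  letI : MulAction ↥(P : Subgroup G) G :=
    MulAction.compHom G ((MulAut.conj (G := G)).comp (P : Subgroup G).subtype)
  have hsmul : ∀ (x : ↥(P : Subgroup G)) (h : G), x • h = (x : G) * h * (x : G)⁻¹ := fun x h => rfl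
  set C : Finset G := Finset.univ.filter (· ∈ Subgroup.centralizer ((P : Subgroup G) : Set G)) with hC
  have hinv : ∀ (x : ↥(P : Subgroup G)) h, h ∈ Finset.univ \ C → x • h ∈ Finset.univ \ C := by
    intro x h hh
    simp only [hC, Finset.mem_sdiff, Finset.mem_univ, Finset.mem_filter, true_and] at hh ⊢
    rw [hsmul]
    intro hm
    refine hh (Subgroup.mem_centralizer_iff.2 fun z hz => ?_)
    have hx : ∀ w ∈ (P : Subgroup G), w * (x : G) = (x : G) * w := fun w hw => by
      haveI := comm_P hP
      exact congrArg Subtype.val (mul_comm' (⟨w, hw⟩ : (P : Subgroup G)) x)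
    have := Subgroup.mem_centralizer_iff.1 hm z hz
    calc z * h = (x : G)⁻¹ * (z * ((x : G) * h * (x : G)⁻¹)) * x := by
          rw [← mul_assoc z, ← mul_assoc z, hx z hz]; group
      _ = (x : G)⁻¹ * ((x : G) * h * (x : G)⁻¹ * z) * x := by rw [this]
      _ = h * z := by
          rw [mul_assoc _ (_ * z), mul_assoc _ z, hx z hz]; group
  have hfree : ∀ (x : ↥(P : Subgroup G)) h, h ∈ Finset.univ \ C → x • h = h → x = 1 := by
    intro x h hh hxh
    by_contra hx
    simp only [hC, Finset.mem_sdiff, Finset.mem_univ, Finset.mem_filter, true_and] at hh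
    refine hh (Subgroup.mem_centralizer_iff.2 fun z hz => ?_)
    have : (⟨z, hz⟩ : ↥(P : Subgroup G)) ∈ MulAction.stabilizer ↥(P : Subgroup G) h :=
      Subgroup.zpowers_le.2 (MulAction.mem_stabilizer_iff.2 hxh)
        (by rw [zpowers_eq_top_of_prime_card hP hx]; exact Subgroup.mem_top _)
    have h2 := MulAction.mem_stabilizer_iff.1 this
    rw [hsmul] at h2
    exact mul_inv_eq_iff_eq_mul.1 h2
  have hβinv : ∀ (x : ↥(P : Subgroup G)) h, β (x • h) = β h := fun x h => by
    simp only [hβ, blockCoeff_eq_sum, hsmul,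
      CharBasic.apply_eq_of_isConj (irr_classFun _) (isConj_iff.2 ⟨(x : G)⁻¹, by group⟩ :
        IsConj ((x : G) * h * (x : G)⁻¹) h)]
  have hβC : ∑ h ∈ C, β h = 1 := by
    have h1 : ∑ h, β h = 1 := by
      rw [← rd_sum hM red _ _ (fun h _ => blockCoeff_mem hM hblk h), sum_blockCoeff hM, rd_one]
    have h2 := sum_free_eq_zero (Q := ↥(P : Subgroup G)) (R := k) (Finset.univ \ C) hinv hfree β
      (fun x h _ => hβinv x h) (by rw [← Nat.card_eq_fintype_card, hP, CharP.cast_eq_zero])
    rwa [← Finset.sum_sdiff (Finset.subset_univ C), h2, zero_add] at h1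
  have hvf := fixed_of_eigen hP lam hlam ρ hv.1
  have hε1 : ε = 1 := by
    obtain ⟨w, hw⟩ := sum_free (Q := ↥(P : Subgroup G)) (k := k) (Finset.univ \ C) hinv hfree
      (ρ.comp (P : Subgroup G).subtype) (fun h => β h • ρ h v) (fun x h _ => by
        rw [hsmul, ← hsmul, hβinv, hsmul, MonoidHom.comp_apply, map_smul, map_mul ρ, map_mul ρ, Module.End.mul_apply,
          Module.End.mul_apply, hvf _ (inv_mem x.2)]
        rfl)
    have hsumC : ∑ h ∈ C, β h • ρ h v = v := by
      rw [Finset.sum_congr rfl fun h hh => show β h • ρ h v = β h • v from ?_, ← Finset.sum_smul, hβC, one_smul]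
      have hh' := (Finset.mem_filter.1 hh).2
      have hN : h ∈ Subgroup.normalizer ((P : Subgroup G) : Set G) := Subgroup.centralizer_le_normalizer _ hh'
      rw [hv.1 ⟨h, hN⟩, MonoidHom.mem_ker.1 (hlam (show (⟨h, hN⟩ : ↥(Subgroup.normalizer _)) ∈ kerN P from hh')),
        Units.val_one, one_smul]
    by_contra hne
    have hEv : ε • v = traceOp P ρ w + v := by
      rw [← hε v, hE, LinearMap.sum_apply, ← Finset.sum_sdiff (Finset.subset_univ C)]
      simp only [LinearMap.smul_apply]
      rw [hw, hsumC]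
      rfl
    refine hv.2 ⟨(ε - 1)⁻¹ • w, ?_⟩
    rw [map_smul, show traceOp P ρ w = (ε - 1) • v by rw [sub_smul, one_smul, hEv, add_sub_cancel_right],
      smul_smul, inv_mul_cancel₀ (sub_ne_zero.2 hne), one_smul]
  obtain ⟨c, hc⟩ := exists_expansion hM red (fun g => LinearMap.trace k V (ρ g)) (fun a b hab => by
    obtain ⟨x, rfl⟩ := isConj_iff.1 hab
    rw [map_mul ρ, LinearMap.trace_mul_comm k, ← map_mul ρ, ← mul_assoc, inv_mul_cancel, one_mul])
  have hall : ∀ g : G, LinearMap.trace k V (ρ g) = ∑ χ, c χ * rd hM red ((χ : G → ℂ) g) := by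
    intro g
    obtain ⟨x, r, rfl, hxr, hxp, hr⟩ := exists_pPart hp.out g
    rw [trace_mul_pElement ρ hxp hxr, hc r hr]
    refine Finset.sum_congr rfl fun χ _ => congrArg _ ?_
    exact (rd_congr hM red hred (irr_mem hM χ r)
      (PrincipalSylow80.char_mul_congr hM (CharBasic.isCharacter_of_isIrrCharacter χ.2) hxp hxr)).symm
  refine ⟨c, fun g => ?_⟩
  have hE1 : ρ g = ρ g * E := by
    refine LinearMap.ext fun y => ?_
    rw [Module.End.mul_apply, hε y, hε1, one_smul]
  conv_lhs => rw [hE1, hE, Finset.mul_sum]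
  simp only [mul_smul_comm, ← map_mul, map_sum, map_smul, hall, smul_eq_mul, Finset.mul_sum]
  rw [Finset.sum_comm]
  refine Finset.sum_congr rfl fun χ _ => ?_
  rw [Finset.sum_congr rfl fun h _ => mul_left_comm (β h) (c χ) _, ← Finset.mul_sum]
  simp only [hβ]
  simp only [← rd_mul hM red (blockCoeff_mem hM hblk _) (irr_mem hM χ _)]
  rw [← rd_sum hM red _ _ (fun h _ => mul_mem (show _ ∈ localRing hM from blockCoeff_mem hM hblk h)
      (irr_mem hM χ _)),
    sum_blockCoeff_mul]
  split_ifs
  · rfl
  · rw [rd_zero, mul_zero]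

include hP hred in
/-- The inertia index bounds the span of the principal block on regular elements. -/
theorem index_le_span (e : ℕ) (he : (Subgroup.centralizer ((P : Subgroup G) : Set G)).relIndex
    (Subgroup.normalizer ((P : Subgroup G) : Set G)) = e)
    (Ψ : Finset ({g : G // ¬ p ∣ orderOf g} → k))
    (hspan : ∀ χ ∈ principalBlock M G,
      (fun g : {g : G // ¬ p ∣ orderOf g} => rd hM red ((χ : G → ℂ) g)) ∈
        Submodule.span k (Ψ : Set ({g : G // ¬ p ∣ orderOf g} → k))) :
    e ≤ Ψ.card := by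
  obtain ⟨L, hL, hLk⟩ := exists_weights (k := k) hP e he
  choose V i1 i2 i3 ρ hirr v hv using fun i => exists_bad_irred hP (L i) (hLk i)
  set T : Fin e → ({g : G // ¬ p ∣ orderOf g} → k) := fun i g => LinearMap.trace k (V i) (ρ i g) with hT
  have hli : LinearIndependent k T := by
    rw [Fintype.linearIndependent_iff]
    intro a ha
    have h0 := trace_independent V ρ hirr (fun i j hij f hf => by
      by_contra hne
      exact hij (hL (weight_unique_hom hP (L i) (hLk i) (hLk j) (hirr i) (hirr j) f hf hne (hv i) (hv j))))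
      a (fun g => by
        obtain ⟨x, r, rfl, hxr, hxp, hr⟩ := exists_pPart hp.out g
        simp only [trace_mul_pElement (ρ _) hxp hxr]
        have := congrFun ha ⟨r, hr⟩
        simpa [hT] using this)
    exact fun i => congrFun h0 i
  have hsub : Set.range T ⊆ (Submodule.span k (Ψ : Set ({g : G // ¬ p ∣ orderOf g} → k)) :
      Set ({g : G // ¬ p ∣ orderOf g} → k)) := by
    rintro _ ⟨i, rfl⟩
    obtain ⟨c, hc⟩ := trace_mem_block hP hM red hred (hLk i) (hirr i) (hv i)
    have e : T i = ∑ χ : IrrCharacter G, if χ ∈ principalBlock M G then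
        c χ • (fun g : {g : G // ¬ p ∣ orderOf g} => rd hM red ((χ : G → ℂ) g)) else 0 := by
      funext g
      rw [hT, Finset.sum_apply]
      show LinearMap.trace k (V i) (ρ i g) = _
      rw [hc g]
      refine Finset.sum_congr rfl fun χ _ => ?_
      split_ifs <;> simp
    rw [e]
    refine Submodule.sum_mem _ fun χ _ => ?_
    split_ifs with h
    · exact Submodule.smul_mem _ _ (hspan χ h)
    · exact Submodule.zero_mem _
  haveI : FiniteDimensional k (Submodule.span k (Ψ : Set ({g : G // ¬ p ∣ orderOf g} → k))) :=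
    FiniteDimensional.span_finset k Ψ
  calc e = Module.finrank k (Submodule.span k (Set.range T)) := by
        rw [finrank_span_eq_card hli, Fintype.card_fin]
    _ ≤ Module.finrank k (Submodule.span k (Ψ : Set ({g : G // ¬ p ∣ orderOf g} → k))) :=
        Submodule.finrank_mono (Submodule.span_le.2 hsub)
    _ ≤ Ψ.card := finrank_span_finset_le_card Ψ

end Cfsg.Agent.BlockPrime86
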