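import Cfsg.Agent.Lib.BlockPrimeCount86
import Cfsg.Agent.Lib.BlockIndexThreeMain86

/-!
The principal block of a group with a Sylow subgroup of prime order.
-/

set_option autoImplicit false

open scoped ComplexConjugate IsMulCommutative

namespace Cfsg.Agent.BlockPrime86

open Cfsg Cfsg.Agent.BlockTheoryLocalRing Cfsg.Agent.BlockTheoryCentre
  Cfsg.Agent.BlockTheoryIdem Cfsg.Agent.BlockPrincipal81 Cfsg.Agent.CharBasicOrth
  Cfsg.Agent.BlockAbelianSylow86 Cfsg.Agent.BlockIndexThree86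

attribute [local instance] Classical.propDecidable

universe u

variable {G : Type u} [Group G] [Fintype G] {p : ℕ} [Fact p.Prime] {M : Ideal AlgInt}
  {P : Sylow p G} (hP : Nat.card (P : Subgroup G) = p)

include hP in
theorem freeAction : FreeAction P := by
  intro y hy hy1
  have hgen : (P : Subgroup G) = Subgroup.zpowers y := by
    refine le_antisymm (fun z hz => ?_) (Subgroup.zpowers_le.2 hy)
    have h : (⟨z, hz⟩ : ↥(P : Subgroup G)) ∈ Subgroup.zpowers (⟨y, hy⟩ : ↥(P : Subgroup G)) := by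
      rw [zpowers_eq_top_of_prime_card hP (fun e => hy1 (congrArg Subtype.val e))]; trivial
    obtain ⟨i, hi⟩ := Subgroup.mem_zpowers_iff.1 h
    exact Subgroup.mem_zpowers_iff.2 ⟨i, by simpa using congrArg Subtype.val hi⟩
  ext g
  rw [Subgroup.mem_inf, Subgroup.mem_centralizer_singleton_iff]
  constructor
  · rintro ⟨hg, -⟩
    refine Subgroup.mem_centralizer_iff.2 fun z hz => ?_
    have hz' : z ∈ Subgroup.zpowers y := hgen ▸ hz
    obtain ⟨i, rfl⟩ := Subgroup.mem_zpowers_iff.1 hz'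
    exact ((show Commute g y from hg).zpow_right i).eq.symm
  · intro hg
    exact ⟨(Subgroup.mem_centralizer_iff.1 hg y hy).symm, Subgroup.centralizer_le_normalizer _ hg⟩

variable [Fintype ↥(P : Subgroup G)]

include hP in
/-- The inertia index is at most the number of non-exceptional characters. -/
theorem index_le_card (hM : IsPModular p M) (e : ℕ)
    (he : (Subgroup.centralizer ((P : Subgroup G) : Set G)).relIndex
      (Subgroup.normalizer ((P : Subgroup G) : Set G)) = e)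
    (X Y : Finset (IrrCharacter G)) (a : IrrCharacter G → ℤ) (c : ℤ)
    (hB : ∀ χ, χ ∈ principalBlock M G → χ ∈ X ∨ χ ∈ Y) (h1 : oneChar G ∈ X) (ha1 : a (oneChar G) = 1)
    (hagree : ∀ η ∈ Y, ∀ η' ∈ Y, ∀ g : G, ¬ p ∣ orderOf g → (η : G → ℂ) g = (η' : G → ℂ) g)
    (hrel : ∀ η ∈ Y, ∀ g : G, ¬ p ∣ orderOf g →
      (c : ℂ) * (η : G → ℂ) g + ∑ χ ∈ X, (a χ : ℂ) * (χ : G → ℂ) g = 0)
    (hrel' : Y = ∅ → ∀ g : G, ¬ p ∣ orderOf g → ∑ χ ∈ X, (a χ : ℂ) * (χ : G → ℂ) g = 0) :
    e ≤ X.card ∧ (Y = ∅ → e < X.card) := by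
  obtain ⟨k, _, _, _, red, hred⟩ := exists_residue hM
  set φ : IrrCharacter G → ({g : G // ¬ p ∣ orderOf g} → k) := fun χ g => rd hM red ((χ : G → ℂ) g) with hφ
  have hsumR : ∀ g : G, MemLocalRing M (∑ χ ∈ X, (a χ : ℂ) * (χ : G → ℂ) g) := fun g =>
    sum_mem (S := localRing hM) fun χ _ => mul_mem (intCast_mem _ _) (irr_mem hM χ g)
  have hrdsum : ∀ g : G, rd hM red (∑ χ ∈ X, (a χ : ℂ) * (χ : G → ℂ) g) =
      ∑ χ ∈ X, (a χ : k) * rd hM red ((χ : G → ℂ) g) := fun g => by
    rw [rd_sum hM red _ _ fun χ _ => mul_mem (show _ ∈ localRing hM from intCast_mem _ _) (irr_mem hM χ g)]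
    exact Finset.sum_congr rfl fun χ _ => by
      rw [rd_mul hM red (intCast_mem (localRing hM) _) (irr_mem hM χ g), rd_intCast]
  have hmemX : ∀ {S : Finset (IrrCharacter G)} {χ}, χ ∈ S → φ χ ∈ Submodule.span k ((S.image φ : Finset _) : Set _) :=
    fun h => Submodule.subset_span (Finset.mem_coe.2 (Finset.mem_image_of_mem φ h))
  have hone_of : (∀ g : G, ¬ p ∣ orderOf g → ∑ χ ∈ X, (a χ : k) * rd hM red ((χ : G → ℂ) g) = 0) →
      φ (oneChar G) ∈ Submodule.span k (((X.erase (oneChar G)).image φ : Finset _) : Set _) := by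
    intro h0
    have e1 : φ (oneChar G) = -∑ χ ∈ X.erase (oneChar G), (a χ : k) • φ χ := by
      funext g
      have h := h0 g.1 g.2
      rw [← Finset.add_sum_erase _ _ h1, ha1, Int.cast_one, one_mul] at h
      rw [Pi.neg_apply, Finset.sum_apply]
      exact eq_neg_of_add_eq_zero_left h
    rw [e1]
    exact Submodule.neg_mem _ (Submodule.sum_mem _ fun χ hχ => Submodule.smul_mem _ _ (hmemX hχ))
  rcases Y.eq_empty_or_nonempty with hYe | ⟨η₀, hη₀⟩
  · have h0 := hone_of fun g hg => by rw [← hrdsum, hrel' hYe g hg, rd_zero]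
    have h := index_le_span hP hM red hred e he ((X.erase (oneChar G)).image φ) (fun χ hχ => by
      rcases hB χ hχ with h | h
      · rcases eq_or_ne χ (oneChar G) with rfl | hne
        · exact h0
        · exact hmemX (Finset.mem_erase.2 ⟨hne, h⟩)
      · exact absurd h (by rw [hYe]; exact Finset.notMem_empty _))
    have h2 := h.trans Finset.card_image_le
    rw [Finset.card_erase_of_mem h1] at h2
    have := Finset.card_pos.2 ⟨_, h1⟩
    exact ⟨by omega, fun _ => by omega⟩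
  refine ⟨?_, fun h => absurd hη₀ (by rw [h]; exact Finset.notMem_empty _)⟩
  have hY : ∀ η ∈ Y, φ η = φ η₀ := fun η hη => funext fun g => by
    show rd hM red _ = rd hM red _
    rw [hagree η hη η₀ hη₀ g.1 g.2]
  have hrelk : ∀ g : G, ¬ p ∣ orderOf g → (c : k) * rd hM red ((η₀ : G → ℂ) g) +
      ∑ χ ∈ X, (a χ : k) * rd hM red ((χ : G → ℂ) g) = 0 := fun g hg => by
    rw [← hrdsum, ← rd_intCast hM red c, ← rd_mul hM red (intCast_mem (localRing hM) _) (irr_mem hM η₀ g),
      ← rd_add hM red (mul_mem (show _ ∈ localRing hM from intCast_mem _ _) (irr_mem hM η₀ g)) (hsumR g),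
      hrel η₀ hη₀ g hg, rd_zero]
  by_cases hc : (c : k) = 0
  · have h0 := hone_of fun g hg => by simpa [hc] using hrelk g hg
    have h := index_le_span hP hM red hred e he (insert (φ η₀) ((X.erase (oneChar G)).image φ))
      (fun χ hχ => by
        rw [Finset.coe_insert]
        rcases hB χ hχ with h | h
        · refine Submodule.span_mono (Set.subset_insert _ _) ?_
          rcases eq_or_ne χ (oneChar G) with rfl | hne
          · exact h0
          · exact hmemX (Finset.mem_erase.2 ⟨hne, h⟩)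
        · exact Submodule.subset_span (Set.mem_insert_iff.2 (Or.inl (hY χ h))))
    refine h.trans ((Finset.card_insert_le _ _).trans ?_)
    have h2 : ((X.erase (oneChar G)).image φ).card ≤ (X.erase (oneChar G)).card := Finset.card_image_le
    rw [Finset.card_erase_of_mem h1] at h2
    have := Finset.card_pos.2 ⟨_, h1⟩
    omega
  · refine (index_le_span hP hM red hred e he (X.image φ) (fun χ hχ => ?_)).trans Finset.card_image_le
    rcases hB χ hχ with h | h
    · exact hmemX h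
    · show φ χ ∈ _
      have e1 : φ χ = (-(c : k)⁻¹) • ∑ ψ ∈ X, (a ψ : k) • φ ψ := by
        funext g
        rw [hY χ h, Pi.smul_apply, Finset.sum_apply, smul_eq_mul]
        show rd hM red _ = _ * ∑ ψ ∈ X, (a ψ : k) * rd hM red _
        rw [eq_neg_of_add_eq_zero_right (hrelk g.1 g.2), neg_mul_neg, inv_mul_cancel_left₀ hc]
      rw [e1]
      exact Submodule.smul_mem _ _ (Submodule.sum_mem _ fun ψ hψ => Submodule.smul_mem _ _ (hmemX hψ))

/-- The shape of the principal block for a Sylow subgroup of prime order. -/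
structure PrimeForm (M : Ideal AlgInt) (P : Sylow p G) (e : ℕ) (X Y : Finset (IrrCharacter G))
    (a : IrrCharacter G → ℤ) (ε : ℤ) : Prop where
  sign : ε = 1 ∨ ε = -1
  disj : Disjoint X Y
  block : ∀ χ, χ ∈ principalBlock M G ↔ χ ∈ X ∨ χ ∈ Y
  cardX : X.card = e
  cardY : Y.card = (p - 1) / e
  valX : ∀ χ ∈ X, (a χ = 1 ∨ a χ = -1) ∧ (charDegree (χ : G → ℂ) : ℤ) ≡ a χ [ZMOD p] ∧
    ∀ y ∈ (P : Subgroup G), y ≠ 1 → (χ : G → ℂ) y = (a χ : ℂ)
  degY : ∀ θ ∈ Y, (charDegree (θ : G → ℂ) : ℤ) ≡ ε * (e : ℤ) [ZMOD p]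
  agree : ∀ θ ∈ Y, ∀ θ' ∈ Y, ∀ g : G, ¬ p ∣ orderOf g → (θ : G → ℂ) g = (θ' : G → ℂ) g
  regular : ∀ θ ∈ Y, ∀ g : G, ¬ p ∣ orderOf g →
    (ε : ℂ) * (θ : G → ℂ) g = ∑ χ ∈ X, (a χ : ℂ) * (χ : G → ℂ) g

variable [Fintype (↥(P : Subgroup G) →* ℂˣ)]

include hP in
theorem card_nontrivial :
    (Finset.univ.filter fun ψ : ↥(P : Subgroup G) →* ℂˣ => ψ ≠ 1).card = p - 1 := by
  haveI := comm_P hP
  rw [Finset.filter_ne', Finset.card_erase_of_mem (Finset.mem_univ _), Finset.card_univ,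
    ← Nat.card_eq_fintype_card, CommGroup.card_monoidHom_of_hasEnoughRootsOfUnity, hP]

include hP in
theorem degree_congr (χ : IrrCharacter G) {z : ℂ} {w : ℤ}
    (hz : ∑ u ∈ Finset.univ.erase (1 : ↥(P : Subgroup G)), conj ((χ : G → ℂ) u) = z)
    (hw : z = (w : ℂ)) : (charDegree (χ : G → ℂ) : ℤ) ≡ -w [ZMOD p] := by
  have h : (Nat.card (P : Subgroup G) : ℤ) ∣ (charDegree (χ : G → ℂ) : ℤ) + w := by
    refine BlockIndexThree86.dvd_of_sum χ ?_
    rw [← Finset.add_sum_erase _ _ (Finset.mem_univ (1 : ↥(P : Subgroup G))), hz, hw, OneMemClass.coe_one,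
      degree_one_eq, map_intCast]
    push_cast
    ring
  rw [hP] at h
  rw [Int.modEq_iff_dvd, show -w - (charDegree (χ : G → ℂ) : ℤ) = -((charDegree (χ : G → ℂ) : ℤ) + w) by ring]
  exact dvd_neg.2 h

include hP in
/-- The principal block of a group with a Sylow subgroup of odd prime order. -/
theorem prime_main (hodd : p ≠ 2) (hM : IsPModular p M) (e : ℕ)
    (he : (Subgroup.centralizer ((P : Subgroup G) : Set G)).relIndex
      (Subgroup.normalizer ((P : Subgroup G) : Set G)) = e) :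
    ∃ X Y a ε, PrimeForm M P e X Y a ε := by
  have hab := comm_P hP
  have hfree := freeAction hP
  have hp2 : 2 ≤ p := (Fact.out : p.Prime).two_le
  have hp3 : 3 ≤ p := by omega
  have he0 : 0 < e := Nat.pos_of_ne_zero (he ▸ Subgroup.index_ne_zero_of_finite)
  have hnt := card_nontrivial hP
  obtain ⟨ψ₀, hψ₀⟩ : ∃ ψ : ↥(P : Subgroup G) →* ℂˣ, ψ ≠ 1 := by
    obtain ⟨ψ, hψ⟩ := Finset.card_pos.1 (show 0 < (Finset.univ.filter fun ψ : ↥(P : Subgroup G) →* ℂˣ => ψ ≠ 1).card by omega)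
    exact ⟨ψ, (Finset.mem_filter.1 hψ).2⟩
  have horb : ∀ ψ : ↥(P : Subgroup G) →* ℂˣ, ψ ≠ 1 →
      (Finset.univ.filter fun φ => SameOrbit P φ ψ).card = e ∧
      (Finset.univ.filter fun φ => SameOrbit P φ ψ) ⊆ Finset.univ.filter (fun φ : ↥(P : Subgroup G) →* ℂˣ => φ ≠ 1) := by
    intro ψ hψ
    refine ⟨?_, fun φ hφ => ?_⟩
    · rw [← Fintype.card_subtype, ← Nat.card_eq_fintype_card, card_orbit hab hfree e he hψ]
    · simp only [Finset.mem_filter, Finset.mem_univ, true_and] at hφ ⊢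
      exact sameOrbit_one (sameOrbit_symm hφ) hψ
  have hep : e ≤ p - 1 := by
    rw [← hnt, ← (horb ψ₀ hψ₀).1]
    exact Finset.card_le_card (horb ψ₀ hψ₀).2
  have hcardE : (Finset.univ.erase (1 : ↥(P : Subgroup G))).card = p - 1 := by
    rw [Finset.card_erase_of_mem (Finset.mem_univ _), Finset.card_univ, ← Nat.card_eq_fintype_card, hP]
  have hdegX : ∀ (χ : IrrCharacter G) (z : ℤ), (∀ y : ↥(P : Subgroup G), y ≠ 1 → (χ : G → ℂ) y = (z : ℂ)) →
      (charDegree (χ : G → ℂ) : ℤ) ≡ z [ZMOD p] := by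
    intro χ z hz
    have h := degree_congr hP χ (w := ((p : ℤ) - 1) * z) rfl (by
      rw [Finset.sum_congr rfl fun u hu => by rw [hz u (Finset.mem_erase.1 hu).1, map_intCast],
        Finset.sum_const, hcardE, nsmul_eq_mul, Nat.cast_pred (by omega)]
      push_cast
      ring)
    refine h.trans ?_
    rw [Int.modEq_iff_dvd]
    exact ⟨z, by ring⟩
  rcases Nat.lt_or_ge (e + 1) p with hlt | hge
  · obtain ⟨X, Y, a, d, δ, ζ, hδ, hdisj, hB, hYc, hY2, h1X, h1a, hζY, hsurj, hinj, hXv, hYv, hnorm, hagree,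
      hreg⟩ := structure_theorem hab hfree hM e he (by rw [hP]; exact hlt)
    rw [hP] at hYc
    have hcard := (index_le_card hP hM e he X Y a ((Y.card : ℤ) * d - δ) (fun χ => (hB χ).1) h1X h1a hagree
      (fun η hη g hg => by push_cast; exact hreg η hη g hg)
      (fun h => absurd hY2 (by rw [h]; simp))).1
    have hpos : ∀ χ ∈ X, 1 ≤ a χ ^ 2 := fun χ hχ =>
      Int.add_one_le_of_lt (pow_two_pos_of_ne_zero (hXv χ hχ).1)
    have hsum : (X.card : ℤ) ≤ ∑ χ ∈ X, a χ ^ 2 := by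
      rw [Finset.card_eq_sum_ones, Nat.cast_sum]
      exact Finset.sum_le_sum fun χ hχ => by simpa using hpos χ hχ
    have hY2' : (2 : ℤ) ≤ Y.card := by exact_mod_cast hY2
    have hA : 1 ≤ (d - δ) ^ 2 + ((Y.card : ℤ) - 1) * d ^ 2 := by
      rcases eq_or_ne d 0 with rfl | hd
      · rcases hδ with rfl | rfl <;> norm_num
      · have : 1 ≤ d ^ 2 := Int.add_one_le_of_lt (pow_two_pos_of_ne_zero hd)
        nlinarith [sq_nonneg (d - δ)]
    have hcard' : (e : ℤ) ≤ X.card := by exact_mod_cast hcard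
    have hXe : X.card = e := by exact_mod_cast (show (X.card : ℤ) = e by linarith)
    have hall : ∀ χ ∈ X, a χ = 1 ∨ a χ = -1 := by
      intro χ hχ
      have h0 : ∑ χ ∈ X, (a χ ^ 2 - 1) = 0 := by
        rw [Finset.sum_sub_distrib, Finset.sum_const, nsmul_one]; linarith
      have := (Finset.sum_eq_zero_iff_of_nonneg fun χ hχ => sub_nonneg.2 (hpos χ hχ)).1 h0 χ hχ
      exact sq_eq_one_iff.1 (sub_eq_zero.1 this)
    have hA1 : (d - δ) ^ 2 + ((Y.card : ℤ) - 1) * d ^ 2 = 1 := by linarith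
    have hd : d = 0 ∨ (d = δ ∧ Y.card = 2) := by
      rcases eq_or_ne d 0 with h | h
      · exact Or.inl h
      have hd1 : 1 ≤ d ^ 2 := Int.add_one_le_of_lt (pow_two_pos_of_ne_zero h)
      have h2 : (d - δ) ^ 2 = 0 := by nlinarith [sq_nonneg (d - δ)]
      have h3 : d = δ := sub_eq_zero.1 (pow_eq_zero_iff two_ne_zero |>.1 h2)
      refine Or.inr ⟨h3, ?_⟩
      rw [h2, h3, show δ ^ 2 = 1 by rcases hδ with rfl | rfl <;> norm_num] at hA1
      omega
    refine ⟨X, Y, a, δ - Y.card * d, ?_, hdisj, hB, hXe, ?_, fun χ hχ => ⟨hall χ hχ,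
      hdegX χ (a χ) (hXv χ hχ).2,
      fun y hy hy1 => (hXv χ hχ).2 ⟨y, hy⟩ fun h => hy1 (congrArg Subtype.val h)⟩, fun θ hθ => ?_, hagree,
      fun θ hθ g hg => ?_⟩
    · rcases hd with rfl | ⟨rfl, h2⟩
      · simpa using hδ
      · rw [h2]; omega
    · rw [show p - 1 = Y.card * e by omega, Nat.mul_div_cancel _ he0]
    · obtain ⟨ψ, hψ, rfl⟩ := hsurj θ hθ
      haveI := hab
      have h := degree_congr hP (ζ ψ) (w := ((p : ℤ) - 1) * d - δ * e) rfl (by
        rw [Finset.sum_congr rfl fun u hu => by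
            rw [hYv ψ hψ u (Finset.mem_erase.1 hu).1, map_add, map_mul, map_intCast, map_intCast],
          Finset.sum_add_distrib, Finset.sum_const, hcardE, nsmul_eq_mul, Nat.cast_pred (by omega),
          ← Finset.mul_sum, ← map_sum]
        have hsum : ∑ u ∈ Finset.univ.erase (1 : ↥(P : Subgroup G)), orbitSum ψ u = -(e : ℂ) := by
          simp only [orbitSum]
          rw [Finset.sum_comm, Finset.sum_congr rfl (g := fun _ => (-1 : ℂ)), Finset.sum_const,
            (horb ψ hψ).1, nsmul_eq_mul, mul_neg_one]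
          intro φ hφ
          have h0 := sum_apply_eq_zero (ψ := φ) (sameOrbit_one (sameOrbit_symm (Finset.mem_filter.1 hφ).2) hψ)
          rw [← Finset.add_sum_erase _ _ (Finset.mem_univ (1 : ↥(P : Subgroup G))), map_one, Units.val_one] at h0
          linear_combination h0
        rw [hsum, map_neg, map_natCast]
        push_cast
        ring)
      refine h.trans ?_
      rw [Int.modEq_iff_dvd]
      rcases hd with rfl | ⟨rfl, h2⟩
      · exact ⟨0, by ring⟩
      · refine ⟨0, ?_⟩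
        rw [h2] at hYc ⊢
        have : (p : ℤ) = 2 * e + 1 := by omega
        rw [this]
        push_cast
        ring
    · push_cast
      linear_combination -(hreg θ hθ g hg)
  · have hep1 : e + 1 = p := by omega
    set B0 := Finset.univ.filter (fun χ : IrrCharacter G => χ ∈ principalBlock M G) with hB0
    have hsame : ∀ ψ φ : ↥(P : Subgroup G) →* ℂˣ, ψ ≠ 1 → φ ≠ 1 → SameOrbit P φ ψ := by
      intro ψ φ hψ hφ
      have h := Finset.eq_of_subset_of_card_le (horb ψ hψ).2 (by rw [hnt, (horb ψ hψ).1]; omega)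
      have hmem : φ ∈ Finset.univ.filter (fun φ : ↥(P : Subgroup G) →* ℂˣ => φ ≠ 1) := by simp [hφ]
      rw [← h] at hmem
      exact (Finset.mem_filter.1 hmem).2
    have hw : ∀ χ ∈ B0, ∀ ψ, ψ ≠ 1 → mult P χ ψ = mult P χ ψ₀ := by
      intro χ hχ ψ hψ
      have g1 := gram hab hfree hM e he hψ hψ
      have g2 := gram hab hfree hM e he hψ₀ hψ₀
      have g3 := gram hab hfree hM e he hψ hψ₀
      rw [if_pos (hsame _ _ hψ hψ)] at g1
      rw [if_pos (hsame _ _ hψ₀ hψ₀)] at g2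
      rw [if_pos (hsame _ _ hψ₀ hψ)] at g3
      have h0 : ∑ χ ∈ B0, (mult P χ ψ - mult P χ ψ₀) ^ 2 = 0 := by
        rw [Finset.sum_congr rfl fun χ _ => show (mult P χ ψ - mult P χ ψ₀) ^ 2 =
          mult P χ ψ * mult P χ ψ + mult P χ ψ₀ * mult P χ ψ₀ - 2 * (mult P χ ψ * mult P χ ψ₀) by ring,
          Finset.sum_sub_distrib, Finset.sum_add_distrib, ← Finset.mul_sum, hB0, g1, g2, g3]
        ring
      exact sub_eq_zero.1 (pow_eq_zero_iff two_ne_zero |>.1
        ((Finset.sum_eq_zero_iff_of_nonneg fun χ _ => sq_nonneg _).1 h0 χ hχ))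
    set a : IrrCharacter G → ℤ := fun χ => -mult P χ ψ₀ with ha
    have hval : ∀ χ ∈ B0, ∀ y : ↥(P : Subgroup G), y ≠ 1 → (χ : G → ℂ) y = (a χ : ℂ) := by
      intro χ hχ y hy
      rw [apply_eq_sum_mult hab χ hy, ← Finset.sum_filter_add_sum_filter_not Finset.univ (fun ψ => ψ ≠ 1),
        Finset.sum_eq_zero (s := Finset.univ.filter fun ψ : ↥(P : Subgroup G) →* ℂˣ => ¬ ψ ≠ 1) (fun ψ hψ => by
          rw [Finset.mem_filter, not_not] at hψ
          rw [hψ.2, mult_trivial, Int.cast_zero, zero_mul]), add_zero,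
        Finset.sum_congr rfl fun ψ hψ => by rw [hw χ hχ ψ (Finset.mem_filter.1 hψ).2],
        ← Finset.mul_sum, sum_nontrivial hab hy, ha]
      push_cast
      ring
    have hone : oneChar G ∈ B0 := by simp [hB0, oneChar_mem hM]
    have ha1 : a (oneChar G) = 1 := by rw [ha]; simp [mult_oneChar hab hψ₀]
    have hne : ∀ χ ∈ B0, 1 ≤ a χ ^ 2 := by
      intro χ hχ
      refine Int.add_one_le_of_lt (pow_two_pos_of_ne_zero fun h0 => ?_)
      obtain ⟨ψ, hψ⟩ := exists_mult_ne_zero hab hfree hM (by omega : Nat.card (P : Subgroup G) ≠ 1)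
        ((Finset.mem_filter.1 hχ).2)
      have hψ1 : ψ ≠ 1 := fun h => hψ (h ▸ mult_trivial χ)
      rw [hw χ hχ ψ hψ1] at hψ
      exact hψ (neg_eq_zero.1 h0)
    have hnorm : ∑ χ ∈ B0, a χ ^ 2 = (e : ℤ) + 1 := by
      have g2 := gram hab hfree hM e he hψ₀ hψ₀
      rw [if_pos (hsame _ _ hψ₀ hψ₀)] at g2
      rw [← g2]
      exact Finset.sum_congr rfl fun χ _ => by rw [ha]; ring
    have hrel : ∀ g : G, ¬ p ∣ orderOf g → ∑ χ ∈ B0, (a χ : ℂ) * (χ : G → ℂ) g = 0 := by
      intro g hg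
      have h := sum_mult_mul_regular hab hfree hM (ψ := ψ₀) hg
      simp only [ha, Int.cast_neg, neg_mul, Finset.sum_neg_distrib, neg_eq_zero]
      exact h
    have hlt := (index_le_card hP hM e he B0 ∅ a 0 (fun χ hχ => Or.inl (by simp [hB0, hχ])) hone ha1
      (by simp) (by simp) (fun _ => hrel)).2 rfl
    have hsum : (B0.card : ℤ) ≤ ∑ χ ∈ B0, a χ ^ 2 := by
      rw [Finset.card_eq_sum_ones, Nat.cast_sum]
      exact Finset.sum_le_sum fun χ hχ => by simpa using hne χ hχ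
    have hlt' : (e : ℤ) + 1 ≤ B0.card := by exact_mod_cast hlt
    have hBc : B0.card = e + 1 := by exact_mod_cast (show (B0.card : ℤ) = e + 1 by linarith)
    have hall : ∀ χ ∈ B0, a χ = 1 ∨ a χ = -1 := by
      intro χ hχ
      have h0 : ∑ χ ∈ B0, (a χ ^ 2 - 1) = 0 := by
        rw [Finset.sum_sub_distrib, Finset.sum_const, nsmul_one]; linarith
      exact sq_eq_one_iff.1 (sub_eq_zero.1
        ((Finset.sum_eq_zero_iff_of_nonneg fun χ hχ => sub_nonneg.2 (hne χ hχ)).1 h0 χ hχ))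
    obtain ⟨η, hη, hηne⟩ := Finset.exists_mem_ne (show 1 < B0.card by omega) (oneChar G)
    refine ⟨B0.erase η, {η}, a, -a η, ?_, by simp, fun χ => ?_, ?_, ?_, fun χ hχ => ?_, fun θ hθ => ?_,
      fun θ hθ θ' hθ' g _ => by rw [Finset.mem_singleton.1 hθ, Finset.mem_singleton.1 hθ'], fun θ hθ g hg => ?_⟩
    · rcases hall η hη with h | h <;> rw [h] <;> simp
    · rcases eq_or_ne χ η with rfl | h
      · simpa [hB0] using hη
      · simp [hB0, h]
    · rw [Finset.card_erase_of_mem hη, hBc]; omega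
    · rw [Finset.card_singleton, show p - 1 = e by omega, Nat.div_self he0]
    · have hχ' := (Finset.mem_erase.1 hχ).2
      exact ⟨hall χ hχ', hdegX χ (a χ) (hval χ hχ'),
        fun y hy hy1 => hval χ hχ' ⟨y, hy⟩ fun h => hy1 (congrArg Subtype.val h)⟩
    · rw [Finset.mem_singleton.1 hθ]
      refine (hdegX η (a η) (hval η hη)).trans ?_
      rw [Int.modEq_iff_dvd]
      refine ⟨-a η, ?_⟩
      rw [← hep1]
      push_cast
      ring
    · rw [Finset.mem_singleton.1 hθ]
      have h := hrel g hg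
      rw [← Finset.add_sum_erase _ _ hη] at h
      push_cast
      linear_combination -h

end Cfsg.Agent.BlockPrime86
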