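import Mathlib
import Cfsg.Agent.Lib.BlockTheoryLocalRing

/-!
Elementary tools for modular representations: reduction, Schur's lemma, density, free orbits.
-/

set_option autoImplicit false

namespace Cfsg.Agent.BlockPrime86

open Cfsg Cfsg.Agent.BlockTheoryLocalRing

attribute [local instance] Classical.propDecidable

section Residue

variable {p : ℕ} {M : Ideal AlgInt}

/-- The reduction of the local ring into an algebraically closed field of characteristic `p`. -/
theorem exists_residue (hM : IsPModular p M) :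
    ∃ (k : Type) (_ : Field k), IsAlgClosed k ∧ CharP k p ∧
      ∃ red : localRing hM →+* k, ∀ z : localRing hM, MemLocalIdeal M (z : ℂ) → red z = 0 := by
  haveI := hM.2.1
  letI : Field (AlgInt ⧸ M) := Ideal.Quotient.field M
  set π : AlgInt →+* AlgebraicClosure (AlgInt ⧸ M) :=
    (algebraMap (AlgInt ⧸ M) (AlgebraicClosure (AlgInt ⧸ M))).comp (Ideal.Quotient.mk M) with hπdef
  have hπ : ∀ a, π a = 0 ↔ a ∈ M := fun a => by
    rw [hπdef, RingHom.comp_apply, map_eq_zero, Ideal.Quotient.eq_zero_iff_mem]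
  have hchar : CharP (AlgebraicClosure (AlgInt ⧸ M)) p :=
    (CharP.charP_iff_prime_eq_zero hM.1).2 (by rw [← map_natCast π, hπ]; exact hM.2.2)
  have hex : ∀ z : localRing hM, ∃ ab : AlgInt × AlgInt, ab.2 ∉ M ∧ (ab.1 : ℂ) / (ab.2 : ℂ) = z := by
    rintro ⟨z, a, b, hb, hz⟩
    exact ⟨(a, b), hb, hz⟩
  choose ab hb hab using hex
  set f : localRing hM → AlgebraicClosure (AlgInt ⧸ M) := fun z => π (ab z).1 / π (ab z).2 with hf
  have key : ∀ (z : localRing hM) (a b : AlgInt), b ∉ M → (a : ℂ) / (b : ℂ) = z → f z = π a / π b := by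
    intro z a b h hz
    rw [hf]
    show π (ab z).1 / π (ab z).2 = π a / π b
    rw [div_eq_div_iff (fun e => hb z ((hπ _).1 e)) (fun e => h ((hπ _).1 e)), ← map_mul, ← map_mul]
    have e := (hab z).trans hz.symm
    rw [div_eq_div_iff (coe_ne_zero (hb z)) (coe_ne_zero h)] at e
    exact congrArg π (Subtype.ext (by push_cast; exact e))
  refine ⟨AlgebraicClosure (AlgInt ⧸ M), inferInstance, inferInstance, hchar,
    { toFun := f, map_one' := ?_, map_mul' := ?_, map_zero' := ?_, map_add' := ?_ }, ?_⟩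
  · rw [key 1 1 1 (one_notMem hM) (by simp), div_self (fun e => one_notMem hM ((hπ _).1 e))]
  · intro x y
    rw [key (x * y) ((ab x).1 * (ab y).1) ((ab x).2 * (ab y).2) (mul_notMem hM (hb x) (hb y))
      (by push_cast; rw [← div_mul_div_comm, hab, hab]), map_mul, map_mul, ← div_mul_div_comm]
  · show f 0 = 0
    rw [key 0 0 1 (one_notMem hM) (by simp), map_zero, zero_div]
  · intro x y
    rw [key (x + y) ((ab x).1 * (ab y).2 + (ab x).2 * (ab y).1) ((ab x).2 * (ab y).2)
      (mul_notMem hM (hb x) (hb y))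
      (by push_cast; rw [← div_add_div _ _ (coe_ne_zero (hb x)) (coe_ne_zero (hb y)), hab, hab]),
      map_add, map_mul, map_mul, map_mul,
      ← div_add_div _ _ (fun e => hb x ((hπ _).1 e)) (fun e => hb y ((hπ _).1 e))]
  · rintro z ⟨a, b, ha, h, hz⟩
    show f z = 0
    rw [key z a b h hz, (hπ a).2 ha, zero_div]

end Residue

section Orbits

variable {k : Type*} [Semiring k] {Q α W : Type*} [Group Q] [Fintype Q] [MulAction Q α]
  [AddCommMonoid W] [Module k W]

/-- An equivariant sum over free orbits is a trace. -/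
theorem sum_free (s : Finset α) (hs : ∀ (x : Q) a, a ∈ s → x • a ∈ s)
    (hfree : ∀ (x : Q) a, a ∈ s → x • a = a → x = 1) (ρ : Q →* Module.End k W) (F : α → W)
    (hF : ∀ (x : Q) a, a ∈ s → F (x • a) = ρ x (F a)) :
    ∃ w, ∑ a ∈ s, F a = (∑ x, ρ x) w := by
  classical
  set r : α → α := fun a => (Quotient.mk (MulAction.orbitRel Q α) a).out with hr
  have hrel : ∀ a, ∃ x : Q, x • a = r a := fun a =>
    MulAction.mem_orbit_iff.1 (MulAction.orbitRel_apply.1 (Quotient.mk_out (s := MulAction.orbitRel Q α) a))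
  have hinv : ∀ (x : Q) a, r (x • a) = r a := fun x a => by
    rw [hr]
    exact congrArg Quotient.out (Quotient.sound (MulAction.orbitRel_apply.2 (MulAction.mem_orbit a x)))
  refine ⟨∑ a ∈ s, if r a = a then F a else 0, ?_⟩
  rw [LinearMap.sum_apply]
  symm
  calc ∑ x, ρ x (∑ a ∈ s, if r a = a then F a else 0)
      = ∑ x, ∑ a ∈ s, if r a = x⁻¹ • a then F a else 0 := by
        refine Finset.sum_congr rfl fun x _ => ?_
        rw [map_sum]
        refine Finset.sum_bij' (fun a _ => x • a) (fun a _ => x⁻¹ • a) (fun a ha => hs x a ha)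
          (fun a ha => hs x⁻¹ a ha) (fun a _ => inv_smul_smul x a) (fun a _ => smul_inv_smul x a) ?_
        intro a ha
        rw [hinv, inv_smul_smul]
        split_ifs
        · rw [hF x a ha]
        · rw [map_zero]
    _ = ∑ a ∈ s, F a := by
        rw [Finset.sum_comm]
        refine Finset.sum_congr rfl fun a ha => ?_
        obtain ⟨y, hy⟩ := hrel a
        rw [Finset.sum_eq_single y⁻¹]
        · rw [inv_inv, if_pos hy.symm]
        · intro x _ hx
          rw [if_neg]
          intro h
          refine hx ?_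
          have h2 : (x * y) • a = a := by rw [mul_smul, hy, h, smul_inv_smul]
          exact eq_inv_of_mul_eq_one_left (hfree (x * y) a ha h2)
        · simp

/-- An invariant scalar sum over free orbits vanishes in characteristic dividing the group order. -/
theorem sum_free_eq_zero {R : Type*} [Semiring R] (s : Finset α) (hs : ∀ (x : Q) a, a ∈ s → x • a ∈ s)
    (hfree : ∀ (x : Q) a, a ∈ s → x • a = a → x = 1) (F : α → R)
    (hF : ∀ (x : Q) a, a ∈ s → F (x • a) = F a) (h0 : (Fintype.card Q : R) = 0) :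
    ∑ a ∈ s, F a = 0 := by
  obtain ⟨w, hw⟩ := sum_free (k := R) s hs hfree (1 : Q →* Module.End R R) F hF
  rw [hw]
  simp [LinearMap.sum_apply, h0]

end Orbits

section Irreducible

variable {k : Type*} [Field k] {G : Type*} [Group G]

/-- Irreducibility of a representation. -/
def Irred {V : Type*} [AddCommGroup V] [Module k V] (ρ : G →* Module.End k V) : Prop :=
  Nontrivial V ∧ ∀ U : Submodule k V, (∀ g, ∀ x ∈ U, ρ g x ∈ U) → U = ⊥ ∨ U = ⊤

theorem schur [IsAlgClosed k] {V : Type*} [AddCommGroup V] [Module k V] [FiniteDimensional k V]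
    {ρ : G →* Module.End k V} (hρ : Irred ρ) (f : Module.End k V)
    (hf : ∀ g x, f (ρ g x) = ρ g (f x)) : ∃ c : k, ∀ x, f x = c • x := by
  haveI := hρ.1
  obtain ⟨c, hc⟩ := Module.End.exists_eigenvalue f
  refine ⟨c, fun x => ?_⟩
  rcases hρ.2 (Module.End.eigenspace f c) (fun g y hy => by
    rw [Module.End.mem_eigenspace_iff] at hy ⊢
    rw [hf, hy, map_smul]) with h | h
  · exact absurd h hc
  · exact Module.End.mem_eigenspace_iff.1 (h ▸ Submodule.mem_top)

theorem bijective_of_ne_zero {V W : Type*} [AddCommGroup V] [Module k V] [AddCommGroup W] [Module k W]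
    {ρ : G →* Module.End k V} {σ : G →* Module.End k W} (hρ : Irred ρ) (hσ : Irred σ)
    (f : V →ₗ[k] W) (hf : ∀ g x, f (ρ g x) = σ g (f x)) (h0 : f ≠ 0) : Function.Bijective f := by
  constructor
  · rcases hρ.2 (LinearMap.ker f) (fun g x hx => by
      rw [LinearMap.mem_ker] at hx ⊢
      rw [hf, hx, map_zero]) with h | h
    · exact LinearMap.ker_eq_bot.1 h
    · exact absurd (LinearMap.ker_eq_top.1 h) h0
  · rcases hσ.2 (LinearMap.range f) (fun g x hx => by
      obtain ⟨y, rfl⟩ := hx
      exact ⟨ρ g y, hf g y⟩) with h | h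
    · exact absurd (LinearMap.range_eq_bot.1 h) h0
    · exact LinearMap.range_eq_top.1 h

variable [IsAlgClosed k] [Fintype G] {ι : Type*} [Fintype ι] (V : ι → Type*)
  [∀ i, AddCommGroup (V i)] [∀ i, Module k (V i)] [∀ i, FiniteDimensional k (V i)]
  (ρ : ∀ i, G →* Module.End k (V i))

/-- Density for pairwise non-isomorphic irreducible representations. -/
theorem exists_combination (hirr : ∀ i, Irred (ρ i))
    (hdis : ∀ i j, i ≠ j → ∀ f : V i →ₗ[k] V j, (∀ g x, f (ρ i g x) = ρ j g (f x)) → f = 0)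
    (w : (q : Σ i, Fin (Module.finrank k (V i))) → V q.1) :
    ∃ c : G → k, ∀ q : Σ i, Fin (Module.finrank k (V i)),
      ∑ g, c g • ρ q.1 g (Module.finBasis k (V q.1) q.2) = w q := by
  classical
  set b : ∀ i, Module.Basis (Fin (Module.finrank k (V i))) k (V i) := fun i => Module.finBasis k (V i) with hb
  let J := Σ i, Fin (Module.finrank k (V i))
  let Φ : (G → k) →ₗ[k] ((q : J) → V q.1) :=
    { toFun := fun c q => ∑ g, c g • ρ q.1 g (b q.1 q.2)
      map_add' := fun c d => funext fun q => by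
        show _ = ∑ g, c g • ρ q.1 g (b q.1 q.2) + ∑ g, d g • ρ q.1 g (b q.1 q.2)
        rw [← Finset.sum_add_distrib]
        exact Finset.sum_congr rfl fun g _ => add_smul _ _ _
      map_smul' := fun a c => funext fun q => by
        show _ = a • ∑ g, c g • ρ q.1 g (b q.1 q.2)
        rw [Finset.smul_sum]
        exact Finset.sum_congr rfl fun g _ => mul_smul _ _ _ }
  set U := LinearMap.range Φ with hU
  suffices hUtop : U = ⊤ by
    obtain ⟨c, hc⟩ : w ∈ U := hUtop ▸ Submodule.mem_top
    exact ⟨c, fun q => congrFun hc q⟩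
  let act : G → ((q : J) → V q.1) → ((q : J) → V q.1) := fun g x q => ρ q.1 g (x q)
  have hUinv : ∀ g, ∀ x ∈ U, act g x ∈ U := by
    rintro g _ ⟨c, rfl⟩
    refine ⟨fun h => c (g⁻¹ * h), funext fun q => ?_⟩
    show ∑ h, c (g⁻¹ * h) • ρ q.1 h (b q.1 q.2) = ρ q.1 g (∑ h, c h • ρ q.1 h (b q.1 q.2))
    rw [map_sum]
    refine (Fintype.sum_equiv (Equiv.mulLeft g) _ _ fun h => ?_).symm
    rw [map_smul, Equiv.coe_mulLeft, inv_mul_cancel_left, map_mul, Module.End.mul_apply]
  let WS : Finset J → Submodule k ((q : J) → V q.1) := fun S =>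
    { carrier := {x | ∀ q ∉ S, x q = 0}
      add_mem' := fun hx hy q hq => by rw [Pi.add_apply, hx q hq, hy q hq, add_zero]
      zero_mem' := fun q _ => rfl
      smul_mem' := fun a x hx q hq => by rw [Pi.smul_apply, hx q hq, smul_zero] }
  obtain ⟨S, hS, hSmax⟩ := Finset.exists_max_image
    (Finset.univ.filter fun S : Finset J => U ⊓ WS S = ⊥) Finset.card
    ⟨∅, by
      simp only [Finset.mem_filter, Finset.mem_univ, true_and]
      rw [Submodule.eq_bot_iff]
      exact fun x hx => funext fun q => hx.2 q (Finset.notMem_empty q)⟩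
  simp only [Finset.mem_filter, Finset.mem_univ, true_and] at hS hSmax
  have hsingle : ∀ q x, Pi.single q x ∈ U ⊔ WS S := by
    intro q x
    by_cases hq : q ∈ S
    · exact Submodule.mem_sup_right fun q' hq' => Pi.single_eq_of_ne (fun e : q' = q => hq' (by rwa [e])) _
    · let L : Submodule k (V q.1) := (U ⊔ WS S).comap (LinearMap.single k (fun q : J => V q.1) q)
      have hLinv : ∀ g, ∀ y ∈ L, ρ q.1 g y ∈ L := by
        intro g y hy
        obtain ⟨u, hu, s, hs, e⟩ := Submodule.mem_sup.1 hy
        refine Submodule.mem_sup.2 ⟨act g u, hUinv g u hu, act g s, fun q' hq' => ?_, ?_⟩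
        · show ρ q'.1 g (s q') = 0
          rw [hs q' hq', map_zero]
        · funext q'
          show ρ q'.1 g (u q') + ρ q'.1 g (s q') = (Pi.single q (ρ q.1 g y) : (q : J) → V q.1) q'
          rw [← map_add, ← Pi.add_apply, e]
          show ρ q'.1 g ((Pi.single q y : (q : J) → V q.1) q') = _
          rcases eq_or_ne q' q with rfl | hne
          · rw [Pi.single_eq_same, Pi.single_eq_same]
          · rw [Pi.single_eq_of_ne hne, Pi.single_eq_of_ne hne, map_zero]
      have hne : U ⊓ WS (insert q S) ≠ ⊥ := by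
        intro h
        have := hSmax _ h
        rw [Finset.card_insert_of_notMem hq] at this
        omega
      obtain ⟨u, hu, hu0⟩ := Submodule.exists_mem_ne_zero_of_ne_bot hne
      have huq : u q ≠ 0 := by
        intro h0
        refine hu0 (Submodule.eq_bot_iff _ |>.1 hS u ⟨hu.1, fun q' hq' => ?_⟩)
        rcases eq_or_ne q' q with rfl | hne'
        · exact h0
        · exact hu.2 q' (by simp [hne', hq'])
      have hmem : u q ∈ L := by
        show Pi.single q (u q) ∈ U ⊔ WS S
        have e : Pi.single q (u q) = u + (Pi.single q (u q) - u) := by abel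
        rw [e]
        refine Submodule.add_mem_sup hu.1 fun q' hq' => ?_
        rcases eq_or_ne q' q with rfl | hne'
        · rw [Pi.sub_apply, Pi.single_eq_same, sub_self]
        · rw [Pi.sub_apply, Pi.single_eq_of_ne hne', hu.2 q' (by simp [hne', hq']), sub_zero]
      rcases (hirr q.1).2 L hLinv with h | h
      · rw [h] at hmem; exact absurd ((Submodule.mem_bot k).1 hmem) huq
      · exact (h ▸ Submodule.mem_top : x ∈ L)
  have hsup : U ⊔ WS S = ⊤ := by
    rw [eq_top_iff]
    intro x _
    rw [← Finset.univ_sum_single x]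
    exact Submodule.sum_mem _ fun q _ => hsingle q (x q)
  rcases S.eq_empty_or_nonempty with hSe | ⟨q₀, hq₀⟩
  · have hb0 : WS S = ⊥ := by
      rw [Submodule.eq_bot_iff, hSe]
      exact fun x hx => funext fun q => hx q (Finset.notMem_empty q)
    rwa [hb0, sup_bot_eq] at hsup
  exfalso
  have hc : IsCompl (WS S) U := ⟨disjoint_iff.2 (by rw [inf_comm]; exact hS), codisjoint_iff.2 (by rw [sup_comm]; exact hsup)⟩
  let F : ((q : J) → V q.1) →ₗ[k] V q₀.1 :=
    (LinearMap.proj q₀).comp ((WS S).subtype.comp ((WS S).projectionOnto U hc))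
  have hFU : ∀ u ∈ U, F u = 0 := by
    intro u hu
    show ((((WS S).projectionOnto U hc) u : (q : J) → V q.1)) q₀ = 0
    rw [Submodule.projectionOnto_apply_of_mem_right hc hu]
    rfl
  have hFS : ∀ s ∈ WS S, F s = s q₀ := by
    intro s hs
    show ((((WS S).projectionOnto U hc) s : (q : J) → V q.1)) q₀ = s q₀
    exact congrFun (congrArg Subtype.val (Submodule.projectionOnto_apply_left hc ⟨s, hs⟩)) q₀
  have hFeq : ∀ g x, F (act g x) = ρ q₀.1 g (F x) := by
    intro g x
    obtain ⟨u, hu, s, hs, rfl⟩ := Submodule.mem_sup.1 (show x ∈ U ⊔ WS S from hsup ▸ Submodule.mem_top)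
    have e : act g (u + s) = act g u + act g s := funext fun q => by
      show ρ q.1 g (u q + s q) = _
      rw [map_add]
      rfl
    rw [e, map_add, map_add, hFU u hu, hFU _ (hUinv g u hu), hFS s hs,
      hFS (act g s) (fun q hq => by show ρ q.1 g (s q) = 0; rw [hs q hq, map_zero]), zero_add, zero_add]
  have hw0 : (fun q : J => b q.1 q.2) ∈ U := by
    refine ⟨Pi.single 1 1, funext fun q => ?_⟩
    show ∑ g, (Pi.single 1 1 : G → k) g • ρ q.1 g (b q.1 q.2) = b q.1 q.2
    rw [Finset.sum_eq_single 1] <;> simp +contextual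
  have hcomp : ∀ q : J, ∀ g x, (F.comp (LinearMap.single k (fun q : J => V q.1) q)) (ρ q.1 g x) =
      ρ q₀.1 g ((F.comp (LinearMap.single k (fun q : J => V q.1) q)) x) := by
    intro q g x
    show F (Pi.single q (ρ q.1 g x)) = ρ q₀.1 g (F (Pi.single q x))
    rw [← hFeq]
    congr 1
    funext q'
    show _ = ρ q'.1 g ((Pi.single q x : (q : J) → V q.1) q')
    rcases eq_or_ne q' q with rfl | hne
    · rw [Pi.single_eq_same, Pi.single_eq_same]
    · rw [Pi.single_eq_of_ne hne, Pi.single_eq_of_ne hne, map_zero]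
  choose c hc' using fun l : Fin (Module.finrank k (V q₀.1)) =>
    schur (hirr q₀.1) (F.comp (LinearMap.single k (fun q : J => V q.1) ⟨q₀.1, l⟩)) (hcomp ⟨q₀.1, l⟩)
  have h0 := hFU _ hw0
  rw [← Finset.univ_sum_single (fun q : J => b q.1 q.2), map_sum, Fintype.sum_sigma,
    Finset.sum_eq_single q₀.1 (fun i _ hi => Finset.sum_eq_zero fun l _ =>
      show F (Pi.single (⟨i, l⟩ : J) (b i l)) = 0 from
        LinearMap.congr_fun (hdis i q₀.1 hi _ (hcomp ⟨i, l⟩)) (b i l))
      (fun h => absurd (Finset.mem_univ _) h)] at h0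
  replace h0 : ∑ l, c l • b q₀.1 l = 0 :=
    (Finset.sum_congr rfl fun l _ => (hc' l _).symm).trans h0
  have hzero := Fintype.linearIndependent_iff.1 (b q₀.1).linearIndependent c h0 q₀.2
  have h1 : c q₀.2 • b q₀.1 q₀.2 = b q₀.1 q₀.2 := by
    rw [← hc' q₀.2]
    show F (Pi.single q₀ (b q₀.1 q₀.2)) = _
    rw [hFS _ (fun q hq => Pi.single_eq_of_ne (fun e : q = q₀ => hq (by rwa [e])) _), Pi.single_eq_same]
  rw [hzero, zero_smul] at h1
  exact (b q₀.1).ne_zero q₀.2 h1.symm

/-- Trace functions of pairwise non-isomorphic irreducible representations are independent. -/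
theorem trace_independent (hirr : ∀ i, Irred (ρ i))
    (hdis : ∀ i j, i ≠ j → ∀ f : V i →ₗ[k] V j, (∀ g x, f (ρ i g x) = ρ j g (f x)) → f = 0)
    (a : ι → k) (ha : ∀ g, ∑ i, a i * LinearMap.trace k (V i) (ρ i g) = 0) : a = 0 := by
  classical
  funext j
  haveI := (hirr j).1
  let l₀ : Fin (Module.finrank k (V j)) := ⟨0, Module.finrank_pos⟩
  obtain ⟨c, hc⟩ := exists_combination V ρ hirr hdis
    (fun q => if q = ⟨j, l₀⟩ then Module.finBasis k (V q.1) q.2 else 0)
  have htr : ∀ i, ∑ g, c g * LinearMap.trace k (V i) (ρ i g) = if i = j then 1 else 0 := by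
    intro i
    simp only [← smul_eq_mul, ← map_smul, ← map_sum]
    rw [LinearMap.trace_eq_matrix_trace k (Module.finBasis k (V i)), Matrix.trace]
    simp only [Matrix.diag, LinearMap.toMatrix_apply, LinearMap.sum_apply, LinearMap.smul_apply]
    rw [Finset.sum_congr rfl fun l _ => by rw [hc ⟨i, l⟩]]
    split_ifs with h
    · subst h
      rw [Finset.sum_eq_single l₀ (fun l _ hl => ?_) (fun h => absurd (Finset.mem_univ _) h)]
      · simp
      · rw [if_neg fun e => hl (by simpa using e)]; simp
    · refine Finset.sum_eq_zero fun l _ => ?_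
      rw [if_neg fun e => h (congrArg Sigma.fst e)]; simp
  have := Finset.sum_eq_zero (s := Finset.univ) fun g _ =>
    show c g * ∑ i, a i * LinearMap.trace k (V i) (ρ i g) = 0 by rw [ha g, mul_zero]
  simp only [Finset.mul_sum] at this
  rw [Finset.sum_comm] at this
  simp only [mul_left_comm _ (a _), ← Finset.mul_sum, htr, mul_ite, mul_one, mul_zero,
    Finset.sum_ite_eq', Finset.mem_univ, if_true] at this
  exact this

end Irreducible

end Cfsg.Agent.BlockPrime86
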