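import Cfsg.Agent.Lib.BlockAbelianSylowMain86
import Cfsg.Agent.Lib.BlockPrimeTools86

/-!
Irreducible modular representations and the eigenlines of `N(P)` on `P`-fixed vectors modulo traces,
for a Sylow subgroup `P` of prime order.
-/

set_option autoImplicit false

namespace Cfsg.Agent.BlockPrime86

open Cfsg Cfsg.Agent.BlockAbelianSylow86

attribute [local instance] Classical.propDecidable

universe u

variable {k : Type} [Field k] {G : Type u} [Group G] [Fintype G] {p : ℕ} [Fact p.Prime]
  (P : Sylow p G) [Fintype ↥(P : Subgroup G)]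

/-- The sum of the elements of `P` in a representation. -/
noncomputable def traceOp {V : Type*} [AddCommGroup V] [Module k V] (ρ : G →* Module.End k V) :
    Module.End k V := ∑ x : ↥(P : Subgroup G), ρ (x : G)

/-- An eigenvector of the normalizer which is not a trace. -/
def IsBad {V : Type*} [AddCommGroup V] [Module k V] (ρ : G →* Module.End k V)
    (lam : ↥(Subgroup.normalizer ((P : Subgroup G) : Set G)) →* kˣ) (v : V) : Prop :=
  (∀ n : ↥(Subgroup.normalizer ((P : Subgroup G) : Set G)), ρ (n : G) v = (lam n : k) • v) ∧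
    v ∉ LinearMap.range (traceOp P ρ)

variable {P}

theorem comm_P (hP : Nat.card (P : Subgroup G) = p) : IsMulCommutative (P : Subgroup G) := by
  haveI := isCyclic_of_prime_card hP
  exact ⟨⟨fun a b => (IsCyclic.commGroup (α := ↥(P : Subgroup G))).mul_comm a b⟩⟩

theorem exists_generator_P (hP : Nat.card (P : Subgroup G) = p) :
    ∃ σ : G, σ ∈ (P : Subgroup G) ∧ σ ≠ 1 ∧ ∀ x ∈ (P : Subgroup G), ∃ i : ℕ, x = σ ^ i := by
  haveI : Nontrivial ↥(P : Subgroup G) :=
    Finite.one_lt_card_iff_nontrivial.1 (by rw [hP]; exact (Fact.out : p.Prime).one_lt)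
  obtain ⟨s, hs⟩ := exists_ne (1 : ↥(P : Subgroup G))
  refine ⟨s, s.2, fun h => hs (Subtype.ext h), fun x hx => ?_⟩
  have : (⟨x, hx⟩ : ↥(P : Subgroup G)) ∈ Subgroup.zpowers s := by
    rw [zpowers_eq_top_of_prime_card hP hs]; trivial
  obtain ⟨i, hi⟩ := mem_powers_iff_mem_zpowers.2 this
  exact ⟨i, (congrArg Subtype.val hi).symm⟩

variable (P) in
/-- `P` as a subgroup of its normalizer. -/
abbrev PN : Subgroup ↥(Subgroup.normalizer ((P : Subgroup G) : Set G)) :=
  (P : Subgroup G).subgroupOf (Subgroup.normalizer ((P : Subgroup G) : Set G))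

theorem PN_le_kerN (hP : Nat.card (P : Subgroup G) = p) : PN P ≤ kerN P := by
  intro n hn
  rw [Subgroup.mem_subgroupOf] at hn ⊢
  haveI := comm_P hP
  exact Subgroup.mem_centralizer_iff.2 fun z hz =>
    congrArg Subtype.val (mul_comm' (⟨z, hz⟩ : (P : Subgroup G)) ⟨n, hn⟩)

instance PN_normal : (PN P).Normal :=
  ⟨fun x hx n => by
    rw [Subgroup.mem_subgroupOf] at hx ⊢
    exact (Subgroup.mem_normalizer_iff.1 n.2 _).1 hx⟩

variable (hP : Nat.card (P : Subgroup G) = p) [CharP k p]
  (lam : ↥(Subgroup.normalizer ((P : Subgroup G) : Set G)) →* kˣ) (hlam : kerN P ≤ lam.ker)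

theorem card_ne_zero : (Nat.card (↥(Subgroup.normalizer ((P : Subgroup G) : Set G)) ⧸ PN P) : k) ≠ 0 := by
  rw [Ne, CharP.cast_eq_zero_iff k p]
  exact fun h => P.not_dvd_index (h.trans (Subgroup.relIndex_dvd_index_of_le Subgroup.le_normalizer))

section Avg

variable {V : Type*} [AddCommGroup V] [Module k V] (ρ : G →* Module.End k V)

/-- The projection to the eigenspace of the normalizer. -/
noncomputable def avgOp [Fintype (↥(Subgroup.normalizer ((P : Subgroup G) : Set G)) ⧸ PN P)] :
    Module.End k V :=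
  ∑ q : ↥(Subgroup.normalizer ((P : Subgroup G) : Set G)) ⧸ PN P,
    (lam q.out : k)⁻¹ • ρ (q.out : G)

variable [Fintype (↥(Subgroup.normalizer ((P : Subgroup G) : Set G)) ⧸ PN P)]

include hP hlam in
theorem rep_eq {z : V} (hz : ∀ x ∈ (P : Subgroup G), ρ x z = z)
    {a b : ↥(Subgroup.normalizer ((P : Subgroup G) : Set G))} (h : a⁻¹ * b ∈ PN P) :
    lam a = lam b ∧ ρ (a : G) z = ρ (b : G) z := by
  refine ⟨?_, ?_⟩
  · have h1 := hlam (PN_le_kerN hP h)
    rwa [MonoidHom.mem_ker, map_mul, map_inv, inv_mul_eq_one] at h1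
  · rw [Subgroup.mem_subgroupOf] at h
    conv_rhs => rw [show (b : G) = (a : G) * ((a⁻¹ * b : ↥(Subgroup.normalizer _)) : G) by simp,
      map_mul, Module.End.mul_apply, hz _ h]

include hP hlam in
theorem avg_left {z : V} (hz : ∀ x ∈ (P : Subgroup G), ρ x z = z)
    (n : ↥(Subgroup.normalizer ((P : Subgroup G) : Set G))) :
    ρ (n : G) (avgOp lam ρ z) = (lam n : k) • avgOp lam ρ z := by
  simp only [avgOp, LinearMap.sum_apply, LinearMap.smul_apply, map_sum, map_smul, Finset.smul_sum]
  refine Fintype.sum_equiv (Equiv.mulLeft (n : _ ⧸ PN P)) _ _ fun q => ?_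
  obtain ⟨h1, h2⟩ := rep_eq hP lam hlam ρ hz (a := n * q.out) (b := ((n : _ ⧸ PN P) * q).out) (by
    rw [← QuotientGroup.eq, QuotientGroup.mk_mul, QuotientGroup.out_eq', QuotientGroup.out_eq'])
  rw [Equiv.coe_mulLeft, ← h1, ← h2, map_mul lam, Units.val_mul, Subgroup.coe_mul, map_mul ρ,
    Module.End.mul_apply, smul_smul]
  congr 1
  rw [mul_inv, mul_inv_cancel_left₀ (lam n).ne_zero]

include hP hlam in
theorem avg_right {z : V} (hz : ∀ x ∈ (P : Subgroup G), ρ x z = z)
    (n : ↥(Subgroup.normalizer ((P : Subgroup G) : Set G))) :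
    avgOp lam ρ (ρ (n : G) z) = (lam n : k) • avgOp lam ρ z := by
  simp only [avgOp, LinearMap.sum_apply, LinearMap.smul_apply, Finset.smul_sum]
  refine Fintype.sum_equiv (Equiv.mulRight (n : _ ⧸ PN P)) _ _ fun q => ?_
  obtain ⟨h1, h2⟩ := rep_eq hP lam hlam ρ hz (a := q.out * n) (b := (q * (n : _ ⧸ PN P)).out) (by
    rw [← QuotientGroup.eq, QuotientGroup.mk_mul, QuotientGroup.out_eq', QuotientGroup.out_eq'])
  rw [Equiv.coe_mulRight, ← h1, ← h2, map_mul lam, Units.val_mul, Subgroup.coe_mul, map_mul ρ,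
    Module.End.mul_apply, smul_smul]
  congr 1
  rw [mul_inv, ← mul_assoc, mul_comm (lam n : k), mul_assoc, mul_inv_cancel₀ (lam n).ne_zero, mul_one]

theorem avg_eigen {v : V} (hv : ∀ n : ↥(Subgroup.normalizer ((P : Subgroup G) : Set G)),
    ρ (n : G) v = (lam n : k) • v) :
    avgOp lam ρ v = (Nat.card (↥(Subgroup.normalizer ((P : Subgroup G) : Set G)) ⧸ PN P) : k) • v := by
  simp only [avgOp, LinearMap.sum_apply, LinearMap.smul_apply, hv, smul_smul,
    inv_mul_cancel₀ (Units.ne_zero _), one_smul, Finset.sum_const, Finset.card_univ,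
    Nat.card_eq_fintype_card]
  exact (Nat.cast_smul_eq_nsmul k _ v).symm

theorem traceOp_comm (n : ↥(Subgroup.normalizer ((P : Subgroup G) : Set G))) (w : V) :
    ρ (n : G) (traceOp P ρ w) = traceOp P ρ (ρ (n : G) w) := by
  simp only [traceOp, LinearMap.sum_apply, map_sum, ← Module.End.mul_apply, ← map_mul]
  refine Fintype.sum_equiv (conjP P n).toEquiv _ _ fun x => ?_
  congr 2
  show (n : G) * x = (n : G) * x * (n : G)⁻¹ * n
  rw [inv_mul_cancel_right]

theorem avg_traceOp (w : V) : avgOp lam ρ (traceOp P ρ w) = traceOp P ρ (avgOp lam ρ w) := by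
  simp only [avgOp, LinearMap.sum_apply, LinearMap.smul_apply, map_sum, map_smul, traceOp_comm]

theorem avg_mem {U : Submodule k V} (hU : ∀ n : ↥(Subgroup.normalizer ((P : Subgroup G) : Set G)),
    ∀ x ∈ U, ρ (n : G) x ∈ U) {x : V} (hx : x ∈ U) : avgOp lam ρ x ∈ U := by
  simp only [avgOp, LinearMap.sum_apply, LinearMap.smul_apply]
  exact U.sum_mem fun q _ => U.smul_mem _ (hU _ x hx)

omit [Fintype (↥(Subgroup.normalizer ((P : Subgroup G) : Set G)) ⧸ PN P)] in
include hP hlam in
theorem fixed_of_eigen {v : V} (hv : ∀ n : ↥(Subgroup.normalizer ((P : Subgroup G) : Set G)),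
    ρ (n : G) v = (lam n : k) • v) : ∀ x ∈ (P : Subgroup G), ρ x v = v := by
  intro x hx
  have h1 := hlam (PN_le_kerN hP (show (⟨x, Subgroup.le_normalizer hx⟩ : ↥(Subgroup.normalizer _)) ∈ PN P from hx))
  have h2 := hv ⟨x, Subgroup.le_normalizer hx⟩
  rw [MonoidHom.mem_ker.1 h1, Units.val_one, one_smul] at h2
  exact h2

end Avg

include hP hlam in
/-- Some irreducible representation has an eigenvector which is not a trace. -/
theorem exists_bad_irred : ∃ (V : Type u) (_ : AddCommGroup V) (_ : Module k V)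
    (_ : FiniteDimensional k V) (ρ : G →* Module.End k V), Irred ρ ∧ ∃ v, IsBad P ρ lam v := by
  by_contra hno
  haveI : Fintype (↥(Subgroup.normalizer ((P : Subgroup G) : Set G)) ⧸ PN P) := Fintype.ofFinite _
  have key : ∀ (d : ℕ) (V : Type u) [AddCommGroup V] [Module k V] [FiniteDimensional k V]
      (ρ : G →* Module.End k V), Module.finrank k V = d → ∀ v, ¬ IsBad P ρ lam v := by
    intro d
    induction d using Nat.strong_induction_on with
    | _ d IH =>
      intro V _ _ _ ρ hd v hv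
      have hv0 : v ≠ 0 := fun h => hv.2 (h ▸ Submodule.zero_mem _)
      by_cases hirr : Irred ρ
      · exact hno ⟨V, _, _, inferInstance, ρ, hirr, v, hv⟩
      obtain ⟨U, hU, hU0, hU1⟩ : ∃ U : Submodule k V, (∀ g, ∀ x ∈ U, ρ g x ∈ U) ∧ U ≠ ⊥ ∧ U ≠ ⊤ := by
        by_contra h
        push Not at h
        exact hirr ⟨⟨v, 0, hv0⟩, fun U hU => or_iff_not_imp_left.2 (h U hU)⟩
      let ρU : G →* Module.End k U :=
        { toFun := fun g => (ρ g).restrict (hU g)
          map_one' := LinearMap.ext fun x => Subtype.ext (by simp)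
          map_mul' := fun a b => LinearMap.ext fun x => Subtype.ext (by simp) }
      let ρQ : G →* Module.End k (V ⧸ U) :=
        { toFun := fun g => U.mapQ U (ρ g) (hU g)
          map_one' := Submodule.linearMap_qext _ (LinearMap.ext fun x => by simp)
          map_mul' := fun a b => Submodule.linearMap_qext _ (LinearMap.ext fun x => by simp) }
      have hdimU : Module.finrank k U < d := hd ▸ Submodule.finrank_lt hU1
      have hdimQ : Module.finrank k (V ⧸ U) < d := by
        have h1 := U.finrank_quotient_add_finrank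
        have h2 : 0 < Module.finrank k U := Nat.pos_of_ne_zero fun h => hU0 (Submodule.finrank_eq_zero.1 h)
        omega
      have hTQ : ∀ w, traceOp P ρQ (Submodule.Quotient.mk w) = Submodule.Quotient.mk (traceOp P ρ w) := by
        intro w
        simp only [traceOp, LinearMap.sum_apply]
        rw [← Submodule.mkQ_apply, ← Submodule.mkQ_apply, map_sum]
        rfl
      have h1 := IH _ hdimQ (V ⧸ U) ρQ rfl (Submodule.Quotient.mk v)
      simp only [IsBad, not_and, not_not] at h1
      obtain ⟨w, hw⟩ := h1 fun n => by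
        show Submodule.Quotient.mk (ρ (n : G) v) = _
        rw [hv.1 n, Submodule.Quotient.mk_smul]
      obtain ⟨w, rfl⟩ := Submodule.Quotient.mk_surjective U w
      rw [hTQ, Submodule.Quotient.eq] at hw
      have hvf := fixed_of_eigen hP lam hlam ρ hv.1
      have hTf : ∀ x ∈ (P : Subgroup G), ρ x (traceOp P ρ w) = traceOp P ρ w := by
        intro x hx
        simp only [traceOp, LinearMap.sum_apply, map_sum, ← Module.End.mul_apply, ← map_mul]
        exact Fintype.sum_equiv (Equiv.mulLeft (⟨x, hx⟩ : ↥(P : Subgroup G))) _ _ fun y => rfl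
      set z := avgOp lam ρ (traceOp P ρ w - v) with hz
      have hzU : z ∈ U := avg_mem lam ρ (fun n => hU (n : G)) hw
      have hzeig : ∀ n : ↥(Subgroup.normalizer ((P : Subgroup G) : Set G)), ρ (n : G) z = (lam n : k) • z :=
        avg_left hP lam hlam ρ fun x hx => by rw [map_sub, hTf x hx, hvf x hx]
      have h2 := IH _ hdimU U ρU rfl ⟨z, hzU⟩
      simp only [IsBad, not_and, not_not] at h2
      obtain ⟨u, hu⟩ := h2 fun n => Subtype.ext (hzeig n)
      have hu' : traceOp P ρ (u : V) = z := by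
        rw [show z = ((traceOp P ρU u : U) : V) from (congrArg Subtype.val hu).symm]
        simp only [traceOp, LinearMap.sum_apply, AddSubmonoidClass.coe_finset_sum]
        rfl
      have hc := card_ne_zero (P := P) (k := k)
      set c : k := (Nat.card (↥(Subgroup.normalizer ((P : Subgroup G) : Set G)) ⧸ PN P) : k)
      refine hv.2 ⟨c⁻¹ • (avgOp lam ρ w - (u : V)), ?_⟩
      rw [map_smul, map_sub, hu', hz, map_sub, ← avg_traceOp, sub_sub_cancel, avg_eigen lam ρ hv.1,
        smul_smul, inv_mul_cancel₀ hc, one_smul]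
  let M : Submodule k (G → k) :=
    { carrier := {f | ∀ (n : ↥(Subgroup.normalizer ((P : Subgroup G) : Set G))) (g : G),
        f ((n : G) * g) = (lam n : k) * f g}
      add_mem' := fun {f f'} hf hf' n g => by
        show f _ + f' _ = _ * (f g + f' g)
        rw [hf n g, hf' n g, mul_add]
      zero_mem' := fun n g => by show (0 : k) = _ * 0; rw [mul_zero]
      smul_mem' := fun a f hf n g => by
        show a * f _ = _ * (a * f g)
        rw [hf n g, mul_left_comm] }
  let ρ₀ : G →* Module.End k M :=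
    { toFun := fun h =>
        { toFun := fun f => ⟨fun g => (f : G → k) (g * h), fun n g => by
            show (f : G → k) ((n : G) * g * h) = _
            rw [mul_assoc]; exact f.2 n (g * h)⟩
          map_add' := fun f f' => rfl
          map_smul' := fun a f => rfl }
      map_one' := LinearMap.ext fun f => Subtype.ext (funext fun g => congrArg (f : G → k) (mul_one g))
      map_mul' := fun a b => LinearMap.ext fun f =>
        Subtype.ext (funext fun g => congrArg (f : G → k) (mul_assoc g a b).symm) }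
  let v₀ : M := ⟨fun g => if h : g ∈ Subgroup.normalizer ((P : Subgroup G) : Set G) then (lam ⟨g, h⟩ : k) else 0,
    fun n g => by
      beta_reduce
      by_cases hg : g ∈ Subgroup.normalizer ((P : Subgroup G) : Set G)
      · rw [dif_pos hg, dif_pos (mul_mem n.2 hg), ← Units.val_mul, ← map_mul]
        rfl
      · rw [dif_neg hg, dif_neg fun h => hg ((Subgroup.mul_mem_cancel_left _ n.2).1 h), mul_zero]⟩
  refine key _ M ρ₀ rfl v₀ ⟨fun n => Subtype.ext (funext fun g => ?_), ?_⟩
  · show (if h : g * (n : G) ∈ Subgroup.normalizer ((P : Subgroup G) : Set G) then (lam ⟨_, h⟩ : k) else 0) =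
      (lam n : k) * (if h : g ∈ Subgroup.normalizer ((P : Subgroup G) : Set G) then (lam ⟨g, h⟩ : k) else 0)
    by_cases hg : g ∈ Subgroup.normalizer ((P : Subgroup G) : Set G)
    · rw [dif_pos hg, dif_pos (mul_mem hg n.2), mul_comm, ← Units.val_mul, ← map_mul]
      rfl
    · rw [dif_neg hg, dif_neg fun h => hg ((Subgroup.mul_mem_cancel_right _ n.2).1 h), mul_zero]
  · rintro ⟨f, hf⟩
    have h := congrArg (fun f : M => (f : G → k) 1) hf
    simp only [traceOp, LinearMap.sum_apply, AddSubmonoidClass.coe_finset_sum, Finset.sum_apply] at h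
    rw [Finset.sum_congr rfl fun (x : ↥(P : Subgroup G)) _ => show ((ρ₀ (x : G) f : M) : G → k) 1 = (f : G → k) 1 by
      show (f : G → k) (1 * (x : G)) = _
      rw [one_mul]
      have hx : (⟨(x : G), Subgroup.le_normalizer x.2⟩ : ↥(Subgroup.normalizer _)) ∈ lam.ker :=
        hlam (PN_le_kerN hP x.2)
      have h' := f.2 ⟨(x : G), Subgroup.le_normalizer x.2⟩ 1
      rwa [MonoidHom.mem_ker.1 hx, mul_one, Units.val_one, one_mul] at h',
      Finset.sum_const, Finset.card_univ, ← Nat.card_eq_fintype_card, hP, ← Nat.cast_smul_eq_nsmul k,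
      CharP.cast_eq_zero, zero_smul] at h
    change (0 : k) = if h : (1 : G) ∈ Subgroup.normalizer ((P : Subgroup G) : Set G) then (lam ⟨1, h⟩ : k) else 0 at h
    rw [dif_pos (one_mem _)] at h
    exact (lam _).ne_zero h.symm

variable [IsAlgClosed k] {V : Type*} [AddCommGroup V] [Module k V] [FiniteDimensional k V]
  {ρ : G →* Module.End k V} (hirr : Irred ρ)

include hP hlam hirr in
/-- In an irreducible representation a bad eigenvector spans the fixed vectors modulo traces. -/
theorem bad_spans {v : V} (hv : IsBad P ρ lam v) {w : V} (hw : ∀ x ∈ (P : Subgroup G), ρ x w = w) :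
    ∃ a : k, w - a • v ∈ LinearMap.range (traceOp P ρ) := by
  haveI : Fintype (↥(Subgroup.normalizer ((P : Subgroup G) : Set G)) ⧸ PN P) := Fintype.ofFinite _
  haveI : Fintype (G ⧸ (P : Subgroup G)) := Fintype.ofFinite _
  obtain ⟨σ, hσ, hσ1, hgen⟩ := exists_generator_P hP
  set X : Module.End k V := ρ σ - 1 with hX
  have hvf := fixed_of_eigen hP lam hlam ρ hv.1
  have hv0 : v ≠ 0 := fun h => hv.2 (h ▸ Submodule.zero_mem _)
  have hXfix : ∀ z, (∀ x ∈ (P : Subgroup G), ρ x z = z) → X z = 0 := fun z hz => by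
    rw [hX, LinearMap.sub_apply, Module.End.one_apply, hz σ hσ, sub_self]
  have hXp : X ^ p = 0 := by
    have hσp : σ ^ p = 1 := by
      have h := congrArg Subtype.val (pow_card_eq_one' (x := (⟨σ, hσ⟩ : ↥(P : Subgroup G))))
      rw [hP] at h
      exact h
    have e : X ^ p = Polynomial.aeval (ρ σ) ((Polynomial.X - 1 : Polynomial k) ^ p) := by simp [hX]
    rw [e, sub_pow_char, one_pow]
    simp [← map_pow ρ, hσp]
  have hstab : ∀ (j : ℕ) (n : ↥(Subgroup.normalizer ((P : Subgroup G) : Set G))),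
      ∀ y ∈ LinearMap.range (X ^ j), ρ (n : G) y ∈ LinearMap.range (X ^ j) := by
    intro j n
    obtain ⟨i, hi⟩ := hgen _ (conjP P n ⟨σ, hσ⟩).2
    rw [conjP_coe] at hi
    set S : Module.End k V := ∑ l ∈ Finset.range i, ρ σ ^ l with hS
    have hcomm : ∀ j, Commute (X ^ j) S := fun j => by
      refine (Commute.sum_right _ _ _ fun l _ => ?_).pow_left j
      exact ((Commute.refl (ρ σ)).pow_right l).sub_left (Commute.one_left _)
    have h1 : ∀ y, ρ (n : G) (X y) = X (S (ρ (n : G) y)) := by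
      intro y
      rw [← Module.End.mul_apply X S, hX, hS, mul_geom_sum, ← map_pow, ← hi, LinearMap.sub_apply,
        Module.End.one_apply, LinearMap.sub_apply, Module.End.one_apply, map_sub,
        ← Module.End.mul_apply, ← Module.End.mul_apply, ← map_mul, ← map_mul, inv_mul_cancel_right]
    induction j with
    | zero => intro y _; exact ⟨ρ (n : G) y, by simp⟩
    | succ j IH =>
      rintro _ ⟨y, rfl⟩
      obtain ⟨z, hz⟩ := IH ((X ^ j) y) ⟨y, rfl⟩
      refine ⟨S z, ?_⟩
      rw [pow_succ', Module.End.mul_apply, Module.End.mul_apply, h1, ← hz, ← Module.End.mul_apply S,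
        ← (hcomm j).eq, Module.End.mul_apply]
  obtain ⟨h, ⟨x₀, hx₀⟩, hvh⟩ : ∃ h : ℕ, v ∈ LinearMap.range (X ^ h) ∧ v ∉ LinearMap.range (X ^ (h + 1)) := by
    have hex : ∃ j, v ∉ LinearMap.range (X ^ j) := ⟨p, fun ⟨y, hy⟩ => hv0 (by rw [← hy, hXp]; rfl)⟩
    have h0 : Nat.find hex ≠ 0 := fun h0 => Nat.find_spec hex (by rw [h0]; exact ⟨v, by simp⟩)
    refine ⟨Nat.find hex - 1, ?_, ?_⟩
    · exact not_not.1 (Nat.find_min hex (Nat.pred_lt h0))
    · rw [Nat.sub_add_cancel (Nat.one_le_iff_ne_zero.2 h0)]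
      exact Nat.find_spec hex
  obtain ⟨f₁, hf₁, hf₁R⟩ := Submodule.exists_dual_map_eq_bot_of_notMem hvh inferInstance
  have hf₁0 : ∀ y ∈ LinearMap.range (X ^ (h + 1)), f₁ y = 0 := fun y hy => by
    have := Submodule.mem_map_of_mem (f := f₁) hy
    rwa [hf₁R, Submodule.mem_bot] at this
  have hc := card_ne_zero (P := P) (k := k)
  set c₁ : k := (Nat.card (↥(Subgroup.normalizer ((P : Subgroup G) : Set G)) ⧸ PN P) : k) with hc₁
  set g : V →ₗ[k] k := (c₁ * f₁ v)⁻¹ • f₁.comp (avgOp lam ρ) with hg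
  have hgv : g v = 1 := by
    rw [hg, LinearMap.smul_apply, LinearMap.comp_apply, avg_eigen lam ρ hv.1, map_smul, smul_eq_mul,
      smul_eq_mul, inv_mul_cancel₀ (mul_ne_zero hc hf₁)]
  have hg0 : ∀ y ∈ LinearMap.range (X ^ (h + 1)), g y = 0 := fun y hy => by
    rw [hg, LinearMap.smul_apply, LinearMap.comp_apply,
      hf₁0 _ (avg_mem lam ρ (fun n => hstab (h + 1) n) hy), smul_zero]
  have hgeig : ∀ (n : ↥(Subgroup.normalizer ((P : Subgroup G) : Set G))) z,
      (∀ x ∈ (P : Subgroup G), ρ x z = z) → g (ρ (n : G) z) = (lam n : k) * g z := fun n z hz => by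
    rw [hg, LinearMap.smul_apply, LinearMap.smul_apply, LinearMap.comp_apply, LinearMap.comp_apply,
      avg_right hP lam hlam ρ hz, map_smul, smul_eq_mul, smul_eq_mul, smul_eq_mul, mul_left_comm]
  set r : Module.End k V :=
    ∑ i ∈ Finset.range (h + 1), (g.comp (X ^ (h - i))).smulRight ((X ^ i) x₀) with hr
  have hrapp : ∀ y, r y = ∑ i ∈ Finset.range (h + 1), g ((X ^ (h - i)) y) • (X ^ i) x₀ := fun y => by
    simp [hr]
  have hrX : ∀ y, r (X y) = X (r y) := by
    intro y
    rw [hrapp, hrapp, map_sum, Finset.sum_range_succ']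
    conv_rhs => rw [Finset.sum_range_succ]
    congr 1
    · refine Finset.sum_congr rfl fun i hi => ?_
      rw [map_smul, pow_succ' X i, Module.End.mul_apply]
      congr 2
      rw [← Module.End.mul_apply, ← pow_succ, show h - (i + 1) + 1 = h - i by
        have := Finset.mem_range.1 hi; omega]
    · rw [Nat.sub_zero, ← Module.End.mul_apply (X ^ h) X, ← pow_succ, hg0 _ ⟨y, rfl⟩, zero_smul, hx₀,
        map_smul, hXfix v hvf, smul_zero]
  have hrfix : ∀ z, (∀ x ∈ (P : Subgroup G), ρ x z = z) → r z = g z • v := by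
    intro z hz
    rw [hrapp, Finset.sum_range_succ, Nat.sub_self, pow_zero, Module.End.one_apply, hx₀,
      add_eq_right]
    refine Finset.sum_eq_zero fun i hi => ?_
    obtain ⟨l, hl⟩ : ∃ l, h - i = l + 1 := ⟨h - i - 1, by have := Finset.mem_range.1 hi; omega⟩
    rw [hl, pow_succ, Module.End.mul_apply, hXfix z hz, map_zero, map_zero, zero_smul]
  have hrP : ∀ x ∈ (P : Subgroup G), Commute (ρ x) r := by
    intro x hx
    obtain ⟨i, rfl⟩ := hgen x hx
    rw [map_pow]
    refine Commute.pow_left ?_ i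
    refine LinearMap.ext fun y => ?_
    show ρ σ (r y) = r (ρ σ y)
    have e : ∀ z, ρ σ z = X z + z := fun z => by simp [hX]
    rw [e, e y, map_add, hrX]
  set F : G → Module.End k V := fun a => ρ a * r * ρ a⁻¹ with hF
  have hFmul : ∀ a b, F (a * b) = ρ a * F b * ρ a⁻¹ := fun a b => by
    simp only [hF, mul_inv_rev, map_mul, mul_assoc]
  have hFP : ∀ a, ∀ x ∈ (P : Subgroup G), F (a * x) = F a := by
    intro a x hx
    rw [hFmul]
    show ρ a * (ρ x * r * ρ x⁻¹) * ρ a⁻¹ = _
    rw [(hrP x hx).eq, mul_assoc r, ← map_mul, mul_inv_cancel, map_one, mul_one]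
  have hFout : ∀ a, F (QuotientGroup.mk (s := (P : Subgroup G)) a).out = F a := by
    intro a
    obtain ⟨x, hx⟩ := QuotientGroup.mk_out_eq_mul (P : Subgroup G) a
    rw [hx, hFP a _ x.2]
  have hsmul : ∀ (x : G) (q : G ⧸ (P : Subgroup G)), F (x • q).out = ρ x * F q.out * ρ x⁻¹ := by
    intro x q
    conv_lhs => rw [← QuotientGroup.out_eq' q, MulAction.Quotient.smul_mk, hFout, smul_eq_mul, hFmul]
  set Φ : Module.End k V := ∑ q : G ⧸ (P : Subgroup G), F q.out with hΦ
  obtain ⟨c, hcΦ⟩ := schur hirr Φ (fun x y => by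
    have e : ρ x * Φ * ρ x⁻¹ = Φ := by
      rw [hΦ, Finset.mul_sum, Finset.sum_mul]
      exact Fintype.sum_equiv (MulAction.toPerm x) _ _ fun q => (hsmul x q).symm
    conv_lhs => rw [← e]
    rw [Module.End.mul_apply, Module.End.mul_apply, ← Module.End.mul_apply (ρ x⁻¹), ← map_mul,
      inv_mul_cancel, map_one, Module.End.one_apply])
  set fix : Finset (G ⧸ (P : Subgroup G)) :=
    Finset.univ.filter fun q => ∀ x : ↥(P : Subgroup G), x • q = q with hfix
  have hfree : ∀ (x : ↥(P : Subgroup G)) q, q ∈ Finset.univ \ fix → x • q = q → x = 1 := by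
    intro x q hq hxq
    by_contra hx
    refine (Finset.mem_sdiff.1 hq).2 (Finset.mem_filter.2 ⟨Finset.mem_univ _, fun y => ?_⟩)
    have htop := zpowers_eq_top_of_prime_card hP hx
    have : y ∈ MulAction.stabilizer ↥(P : Subgroup G) q :=
      Subgroup.zpowers_le.2 (MulAction.mem_stabilizer_iff.2 hxq) (htop ▸ Subgroup.mem_top y)
    exact MulAction.mem_stabilizer_iff.1 this
  have hinv : ∀ (x : ↥(P : Subgroup G)) q, q ∈ Finset.univ \ fix → x • q ∈ Finset.univ \ fix := by
    intro x q hq
    refine Finset.mem_sdiff.2 ⟨Finset.mem_univ _, fun h => (Finset.mem_sdiff.1 hq).2 ?_⟩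
    have h1 : q = x • q := by
      have := (Finset.mem_filter.1 h).2 x⁻¹
      rwa [inv_smul_smul] at this
    rw [h1]; exact h
  have hfixN : ∀ q ∈ fix, q.out ∈ Subgroup.normalizer ((P : Subgroup G) : Set G) := by
    intro q hq
    have hmap : ∀ x ∈ (P : Subgroup G), q.out⁻¹ * x * q.out ∈ (P : Subgroup G) := by
      intro x hx
      have h1 : x • q = q := (Finset.mem_filter.1 hq).2 ⟨x, hx⟩
      rw [← QuotientGroup.out_eq' q, MulAction.Quotient.smul_mk, smul_eq_mul, QuotientGroup.eq] at h1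
      simpa [mul_assoc] using inv_mem h1
    rw [Subgroup.mem_normalizer_iff]
    have heq : (P : Subgroup G).map (MulAut.conj q.out⁻¹).toMonoidHom = (P : Subgroup G) := by
      refine Subgroup.eq_of_le_of_card_ge ?_ ?_
      · rintro _ ⟨x, hx, rfl⟩
        simpa using hmap x hx
      · exact (Subgroup.card_map_of_injective (MulAut.conj q.out⁻¹).injective).ge
    intro x
    constructor
    · intro hx
      rw [← heq] at hx
      obtain ⟨y, hy, hxy⟩ := hx
      have : q.out * x * q.out⁻¹ = y := by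
        rw [← hxy]
        simp [mul_assoc]
      rw [this]; exact hy
    · intro hx
      have := hmap _ hx
      simpa [mul_assoc] using this
  have hN0 : (fix.card : k) ≠ 0 := by
    have h1 := sum_free_eq_zero (Q := ↥(P : Subgroup G)) (R := k) (Finset.univ \ fix) hinv hfree
      (fun _ => 1) (fun _ _ _ => rfl) (by rw [← Nat.card_eq_fintype_card, hP, CharP.cast_eq_zero])
    rw [Finset.sum_const, nsmul_one] at h1
    have h2 : ((Nat.card (G ⧸ (P : Subgroup G)) : ℕ) : k) = (fix.card : k) := by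
      rw [Nat.card_eq_fintype_card, ← Finset.card_univ,
        ← Finset.card_sdiff_add_card_eq_card (Finset.subset_univ fix), Nat.cast_add, h1, zero_add]
    rw [← h2, Ne, CharP.cast_eq_zero_iff k p]
    exact P.not_dvd_index
  have key : ∀ z, (∀ x ∈ (P : Subgroup G), ρ x z = z) →
      c • z - ((fix.card : k) * g z) • v ∈ LinearMap.range (traceOp P ρ) := by
    intro z hz
    obtain ⟨z', hz'⟩ := sum_free (Q := ↥(P : Subgroup G)) (k := k) (Finset.univ \ fix) hinv hfree
      (ρ.comp (P : Subgroup G).subtype) (fun q => F q.out z) (fun x q _ => by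
        show F ((x : G) • q).out z = ρ (x : G) (F q.out z)
        rw [hsmul, Module.End.mul_apply, Module.End.mul_apply, hz _ (inv_mem x.2)])
    refine ⟨z', ?_⟩
    rw [← hcΦ z, hΦ, LinearMap.sum_apply, ← Finset.sum_sdiff (Finset.subset_univ fix), hz']
    have hfix' : ∀ q ∈ fix, F q.out z = g z • v := by
      intro q hq
      set n : ↥(Subgroup.normalizer ((P : Subgroup G) : Set G)) := ⟨q.out, hfixN q hq⟩ with hn
      have hzn : ∀ x ∈ (P : Subgroup G), ρ x (ρ q.out⁻¹ z) = ρ q.out⁻¹ z := by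
        intro x hx
        have hm := (Subgroup.mem_normalizer_iff.1 n.2 x).1 hx
        rw [← Module.End.mul_apply, ← map_mul,
          show x * q.out⁻¹ = q.out⁻¹ * (q.out * x * q.out⁻¹) by group, map_mul, Module.End.mul_apply,
          hz _ hm]
      show ρ q.out (r (ρ q.out⁻¹ z)) = _
      rw [hrfix _ hzn, map_smul]
      have e := hgeig n⁻¹ z hz
      rw [Subgroup.coe_inv] at e
      show g (ρ q.out⁻¹ z) • ρ (n : G) v = _
      rw [show (n : G) = q.out from rfl] at e
      rw [e, hv.1 n, smul_smul, map_inv, mul_comm _ (lam n : k), ← mul_assoc, ← Units.val_mul,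
        mul_inv_cancel, Units.val_one, one_mul]
    rw [Finset.sum_congr rfl hfix', Finset.sum_const, ← Nat.cast_smul_eq_nsmul k, smul_smul,
      add_sub_cancel_right]
    rfl
  have hc0 : c ≠ 0 := by
    intro hc'
    have h1 := key v hvf
    rw [hc', zero_smul, hgv, mul_one, zero_sub] at h1
    have h2 := Submodule.smul_mem _ (fix.card : k)⁻¹ (Submodule.neg_mem _ h1)
    rw [neg_neg, smul_smul, inv_mul_cancel₀ hN0, one_smul] at h2
    exact hv.2 h2
  refine ⟨c⁻¹ * ((fix.card : k) * g w), ?_⟩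
  have := Submodule.smul_mem _ c⁻¹ (key w hw)
  rwa [smul_sub, smul_smul, smul_smul, inv_mul_cancel₀ hc0, one_smul] at this

include hP hlam hirr in
theorem weight_unique {mu : ↥(Subgroup.normalizer ((P : Subgroup G) : Set G)) →* kˣ}
    (hmu : kerN P ≤ mu.ker) {v w : V} (hv : IsBad P ρ lam v) (hw : IsBad P ρ mu w) : lam = mu := by
  haveI : Fintype (↥(Subgroup.normalizer ((P : Subgroup G) : Set G)) ⧸ PN P) := Fintype.ofFinite _
  by_contra hne
  obtain ⟨n, hn⟩ : ∃ n, lam n ≠ mu n := by
    by_contra h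
    push Not at h
    exact hne (MonoidHom.ext h)
  obtain ⟨a, z, hz⟩ := bad_spans hP lam hlam hirr hv (fixed_of_eigen hP mu hmu ρ hw.1)
  have hvf := fixed_of_eigen hP lam hlam ρ hv.1
  have h0 : avgOp mu ρ v = 0 := by
    have e1 := avg_left hP mu hmu ρ hvf n
    have e2 := avg_right hP mu hmu ρ hvf n
    rw [hv.1 n, map_smul] at e2
    have e3 : ((lam n : k) - (mu n : k)) • avgOp mu ρ v = 0 := by rw [sub_smul, e2, sub_self]
    exact (smul_eq_zero.1 e3).resolve_left (sub_ne_zero.2 fun h => hn (Units.ext h))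
  refine hw.2 ⟨(Nat.card (↥(Subgroup.normalizer ((P : Subgroup G) : Set G)) ⧸ PN P) : k)⁻¹ • avgOp mu ρ z, ?_⟩
  rw [map_smul, ← avg_traceOp, hz, map_sub, map_smul, h0, smul_zero, sub_zero, avg_eigen mu ρ hw.1,
    smul_smul, inv_mul_cancel₀ card_ne_zero, one_smul]

include hP hlam in
theorem weight_unique_hom {mu : ↥(Subgroup.normalizer ((P : Subgroup G) : Set G)) →* kˣ}
    (hmu : kerN P ≤ mu.ker) {W : Type*} [AddCommGroup W] [Module k W] [FiniteDimensional k W]
    {σ : G →* Module.End k W} (hρ : Irred ρ) (hσ : Irred σ) (f : V →ₗ[k] W)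
    (hf : ∀ g x, f (ρ g x) = σ g (f x)) (h0 : f ≠ 0) {v : V} {w : W}
    (hv : IsBad P ρ lam v) (hw : IsBad P σ mu w) : lam = mu := by
  have hbij := bijective_of_ne_zero hρ hσ f hf h0
  refine weight_unique hP lam hlam hσ hmu (v := f v) ⟨fun n => by rw [← hf, hv.1 n, map_smul], ?_⟩ hw
  rintro ⟨y, hy⟩
  obtain ⟨z, rfl⟩ := hbij.2 y
  refine hv.2 ⟨z, hbij.1 ?_⟩
  rw [← hy]
  simp only [traceOp, LinearMap.sum_apply, map_sum, hf]

end Cfsg.Agent.BlockPrime86
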