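import Cfsg.Agent.Lib.BrauerPairs81Fusion

/-!
Pairs of the principal block.
-/

namespace Cfsg.Agent.BrauerPairs81Principal

open Cfsg Cfsg.Agent.BlockTheoryLocalRing Cfsg.Agent.BlockTheoryCentre
open Cfsg.Agent.BlockTheoryIdem Cfsg.Agent.BlockTheoryBrauer Cfsg.Agent.BlockPrincipal81
open Cfsg.Agent.BrauerPairs81Base Cfsg.Agent.BrauerPairs81Pairs Cfsg.Agent.BrauerPairs81Conj
open Cfsg.Agent.BrauerPairs81Max Cfsg.Agent.BrauerPairs81Local Cfsg.Agent.BrauerPairs81Fusion
open scoped ComplexConjugate

attribute [local instance] Classical.propDecidable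

set_option linter.unusedSectionVars false

variable {p : ℕ} [Fact p.Prime] {M : Ideal AlgInt} {G : Type*} [Group G] [Fintype G]

/-- The pair with the principal block. -/
noncomputable def pp (M : Ideal AlgInt) (Q : Subgroup G) : BrauerPairIdx G :=
  ⟨Q, principalBlock M (Cen Q)⟩

theorem cP_pp (hM : IsPModular p M) (x : G) (Q : Subgroup G) : cP x (pp M Q) = pp M (cjS x Q) := by
  have hb : IsPBlock M (conjBlock Q x (principalBlock M (Cen Q))) :=
    isPBlock_conjBlock x isPBlock_principal
  refine congrArg (Sigma.mk (cjS x Q)) (block_eq_of_mem hM hb isPBlock_principal ?_ (oneChar_mem hM))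
  rw [conjBlock_eq]
  exact ⟨oneChar _, oneChar_mem hM, rfl⟩

theorem isBrauerPairOf_pp (hM : IsPModular p M) {Q : Subgroup G} (hQ : IsPGroup p Q) :
    IsBrauerPairOf p M (principalBlock M G) (pp M Q).1 (pp M Q).2 :=
  isBrauerPairOf_principal hM hQ

/-- A pair below a principal pair is principal. -/
theorem eq_pp_of_le (hM : IsPModular p M) {a b : BrauerPairIdx G} (h : PLE p M a b)
    (hb : b = pp M b.1) : a = pp M a.1 := by
  suffices ∀ a b : BrauerPairIdx G, Relation.ReflTransGen (NormalSubpairRel p M) a b →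
      b = pp M b.1 → a = pp M a.1 from this _ _ h hb
  intro a b hab hb
  induction hab using Relation.ReflTransGen.head_induction_on with
  | refl => exact hb
  | @head a c hac _ ih =>
    obtain ⟨C, g⟩ := c
    obtain ⟨A, f⟩ := a
    have hg : g = principalBlock M (Cen C) := by
      have := ih
      simp only [pp, Sigma.mk.injEq, heq_eq_eq, true_and] at this
      exact this
    have hac0 : IsNormalSubpair p M A f C g := hac
    rw [hg] at hac0
    obtain ⟨⟨-, hf⟩, ⟨hR, -⟩, hQR, -, hinv, hocc⟩ := isNormalSubpair_iff.mp hac0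
    have h1 := hocc (oneChar (Cen C)) (oneChar_mem hM)
    rw [phi, omega_one_apply] at h1
    have h2 := ideal_sum_sub_centralizer hM hR (W := fun x => (eb (Cen A) f).coeff x) hinv
      (isInt_eb hM hf)
    simp only [coeff_res] at h1
    have h3 : ∑ x : G, (eb (Cen A) f).coeff x =
        omega ((oneChar (Cen A) : IrrCharacter (Cen A)) : Cen A → ℂ) (idem f) := by
      rw [omega_one_apply, ← res_eb (Cen A) f]
      simp only [coeff_res]
      rw [← Finset.sum_subtype (F := inferInstance) (Finset.univ.filter fun x => x ∈ Cen A)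
        (fun x => by simp) fun x => (eb (Cen A) f).coeff x]
      refine (Finset.sum_subset (Finset.subset_univ _) fun x _ hx => ?_).symm
      exact coeff_eb_of_notMem _ f (by simpa using hx)
    rw [h3, omega_idem] at h2
    refine congrArg (Sigma.mk A) (block_eq_of_mem hM hf isPBlock_principal ?_ (oneChar_mem hM))
    by_contra hne
    rw [if_neg hne] at h2
    refine one_not_ideal hM
      (cast (congrArg (MemLocalIdeal M) ?_) (ideal_neg (ideal_add hM h1 h2)))
    ring

theorem isMaximal_pp (hM : IsPModular p M) (S : Sylow p G) :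
    IsMaximalBrauerPair p M (principalBlock M G) (S : Subgroup G)
      (principalBlock M (Cen (S : Subgroup G))) :=
  ⟨isBrauerPairOf_principal hM S.isPGroup',
    fun _ _ hR hle => S.3 hR.1.1 (subgroup_le_of_subpairLE hle)⟩

theorem ple_pp (hM : IsPModular p M) (S : Sylow p G) {Q : Subgroup G}
    (hQ : Q ≤ (S : Subgroup G)) : PLE p M (pp M Q) (pp M (S : Subgroup G)) := by
  obtain ⟨a, rfl, ha⟩ := ple_exists (c := pp M (S : Subgroup G)) hM (isMaximal_pp hM S).1.1 hQ
  rwa [← eq_pp_of_le hM ha rfl]

theorem fus_pp_iff (hM : IsPModular p M) (S : Sylow p G) {Q : Subgroup G} {g : G} :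
    Fus p M (pp M (S : Subgroup G)) Q g ↔ Q ≤ (S : Subgroup G) ∧ cjS g Q ≤ (S : Subgroup G) := by
  refine ⟨fun h => ⟨h.le, h.le'⟩, fun h => fus_mk (ple_pp hM S h.1) ?_⟩
  rw [cP_pp hM]
  exact ple_pp hM S h.2

/-- Every pair of the principal block is principal. -/
theorem eq_pp_of_pairOf (hM : IsPModular p M) {a : BrauerPairIdx G}
    (h : IsBrauerPairOf p M (principalBlock M G) a.1 a.2) : a = pp M a.1 := by
  obtain ⟨S⟩ : Nonempty (Sylow p G) := inferInstance
  obtain ⟨x, hx⟩ := exists_conj_subpairLE hM (isMaximal_pp hM S) h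
  have h1 : cP x a = pp M (cjS x a.1) :=
    eq_pp_of_le hM (a := cP x a) (b := pp M (S : Subgroup G)) hx rfl
  rw [← cP_pp hM] at h1
  calc a = cP x⁻¹ (cP x a) := (cP_inv_cP x a).symm
    _ = pp M a.1 := by rw [h1, cP_inv_cP]

end Cfsg.Agent.BrauerPairs81Principal
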