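import Cfsg.Agent.Lib.BlockStarMatrix9
import Cfsg.Agent.Lib.BlockAbelianWeight31
import Cfsg.Agent.Lib.BrauerPairs81Principal

/-!
The matrices of the star construction for the principal block with abelian Sylow subgroup.
-/

set_option autoImplicit false
set_option linter.unusedSectionVars false

namespace Cfsg.Agent.BlockPrincipalMatrix82

open Cfsg Cfsg.Agent.BlockTheoryLocalRing Cfsg.Agent.BlockTheoryCentre
open Cfsg.Agent.BlockTheoryIdem Cfsg.Agent.BlockTheoryBrauer
open Cfsg.Agent.BrauerPairs81Base Cfsg.Agent.BrauerPairs81Pairs Cfsg.Agent.BrauerPairs81Conj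
open Cfsg.Agent.BrauerPairs81Local Cfsg.Agent.BrauerPairs81Fusion Cfsg.Agent.BrauerPairs81Max
open Cfsg.Agent.BrauerPairs81Principal Cfsg.Agent.BlockPrincipal81
open Cfsg.Agent.Star80Pairs Cfsg.Agent.Star80Char Cfsg.Agent.Star80Inner
open Cfsg.Agent.BlockStarMatrix9 Cfsg.Agent.BlockAbelianWeight31
open Cfsg.Agent.BlockContribBounds
open CharBasic CharBasicDecomp
open scoped ComplexConjugate

attribute [local instance] Classical.propDecidable

variable {p : ℕ} [Fact p.Prime] {M : Ideal AlgInt} {G : Type*} [Group G] [Fintype G]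

theorem mem_stab_principal (hM : IsPModular p M) {Q : Subgroup G} {x : G} :
    x ∈ stab (⟨Q, principalBlock M (Cen Q)⟩ : BrauerPairIdx G) ↔
      x ∈ Subgroup.normalizer (Q : Set G) :=
  ⟨fun h => stab_le_normalizer _ h, fun h => mem_stab.mpr (by
    show cP x (pp M Q) = pp M Q
    rw [cP_pp hM, cjS_of_normalizer h])⟩

theorem blockAt_principal (hM : IsPModular p M) (S : Sylow p G) {u : G}
    (hu : u ∈ (S : Subgroup G)) :
    blockAt p M (⟨(S : Subgroup G), principalBlock M (Cen (S : Subgroup G))⟩ : BrauerPairIdx G) u =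
      principalBlock M (Cen (Subgroup.zpowers u)) :=
  eq_of_heq (Sigma.mk.inj_iff.mp
    (eq_pp_of_le hM (pairAt_le hM (isMaximal_pp hM S) ⟨u, hu⟩) rfl)).2

/-- The principal block has full defect. -/
theorem blockDefect_principal {H : Type*} [Group H] [Fintype H] (hM : IsPModular p M) :
    blockDefect p (principalBlock M H) = (Nat.card H).factorization p := by
  have := BlockContrib.minExp_le (p := p) (oneChar_mem (G := H) hM)
  rw [BlockContrib.blockDefect_eq]
  simp [BlockPrincipal81.oneChar, charDegree] at this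
  omega

theorem factorization_centralizer (S : Sylow p G) (hab : ∀ x ∈ (S : Subgroup G),
    ∀ y ∈ (S : Subgroup G), x * y = y * x) {u : G} (hu : u ∈ (S : Subgroup G)) :
    (Nat.card (Cen (Subgroup.zpowers u))).factorization p = (Nat.card G).factorization p := by
  have hle : (S : Subgroup G) ≤ Cen (Subgroup.zpowers u) := fun v hv =>
    (BlockCyclicRank81.centralizer_zpowers u v).2 (hab u hu v hv)
  refine le_antisymm ((Nat.factorization_le_iff_dvd Nat.card_pos.ne' Nat.card_pos.ne').2
    (Subgroup.card_subgroup_dvd_card _) p) ?_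
  have h1 : p ^ (Nat.card G).factorization p ∣ Nat.card (Cen (Subgroup.zpowers u)) := by
    rw [← S.card_eq_multiplicity]
    exact Subgroup.card_dvd_of_le hle
  exact ((Fact.out : p.Prime).pow_dvd_iff_le_factorization Nat.card_pos.ne').1 h1

/-- An invariant indicator has nonzero diagonal. -/
theorem A_ind_ne_zero (hM : IsPModular p M) (S : Sylow p G) (hab : ∀ x ∈ (S : Subgroup G),
    ∀ y ∈ (S : Subgroup G), x * y = y * x) {T : Set (S : Subgroup G)}
    (hT : Inv (principalBlock M (Cen (S : Subgroup G))) (ind T)) {u : (S : Subgroup G)}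
    (hu : u ∈ T) {χ : IrrCharacter G} (hχ : χ ∈ principalBlock M G) :
    A p M (principalBlock M G) (principalBlock M (Cen (S : Subgroup G))) (ind T) χ χ ≠ 0 := by
  set top : BrauerPairIdx G := ⟨(S : Subgroup G), principalBlock M (Cen (S : Subgroup G))⟩
  have hmax := isMaximal_pp hM S
  have hle : PLE p M (pp M (Subgroup.zpowers (u : G))) top :=
    ple_pp hM S (Subgroup.zpowers_le.2 u.2)
  have hpair : IsBrauerPairOf p M (principalBlock M G) (Subgroup.zpowers (u : G))
      (principalBlock M (Cen (Subgroup.zpowers (u : G)))) :=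
    isBrauerPairOf_principal hM (S.isPGroup'.to_le (Subgroup.zpowers_le.2 u.2))
  have hz : ∀ (v : G) (a : BrauerPairIdx G), ∃ r : ℝ, zvp p M top (ext (ind T)) v a = r ∧ 0 ≤ r := by
    intro v a
    simp only [zvp, ext, ind]
    split_ifs <;> first
      | exact ⟨1, Complex.ofReal_one.symm, zero_le_one⟩
      | exact ⟨0, Complex.ofReal_zero.symm, le_rfl⟩
  choose z hz hz0 using hz
  have hup : ∃ k, orderOf (u : G) = p ^ k := by
    obtain ⟨k, hk⟩ := IsPGroup.iff_orderOf.mp S.isPGroup' u
    exact ⟨k, by rw [Subgroup.orderOf_coe, hk]⟩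
  obtain ⟨χ₀, hχ₀, h0⟩ := BlockContrib.exists_height_zero hM (isPBlock_principal (M := M) (G := G))
  have hmm := mm_major_ne_zero hM hup (fun g => mem_cen_zp)
    (BlockCyclicRank81.induced_of_pairOf hM hpair)
    (by rw [blockDefect_principal hM, blockDefect_principal hM,
      factorization_centralizer S hab u.2]) hχ hχ₀ h0
  obtain ⟨s, hs, hne⟩ := exists_part_ne_zero_of_mm hmm
  have hr : ∀ (v : G) (b : Set (IrrCharacter (Cen (Subgroup.zpowers v)))),
      ∃ r : ℝ, mm p v b (χ : G → ℂ) (χ : G → ℂ) = r ∧ 0 ≤ r := fun v b => by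
    obtain ⟨r, h1, h2, -⟩ := mm_self_re (p := p) (u := v) (b := b) (χ : G → ℂ)
    exact ⟨r, h1, h2⟩
  choose m hm hm0 using hr
  have hpos : 0 < m (u : G) (principalBlock M (Cen (Subgroup.zpowers (u : G)))) := by
    obtain ⟨r, h1, -, h3⟩ := mm_self_re (p := p) (u := (u : G))
      (b := principalBlock M (Cen (Subgroup.zpowers (u : G)))) (χ : G → ℂ)
    rw [hm, Complex.ofReal_inj] at h1
    exact h1 ▸ h3 ⟨s, hs, hne⟩
  have hone : z (u : G) (pp M (Subgroup.zpowers (u : G))) = 1 := by
    have h := zvp_below (z0 := ext (ind T)) (u := (u : G)) (top := top)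
      (b := principalBlock M (Cen (Subgroup.zpowers (u : G)))) (stable_ext hM hmax hab hT) hle
    rw [ext_coe, ind, if_pos hu] at h
    have h' : ((z (u : G) (pp M (Subgroup.zpowers (u : G))) : ℝ) : ℂ) = 1 := (hz _ _).symm.trans h
    exact_mod_cast h'
  rw [formula hM hmax _ χ hχ]
  refine mul_ne_zero (inv_ne_zero (Nat.cast_ne_zero.2 Nat.card_pos.ne')) ?_
  have hz' : ∀ (v : G) (a : BrauerPairIdx G), zvp p M
      ⟨(S : Subgroup G), principalBlock M (Cen (S : Subgroup G))⟩ (ext (ind T)) v a = (z v a : ℂ) := hz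
  simp only [hz', hm, ← Complex.ofReal_mul, ← Complex.ofReal_sum, ne_eq, Complex.ofReal_eq_zero]
  refine ne_of_gt (Finset.sum_pos' (fun v _ => Finset.sum_nonneg fun b _ =>
    mul_nonneg (hz0 _ _) (hm0 _ _)) ⟨(u : G), Finset.mem_filter.2 ⟨Finset.mem_univ _, hup⟩,
    Finset.sum_pos' (fun b _ => mul_nonneg (hz0 _ _) (hm0 _ _)) ⟨_, mem_pairs.mpr hpair, ?_⟩⟩)
  rw [show z (u : G) ⟨_, principalBlock M (Cen (Subgroup.zpowers (u : G)))⟩ = 1 from hone, one_mul]
  exact hpos

/-- The trace of an invariant matrix is the weighted sum. -/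
theorem trace_eq_weight {B : Set (IrrCharacter G)} {P : Subgroup G}
    {c : Set (IrrCharacter (Cen P))} (hM : IsPModular p M)
    (hmax : IsMaximalBrauerPair p M B P c) (hab : ∀ x ∈ P, ∀ y ∈ P, x * y = y * x) {F : P → ℂ}
    (hF : Inv c F) :
    ∑ χ ∈ members B, A p M B c F χ χ = ∑ u : P, F u * weight p M c u := by
  set top : BrauerPairIdx G := ⟨P, c⟩
  have h := sum_weight hM hmax hab fun z =>
    zvp p M top (ext F) z.1 z.2 * (blockRank p z.2.2 : ℂ)
  have hL : ∑ u ∈ Finset.univ.filter (fun u : G => ∃ k, orderOf u = p ^ k),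
      ∑ b ∈ pairs p M B (Subgroup.zpowers u),
        zvp p M top (ext F) u ⟨_, b⟩ * ((Nat.card (Cen (Subgroup.zpowers u)) : ℂ) * (blockRank p b : ℂ)) =
      ∑ u : P, ((orbit c u).card : ℂ)⁻¹ * ∑ g : G, zvp p M top (ext F) (phiSub p M c (u, g)).1
        (phiSub p M c (u, g)).2 * (blockRank p (phiSub p M c (u, g)).2.2 : ℂ) := by
    rw [← h]
    refine Finset.sum_congr rfl fun u hu => ?_
    rw [pairs_eq_subs hM u (Finset.mem_filter.1 hu).2]
    exact Finset.sum_congr rfl fun b _ => by ring
  have hz : ∀ (u : P) (g : G), zvp p M top (ext F) (phiSub p M c (u, g)).1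
      (phiSub p M c (u, g)).2 = F u := fun u g => by
    rw [phiSub, zvp_eq (stable_ext hM hmax hab hF) (g := g⁻¹) (MonoidHom.map_zpowers _ _)
      (by rw [cP_inv_cP]; exact pairAt_le hM hmax u),
      show g⁻¹ * (g * (u : G) * g⁻¹) * g⁻¹⁻¹ = (u : G) by group, ext_coe]
  rw [trace_formula hM hmax, hL, Finset.mul_sum]
  refine Finset.sum_congr rfl fun u _ => ?_
  simp only [hz, rank_phiSub hM hmax hab, Finset.sum_const, Finset.card_univ, nsmul_eq_mul,
    Nat.card_eq_fintype_card, weight]
  have : (Fintype.card G : ℂ) ≠ 0 := Nat.cast_ne_zero.2 Fintype.card_ne_zero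
  field_simp

/-- The index of a subgroup times its indicator is a generalized character of an abelian group. -/
theorem isGen_ind {P : Type*} [Group P] [Fintype P] (hab : ∀ x y : P, x * y = y * x)
    (V : Subgroup P) :
    IsGeneralizedCharacter P fun x => if x ∈ V then (V.index : ℂ) else 0 := by
  haveI : Fintype V := Fintype.ofFinite _
  refine isGeneralizedCharacter_iff.mpr ⟨fun g h => ?_, fun ψ => ?_⟩
  · show (if h * g * h⁻¹ ∈ V then (V.index : ℂ) else 0) = _
    rw [hab h g, mul_inv_cancel_right]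
  obtain ⟨n, hn⟩ := classInner_isGeneralizedCharacter
    (isGeneralizedCharacter_of_isCharacter (isCharacter_linear (1 : V →* ℂˣ)))
    (isGeneralizedCharacter_of_isCharacter
      (isCharacter_comap V.subtype (isCharacter_of_isIrrCharacter ψ.2)))
  refine ⟨n, ?_⟩
  rw [← hn, classInner, classInner, ← V.card_mul_index]
  simp only [ite_mul, zero_mul, MonoidHom.one_apply, Units.val_one, one_mul, Function.comp_apply,
    Subgroup.coe_subtype]
  rw [← Finset.sum_filter, Finset.sum_subtype (F := inferInstance) (p := fun x => x ∈ V)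
    (Finset.univ.filter fun x => x ∈ V) (fun x => by simp)
    (fun x => (V.index : ℂ) * conj ((ψ : P → ℂ) x)), ← Finset.mul_sum, Nat.cast_mul]
  have h1 : (Nat.card V : ℂ) ≠ 0 := Nat.cast_ne_zero.2 Nat.card_pos.ne'
  have h2 : (V.index : ℂ) ≠ 0 := Nat.cast_ne_zero.2 Subgroup.index_ne_zero_of_finite
  field_simp

end Cfsg.Agent.BlockPrincipalMatrix82
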