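import Cfsg.Agent.S4716
import Cfsg.Agent.Lib.BlockAbelianSylowMain86
import Cfsg.Agent.Lib.BlockContribRoots
import Cfsg.Agent.Lib.BlockCentral81
import Cfsg.Agent.Lib.BlockPCount9
import Cfsg.Agent.S0941
import Cfsg.Agent.Lib.BlockQuotient78

/-!
Characters of degree prime to `p` in the principal block when some centralizer of a `p`-element
has Sylow subgroups of order at most `p ^ 2`.

For `z` of order `p` with `|C(z)|_p = p ^ 2` the quotient `C(z) ⧸ ⟨z⟩` has a Sylow subgroup of order
`p`; its principal block `X ∪ Y` gives vectors `b·χ - a_χ·ΣY` and `a_η χ - a_χ η` vanishing at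
singular elements.  Pairing `c ↦ ζ (z c)` with them gives algebraic integers in `ℤ[ω]`, at least
`|X|` of which are nonzero when `ζ z ≠ 0`, while their squares add up to at most `|X| p ^ 2`.
-/

set_option autoImplicit false
set_option linter.unusedSectionVars false

namespace Cfsg.Agent.BlockPrincipalSq9

open Cfsg Cfsg.Agent.BlockTheoryLocalRing Cfsg.Agent.BlockTheoryCentre
open Cfsg.Agent.BlockTheoryIdem Cfsg.Agent.BlockPrincipal81
open Cfsg.Agent.CharBasic Cfsg.Agent.CharBasicOrth Cfsg.Agent.CharBasicDecomp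
open Cfsg.Agent.BlockPCount9
open scoped ComplexConjugate

attribute [local instance] Classical.propDecidable

variable {p : ℕ} [Fact p.Prime] {M : Ideal AlgInt}

/-! ### The value at the regular part -/

section RegPart

variable {H : Type*} [Group H] [Fintype H]

/-- A character read at `p'`-parts is a generalized character. -/
theorem isGeneralizedCharacter_regPart (ψ : IrrCharacter H) :
    IsGeneralizedCharacter H (fun g => (ψ : H → ℂ) ((pp p g)⁻¹ * g)) := by
  refine BrauerInduction.isGeneralizedCharacter_of_elementary (fun g h => ?_) fun E q hq hE => ?_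
  · show (ψ : H → ℂ) _ = (ψ : H → ℂ) _
    rw [pp_eq (BrauerBlocksPPart.isPPart_conj h (pp_spec (p := p) g)),
      show (h * pp p g * h⁻¹)⁻¹ * (h * g * h⁻¹) = h * ((pp p g)⁻¹ * g) * h⁻¹ by group]
    exact irr_classFun ψ _ _
  · haveI : Group.IsNilpotent E := BrauerInduction.isNilpotent_of_isElementary hq hE
    refine (congrArg (IsGeneralizedCharacter E) (funext fun e => ?_)).mpr
      (isGeneralizedCharacter_comap (E.subtype.comp (piP' p E))
        (isGeneralizedCharacter_of_isCharacter (isCharacter_of_isIrrCharacter ψ.2)))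
    show (ψ : H → ℂ) _ = (ψ : H → ℂ) (((pp p e)⁻¹ * e : E) : H)
    rw [pp_eq (isPPart_coe (pp_spec (p := p) e)), Subgroup.coe_mul, Subgroup.coe_inv]

end RegPart

/-! ### Groups with a Sylow subgroup of order `p` -/

section Prime

variable {Q : Type*} [Group Q] [Fintype Q]

/-- Values of the principal block on the singular elements. -/
structure Data (p : ℕ) (M : Ideal AlgInt) (X Y : Finset (IrrCharacter Q))
    (a : IrrCharacter Q → ℤ) (b : ℤ) : Prop where
  disj : Disjoint X Y
  mem : ∀ χ, χ ∈ principalBlock M Q ↔ χ ∈ X ∨ χ ∈ Y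
  nonempty : X.Nonempty
  a_ne : ∀ χ ∈ X, a χ ≠ 0
  b_ne : b ≠ 0
  val : ∀ χ ∈ X, ∀ g : Q, p ∣ orderOf g → (χ : Q → ℂ) g = (a χ : ℂ)
  valY : ∀ g : Q, p ∣ orderOf g → ∑ η ∈ Y, (η : Q → ℂ) g = (b : ℂ)
  degY : ∀ η ∈ Y, ∀ η' ∈ Y, (η : Q → ℂ) 1 = (η' : Q → ℂ) 1
  norm : (Y.card : ℤ) * ∑ χ ∈ X, a χ ^ 2 + b ^ 2 = p

theorem exists_data (hM : IsPModular p M) (P : Sylow p Q)
    (hP : Nat.card (P : Subgroup Q) = p) :
    ∃ (X Y : Finset (IrrCharacter Q)) (a : IrrCharacter Q → ℤ) (b : ℤ), Data p M X Y a b := by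
  have hp : p.Prime := Fact.out
  haveI : IsCyclic (P : Subgroup Q) := isCyclic_of_prime_card hP
  have hab : IsMulCommutative (P : Subgroup Q) :=
    ⟨⟨fun u v => (IsCyclic.commGroup (α := (P : Subgroup Q))).mul_comm u v⟩⟩
  haveI := hab
  haveI : Fintype ↥(P : Subgroup Q) := Fintype.ofFinite _
  haveI : Fintype (↥(P : Subgroup Q) →* ℂˣ) := Fintype.ofFinite _
  have hgen : ∀ y : Q, y ∈ (P : Subgroup Q) → y ≠ 1 → Subgroup.zpowers y = (P : Subgroup Q) := by
    intro y hy hy1
    refine Subgroup.eq_of_le_of_card_ge (Subgroup.zpowers_le.mpr hy) ?_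
    rw [hP, Nat.card_zpowers]
    have h := (Subgroup.orderOf_dvd_natCard _ hy).trans (dvd_of_eq hP)
    exact ((hp.eq_one_or_self_of_dvd _ h).resolve_left (by rwa [orderOf_eq_one_iff])).ge
  have hfree : BlockAbelianSylow86.FreeAction P := by
    intro y hy hy1
    refine le_antisymm (fun g hg => Subgroup.mem_centralizer_iff.mpr fun w hw => ?_)
      (le_inf (fun g hg => Subgroup.mem_centralizer_singleton_iff.mpr
        (Subgroup.mem_centralizer_iff.mp hg y hy).symm) (Subgroup.centralizer_le_normalizer _))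
    rw [SetLike.mem_coe, ← hgen y hy hy1] at hw
    obtain ⟨k, rfl⟩ := Subgroup.mem_zpowers_iff.mp hw
    exact (Commute.zpow_left (Subgroup.mem_centralizer_singleton_iff.mp hg.1).symm k).eq
  set m := (Subgroup.centralizer ((P : Subgroup Q) : Set Q)).relIndex
    (Subgroup.normalizer ((P : Subgroup Q) : Set Q)) with hm
  obtain ⟨y₀, hy₀⟩ : ∃ y₀ : ↥(P : Subgroup Q), y₀ ≠ 1 := by
    haveI : Nontrivial ↥(P : Subgroup Q) :=
      Finite.one_lt_card_iff_nontrivial.1 (by rw [hP]; exact hp.one_lt)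
    exact exists_ne _
  have hy₀' : (y₀ : Q) ≠ 1 := fun h => hy₀ (Subtype.ext h)
  -- the value at a singular element is a value on `P`
  have hsing : ∀ g : Q, p ∣ orderOf g → ∃ y : ↥(P : Subgroup Q), y ≠ 1 ∧
      ∀ χ ∈ principalBlock M Q, (χ : Q → ℂ) g = (χ : Q → ℂ) y := by
    intro g hg
    have h1 : pp p g ≠ 1 := fun h =>
      (BrauerBlocksPPart.isPPart_one_iff hp (pp_spec g)).mpr h hg
    obtain ⟨k, hk⟩ := BrauerBlocksPPart.isPEl_pPart (pp_spec (p := p) g)
    obtain ⟨R, hR⟩ := (IsPGroup.of_card (G := Subgroup.zpowers (pp p g)) (n := k)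
      (by rw [Nat.card_zpowers, hk])).exists_le_sylow
    obtain ⟨c, hc⟩ := MulAction.exists_smul_eq Q R P
    have hmem : c * pp p g * c⁻¹ ∈ (P : Subgroup Q) := by
      rw [← hc, Sylow.coe_subgroup_smul, Subgroup.mem_pointwise_smul_iff_inv_smul_mem, ← map_inv,
        MulAut.smul_def, MulAut.conj_apply, inv_inv,
        show c⁻¹ * (c * pp p g * c⁻¹) * c = pp p g by group]
      exact hR (Subgroup.mem_zpowers _)
    have hne : c * pp p g * c⁻¹ ≠ 1 := fun h => h1 (conj_eq_one_iff.mp h)
    refine ⟨⟨_, hmem⟩, fun h => hne (congrArg Subtype.val h), fun χ hχ => ?_⟩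
    rw [← irr_classFun χ g c]
    exact BlockAbelianSylow86.apply_eq hab hfree hM
      (BrauerBlocksPPart.isPPart_conj c (pp_spec (p := p) g)) hmem hne hχ
  by_cases hm2 : m + 1 < Nat.card (P : Subgroup Q)
  · obtain ⟨X, Y, a, d, δ, ζ, hδ, hdisj, hmem, hYm, hY2, honeX, -, -, -, -, hX, -, hnorm, hagree,
      hrel⟩ := BlockAbelianSylow86.structure_theorem hab hfree hM m rfl hm2
    have h1r : ¬ p ∣ orderOf (1 : Q) := by rw [orderOf_one, Nat.dvd_one]; exact hp.ne_one
    have hval : ∀ χ ∈ X, ∀ g : Q, p ∣ orderOf g → (χ : Q → ℂ) g = (a χ : ℂ) := by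
      intro χ hχ g hg
      obtain ⟨y, hy, h⟩ := hsing g hg
      rw [h χ ((hmem χ).mpr (Or.inl hχ)), (hX χ hχ).2 y hy]
    refine ⟨X, Y, a, (Y.card : ℤ) * d - δ, hdisj, hmem, ⟨_, honeX⟩, fun χ hχ => (hX χ hχ).1, ?_,
      hval, fun g hg => ?_, fun η hη η' hη' => hagree η hη η' hη' 1 h1r, ?_⟩
    · intro h
      have hd : (Y.card : ℤ) ∣ δ := ⟨d, by linarith⟩
      rcases hδ with rfl | rfl
      · have := Int.le_of_dvd one_pos hd; omega
      · have := Int.le_of_dvd one_pos (dvd_neg.mp hd); omega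
    · obtain ⟨η₀, hη₀⟩ := Finset.card_pos.mp (by omega : 0 < Y.card)
      have horth := BrauerBlocksOrth.orth_regular_singular hM (isPBlock_principal (G := Q)) h1r
        (show p ∣ orderOf g⁻¹ by rwa [orderOf_inv])
      rw [BlockTheoryIdem.finsum_mem_eq_sum, ← Finset.sum_filter,
        show Finset.univ.filter (fun χ => χ ∈ principalBlock M Q) = X ∪ Y by
          ext χ; simp [hmem], Finset.sum_union hdisj,
        Finset.sum_congr rfl (g := fun χ : IrrCharacter Q => (a χ : ℂ) * (χ : Q → ℂ) 1)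
          (fun χ hχ => by rw [irr_inv, Complex.conj_conj, hval χ hχ g hg, mul_comm]),
        Finset.sum_congr (s₁ := Y) rfl (g := fun η : IrrCharacter Q => (η₀ : Q → ℂ) 1 * (η : Q → ℂ) g)
          (fun η hη => by rw [irr_inv, Complex.conj_conj, hagree η hη η₀ hη₀ 1 h1r]),
        ← Finset.mul_sum] at horth
      have hr := hrel η₀ hη₀ 1 h1r
      refine mul_left_cancel₀ (irr_one_ne_zero η₀) ?_
      push_cast
      linear_combination horth - hr
    · have hpm : (Y.card : ℤ) * m + 1 = p := by exact_mod_cast (hP ▸ hYm)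
      have hδ2 : δ ^ 2 = 1 := by rcases hδ with rfl | rfl <;> norm_num
      linear_combination (Y.card : ℤ) * hnorm + hpm + (1 - (Y.card : ℤ)) * hδ2
  · -- one class of elements of order `p`
    let O := {y : ↥(P : Subgroup Q) // y ≠ 1}
    let f : ↥(Subgroup.normalizer ((P : Subgroup Q) : Set Q)) ⧸
        BlockAbelianSylow86.kerN P → O := fun q =>
      ⟨BlockAbelianSylow86.conjP P q.out y₀, fun h => hy₀
        ((BlockAbelianSylow86.conjP P q.out).injective (h.trans (map_one _).symm))⟩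
    have hf : Function.Injective f := by
      intro q q' h
      have h' : BlockAbelianSylow86.conjP P q.out y₀ = BlockAbelianSylow86.conjP P q'.out y₀ :=
        congrArg Subtype.val h
      rw [← q.out_eq, ← q'.out_eq]
      refine QuotientGroup.eq.mpr ((BlockAbelianSylow86.fixed_iff hab hfree hy₀ _).mp ?_)
      rw [map_mul, MulAut.mul_apply, ← h', ← MulAut.mul_apply, ← map_mul, inv_mul_cancel, map_one,
        MulAut.one_apply]
    have hO : Nat.card O + 1 = p := by
      rw [Nat.card_eq_fintype_card, Fintype.card_subtype_compl, Fintype.card_subtype_eq,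
        ← Nat.card_eq_fintype_card, hP, Nat.sub_add_cancel hp.one_le]
    have hcardq : Nat.card (↥(Subgroup.normalizer ((P : Subgroup Q) : Set Q)) ⧸
        BlockAbelianSylow86.kerN P) = m := rfl
    have hbij : Function.Bijective f := (Nat.bijective_iff_injective_and_card f).mpr
      ⟨hf, le_antisymm (Nat.card_le_card_of_injective f hf) (by rw [hcardq]; omega)⟩
    have hconst : ∀ (χ : IrrCharacter Q) (y : ↥(P : Subgroup Q)), y ≠ 1 →
        (χ : Q → ℂ) y = (χ : Q → ℂ) y₀ := by
      intro χ y hy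
      obtain ⟨q, hq⟩ := hbij.2 ⟨y, hy⟩
      rw [← irr_classFun χ (y₀ : Q) ((q.out : ↥(Subgroup.normalizer _)) : Q),
        ← BlockAbelianSylow86.conjP_coe]
      exact congrArg _ (congrArg Subtype.val (congrArg Subtype.val hq)).symm
    letI : CommGroup ↥(P : Subgroup Q) := IsCyclic.commGroup
    obtain ⟨ψ, hψ⟩ := CommGroup.exists_apply_ne_one_of_hasEnoughRootsOfUnity
      ↥(P : Subgroup Q) ℂ hy₀
    have hψ1 : ψ ≠ 1 := fun h => hψ (by rw [h, MonoidHom.one_apply])
    have hint : ∀ χ : IrrCharacter Q, ∃ n : ℤ, (χ : Q → ℂ) y₀ = (n : ℂ) := by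
      intro χ
      obtain ⟨k, hk⟩ := classInner_isCharacter
        (isCharacter_comap (P : Subgroup Q).subtype (isCharacter_of_isIrrCharacter χ.2))
        (CharBasicDecomp.isCharacter_linear ψ)
      obtain ⟨d, -, hd⟩ := isIrrCharacter_apply_one χ.2
      refine ⟨(d : ℤ) - (p : ℤ) * k, ?_⟩
      rw [classInner, hP, inv_mul_eq_iff_eq_mul₀ (Nat.cast_ne_zero.mpr hp.ne_zero)] at hk
      rw [← Finset.add_sum_erase _ _ (Finset.mem_univ (1 : ↥(P : Subgroup Q)))] at hk
      have hz := BlockAbelianSylow86.sum_apply_eq_zero hψ1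
      rw [← Finset.add_sum_erase _ _ (Finset.mem_univ (1 : ↥(P : Subgroup Q))), map_one,
        Units.val_one] at hz
      have hsum : ∑ y ∈ Finset.univ.erase (1 : ↥(P : Subgroup Q)),
          ((χ : Q → ℂ) ∘ (P : Subgroup Q).subtype) y * conj ((ψ y : ℂ)) =
            (χ : Q → ℂ) y₀ * conj (∑ y ∈ Finset.univ.erase (1 : ↥(P : Subgroup Q)), (ψ y : ℂ)) := by
        rw [map_sum, Finset.mul_sum]
        exact Finset.sum_congr rfl fun y hy => by
          simp only [Function.comp_apply, Subgroup.subtype_apply, hconst χ y (Finset.ne_of_mem_erase hy)]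
      rw [hsum, eq_neg_of_add_eq_zero_right hz] at hk
      simp only [Function.comp_apply, map_one, Units.val_one, map_neg, mul_one, hd] at hk
      push_cast
      linear_combination -hk
    choose a ha using hint
    have hval : ∀ χ ∈ principalBlock M Q, ∀ g : Q, p ∣ orderOf g → (χ : Q → ℂ) g = (a χ : ℂ) := by
      intro χ hχ g hg
      obtain ⟨y, hy, h⟩ := hsing g hg
      rw [h χ hχ, hconst χ y hy, ha χ]
    set W := Finset.univ.filter (fun χ : IrrCharacter Q => χ ∈ principalBlock M Q) with hW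
    have hone : oneChar Q ∈ W := by simp [hW, oneChar_mem hM]
    have ha1 : a (oneChar Q) = 1 := by
      have := ha (oneChar Q)
      simp only [oneChar] at this ⊢
      exact_mod_cast this.symm
    have hsq : ∑ χ ∈ W, a χ ^ 2 = (p : ℤ) := by
      have h := BlockAbelianSylow86.column hab hfree hM y₀.2 hy₀' y₀.2 hy₀'
      rw [if_pos ⟨1, one_mem _, by group⟩, hP, ← Finset.sum_filter, ← hW,
        Finset.sum_congr rfl (g := fun χ : IrrCharacter Q => ((a χ ^ 2 : ℤ) : ℂ)) (fun χ _ => by
          rw [ha χ, map_intCast]; push_cast; ring), ← Int.cast_sum] at h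
      exact_mod_cast h
    have hX : ∑ χ ∈ W.erase (oneChar Q), a χ ^ 2 + 1 = (p : ℤ) := by
      rw [← hsq, ← Finset.add_sum_erase W _ hone, ha1]
      ring
    refine ⟨W.erase (oneChar Q), {oneChar Q}, a, 1, ?_, fun χ => ?_, ?_, fun χ hχ h0 => ?_,
      one_ne_zero, fun χ hχ g hg => hval χ (Finset.mem_filter.mp (Finset.mem_of_mem_erase hχ)).2 g hg,
      fun g _ => ?_, fun η hη η' hη' => ?_, ?_⟩
    · exact Finset.disjoint_singleton_right.mpr (Finset.notMem_erase _ _)
    · by_cases h : χ = oneChar Q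
      · simp [h, oneChar_mem hM]
      · simp [h, hW]
    · refine Finset.nonempty_iff_ne_empty.mpr fun h => ?_
      rw [h, Finset.sum_empty] at hX
      have := hp.two_le
      omega
    · obtain ⟨φ, hφ⟩ := BlockAbelianSylow86.exists_mult_ne_zero hab hfree hM
        (by rw [hP]; exact hp.ne_one) (Finset.mem_filter.mp (Finset.mem_of_mem_erase hχ)).2
      refine hφ ?_
      have h := BlockAbelianSylow86.mult_spec P χ φ
      rw [BlockAbelianSylow86.multC, Finset.sum_eq_zero, mul_zero] at h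
      · exact_mod_cast h.symm
      · intro y _
        by_cases hy : y = 1
        · simp [hy]
        · rw [hconst χ y hy, ha χ, h0, Int.cast_zero, zero_mul]
    · simp [oneChar]
    · rw [Finset.mem_singleton.mp hη, Finset.mem_singleton.mp hη']
    · rw [Finset.card_singleton]
      push_cast
      linarith

end Prime

/-! ### The centralizer -/

section Centralizer

variable {G : Type*} [Group G] [Fintype G] {u : G} {H : Subgroup G} [Fintype H]

/-- Membership of a summand of the section of `u` in the principal block of the centralizer. -/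
theorem eq_principal_of_induced (hM : IsPModular p M) {ψ : IrrCharacter H}
    (h : IsInducedBlock M H (blockOf M (ψ : H → ℂ)) (principalBlock M G)) :
    ψ ∈ principalBlock M H :=
  (ZStarSection.principal_iff_of_induced hM h).mpr rfl ▸ self_mem_blockOf hM ψ

/-- Values at `p`-elements of characters of degree prime to `p` do not vanish. -/
theorem apply_ne_zero (hM : IsPModular p M) (hu : ∃ k, orderOf u = p ^ k)
    (hH : ∀ g, g ∈ H ↔ Commute u g) (χ : IrrCharacter G)
    (hd : ¬ p ∣ charDegree (χ : G → ℂ)) : (χ : G → ℂ) u ≠ 0 := by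
  intro h0
  obtain ⟨k, hk⟩ := hu
  set z : H := ⟨u, (hH u).2 (Commute.refl u)⟩ with hz
  have hzc : z ∈ Subgroup.center H :=
    Subgroup.mem_center_iff.2 fun g => Subtype.ext ((hH g).1 g.2).eq.symm
  have hzk : z ^ p ^ k = 1 := Subtype.ext (by rw [← hk]; exact pow_orderOf_eq_one u)
  have h : MemLocalIdeal M ((χ : G → ℂ) u - (χ : G → ℂ) 1) := by
    rw [show (χ : G → ℂ) u = (χ : G → ℂ) ((z * 1 : H) : G) by rw [mul_one],
      show (χ : G → ℂ) 1 = (χ : G → ℂ) ((1 : H) : G) from rfl, S4716.apply_eq_sum,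
      S4716.apply_eq_sum, ← Finset.sum_sub_distrib]
    refine ideal_sum hM fun ξ _ => ?_
    rw [S4716.lam_mul hzc, show (S4716.mult χ ξ : ℂ) * (S4716.lam z ξ * (ξ : H → ℂ) 1) -
      (S4716.mult χ ξ : ℂ) * (ξ : H → ℂ) 1 = ((S4716.mult χ ξ : ℂ) * (ξ : H → ℂ) 1) *
        (S4716.lam z ξ - 1) by ring]
    refine ideal_mul_left hM ((localRing hM).mul_mem (natCast_mem (localRing hM) _)
      (by rw [ClassAlgebraVal.apply_one_eq_charDegree ξ]; exact natCast_mem (localRing hM) _)) (S4716.root_congr_one hM (k := k) ?_)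
    rw [← S4716.lam_pow hzc, hzk, S4716.lam, div_self (irr_one_ne_zero ξ)]
  rw [h0, zero_sub] at h
  have h1 := ideal_neg h
  rw [neg_neg, ClassAlgebraVal.apply_one_eq_charDegree χ, natCast_mem_iff hM] at h1
  exact hd h1

/-- The roots of unity by which the powers of `u` act. -/
theorem exists_exponents {k : ℕ} (hk : orderOf u = p ^ (k + 1))
    (hH : ∀ g, g ∈ H ↔ Commute u g) :
    ∃ (ω : ℂ) (e : IrrCharacter H → ℕ), IsPrimitiveRoot ω (p ^ (k + 1)) ∧
      ∀ (χ : IrrCharacter G) (j : ℕ) (c : H), (χ : G → ℂ) (u ^ j * c) =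
        ∑ ξ : IrrCharacter H, (S4716.mult χ ξ : ℂ) * (ω ^ (e ξ * j) * (ξ : H → ℂ) c) := by
  have hp : p.Prime := Fact.out
  set z : H := ⟨u, (hH u).2 (Commute.refl u)⟩ with hz
  have hzc : z ∈ Subgroup.center H :=
    Subgroup.mem_center_iff.2 fun g => Subtype.ext ((hH g).1 g.2).eq.symm
  have hzk : z ^ p ^ (k + 1) = 1 := Subtype.ext (by rw [← hk]; exact pow_orderOf_eq_one u)
  have hN : p ^ (k + 1) ≠ 0 := pow_ne_zero _ hp.ne_zero
  haveI : NeZero (p ^ (k + 1)) := ⟨hN⟩
  obtain ⟨ω, hω⟩ : ∃ ω : ℂ, IsPrimitiveRoot ω (p ^ (k + 1)) :=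
    ⟨_, Complex.isPrimitiveRoot_exp _ hN⟩
  have hl : ∀ ξ : IrrCharacter H, ∃ a < p ^ (k + 1), ω ^ a = S4716.lam z ξ := fun ξ =>
    hω.eq_pow_of_pow_eq_one (by
      rw [← S4716.lam_pow hzc, hzk, S4716.lam, div_self (irr_one_ne_zero ξ)])
  choose e _ he using hl
  refine ⟨ω, e, hω, fun χ j c => ?_⟩
  rw [show u ^ j * (c : G) = ((z ^ j * c : H) : G) from rfl, S4716.apply_eq_sum]
  refine Finset.sum_congr rfl fun ξ _ => ?_
  rw [S4716.lam_mul (pow_mem hzc j), S4716.lam_pow hzc, ← he ξ, pow_mul]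

/-- A power generating the same subgroup has the same centralizer. -/
theorem pow_data {k : ℕ} (hk : orderOf u = p ^ (k + 1))
    (hH : ∀ g, g ∈ H ↔ Commute u g) {j : ℕ} (hj : ¬ p ∣ j) :
    (∃ i, orderOf (u ^ j) = p ^ i) ∧ ∀ g, g ∈ H ↔ Commute (u ^ j) g := by
  have hcop : (orderOf u).Coprime j :=
    hk ▸ ((Fact.out : p.Prime).coprime_iff_not_dvd.2 hj).pow_left _
  obtain ⟨r, hr⟩ := exists_pow_eq_self_of_coprime hcop.symm
  refine ⟨⟨k + 1, by rw [Nat.Coprime.orderOf_pow hcop, hk]⟩, fun g => ?_⟩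
  rw [hH]
  exact ⟨fun h => h.pow_left j, fun h => by rw [← hr]; exact h.pow_left r⟩

/-- The first case: the centralizer of `u` has a normal `p`-complement of small index. -/
theorem card_le_index (hM : IsPModular p M) {k : ℕ} (hk : orderOf u = p ^ (k + 1))
    (hH : ∀ g, g ∈ H ↔ Commute u g) (K : Subgroup H) [K.Normal] (hK : ¬ p ∣ Nat.card K) :
    Nat.card {χ : IrrCharacter G // χ ∈ principalBlock M G ∧ ¬ p ∣ charDegree (χ : G → ℂ)} ≤
      K.index := by
  have hp : p.Prime := Fact.out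
  set S := Finset.univ.filter
    (fun χ : IrrCharacter G => χ ∈ principalBlock M G ∧ ¬ p ∣ charDegree (χ : G → ℂ)) with hS
  obtain ⟨ω, e, hω, he⟩ := exists_exponents (H := H) hk hH
  set J := (Finset.range (p ^ (k + 1))).filter fun j => ¬ p ∣ j with hJ
  have hJpos : (0 : ℝ) < J.card := by
    refine Nat.cast_pos.2 (Finset.card_pos.2 ⟨1, ?_⟩)
    rw [hJ, Finset.mem_filter, Finset.mem_range]
    exact ⟨Nat.one_lt_pow k.succ_ne_zero hp.one_lt, hp.not_dvd_one⟩
  have h1r : ¬ p ∣ orderOf (1 : H) := by rw [orderOf_one, Nat.dvd_one]; exact hp.ne_one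
  have hlow : ∀ χ ∈ S, (J.card : ℝ) ≤ ∑ j ∈ J, Complex.normSq ((χ : G → ℂ) (u ^ j)) := by
    intro χ hχ
    have hexp : ∀ j, (χ : G → ℂ) (u ^ j) = ∑ ξ : IrrCharacter H,
        (((S4716.mult χ ξ * charDegree (ξ : H → ℂ) : ℕ) : ℤ) : ℂ) * ω ^ (e ξ * j) := by
      intro j
      have h := he χ j 1
      rw [OneMemClass.coe_one, mul_one] at h
      rw [h]
      refine Finset.sum_congr rfl fun ξ _ => ?_
      rw [ClassAlgebraVal.apply_one_eq_charDegree ξ]
      push_cast
      ring
    simp only [hexp]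
    refine BlockContribRoots.card_le_sum_normSq _ _ e hp hω fun h0 => ?_
    refine apply_ne_zero hM ⟨_, hk⟩ hH χ (Finset.mem_filter.mp hχ).2.2 ?_
    have h := hexp 1
    simp only [mul_one, pow_one] at h
    rw [h, h0]
  have hup : ∀ j ∈ J, ∑ χ ∈ S, Complex.normSq ((χ : G → ℂ) (u ^ j)) ≤ (K.index : ℝ) := by
    intro j hj
    obtain ⟨hv, hHj⟩ := pow_data hk hH (Finset.mem_filter.mp hj).2
    have hsec := BlockContribSection.sum_block_section hHj hM hv
      (isPBlock_principal (G := G)) h1r h1r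
    calc ∑ χ ∈ S, Complex.normSq ((χ : G → ℂ) (u ^ j))
        ≤ ∑ χ : IrrCharacter G,
            if χ ∈ principalBlock M G then Complex.normSq ((χ : G → ℂ) (u ^ j)) else 0 := by
          rw [← Finset.sum_filter]
          exact Finset.sum_le_sum_of_subset_of_nonneg
            (fun χ hχ => Finset.mem_filter.mpr ⟨Finset.mem_univ _, (Finset.mem_filter.mp hχ).2.1⟩)
            (fun χ _ _ => Complex.normSq_nonneg _)
      _ = ∑ ψ : IrrCharacter H,
            if IsInducedBlock M H (blockOf M (ψ : H → ℂ)) (principalBlock M G)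
            then ((charDegree (ψ : H → ℂ) : ℝ)) ^ 2 else 0 := by
          apply Complex.ofReal_injective
          push_cast
          refine Eq.trans ?_ (Eq.trans hsec ?_)
          · refine Finset.sum_congr rfl fun χ _ => ?_
            split_ifs
            · rw [OneMemClass.coe_one, mul_one, ← Complex.mul_conj]
            · simp
          · refine Finset.sum_congr rfl fun ψ _ => ?_
            split_ifs
            · rw [ClassAlgebraVal.apply_one_eq_charDegree ψ, map_natCast]; push_cast; ring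
            · simp
      _ ≤ ∑ ψ : IrrCharacter H,
            if (∀ n ∈ K, (ψ : H → ℂ) n = (ψ : H → ℂ) 1)
            then ((charDegree (ψ : H → ℂ) : ℝ)) ^ 2 else 0 := by
          refine Finset.sum_le_sum fun ψ _ => ?_
          by_cases h : IsInducedBlock M H (blockOf M (ψ : H → ℂ)) (principalBlock M G)
          · rw [if_pos h, if_pos (show ∀ n ∈ K, (ψ : H → ℂ) n = (ψ : H → ℂ) 1 from
              BlockTheoryNormal.blockOf_subset_trivialOn K hM hK
              (χ := oneChar H) (fun _ _ => rfl) (eq_principal_of_induced hM h))]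
          · rw [if_neg h]; split_ifs <;> positivity
      _ = (K.index : ℝ) := by
          have h := CharKernel.sum_sq_trivial_on K
          rw [← Finset.sum_subtype (p := fun ψ : IrrCharacter H =>
              ∀ n ∈ K, (ψ : H → ℂ) n = (ψ : H → ℂ) 1) (Finset.univ.filter fun ψ : IrrCharacter H =>
              ∀ n ∈ K, (ψ : H → ℂ) n = (ψ : H → ℂ) 1) (fun ψ => by simp)
            (fun ψ : IrrCharacter H => charDegree (ψ : H → ℂ) ^ 2)] at h
          rw [← Finset.sum_filter, ← h]
          push_cast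
          rfl
  have htot : (S.card : ℝ) * J.card ≤ (J.card : ℝ) * K.index :=
    calc (S.card : ℝ) * J.card = ∑ _χ ∈ S, (J.card : ℝ) := by rw [Finset.sum_const, nsmul_eq_mul]
      _ ≤ ∑ χ ∈ S, ∑ j ∈ J, Complex.normSq ((χ : G → ℂ) (u ^ j)) := Finset.sum_le_sum hlow
      _ = ∑ j ∈ J, ∑ χ ∈ S, Complex.normSq ((χ : G → ℂ) (u ^ j)) := Finset.sum_comm
      _ ≤ ∑ _j ∈ J, (K.index : ℝ) := Finset.sum_le_sum hup
      _ = _ := by rw [Finset.sum_const, nsmul_eq_mul]
  rw [mul_comm] at htot
  have h := le_of_mul_le_mul_left htot hJpos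
  rw [Nat.card_eq_fintype_card, Fintype.card_subtype, ← hS]
  exact_mod_cast h

set_option maxHeartbeats 3200000 in
/-- The second case: `|C(u)|_p = p ^ 2` and `u` has order `p`. -/
theorem card_le_sq (hM : IsPModular p M) (hu : orderOf u = p)
    (hH : ∀ g, g ∈ H ↔ Commute u g) (hcard : (Nat.card H).factorization p = 2) :
    Nat.card {χ : IrrCharacter G // χ ∈ principalBlock M G ∧ ¬ p ∣ charDegree (χ : G → ℂ)} ≤
      p ^ 2 := by
  have hp : p.Prime := Fact.out
  set z : H := ⟨u, (hH u).2 (Commute.refl u)⟩ with hz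
  have hzc : z ∈ Subgroup.center H :=
    Subgroup.mem_center_iff.2 fun g => Subtype.ext ((hH g).1 g.2).eq.symm
  set Z := Subgroup.zpowers z with hZdef
  have hZc : Z ≤ Subgroup.center H := Subgroup.zpowers_le.mpr hzc
  haveI : Z.Normal := ⟨fun w hw g => by
    rwa [Subgroup.mem_center_iff.1 (hZc hw) g, mul_inv_cancel_right]⟩
  have hzo : orderOf z = p := by rw [hz, Subgroup.orderOf_mk, hu]
  have hZcard : Nat.card Z = p := by rw [hZdef, Nat.card_zpowers, hzo]
  have hZp : IsPGroup p Z := IsPGroup.of_card (n := 1) (by rw [hZcard, pow_one])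
  haveI : Fintype (H ⧸ Z) := Fintype.ofFinite _
  have hHq : Nat.card H = p * Nat.card (H ⧸ Z) := by
    rw [Subgroup.card_eq_card_quotient_mul_card_subgroup Z, hZcard, mul_comm]
  obtain ⟨P⟩ : Nonempty (Sylow p (H ⧸ Z)) := Sylow.nonempty
  have hP : Nat.card (P : Subgroup (H ⧸ Z)) = p := by
    have h := P.card_eq_multiplicity
    rw [hHq, Nat.factorization_mul hp.ne_zero Nat.card_pos.ne', Finsupp.add_apply,
      hp.factorization_self] at hcard
    rw [h, show (Nat.card (H ⧸ Z)).factorization p = 1 by omega, pow_one]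
  obtain ⟨X, Y, a, b, D⟩ := exists_data hM P hP
  -- pairing with a vector of the quotient
  set R := Finset.univ.filter (fun c : H => ¬ p ∣ orderOf c) with hR
  have hRmem : ∀ c, c ∈ R ↔ ¬ p ∣ orderOf c := fun c => by simp [hR]
  have hq0 : (Nat.card (H ⧸ Z) : ℂ) ≠ 0 := Nat.cast_ne_zero.mpr Nat.card_pos.ne'
  let pr : (H → ℂ) → (H ⧸ Z → ℂ) → ℂ := fun f v =>
    (Nat.card (H ⧸ Z) : ℂ)⁻¹ * ∑ c ∈ R, f c * conj (v (c : H ⧸ Z))
  let sh : ℕ → IrrCharacter G → H → ℂ := fun j χ c => (χ : G → ℂ) (u ^ j * c)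
  have hsplit : ∀ F : H ⧸ Z → ℂ, (∀ q, p ∣ orderOf q → F q = 0) →
      ∑ c ∈ R, F (c : H ⧸ Z) = ∑ q, F q := by
    intro F hF
    refine Finset.sum_bij_ne_zero (fun c _ _ => (c : H ⧸ Z)) (fun c _ _ => Finset.mem_univ _)
      (fun c hc _ c' hc' _ h => ?_) (fun q _ hq => ?_) (fun c _ _ => rfl)
    · have hw : c⁻¹ * c' ∈ Z := QuotientGroup.eq.mp h
      refine ((BlockCentral81.split_unique hZc hZp (u := c⁻¹ * c') (r := c) (u' := 1) (r' := c')
        hw Z.one_mem ((hRmem c).mp hc) ((hRmem c').mp hc') ?_).2)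
      rw [one_mul, ← Subgroup.mem_center_iff.mp (hZc hw) c, mul_inv_cancel_left]
    · obtain ⟨c, rfl⟩ := QuotientGroup.mk_surjective q
      obtain ⟨w, hw, r, hr, rfl⟩ := BlockCentral81.exists_split_of_quot (Z := Z) (p := p)
        (g := c) (fun h => hq (hF _ h))
      have e : ((w * r : H) : H ⧸ Z) = (r : H ⧸ Z) := by
        rw [QuotientGroup.mk_mul, (QuotientGroup.eq_one_iff w).mpr hw, one_mul]
      exact ⟨r, (hRmem r).mpr hr, by rw [← e]; exact hq, e.symm⟩
  -- integrality and size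
  have hint : ∀ (ξ : IrrCharacter H) (n : IrrCharacter (H ⧸ Z) → ℤ)
      (_ : ∀ q : H ⧸ Z, p ∣ orderOf q → ∑ φ, (n φ : ℂ) * (φ : H ⧸ Z → ℂ) q = 0),
      ∃ N : ℤ, pr (ξ : H → ℂ) (fun q => ∑ φ, (n φ : ℂ) * (φ : H ⧸ Z → ℂ) q) = (N : ℂ) := by
    intro ξ n hn
    set v := fun q : H ⧸ Z => ∑ φ, (n φ : ℂ) * (φ : H ⧸ Z → ℂ) q with hv
    have hone : ∀ φ : IrrCharacter (H ⧸ Z), ∃ N : ℤ,
        classInner (fun c : H => (ξ : H → ℂ) ((pp p c)⁻¹ * c))
          ((φ : H ⧸ Z → ℂ) ∘ QuotientGroup.mk' Z) = (N : ℂ) := fun φ =>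
      classInner_isGeneralizedCharacter (isGeneralizedCharacter_regPart ξ)
        (isGeneralizedCharacter_of_isCharacter
          (isCharacter_comap (QuotientGroup.mk' Z) (isCharacter_of_isIrrCharacter φ.2)))
    choose N hN using hone
    refine ⟨∑ φ, n φ * N φ, ?_⟩
    push_cast
    simp only [← hN, classInner, Finset.mul_sum]
    rw [Finset.sum_comm]
    have h := BlockCentral81.sum_eq_card_mul hZc hZp
      (fun c : H => (ξ : H → ℂ) ((pp p c)⁻¹ * c) * conj (v (c : H ⧸ Z))) ?_ ?_
    · rw [hZcard] at h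
      have hreg : ∀ c ∈ R, (ξ : H → ℂ) ((pp p c)⁻¹ * c) = (ξ : H → ℂ) c := fun c hc => by
        rw [pp_eq (BrauerBlocksPPart.isPPart_of_regular hp ((hRmem c).mp hc)), inv_one, one_mul]
      rw [← hR, Finset.sum_congr (s₁ := R) rfl fun c hc => by rw [hreg c hc]] at h
      simp only [pr]
      refine Eq.trans (b := (Nat.card H : ℂ)⁻¹ *
        ∑ c, (ξ : H → ℂ) ((pp p c)⁻¹ * c) * conj (v (c : H ⧸ Z))) ?_ ?_
      · rw [h, hHq, Nat.cast_mul]
        have : (p : ℂ) ≠ 0 := Nat.cast_ne_zero.mpr hp.ne_zero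
        field_simp
      · rw [Finset.mul_sum]
        refine Finset.sum_congr rfl fun c _ => ?_
        simp only [hv, map_sum, map_mul, map_intCast, Finset.mul_sum, Function.comp_apply,
          QuotientGroup.mk'_apply]
        exact Finset.sum_congr rfl fun φ _ => by ring
    · intro w hw c
      obtain ⟨y, hxy, hc, ⟨i, hi⟩, hy⟩ := pp_spec (p := p) c
      have hwcom : ∀ d, Commute w d := fun d => (Subgroup.mem_center_iff.1 (hZc hw) d).symm
      obtain ⟨l, hl⟩ := BlockCentral81.isPEl_coe hZp hw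
      have hwx : ∃ l', orderOf (w * pp p c) = p ^ l' := by
        refine BrauerBlocksPPart.isPEl_of_pow_eq_one hp (k := l + i) ?_
        rw [(hwcom _).mul_pow, pow_add, pow_mul, ← hl, pow_orderOf_eq_one, one_pow, mul_comm,
          pow_mul, ← hi, pow_orderOf_eq_one, one_pow, mul_one]
      have hpw : pp p (w * c) = w * pp p c :=
        pp_eq ⟨y, by rw [mul_assoc, hxy], (hwcom y).mul_left hc, hwx, hy⟩
      show (ξ : H → ℂ) _ * _ = (ξ : H → ℂ) _ * _
      rw [hpw, mul_inv_rev, mul_assoc, inv_mul_cancel_left, QuotientGroup.mk_mul,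
        (QuotientGroup.eq_one_iff w).mpr hw, one_mul]
    · intro c hc
      exact BlockCentral81.exists_split_of_quot fun h => hc (by
        simp only [hv, hn _ h, map_zero, mul_zero])
  have henergy : ∀ j : ℕ, ¬ p ∣ j → ∀ n : IrrCharacter (H ⧸ Z) → ℤ,
      (∀ q : H ⧸ Z, p ∣ orderOf q → ∑ φ, (n φ : ℂ) * (φ : H ⧸ Z → ℂ) q = 0) →
      ∑ χ ∈ BlockContribBounds.members (principalBlock M G),
          Complex.normSq (pr (sh j χ) (fun q => ∑ φ, (n φ : ℂ) * (φ : H ⧸ Z → ℂ) q)) ≤
        (p : ℝ) * ∑ φ, ((n φ : ℤ) : ℝ) ^ 2 := by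
    intro j hj n hn
    set v := fun q : H ⧸ Z => ∑ φ, (n φ : ℂ) * (φ : H ⧸ Z → ℂ) q with hv
    obtain ⟨hvj, hHj⟩ := pow_data (k := 0) (by rw [hu, zero_add, pow_one]) hH hj
    set Φ := fun c : H => if p ∣ orderOf c then 0 else (p : ℂ) * v (c : H ⧸ Z) with hΦ
    have hΦc : IsClassFunction H Φ := by
      intro g c
      have ho : orderOf (c * g * c⁻¹) = orderOf g := (MulAut.conj c).orderOf_eq g
      simp only [hΦ, hv, ho, QuotientGroup.mk_mul, QuotientGroup.mk_inv, irr_classFun _ _]
    have hexp := eq_sum_classInner hΦc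
    have hcoef : ∀ ψ : IrrCharacter H, classInner Φ (ψ : H → ℂ) = conj (pr (ψ : H → ℂ) v) := by
      intro ψ
      simp only [classInner, pr, map_mul, map_inv₀, map_natCast, map_sum, Complex.conj_conj, hR,
        Finset.sum_filter, Finset.mul_sum]
      refine Finset.sum_congr rfl fun c _ => ?_
      by_cases hc : p ∣ orderOf c
      · simp [hΦ, hc]
      · have : (p : ℂ) ≠ 0 := Nat.cast_ne_zero.mpr hp.ne_zero
        simp only [hΦ, if_neg hc, if_pos hc, hHq, Nat.cast_mul]
        field_simp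
        rw [map_mul, Complex.conj_conj]
        ring
    have hkey : ∑ χ ∈ BlockContribBounds.members (principalBlock M G),
        pr (sh j χ) v * conj (pr (sh j χ) v) =
        ∑ ψ : IrrCharacter H,
          if IsInducedBlock M H (blockOf M (ψ : H → ℂ)) (principalBlock M G)
          then pr (ψ : H → ℂ) v * conj (pr (ψ : H → ℂ) v) else 0 := by
      have hs := fun s t (hs : s ∈ R) (ht : t ∈ R) => BlockContribSection.sum_block_section hHj hM
        hvj (isPBlock_principal (G := G)) ((hRmem s).mp hs) ((hRmem t).mp ht)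
      calc _ = (Nat.card (H ⧸ Z) : ℂ)⁻¹ * (Nat.card (H ⧸ Z) : ℂ)⁻¹ * ∑ s ∈ R, ∑ t ∈ R,
            conj (v (s : H ⧸ Z)) * v (t : H ⧸ Z) * ∑ χ : IrrCharacter G,
              (if χ ∈ principalBlock M G then
                (χ : G → ℂ) (u ^ j * s) * conj ((χ : G → ℂ) (u ^ j * t)) else 0) := by
            rw [show BlockContribBounds.members (principalBlock M G) = Finset.univ.filter
              (fun χ => χ ∈ principalBlock M G) by ext χ; simp [BlockContribBounds.members],
              Finset.sum_filter]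
            simp only [pr, sh, map_mul, map_inv₀, map_natCast, map_sum, Complex.conj_conj,
              Finset.mul_sum, Finset.sum_mul, mul_ite, mul_zero]
            symm
            refine (Finset.sum_congr rfl fun s _ => Finset.sum_comm).trans ?_
            rw [Finset.sum_comm]
            refine Finset.sum_congr rfl fun χ _ => ?_
            split_ifs
            · rw [Finset.sum_comm]
              exact Finset.sum_congr rfl fun s _ => Finset.sum_congr rfl fun t _ => by ring
            · simp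
        _ = (Nat.card (H ⧸ Z) : ℂ)⁻¹ * (Nat.card (H ⧸ Z) : ℂ)⁻¹ * ∑ s ∈ R, ∑ t ∈ R,
            conj (v (s : H ⧸ Z)) * v (t : H ⧸ Z) * ∑ ψ : IrrCharacter H,
              (if IsInducedBlock M H (blockOf M (ψ : H → ℂ)) (principalBlock M G) then
                (ψ : H → ℂ) s * conj ((ψ : H → ℂ) t) else 0) := by
            congr 1
            exact Finset.sum_congr rfl fun s hs' => Finset.sum_congr rfl fun t ht' => by
              rw [hs s t hs' ht']
        _ = _ := by
            simp only [pr, map_mul, map_inv₀, map_natCast, map_sum, Complex.conj_conj,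
              Finset.mul_sum, Finset.sum_mul, mul_ite, mul_zero]
            refine (Finset.sum_congr rfl fun s _ => Finset.sum_comm).trans ?_
            rw [Finset.sum_comm]
            refine Finset.sum_congr rfl fun χ _ => ?_
            split_ifs
            · rw [Finset.sum_comm]
              exact Finset.sum_congr rfl fun s _ => Finset.sum_congr rfl fun t _ => by ring
            · simp
    have hnormΦ : ∑ ψ : IrrCharacter H, pr (ψ : H → ℂ) v * conj (pr (ψ : H → ℂ) v) =
        (p : ℂ) * ∑ φ, ((n φ : ℂ)) ^ 2 := by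
      have h1 : classInner Φ Φ =
          ∑ ψ : IrrCharacter H, pr (ψ : H → ℂ) v * conj (pr (ψ : H → ℂ) v) := by
        conv_lhs => arg 2; rw [hexp]
        rw [classInner_sum_right]
        refine Finset.sum_congr rfl fun ψ _ => ?_
        rw [classInner_smul_right, hcoef, Complex.conj_conj]
      have h2 : classInner Φ Φ = (p : ℂ) * classInner v v := by
        simp only [classInner]
        rw [← hsplit (fun q => v q * conj (v q)) (fun q hq => by
          simp only [hv, hn q hq, zero_mul]), hR, Finset.sum_filter, hHq, Finset.mul_sum,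
          Finset.mul_sum, Finset.mul_sum]
        refine Finset.sum_congr rfl fun c _ => ?_
        by_cases hc : p ∣ orderOf c
        · simp [hΦ, hc]
        · have : (p : ℂ) ≠ 0 := Nat.cast_ne_zero.mpr hp.ne_zero
          simp only [hΦ, if_neg hc, if_pos hc, map_mul, map_natCast, Nat.cast_mul]
          field_simp
      rw [← h1, h2]
      congr 1
      have hvsum : v = ∑ φ : IrrCharacter (H ⧸ Z), (n φ : ℂ) • (φ : H ⧸ Z → ℂ) := by
        funext q; simp [hv, Finset.sum_apply]
      rw [hvsum, classInner_sum_left]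
      refine Finset.sum_congr rfl fun φ _ => ?_
      rw [classInner_smul_left, classInner_sum_right, Finset.sum_eq_single φ]
      · rw [classInner_smul_right, classInner_irr_self φ.2, map_intCast]; ring
      · intro φ' _ hne
        rw [classInner_smul_right,
          classInner_irr_ne φ.2 φ'.2 fun e => hne (Subtype.ext e).symm, mul_zero]
      · simp
    calc ∑ χ ∈ BlockContribBounds.members (principalBlock M G), Complex.normSq (pr (sh j χ) v)
        = ∑ ψ : IrrCharacter H,
            if IsInducedBlock M H (blockOf M (ψ : H → ℂ)) (principalBlock M G)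
            then Complex.normSq (pr (ψ : H → ℂ) v) else 0 := by
          apply Complex.ofReal_injective
          push_cast
          simp only [← Complex.mul_conj]
          rw [hkey]
          exact Finset.sum_congr rfl fun ψ _ => by split_ifs <;> simp [Complex.mul_conj]
      _ ≤ ∑ ψ : IrrCharacter H, Complex.normSq (pr (ψ : H → ℂ) v) :=
          Finset.sum_le_sum fun ψ _ => by
            split_ifs
            · exact le_rfl
            · exact Complex.normSq_nonneg _
      _ = (p : ℝ) * ∑ φ, ((n φ : ℤ) : ℝ) ^ 2 := by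
          apply Complex.ofReal_injective
          push_cast
          simp only [← Complex.mul_conj]
          exact hnormΦ
  -- the vectors
  let ind : IrrCharacter (H ⧸ Z) → IrrCharacter (H ⧸ Z) → ℤ := fun χ φ => if φ = χ then 1 else 0
  let indY : IrrCharacter (H ⧸ Z) → ℤ := fun φ => if φ ∈ Y then 1 else 0
  let vec : IrrCharacter (H ⧸ Z) × IrrCharacter (H ⧸ Z) → IrrCharacter (H ⧸ Z) → ℤ := fun w φ =>
    if w.1 = w.2 then b * ind w.1 φ - a w.1 * indY φ
    else a w.2 * ind w.1 φ - a w.1 * ind w.2 φ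
  let V : IrrCharacter (H ⧸ Z) × IrrCharacter (H ⧸ Z) → H ⧸ Z → ℂ := fun w q =>
    ∑ φ, (vec w φ : ℂ) * (φ : H ⧸ Z → ℂ) q
  have hVdiag : ∀ x q, V (x, x) q = (b : ℂ) * (x : H ⧸ Z → ℂ) q -
      (a x : ℂ) * ∑ η ∈ Y, (η : H ⧸ Z → ℂ) q := by
    intro x q
    simp [V, vec, ind, indY, sub_mul, Finset.sum_sub_distrib, Finset.mul_sum, ite_mul, mul_ite]
  have hVoff : ∀ x y, x ≠ y → ∀ q, V (x, y) q = (a y : ℂ) * (x : H ⧸ Z → ℂ) q -
      (a x : ℂ) * (y : H ⧸ Z → ℂ) q := by
    intro x y hxy q
    simp [V, vec, ind, hxy, sub_mul, Finset.sum_sub_distrib, ite_mul, mul_ite]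
  have hvan : ∀ w ∈ X ×ˢ X, ∀ q : H ⧸ Z, p ∣ orderOf q → V w q = 0 := by
    rintro ⟨x, y⟩ hw q hq
    obtain ⟨hx, hy⟩ := Finset.mem_product.mp hw
    by_cases hxy : x = y
    · subst hxy; rw [hVdiag, D.val x hx q hq, D.valY q hq]; ring
    · rw [hVoff x y hxy, D.val x hx q hq, D.val y hy q hq]; ring
  have hsize2 : 2 * ∑ x ∈ X, ∑ φ, vec (x, x) φ ^ 2 + ∑ x ∈ X, ∑ y ∈ X.erase x, ∑ φ, vec (x, y) φ ^ 2
      ≤ 2 * (X.card : ℤ) * p := by
    have h1 : ∀ x ∈ X, ∑ φ, vec (x, x) φ ^ 2 = b ^ 2 + (Y.card : ℤ) * a x ^ 2 := by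
      intro x hx
      have hxY : x ∉ Y := Finset.disjoint_left.mp D.disj hx
      have hterm : ∀ φ, vec (x, x) φ ^ 2 =
          b ^ 2 * ind x φ + a x ^ 2 * indY φ := by
        intro φ
        simp only [vec, ind, indY, if_true]
        by_cases hφ : φ = x
        · subst hφ; simp [hxY]
        · by_cases hφY : φ ∈ Y <;> simp [hφ, hφY]
      simp only [hterm, Finset.sum_add_distrib, ind, indY, ← Finset.mul_sum, Finset.sum_ite_eq',
        Finset.mem_univ, if_true, Finset.sum_boole, Finset.filter_mem_eq_inter, Finset.univ_inter]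
      push_cast
      ring
    have h2 : ∀ x y, x ≠ y → ∑ φ, vec (x, y) φ ^ 2 = a y ^ 2 + a x ^ 2 := by
      intro x y hxy
      have hterm : ∀ φ, vec (x, y) φ ^ 2 = a y ^ 2 * ind x φ + a x ^ 2 * ind y φ := by
        intro φ
        simp only [vec, ind, if_neg hxy]
        by_cases hφ : φ = x
        · subst hφ; simp [hxy]
        · by_cases hφy : φ = y <;> simp [hφ, hφy, Ne.symm hxy]
      simp only [hterm, Finset.sum_add_distrib, ind, ← Finset.mul_sum, Finset.sum_ite_eq',
        Finset.mem_univ, if_true, mul_one]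
    set A := ∑ χ ∈ X, a χ ^ 2 with hA
    have hrow : ∀ x ∈ X, ∑ y ∈ X.erase x, ∑ φ, vec (x, y) φ ^ 2 =
        A + ((X.card : ℤ) - 2) * a x ^ 2 := by
      intro x hx
      rw [Finset.sum_congr rfl fun y hy => h2 x y (Finset.ne_of_mem_erase hy).symm,
        Finset.sum_add_distrib, Finset.sum_const, Finset.card_erase_of_mem hx, nsmul_eq_mul,
        Nat.cast_sub (Finset.card_pos.mpr ⟨x, hx⟩), hA, ← Finset.add_sum_erase X _ hx]
      push_cast
      ring
    rw [Finset.sum_congr rfl h1, Finset.sum_congr rfl hrow]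
    simp only [Finset.sum_add_distrib, ← Finset.mul_sum, Finset.sum_const, nsmul_eq_mul, ← hA]
    have hs : 1 ≤ (X.card : ℤ) := by exact_mod_cast Finset.card_pos.mpr D.nonempty
    have hA0 : 0 ≤ A := Finset.sum_nonneg fun _ _ => sq_nonneg _
    have hY1 : 1 ≤ (Y.card : ℤ) := by
      have : Y.card ≠ 0 := fun h0 => by
        have hb := D.norm
        rw [Finset.card_eq_zero] at h0
        rw [h0, Finset.card_empty] at hb
        simp at hb
        have : ((b.natAbs : ℕ) : ℤ) ^ 2 = (p : ℤ) := by rw [Int.natAbs_sq]; exact hb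
        have h' : b.natAbs ^ 2 = p := by exact_mod_cast this
        exact (Nat.Prime.not_prime_pow le_rfl) (h' ▸ hp)
      omega
    have hn := D.norm
    rw [← hA] at hn
    nlinarith [mul_nonneg (mul_nonneg (sub_nonneg.mpr hs) (sub_nonneg.mpr hY1)) hA0]
  -- the count
  set S := Finset.univ.filter
    (fun χ : IrrCharacter G => χ ∈ principalBlock M G ∧ ¬ p ∣ charDegree (χ : G → ℂ)) with hS
  set J := (Finset.range (p ^ (0 + 1))).filter fun j => ¬ p ∣ j with hJ
  obtain ⟨ω, e, hω, he⟩ := exists_exponents (H := H) (k := 0) (by rw [hu, zero_add, pow_one]) hH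
  have hnonzero : ∀ χ ∈ S, ∃ x ∈ X, pr (sh 1 χ) (V (x, x)) ≠ 0 := by
    intro χ hχ
    by_contra! hall
    obtain ⟨η₀, hη₀⟩ : ∃ η, η ∈ Y := by
      by_contra! hY
      have : Y = ∅ := Finset.eq_empty_iff_forall_notMem.mpr hY
      have hb := D.norm
      rw [this, Finset.card_empty] at hb
      simp at hb
      have : ((b.natAbs : ℕ) : ℤ) ^ 2 = (p : ℤ) := by rw [Int.natAbs_sq]; exact hb
      have h' : b.natAbs ^ 2 = p := by exact_mod_cast this
      exact (Nat.Prime.not_prime_pow le_rfl) (h' ▸ hp)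
    have h1r : ¬ p ∣ orderOf (1 : H ⧸ Z) := by rw [orderOf_one, Nat.dvd_one]; exact hp.ne_one
    have h1H : ¬ p ∣ orderOf (1 : H) := by rw [orderOf_one, Nat.dvd_one]; exact hp.ne_one
    set kq : H ⧸ Z → ℂ := fun q => ∑ ξ ∈ X ∪ Y, (ξ : H ⧸ Z → ℂ) 1 * (ξ : H ⧸ Z → ℂ) q with hkq
    have hkq0 : ∀ q, p ∣ orderOf q → kq q = 0 := by
      intro q hq
      have h := BrauerBlocksOrth.orth_regular_singular hM (isPBlock_principal (G := H ⧸ Z)) h1r
        (show p ∣ orderOf q⁻¹ by rwa [orderOf_inv])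
      rw [BlockTheoryIdem.finsum_mem_eq_sum, ← Finset.sum_filter,
        show Finset.univ.filter (fun ξ => ξ ∈ principalBlock M (H ⧸ Z)) = X ∪ Y by
          ext ξ; simp [D.mem]] at h
      refine Eq.trans (Finset.sum_congr rfl fun ξ _ => ?_) h
      rw [irr_inv, Complex.conj_conj]
    -- `b • kq` is a combination of the vectors
    have hcomb : ∀ q, (b : ℂ) * kq q = ∑ x ∈ X, (x : H ⧸ Z → ℂ) 1 * V (x, x) q := by
      intro q
      obtain ⟨g, hg⟩ : ∃ g : H ⧸ Z, p ∣ orderOf g := by
        obtain ⟨w, hw⟩ := exists_prime_orderOf_dvd_card' (G := H ⧸ Z) p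
          ((dvd_of_eq hP.symm).trans (Subgroup.card_subgroup_dvd_card _))
        exact ⟨w, by rw [hw]⟩
      have h0 := hkq0 g hg
      simp only [hkq, Finset.sum_union D.disj] at h0 ⊢
      rw [Finset.sum_congr rfl (g := fun ξ : IrrCharacter (H ⧸ Z) => (ξ : H ⧸ Z → ℂ) 1 * (a ξ : ℂ))
          (fun ξ hξ => by rw [D.val ξ hξ g hg]),
        Finset.sum_congr (s₁ := Y) rfl (g := fun η : IrrCharacter (H ⧸ Z) =>
            (η₀ : H ⧸ Z → ℂ) 1 * (η : H ⧸ Z → ℂ) g)
          (fun η hη => by rw [D.degY η hη η₀ hη₀]), ← Finset.mul_sum, D.valY g hg] at h0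
      have hY : ∑ η ∈ Y, (η : H ⧸ Z → ℂ) 1 * (η : H ⧸ Z → ℂ) q =
          (η₀ : H ⧸ Z → ℂ) 1 * ∑ η ∈ Y, (η : H ⧸ Z → ℂ) q := by
        rw [Finset.mul_sum]
        exact Finset.sum_congr rfl fun η hη => by rw [D.degY η hη η₀ hη₀]
      rw [hY]
      simp only [hVdiag, mul_sub, Finset.sum_sub_distrib, mul_left_comm _ (b : ℂ), ← Finset.mul_sum]
      simp only [← mul_assoc, ← Finset.sum_mul]
      linear_combination (∑ η ∈ Y, (η : H ⧸ Z → ℂ) q) * h0
    -- the kernel of the principal block at the identity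
    have hkern : ∀ c ∈ R, BlockContribSection.kern (principalBlock M H) 1 c =
        (p : ℂ) * conj (kq (c : H ⧸ Z)) := by
      intro c hc
      have hterm : ∀ ψ : IrrCharacter H, ∑ i ∈ Finset.range p,
          (ψ : H → ℂ) 1 * conj ((ψ : H → ℂ) (z ^ i * c)) =
          if (∀ w ∈ Z, (ψ : H → ℂ) w = (ψ : H → ℂ) 1)
          then (p : ℂ) * ((ψ : H → ℂ) 1 * conj ((ψ : H → ℂ) c)) else 0 := by
        intro ψ
        simp only [S4716.lam_mul (pow_mem hzc _), S4716.lam_pow hzc, map_mul, map_pow]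
        rw [show (∑ i ∈ Finset.range p, (ψ : H → ℂ) 1 * (conj (S4716.lam z ψ) ^ i * conj ((ψ : H → ℂ) c)))
          = (∑ i ∈ Finset.range p, conj (S4716.lam z ψ) ^ i) * ((ψ : H → ℂ) 1 * conj ((ψ : H → ℂ) c)) by
          rw [Finset.sum_mul]; exact Finset.sum_congr rfl fun i _ => by ring]
        have hlp : S4716.lam z ψ ^ p = 1 := by
          rw [← S4716.lam_pow hzc, ← hzo, pow_orderOf_eq_one, S4716.lam, div_self (irr_one_ne_zero ψ)]
        have hiff : (∀ w ∈ Z, (ψ : H → ℂ) w = (ψ : H → ℂ) 1) ↔ S4716.lam z ψ = 1 := by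
          constructor
          · intro h
            rw [S4716.lam, h z (Subgroup.mem_zpowers z), div_self (irr_one_ne_zero ψ)]
          · intro h w hw
            obtain ⟨i, rfl⟩ := (isOfFinOrder_of_finite z).mem_powers_iff_mem_zpowers.2 hw
            show (ψ : H → ℂ) (z ^ i) = _
            rw [← mul_one (z ^ i), S4716.lam_mul (pow_mem hzc i), S4716.lam_pow hzc, h, one_pow,
              one_mul]
        by_cases h : S4716.lam z ψ = 1
        · rw [if_pos (hiff.mpr h), h, map_one]; simp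
        · rw [if_neg (mt hiff.mp h)]
          have hne : conj (S4716.lam z ψ) ≠ 1 := fun h' => h (by
            simpa using congrArg conj h')
          have hg := geom_sum_mul (conj (S4716.lam z ψ)) p
          rw [← map_pow, hlp, map_one, sub_self] at hg
          rw [(mul_eq_zero.mp hg).resolve_right (sub_ne_zero.mpr hne), zero_mul]
      have horth : ∀ i ∈ Finset.range p, i ≠ 0 →
          BlockContribSection.kern (principalBlock M H) 1 (z ^ i * c) = 0 := by
        intro i hi hi0
        refine weak_orthogonality hM isPBlock_principal h1H ?_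
        by_contra hreg
        have h := (BlockCentral81.split_unique hZc hZp (u := z ^ i) (r := c) (u' := 1)
          (r' := z ^ i * c) (Subgroup.pow_mem _ (Subgroup.mem_zpowers z) i) Z.one_mem
          ((hRmem c).mp hc) hreg (one_mul _).symm).1
        have hdvd := orderOf_dvd_of_pow_eq_one h
        rw [hzo] at hdvd
        have := Nat.le_of_dvd (by omega) hdvd
        rw [Finset.mem_range] at hi
        omega
      have h1 : BlockContribSection.kern (principalBlock M H) 1 c =
          ∑ i ∈ Finset.range p, BlockContribSection.kern (principalBlock M H) 1 (z ^ i * c) := by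
        rw [Finset.sum_eq_single 0 horth (fun h => absurd (Finset.mem_range.mpr hp.pos) h), pow_zero,
          one_mul]
      rw [h1]
      simp only [BlockContribSection.kern]
      rw [Finset.sum_comm]
      have h41 := (Cfsg.Agent.S0941.result p M hM Z hZp ⟨0, by
        rw [pow_zero, Subgroup.index_eq_one, Subgroup.eq_top_iff']
        exact fun g => Subgroup.mem_centralizer_iff.mpr fun w hw =>
          (Subgroup.mem_center_iff.mp (hZc hw) g).symm⟩).1
      have hiff : ∀ ξ : IrrCharacter (H ⧸ Z),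
          ξ ∈ principalBlock M (H ⧸ Z) ↔ BlockQuotient78.infl Z ξ ∈ principalBlock M H := fun ξ =>
        h41 (oneChar (H ⧸ Z)) ξ
      calc ∑ ψ : IrrCharacter H, ∑ i ∈ Finset.range p,
            (if ψ ∈ principalBlock M H then (ψ : H → ℂ) 1 * conj ((ψ : H → ℂ) (z ^ i * c)) else 0)
          = ∑ ψ : IrrCharacter H, (if ψ ∈ principalBlock M H then
              (if (∀ w ∈ Z, (ψ : H → ℂ) w = (ψ : H → ℂ) 1)
                then (p : ℂ) * ((ψ : H → ℂ) 1 * conj ((ψ : H → ℂ) c)) else 0) else 0) := by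
            refine Finset.sum_congr rfl fun ψ _ => ?_
            by_cases h : ψ ∈ principalBlock M H
            · simp only [if_pos h]; exact hterm ψ
            · simp [h]
        _ = ∑ ξ ∈ (Finset.univ.filter fun ξ => ξ ∈ principalBlock M (H ⧸ Z)),
              (p : ℂ) * ((ξ : H ⧸ Z → ℂ) 1 * conj ((ξ : H ⧸ Z → ℂ) (c : H ⧸ Z))) := by
            simp only [← ite_and, ← Finset.sum_filter]
            refine (Finset.sum_bij (fun ξ _ => BlockQuotient78.infl Z ξ) (fun ξ hξ => ?_)
              (fun ξ _ ξ' _ h => (CharKernel.quotEquiv Z).injective (Subtype.ext h)) (fun ψ hψ => ?_)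
              (fun ξ _ => ?_)).symm
            · refine Finset.mem_filter.mpr ⟨Finset.mem_univ _,
                (hiff ξ).mp (Finset.mem_filter.mp hξ).2, fun w hw => ?_⟩
              rw [BlockQuotient78.infl_apply, BlockQuotient78.infl_apply, map_one,
                QuotientGroup.mk'_apply, (QuotientGroup.eq_one_iff w).mpr hw]
            · obtain ⟨-, hψ1, hψ2⟩ := Finset.mem_filter.mp hψ
              have he' : BlockQuotient78.infl Z ((CharKernel.quotEquiv Z).symm ⟨ψ, hψ2⟩) = ψ := by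
                rw [BlockQuotient78.infl, Equiv.apply_symm_apply]
              exact ⟨(CharKernel.quotEquiv Z).symm ⟨ψ, hψ2⟩,
                Finset.mem_filter.mpr ⟨Finset.mem_univ _, (hiff _).mpr (by rw [he']; exact hψ1)⟩, he'⟩
            · rw [BlockQuotient78.infl_apply, BlockQuotient78.infl_apply, map_one,
                QuotientGroup.mk'_apply]
        _ = _ := by
            rw [show Finset.univ.filter (fun ξ => ξ ∈ principalBlock M (H ⧸ Z)) = X ∪ Y by
              ext ξ; simp [D.mem]]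
            simp only [hkq, map_sum, map_mul, Finset.mul_sum]
            refine Finset.sum_congr rfl fun ξ _ => ?_
            rw [ClassAlgebraVal.apply_one_eq_charDegree ξ, map_natCast]
    -- so `χ u = 0`
    obtain ⟨-, hχB, hχd⟩ := Finset.mem_filter.mp hχ
    have hval : (χ : G → ℂ) u = pr (sh 1 χ) kq := by
      have h := BlockContribSection.apply_eq_sum_part hH hM ⟨1, by rw [hu, pow_one]⟩
        (isPBlock_principal (G := G)) χ h1H
      rw [if_pos hχB, OneMemClass.coe_one, mul_one] at h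
      obtain ⟨B', hB'⟩ := BlockContribSection.exists_induced hH hM ⟨1, by rw [hu, pow_one]⟩
        (isPBlock_principal (M := M) (G := H))
      have hb0 : IsInducedBlock M H (principalBlock M H) (principalBlock M G) :=
        (ZStarSection.principal_iff_of_induced hM hB').mp rfl ▸ hB'
      rw [h, Finset.sum_eq_single (principalBlock M H)]
      · simp only [BlockContribSection.part, pr, sh, pow_one]
        rw [← Finset.sum_subset (Finset.subset_univ R) fun c _ hc => by
          rw [BlockContribSection.kern, weak_orthogonality hM isPBlock_principal h1H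
            (by simpa [hRmem] using hc), mul_zero],
          Finset.sum_congr rfl fun c hc => by rw [hkern c hc], hHq, Nat.cast_mul, Finset.mul_sum,
          Finset.mul_sum]
        refine Finset.sum_congr rfl fun c _ => ?_
        have : (p : ℂ) ≠ 0 := Nat.cast_ne_zero.mpr hp.ne_zero
        field_simp
      · intro b' hb' hne
        exact absurd ((ZStarSection.principal_iff_of_induced hM (Finset.mem_filter.mp hb').2).mpr rfl) hne
      · intro hn
        exfalso
        refine hn (Finset.mem_filter.mpr ⟨Finset.mem_image.mpr ⟨oneChar H, Finset.mem_univ _, rfl⟩, hb0⟩)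
    refine apply_ne_zero hM ⟨1, by rw [hu, pow_one]⟩ hH χ hχd ?_
    refine mul_left_cancel₀ (Int.cast_ne_zero.mpr D.b_ne : (b : ℂ) ≠ 0) ?_
    rw [mul_zero, hval]
    have hlin : (b : ℂ) * pr (sh 1 χ) kq = ∑ x ∈ X, (x : H ⧸ Z → ℂ) 1 * pr (sh 1 χ) (V (x, x)) := by
      simp only [pr, Finset.mul_sum]
      rw [Finset.sum_comm]
      refine Finset.sum_congr rfl fun c _ => ?_
      have h : (b : ℂ) * conj (kq (c : H ⧸ Z)) =
          ∑ x ∈ X, (x : H ⧸ Z → ℂ) 1 * conj (V (x, x) (c : H ⧸ Z)) := by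
        rw [← map_intCast (starRingEnd ℂ) b, ← map_mul, hcomb, map_sum]
        exact Finset.sum_congr rfl fun x _ => by
          rw [map_mul, ClassAlgebraVal.apply_one_eq_charDegree x, map_natCast]
      rw [show (b : ℂ) * ((Nat.card (H ⧸ Z) : ℂ)⁻¹ * (sh 1 χ c * conj (kq (c : H ⧸ Z)))) =
        (Nat.card (H ⧸ Z) : ℂ)⁻¹ * sh 1 χ c * ((b : ℂ) * conj (kq (c : H ⧸ Z))) by ring, h,
        Finset.mul_sum]
      exact Finset.sum_congr rfl fun x _ => by ring
    rw [hlin]
    exact Finset.sum_eq_zero fun x hx => by rw [hall x hx, mul_zero]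
  have hlow : ∀ χ ∈ S, (J.card : ℝ) * (2 * X.card) ≤
      2 * ∑ x ∈ X, ∑ j ∈ J, Complex.normSq (pr (sh j χ) (V (x, x))) +
      ∑ x ∈ X, ∑ y ∈ X.erase x, ∑ j ∈ J, Complex.normSq (pr (sh j χ) (V (x, y))) := by
    intro χ hχ
    have hroot : ∀ w ∈ X ×ˢ X, pr (sh 1 χ) (V w) ≠ 0 →
        (J.card : ℝ) ≤ ∑ j ∈ J, Complex.normSq (pr (sh j χ) (V w)) := by
      intro w hw hne
      choose N hN using fun ξ : IrrCharacter H => hint ξ (vec w) (hvan w hw)
      have hexp : ∀ j, pr (sh j χ) (V w) = ∑ ξ : IrrCharacter H,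
          (((S4716.mult χ ξ : ℤ) * N ξ : ℤ) : ℂ) * ω ^ (e ξ * j) := by
        intro j
        push_cast
        simp only [← hN, pr, sh, he, V, Finset.mul_sum, Finset.sum_mul]
        rw [Finset.sum_comm]
        exact Finset.sum_congr rfl fun ξ _ => Finset.sum_congr rfl fun c _ => by ring
      simp only [hexp]
      refine BlockContribRoots.card_le_sum_normSq _ _ e hp hω fun h0 => hne ?_
      rw [hexp 1]
      simpa using h0
    obtain ⟨x₀, hx₀, hx₀ne⟩ := hnonzero χ hχ
    set Dn := X.filter (fun x => pr (sh 1 χ) (V (x, x)) ≠ 0) with hDn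
    have hcross : ∀ x ∈ X, ∀ y ∈ X, x ≠ y → pr (sh 1 χ) (V (x, x)) ≠ 0 →
        pr (sh 1 χ) (V (y, y)) = 0 →
        pr (sh 1 χ) (V (x, y)) ≠ 0 ∧ pr (sh 1 χ) (V (y, x)) ≠ 0 := by
      intro x hx y hy hxy hnx hny
      have hid : ∀ s t, s ≠ t → (b : ℂ) * pr (sh 1 χ) (V (s, t)) =
          (a t : ℂ) * pr (sh 1 χ) (V (s, s)) - (a s : ℂ) * pr (sh 1 χ) (V (t, t)) := by
        intro s t hst
        simp only [pr, Finset.mul_sum, ← Finset.sum_sub_distrib]
        refine Finset.sum_congr rfl fun c _ => ?_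
        simp only [hVdiag, hVoff s t hst, map_sub, map_mul, map_intCast]
        ring
      constructor
      · intro h
        have := hid x y hxy
        rw [h, hny, mul_zero, mul_zero, sub_zero, eq_comm, mul_eq_zero] at this
        exact this.elim (fun h' => D.a_ne y hy (Int.cast_eq_zero.mp h')) hnx
      · intro h
        have := hid y x hxy.symm
        rw [h, hny, mul_zero, mul_zero, zero_sub, eq_comm, neg_eq_zero, mul_eq_zero] at this
        exact this.elim (fun h' => D.a_ne y hy (Int.cast_eq_zero.mp h')) hnx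
    have hnn : ∀ w, 0 ≤ ∑ j ∈ J, Complex.normSq (pr (sh j χ) (V w)) :=
      fun w => Finset.sum_nonneg fun _ _ => Complex.normSq_nonneg _
    -- the diagonal gives `|Dn|`
    have hd : (J.card : ℝ) * Dn.card ≤
        ∑ x ∈ X, ∑ j ∈ J, Complex.normSq (pr (sh j χ) (V (x, x))) := by
      rw [mul_comm, ← nsmul_eq_mul, ← Finset.sum_const]
      refine le_trans (Finset.sum_le_sum fun x hx => ?_)
        (Finset.sum_le_sum_of_subset_of_nonneg (Finset.filter_subset _ _) fun x _ _ => hnn _)
      obtain ⟨hx, hne⟩ := Finset.mem_filter.mp hx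
      exact hroot _ (Finset.mem_product.mpr ⟨hx, hx⟩) hne
    -- every other index gives two more
    have ho : (J.card : ℝ) * (2 * (X \ Dn).card) ≤
        ∑ x ∈ X, ∑ y ∈ X.erase x, ∑ j ∈ J, Complex.normSq (pr (sh j χ) (V (x, y))) := by
      have hx₀D : x₀ ∈ Dn := Finset.mem_filter.mpr ⟨hx₀, hx₀ne⟩
      set T : Finset (IrrCharacter (H ⧸ Z) × IrrCharacter (H ⧸ Z)) :=
        ({x₀} ×ˢ (X \ Dn)) ∪ ((X \ Dn) ×ˢ {x₀}) with hT
      have hdisjT : Disjoint ({x₀} ×ˢ (X \ Dn)) ((X \ Dn) ×ˢ {x₀}) := by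
        rw [Finset.disjoint_left]
        rintro ⟨x, y⟩ h1 h2
        simp only [Finset.mem_product, Finset.mem_singleton, Finset.mem_sdiff] at h1 h2
        exact h1.2.2 (h2.2 ▸ hx₀D)
      have hTcard : (T.card : ℝ) = 2 * (X \ Dn).card := by
        rw [hT, Finset.card_union_of_disjoint hdisjT]
        simp
        ring
      have hoff : (∑ x ∈ X, ∑ y ∈ X.erase x, ∑ j ∈ J, Complex.normSq (pr (sh j χ) (V (x, y)))) =
          ∑ w ∈ (X ×ˢ X).filter (fun w => w.1 ≠ w.2),
            ∑ j ∈ J, Complex.normSq (pr (sh j χ) (V w)) := by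
        rw [Finset.sum_filter, Finset.sum_product]
        refine Finset.sum_congr rfl fun x _ => ?_
        rw [← Finset.filter_ne, Finset.sum_filter]
      rw [hoff, ← hTcard, mul_comm, ← nsmul_eq_mul, ← Finset.sum_const]
      have hTmem : ∀ w ∈ T, w ∈ (X ×ˢ X).filter (fun w => w.1 ≠ w.2) ∧
          pr (sh 1 χ) (V w) ≠ 0 := by
        rintro ⟨x, y⟩ hw
        simp only [hT, Finset.mem_union, Finset.mem_product, Finset.mem_singleton,
          Finset.mem_sdiff] at hw
        rcases hw with ⟨rfl, hy, hyD⟩ | ⟨⟨hx, hxD⟩, rfl⟩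
        · have hne : x ≠ y := fun h => hyD (h ▸ hx₀D)
          exact ⟨Finset.mem_filter.mpr ⟨Finset.mem_product.mpr ⟨hx₀, hy⟩, hne⟩,
            (hcross x hx₀ y hy hne hx₀ne (by
              by_contra h; exact hyD (Finset.mem_filter.mpr ⟨hy, h⟩))).1⟩
        · have hne : y ≠ x := fun h => hxD (h ▸ hx₀D)
          exact ⟨Finset.mem_filter.mpr ⟨Finset.mem_product.mpr ⟨hx, hx₀⟩, hne.symm⟩,
            (hcross y hx₀ x hx hne hx₀ne (by
              by_contra h; exact hxD (Finset.mem_filter.mpr ⟨hx, h⟩))).2⟩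
      refine le_trans (Finset.sum_le_sum fun w hw => ?_)
        (Finset.sum_le_sum_of_subset_of_nonneg (fun w hw => (hTmem w hw).1) fun w _ _ => hnn _)
      exact hroot _ (Finset.mem_filter.mp (hTmem w hw).1).1 (hTmem w hw).2
    have hsplitX : (X.card : ℝ) = Dn.card + (X \ Dn).card := by
      rw [← Nat.cast_add, Finset.card_sdiff_of_subset (Finset.filter_subset _ _),
        Nat.add_sub_cancel' (Finset.card_le_card (Finset.filter_subset _ _))]
    rw [hsplitX]
    linarith
  have hJmem : ∀ j ∈ J, ¬ p ∣ j := fun j hj => (Finset.mem_filter.mp hj).2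
  have hSsub : S ⊆ BlockContribBounds.members (principalBlock M G) := fun χ hχ =>
    BlockContribBounds.mem_members.mpr (Finset.mem_filter.mp hχ).2.1
  have hup : ∀ w ∈ X ×ˢ X, ∑ χ ∈ S, ∑ j ∈ J, Complex.normSq (pr (sh j χ) (V w)) ≤
      (J.card : ℝ) * ((p : ℝ) * (((∑ φ, vec w φ ^ 2 : ℤ)) : ℝ)) := by
    intro w hw
    rw [Finset.sum_comm, ← nsmul_eq_mul, ← Finset.sum_const]
    refine Finset.sum_le_sum fun j hj => ?_
    refine le_trans (Finset.sum_le_sum_of_subset_of_nonneg hSsub fun _ _ _ => Complex.normSq_nonneg _) ?_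
    push_cast
    exact henergy j (hJmem j hj) (vec w) (hvan w hw)
  have htot : (S.card : ℝ) * ((J.card : ℝ) * (2 * X.card)) ≤
      (J.card : ℝ) * ((p : ℝ) * (2 * (X.card : ℝ) * p)) := by
    rw [← nsmul_eq_mul, ← Finset.sum_const]
    refine le_trans (Finset.sum_le_sum hlow) ?_
    rw [Finset.sum_add_distrib, ← Finset.mul_sum, Finset.sum_comm,
      Finset.sum_comm (t := X) (s := S)]
    have h2 : (((2 * ∑ x ∈ X, ∑ φ, vec (x, x) φ ^ 2 +
        ∑ x ∈ X, ∑ y ∈ X.erase x, ∑ φ, vec (x, y) φ ^ 2 : ℤ)) : ℝ) ≤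
        ((2 * (X.card : ℤ) * p : ℤ) : ℝ) := Int.cast_le.mpr hsize2
    refine le_trans (add_le_add (mul_le_mul_of_nonneg_left (Finset.sum_le_sum fun x hx =>
      hup (x, x) (Finset.mem_product.mpr ⟨hx, hx⟩)) zero_le_two)
      (Finset.sum_le_sum (g := fun x => (J.card : ℝ) * ((p : ℝ) *
        (((∑ y ∈ X.erase x, ∑ φ, vec (x, y) φ ^ 2 : ℤ)) : ℝ))) fun x hx => ?_)) ?_
    · rw [Finset.sum_comm]
      push_cast
      simp only [Finset.mul_sum]
      refine Finset.sum_le_sum fun y hy => ?_
      have := hup (x, y) (Finset.mem_product.mpr ⟨hx, Finset.mem_of_mem_erase hy⟩)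
      push_cast at this
      simpa only [Finset.mul_sum] using this
    · rw [← Finset.mul_sum, ← Finset.mul_sum, ← Finset.mul_sum, ← Finset.mul_sum]
      push_cast at h2 ⊢
      have hJ0 : (0 : ℝ) ≤ (J.card : ℝ) * p := by positivity
      nlinarith [mul_le_mul_of_nonneg_left h2 hJ0]
  have hJpos : (0 : ℝ) < J.card := by
    refine Nat.cast_pos.2 (Finset.card_pos.2 ⟨1, ?_⟩)
    rw [hJ, Finset.mem_filter, Finset.mem_range, zero_add, pow_one]
    exact ⟨hp.one_lt, hp.not_dvd_one⟩
  have hX0 : (0 : ℝ) < X.card := Nat.cast_pos.2 (Finset.card_pos.2 D.nonempty)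
  have h : (S.card : ℝ) ≤ (p : ℝ) ^ 2 :=
    le_of_mul_le_mul_left (a := (J.card : ℝ) * (2 * X.card)) (by nlinarith) (by positivity)
  rw [Nat.card_eq_fintype_card, Fintype.card_subtype, ← hS]
  exact_mod_cast h

end Centralizer

/-- Some centralizer of a `p`-element with `p`-part at most `p ^ 2` bounds the characters of degree
prime to `p` in the principal block. -/
theorem main {G : Type*} [Group G] [Fintype G] (hM : IsPModular p M) {x : G}
    (hx : ∃ k, orderOf x = p ^ k)
    (hC : (Nat.card (Subgroup.centralizer ({x} : Set G))).factorization p ≤ 2) :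
    Nat.card {χ : IrrCharacter G // χ ∈ principalBlock M G ∧ ¬ p ∣ charDegree (χ : G → ℂ)} ≤
      p ^ 2 := by
  have hp : p.Prime := Fact.out
  by_cases hG : p ∣ Nat.card G
  swap
  · have hd : blockDefect p (principalBlock M G) = 0 := by
      have h0 : (Nat.card G).factorization p = 0 := Nat.factorization_eq_zero_of_not_dvd hG
      simp [blockDefect, ← Nat.card_eq_fintype_card, h0]
    have h1 := BlockContribBounds.eq_singleton_of_defect_zero hM (isPBlock_principal (G := G)) hd
    calc Nat.card {χ : IrrCharacter G // χ ∈ principalBlock M G ∧ ¬ p ∣ charDegree (χ : G → ℂ)}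
          ≤ Nat.card (principalBlock M G) := Nat.card_le_card_of_injective
          (fun χ => ⟨χ.1, χ.2.1⟩) (fun a b h => Subtype.ext (congrArg (fun t => t.1) h))
      _ = 1 := h1
      _ ≤ p ^ 2 := Nat.one_le_pow _ _ hp.pos
  obtain ⟨y, k, hy, hyC⟩ : ∃ (y : G) (k : ℕ), orderOf y = p ^ (k + 1) ∧
      (Nat.card (Subgroup.centralizer ({y} : Set G))).factorization p ≤ 2 := by
    obtain ⟨k, hk⟩ := hx
    rcases k with _ | k
    · obtain ⟨y, hy⟩ := exists_prime_orderOf_dvd_card' p hG
      refine ⟨y, 0, by rw [hy, zero_add, pow_one], le_trans ?_ hC⟩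
      rw [pow_zero, orderOf_eq_one_iff] at hk
      subst hk
      refine (Nat.factorization_le_iff_dvd Nat.card_pos.ne' Nat.card_pos.ne').mpr ?_ p
      refine Subgroup.card_dvd_of_le fun g _ => ?_
      exact Subgroup.mem_centralizer_singleton_iff.mpr (by simp)
    · exact ⟨x, k, hk, hC⟩
  set H := Subgroup.centralizer ({y} : Set G) with hHdef
  haveI : Fintype H := Fintype.ofFinite _
  have hH : ∀ g, g ∈ H ↔ Commute y g := BlockAbelianSylow86.hH y
  set z : H := ⟨y, (hH y).2 (Commute.refl y)⟩ with hz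
  have hkle : k + 1 ≤ (Nat.card H).factorization p := by
    have hd : p ^ (k + 1) ∣ Nat.card H := by
      rw [← hy, ← Subgroup.orderOf_mk y ((hH y).2 (Commute.refl y))]
      exact orderOf_dvd_natCard _
    exact (hp.pow_dvd_iff_le_factorization Nat.card_pos.ne').mp hd
  by_cases heq : (Nat.card H).factorization p = k + 1
  · -- the Sylow subgroup is generated by `y`, hence central
    obtain ⟨R, hR⟩ := (IsPGroup.of_card (G := Subgroup.zpowers z) (n := k + 1)
      (by rw [Nat.card_zpowers, hz, Subgroup.orderOf_mk, hy])).exists_le_sylow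
    have hRz : Subgroup.zpowers z = (R : Subgroup H) := Subgroup.eq_of_le_of_card_ge hR
      (by rw [R.card_eq_multiplicity, heq, Nat.card_zpowers, hz, Subgroup.orderOf_mk, hy])
    have hburn : Subgroup.normalizer ((R : Subgroup H) : Set H) ≤
        Subgroup.centralizer ((R : Subgroup H) : Set H) := by
      intro g _
      refine Subgroup.mem_centralizer_iff.mpr fun w hw => ?_
      rw [← hRz] at hw
      obtain ⟨i, rfl⟩ := Subgroup.mem_zpowers_iff.mp hw
      exact (Commute.zpow_left (show Commute z g from Subtype.ext ((hH g).1 g.2).eq) i).eq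
    have hcomp := MonoidHom.ker_transferSylow_isComplement' R hburn
    have hodd := MonoidHom.not_dvd_card_ker_transferSylow R hburn
    refine (card_le_index hM hy hH _ hodd).trans ?_
    rw [hcomp.symm.index_eq_card, R.card_eq_multiplicity, heq]
    exact Nat.pow_le_pow_right hp.pos (by omega)
  · have hk0 : k = 0 := by omega
    subst hk0
    rw [zero_add, pow_one] at hy
    exact card_le_sq hM hy hH (by omega)

end Cfsg.Agent.BlockPrincipalSq9
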