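import Cfsg.Agent.Lib.BrauerSuzukiApps
import Cfsg.Agent.Lib.BlockCentral81
import Cfsg.Agent.Lib.BlockPCount9
import Cfsg.Agent.Lib.BlockQuotient78
import Cfsg.Agent.Lib.KleinFourOrder79
import Cfsg.Agent.Lib.BrauerBlocksOrth
import Cfsg.Agent.S0941
import Cfsg.Agent.S0948
import Cfsg.Agent.S0950

/-!
The principal 2-block of a group with quaternion Sylow subgroups of order 8 and `O(G) = 1`.

The central involution `z` splits the block into the four inflations from `G ⧸ Z` and the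
characters negated by `z`.  The latter vanish outside `Z` times the elements of odd order, and
second orthogonality between `y` and `z * y` makes their norms add up to those of the former.
-/

set_option autoImplicit false

namespace Cfsg.Agent.BlockQuaternion9

open Cfsg Cfsg.Agent.CharBasic Cfsg.Agent.CharBasicOrth Cfsg.Agent.BlockPCount9
open Cfsg.Agent.BlockTheoryCentre
open scoped ComplexConjugate

attribute [local instance] Classical.propDecidable

theorem q8_sq : ∀ q : QuaternionGroup 2, q * q = 1 ∨ q * q = QuaternionGroup.a 2 := by decide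

theorem q8_invol : ∀ q : QuaternionGroup 2, q * q = 1 → q = 1 ∨ q = QuaternionGroup.a 2 := by decide

theorem q8_real : ∀ q : QuaternionGroup 2, ∃ r, r * q * r⁻¹ = q⁻¹ := by decide

theorem q8_cent : ∀ q : QuaternionGroup 2, q * q ≠ 1 → ∀ r, r * q = q * r →
    r = 1 ∨ r = q ∨ r = q * q ∨ r = q * q * q := by decide

theorem q8_four : ∀ q : QuaternionGroup 2, q * q * (q * q) = 1 := by decide

section Klein

variable {H : Type*} [Group H] [Fintype H]

theorem sum_eq_zero_of_ne_one (χ : IrrCharacter H) (h : (χ : H → ℂ) ≠ fun _ => 1) :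
    ∑ g, (χ : H → ℂ) g = 0 := by
  have h0 := classInner_irr_ne χ.2 (BlockPrincipal81.oneChar H).2 h
  rw [classInner, mul_eq_zero] at h0
  rcases h0 with h0 | h0
  · simp at h0
  · simpa [BlockPrincipal81.oneChar] using h0

theorem sum_norm (χ : IrrCharacter H) :
    ∑ g, (χ : H → ℂ) g * conj ((χ : H → ℂ) g) = (Nat.card H : ℂ) := by
  have h0 := classInner_irr_self χ.2
  rw [classInner] at h0
  rwa [inv_mul_eq_one₀ (Nat.cast_ne_zero.mpr Nat.card_pos.ne'), eq_comm] at h0

/-- Four characters, whose norms on the elements of odd order add up to `3 |H|`. -/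
theorem klein_sums {M : Ideal AlgInt} (hM : IsPModular 2 M) (P : Sylow 2 H)
    (hP : IsKleinFour (P : Subgroup H))
    (hone : ∀ s t : H, orderOf s = 2 → orderOf t = 2 → IsConj s t) :
    (BlockContribBounds.members (principalBlock M H)).card = 4 ∧
      ∑ χ ∈ BlockContribBounds.members (principalBlock M H),
        ∑ r ∈ Finset.univ.filter (fun r : H => ¬ 2 ∣ orderOf r),
          (χ : H → ℂ) r * conj ((χ : H → ℂ) r) = 3 * (Nat.card H : ℂ) := by
  have : Fact (Nat.Prime 2) := ⟨Nat.prime_two⟩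
  obtain ⟨ζ₂, ζ₃, ζ₄, ε, hε, h2, h3, h23, h24, h34, hB, hval, -, -, -, hrel⟩ :=
    Cfsg.Agent.S0948.result M hM P hP hone
  have hexp : ∀ x : P, x * x = 1 := fun x => IsKleinFour.mul_self x
  have hP4 : Nat.card P = 4 := hP.card_four
  obtain ⟨x, hx⟩ := exists_prime_orderOf_dvd_card' (G := (P : Subgroup H)) 2
    (by rw [hP.card_four]; norm_num)
  have hJ : (x : H) ∈ (P : Subgroup H) := x.2
  have hJ2 : orderOf (x : H) = 2 := by rw [Subgroup.orderOf_coe, hx]
  obtain ⟨v2, v3, v4⟩ := hval _ hJ2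
  have h4 : (ζ₄ : H → ℂ) ≠ fun _ => 1 := by
    intro h
    rw [h] at v4
    norm_num at v4
  have hdist : (ζ₂ : H → ℂ) ≠ (fun _ => 1) ∧ (ζ₃ : H → ℂ) ≠ (fun _ => 1) ∧
      (ζ₄ : H → ℂ) ≠ (fun _ => 1) ∧ ζ₂ ≠ ζ₃ ∧ ζ₂ ≠ ζ₄ ∧ ζ₃ ≠ ζ₄ := ⟨h2, h3, h4, h23, h24, h34⟩
  have hconst : ∀ χ ∈ principalBlock M H, ∀ g : H, 2 ∣ orderOf g →
      (χ : H → ℂ) g = (χ : H → ℂ) (x : H) := by
    intro χ hχ g hg
    obtain ⟨y, hty, hc, hk, hy⟩ := pp_spec (p := 2) g
    have ht1 : pp 2 g ≠ 1 := fun h => (BrauerBlocksPPart.isPPart_one_iff Nat.prime_two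
      (pp_spec g)).mpr h hg
    have htt : pp 2 g * pp 2 g = 1 := KleinFourLocal79.mul_self_of_two_el P hexp hk
    have ht2 : orderOf (pp 2 g) = 2 := orderOf_eq_prime (by rw [pow_two]; exact htt) ht1
    obtain ⟨c, hc'⟩ := isConj_iff.mp (hone _ _ ht2 hJ2)
    have hmem : c * y * c⁻¹ ∈ Subgroup.centralizer ({(x : H)} : Set H) := by
      refine Subgroup.mem_centralizer_singleton_iff.mpr ?_
      rw [← hc']
      calc c * y * c⁻¹ * (c * pp 2 g * c⁻¹) = c * (y * pp 2 g) * c⁻¹ := by group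
        _ = c * (pp 2 g * y) * c⁻¹ := by rw [hc.eq]
        _ = _ := by group
    have hyr : ¬ 2 ∣ orderOf (⟨_, hmem⟩ : Subgroup.centralizer ({(x : H)} : Set H)) := by
      rwa [Subgroup.orderOf_mk, show c * y * c⁻¹ = MulAut.conj c y from rfl, MulEquiv.orderOf_eq]
    have h := KleinFourChars79.sec_const hM hP4 hexp hJ hJ2 hχ hyr
    have e : (x : H) * (c * y * c⁻¹) = c * g * c⁻¹ := by
      rw [← hc', show c * g * c⁻¹ = c * (pp 2 g * y) * c⁻¹ by rw [hty]]
      group
    simp only [e] at h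
    rwa [irr_classFun χ g c] at h
  set R := Finset.univ.filter (fun r : H => ¬ 2 ∣ orderOf r) with hR
  set E := Finset.univ.filter (fun r : H => 2 ∣ orderOf r) with hE
  have hsplit : ∀ f : H → ℂ, ∑ g, f g = ∑ r ∈ R, f r + ∑ r ∈ E, f r := fun f => by
    rw [hR, hE, add_comm]
    exact (Finset.sum_filter_add_sum_filter_not _ _ _).symm
  have hcard : (Nat.card H : ℂ) = (R.card : ℂ) + (E.card : ℂ) := by
    simpa [Nat.card_eq_fintype_card] using hsplit fun _ => 1
  have hmem : ζ₂ ∈ principalBlock M H ∧ ζ₃ ∈ principalBlock M H ∧ ζ₄ ∈ principalBlock M H := by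
    rw [hB]
    exact ⟨Or.inr (Or.inl rfl), Or.inr (Or.inr (Or.inl rfl)), Or.inr (Or.inr (Or.inr rfl))⟩
  have hsum : ∀ χ : IrrCharacter H, χ ∈ principalBlock M H → (χ : H → ℂ) ≠ (fun _ => 1) →
      ∑ r ∈ R, (χ : H → ℂ) r = -((E.card : ℂ) * (χ : H → ℂ) (x : H)) := by
    intro χ hχ h
    have h0 := sum_eq_zero_of_ne_one χ h
    rw [hsplit, Finset.sum_congr rfl fun r hr => hconst χ hχ r (Finset.mem_filter.mp hr).2,
      Finset.sum_const, nsmul_eq_mul] at h0
    exact eq_neg_of_add_eq_zero_left h0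
  have hε2 : (ε : ℂ) * ε = 1 := by rcases hε with e | e <;> rw [e] <;> norm_num
  have hRE : (R.card : ℂ) = 3 * (E.card : ℂ) := by
    have h0 : ∑ r ∈ R, (1 + (ζ₂ : H → ℂ) r + (ε : ℂ) * (ζ₃ : H → ℂ) r - (ζ₄ : H → ℂ) r) = 0 :=
      Finset.sum_eq_zero fun r hr => hrel r (Nat.odd_iff.mpr
        (Nat.two_dvd_ne_zero.mp (Finset.mem_filter.mp hr).2))
    rw [Finset.sum_sub_distrib, Finset.sum_add_distrib, Finset.sum_add_distrib, ← Finset.mul_sum,
      hsum _ hmem.1 h2, hsum _ hmem.2.1 h3, hsum _ hmem.2.2 h4, v2, v3, v4, Finset.sum_const,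
      nsmul_eq_mul] at h0
    linear_combination h0 + (E.card : ℂ) * hε2
  have hnorm : ∀ χ : IrrCharacter H, χ ∈ principalBlock M H →
      (χ : H → ℂ) (x : H) * conj ((χ : H → ℂ) (x : H)) = 1 →
      ∑ r ∈ R, (χ : H → ℂ) r * conj ((χ : H → ℂ) r) = (R.card : ℂ) := by
    intro χ hχ h
    have h0 := sum_norm χ
    rw [hsplit, Finset.sum_congr (g := fun _ => (1 : ℂ)) (s₁ := E) rfl
      (fun r hr => by rw [hconst χ hχ r (Finset.mem_filter.mp hr).2, h]), hcard,
      Finset.sum_const, nsmul_eq_mul, mul_one] at h0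
    exact add_right_cancel h0
  constructor
  · have := KleinFourOrder79.sum_members hB hdist fun _ => (1 : ℂ)
    rw [Finset.sum_const, nsmul_eq_mul, mul_one] at this
    norm_num at this
    exact_mod_cast this
  · rw [KleinFourOrder79.sum_members hB hdist,
      hnorm _ hmem.1 (by rw [v2]; simp), hnorm _ hmem.2.1 (by rw [v3, map_intCast, hε2]),
      hnorm _ hmem.2.2 (by rw [v4]; simp),
      hnorm _ (BlockPrincipal81.oneChar_mem hM) (by simp [BlockPrincipal81.oneChar]), hcard, hRE]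
    ring

end Klein

variable {G : Type*} [Group G] [Fintype G]

/-- The odd part of the centralizer of an element of order 4. -/
theorem exists_oddCore (S : Sylow 2 G) (e : (S : Subgroup G) ≃* QuaternionGroup 2) {x : G}
    (hx : orderOf x = 4) :
    ∃ K : Subgroup G, (∀ k ∈ K, Commute x k) ∧ ¬ 2 ∣ Nat.card K ∧
      (∀ g, Commute x g → ∀ k ∈ K, g * k * g⁻¹ ∈ K) ∧
      ∀ g, Commute x g → ¬ 2 ∣ orderOf g → g ∈ K := by
  have : Fact (Nat.Prime 2) := ⟨Nat.prime_two⟩
  set U := Subgroup.centralizer ({x} : Set G) with hU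
  have hxU : x ∈ U := Subgroup.mem_centralizer_singleton_iff.mpr rfl
  have hX : IsPGroup 2 (Subgroup.zpowers (⟨x, hxU⟩ : U)) :=
    IsPGroup.of_card (n := 2) (by rw [Nat.card_zpowers, Subgroup.orderOf_mk, hx]; norm_num)
  obtain ⟨Q, hQ⟩ := hX.exists_le_sylow
  obtain ⟨R, hR⟩ := (Q.isPGroup'.map U.subtype).exists_le_sylow
  obtain ⟨c, hc⟩ := MulAction.exists_smul_eq G R S
  have hcS : ∀ q : U, q ∈ (Q : Subgroup U) → c * (q : G) * c⁻¹ ∈ (S : Subgroup G) := by
    intro q hq
    rw [← hc, Sylow.coe_subgroup_smul, Subgroup.mem_pointwise_smul_iff_inv_smul_mem, ← map_inv,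
      MulAut.smul_def, MulAut.conj_apply]
    rw [inv_inv, show c⁻¹ * (c * (q : G) * c⁻¹) * c = q by group]
    exact hR ⟨q, hq, rfl⟩
  have hburn : Subgroup.normalizer (Q : Set U) ≤ Subgroup.centralizer (Q : Set U) := by
    intro n _
    refine Subgroup.mem_centralizer_iff.mpr fun q hq => ?_
    set xs : (S : Subgroup G) := ⟨_, hcS ⟨x, hxU⟩ (hQ (Subgroup.mem_zpowers _))⟩ with hxs
    set qs : (S : Subgroup G) := ⟨_, hcS q hq⟩ with hqs
    have hqx : (q : G) * x = x * q := Subgroup.mem_centralizer_singleton_iff.mp q.2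
    have hne : e xs * e xs ≠ 1 := by
      rw [← map_mul, map_ne_one_iff e e.injective]
      intro h
      have h' : c * x * c⁻¹ * (c * x * c⁻¹) = 1 := congrArg Subtype.val h
      have h'' : x * x = 1 := by
        rw [show c * x * c⁻¹ * (c * x * c⁻¹) = c * (x * x) * c⁻¹ by group, conj_eq_one_iff] at h'
        exact h'
      have := orderOf_dvd_of_pow_eq_one (show x ^ 2 = 1 by rw [pow_two, h''])
      rw [hx] at this
      norm_num at this
    have hcomm : e qs * e xs = e xs * e qs := by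
      rw [← map_mul, ← map_mul]
      refine congrArg e (Subtype.ext ?_)
      show c * (q : G) * c⁻¹ * (c * x * c⁻¹) = c * x * c⁻¹ * (c * (q : G) * c⁻¹)
      calc c * (q : G) * c⁻¹ * (c * x * c⁻¹) = c * ((q : G) * x) * c⁻¹ := by group
        _ = c * (x * q) * c⁻¹ := by rw [hqx]
        _ = _ := by group
    have hpow : ∃ k : ℕ, (q : G) = x ^ k := by
      rcases q8_cent _ hne _ hcomm with h | h | h | h
      · refine ⟨0, ?_⟩
        rw [map_eq_one_iff e e.injective] at h
        simpa using (show c * (q : G) * c⁻¹ = 1 from congrArg Subtype.val h)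
      · refine ⟨1, ?_⟩
        rw [pow_one]
        exact mul_left_cancel (mul_right_cancel
          (show c * (q : G) * c⁻¹ = c * x * c⁻¹ from congrArg Subtype.val (e.injective h)))
      · refine ⟨2, ?_⟩
        rw [← map_mul] at h
        have h' : c * (q : G) * c⁻¹ = c * x * c⁻¹ * (c * x * c⁻¹) :=
          congrArg Subtype.val (e.injective h)
        rw [show c * x * c⁻¹ * (c * x * c⁻¹) = c * (x * x) * c⁻¹ by group] at h'
        rw [pow_two]
        exact mul_left_cancel (mul_right_cancel h')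
      · refine ⟨3, ?_⟩
        rw [← map_mul, ← map_mul] at h
        have h' : c * (q : G) * c⁻¹ = c * x * c⁻¹ * (c * x * c⁻¹) * (c * x * c⁻¹) :=
          congrArg Subtype.val (e.injective h)
        rw [show c * x * c⁻¹ * (c * x * c⁻¹) * (c * x * c⁻¹) = c * (x * x * x) * c⁻¹ by group] at h'
        rw [pow_succ, pow_two]
        exact mul_left_cancel (mul_right_cancel h')
    obtain ⟨k, hk⟩ := hpow
    refine Subtype.ext ?_
    show (q : G) * n = n * q
    rw [hk]
    exact (Commute.pow_left (Subgroup.mem_centralizer_singleton_iff.mp n.2).symm k).eq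
  obtain ⟨f, hodd⟩ : ∃ f : U →* (Q : Subgroup U), ¬ 2 ∣ Nat.card f.ker :=
    ⟨MonoidHom.transferSylow Q hburn, MonoidHom.not_dvd_card_ker_transferSylow Q hburn⟩
  refine ⟨f.ker.map U.subtype, ?_, ?_, ?_, ?_⟩
  · rintro _ ⟨k, -, rfl⟩
    exact (Subgroup.mem_centralizer_singleton_iff.mp k.2).symm
  · rwa [Subgroup.card_map_of_injective U.subtype_injective]
  · rintro g hg _ ⟨k, hk, rfl⟩
    have hgU : g ∈ U := Subgroup.mem_centralizer_singleton_iff.mpr hg.eq.symm
    exact ⟨⟨g, hgU⟩ * k * ⟨g, hgU⟩⁻¹, f.normal_ker.conj_mem k hk _, rfl⟩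
  · intro g hg hgo
    have hgU : g ∈ U := Subgroup.mem_centralizer_singleton_iff.mpr hg.eq.symm
    refine ⟨⟨g, hgU⟩, ?_, rfl⟩
    show f ⟨g, hgU⟩ = 1
    obtain ⟨k, hk⟩ := IsPGroup.iff_orderOf.mp Q.isPGroup' (f ⟨g, hgU⟩)
    rcases k with _ | k
    · rwa [pow_zero, orderOf_eq_one_iff] at hk
    · exfalso
      have := orderOf_map_dvd f ⟨g, hgU⟩
      rw [hk, Subgroup.orderOf_mk] at this
      exact hgo ((dvd_pow_self 2 k.succ_ne_zero).trans this)

/-- The principal block has exactly seven characters. -/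
theorem card_eq_seven {M : Ideal AlgInt} (hM : IsPModular 2 M) (S : Sylow 2 G)
    (e : (S : Subgroup G) ≃* QuaternionGroup 2)
    (hO : ∀ N : Subgroup G, N.Normal → Odd (Nat.card N) → N = ⊥) (hG : (S : Subgroup G) ≠ ⊤) :
    Nat.card (principalBlock M G) = 7 := by
  have : Fact (Nat.Prime 2) := ⟨Nat.prime_two⟩
  obtain ⟨a, b, hgens⟩ := ZStarLocal.exists_gens (S : Subgroup G) (n := 1) le_rfl
    (show (S : Subgroup G) ≃* QuaternionGroup (2 ^ 1) from e)
  have hZ2 := BrauerSuzukiApps.card_center hgens hO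
  set Z := Subgroup.center G with hZ
  have hZp : IsPGroup 2 Z := IsPGroup.of_card (n := 1) (by rw [hZ2, pow_one])
  have hZS : Z ≤ (S : Subgroup G) :=
    le_sup_right.trans (S.is_maximal' (S.isPGroup'.to_sup_of_normal_right hZp) le_sup_left).le
  obtain ⟨z', hz'⟩ := exists_prime_orderOf_dvd_card' (G := Z) 2 (by rw [hZ2])
  set z : G := (z' : G) with hzdef
  have hzo : orderOf z = 2 := by rw [hzdef, Subgroup.orderOf_coe, hz']
  have hz1 : z ≠ 1 := fun h => by rw [h, orderOf_one] at hzo; omega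
  have hzz : z * z = 1 := (pow_two z).symm.trans (orderOf_dvd_iff_pow_eq_one.mp (by rw [hzo]))
  have hzZ : z ∈ Z := z'.2
  have hzc : ∀ g, g * z = z * g := Subgroup.mem_center_iff.mp hzZ
  have hzS : z ∈ (S : Subgroup G) := hZS hzZ
  have hez : e ⟨z, hzS⟩ = QuaternionGroup.a 2 := by
    refine (q8_invol _ ?_).resolve_left fun h => hz1 ?_
    · rw [← map_mul, map_eq_one_iff e e.injective]; exact Subtype.ext hzz
    · exact congrArg Subtype.val ((map_eq_one_iff e e.injective).mp h)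
  have hinvol : ∀ s ∈ (S : Subgroup G), s * s = 1 → s = 1 ∨ s = z := by
    intro s hs h
    rcases q8_invol (e ⟨s, hs⟩) (by
      rw [← map_mul, map_eq_one_iff e e.injective]; exact Subtype.ext h) with h' | h'
    · exact Or.inl (congrArg Subtype.val ((map_eq_one_iff e e.injective).mp h'))
    · exact Or.inr (congrArg Subtype.val (e.injective (h'.trans hez.symm)))
  have hsq : ∀ s ∈ (S : Subgroup G), s * s = 1 ∨ s * s = z := by
    intro s hs
    rcases q8_sq (e ⟨s, hs⟩) with h' | h'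
    · rw [← map_mul, map_eq_one_iff e e.injective] at h'
      exact Or.inl (congrArg Subtype.val h')
    · rw [← map_mul, ← hez] at h'
      exact Or.inr (congrArg Subtype.val (e.injective h'))
  have hmemZ : ∀ w ∈ Z, w = 1 ∨ w = z := by
    intro w hw
    refine hinvol w (hZS hw) ?_
    have h : (⟨w, hw⟩ : Z) ^ 2 = 1 := by rw [← hZ2]; exact pow_card_eq_one'
    rw [pow_two] at h
    exact congrArg Subtype.val h
  have hnotZ : ∀ s ∈ (S : Subgroup G), s ∉ Z → orderOf s = 4 ∧ s * s = z := by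
    intro s hs hsZ
    have hne : s * s ≠ 1 := fun h => by
      rcases hinvol s hs h with h' | h'
      · exact hsZ (h' ▸ Z.one_mem)
      · exact hsZ (h' ▸ hzZ)
    have h2 : s * s = z := (hsq s hs).resolve_left hne
    refine ⟨orderOf_eq_prime_pow (p := 2) (n := 1) (by rwa [pow_one, pow_two]) ?_, h2⟩
    rw [show (2 : ℕ) ^ (1 + 1) = 2 * 2 by norm_num, pow_mul, pow_two, pow_two, h2, hzz]
  have hreal : ∀ s ∈ (S : Subgroup G), IsConj s s⁻¹ := by
    intro s hs
    obtain ⟨r, hr⟩ := q8_real (e ⟨s, hs⟩)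
    refine isConj_iff.mpr ⟨(e.symm r : (S : Subgroup G)), ?_⟩
    have h : e (e.symm r * ⟨s, hs⟩ * (e.symm r)⁻¹) = e (⟨s, hs⟩⁻¹) := by
      rw [map_mul, map_mul, map_inv, map_inv, e.apply_symm_apply, hr]
    exact congrArg Subtype.val (e.injective h)
  -- a conjugate in `S` of a 2-element
  have hintoS : ∀ w : G, (∃ k, orderOf w = 2 ^ k) → ∃ c : G, c * w * c⁻¹ ∈ (S : Subgroup G) := by
    rintro w ⟨k, hk⟩
    obtain ⟨R, hR⟩ := (IsPGroup.of_card (G := Subgroup.zpowers w) (n := k)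
      (by rw [Nat.card_zpowers, hk])).exists_le_sylow
    obtain ⟨c, hc⟩ := MulAction.exists_smul_eq G R S
    refine ⟨c, ?_⟩
    rw [← hc, Sylow.coe_subgroup_smul, Subgroup.mem_pointwise_smul_iff_inv_smul_mem, ← map_inv,
      MulAut.smul_def, MulAut.conj_apply, inv_inv, show c⁻¹ * (c * w * c⁻¹) * c = w by group]
    exact hR (Subgroup.mem_zpowers w)
  -- all elements of order 4 are conjugate
  have hnc : ∀ N : Subgroup G, N.Normal → ¬ Subgroup.IsComplement' N (S : Subgroup G) := by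
    intro N hN hc
    have hodd : Odd (Nat.card N) := by
      rw [← hc.index_eq_card, ← Nat.not_even_iff_odd, even_iff_two_dvd]
      exact S.not_dvd_index
    rw [hO N hN hodd] at hc
    exact hG (Subgroup.isComplement'_bot_left.mp hc)
  have hfused : ∀ s ∈ (S : Subgroup G), ∀ t ∈ (S : Subgroup G), s ∉ Z → t ∉ Z → IsConj s t := by
    intro s hs t ht hsZ htZ
    obtain ⟨hso, -⟩ := hnotZ s hs hsZ
    obtain ⟨hto, -⟩ := hnotZ t ht htZ
    obtain ⟨n, -, hmap⟩ := Cfsg.Agent.S0950.result S e hnc (Subgroup.zpowers s) (Subgroup.zpowers t)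
      (Subgroup.zpowers_le.mpr hs) (Subgroup.zpowers_le.mpr ht)
      (by rw [Nat.card_zpowers, hso]) (by rw [Nat.card_zpowers, hto])
    have htm : t ∈ (Subgroup.zpowers s).map (MulAut.conj n).toMonoidHom :=
      hmap ▸ Subgroup.mem_zpowers t
    obtain ⟨w, hw, hwt⟩ := htm
    have hw' : w = 1 ∨ w = s ∨ w = z ∨ w = s⁻¹ := by
      obtain ⟨k, rfl⟩ := mem_powers_iff_mem_zpowers.mpr hw
      simp only
      rw [← pow_mod_orderOf, hso]
      have hs2 : s * s = z := (hnotZ s hs hsZ).2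
      have hs3 : s ^ 3 = s⁻¹ := eq_inv_of_mul_eq_one_left
        (by rw [← pow_succ, show 3 + 1 = orderOf s from hso.symm, pow_orderOf_eq_one])
      have : k % 4 < 4 := Nat.mod_lt _ (by norm_num)
      interval_cases k % 4
      · exact Or.inl (pow_zero s)
      · exact Or.inr (Or.inl (pow_one s))
      · exact Or.inr (Or.inr (Or.inl (by rw [pow_two, hs2])))
      · exact Or.inr (Or.inr (Or.inr hs3))
    change n * w * n⁻¹ = t at hwt
    rcases hw' with rfl | rfl | rfl | rfl
    · exact absurd (by rw [← hwt, mul_one, mul_inv_cancel]; exact Z.one_mem) htZ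
    · exact isConj_iff.mpr ⟨n, hwt⟩
    · refine absurd ?_ htZ
      rw [← hwt, hzc n, mul_inv_cancel_right]
      exact hzZ
    · exact (hreal s hs).trans (isConj_iff.mpr ⟨n, hwt⟩)
  -- the quotient
  set P := S.mapSurjective (QuotientGroup.mk'_surjective Z) with hPdef
  have hPcoe : (P : Subgroup (G ⧸ Z)) = (S : Subgroup G).map (QuotientGroup.mk' Z) :=
    Sylow.coe_mapSurjective _ _
  have hexp : ∀ q : (P : Subgroup (G ⧸ Z)), q * q = 1 := by
    intro q
    obtain ⟨s, hs, hsq'⟩ : ∃ s ∈ (S : Subgroup G), QuotientGroup.mk' Z s = (q : G ⧸ Z) :=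
      Subgroup.mem_map.mp (by rw [← hPcoe]; exact q.2)
    refine Subtype.ext ?_
    show (q : G ⧸ Z) * q = 1
    rw [← hsq', ← map_mul, QuotientGroup.mk'_apply, QuotientGroup.eq_one_iff]
    rcases hsq s hs with h | h <;> rw [h]
    · exact Z.one_mem
    · exact hzZ
  have hS8 : Nat.card (S : Subgroup G) = 8 := by
    rw [Nat.card_congr e.toEquiv, Nat.card_eq_fintype_card, QuaternionGroup.card]
  have hP4 : Nat.card (P : Subgroup (G ⧸ Z)) = 4 := by
    have h := Subgroup.card_mul_index ((QuotientGroup.mk' Z).subgroupMap (S : Subgroup G)).ker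
    rw [Subgroup.index_ker, MonoidHom.range_eq_top.mpr (MonoidHom.subgroupMap_surjective _ _),
      Subgroup.card_top, hS8] at h
    rw [show Nat.card ((S : Subgroup G).map (QuotientGroup.mk' Z) : Subgroup (G ⧸ Z)) =
      Nat.card (P : Subgroup (G ⧸ Z)) by rw [hPcoe]] at h
    have hk : Nat.card ((QuotientGroup.mk' Z).subgroupMap (S : Subgroup G)).ker = 2 := by
      refine Eq.trans ?_ hZ2
      rw [show ((QuotientGroup.mk' Z).subgroupMap (S : Subgroup G)).ker =
          Z.subgroupOf (S : Subgroup G) by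
        ext s
        rw [MonoidHom.mem_ker, Subgroup.mem_subgroupOf, ← QuotientGroup.eq_one_iff]
        exact Subtype.ext_iff]
      exact Nat.card_congr (Subgroup.subgroupOfEquivOfLe hZS).toEquiv
    rw [hk] at h
    omega
  have hK : IsKleinFour (P : Subgroup (G ⧸ Z)) := by
    refine ⟨hP4, (Nat.prime_two.eq_one_or_self_of_dvd _ (Monoid.exponent_dvd_of_forall_pow_eq_one
      fun q => by rw [pow_two]; exact hexp q)).resolve_left fun h1 => ?_⟩
    have := Monoid.exp_eq_one_iff.1 h1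
    rw [Nat.card_of_subsingleton (1 : (P : Subgroup (G ⧸ Z)))] at hP4
    omega
  have hlift : ∀ q : G ⧸ Z, orderOf q = 2 →
      ∃ s ∈ (S : Subgroup G), s ∉ Z ∧ IsConj q (s : G ⧸ Z) := by
    intro q hq
    obtain ⟨R, hR⟩ := (IsPGroup.of_card (G := Subgroup.zpowers q) (n := 1)
      (by rw [Nat.card_zpowers, hq, pow_one])).exists_le_sylow
    obtain ⟨c, hc⟩ := MulAction.exists_smul_eq (G ⧸ Z) R P
    have hmem : c * q * c⁻¹ ∈ (P : Subgroup (G ⧸ Z)) := by
      rw [← hc, Sylow.coe_subgroup_smul, Subgroup.mem_pointwise_smul_iff_inv_smul_mem, ← map_inv,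
        MulAut.smul_def, MulAut.conj_apply, inv_inv, show c⁻¹ * (c * q * c⁻¹) * c = q by group]
      exact hR (Subgroup.mem_zpowers q)
    obtain ⟨s, hs, hsq'⟩ : ∃ s ∈ (S : Subgroup G), QuotientGroup.mk' Z s = c * q * c⁻¹ :=
      Subgroup.mem_map.mp (by rw [← hPcoe]; exact hmem)
    refine ⟨s, hs, fun h => ?_, isConj_iff.mpr ⟨c, hsq'.symm⟩⟩
    rw [QuotientGroup.mk'_apply, (QuotientGroup.eq_one_iff s).mpr h, eq_comm, conj_eq_one_iff] at hsq'
    rw [hsq', orderOf_one] at hq
    omega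
  have hone : ∀ q q' : G ⧸ Z, orderOf q = 2 → orderOf q' = 2 → IsConj q q' := by
    intro q q' hq hq'
    obtain ⟨s, hs, hsZ, h1⟩ := hlift q hq
    obtain ⟨t, ht, htZ, h2⟩ := hlift q' hq'
    exact h1.trans ((MonoidHom.map_isConj (QuotientGroup.mk' Z) (hfused s hs t ht hsZ htZ)).trans h2.symm)
  obtain ⟨hcard4, hsum4⟩ := klein_sums hM P hK hone
  -- the two halves of the block
  set B := BlockContribBounds.members (principalBlock M G) with hB
  set Bp := B.filter (fun χ : IrrCharacter G => (χ : G → ℂ) z = (χ : G → ℂ) 1) with hBp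
  set Bm := B.filter (fun χ : IrrCharacter G => ¬ (χ : G → ℂ) z = (χ : G → ℂ) 1) with hBm
  have hmap : (BlockContribBounds.members (principalBlock M (G ⧸ Z))).image
      (BlockQuotient78.infl Z) = Bp := by
    have h41 := (Cfsg.Agent.S0941.result 2 M hM Z hZp ⟨0, by
      rw [pow_zero, Subgroup.index_eq_one, Subgroup.eq_top_iff']
      exact fun g => Subgroup.mem_centralizer_iff.mpr fun w hw =>
        (Subgroup.mem_center_iff.mp hw g).symm⟩).1
    have hiff : ∀ ξ : IrrCharacter (G ⧸ Z),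
        ξ ∈ principalBlock M (G ⧸ Z) ↔ BlockQuotient78.infl Z ξ ∈ principalBlock M G := fun ξ =>
      h41 (BlockPrincipal81.oneChar (G ⧸ Z)) ξ
    ext χ
    simp only [Finset.mem_image, hBp, hB, Finset.mem_filter, BlockContribBounds.mem_members]
    constructor
    · rintro ⟨ξ, hξ, rfl⟩
      refine ⟨(hiff ξ).mp hξ, ?_⟩
      rw [BlockQuotient78.infl_apply, BlockQuotient78.infl_apply, map_one, QuotientGroup.mk'_apply,
        (QuotientGroup.eq_one_iff z).mpr hzZ]
    · rintro ⟨hχ, hχz⟩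
      have ht : ∀ w ∈ Z, (χ : G → ℂ) w = (χ : G → ℂ) 1 := fun w hw => by
        rcases hmemZ w hw with rfl | rfl
        · rfl
        · exact hχz
      refine ⟨(CharKernel.quotEquiv Z).symm ⟨χ, ht⟩, ?_, ?_⟩
      · rw [hiff, BlockQuotient78.infl, Equiv.apply_symm_apply]
        exact hχ
      · rw [BlockQuotient78.infl, Equiv.apply_symm_apply]
  have hinj : Function.Injective (BlockQuotient78.infl (G := G) Z) :=
    fun u v h => (CharKernel.quotEquiv Z).injective (Subtype.ext h)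
  have hcp : Bp.card = 4 := by rw [← hmap, Finset.card_image_of_injective _ hinj, hcard4]
  set R := Finset.univ.filter (fun r : G => ¬ 2 ∣ orderOf r) with hR
  have hsplitU : ∀ {r : G}, r ∈ R → ¬ 2 ∣ orderOf r := fun hr => (Finset.mem_filter.mp hr).2
  have hnot : ∀ r ∈ R, 2 ∣ orderOf (z * r) := by
    intro r hr
    by_contra h
    exact hz1 (BlockCentral81.split_unique (le_refl Z) hZp hzZ Z.one_mem (hsplitU hr) h
      (one_mul _).symm).1
  have hplus : ∑ χ ∈ Bp, ∑ r ∈ R, (χ : G → ℂ) r * conj ((χ : G → ℂ) r) =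
      3 * (Nat.card (G ⧸ Z) : ℂ) := by
    rw [← hmap, Finset.sum_image fun u _ v _ h => hinj h, ← hsum4]
    refine Finset.sum_congr rfl fun ξ _ => ?_
    refine Finset.sum_bij (fun r _ => (r : G ⧸ Z)) (fun r hr => ?_) (fun r hr r' hr' h => ?_)
      (fun q hq => ?_) (fun r hr => ?_)
    · exact Finset.mem_filter.mpr ⟨Finset.mem_univ _,
        fun h => hsplitU hr (h.trans (orderOf_map_dvd (QuotientGroup.mk' Z) r))⟩
    · have hw : r⁻¹ * r' ∈ Z := QuotientGroup.eq.mp h
      refine ((BlockCentral81.split_unique (le_refl Z) hZp (u := r⁻¹ * r') (r := r) (u' := 1)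
        (r' := r') hw Z.one_mem (hsplitU hr) (hsplitU hr') ?_).2)
      rw [one_mul, ← Subgroup.mem_center_iff.mp hw r, mul_inv_cancel_left]
    · obtain ⟨g, rfl⟩ := QuotientGroup.mk_surjective q
      obtain ⟨u, hu, r, hr, rfl⟩ :=
        BlockCentral81.exists_split_of_quot (Z := Z) (p := 2) (Finset.mem_filter.mp hq).2
      refine ⟨r, Finset.mem_filter.mpr ⟨Finset.mem_univ _, hr⟩, ?_⟩
      rw [QuotientGroup.mk_mul, (QuotientGroup.eq_one_iff u).mpr hu, one_mul]
    · rw [BlockQuotient78.infl_apply, QuotientGroup.mk'_apply]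
  have hsign : ∀ χ ∈ Bm, ∀ g, (χ : G → ℂ) (z * g) = -(χ : G → ℂ) g := by
    intro χ hχ g
    have h1 := BlockCentral81.char_center_mul χ hzZ z
    rw [hzz] at h1
    have hne := irr_one_ne_zero χ
    have hprod : ((χ : G → ℂ) z - (χ : G → ℂ) 1) * ((χ : G → ℂ) z + (χ : G → ℂ) 1) = 0 := by
      field_simp at h1
      linear_combination -h1
    rcases mul_eq_zero.mp hprod with h | h
    · exact absurd (sub_eq_zero.mp h) (Finset.mem_filter.mp hχ).2
    · rw [BlockCentral81.char_center_mul χ hzZ g, eq_neg_of_add_eq_zero_left h, neg_div,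
        div_self hne, neg_one_mul]
  have hsignp : ∀ χ ∈ Bp, ∀ g, (χ : G → ℂ) (z * g) = (χ : G → ℂ) g := by
    intro χ hχ g
    rw [BlockCentral81.char_center_mul χ hzZ g, (Finset.mem_filter.mp hχ).2,
      div_self (irr_one_ne_zero χ), one_mul]
  have hminus : ∑ χ ∈ Bm, ∑ r ∈ R, (χ : G → ℂ) r * conj ((χ : G → ℂ) r) =
      3 * (Nat.card (G ⧸ Z) : ℂ) := by
    rw [← hplus, Finset.sum_comm, Finset.sum_comm (s := Bp)]
    refine Finset.sum_congr rfl fun r hr => ?_
    have h := BrauerBlocksOrth.orth_regular_singular hM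
      (BlockPrincipal81.isPBlock_principal (G := G)) (hsplitU hr) (hnot r hr)
    rw [BlockTheoryIdem.finsum_mem_eq_sum, ← Finset.sum_filter] at h
    rw [show Finset.univ.filter (fun χ => χ ∈ principalBlock M G) = B from
      BlockContribBounds.filter_eq_members _,
      ← Finset.sum_filter_add_sum_filter_not B
        (fun χ : IrrCharacter G => (χ : G → ℂ) z = (χ : G → ℂ) 1), ← hBp, ← hBm] at h
    rw [Finset.sum_congr rfl (fun χ hχ => by rw [hsignp χ hχ r]),
      Finset.sum_congr (s₁ := Bm) rfl (fun χ hχ => by rw [hsign χ hχ r, map_neg, mul_neg]),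
      Finset.sum_neg_distrib] at h
    linear_combination -h
  have hnorm : ∀ χ ∈ Bm,
      (Nat.card G : ℂ) = 2 * ∑ r ∈ R, (χ : G → ℂ) r * conj ((χ : G → ℂ) r) := by
    intro χ hχ
    have hχB : χ ∈ principalBlock M G :=
      BlockContribBounds.mem_members.mp (Finset.mem_filter.mp hχ).1
    rw [← sum_norm χ, BlockCentral81.sum_eq_card_mul (le_refl Z) hZp, hZ2, Nat.cast_ofNat]
    · intro u hu g
      rcases hmemZ u hu with rfl | rfl
      · rw [one_mul]
      · rw [hsign χ hχ g, map_neg, neg_mul_neg]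
    · intro g hg
      obtain ⟨y, hxy, hc, ⟨k, hk⟩, hy⟩ := pp_spec (p := 2) g
      by_cases hxZ : pp 2 g ∈ Z
      · exact ⟨_, hxZ, y, hy, hxy.symm⟩
      exfalso
      obtain ⟨c, hcS⟩ := hintoS _ ⟨k, hk⟩
      set w := c * pp 2 g * c⁻¹ with hw
      have hwZ : w ∉ Z := fun h => hxZ (by
        rcases hmemZ w h with e' | e' <;> rw [hw] at e'
        · rw [conj_eq_one_iff] at e'
          exact e' ▸ Z.one_mem
        · rw [mul_inv_eq_iff_eq_mul, ← hzc c, mul_left_cancel_iff] at e'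
          exact e' ▸ hzZ)
      obtain ⟨hwo, hww⟩ := hnotZ w hcS hwZ
      obtain ⟨K, hK1, hK2, hK3, hK4⟩ := exists_oddCore S e hwo
      have hcw : Commute w (c * y * c⁻¹) := by
        show c * pp 2 g * c⁻¹ * (c * y * c⁻¹) = c * y * c⁻¹ * (c * pp 2 g * c⁻¹)
        calc c * pp 2 g * c⁻¹ * (c * y * c⁻¹) = c * (pp 2 g * y) * c⁻¹ := by group
          _ = c * (y * pp 2 g) * c⁻¹ := by rw [hc.eq]
          _ = _ := by group
      have hyK : c * y * c⁻¹ ∈ K := hK4 _ hcw (by
        rwa [show c * y * c⁻¹ = MulAut.conj c y from rfl, MulEquiv.orderOf_eq])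
      have hgv : (χ : G → ℂ) g = (χ : G → ℂ) w := by
        rw [← irr_classFun χ g c,
          ← ZStarPrincipal.apply_eq_of_mem hM ⟨2, hwo⟩ hK1 hK2 hK3 hχB hyK]
        congr 1
        nth_rw 1 [← hxy]
        rw [hw]
        group
      have hw0 : (χ : G → ℂ) w = 0 := by
        obtain ⟨d, hd⟩ := isConj_iff.mp (hreal w hcS)
        have h1 : (χ : G → ℂ) w⁻¹ = (χ : G → ℂ) w := by rw [← hd]; exact irr_classFun χ w d
        have hinv : w⁻¹ = z * w := by
          rw [inv_eq_iff_mul_eq_one, ← mul_assoc, hzc, mul_assoc, hww, hzz]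
        rw [hinv, hsign χ hχ w] at h1
        linear_combination -h1 / 2
      exact hg (by rw [hgv, hw0, zero_mul])
  have hcm : Bm.card = 3 := by
    have h : (Bm.card : ℂ) * (Nat.card G : ℂ) = 2 * (3 * (Nat.card (G ⧸ Z) : ℂ)) := by
      rw [← hminus, Finset.mul_sum, ← nsmul_eq_mul, ← Finset.sum_const]
      exact Finset.sum_congr rfl hnorm
    rw [Subgroup.card_eq_card_quotient_mul_card_subgroup Z, hZ2, Nat.cast_mul, Nat.cast_ofNat] at h
    have h0 : (Nat.card (G ⧸ Z) : ℂ) * 2 ≠ 0 :=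
      mul_ne_zero (Nat.cast_ne_zero.mpr Nat.card_pos.ne') two_ne_zero
    have h' : (Bm.card : ℂ) = 3 := mul_right_cancel₀ h0 (h.trans (by ring))
    exact_mod_cast h'
  have h7 : B.card = 7 := by
    rw [← Finset.card_filter_add_card_filter_not
      (fun χ : IrrCharacter G => (χ : G → ℂ) z = (χ : G → ℂ) 1), ← hBp, ← hBm, hcp, hcm]
  rw [← h7, Nat.card_eq_fintype_card]
  exact Fintype.card_of_subtype B fun χ => BlockContribBounds.mem_members

end Cfsg.Agent.BlockQuaternion9
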