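import Cfsg.Agent.Lib.BlockPCP9
import Cfsg.Agent.Lib.BlockPCount9
import Cfsg.Agent.Lib.BlockFong9
import Cfsg.Agent.Lib.CharProjDegree

/-!
Blocks with a normal defect group: the defect group is abelian exactly when all heights vanish.
-/

set_option autoImplicit false

namespace Cfsg.Agent.BlockReynolds9

open Cfsg Cfsg.Agent.BlockTheoryLocalRing Cfsg.Agent.BlockTheoryCentre
open Cfsg.Agent.BlockTheoryIdem Cfsg.Agent.BlockTheoryBrauer Cfsg.Agent.BlockTheoryDefect
open Cfsg.Agent.BlockTheoryInduced
open Cfsg.Agent.BrauerPairs81Base Cfsg.Agent.BrauerPairs81Pairs Cfsg.Agent.BrauerPairs81Conj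
open Cfsg.Agent.BrauerPairs81Max Cfsg.Agent.BlockPCP9 Cfsg.Agent.BrauerBlocksCovering
open Cfsg.Agent.BlockTheoryNormal
open scoped ComplexConjugate

attribute [local instance] Classical.propDecidable

set_option linter.unusedSectionVars false

variable {p : ℕ} [Fact p.Prime] {M : Ideal AlgInt} {G : Type*} [Group G] [Fintype G]
variable {P : Subgroup G} [hPn : P.Normal]

theorem normal_cen : (Cen P).Normal := by
  rw [← Subgroup.normalizer_eq_top_iff, eq_top_iff, ← Subgroup.normalizer_eq_top P]
  exact normalizer_le_normalizer_cen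

theorem normal_PC : (PC P).Normal := by
  haveI := normal_cen (P := P)
  exact Subgroup.sup_normal P (Cen P)

theorem sup_subgroupOf_eq_top :
    P.subgroupOf (PC P) ⊔ Subgroup.centralizer ((P.subgroupOf (PC P) : Subgroup (PC P)) : Set (PC P))
      = ⊤ := by
  refine eq_top_iff.mpr fun x _ => ?_
  obtain ⟨u, hu, c, hc, h⟩ := Subgroup.mem_sup_of_normal_left.mp x.2
  obtain ⟨hcL, hc'⟩ := (cenCompat_PC (P := P) c).mp hc
  rw [show x = (⟨u, le_PC hu⟩ : PC P) * ⟨c, hcL⟩ from Subtype.ext h.symm]
  exact Subgroup.mul_mem_sup hu hc'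

/-- The block of a constituent in `P C(P)` induces the block of the character. -/
theorem induced_of_constituent (hM : IsPModular p M) (hP : IsPGroup p P) {χ : IrrCharacter G}
    {η : IrrCharacter (PC P)}
    (h : classInner (fun n : PC P => (χ : G → ℂ) n) (η : PC P → ℂ) ≠ 0) :
    IsInducedBlock M (PC P) (blockOf M (η : PC P → ℂ)) (blockOf M (χ : G → ℂ)) := by
  haveI := normal_PC (P := P)
  refine ⟨isPBlock_blockOf η, isPBlock_blockOf χ, fun ξ hξ χ' hχ' g => ?_⟩
  have h1 := omega_sub_mem hM
    (sameBlock_of_mem hM (isPBlock_blockOf η) hξ (self_mem_blockOf hM η))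
    (isCen_res (PC P) (isCen_classSum g)) (isInt_res (PC P) (isInt_classSum hM g))
  rw [omega_res_classSum, omega_res_classSum] at h1
  have h2 := sameBlock_of_mem hM (isPBlock_blockOf χ) hχ' (self_mem_blockOf hM χ) g
  have h3 : MemLocalIdeal M
      (inducedCentralChar (PC P) (η : PC P → ℂ) g - centralChar (χ : G → ℂ) g) := by
    by_cases hg : g ∈ PC P
    · rw [centralChar_eq_induced (PC P) χ h hg, sub_self]
      exact ideal_zero hM
    · have h0 : inducedCentralChar (PC P) (η : PC P → ℂ) g = 0 := by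
        rw [← omega_res_classSum]
        have : res (PC P) (classSum g) = 0 := by
          refine MonoidAlgebra.ext ?_
          ext x
          simp only [coeff_res, classSum, coeff_ofFun]
          rw [if_neg]
          · simp
          · intro hx
            obtain ⟨c, hc⟩ := isConj_iff.mp hx.symm
            exact hg (hc ▸ (normal_PC (P := P)).conj_mem _ x.2 c)
        rw [this, map_zero]
      rw [h0, zero_sub]
      exact ideal_neg (BlockNormalP81.centralChar_ideal hM P hP χ fun h' => hg (cen_le_PC h'))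
  exact cast (congrArg (MemLocalIdeal M) (by ring))
    (ideal_sub hM (ideal_add hM h1 h3) h2)

variable {B : Set (IrrCharacter G)}

theorem constituent_facts (hM : IsPModular p M) (hB : IsPBlock M B) (hD : IsDefectGroup p M B P)
    {χ : IrrCharacter G} (hχ : χ ∈ B) {η : IrrCharacter (PC P)}
    (h : classInner (fun n : PC P => (χ : G → ℂ) n) (η : PC P → ℂ) ≠ 0) :
    IsDefectGroup p M (blockOf M (η : PC P → ℂ)) (P.subgroupOf (PC P)) ∧
      ∃ e : Set (IrrCharacter (Cen P)), IsMaximalBrauerPair p M B P e ∧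
        eb (PC P) (blockOf M (η : PC P → ℂ)) = eb (Cen P) e := by
  have hP := isPGroup_of_isDefectGroup hD
  have hind := induced_of_constituent hM hP h
  rw [← eq_blockOf_of_mem hM hB hχ] at hind
  obtain ⟨e, he, hFe⟩ := exists_pair_of_block hM hP (isPBlock_blockOf η)
  have hp := (induced_iff hM he (isPBlock_blockOf η) hFe B).mp hind
  have hmax := BlockFirstMainOver.maximal_of_defect hM hD hp
  exact ⟨isDefectGroup_PC hM hmax (isPBlock_blockOf η) hFe, e, hmax, hFe⟩

/-- The minimal degree exponents of a block and of a block below it in `P C(P)`. -/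
theorem minExp_eq (hM : IsPModular p M) (hB : IsPBlock M B) (hD : IsDefectGroup p M B P)
    {b : Set (IrrCharacter (PC P))} (hb : IsPBlock M b)
    (hbD : IsDefectGroup p M b (P.subgroupOf (PC P))) :
    BlockContrib.minExp p B = (PC P).index.factorization p + BlockContrib.minExp p b ∧
      blockDefect p b = blockDefect p B := by
  have hp : p.Prime := Fact.out
  have h1 := BlockContribBounds.card_defectGroup hM hB hD
  have h2 := BlockContribBounds.card_defectGroup hM hb hbD
  rw [Nat.card_congr (Subgroup.subgroupOfEquivOfLe (le_PC (P := P))).toEquiv, h1] at h2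
  have hd : blockDefect p b = blockDefect p B := (Nat.pow_right_injective hp.two_le h2).symm
  have h3 := BlockContrib.minExp_add_defect hM hB
  have h4 := BlockContrib.minExp_add_defect hM hb
  have h5 : (Nat.card G).factorization p =
      (PC P).index.factorization p + (Nat.card (PC P)).factorization p := by
    rw [← (PC P).index_mul_card, Nat.factorization_mul Subgroup.index_ne_zero_of_finite
      Nat.card_pos.ne']
    rfl
  exact ⟨by omega, hd⟩

theorem height_zero_of_comm (hM : IsPModular p M) (hB : IsPBlock M B)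
    (hD : IsDefectGroup p M B P) (hab : ∀ a ∈ P, ∀ c ∈ P, a * c = c * a) {χ : IrrCharacter G}
    (hχ : χ ∈ B) : blockHeight p B (χ : G → ℂ) = 0 := by
  haveI := normal_PC (P := P)
  obtain ⟨η, hη⟩ := exists_constituent (G := PC P)
    (CharInduced.isCharacter_res (PC P) (CharBasic.isCharacter_of_isIrrCharacter χ.2))
    (irr_one_ne_zero χ)
  obtain ⟨hbD, -⟩ := constituent_facts hM hB hD hχ hη
  set b := blockOf M (η : PC P → ℂ) with hb
  have hbb : IsPBlock M b := isPBlock_blockOf η
  obtain ⟨hmin, -⟩ := minExp_eq hM hB hD hbb hbD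
  have hP : IsPGroup p P := isPGroup_of_isDefectGroup hD
  have hN : (P.subgroupOf (PC P)).Normal := BlockPCount9.normal_of_sup_top sup_subgroupOf_eq_top
  obtain ⟨θ, hθ, ht⟩ := BlockNormalP81.exists_trivial_on hM hbb (P.subgroupOf (PC P))
    hP.comap_subtype
  have S : BlockPCount9.Setting p M b (P.subgroupOf (PC P)) θ :=
    ⟨hM, hP.comap_subtype, sup_subgroupOf_eq_top, hN, hbb, hbD, hθ, ht⟩
  obtain ⟨φ, hφ⟩ := S.member_surjective (self_mem_blockOf hM η : η ∈ b)
  have hφ1 : (φ : P.subgroupOf (PC P) → ℂ) 1 = 1 :=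
    CharBasicLinear.apply_one_eq_one_of_comm (fun a c => Subtype.ext (Subtype.ext
      (hab _ a.2 _ c.2))) φ.2
  have hηθ : charDegree (η : PC P → ℂ) = charDegree (θ : PC P → ℂ) := by
    have e1 : (η : PC P → ℂ) 1 = (θ : PC P → ℂ) 1 := by
      rw [← hφ]
      show BlockPCount9.star p θ (P.subgroupOf (PC P)) _ 1 = _
      rw [BlockPCount9.star_regular θ _ (by simpa using (Fact.out : p.Prime).ne_one), hφ1, one_mul]
    rw [charDegree, charDegree, e1]
  obtain ⟨hθ1, hθ2⟩ : BlockContrib.minExp p b ≤ (charDegree (θ : PC P → ℂ)).factorization p ∧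
      (charDegree (θ : PC P → ℂ)).factorization p ≤ BlockContrib.minExp p b := by
    refine ⟨Nat.sInf_le ⟨θ, hθ, rfl⟩, ?_⟩
    have h1 := S.degree_exp
    have h2 := BlockContribBounds.card_defectGroup hM hbb hbD
    have h3 := BlockContrib.minExp_add_defect hM hbb
    rw [← (P.subgroupOf (PC P)).index_mul_card, Nat.factorization_mul
      Subgroup.index_ne_zero_of_finite Nat.card_pos.ne', Finsupp.add_apply, h2,
      Nat.factorization_pow, Finsupp.smul_apply, (Fact.out : p.Prime).factorization_self,
      smul_eq_mul, mul_one] at h3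
    omega
  obtain ⟨k, d, hd, hk, hkdvd⟩ := CharProjDegree.degree_dvd (PC P) χ.2 η.2 hη
  have hd' : d = charDegree (η : PC P → ℂ) := by
    rw [ClassAlgebraVal.apply_one_eq_charDegree η] at hd
    exact_mod_cast hd.symm
  have hχd : charDegree (χ : G → ℂ) = d * k := by
    rw [ClassAlgebraVal.apply_one_eq_charDegree χ] at hk
    exact_mod_cast hk
  have hpos := ClassAlgebraVal.charDegree_pos χ
  rw [hχd] at hpos
  have hd0 : d ≠ 0 := fun h => by simp [h] at hpos
  have hk0 : k ≠ 0 := fun h => by simp [h] at hpos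
  have hle := (Nat.factorization_le_iff_dvd hk0 Subgroup.index_ne_zero_of_finite).mpr hkdvd p
  show (charDegree (χ : G → ℂ)).factorization p - BlockContrib.minExp p B = 0
  rw [hχd, Nat.factorization_mul hd0 hk0, Finsupp.add_apply, hd', hηθ]
  omega

/-- The stabiliser of a pair on a normal defect group has `p'`-index over `P C(P)`. -/
theorem not_dvd_stab (hM : IsPModular p M) {e : Set (IrrCharacter (Cen P))}
    (hmax : IsMaximalBrauerPair p M B P e) {b : Set (IrrCharacter (PC P))} (hb : IsPBlock M b)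
    (hbe : eb (PC P) b = eb (Cen P) e) (hbD : IsDefectGroup p M b (P.subgroupOf (PC P)))
    (T : Subgroup G) (hLT : PC P ≤ T) (hT : InvBy T (eb (Cen P) e)) :
    ((PC P).subgroupOf T).index.factorization p = 0 := by
  haveI := normal_PC (P := P)
  set N : Subgroup T := (PC P).subgroupOf T with hN
  set ε : PC P ≃* N := (Subgroup.subgroupOfEquivOfLe hLT).symm with hε
  set b' := pushSet ε b with hb'
  have hb'b : IsPBlock M b' := isPBlock_push ε hb
  have hcoe : ∀ x : PC P, ((ε x : T) : G) = x := fun x => rfl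
  have hco : ∀ t : T, (eb N b').coeff t = (eb (PC P) b).coeff (t : G) := by
    intro t
    by_cases ht : (t : G) ∈ PC P
    · rw [show t = ((ε ⟨(t : G), ht⟩ : N) : T) from Subtype.ext rfl, coeff_eb_coe, blockCoeff_push,
        hcoe, coeff_eb_coe]
    · rw [coeff_eb_of_notMem _ _ ht, coeff_eb_of_notMem N _ fun h => ht (Subgroup.mem_subgroupOf.mp h)]
  have hinv : ∀ g : T, ∀ θ ∈ b', conjIrr N θ g ∈ b' := by
    intro g θ hθ
    have hst : StabilizesBlock N b' g⁻¹ := by
      refine stabilizes_iff.mpr ⟨by rw [Subgroup.normalizer_eq_top]; trivial, ?_⟩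
      refine MonoidAlgebra.ext ?_
      ext t
      rw [coeff_cjA, hco, hco, hbe, inv_inv]
      exact hT (g : G) g.2 (t : G)
    obtain ⟨θ', hθ', hc⟩ := hst.2 θ hθ
    have : conjIrr N θ g = θ' := by
      refine Subtype.ext (funext fun n => ?_)
      rw [hc ⟨g * n * g⁻¹, (inferInstance : N.Normal).conj_mem n n.2 g⟩ n (by group)]
      rfl
    exact this ▸ hθ'
  have hcardb : p ^ blockDefect p b' = Nat.card P := by
    rw [← BlockContribBounds.card_defectGroup hM hb'b (isDefectGroup_push ε hbD),
      Subgroup.card_map_of_injective ε.injective]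
    exact Nat.card_congr (Subgroup.subgroupOfEquivOfLe (le_PC (P := P))).toEquiv
  obtain ⟨R, hR, hcard, hns⟩ := BlockFong9.exists_large_sylow N hM hb'b hinv
  have hRT : R.map T.subtype ≤ T := Subgroup.map_subtype_le R
  by_contra hne
  refine hns fun t => ?_
  have hnotle : ¬ R.map T.subtype ≤ P := fun hle => by
    have h1 := Subgroup.card_le_of_le hle
    rw [Subgroup.card_map_of_injective T.subtype_injective, hcard, ← hcardb] at h1
    have := (Nat.pow_le_pow_iff_right (Fact.out : p.Prime).one_lt).mp h1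
    exact hne (by omega)
  set S := P ⊔ R.map T.subtype with hS
  have hRN : R.map T.subtype ≤ Subgroup.normalizer (P : Set G) := by
    rw [Subgroup.normalizer_eq_top]; exact le_top
  have hsmall : Small M (cut S (eb (Cen P) e)) :=
    noExt hM hmax (hmax.1.1.1.to_sup_of_normal_left' (hR.map _) hRN)
      (lt_of_le_of_ne le_sup_left fun h => hnotle (le_sup_right.trans h.ge))
      (by rw [Subgroup.normalizer_eq_top]; exact le_top)
      (invBy_sup (invBy_eb_cen P e) (invBy_mono hRT hT))
  rw [coeff_cut]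
  split_ifs with htR
  swap
  · exact ideal_zero hM
  have hl : (liftIdem N b').coeff t = (eb (Cen P) e).coeff (t : G) := by
    rw [← hbe, ← hco]
    by_cases ht : t ∈ N
    · have h1 := coeff_eb_coe N b' ⟨t, ht⟩
      rw [h1]
      simp only [liftIdem, coeff_ofFun, dif_pos ht]
    · rw [liftIdem_supp N b' t ht, coeff_eb_of_notMem N b' ht]
  rw [hl]
  by_cases htC : (t : G) ∈ Cen P
  · have htS : (t : G) ∈ Cen S := by
      refine le_centralizer_singleton_iff.mp (sup_le (le_centralizer_singleton_iff.mpr htC) ?_)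
      rintro _ ⟨d, hd, rfl⟩
      exact Subgroup.mem_centralizer_singleton_iff.mpr
        (congrArg Subtype.val (Subgroup.mem_centralizer_iff.mp htR d hd))
    have := hsmall (t : G)
    rwa [coeff_cut, if_pos htS] at this
  · rw [coeff_eb_of_notMem _ e htC]; exact ideal_zero hM

theorem comm_of_height_zero (hM : IsPModular p M) (hB : IsPBlock M B)
    (hD : IsDefectGroup p M B P) (h0 : ∀ χ ∈ B, blockHeight p B (χ : G → ℂ) = 0) :
    ∀ a ∈ P, ∀ c ∈ P, a * c = c * a := by
  haveI := normal_PC (P := P)
  have hp : p.Prime := Fact.out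
  have hP : IsPGroup p P := isPGroup_of_isDefectGroup hD
  obtain ⟨e, he⟩ := exists_pairOf_of_not_small hM hB hP (not_small_cut_defect hM hB hD)
  obtain ⟨b, hb, hbe⟩ := exists_block_PC hM he.1
  have hmax := BlockFirstMainOver.maximal_of_defect hM hD he
  have hbD := isDefectGroup_PC hM hmax hb hbe
  obtain ⟨hmin, -⟩ := minExp_eq hM hB hD hb hbD
  have hindB := (induced_iff hM he.1 hb hbe B).mpr he
  have hN : (P.subgroupOf (PC P)).Normal := BlockPCount9.normal_of_sup_top sup_subgroupOf_eq_top
  obtain ⟨θ, hθ, ht⟩ := BlockNormalP81.exists_trivial_on hM hb (P.subgroupOf (PC P))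
    hP.comap_subtype
  have S : BlockPCount9.Setting p M b (P.subgroupOf (PC P)) θ :=
    ⟨hM, hP.comap_subtype, sup_subgroupOf_eq_top, hN, hb, hbD, hθ, ht⟩
  suffices hlin : ∀ φ : IrrCharacter (P.subgroupOf (PC P)),
      (φ : P.subgroupOf (PC P) → ℂ) 1 = 1 by
    intro a ha c hc
    exact congrArg (fun x : P.subgroupOf (PC P) => ((x : PC P) : G))
      (CharBasicLinear.comm_of_forall_apply_one hlin
        ⟨⟨a, le_PC ha⟩, ha⟩ ⟨⟨c, le_PC hc⟩, hc⟩)
  intro φ
  set η := S.member φ with hη'
  have hηb : η ∈ b := S.member_mem φ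
  have hη1 : charDegree (η : PC P → ℂ) =
      charDegree (φ : P.subgroupOf (PC P) → ℂ) * charDegree (θ : PC P → ℂ) := by
    have e1 : (η : PC P → ℂ) 1 =
        (φ : P.subgroupOf (PC P) → ℂ) 1 * (θ : PC P → ℂ) 1 :=
      BlockPCount9.star_regular θ _ (by simpa using hp.ne_one)
    rw [ClassAlgebraVal.apply_one_eq_charDegree η, ClassAlgebraVal.apply_one_eq_charDegree φ,
      ClassAlgebraVal.apply_one_eq_charDegree θ] at e1
    exact_mod_cast e1
  -- a character of `G` over `η`
  obtain ⟨χ, hχ⟩ : ∃ χ : IrrCharacter G,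
      classInner (fun n : PC P => (χ : G → ℂ) n) (η : PC P → ℂ) ≠ 0 := by
    by_contra! hall
    have hc := CharInduced.isCharacter_ind (PC P) (CharBasic.isCharacter_of_isIrrCharacter η.2)
    obtain ⟨χ, hχ⟩ := exists_constituent hc (by
      rw [CharInduced.ind_one_apply]
      exact mul_ne_zero (Nat.cast_ne_zero.mpr Subgroup.index_ne_zero_of_finite)
        (irr_one_ne_zero η))
    refine hχ ?_
    rw [CharInduced.classInner_comm_of_isCharacter hc
      (CharBasic.isCharacter_of_isIrrCharacter χ.2),
      CharInduced.inner_ind_right (PC P) _ (irr_classFun χ)]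
    exact hall χ
  have hχB : χ ∈ B := by
    have hind := induced_of_constituent hM hP hχ
    rw [← eq_blockOf_of_mem hM hb hηb] at hind
    rw [inducedBlock_unique (PC P) hM hindB hind]
    exact self_mem_blockOf hM χ
  -- the inertia group lies in the stabiliser
  set T := fixG (eb (Cen P) e) with hT
  have hLT : PC P ≤ T := invBy_iff_le.mp (invBy_PC e)
  have hI : CharInduced.inertia (PC P) (η : PC P → ℂ) ≤ T := by
    intro g hg
    have hmem := conj_mem_iff_of_normalizer (K := PC P) (u := g)
      (by rw [Subgroup.normalizer_eq_top]; trivial)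
    show cjA g (eb (Cen P) e) = eb (Cen P) e
    rw [← hbe, cjA_eb hmem]
    congr 1
    refine block_eq_of_mem hM (isPBlock_push _ hb) hb (?_ : η ∈ _) hηb
    refine ⟨η, hηb, Subtype.ext (funext fun n => ?_)⟩
    obtain ⟨m, rfl⟩ := (conjEquiv g (PC P) (PC P) hmem).surjective n
    rw [pushChar_apply]
    exact ((CharInduced.mem_inertia_iff (PC P)).mp hg m).symm
  have hTdvd : T.index ∣ (CharInduced.inertia (PC P) (η : PC P → ℂ)).index :=
    Subgroup.index_dvd_of_le hI
  have hstab := not_dvd_stab hM hmax hb hbe hbD T hLT (invBy_iff_le.mpr le_rfl)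
  have hTL : ((PC P).subgroupOf T).index * T.index = (PC P).index :=
    Subgroup.relIndex_mul_index hLT
  have hindex : (PC P).index.factorization p = T.index.factorization p := by
    rw [← hTL, Nat.factorization_mul Subgroup.index_ne_zero_of_finite
      Subgroup.index_ne_zero_of_finite, Finsupp.add_apply, hstab, zero_add]
  obtain ⟨a, ha⟩ := CharBasicOrth.classInner_isCharacter
    (CharInduced.isCharacter_res (PC P) (CharBasic.isCharacter_of_isIrrCharacter χ.2))
    (CharBasic.isCharacter_of_isIrrCharacter η.2)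
  have hdeg := CharCliffordCorr.apply_one_eq (PC P) χ.2 η.2 hχ
  rw [ha, ClassAlgebraVal.apply_one_eq_charDegree χ,
    ClassAlgebraVal.apply_one_eq_charDegree η] at hdeg
  have hdeg' : charDegree (χ : G → ℂ) =
      a * (CharInduced.inertia (PC P) (η : PC P → ℂ)).index * charDegree (η : PC P → ℂ) := by
    exact_mod_cast hdeg
  have ha0 : a ≠ 0 := fun h => hχ (by rw [ha, h, Nat.cast_zero])
  have hv := h0 χ hχB
  change (charDegree (χ : G → ℂ)).factorization p - BlockContrib.minExp p B = 0 at hv
  have hθv : BlockContrib.minExp p b ≤ (charDegree (θ : PC P → ℂ)).factorization p :=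
    Nat.sInf_le ⟨θ, hθ, rfl⟩
  have hle := (Nat.factorization_le_iff_dvd (Subgroup.index_ne_zero_of_finite (H := T))
    Subgroup.index_ne_zero_of_finite).mpr hTdvd p
  rw [hdeg', hη1, Nat.factorization_mul (Nat.mul_ne_zero ha0 Subgroup.index_ne_zero_of_finite)
    (Nat.mul_ne_zero (ClassAlgebraVal.charDegree_pos φ).ne' (ClassAlgebraVal.charDegree_pos θ).ne'),
    Nat.factorization_mul ha0 Subgroup.index_ne_zero_of_finite,
    Nat.factorization_mul (ClassAlgebraVal.charDegree_pos φ).ne'
      (ClassAlgebraVal.charDegree_pos θ).ne'] at hv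
  simp only [Finsupp.add_apply] at hv
  have hφ0 : (charDegree (φ : P.subgroupOf (PC P) → ℂ)).factorization p = 0 := by omega
  obtain ⟨k, hk⟩ := IsPGroup.iff_card.mp (hP.comap_subtype (K := PC P))
  obtain ⟨j, -, hj⟩ := (Nat.dvd_prime_pow hp).mp
    (hk ▸ CharAverage.charDegree_dvd_card φ : charDegree (φ : P.subgroupOf (PC P) → ℂ) ∣ p ^ k)
  rw [hj, Nat.factorization_pow, Finsupp.smul_apply, hp.factorization_self, smul_eq_mul,
    mul_one] at hφ0
  rw [ClassAlgebraVal.apply_one_eq_charDegree φ, hj, hφ0, pow_zero, Nat.cast_one]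

end Cfsg.Agent.BlockReynolds9
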