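import Cfsg.Agent.Lib.BlockCount91
import Cfsg.Agent.Lib.ClassAlgebraOmega

/-!
A decidable criterion: no assignment of degrees and of values at an involution to the principal
block of a Sylow subgroup of prime order is consistent with the counting equation.
-/

set_option autoImplicit false
set_option linter.style.haveILetI false
set_option linter.unusedSectionVars false

open scoped ComplexConjugate

namespace Cfsg.Agent.BlockCount91

open Cfsg Cfsg.Agent.BlockPrime86 Cfsg.Agent.BlockPrincipal81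

attribute [local instance] Classical.propDecidable

/-- Search over multisets of size `k` drawn from `L`. -/
def srch {α S : Type} (step : S → α → Option S) (fin : S → Bool) : ℕ → List α → S → Bool
  | 0, _, s => fin s
  | k + 1, L, s => L.tails.all fun T => match T with
    | [] => true
    | x :: T' => match step s x with
      | none => true
      | some s' => srch step fin k (x :: T') s'

theorem exists_tail {α : Type} : ∀ (L : List α) (m : Multiset α), m ≠ 0 → (∀ x ∈ m, x ∈ L) →
    ∃ x T', x :: T' ∈ L.tails ∧ x ∈ m ∧ ∀ z ∈ m, z ∈ x :: T'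
  | [], m, hm, hL => by
      obtain ⟨x, hx⟩ := Multiset.exists_mem_of_ne_zero hm
      exact absurd (hL x hx) (by simp)
  | a :: L, m, hm, hL => by
      by_cases ha : a ∈ m
      · exact ⟨a, L, by simp, ha, hL⟩
      · obtain ⟨x, T', h1, h2, h3⟩ := exists_tail L m hm fun z hz =>
          (List.mem_cons.1 (hL z hz)).resolve_left fun e => ha (e ▸ hz)
        exact ⟨x, T', by rw [List.tails]; exact List.mem_cons_of_mem _ h1, h2, h3⟩

/-- Soundness of the search for any invariant preserved by the steps. -/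
theorem srch_sound {α S : Type} (step : S → α → Option S) (fin : S → Bool)
    (Inv : S → Multiset α → Prop)
    (hstep : ∀ s x m, Inv s (x ::ₘ m) → ∃ s', step s x = some s' ∧ Inv s' m)
    (hfin : ∀ s, Inv s 0 → fin s = false) :
    ∀ (k : ℕ) (L : List α) (s : S) (m : Multiset α), srch step fin k L s = true →
      Multiset.card m = k → (∀ x ∈ m, x ∈ L) → Inv s m → False
  | 0, L, s, m, h, hc, _, hI => by
      rw [Multiset.card_eq_zero] at hc
      subst hc
      rw [srch, hfin s hI] at h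
      exact Bool.false_ne_true h
  | k + 1, L, s, m, h, hc, hL, hI => by
      classical
      obtain ⟨x, T', hT, hx, hsub⟩ := exists_tail L m (fun e => by rw [e] at hc; simp at hc) hL
      obtain ⟨m', rfl⟩ := Multiset.exists_cons_of_mem hx
      obtain ⟨s', hs, hI'⟩ := hstep s x m' hI
      rw [srch, List.all_eq_true] at h
      have h' := h _ hT
      simp only [hs] at h'
      exact srch_sound step fin Inv hstep hfin k (x :: T') s' m' h' (by simpa using hc)
        (fun z hz => hsub z (Multiset.mem_cons_of_mem hz)) hI'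

/-- The sign of a degree modulo `p`. -/
def sgn (p d : ℕ) : ℤ := if d % p = 1 then 1 else -1

/-- Degrees of nontrivial characters congruent to `±1`. -/
def dList (n p lo : ℕ) : List ℕ :=
  (List.range (Nat.sqrt n + 1)).filter fun d =>
    decide (2 ≤ d) && decide (lo ≤ d) && decide (n % d = 0) && decide (d * d < n) &&
      (decide (d % p = 1) || decide (d % p = p - 1))

/-- One step of the degree search. -/
def stepD (n p : ℕ) (s : ℤ × ℕ) (d : ℕ) : Option (ℤ × ℕ) :=
  if s.2 + d * d ≤ n then some (s.1 + sgn p d * (d : ℤ), s.2 + d * d) else none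

/-- The final test of the degree search, inertia index less than `p - 1`. -/
def finD (n p e : ℕ) (s : ℤ × ℕ) : Bool :=
  let D := s.1.natAbs
  !(decide (n % D = 0) && decide (2 * p ≤ D) && decide (D % p = e ∨ D % p = p - e) &&
    decide (s.2 + (p - 1) / e * (D * D) ≤ n))

/-- The final test of the degree search, inertia index `p - 1`. -/
def finF (n : ℕ) (s : ℤ × ℕ) : Bool := !(decide (s.1 = 0) && decide (s.2 ≤ n))

/-- Every choice of degrees has one below `2 p`. -/
def smallB (n p e : ℕ) : Bool :=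
  if e + 1 = p then srch (stepD n p) (finF n) (p - 1) (dList n p (2 * p)) (1, 1)
  else srch (stepD n p) (finD n p e) (e - 1) (dList n p (2 * p)) (1, 1)

/-- Admissible pairs (degree, value at an involution) when `|C(t)| = c`. -/
def pairs (n p c : ℕ) : List (ℕ × ℤ) :=
  (dList n p 0).flatMap fun (d : ℕ) =>
    (((List.range (2 * Nat.sqrt c + 1)).map fun (i : ℕ) => (i : ℤ) - (Nat.sqrt c : ℤ)).filter fun z =>
      decide (z ≠ (d : ℤ)) && decide (z.natAbs ≤ d) && decide (((d : ℤ) - z) % 4 = 0) &&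
        decide ((n / c) * z.natAbs % d = 0) && decide (z.natAbs * z.natAbs < c)).map fun z => (d, z)

/-- The state of the search: `Σ s d`, `Σ s z`, `L Σ s z² / d`, `Σ z²`, `Σ d²`. -/
abbrev St := ℤ × ℤ × ℤ × ℕ × ℕ

/-- One step of the search. -/
def stepV (n p c l : ℕ) (s : St) (x : ℕ × ℤ) : Option St :=
  if s.2.2.2.1 + x.2.natAbs * x.2.natAbs ≤ c ∧ s.2.2.2.2 + x.1 * x.1 ≤ n then
    some (s.1 + sgn p x.1 * (x.1 : ℤ), s.2.1 + sgn p x.1 * x.2,
      s.2.2.1 + sgn p x.1 * (x.2 * x.2) * ((l / x.1 : ℕ) : ℤ),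
      s.2.2.2.1 + x.2.natAbs * x.2.natAbs, s.2.2.2.2 + x.1 * x.1)
  else none

/-- The final test of the search. -/
def finV (n p c l : ℕ) (s : St) : Bool :=
  !(decide (s.1 = 0) && decide (s.2.1 = 0) && decide (s.2.2.1 * (n : ℤ) = ((l * (p * (c * c)) : ℕ) : ℤ)) &&
    (decide (s.2.2.2.1 ≠ c) || decide ((n - s.2.2.2.2) % (16 * (p * p)) = 0)))

/-- No involution centraliser of order `c` inverting an element of order `p`. -/
def killB (n p l c : ℕ) : Bool :=
  ((dList n p 0).all fun d => decide (l % d = 0)) &&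
    srch (stepV n p c l) (finV n p c l) (p - 1) (pairs n p c) (1, 1, (l : ℤ), 1, 1)

variable {G : Type*} [Group G] [Fintype G] [IsSimpleGroup G] (hG : ¬ IsMulCommutative G) {p : ℕ}
  [hp : Fact p.Prime] {M : Ideal AlgInt} (hM : IsPModular p M) {P : Sylow p G}
  (hP : Nat.card ↥(P : Subgroup G) = p) {n : ℕ} (hn : Nat.card G = n)

include hG hn in
theorem mem_dList {χ : IrrCharacter G} (hne : χ ≠ oneChar G) {lo : ℕ} (hlo : lo ≤ deg χ)
    (hmod : deg χ % p = 1 ∨ deg χ % p = p - 1) : deg χ ∈ dList n p lo := by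
  have h := deg_sq_lt hne
  rw [hn] at h
  simp only [dList, List.mem_filter, List.mem_range, Bool.and_eq_true, Bool.or_eq_true, decide_eq_true_eq]
  exact ⟨Nat.lt_succ_of_le (Nat.le_sqrt.2 h.le),
    ⟨⟨⟨two_le_deg hG hne, hlo⟩, Nat.mod_eq_zero_of_dvd (hn ▸ deg_dvd χ)⟩, h⟩, hmod⟩

theorem mod_of_congr {d w : ℕ} {z : ℤ} (hz : z = w ∨ z = -(w : ℤ)) (hw0 : 0 < w) (hw : w < p)
    (h : (d : ℤ) ≡ z [ZMOD p]) : d % p = w ∨ d % p = p - w := by
  have h' : ((d % p : ℕ) : ℤ) = z % p := by rw [Int.natCast_mod]; exact h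
  rcases hz with rfl | rfl
  · left
    rw [Int.emod_eq_of_lt (by omega) (by omega)] at h'
    exact_mod_cast h'
  · right
    rw [← Int.add_mul_emod_self_left (-(w : ℤ)) (p : ℤ) 1, mul_one,
      Int.emod_eq_of_lt (by omega) (by omega)] at h'
    omega

theorem sgn_eq (hp2 : 2 < p) {d : ℕ} {s : ℤ} (hs : s = 1 ∨ s = -1) (h : (d : ℤ) ≡ s [ZMOD p]) :
    sgn p d = s := by
  rcases hs with rfl | rfl <;> unfold sgn
  · rw [if_pos]
    have h' : ((d % p : ℕ) : ℤ) = (1 : ℤ) % p := by rw [Int.natCast_mod]; exact h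
    rw [Int.emod_eq_of_lt (by omega) (by omega)] at h'
    exact_mod_cast h'
  · rw [if_neg]
    intro h1
    have h' : ((d % p : ℕ) : ℤ) = (-1 : ℤ) % p := by rw [Int.natCast_mod]; exact h
    rw [h1, ← Int.add_mul_emod_self_left (-1 : ℤ) (p : ℤ) 1, mul_one,
      Int.emod_eq_of_lt (by omega) (by omega)] at h'
    omega

include hM hP in
/-- The principal block when the inertia index is `p - 1`. -/
theorem full_block (hodd : p ≠ 2)
    (he : (Subgroup.centralizer ((P : Subgroup G) : Set G)).relIndex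
      (Subgroup.normalizer ((P : Subgroup G) : Set G)) = p - 1) :
    ∃ B : Finset (IrrCharacter G), oneChar G ∈ B ∧ B.card = p ∧
      (∀ χ ∈ B, χ ∈ principalBlock M G ∧ (deg χ % p = 1 ∨ deg χ % p = p - 1)) ∧
      (∀ g : G, ¬ p ∣ orderOf g → ∑ χ ∈ B, (sgn p (deg χ) : ℂ) * (χ : G → ℂ) g = 0) ∧
      (Nat.card ↥(Subgroup.centralizer ((P : Subgroup G) : Set G)) = p →
        ∀ y ∈ (P : Subgroup G), y ≠ 1 → (∀ χ, χ ∉ B → p ∣ deg χ ∧ (χ : G → ℂ) y = 0) ∧
          ∀ χ ∈ B, (χ : G → ℂ) y = (sgn p (deg χ) : ℂ)) := by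
  haveI : Fintype ↥(P : Subgroup G) := Fintype.ofFinite _
  haveI : Fintype (↥(P : Subgroup G) →* ℂˣ) := Fintype.ofFinite _
  have hp1 := hp.out.two_le
  have hp2 : 2 < p := by omega
  obtain ⟨X, Y, a, ε, h⟩ := prime_main hP hodd hM (p - 1) he
  have hYc : Y.card = 1 := by rw [h.cardY, Nat.div_self (by omega)]
  obtain ⟨θ, hYθ⟩ := Finset.card_eq_one.1 hYc
  have hθY : θ ∈ Y := by simp [hYθ]
  have hsX : ∀ χ ∈ X, sgn p (deg χ) = a χ := fun χ hχ => sgn_eq hp2 (h.valX χ hχ).1 (h.valX χ hχ).2.1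
  have hsθ : sgn p (deg θ) = -ε := by
    refine sgn_eq hp2 (by rcases h.sign with e | e <;> simp [e]) ?_
    refine (h.degY θ hθY).trans ?_
    rw [Int.modEq_iff_dvd, Nat.cast_sub (by omega)]
    exact ⟨-ε, by push_cast; ring⟩
  have hB : ∀ χ ∈ X ∪ Y, χ ∈ principalBlock M G ∧ (deg χ % p = 1 ∨ deg χ % p = p - 1) := by
    intro χ hχ
    rcases Finset.mem_union.1 hχ with hx | hy
    · exact ⟨(h.block χ).2 (Or.inl hx), mod_of_congr (w := 1) (by simpa using (h.valX χ hx).1) Nat.one_pos (by omega)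
        (h.valX χ hx).2.1⟩
    · refine ⟨(h.block χ).2 (Or.inr hy), ?_⟩
      rcases mod_of_congr (w := p - 1) (by rcases h.sign with s | s <;> simp [s]) (by omega) (by omega)
        (h.degY χ hy) with e | e
      · exact Or.inr e
      · left
        show deg χ % p = 1
        change deg χ % p = p - (p - 1) at e
        omega
  have hrel : ∀ g : G, ¬ p ∣ orderOf g → ∑ χ ∈ X ∪ Y, (sgn p (deg χ) : ℂ) * (χ : G → ℂ) g = 0 := by
    intro g hg
    rw [Finset.sum_union h.disj, hYθ, Finset.sum_singleton, hsθ,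
      Finset.sum_congr rfl fun χ hχ => by rw [hsX χ hχ], ← h.regular θ hθY g hg]
    push_cast
    ring
  refine ⟨X ∪ Y, Finset.mem_union.2 ((h.block _).1 (oneChar_mem hM)), ?_, hB, hrel, fun hC y hy hy1 => ?_⟩
  · rw [Finset.card_union_of_disjoint h.disj, h.cardX, hYc]; omega
  have hout : ∀ χ, χ ∉ X ∪ Y → p ∣ deg χ ∧ (χ : G → ℂ) y = 0 := by
    intro χ hχ
    have hd := M11Order91.dvd_outside hP h (by omega) (by omega)
      (fun z hz hz1 => (centralizer_conj hP hz hz1).trans hC) (by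
        rw [Nat.div_self (by omega : 0 < p - 1), one_mul, ← mul_add, show p - 1 + (p - (p - 1)) = p by omega])
      (fun e => hχ (Finset.mem_union_left _ e)) (fun e => hχ (Finset.mem_union_right _ e))
    exact ⟨hd.1, hd.2 y hy hy1⟩
  refine ⟨hout, fun χ hχ => ?_⟩
  rcases Finset.mem_union.1 hχ with hx | hy'
  · rw [hsX χ hx]; exact (h.valX χ hx).2.2 y hy hy1
  · rw [hYθ, Finset.mem_singleton] at hy'
    rw [hy', hsθ]
    have ho := CharBasicOrth.sum_irr_mul_conj y (1 : G)
    rw [if_neg (fun hc => hy1 (isConj_one_left.1 hc)),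
      ← Finset.sum_subset (Finset.subset_univ (X ∪ Y)) (fun χ _ hχ => by rw [(hout χ hχ).2, zero_mul]),
      Finset.sum_union h.disj, hYθ, Finset.sum_singleton] at ho
    simp only [apply_one, Complex.conj_natCast] at ho
    rw [Finset.sum_congr rfl fun χ hχ => by rw [(h.valX χ hχ).2.2 y hy hy1]] at ho
    have h1 := hrel 1 (by rw [orderOf_one]; exact fun e => by have := Nat.le_of_dvd Nat.one_pos e; omega)
    rw [Finset.sum_union h.disj, hYθ, Finset.sum_singleton, hsθ,
      Finset.sum_congr rfl fun χ hχ => by rw [hsX χ hχ]] at h1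
    simp only [apply_one] at h1
    have hd : (deg θ : ℂ) ≠ 0 := Nat.cast_ne_zero.2 (deg_pos θ).ne'
    refine mul_right_cancel₀ hd ?_
    linear_combination ho - h1

include hG hM hP hn in
/-- The principal block contains a nontrivial character of degree less than `2 p`. -/
theorem exists_small (hodd : p ≠ 2) (e : ℕ)
    (he : (Subgroup.centralizer ((P : Subgroup G) : Set G)).relIndex
      (Subgroup.normalizer ((P : Subgroup G) : Set G)) = e)
    (he1 : 1 < e) (hep : e < p) (hk : smallB n p e = true) :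
    ∃ χ ∈ principalBlock M G, χ ≠ oneChar G ∧ deg χ < 2 * p := by
  by_contra hc
  push Not at hc
  haveI : Fintype ↥(P : Subgroup G) := Fintype.ofFinite _
  haveI : Fintype (↥(P : Subgroup G) →* ℂˣ) := Fintype.ofFinite _
  have hp1 := hp.out.two_le
  have hp2 : 2 < p := by omega
  have hstep : ∀ (target : ℤ) (s : ℤ × ℕ) (x : ℕ) (m : Multiset ℕ),
      (s.1 + ((x ::ₘ m).map fun d => sgn p d * (d : ℤ)).sum = target ∧
        s.2 + ((x ::ₘ m).map fun d => d * d).sum ≤ n) →
      ∃ s', stepD n p s x = some s' ∧ (s'.1 + (m.map fun d => sgn p d * (d : ℤ)).sum = target ∧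
        s'.2 + (m.map fun d => d * d).sum ≤ n) := by
    intro target s x m hI
    simp only [Multiset.map_cons, Multiset.sum_cons] at hI
    exact ⟨_, by rw [stepD, if_pos (by omega)], by simp only; omega, by simp only; omega⟩
  rw [smallB] at hk
  split_ifs at hk with hfull
  · obtain ⟨B, h1B, hBc, hBd, hBr, -⟩ := full_block hM hP hodd (he.trans (by omega))
    have h1 := hBr 1 (by rw [orderOf_one]; exact fun e => by have := Nat.le_of_dvd Nat.one_pos e; omega)
    simp only [apply_one] at h1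
    have h1' : ∑ χ ∈ B, sgn p (deg χ) * (deg χ : ℤ) = 0 := by exact_mod_cast h1
    have h2 := sum_subset_le B
    rw [← Finset.add_sum_erase _ _ h1B, deg_one] at h1' h2
    set m : Multiset ℕ := (B.erase (oneChar G)).val.map deg with hm
    refine srch_sound (stepD n p) (finF n)
      (fun s m => s.1 + (m.map fun d => sgn p d * (d : ℤ)).sum = 0 ∧ s.2 + (m.map fun d => d * d).sum ≤ n)
      (hstep 0) (fun s hI => ?_) (p - 1) _ (1, 1) m hk ?_ ?_ ⟨?_, ?_⟩
    · simp only [Multiset.map_zero, Multiset.sum_zero, add_zero] at hI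
      simp [finF, hI.1, hI.2]
    · rw [hm, Multiset.card_map, ← Finset.card_def, Finset.card_erase_of_mem h1B, hBc]
    · intro d hd
      rw [hm, Multiset.mem_map] at hd
      obtain ⟨χ, hχ, rfl⟩ := hd
      obtain ⟨hne, hχB⟩ := Finset.mem_erase.1 hχ
      exact mem_dList hG hn hne (hc χ (hBd χ hχB).1 hne) (hBd χ hχB).2
    · rw [hm, Multiset.map_map]
      simp only [sgn, Nat.one_mod_eq_one.2 (by omega : p ≠ 1), if_pos] at h1'
      show (1 : ℤ) + ∑ χ ∈ B.erase (oneChar G), sgn p (deg χ) * (deg χ : ℤ) = 0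
      simpa [sgn] using h1'
    · rw [hm, Multiset.map_map]
      show 1 + ∑ χ ∈ B.erase (oneChar G), deg χ * deg χ ≤ n
      rw [hn] at h2
      simpa [pow_two] using h2
  · obtain ⟨X, Y, a, ε, h⟩ := prime_main hP hodd hM e he
    have hsX : ∀ χ ∈ X, sgn p (deg χ) = a χ := fun χ hχ => sgn_eq hp2 (h.valX χ hχ).1 (h.valX χ hχ).2.1
    have hYmod : ∀ θ ∈ Y, deg θ % p = e ∨ deg θ % p = p - e := fun θ hθ =>
      mod_of_congr (by rcases h.sign with s | s <;> simp [s]) (by omega) hep (h.degY θ hθ)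
    have h1X : oneChar G ∈ X := by
      rcases (h.block _).1 (oneChar_mem hM) with hx | hy
      · exact hx
      · have := hYmod _ hy
        rw [deg_one, Nat.one_mod_eq_one.2 (by omega : p ≠ 1)] at this
        omega
    have hYc : 0 < Y.card := by
      rw [h.cardY]; exact Nat.div_pos (by omega) (by omega)
    obtain ⟨θ, hθ⟩ := Finset.card_pos.1 hYc
    have hnot1 : ¬ p ∣ orderOf (1 : G) := by
      rw [orderOf_one]; exact fun e => by have := Nat.le_of_dvd Nat.one_pos e; omega
    have hsame : ∀ η ∈ Y, deg η = deg θ := fun η hη => by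
      have := h.agree η hη θ hθ 1 hnot1
      rwa [apply_one, apply_one, Nat.cast_inj] at this
    have h1 := h.regular θ hθ 1 hnot1
    simp only [apply_one] at h1
    have h1' : ε * (deg θ : ℤ) = ∑ χ ∈ X, sgn p (deg χ) * (deg χ : ℤ) := by
      rw [Finset.sum_congr rfl fun χ hχ => by rw [hsX χ hχ]]
      exact_mod_cast h1
    rw [← Finset.add_sum_erase _ _ h1X, deg_one] at h1'
    have h2 := sum_subset_le (X ∪ Y)
    rw [Finset.sum_union h.disj, ← Finset.add_sum_erase _ _ h1X, deg_one,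
      Finset.sum_congr rfl (s₁ := Y) (g := fun _ => deg θ ^ 2) fun η hη => by rw [hsame η hη],
      Finset.sum_const, h.cardY, smul_eq_mul, hn] at h2
    set m : Multiset ℕ := (X.erase (oneChar G)).val.map deg with hm
    refine srch_sound (stepD n p) (finD n p e)
      (fun s m => s.1 + (m.map fun d => sgn p d * (d : ℤ)).sum = ε * (deg θ : ℤ) ∧
        s.2 + (p - 1) / e * (deg θ * deg θ) + (m.map fun d => d * d).sum ≤ n)
      ?_ (fun s hI => ?_) (e - 1) _ (1, 1) m hk ?_ ?_ ⟨?_, ?_⟩
    · intro s x m' hI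
      simp only [Multiset.map_cons, Multiset.sum_cons] at hI
      exact ⟨_, by rw [stepD, if_pos (by omega)], by simp only; omega, by simp only; omega⟩
    · simp only [Multiset.map_zero, Multiset.sum_zero, add_zero] at hI
      have hD : s.1.natAbs = deg θ := by rcases h.sign with e' | e' <;> rw [e'] at hI <;> omega
      have hne : θ ≠ oneChar G := fun e' => Finset.disjoint_left.1 h.disj h1X (e' ▸ hθ)
      simp [finD, hD, Nat.mod_eq_zero_of_dvd (hn ▸ deg_dvd θ), hc θ ((h.block θ).2 (Or.inr hθ)) hne,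
        hYmod θ hθ, hI.2]
    · rw [hm, Multiset.card_map, ← Finset.card_def, Finset.card_erase_of_mem h1X, h.cardX]
    · intro d hd
      rw [hm, Multiset.mem_map] at hd
      obtain ⟨χ, hχ, rfl⟩ := hd
      obtain ⟨hne, hχX⟩ := Finset.mem_erase.1 hχ
      exact mem_dList hG hn hne (hc χ ((h.block χ).2 (Or.inl hχX)) hne)
        (mod_of_congr (w := 1) (by simpa using (h.valX χ hχX).1) Nat.one_pos (by omega) (h.valX χ hχX).2.1)
    · rw [hm, Multiset.map_map]
      show (1 : ℤ) + ∑ χ ∈ X.erase (oneChar G), sgn p (deg χ) * (deg χ : ℤ) = _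
      rw [h1']
      simp [sgn, Nat.one_mod_eq_one.2 (by omega : p ≠ 1)]
    · rw [hm, Multiset.map_map]
      show 1 + (p - 1) / e * (deg θ * deg θ) + ∑ χ ∈ X.erase (oneChar G), deg χ * deg χ ≤ n
      simp only [pow_two] at h2
      omega

include hG hM hP hn in
/-- Self-centralising Sylow subgroup, from the degrees of the principal block. -/
theorem centralizer_eq_of_smallB (hodd : p ≠ 2) (e : ℕ)
    (he : (Subgroup.centralizer ((P : Subgroup G) : Set G)).relIndex
      (Subgroup.normalizer ((P : Subgroup G) : Set G)) = e)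
    (he1 : 1 < e) (hep : e < p) (hk : smallB n p e = true) :
    Nat.card ↥(Subgroup.centralizer ((P : Subgroup G) : Set G)) = p := by
  obtain ⟨χ, h1, h2, h3⟩ := exists_small hG hM hP hn hodd e he he1 hep hk
  exact card_centralizer_eq hM hP hG h1 h2 h3

include hG hM hP hn in
/-- Soundness of `killB`: an involution inverting `P`, with centraliser of order `c`, is impossible. -/
theorem false_of_killB (hodd : p ≠ 2)
    (he : (Subgroup.centralizer ((P : Subgroup G) : Set G)).relIndex
      (Subgroup.normalizer ((P : Subgroup G) : Set G)) = p - 1)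
    (hC : Nat.card ↥(Subgroup.centralizer ((P : Subgroup G) : Set G)) = p)
    {y t : G} (hy : y ∈ (P : Subgroup G)) (hy1 : y ≠ 1) (ht : orderOf t = 2) (hinv : t * y * t⁻¹ = y⁻¹)
    {c : ℕ} (hc : Nat.card ↥(Subgroup.centralizer ({t} : Set G)) = c) {l : ℕ}
    (hk : killB n p l c = true) : False := by
  have hp1 := hp.out.two_le
  have hp2 : 2 < p := by omega
  have hn0 : 0 < n := hn ▸ Nat.card_pos
  have ht1 : t ≠ 1 := fun e => by rw [e, orderOf_one] at ht; omega
  simp only [killB, Bool.and_eq_true, List.all_eq_true, decide_eq_true_eq] at hk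
  obtain ⟨hl, hk⟩ := hk
  obtain ⟨B, h1B, hBc, hBd, hBr, hBy⟩ := full_block hM hP hodd he
  obtain ⟨hout, hval⟩ := hBy hC y hy hy1
  choose z hz h4 using fun χ : IrrCharacter G => Simple720.exists_invol_value
    (Simple720.commutator_eq_top hG) (ClassAlgebraVal.irr_isCharacter χ) (apply_one χ) ht
  set B' := B.erase (oneChar G) with hB'
  have h1d : deg (oneChar G) = 1 := deg_one
  have hz1 : z (oneChar G) = 1 := by
    have h := hz (oneChar G)
    have : ((oneChar G : IrrCharacter G) : G → ℂ) t = 1 := rfl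
    rw [this] at h
    exact_mod_cast h.symm
  have hs1 : sgn p (deg (oneChar G)) = 1 := by
    rw [h1d, sgn, if_pos (Nat.one_mod_eq_one.2 (by omega : p ≠ 1))]
  have hdmem : ∀ χ ∈ B', deg χ ∈ dList n p 0 := fun χ hχ =>
    mem_dList hG hn (Finset.mem_erase.1 hχ).1 (Nat.zero_le _) (hBd χ (Finset.mem_erase.1 hχ).2).2
  -- relations
  have e1 : 1 + ∑ χ ∈ B', sgn p (deg χ) * (deg χ : ℤ) = 0 := by
    have h := hBr 1 (by rw [orderOf_one]; exact fun e => by have := Nat.le_of_dvd Nat.one_pos e; omega)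
    simp only [apply_one] at h
    have h' : ∑ χ ∈ B, sgn p (deg χ) * (deg χ : ℤ) = 0 := by exact_mod_cast h
    rw [← Finset.add_sum_erase _ _ h1B, hs1, h1d] at h'
    simpa using h'
  have e2 : 1 + ∑ χ ∈ B', sgn p (deg χ) * z χ = 0 := by
    have h := hBr t (by rw [ht]; exact fun e => by have := Nat.le_of_dvd (by norm_num) e; omega)
    simp only [hz] at h
    have h' : ∑ χ ∈ B, sgn p (deg χ) * z χ = 0 := by exact_mod_cast h
    rw [← Finset.add_sum_erase _ _ h1B, hs1, hz1] at h'
    simpa using h'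
  -- the column of `t`
  have hcol : ∑ χ : IrrCharacter G, (z χ).natAbs * (z χ).natAbs = c := by
    have h := CharBasicOrth.sum_irr_mul_conj t t
    rw [if_pos (IsConj.refl t), hc] at h
    simp only [hz, map_intCast] at h
    have h' : ∑ χ : IrrCharacter G, z χ * z χ = (c : ℤ) := by exact_mod_cast h
    have h'' : ((∑ χ : IrrCharacter G, (z χ).natAbs * (z χ).natAbs : ℕ) : ℤ) = (c : ℤ) := by
      rw [← h', Nat.cast_sum]
      exact Finset.sum_congr rfl fun χ _ => Int.natAbs_mul_self
    exact_mod_cast h''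
  have e4 : 1 + ∑ χ ∈ B', (z χ).natAbs * (z χ).natAbs ≤ c := by
    rw [← hcol]
    refine le_trans (le_of_eq ?_) (Finset.sum_le_sum_of_subset_of_nonneg (Finset.subset_univ B) fun _ _ _ => Nat.zero_le _)
    rw [← Finset.add_sum_erase _ _ h1B, hz1]
    rfl
  have e5 : 1 + ∑ χ ∈ B', deg χ * deg χ ≤ n := by
    have h := sum_subset_le B
    rw [hn, ← Finset.add_sum_erase _ _ h1B, h1d] at h
    simpa [pow_two] using h
  -- the counting equation
  have e3 : ((l : ℤ) + ∑ χ ∈ B', sgn p (deg χ) * (z χ * z χ) * ((l / deg χ : ℕ) : ℤ)) * (n : ℤ) =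
      ((l * (p * (c * c)) : ℕ) : ℤ) := by
    have hy' : orderOf y = p := orderOf_eq_prime (PGroupsBasic.pow_eq_one_of_card hP hy) hy1
    obtain ⟨hor, hne⟩ := count_eq hP hodd hC hy' ht
    have h6 := ClassAlgebraVal.sum_irr_triple t t y
    rw [hor.resolve_left (hne hinv), (centralizer_conj hP hy hy1).trans hC, hn, hc,
      ← Finset.sum_subset (Finset.subset_univ B) (fun χ _ hχ => by rw [(hout χ hχ).2]; simp),
      ← Finset.add_sum_erase _ _ h1B, ← hB'] at h6
    simp only [hz, apply_one, hval _ h1B, hz1, h1d, hs1] at h6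
    rw [Finset.sum_congr rfl (g := fun χ : IrrCharacter G => ((sgn p (deg χ) * (z χ * z χ) : ℤ) : ℂ) / (deg χ : ℂ))
      fun χ hχ => by
        rw [hval χ (Finset.mem_erase.1 hχ).2, map_intCast]
        push_cast
        ring] at h6
    have hC' : (((l : ℤ) + ∑ χ ∈ B', sgn p (deg χ) * (z χ * z χ) * ((l / deg χ : ℕ) : ℤ) : ℤ) : ℂ) * (n : ℂ) =
        ((l * (p * (c * c)) : ℕ) : ℂ) := by
      have hsum : ∀ χ ∈ B', ((sgn p (deg χ) * (z χ * z χ) * ((l / deg χ : ℕ) : ℤ) : ℤ) : ℂ) =
          (l : ℂ) * (((sgn p (deg χ) * (z χ * z χ) : ℤ) : ℂ) / (deg χ : ℂ)) := by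
        intro χ hχ
        rw [Int.cast_mul, Int.cast_natCast, Nat.cast_div (Nat.dvd_of_mod_eq_zero (hl _ (hdmem χ hχ)))
          (Nat.cast_ne_zero.2 (deg_pos χ).ne')]
        ring
      rw [Int.cast_add, Int.cast_natCast, Int.cast_sum, Finset.sum_congr rfl hsum, ← Finset.mul_sum]
      have hn' : (n : ℂ) ≠ 0 := Nat.cast_ne_zero.2 hn0.ne'
      push_cast at h6 ⊢
      field_simp at h6
      rw [show sgn p 1 = 1 from h1d ▸ hs1, Int.cast_one, map_one] at h6
      simp only [pow_two, mul_assoc] at h6 ⊢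
      linear_combination (l : ℂ) * h6
    exact_mod_cast hC'
  -- the invariant
  set m : Multiset (ℕ × ℤ) := B'.val.map fun χ => (deg χ, z χ) with hm
  refine srch_sound (stepV n p c l) (finV n p c l)
    (fun s m => s.1 + (m.map fun x => sgn p x.1 * (x.1 : ℤ)).sum = 0 ∧
      s.2.1 + (m.map fun x => sgn p x.1 * x.2).sum = 0 ∧
      (s.2.2.1 + (m.map fun x => sgn p x.1 * (x.2 * x.2) * ((l / x.1 : ℕ) : ℤ)).sum) * (n : ℤ) =
        ((l * (p * (c * c)) : ℕ) : ℤ) ∧
      s.2.2.2.1 + (m.map fun x => x.2.natAbs * x.2.natAbs).sum ≤ c ∧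
      s.2.2.2.2 + (m.map fun x => x.1 * x.1).sum ≤ n ∧
      (s.2.2.2.1 + (m.map fun x => x.2.natAbs * x.2.natAbs).sum = c →
        16 * (p * p) ∣ n - (s.2.2.2.2 + (m.map fun x => x.1 * x.1).sum)))
    ?_ (fun s hI => ?_) (p - 1) _ (1, 1, (l : ℤ), 1, 1) m hk ?_ ?_ ?_
  · intro s x m' hI
    simp only [Multiset.map_cons, Multiset.sum_cons] at hI
    obtain ⟨i1, i2, i3, i4, i5, i6⟩ := hI
    refine ⟨_, by rw [stepV, if_pos ⟨by omega, by omega⟩], by simp only; omega, by simp only; omega, ?_,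
      by simp only; omega, by simp only; omega, fun e => ?_⟩
    · simp only
      rw [← i3]; ring
    · simp only at e ⊢
      have := i6 (by omega)
      convert this using 2
      omega
  · simp only [Multiset.map_zero, Multiset.sum_zero, add_zero] at hI
    obtain ⟨i1, i2, i3, i4, i5, i6⟩ := hI
    simp only [finV, Bool.not_eq_false', Bool.and_eq_true, Bool.or_eq_true, decide_eq_true_eq]
    refine ⟨⟨⟨i1, i2⟩, i3⟩, ?_⟩
    by_cases e : s.2.2.2.1 = c
    · exact Or.inr (Nat.mod_eq_zero_of_dvd (i6 e))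
    · exact Or.inl e
  · rw [hm, Multiset.card_map, ← Finset.card_def, hB', Finset.card_erase_of_mem h1B, hBc]
  · intro x hx
    rw [hm, Multiset.mem_map] at hx
    obtain ⟨χ, hχ, rfl⟩ := hx
    have hne := (Finset.mem_erase.1 hχ).1
    have hle : (z χ).natAbs * (z χ).natAbs + 1 ≤ c := by
      have h := Finset.single_le_sum (f := fun η => (z η).natAbs * (z η).natAbs) (fun _ _ => Nat.zero_le _) hχ
      omega
    have hnorm : ‖(χ : G → ℂ) t‖ ≤ (deg χ : ℝ) := by
      obtain ⟨d, ρ, -, hρ⟩ := χ.2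
      have h := CharBasic.norm_character_le ρ t
      have h1 := apply_one χ
      rw [← hρ, Representation.char_one] at h1
      have h1' : Module.finrank ℂ (Fin d → ℂ) = deg χ := by exact_mod_cast h1
      rwa [hρ, h1'] at h
    rw [hz, Complex.norm_intCast] at hnorm
    have habs : |z χ| ≤ (deg χ : ℤ) := by exact_mod_cast hnorm
    have hnat : (z χ).natAbs ≤ deg χ := by rw [Int.abs_eq_natAbs] at habs; exact_mod_cast habs
    have hdiv : deg χ ∣ n / c * (z χ).natAbs := by
      have hidx : (Subgroup.centralizer ({t} : Set G)).index = n / c := by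
        rw [← hn, ← (Subgroup.centralizer ({t} : Set G)).card_mul_index, hc,
          Nat.mul_div_cancel_left _ (by omega)]
      have hint := ClassAlgebraOmega.isIntegral_centralChar χ.2 t
      rw [centralChar, hidx, hz, apply_one] at hint
      refine ClassAlgebraVal.dvd_of_integral (deg_pos χ).ne'
        (z := ((Int.sign (z χ) : ℤ) : ℂ) * (((n / c : ℕ) : ℂ) * (z χ : ℂ) / (deg χ : ℂ))) ((by
          rw [← map_intCast (algebraMap ℤ ℂ)]; exact isIntegral_algebraMap : IsIntegral ℤ ((Int.sign (z χ) : ℤ) : ℂ)).mul hint) ?_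
      have hd : (deg χ : ℂ) ≠ 0 := Nat.cast_ne_zero.2 (deg_pos χ).ne'
      have e : ((z χ).natAbs : ℂ) = ((Int.sign (z χ) : ℤ) : ℂ) * (z χ : ℂ) := by
        rw [← Int.cast_natCast, ← Int.cast_mul, Int.sign_mul_self_eq_natAbs]
      push_cast
      rw [e]
      field_simp
    have hfix : z χ ≠ (deg χ : ℤ) := fun e => hne (eq_one_of_fixes ht1 (by
      rw [hz, apply_one, e, Int.cast_natCast]))
    have hsq : (z χ).natAbs ≤ Nat.sqrt c := Nat.le_sqrt.2 (by omega)
    simp only [pairs, List.mem_flatMap, List.mem_map, List.mem_filter, List.mem_range, Bool.and_eq_true,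
      decide_eq_true_eq, Prod.mk.injEq]
    exact ⟨deg χ, hdmem χ hχ, z χ, ⟨⟨(z χ + (Nat.sqrt c : ℤ)).toNat, by omega, by omega⟩,
      ⟨⟨⟨hfix, hnat⟩, Int.emod_eq_zero_of_dvd (h4 χ)⟩, Nat.mod_eq_zero_of_dvd hdiv⟩, by omega⟩, rfl, rfl⟩
  · simp only [hm, Multiset.map_map, Function.comp_def]
    change _ + ∑ χ ∈ B', _ = _ ∧ _ + ∑ χ ∈ B', _ = _ ∧ (_ + ∑ χ ∈ B', _) * _ = _ ∧
      _ + ∑ χ ∈ B', _ ≤ _ ∧ _ + ∑ χ ∈ B', _ ≤ _ ∧ (_ + ∑ χ ∈ B', _ = _ → _ ∣ _ - (_ + ∑ χ ∈ B', _))
    refine ⟨e1, e2, e3, e4, e5, fun e => ?_⟩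
    -- the characters outside the block vanish at `t`
    have hzero : ∀ χ, χ ∉ B → z χ = 0 := by
      intro χ hχ
      have h := Finset.sum_le_sum_of_subset_of_nonneg (f := fun η => (z η).natAbs * (z η).natAbs)
        (Finset.subset_univ (insert χ B)) fun _ _ _ => Nat.zero_le _
      rw [Finset.sum_insert hχ, ← Finset.add_sum_erase _ _ h1B, ← hB', hz1, hcol] at h
      have : (z χ).natAbs * (z χ).natAbs = 0 := by
        simp only [Int.natAbs_one, one_mul] at h
        omega
      exact Int.natAbs_eq_zero.1 (mul_self_eq_zero.1 this)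
    have htot := sum_deg_sq (G := G)
    rw [hn, ← Finset.sum_sdiff (Finset.subset_univ B), ← Finset.add_sum_erase B _ h1B, h1d, ← hB'] at htot
    have hdv : 16 * (p * p) ∣ ∑ χ ∈ Finset.univ \ B, deg χ ^ 2 := by
      refine Finset.dvd_sum fun χ hχ => ?_
      have hχB := (Finset.mem_sdiff.1 hχ).2
      have h4' := h4 χ
      rw [hzero χ hχB, sub_zero] at h4'
      have h4n : 4 ∣ deg χ := Int.natCast_dvd_natCast.1 (show ((4 : ℕ) : ℤ) ∣ (deg χ : ℤ) by simpa using h4')
      have hcop : Nat.Coprime 4 p := by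
        rw [show (4 : ℕ) = 2 ^ 2 from rfl]
        exact Nat.Coprime.pow_left 2 ((Nat.coprime_primes Nat.prime_two hp.out).2 (Ne.symm hodd))
      have h := pow_dvd_pow_of_dvd (hcop.mul_dvd_of_dvd_of_dvd h4n (hout χ hχB).1) 2
      exact dvd_trans (dvd_of_eq (by ring)) h
    simp only [pow_two] at hdv htot
    convert hdv using 1
    omega

end Cfsg.Agent.BlockCount91
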