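import Mathlib

/-!
Integral idempotent matrices of the principal block for an elementary abelian Sylow group of
order sixteen with inertial index nine: every member takes a value of absolute value one on the
free orbit.
-/

set_option autoImplicit false

namespace Cfsg.Agent.BlockSixteenArith82

open Finset

variable {ι : Type*} [Fintype ι] [DecidableEq ι]

/-- A matrix sixteen times an orthogonal idempotent, orthogonal to `d` and congruent to `-d dᵀ`. -/
structure Piece (A : ι → ι → ℤ) (d : ι → ℤ) : Prop where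
  symm : ∀ x y, A x y = A y x
  idem : ∀ x z, ∑ y, A x y * A y z = 16 * A x z
  perp : ∀ x, ∑ y, A x y * d y = 0
  cong : ∀ x y, 4 ∣ A x y + d x * d y

theorem sq_two_mod {q : ℤ} (h : 4 ∣ q + 2) : 32 ∣ q ^ 2 - 4 := by
  obtain ⟨m, hm⟩ := h
  obtain ⟨n, hn⟩ := Int.even_mul_succ_self (m - 1)
  exact ⟨n, by rw [show q = 4 * m - 2 by linarith]; linear_combination 16 * hn⟩

theorem sq_one_mod {q : ℤ} (h : 4 ∣ q + 1) : 32 ∣ q ^ 2 - 2 * q - 3 := by
  obtain ⟨m, hm⟩ := h
  obtain ⟨n, hn⟩ := Int.even_mul_succ_self (m - 1)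
  exact ⟨n, by rw [show q = 4 * m - 1 by linarith]; linear_combination 16 * hn⟩

theorem sum_by_value {d : ι → ℤ} (hd : ∀ x, d x = 1 ∨ d x = 2) (f : ι → ℤ) :
    ∑ y, f y = ∑ y ∈ univ.filter (fun y => d y = 1), f y +
      ∑ y ∈ univ.filter (fun y => d y = 2), f y := by
  rw [← sum_filter_add_sum_filter_not univ (fun y => d y = 1) f]
  congr 1
  refine sum_congr (filter_congr fun y _ => ?_) fun _ _ => rfl
  rcases hd y with h | h <;> simp [h]

/-- The congruence on the row of an entry of value one. -/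
theorem row_congr {A : ι → ι → ℤ} {d : ι → ℤ} (hA : Piece A d)
    (hd : ∀ x, d x = 1 ∨ d x = 2) {n r : ℕ} (hn : (univ.filter fun y => d y = 1).card = n)
    (hr : (univ.filter fun y => d y = 2).card = r) (hnr : n + 4 * r = 16) {w : ι} (hw : d w = 1) :
    8 ∣ ∑ y ∈ univ.filter (fun y => d y = 2), A w y + 2 * r := by
  have h2 : ∑ y, A w y ^ 2 = 16 * A w w := by
    rw [← hA.idem w w]
    exact sum_congr rfl fun y _ => by rw [hA.symm y w, sq]
  have h1 := hA.perp w
  rw [sum_by_value hd] at h1 h2
  rw [sum_congr rfl fun y hy => by rw [(mem_filter.1 hy).2, mul_one],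
    sum_congr (s₁ := univ.filter fun y => d y = 2) rfl
      fun y hy => by rw [(mem_filter.1 hy).2], ← sum_mul] at h1
  have ha := dvd_sum (s := univ.filter fun y => d y = 1) fun y hy => sq_one_mod (q := A w y) (by
    have h := hA.cong w y
    rwa [hw, (mem_filter.1 hy).2] at h)
  have hb := dvd_sum (s := univ.filter fun y => d y = 2) fun y hy => sq_two_mod (q := A w y) (by
    have h := hA.cong w y
    rwa [hw, (mem_filter.1 hy).2] at h)
  simp only [sum_sub_distrib, ← mul_sum, sum_const, hn, hr, nsmul_eq_mul] at ha hb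
  obtain ⟨m, hm⟩ := hA.cong w w
  rw [hw] at hm
  have h1' : ∑ y ∈ univ.filter (fun y => d y = 1), A w y +
      (∑ y ∈ univ.filter (fun y => d y = 2), A w y) * 2 = 0 := h1
  omega

/-- The entries from a row of value two. -/
theorem entries_pm_two {A : ι → ι → ℤ} {d : ι → ℤ} (hA : Piece A d) {x : ι} (hx : d x = 2)
    (s : Finset ι) (hs : ∀ y ∈ s, d y = 1) (hsum : ∑ y ∈ s, A x y ^ 2 = 4 * s.card) :
    ∀ y ∈ s, A x y = 2 ∨ A x y = -2 := by
  have h0 : ∀ y ∈ s, 4 ≤ A x y ^ 2 := fun y hy => by
    have h := hA.cong x y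
    rw [hx, hs y hy] at h
    rcases le_or_gt 2 (A x y) with h' | h'
    · nlinarith
    · rcases le_or_gt (A x y) (-2) with h'' | h''
      · nlinarith
      · omega
  intro y hy
  have h4 : ∑ y ∈ s, (A x y ^ 2 - 4) = 0 := by
    rw [sum_sub_distrib, hsum, sum_const, nsmul_eq_mul]; ring
  have := (sum_eq_zero_iff_of_nonneg fun y hy => sub_nonneg.2 (h0 y hy)).1 h4 y hy
  have h5 : (A x y - 2) * (A x y + 2) = 0 := by nlinarith
  rcases mul_eq_zero.1 h5 with h | h
  · left; linarith
  · right; linarith

/-- One member of value two is impossible. -/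
theorem not_one {A : ι → ι → ℤ} {d : ι → ℤ} (hA : Piece A d) (hd : ∀ x, d x = 1 ∨ d x = 2)
    (hn : (univ.filter fun y => d y = 1).card = 12) {x : ι}
    (hR : (univ.filter fun y => d y = 2) = {x}) (h4 : A x x = 4) : False := by
  have hx : d x = 2 := (mem_filter.1 (show x ∈ univ.filter (fun y => d y = 2) by rw [hR]; simp)).2
  have h2 : ∑ y, A x y ^ 2 = 16 * A x x := by
    rw [← hA.idem x x]
    exact sum_congr rfl fun y _ => by rw [hA.symm y x, sq]
  rw [sum_by_value hd, hR, sum_singleton, h4] at h2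
  have hpm := entries_pm_two hA hx (univ.filter fun y => d y = 1) (fun y hy => (mem_filter.1 hy).2)
    (by rw [hn]; push_cast; linarith)
  have hneg : ∀ y ∈ univ.filter (fun y => d y = 1), A x y * d y = -2 := fun y hy => by
    have h := row_congr hA hd (r := 1) hn (by rw [hR, card_singleton]) (by norm_num)
      (mem_filter.1 hy).2
    rw [hR, sum_singleton, hA.symm y x] at h
    rw [(mem_filter.1 hy).2, mul_one]
    rcases hpm y hy with e | e <;> omega
  have h1 := hA.perp x
  rw [sum_by_value hd, hR, sum_singleton, sum_congr rfl hneg, sum_const, hn, h4, hx] at h1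
  norm_num at h1

/-- Two members of value two are joined by the entry four. -/
theorem pair_entry {A : ι → ι → ℤ} {d : ι → ℤ} (hA : Piece A d) (hd : ∀ x, d x = 1 ∨ d x = 2)
    (hn : (univ.filter fun y => d y = 1).card = 8) {x z : ι} (hxz : x ≠ z)
    (hR : (univ.filter fun y => d y = 2) = {x, z}) (hx4 : A x x = 4) (hz4 : A z z = 4) :
    A x z = 4 := by
  have hx : d x = 2 := (mem_filter.1 (show x ∈ univ.filter (fun y => d y = 2) by rw [hR]; simp)).2
  have hz : d z = 2 := (mem_filter.1 (show z ∈ univ.filter (fun y => d y = 2) by rw [hR]; simp)).2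
  have hnorm : ∀ u, ∑ y, A u y ^ 2 = 16 * A u u := fun u => by
    rw [← hA.idem u u]
    exact sum_congr rfl fun y _ => by rw [hA.symm y u, sq]
  have h2x := hnorm x
  have h2z := hnorm z
  rw [sum_by_value hd, hR, sum_pair hxz, hx4] at h2x
  rw [sum_by_value hd, hR, sum_pair hxz, hz4, hA.symm z x] at h2z
  set O := univ.filter fun y => d y = 1 with hO
  have hmod := dvd_sum (s := O) fun y hy => sq_two_mod (q := A x y) (by
    have h := hA.cong x y
    rw [hx, (mem_filter.1 hy).2] at h
    omega)
  rw [sum_sub_distrib, sum_const, hn, nsmul_eq_mul] at hmod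
  obtain ⟨t, ht⟩ : 4 ∣ A x z := by
    have h := hA.cong x z
    rw [hx, hz] at h
    omega
  have hnn : (0 : ℤ) ≤ ∑ y ∈ O, A x y ^ 2 := sum_nonneg fun y _ => sq_nonneg _
  rw [ht] at h2x h2z
  obtain ⟨m, hm⟩ := hmod
  have ht1 : t ^ 2 = 1 := by
    push_cast at hm
    have : t ^ 2 + 2 * m = 1 := by nlinarith
    have : t ^ 2 ≤ 3 := by nlinarith
    have : t ≤ 1 := by nlinarith
    have : -1 ≤ t := by nlinarith
    interval_cases t <;> omega
  have hsx : ∑ y ∈ O, A x y ^ 2 = 4 * (O.card : ℤ) := by
    rw [hn]; push_cast; nlinarith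
  have hsz : ∑ y ∈ O, A z y ^ 2 = 4 * (O.card : ℤ) := by
    rw [hn]; push_cast; nlinarith
  have hpx := entries_pm_two hA hx O (fun y hy => (mem_filter.1 hy).2) hsx
  have hpz := entries_pm_two hA hz O (fun y hy => (mem_filter.1 hy).2) hsz
  have hprod : ∀ y ∈ O, A x y * A y z = 4 := fun y hy => by
    have h := row_congr hA hd (r := 2) hn (by rw [hR, card_pair hxz]) (by norm_num)
      (mem_filter.1 hy).2
    rw [hR, sum_pair hxz, hA.symm y x] at h
    rw [hA.symm y z] at h ⊢
    rcases hpx y hy with e | e <;> rcases hpz y hy with e' | e' <;> rw [e, e'] at h ⊢ <;> omega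
  have h3 := hA.idem x z
  rw [sum_by_value hd, hR, sum_pair hxz, ← hO, sum_congr rfl hprod, sum_const, hn, hx4, hz4] at h3
  norm_num at h3
  linarith

/-- All four pieces with positive values: the values are one. -/
theorem all_one {A0 A1 A2 : ι → ι → ℤ} {d : ι → ℤ} (h1 : Piece A1 d) (h2 : Piece A2 d)
    (hpos : ∀ x, 0 < d x) (hsq : ∑ x, d x ^ 2 = 16)
    (hsum : ∀ x y, A0 x y + A1 x y + A2 x y + d x * d y = if x = y then 16 else 0)
    (hidem : ∀ x, ∑ y, A0 x y ^ 2 = 16 * A0 x x)
    (hdiag : ∀ x, 0 < A0 x x ∧ 0 < A1 x x ∧ 0 < A2 x x) (hk : 9 ≤ Fintype.card ι) (x : ι) :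
    d x = 1 := by
  have hd : ∀ y, d y = 1 ∨ d y = 2 := by
    intro y
    have hle : ∀ z ∈ univ.erase y, (1 : ℤ) ≤ d z ^ 2 := fun z _ => by nlinarith [hpos z]
    have h := card_nsmul_le_sum _ _ _ hle
    rw [card_erase_of_mem (mem_univ y), card_univ, nsmul_one] at h
    have h' := add_sum_erase univ (fun z => d z ^ 2) (mem_univ y)
    rw [hsq] at h'
    have : (8 : ℤ) ≤ ((Fintype.card ι - 1 : ℕ) : ℤ) := by omega
    have := hpos y
    have : d y ≤ 2 := by nlinarith
    omega
  set R := univ.filter fun y => d y = 2 with hR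
  set O := univ.filter fun y => d y = 1 with hO
  have hcount : O.card + 4 * R.card = 16 := by
    have h := sum_by_value hd fun y => d y ^ 2
    rw [hsq, sum_congr rfl fun y hy => by rw [(mem_filter.1 hy).2],
      sum_congr (s₁ := R) rfl fun y hy => by rw [(mem_filter.1 hy).2], sum_const, sum_const] at h
    norm_num at h
    rw [← hO] at h
    omega
  have htot : O.card + R.card = Fintype.card ι := by
    have h := sum_by_value hd fun _ => (1 : ℤ)
    simp only [sum_const, card_univ, nsmul_one, ← hO, ← hR] at h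
    omega
  have hfour : ∀ z ∈ R, A1 z z = 4 ∧ A2 z z = 4 ∧ A0 z z = 4 := fun z hz => by
    have hz2 := (mem_filter.1 hz).2
    have a := h1.cong z z
    have b := h2.cong z z
    have e := hsum z z
    rw [if_pos rfl] at e
    rw [hz2] at a b e
    obtain ⟨p0, p1, p2⟩ := hdiag z
    omega
  rcases Nat.eq_zero_or_pos R.card with h0 | h0
  · refine (hd x).resolve_right fun h => ?_
    exact notMem_empty x (card_eq_zero.1 h0 ▸ mem_filter.2 ⟨mem_univ x, h⟩)
  exfalso
  rcases (show R.card = 1 ∨ R.card = 2 by omega) with hc | hc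
  · obtain ⟨z, hz⟩ := card_eq_one.1 hc
    exact not_one h1 hd (by rw [← hO]; omega) hz (hfour z (by rw [hz]; simp)).1
  · obtain ⟨u, v, huv, hz⟩ := card_eq_two.1 hc
    obtain ⟨a1, a2, a0⟩ := hfour u (by rw [hz]; simp)
    obtain ⟨b1, b2, -⟩ := hfour v (by rw [hz]; simp)
    have e1 := pair_entry h1 hd (by rw [← hO]; omega) huv hz a1 b1
    have e2 := pair_entry h2 hd (by rw [← hO]; omega) huv hz a2 b2
    have e := hsum u v
    rw [if_neg huv, e1, e2, (mem_filter.1 (show u ∈ R by rw [hz]; simp)).2,
      (mem_filter.1 (show v ∈ R by rw [hz]; simp)).2] at e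
    have hle := single_le_sum (fun y _ => sq_nonneg (A0 u y)) (mem_univ v)
    rw [hidem u, a0, show A0 u v = -12 by omega] at hle
    norm_num at hle

/-- The count in a rank one last piece. -/
theorem card_eq_sixteen {B0 B1 B2 B3 : ι → ι → ℤ}
    (hs : ∀ B ∈ [B0, B1, B2, B3], ∀ x y, B x y = B y x)
    (hi : ∀ B ∈ [B0, B1, B2, B3], ∀ x z, ∑ y, B x y * B y z = 16 * B x z)
    (ho1 : ∀ x z, ∑ y, B1 x y * B3 y z = 0) (ho2 : ∀ x z, ∑ y, B2 x y * B3 y z = 0)
    (hsum : ∀ x y, B0 x y + B1 x y + B2 x y + B3 x y = if x = y then 16 else 0)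
    (hc1 : ∀ x y, 4 ∣ B1 x y + B3 x y) (hc2 : ∀ x y, 4 ∣ B2 x y + B3 x y)
    (hpos : ∀ B ∈ [B0, B1, B2, B3], ∀ x, 0 < B x x)
    (htr : ∑ x, B3 x x = 16) (hk : 9 ≤ Fintype.card ι) : Fintype.card ι = 16 := by
  have hs3 := hs B3 (by simp)
  have hi3 := hi B3 (by simp)
  obtain ⟨o, ho⟩ : ∃ o, B3 o o = 1 := by
    by_contra h
    push Not at h
    have hle := card_nsmul_le_sum univ (fun x => B3 x x) 2 fun x _ => by
      have := hpos B3 (by simp) x; have := h x; omega
    rw [htr, card_univ, nsmul_eq_mul] at hle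
    omega
  set e : ι → ℤ := fun x => B3 x o with he
  have hrank : ∀ x y, B3 x y = e x * e y := by
    have hT : ∑ x, ∑ y, B3 x y * B3 x y = 256 := by
      rw [sum_congr rfl fun x _ => show ∑ y, B3 x y * B3 x y = 16 * B3 x x by
        rw [← hi3 x x]; exact sum_congr rfl fun y _ => by rw [hs3 y x],
        ← mul_sum, htr]
      norm_num
    have hee : ∑ x, e x * e x = 16 := by
      rw [show (16 : ℤ) = 16 * B3 o o by rw [ho, mul_one], ← hi3 o o]
      exact sum_congr rfl fun x _ => by rw [he, hs3 o x]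
    have hX : ∑ x, ∑ y, B3 x y * (e x * e y) = 256 := by
      calc _ = ∑ x, e x * ∑ y, B3 x y * e y := by
            simp only [mul_sum]
            exact sum_congr rfl fun x _ => sum_congr rfl fun y _ => by ring
        _ = ∑ x, e x * (16 * e x) := sum_congr rfl fun x _ => by rw [he, hi3 x o]
        _ = 16 * ∑ x, e x * e x := by rw [mul_sum]; exact sum_congr rfl fun x _ => by ring
        _ = 256 := by rw [hee]; norm_num
    have hY : ∑ x, ∑ y, (e x * e y) * (e x * e y) = 256 := by
      calc _ = (∑ x, e x * e x) * ∑ y, e y * e y := by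
            rw [sum_mul_sum]
            exact sum_congr rfl fun x _ => sum_congr rfl fun y _ => by ring
        _ = 256 := by rw [hee]; norm_num
    have hZ : ∑ x, ∑ y, (B3 x y - e x * e y) ^ 2 = 0 := by
      calc _ = ∑ x, ∑ y, (B3 x y * B3 x y - 2 * (B3 x y * (e x * e y)) +
            (e x * e y) * (e x * e y)) :=
          sum_congr rfl fun x _ => sum_congr rfl fun y _ => by ring
        _ = 0 := by
          simp only [sum_add_distrib, sum_sub_distrib, ← mul_sum, hT, hX, hY]
          norm_num
    intro x y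
    have h1 := (sum_eq_zero_iff_of_nonneg fun x _ => sum_nonneg fun y _ => sq_nonneg _).1 hZ x
      (mem_univ x)
    have h2 := (sum_eq_zero_iff_of_nonneg fun y _ => sq_nonneg _).1 h1 y (mem_univ y)
    exact sub_eq_zero.1 (pow_eq_zero_iff two_ne_zero |>.1 h2)
  set s : ι → ℤ := fun x => if 0 < e x then 1 else -1 with hsdef
  have hss : ∀ x, s x * s x = 1 := fun x => by simp only [hsdef]; split_ifs <;> norm_num
  have he0 : ∀ x, e x ≠ 0 := fun x h => by
    have := hpos B3 (by simp) x
    rw [hrank, h] at this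
    simp at this
  have hdpos : ∀ x, 0 < s x * e x := fun x => by
    simp only [hsdef]; split_ifs with h
    · simpa using h
    · have := he0 x; omega
  set t : (ι → ι → ℤ) → ι → ι → ℤ := fun B x y => s x * s y * B x y with ht
  set d : ι → ℤ := fun x => s x * e x with hd
  have hpiece : ∀ B ∈ [B0, B1, B2, B3], (∀ x z, ∑ y, B x y * B3 y z = 0) →
      (∀ x y, 4 ∣ B x y + B3 x y) → Piece (t B) d := by
    intro B hB hperp hc
    refine ⟨fun x y => by simp only [ht, hs B hB x y]; ring, fun x z => ?_, fun x => ?_,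
      fun x y => ?_⟩
    · calc ∑ y, t B x y * t B y z = s x * s z * ∑ y, B x y * B y z := by
            rw [mul_sum]
            exact sum_congr rfl fun y _ => by
              simp only [ht]; linear_combination s x * s z * B x y * B y z * hss y
        _ = 16 * t B x z := by rw [hi B hB]; simp only [ht]; ring
    · calc ∑ y, t B x y * d y = s x * ∑ y, B x y * B3 y o := by
            rw [mul_sum]
            exact sum_congr rfl fun y _ => by
              simp only [ht, hd, he]; linear_combination s x * B x y * B3 y o * hss y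
        _ = 0 := by rw [hperp, mul_zero]
    · have := dvd_mul_of_dvd_right (hc x y) (s x * s y)
      rw [hrank, mul_add] at this
      have h2 : t B x y + d x * d y = s x * s y * B x y + s x * s y * (e x * e y) := by
        show s x * s y * B x y + s x * e x * (s y * e y) = _
        ring
      rw [h2]; exact this
  have hone := all_one (A0 := t B0) (hpiece B1 (by simp) ho1 hc1) (hpiece B2 (by simp) ho2 hc2)
    hdpos ?_ ?_ ?_ ?_ hk
  rotate_left
  · calc ∑ x, d x ^ 2 = ∑ x, B3 x x := sum_congr rfl fun x _ => by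
          rw [hrank, hd]; linear_combination e x * e x * hss x
      _ = 16 := htr
  · intro x y
    have h := congrArg (s x * s y * ·) (hsum x y)
    simp only [hrank] at h
    by_cases hxy : x = y
    · subst hxy
      simp only [ite_true, ht, hd] at h ⊢
      linear_combination h + 16 * hss x
    · simp only [if_neg hxy, ht, hd] at h ⊢
      linear_combination h
  · intro x
    calc ∑ y, t B0 x y ^ 2 = ∑ y, B0 x y * B0 y x := sum_congr rfl fun y _ => by
          simp only [ht]; rw [hs B0 (by simp) y x]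
          linear_combination B0 x y * B0 x y * (s x * s x * hss y + hss x)
      _ = 16 * t B0 x x := by
          rw [hi B0 (by simp)]; simp only [ht, hss, one_mul]
  · intro x
    simp only [ht, hss, one_mul]
    exact ⟨hpos B0 (by simp) x, hpos B1 (by simp) x, hpos B2 (by simp) x⟩
  have hfin : ∀ x, B3 x x = 1 := fun x => by
    have hx : (s x * e x) ^ 2 = 1 := by rw [show s x * e x = 1 from hone x]; norm_num
    rw [hrank]
    linear_combination hx - e x * e x * hss x
  rw [sum_congr rfl fun x _ => hfin x, sum_const, card_univ, nsmul_one] at htr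
  exact_mod_cast htr

end Cfsg.Agent.BlockSixteenArith82
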