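import Cfsg.Agent.Lib.BlockPrincipalMatrix82
import Cfsg.Agent.Lib.BlockAbelianTwist31
import Cfsg.Agent.S4512
import Cfsg.Agent.S4571

/-!
The rank three of the principal block of the centralizer of an element with inertial index three
in an elementary abelian Sylow group of order sixteen.
-/

set_option autoImplicit false
set_option linter.unusedSectionVars false

namespace Cfsg.Agent.BlockSixteenKlein82

open Cfsg Cfsg.Agent.BrauerPairs81Base Cfsg.Agent.BrauerPairs81Local
open Cfsg.Agent.BrauerPairs81Fusion Cfsg.Agent.BrauerPairs81Principal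
open Cfsg.Agent.BlockPrincipalMatrix82 Cfsg.Agent.BlockAbelianWeight31
open Cfsg.Agent.BlockAbelianNorm31

attribute [local instance] Classical.propDecidable

/-- Central `V` of order four with Klein quotient of the Sylow group and one class of involutions. -/
theorem rank_of_central {X : Type*} [Group X] [Finite X] {M : Ideal AlgInt}
    (hM : IsPModular 2 M) (P : Sylow 2 X) (hcard : Nat.card P = 16) (hel : ∀ x : P, x ^ 2 = 1)
    (V : Subgroup X) (hVP : V ≤ (P : Subgroup X)) (hV : Nat.card V = 4)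
    (hcen : V ≤ Subgroup.center X) (n : X)
    (hnP : ∀ v ∈ (P : Subgroup X), n * v * n⁻¹ ∈ (P : Subgroup X))
    (hfix : ∀ v ∈ (P : Subgroup X), n * v * n⁻¹ = v → v ∈ V)
    (hn3 : ∀ v ∈ (P : Subgroup X), n ^ 3 * v * (n ^ 3)⁻¹ = v) :
    blockRank 2 (principalBlock M X) = 3 := by
  haveI : Fact (Nat.Prime 2) := ⟨Nat.prime_two⟩
  haveI hVn : V.Normal := ⟨fun v hv g => by
    rwa [Subgroup.mem_center_iff.1 (hcen hv) g, mul_inv_cancel_right]⟩
  have hel' : ∀ v ∈ (P : Subgroup X), v * v = 1 := fun v hv => by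
    have := congrArg Subtype.val (hel ⟨v, hv⟩)
    rwa [sq] at this
  rw [S4571.result 2 M hM V (P.isPGroup'.to_le hVP)
    (top_unique (le_trans (b := Subgroup.centralizer (V : Set X))
      (fun x _ => Subgroup.mem_centralizer_iff.2 fun v hv =>
        (Subgroup.mem_center_iff.1 (hcen hv) x).symm) le_sup_right))]
  set π := QuotientGroup.mk' V
  set Q : Sylow 2 (X ⧸ V) := P.mapSurjective (QuotientGroup.mk'_surjective V)
  have hQ : ∀ q, q ∈ (Q : Subgroup (X ⧸ V)) ↔ ∃ v ∈ (P : Subgroup X), π v = q := fun q => by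
    simp [Q, π]
  have hQc : Nat.card Q = 4 := by
    have h := Subgroup.card_mul_index (V.subgroupOf (P : Subgroup X))
    rw [Nat.card_congr (Subgroup.subgroupOfEquivOfLe hVP).toEquiv, hV, hcard] at h
    have h2 : Nat.card Q = V.relIndex (P : Subgroup X) := by
      show Nat.card ((P : Subgroup X).map π) = _
      rw [← Subgroup.relIndex_ker, QuotientGroup.ker_mk']
    have h3 : V.relIndex (P : Subgroup X) = (V.subgroupOf (P : Subgroup X)).index := rfl
    omega
  refine S4512.result M hM Q hQc (fun q => Subtype.ext ?_) fun s t hs ht => ?_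
  · obtain ⟨v, hv, hvq⟩ := (hQ _).1 q.2
    rw [Subgroup.coe_mul, ← hvq, ← map_mul, hel' v hv, map_one, Subgroup.coe_one]
  obtain ⟨v, hv, hvV⟩ := SetLike.not_le_iff_exists.1 fun h : (P : Subgroup X) ≤ V => by
    have h' := Subgroup.card_le_of_le h
    rw [hV, hcard] at h'
    omega
  set w := n * v * n⁻¹ with hw
  set w' := n * w * n⁻¹ with hw'
  have hwP := hnP v hv
  have hw'P := hnP w hwP
  have hw3 : n * w' * n⁻¹ = v := by
    rw [hw', hw]
    refine Eq.trans ?_ (hn3 v hv)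
    simp [pow_succ, mul_assoc]
  have hone : ∀ a : X, π a = 1 ↔ a ∈ V := fun a => QuotientGroup.eq_one_iff a
  have hπw : π w = π n * π v * (π n)⁻¹ := by rw [hw, map_mul, map_mul, map_inv]
  have hπw' : π w' = π n * π w * (π n)⁻¹ := by rw [hw', map_mul, map_mul, map_inv]
  have hπv : π v = π n * π w' * (π n)⁻¹ := by
    conv_lhs => rw [← hw3]
    rw [map_mul, map_mul, map_inv]
  have hne : π w ≠ π v := by
    intro h
    set d := v * (n * v * n⁻¹) with hd
    have hdV : d ∈ V := (hone _).1 (by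
      rw [hd, ← hw, map_mul, h, ← map_mul, hel' v hv, map_one])
    have e : n * v * n⁻¹ = v * d := by rw [hd, ← mul_assoc, hel' v hv, one_mul]
    have hdn : n * d * n⁻¹ = d := by
      rw [Subgroup.mem_center_iff.1 (hcen hdV) n, mul_inv_cancel_right]
    have e2 : n * (n * v * n⁻¹) * n⁻¹ = v * (d * d) := by
      rw [e]
      calc n * (v * d) * n⁻¹ = (n * v * n⁻¹) * (n * d * n⁻¹) := by group
        _ = v * (d * d) := by rw [e, hdn, mul_assoc]
    rw [hel' d (hVP hdV), mul_one] at e2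
    refine hvV (hfix v hv ?_)
    calc n * v * n⁻¹ = n * (n * (n * v * n⁻¹) * n⁻¹) * n⁻¹ := by rw [e2]
      _ = n ^ 3 * v * (n ^ 3)⁻¹ := by simp [pow_succ, mul_assoc]
      _ = v := hn3 v hv
  -- the three non-identity classes
  have hall : ∀ q ∈ (Q : Subgroup (X ⧸ V)), q ≠ 1 → IsConj (π v) q := by
    have hc1 : IsConj (π v) (π w) := isConj_iff.2 ⟨π n, hπw.symm⟩
    have hc2 : IsConj (π v) (π w') := hc1.trans (isConj_iff.2 ⟨π n, hπw'.symm⟩)
    have hne' : π w' ≠ π w := fun h => hne (mul_left_cancel (mul_right_cancel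
      (hπw'.symm.trans (h.trans hπw))))
    have hne'' : π w' ≠ π v := fun h => hne (by rw [hπw, ← h, ← hπv, h])
    have hv1 : π v ≠ 1 := fun h => hvV ((hone v).1 h)
    have hw1 : π w ≠ 1 := fun h => hv1 (conj_eq_one_iff.1 (hπw ▸ h))
    have hw'1 : π w' ≠ 1 := fun h => hw1 (conj_eq_one_iff.1 (hπw' ▸ h))
    intro q hq hq1
    haveI : Fintype Q := Fintype.ofFinite _
    let s : Finset Q := {⟨1, one_mem _⟩, ⟨π v, (hQ _).2 ⟨v, hv, rfl⟩⟩,
      ⟨π w, (hQ _).2 ⟨w, hwP, rfl⟩⟩, ⟨π w', (hQ _).2 ⟨w', hw'P, rfl⟩⟩}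
    have hs : s = Finset.univ := by
      refine Finset.eq_univ_of_card _ ?_
      rw [← Nat.card_eq_fintype_card, hQc]
      simp only [s]
      rw [Finset.card_insert_of_notMem, Finset.card_insert_of_notMem,
        Finset.card_insert_of_notMem, Finset.card_singleton] <;>
        simp only [Finset.mem_insert, Finset.mem_singleton, Subtype.ext_iff, not_or]
      exacts [Ne.symm hne', ⟨Ne.symm hne, Ne.symm hne''⟩, ⟨Ne.symm hv1, Ne.symm hw1, Ne.symm hw'1⟩]
    have hmem : (⟨q, hq⟩ : Q) ∈ s := hs ▸ Finset.mem_univ _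
    simp only [s, Finset.mem_insert, Finset.mem_singleton, Subtype.ext_iff] at hmem
    rcases hmem with h | h | h | h
    exacts [absurd h hq1, h ▸ IsConj.refl _, h ▸ hc1, h ▸ hc2]
  have hinv : ∀ r : X ⧸ V, orderOf r = 2 → IsConj (π v) r := by
    intro r hr
    obtain ⟨S, hS⟩ := (IsPGroup.of_card (p := 2) (n := 1)
      (by rw [Nat.card_zpowers, hr, pow_one])).exists_le_sylow (P := Subgroup.zpowers r)
    obtain ⟨g, hg⟩ := MulAction.exists_smul_eq (X ⧸ V) S Q
    have hgr : g * r * g⁻¹ ∈ (Q : Subgroup (X ⧸ V)) := by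
      rw [← hg]
      exact ⟨r, hS (Subgroup.mem_zpowers r), rfl⟩
    refine (hall _ hgr fun h => ?_).trans (isConj_iff.2 ⟨g⁻¹, by group⟩)
    rw [conj_eq_one_iff.1 h, orderOf_one] at hr
    omega
  exact (hinv s hs).symm.trans (hinv t ht)

/-- The rank at an element whose inertial stabiliser fixes a group of order four. -/
theorem rank_three {G : Type*} [Group G] [Fintype G] {M : Ideal AlgInt}
    (hM : IsPModular 2 M) (P : Sylow 2 G) (hcard : Nat.card P = 16) (hel : ∀ x : P, x ^ 2 = 1)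
    (V : Subgroup G) (hVP : V ≤ (P : Subgroup G)) (hV : Nat.card V = 4) {u z n : G} (hu : u ∈ V)
    (hz : z ∈ V) (hgen : ∀ g, Commute u g → Commute z g → ∀ v ∈ V, Commute v g)
    (hn : n ∈ Subgroup.normalizer ((P : Subgroup G) : Set G))
    (hfix : ∀ v ∈ (P : Subgroup G), n * v * n⁻¹ = v ↔ v ∈ V)
    (hn3 : ∀ v ∈ (P : Subgroup G), n ^ 3 * v * (n ^ 3)⁻¹ = v)
    (hst : ∀ y ∈ Subgroup.normalizer ((P : Subgroup G) : Set G), y * u * y⁻¹ = u → y * z * y⁻¹ = z) :
    blockRank 2 (principalBlock M (Cen (Subgroup.zpowers u))) = 3 := by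
  haveI : Fact (Nat.Prime 2) := ⟨Nat.prime_two⟩
  have hsq : ∀ v ∈ (P : Subgroup G), v * v = 1 := fun v hv => by
    have := congrArg Subtype.val (hel ⟨v, hv⟩)
    rwa [sq] at this
  have hab : ∀ a ∈ (P : Subgroup G), ∀ b ∈ (P : Subgroup G), a * b = b * a := by
    intro a ha b hb
    calc a * b = (a * b) * ((b * a) * (b * a)) := by rw [hsq _ (mul_mem hb ha), mul_one]
      _ = a * (b * b) * a * (b * a) := by group
      _ = b * a := by rw [hsq b hb, mul_one, hsq a ha, one_mul]
  set H := Cen (Subgroup.zpowers u) with hHdef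
  have hH : ∀ g, g ∈ H ↔ Commute u g := BlockCyclicRank81.centralizer_zpowers u
  have hPH : (P : Subgroup G) ≤ H := fun v hv => (hH v).2 (hab u (hVP hu) v hv)
  set S : Sylow 2 H := P.subtype hPH
  have hS : ∀ x : H, x ∈ (S : Subgroup H) ↔ (x : G) ∈ (P : Subgroup G) := fun x => by
    rw [Sylow.coe_subtype, Subgroup.mem_subgroupOf]
  have habS : ∀ a ∈ (S : Subgroup H), ∀ b ∈ (S : Subgroup H), a * b = b * a := fun a ha b hb =>
    Subtype.ext (hab _ ((hS a).1 ha) _ ((hS b).1 hb))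
  set z' : (S : Subgroup H) := ⟨⟨z, hPH (hVP hz)⟩, (hS _).2 (hVP hz)⟩
  have hfixed : Fixed (principalBlock M (Cen (S : Subgroup H))) z' := by
    intro y hy
    have hyN := (mem_stab_principal hM).1 hy
    refine Subtype.ext (hst _ (Subgroup.mem_normalizer_iff.2 fun a => ?_) ?_)
    · refine ⟨fun ha => ?_, fun ha => ?_⟩
      · exact (hS _).1 ((Subgroup.mem_normalizer_iff.1 hyN ⟨a, hPH ha⟩).1 ((hS _).2 ha))
      · have haH : a ∈ H := by
          simpa [mul_assoc] using mul_mem (mul_mem (inv_mem y.2) (hPH ha)) y.2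
        exact (hS ⟨a, haH⟩).1 ((Subgroup.mem_normalizer_iff.1 hyN ⟨a, haH⟩).2 ((hS _).2 ha))
    · rw [← ((hH y).1 y.2).eq, mul_inv_cancel_right]
  have hr := (rank_card_eq hM (BlockAbelianTwist31.twistsExist hM) (isMaximal_pp hM S) habS hfixed).1
  rw [blockAt_principal hM S z'.2] at hr
  rw [hr]
  set K := Cen (Subgroup.zpowers (z' : H)) with hKdef
  have hK : ∀ g : H, g ∈ K ↔ Commute (z' : H) g :=
    BlockCyclicRank81.centralizer_zpowers (z' : H)
  have hSK : (S : Subgroup H) ≤ K := fun v hv => (hK v).2 (habS _ z'.2 v hv)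
  set T : Sylow 2 K := S.subtype hSK
  have hT : ∀ x : K, x ∈ (T : Subgroup K) ↔ ((x : H) : G) ∈ (P : Subgroup G) := fun x => by
    rw [Sylow.coe_subtype, Subgroup.mem_subgroupOf, hS]
  set j : K →* G := H.subtype.comp K.subtype
  have hj : Function.Injective j := Subtype.val_injective.comp Subtype.val_injective
  have hnH : n ∈ H := (hH n).2 (by
    have h := (hfix u (hVP hu)).2 hu
    exact (mul_inv_eq_iff_eq_mul.1 h).symm)
  have hnK : (⟨n, hnH⟩ : H) ∈ K := (hK _).2 (Subtype.ext (by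
    have h := (hfix z (hVP hz)).2 hz
    exact (mul_inv_eq_iff_eq_mul.1 h).symm))
  have hP_range : (P : Subgroup G) ≤ j.range := fun v hv =>
    ⟨⟨⟨v, hPH hv⟩, hSK ((hS _).2 hv)⟩, rfl⟩
  have hTc : Nat.card T = 16 := by
    rw [← hcard]
    exact ((Nat.card_congr (Subgroup.subgroupOfEquivOfLe hSK).toEquiv)).trans
      (Nat.card_congr (Subgroup.subgroupOfEquivOfLe hPH).toEquiv)
  refine rank_of_central hM T hTc (fun x => Subtype.ext (hj ?_)) (V.comap j) (fun x hx => (hT x).2 (hVP hx))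
    ?_ (fun x hx => Subgroup.mem_center_iff.2 fun g => hj ?_) ⟨⟨n, hnH⟩, hnK⟩ ?_ ?_ ?_
  · rw [Subgroup.coe_pow, map_pow, Subgroup.coe_one, map_one]
    exact (sq _).trans (hsq _ ((hT _).1 x.2))
  · rw [← hV, ← Subgroup.card_map_of_injective hj, Subgroup.map_comap_eq,
      inf_eq_right.2 (hVP.trans hP_range)]
  · have h1 : Commute u (j g) := (hH _).1 (g : H).2
    have h2 : Commute z (j g) := congrArg Subtype.val ((hK _).1 g.2).eq
    rw [map_mul, map_mul]
    exact (hgen _ h1 h2 _ hx).eq.symm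
  · intro x hx
    exact (hT _).2 ((Subgroup.mem_normalizer_iff.1 hn _).1 ((hT x).1 hx))
  · intro x hx h
    exact (hfix _ ((hT x).1 hx)).1 (congrArg j h)
  · intro x hx
    refine hj ?_
    simp only [map_mul, map_inv, map_pow]
    exact hn3 _ ((hT x).1 hx)

end Cfsg.Agent.BlockSixteenKlein82
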