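import Mathlib

/-!
Orbits of a group of order nine of automorphisms of an elementary abelian group of order sixteen.
-/

set_option autoImplicit false
set_option linter.unusedSectionVars false

namespace Cfsg.Agent.SixteenNineOrbits82

open Finset

variable {P : Type*} [Group P] [Fintype P] [DecidableEq P] {A : Subgroup (MulAut P)} [Fintype A]

/-- The fixed points of an automorphism. -/
def fix (a : MulAut P) : Finset P := univ.filter fun v => a v = v

/-- The orbit of an element. -/
def orb (A : Subgroup (MulAut P)) [Fintype A] (v : P) : Finset P :=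
  univ.image fun a : A => (a : MulAut P) v

theorem self_mem_orb (v : P) : v ∈ orb A v := mem_image.2 ⟨1, mem_univ _, rfl⟩

theorem mem_orb {v w : P} : w ∈ orb A v ↔ ∃ a : A, (a : MulAut P) v = w := by simp [orb]

theorem orb_eq {v w : P} (h : w ∈ orb A v) : orb A w = orb A v := by
  obtain ⟨b, rfl⟩ := mem_orb.1 h
  ext z
  simp only [mem_orb]
  constructor
  · rintro ⟨a, rfl⟩; exact ⟨a * b, rfl⟩
  · rintro ⟨a, rfl⟩; exact ⟨a * b⁻¹, by simp⟩

/-- The structure of the orbits. -/
structure Orbits (A : Subgroup (MulAut P)) [Fintype A] (u₁ u₂ u₃ : P) (a₁ a₂ : A) : Prop where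
  ne₁ : a₁ ≠ 1
  ne₂ : a₂ ≠ 1
  fix₁ : fix (a₁ : MulAut P) = insert 1 (orb A u₁)
  fix₂ : fix (a₂ : MulAut P) = insert 1 (orb A u₂)
  not₁ : (1 : P) ∉ orb A u₁
  not₂ : (1 : P) ∉ orb A u₂
  not₃ : (1 : P) ∉ orb A u₃
  card₁ : (orb A u₁).card = 3
  card₂ : (orb A u₂).card = 3
  card₃ : (orb A u₃).card = 9
  disj₁₂ : Disjoint (orb A u₁) (orb A u₂)
  disj₁₃ : Disjoint (orb A u₁) (orb A u₃)
  disj₂₃ : Disjoint (orb A u₂) (orb A u₃)
  cover : ({1} : Finset P) ∪ orb A u₁ ∪ orb A u₂ ∪ orb A u₃ = univ

theorem exists_orbits (hA : Nat.card A = 9) (hP : Nat.card P = 16) :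
    ∃ u₁ u₂ u₃ a₁ a₂, Orbits A u₁ u₂ u₃ a₁ a₂ := by
  haveI : Fact (Nat.Prime 3) := ⟨by norm_num⟩
  have hA' : Fintype.card A = 9 := by rwa [Nat.card_eq_fintype_card] at hA
  have hP' : Fintype.card P = 16 := by rwa [Nat.card_eq_fintype_card] at hP
  have hcomm : ∀ a b : A, a * b = b * a :=
    IsPGroup.commutative_of_card_eq_prime_sq (p := 3) (by rw [hA]; norm_num)
  have hone : ∀ a : A, (1 : P) ∈ fix (a : MulAut P) := fun a => by simp [fix]
  -- stabilisers and orbit sizes
  set st : P → Finset A := fun v => univ.filter fun a => (a : MulAut P) v = v with hst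
  have horbst : ∀ v, (orb A v).card * (st v).card = 9 := by
    intro v
    have h : (univ : Finset A).card = ∑ w ∈ orb A v,
        (univ.filter fun a : A => (a : MulAut P) v = w).card :=
      card_eq_sum_card_fiberwise fun a _ => mem_image_of_mem _ (mem_univ a)
    rw [card_univ, hA', sum_congr rfl (g := fun _ => (st v).card) fun w hw => ?_, sum_const,
      smul_eq_mul] at h
    · exact h.symm
    obtain ⟨b, rfl⟩ := mem_orb.1 hw
    refine card_bij' (fun a _ => b⁻¹ * a) (fun a _ => b * a) (fun a ha => ?_) (fun a ha => ?_)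
      (fun a _ => mul_inv_cancel_left b a) fun a _ => inv_mul_cancel_left b a
    · simp only [hst, mem_filter, mem_univ, true_and] at ha ⊢
      simp [ha]
    · simp only [hst, mem_filter, mem_univ, true_and] at ha ⊢
      simp [ha]
  -- fixed points of a non-identity element
  have hfix : ∀ a : A, a ≠ 1 → (fix (a : MulAut P)).card = 1 ∨ (fix (a : MulAut P)).card = 4 := by
    intro a ha
    let K : Subgroup P :=
      { carrier := {v | (a : MulAut P) v = v}
        one_mem' := map_one _
        mul_mem' := fun {x y} hx hy => by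
          simp only [Set.mem_setOf_eq] at hx hy ⊢; rw [map_mul, hx, hy]
        inv_mem' := fun {x} hx => by simp only [Set.mem_setOf_eq] at hx ⊢; rw [map_inv, hx] }
    have hK : Nat.card K = (fix (a : MulAut P)).card :=
      Nat.subtype_card (fix (a : MulAut P)) fun v => by simp [fix, K]
    have hdvd : (fix (a : MulAut P)).card ∣ 16 := hK ▸ hP ▸ Subgroup.card_subgroup_dvd_card K
    have hZ : IsPGroup 3 (Subgroup.zpowers a) :=
      (IsPGroup.of_card (p := 3) (n := 2) (by rw [hA]; norm_num)).to_subgroup _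
    let act : MulAction (Subgroup.zpowers a) P :=
      MulAction.compHom P (A.subtype.comp (Subgroup.zpowers a).subtype)
    have hmod := @IsPGroup.card_modEq_card_fixedPoints 3 (Subgroup.zpowers a) _ hZ _ P act _
    have hfp : Nat.card (@MulAction.fixedPoints (Subgroup.zpowers a) P _ act) =
        (fix (a : MulAut P)).card := by
      refine Nat.subtype_card (fix (a : MulAut P)) fun v => ?_
      simp only [fix, mem_filter, mem_univ, true_and, MulAction.mem_fixedPoints]
      constructor
      · rintro hv ⟨x, hx⟩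
        obtain ⟨n, rfl⟩ := Subgroup.mem_zpowers_iff.1 hx
        show (((a ^ n : A) : MulAut P)) v = v
        have : (a : MulAut P) ∈ MulAction.stabilizer (MulAut P) v := hv
        have h' := zpow_mem this n
        rw [Subgroup.coe_zpow]
        exact h'
      · exact fun hv => hv ⟨a, Subgroup.mem_zpowers a⟩
    rw [hP, hfp] at hmod
    have hne : (fix (a : MulAut P)).card ≠ 16 := fun h => by
      refine ha (Subtype.ext (MulEquiv.ext fun v => ?_))
      have hu : fix (a : MulAut P) = univ := eq_univ_of_card _ (by rw [h, hP'])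
      exact (mem_filter.1 (hu ▸ mem_univ v : v ∈ fix (a : MulAut P))).2
    obtain ⟨i, hi, hi'⟩ := (Nat.dvd_prime_pow Nat.prime_two).1
      (show (fix (a : MulAut P)).card ∣ 2 ^ 4 by simpa using hdvd)
    rw [hi'] at hmod hne ⊢
    unfold Nat.ModEq at hmod
    interval_cases i <;> omega
  have hle : ∀ a : A, a ≠ 1 → (fix (a : MulAut P)).card ≤ 4 := fun a ha => by
    rcases hfix a ha with h | h <;> omega
  have hdiv : ∀ v, (orb A v).card = 1 ∨ (orb A v).card = 3 ∨ (orb A v).card = 9 := fun v => by
    obtain ⟨i, hi, hi'⟩ := (Nat.dvd_prime_pow (show Nat.Prime 3 by norm_num)).1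
      (show (orb A v).card ∣ 3 ^ 2 from ⟨_, (horbst v).symm⟩)
    interval_cases i <;> simp_all
  have hstab : ∀ v, (orb A v).card ≠ 9 → ∃ a : A, a ≠ 1 ∧ orb A v ⊆ fix (a : MulAut P) := by
    intro v hv
    have hc : 1 < (st v).card := by
      have h := horbst v
      rcases hdiv v with e | e | e <;> rw [e] at h hv <;> omega
    obtain ⟨a, ha, ha1⟩ := exists_mem_ne hc 1
    refine ⟨a, ha1, fun w hw => ?_⟩
    obtain ⟨b, rfl⟩ := mem_orb.1 hw
    simp only [fix, mem_filter, mem_univ, true_and]
    have e : (a : MulAut P) v = v := (mem_filter.1 ha).2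
    calc (a : MulAut P) ((b : MulAut P) v) = ((a * b : A) : MulAut P) v := rfl
      _ = ((b * a : A) : MulAut P) v := by rw [hcomm]
      _ = (b : MulAut P) v := by
          show (b : MulAut P) ((a : MulAut P) v) = _
          rw [e]
  -- the orbit of a non-identity element avoids the identity
  have hnot : ∀ v, v ≠ 1 → (1 : P) ∉ orb A v := fun v hv h => by
    obtain ⟨b, hb⟩ := mem_orb.1 h
    exact hv ((map_eq_one_iff _ (b : MulAut P).injective).1 hb)
  -- a free element
  obtain ⟨u₃, hu₃1, hu₃⟩ : ∃ v, v ≠ 1 ∧ (orb A v).card = 9 := by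
    by_contra h
    push Not at h
    have hlow : ∀ v ∈ (univ : Finset P).erase 1, 2 ≤ (((univ : Finset A).erase 1).filter
        fun a : A => (a : MulAut P) v = v).card := by
      intro v hv
      have h9 := horbst v
      have hne := h v (mem_erase.1 hv).1
      have : 3 ≤ (st v).card := by rcases hdiv v with e | e | e <;> rw [e] at h9 hne <;> omega
      rw [show ((univ : Finset A).erase 1).filter (fun a : A => (a : MulAut P) v = v) = (st v).erase 1 from
        (filter_erase _ _ _), card_erase_of_mem (show (1 : A) ∈ st v from mem_filter.2 ⟨mem_univ _, rfl⟩)]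
      omega
    have h1 := card_nsmul_le_sum _ _ _ hlow
    rw [card_erase_of_mem (mem_univ _), card_univ, hP', sum_congr rfl fun v _ => card_filter _ _, sum_comm] at h1
    simp only [← card_filter] at h1
    have hup : ∀ a ∈ univ.erase (1 : A),
        ((univ.erase (1 : P)).filter fun v => (a : MulAut P) v = v).card ≤ 3 := fun a ha => by
      rw [filter_erase, card_erase_of_mem
        (show (1 : P) ∈ univ.filter (fun v => (a : MulAut P) v = v) from hone a)]
      have := hle a (mem_erase.1 ha).1
      simp only [fix] at this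
      omega
    have h2 := sum_le_card_nsmul _ _ _ hup
    rw [card_erase_of_mem (mem_univ _), card_univ, hA'] at h2
    simp only [smul_eq_mul] at h1 h2
    omega
  have hrest : ∀ v, v ≠ 1 → v ∉ orb A u₃ → (orb A v).card ≠ 9 := by
    intro v hv hv3 h
    have hd : Disjoint (orb A v) (orb A u₃) := disjoint_left.2 fun z hz hz' =>
      hv3 (((orb_eq hz).symm.trans (orb_eq hz')) ▸ self_mem_orb v)
    have hsub : orb A v ∪ orb A u₃ ⊆ univ.erase 1 := fun z hz =>
      mem_erase.2 ⟨fun h1 => by
        rcases mem_union.1 hz with hz | hz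
        exacts [hnot v hv (h1 ▸ hz), hnot u₃ hu₃1 (h1 ▸ hz)], mem_univ _⟩
    have := card_le_card hsub
    rw [card_union_of_disjoint hd, h, hu₃, card_erase_of_mem (mem_univ _), card_univ, hP'] at this
    omega
  -- there are no fixed points
  have hthree : ∀ v, v ≠ 1 → v ∉ orb A u₃ → (orb A v).card = 3 := by
    intro v hv hv3
    rcases hdiv v with h | h | h
    · exfalso
      have hall : ∀ a : A, (a : MulAut P) v = v := fun a => by
        have : (a : MulAut P) v ∈ orb A v := mem_orb.2 ⟨a, rfl⟩
        obtain ⟨w, hw⟩ := card_eq_one.1 h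
        rw [hw, mem_singleton] at this
        have h' := self_mem_orb (A := A) v
        rw [hw, mem_singleton] at h'
        rw [this, ← h']
      -- a second non-free orbit would lie with `v` in fixed points of size four
      obtain ⟨w, hw1, hw⟩ : ∃ w, w ∉ orb A u₃ ∧ (orb A w).card ≠ 1 := by
        by_contra hc
        push Not at hc
        obtain ⟨a, -, ha⟩ := exists_mem_ne (s := (univ : Finset A))
          (by rw [card_univ, hA']; norm_num) 1
        have hsub : univ \ orb A u₃ ⊆ fix (a : MulAut P) := fun w hw =>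
          mem_filter.2 ⟨mem_univ _, card_le_one.1 (hc w (mem_sdiff.1 hw).2).le _
            (mem_orb.2 ⟨a, rfl⟩) _ (self_mem_orb w)⟩
        have := card_le_card hsub
        rw [card_sdiff, inter_univ, card_univ, hP', hu₃] at this
        have := hle a ha
        omega
      have hone1 : orb A (1 : P) = {1} := by ext z; simp [orb, eq_comm]
      have hw' : w ≠ 1 := fun h' => hw (by rw [h', hone1, card_singleton])
      have hw3 : (orb A w).card = 3 := by
        rcases hdiv w with e | e | e
        exacts [absurd e hw, e, absurd e (hrest w hw' hw1)]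
      obtain ⟨a, ha, hsub⟩ := hstab w (by omega)
      have hvw : v ∉ orb A w := fun h' => by rw [orb_eq h'] at h; omega
      have := card_le_card (show insert 1 (insert v (orb A w)) ⊆ fix (a : MulAut P) from
        insert_subset (hone a) (insert_subset (mem_filter.2 ⟨mem_univ _, hall a⟩) hsub))
      rw [card_insert_of_notMem (by simp [Ne.symm hv, hnot w hw']),
        card_insert_of_notMem hvw, hw3] at this
      have := hle a ha
      omega
    · exact h
    · exact absurd h (hrest v hv hv3)
  have hsplit : ∀ v, v ≠ 1 → v ∉ orb A u₃ →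
      ∃ a : A, a ≠ 1 ∧ fix (a : MulAut P) = insert 1 (orb A v) := by
    intro v hv hv3
    obtain ⟨a, ha, hsub⟩ := hstab v (by rw [hthree v hv hv3]; norm_num)
    refine ⟨a, ha, (eq_of_subset_of_card_le (insert_subset (hone a) hsub) ?_).symm⟩
    rw [card_insert_of_notMem (hnot v hv), hthree v hv hv3]
    exact hle a ha
  -- choose the two small orbits
  obtain ⟨u₁, hu₁, hu₁'⟩ : ∃ v, v ≠ 1 ∧ v ∉ orb A u₃ := by
    by_contra h
    push Not at h
    have := card_le_card (show univ ⊆ insert 1 (orb A u₃) from fun v _ => by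
      by_cases hv : v = 1
      · simp [hv]
      · exact mem_insert_of_mem (h v hv))
    rw [card_univ, hP', card_insert_of_notMem (hnot u₃ hu₃1), hu₃] at this
    omega
  obtain ⟨u₂, hu₂, hu₂', hu₂''⟩ : ∃ v, v ≠ 1 ∧ v ∉ orb A u₃ ∧ v ∉ orb A u₁ := by
    by_contra h
    push Not at h
    have := card_le_card (show univ ⊆ insert 1 (orb A u₃ ∪ orb A u₁) from fun v _ => by
      by_cases hv : v = 1
      · simp [hv]
      · by_cases hv3 : v ∈ orb A u₃
        · simp [hv3]
        · simp [h v hv hv3])
    have h' := (card_insert_le _ _).trans' this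
    have h'' := card_union_le (orb A u₃) (orb A u₁)
    rw [card_univ, hP'] at h'
    rw [hu₃, hthree u₁ hu₁ hu₁'] at h''
    omega
  have hd : ∀ {v w : P}, v ∉ orb A w → Disjoint (orb A v) (orb A w) := fun {v w} h =>
    disjoint_left.2 fun z hz hz' => h (((orb_eq hz).symm.trans (orb_eq hz')) ▸ self_mem_orb v)
  obtain ⟨a₁, ha₁, hf₁⟩ := hsplit u₁ hu₁ hu₁'
  obtain ⟨a₂, ha₂, hf₂⟩ := hsplit u₂ hu₂ hu₂'
  refine ⟨u₁, u₂, u₃, a₁, a₂, ha₁, ha₂, hf₁, hf₂, hnot _ hu₁, hnot _ hu₂, hnot _ hu₃1,
    hthree _ hu₁ hu₁', hthree _ hu₂ hu₂', hu₃, (hd hu₂'').symm, hd hu₁', hd hu₂', ?_⟩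
  refine eq_univ_of_card _ ?_
  rw [card_union_of_disjoint, card_union_of_disjoint, card_union_of_disjoint,
    hthree _ hu₁ hu₁', hthree _ hu₂ hu₂', hu₃, card_singleton, hP']
  · exact disjoint_singleton_left.2 (hnot _ hu₁)
  · exact disjoint_union_left.2 ⟨disjoint_singleton_left.2 (hnot _ hu₂), (hd hu₂'').symm⟩
  · exact disjoint_union_left.2 ⟨disjoint_union_left.2
      ⟨disjoint_singleton_left.2 (hnot _ hu₃1), hd hu₁'⟩, hd hu₂'⟩

end Cfsg.Agent.SixteenNineOrbits82
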