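import Cfsg.Agent.Lib.BlockPrincipalMatrix82
import Cfsg.Agent.Lib.BlockSixteenArith82
import Cfsg.Agent.Lib.SixteenNineOrbits82
import Cfsg.Agent.Lib.BlockSixteenKlein82
import Cfsg.Agent.S4646

/-!
The principal block for an elementary abelian Sylow group of order sixteen with inertial index
nine.
-/

set_option autoImplicit false
set_option linter.unusedSectionVars false

namespace Cfsg.Agent.BlockSixteenMain82

open Cfsg Cfsg.Agent.BrauerPairs81Base Cfsg.Agent.BrauerPairs81Local
open Cfsg.Agent.BrauerPairs81Fusion Cfsg.Agent.BrauerPairs81Principal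
open Cfsg.Agent.BlockPrincipalMatrix82 Cfsg.Agent.BlockAbelianWeight31
open Cfsg.Agent.BlockStarMatrix9 Cfsg.Agent.BlockPrincipal81 Cfsg.Agent.BlockContribBounds
open Cfsg.Agent.SixteenNineOrbits82
open scoped ComplexConjugate

attribute [local instance] Classical.propDecidable

variable {G : Type*} [Group G] [Fintype G] {M : Ideal AlgInt}

theorem rank_one_lt (hM : IsPModular 2 M) (P : Sylow 2 G)
    (he : (Subgroup.centralizer ((P : Subgroup G) : Set G)).relIndex
      (Subgroup.normalizer ((P : Subgroup G) : Set G)) = 9) :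
    2 ≤ blockRank 2 (principalBlock M G) := by
  haveI : Fact (Nat.Prime 2) := ⟨Nat.prime_two⟩
  have hpos := BlockCyclicRank81.blockRank_pos hM (isPBlock_principal (M := M) (G := G))
  by_contra h
  have hnil := ((S4646.result 2 M hM).2 (show blockRank 2 (principalBlock M G) = 1 by omega)).2
  set N := Subgroup.normalizer ((P : Subgroup G) : Set G) with hN
  set C := Subgroup.centralizer ((P : Subgroup G) : Set G) with hC
  haveI : (C.subgroupOf N).Normal := by
    refine ⟨fun a ha g => ?_⟩
    rw [Subgroup.mem_subgroupOf] at ha ⊢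
    refine Subgroup.mem_centralizer_iff.2 fun v hv => ?_
    have h1 := Subgroup.mem_centralizer_iff.1 ha _
      ((Subgroup.mem_normalizer_iff.1 (inv_mem g.2) v).1 hv)
    simp only [Subgroup.coe_mul, Subgroup.coe_inv, inv_inv] at h1 ⊢
    calc v * ((g : G) * a * (g : G)⁻¹) = g * (((g : G)⁻¹ * v * g) * a) * (g : G)⁻¹ := by group
      _ = g * (a * ((g : G)⁻¹ * v * g)) * (g : G)⁻¹ := by rw [h1]
      _ = _ := by group
  obtain ⟨x, hx⟩ : ∃ x : N, x ∉ C.subgroupOf N := by
    by_contra hc
    push Not at hc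
    have : (C.subgroupOf N).index = 9 := he
    rw [(Subgroup.eq_top_iff' _).2 hc, Subgroup.index_top] at this
    omega
  obtain ⟨j, m, hm2, hm⟩ := Nat.exists_eq_pow_mul_and_not_dvd (orderOf_pos x).ne' 2 (by norm_num)
  have hy : IsPRegular 2 ((x ^ 2 ^ j : N) : G) := by
    show ¬ 2 ∣ orderOf _
    rw [Subgroup.orderOf_coe, orderOf_pow' _ (pow_ne_zero _ two_ne_zero), hm,
      Nat.gcd_eq_right (dvd_mul_right _ _), Nat.mul_div_cancel_left _ (pow_pos two_pos j)]
    exact hm2
  have h1 : (x ^ 2 ^ j : N) ∈ C.subgroupOf N :=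
    hnil (P : Subgroup G) _ (isBrauerPairOf_principal hM P.isPGroup') _ (x ^ 2 ^ j : N).2
      (stabilizes_principal (by
        have hst := (mem_stab_principal hM (Q := (P : Subgroup G))
          (x := ((x ^ 2 ^ j : N) : G))).2 (x ^ 2 ^ j : N).2
        rw [mem_stab] at hst
        refine Subgroup.mem_normalizer_iff.2 fun c => ?_
        have := congrArg Sigma.fst hst
        rw [BrauerPairs81Conj.mem_cen_cjS ((x ^ 2 ^ j : N) : G) (P : Subgroup G) c,
          show BrauerPairs81Conj.cjS ((x ^ 2 ^ j : N) : G) (P : Subgroup G) = P from this]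
        exact Iff.rfl)) hy
  apply hx
  rw [← QuotientGroup.eq_one_iff, ← orderOf_eq_one_iff]
  have h2 : orderOf (x : N ⧸ C.subgroupOf N) ∣ 2 ^ j := orderOf_dvd_of_pow_eq_one (by
    rw [← QuotientGroup.mk_pow]; exact (QuotientGroup.eq_one_iff _).2 h1)
  have h3 : orderOf (x : N ⧸ C.subgroupOf N) ∣ 9 := by
    have := orderOf_dvd_natCard (x : N ⧸ C.subgroupOf N)
    rwa [show Nat.card (N ⧸ C.subgroupOf N) = 9 from he] at this
  exact Nat.eq_one_of_dvd_coprimes (Nat.Coprime.pow_left j (by norm_num)) h2 h3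

/-- The automizer of the Sylow group. -/
noncomputable def autom (P : Sylow 2 G) : Subgroup (MulAut (P : Subgroup G)) :=
  (P : Subgroup G).normalizerMonoidHom.range

theorem card_autom (P : Sylow 2 G) :
    Nat.card (autom P) = (Subgroup.centralizer ((P : Subgroup G) : Set G)).relIndex
      (Subgroup.normalizer ((P : Subgroup G) : Set G)) := by
  rw [autom, ← Subgroup.index_ker, Subgroup.normalizerMonoidHom_ker]
  rfl

theorem mem_orb_iff (P : Sylow 2 G) [DecidableEq (P : Subgroup G)] [Fintype (autom P)]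
    {u v : (P : Subgroup G)} :
    v ∈ orb (autom P) u ↔
      ∃ y ∈ Subgroup.normalizer ((P : Subgroup G) : Set G), y * (u : G) * y⁻¹ = v := by
  rw [mem_orb]
  constructor
  · rintro ⟨⟨a, y, rfl⟩, rfl⟩
    exact ⟨y, y.2, rfl⟩
  · rintro ⟨y, hy, h⟩
    exact ⟨⟨_, ⟨y, hy⟩, rfl⟩, Subtype.ext h⟩

theorem orbit_eq_orb (hM : IsPModular 2 M) (P : Sylow 2 G) [DecidableEq (P : Subgroup G)]
    [Fintype (autom P)] (u : (P : Subgroup G)) :
    orbit (principalBlock M (Cen (P : Subgroup G))) u = orb (autom P) u := by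
  haveI : Fact (Nat.Prime 2) := ⟨Nat.prime_two⟩
  ext v
  simp only [orbit, Finset.mem_filter, Finset.mem_univ, true_and, mem_orb_iff,
    mem_stab_principal hM]

set_option maxHeartbeats 1000000 in
theorem main (hM : IsPModular 2 M) (P : Sylow 2 G) (hcard : Nat.card P = 16)
    (hel : ∀ x : P, x ^ 2 = 1)
    (he : (Subgroup.centralizer ((P : Subgroup G) : Set G)).relIndex
      (Subgroup.normalizer ((P : Subgroup G) : Set G)) = 9) :
    Nat.card (principalBlock M G) = 16 ∧ blockRank 2 (principalBlock M G) = 9 := by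
  haveI : Fact (Nat.Prime 2) := ⟨Nat.prime_two⟩
  haveI : Fintype (autom P) := Fintype.ofFinite _
  have hsq : ∀ v ∈ (P : Subgroup G), v * v = 1 := fun v hv => by
    have := congrArg Subtype.val (hel ⟨v, hv⟩)
    rwa [sq] at this
  have hab : ∀ a ∈ (P : Subgroup G), ∀ b ∈ (P : Subgroup G), a * b = b * a := by
    intro a ha b hb
    calc a * b = (a * b) * ((b * a) * (b * a)) := by rw [hsq _ (mul_mem hb ha), mul_one]
      _ = a * (b * b) * a * (b * a) := by group
      _ = b * a := by rw [hsq b hb, mul_one, hsq a ha, one_mul]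
  set B := principalBlock M G
  set c := principalBlock M (Cen (P : Subgroup G))
  have hmax : IsMaximalBrauerPair 2 M B (P : Subgroup G) c := isMaximal_pp hM P
  obtain ⟨u₁, u₂, u₃, a₁, a₂, O⟩ := exists_orbits (A := autom P) (by rw [card_autom, he]) hcard
  have hA9 : ∀ a : autom P, a ^ 9 = 1 := fun a => by
    have := pow_card_eq_one' (x := a)
    rwa [card_autom, he] at this
  have hcomm : ∀ a b : autom P, a * b = b * a := by
    haveI : Fact (Nat.Prime 3) := ⟨by norm_num⟩
    exact fun a b => (IsPGroup.isMulCommutative_of_card_eq_prime_sq (p := 3)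
      (G := autom P) (by rw [card_autom, he]; norm_num)).is_comm.comm a b
  -- the fixed subgroups
  let V : autom P → Subgroup (P : Subgroup G) := fun a =>
    { carrier := {v | (a : MulAut (P : Subgroup G)) v = v}
      one_mem' := map_one _
      mul_mem' := fun {x y} hx hy => by
        simp only [Set.mem_ofPred_eq] at hx hy ⊢; rw [map_mul, hx, hy]
      inv_mem' := fun {x} hx => by simp only [Set.mem_ofPred_eq] at hx ⊢; rw [map_inv, hx] }
  have hVfix : ∀ a v, v ∈ V a ↔ v ∈ fix (a : MulAut (P : Subgroup G)) := fun a v => by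
    simp [V, fix]
  have hVcard : ∀ a, Nat.card (V a) = (fix (a : MulAut (P : Subgroup G))).card := fun a =>
    Nat.subtype_card _ fun v => (hVfix a v).symm
  -- ranks at the small orbits
  have hsmall : ∀ (u : (P : Subgroup G)) (a : autom P),
      fix (a : MulAut (P : Subgroup G)) = insert 1 (orb (autom P) u) →
      (1 : (P : Subgroup G)) ∉ orb (autom P) u → (orb (autom P) u).card = 3 →
      blockRank 2 (blockAt 2 M (⟨(P : Subgroup G), c⟩ : BrauerPairIdx G) (u : G)) = 3 := by
    intro u a hf h1 hc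
    obtain ⟨n, hna⟩ := a.2
    have hV4 : Nat.card (V a) = 4 := by
      rw [hVcard, hf, Finset.card_insert_of_notMem h1, hc]
    have hu : u ∈ V a := (hVfix a u).2 (hf ▸ Finset.mem_insert_of_mem (self_mem_orb u))
    obtain ⟨z, hz, hzu⟩ := Finset.exists_mem_ne (by rw [hc]; norm_num) u (s := orb (autom P) u)
    have hzV : z ∈ V a := (hVfix a z).2 (hf ▸ Finset.mem_insert_of_mem hz)
    have hu1 : u ≠ 1 := fun h => h1 (h ▸ self_mem_orb u)
    have hz1 : z ≠ 1 := fun h => h1 (h ▸ hz)
    have hVlist : ∀ v ∈ V a, v = 1 ∨ v = u ∨ v = z ∨ v = u * z := by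
      have hsub : ({1, u, z, u * z} : Finset (P : Subgroup G)) =
          fix (a : MulAut (P : Subgroup G)) := by
        refine Finset.eq_of_subset_of_card_le (fun v hv => ?_) ?_
        · simp only [Finset.mem_insert, Finset.mem_singleton] at hv
          rcases hv with rfl | rfl | rfl | rfl
          exacts [(hVfix a _).1 (one_mem _), (hVfix a _).1 hu, (hVfix a _).1 hzV,
            (hVfix a _).1 (mul_mem hu hzV)]
        · have huu : u * u = 1 := Subtype.ext (hsq _ u.2)
          rw [← hVcard, hV4, Finset.card_insert_of_notMem, Finset.card_insert_of_notMem,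
            Finset.card_insert_of_notMem, Finset.card_singleton] <;>
            simp only [Finset.mem_insert, Finset.mem_singleton, not_or]
          exacts [fun h => hu1 (mul_right_cancel ((one_mul z).trans h)).symm,
            ⟨Ne.symm hzu, fun h => hz1 (mul_left_cancel ((mul_one u).trans h)).symm⟩,
            ⟨Ne.symm hu1, Ne.symm hz1, fun h => hzu (mul_left_cancel (huu.trans h)).symm⟩]
      intro v hv
      have := hsub ▸ (hVfix a v).1 hv
      simpa using this
    rw [blockAt_principal hM P u.2]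
    refine BlockSixteenKlein82.rank_three hM P hcard hel
      ((V a).map (P : Subgroup G).subtype) (Subgroup.map_subtype_le _) ?_ (z := (z : G)) (n := (n : G))
      ⟨u, hu, rfl⟩ ⟨z, hzV, rfl⟩ ?_ n.2 ?_ ?_ ?_
    · rw [Subgroup.card_map_of_injective Subtype.val_injective, hV4]
    · rintro g hg hg' _ ⟨v, hv, rfl⟩
      rcases hVlist v hv with rfl | rfl | rfl | rfl
      exacts [Commute.one_left g, hg, hg', hg.mul_left hg']
    · intro v hv
      have hconj : ((a : MulAut (P : Subgroup G)) ⟨v, hv⟩ : G) = (n : G) * v * (n : G)⁻¹ := by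
        rw [← hna]; rfl
      rw [← hconj]
      refine ⟨fun h => ⟨⟨v, hv⟩, Subtype.ext h, rfl⟩, ?_⟩
      rintro ⟨w, hw, rfl⟩
      exact congrArg Subtype.val hw
    · intro v hv
      have ha3 : (a : MulAut (P : Subgroup G)) ^ 3 = 1 := by
        obtain ⟨b, hb⟩ := mem_orb.1 hz
        by_contra h3
        -- an element of order nine would generate the group and fix the orbit pointwise
        have h9 : orderOf a = 9 := by
          refine orderOf_eq_prime_pow (p := 3) (n := 1) ?_ (hA9 a)
          intro h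
          exact h3 (by simpa using congrArg Subtype.val h)
        have htop : Subgroup.zpowers a = ⊤ := Subgroup.eq_top_of_card_eq _ (by
          rw [Nat.card_zpowers, h9, card_autom, he])
        obtain ⟨k, rfl⟩ := Subgroup.mem_zpowers_iff.1 (htop ▸ Subgroup.mem_top b)
        apply hzu
        rw [← hb, Subgroup.coe_zpow]
        exact zpow_mem (show (a : MulAut (P : Subgroup G)) ∈
          MulAction.stabilizer (MulAut (P : Subgroup G)) u from hu) k
      have h' := congrArg (fun f : MulAut (P : Subgroup G) => ((f ⟨v, hv⟩ : (P : Subgroup G)) : G)) ha3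
      rw [← hna, ← map_pow] at h'
      exact h'
    · intro y hy hyu
      obtain ⟨b, hb⟩ := mem_orb.1 hz
      set d : autom P := ⟨_, ⟨y, hy⟩, rfl⟩
      have hd : (d : MulAut (P : Subgroup G)) u = u := Subtype.ext hyu
      have : (d : MulAut (P : Subgroup G)) z = z := by
        rw [← hb]
        calc (d : MulAut (P : Subgroup G)) ((b : MulAut (P : Subgroup G)) u)
            = ((d * b : autom P) : MulAut (P : Subgroup G)) u := rfl
          _ = ((b * d : autom P) : MulAut (P : Subgroup G)) u := by rw [hcomm]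
          _ = (b : MulAut (P : Subgroup G)) ((d : MulAut (P : Subgroup G)) u) := rfl
          _ = _ := by rw [hd]
      exact congrArg Subtype.val this
  have hr₁ := hsmall u₁ a₁ O.fix₁ O.not₁ O.card₁
  have hr₂ := hsmall u₂ a₂ O.fix₂ O.not₂ O.card₂
  have hr₃ : blockRank 2 (blockAt 2 M (⟨(P : Subgroup G), c⟩ : BrauerPairIdx G) (u₃ : G)) = 1 := by
    refine BlockAbelian81.rank_cen_eq_one hM hmax hab u₃.2 (pairAt_le hM hmax u₃) fun y hy hyu => ?_
    have hyN := (mem_stab_principal hM).1 hy
    set d : autom P := ⟨_, ⟨y, hyN⟩, rfl⟩ with hd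
    have hdu : (d : MulAut (P : Subgroup G)) u₃ = u₃ := Subtype.ext (by
      show y * (u₃ : G) * y⁻¹ = u₃
      rw [← hyu.eq, mul_inv_cancel_right])
    have hinj : Function.Injective fun a : autom P => (a : MulAut (P : Subgroup G)) u₃ := by
      have hcardO : (Finset.univ.image fun a : autom P => (a : MulAut (P : Subgroup G)) u₃).card =
          Finset.univ.card (α := autom P) := by
        rw [Finset.card_univ, ← Nat.card_eq_fintype_card, card_autom, he]
        exact O.card₃
      intro a b h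
      exact Finset.card_image_iff.1 hcardO (Finset.mem_univ a) (Finset.mem_univ b) h
    have hd1 : d = 1 := hinj (hdu.trans rfl)
    have hker : (⟨y, hyN⟩ : Subgroup.normalizer ((P : Subgroup G) : Set G)) ∈
        (P : Subgroup G).normalizerMonoidHom.ker := congrArg Subtype.val hd1
    rw [Subgroup.normalizerMonoidHom_ker] at hker
    exact hker
  -- weights
  set w := weight 2 M c with hw
  set l := blockRank 2 B with hl
  have hworb : ∀ u v : (P : Subgroup G), v ∈ orb (autom P) u → w v = w u := by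
    intro u v hv
    rw [← orbit_eq_orb hM] at hv
    simp only [hw, weight]
    refine congrArg₂ (· / ·) ?_ ?_
    swap
    · exact congrArg (fun s : Finset (P : Subgroup G) => ((s.card : ℕ) : ℂ)) (orbit_eq_of_mem hv)
    obtain ⟨y, hy, hyv⟩ := (Finset.mem_filter.1 hv).2
    have h := cP_pairAt hM hmax hy hyv
    have hr : blockRank 2 (cP y (pairAt 2 M (⟨(P : Subgroup G), c⟩ : BrauerPairIdx G) (u : G))).2 =
        blockRank 2 (blockAt 2 M (⟨(P : Subgroup G), c⟩ : BrauerPairIdx G) (u : G)) := by
      show blockRank 2 (conjBlock _ y _) = _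
      rw [BrauerPairs81Conj.conjBlock_eq]
      exact BlockTheoryChains.blockRank_push _ _
    rw [h] at hr
    exact_mod_cast hr
  have hwsum : ∀ u : (P : Subgroup G), ∑ v ∈ orb (autom P) u, w v =
      (blockRank 2 (blockAt 2 M (⟨(P : Subgroup G), c⟩ : BrauerPairIdx G) (u : G)) : ℂ) := by
    intro u
    rw [Finset.sum_congr rfl (hworb u), Finset.sum_const, nsmul_eq_mul, hw, weight,
      orbit_eq_orb hM]
    have : ((orb (autom P) u).card : ℂ) ≠ 0 :=
      Nat.cast_ne_zero.2 (Finset.card_ne_zero.2 ⟨u, self_mem_orb u⟩)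
    field_simp
  have horb1 : orb (autom P) (1 : (P : Subgroup G)) = {1} := by ext v; simp [orb, eq_comm]
  have hk : (Nat.card B : ℂ) = l + 7 := by
    rw [card_eq_weight hM hmax hab, ← hw, ← O.cover, Finset.sum_union, Finset.sum_union,
      Finset.sum_union, ← horb1, hwsum, hwsum, hwsum, hwsum, hr₁, hr₂, hr₃,
      BlockAbelianNorm31.rank_at_one hM hmax hab]
    · push_cast; ring
    · exact Finset.disjoint_singleton_left.2 O.not₁
    · exact Finset.disjoint_union_left.2 ⟨Finset.disjoint_singleton_left.2 O.not₂, O.disj₁₂⟩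
    · exact Finset.disjoint_union_left.2
        ⟨Finset.disjoint_union_left.2 ⟨Finset.disjoint_singleton_left.2 O.not₃, O.disj₁₃⟩, O.disj₂₃⟩
  have hk' : Nat.card B = l + 7 := by exact_mod_cast hk
  -- the matrices
  set S : Fin 4 → Set (P : Subgroup G) := ![{1}, ↑(orb (autom P) u₁), ↑(orb (autom P) u₂),
    ↑(orb (autom P) u₃)] with hS
  have hinv : ∀ i, Inv c (ind (S i)) := by
    have haux : ∀ u, Inv c (ind (↑(orb (autom P) u) : Set (P : Subgroup G))) := by
      intro u y v
      have hy := (mem_stab_principal hM).1 y.2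
      have hmem : act c y v ∈ orb (autom P) v :=
        (mem_orb_iff P).2 ⟨(y : G), hy, (coe_act y v).symm⟩
      have heq := orb_eq hmem
      simp only [ind, Finset.mem_coe]
      refine if_congr ⟨fun h => ?_, fun h => ?_⟩ rfl rfl
      · rw [← orb_eq h, heq]; exact self_mem_orb v
      · rw [← orb_eq h]; exact hmem
    intro i
    fin_cases i
    · show Inv c (ind ({1} : Set (P : Subgroup G)))
      rw [show ({1} : Set (P : Subgroup G)) = ↑(orb (autom P) (1 : (P : Subgroup G))) by simp [horb1]]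
      exact haux 1
    exacts [haux _, haux _, haux _]
  have hdis : ∀ i j, i ≠ j → S i ∩ S j = ∅ := by
    intro i j hij
    have d01 : Disjoint ({1} : Finset (P : Subgroup G)) (orb (autom P) u₁) :=
      Finset.disjoint_singleton_left.2 O.not₁
    have d02 : Disjoint ({1} : Finset (P : Subgroup G)) (orb (autom P) u₂) :=
      Finset.disjoint_singleton_left.2 O.not₂
    have d03 : Disjoint ({1} : Finset (P : Subgroup G)) (orb (autom P) u₃) :=
      Finset.disjoint_singleton_left.2 O.not₃
    have conv : ∀ {s t : Finset (P : Subgroup G)}, Disjoint s t →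
        ((↑s : Set (P : Subgroup G)) ∩ ↑t = ∅) := fun {s t} h =>
      Set.disjoint_iff_inter_eq_empty.1 (Finset.disjoint_coe.2 h)
    fin_cases i <;> fin_cases j <;>
      first
        | exact absurd rfl hij
        | (simp only [hS, Matrix.cons_val_zero, Matrix.cons_val_one, Matrix.cons_val,
            ← Finset.coe_singleton, Fin.zero_eta, Fin.mk_one, Fin.reduceFinMk]
           first
            | exact conv d01 | exact conv d02 | exact conv d03
            | exact conv d01.symm | exact conv d02.symm | exact conv d03.symm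
            | exact conv O.disj₁₂ | exact conv O.disj₁₃ | exact conv O.disj₂₃
            | exact conv O.disj₁₂.symm | exact conv O.disj₁₃.symm | exact conv O.disj₂₃.symm)
  have hcov : ind (S 0) + ind (S 1) + ind (S 2) + ind (S 3) = 1 := by
    funext v
    have hv : v ∈ ({1} : Finset (P : Subgroup G)) ∪ orb (autom P) u₁ ∪ orb (autom P) u₂ ∪
        orb (autom P) u₃ := O.cover ▸ Finset.mem_univ v
    have hn : ∀ i j, i ≠ j → v ∈ S i → v ∉ S j := fun i j hij hi hj =>
      (Set.eq_empty_iff_forall_notMem.1 (hdis i j hij)) v ⟨hi, hj⟩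
    simp only [Pi.add_apply, Pi.one_apply, ind]
    rcases Finset.mem_union.1 hv with h | h
    · rcases Finset.mem_union.1 h with h | h
      · rcases Finset.mem_union.1 h with h | h
        · have hi : v ∈ S 0 := by simpa [hS] using h
          simp [hi, hn 0 1 (by decide) hi, hn 0 2 (by decide) hi, hn 0 3 (by decide) hi]
        · have hi : v ∈ S 1 := by simpa [hS] using h
          simp [hi, hn 1 0 (by decide) hi, hn 1 2 (by decide) hi, hn 1 3 (by decide) hi]
      · have hi : v ∈ S 2 := by simpa [hS] using h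
        simp [hi, hn 2 0 (by decide) hi, hn 2 1 (by decide) hi, hn 2 3 (by decide) hi]
    · have hi : v ∈ S 3 := by simpa [hS] using h
      simp [hi, hn 3 0 (by decide) hi, hn 3 1 (by decide) hi, hn 3 2 (by decide) hi]
  -- integrality
  have habP : ∀ a b : (P : Subgroup G), a * b = b * a := fun a b => Subtype.ext (hab _ a.2 _ b.2)
  have hgen16 : IsGeneralizedCharacter (P : Subgroup G) ((16 : ℂ) • ind (S 0)) := by
    convert isGen_ind habP (⊥ : Subgroup (P : Subgroup G)) using 1
    funext v
    rw [Subgroup.index_bot, hcard]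
    simp [hS, ind, Subgroup.mem_bot]
  have hgen4 : ∀ (a : autom P) (u : (P : Subgroup G)),
      fix (a : MulAut (P : Subgroup G)) = insert 1 (orb (autom P) u) →
      (1 : (P : Subgroup G)) ∉ orb (autom P) u → (orb (autom P) u).card = 3 →
      IsGeneralizedCharacter (P : Subgroup G)
        ((4 : ℂ) • (ind (S 0) + ind (↑(orb (autom P) u) : Set (P : Subgroup G)))) := by
    intro a u hf h1 hc
    have hidx : (V a).index = 4 := by
      have h := (V a).card_mul_index
      rw [hVcard, hf, Finset.card_insert_of_notMem h1, hc, hcard] at h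
      omega
    convert isGen_ind habP (V a) using 1
    funext v
    rw [hidx]
    simp only [Pi.smul_apply, Pi.add_apply, ind, smul_eq_mul, hVfix, hf, Finset.mem_insert,
      Finset.mem_coe]
    by_cases hv : v = 1
    · subst hv; simp [hS, h1]
    · simp [hS, hv]
  have hA : ∀ {χ ψ : IrrCharacter G}, χ ∈ B → ∀ i, ∃ m : ℤ,
      16 * A 2 M B c (ind (S i)) χ ψ = m ∧ (i = 1 ∨ i = 2 → ∃ q : ℤ,
        16 * A 2 M B c (ind (S 0)) χ ψ + 16 * A 2 M B c (ind (S i)) χ ψ = 4 * (q : ℂ)) := by
    intro χ ψ hχ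
    obtain ⟨m0, h0⟩ := exists_int hM hmax hab ((hinv 0).smul 16) hgen16 hχ ψ
    obtain ⟨m1, h1⟩ := exists_int hM hmax hab (((hinv 0).add (hinv 1)).smul 4)
      (hgen4 a₁ u₁ O.fix₁ O.not₁ O.card₁) hχ ψ
    obtain ⟨m2, h2⟩ := exists_int hM hmax hab (((hinv 0).add (hinv 2)).smul 4)
      (hgen4 a₂ u₂ O.fix₂ O.not₂ O.card₂) hχ ψ
    have hsum := A_one hM hmax hχ ψ
    rw [← hcov, A_add, A_add, A_add] at hsum
    rw [A_smul] at h0
    rw [A_smul, A_add] at h1 h2
    intro i
    fin_cases i <;> simp only [Fin.zero_eta, Fin.mk_one, Fin.reduceFinMk]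
    · exact ⟨m0, h0, fun h => by simp at h⟩
    · refine ⟨4 * m1 - m0, ?_, fun _ => ⟨m1, ?_⟩⟩
      · push_cast; linear_combination 4 * h1 - h0
      · linear_combination 4 * h1
    · refine ⟨4 * m2 - m0, ?_, fun _ => ⟨m2, ?_⟩⟩
      · push_cast; linear_combination 4 * h2 - h0
      · linear_combination 4 * h2
    · refine ⟨(if χ = ψ then 16 else 0) - m0 - (4 * m1 - m0) - (4 * m2 - m0), ?_, fun h => by simp at h⟩
      have hcast : (((if χ = ψ then 16 else 0 : ℤ)) : ℂ) = 16 * (if χ = ψ then (1 : ℂ) else 0) := by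
        split_ifs <;> norm_num
      push_cast [hcast]
      linear_combination 16 * hsum + h0 - 4 * h1 - 4 * h2
  have hex : ∀ (i : Fin 4) (χ ψ : ↥(members B)), ∃ m : ℤ, 16 * A 2 M B c (ind (S i)) χ ψ = m :=
    fun i χ ψ => by
      obtain ⟨m, hm, -⟩ := hA (ψ := (ψ : IrrCharacter G)) (mem_members.1 χ.2) i
      exact ⟨m, hm⟩
  choose Q hQ using hex
  have hconj : ∀ i, (fun v => conj (ind (S i) v)) = ind (S i) := fun i => conj_ind _
  have hsymm : ∀ i χ ψ, Q i χ ψ = Q i ψ χ := fun i χ ψ => by
    have h := congrArg conj (hQ i χ ψ)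
    rw [map_mul, map_ofNat, A_conj hM hmax _ (mem_members.1 χ.2) (mem_members.1 ψ.2), hconj, hQ,
      map_intCast] at h
    exact_mod_cast h.symm
  have hmul : ∀ i j χ ψ, ∑ φ, (Q i χ φ : ℂ) * Q j φ ψ =
      256 * A 2 M B c (ind (S i) * ind (S j)) (χ : IrrCharacter G) ψ := fun i j χ ψ => by
    rw [← A_mul hM hmax hab (hinv i) _ (mem_members.1 ψ.2), Finset.mul_sum,
      ← Finset.sum_coe_sort (members B)]
    refine Finset.sum_congr rfl fun φ _ => ?_
    rw [← hQ, ← hQ]
    ring
  have hidem : ∀ i χ ψ, ∑ φ, Q i χ φ * Q i φ ψ = 16 * Q i χ ψ := fun i χ ψ => by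
    have h := hmul i i χ ψ
    rw [ind_mul, Set.inter_self, show (256 : ℂ) = 16 * 16 by norm_num, mul_assoc, hQ] at h
    exact_mod_cast h
  have horth : ∀ i j, i ≠ j → ∀ χ ψ, ∑ φ, Q i χ φ * Q j φ ψ = 0 := fun i j hij χ ψ => by
    have h := hmul i j χ ψ
    rw [ind_mul, hdis i j hij, show ind (∅ : Set (P : Subgroup G)) = (0 : ℂ) • 1 by
      funext v; simp [ind], A_smul, zero_mul, mul_zero] at h
    exact_mod_cast h
  have hcong : ∀ i : Fin 4, i = 1 ∨ i = 2 → ∀ χ ψ, 4 ∣ Q 0 χ ψ + Q i χ ψ := fun i hi χ ψ => by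
    obtain ⟨-, -, hq⟩ := hA (ψ := (ψ : IrrCharacter G)) (mem_members.1 χ.2) i
    obtain ⟨q, hq⟩ := hq hi
    rw [hQ, hQ] at hq
    exact ⟨q, by exact_mod_cast hq⟩
  have htot : ∀ χ ψ, Q 0 χ ψ + Q 1 χ ψ + Q 2 χ ψ + Q 3 χ ψ = if χ = ψ then 16 else 0 := by
    intro χ ψ
    have hsum := A_one hM hmax (mem_members.1 χ.2) (ψ : IrrCharacter G)
    rw [← hcov, A_add, A_add, A_add] at hsum
    have h : ((Q 0 χ ψ + Q 1 χ ψ + Q 2 χ ψ + Q 3 χ ψ : ℤ) : ℂ) =
        ((if χ = ψ then 16 else 0 : ℤ) : ℂ) := by
      push_cast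
      rw [← hQ, ← hQ, ← hQ, ← hQ, ← mul_add, ← mul_add, ← mul_add, hsum]
      simp only [Subtype.ext_iff]
      split_ifs <;> norm_num
    exact_mod_cast h
  have hmem : ∀ i, ∃ u : (P : Subgroup G), u ∈ S i := by
    intro i
    fin_cases i
    exacts [⟨1, rfl⟩, ⟨u₁, self_mem_orb u₁⟩, ⟨u₂, self_mem_orb u₂⟩, ⟨u₃, self_mem_orb u₃⟩]
  have hpos : ∀ i χ, 0 < Q i χ χ := by
    intro i χ
    obtain ⟨u, hu⟩ := hmem i
    have hne : Q i χ χ ≠ 0 := fun h => by
      have h' := hQ i χ χ
      rw [h, Int.cast_zero, mul_eq_zero] at h'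
      exact h'.elim (by norm_num)
        (A_ind_ne_zero hM P hab (hinv i) hu (mem_members.1 χ.2))
    have hnn : 0 ≤ 16 * Q i χ χ := by
      rw [← hidem]
      exact Finset.sum_nonneg fun φ _ => by rw [hsymm i φ χ]; exact mul_self_nonneg _
    omega
  have htr : ∑ χ, Q 3 χ χ = 16 := by
    have h : ((∑ χ, Q 3 χ χ : ℤ) : ℂ) = 16 := by
      push_cast
      simp only [← hQ, ← Finset.mul_sum]
      rw [Finset.sum_coe_sort (members B) (fun φ => A 2 M B c (ind (S 3)) φ φ),
        trace_eq_weight hM hmax hab (hinv 3)]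
      have : ∑ v : (P : Subgroup G), ind (S 3) v * weight 2 M c v = 1 := by
        simp only [ind, ite_mul, one_mul, zero_mul]
        rw [← Finset.sum_filter, show (Finset.univ.filter fun v => v ∈ S 3) = orb (autom P) u₃ by
          ext v; simp [hS], ← hw, hwsum, hr₃, Nat.cast_one]
      rw [this, mul_one]
    exact_mod_cast h
  have hcardι : Fintype.card ↥(members B) = Nat.card B := by
    rw [Fintype.card_coe, ← card_members]
  have hl2 := rank_one_lt hM P he
  have h16 := BlockSixteenArith82.card_eq_sixteen (B0 := Q 0) (B1 := Q 1) (B2 := Q 2) (B3 := Q 3)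
    (by simp only [List.forall_mem_cons, List.not_mem_nil, IsEmpty.forall_iff, implies_true, and_true]
        exact ⟨hsymm 0, hsymm 1, hsymm 2, hsymm 3⟩)
    (by simp only [List.forall_mem_cons, List.not_mem_nil, IsEmpty.forall_iff, implies_true, and_true]
        exact ⟨hidem 0, hidem 1, hidem 2, hidem 3⟩)
    (horth 1 3 (by decide)) (horth 2 3 (by decide)) htot
    (fun χ ψ => by
      have := hcong 2 (Or.inr rfl) χ ψ
      have := htot χ ψ
      by_cases h : χ = ψ
      · rw [if_pos h] at this; omega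
      · rw [if_neg h] at this; omega)
    (fun χ ψ => by
      have := hcong 1 (Or.inl rfl) χ ψ
      have := htot χ ψ
      by_cases h : χ = ψ
      · rw [if_pos h] at this; omega
      · rw [if_neg h] at this; omega)
    (by simp only [List.forall_mem_cons, List.not_mem_nil, IsEmpty.forall_iff, implies_true, and_true]
        exact ⟨hpos 0, hpos 1, hpos 2, hpos 3⟩)
    htr (by rw [hcardι, hk']; show 9 ≤ blockRank 2 (principalBlock M G) + 7; omega)
  rw [hcardι] at h16
  refine ⟨h16, ?_⟩
  show l = 9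
  omega

end Cfsg.Agent.BlockSixteenMain82
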