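import Cfsg.Agent.Lib.BlockMajorLattice82
import Cfsg.Agent.Lib.BlockCyclicRank81

/-!
A major subsection whose contribution form is at least `l` off the kernel bounds the number of
characters of the block by `p ^ d * rank / l`.
-/

set_option autoImplicit false

namespace Cfsg.Agent.BlockSmallCount31

open Cfsg Cfsg.Agent.BlockTheoryLocalRing Cfsg.Agent.BlockTheoryCentre
open Cfsg.Agent.BlockTheoryIdem Cfsg.Agent.BlockTheoryBrauer
open Cfsg.Agent.BlockContrib Cfsg.Agent.BlockContribBounds Cfsg.Agent.ClassAlgebraVal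
open Cfsg.Agent.BlockContribSection Cfsg.Agent.BlockMajorLattice82
open scoped ComplexConjugate

attribute [local instance] Classical.propDecidable

set_option linter.unusedSectionVars false

/-! ### The form -/

section Form

variable {p : ℕ} [Fact p.Prime] {M : Ideal AlgInt} {H : Type*} [Group H] [Fintype H]
  {b : Set (IrrCharacter H)}

/-- The product of the contribution matrix with a vector. -/
noncomputable def cmul (p : ℕ) (b : Set (IrrCharacter H)) (z : IrrCharacter H → ℤ) :
    IrrCharacter H → ℤ := fun φ => ∑ ψ, col p b φ ψ * z ψ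

/-- The quadratic form of the contribution matrix. -/
noncomputable def qform (p : ℕ) (b : Set (IrrCharacter H)) (z : IrrCharacter H → ℤ) : ℤ :=
  ∑ φ ∈ members b, z φ * cmul p b z φ

/-- The form is at least `l` off the kernel. -/
def MinAtLeast (p : ℕ) (b : Set (IrrCharacter H)) (l : ℕ) : Prop :=
  ∀ z : IrrCharacter H → ℤ, (∃ φ ∈ b, cmul p b z φ ≠ 0) → (l : ℤ) ≤ qform p b z

theorem cmul_eq {z : IrrCharacter H → ℤ} {φ : IrrCharacter H} :
    cmul p b z φ = ∑ ψ ∈ members b, contrib p b φ ψ * z ψ := by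
  rw [cmul]
  symm
  refine Eq.trans (Finset.sum_congr rfl fun ψ hψ => ?_)
    (Finset.sum_subset (Finset.subset_univ (members b)) fun ψ _ hψ => ?_)
  · rw [show col p b φ ψ = contrib p b φ ψ from if_pos (mem_members.1 hψ)]
  · rw [show col p b φ ψ = 0 from if_neg fun h => hψ (mem_members.2 h), zero_mul]

theorem cmul_sub (z z' : IrrCharacter H → ℤ) (φ : IrrCharacter H) :
    cmul p b (z - z') φ = cmul p b z φ - cmul p b z' φ := by
  simp only [cmul, Pi.sub_apply, mul_sub, Finset.sum_sub_distrib]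

theorem sum_cmul_sq (hM : IsPModular p M) (hb : IsPBlock M b) (z : IrrCharacter H → ℤ) :
    ∑ φ ∈ members b, cmul p b z φ ^ 2 = (p : ℤ) ^ blockDefect p b * qform p b z := by
  simp only [qform, cmul_eq, Finset.mul_sum, pow_two, Finset.sum_mul]
  rw [Finset.sum_comm]
  refine Finset.sum_congr rfl fun ψ hψ => ?_
  rw [Finset.sum_comm]
  refine Finset.sum_congr rfl fun ψ' hψ' => ?_
  have h := sum_contrib_mul hM hb (mem_members.1 hψ) (mem_members.1 hψ')
  rw [filter_eq_members] at h
  calc ∑ φ ∈ members b, contrib p b φ ψ' * z ψ' * (contrib p b φ ψ * z ψ)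
      = (∑ φ ∈ members b, contrib p b ψ φ * contrib p b φ ψ') * (z ψ * z ψ') := by
        rw [Finset.sum_mul]
        exact Finset.sum_congr rfl fun φ hφ => by
          rw [contrib_comm hM.1 (mem_members.1 hψ) (mem_members.1 hφ)]; ring
    _ = _ := by rw [h]; ring

theorem qform_nonneg (hM : IsPModular p M) (hb : IsPBlock M b) (z : IrrCharacter H → ℤ) :
    0 ≤ qform p b z := by
  refine nonneg_of_mul_nonneg_right ?_ (pow_pos (by exact_mod_cast hM.1.pos : (0 : ℤ) < p) (blockDefect p b))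
  rw [← sum_cmul_sq hM hb]
  exact Finset.sum_nonneg fun φ _ => sq_nonneg _

theorem minAtLeast_one (hM : IsPModular p M) (hb : IsPBlock M b) : MinAtLeast p b 1 := by
  intro z ⟨φ, hφ, hne⟩
  have h1 : 0 < ∑ φ' ∈ members b, cmul p b z φ' ^ 2 :=
    Finset.sum_pos' (fun φ' _ => sq_nonneg _) ⟨φ, mem_members.2 hφ,
      lt_of_le_of_ne (sq_nonneg _) (Ne.symm (pow_ne_zero 2 hne))⟩
  rw [sum_cmul_sq hM hb] at h1
  have := pos_of_mul_pos_right h1 (pow_nonneg (Int.natCast_nonneg p) _)
  omega

/-- The diagonal adds up to `p ^ d` times the rank. -/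
theorem sum_diag (hM : IsPModular p M) (hb : IsPBlock M b) :
    ∑ φ ∈ members b, contrib p b φ φ = (p : ℤ) ^ blockDefect p b * (blockRank p b : ℤ) := by
  set c := (cofactor p H : ℂ) * (p : ℂ) ^ minExp p b with hc
  have hc0 : c ≠ 0 := scale_ne_zero hM.1 b
  have hG : (Nat.card H : ℂ) = c * (p : ℂ) ^ blockDefect p b := by
    have h := pow_mul_cofactor (G := H) p
    rw [← minExp_add_defect hM hb, pow_add] at h
    rw [hc, ← h]; push_cast; ring
  have h1 : c * ((∑ φ ∈ members b, contrib p b φ φ : ℤ) : ℂ) =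
      c * (((p : ℤ) ^ blockDefect p b * (blockRank p b : ℤ) : ℤ) : ℂ) := by
    push_cast
    rw [← mul_assoc, ← hG, ← BlockCyclicRank81.sum_blockSq_regular hM hb, Finset.mul_sum]
    simp only [BlockCyclicRank81.blockSq]
    rw [Finset.sum_comm, ← filter_eq_members, Finset.sum_filter]
    refine Finset.sum_congr rfl fun φ _ => ?_
    by_cases hφ : φ ∈ b
    · simp only [if_pos hφ]
      rw [hc, ← pair_eq_contrib hM.1 φ hφ, pair, regSum_eq, Finset.sum_filter]
      exact Finset.sum_congr rfl fun g _ => if_congr Iff.rfl (mul_comm _ _) rfl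
    · simp [hφ]
  exact_mod_cast mul_left_cancel₀ hc0 h1

end Form

/-! ### Roots of unity -/

/-- The squares over the primitive roots, as pairwise differences along the residue classes. -/
theorem two_mul_sum_primitive {ι : Type*} (s : Finset ι) (q : ι → ℤ) (f : ι → ℕ) {p k : ℕ}
    (hp : p.Prime) {ζ : ℂ} (hζ : IsPrimitiveRoot ζ (p ^ (k + 1))) :
    2 * ∑ j ∈ (Finset.range (p ^ (k + 1))).filter (fun j => ¬ p ∣ j),
        Complex.normSq (∑ i ∈ s, (q i : ℂ) * ζ ^ (f i * j)) =
      (p ^ k : ℕ) * ((∑ r ∈ Finset.range (p ^ k), ∑ t ∈ Finset.range p, ∑ t' ∈ Finset.range p,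
        ((∑ i ∈ s with f i % p ^ (k + 1) = r + t * p ^ k, q i) -
          ∑ i ∈ s with f i % p ^ (k + 1) = r + t' * p ^ k, q i) ^ 2 : ℤ) : ℝ) := by
  set N' := p ^ k with hN'
  set N := p ^ (k + 1) with hN
  have hNN : N = p * N' := by rw [hN, hN', pow_succ']
  have hN0 : 0 < N' := pow_pos hp.pos k
  have hNpos : 0 < N := pow_pos hp.pos _
  have himg : (Finset.range N).filter (fun j => p ∣ j) = (Finset.range N').image (p * ·) := by
    ext j
    simp only [Finset.mem_filter, Finset.mem_range, Finset.mem_image]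
    constructor
    · rintro ⟨hj, m, rfl⟩
      exact ⟨m, Nat.lt_of_mul_lt_mul_left (hNN ▸ hj), rfl⟩
    · rintro ⟨m, hm, rfl⟩
      exact ⟨hNN ▸ Nat.mul_lt_mul_of_pos_left hm hp.pos, dvd_mul_right p m⟩
  have hη : IsPrimitiveRoot (ζ ^ p) N' := hζ.pow hNpos hNN
  set g : ℕ → ℤ := fun r => ∑ i ∈ s with f i % N = r, q i with hg
  have hg' : ∀ r < N', (∑ i ∈ s with f i % N' = r, q i) = ∑ t ∈ Finset.range p, g (r + t * N') := by
    intro r hr
    rw [← Finset.sum_fiberwise_of_maps_to (s := s.filter fun i => f i % N' = r) (t := Finset.range p)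
      (g := fun i => f i % N / N') (fun i _ => Finset.mem_range.2 (Nat.div_lt_of_lt_mul (by
        rw [mul_comm, ← hNN]; exact Nat.mod_lt _ hNpos)))]
    refine Finset.sum_congr rfl fun t ht => ?_
    simp only [hg, Finset.filter_filter]
    refine Finset.sum_congr (Finset.filter_congr fun i _ => ?_) fun i _ => rfl
    have e : f i % N % N' = f i % N' := Nat.mod_mod_of_dvd _ ⟨p, by rw [hNN, mul_comm]⟩
    constructor
    · rintro ⟨h1, h2⟩
      rw [← Nat.mod_add_div (f i % N) N', e, h1, h2, mul_comm]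
    · intro h
      constructor
      · rw [← e, h, Nat.add_mul_mod_self_right, Nat.mod_eq_of_lt hr]
      · rw [h, Nat.add_mul_div_right _ _ hN0, Nat.div_eq_of_lt hr, zero_add]
  have hsplit : ∀ F : ℕ → ℤ, ∑ m ∈ Finset.range N, F m =
      ∑ r ∈ Finset.range N', ∑ t ∈ Finset.range p, F (r + t * N') := by
    intro F
    rw [← Finset.sum_product', eq_comm]
    refine Finset.sum_bij' (fun x _ => x.1 + x.2 * N') (fun m _ => (m % N', m / N')) ?_ ?_ ?_ ?_ ?_
    · rintro ⟨r, t⟩ h
      simp only [Finset.mem_product, Finset.mem_range] at h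
      refine Finset.mem_range.2 ?_
      calc r + t * N' < N' + t * N' := by omega
        _ = (t + 1) * N' := by ring
        _ ≤ N := by rw [hNN]; exact Nat.mul_le_mul_right _ h.2
    · intro m hm
      simp only [Finset.mem_product, Finset.mem_range] at hm ⊢
      exact ⟨Nat.mod_lt _ hN0, Nat.div_lt_of_lt_mul (by rw [mul_comm, ← hNN]; exact hm)⟩
    · rintro ⟨r, t⟩ h
      simp only [Finset.mem_product, Finset.mem_range] at h
      simp [Nat.add_mul_mod_self_right, Nat.mod_eq_of_lt h.1, Nat.add_mul_div_right _ _ hN0,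
        Nat.div_eq_of_lt h.1]
    · intro m _
      simp [Nat.mod_add_div']
    · intros; rfl
  have hid : ∀ r, ∑ t ∈ Finset.range p, ∑ t' ∈ Finset.range p,
      (g (r + t * N') - g (r + t' * N')) ^ 2 =
      2 * ((p : ℤ) * ∑ t ∈ Finset.range p, g (r + t * N') ^ 2 -
        (∑ t ∈ Finset.range p, g (r + t * N')) ^ 2) := fun r => by
    simp only [sub_sq, Finset.sum_add_distrib, Finset.sum_sub_distrib, Finset.sum_const,
      Finset.card_range, nsmul_eq_mul, ← Finset.mul_sum, ← Finset.sum_mul, mul_assoc]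
    ring
  have h1 := BlockContribRoots.sum_range_normSq s q f hNpos hζ
  have h2 := BlockContribRoots.sum_range_normSq s q f hN0 hη
  rw [← Finset.sum_filter_add_sum_filter_not (Finset.range N) (fun j => p ∣ j), himg,
    Finset.sum_image (fun a _ b _ h => Nat.eq_of_mul_eq_mul_left hp.pos h),
    Finset.sum_congr rfl (g := fun j => Complex.normSq (∑ i ∈ s, (q i : ℂ) * (ζ ^ p) ^ (f i * j)))
      (fun j _ => by simp only [← pow_mul, mul_left_comm p]), h2,
    Finset.sum_congr rfl (fun r hr => by rw [hg' r (Finset.mem_range.1 hr)])] at h1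
  have h3 := congrArg (fun z : ℤ => (z : ℝ)) (hsplit fun m => g m ^ 2)
  have h4 : (∑ r ∈ Finset.range N', ∑ t ∈ Finset.range p, ∑ t' ∈ Finset.range p,
      (g (r + t * N') - g (r + t' * N')) ^ 2) = ∑ r ∈ Finset.range N',
        2 * ((p : ℤ) * ∑ t ∈ Finset.range p, g (r + t * N') ^ 2 -
          (∑ t ∈ Finset.range p, g (r + t * N')) ^ 2) := Finset.sum_congr rfl fun r _ => hid r
  simp only [hg] at h4
  rw [h4]
  push_cast at h3 h1 ⊢
  simp only [hg] at h3 h1 ⊢
  push_cast at h3 h1 ⊢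
  rw [h3, hNN] at h1
  push_cast at h1
  simp only [Finset.sum_sub_distrib, ← Finset.mul_sum]
  simp only [hNN]
  linarith [h1]

/-- At least `2 (n - 1)` ordered pairs have different values of a non-constant function. -/
theorem two_mul_le_pairs {α : Type*} (v : ℕ → α) (n : ℕ) (h : ∃ t < n, ∃ s < n, v t ≠ v s) :
    2 * ((n : ℤ) - 1) ≤ ∑ t ∈ Finset.range n, ∑ t' ∈ Finset.range n,
      (if v t ≠ v t' then (1 : ℤ) else 0) := by
  obtain ⟨t₀, ht₀, s₀, hs₀, hne⟩ := h
  set g : ℕ → ℤ := fun t => if v t = v t₀ then 1 else 0 with hg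
  have h1 := BlockContribRoots.card_sub_one_le g n ⟨t₀, ht₀, s₀, hs₀, by simp [hg, Ne.symm hne]⟩
  have hid : ∑ a ∈ Finset.range n, ∑ b ∈ Finset.range n, (g a - g b) ^ 2 =
      2 * (n * ∑ t ∈ Finset.range n, g t ^ 2 - (∑ t ∈ Finset.range n, g t) ^ 2) := by
    simp only [sub_sq, Finset.sum_add_distrib, Finset.sum_sub_distrib, Finset.sum_const,
      Finset.card_range, nsmul_eq_mul, ← Finset.mul_sum, ← Finset.sum_mul, mul_assoc]
    ring
  refine le_trans (by linarith [h1, hid]) (Finset.sum_le_sum fun a _ => Finset.sum_le_sum fun b _ => ?_ :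
    ∑ a ∈ Finset.range n, ∑ b ∈ Finset.range n, (g a - g b) ^ 2 ≤ _)
  by_cases hab : v a = v b
  · simp [hg, hab]
  · rw [if_pos hab]
    simp only [hg]
    split_ifs <;> norm_num

/-! ### The count -/

variable {p : ℕ} [Fact p.Prime] {M : Ideal AlgInt} {G : Type*} [Group G] [Fintype G] {u : G}
  {H : Subgroup G}

/-- A major subsection whose form is at least `l` off the kernel. -/
theorem card_mul_le (hM : IsPModular p M) (hu : ∃ k, orderOf u = p ^ k)
    (hH : ∀ g, g ∈ H ↔ Commute u g) {b : Set (IrrCharacter H)} {B : Set (IrrCharacter G)}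
    (hind : IsInducedBlock M H b B) (hd : blockDefect p b = blockDefect p B) {l : ℕ}
    (hQ : MinAtLeast p b l) :
    Nat.card B * l ≤ p ^ blockDefect p B * blockRank p b := by
  set z : H := ⟨u, (hH u).2 (Commute.refl u)⟩ with hz
  have hb := hind.1
  have hp := hM.1
  have hzc : z ∈ Subgroup.center H :=
    Subgroup.mem_center_iff.2 fun g => Subtype.ext ((hH g).1 g.2).eq.symm
  obtain ⟨k, hk⟩ := hu
  set N := p ^ (k + 1) with hN
  have hN0 : 0 < N := pow_pos hp.pos _
  have hzk : z ^ N = 1 := by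
    refine Subtype.ext ?_
    rw [Subgroup.coe_pow, hN, pow_succ, pow_mul, ← hk, pow_orderOf_eq_one, one_pow]
    rfl
  have hlk : ∀ ξ : IrrCharacter H, S4716.lam z ξ ^ N = 1 := fun ξ => by
    rw [← S4716.lam_pow hzc, hzk, S4716.lam, div_self (irr_one_ne_zero ξ)]
  obtain ⟨ζ, hζ⟩ : ∃ ζ : ℂ, IsPrimitiveRoot ζ N := ⟨_, Complex.isPrimitiveRoot_exp N hN0.ne'⟩
  have : NeZero N := ⟨hN0.ne'⟩
  have hlam : ∀ ξ : IrrCharacter H, ∃ a < N, ζ ^ a = S4716.lam z ξ := fun ξ =>
    hζ.eq_pow_of_pow_eq_one (hlk ξ)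
  choose a haN ha using hlam
  set J := (Finset.range N).filter fun j => ¬ p ∣ j with hJ
  set q := (p : ℤ) ^ blockDefect p b with hq
  have hval : ∀ (j : ℕ) (χ : IrrCharacter G) (v : IrrCharacter H → ℤ), sval (z ^ j) χ v =
      ∑ ψ : IrrCharacter H, (((S4716.mult χ ψ : ℤ) * v ψ : ℤ) : ℂ) * ζ ^ (a ψ * j) := by
    intro j χ v
    refine Finset.sum_congr rfl fun ψ _ => ?_
    rw [S4716.lam_pow hzc, ← ha ψ, ← pow_mul]
    push_cast
    ring
  -- the total
  have htot : ∀ φ ∈ members b, ∀ j ∈ J,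
      ∑ χ ∈ members B, Complex.normSq (sval (z ^ j) χ (col p b φ)) =
        ((q * contrib p b φ φ : ℤ) : ℝ) := by
    intro φ hφ j hj
    have hjp : ¬ p ∣ j := (Finset.mem_filter.1 hj).2
    have hcop : (orderOf u).Coprime j := hk ▸ (hp.coprime_iff_not_dvd.2 hjp).pow_left _
    obtain ⟨r, hr⟩ := exists_pow_eq_self_of_coprime hcop.symm
    have hHj : ∀ g, g ∈ H ↔ Commute (u ^ j) g := fun g => by
      rw [hH]
      exact ⟨fun h => h.pow_left j, fun h => by rw [← hr]; exact h.pow_left r⟩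
    have hvj : ∃ i, orderOf (u ^ j) = p ^ i := ⟨k, by rw [Nat.Coprime.orderOf_pow hcop, hk]⟩
    have hv : col p b φ ∈ lat p b := col_mem (mem_members.1 hφ)
    have h := sum_sval hM hvj hHj hind hv hv
    rw [show (⟨u ^ j, (hHj (u ^ j)).2 (Commute.refl _)⟩ : H) = z ^ j from Subtype.ext (by simp [hz]),
      dot_col hM hb (mem_members.1 hφ) hv,
      show col p b φ φ = contrib p b φ φ from if_pos (mem_members.1 hφ), ← hq] at h
    apply Complex.ofReal_injective
    push_cast
    push_cast at h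
    rw [← h]
    exact Finset.sum_congr rfl fun χ _ => by rw [← Complex.mul_conj]
  -- one row
  have hrow : ∀ χ ∈ members B, (J.card : ℝ) * ((q * (l : ℤ) : ℤ) : ℝ) ≤
      ∑ φ ∈ members b, ∑ j ∈ J, Complex.normSq (sval (z ^ j) χ (col p b φ)) := by
    intro χ hχ
    set w : ℕ → IrrCharacter H → ℤ := fun m ψ => if a ψ % N = m then (S4716.mult χ ψ : ℤ) else 0
      with hw
    have hg : ∀ φ m, (∑ i ∈ (Finset.univ : Finset (IrrCharacter H)) with a i % N = m,
        (S4716.mult χ i : ℤ) * col p b φ i) = cmul p b (w m) φ := fun φ m => by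
      rw [cmul, Finset.sum_filter]
      exact Finset.sum_congr rfl fun i _ => by simp only [hw]; split_ifs <;> ring
    set Ω : ℤ := ∑ r ∈ Finset.range (p ^ k), ∑ t ∈ Finset.range p, ∑ t' ∈ Finset.range p,
      ∑ φ ∈ members b, cmul p b (w (r + t * p ^ k) - w (r + t' * p ^ k)) φ ^ 2 with hΩ
    have hid : 2 * ∑ φ ∈ members b, ∑ j ∈ J, Complex.normSq (sval (z ^ j) χ (col p b φ)) =
        (p ^ k : ℕ) * (Ω : ℝ) := by
      rw [Finset.mul_sum]
      have h1 : ∀ φ ∈ members b, 2 * ∑ j ∈ J, Complex.normSq (sval (z ^ j) χ (col p b φ)) =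
          (p ^ k : ℕ) * ((∑ r ∈ Finset.range (p ^ k), ∑ t ∈ Finset.range p, ∑ t' ∈ Finset.range p,
            cmul p b (w (r + t * p ^ k) - w (r + t' * p ^ k)) φ ^ 2 : ℤ) : ℝ) := by
        intro φ _
        simp only [hval, hJ, hN]
        rw [two_mul_sum_primitive _ _ _ hp hζ]
        simp only [← hN, hg, cmul_sub]
      rw [Finset.sum_congr rfl h1, ← Finset.mul_sum, ← Int.cast_sum, hΩ, Finset.sum_comm]
      congr 2
      refine Finset.sum_congr rfl fun r _ => ?_
      rw [Finset.sum_comm]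
      exact Finset.sum_congr rfl fun t _ => Finset.sum_comm
    -- a non-constant class
    obtain ⟨φ₀, hφ₀, h0⟩ := exists_height_zero hM hb
    have hv₀ : col p b φ₀ ∈ lat p b := col_mem hφ₀
    have hnd : ¬ (p : ℤ) ∣ col p b φ₀ φ₀ := by
      rw [show col p b φ₀ φ₀ = contrib p b φ₀ φ₀ from if_pos hφ₀]
      simpa [h0] using contrib_not_dvd hM hb hφ₀ h0 hφ₀
    have hne := sval_ne_zero hM ⟨k, hk⟩ hH hind hd hφ₀ h0 (mem_members.1 hχ) hv₀ hnd
    obtain ⟨r₀, hr₀, hex⟩ : ∃ r ∈ Finset.range (p ^ k), ∃ t < p, ∃ s < p,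
        (fun φ : members b => cmul p b (w (r + t * p ^ k)) φ) ≠
          fun φ : members b => cmul p b (w (r + s * p ^ k)) φ := by
      by_contra hcon
      push Not at hcon
      have hpos : (0 : ℝ) < ∑ j ∈ J, Complex.normSq (sval (z ^ j) χ (col p b φ₀)) := by
        refine Finset.sum_pos' (fun j _ => Complex.normSq_nonneg _) ⟨1, ?_, ?_⟩
        · rw [hJ, Finset.mem_filter, Finset.mem_range]
          exact ⟨Nat.one_lt_pow k.succ_ne_zero hp.one_lt, hp.not_dvd_one⟩
        · rw [pow_one]; exact Complex.normSq_pos.2 hne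
      have hge := Finset.single_le_sum (f := fun φ => ∑ j ∈ J,
        Complex.normSq (sval (z ^ j) χ (col p b φ)))
        (fun φ _ => Finset.sum_nonneg fun j _ => Complex.normSq_nonneg _) (mem_members.2 hφ₀)
      have hΩ0 : Ω = 0 := Finset.sum_eq_zero fun r hr => Finset.sum_eq_zero fun t ht =>
        Finset.sum_eq_zero fun t' ht' => Finset.sum_eq_zero fun φ hφ => by
          rw [cmul_sub, congrFun (hcon r hr t (Finset.mem_range.1 ht) t' (Finset.mem_range.1 ht'))
            ⟨φ, hφ⟩, sub_self, zero_pow two_ne_zero]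
      rw [hΩ0, Int.cast_zero, mul_zero] at hid
      linarith
    have hΩge : 2 * ((p : ℤ) - 1) * (q * l) ≤ Ω := by
      refine le_trans ?_ (Finset.single_le_sum (fun r _ => Finset.sum_nonneg fun t _ =>
        Finset.sum_nonneg fun t' _ => Finset.sum_nonneg fun φ _ => sq_nonneg _) hr₀)
      refine le_trans (mul_le_mul_of_nonneg_right (two_mul_le_pairs
        (fun t => fun φ : members b => cmul p b (w (r₀ + t * p ^ k)) φ) p hex)
        (mul_nonneg (pow_nonneg (Int.natCast_nonneg p) _) (Int.natCast_nonneg l))) ?_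
      rw [Finset.sum_mul]
      refine Finset.sum_le_sum fun t _ => ?_
      rw [Finset.sum_mul]
      refine Finset.sum_le_sum fun t' _ => ?_
      rw [sum_cmul_sq hM hb, ← hq]
      split_ifs with hv
      · rw [one_mul]
        refine mul_le_mul_of_nonneg_left (hQ _ ?_) (pow_nonneg (Int.natCast_nonneg p) _)
        by_contra hall
        push Not at hall
        refine hv (funext fun φ => ?_)
        have := hall φ (mem_members.1 φ.2)
        rwa [cmul_sub, sub_eq_zero] at this
      · rw [zero_mul]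
        exact mul_nonneg (pow_nonneg (Int.natCast_nonneg p) _) (qform_nonneg hM hb _)
    have hJc : J.card = p ^ k * (p - 1) := by
      have h : J.card = (N).totient := by
        rw [hJ, Nat.totient_eq_card_coprime]
        congr 1
        refine Finset.filter_congr fun j _ => ?_
        rw [hN, Nat.coprime_pow_left_iff k.succ_pos, hp.coprime_iff_not_dvd]
      rw [h, hN, Nat.totient_prime_pow_succ hp]
    have hcast : (((2 * ((p : ℤ) - 1) * (q * l) : ℤ)) : ℝ) ≤ (Ω : ℝ) := by exact_mod_cast hΩge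
    have hmul := mul_le_mul_of_nonneg_left hcast (Nat.cast_nonneg (p ^ k) : (0 : ℝ) ≤ (p ^ k : ℕ))
    rw [← hid] at hmul
    rw [hJc]
    push_cast [Nat.cast_sub hp.one_le] at hmul ⊢
    linarith
  have hJpos : (0 : ℝ) < J.card := by
    refine Nat.cast_pos.2 (Finset.card_pos.2 ⟨1, ?_⟩)
    rw [hJ, Finset.mem_filter, Finset.mem_range]
    exact ⟨Nat.one_lt_pow k.succ_ne_zero hp.one_lt, hp.not_dvd_one⟩
  have hfin : (J.card : ℝ) * (((members B).card : ℤ) * (q * l) : ℤ) ≤
      (J.card : ℝ) * ((q * (q * (blockRank p b : ℤ)) : ℤ) : ℝ) := by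
    calc (J.card : ℝ) * (((members B).card : ℤ) * (q * l) : ℤ)
        = ∑ χ ∈ members B, (J.card : ℝ) * ((q * (l : ℤ) : ℤ) : ℝ) := by
          rw [Finset.sum_const, nsmul_eq_mul]; push_cast; ring
      _ ≤ ∑ χ ∈ members B, ∑ φ ∈ members b, ∑ j ∈ J,
          Complex.normSq (sval (z ^ j) χ (col p b φ)) := Finset.sum_le_sum hrow
      _ = ∑ φ ∈ members b, ∑ j ∈ J, ((q * contrib p b φ φ : ℤ) : ℝ) := by
          rw [Finset.sum_comm]
          refine Finset.sum_congr rfl fun φ hφ => ?_
          rw [Finset.sum_comm]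
          exact Finset.sum_congr rfl fun j hj => htot φ hφ j hj
      _ = _ := by
          simp only [Finset.sum_const, nsmul_eq_mul]
          rw [hq, ← sum_diag hM hb, Finset.mul_sum, Int.cast_sum, Finset.mul_sum]
  have h1 : ((members B).card : ℤ) * (q * l) ≤ q * (q * (blockRank p b : ℤ)) := by
    exact_mod_cast le_of_mul_le_mul_left hfin hJpos
  rw [show ((members B).card : ℤ) * (q * l) = q * (((members B).card : ℤ) * l) by ring] at h1
  have h2 := le_of_mul_le_mul_left h1 (pow_pos (by exact_mod_cast hp.pos) _)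
  rw [card_members, ← hd]
  rw [hq] at h2
  exact_mod_cast h2

end Cfsg.Agent.BlockSmallCount31
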