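import Cfsg.Agent.Lib.Star80Inner
import Cfsg.Agent.Lib.BlockAbelianCount81
import Cfsg.Agent.Lib.GaloisChar80
import Cfsg.Agent.Lib.BlockContribBounds

/-!
The matrices of the star construction on the characters of a block with abelian defect group:
a function on the defect group invariant under the inertial group gives a matrix on the block,
linearly and multiplicatively; generalized characters give integral matrices.
-/

set_option autoImplicit false
set_option linter.unusedSectionVars false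

namespace Cfsg.Agent.BlockStarMatrix9

open Cfsg Cfsg.Agent.BlockTheoryLocalRing Cfsg.Agent.BlockTheoryCentre
open Cfsg.Agent.BlockTheoryIdem Cfsg.Agent.BlockTheoryBrauer
open Cfsg.Agent.BrauerPairs81Base Cfsg.Agent.BrauerPairs81Pairs Cfsg.Agent.BrauerPairs81Conj
open Cfsg.Agent.BrauerPairs81Local Cfsg.Agent.BrauerPairs81Fusion Cfsg.Agent.BrauerPairs81Max
open Cfsg.Agent.BrauerPairs81Induced
open Cfsg.Agent.Star80Pairs Cfsg.Agent.Star80Char Cfsg.Agent.Star80Inner
open Cfsg.Agent.BlockContribSection Cfsg.Agent.BlockContribBounds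
open CharBasic CharBasicDecomp CharInduced
open scoped ComplexConjugate

attribute [local instance] Classical.propDecidable

variable {p : ℕ} [Fact p.Prime] {M : Ideal AlgInt} {G : Type*} [Group G] [Fintype G]
  {B : Set (IrrCharacter G)} {P : Subgroup G} {c : Set (IrrCharacter (Cen P))}

/-- A function on a subgroup extended by zero. -/
noncomputable def ext (F : P → ℂ) : G → ℂ := fun g => if h : g ∈ P then F ⟨g, h⟩ else 0

theorem ext_of_mem (F : P → ℂ) {g : G} (h : g ∈ P) : ext F g = F ⟨g, h⟩ := dif_pos h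

theorem ext_coe (F : P → ℂ) (x : P) : ext F (x : G) = F x := dif_pos x.2

theorem ext_add (F F' : P → ℂ) : ext (F + F') = ext F + ext F' := by
  funext g
  simp only [ext, Pi.add_apply]
  split_ifs <;> simp

theorem ext_smul (r : ℂ) (F : P → ℂ) : ext (r • F) = r • ext F := by
  funext g
  simp only [ext, Pi.smul_apply]
  split_ifs <;> simp

theorem ext_mul (F F' : P → ℂ) : ext (F * F') = ext F * ext F' := by
  funext g
  simp only [ext, Pi.mul_apply]
  split_ifs <;> simp

/-- The action of the inertial group on the defect group. -/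
noncomputable def act (c : Set (IrrCharacter (Cen P))) :
    stab (⟨P, c⟩ : BrauerPairIdx G) →* MulAut P :=
  P.normalizerMonoidHom.comp (Subgroup.inclusion (stab_le_normalizer _))

theorem coe_act (y : stab (⟨P, c⟩ : BrauerPairIdx G)) (x : P) :
    ((act c y x : P) : G) = (y : G) * x * (y : G)⁻¹ := rfl

/-- Functions invariant under the inertial group. -/
def Inv (c : Set (IrrCharacter (Cen P))) (F : P → ℂ) : Prop := ∀ y x, F (act c y x) = F x

theorem Inv.add {F F' : P → ℂ} (h : Inv c F) (h' : Inv c F') : Inv c (F + F') := fun y x => by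
  simp only [Pi.add_apply, h y x, h' y x]

theorem Inv.smul {F : P → ℂ} (h : Inv c F) (r : ℂ) : Inv c (r • F) := fun y x => by
  simp only [Pi.smul_apply, h y x]

theorem Inv.sub {F F' : P → ℂ} (h : Inv c F) (h' : Inv c F') : Inv c (F - F') := fun y x => by
  simp only [Pi.sub_apply, h y x, h' y x]

theorem Inv.mul {F F' : P → ℂ} (h : Inv c F) (h' : Inv c F') : Inv c (F * F') := fun y x => by
  simp only [Pi.mul_apply, h y x, h' y x]

theorem Inv.conj {F : P → ℂ} (h : Inv c F) : Inv c (fun x => conj (F x)) := fun y x => by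
  simp only [h y x]

theorem inv_one : Inv c (1 : P → ℂ) := fun _ _ => rfl

theorem Inv.inv {F : P → ℂ} (h : Inv c F) : Inv c (fun x => F x⁻¹) := fun y x => by
  simp only [← map_inv, h y x⁻¹]

theorem Inv.sum {ι : Type*} (s : Finset ι) {F : ι → P → ℂ} (h : ∀ i ∈ s, Inv c (F i)) :
    Inv c (∑ i ∈ s, F i) := fun y x => by
  simp only [Finset.sum_apply]
  exact Finset.sum_congr rfl fun i hi => h i hi y x

theorem stable_ext (hM : IsPModular p M) (hmax : IsMaximalBrauerPair p M B P c)
    (hab : ∀ x ∈ P, ∀ y ∈ P, x * y = y * x) {F : P → ℂ} (hF : Inv c F) :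
    Stable p M ⟨P, c⟩ (ext F) := by
  intro g x h
  obtain ⟨a, ha1, ha, hga⟩ := h
  obtain ⟨y, hy, z, hz, rfl⟩ := BlockAbelian81.fus_control hM hmax hab ha hga
  have hx0 : x ∈ a.1 := ha1 ▸ Subgroup.mem_zpowers x
  have hx : x ∈ P := subgroup_le_of_subpairLE ha hx0
  have hzx : x * z = z * x := Subgroup.mem_centralizer_iff.mp hz x hx0
  have he : y * z * x * (y * z)⁻¹ = ((act c ⟨y, hy⟩ ⟨x, hx⟩ : P) : G) := by
    rw [coe_act]
    calc y * z * x * (y * z)⁻¹ = y * (z * x) * z⁻¹ * y⁻¹ := by group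
      _ = y * x * y⁻¹ := by rw [← hzx]; group
  rw [he, ext_coe, hF, ext_of_mem F hx]

/-- The matrix of the star construction. -/
noncomputable def A (p : ℕ) (M : Ideal AlgInt) (B : Set (IrrCharacter G))
    (c : Set (IrrCharacter (Cen P))) (F : P → ℂ) (χ ψ : IrrCharacter G) : ℂ :=
  classInner (star p M B ⟨P, c⟩ (ext F) (χ : G → ℂ)) (ψ : G → ℂ)

theorem A_add (F F' : P → ℂ) (χ ψ : IrrCharacter G) :
    A p M B c (F + F') χ ψ = A p M B c F χ ψ + A p M B c F' χ ψ := by
  rw [A, ext_add, Star80Char.star_add]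
  simp only [A, classInner, Pi.add_apply, add_mul, Finset.sum_add_distrib, mul_add]

theorem A_smul (r : ℂ) (F : P → ℂ) (χ ψ : IrrCharacter G) :
    A p M B c (r • F) χ ψ = r * A p M B c F χ ψ := by
  rw [A, ext_smul, Star80Char.star_smul, CharInduced.inner_smul_left, A]

theorem A_sub (F F' : P → ℂ) (χ ψ : IrrCharacter G) :
    A p M B c (F - F') χ ψ = A p M B c F χ ψ - A p M B c F' χ ψ := by
  rw [sub_eq_add_neg, A_add, ← neg_one_smul ℂ F', A_smul]
  ring

theorem A_sum {ι : Type*} (s : Finset ι) (F : ι → P → ℂ) (χ ψ : IrrCharacter G) :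
    A p M B c (∑ i ∈ s, F i) χ ψ = ∑ i ∈ s, A p M B c (F i) χ ψ := by
  induction s using Finset.induction_on with
  | empty =>
    rw [Finset.sum_empty, Finset.sum_empty, ← zero_smul ℂ (0 : P → ℂ), A_smul, zero_mul]
  | insert i s hi ih => rw [Finset.sum_insert hi, Finset.sum_insert hi, A_add, ih]

/-! ### Formulas -/

theorem zvp_one (hM : IsPModular p M) (hmax : IsMaximalBrauerPair p M B P c) {u : G}
    {b : Set (IrrCharacter (Cen (Subgroup.zpowers u)))}
    (hb : IsBrauerPairOf p M B (Subgroup.zpowers u) b) :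
    zvp p M ⟨P, c⟩ (ext (1 : P → ℂ)) u ⟨_, b⟩ = 1 :=
  zvp_of_const hM hmax (fun g hg => by rw [ext_of_mem _ hg]; rfl) hb

theorem formula (hM : IsPModular p M) (hmax : IsMaximalBrauerPair p M B P c) (F : P → ℂ)
    (χ : IrrCharacter G) {ψ : IrrCharacter G} (hψ : ψ ∈ B) :
    A p M B c F χ ψ = (Nat.card G : ℂ)⁻¹ *
      ∑ u ∈ Finset.univ.filter (fun u : G => ∃ k, orderOf u = p ^ k),
        ∑ b ∈ pairs p M B (Subgroup.zpowers u),
          zvp p M ⟨P, c⟩ (ext F) u ⟨_, b⟩ * mm p u b (χ : G → ℂ) (ψ : G → ℂ) := by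
  rw [A]
  nth_rewrite 1 [← star_one (z0 := ext (1 : P → ℂ)) hM hmax hψ
    (fun x hx => by rw [ext_of_mem _ hx]; rfl)]
  rw [inner_star hM]
  refine congrArg _ (Finset.sum_congr rfl fun u _ => Finset.sum_congr rfl fun b hb => ?_)
  rw [zvp_one hM hmax (mem_pairs.mp hb), map_one, mul_one]

theorem A_one (hM : IsPModular p M) (hmax : IsMaximalBrauerPair p M B P c) {χ : IrrCharacter G}
    (hχ : χ ∈ B) (ψ : IrrCharacter G) :
    A p M B c (1 : P → ℂ) χ ψ = if χ = ψ then 1 else 0 := by
  rw [A, star_one hM hmax hχ (fun x hx => by rw [ext_of_mem _ hx]; rfl)]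
  exact CharBasicOrth.classInner_irrCharacter χ ψ

theorem mm_conj {H : Subgroup G} (u : G) (b : Set (IrrCharacter H)) (f f' : G → ℂ) :
    conj (mm p u b f f') = mm p u b f' f := by
  simp only [mm, map_sum, map_mul, Complex.conj_conj]
  exact Finset.sum_congr rfl fun s _ => mul_comm _ _

theorem zvp_conj (F : P → ℂ) (u : G) (a : BrauerPairIdx G) :
    zvp p M ⟨P, c⟩ (ext fun x => conj (F x)) u a = conj (zvp p M ⟨P, c⟩ (ext F) u a) := by
  simp only [zvp, ext]
  split_ifs <;> simp

theorem A_conj (hM : IsPModular p M) (hmax : IsMaximalBrauerPair p M B P c) (F : P → ℂ)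
    {χ ψ : IrrCharacter G} (hχ : χ ∈ B) (hψ : ψ ∈ B) :
    conj (A p M B c F χ ψ) = A p M B c (fun x => conj (F x)) ψ χ := by
  rw [formula hM hmax F χ hψ, formula hM hmax _ ψ hχ]
  simp only [map_mul, map_inv₀, map_natCast, map_sum, mm_conj, zvp_conj]

/-- The projection of a class function to a part. -/
theorem sum_part_mul_conj (hM : IsPModular p M) {u : G} {H : Subgroup G}
    {b : Set (IrrCharacter H)} (hb : IsPBlock M b) (f f' : G → ℂ) :
    ∑ s ∈ Finset.univ.filter (fun s : H => ¬ p ∣ orderOf s),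
      part u b f s * conj (f' (u * s)) = mm p u b f f' := by
  set S := Finset.univ.filter (fun s : H => ¬ p ∣ orderOf s) with hS
  have hm : ∀ {s : H}, s ∈ S → ¬ p ∣ orderOf s := fun h => (Finset.mem_filter.1 h).2
  have hpart : ∀ c : H, ¬ p ∣ orderOf c →
      part u b f' c = (Nat.card H : ℂ)⁻¹ * ∑ s ∈ S, f' (u * s) * kern b c s := fun c hc => by
    rw [hS, Finset.sum_filter_of_ne (p := fun s : H => ¬ p ∣ orderOf s) (fun s _ hne hs => hne (by
      rw [show kern b c s = 0 from weak_orthogonality hM hb hc hs, mul_zero]))]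
    rfl
  calc ∑ s ∈ S, part u b f s * conj (f' (u * s))
      = ∑ s ∈ S, ((Nat.card H : ℂ)⁻¹ * ∑ c ∈ S, part u b f c * kern b s c) * conj (f' (u * s)) :=
        Finset.sum_congr rfl fun s hs => by rw [part_proj hM hb hb f (hm hs), if_pos rfl]
    _ = ∑ c ∈ S, part u b f c * conj ((Nat.card H : ℂ)⁻¹ * ∑ s ∈ S, f' (u * s) * kern b c s) := by
        simp only [map_mul, map_inv₀, map_natCast, map_sum, Finset.mul_sum, Finset.sum_mul, kern_conj]
        rw [Finset.sum_comm]
        exact Finset.sum_congr rfl fun c _ => Finset.sum_congr rfl fun s _ => by ring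
    _ = _ := Finset.sum_congr rfl fun c hc => by rw [hpart c (hm hc)]

theorem A_eq_zero (hM : IsPModular p M) (hmax : IsMaximalBrauerPair p M B P c) (F : P → ℂ)
    (χ : IrrCharacter G) {φ : IrrCharacter G} (hφ : φ ∉ B) : A p M B c F χ φ = 0 := by
  rw [A, classInner, BlockCyclicRank81.sum_eq_sum_sections hM, Finset.sum_eq_zero, mul_zero]
  intro u hu
  have hu' := (Finset.mem_filter.1 hu).2
  rw [Finset.sum_congr rfl fun s hs => by
    rw [star_apply χ hu' s (Finset.mem_filter.1 hs).2, Finset.sum_mul], Finset.sum_comm]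
  refine Finset.sum_eq_zero fun b hb => ?_
  have hb' := mem_pairs.mp hb
  simp only [mul_assoc]
  rw [← Finset.mul_sum, sum_part_mul_conj hM hb'.1.2, mm]
  refine mul_eq_zero_of_right _ (Finset.sum_eq_zero fun s hs => ?_)
  rw [part_eq_zero (fun g => mem_cen_zp) hM hu' (BlockCyclicRank81.induced_of_pairOf hM hb') hφ
    (Finset.mem_filter.1 hs).2, map_zero, mul_zero]

theorem star_eq_sum (hM : IsPModular p M) (hmax : IsMaximalBrauerPair p M B P c)
    (hab : ∀ x ∈ P, ∀ y ∈ P, x * y = y * x) {F : P → ℂ} (hF : Inv c F) (χ : IrrCharacter G) :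
    star p M B ⟨P, c⟩ (ext F) (χ : G → ℂ) =
      ∑ φ ∈ members B, A p M B c F χ φ • (φ : G → ℂ) := by
  conv_lhs => rw [CharBasicOrth.eq_sum_classInner (isClassFunction_star (stable_ext hM hmax hab hF) χ)]
  symm
  refine Finset.sum_subset (Finset.subset_univ _) fun φ _ hφ => ?_
  show A p M B c F χ φ • (φ : G → ℂ) = 0
  rw [A_eq_zero hM hmax F χ (fun h => hφ (mem_members.2 h)), zero_smul]

/-- The matrices multiply as the functions. -/
theorem A_mul (hM : IsPModular p M) (hmax : IsMaximalBrauerPair p M B P c)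
    (hab : ∀ x ∈ P, ∀ y ∈ P, x * y = y * x) {F : P → ℂ} (hF : Inv c F) (F' : P → ℂ)
    {χ ψ : IrrCharacter G} (hψ : ψ ∈ B) :
    ∑ φ ∈ members B, A p M B c F χ φ * A p M B c F' φ ψ = A p M B c (F * F') χ ψ := by
  have hl : classInner (star p M B ⟨P, c⟩ (ext F) (χ : G → ℂ))
      (star p M B ⟨P, c⟩ (ext fun x => conj (F' x)) (ψ : G → ℂ)) = A p M B c (F * F') χ ψ := by
    rw [inner_star hM, formula hM hmax _ χ hψ]
    refine congrArg _ (Finset.sum_congr rfl fun u _ => Finset.sum_congr rfl fun b _ => ?_)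
    rw [zvp_conj, Complex.conj_conj, ext_mul, zvp_mul]
  rw [← hl, star_eq_sum hM hmax hab hF χ, inner_sum_left]
  refine Finset.sum_congr rfl fun φ hφ => ?_
  rw [CharInduced.inner_smul_left, ← CharInduced.inner_conj_symm (star p M B _ _ _) (φ : G → ℂ)]
  show _ = _ * conj (A p M B c (fun x => conj (F' x)) ψ φ)
  rw [A_conj hM hmax _ hψ (mem_members.1 hφ)]
  simp only [Complex.conj_conj]

theorem exists_int (hM : IsPModular p M) (hmax : IsMaximalBrauerPair p M B P c)
    (hab : ∀ x ∈ P, ∀ y ∈ P, x * y = y * x) {F : P → ℂ} (hF : Inv c F)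
    (hg : IsGeneralizedCharacter P F) {χ : IrrCharacter G} (hχ : χ ∈ B) (ψ : IrrCharacter G) :
    ∃ n : ℤ, A p M B c F χ ψ = n := by
  refine classInner_isGeneralizedCharacter (isGen_star hM hmax (stable_ext hM hmax hab hF) ?_ hχ)
    (isGeneralizedCharacter_of_isCharacter (isCharacter_of_isIrrCharacter ψ.2))
  rwa [show (fun x : P => ext F (x : G)) = F from funext fun x => ext_coe F x]

/-! ### The identity -/

/-- The indicator of the identity. -/
noncomputable def delta (P : Subgroup G) : P → ℂ := fun x => if x = 1 then 1 else 0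

theorem ext_delta (g : G) : ext (delta P) g = if g = 1 then 1 else 0 := by
  by_cases h : g ∈ P
  · rw [ext_of_mem _ h, delta]
    exact if_congr Subtype.ext_iff rfl rfl
  · rw [ext, dif_neg h, if_neg]
    rintro rfl
    exact h (one_mem P)

theorem inv_delta : Inv c (delta P) := fun y x => by
  simp only [delta, MulEquiv.map_eq_one_iff]

theorem star_delta (hM : IsPModular p M) (hmax : IsMaximalBrauerPair p M B P c) {χ : IrrCharacter G}
    (hχ : χ ∈ B) (x : G) :
    star p M B ⟨P, c⟩ (ext (delta P)) (χ : G → ℂ) x =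
      if p ∣ orderOf x then 0 else (χ : G → ℂ) x := by
  by_cases hx : p ∣ orderOf x
  · rw [if_pos hx]
    obtain ⟨u, s, hu, hs, rfl⟩ := exists_section (p := p) x
    have hu1 : u ≠ 1 := fun h => by
      apply hs
      rw [← Subgroup.orderOf_coe]
      rwa [show u * (s : G) = (s : G) by simp [h]] at hx
    rw [star_of_const hM hmax hχ hu (c := 0) (fun g _ => by
      rw [ext_delta, if_neg fun h => hu1 (conj_eq_one_iff.1 h)]) s hs, zero_mul]
  · rw [if_neg hx, star_regular hM hmax hχ hx, ext_delta, if_pos rfl, one_mul]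

theorem A_delta (hM : IsPModular p M) (hmax : IsMaximalBrauerPair p M B P c) {χ : IrrCharacter G}
    (hχ : χ ∈ B) (ψ : IrrCharacter G) :
    A p M B c (delta P) χ ψ = (Nat.card G : ℂ)⁻¹ * BlockContrib.pair p (ψ : G → ℂ) χ := by
  rw [A, classInner, BlockContrib.pair, BlockContrib.regSum_eq]
  refine congrArg _ (Finset.sum_congr rfl fun g _ => ?_)
  rw [star_delta hM hmax hχ]
  by_cases hg : p ∣ orderOf g
  · simp [hg]
  · rw [if_neg hg, if_pos hg, mul_comm]

/-! ### Traces -/

theorem sum_mm_self (hM : IsPModular p M) {u : G} (hu : ∃ k, orderOf u = p ^ k)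
    {b : Set (IrrCharacter (Cen (Subgroup.zpowers u)))}
    (hb : IsBrauerPairOf p M B (Subgroup.zpowers u) b) :
    ∑ χ ∈ members B, mm p u b (χ : G → ℂ) (χ : G → ℂ) =
      (Nat.card (Cen (Subgroup.zpowers u)) : ℂ) * (blockRank p b : ℂ) := by
  rw [← BlockCyclicRank81.sum_blockSq_regular hM hb.1.2]
  simp only [mm]
  rw [Finset.sum_comm]
  refine Finset.sum_congr rfl fun s hs => ?_
  have h := sum_part_mul_induced (fun g => mem_cen_zp) hM hu
    (BlockCyclicRank81.induced_of_pairOf hM hb) (Finset.mem_filter.1 hs).2 (Finset.mem_filter.1 hs).2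
  rw [← Finset.sum_filter, filter_eq_members] at h
  rw [h]
  rfl

theorem trace_formula (hM : IsPModular p M) (hmax : IsMaximalBrauerPair p M B P c) (F : P → ℂ) :
    ∑ χ ∈ members B, A p M B c F χ χ = (Nat.card G : ℂ)⁻¹ *
      ∑ u ∈ Finset.univ.filter (fun u : G => ∃ k, orderOf u = p ^ k),
        ∑ b ∈ pairs p M B (Subgroup.zpowers u),
          zvp p M ⟨P, c⟩ (ext F) u ⟨_, b⟩ *
            ((Nat.card (Cen (Subgroup.zpowers u)) : ℂ) * (blockRank p b : ℂ)) := by
  rw [Finset.sum_congr rfl fun χ hχ => formula hM hmax F χ (mem_members.1 hχ), ← Finset.mul_sum,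
    Finset.sum_comm]
  refine congrArg _ (Finset.sum_congr rfl fun u hu => ?_)
  rw [Finset.sum_comm]
  refine Finset.sum_congr rfl fun b hb => ?_
  rw [← Finset.mul_sum, sum_mm_self hM (Finset.mem_filter.1 hu).2 (mem_pairs.mp hb)]

/-- The trace off the identity is the number of characters less the rank. -/
theorem trace_punctured (hM : IsPModular p M) (hmax : IsMaximalBrauerPair p M B P c) :
    ∑ χ ∈ members B, A p M B c (1 - delta P) χ χ = (Nat.card B : ℂ) - (blockRank p B : ℂ) := by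
  have hB := hmax.1.2.1
  set E := Finset.univ.filter (fun u : G => ∃ k, orderOf u = p ^ k) with hE
  have h1 : (1 : G) ∈ E := Finset.mem_filter.2 ⟨Finset.mem_univ _, 0, by simp⟩
  have hsum : ∑ u ∈ E, ∑ b ∈ pairs p M B (Subgroup.zpowers u),
      zvp p M ⟨P, c⟩ (ext (1 - delta P)) u ⟨_, b⟩ *
        ((Nat.card (Cen (Subgroup.zpowers u)) : ℂ) * (blockRank p b : ℂ)) =
      ((∑ u ∈ E.erase 1, Nat.card (Cen (Subgroup.zpowers u)) *
        ∑ b ∈ BlockCyclicRank81.subs M B u, blockRank p b : ℕ) : ℂ) := by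
    rw [← Finset.add_sum_erase _ _ h1, Finset.sum_eq_zero (s := pairs p M B _), zero_add,
      Nat.cast_sum]
    · refine Finset.sum_congr rfl fun u hu => ?_
      obtain ⟨hu1, hu'⟩ := Finset.mem_erase.1 hu
      rw [Nat.cast_mul, Nat.cast_sum, Finset.mul_sum, pairs_eq_subs hM u (Finset.mem_filter.1 hu').2]
      refine Finset.sum_congr rfl fun b hb => ?_
      rw [zvp_of_const hM hmax (c := 1) (fun g hg => ?_)
        (mem_pairs.mp ((pairs_eq_subs hM u (Finset.mem_filter.1 hu').2).symm ▸ hb)), one_mul]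
      rw [ext_of_mem _ hg, Pi.sub_apply, Pi.one_apply, delta, if_neg, sub_zero]
      exact fun h => hu1 (conj_eq_one_iff.1 (congrArg Subtype.val h))
    · intro b hb
      rw [zvp_of_const hM hmax (c := 0) (fun g hg => ?_) (mem_pairs.mp hb), zero_mul]
      rw [ext_of_mem _ hg, Pi.sub_apply, Pi.one_apply, delta, if_pos, sub_self]
      exact Subtype.ext (by simp)
  rw [trace_formula hM hmax, hsum]
  have h := congrArg (Nat.cast (R := ℂ)) (BlockCyclicRank81.card_eq hM hB)
  rw [Nat.cast_add, Nat.cast_mul, Nat.cast_mul] at h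
  have hG : (Nat.card G : ℂ) ≠ 0 := Nat.cast_ne_zero.2 Nat.card_pos.ne'
  rw [eq_sub_iff_add_eq]
  refine mul_left_cancel₀ hG ?_
  rw [mul_add, mul_inv_cancel_left₀ hG, h]
  ring

/-- The indicator of a set. -/
noncomputable def ind (S : Set P) : P → ℂ := fun x => if x ∈ S then 1 else 0

theorem ind_mul (S T : Set P) : ind S * ind T = ind (S ∩ T) := by
  funext x
  simp only [ind, Pi.mul_apply, Set.mem_inter_iff]
  by_cases h : x ∈ S <;> by_cases h' : x ∈ T <;> simp [h, h']

theorem conj_ind (S : Set P) : (fun x => conj (ind S x)) = ind S := by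
  funext x
  simp only [ind]
  split_ifs <;> simp

theorem exists_trace_eq_natCast {ι : Type*} [Fintype ι] [DecidableEq ι] (Q : Matrix ι ι ℂ)
    (h : Q * Q = Q) : ∃ n : ℕ, Q.trace = n := by
  have he : IsIdempotentElem (Matrix.toLin' Q) := by
    rw [IsIdempotentElem, Module.End.mul_eq_comp, ← Matrix.toLin'_mul, h]
  exact ⟨_, by rw [← Matrix.trace_toLin'_eq, (LinearMap.IsIdempotentElem.isProj_range _ he).trace]⟩

/-- The trace of an invariant indicator is a natural number. -/
theorem trace_ind (hM : IsPModular p M) (hmax : IsMaximalBrauerPair p M B P c)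
    (hab : ∀ x ∈ P, ∀ y ∈ P, x * y = y * x) {S : Set P} (hS : Inv c (ind S)) :
    ∃ n : ℕ, ∑ χ ∈ members B, A p M B c (ind S) χ χ = n := by
  obtain ⟨n, hn⟩ := exists_trace_eq_natCast
    (Matrix.of fun χ ψ : ↥(members B) => A p M B c (ind S) χ ψ) (by
      refine Matrix.ext fun χ ψ => ?_
      rw [Matrix.mul_apply]
      simp only [Matrix.of_apply]
      rw [Finset.sum_coe_sort (members B) (fun φ => A p M B c (ind S) χ φ * A p M B c (ind S) φ ψ),
        A_mul hM hmax hab hS _ (mem_members.1 ψ.2), ind_mul, Set.inter_self])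
  refine ⟨n, ?_⟩
  rw [← hn, Matrix.trace]
  exact (Finset.sum_coe_sort (members B) (fun φ => A p M B c (ind S) φ φ)).symm

/-- The trace of an indicator is positive at an element with a pair of positive rank. -/
theorem trace_ind_ne_zero (hM : IsPModular p M) (hmax : IsMaximalBrauerPair p M B P c)
    (hab : ∀ x ∈ P, ∀ y ∈ P, x * y = y * x) {S : Set P} (hS : Inv c (ind S)) {u : P} (hu : u ∈ S) :
    ∑ χ ∈ members B, A p M B c (ind S) χ χ ≠ 0 := by
  have hG : (Nat.card G : ℂ) ≠ 0 := Nat.cast_ne_zero.2 Nat.card_pos.ne'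
  have hz : ∀ (v : G) (a : BrauerPairIdx G), ∃ n : ℕ, zvp p M ⟨P, c⟩ (ext (ind S)) v a = n := by
    intro v a
    simp only [zvp, ext, ind]
    split_ifs <;> first | exact ⟨1, Nat.cast_one.symm⟩ | exact ⟨0, Nat.cast_zero.symm⟩
  choose n hn using hz
  obtain ⟨f, hf⟩ := exists_subpair hM hmax.1.1 (Subgroup.zpowers_le.2 u.2)
  have hpair := isBrauerPairOf_down hM hf hmax.1
  have hn1 : (n u ⟨_, f⟩ : ℂ) = 1 := by
    rw [← hn, zvp_below (stable_ext hM hmax hab hS) hf, ext_coe, ind, if_pos hu]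
  have hpu : (u : G) ∈ Finset.univ.filter (fun u : G => ∃ k, orderOf u = p ^ k) := by
    obtain ⟨k, hk⟩ := IsPGroup.iff_orderOf.mp hmax.1.1.1 u
    exact Finset.mem_filter.2 ⟨Finset.mem_univ _, k, by rw [← hk, Subgroup.orderOf_coe]⟩
  rw [trace_formula hM hmax, mul_ne_zero_iff]
  refine ⟨inv_ne_zero hG, ?_⟩
  simp only [hn, ← Nat.cast_mul, ← Nat.cast_sum, ne_eq, Nat.cast_eq_zero]
  intro h0
  have h1 := Finset.sum_eq_zero_iff.1 (Finset.sum_eq_zero_iff.1 h0 _ hpu) f (mem_pairs.mpr hpair)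
  have h2 := BlockCyclicRank81.blockRank_pos hM hpair.1.2
  have h3 : n u ⟨_, f⟩ = 1 := by exact_mod_cast hn1
  have h4 : 0 < Nat.card (Cen (Subgroup.zpowers (u : G))) := Nat.card_pos
  rw [h3, one_mul, mul_eq_zero] at h1
  omega

/-! ### The power twist -/

theorem wt_inv (F : P → ℂ) (u : G) :
    wt p M B ⟨P, c⟩ (ext F) u⁻¹ = pairSum p M B (Subgroup.zpowers u)
      fun a => zvp p M ⟨P, c⟩ (ext fun x => F x⁻¹) u a • eb (Cen a.1) a.2 := by
  rw [wt, Subgroup.zpowers_inv]
  refine congrArg _ (funext fun a => ?_)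
  congr 1
  simp only [zvp]
  split_ifs with h
  · set g := h.choose
    rw [show g * u⁻¹ * g⁻¹ = (g * u * g⁻¹)⁻¹ by group]
    simp only [ext, inv_mem_iff]
    split_ifs <;> rfl
  · rfl

/-- An exponent inverting the `p`-elements and fixing the `p'`-elements. -/
structure InvExp (p : ℕ) (G : Type*) [Group G] (k : ℕ) : Prop where
  coprime : k.Coprime (Nat.card G)
  inv : ∀ u : G, (∃ j, orderOf u = p ^ j) → u ^ k = u⁻¹
  fix : ∀ s : G, ¬ p ∣ orderOf s → s ^ k = s

theorem part_twist (hM : IsPModular p M) {k : ℕ} (hk : InvExp p G k) {u : G}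
    (hu : ∃ j, orderOf u = p ^ j) {b : Set (IrrCharacter (Cen (Subgroup.zpowers u)))}
    (hb : IsPBlock M b) (χ : IrrCharacter G) {s : Cen (Subgroup.zpowers u)}
    (hs : ¬ p ∣ orderOf s) :
    part u⁻¹ b (χ : G → ℂ) s = part u b (GaloisChar80.twist hk.coprime χ : G → ℂ) s := by
  simp only [part]
  refine congrArg _ (Finset.sum_congr rfl fun d _ => ?_)
  by_cases hd : p ∣ orderOf d
  · rw [show kern b s d = 0 from weak_orthogonality hM hb hs hd, mul_zero, mul_zero]
  · congr 1
    rw [GaloisChar80.twist_apply, (mem_cen_zp.mp d.2).mul_pow, hk.inv u hu,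
      hk.fix _ (by rwa [Subgroup.orderOf_coe])]

theorem star_twist (hM : IsPModular p M) {k : ℕ} (hk : InvExp p G k) (F : P → ℂ)
    (χ : IrrCharacter G) (x : G) :
    star p M B ⟨P, c⟩ (ext F) (χ : G → ℂ) (x ^ k) =
      star p M B ⟨P, c⟩ (ext fun y => F y⁻¹) (GaloisChar80.twist hk.coprime χ : G → ℂ) x := by
  obtain ⟨u, s, hu, hs, rfl⟩ := exists_section (p := p) x
  have hc : Commute u (s : G) := mem_cen_zp.mp s.2
  have hs' : ¬ p ∣ orderOf (s : G) := by rwa [Subgroup.orderOf_coe]
  rw [star_apply _ hu s hs, hc.mul_pow, hk.inv u hu, hk.fix _ hs', Star80Char.star,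
    pp_mul hc.inv_left (by simpa [orderOf_inv] using hu) hs', wt_inv, pairSum, Finset.mul_sum,
    map_sum]
  refine Finset.sum_congr rfl fun b hb => ?_
  rw [mul_smul_comm, map_smul, smul_eq_mul, chiSum_eb_eq_part
    (fun g => mem_cen_zp.trans Commute.inv_left_iff.symm), part_twist hM hk hu
    (mem_pairs.mp hb).1.2 χ hs]

theorem A_twist (hM : IsPModular p M) {k : ℕ} (hk : InvExp p G k) (F : P → ℂ)
    (χ ψ : IrrCharacter G) :
    A p M B c (fun y => F y⁻¹) (GaloisChar80.twist hk.coprime χ) (GaloisChar80.twist hk.coprime ψ) =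
      A p M B c F χ ψ := by
  simp only [A, classInner, ← star_twist hM hk, GaloisChar80.twist_apply]
  exact congrArg _ (Equiv.sum_comp (GaloisChar80.powPerm hk.coprime) fun g =>
    star p M B ⟨P, c⟩ (ext F) (χ : G → ℂ) g * conj ((ψ : G → ℂ) g))

theorem twist_mem (hM : IsPModular p M) (hB : IsPBlock M B) {k : ℕ} (hk : InvExp p G k)
    {χ : IrrCharacter G} (hχ : χ ∈ B) : GaloisChar80.twist hk.coprime χ ∈ B := by
  by_contra h
  have h0 := BlockContrib.pair_eq_zero hM hB hχ h
  have h1 : BlockContrib.pair p (χ : G → ℂ) (GaloisChar80.twist hk.coprime χ : G → ℂ) =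
      BlockContrib.pair p (χ : G → ℂ) (χ : G → ℂ) := by
    simp only [BlockContrib.pair, BlockContrib.regSum_eq]
    refine Finset.sum_congr rfl fun g _ => ?_
    split_ifs with hg
    · rfl
    · rw [GaloisChar80.twist_apply, hk.fix g hg]
  rw [h1, BlockContrib.pair_eq_contrib hM.1 χ hχ, mul_eq_zero] at h0
  rcases h0 with h0 | h0
  · exact BlockContrib.scale_ne_zero hM.1 B h0
  · exact (BlockContrib.contrib_self_pos hM.1 hχ).ne' (by exact_mod_cast h0)

end Cfsg.Agent.BlockStarMatrix9
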