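import Cfsg.Agent.Lib.BlockTheoryChains

/-!
Chains of `p`-subgroups fixed by a `p`-element `u` cancel in pairs, apart from `{⟨u⟩}`.
-/

set_option autoImplicit false

namespace Cfsg.Agent.BlockTheoryChainPairs

open Cfsg Cfsg.Agent.BlockTheoryLocalRing Cfsg.Agent.BlockTheoryCentre
open Cfsg.Agent.BlockTheoryIdem Cfsg.Agent.BlockTheoryBrauer Cfsg.Agent.BlockTheoryInduced
open Cfsg.Agent.BlockSubsections79 Cfsg.Agent.BrauerPairs81Base Cfsg.Agent.BlockTheoryChains
open Cfsg.Agent.BrauerPairs81Pairs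

attribute [local instance] Classical.propDecidable

set_option linter.unusedSectionVars false

universe u

variable {p : ℕ} {M : Ideal AlgInt} {G : Type u} [Group G] [Fintype G]

/-! ### The local value -/

/-- The order of `K` times the ranks of the blocks of `K` inducing `b`. -/
noncomputable def val (p : ℕ) (M : Ideal AlgInt) (b : Set (IrrCharacter G)) (K : Subgroup G) : ℤ :=
  (Nat.card K : ℤ) * ∑ β ∈ blks M K b, (blockRank p β : ℤ)

theorem sum_image_push {C : Type u} [Group C] {K : Subgroup G}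
    (e : C ≃* K) {b : Set (IrrCharacter G)} (T : Finset (Set (IrrCharacter C)))
    (h : ∀ β, β ∈ T ↔ IsInducedBlock M K (pushSet e β) b) :
    ∑ β ∈ T, (blockRank p β : ℤ) = ∑ γ ∈ blks M K b, (blockRank p γ : ℤ) := by
  have himg : blks M K b = T.image (pushSet e) := by
    refine Finset.ext fun γ => ?_
    rw [mem_blks, Finset.mem_image]
    constructor
    · exact fun hγ => ⟨pushSet e.symm γ, (h _).2 (by rwa [pushSet_symm]), pushSet_symm e γ⟩
    · rintro ⟨β, hβ, rfl⟩; exact (h β).1 hβ
  rw [himg, Finset.sum_image fun β _ γ _ hh => pushSet_injective e hh]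
  exact Finset.sum_congr rfl fun β _ => by rw [blockRank_push]

theorem val_conj (hM : IsPModular p M) (b : Set (IrrCharacter G)) (g : G) (K K' : Subgroup G)
    (h : ∀ x, x ∈ K ↔ g * x * g⁻¹ ∈ K') : val p M b K = val p M b K' := by
  let e : K ≃* K' := conjEquiv g K K' h
  rw [val, val, Nat.card_congr e.toEquiv]
  congr 1
  refine sum_image_push e _ fun β => ?_
  have key : ∀ (ξ : IrrCharacter K) (a : G),
      omega (pushChar e ξ : K' → ℂ) (res K' (classSum a)) =
        omega (ξ : K → ℂ) (res K (classSum a)) := by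
    intro ξ a
    rw [omega_push e, omega_eq_finsum]
    refine Finset.sum_congr rfl fun c _ => ?_
    rw [coeff_res]
    congr 1
    exact isCen_classSum a (c : G) g
  rw [mem_blks, induced_iff, induced_iff]
  constructor
  · rintro ⟨h1, h2, h3⟩
    refine ⟨isPBlock_push e h1, h2, ?_⟩
    rintro _ ⟨ξ, hξ, rfl⟩ χ hχ a
    rw [key]; exact h3 ξ hξ χ hχ a
  · rintro ⟨h1, h2, h3⟩
    refine ⟨?_, h2, fun ξ hξ χ hχ a => ?_⟩
    · obtain ⟨ξ', hξ'⟩ := block_nonempty hM h1
      obtain ⟨ξ, hξ, rfl⟩ := hξ'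
      refine ⟨ξ, Set.ext fun η => ?_⟩
      have hb := eq_blockOf_of_mem hM h1 ⟨ξ, hξ, rfl⟩
      refine ((pushChar e).injective.mem_set_image (s := β)).symm.trans ?_
      show pushChar e η ∈ pushSet e β ↔ _
      rw [hb]
      exact sameBlock_push e ξ η
    · rw [← key]; exact h3 _ ⟨ξ, hξ, rfl⟩ χ hχ a

theorem val_local (hM : IsPModular p M) {b : Set (IrrCharacter G)} (H : Subgroup G) (u : H)
    (hu : IsPEl1 p u) :
    val p M b (Subgroup.centralizer ({(u : G)} : Set G) ⊓ H) =
      (Nat.card (Subgroup.centralizer ({u} : Set H)) : ℤ) *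
        ∑ β ∈ blks M H b, ∑ β' ∈ blks M (Subgroup.centralizer ({u} : Set H)) β,
          (blockRank p β' : ℤ) := by
  let e : (Subgroup.centralizer ({u} : Set H)) ≃*
      (Subgroup.centralizer ({(u : G)} : Set G) ⊓ H : Subgroup G) :=
    { toFun := fun x => ⟨((x : H) : G), Subgroup.mem_centralizer_singleton_iff.mpr
        (congrArg Subtype.val (Subgroup.mem_centralizer_singleton_iff.mp x.2)), (x : H).2⟩
      invFun := fun y => ⟨⟨y, y.2.2⟩, Subgroup.mem_centralizer_singleton_iff.mpr
        (Subtype.ext (Subgroup.mem_centralizer_singleton_iff.mp y.2.1))⟩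
      left_inv := fun _ => rfl
      right_inv := fun _ => rfl
      map_mul' := fun _ _ => rfl }
  have hdisj : (↑(blks M H b) : Set (Set (IrrCharacter H))).PairwiseDisjoint
      fun β => blks M (Subgroup.centralizer ({u} : Set H)) β := by
    intro β _ γ _ hne
    refine Finset.disjoint_left.mpr fun β' h1 h2 => hne ?_
    exact inducedBlock_unique _ hM (mem_blks.1 h1) (mem_blks.1 h2)
  rw [val, ← Finset.sum_biUnion hdisj, Nat.card_congr e.toEquiv]
  congr 1
  refine (sum_image_push e _ fun β' => ?_).symm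
  have key : ∀ (ξ : IrrCharacter (Subgroup.centralizer ({u} : Set H))) (a : G),
      omega (pushChar e ξ : _ → ℂ)
          (res (Subgroup.centralizer ({(u : G)} : Set G) ⊓ H) (classSum a)) =
        omega (ξ : _ → ℂ) (res (Subgroup.centralizer ({u} : Set H)) (res H (classSum a))) := by
    intro ξ a
    rw [omega_push e, omega_eq_finsum]
    refine Finset.sum_congr rfl fun c _ => ?_
    rfl
  simp only [Finset.mem_biUnion, mem_blks]
  constructor
  · rintro ⟨β, hβ, hβ'⟩
    refine (induced_iff _ _).2 ⟨isPBlock_push e hβ'.1, hβ.2.1, ?_⟩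
    rintro _ ⟨ξ, hξ, rfl⟩ χ hχ a
    obtain ⟨η, hη⟩ := block_nonempty hM hβ.1
    have h1 := inducedBlock_congr _ hM hβ' hξ hη (isCen_res H (isCen_classSum a))
      (isInt_res H (isInt_classSum hM a))
    have h2 := inducedBlock_congr H hM hβ hη hχ (isCen_classSum a) (isInt_classSum hM a)
    rw [key]
    exact cast (congrArg (MemLocalIdeal M) (by ring)) (ideal_add hM h1 h2)
  · intro h
    have hb' : IsPBlock M β' := by
      have h' := isPBlock_push e.symm h.1
      have := pushSet_symm e.symm β'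
      simp only [MulEquiv.symm_symm] at this
      rwa [this] at h'
    obtain ⟨β, hβ'⟩ := inducedBlockDefined_centralizer hM hu.2 hb'
    refine ⟨β, (induced_iff _ _).2 ⟨hβ'.2.1, h.2.1, fun η hη χ hχ a => ?_⟩, hβ'⟩
    obtain ⟨ξ, hξ⟩ := block_nonempty hM hb'
    have h1 := inducedBlock_congr _ hM hβ' hξ hη (isCen_res H (isCen_classSum a))
      (isInt_res H (isInt_classSum hM a))
    have h2 := ((induced_iff _ _).1 h).2.2 _ ⟨ξ, hξ, rfl⟩ χ hχ a
    rw [key] at h2
    exact cast (congrArg (MemLocalIdeal M) (by ring)) (ideal_sub hM h2 h1)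

/-- `k - l` of the blocks of `H` inducing `b`. -/
theorem card_mul_sub_sub (hM : IsPModular p M) {b : Set (IrrCharacter G)} (H : Subgroup G) :
    (Nat.card H : ℤ) *
      ((Nat.card (unionOf (blks M H b)) : ℤ) - (blockRank p (unionOf (blks M H b)) : ℤ)) =
      ∑ u ∈ Finset.univ.filter (fun u : G => IsPEl1 p u ∧ u ∈ H),
        val p M b (Subgroup.centralizer ({u} : Set G) ⊓ H) := by
  have hiff : ∀ u : H, IsPEl1 p u ↔ IsPEl1 p (u : G) := fun u => by
    simp only [IsPEl1, Subgroup.orderOf_coe, ne_eq, OneMemClass.coe_eq_one]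
  rw [card_mul_sub hM (blks M H b) (fun β hβ => (mem_blks.1 hβ).1)
    (fun u : H => val p M b (Subgroup.centralizer ({(u : G)} : Set G) ⊓ H)) ?_
    (fun u hu => val_local hM H u hu)]
  · refine Finset.sum_bij (fun (u : H) _ => (u : G)) ?_ ?_ ?_ (fun _ _ => rfl)
    · intro u hu
      exact Finset.mem_filter.2 ⟨Finset.mem_univ _, (hiff u).1 (Finset.mem_filter.1 hu).2, u.2⟩
    · exact fun a _ c _ h => Subtype.ext h
    · intro u hu
      obtain ⟨h1, h2⟩ := (Finset.mem_filter.1 hu).2
      exact ⟨⟨u, h2⟩, Finset.mem_filter.2 ⟨Finset.mem_univ _, (hiff ⟨u, h2⟩).2 h1⟩, rfl⟩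
  · intro c g
    refine (val_conj hM b (c : G) _ _ fun x => ?_).symm
    simp only [Subgroup.mem_inf, Subgroup.mem_centralizer_singleton_iff, Subgroup.coe_mul,
      Subgroup.coe_inv]
    refine and_congr ⟨fun h => ?_, fun h => ?_⟩ ⟨fun h => ?_, fun h => ?_⟩
    · calc (c : G) * x * (c : G)⁻¹ * ((c : G) * g * (c : G)⁻¹) = c * (x * g) * (c : G)⁻¹ := by group
        _ = c * (g * x) * (c : G)⁻¹ := by rw [h]
        _ = _ := by group
    · refine mul_left_cancel (a := (c : G)) (mul_right_cancel (b := (c : G)⁻¹) ?_)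
      calc (c : G) * (x * g) * (c : G)⁻¹ = c * x * (c : G)⁻¹ * (c * g * (c : G)⁻¹) := by group
        _ = c * g * (c : G)⁻¹ * (c * x * (c : G)⁻¹) := h
        _ = _ := by group
    · exact H.mul_mem (H.mul_mem c.2 h) (H.inv_mem c.2)
    · simpa [mul_assoc] using H.mul_mem (H.mul_mem (H.inv_mem c.2) h) c.2

/-! ### Chains -/

/-- A non-empty chain of non-trivial `p`-subgroups, all normal in the largest one. -/
def IsChainOf (p : ℕ) (s : Finset (Subgroup G)) : Prop :=
  s.Nonempty ∧ (∀ Q ∈ s, ∀ R ∈ s, Q ≤ R ∨ R ≤ Q) ∧ (∀ Q ∈ s, Q ≠ ⊥ ∧ IsPGroup p Q) ∧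
    ∃ T ∈ s, ∀ Q ∈ s, Q ≤ T ∧ T ≤ Subgroup.normalizer ((Q : Subgroup G) : Set G)

/-- The stabiliser of a chain. -/
def stab (s : Finset (Subgroup G)) : Subgroup G :=
  ⨅ Q ∈ s, Subgroup.normalizer ((Q : Subgroup G) : Set G)

theorem mem_stab {s : Finset (Subgroup G)} {x : G} :
    x ∈ stab s ↔ ∀ Q ∈ s, x ∈ Subgroup.normalizer ((Q : Subgroup G) : Set G) := by
  simp [stab, Subgroup.mem_iInf]

/-- The largest member avoiding `u`. -/
noncomputable def lower (u : G) (s : Finset (Subgroup G)) : Subgroup G :=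
  (s.filter fun Q => u ∉ Q).sup id

/-- The largest member with `u` adjoined. -/
noncomputable def upper (u : G) (s : Finset (Subgroup G)) : Subgroup G :=
  s.sup id ⊔ Subgroup.zpowers u

/-- The subgroup generated by the conjugates of `u` under a subgroup. -/
def conjClosure (u : G) (T : Subgroup G) : Subgroup G :=
  Subgroup.closure {x | ∃ t ∈ T, t * u * t⁻¹ = x}

/-- The subgroup to insert or remove. -/
noncomputable def pivot (u : G) (s : Finset (Subgroup G)) : Subgroup G :=
  lower u s ⊔ conjClosure u (upper u s)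

theorem mem_conjClosure_self (u : G) (T : Subgroup G) : u ∈ conjClosure u T :=
  Subgroup.subset_closure ⟨1, T.one_mem, by simp⟩

theorem mem_normalizer_iff_map {K : Subgroup G} {x : G} :
    x ∈ Subgroup.normalizer (K : Set G) ↔ K.map (MulAut.conj x).toMonoidHom = K := by
  constructor
  · intro hx
    ext y
    constructor
    · rintro ⟨a, ha, rfl⟩; exact (Subgroup.mem_normalizer_iff.1 hx a).1 ha
    · intro hy
      exact ⟨x⁻¹ * y * x, (Subgroup.mem_normalizer_iff.1 hx _).2 (by simpa [mul_assoc] using hy),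
        by simp [mul_assoc]⟩
  · intro h
    refine Subgroup.mem_normalizer_iff.2 fun a => ⟨fun ha => h ▸ ⟨a, ha, rfl⟩, fun ha => ?_⟩
    rw [← h] at ha
    obtain ⟨c, hc, hca⟩ := ha
    have : c = a := by simpa using hca
    rwa [← this]

theorem mem_normalizer_sup {A B : Subgroup G} {x : G} (hA : x ∈ Subgroup.normalizer (A : Set G))
    (hB : x ∈ Subgroup.normalizer (B : Set G)) :
    x ∈ Subgroup.normalizer ((A ⊔ B : Subgroup G) : Set G) := by
  rw [mem_normalizer_iff_map] at *
  rw [Subgroup.map_sup, hA, hB]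

theorem mem_normalizer_finsetSup {s : Finset (Subgroup G)} {x : G}
    (h : ∀ Q ∈ s, x ∈ Subgroup.normalizer ((Q : Subgroup G) : Set G)) :
    x ∈ Subgroup.normalizer ((s.sup id : Subgroup G) : Set G) := by
  induction s using Finset.induction with
  | empty =>
    rw [Finset.sup_empty, mem_normalizer_iff_map, Subgroup.map_bot]
  | @insert Q s hQ ih =>
    rw [Finset.sup_insert, id]
    exact mem_normalizer_sup (h Q (Finset.mem_insert_self _ _))
      (ih fun R hR => h R (Finset.mem_insert_of_mem hR))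

theorem mem_normalizer_conjClosure {T : Subgroup G} {u x : G}
    (hT : x ∈ Subgroup.normalizer (T : Set G)) (hu : x * u * x⁻¹ ∈ {y | ∃ t ∈ T, t * u * t⁻¹ = y}) :
    x ∈ Subgroup.normalizer (conjClosure u T : Set G) := by
  obtain ⟨t₀, ht₀, he⟩ := hu
  rw [mem_normalizer_iff_map, conjClosure, MonoidHom.map_closure]
  congr 1
  ext y
  constructor
  · rintro ⟨_, ⟨t, ht, rfl⟩, rfl⟩
    refine ⟨x * t * x⁻¹ * t₀, T.mul_mem ((Subgroup.mem_normalizer_iff.1 hT t).1 ht) ht₀, ?_⟩
    show _ = MulAut.conj x (t * u * t⁻¹)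
    rw [MulAut.conj_apply,
      show x * (t * u * t⁻¹) * x⁻¹ = x * t * x⁻¹ * (x * u * x⁻¹) * (x * t * x⁻¹)⁻¹ by group, ← he]
    group
  · rintro ⟨t, ht, rfl⟩
    refine ⟨_, ⟨x⁻¹ * (t * t₀⁻¹) * x, ?_, rfl⟩, ?_⟩
    · refine (Subgroup.mem_normalizer_iff.1 hT _).2 ?_
      simpa [mul_assoc] using T.mul_mem ht (T.inv_mem ht₀)
    · show MulAut.conj x _ = t * u * t⁻¹
      rw [MulAut.conj_apply,
        show x * (x⁻¹ * (t * t₀⁻¹) * x * u * (x⁻¹ * (t * t₀⁻¹) * x)⁻¹) * x⁻¹ =
          t * t₀⁻¹ * (x * u * x⁻¹) * t₀ * t⁻¹ by group, ← he]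
      group

theorem mem_normalizer_conjClosure_of_mem {T : Subgroup G} {u x : G} (hx : x ∈ T) :
    x ∈ Subgroup.normalizer (conjClosure u T : Set G) :=
  mem_normalizer_conjClosure (Subgroup.le_normalizer hx) ⟨x, hx, rfl⟩

theorem conjClosure_le {u : G} {T K : Subgroup G} (hu : u ∈ K)
    (hK : T ≤ Subgroup.normalizer (K : Set G)) : conjClosure u T ≤ K := by
  refine (Subgroup.closure_le K).2 ?_
  rintro _ ⟨t, ht, rfl⟩
  exact (Subgroup.mem_normalizer_iff.1 (hK ht) u).1 hu

/-- A `p`-group generated by a normal subgroup and the conjugates of one element is generated by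
the subgroup and the element. -/
theorem sup_zpowers_eq [Fact p.Prime] {J T : Subgroup G} {u : G} (hT : IsPGroup p T) (hu : u ∈ T)
    (he : T = J ⊔ conjClosure u T) : J ⊔ Subgroup.zpowers u = T := by
  have hJT : J ≤ T := by rw [he]; exact le_sup_left
  have hle : J ⊔ Subgroup.zpowers u ≤ T := sup_le hJT (Subgroup.zpowers_le.2 hu)
  by_contra hne
  have hV : (J ⊔ Subgroup.zpowers u).subgroupOf T ≠ ⊤ := fun h =>
    hne (le_antisymm hle (Subgroup.subgroupOf_eq_top.1 h))
  haveI : Group.IsNilpotent T := hT.isNilpotent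
  obtain ⟨m, hm, hVm⟩ := (eq_top_or_exists_le_coatom _).resolve_left hV
  have hmn : m.Normal :=
    Subgroup.NormalizerCondition.normal_of_coatom _ normalizerCondition_of_isNilpotent hm
  refine hm.1 (eq_top_iff.2 fun x _ => ?_)
  have h1 : T ≤ m.map T.subtype := by
    refine le_trans (le_of_eq he) (sup_le (fun y hy => ?_) ((Subgroup.closure_le _).2 ?_))
    · exact ⟨⟨y, hJT hy⟩, hVm (Subgroup.mem_subgroupOf.2 (Subgroup.mem_sup_left hy)), rfl⟩
    · rintro _ ⟨t, ht, rfl⟩
      exact ⟨⟨t, ht⟩ * ⟨u, hu⟩ * ⟨t, ht⟩⁻¹, hmn.conj_mem _ (hVm (Subgroup.mem_subgroupOf.2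
        (Subgroup.mem_sup_right (Subgroup.mem_zpowers u)))) _, rfl⟩
  obtain ⟨z, hz, hzx⟩ := h1 x.2
  exact Subtype.ext (show (z : G) = x from hzx) ▸ hz

variable {u : G} {s : Finset (Subgroup G)}

theorem sup_eq_top_member {T : Subgroup G} (hT : T ∈ s) (hle : ∀ Q ∈ s, Q ≤ T) : s.sup id = T :=
  le_antisymm (Finset.sup_le hle) (Finset.le_sup (f := id) hT)

theorem lower_mem_or_bot (hc : ∀ Q ∈ s, ∀ R ∈ s, Q ≤ R ∨ R ≤ Q) :
    (lower u s ∈ s ∧ u ∉ lower u s) ∨ lower u s = ⊥ := by
  rcases (s.filter fun Q => u ∉ Q).eq_empty_or_nonempty with h | h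
  · exact Or.inr (by rw [lower, h, Finset.sup_empty])
  · obtain ⟨Q, hQ, hmax⟩ := Finset.exists_maximal h
    have e : lower u s = Q := sup_eq_top_member hQ fun R hR => by
      rcases hc R (Finset.mem_filter.1 hR).1 Q (Finset.mem_filter.1 hQ).1 with h' | h'
      · exact h'
      · exact hmax hR h'
    exact Or.inl ⟨e ▸ (Finset.mem_filter.1 hQ).1, e ▸ (Finset.mem_filter.1 hQ).2⟩

theorem le_lower {Q : Subgroup G} (hQ : Q ∈ s) (hu : u ∉ Q) : Q ≤ lower u s :=
  Finset.le_sup (f := id) (Finset.mem_filter.2 ⟨hQ, hu⟩)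

theorem mem_pivot : u ∈ pivot u s := Subgroup.mem_sup_right (mem_conjClosure_self u _)

theorem lower_insert {R : Subgroup G} (hR : u ∈ R) : lower u (insert R s) = lower u s := by
  rw [lower, Finset.filter_insert, if_neg (by simpa using hR), lower]

theorem lower_le_upper : lower u s ≤ upper u s :=
  le_sup_of_le_left (Finset.sup_mono (Finset.filter_subset _ _))

theorem pivot_le_upper : pivot u s ≤ upper u s := by
  refine sup_le lower_le_upper (conjClosure_le ?_ Subgroup.le_normalizer)
  exact Subgroup.mem_sup_right (Subgroup.mem_zpowers u)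

variable (hs : IsChainOf p s) (hu : u ∈ stab s)

include hs hu in
theorem upper_le_normalizer {Q : Subgroup G} (hQ : Q ∈ s) :
    upper u s ≤ Subgroup.normalizer ((Q : Subgroup G) : Set G) := by
  obtain ⟨T, hT, hall⟩ := hs.2.2.2
  rw [upper, sup_eq_top_member hT fun R hR => (hall R hR).1]
  exact sup_le (hall Q hQ).2 (Subgroup.zpowers_le.2 (mem_stab.1 hu Q hQ))

include hs hu in
theorem mem_normalizer_lower {x : G} (hx : x ∈ upper u s) :
    x ∈ Subgroup.normalizer (lower u s : Set G) := by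
  rcases lower_mem_or_bot (u := u) hs.2.1 with ⟨h, -⟩ | h
  · exact upper_le_normalizer hs hu h hx
  · rw [h, mem_normalizer_iff_map, Subgroup.map_bot]

variable (hp : IsPEl1 p u)

include hs hu hp in
theorem isPGroup_upper [Fact p.Prime] : IsPGroup p (upper u s) := by
  obtain ⟨T, hT, hall⟩ := hs.2.2.2
  rw [upper, sup_eq_top_member hT fun R hR => (hall R hR).1]
  obtain ⟨k, hk⟩ := hp.2
  refine IsPGroup.to_sup_of_normal_left' (hs.2.2.1 T hT).2
    (IsPGroup.of_card (n := k) (by rw [Nat.card_zpowers, hk])) ?_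
  exact Subgroup.zpowers_le.2 (mem_stab.1 hu T hT)

include hs hu in
/-- The pivot lies below every member containing `u`. -/
theorem pivot_le {Q : Subgroup G} (hQ : Q ∈ s) (huQ : u ∈ Q) : pivot u s ≤ Q := by
  refine sup_le (Finset.sup_le fun R hR => ?_) (conjClosure_le huQ (upper_le_normalizer hs hu hQ))
  obtain ⟨hRs, huR⟩ := Finset.mem_filter.1 hR
  exact (hs.2.1 R hRs Q hQ).resolve_right fun h => huR (h huQ)

include hs hu in
theorem upper_insert : upper u (insert (pivot u s) s) = upper u s := by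
  rw [upper, Finset.sup_insert, id, upper, sup_assoc]
  exact sup_eq_right.2 pivot_le_upper

include hs hu in
theorem pivot_insert : pivot u (insert (pivot u s) s) = pivot u s := by
  rw [pivot, lower_insert mem_pivot, upper_insert hs hu]
  rfl

include hs hu hp in
theorem isChainOf_insert [Fact p.Prime] : IsChainOf p (insert (pivot u s) s) := by
  have hP : IsPGroup p (pivot u s) := (isPGroup_upper hs hu hp).to_le pivot_le_upper
  refine ⟨Finset.insert_nonempty _ _, ?_, ?_, ?_⟩
  · have key : ∀ Q ∈ s, Q ≤ pivot u s ∨ pivot u s ≤ Q := fun Q hQ => by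
      by_cases h : u ∈ Q
      · exact Or.inr (pivot_le hs hu hQ h)
      · exact Or.inl ((le_lower hQ h).trans le_sup_left)
    intro Q hQ R hR
    rcases Finset.mem_insert.1 hQ with rfl | hQ <;> rcases Finset.mem_insert.1 hR with rfl | hR
    · exact Or.inl le_rfl
    · exact (key R hR).symm
    · exact key Q hQ
    · exact hs.2.1 Q hQ R hR
  · intro Q hQ
    rcases Finset.mem_insert.1 hQ with rfl | hQ
    · exact ⟨fun h => hp.1 ((Subgroup.eq_bot_iff_forall _).1 h u mem_pivot), hP⟩
    · exact hs.2.2.1 Q hQ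
  · obtain ⟨T, hT, hall⟩ := hs.2.2.2
    have hup : upper u s = T ⊔ Subgroup.zpowers u := by
      rw [upper, sup_eq_top_member hT fun R hR => (hall R hR).1]
    have hpiv : upper u s ≤ Subgroup.normalizer (pivot u s : Set G) := fun x hx =>
      mem_normalizer_sup (mem_normalizer_lower hs hu hx) (mem_normalizer_conjClosure_of_mem hx)
    by_cases huT : u ∈ T
    · have he : upper u s = T := by rw [hup]; exact sup_eq_left.2 (Subgroup.zpowers_le.2 huT)
      refine ⟨T, Finset.mem_insert_of_mem hT, fun Q hQ => ?_⟩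
      rcases Finset.mem_insert.1 hQ with rfl | hQ
      · exact ⟨pivot_le hs hu hT huT, he ▸ hpiv⟩
      · exact hall Q hQ
    · have hlow : lower u s = T := le_antisymm
        (Finset.sup_le fun R hR => (hall R (Finset.mem_filter.1 hR).1).1) (le_lower hT huT)
      have he : pivot u s = upper u s := le_antisymm pivot_le_upper (by
        rw [hup]
        exact sup_le (hlow ▸ le_sup_left) (Subgroup.zpowers_le.2 mem_pivot))
      refine ⟨pivot u s, Finset.mem_insert_self _ _, fun Q hQ => ?_⟩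
      rcases Finset.mem_insert.1 hQ with rfl | hQ
      · exact ⟨le_rfl, Subgroup.le_normalizer⟩
      · exact ⟨((hall Q hQ).1.trans (hlow ▸ le_sup_left)),
          pivot_le_upper.trans (upper_le_normalizer hs hu hQ)⟩

include hs hu in
theorem mem_stab_insert : u ∈ stab (insert (pivot u s) s) := by
  refine mem_stab.2 fun Q hQ => ?_
  rcases Finset.mem_insert.1 hQ with rfl | hQ
  · exact Subgroup.le_normalizer mem_pivot
  · exact mem_stab.1 hu Q hQ

include hs hu in
theorem stab_insert :
    Subgroup.centralizer ({u} : Set G) ⊓ stab (insert (pivot u s) s) =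
      Subgroup.centralizer ({u} : Set G) ⊓ stab s := by
  refine le_antisymm (fun x hx => ⟨hx.1, mem_stab.2 fun Q hQ =>
    mem_stab.1 hx.2 Q (Finset.mem_insert_of_mem hQ)⟩) fun x hx => ⟨hx.1, mem_stab.2 fun Q hQ => ?_⟩
  rcases Finset.mem_insert.1 hQ with rfl | hQ
  swap
  · exact mem_stab.1 hx.2 Q hQ
  have hc : x * u * x⁻¹ = u := by
    rw [Subgroup.mem_centralizer_singleton_iff.1 hx.1, mul_inv_cancel_right]
  have hup : x ∈ Subgroup.normalizer (upper u s : Set G) := by
    refine mem_normalizer_sup (mem_normalizer_finsetSup fun Q hQ => mem_stab.1 hx.2 Q hQ) ?_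
    rw [mem_normalizer_iff_map, MonoidHom.map_zpowers]
    exact congrArg Subgroup.zpowers hc
  refine mem_normalizer_sup
    (mem_normalizer_finsetSup fun Q hQ => mem_stab.1 hx.2 Q (Finset.mem_filter.1 hQ).1)
    (mem_normalizer_conjClosure hup ?_)
  exact ⟨1, (upper u s).one_mem, by simp [hc]⟩

include hs hu hp in
/-- Removing the pivot leaves a chain with the same pivot, unless the chain is `{⟨u⟩}`. -/
theorem erase_spec [Fact p.Prime] (hne : s ≠ {Subgroup.zpowers u}) (hR : pivot u s ∈ s) :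
    IsChainOf p (s.erase (pivot u s)) ∧ u ∈ stab (s.erase (pivot u s)) ∧
      pivot u (s.erase (pivot u s)) = pivot u s := by
  obtain ⟨T, hT, hall⟩ := hs.2.2.2
  set R := pivot u s with hRdef
  have hstab : u ∈ stab (s.erase R) :=
    mem_stab.2 fun Q hQ => mem_stab.1 hu Q (Finset.mem_of_mem_erase hQ)
  have hup : upper u s = T ⊔ Subgroup.zpowers u := by
    rw [upper, sup_eq_top_member hT fun R hR => (hall R hR).1]
  have hlow : lower u (s.erase R) = lower u s := by
    conv_rhs => rw [← Finset.insert_erase hR, lower_insert (hRdef ▸ mem_pivot)]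
  have huT : u ∈ T := (hall R hR).1 (hRdef ▸ mem_pivot)
  have huTe : upper u s = T := by rw [hup]; exact sup_eq_left.2 (Subgroup.zpowers_le.2 huT)
  have main : ∃ T' ∈ s.erase R, (∀ Q ∈ s.erase R, Q ≤ T' ∧
      T' ≤ Subgroup.normalizer ((Q : Subgroup G) : Set G)) ∧ T' ⊔ Subgroup.zpowers u = T := by
    by_cases hRT : R = T
    · have he : lower u s ⊔ Subgroup.zpowers u = T :=
        sup_zpowers_eq (p := p) (hs.2.2.1 T hT).2 huT (by
          rw [← huTe]; exact (huTe.trans hRT.symm).trans hRdef)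
      rcases lower_mem_or_bot (u := u) hs.2.1 with ⟨hL, huL⟩ | hL
      · refine ⟨lower u s, Finset.mem_erase.2 ⟨fun h => huL (h ▸ hRdef ▸ mem_pivot), hL⟩,
          fun Q hQ => ?_, he⟩
        obtain ⟨hQR, hQs⟩ := Finset.mem_erase.1 hQ
        have huQ : u ∉ Q := fun h =>
          hQR (le_antisymm (hRT ▸ (hall Q hQs).1) (hRdef ▸ pivot_le hs hu hQs h))
        exact ⟨le_lower hQs huQ, (hall _ hL).1.trans (hall Q hQs).2⟩
      · exfalso
        refine hne (Finset.eq_singleton_iff_unique_mem.2 ?_)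
        rw [hL, bot_sup_eq] at he
        refine ⟨he ▸ hT, fun Q hQ => ?_⟩
        have huQ : u ∈ Q := by
          by_contra h
          exact (hs.2.2.1 Q hQ).1 (le_bot_iff.1 (hL ▸ le_lower hQ h))
        exact le_antisymm (he ▸ (hall Q hQ).1) (Subgroup.zpowers_le.2 huQ)
    · exact ⟨T, Finset.mem_erase.2 ⟨Ne.symm hRT, hT⟩,
        fun Q hQ => hall Q (Finset.mem_of_mem_erase hQ),
        sup_eq_left.2 (Subgroup.zpowers_le.2 huT)⟩
  obtain ⟨T', hT', hall', he'⟩ := main
  refine ⟨⟨⟨T', hT'⟩, fun Q hQ Q' hQ' =>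
    hs.2.1 Q (Finset.mem_of_mem_erase hQ) Q' (Finset.mem_of_mem_erase hQ'),
    fun Q hQ => hs.2.2.1 Q (Finset.mem_of_mem_erase hQ), T', hT', hall'⟩, hstab, ?_⟩
  rw [pivot, hlow, upper, sup_eq_top_member hT' fun Q hQ => (hall' Q hQ).1, he', hRdef, pivot,
    huTe]

theorem pivot_singleton (hp : IsPEl1 p u) :
    pivot u ({Subgroup.zpowers u} : Finset (Subgroup G)) = Subgroup.zpowers u := by
  rw [pivot, lower, upper, Finset.sup_singleton, id, sup_idem, Finset.filter_singleton,
    if_neg (by simp), Finset.sup_empty, bot_sup_eq]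
  exact le_antisymm (conjClosure_le (Subgroup.mem_zpowers u) Subgroup.le_normalizer)
    (Subgroup.zpowers_le.2 (mem_conjClosure_self u _))

/-- Insert or remove the pivot. -/
noncomputable def toggle (u : G) (s : Finset (Subgroup G)) : Finset (Subgroup G) :=
  if pivot u s ∈ s then s.erase (pivot u s) else insert (pivot u s) s

/-- The signed value of a chain at `u`. -/
noncomputable def term (f : Subgroup G → ℤ) (u : G) (s : Finset (Subgroup G)) : ℤ :=
  (-1) ^ (s.card - 1) * f (Subgroup.centralizer ({u} : Set G) ⊓ stab s)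

/-- All chains fixed by `u` cancel, except `{⟨u⟩}`. -/
theorem sum_term [Fact p.Prime] (hp : IsPEl1 p u) (f : Subgroup G → ℤ) :
    ∑ s ∈ Finset.univ.filter (fun s : Finset (Subgroup G) => IsChainOf p s ∧ u ∈ stab s),
        term f u s = f (Subgroup.centralizer ({u} : Set G)) := by
  set S := Finset.univ.filter (fun s : Finset (Subgroup G) => IsChainOf p s ∧ u ∈ stab s)
  set s0 : Finset (Subgroup G) := {Subgroup.zpowers u} with hs0
  have hS : ∀ {s}, s ∈ S ↔ IsChainOf p s ∧ u ∈ stab s := by simp [S]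
  have h0 : s0 ∈ S := by
    obtain ⟨k, hk⟩ := hp.2
    refine hS.2 ⟨⟨Finset.singleton_nonempty _, ?_, ?_, _, Finset.mem_singleton_self _, ?_⟩,
      mem_stab.2 ?_⟩
    · intro Q hQ R hR
      rw [Finset.mem_singleton.1 hQ, Finset.mem_singleton.1 hR]; exact Or.inl le_rfl
    · intro Q hQ
      rw [Finset.mem_singleton.1 hQ]
      exact ⟨fun h => hp.1 (Subgroup.zpowers_eq_bot.1 h),
        IsPGroup.of_card (n := k) (by rw [Nat.card_zpowers, hk])⟩
    · intro Q hQ
      rw [Finset.mem_singleton.1 hQ]; exact ⟨le_rfl, Subgroup.le_normalizer⟩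
    · intro Q hQ
      rw [Finset.mem_singleton.1 hQ]
      exact Subgroup.le_normalizer (Subgroup.mem_zpowers u)
  rw [← Finset.insert_erase h0, Finset.sum_insert (Finset.notMem_erase _ _)]
  have hval : term f u s0 = f (Subgroup.centralizer ({u} : Set G)) := by
    rw [term, hs0, Finset.card_singleton, Nat.sub_self, pow_zero, one_mul]
    congr 1
    refine inf_eq_left.2 fun x hx => mem_stab.2 fun Q hQ => ?_
    rw [Finset.mem_singleton.1 hQ, mem_normalizer_iff_map, MonoidHom.map_zpowers]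
    refine congrArg Subgroup.zpowers ?_
    show x * u * x⁻¹ = u
    rw [Subgroup.mem_centralizer_singleton_iff.1 hx, mul_inv_cancel_right]
  rw [hval, add_eq_left]
  have htog : ∀ s ∈ S.erase s0, toggle u s ∈ S.erase s0 ∧ toggle u (toggle u s) = s ∧
      toggle u s ≠ s ∧ term f u s + term f u (toggle u s) = 0 := by
    intro s hs
    obtain ⟨hne, hsS⟩ := Finset.mem_erase.1 hs
    obtain ⟨hch, hu⟩ := hS.1 hsS
    by_cases hR : pivot u s ∈ s
    · obtain ⟨hch', hu', hpiv⟩ := erase_spec hch hu hp hne hR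
      set t := s.erase (pivot u s) with ht
      have e : toggle u s = t := by rw [toggle, if_pos hR]
      have hnot : pivot u t ∉ t := by rw [hpiv, ht]; exact Finset.notMem_erase _ _
      have hins : insert (pivot u t) t = s := by rw [hpiv, ht, Finset.insert_erase hR]
      rw [e]
      refine ⟨Finset.mem_erase.2 ⟨fun h => hnot ?_, hS.2 ⟨hch', hu'⟩⟩, ?_, ?_, ?_⟩
      · -- the pivot of `{⟨u⟩}` is `⟨u⟩`
        rw [h, pivot_singleton hp]
        exact Finset.mem_singleton_self _
      · rw [toggle, if_neg hnot, hins]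
      · exact fun h => hnot (by rw [hpiv, h]; exact hR)
      · rw [term, term, ← hins, stab_insert hch' hu', Finset.card_insert_of_notMem hnot,
          Nat.add_sub_cancel]
        obtain ⟨n, hn⟩ := Nat.exists_eq_add_of_le' (Finset.card_pos.2 hch'.1)
        rw [hn, Nat.add_sub_cancel, pow_succ]
        ring
    · set t := insert (pivot u s) s with ht
      have e : toggle u s = t := by rw [toggle, if_neg hR]
      rw [e]
      refine ⟨Finset.mem_erase.2 ⟨fun h => ?_, hS.2 ⟨isChainOf_insert hch hu hp,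
        mem_stab_insert hch hu⟩⟩, ?_, ?_, ?_⟩
      · have hc := congrArg Finset.card h
        rw [ht, Finset.card_insert_of_notMem hR, hs0, Finset.card_singleton] at hc
        exact Finset.card_pos.2 hch.1 |>.ne' (by omega)
      · rw [toggle, pivot_insert hch hu, if_pos (Finset.mem_insert_self _ _), ht,
          Finset.erase_insert hR]
      · intro h
        have hm : pivot u s ∈ t := Finset.mem_insert_self _ _
        rw [h] at hm
        exact hR hm
      · rw [term, term, stab_insert hch hu, Finset.card_insert_of_notMem hR, Nat.add_sub_cancel]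
        obtain ⟨n, hn⟩ := Nat.exists_eq_add_of_le' (Finset.card_pos.2 hch.1)
        rw [hn, Nat.add_sub_cancel, pow_succ]
        ring
  exact Finset.sum_involution (fun s _ => toggle u s) (fun s hs => (htog s hs).2.2.2)
    (fun s hs _ => (htog s hs).2.2.1) (fun s hs => (htog s hs).1) (fun s hs => (htog s hs).2.1)

end Cfsg.Agent.BlockTheoryChainPairs
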