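import Cfsg.Agent.Lib.BlockTheoryNormal
import Cfsg.Agent.Lib.BlockTheoryHeight

/-!
Counting blocks against classes.
-/

namespace Cfsg.Agent.BlockTheoryCount

open Cfsg Cfsg.Agent.BlockTheoryLocalRing Cfsg.Agent.BlockTheoryCentre
open Cfsg.Agent.BlockTheoryIdem Cfsg.Agent.BlockTheoryBrauer

attribute [local instance] Classical.propDecidable

variable {p : ℕ} {M : Ideal AlgInt}

/-- The local ideal inside the local ring. -/
noncomputable def localIdeal (hM : IsPModular p M) : Ideal (localRing hM) where
  carrier := {z | MemLocalIdeal M (z : ℂ)}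
  zero_mem' := ideal_zero hM
  add_mem' := fun ha hb => ideal_add hM ha hb
  smul_mem' := fun c _ hx => ideal_mul_left hM c.2 hx

/-- A rectangular product congruent to the identity bounds the number of rows by the number of
columns. -/
theorem card_le_of_congr (hM : IsPModular p M) {α β : Type*} [Fintype α] [Fintype β]
    [DecidableEq α] (A : α → β → ℂ) (B : β → α → ℂ) (hA : ∀ i j, MemLocalRing M (A i j))
    (hB : ∀ j i, MemLocalRing M (B j i))
    (h : ∀ i i', MemLocalIdeal M ((∑ j, A i j * B j i') - if i = i' then 1 else 0)) :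
    Fintype.card α ≤ Fintype.card β := by
  let A' : Matrix α β (localRing hM) := Matrix.of fun i j => ⟨A i j, hA i j⟩
  let B' : Matrix β α (localRing hM) := Matrix.of fun j i => ⟨B j i, hB j i⟩
  let A₀ : Matrix α β ℂ := Matrix.of A
  let B₀ : Matrix β α ℂ := Matrix.of B
  let π := Ideal.Quotient.mk (localIdeal hM)
  have hone : π.mapMatrix (A' * B') = 1 := by
    ext i i'
    rw [RingHom.mapMatrix_apply, Matrix.map_apply, Matrix.one_apply]
    rw [show (if i = i' then (1 : localRing hM ⧸ localIdeal hM) else 0) =
      π (if i = i' then 1 else 0) by split_ifs <;> simp]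
    rw [Ideal.Quotient.eq]
    show MemLocalIdeal M _
    have := h i i'
    convert this using 1
    simp only [Matrix.mul_apply, A', B', Matrix.of_apply]
    split_ifs <;> push_cast <;> rfl
  have hne : (A₀ * B₀).det ≠ 0 := by
    intro h0
    have h1 : (((A' * B').det : localRing hM) : ℂ) = (A₀ * B₀).det := by
      rw [show (((A' * B').det : localRing hM) : ℂ) = (localRing hM).subtype (A' * B').det from rfl,
        RingHom.map_det]
      congr 1
      ext i i'
      simp [A', B', A₀, B₀, Matrix.mul_apply]
    rw [h0] at h1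
    have h2 : π (A' * B').det = 1 := by rw [RingHom.map_det, hone, Matrix.det_one]
    rw [show (A' * B').det = 0 from Subtype.ext h1, map_zero] at h2
    have h3 : (1 : localRing hM) ∈ localIdeal hM :=
      Ideal.Quotient.eq_zero_iff_mem.mp (by rw [map_one]; exact h2.symm)
    exact one_not_ideal hM h3
  have hunit : IsUnit (A₀ * B₀) := (Matrix.isUnit_iff_isUnit_det _).mpr (Ne.isUnit hne)
  calc Fintype.card α = (A₀ * B₀).rank := (Matrix.rank_of_isUnit _ hunit).symm
    _ ≤ A₀.rank := Matrix.rank_mul_le_left _ _
    _ ≤ Fintype.card β := A₀.rank_le_card_width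

variable {G : Type*} [Group G] [Fintype G]

/-- Central characters evaluated on block idempotents, class by class. -/
theorem sum_blockCoeff_centralChar (B : Set (IrrCharacter G)) (χ : IrrCharacter G) :
    ∑ C : ConjClasses G, blockCoeff B C.out * centralChar (χ : G → ℂ) C.out =
      if χ ∈ B then 1 else 0 := by
  rw [← omega_idem B χ, (isCen_idem B).eq_sum_classSum, map_sum]
  refine Finset.sum_congr rfl fun C _ => ?_
  rw [map_smul, smul_eq_mul, omega_classSum (irr_classFun χ), coeff_idem]

/-- The number of blocks in a family is at most the number of classes carrying it. -/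
theorem card_blocks_le (hM : IsPModular p M) (P : Set (IrrCharacter G) → Prop)
    (Q : ConjClasses G → Prop)
    (h : ∀ B B' : Set (IrrCharacter G), IsPBlock M B → P B → IsPBlock M B' → P B' →
      ∀ C, ¬ Q C → ∀ χ ∈ B', MemLocalIdeal M (blockCoeff B C.out * centralChar (χ : G → ℂ) C.out)) :
    Nat.card {B : Set (IrrCharacter G) // IsPBlock M B ∧ P B} ≤
      Nat.card {C : ConjClasses G // Q C} := by
  haveI : Fintype {B : Set (IrrCharacter G) // IsPBlock M B ∧ P B} := Fintype.ofFinite _
  haveI : Fintype {C : ConjClasses G // Q C} := Fintype.ofFinite _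
  rw [Nat.card_eq_fintype_card, Nat.card_eq_fintype_card]
  choose r hr using fun B : {B : Set (IrrCharacter G) // IsPBlock M B ∧ P B} =>
    block_nonempty hM B.2.1
  refine card_le_of_congr hM (fun B C => blockCoeff B.1 C.1.out)
    (fun C B => centralChar (r B : G → ℂ) C.1.out) (fun B C => blockCoeff_mem hM B.2.1 _)
    (fun C B => of_isIntegral hM (isIntegral_centralChar _ _)) fun B B' => ?_
  have h1 := sum_blockCoeff_centralChar B.1 (r B')
  have h2 : (if r B' ∈ B.1 then (1 : ℂ) else 0) = if B = B' then 1 else 0 := by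
    refine if_congr ⟨fun hh => Subtype.ext (block_eq_of_mem hM B.2.1 B'.2.1 hh (hr B')), ?_⟩ rfl rfl
    rintro rfl
    exact hr B
  rw [h2] at h1
  rw [← h1, ← Finset.sum_subtype (Finset.univ.filter Q) (fun C => by simp)
    (fun C : ConjClasses G => blockCoeff B.1 C.out * centralChar (r B' : G → ℂ) C.out),
    ← Finset.sum_filter_add_sum_filter_not Finset.univ Q
      (fun C : ConjClasses G => blockCoeff B.1 C.out * centralChar (r B' : G → ℂ) C.out),
    sub_add_cancel_left]
  refine ideal_neg (ideal_sum hM fun C hC => ?_)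
  exact h B.1 B'.1 B.2.1 B.2.2 B'.2.1 B'.2.2 C (Finset.mem_filter.1 hC).2 _ (hr B')

/-- In a group of order prime to `p` a central element with small central characters is small. -/
theorem small_of_omega_small (hM : IsPModular p M) (hG : ¬ p ∣ Nat.card G)
    {z : MonoidAlgebra ℂ G} (hz : IsCen z)
    (h : ∀ θ : IrrCharacter G, MemLocalIdeal M (omega (θ : G → ℂ) z)) : Small M z := by
  have e : z = ∑ θ : IrrCharacter G, omega (θ : G → ℂ) z • idem ({θ} : Set (IrrCharacter G)) := by
    refine ext_omega hz ?_ fun χ => ?_
    · exact Finset.sum_induction _ IsCen (fun _ _ => IsCen.add) isCen_zero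
        fun θ _ => (isCen_idem _).smul _
    · simp [map_sum, omega_idem]
  rw [e]
  refine Finset.sum_induction _ (Small M) (fun _ _ => small_add hM) (small_zero hM) fun θ _ x => ?_
  rw [MonoidAlgebra.coeff_smul_apply, smul_eq_mul]
  exact ideal_mul_right hM (h θ) (BlockTheoryNormal.isInt_idem_of_not_dvd hM hG _ x)

variable (W : Subgroup G) [Fintype W]

theorem res_one : res W (1 : MonoidAlgebra ℂ G) = 1 := by
  refine MonoidAlgebra.ext ?_
  ext h
  simp [MonoidAlgebra.one_def, Finsupp.single_apply, OneMemClass.coe_eq_one,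
    eq_comm (a := (1 : W)), eq_comm (a := (1 : G))]

theorem res_pow_of_supported {z : MonoidAlgebra ℂ G} (hz : ∀ x ∉ W, z.coeff x = 0) :
    ∀ n, res W (z ^ n) = res W z ^ n
  | 0 => by rw [pow_zero, pow_zero, res_one]
  | n + 1 => by rw [pow_succ', pow_succ', res_mul_of_supported W hz, res_pow_of_supported hz n]

/-- A central element supported on a subgroup of order prime to `p` is small when all its central
characters are. -/
theorem small_of_supported (hM : IsPModular p M) (hW : ¬ p ∣ Nat.card W)
    {z : MonoidAlgebra ℂ G} (hz : IsCen z) (hzi : IsInt M z) (hs : ∀ x ∉ W, z.coeff x = 0)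
    (h : ∀ χ : IrrCharacter G, MemLocalIdeal M (omega (χ : G → ℂ) z)) : Small M z := by
  obtain ⟨N, hN⟩ := exists_small_pow hM hz hzi h
  have h1 : Small M (res W z) := by
    refine small_of_omega_small hM hW (isCen_res W hz) fun θ => ?_
    refine ideal_of_pow_ideal hM (omega_mem_localRing hM θ (isCen_res W hz) (isInt_res W hzi))
      (n := N) ?_
    rw [← omega_pow θ (isCen_res W hz), ← res_pow_of_supported W hs]
    exact omega_ideal_of_small hM θ (isCen_res W (IsCen.pow hz N)) fun x => hN x
  intro x
  by_cases hx : x ∈ W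
  · exact h1 ⟨x, hx⟩
  · rw [hs x hx]; exact ideal_zero hM

end Cfsg.Agent.BlockTheoryCount
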