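import Cfsg.Agent.Lib.BlockTheoryDefect

/-!
Blocks of local subgroups inducing a given block.
-/

namespace Cfsg.Agent.BlockTheoryFirstMain

open Cfsg Cfsg.Agent.BlockTheoryLocalRing Cfsg.Agent.BlockTheoryCentre
open Cfsg.Agent.BlockTheoryIdem Cfsg.Agent.BlockTheoryBrauer
open Cfsg.Agent.BlockTheoryInduced Cfsg.Agent.BlockTheoryDefect

attribute [local instance] Classical.propDecidable

variable {p : ℕ} {M : Ideal AlgInt} {G : Type*} [Group G] [Fintype G]

/-- A block whose idempotent is visible at `P` is induced from every subgroup between `P C(P)`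
and `N(P)`. -/
theorem exists_inducing (hM : IsPModular p M) {B : Set (IrrCharacter G)} (hB : IsPBlock M B)
    {P : Subgroup G} (hP : IsPGroup p P) (H : Subgroup G) [Fintype H] (hPH : P ≤ H)
    (hCH : Subgroup.centralizer (P : Set G) ≤ H) (hHN : H ≤ Subgroup.normalizer (P : Set G))
    (hns : ¬ Small M (cut P (idem B))) :
    ∃ b : Set (IrrCharacter H), IsInducedBlock M H b B := by
  have hBi := isInt_idem hM hB
  set e := res H (cut P (idem B)) with he
  have hec : IsCen e := isCen_br H hHN (isCen_idem B)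
  have hei : IsInt M e := isInt_res H (isInt_cut hM P hBi)
  obtain ⟨ξ, hξ⟩ : ∃ ξ : IrrCharacter H, ¬ MemLocalIdeal M (omega (ξ : H → ℂ) e) := by
    by_contra! hall
    obtain ⟨N, hN⟩ := exists_small_pow hM hec hei hall
    have hidem : Small M (e * e - e) := by
      have := br_mul H hM hP hCH (isCen_idem B) (isCen_idem B) hBi hBi
      rw [idem_sq] at this
      exact small_symm hM this
    have hs : Small M e := small_of_idem_of_pow hM hei hidem (Nat.succ_ne_zero N)
      (by rw [pow_succ]; exact small_mul_right hM hN hei)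
    refine hns fun x => ?_
    rw [coeff_cut]
    split_ifs with hx
    · have h := hs ⟨x, hCH hx⟩
      rw [he, coeff_res, coeff_cut, if_pos hx] at h
      exact h
    · exact ideal_zero hM
  have hb : IsPBlock M (blockOf M (ξ : H → ℂ)) := isPBlock_blockOf ξ
  have hξb : ξ ∈ blockOf M (ξ : H → ℂ) := self_mem_blockOf hM ξ
  obtain ⟨B', hind⟩ := inducedBlockDefined H hM hP hPH hCH hHN hb
  obtain ⟨χ, hχ⟩ := block_nonempty hM hind.2.1
  have h1 := inducedBlock_congr H hM hind hξb hχ (isCen_idem B) hBi
  have h2 := omega_res_sub_br H hM hP hPH hHN ξ (isCen_idem B) hBi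
  have hχB : χ ∈ B := by
    by_contra hχB
    rw [omega_idem, if_neg hχB, sub_zero] at h1
    exact hξ (by have := ideal_sub hM h1 h2; simpa [he] using this)
  rw [block_eq_of_mem hM hind.2.1 hB hχ hχB] at hind
  exact ⟨_, hind⟩

variable [Fact p.Prime]

omit [Fintype G] in
/-- A block of a subgroup of `N(D)` containing `D` that induces a block with defect group `D` has
defect group `D`. -/
theorem defect_eq_of_induced [Finite G] (hM : IsPModular p M) {B : Set (IrrCharacter G)}
    {D : Subgroup G} (hD : IsDefectGroup p M B D) (H : Subgroup G) (hDH : D ≤ H)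
    (hHN : H ≤ Subgroup.normalizer (D : Set G)) {b : Set (IrrCharacter H)}
    (hind : IsInducedBlock M H b B) {E : Subgroup H} (hE : IsDefectGroup p M b E) :
    E = D.subgroupOf H := by
  haveI := Fintype.ofFinite G
  haveI := Fintype.ofFinite H
  haveI : (D.subgroupOf H).Normal := Subgroup.normal_subgroupOf_of_le_normalizer hHN
  have hle := normal_le_defectGroup hM hind.1 hE (D.subgroupOf H)
    ((isPGroup_of_isDefectGroup hD).comap_subtype)
  have hcard := card_le_of_conjLe (inducedBlock_defect_le hM H hind hE hD)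
  rw [Subgroup.card_map_of_injective Subtype.val_injective] at hcard
  refine (Subgroup.eq_of_le_of_card_ge hle ?_).symm
  rwa [Nat.card_congr (Subgroup.subgroupOfEquivOfLe hDH).toEquiv]

omit [Fintype G] in
/-- A class with a unit central character meets the centraliser of a defect group in an element
whose `p`-part lies in its centre. -/
theorem exists_conj_pPart_center [Finite G] (hM : IsPModular p M) {B : Set (IrrCharacter G)}
    (hB : IsPBlock M B) {D : Subgroup G} (hD : IsDefectGroup p M B D) {g : G}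
    (hg : ∃ χ ∈ B, ¬ MemLocalIdeal M (centralChar (χ : G → ℂ) g)) :
    ∃ x : G, IsConj g x ∧ x ∈ Subgroup.centralizer (D : Set G) ∧
      ∀ z : G, IsPPart p x z → z ∈ D ∧ ∀ w ∈ D, z * w = w * z := by
  haveI := Fintype.ofFinite G
  have hp : p.Prime := Fact.out
  obtain ⟨χ, hχ, hne⟩ := hg
  have hDP := isPGroup_of_isDefectGroup hD
  set N := Subgroup.normalizer (D : Set G) with hNdef
  haveI : Fintype N := Fintype.ofFinite N
  have hDN : D ≤ N := Subgroup.le_normalizer
  have hCN : Subgroup.centralizer (D : Set G) ≤ N := Subgroup.centralizer_le_normalizer _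
  obtain ⟨b, hind⟩ := exists_inducing hM hB hDP N hDN hCN le_rfl
    (not_small_cut_defect hM hB hD)
  obtain ⟨ξ, hξ⟩ := block_nonempty hM hind.1
  set w := res N (cut D (classSum g)) with hw
  have hwc : IsCen w := isCen_br N le_rfl (isCen_classSum g)
  have hwi : IsInt M w := isInt_res N (isInt_cut hM D (isInt_classSum hM g))
  have hωw : ¬ MemLocalIdeal M (omega (ξ : N → ℂ) w) := by
    intro h
    have h1 := omega_res_sub_br N hM hDP hDN le_rfl ξ (isCen_classSum g) (isInt_classSum hM g)
    have h2 := inducedBlock_congr N hM hind hξ hχ (isCen_classSum g) (isInt_classSum hM g)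
    refine hne ?_
    rw [← omega_classSum (irr_classFun χ)]
    have := ideal_sub hM (ideal_add hM h1 h) h2
    convert this using 1; rw [hw]; ring
  obtain ⟨C, hC⟩ : ∃ C : ConjClasses N, ¬ MemLocalIdeal M
      (w.coeff C.out * centralChar (ξ : N → ℂ) C.out) := by
    by_contra! hall
    refine hωw ?_
    rw [hwc.eq_sum_classSum, map_sum]
    refine ideal_sum hM fun C _ => ?_
    rw [map_smul, smul_eq_mul, omega_classSum (irr_classFun ξ)]
    exact hall C
  set x : N := C.out with hx
  have hxC : (x : G) ∈ Subgroup.centralizer (D : Set G) ∧ IsConj g (x : G) := by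
    by_contra hcon
    refine hC ?_
    have h0 : w.coeff x = 0 := by
      rw [hw, coeff_res, coeff_cut, classSum, coeff_ofFun]
      by_cases h1 : (x : G) ∈ Subgroup.centralizer (D : Set G)
      · rw [if_pos h1, if_neg fun h2 => hcon ⟨h1, h2⟩]
      · rw [if_neg h1]
    rw [h0, zero_mul]
    exact ideal_zero hM
  refine ⟨x, hxC.2, hxC.1, fun z hz => ?_⟩
  have hzc : ∀ v ∈ D, z * v = v * z := by
    intro v hv
    have hvx : Commute v (x : G) := Subgroup.mem_centralizer_iff.mp hxC.1 v hv
    obtain ⟨y, hy, hc, ⟨k, hk⟩, hyr⟩ := hz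
    have hcon : v * z * v⁻¹ = z := by
      refine pPart_unique hp ⟨v * y * v⁻¹, ?_, ?_, ⟨k, ?_⟩, ?_⟩ ⟨y, hy, hc, ⟨k, hk⟩, hyr⟩
      · calc v * z * v⁻¹ * (v * y * v⁻¹) = v * (z * y) * v⁻¹ := by group
          _ = (x : G) := by rw [hy, hvx.eq, mul_inv_cancel_right]
      · have := hc.map (MulAut.conj v).toMonoidHom
        simpa using this
      · rw [← hk]; exact orderOf_injective (MulAut.conj v).toMonoidHom (MulAut.conj v).injective z
      · rw [show orderOf (v * y * v⁻¹) = orderOf y from
          orderOf_injective (MulAut.conj v).toMonoidHom (MulAut.conj v).injective y]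
        exact hyr
    calc z * v = (v * z * v⁻¹) * v := by rw [hcon]
      _ = v * z := by group
  refine ⟨?_, hzc⟩
  obtain ⟨zN, hzN⟩ := exists_pPart hp x
  have hzN' : IsPPart p (x : G) (zN : G) := by
    obtain ⟨yN, hy, hc, ⟨k, hk⟩, hyr⟩ := hzN
    exact ⟨yN, by rw [← hy]; rfl, hc.map N.subtype, ⟨k, by rw [Subgroup.orderOf_coe, hk]⟩,
      by rwa [Subgroup.orderOf_coe]⟩
  rw [pPart_unique hp hz hzN']
  obtain ⟨E, hE⟩ := exists_defectGroup (G := N) hM hind.1
  have hEeq := defect_eq_of_induced hM hD N hDN le_rfl hind hE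
  haveI : E.Normal := hEeq ▸ Subgroup.normal_subgroupOf_of_le_normalizer le_rfl
  have hval : (ξ : N → ℂ) x ≠ 0 := fun h0 => hC (by
    rw [centralChar, h0, mul_zero, zero_div, mul_zero]
    exact ideal_zero hM)
  have hconj : ConjLe (Subgroup.zpowers zN) E := by
    by_contra hn
    exact hval (eq_zero_of_pPart_notMem hM ξ hzN
      (by rw [eq_blockOf_of_mem hM hind.1 hξ] at hE; exact hE) hn)
  obtain ⟨c, hc⟩ := hconj
  have hmem := hc ⟨zN, Subgroup.mem_zpowers zN, rfl⟩
  have hmem' : zN ∈ E := by
    have := (inferInstance : E.Normal).conj_mem _ hmem c⁻¹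
    simpa [mul_assoc] using this
  rw [hEeq] at hmem'
  exact hmem'

end Cfsg.Agent.BlockTheoryFirstMain
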