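import Cfsg.Agent.Lib.BlockTheoryMeet
import Cfsg.Agent.Lib.CharBasicInt
import Cfsg.Agent.Lib.BlockFong9
import Cfsg.Agent.Lib.BlockFirstMainOver
import Cfsg.Agent.Lib.BrauerPairs81Local

/-!
An invariant character of a normal `p'`-subgroup `N` lies under a single block, of full defect,
when some `p`-subgroup `S` with `N S` normal contains its centraliser in `N S`.
-/

set_option autoImplicit false

namespace Cfsg.Agent.BlockTheoryFong

open Cfsg Cfsg.Agent.BlockTheoryLocalRing Cfsg.Agent.BlockTheoryCentre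
open Cfsg.Agent.BlockTheoryIdem Cfsg.Agent.BlockTheoryBrauer Cfsg.Agent.BlockTheoryDefect
open Cfsg.Agent.BrauerBlocksCovering Cfsg.Agent.BrauerPairs81Base Cfsg.Agent.BrauerPairs81Stab
open Cfsg.Agent.BrauerPairs81Pairs Cfsg.Agent.BrauerPairs81Conj Cfsg.Agent.BlockTheoryNormal
open Cfsg.Agent.BrauerPairs81Local Cfsg.Agent.BrauerPairs81Max Cfsg.Agent.BlockTheoryMeet
open Cfsg.Agent.CharInduced
open scoped ComplexConjugate

attribute [local instance] Classical.propDecidable

set_option linter.unusedSectionVars false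

variable {p : ℕ} [Fact p.Prime] {M : Ideal AlgInt} {G : Type*} [Group G] [Fintype G]
variable (N : Subgroup G) [hN : N.Normal] [Fintype N] (θ : IrrCharacter N)

theorem isPBlock_single (hM : IsPModular p M) (hNp : ¬ p ∣ Nat.card N) :
    IsPBlock M ({θ} : Set (IrrCharacter N)) := by
  refine ⟨θ, Set.Subset.antisymm ?_ ?_⟩
  · intro ξ hξ; rw [Set.mem_singleton_iff.mp hξ]; exact self_mem_blockOf hM θ
  · exact blockOf_subset_of_isInt hM (isInt_idem_of_not_dvd hM hNp {θ}) rfl

theorem blockCoeff_single_one (hM : IsPModular p M) (hNp : ¬ p ∣ Nat.card N) :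
    ¬ MemLocalIdeal M (blockCoeff ({θ} : Set (IrrCharacter N)) 1) := by
  obtain ⟨d, hd, hd1, hdvd⟩ : ∃ d : ℕ, (θ : N → ℂ) 1 = d ∧ 1 ≤ d ∧ d ∣ Nat.card N := by
    obtain ⟨d, -, hd, hdvd⟩ := CharBasicInt.exists_apply_one_dvd_card θ.2
    refine ⟨d, hd, Nat.one_le_iff_ne_zero.mpr ?_, hdvd⟩
    rintro rfl
    exact irr_one_ne_zero θ (by rw [hd]; simp)
  rw [blockCoeff, finsum_mem_singleton, hd, Complex.conj_natCast]
  have hnp : ¬ p ∣ d := fun h => hNp (h.trans hdvd)
  have hn : ∀ {n : ℕ}, ¬ p ∣ n → ¬ MemLocalIdeal M (n : ℂ) :=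
    fun h hI => h ((natCast_mem_iff hM).mp hI)
  intro hI
  have h2 := ideal_mul_left hM (natCast_mem (localRing hM) (Nat.card N)) hI
  rw [← mul_assoc, mul_inv_cancel₀ (Nat.cast_ne_zero.mpr Nat.card_pos.ne'), one_mul] at h2
  exact not_ideal_mul hM (natCast_mem (localRing hM) d) (natCast_mem (localRing hM) d)
    (hn hnp) (hn hnp) h2

variable {θ}

theorem invariant_conjIrr
    (hinv : ∀ (g : G) (n : N), (θ : N → ℂ) ⟨g * n * g⁻¹, hN.conj_mem n n.2 g⟩ = (θ : N → ℂ) n) :
    ∀ g : G, ∀ ξ ∈ ({θ} : Set (IrrCharacter N)), conjIrr N ξ g ∈ ({θ} : Set (IrrCharacter N)) := by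
  intro g ξ hξ
  obtain rfl : ξ = θ := hξ
  exact Set.mem_singleton_iff.mpr (Subtype.ext (funext fun n => hinv g n))

theorem isCen_eb (hinv : ∀ g : G, ∀ ξ ∈ ({θ} : Set (IrrCharacter N)),
    conjIrr N ξ g ∈ ({θ} : Set (IrrCharacter N))) : IsCen (eb N ({θ} : Set (IrrCharacter N))) :=
  BlockFong9.orb_eq N hinv ▸ isCen_liftIdem N fun ξ a => conjIrr_mem_orb_iff N a

variable {U S : Subgroup G} {k : ℕ}

/-- The only block of `U` over the character, with defect group `S`. -/
theorem exists_block_over (hM : IsPModular p M) (hNp : ¬ p ∣ Nat.card N) (hNU : N ≤ U)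
    (hidx : N.relIndex U = p ^ k) (hSU : S ≤ U) (hS : IsPGroup p S) (hScard : Nat.card S = p ^ k)
    (hinv : ∀ g : G, ∀ ξ ∈ ({θ} : Set (IrrCharacter N)),
      conjIrr N ξ g ∈ ({θ} : Set (IrrCharacter N))) :
    ∃ c : Set (IrrCharacter U), IsPBlock M c ∧ eb U c = eb N ({θ} : Set (IrrCharacter N)) ∧
      IsDefectGroup p M c (S.subgroupOf U) := by
  have hb := isPBlock_single N θ hM hNp
  set e := eb N ({θ} : Set (IrrCharacter N)) with hedef
  have hec : IsCen e := isCen_eb N hinv
  have hei : IsInt M e := isInt_eb hM hb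
  have hsupp : ∀ x ∉ U, e.coeff x = 0 := fun x hx => coeff_eb_of_notMem N _ fun h => hx (hNU h)
  have hee : e * e = e := eb_sq N _
  have hrr : res U e * res U e = res U e := by rw [← res_mul_of_supported U hsupp, hee]
  obtain ⟨A, hA⟩ := exists_idem_eq (isCen_res U hec) hrr
  have hAi : IsInt M (idem A) := hA.symm ▸ isInt_res U hei
  have he1 : ¬ MemLocalIdeal M ((idem A).coeff 1) := by
    rw [hA, coeff_res, OneMemClass.coe_one,
      show (1 : G) = ((1 : N) : G) from (OneMemClass.coe_one N).symm, coeff_eb_coe]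
    exact blockCoeff_single_one N θ hM hNp
  obtain ⟨χ, hχ⟩ : A.Nonempty := by
    by_contra h
    rw [Set.not_nonempty_iff_eq_empty.mp h, idem_empty] at he1
    exact he1 (by simpa using ideal_zero hM)
  set c := blockOf M (χ : U → ℂ)
  have hc : IsPBlock M c := isPBlock_blockOf χ
  have hcA : c ⊆ A := blockOf_subset_of_isInt hM hAi hχ
  have hce : idem c * res U e = idem c := by
    rw [← hA, idem_mul_idem, Set.inter_eq_left.mpr hcA]
  -- the block idempotent lives on `N`
  have hcN : ∀ x : U, (x : G) ∉ N → blockCoeff c x = 0 := by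
    intro x hx
    refine blockCoeff_eq_zero_of_dvd hM hc ?_
    by_contra hpd
    refine hx ?_
    haveI : (N.subgroupOf U).Normal := inferInstance
    have h1 : x ^ p ^ k ∈ N.subgroupOf U := by
      rw [← hidx]
      exact Subgroup.pow_index_mem (N.subgroupOf U) x
    obtain ⟨m, hm⟩ := exists_pow_eq_self_of_coprime
      (((Fact.out : p.Prime).coprime_iff_not_dvd.mpr hpd).pow_left k)
    rw [← hm]
    exact (N.subgroupOf U).pow_mem h1 m
  set w := incl U (idem c) with hwdef
  have hwsupp : SuppIn N 1 w := fun x hx => by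
    have hxN : x ∉ N := fun h => hx ((QuotientGroup.eq_one_iff x).mpr h)
    by_cases hxU : x ∈ U
    · rw [show x = ((⟨x, hxU⟩ : U) : G) from rfl, hwdef, coeff_incl_coe, coeff_idem]
      exact hcN _ hxN
    · rw [hwdef, coeff_incl_of_notMem U _ hxU]
  have hwinv : InvBy N w := by
    rw [hwdef, ← eb_eq_incl]
    exact invBy_mono hNU (invBy_eb_self U c)
  have hwe : w * e = w := by
    have e1 : e = incl U (res U e) := by
      refine MonoidAlgebra.ext ?_
      ext x
      by_cases hxU : x ∈ U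
      · rw [show x = ((⟨x, hxU⟩ : U) : G) from rfl, coeff_incl_coe, coeff_res]
      · rw [coeff_incl_of_notMem U _ hxU, hsupp x hxU]
    rw [e1, hwdef, ← map_mul, hce]
  have hww : w * w = w := by rw [hwdef, ← map_mul, idem_sq]
  have hwN : ∀ x ∉ N, w.coeff x = 0 := fun x hx =>
    hwsupp x fun h => hx ((QuotientGroup.eq_one_iff x).mp h)
  set y := res N w with hydef
  have hyc : IsCen y := isCen_res_of_invBy hwinv
  have hye : y * idem ({θ} : Set (IrrCharacter N)) = y := by
    rw [hydef]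
    conv_rhs => rw [← hwe, res_mul_of_supported N hwN, hedef]
    congr 1
    refine MonoidAlgebra.ext ?_
    ext n
    rw [coeff_res, coeff_eb_coe, coeff_idem]
  have hyy : y * y = y := by rw [hydef, ← res_mul_of_supported N hwN, hww]
  obtain ⟨A', hA'⟩ := exists_idem_eq hyc hyy
  have hA'θ : A' ⊆ ({θ} : Set (IrrCharacter N)) := by
    intro ξ hξ
    have h := congrArg (omega (ξ : N → ℂ)) hye
    rw [omega_mul ξ hyc, ← hA', omega_idem, omega_idem, if_pos hξ, one_mul] at h
    by_contra hne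
    rw [if_neg hne] at h
    exact zero_ne_one h
  have hweq : w = e := by
    rw [← incl_res_of_supp N hwsupp, hedef, eb_eq_incl, ← hydef, ← hA']
    have hne : A' = {θ} := (Set.subset_singleton_iff_eq.mp hA'θ).resolve_left fun h => by
      obtain ⟨ψ, hψ⟩ := block_nonempty hM hc
      rw [h, idem_empty] at hA'
      have hw0 : w = 0 := by rw [← incl_res_of_supp N hwsupp, ← hydef, ← hA', map_zero]
      have := congrArg (res U) hw0
      rw [hwdef, ← eb_eq_incl, res_eb, map_zero] at this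
      have h1 := congrArg (omega (ψ : U → ℂ)) this
      rw [omega_idem, if_pos hψ, map_zero] at h1
      exact one_ne_zero h1
    rw [hne]
    congr 2
  refine ⟨c, hc, by rw [eb_eq_incl]; exact hweq, ?_⟩
  obtain ⟨D, hD⟩ := exists_defectGroup hM hc
  have hSp : IsPGroup p (S.subgroupOf U) := hS.comap_subtype
  have hns : ¬ Small M (cut (S.subgroupOf U) (idem c)) := fun hs => he1 <| by
    have h := hs 1
    rw [coeff_cut, if_pos (one_mem _)] at h
    rw [show idem A = idem c from ?_]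
    · exact h
    rw [hA, ← hweq, hwdef, ← eb_eq_incl, res_eb]
  have hcj := (not_small_cut_iff hM hc hD hSp).mp hns
  have hcard : Nat.card D ≤ Nat.card (S.subgroupOf U) := by
    rw [Nat.card_congr (Subgroup.subgroupOfEquivOfLe hSU).toEquiv, hScard]
    obtain ⟨j, hj⟩ := IsPGroup.iff_card.mp (isPGroup_of_isDefectGroup hD)
    have hdvd : Nat.card D ∣ p ^ k * Nat.card N := by
      rw [← hidx, Subgroup.relIndex, ← Nat.card_congr (Subgroup.subgroupOfEquivOfLe hNU).toEquiv,
        Subgroup.index_mul_card]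
      exact Subgroup.card_subgroup_dvd_card D
    rw [hj] at hdvd ⊢
    exact Nat.le_of_dvd (pow_pos (Fact.out : p.Prime).pos k)
      ((((Fact.out : p.Prime).coprime_iff_not_dvd.mpr hNp).pow_left j).dvd_of_dvd_mul_right hdvd)
  obtain ⟨x, hx⟩ := eq_map_of_conjLe hcj hcard
  have h3 := isDefectGroup_map hD x⁻¹
  rw [← hx] at h3
  change IsDefectGroup p M c (cjS x⁻¹ (cjS x (S.subgroupOf U))) at h3
  rwa [cjS_cjS, inv_mul_cancel, cjS_one] at h3

/-- The pair on `S` is unique. -/
theorem occ_unique (hM : IsPModular p M) (hNU : N ≤ U)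
    (hidx : N.relIndex U = p ^ k) (hNp : ¬ p ∣ Nat.card N) (hSU : S ≤ U)
    (hScard : Nat.card S = p ^ k) (hCU : Cen S ≤ U) {c : Set (IrrCharacter U)} (hc : IsPBlock M c)
    (hD : IsDefectGroup p M c (S.subgroupOf U)) {f f' : Set (IrrCharacter (Cen S))}
    (hf : IsPBlock M f) (hf' : IsPBlock M f') (ho : Occ M S f (eb U c))
    (ho' : Occ M S f' (eb U c)) : f = f' := by
  have hcomp : CenCompat U (S.subgroupOf U) S := by
    intro x
    constructor
    · intro hx
      exact ⟨hCU hx, Subgroup.mem_centralizer_iff.mpr fun u hu => Subtype.ext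
        (Subgroup.mem_centralizer_iff.mp hx (u : G) (Subgroup.mem_subgroupOf.mp hu))⟩
    · rintro ⟨_, hx⟩
      exact Subgroup.mem_centralizer_iff.mpr fun a ha => congrArg Subtype.val
        (Subgroup.mem_centralizer_iff.mp hx ⟨a, hSU ha⟩ (Subgroup.mem_subgroupOf.mpr ha))
  obtain ⟨g, hg, rfl⟩ := exists_pullback hcomp hf
  obtain ⟨g', hg', rfl⟩ := exists_pullback hcomp hf'
  rw [eb_eq_incl] at ho ho'
  have hp : IsBrauerPairOf p M c (S.subgroupOf U) g := isBrauerPairOf_iff.mpr
    ⟨⟨isPGroup_of_isDefectGroup hD, hg⟩, hc, occ_of_push hcomp ho⟩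
  have hp' : IsBrauerPairOf p M c (S.subgroupOf U) g' := isBrauerPairOf_iff.mpr
    ⟨⟨isPGroup_of_isDefectGroup hD, hg'⟩, hc, occ_of_push hcomp ho'⟩
  obtain ⟨n, hn, hne⟩ := exists_normalizer_of_pairOf hM
    (BlockFirstMainOver.maximal_of_defect hM hD hp) hp'
  congr 1
  refine eb_injective (H := Cen (S.subgroupOf U)) ?_
  rw [← hne]
  -- `U = N S`, and an element of `N` normalising `S` centralises it
  have hNS : N.subgroupOf U ⊔ S.subgroupOf U = ⊤ := by
    refine Subgroup.eq_top_of_card_eq _ (Nat.le_antisymm (Subgroup.card_le_card_group _) ?_)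
    refine Nat.le_of_dvd Nat.card_pos ?_
    rw [← Subgroup.index_mul_card (N.subgroupOf U), show (N.subgroupOf U).index = p ^ k from hidx]
    refine Nat.Coprime.mul_dvd_of_dvd_of_dvd ?_ ?_ ?_
    · rw [Nat.card_congr (Subgroup.subgroupOfEquivOfLe hNU).toEquiv]
      exact ((Fact.out : p.Prime).coprime_iff_not_dvd.mpr hNp).pow_left k
    · rw [← hScard, ← Nat.card_congr (Subgroup.subgroupOfEquivOfLe hSU).toEquiv]
      exact Subgroup.card_dvd_of_le le_sup_right
    · exact Subgroup.card_dvd_of_le le_sup_left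
  obtain ⟨m, hm, s, hs, rfl⟩ :=
    Subgroup.mem_sup_of_normal_left.mp (hNS.ge (Subgroup.mem_top n))
  have hmn : m ∈ Subgroup.normalizer (S.subgroupOf U : Set U) := by
    simpa using mul_mem hn (InvMemClass.inv_mem (Subgroup.le_normalizer hs))
  have hmc : m ∈ Cen (S.subgroupOf U) := by
    refine Subgroup.mem_centralizer_iff.mpr fun u hu => ?_
    have h1 : m * u * m⁻¹ * u⁻¹ ∈ N.subgroupOf U ⊓ S.subgroupOf U := by
      refine ⟨?_, mul_mem ((Subgroup.mem_normalizer_iff.mp hmn u).mp hu) ((S.subgroupOf U).inv_mem hu)⟩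
      rw [show m * u * m⁻¹ * u⁻¹ = m * (u * m⁻¹ * u⁻¹) by group]
      exact mul_mem hm ((inferInstance : (N.subgroupOf U).Normal).conj_mem _ (InvMemClass.inv_mem hm) u)
    have hbot : N.subgroupOf U ⊓ S.subgroupOf U = ⊥ := by
      refine disjoint_iff.mp (Subgroup.disjoint_of_coprime_natCard ?_)
      rw [Nat.card_congr (Subgroup.subgroupOfEquivOfLe hNU).toEquiv,
        Nat.card_congr (Subgroup.subgroupOfEquivOfLe hSU).toEquiv, hScard]
      exact (((Fact.out : p.Prime).coprime_iff_not_dvd.mpr hNp).pow_left k).symm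
    rw [hbot, Subgroup.mem_bot, mul_inv_eq_one, mul_inv_eq_iff_eq_mul] at h1
    exact h1.symm
  rw [cjA_mul, invBy_iff.mp (invBy_eb_cen _ g) s hs, invBy_iff.mp (invBy_eb_self _ g) m hmc]

/-- All characters over `θ` form one block, of full defect. -/
theorem exists_block (hM : IsPModular p M) (hNp : ¬ p ∣ Nat.card N) [U.Normal] (hNU : N ≤ U)
    (hidx : N.relIndex U = p ^ k) (hSU : S ≤ U) (hS : IsPGroup p S) (hScard : Nat.card S = p ^ k)
    (hCU : Cen S ≤ U)
    (hinv : ∀ g : G, ∀ ξ ∈ ({θ} : Set (IrrCharacter N)),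
      conjIrr N ξ g ∈ ({θ} : Set (IrrCharacter N))) :
    ∃ B : Set (IrrCharacter G), IsPBlock M B ∧
      (∀ χ : IrrCharacter G, χ ∈ B ↔
        classInner (fun n : N => (χ : G → ℂ) n) (θ : N → ℂ) ≠ 0) ∧
      (∀ P : Sylow p G, IsDefectGroup p M B (P : Subgroup G)) ∧
      ∀ D : Subgroup G, IsDefectGroup p M B D → ∃ P : Sylow p G, D = (P : Subgroup G) := by
  have hb := isPBlock_single N θ hM hNp
  set e := eb N ({θ} : Set (IrrCharacter N)) with hedef
  have hec : IsCen e := isCen_eb N hinv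
  have hei : IsInt M e := isInt_eb hM hb
  obtain ⟨c, hc, hce, hD⟩ := exists_block_over N hM hNp hNU hidx hSU hS hScard hinv
  rw [← hedef] at hce
  let Cov : Set (IrrCharacter G) → Prop := fun B =>
    ∃ χ ∈ B, ∃ ξ ∈ ({θ} : Set (IrrCharacter N)),
      classInner (fun n : N => (χ : G → ℂ) n) (ξ : N → ℂ) ≠ 0
  have hfix : ∀ {B : Set (IrrCharacter G)}, IsPBlock M B → Cov B → idem B * e = idem B := by
    intro B hB hcov
    have h := liftIdem_mul_idem N hM hb hB hcov
    rw [BlockFong9.orb_eq N hinv, ← (isCen_idem B).comm] at h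
    exact h
  have hocc : ∀ {B : Set (IrrCharacter G)}, IsPBlock M B → Cov B →
      ∃ f : Set (IrrCharacter (Cen S)), IsPBlock M f ∧ Occ M S f (idem B) ∧ Occ M S f e := by
    intro B hB hcov
    have hns : ¬ Small M (cut S (idem B)) := by
      intro hs
      have hsm := small_of_small_res U hM hc hSU hD hS (IsCen.invBy (isCen_idem B) U)
        (isInt_idem hM hB) (idem_sq B) (by rw [← eb_eq_incl, hce]; exact hfix hB hcov)
        (small_res_of_small_cut hs)
      obtain ⟨χ, hχ⟩ := block_nonempty hM hB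
      have := omega_ideal_of_small hM χ (isCen_idem B) hsm
      rw [omega_idem, if_pos hχ] at this
      exact one_not_ideal hM this
    obtain ⟨f, hf, ho⟩ := exists_occ_of_not_small hM hS (IsCen.invBy (isCen_idem B) S)
      (IsCen.invBy (isCen_idem B) _) (isInt_idem hM hB) (idem_sq B) hns
    refine ⟨f, hf, ho, fun ξ hξ => ?_⟩
    have h1 := phi_mul hM hS (IsCen.invBy (isCen_idem B) S) (IsCen.invBy hec S)
      (IsCen.invBy (isCen_idem B) _) (IsCen.invBy hec _) (isInt_idem hM hB) hei ξ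
    rw [hfix hB hcov] at h1
    have h2 := ideal_mul_right hM (ho ξ hξ) (phi_mem hM (IsCen.invBy hec _) hei ξ)
    refine cast (congrArg (MemLocalIdeal M) ?_)
      (ideal_sub hM (ideal_sub hM (ho ξ hξ) h1) h2)
    ring
  have huniq : ∀ {B B' : Set (IrrCharacter G)}, IsPBlock M B → Cov B → IsPBlock M B' → Cov B' →
      B = B' := by
    intro B B' hB hcov hB' hcov'
    by_contra hne
    obtain ⟨f, hf, ho, hoe⟩ := hocc hB hcov
    obtain ⟨f', hf', ho', hoe'⟩ := hocc hB' hcov'
    obtain rfl := occ_unique N hM hNU hidx hNp hSU hScard hCU hc hD hf hf'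
      (hce.symm ▸ hoe) (hce.symm ▸ hoe')
    obtain ⟨ξ, hξ⟩ := block_nonempty hM hf
    have h1 := phi_mul hM hS (IsCen.invBy (isCen_idem B) S) (IsCen.invBy (isCen_idem B') S)
      (IsCen.invBy (isCen_idem B) _) (IsCen.invBy (isCen_idem B') _) (isInt_idem hM hB)
      (isInt_idem hM hB') ξ
    rw [idem_mul_of_ne hM hB hB' hne,
      show phi S (0 : MonoidAlgebra ℂ G) ξ = 0 by simp [phi]] at h1
    have h2 := ideal_mul_right hM (ho ξ hξ)
      (phi_mem hM (IsCen.invBy (isCen_idem B') _) (isInt_idem hM hB') ξ)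
    refine one_not_ideal hM (cast (congrArg (MemLocalIdeal M) ?_)
      (ideal_neg (ideal_add hM (ideal_add hM h1 h2) (ho' ξ hξ))))
    ring
  obtain ⟨B, hB, hcov, hlow⟩ := BlockFong9.exists_cover_large N hM hb hinv
  obtain ⟨D, hDB⟩ := exists_defectGroup hM hB
  have hfull : Nat.card D = p ^ (Nat.card G).factorization p := by
    have h1 : (Nat.card G).factorization p ≤ blockDefect p B := by
      refine le_trans (le_of_eq ?_) ((Nat.le_add_left _ _).trans hlow)
      rw [← N.index_mul_card, Nat.factorization_mul Subgroup.index_ne_zero_of_finite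
        Nat.card_pos.ne', Finsupp.add_apply, Nat.factorization_eq_zero_of_not_dvd hNp, add_zero]
    have h2 := BlockContribBounds.card_defectGroup hM hB hDB
    have h3 := Subgroup.card_subgroup_dvd_card D
    rw [h2] at h3
    have h4 := ((Fact.out : p.Prime).pow_dvd_iff_le_factorization Nat.card_pos.ne').mp h3
    rw [h2, le_antisymm h4 h1]
  refine ⟨B, hB, fun χ => ⟨fun hχ => ?_, fun hχ => ?_⟩, fun P => ?_, fun D' hD' => ?_⟩
  · obtain ⟨χ₀, hχ₀, ξ, hξ, hcon⟩ := hcov
    obtain ⟨ψ, hψ⟩ := exists_constituent (G := N)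
      (isCharacter_res N (CharBasic.isCharacter_of_isIrrCharacter χ.2)) (irr_one_ne_zero χ)
    have hmem := mem_orb_of_sameBlock N hM hb (sameBlock_of_mem hM hB hχ₀ hχ) hξ hcon hψ
    rw [BlockFong9.orb_eq N hinv] at hmem
    obtain rfl : ψ = θ := hmem
    exact hψ
  · rw [huniq hB hcov (isPBlock_blockOf χ) ⟨χ, self_mem_blockOf hM χ, θ, rfl, hχ⟩]
    exact self_mem_blockOf hM χ
  · obtain ⟨x, hx⟩ := MulAction.exists_smul_eq G (Sylow.ofCard D hfull) P
    have h := isDefectGroup_map hDB x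
    convert h using 1
    rw [← hx]
    rfl
  · refine ⟨Sylow.ofCard D' ?_, rfl⟩
    rw [BlockContribBounds.card_defectGroup hM hB hD',
      ← BlockContribBounds.card_defectGroup hM hB hDB, hfull]

end Cfsg.Agent.BlockTheoryFong
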