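import Mathlib
import Cfsg.Prelude.Def_Characters
import Cfsg.Prelude.Def_CharExt
import Cfsg.Agent.Lib.CharBasic
import Cfsg.Agent.Lib.CharBasicOrth
import Cfsg.Agent.Lib.CharBasicDecomp
import Cfsg.Agent.Lib.CharBasicInt
import Cfsg.Agent.Lib.CharBasicCyclic
import Cfsg.Agent.Lib.CharInducedClifford
import Cfsg.Agent.Lib.CharGallagher
import Cfsg.Agent.Lib.CharExtension
import Cfsg.Agent.Lib.GaloisChar80
import Cfsg.Agent.Lib.RealChars
import Cfsg.Agent.Lib.OddCharGroup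
import Cfsg.Agent.S0867

/-!
# Cyclic coprime action on a group and its irreducible characters

`G` is normal in `Γ`, `Γ = G⟨s⟩` with coprime orders.  For every `x ∈ ⟨s⟩` the values of a
canonical extension on the coset `G x` are compared with functions on `C = C_G(x)`.

* `sum_centralizer` : averaging over a coset equals averaging over `C x`.
* `card_fixed_classes` : fixed classes of `G` correspond to the classes of `C`.
* `exists_canonical`, `canonical_unique` : canonical extensions.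
* `exists_coeff`, `exists_sign_char` : the restriction to `C x` is a signed irreducible character.
-/

set_option autoImplicit false
set_option linter.unusedSectionVars false

open scoped ComplexConjugate

namespace Cfsg.Agent.GlaubermanCyclic

open Cfsg Cfsg.Agent.CharBasic Cfsg.Agent.CharBasicOrth Cfsg.Agent.CharBasicDecomp

universe u

variable {Γ : Type u} [Group Γ] [Fintype Γ] (G : Subgroup Γ)

theorem mem_centralizer_inf {x c : Γ} :
    c ∈ G ⊓ Subgroup.centralizer ({x} : Set Γ) ↔ c ∈ G ∧ c * x = x * c :=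
  and_congr Iff.rfl Subgroup.mem_centralizer_singleton_iff

/-- Conjugations between elements of `C x` centralise `x`. -/
theorem commute_of_conj {x c c' z : Γ} (hcop : (Nat.card G).Coprime (orderOf x)) (hc : c ∈ G)
    (hc' : c' ∈ G) (hcx : c * x = x * c) (hcx' : c' * x = x * c')
    (h : z * (c * x) * z⁻¹ = c' * x) : z * x = x * z := by
  obtain ⟨k, hk1, hk2⟩ := OddCharGroup.exists_exponent hcop.symm
  have e1 := OddCharGroup.mul_pow_exponent hcx hk1 ((Subgroup.orderOf_dvd_natCard G hc).trans hk2)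
  have e2 := OddCharGroup.mul_pow_exponent hcx' hk1 ((Subgroup.orderOf_dvd_natCard G hc').trans hk2)
  rw [← h, conj_pow, e1] at e2
  exact mul_inv_eq_iff_eq_mul.mp e2

variable [hGn : G.Normal] [Fintype G]

/-- Averaging a class function over a coset. -/
theorem sum_centralizer {x : Γ} (hcop : (Nat.card G).Coprime (orderOf x)) {C : Subgroup Γ}
    [Fintype C] (hC : C = G ⊓ Subgroup.centralizer ({x} : Set Γ)) {F : Γ → ℂ}
    (hF : IsClassFunction Γ F) :
    (Nat.card G : ℂ) * ∑ c : C, F ((c : Γ) * x) =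
      (Nat.card C : ℂ) * ∑ g : G, F ((g : Γ) * x) := by
  classical
  have hmemC : ∀ c : C, (c : Γ) ∈ G ∧ (c : Γ) * x = x * c := fun c => by
    have h := c.2
    simp only [hC] at h
    exact (mem_centralizer_inf G).1 h
  have hnorm : x ∈ Subgroup.normalizer (G : Set Γ) := by
    rw [Subgroup.normalizer_eq_top]; exact Subgroup.mem_top x
  have hmem : ∀ p : G × C, (p.1 : Γ) * ((p.2 : Γ) * x) * (p.1 : Γ)⁻¹ * x⁻¹ ∈ G := by
    intro p
    have h1 : (p.1 : Γ) * ((p.2 : Γ) * x) * (p.1 : Γ)⁻¹ * x⁻¹ =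
        (p.1 : Γ) * (p.2 : Γ) * (x * (p.1 : Γ)⁻¹ * x⁻¹) := by group
    rw [h1]
    exact G.mul_mem (G.mul_mem p.1.2 (hmemC p.2).1) (hGn.conj_mem _ (G.inv_mem p.1.2) x)
  let f : G × C → G := fun p => ⟨_, hmem p⟩
  have hsurj : Function.Surjective f := by
    intro g
    obtain ⟨y, hy, c, hc, hcx, he⟩ := OddCharGroup.coset_conj G x hnorm hcop.symm g g.2
    have hcC : c ∈ C := hC ▸ (mem_centralizer_inf G).2 ⟨hc, hcx⟩
    refine ⟨(⟨y⁻¹, G.inv_mem hy⟩, ⟨c, hcC⟩), Subtype.ext ?_⟩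
    show y⁻¹ * (c * x) * y⁻¹⁻¹ * x⁻¹ = (g : Γ)
    rw [← he]; group
  choose r hr using hsurj
  have hsec : ∀ g : G, ((r g).1 : Γ) * (((r g).2 : Γ) * x) * ((r g).1 : Γ)⁻¹ = (g : Γ) * x :=
    fun g => mul_inv_eq_iff_eq_mul.mp (congrArg Subtype.val (hr g))
  have hPhi : ∀ (g : G) (z : C), (((r g).1 : Γ) * (z : Γ)⁻¹) *
      (((z : Γ) * (r g).2 * (z : Γ)⁻¹) * x) * (((r g).1 : Γ) * (z : Γ)⁻¹)⁻¹ = (g : Γ) * x := by
    intro g z
    rw [← hsec g]
    have hzc : (z : Γ)⁻¹ * x = x * (z : Γ)⁻¹ := Commute.inv_left (hmemC z).2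
    calc (((r g).1 : Γ) * (z : Γ)⁻¹) * (((z : Γ) * (r g).2 * (z : Γ)⁻¹) * x) *
          (((r g).1 : Γ) * (z : Γ)⁻¹)⁻¹
        = ((r g).1 : Γ) * (r g).2 * ((z : Γ)⁻¹ * x) * (z : Γ) * ((r g).1 : Γ)⁻¹ := by group
      _ = _ := by rw [hzc]; group
  let E : G × C → G × C := fun q =>
    (⟨((r q.1).1 : Γ) * (q.2 : Γ)⁻¹, G.mul_mem (r q.1).1.2 (G.inv_mem (hmemC q.2).1)⟩,
      q.2 * (r q.1).2 * q.2⁻¹)
  have hE : Function.Bijective E := by
    refine (Function.Injective.bijective_of_nat_card_le ?_ le_rfl)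
    intro a b hab
    obtain ⟨h1, h2⟩ := Prod.ext_iff.mp hab
    have h1' : ((r a.1).1 : Γ) * (a.2 : Γ)⁻¹ = ((r b.1).1 : Γ) * (b.2 : Γ)⁻¹ :=
      congrArg Subtype.val h1
    have h2' : (a.2 : Γ) * (r a.1).2 * (a.2 : Γ)⁻¹ = (b.2 : Γ) * (r b.1).2 * (b.2 : Γ)⁻¹ :=
      congrArg Subtype.val h2
    have hg : a.1 = b.1 := by
      apply Subtype.ext
      have ha := hPhi a.1 a.2
      rw [h1', h2', hPhi b.1 b.2] at ha
      exact (mul_right_cancel ha).symm
    refine Prod.ext hg (Subtype.ext ?_)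
    rw [hg] at h1'
    exact inv_injective (mul_left_cancel h1')
  have h1 := Function.Bijective.sum_comp hE (fun p : G × C => F ((p.2 : Γ) * x))
  have h2 : ∀ q : G × C, F (((E q).2 : Γ) * x) = F ((q.1 : Γ) * x) := by
    intro q
    rw [← hPhi q.1 q.2, hF]
    rfl
  rw [Finset.sum_congr rfl (fun q _ => h2 q), Fintype.sum_prod_type, Fintype.sum_prod_type] at h1
  simp only [Finset.sum_const, Finset.card_univ, ← Nat.card_eq_fintype_card, nsmul_eq_mul] at h1
  rw [← h1, Finset.mul_sum]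

/-- The classes of `G` fixed by `x` are the classes of `C_G(x)`. -/
theorem card_fixed_classes {x : Γ} (hcop : (Nat.card G).Coprime (orderOf x)) {C : Subgroup Γ}
    [Fintype C] (hC : C = G ⊓ Subgroup.centralizer ({x} : Set Γ)) :
    Nat.card {K : ConjClasses G // ∀ g : G, ConjClasses.mk g = K →
        IsConj (⟨x * g * x⁻¹, hGn.conj_mem g g.2 x⟩ : G) g} =
      Nat.card (ConjClasses C) := by
  classical
  have hCG : C ≤ G := hC ▸ inf_le_left
  have hmemC : ∀ c : C, (c : Γ) ∈ G ∧ (c : Γ) * x = x * c := fun c => by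
    have h := c.2
    simp only [hC] at h
    exact (mem_centralizer_inf G).1 h
  let ι : C →* G := Subgroup.inclusion hCG
  have hfix : ∀ K : ConjClasses C, ∀ g : G, ConjClasses.mk g = ConjClasses.map ι K →
      IsConj (⟨x * g * x⁻¹, hGn.conj_mem g g.2 x⟩ : G) g := by
    intro K g hg
    obtain ⟨c, rfl⟩ := ConjClasses.mk_surjective K
    obtain ⟨y, hy⟩ := isConj_iff.mp (ConjClasses.mk_eq_mk_iff_isConj.mp hg).symm
    have hyv : (y : Γ) * (c : Γ) * (y : Γ)⁻¹ = (g : Γ) := congrArg Subtype.val hy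
    refine isConj_iff.mpr
      ⟨y * ⟨x * (y : Γ)⁻¹ * x⁻¹, hGn.conj_mem _ (G.inv_mem y.2) x⟩, Subtype.ext ?_⟩
    show (y : Γ) * (x * (y : Γ)⁻¹ * x⁻¹) * (x * g * x⁻¹) *
      ((y : Γ) * (x * (y : Γ)⁻¹ * x⁻¹))⁻¹ = (g : Γ)
    conv_lhs => rw [← hyv]
    conv_rhs => rw [← hyv]
    have e : x * (c : Γ) * x⁻¹ = (c : Γ) := by rw [← (hmemC c).2, mul_inv_cancel_right]
    calc _ = (y : Γ) * (x * (c : Γ) * x⁻¹) * (y : Γ)⁻¹ := by group
      _ = _ := by rw [e]
  refine (Nat.card_congr (Equiv.ofBijective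
    (fun K => (⟨ConjClasses.map ι K, hfix K⟩ : {K : ConjClasses G // ∀ g : G, ConjClasses.mk g = K →
      IsConj (⟨x * g * x⁻¹, hGn.conj_mem g g.2 x⟩ : G) g})) ⟨?_, ?_⟩)).symm
  · intro K L hKL
    obtain ⟨c, rfl⟩ := ConjClasses.mk_surjective K
    obtain ⟨c', rfl⟩ := ConjClasses.mk_surjective L
    have h1 : ConjClasses.mk (ι c) = ConjClasses.mk (ι c') := congrArg Subtype.val hKL
    obtain ⟨y, hy⟩ := isConj_iff.mp (ConjClasses.mk_eq_mk_iff_isConj.mp h1)
    have hyv : (y : Γ) * (c : Γ) * (y : Γ)⁻¹ = (c' : Γ) := congrArg Subtype.val hy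
    let M : Subgroup Γ := G ⊓ Subgroup.centralizer ({(c : Γ)} : Set Γ)
    have hcx := (hmemC c).2
    have hxM : x ∈ Subgroup.normalizer (M : Set Γ) := by
      have hc2 : x ∈ Subgroup.centralizer ({(c : Γ)} : Set Γ) :=
        Subgroup.mem_centralizer_singleton_iff.2 hcx.symm
      rw [Subgroup.mem_normalizer_iff]
      intro h
      show (h ∈ G ∧ h ∈ Subgroup.centralizer ({(c : Γ)} : Set Γ)) ↔
        (x * h * x⁻¹ ∈ G ∧ x * h * x⁻¹ ∈ Subgroup.centralizer ({(c : Γ)} : Set Γ))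
      constructor
      · exact fun hh => ⟨hGn.conj_mem _ hh.1 x,
          Subgroup.mul_mem _ (Subgroup.mul_mem _ hc2 hh.2) (Subgroup.inv_mem _ hc2)⟩
      · intro hh
        have e1 := hGn.conj_mem _ hh.1 x⁻¹
        have e2 := Subgroup.mul_mem _ (Subgroup.mul_mem _ (Subgroup.inv_mem _ hc2) hh.2) hc2
        simp only [mul_assoc, inv_mul_cancel_left, inv_inv, inv_mul_cancel, mul_one] at e1 e2
        exact ⟨e1, e2⟩
    have hh : (y : Γ)⁻¹ * x * y * x⁻¹ ∈ M := by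
      refine ⟨?_, ?_⟩
      · have : (y : Γ)⁻¹ * x * y * x⁻¹ = (y : Γ)⁻¹ * (x * y * x⁻¹) := by group
        rw [this]
        exact G.mul_mem (G.inv_mem y.2) (hGn.conj_mem _ y.2 x)
      · refine Subgroup.mem_centralizer_singleton_iff.2 ?_
        have ec : (c : Γ) * x⁻¹ = x⁻¹ * c := Commute.inv_right hcx
        have ec' := (hmemC c').2
        have e1 : (y : Γ) * c = c' * y := mul_inv_eq_iff_eq_mul.mp hyv
        calc (y : Γ)⁻¹ * x * y * x⁻¹ * c = (y : Γ)⁻¹ * x * ((y : Γ) * c) * x⁻¹ := by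
              simp only [mul_assoc, ← ec]
          _ = (y : Γ)⁻¹ * (x * c') * y * x⁻¹ := by rw [e1]; group
          _ = ((y : Γ)⁻¹ * c' * y) * ((y : Γ)⁻¹ * x * y * x⁻¹) := by rw [← ec']; group
          _ = (c : Γ) * ((y : Γ)⁻¹ * x * y * x⁻¹) := by rw [← hyv]; group
    obtain ⟨u, hu, d, hd, hdx, he⟩ := OddCharGroup.coset_conj M x hxM
      (hcop.symm.coprime_dvd_right (Subgroup.card_dvd_of_le inf_le_left)) _ hh
    rw [inv_mul_cancel_right] at he
    obtain ⟨k, hk1, hk2⟩ := OddCharGroup.exists_exponent hcop.symm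
    have e3 := OddCharGroup.mul_pow_exponent hdx hk1
      ((Subgroup.orderOf_dvd_natCard G hd.1).trans hk2)
    rw [← he, conj_pow] at e3
    have e4 : ((y : Γ)⁻¹ * x * y) ^ k = (y : Γ)⁻¹ * x * y := by
      have h5 : x ^ k = x := by
        conv_rhs => rw [← pow_one x]
        exact pow_eq_pow_iff_modEq.mpr hk1
      calc ((y : Γ)⁻¹ * x * y) ^ k = ((y : Γ)⁻¹ * x * (y : Γ)⁻¹⁻¹) ^ k := by rw [inv_inv]
        _ = _ := by rw [conj_pow, h5, inv_inv]
    rw [e4] at e3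
    have hu2 : u * (c : Γ) = (c : Γ) * u := Subgroup.mem_centralizer_singleton_iff.1 hu.2
    have hz : (y : Γ) * u⁻¹ * x = x * ((y : Γ) * u⁻¹) := by
      calc (y : Γ) * u⁻¹ * x = (y : Γ) * u⁻¹ * (u * ((y : Γ)⁻¹ * x * y) * u⁻¹) := by rw [e3]
        _ = _ := by group
    have hzC : (y : Γ) * u⁻¹ ∈ C := hC ▸ (mem_centralizer_inf G).2
      ⟨G.mul_mem y.2 (G.inv_mem hu.1), hz⟩
    refine ConjClasses.mk_eq_mk_iff_isConj.mpr (isConj_iff.mpr ⟨⟨_, hzC⟩, Subtype.ext ?_⟩)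
    show (y : Γ) * u⁻¹ * (c : Γ) * ((y : Γ) * u⁻¹)⁻¹ = (c' : Γ)
    rw [← hyv]
    calc _ = (y : Γ) * (u⁻¹ * ((c : Γ) * u)) * (y : Γ)⁻¹ := by group
      _ = _ := by rw [← hu2, inv_mul_cancel_left]
  · rintro ⟨K, hK⟩
    obtain ⟨g, rfl⟩ := ConjClasses.mk_surjective K
    obtain ⟨w, hw⟩ := isConj_iff.mp (hK g rfl)
    have hwv : (w : Γ) * (x * g * x⁻¹) * (w : Γ)⁻¹ = (g : Γ) := congrArg Subtype.val hw
    have hnorm : x ∈ Subgroup.normalizer (G : Set Γ) := by
      rw [Subgroup.normalizer_eq_top]; exact Subgroup.mem_top x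
    obtain ⟨y, hy, d, hd, hdx, he⟩ := OddCharGroup.coset_conj G x hnorm hcop.symm w w.2
    have hcomm : Commute (d * x) (y * g * y⁻¹) := by
      rw [← he]
      show y * (w * x) * y⁻¹ * (y * g * y⁻¹) = y * g * y⁻¹ * (y * (w * x) * y⁻¹)
      have e : (w : Γ) * x * g = g * ((w : Γ) * x) := by
        calc (w : Γ) * x * g = (w : Γ) * (x * g * x⁻¹) * (w : Γ)⁻¹ * ((w : Γ) * x) := by group
          _ = _ := by rw [hwv]
      calc _ = y * ((w : Γ) * x * g) * y⁻¹ := by group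
        _ = _ := by rw [e]; group
    obtain ⟨k, hk1, hk2⟩ := OddCharGroup.exists_exponent hcop.symm
    have e3 := OddCharGroup.mul_pow_exponent hdx hk1 ((Subgroup.orderOf_dvd_natCard G hd).trans hk2)
    have h4 : Commute x (y * g * y⁻¹) := e3 ▸ hcomm.pow_left k
    have hgC : y * g * y⁻¹ ∈ C := hC ▸ (mem_centralizer_inf G).2
      ⟨G.mul_mem (G.mul_mem hy g.2) (G.inv_mem hy), h4.eq.symm⟩
    refine ⟨ConjClasses.mk ⟨_, hgC⟩, Subtype.ext ?_⟩
    refine ConjClasses.mk_eq_mk_iff_isConj.mpr (isConj_iff.mpr ⟨(⟨y, hy⟩ : G)⁻¹, Subtype.ext ?_⟩)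
    show y⁻¹ * (y * g * y⁻¹) * y⁻¹⁻¹ = (g : Γ)
    group

section det

variable {Δ : Type u} [Group Δ] [Finite Δ]

/-- The determinantal order divides the group order. -/
theorem detOrder_dvd_card {χ : Δ → ℂ} (hχ : IsCharacter Δ χ) :
    Cfsg.detOrder χ ∣ Nat.card Δ := by
  obtain ⟨d, ρ, rfl⟩ := hχ
  have h : Cfsg.detChar ρ.character =
      fun g => ((((CharExtension.detU d).comp (MonoidHom.toHomUnits ρ)) g : ℂˣ) : ℂ) :=
    funext fun g => CharExtension.detChar_chr (MonoidHom.toHomUnits ρ) g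
  rw [Cfsg.detOrder, h, CharExtension.orderOf_coe, orderOf_dvd_iff_pow_eq_one]
  refine MonoidHom.ext fun g => ?_
  rw [MonoidHom.pow_apply, ← map_pow, pow_card_eq_one', map_one, MonoidHom.one_apply]

/-- The determinantal order of a Galois twist divides that of the character. -/
theorem detOrder_pow_dvd {k : ℕ} (hk : k.Coprime (Nat.card Δ)) {χ : Δ → ℂ} (hχ : IsCharacter Δ χ) :
    Cfsg.detOrder (fun g => χ (g ^ k)) ∣ Cfsg.detOrder χ := by
  obtain ⟨σ, hσ⟩ := GaloisChar80.exists_aut (Nat.card_pos (α := Δ)) hk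
  obtain ⟨d, ρ, rfl⟩ := hχ
  let f : Module.End ℂ (Fin d → ℂ) → Matrix (Fin d) (Fin d) ℂ := LinearMap.toMatrix'
  let ρ' : Representation ℂ Δ (Fin d → ℂ) :=
    { toFun := fun g => Matrix.toLin' ((f (ρ g)).map σ)
      map_one' := by
        have h1 : ρ 1 = LinearMap.id := map_one ρ
        show Matrix.toLin' _ = _
        simp only [f]
        rw [h1, LinearMap.toMatrix'_id, Matrix.map_one _ (map_zero σ) (map_one σ), Matrix.toLin'_one]
        rfl
      map_mul' := fun a b => by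
        show Matrix.toLin' _ = Matrix.toLin' _ * Matrix.toLin' _
        simp only [f]
        rw [map_mul, LinearMap.toMatrix'_mul, Matrix.map_mul, Matrix.toLin'_mul]
        rfl }
  have hroot : ∀ g : Δ, σ (LinearMap.det (ρ g)) = LinearMap.det (ρ g) ^ k := fun g => hσ _ (by
    rw [← map_pow, ← map_pow, pow_card_eq_one', map_one, map_one])
  have hdet : ∀ g, LinearMap.det (ρ' g) = LinearMap.det (ρ g) ^ k := by
    intro g
    rw [← hroot g, ← LinearMap.det_toMatrix' (ρ g), RingEquiv.map_det]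
    show LinearMap.det (Matrix.toLin' ((f (ρ g)).map σ)) = _
    rw [LinearMap.det_toLin']
    rfl
  have hchar : ρ'.character = fun g => ρ.character (g ^ k) := by
    funext g
    obtain ⟨b, μ, -, hμ, -, hpow⟩ := exists_rep_eigenbasis ρ g
    have h1 : ρ.character g = ∑ i, μ i := by simpa using hpow 1
    have h2 : ρ.character (g ^ k) = σ (ρ.character g) := by
      rw [h1, hpow k, map_sum]
      refine Finset.sum_congr rfl fun i _ => (hσ _ ?_).symm
      obtain ⟨m, hm⟩ := orderOf_dvd_natCard g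
      rw [hm, pow_mul, hμ, one_pow]
    rw [h2]
    show LinearMap.trace ℂ _ (Matrix.toLin' _) = σ (LinearMap.trace ℂ _ (ρ g))
    rw [LinearMap.trace_eq_matrix_trace ℂ (Pi.basisFun ℂ (Fin d)),
      LinearMap.trace_eq_matrix_trace ℂ (Pi.basisFun ℂ (Fin d)) (ρ g)]
    simp [f, Matrix.trace, LinearMap.toMatrix'_toLin', LinearMap.toMatrix_eq_toMatrix', map_sum]
  rw [← hchar]
  have e1 : Cfsg.detChar ρ'.character = Cfsg.detChar ρ.character ^ k := by
    funext g
    rw [Pi.pow_apply, show ρ'.character = CharExtension.chr (MonoidHom.toHomUnits ρ') from rfl,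
      show ρ.character = CharExtension.chr (MonoidHom.toHomUnits ρ) from rfl,
      CharExtension.detChar_chr, CharExtension.detChar_chr]
    exact hdet g
  rw [Cfsg.detOrder, Cfsg.detOrder, e1]
  exact orderOf_pow_dvd k

end det

section main

variable {G} {s : Γ}

/-- The setting of a cyclic coprime action. -/
structure Setup (G : Subgroup Γ) (s : Γ) : Prop where
  cop : (Nat.card G).Coprime (orderOf s)
  top : G ⊔ Subgroup.zpowers s = ⊤

theorem Setup.cop_of_mem (h : Setup G s) {x : Γ} (hx : x ∈ Subgroup.zpowers s) :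
    (Nat.card G).Coprime (orderOf x) :=
  h.cop.coprime_dvd_right (orderOf_dvd_of_mem_zpowers hx)

theorem Setup.exists_pow (h : Setup G s) (y : Γ) : ∃ g ∈ G, ∃ m : ℕ, g * s ^ m = y := by
  have hy : y ∈ G ⊔ Subgroup.zpowers s := h.top ▸ Subgroup.mem_top y
  obtain ⟨g, hg, t, ht, e⟩ := Subgroup.mem_sup_of_normal_left.1 hy
  obtain ⟨m, rfl⟩ := mem_powers_iff_mem_zpowers.2 ht
  exact ⟨g, hg, m, e⟩

theorem Setup.pow_mem_iff (h : Setup G s) (m : ℕ) : s ^ m ∈ G ↔ orderOf s ∣ m := by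
  refine ⟨fun hm => ?_, fun hm => by rw [orderOf_dvd_iff_pow_eq_one.1 hm]; exact G.one_mem⟩
  rw [orderOf_dvd_iff_pow_eq_one, ← orderOf_eq_one_iff]
  exact Nat.eq_one_of_dvd_coprimes h.cop (Subgroup.orderOf_dvd_natCard G hm) (orderOf_pow_dvd m)

/-- A faithful linear character of `Γ / G`. -/
theorem Setup.exists_omega (h : Setup G s) :
    ∃ ω : Γ →* ℂˣ, (∀ y, ω y = 1 ↔ y ∈ G) ∧ IsPrimitiveRoot (ω s) (orderOf s) := by
  have : NeZero (orderOf s) := ⟨(orderOf_pos s).ne'⟩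
  obtain ⟨ζ₀, hζ₀⟩ := (⟨_, Complex.isPrimitiveRoot_exp (orderOf s) (orderOf_pos s).ne'⟩ :
    ∃ z : ℂ, IsPrimitiveRoot z (orderOf s))
  obtain ⟨ζ, rfl⟩ := hζ₀.isUnit (orderOf_pos s).ne'
  have hζ : IsPrimitiveRoot ζ (orderOf s) := IsPrimitiveRoot.coe_units_iff.1 hζ₀
  choose gp hgp m hm using h.exists_pow
  have key : ∀ (y : Γ) (g : Γ) (j : ℕ), g ∈ G → g * s ^ j = y → ζ ^ m y = ζ ^ j := by
    intro y g j hg hj
    rw [pow_eq_pow_iff_modEq, ← hζ.eq_orderOf]
    rcases le_total (m y) j with hle | hle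
    · refine (Nat.modEq_iff_dvd' hle).2 ((h.pow_mem_iff _).1 ?_)
      have e := hj.trans (hm y).symm
      rw [← Nat.sub_add_cancel hle, pow_add, ← mul_assoc] at e
      rw [eq_inv_mul_of_mul_eq (mul_right_cancel e)]
      exact G.mul_mem (G.inv_mem hg) (hgp y)
    · refine ((Nat.modEq_iff_dvd' hle).2 ((h.pow_mem_iff _).1 ?_)).symm
      have e := (hm y).trans hj.symm
      rw [← Nat.sub_add_cancel hle, pow_add, ← mul_assoc] at e
      rw [eq_inv_mul_of_mul_eq (mul_right_cancel e)]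
      exact G.mul_mem (G.inv_mem (hgp y)) hg
  refine ⟨MonoidHom.mk' (fun y => ζ ^ m y) (fun a b => ?_), fun y => ⟨fun hy => ?_, fun hy => ?_⟩, ?_⟩
  · rw [← pow_add]
    refine key (a * b) (gp a * (s ^ m a * gp b * (s ^ m a)⁻¹)) (m a + m b)
      (G.mul_mem (hgp a) (hGn.conj_mem _ (hgp b) _)) ?_
    conv_rhs => rw [← hm a, ← hm b]
    rw [pow_add]; group
  · have h1 : orderOf s ∣ m y := hζ.dvd_of_pow_eq_one _ hy
    rw [← hm y]
    exact G.mul_mem (hgp y) ((h.pow_mem_iff _).2 h1)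
  · show ζ ^ m y = 1
    rw [key y y 0 hy (by rw [pow_zero, mul_one]), pow_zero]
  · show IsPrimitiveRoot (ζ ^ m s) _
    rw [key s 1 1 G.one_mem (by rw [pow_one, one_mul]), pow_one]
    exact hζ

theorem Setup.omega_pow (h : Setup G s) {ω : Γ →* ℂˣ} (hω : ∀ y, ω y = 1 ↔ y ∈ G) (y : Γ) :
    ω y ^ orderOf s = 1 := by
  obtain ⟨g, hg, m, rfl⟩ := h.exists_pow y
  rw [map_mul, (hω g).2 hg, one_mul, map_pow, ← pow_mul, mul_comm, pow_mul, ← map_pow,
    pow_orderOf_eq_one, map_one, one_pow]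

theorem Setup.index_eq (h : Setup G s) : G.index = orderOf s := by
  obtain ⟨ω, hω, hprim⟩ := h.exists_omega
  have hker : ω.ker = G := Subgroup.ext fun y => by rw [MonoidHom.mem_ker]; exact hω y
  have hr : ω.range = Subgroup.zpowers (ω s) := by
    refine le_antisymm ?_ (Subgroup.zpowers_le.2 ⟨s, rfl⟩)
    rintro _ ⟨y, rfl⟩
    obtain ⟨g, hg, m, rfl⟩ := h.exists_pow y
    rw [map_mul, (hω g).2 hg, one_mul, map_pow]
    exact pow_mem (Subgroup.mem_zpowers _) m
  rw [← hker, Subgroup.index_ker, hr, Nat.card_zpowers, ← hprim.eq_orderOf]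

theorem Setup.card_eq (h : Setup G s) : Nat.card Γ = Nat.card G * orderOf s := by
  rw [← h.index_eq, G.card_mul_index]

/-- Invariance under `s` gives invariance under all of `Γ`. -/
theorem Setup.inertia_eq_top (h : Setup G s) {θ : G → ℂ} (hθ : IsClassFunction G θ)
    (hs : ∀ g : G, θ ⟨s * g * s⁻¹, hGn.conj_mem g g.2 s⟩ = θ g) :
    CharInduced.inertia G θ = ⊤ := by
  rw [eq_top_iff, ← h.top, sup_le_iff, Subgroup.zpowers_le]
  exact ⟨CharInduced.le_inertia G hθ, (CharInduced.mem_inertia_iff G).2 hs⟩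

/-- The canonical extension. -/
theorem Setup.exists_canonical (h : Setup G s) {θ : G → ℂ} (hθ : IsIrrCharacter G θ)
    (hs : ∀ g : G, θ ⟨s * g * s⁻¹, hGn.conj_mem g g.2 s⟩ = θ g) :
    ∃ χ : Γ → ℂ, (IsIrrCharacter Γ χ ∧ (∀ g : G, χ g = θ g) ∧
      (Cfsg.detOrder χ).Coprime (orderOf s)) ∧ ∀ χ' : Γ → ℂ, IsIrrCharacter Γ χ' →
      (∀ g : G, χ' g = θ g) → (Cfsg.detOrder χ').Coprime (orderOf s) → χ' = χ := by
  obtain ⟨d, -, hd, hdvd⟩ := CharBasicInt.exists_apply_one_dvd_card hθ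
  have hinv : ∀ (y : Γ) (g : G), θ ⟨y * g * y⁻¹, hGn.conj_mem g g.2 y⟩ = θ g := fun y =>
    (CharInduced.mem_inertia_iff G).1
      ((h.inertia_eq_top (CharInduced.isClassFunction_irr hθ) hs).symm ▸ Subgroup.mem_top y)
  have hcop : Nat.Coprime G.index (Cfsg.detOrder θ * d) := by
    rw [h.index_eq]
    exact (h.cop.symm.coprime_dvd_right
      (detOrder_dvd_card (isCharacter_of_isIrrCharacter hθ))).mul_right
      (h.cop.symm.coprime_dvd_right hdvd)
  obtain ⟨χ, ⟨h1, h2, h3⟩, hu⟩ := Cfsg.Agent.S0867.result G θ hθ hinv d hd hcop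
  rw [h.index_eq] at hu hcop
  exact ⟨χ, ⟨h1, h2, h3 ▸ hcop.coprime_mul_right_right.symm⟩,
    fun χ' a b c => hu χ' a b c.symm⟩

/-- Two extensions with coprime determinantal order agree. -/
theorem Setup.canonical_unique (h : Setup G s) {θ : G → ℂ} (hθ : IsIrrCharacter G θ)
    {χ χ' : Γ → ℂ} (hχ : IsIrrCharacter Γ χ) (hχ' : IsIrrCharacter Γ χ')
    (e : ∀ g : G, χ g = θ g) (e' : ∀ g : G, χ' g = θ g)
    (c : (Cfsg.detOrder χ).Coprime (orderOf s)) (c' : (Cfsg.detOrder χ').Coprime (orderOf s)) :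
    χ = χ' := by
  obtain ⟨χ₀, -, hu⟩ := h.exists_canonical hθ (fun g => by
    rw [← e, ← e]; exact CharInduced.isClassFunction_irr hχ _ _)
  rw [hu χ hχ e c, hu χ' hχ' e' c']

/-- Powers prime to `|G|` of a generator act trivially on the values of a canonical extension. -/
theorem Setup.apply_pow (h : Setup G s) {θ : G → ℂ} (hθ : IsIrrCharacter G θ) {χ : Γ → ℂ}
    (hχ : IsIrrCharacter Γ χ) (e : ∀ g : G, χ g = θ g)
    (c : (Cfsg.detOrder χ).Coprime (orderOf s)) {x x' : Γ} (hx : x ∈ Subgroup.zpowers s)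
    (hxx : Subgroup.zpowers x' = Subgroup.zpowers x) {g : Γ} (hg : g ∈ G) (hgx : g * x = x * g) :
    χ (g * x') = χ (g * x) := by
  obtain ⟨m, hm, rfl⟩ := (CharBasicCyclic.gens_eq_image x x').1 (CharBasicCyclic.mem_gens.2 hxx)
  have hdvd : orderOf x ∣ orderOf s := orderOf_dvd_of_mem_zpowers hx
  have : NeZero (orderOf s) := ⟨(orderOf_pos s).ne'⟩
  obtain ⟨u, hu⟩ := ZMod.unitsMap_surjective hdvd (ZMod.unitOfCoprime m hm)
  have hm' : ((u : ZMod (orderOf s)).val).Coprime (orderOf s) := ZMod.val_coe_unit_coprime u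
  have hmod : (u : ZMod (orderOf s)).val ≡ m [MOD orderOf x] := by
    rw [← ZMod.natCast_eq_natCast_iff, ← ZMod.cast_eq_val]
    exact congrArg Units.val hu
  obtain ⟨k, hk1, hk2⟩ := Nat.chineseRemainder h.cop 1 (u : ZMod (orderOf s)).val
  have hk : k.Coprime (Nat.card Γ) := by
    rw [h.card_eq]
    refine Nat.Coprime.mul_right ?_ ?_
    · rw [Nat.coprime_iff_gcd_eq_one, Nat.ModEq.gcd_eq hk1]
      simp
    · rw [Nat.coprime_iff_gcd_eq_one, Nat.ModEq.gcd_eq hk2]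
      exact hm'
  have hpow : (g * x) ^ k = g * x ^ m := by
    rw [Commute.mul_pow hgx k]
    congr 1
    · conv_rhs => rw [← pow_one g]
      exact pow_eq_pow_iff_modEq.mpr (hk1.of_dvd (Subgroup.orderOf_dvd_natCard G hg))
    · exact pow_eq_pow_iff_modEq.mpr ((hk2.of_dvd hdvd).trans hmod)
  have htw := h.canonical_unique hθ (GaloisChar80.isIrrCharacter_pow hk hχ) hχ
    (fun a : G => by
      rw [← e]
      congr 1
      conv_rhs => rw [← pow_one (a : Γ)]
      exact pow_eq_pow_iff_modEq.mpr (hk1.of_dvd (Subgroup.orderOf_dvd_natCard G a.2)))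
    e (c.coprime_dvd_left (detOrder_pow_dvd hk (isCharacter_of_isIrrCharacter hχ))) c
  rw [← hpow]
  exact congrFun htw (g * x)

theorem geom_root {n : ℕ} {z : ℂ} (hz : z ^ n = 1) [Decidable (z = 1)] :
    ∑ j ∈ Finset.range n, z ^ j = if z = 1 then (n : ℂ) else 0 := by
  split_ifs with h1
  · simp [h1]
  · rw [geom_sum_eq h1, hz, sub_self, zero_div]

/-- Orthogonality of canonical extensions on each coset. -/
theorem Setup.coset_orth (h : Setup G s) {θ φ : G → ℂ} (hθ : IsIrrCharacter G θ) {χ ψ : Γ → ℂ}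
    (hχ : IsIrrCharacter Γ χ) (hψ : IsIrrCharacter Γ ψ) (eχ : ∀ g : G, χ g = θ g)
    (eψ : ∀ g : G, ψ g = φ g) (cχ : (Cfsg.detOrder χ).Coprime (orderOf s))
    (cψ : (Cfsg.detOrder ψ).Coprime (orderOf s)) (x : Γ) [Decidable (θ = φ)] :
    ∑ g : G, χ ((g : Γ) * x) * conj (ψ ((g : Γ) * x)) =
      if θ = φ then (Nat.card G : ℂ) else 0 := by
  classical
  obtain ⟨ω, hω, hprim⟩ := h.exists_omega
  set n := orderOf s
  have hωn : ∀ y, ((ω y : ℂ)) ^ n = 1 := fun y => by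
    rw [← Units.val_pow_eq_pow_val, h.omega_pow hω, Units.val_one]
  have hnpos : 0 < n := orderOf_pos s
  have hconj : ∀ y, conj (ω y : ℂ) = (ω y : ℂ)⁻¹ := fun y =>
    (Complex.inv_eq_conj (norm_linear ω y)).symm
  let z : Γ → ℂ := fun y => (ω x : ℂ) * conj (ω y : ℂ)
  have hz : ∀ y, z y ^ n = 1 := fun y => by
    simp only [z, mul_pow, hωn, one_mul, ← map_pow, map_one]
  have hz1 : ∀ y, z y = 1 ↔ y * x⁻¹ ∈ G := fun y => by
    rw [show z y = (ω x : ℂ) * (ω y : ℂ)⁻¹ from by simp only [z, hconj],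
      mul_inv_eq_one₀ (Units.ne_zero _), Units.val_inj, ← hω, map_mul, map_inv, mul_inv_eq_one]
    exact eq_comm
  have hlam : ∀ j : ℕ, IsIrrCharacter Γ (fun y => ψ y * ((ω ^ j) y : ℂ)) := fun j => by
    exact isIrrCharacter_mul_linear hψ (ω ^ j)
  have hsum : ∑ j ∈ Finset.range n, (ω x : ℂ) ^ j *
      ((Nat.card Γ : ℂ) * classInner χ (fun y => ψ y * ((ω ^ j) y : ℂ))) =
      (n : ℂ) * ∑ g : G, χ ((g : Γ) * x) * conj (ψ ((g : Γ) * x)) := by
    simp only [CharBasicOrth.card_mul_classInner, Finset.mul_sum]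
    rw [Finset.sum_comm]
    have : ∀ y : Γ, ∑ j ∈ Finset.range n,
        (ω x : ℂ) ^ j * (χ y * conj (ψ y * ((ω ^ j) y : ℂ))) =
        if y * x⁻¹ ∈ G then (n : ℂ) * (χ y * conj (ψ y)) else 0 := fun y => by
      have e : ∀ j ∈ Finset.range n, (ω x : ℂ) ^ j * (χ y * conj (ψ y * ((ω ^ j) y : ℂ))) =
          χ y * conj (ψ y) * z y ^ j := fun j _ => by
        simp only [z, MonoidHom.pow_apply, Units.val_pow_eq_pow_val, map_mul, map_pow]
        ring
      rw [Finset.sum_congr rfl e, ← Finset.mul_sum, geom_root (hz y)]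
      by_cases hy : y * x⁻¹ ∈ G
      · rw [if_pos ((hz1 y).2 hy), if_pos hy, mul_comm]
      · rw [if_neg (fun e => hy ((hz1 y).1 e)), if_neg hy, mul_zero]
    rw [Finset.sum_congr rfl (fun y _ => this y), ← Finset.sum_filter]
    refine (Finset.sum_nbij' (fun g : G => (g : Γ) * x)
      (fun y => if hy : y * x⁻¹ ∈ G then (⟨y * x⁻¹, hy⟩ : G) else 1) ?_ ?_ ?_ ?_ ?_).symm
    · intro g _; simp
    · intro y _; simp
    · intro g _; simp
    · intro y hy
      simp only [Finset.mem_filter, Finset.mem_univ, true_and] at hy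
      simp [hy]
    · intro g _; rfl
  have hdelta : ∀ j ∈ Finset.range n,
      classInner χ (fun y => ψ y * ((ω ^ j) y : ℂ)) = if θ = φ ∧ j = 0 then 1 else 0 := by
    intro j hj
    by_cases he : χ = fun y => ψ y * ((ω ^ j) y : ℂ)
    · have hθφ : θ = φ := funext fun g => by
        rw [← eχ, ← eψ, he]
        simp [MonoidHom.pow_apply, (hω (g : Γ)).2 g.2]
      have hψχ : ψ = χ := h.canonical_unique hθ hψ hχ (hθφ ▸ eψ) eχ cψ cχ
      subst hψχ
      have hone : ∀ g : G, ((ω ^ j) (g : Γ) : ℂ) = ((ω ^ j) (1 : Γ) : ℂ) := fun g => by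
        simp [MonoidHom.pow_apply, (hω (g : Γ)).2 g.2]
      have h1 := (CharGallagher.bijOn_one G hθ hψ eχ).injOn
        ⟨isIrrCharacter_linear (ω ^ j), hone⟩ ⟨isIrrCharacter_one, fun _ => rfl⟩
        (funext fun y => by
          show ((ω ^ j) y : ℂ) * ψ y = 1 * ψ y
          rw [one_mul]
          exact (mul_comm _ _).trans (congrFun he y).symm)
      have h2 : ω s ^ j = 1 := Units.ext (by
        have h3 := congrFun h1 s
        rwa [MonoidHom.pow_apply] at h3)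
      have hj0 : j = 0 := Nat.eq_zero_of_dvd_of_lt (hprim.dvd_of_pow_eq_one j h2)
        (Finset.mem_range.1 hj)
      rw [if_pos ⟨hθφ, hj0⟩, ← he, classInner_irr_self hψ]
    · rw [classInner_irr_ne hχ (hlam j) he, if_neg]
      rintro ⟨rfl, rfl⟩
      refine he ?_
      rw [← h.canonical_unique hθ hχ hψ eχ eψ cχ cψ]
      simp
  rw [Finset.sum_congr rfl (fun j hj => by rw [hdelta j hj])] at hsum
  refine mul_left_cancel₀ (Nat.cast_ne_zero.2 hnpos.ne' : (n : ℂ) ≠ 0) (hsum.symm.trans ?_)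
  rw [Finset.sum_eq_single 0 (fun j _ hj => by simp [hj])
    (fun h0 => absurd (Finset.mem_range.2 hnpos) h0), h.card_eq]
  by_cases hθφ : θ = φ
  · simp [hθφ, n, mul_comm]
  · simp [hθφ]

variable {C : Subgroup Γ} [Fintype C]

/-- The coefficients of `χ` on `C × ⟨s⟩`: the inner products of `c ↦ χ (c x)` with the irreducible
characters of `C` are the values at `x` of one character of `⟨s⟩`. -/
theorem Setup.exists_coeff (h : Setup G s) {ω : Γ →* ℂˣ} (hω : ∀ y, ω y = 1 ↔ y ∈ G)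
    (hCs : ∀ c : C, (c : Γ) * s = s * c) {χ : Γ → ℂ} (hχ : IsCharacter Γ χ) {β : C → ℂ}
    (hβ : IsCharacter C β) :
    ∃ a : ℕ → ℕ, ∀ x ∈ Subgroup.zpowers s,
      classInner (fun c : C => χ ((c : Γ) * x)) β =
        ∑ i ∈ Finset.range (orderOf s), (a i : ℂ) * (ω x : ℂ) ^ i := by
  classical
  set S := Subgroup.zpowers s
  let μ : C × S →* Γ := MonoidHom.noncommCoprod C.subtype S.subtype fun c t => by
    obtain ⟨m, hm⟩ := Subgroup.mem_zpowers_iff.1 t.2
    show Commute (c : Γ) (t : Γ)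
    rw [← hm]
    exact Commute.zpow_right (hCs c) m
  have hth : ∀ i : ℕ, IsCharacter (C × S)
      (fun p => β p.1 * (((ω ^ i).comp (S.subtype.comp (MonoidHom.snd C S))) p : ℂ)) := fun i =>
    isCharacter_mul (isCharacter_comap (MonoidHom.fst C S) hβ) (isCharacter_linear _)
  choose a ha using fun i => classInner_isCharacter (isCharacter_comap μ hχ) (hth i)
  refine ⟨a, fun x hx => ?_⟩
  have hωn : ∀ y, ((ω y : ℂ)) ^ orderOf s = 1 := fun y => by
    rw [← Units.val_pow_eq_pow_val, h.omega_pow hω, Units.val_one]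
  have hkey : ∀ t : S, ∑ i ∈ Finset.range (orderOf s), ((ω x : ℂ) * conj (ω (t : Γ) : ℂ)) ^ i =
      if t = ⟨x, hx⟩ then (orderOf s : ℂ) else 0 := by
    intro t
    rw [geom_root (by rw [mul_pow, hωn, one_mul, ← map_pow, hωn, map_one])]
    refine if_congr ?_ rfl rfl
    rw [← Complex.inv_eq_conj (norm_linear ω (t : Γ)), mul_inv_eq_one₀ (Units.ne_zero _),
      Units.val_inj]
    refine ⟨fun e => Subtype.ext ?_, fun e => by rw [e]⟩
    obtain ⟨m, hm⟩ := mem_powers_iff_mem_zpowers.2 (S.mul_mem t.2 (S.inv_mem hx))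
    have h1 : s ^ m ∈ G := by
      rw [← hω]
      show ω (s ^ m) = 1
      rw [show s ^ m = (t : Γ) * x⁻¹ from hm, map_mul, map_inv, e, mul_inv_cancel]
    rw [h.pow_mem_iff, orderOf_dvd_iff_pow_eq_one] at h1
    exact mul_inv_eq_one.1 ((show s ^ m = (t : Γ) * x⁻¹ from hm).symm.trans h1)
  symm
  calc ∑ i ∈ Finset.range (orderOf s), (a i : ℂ) * (ω x : ℂ) ^ i
      = ((Nat.card (C × S) : ℂ))⁻¹ * ∑ p : C × S, χ ((p.1 : Γ) * (p.2 : Γ)) * conj (β p.1) *
          ∑ i ∈ Finset.range (orderOf s), ((ω x : ℂ) * conj (ω (p.2 : Γ) : ℂ)) ^ i := by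
        simp only [← ha, classInner, Finset.mul_sum, Finset.sum_mul]
        rw [Finset.sum_comm]
        refine Finset.sum_congr rfl fun p _ => Finset.sum_congr rfl fun i _ => ?_
        simp only [MonoidHom.comp_apply, MonoidHom.pow_apply, MonoidHom.coe_snd, Subgroup.coe_subtype,
          Units.val_pow_eq_pow_val, map_mul, map_pow, Function.comp_apply,
          MonoidHom.noncommCoprod_apply, μ]
        ring
    _ = classInner (fun c : C => χ ((c : Γ) * x)) β := by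
        simp only [hkey, mul_ite, mul_zero, Fintype.sum_prod_type, Finset.sum_ite_eq', Finset.mem_univ,
          if_true]
        rw [Nat.card_prod, Nat.card_zpowers, classInner, ← Finset.sum_mul, Nat.cast_mul]
        field_simp [Nat.cast_ne_zero.2 (orderOf_pos s).ne']

theorem exists_int_of_integral_div {z : ℤ} {b : ℕ}
    (h : IsIntegral ℤ ((z : ℂ) / b)) : ∃ w : ℤ, (z : ℂ) / b = w := by
  have h1 : ((z : ℂ) / b) = algebraMap ℚ ℂ ((z : ℚ) / b) := by simp
  rw [h1, isIntegral_algebraMap_iff (algebraMap ℚ ℂ).injective] at h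
  obtain ⟨w, hw⟩ := IsIntegrallyClosed.isIntegral_iff.1 h
  refine ⟨w, ?_⟩
  rw [h1, ← hw]
  simp

/-- The inner products are rational integers. -/
theorem Setup.classInner_int (h : Setup G s) (hCG : ∀ c : C, (c : Γ) ∈ G)
    (hCs : ∀ c : C, (c : Γ) * s = s * c) {θ : G → ℂ} (hθ : IsIrrCharacter G θ) {χ : Γ → ℂ}
    (hχ : IsIrrCharacter Γ χ) (e : ∀ g : G, χ g = θ g)
    (c : (Cfsg.detOrder χ).Coprime (orderOf s)) {β : C → ℂ} (hβ : IsCharacter C β)
    {x : Γ} (hx : x ∈ Subgroup.zpowers s) :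
    ∃ w : ℤ, classInner (fun c : C => χ ((c : Γ) * x)) β = w := by
  classical
  obtain ⟨ω, hω, -⟩ := h.exists_omega
  obtain ⟨a, ha⟩ := h.exists_coeff hω hCs (isCharacter_of_isIrrCharacter hχ) hβ
  set b := classInner (fun c : C => χ ((c : Γ) * x)) β with hb
  have hsame : ∀ y ∈ CharBasicCyclic.gens (Subgroup.zpowers x),
      ∑ i ∈ Finset.range (orderOf s), (a i : ℂ) * (ω y : ℂ) ^ i = b := by
    intro y hy
    rw [CharBasicCyclic.mem_gens] at hy
    have hyS : y ∈ Subgroup.zpowers s :=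
      Subgroup.zpowers_le.2 hx (hy ▸ Subgroup.mem_zpowers y)
    rw [← ha y hyS, hb]
    congr 1
    funext d
    obtain ⟨m, hm⟩ := Subgroup.mem_zpowers_iff.1 hx
    exact h.apply_pow hθ hχ e c hx hy (hCG d) (hm ▸ (Commute.zpow_right (hCs d) m).eq)
  have hint : ∀ i : ℕ, ∃ z : ℤ,
      ∑ y ∈ CharBasicCyclic.gens (Subgroup.zpowers x), (ω y : ℂ) ^ i = z := fun i =>
    CharBasicCyclic.exists_int_sum_gens _ ((Units.coeHom ℂ).comp ((ω ^ i).comp
      (Subgroup.zpowers x).subtype)) (fun y => (ω y : ℂ) ^ i) fun y => by simp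
  choose z hz using hint
  have hpos : 0 < (CharBasicCyclic.gens (Subgroup.zpowers x)).card :=
    Finset.card_pos.2 ⟨x, CharBasicCyclic.mem_gens.2 rfl⟩
  have h1 : ((∑ i ∈ Finset.range (orderOf s), (a i : ℤ) * z i : ℤ) : ℂ) =
      ((CharBasicCyclic.gens (Subgroup.zpowers x)).card : ℂ) * b := by
    rw [← nsmul_eq_mul, ← Finset.sum_const, ← Finset.sum_congr rfl hsame, Finset.sum_comm,
      Int.cast_sum]
    refine Finset.sum_congr rfl fun i _ => ?_
    rw [← Finset.mul_sum, hz, Int.cast_mul, Int.cast_natCast]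
  have h2 : b = ((∑ i ∈ Finset.range (orderOf s), (a i : ℤ) * z i : ℤ) : ℂ) /
      ((CharBasicCyclic.gens (Subgroup.zpowers x)).card : ℂ) := by
    rw [h1, mul_div_cancel_left₀ _ (Nat.cast_ne_zero.2 hpos.ne')]
  have h3 : IsIntegral ℤ b := by
    rw [hb, ha x hx]
    refine IsIntegral.sum _ fun i _ => IsIntegral.mul ?_ (IsIntegral.pow ?_ i)
    · exact_mod_cast isIntegral_algebraMap (x := (a i : ℤ))
    · refine IsIntegral.of_pow (orderOf_pos s) ?_
      rw [← Units.val_pow_eq_pow_val, h.omega_pow hω, Units.val_one]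
      exact isIntegral_one
  rw [h2] at h3 ⊢
  exact exists_int_of_integral_div h3

theorem isClassFunction_shift (hCs : ∀ c : C, (c : Γ) * s = s * c) {x : Γ}
    (hx : x ∈ Subgroup.zpowers s) {χ : Γ → ℂ} (hχ : IsClassFunction Γ χ) :
    IsClassFunction C (fun c : C => χ ((c : Γ) * x)) := by
  intro a b
  obtain ⟨m, hm⟩ := Subgroup.mem_zpowers_iff.1 hx
  have hb : (b : Γ)⁻¹ * x = x * (b : Γ)⁻¹ := hm ▸ ((Commute.zpow_right (hCs b) m).inv_left).eq
  show χ ((b : Γ) * a * (b : Γ)⁻¹ * x) = χ ((a : Γ) * x)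
  rw [show (b : Γ) * a * (b : Γ)⁻¹ * x = (b : Γ) * ((a : Γ) * x) * (b : Γ)⁻¹ by
    simp only [mul_assoc, hb]]
  exact hχ _ _

/-- Orthonormality of the functions `c ↦ χ (c x)`. -/
theorem Setup.shift_orth (h : Setup G s) {θ φ : G → ℂ} (hθ : IsIrrCharacter G θ) {χ ψ : Γ → ℂ}
    (hχ : IsIrrCharacter Γ χ) (hψ : IsIrrCharacter Γ ψ) (eχ : ∀ g : G, χ g = θ g)
    (eψ : ∀ g : G, ψ g = φ g) (cχ : (Cfsg.detOrder χ).Coprime (orderOf s))
    (cψ : (Cfsg.detOrder ψ).Coprime (orderOf s)) {x : Γ} (hx : x ∈ Subgroup.zpowers s)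
    (hC : C = G ⊓ Subgroup.centralizer ({x} : Set Γ)) [Decidable (θ = φ)] :
    classInner (fun c : C => χ ((c : Γ) * x)) (fun c : C => ψ ((c : Γ) * x)) =
      if θ = φ then 1 else 0 := by
  have h1 := sum_centralizer G (h.cop_of_mem hx) hC (F := fun y => χ y * conj (ψ y))
    (fun a b => by simp only [CharInduced.isClassFunction_irr hχ a b,
      CharInduced.isClassFunction_irr hψ a b])
  rw [h.coset_orth hθ hχ hψ eχ eψ cχ cψ x] at h1
  have hG : (Nat.card G : ℂ) ≠ 0 := Nat.cast_ne_zero.2 Nat.card_pos.ne'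
  have hC0 : (Nat.card C : ℂ) ≠ 0 := Nat.cast_ne_zero.2 Nat.card_pos.ne'
  refine mul_left_cancel₀ hC0 (mul_left_cancel₀ hG ?_)
  rw [classInner, mul_inv_cancel_left₀ hC0, h1]
  split_ifs <;> ring

/-- The restriction to `C x` is plus or minus an irreducible character of `C`. -/
theorem Setup.exists_sign_char (h : Setup G s) (hCG : ∀ c : C, (c : Γ) ∈ G)
    (hCs : ∀ c : C, (c : Γ) * s = s * c) {θ : G → ℂ} (hθ : IsIrrCharacter G θ) {χ : Γ → ℂ}
    (hχ : IsIrrCharacter Γ χ) (e : ∀ g : G, χ g = θ g)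
    (c : (Cfsg.detOrder χ).Coprime (orderOf s)) {x : Γ} (hx : x ∈ Subgroup.zpowers s)
    (hC : C = G ⊓ Subgroup.centralizer ({x} : Set Γ)) :
    ∃ (β : IrrCharacter C) (ε : ℤ), (ε = 1 ∨ ε = -1) ∧
      ∀ d : C, χ ((d : Γ) * x) = (ε : ℂ) * (β : C → ℂ) d := by
  classical
  have hgen : IsGeneralizedCharacter C (fun d : C => χ ((d : Γ) * x)) :=
    isGeneralizedCharacter_iff.2 ⟨isClassFunction_shift hCs hx (CharInduced.isClassFunction_irr hχ),
      fun ψ => h.classInner_int hCG hCs hθ hχ e c (isCharacter_of_isIrrCharacter ψ.2) hx⟩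
  have h1 := h.shift_orth hθ hχ hχ e e c c hx hC
  rw [if_pos rfl] at h1
  obtain ⟨β, hβ, h2 | h2⟩ := eq_or_neg_irr_of_norm_one hgen h1
  · exact ⟨⟨β, hβ⟩, 1, Or.inl rfl, fun d => by rw [congrFun h2 d]; simp⟩
  · exact ⟨⟨β, hβ⟩, -1, Or.inr rfl, fun d => by rw [congrFun h2 d]; simp⟩

/-- Signed irreducible characters determine sign and character. -/
theorem sign_char_unique {H : Type*} [Group H] [Finite H] {β β' : IrrCharacter H} {ε ε' : ℤ}
    (hε : ε = 1 ∨ ε = -1)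
    (e : ∀ d, (ε : ℂ) * (β : H → ℂ) d = (ε' : ℂ) * (β' : H → ℂ) d) : β = β' ∧ ε = ε' := by
  classical
  haveI := Fintype.ofFinite H
  have h1 : classInner ((ε : ℂ) • (β : H → ℂ)) (β : H → ℂ) =
      classInner ((ε' : ℂ) • (β' : H → ℂ)) (β : H → ℂ) :=
    congrArg (fun f => classInner f (β : H → ℂ)) (funext e)
  rw [classInner_smul_left, classInner_smul_left, classInner_irr_self β.2, mul_one] at h1
  by_cases hb : β' = β
  · subst hb
    rw [classInner_irr_self β'.2, mul_one] at h1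
    exact ⟨rfl, Int.cast_injective h1⟩
  · rw [classInner_irr_ne β'.2 β.2 (fun e' => hb (Subtype.ext e')), mul_zero] at h1
    rcases hε with rfl | rfl <;> simp at h1

/-- The characters fixed by `x` are as many as the characters of `C_G(x)`. -/
theorem card_invariant {x : Γ} (hcop : (Nat.card G).Coprime (orderOf x))
    (hC : C = G ⊓ Subgroup.centralizer ({x} : Set Γ)) :
    Nat.card {θ : IrrCharacter G //
        ∀ g : G, (θ : G → ℂ) ⟨x * g * x⁻¹, hGn.conj_mem g g.2 x⟩ = (θ : G → ℂ) g} =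
      Nat.card (IrrCharacter C) := by
  rw [RealChars.card_fixed_eq (fun g : G => (⟨x * g * x⁻¹, hGn.conj_mem g g.2 x⟩ : G))
    (fun θ => CharInduced.isIrrCharacter_conjFun G θ.2 x), card_fixed_classes G hcop hC,
    card_irrCharacter]

/-- Every irreducible character of `C` is the signed restriction of a canonical extension. -/
theorem Setup.exists_of_char (h : Setup G s)
    (hC : C = G ⊓ Subgroup.centralizer ({s} : Set Γ)) (β : IrrCharacter C) :
    ∃ (θ : IrrCharacter G) (χ : IrrCharacter Γ) (ε : ℤ),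
      (∀ g : G, (θ : G → ℂ) ⟨s * g * s⁻¹, hGn.conj_mem g g.2 s⟩ = (θ : G → ℂ) g) ∧
      (∀ g : G, (χ : Γ → ℂ) g = (θ : G → ℂ) g) ∧
      (Cfsg.detOrder (χ : Γ → ℂ)).Coprime (orderOf s) ∧ (ε = 1 ∨ ε = -1) ∧
      ∀ d : C, (χ : Γ → ℂ) ((d : Γ) * s) = (ε : ℂ) * (β : C → ℂ) d := by
  classical
  have hmem : ∀ d : C, (d : Γ) ∈ G ∧ (d : Γ) * s = s * d := fun d => by
    have h' := d.2
    simp only [hC] at h'
    exact (mem_centralizer_inf G).1 h'
  let Inv := {θ : IrrCharacter G //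
    ∀ g : G, (θ : G → ℂ) ⟨s * g * s⁻¹, hGn.conj_mem g g.2 s⟩ = (θ : G → ℂ) g}
  choose χ hχ _hu using fun θ : Inv => h.exists_canonical θ.1.2 θ.2
  choose b ε hε hb using fun θ : Inv => h.exists_sign_char (fun d => (hmem d).1)
    (fun d => (hmem d).2) θ.1.2 (hχ θ).1 (hχ θ).2.1 (hχ θ).2.2 (Subgroup.mem_zpowers s) hC
  have hinj : Function.Injective b := by
    intro θ φ hθφ
    by_contra hne
    have h1 := h.shift_orth θ.1.2 (hχ θ).1 (hχ φ).1 (hχ θ).2.1 (hχ φ).2.1 (hχ θ).2.2 (hχ φ).2.2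
      (Subgroup.mem_zpowers s) hC
    rw [if_neg (fun e => hne (Subtype.ext (Subtype.ext e))),
      show (fun d : C => χ θ ((d : Γ) * s)) = (ε θ : ℂ) • (b θ : C → ℂ) from funext (hb θ),
      show (fun d : C => χ φ ((d : Γ) * s)) = (ε φ : ℂ) • (b θ : C → ℂ) from
        hθφ ▸ funext (hb φ),
      classInner_smul_left, classInner_smul_right, classInner_irr_self (b θ).2] at h1
    rcases hε θ with e1 | e1 <;> rcases hε φ with e2 | e2 <;> rw [e1, e2] at h1 <;> simp at h1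
  haveI : Finite (IrrCharacter G) := finite_irrCharacter
  haveI : Finite (IrrCharacter C) := finite_irrCharacter
  obtain ⟨θ, rfl⟩ := (hinj.bijective_of_nat_card_le (card_invariant h.cop hC).ge).2 β
  exact ⟨θ.1, ⟨χ θ, (hχ θ).1⟩, ε θ, θ.2, (hχ θ).2.1, (hχ θ).2.2, hε θ, hb θ⟩

end main

end Cfsg.Agent.GlaubermanCyclic
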