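import Cfsg.Agent.S4436
import Cfsg.Agent.S4492
import Cfsg.Agent.S0867
import Cfsg.Agent.Lib.CharProjDegree
import Cfsg.Agent.Lib.CharInducedAbelianQuot
import Cfsg.Agent.Lib.GlaubermanCyclic
import Cfsg.Agent.Lib.CentralSylow

/-!
Heights in a block of a `p`-solvable group are bounded by the index of the centre of a defect
group.
-/

set_option autoImplicit false

namespace Cfsg.Agent.BlockTheoryHeightSolv

open Cfsg Cfsg.Agent.BlockTheoryLocalRing Cfsg.Agent.BlockTheoryCentre
open Cfsg.Agent.BlockTheoryIdem Cfsg.Agent.CharInduced Cfsg.Agent.BlockTheoryDefect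

attribute [local instance] Classical.propDecidable

set_option linter.unusedSectionVars false

universe u

variable {p : ℕ} [Fact p.Prime] {M : Ideal AlgInt} {G : Type u} [Group G] [Fintype G]

/-- Over an invariant character of a `p'`-subgroup `N`, a `p`-abelian normal section bounds the
`p`-part of the degree. -/
theorem exp_le_index (N A : Subgroup G) [hN : N.Normal] [A.Normal] [Fintype N] (hNA : N ≤ A)
    (hNp : ¬ p ∣ Nat.card N) (hpow : ∃ k : ℕ, N.relIndex A = p ^ k)
    (hab : ∀ x ∈ A, ∀ y ∈ A, x * y * x⁻¹ * y⁻¹ ∈ N) {θ : IrrCharacter N}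
    (hinv : ∀ g : G, conjFun N (θ : N → ℂ) g = (θ : N → ℂ)) {χ : IrrCharacter G}
    (hχ : classInner (fun n : N => (χ : G → ℂ) n) (θ : N → ℂ) ≠ 0) :
    (charDegree (χ : G → ℂ)).factorization p ≤ A.index.factorization p := by
  have hp : p.Prime := Fact.out
  obtain ⟨k, hk⟩ := hpow
  set e : N.subgroupOf A ≃* N := Subgroup.subgroupOfEquivOfLe hNA with he
  set θA : N.subgroupOf A → ℂ := (θ : N → ℂ) ∘ e.toMonoidHom with hθAdef
  have hθA : IsIrrCharacter (N.subgroupOf A) θA :=
    CharBasic.isIrrCharacter_comap _ e.surjective θ.2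
  have hinvA : ∀ (g : A) (n : N.subgroupOf A),
      θA ⟨g * n * g⁻¹, (inferInstance : (N.subgroupOf A).Normal).conj_mem (n : A) n.2 g⟩ = θA n := by
    intro g n
    exact congrFun (hinv (g : G)) (e n)
  obtain ⟨d, -, hd, hdvd⟩ := CharBasicInt.exists_apply_one_dvd_card hθA
  have hcardA : Nat.card (N.subgroupOf A) = Nat.card N := Nat.card_congr e.toEquiv
  have hcop : ∀ {m : ℕ}, m ∣ Nat.card (N.subgroupOf A) →
      Nat.Coprime (N.subgroupOf A).index m := by
    intro m hm
    rw [show (N.subgroupOf A).index = p ^ k from hk]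
    refine Nat.Coprime.coprime_dvd_right hm ?_
    rw [hcardA]
    exact (hp.coprime_iff_not_dvd.mpr hNp).pow_left k
  obtain ⟨η, ⟨hη, hηres, -⟩, -⟩ := S0867.result (N.subgroupOf A) θA hθA hinvA d hd
    (Nat.Coprime.mul_right (hcop (GlaubermanCyclic.detOrder_dvd_card
      (CharBasic.isCharacter_of_isIrrCharacter hθA))) (hcop hdvd))
  have hf : IsCharacter A (fun a : A => (χ : G → ℂ) a) :=
    isCharacter_res A (CharBasic.isCharacter_of_isIrrCharacter χ.2)
  obtain ⟨α, hα, hαc⟩ := CharInduced.exists_constituent hf (fun h => by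
    have := congrFun h 1
    simp at this
    exact irr_one_ne_zero χ this)
  -- constituents of `α` on `N` are constituents of `χ`
  have hαθ : classInner (fun n : N.subgroupOf A => α n) θA ≠ 0 := by
    intro h0
    have hres := CharInduced.res_eq_smul_of_invariant N θ.2 hinv χ.2 hχ
    have hα' : IsCharacter (N.subgroupOf A) (fun n : N.subgroupOf A => α n) :=
      isCharacter_res _ (CharBasic.isCharacter_of_isIrrCharacter hα)
    obtain ⟨ψ, hψ, hψc⟩ := CharInduced.exists_constituent hα' (fun h => by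
      have := congrFun h 1
      simp at this
      exact irr_one_ne_zero ⟨α, hα⟩ this)
    have hne : θA ≠ ψ := fun h => hψc (h ▸ h0)
    have hsum : (fun n : N.subgroupOf A => (χ : G → ℂ) ((n : A) : G)) =
        ∑ β : IrrCharacter A, classInner (fun a : A => (χ : G → ℂ) a) (β : A → ℂ) •
          fun n : N.subgroupOf A => (β : A → ℂ) n := by
      funext n
      have := congrFun (CharBasicOrth.eq_sum_classInner
        (CharBasic.isClassFunction_of_isCharacter hf)) (n : A)
      simpa [Finset.sum_apply] using this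
    have hzero : classInner (fun n : N.subgroupOf A => (χ : G → ℂ) ((n : A) : G)) ψ = 0 := by
      have h1 : (fun n : N.subgroupOf A => (χ : G → ℂ) ((n : A) : G)) =
          classInner (fun n : N => (χ : G → ℂ) n) (θ : N → ℂ) • θA := by
        funext n
        exact congrFun hres (e n)
      rw [h1, CharInduced.inner_smul_left, CharBasicOrth.classInner_irr_ne hθA hψ hne, mul_zero]
    have hnat : ∀ β : IrrCharacter A, ∃ m : ℕ,
        classInner (fun a : A => (χ : G → ℂ) a) (β : A → ℂ) *
          classInner (fun n : N.subgroupOf A => (β : A → ℂ) n) ψ = (m : ℂ) := by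
      intro β
      obtain ⟨a, ha⟩ := CharBasicOrth.classInner_isCharacter hf
        (CharBasic.isCharacter_of_isIrrCharacter β.2)
      obtain ⟨c, hc⟩ := CharBasicOrth.classInner_isCharacter
        (isCharacter_res (N.subgroupOf A) (CharBasic.isCharacter_of_isIrrCharacter β.2))
        (CharBasic.isCharacter_of_isIrrCharacter hψ)
      exact ⟨a * c, by rw [ha, hc, Nat.cast_mul]⟩
    choose m hm using hnat
    rw [hsum, CharInduced.inner_sum_left,
      Finset.sum_congr rfl fun β _ => (CharInduced.inner_smul_left _ _ _).trans (hm β),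
      ← Nat.cast_sum, Nat.cast_eq_zero, Finset.sum_eq_zero_iff] at hzero
    have := hzero ⟨α, hα⟩ (Finset.mem_univ _)
    have h2 := hm ⟨α, hα⟩
    rw [this, Nat.cast_zero, mul_eq_zero] at h2
    exact h2.elim hαc hψc
  have hηθ : classInner (fun n : N.subgroupOf A => η n) θA ≠ 0 := by
    rw [show (fun n : N.subgroupOf A => η n) = θA from funext hηres,
      CharBasicOrth.classInner_irr_self hθA]
    exact one_ne_zero
  have habA : ∀ x y : A, x * y * x⁻¹ * y⁻¹ ∈ N.subgroupOf A :=
    fun x y => hab x x.2 y y.2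
  have hsame := CharInduced.res_eq_of_abelian_quotient (N.subgroupOf A) hθA
    (fun g => funext fun n => hinvA g n) habA hη hα hηθ hαθ
  have hα1 : α 1 = (d : ℂ) := by
    have := congrFun hsame 1
    simp only [OneMemClass.coe_one] at this
    rw [this, ← hd, ← hηres 1, OneMemClass.coe_one]
  obtain ⟨k', d', hd', hk', hdvd'⟩ := CharProjDegree.degree_dvd A χ.2 hα hαc
  have hdd : d' = d := Nat.cast_injective (hd'.symm.trans hα1)
  have hdeg : charDegree (χ : G → ℂ) = d * k' := by
    have h := ClassAlgebraVal.apply_one_eq_charDegree χ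
    rw [hk', hdd] at h
    exact (Nat.cast_injective h).symm
  have hk0 : k' ≠ 0 := fun h => (ClassAlgebraVal.charDegree_pos χ).ne' (by rw [hdeg, h, mul_zero])
  have hd0 : d ≠ 0 := fun h => (ClassAlgebraVal.charDegree_pos χ).ne' (by rw [hdeg, h, zero_mul])
  have hnd : ¬ p ∣ d := fun h => hNp (hcardA ▸ h.trans hdvd)
  rw [hdeg, Nat.factorization_mul hd0 hk0, Finsupp.add_apply,
    Nat.factorization_eq_zero_of_not_dvd hnd, zero_add]
  exact (Nat.factorization_le_iff_dvd hk0 Subgroup.index_ne_zero_of_finite).mpr hdvd' p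

/-- The bound for a character over an invariant character of `O_{p'}`, with a Sylow subgroup. -/
theorem exp_le_center (hsolv : IsPSolvable p G) (N : Subgroup G) [hN : N.Normal] [Fintype N]
    (hNdef : N = pPrimeCore p G) {θ : IrrCharacter N}
    (hinv : ∀ g : G, conjFun N (θ : N → ℂ) g = (θ : N → ℂ))
    {χ : IrrCharacter G}
    (hχ : classInner (fun n : N => (χ : G → ℂ) n) (θ : N → ℂ) ≠ 0)
    (P : Sylow p G) :
    (charDegree (χ : G → ℂ)).factorization p ≤
      (Subgroup.center (P : Subgroup G)).index.factorization p := by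
  have hp : p.Prime := Fact.out
  have hNp : ¬ p ∣ Nat.card N := hNdef ▸ HallCore.not_dvd_card_pPrimeCore p G
  set U := pPrimePCore p G with hUdef
  haveI : U.Normal := by unfold pPrimePCore at hUdef; rw [hUdef]; infer_instance
  set q := QuotientGroup.mk' N
  set Cq := Subgroup.centralizer ((U.map q : Subgroup (G ⧸ N)) : Set (G ⧸ N)) ⊓ U.map q with hCq
  haveI : (U.map q).Normal :=
    Subgroup.Normal.map inferInstance q (QuotientGroup.mk'_surjective N)
  haveI : Cq.Normal := by rw [hCq]; infer_instance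
  set A := Cq.comap q with hA
  have hNU : N ≤ U := hNdef ▸ HallCore.pPrimeCore_le_pPrimePCore p G
  have hAU : A ≤ U := by
    intro x hx
    obtain ⟨u, hu, hue⟩ := (Subgroup.mem_comap.mp hx).2
    have : u⁻¹ * x ∈ N := QuotientGroup.eq.mp hue
    simpa using U.mul_mem hu (hNU this)
  have hNA : N ≤ A := fun x hx => by
    refine Subgroup.mem_comap.mpr ?_
    rw [show q x = 1 from (QuotientGroup.eq_one_iff x).mpr hx]
    exact Cq.one_mem
  have hpow : ∃ k : ℕ, N.relIndex A = p ^ k := by
    obtain ⟨k, hk⟩ := HallCore.relIndex_pPrimePCore p G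
    rw [← hNdef] at hk
    obtain ⟨j, -, hj⟩ := (Nat.dvd_prime_pow hp).mp
      (hk ▸ ⟨_, (Subgroup.relIndex_mul_relIndex N A U hNA hAU).symm⟩ : N.relIndex A ∣ p ^ k)
    exact ⟨j, hj⟩
  have hab : ∀ x ∈ A, ∀ y ∈ A, x * y * x⁻¹ * y⁻¹ ∈ N := by
    intro x hx y hy
    have h := Subgroup.mem_centralizer_iff.mp (Subgroup.mem_comap.mp hy).1 (q x)
      (Subgroup.mem_comap.mp hx).2
    rw [← QuotientGroup.eq_one_iff, QuotientGroup.mk_mul, QuotientGroup.mk_mul,
      QuotientGroup.mk_mul, QuotientGroup.mk_inv, QuotientGroup.mk_inv,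
      show (x : G ⧸ N) * (y : G ⧸ N) = (y : G ⧸ N) * (x : G ⧸ N) from h]
    group
  refine (exp_le_index N A hNA hNp hpow hab hinv hχ).trans ?_
  set PU : Subgroup U := (P : Subgroup G).subgroupOf U
  have hidx : ¬ p ∣ PU.index := by
    have h := CentralSylow.not_dvd_relIndex_normal P U
    rwa [Subgroup.inf_relIndex_right] at h
  let SU : Sylow p U := (P.2.comap_subtype).toSylow hidx
  have hS := HallConstrained.sylImg_sup SU
  rw [← hNdef] at hS
  have hsle : HallConstrained.sylImg SU ≤ (P : Subgroup G) := by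
    rintro _ ⟨u, hu, rfl⟩
    exact hu
  have hZA : (Subgroup.center (P : Subgroup G)).map (P : Subgroup G).subtype ≤ A := by
    rintro _ ⟨z, hz, rfl⟩
    have hcomm : ∀ w ∈ HallConstrained.sylImg SU, w * (z : G) = (z : G) * w := fun w hw =>
      congrArg Subtype.val (Subgroup.mem_center_iff.mp hz ⟨w, hsle hw⟩)
    have hzU : (z : G) ∈ U :=
      HallSolvable.isPConstrained_of_isPSolvable hsolv SU (Subgroup.mem_centralizer_iff.mpr hcomm)
    refine Subgroup.mem_comap.mpr ⟨Subgroup.mem_centralizer_iff.mpr ?_, Subgroup.mem_map_of_mem q hzU⟩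
    rintro _ ⟨w, hw, rfl⟩
    rw [SetLike.mem_coe, show U = _ from hS.symm] at hw
    obtain ⟨s, hs, n, hn, rfl⟩ := Subgroup.mem_sup_of_normal_right.mp hw
    rw [map_mul, show q n = 1 from (QuotientGroup.eq_one_iff n).mpr hn, mul_one, ← map_mul,
      ← map_mul]
    exact congrArg q (hcomm s hs)
  have h1 := Subgroup.card_dvd_of_le hZA
  rw [Subgroup.card_map_of_injective Subtype.val_injective] at h1
  have hle := (Nat.factorization_le_iff_dvd Nat.card_pos.ne' Nat.card_pos.ne').mpr h1 p
  have e1 : (Nat.card G).factorization p =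
      A.index.factorization p + (Nat.card A).factorization p := by
    rw [← A.index_mul_card, Nat.factorization_mul Subgroup.index_ne_zero_of_finite
      Nat.card_pos.ne', Finsupp.add_apply]
  have e2 : (Nat.card (P : Subgroup G)).factorization p =
      (Subgroup.center (P : Subgroup G)).index.factorization p +
        (Nat.card (Subgroup.center (P : Subgroup G))).factorization p := by
    rw [← (Subgroup.center (P : Subgroup G)).index_mul_card,
      Nat.factorization_mul Subgroup.index_ne_zero_of_finite Nat.card_pos.ne', Finsupp.add_apply]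
  rw [P.card_eq_multiplicity, hp.factorization_pow, Finsupp.single_eq_same] at e2
  omega

theorem index_center_congr {H K : Type*} [Group H] [Group K] [Finite H] [Finite K] (e : H ≃* K) :
    (Subgroup.center H).index = (Subgroup.center K).index := by
  refine Nat.eq_of_mul_eq_mul_right (Nat.card_pos (α := Subgroup.center H)) ?_
  conv_rhs => rw [Nat.card_congr (Subgroup.centerCongr e).toEquiv]
  rw [Subgroup.index_mul_card, Subgroup.index_mul_card, Nat.card_congr e.toEquiv]

/-- The height bound. -/
theorem height_le (hM : IsPModular p M) : ∀ (n : ℕ) {G : Type u} [Group G] [Finite G],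
    Nat.card G = n → IsPSolvable p G → ∀ {B : Set (IrrCharacter G)}, IsPBlock M B →
    ∀ {P : Subgroup G}, IsDefectGroup p M B P → ∀ χ : IrrCharacter G, χ ∈ B →
    blockHeight p B (χ : G → ℂ) ≤ ((Subgroup.center P).index).factorization p := by
  intro n
  induction n using Nat.strong_induction_on with
  | _ n ih =>
  intro G _ _ hn hsolv B hB P hP χ hχ
  have : Fintype G := Fintype.ofFinite G
  have hp : p.Prime := Fact.out
  set N := pPrimeCore p G with hNdef
  have hNp : ¬ p ∣ Nat.card N := HallCore.not_dvd_card_pPrimeCore p G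
  haveI : N.Normal := HallCore.pPrimeCore_normal p G
  obtain ⟨θ, hθ⟩ := BrauerBlocksCovering.exists_constituent (G := N)
    (f := fun n : N => (χ : G → ℂ) n)
    (isCharacter_res N (CharBasic.isCharacter_of_isIrrCharacter χ.2)) (irr_one_ne_zero χ)
  have hb := BlockTheoryFong.isPBlock_single N θ hM hNp
  set T := inertia N (θ : N → ℂ)
  have hNT : N ≤ T := le_inertia N (irr_classFun θ)
  by_cases htop : T = ⊤
  · have hinv : ∀ g : G, conjFun N (θ : N → ℂ) g = (θ : N → ℂ) := fun g =>
      (mem_inertia N).mp (htop ▸ Subgroup.mem_top g : g ∈ T)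
    obtain ⟨B0, hB0, hmem, hsyl, hdef⟩ :=
      S4492.result p M hM hsolv N hNdef θ fun g x => congrFun (hinv g) x
    obtain rfl : B = B0 := block_eq_of_mem hM hB hB0 hχ ((hmem χ).mpr hθ)
    obtain ⟨P', rfl⟩ := hdef P hP
    have hz : BlockContrib.minExp p B = 0 := by
      have h1 := BlockContrib.minExp_add_defect hM hB
      have h2 := BlockContribBounds.card_defectGroup hM hB hP
      rw [P'.card_eq_multiplicity] at h2
      have := Nat.pow_right_injective hp.two_le h2
      omega
    rw [BlockContrib.blockHeight_eq, hz, Nat.sub_zero]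
    exact exp_le_center hsolv N rfl hinv hθ P'
  · have hstab : ∀ g : G, g ∈ T ↔ ∀ θ₀ ∈ ({θ} : Set (IrrCharacter N)), ∀ θ' : IrrCharacter N,
        (∀ x : N, (θ' : N → ℂ) x = (θ₀ : N → ℂ) ⟨g * x * g⁻¹,
          (inferInstance : N.Normal).conj_mem x x.2 g⟩) → θ' ∈ ({θ} : Set (IrrCharacter N)) := by
      intro g
      rw [mem_inertia_iff]
      constructor
      · intro h θ₀ hθ₀ θ' h'
        obtain rfl : θ₀ = θ := hθ₀
        exact Set.mem_singleton_iff.mpr (Subtype.ext (funext fun x => (h' x).trans (h x)))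
      · intro h x
        have h' := h θ rfl
          ⟨conjFun N (θ : N → ℂ) g, isIrrCharacter_conjFun N θ.2 g⟩ (fun _ => rfl)
        exact congrFun (congrArg Subtype.val (Set.mem_singleton_iff.mp h')) x
    have hS := FongReynolds78.isStab_of_statement N hstab
    obtain ⟨ψ, hov, hm⟩ := FongReynolds78.exists_over (b := ({θ} : Set (IrrCharacter N))) hNT
      (χ := χ) ⟨θ, rfl, hθ⟩
    have hχψ := (FongReynolds78.constituent_key hS hNT hM hb χ hov hm).1
    have hB' : IsPBlock M (blockOf M (ψ : T → ℂ)) := isPBlock_blockOf ψ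
    have hψ := self_mem_blockOf hM ψ
    obtain ⟨B1, hind, -, -, hiff⟩ := FongReynolds78.correspondence hS hNT hM hb hB' ⟨ψ, hψ, hov⟩
    obtain rfl : B = B1 := block_eq_of_mem hM hB hind.2.1 hχ ((hiff χ).mpr ⟨ψ, hψ, hχψ⟩)
    obtain ⟨hdef, hht⟩ := S4436.result p M hM N {θ} hb T hstab hNT _ hB' ⟨ψ, hψ, hov⟩ B hind
    obtain ⟨χ', -, hχ', hheight⟩ := hht ψ hψ
    obtain rfl : χ' = χ := Subtype.ext (hχ'.trans hχψ.symm)
    obtain ⟨D, hD⟩ := exists_defectGroup hM hB'
    obtain ⟨x, hx⟩ := defectGroup_conj hM hB (hdef D hD) hP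
    rw [hheight]
    have hlt : Nat.card T < n := hn ▸ lt_of_le_of_ne
      (Nat.le_of_dvd Nat.card_pos T.card_subgroup_dvd_card)
      fun h => htop (Subgroup.eq_top_of_card_eq T h)
    refine (ih _ hlt rfl (HallSolvable.isPSolvable_subgroup hsolv T) hB' hD ψ hψ).trans
      (le_of_eq ?_)
    rw [← hx]
    exact congrArg (fun m : ℕ => m.factorization p)
      (index_center_congr ((D.equivMapOfInjective _ T.subtype_injective).trans
        ((D.map T.subtype).equivMapOfInjective _ (MulAut.conj x).injective)))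

end Cfsg.Agent.BlockTheoryHeightSolv
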