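import Cfsg.Agent.Lib.BlockTheoryLocalRing

/-!
The rotation argument: class sums of `u * f` for an idempotent `f` of the group algebra with
locally integral coefficients, commuting with the `p`-element `u`.
-/

namespace Cfsg.Agent.BlockTheoryRotation

open Cfsg Cfsg.Agent.BlockTheoryLocalRing
open scoped MonoidAlgebra

variable {p : ℕ} {M : Ideal AlgInt}

/-- An invariant function summed over a set on which a permutation of `p`-power order acts. -/
theorem dvdPow_sum_of_invariant (hM : IsPModular p M) {X : Type*} [DecidableEq X]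
    (τ : Equiv.Perm X) {m : ℕ} (hτ : τ ^ p ^ m = 1) (W : X → ℂ) (hW : ∀ x, W (τ x) = W x)
    (t : ℕ) (s : Finset X) (hs : ∀ x ∈ s, τ x ∈ s)
    (hfix : ∀ x ∈ s, ∀ j, (τ ^ p ^ j) x = x → DvdPow M p (t - j) (W x)) :
    DvdPow M p t (∑ x ∈ s, W x) := by
  induction s using Finset.strongInduction with
  | _ s ih =>
    rcases s.eq_empty_or_nonempty with rfl | ⟨x, hx⟩
    · simpa using dvdPow_zero' hM t
    have hper : Function.IsPeriodicPt τ (p ^ m) x := by
      change τ^[p ^ m] x = x
      rw [Equiv.Perm.iterate_eq_pow, hτ]; rfl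
    obtain ⟨j, -, hj⟩ := (Nat.dvd_prime_pow hM.1).mp hper.minimalPeriod_dvd
    let o : Finset X := (Finset.range (p ^ j)).image fun i => τ^[i] x
    have hinj : Set.InjOn (fun i => τ^[i] x) (Finset.range (p ^ j) : Set ℕ) := by
      rw [Finset.coe_range, ← hj]
      exact Function.iterate_injOn_Iio_minimalPeriod
    have hmem : ∀ i, τ^[i] x ∈ s := by
      intro i
      induction i with
      | zero => exact hx
      | succ i hi => rw [Function.iterate_succ_apply']; exact hs _ hi
    have hWi : ∀ i, W (τ^[i] x) = W x := by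
      intro i
      induction i with
      | zero => rfl
      | succ i hi => rw [Function.iterate_succ_apply', hW, hi]
    have hper' : τ^[p ^ j] x = x := by rw [← hj]; exact Function.iterate_minimalPeriod
    have hosub : o ⊆ s := by
      intro y hy
      obtain ⟨i, -, rfl⟩ := Finset.mem_image.mp hy
      exact hmem i
    have hxo : x ∈ o := Finset.mem_image.mpr
      ⟨0, Finset.mem_range.mpr (pow_pos hM.1.pos j), rfl⟩
    have hclosed : ∀ y ∈ s \ o, τ y ∈ s \ o := by
      intro y hy
      obtain ⟨hy, hyo⟩ := Finset.mem_sdiff.mp hy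
      refine Finset.mem_sdiff.mpr ⟨hs y hy, fun hto => hyo ?_⟩
      obtain ⟨i, hi, hiy⟩ := Finset.mem_image.mp hto
      refine Finset.mem_image.mpr
        ⟨(i + (p ^ j - 1)) % p ^ j, Finset.mem_range.mpr (Nat.mod_lt _ (pow_pos hM.1.pos j)), ?_⟩
      apply τ.injective
      rw [← hiy, ← Function.iterate_succ_apply' τ]
      have h1 : ∀ n, τ^[n % p ^ j] x = τ^[n] x := fun n =>
        (Function.IsPeriodicPt.iterate_mod_apply hper' n)
      rw [← h1, Nat.succ_eq_add_one, Nat.mod_add_mod, add_assoc,
        Nat.sub_add_cancel (pow_pos hM.1.pos j), Nat.add_mod_right, h1]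
    rw [← Finset.sum_sdiff hosub]
    refine dvdPow_add hM (ih _ ?_ hclosed fun y hy => hfix y (Finset.mem_sdiff.mp hy).1) ?_
    · exact Finset.sdiff_ssubset hosub ⟨x, hxo⟩
    rw [Finset.sum_image hinj, Finset.sum_congr rfl fun i _ => hWi i, Finset.sum_const,
      Finset.card_range, nsmul_eq_mul, Nat.cast_pow]
    have hfx : (τ ^ p ^ j) x = x := by rw [← Equiv.Perm.iterate_eq_pow]; exact hper'
    obtain ⟨w, hw, hWx⟩ := hfix x hx j hfx
    refine dvdPow_le hM (m := t) (n := j + (t - j)) (by omega) ⟨w, hw, ?_⟩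
    rw [hWx, pow_add]; ring

theorem prod_periodic {A : Type*} [Monoid A] (d q : ℕ) (v : Fin d → A) (w : Fin (q * d) → A)
    (h : ∀ (a : Fin q) (r : Fin d) (hlt : (a : ℕ) * d + r < q * d), w ⟨a * d + r, hlt⟩ = v r) :
    (List.ofFn w).prod = (List.ofFn v).prod ^ q := by
  rw [List.ofFn_mul, List.prod_flatten, List.map_ofFn]
  rw [show (List.prod ∘ fun i : Fin q =>
    List.ofFn fun j : Fin d => w ⟨(i : ℕ) * d + j, _⟩) = fun _ => (List.ofFn v).prod from
    funext fun a => congrArg List.prod (congrArg List.ofFn (funext fun r => h a r _))]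
  rw [List.ofFn_const, List.prod_replicate]

variable {G : Type*} [Group G]

/-- Twisted rotation of a tuple. -/
def rot (u : G) (m : ℕ) : Equiv.Perm (Fin (m + 1) → G) where
  toFun w := Fin.cons (u⁻¹ * w (Fin.last m) * u) (Fin.init w)
  invFun w := Fin.snoc (Fin.tail w) (u * w 0 * u⁻¹)
  left_inv w := by
    simp [Fin.tail_cons, mul_assoc, Fin.snoc_init_self]
  right_inv w := by
    simp [Fin.init_snoc, Fin.snoc_last, mul_assoc, Fin.cons_self_tail]

theorem rot_pow_apply (u : G) (m : ℕ) (w : Fin (m + 1) → G) :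
    ∀ k, k ≤ m + 1 → ∀ i : Fin (m + 1),
      (∀ h : (i : ℕ) < k,
        ((rot u m) ^ k) w i = u⁻¹ * w ⟨m + 1 - k + i, by omega⟩ * u) ∧
      (∀ _ : k ≤ (i : ℕ),
        ((rot u m) ^ k) w i = w ⟨(i : ℕ) - k, by omega⟩) := by
  intro k
  induction k with
  | zero =>
    intro _ i
    refine ⟨fun h => absurd h (Nat.not_lt_zero _), fun _ => ?_⟩
    simp
  | succ k ih =>
    intro hk i
    rw [pow_succ', Equiv.Perm.mul_apply]
    refine Fin.cases ?_ (fun i' => ?_) i
    · refine ⟨fun h => ?_, fun h => absurd h (by simp)⟩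
      change u⁻¹ * ((rot u m ^ k) w) (Fin.last m) * u = _
      rw [((ih (by omega)) (Fin.last m)).2 (by simp; omega)]
      congr 3
      ext
      simp
    · change (∀ h : _, ((rot u m ^ k) w) i'.castSucc = _) ∧
        (∀ _ : _, ((rot u m ^ k) w) i'.castSucc = _)
      refine ⟨fun h => ?_, fun h => ?_⟩
      · rw [((ih (by omega)) i'.castSucc).1 (by simpa using h)]
        congr 3
        ext
        simp only [Fin.val_castSucc, Fin.val_succ]
        omega
      · rw [((ih (by omega)) i'.castSucc).2 (by simpa using h)]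
        congr 1
        ext
        simp

theorem rot_pow_full (u : G) (m : ℕ) (w : Fin (m + 1) → G) :
    ((rot u m) ^ (m + 1)) w = fun i => u⁻¹ * w i * u := by
  funext i
  rw [(rot_pow_apply u m w (m + 1) le_rfl i).1 i.2]
  congr 3
  ext
  simp

theorem rot_pow_eq_one (u : G) (m : ℕ) : (rot u m) ^ ((m + 1) * orderOf u) = 1 := by
  have key : ∀ k : ℕ, ∀ w : Fin (m + 1) → G,
      ((rot u m) ^ ((m + 1) * k)) w = fun i => (u ^ k)⁻¹ * w i * u ^ k := by
    intro k
    induction k with
    | zero => intro w; simp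
    | succ k ih =>
      intro w
      rw [Nat.mul_succ, pow_add, Equiv.Perm.mul_apply, ih, rot_pow_full]
      funext i
      rw [pow_succ']
      group
  refine Equiv.ext fun w => ?_
  rw [key, pow_orderOf_eq_one]
  simp

/-- Expansion of a power in the group algebra. -/
theorem pow_eq_sum [Fintype G] (f : MonoidAlgebra ℂ G) : ∀ N : ℕ,
    f ^ N = ∑ w : Fin N → G, MonoidAlgebra.single (List.ofFn w).prod
      (List.ofFn fun i => f.coeff (w i)).prod := by
  classical
  have hf : f = ∑ g : G, MonoidAlgebra.single g (f.coeff g) := by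
    refine MonoidAlgebra.ext ?_
    ext a
    simp [MonoidAlgebra.coeff_sum, Finsupp.single_apply, Finset.sum_apply']
  intro N
  induction N with
  | zero => simp [MonoidAlgebra.one_def]
  | succ N ih =>
    rw [← Equiv.sum_comp (Fin.consEquiv fun _ => G), Fintype.sum_prod_type, pow_succ', ih]
    nth_rewrite 1 [hf]
    rw [Finset.sum_mul]
    refine Finset.sum_congr rfl fun g _ => ?_
    rw [Finset.mul_sum]
    refine Finset.sum_congr rfl fun w _ => ?_
    rw [MonoidAlgebra.single_mul_single]
    simp [List.ofFn_succ, Fin.consEquiv]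

/-- The sum of the coefficients over the conjugacy class of `h`. -/
noncomputable def classCoeff [Fintype G] (h : G) : MonoidAlgebra ℂ G →ₗ[ℂ] ℂ :=
  haveI := Classical.decPred (IsConj h)
  { toFun := fun x => ∑ g ∈ Finset.univ.filter (IsConj h), x.coeff g
    map_add' := fun x y => by simp [Finset.sum_add_distrib]
    map_smul' := fun c x => by simp [Finset.mul_sum] }

open scoped Classical in
theorem classCoeff_single [Fintype G] (h g : G) (r : ℂ) :
    classCoeff h (MonoidAlgebra.single g r) = if IsConj h g then r else 0 := by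
  simp [classCoeff, Finsupp.single_apply]

/-- The rotation congruence. -/
theorem dvdPow_classCoeff [Fintype G] (hM : IsPModular p M) (u h : G)
    (hu : ∃ k, orderOf u = p ^ k) (f : MonoidAlgebra ℂ G)
    (hint : ∀ g, MemLocalRing M (f.coeff g)) (hcomm : ∀ g, f.coeff (u⁻¹ * g * u) = f.coeff g)
    (t e₀ : ℕ)
    (hcond : ∀ (d e : ℕ) (v : Fin d → G), 0 < d → (∀ i, Commute u (v i)) → e₀ ≤ e →
      IsConj h (u * (List.ofFn v).prod ^ p ^ e) →
      DvdPow M p t ((List.ofFn fun i => f.coeff (v i)).prod ^ p ^ e)) :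
    DvdPow M p t (classCoeff h (MonoidAlgebra.single u 1 * f ^ p ^ (t + e₀))) := by
  classical
  obtain ⟨k, hk⟩ := hu
  obtain ⟨m, hm⟩ : ∃ m, p ^ (t + e₀) = m + 1 :=
    ⟨_, (Nat.succ_pred_eq_of_pos (pow_pos hM.1.pos _)).symm⟩
  rw [hm, pow_eq_sum, Finset.mul_sum, map_sum]
  simp only [MonoidAlgebra.single_mul_single, one_mul, classCoeff_single]
  have hprodint : ∀ {N : ℕ} (w : Fin N → G),
      MemLocalRing M (List.ofFn fun i => f.coeff (w i)).prod := by
    intro N w
    exact (localRing hM).list_prod_mem (by simpa [List.mem_ofFn', mem_localRing] using fun i => hint (w i))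
  refine dvdPow_sum_of_invariant hM (rot u m) (m := t + e₀ + k) ?_ _ ?_ t Finset.univ
    (fun _ _ => Finset.mem_univ _) ?_
  · rw [pow_add, hm, ← hk]
    exact rot_pow_eq_one u m
  · intro w
    have h1 : (List.ofFn fun i => f.coeff (rot u m w i)).prod
        = (List.ofFn fun i => f.coeff (w i)).prod := by
      simp only [List.prod_ofFn]
      rw [Fin.prod_univ_succ, Fin.prod_univ_castSucc (f := fun i => f.coeff (w i))]
      simp [rot, hcomm, Fin.init, mul_comm]
    have h2 : IsConj (u * (List.ofFn (rot u m w)).prod) (u * (List.ofFn w).prod) := by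
      rw [List.ofFn_succ' (f := w), List.ofFn_succ (f := rot u m w)]
      simp only [List.prod_cons, List.prod_concat, rot, Equiv.coe_fn_mk, Fin.cons_zero,
        Fin.cons_succ, Fin.init]
      rw [isConj_iff]
      exact ⟨(w (Fin.last m))⁻¹, by group⟩
    have h3 : IsConj h (u * (List.ofFn (rot u m w)).prod) ↔ IsConj h (u * (List.ofFn w).prod) :=
      ⟨fun h4 => h4.trans h2, fun h4 => h4.trans h2.symm⟩
    simp only [h1, h3]
  · intro w _ j hj
    by_cases hc : IsConj h (u * (List.ofFn w).prod)
    swap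
    · rw [if_neg hc]; exact dvdPow_zero' hM _
    rw [if_pos hc]
    rcases le_or_gt t j with htj | htj
    · rw [Nat.sub_eq_zero_of_le htj]
      exact ⟨_, hprodint w, by simp⟩
    refine dvdPow_le hM (Nat.sub_le t j) ?_
    set d := p ^ j with hd
    set q := p ^ (t + e₀ - j) with hq
    have hmd : m + 1 = q * d := by
      rw [← hm, hd, hq, ← pow_add]; congr 1; omega
    have hdpos : 0 < d := pow_pos hM.1.pos j
    have hdle : d ≤ m + 1 := hmd ▸ Nat.le_mul_of_pos_left d (pow_pos hM.1.pos _)
    -- periodicity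
    have hper : ∀ (a : ℕ) (r : ℕ) (hr : r < d) (hlt : a * d + r < m + 1),
        w ⟨a * d + r, hlt⟩ = w ⟨r, by omega⟩ := by
      intro a
      induction a with
      | zero => intro r hr hlt; congr 1; ext; simp
      | succ a ih =>
        intro r hr hlt
        have hsm : (a + 1) * d + r = (a * d + r) + d := by ring
        have := ((rot_pow_apply u m w d hdle) ⟨(a + 1) * d + r, hlt⟩).2 (by
          simp only; omega)
        rw [hj] at this
        rw [this, ← ih r hr (by omega)]
        congr 1
        ext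
        simp only
        omega
    have hcv : ∀ r : Fin d, Commute u (w ⟨r, by omega⟩) := by
      intro r
      have := ((rot_pow_apply u m w d hdle) ⟨r, by omega⟩).1 r.2
      rw [hj] at this
      have hidx : m + 1 - d + (r : ℕ) = (q - 1) * d + r := by
        rw [hmd, Nat.sub_mul, one_mul]
      have hw : w ⟨m + 1 - d + (r : ℕ), by omega⟩ = w ⟨r, by omega⟩ := by
        rw [← hper (q - 1) r r.2 (by omega)]
        congr 1
        ext
        exact hidx
      rw [hw] at this
      change u * _ = _ * u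
      nth_rewrite 1 [this]
      group
    let v : Fin d → G := fun r => w ⟨r, by omega⟩
    have hwq : ∀ {A : Type} [Monoid A] (φ : G → A),
        (List.ofFn fun i => φ (w i)).prod = (List.ofFn fun r => φ (v r)).prod ^ q := by
      intro A _ φ
      have e : (List.ofFn fun i => φ (w i)) =
          List.ofFn fun i : Fin (q * d) => φ (w (Fin.cast hmd.symm i)) :=
        List.ofFn_congr hmd _
      rw [e]
      exact prod_periodic d q _ _ fun a r hlt => congrArg φ (hper a r r.2 (by omega))
    have hwprod : (List.ofFn w).prod = (List.ofFn v).prod ^ q := by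
      have e : List.ofFn w = List.ofFn fun i : Fin (q * d) => w (Fin.cast hmd.symm i) :=
        List.ofFn_congr hmd _
      rw [e]
      exact prod_periodic d q _ _ fun a r hlt => hper a r r.2 (by omega)
    rw [hwq fun g => f.coeff g]
    exact hcond d (t + e₀ - j) v hdpos hcv (by omega) (hwprod ▸ hc)

theorem pow_idem {f : MonoidAlgebra ℂ G} (hf : f * f = f) {N : ℕ} (hN : 0 < N) : f ^ N = f :=
  (IsIdempotentElem.pow_eq hf (by omega))

/-- An element raised to a large power of `p` is `p`-regular. -/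
theorem not_dvd_orderOf_pow [Finite G] (hp : p.Prime) (W : G) {e : ℕ} (he : Nat.card G ≤ e) :
    ¬ p ∣ orderOf (W ^ p ^ e) := by
  obtain ⟨a, o', ho', ho⟩ := Nat.exists_eq_pow_mul_and_not_dvd (orderOf_pos W).ne' p hp.ne_one
  intro hdvd
  have hae : a ≤ e := by
    have h1 : p ^ a ≤ Nat.card G :=
      Nat.le_of_dvd Nat.card_pos ((Dvd.intro o' ho.symm).trans (orderOf_dvd_natCard W))
    have h2 : a < p ^ a := Nat.lt_pow_self hp.one_lt
    omega
  have : orderOf (W ^ p ^ e) ∣ o' := by
    rw [orderOf_dvd_iff_pow_eq_one, ← pow_mul]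
    obtain ⟨c, rfl⟩ := Nat.exists_eq_add_of_le hae
    rw [show p ^ (a + c) * o' = orderOf W * p ^ c by rw [ho, pow_add]; ring, pow_mul,
      pow_orderOf_eq_one, one_pow]
  exact ho' (hdvd.trans this)

/-- An idempotent commuting with the `p`-element `u`: class sums of `u * f` vanish off the
`p`-section of `u`. -/
theorem classCoeff_eq_zero_of_section [Fintype G] (hM : IsPModular p M) (u h : G)
    (hu : ∃ k, orderOf u = p ^ k) (f : MonoidAlgebra ℂ G) (hf : f * f = f)
    (hint : ∀ g, MemLocalRing M (f.coeff g)) (hcomm : ∀ g, f.coeff (u⁻¹ * g * u) = f.coeff g)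
    (hh : ∀ g, IsConj h g → ¬ IsPPart p g u) :
    classCoeff h (MonoidAlgebra.single u 1 * f) = 0 := by
  refine eq_zero_of_forall_dvdPow hM fun t => ?_
  have := dvdPow_classCoeff hM u h hu f hint hcomm t (Nat.card G) ?_
  · rwa [pow_idem hf (pow_pos hM.1.pos _)] at this
  intro d e v _ hv he hc
  refine absurd ?_ (hh _ hc)
  refine ⟨(List.ofFn v).prod ^ p ^ e, rfl, ?_, hu, not_dvd_orderOf_pow hM.1 _ he⟩
  exact (Commute.list_prod_right _ _ (by simpa [List.mem_ofFn'] using hv)).pow_right _

/-- An idempotent commuting with the `p`-element `u` whose coefficients on the centralizer of `u`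
lie in the local ideal: all class sums of `u * f` vanish. -/
theorem classCoeff_eq_zero_of_brauer [Fintype G] (hM : IsPModular p M) (u h : G)
    (hu : ∃ k, orderOf u = p ^ k) (f : MonoidAlgebra ℂ G) (hf : f * f = f)
    (hint : ∀ g, MemLocalRing M (f.coeff g)) (hcomm : ∀ g, f.coeff (u⁻¹ * g * u) = f.coeff g)
    (hbr : ∀ g, Commute u g → MemLocalIdeal M (f.coeff g)) :
    classCoeff h (MonoidAlgebra.single u 1 * f) = 0 := by
  classical
  refine eq_zero_of_forall_dvdPow hM fun t => ?_
  have hq : ∀ g : G, ∃ q₀ : ℕ, Commute u g → ∀ q, q₀ ≤ q → DvdPow M p t (f.coeff g ^ q) := by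
    intro g
    by_cases hg : Commute u g
    · obtain ⟨q₀, h₀⟩ := exists_pow_dvdPow hM (hbr g hg) t
      exact ⟨q₀, fun _ => h₀⟩
    · exact ⟨0, fun h' => absurd h' hg⟩
  choose q₀ hq₀ using hq
  have := dvdPow_classCoeff hM u h hu f hint hcomm t (∑ g, q₀ g) ?_
  · rwa [pow_idem hf (pow_pos hM.1.pos _)] at this
  intro d e v hd hv he _
  obtain ⟨d, rfl⟩ := Nat.exists_eq_succ_of_ne_zero hd.ne'
  rw [List.ofFn_succ, List.prod_cons, mul_pow]
  refine dvdPow_mul_right hM (hq₀ _ (hv 0) _ ?_) ((localRing hM).pow_mem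
    ((localRing hM).list_prod_mem (by simpa [List.mem_ofFn', mem_localRing] using fun i => hint _)) _)
  calc q₀ (v 0) ≤ ∑ g, q₀ g := Finset.single_le_sum (fun _ _ => Nat.zero_le _) (Finset.mem_univ _)
    _ ≤ e := he
    _ ≤ p ^ e := (Nat.lt_pow_self hM.1.one_lt).le

end Cfsg.Agent.BlockTheoryRotation
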