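import Mathlib
import Cfsg.Agent.Lib.FSIndicatorSum
import Cfsg.Agent.Lib.CharKernel

/-! Bound on the Frobenius–Schur indicator and the square-root counting formula (helper83; the
matrix argument follows `FSIndicatorSum`). -/

set_option autoImplicit false

open scoped ComplexConjugate Kronecker
open Matrix

namespace Cfsg.Agent.FSBound

open Cfsg.Agent.FSIndicatorSum
open Cfsg.Agent.CharBasic Cfsg.Agent.CharBasicOrth Cfsg.Agent.CharBasicDecomp Cfsg.Agent.CharAverage

universe u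

variable {G : Type u} [Group G] [Fintype G]

theorem nu_hom_bound {n : ℕ} (A : G →* Matrix (Fin n) (Fin n) ℂ) :
    ∃ e f : ℕ, nu (fun g => Matrix.trace (A g)) = (e : ℂ) - f ∧
      (Nat.card G : ℂ)⁻¹ * ∑ g : G, Matrix.trace (A g) ^ 2 = (e : ℂ) + f := by
  classical
  let S : Matrix (Fin n × Fin n) (Fin n × Fin n) ℂ := (1 : Matrix _ _ ℂ).submatrix Prod.swap id
  let c : ℂ := (Nat.card G : ℂ)⁻¹
  let K : G → Matrix (Fin n × Fin n) (Fin n × Fin n) ℂ := fun g => A g ⊗ₖ A g
  let P : Matrix (Fin n × Fin n) (Fin n × Fin n) ℂ := c • ∑ g, K g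
  have hK : ∀ g h, K g * K h = K (g * h) := by
    intro g h
    simp only [K, map_mul, Matrix.mul_kronecker_mul]
  have hG : (Nat.card G : ℂ) ≠ 0 := Nat.cast_ne_zero.2 Nat.card_pos.ne'
  have hKP : ∀ g, K g * P = P := by
    intro g
    simp only [P, Matrix.mul_smul, Finset.mul_sum, hK]
    rw [Fintype.sum_equiv (Equiv.mulLeft g) (fun h => K (g * h)) K (fun _ => rfl)]
  have hPP : P * P = P := by
    conv_lhs => arg 1; unfold P
    rw [Matrix.smul_mul, Finset.sum_mul, Finset.sum_congr rfl (fun g _ => hKP g),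
      Finset.sum_const, Finset.card_univ, ← Nat.cast_smul_eq_nsmul ℂ, smul_smul,
      ← Nat.card_eq_fintype_card, inv_mul_cancel₀ hG, one_smul]
  have hS : ∀ (X : Matrix (Fin n × Fin n) (Fin n × Fin n) ℂ), S * X = X.submatrix Prod.swap id := by
    intro X
    ext i j
    simp [S, Matrix.mul_apply, Matrix.one_apply]
  have hS' : ∀ (X : Matrix (Fin n × Fin n) (Fin n × Fin n) ℂ), X * S = X.submatrix id Prod.swap := by
    intro X
    ext i j
    rw [Matrix.mul_apply, Finset.sum_eq_single (Prod.swap j)]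
    · simp [S, Matrix.one_apply]
    · intro b _ hb
      have : Prod.swap b ≠ j := fun h => hb (by rw [← h, Prod.swap_swap])
      simp [S, Matrix.one_apply, this]
    · simp
  have hSK : ∀ g, S * K g = K g * S := by
    intro g
    rw [hS, hS']
    ext ⟨i, j⟩ ⟨k, l⟩
    simp [K, mul_comm]
  have hSP : S * P = P * S := by
    simp only [P, Matrix.mul_smul, Matrix.smul_mul, Finset.mul_sum, Finset.sum_mul, hSK]
  have hSS : S * S = 1 := by
    rw [hS]
    ext i j
    simp [S, Matrix.one_apply]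
  let Q := S * P
  have hPQ : P * Q = Q := by
    simp only [Q, ← mul_assoc, ← hSP]
    rw [mul_assoc, hPP]
  have hQP : Q * P = Q := by simp only [Q, mul_assoc, hPP]
  have hQQ : Q * Q = P := by
    calc Q * Q = S * (P * Q) := by simp only [Q, mul_assoc]
      _ = (S * S) * P := by rw [hPQ]; simp only [Q, mul_assoc]
      _ = P := by rw [hSS, one_mul]
  let E := (2 : ℂ)⁻¹ • (P + Q)
  have hE : E * E = E := by
    simp only [E, Matrix.smul_mul, Matrix.mul_smul, smul_smul, mul_add, add_mul, hPP, hPQ, hQP, hQQ]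
    module
  let F := (2 : ℂ)⁻¹ • (P - Q)
  have hF : F * F = F := by
    simp only [F, Matrix.smul_mul, Matrix.mul_smul, smul_smul, mul_sub, sub_mul, hPP, hPQ, hQP, hQQ]
    module
  obtain ⟨e, he⟩ := trace_idem E hE
  obtain ⟨f, hf⟩ := trace_idem F hF
  have hQ : Matrix.trace Q = nu (fun g => Matrix.trace (A g)) := by
    have h1 : Q = c • ∑ g, S * K g := by
      simp only [Q, P, Matrix.mul_smul, Finset.mul_sum]
    rw [h1, Matrix.trace_smul, Matrix.trace_sum, nu, smul_eq_mul]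
    congr 1
    refine Finset.sum_congr rfl fun g _ => ?_
    rw [hS]
    simp only [K, Matrix.trace, Matrix.diag, map_mul, Matrix.mul_apply, Matrix.submatrix_apply,
      Matrix.kroneckerMap_apply, Prod.swap, id_eq, Fintype.sum_prod_type]
    rw [Finset.sum_comm]
  have hPt : Matrix.trace P = (Nat.card G : ℂ)⁻¹ * ∑ g : G, Matrix.trace (A g) ^ 2 := by
    simp only [P, Matrix.trace_smul, Matrix.trace_sum, K, Matrix.trace_kronecker, smul_eq_mul, c, pow_two]
  refine ⟨e, f, ?_, ?_⟩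
  · rw [← hQ, ← he, ← hf]
    simp only [E, F, Matrix.trace_smul, Matrix.trace_add, Matrix.trace_sub, smul_eq_mul]
    ring
  · rw [← hPt, ← he, ← hf]
    simp only [E, F, Matrix.trace_smul, Matrix.trace_add, Matrix.trace_sub, smul_eq_mul]
    ring

theorem nu_eq_zero_or (χ : Cfsg.IrrCharacter G) (h : nu (χ : G → ℂ) ≠ 0) :
    (nu (χ : G → ℂ) = 1 ∨ nu (χ : G → ℂ) = -1) ∧ ∀ g : G, conj ((χ : G → ℂ) g) = (χ : G → ℂ) g := by
  classical
  obtain ⟨n, ρ, hi, hρ⟩ := χ.2
  let A : G →* Matrix (Fin n) (Fin n) ℂ :=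
    (LinearMap.toMatrixAlgEquiv' (R := ℂ) (n := Fin n)).toMonoidHom.comp ρ
  have hA : (χ : G → ℂ) = fun g => Matrix.trace (A g) := by
    rw [← hρ]; funext g
    rw [Representation.character, LinearMap.trace_eq_matrix_trace ℂ (Pi.basisFun ℂ (Fin n)),
      LinearMap.toMatrix_eq_toMatrix']
    rfl
  obtain ⟨e, f, h1, h2⟩ := nu_hom_bound A
  rw [← hA] at h1
  have hconj : Cfsg.IsIrrCharacter G (fun g => conj ((χ : G → ℂ) g)) := isIrrCharacter_conj χ.2
  have h3 : Cfsg.classInner (χ : G → ℂ) (fun g => conj ((χ : G → ℂ) g)) = (e : ℂ) + f := by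
    rw [← h2, Cfsg.classInner]
    congr 1
    refine Finset.sum_congr rfl fun g _ => ?_
    rw [Complex.conj_conj, pow_two, congrFun hA g]
  rw [classInner_irr _ _ χ.2 hconj] at h3
  by_cases hc : (χ : G → ℂ) = fun g => conj ((χ : G → ℂ) g)
  · rw [if_pos hc] at h3
    refine ⟨?_, fun g => (congrFun hc g).symm⟩
    have h4 : e + f = 1 := by exact_mod_cast h3.symm
    rcases Nat.eq_zero_or_pos e with he | he
    · right
      rw [h1, he, show f = 1 by omega]; simp
    · left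
      rw [h1, show e = 1 by omega, show f = 0 by omega]; simp
  · rw [if_neg hc] at h3
    have h4 : e + f = 0 := by exact_mod_cast h3.symm
    exact absurd (by rw [h1, show e = 0 by omega, show f = 0 by omega]; simp) h

/-- `∑ χ, ν(χ) χ(z)` counts square roots. -/
theorem sum_nu_mul_apply (z : G) :
    ∑ χ : Cfsg.IrrCharacter G, nu (χ : G → ℂ) * (χ : G → ℂ) z =
      (Nat.card {x : G // x * x = z} : ℂ) := by
  classical
  have hG : (Nat.card G : ℂ) ≠ 0 := Nat.cast_ne_zero.2 Nat.card_pos.ne'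
  have hν : ∀ χ : Cfsg.IrrCharacter G,
      nu (χ : G → ℂ) = (Nat.card G : ℂ)⁻¹ * ∑ g : G, conj ((χ : G → ℂ) (g * g)) := by
    intro χ
    rw [nu, ← Equiv.sum_comp (Equiv.inv G)]
    congr 1
    refine Finset.sum_congr rfl fun g _ => ?_
    rw [Equiv.inv_apply, ← _root_.mul_inv_rev, isCharacter_inv (irr_isCharacter χ)]
  simp only [hν, mul_assoc, Finset.sum_mul, ← Finset.mul_sum]
  rw [Finset.sum_comm]
  have h1 : ∀ g : G, ∑ χ : Cfsg.IrrCharacter G, conj ((χ : G → ℂ) (g * g)) * (χ : G → ℂ) z =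
      if IsConj z (g * g) then (Nat.card (Subgroup.centralizer ({z} : Set G)) : ℂ) else 0 := by
    intro g
    rw [← sum_irr_mul_conj z (g * g)]
    exact Finset.sum_congr rfl fun χ _ => mul_comm _ _
  simp only [h1]
  rw [← Finset.sum_filter, Finset.sum_const, nsmul_eq_mul, ← Fintype.card_subtype,
    ← Nat.card_eq_fintype_card]
  -- the square roots of the conjugates of `z`
  have e1 : Nat.card {g : G // IsConj z (g * g)} =
      Nat.card {x : G // x * x = z} * Nat.card {w : G // IsConj z w} := by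
    rw [← Nat.card_prod]
    choose c hc using fun w : {w : G // IsConj z w} => isConj_iff.1 w.2
    refine Nat.card_congr
      { toFun := fun g => (⟨(c ⟨_, g.2⟩)⁻¹ * (g : G) * c ⟨_, g.2⟩, ?_⟩, ⟨_, g.2⟩)
        invFun := fun x => ⟨c x.2 * (x.1 : G) * (c x.2)⁻¹, ?_⟩
        left_inv := fun g => ?_
        right_inv := fun x => ?_ }
    · have h2 := hc ⟨_, g.2⟩
      calc (c ⟨_, g.2⟩)⁻¹ * (g : G) * c ⟨_, g.2⟩ * ((c ⟨_, g.2⟩)⁻¹ * (g : G) * c ⟨_, g.2⟩)
          = (c ⟨_, g.2⟩)⁻¹ * ((g : G) * g) * c ⟨_, g.2⟩ := by group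
        _ = (c ⟨_, g.2⟩)⁻¹ * (c ⟨_, g.2⟩ * z * (c ⟨_, g.2⟩)⁻¹) * c ⟨_, g.2⟩ := by rw [h2]
        _ = z := by group
    · have h2 : c x.2 * (x.1 : G) * (c x.2)⁻¹ * (c x.2 * (x.1 : G) * (c x.2)⁻¹) = (x.2 : G) := by
        calc _ = c x.2 * ((x.1 : G) * x.1) * (c x.2)⁻¹ := by group
          _ = _ := by rw [x.1.2, hc x.2]
      rw [h2]; exact x.2.2
    · apply Subtype.ext
      show c ⟨_, g.2⟩ * ((c ⟨_, g.2⟩)⁻¹ * (g : G) * c ⟨_, g.2⟩) * (c ⟨_, g.2⟩)⁻¹ = g
      group
    · obtain ⟨⟨x, hx⟩, w⟩ := x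
      have h2 : c w * x * (c w)⁻¹ * (c w * x * (c w)⁻¹) = (w : G) := by
        calc _ = c w * (x * x) * (c w)⁻¹ := by group
          _ = _ := by rw [hx, hc w]
      have hw : (⟨c w * x * (c w)⁻¹ * (c w * x * (c w)⁻¹), by rw [h2]; exact w.2⟩ :
          {w : G // IsConj z w}) = w := Subtype.ext h2
      simp only [Prod.mk.injEq]
      refine ⟨Subtype.ext ?_, hw⟩
      show (c _)⁻¹ * (c w * x * (c w)⁻¹) * c _ = x
      rw [hw]; group
  rw [e1, Nat.cast_mul, mul_assoc, ← Nat.cast_mul (Nat.card {w : G // IsConj z w}),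
    card_conj_mul_card_centralizer, ← mul_assoc, mul_comm ((Nat.card G : ℂ)⁻¹), mul_assoc,
    inv_mul_cancel₀ hG, mul_one]

end Cfsg.Agent.FSBound
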