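import Cfsg.Agent.Lib.SectionComplement79
import Cfsg.Agent.Lib.FSBound
import Cfsg.Agent.Lib.RealRep79
import Cfsg.Agent.Lib.GaloisChar80
import Cfsg.Agent.S4646
import Cfsg.Agent.Lib.BlockCyclicRank81
import Cfsg.Agent.Lib.CharAverage

/-!
A principal block with three characters has a Sylow group of order three.
-/

set_option autoImplicit false
set_option linter.unusedSectionVars false

namespace Cfsg.Agent.BlockThreeChars82

open Cfsg Cfsg.Agent.BlockTheoryLocalRing Cfsg.Agent.BlockTheoryCentre Cfsg.Agent.BlockTheoryIdem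
open Cfsg.Agent.BlockPrincipal81 Cfsg.Agent.BlockContribBounds Cfsg.Agent.BlockSubsections79
open Cfsg.Agent.BlockContribPrime Cfsg.Agent.BlockContrib
open Cfsg.Agent.FSIndicatorSum
open scoped ComplexConjugate

attribute [local instance] Classical.propDecidable

universe u

variable {G : Type u} [Group G] [Fintype G] {p : ℕ} [Fact p.Prime] {M : Ideal AlgInt}

/-- A principal block of rank one gives a subgroup of all regular elements. -/
theorem exists_regular {H : Type*} [Group H] [Finite H] (hM : IsPModular p M)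
    (hl : blockRank p (principalBlock M H) = 1) :
    ∃ K : Subgroup H, K.Normal ∧ ∀ y, y ∈ K ↔ ¬ p ∣ orderOf y := by
  let K : Subgroup H :=
    { carrier := {g | ∀ χ ∈ principalBlock M H, (χ : H → ℂ) g = (χ : H → ℂ) 1}
      one_mem' := fun _ _ => rfl
      mul_mem' := fun {a b} ha hb χ hχ => by
        obtain ⟨n, ρ, -, hρ⟩ := χ.2
        have h1 := ha χ hχ
        have h2 := hb χ hχ
        rw [← hρ, apply_eq_one_iff_ker] at h1 h2 ⊢
        rw [map_mul, h1, h2, mul_one]
      inv_mem' := fun {a} ha χ hχ => by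
        obtain ⟨n, ρ, -, hρ⟩ := χ.2
        have h1 := ha χ hχ
        rw [← hρ, apply_eq_one_iff_ker] at h1 ⊢
        have h := map_mul ρ a⁻¹ a
        rwa [inv_mul_cancel, map_one, h1, mul_one, eq_comm] at h }
  refine ⟨K, ⟨fun a ha g χ hχ => ?_⟩, fun y => ⟨fun hy => not_dvd_of_forall_eq hM isPBlock_principal hy,
    fun hy χ hχ => S4646.pRegular_ker_of_rank_one hM hl hy hχ⟩⟩
  rw [irr_classFun χ a g]
  exact ha χ hχ

variable {H : Type*} [Group H] [Finite H] {K : Subgroup H} (hK : ∀ y, y ∈ K ↔ ¬ p ∣ orderOf y)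
include hK

theorem not_dvd_card : ¬ p ∣ Nat.card K := fun h => by
  obtain ⟨y, hy⟩ := exists_prime_orderOf_dvd_card' p h
  exact (hK y).1 y.2 (by rw [Subgroup.orderOf_coe, hy])

theorem index_eq [K.Normal] (S : Sylow p H) : K.index = Nat.card S := by
  have hp : p.Prime := Fact.out
  have hq : IsPGroup p (H ⧸ K) := by
    intro q
    obtain ⟨g, rfl⟩ := QuotientGroup.mk_surjective q
    obtain ⟨j, m, hm, hj⟩ := Nat.exists_eq_pow_mul_and_not_dvd (orderOf_pos g).ne' p hp.ne_one
    refine ⟨j, ?_⟩
    rw [← QuotientGroup.mk_pow, QuotientGroup.eq_one_iff, hK,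
      orderOf_pow' _ (pow_ne_zero _ hp.ne_zero), hj, Nat.gcd_eq_right (dvd_mul_right _ _),
      Nat.mul_div_cancel_left _ (pow_pos hp.pos j)]
    exact hm
  obtain ⟨a, ha⟩ := IsPGroup.iff_card.1 hq
  rw [S.card_eq_multiplicity, ← K.card_mul_index, Nat.factorization_mul Nat.card_pos.ne'
    Subgroup.index_ne_zero_of_finite, Finsupp.add_apply,
    Nat.factorization_eq_zero_of_not_dvd (not_dvd_card hK), zero_add]
  change K.index = p ^ a at ha
  rw [ha, hp.factorization_pow, Finsupp.single_eq_same]

omit hK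

/-- A `p`-group with at most three classes has order at most three. -/
theorem card_le_three {P : Type*} [Group P] [Finite P] (hP : IsPGroup p P)
    (h : Nat.card (ConjClasses P) ≤ 3) : Nat.card P ≤ 3 := by
  haveI : Fintype P := Fintype.ofFinite P
  have hp : p.Prime := Fact.out
  by_cases hcom : ∀ a b : P, a * b = b * a
  · refine le_trans (le_of_eq (Nat.card_congr (Equiv.ofBijective ConjClasses.mk
      ⟨fun a b hab => ?_, ConjClasses.mk_surjective⟩))) h
    obtain ⟨c, hc⟩ := isConj_iff.1 (ConjClasses.mk_eq_mk_iff_isConj.1 hab)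
    rwa [hcom c a, mul_inv_cancel_right] at hc
  exfalso
  push Not at hcom
  obtain ⟨a, b, hab⟩ := hcom
  haveI : Nontrivial P := ⟨⟨a, 1, fun h => hab (by simp [h])⟩⟩
  haveI := hP.center_nontrivial
  have hz : 2 ≤ Nat.card (Subgroup.center P) := Finite.one_lt_card
  have heq := Group.nat_card_center_add_sum_card_noncenter_eq_card P
  have hanc : a ∉ Subgroup.center P := fun ha => hab (Subgroup.mem_center_iff.1 ha b).symm
  -- the central classes and the class of `a`
  have hinj : Function.Injective (fun z : Option (Subgroup.center P) =>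
      z.elim (ConjClasses.mk a) fun z => ConjClasses.mk (z : P)) := by
    have hfix : ∀ (z : Subgroup.center P) (w : P), IsConj (z : P) w → w = z := fun z w hw => by
      obtain ⟨c, hc⟩ := isConj_iff.1 hw
      rw [← hc, Subgroup.mem_center_iff.1 z.2 c, mul_inv_cancel_right]
    rintro (_ | z) (_ | w) hzw <;> simp only [Option.elim, ConjClasses.mk_eq_mk_iff_isConj] at hzw
    · rfl
    · exact absurd w.2 ((hfix w a hzw.symm) ▸ hanc)
    · exact absurd z.2 ((hfix z a hzw) ▸ hanc)
    · rw [Subtype.ext (hfix z w hzw)]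
  have hbij : Function.Bijective (fun z : Option (Subgroup.center P) =>
      z.elim (ConjClasses.mk a) fun z => ConjClasses.mk (z : P)) := by
    refine (Nat.bijective_iff_injective_and_card _).2 ⟨hinj, ?_⟩
    have := Nat.card_le_card_of_injective _ hinj
    rw [Finite.card_option] at this ⊢
    omega
  have hle := Nat.card_congr (Equiv.ofBijective _ hbij)
  rw [Finite.card_option] at hle
  have hz2 : Nat.card (Subgroup.center P) = 2 := by omega
  have hnc : ConjClasses.noncenter P = {ConjClasses.mk a} := by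
    ext C
    simp only [ConjClasses.mem_noncenter, Set.mem_singleton_iff]
    constructor
    · intro hC
      obtain ⟨_ | z, rfl⟩ := hbij.2 C
      · rfl
      · exfalso
        obtain ⟨u, hu, v, hv, huv⟩ := hC
        simp only [Option.elim, ConjClasses.mem_carrier_iff_mk_eq,
          ConjClasses.mk_eq_mk_iff_isConj] at hu hv
        obtain ⟨c, hc⟩ := isConj_iff.1 hu.symm
        obtain ⟨c', hc'⟩ := isConj_iff.1 hv.symm
        rw [Subgroup.mem_center_iff.1 z.2 c, mul_inv_cancel_right] at hc
        rw [Subgroup.mem_center_iff.1 z.2 c', mul_inv_cancel_right] at hc'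
        exact huv (hc.symm.trans hc')
    · rintro rfl
      obtain ⟨c, hc⟩ : ∃ c, c * a * c⁻¹ ≠ a := by
        by_contra hh
        push Not at hh
        exact hanc (Subgroup.mem_center_iff.2 fun c => mul_inv_eq_iff_eq_mul.1 (hh c))
      exact ⟨c * a * c⁻¹, ConjClasses.mem_carrier_iff_mk_eq.2
        (ConjClasses.mk_eq_mk_iff_isConj.2 (isConj_iff.2 ⟨c, rfl⟩).symm), a,
        ConjClasses.mem_carrier_mk, hc⟩
  rw [hz2, hnc, finsum_mem_singleton] at heq
  have hdvd : Nat.card (ConjClasses.mk a).carrier ∣ Nat.card P := by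
    classical
    rw [ConjClasses.card_carrier a |> fun h => (Nat.card_eq_fintype_card.trans h),
      Nat.card_eq_fintype_card]
    exact Nat.div_dvd_of_dvd (by
      rw [← Nat.card_eq_fintype_card, ← Nat.card_eq_fintype_card]
      exact Subgroup.card_subgroup_dvd_card _)
  rw [← heq] at hdvd
  have h2 := (Nat.dvd_add_left dvd_rfl).1 hdvd
  have h4 := Nat.le_of_dvd two_pos h2
  obtain ⟨n, hn⟩ := IsPGroup.iff_card.1 hP
  have hP4 : Nat.card P ≤ 4 := by omega
  -- groups of order at most four are commutative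
  rcases Nat.lt_or_ge n 3 with hn3 | hn3
  · interval_cases n
    · rw [pow_zero] at hn; omega
    · haveI := isCyclic_of_prime_card (hn.trans (pow_one p))
      exact hab ((IsCyclic.commutative (α := P)).is_comm.comm a b)
    · exact hab ((IsPGroup.isMulCommutative_of_card_eq_prime_sq (p := p) hn).is_comm.comm a b)
  · have : 2 ^ 3 ≤ p ^ n := (Nat.pow_le_pow_left hp.two_le 3).trans (Nat.pow_le_pow_right hp.pos hn3)
    omega

theorem irr_one (χ : IrrCharacter G) : (χ : G → ℂ) 1 = (charDegree (χ : G → ℂ) : ℂ) :=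
  CharAverage.apply_one_eq_charDegree (CharBasic.isCharacter_of_isIrrCharacter χ.2)

/-- A rational algebraic integer is an integer. -/
theorem exists_int_of_mul {z : ℂ} (hz : IsIntegral ℤ z) {n : ℕ} (hn : n ≠ 0) {a : ℤ}
    (h : (n : ℂ) * z = a) : ∃ k : ℤ, z = k := by
  have hzq : z = algebraMap ℚ ℂ ((a : ℚ) / n) := by
    rw [map_div₀, map_intCast, map_natCast, eq_div_iff (Nat.cast_ne_zero.2 hn), mul_comm, h]
  rw [hzq] at hz
  obtain ⟨k, hk⟩ := IsIntegrallyClosed.isIntegral_iff.1
    ((isIntegral_algebraMap_iff (algebraMap ℚ ℂ).injective).1 hz)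
  exact ⟨k, by rw [hzq, ← hk]; simp⟩

/-- With a subgroup of all regular elements, a block of three members forces order three. -/
theorem three_of_regular (hM : IsPModular p M) (hk : Nat.card (principalBlock M G) = 3)
    (D : Sylow p G) {N : Subgroup G} [N.Normal] (hN : ∀ y, y ∈ N ↔ ¬ p ∣ orderOf y)
    (hD : Nat.card D ≤ 3) : Nat.card D = 3 := by
  set C := Subgroup.centralizer ({(1 : G)} : Set G)
  set N' := N.subgroupOf C with hN'
  have hmem : ∀ y : C, y ∈ N' ↔ ¬ p ∣ orderOf y := fun y => by
    rw [Subgroup.mem_subgroupOf, hN, Subgroup.orderOf_coe]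
  haveI : N'.Normal := Subgroup.normal_subgroupOf
  have hCtop : C = ⊤ := (Subgroup.eq_top_iff' _).2 fun g =>
    Subgroup.mem_centralizer_singleton_iff.2 (by rw [one_mul, mul_one])
  have h := SectionComplement79.column N' hM (x := 1) ⟨0, by simp⟩ (not_dvd_card hmem) hmem
    (y := 1) ⟨0, by simp⟩
  rw [if_pos (IsConj.refl _), show N'.index = Nat.card D by
    rw [hN', ← Subgroup.relIndex, hCtop, Subgroup.relIndex_top_right, index_eq hN D]] at h
  have hdeg : ∀ χ ∈ members (principalBlock M G), ∃ f : ℕ, 1 ≤ f ∧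
      (χ : G → ℂ) 1 * conj ((χ : G → ℂ) 1) = ((f * f : ℕ) : ℂ) := fun χ _ =>
    ⟨charDegree (χ : G → ℂ), CharAverage.irr_degree_pos χ, by
      rw [irr_one, map_natCast, Nat.cast_mul]⟩
  choose! f hf1 hf using hdeg
  rw [Finset.sum_congr rfl hf, ← Nat.cast_sum, Nat.cast_inj] at h
  have h3 : 3 ≤ ∑ χ ∈ members (principalBlock M G), f χ * f χ := by
    rw [← hk, card_members, Finset.card_eq_sum_ones]
    exact Finset.sum_le_sum fun χ hχ => Nat.one_le_iff_ne_zero.2 (by
      have := hf1 χ hχ; positivity)
  omega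

set_option maxHeartbeats 1000000 in
theorem main (hM : IsPModular p M) (hk : Nat.card (principalBlock M G) = 3) (D : Sylow p G) :
    Nat.card D = 3 := by
  have hp : p.Prime := Fact.out
  set B := principalBlock M G with hBdef
  have hB : IsPBlock M B := isPBlock_principal
  -- the nontrivial central element
  rcases eq_or_ne (Nat.card D) 1 with hD1 | hD1
  · have hreg : ∀ y, y ∈ (⊤ : Subgroup G) ↔ ¬ p ∣ orderOf y := fun y =>
      ⟨fun _ h => by
        have h1 := h.trans (orderOf_dvd_natCard y)
        rw [D.card_eq_multiplicity, Nat.pow_eq_one] at hD1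
        exact (hp.factorization_pos_of_dvd Nat.card_pos.ne' h1).ne'
          (hD1.resolve_left hp.ne_one),
      fun _ => Subgroup.mem_top y⟩
    exact three_of_regular hM hk D hreg (by omega)
  haveI : Nontrivial D := Finite.one_lt_card_iff_nontrivial.1
    (by have : 0 < Nat.card D := Nat.card_pos; omega)
  haveI := D.isPGroup'.center_nontrivial
  obtain ⟨z₀, hz₀⟩ := exists_ne (1 : Subgroup.center (D : Subgroup G))
  set x : G := ((z₀ : (D : Subgroup G)) : G) with hxdef
  have hx1 : x ≠ 1 := fun h => hz₀ (Subtype.ext (Subtype.ext h))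
  have hxD : ∀ v ∈ (D : Subgroup G), Commute x v := fun v hv =>
    congrArg Subtype.val (Subgroup.mem_center_iff.1 z₀.2 ⟨v, hv⟩).symm
  have hpel : ∀ v ∈ (D : Subgroup G), ∃ k, orderOf v = p ^ k := fun v hv => by
    obtain ⟨k, hk'⟩ := IsPGroup.iff_orderOf.mp D.isPGroup' ⟨v, hv⟩
    exact ⟨k, by rw [← hk', Subgroup.orderOf_mk]⟩
  -- representatives of the classes of `p`-elements
  let E := {C : ConjClasses G // ∃ g : G, (∃ k, orderOf g = p ^ k) ∧ ConjClasses.mk g = C}
  choose rep hrep hrepC using fun C : E => C.2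
  haveI : Fintype E := Fintype.ofFinite E
  let X : Finset G := Finset.univ.image rep
  have hX : ∀ y ∈ X, ∃ k, orderOf y = p ^ k := fun y hy => by
    obtain ⟨C, -, rfl⟩ := Finset.mem_image.1 hy
    exact hrep C
  have hXrep : ∀ g : G, (∃ k, orderOf g = p ^ k) → ∃! y, y ∈ X ∧ IsConj g y := by
    intro g hg
    let C : E := ⟨ConjClasses.mk g, g, hg, rfl⟩
    refine ⟨rep C, ⟨Finset.mem_image_of_mem _ (Finset.mem_univ C),
      (ConjClasses.mk_eq_mk_iff_isConj.1 (hrepC C)).symm⟩, ?_⟩
    rintro y ⟨hy, hgy⟩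
    obtain ⟨C', -, rfl⟩ := Finset.mem_image.1 hy
    congr 1
    exact Subtype.ext ((hrepC C').symm.trans (ConjClasses.mk_eq_mk_iff_isConj.2 hgy.symm))
  set r : X → ℕ := fun y => ∑ b ∈ Finset.univ.filter
    (fun b => IsInducedBlock M (Subgroup.centralizer ({(y : G)} : Set G)) b B), blockRank p b with hr
  have hsum : ∑ y : X, r y = 3 := by rw [hr, ← card_eq_sum_rank hM hB hX hXrep, hk]
  have hpr : ∀ y : X, blockRank p (principalBlock M (Subgroup.centralizer ({(y : G)} : Set G))) ≤ r y :=
    fun y => Finset.single_le_sum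
      (f := fun b : Set (IrrCharacter (Subgroup.centralizer ({(y : G)} : Set G))) => blockRank p b)
      (fun b _ => Nat.zero_le _)
      (Finset.mem_filter.2 ⟨Finset.mem_univ _,
        SectionComplement79.induced_principal hM (hX _ y.2)⟩)
  have hpos : ∀ y : X, 1 ≤ blockRank p (principalBlock M (Subgroup.centralizer ({(y : G)} : Set G))) :=
    fun y => BlockCyclicRank81.blockRank_pos hM isPBlock_principal
  obtain ⟨o, ⟨hoX, ho⟩, -⟩ := hXrep 1 ⟨0, by simp⟩
  obtain rfl : o = 1 := by
    obtain ⟨c, hc⟩ := isConj_iff.1 ho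
    simpa using hc.symm
  obtain ⟨x', ⟨hx'X, hxx'⟩, -⟩ := hXrep x (hpel x (z₀ : (D : Subgroup G)).2)
  have hx'1 : x' ≠ 1 := by
    rintro rfl
    obtain ⟨c, hc⟩ := isConj_iff.1 hxx'
    exact hx1 (conj_eq_one_iff.1 hc)
  set y₁ : X := ⟨1, hoX⟩
  set y₂ : X := ⟨x', hx'X⟩
  have hy12 : y₁ ≠ y₂ := fun h => hx'1 (congrArg Subtype.val h).symm
  -- a regular subgroup of `G` finishes
  have hfin : ∀ {N : Subgroup G}, N.Normal → (∀ y, y ∈ N ↔ ¬ p ∣ orderOf y) → Nat.card D = 3 := by
    intro N hNn hN
    refine three_of_regular hM hk D hN ?_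
    refine card_le_three D.isPGroup' ?_
    have hcardX : X.card ≤ 3 := by
      rw [← Fintype.card_coe, Fintype.card, Finset.card_eq_sum_ones, ← hsum]
      exact Finset.sum_le_sum fun y _ => (hpos y).trans (hpr y)
    let φ : ConjClasses (D : Subgroup G) → X := fun C =>
      ⟨rep ⟨ConjClasses.map (D : Subgroup G).subtype C, by
        obtain ⟨v, rfl⟩ := ConjClasses.mk_surjective C
        exact ⟨(v : G), hpel v v.2, rfl⟩⟩, Finset.mem_image_of_mem _ (Finset.mem_univ _)⟩
    have hφ : Function.Injective φ := by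
      intro C C' h
      obtain ⟨v, rfl⟩ := ConjClasses.mk_surjective C
      obtain ⟨w, rfl⟩ := ConjClasses.mk_surjective C'
      have h1 := congrArg (fun y : X => ConjClasses.mk (y : G)) h
      simp only [φ, hrepC] at h1
      obtain ⟨g, hg⟩ := isConj_iff.1 (ConjClasses.mk_eq_mk_iff_isConj.1
        (show ConjClasses.mk (v : G) = ConjClasses.mk (w : G) from h1))
      have hsurj : ∀ q : G ⧸ N, ∃ t : (D : Subgroup G), QuotientGroup.mk (t : G) = q := by
        let f : (D : Subgroup G) →* G ⧸ N := (QuotientGroup.mk' N).comp (D : Subgroup G).subtype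
        have hf : Function.Injective f := (injective_iff_map_eq_one f).2 fun t ht => by
          have h2 := (hN t).1 ((QuotientGroup.eq_one_iff _).1 ht)
          obtain ⟨k, hk'⟩ := hpel t t.2
          rcases k with _ | k
          · exact Subtype.ext (orderOf_eq_one_iff.1 (by rw [hk', pow_zero]))
          · exact absurd (hk' ▸ dvd_pow_self p k.succ_ne_zero) h2
        exact ((Nat.bijective_iff_injective_and_card f).2 ⟨hf, (index_eq hN D).symm⟩).2
      obtain ⟨t, ht⟩ := hsurj g
      refine ConjClasses.mk_eq_mk_iff_isConj.2 (isConj_iff.2 ⟨t, ?_⟩)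
      have h2 : (QuotientGroup.mk ((t * v * t⁻¹ : (D : Subgroup G)) : G) : G ⧸ N) =
          QuotientGroup.mk (w : G) := by
        rw [← hg]
        simp only [Subgroup.coe_mul, Subgroup.coe_inv, QuotientGroup.mk_mul, QuotientGroup.mk_inv, ht]
      have h3 := (hN _).1 (QuotientGroup.eq.1 h2)
      obtain ⟨k, hk'⟩ := hpel _ (mul_mem (inv_mem (t * v * t⁻¹).2) w.2)
      rcases k with _ | k
      · exact Subtype.ext (inv_mul_eq_one.1 (orderOf_eq_one_iff.1 (by rw [hk', pow_zero])))
      · exact absurd (hk' ▸ dvd_pow_self p k.succ_ne_zero) h3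
    have := Nat.card_le_card_of_injective φ hφ
    rw [Nat.card_eq_fintype_card (α := X), Fintype.card_coe] at this
    omega
  by_cases hl1 : blockRank p (principalBlock M (Subgroup.centralizer ({(1 : G)} : Set G))) = 1
  · obtain ⟨K, hKn, hK⟩ := exists_regular hM hl1
    refine hfin (N := K.map (Subgroup.centralizer ({(1 : G)} : Set G)).subtype) ?_ fun y => ?_
    · refine ⟨?_⟩
      rintro _ ⟨a, ha, rfl⟩ g
      exact ⟨⟨g, Subgroup.mem_centralizer_singleton_iff.2 (by rw [one_mul, mul_one])⟩ * a *
        ⟨g, Subgroup.mem_centralizer_singleton_iff.2 (by rw [one_mul, mul_one])⟩⁻¹,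
        hKn.conj_mem a ha _, rfl⟩
    · constructor
      · rintro ⟨a, ha, rfl⟩
        have := (hK a).1 ha
        rwa [← Subgroup.orderOf_coe] at this
      · intro hy
        exact ⟨⟨y, Subgroup.mem_centralizer_singleton_iff.2 (by rw [one_mul, mul_one])⟩,
          (hK _).2 (by rwa [Subgroup.orderOf_mk]), rfl⟩
  have hl2 : 2 ≤ blockRank p (principalBlock M (Subgroup.centralizer ({(1 : G)} : Set G))) := by
    have := hpos y₁
    simp only [y₁] at this
    omega
  have hpair := Finset.sum_le_sum_of_subset (f := r)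
    (Finset.subset_univ ({y₁, y₂} : Finset X))
  rw [Finset.sum_pair hy12, hsum] at hpair
  have h1 := hpr y₁
  have h2 := hpr y₂
  have h3 := hpos y₂
  have hr1 : r y₁ = 2 ∧ r y₂ = 1 := by
    simp only [y₁] at h1 hpair ⊢
    omega
  have honly : ∀ g : G, (∃ k, orderOf g = p ^ k) → g ≠ 1 → IsConj g x := by
    intro g hg hg1
    obtain ⟨g', ⟨hg'X, hgg'⟩, -⟩ := hXrep g hg
    have hne1 : (⟨g', hg'X⟩ : X) ≠ y₁ := fun h => by
      obtain rfl : g' = 1 := congrArg Subtype.val h
      obtain ⟨c, hc⟩ := isConj_iff.1 hgg'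
      exact hg1 (conj_eq_one_iff.1 hc)
    by_cases h : (⟨g', hg'X⟩ : X) = y₂
    · obtain rfl : g' = x' := congrArg Subtype.val h
      exact hgg'.trans hxx'.symm
    · exfalso
      have hsub := Finset.sum_le_sum_of_subset (f := r)
        (Finset.subset_univ ({⟨g', hg'X⟩, y₁, y₂} : Finset X))
      rw [Finset.sum_insert (by simp [hne1, h]), Finset.sum_pair hy12, hsum] at hsub
      have := (hpos ⟨g', hg'X⟩).trans (hpr ⟨g', hg'X⟩)
      omega
  -- the centraliser of `x'` has rank one; transfer to `x`
  obtain ⟨Kx, hKxn, hKx⟩ := exists_regular (H := Subgroup.centralizer ({x'} : Set G)) hM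
    (by simp only [y₂] at h2 h3 hr1; omega)
  obtain ⟨c, hc⟩ := isConj_iff.1 hxx'.symm
  haveI := hKxn
  let e : Subgroup.centralizer ({x} : Set G) →* Subgroup.centralizer ({x'} : Set G) :=
    ((MulAut.conj c⁻¹).toMonoidHom.comp (Subgroup.centralizer ({x} : Set G)).subtype).codRestrict _
      fun g => Subgroup.mem_centralizer_singleton_iff.2 (by
        have hg : (g : G) * x = x * g := Subgroup.mem_centralizer_singleton_iff.1 g.2
        simp only [MonoidHom.comp_apply, Subgroup.coe_subtype, MulEquiv.coe_toMonoidHom,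
          MulAut.conj_apply, inv_inv]
        have hx'e : c⁻¹ * x * c = x' := by
          calc c⁻¹ * x * c = c⁻¹ * (c * x' * c⁻¹) * c := by rw [hc]
            _ = x' := by group
        calc c⁻¹ * g * c * x' = c⁻¹ * (g * (c * x' * c⁻¹)) * c := by group
          _ = c⁻¹ * (g * x) * c := by rw [hc]
          _ = c⁻¹ * (x * g) * c := by rw [hg]
          _ = c⁻¹ * x * c * (c⁻¹ * g * c) := by group
          _ = x' * (c⁻¹ * g * c) := by rw [hx'e])
  have he : Function.Injective e := fun a b h =>
    Subtype.ext ((MulAut.conj c⁻¹).injective (congrArg Subtype.val h))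
  set N := Kx.comap e with hNdef
  have hN : ∀ y, y ∈ N ↔ ¬ p ∣ orderOf y := fun y => by
    rw [hNdef, Subgroup.mem_comap, hKx, orderOf_injective e he]
  haveI : N.Normal := Subgroup.normal_comap e
  have hxp : ∃ k, orderOf x = p ^ k := hpel x (z₀ : (D : Subgroup G)).2
  have hDC : (D : Subgroup G) ≤ Subgroup.centralizer ({x} : Set G) := fun v hv =>
    Subgroup.mem_centralizer_singleton_iff.2 (hxD v hv).eq.symm
  have hidx : N.index = Nat.card D := (index_eq hN (D.subtype hDC)).trans
    (Nat.card_congr (Subgroup.subgroupOfEquivOfLe hDC).toEquiv)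
  -- order of `x` and the other powers
  have hox : orderOf x = p := by
    obtain ⟨k, hk'⟩ := hxp
    rcases k with _ | _ | k
    · exact absurd (orderOf_eq_one_iff.1 (by rw [hk', pow_zero])) hx1
    · rw [hk', zero_add, pow_one]
    · exfalso
      have hxp' : orderOf (x ^ p) = p ^ (k + 1) := by
        rw [orderOf_pow' _ hp.ne_zero, hk', pow_succ p (k + 1), Nat.gcd_eq_right (dvd_mul_left p _),
          Nat.mul_div_cancel _ hp.pos]
      have hne : x ^ p ≠ 1 := fun h => by
        rw [h, orderOf_one] at hxp'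
        exact absurd hxp'.symm (Nat.one_lt_pow (Nat.succ_ne_zero k) hp.one_lt).ne'
      obtain ⟨c', hc'⟩ := isConj_iff.1 (honly _ ⟨_, hxp'⟩ hne)
      have hco : orderOf x = orderOf (x ^ p) := by
        conv_lhs => rw [← hc']
        exact MulEquiv.orderOf_eq (MulAut.conj c') _
      rw [hk', hxp'] at hco
      have := Nat.pow_right_injective hp.two_le hco
      omega
  have hint : ∀ χ : IrrCharacter G, ∃ d : ℤ, (χ : G → ℂ) x = d := by
    intro χ
    haveI : Fintype (Subgroup.zpowers x) := Fintype.ofFinite _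
    have hc' := CharBasic.isCharacter_of_isIrrCharacter χ.2
    obtain ⟨m, hm⟩ := CharBasicDecomp.classInner_isGeneralizedCharacter
      (CharBasicDecomp.isGeneralizedCharacter_of_isCharacter
        (CharBasic.isCharacter_comap (Subgroup.zpowers x).subtype hc'))
      (CharBasicDecomp.isGeneralizedCharacter_of_isCharacter
        (CharBasicDecomp.isCharacter_linear (1 : Subgroup.zpowers x →* ℂˣ)))
    rw [classInner, ← Finset.add_sum_erase _ _ (Finset.mem_univ 1),
      Finset.sum_congr rfl (g := fun _ => (χ : G → ℂ) x) fun g hg => ?_, Finset.sum_const,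
      Finset.card_erase_of_mem (Finset.mem_univ _), Finset.card_univ, ← Nat.card_eq_fintype_card,
      Nat.card_zpowers, hox] at hm
    · simp only [Function.comp_apply, Subgroup.coe_subtype, OneMemClass.coe_one, MonoidHom.one_apply,
        Units.val_one, map_one, mul_one, nsmul_eq_mul, irr_one, Nat.cast_sub hp.one_le, Nat.cast_one] at hm
      rw [inv_mul_eq_iff_eq_mul₀ (Nat.cast_ne_zero.2 hp.ne_zero)] at hm
      exact exists_int_of_mul (CharBasic.isCharacter_integral hc' x)
        (show p - 1 ≠ 0 by have := hp.two_le; omega)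
        (a := (p : ℤ) * m - charDegree (χ : G → ℂ)) (by rw [Nat.cast_sub hp.one_le]; push_cast; linear_combination hm)
    · have hg1 : (g : G) ≠ 1 := fun h => (Finset.mem_erase.1 hg).1 (Subtype.ext h)
      have hgD : (g : G) ∈ (D : Subgroup G) :=
        Subgroup.zpowers_le.2 (z₀ : (D : Subgroup G)).2 g.2
      obtain ⟨c', hc''⟩ := isConj_iff.1 (honly _ (hpel _ hgD) hg1)
      simp only [Function.comp_apply, Subgroup.coe_subtype, MonoidHom.one_apply, Units.val_one,
        map_one, mul_one]
      exact (irr_classFun χ (g : G) c').symm.trans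
        (congrArg (χ : G → ℂ) hc'')
  choose d hd using hint
  -- the three members
  obtain ⟨χ₂, χ₃, h12, h13, h23, hmem⟩ : ∃ χ₂ χ₃ : IrrCharacter G, χ₂ ≠ oneChar G ∧
      χ₃ ≠ oneChar G ∧ χ₂ ≠ χ₃ ∧ members B = {oneChar G, χ₂, χ₃} := by
    have h1m : oneChar G ∈ members B := mem_members.2 (oneChar_mem hM)
    have hc3 : (members B).card = 3 := by rw [← card_members, hk]
    have he2 : ((members B).erase (oneChar G)).card = 2 := by
      rw [Finset.card_erase_of_mem h1m, hc3]
    obtain ⟨a, b, hab, hab'⟩ := Finset.card_eq_two.1 he2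
    refine ⟨a, b, ?_, ?_, hab, ?_⟩
    · exact (Finset.mem_erase.1 (show a ∈ (members B).erase (oneChar G) by rw [hab']; simp)).1
    · exact (Finset.mem_erase.1 (show b ∈ (members B).erase (oneChar G) by rw [hab']; simp)).1
    · rw [← hab', Finset.insert_erase h1m]
  have hsum3 : ∀ f : IrrCharacter G → ℂ, ∑ χ ∈ members B, f χ = f (oneChar G) + f χ₂ + f χ₃ := by
    intro f
    rw [hmem, Finset.sum_insert (by simp [Ne.symm h12, Ne.symm h13]), Finset.sum_pair h23]
    ring
  have hd1 : d (oneChar G) = 1 := by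
    have h' : ((d (oneChar G) : ℤ) : ℂ) = 1 := (hd (oneChar G)).symm
    exact_mod_cast h'
  have hsq : (1 : ℤ) + d χ₂ * d χ₂ + d χ₃ * d χ₃ = Nat.card D := by
    have h := SectionComplement79.column N hM hxp (not_dvd_card hN) hN (y := x) hxp
    rw [if_pos (IsConj.refl _), hidx, hsum3] at h
    simp only [hd, map_intCast, hd1, Int.cast_one, map_one, one_mul] at h
    exact_mod_cast h
  have hdeg : (1 : ℤ) + (charDegree (χ₂ : G → ℂ) : ℤ) * d χ₂ +
      (charDegree (χ₃ : G → ℂ) : ℤ) * d χ₃ = 0 := by
    have h := SectionComplement79.column N hM hxp (not_dvd_card hN) hN (y := 1) ⟨0, by simp⟩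
    rw [if_neg fun hc' => hx1 (by obtain ⟨c', hc''⟩ := isConj_iff.1 hc'; simpa using hc''.symm),
      hsum3] at h
    simp only [hd, map_intCast, hd1, irr_one, Int.cast_one, mul_one] at h
    have hd0 : ((oneChar G : IrrCharacter G) : G → ℂ) 1 = 1 := rfl
    have hd0' : charDegree ((oneChar G : IrrCharacter G) : G → ℂ) = 1 := by
      simp [oneChar, charDegree]
    simp only [hd0, hd0', map_one, Nat.cast_one, one_mul, mul_one] at h
    exact_mod_cast h
  -- the prime two
  rcases hp.eq_two_or_odd' with rfl | hodd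
  · obtain ⟨n, hn⟩ := IsPGroup.iff_card.1 D.isPGroup'
    have hn1 : n ≤ 1 := by
      by_contra hn2
      have h4 : (4 : ℤ) ∣ Nat.card D := by
        obtain ⟨m, rfl⟩ := Nat.exists_eq_add_of_le (show 2 ≤ n by omega)
        exact ⟨(2 ^ m : ℕ), by rw [hn]; push_cast; ring⟩
      rw [← hsq] at h4
      obtain ⟨m, hm⟩ := h4
      have key : ∀ t : ℤ, ∃ s, t * t = 4 * s ∨ t * t = 4 * s + 1 := fun t => by
        rcases Int.even_or_odd t with ⟨s, rfl⟩ | ⟨s, rfl⟩
        · exact ⟨s * s, Or.inl (by ring)⟩
        · exact ⟨s * s + s, Or.inr (by ring)⟩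
      obtain ⟨s, hs⟩ := key (d χ₂)
      obtain ⟨s', hs'⟩ := key (d χ₃)
      rcases hs with e | e <;> rcases hs' with e' | e' <;> omega
    have hD2 : Nat.card D = 2 := by
      interval_cases n
      · exact absurd (by rw [hn, pow_zero]) hD1
      · rw [hn, pow_one]
    haveI : IsCyclic D := isCyclic_of_prime_card hD2
    have hle : Subgroup.normalizer ((D : Subgroup G) : Set G) ≤
        Subgroup.centralizer ((D : Subgroup G) : Set G) := by
      intro g hg
      refine Subgroup.mem_centralizer_iff.2 fun v hv => ?_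
      have hv' := (Subgroup.mem_normalizer_iff.1 hg v).1 hv
      haveI : Fintype D := Fintype.ofFinite _
      have huniq : ∀ a b : D, a ≠ 1 → b ≠ 1 → a = b := fun a b ha hb => by
        by_contra hne
        have h3 : ({1, a, b} : Finset D).card ≤ 2 :=
          (Finset.card_le_univ _).trans (by rw [← Nat.card_eq_fintype_card, hD2])
        rw [Finset.card_insert_of_notMem (by simp [Ne.symm ha, Ne.symm hb]),
          Finset.card_pair hne] at h3
        omega
      rcases eq_or_ne v 1 with rfl | hv1
      · simp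
      · have := congrArg Subtype.val (huniq ⟨v, hv⟩ ⟨_, hv'⟩ (fun h => hv1 (congrArg Subtype.val h))
          (fun h => hv1 (conj_eq_one_iff.1 (congrArg Subtype.val h))))
        change v = g * v * g⁻¹ at this
        calc v * g = g * v * g⁻¹ * g := by rw [← this]
          _ = g * v := by group
    set K := (MonoidHom.transferSylow D hle).ker
    have hKc := MonoidHom.ker_transferSylow_isComplement' D hle
    refine hfin (N := K) inferInstance fun y => ?_
    constructor
    · intro hy h2
      refine (hKc.index_eq_card ▸ D.not_dvd_index : ¬ 2 ∣ Nat.card K) ?_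
      exact h2.trans (Subgroup.orderOf_dvd_natCard K hy)
    · intro hy
      have h1 := K.pow_index_mem y
      rw [hKc.symm.index_eq_card, hD2] at h1
      obtain ⟨j, hj⟩ := exists_pow_eq_self_of_coprime
        ((Fact.out : Nat.Prime 2).coprime_iff_not_dvd.2 hy)
      rw [← hj]; exact pow_mem h1 j
  -- the indicator column
  have hind : ∑ χ ∈ members B, nu (χ : G → ℂ) * (χ : G → ℂ) x = 1 := by
    set K := N.map (Subgroup.centralizer ({x} : Set G)).subtype with hKdef
    have hKmem : ∀ k ∈ K, Commute x k ∧ ¬ p ∣ orderOf k := by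
      rintro _ ⟨n, hn, rfl⟩
      exact ⟨(Subgroup.mem_centralizer_singleton_iff.1 n.2).symm,
        by rw [Subgroup.coe_subtype, Subgroup.orderOf_coe]; exact (hN n).1 hn⟩
    have hreg : ∀ g, Commute x g → ¬ p ∣ orderOf g → g ∈ K := fun g hg hg' =>
      ⟨⟨g, Subgroup.mem_centralizer_singleton_iff.2 hg.eq.symm⟩,
        (hN _).2 (by rwa [Subgroup.orderOf_mk]), rfl⟩
    have hKn : ∀ g, Commute x g → ∀ k ∈ K, g * k * g⁻¹ ∈ K := fun g hg k hk' => by
      obtain ⟨hk1, hk2⟩ := hKmem k hk'
      refine hreg _ ((hg.mul_right hk1).mul_right hg.inv_right) ?_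
      rwa [show g * k * g⁻¹ = MulAut.conj g k from rfl, MulEquiv.orderOf_eq]
    have hKp : ¬ p ∣ Nat.card K := by
      rw [hKdef, Subgroup.card_map_of_injective Subtype.val_injective]
      exact not_dvd_card hN
    have hL : ∑ χ : IrrCharacter G, nu (χ : G → ℂ) * ∑ k : K, (χ : G → ℂ) (x * k) =
        (Nat.card K : ℂ) * ∑ χ ∈ members B, nu (χ : G → ℂ) * (χ : G → ℂ) x := by
      rw [Finset.mul_sum]
      symm
      refine (Finset.sum_congr rfl fun χ hχ => ?_).trans (Finset.sum_subset (Finset.subset_univ _)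
        fun χ _ hχ => by
          rw [ZStarSection.apply_average_eq_zero hM hxp (fun k hk' => (hKmem k hk').1) hKp hKn hreg
            (fun h => hχ (mem_members.2 h)), mul_zero])
      rw [Finset.sum_congr rfl (g := fun _ => (χ : G → ℂ) x) fun k _ => ?_, Finset.sum_const,
        Finset.card_univ, nsmul_eq_mul, ← Nat.card_eq_fintype_card]
      · ring
      · obtain ⟨n, hn, hnk⟩ := k.2
        rw [← hnk]
        exact SectionComplement79.sec_const N hM hxp (not_dvd_card hN) hN (mem_members.1 hχ)
          ((hN n).1 hn)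
    have hR : ∑ χ : IrrCharacter G, nu (χ : G → ℂ) * ∑ k : K, (χ : G → ℂ) (x * k) =
        (Nat.card K : ℂ) := by
      simp only [Finset.mul_sum]
      rw [Finset.sum_comm]
      simp only [FSBound.sum_nu_mul_apply]
      rw [← Nat.cast_sum]
      congr 1
      rw [← Nat.card_sigma]
      obtain ⟨h, hh⟩ := hodd
      have hx2 : x ^ (h + 1) * x ^ (h + 1) = x := by
        rw [← pow_add, show h + 1 + (h + 1) = p + 1 by omega, pow_succ, ← hox, pow_orderOf_eq_one,
          one_mul]
      symm
      refine Nat.card_congr (Equiv.ofBijective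
        (fun w : K => (⟨⟨(w : G) * w, mul_mem w.2 w.2⟩, ⟨x ^ (h + 1) * w, by
          have hcw := ((hKmem w w.2).1.pow_left (h + 1))
          calc x ^ (h + 1) * w * (x ^ (h + 1) * w) = x ^ (h + 1) * ((w : G) * x ^ (h + 1)) * w := by
                group
            _ = x ^ (h + 1) * x ^ (h + 1) * (w * w) := by rw [← hcw.eq]; group
            _ = _ := by rw [hx2]⟩⟩ : Σ k : K, {g : G // g * g = x * k})) ⟨?_, ?_⟩)
      · intro a b hab
        have := congrArg (fun s : Σ k : K, {g : G // g * g = x * k} => (s.2 : G)) hab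
        exact Subtype.ext (mul_left_cancel this)
      · rintro ⟨k, g, hg⟩
        have hgx : Commute x g := by
          have hpp : IsPPart p (x * (k : G)) x :=
            ⟨k, rfl, (hKmem k k.2).1, hxp, (hKmem k k.2).2⟩
          have hpp' : IsPPart p (x * (k : G)) (g * x * g⁻¹) := by
            refine ⟨g * k * g⁻¹, ?_, ?_, ?_, ?_⟩
            · calc g * x * g⁻¹ * (g * k * g⁻¹) = g * (x * k) * g⁻¹ := by group
                _ = x * k := by rw [← hg]; group
            · show g * x * g⁻¹ * (g * k * g⁻¹) = g * k * g⁻¹ * (g * x * g⁻¹)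
              calc g * x * g⁻¹ * (g * k * g⁻¹) = g * (x * k) * g⁻¹ := by group
                _ = g * (k * x) * g⁻¹ := by rw [(hKmem k k.2).1.eq]
                _ = _ := by group
            · obtain ⟨j, hj⟩ := hxp
              exact ⟨j, by rw [← hj]; exact MulEquiv.orderOf_eq (MulAut.conj g) x⟩
            · rw [show g * (k : G) * g⁻¹ = MulAut.conj g k from rfl, MulEquiv.orderOf_eq]
              exact (hKmem k k.2).2
          exact (mul_inv_eq_iff_eq_mul.1 (pPart_unique hp hpp' hpp)).symm
        set w := (x ^ (h + 1))⁻¹ * g with hw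
        have hcw : Commute x w := ((Commute.refl x).pow_right (h + 1)).inv_right.mul_right hgx
        have hww : w * w = (k : G) := by
          have hcxg : Commute ((x ^ (h + 1))⁻¹) g := (hgx.pow_left (h + 1)).inv_left
          calc w * w = (x ^ (h + 1))⁻¹ * (g * (x ^ (h + 1))⁻¹) * g := by rw [hw]; group
            _ = (x ^ (h + 1))⁻¹ * (x ^ (h + 1))⁻¹ * (g * g) := by rw [← hcxg.eq]; group
            _ = (x ^ (h + 1) * x ^ (h + 1))⁻¹ * (x * k) := by rw [hg, mul_inv_rev]
            _ = k := by rw [hx2, inv_mul_cancel_left]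
        have hwK : w ∈ K := by
          refine hreg w hcw fun hd' => ?_
          have h2 : (w * w) ^ orderOf ((k : G)) = 1 := by rw [hww, pow_orderOf_eq_one]
          rw [← sq, ← pow_mul] at h2
          rcases (Nat.Prime.dvd_mul hp).1 (hd'.trans (orderOf_dvd_of_pow_eq_one h2)) with h' | h'
          · have := Nat.le_of_dvd two_pos h'
            have := hp.two_le
            omega
          · exact (hKmem k k.2).2 h'
        refine ⟨⟨w, hwK⟩, ?_⟩
        obtain ⟨kv, hkv⟩ := k
        simp only at hww hg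
        subst hww
        have hgeq : x ^ (h + 1) * w = g := by rw [hw, mul_inv_cancel_left]
        clear_value w
        subst hgeq
        rfl
    have := hL.symm.trans hR
    exact mul_left_cancel₀ (Nat.cast_ne_zero.2 Nat.card_pos.ne')
      (this.trans (mul_one _).symm)
  rw [hsum3] at hind
  have hnu1 : nu ((oneChar G : IrrCharacter G) : G → ℂ) = 1 := by
    simp [nu, oneChar, Nat.card_eq_fintype_card]
  rw [hnu1, hd, hd, hd, hd1, Int.cast_one, one_mul] at hind
  -- parity and the conclusion
  have hDodd : Odd (Nat.card D) := by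
    obtain ⟨n, hn⟩ := IsPGroup.iff_card.1 D.isPGroup'
    rw [hn]; exact hodd.pow
  have hboth : Odd (d χ₂) ∧ Odd (d χ₃) := by
    obtain ⟨t, ht⟩ := hDodd
    rw [ht] at hsq
    push_cast at hsq
    rcases Int.even_or_odd (d χ₂) with ⟨a, ha⟩ | ⟨a, ha⟩ <;>
      rcases Int.even_or_odd (d χ₃) with ⟨b, hb⟩ | ⟨b, hb⟩
    · exfalso
      rw [ha, hb] at hdeg
      have hev : (2 : ℤ) ∣ -1 := ⟨(charDegree (χ₂ : G → ℂ) : ℤ) * a +
        (charDegree (χ₃ : G → ℂ) : ℤ) * b, by linear_combination -hdeg⟩
      norm_num at hev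
    · exfalso
      rw [ha, hb] at hsq
      have hev : (2 : ℤ) ∣ 1 := ⟨(t : ℤ) - 2 * a * a - 2 * b * b - 2 * b, by linear_combination hsq⟩
      norm_num at hev
    · exfalso
      rw [ha, hb] at hsq
      have hev : (2 : ℤ) ∣ 1 := ⟨(t : ℤ) - 2 * a * a - 2 * b * b - 2 * a, by linear_combination hsq⟩
      norm_num at hev
    · exact ⟨⟨a, ha⟩, ⟨b, hb⟩⟩
  have hne2 : d χ₂ ≠ 0 := fun h => by rw [h] at hboth; exact absurd hboth.1 (by decide)
  have hne3 : d χ₃ ≠ 0 := fun h => by rw [h] at hboth; exact absurd hboth.2 (by decide)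
  have hone : ∀ {f g : ℤ} {a b : ℤ}, 1 + f * a + g * b = 0 → (b = a ∨ b = -a) →
      1 + a * a + b * b = 3 := by
    intro f g a b h hab
    rcases hab with e0 | e0 <;> rw [e0] at h ⊢
    · rcases Int.eq_one_or_neg_one_of_mul_eq_one (u := a) (v := -(f + g)) (by linear_combination -h)
        with e | e <;> rw [e] <;> norm_num
    · rcases Int.eq_one_or_neg_one_of_mul_eq_one (u := a) (v := -(f - g)) (by linear_combination -h)
        with e | e <;> rw [e] <;> norm_num
  have hfinal : d χ₃ = d χ₂ ∨ d χ₃ = -d χ₂ := by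
    obtain ⟨t2, i2⟩ := RealRep79.nu_trichotomy χ₂.2
    obtain ⟨t3, i3⟩ := RealRep79.nu_trichotomy χ₃.2
    have c2 : ((d χ₂ : ℤ) : ℂ) ≠ 0 := Int.cast_ne_zero.2 hne2
    have c3 : ((d χ₃ : ℤ) : ℂ) ≠ 0 := Int.cast_ne_zero.2 hne3
    rcases t2 with e2 | e2 | e2 <;> rcases t3 with e3 | e3 | e3 <;> rw [e2, e3] at hind
    · -- both non-real: complex conjugation exchanges them
      have hN2 : 2 ≤ 2 * Nat.card G := by have := Nat.card_pos (α := G); omega
      have hk1 : (2 * Nat.card G - 1).Coprime (Nat.card G) := by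
        refine Nat.Coprime.symm (Nat.coprime_of_dvd fun q hq hq1 hq2 => hq.ne_one ?_)
        have h' : q ∣ 2 * Nat.card G := hq1.mul_left 2
        have := Nat.dvd_sub h' hq2
        rw [show 2 * Nat.card G - (2 * Nat.card G - 1) = 1 by omega] at this
        exact Nat.dvd_one.1 this
      have hval : ∀ (χ : IrrCharacter G) (g : G),
          (GaloisChar80.twist hk1 χ : G → ℂ) g = conj ((χ : G → ℂ) g) := fun χ g => by
        rw [GaloisChar80.twist_apply,
          ← CharBasic.isCharacter_inv (CharBasic.isCharacter_of_isIrrCharacter χ.2) g]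
        refine congrArg (χ : G → ℂ) (eq_inv_of_mul_eq_one_left ?_)
        rw [← pow_succ, show 2 * Nat.card G - 1 + 1 = Nat.card G * 2 by omega, pow_mul,
          pow_card_eq_one', one_pow]
      have hm2 : GaloisChar80.twist hk1 χ₂ ∈ members B := mem_members.2
        (GaloisChar80.twist_mem_principalBlock hk1 (mem_members.1 (by rw [hmem]; simp)))
      rw [hmem, Finset.mem_insert, Finset.mem_insert, Finset.mem_singleton] at hm2
      obtain ⟨g, hg⟩ := i2.1 e2
      rcases hm2 with h | h | h
      · exfalso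
        apply hg
        have h' := hval χ₂ g
        rw [h] at h'
        have h'' : ((χ₂ : G → ℂ) g).im = 0 := by
          have h3 := congrArg Complex.im h'
          rw [Complex.conj_im] at h3
          have h4 : ((oneChar G : IrrCharacter G) : G → ℂ) g = 1 := rfl
          rw [h4, Complex.one_im] at h3
          linarith
        exact h''
      · exfalso
        apply hg
        have h' := hval χ₂ g
        rw [h] at h'
        have h3 := congrArg Complex.im h'
        rw [Complex.conj_im] at h3
        linarith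
      · left
        have h' := hval χ₂ x
        rw [h, hd, hd, map_intCast] at h'
        exact_mod_cast h'
    all_goals
      first
        | (exfalso; exact c2 (by linear_combination hind))
        | (exfalso; exact c2 (by linear_combination -hind))
        | (exfalso; exact c3 (by linear_combination hind))
        | (exfalso; exact c3 (by linear_combination -hind))
        | (left; exact_mod_cast (show ((d χ₃ : ℤ) : ℂ) = d χ₂ by linear_combination hind))
        | (left; exact_mod_cast (show ((d χ₃ : ℤ) : ℂ) = d χ₂ by linear_combination -hind))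
        | (right; exact_mod_cast (show ((d χ₃ : ℤ) : ℂ) = -(d χ₂ : ℂ) by linear_combination hind))
        | (right; exact_mod_cast (show ((d χ₃ : ℤ) : ℂ) = -(d χ₂ : ℂ) by linear_combination -hind))
  have h3 : ((Nat.card D : ℕ) : ℤ) = ((3 : ℕ) : ℤ) := hsq.symm.trans (hone hdeg hfinal)
  exact_mod_cast h3

end Cfsg.Agent.BlockThreeChars82
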