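import Cfsg.Agent.Lib.BlockAbelianTwist31
import Cfsg.Agent.Lib.BlockLatticeBound31
import Cfsg.Agent.Lib.BlockSmallCount31
import Cfsg.Agent.Lib.BlockFreeElement31

/-!
Blocks with abelian defect group and central subgroups: characters sharing their restriction to the
regular elements, and `k(B) ≤ |D|` when the quotient by a central subgroup needs two generators.
-/

set_option autoImplicit false

namespace Cfsg.Agent.BlockTwins31

open Cfsg Cfsg.Agent.BlockTheoryLocalRing Cfsg.Agent.BlockTheoryCentre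
open Cfsg.Agent.BlockTheoryIdem Cfsg.Agent.BlockTheoryBrauer Cfsg.Agent.BlockTheoryDefect
open Cfsg.Agent.BlockContrib Cfsg.Agent.BlockContribBounds
open Cfsg.Agent.BrauerPairs81Base Cfsg.Agent.BrauerPairs81Pairs Cfsg.Agent.BrauerPairs81Conj
open Cfsg.Agent.BrauerPairs81Max Cfsg.Agent.BrauerPairs81Local Cfsg.Agent.BrauerPairs81Fusion
open Cfsg.Agent.BlockCyclicRank81 Cfsg.Agent.BlockMajorLattice82 Cfsg.Agent.BlockSmallCount31
open Cfsg.Agent.BlockAbelianWeight31 Cfsg.Agent.BlockAbelianNorm31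
open Cfsg.Agent.Star80Pairs Cfsg.Agent.Star80Char Cfsg.Agent.Star80Inner Cfsg.Agent.Star80Twist

attribute [local instance] Classical.propDecidable

set_option linter.unusedSectionVars false

variable {p : ℕ} [Fact p.Prime] {M : Ideal AlgInt} {G : Type*} [Group G] [Fintype G]
  {B : Set (IrrCharacter G)} {P : Subgroup G} {c : Set (IrrCharacter (Cen P))}

/-- An invariant linear character is stable along the pairs below an abelian maximal pair. -/
theorem stable_of_invariant (hM : IsPModular p M) (hmax : IsMaximalBrauerPair p M B P c)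
    (hab : ∀ x ∈ P, ∀ y ∈ P, x * y = y * x) {lam : P →* ℂˣ}
    (hlam : ∀ v w : P, w ∈ orbit c v → lam w = lam v) :
    Stable p M (⟨P, c⟩ : BrauerPairIdx G) (lin0 lam) := by
  rintro g x ⟨a, ha1, ha, hga⟩
  have hxa : x ∈ a.1 := ha1 ▸ Subgroup.mem_zpowers x
  have hx : x ∈ P := subgroup_le_of_subpairLE ha hxa
  have hgx : g * x * g⁻¹ ∈ P := subgroup_le_of_subpairLE hga ⟨x, hxa, rfl⟩
  obtain ⟨y, hy, z, hz, rfl⟩ := BlockAbelian81.fus_control hM hmax hab ha hga
  rw [lin0_of_mem lam hgx, lin0_of_mem lam hx]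
  refine congrArg Units.val (hlam ⟨x, hx⟩ ⟨_, hgx⟩ (mem_orbit.2 ⟨y, hy, ?_⟩))
  show y * x * y⁻¹ = y * z * x * (y * z)⁻¹
  rw [show y * z * x * (y * z)⁻¹ = y * (z * x) * z⁻¹ * y⁻¹ by group,
    ← Subgroup.mem_centralizer_iff.mp hz x hxa]
  group

/-- The members sharing the restriction of `φ` to the regular elements. -/
noncomputable def sameReg (p : ℕ) (B : Set (IrrCharacter G)) (φ : IrrCharacter G) :
    Finset (IrrCharacter G) :=
  (members B).filter fun ψ => ∀ g : G, ¬ p ∣ orderOf g → (ψ : G → ℂ) g = (φ : G → ℂ) g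

/-- Every member shares its regular restriction with at least `|Z|` members. -/
theorem card_le_sameReg (hM : IsPModular p M) (hmax : IsMaximalBrauerPair p M B P c)
    (hab : ∀ x ∈ P, ∀ y ∈ P, x * y = y * x) {Z : Subgroup G} (hZP : Z ≤ P)
    (hZc : Z ≤ Subgroup.center G) {φ : IrrCharacter G} (hφ : φ ∈ B) :
    Nat.card Z ≤ (sameReg p B φ).card := by
  letI := commP hab
  set Z' : Subgroup P := Z.subgroupOf P with hZ'
  have hfixed : ∀ z : Z', Fixed c (z : P) := fun z y _ => by
    have hzc : ((z : P) : G) ∈ Subgroup.center G := hZc (Subgroup.mem_subgroupOf.1 z.2)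
    rw [Subgroup.mem_center_iff.1 hzc y, mul_inv_cancel_right]
  set m := (cenT c).index with hm
  have hmp : ¬ p ∣ m := not_dvd_index hM hmax hab
  have hext : ∀ χ : Z' →* ℂˣ, ∃ ψ : P →* ℂˣ, ∀ z : Z', ψ (z : P) = χ z := fun χ => by
    obtain ⟨ψ, hψ⟩ := MonoidHom.domRestrict_surjective ℂ Z' χ
    exact ⟨ψ, fun z => congrArg (fun f : Z' →* ℂˣ => f z) hψ⟩
  choose ext hext using hext
  set lam : (Z' →* ℂˣ) → (P →* ℂˣ) := fun χ => (ext χ).comp (norm c hab) with hlamdef
  have hlamZ : ∀ χ (z : Z'), lam χ (z : P) = χ z ^ m := fun χ z => by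
    rw [hlamdef, MonoidHom.comp_apply, norm_fixed hab (hfixed z), map_pow, hext]
  have hlaminv : ∀ χ, ∀ v w : P, w ∈ orbit c v → lam χ w = lam χ v := fun χ v w h =>
    congrArg (ext χ) (norm_orbit hab h)
  have htw : ∀ χ, ∃ ψ ∈ B, ((ψ : IrrCharacter G) : G → ℂ) =
      star p M B ⟨P, c⟩ (lin0 (lam χ)) (φ : G → ℂ) := fun χ =>
    mem_of_norm_one hM hmax hφ
      (isGen_star hM hmax (stable_of_invariant hM hmax hab (hlaminv χ)) (gen_lin0 _) hφ)
      (norm_star hM hmax hφ fun _ hx => lin0_norm _ hx) one_ne_zero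
      (by rw [lin0_apply_one, Nat.cast_one])
  choose tw htwB htwv using htw
  have hreg : ∀ χ, tw χ ∈ sameReg p B φ := fun χ => Finset.mem_filter.2
    ⟨mem_members.2 (htwB χ), fun g hg => by
      rw [htwv, star_regular hM hmax hφ hg, lin0_apply_one, one_mul]⟩
  have hinj : Function.Injective tw := by
    intro χ χ' h
    refine MonoidHom.ext fun z => ?_
    have hzc : ((z : P) : G) ∈ Subgroup.center G := hZc (Subgroup.mem_subgroupOf.1 z.2)
    have hzo : ∃ k, orderOf ((z : P) : G) = p ^ k := by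
      obtain ⟨k, hk⟩ := IsPGroup.iff_orderOf.mp hmax.1.1.1 (z : P)
      exact ⟨k, by rw [← hk, Subgroup.orderOf_coe]⟩
    have hval : ∀ χ : Z' →* ℂˣ, ((tw χ : IrrCharacter G) : G → ℂ) ((z : P) : G) =
        ((χ z ^ m : ℂˣ) : ℂ) * (φ : G → ℂ) ((z : P) : G) := fun χ => by
      rw [htwv, ← hlamZ]
      have h1 := star_of_const (z0 := lin0 (lam χ)) hM hmax hφ hzo (c := (lam χ (z : P) : ℂ))
        (fun g _ => by rw [Subgroup.mem_center_iff.1 hzc g, mul_inv_cancel_right, lin0_coe])
        1 (by simpa using hM.1.ne_one)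
      simpa using h1
    have hne : (φ : G → ℂ) ((z : P) : G) ≠ 0 := fun h0 => by
      have h1 := BlockCentral81.char_center_mul φ hzc ((z : P) : G)⁻¹
      rw [mul_inv_cancel, h0, zero_div, zero_mul] at h1
      exact irr_one_ne_zero φ h1
    have hpow : χ z ^ m = χ' z ^ m := by
      refine Units.ext (mul_right_cancel₀ hne ?_)
      rw [← hval, ← hval, h]
    obtain ⟨k, hk⟩ := IsPGroup.iff_orderOf.mp hmax.1.1.1 (z : P)
    have hcop : m.Coprime (orderOf z) := by
      rw [← Subgroup.orderOf_coe, hk]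
      exact ((hM.1.coprime_iff_not_dvd.2 hmp).pow_left k).symm
    obtain ⟨r, hr⟩ := exists_pow_eq_self_of_coprime hcop
    rw [← hr, map_pow, map_pow, map_pow, map_pow, hpow]
  haveI : Finite (Z' →* ℂˣ) := Finite.of_injective tw hinj
  have hc : Nat.card (Z' →* ℂˣ) = Nat.card Z := by
    rw [CommGroup.card_monoidHom_of_hasEnoughRootsOfUnity,
      Nat.card_congr (Subgroup.subgroupOfEquivOfLe hZP).toEquiv]
  haveI := Fintype.ofFinite (Z' →* ℂˣ)
  rw [← hc, Nat.card_eq_fintype_card, ← Finset.card_univ]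
  exact Finset.card_le_card_of_injOn tw (fun χ _ => hreg χ) hinj.injOn

/-- A central subgroup of the defect group divides down the rank. -/
theorem card_mul_rank_le (hM : IsPModular p M) (hmax : IsMaximalBrauerPair p M B P c)
    (hab : ∀ x ∈ P, ∀ y ∈ P, x * y = y * x) {Z : Subgroup G} (hZP : Z ≤ P)
    (hZc : Z ≤ Subgroup.center G) : Nat.card Z * blockRank p B ≤ Nat.card B := by
  set r : IrrCharacter G → (G → ℂ) := fun χ => pRegularPart p (χ : G → ℂ) with hr
  have h1 : blockRank p B ≤ ((members B).image r).card := by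
    rw [blockRank, show r '' B = ↑((members B).image r) by simp [members]]
    exact finrank_span_finset_le_card _
  rw [card_members, Finset.card_eq_sum_card_image r (members B)]
  refine le_trans (Nat.mul_le_mul_left _ h1) ?_
  rw [mul_comm, ← smul_eq_mul]
  refine Finset.card_nsmul_le_sum _ _ _ fun f hf => ?_
  obtain ⟨φ, hφ, rfl⟩ := Finset.mem_image.1 hf
  refine le_trans (card_le_sameReg hM hmax hab hZP hZc (mem_members.1 hφ)) (Finset.card_le_card ?_)
  intro ψ hψ
  obtain ⟨hψB, hψv⟩ := Finset.mem_filter.1 hψ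
  refine Finset.mem_filter.2 ⟨hψB, funext fun g => ?_⟩
  simp only [hr, pRegularPart, IsPRegular]
  by_cases hg : p ∣ orderOf g <;> simp [hg, hψv g]

/-- A central subgroup of index `p` in the defect group: the form is at least the rank. -/
theorem minAtLeast (hM : IsPModular p M) (hmax : IsMaximalBrauerPair p M B P c)
    (hab : ∀ x ∈ P, ∀ y ∈ P, x * y = y * x) {Z : Subgroup G} (hZP : Z ≤ P)
    (hZc : Z ≤ Subgroup.center G) (hcard : Nat.card Z * p = Nat.card P) :
    MinAtLeast p B (blockRank p B) := by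
  have hB := hmax.1.2.1
  have hp := hM.1
  have hPd := card_defectGroup hM hB (isDefectGroup_of_maximal hM hmax)
  set d := blockDefect p B with hd
  have hd1 : 1 ≤ d := by
    rcases Nat.eq_zero_or_pos d with h | h
    · rw [h, pow_zero, ← hcard] at hPd
      exact absurd (Nat.eq_one_of_mul_eq_one_left hPd) hp.ne_one
    · exact h
  have hN : Nat.card Z = p ^ (d - 1) := by
    refine Nat.eq_of_mul_eq_mul_right hp.pos ?_
    rw [hcard, hPd, ← pow_succ, Nat.sub_add_cancel hd1]
  obtain ⟨φ₀, hφ₀, h0⟩ := exists_height_zero hM hB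
  have hnd : ¬ (p : ℤ) ∣ contrib p B φ₀ φ₀ := by
    simpa [h0] using contrib_not_dvd hM hB hφ₀ h0 hφ₀
  obtain ⟨e, he⟩ : ∃ e : ℤ, (p : ℤ) ∣ contrib p B φ₀ φ₀ * e - 1 := by
    obtain ⟨x, y, hxy⟩ := (Nat.prime_iff_prime_int.1 hp).coprime_iff_not_dvd.2 hnd
    exact ⟨y, -x, by linear_combination hxy⟩
  intro z hz
  obtain ⟨φ, hφ, hne⟩ := hz
  have hmem : ∀ i : ↥(members B), (i : IrrCharacter G) ∈ B := fun i => mem_members.1 i.2
  set C : ↥(members B) → ↥(members B) → ℤ := fun i j => contrib p B i j with hC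
  have hcmul : ∀ i : ↥(members B), ∑ j : ↥(members B), C i j * z j = cmul p B z i := fun i => by
    rw [cmul_eq, ← Finset.sum_coe_sort (members B)]
  have h := BlockLatticeBound31.le_form C (l := blockRank p B) hp.pos hd1 hN
    (fun i j => contrib_comm hp (hmem i) (hmem j))
    (fun i j => by
      have h := sum_contrib_mul hM hB (hmem i) (hmem j)
      rw [filter_eq_members, ← Finset.sum_coe_sort (members B)] at h
      exact h)
    (by rw [hC, Finset.sum_coe_sort (members B) fun i => contrib p B i i]; exact sum_diag hM hB)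
    (fun i => contrib p B i φ₀) e
    (fun i j => ?_) ⟨φ₀, mem_members.2 hφ₀⟩
    (fun i h => by
      have h1 := contrib_not_dvd hM hB hφ₀ h0 (hmem i)
      rw [contrib_comm hp hφ₀ (hmem i)] at h1
      exact h1 (by rw [show contrib p B (i : IrrCharacter G) φ₀ = 0 from h]; exact dvd_zero _))
    (fun i => ?_) (fun i => z i) ⟨⟨φ, mem_members.2 hφ⟩, by rw [hcmul]; exact hne⟩
  · refine h.trans (le_of_eq ?_)
    rw [qform, ← Finset.sum_coe_sort (members B) fun i => z i * cmul p B z i]
    exact Finset.sum_congr rfl fun i _ => by rw [hcmul]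
  · -- rank one modulo `p`
    set v := col p B (i : IrrCharacter G) with hv
    have hvj : v (j : IrrCharacter G) = contrib p B i j := if_pos (hmem j)
    have hv0 : v φ₀ = contrib p B i φ₀ := if_pos hφ₀
    set a := contrib p B φ₀ φ₀
    have hw : a • v - (v φ₀) • col p B φ₀ ∈ lat p B :=
      sub_mem (Submodule.smul_mem _ _ (col_mem (hmem i))) (Submodule.smul_mem _ _ (col_mem hφ₀))
    have h2 := coord_congr hM hB hφ₀ h0 (hmem j) hw (by
      simp only [Pi.sub_apply, Pi.smul_apply, smul_eq_mul]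
      rw [show col p B φ₀ φ₀ = a from if_pos hφ₀]
      exact ⟨0, by ring⟩)
    simp only [Pi.sub_apply, Pi.smul_apply, smul_eq_mul, hvj, hv0] at h2
    rw [show col p B φ₀ (j : IrrCharacter G) = contrib p B φ₀ j from if_pos (hmem j),
      contrib_comm hp hφ₀ (hmem j)] at h2
    have e1 : C i j - e * contrib p B i φ₀ * contrib p B j φ₀ =
        e * (a * contrib p B i j - contrib p B i φ₀ * contrib p B j φ₀) -
          (a * e - 1) * contrib p B i j := by rw [hC]; ring
    rw [e1]
    exact dvd_sub (h2.mul_left _) (he.mul_right _)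
  · refine le_trans (card_le_sameReg hM hmax hab hZP hZc (hmem i)) ?_
    refine Finset.card_le_card_of_injOn
      (fun ψ => if h : ψ ∈ members B then (⟨ψ, h⟩ : ↥(members B)) else i) (fun ψ hψ => ?_) ?_
    · obtain ⟨hψB, hψv⟩ := Finset.mem_filter.1 (Finset.mem_coe.1 hψ)
      refine Finset.mem_coe.2 (Finset.mem_filter.2 ⟨Finset.mem_univ _, fun k => ?_⟩)
      simp only [dif_pos hψB, hC]
      have h1 : pair p ((k : IrrCharacter G) : G → ℂ) ψ =
          pair p ((k : IrrCharacter G) : G → ℂ) (i : IrrCharacter G) := by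
        rw [pair, pair, regSum_eq, regSum_eq]
        refine Finset.sum_congr rfl fun g _ => ?_
        by_cases hg : p ∣ orderOf g
        · simp [hg]
        · rw [if_pos hg, if_pos hg, hψv g hg]
      rw [pair_eq_contrib hp _ (mem_members.1 hψB), pair_eq_contrib hp _ (hmem i)] at h1
      exact_mod_cast mul_left_cancel₀ (scale_ne_zero hp B) h1
    · intro ψ hψ ψ' hψ' h
      simp only [dif_pos (Finset.mem_filter.1 (Finset.mem_coe.1 hψ)).1,
        dif_pos (Finset.mem_filter.1 (Finset.mem_coe.1 hψ')).1] at h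
      exact congrArg Subtype.val h

/-- Conjugation of `P` by the inertial group. -/
noncomputable def stabAct (c : Set (IrrCharacter (Cen P))) :
    stab (⟨P, c⟩ : BrauerPairIdx G) →* MulAut P :=
  P.normalizerMonoidHom.comp
    (Subgroup.inclusion (stab_le_normalizer (⟨P, c⟩ : BrauerPairIdx G)))

theorem stabAct_apply (y : stab (⟨P, c⟩ : BrauerPairIdx G)) (x : P) :
    ((stabAct c y x : P) : G) = (y : G) * x * (y : G)⁻¹ := rfl

/-- `k(B) ≤ |D|` when `D` is generated by a central subgroup and two elements. -/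
theorem card_le (hM : IsPModular p M) (hmax : IsMaximalBrauerPair p M B P c)
    (hab : ∀ x ∈ P, ∀ y ∈ P, x * y = y * x) (W : Subgroup G) (hWP : W ≤ P)
    (hWc : W ≤ Subgroup.center G) {a b : G} (ha : a ∈ P) (hb : b ∈ P)
    (hgen : P ≤ W ⊔ Subgroup.zpowers a ⊔ Subgroup.zpowers b) :
    Nat.card B ≤ Nat.card P := by
  have hB := hmax.1.2.1
  have hPd := card_defectGroup hM hB (isDefectGroup_of_maximal hM hmax)
  by_cases hfree : ∃ v ∈ P, ∀ y ∈ stab (⟨P, c⟩ : BrauerPairIdx G), Commute v y → y ∈ Cen P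
  · obtain ⟨v, hv, hfree⟩ := hfree
    obtain ⟨bv, hbv⟩ := exists_subpair hM hmax.1.1 (Subgroup.zpowers_le.2 hv)
    exact BlockAbelian81.card_le_of_rank_one hM hmax hab hv hbv
      (BlockAbelian81.rank_cen_eq_one hM hmax hab hv hbv hfree)
  push Not at hfree
  letI := commP hab
  set W' := W.subgroupOf P with hW'
  have hVp : IsPGroup p P := hmax.1.1.1
  have hpow : ∀ y, stabAct c y ^ (cenT c).index = 1 := fun y => by
    rw [← map_pow]
    refine MulEquiv.ext fun x => Subtype.ext ?_
    rw [stabAct_apply, MulAut.one_apply,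
      ← Subgroup.mem_centralizer_iff.mp
        (Subgroup.mem_subgroupOf.1 ((cenT c).pow_index_mem y)) x x.2,
      mul_inv_cancel_right]
  have hsup : ∀ v : P, (W' ⊔ Subgroup.zpowers v).map P.subtype = W ⊔ Subgroup.zpowers (v : G) :=
    fun v => by
      rw [Subgroup.map_sup, MonoidHom.map_zpowers, Subgroup.map_subgroupOf_eq_of_le hWP]
      rfl
  have hgen' : W' ⊔ Subgroup.zpowers (⟨a, ha⟩ : P) ⊔ Subgroup.zpowers (⟨b, hb⟩ : P) = ⊤ := by
    refine Subgroup.map_injective P.subtype_injective ?_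
    rw [Subgroup.map_sup, hsup, MonoidHom.map_zpowers, ← MonoidHom.range_eq_map, Subgroup.range_subtype]
    exact le_antisymm (sup_le (sup_le hWP (Subgroup.zpowers_le.2 ha)) (Subgroup.zpowers_le.2 hb)) hgen
  by_cases hbig : ∀ v : P, Nat.card (W' ⊔ Subgroup.zpowers v : Subgroup P) * p ^ 2 ≤ Nat.card P
  · obtain ⟨v, hv⟩ := BlockFreeElement31.exists_free hM.1 hVp (stabAct c)
      (not_dvd_index hM hmax hab) hpow W'
      (fun y x hx => Subtype.ext (by
        rw [stabAct_apply, Subgroup.mem_center_iff.1 (hWc (Subgroup.mem_subgroupOf.1 hx)) (y : G),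
          mul_inv_cancel_right]))
      _ _ hgen' hbig
    obtain ⟨y, hy, hvy, hyP⟩ := hfree v v.2
    refine absurd (Subgroup.mem_centralizer_iff.mpr fun x hx => ?_) hyP
    have h1 := congrArg (fun f : MulAut P => ((f ⟨x, hx⟩ : P) : G))
      (hv ⟨y, hy⟩ (Subtype.ext (by rw [stabAct_apply, ← hvy.eq, mul_inv_cancel_right])))
    simp only [stabAct_apply, MulAut.one_apply] at h1
    exact (mul_inv_eq_iff_eq_mul.1 h1).symm
  push Not at hbig
  obtain ⟨v, hv⟩ := hbig
  set Z := W ⊔ Subgroup.zpowers (v : G) with hZdef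
  have hZP : Z ≤ P := sup_le hWP (Subgroup.zpowers_le.2 v.2)
  rw [← Subgroup.card_map_of_injective P.subtype_injective, hsup, ← hZdef] at hv
  have hZcard : Nat.card Z * p = Nat.card P := by
    have hne : Z ≠ P := fun he => by
      obtain ⟨y, hy, hvy, hyP⟩ := hfree v v.2
      refine hyP (Subgroup.mem_centralizer_iff.mpr fun x hx => ?_)
      have hle : Z ≤ Subgroup.centralizer ({y} : Set G) := sup_le
        (fun w hw => Subgroup.mem_centralizer_singleton_iff.mpr
          (Subgroup.mem_center_iff.1 (hWc hw) y).symm)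
        (Subgroup.zpowers_le.2 (Subgroup.mem_centralizer_singleton_iff.mpr hvy.eq))
      exact Subgroup.mem_centralizer_singleton_iff.mp (hle (he.symm ▸ hx))
    obtain ⟨i, hi, hZi⟩ := (Nat.dvd_prime_pow hM.1).1 (hPd ▸ Subgroup.card_dvd_of_le hZP)
    rw [hPd, hZi, ← pow_add] at hv
    have h2 := (Nat.pow_lt_pow_iff_right hM.1.one_lt).1 hv
    have h3 : i ≠ blockDefect p B := fun he => hne
      (Subgroup.eq_of_le_of_card_ge hZP (by rw [hPd, hZi, he]))
    rw [hPd, hZi, ← pow_succ]
    congr 1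
    omega
  set Q := Subgroup.zpowers (v : G) with hQ
  have hQP : Q ≤ P := Subgroup.zpowers_le.2 v.2
  have hPQ : P ≤ Cen Q := fun x hx =>
    Subgroup.mem_centralizer_iff.mpr fun q hq => hab q (hQP hq) x hx
  obtain ⟨hS, c₀, hmax₀, -, -⟩ := exists_inner hM hmax hQP hPQ
  have hle := pairOn_le hM hmax hQP
  have hab₀ : ∀ x ∈ P.subgroupOf (Cen Q), ∀ y ∈ P.subgroupOf (Cen Q), x * y = y * x :=
    fun x hx y hy => Subtype.ext (hab _ hx _ hy)
  have hZc : Z.subgroupOf (Cen Q) ≤ Subgroup.center (Cen Q) := by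
    intro x hx
    refine Subgroup.mem_center_iff.2 fun y => Subtype.ext ?_
    have hle2 : Z ≤ Subgroup.centralizer ({(y : G)} : Set G) := sup_le
      (fun w hw => Subgroup.mem_centralizer_singleton_iff.mpr
        (Subgroup.mem_center_iff.1 (hWc hw) y).symm)
      (Subgroup.zpowers_le.2 (Subgroup.mem_centralizer_singleton_iff.mpr
        ((centralizer_zpowers _ _).1 y.2).eq))
    exact (Subgroup.mem_centralizer_singleton_iff.mp (hle2 hx)).symm
  have hmin := minAtLeast hM hmax₀ hab₀ (Z := Z.subgroupOf (Cen Q))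
    (fun x hx => hZP hx) hZc (by
      rw [Nat.card_congr (Subgroup.subgroupOfEquivOfLe (hZP.trans hPQ)).toEquiv,
        Nat.card_congr (Subgroup.subgroupOfEquivOfLe hPQ).toEquiv]
      exact hZcard)
  have huo : ∃ k, orderOf (v : G) = p ^ k := by
    obtain ⟨k, hk⟩ := IsPGroup.iff_orderOf.mp hVp v
    exact ⟨k, by rw [← hk, Subgroup.orderOf_coe]⟩
  have hmul := card_mul_le hM huo (centralizer_zpowers (v : G))
    (induced_of_pairOf hM (isBrauerPairOf_down hM hle hmax.1))
    (BlockAbelian81.defect_cen hM hmax hab hQP hle) hmin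
  rw [← hPd] at hmul
  exact Nat.le_of_mul_le_mul_right hmul (blockRank_pos hM hmax₀.1.2.1)

end Cfsg.Agent.BlockTwins31
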