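import Mathlib
import Cfsg.Agent.Lib.PrincipalSylow80
import Cfsg.Agent.Lib.GaloisChar80
import Cfsg.Agent.Lib.BlockContribBounds

/-!
# Blocks of full defect stable under a power map inverting the odd-order elements
-/

set_option autoImplicit false

namespace Cfsg.Agent.BlockTwist79

open scoped ComplexConjugate
open Cfsg CharBasic CharBasicOrth CharBasicDecomp BlockTheoryLocalRing BlockTheoryRotation
  BlockTheoryCentre BlockTheoryIdem PrincipalSylow80

attribute [local instance] Classical.propDecidable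

universe u

variable {p : ℕ} {M : Ideal AlgInt} {G : Type u} [Group G] [Fintype G]

/-- A character of odd degree lying in the block of its twist by an exponent that inverts the
elements of odd order is in the principal `2`-block. -/
theorem mem_principal_of_twist (hM : IsPModular 2 M) {k : ℕ} (hk : k.Coprime (Nat.card G))
    (hk₂ : ∀ g : G, Odd (orderOf g) → g ^ k = g⁻¹) (χ : IrrCharacter G)
    (hodd : Odd (charDegree (χ : G → ℂ)))
    (hsame : SameBlock M (χ : G → ℂ) (fun g => (χ : G → ℂ) (g ^ k))) :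
    χ ∈ principalBlock M G := by
  haveI : Fact (Nat.Prime 2) := ⟨Nat.prime_two⟩
  obtain ⟨P⟩ : Nonempty (Sylow 2 G) := inferInstance
  obtain ⟨φ, hφ⟩ := exists_lamQ_of_degree P hM χ (Nat.two_dvd_ne_zero.2 (Nat.odd_iff.1 hodd))
  let χc : IrrCharacter G := GaloisChar80.twist hk χ
  let φc : IrrCharacter (Q P) := ⟨_, isIrrCharacter_conj φ.2⟩
  set σ := GaloisChar80.powPerm hk with hσ
  have hσQ : ∀ c : Cz P, (((c ^ k : Cz P)) : Q P) = ((c : Q P))⁻¹ := by
    intro c
    obtain ⟨d, hd, hdr⟩ := exists_reg P ((c : Q P))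
    rw [QuotientGroup.mk_pow, ← hd, ← QuotientGroup.mk_pow, ← QuotientGroup.mk_inv]
    congr 1
    apply Subtype.ext
    rw [Subgroup.coe_pow, Subgroup.coe_inv]
    exact hk₂ _ (Nat.odd_iff.2 (Nat.two_dvd_ne_zero.1 hdr))
  have hkC : k.Coprime (Nat.card (Cz P)) := hk.coprime_dvd_right (Subgroup.card_subgroup_dvd_card _)
  have hcc : φc ∈ orb P φ := by
    refine mem_orb_of_congr P hM fun z hz => ?_
    let z' : MonoidAlgebra ℂ G := ofFun fun g => z.coeff (σ.symm g)
    have hsymm : ∀ g h : G, σ.symm (h * g * h⁻¹) = h * σ.symm g * h⁻¹ := by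
      intro g h
      apply σ.injective
      rw [σ.apply_symm_apply]
      show h * g * h⁻¹ = (h * σ.symm g * h⁻¹) ^ k
      rw [conj_pow]
      show _ = h * σ (σ.symm g) * h⁻¹
      rw [σ.apply_symm_apply]
    have hz' : Good M z' := by
      refine ⟨fun g h => ?_, fun g => hz.2 _⟩
      show z.coeff (σ.symm (h * g * h⁻¹)) = z.coeff (σ.symm g)
      rw [hsymm]
      exact hz.1 _ _
    have hw : omega (χc : G → ℂ) z = omega (χ : G → ℂ) z' := by
      rw [omega_apply, omega_apply, chiSum_apply, chiSum_apply]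
      congr 1
      · show ((χ : G → ℂ) (1 ^ k))⁻¹ = _
        rw [one_pow]
      · refine Eq.symm ((Equiv.sum_comp σ _).symm.trans (Finset.sum_congr rfl fun g _ => ?_))
        show z.coeff (σ.symm (σ g)) * (χ : G → ℂ) (σ g) = z.coeff g * (χ : G → ℂ) (g ^ k)
        rw [σ.symm_apply_apply]
        rfl
    have hbeta : ∀ q, (beta P z').coeff q = (beta P z).coeff q⁻¹ := by
      intro q
      rw [coeff_beta, coeff_beta, ← Equiv.sum_comp (GaloisChar80.powPerm hkC)]
      refine Finset.sum_congr rfl fun c _ => ?_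
      have e1 : σ.symm ((GaloisChar80.powPerm hkC c : Cz P) : G) = (c : G) :=
        σ.symm_apply_eq.2 (by simp [hσ, GaloisChar80.powPerm_apply])
      have e2 : ((GaloisChar80.powPerm hkC c : Cz P) : Q P) = q ↔ (c : Q P) = q⁻¹ := by
        rw [GaloisChar80.powPerm_apply, hσQ, inv_eq_iff_eq_inv]
      by_cases h : (c : Q P) = q⁻¹
      · rw [if_pos (e2.2 h), if_pos h]
        show z.coeff (σ.symm _) = _
        rw [e1]
      · rw [if_neg (mt e2.1 h), if_neg h]
    have hl : lamQ P φc z = lamQ P φ z' := by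
      rw [lamQ_apply, lamQ_apply, omega_apply, omega_apply, chiSum_apply, chiSum_apply]
      congr 1
      · show (conj ((φ : Q P → ℂ) 1))⁻¹ = _
        rw [← irr_inv, inv_one]
      · refine (Equiv.sum_comp (Equiv.inv _) _).symm.trans (Finset.sum_congr rfl fun q _ => ?_)
        show (beta P z).coeff q⁻¹ * conj ((φ : Q P → ℂ) q⁻¹) = _
        rw [← irr_inv, inv_inv, hbeta]
    rw [hl]
    refine ideal_trans hM (ideal_sub_comm (hφ z hz)) (ideal_trans hM ?_ (hw ▸ hφ z' hz'))
    exact omega_sub_mem hM (χ := χ) (ψ := χc) hsame hz.1 hz.2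
  obtain ⟨n, hn⟩ := hcc
  let N : Subgroup G := Subgroup.normalizer ((P : Subgroup G) : Set G)
  have hidx : Odd ((P : Subgroup G).subgroupOf N).index := by
    refine Nat.odd_iff.2 (Nat.two_dvd_ne_zero.1 fun h => Sylow.not_dvd_index P (h.trans ?_))
    exact Dvd.intro _ (Subgroup.relIndex_mul_index Subgroup.le_normalizer)
  haveI : ((P : Subgroup G).subgroupOf N).Normal := Subgroup.normal_in_normalizer
  have hmem := Subgroup.pow_index_mem ((P : Subgroup G).subgroupOf N) n
  rw [Subgroup.mem_subgroupOf] at hmem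
  have hone : ∀ q, (φ : Q P → ℂ) (conjQ P (n * n) q) = (φ : Q P → ℂ) q := by
    intro q
    rw [conjQ_mul, ← hn]
    show conj ((φ : Q P → ℂ) (conjQ P n q)) = _
    rw [← hn]
    exact Complex.conj_conj _
  have hpow : ∀ i q, (φ : Q P → ℂ) (conjQ P ((n * n) ^ i) q) = (φ : Q P → ℂ) q := by
    intro i
    induction i with
    | zero => intro q; rw [pow_zero, conjQ_of_mem P 1 (one_mem _)]
    | succ i ih => intro q; rw [pow_succ, conjQ_mul, ih, hone]
  obtain ⟨i, hi⟩ := hidx
  have hfix : ∀ q, (φ : Q P → ℂ) (conjQ P n q) = (φ : Q P → ℂ) q := by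
    intro q
    have h1 := hpow i (conjQ P n q)
    rw [← conjQ_mul, ← sq, ← pow_mul, ← pow_succ, ← hi, conjQ_of_mem P _ hmem] at h1
    exact h1.symm
  have hoddQ : Odd (Nat.card (Q P)) := Nat.odd_iff.2 (Nat.two_dvd_ne_zero.1 (not_dvd_card_Q P))
  have htriv : φ = trivIrr (Q P) := by
    refine real_irr_eq_triv hM hoddQ φ fun q => ?_
    rw [irr_inv]
    exact (hn q).trans (hfix q)
  refine sameBlock_symm (sameBlock_of_omega hM (ψ := trivIrr G) fun z hz => ?_)
  exact ideal_trans hM (htriv ▸ hφ z hz) (ideal_sub_comm (lamQ_triv P hM hz))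

/-- A block of full defect has a member of degree prime to `p`. -/
theorem exists_degree_prime (hM : IsPModular p M) {B : Set (IrrCharacter G)} (hB : IsPBlock M B)
    (hdef : blockDefect p B = (Nat.card G).factorization p) :
    ∃ χ ∈ B, ¬ p ∣ charDegree (χ : G → ℂ) := by
  obtain ⟨χ, hχ, h0⟩ := BlockContrib.exists_height_zero hM hB
  refine ⟨χ, hχ, ?_⟩
  obtain ⟨m, hm, h1, hdvd⟩ := CharBasicInt.exists_apply_one_dvd_card χ.2
  have hm' : charDegree (χ : G → ℂ) = m := by simp [charDegree, h1]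
  rw [hm']
  have h2 := BlockContrib.exp_eq_add (p := p) hχ
  rw [h0, hm'] at h2
  have h3 := BlockContrib.blockDefect_eq (p := p) B
  intro hd
  have hle : m.factorization p ≤ (Nat.card G).factorization p :=
    (Nat.factorization_le_iff_dvd hm.ne' Nat.card_pos.ne').2 hdvd p
  have hpos := hM.1.factorization_pos_of_dvd hm.ne' hd
  omega

end Cfsg.Agent.BlockTwist79
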