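import Cfsg.Agent.Lib.BlockHeightEntry82

/-!
Integral combinations of roots of unity of two-power order: divisibility of the coefficients from
divisibility in the local ring.
-/

set_option autoImplicit false

namespace Cfsg.Agent.BlockTwoPowRoots82

open Cfsg Cfsg.Agent.BlockTheoryLocalRing
open Polynomial (C X taylor)
open scoped ComplexConjugate

attribute [local instance] Classical.propDecidable

variable {M : Ideal AlgInt} {k : ℕ} {ζ : ℂ}

theorem pow_two_pow_eq_neg_one (hζ : IsPrimitiveRoot ζ (2 ^ (k + 1))) : ζ ^ 2 ^ k = -1 :=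
  IsPrimitiveRoot.eq_neg_one_of_two_right (hζ.pow (pow_pos two_pos _) (pow_succ 2 k))

theorem isIntegral_sub_one (hζ : IsPrimitiveRoot ζ (2 ^ (k + 1))) : IsIntegral ℤ (ζ - 1) :=
  (hζ.isIntegral (pow_pos two_pos _)).sub isIntegral_one

/-- `2` is a multiple of the power of `ζ - 1` by the degree. -/
theorem exists_two_eq : ∀ (k : ℕ) (ζ : ℂ), IsPrimitiveRoot ζ (2 ^ (k + 1)) →
    ∃ c : ℂ, IsIntegral ℤ c ∧ (2 : ℂ) = (ζ - 1) ^ 2 ^ k * c
  | 0, ζ, hζ => ⟨-1, isIntegral_one.neg, by
      have h : ζ = -1 := by simpa using pow_two_pow_eq_neg_one hζ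
      rw [h]; norm_num⟩
  | k + 1, ζ, hζ => by
    obtain ⟨a, ha, h⟩ := exists_two_eq k (ζ ^ 2) (hζ.pow (pow_pos two_pos _) (pow_succ' 2 (k + 1)))
    set π := ζ - 1 with hπ
    have hπi : IsIntegral ℤ π := isIntegral_sub_one hζ
    obtain ⟨n, hn⟩ : ∃ n, 2 ^ k = n + 1 := ⟨2 ^ k - 1, (Nat.succ_pred_eq_of_pos (pow_pos two_pos k)).symm⟩
    have hsq : ζ ^ 2 - 1 = π * (π + 2) := by rw [hπ]; ring
    have hint2 : IsIntegral ℤ (π + 2) :=
      hπi.add (by rw [← one_add_one_eq_two]; exact isIntegral_one.add isIntegral_one)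
    rw [hsq, mul_pow, hn] at h
    set u := 1 + π ^ n * (π + 2) ^ (n + 1) * a with hu
    have hui : IsIntegral ℤ u :=
      isIntegral_one.add (((hπi.pow n).mul (hint2.pow (n + 1))).mul ha)
    have h2 : π + 2 = π * u := by rw [hu]; linear_combination h
    refine ⟨u ^ (n + 1) * a, (hui.pow _).mul ha, ?_⟩
    rw [h2] at h
    rw [h, pow_succ 2 k, mul_comm, hn, mul_two, pow_add, mul_pow]
    ring

/-- The coefficients of a multiple of `2` are even. -/
theorem two_dvd_coeff (hM : IsPModular 2 M) (hζ : IsPrimitiveRoot ζ (2 ^ (k + 1))) (g : ℕ → ℤ)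
    {T : ℂ} (hT : MemLocalRing M T)
    (h : ∑ r ∈ Finset.range (2 ^ k), (g r : ℂ) * ζ ^ r = 2 * T) :
    ∀ r < 2 ^ k, (2 : ℤ) ∣ g r := by
  set e := 2 ^ k with he
  set π := ζ - 1 with hπ
  have hπ0 : π ≠ 0 := sub_ne_zero.2 (hζ.ne_one (Nat.one_lt_two_pow (Nat.succ_ne_zero k)))
  have hπI : MemLocalIdeal M π := S4716.root_congr_one hM hζ.pow_eq_one
  have hπR : MemLocalRing M π := ideal_le_ring hπI
  obtain ⟨c, hc, h2⟩ := exists_two_eq k ζ hζ
  rw [← hπ] at h2
  have hcR : MemLocalRing M c := of_isIntegral hM hc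
  set P : Polynomial ℤ := ∑ r ∈ Finset.range e, C (g r) * X ^ r with hP
  have hdeg : P.natDegree < e := by
    refine Nat.lt_of_le_pred (pow_pos two_pos k) (Polynomial.natDegree_sum_le_of_forall_le _ _ fun r hr => ?_)
    exact (Polynomial.natDegree_C_mul_X_pow_le _ _).trans (Nat.le_pred_of_lt (Finset.mem_range.1 hr))
  set A := taylor (1 : ℤ) P with hA
  have hAdeg : A.natDegree < e := by rwa [hA, Polynomial.natDegree_taylor]
  have hsum : ∑ i ∈ Finset.range e, (A.coeff i : ℂ) * π ^ i = 2 * T := by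
    rw [← h]
    have h1 : Polynomial.aeval π A = Polynomial.aeval ζ P := by
      rw [hA, Polynomial.taylor_apply, Polynomial.aeval_comp]
      simp [hπ]
    rw [Polynomial.aeval_eq_sum_range' hAdeg] at h1
    rw [hP, map_sum] at h1
    simp only [map_mul, Polynomial.aeval_C, map_pow, Polynomial.aeval_X, zsmul_eq_mul] at h1
    simpa using h1
  have hev : ∀ i, (2 : ℤ) ∣ A.coeff i := by
    intro i
    induction i using Nat.strong_induction_on with
    | _ n ih =>
      rcases lt_or_ge n e with hn | hn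
      swap
      · rw [Polynomial.coeff_eq_zero_of_natDegree_lt (hAdeg.trans_le hn)]
        exact dvd_zero _
      have hterm : ∀ i ∈ Finset.range e, i ≠ n → ∃ Y, MemLocalRing M Y ∧
          (A.coeff i : ℂ) * π ^ i = π ^ (n + 1) * Y := by
        intro i _ hin
        rcases lt_or_gt_of_ne hin with hlt | hgt
        · obtain ⟨b, hb⟩ := ih i hlt
          obtain ⟨m, hm⟩ := Nat.exists_eq_add_of_le (show n + 1 ≤ e from hn)
          refine ⟨π ^ m * c * (b : ℂ) * π ^ i, (localRing hM).mul_mem ((localRing hM).mul_mem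
            ((localRing hM).mul_mem ((localRing hM).pow_mem hπR _) hcR)
            (intCast_mem (localRing hM) b)) ((localRing hM).pow_mem hπR _), ?_⟩
          rw [hb]
          push_cast
          rw [h2, ← he, hm, pow_add]
          ring
        · obtain ⟨m, rfl⟩ := Nat.exists_eq_add_of_le (show n + 1 ≤ i from hgt)
          exact ⟨(A.coeff (n + 1 + m) : ℂ) * π ^ m, (localRing hM).mul_mem
            (intCast_mem (localRing hM) _) ((localRing hM).pow_mem hπR _), by rw [pow_add]; ring⟩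
      choose! Y hY hYe using hterm
      obtain ⟨m, hm⟩ := Nat.exists_eq_add_of_le (show n + 1 ≤ e from hn)
      set W := π ^ m * c * T - ∑ i ∈ (Finset.range e).erase n, Y i with hW
      have hWR : MemLocalRing M W := (localRing hM).sub_mem ((localRing hM).mul_mem
        ((localRing hM).mul_mem ((localRing hM).pow_mem hπR _) hcR) hT)
        ((localRing hM).sum_mem fun i hi =>
          hY i (Finset.mem_of_mem_erase hi) (Finset.ne_of_mem_erase hi))
      have heq : π ^ n * (A.coeff n : ℂ) = π ^ n * (π * W) := by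
        rw [← Finset.add_sum_erase _ _ (Finset.mem_range.2 hn), Finset.sum_congr rfl fun i hi =>
          hYe i (Finset.mem_of_mem_erase hi) (Finset.ne_of_mem_erase hi), ← Finset.mul_sum,
          h2, ← he] at hsum
        rw [hm, pow_add] at hsum
        rw [hW, hm]
        linear_combination hsum
      have hI : MemLocalIdeal M (A.coeff n : ℂ) := by
        rw [mul_left_cancel₀ (pow_ne_zero n hπ0) heq]
        exact ideal_mul_right hM hπI hWR
      simpa using (BlockContrib.intCast_mem_iff hM _).1 hI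
  intro r hr
  choose b hb using hev
  have hAeq : A = C 2 * ∑ i ∈ Finset.range e, C (b i) * X ^ i := by
    conv_lhs => rw [A.as_sum_range' e hAdeg]
    rw [Finset.mul_sum]
    exact Finset.sum_congr rfl fun i _ => by
      rw [← Polynomial.C_mul_X_pow_eq_monomial, hb i, map_mul, mul_assoc]
  have hback : P = C 2 * taylor (-1 : ℤ) (∑ i ∈ Finset.range e, C (b i) * X ^ i) := by
    have h1 : taylor (-1 : ℤ) A = P := by
      rw [hA, Polynomial.taylor_taylor]; simp
    rw [← h1, hAeq, Polynomial.taylor_mul, Polynomial.taylor_C]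
  have hc0 : P.coeff r = g r := by
    simp [hP, Polynomial.coeff_C_mul, Polynomial.coeff_X_pow, hr]
  rw [← hc0, hback, Polynomial.coeff_C_mul]
  exact dvd_mul_right _ _

/-- The coefficients of a multiple of `2 ^ h` are divisible by it. -/
theorem pow_dvd_coeff (hM : IsPModular 2 M) (hζ : IsPrimitiveRoot ζ (2 ^ (k + 1))) :
    ∀ (h : ℕ) (g : ℕ → ℤ) (T : ℂ), MemLocalRing M T →
      ∑ r ∈ Finset.range (2 ^ k), (g r : ℂ) * ζ ^ r = (2 : ℂ) ^ h * T →
      ∀ r < 2 ^ k, (2 : ℤ) ^ h ∣ g r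
  | 0, _, _, _, _, _, _ => by simp
  | h + 1, g, T, hT, heq, r, hr => by
    have h2 : MemLocalRing M (2 : ℂ) := by exact_mod_cast natCast_mem (localRing hM) 2
    have hev := two_dvd_coeff hM hζ g ((localRing hM).mul_mem ((localRing hM).pow_mem h2 h) hT)
      (by rw [heq, pow_succ']; ring)
    have hrec := pow_dvd_coeff hM hζ h (fun r => g r / 2) T hT (by
      refine mul_left_cancel₀ (two_ne_zero' ℂ) ?_
      rw [Finset.mul_sum, ← mul_assoc, ← pow_succ', ← heq]
      refine Finset.sum_congr rfl fun i hi => ?_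
      obtain ⟨d, hd⟩ := hev i (Finset.mem_range.1 hi)
      rw [hd, Int.mul_ediv_cancel_left d two_ne_zero]
      push_cast
      ring) r hr
    obtain ⟨d, hd⟩ := hev r hr
    rw [hd] at hrec ⊢
    rw [pow_succ']
    rw [Int.mul_ediv_cancel_left d two_ne_zero] at hrec
    exact mul_dvd_mul_left 2 hrec

theorem coeff_eq_zero (hM : IsPModular 2 M) (hζ : IsPrimitiveRoot ζ (2 ^ (k + 1))) (g : ℕ → ℤ)
    (h : ∑ r ∈ Finset.range (2 ^ k), (g r : ℂ) * ζ ^ r = 0) : ∀ r < 2 ^ k, g r = 0 := by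
  intro r hr
  by_contra hne
  have h1 := pow_dvd_coeff hM hζ (g r).natAbs g 0 (localRing hM).zero_mem (by rw [h, mul_zero]) r hr
  have h2 := Int.natAbs_dvd_natAbs.2 h1
  rw [Int.natAbs_pow] at h2
  exact absurd (Nat.le_of_dvd (Int.natAbs_pos.2 hne) h2) (not_le.2 Nat.lt_two_pow_self)

/-- The reduced coefficients of a combination of roots of unity. -/
noncomputable def red {ι : Type*} (k : ℕ) (s : Finset ι) (q : ι → ℤ) (f : ι → ℕ) (r : ℕ) : ℤ :=
  ∑ i ∈ s, if f i % 2 ^ (k + 1) = r then q i else if f i % 2 ^ (k + 1) = r + 2 ^ k then -q i else 0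

theorem sum_eq_red {ι : Type*} (s : Finset ι) (q : ι → ℤ) (f : ι → ℕ)
    (hζ : IsPrimitiveRoot ζ (2 ^ (k + 1))) {j : ℕ} (hj : ¬ 2 ∣ j) :
    ∑ i ∈ s, (q i : ℂ) * ζ ^ (f i * j) =
      ∑ r ∈ Finset.range (2 ^ k), (red k s q f r : ℂ) * ζ ^ (r * j) := by
  simp only [red, Int.cast_sum, Finset.sum_mul]
  rw [Finset.sum_comm]
  refine Finset.sum_congr rfl fun i _ => ?_
  have hN : 2 ^ (k + 1) = 2 ^ k + 2 ^ k := by rw [pow_succ, mul_two]
  have hlt := Nat.mod_lt (f i) (pow_pos two_pos (k + 1))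
  have hmod : ζ ^ (f i * j) = ζ ^ (f i % 2 ^ (k + 1) * j) := by
    conv_lhs => rw [← Nat.mod_add_div (f i) (2 ^ (k + 1)), add_mul, pow_add, mul_assoc, pow_mul ζ (2 ^ (k + 1)), hζ.pow_eq_one, one_pow, mul_one]
  rw [hmod]
  set m := f i % 2 ^ (k + 1) with hm
  by_cases hlo : m < 2 ^ k
  · rw [Finset.sum_eq_single m]
    · rw [if_pos rfl]
    · intro r hr hne
      rw [if_neg fun h => hne h.symm, if_neg fun h => by omega, Int.cast_zero, zero_mul]
    · exact fun h => absurd (Finset.mem_range.2 hlo) h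
  · obtain ⟨r₀, hr₀⟩ := Nat.exists_eq_add_of_le (not_lt.1 hlo)
    rw [Finset.sum_eq_single r₀]
    · rw [if_neg (by have := Nat.two_pow_pos k; omega), if_pos (by omega), hr₀, add_mul, pow_add,
        pow_mul ζ (2 ^ k), pow_two_pow_eq_neg_one hζ,
        Odd.neg_one_pow (Nat.not_even_iff_odd.1 fun h => hj (even_iff_two_dvd.1 h))]
      push_cast
      ring
    · intro r hr hne
      have := Finset.mem_range.1 hr
      rw [if_neg (by omega), if_neg (by omega), Int.cast_zero, zero_mul]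
    · exact fun h => absurd (Finset.mem_range.2 (by omega)) h

/-- The sum over the odd powers picks out the constant coefficient. -/
theorem sum_odd_eq {ι : Type*} (s : Finset ι) (q : ι → ℤ) (f : ι → ℕ)
    (hζ : IsPrimitiveRoot ζ (2 ^ (k + 1))) :
    ∑ j ∈ (Finset.range (2 ^ (k + 1))).filter (fun j => ¬ 2 ∣ j),
        ∑ i ∈ s, (q i : ℂ) * ζ ^ (f i * j) = (2 : ℂ) ^ k * (red k s q f 0 : ℂ) := by
  rw [Finset.sum_congr rfl fun j hj => sum_eq_red s q f hζ (Finset.mem_filter.1 hj).2,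
    Finset.sum_comm]
  simp only [pow_mul, ← Finset.mul_sum]
  have hval : ∀ r < 2 ^ k, ∑ j ∈ (Finset.range (2 ^ (k + 1))).filter (fun j => ¬ 2 ∣ j),
      (ζ ^ r) ^ j = ((2 ^ k : ℕ) : ℂ) * (BlockHeightEntry82.eps (ζ ^ r) : ℂ) := fun r _ => by
    rw [pow_succ']
    exact BlockHeightEntry82.sum_odd_pow (by
      rw [← pow_mul, mul_comm, pow_mul, ← pow_succ', hζ.pow_eq_one, one_pow])
  have h0 : (0 : ℕ) ∈ Finset.range (2 ^ k) := Finset.mem_range.2 (pow_pos two_pos k)
  rw [Finset.sum_eq_single_of_mem 0 h0 fun r hr hne => ?_]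
  · rw [hval 0 (pow_pos two_pos k), pow_zero, BlockHeightEntry82.eps, if_pos rfl]
    push_cast
    ring
  · have hr' := Finset.mem_range.1 hr
    have hN : 2 ^ (k + 1) = 2 ^ k + 2 ^ k := by rw [pow_succ, mul_two]
    have h1 : ζ ^ r ≠ 1 := hζ.pow_ne_one_of_pos_of_lt hne (by omega)
    have h2 : ζ ^ r ≠ -1 := fun h => by
      rw [← pow_two_pow_eq_neg_one hζ] at h
      have := hζ.pow_inj (by omega) (by omega) h
      omega
    rw [hval r hr', BlockHeightEntry82.eps, if_neg h1, if_neg h2]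
    simp

/-- The mean square of a combination with exact power `2 ^ h`. -/
theorem pow_four_le {ι : Type*} (hM : IsPModular 2 M) (s : Finset ι) (q : ι → ℤ) (f : ι → ℕ)
    (hζ : IsPrimitiveRoot ζ (2 ^ (k + 1))) {h : ℕ} {T : ℂ} (hT : MemLocalRing M T) (hT0 : T ≠ 0)
    (heq : ∑ i ∈ s, (q i : ℂ) * ζ ^ f i = (2 : ℂ) ^ h * T) :
    (4 : ℝ) ^ h * (((Finset.range (2 ^ (k + 1))).filter fun j => ¬ 2 ∣ j).card : ℝ) ≤
      ∑ j ∈ (Finset.range (2 ^ (k + 1))).filter (fun j => ¬ 2 ∣ j),
        Complex.normSq (∑ i ∈ s, (q i : ℂ) * ζ ^ (f i * j)) := by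
  have h1 := sum_eq_red s q f hζ (j := 1) (by decide)
  simp only [mul_one] at h1
  rw [heq] at h1
  have hd := pow_dvd_coeff hM hζ h _ T hT h1.symm
  choose! g hg using hd
  have hT' : ∑ r ∈ Finset.range (2 ^ k), (g r : ℂ) * ζ ^ r = T := by
    refine mul_left_cancel₀ (pow_ne_zero h (two_ne_zero' ℂ)) ?_
    rw [h1, Finset.mul_sum]
    refine Finset.sum_congr rfl fun r hr => ?_
    rw [hg r (Finset.mem_range.1 hr)]
    push_cast
    ring
  have h2 := BlockContribRoots.card_le_sum_normSq (Finset.range (2 ^ k)) g id Nat.prime_two hζ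
    (by simpa [hT'] using hT0)
  refine (mul_le_mul_of_nonneg_left h2 (by positivity)).trans (le_of_eq ?_)
  rw [Finset.mul_sum]
  refine Finset.sum_congr rfl fun j hj => ?_
  rw [sum_eq_red s q f hζ (Finset.mem_filter.1 hj).2,
    show (4 : ℝ) ^ h = Complex.normSq ((2 : ℂ) ^ h) by rw [map_pow, Complex.normSq_ofNat]; norm_num,
    ← Complex.normSq_mul, Finset.mul_sum]
  refine congrArg Complex.normSq (Finset.sum_congr rfl fun r hr => ?_)
  rw [hg r (Finset.mem_range.1 hr)]
  push_cast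
  simp only [id]
  ring

/-- For a real combination, the constant coefficient has the divisibility of the value. -/
theorem const_coeff {ι : Type*} (hM : IsPModular 2 M) (s : Finset ι) (q : ι → ℤ) (f : ι → ℕ)
    (hζ : IsPrimitiveRoot ζ (2 ^ (k + 1))) {h : ℕ} {T : ℂ} (hT : MemLocalRing M T)
    (heq : ∑ i ∈ s, (q i : ℂ) * ζ ^ f i = (2 : ℂ) ^ h * T)
    (hreal : conj (∑ i ∈ s, (q i : ℂ) * ζ ^ f i) = ∑ i ∈ s, (q i : ℂ) * ζ ^ f i) :
    (2 : ℤ) ^ h ∣ red k s q f 0 ∧
      (MemLocalIdeal M T ↔ (2 : ℤ) ^ (h + 1) ∣ red k s q f 0) := by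
  set e := 2 ^ k with he
  have hepos : 0 < e := pow_pos two_pos k
  set c := red k s q f with hc
  have h1 := sum_eq_red s q f hζ (j := 1) (by decide)
  simp only [mul_one] at h1
  rw [← hc] at h1
  rw [h1] at heq hreal
  have hd := pow_dvd_coeff hM hζ h c T hT heq
  choose! g hg using hd
  have hT' : ∑ r ∈ Finset.range e, (g r : ℂ) * ζ ^ r = T := by
    refine mul_left_cancel₀ (pow_ne_zero h (two_ne_zero' ℂ)) ?_
    rw [← heq, Finset.mul_sum]
    refine Finset.sum_congr rfl fun r hr => ?_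
    rw [hg r (Finset.mem_range.1 hr)]
    push_cast
    ring
  -- the symmetry coming from the value being real
  have hz : ∑ r ∈ Finset.range e, ((if r = 0 then 0 else c r + c (e - r) : ℤ) : ℂ) * ζ ^ r = 0 := by
    have hconj : ∀ r < e, r ≠ 0 → conj (ζ ^ r) = -ζ ^ (e - r) := fun r hr _ => by
      rw [map_pow, ← Complex.inv_eq_conj
        (Complex.norm_eq_one_of_pow_eq_one hζ.pow_eq_one (pow_pos two_pos _).ne'), inv_pow]
      refine inv_eq_of_mul_eq_one_right ?_
      rw [mul_neg, ← pow_add, Nat.add_sub_of_le hr.le, he, pow_two_pow_eq_neg_one hζ, neg_neg]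
    have hS : ∑ r ∈ (Finset.range e).erase 0, (c r : ℂ) * ζ ^ r =
        - ∑ r ∈ (Finset.range e).erase 0, (c r : ℂ) * ζ ^ (e - r) := by
      have h0 : 0 ∈ Finset.range e := Finset.mem_range.2 hepos
      rw [map_sum, ← Finset.add_sum_erase _ _ h0, ← Finset.add_sum_erase _ _ h0] at hreal
      simp only [pow_zero, mul_one, map_intCast, add_right_inj] at hreal
      rw [← hreal, ← Finset.sum_neg_distrib]
      refine Finset.sum_congr rfl fun r hr => ?_
      rw [map_mul, map_intCast, hconj r (Finset.mem_range.1 (Finset.mem_of_mem_erase hr))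
        (Finset.ne_of_mem_erase hr), mul_neg]
    rw [← Finset.add_sum_erase _ _ (Finset.mem_range.2 hepos), if_pos rfl, Int.cast_zero, zero_mul,
      zero_add, Finset.sum_congr rfl (g := fun r => (c r : ℂ) * ζ ^ r + (c (e - r) : ℂ) * ζ ^ r)
        fun r hr => by rw [if_neg (Finset.ne_of_mem_erase hr)]; push_cast; ring,
      Finset.sum_add_distrib, hS, neg_add_eq_zero]
    refine Finset.sum_nbij' (e - ·) (e - ·) ?_ ?_ ?_ ?_ ?_
    all_goals intro r hr
    all_goals simp only [Finset.coe_erase, Finset.mem_erase, Finset.mem_range, ne_eq, Set.mem_diff,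
      Set.mem_singleton_iff, Finset.coe_range, Set.mem_Iio] at hr ⊢
    · omega
    · omega
    · omega
    · omega
    · rw [Nat.sub_sub_self (by omega)]
  have hsym := coeff_eq_zero hM hζ _ hz
  have hgsum : ((∑ r ∈ Finset.range e, g r : ℤ) : ZMod 2) = (g 0 : ZMod 2) := by
    rw [Int.cast_sum, ← Finset.add_sum_erase _ _ (Finset.mem_range.2 hepos), add_eq_left]
    refine Finset.sum_involution (fun r _ => e - r) (fun r hr => ?_) (fun r hr hne he' => ?_)
      (fun r hr => ?_) fun r hr => ?_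
    all_goals
      have hr0 := Finset.ne_of_mem_erase hr
      have hre := Finset.mem_range.1 (Finset.mem_of_mem_erase hr)
    · have h2 := hsym r hre
      rw [if_neg hr0, hg r hre, hg (e - r) (by omega), ← mul_add] at h2
      have h3 : g r + g (e - r) = 0 := (mul_eq_zero.1 h2).resolve_left (pow_ne_zero h two_ne_zero)
      rw [← Int.cast_add, h3, Int.cast_zero]
    · refine hne ?_
      have h2 := hsym r hre
      rw [if_neg hr0, he', hg r hre, ← mul_add] at h2
      have h3 : g r + g r = 0 := (mul_eq_zero.1 h2).resolve_left (pow_ne_zero h two_ne_zero)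
      rw [show g r = 0 by omega, Int.cast_zero]
    · exact Finset.mem_erase.2 ⟨by omega, Finset.mem_range.2 (by omega)⟩
    · omega
  have h0 := hg 0 hepos
  refine ⟨Dvd.intro _ h0.symm, ?_⟩
  have hTI : MemLocalIdeal M T ↔ (2 : ℤ) ∣ ∑ r ∈ Finset.range e, g r := by
    have hI : MemLocalIdeal M (T - ((∑ r ∈ Finset.range e, g r : ℤ) : ℂ)) := by
      rw [← hT', Int.cast_sum, ← Finset.sum_sub_distrib]
      refine ideal_sum hM fun r _ => ?_
      have h1 : MemLocalIdeal M (ζ ^ r - 1) := S4716.root_congr_one hM (k := k + 1) (by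
        rw [← pow_mul, mul_comm, pow_mul, hζ.pow_eq_one, one_pow])
      exact cast (congrArg (MemLocalIdeal M) (by ring))
        (ideal_mul_left hM (intCast_mem (localRing hM) (g r)) h1)
    rw [show (2 : ℤ) = ((2 : ℕ) : ℤ) from rfl, ← BlockContrib.intCast_mem_iff hM]
    exact ⟨fun h' => cast (congrArg (MemLocalIdeal M) (by ring)) (ideal_sub hM h' hI),
      fun h' => cast (congrArg (MemLocalIdeal M) (by ring)) (ideal_add hM hI h')⟩
  rw [hTI, h0, pow_succ, mul_dvd_mul_iff_left (pow_ne_zero h (two_ne_zero' ℤ)),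
    show (2 : ℤ) = ((2 : ℕ) : ℤ) from rfl, ← ZMod.intCast_zmod_eq_zero_iff_dvd,
    ← ZMod.intCast_zmod_eq_zero_iff_dvd, hgsum]

end Cfsg.Agent.BlockTwoPowRoots82
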