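import Mathlib

/-!
# Symmetric algebras with at most two independent trace functionals

A finite dimensional algebra over an algebraically closed field with a nondegenerate trace functional
that does not vanish on all nilpotent elements and with no three independent trace functionals has
dimension twice a square. This is the module theoretic core of Brandt's theorem on blocks with two
irreducible characters. We also compare ranks of an idempotent matrix under ring homomorphisms.
-/

set_option autoImplicit false
set_option linter.style.haveILetI false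

namespace Cfsg.Agent.BrandtAlgebra42

open Polynomial

attribute [local instance] Classical.propDecidable

section IdemRank

variable {F : Type*} [Field F] {ι : Type*} [Fintype ι] [DecidableEq ι]

/-- The rank of an idempotent matrix is the multiplicity of `1` as a root of its characteristic
polynomial. -/
theorem charpoly_idem (E : Matrix ι ι F) (hE : E * E = E) :
    ∃ c : ℕ, E.charpoly = (X - 1) ^ Module.finrank F (LinearMap.range (Matrix.toLin' E)) * X ^ c := by
  set f := Matrix.toLin' E with hf
  have hproj : LinearMap.IsProj (LinearMap.range f) f := by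
    refine ⟨fun x => LinearMap.mem_range_self f x, fun x hx => ?_⟩
    obtain ⟨y, rfl⟩ := hx
    rw [← LinearMap.comp_apply, hf, ← Matrix.toLin'_mul, hE]
  have h2 : f.charpoly =
      (X - 1) ^ Module.finrank F (LinearMap.range f) * X ^ Module.finrank F (LinearMap.ker f) := by
    conv_lhs => rw [hproj.eq_conj_prodMap]
    rw [LinearEquiv.charpoly_conj, LinearMap.charpoly_prodMap, ← Module.End.one_eq_id,
      LinearMap.charpoly_one, LinearMap.charpoly_zero]
  refine ⟨Module.finrank F (LinearMap.ker f), ?_⟩
  rw [← h2, ← LinearMap.charpoly_toMatrix f (Pi.basisFun F ι)]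
  congr 1
  ext i j
  simp [hf, LinearMap.toMatrix_apply, Matrix.mulVec_single]

/-- An idempotent matrix keeps its rank under reduction. -/
theorem rank_map_eq {R K L : Type*} [CommRing R] [Field K] [Field L] (i : R →+* K)
    (hi : Function.Injective i) (q : R →+* L) (E : Matrix ι ι R) (hE : E * E = E) :
    Module.finrank L (LinearMap.range (Matrix.toLin' (E.map q))) =
      Module.finrank K (LinearMap.range (Matrix.toLin' (E.map i))) := by
  obtain ⟨c, hc⟩ := charpoly_idem (E.map i) (by rw [← Matrix.map_mul, hE])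
  obtain ⟨d, hd⟩ := charpoly_idem (E.map q) (by rw [← Matrix.map_mul, hE])
  set r := Module.finrank K (LinearMap.range (Matrix.toLin' (E.map i)))
  set s := Module.finrank L (LinearMap.range (Matrix.toLin' (E.map q)))
  have hR : E.charpoly = (X - 1) ^ r * X ^ c := by
    apply Polynomial.map_injective i hi
    rw [← Matrix.charpoly_map, hc]
    simp
  have hL : ((X : L[X]) - 1) ^ r * X ^ c = (X - 1) ^ s * X ^ d := by
    rw [← hd, Matrix.charpoly_map, hR]
    simp
  have h1 := congrArg (rootMultiplicity (1 : L)) hL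
  have hX : (X : L[X]) ≠ 0 := X_ne_zero
  have hX1 : (X : L[X]) - 1 ≠ 0 := by rw [← C_1]; exact X_sub_C_ne_zero 1
  have key : ∀ a b : ℕ, rootMultiplicity (1 : L) ((X - 1) ^ a * X ^ b) = a := by
    intro a b
    rw [rootMultiplicity_mul (mul_ne_zero (pow_ne_zero _ hX1) (pow_ne_zero _ hX)),
      rootMultiplicity_eq_zero (p := X ^ b) (by simp [IsRoot]), add_zero, ← C_1,
      rootMultiplicity_X_sub_C_pow]
  rw [key, key] at h1
  exact h1.symm

/-- The rank of an idempotent matrix in characteristic zero is its trace. -/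
theorem rank_eq_trace (E : Matrix ι ι F) (hE : E * E = E) :
    (Module.finrank F (LinearMap.range (Matrix.toLin' E)) : F) = E.trace := by
  set f := Matrix.toLin' E with hf
  have hproj : LinearMap.IsProj (LinearMap.range f) f := by
    refine ⟨fun x => LinearMap.mem_range_self f x, fun x hx => ?_⟩
    obtain ⟨y, rfl⟩ := hx
    rw [← LinearMap.comp_apply, hf, ← Matrix.toLin'_mul, hE]
  rw [← hproj.trace, hf, Matrix.trace_toLin'_eq]

end IdemRank

section Core

variable {k : Type*} [Field k] {A : Type*} [Ring A] [Algebra k A]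

/-- A functional vanishing on commutators. -/
def IsTr (φ : A →ₗ[k] k) : Prop := ∀ a b, φ (a * b) = φ (b * a)

/-- Trace functionals of a matrix algebra are multiples of the trace. -/
theorem matrix_isTr_eq {n : Type*} [Fintype n] [DecidableEq n] (φ : Matrix n n k →ₗ[k] k)
    (hφ : IsTr φ) (i₀ : n) (X : Matrix n n k) :
    φ X = φ (Matrix.single i₀ i₀ 1) * X.trace := by
  have h : ∀ i j, φ (Matrix.single i j 1) = if i = j then φ (Matrix.single i₀ i₀ 1) else 0 := by
    intro i j
    have e : Matrix.single i j (1 : k) = Matrix.single i i₀ 1 * Matrix.single i₀ j 1 := by simp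
    rw [e, hφ]
    by_cases hij : i = j
    · subst hij; simp
    · simp [hij, Ne.symm hij]
  conv_lhs => rw [Matrix.matrix_eq_sum_single X]
  simp only [map_sum]
  have e : ∀ i j, φ (Matrix.single i j (X i j)) = if i = j then X i j * φ (Matrix.single i₀ i₀ 1) else 0 :=
    fun i j => by
      rw [show Matrix.single i j (X i j) = X i j • Matrix.single i j (1 : k) by
        rw [Matrix.smul_single, smul_eq_mul, mul_one], map_smul, h]
      split_ifs <;> simp
  simp only [e]
  simp only [Finset.sum_ite_eq, Finset.mem_univ, if_true]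
  rw [Matrix.trace, Finset.mul_sum]
  exact Finset.sum_congr rfl fun i _ => mul_comm _ _

/-- Trace functionals of a product of matrix algebras vanish on nilpotent elements. -/
theorem pi_isTr_eq_zero {m : ℕ} {d : Fin m → ℕ} (hd : ∀ i, NeZero (d i))
    (φ : (Π i, Matrix (Fin (d i)) (Fin (d i)) k) →ₗ[k] k) (hφ : IsTr φ)
    (z : Π i, Matrix (Fin (d i)) (Fin (d i)) k) (hz : IsNilpotent z) : φ z = 0 := by
  rw [← Finset.univ_sum_single z, map_sum]
  refine Finset.sum_eq_zero fun i _ => ?_
  haveI := hd i
  let ψ := φ.comp (LinearMap.single k (fun i => Matrix (Fin (d i)) (Fin (d i)) k) i)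
  have hψ : IsTr ψ := by
    intro a b
    show φ (Pi.single i (a * b)) = φ (Pi.single i (b * a))
    rw [Pi.single_mul, Pi.single_mul]
    exact hφ _ _
  show ψ (z i) = 0
  have hzi : IsNilpotent (z i) :=
    hz.map (Pi.evalRingHom (fun i => Matrix (Fin (d i)) (Fin (d i)) k) i)
  rw [matrix_isTr_eq ψ hψ 0 (z i), (Matrix.isNilpotent_trace_of_isNilpotent hzi).eq_zero, mul_zero]

/-- Three elements with three dual trace functionals give three independent trace functionals. -/
theorem not_dual {φ : Fin 3 → (A →ₗ[k] k)}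
    (htr : ∀ φ : Fin 3 → (A →ₗ[k] k), (∀ i, IsTr (φ i)) → ¬ LinearIndependent k φ)
    (hφ : ∀ i, IsTr (φ i)) (v : Fin 3 → A) (h : ∀ i j, φ i (v j) = if i = j then 1 else 0) :
    False := by
  refine htr φ hφ (Fintype.linearIndependent_iff.2 fun g hg i => ?_)
  have := LinearMap.congr_fun hg (v i)
  simpa [LinearMap.sum_apply, h] using this

variable [IsAlgClosed k] [FiniteDimensional k A]

/-- A symmetric algebra that is not semisimple and has no three independent trace functionals has
one simple module, and its dimension is twice a square. -/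
theorem finrank_eq_two_mul_sq (τ : A →ₗ[k] k) (hτ : IsTr τ)
    (hnd : ∀ a, (∀ b, τ (a * b) = 0) → a = 0)
    (hnil : ∃ ν : A, IsNilpotent ν ∧ τ ν ≠ 0)
    (htr : ∀ φ : Fin 3 → (A →ₗ[k] k), (∀ i, IsTr (φ i)) → ¬ LinearIndependent k φ) :
    ∃ n : ℕ, Module.finrank k A = 2 * n ^ 2 := by
  haveI : IsArtinianRing A := IsArtinianRing.of_finite k A
  set J : Ideal A := Ring.jacobson A with hJ
  obtain ⟨N, hN⟩ : IsNilpotent J := by
    rw [hJ, ← Ideal.jacobson_bot]; exact IsArtinianRing.isNilpotent_jacobson_bot
  have hJnil : ∀ x ∈ J, IsNilpotent x := fun x hx => ⟨N, by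
    have := Ideal.pow_mem_pow hx N
    rw [hN] at this
    exact Ideal.mem_bot.1 this⟩
  haveI : IsSemisimpleRing (A ⧸ J) := IsSemiprimaryRing.isSemisimpleRing
  haveI : FiniteDimensional k (A ⧸ J) :=
    Module.Finite.of_surjective (Ideal.Quotient.mkₐ k J).toLinearMap Ideal.Quotient.mk_surjective
  obtain ⟨m, d, hd, ⟨w⟩⟩ := IsSemisimpleRing.exists_algEquiv_pi_matrix_of_isAlgClosed k (A ⧸ J)
  let P : A →ₐ[k] Π i, Matrix (Fin (d i)) (Fin (d i)) k := w.toAlgHom.comp (Ideal.Quotient.mkₐ k J)
  have hPs : Function.Surjective P := w.surjective.comp Ideal.Quotient.mk_surjective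
  have hPk : ∀ x, P x = 0 ↔ x ∈ J := fun x => by
    show w (Ideal.Quotient.mk J x) = 0 ↔ _
    rw [map_eq_zero_iff w w.injective, Ideal.Quotient.eq_zero_iff_mem]
  -- the radical carries a nonzero value of `τ`
  obtain ⟨x₀, hx₀J, hx₀⟩ : ∃ x, P x = 0 ∧ τ x ≠ 0 := by
    by_cases hinj : Function.Injective P
    · exfalso
      obtain ⟨ν, hν, hτν⟩ := hnil
      let eP := AlgEquiv.ofBijective P ⟨hinj, hPs⟩
      refine hτν ?_
      have := pi_isTr_eq_zero hd (τ.comp eP.symm.toLinearMap) (fun a b => by
        show τ (eP.symm (a * b)) = τ (eP.symm (b * a))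
        rw [map_mul eP.symm, map_mul eP.symm, hτ]) (eP ν) (hν.map eP)
      simpa using this
    · obtain ⟨x, hx, hx0⟩ : ∃ x, P x = 0 ∧ x ≠ 0 := by
        by_contra h
        push Not at h
        exact hinj ((injective_iff_map_eq_zero P).2 h)
      obtain ⟨b, hb⟩ := not_forall.1 fun h => hx0 (hnd x h)
      exact ⟨x * b, by rw [map_mul, hx, zero_mul], hb⟩
  -- one simple module
  have hsub : ∀ i j : Fin m, i = j := by
    intro i j
    by_contra hij
    let t : Fin m → (A →ₗ[k] k) := fun l =>
      ((Matrix.traceLinearMap (Fin (d l)) k k).comp (LinearMap.proj l)).comp P.toLinearMap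
    have ht : ∀ l, IsTr (t l) := fun l a b => by
      simp only [t, LinearMap.comp_apply, AlgHom.toLinearMap_apply, map_mul, LinearMap.proj_apply,
        Pi.mul_apply, Matrix.traceLinearMap_apply]
      rw [Matrix.trace_mul_comm]
    refine htr ![τ, t i, t j] (fun l => by fin_cases l <;> simp [hτ, ht])
      (Fintype.linearIndependent_iff.2 fun g hg l => ?_)
    simp only [Fin.sum_univ_three, Matrix.cons_val_zero, Matrix.cons_val_one, Matrix.cons_val] at hg
    have g0 : g 0 = 0 := by
      have h := LinearMap.congr_fun hg x₀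
      simpa [t, hx₀J, hx₀] using h
    have key : ∀ a : Fin m, ∃ y, P y = Pi.single a
        (Matrix.single (⟨0, Nat.pos_of_ne_zero (hd a).out⟩ : Fin (d a)) ⟨0, Nat.pos_of_ne_zero (hd a).out⟩ 1) :=
      fun a => hPs _
    obtain ⟨yi, hyi⟩ := key i
    obtain ⟨yj, hyj⟩ := key j
    have gi : g 1 = 0 := by
      have h := LinearMap.congr_fun hg yi
      simpa [t, hyi, g0, hij, Ne.symm hij] using h
    have gj : g 2 = 0 := by
      have h := LinearMap.congr_fun hg yj
      simpa [t, hyj, g0, hij, Ne.symm hij] using h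
    fin_cases l <;> assumption
  have hm : 0 < m := by
    by_contra h0
    have : m = 0 := by omega
    subst this
    obtain ⟨ν, -, hν⟩ := hnil
    obtain ⟨a, ha⟩ := hJnil 1 ((hPk 1).1 (Subsingleton.elim _ _))
    rw [one_pow] at ha
    exact hν (by rw [← mul_one ν, ha, mul_zero, map_zero])
  set i₁ : Fin m := ⟨0, hm⟩
  haveI := hd i₁
  let Q : A →ₐ[k] Matrix (Fin (d i₁)) (Fin (d i₁)) k :=
    (Pi.evalAlgHom k (fun i => Matrix (Fin (d i)) (Fin (d i)) k) i₁).comp P
  have hQP : ∀ x, Q x = 0 ↔ P x = 0 := fun x =>
    ⟨fun h => funext fun i => by obtain rfl := hsub i i₁; exact h, fun h => congrFun h i₁⟩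
  have hQs : Function.Surjective Q := fun y => by
    obtain ⟨x, hx⟩ := hPs (Pi.single i₁ y)
    exact ⟨x, by show P x i₁ = y; rw [hx, Pi.single_eq_same]⟩
  have hQnil : ∀ x, Q x = 0 → IsNilpotent x := fun x hx => hJnil x ((hPk x).1 ((hQP x).1 hx))
  have hQ0 : Q x₀ = 0 := (hQP x₀).2 hx₀J
  clear_value i₁
  -- matrix units
  let z : Fin (d i₁) := 0
  obtain ⟨e, he, hQe⟩ := exists_isIdempotentElem_eq_of_ker_isNilpotent Q.toRingHom
    (fun x hx => hQnil x hx) (Matrix.single z z 1) (RingHom.mem_range.2 (hQs _))
    (by simp [IsIdempotentElem])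
  replace hQe : Q e = Matrix.single z z 1 := hQe
  choose u₀ hu₀ using fun i : Fin (d i₁) => hQs (Matrix.single i z 1)
  choose w₀ hw₀ using fun i : Fin (d i₁) => hQs (Matrix.single z i 1)
  have hS : Q (∑ i, u₀ i * e * (e * w₀ i)) = 1 := by
    simp only [map_sum, map_mul, hu₀, hw₀, hQe, Matrix.single_mul_single_same, mul_one]
    exact Matrix.sum_single_one
  set S := ∑ i, u₀ i * e * (e * w₀ i) with hSdef
  obtain ⟨T, hT⟩ : IsUnit S := by
    have h := (hQnil (1 - S) (by rw [map_sub, map_one, hS, sub_self])).isUnit_one_sub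
    rwa [sub_sub_cancel] at h
  have hQT : Q (↑T⁻¹ : A) = 1 := by
    have h := congrArg Q T.mul_inv
    rw [map_mul, hT, hS, one_mul, map_one] at h
    exact h
  let r : Fin (d i₁) → A := fun i => u₀ i * e
  let s : Fin (d i₁) → A := fun i => e * w₀ i * ↑T⁻¹
  have hre : ∀ i, r i * e = r i := fun i => by simp only [r, mul_assoc, he.eq]
  have hes : ∀ i, e * s i = s i := fun i => by simp only [s, ← mul_assoc, he.eq]
  have hrs : ∑ i, r i * s i = 1 := by
    simp only [r, s, ← mul_assoc]
    rw [← Finset.sum_mul]
    have : ∑ i, u₀ i * e * e * w₀ i = S := by simp only [hSdef, mul_assoc]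
    rw [this, ← hT]
    exact T.mul_inv
  have hrQ : ∀ i, Q (r i) = Matrix.single i z 1 := fun i => by simp [r, hu₀, hQe]
  have hsQ : ∀ i, Q (s i) = Matrix.single z i 1 := fun i => by simp [s, hw₀, hQe, hQT]
  -- the corner and its radical
  let corner : Set A := {a | e * a * e = a}
  have hcl : ∀ {a}, a ∈ corner → e * a = a := fun {a} ha => by
    conv_lhs => rw [← (show e * a * e = a from ha)]
    simp only [← mul_assoc, he.eq]
    exact ha
  have hcr : ∀ {a}, a ∈ corner → a * e = a := fun {a} ha => by
    conv_lhs => rw [← (show e * a * e = a from ha)]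
    rw [mul_assoc, he.eq]
    exact ha
  have hsar : ∀ i a j, s i * a * r j ∈ corner := fun i a j => by
    show e * (s i * a * r j) * e = _
    simp only [← mul_assoc, hes]
    simp only [mul_assoc, hre]
  let Φ : A →ₗ[k] A := ∑ i, (LinearMap.mulLeft k (s i)).comp (LinearMap.mulRight k (r i))
  have hΦa : ∀ a, Φ a = ∑ i, s i * a * r i := fun a => by simp [Φ, mul_assoc]
  have hext : ∀ ψ : A →ₗ[k] k, (∀ a ∈ corner, ∀ b ∈ corner, ψ (a * b) = ψ (b * a)) →
      IsTr (ψ.comp Φ) ∧ ∀ a ∈ corner, (ψ.comp Φ) a = ψ a := by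
    intro ψ hψ
    have expand : ∀ a b, ∑ i, ψ (s i * (a * b) * r i) =
        ∑ i, ∑ j, ψ ((s i * a * r j) * (s j * b * r i)) := by
      intro a b
      refine Finset.sum_congr rfl fun i _ => ?_
      conv_lhs => rw [← one_mul b, ← hrs]
      simp only [Finset.sum_mul, Finset.mul_sum, map_sum, mul_assoc]
    refine ⟨fun a b => ?_, fun a ha => ?_⟩
    · simp only [LinearMap.comp_apply, hΦa, map_sum]
      rw [expand, expand, Finset.sum_comm]
      exact Finset.sum_congr rfl fun i _ => Finset.sum_congr rfl fun j _ =>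
        hψ _ (hsar _ _ _) _ (hsar _ _ _)
    · simp only [LinearMap.comp_apply, hΦa, map_sum]
      have hmem : ∀ x, e * x * e ∈ corner := fun x => by
        show e * (e * x * e) * e = _
        simp only [← mul_assoc, he.eq]
        rw [mul_assoc, he.eq]
      calc ∑ i, ψ (s i * a * r i) = ∑ i, ψ ((e * s i * e) * (a * (e * r i * e))) := by
            refine Finset.sum_congr rfl fun i _ => congrArg ψ ?_
            rw [hes, mul_assoc (e) (r i) e, hre]
            simp only [← mul_assoc]
            rw [mul_assoc (s i * e) a e, hcr ha, mul_assoc (s i) e a, hcl ha]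
        _ = ∑ i, ψ ((a * (e * r i * e)) * (e * s i * e)) := by
            refine Finset.sum_congr rfl fun i _ => hψ _ (hmem _) _ ?_
            show e * (a * (e * r i * e)) * e = _
            simp only [← mul_assoc]
            rw [hcl ha, mul_assoc (a * e * r i) e e, he.eq]
        _ = ψ (∑ i, a * (r i * s i) * e) := by
            rw [map_sum]
            refine Finset.sum_congr rfl fun i _ => congrArg ψ ?_
            rw [hes, mul_assoc e (r i) e, hre, ← mul_assoc a e, hcr ha]
            simp only [mul_assoc]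
        _ = ψ a := by rw [← Finset.sum_mul, ← Finset.mul_sum, hrs, mul_one, hcr ha]
  let R : Submodule k A :=
    { carrier := {a | a ∈ corner ∧ Q a = 0}
      add_mem' := fun {a b} ha hb => ⟨by
        show e * (a + b) * e = a + b
        rw [mul_add, add_mul, show e * a * e = a from ha.1, show e * b * e = b from hb.1], by
        rw [map_add, ha.2, hb.2, add_zero]⟩
      zero_mem' := ⟨by show e * 0 * e = 0; simp, map_zero _⟩
      smul_mem' := fun c a ha => ⟨by
        show e * (c • a) * e = c • a
        rw [mul_smul_comm, smul_mul_assoc, show e * a * e = a from ha.1], by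
        rw [map_smul, ha.2, smul_zero]⟩ }
  have hRmul : ∀ {a b}, a ∈ R → b ∈ R → a * b ∈ R := fun {a b} ha hb => ⟨by
    show e * (a * b) * e = _
    rw [← mul_assoc, hcl ha.1, mul_assoc, hcr hb.1], by rw [map_mul, ha.2, zero_mul]⟩
  have hR2 : R * R ≤ R := Submodule.mul_le.2 fun a ha b hb => hRmul ha hb
  have hee : e ∈ corner := by show e * e * e = e; rw [he.eq, he.eq]
  have hdec : ∀ a ∈ corner, ∃ c : k, a - c • e ∈ R := by
    intro a ha
    refine ⟨Q a z z, ?_, ?_⟩
    · show e * (a - Q a z z • e) * e = _
      rw [mul_sub, sub_mul, mul_smul_comm, smul_mul_assoc, show e * a * e = a from ha,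
        show e * e * e = e from hee]
    · rw [map_sub, map_smul, hQe]
      have h := congrArg Q (show e * a * e = a from ha)
      rw [map_mul, map_mul, hQe] at h
      rw [sub_eq_zero]
      conv_lhs => rw [← h]
      ext i j
      by_cases hi : i = z <;> by_cases hj : j = z <;>
        simp [Matrix.mul_apply, Matrix.single_apply, hi, hj, Ne.symm, eq_comm]
  -- three independent functionals on the corner are impossible
  have hthree : ∀ W : Submodule k A, W ≤ R →
      (∀ a ∈ R, ∀ b ∈ R, a * b - b * a ∈ W) → ∀ x ∈ R, ∀ y ∈ R, ∀ _ : x ∉ W,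
      ∃ c : k, y - c • x ∈ W := by
    intro W hWR hW x hx y hy hxW
    by_contra hno
    push Not at hno
    have hli : LinearIndependent k ![W.mkQ e, W.mkQ x, W.mkQ y] := by
      refine Fintype.linearIndependent_iff.2 fun g hg l => ?_
      simp only [Fin.sum_univ_three, Matrix.cons_val_zero, Matrix.cons_val_one, Matrix.cons_val,
        ← map_smul, ← map_add, Submodule.mkQ_apply, ← Submodule.Quotient.mk_add,
        ← Submodule.Quotient.mk_smul, Submodule.Quotient.mk_eq_zero] at hg
      have g0 : g 0 = 0 := by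
        have h := (hWR hg).2
        rw [map_add, map_add, map_smul, map_smul, map_smul, hx.2, hy.2, smul_zero, smul_zero,
          add_zero, add_zero, hQe] at h
        simpa using congrFun (congrFun h z) z
      rw [g0, zero_smul, zero_add] at hg
      have g2 : g 2 = 0 := by
        by_contra h2
        refine hno (-(g 2)⁻¹ * g 1) ?_
        have := W.smul_mem (g 2)⁻¹ hg
        rwa [smul_add, smul_smul, smul_smul, inv_mul_cancel₀ h2, one_smul, add_comm,
          ← sub_neg_eq_add, ← neg_smul, ← neg_mul] at this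
      rw [g2, zero_smul, add_zero] at hg
      have g1 : g 1 = 0 := by
        by_contra h1
        exact hxW ((Submodule.smul_mem_iff W h1).1 hg)
      fin_cases l <;> assumption
    let b0 := hli.repr
    choose f hf using fun i : Fin 3 => LinearMap.exists_extend
      ((Finsupp.lapply i).comp b0)
    have hfv : ∀ i j, (f i) (![W.mkQ e, W.mkQ x, W.mkQ y] j) = if i = j then (1 : k) else 0 := by
      intro i j
      have h := LinearMap.congr_fun (hf i) ⟨_, Submodule.subset_span (Set.mem_range_self j)⟩
      simp only [LinearMap.comp_apply, Submodule.subtype_apply, Finsupp.lapply_apply] at h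
      rw [h, show b0 ⟨_, Submodule.subset_span (Set.mem_range_self j)⟩ = Finsupp.single j 1 from
        hli.repr_eq_single j _ rfl, Finsupp.single_apply]
      simp [eq_comm]
    have hψ : ∀ i, ∀ a ∈ corner, ∀ b ∈ corner, ((f i).comp W.mkQ) (a * b) =
        ((f i).comp W.mkQ) (b * a) := by
      intro i a ha b hb
      obtain ⟨c, hc⟩ := hdec a ha
      obtain ⟨c', hc'⟩ := hdec b hb
      have h1 : a * b - b * a = (a - c • e) * (b - c' • e) - (b - c' • e) * (a - c • e) := by
        simp only [mul_sub, sub_mul, mul_smul_comm, smul_mul_assoc, hcl ha, hcr ha, hcl hb, hcr hb,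
          he.eq]
        module
      have h2 : W.mkQ (a * b) = W.mkQ (b * a) := by
        rw [Submodule.mkQ_apply, Submodule.mkQ_apply, Submodule.Quotient.eq, h1]
        exact hW _ hc _ hc'
      simp only [LinearMap.comp_apply, h2]
    refine not_dual htr (φ := fun i => ((f i).comp W.mkQ).comp Φ) (fun i => (hext _ (hψ i)).1)
      ![e, x, y] fun i j => ?_
    have hmem : ![e, x, y] j ∈ corner := by fin_cases j; exacts [hee, hx.1, hy.1]
    rw [(hext _ (hψ i)).2 _ hmem, LinearMap.comp_apply, ← hfv i j]
    fin_cases j <;> simp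
  -- the corner is commutative
  have hpowJ : ∀ j, 0 < j → R ^ j ≤ R := by
    intro j hj
    induction j, hj using Nat.le_induction with
    | base => simp
    | succ j _ ih => rw [pow_succ]; exact (mul_le_mul' ih le_rfl).trans hR2
  have hRN : R ^ (N + 1) = ⊥ := by
    have key : ∀ j, 0 < j → ∀ x ∈ R ^ j, x ∈ J ^ j := by
      intro j hj
      induction j, hj using Nat.le_induction with
      | base => intro x hx; simp only [Nat.succ_eq_add_one, zero_add, Submodule.pow_one] at hx ⊢; exact (hPk x).1 ((hQP x).1 hx.2)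
      | succ j hj ih =>
        intro x hx
        rw [Submodule.pow_succ] at hx ⊢
        induction hx using Submodule.mul_induction_on' with
        | mem_mul_mem a ha b hb => exact Ideal.mul_mem_mul (ih a ha) ((hPk b).1 ((hQP b).1 hb.2))
        | add a _ b _ h h' => exact add_mem h h'
    rw [eq_bot_iff]
    intro x hx
    have h := Ideal.pow_le_pow_right N.le_succ (key _ N.succ_pos x hx)
    rw [hN] at h
    exact (Submodule.mem_bot k).2 (Ideal.mem_bot.1 h)
  have hcomm : ∀ a ∈ R, ∀ b ∈ R, a * b = b * a := by
    have hmulW : ∀ a ∈ R, ∀ b ∈ R, a * b - b * a ∈ R * R := fun a ha b hb =>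
      sub_mem (Submodule.mul_mem_mul ha hb) (Submodule.mul_mem_mul hb ha)
    obtain ⟨x, hx, hgen⟩ : ∃ x ∈ R, ∀ y ∈ R, ∃ c : k, y - c • x ∈ R * R := by
      by_cases h : R ≤ R * R
      · exact ⟨0, zero_mem _, fun y hy => ⟨0, by simpa using h hy⟩⟩
      · obtain ⟨x, hx, hx'⟩ := SetLike.not_le_iff_exists.1 h
        exact ⟨x, hx, fun y hy => hthree _ hR2 hmulW x hx y hy hx'⟩
    let C : Submodule k A := Submodule.span k (Set.range fun i : ℕ => x ^ (i + 1))
    have hCR : C ≤ R := by
      refine Submodule.span_le.2 ?_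
      rintro _ ⟨i, rfl⟩
      exact hpowJ (i + 1) i.succ_pos (Submodule.pow_mem_pow R hx (i + 1))
    have hCC : C * C ≤ C := by
      rw [Submodule.span_mul_span]
      refine Submodule.span_le.2 ?_
      rintro _ ⟨_, ⟨i, rfl⟩, _, ⟨j, rfl⟩, rfl⟩
      exact Submodule.subset_span ⟨i + j + 1, by simp only [← pow_add]; congr 1; omega⟩
    have hfill : ∀ j, R ≤ C ⊔ R ^ (j + 1) := by
      intro j
      induction j with
      | zero => rw [zero_add, pow_one]; exact le_sup_right
      | succ j ih =>
        have hsq : R * R ≤ C ⊔ R ^ (j + 2) := by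
          refine (mul_le_mul' ih ih).trans ?_
          rw [Submodule.sup_mul, Submodule.mul_sup, Submodule.mul_sup]
          refine sup_le (sup_le (hCC.trans le_sup_left) ?_) (sup_le ?_ ?_) <;>
            refine le_trans ?_ le_sup_right
          · rw [pow_succ' R (j + 1)]; exact mul_le_mul' hCR le_rfl
          · rw [pow_succ R (j + 1)]; exact mul_le_mul' le_rfl hCR
          · rw [pow_succ R (j + 1)]; exact mul_le_mul' le_rfl (hpowJ _ j.succ_pos)
        intro y hy
        obtain ⟨c, hc⟩ := hgen y hy
        rw [← sub_add_cancel y (c • x)]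
        exact add_mem (hsq hc) (Submodule.mem_sup_left (C.smul_mem c
          (Submodule.subset_span ⟨0, by simp⟩)))
    have hRC : R ≤ C := by
      have := hfill N
      rwa [hRN, sup_bot_eq] at this
    intro a ha b hb
    have ha' := hRC ha
    have hb' := hRC hb
    clear ha hb
    induction ha' using Submodule.span_induction with
    | mem a ha =>
      obtain ⟨i, rfl⟩ := ha
      induction hb' using Submodule.span_induction with
      | mem b hb => obtain ⟨j, rfl⟩ := hb; simp only [← pow_add, add_comm]
      | zero => simp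
      | add u v _ _ hu hv => rw [mul_add, add_mul, hu, hv]
      | smul c u _ hu => rw [mul_smul_comm, smul_mul_assoc, hu]
    | zero => simp
    | add u v _ _ hu hv => rw [mul_add, add_mul, hu, hv]
    | smul c u _ hu => rw [mul_smul_comm, smul_mul_assoc, hu]
  -- the radical of the corner is a line
  have hexp : ∀ j : A, Q j = 0 → ∀ i l, s i * j * r l ∈ R := fun j hj i l =>
    ⟨hsar i j l, by rw [map_mul, map_mul, hj, mul_zero, zero_mul]⟩
  have hre' : ∀ j : A, j = ∑ i, ∑ l, r i * (s i * j * r l) * s l := by
    intro j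
    conv_lhs => rw [← mul_one j, ← one_mul j, ← hrs]
    simp only [Finset.sum_mul, Finset.mul_sum, mul_assoc]
    rw [Finset.sum_comm]
  obtain ⟨x, hx, hx0⟩ : ∃ x ∈ R, x ≠ 0 := by
    by_contra h
    push Not at h
    refine hx₀ ?_
    rw [hre' x₀]
    simp [h _ (hexp x₀ hQ0 _ _)]
  have hline : ∀ y ∈ R, ∃ c : k, y = c • x := fun y hy => by
    obtain ⟨c, hc⟩ := hthree ⊥ bot_le (fun a ha b hb => by simp [hcomm a ha b hb]) x hx y hy
      (by simpa using hx0)
    exact ⟨c, sub_eq_zero.1 ((Submodule.mem_bot k).1 hc)⟩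
  have hxx : x * x = 0 := by
    obtain ⟨c, hc⟩ := hline _ (hRmul hx hx)
    by_cases hc0 : c = 0
    · rw [hc, hc0, zero_smul]
    · exfalso
      obtain ⟨K, hK⟩ := hQnil x hx.2
      have hp : ∀ j, x ^ (j + 1) = c ^ j • x := by
        intro j
        induction j with
        | zero => simp
        | succ j ih => rw [pow_succ, ih, smul_mul_assoc, hc, smul_smul, ← pow_succ]
      have := hp K
      rw [pow_succ, hK, zero_mul] at this
      exact hx0 ((smul_eq_zero.1 this.symm).resolve_left (pow_ne_zero _ hc0))
  have hRx : ∀ a ∈ corner, ∀ b ∈ corner, a * x * b = (Q a z z * Q b z z) • x := by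
    have hcQ : ∀ a ∈ corner, ∀ c : k, a - c • e ∈ R → c = Q a z z := fun a _ c hc => by
      have := congrFun (congrFun hc.2 z) z
      rw [map_sub, map_smul, hQe] at this
      rw [Matrix.sub_apply, Matrix.smul_apply, Matrix.single_apply_same, smul_eq_mul, mul_one, Matrix.zero_apply,
        sub_eq_zero] at this
      exact this.symm
    intro a ha b hb
    obtain ⟨c, hc⟩ := hdec a ha
    obtain ⟨c', hc'⟩ := hdec b hb
    rw [← hcQ a ha c hc, ← hcQ b hb c' hc']
    obtain ⟨α, hα⟩ := hline _ hc
    obtain ⟨β, hβ⟩ := hline _ hc'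
    rw [sub_eq_iff_eq_add] at hα hβ
    subst hα hβ
    simp only [add_mul, mul_add, smul_mul_assoc, mul_smul_comm, hxx, hcl hx.1, hcr hx.1, smul_zero,
      zero_add, add_zero, zero_mul, smul_smul, mul_comm c c']
  let v : Fin (d i₁) × Fin (d i₁) → A := fun il => r il.1 * x * s il.2
  have hvJ : ∀ il, v il ∈ LinearMap.ker Q.toLinearMap := fun il => by
    simp [v, hx.2]
  have hli : LinearIndependent k v := by
    refine Fintype.linearIndependent_iff.2 fun g hg il => ?_
    obtain ⟨a, b⟩ := il
    have hQ1 : ∀ i l, Q (s i * r l) z z = if i = l then (1 : k) else 0 := fun i l => by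
      rw [map_mul, hsQ, hrQ]
      by_cases h : i = l
      · subst h; simp
      · simp [h]
    have hsr : ∀ i l, s i * r l ∈ corner := fun i l => by simpa using hsar i 1 l
    have h := congrArg (fun y => s a * y * r b) hg
    simp only [Finset.mul_sum, Finset.sum_mul, mul_zero, zero_mul, mul_smul_comm, smul_mul_assoc] at h
    rw [Finset.sum_congr rfl (g := fun il => (g il * (Q (s a * r il.1) z z * Q (s il.2 * r b) z z)) • x)
      (fun il _ => by
        rw [show s a * v il * r b = (s a * r il.1) * x * (s il.2 * r b) by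
          simp only [v, mul_assoc], hRx _ (hsr _ _) _ (hsr _ _), smul_smul])] at h
    rw [← Finset.sum_smul] at h
    have h' := (smul_eq_zero.1 h).resolve_right hx0
    rw [Finset.sum_eq_single (a, b)] at h'
    · simpa [hQ1] using h'
    · intro il _ hne
      rw [hQ1, hQ1]
      split_ifs with h1 h2 <;> simp
      exact absurd (Prod.ext h1.symm h2) hne
    · simp
  have hspan : Submodule.span k (Set.range v) = LinearMap.ker Q.toLinearMap := by
    refine le_antisymm (Submodule.span_le.2 (Set.range_subset_iff.2 hvJ)) fun j hj => ?_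
    rw [hre' j]
    refine Submodule.sum_mem _ fun i _ => Submodule.sum_mem _ fun l _ => ?_
    obtain ⟨c, hc⟩ := hline _ (hexp j hj i l)
    rw [hc, mul_smul_comm, smul_mul_assoc]
    exact Submodule.smul_mem _ _ (Submodule.subset_span ⟨(i, l), rfl⟩)
  refine ⟨d i₁, ?_⟩
  rw [← LinearMap.finrank_range_add_finrank_ker Q.toLinearMap, LinearMap.range_eq_top.2 hQs,
    finrank_top, Module.finrank_matrix, ← hspan, finrank_span_eq_card hli, Fintype.card_prod,
    Fintype.card_fin, Module.finrank_self]
  ring

end Core

end Cfsg.Agent.BrandtAlgebra42
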