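import Mathlib
import Cfsg.Agent.Lib.BlockDefectOneTwo79
import Cfsg.Agent.Lib.BlockTheoryHeight
import Cfsg.Agent.Lib.BrandtAlgebra42

/-!
# Brandt's theorem: a block with two irreducible characters has a defect group of order two
-/

set_option autoImplicit false
set_option linter.style.haveILetI false

open scoped ComplexConjugate

namespace Cfsg.Agent.BrandtBlock42

open Cfsg BlockTheoryLocalRing BlockTheoryCentre BlockTheoryIdem BlockTheoryDefect BlockContrib
  BlockContribPrime BrandtAlgebra42

attribute [local instance] Classical.propDecidable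

universe u v

variable {p : ℕ} {M : Ideal AlgInt}

section Residue

/-- Reduction of local integers. -/
theorem exists_reduction (hM : IsPModular p M) :
    ∃ π : localRing hM →+* AlgInt ⧸ M, ∀ z : localRing hM, π z = 0 ↔ MemLocalIdeal M (z : ℂ) := by
  haveI : M.IsMaximal := hM.2.1
  letI := Ideal.Quotient.field M
  let mk := Ideal.Quotient.mk M
  have hmk : ∀ {b : AlgInt}, b ∉ M → mk b ≠ 0 := fun {b} hb h => hb (Ideal.Quotient.eq_zero_iff_mem.1 h)
  choose na da hda heq using fun z : localRing hM => (show MemLocalRing M (z : ℂ) from z.2)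
  let f : localRing hM → AlgInt ⧸ M := fun z => mk (na z) / mk (da z)
  have key : ∀ (z : localRing hM) (a b : AlgInt), b ∉ M → (a : ℂ) / (b : ℂ) = (z : ℂ) →
      f z = mk a / mk b := by
    intro z a b hb he
    have h := heq z
    rw [← he, div_eq_div_iff (coe_ne_zero (hda z)) (coe_ne_zero hb)] at h
    show mk (na z) / mk (da z) = mk a / mk b
    rw [div_eq_div_iff (hmk (hda z)) (hmk hb), ← map_mul, ← map_mul]
    exact congrArg mk (Subtype.ext (by push_cast; exact h))
  let π : localRing hM →+* AlgInt ⧸ M :=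
    { toFun := f
      map_one' := by
        rw [key 1 1 1 (one_notMem hM) (by simp)]
        simp
      map_mul' := fun x y => by
        rw [key (x * y) (na x * na y) (da x * da y) (mul_notMem hM (hda x) (hda y))
          (by push_cast; rw [← heq x, ← heq y, div_mul_div_comm]), map_mul, map_mul, ← div_mul_div_comm]
      map_zero' := by
        rw [key 0 0 1 (one_notMem hM) (by simp)]
        simp
      map_add' := fun x y => by
        rw [key (x + y) (na x * da y + da x * na y) (da x * da y) (mul_notMem hM (hda x) (hda y))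
          (by push_cast; rw [← heq x, ← heq y, div_add_div _ _ (coe_ne_zero (hda x)) (coe_ne_zero (hda y))]),
          map_add, map_mul, map_mul, map_mul, ← div_add_div _ _ (hmk (hda x)) (hmk (hda y))] }
  refine ⟨π, fun z => ?_⟩
  show f z = 0 ↔ _
  constructor
  · intro h
    rcases div_eq_zero_iff.1 h with h | h
    · exact ⟨na z, da z, Ideal.Quotient.eq_zero_iff_mem.1 h, hda z, heq z⟩
    · exact absurd h (hmk (hda z))
  · rintro ⟨a, b, ha, hb, he⟩
    rw [key z a b hb he, show mk a = 0 from Ideal.Quotient.eq_zero_iff_mem.2 ha, zero_div]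

/-- The residue field is algebraically closed. -/
theorem isAlgClosed_residue (hM : IsPModular p M) :
    haveI : M.IsMaximal := hM.2.1
    letI := Ideal.Quotient.field M
    IsAlgClosed (AlgInt ⧸ M) := by
  haveI : M.IsMaximal := hM.2.1
  letI := Ideal.Quotient.field M
  refine IsAlgClosed.of_exists_root _ fun f hf hirr => ?_
  obtain ⟨g, hg⟩ := Polynomial.map_surjective (Ideal.Quotient.mk M) Ideal.Quotient.mk_surjective f
  obtain ⟨q, hqf, hqd, hqm⟩ := Polynomial.lifts_and_degree_eq_and_monic
    ((Polynomial.mem_lifts f).2 ⟨g, hg⟩) hf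
  obtain ⟨z, hz⟩ := IsAlgClosed.exists_root (q.map (algebraMap AlgInt ℂ))
    (by rw [hqm.degree_map, hqd]; exact (Polynomial.degree_pos_of_irreducible hirr).ne')
  rw [Polynomial.IsRoot, Polynomial.eval_map] at hz
  have hint : IsIntegral ℤ z := isIntegral_trans z ⟨q, hqm, hz⟩
  refine ⟨Ideal.Quotient.mk M ⟨z, hint⟩, ?_⟩
  rw [← hqf, Polynomial.eval_map, Polynomial.eval₂_hom]
  have h0 : q.eval (⟨z, hint⟩ : AlgInt) = 0 := by
    apply Subtype.ext
    have h := Polynomial.eval₂_hom (p := q) (algebraMap AlgInt ℂ) (⟨z, hint⟩ : AlgInt)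
    rw [show (algebraMap AlgInt ℂ) (⟨z, hint⟩ : AlgInt) = z from rfl, hz] at h
    exact h.symm
  rw [h0, map_zero]

end Residue

section Coeff

variable {k : Type v} [CommRing k] {G : Type u} [Group G] [Fintype G]

theorem eq_sum_single' (z : MonoidAlgebra k G) : z = ∑ x : G, MonoidAlgebra.single x (z.coeff x) := by
  ext a
  simp [MonoidAlgebra.coeff_sum, Finsupp.single_apply, Finset.sum_apply']

theorem coeff_mul' (z w : MonoidAlgebra k G) (x : G) :
    (z * w).coeff x = ∑ y : G, z.coeff y * w.coeff (y⁻¹ * x) := by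
  conv_lhs => rw [eq_sum_single' z, Finset.sum_mul, MonoidAlgebra.coeff_sum]
  rw [Finset.sum_apply']
  refine Finset.sum_congr rfl fun y _ => ?_
  rw [MonoidAlgebra.coeff_single_mul_eq_mul_coeff]
  intro m _
  exact eq_inv_mul_iff_mul_eq.symm

theorem coeff_mul_single' (z : MonoidAlgebra k G) (g x : G) :
    (z * MonoidAlgebra.single g 1).coeff x = z.coeff (x * g⁻¹) := by
  rw [coeff_mul', Finset.sum_eq_single (x * g⁻¹)]
  · simp [mul_assoc]
  · intro y _ hy
    rw [MonoidAlgebra.coeff_single, Finsupp.single_eq_of_ne, mul_zero]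
    intro h
    exact hy (by rw [← h]; group)
  · simp

theorem coeff_single_mul' (z : MonoidAlgebra k G) (g x : G) :
    (MonoidAlgebra.single g 1 * z).coeff x = z.coeff (g⁻¹ * x) := by
  rw [coeff_mul', Finset.sum_eq_single g]
  · simp
  · intro y _ hy
    simp [Finsupp.single_eq_of_ne hy]
  · simp

end Coeff

section Block

variable {G : Type u} [Group G] [Fintype G]

/-- A block idempotent coefficient as a local integer. -/
noncomputable def eR (hM : IsPModular p M) {B : Set (IrrCharacter G)} (hB : IsPBlock M B) (g : G) :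
    localRing hM := ⟨blockCoeff B g, blockCoeff_mem hM hB g⟩

variable {k : Type v} [Field k]

/-- The block idempotent over the residue field. -/
noncomputable def eK (hM : IsPModular p M) {B : Set (IrrCharacter G)} (hB : IsPBlock M B)
    (π : localRing hM →+* k) : MonoidAlgebra k G :=
  ∑ g : G, MonoidAlgebra.single g (π (eR hM hB g))

theorem coeff_eK (hM : IsPModular p M) {B : Set (IrrCharacter G)} (hB : IsPBlock M B)
    (π : localRing hM →+* k) (g : G) : (eK hM hB π).coeff g = π (eR hM hB g) := by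
  simp [eK, MonoidAlgebra.coeff_sum, Finsupp.single_apply, Finset.sum_apply']

theorem blockCoeff_conv (B : Set (IrrCharacter G)) (x : G) :
    ∑ y : G, blockCoeff B y * blockCoeff B (y⁻¹ * x) = blockCoeff B x := by
  have h := congrArg (fun w : MonoidAlgebra ℂ G => w.coeff x) (idem_sq B)
  simpa [BlockTheoryCentre.coeff_mul_eq, coeff_idem] using h

theorem eR_conv (hM : IsPModular p M) {B : Set (IrrCharacter G)} (hB : IsPBlock M B) (x : G) :
    ∑ y : G, eR hM hB y * eR hM hB (y⁻¹ * x) = eR hM hB x :=
  Subtype.ext (by push_cast; exact blockCoeff_conv B x)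

theorem eR_conj (hM : IsPModular p M) {B : Set (IrrCharacter G)} (hB : IsPBlock M B) (g h : G) :
    eR hM hB (h * g * h⁻¹) = eR hM hB g := by
  refine Subtype.ext ?_
  have := isCen_idem B g h
  simpa [coeff_idem, eR] using this

theorem eK_sq (hM : IsPModular p M) {B : Set (IrrCharacter G)} (hB : IsPBlock M B)
    (π : localRing hM →+* k) : eK hM hB π * eK hM hB π = eK hM hB π := by
  ext x
  rw [coeff_mul']
  simp only [coeff_eK, ← map_mul, ← map_sum, eR_conv]

theorem eK_comm (hM : IsPModular p M) {B : Set (IrrCharacter G)} (hB : IsPBlock M B)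
    (π : localRing hM →+* k) (w : MonoidAlgebra k G) : eK hM hB π * w = w * eK hM hB π := by
  have hg : ∀ g : G, eK hM hB π * MonoidAlgebra.single g 1 = MonoidAlgebra.single g 1 * eK hM hB π := by
    intro g
    ext x
    rw [coeff_mul_single', coeff_single_mul', coeff_eK, coeff_eK, ← eR_conj hM hB (g⁻¹ * x) g]
    congr 2
    group
  induction w using MonoidAlgebra.induction_linear with
  | zero => simp
  | add a b ha hb => rw [mul_add, add_mul, ha, hb]
  | single g r =>
    rw [show MonoidAlgebra.single g r = r • MonoidAlgebra.single g (1 : k) by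
      rw [MonoidAlgebra.smul_single', mul_one], mul_smul_comm, smul_mul_assoc, hg]

/-- The matrix of left multiplication by the block idempotent. -/
noncomputable def leftMat (hM : IsPModular p M) {B : Set (IrrCharacter G)} (hB : IsPBlock M B) :
    Matrix G G (localRing hM) := Matrix.of fun x y => eR hM hB (x * y⁻¹)

theorem leftMat_sq (hM : IsPModular p M) {B : Set (IrrCharacter G)} (hB : IsPBlock M B) :
    leftMat hM hB * leftMat hM hB = leftMat hM hB := by
  ext x z : 1
  rw [Matrix.mul_apply]
  simp only [leftMat, Matrix.of_apply]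
  rw [← eR_conv hM hB (x * z⁻¹)]
  refine Fintype.sum_equiv ((Equiv.inv G).trans (Equiv.mulLeft x)) _ _ fun y => ?_
  simp only [Equiv.trans_apply, Equiv.inv_apply, Equiv.coe_mulLeft]
  congr 2
  group

/-- The matrix of the block idempotent on class functions. -/
noncomputable def classMat (hM : IsPModular p M) {B : Set (IrrCharacter G)} (hB : IsPBlock M B) :
    Matrix (ConjClasses G) (ConjClasses G) (localRing hM) :=
  Matrix.of fun C D => ∑ h : G, if ConjClasses.mk (h * C.out) = D then eR hM hB h else 0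

theorem classMat_mulVec {S : Type*} [CommRing S] (hM : IsPModular p M) {B : Set (IrrCharacter G)}
    (hB : IsPBlock M B) (f : localRing hM →+* S) (v : ConjClasses G → S) (C : ConjClasses G) :
    ((classMat hM hB).map f).mulVec v C =
      ∑ h : G, f (eR hM hB h) * v (ConjClasses.mk (h * C.out)) := by
  simp only [Matrix.mulVec, dotProduct, classMat, Matrix.map_apply, Matrix.of_apply, map_sum,
    Finset.sum_mul]
  rw [Finset.sum_comm]
  refine Finset.sum_congr rfl fun h _ => ?_
  rw [Finset.sum_eq_single (ConjClasses.mk (h * C.out))]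
  · simp
  · intro D _ hD
    simp [Ne.symm hD]
  · simp

theorem irr_out (χ : IrrCharacter G) (x : G) :
    (χ : G → ℂ) (ConjClasses.mk x).out = (χ : G → ℂ) x :=
  CharBasic.apply_eq_of_isConj (irr_classFun χ) ((isConj_out _).1 rfl)

theorem classMat_irr (hM : IsPModular p M) {B : Set (IrrCharacter G)} (hB : IsPBlock M B)
    (χ : IrrCharacter G) :
    ((classMat hM hB).map (localRing hM).subtype).mulVec (fun C => (χ : G → ℂ) C.out) =
      if χ ∈ B then (fun C : ConjClasses G => (χ : G → ℂ) C.out) else 0 := by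
  funext C
  rw [classMat_mulVec]
  have h := chiSum_idem_mul B χ (MonoidAlgebra.single C.out (1 : ℂ))
  rw [chiSum_single, one_mul] at h
  have e : ∑ h : G, (localRing hM).subtype (eR hM hB h) *
      (χ : G → ℂ) (ConjClasses.mk (h * C.out)).out =
      chiSum (χ : G → ℂ) (idem B * MonoidAlgebra.single C.out (1 : ℂ)) := by
    rw [chiSum_apply]
    refine Fintype.sum_equiv (Equiv.mulRight C.out) _ _ fun h => ?_
    simp only [Equiv.coe_mulRight, coeff_mul_single', coeff_idem, irr_out]
    simp [eR]
  rw [e, h]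
  split_ifs <;> rfl

theorem exists_irr_comb (v : ConjClasses G → ℂ) :
    ∃ c : IrrCharacter G → ℂ, v = ∑ χ : IrrCharacter G, c χ • fun C : ConjClasses G => (χ : G → ℂ) C.out := by
  let f : G → ℂ := fun g => v (ConjClasses.mk g)
  have hf : IsClassFunction G f := fun g h => congrArg v
    (ConjClasses.mk_eq_mk_iff_isConj.2 (isConj_iff.2 ⟨h, rfl⟩).symm)
  refine ⟨fun χ => classInner f (χ : G → ℂ), funext fun C => ?_⟩
  conv_lhs => rw [← Quotient.out_eq C]
  show f C.out = _
  conv_lhs => rw [CharBasicOrth.eq_sum_classInner hf]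
  simp [Finset.sum_apply]

theorem classMat_sq (hM : IsPModular p M) {B : Set (IrrCharacter G)} (hB : IsPBlock M B) :
    classMat hM hB * classMat hM hB = classMat hM hB := by
  have hinj : Function.Injective (localRing hM).subtype := Subtype.val_injective
  apply Matrix.map_injective hinj
  show (classMat hM hB * classMat hM hB).map (localRing hM).subtype = _
  rw [Matrix.map_mul]
  apply Matrix.toLin'.injective
  refine LinearMap.ext fun v => ?_
  obtain ⟨c, rfl⟩ := exists_irr_comb v
  simp only [map_sum, map_smul, Matrix.toLin'_apply, ← Matrix.mulVec_mulVec, classMat_irr]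
  refine Finset.sum_congr rfl fun χ _ => congrArg _ ?_
  split_ifs with h
  · rw [classMat_irr, if_pos h]
  · rw [Matrix.mulVec_zero]

theorem classMat_rank_le (hM : IsPModular p M) {B : Set (IrrCharacter G)} (hB : IsPBlock M B) :
    Module.finrank ℂ
      (LinearMap.range (Matrix.toLin' ((classMat hM hB).map (localRing hM).subtype))) ≤ Nat.card B := by
  set S : Finset (ConjClasses G → ℂ) :=
    (BlockContribBounds.members B).image fun χ : IrrCharacter G => fun C => (χ : G → ℂ) C.out
  have hle : LinearMap.range (Matrix.toLin' ((classMat hM hB).map (localRing hM).subtype)) ≤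
      Submodule.span ℂ (S : Set (ConjClasses G → ℂ)) := by
    rintro _ ⟨v, rfl⟩
    obtain ⟨c, rfl⟩ := exists_irr_comb v
    simp only [map_sum, map_smul, Matrix.toLin'_apply, classMat_irr]
    refine Submodule.sum_mem _ fun χ _ => Submodule.smul_mem _ _ ?_
    split_ifs with h
    · exact Submodule.subset_span (Finset.mem_image_of_mem _ (BlockContribBounds.mem_members.2 h))
    · exact Submodule.zero_mem _
  refine (Submodule.finrank_mono hle).trans ((finrank_span_finset_le_card S).trans ?_)
  rw [BlockContribBounds.card_members]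
  exact Finset.card_image_le

theorem leftMat_trace (hM : IsPModular p M) {B : Set (IrrCharacter G)} (hB : IsPBlock M B) :
    ((leftMat hM hB).map (localRing hM).subtype).trace =
      ∑ χ ∈ BlockContribBounds.members B, ((charDegree (χ : G → ℂ) : ℂ)) ^ 2 := by
  have e : ((leftMat hM hB).map (localRing hM).subtype).trace = (Nat.card G : ℂ) * blockCoeff B 1 := by
    simp [Matrix.trace, leftMat, eR, Nat.card_eq_fintype_card]
  rw [e, blockCoeff, ← mul_assoc, mul_inv_cancel₀ (Nat.cast_ne_zero.2 Nat.card_pos.ne'), one_mul,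
    BlockContribBounds.finsum_eq_members]
  refine Finset.sum_congr rfl fun χ _ => ?_
  rw [ClassAlgebraVal.apply_one_eq_charDegree, Complex.conj_natCast, sq]

variable [IsAlgClosed k]

/-- The block algebra of a block with at most two characters has dimension twice a square. -/
theorem sum_sq_eq (hM : IsPModular p M) [CharP k p] {B : Set (IrrCharacter G)} (hB : IsPBlock M B)
    (π : localRing hM →+* k) (hπ : ∀ z : localRing hM, π z = 0 ↔ MemLocalIdeal M (z : ℂ))
    (hk : Nat.card B ≤ 2) {y u : G} (hy : IsDefectClass M B y) (hu1 : u ≠ 1) {l : ℕ}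
    (hu : orderOf u = p ^ l) (hc : Commute u y) :
    ∃ n : ℕ, ∑ χ ∈ BlockContribBounds.members B, charDegree (χ : G → ℂ) ^ 2 = 2 * n ^ 2 := by
  haveI : Fact p.Prime := ⟨hM.1⟩
  set e := eK hM hB π with he
  let I : Ideal (MonoidAlgebra k G) :=
    { carrier := {w | e * w = 0}
      add_mem' := fun {a b} ha hb => by show e * (a + b) = 0; rw [mul_add, ha, hb, add_zero]
      zero_mem' := mul_zero e
      smul_mem' := fun c w hw => by
        show e * (c * w) = 0
        rw [← mul_assoc, eK_comm, mul_assoc, show e * w = 0 from hw, mul_zero] }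
  haveI : I.IsTwoSided := ⟨fun b ha => by
    show e * (_ * b) = 0
    rw [← mul_assoc, show e * _ = 0 from ha, zero_mul]⟩
  let q : MonoidAlgebra k G →ₐ[k] MonoidAlgebra k G ⧸ I := Ideal.Quotient.mkₐ k I
  have hqs : Function.Surjective q := Ideal.Quotient.mk_surjective
  have hq : ∀ w, q w = 0 ↔ e * w = 0 := fun w => Ideal.Quotient.eq_zero_iff_mem
  haveI : FiniteDimensional k (MonoidAlgebra k G ⧸ I) :=
    Module.Finite.of_surjective q.toLinearMap hqs
  let τ0 : MonoidAlgebra k G →ₗ[k] k :=
    { toFun := fun w => (e * w).coeff 1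
      map_add' := fun a b => by simp [mul_add]
      map_smul' := fun c a => by simp }
  obtain ⟨σ, hσ⟩ := q.toLinearMap.exists_rightInverse_of_surjective (LinearMap.range_eq_top.2 hqs)
  let τ := τ0.comp σ
  have hτq : ∀ w, τ (q w) = (e * w).coeff 1 := by
    intro w
    have h1 : q (σ (q w) - w) = 0 := by
      have := LinearMap.congr_fun hσ (q w)
      rw [map_sub, sub_eq_zero]
      exact this
    have h2 := (hq _).1 h1
    rw [mul_sub, sub_eq_zero] at h2
    show (e * σ (q w)).coeff 1 = _
    rw [h2]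
  have hτ : IsTr τ := by
    intro a b
    obtain ⟨a, rfl⟩ := hqs a
    obtain ⟨b, rfl⟩ := hqs b
    have key : ∀ a b : MonoidAlgebra k G, (a * b).coeff 1 = (b * a).coeff 1 := fun a b => by
      rw [coeff_mul', coeff_mul']
      refine Fintype.sum_equiv (Equiv.inv G) _ _ fun x => ?_
      simp [mul_comm]
    rw [← map_mul, ← map_mul, hτq, hτq, ← mul_assoc, key, ← mul_assoc, ← eK_comm, mul_assoc]
  have hnd : ∀ a, (∀ b, τ (a * b) = 0) → a = 0 := by
    intro a ha
    obtain ⟨a, rfl⟩ := hqs a
    rw [hq]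
    ext x
    have := ha (q (MonoidAlgebra.single x⁻¹ 1))
    rw [← map_mul, hτq, ← mul_assoc, coeff_mul_single', one_mul, inv_inv] at this
    simpa using this
  have hnil : ∃ ν : MonoidAlgebra k G ⧸ I, IsNilpotent ν ∧ τ ν ≠ 0 := by
    refine ⟨q (MonoidAlgebra.single y⁻¹ 1 * (MonoidAlgebra.single u 1 - 1)), ?_, ?_⟩
    · refine IsNilpotent.map (Commute.isNilpotent_mul_left ?_ ⟨p ^ l, ?_⟩) q
      · refine Commute.sub_right ?_ (Commute.one_right _)
        show _ * _ = _ * _
        rw [MonoidAlgebra.single_mul_single, MonoidAlgebra.single_mul_single, hc.inv_right.eq.symm]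
      · haveI : CharP (MonoidAlgebra k G) p :=
          charP_of_injective_algebraMap (FaithfulSMul.algebraMap_injective k (MonoidAlgebra k G)) p
        rw [sub_pow_char_pow_of_commute p l (Commute.one_right _), one_pow, MonoidAlgebra.single_pow,
          ← hu, pow_orderOf_eq_one, one_pow, ← MonoidAlgebra.one_def, sub_self]
    · rw [hτq, mul_sub, mul_one, mul_sub, MonoidAlgebra.single_mul_single, one_mul,
        MonoidAlgebra.coeff_sub, Finsupp.sub_apply, coeff_mul_single', coeff_mul_single', one_mul,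
        one_mul, inv_inv, coeff_eK, coeff_eK, mul_inv_rev, inv_inv]
      have h0 : eR hM hB (u⁻¹ * y) = 0 := by
        refine Subtype.ext ?_
        refine blockCoeff_eq_zero_of_dvd hM hB ?_
        by_contra hreg
        have hyreg := BlockTheoryHeight.defectClass_regular hM hB hy
        have h1 : IsPPart p (u⁻¹ * y) u⁻¹ :=
          ⟨y, rfl, hc.inv_left, ⟨l, by rw [orderOf_inv, hu]⟩, hyreg⟩
        have h2 : IsPPart p (u⁻¹ * y) 1 :=
          ⟨u⁻¹ * y, one_mul _, Commute.one_left _, ⟨0, by simp⟩, hreg⟩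
        exact hu1 (inv_eq_one.1 (pPart_unique hM.1 h1 h2))
      rw [h0, map_zero, zero_sub, neg_ne_zero]
      exact fun h => hy.2.1 ((hπ _).1 h)
  have hinj : Function.Injective (localRing hM).subtype := Subtype.val_injective
  have htr : ∀ φ : Fin 3 → (MonoidAlgebra k G ⧸ I →ₗ[k] k), (∀ i, IsTr (φ i)) →
      ¬ LinearIndependent k φ := by
    intro φ hφ hli
    let f : Fin 3 → ConjClasses G → k := fun i C => φ i (q (MonoidAlgebra.single C.out 1))
    have hcl : ∀ i g, φ i (q (MonoidAlgebra.single (ConjClasses.mk g).out 1)) =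
        φ i (q (MonoidAlgebra.single g 1)) := by
      intro i g
      obtain ⟨c, hc'⟩ := isConj_iff.1 ((isConj_out (ConjClasses.mk g)).1 rfl)
      have hg : MonoidAlgebra.single g (1 : k) = MonoidAlgebra.single c 1 *
          MonoidAlgebra.single (ConjClasses.mk g).out 1 * MonoidAlgebra.single c⁻¹ 1 := by
        simp [MonoidAlgebra.single_mul_single, hc']
      conv_rhs => rw [hg, map_mul, hφ i, ← map_mul, ← mul_assoc, MonoidAlgebra.single_mul_single,
        inv_mul_cancel, one_mul, ← MonoidAlgebra.one_def, one_mul]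
    have hfix : ∀ i, f i ∈ LinearMap.range (Matrix.toLin' ((classMat hM hB).map π)) := by
      intro i
      refine ⟨f i, funext fun C => ?_⟩
      rw [Matrix.toLin'_apply, classMat_mulVec]
      have hx : q (MonoidAlgebra.single C.out 1) = q (e * MonoidAlgebra.single C.out 1) := by
        rw [← sub_eq_zero, ← map_sub, hq, mul_sub, ← mul_assoc, eK_sq, sub_self]
      show _ = φ i (q (MonoidAlgebra.single C.out 1))
      rw [hx, he, eK, Finset.sum_mul, map_sum, map_sum]
      refine Finset.sum_congr rfl fun h _ => ?_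
      show π (eR hM hB h) * φ i (q (MonoidAlgebra.single (ConjClasses.mk (h * C.out)).out 1)) = _
      rw [hcl, MonoidAlgebra.single_mul_single, mul_one,
        show MonoidAlgebra.single (h * C.out) (π (eR hM hB h)) =
          π (eR hM hB h) • MonoidAlgebra.single (h * C.out) (1 : k) by
          rw [MonoidAlgebra.smul_single', mul_one], map_smul, map_smul, smul_eq_mul]
    have hrank : Module.finrank k (LinearMap.range (Matrix.toLin' ((classMat hM hB).map π))) ≤ 2 := by
      rw [rank_map_eq _ hinj π _ (classMat_sq hM hB)]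
      exact (classMat_rank_le hM hB).trans hk
    have hf : LinearIndependent k
        (fun i => (⟨f i, hfix i⟩ : LinearMap.range (Matrix.toLin' ((classMat hM hB).map π)))) := by
      refine Fintype.linearIndependent_iff.2 fun g hg i => ?_
      refine Fintype.linearIndependent_iff.1 hli g ?_ i
      have hg' : ∀ C, ∑ i, g i * f i C = 0 := fun C => by
        have := congrArg (fun w : LinearMap.range (Matrix.toLin' ((classMat hM hB).map π)) =>
          (w : ConjClasses G → k) C) hg
        simpa [Finset.sum_apply] using this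
      refine LinearMap.ext fun a => ?_
      obtain ⟨a, rfl⟩ := hqs a
      induction a using MonoidAlgebra.induction_linear with
      | zero => simp
      | add a b ha hb => simp only [map_add, ha, hb]
      | single x r =>
        have h := hg' (ConjClasses.mk x)
        simp only [f, hcl] at h
        rw [show MonoidAlgebra.single x r = r • MonoidAlgebra.single x (1 : k) by
          rw [MonoidAlgebra.smul_single', mul_one], map_smul, map_smul, LinearMap.sum_apply]
        simp only [LinearMap.smul_apply, smul_eq_mul, h, mul_zero, LinearMap.zero_apply]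
    have := hf.fintype_card_le_finrank
    simp at this
    omega
  obtain ⟨n, hn⟩ := finrank_eq_two_mul_sq τ hτ hnd hnil htr
  refine ⟨n, ?_⟩
  -- the dimension is the rank of left multiplication by the idempotent
  let L : MonoidAlgebra k G ≃ₗ[k] (G → k) :=
    (MonoidAlgebra.coeffLinearEquiv k).trans (Finsupp.linearEquivFunOnFinite k k G)
  let T : MonoidAlgebra k G →ₗ[k] MonoidAlgebra k G := LinearMap.mulLeft k e
  have hL : Matrix.toLin' ((leftMat hM hB).map π) = L.conj T := by
    refine LinearMap.ext fun v => funext fun x => ?_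
    have hv : ∀ y, (L.symm v).coeff y = v y := fun y => congrFun (L.apply_symm_apply v) y
    rw [Matrix.toLin'_apply, LinearEquiv.conj_apply]
    show _ = (e * L.symm v).coeff x
    rw [coeff_mul']
    simp only [Matrix.mulVec, dotProduct, Matrix.map_apply, leftMat, Matrix.of_apply, hv, he, coeff_eK]
    refine Fintype.sum_equiv ((Equiv.inv G).trans (Equiv.mulLeft x)) _ _ fun y => ?_
    simp only [Equiv.trans_apply, Equiv.inv_apply, Equiv.coe_mulLeft]
    congr 2
    group
  have hfr : Module.finrank k (LinearMap.range (Matrix.toLin' ((leftMat hM hB).map π))) = 2 * n ^ 2 := by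
    have h1 := LinearMap.finrank_range_add_finrank_ker T
    have h2 := LinearMap.finrank_range_add_finrank_ker q.toLinearMap
    have h3 : LinearMap.ker T = LinearMap.ker q.toLinearMap := by
      ext w
      simp only [LinearMap.mem_ker, T, LinearMap.mulLeft_apply, AlgHom.toLinearMap_apply, hq]
    rw [LinearMap.range_eq_top.2 hqs, finrank_top, ← h3, hn] at h2
    rw [hL, LinearEquiv.conj_apply, LinearMap.range_comp_of_range_eq_top _
      (LinearEquiv.range L.symm), LinearMap.range_comp, LinearEquiv.finrank_map_eq]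
    omega
  rw [rank_map_eq _ hinj π _ (leftMat_sq hM hB)] at hfr
  have htrc := rank_eq_trace _ (by rw [← Matrix.map_mul, leftMat_sq hM hB] :
    (leftMat hM hB).map (localRing hM).subtype * (leftMat hM hB).map (localRing hM).subtype =
      (leftMat hM hB).map (localRing hM).subtype)
  rw [hfr, leftMat_trace] at htrc
  exact_mod_cast htrc.symm

end Block

section Main

variable {G : Type u} [Group G] [Fintype G]

/-- The degrees of the two characters of a block, and its contribution numbers. -/
theorem two_members (hM : IsPModular p M) {B : Set (IrrCharacter G)} (hB : IsPBlock M B)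
    (h2 : Nat.card B = 2) :
    ∃ (A D : ℤ) (n₁ n₂ : ℕ), ¬ (p : ℤ) ∣ A ∧ 0 < A ∧ 0 < n₁ ∧ A + D = (p : ℤ) ^ blockDefect p B ∧
      IsSquare (A * D) ∧ D * (n₁ : ℤ) ^ 2 = A * (n₂ : ℤ) ^ 2 ∧
      ∑ χ ∈ BlockContribBounds.members B, charDegree (χ : G → ℂ) ^ 2 = n₁ ^ 2 + n₂ ^ 2 := by
  obtain ⟨χ, hχ, h0⟩ := exists_height_zero hM hB
  have hm : χ ∈ BlockContribBounds.members B := BlockContribBounds.mem_members.2 hχ
  obtain ⟨ψ, hψe⟩ : ∃ ψ, (BlockContribBounds.members B).erase χ = {ψ} := Finset.card_eq_one.1 (by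
    rw [Finset.card_erase_of_mem hm, ← BlockContribBounds.card_members, h2])
  have hψm : ψ ∈ (BlockContribBounds.members B).erase χ := hψe ▸ Finset.mem_singleton_self ψ
  have hψ : ψ ∈ B := BlockContribBounds.mem_members.1 (Finset.mem_of_mem_erase hψm)
  have hmem : BlockContribBounds.members B = {χ, ψ} := by
    rw [← Finset.insert_erase hm, hψe]
  have hne : χ ≠ ψ := (Finset.ne_of_mem_erase hψm).symm
  have hfilt : Finset.univ.filter (· ∈ B) = {χ, ψ} := by
    rw [BlockContribBounds.filter_eq_members, hmem]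
  have e1 := sum_contrib_sq hM hB hχ
  have e2 := sum_contrib_mul hM hB hχ hψ
  rw [hfilt, Finset.sum_pair hne] at e1 e2
  set A := contrib p B χ χ with hA
  set D := contrib p B ψ ψ with hD
  set m := contrib p B χ ψ with hmdef
  have hm0 : m ≠ 0 := contrib_ne_zero hM hB hχ h0 hψ
  have hsum : A + D = (p : ℤ) ^ blockDefect p B := by
    refine mul_left_cancel₀ hm0 ?_
    linear_combination e2
  have hA0 : 0 < A := contrib_self_pos hM.1 hχ
  have hmm : m * m = A * D := by linear_combination e1 - A * hsum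
  have hAp : ¬ (p : ℤ) ∣ A := by
    have h := contrib_not_dvd hM hB hχ h0 hχ
    rwa [h0, zero_add, pow_one] at h
  set c := (cofactor p G : ℂ) * (p : ℂ) ^ minExp p B with hc
  have p11 : pair p (χ : G → ℂ) χ = c * A := pair_eq_contrib hM.1 χ hχ
  have p22 : pair p (ψ : G → ℂ) ψ = c * D := pair_eq_contrib hM.1 ψ hψ
  have p12 : pair p (χ : G → ℂ) ψ = c * m := pair_eq_contrib hM.1 χ hψ
  have p21 : pair p (ψ : G → ℂ) χ = c * m := by rw [pair_comm, p12]
  let δ : G → ℂ := fun g => (D : ℂ) * (χ : G → ℂ) g - (m : ℂ) * (ψ : G → ℂ) g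
  have hzero : pair p δ δ = 0 := by
    have e : pair p δ δ = (D : ℂ) * D * pair p (χ : G → ℂ) χ - (D : ℂ) * m * pair p (χ : G → ℂ) ψ -
        (m : ℂ) * D * pair p (ψ : G → ℂ) χ + (m : ℂ) * m * pair p (ψ : G → ℂ) ψ := by
      simp only [pair, regSum_eq, Finset.mul_sum, ← Finset.sum_sub_distrib, ← Finset.sum_add_distrib, δ]
      refine Finset.sum_congr rfl fun y _ => ?_
      split_ifs
      · simp
      · simp only [map_sub, map_mul, map_intCast]; ring
    have hmmC : (m : ℂ) * m = A * D := by exact_mod_cast hmm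
    rw [e, p11, p22, p12, p21]
    linear_combination (-c * (D : ℂ)) * hmmC
  have h1 : δ 1 = 0 := by
    have hre := congrArg Complex.re hzero
    simp only [pair, regSum_eq, Complex.re_sum, Complex.zero_re] at hre
    have := (Finset.sum_eq_zero_iff_of_nonneg fun t _ => ?_).1 hre 1 (Finset.mem_univ _)
    · rw [if_pos (by simp [hM.1.ne_one]), ← Complex.normSq_eq_conj_mul_self, Complex.ofReal_re,
        Complex.normSq_eq_zero] at this
      exact this
    · split_ifs
      · simp
      · rw [← Complex.normSq_eq_conj_mul_self, Complex.ofReal_re]; exact Complex.normSq_nonneg _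
  have hdeg : D * (charDegree (χ : G → ℂ) : ℤ) = m * (charDegree (ψ : G → ℂ) : ℤ) := by
    have h : (D : ℂ) * (charDegree (χ : G → ℂ) : ℂ) = (m : ℂ) * (charDegree (ψ : G → ℂ) : ℂ) := by
      rw [← ClassAlgebraVal.apply_one_eq_charDegree, ← ClassAlgebraVal.apply_one_eq_charDegree]
      exact sub_eq_zero.1 h1
    exact_mod_cast h
  have hD0 : D ≠ 0 := by
    intro h
    rw [h, mul_zero] at hmm
    exact hm0 (mul_self_eq_zero.1 hmm)
  refine ⟨A, D, charDegree (χ : G → ℂ), charDegree (ψ : G → ℂ), hAp, hA0,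
    ClassAlgebraVal.charDegree_pos χ, hsum, ⟨m, hmm.symm⟩, ?_, ?_⟩
  · refine mul_left_cancel₀ hD0 ?_
    linear_combination (D * (charDegree (χ : G → ℂ) : ℤ) + m * (charDegree (ψ : G → ℂ) : ℤ)) * hdeg +
      (charDegree (ψ : G → ℂ) : ℤ) ^ 2 * hmm
  · rw [hmem, Finset.sum_pair hne]

/-- The arithmetic at the end of Brandt's theorem. -/
theorem arith (hp : p.Prime) {d n n₁ n₂ : ℕ} {A D : ℤ} (hd : 0 < d) (hA : ¬ (p : ℤ) ∣ A)
    (hA0 : 0 < A) (hn₁ : 0 < n₁) (hsum : A + D = (p : ℤ) ^ d) (hsq : IsSquare (A * D))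
    (hdeg : D * (n₁ : ℤ) ^ 2 = A * (n₂ : ℤ) ^ 2) (hn : n₁ ^ 2 + n₂ ^ 2 = 2 * n ^ 2) :
    p ^ d = 2 := by
  have hD0 : 0 ≤ D := by
    by_contra h
    have h1 : D * (n₁ : ℤ) ^ 2 < 0 := mul_neg_of_neg_of_pos (not_le.1 h) (by positivity)
    have h2 : 0 ≤ A * (n₂ : ℤ) ^ 2 := mul_nonneg hA0.le (sq_nonneg _)
    omega
  have hgcd : Int.gcd A D = 1 := by
    by_contra h
    obtain ⟨r, hr, hrd⟩ := Nat.exists_prime_and_dvd h
    have hrA : (r : ℤ) ∣ A := (Int.natCast_dvd_natCast.2 hrd).trans (Int.gcd_dvd_left _ _)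
    have hrD : (r : ℤ) ∣ D := (Int.natCast_dvd_natCast.2 hrd).trans (Int.gcd_dvd_right _ _)
    have h1 : r ∣ p ^ d := Int.natCast_dvd_natCast.1 (by
      push_cast; rw [← hsum]; exact dvd_add hrA hrD)
    obtain rfl := (Nat.prime_dvd_prime_iff_eq hr hp).1 (hr.dvd_of_dvd_pow h1)
    exact hA hrA
  obtain ⟨m, hm⟩ := hsq
  obtain ⟨a, ha⟩ := Int.sq_of_gcd_eq_one hgcd (c := m) (by rw [hm, sq])
  obtain ⟨b, hb⟩ := Int.sq_of_gcd_eq_one (a := D) (b := A) (c := m) (by rwa [Int.gcd_comm])
    (by rw [mul_comm, hm, sq])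
  replace ha : A = a ^ 2 := ha.resolve_right fun h => by nlinarith [sq_nonneg a]
  have hb' : D = b ^ 2 ∨ D = -b ^ 2 := hb
  replace hb : D = b ^ 2 := hb'.elim id fun h => by
    have : b ^ 2 = 0 := le_antisymm (by linarith) (sq_nonneg b)
    rw [h, this, neg_zero]
  have key : (p : ℤ) ^ d * (n₁ : ℤ) ^ 2 = 2 * (n : ℤ) ^ 2 * A := by
    have hn' : (n₁ : ℤ) ^ 2 + (n₂ : ℤ) ^ 2 = 2 * (n : ℤ) ^ 2 := by exact_mod_cast hn
    rw [← hsum]
    linear_combination hdeg + A * hn'
  have hp2 : p = 2 := by
    by_contra hne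
    have hn0 : n ≠ 0 := by
      intro h
      rw [h] at hn
      have : n₁ ^ 2 = 0 := by omega
      exact hn₁.ne' (pow_eq_zero_iff (two_ne_zero) |>.1 this)
    have ha0 : a.natAbs ≠ 0 := by
      intro h
      rw [Int.natAbs_eq_zero.1 h] at ha
      simp [ha] at hA0
    have key' : p ^ d * n₁ ^ 2 = 2 * n ^ 2 * a.natAbs ^ 2 := by
      have : ((p ^ d * n₁ ^ 2 : ℕ) : ℤ) = ((2 * n ^ 2 * a.natAbs ^ 2 : ℕ) : ℤ) := by
        push_cast
        rw [key, ha, sq_abs]
      exact_mod_cast this
    have h := congrArg (fun t : ℕ => t.factorization 2) key'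
    simp only [Nat.factorization_mul (pow_ne_zero d hp.ne_zero) (pow_ne_zero 2 hn₁.ne'),
      Nat.factorization_mul (mul_ne_zero two_ne_zero (pow_ne_zero 2 hn0)) (pow_ne_zero 2 ha0),
      Nat.factorization_mul two_ne_zero (pow_ne_zero 2 hn0), Nat.factorization_pow,
      hp.factorization, Nat.prime_two.factorization, Finsupp.coe_add, Pi.add_apply, Finsupp.coe_smul,
      Pi.smul_apply, smul_eq_mul, Finsupp.single_eq_same, Finsupp.single_eq_of_ne (Ne.symm hne)] at h
    omega
  subst hp2
  have ha2 : ¬ (2 : ℤ) ∣ a := fun h => hA (by rw [ha]; exact dvd_pow (by exact_mod_cast h) two_ne_zero)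
  obtain ⟨d', rfl⟩ : ∃ d', d = d' + 1 := ⟨d - 1, by omega⟩
  rcases Nat.eq_zero_or_pos d' with rfl | hd'
  · rfl
  exfalso
  obtain ⟨d'', rfl⟩ : ∃ d'', d' = d'' + 1 := ⟨d' - 1, by omega⟩
  have h4 : (4 : ℤ) ∣ a ^ 2 + b ^ 2 := ⟨2 ^ d'', by rw [← ha, ← hb, hsum]; push_cast; ring⟩
  obtain ⟨i, rfl⟩ : ∃ i, a = 2 * i + 1 := ⟨a / 2, by omega⟩
  rcases Int.even_or_odd' b with ⟨j, rfl | rfl⟩ <;> ring_nf at h4 <;> omega

/-- A block with exactly two characters has a defect group of order two. -/
theorem defect_pow_eq_two (hM : IsPModular p M) {B : Set (IrrCharacter G)} (hB : IsPBlock M B)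
    (h2 : Nat.card B = 2) {P : Subgroup G} (hP : IsDefectGroup p M B P) :
    p ^ blockDefect p B = 2 := by
  haveI : Fact p.Prime := ⟨hM.1⟩
  have hd : 0 < blockDefect p B := by
    by_contra h
    have := BlockContribBounds.eq_singleton_of_defect_zero hM hB (by omega)
    omega
  have hcard := BlockContribBounds.card_defectGroup hM hB hP
  have hPp := isPGroup_of_isDefectGroup hP
  obtain ⟨y, hy, S, hS⟩ := hP
  have hne : P ≠ ⊥ := by
    intro h
    rw [h, Subgroup.card_bot] at hcard
    exact (Nat.one_lt_pow hd.ne' hM.1.one_lt).ne hcard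
  obtain ⟨u, huP, hu1⟩ : ∃ u ∈ P, u ≠ 1 := by
    by_contra h
    push Not at h
    exact hne ((Subgroup.eq_bot_iff_forall P).2 h)
  have hc : Commute u y := Subgroup.mem_centralizer_singleton_iff.1
    (Subgroup.map_subtype_le _ (hS ▸ huP))
  obtain ⟨l, hl⟩ := IsPGroup.iff_orderOf.1 hPp ⟨u, huP⟩
  rw [Subgroup.orderOf_mk] at hl
  haveI : M.IsMaximal := hM.2.1
  letI := Ideal.Quotient.field M
  haveI := isAlgClosed_residue hM
  haveI : CharP (AlgInt ⧸ M) p := by
    refine (CharP.charP_iff_prime_eq_zero hM.1).2 ?_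
    rw [← map_natCast (Ideal.Quotient.mk M)]
    exact Ideal.Quotient.eq_zero_iff_mem.2 hM.2.2
  obtain ⟨π, hπ⟩ := exists_reduction hM
  obtain ⟨n, hn⟩ := sum_sq_eq hM hB π hπ h2.le hy hu1 hl hc
  obtain ⟨A, D, n₁, n₂, hA, hA0, hn₁, hsum, hsq, hdeg, hs⟩ := two_members hM hB h2
  exact arith hM.1 hd hA hA0 hn₁ hsum hsq hdeg (hs.symm.trans hn)

end Main

end Cfsg.Agent.BrandtBlock42
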