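import Cfsg.Agent.Lib.BlockTheoryNormal

/-!
# Blocks covering blocks of a normal subgroup
-/

set_option autoImplicit false

namespace Cfsg.Agent.BrauerBlocksCovering

open Cfsg Cfsg.Agent.BlockTheoryLocalRing Cfsg.Agent.BlockTheoryCentre
open Cfsg.Agent.BlockTheoryIdem Cfsg.Agent.BlockTheoryBrauer Cfsg.Agent.BlockTheoryNormal
open Cfsg.Agent.CharInduced
open scoped ComplexConjugate

attribute [local instance] Classical.propDecidable

variable {p : ℕ} {M : Ideal AlgInt}

section General

variable {G : Type*} [Group G]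

theorem centralChar_comp_equiv [Fintype G] {θ : G → ℂ} (σ : G ≃* G) (g : G) :
    centralChar (θ ∘ σ) g = centralChar θ (σ g) := by
  have h : Nat.card {x : G // IsConj g x} = Nat.card {x : G // IsConj (σ g) x} :=
    Nat.card_congr (σ.toEquiv.subtypeEquiv fun x => ⟨fun h => σ.toMonoidHom.map_isConj h,
      fun h => by simpa using σ.symm.toMonoidHom.map_isConj h⟩)
  simp only [centralChar, index_centralizer_eq, h, Function.comp_apply, map_one]

/-- A union of blocks has an integral idempotent. -/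
theorem isInt_idem_of_closed [Fintype G] (hM : IsPModular p M) {S : Set (IrrCharacter G)}
    (hS : ∀ χ ∈ S, ∀ ψ : IrrCharacter G, SameBlock M (χ : G → ℂ) (ψ : G → ℂ) → ψ ∈ S) :
    IsInt M (idem S) := by
  set T := S.toFinset.image fun χ : IrrCharacter G => blockOf M (χ : G → ℂ) with hT
  have hblock : ∀ B ∈ T, IsPBlock M B := fun B hB => by
    obtain ⟨χ, -, rfl⟩ := Finset.mem_image.1 hB
    exact isPBlock_blockOf χ
  have hcen : ∀ U : Finset (Set (IrrCharacter G)), IsCen (∑ B ∈ U, idem B) := by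
    intro U
    induction U using Finset.induction with
    | empty => rw [Finset.sum_empty]; exact isCen_zero
    | @insert B U hBU ih => rw [Finset.sum_insert hBU]; exact (isCen_idem B).add ih
  have key : idem S = ∑ B ∈ T, idem B := by
    refine ext_omega (isCen_idem S) (hcen T) fun χ => ?_
    rw [map_sum, omega_idem]
    simp only [omega_idem]
    by_cases hχ : χ ∈ S
    · rw [if_pos hχ, Finset.sum_eq_single (blockOf M (χ : G → ℂ)), if_pos (self_mem_blockOf hM χ)]
      · intro B hB hne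
        exact if_neg fun h => hne (eq_blockOf_of_mem hM (hblock B hB) h)
      · intro h
        exact absurd (Finset.mem_image.2 ⟨χ, Set.mem_toFinset.2 hχ, rfl⟩) h
    · rw [if_neg hχ, Finset.sum_eq_zero]
      intro B hB
      obtain ⟨ψ, hψ, rfl⟩ := Finset.mem_image.1 hB
      exact if_neg fun h => hχ (hS ψ (Set.mem_toFinset.1 hψ) χ h)
  rw [key]
  exact Finset.sum_induction _ _ (fun a b ha hb => IsInt.add hM ha hb) (isInt_zero hM)
    fun B hB => isInt_idem hM (hblock B hB)

theorem exists_constituent [Fintype G] {f : G → ℂ} (hf : IsCharacter G f) (h1 : f 1 ≠ 0) :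
    ∃ θ : IrrCharacter G, classInner f (θ : G → ℂ) ≠ 0 := by
  by_contra! hall
  have := congrFun (CharBasicOrth.eq_sum_classInner
    (CharBasic.isClassFunction_of_isCharacter hf)) 1
  simp [hall] at this
  exact h1 this

end General

section Covering

variable {G : Type*} [Group G] [Fintype G] (N : Subgroup G) [hN : N.Normal] [Fintype N]

/-- The conjugate of an irreducible character of a normal subgroup. -/
noncomputable def conjIrr (θ : IrrCharacter N) (g : G) : IrrCharacter N :=
  ⟨conjFun N (θ : N → ℂ) g, isIrrCharacter_conjFun N θ.2 g⟩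

theorem conjIrr_conjIrr (θ : IrrCharacter N) (a b : G) :
    conjIrr N (conjIrr N θ a) b = conjIrr N θ (a * b) :=
  Subtype.ext (conjFun_conjFun N _ a b)

theorem conjIrr_one (θ : IrrCharacter N) : conjIrr N θ 1 = θ := Subtype.ext (conjFun_one N _)

omit [Fintype N] in
theorem centralChar_conjFun (θ : N → ℂ) (g : G) (n : N) :
    centralChar (conjFun N θ g) n = centralChar θ (MulAut.conjNormal g n) := by
  have : Fintype N := Fintype.ofFinite N
  rw [conjFun_eq_comp]
  exact centralChar_comp_equiv (MulAut.conjNormal g) n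

theorem sameBlock_conjIrr {θ φ : IrrCharacter N} (h : SameBlock M (θ : N → ℂ) (φ : N → ℂ)) (g : G) :
    SameBlock M (conjIrr N θ g : N → ℂ) (conjIrr N φ g : N → ℂ) := fun n => by
  show MemLocalIdeal M (centralChar (conjFun N (θ : N → ℂ) g) n -
    centralChar (conjFun N (φ : N → ℂ) g) n)
  rw [centralChar_conjFun, centralChar_conjFun]
  exact h _

/-- The characters of `N` with a conjugate in `b`. -/
def orb (b : Set (IrrCharacter N)) : Set (IrrCharacter N) := {ξ | ∃ g : G, conjIrr N ξ g ∈ b}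

theorem mem_orb_of_mem {b : Set (IrrCharacter N)} {ξ : IrrCharacter N} (h : ξ ∈ b) :
    ξ ∈ orb N b := ⟨1, by rwa [conjIrr_one]⟩

theorem conjIrr_mem_orb_iff {b : Set (IrrCharacter N)} {ξ : IrrCharacter N} (a : G) :
    conjIrr N ξ a ∈ orb N b ↔ ξ ∈ orb N b :=
  ⟨fun ⟨g, h⟩ => ⟨a * g, by rwa [← conjIrr_conjIrr]⟩,
    fun ⟨g, h⟩ => ⟨a⁻¹ * g, by rwa [conjIrr_conjIrr, mul_inv_cancel_left]⟩⟩

theorem orb_closed (hM : IsPModular p M) {b : Set (IrrCharacter N)} (hb : IsPBlock M b) :
    ∀ χ ∈ orb N b, ∀ ψ : IrrCharacter N, SameBlock M (χ : N → ℂ) (ψ : N → ℂ) → ψ ∈ orb N b :=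
  fun _ ⟨g, hg⟩ _ h => ⟨g, mem_of_sameBlock hM hb hg (sameBlock_conjIrr N h g)⟩

/-- The idempotent of a conjugation invariant set, viewed in the group. -/
noncomputable def liftIdem (S : Set (IrrCharacter N)) : MonoidAlgebra ℂ G :=
  ofFun fun x => if h : x ∈ N then blockCoeff S ⟨x, h⟩ else 0

theorem liftIdem_supp (S : Set (IrrCharacter N)) : ∀ x ∉ N, (liftIdem N S).coeff x = 0 :=
  fun x hx => by simp [liftIdem, hx]

theorem res_liftIdem (S : Set (IrrCharacter N)) : res N (liftIdem N S) = idem S := by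
  refine MonoidAlgebra.ext ?_
  ext n
  rw [coeff_res, coeff_idem, liftIdem, coeff_ofFun, dif_pos n.2]

theorem isCen_liftIdem {S : Set (IrrCharacter N)} (hS : ∀ ξ a, conjIrr N ξ a ∈ S ↔ ξ ∈ S) :
    IsCen (liftIdem N S) := by
  intro x g
  simp only [liftIdem, coeff_ofFun]
  by_cases hx : x ∈ N
  · rw [dif_pos hx, dif_pos (hN.conj_mem x hx g), blockCoeff_eq_sum, blockCoeff_eq_sum]
    congr 1
    refine Fintype.sum_bijective (fun ξ => conjIrr N ξ g)
      (Function.bijective_iff_has_inverse.2 ⟨fun ξ => conjIrr N ξ g⁻¹,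
        fun ξ => by simp [conjIrr_conjIrr, conjIrr_one],
        fun ξ => by simp [conjIrr_conjIrr, conjIrr_one]⟩) _ _ fun ξ => ?_
    by_cases h : ξ ∈ S
    · rw [if_pos h, if_pos ((hS ξ g).2 h)]
      simp [conjIrr, conjFun]
      exact Or.inl rfl
    · rw [if_neg h, if_neg fun h' => h ((hS ξ g).1 h')]
  · rw [dif_neg hx, dif_neg fun h => hx ?_]
    simpa [mul_assoc] using hN.conj_mem _ h g⁻¹

theorem isInt_liftIdem (hM : IsPModular p M) {S : Set (IrrCharacter N)} (hS : IsInt M (idem S)) :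
    IsInt M (liftIdem N S) := fun x => by
  by_cases hx : x ∈ N
  · simp only [liftIdem, coeff_ofFun, dif_pos hx]
    exact hS ⟨x, hx⟩
  · rw [liftIdem_supp N S x hx]
    exact (localRing hM).zero_mem

theorem omega_lift (χ : IrrCharacter G) {θ : IrrCharacter N}
    (h : classInner (fun n : N => (χ : G → ℂ) n) (θ : N → ℂ) ≠ 0) (b : Set (IrrCharacter N)) :
    omega (χ : G → ℂ) (liftIdem N (orb N b)) = if θ ∈ orb N b then 1 else 0 := by
  rw [omega_eq_omega_res N χ θ h (isCen_liftIdem N fun ξ a => conjIrr_mem_orb_iff N a)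
    (liftIdem_supp N _), res_liftIdem, omega_idem]

/-- Constituents of characters in one block come from conjugate blocks. -/
theorem mem_orb_of_sameBlock (hM : IsPModular p M) {b : Set (IrrCharacter N)} (hb : IsPBlock M b)
    {χ χ' : IrrCharacter G} (h : SameBlock M (χ : G → ℂ) (χ' : G → ℂ)) {θ ψ : IrrCharacter N}
    (hθ : θ ∈ b) (hcon : classInner (fun n : N => (χ : G → ℂ) n) (θ : N → ℂ) ≠ 0)
    (hψ : classInner (fun n : N => (χ' : G → ℂ) n) (ψ : N → ℂ) ≠ 0) : ψ ∈ orb N b := by
  by_contra hn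
  have h1 := omega_sub_mem hM h (isCen_liftIdem N fun ξ a => conjIrr_mem_orb_iff N a)
    (isInt_liftIdem N hM (isInt_idem_of_closed hM (orb_closed N hM hb)))
  rw [omega_lift N χ hcon, omega_lift N χ' hψ, if_pos (mem_orb_of_mem N hθ), if_neg hn,
    sub_zero] at h1
  exact one_not_ideal hM h1

/-- Some conjugate in `b` is a constituent as well. -/
theorem exists_constituent_mem {b : Set (IrrCharacter N)} {χ : IrrCharacter G}
    {ψ : IrrCharacter N} (hψ : classInner (fun n : N => (χ : G → ℂ) n) (ψ : N → ℂ) ≠ 0)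
    (h : ψ ∈ orb N b) :
    ∃ θ ∈ b, classInner (fun n : N => (χ : G → ℂ) n) (θ : N → ℂ) ≠ 0 := by
  obtain ⟨g, hg⟩ := h
  refine ⟨_, hg, ?_⟩
  show classInner _ (conjFun N (ψ : N → ℂ) g) ≠ 0
  rwa [classInner_res_conjFun N (irr_classFun χ)]

omit [Fintype N] in
theorem classSum_supp {g : G} (hg : g ∈ N) : ∀ x ∉ N, (classSum g).coeff x = 0 := by
  intro x hx
  simp only [classSum, coeff_ofFun]
  rw [if_neg]
  intro hc
  obtain ⟨c, rfl⟩ := isConj_iff.mp hc
  exact hx (hN.conj_mem _ hg c)

/-- The central character on `N` is the induced one of any constituent. -/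
theorem centralChar_eq_induced (χ : IrrCharacter G) {θ : IrrCharacter N}
    (h : classInner (fun n : N => (χ : G → ℂ) n) (θ : N → ℂ) ≠ 0) {g : G} (hg : g ∈ N) :
    centralChar (χ : G → ℂ) g = inducedCentralChar N (θ : N → ℂ) g := by
  rw [← omega_classSum (irr_classFun χ), omega_eq_omega_res N χ θ h (isCen_classSum g)
    (classSum_supp N hg), omega_res_classSum]

end Covering

end Cfsg.Agent.BrauerBlocksCovering
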