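import Mathlib
import Cfsg.Prelude.Def_Blocks
import Cfsg.Agent.Lib.BrauerBlocksOrth
import Cfsg.Agent.Lib.CharBasicDecomp

/-!
# Regular pairings, height zero characters, and induced blocks on central elements
-/

set_option autoImplicit false

open scoped ComplexConjugate

namespace Cfsg.Agent.BrauerBlocksHeight

open Cfsg.Agent.BrauerBlocksVal Cfsg.Agent.CharBasic Cfsg.Agent.CharBasicOrth
  Cfsg.Agent.BrauerBlocksCentral Cfsg.Agent.BrauerBlocksBasic Cfsg.Agent.BrauerBlocksPPart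
  Cfsg.Agent.BrauerBlocksOrth

/-! ### Degrees -/

section Degree

variable {G : Type*} [Group G]

theorem apply_one_eq_charDegree {χ : G → ℂ} (hχ : Cfsg.IsIrrCharacter G χ) :
    χ 1 = (charDegree χ : ℂ) ∧ 0 < charDegree χ := by
  obtain ⟨n, hn, h1⟩ := isIrrCharacter_apply_one hχ
  have : charDegree χ = n := by simp [charDegree, h1]
  rw [this]; exact ⟨h1, hn⟩

/-- The exponent of `p` in the degree. -/
noncomputable def degExp (p : ℕ) (χ : G → ℂ) : ℕ := (charDegree χ).factorization p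

theorem blockHeight_eq_zero_iff {p : ℕ} {B : Set (IrrCharacter G)} {χ : IrrCharacter G}
    (hχ : χ ∈ B) : blockHeight p B (χ : G → ℂ) = 0 ↔
      ∀ ψ ∈ B, degExp p (χ : G → ℂ) ≤ degExp p (ψ : G → ℂ) := by
  rw [blockHeight, Nat.sub_eq_zero_iff_le]
  constructor
  · intro h ψ hψ
    exact h.trans (Nat.sInf_le ⟨ψ, hψ, rfl⟩)
  · intro h
    exact le_csInf ⟨_, ⟨χ, hχ, rfl⟩⟩ fun x ⟨ψ, hψ, hx⟩ => hx ▸ h ψ hψ

theorem exists_height_zero {p : ℕ} {B : Set (IrrCharacter G)} (hB : B.Nonempty) :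
    ∃ χ ∈ B, blockHeight p B (χ : G → ℂ) = 0 := by
  obtain ⟨χ, hχ, hx⟩ := Nat.sInf_mem (hB.image fun χ : IrrCharacter G => degExp p (χ : G → ℂ))
  refine ⟨χ, hχ, (blockHeight_eq_zero_iff hχ).2 fun ψ hψ => ?_⟩
  have hx' : degExp p (χ : G → ℂ) = _ := hx
  rw [hx']
  exact Nat.sInf_le ⟨ψ, hψ, rfl⟩

variable {p : ℕ} {M : Ideal AlgInt}

theorem natRatio (hM : IsPModular p M) {m n : ℕ} (hm : m ≠ 0) (hn : n ≠ 0)
    (h : m.factorization p ≤ n.factorization p) :
    Int' M ((n : ℂ) / (m : ℂ)) ∧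
      (Sm M ((n : ℂ) / (m : ℂ)) ↔ m.factorization p < n.factorization p) := by
  have hm' : ¬ p ∣ m / p ^ m.factorization p := Nat.not_dvd_ordCompl hM.1 hm
  have hn' : ¬ p ∣ n / p ^ n.factorization p := Nat.not_dvd_ordCompl hM.1 hn
  set a := m / p ^ m.factorization p with ha
  set b := n / p ^ n.factorization p with hb
  have hme : (m : ℂ) = (p : ℂ) ^ m.factorization p * (a : ℂ) := by
    exact_mod_cast (Nat.ordProj_mul_ordCompl_eq_self m p).symm
  have hne : (n : ℂ) = (p : ℂ) ^ n.factorization p * (b : ℂ) := by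
    exact_mod_cast (Nat.ordProj_mul_ordCompl_eq_self n p).symm
  obtain ⟨k, hk⟩ := Nat.exists_eq_add_of_le h
  have hp : (p : ℂ) ≠ 0 := Nat.cast_ne_zero.2 hM.1.ne_zero
  have ha0 : (a : ℂ) ≠ 0 := ne_zero_of_not_sm (not_sm_natCast_of_coprime hM hm')
  have heq : (n : ℂ) / (m : ℂ) = (p : ℂ) ^ k * ((b : ℂ) * (a : ℂ)⁻¹) := by
    rw [hne, hme, hk, pow_add]
    field_simp
  have hI : Int' M ((b : ℂ) * (a : ℂ)⁻¹) := (int'_natCast b).mul (int'_inv_natCast hM hm')
  have hU : ¬ Sm M ((b : ℂ) * (a : ℂ)⁻¹) := fun hs => by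
    have := hs.mul_right (int'_natCast (M := M) a)
    rw [mul_assoc, inv_mul_cancel₀ ha0, mul_one] at this
    exact not_sm_natCast_of_coprime hM hn' this
  rw [heq]
  refine ⟨((int'_natCast p).pow k).mul hI, ?_⟩
  rw [hk]
  rcases Nat.eq_zero_or_pos k with rfl | hk0
  · simpa using hU
  · exact iff_of_true (((sm_p hM).pow hk0.ne').mul_right hI) (by omega)

theorem degRatio (hM : IsPModular p M) {H : Type*} [Group H] {χ : G → ℂ} {ψ : H → ℂ}
    (hχ : Cfsg.IsIrrCharacter G χ) (hψ : Cfsg.IsIrrCharacter H ψ)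
    (h : degExp p χ ≤ degExp p ψ) :
    Int' M (ψ 1 / χ 1) ∧ (Sm M (ψ 1 / χ 1) ↔ degExp p χ < degExp p ψ) := by
  rw [(apply_one_eq_charDegree hχ).1, (apply_one_eq_charDegree hψ).1]
  exact natRatio hM (apply_one_eq_charDegree hχ).2.ne' (apply_one_eq_charDegree hψ).2.ne' h

end Degree

/-! ### Sums over the fixed points of a commuting `p`-subgroup -/

theorem isIntegral_avg {G : Type*} [Group G] [Finite G] (χ : IrrCharacter G) (y : G)
    (Q : Subgroup G) [Fintype Q] (hQ : ∀ u ∈ Q, Commute y u) :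
    IsIntegral ℤ ((Nat.card Q : ℂ)⁻¹ * ∑ u : Q, (χ : G → ℂ) (y * u)) := by
  obtain ⟨n, ρ, -, hρ⟩ := χ.2
  rw [← hρ]
  set σ : Representation ℂ Q (Fin n → ℂ) := repComap Q.subtype ρ with hσ
  have : Invertible (Fintype.card Q : ℂ) :=
    invertibleOfNonzero (Nat.cast_ne_zero.2 Fintype.card_ne_zero)
  set e : Module.End ℂ (Fin n → ℂ) := (Nat.card Q : ℂ)⁻¹ • ∑ u : Q, ρ (u : G) with he
  have hee : e * e = e := by
    have hstep : ∀ u : Q, ρ (u : G) * e = e := fun u => by
      rw [he, mul_smul_comm, Finset.mul_sum]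
      congr 1
      refine Fintype.sum_equiv (Equiv.mulLeft u) _ _ fun v => ?_
      rw [Equiv.coe_mulLeft, Subgroup.coe_mul, map_mul]
    conv_lhs => lhs; rw [he]
    rw [smul_mul_assoc, Finset.sum_mul]
    simp only [hstep, Finset.sum_const, Finset.card_univ]
    rw [← Nat.cast_smul_eq_nsmul ℂ, smul_smul, Nat.card_eq_fintype_card,
      inv_mul_cancel₀ (Nat.cast_ne_zero.2 Fintype.card_ne_zero), one_smul]
  have hye : ρ y * e = e * ρ y := by
    rw [he, mul_smul_comm, smul_mul_assoc, Finset.mul_sum, Finset.sum_mul]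
    refine congrArg _ (Finset.sum_congr rfl fun u _ => ?_)
    rw [← map_mul, (hQ u u.2).eq, map_mul]
  have htr : (Nat.card Q : ℂ)⁻¹ * ∑ u : Q, ρ.character (y * u) =
      LinearMap.trace ℂ _ (ρ y * e) := by
    rw [he, mul_smul_comm, map_smul, smul_eq_mul, Finset.mul_sum _ _ (ρ y), map_sum]
    simp only [Representation.character, map_mul]
  rw [htr]
  -- complete to an operator of finite order
  set m := orderOf y
  have hm : 0 < m := (isOfFinOrder_of_finite y).orderOf_pos
  set f := ρ y * e + (1 - e) with hf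
  have hfk : ∀ k : ℕ, f ^ k = ρ (y ^ k) * e + (1 - e) := by
    intro k
    induction k with
    | zero => simp
    | succ k ih =>
      rw [pow_succ, ih, hf, add_mul, mul_add, mul_add]
      have h1 : ρ (y ^ k) * e * (ρ y * e) = ρ (y ^ (k + 1)) * e := by
        rw [← mul_assoc, mul_assoc (ρ (y ^ k)) e, ← hye, ← mul_assoc, ← map_mul, ← pow_succ,
          mul_assoc, hee]
      have h2 : ρ (y ^ k) * e * (1 - e) = 0 := by
        rw [mul_sub, mul_one, mul_assoc, hee, sub_self]
      have h3 : (1 - e) * (ρ y * e) = 0 := by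
        rw [hye, ← mul_assoc, sub_mul, one_mul, hee, sub_self, zero_mul]
      have h4 : (1 - e) * (1 - e) = 1 - e := by
        rw [mul_sub, mul_one, sub_mul, one_mul, hee, sub_self, sub_zero]
      rw [h1, h2, h3, h4, add_zero, zero_add]
  have hfm : f ^ m = 1 := by
    rw [hfk, pow_orderOf_eq_one, map_one, one_mul, add_sub_cancel]
  obtain ⟨b, μ, hb, hμ⟩ := exists_eigenbasis f hm hfm
  have hf_int : IsIntegral ℤ (LinearMap.trace ℂ _ f) := by
    rw [trace_eq_sum_of_eigenbasis b f μ hb]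
    exact IsIntegral.sum _ fun i _ => IsIntegral.of_pow hm (by rw [hμ i]; exact isIntegral_one)
  have h1e : IsIntegral ℤ (LinearMap.trace ℂ _ (1 - e)) := by
    have hproj : LinearMap.IsProj (LinearMap.range e) e :=
      ⟨fun x => LinearMap.mem_range_self _ x, fun x hx => by
        obtain ⟨w, rfl⟩ := hx
        rw [← Module.End.mul_apply, hee]⟩
    rw [map_sub, LinearMap.trace_one, hproj.trace]
    exact (map_natCast (algebraMap ℤ ℂ) _ ▸ isIntegral_algebraMap).sub
      (map_natCast (algebraMap ℤ ℂ) _ ▸ isIntegral_algebraMap)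
  have e3 : ρ y * e = f - (1 - e) := by rw [hf, add_sub_cancel_right]
  rw [e3, map_sub]
  exact hf_int.sub h1e

/-! ### The regular pairing -/

section Pairing

variable {G : Type*} [Group G] [Fintype G] {p : ℕ} {M : Ideal AlgInt}

/-- The central element with coefficient `ψ(x⁻¹)` at regular `x`. -/
noncomputable def regZ (p : ℕ) (ψ : G → ℂ) : A G :=
  mkA fun x => if p ∣ orderOf x then 0 else ψ x⁻¹

/-- The regular pairing. -/
noncomputable def regPair (p : ℕ) (φ ψ : G → ℂ) : ℂ :=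
  ∑ x ∈ Finset.univ.filter (fun x : G => ¬ p ∣ orderOf x), φ x * ψ x⁻¹

theorem regPair_comm (φ ψ : G → ℂ) : regPair p φ ψ = regPair p ψ φ := by
  refine Finset.sum_equiv (Equiv.inv G) (fun x => ?_) fun x _ => ?_
  · simp
  · simp [mul_comm]

theorem om_regZ (φ ψ : G → ℂ) : om φ (regZ p ψ) = regPair p φ ψ / φ 1 := by
  rw [om, tr, regPair, Finset.sum_filter]
  congr 1
  refine Finset.sum_congr rfl fun x _ => ?_
  simp only [regZ, coeff_mkA]
  by_cases h : p ∣ orderOf x <;> simp [h, mul_comm]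

theorem zr_regZ (hM : IsPModular p M) (ψ : IrrCharacter G) : ZR M (regZ p (ψ : G → ℂ)) := by
  refine ⟨?_, fun x => ?_, fun x => ?_⟩
  · refine isC_mkA fun g h => ?_
    rw [show orderOf (h * g * h⁻¹) = orderOf g from MulEquiv.orderOf_eq (MulAut.conj h) g,
      show (h * g * h⁻¹)⁻¹ = h * g⁻¹ * h⁻¹ by group, classFun_irr ψ g⁻¹ h]
  · simp only [regZ, coeff_mkA]
    split_ifs
    exacts [int'_zero, int'_of_isIntegral hM (isIntegral_irr ψ _)]
  · simp only [regZ, coeff_mkA]
    split_ifs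
    exacts [zero_mem _, algNum_irr ψ _]

theorem regPair_eq_zero (hM : IsPModular p M) {φ ψ : IrrCharacter G}
    (h : ¬ SameBlock M (φ : G → ℂ) (ψ : G → ℂ)) : regPair p (φ : G → ℂ) (ψ : G → ℂ) = 0 := by
  rw [regPair, ← regular_inner_eq_zero hM h]
  refine Finset.sum_congr (Finset.filter_congr fun x _ => Iff.rfl) fun x _ => ?_
  rw [conj_irr]

/-- For a class on which `χ` has nonsmall central character, some regular pairing is a unit. -/
theorem exists_regPair_unit (hM : IsPModular p M) (χ : IrrCharacter G) {y : G}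
    (hy : ¬ p ∣ orderOf y) (hne : ¬ Sm M (centralChar (χ : G → ℂ) y)) :
    ∃ ψ : IrrCharacter G, SameBlock M (χ : G → ℂ) (ψ : G → ℂ) ∧
      ¬ Sm M (om (χ : G → ℂ) (regZ p (ψ : G → ℂ))) := by
  classical
  have : Fact p.Prime := ⟨hM.1⟩
  by_contra hc
  push Not at hc
  have hall : ∀ ψ : IrrCharacter G, Sm M (om (χ : G → ℂ) (regZ p (ψ : G → ℂ))) := fun ψ => by
    by_cases hb : SameBlock M (χ : G → ℂ) (ψ : G → ℂ)
    · exact hc ψ hb
    · rw [om_regZ, regPair_eq_zero hM hb, zero_div]; exact sm_zero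
  set C := Subgroup.centralizer ({y} : Set G) with hC
  obtain ⟨P⟩ : Nonempty (Sylow p C) := inferInstance
  set Q : Subgroup G := (P : Subgroup C).map C.subtype with hQ
  have hQy : ∀ u ∈ Q, Commute y u := by
    rintro u ⟨w, -, rfl⟩
    exact (Subgroup.mem_centralizer_singleton_iff.1 w.2).symm
  have hQp : IsPGroup p Q := P.isPGroup'.map _
  set F : G → ℂ := fun x => if p ∣ orderOf x then 0 else (χ : G → ℂ) x with hF
  have hFc : IsClassFunction G F := fun g h => by
    simp only [hF]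
    rw [show orderOf (h * g * h⁻¹) = orderOf g from MulEquiv.orderOf_eq (MulAut.conj h) g,
      classFun_irr χ g h]
  have hexp := eq_sum_classInner hFc
  have hcoef : ∀ ψ : IrrCharacter G, classInner F (ψ : G → ℂ) =
      (χ : G → ℂ) 1 * om (χ : G → ℂ) (regZ p (ψ : G → ℂ)) * (Nat.card G : ℂ)⁻¹ := by
    intro ψ
    rw [om_regZ, mul_div_cancel₀ _ (isIrrCharacter_apply_one_ne_zero χ.2), classInner, mul_comm,
      regPair, Finset.sum_filter]
    refine congrArg (· * _) (Finset.sum_congr rfl fun x _ => ?_)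
    simp only [hF, conj_irr]
    split_ifs <;> simp
  have hsum : ∑ u : Q, F (y * u) = (χ : G → ℂ) y := by
    rw [Finset.sum_eq_single (1 : Q)]
    · simp [hF, hy]
    · intro u _ hu
      simp only [hF]
      rw [if_pos]
      by_contra hr
      have h1 := isPPart_mul (p := p) ((hQy u u.2).symm) (isPEl_of_mem hQp u.2) hy
      rw [← (hQy u u.2).eq] at h1
      exact hu (Subtype.ext ((isPPart_one_iff hM.1 h1).1 hr))
    · simp
  have hkey : centralChar (χ : G → ℂ) y = ∑ ψ : IrrCharacter G,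
      om (χ : G → ℂ) (regZ p (ψ : G → ℂ)) *
        ((C.index : ℂ) * (Nat.card Q : ℂ) * (Nat.card G : ℂ)⁻¹ *
          ((Nat.card Q : ℂ)⁻¹ * ∑ u : Q, (ψ : G → ℂ) (y * u))) := by
    rw [centralChar, ← hsum]
    conv_lhs => rw [hexp]
    simp only [Finset.sum_apply, Pi.smul_apply, smul_eq_mul, hcoef]
    rw [Finset.sum_comm, Finset.mul_sum, Finset.sum_div]
    refine Finset.sum_congr rfl fun ψ _ => ?_
    have h1 := isIrrCharacter_apply_one_ne_zero χ.2
    have h2 : (Nat.card Q : ℂ) ≠ 0 := Nat.cast_ne_zero.2 Nat.card_pos.ne'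
    rw [← Finset.mul_sum, hC]
    field_simp
  refine hne ?_
  rw [hkey]
  refine sm_sum _ fun ψ _ => (hall ψ).mul_right (Int'.mul ?_ ?_)
  · have hcardQ : Nat.card Q = Nat.card (P : Subgroup C) :=
      (Nat.card_congr ((P : Subgroup C).equivMapOfInjective _ C.subtype_injective).toEquiv).symm
    have e : (C.index : ℂ) * (Nat.card Q : ℂ) * (Nat.card G : ℂ)⁻¹ =
        ((P : Subgroup C).index : ℂ)⁻¹ := by
      rw [hcardQ, ← C.card_mul_index, ← (P : Subgroup C).card_mul_index]
      have e1 : (Nat.card (P : Subgroup C) : ℂ) ≠ 0 := Nat.cast_ne_zero.2 Nat.card_pos.ne'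
      have e2 : (C.index : ℂ) ≠ 0 := Nat.cast_ne_zero.2 Subgroup.index_ne_zero_of_finite
      push_cast
      field_simp
    rw [e]
    exact int'_inv_natCast hM P.not_dvd_index
  · exact int'_of_isIntegral hM (isIntegral_avg ψ y Q hQy)

/-- A block has a regular class with nonsmall coefficient and central character. -/
theorem exists_regular_class (hM : IsPModular p M) {B : Set (IrrCharacter G)}
    (hB : IsPBlock M B) {χ : IrrCharacter G} (hχ : χ ∈ B) :
    ∃ y : G, ¬ p ∣ orderOf y ∧ ¬ Sm M (centralChar (χ : G → ℂ) y) := by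
  classical
  have := Fintype.ofFinite (ConjClasses G)
  by_contra hc
  push Not at hc
  have hz := zr_idem hM hB
  have h1 := om_eq_sum_classes (classFun_irr χ) hz.isC
  rw [om_idem, if_pos hχ] at h1
  have h2 : Sm M (1 : ℂ) := by
    rw [h1]
    refine sm_sum _ fun C _ => ?_
    rw [coeff_idem]
    by_cases hC : p ∣ orderOf C.out
    · rw [blockCoeff_eq_zero hM hB hC, zero_mul]; exact sm_zero
    · exact (hc _ hC).mul_left (int'_blockCoeff hM hB _)
  exact not_sm_one h2

/-- The regular pairing with a character of height zero is a unit on the whole block. -/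
theorem om_regZ_unit (hM : IsPModular p M) {B : Set (IrrCharacter G)} (hB : IsPBlock M B)
    {χ φ : IrrCharacter G} (hχ : χ ∈ B) (h0 : blockHeight p B (χ : G → ℂ) = 0) (hφ : φ ∈ B) :
    ¬ Sm M (om (φ : G → ℂ) (regZ p (χ : G → ℂ))) := by
  obtain ⟨y, hy, hne⟩ := exists_regular_class hM hB hχ
  obtain ⟨ψ, hψ, hu⟩ := exists_regPair_unit hM χ hy hne
  have hψB : ψ ∈ B := by rw [block_eq_blockOf hM hB hχ]; exact hψ
  intro hs
  refine hu ?_
  have hs' : Sm M (om (ψ : G → ℂ) (regZ p (χ : G → ℂ))) :=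
    (sm_iff_of_sub (om_block_sub_sm hM hB hψB hφ (zr_regZ hM χ))).2 hs
  have hle := (blockHeight_eq_zero_iff hχ).1 h0 ψ hψB
  have e : om (χ : G → ℂ) (regZ p (ψ : G → ℂ)) =
      ((ψ : G → ℂ) 1 / (χ : G → ℂ) 1) * om (ψ : G → ℂ) (regZ p (χ : G → ℂ)) := by
    have := isIrrCharacter_apply_one_ne_zero ψ.2
    rw [om_regZ, om_regZ, regPair_comm]
    field_simp
  rw [e]
  exact hs'.mul_left (degRatio hM χ.2 ψ.2 hle).1

/-- The regular pairing with a character of positive height is small. -/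
theorem om_regZ_small (hM : IsPModular p M) {B : Set (IrrCharacter G)} (hB : IsPBlock M B)
    {χ φ : IrrCharacter G} (hχ : χ ∈ B) (h0 : blockHeight p B (χ : G → ℂ) ≠ 0) (hφ : φ ∈ B) :
    Sm M (om (φ : G → ℂ) (regZ p (χ : G → ℂ))) := by
  obtain ⟨ξ, hξ, hξ0⟩ := exists_height_zero (p := p) (block_nonempty hM hB)
  refine (sm_iff_of_sub (om_block_sub_sm hM hB hφ hξ (zr_regZ hM χ))).2 ?_
  have hle := (blockHeight_eq_zero_iff hξ).1 hξ0 χ hχ
  have hlt : degExp p (ξ : G → ℂ) < degExp p (χ : G → ℂ) := by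
    refine lt_of_le_of_ne hle fun e => h0 ((blockHeight_eq_zero_iff hχ).2 fun ψ hψ => ?_)
    exact e ▸ (blockHeight_eq_zero_iff hξ).1 hξ0 ψ hψ
  have e : om (ξ : G → ℂ) (regZ p (χ : G → ℂ)) =
      ((χ : G → ℂ) 1 / (ξ : G → ℂ) 1) * om (χ : G → ℂ) (regZ p (ξ : G → ℂ)) := by
    have := isIrrCharacter_apply_one_ne_zero χ.2
    rw [om_regZ, om_regZ, regPair_comm]
    field_simp
  rw [e]
  exact ((degRatio hM ξ.2 χ.2 hle).2.2 hlt).mul_right (om_int hM χ (zr_regZ hM ξ).isC (zr_regZ hM ξ).int)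

end Pairing

/-! ### Induced blocks on central elements -/

/-- An induced block computes central character values by restriction of coefficients. -/
theorem induced_congr {G : Type*} [Group G] [Fintype G] {p : ℕ} {M : Ideal AlgInt}
    (hM : IsPModular p M) (H : Subgroup G) [Fintype H] (ξ : IrrCharacter H) (χ : IrrCharacter G)
    (hc : ∀ g : G, MemLocalIdeal M
      (inducedCentralChar H (ξ : H → ℂ) g - centralChar (χ : G → ℂ) g))
    {z : A G} (hz : ZR M z) :
    Sm M ((∑ h : H, z.coeff h * (ξ : H → ℂ) h) / (ξ : H → ℂ) 1 - om (χ : G → ℂ) z) := by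
  classical
  have := Fintype.ofFinite (ConjClasses G)
  have hH : (∑ h : H, z.coeff h * (ξ : H → ℂ) h) / (ξ : H → ℂ) 1 =
      ∑ C : ConjClasses G, z.coeff C.out * inducedCentralChar H (ξ : H → ℂ) C.out := by
    have e : ∀ C : ConjClasses G, inducedCentralChar H (ξ : H → ℂ) C.out =
        ∑ h ∈ Finset.univ.filter (fun h : H => ConjClasses.mk (h : G) = C),
          (ξ : H → ℂ) h / (ξ : H → ℂ) 1 := fun C => by
      rw [inducedCentralChar, finsum_mem_eq_finite_toFinset_sum _ (Set.toFinite _)]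
      refine Finset.sum_congr ?_ fun _ _ => rfl
      ext h
      simp only [Set.Finite.mem_toFinset, Finset.mem_filter, Finset.mem_univ, true_and]
      show IsConj C.out (h : G) ↔ _
      rw [← ConjClasses.mk_eq_mk_iff_isConj, show ConjClasses.mk C.out = C from Quotient.out_eq _]
      exact eq_comm
    rw [Finset.sum_div, ← Finset.sum_fiberwise Finset.univ (fun h : H => ConjClasses.mk (h : G))]
    refine Finset.sum_congr rfl fun C _ => ?_
    rw [e, Finset.mul_sum]
    refine Finset.sum_congr rfl fun h hh => ?_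
    have hC : IsConj C.out (h : G) := ConjClasses.mk_eq_mk_iff_isConj.1
      ((show ConjClasses.mk C.out = C from Quotient.out_eq _).trans (Finset.mem_filter.1 hh).2.symm)
    rw [hz.isC.apply_conj hC, mul_div_assoc]
  rw [hH, om_eq_sum_classes (classFun_irr χ) hz.isC, ← Finset.sum_sub_distrib]
  refine sm_sum _ fun C _ => ?_
  rw [← mul_sub]
  exact (sm_of_memLocalIdeal hM (hc C.out)).mul_left (hz.int _)

/-- The restriction of coefficients of a regular pairing element. -/
theorem sum_regZ_sub {G : Type*} [Group G] [Fintype G] {p : ℕ} (H : Subgroup G) [Fintype H]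
    (χ : G → ℂ) (ξ : H → ℂ) :
    (∑ h : H, (regZ p χ).coeff h * ξ h) = regPair p ξ (fun h : H => χ h) := by
  rw [regPair, Finset.sum_filter]
  refine Finset.sum_congr rfl fun h _ => ?_
  simp only [regZ, coeff_mkA, Subgroup.orderOf_coe]
  by_cases hh : p ∣ orderOf h <;> simp [hh, mul_comm]

end Cfsg.Agent.BrauerBlocksHeight
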