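import Mathlib
import Cfsg.Agent.Lib.BrauerBlocksHeight
import Cfsg.Agent.Lib.BlockTheoryRotation
import Cfsg.Agent.Lib.BlockTheoryCentre

/-!
# Characters vanishing on the elements of order `p` have defect zero

An elementary form of the argument of Knörr: a minimal `p`-subgroup from which the identity
is a relative trace must be trivial.
-/

set_option autoImplicit false

namespace Cfsg.Agent.BrauerBlocksKnorr

open Cfsg Cfsg.Agent.BrauerBlocksVal Cfsg.Agent.BrauerBlocksHeight Cfsg.Agent.CharBasic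
open Cfsg.Agent.BlockTheoryRotation (rot rot_pow_full)

attribute [local instance] Classical.propDecidable

/-- Sums of invariant functions localise at the fixed points. -/
theorem sm_sum_sub_fixed {M : Ideal AlgInt} {P X : Type*} [Group P] [Fintype X] [MulAction P X]
    (F : X → ℂ) (hF : ∀ (g : P) x, F (g • x) = F x)
    (hnf : ∀ x, (∃ g : P, g • x ≠ x) →
      Sm M ((Nat.card (MulAction.orbit P x) : ℂ) * F x)) :
    Sm M (∑ x, F x - ∑ x ∈ Finset.univ.filter (fun x : X => ∀ g : P, g • x = x), F x) := by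
  rw [← Finset.sum_filter_add_sum_filter_not Finset.univ (fun x : X => ∀ g : P, g • x = x),
    add_sub_cancel_left]
  rw [← Finset.sum_fiberwise_of_maps_to
    (t := Finset.univ.image fun x : X => MulAction.orbit P x)
    (g := fun x : X => MulAction.orbit P x) fun x _ => Finset.mem_image_of_mem _ (Finset.mem_univ _)]
  refine sm_sum _ fun O hO => ?_
  obtain ⟨x, -, rfl⟩ := Finset.mem_image.1 hO
  by_cases hx : ∀ g : P, g • x = x
  · convert sm_zero (M := M)
    refine Finset.sum_eq_zero fun y hy => absurd ?_ ((Finset.mem_filter.1 (Finset.mem_filter.1 hy).1).2)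
    have hy' : y ∈ MulAction.orbit P x :=
      (Finset.mem_filter.1 hy).2 ▸ MulAction.mem_orbit_self y
    obtain ⟨g, rfl⟩ := hy'
    simpa only [hx g] using hx
  · rw [Finset.sum_congr rfl (g := fun _ => F x) fun y hy => ?_, Finset.sum_const, nsmul_eq_mul]
    · have h := hnf x (not_forall.1 hx)
      rw [Nat.card_eq_fintype_card, ← Set.toFinset_card] at h
      refine Eq.mp (congrArg (fun s : Finset X => Sm M ((s.card : ℂ) * F x)) ?_) h
      symm
      ext y
      simp only [Finset.mem_filter, Finset.mem_univ, true_and, Set.mem_toFinset,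
        MulAction.orbit_eq_iff]
      refine ⟨fun h => h.2, fun h => ⟨fun hy => hx ?_, h⟩⟩
      obtain ⟨g, rfl⟩ := h
      have : g⁻¹ • (g • x) = g • x := hy g⁻¹
      rw [inv_smul_smul] at this
      intro k
      exact (congrArg (k • ·) this).trans ((hy k).trans this.symm)
    · obtain ⟨g, rfl⟩ : y ∈ MulAction.orbit P x :=
        (Finset.mem_filter.1 hy).2 ▸ MulAction.mem_orbit_self y
      exact hF g x

/-- Sums of functions invariant under a permutation of `p`-power order. -/
theorem sm_sum_perm {p : ℕ} {M : Ideal AlgInt} (hM : IsPModular p M) {X : Type*} [Fintype X]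
    (σ : Equiv.Perm X) {k : ℕ} (hσ : σ ^ p ^ k = 1) (F : X → ℂ) (hF : ∀ x, F (σ x) = F x)
    (hI : ∀ x, Int' M (F x)) :
    Sm M (∑ x, F x - ∑ x ∈ Finset.univ.filter (fun x => σ x = x), F x) := by
  have : Fact p.Prime := ⟨hM.1⟩
  set P := Subgroup.zpowers σ with hP
  have hPp : IsPGroup p P := by
    obtain ⟨i, -, hi⟩ := (Nat.dvd_prime_pow hM.1).1 (orderOf_dvd_of_pow_eq_one hσ)
    exact IsPGroup.of_card (n := i) (by rw [Nat.card_zpowers, hi])
  have hinv : ∀ (g : P) x, F (g • x) = F x := by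
    rintro ⟨g, hg⟩ x
    obtain ⟨i, rfl⟩ := mem_powers_iff_mem_zpowers.2 hg
    show F ((σ ^ i) x) = F x
    induction i generalizing x with
    | zero => simp
    | succ i ih => rw [pow_succ, Equiv.Perm.mul_apply, ih _ ⟨i, by simp⟩, hF]
  have hfix : ∀ x, (∀ g : P, g • x = x) ↔ σ x = x := by
    refine fun x => ⟨fun h => h ⟨σ, Subgroup.mem_zpowers σ⟩, ?_⟩
    rintro h ⟨g, hg⟩
    obtain ⟨i, rfl⟩ := mem_powers_iff_mem_zpowers.2 hg
    show (σ ^ i) x = x
    rw [Equiv.Perm.coe_pow]
    exact Function.iterate_fixed h i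
  have h := sm_sum_sub_fixed (M := M) F hinv fun x hx => ?_
  · simpa only [hfix] using h
  · obtain ⟨i, hi⟩ := hPp.card_orbit x
    refine (((sm_natCast_iff hM _).2 ?_)).mul_right (hI x)
    rw [hi]
    refine dvd_pow_self p fun h0 => ?_
    rw [h0, pow_zero, Nat.card_eq_one_iff_unique] at hi
    obtain ⟨g, hg⟩ := hx
    exact hg (congrArg Subtype.val (hi.1.elim ⟨g • x, MulAction.mem_orbit x g⟩
      ⟨x, MulAction.mem_orbit_self x⟩))

theorem prod_ofFn_snoc {A : Type*} [Monoid A] {m : ℕ} (f : Fin m → A) (x : A) :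
    (List.ofFn (Fin.snoc f x)).prod = (List.ofFn f).prod * x := by
  rw [List.ofFn_succ', List.prod_concat]
  simp

theorem prod_ofFn_head {A : Type*} [Monoid A] {m : ℕ} (f : Fin (m + 1) → A) :
    (List.ofFn f).prod = f 0 * (List.ofFn (Fin.tail f)).prod := by
  rw [List.ofFn_succ, List.prod_cons]
  rfl

theorem pow_sum_eq {A ι : Type*} [Semiring A] [Fintype ι] (f : ι → A) : ∀ k : ℕ,
    (∑ i, f i) ^ k = ∑ d : Fin k → ι, (List.ofFn fun j => f (d j)).prod
  | 0 => by simp
  | k + 1 => by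
    rw [pow_succ', pow_sum_eq f k, Finset.sum_mul_sum, ← Fintype.sum_prod_type']
    refine Fintype.sum_equiv (Fin.consEquiv fun _ => ι) _ _ fun x => ?_
    rw [List.ofFn_succ, List.prod_cons]
    rfl

section Traces

variable {p : ℕ} {M : Ideal AlgInt} {G : Type*} [Group G] [Fintype G] {n : ℕ}
  (ρ : Representation ℂ G (Fin n → ℂ))

/-- The image of the integral group algebra. -/
def InE (M : Ideal AlgInt) (x : Module.End ℂ (Fin n → ℂ)) : Prop :=
  ∃ z : MonoidAlgebra ℂ G, (∀ g, Int' M (z.coeff g)) ∧ ρ.asAlgebraHom z = x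

/-- Its members commuting with a subgroup. -/
def InQ (M : Ideal AlgInt) (Q : Subgroup G) (x : Module.End ℂ (Fin n → ℂ)) : Prop :=
  InE ρ M x ∧ ∀ q ∈ Q, Commute (ρ q) x

/-- Conjugation by a group element. -/
noncomputable def cj (g : G) (x : Module.End ℂ (Fin n → ℂ)) : Module.End ℂ (Fin n → ℂ) :=
  ρ g * x * ρ g⁻¹

/-- The normalised relative trace from `Q`, as a number. -/
noncomputable def tau (_ : Representation ℂ G (Fin n → ℂ)) (Q : Subgroup G)
    (x : Module.End ℂ (Fin n → ℂ)) : ℂ :=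
  (Nat.card G : ℂ) * LinearMap.trace ℂ _ x * ((n : ℂ) * (Nat.card Q : ℂ))⁻¹

variable {ρ} {Q : Subgroup G} {x y : Module.End ℂ (Fin n → ℂ)}

theorem InE.single (g : G) : InE ρ M (ρ g) := by
  refine ⟨MonoidAlgebra.single g 1, fun h => ?_, Representation.asAlgebraHom_single_one ρ g⟩
  rw [MonoidAlgebra.coeff_single, Finsupp.single_apply]
  split_ifs
  exacts [int'_one, int'_zero]

theorem InE.one : InE ρ M 1 := by simpa using InE.single (ρ := ρ) (M := M) (1 : G)

theorem InE.zero : InE ρ M 0 :=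
  ⟨0, fun g => by simpa using int'_zero, map_zero _⟩

theorem InE.add (hx : InE ρ M x) (hy : InE ρ M y) : InE ρ M (x + y) := by
  obtain ⟨z, hz, rfl⟩ := hx
  obtain ⟨w, hw, rfl⟩ := hy
  exact ⟨z + w, fun g => by simpa using (hz g).add (hw g), map_add _ _ _⟩

theorem InE.smul {c : ℂ} (hc : Int' M c) (hx : InE ρ M x) : InE ρ M (c • x) := by
  obtain ⟨z, hz, rfl⟩ := hx
  exact ⟨c • z, fun g => by simpa using hc.mul (hz g), map_smul _ _ _⟩

theorem InE.sum {ι : Type*} (s : Finset ι) {f : ι → Module.End ℂ (Fin n → ℂ)}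
    (h : ∀ i ∈ s, InE ρ M (f i)) : InE ρ M (∑ i ∈ s, f i) :=
  Finset.sum_induction _ (InE ρ M) (fun _ _ => InE.add) InE.zero h

theorem InE.mul (hx : InE ρ M x) (hy : InE ρ M y) : InE ρ M (x * y) := by
  obtain ⟨z, hz, rfl⟩ := hx
  obtain ⟨w, hw, rfl⟩ := hy
  refine ⟨z * w, fun g => ?_, map_mul _ _ _⟩
  rw [BrauerBlocksCentral.mul_coeff]
  exact int'_sum _ fun h _ => (hz _).mul (hw _)

theorem InE.cj (g : G) (hx : InE ρ M x) : InE ρ M (cj ρ g x) :=
  ((InE.single g).mul hx).mul (InE.single g⁻¹)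

theorem InQ.one : InQ ρ M Q 1 := ⟨InE.one, fun _ _ => Commute.one_right _⟩

theorem InQ.mul (hx : InQ ρ M Q x) (hy : InQ ρ M Q y) : InQ ρ M Q (x * y) :=
  ⟨hx.1.mul hy.1, fun q hq => (hx.2 q hq).mul_right (hy.2 q hq)⟩

theorem InQ.pow (hx : InQ ρ M Q x) : ∀ k : ℕ, InQ ρ M Q (x ^ k)
  | 0 => by rw [pow_zero]; exact InQ.one
  | k + 1 => by rw [pow_succ]; exact (InQ.pow hx k).mul hx

theorem InQ.sum {ι : Type*} (s : Finset ι) {f : ι → Module.End ℂ (Fin n → ℂ)}
    (h : ∀ i ∈ s, InQ ρ M Q (f i)) : InQ ρ M Q (∑ i ∈ s, f i) :=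
  ⟨InE.sum s fun i hi => (h i hi).1,
    fun q hq => Commute.sum_right s f (ρ q) fun i hi => (h i hi).2 q hq⟩

theorem InQ.single {u : G} (hu : ∀ q ∈ Q, Commute q u) : InQ ρ M Q (ρ u) :=
  ⟨InE.single u, fun q hq => (hu q hq).map ρ⟩

omit [Fintype G] in
theorem cj_mul (g h : G) : cj ρ (g * h) x = cj ρ g (cj ρ h x) := by
  simp only [cj, mul_inv_rev, map_mul, mul_assoc]

omit [Fintype G] in
theorem rho_mul_inv (g : G) : ρ g * ρ g⁻¹ = 1 := by rw [← map_mul, mul_inv_cancel, map_one]

omit [Fintype G] in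
theorem rho_inv_mul (g : G) : ρ g⁻¹ * ρ g = 1 := by rw [← map_mul, inv_mul_cancel, map_one]

omit [Fintype G] in
theorem cj_of_commute {g : G} (h : Commute (ρ g) x) : cj ρ g x = x := by
  rw [cj, h.eq, mul_assoc, rho_mul_inv, mul_one]

omit [Fintype G] in
theorem commute_of_cj {g : G} (h : cj ρ g x = x) : Commute (ρ g) x := by
  show ρ g * x = x * ρ g
  conv_rhs => rw [← h, cj, mul_assoc, rho_inv_mul, mul_one]

omit [Fintype G] in
theorem mul_cj (g : G) : ρ g * x = cj ρ g x * ρ g := by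
  rw [cj, mul_assoc (ρ g * x), rho_inv_mul, mul_one]

omit [Fintype G] in
theorem tau_comm : tau ρ Q (x * y) = tau ρ Q (y * x) := by
  rw [tau, tau, LinearMap.trace_mul_comm]

omit [Fintype G] in
theorem tau_cj (g : G) : tau ρ Q (cj ρ g x) = tau ρ Q x := by
  rw [cj, tau_comm, ← mul_assoc, rho_inv_mul, one_mul]

omit [Fintype G] in
theorem tau_sum {ι : Type*} (s : Finset ι) (f : ι → Module.End ℂ (Fin n → ℂ)) :
    tau ρ Q (∑ i ∈ s, f i) = ∑ i ∈ s, tau ρ Q (f i) := by
  simp only [tau, map_sum, Finset.mul_sum, Finset.sum_mul]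

omit [Fintype G] in
theorem tau_smul (c : ℂ) : tau ρ Q (c • x) = c * tau ρ Q x := by
  simp only [tau, map_smul, smul_eq_mul]; ring

variable [ρ.IsIrreducible]

omit [Fintype G] [ρ.IsIrreducible] in
theorem n_ne_zero (ρ : Representation ℂ G (Fin n → ℂ)) [ρ.IsIrreducible] : (n : ℂ) ≠ 0 := by
  have h := finrank_pos_of_irreducible ρ
  rw [Module.finrank_fin_fun] at h
  exact Nat.cast_ne_zero.2 h.ne'

/-- The relative trace is the scalar `tau`. -/
theorem sum_cosets (hx : InQ ρ M Q x) :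
    ∑ t : G ⧸ Q, cj ρ t.out x = tau ρ Q x • LinearMap.id := by
  set S := ∑ t : G ⧸ Q, cj ρ t.out x with hS
  have hconst : ∀ g : G, cj ρ g x = cj ρ (g : G ⧸ Q).out x := fun g => by
    obtain ⟨q, hq⟩ := QuotientGroup.mk_out_eq_mul Q g
    rw [hq, cj_mul, cj_of_commute (hx.2 q q.2)]
  have hcomm : ∀ g v, S (ρ g v) = ρ g (S v) := by
    intro g
    have h1 : cj ρ g S = S := by
      have e : cj ρ g S = ∑ t : G ⧸ Q, cj ρ g (cj ρ t.out x) := by
        simp only [hS, cj, Finset.mul_sum, Finset.sum_mul]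
      rw [e]
      refine Fintype.sum_equiv (MulAction.toPerm g) _ _ fun t => ?_
      rw [← cj_mul, hconst]
      congr 2
      show ((g * t.out : G) : G ⧸ Q) = g • t
      conv_rhs => rw [← QuotientGroup.out_eq' t]
      rfl
    intro v
    exact (LinearMap.congr_fun (commute_of_cj h1).eq v).symm
  obtain ⟨c, hc, htr⟩ := exists_scalar_of_commute ρ S hcomm
  rw [Module.finrank_fin_fun] at htr
  have htS : LinearMap.trace ℂ _ S = (Q.index : ℂ) * LinearMap.trace ℂ _ x := by
    rw [hS, map_sum, Finset.sum_congr rfl (g := fun _ => LinearMap.trace ℂ _ x) fun t _ => by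
      rw [cj, LinearMap.trace_mul_comm, ← mul_assoc, rho_inv_mul, one_mul], Finset.sum_const,
      Finset.card_univ, ← Nat.card_eq_fintype_card, nsmul_eq_mul]
    rfl
  rw [hc]
  congr 1
  rw [htS] at htr
  have hn := n_ne_zero ρ
  have hQ : (Nat.card Q : ℂ) ≠ 0 := Nat.cast_ne_zero.2 Nat.card_pos.ne'
  rw [tau, ← Q.index_mul_card]
  push_cast
  field_simp
  linear_combination -htr

/-- A scalar of the integral image is a local integer. -/
theorem int'_of_smul_inE (hM : IsPModular p M) {c : ℂ}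
    (h : InE ρ M (c • LinearMap.id)) : Int' M c := by
  set N : Submodule (vs M) ℂ := Submodule.span (vs M) (Set.range ρ.character) with hN
  have hfg : N.FG := Submodule.fg_span (Set.finite_range _)
  have hne : N ≠ ⊥ := fun hb => by
    have h1 : ρ.character 1 ∈ N := Submodule.subset_span ⟨1, rfl⟩
    rw [hb, Submodule.mem_bot, Representation.char_one, Module.finrank_fin_fun] at h1
    exact n_ne_zero ρ h1
  have hint : IsIntegral (vs M) c := by
    refine isIntegral_of_smul_mem_submodule N hne hfg c fun w hw => ?_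
    · induction hw using Submodule.span_induction with
      | mem w hw =>
        obtain ⟨g, rfl⟩ := hw
        obtain ⟨z, hz, hzc⟩ := h
        have e : c • ρ.character g = ∑ k : G, z.coeff k • ρ.character (k * g) := by
          have h1 := congrArg (fun f => LinearMap.trace ℂ _ (f * ρ g)) hzc
          rw [smul_eq_mul, Representation.character]
          rw [BlockTheoryCentre.eq_sum_single z, map_sum, Finset.sum_mul, map_sum,
            smul_mul_assoc, map_smul, smul_eq_mul,
            show (LinearMap.id : Module.End ℂ (Fin n → ℂ)) * ρ g = ρ g from one_mul _] at h1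
          rw [← h1]
          refine Finset.sum_congr rfl fun k _ => ?_
          rw [Representation.asAlgebraHom_single, smul_mul_assoc, ← map_mul, map_smul]
          rfl
        rw [e]
        refine Submodule.sum_mem _ fun k _ => ?_
        exact Submodule.smul_mem N ⟨z.coeff k, hz k⟩ (Submodule.subset_span ⟨k * g, rfl⟩)
      | zero => rw [smul_zero]; exact N.zero_mem
      | add a b _ _ ha hb => rw [smul_add]; exact N.add_mem ha hb
      | smul r a _ ha => rw [smul_comm]; exact N.smul_mem r ha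
  obtain ⟨w, hw⟩ := (IsIntegrallyClosed.isIntegral_iff (R := vs M) (K := ℂ)).1 hint
  exact hw ▸ w.2

theorem int'_tau (hM : IsPModular p M) (hx : InQ ρ M Q x) : Int' M (tau ρ Q x) :=
  int'_of_smul_inE (ρ := ρ) hM (by
    rw [← sum_cosets hx]
    exact InE.sum _ fun t _ => hx.1.cj t.out)

/-- `Q` is minimal among the `p`-subgroups from which the identity is a relative trace. -/
def Minimal (ρ : Representation ℂ G (Fin n → ℂ)) (p : ℕ) (M : Ideal AlgInt) (Q : Subgroup G) :
    Prop :=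
  ∀ (R : Subgroup G) (x : Module.End ℂ (Fin n → ℂ)), IsPGroup p R → Nat.card R < Nat.card Q →
    InQ ρ M R x → Sm M (tau ρ R x)

/-- Families indexed by a `Q`-set localise at the fixed points. -/
theorem sm_orbit_reduce (hQp : IsPGroup p Q) (hmin : Minimal ρ p M Q) {X : Type*} [Fintype X]
    [MulAction Q X] (y : X → Module.End ℂ (Fin n → ℂ)) (hy : ∀ i, InE ρ M (y i))
    (heq : ∀ (q : Q) i, y (q • i) = cj ρ (q : G) (y i)) :
    Sm M (∑ i, tau ρ Q (y i) -
      ∑ i ∈ Finset.univ.filter (fun i : X => ∀ q : Q, q • i = i), tau ρ Q (y i)) := by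
  have hkey : ∀ i : X, (∃ q : Q, q • i ≠ i) →
      Sm M ((Nat.card (MulAction.orbit Q i) : ℂ) * tau ρ Q (y i)) := by
    intro i hi
    set R : Subgroup G := (MulAction.stabilizer Q i).map Q.subtype with hR
    have hRc : Nat.card R = Nat.card (MulAction.stabilizer Q i) :=
      Subgroup.card_map_of_injective Q.subtype_injective
    have horb : Nat.card (MulAction.orbit Q i) * Nat.card (MulAction.stabilizer Q i) = Nat.card Q := by
      rw [Nat.card_congr (MulAction.orbitEquivQuotientStabilizer Q i), mul_comm]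
      exact Subgroup.card_mul_index _
    have hlt : Nat.card R < Nat.card Q := by
      refine lt_of_le_of_ne (hRc ▸ Subgroup.card_le_card_group _) fun e => ?_
      obtain ⟨q, hq⟩ := hi
      refine hq (show q ∈ MulAction.stabilizer Q i from ?_)
      rw [Subgroup.eq_top_of_card_eq (MulAction.stabilizer Q i) (hRc ▸ e)]
      trivial
    have hiR : InQ ρ M R (y i) := ⟨hy i, by
      rintro _ ⟨q, hq, rfl⟩
      exact commute_of_cj ((heq q i).symm.trans (congrArg y hq))⟩
    have h := hmin R (y i) ((hQp.to_subgroup _).map _) hlt hiR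
    suffices e : (Nat.card (MulAction.orbit Q i) : ℂ) * tau ρ Q (y i) = tau ρ R (y i) by
      rw [e]; exact h
    rw [tau, tau, hRc, ← horb]
    have hn := n_ne_zero ρ
    have h1 : (Nat.card (MulAction.stabilizer Q i) : ℂ) ≠ 0 := Nat.cast_ne_zero.2 Nat.card_pos.ne'
    have h2 : (Nat.card (MulAction.orbit Q i) : ℂ) ≠ 0 := by
      have : 0 < Nat.card (MulAction.orbit Q i) * Nat.card (MulAction.stabilizer Q i) := by
        rw [horb]; exact Nat.card_pos
      exact Nat.cast_ne_zero.2 (Nat.pos_of_mul_pos_right this).ne'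
    push_cast
    field_simp
  convert sm_sum_sub_fixed (M := M) (P := Q) (fun i => tau ρ Q (y i))
    (fun q i => by simp only [heq, tau_cj]) hkey using 1
  refine congrArg (fun s : Finset X => ∑ i, tau ρ Q (y i) - ∑ i ∈ s, tau ρ Q (y i)) ?_
  ext
  simp

/-- The trace from `Q` to its normaliser. -/
noncomputable def bsum (ρ : Representation ℂ G (Fin n → ℂ)) (Q : Subgroup G)
    (x : Module.End ℂ (Fin n → ℂ)) : Module.End ℂ (Fin n → ℂ) :=
  ∑ v : Subgroup.normalizer (Q : Set G) ⧸ Q.subgroupOf (Subgroup.normalizer (Q : Set G)),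
    cj ρ (v.out : G) x

theorem cj_inQ {g : G} (hg : g ∈ Subgroup.normalizer (Q : Set G)) (hx : InQ ρ M Q x) :
    InQ ρ M Q (cj ρ g x) := by
  refine ⟨hx.1.cj g, fun q hq => commute_of_cj ?_⟩
  have h1 : g⁻¹ * q * g ∈ Q := by
    have := (Subgroup.mem_normalizer_iff.1 (inv_mem hg) q).1 hq
    simpa using this
  rw [← cj_mul, show q * g = g * (g⁻¹ * q * g) by group, cj_mul, cj_of_commute (hx.2 _ h1)]

theorem bsum_inQ (hx : InQ ρ M Q x) : InQ ρ M Q (bsum ρ Q x) :=
  InQ.sum _ fun v _ => cj_inQ v.out.2 hx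

theorem commute_bsum (hx : InQ ρ M Q x) {g : G} (hg : g ∈ Subgroup.normalizer (Q : Set G)) :
    Commute (ρ g) (bsum ρ Q x) := by
  refine commute_of_cj ?_
  set N := Subgroup.normalizer (Q : Set G)
  have e : cj ρ g (bsum ρ Q x) = ∑ v : N ⧸ Q.subgroupOf N, cj ρ g (cj ρ (v.out : G) x) := by
    simp only [bsum, cj, Finset.mul_sum, Finset.sum_mul]
    convert rfl
  rw [e]
  refine Fintype.sum_equiv (MulAction.toPerm (⟨g, hg⟩ : N)) _ _ fun v => ?_
  rw [← cj_mul]
  obtain ⟨q, hq⟩ := QuotientGroup.mk_out_eq_mul (Q.subgroupOf N) ((⟨g, hg⟩ : N) * v.out)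
  have hv : ((⟨g, hg⟩ : N) • v) = (((⟨g, hg⟩ : N) * v.out : N) : N ⧸ Q.subgroupOf N) := by
    conv_lhs => rw [← QuotientGroup.out_eq' v]
    rfl
  rw [MulAction.toPerm_apply, hv, hq]
  simp only [Subgroup.coe_mul]
  have hqQ : ((q : N) : G) ∈ Q := q.2
  rw [cj_mul (g * (v.out : G)) ((q : N) : G), cj_of_commute (hx.2 ((q : N) : G) hqQ)]

/-- Multiplicativity of the relative trace. -/
theorem sm_tau_mul (hQp : IsPGroup p Q) (hmin : Minimal ρ p M Q) (hx : InQ ρ M Q x)
    (hy : InQ ρ M Q y) : Sm M (tau ρ Q x * tau ρ Q y - tau ρ Q (x * bsum ρ Q y)) := by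
  set N := Subgroup.normalizer (Q : Set G)
  have hconst : ∀ g : G, cj ρ g y = cj ρ (g : G ⧸ Q).out y := fun g => by
    obtain ⟨q, hq⟩ := QuotientGroup.mk_out_eq_mul Q g
    rw [hq, cj_mul, cj_of_commute (hy.2 q q.2)]
  have h := sm_orbit_reduce hQp hmin (fun t : G ⧸ Q => x * cj ρ t.out y)
    (fun t => hx.1.mul (hy.1.cj _)) fun q t => by
      have e : ((q : G) * t.out : G) = ((q : G) * t.out) := rfl
      have hq : (q • t : G ⧸ Q) = (((q : G) * t.out : G) : G ⧸ Q) := by
        conv_lhs => rw [← QuotientGroup.out_eq' t]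
        rfl
      rw [hq, ← hconst, cj_mul]
      calc x * cj ρ q (cj ρ t.out y) = cj ρ q x * cj ρ q (cj ρ t.out y) := by
            rw [cj_of_commute (hx.2 q q.2)]
        _ = _ := by
            simp only [cj, mul_assoc]
            rw [← mul_assoc (ρ (q : G)⁻¹) (ρ (q : G)), rho_inv_mul, one_mul]
  have h1 : ∑ t : G ⧸ Q, tau ρ Q (x * cj ρ t.out y) = tau ρ Q x * tau ρ Q y := by
    rw [← tau_sum, ← Finset.mul_sum, sum_cosets hy, mul_smul_comm,
      show x * (LinearMap.id : Module.End ℂ (Fin n → ℂ)) = x from mul_one _, tau_smul, mul_comm]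
  have h2 : ∑ t ∈ Finset.univ.filter (fun t : G ⧸ Q => ∀ q : Q, q • t = t),
      tau ρ Q (x * cj ρ t.out y) = tau ρ Q (x * bsum ρ Q y) := by
    have hfix : ∀ g : G, (∀ q : Q, q • (g : G ⧸ Q) = g) ↔ g ∈ N := fun g => by
      have e : ∀ q : Q, q • (g : G ⧸ Q) = g ↔ g⁻¹ * (q : G)⁻¹ * g ∈ Q := fun q => by
        show (((q : G) * g : G) : G ⧸ Q) = g ↔ _
        rw [QuotientGroup.eq, mul_inv_rev]
      refine ⟨fun hq => ?_, fun hg q => (e q).2 ?_⟩
      · have hle : ∀ q ∈ Q, g⁻¹ * q * g ∈ Q := fun q hq' => by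
          have := (e ⟨q⁻¹, inv_mem hq'⟩).1 (hq _)
          simpa using this
        refine Subgroup.mem_normalizer_iff''.2 fun q => ⟨hle q, fun hq' => ?_⟩
        have hsub : Q.map (MulAut.conj g⁻¹).toMonoidHom ≤ Q := by
          rintro _ ⟨a, ha, rfl⟩
          simpa using hle a ha
        have heq := Subgroup.eq_of_le_of_card_ge hsub
          (Subgroup.card_map_of_injective (MulAut.conj g⁻¹).injective).symm.le
        rw [← heq] at hq'
        obtain ⟨a, ha, hab⟩ := hq'
        rw [show g⁻¹ * q * g = MulAut.conj g⁻¹ q by simp] at hab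
        exact (MulAut.conj g⁻¹).injective hab ▸ ha
      · have := (Subgroup.mem_normalizer_iff.1 (inv_mem hg) (q : G)⁻¹).1 (inv_mem q.2)
        simpa using this
    rw [bsum, Finset.mul_sum, tau_sum]
    refine (Finset.sum_bij (fun (v : N ⧸ Q.subgroupOf N) _ => ((v.out : G) : G ⧸ Q)) ?_ ?_ ?_ ?_).symm
    · exact fun v _ => Finset.mem_filter.2 ⟨Finset.mem_univ _, (hfix _).2 v.out.2⟩
    · intro v _ w _ e
      rw [← QuotientGroup.out_eq' v, ← QuotientGroup.out_eq' w, QuotientGroup.eq]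
      exact (QuotientGroup.eq.1 e :)
    · intro t ht
      have htN : t.out ∈ N := (hfix _).1 fun q => by
        rw [QuotientGroup.out_eq']; exact (Finset.mem_filter.1 ht).2 q
      refine ⟨((⟨t.out, htN⟩ : N) : N ⧸ Q.subgroupOf N), Finset.mem_univ _, ?_⟩
      obtain ⟨q, hq⟩ := QuotientGroup.mk_out_eq_mul (Q.subgroupOf N) (⟨t.out, htN⟩ : N)
      rw [hq, Subgroup.coe_mul]
      exact (QuotientGroup.mk_mul_of_mem t.out q.2).trans (QuotientGroup.out_eq' t)
    · intro v _
      rw [← hconst]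
  rw [h1] at h
  convert h using 3
  rw [← h2]
  exact Finset.sum_congr (by ext; simp) fun _ _ => rfl

end Traces

end Cfsg.Agent.BrauerBlocksKnorr
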