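import Mathlib
import Cfsg.Prelude.Def_Blocks
import Cfsg.Agent.Lib.BrauerBlocksOrth
import Cfsg.Agent.Lib.CharBasicDecomp

/-!
# The class sum of the regular elements: the principal block test
-/

set_option autoImplicit false

open scoped ComplexConjugate

namespace Cfsg.Agent.BrauerBlocksRegular

open Cfsg.Agent.BrauerBlocksVal Cfsg.Agent.BrauerBlocksCentral Cfsg.Agent.BrauerBlocksBasic
  Cfsg.Agent.BrauerBlocksPPart Cfsg.Agent.BrauerBlocksOrth Cfsg.Agent.CharBasicOrth

/-- The number of `p`-regular elements is not divisible by `p`. -/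
theorem not_dvd_regCard {G : Type*} [Group G] [Fintype G] {p : ℕ} {M : Ideal Cfsg.AlgInt}
    (hM : Cfsg.IsPModular p M) :
    ¬ p ∣ Nat.card {g : G // ¬ p ∣ orderOf g} := by
  classical
  have : Fact p.Prime := ⟨hM.1⟩
  obtain ⟨P⟩ : Nonempty (Sylow p G) := inferInstance
  let X := {g : G // ¬ p ∣ orderOf g}
  let act : MulAction (P : Subgroup G) X :=
    { smul := fun u g => ⟨(u : G) * g * (u : G)⁻¹, by
        rw [show (u : G) * g * (u : G)⁻¹ = MulAut.conj (u : G) g from rfl, MulEquiv.orderOf_eq]
        exact g.2⟩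
      one_smul := fun g => Subtype.ext (by show ((1 : (P : Subgroup G)) : G) * _ * _ = _; simp)
      mul_smul := fun a b g => Subtype.ext (by
        show ((a * b : (P : Subgroup G)) : G) * _ * _ = (a : G) * ((b : G) * _ * (b : G)⁻¹) * (a : G)⁻¹
        simp [mul_assoc]) }
  have hfix := IsPGroup.card_modEq_card_fixedPoints P.isPGroup' X
  intro hd
  have h1 : p ∣ Nat.card (MulAction.fixedPoints (P : Subgroup G) X) :=
    Nat.modEq_zero_iff_dvd.1 (hfix.symm.trans (Nat.modEq_zero_iff_dvd.2 hd))
  set C := Subgroup.centralizer ((P : Subgroup G) : Set G)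
  set Z := (P : Subgroup G).subgroupOf C
  have hmem : ∀ x : MulAction.fixedPoints (P : Subgroup G) X, ((x : X) : G) ∈ C := fun x => by
    rw [Subgroup.mem_centralizer_iff]
    intro u hu
    have := congrArg Subtype.val (x.2 ⟨u, hu⟩)
    exact mul_inv_eq_iff_eq_mul.1 this
  have hpEl : ∀ z : G, IsPEl p z → z ∈ C → z ∈ (P : Subgroup G) := by
    intro z hz hzC
    obtain ⟨k, hk⟩ := hz
    have hnorm : (P : Subgroup G) ≤ Subgroup.normalizer ((Subgroup.zpowers z : Subgroup G) : Set G) := by
      intro u hu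
      rw [Subgroup.mem_normalizer_iff]
      intro w
      have hcz : u * z * u⁻¹ = z := by
        rw [Subgroup.mem_centralizer_iff.1 hzC u hu, mul_inv_cancel_right]
      have hall : ∀ n : ℤ, u * z ^ n * u⁻¹ = z ^ n := fun n => by
        have := map_zpow (MulAut.conj u) z n
        simp only [MulAut.conj_apply] at this
        rw [this, hcz]
      constructor
      · rintro ⟨n, rfl⟩; exact ⟨n, (hall n).symm⟩
      · rintro ⟨n, hn⟩
        refine ⟨n, mul_left_cancel (a := u) (mul_right_cancel (b := u⁻¹) ?_)⟩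
        exact (hall n).trans hn
    have hzp : IsPGroup p (Subgroup.zpowers z) :=
      IsPGroup.of_card (n := k) (by rw [Nat.card_zpowers, hk])
    have hsup := IsPGroup.to_sup_of_normal_right' P.isPGroup' hzp hnorm
    have := P.is_maximal' hsup le_sup_left
    rw [← this]
    exact Subgroup.mem_sup_right (Subgroup.mem_zpowers z)
  let f : MulAction.fixedPoints (P : Subgroup G) X → C ⧸ Z :=
    fun x => QuotientGroup.mk ⟨((x : X) : G), hmem x⟩
  have hbij : Function.Bijective f := by
    constructor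
    · intro x y hxy
      have h2 := QuotientGroup.eq.1 hxy
      rw [Subgroup.mem_subgroupOf] at h2
      set z : G := ((x : X) : G)⁻¹ * ((y : X) : G) with hz
      have hz2 : z ∈ (P : Subgroup G) := h2
      have hy : ((y : X) : G) = z * ((x : X) : G) := by
        rw [Subgroup.mem_centralizer_iff.1 (hmem x) z hz2, hz]; group
      have hp1 : Cfsg.IsPPart p ((y : X) : G) z := by
        rw [hy]
        exact isPPart_mul (Subgroup.mem_centralizer_iff.1 (hmem x) z hz2)
          (isPEl_of_mem P.isPGroup' hz2) (x : X).2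
      have hz1 : z = 1 := (isPPart_one_iff hM.1 hp1).1 (y : X).2
      exact Subtype.ext (Subtype.ext (by rw [hy, hz1, one_mul]))
    · intro q
      obtain ⟨⟨c, hc⟩, rfl⟩ := QuotientGroup.mk_surjective q
      obtain ⟨z, hz⟩ := exists_isPPart hM.1 c
      obtain ⟨t, ht⟩ := exists_pow_of_isPPart hM.1 hz
      obtain ⟨y, hzy, hzc, hzp, hy⟩ := hz
      have hzC : z ∈ C := ht ▸ C.pow_mem hc t
      have hyC : y ∈ C := by
        have h3 := C.mul_mem (C.inv_mem hzC) hc
        rwa [← hzy, inv_mul_cancel_left] at h3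
      refine ⟨⟨⟨y, hy⟩, fun u => Subtype.ext ?_⟩, QuotientGroup.eq.2 ?_⟩
      · show (u : G) * y * (u : G)⁻¹ = y
        rw [Subgroup.mem_centralizer_iff.1 hyC u u.2, mul_inv_cancel_right]
      · rw [Subgroup.mem_subgroupOf]
        show y⁻¹ * c ∈ (P : Subgroup G)
        rw [← hzy, hzc.eq, inv_mul_cancel_left]
        exact hpEl z hzp hzC
  rw [Nat.card_eq_of_bijective f hbij, ← Subgroup.index_eq_card] at h1
  refine P.not_dvd_index (h1.trans ?_)
  set N := Subgroup.normalizer ((P : Subgroup G) : Set G)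
  have hCN : C ≤ N := fun c hc => by
    rw [Subgroup.mem_normalizer_iff]
    intro u
    constructor
    · intro hu
      rw [← Subgroup.mem_centralizer_iff.1 hc u hu, mul_inv_cancel_right]; exact hu
    · intro hu
      have h5 := Subgroup.mem_centralizer_iff.1 hc _ hu
      rw [mul_assoc (c * u), inv_mul_cancel, mul_one] at h5
      have h6 : c * u * c⁻¹ = u := (mul_left_cancel h5).symm
      exact h6 ▸ hu
  have hPN : (P : Subgroup G) ≤ N := Subgroup.le_normalizer
  have h4 : ((P : Subgroup G).subgroupOf N).relIndex (C.subgroupOf N) ∣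
      ((P : Subgroup G).subgroupOf N).index := Subgroup.relIndex_dvd_index_of_normal _ _
  rw [Subgroup.relIndex_subgroupOf hCN] at h4
  exact h4.trans (Subgroup.relIndex_dvd_index_of_le hPN)

/-- The normalised sum of a character over the regular elements. -/
noncomputable def regSum {G : Type*} [Group G] [Fintype G] (p : ℕ) (χ : G → ℂ) : ℂ :=
  ∑ x ∈ Finset.univ.filter (fun x : G => ¬ p ∣ orderOf x), χ x / χ 1

theorem regSum_one {G : Type*} [Group G] [Fintype G] {p : ℕ} (one : Cfsg.IrrCharacter G)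
    (h : (one : G → ℂ) = fun _ => 1) :
    regSum p (one : G → ℂ) = (Nat.card {g : G // ¬ p ∣ orderOf g} : ℂ) := by
  classical
  simp [regSum, h, Nat.card_eq_fintype_card, Fintype.card_subtype]

theorem regSum_eq_zero {G : Type*} [Group G] [Fintype G] {p : ℕ} {M : Ideal Cfsg.AlgInt}
    (hM : Cfsg.IsPModular p M) (χ one : Cfsg.IrrCharacter G) (h : (one : G → ℂ) = fun _ => 1)
    (hne : ¬ Cfsg.SameBlock M (χ : G → ℂ) (one : G → ℂ)) : regSum p (χ : G → ℂ) = 0 := by
  have h1 := regular_inner_eq_zero hM hne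
  simp only [h, map_one, mul_one] at h1
  rw [regSum, ← Finset.sum_div, h1, zero_div]

theorem regSum_congr {G : Type*} [Group G] [Fintype G] {p : ℕ} {M : Ideal Cfsg.AlgInt}
    (hM : Cfsg.IsPModular p M) (H : Subgroup G) [Fintype H] (ξ : Cfsg.IrrCharacter H)
    (χ : Cfsg.IrrCharacter G)
    (hc : ∀ g : G, Cfsg.MemLocalIdeal M
      (Cfsg.inducedCentralChar H (ξ : H → ℂ) g - Cfsg.centralChar (χ : G → ℂ) g)) :
    Sm M (regSum p (ξ : H → ℂ) - regSum p (χ : G → ℂ)) := by
  classical
  have := Fintype.ofFinite (ConjClasses G)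
  have hreg : ∀ (g h : G), (¬ p ∣ orderOf (h * g * h⁻¹)) ↔ ¬ p ∣ orderOf g := fun g h => by
    rw [show h * g * h⁻¹ = MulAut.conj h g from rfl, MulEquiv.orderOf_eq]
  set z : A G := mkA (fun g : G => if ¬ p ∣ orderOf g then 1 else 0) with hz
  have hzC : IsC z := isC_mkA (fun g h => by simp only [hreg])
  have hG : regSum p (χ : G → ℂ) =
      ∑ C : ConjClasses G, z.coeff C.out * Cfsg.centralChar (χ : G → ℂ) C.out := by
    rw [← om_eq_sum_classes (classFun_irr χ) hzC, om, tr, Finset.sum_div, regSum, Finset.sum_filter]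
    refine Finset.sum_congr rfl fun g _ => ?_
    simp only [hz, coeff_mkA]
    split_ifs <;> simp
  have hH : regSum p (ξ : H → ℂ) =
      ∑ C : ConjClasses G, z.coeff C.out * Cfsg.inducedCentralChar H (ξ : H → ℂ) C.out := by
    have e : ∀ C : ConjClasses G, Cfsg.inducedCentralChar H (ξ : H → ℂ) C.out =
        ∑ h ∈ Finset.univ.filter (fun h : H => ConjClasses.mk (h : G) = C),
          (ξ : H → ℂ) h / (ξ : H → ℂ) 1 := fun C => by
      rw [Cfsg.inducedCentralChar, finsum_mem_eq_finite_toFinset_sum _ (Set.toFinite _)]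
      refine Finset.sum_congr ?_ fun _ _ => rfl
      ext h
      simp only [Set.Finite.mem_toFinset, Finset.mem_filter, Finset.mem_univ, true_and]
      show IsConj C.out (h : G) ↔ _
      rw [← ConjClasses.mk_eq_mk_iff_isConj]
      have hout : ConjClasses.mk C.out = C := Quotient.out_eq _
      rw [hout]
      exact eq_comm
    rw [regSum, Finset.sum_filter, ← Finset.sum_fiberwise Finset.univ (fun h : H => ConjClasses.mk (h : G))]
    refine Finset.sum_congr rfl fun C _ => ?_
    rw [e, Finset.mul_sum]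
    refine Finset.sum_congr rfl fun h hh => ?_
    have hout : ConjClasses.mk C.out = C := Quotient.out_eq _
    have hC : IsConj C.out (h : G) :=
      ConjClasses.mk_eq_mk_iff_isConj.1 (hout.trans (Finset.mem_filter.1 hh).2.symm)
    rw [hzC.apply_conj hC, hz, coeff_mkA]
    simp only [Subgroup.orderOf_coe]
    split_ifs <;> simp
  rw [hG, hH, ← Finset.sum_sub_distrib]
  refine sm_sum _ fun C _ => ?_
  rw [← mul_sub, hz, coeff_mkA]
  refine (sm_of_memLocalIdeal hM (hc C.out)).mul_left ?_
  split_ifs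
  exacts [int'_zero, int'_one]

end Cfsg.Agent.BrauerBlocksRegular
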