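import Cfsg.Agent.Lib.BrauerCharReduction

/-!
# The irreducible Brauer characters of a block

For a block `b` the set `blockSet p M b` of Brauer characters is a basis of the span of the regular
parts of the members of `b`; automorphisms permute the Brauer characters.
-/

set_option autoImplicit false

open scoped MonoidAlgebra
open Polynomial

namespace Cfsg.Agent.BrauerCharBlock

open Cfsg BrauerBlocksVal BrauerCharReduction BlockSubsections79 BlockTheoryIdem

attribute [local instance] Classical.propDecidable

set_option linter.unusedSectionVars false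

universe u

variable {p : ℕ} {M : Ideal AlgInt} {C : Type u} [Group C] [Fintype C]

/-- The reduced central character. -/
noncomputable def centC (M : Ideal AlgInt) (φ : C → ℂ) (g : C) : KM M :=
  redC M (centralChar φ g)

/-- An irreducible character reduces to a representation with its reduced central character whose
Brauer character is the regular part. -/
theorem exists_reduction (hM : IsPModular p M) (φ : IrrCharacter C) :
    ∃ (d : ℕ) (ρ : Representation (KM M) C (Fin d → KM M)),
      Cent ρ (centC M (φ : C → ℂ)) ∧ BrauerCharReduction.beta p ρ = pRegularPart p (φ : C → ℂ) := by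
  obtain ⟨d, ρ, hρ, hφ⟩ := φ.2
  obtain ⟨P, hP, hint⟩ := DefectZeroReduction.exists_integral (vs M) (DefectZeroReduction.mat ρ)
  let A : C →* Matrix (Fin d) (Fin d) ℂ := DefectZeroReduction.conjHom (DefectZeroReduction.mat ρ) P hP
  let R : C →* Matrix (Fin d) (Fin d) (vs M) :=
    { toFun := fun g => Matrix.of fun i j => ⟨A g i j, hint g i j⟩
      map_one' := by
        apply Matrix.map_injective (f := (vs M).subtype) Subtype.val_injective
        show A 1 = (1 : Matrix _ _ (vs M)).map (vs M).subtype
        rw [map_one, Matrix.map_one _ (map_zero _) (map_one _)]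
      map_mul' := fun g h => by
        apply Matrix.map_injective (f := (vs M).subtype) Subtype.val_injective
        show A (g * h) = _
        rw [map_mul]
        show _ = ((_ * _ : Matrix _ _ (vs M))).map (vs M).subtype
        rw [Matrix.map_mul]
        rfl }
  have hR : ∀ g, (R g).map (vs M).subtype = A g := fun g => rfl
  let σ : Representation (KM M) C (Fin d → KM M) :=
    (Matrix.toLinAlgEquiv' (R := KM M) (n := Fin d)).toMonoidHom.comp
      ((res M).mapMatrix.toMonoidHom.comp R)
  have hσ : ∀ g, σ g = Matrix.toLin' ((R g).map (res M)) := fun g => rfl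
  have hA : ∀ g, A g = P⁻¹ * DefectZeroReduction.mat ρ g * P := fun g => rfl
  refine ⟨d, σ, fun g => ?_, ?_⟩
  · have hci : IsIntegral ℤ (centralChar (φ : C → ℂ) g) :=
      BrauerBlocksCentral.isIntegral_centralChar φ.2 g
    have hV : Int' M (centralChar (φ : C → ℂ) g) := by
      obtain ⟨a, ha⟩ := IsIntegrallyClosed.isIntegral_iff.1 (hci.tower_top (A := vs M))
      exact ha ▸ a.2
    have hcl : IsClassFunction C (φ : C → ℂ) := BrauerBlocksCentral.classFun_irr φ
    have hsum : (∑ x ∈ Finset.univ.filter (IsConj g), ρ x) = centralChar (φ : C → ℂ) g • 1 := by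
      rw [← BrauerBlocksCentral.om_classSum hcl, ← hφ]
      rw [← BrauerBlocksCentral.asAlgebraHom_central ρ (BrauerBlocksCentral.isC_classSum g)]
      conv_rhs => rw [BrauerBlocksCentral.sum_single_coeff (BrauerBlocksCentral.classSum g)]
      rw [map_sum, Finset.sum_filter]
      refine Finset.sum_congr rfl fun x _ => ?_
      rw [Representation.asAlgebraHom_single, BrauerBlocksCentral.coeff_classSum]
      split_ifs <;> simp
    have h1 : (∑ x ∈ Finset.univ.filter (IsConj g), A x) = centralChar (φ : C → ℂ) g • 1 := by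
      have h2 := congrArg LinearMap.toMatrix' hsum
      rw [map_sum, map_smul] at h2
      simp only [hA, ← Finset.sum_mul, ← Finset.mul_sum]
      rw [show (∑ x ∈ Finset.univ.filter (IsConj g), DefectZeroReduction.mat ρ x) =
        centralChar (φ : C → ℂ) g • 1 by rw [← LinearMap.toMatrix'_id]; exact h2]
      rw [mul_smul_comm, Matrix.mul_one, smul_mul_assoc, Matrix.nonsing_inv_mul P hP]
    have h3 : (∑ x ∈ Finset.univ.filter (IsConj g), R x) = (⟨_, hV⟩ : vs M) • 1 := by
      apply Matrix.map_injective (f := (vs M).subtype) Subtype.val_injective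
      show (vs M).subtype.mapMatrix _ = (vs M).subtype.mapMatrix _
      rw [map_sum]
      refine Eq.trans h1 ?_
      ext i j
      by_cases hij : i = j <;> simp [Matrix.one_apply, hij]
    have h4 : (∑ x ∈ Finset.univ.filter (IsConj g), (R x).map (res M)) =
        centC M (φ : C → ℂ) g • 1 := by
      have := congrArg (res M).mapMatrix h3
      rw [map_sum] at this
      refine this.trans ?_
      ext i j
      by_cases hij : i = j <;> simp [Matrix.one_apply, hij, centC, redC, hV]
    rw [Finset.sum_congr rfl fun x _ => hσ x, ← map_sum, h4, map_smul, Matrix.toLin'_one]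
    rfl
  · funext g
    rw [BrauerCharReduction.beta, pRegularPart]
    by_cases hg : IsPRegular p g
    swap
    · rw [if_neg hg, if_neg hg]
    rw [if_pos hg, if_pos hg]
    obtain ⟨b, μ, hb, hμ, -, hpow⟩ := CharBasic.exists_rep_eigenbasis ρ g
    have hval : (φ : C → ℂ) g = ∑ i, μ i := by
      rw [← hφ]; simpa using hpow 1
    have hord : orderOf g ≠ 0 := (isOfFinOrder_of_finite g).orderOf_pos.ne'
    let ν : Fin (Module.finrank ℂ (Fin d → ℂ)) → vs M := fun i => ⟨μ i, int'_of_pow_eq_one hord (hμ i)⟩
    have hcharA : (A g).charpoly = ∏ i, (X - Polynomial.C (μ i)) := by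
      rw [hA]
      obtain ⟨U, hU⟩ : IsUnit P := (Matrix.isUnit_iff_isUnit_det P).2 hP
      rw [← hU, Matrix.charpoly_units_conj']
      show (LinearMap.toMatrix' (ρ g)).charpoly = _
      rw [← LinearMap.toMatrix_eq_toMatrix', LinearMap.charpoly_toMatrix,
        ← LinearMap.charpoly_toMatrix (ρ g) b,
        show LinearMap.toMatrix b b (ρ g) = Matrix.diagonal μ from ?_, Matrix.charpoly_diagonal]
      ext i j
      rw [LinearMap.toMatrix_apply, hb, map_smul, b.repr_self, Finsupp.smul_apply,
        Matrix.diagonal_apply]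
      by_cases hij : i = j
      · subst hij; simp
      · simp [hij, Ne.symm hij]
    have hcharR : (R g).charpoly = ∏ i, (X - Polynomial.C (ν i)) := by
      apply map_injective (vs M).subtype Subtype.val_injective
      rw [← Matrix.charpoly_map, hR, hcharA, Polynomial.map_prod]
      exact Finset.prod_congr rfl fun i _ => by simp [ν]
    have hchar : (σ g).charpoly = ∏ i, (X - Polynomial.C (res M (ν i))) := by
      rw [hσ, Matrix.charpoly_toLin', Matrix.charpoly_map, hcharR, Polynomial.map_prod]
      exact Finset.prod_congr rfl fun i _ => by simp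
    rw [hchar, show (∏ i, (X - Polynomial.C (res M (ν i)))) =
      ((Finset.univ.val.map fun i => res M (ν i)).map fun a => X - Polynomial.C a).prod by
        rw [Multiset.map_map]; rfl, roots_multiset_prod_X_sub_C, Multiset.map_map, hval]
    refine congrArg Multiset.sum (Multiset.map_congr rfl fun i _ => ?_)
    show lift M _ (res M (ν i)) = μ i
    rw [← redC_val]
    refine lift_redC hM (BlockContrib.cofactor_not_dvd hM.1) ?_
    have hd : orderOf g ∣ BlockContrib.cofactor p C :=
      orderOf_dvd_of_pow_eq_one (pow_cofactor hM.1 hg)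
    obtain ⟨k, hk⟩ := hd
    show μ i ^ _ = 1
    rw [hk, pow_mul, hμ i, one_pow]

/-- An element of the group algebra acting as `T` on one irreducible representation and as zero on
inequivalent ones. -/
theorem exists_separating {ι : Type} [Fintype ι] [DecidableEq ι] (d : ι → ℕ)
    (ρ : ∀ i, Representation (KM M) C (Fin (d i) → KM M)) (hs : ∀ i, Simp (ρ i))
    (hne : ∀ i j, i ≠ j → ¬ Iso (ρ i) (ρ j)) (i₀ : ι) (T : Module.End (KM M) (Fin (d i₀) → KM M)) :
    ∃ a : (KM M)[C], (ρ i₀).asAlgebraHom a = T ∧ ∀ j, j ≠ i₀ → (ρ j).asAlgebraHom a = 0 := by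
  letI hmod : ∀ i, Module (KM M)[C] (Fin (d i) → KM M) := fun i =>
    Module.compHom _ (ρ i).asAlgebraHom.toRingHom
  have hact : ∀ i (a : (KM M)[C]) (x : Fin (d i) → KM M), a • x = (ρ i).asAlgebraHom a x :=
    fun i a x => rfl
  have halg : ∀ i (c : KM M) (x : Fin (d i) → KM M),
      algebraMap (KM M) (KM M)[C] c • x = c • x := by
    intro i c x
    rw [hact, AlgHom.commutes]
    rfl
  have hsingle : ∀ i (g : C) (x : Fin (d i) → KM M),
      MonoidAlgebra.single g (1 : KM M) • x = ρ i g x := by
    intro i g x
    rw [hact, Representation.asAlgebraHom_single_one]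
  haveI hsim : ∀ i, IsSimpleModule (KM M)[C] (Fin (d i) → KM M) := by
    intro i
    have := (hs i).1
    refine (isSimpleModule_iff _ _).2 { eq_bot_or_eq_top := fun W => ?_ }
    let W' : Submodule (KM M) (Fin (d i) → KM M) :=
      { carrier := W
        add_mem' := W.add_mem
        zero_mem' := W.zero_mem
        smul_mem' := fun c x hx => by
          show c • x ∈ W
          rw [← halg i c x]; exact W.smul_mem _ hx }
    have h := (hs i).2 W' fun g v hv => by
      show ρ i g v ∈ W
      rw [← hsingle i g v]; exact W.smul_mem _ hv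
    rcases h with h | h
    · exact Or.inl (SetLike.ext fun x => by simpa [W'] using SetLike.ext_iff.1 h x)
    · exact Or.inr (SetLike.ext fun x => by simpa [W'] using SetLike.ext_iff.1 h x)
  let V := ∀ i, Fin (d i) → KM M
  have hcomp : ∀ (f : Module.End (KM M)[C] V), ∃ c : ι → KM M, ∀ (v : V) i, f v i = c i • v i := by
    intro f
    let l : ∀ j i, (Fin (d j) → KM M) →ₗ[KM M] (Fin (d i) → KM M) := fun j i =>
      { toFun := fun x => f (Pi.single j x) i
        map_add' := fun x y => by rw [Pi.single_add, map_add]; rfl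
        map_smul' := fun c x => by
          rw [RingHom.id_apply, ← halg j c x, Pi.single_smul, map_smul, Pi.smul_apply, halg] }
    have hl : ∀ j i g x, l j i (ρ j g x) = ρ i g (l j i x) := by
      intro j i g x
      show f (Pi.single j (ρ j g x)) i = ρ i g (f (Pi.single j x) i)
      rw [← hsingle j g x, Pi.single_smul, map_smul, Pi.smul_apply, hsingle]
    have hd : ∀ i, ∃ c : KM M, l i i = c • 1 := fun i =>
      schur_scalar (hs i) (l i i) (hl i i)
    choose c hc using hd
    refine ⟨c, fun v i => ?_⟩
    have hv : v = ∑ j, (Pi.single j (v j) : V) := (Finset.univ_sum_single v).symm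
    conv_lhs => rw [hv]
    rw [map_sum, Finset.sum_apply, Finset.sum_eq_single i]
    · exact LinearMap.congr_fun (hc i) (v i)
    · intro j _ hj
      exact LinearMap.congr_fun (schur_zero (hs j) (hs i) (hne j i hj) (l j i) (hl j i)) (v j)
    · simp
  let F : Module.End (Module.End (KM M)[C] V) V :=
    { toFun := fun v => Pi.single i₀ (T (v i₀))
      map_add' := fun v w => by
        show (Pi.single i₀ (T ((v + w) i₀)) : V) = _
        rw [show (v + w) i₀ = v i₀ + w i₀ from rfl, map_add, Pi.single_add]
      map_smul' := fun f v => by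
        obtain ⟨c, hc⟩ := hcomp f
        funext i
        rw [RingHom.id_apply, Module.End.smul_def, Module.End.smul_def, hc, hc]
        by_cases h : i = i₀
        · subst h; simp
        · simp [h] }
  let e : (j : ι) × Fin (d j) → V := fun q => Pi.single q.1 (Pi.single q.2 1)
  obtain ⟨a, ha⟩ := jacobson_density F (Finset.univ.image e)
  have hbasis : ∀ (j : ι) (k : Fin (d j)), F (e ⟨j, k⟩) j = (ρ j).asAlgebraHom a (Pi.single k 1) := by
    intro j k
    rw [ha _ (Finset.mem_image.2 ⟨⟨j, k⟩, Finset.mem_univ _, rfl⟩), Pi.smul_apply, hact]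
    simp [e]
  refine ⟨a, LinearMap.pi_ext' fun k => LinearMap.ext_ring ?_,
    fun j hj => LinearMap.pi_ext' fun k => LinearMap.ext_ring ?_⟩
  · have h := hbasis i₀ k
    simp [F, e] at h ⊢
    exact h.symm
  · have h := hbasis j k
    simp [F, e, hj] at h ⊢
    exact h.symm

/-- Brauer characters of pairwise inequivalent irreducible representations are independent. -/
theorem linearIndependent_beta (hM : IsPModular p M) {ι : Type} [Fintype ι] (d : ι → ℕ)
    (ρ : ∀ i, Representation (KM M) C (Fin (d i) → KM M)) (hs : ∀ i, Simp (ρ i))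
    (hne : ∀ i j, i ≠ j → ¬ Iso (ρ i) (ρ j)) :
    LinearIndependent ℂ fun i => BrauerCharReduction.beta p (ρ i) := by
  classical
  rw [Fintype.linearIndependent_iff]
  intro c hc
  by_contra hcon
  push_neg at hcon
  obtain ⟨i₁, hi₁⟩ := hcon
  obtain ⟨i₀, -, hmax⟩ := Finset.exists_max_image (Finset.univ : Finset ι)
    (fun i => (vs M).valuation (c i)) ⟨i₁, Finset.mem_univ _⟩
  have h0 : c i₀ ≠ 0 := fun e => hi₁ (by simpa [e] using hmax i₁ (Finset.mem_univ _))
  have hint : ∀ i, Int' M (c i / c i₀) := fun i => by
    rw [int'_iff, map_div₀]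
    exact div_le_one_of_le₀ (hmax i (Finset.mem_univ _)) zero_le
  let c' : ι → KM M := fun i => res M ⟨_, hint i⟩
  have hreg : ∀ g : C, ¬ p ∣ orderOf g →
      ∑ i, c' i * LinearMap.trace (KM M) _ (ρ i g) = 0 := by
    intro g hg
    have hb : ∀ i, Int' M (BrauerCharReduction.beta p (ρ i) g) := fun i => (redC_beta hM (ρ i) hg).2
    have h : (∑ i, (⟨_, hint i⟩ : vs M) * ⟨_, hb i⟩ : vs M) = 0 := by
      apply Subtype.val_injective
      push_cast
      simp only [div_mul_eq_mul_div, ← Finset.sum_div]
      have := congrFun hc g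
      simp only [Finset.sum_apply, Pi.smul_apply, smul_eq_mul, Pi.zero_apply] at this
      rw [this, zero_div]
    have h' := congrArg (res M) h
    rw [map_sum, map_zero] at h'
    rw [← h']
    refine Finset.sum_congr rfl fun i _ => ?_
    rw [map_mul, ← (redC_beta hM (ρ i) hg).1, redC, dif_pos (hb i)]
  have hall : ∀ g : C, ∑ i, c' i * LinearMap.trace (KM M) _ (ρ i g) = 0 := by
    intro g
    obtain ⟨x, y, hxy, hcom, hx, hy⟩ := BlockTheoryIdem.exists_pPart hM.1 g
    rw [← hreg y hy]
    exact Finset.sum_congr rfl fun i _ => by rw [← hxy, trace_mul_pPart hM (ρ i) hcom hx]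
  obtain ⟨k⟩ : Nonempty (Fin (d i₀)) := by
    rcases isEmpty_or_nonempty (Fin (d i₀)) with h | h
    · exact absurd (hs i₀).1 (not_nontrivial_iff_subsingleton.2 inferInstance)
    · exact h
  let T : Module.End (KM M) (Fin (d i₀) → KM M) :=
    LinearMap.smulRight (LinearMap.proj k) (Pi.single k 1)
  obtain ⟨a, ha, ha'⟩ := exists_separating d ρ hs hne i₀ T
  have hlin : ∀ b : (KM M)[C], ∑ i, c' i * LinearMap.trace (KM M) _ ((ρ i).asAlgebraHom b) = 0 := by
    intro b
    induction b using MonoidAlgebra.induction_on with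
    | of g => simpa [Representation.asAlgebraHom_single_one] using hall g
    | add f g hf hg =>
      simp only [map_add, mul_add, Finset.sum_add_distrib]
      rw [hf, hg, add_zero]
    | smul r f hf =>
      simp only [map_smul, smul_eq_mul, mul_left_comm _ r]
      rw [← Finset.mul_sum, hf, mul_zero]
  have h := hlin a
  rw [Finset.sum_eq_single i₀] at h
  · rw [ha] at h
    have htr : LinearMap.trace (KM M) _ T = 1 := by simp [T, LinearMap.trace_smulRight]
    rw [htr, mul_one] at h
    have : c' i₀ = 1 := by
      simp only [c', div_self h0]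
      exact map_one (res M)
    exact one_ne_zero (this.symm.trans h)
  · intro j _ hj
    rw [ha' j hj, map_zero, mul_zero]
  · simp

/-- The Brauer characters of the block `b`. -/
def blockSet (p : ℕ) (M : Ideal AlgInt) (b : Set (IrrCharacter C)) : Set (C → ℂ) :=
  {f | ∃ φ ∈ b, f ∈ ibrSet p (centC M (φ : C → ℂ))}

theorem pRegularPart_mem_span (hM : IsPModular p M) {b : Set (IrrCharacter C)} {φ : IrrCharacter C}
    (hφ : φ ∈ b) : pRegularPart p (φ : C → ℂ) ∈ Submodule.span ℂ (blockSet p M b) := by
  obtain ⟨d, ρ, hc, hbeta⟩ := exists_reduction hM φ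
  rw [← hbeta]
  refine Submodule.span_mono (s := ibrSet p (centC M (φ : C → ℂ))) (t := blockSet p M b) (fun f hf => ⟨φ, hφ, hf⟩) ?_
  exact beta_mem_span _ _ ρ rfl hc

theorem regSpan_le_span (hM : IsPModular p M) (b : Set (IrrCharacter C)) :
    regSpan p b ≤ Submodule.span ℂ (blockSet p M b) := by
  refine Submodule.span_le.2 ?_
  rintro _ ⟨φ, hφ, rfl⟩
  exact pRegularPart_mem_span hM hφ

theorem beta_class (hM : IsPModular p M) {V : Type} [AddCommGroup V] [Module (KM M) V]
    [FiniteDimensional (KM M) V] (ρ : Representation (KM M) C V) :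
    IsClassFunction C (BrauerCharReduction.beta p ρ) := by
  intro g h
  let α : C ≃* C := MulAut.conj h
  rw [show h * g * h⁻¹ = α g from rfl, ← beta_comp α ρ g]
  refine congrFun (beta_conj (ρ.comp α.toMonoidHom) ρ
    { (ρ h⁻¹ : V →ₗ[KM M] V) with
      invFun := ρ h
      left_inv := fun v => by
        show ρ h (ρ h⁻¹ v) = v
        rw [← Module.End.mul_apply, ← map_mul, mul_inv_cancel, map_one]; rfl
      right_inv := fun v => by
        show ρ h⁻¹ (ρ h v) = v
        rw [← Module.End.mul_apply, ← map_mul, inv_mul_cancel, map_one]; rfl } fun x v => ?_) g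
  show ρ h⁻¹ (ρ (h * x * h⁻¹) v) = ρ x (ρ h⁻¹ v)
  rw [← Module.End.mul_apply, ← map_mul, ← Module.End.mul_apply, ← map_mul]
  congr 2
  group

/-- The Brauer characters form an independent set. -/
theorem linearIndepOn_ibr (hM : IsPModular p M) :
    LinearIndepOn ℂ id {f : C → ℂ | ∃ (d : ℕ) (ρ : Representation (KM M) C (Fin d → KM M)),
      Simp ρ ∧ f = BrauerCharReduction.beta p ρ} := by
  classical
  rw [linearIndepOn_iff_linearIndepOn_finset]
  intro s hs
  have hch : ∀ f : s, ∃ (d : ℕ) (ρ : Representation (KM M) C (Fin d → KM M)),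
      Simp ρ ∧ (f : C → ℂ) = BrauerCharReduction.beta p ρ := fun f => hs f.2
  choose d ρ hsimp hval using hch
  let e := s.equivFin.symm
  have h := linearIndependent_beta hM (fun i => d (e i)) (fun i => ρ (e i)) (fun i => hsimp _)
    fun i j hij => by
      rintro ⟨φ, hφ⟩
      exact hij (e.injective (Subtype.ext
        ((hval _).trans ((beta_conj _ _ φ hφ).trans (hval _).symm))))
  have h' : LinearIndependent ℂ fun f : s => BrauerCharReduction.beta p (ρ (e (e.symm f))) :=
    h.comp e.symm e.symm.injective
  show LinearIndependent ℂ fun f : s => (f : C → ℂ)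
  convert h' using 1
  funext f
  symm
  show BrauerCharReduction.beta p (ρ (e (e.symm f))) = _
  rw [e.apply_symm_apply]
  exact (hval f).symm

theorem eq_block_of_mem_blockSet (hM : IsPModular p M) {b b' : Set (IrrCharacter C)}
    (hb : IsPBlock M b) (hb' : IsPBlock M b') {f : C → ℂ} (hf : f ∈ blockSet p M b)
    (hf' : f ∈ blockSet p M b') : b = b' := by
  obtain ⟨φ, hφ, d, ρ, hρ, hc, rfl⟩ := hf
  obtain ⟨ψ, hψ, d', σ, hσ, hc', he⟩ := hf'
  have hiso : Iso ρ σ := by
    by_contra hne
    let dd : Bool → ℕ := fun i => bif i then d else d'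
    let rr : ∀ i, Representation (KM M) C (Fin (dd i) → KM M)
      | true => ρ
      | false => σ
    have hli := linearIndependent_beta hM dd rr (fun i => by cases i <;> assumption) (fun i j hij => by
      cases i <;> cases j
      · exact absurd rfl hij
      · rintro ⟨e, he'⟩
        exact hne ⟨e.symm, fun g v => e.injective (by rw [e.apply_symm_apply, he', e.apply_symm_apply])⟩
      · exact hne
      · exact absurd rfl hij)
    exact Bool.noConfusion (hli.injective (a₁ := true) (a₂ := false) he)
  obtain ⟨e, he'⟩ := hiso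
  have hcc : centC M (φ : C → ℂ) = centC M (ψ : C → ℂ) := cent_unique hσ (hc.equiv σ e he') hc'
  have hint : ∀ (χ : IrrCharacter C) g, IsIntegral ℤ (centralChar (χ : C → ℂ) g) := fun χ g =>
    BrauerBlocksCentral.isIntegral_centralChar χ.2 g
  have hsame : SameBlock M (φ : C → ℂ) (ψ : C → ℂ) := fun g => by
    rw [memLocalIdeal_iff hM (algNum_of_isIntegral ((hint φ g).sub (hint ψ g))),
      ← redC_eq_iff (int'_of_isIntegral hM (hint φ g)) (int'_of_isIntegral hM (hint ψ g))]
    exact congrFun hcc g
  rw [eq_blockOf_of_mem hM hb hφ, eq_blockOf_of_mem hM hb' hψ, blockOf_congr hM hsame]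

theorem blockSet_subset_ibr (b : Set (IrrCharacter C)) :
    blockSet p M b ⊆ {f : C → ℂ | ∃ (d : ℕ) (ρ : Representation (KM M) C (Fin d → KM M)),
      Simp ρ ∧ f = BrauerCharReduction.beta p ρ} := by
  rintro f ⟨φ, -, d, ρ, hρ, -, rfl⟩
  exact ⟨d, ρ, hρ, rfl⟩

/-- The Brauer characters of a block lie in the span of its regular parts. -/
theorem blockSet_subset_regSpan (hM : IsPModular p M) {b : Set (IrrCharacter C)} (hb : IsPBlock M b) :
    blockSet p M b ⊆ regSpan p b := by
  intro f hf
  obtain ⟨φ₀, hφ₀, d, ρ, hρ, hc, rfl⟩ := id hf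
  set β := BrauerCharReduction.beta p ρ with hβ
  have hsum : β = ∑ φ : IrrCharacter C, classInner β (φ : C → ℂ) • pRegularPart p (φ : C → ℂ) := by
    funext g
    simp only [Finset.sum_apply, Pi.smul_apply, smul_eq_mul, pRegularPart]
    by_cases hg : IsPRegular p g
    · conv_lhs => rw [CharBasicOrth.eq_sum_classInner (show IsClassFunction C β from beta_class hM ρ)]
      simp [hg]
    · simp [hg, hβ, BrauerCharReduction.beta]
  let v : C → ℂ := ∑ φ : IrrCharacter C,
    if φ ∈ b then classInner β (φ : C → ℂ) • pRegularPart p (φ : C → ℂ) else 0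
  let w : C → ℂ := ∑ φ : IrrCharacter C,
    if φ ∈ b then 0 else classInner β (φ : C → ℂ) • pRegularPart p (φ : C → ℂ)
  have hvw : β = v + w := by
    conv_lhs => rw [hsum]
    rw [← Finset.sum_add_distrib]
    exact Finset.sum_congr rfl fun φ _ => by split_ifs <;> simp
  have hv : v ∈ regSpan p b := Submodule.sum_mem _ fun φ _ => by
    split_ifs with h
    · exact Submodule.smul_mem _ _ (Submodule.subset_span ⟨φ, h, rfl⟩)
    · exact zero_mem _
  let S : Set (C → ℂ) := {f | (∃ (d : ℕ) (ρ : Representation (KM M) C (Fin d → KM M)),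
      Simp ρ ∧ f = BrauerCharReduction.beta p ρ) ∧ f ∉ blockSet p M b}
  have hw : w ∈ Submodule.span ℂ S := Submodule.sum_mem _ fun φ _ => by
    split_ifs with h
    · exact zero_mem _
    · refine Submodule.smul_mem _ _ (Submodule.span_mono ?_
        (pRegularPart_mem_span hM (self_mem_blockOf hM φ)))
      intro f hf'
      refine ⟨blockSet_subset_ibr _ hf', fun hf'' => h ?_⟩
      rw [eq_block_of_mem_blockSet hM hb (isPBlock_blockOf φ) hf'' hf']
      exact self_mem_blockOf hM φ
  have hdis : Disjoint (Submodule.span ℂ (id '' blockSet p M b)) (Submodule.span ℂ (id '' S)) :=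
    ((linearIndepOn_ibr hM).mono (Set.union_subset (blockSet_subset_ibr b) fun f hf => hf.1)
      |> (linearIndepOn_union_iff (Set.disjoint_left.2 fun f h1 h2 => h2.2 h1)).1).2.2
  rw [Set.image_id, Set.image_id] at hdis
  have hw0 : w = 0 := Submodule.disjoint_def.1 hdis w
    (by
      rw [show w = β - v by rw [hvw, add_sub_cancel_left]]
      exact sub_mem (Submodule.subset_span hf) (regSpan_le_span hM b hv)) hw
  rw [hw0, add_zero] at hvw
  rw [hvw]
  exact hv

theorem span_blockSet (hM : IsPModular p M) {b : Set (IrrCharacter C)} (hb : IsPBlock M b) :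
    Submodule.span ℂ (blockSet p M b) = regSpan p b :=
  le_antisymm (Submodule.span_le.2 (blockSet_subset_regSpan hM hb)) (regSpan_le_span hM b)

/-- An automorphism sends a Brauer character of a block to one of the same block, up to the
projection. -/
theorem proj_comp (hM : IsPModular p M) {b : Set (IrrCharacter C)} (hb : IsPBlock M b)
    (α : C ≃* C) {f : C → ℂ} (hf : f ∈ blockSet p M b) :
    proj p b (fun y => f (α y)) ∈ blockSet p M b ∨ proj p b (fun y => f (α y)) = 0 := by
  obtain ⟨φ, hφ, d, ρ, hρ, hc, rfl⟩ := id hf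
  let ψ : IrrCharacter C := ⟨(φ : C → ℂ) ∘ α,
    CharBasic.isIrrCharacter_comap α.toMonoidHom α.surjective φ.2⟩
  let σ : Representation (KM M) C (Fin d → KM M) := ρ.comp α.toMonoidHom
  have hσ : Simp σ := ⟨hρ.1, fun W hW => hρ.2 W fun g => by
    obtain ⟨g', rfl⟩ := α.surjective g
    exact hW g'⟩
  have hcσ : Cent σ (centC M (ψ : C → ℂ)) := by
    intro g
    have hidx : centralChar (ψ : C → ℂ) g = centralChar (φ : C → ℂ) (α g) := by
      show centralChar ((φ : C → ℂ) ∘ α) g = _
      rw [centralChar, centralChar, Function.comp_apply, Function.comp_apply, map_one]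
      congr 3
      rw [← BrauerBlocksCentral.ncard_carrier, ← BrauerBlocksCentral.ncard_carrier]
      refine (Set.ncard_image_of_injective _ α.injective).symm.trans (congrArg Set.ncard ?_)
      ext x
      obtain ⟨x', rfl⟩ := α.surjective x
      rw [α.injective.mem_set_image, ConjClasses.mem_carrier_iff_mk_eq,
        ConjClasses.mem_carrier_iff_mk_eq, ConjClasses.mk_eq_mk_iff_isConj,
        ConjClasses.mk_eq_mk_iff_isConj]
      exact ⟨fun h => α.toMonoidHom.map_isConj h, fun h => by
        simpa using α.symm.toMonoidHom.map_isConj h⟩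
    rw [centC, hidx, ← centC, ← hc (α g)]
    refine Finset.sum_equiv α.toEquiv (fun x => ?_) fun x _ => rfl
    simp only [Finset.mem_filter, Finset.mem_univ, true_and, MulEquiv.coe_toEquiv]
    exact ⟨fun h => α.toMonoidHom.map_isConj h, fun h => by
      simpa using α.symm.toMonoidHom.map_isConj h⟩
  have hval : (fun y => BrauerCharReduction.beta p ρ (α y)) = BrauerCharReduction.beta p σ :=
    funext fun y => (beta_comp α ρ y).symm
  have hmem : BrauerCharReduction.beta p σ ∈ blockSet p M (blockOf M (ψ : C → ℂ)) :=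
    ⟨ψ, self_mem_blockOf hM ψ, d, σ, hσ, hcσ, rfl⟩
  rw [hval, proj_regSpan hM hb (isPBlock_blockOf ψ)
    (blockSet_subset_regSpan hM (isPBlock_blockOf ψ) hmem)]
  split_ifs with h
  · exact Or.inl (h ▸ hmem)
  · exact Or.inr rfl

end Cfsg.Agent.BrauerCharBlock
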