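import Cfsg.Agent.Lib.BrauerCharBlock
import Cfsg.Agent.Lib.BrauerInduction
import Cfsg.Agent.Lib.FittingHallBasic

/-!
# Integrality of Brauer characters

Regular parts of irreducible characters are sums of irreducible Brauer characters; a Brauer
character extends to a generalized character, so it is an integral combination of the regular parts
of the irreducible characters of its block.
-/

set_option autoImplicit false
set_option linter.unusedSectionVars false

open scoped ComplexConjugate MonoidAlgebra
open Polynomial

namespace Cfsg.Agent.BrauerCharLift30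

open Cfsg BrauerBlocksVal BrauerCharReduction BrauerCharBlock BlockSubsections79
open CharBasic CharBasicOrth CharBasicDecomp

attribute [local instance] Classical.propDecidable

universe u

variable {p : ℕ} {M : Ideal AlgInt} {C : Type u} [Group C] [Fintype C]

/-- `Cent`, demanded only at the elements of `S`. -/
def CentOn {V : Type*} [AddCommGroup V] [Module (KM M) V] (ρ : Representation (KM M) C V)
    (S : Set C) (c : C → KM M) : Prop :=
  ∀ g ∈ S, (∑ x ∈ Finset.univ.filter (IsConj g), ρ x) = c g • 1

/-- The Brauer characters of the irreducible representations satisfying `CentOn`. -/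
def ibrOn (p : ℕ) (S : Set C) (c : C → KM M) : Set (C → ℂ) :=
  {f | ∃ (d : ℕ) (ρ : Representation (KM M) C (Fin d → KM M)),
    Simp ρ ∧ CentOn ρ S c ∧ f = BrauerCharReduction.beta p ρ}

/-- The Brauer character is a sum of irreducible Brauer characters. -/
theorem beta_mem_closure {S : Set C} {c : C → KM M} :
    ∀ (n : ℕ) (V : Type) [AddCommGroup V] [Module (KM M) V] [FiniteDimensional (KM M) V]
    (ρ : Representation (KM M) C V), Module.finrank (KM M) V = n → CentOn ρ S c →
      BrauerCharReduction.beta p ρ ∈ AddSubmonoid.closure (ibrOn p S c) := by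
  intro n
  induction n using Nat.strong_induction_on with
  | _ n ih =>
    intro V _ _ _ ρ hn hc
    rcases subsingleton_or_nontrivial V with hs | hs
    · have : BrauerCharReduction.beta p ρ = 0 := by
        funext g
        rw [BrauerCharReduction.beta]
        have hd : (ρ g).charpoly = 1 := by
          refine (LinearMap.charpoly_monic (ρ g)).natDegree_eq_zero.1 ?_
          rw [LinearMap.charpoly_natDegree, Module.finrank_zero_of_subsingleton]
        rw [hd, roots_one]
        simp
      rw [this]; exact zero_mem _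
    by_cases hsimp : Simp ρ
    · let e := (Module.finBasis (KM M) V).equivFun
      let σ : Representation (KM M) C (Fin (Module.finrank (KM M) V) → KM M) :=
        (LinearEquiv.conjRingEquiv e).toMonoidHom.comp ρ
      have he : ∀ g v, e (ρ g v) = σ g (e v) := fun g v => by
        show _ = e (ρ g (e.symm (e v)))
        rw [e.symm_apply_apply]
      refine AddSubmonoid.subset_closure ⟨_, σ, hsimp.equiv σ e he, fun g hg => ?_,
        beta_conj ρ σ e he⟩
      refine LinearMap.ext fun w => ?_
      obtain ⟨v, rfl⟩ := e.surjective w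
      have h1 := congrArg e (LinearMap.congr_fun (hc g hg) v)
      rw [LinearMap.sum_apply, map_sum] at h1
      simp only [LinearMap.smul_apply, Module.End.one_apply, map_smul, he] at h1
      rw [LinearMap.sum_apply, h1]
      rfl
    · simp only [Simp, hs, true_and, not_forall, not_or] at hsimp
      obtain ⟨W, hW, hbot, htop⟩ := hsimp
      let σ : Representation (KM M) C W :=
        { toFun := fun g => (ρ g).restrict (hW g)
          map_one' := LinearMap.ext fun v => Subtype.ext (by simp [LinearMap.restrict_apply])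
          map_mul' := fun a b => LinearMap.ext fun v =>
            Subtype.ext (by simp [LinearMap.restrict_apply]) }
      let τ : Representation (KM M) C (V ⧸ W) :=
        { toFun := fun g => W.mapQ W (ρ g) (hW g)
          map_one' := Submodule.linearMap_qext _ (LinearMap.ext fun v => by simp)
          map_mul' := fun a b => Submodule.linearMap_qext _ (LinearMap.ext fun v => by simp) }
      rw [beta_add ρ W hW σ τ (fun _ => rfl) (fun _ => rfl)]
      have h1 := Submodule.finrank_lt htop
      have h2 : 0 < Module.finrank (KM M) W :=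
        Nat.pos_of_ne_zero fun h => hbot (Submodule.finrank_eq_zero.1 h)
      have h3 := Submodule.finrank_quotient_add_finrank W
      refine add_mem (ih _ (by omega) W σ rfl fun g hg => LinearMap.ext fun v => Subtype.ext ?_)
        (ih _ (by omega) (V ⧸ W) τ rfl fun g hg =>
          Submodule.linearMap_qext _ (LinearMap.ext fun v => ?_))
      · have h4 := LinearMap.congr_fun (hc g hg) (v : V)
        simpa [LinearMap.restrict_apply, σ, LinearMap.sum_apply] using h4
      · have h4 := congrArg W.mkQ (LinearMap.congr_fun (hc g hg) v)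
        simpa [τ, LinearMap.sum_apply] using h4

/-- Regular parts of the members of a block are sums of its Brauer characters. -/
theorem pRegularPart_mem_closure (hM : IsPModular p M) {b : Set (IrrCharacter C)}
    {φ : IrrCharacter C} (hφ : φ ∈ b) :
    pRegularPart p (φ : C → ℂ) ∈ AddSubmonoid.closure (blockSet p M b) := by
  obtain ⟨d, ρ, hc, hbeta⟩ := exists_reduction hM φ
  rw [← hbeta]
  refine AddSubmonoid.closure_mono ?_
    (beta_mem_closure (S := Set.univ) (c := centC M (φ : C → ℂ)) _ _ ρ rfl fun g _ => hc g)
  rintro f ⟨d', σ, hσ, hc', rfl⟩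
  exact ⟨φ, hφ, d', σ, hσ, fun g => hc' g (Set.mem_univ g), rfl⟩

/-! ### Groups of order prime to `p` -/

/-- When `p` does not divide the order, the reduction of an irreducible character is irreducible. -/
theorem exists_simp_reduction (hM : IsPModular p M) (hC : ¬ p ∣ Nat.card C) (φ : IrrCharacter C) :
    ∃ (d : ℕ) (σ : Representation (KM M) C (Fin d → KM M)),
      Simp σ ∧ BrauerCharReduction.beta p σ = (φ : C → ℂ) := by
  obtain ⟨d, ρ, hρ, hφ⟩ := φ.2
  obtain ⟨P, hP, hint⟩ := DefectZeroReduction.exists_integral (vs M) (DefectZeroReduction.mat ρ)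
  let A : C →* Matrix (Fin d) (Fin d) ℂ := DefectZeroReduction.conjHom (DefectZeroReduction.mat ρ) P hP
  let R : C →* Matrix (Fin d) (Fin d) (vs M) :=
    { toFun := fun g => Matrix.of fun i j => ⟨A g i j, hint g i j⟩
      map_one' := by
        apply Matrix.map_injective (f := (vs M).subtype) Subtype.val_injective
        show A 1 = (1 : Matrix _ _ (vs M)).map (vs M).subtype
        rw [map_one, Matrix.map_one _ (map_zero _) (map_one _)]
      map_mul' := fun g h => by
        apply Matrix.map_injective (f := (vs M).subtype) Subtype.val_injective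
        show A (g * h) = _
        rw [map_mul]
        show _ = ((_ * _ : Matrix _ _ (vs M))).map (vs M).subtype
        rw [Matrix.map_mul]
        rfl }
  have hR : ∀ g, (R g).map (vs M).subtype = A g := fun g => rfl
  let σ : Representation (KM M) C (Fin d → KM M) :=
    (Matrix.toLinAlgEquiv' (R := KM M) (n := Fin d)).toMonoidHom.comp
      ((res M).mapMatrix.toMonoidHom.comp R)
  have hσ : ∀ g, σ g = Matrix.toLin' ((R g).map (res M)) := fun g => rfl
  have hA : ∀ g, A g = P⁻¹ * DefectZeroReduction.mat ρ g * P := fun g => rfl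
  have hd : 0 < d := by
    have := CharBasic.finrank_pos_of_irreducible ρ
    simpa using this
  have hcard : Int' M ((Nat.card C : ℂ)⁻¹) := int'_inv_natCast hM hC
  -- the averaging relation over the valuation ring
  have havg : ∀ X : Matrix (Fin d) (Fin d) (vs M),
      ((d : vs M) * ⟨_, hcard⟩) • ∑ g, R g⁻¹ * X * R g = X.trace • (1 : Matrix _ _ (vs M)) := by
    intro X
    apply Matrix.map_injective (f := (vs M).subtype) Subtype.val_injective
    have h1 : (vs M).subtype.mapMatrix (∑ g, R g⁻¹ * X * R g) =
        P⁻¹ * (∑ g, DefectZeroReduction.mat ρ g⁻¹ * (P * X.map (vs M).subtype * P⁻¹) *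
          DefectZeroReduction.mat ρ g) * P := by
      rw [map_sum, Finset.mul_sum, Finset.sum_mul]
      refine Finset.sum_congr rfl fun g _ => ?_
      rw [map_mul, map_mul]
      show A g⁻¹ * X.map (vs M).subtype * A g = _
      simp only [hA, mul_assoc]
    have h2 := DefectZeroReduction.avg_mat ρ (P * X.map (vs M).subtype * P⁻¹)
    have h3 : (d : ℂ) • (vs M).subtype.mapMatrix (∑ g, R g⁻¹ * X * R g) =
        ((Fintype.card C : ℂ) * (X.map (vs M).subtype).trace) • (1 : Matrix _ _ ℂ) := by
      rw [h1, ← Matrix.smul_mul, ← Matrix.mul_smul, h2]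
      rw [Matrix.mul_smul, Matrix.smul_mul, Matrix.mul_one, Matrix.nonsing_inv_mul P hP,
        Matrix.trace_mul_cycle, Matrix.nonsing_inv_mul P hP, Matrix.one_mul]
    have htr : (X.map (vs M).subtype).trace = ((X.trace : vs M) : ℂ) := by
      rw [Matrix.trace, Matrix.trace]
      exact (map_sum (vs M).subtype _ _).symm
    show ((_ • (∑ g, R g⁻¹ * X * R g) : Matrix _ _ (vs M))).map (vs M).subtype = _
    beta_reduce
    rw [Matrix.map_smul' _ _ _ (map_mul _), Matrix.map_smul' _ _ _ (map_mul _),
      Matrix.map_one _ (map_zero _) (map_one _)]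
    rw [map_mul, map_natCast]
    show ((d : ℂ) * (Nat.card C : ℂ)⁻¹) • (vs M).subtype.mapMatrix (∑ g, R g⁻¹ * X * R g) =
      ((X.trace : vs M) : ℂ) • (1 : Matrix _ _ ℂ)
    rw [mul_comm (d : ℂ), mul_smul, h3, smul_smul, htr, Nat.card_eq_fintype_card, ← mul_assoc,
      inv_mul_cancel₀ (Nat.cast_ne_zero.2 Fintype.card_ne_zero), one_mul]
  refine ⟨d, σ, ⟨?_, fun W hW => ?_⟩, ?_⟩
  · haveI : Nonempty (Fin d) := ⟨⟨0, hd⟩⟩
    infer_instance
  · refine or_iff_not_imp_left.2 fun hne => ?_
    obtain ⟨w, hw, hw0⟩ := Submodule.exists_mem_ne_zero_of_ne_bot hne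
    obtain ⟨i, hi⟩ : ∃ i, w i ≠ 0 := Function.ne_iff.1 hw0
    choose x hx using fun j k => IsLocalRing.residue_surjective (R := vs M)
      (w j * (if k = i then (w i)⁻¹ else 0))
    have hres : (res M).mapMatrix (Matrix.of x) =
        Matrix.of fun j k => w j * (if k = i then (w i)⁻¹ else 0) := by
      ext j k; exact hx j k
    have h1 := congrArg (res M).mapMatrix (havg (Matrix.of x))
    rw [RingHom.mapMatrix_apply, RingHom.mapMatrix_apply, Matrix.map_smul' _ _ _ (map_mul _),
      Matrix.map_smul' _ _ _ (map_mul _), Matrix.map_one _ (map_zero _) (map_one _)] at h1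
    have htr : res M (Matrix.of x).trace = 1 := by
      have : res M (Matrix.of x).trace = ((res M).mapMatrix (Matrix.of x)).trace := by
        rw [Matrix.trace, Matrix.trace, map_sum]; rfl
      rw [this, hres, Matrix.trace, Finset.sum_eq_single i]
      · simp [hi]
      · intro j _ hj
        simp [hj]
      · simp
    rw [htr, one_smul, ← RingHom.mapMatrix_apply, map_sum] at h1
    refine eq_top_iff.2 fun v _ => ?_
    have h2 := congrArg (fun Y => Matrix.toLin' Y v) h1
    simp only [map_smul, map_sum, LinearMap.smul_apply, LinearMap.sum_apply, Matrix.toLin'_one,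
      LinearMap.id_apply] at h2
    rw [← h2]
    refine W.smul_mem _ (W.sum_mem fun g _ => ?_)
    rw [(res M).mapMatrix.map_mul, (res M).mapMatrix.map_mul, hres, Matrix.toLin'_mul, Matrix.toLin'_mul]
    simp only [LinearMap.comp_apply]
    show σ g⁻¹ _ ∈ W
    refine hW g⁻¹ ?_
    have h3 : ∀ u : Fin d → KM M,
        Matrix.toLin' (Matrix.of fun j k => w j * (if k = i then (w i)⁻¹ else 0)) u =
          ((w i)⁻¹ * u i) • w := by
      intro u
      funext j
      rw [Matrix.toLin'_apply, Matrix.mulVec, dotProduct, Finset.sum_eq_single i]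
      · simp; ring
      · intro k _ hk; simp [hk]
      · simp
    rw [h3]
    exact W.smul_mem _ hw
  · funext g
    have hg : ¬ p ∣ orderOf g := fun h => hC (h.trans (orderOf_dvd_natCard g))
    rw [BrauerCharReduction.beta, if_pos (show IsPRegular p g from hg)]
    obtain ⟨b, μ, hb, hμ, -, hpow⟩ := CharBasic.exists_rep_eigenbasis ρ g
    have hval : (φ : C → ℂ) g = ∑ i, μ i := by
      rw [← hφ]; simpa using hpow 1
    have hord : orderOf g ≠ 0 := (isOfFinOrder_of_finite g).orderOf_pos.ne'
    let ν : Fin (Module.finrank ℂ (Fin d → ℂ)) → vs M :=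
      fun i => ⟨μ i, int'_of_pow_eq_one hord (hμ i)⟩
    have hcharA : (A g).charpoly = ∏ i, (X - Polynomial.C (μ i)) := by
      rw [hA]
      obtain ⟨U, hU⟩ : IsUnit P := (Matrix.isUnit_iff_isUnit_det P).2 hP
      rw [← hU, Matrix.charpoly_units_conj']
      show (LinearMap.toMatrix' (ρ g)).charpoly = _
      rw [← LinearMap.toMatrix_eq_toMatrix', LinearMap.charpoly_toMatrix,
        ← LinearMap.charpoly_toMatrix (ρ g) b,
        show LinearMap.toMatrix b b (ρ g) = Matrix.diagonal μ from ?_, Matrix.charpoly_diagonal]
      ext i j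
      rw [LinearMap.toMatrix_apply, hb, map_smul, b.repr_self, Finsupp.smul_apply,
        Matrix.diagonal_apply]
      by_cases hij : i = j
      · subst hij; simp
      · simp [hij, Ne.symm hij]
    have hcharR : (R g).charpoly = ∏ i, (X - Polynomial.C (ν i)) := by
      apply Polynomial.map_injective (vs M).subtype Subtype.val_injective
      rw [← Matrix.charpoly_map, hR, hcharA, Polynomial.map_prod]
      exact Finset.prod_congr rfl fun i _ => by simp [ν]
    have hchar : (σ g).charpoly = ∏ i, (X - Polynomial.C (res M (ν i))) := by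
      rw [hσ, Matrix.charpoly_toLin', Matrix.charpoly_map, hcharR, Polynomial.map_prod]
      exact Finset.prod_congr rfl fun i _ => by simp
    rw [hchar, show (∏ i, (X - Polynomial.C (res M (ν i)))) =
      ((Finset.univ.val.map fun i => res M (ν i)).map fun a => X - Polynomial.C a).prod by
        rw [Multiset.map_map]; rfl, roots_multiset_prod_X_sub_C, Multiset.map_map, hval]
    refine congrArg Multiset.sum (Multiset.map_congr rfl fun i _ => ?_)
    show lift M _ (res M (ν i)) = μ i
    rw [← redC_val]
    refine lift_redC hM (BlockContrib.cofactor_not_dvd hM.1) ?_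
    obtain ⟨k, hk⟩ : orderOf g ∣ BlockContrib.cofactor p C :=
      orderOf_dvd_of_pow_eq_one (pow_cofactor hM.1 hg)
    show μ i ^ _ = 1
    rw [hk, pow_mul, hμ i, one_pow]

/-- When `p` does not divide the order, irreducible Brauer characters are ordinary characters. -/
theorem simp_beta_irr (hM : IsPModular p M) (hC : ¬ p ∣ Nat.card C) {d : ℕ}
    (ρ : Representation (KM M) C (Fin d → KM M)) (hρ : Simp ρ) :
    IsIrrCharacter C (BrauerCharReduction.beta p ρ) := by
  set f := BrauerCharReduction.beta p ρ with hf
  by_contra hne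
  set s : Set (C → ℂ) := Set.range (fun φ : IrrCharacter C => (φ : C → ℂ)) with hs
  have hfs : f ∉ s := by
    rintro ⟨φ, hφ⟩
    exact hne (hφ ▸ φ.2)
  have hsub : insert f s ⊆ {f : C → ℂ | ∃ (d : ℕ) (ρ : Representation (KM M) C (Fin d → KM M)),
      Simp ρ ∧ f = BrauerCharReduction.beta p ρ} := by
    rintro _ (rfl | ⟨φ, rfl⟩)
    · exact ⟨d, ρ, hρ, rfl⟩
    · obtain ⟨d', σ, hσ, hb⟩ := exists_simp_reduction hM hC φ
      exact ⟨d', σ, hσ, hb.symm⟩
  have h := (linearIndepOn_id_insert hfs).1 ((linearIndepOn_ibr hM).mono hsub)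
  refine h.2 ?_
  rw [hf, eq_sum_classInner (beta_class hM ρ)]
  exact Submodule.sum_mem _ fun φ _ => Submodule.smul_mem _ _ (Submodule.subset_span ⟨φ, rfl⟩)

/-- When `p` does not divide the order, every Brauer character is a generalized character. -/
theorem beta_gen (hM : IsPModular p M) (hC : ¬ p ∣ Nat.card C) {d : ℕ}
    (ρ : Representation (KM M) C (Fin d → KM M)) :
    IsGeneralizedCharacter C (BrauerCharReduction.beta p ρ) := by
  have h := beta_mem_closure (S := (∅ : Set C)) (c := fun _ => (0 : KM M)) (p := p) _ _ ρ rfl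
    (fun g hg => hg.elim)
  suffices H : ∀ f ∈ AddSubmonoid.closure (ibrOn p (∅ : Set C) fun _ => (0 : KM M)),
      IsGeneralizedCharacter C f from H _ h
  intro f hf
  induction hf using AddSubmonoid.closure_induction with
  | mem f hf =>
    obtain ⟨d', σ, hσ, -, rfl⟩ := hf
    exact isGeneralizedCharacter_of_isCharacter (isCharacter_of_isIrrCharacter
      (simp_beta_irr hM hC σ hσ))
  | zero => exact isGeneralizedCharacter_zero
  | add f g _ _ hf hg => exact isGeneralizedCharacter_add hf hg

/-! ### Restriction -/

/-- Restriction along an injective homomorphism keeps the Brauer character. -/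
theorem beta_comap (hM : IsPModular p M) {H : Type u} [Group H] [Fintype H] (ι : H →* C)
    (hι : Function.Injective ι) {d : ℕ} (ρ : Representation (KM M) C (Fin d → KM M)) (h : H) :
    BrauerCharReduction.beta p (ρ.comp ι) h = BrauerCharReduction.beta p ρ (ι h) := by
  have ho : orderOf (ι h) = orderOf h := orderOf_injective ι hι h
  by_cases hh : IsPRegular p h
  swap
  · have hh' : ¬ IsPRegular p (ι h) := fun h' => hh (by rwa [IsPRegular, ho] at h')
    rw [BrauerCharReduction.beta, BrauerCharReduction.beta, if_neg hh, if_neg hh']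
  have hh' : IsPRegular p (ι h) := by rwa [IsPRegular, ho]
  rw [BrauerCharReduction.beta, BrauerCharReduction.beta, if_pos hh, if_pos hh']
  show ((ρ (ι h)).charpoly.roots.map _).sum = _
  refine congrArg Multiset.sum (Multiset.map_congr rfl fun l hl => ?_)
  have hev : Module.End.HasEigenvalue (ρ (ι h)) l := by
    rw [Module.End.hasEigenvalue_iff_isRoot_charpoly]
    exact (mem_roots'.1 hl).2
  obtain ⟨v, hv⟩ := hev.exists_hasEigenvector
  have hl1 : l ^ BlockContrib.cofactor p H = 1 := by
    have h1 := hv.pow_apply (BlockContrib.cofactor p H)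
    rw [← map_pow, ← map_pow, pow_cofactor hM.1 hh, map_one, map_one, Module.End.one_apply] at h1
    by_contra hne
    have h2 : ((1 : KM M) - l ^ BlockContrib.cofactor p H) • v = 0 := by
      rw [sub_smul, one_smul, ← h1, sub_self]
    rcases smul_eq_zero.1 h2 with h3 | h3
    · exact hne (sub_eq_zero.1 h3).symm
    · exact hv.2 h3
  obtain ⟨z, hz, rfl⟩ := exists_root_above hM (BlockContrib.cofactor_not_dvd hM.1) hl1
  obtain ⟨k, hk⟩ : BlockContrib.cofactor p H ∣ BlockContrib.cofactor p C := by
    refine (Nat.Coprime.dvd_mul_left ?_).1 (show BlockContrib.cofactor p H ∣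
      p ^ (Nat.card C).factorization p * BlockContrib.cofactor p C by
        rw [BlockContrib.pow_mul_cofactor]
        exact (Dvd.intro_left _ (BlockContrib.pow_mul_cofactor (G := H) p)).trans
          (Subgroup.card_dvd_of_injective ι hι))
    exact ((hM.1.coprime_iff_not_dvd.2 (BlockContrib.cofactor_not_dvd hM.1)).pow_left _).symm
  rw [lift_redC hM (BlockContrib.cofactor_not_dvd hM.1) hz,
    lift_redC hM (BlockContrib.cofactor_not_dvd hM.1) (by rw [hk, pow_mul, hz, one_pow])]

/-! ### Extension to the singular elements -/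

/-- A Brauer character, read at the regular parts, is a generalized character. -/
theorem exists_extension (hM : IsPModular p M) {d : ℕ}
    (ρ : Representation (KM M) C (Fin d → KM M)) :
    ∃ θ : C → ℂ, IsGeneralizedCharacter C θ ∧
      ∀ g, ¬ p ∣ orderOf g → θ g = BrauerCharReduction.beta p ρ g := by
  haveI : Fact p.Prime := ⟨hM.1⟩
  have hN := BlockContrib.cofactor_not_dvd (p := p) (G := C) hM.1
  obtain ⟨m, hm0, hm1⟩ := Nat.chineseRemainder
    ((hM.1.coprime_iff_not_dvd.2 hN).pow_left ((Nat.card C).factorization p)) 0 1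
  have hreg : ∀ g : C, ¬ p ∣ orderOf g → g ^ m = g := fun g hg => by
    conv_rhs => rw [← pow_one g]
    exact pow_eq_pow_iff_modEq.2 (hm1.of_dvd (orderOf_dvd_of_pow_eq_one (pow_cofactor hM.1 hg)))
  have hsing : ∀ g : C, (∃ k, orderOf g = p ^ k) → g ^ m = 1 := fun g ⟨k, hk⟩ => by
    refine orderOf_dvd_iff_pow_eq_one.1 (hk ▸ ?_)
    refine (Nat.pow_dvd_pow p ?_).trans (Nat.modEq_zero_iff_dvd.1 hm0)
    exact (hM.1.pow_dvd_iff_le_factorization Nat.card_pos.ne').1 (hk ▸ orderOf_dvd_natCard g)
  refine ⟨fun g => BrauerCharReduction.beta p ρ (g ^ m), ?_, fun g hg => by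
    show BrauerCharReduction.beta p ρ (g ^ m) = _
    rw [hreg g hg]⟩
  refine BrauerInduction.isGeneralizedCharacter_of_elementary (fun g h => ?_) fun E q hq hE => ?_
  · show BrauerCharReduction.beta p ρ ((h * g * h⁻¹) ^ m) = _
    rw [show (h * g * h⁻¹) ^ m = h * g ^ m * h⁻¹ from conj_pow]
    exact beta_class hM ρ _ h
  -- on a nilpotent subgroup
  haveI : Group.IsNilpotent E := BrauerInduction.isNilpotent_of_isElementary hq hE
  obtain ⟨S⟩ : Nonempty (Sylow p E) := inferInstance
  haveI hSn : (S : Subgroup E).Normal :=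
    Sylow.normal_of_normalizerCondition Group.normalizerCondition_of_isNilpotent S
  obtain ⟨L, hL⟩ := Subgroup.exists_right_complement'_of_coprime (N := (S : Subgroup E))
    S.card_coprime_index
  have hLc : Nat.card L = (S : Subgroup E).index := hL.symm.index_eq_card.symm
  have hLreg : ∀ l : L, ¬ p ∣ orderOf ((l : E) : C) := fun l h => by
    rw [Subgroup.orderOf_coe, Subgroup.orderOf_coe] at h
    exact S.not_dvd_index (hLc ▸ h.trans (orderOf_dvd_natCard l))
  have hdec : ∀ x : E, ∃ (a : S.toSubgroup) (l : L), x = (a : E) * l ∧ (x : C) ^ m = ((l : E) : C) ∧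
      Commute (a : E) (l : E) := by
    intro x
    obtain ⟨⟨a, l⟩, hal⟩ := hL.2 x
    obtain ⟨k, hk⟩ := IsPGroup.iff_orderOf.mp S.isPGroup' a
    have hc : Commute (a : E) (l : E) := by
      refine FittingHallBasic.commute_of_coprime_orderOf ?_
      rw [Subgroup.orderOf_coe, hk]
      refine ((hM.1.coprime_iff_not_dvd.2 ?_).pow_left k)
      have := hLreg l
      rwa [Subgroup.orderOf_coe] at this
    refine ⟨a, l, hal.symm, ?_, hc⟩
    have hc' : Commute ((a : E) : C) ((l : E) : C) := hc.map E.subtype
    rw [← hal, Subgroup.coe_mul, hc'.mul_pow,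
      hsing _ ⟨k, by rw [Subgroup.orderOf_coe, Subgroup.orderOf_coe, hk]⟩, hreg _ (hLreg l), one_mul]
  choose a l hx hl hc using hdec
  have hinj : Function.Injective (fun l : L => ((l : E) : C)) := fun u v h =>
    Subtype.ext (Subtype.ext h)
  let π : E →* L :=
    { toFun := l
      map_one' := hinj (by
        show ((l 1 : E) : C) = _
        rw [← hl 1]; simp)
      map_mul' := fun x y => hinj (by
        show ((l (x * y) : E) : C) = ((l x * l y : L) : E)
        have hcy : Commute (l x : E) (a y : E) := by
          refine FittingHallBasic.commute_of_coprime_orderOf ?_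
          obtain ⟨k, hk⟩ := IsPGroup.iff_orderOf.mp S.isPGroup' (a y)
          rw [Subgroup.orderOf_coe (a y), hk]
          refine ((hM.1.coprime_iff_not_dvd.2 ?_).pow_left k).symm
          have := hLreg (l x)
          rwa [Subgroup.orderOf_coe] at this
        have hxy : x * y = ((a x * a y : S.toSubgroup) : E) * ((l x * l y : L) : E) := by
          conv_lhs => rw [hx x, hx y]
          rw [Subgroup.coe_mul, Subgroup.coe_mul, mul_assoc, ← mul_assoc (l x : E), hcy.eq]
          simp only [mul_assoc]
        obtain ⟨k, hk⟩ := IsPGroup.iff_orderOf.mp S.isPGroup' (a x * a y)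
        have hcc : Commute ((a x * a y : S.toSubgroup) : E) ((l x * l y : L) : E) := by
          refine FittingHallBasic.commute_of_coprime_orderOf ?_
          rw [Subgroup.orderOf_coe, hk]
          refine ((hM.1.coprime_iff_not_dvd.2 ?_).pow_left k)
          have := hLreg (l x * l y)
          rwa [Subgroup.orderOf_coe] at this
        have hcc' : Commute (((a x * a y : S.toSubgroup) : E) : C) (((l x * l y : L) : E) : C) :=
          hcc.map E.subtype
        rw [← hl (x * y), hxy, Subgroup.coe_mul E, hcc'.mul_pow,
          hsing _ ⟨k, by rw [Subgroup.orderOf_coe, Subgroup.orderOf_coe, hk]⟩,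
          hreg _ (hLreg _), one_mul]) }
  have hLp : ¬ p ∣ Nat.card L := hLc ▸ S.not_dvd_index
  let ι : L →* C := E.subtype.comp L.subtype
  have hgen := isGeneralizedCharacter_comap π (beta_gen hM hLp (ρ.comp ι))
  convert hgen using 1
  funext x
  show BrauerCharReduction.beta p ρ ((x : C) ^ m) = BrauerCharReduction.beta p (ρ.comp ι) (l x)
  rw [beta_comap hM ι hinj ρ, hl x]
  rfl

/-- A Brauer character of a block is an integral combination of the regular parts of the members. -/
theorem exists_int_comb (hM : IsPModular p M) {b : Set (IrrCharacter C)} (hb : IsPBlock M b)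
    {f : C → ℂ} (hf : f ∈ blockSet p M b) :
    ∃ n : IrrCharacter C → ℤ,
      f = ∑ φ : IrrCharacter C, if φ ∈ b then (n φ : ℂ) • pRegularPart p (φ : C → ℂ) else 0 := by
  obtain ⟨d, ρ, -, rfl⟩ := blockSet_subset_ibr b hf
  obtain ⟨θ, hθ, hθr⟩ := exists_extension hM ρ
  obtain ⟨n, -, hsum⟩ := exists_int_coeff hθ
  refine ⟨n, ?_⟩
  have h1 := proj_regSpan hM hb hb (blockSet_subset_regSpan hM hb hf)
  rw [if_pos rfl] at h1
  rw [← h1, ← proj_congr hM hb fun y hy => hθr y hy, hsum, map_sum]
  refine Finset.sum_congr rfl fun φ _ => ?_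
  rw [map_smul, proj_irr]
  split_ifs <;> simp

end Cfsg.Agent.BrauerCharLift30
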