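import Cfsg.Agent.Lib.CharBasicOrth

/-!
Reduction modulo p of irreducible representations of p-defect zero.

An irreducible representation has an integral matrix form over any valuation ring of ℂ (a basis taken among the
translates of the standard basis with determinant of largest valuation); when its degree is divisible by the full
p-part of the group order, the orthogonality relations survive modulo p.
-/

set_option autoImplicit false
set_option linter.unusedSectionVars false
set_option linter.unusedSimpArgs false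

namespace Cfsg.Agent.DefectZeroReduction

open scoped Matrix

universe u
variable {G : Type u} [Group G] [Fintype G]

/-- a reduction: a representation over a field of characteristic `p` with Schur's orthogonality relations -/
structure Red (G : Type u) [Group G] [Fintype G] (k : Type) [Field k] (d : ℕ) where
  rep : G →* Matrix (Fin d) (Fin d) k
  c : k
  avg : ∀ A : Matrix (Fin d) (Fin d) k, c • ∑ g, rep g⁻¹ * A * rep g = A.trace • (1 : Matrix (Fin d) (Fin d) k)
  dpos : 0 < d

/-- no relations between the two reductions -/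
def Orth {k : Type} [Field k] {d d' : ℕ} (R : Red G k d) (R' : Red G k d') : Prop :=
  ∀ A : Matrix (Fin d') (Fin d) k, ∑ g, R'.rep g⁻¹ * A * R.rep g = 0

/-- the matrix form of a representation on a coordinate space -/
noncomputable def mat {d : ℕ} (ρ : Representation ℂ G (Fin d → ℂ)) : G →* Matrix (Fin d) (Fin d) ℂ where
  toFun g := LinearMap.toMatrix' (ρ g)
  map_one' := by rw [map_one]; exact LinearMap.toMatrix'_id
  map_mul' g h := by rw [map_mul]; exact LinearMap.toMatrix'_comp _ _

/-- the averaging relation in characteristic zero -/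
theorem avg_mat {d : ℕ} (ρ : Representation ℂ G (Fin d → ℂ)) [ρ.IsIrreducible] (A : Matrix (Fin d) (Fin d) ℂ) :
    (d : ℂ) • ∑ g, mat ρ g⁻¹ * A * mat ρ g = ((Fintype.card G : ℂ) * A.trace) • (1 : Matrix (Fin d) (Fin d) ℂ) := by
  set T := ∑ g, mat ρ g⁻¹ * A * mat ρ g with hT
  have hcomm : ∀ h, T * mat ρ h = mat ρ h * T := by
    intro h
    rw [hT, Finset.sum_mul, Finset.mul_sum, ← Equiv.sum_comp (Equiv.mulRight h⁻¹)]
    refine Finset.sum_congr rfl fun g _ => ?_
    simp only [Equiv.coe_mulRight, mul_inv_rev, inv_inv, map_mul]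
    rw [mul_assoc _ (mat ρ g * mat ρ h⁻¹), mul_assoc (mat ρ g), ← map_mul (mat ρ) h⁻¹ h, inv_mul_cancel, map_one, mul_one]
    simp only [mul_assoc]
  obtain ⟨c, hc, -⟩ := CharBasic.exists_scalar_of_commute ρ (Matrix.toLin' T) (fun h v => by
    have e : mat ρ h *ᵥ v = ρ h v := by
      show LinearMap.toMatrix' (ρ h) *ᵥ v = ρ h v
      rw [← Matrix.toLin'_apply, Matrix.toLin'_toMatrix']
    rw [Matrix.toLin'_apply, Matrix.toLin'_apply, ← e, Matrix.mulVec_mulVec, hcomm, ← Matrix.mulVec_mulVec]
    show LinearMap.toMatrix' (ρ h) *ᵥ _ = _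
    rw [← Matrix.toLin'_apply, Matrix.toLin'_toMatrix'])
  have hT1 : T = c • (1 : Matrix (Fin d) (Fin d) ℂ) := by
    have := congrArg LinearMap.toMatrix' hc
    rwa [LinearMap.toMatrix'_toLin', map_smul, LinearMap.toMatrix'_id] at this
  have htr : T.trace = (Fintype.card G : ℂ) * A.trace := by
    rw [hT, Matrix.trace_sum, Finset.sum_congr rfl fun g _ => by
      rw [Matrix.trace_mul_cycle, ← map_mul, mul_inv_cancel, map_one, one_mul]]
    simp
  rw [hT1, Matrix.trace_smul, Matrix.trace_one, Fintype.card_fin, smul_eq_mul] at htr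
  rw [hT1, smul_smul, ← htr, mul_comm c]

theorem orth_mat {d d' : ℕ} (ρ : Representation ℂ G (Fin d → ℂ)) (ρ' : Representation ℂ G (Fin d' → ℂ))
    [ρ.IsIrreducible] [ρ'.IsIrreducible] (hne : ρ.character ≠ ρ'.character) (A : Matrix (Fin d') (Fin d) ℂ) :
    ∑ g, mat ρ' g⁻¹ * A * mat ρ g = 0 := by
  set T := ∑ g, mat ρ' g⁻¹ * A * mat ρ g with hT
  have hcomm : ∀ h, T * mat ρ h = mat ρ' h * T := by
    intro h
    rw [hT, Matrix.sum_mul, Matrix.mul_sum, ← Equiv.sum_comp (Equiv.mulRight h⁻¹)]
    refine Finset.sum_congr rfl fun g _ => ?_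
    simp only [Equiv.coe_mulRight, mul_inv_rev, inv_inv, map_mul]
    rw [Matrix.mul_assoc _ (mat ρ g * mat ρ h⁻¹), mul_assoc (mat ρ g), ← map_mul (mat ρ) h⁻¹ h, inv_mul_cancel, map_one, mul_one]
    simp only [Matrix.mul_assoc]
  have happ : ∀ (h : G) (v : Fin d → ℂ), mat ρ h *ᵥ v = ρ h v := fun h v => by
    show LinearMap.toMatrix' (ρ h) *ᵥ v = ρ h v
    rw [← Matrix.toLin'_apply, Matrix.toLin'_toMatrix']
  have happ' : ∀ (h : G) (v : Fin d' → ℂ), mat ρ' h *ᵥ v = ρ' h v := fun h v => by
    show LinearMap.toMatrix' (ρ' h) *ᵥ v = ρ' h v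
    rw [← Matrix.toLin'_apply, Matrix.toLin'_toMatrix']
  let f : Representation.IntertwiningMap ρ ρ' :=
    { toLinearMap := Matrix.toLin' T
      isIntertwining' := fun h => LinearMap.ext fun v => by
        simp only [LinearMap.coe_comp, Function.comp_apply, Matrix.toLin'_apply, ← happ, ← happ']
        rw [Matrix.mulVec_mulVec, hcomm, ← Matrix.mulVec_mulVec] }
  have h0 := CharBasicOrth.classInner_irr_ne (χ := ρ'.character) (ψ := ρ.character) ⟨d', ρ', inferInstance, rfl⟩
    ⟨d, ρ, inferInstance, rfl⟩ (Ne.symm hne)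
  rw [CharBasicOrth.classInner_character, Nat.cast_eq_zero] at h0
  haveI := Module.finrank_zero_iff.1 h0
  have hf : f = 0 := Subsingleton.elim _ _
  have : Matrix.toLin' T = 0 := congrArg Representation.IntertwiningMap.toLinearMap hf
  simpa using this

/-- an integral matrix form over a valuation ring -/
theorem exists_integral (V : ValuationSubring ℂ) {d : ℕ} (M : G →* Matrix (Fin d) (Fin d) ℂ) :
    ∃ P : Matrix (Fin d) (Fin d) ℂ, IsUnit P.det ∧ ∀ g i j, (P⁻¹ * M g * P) i j ∈ V := by
  classical
  let colOf : G × Fin d → (Fin d → ℂ) := fun q r => M q.1 r q.2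
  let Pf : (Fin d → G × Fin d) → Matrix (Fin d) (Fin d) ℂ := fun f => Matrix.of fun r j => colOf (f j) r
  obtain ⟨f, -, hmax⟩ := Finset.exists_max_image (Finset.univ : Finset (Fin d → G × Fin d))
    (fun f => V.valuation (Pf f).det) ⟨fun i => (1, i), Finset.mem_univ _⟩
  have hdet : (Pf f).det ≠ 0 := by
    intro h0
    have h1 := hmax (fun i => (1, i)) (Finset.mem_univ _)
    rw [h0, map_zero, show Pf (fun i => (1, i)) = 1 by ext r j; simp [Pf, colOf], Matrix.det_one, map_one] at h1
    exact one_ne_zero (le_antisymm h1 zero_le_one)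
  refine ⟨Pf f, isUnit_iff_ne_zero.2 hdet, fun g i j => ?_⟩
  set w := colOf (g * (f j).1, (f j).2) with hw
  have hcol : (fun r => (M g * Pf f) r j) = w := by
    funext r
    simp [hw, colOf, Pf, map_mul, Matrix.mul_apply]
  have hval : ((Pf f)⁻¹ * M g * Pf f) i j = ((Pf f).det)⁻¹ * ((Pf f).updateCol i w).det := by
    rw [Matrix.mul_assoc, Matrix.mul_apply']
    show ((Pf f)⁻¹ *ᵥ fun r => (M g * Pf f) r j) i = _
    rw [hcol, Matrix.inv_def, Matrix.smul_mulVec, Pi.smul_apply, Ring.inverse_eq_inv', smul_eq_mul,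
      ← Matrix.cramer_eq_adjugate_mulVec, Matrix.cramer_apply]
  have hupd : (Pf f).updateCol i w = Pf (Function.update f i (g * (f j).1, (f j).2)) := by
    ext r l
    by_cases h : l = i
    · subst h; simp [Pf, hw]
    · simp [Pf, Matrix.updateCol_ne h, Function.update_of_ne h]
  rw [hval, hupd, ← V.valuation_le_one_iff, map_mul, map_inv₀,
    inv_mul_le_iff₀ (zero_lt_iff.2 ((map_ne_zero _).2 hdet)), mul_one]
  exact hmax _ (Finset.mem_univ _)

/-- the representation conjugated by an invertible matrix -/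
noncomputable def conjHom {d : ℕ} (M : G →* Matrix (Fin d) (Fin d) ℂ) (P : Matrix (Fin d) (Fin d) ℂ)
    (hP : IsUnit P.det) : G →* Matrix (Fin d) (Fin d) ℂ where
  toFun g := P⁻¹ * M g * P
  map_one' := by rw [map_one, Matrix.mul_one, Matrix.nonsing_inv_mul P hP]
  map_mul' g h := by
    rw [map_mul]
    calc P⁻¹ * (M g * M h) * P = P⁻¹ * M g * (P * P⁻¹) * M h * P := by
          rw [Matrix.mul_nonsing_inv P hP]; simp only [Matrix.mul_one, mul_assoc]
      _ = P⁻¹ * M g * P * (P⁻¹ * M h * P) := by simp only [mul_assoc]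

/-- reductions of two inequivalent irreducible representations of defect zero -/
theorem exists_red_pair (p N r : ℕ) [hp : Fact p.Prime] (hcard : Fintype.card G = p ^ N * r) (hr : ¬ p ∣ r)
    {d d' : ℕ} (ρ : Representation ℂ G (Fin d → ℂ)) (ρ' : Representation ℂ G (Fin d' → ℂ))
    [ρ.IsIrreducible] [ρ'.IsIrreducible] (hd : p ^ N ∣ d) (hd' : p ^ N ∣ d') (hne : ρ.character ≠ ρ'.character) :
    ∃ (k : Type) (_ : Field k) (_ : CharP k p) (R : Red G k d) (R' : Red G k d'), Orth R R' ∧ Orth R' R := by
  classical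
  let A : Subring ℂ := (Int.castRingHom ℂ).range
  let π : A := ⟨(p : ℂ), ⟨(p : ℤ), by simp⟩⟩
  have hπ : Ideal.span {π} ≠ ⊤ := by
    rw [Ne, Ideal.span_singleton_eq_top, isUnit_iff_exists_inv]
    rintro ⟨⟨b, n, hn⟩, hb⟩
    have h1 : (p : ℂ) * b = 1 := congrArg Subtype.val hb
    rw [← hn, eq_intCast] at h1
    have h2 : (p : ℤ) * n = 1 := by exact_mod_cast h1
    have := Int.eq_one_of_mul_eq_one_right (by positivity) h2
    exact hp.out.one_lt.ne' (by exact_mod_cast this)
  obtain ⟨V, hAV, hV⟩ := Ideal.image_subset_nonunits_valuationSubring _ hπ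
  have hpV : (p : ℂ) ∈ V.nonunits := hV ⟨π, Ideal.subset_span rfl, rfl⟩
  have hint : ∀ n : ℤ, (n : ℂ) ∈ V := fun n => hAV ⟨n, by simp⟩
  obtain ⟨hpV', hpm⟩ := V.mem_nonunits_iff_exists_mem_maximalIdeal.1 hpV
  let k := IsLocalRing.ResidueField V
  let res : V →+* k := IsLocalRing.residue V
  haveI hchar : CharP k p := by
    have h0 : (p : k) = 0 := by
      rw [← map_natCast res, IsLocalRing.residue_eq_zero_iff]
      convert hpm
      exact map_natCast V.subtype p
    exact (CharP.charP_iff_prime_eq_zero hp.out).2 h0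
  have hr0 : (r : k) ≠ 0 := fun h => hr ((CharP.cast_eq_zero_iff k p r).1 h)
  have mk : ∀ {d : ℕ} (ρ : Representation ℂ G (Fin d → ℂ)) [ρ.IsIrreducible], p ^ N ∣ d →
      ∃ (P : Matrix (Fin d) (Fin d) ℂ) (hP : IsUnit P.det) (R : Red G k d) (M : G → Matrix (Fin d) (Fin d) V),
        (∀ g, (M g).map (Subtype.val) = conjHom (mat ρ) P hP g) ∧ (∀ g, R.rep g = (M g).map res) := by
    intro d ρ _ hd
    obtain ⟨m, rfl⟩ := hd
    obtain ⟨P, hP, hint'⟩ := exists_integral V (mat ρ)
    let M : G →* Matrix (Fin (p ^ N * m)) (Fin (p ^ N * m)) V :=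
      { toFun := fun g => Matrix.of fun i j => ⟨_, hint' g i j⟩
        map_one' := by
          apply Matrix.map_injective (f := V.subtype) Subtype.val_injective
          show conjHom (mat ρ) P hP 1 = (1 : Matrix _ _ V).map V.subtype
          rw [map_one, Matrix.map_one _ (map_zero _) (map_one _)]
        map_mul' := fun g h => by
          apply Matrix.map_injective (f := V.subtype) Subtype.val_injective
          show conjHom (mat ρ) P hP (g * h) = _
          rw [map_mul]
          show _ = ((_ * _ : Matrix _ _ V)).map V.subtype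
          rw [Matrix.map_mul]
          rfl }
    have hM : ∀ g, (M g).map V.subtype = conjHom (mat ρ) P hP g := fun g => rfl
    have hdpos : 0 < p ^ N * m := by
      have := CharBasic.finrank_pos_of_irreducible ρ
      simpa using this
    refine ⟨P, hP, ⟨(res.mapMatrix).toMonoidHom.comp M, (m : k) / (r : k), ?_, hdpos⟩, M, hM, fun g => rfl⟩
    intro A
    have hsur : ∀ i j, ∃ a : V, res a = A i j := fun i j => IsLocalRing.residue_surjective _
    choose a ha using hsur
    let A' : Matrix (Fin (p ^ N * m)) (Fin (p ^ N * m)) V := Matrix.of a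
    have hA : A = A'.map res := by ext i j; simp [A', ha]
    have key : (m : V) • ∑ g, M g⁻¹ * A' * M g = ((r : V) * A'.trace) • (1 : Matrix _ _ V) := by
      apply Matrix.map_injective (f := V.subtype) Subtype.val_injective
      have h1 : V.subtype.mapMatrix (∑ g, M g⁻¹ * A' * M g) =
          P⁻¹ * (∑ g, mat ρ g⁻¹ * (P * A'.map V.subtype * P⁻¹) * mat ρ g) * P := by
        rw [map_sum, Finset.mul_sum, Finset.sum_mul]
        refine Finset.sum_congr rfl fun g _ => ?_
        rw [map_mul, map_mul]
        show conjHom (mat ρ) P hP g⁻¹ * A'.map V.subtype * conjHom (mat ρ) P hP g = _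
        simp only [conjHom, MonoidHom.coe_mk, OneHom.coe_mk, mul_assoc]
      have h2 := avg_mat ρ (P * A'.map V.subtype * P⁻¹)
      have h3 : (p ^ N * m : ℕ) • V.subtype.mapMatrix (∑ g, M g⁻¹ * A' * M g) =
          ((Fintype.card G : ℂ) * (A'.map V.subtype).trace) • (1 : Matrix _ _ ℂ) := by
        rw [h1, ← Nat.cast_smul_eq_nsmul ℂ, ← Matrix.smul_mul, ← Matrix.mul_smul, h2]
        rw [Matrix.mul_smul, Matrix.smul_mul, Matrix.mul_one, Matrix.nonsing_inv_mul P hP, Matrix.trace_mul_cycle,
          Matrix.nonsing_inv_mul P hP, Matrix.one_mul]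
      have hpN : ((p : ℂ) ^ N) ≠ 0 := pow_ne_zero _ (Nat.cast_ne_zero.2 hp.out.ne_zero)
      ext i j
      have h4 := congrFun (congrFun h3 i) j
      have htr : (A'.map V.subtype).trace = ((A'.trace : V) : ℂ) := by
        rw [Matrix.trace, Matrix.trace]
        exact (map_sum V.subtype _ _).symm
      rw [htr, show ((A'.trace : V) : ℂ) = V.subtype A'.trace from rfl, hcard, Matrix.smul_apply, Matrix.smul_apply, nsmul_eq_mul] at h4
      push_cast at h4
      simp only [Matrix.map_apply, Matrix.smul_apply, smul_eq_mul, map_mul, map_natCast, RingHom.mapMatrix_apply,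
        Matrix.one_apply, apply_ite V.subtype, map_zero, map_one] at h4 ⊢
      refine mul_left_cancel₀ hpN ?_
      linear_combination h4
    have hk := congrArg res.mapMatrix key
    rw [RingHom.mapMatrix_apply, RingHom.mapMatrix_apply, Matrix.map_smul' _ _ _ (map_mul res),
      Matrix.map_smul' _ _ _ (map_mul res), Matrix.map_one _ (map_zero _) (map_one _), map_natCast, map_mul,
      map_natCast] at hk
    have hsum : (∑ g, M g⁻¹ * A' * M g).map res =
        ∑ g, res.mapMatrix (M g⁻¹) * A * res.mapMatrix (M g) := by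
      rw [← RingHom.mapMatrix_apply, map_sum, hA]
      exact Finset.sum_congr rfl fun g _ => by rw [map_mul, map_mul]; rfl
    rw [hsum] at hk
    have htr' : res A'.trace = A.trace := by
      rw [hA, Matrix.trace, Matrix.trace, map_sum]
      rfl
    rw [htr'] at hk
    show ((m : k) / r) • ∑ g, res.mapMatrix (M g⁻¹) * A * res.mapMatrix (M g) = _
    rw [div_eq_inv_mul, mul_smul, hk, smul_smul, ← mul_assoc, inv_mul_cancel₀ hr0, one_mul]
  obtain ⟨P, hP, R, M, hM, hR⟩ := mk ρ hd
  obtain ⟨P', hP', R', M', hM', hR'⟩ := mk ρ' hd'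
  have orth : ∀ {a b : ℕ} (α : Representation ℂ G (Fin a → ℂ)) (β : Representation ℂ G (Fin b → ℂ))
      [α.IsIrreducible] [β.IsIrreducible], α.character ≠ β.character →
      ∀ (P : Matrix (Fin a) (Fin a) ℂ) (hP : IsUnit P.det) (Q : Matrix (Fin b) (Fin b) ℂ) (hQ : IsUnit Q.det)
      (R : Red G k a) (R' : Red G k b) (M : G → Matrix (Fin a) (Fin a) V) (M' : G → Matrix (Fin b) (Fin b) V),
      (∀ g, (M g).map (Subtype.val) = conjHom (mat α) P hP g) → (∀ g, R.rep g = (M g).map res) →
      (∀ g, (M' g).map (Subtype.val) = conjHom (mat β) Q hQ g) → (∀ g, R'.rep g = (M' g).map res) → Orth R R' := by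
    intro a b α β _ _ hne P hP Q hQ R R' M M' hM hR hM' hR' A
    have hsur : ∀ i j, ∃ x : V, res x = A i j := fun i j => IsLocalRing.residue_surjective _
    choose x hx using hsur
    let A' : Matrix (Fin b) (Fin a) V := Matrix.of x
    have hA : A = A'.map res := by ext i j; simp [A', hx]
    have key : ∑ g, M' g⁻¹ * A' * M g = 0 := by
      apply Matrix.map_injective (f := V.subtype) Subtype.val_injective
      have h1 := orth_mat α β hne (Q * A'.map V.subtype * P⁻¹)
      have h2 : Q⁻¹ * (∑ g, mat β g⁻¹ * (Q * A'.map V.subtype * P⁻¹) * mat α g) * P = 0 := by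
        rw [h1, Matrix.mul_zero, Matrix.zero_mul]
      dsimp only
      rw [Matrix.map_zero _ (map_zero _), ← h2, Matrix.mul_sum, Matrix.sum_mul]
      ext i j
      simp only [Matrix.map_apply, Matrix.sum_apply, map_sum]
      refine Finset.sum_congr rfl fun g _ => ?_
      have e : (M' g⁻¹ * A' * M g).map V.subtype = Q⁻¹ * (mat β g⁻¹ * (Q * A'.map V.subtype * P⁻¹) * mat α g) * P := by
        rw [Matrix.map_mul, Matrix.map_mul]
        show (M' g⁻¹).map Subtype.val * A'.map V.subtype * (M g).map Subtype.val = _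
        rw [hM, hM']
        simp only [conjHom, MonoidHom.coe_mk, OneHom.coe_mk, Matrix.mul_assoc]
      exact congrFun (congrFun e i) j
    have hk := congrArg (fun X : Matrix (Fin b) (Fin a) V => X.map res) key
    simp only [Matrix.map_zero _ (map_zero res)] at hk
    rw [← hk]
    ext i j
    simp only [Matrix.sum_apply, Matrix.map_apply, map_sum]
    refine Finset.sum_congr rfl fun g _ => ?_
    rw [hR, hR', hA, ← Matrix.map_mul, ← Matrix.map_mul, Matrix.map_apply]
  exact ⟨k, inferInstance, hchar, R, R', orth ρ ρ' hne P hP P' hP' R R' M M' hM hR hM' hR',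
    orth ρ' ρ hne.symm P' hP' P hP R' R M' M hM' hR' hM hR⟩

end Cfsg.Agent.DefectZeroReduction
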