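import Cfsg.Agent.Lib.BlockSubsections79
import Cfsg.Agent.Lib.BrauerBlocksVal
import Cfsg.Agent.Lib.BrauerBlocksCentral
import Cfsg.Agent.Lib.DefectZeroReduction
import Cfsg.Agent.Lib.BlockTheoryNormal

/-!
# Brauer characters of modular representations

Brauer characters are formed over the residue field of the valuation ring `vs M` of `ℂ`.  Every
irreducible character is, on the regular elements, a sum of Brauer characters of irreducible modular
representations carrying its reduced central character; Brauer characters of pairwise inequivalent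
irreducible representations are linearly independent.
-/

set_option autoImplicit false

open scoped ComplexConjugate
open Polynomial

namespace Cfsg.Agent.BrauerCharReduction

open Cfsg BrauerBlocksVal

attribute [local instance] Classical.propDecidable

set_option linter.unusedSectionVars false

universe u

variable {p : ℕ} {M : Ideal AlgInt}

/-- The residue field. -/
abbrev KM (M : Ideal AlgInt) := IsLocalRing.ResidueField (vs M)

/-- Reduction. -/
noncomputable def res (M : Ideal AlgInt) : vs M →+* KM M := IsLocalRing.residue (vs M)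

/-- Reduction extended by zero. -/
noncomputable def redC (M : Ideal AlgInt) (z : ℂ) : KM M :=
  if h : Int' M z then res M ⟨z, h⟩ else 0

theorem redC_val (a : vs M) : redC M (a : ℂ) = res M a := dif_pos a.2

theorem res_eq_zero_iff (a : vs M) : res M a = 0 ↔ Sm M (a : ℂ) := by
  rw [res, IsLocalRing.residue_eq_zero_iff, Sm]
  exact (vs M).valuation_lt_one_iff a

theorem redC_eq_iff {z w : ℂ} (hz : Int' M z) (hw : Int' M w) :
    redC M z = redC M w ↔ Sm M (z - w) := by
  rw [redC, redC, dif_pos hz, dif_pos hw, ← sub_eq_zero, ← map_sub, res_eq_zero_iff]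
  rfl

instance isAlgClosed_residue : IsAlgClosed (KM M) := by
  refine IsAlgClosed.of_exists_root _ fun f hf hirr => ?_
  obtain ⟨F, hF, -, hFm⟩ := lifts_and_degree_eq_and_monic
    (f := res M) (by exact map_surjective _ IsLocalRing.residue_surjective f) hf
  have hdeg : (F.map (algebraMap (vs M) ℂ)).degree ≠ 0 := by
    rw [hFm.degree_map]
    intro h
    have h1 : f.degree = 0 := by rw [← hF, hFm.degree_map]; exact h
    exact hirr.degree_pos.ne' h1
  obtain ⟨z, hz⟩ := IsAlgClosed.exists_root _ hdeg
  have hint : IsIntegral (vs M) z := ⟨F, hFm, by rwa [IsRoot, eval_map] at hz⟩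
  obtain ⟨a, ha⟩ := IsIntegrallyClosed.isIntegral_iff.1 hint
  refine ⟨res M a, ?_⟩
  rw [← hF, eval_map, eval₂_at_apply]
  have h0 : F.eval a = 0 := by
    apply Subtype.val_injective
    show algebraMap (vs M) ℂ (F.eval a) = algebraMap (vs M) ℂ 0
    rw [map_zero, ← eval₂_at_apply, ← eval_map, ha]
    exact hz
  rw [h0, map_zero]

/-- The root of unity of order dividing `N` above `l`. -/
noncomputable def lift (M : Ideal AlgInt) (N : ℕ) (l : KM M) : ℂ :=
  if h : ∃ z : ℂ, z ^ N = 1 ∧ redC M z = l then h.choose else 0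

theorem int'_of_pow_eq_one {N : ℕ} (hN : N ≠ 0) {z : ℂ} (h : z ^ N = 1) : Int' M z := by
  have h1 : IsIntegral (vs M) z :=
    IsIntegral.of_pow (Nat.pos_of_ne_zero hN) (h ▸ isIntegral_one)
  obtain ⟨a, rfl⟩ := IsIntegrallyClosed.isIntegral_iff.1 h1
  exact a.2

theorem redC_root_inj (hM : IsPModular p M) {N : ℕ} (hN : ¬ p ∣ N) {z w : ℂ} (hz : z ^ N = 1)
    (hw : w ^ N = 1) (h : redC M z = redC M w) : z = w := by
  have hN0 : N ≠ 0 := fun e => hN (e ▸ dvd_zero p)
  have hw0 : w ≠ 0 := fun e => by simp [e, hN0] at hw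
  have hs : Sm M (z - w) :=
    (redC_eq_iff (int'_of_pow_eq_one hN0 hz) (int'_of_pow_eq_one hN0 hw)).1 h
  have hwi : Int' M w⁻¹ := int'_of_pow_eq_one hN0 (by rw [inv_pow, hw, inv_one])
  have h1 : Sm M (z * w⁻¹ - 1) := by
    have := hs.mul_right hwi
    rwa [sub_mul, mul_inv_cancel₀ hw0] at this
  have h2 := eq_one_of_pow_eq_one_of_sm hM hN (ζ := z * w⁻¹)
    (by rw [mul_pow, hz, inv_pow, hw, inv_one, one_mul]) h1
  rw [← div_eq_mul_inv] at h2
  exact (div_eq_one_iff_eq hw0).1 h2

theorem lift_redC (hM : IsPModular p M) {N : ℕ} (hN : ¬ p ∣ N) {z : ℂ} (hz : z ^ N = 1) :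
    lift M N (redC M z) = z := by
  have h : ∃ w : ℂ, w ^ N = 1 ∧ redC M w = redC M z := ⟨z, hz, rfl⟩
  rw [lift, dif_pos h]
  exact redC_root_inj hM hN h.choose_spec.1 hz h.choose_spec.2

theorem redC_pow {z : ℂ} (hz : Int' M z) (k : ℕ) : redC M (z ^ k) = redC M z ^ k := by
  rw [redC, redC, dif_pos (hz.pow k), dif_pos hz, ← map_pow]
  rfl

theorem exists_root_above (hM : IsPModular p M) {N : ℕ} (hN : ¬ p ∣ N) {l : KM M}
    (hl : l ^ N = 1) : ∃ z : ℂ, z ^ N = 1 ∧ redC M z = l := by
  have hN0 : N ≠ 0 := fun e => hN (e ▸ dvd_zero p)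
  have : NeZero (N : ℂ) := ⟨Nat.cast_ne_zero.2 hN0⟩
  obtain ⟨ζ, hζ⟩ := HasEnoughRootsOfUnity.exists_primitiveRoot ℂ N
  have hzi : Int' M ζ := int'_of_pow_eq_one hN0 hζ.pow_eq_one
  have hr : IsPrimitiveRoot (redC M ζ) N := by
    have h1 : redC M (1 : ℂ) = 1 := by rw [redC, dif_pos int'_one]; exact map_one (res M)
    refine ⟨by rw [← redC_pow hzi, hζ.pow_eq_one, h1], fun k hk => hζ.dvd_of_pow_eq_one _ ?_⟩
    refine redC_root_inj hM hN ?_ (one_pow N) (by rw [redC_pow hzi, hk, h1])
    rw [← pow_mul, mul_comm, pow_mul, hζ.pow_eq_one, one_pow]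
  have : NeZero N := ⟨hN0⟩
  obtain ⟨i, -, rfl⟩ := hr.eq_pow_of_pow_eq_one hl
  exact ⟨ζ ^ i, by rw [← pow_mul, mul_comm, pow_mul, hζ.pow_eq_one, one_pow], redC_pow hzi i⟩

section Rep

variable {C : Type u} [Group C]

/-- The Brauer character of a modular representation, zero at the singular elements. -/
noncomputable def beta (p : ℕ) {V : Type*} [AddCommGroup V] [Module (KM M) V]
    [FiniteDimensional (KM M) V] (ρ : Representation (KM M) C V) (g : C) : ℂ :=
  if IsPRegular p g then
    ((ρ g).charpoly.roots.map (lift M (BlockContrib.cofactor p C))).sum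
  else 0

variable [Fintype C]

theorem pow_cofactor (hp : p.Prime) {g : C} (hg : ¬ p ∣ orderOf g) :
    g ^ BlockContrib.cofactor p C = 1 := by
  refine orderOf_dvd_iff_pow_eq_one.1 ((Nat.Coprime.dvd_mul_left ?_).1
    (show orderOf g ∣ p ^ (Nat.card C).factorization p * BlockContrib.cofactor p C by
      rw [BlockContrib.pow_mul_cofactor]; exact orderOf_dvd_natCard g))
  exact (Nat.Coprime.pow_left _ (hp.coprime_iff_not_dvd.2 hg)).symm

variable {V : Type*} [AddCommGroup V] [Module (KM M) V] [FiniteDimensional (KM M) V]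

/-- Reduction of the Brauer character is the trace. -/
theorem redC_beta (hM : IsPModular p M) (ρ : Representation (KM M) C V) {g : C}
    (hg : ¬ p ∣ orderOf g) : redC M (beta p ρ g) = LinearMap.trace (KM M) V (ρ g) ∧
      Int' M (beta p ρ g) := by
  have hN := BlockContrib.cofactor_not_dvd (p := p) (G := C) hM.1
  have hN0 : BlockContrib.cofactor p C ≠ 0 := fun e => hN (e ▸ dvd_zero p)
  have hroot : ∀ l ∈ (ρ g).charpoly.roots, l ^ BlockContrib.cofactor p C = 1 := by
    intro l hl
    have hev : Module.End.HasEigenvalue (ρ g) l := by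
      rw [Module.End.hasEigenvalue_iff_isRoot_charpoly]
      exact (mem_roots'.1 hl).2
    obtain ⟨v, hv⟩ := hev.exists_hasEigenvector
    have h1 := hv.pow_apply (BlockContrib.cofactor p C)
    rw [← map_pow, pow_cofactor hM.1 hg, map_one, Module.End.one_apply] at h1
    by_contra hne
    have h2 : ((1 : KM M) - l ^ BlockContrib.cofactor p C) • v = 0 := by
      rw [sub_smul, one_smul, ← h1, sub_self]
    rcases smul_eq_zero.1 h2 with h3 | h3
    · exact hne (sub_eq_zero.1 h3).symm
    · exact hv.2 h3
  rw [Module.End.trace_eq_sum_roots_charpoly_of_splits (IsAlgClosed.splits _), beta,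
    if_pos (by exact hg)]
  clear * - hM hN hN0 hroot
  revert hroot
  induction (ρ g).charpoly.roots using Multiset.induction with
  | empty => intro _; exact ⟨by rw [Multiset.map_zero, Multiset.sum_zero, redC, dif_pos int'_zero]; exact map_zero _,
      by simpa using int'_zero⟩
  | cons a s ih =>
    intro hroot
    obtain ⟨h1, h2⟩ := ih fun l hl => hroot l (Multiset.mem_cons_of_mem hl)
    have ha := exists_root_above hM hN (hroot a (Multiset.mem_cons_self a s))
    have hlift : lift M (BlockContrib.cofactor p C) a = ha.choose := dif_pos ha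
    have hi : Int' M ha.choose := int'_of_pow_eq_one hN0 ha.choose_spec.1
    rw [Multiset.map_cons, Multiset.sum_cons, Multiset.sum_cons, hlift]
    refine ⟨?_, hi.add h2⟩
    rw [redC, dif_pos (hi.add h2), ← h1]
    conv_rhs => rw [← ha.choose_spec.2, redC, redC, dif_pos hi, dif_pos h2, ← map_add]
    rfl

omit [Fintype C] in
theorem beta_conj {W : Type*} [AddCommGroup W] [Module (KM M) W] [FiniteDimensional (KM M) W]
    (ρ : Representation (KM M) C V) (σ : Representation (KM M) C W) (e : V ≃ₗ[KM M] W)
    (he : ∀ g v, e (ρ g v) = σ g (e v)) : beta p ρ = beta p σ := by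
  funext g
  have h : σ g = e.conj (ρ g) := LinearMap.ext fun w => by
    rw [LinearEquiv.conj_apply_apply, he, LinearEquiv.apply_symm_apply]
  rw [beta, beta, h, LinearEquiv.charpoly_conj]

omit [Fintype C] in
theorem beta_comp (α : C ≃* C) (ρ : Representation (KM M) C V) (g : C) :
    beta p (ρ.comp α.toMonoidHom) g = beta p ρ (α g) := by
  have h : IsPRegular p (α g) ↔ IsPRegular p g := by rw [IsPRegular, IsPRegular, MulEquiv.orderOf_eq]
  by_cases hg : IsPRegular p g
  · rw [beta, beta, if_pos hg, if_pos (h.2 hg)]; rfl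
  · rw [beta, beta, if_neg hg, if_neg (mt h.1 hg)]

/-- Multiplicativity of the characteristic polynomial. -/
theorem charpoly_mul {R U : Type*} [Field R] [AddCommGroup U] [Module R U] [FiniteDimensional R U]
    (W : Submodule R U) (e : U →ₗ[R] U) (he : W ≤ W.comap e) :
    e.charpoly = (e.restrict he).charpoly * (W.mapQ W e he).charpoly := by
  let m := Module.Free.ChooseBasisIndex R W
  let bW : Module.Basis m R W := Module.Free.chooseBasis R W
  let n := Module.Free.ChooseBasisIndex R (U ⧸ W)
  let bQ : Module.Basis n R (U ⧸ W) := Module.Free.chooseBasis R (U ⧸ W)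
  let b := Module.Basis.sumQuot bW bQ
  let A : Matrix m m R := LinearMap.toMatrix bW bW (e.restrict he)
  let B : Matrix m n R := Matrix.of fun i l => (b.repr (e (b (Sum.inr l)))) (Sum.inl i)
  let D : Matrix n n R := LinearMap.toMatrix bQ bQ (W.mapQ W e he)
  suffices LinearMap.toMatrix b b e = Matrix.fromBlocks A B 0 D by
    rw [← LinearMap.charpoly_toMatrix e b, this, ← LinearMap.charpoly_toMatrix (e.restrict he) bW,
      ← LinearMap.charpoly_toMatrix (W.mapQ W e he) bQ, Matrix.charpoly_fromBlocks_zero₂₁]
  ext u v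
  cases u with
  | inl i =>
    cases v with
    | inl k =>
      simp only [b, Module.Basis.sumQuot_inl, Matrix.fromBlocks_apply₁₁, A, LinearMap.toMatrix_apply]
      apply Module.Basis.sumQuot_repr_inl_of_mem
    | inr l => simp [b, LinearMap.toMatrix_apply, Matrix.fromBlocks_apply₁₂, B]
  | inr j =>
    cases v with
    | inl k =>
      suffices W.mkQ (e (bW k)) = 0 by simp [LinearMap.toMatrix_apply, b, this]
      rw [← LinearMap.mem_ker, Submodule.ker_mkQ]
      exact he (Submodule.coe_mem (bW k))
    | inr l =>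
      simp only [LinearMap.toMatrix_apply, b, D, Matrix.fromBlocks_apply₂₂, Module.Basis.sumQuot_repr_inr]
      rw [← Module.Basis.sumQuot_inr bW bQ l]
      rfl

omit [Fintype C] in
theorem beta_add (ρ : Representation (KM M) C V) (W : Submodule (KM M) V)
    (hW : ∀ g, W ≤ W.comap (ρ g)) (σ : Representation (KM M) C W)
    (τ : Representation (KM M) C (V ⧸ W)) (hσ : ∀ g, σ g = (ρ g).restrict (hW g))
    (hτ : ∀ g, τ g = W.mapQ W (ρ g) (hW g)) : beta p ρ = beta p σ + beta p τ := by
  funext g
  rw [Pi.add_apply, beta, beta, beta, hσ, hτ, charpoly_mul W (ρ g) (hW g)]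
  split_ifs
  · rw [roots_mul (mul_ne_zero (LinearMap.charpoly_monic _).ne_zero
      (LinearMap.charpoly_monic _).ne_zero), Multiset.map_add, Multiset.sum_add]
  · simp

/-- Irreducibility, in terms of invariant submodules. -/
def Simp (ρ : Representation (KM M) C V) : Prop :=
  Nontrivial V ∧ ∀ W : Submodule (KM M) V, (∀ g, W ≤ W.comap (ρ g)) → W = ⊥ ∨ W = ⊤

/-- The class sums act through the scalars `c`. -/
def Cent (ρ : Representation (KM M) C V) (c : C → KM M) : Prop :=
  ∀ g : C, (∑ x ∈ Finset.univ.filter (IsConj g), ρ x) = c g • 1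

theorem cent_unique {ρ : Representation (KM M) C V} (hρ : Simp ρ) {c c' : C → KM M}
    (h : Cent ρ c) (h' : Cent ρ c') : c = c' := by
  funext g
  obtain ⟨v, hv⟩ := (have := hρ.1; exists_ne (0 : V))
  have h1 := LinearMap.congr_fun ((h g).symm.trans (h' g)) v
  simp only [LinearMap.smul_apply, Module.End.one_apply] at h1
  exact smul_left_injective _ hv h1

theorem Simp.equiv {W : Type*} [AddCommGroup W] [Module (KM M) W] [FiniteDimensional (KM M) W]
    {ρ : Representation (KM M) C V} (hρ : Simp ρ) (σ : Representation (KM M) C W)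
    (e : V ≃ₗ[KM M] W) (he : ∀ g v, e (ρ g v) = σ g (e v)) : Simp σ := by
  refine ⟨(have := hρ.1; e.symm.toEquiv.nontrivial), fun U hU => ?_⟩
  have h := hρ.2 (U.comap e.toLinearMap) fun g v hv => by
    show e (ρ g v) ∈ U
    rw [he]; exact hU g hv
  rcases h with h | h
  · left
    rw [← Submodule.map_comap_eq_of_surjective (f := e.toLinearMap) e.surjective U, h,
      Submodule.map_bot]
  · right
    rw [← Submodule.map_comap_eq_of_surjective (f := e.toLinearMap) e.surjective U, h,
      Submodule.map_top, LinearMap.range_eq_top.2 e.surjective]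

theorem Cent.equiv {W : Type*} [AddCommGroup W] [Module (KM M) W] [FiniteDimensional (KM M) W]
    {ρ : Representation (KM M) C V} {c : C → KM M} (h : Cent ρ c)
    (σ : Representation (KM M) C W) (e : V ≃ₗ[KM M] W)
    (he : ∀ g v, e (ρ g v) = σ g (e v)) : Cent σ c := by
  intro g
  refine LinearMap.ext fun w => ?_
  obtain ⟨v, rfl⟩ := e.surjective w
  have h1 := congrArg e (LinearMap.congr_fun (h g) v)
  rw [LinearMap.sum_apply, map_sum] at h1
  simp only [LinearMap.smul_apply, Module.End.one_apply, map_smul, he] at h1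
  rw [LinearMap.sum_apply, h1]
  rfl

end Rep

section Simples

variable {C : Type u} [Group C] [Fintype C]

/-- The Brauer characters of the irreducible representations with central character `c`. -/
def ibrSet (p : ℕ) (c : C → KM M) : Set (C → ℂ) :=
  {f | ∃ (d : ℕ) (ρ : Representation (KM M) C (Fin d → KM M)), Simp ρ ∧ Cent ρ c ∧ f = beta p ρ}

/-- A Brauer character is a sum of those of irreducible representations with the same central
character. -/
theorem beta_mem_span {c : C → KM M} : ∀ (n : ℕ) (V : Type) [AddCommGroup V] [Module (KM M) V]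
    [FiniteDimensional (KM M) V] (ρ : Representation (KM M) C V),
    Module.finrank (KM M) V = n → Cent ρ c → beta p ρ ∈ Submodule.span ℂ (ibrSet p c) := by
  intro n
  induction n using Nat.strong_induction_on with
  | _ n ih =>
    intro V _ _ _ ρ hn hc
    rcases subsingleton_or_nontrivial V with hs | hs
    · have : beta p ρ = 0 := by
        funext g
        rw [beta]
        have hd : (ρ g).charpoly = 1 := by
          refine (LinearMap.charpoly_monic (ρ g)).natDegree_eq_zero.1 ?_
          rw [LinearMap.charpoly_natDegree, Module.finrank_zero_of_subsingleton]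
        rw [hd, roots_one]
        simp
      rw [this]; exact zero_mem _
    by_cases hsimp : Simp ρ
    · let e := (Module.finBasis (KM M) V).equivFun
      let σ : Representation (KM M) C (Fin (Module.finrank (KM M) V) → KM M) :=
        (LinearEquiv.conjRingEquiv e).toMonoidHom.comp ρ
      have he : ∀ g v, e (ρ g v) = σ g (e v) := fun g v => by
        show _ = e (ρ g (e.symm (e v)))
        rw [e.symm_apply_apply]
      exact Submodule.subset_span
        ⟨_, σ, hsimp.equiv σ e he, hc.equiv σ e he, beta_conj ρ σ e he⟩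
    · simp only [Simp, hs, true_and, not_forall, not_or] at hsimp
      obtain ⟨W, hW, hbot, htop⟩ := hsimp
      let σ : Representation (KM M) C W :=
        { toFun := fun g => (ρ g).restrict (hW g)
          map_one' := LinearMap.ext fun v => Subtype.ext (by simp [LinearMap.restrict_apply])
          map_mul' := fun a b => LinearMap.ext fun v => Subtype.ext (by simp [LinearMap.restrict_apply]) }
      let τ : Representation (KM M) C (V ⧸ W) :=
        { toFun := fun g => W.mapQ W (ρ g) (hW g)
          map_one' := Submodule.linearMap_qext _ (LinearMap.ext fun v => by simp)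
          map_mul' := fun a b => Submodule.linearMap_qext _ (LinearMap.ext fun v => by simp) }
      rw [beta_add ρ W hW σ τ (fun _ => rfl) (fun _ => rfl)]
      have h1 := Submodule.finrank_lt htop
      have h2 : 0 < Module.finrank (KM M) W := by
        refine Nat.pos_of_ne_zero fun h => hbot (Submodule.finrank_eq_zero.1 h)
      have h3 := Submodule.finrank_quotient_add_finrank W
      refine add_mem (ih _ (by omega) W σ rfl fun g => LinearMap.ext fun v => Subtype.ext ?_)
        (ih _ (by omega) (V ⧸ W) τ rfl fun g => Submodule.linearMap_qext _ (LinearMap.ext fun v => ?_))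
      · have h4 := LinearMap.congr_fun (hc g) (v : V)
        simpa [LinearMap.restrict_apply, σ, LinearMap.sum_apply] using h4
      · have h4 := congrArg W.mkQ (LinearMap.congr_fun (hc g) v)
        simpa [τ, LinearMap.sum_apply] using h4

/-- The trace at an element is the trace at its regular part. -/
theorem trace_mul_pPart (hM : IsPModular p M) {V : Type*} [AddCommGroup V] [Module (KM M) V]
    [FiniteDimensional (KM M) V] (ρ : Representation (KM M) C V) {x y : C} (hc : Commute x y)
    (hx : ∃ k, orderOf x = p ^ k) :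
    LinearMap.trace (KM M) V (ρ (x * y)) = LinearMap.trace (KM M) V (ρ y) := by
  obtain ⟨k, hk⟩ := hx
  have : Fact p.Prime := ⟨hM.1⟩
  have hchar : CharP (KM M) p := by
    refine (CharP.charP_iff_prime_eq_zero hM.1).2 ?_
    rw [← map_natCast (res M), res_eq_zero_iff]
    simpa using sm_p hM
  have hn : (ρ x - 1) ^ p ^ k = 0 := by
    rcases subsingleton_or_nontrivial V with h | h
    · exact Subsingleton.elim _ _
    have : CharP (Module.End (KM M) V) p := charP_of_injective_algebraMap (algebraMap (KM M) (Module.End (KM M) V)).injective p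
    rw [sub_pow_char_pow_of_commute p k (Commute.one_right _), one_pow, ← map_pow, ← hk,
      pow_orderOf_eq_one, map_one, sub_self]
  have hcom : Commute (ρ x - 1) (ρ y) := (hc.map ρ).sub_left (Commute.one_left _)
  have h0 : IsNilpotent ((ρ x - 1) * ρ y) := hcom.isNilpotent_mul_right ⟨_, hn⟩
  have h1 := (LinearMap.isNilpotent_trace_of_isNilpotent h0).eq_zero
  rw [sub_mul, one_mul, map_sub, ← map_mul, sub_eq_zero] at h1
  exact h1

/-- Two representations are equivalent. -/
def Iso {V W : Type*} [AddCommGroup V] [Module (KM M) V] [AddCommGroup W] [Module (KM M) W]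
    (ρ : Representation (KM M) C V) (σ : Representation (KM M) C W) : Prop :=
  ∃ e : V ≃ₗ[KM M] W, ∀ g v, e (ρ g v) = σ g (e v)

/-- Schur's lemma. -/
theorem schur_zero {V W : Type*} [AddCommGroup V] [Module (KM M) V] [AddCommGroup W]
    [Module (KM M) W] [FiniteDimensional (KM M) V] [FiniteDimensional (KM M) W]
    {ρ : Representation (KM M) C V} {σ : Representation (KM M) C W} (hρ : Simp ρ) (hσ : Simp σ)
    (hne : ¬ Iso ρ σ) (f : V →ₗ[KM M] W) (hf : ∀ g v, f (ρ g v) = σ g (f v)) : f = 0 := by
  by_contra h
  have hker : LinearMap.ker f = ⊥ := by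
    refine (hρ.2 _ fun g v hv => ?_).resolve_right fun e => h (LinearMap.ker_eq_top.1 e)
    rw [Submodule.mem_comap, LinearMap.mem_ker, hf, LinearMap.mem_ker.1 hv, map_zero]
  have hran : LinearMap.range f = ⊤ := by
    refine (hσ.2 _ fun g w hw => ?_).resolve_left fun e => h (LinearMap.range_eq_bot.1 e)
    obtain ⟨v, rfl⟩ := hw
    exact ⟨ρ g v, hf g v⟩
  exact hne ⟨LinearEquiv.ofBijective f ⟨LinearMap.ker_eq_bot.1 hker, LinearMap.range_eq_top.1 hran⟩,
    hf⟩

/-- Schur's lemma, scalars. -/
theorem schur_scalar {V : Type*} [AddCommGroup V] [Module (KM M) V] [FiniteDimensional (KM M) V]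
    {ρ : Representation (KM M) C V} (hρ : Simp ρ) (f : Module.End (KM M) V)
    (hf : ∀ g v, f (ρ g v) = ρ g (f v)) : ∃ c : KM M, f = c • 1 := by
  have := hρ.1
  obtain ⟨c, hc⟩ := Module.End.exists_eigenvalue f
  refine ⟨c, ?_⟩
  have h := (hρ.2 (f.eigenspace c) fun g v hv => by
    rw [Submodule.mem_comap, Module.End.mem_eigenspace_iff]
    rw [Module.End.mem_eigenspace_iff] at hv
    rw [hf, hv, map_smul]).resolve_left hc
  ext v
  have hv : v ∈ f.eigenspace c := by rw [h]; exact Submodule.mem_top
  simpa using Module.End.mem_eigenspace_iff.1 hv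

end Simples

end Cfsg.Agent.BrauerCharReduction
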