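import Mathlib

/-!
Arithmetic for Brauer's theorem on the number `1 + n p` of Sylow subgroups of order `p`: if `n` is
not of the form `(h u p + u² + u + h) / (u + 1)`, then `(p - 1)(1 + n p)` has no divisor congruent to
`1` modulo `p` strictly between `1` and `1 + n p`.
-/

namespace Cfsg.Agent.BrauerForm63

/-- No divisor of `(p - 1)(1 + n p)` congruent to `1` lies strictly between `1` and `1 + n p`. -/
def NoForm (p n : ℕ) : Prop :=
  ∀ d : ℕ, (d : ℤ) ≡ 1 [ZMOD p] → d ∣ (p - 1) * (1 + n * p) → 1 < d → 1 + n * p ≤ d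

/-- The exceptional form of `n`. -/
def Form (p n : ℕ) : Prop :=
  ∃ h u : ℕ, 0 < h ∧ 0 < u ∧ n * (u + 1) = h * u * p + u ^ 2 + u + h

theorem noForm_of_not_form {p n : ℕ} (hp : p.Prime) (h : ¬ Form p n) : NoForm p n := by
  intro d hd hdvd hd1
  by_contra hlt
  push Not at hlt
  obtain ⟨u, hu⟩ := Int.ModEq.dvd hd.symm
  have hp2 : (2 : ℤ) ≤ p := by exact_mod_cast hp.two_le
  have hd1' : (1 : ℤ) < d := by exact_mod_cast hd1
  have hlt' : (d : ℤ) < 1 + n * p := by exact_mod_cast hlt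
  have hu1 : 1 ≤ u := by
    by_contra hc
    push Not at hc
    nlinarith
  have hun : u < n := by
    by_contra hc
    push Not at hc
    nlinarith
  obtain ⟨g, hg⟩ := hdvd
  have hg' : ((p : ℤ) - 1) * (1 + n * p) = d * g := by
    have h1 : ((((p - 1) * (1 + n * p) : ℕ)) : ℤ) = ((d * g : ℕ) : ℤ) := by rw [hg]
    push_cast [Nat.cast_sub hp.one_le] at h1
    exact h1
  have hdd : (d : ℤ) ∣ (u + 1) * (n - u) := by
    have h1 : (d : ℤ) ∣ ((p : ℤ) - 1) * (n - u) := by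
      have h2 : (d : ℤ) ∣ (p : ℤ) * (((p : ℤ) - 1) * (n - u)) :=
        ⟨g - ((p : ℤ) - 1), by linear_combination hg' + ((p : ℤ) - 1) * hu⟩
      have hcop : IsCoprime (d : ℤ) p := ⟨1, -u, by linear_combination hu⟩
      exact hcop.dvd_of_dvd_mul_left h2
    have h3 := dvd_sub (dvd_mul_right (d : ℤ) (n - u)) (dvd_mul_of_dvd_right h1 u)
    have h4 : (d : ℤ) * (n - u) - u * (((p : ℤ) - 1) * (n - u)) = (u + 1) * (n - u) := by
      linear_combination ((n : ℤ) - u) * hu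
    rwa [h4] at h3
  obtain ⟨k, hk⟩ := hdd
  have hk1 : 1 ≤ k := by
    by_contra hc
    push Not at hc
    nlinarith
  apply h
  refine ⟨k.toNat, u.toNat, by omega, by omega, ?_⟩
  have hkc : ((k.toNat : ℕ) : ℤ) = k := Int.toNat_of_nonneg (by omega)
  have huc : ((u.toNat : ℕ) : ℤ) = u := Int.toNat_of_nonneg (by omega)
  have : ((n * (u.toNat + 1) : ℕ) : ℤ) =
      ((k.toNat * u.toNat * p + u.toNat ^ 2 + u.toNat + k.toNat : ℕ) : ℤ) := by
    push_cast [hkc, huc]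
    linear_combination hk + k * hu
  exact_mod_cast this

/-- The form is inherited from a quotient. -/
theorem form_lift {p n₀ n₁ n : ℕ} (h : Form p n₀)
    (hn : 1 + n * p = (1 + n₀ * p) * (1 + n₁ * p)) (hp : 0 < p) : Form p n := by
  obtain ⟨a, u, ha, hu, e⟩ := h
  refine ⟨a + n₁ * (a * p + u + 1), u, Nat.add_pos_left ha _, hu, ?_⟩
  have hn' : n = n₀ + n₁ + n₀ * n₁ * p := by
    apply Nat.eq_of_mul_eq_mul_right hp
    have : 1 + n * p = 1 + (n₀ + n₁ + n₀ * n₁ * p) * p := by rw [hn]; ring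
    omega
  have ez : (n₀ : ℤ) * (u + 1) = a * u * p + u ^ 2 + u + a := by exact_mod_cast e
  have : ((n * (u + 1) : ℕ) : ℤ) =
      (((a + n₁ * (a * p + u + 1)) * u * p + u ^ 2 + u + (a + n₁ * (a * p + u + 1)) : ℕ) : ℤ) := by
    rw [hn']
    push_cast
    linear_combination (1 + (n₁ : ℤ) * p) * ez
  exact_mod_cast this

variable {p n : ℕ}

theorem R_pos (hp : p.Prime) : 0 < (p - 1) * (1 + n * p) :=
  Nat.mul_pos (by have := hp.two_le; omega) (by omega)

/-- A cofactor congruent to `-1` is at least `p - 1`. -/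
theorem pred_le_of_modEq {g : ℕ} (hp : p.Prime) (hg : (g : ℤ) ≡ -1 [ZMOD p]) : p - 1 ≤ g := by
  obtain ⟨w, hw⟩ := Int.ModEq.dvd hg.symm
  have hp2 : (2 : ℤ) ≤ p := by exact_mod_cast hp.two_le
  have hw1 : 1 ≤ w := by
    by_contra hc
    push Not at hc
    nlinarith [Int.natCast_nonneg g]
  have : (p : ℤ) - 1 ≤ g := by nlinarith
  omega

/-- The divisors congruent to `1`. -/
theorem NoForm.eq_of_one (hN : NoForm p n) (hp : p.Prime) {d : ℕ} (hd : (d : ℤ) ≡ 1 [ZMOD p])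
    (hdvd : d ∣ (p - 1) * (1 + n * p)) : d = 1 ∨ d = 1 + n * p := by
  have hd0 : 0 < d := Nat.pos_of_ne_zero fun h => by
    rw [h, zero_dvd_iff] at hdvd
    exact (R_pos hp).ne' hdvd
  rcases Nat.lt_or_ge 1 d with h1 | h1
  · right
    have h2 := hN d hd hdvd h1
    obtain ⟨g, hg⟩ := hdvd
    have hg' : ((p : ℤ) - 1) * (1 + n * p) = d * g := by
      have h3 : ((((p - 1) * (1 + n * p) : ℕ)) : ℤ) = ((d * g : ℕ) : ℤ) := by rw [hg]
      push_cast [Nat.cast_sub hp.one_le] at h3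
      exact h3
    obtain ⟨u, hu⟩ := Int.ModEq.dvd hd.symm
    have h4 : (g : ℤ) ≡ -1 [ZMOD p] := Int.ModEq.symm <| Int.modEq_iff_dvd.2
      ⟨(1 : ℤ) + ((p : ℤ) - 1) * n - u * g, by linear_combination -hg' - (g : ℤ) * hu⟩
    have h5 := pred_le_of_modEq hp h4
    refine le_antisymm ?_ h2
    refine Nat.le_of_mul_le_mul_left ?_ (show 0 < p - 1 by have := hp.two_le; omega)
    calc (p - 1) * d ≤ g * d := Nat.mul_le_mul_right _ h5
      _ = _ := by rw [hg, mul_comm]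
  · left; omega

/-- The divisors congruent to `-1`. -/
theorem NoForm.eq_of_neg_one (hN : NoForm p n) (hp : p.Prime) {d : ℕ}
    (hd : (d : ℤ) ≡ -1 [ZMOD p]) (hdvd : d ∣ (p - 1) * (1 + n * p)) :
    d = p - 1 ∨ d = (p - 1) * (1 + n * p) := by
  obtain ⟨g, hg⟩ := hdvd
  have hg' : ((p : ℤ) - 1) * (1 + n * p) = d * g := by
    have h3 : ((((p - 1) * (1 + n * p) : ℕ)) : ℤ) = ((d * g : ℕ) : ℤ) := by rw [hg]
    push_cast [Nat.cast_sub hp.one_le] at h3
    exact h3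
  obtain ⟨u, hu⟩ := Int.ModEq.dvd hd.symm
  have h4 : (g : ℤ) ≡ 1 [ZMOD p] := Int.ModEq.symm <| Int.modEq_iff_dvd.2
    ⟨u * g - 1 - ((p : ℤ) - 1) * n, by linear_combination hg' + (g : ℤ) * hu⟩
  rcases hN.eq_of_one hp h4 (Dvd.intro_left _ hg.symm) with h | h
  · right; rw [hg, h, mul_one]
  · left
    rw [h] at hg
    exact (Nat.eq_of_mul_eq_mul_right (by omega) hg).symm

theorem dvd_R {e d : ℕ} (hep : e ∣ p - 1) (hdvd : d ∣ e * (1 + n * p)) :
    d ∣ (p - 1) * (1 + n * p) := hdvd.trans (Nat.mul_dvd_mul_right hep _)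

theorem nat_deg_pos {e f : ℕ} (hN : NoForm p n) (hp : p.Prime) (hep : e ∣ p - 1)
    (hf : (f : ℤ) ≡ 1 [ZMOD p]) (hf1 : 1 < f) (hdvd : f ∣ e * (1 + n * p)) : f = 1 + n * p :=
  (hN.eq_of_one hp hf (dvd_R hep hdvd)).resolve_left (by omega)

theorem nat_deg_neg {e f : ℕ} (hN : NoForm p n) (hp : p.Prime) (hep : e ∣ p - 1) (hn1 : 1 ≤ n)
    (hf : (f : ℤ) ≡ -1 [ZMOD p]) (hdvd : f ∣ e * (1 + n * p))
    (hsq : f * f < p * e * (1 + n * p)) : f = p - 1 := by
  refine (hN.eq_of_neg_one hp hf (dvd_R hep hdvd)).resolve_right fun h => ?_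
  subst h
  have hp2 := hp.two_le
  have he : e ≤ p - 1 := Nat.le_of_dvd (by omega) hep
  have h1 : p ≤ 1 + n * p := by nlinarith
  have h2 : p * e ≤ (p - 1) * (1 + n * p) * (p - 1) :=
    calc p * e ≤ (1 + n * p) * (p - 1) := Nat.mul_le_mul h1 he
      _ = (p - 1) * (1 + n * p) := mul_comm _ _
      _ ≤ _ := Nat.le_mul_of_pos_right _ (by omega)
  have h3 := Nat.mul_le_mul_right (1 + n * p) h2
  rw [mul_assoc ((p - 1) * (1 + n * p))] at h3
  omega

/-- The exceptional degree cannot be `e + w p` with `w` positive. -/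
theorem no_exc_pos {e w : ℕ} (hN : NoForm p n) (hp : p.Prime) (hep : e ∣ p - 1) (he : 0 < e)
    (hn1 : 1 ≤ n) (hw : 1 ≤ w) (hwle : w ≤ (e - 1) * n)
    (hdvd : e + w * p ∣ e * (1 + n * p)) : False := by
  obtain ⟨t, ht⟩ := hep
  have hp2 := hp.two_le
  have ht1 : 1 ≤ t := Nat.pos_of_ne_zero fun h => by rw [h, mul_zero] at ht; omega
  have h1 : ((t * (e + w * p) : ℕ) : ℤ) ≡ -1 [ZMOD p] := by
    refine Int.ModEq.symm <| Int.modEq_iff_dvd.2 ⟨1 + t * w, ?_⟩
    have h2 : ((p - 1 : ℕ) : ℤ) = ((e * t : ℕ) : ℤ) := by rw [ht]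
    push_cast [Nat.cast_sub hp.one_le] at h2
    push_cast
    linear_combination -h2
  have h3 : t * (e + w * p) ∣ (p - 1) * (1 + n * p) := by
    rw [ht, mul_comm e t, mul_assoc]
    exact Nat.mul_dvd_mul_left t hdvd
  rcases hN.eq_of_neg_one hp h1 h3 with h | h
  · rw [ht, mul_comm e t] at h
    have := Nat.eq_of_mul_eq_mul_left (show 0 < t by omega) h
    have : p ≤ w * p := Nat.le_mul_of_pos_left _ (by omega)
    omega
  · rw [ht, mul_comm e t, mul_assoc] at h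
    have h4 := Nat.eq_of_mul_eq_mul_left (show 0 < t by omega) h
    have h5 : w * p = e * n * p := by
      rw [mul_add, mul_one] at h4
      rw [mul_assoc]; omega
    have h6 := Nat.eq_of_mul_eq_mul_right hp.pos h5
    have h7 : (e - 1) * n + n = e * n := by
      rw [Nat.sub_mul, one_mul]
      exact Nat.sub_add_cancel (Nat.le_mul_of_pos_left n he)
    omega

/-- The exceptional degree `k p - e` has cofactor `p - 1`. -/
theorem exc_neg {e k D : ℕ} (hN : NoForm p n) (hp : p.Prime) (hep : e ∣ p - 1) (he : 0 < e)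
    (h2e : 2 * e ≤ p - 1) (hD : (D : ℤ) = k * p - e)
    (hdvd : D ∣ e * (1 + n * p)) : k * (p - 1) = e * (n + 1) := by
  obtain ⟨t, ht⟩ := hep
  have hp2 := hp.two_le
  have ht2 : 2 ≤ t := by nlinarith
  have h2 : ((p - 1 : ℕ) : ℤ) = ((e * t : ℕ) : ℤ) := by rw [ht]
  push_cast [Nat.cast_sub hp.one_le] at h2
  have h1 : ((t * D : ℕ) : ℤ) ≡ 1 [ZMOD p] := by
    refine Int.ModEq.symm <| Int.modEq_iff_dvd.2 ⟨t * k - 1, ?_⟩
    push_cast [hD]
    linear_combination h2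
  have h3 : t * D ∣ (p - 1) * (1 + n * p) := by
    rw [ht, mul_comm e t, mul_assoc]
    exact Nat.mul_dvd_mul_left t hdvd
  rcases hN.eq_of_one hp h1 h3 with h | h
  · exact absurd (Nat.eq_one_of_mul_eq_one_right h) (by omega)
  · have h4 : ((t * D : ℕ) : ℤ) = ((1 + n * p : ℕ) : ℤ) := by rw [h]
    push_cast [hD] at h4
    have h5 : (t : ℤ) * k = n + 1 := by
      apply mul_right_cancel₀ (show (p : ℤ) ≠ 0 by exact_mod_cast hp.ne_zero)
      linear_combination h4 - h2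
    have h6 : ((k * (p - 1) : ℕ) : ℤ) = ((e * (n + 1) : ℕ) : ℤ) := by
      push_cast [Nat.cast_sub hp.one_le]
      linear_combination (k : ℤ) * h2 + (e : ℤ) * h5
    exact_mod_cast h6

end Cfsg.Agent.BrauerForm63
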