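import Cfsg.Agent.Lib.BrauerForm63Count
import Cfsg.Agent.Lib.BrauerReynolds7Fixed
import Cfsg.Agent.Lib.CharBasicPerm

/-!
# Two Sylow normalizers meet in a complement

When the exceptional degree is `k p - e`, every intersection of two distinct Sylow normalizers has
order `e`.
-/

set_option autoImplicit false

open Finset
open scoped ComplexConjugate

namespace Cfsg.Agent.BrauerForm63

open Cfsg Cfsg.Agent.BrauerReynolds7 Cfsg.Agent.CharBasic Cfsg.Agent.CharBasicOrth Cfsg.Agent.DefectOneSign7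
open Cfsg.Agent.BlockPrincipal81

attribute [local instance] Classical.propDecidable

universe u

variable {G : Type u} [Group G] [Fintype G]

variable {p : ℕ} [Fact p.Prime]
  {P : Sylow p G} {e n : ℕ} {X Y : Finset (IrrCharacter G)} {a : IrrCharacter G → ℤ} {ε : ℤ}
  (S : Setup P e n X Y a ε)

include S

/-- In the negative case `k p = D + e` with `k t = n + 1`. -/
theorem exists_k (hw : (Xp X a).card * n < (Xm X a).card) : ε = -1 ∧ ∃ k : ℕ, 1 ≤ k ∧
    (Xm X a).card = (Xp X a).card * n + k ∧ Y.card * k = n + 1 ∧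
    ∀ η ∈ Y, charDegree (η : G → ℂ) + e = k * p ∧ Y.card * charDegree (η : G → ℂ) = 1 + n * p := by
  obtain ⟨k, hk⟩ : ∃ k, (Xm X a).card = (Xp X a).card * n + k := Nat.exists_eq_add_of_le hw.le
  have hk1 : 1 ≤ k := by omega
  have he := S.two_le
  have hp := (Fact.out : p.Prime)
  have hdeg : ∀ η ∈ Y, ε = -1 ∧ (charDegree (η : G → ℂ) : ℤ) = k * p - e := by
    intro η hη
    have h := deg_Y S hη
    rw [show ((Xp X a).card : ℤ) * n - ((Xm X a).card : ℤ) = -(k : ℤ) by
      rw [hk]; push_cast; ring] at h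
    have h2e := two_mul_le S
    have hlt : (e : ℤ) < (k : ℤ) * p := by
      have : e < p := by have := hp.two_le; omega
      calc (e : ℤ) < p := by exact_mod_cast this
        _ ≤ (k : ℤ) * p := le_mul_of_one_le_left (by omega) (by exact_mod_cast hk1)
    rcases S.sign with h1 | h1
    · exfalso
      rw [h1, one_mul] at h
      have := Int.natCast_nonneg (charDegree (η : G → ℂ))
      linarith
    · rw [h1] at h; exact ⟨h1, by linarith⟩
  obtain ⟨η₀, hη₀⟩ := Y_nonempty S.toBlk
  have hkey : k * (p - 1) = e * (n + 1) :=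
    exc_neg S.noForm hp (dvd_pred S) (by omega) (two_mul_le S) (hdeg η₀ hη₀).2
      (deg_dvd S (Or.inr hη₀))
  have hpt : p - 1 = Y.card * e := by have := S.cardY; omega
  have htk : Y.card * k = n + 1 := by
    rw [hpt] at hkey
    exact Nat.eq_of_mul_eq_mul_left (show 0 < e by omega) (by rw [← hkey]; ring)
  refine ⟨(hdeg η₀ hη₀).1, k, hk1, hk, htk, fun η hη => ?_⟩
  have h1 : charDegree (η : G → ℂ) + e = k * p := by
    have h := (hdeg η hη).2
    have h' : ((charDegree (η : G → ℂ) + e : ℕ) : ℤ) = ((k * p : ℕ) : ℤ) := by push_cast; linarith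
    exact_mod_cast h'
  refine ⟨h1, ?_⟩
  have h2 : Y.card * charDegree (η : G → ℂ) + Y.card * e = (n + 1) * p := by
    rw [← mul_add, h1, ← htk, mul_assoc]
  have := S.cardY
  rw [add_mul, one_mul] at h2
  omega

/-- The averages over `P` and over its normalizer. -/
theorem exists_counts (hw : (Xp X a).card * n < (Xm X a).card) :
    ∃ c m : IrrCharacter G → ℕ,
      (∀ χ : IrrCharacter G, ∑ x ∈ els (P : Subgroup G), (χ : G → ℂ) x = (p : ℂ) * c χ) ∧
      (∀ χ : IrrCharacter G,
        ∑ x ∈ els (Subgroup.normalizer ((P : Subgroup G) : Set G)), (χ : G → ℂ) x =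
          ((p * e : ℕ) : ℂ) * m χ) ∧
      c (oneChar G) = 1 ∧ m (oneChar G) = 1 ∧
      (∀ χ ∈ Xp X a, c χ = n + 1 ∧ m χ = 0) ∧ (∀ χ ∈ Xm X a, c χ = 0 ∧ m χ = 0) ∧
      (∀ η ∈ Y, c η * Y.card = n + 1 ∧ m η = 0) ∧
      (∀ χ, χ ∉ X → χ ∉ Y → m χ = c χ) ∧ ∑ χ : IrrCharacter G, m χ * m χ = n + 1 := by
  obtain ⟨-, k, hk1, hk, htk, hD⟩ := exists_k S hw
  have hp := (Fact.out : p.Prime)
  set N := Subgroup.normalizer ((P : Subgroup G) : Set G) with hN
  have hNcard : Nat.card N = p * e := card_normalizer S.cardP S.cent e S.relIdx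
  choose c m hc hm hmc using fun χ : IrrCharacter G =>
    exists_nat_avg_le (isCharacter_of_isIrrCharacter χ.2) (Subgroup.le_normalizer (H := (P : Subgroup G)))
  simp only [show Nat.card (P : Subgroup G) = p from S.cardP] at hc
  replace hm : ∀ χ : IrrCharacter G, ∑ x ∈ els N, (χ : G → ℂ) x = ((p * e : ℕ) : ℂ) * m χ :=
    fun χ => by rw [← hNcard]; exact hm χ
  have hcX : ∀ χ ∈ X, (p * c χ : ℤ) = charDegree (χ : G → ℂ) + (p - 1 : ℕ) * a χ := by
    intro χ hχ
    have h := hc χ
    rw [sum_els_P, Finset.sum_congr rfl fun y hy => S.valX χ hχ y hy, Finset.sum_const,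
      card_Ps S.cardP, nsmul_eq_mul, ClassAlgebraVal.apply_one_eq_charDegree] at h
    refine Int.cast_injective (α := ℂ) ?_
    push_cast
    exact h.symm
  have hc1 : c (oneChar G) = 1 := by
    have h := hcX _ S.one_mem
    have h1 : charDegree (oneChar G : G → ℂ) = 1 := by
      have h := ClassAlgebraVal.apply_one_eq_charDegree (oneChar G)
      rw [show (oneChar G : G → ℂ) 1 = 1 from rfl] at h
      exact_mod_cast h.symm
    rw [S.a_one, h1, Nat.cast_sub hp.one_le] at h
    push_cast at h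
    have h2 : (p : ℤ) * (c (oneChar G) : ℤ) = (p : ℤ) * 1 := by linarith
    exact_mod_cast mul_left_cancel₀ (by exact_mod_cast hp.ne_zero) h2
  have hm1 : m (oneChar G) = 1 := by
    have h := hm (oneChar G)
    rw [Finset.sum_congr rfl fun x _ => show (oneChar G : G → ℂ) x = 1 from rfl, Finset.sum_const,
      card_els, hNcard, nsmul_eq_mul] at h
    have h2 := mul_left_cancel₀
      (Nat.cast_ne_zero.2 (Nat.mul_pos hp.pos (by have := S.two_le; omega)).ne') h
    exact_mod_cast h2.symm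
  have hcp : ∀ χ ∈ Xp X a, c χ = n + 1 := by
    intro χ hχ
    have h := hcX χ (Finset.mem_filter.1 hχ).1
    rw [deg_Xp S hχ, (Finset.mem_filter.1 hχ).2.1, Nat.cast_sub hp.one_le] at h
    push_cast at h
    have h2 : (p : ℤ) * (c χ : ℤ) = (p : ℤ) * ((n + 1 : ℕ) : ℤ) := by push_cast; linarith
    exact_mod_cast mul_left_cancel₀ (by exact_mod_cast hp.ne_zero) h2
  have hcm : ∀ χ ∈ Xm X a, c χ = 0 := by
    intro χ hχ
    have h := hcX χ (Finset.mem_filter.1 hχ).1
    rw [deg_Xm S hχ, (Finset.mem_filter.1 hχ).2] at h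
    have h2 : (p : ℤ) * (c χ : ℤ) = 0 := by linarith
    simpa [hp.ne_zero] using h2
  have hcY : ∀ η ∈ Y, c η = k := by
    intro η hη
    have h := hc η
    rw [sum_els_P, sum_Ps_Y S.toBlk S.cardP S.cent hη, (exists_k S hw).1,
      ClassAlgebraVal.apply_one_eq_charDegree] at h
    push_cast at h
    rw [neg_neg, one_mul] at h
    have h2 : charDegree (η : G → ℂ) + e = p * c η := by exact_mod_cast h
    rw [(hD η hη).1, mul_comm] at h2
    exact (Nat.eq_of_mul_eq_mul_left hp.pos h2).symm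
  have hsd : ∀ (H : Subgroup G), ∑ χ : IrrCharacter G,
      (charDegree (χ : G → ℂ) : ℂ) * ∑ x ∈ els H, (χ : G → ℂ) x = (Nat.card G : ℂ) := by
    intro H
    rw [Finset.sum_congr rfl fun χ _ => Finset.mul_sum _ _ _, Finset.sum_comm,
      Finset.sum_congr rfl fun x _ => by
        rw [Finset.sum_congr rfl fun χ _ => mul_comm _ _, sum_deg_mul x],
      Finset.sum_ite_eq', if_pos (mem_els.2 (one_mem H))]
  have hsc : ∑ χ : IrrCharacter G, charDegree (χ : G → ℂ) * c χ = e * (1 + n * p) := by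
    have h := hsd (P : Subgroup G)
    simp only [hc] at h
    rw [card_G S, Finset.sum_congr rfl fun χ _ => mul_left_comm _ _ _, ← Finset.mul_sum] at h
    have h2 : p * ∑ χ : IrrCharacter G, charDegree (χ : G → ℂ) * c χ = p * (e * (1 + n * p)) := by
      rw [show p * (e * (1 + n * p)) = (1 + n * p) * (p * e) by ring]
      exact_mod_cast h
    exact Nat.eq_of_mul_eq_mul_left hp.pos h2
  have hsm : ∑ χ : IrrCharacter G, charDegree (χ : G → ℂ) * m χ = 1 + n * p := by
    have h := hsd N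
    simp only [hm] at h
    rw [card_G S, Finset.sum_congr rfl fun χ _ => mul_left_comm _ _ _, ← Finset.mul_sum] at h
    have h2 : (p * e) * ∑ χ : IrrCharacter G, charDegree (χ : G → ℂ) * m χ =
        (p * e) * (1 + n * p) := by
      rw [mul_comm (p * e) (1 + n * p)]
      exact_mod_cast h
    exact Nat.eq_of_mul_eq_mul_left (Nat.mul_pos hp.pos (by have := S.two_le; omega)) h2
  set O := Finset.univ.filter fun χ : IrrCharacter G => χ ∉ X ∧ χ ∉ Y with hO
  have hsum : ∀ f : IrrCharacter G → ℕ, ∑ χ : IrrCharacter G, f χ =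
      f (oneChar G) + ∑ χ ∈ Xp X a, f χ + ∑ χ ∈ Xm X a, f χ + ∑ χ ∈ Y, f χ + ∑ χ ∈ O, f χ := by
    intro f
    have h := Finset.sum_sdiff (Finset.subset_univ (X ∪ Y)) (f := f)
    rw [Finset.sum_union S.disj, sum_X S f, show Finset.univ \ (X ∪ Y) = O by ext; simp [hO]] at h
    omega
  have hone : charDegree (oneChar G : G → ℂ) = 1 := by
    have h := ClassAlgebraVal.apply_one_eq_charDegree (oneChar G)
    rw [show (oneChar G : G → ℂ) 1 = 1 from rfl] at h
    exact_mod_cast h.symm
  have hmm : ∀ χ ∈ Xm X a, m χ = 0 := fun χ hχ => Nat.le_zero.1 (hcm χ hχ ▸ hmc χ)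
  rw [hsum, hone, hm1] at hsm
  have hmp : ∀ χ ∈ Xp X a, m χ = 0 := by
    intro χ hχ
    by_contra hne
    have h1 : 1 + n * p ≤ ∑ θ ∈ Xp X a, charDegree (θ : G → ℂ) * m θ :=
      le_trans (le_of_eq_of_le (deg_Xp S hχ).symm (Nat.le_mul_of_pos_right _ (Nat.pos_of_ne_zero hne)))
        (Finset.single_le_sum (f := fun θ : IrrCharacter G => charDegree (θ : G → ℂ) * m θ)
          (fun θ _ => Nat.zero_le _) hχ)
    omega
  have hmYeq : ∀ η ∈ Y, ∀ η' ∈ Y, m η = m η' := by
    intro η hη η' hη'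
    have h := hm η
    have h' := hm η'
    rw [sum_split_normalizer S.cardP S.cent, sum_Ps_Y S.toBlk S.cardP S.cent hη] at h
    rw [sum_split_normalizer S.cardP S.cent, sum_Ps_Y S.toBlk S.cardP S.cent hη',
      Finset.sum_congr rfl fun x hx => S.agree η' hη' η hη x (Finset.mem_filter.1 hx).2, h] at h'
    exact_mod_cast mul_left_cancel₀
      (Nat.cast_ne_zero.2 (Nat.mul_pos hp.pos (by have := S.two_le; omega)).ne') h'
  have hmY : ∀ η ∈ Y, m η = 0 := by
    intro η hη
    by_contra hne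
    have h1 : 1 + n * p ≤ ∑ θ ∈ Y, charDegree (θ : G → ℂ) * m θ := by
      have h2 : ∀ θ ∈ Y, charDegree (η : G → ℂ) * 1 ≤ charDegree (θ : G → ℂ) * m θ := by
        intro θ hθ
        have h3 : charDegree (θ : G → ℂ) = charDegree (η : G → ℂ) := by
          have := (hD θ hθ).1
          have := (hD η hη).1
          omega
        rw [h3, hmYeq θ hθ η hη]
        exact Nat.mul_le_mul_left _ (Nat.pos_of_ne_zero hne)
      refine le_trans ?_ (Finset.sum_le_sum h2)
      rw [Finset.sum_const, smul_eq_mul, mul_one, (hD η hη).2]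
    omega
  have hz : ∀ (T : Finset (IrrCharacter G)), (∀ χ ∈ T, m χ = 0) →
      ∑ χ ∈ T, charDegree (χ : G → ℂ) * m χ = 0 := fun T hT =>
    Finset.sum_eq_zero fun χ hχ => by rw [hT χ hχ, mul_zero]
  rw [hz _ hmp, hz _ hmm, hz _ hmY] at hsm
  have hcsum : ∑ χ ∈ O, charDegree (χ : G → ℂ) * c χ = n * p := by
    rw [hsum, hone, hc1, Finset.sum_congr rfl (g := fun _ => (1 + n * p) * (n + 1)) (s₁ := Xp X a)
      fun χ hχ => by rw [deg_Xp S hχ, hcp χ hχ],
      Finset.sum_congr rfl (g := fun _ => 0) (s₁ := Xm X a) fun χ hχ => by rw [hcm χ hχ, mul_zero],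
      Finset.sum_const, Finset.sum_const, smul_eq_mul, smul_eq_mul, mul_zero] at hsc
    have hYc : ∑ η ∈ Y, charDegree (η : G → ℂ) * c η = k * (1 + n * p) := by
      obtain ⟨η₀, hη₀⟩ := Y_nonempty S.toBlk
      rw [Finset.sum_congr rfl (g := fun _ => charDegree (η₀ : G → ℂ) * k) fun η hη => by
        rw [hcY η hη, show charDegree (η : G → ℂ) = charDegree (η₀ : G → ℂ) by
          have := (hD η hη).1
          have := (hD η₀ hη₀).1
          omega], Finset.sum_const, smul_eq_mul, ← mul_assoc, (hD η₀ hη₀).2]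
      ring
    rw [hYc] at hsc
    have h4 := card_split S
    rw [← h4, hk] at hsc
    have h5 : (1 + (Xp X a).card + ((Xp X a).card * n + k)) * (1 + n * p) =
        (1 + n * p) + (Xp X a).card * ((1 + n * p) * (n + 1)) + k * (1 + n * p) := by ring
    omega
  have hmO : ∀ χ ∈ O, m χ = c χ := by
    intro χ hχ
    have h1 : ∀ θ ∈ O, charDegree (θ : G → ℂ) * m θ ≤ charDegree (θ : G → ℂ) * c θ := fun θ _ =>
      Nat.mul_le_mul_left _ (hmc θ)
    have h2 := (Finset.sum_eq_sum_iff_of_le h1).1 (by omega) χ hχ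
    exact Nat.eq_of_mul_eq_mul_left (ClassAlgebraVal.charDegree_pos χ) h2
  refine ⟨c, m, hc, hm, hc1, hm1, fun χ h => ⟨hcp χ h, hmp χ h⟩, fun χ h => ⟨hcm χ h, hmm χ h⟩,
    fun η h => ⟨by rw [hcY η h, mul_comm, htk], hmY η h⟩,
    fun χ h h' => hmO χ (by simp [hO, h, h']), ?_⟩
  rw [hsum, hm1, Finset.sum_eq_zero fun χ hχ => by rw [hmp χ hχ, mul_zero],
    Finset.sum_eq_zero fun χ hχ => by rw [hmm χ hχ, mul_zero],
    Finset.sum_eq_zero fun χ hχ => by rw [hmY χ hχ, mul_zero]]
  have h6 : ∑ χ ∈ O, charDegree (χ : G → ℂ) * m χ = p * ∑ χ ∈ O, m χ * m χ := by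
    rw [Finset.mul_sum]
    refine Finset.sum_congr rfl fun χ hχ => ?_
    simp only [hO, Finset.mem_filter] at hχ
    have h := hc χ
    rw [sum_els_P, Finset.sum_eq_zero fun y hy => vanish S.toBlk S.cardP S.cent S.relIdx hχ.2.1 hχ.2.2 hy,
      add_zero, ClassAlgebraVal.apply_one_eq_charDegree] at h
    have h' : charDegree (χ : G → ℂ) = p * c χ := by exact_mod_cast h
    rw [h', hmO χ (by simp [hO, hχ.2])]
    ring
  have h7 : p * ∑ χ ∈ O, m χ * m χ = p * n := by
    rw [mul_comm p n, ← h6]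
    omega
  have h8 := Nat.eq_of_mul_eq_mul_left hp.pos h7
  omega

/-- Two different Sylow normalizers meet in a group of order `e`. -/
theorem card_inter (hw : (Xp X a).card * n < (Xm X a).card) {g : G}
    (hg : g ∉ Subgroup.normalizer ((P : Subgroup G) : Set G)) :
    Nat.card ↥(Subgroup.normalizer ((P : Subgroup G) : Set G) ⊓
      (Subgroup.normalizer ((P : Subgroup G) : Set G)).comap (MulAut.conj g).toMonoidHom) = e := by
  obtain ⟨-, m, -, hm, -, -, -, -, -, -, hmsq⟩ := exists_counts S hw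
  have hp := (Fact.out : p.Prime)
  set N := Subgroup.normalizer ((P : Subgroup G) : Set G) with hN
  have hNcard : Nat.card N = p * e := card_normalizer S.cardP S.cent e S.relIdx
  set J : G → ℕ := fun g => Nat.card ↥(N ⊓ N.comap (MulAut.conj g).toMonoidHom) with hJ
  have hJeq : ∀ g, J g = ((els N).filter fun x => g * x * g⁻¹ ∈ N).card := by
    intro g
    simp only [hJ]
    rw [← card_els]
    congr 1
    ext x
    simp [els, Subgroup.mem_inf]
  have hle : ∀ g, g ∉ N → J g ≤ e := by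
    intro g hg
    have hnd : ¬ p ∣ J g := by
      intro hd
      obtain ⟨⟨x, hx⟩, hxo⟩ := exists_prime_orderOf_dvd_card' p hd
      rw [Subgroup.orderOf_mk] at hxo
      obtain ⟨hx1, hx2⟩ := Subgroup.mem_inf.1 hx
      rw [Subgroup.mem_comap] at hx2
      have h1 := singular_mem S.cardP S.cent hx1 (dvd_of_eq hxo.symm)
      have h2 := singular_mem S.cardP S.cent hx2
        (dvd_of_eq (by rw [MulEquiv.coe_toMonoidHom, MulEquiv.orderOf_eq, hxo]))
      apply hg
      rw [hN, Subgroup.mem_normalizer_iff_map_conj_eq,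
        ← zpowers_eq P S.cardP (mem_Ps.1 h1).1 (mem_Ps.1 h1).2, MonoidHom.map_zpowers]
      show Subgroup.zpowers ((MulAut.conj g).toMonoidHom x) = Subgroup.zpowers x
      rw [zpowers_eq P S.cardP (mem_Ps.1 h2).1 (mem_Ps.1 h2).2,
        zpowers_eq P S.cardP (mem_Ps.1 h1).1 (mem_Ps.1 h1).2]
    have h1 : J g ∣ p * e := hNcard ▸ Subgroup.card_dvd_of_le inf_le_left
    exact Nat.le_of_dvd (by have := S.two_le; omega)
      (((hp.coprime_iff_not_dvd.2 hnd).symm.dvd_mul_left).1 h1)
  have hinN : ∀ g ∈ N, J g = p * e := by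
    intro g hg
    rw [hJeq, Finset.filter_true_of_mem, card_els, hNcard]
    intro x hx
    exact N.mul_mem (N.mul_mem hg (mem_els.1 hx)) (N.inv_mem hg)
  have htot : ∑ g : G, J g = (p * e) * (p * e) * (n + 1) := by
    have h1 : (∑ g : G, (J g : ℂ)) = ∑ x ∈ els N, ∑ y ∈ els N,
        ∑ χ : IrrCharacter G, (χ : G → ℂ) x * conj ((χ : G → ℂ) y) := by
      calc (∑ g : G, (J g : ℂ)) = ∑ g : G, ∑ x ∈ els N, ∑ y ∈ els N,
            if g * x * g⁻¹ = y then (1 : ℂ) else 0 := by
            refine Finset.sum_congr rfl fun g _ => ?_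
            rw [hJeq, Finset.sum_congr rfl fun x _ => Finset.sum_ite_eq _ _ _, Finset.sum_boole]
            simp only [mem_els]
        _ = _ := by
            rw [Finset.sum_comm]
            refine Finset.sum_congr rfl fun x _ => ?_
            rw [Finset.sum_comm]
            refine Finset.sum_congr rfl fun y _ => ?_
            rw [sum_irr_mul_conj, Finset.sum_boole, ← Fintype.card_subtype,
              ← Nat.card_eq_fintype_card, CharBasicPerm.card_conjugators, Nat.cast_ite, Nat.cast_zero]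
    have h2 : ∑ x ∈ els N, ∑ y ∈ els N,
        ∑ χ : IrrCharacter G, (χ : G → ℂ) x * conj ((χ : G → ℂ) y) =
        ((p * e : ℕ) : ℂ) * ((p * e : ℕ) : ℂ) * ((n + 1 : ℕ) : ℂ) := by
      rw [Finset.sum_congr rfl fun x _ => Finset.sum_comm, Finset.sum_comm,
        Finset.sum_congr rfl fun χ _ => by
          rw [Finset.sum_congr rfl fun x _ => (Finset.mul_sum _ _ _).symm, ← Finset.sum_mul,
            ← map_sum, hm χ, map_mul, map_natCast, map_natCast], ← hmsq, Nat.cast_sum,
        Finset.mul_sum]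
      exact Finset.sum_congr rfl fun χ _ => by push_cast; ring
    exact_mod_cast h1.trans h2
  rw [← Finset.sum_sdiff (Finset.subset_univ (els N)),
    Finset.sum_congr rfl (g := fun _ => p * e) (s₁ := els N) fun g hg => hinN g (mem_els.1 hg),
    Finset.sum_const, card_els, hNcard, smul_eq_mul] at htot
  have hub : ∀ g ∈ Finset.univ \ els N, J g ≤ e := fun g hg =>
    hle g fun h => (Finset.mem_sdiff.1 hg).2 (mem_els.2 h)
  have heq : ∑ g ∈ Finset.univ \ els N, J g = ∑ g ∈ Finset.univ \ els N, e := by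
    rw [Finset.sum_const, smul_eq_mul, Finset.card_sdiff_of_subset (Finset.subset_univ _),
      Finset.card_univ, ← Nat.card_eq_fintype_card, card_els, card_G S, hNcard,
      show (1 + n * p) * (p * e) = p * e + n * p * (p * e) by ring, Nat.add_sub_cancel_left]
    have : p * e * (p * e) * (n + 1) = p * e * (p * e) + n * p * (p * e) * e := by ring
    omega
  exact (Finset.sum_eq_sum_iff_of_le hub).1 heq g (by simp [mem_els, hg])

end Cfsg.Agent.BrauerForm63
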