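import Cfsg.Agent.Lib.BrauerForm63Fixed
import Cfsg.Agent.Lib.BrauerReynolds7Outside

/-!
# Elements fixing no Sylow subgroup

In the case `k = 1` such elements have centralizers of order dividing `p - e`.
-/

set_option autoImplicit false

open Finset
open scoped ComplexConjugate

namespace Cfsg.Agent.BrauerForm63

open Cfsg Cfsg.Agent.BrauerReynolds7 Cfsg.Agent.CharBasic Cfsg.Agent.CharBasicOrth Cfsg.Agent.DefectOneSign7
open Cfsg.Agent.BlockPrincipal81

attribute [local instance] Classical.propDecidable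

universe u

variable {G : Type u} [Group G] [Fintype G]

variable {p : ℕ} [Fact p.Prime]
  {P : Sylow p G} {e n : ℕ} {X Y : Finset (IrrCharacter G)} {a : IrrCharacter G → ℤ} {ε : ℤ}
  (S : Setup P e n X Y a ε)

include S

/-- The exceptional characters vanish outside the conjugates of the normalizer. -/
theorem exc_vanish (hw : (Xp X a).card * n < (Xm X a).card) (hY : Y.card = n + 1) {g : G}
    (hg : ∀ x : G, x * g * x⁻¹ ∉ Subgroup.normalizer ((P : Subgroup G) : Set G))
    {η : IrrCharacter G} (hη : η ∈ Y) : (η : G → ℂ) g = 0 := by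
  have hp := (Fact.out : p.Prime)
  obtain ⟨-, k, -, -, -, hD⟩ := exists_k S hw
  obtain ⟨c, m, hc, -, -, -, -, -, hcY, -, -⟩ := exists_counts S hw
  set N := Subgroup.normalizer ((P : Subgroup G) : Set G) with hN
  have hNcard : Nat.card N = p * e := card_normalizer S.cardP S.cent e S.relIdx
  have hPN : (P : Subgroup G) ≤ N := Subgroup.le_normalizer
  have hcη : c η = 1 := by
    have h := (hcY η hη).1
    rw [hY] at h
    exact Nat.eq_of_mul_eq_mul_right (show 0 < n + 1 by omega) (by rw [h, one_mul])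
  obtain ⟨d, ρ, -, hρ⟩ := η.2
  obtain ⟨W, hW, hWs⟩ := exists_twist ρ (P : Subgroup G) 1
  have hW1 : Module.finrank ℂ W = 1 := by
    have h2 : ∑ x ∈ els (P : Subgroup G), ρ.character x = ((p : ℕ) : ℂ) * (c η : ℂ) := by
      rw [← hc η]; simp [← hρ]
    simp only [MonoidHom.one_apply, inv_one, dite_eq_ite, ite_self, Units.val_one, mul_one] at hWs
    rw [h2, hcη, show Nat.card (P : Subgroup G) = p from S.cardP] at hWs
    exact_mod_cast (mul_left_cancel₀ (Nat.cast_ne_zero.2 hp.ne_zero) hWs).symm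
  obtain ⟨v, hv0, hspan⟩ := finrank_eq_one_iff'.1 hW1
  have hstable : ∀ x : N, ρ (x : G) (v : Fin d → ℂ) ∈ W := by
    intro x
    rw [hW]
    intro y
    have h1 : (x : G)⁻¹ * y * x ∈ (P : Subgroup G) :=
      (Subgroup.mem_normalizer_iff''.1 x.2 (y : G)).1 y.2
    have h2 := (hW _).1 v.2 ⟨_, h1⟩
    simp only [MonoidHom.one_apply, Units.val_one, one_smul] at h2 ⊢
    rw [← Module.End.mul_apply, ← map_mul,
      show (y : G) * x = x * ((x : G)⁻¹ * y * x) by group, map_mul, Module.End.mul_apply, h2]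
  choose μ₀ hμ₀ using fun x : N => hspan ⟨_, hstable x⟩
  have hμ' : ∀ x : N, μ₀ x • (v : Fin d → ℂ) = ρ (x : G) v := fun x => congrArg Subtype.val (hμ₀ x)
  have hv0' : (v : Fin d → ℂ) ≠ 0 := fun h => hv0 (Subtype.ext h)
  let μ₁ : N →* ℂ :=
    { toFun := μ₀
      map_one' := smul_left_injective ℂ hv0' (by simp [hμ'])
      map_mul' := fun x y => smul_left_injective ℂ hv0' (by
        simp only [hμ', Subgroup.coe_mul, map_mul, Module.End.mul_apply]
        rw [← hμ' y, map_smul, ← hμ' x, smul_smul, mul_comm]) }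
  set μ : N →* ℂˣ := μ₁.toHomUnits with hμdef
  have hμ : ∀ x : N, (μ x : ℂ) • (v : Fin d → ℂ) = ρ (x : G) v := hμ'
  set f : G → ℂ := fun x => ((if h : x ∈ N then ((μ ⟨x, h⟩)⁻¹ : ℂˣ) else 1 : ℂˣ) : ℂ) with hf
  have hf1 : ∀ y ∈ (P : Subgroup G), f y = 1 := by
    intro y hy
    have h2 := (hW _).1 v.2 ⟨y, hy⟩
    simp only [MonoidHom.one_apply, Units.val_one, one_smul] at h2
    have h3 : (μ ⟨y, hPN hy⟩ : ℂ) = 1 := smul_left_injective ℂ hv0'
      (show (μ ⟨y, hPN hy⟩ : ℂ) • (v : Fin d → ℂ) = (1 : ℂ) • (v : Fin d → ℂ) by rw [hμ, one_smul, h2])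
    simp only [hf, dif_pos (hPN hy)]
    rw [Units.val_inv_eq_inv_val, h3, inv_one]
  have hq : ∀ χ : IrrCharacter G, ∃ q : ℕ,
      ∑ x ∈ els N, (χ : G → ℂ) x * f x = ((p * e : ℕ) : ℂ) * q := by
    intro χ
    obtain ⟨d', ρ', -, hρ'⟩ := χ.2
    obtain ⟨W', -, hWs'⟩ := exists_twist ρ' N μ
    exact ⟨_, by rw [← hNcard, ← hWs', ← hρ']⟩
  choose q hq using hq
  have hqη : 1 ≤ q η := by
    obtain ⟨W', hW', hWs'⟩ := exists_twist ρ N μ
    have h1 : Module.finrank ℂ W' = q η := by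
      have h := hq η
      rw [← hρ] at h
      rw [hWs', hNcard] at h
      exact_mod_cast mul_left_cancel₀
        (Nat.cast_ne_zero.2 (Nat.mul_pos hp.pos (by have := S.two_le; omega)).ne') h
    rw [← h1]
    exact Submodule.one_le_finrank_iff.2 fun hbot => hv0' <| by
      have : (v : Fin d → ℂ) ∈ W' := (hW' _).2 fun x => (hμ x).symm
      rwa [hbot, Submodule.mem_bot] at this
  have hqeq : ∀ θ ∈ Y, q θ = q η := by
    intro θ hθ
    have hsum : ∀ τ ∈ Y, ∑ x ∈ els N, (τ : G → ℂ) x * f x =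
        ∑ x ∈ (els N).filter (fun x => ¬ p ∣ orderOf x), (η : G → ℂ) x * f x + -(ε : ℂ) * e := by
      intro τ hτ
      rw [sum_split_normalizer S.cardP S.cent (fun x => (τ : G → ℂ) x * f x),
        Finset.sum_congr rfl fun x hx => by rw [S.agree τ hτ η hη x (Finset.mem_filter.1 hx).2],
        ← sum_Ps_Y S.toBlk S.cardP S.cent hτ]
      congr 1
      exact Finset.sum_congr rfl fun y hy => by rw [hf1 y (mem_Ps.1 hy).1, mul_one]
    have h := (hq θ).symm.trans ((hsum θ hθ).trans ((hsum η hη).symm.trans (hq η)))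
    exact_mod_cast mul_left_cancel₀
      (Nat.cast_ne_zero.2 (Nat.mul_pos hp.pos (by have := S.two_le; omega)).ne') h
  have htot : ∑ χ : IrrCharacter G, charDegree (χ : G → ℂ) * q χ = 1 + n * p := by
    have h : ∑ χ : IrrCharacter G, (charDegree (χ : G → ℂ) : ℂ) * ∑ x ∈ els N, (χ : G → ℂ) x * f x =
        (Nat.card G : ℂ) := by
      rw [Finset.sum_congr rfl fun χ _ => Finset.mul_sum _ _ _, Finset.sum_comm,
        Finset.sum_congr rfl (g := fun x => f x * if x = 1 then (Nat.card G : ℂ) else 0) fun x _ => by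
          rw [← sum_deg_mul x, Finset.mul_sum]
          exact Finset.sum_congr rfl fun χ _ => by ring]
      simp only [mul_ite, mul_zero]
      rw [Finset.sum_ite_eq', if_pos (mem_els.2 (one_mem N)), hf1 1 (one_mem _), one_mul]
    simp only [hq] at h
    rw [card_G S, Finset.sum_congr rfl fun χ _ => mul_left_comm _ _ _, ← Finset.mul_sum] at h
    have h2 : (p * e) * ∑ χ : IrrCharacter G, charDegree (χ : G → ℂ) * q χ =
        (p * e) * (1 + n * p) := by
      rw [mul_comm (p * e) (1 + n * p)]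
      exact_mod_cast h
    exact Nat.eq_of_mul_eq_mul_left (Nat.mul_pos hp.pos (by have := S.two_le; omega)) h2
  rw [← Finset.sum_sdiff (Finset.subset_univ Y)] at htot
  have hYs : ∑ θ ∈ Y, charDegree (θ : G → ℂ) * q θ = (1 + n * p) * q η := by
    rw [Finset.sum_congr rfl (g := fun _ => charDegree (η : G → ℂ) * q η) fun θ hθ => by
      rw [hqeq θ hθ, show charDegree (θ : G → ℂ) = charDegree (η : G → ℂ) by
        have := (hD θ hθ).1
        have := (hD η hη).1
        omega], Finset.sum_const, smul_eq_mul, ← mul_assoc, (hD η hη).2]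
  rw [hYs] at htot
  have h3 : (1 + n * p) * 1 ≤ (1 + n * p) * q η := Nat.mul_le_mul_left _ hqη
  have h4 : ∑ χ ∈ Finset.univ \ Y, charDegree (χ : G → ℂ) * q χ = 0 := by omega
  have h5 : ∀ χ ∈ Finset.univ \ Y, q χ = 0 := fun χ hχ => by
    have := Finset.sum_eq_zero_iff.1 h4 χ hχ
    rcases Nat.mul_eq_zero.1 this with h | h
    · exact absurd h (ClassAlgebraVal.charDegree_pos χ).ne'
    · exact h
  have hzero := sum_avg_vanish N f hg
  simp only [hq] at hzero
  rw [← Finset.sum_sdiff (Finset.subset_univ Y),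
    Finset.sum_eq_zero fun χ hχ => by rw [h5 χ hχ, Nat.cast_zero, mul_zero, zero_mul], zero_add,
    Finset.sum_congr rfl (g := fun _ => ((p * e : ℕ) : ℂ) * (q η : ℂ) * (η : G → ℂ) g) fun θ hθ => by
      rw [hqeq θ hθ, S.agree θ hθ η hη g fun hd => by
        obtain ⟨x, hx⟩ := exists_conj_Ps S.cardP S.cent hd
        exact hg x (hPN (mem_Ps.1 hx).1)],
    Finset.sum_const, nsmul_eq_mul] at hzero
  have hne : ((p * e : ℕ) : ℂ) * (q η : ℂ) ≠ 0 :=
    mul_ne_zero (Nat.cast_ne_zero.2 (Nat.mul_pos hp.pos (by have := S.two_le; omega)).ne')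
      (Nat.cast_ne_zero.2 (by omega))
  rcases mul_eq_zero.1 hzero with h | h
  · exact absurd h (Nat.cast_ne_zero.2 (by omega))
  · exact (mul_eq_zero.1 h).resolve_left hne

/-- The characters of sign `-1` sum to one outside the conjugates of the normalizer. -/
theorem sum_Xm_eq_one (hw : (Xp X a).card * n < (Xm X a).card) (hY : Y.card = n + 1) {g : G}
    (hg : ∀ x : G, x * g * x⁻¹ ∉ Subgroup.normalizer ((P : Subgroup G) : Set G)) :
    ∑ χ ∈ Xm X a, (χ : G → ℂ) g = 1 := by
  have hp := (Fact.out : p.Prime)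
  obtain ⟨c, m, hc, hm, hc1, hm1, hXp, hXm, hYc, hO, -⟩ := exists_counts S hw
  obtain ⟨η, hη⟩ := Y_nonempty S.toBlk
  have hv := exc_vanish S hw hY hg hη
  have hgr : ¬ p ∣ orderOf g := fun hd => by
    obtain ⟨x, hx⟩ := exists_conj_Ps S.cardP S.cent hd
    exact hg x (Subgroup.le_normalizer (mem_Ps.1 hx).1)
  have hP0 := sum_avg_vanish (P : Subgroup G) (fun _ => 1)
    (fun x hx => hg x (Subgroup.le_normalizer hx))
  have hN0 := sum_avg_vanish _ (fun _ => 1) hg
  simp only [mul_one, hc, hm, mul_assoc, ← Finset.mul_sum] at hP0 hN0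
  replace hP0 := (mul_eq_zero.1 hP0).resolve_left (Nat.cast_ne_zero.2 hp.ne_zero)
  replace hN0 := (mul_eq_zero.1 hN0).resolve_left
    (Nat.cast_ne_zero.2 (Nat.mul_pos hp.pos (by have := S.two_le; omega)).ne')
  set O := Finset.univ.filter fun χ : IrrCharacter G => χ ∉ X ∧ χ ∉ Y with hOdef
  have hsum : ∀ f : IrrCharacter G → ℂ, ∑ χ : IrrCharacter G, f χ =
      f (oneChar G) + ∑ χ ∈ Xp X a, f χ + ∑ χ ∈ Xm X a, f χ + ∑ χ ∈ Y, f χ + ∑ χ ∈ O, f χ := by
    intro f
    have h := Finset.sum_sdiff (Finset.subset_univ (X ∪ Y)) (f := f)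
    rw [Finset.sum_union S.disj, sum_X S f, show Finset.univ \ (X ∪ Y) = O by ext; simp [hOdef]] at h
    linear_combination -h
  have hdiff : ((n + 1 : ℕ) : ℂ) * ∑ χ ∈ Xp X a, (χ : G → ℂ) g = 0 := by
    have h1 : ∑ χ : IrrCharacter G, ((c χ : ℂ) - (m χ : ℂ)) * (χ : G → ℂ) g = 0 := by
      simp only [sub_mul, Finset.sum_sub_distrib, hP0, hN0, sub_zero]
    rw [hsum, hc1, hm1,
      Finset.sum_congr rfl (g := fun χ => ((n + 1 : ℕ) : ℂ) * (χ : G → ℂ) g) (s₁ := Xp X a)
        fun χ hχ => by rw [(hXp χ hχ).1, (hXp χ hχ).2, Nat.cast_zero, sub_zero],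
      Finset.sum_eq_zero (s := Xm X a) fun χ hχ => by
        rw [(hXm χ hχ).1, (hXm χ hχ).2, sub_self, zero_mul],
      Finset.sum_eq_zero (s := Y) fun χ hχ => by
        rw [S.agree χ hχ η hη g hgr, hv, mul_zero],
      Finset.sum_eq_zero (s := O) fun χ hχ => by
        simp only [hOdef, Finset.mem_filter] at hχ
        rw [hO χ hχ.2.1 hχ.2.2, sub_self, zero_mul],
      ← Finset.mul_sum] at h1
    linear_combination h1
  have hp0 : ∑ χ ∈ Xp X a, (χ : G → ℂ) g = 0 :=
    (mul_eq_zero.1 hdiff).resolve_left (Nat.cast_ne_zero.2 (by omega))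
  have hreg := S.regular η hη g hgr
  rw [hv, mul_zero, sum_X S, S.a_one,
    Finset.sum_congr rfl (g := fun χ => (χ : G → ℂ) g) (s₁ := Xp X a) fun χ hχ => by
      rw [show a χ = 1 by simp only [Xp, Finset.mem_filter] at hχ; exact hχ.2.1, Int.cast_one, one_mul],
    Finset.sum_congr rfl (g := fun χ => -(χ : G → ℂ) g) (s₁ := Xm X a) fun χ hχ => by
      rw [show a χ = -1 by simp only [Xm, Finset.mem_filter] at hχ; exact hχ.2]
      push_cast; ring, hp0, Finset.sum_neg_distrib,
    show (oneChar G : G → ℂ) g = 1 from rfl] at hreg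
  push_cast at hreg
  linear_combination hreg

/-- The centralizer of an element fixing no Sylow subgroup has order dividing `p - e`. -/
theorem card_centralizer_dvd (hw : (Xp X a).card * n < (Xm X a).card) (hY : Y.card = n + 1) {g : G}
    (hg : ∀ x : G, x * g * x⁻¹ ∉ Subgroup.normalizer ((P : Subgroup G) : Set G)) :
    Nat.card (Subgroup.centralizer ({g} : Set G)) ∣ p - e := by
  have hp := (Fact.out : p.Prime)
  set C := Subgroup.centralizer ({g} : Set G) with hC
  have hint : IsIntegral ℤ ((C.index : ℂ) / ((p - 1 : ℕ) : ℂ)) := by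
    have h : (C.index : ℂ) / ((p - 1 : ℕ) : ℂ) =
        ∑ χ ∈ Xm X a, (C.index : ℂ) * (χ : G → ℂ) g / ((p - 1 : ℕ) : ℂ) := by
      rw [← Finset.sum_div, ← Finset.mul_sum, sum_Xm_eq_one S hw hY hg, mul_one]
    rw [h]
    refine IsIntegral.sum _ fun χ hχ => ?_
    obtain ⟨d, ρ, hirr, hρ⟩ := χ.2
    have hd : Module.finrank ℂ (Fin d → ℂ) = p - 1 := by
      have h1 := ClassAlgebraVal.apply_one_eq_charDegree χ
      rw [← hρ, Representation.char_one, hρ, deg_Xm S hχ] at h1
      exact_mod_cast h1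
    rw [← hρ, ← hd]
    exact CharBasicInt.isIntegral_classSum ρ g
  have hdvd : p - 1 ∣ C.index :=
    CharBasicInt.dvd_of_isIntegral_div (by have := three_le S; omega) hint
  obtain ⟨-, k, -, -, htk, hD⟩ := exists_k S hw
  obtain ⟨η, hη⟩ := Y_nonempty S.toBlk
  obtain ⟨hD1, hD2⟩ := hD η hη
  have hk1 : k = 1 := by
    rw [hY] at htk
    exact Nat.eq_of_mul_eq_mul_left (show 0 < n + 1 by omega) (by rw [htk, mul_one])
  subst hk1
  rw [one_mul] at hD1
  have hDe : charDegree (η : G → ℂ) = p - e := by omega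
  have hpt : p - 1 = Y.card * e := by have := S.cardY; omega
  obtain ⟨r, hr⟩ := hdvd
  have h1 : Nat.card G = Nat.card C * ((p - 1) * r) := by rw [← hr, Subgroup.card_mul_index]
  have h2 : Nat.card G = (p - 1) * (p * (p - e)) := by
    rw [card_G S, ← hD2, hDe, hpt]; ring
  have h3 : p * (p - e) = Nat.card C * r :=
    Nat.eq_of_mul_eq_mul_left (show 0 < p - 1 by have := three_le S; omega)
      (by rw [← h2, h1]; ring)
  have h4 : ¬ p ∣ Nat.card C := by
    intro hd
    obtain ⟨⟨y, hy⟩, hyo⟩ := exists_prime_orderOf_dvd_card' p hd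
    rw [Subgroup.orderOf_mk] at hyo
    obtain ⟨x, hx⟩ := exists_conj_Ps S.cardP S.cent (dvd_of_eq hyo.symm)
    refine hg x (Subgroup.le_normalizer (mem_P_of_comm S.cardP S.cent hx ?_))
    rw [conj_mul, conj_mul, Subgroup.mem_centralizer_singleton_iff.1 hy]
  exact ((hp.coprime_iff_not_dvd.2 h4).symm.dvd_mul_left).1 ⟨r, h3⟩

end Cfsg.Agent.BrauerForm63
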