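import Cfsg.Agent.Lib.BrauerReynolds7Base

/-!
# Sylow normalizers meeting in complements

Let `P` be self-centralizing of order `p`, with `|N(P)| = p e`, and suppose that any two different
Sylow normalizers meet in a group of order `e`. Then a complement `E` fixes `n + 1` Sylow subgroups,
`N(E)` permutes them transitively and contains the centralizer of every non-identity element of `E`.
-/

set_option autoImplicit false

open Finset
open MulAction
open scoped Pointwise

namespace Cfsg.Agent.BrauerReynolds7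

open Cfsg Cfsg.Agent.DefectOneSign7

attribute [local instance] Classical.propDecidable

universe u

variable {G : Type u} [Group G] [Fintype G] {p : ℕ} [Fact p.Prime] {P : Sylow p G}
  (hP : Nat.card P = p)
  (hC : Subgroup.centralizer ((P : Subgroup G) : Set G) = (P : Subgroup G))
  {e : ℕ}
  (he : (Subgroup.centralizer ((P : Subgroup G) : Set G)).relIndex
    (Subgroup.normalizer ((P : Subgroup G) : Set G)) = e)

include hP hC he

omit he in
theorem regular_mem_P {x : G} (hx : x ∈ (P : Subgroup G)) (hr : ¬ p ∣ orderOf x) : x = 1 := by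
  by_contra hx1
  exact hr (dvd_of_eq (orderOf_mem hP (mem_Ps.2 ⟨hx, hx1⟩)).symm)

/-- There is an element of order `e` in the normalizer. -/
theorem exists_order_e :
    ∃ n0 ∈ Subgroup.normalizer ((P : Subgroup G) : Set G), orderOf n0 = e := by
  have hp := (Fact.out : p.Prime)
  obtain ⟨n0, e', hn0, he'0, -, hn0r, hn0e, hgen⟩ := exists_generator P hP
  rw [hC] at hn0e hgen
  set N := Subgroup.normalizer ((P : Subgroup G) : Set G) with hN
  refine ⟨n0, hn0, ?_⟩
  have h2 : orderOf n0 ∣ p * e := card_normalizer hP hC e he ▸ Subgroup.orderOf_dvd_natCard _ hn0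
  have h3 := ((hp.coprime_iff_not_dvd.2 hn0r).symm.dvd_mul_left).1 h2
  have he0 : 0 < e := by
    have h : 0 < p * e := card_normalizer hP hC e he ▸ Nat.card_pos
    exact Nat.pos_of_ne_zero fun h0 => by simp [h0] at h
  refine le_antisymm (Nat.le_of_dvd he0 h3) ?_
  have hsub : els N ⊆ ((Finset.range (orderOf n0)) ×ˢ els (P : Subgroup G)).image
      fun q => n0 ^ q.1 * q.2 := by
    intro m hm
    obtain ⟨i, c, hc, rfl⟩ := hgen m (mem_els.1 hm)
    exact Finset.mem_image.2 ⟨(i % orderOf n0, c), Finset.mem_product.2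
      ⟨Finset.mem_range.2 (Nat.mod_lt _ (orderOf_pos _)), mem_els.2 hc⟩, by rw [pow_mod_orderOf]⟩
  have h5 := (Finset.card_le_card hsub).trans Finset.card_image_le
  rw [Finset.card_product, Finset.card_range, card_els, card_els,
    card_normalizer hP hC e he, show Nat.card (P : Subgroup G) = p from hP, mul_comm p] at h5
  exact Nat.le_of_mul_le_mul_right h5 hp.pos

omit he in
/-- A regular element of `N(P)` is conjugate under `P` to every element of its coset. -/
theorem coset_conj {x : G} (hx : x ∈ Subgroup.normalizer ((P : Subgroup G) : Set G)) (hx1 : x ≠ 1)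
    (hr : ¬ p ∣ orderOf x) {v : G} (hv : v ∈ (P : Subgroup G)) :
    ∃ u ∈ (P : Subgroup G), u * x * u⁻¹ = x * v := by
  have hinj : Set.InjOn (fun u => u * x * u⁻¹) (els (P : Subgroup G) : Set G) := by
    intro u hu w hw h
    simp only [Finset.mem_coe, mem_els] at hu hw
    by_contra hne
    have hz : w⁻¹ * u ∈ Ps P := mem_Ps.2 ⟨mul_mem (inv_mem hw) hu,
      fun h1 => hne (inv_mul_eq_one.1 h1).symm⟩
    refine hx1 (regular_mem_P hP hC (mem_P_of_comm hP hC hz ?_) hr)
    simp only at h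
    calc x * (w⁻¹ * u) = w⁻¹ * (w * x * w⁻¹) * u := by group
      _ = w⁻¹ * (u * x * u⁻¹) * u := by rw [h]
      _ = w⁻¹ * u * x := by group
  have hsub : (els (P : Subgroup G)).image (fun u => u * x * u⁻¹) =
      (els (P : Subgroup G)).image (fun v => x * v) := by
    refine Finset.eq_of_subset_of_card_le ?_ ?_
    · intro y hy
      obtain ⟨u, hu, rfl⟩ := Finset.mem_image.1 hy
      rw [mem_els] at hu
      exact Finset.mem_image.2 ⟨x⁻¹ * u * x * u⁻¹, mem_els.2 (mul_mem
        ((Subgroup.mem_normalizer_iff''.1 hx u).1 hu) (inv_mem hu)), by group⟩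
    · rw [Finset.card_image_of_injOn hinj]
      exact Finset.card_image_le
  have hmem : x * v ∈ (els (P : Subgroup G)).image (fun u => u * x * u⁻¹) :=
    hsub ▸ Finset.mem_image.2 ⟨v, mem_els.2 hv, rfl⟩
  obtain ⟨u, hu, h⟩ := Finset.mem_image.1 hmem
  exact ⟨u, mem_els.1 hu, h⟩

/-- The facts about a complement `E`. -/
structure Compl (P : Sylow p G) (e n : ℕ) (E : Subgroup G) : Prop where
  cyclic : IsCyclic E
  card_E : Nat.card E = e
  le_stab : E ≤ stabilizer G P
  not_mem : ∀ x ∈ E, x ∈ (P : Subgroup G) → x = 1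
  conj : ∀ x ∈ stabilizer G P, x ≠ 1 → ¬ p ∣ orderOf x → ∃ u : G, u * x * u⁻¹ ∈ E
  card_normalizer' : Nat.card (Subgroup.normalizer (E : Set G)) = e * (n + 1)
  cent_le : ∀ x ∈ E, x ≠ 1 → Subgroup.centralizer ({x} : Set G) ≤ Subgroup.normalizer (E : Set G)
  rigid : ∀ x ∈ E, x ≠ 1 → ∀ g : G, g⁻¹ * x * g ∈ E → g ∈ Subgroup.normalizer (E : Set G)

/-- The geometry of complements. -/
theorem exists_compl (he2 : 2 ≤ e) {n : ℕ} (hn : Nat.card (Sylow p G) = 1 + n * p) (hn1 : 1 ≤ n)
    (hint : ∀ Q : Sylow p G, Q ≠ P → Nat.card ↥(stabilizer G P ⊓ stabilizer G Q) = e) :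
    ∃ E : Subgroup G, Compl P e n E := by
  have hp := (Fact.out : p.Prime)
  set N := stabilizer G P with hN
  have hNeq : N = Subgroup.normalizer ((P : Subgroup G) : Set G) := P.stabilizer_eq_normalizer
  have hNcard : Nat.card N = p * e := by rw [hNeq]; exact card_normalizer hP hC e he
  obtain ⟨n0, hn0, hn0o⟩ := exists_order_e hP hC he
  rw [← hNeq] at hn0
  set E := Subgroup.zpowers n0 with hE
  have hEcard : Nat.card E = e := by rw [hE, Nat.card_zpowers, hn0o]
  have hEN : E ≤ N := Subgroup.zpowers_le.2 hn0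
  have hep : ¬ p ∣ e := fun hd => by
    have h := DefectOneShape7.index_dvd hP e he
    have h2 := Nat.le_of_dvd (by have := hp.two_le; omega) (hd.trans h)
    have := hp.two_le
    omega
  have hcop : ∀ H : Subgroup G, Nat.card H = e → ∀ x ∈ H, x ∈ (P : Subgroup G) → x = 1 :=
    fun H hH x hx hxP => regular_mem_P hP hC hxP fun hd =>
      hep (hd.trans (hH ▸ Subgroup.orderOf_dvd_natCard _ hx))
  have hn01 : n0 ≠ 1 := fun h => by rw [h, orderOf_one] at hn0o; omega
  -- decomposition of the normalizer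
  have hdecomp : ∀ H : Subgroup G, H ≤ N → Nat.card H = e → ∀ x ∈ N,
      ∃ h ∈ H, ∃ v ∈ (P : Subgroup G), x = h * v := by
    intro H hH hHc x hx
    have hinj : Set.InjOn (fun q : G × G => q.1 * q.2) ↑(els H ×ˢ els (P : Subgroup G)) := by
      rintro ⟨a, b⟩ hab ⟨c, d⟩ hcd h
      simp only [Finset.coe_product, Set.mem_prod, Finset.mem_coe, mem_els] at hab hcd
      simp only at h
      have h1 : c⁻¹ * a = d * b⁻¹ := by
        calc c⁻¹ * a = c⁻¹ * (a * b) * b⁻¹ := by group
          _ = _ := by rw [h]; group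
      have h2 := hcop H hHc _ (mul_mem (inv_mem hcd.1) hab.1)
        (h1 ▸ mul_mem hcd.2 (inv_mem hab.2))
      rw [h2] at h1
      exact Prod.ext (inv_mul_eq_one.1 h2).symm (mul_inv_eq_one.1 h1.symm).symm
    have himg : (els H ×ˢ els (P : Subgroup G)).image (fun q => q.1 * q.2) = els N := by
      refine Finset.eq_of_subset_of_card_le ?_ ?_
      · intro y hy
        obtain ⟨⟨a, b⟩, hab, rfl⟩ := Finset.mem_image.1 hy
        rw [Finset.mem_product, mem_els, mem_els] at hab
        exact mem_els.2 (mul_mem (hH hab.1) (hNeq ▸ Subgroup.le_normalizer hab.2))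
      · rw [Finset.card_image_of_injOn hinj, Finset.card_product, card_els, card_els, card_els,
          hNcard, hHc, show Nat.card (P : Subgroup G) = p from hP, mul_comm]
    have hx' : x ∈ (els H ×ˢ els (P : Subgroup G)).image (fun q => q.1 * q.2) :=
      himg ▸ mem_els.2 hx
    obtain ⟨⟨a, b⟩, hab, rfl⟩ := Finset.mem_image.1 hx'
    rw [Finset.mem_product, mem_els, mem_els] at hab
    exact ⟨a, hab.1, b, hab.2, rfl⟩
  have hnn : ∀ u ∈ (P : Subgroup G), u * n0 * u⁻¹ ∈ E → u = 1 := by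
    intro u hu h
    have h1 : n0⁻¹ * (u * n0 * u⁻¹) ∈ (P : Subgroup G) := by
      rw [show n0⁻¹ * (u * n0 * u⁻¹) = (n0⁻¹ * u * n0) * u⁻¹ by group]
      exact mul_mem ((Subgroup.mem_normalizer_iff''.1 (hNeq ▸ hn0) u).1 hu) (inv_mem hu)
    have h2 := hcop E hEcard _ (mul_mem (inv_mem (Subgroup.mem_zpowers n0)) h) h1
    by_contra hu1
    refine hn01 (regular_mem_P hP hC (mem_P_of_comm hP hC (mem_Ps.2 ⟨hu, hu1⟩) ?_) ?_)
    · calc n0 * u = (u * n0 * u⁻¹) * u := by rw [← inv_mul_eq_one.1 h2]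
        _ = u * n0 := by group
    · rw [hn0o]; exact hep
  have hconjH : ∀ H : Subgroup G, H ≤ N → Nat.card H = e →
      ∃ u ∈ (P : Subgroup G), H = E.map (MulAut.conj u).toMonoidHom := by
    intro H hH hHc
    obtain ⟨h, hh, v, hv, hn0e⟩ := hdecomp H hH hHc n0 hn0
    obtain ⟨u, hu, hux⟩ := coset_conj hP hC (hNeq ▸ hn0) hn01 (by rw [hn0o]; exact hep) (inv_mem hv)
    refine ⟨u, hu, (Subgroup.eq_of_le_of_card_ge ?_ ?_).symm⟩
    · rw [hE, MonoidHom.map_zpowers, Subgroup.zpowers_le]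
      show u * n0 * u⁻¹ ∈ H
      rw [hux, hn0e, mul_inv_cancel_right]
      exact hh
    · rw [hHc, Subgroup.card_map_of_injective (MulAut.conj u).injective, hEcard]
  -- the fixed points of `E`
  set F := {Q : Sylow p G // Q ≠ P ∧ E ≤ stabilizer G Q} with hF
  have hPu : ∀ u ∈ (P : Subgroup G), u • P = P := fun u hu => by
    have h : u ∈ stabilizer G P := by
      rw [← hN, hNeq]; exact Subgroup.le_normalizer hu
    exact h
  let Φ : ↥(P : Subgroup G) × F → {Q : Sylow p G // Q ≠ P} := fun q =>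
    ⟨(q.1 : G) • q.2.1, fun h => q.2.2.1 (smul_left_cancel (q.1 : G) (h.trans (hPu _ q.1.2).symm))⟩
  have hΦ : Function.Bijective Φ := by
    constructor
    · rintro ⟨u, Q, hQ1, hQ2⟩ ⟨w, R, hR1, hR2⟩ h
      have h' : (u : G) • Q = (w : G) • R := congrArg Subtype.val h
      have hmap : ∀ x ∈ E, ((w : G)⁻¹ * u) * x * ((w : G)⁻¹ * u)⁻¹ ∈ N ⊓ stabilizer G R := by
        intro x hx
        have hwN : ((w : G)⁻¹ * u) ∈ N := N.mul_mem (N.inv_mem (hPu _ w.2)) (hPu _ u.2)
        refine Subgroup.mem_inf.2 ⟨N.mul_mem (N.mul_mem hwN (hEN hx)) (N.inv_mem hwN), ?_⟩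
        · show (((w : G)⁻¹ * u) * x * ((w : G)⁻¹ * u)⁻¹) • R = R
          have hR : ((w : G)⁻¹ * u) • Q = R := by rw [mul_smul, h', inv_smul_smul]
          have hx2 : x • Q = Q := hQ2 hx
          generalize (w : G)⁻¹ * u = w' at hR ⊢
          rw [← hR, mul_smul, mul_smul, inv_smul_smul, hx2]
      have hEq : E = N ⊓ stabilizer G R :=
        Subgroup.eq_of_le_of_card_ge (le_inf hEN hR2) (by rw [hEcard, hint R hR1])
      have h1 := hmap n0 (Subgroup.mem_zpowers n0)
      rw [← hEq] at h1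
      have h2 := hnn _ (mul_mem (inv_mem w.2) u.2) h1
      rw [inv_mul_eq_one] at h2
      have huw : u = w := Subtype.ext h2.symm
      subst huw
      have hQR : Q = R := smul_left_cancel (u : G) h'
      subst hQR
      rfl
    · rintro ⟨Q, hQ⟩
      obtain ⟨u, hu, hH⟩ := hconjH (N ⊓ stabilizer G Q) inf_le_left (hint Q hQ)
      refine ⟨⟨⟨u, hu⟩, ⟨u⁻¹ • Q, fun h => hQ ?_, ?_⟩⟩, Subtype.ext (smul_inv_smul u Q)⟩
      · rw [← smul_inv_smul u Q, h, hPu u hu]
      · intro x hx
        have h1 : u * x * u⁻¹ ∈ N ⊓ stabilizer G Q := by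
          rw [hH]; exact ⟨x, hx, rfl⟩
        have h2 : (u * x * u⁻¹) • Q = Q := h1.2
        show x • u⁻¹ • Q = u⁻¹ • Q
        rw [eq_inv_smul_iff, ← mul_smul, ← mul_smul]
        exact h2
  have hFcard : Nat.card F = n := by
    have h := Nat.card_eq_of_bijective Φ hΦ
    rw [Nat.card_prod, show Nat.card (P : Subgroup G) = p from hP] at h
    have h2 : Nat.card {Q : Sylow p G // Q ≠ P} + 1 = 1 + n * p := by
      rw [← hn, ← Finite.card_option, Nat.card_congr (Equiv.optionSubtypeNe P)]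
    exact Nat.eq_of_mul_eq_mul_left hp.pos (by rw [h, mul_comm p n]; omega)
  -- the normalizer of `E` and its orbit
  set NE := Subgroup.normalizer (E : Set G) with hNE
  have hENE : E ≤ NE := Subgroup.le_normalizer
  have hfix : ∀ g ∈ NE, ∀ Q : Sylow p G, E ≤ stabilizer G Q → E ≤ stabilizer G (g • Q) := by
    intro g hg Q hQ x hx
    have h1 : g⁻¹ * x * g ∈ E := (Subgroup.mem_normalizer_iff''.1 hg x).1 hx
    have h2 : (g⁻¹ * x * g) • Q = Q := hQ h1
    show x • g • Q = g • Q
    conv_rhs => rw [← h2]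
    rw [← mul_smul, ← mul_smul]
    congr 1
    group
  have horb : orbit NE P = {Q : Sylow p G | E ≤ stabilizer G Q} := by
    ext Q
    refine ⟨fun ⟨g, hg⟩ => hg ▸ hfix g g.2 P hEN, fun hQ => ?_⟩
    by_cases hQP : Q = P
    · rw [hQP]; exact mem_orbit_self P
    obtain ⟨g, rfl⟩ := exists_smul_eq G P Q
    have hH : E.map (MulAut.conj g⁻¹).toMonoidHom ≤ N := by
      rintro _ ⟨x, hx, rfl⟩
      have h2 : x • g • P = g • P := hQ hx
      show (g⁻¹ * x * g⁻¹⁻¹) • P = P
      rw [inv_inv, mul_smul, mul_smul, h2, inv_smul_smul]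
    obtain ⟨u, hu, hH'⟩ := hconjH _ hH
      (by rw [Subgroup.card_map_of_injective (MulAut.conj g⁻¹).injective, hEcard])
    have hgu : g * u ∈ NE := by
      rw [hNE, Subgroup.mem_normalizer_iff_map_conj_eq, map_mul]
      show E.map ((MulAut.conj g).toMonoidHom.comp (MulAut.conj u).toMonoidHom) = E
      rw [← Subgroup.map_map, ← hH', Subgroup.map_map]
      convert Subgroup.map_id E using 2
      ext x; simp [mul_assoc]
    exact ⟨⟨g * u, hgu⟩, by show (g * u) • P = g • P; rw [mul_smul, hPu u hu]⟩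
  have hstab : stabilizer NE P = E.subgroupOf NE := by
    ext g
    rw [mem_stabilizer_iff, Subgroup.mem_subgroupOf]
    refine ⟨fun hg => ?_, fun hg => hEN hg⟩
    have hgN : (g : G) ∈ N := hg
    obtain ⟨h, hh, v, hv, hgv⟩ := hdecomp E hEN hEcard _ hgN
    have hvNE : v ∈ NE := by
      rw [show v = h⁻¹ * g by rw [hgv]; group]
      exact mul_mem (inv_mem (hENE hh)) g.2
    have h1 := hnn v hv ((Subgroup.mem_normalizer_iff.1 hvNE n0).1 (Subgroup.mem_zpowers n0))
    rw [hgv, h1, mul_one]; exact hh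
  have hNEcard : Nat.card NE = e * (n + 1) := by
    have h := Nat.card_congr (MulAction.orbitProdStabilizerEquivGroup NE P)
    rw [Nat.card_prod, hstab, Nat.card_congr (Subgroup.subgroupOfEquivOfLe hENE).toEquiv, hEcard,
      horb] at h
    have h2 : Nat.card {Q : Sylow p G | E ≤ stabilizer G Q} = n + 1 := by
      rw [← hFcard, ← Finite.card_option, Nat.card_congr (Equiv.optionSubtypeNe
        (⟨P, hEN⟩ : {Q : Sylow p G | E ≤ stabilizer G Q})).symm]
      refine Nat.card_congr (Equiv.optionCongr ((Equiv.subtypeSubtypeEquivSubtypeExists _ _).trans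
        (Equiv.subtypeEquivRight fun Q => ?_)))
      exact ⟨fun ⟨h1, h2⟩ => ⟨fun h => h2 (Subtype.ext h), h1⟩,
        fun ⟨h1, h2⟩ => ⟨h2, fun h => h1 (congrArg Subtype.val h)⟩⟩
    rw [h2] at h
    rw [← h, mul_comm]
  -- fixed points of a non-identity element of `E`
  have hfixE : ∀ x ∈ E, x ≠ 1 → ∀ Q : Sylow p G, x • Q = Q → E ≤ stabilizer G Q := by
    intro x hx hx1 Q hQ
    by_cases hQP : Q = P
    · exact hQP ▸ hEN
    obtain ⟨u, hu, hH⟩ := hconjH (N ⊓ stabilizer G Q) inf_le_left (hint Q hQP)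
    have h1 : x ∈ E.map (MulAut.conj u).toMonoidHom := hH ▸ ⟨hEN hx, hQ⟩
    obtain ⟨y, hy, hyx⟩ := h1
    change u * y * u⁻¹ = x at hyx
    have hu1 : u = 1 := by
      by_contra hu1
      have h2 : y⁻¹ * x ∈ (P : Subgroup G) := by
        rw [← hyx, show y⁻¹ * (u * y * u⁻¹) = (y⁻¹ * u * y) * u⁻¹ by group]
        exact mul_mem ((Subgroup.mem_normalizer_iff''.1 (hNeq ▸ hEN hy) u).1 hu) (inv_mem hu)
      have h3 := hcop E hEcard _ (mul_mem (inv_mem hy) hx) h2
      rw [inv_mul_eq_one] at h3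
      subst h3
      refine hx1 (hcop E hEcard _ hx (mem_P_of_comm hP hC (mem_Ps.2 ⟨hu, hu1⟩) ?_))
      conv_lhs => rw [← hyx]
      group
    subst hu1
    intro z hz
    have h4 : z ∈ N ⊓ stabilizer G Q := hH ▸ ⟨z, hz, by simp⟩
    exact h4.2
  obtain ⟨⟨Q₁, hQ₁, hQ₁E⟩⟩ : Nonempty F := by
    rw [← Nat.card_ne_zero.trans (and_iff_left (Finite.of_fintype F))]; omega
  have hEQ₁ : E = N ⊓ stabilizer G Q₁ :=
    Subgroup.eq_of_le_of_card_ge (le_inf hEN hQ₁E) (by rw [hEcard, hint Q₁ hQ₁])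
  have hrigid : ∀ x ∈ E, x ≠ 1 → ∀ g : G, g⁻¹ * x * g ∈ E → g ∈ NE := by
    intro x hx hx1 g hg
    set y := g⁻¹ * x * g with hy
    have hy1 : y ≠ 1 := by
      intro h
      apply hx1
      have h2 := congrArg (fun z => g * z * g⁻¹) h
      simpa [hy, mul_assoc] using h2
    -- `g` maps the fixed points of `y` to those of `x`
    have hmap : ∀ Q : Sylow p G, E ≤ stabilizer G Q → E ≤ stabilizer G (g⁻¹ • Q) := by
      intro Q hQ
      refine hfixE y hg hy1 _ ?_
      have h : x • Q = Q := hQ hx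
      rw [hy, mul_smul, mul_smul, smul_inv_smul, h]
    rw [hNE, Subgroup.mem_normalizer_iff_map_conj_eq]
    refine Subgroup.eq_of_le_of_card_ge ?_
      (Subgroup.card_map_of_injective (MulAut.conj g).injective).ge
    rintro _ ⟨z, hz, rfl⟩
    rw [hEQ₁]
    refine ⟨?_, ?_⟩
    · have h := hmap P hEN hz
      show (g * z * g⁻¹) • P = P
      rw [mem_stabilizer_iff] at h
      rw [mul_smul, mul_smul, h, smul_inv_smul]
    · have h := hmap Q₁ hQ₁E hz
      show (g * z * g⁻¹) • Q₁ = Q₁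
      rw [mem_stabilizer_iff] at h
      rw [mul_smul, mul_smul, h, smul_inv_smul]
  refine ⟨E, ⟨inferInstance, hEcard, hEN, hcop E hEcard, ?_, hNEcard, ?_, hrigid⟩⟩
  · intro x hx hx1 hr
    obtain ⟨h, hh, v, hv, rfl⟩ := hdecomp E hEN hEcard x hx
    have hh1 : h ≠ 1 := by
      rintro rfl
      rw [one_mul] at hx1 hr
      exact hx1 (regular_mem_P hP hC hv hr)
    obtain ⟨u, hu, hux⟩ := coset_conj hP hC (hNeq ▸ hEN hh) hh1
      (fun hd => hep (hd.trans (hEcard ▸ Subgroup.orderOf_dvd_natCard _ hh))) hv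
    refine ⟨u⁻¹, ?_⟩
    rw [← hux]
    simpa [mul_assoc] using hh
  · intro x hx hx1 c hc
    refine hrigid x hx hx1 c ?_
    rw [Subgroup.mem_centralizer_singleton_iff] at hc
    rwa [mul_assoc, ← hc, inv_mul_cancel_left]

end Cfsg.Agent.BrauerReynolds7
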