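import Cfsg.Agent.Lib.BrauerReynolds7Tensor
import Cfsg.Agent.Lib.BrauerReynolds7Outside
import Cfsg.Agent.Lib.BrauerReynolds7Geometry

/-!
# The two possibilities: `n = 1`, or `e = 2` with elementary abelian involution centralizers
-/

set_option autoImplicit false

open Finset
open MulAction

namespace Cfsg.Agent.BrauerReynolds7

open Cfsg Cfsg.Agent.DefectOneSign7 Cfsg.Agent.BlockPrincipal81

attribute [local instance] Classical.propDecidable

universe u

variable {G : Type u} [Group G] [Fintype G] {p : ℕ} [Fact p.Prime]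

/-- The exceptional degree `p - e` is prime to `e t`. -/
theorem coprime_sub {e t A : ℕ} (he : 0 < e) (ht : 0 < t) (hp : e * t + 1 = p)
    (heA : e = A * t + 2) : Nat.Coprime (p - e) (e * t) := by
  obtain ⟨u, rfl⟩ : ∃ u, t = u + 1 := ⟨t - 1, by omega⟩
  have hd : p - e = e * u + 1 := by rw [← hp, mul_add, mul_one]; omega
  rw [hd]
  refine Nat.Coprime.mul_right ?_ ?_
  · rw [Nat.coprime_mul_left_add_left]; exact Nat.coprime_one_left e
  · refine Nat.coprime_of_dvd' fun q _ h1 h2 => ?_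
    have h3 : (q : ℤ) ∣ (e : ℤ) * u + 1 := by exact_mod_cast h1
    have h4 : (q : ℤ) ∣ (u : ℤ) + 1 := by exact_mod_cast h2
    have hez : (e : ℤ) = (A : ℤ) * ((u : ℤ) + 1) + 2 := by exact_mod_cast heA
    have h5 : (q : ℤ) ∣ 1 := by
      have h6 := dvd_sub (dvd_mul_of_dvd_right h4 (e : ℤ)) h3
      have h7 : (e : ℤ) * ((u : ℤ) + 1) - ((e : ℤ) * u + 1) = (e : ℤ) - 1 := by ring
      rw [h7, hez] at h6
      have h8 := dvd_sub h6 (dvd_mul_of_dvd_right h4 (A : ℤ))
      have h9 : (A : ℤ) * ((u : ℤ) + 1) + 2 - 1 - (A : ℤ) * ((u : ℤ) + 1) = 1 := by ring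
      rwa [h9] at h8
    exact_mod_cast h5

/-- An automorphism `x ↦ x ^ r` iterated. -/
theorem conj_pow_pow {H : Type*} [Group H] {q x : H} {r : ℕ} (h : q * x * q⁻¹ = x ^ r) :
    ∀ j : ℕ, q ^ j * x * (q ^ j)⁻¹ = x ^ r ^ j
  | 0 => by simp
  | j + 1 => by
    rw [pow_succ' q j, mul_inv_rev,
      show q * q ^ j * x * ((q ^ j)⁻¹ * q⁻¹) = q * (q ^ j * x * (q ^ j)⁻¹) * q⁻¹ by group,
      conj_pow_pow h j, ← conj_pow, h, ← pow_mul, pow_succ, mul_comm]

variable {P : Sylow p G} {e n : ℕ} {X Y : Finset (IrrCharacter G)} {a : IrrCharacter G → ℤ} {ε : ℤ}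
  (S : Setup P e n X Y a ε)

include S

theorem exists_outside : ∃ g : G, g ∉ Subgroup.normalizer ((P : Subgroup G) : Set G) := by
  by_contra h
  push Not at h
  have h1 : Nat.card G = Nat.card (Subgroup.normalizer ((P : Subgroup G) : Set G)) := by
    rw [(Subgroup.eq_top_iff' _).2 h, Subgroup.card_top]
  have h2 := S.cardSyl
  rw [P.card_eq_index_normalizer] at h2
  have h3 : (Subgroup.normalizer ((P : Subgroup G) : Set G)).index = 1 := by
    rw [(Subgroup.eq_top_iff' _).2 h, Subgroup.index_top]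
  have h4 : 1 + n * p = 1 := h2.symm.trans h3
  have := Nat.mul_pos S.n_pos (Fact.out : p.Prime).pos
  omega

/-- Either `n = 1` and `p = 2 e + 1`, or `e = 2`, the involution centralizers are elementary abelian
and the Sylow `2`-subgroups have order `p - 1`. -/
theorem dichotomy : (n = 1 ∧ 2 * e + 1 = p) ∨
    (4 ≤ p - 1 ∧ ∃ j : ℕ, p - 1 = 2 ^ j ∧
      (∀ t : G, orderOf t = 2 → ∀ c ∈ Subgroup.centralizer ({t} : Set G), c ^ 2 = 1) ∧
      ∀ T : Sylow 2 G, Nat.card T = p - 1 ∧ ¬ (T : Subgroup G).Normal) := by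
  have hp := (Fact.out : p.Prime)
  have he2 := S.two_le
  have hp3 := three_le S
  have h2e := two_mul_le S
  rcases eq_or_lt_of_le (w_nonpos S) with hw | hw
  · exact Or.inl (n_eq_one_of_w_zero S hw)
  obtain ⟨-, k, hk1, hk, htk, hD⟩ := exists_k S hw
  set N := stabilizer G P with hN
  have hNeq : N = Subgroup.normalizer ((P : Subgroup G) : Set G) := P.stabilizer_eq_normalizer
  have hint : ∀ Q : Sylow p G, Q ≠ P → Nat.card ↥(stabilizer G P ⊓ stabilizer G Q) = e := by
    intro Q hQ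
    obtain ⟨g, rfl⟩ := exists_smul_eq G P Q
    have hg : g⁻¹ ∉ Subgroup.normalizer ((P : Subgroup G) : Set G) := fun h =>
      hQ (by
        have h2 : g⁻¹ ∈ stabilizer G P := by rw [← hN, hNeq]; exact h
        exact eq_inv_smul_iff.1 h2.symm)
    rw [← card_inter S hw hg, ← hNeq]
    congr 2
    ext x
    simp only [Subgroup.mem_inf, Subgroup.mem_comap, mem_stabilizer_iff, MulEquiv.coe_toMonoidHom,
      MulAut.conj_apply, inv_inv, hN, mul_smul]
    rw [inv_smul_eq_iff]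
  obtain ⟨E, hE⟩ := exists_compl S.cardP S.cent S.relIdx he2 S.cardSyl S.n_pos hint
  set NE := Subgroup.normalizer (E : Set G) with hNE
  have hENE : E ≤ NE := Subgroup.le_normalizer
  have hp5 : 5 ≤ p := by omega
  -- `k = 1`
  have hn1p : n + 1 ∣ p - 1 := by
    have h1 : e * (n + 1) ∣ e * (p * (1 + n * p)) := by
      rw [← hE.card_normalizer', show e * (p * (1 + n * p)) = (1 + n * p) * (p * e) by ring, ← card_G S]
      exact Subgroup.card_subgroup_dvd_card _
    have h2 : n + 1 ∣ p * (1 + n * p) := Nat.dvd_of_mul_dvd_mul_left (by omega) h1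
    have h3 : ¬ p ∣ n + 1 := fun hd => by
      have := Nat.le_of_dvd (by omega) hd
      have := small' S
      omega
    have h4 := ((hp.coprime_iff_not_dvd.2 h3).symm.dvd_mul_left).1 h2
    have h5 : n + 1 ∣ (n + 1) * p := dvd_mul_right _ _
    have h6 := Nat.dvd_sub h5 h4
    have h7 : (n + 1) * p - (1 + n * p) = p - 1 := by rw [add_mul, one_mul]; omega
    rwa [h7] at h6
  have hpt : p - 1 = Y.card * e := by have := S.cardY; omega
  have hsplit := card_split S
  rw [hk] at hsplit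
  have hk1' : k = 1 := by
    rw [← htk, hpt] at hn1p
    have hke : k ∣ e := Nat.dvd_of_mul_dvd_mul_left (by have := two_le_card_Y S; omega) hn1p
    have h1 : (Xp X a).card * (n + 1) = (Xp X a).card * Y.card * k := by rw [mul_assoc, htk]
    have h2 : k * ((Xp X a).card * Y.card + 1) + 1 = e := by
      rw [← hsplit, mul_add, mul_one, mul_comm k, ← h1, mul_add, mul_one]
      omega
    have h3 : k ∣ 1 := (Nat.dvd_add_right (dvd_mul_right k _)).1 (h2.symm ▸ hke)
    exact Nat.dvd_one.1 h3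
  subst hk1'
  rw [mul_one] at htk
  set t := Y.card with ht
  set A := (Xp X a).card with hA
  have heA : e = A * t + 2 := by rw [htk, mul_add, mul_one]; omega
  have ht2 : 2 ≤ t := two_le_card_Y S
  by_cases ht' : t = 2
  · left
    refine ⟨by omega, ?_⟩
    rw [ht'] at hpt
    omega
  right
  obtain ⟨η, hη⟩ := Y_nonempty S.toBlk
  obtain ⟨hD1, hD2⟩ := hD η hη
  rw [one_mul] at hD1
  have hDe : charDegree (η : G → ℂ) = p - e := by omega
  have hcop : Nat.Coprime (p - e) (e * t) :=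
    coprime_sub (by omega) (by omega) (by rw [mul_comm]; exact S.cardY) heA
  have hNEcard : Nat.card NE = e * t := by rw [hNE, hE.card_normalizer', htk]
  have hpe : ¬ p ∣ e := fun hd => by have := Nat.le_of_dvd (by omega) hd; omega
  -- elements of `N(E)` are conjugate into `N`, hence of exponent `e`
  have hconjN : ∀ x ∈ NE, ∃ g : G, g * x * g⁻¹ ∈ N := by
    intro x hx
    by_contra hc
    push Not at hc
    have h1 := card_centralizer_dvd S hw htk (g := x) (fun g => hNeq ▸ hc g)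
    have h2 : orderOf x ∣ p - e := (Subgroup.orderOf_dvd_natCard _
      (Subgroup.mem_centralizer_singleton_iff.2 rfl)).trans h1
    have h3 : orderOf x ∣ e * t := hNEcard ▸ Subgroup.orderOf_dvd_natCard _ hx
    have h4 : x = 1 := orderOf_eq_one_iff.1 (Nat.eq_one_of_dvd_coprimes hcop h2 h3)
    exact hc 1 (by subst h4; simp [N.one_mem])
  have hexp : ∀ x ∈ NE, x ^ e = 1 := by
    intro x hx
    obtain ⟨g, hg⟩ := hconjN x hx
    have h1 : orderOf x ∣ p * e := by
      have h2 := Subgroup.orderOf_dvd_natCard _ hg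
      rw [show g * x * g⁻¹ = MulAut.conj g x from rfl, MulEquiv.orderOf_eq, hNeq,
        card_normalizer S.cardP S.cent e S.relIdx] at h2
      exact h2
    have h3 : orderOf x ∣ e * t := hNEcard ▸ Subgroup.orderOf_dvd_natCard _ hx
    have h4 : ¬ p ∣ orderOf x := fun hd => by
      have h5 := hd.trans h3
      rw [mul_comm, ← hpt] at h5
      have := Nat.le_of_dvd (by omega) h5
      omega
    exact orderOf_dvd_iff_pow_eq_one.1 (((hp.coprime_iff_not_dvd.2 h4).symm.dvd_mul_left).1 h1)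
  have hconjE : ∀ x : G, x ≠ 1 → x ^ e = 1 → (∃ g : G, g * x * g⁻¹ ∈ N) → ∃ g : G, g * x * g⁻¹ ∈ E := by
    rintro x hx1 hxe ⟨g, hg⟩
    have hr : ¬ p ∣ orderOf (g * x * g⁻¹) := by
      rw [show g * x * g⁻¹ = MulAut.conj g x from rfl, MulEquiv.orderOf_eq]
      exact fun hd => hpe (hd.trans (orderOf_dvd_of_pow_eq_one hxe))
    obtain ⟨u, hu⟩ := hE.conj _ hg (fun h => hx1 (conj_eq_one_iff.1 h)) hr
    exact ⟨u * g, by simpa [mul_assoc] using hu⟩
  -- `t` is a power of two
  have htwo : ∀ q : ℕ, q.Prime → q ∣ t → q = 2 := by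
    intro q hq hqt
    haveI := Fact.mk hq
    obtain ⟨⟨x, hx⟩, hxo⟩ := exists_prime_orderOf_dvd_card' (G := NE) q
      (hNEcard ▸ dvd_mul_of_dvd_right hqt e)
    rw [Subgroup.orderOf_mk] at hxo
    have hqe : q ∣ e := hxo ▸ orderOf_dvd_of_pow_eq_one (hexp x hx)
    rw [heA] at hqe
    exact (Nat.prime_dvd_prime_iff_eq hq Nat.prime_two).1
      ((Nat.dvd_add_right (dvd_mul_of_dvd_right hqt A)).1 hqe)
  obtain ⟨j, hj⟩ : ∃ j, t = 2 ^ j :=
    ⟨_, Nat.eq_prime_pow_of_unique_prime_dvd (by omega) fun {q} hq hd => htwo q hq hd⟩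
  have hj2 : 2 ≤ j := by
    rcases j with _ | _ | j
    · simp at hj; omega
    · exact absurd hj ht'
    · omega
  have ht4 : 4 ∣ t := hj ▸ (show (4 : ℕ) = 2 ^ 2 from rfl) ▸ pow_dvd_pow 2 hj2
  obtain ⟨e', he', he'odd⟩ : ∃ e', e = 2 * e' ∧ Odd e' := by
    obtain ⟨r, hr⟩ := ht4
    exact ⟨2 * A * r + 1, by rw [heA, hr]; ring, ⟨A * r, by ring⟩⟩
  -- the odd part of `E` is trivial
  obtain ⟨n0, hn0⟩ := hE.cyclic.exists_generator
  have hn0o : orderOf (n0 : G) = e := by
    rw [Subgroup.orderOf_coe, orderOf_eq_card_of_forall_mem_zpowers hn0, hE.card_E]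
  set x := (n0 : G) ^ 2 with hxdef
  have hxE : x ∈ E := E.pow_mem n0.2 2
  have hxo : x ^ e' = 1 := by rw [hxdef, ← pow_mul, ← he', ← hn0o, pow_orderOf_eq_one]
  set y := (n0 : G) ^ e' with hydef
  have hyE : y ∈ E := E.pow_mem n0.2 e'
  have hinvE : ∀ z ∈ E, z ^ 2 = 1 → z ≠ 1 → z = y := by
    intro z hz hz2 hz1
    obtain ⟨i, hi⟩ := ((isOfFinOrder_of_finite n0).mem_powers_iff_mem_zpowers.2 (hn0 ⟨z, hz⟩))
    have hi' : (n0 : G) ^ i = z := congrArg Subtype.val hi
    rw [← hi', ← pow_mul, ← orderOf_dvd_iff_pow_eq_one, hn0o, he', mul_comm i] at hz2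
    obtain ⟨r, hr⟩ := Nat.dvd_of_mul_dvd_mul_left (by norm_num) hz2
    rw [← hi', hr, pow_mul, ← hydef]
    rcases Nat.even_or_odd r with ⟨s, hs⟩ | ⟨s, hs⟩
    · exfalso
      apply hz1
      rw [← hi', hr, hs, show e' * (s + s) = e * s by rw [he']; ring, pow_mul, ← hn0o,
        pow_orderOf_eq_one, one_pow]
    · rw [hs, pow_add, pow_one, pow_mul, hydef, ← pow_mul, ← pow_mul,
        show e' * (2 * s) = e * s by rw [he']; ring, pow_mul, ← hn0o, pow_orderOf_eq_one, one_pow,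
        one_mul]
  -- elements of `N(E)` act as power maps
  have hact : ∀ q ∈ NE, ∃ r : ℕ, q * x * q⁻¹ = x ^ r := by
    intro q hq
    obtain ⟨r, hr⟩ := (isOfFinOrder_of_finite n0).mem_powers_iff_mem_zpowers.2
      (hn0 ⟨q * n0 * q⁻¹, (Subgroup.mem_normalizer_iff.1 hq _).1 n0.2⟩)
    have hr' : (n0 : G) ^ r = q * n0 * q⁻¹ := congrArg Subtype.val hr
    exact ⟨r, by rw [hxdef, ← conj_pow, ← hr', ← pow_mul, ← pow_mul, mul_comm]⟩
  have hpow : ∀ q ∈ NE, q ^ t ∈ E := by
    intro q hq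
    haveI hnE : (E.subgroupOf NE).Normal := Subgroup.normal_in_normalizer
    have h1 : (E.subgroupOf NE).index = t := by
      have h2 := (E.subgroupOf NE).card_mul_index
      rw [Nat.card_congr (Subgroup.subgroupOfEquivOfLe hENE).toEquiv, hE.card_E, hNEcard] at h2
      exact Nat.eq_of_mul_eq_mul_left (by omega) h2
    have h3 := (E.subgroupOf NE).pow_index_mem ⟨q, hq⟩
    rwa [h1, Subgroup.mem_subgroupOf] at h3
  have hoddE : ∀ z ∈ NE, z ^ e' = 1 → z ∈ E := by
    intro z hz hz'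
    have hc : Nat.Coprime t e' := by
      rw [hj]; exact Nat.Coprime.pow_left _ (Nat.coprime_two_left.2 he'odd)
    have h1 : z = (z ^ t) ^ (Nat.gcdA t e') * (z ^ e') ^ (Nat.gcdB t e') := by
      rw [← zpow_natCast z t, ← zpow_natCast z e', ← zpow_mul, ← zpow_mul, ← zpow_add,
        ← Nat.gcd_eq_gcd_ab, hc.gcd_eq_one, Nat.cast_one, zpow_one]
    rw [h1, hz', one_zpow, mul_one]
    exact E.zpow_mem (hpow z hz) _
  have hinv : ∀ q ∈ NE, q ∉ E → q ^ e' * x * (q ^ e')⁻¹ = x⁻¹ := by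
    intro q hq hqE
    set w := q ^ e' with hw'
    have hwNE : w ∈ NE := NE.pow_mem hq e'
    have hwE : w ∉ E := by
      intro h
      apply hqE
      have hc : Nat.Coprime t e' := by
        rw [hj]; exact Nat.Coprime.pow_left _ (Nat.coprime_two_left.2 he'odd)
      have h1 : q = (q ^ t) ^ (Nat.gcdA t e') * (q ^ e') ^ (Nat.gcdB t e') := by
        rw [← zpow_natCast q t, ← zpow_natCast q e', ← zpow_mul, ← zpow_mul, ← zpow_add,
          ← Nat.gcd_eq_gcd_ab, hc.gcd_eq_one, Nat.cast_one, zpow_one]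
      rw [h1]
      exact E.mul_mem (E.zpow_mem (hpow q hq) _) (E.zpow_mem h _)
    have hw2 : w ^ 2 = 1 := by rw [hw', ← pow_mul, mul_comm, ← he']; exact hexp q hq
    obtain ⟨r, hr⟩ := hact w hwNE
    set z := x ^ (r + 1) with hz
    have hzw : w * z * w⁻¹ = z := by
      have h2 := conj_pow_pow hr 2
      rw [hw2, one_mul, inv_one, mul_one] at h2
      rw [hz, ← conj_pow, hr, ← pow_mul, mul_add, mul_one, pow_add, ← sq, ← h2, ← pow_succ']
    suffices hz1 : z = 1 by
      rw [hr]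
      exact eq_inv_of_mul_eq_one_left (by rwa [← pow_succ])
    by_contra hz1
    have hzE : z ∈ E := E.pow_mem hxE _
    have hzo : z ^ e' = 1 := by rw [hz, ← pow_mul, mul_comm, pow_mul, hxo, one_pow]
    have hw1 : w ≠ 1 := fun h => hwE (h ▸ E.one_mem)
    obtain ⟨g, hg⟩ := hconjE w hw1 (hexp w hwNE) (hconjN w hwNE)
    have hgy : g * w * g⁻¹ = y := hinvE _ hg
      (by rw [conj_pow, hw2, mul_one, mul_inv_cancel]) fun h => hw1 (conj_eq_one_iff.1 h)
    have hy1 : y ≠ 1 := fun h => hw1 (conj_eq_one_iff.1 (hgy.trans h))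
    have hcz : g * z * g⁻¹ ∈ NE := by
      refine hE.cent_le y hyE hy1 ?_
      rw [Subgroup.mem_centralizer_singleton_iff, ← hgy, conj_mul, conj_mul]
      have : w * z = z * w := by
        calc w * z = (w * z * w⁻¹) * w := by group
          _ = z * w := by rw [hzw]
      rw [this]
    have hczE := hoddE _ hcz (by rw [conj_pow, hzo, mul_one, mul_inv_cancel])
    have hgNE : g⁻¹ ∈ NE := hE.rigid z hzE hz1 g⁻¹ (by rwa [inv_inv])
    apply hwE
    have h4 := (Subgroup.mem_normalizer_iff.1 hgNE y).1 hyE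
    rwa [← hgy, inv_inv, show g⁻¹ * (g * w * g⁻¹) * g = w by group] at h4
  have he2' : e = 2 := by
    by_contra hne
    have hx2 : x * x = 1 := by
      -- two elements of `N(E)` outside `E` with product outside `E`
      obtain ⟨q₁, hq₁, hq₁E⟩ : ∃ q ∈ NE, q ∉ E := by
        by_contra hc
        push Not at hc
        have h1 := Subgroup.card_le_card_group (G := G) NE
        have h2 : Nat.card NE ≤ Nat.card E := Nat.card_le_card_of_injective
          (Subgroup.inclusion (H := NE) (K := E) hc) (Subgroup.inclusion_injective _)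
        rw [hE.card_E, hNEcard] at h2
        have : e * 2 ≤ e * t := Nat.mul_le_mul_left e ht2
        omega
      obtain ⟨q₂, hq₂, hq₂E, hq₁₂⟩ : ∃ q ∈ NE, q ∉ E ∧ q₁ * q ∉ E := by
        by_contra hc
        push Not at hc
        have hsub : els NE ⊆ els E ∪ (els E).image (fun z => q₁⁻¹ * z) := by
          intro q hq
          rw [Finset.mem_union, Finset.mem_image]
          by_cases h : q ∈ E
          · exact Or.inl (mem_els.2 h)
          · exact Or.inr ⟨q₁ * q, mem_els.2 (hc q (mem_els.1 hq) h), by group⟩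
        have h3 := (Finset.card_le_card hsub).trans (Finset.card_union_le _ _)
        have h4 := Finset.card_image_le (s := els E) (f := fun z => q₁⁻¹ * z)
        rw [card_els, card_els, hNEcard, hE.card_E] at h3
        rw [card_els, hE.card_E] at h4
        have : e * 3 ≤ e * t := Nat.mul_le_mul_left e (by omega)
        omega
      obtain ⟨r₁, hr₁⟩ := hact q₁ hq₁
      obtain ⟨r₂, hr₂⟩ := hact q₂ hq₂
      have hr₁₂ : q₁ * q₂ * x * (q₁ * q₂)⁻¹ = x ^ (r₁ * r₂) := by
        rw [show q₁ * q₂ * x * (q₁ * q₂)⁻¹ = q₁ * (q₂ * x * q₂⁻¹) * q₁⁻¹ by group, hr₂, ← conj_pow,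
          hr₁, ← pow_mul]
      have h1 := (conj_pow_pow hr₁ e').symm.trans (hinv q₁ hq₁ hq₁E)
      have h2 := (conj_pow_pow hr₂ e').symm.trans (hinv q₂ hq₂ hq₂E)
      have h3 := (conj_pow_pow hr₁₂ e').symm.trans (hinv _ (NE.mul_mem hq₁ hq₂) hq₁₂)
      rw [mul_pow, pow_mul, h1, inv_pow, h2, inv_inv] at h3
      calc x * x = x * x⁻¹ := by rw [← h3]
        _ = 1 := mul_inv_cancel x
    rw [hxdef, ← pow_add] at hx2
    have h5 := orderOf_dvd_of_pow_eq_one hx2
    rw [hn0o] at h5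
    have h6 : e ∣ 4 := h5
    have h7 := Nat.le_of_dvd (by norm_num) h6
    obtain ⟨r, hr⟩ := he'odd
    interval_cases e <;> omega
  -- the endgame
  have he'1 : e' = 1 := by omega
  subst he'1
  have hy1 : y ≠ 1 := by
    intro h
    rw [hydef, pow_one] at h
    rw [h, orderOf_one] at hn0o
    omega
  have hy2 : y ^ 2 = 1 := by rw [hydef, pow_one, ← he2', ← hn0o, pow_orderOf_eq_one]
  have hNEexp : ∀ c ∈ NE, c ^ 2 = 1 := fun c hc => he2' ▸ hexp c hc
  have hDodd : Odd (p - e) := by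
    rw [he2']
    obtain ⟨r, hr⟩ := p_odd S
    exact ⟨r - 1, by omega⟩
  have hinvol : ∀ w : G, orderOf w = 2 → ∃ g : G, g * w * g⁻¹ = y := by
    intro w hw2
    by_cases hc : ∃ g : G, g * w * g⁻¹ ∈ N
    · have hw1 : w ≠ 1 := fun h => by rw [h, orderOf_one] at hw2; omega
      have hw2' : w ^ 2 = 1 := hw2 ▸ pow_orderOf_eq_one w
      obtain ⟨g, hg⟩ := hconjE w hw1 (he2' ▸ hw2') hc
      exact ⟨g, hinvE _ hg (by rw [conj_pow, hw2', mul_one, mul_inv_cancel]) fun h =>
        hw1 (conj_eq_one_iff.1 h)⟩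
    · exfalso
      push Not at hc
      have h1 := card_centralizer_dvd S hw htk (g := w) (fun g => hNeq ▸ hc g)
      have h2 : 2 ∣ p - e := hw2 ▸ (Subgroup.orderOf_dvd_natCard _
        (Subgroup.mem_centralizer_singleton_iff.2 rfl)).trans h1
      exact (Nat.not_even_iff_odd.2 hDodd) (even_iff_two_dvd.2 h2)
  have hcentexp : ∀ w : G, orderOf w = 2 → ∀ c ∈ Subgroup.centralizer ({w} : Set G), c ^ 2 = 1 := by
    intro w hw2 c hc
    obtain ⟨g, hg⟩ := hinvol w hw2
    have h1 : g * c * g⁻¹ ∈ NE := hE.cent_le y hyE hy1 (by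
      rw [Subgroup.mem_centralizer_singleton_iff, ← hg, conj_mul, conj_mul,
        Subgroup.mem_centralizer_singleton_iff.1 hc])
    have h2 := hNEexp _ h1
    rw [conj_pow] at h2
    exact conj_eq_one_iff.1 h2
  have hGc : Nat.card G = (p - 1) * (p * (p - e)) := by
    rw [card_G S, ← hD2, hDe, hpt]; ring
  have hpm : p - 1 = 2 ^ (j + 1) := by rw [hpt, hj, he2', pow_succ]
  have hNEc : Nat.card NE = p - 1 := by rw [hNEcard, hpt, mul_comm]
  refine ⟨?_, j + 1, hpm, hcentexp, fun T => ?_⟩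
  · rw [hpt, he2']; omega
  have hodd2 : ¬ 2 ∣ p * (p - e) := by
    rw [Nat.prime_two.dvd_mul]
    have h1 := Nat.not_even_iff_odd.2 (p_odd S)
    have h2 := Nat.not_even_iff_odd.2 hDodd
    rw [even_iff_two_dvd] at h1 h2
    tauto
  haveI : Fact (Nat.Prime 2) := ⟨Nat.prime_two⟩
  have hTcard : Nat.card T = p - 1 := by
    obtain ⟨i, hi⟩ := IsPGroup.iff_card.1 T.isPGroup'
    refine Nat.dvd_antisymm ?_ ?_
    · have h1 : Nat.card (T : Subgroup G) ∣ (p - 1) * (p * (p - e)) :=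
        hGc ▸ Subgroup.card_subgroup_dvd_card _
      have h2 : Nat.Coprime (Nat.card (T : Subgroup G)) (p * (p - e)) := by
        rw [hi]; exact Nat.Coprime.pow_left _ (Nat.prime_two.coprime_iff_not_dvd.2 hodd2)
      exact h2.dvd_of_dvd_mul_right h1
    · obtain ⟨Q, hQ⟩ := (IsPGroup.of_card (p := 2) (G := NE) (hNEc.trans hpm)).exists_le_sylow
      have h3 : Nat.card NE ∣ Nat.card (Q : Subgroup G) := Subgroup.card_dvd_of_le hQ
      rw [hNEc, Sylow.card_eq_multiplicity] at h3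
      rwa [Sylow.card_eq_multiplicity]
  refine ⟨hTcard, fun hnorm => ?_⟩
  -- `y` would centralize `P`
  obtain ⟨Q, hQ⟩ := (IsPGroup.of_card (p := 2) (G := Subgroup.zpowers y) (n := 1) (by
    rw [Nat.card_zpowers, pow_one]
    exact orderOf_eq_prime hy2 hy1)).exists_le_sylow
  haveI := Sylow.unique_of_normal T hnorm
  have hyT : y ∈ (T : Subgroup G) := by
    have hQT : Q = T := Subsingleton.elim _ _
    exact hQT ▸ hQ (Subgroup.mem_zpowers y)
  obtain ⟨z, hz⟩ := exists_mem_Ps S.cardP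
  have hyN : y ∈ Subgroup.normalizer ((P : Subgroup G) : Set G) := hNeq ▸ hE.le_stab hyE
  -- the commutator lies in `T` and in `P`
  have hcP : y * z * y⁻¹ * z⁻¹ ∈ (P : Subgroup G) :=
    mul_mem ((Subgroup.mem_normalizer_iff.1 hyN z).1 (mem_Ps.1 hz).1) (inv_mem (mem_Ps.1 hz).1)
  have hcT : y * z * y⁻¹ * z⁻¹ ∈ (T : Subgroup G) := by
    rw [show y * z * y⁻¹ * z⁻¹ = y * (z * y⁻¹ * z⁻¹) by group]
    exact mul_mem hyT (hnorm.conj_mem _ (inv_mem hyT) z)
  have hc1 : y * z * y⁻¹ * z⁻¹ = 1 := orderOf_eq_one_iff.1 (Nat.eq_one_of_dvd_coprimes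
    (show Nat.Coprime (p - 1) p from ((hp.coprime_iff_not_dvd).2 fun h => absurd (Nat.le_of_dvd (by omega) h) (by omega)).symm)
    (hTcard ▸ Subgroup.orderOf_dvd_natCard _ hcT)
    (S.cardP ▸ Subgroup.orderOf_dvd_natCard _ hcP))
  refine hy1 (hE.not_mem y hyE (mem_P_of_comm S.cardP S.cent hz ?_))
  rwa [mul_inv_eq_one, mul_inv_eq_iff_eq_mul] at hc1

end Cfsg.Agent.BrauerReynolds7
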