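import Mathlib
import Cfsg.Prelude.Def_Involutions
import Cfsg.Agent.Lib.SignalizerStrongEmb
import Cfsg.Agent.S1226

/-!
Finite groups in which every involution centralizer is an elementary abelian 2-group and the Sylow
2-subgroup `T` is neither cyclic nor normal: structure of `N(T)` and its two-point stabilizers.
-/

set_option autoImplicit false
set_option linter.unusedSectionVars false

namespace Cfsg.Agent.ElemCentralizerGroup

open Cfsg.Agent.SignalizerStrongEmb

variable {G : Type*} [Group G] [Finite G]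

/-- Every involution centralizer is elementary abelian. -/
def ElemCent (G : Type*) [Group G] : Prop :=
  ∀ t : G, orderOf t = 2 → IsMulCommutative (Subgroup.centralizer ({t} : Set G)) ∧
    ∀ c ∈ Subgroup.centralizer ({t} : Set G), c ^ 2 = 1

/-- An automorphism of order two without fixed points inverts. -/
theorem inverted_of_fpf {A : Subgroup G} {u : G} (hu : orderOf u = 2)
    (hn : ∀ a ∈ A, u * a * u⁻¹ ∈ A) (hf : ∀ a ∈ A, u * a = a * u → a = 1) :
    ∀ a ∈ A, u * a * u⁻¹ = a⁻¹ := by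
  let f : A → A := fun a => ⟨(a : G)⁻¹ * (u * a * u⁻¹), mul_mem (inv_mem a.2) (hn a a.2)⟩
  have hinj : Function.Injective f := by
    intro a b hab
    have h : (a : G)⁻¹ * (u * a * u⁻¹) = (b : G)⁻¹ * (u * b * u⁻¹) := congrArg Subtype.val hab
    have h1 : u * ((b : G) * (a : G)⁻¹) = (b : G) * (a : G)⁻¹ * u := by
      have h2 : (b : G) * (a : G)⁻¹ * u * a * u⁻¹ = u * b * u⁻¹ := by
        calc (b : G) * (a : G)⁻¹ * u * a * u⁻¹ = b * ((a : G)⁻¹ * (u * a * u⁻¹)) := by group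
          _ = u * b * u⁻¹ := by rw [h]; group
      calc u * ((b : G) * (a : G)⁻¹) = (u * b * u⁻¹) * u * (a : G)⁻¹ := by group
        _ = (b : G) * (a : G)⁻¹ * u := by rw [← h2]; group
    exact Subtype.ext (mul_inv_eq_one.1 (hf _ (mul_mem b.2 (inv_mem a.2)) h1)).symm
  intro a ha
  obtain ⟨b, hb⟩ := Finite.surjective_of_injective hinj ⟨a, ha⟩
  have h : (b : G)⁻¹ * (u * b * u⁻¹) = a := congrArg Subtype.val hb
  have hu2 := involution_inv hu
  rw [← h]
  calc u * ((b : G)⁻¹ * (u * b * u⁻¹)) * u⁻¹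
      = u * (b : G)⁻¹ * u * b * (u⁻¹ * u⁻¹) := by group
    _ = ((b : G)⁻¹ * (u * b * u⁻¹))⁻¹ := by
        rw [mul_inv_rev, mul_inv_rev, mul_inv_rev, inv_inv, inv_inv, hu2, involution_mul_self hu,
          mul_one]; group

/-- The normalizer of `T`. -/
abbrev HH (T : Sylow 2 G) : Subgroup G := Subgroup.normalizer ((T : Subgroup G) : Set G)

/-- The two-point stabilizer. -/
abbrev DD (T : Sylow 2 G) (u : G) : Subgroup G := HH T ⊓ (HH T).map (MulAut.conj u).toMonoidHom

/-- The standing hypotheses. -/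
structure Hyp (T : Sylow 2 G) : Prop where
  nc : ¬ IsCyclic (T : Subgroup G)
  nn : ¬ (T : Subgroup G).Normal
  cent : ElemCent G

namespace Hyp

variable {T : Sylow 2 G} (h : Hyp T)
include h

theorem se : Cfsg.IsStronglyEmbedded (HH T) := Cfsg.Agent.S1226.result T h.nc h.nn h.cent

theorem T_ne_bot : (T : Subgroup G) ≠ ⊥ := fun e => h.nc (by rw [e]; infer_instance)

theorem comm {x y : G} (hx : x ∈ (T : Subgroup G)) (hy : y ∈ (T : Subgroup G)) :
    x * y = y * x ∧ x ^ 2 = 1 := by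
  have : Fact (Nat.Prime 2) := ⟨Nat.prime_two⟩
  have hnt : Nontrivial (T : Subgroup G) := (T : Subgroup G).nontrivial_iff_ne_bot.2 h.T_ne_bot
  obtain ⟨k, hk⟩ := IsPGroup.iff_card.1 T.isPGroup'
  have hc := T.isPGroup'.center_nontrivial
  have hcp : IsPGroup 2 (Subgroup.center (T : Subgroup G)) := T.isPGroup'.to_subgroup _
  obtain ⟨t, ht, ht2⟩ := exists_involution_of_even (H := (Subgroup.center (T : Subgroup G))) (by
    obtain ⟨m, hm⟩ := IsPGroup.iff_card.1 hcp
    rw [hm]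
    refine Nat.even_pow.2 ⟨by norm_num, ?_⟩
    rintro rfl
    exact absurd hm (by
      have : 1 < Nat.card (Subgroup.center (T : Subgroup G)) := Finite.one_lt_card
      simp only [pow_zero]; omega))
  have ht' : orderOf (t : G) = 2 := by rw [Subgroup.orderOf_coe]; exact ht2
  have hle : ∀ w ∈ (T : Subgroup G), w ∈ Subgroup.centralizer ({(t : G)} : Set G) := fun w hw =>
    Subgroup.mem_centralizer_singleton_iff.2
      (congrArg Subtype.val (Subgroup.mem_center_iff.1 ht ⟨w, hw⟩))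
  obtain ⟨hab, hexp⟩ := h.cent _ ht'
  exact ⟨congrArg Subtype.val (hab.is_comm.comm ⟨x, hle x hx⟩ ⟨y, hle y hy⟩), hexp x (hle x hx)⟩

theorem orderOf_eq_two {t : G} (ht : t ∈ (T : Subgroup G)) (h1 : t ≠ 1) : orderOf t = 2 :=
  orderOf_eq_prime (h.comm ht ht).2 h1

theorem cent_eq {t : G} (ht : t ∈ (T : Subgroup G)) (h1 : t ≠ 1) {c : G} (hc : c * t = t * c) :
    c ∈ (T : Subgroup G) := by
  have : Fact (Nat.Prime 2) := ⟨Nat.prime_two⟩
  have ho := h.orderOf_eq_two ht h1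
  set C := Subgroup.centralizer ({t} : Set G)
  have hCp : IsPGroup 2 C := fun x => ⟨1, Subtype.ext (by simpa using (h.cent t ho).2 _ x.2)⟩
  have hTC : (T : Subgroup G) ≤ C := fun w hw =>
    Subgroup.mem_centralizer_singleton_iff.2 (h.comm hw ht).1
  rw [← T.is_maximal' hCp hTC]
  exact Subgroup.mem_centralizer_singleton_iff.2 hc

theorem involution_mem {t : G} (ht : orderOf t = 2) (htH : t ∈ HH T) : t ∈ (T : Subgroup G) := by
  have : Fact (Nat.Prime 2) := ⟨Nat.prime_two⟩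
  have hp : IsPGroup 2 (Subgroup.zpowers t) := IsPGroup.of_card (n := 1) (by rw [Nat.card_zpowers, ht, pow_one])
  have h1 : t ∈ Subgroup.zpowers t ⊓ HH T := ⟨Subgroup.mem_zpowers t, htH⟩
  rw [show Subgroup.zpowers t ⊓ HH T = _ from hp.inf_normalizer_sylow T] at h1
  exact h1.2

theorem conj_mem {x t : G} (hx : x ∈ HH T) (ht : t ∈ (T : Subgroup G)) :
    x * t * x⁻¹ ∈ (T : Subgroup G) :=
  (Subgroup.mem_normalizer_iff.1 hx t).1 ht

theorem exists_involution : ∃ t ∈ (T : Subgroup G), t ≠ 1 :=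
  (Subgroup.ne_bot_iff_exists_ne_one.1 h.T_ne_bot).elim fun t ht => ⟨t, t.2, fun e => ht (Subtype.ext e)⟩

theorem three_le : 3 ≤ Nat.card (T : Subgroup G) := by
  have : Fact (Nat.Prime 2) := ⟨Nat.prime_two⟩
  have h0 := Nat.card_pos (α := (T : Subgroup G))
  by_contra hlt
  push Not at hlt
  rcases Nat.lt_or_ge (Nat.card (T : Subgroup G)) 2 with h1 | h1
  · exact h.T_ne_bot (Subgroup.card_eq_one.1 (by omega))
  · exact h.nc (isCyclic_of_prime_card (show Nat.card (T : Subgroup G) = 2 by omega))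

theorem exists_swap {g : G} (hg : g ∉ HH T) :
    ∃ i, orderOf i = 2 ∧ i ∉ HH T ∧ (QuotientGroup.mk i : G ⧸ HH T) = QuotientGroup.mk g := by
  have hne : ((1 : G) : G ⧸ HH T) ≠ (g : G ⧸ HH T) := fun e => hg (by simpa [QuotientGroup.eq] using e)
  have hc := card_swap h.se _ _ hne
  obtain ⟨t, htH, ht⟩ := exists_involution_mem h.se
  have : Nonempty {t : G // orderOf t = 2 ∧ t ∈ HH T} := ⟨⟨t, ht, htH⟩⟩
  have hpos : 0 < Nat.card {t : G // orderOf t = 2 ∧ t ∈ HH T} := Nat.card_pos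
  rw [← hc, Nat.card_pos_iff] at hpos
  obtain ⟨⟨i, hi, hie⟩⟩ := hpos.1
  have hie' : (QuotientGroup.mk (i * 1) : G ⧸ HH T) = QuotientGroup.mk g := hie
  rw [mul_one] at hie'
  refine ⟨i, hi, fun hiH => hg ?_, hie'⟩
  have := mul_mem hiH (QuotientGroup.eq.1 hie')
  simpa using this

variable {u : G} (hu : orderOf u = 2) (huH : u ∉ HH T)
include hu huH

theorem mem_DD_iff {d : G} : d ∈ DD T u ↔ d ∈ HH T ∧ u * d * u⁻¹ ∈ HH T := by
  rw [Subgroup.mem_inf, mem_conj_iff, involution_inv hu]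

theorem disjoint_T {d : G} (hd : d ∈ DD T u) (hdT : d ∈ (T : Subgroup G)) : d = 1 := by
  by_contra h1
  exact Nat.not_even_iff_odd.2 (h.se.2.2 u huH)
    (even_card_of_involution_mem (h.orderOf_eq_two hdT h1) hd)

theorem fpf {d : G} (hd : d ∈ DD T u) (hc : u * d = d * u) : d = 1 := by
  have h2 : d ^ 2 = 1 := (h.cent u hu).2 d (Subgroup.mem_centralizer_singleton_iff.2 hc.symm)
  by_contra h1
  exact Nat.not_even_iff_odd.2 (h.se.2.2 u huH)
    (even_card_of_involution_mem (orderOf_eq_prime h2 h1) hd)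

theorem normalizes {d : G} (hd : d ∈ DD T u) : u * d * u⁻¹ ∈ DD T u := by
  rw [mem_DD_iff h hu huH] at hd ⊢
  refine ⟨hd.2, ?_⟩
  have : u * (u * d * u⁻¹) * u⁻¹ = (u * u) * d * (u * u)⁻¹ := by group
  rw [this, involution_mul_self hu, inv_one, one_mul, mul_one]
  exact hd.1

theorem inverts {d : G} (hd : d ∈ DD T u) : u * d * u⁻¹ = d⁻¹ :=
  inverted_of_fpf hu (fun _ ha => h.normalizes hu huH ha) (fun _ ha => h.fpf hu huH ha) d hd

theorem DD_comm {a b : G} (ha : a ∈ DD T u) (hb : b ∈ DD T u) : a * b = b * a := by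
  have h1 := h.inverts hu huH (mul_mem ha hb)
  rw [← conj_mul, h.inverts hu huH ha, h.inverts hu huH hb, mul_inv_rev] at h1
  have := congrArg (·⁻¹) h1
  simpa [mul_inv_rev] using this.symm

theorem conj_unique {d e t : G} (ht : t ∈ (T : Subgroup G)) (h1 : t ≠ 1) (hd : d ∈ DD T u)
    (he : e ∈ DD T u) (heq : d * t * d⁻¹ = e * t * e⁻¹) : d = e := by
  refine (inv_mul_eq_one.1 (h.disjoint_T hu huH (mul_mem (inv_mem he) hd) (h.cent_eq ht h1 ?_))).symm
  calc e⁻¹ * d * t = e⁻¹ * (d * t * d⁻¹) * d := by group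
    _ = t * (e⁻¹ * d) := by rw [heq]; group

theorem exists_conj {s t : G} (hs : s ∈ (T : Subgroup G)) (hs1 : s ≠ 1) (ht : t ∈ (T : Subgroup G))
    (ht1 : t ≠ 1) : ∃ d ∈ DD T u, d * s * d⁻¹ = t :=
  exists_conj_in_inf h.se hu huH (h.orderOf_eq_two hs hs1) (Subgroup.le_normalizer hs)
    (h.orderOf_eq_two ht ht1) (Subgroup.le_normalizer ht)

theorem decomp {x : G} (hx : x ∈ HH T) : ∃ d ∈ DD T u, d⁻¹ * x ∈ (T : Subgroup G) := by
  obtain ⟨t, ht, h1⟩ := h.exists_involution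
  obtain ⟨d, hd, hdt⟩ := h.exists_conj hu huH ht h1 (h.conj_mem hx ht)
    (fun e => h1 (conj_eq_one_iff.1 e))
  refine ⟨d, hd, h.cent_eq ht h1 ?_⟩
  calc d⁻¹ * x * t = d⁻¹ * (x * t * x⁻¹) * x := by group
    _ = t * (d⁻¹ * x) := by rw [← hdt]; group

theorem card_DD : Nat.card (DD T u) + 1 = Nat.card (T : Subgroup G) := by
  obtain ⟨t, ht, h1⟩ := h.exists_involution
  let f : DD T u → {s : (T : Subgroup G) // s ≠ 1} := fun d =>
    ⟨⟨(d : G) * t * (d : G)⁻¹, h.conj_mem d.2.1 ht⟩,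
      fun e => h1 (conj_eq_one_iff.1 (congrArg Subtype.val e))⟩
  have hf : Function.Bijective f := by
    constructor
    · intro a b hab
      exact Subtype.ext (h.conj_unique hu huH ht h1 a.2 b.2
        (congrArg (fun s : {s : (T : Subgroup G) // s ≠ 1} => (s.1 : G)) hab))
    · rintro ⟨s, hs⟩
      obtain ⟨d, hd, hde⟩ := h.exists_conj hu huH ht h1 s.2 (fun e => hs (Subtype.ext e))
      exact ⟨⟨d, hd⟩, Subtype.ext (Subtype.ext hde)⟩
  classical
  have : Fintype (T : Subgroup G) := Fintype.ofFinite _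
  rw [Nat.card_eq_of_bijective f hf, Nat.card_eq_fintype_card, Nat.card_eq_fintype_card,
    Fintype.card_subtype_compl, Fintype.card_subtype_eq]
  have : 0 < Fintype.card (T : Subgroup G) := Fintype.card_pos
  omega

theorem DD_ne_bot : DD T u ≠ ⊥ := by
  intro e
  have := h.card_DD hu huH
  rw [e, Subgroup.card_bot] at this
  have := h.three_le
  omega

theorem T_normalize_DD {x : G} (hx : x ∈ (T : Subgroup G))
    (hn : ∀ d ∈ DD T u, x * d * x⁻¹ ∈ DD T u) : x = 1 := by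
  by_contra h1
  refine h.DD_ne_bot hu huH ((Subgroup.eq_bot_iff_forall _).2 fun d hd => ?_)
  refine h.disjoint_T hu huH hd (h.cent_eq hx h1 ?_)
  have hmem : x * d * x⁻¹ * d⁻¹ ∈ DD T u := mul_mem (hn d hd) (inv_mem hd)
  have hT : x * d * x⁻¹ * d⁻¹ ∈ (T : Subgroup G) := by
    rw [show x * d * x⁻¹ * d⁻¹ = x * (d * x⁻¹ * d⁻¹) by group]
    exact mul_mem hx (h.conj_mem hd.1 (inv_mem hx))
  have h2 := h.disjoint_T hu huH hmem hT
  calc d * x = 1 * d * x := by group
    _ = x * d * x⁻¹ * d⁻¹ * d * x := by rw [h2]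
    _ = x * d := by group

theorem normalizer_inf {x : G} (hx : x ∈ HH T) (hn : ∀ d ∈ DD T u, x * d * x⁻¹ ∈ DD T u) :
    x ∈ DD T u := by
  obtain ⟨d, hd, hdx⟩ := h.decomp hu huH hx
  have h1 := h.T_normalize_DD hu huH hdx (fun e he => by
    have := mul_mem (mul_mem (inv_mem hd) (hn e he)) hd
    simpa [mul_assoc] using this)
  rwa [← inv_mul_eq_one.1 h1]

/-- The fixed cosets of the two-point stabilizer. -/
theorem fixed {g : G} (hg : g ∉ HH T) (hfix : ∀ d ∈ DD T u, g⁻¹ * d * g ∈ HH T) :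
    (QuotientGroup.mk g : G ⧸ HH T) = QuotientGroup.mk u := by
  -- the centralizer of `DD T u`
  set A := Subgroup.centralizer (DD T u : Set G) with hA
  have hAu : ∀ a ∈ A, u * a * u⁻¹ = a⁻¹ := by
    refine inverted_of_fpf hu (fun a ha => ?_) (fun a ha hc => ?_)
    · rw [hA, Subgroup.mem_centralizer_iff] at ha ⊢
      intro d hd
      have h1 := ha _ (h.normalizes hu huH hd)
      rw [show u * d * u⁻¹ = u⁻¹ * d * u by rw [involution_inv hu]] at h1
      calc d * (u * a * u⁻¹) = u * ((u⁻¹ * d * u) * a) * u⁻¹ := by group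
        _ = u * (a * (u⁻¹ * d * u)) * u⁻¹ := by rw [h1]
        _ = u * a * u⁻¹ * d := by group
    · by_contra h1
      have h2 : a ^ 2 = 1 := (h.cent u hu).2 a (Subgroup.mem_centralizer_singleton_iff.2 hc.symm)
      have ho := orderOf_eq_prime h2 h1
      refine h.DD_ne_bot hu huH ((Subgroup.eq_bot_iff_forall _).2 fun d hd => ?_)
      have h3 : d ^ 2 = 1 := (h.cent a ho).2 d
        (Subgroup.mem_centralizer_singleton_iff.2 (Subgroup.mem_centralizer_iff.1 ha d hd))
      by_contra hd1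
      exact Nat.not_even_iff_odd.2 (h.se.2.2 u huH)
        (even_card_of_involution_mem (orderOf_eq_prime h3 hd1) hd)
  -- every fixed point is swapped with the base point by `u * A`
  have step : ∀ g : G, g ∉ HH T → (∀ d ∈ DD T u, g⁻¹ * d * g ∈ HH T) →
      ∃ i, orderOf i = 2 ∧ i ∉ HH T ∧ (QuotientGroup.mk i : G ⧸ HH T) = QuotientGroup.mk g ∧
        u * i ∈ A := by
    intro g hg hfix
    obtain ⟨i, hi, hiH, hig⟩ := h.exists_swap hg
    refine ⟨i, hi, hiH, hig, ?_⟩
    have hle : DD T u ≤ DD T i := by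
      intro d hd
      refine (h.mem_DD_iff hi hiH).2 ⟨hd.1, ?_⟩
      have hw : i⁻¹ * g ∈ HH T := QuotientGroup.eq.1 hig
      have := mul_mem (mul_mem hw (hfix d hd)) (inv_mem hw)
      simpa [mul_assoc, involution_inv hi] using this
    have heq : DD T u = DD T i := Subgroup.eq_of_le_of_card_ge hle
      (by have := h.card_DD hu huH; have := h.card_DD hi hiH; omega)
    rw [hA, Subgroup.mem_centralizer_iff]
    intro d hd
    have h1 := h.inverts hi hiH (show d ∈ DD T i from heq ▸ hd)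
    have h2 := h.inverts hu huH (inv_mem hd)
    rw [inv_inv] at h2
    calc d * (u * i) = (u * d⁻¹ * u⁻¹) * (u * i) := by rw [h2]
      _ = u * (i * d * i⁻¹) * i := by rw [h1]; group
      _ = u * i * d := by group
  have hAH : ∀ a ∈ A, a ∈ DD T u := by
    intro a ha
    have hn : ∀ d ∈ DD T u, a * d * a⁻¹ ∈ DD T u := fun d hd => by
      rwa [← Subgroup.mem_centralizer_iff.1 ha d hd, mul_inv_cancel_right]
    refine h.normalizer_inf hu huH ?_ hn
    by_contra haH
    obtain ⟨i, hi, hiH, hia, hc⟩ := step a haH (fun d hd => by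
      have h4 : a⁻¹ * d * a = d := by
        rw [mul_assoc, Subgroup.mem_centralizer_iff.1 ha d hd, inv_mul_cancel_left]
      rw [h4]; exact hd.1)
    set c := u * i
    have hw : a⁻¹ * i ∈ HH T := by
      have := QuotientGroup.eq.1 hia.symm
      exact this
    set j := a⁻¹ * i
    have hj : j = u * (a * c) := by
      have h1 : a⁻¹ * u = u * a := by
        rw [← hAu a ha, inv_mul_cancel_right]
      calc j = a⁻¹ * ((u * u) * i) := by rw [involution_mul_self hu, one_mul]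
        _ = (a⁻¹ * u) * c := by simp only [c, mul_assoc]
        _ = u * (a * c) := by rw [h1]; group
    have hac : a * c ∈ A := mul_mem ha hc
    have hj2 : j * j = 1 := by
      rw [hj]
      calc u * (a * c) * (u * (a * c)) = (u * (a * c) * u⁻¹) * (u * u) * (a * c) := by group
        _ = 1 := by rw [hAu _ hac, involution_mul_self hu]; group
    have hj1 : j ≠ 1 := by
      intro e
      rw [hj] at e
      have huA : u ∈ A := by
        rw [eq_inv_of_mul_eq_one_left e]; exact A.inv_mem hac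
      exact huH (by
        have hd1 := h.DD_ne_bot hu huH
        exfalso; apply hd1
        refine (Subgroup.eq_bot_iff_forall _).2 fun d hd => ?_
        exact h.fpf hu huH hd (Subgroup.mem_centralizer_iff.1 huA d hd).symm)
    have hjT := h.involution_mem (orderOf_eq_two_of_mul_self hj2 hj1) hw
    refine hj1 (h.T_normalize_DD hu huH hjT fun d hd => ?_)
    rw [hj]
    have h1 : u * (a * c) * d * (u * (a * c))⁻¹ = u * ((a * c) * d * (a * c)⁻¹) * u⁻¹ := by group
    rw [h1, ← Subgroup.mem_centralizer_iff.1 hac d hd, mul_inv_cancel_right]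
    exact h.normalizes hu huH hd
  obtain ⟨i, hi, hiH, hig, hc⟩ := step g hg hfix
  rw [← hig, QuotientGroup.eq]
  have h1 := (HH T).inv_mem ((h.mem_DD_iff hu huH).1 (hAH _ hc)).1
  rw [mul_inv_rev, involution_inv hu] at h1
  exact h1

/-- Every other point is a `T`-translate of `u`. -/
theorem exists_translate {g : G} (hg : g ∉ HH T) :
    ∃ x ∈ (T : Subgroup G), (QuotientGroup.mk (x * u) : G ⧸ HH T) = QuotientGroup.mk g := by
  obtain ⟨i, hi, hiH, hig⟩ := h.exists_swap hg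
  obtain ⟨d₀, hd₀, hd₁⟩ : ∃ d ∈ DD T u, d ≠ 1 :=
    (Subgroup.ne_bot_iff_exists_ne_one.1 (h.DD_ne_bot hu huH)).elim fun d hd =>
      ⟨d, d.2, fun e => hd (Subtype.ext e)⟩
  have hcT : ∀ x ∈ (T : Subgroup G), x * d₀ = d₀ * x → x = 1 := by
    intro x hx hxc
    by_contra h1
    exact hd₁ (h.disjoint_T hu huH hd₀ (h.cent_eq hx h1 hxc.symm))
  let f : ↥(T : Subgroup G) → ↥(T : Subgroup G) := fun x =>
    ⟨(x : G) * (d₀ * (x : G)⁻¹ * d₀⁻¹), mul_mem x.2 (h.conj_mem hd₀.1 (inv_mem x.2))⟩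
  have hinj : Function.Injective f := by
    intro a b hab
    have he : (a : G) * (d₀ * (a : G)⁻¹ * d₀⁻¹) = (b : G) * (d₀ * (b : G)⁻¹ * d₀⁻¹) :=
      congrArg Subtype.val hab
    refine Subtype.ext (inv_mul_eq_one.1 (hcT _ (mul_mem (inv_mem a.2) b.2) ?_))
    calc (a : G)⁻¹ * b * d₀ = (a : G)⁻¹ * ((b : G) * (d₀ * (b : G)⁻¹ * d₀⁻¹)) * d₀ * b := by group
      _ = d₀ * ((a : G)⁻¹ * b) := by rw [← he]; group
  -- an element of `DD T i` in the coset `T d₀`
  obtain ⟨e, he, hed⟩ : ∃ e ∈ DD T i, e * d₀⁻¹ ∈ (T : Subgroup G) := by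
    obtain ⟨e, he, hed⟩ := h.decomp hi hiH hd₀.1
    refine ⟨e, he, ?_⟩
    have := h.conj_mem he.1 (inv_mem hed)
    simpa [mul_assoc] using this
  obtain ⟨x, hx⟩ := Finite.surjective_of_injective hinj ⟨e * d₀⁻¹, hed⟩
  have hx' : (x : G) * d₀ * (x : G)⁻¹ = e := by
    have h1 : (x : G) * (d₀ * (x : G)⁻¹ * d₀⁻¹) = e * d₀⁻¹ := congrArg Subtype.val hx
    calc (x : G) * d₀ * (x : G)⁻¹ = (x : G) * (d₀ * (x : G)⁻¹ * d₀⁻¹) * d₀ := by group
      _ = e := by rw [h1]; group
  refine ⟨x, x.2, ?_⟩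
  have hcent : ∀ y ∈ HH T, y * d₀ = d₀ * y → y ∈ DD T u := by
    intro y hy hyc
    obtain ⟨d, hd, hdy⟩ := h.decomp hu huH hy
    have h1 : d⁻¹ * y * d₀ = d₀ * (d⁻¹ * y) := by
      have h2 := h.DD_comm hu huH (inv_mem hd) hd₀
      calc d⁻¹ * y * d₀ = d⁻¹ * (y * d₀) := by group
        _ = d⁻¹ * d₀ * y := by rw [hyc]; group
        _ = d₀ * (d⁻¹ * y) := by rw [h2]; group
    rwa [← inv_mul_eq_one.1 (hcT _ hdy h1)]
  have hxH : (x : G) ∈ HH T := Subgroup.le_normalizer x.2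
  have hle : (DD T i).map (MulAut.conj (x : G)⁻¹).toMonoidHom ≤ DD T u := by
    rintro _ ⟨y, hy, rfl⟩
    refine hcent _ (mul_mem (mul_mem (inv_mem hxH) hy.1) (inv_mem (inv_mem hxH))) ?_
    have h2 := h.DD_comm hi hiH hy he
    rw [← hx'] at h2
    simp only [MulEquiv.coe_toMonoidHom, MulAut.conj_apply, inv_inv]
    calc (x : G)⁻¹ * y * x * d₀ = (x : G)⁻¹ * (y * ((x : G) * d₀ * (x : G)⁻¹)) * x := by group
      _ = d₀ * ((x : G)⁻¹ * y * x) := by rw [h2]; group
  have heq := Subgroup.eq_of_le_of_card_ge hle (by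
    rw [Subgroup.card_map_of_injective (f := (MulAut.conj (x : G)⁻¹).toMonoidHom) (MulAut.conj _).injective]
    have := h.card_DD hu huH; have := h.card_DD hi hiH; omega)
  have hxi : (x : G)⁻¹ * i ∉ HH T := fun hh => hiH (by simpa using mul_mem hxH hh)
  have h3 := h.fixed hu huH hxi (fun d hd => by
    rw [← heq] at hd
    obtain ⟨y, hy, rfl⟩ := hd
    have h4 := ((h.mem_DD_iff hi hiH).1 hy).2
    have e5 : ((x : G)⁻¹ * i)⁻¹ * (MulAut.conj (x : G)⁻¹).toMonoidHom y * ((x : G)⁻¹ * i)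
        = i⁻¹ * y * i := by simp [mul_assoc]
    rw [e5, involution_inv hi]
    rwa [involution_inv hi] at h4)
  rw [← hig]
  symm
  rw [QuotientGroup.eq] at h3 ⊢
  simpa [mul_assoc] using h3

theorem translate_unique {x y : G} (hx : x ∈ (T : Subgroup G)) (hy : y ∈ (T : Subgroup G))
    (e : (QuotientGroup.mk (x * u) : G ⧸ HH T) = QuotientGroup.mk (y * u)) : x = y := by
  refine inv_mul_eq_one.1 (h.disjoint_T hu huH ((h.mem_DD_iff hu huH).2
    ⟨Subgroup.le_normalizer (mul_mem (inv_mem hx) hy), ?_⟩) (mul_mem (inv_mem hx) hy))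
  rw [QuotientGroup.eq, mul_inv_rev, involution_inv hu] at e
  simpa [mul_assoc, involution_inv hu] using e

end Hyp

end Cfsg.Agent.ElemCentralizerGroup
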