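import Cfsg.Agent.Lib.BrauerReynolds7Main
import Cfsg.Agent.Lib.PSLCard
import Cfsg.Agent.S0731
import Cfsg.Agent.S1230

/-!
# Recognition of `PSL₂(p)` and `PSL₂(p - 1)`

A perfect group with a self-centralizing Sylow `p`-subgroup of order `p` and fewer than
`1 + p (p + 3) / 2` Sylow `p`-subgroups.
-/

set_option autoImplicit false

attribute [local instance] Classical.propDecidable

open MulAction
open scoped Pointwise

namespace Cfsg.Agent.BrauerReynolds7

open Cfsg Cfsg.Agent.DefectOneSign7

universe u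

variable {G : Type u} [Group G] [Finite G]

/-- Burnside's transfer theorem for a perfect group. -/
theorem two_le_relIndex (hperf : commutator G = ⊤) {p : ℕ} [Fact p.Prime] (P : Sylow p G)
    (hP : Nat.card P = p) {e : ℕ}
    (he : (Subgroup.centralizer ((P : Subgroup G) : Set G)).relIndex
      (Subgroup.normalizer ((P : Subgroup G) : Set G)) = e) : 2 ≤ e := by
  by_contra hc
  have he0 : e ≠ 0 := by rw [← he]; exact Subgroup.index_ne_zero_of_finite
  have h1 : (Subgroup.centralizer ((P : Subgroup G) : Set G)).relIndex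
      (Subgroup.normalizer ((P : Subgroup G) : Set G)) = 1 := by omega
  have hle : Subgroup.normalizer ((P : Subgroup G) : Set G) ≤
      Subgroup.centralizer ((P : Subgroup G) : Set G) := Subgroup.relIndex_eq_one.1 h1
  haveI : IsCyclic (P : Subgroup G) := isCyclic_of_prime_card (p := p) hP
  letI : CommGroup (P : Subgroup G) := IsCyclic.commGroup
  have hker : (MonoidHom.transferSylow P hle).ker = ⊤ :=
    eq_top_iff.2 (hperf ▸ Abelianization.commutator_subset_ker (MonoidHom.transferSylow P hle))
  have h2 := MonoidHom.ker_transferSylow_isComplement' P hle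
  rw [hker, Subgroup.isComplement'_top_left] at h2
  rw [h2, Subgroup.card_bot] at hP
  exact (Fact.out : p.Prime).ne_one hP.symm

/-- The conclusion of the theorem of Brauer and Reynolds. -/
def Concl (G : Type u) [Group G] (p : ℕ) : Prop :=
  (∃ (F : Type) (_ : Field F) (_ : Fintype F), Fintype.card F = p ∧ 3 < p ∧
      Nonempty (G ≃* Matrix.ProjectiveSpecialLinearGroup (Fin 2) F)) ∨
    ∃ (m : ℕ) (F : Type) (_ : Field F) (_ : Fintype F), Fintype.card F = 2 ^ m ∧ p = 2 ^ m + 1 ∧
      3 < p ∧ Nonempty (G ≃* Matrix.ProjectiveSpecialLinearGroup (Fin 2) F)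

/-- The case `n = 1`. -/
theorem psl_of_p_add_one (hperf : commutator G = ⊤) {p : ℕ} [Fact p.Prime] (hp5 : 5 ≤ p)
    (P : Sylow p G) (hP : Nat.card P = p)
    (hC : Subgroup.centralizer ((P : Subgroup G) : Set G) = (P : Subgroup G)) {e : ℕ}
    (he : (Subgroup.centralizer ((P : Subgroup G) : Set G)).relIndex
      (Subgroup.normalizer ((P : Subgroup G) : Set G)) = e)
    (hn : Nat.card (Sylow p G) = 1 + 1 * p) (hpe : 2 * e + 1 = p) : Concl G p := by
  haveI := Fintype.ofFinite G
  have hp := (Fact.out : p.Prime)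
  have hNcard : Nat.card (stabilizer G P) = p * e := by
    rw [P.stabilizer_eq_normalizer]; exact card_normalizer hP hC e he
  have hG : Nat.card G = (1 + 1 * p) * (p * e) := by rw [card_group hP hC e he, hn]
  have hPN : (P : Subgroup G) ≤ stabilizer G P := by
    rw [P.stabilizer_eq_normalizer]; exact Subgroup.le_normalizer
  -- `P` is semiregular on the other Sylow subgroups
  have hfree : ∀ u ∈ (P : Subgroup G), ∀ Q : Sylow p G, Q ≠ P → u • Q = Q → u = 1 := by
    intro u hu Q hQ hfix
    by_contra hu1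
    apply hQ
    have h1 : u ∈ Subgroup.normalizer ((Q : Subgroup G) : Set G) := Sylow.smul_eq_iff_mem_normalizer.1 hfix
    have hpg : IsPGroup p (Subgroup.zpowers u) :=
      IsPGroup.of_card (n := 1) (by rw [Nat.card_zpowers, orderOf_mem hP (mem_Ps.2 ⟨hu, hu1⟩), pow_one])
    have hle : (Q : Subgroup G) ⊔ Subgroup.zpowers u = Q :=
      Q.is_maximal' (IsPGroup.to_sup_of_normal_left' Q.isPGroup' hpg
        (Subgroup.zpowers_le.2 h1)) le_sup_left
    have h2 : (P : Subgroup G) ≤ Q := by
      rw [← zpowers_eq P hP hu hu1, Subgroup.zpowers_le, ← hle]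
      exact Subgroup.mem_sup_right (Subgroup.mem_zpowers u)
    exact Sylow.ext (P.is_maximal' Q.isPGroup' h2)
  haveI : MulAction.IsPretransitive G (Sylow p G) := inferInstance
  have hcardQ : Nat.card {Q : Sylow p G // Q ≠ P} = p := by
    have h2 : Nat.card {Q : Sylow p G // Q ≠ P} + 1 = 1 + 1 * p := by
      rw [← hn, ← Finite.card_option, Nat.card_congr (Equiv.optionSubtypeNe P)]
    omega
  have hreg : ∀ y z : Sylow p G, y ≠ P → z ≠ P → ∃! u : (P : Subgroup G), (u : G) • y = z := by
    intro y z hy hz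
    let φ : ↥(P : Subgroup G) → {Q : Sylow p G // Q ≠ P} := fun u => ⟨(u : G) • y, fun h =>
      hy (smul_left_cancel (u : G) (h.trans (show (u : G) • P = P from hPN u.2).symm))⟩
    have hφ : Function.Bijective φ := by
      refine (Nat.bijective_iff_injective_and_card φ).2 ⟨fun u v h => ?_, by
        rw [hcardQ]; exact hP⟩
      have h1 : (u : G) • y = (v : G) • y := congrArg Subtype.val h
      have h2 : ((v : G)⁻¹ * u) • y = y := by rw [mul_smul, h1, inv_smul_smul]
      exact Subtype.ext (inv_mul_eq_one.1 (hfree _ (mul_mem (inv_mem v.2) u.2) y hy h2)).symm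
    obtain ⟨u, hu⟩ := hφ.2 ⟨z, hz⟩
    exact ⟨u, congrArg Subtype.val hu, fun v hv => hφ.1 (Subtype.ext (hv.trans (congrArg Subtype.val hu).symm))⟩
  -- a subgroup meeting the normalizer of `P` in a regular element is prime to `p`
  have hinter : ∀ Q : Sylow p G, Q ≠ P → ∀ g ∈ stabilizer G P, g ∈ stabilizer G Q → p ∣ orderOf g → False := by
    intro Q hQ g hgP hgQ hd
    have h1 : g ∈ Ps P := singular_mem hP hC (Sylow.smul_eq_iff_mem_normalizer.1 hgP) hd
    exact (mem_Ps.1 h1).2 (hfree g (mem_Ps.1 h1).1 Q hQ hgQ)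
  have hkerG : ∀ K : Subgroup G, K.Normal → K ≤ stabilizer G P → K = ⊥ := by
    intro K hK hle
    rw [eq_bot_iff]
    intro g hg
    rw [Subgroup.mem_bot]
    obtain ⟨z, hz⟩ := exists_mem_Ps hP
    have hcopK : ∀ x ∈ K, p ∣ orderOf x → False := by
      intro x hx hd
      obtain ⟨Q, hQ⟩ : ∃ Q : Sylow p G, Q ≠ P := by
        have : Nonempty {Q : Sylow p G // Q ≠ P} := by
          rw [← Nat.card_ne_zero.trans (and_iff_left inferInstance), hcardQ]; exact hp.ne_zero
        exact this.elim fun Q => ⟨Q.1, Q.2⟩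
      obtain ⟨c, hc⟩ := exists_smul_eq G P Q
      refine hinter Q hQ x (hle hx) ?_ hd
      have h1 : c⁻¹ * x * c ∈ K := by simpa using hK.conj_mem x hx c⁻¹
      have h2 : (c⁻¹ * x * c) • P = P := hle h1
      rw [mem_stabilizer_iff, ← hc]
      rw [mul_smul, mul_smul, inv_smul_eq_iff] at h2
      exact h2
    by_contra hg1
    have hgN : g ∈ Subgroup.normalizer ((P : Subgroup G) : Set G) :=
      Sylow.smul_eq_iff_mem_normalizer.1 (hle hg)
    have h1 : g * z * g⁻¹ * z⁻¹ ∈ (P : Subgroup G) :=
      mul_mem ((Subgroup.mem_normalizer_iff.1 hgN z).1 (mem_Ps.1 hz).1) (inv_mem (mem_Ps.1 hz).1)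
    have h2 : g * z * g⁻¹ * z⁻¹ ∈ K := by
      rw [show g * z * g⁻¹ * z⁻¹ = g * (z * g⁻¹ * z⁻¹) by group]
      exact mul_mem hg (hK.conj_mem _ (inv_mem hg) z)
    have h3 : g * z * g⁻¹ * z⁻¹ = 1 := by
      by_contra h
      exact hcopK _ h2 (dvd_of_eq (orderOf_mem hP (mem_Ps.2 ⟨h1, h⟩)).symm)
    rw [mul_inv_eq_one, mul_inv_eq_iff_eq_mul] at h3
    exact hcopK g hg (dvd_of_eq (orderOf_mem hP (mem_Ps.2 ⟨mem_P_of_comm hP hC hz h3, hg1⟩)).symm)
  haveI : FaithfulSMul G (Sylow p G) := by
    refine ⟨fun {g h} H => ?_⟩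
    set K := (MulAction.toPermHom G (Sylow p G)).ker with hK
    have hKbot := hkerG K inferInstance fun x hx => by
      rw [hK, MonoidHom.mem_ker] at hx
      exact congrArg (fun σ : Equiv.Perm (Sylow p G) => σ P) hx
    have h1 : g⁻¹ * h ∈ K := by
      rw [hK, MonoidHom.mem_ker]
      refine Equiv.ext fun Q => ?_
      show (g⁻¹ * h) • Q = Q
      rw [mul_smul, ← H Q, inv_smul_smul]
    rw [hKbot, Subgroup.mem_bot, inv_mul_eq_one] at h1
    exact h1
  have h2t : MulAction.IsMultiplyPretransitive G (Sylow p G) 2 := by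
    rw [MulAction.is_two_pretransitive_iff]
    intro a b c d hab hcd
    obtain ⟨g₁, hg₁⟩ := exists_smul_eq G a P
    obtain ⟨g₂, hg₂⟩ := exists_smul_eq G c P
    obtain ⟨u, hu, -⟩ := hreg (g₁ • b) (g₂ • d)
      (fun h => hab (smul_left_cancel g₁ (hg₁.trans h.symm)))
      (fun h => hcd (smul_left_cancel g₂ (hg₂.trans h.symm)))
    refine ⟨g₂⁻¹ * u * g₁, ?_, ?_⟩
    · rw [mul_smul, mul_smul, hg₁, show (u : G) • P = P from hPN u.2, inv_smul_eq_iff, hg₂]
    · rw [mul_smul, mul_smul, hu, inv_smul_smul]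
  have he2 : 2 ≤ e := two_le_relIndex hperf P hP he
  have hZ : Cfsg.IsZassenhausGroup G (Sylow p G) := by
    refine ⟨inferInstance, h2t, ?_, ?_, ?_⟩
    · intro g a b c hab hbc hac hga hgb hgc
      obtain ⟨g₁, rfl⟩ := exists_smul_eq G P a
      set w := g₁⁻¹ * g * g₁ with hw
      have hwfix : ∀ Q : Sylow p G, g • Q = Q → w • g₁⁻¹ • Q = g₁⁻¹ • Q := by
        intro Q hQ
        rw [hw, mul_smul, mul_smul, smul_inv_smul, hQ]
      have hwP : w • P = P := by simpa using hwfix _ hga
      set b' := g₁⁻¹ • b with hb'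
      set c' := g₁⁻¹ • c with hc'
      have hb : b' ≠ P := fun h => hab (by rw [← h, hb', smul_inv_smul])
      have hc : c' ≠ P := fun h => hac (by rw [← h, hc', smul_inv_smul])
      obtain ⟨u, hu, -⟩ := hreg b' c' hb hc
      have hu1 : (u : G) ≠ 1 := fun h => hbc (by
        rw [h, one_smul] at hu
        exact smul_left_cancel g₁⁻¹ hu)
      have hwN : w ∈ Subgroup.normalizer ((P : Subgroup G) : Set G) :=
        Sylow.smul_eq_iff_mem_normalizer.1 hwP
      have hcom : w⁻¹ * (u : G) * w * (u : G)⁻¹ = 1 := by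
        refine hfree _ (mul_mem ((Subgroup.mem_normalizer_iff''.1 hwN _).1 u.2) (inv_mem u.2)) c' hc ?_
        rw [mul_smul, mul_smul, mul_smul, ← hu, inv_smul_smul, hwfix b hgb, hu, inv_smul_eq_iff,
          hwfix c hgc]
      rw [mul_inv_eq_one] at hcom
      have hwP' : w ∈ (P : Subgroup G) := by
        refine mem_P_of_comm hP hC (mem_Ps.2 ⟨u.2, hu1⟩) ?_
        calc w * (u : G) = w * (w⁻¹ * u * w) := by rw [hcom]
          _ = u * w := by group
      have h1 := hfree w hwP' b' hb (hwfix b hgb)
      rw [hw] at h1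
      have h2 := congrArg (fun x => g₁ * x * g₁⁻¹) h1
      simpa [mul_assoc] using h2
    · have hne : Nontrivial {Q : Sylow p G // Q ≠ P} :=
        Finite.one_lt_card_iff_nontrivial.1 (by rw [hcardQ]; exact hp.one_lt)
      obtain ⟨⟨Q, hQ⟩, -⟩ := exists_pair_ne {Q : Sylow p G // Q ≠ P}
      set φ : stabilizer G P → {R : Sylow p G // R ≠ P} := fun g => ⟨(g : G) • Q, fun h =>
        hQ (smul_left_cancel (g : G) (h.trans g.2.symm))⟩ with hφ
      have hninj : ¬ Function.Injective φ := fun h => by
        have h1 := Nat.card_le_card_of_injective φ h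
        rw [hNcard, hcardQ] at h1
        have : p * 2 ≤ p * e := Nat.mul_le_mul_left p he2
        omega
      rw [Function.Injective] at hninj
      push Not at hninj
      obtain ⟨x, y, hxy, hne'⟩ := hninj
      have h1 : (x : G) • Q = (y : G) • Q := congrArg Subtype.val hxy
      refine ⟨(y : G)⁻¹ * x, fun h => hne' (Subtype.ext (inv_mul_eq_one.1 h).symm), P, Q, hQ.symm,
        ?_, ?_⟩
      · rw [mul_smul, show (x : G) • P = P from x.2, inv_smul_eq_iff]; exact y.2.symm
      · rw [mul_smul, h1, inv_smul_smul]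
    · intro K hK htrans
      by_contra hcon
      push Not at hcon
      haveI := hK
      haveI := htrans
      have hKcard : Nat.card K = p + 1 := by
        have h1 := MulAction.index_stabilizer_of_transitive (G := K) P
        rw [hcon P, Subgroup.index_bot, hn] at h1
        omega
      -- the product with `P` is normal with commutative quotient
      set H := K ⊔ (P : Subgroup G) with hH
      have hdec : ∀ g : G, ∃ k ∈ K, k * g ∈ Subgroup.normalizer ((P : Subgroup G) : Set G) := by
        intro g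
        obtain ⟨⟨k, hk⟩, hkg⟩ := exists_smul_eq K (g • P) P
        refine ⟨k, hk, Sylow.smul_eq_iff_mem_normalizer.1 ?_⟩
        rw [mul_smul]; exact hkg
      haveI hHn : H.Normal := by
        refine Subgroup.normalizer_eq_top_iff.1 ((Subgroup.eq_top_iff' _).2 fun g => ?_)
        obtain ⟨k, hk, hkg⟩ := hdec g
        have h1 : k ∈ Subgroup.normalizer (H : Set G) :=
          Subgroup.le_normalizer (Subgroup.mem_sup_left hk)
        have h2 : k * g ∈ Subgroup.normalizer (H : Set G) := by
          rw [Subgroup.mem_normalizer_iff_map_conj_eq, hH, Subgroup.map_sup]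
          congr 1
          · exact Subgroup.mem_normalizer_iff_map_conj_eq.1
              ((Subgroup.normalizer_eq_top (H := K)).symm ▸ Subgroup.mem_top (k * g))
          · exact Subgroup.mem_normalizer_iff_map_conj_eq.1 hkg
        have h3 := mul_mem (inv_mem h1) h2
        rwa [inv_mul_cancel_left] at h3
      obtain ⟨n0, hn0, hn0o⟩ := exists_order_e hP hC he
      have hgenq : ∀ q : G ⧸ H, q ∈ Subgroup.zpowers ((n0 : G) : G ⧸ H) := by
        intro q
        obtain ⟨g, rfl⟩ := QuotientGroup.mk_surjective q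
        obtain ⟨k, hk, hkg⟩ := hdec g
        have hkey : ∀ x ∈ Subgroup.normalizer ((P : Subgroup G) : Set G),
            ∃ i : ℤ, (n0 ^ i)⁻¹ * x ∈ (P : Subgroup G) := by
          intro x hx
          have hsub : (els (Subgroup.zpowers n0) ×ˢ els (P : Subgroup G)).image (fun q => q.1 * q.2) =
              els (Subgroup.normalizer ((P : Subgroup G) : Set G)) := by
            refine Finset.eq_of_subset_of_card_le ?_ ?_
            · intro y hy
              obtain ⟨⟨a, b⟩, hab, rfl⟩ := Finset.mem_image.1 hy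
              rw [Finset.mem_product, mem_els, mem_els] at hab
              exact mem_els.2 (mul_mem ((Subgroup.zpowers_le.2 hn0) hab.1)
                (Subgroup.le_normalizer hab.2))
            · rw [Finset.card_image_of_injOn, Finset.card_product, card_els, card_els, card_els,
                card_normalizer hP hC e he, Nat.card_zpowers, hn0o,
                show Nat.card (P : Subgroup G) = p from hP, mul_comm]
              rintro ⟨a, b⟩ hab ⟨c, d⟩ hcd h
              simp only [Finset.coe_product, Set.mem_prod, Finset.mem_coe, mem_els] at hab hcd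
              simp only at h
              have h1 : c⁻¹ * a = d * b⁻¹ := by
                calc c⁻¹ * a = c⁻¹ * (a * b) * b⁻¹ := by group
                  _ = _ := by rw [h]; group
              have hmem : c⁻¹ * a ∈ Subgroup.zpowers n0 := mul_mem (inv_mem hcd.1) hab.1
              have h2 : c⁻¹ * a = 1 := regular_mem_P hP hC (h1 ▸ mul_mem hcd.2 (inv_mem hab.2))
                fun hd => by
                  have h3 : p ∣ e := hd.trans (hn0o ▸ Nat.card_zpowers n0 ▸
                    Subgroup.orderOf_dvd_natCard _ hmem)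
                  have := Nat.le_of_dvd (by omega) h3
                  omega
              rw [h2] at h1
              exact Prod.ext (inv_mul_eq_one.1 h2).symm (mul_inv_eq_one.1 h1.symm).symm
          have hx' : x ∈ (els (Subgroup.zpowers n0) ×ˢ els (P : Subgroup G)).image
              (fun q => q.1 * q.2) := hsub ▸ mem_els.2 hx
          obtain ⟨⟨a, b⟩, hab, rfl⟩ := Finset.mem_image.1 hx'
          rw [Finset.mem_product, mem_els, mem_els] at hab
          obtain ⟨i, rfl⟩ := hab.1
          exact ⟨i, by simpa using hab.2⟩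
        obtain ⟨i, hi⟩ := hkey _ hkg
        refine ⟨i, ?_⟩
        show ((n0 : G) : G ⧸ H) ^ i = (g : G ⧸ H)
        rw [← QuotientGroup.mk_zpow, QuotientGroup.eq]
        have h4 : (n0 ^ i)⁻¹ * g = ((n0 ^ i)⁻¹ * k⁻¹ * n0 ^ i) * ((n0 ^ i)⁻¹ * (k * g)) := by group
        rw [h4]
        refine mul_mem (Subgroup.mem_sup_left ?_) (Subgroup.mem_sup_right hi)
        have h5 := hK.conj_mem k⁻¹ (inv_mem hk) (n0 ^ i)⁻¹
        simpa using h5
      haveI : IsCyclic (G ⧸ H) := ⟨⟨_, hgenq⟩⟩
      letI : CommGroup (G ⧸ H) := IsCyclic.commGroup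
      have hHtop : H = ⊤ := by
        rw [← QuotientGroup.ker_mk' H]
        exact eq_top_iff.2 (hperf ▸ Abelianization.commutator_subset_ker (QuotientGroup.mk' H))
      have hcardH : Nat.card H ≤ (p + 1) * p := by
        have h1 : ((H : Subgroup G) : Set G) = (K : Set G) * ((P : Subgroup G) : Set G) :=
          Subgroup.normal_mul K _
        have h2 : Nat.card ((K : Set G) * ((P : Subgroup G) : Set G) : Set G) ≤
            Nat.card (K : Set G) * Nat.card ((P : Subgroup G) : Set G) := Set.natCard_mul_le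
        rw [← h1] at h2
        simp only [SetLike.coe_sort_coe] at h2
        rwa [hKcard, show Nat.card (P : Subgroup G) = p from hP] at h2
      rw [hHtop, Subgroup.card_top, hG] at hcardH
      have : (1 + 1 * p) * (p * 2) ≤ (1 + 1 * p) * (p * e) :=
        Nat.mul_le_mul_left _ (Nat.mul_le_mul_left _ he2)
      nlinarith
  have hFn : ((P : Subgroup G).subgroupOf (stabilizer G P)).Normal := by
    rw [P.stabilizer_eq_normalizer]; exact Subgroup.normal_in_normalizer
  rcases Cfsg.Agent.S0731.result hZ P (P : Subgroup G) hPN hFn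
    (isMulCommutative_of_card P hP) hreg with ⟨h3t, hsharp⟩ | ⟨K, hKF, hKfin, hKc, hiso⟩
  · exfalso
    haveI := h3t
    haveI : MulAction.IsPretransitive G (Fin 3 ↪ Sylow p G) := h3t
    haveI : Nonempty (Fin 3 ↪ Sylow p G) := by
      letI := Fintype.ofFinite (Sylow p G)
      refine Function.Embedding.nonempty_of_card_le ?_
      rw [Fintype.card_fin, ← Nat.card_eq_fintype_card, hn]
      omega
    obtain ⟨t⟩ := ‹Nonempty (Fin 3 ↪ Sylow p G)›
    have h1 := MulAction.index_stabilizer_of_transitive (G := G) t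
    rw [hsharp t, Subgroup.index_bot] at h1
    letI := Fintype.ofFinite (Sylow p G)
    rw [Nat.card_eq_fintype_card (α := Fin 3 ↪ Sylow p G), Fintype.card_embedding_eq, Fintype.card_fin,
      ← Nat.card_eq_fintype_card (α := Sylow p G), hn, hG] at h1
    simp only [Nat.descFactorial, one_mul] at h1
    obtain ⟨q, rfl⟩ : ∃ q, e = q := ⟨e, rfl⟩
    subst hpe
    simp only [show 1 + (2 * e + 1) - 2 = 2 * e from by omega,
      show 1 + (2 * e + 1) - 1 = 2 * e + 1 from by omega, Nat.sub_zero, mul_one] at h1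
    nlinarith
  · refine Or.inl ⟨K, hKF, hKfin, ?_, by omega, hiso⟩
    obtain ⟨iso⟩ := hiso
    have hodd : Odd (Nat.card K) := by
      rw [Nat.card_eq_fintype_card, Nat.odd_iff]
      exact FiniteField.odd_card_of_char_ne_two hKc
    have h1 := PSLCard.card_PSL2_odd hodd
    rw [← Nat.card_congr iso.toEquiv, hG] at h1
    rw [← Nat.card_eq_fintype_card]
    set q := Nat.card K with hq
    have hq2 : 2 ≤ q := Finite.one_lt_card
    have h2 : 2 * Nat.card G = p * (p ^ 2 - 1) := by
      rw [hG, ← hpe]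
      have : (2 * e + 1) ^ 2 - 1 = 4 * e * (e + 1) := by
        have : (2 * e + 1) ^ 2 = 4 * e * (e + 1) + 1 := by ring
        omega
      rw [this]; ring
    rw [hG] at h2
    have h3 : 2 ∣ q * (q ^ 2 - 1) := by
      obtain ⟨r, hr⟩ := hodd
      refine dvd_mul_of_dvd_right ⟨2 * r * (r + 1), ?_⟩ _
      have : q ^ 2 = 2 * (2 * r * (r + 1)) + 1 := by rw [hr]; ring
      omega
    rw [h1, Nat.mul_div_cancel' h3] at h2
    rcases lt_trichotomy q p with hlt | heq | hgt
    · exfalso
      have : q * (q ^ 2 - 1) < p * (p ^ 2 - 1) :=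
        Nat.mul_lt_mul_of_lt_of_le hlt (Nat.sub_le_sub_right (Nat.pow_le_pow_left hlt.le 2) 1)
          (by have : 2 ^ 2 ≤ p ^ 2 := Nat.pow_le_pow_left (by omega) 2; omega)
      omega
    · exact heq
    · exfalso
      have : p * (p ^ 2 - 1) < q * (q ^ 2 - 1) :=
        Nat.mul_lt_mul_of_lt_of_le hgt (Nat.sub_le_sub_right (Nat.pow_le_pow_left hgt.le 2) 1)
          (by have : 2 ^ 2 ≤ q ^ 2 := Nat.pow_le_pow_left (by omega) 2; omega)
      omega

/-- **Brauer–Reynolds**: few Sylow subgroups. -/
theorem recognize (hperf : commutator G = ⊤) {p : ℕ} [Fact p.Prime] (P : Sylow p G)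
    (hP : Nat.card P = p)
    (hC : Subgroup.centralizer ((P : Subgroup G) : Set G) = (P : Subgroup G)) {n : ℕ}
    (hn : Nat.card (Sylow p G) = 1 + n * p) (hsmall : 2 * n ≤ p + 2) : Concl G p := by
  haveI := Fintype.ofFinite G
  have hp := (Fact.out : p.Prime)
  obtain ⟨e, he⟩ : ∃ e, (Subgroup.centralizer ((P : Subgroup G) : Set G)).relIndex
      (Subgroup.normalizer ((P : Subgroup G) : Set G)) = e := ⟨_, rfl⟩
  have he2 := two_le_relIndex hperf P hP he
  have hn1 : 1 ≤ n := by
    by_contra hc
    have h0 : n = 0 := by omega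
    rw [h0, zero_mul, add_zero, P.card_eq_index_normalizer, Subgroup.index_eq_one] at hn
    haveI hPn : (P : Subgroup G).Normal := Subgroup.normalizer_eq_top_iff.1 hn
    haveI : IsCyclic (P : Subgroup G) := isCyclic_of_prime_card (p := p) hP
    haveI : IsCyclic (MulAut (P : Subgroup G)) := by
      have hPc : Nat.card (P : Subgroup G) = p := hP
      haveI : IsCyclic (ZMod (Nat.card (P : Subgroup G)))ˣ := by rw [hPc]; infer_instance
      exact isCyclic_of_surjective (IsCyclic.mulAutMulEquiv (P : Subgroup G)).symm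
        (IsCyclic.mulAutMulEquiv (P : Subgroup G)).symm.surjective
    letI : CommGroup (MulAut (P : Subgroup G)) := IsCyclic.commGroup
    have hcent : ∀ g : G, g ∈ Subgroup.centralizer ((P : Subgroup G) : Set G) := by
      intro g
      rw [Subgroup.mem_centralizer_iff]
      intro y hy
      have h1 := perfect_hom_eq_one hperf
        (MulAut.conjNormal (H := (P : Subgroup G)) : G →* MulAut (P : Subgroup G)) g
      have h2 := congrArg Subtype.val (DFunLike.congr_fun h1 (⟨y, hy⟩ : (P : Subgroup G)))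
      rw [MulAut.conjNormal_apply, MulAut.one_apply, mul_inv_eq_iff_eq_mul] at h2
      exact h2.symm
    rw [Subgroup.relIndex_eq_one.2 (fun g _ => hcent g)] at he
    omega
  obtain ⟨X, Y, a, ε, B⟩ := exists_blk hP e he
  have S : Setup P e n X Y a ε := ⟨B, hperf, hP, hC, he, hn, hsmall, hn1, he2⟩
  rcases dichotomy S with ⟨rfl, hpe⟩ | ⟨h4, j, hj, hexp, hT⟩
  · exact psl_of_p_add_one hperf (by omega) P hP hC he hn hpe
  · haveI : Fact (Nat.Prime 2) := ⟨Nat.prime_two⟩
    set T : Sylow 2 G := default
    obtain ⟨hTc, hTn⟩ := hT T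
    have hnc : ¬ IsCyclic (T : Subgroup G) := by
      intro hcyc
      obtain ⟨g, hg⟩ := hcyc.exists_generator
      have hgo : orderOf (g : G) = p - 1 := by
        rw [Subgroup.orderOf_coe, orderOf_eq_card_of_forall_mem_zpowers hg]; exact hTc
      have hw : orderOf ((g : G) ^ ((p - 1) / 2)) = 2 := by
        have h2 : 2 ∣ p - 1 := hj ▸ dvd_pow_self 2 (by
          rintro rfl
          rw [pow_zero] at hj; omega)
        rw [← hgo]
        exact orderOf_pow_orderOf_div (orderOf_pos _).ne' (hgo.symm ▸ h2)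
      have h3 := hexp _ hw (g : G) (Subgroup.mem_centralizer_singleton_iff.2
        ((Commute.refl (g : G)).pow_right _).eq)
      have h5 := Nat.le_of_dvd two_pos (hgo ▸ orderOf_dvd_of_pow_eq_one h3)
      omega
    obtain ⟨F, hF, hFf, hFc, hiso⟩ := Cfsg.Agent.S1230.result T hnc hTn fun t ht =>
      ⟨⟨⟨fun a b => Subtype.ext (by
        have ha := hexp t ht _ a.2
        have hb := hexp t ht _ b.2
        have hab := hexp t ht _ (mul_mem a.2 b.2)
        show (a : G) * b = b * a
        have e1 : ∀ {x : G}, x ^ 2 = 1 → x⁻¹ = x := fun {x} h => inv_eq_of_mul_eq_one_left (by rwa [← sq])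
        rw [← e1 hab, mul_inv_rev, e1 ha, e1 hb])⟩⟩, hexp t ht⟩
    exact Or.inr ⟨j, F, hF, hFf, by rw [hFc, hTc, hj], by omega, by omega, hiso⟩

end Cfsg.Agent.BrauerReynolds7
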