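import Cfsg.Agent.Lib.BrauerForm63Main
import Cfsg.Agent.Lib.BrauerReynolds7Recognition

/-!
# Recognition of `PSL₂(p)` and `PSL₂(p - 1)` from the number of Sylow subgroups
-/

set_option autoImplicit false

attribute [local instance] Classical.propDecidable

open MulAction
open scoped Pointwise

namespace Cfsg.Agent.BrauerForm63

open Cfsg Cfsg.Agent.BrauerReynolds7 Cfsg.Agent.DefectOneSign7

universe u

variable {G : Type u} [Group G] [Finite G]

/-- A perfect group whose number of Sylow subgroups is not of Brauer's form. -/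
theorem recognize (hperf : commutator G = ⊤) {p : ℕ} [Fact p.Prime] (P : Sylow p G)
    (hP : Nat.card P = p)
    (hC : Subgroup.centralizer ((P : Subgroup G) : Set G) = (P : Subgroup G)) {n : ℕ}
    (hn : Nat.card (Sylow p G) = 1 + n * p) (hN : NoForm p n) : Concl G p := by
  haveI := Fintype.ofFinite G
  have hp := (Fact.out : p.Prime)
  obtain ⟨e, he⟩ : ∃ e, (Subgroup.centralizer ((P : Subgroup G) : Set G)).relIndex
      (Subgroup.normalizer ((P : Subgroup G) : Set G)) = e := ⟨_, rfl⟩
  have he2 := two_le_relIndex hperf P hP he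
  have hn1 : 1 ≤ n := by
    by_contra hc
    have h0 : n = 0 := by omega
    rw [h0, zero_mul, add_zero, P.card_eq_index_normalizer, Subgroup.index_eq_one] at hn
    haveI hPn : (P : Subgroup G).Normal := Subgroup.normalizer_eq_top_iff.1 hn
    haveI : IsCyclic (P : Subgroup G) := isCyclic_of_prime_card (p := p) hP
    haveI : IsCyclic (MulAut (P : Subgroup G)) := by
      have hPc : Nat.card (P : Subgroup G) = p := hP
      haveI : IsCyclic (ZMod (Nat.card (P : Subgroup G)))ˣ := by rw [hPc]; infer_instance
      exact isCyclic_of_surjective (IsCyclic.mulAutMulEquiv (P : Subgroup G)).symm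
        (IsCyclic.mulAutMulEquiv (P : Subgroup G)).symm.surjective
    letI : CommGroup (MulAut (P : Subgroup G)) := IsCyclic.commGroup
    have hcent : ∀ g : G, g ∈ Subgroup.centralizer ((P : Subgroup G) : Set G) := by
      intro g
      rw [Subgroup.mem_centralizer_iff]
      intro y hy
      have h1 := perfect_hom_eq_one hperf
        (MulAut.conjNormal (H := (P : Subgroup G)) : G →* MulAut (P : Subgroup G)) g
      have h2 := congrArg Subtype.val (DFunLike.congr_fun h1 (⟨y, hy⟩ : (P : Subgroup G)))
      rw [MulAut.conjNormal_apply, MulAut.one_apply, mul_inv_eq_iff_eq_mul] at h2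
      exact h2.symm
    rw [Subgroup.relIndex_eq_one.2 (fun g _ => hcent g)] at he
    omega
  obtain ⟨X, Y, a, ε, B⟩ := exists_blk hP e he
  have S : Setup P e n X Y a ε := ⟨B, hperf, hP, hC, he, hn, hN, hn1, he2⟩
  rcases dichotomy S with ⟨rfl, hpe⟩ | ⟨h4, j, hj, hexp, hT⟩
  · exact psl_of_p_add_one hperf (by omega) P hP hC he hn hpe
  · haveI : Fact (Nat.Prime 2) := ⟨Nat.prime_two⟩
    set T : Sylow 2 G := default
    obtain ⟨hTc, hTn⟩ := hT T
    have hnc : ¬ IsCyclic (T : Subgroup G) := by
      intro hcyc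
      obtain ⟨g, hg⟩ := hcyc.exists_generator
      have hgo : orderOf (g : G) = p - 1 := by
        rw [Subgroup.orderOf_coe, orderOf_eq_card_of_forall_mem_zpowers hg]; exact hTc
      have hw : orderOf ((g : G) ^ ((p - 1) / 2)) = 2 := by
        have h2 : 2 ∣ p - 1 := hj ▸ dvd_pow_self 2 (by
          rintro rfl
          rw [pow_zero] at hj; omega)
        rw [← hgo]
        exact orderOf_pow_orderOf_div (orderOf_pos _).ne' (hgo.symm ▸ h2)
      have h3 := hexp _ hw (g : G) (Subgroup.mem_centralizer_singleton_iff.2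
        ((Commute.refl (g : G)).pow_right _).eq)
      have h5 := Nat.le_of_dvd two_pos (hgo ▸ orderOf_dvd_of_pow_eq_one h3)
      omega
    obtain ⟨F, hF, hFf, hFc, hiso⟩ := Cfsg.Agent.S1230.result T hnc hTn fun t ht =>
      ⟨⟨⟨fun a b => Subtype.ext (by
        have ha := hexp t ht _ a.2
        have hb := hexp t ht _ b.2
        have hab := hexp t ht _ (mul_mem a.2 b.2)
        show (a : G) * b = b * a
        have e1 : ∀ {x : G}, x ^ 2 = 1 → x⁻¹ = x := fun {x} h => inv_eq_of_mul_eq_one_left (by rwa [← sq])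
        rw [← e1 hab, mul_inv_rev, e1 ha, e1 hb])⟩⟩, hexp t ht⟩
    exact Or.inr ⟨j, F, hF, hFf, by rw [hFc, hTc, hj], by omega, by omega, hiso⟩

end Cfsg.Agent.BrauerForm63
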