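import Cfsg.Agent.Lib.BrauerForm63Count
import Cfsg.Agent.Lib.BrauerReynolds7Fixed
import Cfsg.Agent.Lib.CharBasicInt

/-!
# The Sylow subgroup is self-centralizing

In a perfect group without nontrivial normal `p'`-subgroups whose number of Sylow subgroups of order
`p` is not of Brauer's form, the principal block has a character of degree `p - 1`, and this forces
the Sylow subgroup to be self-centralizing.
-/

set_option autoImplicit false

open Finset

namespace Cfsg.Agent.BrauerForm63

open Cfsg Cfsg.Agent.BrauerReynolds7 Cfsg.Agent.CharBasic Cfsg.Agent.CharBasicOrth Cfsg.Agent.DefectOneSign7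
open Cfsg.Agent.BlockPrincipal81

attribute [local instance] Classical.propDecidable

universe u

variable {G : Type u} [Group G] [Fintype G] {p : ℕ} [Fact p.Prime] {P : Sylow p G}

/-- A regular element centralizing `P` which a representation non-trivial on `P` does not separate
from `1` is trivial when there are no normal `p'`-subgroups. -/
theorem eq_one_of_value (hP : Nat.card P = p)
    (hcore : ∀ K : Subgroup G, K.Normal → ¬ p ∣ Nat.card K → K = ⊥) {χ : G → ℂ}
    (hχ : IsCharacter G χ) (hdeg : χ 1 = ((p - 1 : ℕ) : ℂ)) (hval : ∀ y ∈ Ps P, χ y = -1) {k : G}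
    (hyk : ∀ y ∈ Ps P, χ (y * k) = -1) : k = 1 := by
  have hp := (Fact.out : p.Prime)
  obtain ⟨d, ρ, rfl⟩ := hχ
  obtain ⟨W, hW, hWs⟩ := exists_twist ρ (P : Subgroup G) 1
  simp only [MonoidHom.one_apply, inv_one, dite_eq_ite, ite_self, Units.val_one, mul_one] at hWs
  rw [sum_els_P, hdeg, Finset.sum_congr rfl hval, Finset.sum_const, card_Ps hP, nsmul_eq_mul,
    show Nat.card (P : Subgroup G) = p from hP] at hWs
  have h0 : (p : ℂ) * (Module.finrank ℂ W : ℂ) = 0 := by rw [← hWs]; ring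
  have hWbot : W = ⊥ := Submodule.finrank_eq_zero.1 (by
    exact_mod_cast (mul_eq_zero.1 h0).resolve_left (Nat.cast_ne_zero.2 hp.ne_zero))
  have hT : ∑ y ∈ els (P : Subgroup G), ρ y = 0 := by
    refine LinearMap.ext fun v => ?_
    have h : (∑ y ∈ els (P : Subgroup G), ρ y) v ∈ W := by
      rw [hW]
      intro x
      simp only [MonoidHom.one_apply, Units.val_one, one_smul, LinearMap.sum_apply, map_sum]
      refine Finset.sum_nbij' (fun y => (x : G) * y) (fun y => (x : G)⁻¹ * y) ?_ ?_ ?_ ?_ ?_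
      · intro y hy; exact mem_els.2 (mul_mem x.2 (mem_els.1 hy))
      · intro y hy; exact mem_els.2 (mul_mem (inv_mem x.2) (mem_els.1 hy))
      · intro y _; simp
      · intro y _; simp
      · intro y _; rw [map_mul, Module.End.mul_apply]
    rwa [hWbot, Submodule.mem_bot] at h
  have hsum : ∑ y ∈ els (P : Subgroup G), ρ.character (y * k) = 0 := by
    have h : LinearMap.trace ℂ _ ((∑ y ∈ els (P : Subgroup G), ρ y) * ρ k) = 0 := by
      rw [hT, zero_mul, map_zero]
    rw [Finset.sum_mul, map_sum] at h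
    rw [← h]
    refine Finset.sum_congr rfl fun y _ => ?_
    rw [Representation.character, map_mul]
  rw [sum_els_P, one_mul, Finset.sum_congr rfl hyk, Finset.sum_const, card_Ps hP,
    nsmul_eq_mul] at hsum
  have hk : ρ.character k = (Module.finrank ℂ (Fin d → ℂ) : ℂ) := by
    rw [← Representation.char_one ρ, hdeg]
    linear_combination hsum
  have hker := eq_one_of_character_eq_finrank ρ k hk
  let f : G →* Module.End ℂ (Fin d → ℂ) := ρ
  suffices h : f.ker = ⊥ by
    have hmem : k ∈ f.ker := MonoidHom.mem_ker.2 hker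
    rwa [h, Subgroup.mem_bot] at hmem
  refine hcore _ inferInstance fun hd => ?_
  obtain ⟨⟨y, hy⟩, hyo⟩ := exists_prime_orderOf_dvd_card' p hd
  rw [Subgroup.orderOf_mk] at hyo
  obtain ⟨Q, hQ⟩ := (IsPGroup.of_card (n := 1) (G := Subgroup.zpowers y)
    (by rw [Nat.card_zpowers, hyo, pow_one])).exists_le_sylow
  obtain ⟨g, hg⟩ := MulAction.exists_smul_eq G Q P
  have hyP : g * y * g⁻¹ ∈ (P : Subgroup G) := by
    rw [← hg, Sylow.coe_subgroup_smul]
    exact Subgroup.mem_map_of_mem _ (hQ (Subgroup.mem_zpowers y))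
  have hmem : g * y * g⁻¹ ∈ f.ker := (inferInstance : f.ker.Normal).conj_mem y hy g
  have hne : g * y * g⁻¹ ≠ 1 := fun h => by
    rw [conj_eq_one_iff] at h
    rw [h, orderOf_one] at hyo
    exact hp.ne_one hyo.symm
  have h2 := hval _ (mem_Ps.2 ⟨hyP, hne⟩)
  rw [Representation.character, show ρ (g * y * g⁻¹) = 1 from MonoidHom.mem_ker.1 hmem] at h2
  have h3 := hdeg
  rw [Representation.character, map_one] at h3
  rw [h3] at h2
  have h4 : (((p - 1 : ℕ) : ℤ) : ℂ) = ((-1 : ℤ) : ℂ) := by push_cast; exact h2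
  have h5 : ((p - 1 : ℕ) : ℤ) = -1 := Int.cast_injective h4
  omega

theorem isIntegral_index_mul (χ : IrrCharacter G) (g : G) :
    IsIntegral ℤ (((Subgroup.centralizer ({g} : Set G)).index : ℂ) * (χ : G → ℂ) g /
      (charDegree (χ : G → ℂ) : ℂ)) := by
  rw [← ClassAlgebraVal.apply_one_eq_charDegree χ]
  obtain ⟨d, ρ, hirr, hρ⟩ := χ.2
  rw [← hρ, Representation.char_one]
  exact CharBasicInt.isIntegral_classSum ρ g

theorem centralizer_index (hP : Nat.card P = p) {e n : ℕ}
    (he : (Subgroup.centralizer ((P : Subgroup G) : Set G)).relIndex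
      (Subgroup.normalizer ((P : Subgroup G) : Set G)) = e)
    (hn : Nat.card (Sylow p G) = 1 + n * p) {z : G} (hz : z ∈ Ps P) :
    (Subgroup.centralizer ({z} : Set G)).index = e * (1 + n * p) := by
  rw [centralizer_singleton_eq P hP (mem_Ps.1 hz).1 (mem_Ps.1 hz).2, ← he, ← hn,
    P.card_eq_index_normalizer]
  exact (Subgroup.relIndex_mul_index (Subgroup.centralizer_le_normalizer _)).symm

variable {e n : ℕ} {X Y : Finset (IrrCharacter G)} {a : IrrCharacter G → ℤ} {ε : ℤ}

/-- The principal block has a character of degree `p - 1` and sign `-1`. -/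
theorem exists_pred (hperf : commutator G = ⊤) (hP : Nat.card P = p) (hN : NoForm p n)
    (he : (Subgroup.centralizer ((P : Subgroup G) : Set G)).relIndex
      (Subgroup.normalizer ((P : Subgroup G) : Set G)) = e)
    (hn : Nat.card (Sylow p G) = 1 + n * p) (hn1 : 1 ≤ n) (he2 : 2 ≤ e) (B : Blk P e X Y a ε) :
    ∃ χ ∈ X, a χ = -1 ∧ charDegree (χ : G → ℂ) = p - 1 := by
  by_contra hcon
  push Not at hcon
  have hp := (Fact.out : p.Prime)
  have hep := DefectOneShape7.index_dvd hP e he
  have hp2 := hp.two_le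
  have hep1 : e ≤ p - 1 := Nat.le_of_dvd (by omega) hep
  set N := 1 + n * p with hNdef
  have hN3 : 3 ≤ N := by nlinarith
  obtain ⟨z, hz⟩ := exists_mem_Ps hP
  have hidx := centralizer_index hP he hn hz
  have hdeg0 : ∀ χ : IrrCharacter G, charDegree (χ : G → ℂ) ≠ 0 := fun χ =>
    (ClassAlgebraVal.charDegree_pos χ).ne'
  have hdvd : ∀ χ ∈ X, charDegree (χ : G → ℂ) ∣ e * N := by
    intro χ hχ
    refine CharBasicInt.dvd_of_isIntegral_div (hdeg0 χ) ?_
    have h := isIntegral_index_mul χ z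
    rw [hidx, B.valX χ hχ z hz] at h
    rcases B.signX χ hχ with h1 | h1
    · rw [h1, Int.cast_one, mul_one] at h; exact h
    · rw [h1, Int.cast_neg, Int.cast_one, mul_neg_one, neg_div] at h; exact IsIntegral.neg_iff.1 h
  have hone : charDegree (oneChar G : G → ℂ) = 1 := by
    have h := ClassAlgebraVal.apply_one_eq_charDegree (oneChar G)
    rw [show (oneChar G : G → ℂ) 1 = 1 from rfl] at h
    exact_mod_cast h.symm
  have hplus : ∀ χ ∈ X, χ ≠ oneChar G → a χ = 1 → charDegree (χ : G → ℂ) = N := fun χ hχ h1 ha =>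
    ((hN.eq_of_one hp (ha ▸ B.congrX χ hχ) (dvd_R hep (hdvd χ hχ))).resolve_left
      fun h => h1 (eq_oneChar_of_degree_one hperf h))
  have hminus : ∀ χ ∈ X, a χ = -1 → charDegree (χ : G → ℂ) = (p - 1) * N := fun χ hχ ha =>
    (hN.eq_of_neg_one hp (ha ▸ B.congrX χ hχ) (dvd_R hep (hdvd χ hχ))).resolve_left (hcon χ hχ ha)
  obtain ⟨η, hη⟩ := Y_nonempty B
  set D := charDegree (η : G → ℂ) with hDdef
  have hD0 : D ≠ 0 := hdeg0 η
  have h1 : ε * (D : ℤ) = ∑ χ ∈ X, a χ * (charDegree (χ : G → ℂ) : ℤ) := by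
    have h := B.regular η hη 1 (by rw [orderOf_one, Nat.dvd_one]; exact hp.ne_one)
    simp only [ClassAlgebraVal.apply_one_eq_charDegree] at h
    refine Int.cast_injective (α := ℂ) ?_
    push_cast
    exact h
  have hDdvd : D ∣ e * N := by
    refine CharBasicInt.dvd_of_isIntegral_div hD0 ?_
    have hint : IsIntegral ℤ (∑ θ ∈ Y,
        ((Subgroup.centralizer ({z} : Set G)).index : ℂ) * (θ : G → ℂ) z / (D : ℂ)) := by
      refine IsIntegral.sum _ fun θ hθ => ?_
      have hD : (D : ℂ) = (charDegree (θ : G → ℂ) : ℂ) := by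
        have h := B.agree η hη θ hθ 1 (by rw [orderOf_one, Nat.dvd_one]; exact hp.ne_one)
        rwa [ClassAlgebraVal.apply_one_eq_charDegree, ClassAlgebraVal.apply_one_eq_charDegree] at h
      rw [hD]
      exact isIntegral_index_mul θ z
    rw [← Finset.sum_div, ← Finset.mul_sum, B.sumY z hz, hidx] at hint
    rcases B.sign with h | h
    · rw [h, Int.cast_one, mul_neg_one, neg_div] at hint; exact IsIntegral.neg_iff.1 hint
    · rw [h, Int.cast_neg, Int.cast_one, neg_neg, mul_one] at hint; exact hint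
  rw [← Finset.add_sum_erase _ _ B.one_mem, B.a_one, hone] at h1
  by_cases hm : ∃ χ₀ ∈ X, a χ₀ = -1
  · obtain ⟨χ₀, hχ₀, ha₀⟩ := hm
    have he' : e = p - 1 := by
      have h2 := hdvd χ₀ hχ₀
      rw [hminus χ₀ hχ₀ ha₀] at h2
      exact le_antisymm hep1 (Nat.le_of_dvd (by omega)
        (Nat.dvd_of_mul_dvd_mul_right (by omega) h2))
    have hne : χ₀ ≠ oneChar G := fun h => by rw [h, B.a_one] at ha₀; exact absurd ha₀ (by norm_num)
    rw [← Finset.add_sum_erase _ _ (Finset.mem_erase.2 ⟨hne, hχ₀⟩), ha₀, hminus χ₀ hχ₀ ha₀] at h1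
    have h3 : ∑ χ ∈ (X.erase (oneChar G)).erase χ₀, a χ * (charDegree (χ : G → ℂ) : ℤ) ≤
        (((X.erase (oneChar G)).erase χ₀).card : ℤ) * N := by
      rw [← nsmul_eq_mul]
      refine Finset.sum_le_card_nsmul _ _ _ fun χ hχ => ?_
      have hχX := Finset.mem_of_mem_erase (Finset.mem_of_mem_erase hχ)
      rcases B.signX χ hχX with h | h
      · rw [h, one_mul, hplus χ hχX (Finset.ne_of_mem_erase (Finset.mem_of_mem_erase hχ)) h]
      · rw [h]; have := Int.natCast_nonneg (charDegree (χ : G → ℂ)); omega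
    rw [Finset.card_erase_of_mem (Finset.mem_erase.2 ⟨hne, hχ₀⟩),
      Finset.card_erase_of_mem B.one_mem, B.cardX] at h3
    have hc : (((e - 1 - 1 : ℕ)) : ℤ) = (p : ℤ) - 3 := by omega
    rw [hc] at h3
    push_cast [Nat.cast_sub hp.one_le] at h1
    have hNz : (3 : ℤ) ≤ N := by exact_mod_cast hN3
    have h4 : ε * (D : ℤ) ≤ 1 - 2 * (N : ℤ) := by linarith
    have hε : ε = -1 := B.sign.resolve_left fun h => by
      rw [h, one_mul] at h4; linarith [Int.natCast_nonneg D]
    rw [hε] at h4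
    have hD1 : (D : ℤ) ≡ 1 [ZMOD p] := by
      refine (B.congrY η hη).trans (Int.ModEq.symm <| Int.modEq_iff_dvd.2 ⟨-1, ?_⟩)
      rw [hε, he']
      push_cast [Nat.cast_sub hp.one_le]
      ring
    rcases hN.eq_of_one hp hD1 (dvd_R hep hDdvd) with h | h <;> rw [h] at h4 <;> push_cast at h4 <;> omega
  · push Not at hm
    have hall : ∀ χ ∈ X, a χ = 1 := fun χ hχ => (B.signX χ hχ).resolve_right (hm χ hχ)
    rw [Finset.sum_congr rfl (g := fun _ => (N : ℤ)) fun χ hχ => by
        rw [hall χ (Finset.mem_of_mem_erase hχ), one_mul, hplus χ (Finset.mem_of_mem_erase hχ)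
          (Finset.ne_of_mem_erase hχ) (hall χ (Finset.mem_of_mem_erase hχ))],
      Finset.sum_const, Finset.card_erase_of_mem B.one_mem, B.cardX, nsmul_eq_mul] at h1
    have hε : ε = 1 := B.sign.resolve_right fun h => by
      rw [h] at h1
      have : (0 : ℤ) ≤ ((e - 1 : ℕ) : ℤ) * N := by positivity
      push_cast at h1
      linarith [Int.natCast_nonneg D]
    rw [hε, one_mul] at h1
    have h2 : D = 1 + (e - 1) * N := by exact_mod_cast h1
    obtain ⟨g, hg⟩ := hDdvd
    obtain ⟨c, rfl⟩ : ∃ c, e = c + 2 := ⟨e - 2, by omega⟩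
    rw [h2, show c + 2 - 1 = c + 1 by omega] at hg
    rcases g with _ | _ | g
    · nlinarith
    · nlinarith
    · nlinarith [Nat.zero_le (g * ((c + 1) * N))]

/-- The Sylow subgroup is self-centralizing. -/
theorem self_centralizing (hperf : commutator G = ⊤) (hP : Nat.card P = p) (hN : NoForm p n)
    (hcore : ∀ K : Subgroup G, K.Normal → ¬ p ∣ Nat.card K → K = ⊥)
    (he : (Subgroup.centralizer ((P : Subgroup G) : Set G)).relIndex
      (Subgroup.normalizer ((P : Subgroup G) : Set G)) = e)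
    (hn : Nat.card (Sylow p G) = 1 + n * p) (hn1 : 1 ≤ n) (he2 : 2 ≤ e) :
    Subgroup.centralizer ((P : Subgroup G) : Set G) = (P : Subgroup G) := by
  obtain ⟨X, Y, a, ε, B⟩ := exists_blk hP e he
  obtain ⟨χ, hχ, ha, hdeg⟩ := exists_pred hperf hP hN he hn hn1 he2 B
  obtain ⟨U, -, hUc, hUmem⟩ := exists_regular_part P hP
  have hU : Nat.card U = 1 := by
    rw [Subgroup.card_eq_one, eq_bot_iff]
    intro c hc
    obtain ⟨hcC, hcr⟩ := (hUmem c).1 hc
    refine Subgroup.mem_bot.2 (eq_one_of_value hP hcore (isCharacter_of_isIrrCharacter χ.2) ?_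
      (fun y hy => ?_) (fun y hy => ?_))
    · rw [ClassAlgebraVal.apply_one_eq_charDegree, hdeg]
    · rw [B.valX χ hχ y hy, ha]; norm_num
    · rw [B.valXC χ hχ y hy c hcC hcr, ha]; norm_num
  haveI := isMulCommutative_of_card P hP
  refine (Subgroup.eq_of_le_of_card_ge (Subgroup.le_centralizer (P : Subgroup G)) ?_).symm
  rw [← hUc, hU, one_mul]; exact hP.ge

end Cfsg.Agent.BrauerForm63
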