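import Cfsg.Agent.Lib.BrauerPairs81Induced
import Mathlib.NumberTheory.Basic
import Mathlib.GroupTheory.SpecificGroups.Cyclic

/-!
The inertial group of a block with cyclic defect group.
-/

namespace Cfsg.Agent.BrauerPairs81Cyclic

open Cfsg Cfsg.Agent.BrauerPairs81Base Cfsg.Agent.BrauerPairs81Pairs
open Cfsg.Agent.BrauerPairs81Conj Cfsg.Agent.BrauerPairs81Local Cfsg.Agent.BrauerPairs81Fusion
open Cfsg.Agent.BrauerPairs81Nilpotent

attribute [local instance] Classical.propDecidable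

set_option linter.unusedSectionVars false

variable {p : ℕ} [Fact p.Prime] {M : Ideal AlgInt} {G : Type*} [Group G] [Fintype G]

/-- A `p`-regular element normalising a cyclic `p`-group and fixing one of its elements other than
`1` centralises it. -/
theorem mem_cen_of_fix {P : Subgroup G} (hP : IsPGroup p P) (hcyc : IsCyclic P) {w : G}
    (hw : w ∈ Subgroup.normalizer (P : Set G)) (hreg : IsPRegular p w) {x : G} (hx : x ∈ P)
    (hx1 : x ≠ 1) (hfix : w * x * w⁻¹ = x) : w ∈ Cen P := by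
  have hp : p.Prime := Fact.out
  obtain ⟨⟨σ, hσP⟩, hgen⟩ := hcyc.exists_generator
  have hgen' : ∀ y ∈ P, ∃ i : ℤ, σ ^ i = y := fun y hy => by
    obtain ⟨i, hi⟩ := Subgroup.mem_zpowers_iff.mp (hgen ⟨y, hy⟩)
    exact ⟨i, by simpa using congrArg Subtype.val hi⟩
  obtain ⟨k, hk⟩ := hgen' _ ((Subgroup.mem_normalizer_iff.mp hw σ).mp hσP)
  obtain ⟨i, rfl⟩ := hgen' x hx
  obtain ⟨n, hn⟩ := IsPGroup.iff_orderOf.mp hP ⟨σ, hσP⟩
  rw [← Subgroup.orderOf_coe] at hn
  -- the exponent is congruent to one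
  have hd : ((orderOf σ : ℕ) : ℤ) ∣ (k - 1) * i := by
    rw [orderOf_dvd_iff_zpow_eq_one]
    have h1 : σ ^ (k * i) = σ ^ i := by
      conv_rhs => rw [← hfix, ← conj_zpow, ← hk, ← zpow_mul]
    rw [sub_mul, one_mul, zpow_sub, h1, mul_inv_cancel]
  have hk1 : (p : ℤ) ∣ k - 1 := by
    by_contra hnd
    have hcop : IsCoprime ((orderOf σ : ℕ) : ℤ) (k - 1) := by
      rw [show ((orderOf σ : ℕ) : ℤ) = (p : ℤ) ^ n by rw [hn]; norm_num]
      exact IsCoprime.pow_left ((Nat.prime_iff_prime_int.mp hp).coprime_iff_not_dvd.mpr hnd)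
    exact hx1 (orderOf_dvd_iff_zpow_eq_one.mp (hcop.dvd_of_dvd_mul_left hd))
  have hpow : ∀ j : ℕ, w ^ j * σ * (w ^ j)⁻¹ = σ ^ (k ^ j) := by
    intro j
    induction j with
    | zero => simp
    | succ j ih =>
      calc w ^ (j + 1) * σ * (w ^ (j + 1))⁻¹ = w * (w ^ j * σ * (w ^ j)⁻¹) * w⁻¹ := by group
        _ = (w * σ * w⁻¹) ^ (k ^ j) := by rw [ih, conj_zpow]
        _ = σ ^ (k ^ (j + 1)) := by rw [← hk, ← zpow_mul, pow_succ']
  have hq : w ^ (p ^ n) * σ * (w ^ (p ^ n))⁻¹ = σ := by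
    rw [hpow]
    have h1 : ((orderOf σ : ℕ) : ℤ) ∣ k ^ (p ^ n) - 1 := by
      have h2 := dvd_sub_pow_of_dvd_sub (R := ℤ) (p := p) (a := k) (b := 1) hk1 n
      rw [one_pow] at h2
      refine dvd_trans ?_ h2
      rw [hn]
      exact ⟨p, by push_cast; ring⟩
    rw [← mul_inv_eq_one, ← zpow_sub_one]
    exact orderOf_dvd_iff_zpow_eq_one.mp h1
  obtain ⟨m, hm⟩ := exists_pow_eq_self_of_coprime (n := p ^ n) (x := w)
    ((hp.coprime_iff_not_dvd.mpr hreg).pow_left n)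
  have hc : w ^ (p ^ n) ∈ Cen P := by
    refine Subgroup.mem_centralizer_iff.mpr fun y hy => ?_
    obtain ⟨j, rfl⟩ := hgen' y hy
    have : w ^ (p ^ n) * σ ^ j * (w ^ (p ^ n))⁻¹ = σ ^ j := by rw [← conj_zpow, hq]
    exact (mul_inv_eq_iff_eq_mul.mp this).symm
  rw [← hm]
  exact pow_mem hc m

/-- The inertial group of a block with cyclic defect group acts freely. -/
theorem mem_cen_of_stab (hM : IsPModular p M) {B : Set (IrrCharacter G)} {P : Subgroup G}
    {e : Set (IrrCharacter (Cen P))} (hmax : IsMaximalBrauerPair p M B P e) (hcyc : IsCyclic P)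
    {g : G} (hg : g ∈ stab (⟨P, e⟩ : BrauerPairIdx G)) {x : G} (hx : x ∈ P) (hx1 : x ≠ 1)
    (hfix : g * x * g⁻¹ = x) : g ∈ Cen P := by
  have hab : ∀ a ∈ P, ∀ b ∈ P, a * b = b * a := fun a ha b hb => by
    haveI := hcyc.isMulCommutative
    exact congrArg Subtype.val (mul_comm' (⟨a, ha⟩ : P) ⟨b, hb⟩)
  refine mem_cen_of_regular_part hM hmax hab hg fun z hz hzr => ?_
  refine mem_cen_of_fix hmax.1.1.1 hcyc (stab_le_normalizer _ (Subgroup.zpowers_le.mpr hg hz)) hzr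
    hx hx1 ?_
  obtain ⟨i, rfl⟩ := Subgroup.mem_zpowers_iff.mp hz
  have hc : g ∈ Subgroup.centralizer ({x} : Set G) :=
    Subgroup.mem_centralizer_singleton_iff.mpr (mul_inv_eq_iff_eq_mul.mp hfix)
  exact mul_inv_eq_iff_eq_mul.mpr (Subgroup.mem_centralizer_singleton_iff.mp (zpow_mem hc i))

theorem exists_order_prime {P : Subgroup G} (hP : IsPGroup p P) (hP1 : P ≠ ⊥) :
    ∃ z : G, z ∈ P ∧ z ≠ 1 ∧ orderOf z = p := by
  obtain ⟨k, hk⟩ := IsPGroup.iff_card.mp hP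
  have hdvd : p ∣ Nat.card P := by
    rcases k with _ | k
    · exact absurd (Subgroup.eq_bot_of_card_eq P (by rw [hk, pow_zero])) hP1
    · exact hk ▸ dvd_pow_self p k.succ_ne_zero
  obtain ⟨z, hz⟩ := exists_prime_orderOf_dvd_card' p hdvd
  rw [← Subgroup.orderOf_coe] at hz
  refine ⟨z, z.2, fun h => ?_, hz⟩
  rw [h, orderOf_one] at hz
  exact (Fact.out : p.Prime).ne_one hz.symm

end Cfsg.Agent.BrauerPairs81Cyclic
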