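import Cfsg.Agent.Lib.BrauerPairs81Fusion
import Cfsg.Agent.Lib.FusionSysAlperin

/-!
Nilpotent blocks through Brauer pairs, and blocks with abelian defect group.
-/

namespace Cfsg.Agent.BrauerPairs81Nilpotent

open Cfsg Cfsg.FusionSystem Cfsg.Agent.BlockTheoryLocalRing Cfsg.Agent.BlockTheoryCentre
open Cfsg.Agent.BlockTheoryIdem Cfsg.Agent.BlockTheoryBrauer Cfsg.Agent.BlockTheoryDefect
open Cfsg.Agent.BrauerPairs81Base Cfsg.Agent.BrauerPairs81Pairs Cfsg.Agent.BrauerPairs81Conj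
open Cfsg.Agent.BrauerPairs81Max Cfsg.Agent.BrauerPairs81Stab Cfsg.Agent.BrauerPairs81Local
open Cfsg.Agent.BrauerPairs81Index Cfsg.Agent.BrauerPairs81Fusion Cfsg.Agent.FusionSysBasic
open scoped ComplexConjugate Pointwise

attribute [local instance] Classical.propDecidable

set_option linter.unusedSectionVars false

variable {p : ℕ} [Fact p.Prime] {M : Ideal AlgInt} {G : Type*} [Group G] [Fintype G]

/-- Splitting an element into commuting powers of `p`-power and prime-to-`p` order. -/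
theorem exists_split (x : G) : ∃ y z : G, y ∈ Subgroup.zpowers x ∧ z ∈ Subgroup.zpowers x ∧
    x = y * z ∧ (∃ k, orderOf y = p ^ k) ∧ IsPRegular p z := by
  have hp : p.Prime := Fact.out
  obtain ⟨a, o, ho, hg⟩ := Nat.exists_eq_pow_mul_and_not_dvd (orderOf_pos x).ne' p hp.ne_one
  have hcop : IsCoprime ((p ^ a : ℕ) : ℤ) (o : ℤ) :=
    Int.isCoprime_iff_nat_coprime.mpr (by simpa using (hp.coprime_iff_not_dvd.mpr ho).pow_left a)
  obtain ⟨c, d, hcd⟩ := hcop
  refine ⟨x ^ (d * o), x ^ (c * (p ^ a : ℕ)), Subgroup.zpow_mem_zpowers x _,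
    Subgroup.zpow_mem_zpowers x _, ?_, ?_, ?_⟩
  · rw [← zpow_add, add_comm, hcd, zpow_one]
  · obtain ⟨k, -, hk⟩ := (Nat.dvd_prime_pow hp).mp (show orderOf (x ^ (d * o)) ∣ p ^ a by
      rw [orderOf_dvd_iff_pow_eq_one, ← zpow_natCast, ← zpow_mul,
        show d * (o : ℤ) * ((p ^ a : ℕ) : ℤ) = (orderOf x : ℤ) * d by rw [hg]; push_cast; ring,
        zpow_mul, zpow_natCast, pow_orderOf_eq_one, one_zpow])
    exact ⟨k, hk⟩
  · intro h
    refine ho (h.trans ?_)
    rw [orderOf_dvd_iff_pow_eq_one, ← zpow_natCast, ← zpow_mul,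
      show c * ((p ^ a : ℕ) : ℤ) * (o : ℤ) = (orderOf x : ℤ) * c by rw [hg]; push_cast; ring,
      zpow_mul, zpow_natCast, pow_orderOf_eq_one, one_zpow]

theorem isPGroup_zpowers {y : G} {k : ℕ} (hk : orderOf y = p ^ k) :
    IsPGroup p (Subgroup.zpowers y) :=
  IsPGroup.of_card (n := k) (by rw [Nat.card_zpowers, hk])

theorem isPRegular_conj {x : G} (g : G) (h : IsPRegular p x) : IsPRegular p (g * x * g⁻¹) := by
  rw [IsPRegular] at h ⊢
  rwa [show g * x * g⁻¹ = MulAut.conj g x from rfl, MulEquiv.orderOf_eq]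

/-- An automorphism induced both by a `p`-element and by a `p`-regular one is trivial. -/
theorem mem_cen_of_action {Q : Subgroup G} {x u : G} (hx : x ∈ Subgroup.normalizer (Q : Set G))
    (hu : u ∈ Subgroup.normalizer (Q : Set G)) (hxr : IsPRegular p x) {k : ℕ}
    (hu' : orderOf u = p ^ k) (h : ∀ q ∈ Q, x * q * x⁻¹ = u * q * u⁻¹) : x ∈ Cen Q := by
  have h1 : nHom ⊤ Q ⟨x, Subgroup.mem_top x, hx⟩ = nHom ⊤ Q ⟨u, Subgroup.mem_top u, hu⟩ :=
    afun_ext fun q hq => by rw [afun_nHom _ hq, afun_nHom _ hq]; exact h q hq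
  have h2 : orderOf (nHom ⊤ Q ⟨x, Subgroup.mem_top x, hx⟩) ∣ orderOf x :=
    (orderOf_map_dvd _ _).trans (dvd_of_eq (by rw [← Subgroup.orderOf_coe]))
  have h3 : orderOf (nHom ⊤ Q ⟨x, Subgroup.mem_top x, hx⟩) ∣ p ^ k :=
    h1 ▸ (orderOf_map_dvd _ _).trans (dvd_of_eq (by rw [← Subgroup.orderOf_coe]; exact hu'))
  have h4 : nHom ⊤ Q ⟨x, Subgroup.mem_top x, hx⟩ = 1 := orderOf_eq_one_iff.mp
    (Nat.eq_one_of_dvd_coprimes (((Fact.out (p := p.Prime)).coprime_iff_not_dvd.mpr hxr).pow_left k)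
      h3 h2)
  refine Subgroup.mem_centralizer_iff.mpr fun q hq => ?_
  have h5 := congrArg (fun α => afun α q) h4
  change afun _ q = afun 1 q at h5
  rw [afun_nHom _ hq, afun_one hq] at h5
  exact (mul_inv_eq_iff_eq_mul.mp h5).symm

variable {B : Set (IrrCharacter G)} {P : Subgroup G} {e : Set (IrrCharacter (Cen P))}

/-- Nilpotency only needs the pairs below a maximal one. -/
theorem nilpotent_of_below (hM : IsPModular p M) (hmax : IsMaximalBrauerPair p M B P e)
    (h : ∀ a : BrauerPairIdx G, PLE p M a ⟨P, e⟩ → ∀ x ∈ stab a, IsPRegular p x →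
      x ∈ Cen a.1) : IsNilpotentBlock p M B := by
  refine ⟨hmax.1.2.1, fun Q f hQf x hx hs hreg => ?_⟩
  obtain ⟨g, hg⟩ := exists_conj_subpairLE hM hmax hQf
  have h1 : g * x * g⁻¹ ∈ stab (cP g ⟨Q, f⟩) := by
    rw [stab_cP, mem_cjS]
    simpa [mul_assoc, mem_stab] using cP_eq_self_iff_stabilizes.mpr ⟨hx, hs⟩
  have := h _ hg _ h1 (isPRegular_conj g hreg)
  exact (mem_cen_cjS g Q x).mpr this

/-- A nilpotent block's pairs have `p`-groups as automiser. -/
theorem mem_cen_of_nilpotent (hM : IsPModular p M) (hmax : IsMaximalBrauerPair p M B P e)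
    (hnil : IsNilpotentBlock p M B) {a : BrauerPairIdx G} (ha : PLE p M a ⟨P, e⟩) {x : G}
    (hx : x ∈ stab a) (hreg : IsPRegular p x) : x ∈ Cen a.1 := by
  obtain ⟨Q, f⟩ := a
  have h := cP_eq_self_iff_stabilizes.mp (mem_stab.mp hx)
  exact hnil.2 Q f (isBrauerPairOf_down hM ha hmax.1) x h.1 h.2 hreg

theorem nilpotent_iff_inner (hM : IsPModular p M) {F : FusionSystem P}
    (hF : IsBlockFusionSystemOn p M B P e F) :
    IsNilpotentBlock p M B ↔ ∀ Q : Subgroup G, F.Hom Q = (innerFusionSystem P).Hom Q := by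
  have hP : IsPGroup p P := hF.1.1.1.1
  constructor
  · intro hnil Q
    rw [FusionSysAlperin.eq_inner_of_isPGroup hP (saturated hM hF) fun R hR => ?_]
    intro α
    obtain ⟨g, hg, hfus⟩ := (mor_iff hF).mp ((mem_autGroup hR).mp α.2)
    obtain ⟨a, rfl, ha, hga⟩ := hfus
    have himg : cjS g a.1 = a.1 := by
      conv_rhs => rw [← im_afun (α : MulAut a.1), im_congr hg, im_cj]
    have hst : g ∈ stab a :=
      mem_stab.mpr (ple_unique hM hF.1.1.1 hga ha himg)
    obtain ⟨y, z, hy, hz, hgyz, ⟨k, hk⟩, hzr⟩ := exists_split (p := p) g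
    have hle : Subgroup.zpowers g ≤ stab a := Subgroup.zpowers_le.mpr hst
    have hzc := mem_cen_of_nilpotent hM hF.1 hnil ha (hle hz) hzr
    have hyn : y ∈ Subgroup.normalizer (a.1 : Set G) := stab_le_normalizer a (hle hy)
    have heq : (α : MulAut a.1) = nHom ⊤ a.1 ⟨y, Subgroup.mem_top y, hyn⟩ := by
      refine afun_ext fun q hq => ?_
      rw [hg q hq, afun_nHom _ hq, hgyz, ← cj_cj]
      congr 1
      rw [cj_apply, ← Subgroup.mem_centralizer_iff.mp hzc q hq, mul_inv_cancel_right]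
    refine ⟨k, Subtype.ext ?_⟩
    rw [Subgroup.coe_pow, heq, ← map_pow]
    have : (⟨y, Subgroup.mem_top y, hyn⟩ : ↥(⊤ ⊓ Subgroup.normalizer (a.1 : Set G))) ^ p ^ k = 1 :=
      Subtype.ext (by rw [Subgroup.coe_pow, ← hk]; exact pow_orderOf_eq_one y)
    rw [this, map_one]
    rfl
  · intro hin
    refine nilpotent_of_below hM hF.1 fun a ha x hx hreg => ?_
    have hxn := stab_le_normalizer a hx
    have hmem : conjHom a.1 x ∈ F.Hom a.1 :=
      (hom_iff hF).mpr ⟨x, fun _ => rfl, fus_mk ha (by rwa [mem_stab.mp hx])⟩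
    rw [hin] at hmem
    obtain ⟨-, u, hu, hux⟩ := hmem
    have hun : u ∈ Subgroup.normalizer (a.1 : Set G) := by
      refine mem_normalizer_of_cj_le (subgroup_le_of_subpairLE ha :) fun q hq => ?_
      show u * q * u⁻¹ ∈ a.1
      rw [← hux ⟨q, hq⟩]
      exact (Subgroup.mem_normalizer_iff.mp hxn q).mp hq
    obtain ⟨k, hk⟩ := IsPGroup.iff_orderOf.mp hP ⟨u, hu⟩
    refine mem_cen_of_action hxn hun hreg (k := k) ?_ fun q hq => hux ⟨q, hq⟩
    rwa [← Subgroup.orderOf_coe] at hk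

/-! ### Abelian defect -/

/-- Stabilisers below an abelian maximal pair are controlled by the inertial group. -/
theorem stab_le_of_abelian (hM : IsPModular p M) (hmax : IsMaximalBrauerPair p M B P e)
    (hab : ∀ x ∈ P, ∀ y ∈ P, x * y = y * x) {a : BrauerPairIdx G} (ha : PLE p M a ⟨P, e⟩) {x : G}
    (hx : x ∈ stab a) : ∃ y ∈ stab ⟨P, e⟩, ∃ c ∈ Cen a.1, x = y * c := by
  obtain ⟨Q, f⟩ := a
  have hQP : Q ≤ P := subgroup_le_of_subpairLE ha
  have hPC : P ≤ Cen Q := fun u hu =>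
    Subgroup.mem_centralizer_iff.mpr fun q hq => hab q (hQP hq) u hu
  have hQf := isBrauerPairOf_down hM ha hmax.1
  have hN : Cen Q ≤ Subgroup.normalizer (Q : Set G) := Subgroup.centralizer_le_normalizer _
  have hn : IsNormalSubpair p M Q f P e := isNormalSubpair_of_le hM hmax.1.1 ha (hPC.trans hN)
  have hxn : x ∈ Subgroup.normalizer (Cen Q : Set G) :=
    normalizer_le_normalizer_cen (stab_le_normalizer _ hx)
  have hn' : IsNormalSubpair p M Q f (cjS x P) (conjBlock P x e) := by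
    have h1 : NormalSubpairRel p M (cP x ⟨Q, f⟩) (cP x ⟨P, e⟩) := isNormalSubpair_conj x hn
    rw [mem_stab.mp hx] at h1
    exact h1
  obtain ⟨D, hD⟩ := exists_defectGroup hM hQf.1.2
  obtain ⟨y, hy, hyD⟩ := exists_conj_defect_le hM hmax hQf le_rfl hN
    (fun t => (coeff_eb_coe _ f t).symm) hQf.1.2 hD
  have hcard : Nat.card D ≤ Nat.card P := by
    rw [Nat.card_congr (D.equivMapOfInjective _ (Cen Q).subtype_injective).toEquiv,
      ← card_cjS y (D.map (Cen Q).subtype)]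
    exact Subgroup.card_le_of_le hyD
  have hxP : cjS x P ≤ Cen Q := by
    rw [← cjS_of_normalizer hxn]; exact cjS_mono hPC
  obtain ⟨c, hc, hcle⟩ := exists_conj_into hM le_rfl hN hQf.1.2
    (fun t => (coeff_eb_coe _ f t).symm) hD hPC hn hcard hxP hn'
  have heq : cP (c * x) ⟨P, e⟩ = ⟨P, e⟩ := by
    rw [← cP_cP]
    exact ple_antisymm_top hM hmax.1.1 hcle
      (Subgroup.eq_of_le_of_card_ge (subgroup_le_of_subpairLE hcle :)
        (le_of_eq (by rw [show (cP c (cP x ⟨P, e⟩)).1 = cjS c (cjS x P) from rfl, card_cjS, card_cjS])))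
  refine ⟨c * x, heq, x⁻¹ * c⁻¹ * x, ?_, by group⟩
  have := (Subgroup.mem_normalizer_iff.mp (inv_mem hxn) c⁻¹).mp (inv_mem hc)
  simpa using this

theorem cP_eq_of_top (hM : IsPModular p M) (hmax : IsMaximalBrauerPair p M B P e)
    {a : BrauerPairIdx G} (ha : PLE p M a ⟨P, e⟩) {u : G} (hu : u ∈ stab ⟨P, e⟩)
    (hn : u ∈ Subgroup.normalizer (a.1 : Set G)) : cP u a = a :=
  ple_unique hM hmax.1.1 ((mem_stab.mp hu) ▸ ple_cP u ha) ha (cjS_of_normalizer hn)

/-- An element of the inertial group centralises an abelian defect group once its prime-to-`p`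
part does. -/
theorem mem_cen_of_regular_part (hM : IsPModular p M) (hmax : IsMaximalBrauerPair p M B P e)
    (hab : ∀ x ∈ P, ∀ y ∈ P, x * y = y * x) {x : G} (hx : x ∈ stab ⟨P, e⟩)
    (h : ∀ z ∈ Subgroup.zpowers x, IsPRegular p z → z ∈ Cen P) : x ∈ Cen P := by
  obtain ⟨y, z, hy, hz, rfl, ⟨k, hk⟩, hzr⟩ := exists_split (p := p) x
  have hle := Subgroup.zpowers_le.mpr hx
  have h1 := le_sup_of_stabilizes hM hmax (isPGroup_zpowers hk) fun u hu =>
    (Subgroup.zpowers_le.mpr (hle hy) hu : u ∈ stab ⟨P, e⟩)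
  have h2 : P ⊔ Cen P ≤ Cen P :=
    sup_le (fun u hu => Subgroup.mem_centralizer_iff.mpr fun q hq => hab q hq u hu) le_rfl
  exact mul_mem (h2 (h1 (Subgroup.mem_zpowers y))) (h z hz hzr)

theorem nilpotent_iff_of_abelian (hM : IsPModular p M) (hmax : IsMaximalBrauerPair p M B P e)
    (hab : ∀ x ∈ P, ∀ y ∈ P, x * y = y * x) :
    IsNilpotentBlock p M B ↔ stab (⟨P, e⟩ : BrauerPairIdx G) ≤ Cen P := by
  constructor
  · intro hnil x hx
    exact mem_cen_of_regular_part hM hmax hab hx fun z hz hzr =>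
      mem_cen_of_nilpotent hM hmax hnil (a := ⟨P, e⟩) Relation.ReflTransGen.refl
        (Subgroup.zpowers_le.mpr hx hz) hzr
  · intro h
    refine nilpotent_of_below hM hmax fun a ha x hx _ => ?_
    obtain ⟨y, hy, c, hc, rfl⟩ := stab_le_of_abelian hM hmax hab ha hx
    exact mul_mem (centralizer_le (subgroup_le_of_subpairLE ha :) (h hy)) hc

/-! ### Blocks of centralisers -/

theorem cenCompat_sup (Q : Subgroup G) (R : Subgroup (Cen Q)) :
    CenCompat (Cen Q) R (Q ⊔ R.map (Cen Q).subtype) := by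
  intro x
  constructor
  · intro hx
    refine ⟨centralizer_le le_sup_left hx, Subgroup.mem_centralizer_iff.mpr fun u hu => ?_⟩
    exact Subtype.ext (Subgroup.mem_centralizer_iff.mp hx (u : G)
      (Subgroup.mem_sup_right (Subgroup.mem_map_of_mem (Cen Q).subtype hu)))
  · rintro ⟨hxC, hx⟩
    refine le_centralizer_singleton_iff.mp (sup_le (le_centralizer_singleton_iff.mpr hxC) ?_)
    rintro _ ⟨u, hu, rfl⟩
    exact Subgroup.mem_centralizer_singleton_iff.mpr
      (congrArg Subtype.val (Subgroup.mem_centralizer_iff.mp hx u hu))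

/-- A pair of the block of a centraliser gives a pair above. -/
theorem normal_of_pairOf_cen {Q : Subgroup G} {f : Set (IrrCharacter (Cen Q))}
    (hQf : IsBrauerPair p M Q f) {R : Subgroup (Cen Q)} {g : Set (IrrCharacter (Cen R))}
    (h : IsBrauerPairOf p M f R g) :
    IsNormalSubpair p M Q f (Q ⊔ R.map (Cen Q).subtype)
      (pushSet (cenIso (cenCompat_sup Q R)) g) := by
  obtain ⟨⟨hR, hg⟩, -, ho⟩ := isBrauerPairOf_iff.mp h
  have hRN : R.map (Cen Q).subtype ≤ Subgroup.normalizer (Q : Set G) :=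
    (Subgroup.map_subtype_le _).trans (Subgroup.centralizer_le_normalizer _)
  refine isNormalSubpair_iff.mpr ⟨hQf, ⟨hQf.1.to_sup_of_normal_left' (hR.map _) hRN,
    isPBlock_push _ hg⟩, le_sup_left, sup_le Subgroup.le_normalizer hRN,
    invBy_sup (invBy_eb_cen Q f)
      (invBy_mono (Subgroup.map_subtype_le _) (invBy_eb_self _ f)), ?_⟩
  rw [eb_eq_incl]
  exact occ_push _ ho

theorem nilpotent_cen (hM : IsPModular p M) (hnil : IsNilpotentBlock p M B) {Q : Subgroup G}
    {f : Set (IrrCharacter (Cen Q))} (hQf : IsBrauerPairOf p M B Q f) :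
    IsNilpotentBlock p M f := by
  refine ⟨hQf.1.2, fun R g hRg x hx hs hreg => ?_⟩
  have hn := normal_of_pairOf_cen hQf.1 hRg
  set S := Q ⊔ R.map (Cen Q).subtype with hS
  have hB := isBrauerPairOf_up hM (Relation.ReflTransGen.single
    (show NormalSubpairRel p M ⟨Q, f⟩ ⟨S, _⟩ from hn)) hQf
  have hcx : cP x ⟨R, g⟩ = ⟨R, g⟩ := cP_eq_self_iff_stabilizes.mpr ⟨hx, hs⟩
  have h1 := (cP_eq_self_iff.mp hcx).2
  have hxS : (x : G) ∈ Subgroup.normalizer (S : Set G) := by
    have e1 : cjS (x : G) S = S := by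
      rw [hS, cjS, Subgroup.map_sup]
      congr 1
      · exact cjS_of_normalizer (Subgroup.centralizer_le_normalizer _ x.2)
      · conv_rhs => rw [← cjS_of_normalizer hx]
        rw [Subgroup.map_map, cjS, Subgroup.map_map]
        congr 1
    refine Subgroup.mem_normalizer_iff.mpr fun u => ?_
    conv_rhs => rw [← e1, mem_cjS]
    simp [mul_assoc]
  have hfix : cjA (x : G) (eb (Cen S) (pushSet (cenIso (cenCompat_sup Q R)) g)) =
      eb (Cen S) (pushSet (cenIso (cenCompat_sup Q R)) g) := by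
    rw [eb_cenIso]
    refine MonoidAlgebra.ext ?_
    ext y
    rw [coeff_cjA]
    by_cases hy : y ∈ Cen Q
    · have e1 := coeff_incl_coe (Cen Q) (eb (Cen R) g) (x⁻¹ * ⟨y, hy⟩ * x)
      simp only [Subgroup.coe_mul, Subgroup.coe_inv] at e1
      rw [e1, ← coeff_cjA, h1]
      exact (coeff_incl_coe (Cen Q) (eb (Cen R) g) ⟨y, hy⟩).symm
    · rw [coeff_incl_of_notMem _ _ hy, coeff_incl_of_notMem]
      intro hh
      exact hy (by simpa [mul_assoc] using
        (Cen Q).mul_mem ((Cen Q).mul_mem x.2 hh) ((Cen Q).inv_mem x.2))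
  have hst := cP_eq_self_iff_stabilizes.mp
    (cP_eq_self_iff.mpr ⟨hxS, hfix⟩ : cP (x : G) ⟨S, pushSet (cenIso (cenCompat_sup Q R)) g⟩ = _)
  have hreg' : IsPRegular p (x : G) := by
    rw [IsPRegular] at hreg ⊢
    rwa [Subgroup.orderOf_coe]
  obtain ⟨h2, hxR⟩ := (cenCompat_sup Q R (x : G)).mp (hnil.2 _ _ hB x hst.1 hst.2 hreg')
  exact hxR

end Cfsg.Agent.BrauerPairs81Nilpotent
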