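/-
Sections of a coprime factorisation of the group order; the transfer theorem of Brauer and
Suzuki for Hall subgroups.
-/
import Mathlib
import Cfsg.Agent.Lib.BrauerInduction
import Cfsg.Agent.Lib.CharBasicInt

set_option autoImplicit false

open scoped ComplexConjugate
open Finset

namespace Cfsg.Agent.BrauerPiSection

open CharBasic CharBasicOrth CharBasicDecomp CharInduced BrauerInduction

universe u

variable {G : Type u} [Group G]

/-! ### Parts of elements -/

/-- An exponent which is one modulo `m` and zero modulo `n`. -/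
noncomputable def partExp {m n : ℕ} (h : Nat.Coprime m n) : ℕ :=
  (Nat.chineseRemainder h 1 0).1

theorem partExp_spec {m n : ℕ} (h : Nat.Coprime m n) :
    partExp h ≡ 1 [MOD m] ∧ partExp h ≡ 0 [MOD n] := (Nat.chineseRemainder h 1 0).2

/-- The part of an element whose order divides `m`. -/
noncomputable def part {m n : ℕ} (h : Nat.Coprime m n) (x : G) : G := x ^ partExp h

theorem part_eq_self {m n : ℕ} (h : Nat.Coprime m n) {u : G} (hu : orderOf u ∣ m) :
    part h u = u := by
  show u ^ partExp h = u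
  conv_rhs => rw [← pow_one u]
  exact pow_eq_pow_iff_modEq.2 ((partExp_spec h).1.of_dvd hu)

theorem part_eq_one {m n : ℕ} (h : Nat.Coprime m n) {v : G} (hv : orderOf v ∣ n) :
    part h v = 1 := by
  show v ^ partExp h = 1
  rw [← pow_zero v]
  exact pow_eq_pow_iff_modEq.2 ((partExp_spec h).2.of_dvd hv)

theorem part_mul {m n : ℕ} (h : Nat.Coprime m n) {u v : G} (hc : Commute u v)
    (hu : orderOf u ∣ m) (hv : orderOf v ∣ n) : part h (u * v) = u := by
  show (u * v) ^ partExp h = u
  rw [hc.mul_pow]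
  show part h u * part h v = u
  rw [part_eq_self h hu, part_eq_one h hv, mul_one]

theorem part_conj {m n : ℕ} (h : Nat.Coprime m n) (g x : G) :
    part h (g * x * g⁻¹) = g * part h x * g⁻¹ := conj_pow

theorem part_commute {m n : ℕ} (h : Nat.Coprime m n) (x : G) : Commute x (part h x) :=
  Commute.self_pow x _

section

variable [Finite G] {m n : ℕ} (hmn : Nat.card G = m * n) (h : Nat.Coprime m n)
include hmn

theorem orderOf_part (x : G) : orderOf (part h x) ∣ m := by
  refine orderOf_dvd_of_pow_eq_one ?_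
  show (x ^ partExp h) ^ m = 1
  rw [← pow_mul]
  obtain ⟨c, hc⟩ := (Nat.modEq_zero_iff_dvd).1 (partExp_spec h).2
  rw [hc, show n * c * m = m * n * c by ring, ← hmn, pow_mul, pow_card_eq_one', one_pow]

theorem part_mul_part (x : G) : part h x * part h.symm x = x := by
  show x ^ partExp h * x ^ partExp h.symm = x
  rw [← pow_add]
  conv_rhs => rw [← pow_one x]
  refine pow_eq_pow_iff_modEq.2 (Nat.ModEq.of_dvd (hmn ▸ orderOf_dvd_natCard x) ?_)
  refine (Nat.modEq_and_modEq_iff_modEq_mul h).1 ⟨?_, ?_⟩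
  · have := (partExp_spec h).1.add (partExp_spec h.symm).2
    simpa using this
  · have := (partExp_spec h).2.add (partExp_spec h.symm).1
    simpa using this

end

/-- An elementary group splits along a coprime factorisation. -/
theorem exists_split_aux {E : Type u} [Group E] [Finite E] {p k m n : ℕ} (x : E)
    (hx : x ∈ Subgroup.center E) (hk : (Subgroup.zpowers x).index = p ^ k)
    (hmn : Nat.card E ∣ m * n) (hcop : Nat.Coprime m n) (hpn : Nat.Coprime p n) :
    ∃ A B : Subgroup E, (∀ a ∈ A, ∀ b ∈ B, Commute a b) ∧ (∀ e : E, ∃ a ∈ A, ∃ b ∈ B, a * b = e) ∧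
      (∀ a ∈ A, orderOf a ∣ m) ∧ (∀ b ∈ B, orderOf b ∣ n) ∧ B ≤ Subgroup.center E := by
  set d := Nat.gcd (orderOf x) m with hd
  set B := Subgroup.zpowers (x ^ d) with hB
  have hBc : B ≤ Subgroup.center E := Subgroup.zpowers_le.2 (Subgroup.pow_mem _ hx d)
  have hBn : B.Normal := ⟨fun b hb g => by
    rwa [Subgroup.mem_center_iff.1 (hBc hb) g, mul_inv_cancel_right]⟩
  have hox : orderOf x ∣ m * n := (orderOf_dvd_natCard x).trans hmn
  have hdx : d ∣ orderOf x := Nat.gcd_dvd_left _ _
  have hox0 : 0 < orderOf x := (isOfFinOrder_of_finite x).orderOf_pos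
  have hd0 : d ≠ 0 := fun h => hox0.ne' (Nat.eq_zero_of_zero_dvd (h ▸ hdx))
  have hcardB : Nat.card B = orderOf x / d := by
    rw [hB, Nat.card_zpowers, orderOf_pow, Nat.gcd_eq_right hdx]
  have hBn' : Nat.card B ∣ n := by
    rw [hcardB]
    refine Nat.Coprime.dvd_of_dvd_mul_left (k := orderOf x / d) (m := m / d) ?_ ?_
    · exact Nat.coprime_div_gcd_div_gcd (Nat.pos_of_ne_zero hd0)
    · refine Nat.dvd_of_mul_dvd_mul_left (Nat.pos_of_ne_zero hd0) ?_
      rw [Nat.mul_div_cancel' hdx, ← mul_assoc, Nat.mul_div_cancel' (Nat.gcd_dvd_right _ _)]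
      exact hox
  have hidx : B.index = d * p ^ k := by
    have h1 := B.card_mul_index
    have h2 := (Subgroup.zpowers x).card_mul_index
    rw [Nat.card_zpowers, hk] at h2
    rw [hcardB, ← h2] at h1
    refine Nat.eq_of_mul_eq_mul_left (Nat.div_pos (Nat.le_of_dvd hox0 hdx) (Nat.pos_of_ne_zero hd0)) ?_
    rw [h1, ← mul_assoc, Nat.div_mul_cancel hdx]
  have hBidx : Nat.Coprime B.index n := by
    rw [hidx]
    exact Nat.Coprime.mul_left (hcop.coprime_dvd_left (Nat.gcd_dvd_right _ _)) (hpn.pow_left k)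
  have hcopB : Nat.Coprime (Nat.card B) B.index := (hBidx.coprime_dvd_right hBn').symm
  obtain ⟨A, hA⟩ := Subgroup.exists_left_complement'_of_coprime hcopB
  refine ⟨A, B, fun a _ b hb => Subgroup.mem_center_iff.1 (hBc hb) a, fun e => ?_, fun a ha => ?_,
    fun b hb => ?_, hBc⟩
  · obtain ⟨⟨⟨a, ha⟩, ⟨b, hb⟩⟩, he⟩ := hA.2 e
    exact ⟨a, ha, b, hb, he⟩
  · have h1 : orderOf a ∣ Nat.card A := Subgroup.orderOf_dvd_natCard A ha
    rw [← hA.index_eq_card] at h1
    exact Nat.Coprime.dvd_of_dvd_mul_right (hBidx.coprime_dvd_left h1)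
      ((orderOf_dvd_natCard a).trans hmn)
  · exact (Subgroup.orderOf_dvd_natCard B hb).trans hBn'

theorem exists_split {E : Type u} [Group E] [Finite E] {p m n : ℕ} (hp : p.Prime)
    (hE : IsElementary p E) (hmn : Nat.card E ∣ m * n) (hcop : Nat.Coprime m n) :
    ∃ A B : Subgroup E, (∀ a ∈ A, ∀ b ∈ B, Commute a b) ∧ (∀ e : E, ∃ a ∈ A, ∃ b ∈ B, a * b = e) ∧
      (∀ a ∈ A, orderOf a ∣ m) ∧ (∀ b ∈ B, orderOf b ∣ n) := by
  obtain ⟨x, hx, -, k, hk⟩ := hE
  by_cases hpn : p ∣ n
  · have hpm : Nat.Coprime p m := hcop.symm.coprime_dvd_left hpn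
    obtain ⟨A, B, h1, h2, h3, h4, -⟩ := exists_split_aux x hx hk (mul_comm m n ▸ hmn) hcop.symm hpm
    refine ⟨B, A, fun b hb a ha => (h1 a ha b hb).symm, fun e => ?_, h4, h3⟩
    obtain ⟨a, ha, b, hb, he⟩ := h2 e
    exact ⟨b, hb, a, ha, (h1 a ha b hb).symm.trans he⟩
  · obtain ⟨A, B, h1, h2, h3, h4, -⟩ :=
      exists_split_aux x hx hk hmn hcop (hp.coprime_iff_not_dvd.2 hpn)
    exact ⟨A, B, h1, h2, h3, h4⟩

/-! ### Coefficients which are algebraic integers -/

variable [Fintype G]

/-- Integrality of coefficients can be tested on elementary subgroups. -/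
theorem isIntegral_coeff_of_elementary {θ : G → ℂ} (hθ : IsClassFunction G θ)
    (hE : ∀ (E : Subgroup G) [Fintype E] (p : ℕ), p.Prime → IsElementary p E →
      ∀ ξ : IrrCharacter E, IsIntegral ℤ (classInner (fun e : E => θ e) (ξ : E → ℂ)))
    {χ : G → ℂ} (hχ : IsIrrCharacter G χ) : IsIntegral ℤ (classInner θ χ) := by
  have key : ∀ f ∈ indSpan (G := G) IsSomeElementary, IsIntegral ℤ (classInner (f * θ) χ) := by
    intro f hf
    induction hf using AddSubgroup.closure_induction with
    | mem x hx =>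
      obtain ⟨H, φ, ⟨p, hp, hH⟩, hφ, rfl⟩ := hx
      classical
      have : Fintype H := Fintype.ofFinite H
      rw [← ind_mul_res H φ hθ, inner_ind_left H _ (isClassFunction_irr hχ)]
      have hc : IsCharacter H (fun h : H => χ h * conj (φ h)) :=
        isCharacter_mul (isCharacter_comap H.subtype (isCharacter_of_isIrrCharacter hχ))
          (isCharacter_conj hφ)
      have hrw : classInner (fun h : H => φ h * θ h) (fun h : H => χ h) =
          classInner (fun h : H => θ h) (fun h : H => χ h * conj (φ h)) := by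
        simp only [classInner, map_mul, Complex.conj_conj]
        congr 1
        exact Finset.sum_congr rfl fun h _ => by ring
      rw [hrw]
      obtain ⟨c, -, hsum⟩ := exists_mult hc
      rw [hsum, inner_sum_right]
      refine IsIntegral.sum _ fun ξ _ => ?_
      rw [CharInduced.inner_smul_right, Complex.conj_natCast]
      exact (isIntegral_algebraMap (x := (c ξ : ℤ))).mul (hE H p hp hH ξ)
    | zero => rw [zero_mul, CharInduced.inner_zero_left]; exact isIntegral_zero
    | add x y _ _ hx hy => rw [add_mul, CharInduced.inner_add_left]; exact hx.add hy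
    | neg x _ hx => rw [neg_mul, CharInduced.inner_neg_left]; exact hx.neg
  have := key _ one_mem_indSpan
  rwa [show (fun _ => (1 : ℂ)) * θ = θ from funext fun _ => one_mul _] at this

/-! ### The indicator of a section -/

variable {m n : ℕ}

open scoped Classical in
/-- `n` times the indicator of the section of `g`. -/
noncomputable def secFun (h : Nat.Coprime m n) (g : G) : G → ℂ :=
  fun x => if IsConj (part h.symm x) g then (n : ℂ) else 0

theorem isClassFunction_secFun (h : Nat.Coprime m n) (g : G) :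
    IsClassFunction G (secFun h g) := by
  intro x c
  have h1 : IsConj (part h.symm (c * x * c⁻¹)) g ↔ IsConj (part h.symm x) g := by
    rw [part_conj]
    have h2 : IsConj (part h.symm x) (c * part h.symm x * c⁻¹) := isConj_iff.2 ⟨c, rfl⟩
    exact ⟨fun e => h2.trans e, fun e => h2.symm.trans e⟩
  by_cases hc : IsConj (part h.symm x) g
  · simp only [secFun, if_pos hc, if_pos (h1.2 hc)]
  · simp only [secFun, if_neg hc, if_neg (fun e => hc (h1.1 e))]

theorem isIntegral_secFun (hmn : Nat.card G = m * n) (h : Nat.Coprime m n) (g : G) {χ : G → ℂ}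
    (hχ : IsIrrCharacter G χ) : IsIntegral ℤ (classInner (secFun h g) χ) := by
  refine isIntegral_coeff_of_elementary (isClassFunction_secFun h g) (fun E _ p hp hE ξ => ?_) hχ
  classical
  obtain ⟨A, B, hcomm, hsurj, hA, hB⟩ :=
    exists_split hp hE (hmn ▸ Subgroup.card_subgroup_dvd_card E) h
  have : Fintype A := Fintype.ofFinite A
  have : Fintype B := Fintype.ofFinite B
  have hdisj : ∀ a ∈ A, a ∈ B → a = 1 := fun a ha hb =>
    orderOf_eq_one_iff.1 (Nat.eq_one_of_dvd_coprimes h (hA a ha) (hB a hb))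
  let f : A × B →* E :=
    { toFun := fun z => (z.1 : E) * z.2
      map_one' := by simp
      map_mul' := fun y z => by
        simp only [Prod.fst_mul, Prod.snd_mul, Subgroup.coe_mul]
        rw [mul_assoc, ← mul_assoc (z.1 : E), (hcomm z.1 z.1.2 y.2 y.2.2).eq]
        group }
  have hf : Function.Bijective f := by
    refine ⟨(injective_iff_map_eq_one f).2 fun z hz => ?_, fun e => ?_⟩
    · have h1 : (z.1 : E) = (z.2 : E)⁻¹ := eq_inv_of_mul_eq_one_left hz
      have h2 := hdisj _ z.1.2 (h1 ▸ B.inv_mem z.2.2)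
      rw [h2, one_eq_inv] at h1
      exact Prod.ext (Subtype.ext h2) (Subtype.ext h1)
    · obtain ⟨a, ha, b, hb, he⟩ := hsurj e
      exact ⟨(⟨a, ha⟩, ⟨b, hb⟩), he⟩
  -- averaging over `A`
  have hξc := isCharacter_of_isIrrCharacter ξ.2
  let F : B → ℂ := fun b => (Nat.card A : ℂ)⁻¹ * ∑ a : A, (ξ : E → ℂ) (f (a, b))
  have hF : IsCharacter B F := by
    rw [isCharacter_iff]
    refine ⟨fun b c => ?_, fun η => ?_⟩
    · show _ * _ = _ * _
      congr 1
      refine Finset.sum_congr rfl fun a _ => ?_
      have h1 : f (a, c * b * c⁻¹) = f (1, c) * f (a, b) * (f (1, c))⁻¹ := by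
        rw [← map_inv, ← map_mul, ← map_mul]; congr 1; simp
      rw [h1]
      exact CharBasic.isClassFunction_of_isCharacter hξc _ _
    · obtain ⟨k, hk⟩ := classInner_isCharacter (isCharacter_comap f hξc)
        (isCharacter_comap (MonoidHom.snd A B) (isCharacter_of_isIrrCharacter η.2))
      refine ⟨k, ?_⟩
      rw [← hk, classInner, classInner, Nat.card_prod, Nat.cast_mul, Fintype.sum_prod_type,
        Finset.sum_comm, mul_inv_rev, mul_assoc]
      congr 1
      rw [Finset.mul_sum]
      refine Finset.sum_congr rfl fun b _ => ?_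
      rw [Finset.mul_sum, mul_comm (F b), ← mul_assoc, mul_comm (conj _) _, mul_assoc,
        Finset.mul_sum, Finset.mul_sum]
      refine Finset.sum_congr rfl fun a _ => ?_
      simp only [Function.comp_apply, MonoidHom.coe_snd]
      ring
  have hval : ∀ (a : A) (b : B), secFun h g ((f (a, b) : E) : G) =
      if IsConj (((b : E) : G)) g then (n : ℂ) else 0 := by
    intro a b
    have hpart : part h.symm ((f (a, b) : E) : G) = ((b : E) : G) := by
      show part h.symm (((a : E) : G) * ((b : E) : G)) = _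
      rw [show ((a : E) : G) * ((b : E) : G) = ((b : E) : G) * ((a : E) : G) from
        congrArg Subtype.val (hcomm a a.2 b b.2).eq]
      refine part_mul h.symm (congrArg Subtype.val (hcomm a a.2 b b.2).eq).symm ?_ ?_
      · rw [Subgroup.orderOf_coe]; exact hB b b.2
      · rw [Subgroup.orderOf_coe]; exact hA a a.2
    simp only [secFun, hpart]
  obtain ⟨q, hq⟩ : Nat.card B ∣ n := by
    have hcB : Nat.Coprime (Nat.card B) m := by
      refine Nat.coprime_of_dvd' fun r hr hrB hrm => ?_
      have := Fact.mk hr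
      obtain ⟨b, hb⟩ := exists_prime_orderOf_dvd_card' r hrB
      have h1 : r ∣ n := by
        have := hB b b.2
        rw [Subgroup.orderOf_coe] at this
        exact hb ▸ this
      exact absurd (Nat.eq_one_of_dvd_coprimes h hrm h1) hr.ne_one
    refine Nat.Coprime.dvd_of_dvd_mul_left hcB ?_
    rw [← hmn]
    exact (Subgroup.card_subgroup_dvd_card B).trans (Subgroup.card_subgroup_dvd_card E)
  have hcard : Nat.card E = Nat.card A * Nat.card B := by
    rw [← Nat.card_prod]
    exact (Nat.card_congr (Equiv.ofBijective f hf)).symm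
  have hsum : classInner (fun e : E => secFun h g (e : G)) (ξ : E → ℂ) =
      (q : ℂ) * ∑ b : B, (if IsConj (((b : E) : G)) g then (1 : ℂ) else 0) * conj (F b) := by
    rw [classInner, ← Equiv.sum_comp (Equiv.ofBijective f hf), Fintype.sum_prod_type,
      Finset.sum_comm, hcard, Nat.cast_mul, Finset.mul_sum, Finset.mul_sum]
    refine Finset.sum_congr rfl fun b _ => ?_
    simp only [Equiv.ofBijective_apply, hval, F, map_mul, map_inv₀, map_natCast, map_sum]
    rw [Finset.mul_sum, Finset.mul_sum, Finset.mul_sum, Finset.mul_sum]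
    refine Finset.sum_congr rfl fun a _ => ?_
    have hA0 : (Nat.card A : ℂ) ≠ 0 := Nat.cast_ne_zero.2 Nat.card_pos.ne'
    have hB0 : (Nat.card B : ℂ) ≠ 0 := Nat.cast_ne_zero.2 Nat.card_pos.ne'
    rw [hq]
    push_cast
    split_ifs <;> field_simp <;> ring
  rw [hsum]
  refine (isIntegral_algebraMap (x := (q : ℤ))).mul (IsIntegral.sum _ fun b _ => ?_)
  refine IsIntegral.mul ?_ ?_
  · split_ifs
    · exact isIntegral_one
    · exact isIntegral_zero
  · rw [← isCharacter_inv hF]
    exact isCharacter_integral hF _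

open scoped Classical in
/-- The size of a section is divisible by `m`. -/
theorem dvd_card_section (hmn : Nat.card G = m * n) (h : Nat.Coprime m n) (g : G) :
    m ∣ (Finset.univ.filter fun x : G => IsConj (part h.symm x) g).card := by
  have h1 := isIntegral_secFun hmn h g isIrrCharacter_one
  have hG : 0 < m * n := hmn ▸ Nat.card_pos
  have hn : (n : ℂ) ≠ 0 := Nat.cast_ne_zero.2 (Nat.pos_of_mul_pos_left hG).ne'
  have hval : classInner (secFun h g) (fun _ => (1 : ℂ)) =
      (((Finset.univ.filter fun x : G => IsConj (part h.symm x) g).card : ℕ) : ℂ) / (m : ℕ) := by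
    simp only [classInner, secFun, map_one, mul_one, ← Finset.sum_filter, Finset.sum_const,
      nsmul_eq_mul, hmn, Nat.cast_mul]
    field_simp
  rw [hval] at h1
  exact CharBasicInt.dvd_of_isIntegral_div (Nat.pos_of_mul_pos_right hG).ne' h1

/-! ### The transfer theorem of Brauer and Suzuki -/

section Transfer

variable {H : Subgroup G}

open scoped Classical in
/-- The elements of `H` conjugate to `x`. -/
noncomputable def clsIn (H : Subgroup G) (x : G) : Finset H :=
  Finset.univ.filter fun h : H => IsConj x (h : G)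

theorem mem_clsIn {x : G} {h : H} : h ∈ clsIn H x ↔ IsConj x (h : G) := by
  classical simp [clsIn]

theorem clsIn_congr {x y : G} (hxy : IsConj x y) : clsIn H x = clsIn H y := by
  ext h
  simp only [mem_clsIn]
  exact ⟨fun e => hxy.symm.trans e, fun e => hxy.trans e⟩

theorem exists_section_multiple (hHall : Nat.Coprime (Nat.card H) H.index)
    (hfus : ∀ x ∈ H, ∀ y ∈ H, IsConj x y → ∃ h ∈ H, h * x * h⁻¹ = y)
    (helem : ∀ (E : Subgroup G) (p : ℕ), p.Prime → IsElementary p E → Nat.card E ∣ Nat.card H →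
      ∃ g : G, E.map (MulAut.conj g).toMonoidHom ≤ H) (g : H)
    [DecidablePred fun x : G => IsConj (part hHall x) (g : G)] :
    H.index * (clsIn H (g : G)).card ∣
      (Finset.univ.filter fun x : G => IsConj (part hHall x) (g : G)).card := by
  classical
  have hmn : Nat.card G = H.index * Nat.card H := by rw [H.index_mul_card]
  have hmn' : Nat.card G = Nat.card H * H.index := H.card_mul_index.symm
  have hgH : orderOf (g : G) ∣ Nat.card H := Subgroup.orderOf_dvd_natCard H g.2
  -- the centralizer in `H`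
  let C := Subgroup.centralizer ({(g : G)} : Set G)
  let CH := C.subgroupOf H
  have hclsH : (clsIn H (g : G)).card * Nat.card CH = Nat.card H := by
    have h1 : Nat.card {x : H // IsConj g x} * Nat.card (Subgroup.centralizer ({g} : Set H)) =
        Nat.card H := card_conj_mul_card_centralizer g
    have h2 : (clsIn H (g : G)).card = Nat.card {x : H // IsConj g x} := by
      rw [Nat.card_eq_fintype_card, Fintype.card_subtype]
      congr 1
      ext x
      rw [mem_clsIn, Finset.mem_filter]
      refine ⟨fun hx => ⟨Finset.mem_univ _, ?_⟩, fun hx => ?_⟩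
      · obtain ⟨k, hk, he⟩ := hfus g g.2 x x.2 hx
        exact isConj_iff.2 ⟨⟨k, hk⟩, Subtype.ext he⟩
      · obtain ⟨k, hk⟩ := isConj_iff.1 hx.2
        exact isConj_iff.2 ⟨(k : G), congrArg Subtype.val hk⟩
    have h3 : CH = Subgroup.centralizer ({g} : Set H) := by
      ext x
      simp only [CH, C, Subgroup.mem_subgroupOf, Subgroup.mem_centralizer_iff, Set.mem_singleton_iff,
        forall_eq]
      exact ⟨fun e => Subtype.ext e, fun e => congrArg Subtype.val e⟩
    rw [h2, h3, h1]
  -- the Hall property of `CH` in `C`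
  have hHallC : ∀ r : ℕ, r.Prime → r ∣ Nat.card H → ∀ j, r ^ j ∣ Nat.card C → r ^ j ∣ Nat.card CH := by
    intro r hr hrH j hj
    have := Fact.mk hr
    obtain ⟨k, m₀, hm₀, hord⟩ := Nat.exists_eq_pow_mul_and_not_dvd
      (isOfFinOrder_of_finite (g : G)).orderOf_pos.ne' r hr.ne_one
    have hgC : (g : G) ∈ C := Subgroup.mem_centralizer_iff.2 (by simp)
    let gC : C := ⟨g, hgC⟩
    have hgc : gC ∈ Subgroup.center C := Subgroup.mem_center_iff.2 fun c =>
      Subtype.ext (Subgroup.mem_centralizer_iff.1 c.2 g rfl).symm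
    have hogC : orderOf gC = r ^ k * m₀ := by rw [← Subgroup.orderOf_coe, hord]
    obtain ⟨R⟩ : Nonempty (Sylow r C) := inferInstance
    let X := Subgroup.zpowers (gC ^ r ^ k)
    have hXc : X ≤ Subgroup.center C := Subgroup.zpowers_le.2 (Subgroup.pow_mem _ hgc _)
    have hXn : X.Normal := ⟨fun b hb c => by
      rwa [Subgroup.mem_center_iff.1 (hXc hb) c, mul_inv_cancel_right]⟩
    have hRg : gC ^ m₀ ∈ (R : Subgroup C) := by
      let Y := Subgroup.zpowers (gC ^ m₀)
      have hYc : Y ≤ Subgroup.center C := Subgroup.zpowers_le.2 (Subgroup.pow_mem _ hgc _)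
      have hYn : Y.Normal := ⟨fun b hb c => by
        rwa [Subgroup.mem_center_iff.1 (hYc hb) c, mul_inv_cancel_right]⟩
      have hY : IsPGroup r Y := IsPGroup.of_card (n := k) (by
        rw [Nat.card_zpowers, orderOf_pow, hogC, Nat.gcd_mul_left_left]
        exact Nat.mul_div_cancel _ (Nat.pos_of_ne_zero fun e => hm₀ (by rw [e]; exact dvd_zero r)))
      obtain ⟨R', hR'⟩ := hY.exists_le_sylow
      obtain ⟨c, hc⟩ := MulAction.exists_smul_eq C R' R
      rw [← hc]
      have h2 : Y ≤ (c • R' : Sylow r C) := by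
        intro y hy
        rw [Sylow.coe_subgroup_smul, Subgroup.mem_pointwise_smul_iff_inv_smul_mem]
        show (MulAut.conj c)⁻¹ • y ∈ (R' : Subgroup C)
        refine hR' ?_
        rw [MulAut.smul_def, ← map_inv, MulAut.conj_apply, inv_inv]
        exact hYn.conj_mem' y hy c
      exact h2 (Subgroup.mem_zpowers _)
    let E' : Subgroup C := X ⊔ R
    have hgE : gC ∈ E' := by
      have hcop : Nat.Coprime m₀ (r ^ k) := Nat.Coprime.pow_right k (hr.coprime_iff_not_dvd.2 hm₀).symm
      have hbez := Nat.gcd_eq_gcd_ab m₀ (r ^ k)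
      rw [hcop.gcd_eq_one] at hbez
      have : gC = (gC ^ m₀) ^ Nat.gcdA m₀ (r ^ k) * (gC ^ r ^ k) ^ Nat.gcdB m₀ (r ^ k) := by
        rw [← zpow_natCast, ← zpow_natCast, ← zpow_mul, ← zpow_mul, ← zpow_add, ← hbez]
        simp
      rw [this]
      exact E'.mul_mem ((le_sup_right : (R : Subgroup C) ≤ E') (zpow_mem hRg _))
        ((le_sup_left : X ≤ E') (zpow_mem (Subgroup.mem_zpowers _) _))
    obtain ⟨a, ha⟩ := IsPGroup.iff_card.1 R.isPGroup'
    have hX : Nat.card X = m₀ := by
      rw [Nat.card_zpowers, orderOf_pow, hogC, Nat.gcd_mul_right_left,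
        Nat.mul_div_cancel_left _ (pow_pos hr.pos k)]
    have hcop : Nat.Coprime (Nat.card X) (Nat.card (R : Subgroup C)) := by
      rw [hX, ha]
      exact Nat.Coprime.pow_right a (hr.coprime_iff_not_dvd.2 hm₀).symm
    have hdisj := Subgroup.disjoint_of_coprime_natCard hcop
    have hcardE : Nat.card E' = m₀ * Nat.card (R : Subgroup C) := by
      rw [← hX]
      exact ((Nat.card_prod _ _).symm.trans (Nat.card_congr (Equiv.ofBijective
        (fun z : X × (R : Subgroup C) =>
          (⟨(z.1 : C) * z.2, Subgroup.mul_mem_sup z.1.2 z.2.2⟩ : (X ⊔ R : Subgroup C)))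
        ⟨fun a b h => Subgroup.mul_injective_of_disjoint hdisj (congrArg Subtype.val h), fun e => by
          obtain ⟨c, hc, y, hy, he⟩ := Subgroup.mem_sup_of_normal_left.1 e.2
          exact ⟨(⟨c, hc⟩, ⟨y, hy⟩), Subtype.ext he⟩⟩))).symm
    have hRC : Nat.card (R : Subgroup C) ∣ Nat.card G :=
      (Subgroup.card_subgroup_dvd_card _).trans (Subgroup.card_subgroup_dvd_card C)
    have hRH : Nat.card (R : Subgroup C) ∣ Nat.card H := by
      refine Nat.Coprime.dvd_of_dvd_mul_right ?_ (hmn' ▸ hRC)
      rw [ha]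
      exact Nat.Coprime.pow_left a (hHall.coprime_dvd_left hrH)
    have hm₀H : m₀ ∣ Nat.card H := (dvd_mul_left m₀ (r ^ k)).trans (hord ▸ hgH)
    have hdvdE : Nat.card E' ∣ Nat.card H :=
      hcardE ▸ Nat.Coprime.mul_dvd_of_dvd_of_dvd (hX ▸ hcop) hm₀H hRH
    have hEl : IsElementary r E' := by
      have hxE : gC ^ r ^ k ∈ E' := (le_sup_left : X ≤ E') (Subgroup.mem_zpowers _)
      refine ⟨⟨_, hxE⟩, Subgroup.mem_center_iff.2 fun e => Subtype.ext
        (Subgroup.mem_center_iff.1 (hXc (Subgroup.mem_zpowers _)) e), ?_, a, ?_⟩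
      · rw [Subgroup.orderOf_mk, ← Nat.card_zpowers]
        show (Nat.card X).Coprime r
        rw [hX]
        exact (hr.coprime_iff_not_dvd.2 hm₀).symm
      · have h1 := (Subgroup.zpowers (⟨_, hxE⟩ : E')).card_mul_index
        rw [Nat.card_zpowers, Subgroup.orderOf_mk, ← Nat.card_zpowers] at h1
        rw [← ha]
        refine Nat.eq_of_mul_eq_mul_left (Nat.card_pos (α := X)) ?_
        exact h1.trans (hcardE.trans (by rw [hX]))
    let E := E'.map C.subtype
    obtain ⟨c, hc⟩ := helem E r hr (isElementary_map_subtype r C E' hEl)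
      (by rw [Subgroup.card_map_of_injective C.subtype_injective]; exact hdvdE)
    have hcg : c * (g : G) * c⁻¹ ∈ H := hc ⟨(g : G), ⟨gC, hgE, rfl⟩, rfl⟩
    obtain ⟨t, htH, ht⟩ := hfus _ hcg g g.2 (isConj_iff.2 ⟨c⁻¹, by group⟩)
    let emb : ↥(R : Subgroup C) → CH := fun y => ⟨⟨t * (c * ((y : C) : G) * c⁻¹) * t⁻¹,
      H.mul_mem (H.mul_mem htH (hc ⟨_, ⟨(y : C), (le_sup_right : (R : Subgroup C) ≤ E') y.2, rfl⟩, rfl⟩))
        (H.inv_mem htH)⟩, by
        rw [Subgroup.mem_subgroupOf, Subgroup.mem_centralizer_iff]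
        rintro z rfl
        have hy : (g : G) * ((y : C) : G) = ((y : C) : G) * (g : G) :=
          Subgroup.mem_centralizer_iff.1 (y : C).2 g rfl
        show (g : G) * (t * (c * ((y : C) : G) * c⁻¹) * t⁻¹) =
          t * (c * ((y : C) : G) * c⁻¹) * t⁻¹ * (g : G)
        calc (g : G) * (t * (c * ((y : C) : G) * c⁻¹) * t⁻¹)
            = t * c * ((g : G) * ((y : C) : G)) * c⁻¹ * t⁻¹ := by
              conv_lhs => rw [← ht]
              group
          _ = t * c * (((y : C) : G) * (g : G)) * c⁻¹ * t⁻¹ := by rw [hy]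
          _ = t * (c * ((y : C) : G) * c⁻¹) * t⁻¹ * (t * (c * (g : G) * c⁻¹) * t⁻¹) := by group
          _ = t * (c * ((y : C) : G) * c⁻¹) * t⁻¹ * (g : G) := by rw [ht]⟩
    have hemb : Nat.card (R : Subgroup C) ∣ Nat.card CH := by
      let embHom : (R : Subgroup C) →* CH :=
        { toFun := emb
          map_one' := by ext; simp [emb]
          map_mul' := fun y z => by ext; simp [emb, mul_assoc] }
      refine Subgroup.card_dvd_of_injective embHom ?_
      intro y z hyz
      have h1 : t * (c * ((y : C) : G) * c⁻¹) * t⁻¹ = t * (c * ((z : C) : G) * c⁻¹) * t⁻¹ :=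
        congrArg (fun w : CH => ((w : H) : G)) hyz
      exact Subtype.ext (Subtype.ext (by simpa using h1))
    exact (R.pow_dvd_card_of_pow_dvd_card hj).trans hemb
  -- the class in `G`
  set clsG := (Finset.univ.filter fun x : G => IsConj (g : G) x).card with hclsG
  have hclsG' : clsG * Nat.card C = Nat.card G := by
    rw [← card_conj_mul_card_centralizer (g : G)]
    congr 1
    rw [hclsG, Nat.card_eq_fintype_card, Fintype.card_subtype]
  have hdiv1 : (clsIn H (g : G)).card ∣ clsG := by
    have hC : Nat.card C ∣ Nat.card CH * H.index := by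
      refine (Nat.dvd_iff_prime_pow_dvd_dvd _ _).2 fun r j hr hj => ?_
      by_cases hrH : r ∣ Nat.card H
      · exact dvd_mul_of_dvd_left (hHallC r hr hrH j hj) _
      · refine dvd_mul_of_dvd_right ?_ _
        refine Nat.Coprime.dvd_of_dvd_mul_left ?_ (hmn' ▸ hj.trans (Subgroup.card_subgroup_dvd_card C))
        exact Nat.Coprime.pow_left j (hr.coprime_iff_not_dvd.2 hrH)
    have h1 : clsG * Nat.card C ∣ clsG * (Nat.card CH * H.index) := mul_dvd_mul_left _ hC
    rw [hclsG', hmn', ← hclsH] at h1
    have h2 : (clsIn H (g : G)).card * (Nat.card CH * H.index) ∣ clsG * (Nat.card CH * H.index) := by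
      rw [← mul_assoc]; exact h1
    exact Nat.dvd_of_mul_dvd_mul_right (Nat.mul_pos Nat.card_pos
      (Nat.pos_of_ne_zero H.index_ne_zero_of_finite)) h2
  -- fibres over the class
  set count := (Finset.univ.filter fun x : G => IsConj (part hHall x) (g : G)).card with hcount
  have hfib : count = clsG * (Finset.univ.filter fun x : G => part hHall x = (g : G)).card := by
    rw [hcount, Finset.card_eq_sum_card_fiberwise (f := part hHall)
      (t := Finset.univ.filter fun y : G => IsConj (g : G) y)
      (fun x hx => by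
        exact Finset.mem_coe.2 (Finset.mem_filter.2
          ⟨Finset.mem_univ _, (Finset.mem_filter.1 (Finset.mem_coe.1 hx)).2.symm⟩)),
      hclsG, ← smul_eq_mul, ← Finset.sum_const]
    refine Finset.sum_congr rfl fun y hy => ?_
    obtain ⟨c, hc⟩ := isConj_iff.1 (Finset.mem_filter.1 hy).2
    rw [Finset.filter_filter]
    refine Finset.card_bij' (fun x _ => c⁻¹ * x * c) (fun x _ => c * x * c⁻¹) ?_ ?_ ?_ ?_
    · intro x hx
      simp only [Finset.mem_filter, Finset.mem_univ, true_and] at hx ⊢
      have h1 := part_conj hHall c⁻¹ x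
      rw [inv_inv] at h1
      rw [h1, hx.2, ← hc]; group
    · intro x hx
      simp only [Finset.mem_filter, Finset.mem_univ, true_and] at hx ⊢
      rw [part_conj, hx, hc]
      exact ⟨(isConj_iff.2 ⟨c, hc⟩).symm, rfl⟩
    · intro x _; group
    · intro x _; group
  have hdiv2 : H.index ∣ count := by
    have h1 := dvd_card_section hmn hHall.symm (g : G)
    convert h1 using 3
  refine Nat.Coprime.mul_dvd_of_dvd_of_dvd ?_ hdiv2 (hdiv1.trans ⟨_, hfib⟩)
  exact hHall.symm.coprime_dvd_right ⟨_, hclsH.symm⟩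

theorem sum_part_eq [Fintype H] (hHall : Nat.Coprime (Nat.card H) H.index)
    (hfus : ∀ x ∈ H, ∀ y ∈ H, IsConj x y → ∃ h ∈ H, h * x * h⁻¹ = y)
    (helem : ∀ (E : Subgroup G) (p : ℕ), p.Prime → IsElementary p E → Nat.card E ∣ Nat.card H →
      ∃ g : G, E.map (MulAut.conj g).toMonoidHom ≤ H)
    (rep : G → H) (hrep : ∀ x, IsConj (part hHall x) (rep x : G)) (F : H → ℂ)
    (hF : IsClassFunction H F) :
    ∑ x : G, F (rep x) = (H.index : ℂ) * ∑ h : H, F h := by
  classical
  let cnt : H → ℕ := fun h => (Finset.univ.filter fun x : G => IsConj (part hHall x) (h : G)).card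
  let cl : H → ℕ := fun h => (clsIn H (h : G)).card
  have hcl : ∀ h, 0 < cl h := fun h => Finset.card_pos.2 ⟨h, mem_clsIn.2 (IsConj.refl _)⟩
  choose q hq using fun h : H => exists_section_multiple hHall hfus helem h
  -- double counting
  have hdouble : ∀ F' : H → ℂ, IsClassFunction H F' →
      ∑ x : G, F' (rep x) = ∑ h : H, F' h * ((H.index : ℂ) * q h) := by
    intro F' hF'
    have hx : ∀ x : G, F' (rep x) =
        ∑ h : H, if IsConj (part hHall x) (h : G) then F' h / (cl h : ℂ) else 0 := by
      intro x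
      have hc : ∀ h : H, IsConj (part hHall x) (h : G) →
          F' h = F' (rep x) ∧ cl h = cl (rep x) := by
        intro h hh
        obtain ⟨k, hk, he⟩ := hfus (rep x) (rep x).2 h h.2 ((hrep x).symm.trans hh)
        refine ⟨?_, ?_⟩
        · rw [show h = (⟨k, hk⟩ : H) * rep x * (⟨k, hk⟩ : H)⁻¹ from Subtype.ext he.symm]
          exact hF' _ _
        · simp only [cl, clsIn_congr (isConj_iff.2 ⟨k, he⟩)]
      rw [← Finset.sum_filter, Finset.sum_congr rfl (g := fun _ => F' (rep x) / (cl (rep x) : ℂ))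
        (fun h hh => by
          obtain ⟨e1, e2⟩ := hc h (Finset.mem_filter.1 hh).2
          rw [e1, e2]), Finset.sum_const, nsmul_eq_mul]
      have hcard : (Finset.univ.filter fun h : H => IsConj (part hHall x) (h : G)).card = cl (rep x) := by
        show _ = (clsIn H (rep x : G)).card
        rw [← clsIn_congr (hrep x)]
        congr 1
        ext h
        simp [mem_clsIn]
      rw [hcard]
      have : (cl (rep x) : ℂ) ≠ 0 := Nat.cast_ne_zero.2 (hcl _).ne'
      field_simp
    rw [Finset.sum_congr rfl fun x _ => hx x, Finset.sum_comm]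
    refine Finset.sum_congr rfl fun h _ => ?_
    rw [← Finset.sum_filter, Finset.sum_const, nsmul_eq_mul, hq h]
    have : (cl h : ℂ) ≠ 0 := Nat.cast_ne_zero.2 (hcl h).ne'
    show ((H.index * cl h * q h : ℕ) : ℂ) * (F' h / (cl h : ℂ)) = _
    push_cast
    field_simp
  have hpos : ∀ h : H, 1 ≤ q h := by
    intro h
    refine Nat.pos_of_ne_zero fun h0 => ?_
    have h1 := hq h
    rw [h0, mul_zero, Finset.card_eq_zero] at h1
    have hmem : (h : G) ∈ Finset.univ.filter fun x : G => IsConj (part hHall x) (h : G) := by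
      rw [Finset.mem_filter, part_eq_self hHall (Subgroup.orderOf_dvd_natCard H h.2)]
      exact ⟨Finset.mem_univ _, IsConj.refl _⟩
    rw [h1] at hmem
    simp at hmem
  have hone := hdouble (fun _ => 1) (fun _ _ => rfl)
  simp only [one_mul, Finset.sum_const, Finset.card_univ, nsmul_eq_mul, mul_one,
    ← Finset.mul_sum] at hone
  have hsum : ∑ h : H, q h = Fintype.card H := by
    have h1 : H.index * ∑ h : H, q h = Fintype.card G := by exact_mod_cast hone.symm
    have h2 : H.index * Fintype.card H = Fintype.card G := by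
      rw [← Nat.card_eq_fintype_card, ← Nat.card_eq_fintype_card, H.index_mul_card]
    exact Nat.eq_of_mul_eq_mul_left (Nat.pos_of_ne_zero H.index_ne_zero_of_finite) (h1.trans h2.symm)
  have hq1 : ∀ h : H, q h = 1 := by
    intro h
    have h1 : ∑ _h : H, 1 = ∑ h : H, q h := by rw [hsum]; simp
    exact ((Finset.sum_eq_sum_iff_of_le (fun h _ => hpos h)).1 h1 h (Finset.mem_univ h)).symm
  rw [hdouble F hF, Finset.mul_sum]
  exact Finset.sum_congr rfl fun h _ => by rw [hq1 h, Nat.cast_one, mul_one, mul_comm]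

/-- The transfer theorem of Brauer and Suzuki. -/
theorem brauer_suzuki_complement (hHall : Nat.Coprime (Nat.card H) H.index)
    (hfus : ∀ x ∈ H, ∀ y ∈ H, IsConj x y → ∃ h ∈ H, h * x * h⁻¹ = y)
    (helem : ∀ (E : Subgroup G) (p : ℕ), p.Prime → IsElementary p E → Nat.card E ∣ Nat.card H →
      ∃ g : G, E.map (MulAut.conj g).toMonoidHom ≤ H) :
    ∃ K : Subgroup G, K.Normal ∧ K ⊔ H = ⊤ ∧ K ⊓ H = ⊥ := by
  classical
  have : Fintype H := Fintype.ofFinite H
  have hmn' : Nat.card G = Nat.card H * H.index := H.card_mul_index.symm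
  -- representatives of the `H`-parts
  have hex : ∀ x : G, ∃ h : H, IsConj (part hHall x) (h : G) := by
    intro x
    obtain ⟨p, hple, hp⟩ := Nat.exists_infinite_primes (Nat.card G + 1)
    set y := part hHall x with hy
    have hel : IsElementary p (Subgroup.zpowers y) := by
      refine ⟨⟨y, Subgroup.mem_zpowers y⟩, ?_, ?_, 0, ?_⟩
      · rw [Subgroup.mem_center_iff]
        intro z
        obtain ⟨i, hi⟩ := Subgroup.mem_zpowers_iff.1 z.2
        apply Subtype.ext
        show (z : G) * y = y * z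
        rw [← hi]
        exact (Commute.zpow_self y i).eq
      · rw [Subgroup.orderOf_mk]
        refine (hp.coprime_iff_not_dvd.2 fun hd => ?_).symm
        have := Nat.le_of_dvd Nat.card_pos (hd.trans (orderOf_dvd_natCard y))
        omega
      · rw [pow_zero, Subgroup.index_eq_one, Subgroup.eq_top_iff']
        intro z
        obtain ⟨i, hi⟩ := Subgroup.mem_zpowers_iff.1 z.2
        exact ⟨i, Subtype.ext hi⟩
    obtain ⟨g, hg⟩ := helem _ p hp hel (by rw [Nat.card_zpowers]; exact orderOf_part hmn' hHall x)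
    exact ⟨⟨g * y * g⁻¹, hg ⟨y, Subgroup.mem_zpowers y, rfl⟩⟩, isConj_iff.2 ⟨g, rfl⟩⟩
  choose rep hrep using hex
  -- the extension of a class function
  have hext : ∀ {F : H → ℂ}, IsClassFunction H F → ∀ x (h : H),
      IsConj (part hHall x) (h : G) → F (rep x) = F h := by
    intro F hF x h hh
    obtain ⟨k, hk, he⟩ := hfus (rep x) (rep x).2 h h.2 ((hrep x).symm.trans hh)
    rw [show h = (⟨k, hk⟩ : H) * rep x * (⟨k, hk⟩ : H)⁻¹ from Subtype.ext he.symm]
    exact (hF _ _).symm
  have hcls : ∀ {F : H → ℂ}, IsClassFunction H F → IsClassFunction G (fun x => F (rep x)) := by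
    intro F hF x c
    refine hext hF _ _ ?_
    rw [part_conj]
    exact ((isConj_iff.2 ⟨c, rfl⟩ : IsConj (part hHall x) _).symm).trans (hrep x)
  have hgen : ∀ φ : IrrCharacter H, IsGeneralizedCharacter G (fun x => (φ : H → ℂ) (rep x)) := by
    intro φ
    refine isGeneralizedCharacter_of_elementary (hcls (isClassFunction_irr φ.2))
      fun E p hp hE => isGeneralizedCharacter_of_isCharacter ?_
    obtain ⟨A, B, hcomm, hsurj, hA, hB⟩ :=
      exists_split hp hE (hmn' ▸ Subgroup.card_subgroup_dvd_card E) hHall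
    have hcardA : Nat.card (A.map E.subtype) ∣ Nat.card H := by
      rw [Subgroup.card_map_of_injective E.subtype_injective]
      have hcA : Nat.Coprime (Nat.card A) H.index := by
        refine Nat.coprime_of_dvd' fun r hr hrA hri => ?_
        have := Fact.mk hr
        obtain ⟨a, ha⟩ := exists_prime_orderOf_dvd_card' r hrA
        have h1 : r ∣ Nat.card H := by
          have := hA a a.2
          rw [Subgroup.orderOf_coe] at this
          exact ha ▸ this
        exact absurd (Nat.eq_one_of_dvd_coprimes hHall h1 hri) hr.ne_one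
      refine Nat.Coprime.dvd_of_dvd_mul_right hcA ?_
      rw [← hmn']
      exact (Subgroup.card_subgroup_dvd_card A).trans (Subgroup.card_subgroup_dvd_card E)
    obtain ⟨c, hc⟩ := helem _ p hp
      (isElementary_map_subtype p E A (IsElementary.subgroup hp A hE)) hcardA
    let π : E → E := part hHall
    have hπ : ∀ e : E, π e ∈ A ∧ part hHall (e : G) = (π e : G) := by
      intro e
      obtain ⟨a, ha, b, hb, rfl⟩ := hsurj e
      refine ⟨?_, by simp [π, part]⟩
      show part hHall (a * b) ∈ A
      rw [part_mul hHall (hcomm a ha b hb) (hA a ha) (hB b hb)]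
      exact ha
    have hπmul : ∀ e e' : E, π (e * e') = π e * π e' := by
      intro e e'
      obtain ⟨a, ha, b, hb, rfl⟩ := hsurj e
      obtain ⟨a', ha', b', hb', rfl⟩ := hsurj e'
      show part hHall _ = part hHall _ * part hHall _
      have h1 : a * b * (a' * b') = a * a' * (b * b') := by
        rw [mul_assoc, ← mul_assoc b, ← (hcomm a' ha' b hb).eq]; group
      rw [h1, part_mul hHall (hcomm a ha b hb) (hA a ha) (hB b hb),
        part_mul hHall (hcomm a' ha' b' hb') (hA a' ha') (hB b' hb'),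
        part_mul hHall (hcomm _ (A.mul_mem ha ha') _ (B.mul_mem hb hb')) (hA _ (A.mul_mem ha ha'))
          (hB _ (B.mul_mem hb hb'))]
    let ψ : E →* H := MonoidHom.mk' (fun e => ⟨c * (π e : G) * c⁻¹, hc ⟨_, ⟨π e, (hπ e).1, rfl⟩, rfl⟩⟩)
      (fun e e' => Subtype.ext (by
        show c * (π (e * e') : G) * c⁻¹ = c * (π e : G) * c⁻¹ * (c * (π e' : G) * c⁻¹)
        rw [hπmul]; simp [mul_assoc]))
    have heq : (fun e : E => (φ : H → ℂ) (rep (e : G))) = (φ : H → ℂ) ∘ ψ := by
      funext e
      refine hext (isClassFunction_irr φ.2) _ (ψ e) ?_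
      rw [(hπ e).2]
      exact isConj_iff.2 ⟨c, rfl⟩
    rw [heq]
    exact isCharacter_comap ψ (isCharacter_of_isIrrCharacter φ.2)
  have hrep_self : ∀ φ : IrrCharacter H, ∀ h : H, (φ : H → ℂ) (rep (h : G)) = (φ : H → ℂ) h := by
    intro φ h
    refine hext (isClassFunction_irr φ.2) _ h ?_
    rw [part_eq_self hHall (Subgroup.orderOf_dvd_natCard H h.2)]
  have hirr : ∀ φ : IrrCharacter H, IsIrrCharacter G (fun x => (φ : H → ℂ) (rep x)) := by
    intro φ
    have hnorm : classInner (fun x => (φ : H → ℂ) (rep x)) (fun x => (φ : H → ℂ) (rep x)) = 1 := by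
      have h1 := sum_part_eq hHall hfus helem rep hrep (fun h => (φ : H → ℂ) h * conj ((φ : H → ℂ) h))
        (fun a b => by simp [isClassFunction_irr φ.2 a b])
      have h2 := card_mul_classInner (φ : H → ℂ) φ
      rw [classInner_irr_self φ.2, mul_one] at h2
      rw [classInner, h1, ← h2, hmn', Nat.cast_mul]
      have := card_subgroup_ne_zero H
      have : (H.index : ℂ) ≠ 0 := Nat.cast_ne_zero.2 H.index_ne_zero_of_finite
      field_simp
    obtain ⟨χ, hχ, hcase | hcase⟩ := eq_or_neg_irr_of_norm_one (hgen φ) hnorm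
    · rwa [hcase]
    · exfalso
      obtain ⟨a, ha, ha1⟩ := isIrrCharacter_apply_one hχ
      obtain ⟨b, hb, hb1⟩ := isIrrCharacter_apply_one φ.2
      have h1 := congrFun hcase 1
      have h2 := hrep_self φ 1
      rw [OneMemClass.coe_one] at h2
      rw [h2, hb1, Pi.neg_apply, ha1, eq_neg_iff_add_eq_zero, ← Nat.cast_add, Nat.cast_eq_zero] at h1
      omega
  choose d ρ hρ hρθ using hirr
  let K : Subgroup G := ⨅ φ, MonoidHom.ker (ρ φ)
  have hK : ∀ x, x ∈ K ↔ ((rep x : H) : G) = 1 := by
    intro x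
    simp only [K, Subgroup.mem_iInf, MonoidHom.mem_ker]
    have hφ1 : ∀ φ : IrrCharacter H, (φ : H → ℂ) (rep 1) = (φ : H → ℂ) 1 := fun φ => by
      have := hrep_self φ 1
      rwa [OneMemClass.coe_one] at this
    have hiff : ∀ φ : IrrCharacter H, ρ φ x = 1 ↔ (φ : H → ℂ) (rep x) = (φ : H → ℂ) 1 := by
      intro φ
      rw [show (1 : Module.End ℂ (Fin (d φ) → ℂ)) = LinearMap.id from rfl,
        ← character_eq_finrank_iff, ← Representation.char_one (ρ φ), hρθ φ]
      show (φ : H → ℂ) (rep x) = (φ : H → ℂ) (rep 1) ↔ _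
      rw [hφ1 φ]
    simp only [hiff, ← isConj_iff_forall_irr, isConj_one_left, OneMemClass.coe_eq_one]
  have hKn : K.Normal := by
    refine ⟨fun a ha g => ?_⟩
    rw [hK] at ha ⊢
    have h1 : part hHall a = 1 := by
      have := hrep a
      rwa [ha, isConj_one_left] at this
    have h2 := hrep (g * a * g⁻¹)
    rw [part_conj, h1, mul_one, mul_inv_cancel] at h2
    exact isConj_one_right.1 h2
  have hinf : K ⊓ H = ⊥ := by
    rw [Subgroup.eq_bot_iff_forall]
    rintro x ⟨hxK, hxH⟩
    replace hxK : x ∈ K := hxK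
    rw [hK] at hxK
    have h1 := hrep x
    rw [hxK, isConj_one_left, part_eq_self hHall (Subgroup.orderOf_dvd_natCard H hxH)] at h1
    exact h1
  have hcard : Nat.card K = H.index := by
    have h1 := sum_part_eq hHall hfus helem rep hrep (fun h => if h = 1 then 1 else 0)
      (fun a b => by simp only [conj_eq_one_iff])
    rw [Finset.sum_ite_eq' Finset.univ (1 : H), if_pos (Finset.mem_univ _), mul_one,
      Finset.sum_boole, Nat.cast_inj] at h1
    rw [← h1, Nat.card_eq_fintype_card, ← Fintype.card_subtype]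
    exact Fintype.card_congr (Equiv.subtypeEquivRight fun x => by
      rw [hK, OneMemClass.coe_eq_one])
  refine ⟨K, hKn, ?_, hinf⟩
  refine Subgroup.eq_top_of_card_eq _ (le_antisymm (Subgroup.card_le_card_group _) ?_)
  rw [hmn', mul_comm, ← hcard, ← Nat.card_prod]
  exact Nat.card_le_card_of_injective
    (fun z : K × H => (⟨(z.1 : G) * z.2, Subgroup.mul_mem_sup z.1.2 z.2.2⟩ : (K ⊔ H : Subgroup G)))
    (fun a b hab => Subgroup.mul_injective_of_disjoint (disjoint_iff.2 hinf) (congrArg Subtype.val hab))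

end Transfer

end Cfsg.Agent.BrauerPiSection
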