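import Mathlib

/-!
Elementary arithmetic for the Brauer–Reynolds argument: divisors of `e * (1 + n * p)` which are
congruent to `±1` or `±e` modulo `p`, when `e ∣ p - 1` and `n` is small.
-/

namespace Cfsg.Agent.BrauerReynolds7

theorem no_pos {p e n u v : ℤ} (hep : e ∣ p - 1) (hp : 2 ≤ p) (hn : 2 * n ≤ p + 2) (he : 1 ≤ e)
    (hu : 1 ≤ u) (hv : 1 ≤ v) (h : v * (1 + u * p) = e * (n - u)) : False := by
  obtain ⟨t, ht⟩ := hep
  have hup : 0 < 1 + u * p := by nlinarith
  have hpos : 0 < n - u := by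
    by_contra hc
    push Not at hc
    have := mul_nonpos_of_nonneg_of_nonpos (by linarith : (0 : ℤ) ≤ e) hc
    have := mul_pos (by linarith : (0 : ℤ) < v) hup
    linarith
  have h1 : (1 + u) * (n - u) = (1 + u * p) * (n - u - u * t * v) := by
    have : p = 1 + e * t := by linarith
    subst this
    linear_combination (u * t) * h
  have h2 : 1 ≤ n - u - u * t * v := by
    by_contra hc
    push Not at hc
    have : (1 + u * p) * (n - u - u * t * v) ≤ 0 :=
      mul_nonpos_of_nonneg_of_nonpos (by nlinarith) (by linarith)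
    nlinarith
  have h3 : 1 + u * p ≤ (1 + u) * (n - u) := h1 ▸ le_mul_of_one_le_right hup.le h2
  nlinarith [mul_nonneg (by linarith : (0 : ℤ) ≤ 1 + u) (by linarith : (0 : ℤ) ≤ p + 2 - 2 * n),
    mul_nonneg (by linarith : (0 : ℤ) ≤ u - 1) (by linarith : (0 : ℤ) ≤ p), mul_pos (by linarith : (0 : ℤ) < u) (by linarith : (0 : ℤ) < u)]

theorem int_one_add_mul {p f : ℤ} (hp : 2 ≤ p) (hf : 1 ≤ f) (h : p ∣ f - 1) :
    ∃ u, 0 ≤ u ∧ f = 1 + u * p := by
  obtain ⟨u, hu⟩ := h
  exact ⟨u, by nlinarith, by linarith⟩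

theorem nat_deg_pos {p e n f : ℕ} (hp : p.Prime) (hep : e ∣ p - 1) (he : 0 < e)
    (hn : 2 * n ≤ p + 2) (hf : (f : ℤ) ≡ 1 [ZMOD p]) (hf1 : 1 < f) (hdvd : f ∣ e * (1 + n * p)) :
    f = 1 + n * p := by
  obtain ⟨g, hg⟩ := hdvd
  have hp2 : (2 : ℤ) ≤ p := by exact_mod_cast hp.two_le
  obtain ⟨u, hu0, hu⟩ := int_one_add_mul hp2 (by exact_mod_cast hf1.le) (Int.ModEq.dvd hf.symm)
  have hu1 : 1 ≤ u := by
    by_contra hc
    have : u = 0 := by omega
    subst this
    omega
  have hg' : (e : ℤ) * (1 + n * p) = f * g := by exact_mod_cast hg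
  have hdz : (p : ℤ) ∣ (g : ℤ) - e :=
    ⟨e * n - u * g, by rw [hu] at hg'; linear_combination -hg'⟩
  obtain ⟨v, hv⟩ := hdz
  have hep' : (e : ℤ) ≤ p - 1 := by
    have := Nat.le_of_dvd (by have := hp.two_le; omega) hep
    have := hp.two_le
    omega
  have hv0 : 0 ≤ v := by
    by_contra hc
    have hg0 : (0 : ℤ) ≤ g := Int.natCast_nonneg g
    nlinarith
  have heq : v * (1 + u * p) + u * e = e * n := by
    have hgv : (g : ℤ) = e + p * v := by linarith
    rw [hu, hgv] at hg'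
    have hp0 : (p : ℤ) ≠ 0 := by omega
    apply mul_left_cancel₀ hp0
    linear_combination -hg'
  rcases hv0.eq_or_lt with hv1 | hv1
  · subst hv1
    have hun : u = n := by
      have he0 : (e : ℤ) ≠ 0 := by exact_mod_cast he.ne'
      apply mul_left_cancel₀ he0
      linarith
    subst hun
    exact_mod_cast hu
  · exfalso
    have hep2 : (e : ℤ) ∣ (p : ℤ) - 1 := by
      have := Int.natCast_dvd_natCast.2 hep
      rwa [Nat.cast_sub hp.one_le, Nat.cast_one] at this
    exact no_pos (n := (n : ℤ)) hep2 hp2 (by exact_mod_cast hn) (by exact_mod_cast he) hu1 hv1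
      (by linear_combination heq)

theorem no_neg {p e n u v : ℤ} (hep : e ∣ p - 1) (hp : 3 ≤ p) (hn : 2 * n ≤ p + 2) (hn1 : 1 ≤ n)
    (he : 1 ≤ e) (hu : 2 ≤ u) (hv : 1 ≤ v) (h : v * (u * p - 1) = e * (n + u))
    (hsq : (u * p - 1) * (u * p - 1) < p * e * (1 + n * p)) : False := by
  obtain ⟨t, ht⟩ := hep
  have ht1 : 1 ≤ t := by nlinarith
  have h1 : (u - 1) * (n + u) = (u * p - 1) * (n + u - u * t * v) := by
    have : p = 1 + e * t := by linarith
    subst this
    linear_combination (u * t) * h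
  have h2 : 1 ≤ n + u - u * t * v := by
    by_contra hc
    push Not at hc
    have : (u * p - 1) * (n + u - u * t * v) ≤ 0 :=
      mul_nonpos_of_nonneg_of_nonpos (by nlinarith) (by linarith)
    nlinarith
  have he' : e ≤ p - 1 := by nlinarith
  have hub : 2 * ((u * p - 1) * (u * p - 1)) < p * (p - 1) * (2 + (p + 2) * p) := by
    have : e * (2 * (1 + n * p)) ≤ (p - 1) * (2 + (p + 2) * p) :=
      mul_le_mul he' (by nlinarith) (by nlinarith) (by linarith)
    nlinarith
  rcases h2.eq_or_lt with hm | hm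
  · rw [← hm, mul_one] at h1
    have h4 : (u - 1) * (n + u - p) = p - 1 := by linarith
    set s := u - 1 with hs
    have hs1 : 1 ≤ s := by omega
    have hr : 1 ≤ n + u - p := by
      by_contra hc
      push Not at hc
      nlinarith
    have hr2 : n + u - p < 2 := by
      by_contra hc
      push Not at hc
      nlinarith [mul_nonneg (by linarith : (0 : ℤ) ≤ s + 2) (by linarith : (0 : ℤ) ≤ n + u - p - 2)]
    have hr3 : n + u - p = 1 := by omega
    rw [hr3, mul_one] at h4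
    have hup : u = p := by omega
    have hn' : n = 1 := by omega
    subst hup hn'
    nlinarith
  · have h3 : 2 * (u * p - 1) ≤ (u - 1) * (n + u) := by
      rw [h1, mul_comm 2]
      exact mul_le_mul_of_nonneg_left (by omega) (by nlinarith)
    have h5 : 2 * p < n + u := by
      by_contra hc
      push Not at hc
      have := mul_le_mul_of_nonneg_left hc (by linarith : (0 : ℤ) ≤ u - 1)
      nlinarith
    have h6 : 3 * p - 1 ≤ 2 * u := by omega
    have h7 : (3 * p - 1) * p - 2 ≤ 2 * (u * p - 1) := by nlinarith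
    have h8 : ((3 * p - 1) * p - 2) * ((3 * p - 1) * p - 2) ≤
        (2 * (u * p - 1)) * (2 * (u * p - 1)) :=
      mul_self_le_mul_self (by nlinarith) h7
    have h9 : 2 * (p * (p - 1) * (2 + (p + 2) * p)) ≤
        ((3 * p - 1) * p - 2) * ((3 * p - 1) * p - 2) := by nlinarith [mul_pos (by linarith : (0:ℤ) < p) (by linarith : (0:ℤ) < p), sq_nonneg (p * p - 3 * p)]
    nlinarith

theorem nat_deg_neg {p e n f : ℕ} (hp : p.Prime) (hp3 : 3 ≤ p) (hep : e ∣ p - 1) (he : 0 < e)
    (hn : 2 * n ≤ p + 2) (hn1 : 1 ≤ n) (hf : (f : ℤ) ≡ -1 [ZMOD p]) (hdvd : f ∣ e * (1 + n * p))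
    (hsq : f * f < p * e * (1 + n * p)) : f = p - 1 := by
  obtain ⟨g, hg⟩ := hdvd
  obtain ⟨u, hu⟩ : (p : ℤ) ∣ f - (-1) := Int.ModEq.dvd hf.symm
  have hu' : (f : ℤ) = u * p - 1 := by linarith
  have hg' : (e : ℤ) * (1 + n * p) = f * g := by exact_mod_cast hg
  have hp3' : (3 : ℤ) ≤ p := by exact_mod_cast hp3
  have hf0 : f ≠ 0 := by
    rintro rfl
    rw [zero_mul] at hg
    have : 0 < e * (1 + n * p) := by positivity
    omega
  have hu1 : 1 ≤ u := by
    by_contra hc
    push Not at hc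
    have : (0 : ℤ) < f := by exact_mod_cast Nat.pos_of_ne_zero hf0
    nlinarith
  rcases hu1.eq_or_lt with h1 | h1
  · subst h1
    omega
  exfalso
  obtain ⟨v, hv⟩ : (p : ℤ) ∣ (g : ℤ) + e :=
    ⟨u * g - e * n, by rw [hu'] at hg'; linear_combination hg'⟩
  have hv1 : 1 ≤ v := by
    by_contra hc
    push Not at hc
    have : (0 : ℤ) ≤ g := Int.natCast_nonneg g
    have : (1 : ℤ) ≤ e := by exact_mod_cast he
    nlinarith
  have hep2 : (e : ℤ) ∣ (p : ℤ) - 1 := by
    have := Int.natCast_dvd_natCast.2 hep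
    rwa [Nat.cast_sub hp.one_le, Nat.cast_one] at this
  have heq : v * (u * p - 1) = e * (n + u) := by
    have hgv : (g : ℤ) = p * v - e := by linarith
    rw [hu', hgv] at hg'
    have hp0 : (p : ℤ) ≠ 0 := by omega
    apply mul_left_cancel₀ hp0
    linear_combination -hg'
  refine no_neg (n := (n : ℤ)) hep2 hp3' (by exact_mod_cast hn) (by exact_mod_cast hn1) (by exact_mod_cast he)
    (by omega) hv1 heq ?_
  rw [← hu']
  exact_mod_cast hsq

/-- The exceptional degree cannot be `e + w p` with `w` positive. -/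
theorem no_exc_pos {p e n w : ℕ} (hp : p.Prime) (hep : e ∣ p - 1) (he : 0 < e)
    (hn : 2 * n ≤ p + 2) (hn1 : 1 ≤ n) (hw : 1 ≤ w) (hwle : w ≤ (e - 1) * n)
    (hdvd : e + w * p ∣ e * (1 + n * p)) : False := by
  obtain ⟨g, hg⟩ := hdvd
  have hg' : (e : ℤ) * (1 + n * p) = ((e : ℤ) + w * p) * g := by exact_mod_cast hg
  have hp2 : (2 : ℤ) ≤ p := by exact_mod_cast hp.two_le
  have hep' : (e : ℤ) ≤ p - 1 := by
    have := Nat.le_of_dvd (by have := hp.two_le; omega) hep
    have := hp.two_le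
    omega
  have hg1 : (p : ℤ) ∣ (g : ℤ) - 1 := by
    have h1 : (p : ℤ) ∣ (e : ℤ) * ((g : ℤ) - 1) := ⟨e * n - w * g, by linear_combination -hg'⟩
    refine (Int.Prime.dvd_mul' hp h1).resolve_left fun h => ?_
    have := Int.le_of_dvd (by exact_mod_cast he) h
    omega
  obtain ⟨v, hv⟩ := hg1
  have hv0 : 0 ≤ v := by
    by_contra hc
    have : (0 : ℤ) ≤ g := Int.natCast_nonneg g
    nlinarith
  have hwle' : (w : ℤ) ≤ ((e : ℤ) - 1) * n := by
    have : ((w : ℕ) : ℤ) ≤ (((e - 1) * n : ℕ) : ℤ) := by exact_mod_cast hwle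
    push_cast [Nat.cast_sub (show 1 ≤ e by omega)] at this
    linarith
  have heq : v * ((e : ℤ) + w * p) + w = e * n := by
    have hgv : (g : ℤ) = 1 + p * v := by linarith
    rw [hgv] at hg'
    have hp0 : (p : ℤ) ≠ 0 := by omega
    apply mul_left_cancel₀ hp0
    linear_combination -hg'
  rcases hv0.eq_or_lt with hv1 | hv1
  · subst hv1
    have : (1 : ℤ) ≤ n := by exact_mod_cast hn1
    nlinarith
  · have hep2 : (e : ℤ) ∣ (p : ℤ) - 1 := by
      have := Int.natCast_dvd_natCast.2 hep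
      rwa [Nat.cast_sub hp.one_le, Nat.cast_one] at this
    exact no_pos (n := (n : ℤ)) (u := v) (v := (w : ℤ)) hep2 hp2 (by exact_mod_cast hn)
      (by exact_mod_cast he) hv1 (by exact_mod_cast hw) (by linear_combination heq)

/-- The exceptional degree `k p - e` has cofactor `p - 1`. -/
theorem exc_neg {p e n k : ℕ} (hp : p.Prime) (hep : e ∣ p - 1) (he : 0 < e) (h2e : 2 * e ≤ p - 1)
    (hn : 2 * n ≤ p + 1) (hk : 1 ≤ k) {D : ℕ} (hD : (D : ℤ) = k * p - e)
    (hdvd : D ∣ e * (1 + n * p)) : k * (p - 1) = e * (n + 1) := by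
  obtain ⟨g, hg⟩ := hdvd
  have hg' : (e : ℤ) * (1 + n * p) = ((k : ℤ) * p - e) * g := by
    rw [← hD]; exact_mod_cast hg
  have hep' : 2 * (e : ℤ) ≤ p - 1 := by have := hp.two_le; omega
  have hp3 : (3 : ℤ) ≤ p := by omega
  have hg1 : (p : ℤ) ∣ (g : ℤ) + 1 := by
    have h1 : (p : ℤ) ∣ (e : ℤ) * ((g : ℤ) + 1) := ⟨k * g - e * n, by linear_combination hg'⟩
    refine (Int.Prime.dvd_mul' hp h1).resolve_left fun h => ?_
    have := Int.le_of_dvd (by exact_mod_cast he) h
    omega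
  obtain ⟨v, hv⟩ := hg1
  have hv1 : 1 ≤ v := by
    by_contra hc
    have : (0 : ℤ) ≤ g := Int.natCast_nonneg g
    nlinarith
  have heq : (k : ℤ) * (v * p - 1) = e * (n + v) := by
    have hgv : (g : ℤ) = p * v - 1 := by linarith
    rw [hgv] at hg'
    have hp0 : (p : ℤ) ≠ 0 := by omega
    apply mul_left_cancel₀ hp0
    linear_combination -hg'
  rcases hv1.eq_or_lt with h1 | h1
  · subst h1
    have h3 : ((k * (p - 1) : ℕ) : ℤ) = ((e * (n + 1) : ℕ) : ℤ) := by
      push_cast [Nat.cast_sub hp.one_le]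
      linear_combination heq
    exact_mod_cast h3
  exfalso
  obtain ⟨t, ht⟩ := hep
  have htz : (p : ℤ) = 1 + e * t := by
    have := hp.one_le
    have : p = 1 + e * t := by omega
    exact_mod_cast this
  have h4 : (v - 1) * ((n : ℤ) + v) = (v * p - 1) * ((n : ℤ) + v - v * t * k) := by
    rw [htz] at heq ⊢
    linear_combination ((v : ℤ) * t) * heq
  have h5 : 1 ≤ (n : ℤ) + v - v * t * k := by
    by_contra hc
    push Not at hc
    have : (v * p - 1) * ((n : ℤ) + v - v * t * k) ≤ 0 :=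
      mul_nonpos_of_nonneg_of_nonpos (by nlinarith) (by linarith)
    nlinarith
  have h6 : v * p - 1 ≤ (v - 1) * ((n : ℤ) + v) := by rw [h4]; nlinarith
  have h7 : (p : ℤ) + 1 ≤ n + v := by
    by_contra hc
    push Not at hc
    nlinarith [mul_le_mul_of_nonneg_left (show (n : ℤ) + v ≤ p by omega) (show (0 : ℤ) ≤ v - 1 by omega)]
  have h8 : 2 * (v * p - 1) ≤ ((p : ℤ) - 1) * (n + v) := by
    have : (1 : ℤ) ≤ k := by exact_mod_cast hk
    have h9 : v * p - 1 ≤ (k : ℤ) * (v * p - 1) := le_mul_of_one_le_left (by nlinarith) this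
    nlinarith
  have h10 : 2 * (n : ℤ) ≤ p + 1 := by exact_mod_cast hn
  have h11 := mul_le_mul_of_nonneg_right (show (p : ℤ) + 1 - n ≤ v by omega) (show (0 : ℤ) ≤ p + 1 by omega)
  nlinarith

end Cfsg.Agent.BrauerReynolds7
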