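import Cfsg.Agent.Lib.DefectOneShape7
import Cfsg.Agent.Lib.BrauerReynolds7Arith

/-!
# Groups with a self-centralizing Sylow subgroup of prime order

Elementary facts and the splitting of a sum of a class function into its `p`-regular and
`p`-singular parts.
-/

set_option autoImplicit false

open Finset
open scoped ComplexConjugate

namespace Cfsg.Agent.BrauerReynolds7

open Cfsg Cfsg.Agent.CharBasic Cfsg.Agent.CharBasicOrth Cfsg.Agent.DefectOneSign7

attribute [local instance] Classical.propDecidable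

universe u

variable {G : Type u} [Group G] [Fintype G] {p : ℕ}

/-- The non-identity elements of `P`. -/
noncomputable def Ps (P : Sylow p G) : Finset G :=
  Finset.univ.filter fun y => y ∈ (P : Subgroup G) ∧ y ≠ 1

/-- The `p`-regular elements. -/
noncomputable def Rs (p : ℕ) : Finset G := Finset.univ.filter fun g => ¬ p ∣ orderOf g

/-- The elements of a subgroup. -/
noncomputable def els (H : Subgroup G) : Finset G := Finset.univ.filter fun g => g ∈ H

theorem mem_Ps {P : Sylow p G} {y : G} : y ∈ Ps P ↔ y ∈ (P : Subgroup G) ∧ y ≠ 1 := by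
  simp [Ps]

theorem mem_Rs {g : G} : g ∈ Rs p ↔ ¬ p ∣ orderOf g := by simp [Rs]

theorem mem_els {H : Subgroup G} {g : G} : g ∈ els H ↔ g ∈ H := by simp [els]

theorem card_els (H : Subgroup G) : (els H).card = Nat.card H := by
  rw [els, ← Fintype.card_subtype, ← Nat.card_eq_fintype_card]

theorem sum_els (H : Subgroup G) [Fintype H] (f : G → ℂ) :
    ∑ x ∈ els H, f x = ∑ x : H, f x :=
  Finset.sum_subtype (els H) (fun _ => mem_els) f

/-- The average of a character over a subgroup is a natural number. -/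
theorem exists_nat_avg (H : Subgroup G) {χ : G → ℂ} (hχ : IsCharacter G χ) :
    ∃ c : ℕ, ∑ x ∈ els H, χ x = (Nat.card H : ℂ) * c := by
  obtain ⟨c, hc⟩ := classInner_isCharacter (isCharacter_comap H.subtype hχ)
    (CharBasicDecomp.isCharacter_one (G := H))
  refine ⟨c, ?_⟩
  rw [← hc, card_mul_classInner, sum_els]
  simp

theorem sum_deg_mul (x : G) :
    ∑ χ : IrrCharacter G, (χ : G → ℂ) x * (charDegree (χ : G → ℂ) : ℂ) =
      if x = 1 then (Nat.card G : ℂ) else 0 := by
  have h := sum_irr_mul_conj (G := G) x 1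
  have hc : Nat.card (Subgroup.centralizer ({1} : Set G)) = Nat.card G := by
    rw [Subgroup.centralizer_eq_top_iff_subset.2 (by simp), Subgroup.card_top]
  calc ∑ χ : IrrCharacter G, (χ : G → ℂ) x * (charDegree (χ : G → ℂ) : ℂ)
      = ∑ χ : IrrCharacter G, (χ : G → ℂ) x * conj ((χ : G → ℂ) 1) := by
        refine Finset.sum_congr rfl fun χ _ => ?_
        rw [ClassAlgebraVal.apply_one_eq_charDegree, map_natCast]
    _ = _ := by
        rw [h]
        by_cases hx : x = 1
        · subst hx; rw [if_pos (IsConj.refl _), if_pos rfl, hc]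
        · rw [if_neg (fun e => hx (isConj_one_left.1 e)), if_neg hx]

variable [Fact p.Prime] {P : Sylow p G}

theorem orderOf_mem (hP : Nat.card P = p) {y : G} (hy : y ∈ Ps P) : orderOf y = p := by
  obtain ⟨hy, hy1⟩ := mem_Ps.1 hy
  rw [← Nat.card_zpowers, zpowers_eq P hP hy hy1]
  exact hP

theorem exists_mem_Ps (hP : Nat.card P = p) : ∃ y, y ∈ Ps P := by
  haveI : Nontrivial (P : Subgroup G) := Finite.one_lt_card_iff_nontrivial.1
    (by rw [show Nat.card (P : Subgroup G) = p from hP]; exact (Fact.out : p.Prime).one_lt)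
  obtain ⟨⟨y, hy⟩, hy1⟩ := exists_ne (1 : (P : Subgroup G))
  exact ⟨y, mem_Ps.2 ⟨hy, fun h => hy1 (Subtype.ext h)⟩⟩

theorem card_Ps (hP : Nat.card P = p) : (Ps P).card = p - 1 := by
  have h : Ps P = (els (P : Subgroup G)).erase 1 := by
    ext y; simp [mem_Ps, mem_els, and_comm]
  rw [h, Finset.card_erase_of_mem (mem_els.2 (one_mem _)), card_els,
    show Nat.card (P : Subgroup G) = p from hP]

theorem sum_els_P (f : G → ℂ) :
    ∑ x ∈ els (P : Subgroup G), f x = f 1 + ∑ y ∈ Ps P, f y := by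
  have h : Ps P = (els (P : Subgroup G)).erase 1 := by
    ext y; simp [mem_Ps, mem_els, and_comm]
  rw [h, Finset.add_sum_erase _ _ (mem_els.2 (one_mem _))]

theorem card_normalizer_eq (hP : Nat.card P = p) (e : ℕ)
    (he : (Subgroup.centralizer ((P : Subgroup G) : Set G)).relIndex
      (Subgroup.normalizer ((P : Subgroup G) : Set G)) = e) :
    Nat.card (Subgroup.normalizer ((P : Subgroup G) : Set G)) =
      e * Nat.card (Subgroup.centralizer ((P : Subgroup G) : Set G)) := by
  rw [← he, ← Subgroup.relIndex_bot_left, ← Subgroup.relIndex_bot_left, mul_comm,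
    Subgroup.relIndex_mul_relIndex _ _ _ bot_le (Subgroup.centralizer_le_normalizer _)]

variable (hP : Nat.card P = p)
  (hC : Subgroup.centralizer ((P : Subgroup G) : Set G) = (P : Subgroup G))
include hP hC

theorem card_normalizer (e : ℕ)
    (he : (Subgroup.centralizer ((P : Subgroup G) : Set G)).relIndex
      (Subgroup.normalizer ((P : Subgroup G) : Set G)) = e) :
    Nat.card (Subgroup.normalizer ((P : Subgroup G) : Set G)) = p * e := by
  rw [card_normalizer_eq hP e he, hC, show Nat.card (P : Subgroup G) = p from hP, mul_comm]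

theorem card_group (e : ℕ)
    (he : (Subgroup.centralizer ((P : Subgroup G) : Set G)).relIndex
      (Subgroup.normalizer ((P : Subgroup G) : Set G)) = e) :
    Nat.card G = Nat.card (Sylow p G) * (p * e) := by
  rw [P.card_eq_index_normalizer, ← card_normalizer hP hC e he]
  exact (Subgroup.index_mul_card _).symm

theorem centralizer_Ps {y : G} (hy : y ∈ Ps P) :
    Subgroup.centralizer ({y} : Set G) = (P : Subgroup G) :=
  (centralizer_singleton_eq P hP (mem_Ps.1 hy).1 (mem_Ps.1 hy).2).trans hC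

theorem mem_P_of_comm {y : G} (hy : y ∈ Ps P) {g : G} (h : g * y = y * g) :
    g ∈ (P : Subgroup G) := by
  rw [← centralizer_Ps hP hC hy]
  exact Subgroup.mem_centralizer_singleton_iff.2 h

/-- A `p`-singular element of the normalizer lies in `P`. -/
theorem singular_mem {g : G} (hg : g ∈ Subgroup.normalizer ((P : Subgroup G) : Set G))
    (hd : p ∣ orderOf g) : g ∈ Ps P := by
  obtain ⟨m, hm⟩ := hd
  have hm0 : m ≠ 0 := by
    rintro rfl; rw [mul_zero] at hm; exact (orderOf_pos g).ne' hm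
  have hord : orderOf (g ^ m) = p := by
    rw [orderOf_pow' _ hm0, hm, Nat.gcd_mul_left_left,
      Nat.mul_div_cancel _ (Nat.pos_of_ne_zero hm0)]
  have hpg : IsPGroup p (Subgroup.zpowers (g ^ m)) :=
    IsPGroup.of_card (n := 1) (by rw [Nat.card_zpowers, hord, pow_one])
  have hle : (P : Subgroup G) ⊔ Subgroup.zpowers (g ^ m) = P :=
    P.is_maximal' (IsPGroup.to_sup_of_normal_left' P.isPGroup' hpg
      (Subgroup.zpowers_le.2 (pow_mem hg m))) le_sup_left
  have hmem : g ^ m ∈ (P : Subgroup G) :=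
    hle ▸ Subgroup.mem_sup_right (Subgroup.mem_zpowers _)
  have hne : g ^ m ≠ 1 := fun h => (Fact.out : p.Prime).ne_one (by rw [← hord, h, orderOf_one])
  refine mem_Ps.2 ⟨mem_P_of_comm hP hC (mem_Ps.2 ⟨hmem, hne⟩) ?_, ?_⟩
  · rw [← pow_succ', ← pow_succ]
  · rintro rfl; exact hne (one_pow m)

/-- Every `p`-singular element is conjugate to a non-identity element of `P`. -/
theorem exists_conj_Ps {g : G} (hd : p ∣ orderOf g) : ∃ x : G, x * g * x⁻¹ ∈ Ps P := by
  obtain ⟨m, hm⟩ := hd
  have hm0 : m ≠ 0 := by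
    rintro rfl; rw [mul_zero] at hm; exact (orderOf_pos g).ne' hm
  have hord : orderOf (g ^ m) = p := by
    rw [orderOf_pow' _ hm0, hm, Nat.gcd_mul_left_left,
      Nat.mul_div_cancel _ (Nat.pos_of_ne_zero hm0)]
  obtain ⟨Q, hQ⟩ := (IsPGroup.of_card (n := 1) (G := Subgroup.zpowers (g ^ m))
    (by rw [Nat.card_zpowers, hord, pow_one])).exists_le_sylow
  obtain ⟨x, hx⟩ := MulAction.exists_smul_eq G Q P
  have hmem : x * g ^ m * x⁻¹ ∈ (P : Subgroup G) := by
    rw [← hx, Sylow.coe_subgroup_smul]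
    exact ⟨g ^ m, hQ (Subgroup.mem_zpowers _), rfl⟩
  have hne : x * g ^ m * x⁻¹ ≠ 1 := by
    intro h
    rw [conj_eq_one_iff] at h
    exact (Fact.out : p.Prime).ne_one (by rw [← hord, h, orderOf_one])
  have hy : x * g ^ m * x⁻¹ ∈ Ps P := mem_Ps.2 ⟨hmem, hne⟩
  refine ⟨x, mem_Ps.2 ⟨mem_P_of_comm hP hC hy ?_, fun h => ?_⟩⟩
  · rw [conj_mul, conj_mul, ← pow_succ', ← pow_succ]
  · rw [conj_eq_one_iff] at h
    subst h
    exact hne (by simp)

theorem dvd_orderOf_Ps {g x : G} (h : x * g * x⁻¹ ∈ Ps P) : p ∣ orderOf g := by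
  have h1 := orderOf_mem hP h
  rw [show x * g * x⁻¹ = MulAut.conj x g from rfl, MulEquiv.orderOf_eq] at h1
  exact dvd_of_eq h1.symm

/-- The elements conjugating a singular element into `P` form a coset of the normalizer. -/
theorem card_conj_Ps {g : G} (hd : p ∣ orderOf g) :
    (Finset.univ.filter fun x : G => x * g * x⁻¹ ∈ Ps P).card =
      Nat.card (Subgroup.normalizer ((P : Subgroup G) : Set G)) := by
  obtain ⟨x₀, hx₀⟩ := exists_conj_Ps hP hC hd
  rw [← card_els]
  refine Finset.card_nbij' (fun x => x * x₀⁻¹) (fun w => w * x₀) ?_ ?_ ?_ ?_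
  · intro x hx
    simp only [Finset.coe_filter, Finset.mem_univ, true_and, Set.mem_setOf_eq] at hx
    rw [Finset.mem_coe, mem_els, Subgroup.mem_normalizer_iff_map_conj_eq]
    have h : MulAut.conj (x * x₀⁻¹) (x₀ * g * x₀⁻¹) = x * g * x⁻¹ := by simp; group
    rw [← zpowers_eq P hP (mem_Ps.1 hx₀).1 (mem_Ps.1 hx₀).2, MonoidHom.map_zpowers]
    rw [show ((MulAut.conj (x * x₀⁻¹)) : G →* G) (x₀ * g * x₀⁻¹) = x * g * x⁻¹ from h,
      zpowers_eq P hP (mem_Ps.1 hx).1 (mem_Ps.1 hx).2,
      zpowers_eq P hP (mem_Ps.1 hx₀).1 (mem_Ps.1 hx₀).2]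
  · intro w hw
    rw [Finset.mem_coe, mem_els] at hw
    simp only [Finset.coe_filter, Finset.mem_univ, true_and, Set.mem_setOf_eq]
    refine mem_Ps.2 ⟨?_, ?_⟩
    · rw [show w * x₀ * g * (w * x₀)⁻¹ = w * (x₀ * g * x₀⁻¹) * w⁻¹ by group]
      exact (Subgroup.mem_normalizer_iff.1 hw _).1 (mem_Ps.1 hx₀).1
    · rw [show w * x₀ * g * (w * x₀)⁻¹ = w * (x₀ * g * x₀⁻¹) * w⁻¹ by group, ne_eq, conj_eq_one_iff]
      exact (mem_Ps.1 hx₀).2
  · intro x _; simp
  · intro w _; simp

/-- A sum of a class function, split into the `p`-regular and `p`-singular elements. -/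
theorem sum_split {f : G → ℂ} (hf : IsClassFunction G f) :
    ∑ g : G, f g = ∑ g ∈ Rs p, f g + (Nat.card (Sylow p G) : ℂ) * ∑ y ∈ Ps P, f y := by
  set N := Subgroup.normalizer ((P : Subgroup G) : Set G) with hN
  set S := Finset.univ.filter fun g : G => p ∣ orderOf g with hS
  have hsplit : ∑ g : G, f g = ∑ g ∈ Rs p, f g + ∑ g ∈ S, f g := by
    rw [Rs, hS, add_comm, Finset.sum_filter_add_sum_filter_not]
  have hdouble : (Nat.card N : ℂ) * ∑ g ∈ S, f g = (Nat.card G : ℂ) * ∑ y ∈ Ps P, f y := by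
    calc (Nat.card N : ℂ) * ∑ g ∈ S, f g
        = ∑ g ∈ S, ∑ x : G, if x * g * x⁻¹ ∈ Ps P then f (x * g * x⁻¹) else 0 := by
          rw [Finset.mul_sum]
          refine Finset.sum_congr rfl fun g hg => ?_
          rw [← Finset.sum_filter, Finset.sum_congr rfl fun x _ => hf g x, Finset.sum_const,
            card_conj_Ps hP hC (Finset.mem_filter.1 hg).2, nsmul_eq_mul]
      _ = ∑ x : G, ∑ y ∈ Ps P, f y := by
          rw [Finset.sum_comm]
          refine Finset.sum_congr rfl fun x _ => ?_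
          rw [← Finset.sum_filter]
          refine Finset.sum_nbij' (fun g => x * g * x⁻¹) (fun y => x⁻¹ * y * x) ?_ ?_ ?_ ?_ ?_
          · intro g hg; exact (Finset.mem_filter.1 hg).2
          · intro y hy
            have h : x * (x⁻¹ * y * x) * x⁻¹ = y := by group
            have hy' : x * (x⁻¹ * y * x) * x⁻¹ ∈ Ps P := by rwa [h]
            simp only [Finset.coe_filter, Set.mem_setOf_eq, hS, Finset.mem_filter,
              Finset.mem_univ, true_and]
            exact ⟨dvd_orderOf_Ps hP hC hy', hy'⟩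
          · intro g _; simp [mul_assoc]
          · intro y _; simp [mul_assoc]
          · intro g _; rfl
      _ = _ := by rw [Finset.sum_const, Finset.card_univ, nsmul_eq_mul, Nat.card_eq_fintype_card]
  have hidx : Nat.card G = Nat.card (Sylow p G) * Nat.card N := by
    rw [P.card_eq_index_normalizer, hN]
    exact (Subgroup.index_mul_card _).symm
  rw [hsplit]
  congr 1
  apply mul_left_cancel₀ (Nat.cast_ne_zero.2 (Nat.card_pos (α := N)).ne' : (Nat.card N : ℂ) ≠ 0)
  rw [hdouble, hidx]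
  push_cast
  ring

/-- A sum over the normalizer, split into regular and singular elements. -/
theorem sum_split_normalizer (f : G → ℂ) :
    ∑ x ∈ els (Subgroup.normalizer ((P : Subgroup G) : Set G)), f x =
      ∑ x ∈ (els (Subgroup.normalizer ((P : Subgroup G) : Set G))).filter (fun x => ¬ p ∣ orderOf x),
        f x + ∑ y ∈ Ps P, f y := by
  rw [← Finset.sum_filter_not_add_sum_filter _ (fun x => p ∣ orderOf x)]
  congr 1
  refine Finset.sum_congr (Finset.ext fun x => ?_) fun _ _ => rfl
  simp only [Finset.mem_filter, mem_els]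
  refine ⟨fun h => singular_mem hP hC h.1 h.2, fun h => ⟨?_, dvd_of_eq (orderOf_mem hP h).symm⟩⟩
  exact Subgroup.le_normalizer (mem_Ps.1 h).1

end Cfsg.Agent.BrauerReynolds7
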