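import Cfsg.Agent.Lib.BrauerReynolds7Base
import Cfsg.Agent.Lib.BrauerBlocksRegFun

/-!
# The principal block when the Sylow subgroup of prime order is self-centralizing
-/

set_option autoImplicit false

open Finset
open scoped ComplexConjugate

namespace Cfsg.Agent.BrauerReynolds7

open Cfsg Cfsg.Agent.CharBasic Cfsg.Agent.CharBasicOrth Cfsg.Agent.DefectOneSign7
open Cfsg.Agent.BlockPrincipal81 Cfsg.Agent.DefectOneShape7

attribute [local instance] Classical.propDecidable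

universe u

variable {G : Type u} [Group G] [Fintype G] {p : ℕ} [Fact p.Prime] {P : Sylow p G}

/-- The facts about the principal block used in the arguments of Brauer and Reynolds. -/
structure Blk (P : Sylow p G) (e : ℕ) (X Y : Finset (IrrCharacter G))
    (a : IrrCharacter G → ℤ) (ε : ℤ) : Prop where
  sign : ε = 1 ∨ ε = -1
  disj : Disjoint X Y
  cardX : X.card = e
  cardY : Y.card * e + 1 = p
  one_mem : oneChar G ∈ X
  a_one : a (oneChar G) = 1
  signX : ∀ χ ∈ X, a χ = 1 ∨ a χ = -1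
  valX : ∀ χ ∈ X, ∀ y ∈ Ps P, (χ : G → ℂ) y = (a χ : ℂ)
  valXC : ∀ χ ∈ X, ∀ y ∈ Ps P, ∀ k ∈ Subgroup.centralizer ((P : Subgroup G) : Set G),
    ¬ p ∣ orderOf k → (χ : G → ℂ) (y * k) = (a χ : ℂ)
  congrX : ∀ χ ∈ X, (charDegree (χ : G → ℂ) : ℤ) ≡ a χ [ZMOD p]
  congrY : ∀ η ∈ Y, (charDegree (η : G → ℂ) : ℤ) ≡ ε * (e : ℤ) [ZMOD p]
  agree : ∀ η ∈ Y, ∀ η' ∈ Y, ∀ g : G, ¬ p ∣ orderOf g → (η : G → ℂ) g = (η' : G → ℂ) g
  regular : ∀ η ∈ Y, ∀ g : G, ¬ p ∣ orderOf g →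
    (ε : ℂ) * (η : G → ℂ) g = ∑ χ ∈ X, (a χ : ℂ) * (χ : G → ℂ) g
  valYC : ∀ η ∈ Y, ∀ y ∈ Ps P, ∀ k ∈ Subgroup.centralizer ((P : Subgroup G) : Set G),
    ¬ p ∣ orderOf k → (η : G → ℂ) (y * k) = (η : G → ℂ) y
  sumY : ∀ y ∈ Ps P, ∑ η ∈ Y, (η : G → ℂ) y = -(ε : ℂ)

/-- The principal block has this shape. -/
theorem exists_blk_mem {M : Ideal AlgInt} (hM : IsPModular p M) (hP : Nat.card P = p) (e : ℕ)
    (he : (Subgroup.centralizer ((P : Subgroup G) : Set G)).relIndex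
      (Subgroup.normalizer ((P : Subgroup G) : Set G)) = e) :
    ∃ X Y a ε, Blk P e X Y a ε ∧ ∀ χ, χ ∈ principalBlock M G ↔ χ ∈ X ∨ χ ∈ Y := by
  haveI : IsCyclic (P : Subgroup G) := isCyclic_of_prime_card (p := p) hP
  open scoped IsMulCommutative in
  haveI : Finite (↥(P : Subgroup G) →* ℂˣ) := inferInstance
  letI := Fintype.ofFinite (↥(P : Subgroup G) →* ℂˣ)
  letI := Fintype.ofFinite ↥(P : Subgroup G)
  obtain ⟨X, Y, a, ε, d, δ, ζ, S⟩ := exists_shape hM hP e he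
  refine ⟨X, Y, a, ε, ⟨S.sign, S.disj, S.cardX, S.cardY, S.one_mem, S.a_one, S.signX,
    fun χ hχ y hy => ?_, fun χ hχ y hy => S.valX χ hχ y (mem_Ps.1 hy).1 (mem_Ps.1 hy).2,
    S.congrX, S.congrY, S.agree, S.regular, fun η hη y hy k hk hkr => ?_, fun y hy => ?_⟩, S.block⟩
  · have h := S.valX χ hχ y (mem_Ps.1 hy).1 (mem_Ps.1 hy).2 1 (one_mem _)
      (by rw [orderOf_one, Nat.dvd_one]; exact (Fact.out : p.Prime).ne_one)
    rwa [mul_one] at h
  · obtain ⟨ψ, hψ, rfl⟩ := S.surj η hη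
    have hy' : (⟨y, (mem_Ps.1 hy).1⟩ : ↥(P : Subgroup G)) ≠ 1 :=
      fun h => (mem_Ps.1 hy).2 (congrArg Subtype.val h)
    have h1 := S.valY ψ hψ ⟨y, (mem_Ps.1 hy).1⟩ hy' k hk hkr
    have h2 := S.valY ψ hψ ⟨y, (mem_Ps.1 hy).1⟩ hy' 1 (one_mem _)
      (by rw [orderOf_one, Nat.dvd_one]; exact (Fact.out : p.Prime).ne_one)
    rw [mul_one] at h2
    exact h1.trans h2.symm
  open scoped IsMulCommutative in
  · set y' : ↥(P : Subgroup G) := ⟨y, (mem_Ps.1 hy).1⟩
    have hy' : y' ≠ 1 := fun h => (mem_Ps.1 hy).2 (congrArg Subtype.val h)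
    set T := Finset.univ.filter (fun ψ : ↥(P : Subgroup G) →* ℂˣ => ψ ≠ 1) with hT
    have hTsum : ∑ ψ ∈ T, (ψ y' : ℂ) = -1 := by
      have h := BlockAbelianSylow86.sum_dual (A := ↥(P : Subgroup G)) y'
      rw [if_neg hy',
        ← Finset.add_sum_erase _ _ (Finset.mem_univ (1 : ↥(P : Subgroup G) →* ℂˣ))] at h
      rw [hT, Finset.filter_ne']
      simp only [MonoidHom.one_apply, Units.val_one] at h
      linear_combination h
    have himg : T.image ζ = Y := by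
      ext η
      simp only [Finset.mem_image, hT, Finset.mem_filter, Finset.mem_univ, true_and]
      exact ⟨fun ⟨ψ, hψ, h⟩ => h ▸ S.maps ψ hψ, fun hη => S.surj η hη⟩
    have hY' : ∀ η ∈ Y, (η : G → ℂ) y =
        (d : ℂ) + (δ : ℂ) * ∑ φ ∈ T.filter (fun φ => ζ φ = η), (φ y' : ℂ) := by
      intro η hη
      obtain ⟨ψ, hψ, rfl⟩ := S.surj η hη
      have hfib : T.filter (fun φ => ζ φ = ζ ψ) =
          Finset.univ.filter (fun φ => BlockAbelianSylow86.SameOrbit P φ ψ) := by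
        ext φ
        simp only [hT, Finset.mem_filter, Finset.mem_univ, true_and]
        exact ⟨fun h => (S.inj φ h.1 ψ hψ).1 h.2, fun h =>
          ⟨BlockAbelianSylow86.sameOrbit_one (BlockAbelianSylow86.sameOrbit_symm h) hψ,
            (S.inj φ (BlockAbelianSylow86.sameOrbit_one (BlockAbelianSylow86.sameOrbit_symm h) hψ)
              ψ hψ).2 h⟩⟩
      have h := S.valY ψ hψ y' hy' 1 (one_mem _)
        (by rw [orderOf_one, Nat.dvd_one]; exact (Fact.out : p.Prime).ne_one)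
      rw [mul_one] at h
      rw [h, hfib]
      rfl
    rw [Finset.sum_congr rfl hY', Finset.sum_add_distrib, Finset.sum_const, nsmul_eq_mul,
      ← Finset.mul_sum, ← himg, Finset.sum_fiberwise_of_maps_to
        (fun ψ hψ => Finset.mem_image_of_mem ζ hψ), hTsum, himg]
    rcases S.cases with ⟨rfl, rfl⟩ | ⟨hc, rfl, rfl⟩
    · simp
    · rw [hc]; push_cast; ring

/-- The principal block has this shape. -/
theorem exists_blk (hP : Nat.card P = p) (e : ℕ)
    (he : (Subgroup.centralizer ((P : Subgroup G) : Set G)).relIndex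
      (Subgroup.normalizer ((P : Subgroup G) : Set G)) = e) :
    ∃ X Y a ε, Blk P e X Y a ε := by
  obtain ⟨M, hM⟩ := BrauerBlocksRegFun.exists_isPModular (Fact.out : p.Prime)
  obtain ⟨X, Y, a, ε, B, -⟩ := exists_blk_mem hM hP e he
  exact ⟨X, Y, a, ε, B⟩

variable {e : ℕ} {X Y : Finset (IrrCharacter G)} {a : IrrCharacter G → ℤ} {ε : ℤ}
  (B : Blk P e X Y a ε) (hP : Nat.card P = p)
  (hC : Subgroup.centralizer ((P : Subgroup G) : Set G) = (P : Subgroup G))
  (he : (Subgroup.centralizer ((P : Subgroup G) : Set G)).relIndex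
    (Subgroup.normalizer ((P : Subgroup G) : Set G)) = e)

include B

theorem ne_one_of_mem {η : IrrCharacter G} (hη : η ∈ Y) : η ≠ oneChar G :=
  fun h => Finset.disjoint_left.1 B.disj B.one_mem (h ▸ hη)

theorem e_pos : 0 < e := B.cardX ▸ Finset.card_pos.2 ⟨_, B.one_mem⟩

theorem Y_nonempty : Y.Nonempty := by
  rw [← Finset.card_pos]
  by_contra h
  have := B.cardY
  rw [Nat.eq_zero_of_not_pos h] at this
  simp only [zero_mul, zero_add] at this
  exact (Fact.out : p.Prime).ne_one this.symm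

include hP hC

theorem sum_Ps_Y {η : IrrCharacter G} (hη : η ∈ Y) :
    ∑ y ∈ Ps P, (η : G → ℂ) y = -(ε : ℂ) * e := by
  have hS : ∀ θ ∈ Y, ∑ y ∈ Ps P, (θ : G → ℂ) y = ∑ y ∈ Ps P, (η : G → ℂ) y := by
    have h0 : ∀ θ ∈ Y, ∑ g ∈ Rs p, (θ : G → ℂ) g +
        (Nat.card (Sylow p G) : ℂ) * ∑ y ∈ Ps P, (θ : G → ℂ) y = 0 := by
      intro θ hθ
      rw [← sum_split hP hC (BlockTheoryCentre.irr_classFun θ)]
      have h := card_mul_classInner (θ : G → ℂ) (oneChar G : G → ℂ)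
      rw [classInner_irrCharacter, if_neg (ne_one_of_mem B hθ), mul_zero] at h
      rw [h]
      refine Finset.sum_congr rfl fun g _ => ?_
      rw [show (oneChar G : G → ℂ) g = 1 from rfl, map_one, mul_one]
    intro θ hθ
    have h1 := h0 θ hθ
    have h2 := h0 η hη
    rw [Finset.sum_congr rfl fun g hg => B.agree θ hθ η hη g (mem_Rs.1 hg)] at h1
    exact mul_left_cancel₀
      (Nat.cast_ne_zero.2 (Nat.card_pos (α := Sylow p G)).ne' : (Nat.card (Sylow p G) : ℂ) ≠ 0)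
      (by linear_combination h1 - h2)
  have h1 : (Y.card : ℂ) * ∑ y ∈ Ps P, (η : G → ℂ) y = ((p - 1 : ℕ) : ℂ) * -(ε : ℂ) := by
    rw [← card_Ps hP, ← nsmul_eq_mul, ← Finset.sum_const, ← Finset.sum_congr rfl hS, Finset.sum_comm,
      Finset.sum_congr rfl B.sumY, Finset.sum_const, nsmul_eq_mul]
  have hp : (p - 1 : ℕ) = Y.card * e := by have := B.cardY; omega
  rw [hp] at h1
  push_cast at h1
  exact mul_left_cancel₀ (Nat.cast_ne_zero.2 (Finset.card_pos.2 ⟨η, hη⟩).ne' : (Y.card : ℂ) ≠ 0)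
    (by linear_combination h1)

include he

/-- The sum of the squared absolute values of the common values on regular elements. -/
theorem sum_Rs_norm {η : IrrCharacter G} (hη : η ∈ Y) :
    ∑ g ∈ Rs p, (η : G → ℂ) g * conj ((η : G → ℂ) g) =
      (Nat.card (Sylow p G) : ℂ) * (e : ℂ) ^ 2 := by
  set R := ∑ g ∈ Rs p, (η : G → ℂ) g * conj ((η : G → ℂ) g)
  set s : ℂ := (Nat.card (Sylow p G) : ℂ) with hs
  have h0 : ∀ θ ∈ Y, ∀ θ' ∈ Y, R + s * ∑ y ∈ Ps P, (θ : G → ℂ) y * conj ((θ' : G → ℂ) y) =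
      if θ = θ' then (Nat.card G : ℂ) else 0 := by
    intro θ hθ θ' hθ'
    have h := card_mul_classInner (θ : G → ℂ) (θ' : G → ℂ)
    rw [classInner_irrCharacter, mul_ite, mul_one, mul_zero,
      sum_split hP hC (f := fun g => (θ : G → ℂ) g * conj ((θ' : G → ℂ) g)) (fun a b => by
        simp only [BlockTheoryCentre.irr_classFun θ a b, BlockTheoryCentre.irr_classFun θ' a b])] at h
    rw [h]
    congr 1
    exact Finset.sum_congr rfl fun g hg => by
      rw [B.agree θ hθ η hη g (mem_Rs.1 hg), B.agree θ' hθ' η hη g (mem_Rs.1 hg)]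
  have h1 : ∑ θ ∈ Y, ∑ θ' ∈ Y, (R + s * ∑ y ∈ Ps P, (θ : G → ℂ) y * conj ((θ' : G → ℂ) y)) =
      (Y.card : ℂ) * (Nat.card G : ℂ) := by
    rw [Finset.sum_congr rfl fun θ hθ => Finset.sum_congr rfl fun θ' hθ' => h0 θ hθ θ' hθ']
    rw [Finset.sum_congr rfl fun θ hθ => by rw [Finset.sum_ite_eq, if_pos hθ], Finset.sum_const,
      nsmul_eq_mul]
  simp only [Finset.sum_add_distrib, Finset.sum_const, nsmul_eq_mul, ← Finset.mul_sum] at h1
  have h2 : ∑ θ ∈ Y, ∑ θ' ∈ Y, ∑ y ∈ Ps P, (θ : G → ℂ) y * conj ((θ' : G → ℂ) y) =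
      ((p - 1 : ℕ) : ℂ) := by
    rw [Finset.sum_congr rfl fun θ _ => Finset.sum_comm, Finset.sum_comm]
    rw [Finset.sum_congr rfl fun y hy => by
      rw [Finset.sum_congr rfl fun θ _ => (Finset.mul_sum _ _ _).symm, ← Finset.sum_mul,
        ← map_sum, B.sumY y hy, show -(ε : ℂ) * conj (-(ε : ℂ)) = 1 by
          rcases B.sign with h | h <;> simp [h]], Finset.sum_const, card_Ps hP, nsmul_eq_mul,
      mul_one]
  rw [h2, card_group hP hC e he] at h1
  have hp : (p - 1 : ℕ) = Y.card * e := by have := B.cardY; omega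
  have hpc : (p : ℂ) = Y.card * e + 1 := by exact_mod_cast B.cardY.symm
  rw [hp] at h1
  push_cast at h1
  rw [hpc, ← hs] at h1
  have ht : (Y.card : ℂ) ≠ 0 := Nat.cast_ne_zero.2 (Finset.card_pos.2 ⟨η, hη⟩).ne'
  exact mul_left_cancel₀ ht (mul_left_cancel₀ ht (by linear_combination h1))

theorem sum_Ps_mul {θ θ' : IrrCharacter G} (hθ : θ ∈ Y) (hθ' : θ' ∈ Y) :
    ∑ y ∈ Ps P, (θ : G → ℂ) y * conj ((θ' : G → ℂ) y) =
      (if θ = θ' then (p : ℂ) * e else 0) - (e : ℂ) ^ 2 := by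
  have h := card_mul_classInner (θ : G → ℂ) (θ' : G → ℂ)
  rw [classInner_irrCharacter, mul_ite, mul_one, mul_zero,
    sum_split hP hC (f := fun g => (θ : G → ℂ) g * conj ((θ' : G → ℂ) g)) (fun a b => by
      simp only [BlockTheoryCentre.irr_classFun θ a b, BlockTheoryCentre.irr_classFun θ' a b]),
    Finset.sum_congr rfl fun g hg => by
      rw [B.agree θ' hθ' θ hθ g (mem_Rs.1 hg)], sum_Rs_norm B hP hC he hθ] at h
  refine mul_left_cancel₀
    (Nat.cast_ne_zero.2 (Nat.card_pos (α := Sylow p G)).ne' : (Nat.card (Sylow p G) : ℂ) ≠ 0) ?_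
  rw [card_group hP hC e he] at h
  split_ifs at h ⊢ <;> push_cast at h <;> linear_combination -h

/-- The characters outside the principal block vanish on `P` minus the identity. -/
theorem vanish {ψ : IrrCharacter G} (hX : ψ ∉ X) (hY : ψ ∉ Y) {y : G} (hy : y ∈ Ps P) :
    (ψ : G → ℂ) y = 0 := by
  have htot : ∑ χ : IrrCharacter G, ∑ z ∈ Ps P, (χ : G → ℂ) z * conj ((χ : G → ℂ) z) =
      ((p - 1 : ℕ) : ℂ) * p := by
    rw [Finset.sum_comm, Finset.sum_congr rfl fun z hz => by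
      rw [sum_irr_mul_conj z z, if_pos (IsConj.refl z), centralizer_Ps hP hC hz,
        show Nat.card (P : Subgroup G) = p from hP], Finset.sum_const, card_Ps hP, nsmul_eq_mul]
  have hXs : ∑ χ ∈ X, ∑ z ∈ Ps P, (χ : G → ℂ) z * conj ((χ : G → ℂ) z) =
      ((p - 1 : ℕ) : ℂ) * e := by
    rw [← B.cardX, Finset.card_eq_sum_ones X]
    push_cast
    rw [Finset.mul_sum]
    refine Finset.sum_congr rfl fun χ hχ => ?_
    rw [Finset.sum_congr rfl fun z hz => by
      rw [B.valX χ hχ z hz, show (a χ : ℂ) * conj (a χ : ℂ) = 1 by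
        rcases B.signX χ hχ with h | h <;> simp [h]], Finset.sum_const, card_Ps hP, nsmul_eq_mul]
  have hYs : ∑ χ ∈ Y, ∑ z ∈ Ps P, (χ : G → ℂ) z * conj ((χ : G → ℂ) z) =
      ((p - 1 : ℕ) : ℂ) * ((p : ℂ) - e) := by
    rw [Finset.sum_congr rfl fun χ hχ => sum_Ps_mul B hP hC he hχ hχ]
    simp only [if_true, Finset.sum_const, nsmul_eq_mul]
    have hp : (p - 1 : ℕ) = Y.card * e := by have := B.cardY; omega
    rw [hp]
    push_cast
    ring
  set O := Finset.univ.filter fun χ : IrrCharacter G => χ ∉ X ∧ χ ∉ Y with hO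
  have hrest : ∑ χ ∈ O, ∑ z ∈ Ps P, (χ : G → ℂ) z * conj ((χ : G → ℂ) z) = 0 := by
    have h := Finset.sum_sdiff (Finset.subset_univ (X ∪ Y))
      (f := fun χ : IrrCharacter G => ∑ z ∈ Ps P, (χ : G → ℂ) z * conj ((χ : G → ℂ) z))
    rw [Finset.sum_union B.disj, hXs, hYs, htot] at h
    rw [show O = Finset.univ \ (X ∪ Y) by ext; simp [hO]]
    linear_combination h
  have h2 : ∑ χ ∈ O, ∑ z ∈ Ps P, ‖(χ : G → ℂ) z‖ ^ 2 = 0 := by
    have h3 := congrArg Complex.re hrest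
    simp only [Complex.mul_conj', Complex.re_sum, Complex.zero_re] at h3
    rw [← h3]
    refine Finset.sum_congr rfl fun χ _ => Finset.sum_congr rfl fun z _ => ?_
    rw [← Complex.ofReal_pow, Complex.ofReal_re]
  have h3 := (Finset.sum_eq_zero_iff_of_nonneg
    (fun χ _ => Finset.sum_nonneg fun z _ => sq_nonneg _)).1 h2 ψ (by simp [hO, hX, hY])
  have h4 := (Finset.sum_eq_zero_iff_of_nonneg (fun z _ => sq_nonneg _)).1 h3 y hy
  simpa using h4

end Cfsg.Agent.BrauerReynolds7
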