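import Cfsg.Agent.Lib.BrauerReynolds7Degree

/-!
# The two kinds of non-exceptional characters and the degree relation
-/

set_option autoImplicit false

open Finset
open scoped ComplexConjugate

namespace Cfsg.Agent.BrauerReynolds7

open Cfsg Cfsg.Agent.CharBasic Cfsg.Agent.CharBasicOrth Cfsg.Agent.DefectOneSign7
open Cfsg.Agent.BlockPrincipal81

attribute [local instance] Classical.propDecidable

universe u

variable {G : Type u} [Group G] [Fintype G] {p : ℕ} [Fact p.Prime]

/-- The standing hypotheses. -/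
structure Setup (P : Sylow p G) (e n : ℕ) (X Y : Finset (IrrCharacter G))
    (a : IrrCharacter G → ℤ) (ε : ℤ) : Prop extends Blk P e X Y a ε where
  perfect : commutator G = ⊤
  cardP : Nat.card P = p
  cent : Subgroup.centralizer ((P : Subgroup G) : Set G) = (P : Subgroup G)
  relIdx : (Subgroup.centralizer ((P : Subgroup G) : Set G)).relIndex
    (Subgroup.normalizer ((P : Subgroup G) : Set G)) = e
  cardSyl : Nat.card (Sylow p G) = 1 + n * p
  small : 2 * n ≤ p + 2
  n_pos : 1 ≤ n
  two_le : 2 ≤ e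

/-- The non-trivial characters of sign `+1`. -/
noncomputable def Xp (X : Finset (IrrCharacter G)) (a : IrrCharacter G → ℤ) :
    Finset (IrrCharacter G) := X.filter fun χ => a χ = 1 ∧ χ ≠ oneChar G

/-- The characters of sign `-1`. -/
noncomputable def Xm (X : Finset (IrrCharacter G)) (a : IrrCharacter G → ℤ) :
    Finset (IrrCharacter G) := X.filter fun χ => a χ = -1

variable {P : Sylow p G} {e n : ℕ} {X Y : Finset (IrrCharacter G)} {a : IrrCharacter G → ℤ} {ε : ℤ}
  (S : Setup P e n X Y a ε)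

include S

theorem dvd_pred : e ∣ p - 1 := DefectOneShape7.index_dvd S.cardP e S.relIdx

theorem three_le : 3 ≤ p := by
  have h1 := S.two_le
  have h2 := (Fact.out : p.Prime).two_le
  have h3 := Nat.le_of_dvd (by omega) (dvd_pred S)
  omega

theorem p_odd : Odd p := (Fact.out : p.Prime).odd_of_ne_two (by have := three_le S; omega)

theorem small' : 2 * n ≤ p + 1 := by
  obtain ⟨k, hk⟩ := p_odd S
  have := S.small
  omega

theorem card_G : Nat.card G = (1 + n * p) * (p * e) := by
  rw [card_group S.cardP S.cent e S.relIdx, S.cardSyl]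

theorem not_dvd_degree {χ : IrrCharacter G} (hχ : χ ∈ X ∨ χ ∈ Y) :
    ¬ p ∣ charDegree (χ : G → ℂ) := by
  intro hd
  have hd' : (charDegree (χ : G → ℂ) : ℤ) ≡ 0 [ZMOD p] :=
    Int.modEq_zero_iff_dvd.2 (Int.natCast_dvd_natCast.2 hd)
  have hp := (Fact.out : p.Prime)
  rcases hχ with h | h
  · have h1 := Int.modEq_zero_iff_dvd.1 ((S.congrX χ h).symm.trans hd')
    rcases S.signX χ h with e1 | e1 <;> rw [e1] at h1
    · exact hp.ne_one (by exact_mod_cast Int.eq_one_of_dvd_one (Int.natCast_nonneg _) h1)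
    · exact hp.ne_one (by exact_mod_cast Int.eq_one_of_dvd_one (Int.natCast_nonneg _) (dvd_neg.1 h1))
  · have h1 := Int.modEq_zero_iff_dvd.1 ((S.congrY χ h).symm.trans hd')
    have h2 : (p : ℤ) ∣ (e : ℤ) := by
      rcases S.sign with e1 | e1 <;> rw [e1] at h1 <;> simpa using h1
    have h3 := Nat.le_of_dvd (by have := S.two_le; omega) (Int.natCast_dvd_natCast.1 h2)
    have h4 := Nat.le_of_dvd (by have := hp.two_le; omega) (dvd_pred S)
    have := hp.two_le
    omega

theorem deg_dvd {χ : IrrCharacter G} (hχ : χ ∈ X ∨ χ ∈ Y) :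
    charDegree (χ : G → ℂ) ∣ e * (1 + n * p) :=
  degree_dvd S.cardP S.cent S.relIdx S.cardSyl (not_dvd_degree S hχ)

theorem deg_Xp {χ : IrrCharacter G} (hχ : χ ∈ Xp X a) : charDegree (χ : G → ℂ) = 1 + n * p := by
  obtain ⟨hX, ha, h1⟩ : χ ∈ X ∧ a χ = 1 ∧ χ ≠ oneChar G := by simpa [Xp] using hχ
  refine nat_deg_pos (Fact.out : p.Prime) (dvd_pred S) (by have := S.two_le; omega) S.small
    (ha ▸ S.congrX χ hX) ?_ (deg_dvd S (Or.inl hX))
  by_contra hc
  exact h1 (eq_oneChar_of_degree_one S.perfect (by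
    have := ClassAlgebraVal.charDegree_pos χ; omega))

theorem deg_Xm {χ : IrrCharacter G} (hχ : χ ∈ Xm X a) : charDegree (χ : G → ℂ) = p - 1 := by
  obtain ⟨hX, ha⟩ : χ ∈ X ∧ a χ = -1 := by simpa [Xm] using hχ
  refine nat_deg_neg (Fact.out : p.Prime) (three_le S) (dvd_pred S) (by have := S.two_le; omega)
    S.small S.n_pos (ha ▸ S.congrX χ hX) (deg_dvd S (Or.inl hX)) ?_
  refine (degree_sq_lt fun h => ?_).trans_eq ((card_G S).trans (by ring))
  rw [h, S.a_one] at ha
  exact absurd ha (by norm_num)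

theorem X_eq : X = insert (oneChar G) (Xp X a ∪ Xm X a) := by
  ext χ
  simp only [Xp, Xm, Finset.mem_insert, Finset.mem_union, Finset.mem_filter]
  constructor
  · intro h
    by_cases h1 : χ = oneChar G
    · exact Or.inl h1
    · rcases S.signX χ h with h2 | h2
      · exact Or.inr (Or.inl ⟨h, h2, h1⟩)
      · exact Or.inr (Or.inr ⟨h, h2⟩)
  · rintro (rfl | h | h)
    · exact S.one_mem
    · exact h.1
    · exact h.1

theorem sum_X {M : Type*} [AddCommMonoid M] (f : IrrCharacter G → M) :
    ∑ χ ∈ X, f χ = f (oneChar G) + ∑ χ ∈ Xp X a, f χ + ∑ χ ∈ Xm X a, f χ := by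
  conv_lhs => rw [X_eq S]
  rw [Finset.sum_insert, Finset.sum_union, ← add_assoc]
  · rw [Finset.disjoint_left]
    intro χ h1 h2
    simp only [Xp, Xm, Finset.mem_filter] at h1 h2
    omega
  · simp only [Xp, Xm, Finset.mem_union, Finset.mem_filter]
    rintro (⟨-, -, h⟩ | ⟨-, h⟩)
    · exact h rfl
    · rw [S.a_one] at h; omega

theorem card_split : 1 + (Xp X a).card + (Xm X a).card = e := by
  have h := sum_X S (fun _ => (1 : ℕ))
  rw [Finset.sum_const, Finset.sum_const, Finset.sum_const, smul_eq_mul, smul_eq_mul, smul_eq_mul,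
    S.cardX] at h
  omega

/-- The common degree of the exceptional characters. -/
theorem deg_Y {η : IrrCharacter G} (hη : η ∈ Y) :
    ε * (charDegree (η : G → ℂ) : ℤ) =
      (e : ℤ) + (((Xp X a).card : ℤ) * n - (Xm X a).card) * p := by
  have h1 := S.regular η hη 1 (by rw [orderOf_one, Nat.dvd_one]; exact (Fact.out : p.Prime).ne_one)
  simp only [ClassAlgebraVal.apply_one_eq_charDegree] at h1
  have h2 : ε * (charDegree (η : G → ℂ) : ℤ) = ∑ χ ∈ X, a χ * (charDegree (χ : G → ℂ) : ℤ) := by
    refine Int.cast_injective (α := ℂ) ?_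
    push_cast
    exact h1
  have hone : charDegree (oneChar G : G → ℂ) = 1 := by
    have h := ClassAlgebraVal.apply_one_eq_charDegree (oneChar G)
    rw [show (oneChar G : G → ℂ) 1 = 1 from rfl] at h
    exact_mod_cast h.symm
  have hp' : ∑ χ ∈ Xp X a, a χ * (charDegree (χ : G → ℂ) : ℤ) =
      ((Xp X a).card : ℤ) * (1 + n * p) := by
    rw [← nsmul_eq_mul, ← Finset.sum_const]
    refine Finset.sum_congr rfl fun χ hχ => ?_
    rw [deg_Xp S hχ, show a χ = 1 by simp only [Xp, Finset.mem_filter] at hχ; exact hχ.2.1]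
    push_cast; ring
  have hm' : ∑ χ ∈ Xm X a, a χ * (charDegree (χ : G → ℂ) : ℤ) =
      ((Xm X a).card : ℤ) * (1 - p) := by
    rw [← nsmul_eq_mul, ← Finset.sum_const]
    refine Finset.sum_congr rfl fun χ hχ => ?_
    rw [deg_Xm S hχ, show a χ = -1 by simp only [Xm, Finset.mem_filter] at hχ; exact hχ.2,
      Nat.cast_sub (Fact.out : p.Prime).one_le]
    push_cast; ring
  rw [h2, sum_X S, S.a_one, hone, hp', hm', ← card_split S]
  push_cast
  ring

/-- `w = A n - B` is not positive. -/
theorem w_nonpos : (Xp X a).card * n ≤ (Xm X a).card := by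
  by_contra hc
  push Not at hc
  obtain ⟨η, hη⟩ := Y_nonempty S.toBlk
  obtain ⟨w, hw⟩ : ∃ w, (Xp X a).card * n = (Xm X a).card + w := Nat.exists_eq_add_of_le hc.le
  have hw1 : 1 ≤ w := by omega
  have h1 := deg_Y S hη
  have hwz : (((Xp X a).card : ℤ) * n - (Xm X a).card) = (w : ℤ) := by
    have : (((Xp X a).card * n : ℕ) : ℤ) = (((Xm X a).card + w : ℕ) : ℤ) := by rw [hw]
    push_cast at this
    linarith
  rw [hwz] at h1
  have hpos : (0 : ℤ) < (e : ℤ) + (w : ℤ) * p := by
    have := S.two_le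
    positivity
  have hε : ε = 1 := by
    rcases S.sign with h | h
    · exact h
    · exfalso
      rw [h] at h1
      have := Int.natCast_nonneg (charDegree (η : G → ℂ))
      linarith
  rw [hε, one_mul] at h1
  have hD : charDegree (η : G → ℂ) = e + w * p := by exact_mod_cast h1
  refine no_exc_pos (Fact.out : p.Prime) (dvd_pred S) (by have := S.two_le; omega) S.small S.n_pos
    hw1 ?_ (hD ▸ deg_dvd S (Or.inr hη))
  have h3 := card_split S
  calc w ≤ (Xp X a).card * n := by omega
    _ ≤ (e - 1) * n := Nat.mul_le_mul_right n (by omega)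

theorem Xm_nonempty : (Xm X a).Nonempty := by
  rw [← Finset.card_pos]
  by_contra hc
  have h1 := w_nonpos S
  have h2 := card_split S
  have h3 := S.two_le
  have h4 : 1 * 1 ≤ (Xp X a).card * n := Nat.mul_le_mul (by omega) S.n_pos
  omega

/-- The Sylow normalizer is not as large as possible. -/
theorem two_mul_le : 2 * e ≤ p - 1 := by
  obtain ⟨t, ht⟩ := dvd_pred S
  rcases Nat.lt_or_ge t 2 with h | h
  · exfalso
    have h3 := three_le S
    have ht1 : t = 1 := by
      interval_cases t
      · simp at ht; omega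
      · rfl
    subst ht1
    rw [mul_one] at ht
    obtain ⟨χ, hχ⟩ := Xm_nonempty S
    refine no_regular_restriction (χ := (χ : G → ℂ)) S.perfect S.cardP S.cent S.relIdx h3
      (by omega) (isCharacter_of_isIrrCharacter χ.2) ?_ fun y hy => ?_
    · rw [ClassAlgebraVal.apply_one_eq_charDegree, deg_Xm S hχ, ht]
    · simp only [Xm, Finset.mem_filter] at hχ
      rw [S.valX χ hχ.1 y hy, hχ.2]
      norm_num
  · rw [ht]
    calc 2 * e = e * 2 := mul_comm _ _
      _ ≤ e * t := Nat.mul_le_mul_left e h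

theorem two_le_card_Y : 2 ≤ Y.card := by
  by_contra hc
  have h1 := S.cardY
  have h2 := two_mul_le S
  have h3 := S.two_le
  have h4 : Y.card * e ≤ 1 * e := Nat.mul_le_mul_right e (by omega)
  omega

end Cfsg.Agent.BrauerReynolds7
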