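import Cfsg.Agent.Lib.BrauerReynolds7Fixed

/-!
# Simple groups of order less than `p ^ 3` have self-centralizing Sylow `p`-subgroups
-/

set_option autoImplicit false

open MulAction Finset
open scoped commutatorElement

namespace Cfsg.Agent.BrauerReynolds7

open Cfsg Cfsg.Agent.CharBasic Cfsg.Agent.CharBasicOrth Cfsg.Agent.DefectOneSign7
open Cfsg.Agent.BlockPrincipal81

attribute [local instance] Classical.propDecidable

universe u

variable {G : Type u} [Group G] [Fintype G] {p : ℕ} [Fact p.Prime] {P : Sylow p G}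

theorem smul_self_of_mem {u : G} (hu : u ∈ (P : Subgroup G)) : u • P = P :=
  Sylow.smul_eq_iff_mem_normalizer.2 (Subgroup.le_normalizer hu)

theorem semiregular (hP : Nat.card P = p) {u : G} (hu : u ∈ (P : Subgroup G)) {Q : Sylow p G}
    (hQ : Q ≠ P) (hfix : u • Q = Q) : u = 1 := by
  by_contra hu1
  apply hQ
  have h1 : u ∈ Subgroup.normalizer ((Q : Subgroup G) : Set G) :=
    Sylow.smul_eq_iff_mem_normalizer.1 hfix
  have hpg : IsPGroup p (Subgroup.zpowers u) :=
    IsPGroup.of_card (n := 1)
      (by rw [Nat.card_zpowers, orderOf_mem hP (mem_Ps.2 ⟨hu, hu1⟩), pow_one])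
  have hle : (Q : Subgroup G) ⊔ Subgroup.zpowers u = Q :=
    Q.is_maximal' (IsPGroup.to_sup_of_normal_left' Q.isPGroup' hpg
      (Subgroup.zpowers_le.2 h1)) le_sup_left
  have h2 : (P : Subgroup G) ≤ Q := by
    rw [← zpowers_eq P hP hu hu1, Subgroup.zpowers_le, ← hle]
    exact Subgroup.mem_sup_right (Subgroup.mem_zpowers u)
  exact Sylow.ext (P.is_maximal' Q.isPGroup' h2)

theorem perfect_of_simple [IsSimpleGroup G] (hG : ¬ IsCyclic G) : commutator G = ⊤ := by
  rcases Subgroup.Normal.eq_bot_or_eq_top (H := commutator G) inferInstance with h | h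
  · exfalso
    apply hG
    have hcomm : IsMulCommutative G := ⟨⟨fun a b => by
      have h1 : ⁅a, b⁆ ∈ commutator G :=
        Subgroup.commutator_mem_commutator (Subgroup.mem_top a) (Subgroup.mem_top b)
      rw [h, Subgroup.mem_bot, commutatorElement_eq_one_iff_mul_comm] at h1
      exact h1⟩⟩
    open scoped IsMulCommutative in
    exact IsSimpleGroup.isCyclic
  · exact h

variable [IsSimpleGroup G]

/-- A regular element centralizing `P` which lies in the kernel of a representation non-trivial on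
`P` is trivial. -/
theorem eq_one_of_value (hP : Nat.card P = p) {χ : G → ℂ} (hχ : IsCharacter G χ)
    (hdeg : χ 1 = ((p - 1 : ℕ) : ℂ)) (hval : ∀ y ∈ Ps P, χ y = -1) {k : G}
    (hyk : ∀ y ∈ Ps P, χ (y * k) = -1) : k = 1 := by
  have hp := (Fact.out : p.Prime)
  obtain ⟨d, ρ, rfl⟩ := hχ
  obtain ⟨W, hW, hWs⟩ := exists_twist ρ (P : Subgroup G) 1
  simp only [MonoidHom.one_apply, inv_one, dite_eq_ite, ite_self, Units.val_one, mul_one] at hWs
  rw [sum_els_P, hdeg, Finset.sum_congr rfl hval, Finset.sum_const, card_Ps hP, nsmul_eq_mul,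
    show Nat.card (P : Subgroup G) = p from hP] at hWs
  have h0 : (p : ℂ) * (Module.finrank ℂ W : ℂ) = 0 := by rw [← hWs]; ring
  have hWbot : W = ⊥ := Submodule.finrank_eq_zero.1 (by
    exact_mod_cast (mul_eq_zero.1 h0).resolve_left (Nat.cast_ne_zero.2 hp.ne_zero))
  have hT : ∑ y ∈ els (P : Subgroup G), ρ y = 0 := by
    refine LinearMap.ext fun v => ?_
    have h : (∑ y ∈ els (P : Subgroup G), ρ y) v ∈ W := by
      rw [hW]
      intro x
      simp only [MonoidHom.one_apply, Units.val_one, one_smul, LinearMap.sum_apply, map_sum]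
      refine Finset.sum_nbij' (fun y => (x : G) * y) (fun y => (x : G)⁻¹ * y) ?_ ?_ ?_ ?_ ?_
      · intro y hy; exact mem_els.2 (mul_mem x.2 (mem_els.1 hy))
      · intro y hy; exact mem_els.2 (mul_mem (inv_mem x.2) (mem_els.1 hy))
      · intro y _; simp
      · intro y _; simp
      · intro y _; rw [map_mul, Module.End.mul_apply]
    rwa [hWbot, Submodule.mem_bot] at h
  have hsum : ∑ y ∈ els (P : Subgroup G), ρ.character (y * k) = 0 := by
    have h : LinearMap.trace ℂ _ ((∑ y ∈ els (P : Subgroup G), ρ y) * ρ k) = 0 := by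
      rw [hT, zero_mul, map_zero]
    rw [Finset.sum_mul, map_sum] at h
    rw [← h]
    refine Finset.sum_congr rfl fun y _ => ?_
    rw [Representation.character, map_mul]
  rw [sum_els_P, one_mul, Finset.sum_congr rfl hyk, Finset.sum_const, card_Ps hP,
    nsmul_eq_mul] at hsum
  have hk : ρ.character k = (Module.finrank ℂ (Fin d → ℂ) : ℂ) := by
    rw [← Representation.char_one ρ, hdeg]
    linear_combination hsum
  have hker := eq_one_of_character_eq_finrank ρ k hk
  let f : G →* Module.End ℂ (Fin d → ℂ) := ρ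
  rcases Subgroup.Normal.eq_bot_or_eq_top (H := f.ker) inferInstance with h | h
  · have hmem : k ∈ f.ker := MonoidHom.mem_ker.2 hker
    rwa [h, Subgroup.mem_bot] at hmem
  · exfalso
    obtain ⟨y, hy⟩ := exists_mem_Ps hP
    have h1 : ρ y = 1 := MonoidHom.mem_ker.1 (h ▸ Subgroup.mem_top y : y ∈ f.ker)
    have h2 := hval y hy
    rw [Representation.character, h1] at h2
    have h3 := hdeg
    rw [Representation.character, map_one] at h3
    rw [h3] at h2
    have h4 : (((p - 1 : ℕ) : ℤ) : ℂ) = ((-1 : ℤ) : ℂ) := by push_cast; exact h2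
    have h5 : ((p - 1 : ℕ) : ℤ) = -1 := Int.cast_injective h4
    omega

/-- The degree bound when the group has order less than `p ^ 3`. -/
theorem exists_Xm {e n u : ℕ} {X Y : Finset (IrrCharacter G)} {a : IrrCharacter G → ℤ} {ε : ℤ}
    (hperf : commutator G = ⊤) (B : Blk P e X Y a ε) (he2 : 2 ≤ e) (hn2 : 2 ≤ n) (hu : 0 < u)
    (hG : Nat.card G = p * (e * u * (1 + n * p))) (hM : e * u * (1 + n * p) < p * p) :
    ∃ χ ∈ X, a χ = -1 ∧ charDegree (χ : G → ℂ) = p - 1 := by
  have hp := (Fact.out : p.Prime)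
  have hp2 := hp.two_le
  have hne : n * (e * u) < p := by
    by_contra hc
    push Not at hc
    have h1 : p * p ≤ n * (e * u) * p := Nat.mul_le_mul_right p hc
    have h2 : e * u * (1 + n * p) = e * u + n * (e * u) * p := by ring
    omega
  have h2e : 2 * (e * u) < p := lt_of_le_of_lt (Nat.mul_le_mul_right _ hn2) hne
  have hep : e < p := by
    have : e * 1 ≤ e * u := Nat.mul_le_mul_left e hu
    omega
  have hdvd : ∀ χ : IrrCharacter G, ∀ z : ℤ, (charDegree (χ : G → ℂ) : ℤ) ≡ z [ZMOD p] →
      ¬ (p : ℤ) ∣ z → charDegree (χ : G → ℂ) ∣ e * u * (1 + n * p) := by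
    intro χ z hz hzd
    have h1 := CharAverage.charDegree_dvd_card χ
    rw [hG] at h1
    refine (Nat.Coprime.dvd_mul_left ((hp.coprime_iff_not_dvd.2 fun hd => hzd ?_).symm)).1 h1
    exact Int.modEq_zero_iff_dvd.1 (hz.symm.trans (Int.modEq_zero_iff_dvd.2 (Int.natCast_dvd_natCast.2 hd)))
  have hp1 : ¬ (p : ℤ) ∣ 1 := fun h => hp.ne_one (by exact_mod_cast Int.eq_one_of_dvd_one (Int.natCast_nonneg _) h)
  have hpos : ∀ χ ∈ X, χ ≠ oneChar G → a χ = 1 → charDegree (χ : G → ℂ) = 1 + n * p := by
    intro χ hχ h1 ha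
    have hcong := ha ▸ B.congrX χ hχ
    obtain ⟨g, hg⟩ := hdvd χ 1 hcong hp1
    set f := charDegree (χ : G → ℂ) with hf
    obtain ⟨w, hw⟩ : (p : ℤ) ∣ f - 1 := Int.ModEq.dvd hcong.symm
    have hfp : p + 1 ≤ f := by
      have h0 := ClassAlgebraVal.charDegree_pos χ
      have h2 : f ≠ 1 := fun h => h1 (eq_oneChar_of_degree_one hperf h)
      have : 1 ≤ w := by
        by_contra hc
        push Not at hc
        have h3 : (p : ℤ) * w ≤ 0 :=
          mul_nonpos_of_nonneg_of_nonpos (Int.natCast_nonneg p) (by omega)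
        omega
      have : (p : ℤ) + 1 ≤ f := by
        nlinarith [mul_le_mul_of_nonneg_left this (Int.natCast_nonneg p)]
      exact_mod_cast this
    have hgp : g < p := by
      by_contra hc
      push Not at hc
      nlinarith [Nat.mul_le_mul hfp hc]
    have hdz : (p : ℤ) ∣ (g : ℤ) - e * u := by
      refine ⟨(e : ℤ) * u * n - w * g, ?_⟩
      have h3 : ((e * u * (1 + n * p) : ℕ) : ℤ) = ((f * g : ℕ) : ℤ) := by rw [hg]
      push_cast at h3
      linear_combination -h3 - (g : ℤ) * hw
    have hgu : g = e * u := by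
      have h4 : |(g : ℤ) - e * u| < p := by
        rw [abs_lt]; constructor <;> push_cast <;> nlinarith
      have h5 := Int.eq_zero_of_abs_lt_dvd hdz h4
      have h6 : (g : ℤ) = ((e * u : ℕ) : ℤ) := by push_cast; linarith
      exact_mod_cast h6
    rw [hgu, mul_comm (e * u)] at hg
    exact (Nat.eq_of_mul_eq_mul_right (by positivity) hg.symm)
  have hone : charDegree (oneChar G : G → ℂ) = 1 := by
    have h := ClassAlgebraVal.apply_one_eq_charDegree (oneChar G)
    rw [show (oneChar G : G → ℂ) 1 = 1 from rfl] at h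
    exact_mod_cast h.symm
  by_contra hnone
  push Not at hnone
  have hall : ∀ χ ∈ X, a χ = 1 := by
    intro χ hχ
    refine (B.signX χ hχ).resolve_right fun ha => hnone χ hχ ha ?_
    have hcong := ha ▸ B.congrX χ hχ
    obtain ⟨g, hg⟩ := hdvd χ (-1) hcong (fun h => hp1 (dvd_neg.1 h))
    set f := charDegree (χ : G → ℂ) with hf
    obtain ⟨w, hw⟩ : (p : ℤ) ∣ f - (-1) := Int.ModEq.dvd hcong.symm
    have h0 := ClassAlgebraVal.charDegree_pos χ
    by_contra hne1
    have hw2 : 2 ≤ w := by
      by_contra hc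
      push Not at hc
      have hw0 : 0 < w := by
        by_contra hc0
        push Not at hc0
        nlinarith
      obtain rfl : w = 1 := by omega
      omega
    obtain ⟨v, hv⟩ : (p : ℤ) ∣ (g : ℤ) + e * u := by
      refine ⟨w * g - (e : ℤ) * u * n, ?_⟩
      have h3 : ((e * u * (1 + n * p) : ℕ) : ℤ) = ((f * g : ℕ) : ℤ) := by rw [hg]
      push_cast at h3
      linear_combination h3 + (g : ℤ) * hw
    have hfz : 2 * (p : ℤ) - 1 ≤ f := by nlinarith
    have hv1 : 1 ≤ v := by
      by_contra hc
      push Not at hc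
      nlinarith
    have hgz : (p : ℤ) + 1 ≤ 2 * g := by
      have : 2 * ((e : ℤ) * u) < p := by exact_mod_cast h2e
      nlinarith
    have hMz : (f : ℤ) * g < p * p := by exact_mod_cast hg ▸ hM
    have h7 := mul_le_mul hfz hgz (by positivity) (by positivity)
    have hp2z : (2 : ℤ) ≤ p := by exact_mod_cast hp2
    nlinarith
  obtain ⟨η, hη⟩ := Y_nonempty B
  have h1 := B.regular η hη 1 (by rw [orderOf_one, Nat.dvd_one]; exact hp.ne_one)
  simp only [ClassAlgebraVal.apply_one_eq_charDegree] at h1
  have h2 : ε * (charDegree (η : G → ℂ) : ℤ) = 1 + ((e : ℤ) - 1) * (1 + n * p) := by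
    refine Int.cast_injective (α := ℂ) ?_
    push_cast
    rw [h1, ← Finset.add_sum_erase _ _ B.one_mem, B.a_one, hone,
      Finset.sum_congr rfl (g := fun _ => (1 + n * p : ℂ)) fun χ hχ => by
        rw [hall χ (Finset.mem_of_mem_erase hχ), hpos χ (Finset.mem_of_mem_erase hχ)
          (Finset.ne_of_mem_erase hχ) (hall χ (Finset.mem_of_mem_erase hχ))]
        push_cast; ring,
      Finset.sum_const, Finset.card_erase_of_mem B.one_mem, B.cardX, nsmul_eq_mul,
      Nat.cast_sub (show 1 ≤ e by omega)]
    push_cast; ring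
  have hε : ε = 1 := by
    rcases B.sign with h | h
    · exact h
    · exfalso
      rw [h] at h2
      have : (0 : ℤ) ≤ ((e : ℤ) - 1) * (1 + n * p) := mul_nonneg (by omega) (by positivity)
      have := Int.natCast_nonneg (charDegree (η : G → ℂ))
      linarith
  rw [hε, one_mul] at h2
  obtain ⟨g, hg⟩ := hdvd η (ε * e) (B.congrY η hη) (by
    rw [hε, one_mul]
    intro h
    have := Int.le_of_dvd (by omega) h
    omega)
  set D := charDegree (η : G → ℂ) with hDdef
  have hDp : p ≤ D := by
    have h3 : (1 : ℤ) * (1 + n * p) ≤ ((e : ℤ) - 1) * (1 + n * p) :=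
      mul_le_mul_of_nonneg_right (by omega) (by positivity)
    have : (p : ℤ) ≤ D := by nlinarith
    exact_mod_cast this
  have hgp : g < p := by
    by_contra hc
    push Not at hc
    have := Nat.mul_le_mul hDp hc
    omega
  have hdz : (p : ℤ) ∣ (e : ℤ) * ((g : ℤ) - u) := by
    refine ⟨(e : ℤ) * u * n - ((e : ℤ) - 1) * n * g, ?_⟩
    have h3 : ((e * u * (1 + n * p) : ℕ) : ℤ) = ((D * g : ℕ) : ℤ) := by rw [hg]
    push_cast at h3
    linear_combination -h3 - (g : ℤ) * h2
  have hgu : (g : ℤ) = u := by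
    have h4 : (p : ℤ) ∣ (g : ℤ) - u := by
      refine (Int.Prime.dvd_mul' hp hdz).resolve_left fun h => ?_
      have := Int.le_of_dvd (by omega) h
      omega
    have hup : 1 * u ≤ e * u := Nat.mul_le_mul_right u (by omega)
    have h5 := Int.eq_zero_of_abs_lt_dvd h4 (by rw [abs_lt]; constructor <;> omega)
    linarith
  have h6 : ((e * u * (1 + n * p) : ℕ) : ℤ) = ((D * g : ℕ) : ℤ) := by rw [hg]
  push_cast at h6
  rw [hgu, h2] at h6
  have h7 : (0 : ℤ) < (n : ℤ) * p * u := by positivity
  linarith

/-- If `|G| < p ^ 3` then the Sylow `p`-subgroup is self-centralizing. -/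
theorem self_centralizing (hG : ¬ IsCyclic G) (hdvd : p ∣ Nat.card G)
    (hbig : Nat.card G < p ^ 3) (P : Sylow p G) :
    Nat.card P = p ∧ Subgroup.centralizer ((P : Subgroup G) : Set G) = (P : Subgroup G) ∧
      ∃ n, Nat.card (Sylow p G) = 1 + n * p ∧ 2 * n ≤ p + 2 := by
  have hp := (Fact.out : p.Prime)
  have hperf := perfect_of_simple hG
  set N := Subgroup.normalizer ((P : Subgroup G) : Set G) with hN
  have hidx : Nat.card G = Nat.card (Sylow p G) * Nat.card N := by
    rw [P.card_eq_index_normalizer, hN]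
    exact (Subgroup.index_mul_card _).symm
  obtain ⟨k, hk⟩ := IsPGroup.iff_card.1 P.isPGroup'
  have hk1 : 1 ≤ k := by
    have h := P.dvd_card_of_dvd_card hdvd
    rw [hk] at h
    by_contra hc
    rw [show k = 0 by omega, pow_zero, Nat.dvd_one] at h
    exact hp.ne_one h
  obtain ⟨n, hn⟩ : ∃ n, Nat.card (Sylow p G) = 1 + n * p := by
    refine ⟨Nat.card (Sylow p G) / p, ?_⟩
    have h1 : Nat.card (Sylow p G) % p = 1 := Eq.trans
      (show Nat.card (Sylow p G) % p = 1 % p from card_sylow_modEq_one p G)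
      (Nat.mod_eq_of_lt hp.one_lt)
    have h2 := Nat.mod_add_div (Nat.card (Sylow p G)) p
    rw [h1] at h2
    rw [mul_comm]; exact h2.symm
  have hn1 : 1 ≤ n := by
    by_contra hc
    have h1 : Nat.card (Sylow p G) = 1 := by rw [hn, show n = 0 by omega]; simp
    haveI : Subsingleton (Sylow p G) := (Nat.card_eq_one_iff_unique.1 h1).1
    haveI hPn : (P : Subgroup G).Normal := Sylow.normal_of_subsingleton P
    rcases hPn.eq_bot_or_eq_top with h | h
    · rw [h, Subgroup.card_bot] at hk
      have : 1 < p ^ k := Nat.one_lt_pow (by omega) hp.one_lt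
      omega
    · -- a simple `p`-group is cyclic
      have hpg : IsPGroup p G := IsPGroup.of_card (n := k) (by rw [← hk, h, Subgroup.card_top])
      haveI := hpg.center_nontrivial
      rcases Subgroup.Normal.eq_bot_or_eq_top (H := Subgroup.center G) inferInstance with h' | h'
      · exact (Subgroup.nontrivial_iff_ne_bot _).1 inferInstance h'
      · apply hG
        haveI : IsMulCommutative G := ⟨⟨fun a b =>
          (Subgroup.mem_center_iff.1 (h' ▸ Subgroup.mem_top b : b ∈ Subgroup.center G) a)⟩⟩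
        open scoped IsMulCommutative in
        exact IsSimpleGroup.isCyclic
  have hP : Nat.card P = p := by
    rw [hk]
    by_contra hne
    have hk2 : 2 ≤ k := by
      by_contra hc
      exact hne (by rw [show k = 1 by omega, pow_one])
    have h1 : p ^ 2 ≤ Nat.card N :=
      calc p ^ 2 ≤ p ^ k := Nat.pow_le_pow_right hp.pos hk2
        _ = Nat.card (P : Subgroup G) := hk.symm
        _ ≤ _ := Nat.le_of_dvd Nat.card_pos (Subgroup.card_dvd_of_le Subgroup.le_normalizer)
    have h2 : (1 + 1 * p) * p ^ 2 ≤ Nat.card (Sylow p G) * Nat.card N := by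
      rw [hn]; exact Nat.mul_le_mul (by nlinarith) h1
    rw [← hidx] at h2
    nlinarith
  obtain ⟨e, he⟩ : ∃ e, (Subgroup.centralizer ((P : Subgroup G) : Set G)).relIndex
      (Subgroup.normalizer ((P : Subgroup G) : Set G)) = e := ⟨_, rfl⟩
  obtain ⟨U, -, hUc, hUmem⟩ := exists_regular_part P hP
  set C := Subgroup.centralizer ((P : Subgroup G) : Set G) with hC
  have hGc : Nat.card G = p * (e * Nat.card U * (1 + n * p)) := by
    rw [hidx, hn, card_normalizer_eq hP e he, ← hC, ← hUc]; ring
  have hM : e * Nat.card U * (1 + n * p) < p * p := by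
    by_contra hc
    push Not at hc
    have := Nat.mul_le_mul_left p hc
    rw [← hGc] at this
    have h3 : p ^ 3 = p * (p * p) := by ring
    omega
  have he2 : 2 ≤ e := by
    by_contra hc
    have he0 : e ≠ 0 := by rw [← he]; exact Subgroup.index_ne_zero_of_finite
    have h1 : C.relIndex (Subgroup.normalizer ((P : Subgroup G) : Set G)) = 1 := by
      omega
    have hle : Subgroup.normalizer ((P : Subgroup G) : Set G) ≤ C := Subgroup.relIndex_eq_one.1 h1
    haveI : IsCyclic (P : Subgroup G) := isCyclic_of_prime_card (p := p) hP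
    letI : CommGroup (P : Subgroup G) := IsCyclic.commGroup
    have hker : (MonoidHom.transferSylow P hle).ker = ⊤ :=
      eq_top_iff.2 (hperf ▸ Abelianization.commutator_subset_ker (MonoidHom.transferSylow P hle))
    have h2 := MonoidHom.ker_transferSylow_isComplement' P hle
    rw [hker, Subgroup.isComplement'_top_left] at h2
    have h3 : Nat.card (P : Subgroup G) = p := hP
    rw [h2, Subgroup.card_bot] at h3
    exact hp.ne_one h3.symm
  have hreg : ∀ c ∈ C, ¬ p ∣ orderOf c → c = 1 := by
    intro c hc hcr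
    rcases Nat.lt_or_ge n 2 with hn2 | hn2
    · -- `n = 1`: the action on the Sylow subgroups
      have hn' : n = 1 := by omega
      subst hn'
      have hcardQ : Nat.card {Q : Sylow p G // Q ≠ P} = p := by
        have h2 : Nat.card {Q : Sylow p G // Q ≠ P} + 1 = 1 + 1 * p := by
          rw [← hn, ← Finite.card_option, Nat.card_congr (Equiv.optionSubtypeNe P)]
        omega
      have hcN : c • P = P :=
        Sylow.smul_eq_iff_mem_normalizer.2 (Subgroup.centralizer_le_normalizer _ hc)
      obtain ⟨⟨Q, hQ⟩⟩ : Nonempty {Q : Sylow p G // Q ≠ P} := by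
        rw [← Nat.card_ne_zero.trans (and_iff_left inferInstance), hcardQ]; exact hp.ne_zero
      let φ : ↥(P : Subgroup G) → {R : Sylow p G // R ≠ P} := fun u => ⟨(u : G) • Q, fun h =>
        hQ (smul_left_cancel (u : G) (h.trans (smul_self_of_mem u.2).symm))⟩
      have hφ : Function.Bijective φ := by
        refine (Nat.bijective_iff_injective_and_card φ).2 ⟨fun u v h => ?_, by rw [hcardQ]; exact hP⟩
        have h1 : (u : G) • Q = (v : G) • Q := congrArg Subtype.val h
        have h2 : ((v : G)⁻¹ * u) • Q = Q := by rw [mul_smul, h1, inv_smul_smul]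
        exact Subtype.ext (inv_mul_eq_one.1
          (semiregular hP (mul_mem (inv_mem v.2) u.2) hQ h2)).symm
      obtain ⟨u, hu⟩ := hφ.2 ⟨c • Q, fun h => hQ (smul_left_cancel c (h.trans hcN.symm))⟩
      have huQ : (u : G) • Q = c • Q := congrArg Subtype.val hu
      set w := (u : G)⁻¹ * c with hw
      have hwP : w • P = P := by rw [hw, mul_smul, hcN, inv_smul_eq_iff, smul_self_of_mem u.2]
      have hwall : ∀ R : Sylow p G, w • R = R := by
        intro R
        by_cases hR : R = P
        · rw [hR]; exact hwP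
        obtain ⟨v, hv⟩ := hφ.2 ⟨R, hR⟩
        have hv' : (v : G) • Q = R := congrArg Subtype.val hv
        haveI := isMulCommutative_of_card P hP
        have h1 : c * (v : G) = v * c := (Subgroup.mem_centralizer_iff.1 hc v v.2).symm
        have h2 : (u : G)⁻¹ * v = v * (u : G)⁻¹ :=
          congrArg Subtype.val (IsMulCommutative.is_comm.comm u⁻¹ v)
        have h3 : w * (v : G) = v * w := by
          rw [hw, mul_assoc, h1, ← mul_assoc, h2, mul_assoc]
        have h4 : w • Q = Q := by rw [hw, mul_smul, ← huQ, inv_smul_smul]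
        rw [← hv', ← mul_smul, h3, mul_smul, h4]
      have hw1 : w = 1 := by
        set K := (MulAction.toPermHom G (Sylow p G)).ker with hK
        have hmem : w ∈ K := by
          rw [hK, MonoidHom.mem_ker]; exact Equiv.ext hwall
        rcases Subgroup.Normal.eq_bot_or_eq_top (H := K) inferInstance with h | h
        · rwa [h, Subgroup.mem_bot] at hmem
        · exfalso
          obtain ⟨g, hg⟩ := exists_smul_eq G P Q
          have h5 : g ∈ K := h ▸ Subgroup.mem_top g
          rw [hK, MonoidHom.mem_ker] at h5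
          exact hQ (hg.symm.trans (congrArg (fun σ : Equiv.Perm (Sylow p G) => σ P) h5))
      have hcP : c ∈ (P : Subgroup G) := by
        rw [show c = (u : G) * w by rw [hw]; group, hw1, mul_one]; exact u.2
      by_contra hc1
      exact hcr (dvd_of_eq (orderOf_mem hP (mem_Ps.2 ⟨hcP, hc1⟩)).symm)
    · obtain ⟨X, Y, a, ε, B⟩ := exists_blk hP e he
      obtain ⟨χ, hχ, ha, hdeg⟩ := exists_Xm hperf B he2 hn2 Nat.card_pos hGc hM
      refine eq_one_of_value hP (isCharacter_of_isIrrCharacter χ.2) ?_ (fun y hy => ?_) (fun y hy => ?_)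
      · rw [ClassAlgebraVal.apply_one_eq_charDegree, hdeg]
      · rw [B.valX χ hχ y hy, ha]; norm_num
      · rw [B.valXC χ hχ y hy c hc hcr, ha]; norm_num
  have hU : Nat.card U = 1 := by
    rw [Subgroup.card_eq_one, eq_bot_iff]
    intro c hc
    exact Subgroup.mem_bot.2 (hreg c ((hUmem c).1 hc).1 ((hUmem c).1 hc).2)
  refine ⟨hP, ?_, n, hn, ?_⟩
  · haveI := isMulCommutative_of_card P hP
    refine (Subgroup.eq_of_le_of_card_ge (Subgroup.le_centralizer (P : Subgroup G)) ?_).symm
    rw [← hUc, hU, one_mul]; exact hP.ge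
  · rw [hU, mul_one] at hM
    have h1 : 2 * (1 + n * p) ≤ e * (1 + n * p) := Nat.mul_le_mul_right _ he2
    by_contra hc
    push Not at hc
    have h2 : (p + 3) * p ≤ 2 * n * p := Nat.mul_le_mul_right p (by omega)
    nlinarith

end Cfsg.Agent.BrauerReynolds7
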