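import Cfsg.Agent.Lib.BrauerReynolds7Block
import Cfsg.Agent.Lib.CharAverage
import Cfsg.Agent.Lib.CharBasicLinear

/-!
# Degrees of the characters of the principal block
-/

set_option autoImplicit false

open Finset
open scoped ComplexConjugate

namespace Cfsg.Agent.BrauerReynolds7

open Cfsg Cfsg.Agent.CharBasic Cfsg.Agent.CharBasicOrth Cfsg.Agent.DefectOneSign7
open Cfsg.Agent.BlockPrincipal81

attribute [local instance] Classical.propDecidable

universe u

variable {G : Type u} [Group G] [Fintype G]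

/-- A homomorphism from a perfect group to a commutative group is trivial. -/
theorem perfect_hom_eq_one (hperf : commutator G = ⊤) {A : Type*} [CommGroup A] (f : G →* A)
    (g : G) : f g = 1 :=
  MonoidHom.mem_ker.1
    (Abelianization.commutator_subset_ker f (show g ∈ commutator G from hperf ▸ Subgroup.mem_top g))

/-- The only character of degree one of a perfect group is the trivial one. -/
theorem eq_oneChar_of_degree_one (hperf : commutator G = ⊤) {χ : IrrCharacter G}
    (h : charDegree (χ : G → ℂ) = 1) : χ = oneChar G := by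
  obtain ⟨f, hf⟩ := CharBasicLinear.exists_hom_of_apply_one_eq_one
    (isCharacter_of_isIrrCharacter χ.2)
    (by rw [ClassAlgebraVal.apply_one_eq_charDegree, h, Nat.cast_one])
  refine Subtype.ext (funext fun g => ?_)
  rw [hf]
  simp [perfect_hom_eq_one hperf f, oneChar]

theorem degree_sq_lt {χ : IrrCharacter G} (hχ : χ ≠ oneChar G) :
    charDegree (χ : G → ℂ) * charDegree (χ : G → ℂ) < Nat.card G := by
  have h : ∑ ψ : IrrCharacter G, charDegree (ψ : G → ℂ) * charDegree (ψ : G → ℂ) = Nat.card G := by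
    have h1 := sum_sq_apply_one (G := G)
    simp only [ClassAlgebraVal.apply_one_eq_charDegree, sq] at h1
    exact_mod_cast h1
  have h2 : ∑ ψ ∈ ({χ, oneChar G} : Finset _), charDegree (ψ : G → ℂ) * charDegree (ψ : G → ℂ) ≤
      Nat.card G :=
    h ▸ Finset.sum_le_univ_sum_of_nonneg fun _ => Nat.zero_le _
  rw [Finset.sum_pair hχ] at h2
  have h3 := ClassAlgebraVal.charDegree_pos (oneChar G)
  have h4 : 0 < charDegree (oneChar G : G → ℂ) * charDegree (oneChar G : G → ℂ) := Nat.mul_pos h3 h3
  omega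

variable {p : ℕ} [Fact p.Prime] {P : Sylow p G}

theorem degree_dvd (hP : Nat.card P = p)
    (hC : Subgroup.centralizer ((P : Subgroup G) : Set G) = (P : Subgroup G)) {e n : ℕ}
    (he : (Subgroup.centralizer ((P : Subgroup G) : Set G)).relIndex
      (Subgroup.normalizer ((P : Subgroup G) : Set G)) = e)
    (hn : Nat.card (Sylow p G) = 1 + n * p) {χ : IrrCharacter G}
    (h : ¬ p ∣ charDegree (χ : G → ℂ)) : charDegree (χ : G → ℂ) ∣ e * (1 + n * p) := by
  have h1 := CharAverage.charDegree_dvd_card χ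
  rw [card_group hP hC e he, hn, show (1 + n * p) * (p * e) = p * (e * (1 + n * p)) by ring] at h1
  exact (Nat.Coprime.dvd_mul_left (((Fact.out : p.Prime).coprime_iff_not_dvd.2 h).symm)).1 h1

/-- With the Sylow normalizer as large as possible, no faithful character has degree `p - 1`. -/
theorem no_regular_restriction (hperf : commutator G = ⊤) (hP : Nat.card P = p)
    (hC : Subgroup.centralizer ((P : Subgroup G) : Set G) = (P : Subgroup G)) {e : ℕ}
    (he : (Subgroup.centralizer ((P : Subgroup G) : Set G)).relIndex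
      (Subgroup.normalizer ((P : Subgroup G) : Set G)) = e)
    (hp3 : 3 ≤ p) (hep : e + 1 = p) {χ : G → ℂ} (hχ : IsCharacter G χ) (h1 : χ 1 = (e : ℂ))
    (hy : ∀ y ∈ Ps P, χ y = -1) : False := by
  have hp := (Fact.out : p.Prime)
  obtain ⟨d, ρ, rfl⟩ := hχ
  set V := Fin d → ℂ
  have hd : Module.finrank ℂ V = e := by
    rw [Representation.char_one] at h1
    exact_mod_cast h1
  -- no fixed points
  letI := Fintype.ofFinite ↥(P : Subgroup G)
  haveI : Invertible (Nat.card ↥(P : Subgroup G) : ℂ) :=
    invertibleOfNonzero (Nat.cast_ne_zero.2 Nat.card_pos.ne')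
  have hinv : Representation.invariants (ρ.comp (P : Subgroup G).subtype) = ⊥ := by
    have h := Representation.card_inv_mul_sum_char_eq_finrank (ρ.comp (P : Subgroup G).subtype)
    have hs : ∑ x : (P : Subgroup G), Representation.character (ρ.comp (P : Subgroup G).subtype) x =
        ∑ x ∈ els (P : Subgroup G), ρ.character x := by
      rw [sum_els]; rfl
    rw [hs, sum_els_P, h1, Finset.sum_congr rfl hy, Finset.sum_const, card_Ps hP, nsmul_eq_mul,
      show ((p - 1 : ℕ) : ℂ) = (e : ℂ) by congr 1; omega] at h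
    rw [← Submodule.finrank_eq_zero]
    have h' : (Module.finrank ℂ (Representation.invariants (ρ.comp (P : Subgroup G).subtype)) : ℂ) = 0 := by
      rw [← h]; ring
    exact_mod_cast h'
  obtain ⟨z, hz⟩ := exists_mem_Ps hP
  have hzo := orderOf_mem hP hz
  obtain ⟨b, μ, hb, hμ, -, -⟩ := exists_rep_eigenbasis ρ z
  rw [hzo] at hμ
  set i₀ : Fin (Module.finrank ℂ V) := ⟨0, by omega⟩
  set v := b i₀ with hv
  set ω := μ i₀ with hωdef
  have hω1 : ω ≠ 1 := by
    intro hω
    have hfix : ρ z v = v := by rw [hv, hb, ← hωdef, hω, one_smul]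
    have hmem : v ∈ Representation.invariants (ρ.comp (P : Subgroup G).subtype) := by
      intro x
      have hx : (x : G) ∈ Subgroup.zpowers z := by
        rw [zpowers_eq P hP (mem_Ps.1 hz).1 (mem_Ps.1 hz).2]; exact x.2
      obtain ⟨k, hk⟩ := ((isOfFinOrder_of_finite z).mem_powers_iff_mem_zpowers.2 hx)
      show ρ (x : G) v = v
      rw [← hk]
      show ρ (z ^ k) v = v
      clear hk
      induction k with
      | zero => simp
      | succ k ih => rw [pow_succ, map_mul, Module.End.mul_apply, hfix, ih]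
    rw [hinv, Submodule.mem_bot] at hmem
    exact b.ne_zero i₀ hmem
  have hω : IsPrimitiveRoot ω p :=
    IsPrimitiveRoot.iff_orderOf.2 (orderOf_eq_prime (hμ i₀) hω1)
  -- a generator of a complement
  obtain ⟨n0, e', hn0, he'0, -, hn0r, hn0e, hgen⟩ := exists_generator P hP
  rw [hC] at hn0e hgen
  set N := Subgroup.normalizer ((P : Subgroup G) : Set G) with hN
  have hPreg : ∀ x ∈ (P : Subgroup G), ¬ p ∣ orderOf x → x = 1 := by
    intro x hx hr
    by_contra hx1
    exact hr (dvd_of_eq (orderOf_mem hP (mem_Ps.2 ⟨hx, hx1⟩)).symm)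
  have ho : orderOf n0 = e := by
    refine Nat.dvd_antisymm ?_ ?_
    · have h2 : orderOf n0 ∣ p * e := card_normalizer hP hC e he ▸ Subgroup.orderOf_dvd_natCard _ hn0
      exact ((hp.coprime_iff_not_dvd.2 hn0r).symm.dvd_mul_left).1 h2
    · have h2 : orderOf n0 ∣ p * e := card_normalizer hP hC e he ▸ Subgroup.orderOf_dvd_natCard _ hn0
      have h3 := ((hp.coprime_iff_not_dvd.2 hn0r).symm.dvd_mul_left).1 h2
      have h4 : e ≤ orderOf n0 := by
        have hsub : els N ⊆ ((Finset.range (orderOf n0)) ×ˢ els (P : Subgroup G)).image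
            fun q => n0 ^ q.1 * q.2 := by
          intro m hm
          obtain ⟨i, c, hc, rfl⟩ := hgen m (mem_els.1 hm)
          exact Finset.mem_image.2 ⟨(i % orderOf n0, c), Finset.mem_product.2
            ⟨Finset.mem_range.2 (Nat.mod_lt _ (orderOf_pos _)), mem_els.2 hc⟩, by
              rw [pow_mod_orderOf]⟩
        have h5 := (Finset.card_le_card hsub).trans Finset.card_image_le
        rw [Finset.card_product, Finset.card_range, card_els, card_els,
          card_normalizer hP hC e he, show Nat.card (P : Subgroup G) = p from hP, mul_comm p] at h5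
        exact Nat.le_of_mul_le_mul_right h5 hp.pos
      have : orderOf n0 = e := le_antisymm (Nat.le_of_dvd (by omega) h3) h4
      exact dvd_of_eq this.symm
  -- the conjugates of the eigenvector
  have hconj : ∀ i : ℕ, ∃ r, r < p ∧ (n0 ^ i)⁻¹ * z * n0 ^ i = z ^ r := by
    intro i
    have hm : (n0 ^ i)⁻¹ * z * n0 ^ i ∈ (P : Subgroup G) := by
      have := (Subgroup.mem_normalizer_iff''.1 (pow_mem hn0 i) z).1 (mem_Ps.1 hz).1
      exact this
    rw [← zpowers_eq P hP (mem_Ps.1 hz).1 (mem_Ps.1 hz).2] at hm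
    obtain ⟨r, hr, hr'⟩ := Finset.mem_image.1
      ((isOfFinOrder_of_finite z).mem_zpowers_iff_mem_range_orderOf.1 hm)
    exact ⟨r, hzo ▸ Finset.mem_range.1 hr, hr'.symm⟩
  choose r hr hr' using hconj
  set w : Fin e → V := fun i => ρ (n0 ^ (i : ℕ)) v with hw
  have hweig : ∀ i : Fin e, Module.End.HasEigenvector (ρ z) (ω ^ r (i : ℕ)) (w i) := by
    intro i
    refine ⟨Module.End.mem_eigenspace_iff.2 ?_, ?_⟩
    · have hzr : ∀ k : ℕ, ρ (z ^ k) v = ω ^ k • v := by
        intro k
        induction k with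
        | zero => simp
        | succ k ih =>
          rw [pow_succ, map_mul, Module.End.mul_apply, hv, hb, ← hv, ← hωdef, map_smul, ih,
            smul_smul, ← pow_succ']
      show ρ z (ρ (n0 ^ (i : ℕ)) v) = _
      rw [← Module.End.mul_apply, ← map_mul,
        show z * n0 ^ (i : ℕ) = n0 ^ (i : ℕ) * z ^ r (i : ℕ) by rw [← hr']; group,
        map_mul, Module.End.mul_apply, hzr, map_smul]
    · intro h0
      have h2 := congrArg (ρ (n0 ^ (i : ℕ))⁻¹) h0
      rw [hw] at h2
      simp only at h2
      rw [← Module.End.mul_apply, ← map_mul, inv_mul_cancel, map_one, map_zero] at h2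
      exact b.ne_zero i₀ h2
  have hinj : Function.Injective fun i : Fin e => ω ^ r (i : ℕ) := by
    have hkey : ∀ i j : ℕ, i < j → j < e → r i ≠ r j := by
      intro i j hij hj h
      have h2 : (n0 ^ i)⁻¹ * z * n0 ^ i = (n0 ^ j)⁻¹ * z * n0 ^ j := by rw [hr', hr', h]
      obtain ⟨k, rfl⟩ := Nat.exists_eq_add_of_lt hij
      rw [show i + k + 1 = (k + 1) + i by ring, pow_add n0 (k + 1) i] at h2
      have h3 : n0 ^ (k + 1) * z = z * n0 ^ (k + 1) := by
        have := congrArg (fun x => n0 ^ i * x * (n0 ^ i)⁻¹) h2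
        simp only [mul_inv_rev] at this
        have h4 : z = (n0 ^ (k + 1))⁻¹ * z * n0 ^ (k + 1) := by
          calc z = n0 ^ i * ((n0 ^ i)⁻¹ * z * n0 ^ i) * (n0 ^ i)⁻¹ := by group
            _ = _ := this
            _ = (n0 ^ (k + 1))⁻¹ * z * n0 ^ (k + 1) := by group
        conv_lhs => rw [h4]
        group
      have h5 := mem_P_of_comm hP hC hz h3
      have h6 : n0 ^ (k + 1) = 1 := hPreg _ h5 fun hd => hn0r (hd.trans (orderOf_pow_dvd _))
      have h7 := Nat.le_of_dvd (by omega) (orderOf_dvd_of_pow_eq_one h6)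
      omega
    intro i j h
    have h2 : r (i : ℕ) = r (j : ℕ) := hω.pow_inj (hr _) (hr _) h
    rcases lt_trichotomy (i : ℕ) j with h3 | h3 | h3
    · exact absurd h2 (hkey _ _ h3 j.2)
    · exact Fin.ext h3
    · exact absurd h2.symm (hkey _ _ h3 i.2)
  have hli := Module.End.eigenvectors_linearIndependent' (ρ z) _ hinj w hweig
  haveI : Nonempty (Fin e) := ⟨⟨0, by omega⟩⟩
  set B := basisOfLinearIndependentOfCardEqFinrank hli (by rw [Fintype.card_fin, hd])
  have hB : (B : Fin e → V) = w := coe_basisOfLinearIndependentOfCardEqFinrank _ _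
  have hrot : (ρ n0 : V → V) ∘ B = B ∘ finRotate e := by
    funext i
    rw [hB]
    show ρ n0 (ρ (n0 ^ (i : ℕ)) v) = ρ (n0 ^ ((finRotate e i : Fin e) : ℕ)) v
    rw [← Module.End.mul_apply, ← map_mul, ← pow_succ']
    congr 2
    haveI : NeZero e := ⟨by omega⟩
    rw [finRotate_apply, Fin.val_add, ← pow_mod_orderOf n0 ((i : ℕ) + 1), ho]
    congr 1
    rw [Fin.val_one', Nat.add_mod_mod]
  have hdet := Module.Basis.det_comp B (ρ n0) B
  rw [hrot, AlternatingMap.map_perm, B.det_self, sign_finRotate, mul_one] at hdet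
  have hodd : Odd (e - 1) := by
    have h2 := hp.odd_of_ne_two (by omega)
    rw [Nat.odd_iff] at h2 ⊢
    omega
  rw [hodd.neg_one_pow] at hdet
  set f : G →* ℂˣ := ((LinearMap.det : (V →ₗ[ℂ] V) →* ℂ).comp ρ).toHomUnits with hf
  have h8 : LinearMap.det (ρ n0) = 1 := by
    have h9 := congrArg Units.val (perfect_hom_eq_one hperf f n0)
    simpa [hf] using h9
  rw [h8] at hdet
  norm_num at hdet

end Cfsg.Agent.BrauerReynolds7
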