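import Cfsg.Agent.Lib.BrauerReynolds7Count

/-!
# Products of exceptional characters

If the exceptional characters have degree `e`, then `n = 1` and there are two of them.
-/

set_option autoImplicit false

open Finset
open scoped ComplexConjugate

namespace Cfsg.Agent.BrauerReynolds7

open Cfsg Cfsg.Agent.CharBasic Cfsg.Agent.CharBasicOrth Cfsg.Agent.DefectOneSign7
open Cfsg.Agent.BlockPrincipal81

attribute [local instance] Classical.propDecidable

universe u

variable {G : Type u} [Group G] [Fintype G] {p : ℕ} [Fact p.Prime]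
  {P : Sylow p G} {e n : ℕ} {X Y : Finset (IrrCharacter G)} {a : IrrCharacter G → ℤ} {ε : ℤ}
  (S : Setup P e n X Y a ε)

include S

/-- The multiplicity of a character in a product of two exceptional characters. -/
theorem prod_mult {θ θ' : IrrCharacter G} (hθ : θ ∈ Y) (hθ' : θ' ∈ Y) {η : IrrCharacter G}
    (hη : η ∈ Y) (χ : IrrCharacter G) :
    (Nat.card G : ℂ) * classInner (fun g => (θ : G → ℂ) g * conj ((θ' : G → ℂ) g)) (χ : G → ℂ) =
      ∑ g ∈ Rs p, (η : G → ℂ) g * conj ((η : G → ℂ) g) * conj ((χ : G → ℂ) g) +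
        (Nat.card (Sylow p G) : ℂ) *
          ∑ y ∈ Ps P, (θ : G → ℂ) y * conj ((θ' : G → ℂ) y) * conj ((χ : G → ℂ) y) := by
  rw [card_mul_classInner, sum_split S.cardP S.cent
    (f := fun g => (θ : G → ℂ) g * conj ((θ' : G → ℂ) g) * conj ((χ : G → ℂ) g)) (fun a b => by
      simp only [BlockTheoryCentre.irr_classFun θ a b, BlockTheoryCentre.irr_classFun θ' a b,
        BlockTheoryCentre.irr_classFun χ a b])]
  congr 1
  exact Finset.sum_congr rfl fun g hg => by
    rw [S.agree θ hθ η hη g (mem_Rs.1 hg), S.agree θ' hθ' η hη g (mem_Rs.1 hg)]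

/-- If the exceptional characters have degree `e` then `n = 1` and `p = 2 e + 1`. -/
theorem n_eq_one_of_w_zero (hw : (Xp X a).card * n = (Xm X a).card) :
    n = 1 ∧ 2 * e + 1 = p := by
  have hY2 := two_le_card_Y S
  obtain ⟨θ, hθ, θ', hθ', hne⟩ := Finset.one_lt_card.1 hY2
  have hdeg : ∀ η ∈ Y, charDegree (η : G → ℂ) = e ∧ ε = 1 := by
    intro η hη
    have h := deg_Y S hη
    rw [show ((Xp X a).card : ℤ) * n = ((Xm X a).card : ℤ) by exact_mod_cast hw, sub_self,
      zero_mul, add_zero] at h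
    have he := S.two_le
    rcases S.sign with h1 | h1
    · rw [h1, one_mul] at h; exact ⟨by exact_mod_cast h, h1⟩
    · rw [h1] at h; omega
  have hε : ε = 1 := (hdeg θ hθ).2
  set s : ℂ := (Nat.card (Sylow p G) : ℂ) with hs
  have hs0 : s ≠ 0 := Nat.cast_ne_zero.2 Nat.card_pos.ne'
  set R : IrrCharacter G → ℂ := fun χ =>
    ∑ g ∈ Rs p, (θ : G → ℂ) g * conj ((θ : G → ℂ) g) * conj ((χ : G → ℂ) g) with hR
  have hG : (Nat.card G : ℂ) = s * (p * e) := by
    rw [card_group S.cardP S.cent e S.relIdx]; push_cast; rfl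
  have hG0 : (Nat.card G : ℂ) ≠ 0 := Nat.cast_ne_zero.2 Nat.card_pos.ne'
  have hchar : ∀ φ φ' : IrrCharacter G,
      IsCharacter G (fun g => (φ : G → ℂ) g * conj ((φ' : G → ℂ) g)) := fun φ φ' =>
    CharBasicDecomp.isCharacter_mul (isCharacter_of_isIrrCharacter φ.2)
      (CharBasicDecomp.isCharacter_conj (isCharacter_of_isIrrCharacter φ'.2))
  obtain ⟨m₁, hm₁, -⟩ := CharBasicDecomp.exists_mult (hchar θ θ)
  obtain ⟨m₂, hm₂, hdec⟩ := CharBasicDecomp.exists_mult (hchar θ θ')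
  have hXval : ∀ χ ∈ X, (Nat.card G : ℂ) * m₁ χ = R χ + s * (a χ) * ((p : ℂ) * e - (e : ℂ) ^ 2) ∧
      (Nat.card G : ℂ) * m₂ χ = R χ - s * (a χ) * (e : ℂ) ^ 2 := by
    intro χ hχ
    constructor
    · have h1 := sum_Ps_mul S.toBlk S.cardP S.cent S.relIdx hθ hθ
      rw [if_pos rfl] at h1
      rw [← hm₁ χ, prod_mult S hθ hθ hθ χ, Finset.sum_congr (s₁ := Ps P) rfl (g := fun y =>
        (θ : G → ℂ) y * conj ((θ : G → ℂ) y) * (a χ : ℂ)) fun y hy => by
          rw [S.valX χ hχ y hy, map_intCast], ← Finset.sum_mul, h1]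
      ring
    · have h1 := sum_Ps_mul S.toBlk S.cardP S.cent S.relIdx hθ hθ'
      rw [if_neg hne] at h1
      rw [← hm₂ χ, prod_mult S hθ hθ' hθ χ, Finset.sum_congr (s₁ := Ps P) rfl (g := fun y =>
        (θ : G → ℂ) y * conj ((θ' : G → ℂ) y) * (a χ : ℂ)) fun y hy => by
          rw [S.valX χ hχ y hy, map_intCast], ← Finset.sum_mul, h1]
      ring
  have hpos : ∀ χ ∈ X, a χ = 1 → m₂ χ = 0 := by
    intro χ hχ ha
    have hP0 : ∑ y ∈ els (P : Subgroup G), (θ : G → ℂ) y * conj ((θ' : G → ℂ) y) = 0 := by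
      rw [sum_els_P, sum_Ps_mul S.toBlk S.cardP S.cent S.relIdx hθ hθ', if_neg hne,
        ClassAlgebraVal.apply_one_eq_charDegree, ClassAlgebraVal.apply_one_eq_charDegree,
        (hdeg θ hθ).1, (hdeg θ' hθ').1, map_natCast]
      ring
    choose c hc using fun ψ : IrrCharacter G =>
      exists_nat_avg (P : Subgroup G) (isCharacter_of_isIrrCharacter ψ.2)
    rw [Finset.sum_congr rfl fun y _ => congrFun hdec y] at hP0
    simp only [Finset.sum_apply, Pi.smul_apply, smul_eq_mul] at hP0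
    rw [Finset.sum_comm, Finset.sum_congr rfl fun ψ _ => by rw [← Finset.mul_sum, hc ψ]] at hP0
    have hP1 : ∑ ψ : IrrCharacter G, m₂ ψ * (Nat.card (P : Subgroup G) * c ψ) = 0 := by
      exact_mod_cast hP0
    have hz := Finset.sum_eq_zero_iff.1 hP1 χ (Finset.mem_univ _)
    rcases Nat.mul_eq_zero.1 hz with h | h
    · exact h
    · exfalso
      have h2 := hc χ
      rw [show ((Nat.card (P : Subgroup G) : ℂ) * c χ) = 0 by exact_mod_cast h, sum_els_P,
        Finset.sum_congr rfl fun y hy => by rw [S.valX χ hχ y hy, ha], Finset.sum_const,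
        card_Ps S.cardP, nsmul_eq_mul, Int.cast_one, mul_one,
        ClassAlgebraVal.apply_one_eq_charDegree] at h2
      have h3 : charDegree (χ : G → ℂ) + (p - 1) = 0 := by exact_mod_cast h2
      have := ClassAlgebraVal.charDegree_pos χ
      omega
  have hneg : ∀ χ ∈ Xm X a, 1 ≤ m₂ χ := by
    intro χ hχ
    simp only [Xm, Finset.mem_filter] at hχ
    obtain ⟨h1, h2⟩ := hXval χ hχ.1
    rw [hχ.2] at h1 h2
    have h3 : (Nat.card G : ℂ) * ((m₁ χ : ℂ) + 1) = (Nat.card G : ℂ) * (m₂ χ : ℂ) := by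
      push_cast at h1 h2
      linear_combination h1 - h2 + hG
    have h4 : m₁ χ + 1 = m₂ χ := by exact_mod_cast mul_left_cancel₀ hG0 h3
    omega
  have hR1 : ∀ χ ∈ X, a χ = 1 → R χ = s * (e : ℂ) ^ 2 := by
    intro χ hχ ha
    have h2 := (hXval χ hχ).2
    rw [hpos χ hχ ha, ha] at h2
    push_cast at h2
    linear_combination -h2
  set y₀ := ∑ χ ∈ Xm X a, m₂ χ with hy₀
  have hRm : ∀ χ ∈ Xm X a, R χ = (Nat.card G : ℂ) * (m₂ χ : ℂ) - s * (e : ℂ) ^ 2 := by
    intro χ hχ
    simp only [Xm, Finset.mem_filter] at hχ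
    have h2 := (hXval χ hχ.1).2
    rw [hχ.2] at h2
    push_cast at h2
    linear_combination -h2
  have hR3 : R θ = (e : ℂ) * (s * (e : ℂ) ^ 2) - (Nat.card G : ℂ) * (y₀ : ℂ) := by
    have h1 : R θ = ∑ χ ∈ X, (a χ : ℂ) * R χ := by
      simp only [hR, Finset.mul_sum]
      rw [Finset.sum_comm]
      refine Finset.sum_congr rfl fun g hg => ?_
      have h := S.regular θ hθ g (mem_Rs.1 hg)
      rw [hε, Int.cast_one, one_mul] at h
      calc (θ : G → ℂ) g * conj ((θ : G → ℂ) g) * conj ((θ : G → ℂ) g)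
          = (θ : G → ℂ) g * conj ((θ : G → ℂ) g) * conj (∑ χ ∈ X, (a χ : ℂ) * (χ : G → ℂ) g) := by
            rw [← h]
        _ = _ := by
            simp only [map_sum, map_mul, map_intCast]
            rw [Finset.mul_sum]
            exact Finset.sum_congr rfl fun χ _ => by ring
    rw [h1, sum_X S, S.a_one, hR1 _ S.one_mem S.a_one,
      Finset.sum_congr rfl (g := fun _ => s * (e : ℂ) ^ 2) (s₁ := Xp X a) fun χ hχ => by
        simp only [Xp, Finset.mem_filter] at hχ
        rw [hR1 χ hχ.1 hχ.2.1, hχ.2.1, Int.cast_one, one_mul],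
      Finset.sum_congr rfl (g := fun χ => s * (e : ℂ) ^ 2 - (Nat.card G : ℂ) * (m₂ χ : ℂ))
        (s₁ := Xm X a) fun χ hχ => by
        rw [hRm χ hχ, show a χ = -1 by simp only [Xm, Finset.mem_filter] at hχ; exact hχ.2]
        push_cast; ring,
      Finset.sum_sub_distrib, Finset.sum_const, Finset.sum_const, ← Finset.mul_sum, nsmul_eq_mul,
      nsmul_eq_mul, hy₀, Nat.cast_sum,
      show (e : ℂ) = 1 + (Xp X a).card + (Xm X a).card by exact_mod_cast (card_split S).symm]
    push_cast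
    ring
  have hkey : (Nat.card G : ℂ) * (∑ η ∈ Y, (m₁ η : ℂ)) =
      (Y.card : ℂ) * R θ - s * ((p : ℂ) * e - (e : ℂ) ^ 2) := by
    rw [Finset.mul_sum, Finset.sum_congr rfl fun η hη => by
      rw [← hm₁ η, prod_mult S hθ hθ hθ η], Finset.sum_add_distrib, ← Finset.mul_sum]
    have h1 : ∑ η ∈ Y, ∑ g ∈ Rs p, (θ : G → ℂ) g * conj ((θ : G → ℂ) g) * conj ((η : G → ℂ) g) =
        (Y.card : ℂ) * R θ := by
      rw [← nsmul_eq_mul, ← Finset.sum_const]
      exact Finset.sum_congr rfl fun η hη => Finset.sum_congr rfl fun g hg => by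
        rw [S.agree η hη θ hθ g (mem_Rs.1 hg)]
    have h2 : ∑ η ∈ Y, ∑ y ∈ Ps P, (θ : G → ℂ) y * conj ((θ : G → ℂ) y) * conj ((η : G → ℂ) y) =
        -((p : ℂ) * e - (e : ℂ) ^ 2) := by
      rw [Finset.sum_comm, Finset.sum_congr rfl fun y hy => by
        rw [← Finset.mul_sum, ← map_sum, S.sumY y hy, hε], ← Finset.sum_mul,
        sum_Ps_mul S.toBlk S.cardP S.cent S.relIdx hθ hθ, if_pos rfl]
      simp
    rw [h1, h2, ← hs]
    ring
  have hfin : (∑ η ∈ Y, m₁ η) + Y.card * y₀ + 1 = e := by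
    have hpc : (p : ℂ) = Y.card * e + 1 := by exact_mod_cast S.cardY.symm
    rw [hR3] at hkey
    have h : (Nat.card G : ℂ) * ((∑ η ∈ Y, (m₁ η : ℂ)) + Y.card * y₀ + 1) =
        (Nat.card G : ℂ) * e := by
      linear_combination hkey + hG - (e : ℂ) * hG - s * (e : ℂ) ^ 2 * hpc
    have h' := mul_left_cancel₀ hG0 h
    rw [← Nat.cast_sum] at h'
    exact_mod_cast h'
  have hB : (Xm X a).card ≤ y₀ := by
    rw [hy₀, Finset.card_eq_sum_ones]
    exact Finset.sum_le_sum hneg
  have h5 : Y.card * (Xm X a).card + 1 ≤ e := by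
    have := Nat.mul_le_mul_left Y.card hB
    omega
  have hA : 1 ≤ (Xp X a).card := by
    have := card_split S
    have := S.two_le
    by_contra hc
    rw [show (Xp X a).card = 0 by omega, zero_mul] at hw
    omega
  have hn := S.n_pos
  have h6 : Y.card * n ≤ 1 + n := by
    refine Nat.le_of_mul_le_mul_left ?_ hA
    have h8 : (Xp X a).card * (Y.card * n) = Y.card * (Xm X a).card := by rw [← hw]; ring
    have := card_split S
    rw [h8, mul_add, mul_one, hw]
    omega
  have h7 : Y.card = 2 ∧ n = 1 := by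
    have h9 : 2 * n ≤ Y.card * n := Nat.mul_le_mul_right n hY2
    have hn1 : n = 1 := by omega
    subst hn1
    omega
  refine ⟨h7.2, ?_⟩
  have := S.cardY
  rw [h7.1] at this
  omega

end Cfsg.Agent.BrauerReynolds7
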