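import Mathlib
import Cfsg.Agent.Lib.ZStarTheorem

/-!
# Consequences of the Brauer–Suzuki theorem
-/

set_option autoImplicit false

namespace Cfsg.Agent.BrauerSuzukiApps

open Cfsg Cfsg.Agent.ZStarBasic Cfsg.Agent.ZStarLocal

universe u

variable {G : Type u} [Group G]

theorem pPrimeCore_eq_bot [Finite G] (hO : ∀ N : Subgroup G, N.Normal → Odd (Nat.card N) → N = ⊥) :
    pPrimeCore 2 G = ⊥ :=
  hO _ (HallCore.pPrimeCore_normal 2 G) ZStarTheorem.odd_card_pPrimeCore

/-- With a quaternion Sylow subgroup and `O(G) = 1` the centre has order two. -/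
theorem card_center [Finite G] {S : Sylow 2 G} {a b : G} {n : ℕ}
    (h : Gens (S : Subgroup G) a b n)
    (hO : ∀ N : Subgroup G, N.Normal → Odd (Nat.card N) → N = ⊥) :
    Nat.card (Subgroup.center G) = 2 := by
  classical
  have : Fact (Nat.Prime 2) := ⟨Nat.prime_two⟩
  set z := a ^ 2 ^ n
  have hzc : z ∈ Subgroup.center G :=
    BrauerSuzukiCore.mem_center_of_solitary h.solitary (pPrimeCore_eq_bot hO)
  have h2 : IsPGroup 2 (Subgroup.center G) := by
    refine IsPGroup.iff_orderOf.2 fun x => ?_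
    obtain ⟨x₂, x₁, hmul, -, ⟨k, hk⟩, hx₁⟩ := BlockTheoryIdem.exists_pPart Nat.prime_two x
    refine ⟨k, ?_⟩
    have hY : (Subgroup.zpowers (x₁ : G)).Normal := ⟨fun w hw g => by
      rwa [Subgroup.mem_center_iff.1 (Subgroup.zpowers_le.2 x₁.2 hw) g, mul_inv_cancel_right]⟩
    have hodd : Odd (Nat.card (Subgroup.zpowers (x₁ : G))) := by
      rw [Nat.card_zpowers, Subgroup.orderOf_coe, Nat.odd_iff, ← Nat.two_dvd_ne_zero]
      exact hx₁
    have h1 : x₁ = 1 := Subtype.ext ((Subgroup.zpowers_eq_bot.1 (hO _ hY hodd)))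
    rw [← hmul, h1, mul_one, hk]
  have hle : Subgroup.center G ≤ (S : Subgroup G) := by
    have hsup : IsPGroup 2 ((S : Subgroup G) ⊔ Subgroup.center G : Subgroup G) :=
      S.isPGroup'.to_sup_of_normal_right h2
    exact le_sup_right.trans (S.is_maximal' hsup le_sup_left).le
  have heq : Subgroup.center G = Subgroup.zpowers z := by
    refine le_antisymm (fun x hx => ?_) (Subgroup.zpowers_le.2 hzc)
    have hxS := hle hx
    have hxa : x ∈ Subgroup.zpowers a := by
      by_contra hxa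
      have h1 := (h.inv x hxS hxa).1
      rw [← Subgroup.mem_center_iff.1 hx a, mul_inv_cancel_right] at h1
      have h2 : orderOf a ∣ 2 := orderOf_dvd_of_pow_eq_one
        (by rw [pow_two]; exact mul_eq_one_iff_eq_inv.2 h1)
      rw [h.order] at h2
      have := Nat.le_of_dvd two_pos h2
      have h4 : 4 ≤ 2 ^ (n + 1) := by
        calc 4 = 2 ^ 2 := rfl
          _ ≤ 2 ^ (n + 1) := Nat.pow_le_pow_right two_pos (by have := h.pos; omega)
      omega
    have h1 := h.conj_of_mem_zpowers h.b_mem h.not_mem hxa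
    rw [Subgroup.mem_center_iff.1 hx b, mul_inv_cancel_right] at h1
    by_cases hx1 : x = 1
    · rw [hx1]; exact Subgroup.one_mem _
    · rw [h.eq_of_involution hxS (orderOf_eq_prime (by rw [pow_two]; exact mul_eq_one_iff_eq_inv.2 h1) hx1)]
      exact Subgroup.mem_zpowers z
  rw [heq, Nat.card_zpowers, h.orderOf_z]

/-- The image of a solitary involution modulo a normal subgroup of odd order is solitary. -/
theorem solitary_quotient [Finite G] {z : G} (hz : Solitary z) (N : Subgroup G) [N.Normal]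
    (hN : Odd (Nat.card N)) : Solitary (z : G ⧸ N) := by
  have : Fact (Nat.Prime 2) := ⟨Nat.prime_two⟩
  have hzN : z ∉ N := fun h => by
    have h2 := Subgroup.orderOf_dvd_natCard _ h
    rw [hz.1] at h2
    exact (Nat.not_even_iff_odd.2 hN) (even_iff_two_dvd.2 h2)
  have hzo := (S1181.result z hz.isolated N hzN).2
  refine ⟨hzo.1, fun q hq hc => ?_⟩
  obtain ⟨x, rfl⟩ := QuotientGroup.mk_surjective q
  obtain ⟨x₂, x₁, hmul, hcm, ⟨k, hk⟩, hx₁⟩ := BlockTheoryIdem.exists_pPart Nat.prime_two x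
  have hx2 : (x : G ⧸ N) = (x₂ : G ⧸ N) := by
    have hmem : x₁ ∈ N := by
      rw [← QuotientGroup.eq_one_iff]
      have h1 : orderOf (x₁ : G ⧸ N) ∣ orderOf x₁ := orderOf_map_dvd (QuotientGroup.mk' N) x₁
      have hodd : Nat.Coprime (orderOf x₁) 2 :=
        Nat.coprime_two_right.2 (by rwa [Nat.odd_iff, ← Nat.two_dvd_ne_zero])
      -- the image of the odd part is a power of an involution and of odd order
      obtain ⟨m, hm⟩ := exists_pow_eq_self_of_coprime (x := (x₁ : G ⧸ N)) (n := 2)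
        ((hodd.coprime_dvd_left h1).symm)
      have h3 : (x₁ : G ⧸ N) ^ 2 ^ (k + 1) = 1 := by
        have h4 : (x : G ⧸ N) ^ 2 ^ (k + 1) = 1 := by
          rw [pow_succ', pow_mul, ← hq, pow_orderOf_eq_one, one_pow]
        rw [← hmul, QuotientGroup.mk_mul] at h4
        have hc' : Commute (x₂ : G ⧸ N) (x₁ : G ⧸ N) := hcm.map (QuotientGroup.mk' N)
        rw [hc'.mul_pow, show (x₂ : G ⧸ N) ^ 2 ^ (k + 1) = 1 by
          rw [← QuotientGroup.mk_pow, pow_succ, pow_mul, ← hk, pow_orderOf_eq_one, one_pow,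
            QuotientGroup.mk_one], one_mul] at h4
        exact h4
      exact orderOf_eq_one_iff.1 (Nat.eq_one_of_dvd_coprimes (Nat.Coprime.pow_right (k + 1) hodd)
        h1 (orderOf_dvd_of_pow_eq_one h3))
    rw [← hmul, QuotientGroup.mk_mul, (QuotientGroup.eq_one_iff x₁).2 hmem, mul_one]
  rw [hx2] at hq hc ⊢
  have hx₂2 : orderOf x₂ = 2 := by
    refine orderOf_eq_prime ?_ fun e => by rw [e, QuotientGroup.mk_one, orderOf_one] at hq; omega
    have hmem : x₂ ^ 2 ∈ N := by
      rw [← QuotientGroup.eq_one_iff, QuotientGroup.mk_pow, ← hq, pow_orderOf_eq_one]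
    have h2 : orderOf (x₂ ^ 2) ∣ 2 ^ k := hk ▸ orderOf_pow_dvd 2
    exact orderOf_eq_one_iff.1 (Nat.eq_one_of_dvd_coprimes
      ((Nat.coprime_two_right.2 hN).pow_right k) (Subgroup.orderOf_dvd_natCard N hmem) h2)
  obtain ⟨g, rfl⟩ := isConj_iff.1 (isConj_of_solitary hz hx₂2)
  have := hzo.2 (g : G ⧸ N) (by simpa using hc.symm)
  simpa using this

theorem isCyclic_sylow_closure [Finite G] {S : Sylow 2 G} {a b : G} {n : ℕ}
    (h : Gens (S : Subgroup G) a b n) (Q : Sylow 2 ↥(Subgroup.closure {g : G | orderOf g = 2})) :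
    IsCyclic Q := by
  classical
  have : Fact (Nat.Prime 2) := ⟨Nat.prime_two⟩
  set z := a ^ 2 ^ n
  set O := pPrimeCore 2 G
  set W := O ⊔ Subgroup.zpowers z
  have hcomm := ZStarTheorem.commutator_mem h.solitary.isolated
  have hle : Subgroup.closure {g : G | orderOf g = 2} ≤ W := by
    rw [Subgroup.closure_le]
    intro t ht
    obtain ⟨g, rfl⟩ := isConj_iff.1 (isConj_of_solitary h.solitary ht)
    have e : g * z * g⁻¹ = (z * g * z⁻¹ * g⁻¹)⁻¹ * z := by group
    rw [e]
    exact mul_mem (Subgroup.mem_sup_left (inv_mem (hcomm g))) (Subgroup.mem_sup_right (Subgroup.mem_zpowers z))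
  obtain ⟨k, hk⟩ := IsPGroup.iff_card.1 Q.isPGroup'
  have h1 : 2 ^ k ∣ Nat.card O * 2 := by
    rw [← hk]
    refine (Subgroup.card_subgroup_dvd_card (Q : Subgroup ↥(Subgroup.closure {g : G | orderOf g = 2}))).trans
      ((Subgroup.card_dvd_of_le hle).trans ?_)
    have := HallCore.card_sup_dvd (Subgroup.zpowers z) O
    rw [sup_comm, Nat.card_zpowers, h.orderOf_z, mul_comm 2] at this
    exact this
  have h2 : 2 ^ k ∣ 2 := by
    refine Nat.Coprime.dvd_of_dvd_mul_left ?_ h1
    exact (Nat.coprime_two_left.2 ZStarTheorem.odd_card_pPrimeCore).pow_left k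
  rcases (Nat.dvd_prime Nat.prime_two).1 h2 with h3 | h3
  · have : Subsingleton (Q : Subgroup ↥(Subgroup.closure {g : G | orderOf g = 2})) := by
      rw [← Finite.card_le_one_iff_subsingleton, hk, h3]
    exact isCyclic_of_subsingleton
  · exact isCyclic_of_prime_card (hk.trans h3)

end Cfsg.Agent.BrauerSuzukiApps
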