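import Mathlib

/-!
# Powers of two modulo Fermat and Mersenne primes
-/

set_option autoImplicit false

namespace Cfsg.Agent.BrauerTuan7

variable {p m : ℕ}

theorem two_pow_le_half {m r : ℕ} (h : r < m) : 2 * 2 ^ r ≤ 2 ^ m := by
  rw [← pow_succ']
  exact Nat.pow_le_pow_right (by norm_num) h

/-- A power of two congruent to `1` modulo `2 ^ m - 1` has exponent divisible by `m`. -/
theorem mersenne_dvd (hp : p + 1 = 2 ^ m) (hp3 : 3 ≤ p) {b : ℕ}
    (hb : (2 : ZMod p) ^ b = 1) : m ∣ b := by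
  have h2m : (2 : ZMod p) ^ m = 1 := by
    have h : ((2 ^ m : ℕ) : ZMod p) = ((p + 1 : ℕ) : ZMod p) := by rw [hp]
    push_cast at h
    rw [h, ZMod.natCast_self, zero_add]
  have hr : (2 : ZMod p) ^ (b % m) = 1 := by
    rw [← hb]
    conv_rhs => rw [← Nat.mod_add_div b m, pow_add, pow_mul, h2m, one_pow, mul_one]
  rcases Nat.eq_zero_or_pos m with rfl | hm
  · rw [pow_zero] at hp; omega
  have hlt := two_pow_le_half (Nat.mod_lt b hm)
  have h1 : ((2 ^ (b % m) : ℕ) : ZMod p) = ((1 : ℕ) : ZMod p) := by push_cast; exact hr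
  have h2 := (ZMod.natCast_eq_natCast_iff' _ _ _).1 h1
  rw [Nat.mod_eq_of_lt (show 2 ^ (b % m) < p by omega), Nat.mod_eq_of_lt (show 1 < p by omega)] at h2
  exact Nat.dvd_of_mod_eq_zero ((Nat.pow_eq_one.1 h2).resolve_left (by norm_num))

theorem fermat_two_pow (hp : p = 2 ^ m + 1) : (2 : ZMod p) ^ m = -1 := by
  have h : ((p : ℕ) : ZMod p) = ((2 ^ m + 1 : ℕ) : ZMod p) := by rw [← hp]
  push_cast at h
  rw [ZMod.natCast_self] at h
  exact eq_neg_of_add_eq_zero_left h.symm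

/-- Every power of two is `± 2 ^ r` with `r < m` modulo `2 ^ m + 1`, and equality is only trivial. -/
theorem fermat_cases (hp : p = 2 ^ m + 1) (hm : 1 ≤ m) (b : ℕ) :
    (2 : ZMod p) ^ b = (-1) ^ (b / m) * (2 : ZMod p) ^ (b % m) := by
  conv_lhs => rw [← Nat.mod_add_div b m, pow_add, pow_mul, fermat_two_pow hp]
  rw [mul_comm]

/-- The solutions of `2 ^ b = ± 1` modulo a Fermat prime. -/
theorem fermat_exp (hp : p = 2 ^ m + 1) (hm : 1 ≤ m) {b : ℕ}
    (hb : (2 : ZMod p) ^ b = 1 ∨ (2 : ZMod p) ^ b = -1) :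
    ∃ i, b = i * m ∧ (2 : ZMod p) ^ b = (-1) ^ i := by
  have h := fermat_cases hp hm b
  set r := b % m with hr
  have hlt : 2 * 2 ^ r ≤ 2 ^ m := two_pow_le_half (hr ▸ Nat.mod_lt b hm)
  have hp' : 2 * 2 ^ r + 1 ≤ p := by omega
  have hpos' := Nat.two_pow_pos r
  have h2r : (2 : ZMod p) ^ r = 1 ∨ (2 : ZMod p) ^ r = -1 := by
    rcases neg_one_pow_eq_or (ZMod p) (b / m) with e | e <;> rw [e] at h <;> simp at h
    · rwa [← h]
    · rcases hb with hb | hb <;> rw [hb] at h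
      · exact Or.inr (by rw [← neg_neg ((2 : ZMod p) ^ r), ← h])
      · exact Or.inl (by rw [← neg_neg ((2 : ZMod p) ^ r), ← h, neg_neg])
  have hr0 : r = 0 := by
    rcases h2r with e | e
    · have h1 : ((2 ^ r : ℕ) : ZMod p) = ((1 : ℕ) : ZMod p) := by push_cast; exact e
      have h2 := (ZMod.natCast_eq_natCast_iff' _ _ _).1 h1
      rw [Nat.mod_eq_of_lt (show 2 ^ r < p by omega),
        Nat.mod_eq_of_lt (show 1 < p by omega)] at h2
      exact Nat.pow_eq_one.1 h2 |>.resolve_left (by norm_num)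
    · have h1 : ((2 ^ r + 1 : ℕ) : ZMod p) = ((0 : ℕ) : ZMod p) := by
        push_cast; rw [e]; ring
      have h2 := (ZMod.natCast_eq_natCast_iff' _ _ _).1 h1
      rw [Nat.zero_mod] at h2
      have hpos := Nat.two_pow_pos r
      rw [Nat.mod_eq_of_lt (show 2 ^ r + 1 < p by omega)] at h2
      omega
  refine ⟨b / m, ?_, ?_⟩
  · exact (Nat.div_mul_cancel (Nat.dvd_of_mod_eq_zero (hr.symm.trans hr0))).symm
  · rw [h, hr0, pow_zero, mul_one]

/-- An odd number at most `2 ^ (m - 1) + 1` which is a power of two up to sign modulo `2 ^ m + 1`. -/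
theorem fermat_odd (hp : p = 2 ^ m + 1) (hm : 1 ≤ m) {d j : ℕ} (hd : Odd d)
    (hdle : 2 * d ≤ p + 1)
    (h : (d : ZMod p) * 2 ^ j = 1 ∨ (d : ZMod p) * 2 ^ j = -1) : d = 1 ∨ 2 * d = p + 1 := by
  -- multiply by the inverse of `2 ^ j`
  have hinv : (2 : ZMod p) ^ j * (2 : ZMod p) ^ (2 * m * j - j) = 1 := by
    rw [← pow_add, Nat.add_sub_cancel' (Nat.le_mul_of_pos_left j (by omega)),
      show 2 * m * j = m * (2 * j) by ring, pow_mul, fermat_two_pow hp, pow_mul]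
    simp
  set c := 2 * m * j - j
  have hdc : ∃ s : ℕ, (d : ZMod p) = (-1) ^ s * (2 : ZMod p) ^ (c % m) := by
    have hdd : (d : ZMod p) = ((d : ZMod p) * 2 ^ j) * (2 : ZMod p) ^ c := by
      rw [mul_assoc, hinv, mul_one]
    rw [fermat_cases hp hm c] at hdd
    rcases h with e | e <;> rw [e] at hdd
    · exact ⟨c / m, by rw [hdd, one_mul]⟩
    · exact ⟨c / m + 1, by rw [hdd, pow_succ]; ring⟩
  obtain ⟨s, hs⟩ := hdc
  have hlt := two_pow_le_half (Nat.mod_lt c hm)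
  have hd0 := hd.pos
  have hpos : 0 < 2 ^ (c % m) := Nat.two_pow_pos _
  rcases neg_one_pow_eq_or (ZMod p) s with e | e <;> rw [e] at hs
  · left
    have h1 : ((d : ℕ) : ZMod p) = ((2 ^ (c % m) : ℕ) : ZMod p) := by push_cast; rw [hs, one_mul]
    have h2 := (ZMod.natCast_eq_natCast_iff' _ _ _).1 h1
    rw [Nat.mod_eq_of_lt (show d < p by omega), Nat.mod_eq_of_lt (show 2 ^ (c % m) < p by omega)] at h2
    rw [h2] at hd ⊢
    by_contra hne
    have h3 : Even (2 ^ (c % m)) := Nat.even_pow.2 ⟨even_two, fun h0 => hne (by rw [h0, pow_zero])⟩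
    exact (Nat.not_even_iff_odd.2 hd) h3
  · right
    have h1 : ((d + 2 ^ (c % m) : ℕ) : ZMod p) = ((0 : ℕ) : ZMod p) := by push_cast; rw [hs]; ring
    have h2 := (ZMod.natCast_eq_natCast_iff' _ _ _).1 h1
    rw [Nat.zero_mod] at h2
    obtain ⟨u, hu⟩ := Nat.dvd_of_mod_eq_zero h2
    have hu1 : u = 1 := by
      have hlt2 : d + 2 ^ (c % m) < p * 2 := by omega
      rw [hu] at hlt2
      have := Nat.lt_of_mul_lt_mul_left hlt2
      rcases u with _ | _ | u <;> [simp at hu; rfl; omega]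
    subst hu1
    omega

end Cfsg.Agent.BrauerTuan7
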