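import Cfsg.Agent.Lib.BrauerReynolds7Block
import Cfsg.Agent.Lib.CharInducedBurnside
import Cfsg.Agent.S4731

/-!
# Small faithful characters and principal blocks
-/

set_option autoImplicit false

open Finset
open scoped ComplexConjugate

namespace Cfsg.Agent.BrauerTuan7

open Cfsg Cfsg.Agent.CharBasic Cfsg.Agent.CharBasicOrth Cfsg.Agent.DefectOneSign7
open Cfsg.Agent.BlockPrincipal81 Cfsg.Agent.BrauerReynolds7

attribute [local instance] Classical.propDecidable

universe u

variable {G : Type u} [Group G] [Fintype G] {p : ℕ}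

/-- A non-trivial character of a simple group of degree less than `p` detects the elements
commuting with an element `z` of order `p`. -/
theorem eq_one_of_small_degree [IsSimpleGroup G] (hp : p.Prime) {χ : IrrCharacter G}
    (hχ : χ ≠ oneChar G) (hdeg : charDegree (χ : G → ℂ) < p) {z k : G} (hz : orderOf z = p)
    (hval : ∀ i, 0 < i → i < p → (χ : G → ℂ) (z ^ i * k) = (χ : G → ℂ) (z ^ i)) : k = 1 := by
  obtain ⟨d, ρ, hρ⟩ := isCharacter_of_isIrrCharacter χ.2
  have hd : Module.finrank ℂ (Fin d → ℂ) = charDegree (χ : G → ℂ) := by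
    have h : ρ.character 1 = (χ : G → ℂ) 1 := congrFun hρ 1
    rw [Representation.char_one, ClassAlgebraVal.apply_one_eq_charDegree] at h
    exact_mod_cast h
  obtain ⟨b, μ, hb, hμ, -, -⟩ := exists_rep_eigenbasis ρ z
  rw [hz] at hμ
  -- a root of unity which is not an eigenvalue
  obtain ⟨ζ, hζ⟩ : ∃ ζ : ℂ, IsPrimitiveRoot ζ p :=
    ⟨_, Complex.isPrimitiveRoot_exp p hp.ne_zero⟩
  obtain ⟨ω, hω, hωμ⟩ : ∃ ω : ℂ, ω ^ p = 1 ∧ ∀ i, μ i ≠ ω := by
    by_contra hc
    push Not at hc
    have hsub : Polynomial.nthRootsFinset p (1 : ℂ) ⊆ Finset.univ.image μ := by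
      intro w hw
      rw [Polynomial.mem_nthRootsFinset hp.pos] at hw
      obtain ⟨i, hi⟩ := hc w hw
      exact Finset.mem_image.2 ⟨i, Finset.mem_univ _, hi⟩
    have h1 := (Finset.card_le_card hsub).trans Finset.card_image_le
    rw [hζ.card_nthRootsFinset, Finset.card_univ, Fintype.card_fin, hd] at h1
    omega
  have hω0 : ω ≠ 0 := by
    rintro rfl
    rw [zero_pow hp.ne_zero] at hω
    exact zero_ne_one hω
  -- the projection on the `ω`-eigenspace vanishes
  set T : Module.End ℂ (Fin d → ℂ) := ∑ i ∈ Finset.range p, (ω⁻¹) ^ i • ρ (z ^ i) with hT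
  have hT0 : T = 0 := by
    refine b.ext fun j => ?_
    have hzj : ∀ i : ℕ, ρ (z ^ i) (b j) = μ j ^ i • b j := by
      intro i
      induction i with
      | zero => simp
      | succ i ih =>
        rw [pow_succ', map_mul, Module.End.mul_apply, ih, map_smul, hb, smul_smul, pow_succ]
    simp only [hT, LinearMap.sum_apply, LinearMap.smul_apply, hzj, smul_smul, ← mul_pow,
      ← Finset.sum_smul, LinearMap.zero_apply]
    rw [geom_sum_eq (fun h => hωμ j ?_), mul_pow, inv_pow, hω, hμ, inv_one, one_mul, sub_self,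
      zero_div, zero_smul]
    rwa [inv_mul_eq_one₀ hω0, eq_comm] at h
  have hsum : ∀ g : G, ∑ i ∈ Finset.range p, (ω⁻¹) ^ i * (χ : G → ℂ) (z ^ i * g) = 0 := by
    intro g
    have h : LinearMap.trace ℂ _ (T * ρ g) = 0 := by rw [hT0, zero_mul, map_zero]
    rw [hT, Finset.sum_mul, map_sum] at h
    rw [← h]
    refine Finset.sum_congr rfl fun i _ => ?_
    rw [smul_mul_assoc, map_smul, smul_eq_mul, ← map_mul, ← hρ]
    rfl
  have hk1 : (χ : G → ℂ) k = (χ : G → ℂ) 1 := by
    have h1 := hsum k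
    have h2 := hsum 1
    obtain ⟨q, hq⟩ : ∃ q, p = q + 1 := ⟨p - 1, by have := hp.pos; omega⟩
    rw [hq, Finset.sum_range_succ'] at h1 h2
    simp only [pow_zero, one_mul, mul_one] at h1 h2
    rw [Finset.sum_congr rfl fun i hi => by
      rw [hval (i + 1) (by omega) (by rw [Finset.mem_range] at hi; omega)]] at h1
    linear_combination h1 - h2
  have hker := eq_one_of_character_eq_finrank ρ k (by
    rw [hρ, hk1, ClassAlgebraVal.apply_one_eq_charDegree, hd])
  let f : G →* Module.End ℂ (Fin d → ℂ) := ρ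
  rcases Subgroup.Normal.eq_bot_or_eq_top (H := f.ker) inferInstance with h | h
  · have hmem : k ∈ f.ker := MonoidHom.mem_ker.2 hker
    rwa [h, Subgroup.mem_bot] at hmem
  · exfalso
    have h0 := card_mul_classInner (χ : G → ℂ) (oneChar G : G → ℂ)
    rw [classInner_irrCharacter, if_neg hχ, mul_zero] at h0
    have h1 : ∀ g : G, (χ : G → ℂ) g * conj ((oneChar G : G → ℂ) g) = (charDegree (χ : G → ℂ) : ℂ) := by
      intro g
      have hg : ρ g = 1 := MonoidHom.mem_ker.1 (h ▸ Subgroup.mem_top g : g ∈ f.ker)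
      rw [show (oneChar G : G → ℂ) g = 1 from rfl, map_one, mul_one, ← hd, ← hρ,
        Representation.character, hg, LinearMap.trace_one]
    rw [Finset.sum_congr rfl fun g _ => h1 g, Finset.sum_const, nsmul_eq_mul] at h0
    rcases mul_eq_zero.1 h0.symm with h2 | h2
    · exact Nat.cast_ne_zero.2 Fintype.card_pos.ne' h2
    · exact Nat.cast_ne_zero.2 (ClassAlgebraVal.charDegree_pos χ).ne' h2

variable {q : ℕ} [Fact q.Prime]

/-- A central element of a Sylow subgroup. -/
theorem exists_central_sylow (hdvd : q ∣ Nat.card G) :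
    ∃ g : G, g ≠ 1 ∧ ¬ q ∣ (Subgroup.centralizer ({g} : Set G)).index := by
  obtain ⟨Q⟩ : Nonempty (Sylow q G) := inferInstance
  haveI : Nontrivial (Q : Subgroup G) := by
    refine Finite.one_lt_card_iff_nontrivial.1 ?_
    exact lt_of_lt_of_le (Fact.out : q.Prime).one_lt
      (Nat.le_of_dvd Nat.card_pos (Q.dvd_card_of_dvd_card hdvd))
  haveI := Q.isPGroup'.center_nontrivial
  obtain ⟨⟨c, hcc⟩, hc1⟩ := exists_ne (1 : Subgroup.center (Q : Subgroup G))
  refine ⟨c, fun h => hc1 (Subtype.ext (Subtype.ext h)), fun hd => ?_⟩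
  have hle : (Q : Subgroup G) ≤ Subgroup.centralizer ({(c : G)} : Set G) := fun x hx =>
    Subgroup.mem_centralizer_singleton_iff.2
      (congrArg Subtype.val (Subgroup.mem_center_iff.1 hcc ⟨x, hx⟩))
  exact Q.not_dvd_index (hd.trans (Subgroup.index_dvd_of_le hle))

/-- A character of prime power degree is outside the principal block for that prime. -/
theorem not_mem_principalBlock [IsSimpleGroup G] (hG : ¬ IsCyclic G) {M : Ideal AlgInt}
    (hM : IsPModular q M) (hdvd : q ∣ Nat.card G) {χ : IrrCharacter G} (hχ : χ ≠ oneChar G)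
    {j : ℕ} (hdeg : charDegree (χ : G → ℂ) = q ^ j) : χ ∉ principalBlock M G := by
  intro hmem
  have hq := (Fact.out : q.Prime)
  obtain ⟨g, hg1, hgk⟩ := exists_central_sylow (q := q) hdvd
  obtain ⟨d, ρ, hirr, hρ⟩ := χ.2
  haveI := hirr
  have hd : Module.finrank ℂ (Fin d → ℂ) = charDegree (χ : G → ℂ) := by
    have h : ρ.character 1 = (χ : G → ℂ) 1 := congrFun hρ 1
    rw [Representation.char_one, ClassAlgebraVal.apply_one_eq_charDegree] at h
    exact_mod_cast h
  have h0 : (χ : G → ℂ) g = 0 := by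
    have hcop : Nat.Coprime (Module.finrank ℂ (Fin d → ℂ))
        (Subgroup.centralizer ({g} : Set G)).index := by
      rw [hd, hdeg]; exact Nat.Coprime.pow_left _ (hq.coprime_iff_not_dvd.2 hgk)
    rw [← hρ]
    refine (CharInduced.character_eq_zero_or_norm_eq ρ g hcop).resolve_right ?_
    refine CharInduced.not_norm_eq_of_simple (fun hab => hG ?_) ρ (fun h => ?_) g hg1
    · let _ : CommGroup G := { ‹Group G› with mul_comm := hab }
      exact IsSimpleGroup.isCyclic
    · exact hχ (Subtype.ext (hρ.symm.trans h))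
  have h1 := hmem g
  rw [centralChar_one, show centralChar (χ : G → ℂ) g = 0 by rw [centralChar, h0]; simp,
    sub_zero] at h1
  exact hgk ((BlockTheoryLocalRing.natCast_mem_iff hM).1 h1)

end Cfsg.Agent.BrauerTuan7
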