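import Cfsg.Agent.Lib.BrauerTuan7Basic
import Cfsg.Agent.Lib.BrauerReynolds7Count

/-!
# The congruence between the principal blocks for two primes
-/

set_option autoImplicit false

open Finset
open scoped ComplexConjugate

namespace Cfsg.Agent.BrauerTuan7

open Cfsg Cfsg.Agent.CharBasic Cfsg.Agent.CharBasicOrth Cfsg.Agent.DefectOneSign7
open Cfsg.Agent.BlockPrincipal81 Cfsg.Agent.BrauerReynolds7

attribute [local instance] Classical.propDecidable

universe u

theorem int_dvd_of_eq_mul {q b : ℕ} (hq : q ≠ 0) {z : ℤ} {w : AlgInt}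
    (h : (z : ℂ) = (q : ℂ) ^ b * (w : ℂ)) : ((q : ℤ) ^ b) ∣ z := by
  have hb : ((q : ℂ) ^ b) ≠ 0 := pow_ne_zero _ (Nat.cast_ne_zero.2 hq)
  have h1 : IsIntegral ℤ ((z : ℂ) / (q : ℂ) ^ b) := by
    rw [h, mul_div_cancel_left₀ _ hb]; exact w.2
  rw [show (z : ℂ) / (q : ℂ) ^ b = algebraMap ℚ ℂ ((z : ℚ) / (q : ℚ) ^ b) by simp,
    isIntegral_algebraMap_iff (algebraMap ℚ ℂ).injective] at h1
  obtain ⟨m, hm⟩ := IsIntegrallyClosed.isIntegral_iff.1 h1
  rw [show (algebraMap ℤ ℚ m) = (m : ℚ) from rfl,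
    eq_div_iff (pow_ne_zero _ (Nat.cast_ne_zero.2 hq))] at hm
  exact ⟨m, by rw [mul_comm]; exact_mod_cast hm.symm⟩

variable {G : Type u} [Group G] [Fintype G] {p : ℕ} [Fact p.Prime]
  {P : Sylow p G} {e : ℕ} {X Y : Finset (IrrCharacter G)} {a : IrrCharacter G → ℤ} {ε : ℤ}
  (B : Blk P e X Y a ε)

include B

/-- Splitting of a sum over the non-exceptional characters. -/
theorem sum_X' {M : Type*} [AddCommMonoid M] (f : IrrCharacter G → M) :
    ∑ χ ∈ X, f χ = f (oneChar G) + ∑ χ ∈ Xp X a, f χ + ∑ χ ∈ Xm X a, f χ := by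
  rw [← Finset.add_sum_erase _ _ B.one_mem, add_assoc, ← Finset.sum_union]
  · congr 1
    refine Finset.sum_congr (Finset.ext fun χ => ?_) fun _ _ => rfl
    simp only [Xp, Xm, Finset.mem_erase, Finset.mem_union, Finset.mem_filter]
    constructor
    · rintro ⟨h1, h⟩
      rcases B.signX χ h with h2 | h2
      · exact Or.inl ⟨h, h2, h1⟩
      · exact Or.inr ⟨h, h2⟩
    · rintro (⟨h, -, h1⟩ | ⟨h, h2⟩)
      · exact ⟨h1, h⟩
      · exact ⟨fun h1 => (by norm_num : (1 : ℤ) ≠ -1) (B.a_one.symm.trans (h1 ▸ h2)), h⟩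
  · rw [Finset.disjoint_left]
    intro χ h1 h2
    simp only [Xp, Xm, Finset.mem_filter] at h1 h2
    omega

theorem card_split' : 1 + (Xp X a).card + (Xm X a).card = e := by
  have h := sum_X' B (fun _ => (1 : ℕ))
  simp only [Finset.sum_const, smul_eq_mul, mul_one, B.cardX] at h
  exact h.symm

theorem degree_relation {η : IrrCharacter G} (hη : η ∈ Y) :
    ε * (charDegree (η : G → ℂ) : ℤ) = ∑ χ ∈ X, a χ * (charDegree (χ : G → ℂ) : ℤ) := by
  have h1 := B.regular η hη 1 (by rw [orderOf_one, Nat.dvd_one]; exact (Fact.out : p.Prime).ne_one)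
  simp only [ClassAlgebraVal.apply_one_eq_charDegree] at h1
  refine Int.cast_injective (α := ℂ) ?_
  push_cast
  exact h1

variable (hP : Nat.card P = p)
  (hC : Subgroup.centralizer ((P : Subgroup G) : Set G) = (P : Subgroup G))

include hP hC

omit B in
theorem no_order_pq {q : ℕ} (hq : q.Prime) : ∀ g : G, orderOf g ≠ p * q := by
  intro g hg
  obtain ⟨x, hx⟩ := exists_conj_Ps hP hC (g := g) (by rw [hg]; exact dvd_mul_right p q)
  have h := orderOf_mem hP hx
  rw [show x * g * x⁻¹ = MulAut.conj x g from rfl, MulEquiv.orderOf_eq, hg] at h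
  have h2 : p * q = p * 1 := by rw [h, mul_one]
  exact hq.ne_one (Nat.eq_of_mul_eq_mul_left (Fact.out : p.Prime).pos h2)

/-- Summing the block intersection congruence over the `p`-elements. -/
theorem block_congr {q b : ℕ} [Fact q.Prime] (hpq : p ≠ q) {Mp Mq : Ideal AlgInt}
    (hMp : IsPModular p Mp) (hMq : IsPModular q Mq)
    (hmem : ∀ χ, χ ∈ principalBlock Mp G ↔ χ ∈ X ∨ χ ∈ Y)
    (hb : (Nat.card G).factorization q = b) :
    ((q : ℤ) ^ b) ∣ ((p : ℤ) - 1) *
        (∑ χ ∈ X, if χ ∈ principalBlock Mq G then a χ * (charDegree (χ : G → ℂ) : ℤ) else 0) -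
      ε * e * (∑ η ∈ Y, if η ∈ principalBlock Mq G then (charDegree (η : G → ℂ) : ℤ) else 0) := by
  have hyd : ∀ y ∈ Ps P, p ∣ orderOf y := fun y hy => dvd_of_eq (orderOf_mem hP hy).symm
  choose w hw using fun y : {y // y ∈ Ps P} =>
    Cfsg.Agent.S4731.result p q hpq Mp Mq hMp hMq (no_order_pq hP hC (Fact.out : q.Prime)) b hb
      (principalBlock Mp G) isPBlock_principal (principalBlock Mq G) isPBlock_principal
      (y : G) (hyd _ y.2)
  refine int_dvd_of_eq_mul (Fact.out : q.Prime).ne_zero (w := ∑ y ∈ (Ps P).attach, w y) ?_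
  rw [show ((∑ y ∈ (Ps P).attach, w y : AlgInt) : ℂ) = ∑ y ∈ (Ps P).attach, (w y : ℂ) from
      AddSubmonoidClass.coe_finsetSum _ _,
    (Finset.mul_sum _ _ _ : (q : ℂ) ^ b * ∑ y ∈ (Ps P).attach, (w y : ℂ) = _),
    Finset.sum_congr (s₁ := (Ps P).attach) rfl fun y _ => (hw y).symm]
  have hsplit : ∀ y : G, ∑ᶠ χ ∈ principalBlock Mp G ∩ principalBlock Mq G,
      (charDegree (χ : G → ℂ) : ℂ) * (χ : G → ℂ) y =
      (∑ χ ∈ X, if χ ∈ principalBlock Mq G then
          (charDegree (χ : G → ℂ) : ℂ) * (χ : G → ℂ) y else 0) +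
        ∑ χ ∈ Y, if χ ∈ principalBlock Mq G then
          (charDegree (χ : G → ℂ) : ℂ) * (χ : G → ℂ) y else 0 := by
    intro y
    rw [BlockTheoryIdem.finsum_mem_eq_sum, ← Finset.sum_union B.disj]
    refine (Finset.sum_subset (Finset.subset_univ _) fun χ _ hχ => ?_).symm.trans
      (Finset.sum_congr rfl fun χ hχ => ?_)
    · rw [if_neg]
      exact fun h => hχ (Finset.mem_union.2 ((hmem χ).1 h.1))
    · have h1 : χ ∈ principalBlock Mp G := (hmem χ).2 (Finset.mem_union.1 hχ)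
      simp [h1]
  rw [Finset.sum_attach (Ps P) (fun y => ∑ᶠ χ ∈ principalBlock Mp G ∩ principalBlock Mq G,
      (charDegree (χ : G → ℂ) : ℂ) * (χ : G → ℂ) y), Finset.sum_congr rfl fun y _ => hsplit y,
    Finset.sum_add_distrib, Finset.sum_comm,
    Finset.sum_comm (s := Ps P) (t := Y)]
  push_cast
  rw [Finset.mul_sum, Finset.mul_sum, sub_eq_add_neg, ← Finset.sum_neg_distrib]
  congr 1
  · refine Finset.sum_congr rfl fun χ hχ => ?_
    split_ifs with h
    · rw [Finset.sum_congr rfl fun y hy => by rw [B.valX χ hχ y hy], Finset.sum_const,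
        card_Ps hP, nsmul_eq_mul, Nat.cast_sub (Fact.out : p.Prime).one_le]
      push_cast
      ring
    · simp
  · refine Finset.sum_congr rfl fun χ hχ => ?_
    split_ifs with h
    · rw [← Finset.mul_sum, sum_Ps_Y B hP hC hχ]
      ring
    · simp

end Cfsg.Agent.BrauerTuan7
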