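import Cfsg.Agent.Lib.BrauerReynolds7Count

/-!
# Products of two exceptional characters, without a bound on the number of Sylow subgroups
-/

set_option autoImplicit false

open Finset
open scoped ComplexConjugate

namespace Cfsg.Agent.BrauerTuan7

open Cfsg Cfsg.Agent.CharBasic Cfsg.Agent.CharBasicOrth Cfsg.Agent.DefectOneSign7
open Cfsg.Agent.BlockPrincipal81 Cfsg.Agent.BrauerReynolds7

attribute [local instance] Classical.propDecidable

universe u

variable {G : Type u} [Group G] [Fintype G] {p : ℕ} [Fact p.Prime]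
  {P : Sylow p G} {e : ℕ} {X Y : Finset (IrrCharacter G)} {a : IrrCharacter G → ℤ} {ε : ℤ}
  (B : Blk P e X Y a ε) (hP : Nat.card P = p)
  (hC : Subgroup.centralizer ((P : Subgroup G) : Set G) = (P : Subgroup G))
  (he : (Subgroup.centralizer ((P : Subgroup G) : Set G)).relIndex
    (Subgroup.normalizer ((P : Subgroup G) : Set G)) = e)

include B hP hC

/-- The multiplicity of a character in a product of two exceptional characters. -/
theorem prod_mult {θ θ' : IrrCharacter G} (hθ : θ ∈ Y) (hθ' : θ' ∈ Y) {η : IrrCharacter G}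
    (hη : η ∈ Y) (χ : IrrCharacter G) :
    (Nat.card G : ℂ) * classInner (fun g => (θ : G → ℂ) g * conj ((θ' : G → ℂ) g)) (χ : G → ℂ) =
      ∑ g ∈ Rs p, (η : G → ℂ) g * conj ((η : G → ℂ) g) * conj ((χ : G → ℂ) g) +
        (Nat.card (Sylow p G) : ℂ) *
          ∑ y ∈ Ps P, (θ : G → ℂ) y * conj ((θ' : G → ℂ) y) * conj ((χ : G → ℂ) y) := by
  rw [card_mul_classInner, sum_split hP hC
    (f := fun g => (θ : G → ℂ) g * conj ((θ' : G → ℂ) g) * conj ((χ : G → ℂ) g)) (fun a b => by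
      simp only [BlockTheoryCentre.irr_classFun θ a b, BlockTheoryCentre.irr_classFun θ' a b,
        BlockTheoryCentre.irr_classFun χ a b])]
  congr 1
  exact Finset.sum_congr rfl fun g hg => by
    rw [B.agree θ hθ η hη g (mem_Rs.1 hg), B.agree θ' hθ' η hη g (mem_Rs.1 hg)]

include he

/-- The multiplicities in `θ θ̄` and `θ θ̄'` of a character `χ ∈ X` differ by its sign. -/
theorem mult_diff {θ θ' : IrrCharacter G} (hθ : θ ∈ Y) (hθ' : θ' ∈ Y) (hne : θ ≠ θ')
    {m₁ m₂ : IrrCharacter G → ℕ}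
    (hm₁ : ∀ χ : IrrCharacter G,
      classInner (fun g => (θ : G → ℂ) g * conj ((θ : G → ℂ) g)) (χ : G → ℂ) = (m₁ χ : ℂ))
    (hm₂ : ∀ χ : IrrCharacter G,
      classInner (fun g => (θ : G → ℂ) g * conj ((θ' : G → ℂ) g)) (χ : G → ℂ) = (m₂ χ : ℂ))
    {χ : IrrCharacter G} (hχ : χ ∈ X) :
    (Nat.card G : ℂ) * m₂ χ =
      ∑ g ∈ Rs p, (θ : G → ℂ) g * conj ((θ : G → ℂ) g) * conj ((χ : G → ℂ) g) -
        (Nat.card (Sylow p G) : ℂ) * (a χ) * (e : ℂ) ^ 2 ∧
      (m₁ χ : ℤ) - m₂ χ = a χ := by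
  set s : ℂ := (Nat.card (Sylow p G) : ℂ)
  set R := ∑ g ∈ Rs p, (θ : G → ℂ) g * conj ((θ : G → ℂ) g) * conj ((χ : G → ℂ) g)
  have h1 : (Nat.card G : ℂ) * m₁ χ = R + s * (a χ) * ((p : ℂ) * e - (e : ℂ) ^ 2) := by
    have h := sum_Ps_mul B hP hC he hθ hθ
    rw [if_pos rfl] at h
    rw [← hm₁ χ, prod_mult B hP hC hθ hθ hθ χ, Finset.sum_congr (s₁ := Ps P) rfl (g := fun y =>
      (θ : G → ℂ) y * conj ((θ : G → ℂ) y) * (a χ : ℂ)) fun y hy => by
        rw [B.valX χ hχ y hy, map_intCast], ← Finset.sum_mul, h]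
    ring
  have h2 : (Nat.card G : ℂ) * m₂ χ = R - s * (a χ) * (e : ℂ) ^ 2 := by
    have h := sum_Ps_mul B hP hC he hθ hθ'
    rw [if_neg hne] at h
    rw [← hm₂ χ, prod_mult B hP hC hθ hθ' hθ χ, Finset.sum_congr (s₁ := Ps P) rfl (g := fun y =>
      (θ : G → ℂ) y * conj ((θ' : G → ℂ) y) * (a χ : ℂ)) fun y hy => by
        rw [B.valX χ hχ y hy, map_intCast], ← Finset.sum_mul, h]
    ring
  refine ⟨h2, ?_⟩
  have hG : (Nat.card G : ℂ) = s * (p * e) := by
    rw [card_group hP hC e he]; push_cast; rfl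
  refine Int.cast_injective (α := ℂ) ?_
  push_cast
  refine mul_left_cancel₀ (Nat.cast_ne_zero.2 (Nat.card_pos (α := G)).ne' : (Nat.card G : ℂ) ≠ 0) ?_
  linear_combination h1 - h2 - (a χ : ℂ) * hG

omit [Fact p.Prime] B hP hC he in
theorem prod_isCharacter (θ θ' : IrrCharacter G) :
    IsCharacter G (fun g => (θ : G → ℂ) g * conj ((θ' : G → ℂ) g)) :=
  CharBasicDecomp.isCharacter_mul (isCharacter_of_isIrrCharacter θ.2)
    (CharBasicDecomp.isCharacter_conj (isCharacter_of_isIrrCharacter θ'.2))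

/-- Non-exceptional characters of the block occur in products of two exceptional ones. -/
theorem deg_le_sq (hY2 : 2 ≤ Y.card) {χ : IrrCharacter G} (hχ : χ ∈ X) {D : ℕ}
    (hD : ∀ η ∈ Y, charDegree (η : G → ℂ) = D) : charDegree (χ : G → ℂ) ≤ D * D := by
  obtain ⟨θ, hθ, θ', hθ', hne⟩ := Finset.one_lt_card.1 hY2
  obtain ⟨m₁, hm₁, hd₁⟩ := CharBasicDecomp.exists_mult (prod_isCharacter θ θ)
  obtain ⟨m₂, hm₂, hd₂⟩ := CharBasicDecomp.exists_mult (prod_isCharacter θ θ')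
  have h := (mult_diff B hP hC he hθ hθ' hne hm₁ hm₂ hχ).2
  have key : ∀ (φ : IrrCharacter G) (m : IrrCharacter G → ℕ), φ ∈ Y →
      ((fun g => (θ : G → ℂ) g * conj ((φ : G → ℂ) g)) =
        ∑ ψ : IrrCharacter G, (m ψ : ℂ) • (ψ : G → ℂ)) → 1 ≤ m χ →
      charDegree (χ : G → ℂ) ≤ D * D := by
    intro φ m hφ hdec hm
    have h1 := congrFun hdec 1
    simp only [Finset.sum_apply, Pi.smul_apply, smul_eq_mul,
      ClassAlgebraVal.apply_one_eq_charDegree, map_natCast, hD θ hθ, hD φ hφ] at h1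
    have h2 : D * D = ∑ ψ : IrrCharacter G, m ψ * charDegree (ψ : G → ℂ) := by exact_mod_cast h1
    rw [h2]
    refine le_trans ?_ (Finset.single_le_sum (fun ψ _ => Nat.zero_le _) (Finset.mem_univ χ))
    exact Nat.le_mul_of_pos_left _ hm
  rcases B.signX χ hχ with ha | ha
  · exact key θ m₁ hθ hd₁ (by omega)
  · exact key θ' m₂ hθ' hd₂ (by omega)

/-- If the exceptional characters have degree `e` then the characters of negative sign have degree
`p - 1` and there are fewer than `e / t` of them. -/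
theorem core_pos (hε : ε = 1) (hY2 : 2 ≤ Y.card) (hD : ∀ η ∈ Y, charDegree (η : G → ℂ) = e) :
    (∀ χ ∈ Xm X a, charDegree (χ : G → ℂ) = p - 1) ∧ Y.card * (Xm X a).card + 1 ≤ e := by
  have hp := (Fact.out : p.Prime)
  obtain ⟨θ, hθ, θ', hθ', hne⟩ := Finset.one_lt_card.1 hY2
  obtain ⟨m₁, hm₁, hd₁⟩ := CharBasicDecomp.exists_mult (prod_isCharacter θ θ)
  obtain ⟨m₂, hm₂, hdec⟩ := CharBasicDecomp.exists_mult (prod_isCharacter θ θ')
  set s : ℂ := (Nat.card (Sylow p G) : ℂ) with hs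
  set R : IrrCharacter G → ℂ := fun χ =>
    ∑ g ∈ Rs p, (θ : G → ℂ) g * conj ((θ : G → ℂ) g) * conj ((χ : G → ℂ) g) with hR
  have hG : (Nat.card G : ℂ) = s * (p * e) := by
    rw [card_group hP hC e he]; push_cast; rfl
  have hG0 : (Nat.card G : ℂ) ≠ 0 := Nat.cast_ne_zero.2 Nat.card_pos.ne'
  have hmd : ∀ χ ∈ X, (Nat.card G : ℂ) * m₂ χ = R χ - s * (a χ) * (e : ℂ) ^ 2 ∧
      (m₁ χ : ℤ) - m₂ χ = a χ := fun χ hχ => mult_diff B hP hC he hθ hθ' hne hm₁ hm₂ hχ
  choose c hc using fun ψ : IrrCharacter G =>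
    exists_nat_avg (P : Subgroup G) (isCharacter_of_isIrrCharacter ψ.2)
  have hP0 : ∑ y ∈ els (P : Subgroup G), (θ : G → ℂ) y * conj ((θ' : G → ℂ) y) = 0 := by
    rw [sum_els_P, sum_Ps_mul B hP hC he hθ hθ', if_neg hne,
      ClassAlgebraVal.apply_one_eq_charDegree, ClassAlgebraVal.apply_one_eq_charDegree,
      hD θ hθ, hD θ' hθ', map_natCast]
    ring
  rw [Finset.sum_congr rfl fun y _ => congrFun hdec y] at hP0
  simp only [Finset.sum_apply, Pi.smul_apply, smul_eq_mul] at hP0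
  rw [Finset.sum_comm, Finset.sum_congr rfl fun ψ _ => by rw [← Finset.mul_sum, hc ψ]] at hP0
  have hP1 : ∑ ψ : IrrCharacter G, m₂ ψ * (Nat.card (P : Subgroup G) * c ψ) = 0 := by
    exact_mod_cast hP0
  have havg : ∀ χ ∈ X, m₂ χ ≠ 0 →
      (charDegree (χ : G → ℂ) : ℤ) + ((p - 1 : ℕ) : ℤ) * a χ = 0 := by
    intro χ hχ hm
    have hz := Finset.sum_eq_zero_iff.1 hP1 χ (Finset.mem_univ _)
    have h := (Nat.mul_eq_zero.1 hz).resolve_left hm
    have h2 := hc χ
    rw [show ((Nat.card (P : Subgroup G) : ℂ) * c χ) = 0 by exact_mod_cast h, sum_els_P,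
      Finset.sum_congr rfl fun y hy => B.valX χ hχ y hy, Finset.sum_const,
      card_Ps hP, nsmul_eq_mul, ClassAlgebraVal.apply_one_eq_charDegree] at h2
    exact_mod_cast h2
  have hpos : ∀ χ ∈ X, a χ = 1 → m₂ χ = 0 := by
    intro χ hχ ha
    by_contra hm
    have h := havg χ hχ hm
    rw [ha] at h
    have := ClassAlgebraVal.charDegree_pos χ
    omega
  have hneg : ∀ χ ∈ Xm X a, 1 ≤ m₂ χ := by
    intro χ hχ
    simp only [Xm, Finset.mem_filter] at hχ
    have h := (hmd χ hχ.1).2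
    rw [hχ.2] at h
    omega
  refine ⟨fun χ hχ => ?_, ?_⟩
  · have h := hneg χ hχ
    simp only [Xm, Finset.mem_filter] at hχ
    have h2 := havg χ hχ.1 (by omega)
    rw [hχ.2] at h2
    omega
  set Xo := X.filter fun χ => a χ = 1 with hXo
  have hsum : ∀ f : IrrCharacter G → ℂ, ∑ χ ∈ X, f χ = ∑ χ ∈ Xo, f χ + ∑ χ ∈ Xm X a, f χ := by
    intro f
    rw [hXo, Xm, ← Finset.sum_filter_add_sum_filter_not X (fun χ => a χ = 1)]
    congr 1
    refine Finset.sum_congr (Finset.ext fun χ => ?_) fun _ _ => rfl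
    simp only [Finset.mem_filter, and_congr_right_iff]
    intro h
    rcases B.signX χ h with e1 | e1 <;> simp [e1]
  have hcard : (e : ℂ) = (Xo.card : ℂ) + (Xm X a).card := by
    have h := hsum fun _ => 1
    simp only [Finset.sum_const, nsmul_eq_mul, mul_one, B.cardX] at h
    exact h
  set y₀ := ∑ χ ∈ Xm X a, m₂ χ with hy₀
  have hR3 : R θ = (e : ℂ) * (s * (e : ℂ) ^ 2) - (Nat.card G : ℂ) * (y₀ : ℂ) := by
    have h1 : R θ = ∑ χ ∈ X, (a χ : ℂ) * R χ := by
      simp only [hR, Finset.mul_sum]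
      rw [Finset.sum_comm]
      refine Finset.sum_congr rfl fun g hg => ?_
      have h := B.regular θ hθ g (mem_Rs.1 hg)
      rw [hε, Int.cast_one, one_mul] at h
      calc (θ : G → ℂ) g * conj ((θ : G → ℂ) g) * conj ((θ : G → ℂ) g)
          = (θ : G → ℂ) g * conj ((θ : G → ℂ) g) * conj (∑ χ ∈ X, (a χ : ℂ) * (χ : G → ℂ) g) := by
            rw [← h]
        _ = _ := by
            simp only [map_sum, map_mul, map_intCast]
            rw [Finset.mul_sum]
            exact Finset.sum_congr rfl fun χ _ => by ring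
    rw [h1, hsum,
      Finset.sum_congr rfl (g := fun _ => s * (e : ℂ) ^ 2) (s₁ := Xo) fun χ hχ => by
        rw [hXo, Finset.mem_filter] at hχ
        have h := (hmd χ hχ.1).1
        rw [hpos χ hχ.1 hχ.2, hχ.2] at h
        rw [hχ.2]
        push_cast at h ⊢
        linear_combination -h,
      Finset.sum_congr rfl (g := fun χ => s * (e : ℂ) ^ 2 - (Nat.card G : ℂ) * (m₂ χ : ℂ))
        (s₁ := Xm X a) fun χ hχ => by
        simp only [Xm, Finset.mem_filter] at hχ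
        have h := (hmd χ hχ.1).1
        rw [hχ.2] at h
        rw [hχ.2]
        push_cast at h ⊢
        linear_combination h,
      Finset.sum_sub_distrib, Finset.sum_const, Finset.sum_const, ← Finset.mul_sum, nsmul_eq_mul,
      nsmul_eq_mul, hy₀, Nat.cast_sum]
    linear_combination (-(s * (e : ℂ) ^ 2)) * hcard
  have hkey : (Nat.card G : ℂ) * (∑ η ∈ Y, (m₁ η : ℂ)) =
      (Y.card : ℂ) * R θ - s * ((p : ℂ) * e - (e : ℂ) ^ 2) := by
    rw [Finset.mul_sum, Finset.sum_congr rfl fun η hη => by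
      rw [← hm₁ η, prod_mult B hP hC hθ hθ hθ η], Finset.sum_add_distrib, ← Finset.mul_sum]
    have h1 : ∑ η ∈ Y, ∑ g ∈ Rs p, (θ : G → ℂ) g * conj ((θ : G → ℂ) g) * conj ((η : G → ℂ) g) =
        (Y.card : ℂ) * R θ := by
      rw [← nsmul_eq_mul, ← Finset.sum_const]
      exact Finset.sum_congr rfl fun η hη => Finset.sum_congr rfl fun g hg => by
        rw [B.agree η hη θ hθ g (mem_Rs.1 hg)]
    have h2 : ∑ η ∈ Y, ∑ y ∈ Ps P, (θ : G → ℂ) y * conj ((θ : G → ℂ) y) * conj ((η : G → ℂ) y) =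
        -((p : ℂ) * e - (e : ℂ) ^ 2) := by
      rw [Finset.sum_comm, Finset.sum_congr rfl fun y hy => by
        rw [← Finset.mul_sum, ← map_sum, B.sumY y hy, hε], ← Finset.sum_mul,
        sum_Ps_mul B hP hC he hθ hθ, if_pos rfl]
      simp
    rw [h1, h2, ← hs]
    ring
  have hfin : (∑ η ∈ Y, m₁ η) + Y.card * y₀ + 1 = e := by
    have hpc : (p : ℂ) = Y.card * e + 1 := by exact_mod_cast B.cardY.symm
    rw [hR3] at hkey
    have h : (Nat.card G : ℂ) * ((∑ η ∈ Y, (m₁ η : ℂ)) + Y.card * y₀ + 1) =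
        (Nat.card G : ℂ) * e := by
      linear_combination hkey + hG - (e : ℂ) * hG - s * (e : ℂ) ^ 2 * hpc
    have h' := mul_left_cancel₀ hG0 h
    rw [← Nat.cast_sum] at h'
    exact_mod_cast h'
  have hB : (Xm X a).card ≤ y₀ := by
    rw [hy₀, Finset.card_eq_sum_ones]
    exact Finset.sum_le_sum hneg
  have := Nat.mul_le_mul_left Y.card hB
  omega

end Cfsg.Agent.BrauerTuan7
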