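import Cfsg.Agent.Lib.BrauerTuan7Arith
import Cfsg.Agent.Lib.BrauerTuan7Blocks
import Cfsg.Agent.Lib.BrauerTuan7Tensor
import Cfsg.Agent.Lib.BrauerReynolds7Recognition
import Cfsg.Agent.Lib.BrauerReynolds7Cube

/-!
# Simple groups of order `p q ^ b g₀` with `g₀ < p - 1`
-/

set_option autoImplicit false

open Finset

namespace Cfsg.Agent.BrauerTuan7

open Cfsg Cfsg.Agent.CharBasic Cfsg.Agent.CharBasicOrth Cfsg.Agent.DefectOneSign7
open Cfsg.Agent.BlockPrincipal81 Cfsg.Agent.BrauerReynolds7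

attribute [local instance] Classical.propDecidable

universe u

variable {G : Type u} [Group G] [Fintype G]

theorem dvd_cofactor {p q b g₀ f : ℕ} (hp : p.Prime) (hq : q.Prime) (hf : f ∣ p * q ^ b * g₀)
    (hfp : ¬ p ∣ f) (hfq : ¬ q ∣ f) : f ∣ g₀ := by
  refine (Nat.Coprime.dvd_mul_left ?_).1 hf
  exact Nat.Coprime.mul_right (hp.coprime_iff_not_dvd.2 hfp).symm
    (Nat.Coprime.pow_right _ (hq.coprime_iff_not_dvd.2 hfq).symm)

omit [Fintype G] in
theorem oneChar_degree : charDegree (oneChar G : G → ℂ) = 1 := by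
  have h := ClassAlgebraVal.apply_one_eq_charDegree (oneChar G)
  rw [show (oneChar G : G → ℂ) 1 = 1 from rfl] at h
  exact_mod_cast h.symm

variable [IsSimpleGroup G] {p : ℕ} [Fact p.Prime]

/-- The degree of the exceptional characters is small, and all other non-trivial degrees in the
block are divisible by `q`. -/
theorem degrees (hperf : commutator G = ⊤) {q b g₀ : ℕ} (hq : q.Prime)
    (hcard : Nat.card G = p * q ^ b * g₀) (hg : g₀ < p - 1)
    {P : Sylow p G} {e : ℕ} {X Y : Finset (IrrCharacter G)} {a : IrrCharacter G → ℤ} {ε : ℤ}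
    (B : Blk P e X Y a ε) :
    2 ≤ Y.card ∧ (∀ χ ∈ X, χ ≠ oneChar G → q ∣ charDegree (χ : G → ℂ)) ∧
    ∃ D, (∀ η ∈ Y, charDegree (η : G → ℂ) = D) ∧ D ∣ g₀ ∧ ¬ q ∣ D ∧ D < p - 1 ∧
      (ε = 1 ∧ D = e ∨ ε = -1 ∧ D + e = p) := by
  have hp := (Fact.out : p.Prime)
  have hp2 := hp.two_le
  have he0 := e_pos B
  have hg0 : 0 < g₀ := by
    rcases Nat.eq_zero_or_pos g₀ with h | h
    · exact absurd (hcard.trans (by rw [h, mul_zero])) Nat.card_pos.ne'
    · exact h
  have hep : e < p := by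
    have h1 := B.cardY
    have h2 : 1 * e ≤ Y.card * e :=
      Nat.mul_le_mul_right e (Finset.card_pos.2 (Y_nonempty B))
    omega
  have hsmall : ∀ χ : IrrCharacter G, ¬ p ∣ charDegree (χ : G → ℂ) →
      ¬ q ∣ charDegree (χ : G → ℂ) →
      charDegree (χ : G → ℂ) ∣ g₀ ∧ charDegree (χ : G → ℂ) < p - 1 := fun χ h1 h2 => by
    have h := dvd_cofactor hp hq (hcard ▸ CharAverage.charDegree_dvd_card χ) h1 h2
    exact ⟨h, lt_of_le_of_lt (Nat.le_of_dvd hg0 h) hg⟩
  have hXp : ∀ χ ∈ X, ¬ p ∣ charDegree (χ : G → ℂ) := by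
    intro χ hχ hd
    have h1 := (B.congrX χ hχ).symm.trans
      (Int.modEq_zero_iff_dvd.2 (Int.natCast_dvd_natCast.2 hd))
    rw [Int.modEq_zero_iff_dvd] at h1
    rcases B.signX χ hχ with e1 | e1 <;> rw [e1] at h1
    · exact hp.ne_one (by exact_mod_cast Int.eq_one_of_dvd_one (Int.natCast_nonneg _) h1)
    · exact hp.ne_one (by exact_mod_cast Int.eq_one_of_dvd_one (Int.natCast_nonneg _) (dvd_neg.1 h1))
  have hYp : ∀ η ∈ Y, ¬ p ∣ charDegree (η : G → ℂ) := by
    intro η hη hd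
    have h1 := (B.congrY η hη).symm.trans
      (Int.modEq_zero_iff_dvd.2 (Int.natCast_dvd_natCast.2 hd))
    rw [Int.modEq_zero_iff_dvd] at h1
    have h2 : (p : ℤ) ∣ (e : ℤ) := by
      rcases B.sign with e1 | e1 <;> rw [e1] at h1 <;> simpa using h1
    have := Nat.le_of_dvd he0 (Int.natCast_dvd_natCast.1 h2)
    omega
  have hXq : ∀ χ ∈ X, χ ≠ oneChar G → q ∣ charDegree (χ : G → ℂ) := by
    intro χ hχ h1
    by_contra hqd
    obtain ⟨-, hlt⟩ := hsmall χ (hXp χ hχ) hqd
    have hne : charDegree (χ : G → ℂ) ≠ 1 := fun h => h1 (eq_oneChar_of_degree_one hperf h)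
    have hpos := ClassAlgebraVal.charDegree_pos χ
    have hc := (B.congrX χ hχ).symm.dvd
    rcases B.signX χ hχ with e1 | e1 <;> rw [e1] at hc
    · have := Int.le_of_dvd (by omega) hc
      omega
    · have := Int.le_of_dvd (by omega) hc
      omega
  obtain ⟨η₀, hη₀⟩ := Y_nonempty B
  have hDeq : ∀ η ∈ Y, charDegree (η : G → ℂ) = charDegree (η₀ : G → ℂ) := by
    intro η hη
    have h := B.agree η hη η₀ hη₀ 1 (by rw [orderOf_one, Nat.dvd_one]; exact hp.ne_one)
    simp only [ClassAlgebraVal.apply_one_eq_charDegree] at h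
    exact_mod_cast h
  set D := charDegree (η₀ : G → ℂ) with hDdef
  have hDq : ¬ q ∣ D := by
    intro hd
    have h := degree_relation B hη₀
    rw [← Finset.add_sum_erase _ _ B.one_mem, B.a_one, oneChar_degree] at h
    have h2 : (q : ℤ) ∣ ∑ χ ∈ X.erase (oneChar G), a χ * (charDegree (χ : G → ℂ) : ℤ) :=
      Finset.dvd_sum fun χ hχ => dvd_mul_of_dvd_right (Int.natCast_dvd_natCast.2
        (hXq χ (Finset.mem_of_mem_erase hχ) (Finset.ne_of_mem_erase hχ))) _
    have h3 : (q : ℤ) ∣ ε * (D : ℤ) := dvd_mul_of_dvd_right (Int.natCast_dvd_natCast.2 hd) _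
    rw [h] at h3
    have h4 := (Int.dvd_add_left h2).1 h3
    exact hq.ne_one (by exact_mod_cast Int.eq_one_of_dvd_one (Int.natCast_nonneg _) (by simpa using h4))
  obtain ⟨hDg, hDlt⟩ := hsmall η₀ (hYp η₀ hη₀) hDq
  have hDpos := ClassAlgebraVal.charDegree_pos η₀
  have hcases : ε = 1 ∧ D = e ∨ ε = -1 ∧ D + e = p := by
    have hc := (B.congrY η₀ hη₀).symm.dvd
    rcases B.sign with e1 | e1 <;> rw [e1] at hc
    · left
      refine ⟨e1, ?_⟩
      have h := Int.eq_zero_of_abs_lt_dvd hc (by rw [abs_lt]; constructor <;> omega)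
      omega
    · right
      refine ⟨e1, ?_⟩
      obtain ⟨k, hk⟩ := hc
      have h0 : 0 < k := by
        by_contra hle
        push Not at hle
        have := mul_nonpos_of_nonneg_of_nonpos (Int.natCast_nonneg p) hle
        omega
      have h2 : k < 2 := by
        by_contra hle
        push Not at hle
        have := mul_le_mul_of_nonneg_left hle (Int.natCast_nonneg p)
        omega
      obtain rfl : k = 1 := by omega
      omega
  refine ⟨?_, hXq, D, hDeq, hDg, hDq, hDlt, hcases⟩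
  by_contra hc
  have h1 := B.cardY
  have h2 : Y.card = 1 := by
    have := Finset.card_pos.2 ⟨η₀, hη₀⟩
    omega
  rw [h2, one_mul] at h1
  rcases hcases with ⟨-, h⟩ | ⟨-, h⟩
  · omega
  · exact ne_one_of_mem B hη₀ (eq_oneChar_of_degree_one hperf (by omega))

/-- The Sylow `p`-subgroup is self-centralizing. -/
theorem centralizer_eq {P : Sylow p G} (hP : Nat.card P = p) {e : ℕ} {X Y : Finset (IrrCharacter G)}
    {a : IrrCharacter G → ℤ} {ε : ℤ} (B : Blk P e X Y a ε) {η : IrrCharacter G} (hη : η ∈ Y)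
    (hdeg : charDegree (η : G → ℂ) < p) :
    Subgroup.centralizer ((P : Subgroup G) : Set G) = (P : Subgroup G) := by
  have hp := (Fact.out : p.Prime)
  obtain ⟨U, -, hUc, hUmem⟩ := exists_regular_part P hP
  obtain ⟨z, hz⟩ := exists_mem_Ps hP
  have hzo := orderOf_mem hP hz
  have hU : U = ⊥ := by
    rw [eq_bot_iff]
    intro k hk
    obtain ⟨hkC, hkr⟩ := (hUmem k).1 hk
    refine Subgroup.mem_bot.2 (eq_one_of_small_degree hp (ne_one_of_mem B hη) hdeg hzo
      fun i hi hip => B.valYC η hη (z ^ i) (mem_Ps.2 ⟨pow_mem (mem_Ps.1 hz).1 i, fun h => ?_⟩)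
        k hkC hkr)
    have := Nat.le_of_dvd hi (hzo ▸ orderOf_dvd_of_pow_eq_one h)
    omega
  haveI := isMulCommutative_of_card P hP
  refine (Subgroup.eq_of_le_of_card_ge (Subgroup.le_centralizer (P : Subgroup G)) ?_).symm
  rw [← hUc, hU, Subgroup.card_bot, one_mul]
  exact hP.ge

set_option maxHeartbeats 1000000 in
/-- The case `ε = 1`: then `p` is a Mersenne prime and there are `p + 1` Sylow subgroups. -/
theorem case_pos (hG : ¬ IsCyclic G) (hperf : commutator G = ⊤) {q b g₀ n : ℕ} [Fact q.Prime]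
    (hpq : p ≠ q) (hcard : Nat.card G = p * q ^ b * g₀) (hqg : ¬ q ∣ g₀) (hg : g₀ < p - 1)
    {P : Sylow p G} (hP : Nat.card P = p)
    (hC : Subgroup.centralizer ((P : Subgroup G) : Set G) = (P : Subgroup G)) {e : ℕ}
    (he : (Subgroup.centralizer ((P : Subgroup G) : Set G)).relIndex
      (Subgroup.normalizer ((P : Subgroup G) : Set G)) = e)
    (hn : Nat.card (Sylow p G) = 1 + n * p) (hn1 : 1 ≤ n) (he2 : 2 ≤ e)
    {Mp : Ideal AlgInt} (hMp : IsPModular p Mp)
    {X Y : Finset (IrrCharacter G)} {a : IrrCharacter G → ℤ} {ε : ℤ} (B : Blk P e X Y a ε)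
    (hmem : ∀ χ, χ ∈ principalBlock Mp G ↔ χ ∈ X ∨ χ ∈ Y)
    (hY2 : 2 ≤ Y.card) (hXq : ∀ χ ∈ X, χ ≠ oneChar G → q ∣ charDegree (χ : G → ℂ))
    (hε : ε = 1) (hD : ∀ η ∈ Y, charDegree (η : G → ℂ) = e) (hDg : e ∣ g₀) (heq : ¬ q ∣ e) :
    (∃ m : ℕ, p = 2 ^ m - 1) ∧ 2 * n ≤ p + 2 := by
  have hp := (Fact.out : p.Prime)
  have hq := (Fact.out : q.Prime)
  obtain ⟨hmdeg, hte⟩ := core_pos B hP hC he hε hY2 hD
  have hsplit := card_split' B
  set A := (Xp X a).card with hA
  set b₁ := (Xm X a).card with hb₁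
  have hpY := B.cardY
  have hg0 : 0 < g₀ := by
    rcases Nat.eq_zero_or_pos g₀ with h | h
    · exact absurd (hcard.trans (by rw [h, mul_zero])) Nat.card_pos.ne'
    · exact h
  have hp3 : 5 ≤ p := by
    have : 2 * 2 ≤ Y.card * e := Nat.mul_le_mul hY2 he2
    omega
  have hplus : ∀ χ ∈ Xp X a, (p : ℤ) + 1 ≤ charDegree (χ : G → ℂ) := by
    intro χ hχ
    obtain ⟨hX, ha, h1⟩ : χ ∈ X ∧ a χ = 1 ∧ χ ≠ oneChar G := by simpa [Xp] using hχ
    have hne : charDegree (χ : G → ℂ) ≠ 1 := fun h => h1 (eq_oneChar_of_degree_one hperf h)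
    have hpos := ClassAlgebraVal.charDegree_pos χ
    have hc := (ha ▸ B.congrX χ hX).symm.dvd
    have := Int.le_of_dvd (by omega) hc
    omega
  obtain ⟨η, hη⟩ := Y_nonempty B
  have hrel := degree_relation B hη
  rw [sum_X' B, B.a_one, oneChar_degree, hD η hη, hε,
    Finset.sum_congr rfl (s₁ := Xp X a) (g := fun χ => (charDegree (χ : G → ℂ) : ℤ))
      fun χ hχ => by simp only [Xp, Finset.mem_filter] at hχ; rw [hχ.2.1, one_mul],
    Finset.sum_congr rfl (s₁ := Xm X a) (g := fun _ => (1 : ℤ) - p) fun χ hχ => by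
      rw [hmdeg χ hχ, Nat.cast_sub hp.one_le]
      simp only [Xm, Finset.mem_filter] at hχ
      rw [hχ.2]; push_cast; ring,
    Finset.sum_const, nsmul_eq_mul, ← hb₁] at hrel
  have hsplitz : (1 : ℤ) + A + b₁ = e := by exact_mod_cast hsplit
  have hlow := Finset.card_nsmul_le_sum (Xp X a) (fun χ => (charDegree (χ : G → ℂ) : ℤ))
    ((p : ℤ) + 1) hplus
  rw [nsmul_eq_mul, ← hA] at hlow
  have hAB : A ≤ b₁ := by
    have h1 : (p : ℤ) * A ≤ (p : ℤ) * b₁ := by push_cast at hrel; linarith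
    exact_mod_cast le_of_mul_le_mul_left h1 (by exact_mod_cast hp.pos)
  have hbpos : 1 ≤ b₁ := by omega
  have ht2 : Y.card = 2 := by
    have h1 : Y.card * b₁ ≤ 2 * b₁ := by omega
    have := Nat.le_of_mul_le_mul_right h1 hbpos
    omega
  rw [ht2] at hte hpY
  have hAb : A = b₁ := by omega
  have hAbz : (A : ℤ) = b₁ := by exact_mod_cast hAb
  have hpdeg : ∀ χ ∈ Xp X a, charDegree (χ : G → ℂ) = p + 1 := by
    have h1 : ∑ _χ ∈ Xp X a, ((p : ℤ) + 1) = ∑ χ ∈ Xp X a, (charDegree (χ : G → ℂ) : ℤ) := by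
      rw [Finset.sum_const, nsmul_eq_mul, ← hA]
      push_cast at hrel
      linear_combination hrel + (p : ℤ) * hAbz + hsplitz
    intro χ hχ
    have := (Finset.sum_eq_sum_iff_of_le hplus).1 h1 χ hχ
    omega
  obtain ⟨χ₀, hχ₀⟩ : (Xp X a).Nonempty := Finset.card_pos.1 (by omega)
  obtain ⟨χ₁, hχ₁⟩ : (Xm X a).Nonempty := Finset.card_pos.1 hbpos
  obtain ⟨hX₀, -, h₀1⟩ : χ₀ ∈ X ∧ a χ₀ = 1 ∧ χ₀ ≠ oneChar G := by simpa [Xp] using hχ₀
  obtain ⟨hX₁, ha₁⟩ : χ₁ ∈ X ∧ a χ₁ = -1 := by simpa [Xm] using hχ₁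
  have h₁1 : χ₁ ≠ oneChar G := fun h => by rw [h, B.a_one] at ha₁; norm_num at ha₁
  have hq2 : q = 2 := by
    have h1 : q ∣ p + 1 := hpdeg χ₀ hχ₀ ▸ hXq χ₀ hX₀ h₀1
    have h2 : q ∣ p - 1 := hmdeg χ₁ hχ₁ ▸ hXq χ₁ hX₁ h₁1
    have h3 := Nat.dvd_sub h1 h2
    rw [show p + 1 - (p - 1) = 2 by omega] at h3
    exact (Nat.prime_dvd_prime_iff_eq hq Nat.prime_two).1 h3
  subst hq2
  have hodd : Odd e := Nat.not_even_iff_odd.1 fun h => heq h.two_dvd
  have hg0e : g₀ = e := by
    obtain ⟨k, hk⟩ := hDg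
    have hk0 : 0 < k := by
      rcases Nat.eq_zero_or_pos k with rfl | h
      · simp at hk; omega
      · exact h
    have h1 : e * k < e * 2 := by omega
    have := Nat.lt_of_mul_lt_mul_left h1
    rw [hk, show k = 1 by omega, mul_one]
  have hsyl : 1 + n * p = 2 ^ b := by
    have h1 := card_group hP hC e he
    rw [hn, hcard, hg0e] at h1
    refine Nat.eq_of_mul_eq_mul_right (show 0 < p * e from Nat.mul_pos hp.pos (by omega)) ?_
    rw [← h1]; ring
  obtain ⟨m, -, hm⟩ : ∃ m, m ≤ b ∧ p + 1 = 2 ^ m := by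
    refine (Nat.dvd_prime_pow Nat.prime_two).1 ?_
    have h1 : p + 1 ∣ p * 2 ^ b * e := by
      have h := CharAverage.charDegree_dvd_card χ₀
      rwa [hpdeg χ₀ hχ₀, hcard, hg0e] at h
    have h2 : Nat.Coprime (p + 1) e := by
      rw [show p + 1 = 2 * (e + 1) by omega]
      refine Nat.Coprime.mul_left (Nat.coprime_two_left.2 hodd) ?_
      simp
    have h3 : Nat.Coprime (p + 1) p := by simp
    exact h3.dvd_of_dvd_mul_left ((h2.dvd_mul_right).1 h1)
  refine ⟨⟨m, by omega⟩, ?_⟩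
  have hb2 : (2 : ZMod p) ^ b = 1 := by
    have h : ((2 ^ b : ℕ) : ZMod p) = ((1 + n * p : ℕ) : ZMod p) := by rw [hsyl]
    push_cast at h
    rw [h, ZMod.natCast_self, mul_zero, add_zero]
  obtain ⟨l, hl⟩ := mersenne_dvd hm (by omega) hb2
  suffices hbm : b = m by
    have h1 : n * p = 1 * p := by rw [hbm] at hsyl; omega
    have := Nat.eq_of_mul_eq_mul_right hp.pos h1
    omega
  by_contra hne
  have hl2 : 2 ≤ l := by
    rcases l with _ | _ | l
    · rw [mul_zero] at hl
      rw [hl, pow_zero] at hsyl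
      have := Nat.mul_pos hn1 hp.pos
      omega
    · exact absurd (by rw [hl, zero_add, mul_one]) hne
    · omega
  have hbig : (p + 1) * (p + 1) ≤ 2 ^ b := by
    rw [hm, ← pow_add, hl]
    exact Nat.pow_le_pow_right (by norm_num) (by nlinarith)
  obtain ⟨M2, hM2⟩ := BrauerBlocksRegFun.exists_isPModular Nat.prime_two
  have hfac : (Nat.card G).factorization 2 = b := by
    have he0 : e ≠ 0 := by omega
    rw [hcard, hg0e, Nat.factorization_mul (Nat.mul_ne_zero hp.ne_zero (by positivity)) he0,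
      Nat.factorization_mul hp.ne_zero (by positivity), Finsupp.add_apply, Finsupp.add_apply,
      Nat.prime_two.factorization_pow, Finsupp.single_eq_same,
      hp.factorization, Finsupp.single_eq_of_ne (by omega),
      Nat.factorization_eq_zero_of_not_dvd heq]
    omega
  have h2G : 2 ∣ Nat.card G := by
    rw [hcard]
    refine dvd_mul_of_dvd_left (dvd_mul_of_dvd_right (dvd_pow_self 2 ?_) _) _
    intro h
    rw [h, pow_zero] at hsyl
    have := Nat.mul_pos hn1 hp.pos
    omega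
  have hW := block_congr B hP hC hpq hMp hM2 hmem hfac
  set r := (Y.filter fun η => η ∈ principalBlock M2 G).card with hr
  set j := ((Xm X a).filter fun χ => χ ∈ principalBlock M2 G).card with hj
  have hsumY : (∑ η ∈ Y, if η ∈ principalBlock M2 G then (charDegree (η : G → ℂ) : ℤ) else 0) =
      (r : ℤ) * e := by
    rw [← Finset.sum_filter, hr, ← nsmul_eq_mul, ← Finset.sum_const]
    exact Finset.sum_congr rfl fun η hη => by rw [hD η (Finset.mem_filter.1 hη).1]
  have hsumX : (∑ χ ∈ X, if χ ∈ principalBlock M2 G then a χ * (charDegree (χ : G → ℂ) : ℤ) else 0) =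
      1 - (j : ℤ) * (p - 1) := by
    rw [sum_X' B, if_pos (oneChar_mem hM2), B.a_one, oneChar_degree,
      Finset.sum_eq_zero (s := Xp X a) fun χ hχ => by
        refine if_neg ?_
        simp only [Xp, Finset.mem_filter] at hχ
        exact not_mem_principalBlock (q := 2) hG hM2 h2G hχ.2.2
          ((hpdeg χ (by simp [Xp, hχ])).trans hm),
      ← Finset.sum_filter (s := Xm X a),
      Finset.sum_congr rfl (g := fun _ => (1 : ℤ) - p) fun χ hχ => by
        have hχ' := (Finset.mem_filter.1 hχ).1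
        rw [hmdeg χ hχ', Nat.cast_sub hp.one_le]
        simp only [Xm, Finset.mem_filter] at hχ'
        rw [hχ'.2]; push_cast; ring,
      Finset.sum_const, nsmul_eq_mul, ← hj]
    push_cast; ring
  rw [hsumX, hsumY, hε] at hW
  have hpz : (p : ℤ) = 2 * e + 1 := by exact_mod_cast hpY.symm
  set Z : ℤ := 2 * (1 - 2 * e * j) - e * r with hZ
  have hW2 : ((2 : ℤ) ^ b) ∣ (e : ℤ) * Z := by
    rw [hpz] at hW
    refine dvd_trans (dvd_of_eq (by norm_num)) (hW.trans (dvd_of_eq ?_))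
    rw [hZ]; ring
  have hcop : IsCoprime ((2 : ℤ) ^ b) (e : ℤ) := by
    have h := Nat.isCoprime_iff_coprime.2
      (Nat.Coprime.pow_left b (Nat.coprime_two_left.2 hodd) : Nat.Coprime (2 ^ b) e)
    exact_mod_cast h
  have hZd := hcop.dvd_of_dvd_mul_left hW2
  have hjle : (j : ℤ) ≤ b₁ := by exact_mod_cast Finset.card_filter_le _ _
  have hrle : r ≤ 2 := ht2 ▸ Finset.card_filter_le _ _
  have hrlez : (r : ℤ) ≤ 2 := by exact_mod_cast hrle
  have hj0 : (0 : ℤ) ≤ j := Int.natCast_nonneg j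
  have hr0 : (0 : ℤ) ≤ r := Int.natCast_nonneg r
  have he2z : (2 : ℤ) ≤ e := by exact_mod_cast he2
  have hZ0 : Z ≠ 0 := by
    intro h
    rw [hZ] at h
    obtain ⟨k, hk⟩ := hodd
    have hk' : (e : ℤ) = 2 * k + 1 := by exact_mod_cast hk
    obtain ⟨M, hM⟩ : ∃ M : ℤ, M = (e : ℤ) * j := ⟨_, rfl⟩
    have hM' : M = 0 ∨ (e : ℤ) ≤ M := by
      rcases eq_or_lt_of_le hj0 with h0 | h0
      · left; rw [hM, ← h0, mul_zero]
      · right; rw [hM]; exact le_mul_of_one_le_right (by positivity) h0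
    rw [mul_assoc 2 (e : ℤ) (j : ℤ), ← hM] at h
    have hr3 : r = 0 ∨ r = 1 ∨ r = 2 := by omega
    rcases hr3 with h3 | h3 | h3 <;> rw [h3] at h <;> push_cast at h <;> omega
  have hbd : |Z| ≤ 2 * (e : ℤ) ^ 2 + 2 := by
    have h2j : 2 * (j : ℤ) ≤ (e : ℤ) - 1 := by linarith
    have := mul_le_mul_of_nonneg_left h2j (show (0 : ℤ) ≤ 2 * e by positivity)
    have := mul_le_mul_of_nonneg_left hrlez (show (0 : ℤ) ≤ e by positivity)
    have : (0 : ℤ) ≤ 2 * e * j := by positivity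
    have : (0 : ℤ) ≤ e * r := by positivity
    rw [abs_le, hZ]
    have := sq_nonneg (e : ℤ)
    constructor <;> linarith
  have h1 := Int.le_of_dvd (abs_pos.2 hZ0) ((dvd_abs _ _).2 hZd)
  have h2 : (((p + 1) * (p + 1) : ℕ) : ℤ) ≤ ((2 ^ b : ℕ) : ℤ) := by exact_mod_cast hbig
  push_cast at h2
  rw [hpz] at h2
  nlinarith [sq_nonneg (e : ℤ)]

set_option maxHeartbeats 1000000 in
/-- The case `ε = -1`: then `p` is a Fermat prime. -/
theorem case_neg (hG : ¬ IsCyclic G) (hperf : commutator G = ⊤) {q b g₀ n : ℕ} [Fact q.Prime]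
    (hpq : p ≠ q) (hcard : Nat.card G = p * q ^ b * g₀) (hg : g₀ < p - 1)
    {P : Sylow p G} (hP : Nat.card P = p)
    (hC : Subgroup.centralizer ((P : Subgroup G) : Set G) = (P : Subgroup G)) {e : ℕ}
    (he : (Subgroup.centralizer ((P : Subgroup G) : Set G)).relIndex
      (Subgroup.normalizer ((P : Subgroup G) : Set G)) = e)
    (hn : Nat.card (Sylow p G) = 1 + n * p) (he2 : 2 ≤ e)
    {Mp : Ideal AlgInt} (hMp : IsPModular p Mp)
    {X Y : Finset (IrrCharacter G)} {a : IrrCharacter G → ℤ} {ε : ℤ} (B : Blk P e X Y a ε)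
    (hmem : ∀ χ, χ ∈ principalBlock Mp G ↔ χ ∈ X ∨ χ ∈ Y)
    (hY2 : 2 ≤ Y.card) (hXq : ∀ χ ∈ X, χ ≠ oneChar G → q ∣ charDegree (χ : G → ℂ))
    (hε : ε = -1) {D : ℕ} (hD : ∀ η ∈ Y, charDegree (η : G → ℂ) = D) (hDg : D ∣ g₀)
    (hDq : ¬ q ∣ D) (hDp : D + e = p) :
    (∃ m : ℕ, p = 2 ^ m + 1) ∧ 2 * n ≤ p + 2 := by
  have hp := (Fact.out : p.Prime)
  have hq := (Fact.out : q.Prime)
  have hpY := B.cardY
  have h2e : 2 * e + 1 ≤ p := by
    have : 2 * e ≤ Y.card * e := Nat.mul_le_mul_right e hY2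
    omega
  have hp5 : 5 ≤ p := by omega
  have hg0 : 0 < g₀ := by
    rcases Nat.eq_zero_or_pos g₀ with h | h
    · exact absurd (hcard.trans (by rw [h, mul_zero])) Nat.card_pos.ne'
    · exact h
  have hg0D : g₀ = D := by
    obtain ⟨k, hk⟩ := hDg
    have hk0 : 0 < k := by
      rcases Nat.eq_zero_or_pos k with rfl | h
      · simp at hk; omega
      · exact h
    have h1 : D * k < D * 2 := by omega
    have := Nat.lt_of_mul_lt_mul_left h1
    rw [hk, show k = 1 by omega, mul_one]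
  have hpe : ¬ p ∣ e := fun hd => by have := Nat.le_of_dvd (by omega) hd; omega
  have hsyl : e * (1 + n * p) = q ^ b * D := by
    have h1 := card_group hP hC e he
    rw [hn, hcard, hg0D] at h1
    refine Nat.eq_of_mul_eq_mul_left hp.pos ?_
    rw [← mul_assoc, ← mul_assoc, h1]; ring
  obtain ⟨i, -, hei⟩ : ∃ i, i ≤ b ∧ e = q ^ i := by
    refine (Nat.dvd_prime_pow hq).1 ?_
    have hcop : Nat.Coprime e D := by
      rw [← Nat.coprime_self_add_right, add_comm e D, hDp]
      exact (hp.coprime_iff_not_dvd.2 hpe).symm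
    exact hcop.dvd_of_dvd_mul_right ⟨1 + n * p, hsyl.symm⟩
  have hi0 : i ≠ 0 := by rintro rfl; simp at hei; omega
  obtain ⟨η, hη⟩ := Y_nonempty B
  have hrel := degree_relation B hη
  rw [hD η hη, hε, ← Finset.add_sum_erase _ _ B.one_mem, B.a_one, oneChar_degree] at hrel
  have herase : ∀ χ ∈ X.erase (oneChar G), χ ∈ X ∧ χ ≠ oneChar G := fun χ hχ =>
    ⟨Finset.mem_of_mem_erase hχ, Finset.ne_of_mem_erase hχ⟩
  have hq2 : q = 2 := by
    have hqe : q ∣ e := hei ▸ dvd_pow_self q hi0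
    have h1 : (q : ℤ) ∣ ∑ χ ∈ X.erase (oneChar G), a χ * (charDegree (χ : G → ℂ) : ℤ) :=
      Finset.dvd_sum fun χ hχ => dvd_mul_of_dvd_right (Int.natCast_dvd_natCast.2
        (hXq χ (herase χ hχ).1 (herase χ hχ).2)) _
    have h2 : (q : ℤ) ∣ (Y.card : ℤ) * e := dvd_mul_of_dvd_right (Int.natCast_dvd_natCast.2 hqe) _
    have h3 : (q : ℤ) ∣ (e : ℤ) := Int.natCast_dvd_natCast.2 hqe
    have hpYz : (Y.card : ℤ) * e + 1 = p := by exact_mod_cast hpY
    have hDpz : (D : ℤ) + e = p := by exact_mod_cast hDp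
    have h4 : (q : ℤ) ∣ (2 : ℤ) := by
      have h5 := dvd_add (dvd_neg.2 h1) (dvd_sub h3 h2)
      push_cast at hrel
      rwa [show -(∑ χ ∈ X.erase (oneChar G), a χ * (charDegree (χ : G → ℂ) : ℤ)) +
        ((e : ℤ) - (Y.card : ℤ) * e) = 2 by linarith] at h5
    exact (Nat.prime_dvd_prime_iff_eq hq Nat.prime_two).1 (by exact_mod_cast h4)
  subst hq2
  have hDodd : Odd D := Nat.not_even_iff_odd.1 fun h => hDq h.two_dvd
  -- the degrees of the characters in `X`
  have hfac' : ∀ χ ∈ X.erase (oneChar G), ∃ d j, charDegree (χ : G → ℂ) = d * 2 ^ j ∧ Odd d ∧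
      d ∣ D ∧ 1 ≤ j := by
    intro χ hχ
    obtain ⟨hX, h1⟩ := herase χ hχ
    obtain ⟨j, d, hd, hf⟩ := Nat.exists_eq_pow_mul_and_not_dvd
      (ClassAlgebraVal.charDegree_pos χ).ne' 2 (by norm_num)
    have hodd : Odd d := Nat.not_even_iff_odd.1 fun h => hd h.two_dvd
    refine ⟨d, j, by rw [hf, mul_comm], hodd, ?_, ?_⟩
    · have hdp : ¬ p ∣ d := fun h => by
        have h3 := (B.congrX χ hX).symm.trans (Int.modEq_zero_iff_dvd.2
          (Int.natCast_dvd_natCast.2 (hf ▸ dvd_mul_of_dvd_right h _)))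
        rw [Int.modEq_zero_iff_dvd] at h3
        rcases B.signX χ hX with e1 | e1 <;> rw [e1] at h3
        · exact hp.ne_one (by exact_mod_cast Int.eq_one_of_dvd_one (Int.natCast_nonneg _) h3)
        · exact hp.ne_one (by
            exact_mod_cast Int.eq_one_of_dvd_one (Int.natCast_nonneg _) (dvd_neg.1 h3))
      have h3 : d ∣ p * 2 ^ b * g₀ :=
        hcard ▸ (dvd_of_eq rfl |>.trans ((dvd_mul_left d (2 ^ j)).trans
          (hf ▸ CharAverage.charDegree_dvd_card χ)))
      exact hg0D ▸ dvd_cofactor hp Nat.prime_two h3 hdp hd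
    · rcases Nat.eq_zero_or_pos j with rfl | h
      · rw [pow_zero, one_mul] at hf
        exact absurd (hf ▸ hXq χ hX h1) hd
      · exact h
  have hcong : ∀ χ ∈ X, ∀ {f : ℕ}, charDegree (χ : G → ℂ) = f → (f : ZMod p) = (a χ : ZMod p) := by
    intro χ hχ f hf
    have h := (ZMod.intCast_eq_intCast_iff _ _ _).2 (B.congrX χ hχ)
    rw [hf] at h
    exact_mod_cast h
  -- `p` is a Fermat prime
  obtain ⟨m, hm, hhalf⟩ : ∃ m, p = 2 ^ m + 1 ∧ ∀ χ ∈ X.erase (oneChar G), ∀ d : ℕ,
      d ∣ charDegree (χ : G → ℂ) → d ∣ D → 2 * d ≤ p + 1 := by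
    rcases Nat.lt_or_ge i 2 with hi | hi
    · -- `e = 2`
      have he' : e = 2 := by rw [hei, show i = 1 by omega, pow_one]
      obtain ⟨χ, hχ⟩ := Finset.card_eq_one.1 (show (X.erase (oneChar G)).card = 1 by
        rw [Finset.card_erase_of_mem B.one_mem, B.cardX, he'])
      have hχm : χ ∈ X.erase (oneChar G) := hχ ▸ Finset.mem_singleton_self χ
      obtain ⟨d, j, hf, -, hdD, -⟩ := hfac' χ hχm
      rw [hχ, Finset.sum_singleton] at hrel
      have hfD : charDegree (χ : G → ℂ) = D + 1 := by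
        rcases B.signX χ (herase χ hχm).1 with h | h <;> rw [h] at hrel <;> push_cast at hrel <;> omega
      have hd1 : d = 1 := by
        have h1 : d ∣ D + 1 := ⟨2 ^ j, by rw [← hfD, hf]⟩
        exact Nat.dvd_one.1 ((Nat.dvd_add_right hdD).1 h1)
      refine ⟨j, ?_, fun χ' hχ' d' hd1' hd2' => ?_⟩
      · rw [hd1, one_mul, hfD] at hf
        omega
      · rw [hχ, Finset.mem_singleton] at hχ'
        rw [hχ', hfD] at hd1'
        have := Nat.dvd_one.1 ((Nat.dvd_add_right hd2').1 hd1')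
        omega
    · -- `4 ∣ e`
      have h4e : 4 ∣ e := hei ▸ (show (4 : ℕ) = 2 ^ 2 from rfl) ▸ pow_dvd_pow 2 hi
      obtain ⟨χ, hχ, h4f⟩ : ∃ χ ∈ X.erase (oneChar G), ¬ 4 ∣ charDegree (χ : G → ℂ) := by
        by_contra hc
        push Not at hc
        have h1 : (4 : ℤ) ∣ ∑ χ ∈ X.erase (oneChar G), a χ * (charDegree (χ : G → ℂ) : ℤ) :=
          Finset.dvd_sum fun χ hχ => dvd_mul_of_dvd_right (by exact_mod_cast hc χ hχ) _
        have h2 : 4 ∣ Y.card * e := dvd_mul_of_dvd_right h4e _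
        push_cast at hrel
        obtain ⟨u, hu⟩ := h1
        obtain ⟨v, hv⟩ := h2
        obtain ⟨w, hw⟩ := h4e
        omega
      obtain ⟨hX, h1⟩ := herase χ hχ
      obtain ⟨d, j, hf, hdodd, hdD, hj⟩ := hfac' χ hχ
      have hj1 : j = 1 := by
        by_contra hne
        exact h4f (hf ▸ dvd_mul_of_dvd_right
          ((show (4 : ℕ) = 2 ^ 2 from rfl) ▸ pow_dvd_pow 2 (by omega)) _)
      rw [hj1, pow_one] at hf
      have hdle := Nat.le_of_dvd (by omega) hdD
      have hne : charDegree (χ : G → ℂ) ≠ 1 := fun h => h1 (eq_oneChar_of_degree_one hperf h)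
      obtain ⟨k, hk⟩ := (B.congrX χ hX).symm.dvd
      have hk0 : 0 ≤ k := by
        by_contra hc
        push Not at hc
        have := mul_le_mul_of_nonneg_left (show k ≤ -1 by omega) (Int.natCast_nonneg p)
        rcases B.signX χ hX with h | h <;> rw [h] at hk <;> omega
      have hk2 : k ≤ 1 := by
        by_contra hc
        push Not at hc
        have := mul_le_mul_of_nonneg_left (show (2 : ℤ) ≤ k by omega) (Int.natCast_nonneg p)
        rcases B.signX χ hX with h | h <;> rw [h] at hk <;> omega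
      obtain ⟨v, hv⟩ := dvd_mul_of_dvd_right h4e Y.card
      obtain ⟨s, hs⟩ := hdodd
      have hcase : 2 * d = p + 1 := by
        have hk' : k = 0 ∨ k = 1 := by omega
        rcases hk' with rfl | rfl <;> rcases B.signX χ hX with h | h <;> rw [h] at hk <;> omega
      obtain ⟨c, hc⟩ := hdD
      have hc1 : c = 1 := by
        have hc2 : d * c < d * 2 := by omega
        have := Nat.lt_of_mul_lt_mul_left hc2
        rcases c with _ | _ | c
        · simp at hc; omega
        · rfl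
        · omega
      rw [hc1, mul_one] at hc
      refine ⟨i + 1, ?_, fun χ' _ d' _ hd2' => ?_⟩
      · rw [pow_succ, ← hei]
        omega
      · have := Nat.le_of_dvd (by omega) hd2'
        omega
  refine ⟨⟨m, hm⟩, ?_⟩
  have hm2 : 2 ≤ m := by
    rcases m with _ | _ | m
    · simp at hm; omega
    · simp at hm; omega
    · omega
  have hm1 : 1 ≤ m := by omega
  have hpm : 2 ^ m + 1 = p := hm.symm
  have h2m : 2 * 2 ^ (m - 1) = 2 ^ m := by rw [← pow_succ']; congr 1; omega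
  have hdeg : ∀ χ ∈ X.erase (oneChar G), (a χ = 1 ∧ charDegree (χ : G → ℂ) = p + 1) ∨
      (a χ = -1 ∧ charDegree (χ : G → ℂ) = p - 1) := by
    intro χ hχ
    obtain ⟨hX, h1⟩ := herase χ hχ
    obtain ⟨d, j, hf, hdodd, hdD, hj⟩ := hfac' χ hχ
    have hDlt : D < 2 ^ m := by omega
    have hdle := Nat.le_of_dvd (by omega) hdD
    have hsq : charDegree (χ : G → ℂ) ≤ D * D := deg_le_sq B hP hC he hY2 hX hD
    have hsign : (a χ : ZMod p) = 1 ∨ (a χ : ZMod p) = -1 := by
      rcases B.signX χ hX with h | h <;> simp [h]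
    have hcast := hcong χ hX hf
    push_cast at hcast
    have hone_ne : (1 : ZMod p) ≠ -1 := fun h => by
      have h2 : ((2 : ℕ) : ZMod p) = ((0 : ℕ) : ZMod p) := by
        push_cast
        linear_combination h
      rw [ZMod.natCast_eq_natCast_iff', Nat.zero_mod, Nat.mod_eq_of_lt (by omega)] at h2
      omega
    have hkey : ∀ {l : ℕ}, ((-1 : ZMod p)) ^ l = (a χ : ZMod p) → a χ = (-1) ^ l := by
      intro l hl
      rcases B.signX χ hX with h | h <;> rw [h] at hl ⊢ <;>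
        rcases Nat.even_or_odd l with h2 | h2 <;>
        simp only [h2.neg_one_pow, Int.cast_one, Int.cast_neg] at hl ⊢
      · exact absurd hl.symm hone_ne
      · exact absurd hl hone_ne
    rcases fermat_odd hm hm1 hdodd (hhalf χ hχ d (hf ▸ dvd_mul_right d _) hdD) (by rwa [hcast]) with hd1 | hd1
    · rw [hd1, one_mul] at hf
      rw [hd1, Nat.cast_one, one_mul] at hcast
      obtain ⟨l, hl, hl'⟩ := fermat_exp hm hm1 (b := j) (by rw [hcast]; exact hsign)
      have hl1 : l = 1 := by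
        rcases l with _ | _ | l
        · simp at hl; omega
        · rfl
        · exfalso
          have h2 : 2 ^ (m + m) ≤ 2 ^ j :=
            Nat.pow_le_pow_right (by norm_num) (by rw [hl]; nlinarith)
          rw [pow_add] at h2
          have := Nat.mul_lt_mul'' hDlt hDlt
          omega
      subst hl1
      rw [one_mul] at hl
      subst hl
      right
      refine ⟨by have := hkey (l := 1) (hl'.symm.trans hcast); simpa using this, by omega⟩
    · obtain ⟨c, hc⟩ := hdD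
      have hc1 : c = 1 := by
        have hc2 : d * c < d * 2 := by omega
        have := Nat.lt_of_mul_lt_mul_left hc2
        rcases c with _ | _ | c
        · simp at hc; omega
        · rfl
        · omega
      rw [hc1, mul_one] at hc
      subst hc
      obtain ⟨j', rfl⟩ : ∃ j', j = j' + 1 := ⟨j - 1, by omega⟩
      have hf' : charDegree (χ : G → ℂ) = (p + 1) * 2 ^ j' := by
        rw [hf, pow_succ, ← hd1]; ring
      have hcast' := hcong χ hX hf'
      push_cast at hcast'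
      rw [ZMod.natCast_self, zero_add, one_mul] at hcast'
      obtain ⟨l, hl, hl'⟩ := fermat_exp hm hm1 (b := j') (by rw [hcast']; exact hsign)
      have hl0 : l = 0 := by
        rcases Nat.eq_zero_or_pos l with h | h
        · exact h
        · exfalso
          rw [hf] at hsq
          have h2 : 2 ^ (j' + 1) ≤ D := Nat.le_of_mul_le_mul_left hsq (by omega)
          have h3 : 2 ^ m ≤ 2 ^ (j' + 1) :=
            Nat.pow_le_pow_right (by norm_num) (by rw [hl]; nlinarith)
          omega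
      subst hl0
      rw [zero_mul] at hl
      subst hl
      left
      exact ⟨by have := hkey (l := 0) (hl'.symm.trans hcast'); simpa using this, by
        rw [hf', pow_zero, mul_one]⟩
  have hXp : ∀ χ ∈ Xp X a, charDegree (χ : G → ℂ) = p + 1 := by
    intro χ hχ
    simp only [Xp, Finset.mem_filter] at hχ
    rcases hdeg χ (Finset.mem_erase.2 ⟨hχ.2.2, hχ.1⟩) with h | h
    · exact h.2
    · omega
  have hXm : ∀ χ ∈ Xm X a, charDegree (χ : G → ℂ) = p - 1 := by
    intro χ hχ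
    simp only [Xm, Finset.mem_filter] at hχ
    rcases hdeg χ (Finset.mem_erase.2
      ⟨fun h => by rw [h, B.a_one] at hχ; omega, hχ.1⟩) with h | h
    · omega
    · exact h.2
  have hsplit := card_split' B
  set A := (Xp X a).card with hA
  set b₁ := (Xm X a).card with hb₁
  have hrel' := degree_relation B hη
  rw [sum_X' B, B.a_one, oneChar_degree, hD η hη, hε,
    Finset.sum_congr rfl (s₁ := Xp X a) (g := fun _ => (p : ℤ) + 1) fun χ hχ => by
      rw [hXp χ hχ]
      simp only [Xp, Finset.mem_filter] at hχ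
      rw [hχ.2.1]; push_cast; ring,
    Finset.sum_congr rfl (s₁ := Xm X a) (g := fun _ => (1 : ℤ) - p) fun χ hχ => by
      rw [hXm χ hχ, Nat.cast_sub hp.one_le]
      simp only [Xm, Finset.mem_filter] at hχ
      rw [hχ.2]; push_cast; ring,
    Finset.sum_const, Finset.sum_const, nsmul_eq_mul, nsmul_eq_mul, ← hA, ← hb₁] at hrel'
  -- the exponent of two
  have hb1 : (2 : ZMod p) ^ b = -1 := by
    have he0 : (e : ZMod p) ≠ 0 := fun h => hpe ((ZMod.natCast_eq_zero_iff _ _).1 h)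
    have h : ((e * (1 + n * p) : ℕ) : ZMod p) = ((2 ^ b * D : ℕ) : ZMod p) := by rw [hsyl]
    have hDe : (D : ZMod p) = -(e : ZMod p) := by
      have h' : ((D + e : ℕ) : ZMod p) = 0 := by rw [hDp, ZMod.natCast_self]
      push_cast at h'
      exact eq_neg_of_add_eq_zero_left h'
    push_cast at h
    rw [ZMod.natCast_self, mul_zero, add_zero, mul_one, hDe] at h
    refine mul_right_cancel₀ he0 ?_
    linear_combination h
  obtain ⟨l, hl, hl'⟩ := fermat_exp hm hm1 (b := b) (Or.inr hb1)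
  have hlodd : Odd l := by
    refine Nat.not_even_iff_odd.1 fun h => ?_
    rw [h.neg_one_pow, hb1] at hl'
    have h2 : ((2 : ℕ) : ZMod p) = ((0 : ℕ) : ZMod p) := by push_cast; linear_combination -hl'
    rw [ZMod.natCast_eq_natCast_iff', Nat.zero_mod, Nat.mod_eq_of_lt (by omega)] at h2
    omega
  suffices hl1 : l = 1 by
    have hbm : b = m := by rw [hl, hl1, one_mul]
    rw [hbm] at hsyl
    have h1 : 2 * (1 + n * p) ≤ 2 ^ m * D := hsyl ▸ Nat.mul_le_mul_right _ he2
    have h2 : 2 ^ m * D < p * p := Nat.mul_lt_mul'' (by omega) (by omega)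
    have h3 : p * (2 * n) < p * p := by
      calc p * (2 * n) < 2 * (1 + n * p) := by linarith
        _ ≤ 2 ^ m * D := h1
        _ < p * p := h2
    have := Nat.lt_of_mul_lt_mul_left h3
    omega
  by_contra hl1
  have hl3 : 3 ≤ l := by
    obtain ⟨k, hk⟩ := hlodd
    omega
  obtain ⟨M2, hM2⟩ := BrauerBlocksRegFun.exists_isPModular Nat.prime_two
  have hfac : (Nat.card G).factorization 2 = b := by
    have hD0 : D ≠ 0 := by omega
    rw [hcard, hg0D, Nat.factorization_mul (Nat.mul_ne_zero hp.ne_zero (by positivity)) hD0,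
      Nat.factorization_mul hp.ne_zero (by positivity), Finsupp.add_apply, Finsupp.add_apply,
      Nat.prime_two.factorization_pow, Finsupp.single_eq_same,
      hp.factorization, Finsupp.single_eq_of_ne (by omega),
      Nat.factorization_eq_zero_of_not_dvd hDq]
    omega
  have h2G : 2 ∣ Nat.card G := by
    rw [hcard]
    refine dvd_mul_of_dvd_left (dvd_mul_of_dvd_right (dvd_pow_self 2 ?_) _) _
    have : 3 * 1 ≤ l * m := Nat.mul_le_mul hl3 hm1
    omega
  have hW := block_congr B hP hC hpq hMp hM2 hmem hfac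
  have hWX : (∑ χ ∈ X, if χ ∈ principalBlock M2 G then
      a χ * (charDegree (χ : G → ℂ) : ℤ) else 0) =
      1 + (((Xp X a).filter fun χ => χ ∈ principalBlock M2 G).card : ℤ) * (p + 1) := by
    rw [sum_X' B, if_pos (oneChar_mem hM2), B.a_one, oneChar_degree,
      Finset.sum_eq_zero (s := Xm X a) fun χ hχ => by
        refine if_neg ?_
        refine not_mem_principalBlock (q := 2) hG hM2 h2G ?_ (j := m) (by rw [hXm χ hχ]; omega)
        simp only [Xm, Finset.mem_filter] at hχ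
        exact fun h => by rw [h, B.a_one] at hχ; omega,
      ← Finset.sum_filter (s := Xp X a),
      Finset.sum_congr rfl (g := fun _ => (p : ℤ) + 1) fun χ hχ => by
        have hχ' := (Finset.mem_filter.1 hχ).1
        rw [hXp χ hχ']
        simp only [Xp, Finset.mem_filter] at hχ'
        rw [hχ'.2.1]; push_cast; ring,
      Finset.sum_const, nsmul_eq_mul]
    push_cast; ring
  have hsumY : (∑ η ∈ Y, if η ∈ principalBlock M2 G then (charDegree (η : G → ℂ) : ℤ) else 0) =
      ((Y.filter fun η => η ∈ principalBlock M2 G).card : ℤ) * D := by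
    rw [← Finset.sum_filter, ← nsmul_eq_mul, ← Finset.sum_const]
    exact Finset.sum_congr rfl fun η hη => by rw [hD η (Finset.mem_filter.1 hη).1]
  rw [hWX, hsumY, hε] at hW
  set i' : ℕ := ((Xp X a).filter fun χ => χ ∈ principalBlock M2 G).card
  set r : ℕ := (Y.filter fun η => η ∈ principalBlock M2 G).card
  have hi' : (i' : ℤ) ≤ A := by exact_mod_cast Finset.card_filter_le _ _
  have hr : (r : ℤ) ≤ Y.card := by exact_mod_cast Finset.card_filter_le _ _
  have hYe : (Y.card : ℤ) * e = (p : ℤ) - 1 := by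
    have : (Y.card : ℤ) * e + 1 = p := by exact_mod_cast hpY
    linarith
  have hp1 : (0 : ℤ) < (p : ℤ) - 1 := by omega
  have hrD : (r : ℤ) * ((e : ℤ) * D) ≤ (Y.card : ℤ) * ((e : ℤ) * D) :=
    mul_le_mul_of_nonneg_right hr (by positivity)
  have hiP : (i' : ℤ) * ((p + 1) * ((p : ℤ) - 1)) ≤ (A : ℤ) * ((p + 1) * ((p : ℤ) - 1)) :=
    mul_le_mul_of_nonneg_right hi' (by positivity)
  have hWpos : (0 : ℤ) < ((p : ℤ) - 1) * (1 + (i' : ℤ) * (p + 1)) - -1 * e * (r * D) := by
    have : (0 : ℤ) ≤ ((p : ℤ) - 1) * ((i' : ℤ) * (p + 1)) := mul_nonneg hp1.le (by positivity)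
    have : (0 : ℤ) ≤ (e : ℤ) * ((r : ℤ) * D) := by positivity
    linarith
  have hle := Int.le_of_dvd hWpos hW
  push_cast at hrel'
  have hub : ((p : ℤ) - 1) * (1 + (i' : ℤ) * (p + 1)) - -1 * e * (r * D) ≤
      ((p : ℤ) - 1) * (b₁ * ((p : ℤ) - 1)) := by
    have h5 : (1 : ℤ) + A * (p + 1) + D = b₁ * ((p : ℤ) - 1) := by linarith
    rw [← h5]
    have h6 : (Y.card : ℤ) * ((e : ℤ) * D) = ((p : ℤ) - 1) * D := by rw [← mul_assoc, hYe]
    linarith
  have hb1z : (b₁ : ℤ) < (p : ℤ) - 1 := by omega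
  have hpow : (((p - 1) * ((p - 1) * (p - 1)) : ℕ) : ℤ) ≤ ((2 ^ b : ℕ) : ℤ) := by
    rw [show p - 1 = 2 ^ m by omega, ← pow_add, ← pow_add, hl]
    exact_mod_cast Nat.pow_le_pow_right (by norm_num) (by nlinarith)
  push_cast [Nat.cast_sub hp.one_le] at hpow
  have hlt : ((p : ℤ) - 1) * (b₁ * ((p : ℤ) - 1)) < ((p : ℤ) - 1) * (((p : ℤ) - 1) * ((p : ℤ) - 1)) :=
    mul_lt_mul_of_pos_left (mul_lt_mul_of_pos_right hb1z hp1) hp1
  push_cast at hle
  linarith

/-- **Brauer–Tuan**: simple groups of order `p q ^ b g₀` with `g₀ < p - 1`. -/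
theorem main (hG : ¬ IsCyclic G) {q b g₀ : ℕ} [Fact q.Prime] (hpq : p ≠ q)
    (hcard : Nat.card G = p * q ^ b * g₀) (hg : g₀ < p - 1) :
    ∃ m : ℕ, (p = 2 ^ m + 1 ∨ p = 2 ^ m - 1) ∧ Concl G p := by
  have hp := (Fact.out : p.Prime)
  have hq := (Fact.out : q.Prime)
  -- we may assume that `q` does not divide `g₀`
  have hg0 : g₀ ≠ 0 := fun h => Nat.card_pos.ne' (hcard.trans (by rw [h, mul_zero]))
  obtain ⟨i, g₁, hqg, rfl⟩ := Nat.exists_eq_pow_mul_and_not_dvd hg0 q hq.ne_one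
  replace hcard : Nat.card G = p * q ^ (b + i) * g₁ := by rw [hcard, pow_add]; ring
  replace hg : g₁ < p - 1 :=
    lt_of_le_of_lt (Nat.le_mul_of_pos_left _ (pow_pos hq.pos i)) hg
  have hg1 : 0 < g₁ := Nat.pos_of_ne_zero fun h => hg0 (by rw [h, mul_zero])
  set b' := b + i
  have hperf := perfect_of_simple hG
  obtain ⟨P⟩ : Nonempty (Sylow p G) := inferInstance
  have hP : Nat.card P = p := by
    rw [P.card_eq_multiplicity, hcard,
      Nat.factorization_mul (Nat.mul_ne_zero hp.ne_zero (pow_ne_zero _ hq.ne_zero)) hg1.ne',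
      Nat.factorization_mul hp.ne_zero (pow_ne_zero _ hq.ne_zero), Finsupp.add_apply,
      Finsupp.add_apply, hp.factorization, Finsupp.single_eq_same, hq.factorization_pow,
      Finsupp.single_eq_of_ne hpq, Nat.factorization_eq_zero_of_not_dvd fun hd => by
        have := Nat.le_of_dvd hg1 hd
        omega, add_zero, add_zero, pow_one]
  obtain ⟨e, he⟩ : ∃ e, (Subgroup.centralizer ((P : Subgroup G) : Set G)).relIndex
      (Subgroup.normalizer ((P : Subgroup G) : Set G)) = e := ⟨_, rfl⟩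
  have he2 := two_le_relIndex hperf P hP he
  obtain ⟨Mp, hMp⟩ := BrauerBlocksRegFun.exists_isPModular hp
  obtain ⟨X, Y, a, ε, B, hmem⟩ := exists_blk_mem hMp hP e he
  obtain ⟨hY2, hXq, D, hD, hDg, hDq, hDlt, hcases⟩ := degrees hperf hq hcard hg B
  obtain ⟨η, hη⟩ := Y_nonempty B
  have hC := centralizer_eq hP B hη (by rw [hD η hη]; omega)
  obtain ⟨n, hn⟩ : ∃ n, Nat.card (Sylow p G) = 1 + n * p := by
    refine ⟨Nat.card (Sylow p G) / p, ?_⟩
    have h1 : Nat.card (Sylow p G) % p = 1 := Eq.trans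
      (show Nat.card (Sylow p G) % p = 1 % p from card_sylow_modEq_one p G)
      (Nat.mod_eq_of_lt hp.one_lt)
    have h2 := Nat.mod_add_div (Nat.card (Sylow p G)) p
    rw [h1] at h2
    rw [mul_comm]; exact h2.symm
  have hn1 : 1 ≤ n := by
    by_contra hc
    have h0 : n = 0 := by omega
    rw [h0, zero_mul, add_zero] at hn
    haveI : Subsingleton (Sylow p G) := (Nat.card_eq_one_iff_unique.1 hn).1
    haveI hPn : (P : Subgroup G).Normal := Sylow.normal_of_subsingleton P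
    rcases hPn.eq_bot_or_eq_top with h | h
    · rw [h, Subgroup.card_bot] at hP
      exact hp.ne_one hP.symm
    · apply hG
      haveI : IsCyclic (P : Subgroup G) := isCyclic_of_prime_card (p := p) hP
      rw [h] at this
      exact isCyclic_of_surjective _ (Subgroup.topEquiv (G := G)).surjective
  have key : (∃ m : ℕ, p = 2 ^ m + 1 ∨ p = 2 ^ m - 1) ∧ 2 * n ≤ p + 2 := by
    rcases hcases with ⟨hε, rfl⟩ | ⟨hε, hDp⟩
    · obtain ⟨⟨m, hm⟩, h⟩ := case_pos hG hperf hpq hcard hqg hg hP hC he hn hn1 he2 hMp B hmem hY2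
        hXq hε hD hDg hDq
      exact ⟨⟨m, Or.inr hm⟩, h⟩
    · obtain ⟨⟨m, hm⟩, h⟩ := case_neg hG hperf hpq hcard hg hP hC he hn he2 hMp B hmem hY2
        hXq hε hD hDg hDq hDp
      exact ⟨⟨m, Or.inl hm⟩, h⟩
  obtain ⟨⟨m, hm⟩, hsmall⟩ := key
  exact ⟨m, hm, recognize hperf P hP hC hn hsmall⟩

end Cfsg.Agent.BrauerTuan7
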