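import Cfsg.Agent.Lib.PSL2Elements

/-!
`PSL(2, q)`: orders and centralisers of images of elements of `SL(2, q)`.
-/

set_option autoImplicit false

namespace Cfsg.Agent.PSL2Proj52

open Matrix Cfsg.Agent.PSL2Elements
open scoped MatrixGroups

variable {F : Type*} [Field F]

/-- The projection `SL(2,F) → PSL(2,F)`. -/
abbrev π : SL(2, F) →* ProjectiveSpecialLinearGroup (Fin 2) F :=
  QuotientGroup.mk' (Subgroup.center SL(2, F))

theorem π_surjective : Function.Surjective (π : SL(2, F) →* _) :=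
  QuotientGroup.mk'_surjective _

theorem π_eq_one (A : SL(2, F)) : π A = 1 ↔ A = 1 ∨ A = -1 :=
  (QuotientGroup.eq_one_iff A).trans (PSL2Elements.mem_center_iff A)

theorem π_neg (A : SL(2, F)) : π (-A) = π A := by
  rw [show -A = (-1) * A from (neg_one_mul A).symm, map_mul, (π_eq_one (-1)).2 (Or.inr rfl), one_mul]

theorem π_eq_iff (A B : SL(2, F)) : π A = π B ↔ A = B ∨ A = -B := by
  constructor
  · intro h
    have h1 : π (A * B⁻¹) = 1 := by rw [map_mul, map_inv, h, mul_inv_cancel]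
    rcases (π_eq_one _).1 h1 with e | e
    · exact Or.inl (mul_inv_eq_one.1 e)
    · right
      have := congrArg (· * B) e
      simpa using this
  · rintro (rfl | rfl)
    · rfl
    · exact π_neg B

theorem two_ne_of_odd [Finite F] (hq : Odd (Nat.card F)) : (2 : F) ≠ 0 := by
  have := Fintype.ofFinite F
  intro h
  have : CharP F 2 := CharTwo.of_one_ne_zero_of_two_eq_zero one_ne_zero h
  obtain ⟨n, hp, hn⟩ := FiniteField.card F 2
  rw [Nat.card_eq_fintype_card, hn] at hq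
  exact (Nat.not_even_iff_odd.2 hq) (even_iff_two_dvd.2 (dvd_pow_self 2 n.ne_zero))

theorem two_eq_of_even [Finite F] (hq : Even (Nat.card F)) : (2 : F) = 0 := by
  have := Fintype.ofFinite F
  by_contra h
  have hc : ringChar F ≠ 2 := fun e => h (by
    have : CharP F 2 := ringChar.of_eq e
    exact CharP.cast_eq_zero F 2)
  have := FiniteField.odd_card_of_char_ne_two hc
  rw [Nat.card_eq_fintype_card, Nat.even_iff] at hq
  omega

theorem neg_one_eq_one (h2 : (2 : F) = 0) : (-1 : SL(2, F)) = 1 := by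
  apply ext2 <;> simp
  all_goals linear_combination -h2

theorem π_injective_of_even (h2 : (2 : F) = 0) : Function.Injective (π : SL(2, F) →* _) := by
  intro A B h
  rcases (π_eq_iff A B).1 h with e | e
  · exact e
  · rw [e, ← neg_one_mul, neg_one_eq_one h2, one_mul]

theorem neg_one_ne_one (h2 : (2 : F) ≠ 0) : (-1 : SL(2, F)) ≠ 1 := fun h => h2 (by
  have := congrArg (fun C : SL(2, F) => C.1 0 0) h
  simp at this
  linear_combination -this)

/-- `gcd(2, q-1)`. -/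
theorem gcd_eq [Finite F] :
    (Odd (Nat.card F) ∧ Nat.gcd 2 (Nat.card F - 1) = 2) ∨
      (Even (Nat.card F) ∧ Nat.gcd 2 (Nat.card F - 1) = 1) := by
  have h1 := PSLCard.one_lt_card F
  rcases Nat.even_or_odd (Nat.card F) with ⟨k, hk⟩ | ⟨k, hk⟩
  · refine Or.inr ⟨⟨k, hk⟩, ?_⟩
    rcases Nat.prime_two.eq_one_or_self_of_dvd _ (Nat.gcd_dvd_left 2 (Nat.card F - 1)) with h | h
    · exact h
    · have := Nat.gcd_dvd_right 2 (Nat.card F - 1)
      rw [h] at this
      omega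
  · exact Or.inl ⟨⟨k, hk⟩, Nat.gcd_eq_left ⟨k, by omega⟩⟩

theorem π_pow_div [Finite F] {A : SL(2, F)} {N : ℕ}
    (hd : Nat.gcd 2 (Nat.card F - 1) ∣ N) (h : A ^ N = 1) :
    π A ^ (N / Nat.gcd 2 (Nat.card F - 1)) = 1 := by
  rw [← map_pow, π_eq_one]
  rcases gcd_eq (F := F) with ⟨ho, hg⟩ | ⟨-, hg⟩
  · rw [hg] at hd ⊢
    refine eq_one_or_neg_one_of_sq_eq_one (two_ne_of_odd ho) ?_
    rw [← pow_mul, Nat.div_mul_cancel hd, h]
  · exact Or.inl (by rw [hg, Nat.div_one, h])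

theorem orderOf_π [Finite F] {A : SL(2, F)} {N : ℕ}
    (hd : Nat.gcd 2 (Nat.card F - 1) ∣ N) (h : orderOf A = N) :
    orderOf (π A) = N / Nat.gcd 2 (Nat.card F - 1) := by
  refine Nat.dvd_antisymm (orderOf_dvd_of_pow_eq_one (π_pow_div hd (h ▸ pow_orderOf_eq_one A))) ?_
  have h1 : A ^ (orderOf (π A) * Nat.gcd 2 (Nat.card F - 1)) = 1 := by
    have h0 : π (A ^ orderOf (π A)) = 1 := by rw [map_pow, pow_orderOf_eq_one]
    rcases gcd_eq (F := F) with ⟨ho, hg⟩ | ⟨he, hg⟩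
    · rw [hg, pow_mul]
      rcases (π_eq_one _).1 h0 with e | e <;> rw [e] <;> simp
    · rw [hg, mul_one]
      exact π_injective_of_even (two_eq_of_even he) (h0.trans (map_one π).symm)
  obtain ⟨c, hc⟩ := hd
  have h2 : N ∣ orderOf (π A) * Nat.gcd 2 (Nat.card F - 1) := h ▸ orderOf_dvd_of_pow_eq_one h1
  have hdpos : 0 < Nat.gcd 2 (Nat.card F - 1) := Nat.gcd_pos_of_pos_left _ two_pos
  rw [hc, Nat.mul_div_cancel_left _ hdpos]
  rw [hc, mul_comm (Nat.gcd _ _) c] at h2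
  exact Nat.dvd_of_mul_dvd_mul_right hdpos h2

theorem gcd_dvd [Finite F] :
    Nat.gcd 2 (Nat.card F - 1) ∣ Nat.card F - 1 ∧ Nat.gcd 2 (Nat.card F - 1) ∣ Nat.card F + 1 := by
  refine ⟨Nat.gcd_dvd_right _ _, ?_⟩
  have h1 := PSLCard.one_lt_card F
  have := Nat.dvd_add (Nat.gcd_dvd_right 2 (Nat.card F - 1)) (Nat.gcd_dvd_left 2 (Nat.card F - 1))
  rwa [show Nat.card F - 1 + 2 = Nat.card F + 1 by omega] at this

/-- Every element of `PSL(2,q)` is killed by `p`, `(q-1)/d` or `(q+1)/d`. -/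
theorem pow_cases [Finite F] (p : ℕ) [Fact p.Prime] [CharP F p]
    (g : ProjectiveSpecialLinearGroup (Fin 2) F) :
    g ^ p = 1 ∨ g ^ ((Nat.card F - 1) / Nat.gcd 2 (Nat.card F - 1)) = 1 ∨
      g ^ ((Nat.card F + 1) / Nat.gcd 2 (Nat.card F - 1)) = 1 := by
  obtain ⟨A, rfl⟩ := π_surjective g
  rcases pow_trichotomy p A with ⟨-, h⟩ | ⟨-, h⟩ | h | h
  · exact Or.inl (by rw [← map_pow, h, map_one])
  · exact Or.inl (by rw [← π_neg, ← map_pow, h, map_one])
  · exact Or.inr (Or.inl (π_pow_div gcd_dvd.1 h))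
  · exact Or.inr (Or.inr (π_pow_div gcd_dvd.2 h))

theorem exists_orderOf_card_sub_one [Finite F] :
    ∃ a : Fˣ, orderOf (d a) = Nat.card F - 1 := by
  obtain ⟨a, ha⟩ := IsCyclic.exists_ofOrder_eq_natCard (α := Fˣ)
  exact ⟨a, by rw [show d a = dHom a from rfl, orderOf_injective _ dHom_injective, ha,
    PSLCard.card_units_field]⟩

theorem exists_orderOf_card_add_one [Finite F] :
    ∃ A : SL(2, F), orderOf A = Nat.card F + 1 := by
  obtain ⟨S, hS⟩ := exists_nonsplit (F := F)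
  obtain ⟨hc, hcard⟩ := centralizer_nonsplit hS
  obtain ⟨z, hz⟩ := hc.exists_ofOrder_eq_natCard
  exact ⟨z, by rw [Subgroup.orderOf_coe, hz, hcard]⟩

/-- Product of two conjugates: the key computation.  For every `s` with `s^2 ≠ 4` and all `t, e`,
some `B` of determinant one has trace `t` and `tr (B⁻¹ * PSL2Elements.comp s) = e`. -/
theorem exists_factor [Finite F] (s t e : F) (hs : s ^ 2 ≠ 4) :
    ∃ B : SL(2, F), tr B = t ∧ tr (B⁻¹ * PSL2Elements.comp s) = e := by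
  have hne : s ^ 2 - 4 ≠ 0 := sub_ne_zero.2 hs
  -- centre of the conic `-a^2 - s a c - c^2 + t a + e c - 1`
  set a0 := (s * e - 2 * t) / (s ^ 2 - 4) with ha0
  set c0 := (s * t - 2 * e) / (s ^ 2 - 4) with hc0
  have e1 : -2 * a0 - s * c0 + t = 0 := by rw [ha0, hc0]; field_simp; ring
  have e2 : -s * a0 - 2 * c0 + e = 0 := by rw [ha0, hc0]; field_simp; ring
  set k := -(-a0 ^ 2 - s * a0 * c0 - c0 ^ 2 + t * a0 + e * c0 - 1) with hk
  obtain ⟨x, y, hxy⟩ : ∃ x y : F, (-1) * x ^ 2 + (-s) * x * y + (-1) * y ^ 2 = k := by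
    by_cases h0 : k = 0
    · exact ⟨0, 0, by rw [h0]; ring⟩
    · exact exists_rep _ _ _ _ (by intro h; apply hs; linear_combination h) h0
  set a := a0 + x with ha
  set c := c0 + y with hc
  have hdet : a * (t - a) - (c + a * s - e) * c = 1 := by
    rw [ha, hc]
    linear_combination hxy + hk + x * e1 + y * e2
  refine ⟨mk2 a (c + a * s - e) c (t - a) hdet, by simp [tr], ?_⟩
  obtain ⟨i1, i2, i3, i4⟩ := inv_apply (mk2 a (c + a * s - e) c (t - a) hdet)
  simp only [tr, mul_apply2, i1, i2, i3, i4]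
  simp [PSL2Elements.comp]

/-- Every non-identity element of `PSL(2,q)` is a product of two conjugates of `π X`. -/
theorem covering [Finite F] {X : SL(2, F)} (hX : tr X ^ 2 ≠ 4)
    (hpar : (2 : F) ≠ 0 ∧ tr X ≠ 0 ∨ ∃ r : F, r ^ 2 - tr X * r + 1 = 0)
    {g : ProjectiveSpecialLinearGroup (Fin 2) F} (hg : g ≠ 1) :
    ∃ u v : ProjectiveSpecialLinearGroup (Fin 2) F,
      g = (u * π X * u⁻¹) * (v * π X * v⁻¹) := by
  obtain ⟨A, rfl⟩ := π_surjective g
  rw [Ne, π_eq_one, not_or] at hg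
  -- it suffices to write some conjugate of `± A`
  suffices h : ∃ B A' : SL(2, F), (IsConj A A' ∨ IsConj (-A) A') ∧ tr B = tr X ∧
      (tr (B⁻¹ * A') = tr X ∨ tr (B⁻¹ * A') = -tr X) by
    obtain ⟨B, A', hA', hB, hC⟩ := h
    obtain ⟨u, hu⟩ := isConj_iff.1 (isConj_of_tr_eq hB.symm hX)
    obtain ⟨v, hv⟩ : ∃ v, π (v * X * v⁻¹) = π (B⁻¹ * A') := by
      rcases hC with hC | hC
      · obtain ⟨v, hv⟩ := isConj_iff.1 (isConj_of_tr_eq hC.symm hX)
        exact ⟨v, by rw [hv]⟩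
      · obtain ⟨v, hv⟩ := isConj_iff.1 (isConj_of_tr_eq
          (show tr X = tr (-(B⁻¹ * A')) by rw [tr_neg, hC, neg_neg]) hX)
        exact ⟨v, by rw [hv, π_neg]⟩
    obtain ⟨w', hw'⟩ : ∃ w', π A' = π (w' * A * w'⁻¹) := by
      rcases hA' with h | h
      · obtain ⟨w', hw'⟩ := isConj_iff.1 h
        exact ⟨w', by rw [hw']⟩
      · obtain ⟨w', hw'⟩ := isConj_iff.1 h
        exact ⟨w', by rw [← hw', mul_neg, neg_mul, π_neg]⟩
    refine ⟨π (w'⁻¹ * u), π (w'⁻¹ * v), ?_⟩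
    have hprod : π (u * X * u⁻¹) * π (v * X * v⁻¹) = π (w' * A * w'⁻¹) := by
      rw [hu, hv, map_mul, map_inv, mul_inv_cancel_left, hw']
    calc π A = π w'⁻¹ * π (w' * A * w'⁻¹) * π w' := by simp [mul_assoc]
      _ = π w'⁻¹ * (π (u * X * u⁻¹) * π (v * X * v⁻¹)) * π w' := by rw [hprod]
      _ = _ := by simp [mul_assoc]
  by_cases h4 : tr A ^ 2 = 4
  · obtain ⟨x, hx⟩ : ∃ x : F, IsConj A (u x) ∨ IsConj (-A) (u x) := by
      have : (tr A - 2) * (tr A + 2) = 0 := by linear_combination h4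
      rcases mul_eq_zero.1 this with h | h
      · obtain ⟨x, hx⟩ := isConj_u_of_tr_two (sub_eq_zero.1 h)
        exact ⟨x, Or.inl hx⟩
      · obtain ⟨x, hx⟩ := isConj_u_of_tr_two (A := -A)
          (by rw [tr_neg, eq_neg_of_add_eq_zero_left h, neg_neg])
        exact ⟨x, Or.inr hx⟩
    have hx0 : x ≠ 0 := by
      rintro rfl
      rw [u_zero] at hx
      rcases hx with h | h <;> obtain ⟨c, hc⟩ := isConj_iff.1 h
      · exact hg.1 (conj_eq_one_iff.1 hc)
      · exact hg.2 (neg_eq_iff_eq_neg.1 (conj_eq_one_iff.1 hc))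
    rcases hpar with ⟨h2, ht⟩ | ⟨r, hr⟩
    · have hdet : 0 * tr X - -(x / (2 * tr X)) * (2 * tr X / x) = 1 := by
        field_simp
        ring
      refine ⟨mk2 0 (-(x / (2 * tr X))) (2 * tr X / x) (tr X) hdet, u x, hx, by simp [tr], Or.inr ?_⟩
      obtain ⟨i1, i2, i3, i4⟩ :=
        inv_apply (mk2 0 (-(x / (2 * tr X))) (2 * tr X / x) (tr X) hdet)
      simp only [tr, mul_apply2, i1, i2, i3, i4]
      simp [PSL2Elements.u]
      field_simp
      ring
    · refine ⟨mk2 r 0 0 (tr X - r) (by linear_combination -hr), u x, hx, by simp [tr], Or.inl ?_⟩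
      obtain ⟨i1, i2, i3, i4⟩ := inv_apply (mk2 r 0 0 (tr X - r) (by linear_combination -hr))
      simp only [tr, mul_apply2, i1, i2, i3, i4]
      simp [PSL2Elements.u]
  · obtain ⟨B, hB1, hB2⟩ := exists_factor (tr A) (tr X) (tr X) h4
    exact ⟨B, PSL2Elements.comp (tr A), Or.inl (isConj_comp h4), hB1, Or.inl hB2⟩

end Cfsg.Agent.PSL2Proj52
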