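import Cfsg.Agent.Lib.PSL2Elements
import Cfsg.Agent.Lib.PSL2Small

/-!
Sylow subgroups of `GL(2,q)`, `SL(2,q)` and `PSL(2,q)`.
-/

set_option autoImplicit false

namespace Cfsg.Agent.PSL2Sylow

open Matrix
open Cfsg.Agent.PSL2Elements
open scoped MatrixGroups Pointwise

variable {F : Type*} [Field F]

/-- `p`-part of the order for a product `a * b` with `a` a power of `p`. -/
theorem sylow_card_eq {G : Type*} [Group G] [Finite G] {p : ℕ} [hp : Fact p.Prime] {k b : ℕ}
    (hG : Nat.card G = p ^ k * b) (hb : ¬ p ∣ b) (P : Sylow p G) : Nat.card P = p ^ k := by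
  have hb0 : b ≠ 0 := fun h => hb (h ▸ dvd_zero p)
  change Nat.card (P : Subgroup G) = p ^ k
  rw [P.card_eq_multiplicity, hG, Nat.factorization_mul (pow_ne_zero _ hp.out.ne_zero) hb0]
  simp [Nat.factorization_pow, Nat.factorization_eq_zero_of_not_dvd hb, hp.out.factorization]

theorem card_field_eq [Finite F] (p : ℕ) [Fact p.Prime] [CharP F p] :
    ∃ n : ℕ, 0 < n ∧ Nat.card F = p ^ n := by
  have := Fintype.ofFinite F
  obtain ⟨n, -, hn⟩ := FiniteField.card F p
  exact ⟨n, n.pos, by rw [Nat.card_eq_fintype_card, hn]⟩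

theorem not_dvd_pow_sub_one {p n j : ℕ} (hp : p.Prime) (hj : 0 < j) (hn : 0 < n) :
    ¬ p ∣ (p ^ n) ^ j - 1 := by
  intro h
  have h1 : p ∣ (p ^ n) ^ j := dvd_pow (dvd_pow_self p hn.ne') hj.ne'
  have h2 := Nat.dvd_sub h1 h
  rw [Nat.sub_sub_self (Nat.one_le_pow _ _ (pow_pos hp.pos n))] at h2
  exact hp.not_dvd_one h2

/-! ### Borel subgroups -/

/-- Lower left entry zero: the Borel subgroup of `GL(2,F)`. -/
def borelGL (F : Type*) [Field F] : Subgroup (GL (Fin 2) F) where
  carrier := {g | (g : Matrix (Fin 2) (Fin 2) F) 1 0 = 0}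
  one_mem' := by simp
  mul_mem' {a b} ha hb := by
    simp only [Set.mem_ofPred_eq] at ha hb ⊢
    simp [Matrix.mul_apply, Fin.sum_univ_two, ha, hb]
  inv_mem' {a} ha := by
    simp only [Set.mem_ofPred_eq] at ha ⊢
    rw [Matrix.GeneralLinearGroup.coe_inv, Matrix.inv_def, Matrix.adjugate_fin_two]
    simp [ha]

theorem mem_borelGL {g : GL (Fin 2) F} :
    g ∈ borelGL F ↔ (g : Matrix (Fin 2) (Fin 2) F) 1 0 = 0 := Iff.rfl

/-- The Borel subgroup of `SL(2,F)`. -/
def borel (F : Type*) [Field F] : Subgroup SL(2, F) :=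
  (borelGL F).comap SpecialLinearGroup.toGL

theorem mem_borel {g : SL(2, F)} : g ∈ borel F ↔ g.1 1 0 = 0 := Iff.rfl

/-- The unitriangular subgroup of `SL(2,F)`. -/
def uSub (F : Type*) [Field F] : Subgroup SL(2, F) := (uHom : Multiplicative F →* SL(2, F)).range

/-- The unitriangular subgroup of `GL(2,F)`. -/
def uSubGL (F : Type*) [Field F] : Subgroup (GL (Fin 2) F) :=
  (uSub F).map SpecialLinearGroup.toGL

theorem mem_uSub {g : SL(2, F)} : g ∈ uSub F ↔ ∃ x, g = u x :=
  ⟨fun ⟨x, hx⟩ => ⟨x.toAdd, hx.symm⟩, fun ⟨x, hx⟩ => ⟨Multiplicative.ofAdd x, hx.symm⟩⟩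

theorem mem_uSubGL {g : GL (Fin 2) F} :
    g ∈ uSubGL F ↔ ∃ x, g = SpecialLinearGroup.toGL (u x) := by
  rw [uSubGL, Subgroup.mem_map]
  constructor
  · rintro ⟨y, hy, rfl⟩
    obtain ⟨x, rfl⟩ := mem_uSub.1 hy
    exact ⟨x, rfl⟩
  · rintro ⟨x, rfl⟩
    exact ⟨u x, mem_uSub.2 ⟨x, rfl⟩, rfl⟩

theorem card_uSub : Nat.card (uSub F) = Nat.card F :=
  (Nat.card_congr (MonoidHom.ofInjective (uHom_injective (F := F))).toEquiv).symm.trans
    (Nat.card_congr Multiplicative.toAdd)

theorem card_uSubGL : Nat.card (uSubGL F) = Nat.card F := by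
  rw [← card_uSub (F := F)]
  exact Subgroup.card_map_of_injective SpecialLinearGroup.toGL_injective

/-- The key computation: an element moving a nontrivial `u x` into `U` is upper triangular. -/
theorem mem_borelGL_of_conj {g : GL (Fin 2) F} {x y : F} (hx : x ≠ 0)
    (h : g * SpecialLinearGroup.toGL (u x) = SpecialLinearGroup.toGL (u y) * g) :
    g ∈ borelGL F := by
  have h' := congrArg (fun m : GL (Fin 2) F => (m : Matrix (Fin 2) (Fin 2) F) 1 1) h
  simp [u, Matrix.mul_apply, Fin.sum_univ_two, hx] at h'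
  exact h'

theorem mem_borel_of_conj {g : SL(2, F)} {x y : F} (hx : x ≠ 0) (h : g * u x = u y * g) :
    g ∈ borel F :=
  mem_borelGL_of_conj hx (by rw [← map_mul, ← map_mul, h])

theorem borelGL_conj {g : GL (Fin 2) F} (hg : g ∈ borelGL F) (x : F) :
    ∃ y, g * SpecialLinearGroup.toGL (u x) * g⁻¹ = SpecialLinearGroup.toGL (u y) := by
  rw [mem_borelGL] at hg
  have hdet : (g : Matrix (Fin 2) (Fin 2) F) 0 0 * (g : Matrix (Fin 2) (Fin 2) F) 1 1 ≠ 0 := by
    have := g.det_ne_zero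
    rwa [Matrix.det_fin_two, hg, mul_zero, sub_zero] at this
  have h11 : (g : Matrix (Fin 2) (Fin 2) F) 1 1 ≠ 0 := right_ne_zero_of_mul hdet
  refine ⟨(g : Matrix (Fin 2) (Fin 2) F) 0 0 * x / (g : Matrix (Fin 2) (Fin 2) F) 1 1, ?_⟩
  rw [mul_inv_eq_iff_eq_mul]
  refine Units.ext ?_
  ext i j
  fin_cases i <;> fin_cases j <;> simp [u, Matrix.mul_apply, Fin.sum_univ_two, hg]
  field_simp
  ring

theorem normalizer_uSubGL [Finite F] :
    Subgroup.normalizer (uSubGL F : Set (GL (Fin 2) F)) = borelGL F := by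
  refine le_antisymm (fun g hg => ?_) (fun g hg => ?_)
  · obtain ⟨y, hy⟩ := mem_uSubGL.1 <|
      (Subgroup.mem_normalizer_iff.1 hg (SpecialLinearGroup.toGL (u 1))).1 (mem_uSubGL.2 ⟨1, rfl⟩)
    exact mem_borelGL_of_conj one_ne_zero (mul_inv_eq_iff_eq_mul.1 hy)
  · rw [Subgroup.mem_normalizer_iff]
    intro h
    constructor
    · intro hh
      obtain ⟨x, rfl⟩ := mem_uSubGL.1 hh
      exact mem_uSubGL.2 (borelGL_conj hg x)
    · intro hh
      obtain ⟨x, hx⟩ := mem_uSubGL.1 hh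
      obtain ⟨y, hy⟩ := borelGL_conj ((borelGL F).inv_mem hg) x
      refine mem_uSubGL.2 ⟨y, ?_⟩
      rw [← hy, ← hx]
      group

theorem normalizer_uSub [Finite F] :
    Subgroup.normalizer (uSub F : Set SL(2, F)) = borel F := by
  have hu : uSub F = (uSubGL F).comap SpecialLinearGroup.toGL :=
    (Subgroup.comap_map_eq_self_of_injective SpecialLinearGroup.toGL_injective _).symm
  ext g
  rw [borel, Subgroup.mem_comap, ← normalizer_uSubGL]
  simp only [Subgroup.mem_normalizer_iff, hu, Subgroup.mem_comap, map_mul, map_inv]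
  refine ⟨fun h a => ?_, fun h a => h _⟩
  have hB : SpecialLinearGroup.toGL g ∈ borelGL F := by
    obtain ⟨y, hy⟩ := mem_uSubGL.1 ((h (u 1)).1 (mem_uSubGL.2 ⟨1, rfl⟩))
    exact mem_borelGL_of_conj one_ne_zero (mul_inv_eq_iff_eq_mul.1 hy)
  rw [← normalizer_uSubGL] at hB
  exact Subgroup.mem_normalizer_iff.1 hB a

theorem coe_mk'' (A : Matrix (Fin 2) (Fin 2) F) (h : IsUnit A.det) :
    ((GeneralLinearGroup.mk'' A h : GL (Fin 2) F) : Matrix (Fin 2) (Fin 2) F) = A := rfl

/-- Entries of an element of `borelGL`. -/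
noncomputable def borelGLEquiv : borelGL F ≃ Fˣ × Fˣ × F where
  toFun g :=
    (⟨(g.1 : Matrix (Fin 2) (Fin 2) F) 0 0, ((g.1 : Matrix (Fin 2) (Fin 2) F) 0 0)⁻¹,
      mul_inv_cancel₀ (by
        have := g.1.det_ne_zero
        rw [Matrix.det_fin_two, g.2, mul_zero, sub_zero] at this
        exact left_ne_zero_of_mul this), inv_mul_cancel₀ (by
        have := g.1.det_ne_zero
        rw [Matrix.det_fin_two, g.2, mul_zero, sub_zero] at this
        exact left_ne_zero_of_mul this)⟩,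
     ⟨(g.1 : Matrix (Fin 2) (Fin 2) F) 1 1, ((g.1 : Matrix (Fin 2) (Fin 2) F) 1 1)⁻¹,
      mul_inv_cancel₀ (by
        have := g.1.det_ne_zero
        rw [Matrix.det_fin_two, g.2, mul_zero, sub_zero] at this
        exact right_ne_zero_of_mul this), inv_mul_cancel₀ (by
        have := g.1.det_ne_zero
        rw [Matrix.det_fin_two, g.2, mul_zero, sub_zero] at this
        exact right_ne_zero_of_mul this)⟩,
     (g.1 : Matrix (Fin 2) (Fin 2) F) 0 1)
  invFun z :=
    ⟨GeneralLinearGroup.mk'' !![(z.1 : F), z.2.2; 0, (z.2.1 : F)]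
      (by rw [Matrix.det_fin_two_of]; simp), by simp [mem_borelGL, coe_mk'']⟩
  left_inv g := by
    refine Subtype.ext (Units.ext ?_)
    have h := mem_borelGL.1 g.2
    ext i j
    fin_cases i <;> fin_cases j <;> simp [coe_mk'', h]
  right_inv z := by
    refine Prod.ext (Units.ext ?_) (Prod.ext (Units.ext ?_) ?_) <;>
      simp [coe_mk'']

theorem card_borelGL [Finite F] : Nat.card (borelGL F) = Nat.card F * (Nat.card F - 1) ^ 2 := by
  rw [Nat.card_congr borelGLEquiv, Nat.card_prod, Nat.card_prod, PSLCard.card_units_field]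
  ring

/-- Entries of an element of `borel`. -/
def borelEquiv : borel F ≃ Fˣ × F where
  toFun g :=
    (⟨g.1.1 0 0, g.1.1 1 1, (by
        have := det_eq g.1
        rwa [mem_borel.1 g.2, mul_zero, sub_zero] at this), (by
        have := det_eq g.1
        rwa [mem_borel.1 g.2, mul_zero, sub_zero, mul_comm] at this)⟩, g.1.1 0 1)
  invFun z := ⟨mk2 z.1 z.2 0 (z.1⁻¹ : Fˣ) (by simp), by simp [mem_borel]⟩
  left_inv g := by
    refine Subtype.ext (ext2 ?_ ?_ ?_ ?_) <;> simp [mem_borel.1 g.2]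
  right_inv z := by
    refine Prod.ext (Units.ext ?_) ?_ <;> simp

theorem card_borel [Finite F] : Nat.card (borel F) = Nat.card F * (Nat.card F - 1) := by
  rw [Nat.card_congr borelEquiv, Nat.card_prod, PSLCard.card_units_field]
  ring

/-! ### The Sylow subgroups for the characteristic -/

theorem card_GL2_eq [Finite F] :
    Nat.card (GL (Fin 2) F) =
      Nat.card F * ((Nat.card F - 1) * (Nat.card F ^ 2 - 1)) := by
  have : Nat.card F ^ 2 - Nat.card F = Nat.card F * (Nat.card F - 1) := by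
    rw [Nat.mul_sub, sq, mul_one]
  rw [PSLCard.card_GL2, this]
  ring

variable [Finite F] (p : ℕ) [hp : Fact p.Prime] [CharP F p]

/-- The standard Sylow `p`-subgroup of `SL(2,q)`. -/
theorem exists_sylow_eq_uSub : ∃ P : Sylow p SL(2, F), (P : Subgroup SL(2, F)) = uSub F := by
  obtain ⟨n, hn0, hn⟩ := card_field_eq (F := F) p
  obtain ⟨P, hP⟩ := IsPGroup.exists_le_sylow
    (IsPGroup.of_card (n := n) ((card_uSub (F := F)).trans hn) : IsPGroup p (uSub F))
  refine ⟨P, (Subgroup.eq_of_le_of_card_ge hP (le_of_eq ?_)).symm⟩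
  rw [card_uSub, hn]
  refine sylow_card_eq (b := Nat.card F ^ 2 - 1) (by rw [PSLCard.card_SL2, hn]) ?_ P
  rw [hn]
  exact not_dvd_pow_sub_one hp.out two_pos hn0

/-- The standard Sylow `p`-subgroup of `GL(2,q)`. -/
theorem exists_sylow_eq_uSubGL :
    ∃ P : Sylow p (GL (Fin 2) F), (P : Subgroup (GL (Fin 2) F)) = uSubGL F := by
  obtain ⟨n, hn0, hn⟩ := card_field_eq (F := F) p
  obtain ⟨P, hP⟩ := IsPGroup.exists_le_sylow
    (IsPGroup.of_card (n := n) ((card_uSubGL (F := F)).trans hn) : IsPGroup p (uSubGL F))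
  refine ⟨P, (Subgroup.eq_of_le_of_card_ge hP (le_of_eq ?_)).symm⟩
  rw [card_uSubGL, hn]
  refine sylow_card_eq (b := (Nat.card F - 1) * (Nat.card F ^ 2 - 1))
    (by rw [card_GL2_eq, hn]) (fun hd => ?_) P
  rw [hn] at hd
  rcases hp.out.dvd_mul.1 hd with h | h
  · exact not_dvd_pow_sub_one (j := 1) hp.out one_pos hn0 (by simpa using h)
  · exact not_dvd_pow_sub_one hp.out two_pos hn0 h

/-- Every Sylow `p`-subgroup of `GL(2,q)` is a conjugate of the unitriangular one. -/
theorem sylowGL_eq_conj (P : Sylow p (GL (Fin 2) F)) :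
    ∃ g : GL (Fin 2) F, (P : Subgroup (GL (Fin 2) F)) = MulAut.conj g • uSubGL F := by
  obtain ⟨P₀, h₀⟩ := exists_sylow_eq_uSubGL (F := F) p
  obtain ⟨g, rfl⟩ := MulAction.exists_smul_eq (GL (Fin 2) F) P₀ P
  exact ⟨g, by rw [Sylow.coe_subgroup_smul, h₀]⟩

/-- Every Sylow `p`-subgroup of `SL(2,q)` is a conjugate of the unitriangular one. -/
theorem sylow_eq_conj (P : Sylow p SL(2, F)) :
    ∃ g : SL(2, F), (P : Subgroup SL(2, F)) = MulAut.conj g • uSub F := by
  obtain ⟨P₀, h₀⟩ := exists_sylow_eq_uSub (F := F) p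
  obtain ⟨g, rfl⟩ := MulAction.exists_smul_eq SL(2, F) P₀ P
  exact ⟨g, by rw [Sylow.coe_subgroup_smul, h₀]⟩

theorem card_sylow_GL : Nat.card (Sylow p (GL (Fin 2) F)) = Nat.card F + 1 := by
  obtain ⟨P₀, h₀⟩ := exists_sylow_eq_uSubGL (F := F) p
  rw [P₀.card_eq_index_normalizer,
    show Subgroup.normalizer (P₀ : Set (GL (Fin 2) F)) = borelGL F by
      rw [← normalizer_uSubGL, ← h₀]; rfl]
  have h := (borelGL F).card_mul_index
  rw [card_borelGL, card_GL2_eq] at h
  have hq := PSLCard.one_lt_card F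
  have hpos : 0 < Nat.card F * (Nat.card F - 1) ^ 2 :=
    Nat.mul_pos (by omega) (pow_pos (by omega) 2)
  refine Nat.eq_of_mul_eq_mul_left hpos (h.trans ?_)
  have : Nat.card F ^ 2 - 1 = (Nat.card F + 1) * (Nat.card F - 1) := by
    rw [← Nat.sq_sub_sq, one_pow]
  rw [this]
  ring

theorem card_sylow_SL : Nat.card (Sylow p SL(2, F)) = Nat.card F + 1 := by
  obtain ⟨P₀, h₀⟩ := exists_sylow_eq_uSub (F := F) p
  rw [P₀.card_eq_index_normalizer,
    show Subgroup.normalizer (P₀ : Set SL(2, F)) = borel F by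
      rw [← normalizer_uSub, ← h₀]; rfl]
  have h := (borel F).card_mul_index
  rw [card_borel, PSLCard.card_SL2] at h
  have hq := PSLCard.one_lt_card F
  have hpos : 0 < Nat.card F * (Nat.card F - 1) := Nat.mul_pos (by omega) (by omega)
  refine Nat.eq_of_mul_eq_mul_left hpos (h.trans ?_)
  have : Nat.card F ^ 2 - 1 = (Nat.card F + 1) * (Nat.card F - 1) := by
    rw [← Nat.sq_sub_sq, one_pow]
  rw [this]
  ring

/-! ### Other primes -/

/-- Sylow `r`-subgroups, `r` odd and different from the characteristic, are cyclic. -/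
theorem isCyclic_sylow (r : ℕ) [hr : Fact r.Prime] (h2 : r ≠ 2) (hrp : r ≠ p)
    (R : Sylow r SL(2, F)) : IsCyclic (R : Subgroup SL(2, F)) := by
  by_cases htriv : Nontrivial (R : Subgroup SL(2, F))
  · have := R.2.center_nontrivial
    obtain ⟨⟨z, hz⟩, hz1⟩ := exists_ne (1 : Subgroup.center (R : Subgroup SL(2, F)))
    have hz1' : (z : SL(2, F)) ≠ 1 := fun h => hz1 (Subtype.ext (Subtype.ext h))
    obtain ⟨k, hk⟩ := IsPGroup.iff_orderOf.1 R.2 z
    rw [← Subgroup.orderOf_coe] at hk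
    have hcop : (orderOf (z : SL(2, F))).Coprime p := hk ▸
      Nat.Coprime.pow_left k ((Nat.coprime_primes hr.out hp.out).2 hrp)
    have hodd : Odd (orderOf (z : SL(2, F))) := hk ▸ (hr.out.odd_of_ne_two h2).pow
    have htr : tr (z : SL(2, F)) ^ 2 ≠ 4 := by
      intro h
      have hpp : ∀ A : SL(2, F), A ^ p = 1 → orderOf A ∣ p := fun A hA =>
        orderOf_dvd_of_pow_eq_one hA
      have : (tr (z : SL(2, F)) - 2) * (tr (z : SL(2, F)) + 2) = 0 := by linear_combination h
      rcases mul_eq_zero.1 this with e | e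
      · exact hz1' (orderOf_eq_one_iff.1 (Nat.eq_one_of_dvd_coprimes hcop dvd_rfl
          (hpp _ (pow_char p (sub_eq_zero.1 e)))))
      · have h1 := pow_char (A := -(z : SL(2, F))) p
          (by rw [tr_neg, eq_neg_of_add_eq_zero_left e, neg_neg])
        have h2' : (z : SL(2, F)) ^ (p * 2) = 1 := by
          rw [← Even.neg_pow (even_two.mul_left p), pow_mul, h1, one_pow]
        have hd := orderOf_dvd_of_pow_eq_one h2'
        have h3 : orderOf (z : SL(2, F)) ∣ 2 := hcop.dvd_of_dvd_mul_left hd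
        rcases (Nat.prime_two.eq_one_or_self_of_dvd _ h3) with h4 | h4
        · exact hz1' (orderOf_eq_one_iff.1 h4)
        · rw [h4] at hodd
          exact absurd hodd (by decide)
    have hle : (R : Subgroup SL(2, F)) ≤ Subgroup.centralizer {(z : SL(2, F))} := fun g hg => by
      rw [Subgroup.mem_centralizer_singleton_iff]
      exact congrArg Subtype.val ((Subgroup.mem_center_iff.1 hz ⟨g, hg⟩))
    have := (centralizer_semisimple htr).1
    exact isCyclic_of_injective (Subgroup.inclusion hle) (Subgroup.inclusion_injective hle)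
  · rw [not_nontrivial_iff_subsingleton] at htriv
    exact isCyclic_of_subsingleton

end Cfsg.Agent.PSL2Sylow
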