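import Mathlib
import Cfsg.Agent.Lib.Dickson
import Cfsg.Agent.Lib.PSL2Proj52
import Cfsg.Agent.Lib.PSL2Sylow

/-!
Dickson's theorem for `PSL(2,q)`.
-/

set_option autoImplicit false
set_option linter.unusedSectionVars false

open scoped MatrixGroups Classical
open Matrix OnePoint

namespace Cfsg.Agent.DicksonPSL

variable {F : Type*} [Field F]

/-- The divisor `gcd(2, q - 1)`. -/
noncomputable abbrev dd (F : Type*) : ℕ := Nat.gcd 2 (Nat.card F - 1)

/-- The projection. -/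
noncomputable abbrev proj : SL(2, F) →* ProjectiveSpecialLinearGroup (Fin 2) F :=
  QuotientGroup.mk' (Subgroup.center SL(2, F))

/-- The Borel subgroup of `PSL(2,q)`. -/
noncomputable def borelPSL (F : Type*) [Field F] :
    Subgroup (ProjectiveSpecialLinearGroup (Fin 2) F) :=
  (PSL2Sylow.borel F).map proj

theorem toPGL_proj_smul (A : SL(2, F)) (x : OnePoint F) :
    ProjectiveSpecialLinearGroup.toPGL (proj A) • x = SpecialLinearGroup.toGL A • x := rfl

theorem mem_borelPSL_iff (g : ProjectiveSpecialLinearGroup (Fin 2) F) :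
    g ∈ borelPSL F ↔ ProjectiveSpecialLinearGroup.toPGL g • (∞ : OnePoint F) = ∞ := by
  obtain ⟨A, rfl⟩ := QuotientGroup.mk'_surjective _ g
  rw [toPGL_proj_smul, smul_infty_eq_self_iff]
  constructor
  · rintro ⟨B, hB, h⟩
    have h' := congrArg (fun t => ProjectiveSpecialLinearGroup.toPGL t • (∞ : OnePoint F)) h
    simp only [toPGL_proj_smul] at h'
    rw [smul_infty_eq_self_iff.mpr (show SpecialLinearGroup.toGL B 1 0 = 0 from hB)] at h'
    exact smul_infty_eq_self_iff.mp h'.symm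
  · exact fun h => ⟨A, h, rfl⟩

/-- `PSL(2,q)` moves every point to `∞`. -/
theorem exists_toPGL_smul_eq_infty (x : OnePoint F) :
    ∃ g : ProjectiveSpecialLinearGroup (Fin 2) F,
      ProjectiveSpecialLinearGroup.toPGL g • x = ∞ := by
  cases x with
  | infty => exact ⟨1, by simp⟩
  | coe a =>
    refine ⟨proj (⟨!![0, -1; 1, -a], by simp [det_fin_two]⟩ : SL(2, F)), ?_⟩
    refine (toPGL_proj_smul _ _).trans ?_
    rw [smul_some_eq_ite, if_pos]
    show (!![0, -1; 1, -a] : Matrix (Fin 2) (Fin 2) F) 1 0 * a +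
      (!![0, -1; 1, -a] : Matrix (Fin 2) (Fin 2) F) 1 1 = 0
    simp

/-- A subgroup fixing a point is conjugate into the Borel subgroup. -/
theorem exists_conj_le_borel (H : Subgroup (ProjectiveSpecialLinearGroup (Fin 2) F))
    (x : OnePoint F) (hx : ∀ g ∈ H, ProjectiveSpecialLinearGroup.toPGL g • x = x) :
    ∃ a : ProjectiveSpecialLinearGroup (Fin 2) F,
      H.map (MulAut.conj a).toMonoidHom ≤ borelPSL F := by
  obtain ⟨a, ha⟩ := exists_toPGL_smul_eq_infty x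
  refine ⟨a, ?_⟩
  rintro _ ⟨g, hg, rfl⟩
  rw [mem_borelPSL_iff]
  simp only [MulEquiv.toMonoidHom_eq_coe, MonoidHom.coe_coe, MulAut.conj_apply, map_mul, map_inv,
    mul_smul]
  rw [show (ProjectiveSpecialLinearGroup.toPGL a)⁻¹ • (∞ : OnePoint F) = x by
    rw [inv_smul_eq_iff, ha], hx g hg, ha]

variable [Finite F] (p : ℕ) [hp : Fact p.Prime] [CharP F p]

/-- The Borel subgroup normalises a Sylow `p`-subgroup. -/
theorem exists_borelPSL_le_normalizer :
    ∃ P : Sylow p (ProjectiveSpecialLinearGroup (Fin 2) F), borelPSL F ≤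
      Subgroup.normalizer ((P : Subgroup (ProjectiveSpecialLinearGroup (Fin 2) F)) :
        Set (ProjectiveSpecialLinearGroup (Fin 2) F)) := by
  obtain ⟨P, hP⟩ := PSL2Sylow.exists_sylow_eq_uSub (F := F) p
  refine ⟨P.mapSurjective (QuotientGroup.mk'_surjective (Subgroup.center SL(2, F))), ?_⟩
  rw [borelPSL, ← PSL2Sylow.normalizer_uSub, ← hP]
  exact Subgroup.le_normalizer_map _

/-- A cyclic subgroup of `PSL(2,q)` of order prime to `p`. -/
theorem card_cyclic_dvd (C : Subgroup (ProjectiveSpecialLinearGroup (Fin 2) F)) [IsCyclic C]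
    (hC : ¬ p ∣ Nat.card C) :
    Nat.card C ∣ (Nat.card F + 1) / dd F ∨ Nat.card C ∣ (Nat.card F - 1) / dd F := by
  obtain ⟨g, hg⟩ := IsCyclic.exists_ofOrder_eq_natCard (α := C)
  rw [← hg, ← Subgroup.orderOf_coe]
  rw [← hg, ← Subgroup.orderOf_coe] at hC
  rcases PSL2Proj52.pow_cases p (g : ProjectiveSpecialLinearGroup (Fin 2) F) with h | h | h
  · rcases (Nat.dvd_prime hp.out).mp (orderOf_dvd_of_pow_eq_one h) with h1 | h1
    · left; rw [h1]; exact one_dvd _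
    · exact absurd (h1 ▸ dvd_rfl) hC
  · exact Or.inr (orderOf_dvd_of_pow_eq_one h)
  · exact Or.inl (orderOf_dvd_of_pow_eq_one h)

/-- **Dickson's theorem** for `PSL(2,q)`, with the data distinguishing the cases. -/
theorem dickson_psl_strong (H : Subgroup (ProjectiveSpecialLinearGroup (Fin 2) F)) :
    (IsCyclic H ∧ ¬ p ∣ Nat.card H ∧
      (Nat.card H ∣ (Nat.card F + 1) / dd F ∨ Nat.card H ∣ (Nat.card F - 1) / dd F)) ∨
    (p ∣ Nat.card H ∧ ∃ a : ProjectiveSpecialLinearGroup (Fin 2) F,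
      H.map (MulAut.conj a).toMonoidHom ≤ borelPSL F) ∨
    (∃ k, 2 ≤ k ∧ ¬ p ∣ k ∧
      (k ∣ (Nat.card F + 1) / dd F ∨ k ∣ (Nat.card F - 1) / dd F) ∧
      Nonempty (H ≃* DihedralGroup k)) ∨
    (¬ p ∣ Nat.card H ∧ Nonempty (H ≃* alternatingGroup (Fin 4))) ∨
    (¬ p ∣ Nat.card H ∧ Nonempty (H ≃* Equiv.Perm (Fin 4))) ∨
    ((¬ p ∣ Nat.card H ∨ p = 3) ∧ Nonempty (H ≃* alternatingGroup (Fin 5))) ∨
    (∃ R : Subfield F, 3 ≤ Nat.card R ∧
      (∃ c : Matrix.ProjGenLinGroup (Fin 2) F,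
        (H.map (ProjectiveSpecialLinearGroup.toPGL (n := Fin 2) (R := F))).map
          (MulAut.conj c).toMonoidHom ≤
        (Matrix.ProjGenLinGroup.map (n := Fin 2) R.subtype).range) ∧
      (Nonempty (H ≃* Matrix.ProjGenLinGroup (Fin 2) R) ∨
        (Odd (Nat.card R) ∧ Nonempty (H ≃* Matrix.ProjectiveSpecialLinearGroup (Fin 2) R)))) := by
  set J := H.map (ProjectiveSpecialLinearGroup.toPGL (n := Fin 2) (R := F)) with hJ
  let e : H ≃* J := H.equivMapOfInjective _ ProjectiveSpecialLinearGroup.toPGL_injective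
  have hc : Nat.card H = Nat.card J := Nat.card_congr e.toEquiv
  rcases Dickson.dickson_pgl_strong p J with ⟨hcyc, hp'⟩ | ⟨x, hx, hp'⟩ |
      ⟨C, hcyc, hp', -, h2, ⟨ed⟩⟩ | ⟨hn, ⟨i⟩⟩ | ⟨hn, ⟨i⟩⟩ | ⟨hn, ⟨i⟩⟩ | ⟨R, h3, hconj, h⟩
  · have : IsCyclic H := isCyclic_of_surjective e.symm e.symm.surjective
    exact Or.inl ⟨this, hc ▸ hp', card_cyclic_dvd p H (hc ▸ hp')⟩
  · exact Or.inr (Or.inl ⟨hc ▸ hp', exists_conj_le_borel H x fun g hg => hx ⟨g, hg, rfl⟩⟩)
  · refine Or.inr (Or.inr (Or.inl ⟨_, h2, hp', ?_, ⟨e.trans ed⟩⟩))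
    let C' := (C.map e.symm.toMonoidHom).map H.subtype
    let e' : C ≃* C' := (C.equivMapOfInjective _ e.symm.injective).trans
      ((C.map e.symm.toMonoidHom).equivMapOfInjective _ H.subtype_injective)
    have : IsCyclic C' := isCyclic_of_surjective e' e'.surjective
    have hcard : Nat.card C' = Nat.card C := (Nat.card_congr e'.toEquiv).symm
    exact hcard ▸ card_cyclic_dvd p C' (hcard ▸ hp')
  · exact Or.inr (Or.inr (Or.inr (Or.inl ⟨hc ▸ hn, ⟨e.trans i⟩⟩)))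
  · exact Or.inr (Or.inr (Or.inr (Or.inr (Or.inl ⟨hc ▸ hn, ⟨e.trans i⟩⟩))))
  · exact Or.inr (Or.inr (Or.inr (Or.inr (Or.inr (Or.inl ⟨hc ▸ hn, ⟨e.trans i⟩⟩)))))
  · refine Or.inr (Or.inr (Or.inr (Or.inr (Or.inr (Or.inr ⟨R, h3, hconj, ?_⟩)))))
    rcases h with ⟨⟨i⟩⟩ | ⟨ho, ⟨i⟩⟩
    · exact Or.inl ⟨e.trans i⟩
    · exact Or.inr ⟨ho, ⟨e.trans i⟩⟩

/-- **Dickson's theorem** for `PSL(2,q)`. -/
theorem dickson_psl (H : Subgroup (ProjectiveSpecialLinearGroup (Fin 2) F)) :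
    (IsCyclic H ∧ ¬ p ∣ Nat.card H ∧
      (Nat.card H ∣ (Nat.card F + 1) / dd F ∨ Nat.card H ∣ (Nat.card F - 1) / dd F)) ∨
    (p ∣ Nat.card H ∧ ∃ a : ProjectiveSpecialLinearGroup (Fin 2) F,
      H.map (MulAut.conj a).toMonoidHom ≤ borelPSL F) ∨
    (∃ k, 2 ≤ k ∧ ¬ p ∣ k ∧
      (k ∣ (Nat.card F + 1) / dd F ∨ k ∣ (Nat.card F - 1) / dd F) ∧
      Nonempty (H ≃* DihedralGroup k)) ∨
    Nonempty (H ≃* alternatingGroup (Fin 4)) ∨ Nonempty (H ≃* Equiv.Perm (Fin 4)) ∨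
    Nonempty (H ≃* alternatingGroup (Fin 5)) ∨
    (∃ R : Subfield F, 3 ≤ Nat.card R ∧
      (Nonempty (H ≃* Matrix.ProjGenLinGroup (Fin 2) R) ∨
        (Odd (Nat.card R) ∧ Nonempty (H ≃* Matrix.ProjectiveSpecialLinearGroup (Fin 2) R)))) := by
  rcases dickson_psl_strong p H with h | h | h | ⟨-, h⟩ | ⟨-, h⟩ | ⟨-, h⟩ | ⟨R, h3, -, h⟩
  · exact Or.inl h
  · exact Or.inr (Or.inl h)
  · exact Or.inr (Or.inr (Or.inl h))
  · exact Or.inr (Or.inr (Or.inr (Or.inl h)))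
  · exact Or.inr (Or.inr (Or.inr (Or.inr (Or.inl h))))
  · exact Or.inr (Or.inr (Or.inr (Or.inr (Or.inr (Or.inl h)))))
  · exact Or.inr (Or.inr (Or.inr (Or.inr (Or.inr (Or.inr ⟨R, h3, h⟩)))))

/-- A subfield transported to a `GaloisField`. -/
theorem exists_galoisField_equiv (R : Subfield F) :
    ∃ (a m : ℕ), 0 < a ∧ Nat.card (GaloisField p a) = Nat.card R ∧
      Nat.card R ^ m = Nat.card F := by
  cases nonempty_fintype R
  have : CharP R p := (RingHom.charP_iff R.subtype R.subtype.injective p).mpr inferInstance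
  obtain ⟨a, -, ha⟩ := FiniteField.card R p
  refine ⟨a, Module.finrank R F, a.pos, ?_, (Module.natCard_eq_pow_finrank (K := R) (V := F)).symm⟩
  rw [GaloisField.card p _ a.ne_zero, Nat.card_eq_fintype_card, ha]

end Cfsg.Agent.DicksonPSL
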