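import Mathlib
import Cfsg.Agent.Lib.DicksonPSL
import Cfsg.Agent.Lib.DicksonSmall
import Cfsg.Agent.Lib.PSLCard

/-!
Torus normalisers in `PSL(2,q)` and the subgroups above them.
-/

set_option autoImplicit false
set_option linter.unusedSectionVars false

open scoped MatrixGroups Classical
open Matrix hiding inv_zpow zpow_add zpow_neg mul_inv_rev inv_zero zpow_mul
open OnePoint

namespace Cfsg.Agent.DicksonTorus

open Cfsg.Agent.DicksonPSL Cfsg.Agent.DicksonLine

section generic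

variable {G : Type*} [Group G]

/-- The subgroup generated by a cyclic group and an involution inverting it. -/
theorem exists_dihedral_sub {g h : G} {k : ℕ} (hk : orderOf g = k) (hk0 : 0 < k)
    (hgh : h * g * h⁻¹ = g⁻¹) (hh : h * h = 1) (hnot : h ∉ Subgroup.zpowers g) :
    ∃ D : Subgroup G, g ∈ D ∧ h ∈ D ∧ Nat.card D = 2 * k ∧
      Nonempty (D ≃* DihedralGroup k) := by
  have hinv : h⁻¹ = h := inv_eq_of_mul_eq_one_right hh
  have hz : ∀ i : ℤ, h * g ^ i = g ^ (-i) * h := by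
    intro i
    rw [← mul_inv_eq_iff_eq_mul, ← conj_zpow, hgh, inv_zpow, zpow_neg]
  let D : Subgroup G :=
    { carrier := {x | ∃ i : ℤ, x = g ^ i ∨ x = g ^ i * h}
      one_mem' := ⟨0, Or.inl (zpow_zero g).symm⟩
      mul_mem' := by
        rintro _ _ ⟨i, rfl | rfl⟩ ⟨j, rfl | rfl⟩
        · exact ⟨i + j, Or.inl (zpow_add g i j).symm⟩
        · exact ⟨i + j, Or.inr (by rw [zpow_add, mul_assoc])⟩
        · exact ⟨i + -j, Or.inr (by rw [mul_assoc, hz, ← mul_assoc, ← zpow_add])⟩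
        · exact ⟨i + -j, Or.inl (by
            rw [mul_assoc, ← mul_assoc h, hz, mul_assoc (g ^ (-j)), hh, mul_one, ← zpow_add])⟩
      inv_mem' := by
        rintro _ ⟨i, rfl | rfl⟩
        · exact ⟨-i, Or.inl (zpow_neg g i).symm⟩
        · exact ⟨i, Or.inr (by rw [mul_inv_rev, hinv, ← zpow_neg, hz, neg_neg])⟩ }
  have hfg : IsOfFinOrder g := orderOf_pos_iff.mp (hk ▸ hk0)
  have hgD : g ∈ D := ⟨1, Or.inl (zpow_one g).symm⟩
  have hhD : h ∈ D := ⟨0, Or.inr (by simp)⟩
  let C : Subgroup D := Subgroup.zpowers (⟨g, hgD⟩ : D)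
  have hCmem : ∀ x : D, x ∈ C ↔ (x : G) ∈ Subgroup.zpowers g := by
    intro x
    simp only [C, Subgroup.mem_zpowers_iff]
    refine exists_congr fun i => ?_
    rw [Subtype.ext_iff, SubgroupClass.coe_zpow]
  have hidx : C.index = 2 := by
    rw [Subgroup.index_eq_two_iff]
    refine ⟨⟨h, hhD⟩, fun b => ?_⟩
    rw [hCmem, hCmem, Subgroup.coe_mul]
    obtain ⟨i, hb | hb⟩ := b.2
    · refine Or.inr ⟨hb ▸ Subgroup.zpow_mem_zpowers g i, fun e => hnot ?_⟩
      exact (Subgroup.mul_mem_cancel_left _ (hb ▸ Subgroup.zpow_mem_zpowers g i)).mp e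
    · refine Or.inl ⟨?_, fun e => hnot ?_⟩
      · rw [hb, mul_assoc, hh, mul_one]; exact Subgroup.zpow_mem_zpowers g i
      · rw [hb] at e
        exact (Subgroup.mul_mem_cancel_left _ (Subgroup.zpow_mem_zpowers g i)).mp e
  have hcardC : Nat.card C = k := by
    rw [Nat.card_zpowers, ← Subgroup.orderOf_coe]; exact hk
  have hDfin : Finite D := by
    have : (D : Set G).Finite := by
      refine ((hfg.finite_zpowers).union (hfg.finite_zpowers.image (· * h))).subset ?_
      rintro _ ⟨i, rfl | rfl⟩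
      · exact Or.inl (Subgroup.zpow_mem_zpowers g i)
      · exact Or.inr ⟨_, Subgroup.zpow_mem_zpowers g i, rfl⟩
    exact this.to_subtype
  have : IsCyclic C := Subgroup.isCyclic_zpowers _
  obtain ⟨e⟩ := DicksonSmall.iso_dihedral hidx (by
    intro x hx
    rw [hCmem] at hx
    obtain ⟨i, hi | hi⟩ := x.2
    · exact absurd (hi ▸ Subgroup.zpow_mem_zpowers g i) hx
    · refine Subtype.ext ?_
      rw [Subgroup.coe_mul, hi, mul_assoc, ← mul_assoc h, hz, mul_assoc (g ^ (-i)), hh, mul_one,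
        ← zpow_add, add_neg_cancel, zpow_zero]
      rfl)
  refine ⟨D, hgD, hhD, ?_, ⟨hcardC ▸ e⟩⟩
  rw [← C.card_mul_index, hidx, hcardC, mul_comm]

/-- In a dihedral group an element of order at least three is a rotation. -/
theorem orderOf_dvd_of_dihedral {n : ℕ} (x : DihedralGroup n) (hx : 3 ≤ orderOf x) :
    orderOf x ∣ n := by
  cases x with
  | r i =>
    refine orderOf_dvd_of_pow_eq_one ?_
    rw [DihedralGroup.r_pow, ZMod.natCast_self, mul_zero, DihedralGroup.r_zero]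
  | sr i =>
    rw [DihedralGroup.orderOf_sr] at hx
    omega

end generic

variable {F : Type*} [Field F] [Finite F] (p : ℕ) [hp : Fact p.Prime] [CharP F p]

theorem card_pos_dd : 0 < dd F := Nat.gcd_pos_of_pos_left _ two_pos

/-- The order of the Borel subgroup. -/
theorem card_borel : dd F * Nat.card (borelPSL F) = Nat.card F * (Nat.card F - 1) := by
  rw [← PSL2Sylow.card_borel (F := F), dd, ← PSLCard.card_center_SL 2]
  set φ := (proj (F := F)).comp (PSL2Sylow.borel F).subtype with hφ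
  have hr : φ.range = borelPSL F := by
    rw [hφ, MonoidHom.range_comp, Subgroup.range_subtype]; rfl
  have hk : φ.ker = (Subgroup.center SL(2, F)).subgroupOf (PSL2Sylow.borel F) := by
    rw [hφ]
    ext x
    simp [Subgroup.mem_subgroupOf]
  have hle : Subgroup.center SL(2, F) ≤ PSL2Sylow.borel F := fun z hz => by
    rcases (PSL2Elements.mem_center_iff z).mp hz with rfl | rfl <;>
      simp [PSL2Sylow.mem_borel]
  rw [← φ.ker.card_mul_index, Subgroup.index_ker, hr, hk,
    Nat.card_congr (Subgroup.subgroupOfEquivOfLe hle).toEquiv]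

/-- A subgroup fixing a point has order dividing the order of the Borel subgroup. -/
theorem card_dvd_borel {H : Subgroup (ProjectiveSpecialLinearGroup (Fin 2) F)}
    {a : ProjectiveSpecialLinearGroup (Fin 2) F}
    (ha : H.map (MulAut.conj a).toMonoidHom ≤ borelPSL F) :
    dd F * Nat.card H ∣ Nat.card F * (Nat.card F - 1) := by
  rw [← card_borel]
  refine Nat.mul_dvd_mul_left _ ?_
  rw [Nat.card_congr (H.equivMapOfInjective (MulAut.conj a).toMonoidHom (MulAut.conj a).injective).toEquiv]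
  exact Subgroup.card_dvd_of_le ha

/-- In the Borel subgroup only elements of order dividing `2p` are inverted by conjugation. -/
theorem borel_inverted {g h : ProjectiveSpecialLinearGroup (Fin 2) F} (hg : g ∈ borelPSL F)
    (hh : h ∈ borelPSL F) (hgh : h * g * h⁻¹ = g⁻¹) : g ^ (2 * p) = 1 := by
  apply ProjectiveSpecialLinearGroup.toPGL_injective
  rw [map_pow, map_one]
  rw [mem_borelPSL_iff] at hg hh
  obtain ⟨m, b, hm⟩ := exists_aff hg
  obtain ⟨n, c, hn⟩ := exists_aff hh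
  have e := congrArg ProjectiveSpecialLinearGroup.toPGL hgh
  rw [map_mul, map_mul, map_inv, map_inv, hm, hn, mul_inv_eq_iff_eq_mul, aff_inv, aff_mul,
    aff_mul] at e
  have hmm : m * m = 1 := by
    have e1 := (aff_inj e).1
    have : m = m⁻¹ := mul_left_cancel (e1.trans (mul_comm m⁻¹ n))
    exact mul_eq_one_iff_eq_inv.mpr this
  rw [hm, pow_mul, sq, aff_mul, hmm]
  generalize ((m : F) * b + b) = t
  have hpow : ∀ j : ℕ, (aff 1 t) ^ j = aff 1 ((j : F) * t) := by
    intro j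
    induction j with
    | zero => simp [aff_one]
    | succ j ih => rw [pow_succ, ih, aff_mul, one_mul]; congr 1; push_cast; ring
  rw [hpow, CharP.cast_eq_zero, zero_mul, aff_one]

/-- The square of an element of `PGL(2)` comes from `PSL(2)`. -/
theorem sq_mem_range_toPGL {R : Type*} [Field R] (g : Matrix.ProjGenLinGroup (Fin 2) R) :
    g * g ∈ (ProjectiveSpecialLinearGroup.toPGL (n := Fin 2) (R := R)).range := by
  induction g using Matrix.ProjGenLinGroup.induction_on with | mk A =>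
  have hd : A.val.det ≠ 0 := A.det_ne_zero
  let B : SL(2, R) := ⟨A.val.det⁻¹ • (A.val * A.val), by
    rw [Matrix.det_smul, Matrix.det_mul, Fintype.card_fin]; field_simp⟩
  refine ⟨QuotientGroup.mk B, ?_⟩
  rw [ProjectiveSpecialLinearGroup.toPGL_mk, ← map_mul, Matrix.ProjGenLinGroup.mk_eq_mk_iff]
  refine ⟨Units.mk0 _ hd, Units.ext ?_⟩
  ext i j
  simp [B, Matrix.mul_diagonal, mul_comm, hd]
  show A.val.det * (A.val.det⁻¹ • (A.val * A.val)) i j = _
  simp [hd]

/-- Orders of elements of `PGL(2,r)` prime to the characteristic. -/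
theorem orderOf_PGL_le {R : Type*} [Field R] [Finite R] [CharP R p]
    (g : Matrix.ProjGenLinGroup (Fin 2) R) (h3 : 3 ≤ orderOf g) (hco : ¬ p ∣ orderOf g) :
    orderOf g ≤ Nat.card R + 1 := by
  obtain ⟨x, hx⟩ := sq_mem_range_toPGL g
  have key : ∀ n, x ^ n = 1 → orderOf g ∣ 2 * n := fun n hn => orderOf_dvd_of_pow_eq_one (by
    rw [pow_mul, sq, ← hx, ← map_pow, hn, map_one])
  have h1 := PSLCard.one_lt_card R
  rcases PSL2Proj52.pow_cases p x with h | h | h
  · have hc : Nat.Coprime (orderOf g) p := (hp.out.coprime_iff_not_dvd.mpr hco).symm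
    have := Nat.le_of_dvd two_pos (hc.dvd_of_dvd_mul_right (key p h))
    omega
  all_goals rcases PSL2Proj52.gcd_eq (F := R) with ⟨ho, hg⟩ | ⟨he, hg⟩ <;> rw [hg] at h
  all_goals have hdvd := key _ h
  · obtain ⟨j, hj⟩ := ho
    rw [hj, show 2 * j + 1 - 1 = 2 * j by omega, Nat.mul_div_cancel_left _ two_pos] at hdvd
    have := Nat.le_of_dvd (by omega) hdvd
    omega
  · rw [Nat.div_one] at hdvd
    have hodd : Nat.Coprime (orderOf g) 2 := by
      have : CharP R p := inferInstance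
      have h2 : p = 2 := by
        have h20 : (2 : R) = 0 := PSL2Proj52.two_eq_of_even he
        exact ((Nat.prime_dvd_prime_iff_eq hp.out Nat.prime_two).mp
          ((CharP.cast_eq_zero_iff R p 2).mp (by exact_mod_cast h20)))
      exact (Nat.prime_two.coprime_iff_not_dvd.mpr (h2 ▸ hco)).symm
    have := Nat.le_of_dvd (by omega) (hodd.dvd_of_dvd_mul_left hdvd)
    omega
  · obtain ⟨j, hj⟩ := ho
    rw [hj, show 2 * j + 1 + 1 = 2 * (j + 1) by omega, Nat.mul_div_cancel_left _ two_pos] at hdvd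
    have := Nat.le_of_dvd (by omega) hdvd
    omega
  · rw [Nat.div_one] at hdvd
    have hodd : Nat.Coprime (orderOf g) 2 := by
      have h2 : p = 2 := by
        have h20 : (2 : R) = 0 := PSL2Proj52.two_eq_of_even he
        exact ((Nat.prime_dvd_prime_iff_eq hp.out Nat.prime_two).mp
          ((CharP.cast_eq_zero_iff R p 2).mp (by exact_mod_cast h20)))
      exact (Nat.prime_two.coprime_iff_not_dvd.mpr (h2 ▸ hco)).symm
    exact Nat.le_of_dvd (by omega) (hodd.dvd_of_dvd_mul_left hdvd)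

include p hp in
/-- A cyclic torus and an involution inverting it. -/
theorem exists_torus {N : ℕ} (hN : N = Nat.card F - 1 ∨ N = Nat.card F + 1) (h3 : 3 ≤ N) :
    ∃ g h : ProjectiveSpecialLinearGroup (Fin 2) F, orderOf g = N / dd F ∧
      h * g * h⁻¹ = g⁻¹ ∧ h * h = 1 ∧ h ∉ Subgroup.zpowers g := by
  obtain ⟨A, hA⟩ : ∃ A : SL(2, F), orderOf A = N := by
    rcases hN with rfl | rfl
    · obtain ⟨a, ha⟩ := PSL2Proj52.exists_orderOf_card_sub_one (F := F); exact ⟨_, ha⟩
    · exact PSL2Proj52.exists_orderOf_card_add_one (F := F)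
  have hcop : Nat.Coprime N p := by
    refine (hp.out.coprime_iff_not_dvd.mpr fun h => ?_).symm
    obtain ⟨n, hn0, hn⟩ := PSL2Sylow.card_field_eq (F := F) p
    have hpq : p ∣ Nat.card F := hn ▸ dvd_pow_self p (by omega)
    have h1 := PSLCard.one_lt_card F
    rcases hN with rfl | rfl
    · have := Nat.dvd_sub hpq h
      rw [Nat.sub_sub_self h1.le] at this
      exact hp.out.one_lt.ne' (Nat.dvd_one.mp this)
    · have := Nat.dvd_sub h hpq
      rw [Nat.add_sub_cancel_left] at this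
      exact hp.out.one_lt.ne' (Nat.dvd_one.mp this)
  have hnot2 : ∀ j, A ^ j = 1 → j ∣ 2 * p → False := by
    intro j hj hj2
    have h1 := (hA ▸ orderOf_dvd_of_pow_eq_one hj : N ∣ j).trans hj2
    have := Nat.le_of_dvd two_pos (hcop.dvd_of_dvd_mul_right h1)
    omega
  have htr : PSL2Elements.tr A ^ 2 ≠ 4 := by
    intro h
    have h' : (PSL2Elements.tr A - 2) * (PSL2Elements.tr A + 2) = 0 := by linear_combination h
    rcases mul_eq_zero.mp h' with e | e
    · exact hnot2 p (PSL2Elements.pow_char p (sub_eq_zero.mp e)) (dvd_mul_left p 2)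
    · refine hnot2 (2 * p) ?_ dvd_rfl
      have := PSL2Elements.pow_char p (A := -A)
        (by rw [PSL2Elements.tr_neg, eq_neg_of_add_eq_zero_left e, neg_neg])
      rw [mul_comm 2 p, pow_mul]
      rcases p.even_or_odd with hev | hod
      · rw [hev.neg_pow] at this; rw [this, one_pow]
      · rw [hod.neg_pow] at this; rw [← neg_sq, this, one_pow]
  obtain ⟨h, hh⟩ := isConj_iff.mp (PSL2Elements.isConj_inv htr)
  have hA2 : A * A ≠ 1 := fun e => hnot2 2 (by rw [sq, e]) (dvd_mul_right 2 p)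
  have hne : h * A ≠ A * h := by
    intro e
    rw [e, mul_inv_cancel_right] at hh
    exact hA2 (by nth_rw 2 [hh]; exact mul_inv_cancel A)
  have htrh : PSL2Elements.tr h = 0 := by
    have e1 : h * h * A = A * (h * h) := by
      have hhA : h * A = A⁻¹ * h := mul_inv_eq_iff_eq_mul.mp hh
      have hhAi : h * A⁻¹ = A * h := by
        have := congrArg Inv.inv hh
        simp only [mul_inv_rev, inv_inv] at this
        rw [← mul_inv_eq_iff_eq_mul]
        simpa [mul_assoc] using this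
      rw [mul_assoc, hhA, ← mul_assoc, hhAi, mul_assoc]
    have e2 := congrArg (fun X : SL(2, F) => X.1) e1
    simp only [Matrix.SpecialLinearGroup.coe_mul, PSL2Elements.sq_eq, sub_mul, smul_mul_assoc,
      one_mul, mul_sub, mul_smul_comm, mul_one, sub_left_inj] at e2
    by_contra hc
    exact hne (Subtype.ext (smul_right_injective _ hc e2))
  have hh2 : h * h = -1 := by
    apply Subtype.ext
    rw [Matrix.SpecialLinearGroup.coe_mul, PSL2Elements.sq_eq, htrh, zero_smul, zero_sub]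
    simp
  refine ⟨PSL2Proj52.π A, PSL2Proj52.π h, ?_, ?_, ?_, ?_⟩
  · refine PSL2Proj52.orderOf_π ?_ hA
    rcases hN with rfl | rfl
    · exact PSL2Proj52.gcd_dvd.1
    · exact PSL2Proj52.gcd_dvd.2
  · rw [← map_inv, ← map_mul, ← map_mul, hh, map_inv]
  · rw [← map_mul, hh2, PSL2Proj52.π_eq_one]
    exact Or.inr rfl
  · intro hm
    obtain ⟨i, hi⟩ := Subgroup.mem_zpowers_iff.mp hm
    rw [← map_zpow, PSL2Proj52.π_eq_iff] at hi
    refine hne ?_
    rcases hi with e | e
    · rw [← e]; exact ((Commute.refl A).zpow_left i).eq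
    · have : h = -(A ^ i) := by rw [e, neg_neg]
      rw [this, neg_mul, mul_neg, ((Commute.refl A).zpow_left i).eq]

theorem A4_not_inverted : ∀ x y : alternatingGroup (Fin 4), y * x * y⁻¹ = x⁻¹ → x * x = 1 := by
  decide +kernel

theorem A4_pow_cases : ∀ x : alternatingGroup (Fin 4), x ^ 2 = 1 ∨ x ^ 3 = 1 := by decide +kernel

theorem S4_pow_cases : ∀ x : Equiv.Perm (Fin 4), x ^ 3 = 1 ∨ x ^ 4 = 1 := by decide +kernel

theorem A5_pow_cases : ∀ x : alternatingGroup (Fin 5), x ^ 2 = 1 ∨ x ^ 3 = 1 ∨ x ^ 5 = 1 := by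
  decide +kernel

/-- The subgroups containing an element of order `k ≥ 3` prime to `p` and an element inverting
it. -/
theorem over_dihedral {H : Subgroup (ProjectiveSpecialLinearGroup (Fin 2) F)}
    {g h : ProjectiveSpecialLinearGroup (Fin 2) F} (hg : g ∈ H) (hh : h ∈ H)
    (hgh : h * g * h⁻¹ = g⁻¹) (h3 : 3 ≤ orderOf g) (hco : ¬ p ∣ orderOf g) :
    (∃ k', orderOf g ∣ k' ∧ (k' ∣ (Nat.card F + 1) / dd F ∨ k' ∣ (Nat.card F - 1) / dd F) ∧
      Nat.card H = 2 * k') ∨
    (orderOf g ≤ 4 ∧ Nonempty (H ≃* Equiv.Perm (Fin 4))) ∨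
    (orderOf g ≤ 5 ∧ Nonempty (H ≃* alternatingGroup (Fin 5))) ∨
    (∃ r m, 3 ≤ r ∧ r ^ m = Nat.card F ∧ orderOf g ≤ r + 1 ∧
      (Nat.card H = r * (r ^ 2 - 1) ∨ (Odd r ∧ 2 * Nat.card H = r * (r ^ 2 - 1)))) := by
  have hgg : g ≠ g⁻¹ := fun e => by
    have : g ^ 2 = 1 := by rw [sq]; nth_rw 2 [e]; exact mul_inv_cancel g
    have := Nat.le_of_dvd two_pos (orderOf_dvd_of_pow_eq_one this)
    omega
  have hk : orderOf (⟨g, hg⟩ : H) = orderOf g := (Subgroup.orderOf_coe (⟨g, hg⟩ : H)).symm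
  have hgh' : (⟨h, hh⟩ : H) * ⟨g, hg⟩ * (⟨h, hh⟩ : H)⁻¹ = (⟨g, hg⟩ : H)⁻¹ := Subtype.ext hgh
  rcases dickson_psl p H with ⟨hc, -⟩ | ⟨-, a, ha⟩ | ⟨k', h2, -, hk', ⟨e⟩⟩ | ⟨⟨e⟩⟩ | ⟨⟨e⟩⟩ |
      ⟨⟨e⟩⟩ | ⟨R, hr, hR⟩
  · exfalso
    obtain ⟨z, hz⟩ := hc.exists_zpow_surjective
    obtain ⟨i, hi⟩ := hz ⟨g, hg⟩
    obtain ⟨j, hj⟩ := hz ⟨h, hh⟩
    dsimp only at hi hj
    rw [← hi, ← hj, ← _root_.zpow_add, add_comm, _root_.zpow_add, mul_inv_cancel_right, hi] at hgh'
    exact hgg (congrArg Subtype.val hgh')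
  · exfalso
    have mg := ha ⟨g, hg, rfl⟩
    have mh := ha ⟨h, hh, rfl⟩
    have e := borel_inverted p mg mh (by rw [← map_mul, ← map_inv, ← map_mul, hgh, map_inv])
    rw [← map_pow] at e
    have e' : g ^ (2 * p) = 1 := (MulAut.conj a).injective (e.trans (map_one _).symm)
    have hc : Nat.Coprime (orderOf g) p := (hp.out.coprime_iff_not_dvd.mpr hco).symm
    have := Nat.le_of_dvd two_pos (hc.dvd_of_dvd_mul_right (orderOf_dvd_of_pow_eq_one e'))
    omega
  · refine Or.inl ⟨k', ?_, hk', ?_⟩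
    · rw [← hk, ← e.orderOf_eq]
      exact orderOf_dvd_of_dihedral _ (by rw [e.orderOf_eq, hk]; exact h3)
    · rw [Nat.card_congr e.toEquiv, DihedralGroup.nat_card]
  · exfalso
    have h1 := A4_not_inverted (e ⟨g, hg⟩) (e ⟨h, hh⟩)
      (by rw [← map_mul, ← map_inv, ← map_mul, hgh', map_inv])
    have h2 := Nat.le_of_dvd two_pos (orderOf_dvd_of_pow_eq_one (x := e ⟨g, hg⟩) (sq (e ⟨g, hg⟩) ▸ h1))
    rw [e.orderOf_eq, hk] at h2
    omega
  · refine Or.inr (Or.inl ⟨?_, ⟨e⟩⟩)
    rw [← hk, ← e.orderOf_eq]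
    rcases S4_pow_cases (e ⟨g, hg⟩) with h | h <;>
      have := Nat.le_of_dvd (by norm_num) (orderOf_dvd_of_pow_eq_one h) <;> omega
  · refine Or.inr (Or.inr (Or.inl ⟨?_, ⟨e⟩⟩))
    rw [← hk, ← e.orderOf_eq]
    rcases A5_pow_cases (e ⟨g, hg⟩) with h | h | h <;>
      have := Nat.le_of_dvd (by norm_num) (orderOf_dvd_of_pow_eq_one h) <;> omega
  · obtain ⟨-, m, -, -, hm⟩ := exists_galoisField_equiv p R
    have : CharP R p := (RingHom.charP_iff R.subtype R.subtype.injective p).mpr inferInstance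
    refine Or.inr (Or.inr (Or.inr ⟨Nat.card R, m, hr, hm, ?_, ?_⟩))
    · rcases hR with ⟨⟨e⟩⟩ | ⟨-, ⟨e⟩⟩
      · rw [← hk, ← e.orderOf_eq]
        exact orderOf_PGL_le p _ (by rw [e.orderOf_eq, hk]; exact h3)
          (by rw [e.orderOf_eq, hk]; exact hco)
      · rw [← hk, ← e.orderOf_eq,
          ← orderOf_injective _ ProjectiveSpecialLinearGroup.toPGL_injective (e ⟨g, hg⟩)]
        refine orderOf_PGL_le p _ ?_ ?_ <;>
          rw [orderOf_injective _ ProjectiveSpecialLinearGroup.toPGL_injective (e ⟨g, hg⟩),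
            e.orderOf_eq, hk]
        · exact h3
        · exact hco
    · rcases hR with ⟨⟨e⟩⟩ | ⟨ho, ⟨e⟩⟩
      · exact Or.inl (by rw [Nat.card_congr e.toEquiv, PSLCard.card_PGL2])
      · refine Or.inr ⟨ho, ?_⟩
        rw [Nat.card_congr e.toEquiv, ← PSLCard.card_PSL2_mul (F := R)]
        congr 1
        obtain ⟨j, hj⟩ := ho
        exact (Nat.gcd_eq_left ⟨j, by omega⟩).symm

end Cfsg.Agent.DicksonTorus
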