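import Mathlib
import Cfsg.Agent.Lib.DicksonTorus

/-!
Maximality of the torus normalisers in `PSL(2,q)`.
-/

set_option autoImplicit false
set_option linter.unusedSectionVars false

open scoped MatrixGroups

namespace Cfsg.Agent.DicksonDihedralMax

open Cfsg.Agent.DicksonPSL Cfsg.Agent.DicksonTorus

variable {F : Type*} [Field F] [Finite F] (p : ℕ) [hp : Fact p.Prime] [CharP F p]

theorem card_ne_six : Nat.card F ≠ 6 := by
  intro h
  cases nonempty_fintype F
  have h2 : IsPrimePow (6 : ℕ) := by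
    rw [← h, Nat.card_eq_fintype_card]; exact Fintype.isPrimePow_card_of_field
  obtain ⟨r, -, hr⟩ := (isPrimePow_iff_unique_prime_dvd.mp h2)
  exact absurd ((hr 2 ⟨Nat.prime_two, by norm_num⟩).trans (hr 3 ⟨Nat.prime_three, by norm_num⟩).symm)
    (by norm_num)

/-- Facts about the numbers `(q ± 1)/d`. -/
theorem arith_facts :
    (Odd (Nat.card F) ∧ dd F = 2 ∧ 2 * ((Nat.card F + 1) / dd F) = Nat.card F + 1 ∧
      2 * ((Nat.card F - 1) / dd F) = Nat.card F - 1) ∨
    (Even (Nat.card F) ∧ dd F = 1 ∧ (Nat.card F + 1) / dd F = Nat.card F + 1 ∧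
      (Nat.card F - 1) / dd F = Nat.card F - 1) := by
  rcases PSL2Proj52.gcd_eq (F := F) with ⟨ho, hd⟩ | ⟨he, hd⟩
  · left
    refine ⟨ho, hd, ?_, ?_⟩ <;> rw [show dd F = 2 from hd] <;> obtain ⟨j, hj⟩ := ho <;> omega
  · exact Or.inr ⟨he, hd, by rw [show dd F = 1 from hd, Nat.div_one],
      by rw [show dd F = 1 from hd, Nat.div_one]⟩

include p hp in
theorem not_dvd_torus {k : ℕ}
    (hk : k ∣ (Nat.card F + 1) / dd F ∨ k ∣ (Nat.card F - 1) / dd F) : ¬ p ∣ k := by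
  intro hpk
  obtain ⟨n, hn0, hn⟩ := PSL2Sylow.card_field_eq (F := F) p
  have hpq : p ∣ Nat.card F := hn ▸ dvd_pow_self p (by omega)
  have h1 := PSLCard.one_lt_card F
  rcases hk with hk | hk
  · have h : p ∣ Nat.card F + 1 :=
      (hpk.trans hk).trans (Nat.div_dvd_of_dvd PSL2Proj52.gcd_dvd.2)
    exact hp.out.one_lt.ne' (Nat.dvd_one.mp ((Nat.dvd_add_right hpq).mp h))
  · have h : p ∣ Nat.card F - 1 :=
      (hpk.trans hk).trans (Nat.div_dvd_of_dvd PSL2Proj52.gcd_dvd.1)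
    have := Nat.dvd_sub hpq h
    rw [Nat.sub_sub_self h1.le] at this
    exact hp.out.one_lt.ne' (Nat.dvd_one.mp this)

theorem card_not_top {H : Subgroup (Matrix.ProjectiveSpecialLinearGroup (Fin 2) F)} (hH : H ≠ ⊤) :
    dd F * Nat.card H ≠ Nat.card F * (Nat.card F ^ 2 - 1) := by
  intro h
  rw [← PSLCard.card_PSL2_mul (F := F)] at h
  exact hH (Subgroup.eq_top_of_card_eq H (Nat.eq_of_mul_eq_mul_left card_pos_dd h))

theorem card_psl_small {n : ℕ} (hn : n = 4 ∨ n = 5) (hq : Nat.card F = n) :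
    Nat.card (Matrix.ProjectiveSpecialLinearGroup (Fin 2) F) = 60 := by
  rw [PSLCard.card_PSL2, hq]
  rcases hn with rfl | rfl <;> rfl

include p hp in
/-- The subgroups above a torus normaliser. -/
theorem card_eq_of_le (h2 : Nat.card F ≠ 2) {g h : Matrix.ProjectiveSpecialLinearGroup (Fin 2) F} {k : ℕ}
    (hg : orderOf g = k) (hgh : h * g * h⁻¹ = g⁻¹) (h3 : 3 ≤ k)
    (hk : (k = (Nat.card F + 1) / dd F ∧ Nat.card F ≠ 7 ∧ Nat.card F ≠ 9) ∨
      (k = (Nat.card F - 1) / dd F ∧ Nat.card F ∉ ({7, 9, 11} : Finset ℕ)))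
    {H : Subgroup (Matrix.ProjectiveSpecialLinearGroup (Fin 2) F)} (hgH : g ∈ H) (hhH : h ∈ H)
    (hH : H ≠ ⊤) : Nat.card H = 2 * k := by
  have hco : ¬ p ∣ orderOf g := by
    rw [hg]
    refine not_dvd_torus p (F := F) ?_
    rcases hk with ⟨rfl, -⟩ | ⟨rfl, -⟩
    · exact Or.inl dvd_rfl
    · exact Or.inr dvd_rfl
  have h1 := PSLCard.one_lt_card F
  have h6 := card_ne_six (F := F)
  simp only [Finset.mem_insert, Finset.mem_singleton, not_or] at hk
  have hsmall : ∀ m, Nat.card H = m → m = 24 ∨ m = 60 → Nat.card F = 4 ∨ Nat.card F = 5 →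
      False := by
    intro m hm hm' hq
    have hG := card_psl_small hq (rfl : Nat.card F = Nat.card F)
    have hd := Subgroup.card_subgroup_dvd_card H
    rw [hG, hm] at hd
    rcases hm' with rfl | rfl
    · norm_num at hd
    · exact hH (Subgroup.eq_top_of_card_eq H (hm.trans hG.symm))
  rcases over_dihedral p hgH hhH hgh (hg.symm ▸ h3) hco with
    ⟨k', hkk', hk', hc⟩ | ⟨h4, ⟨e⟩⟩ | ⟨h5, ⟨e⟩⟩ | ⟨r, m, hr, hm, hle, hc⟩
  · rw [hc, hg] at *
    congr 1
    have hpos : 0 < (Nat.card F - 1) / dd F ∧ 0 < (Nat.card F + 1) / dd F := by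
      rcases arith_facts (F := F) with ⟨-, -, e1, e2⟩ | ⟨-, -, e1, e2⟩ <;> omega
    rcases hk with ⟨rfl, -⟩ | ⟨rfl, -⟩ <;> rcases hk' with hk' | hk'
    · exact Nat.dvd_antisymm hk' hkk'
    · have := Nat.le_of_dvd hpos.1 (hkk'.trans hk')
      rcases arith_facts (F := F) with ⟨-, -, e1, e2⟩ | ⟨-, -, e1, e2⟩ <;> omega
    · have hd := hkk'.trans hk'
      have := Nat.dvd_sub hd (dvd_refl ((Nat.card F - 1) / dd F))
      have := Nat.le_of_dvd ?_ this
      · rcases arith_facts (F := F) with ⟨-, -, e1, e2⟩ | ⟨-, -, e1, e2⟩ <;> omega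
      · rcases arith_facts (F := F) with ⟨-, -, e1, e2⟩ | ⟨-, -, e1, e2⟩ <;> omega
    · exact Nat.dvd_antisymm hk' hkk'
  · refine (hsmall 24 (by simp [Nat.card_congr e.toEquiv, Nat.card_perm]; rfl) (Or.inl rfl) ?_).elim
    rw [hg] at h4
    rcases hk with ⟨hk, hn7, hn9⟩ | ⟨hk, hn7, hn9, hn11⟩ <;>
      rcases arith_facts (F := F) with ⟨⟨j, hj⟩, -, e1, e2⟩ | ⟨⟨j, hj⟩, -, e1, e2⟩ <;> omega
  · refine (hsmall 60 (by
      rw [Nat.card_congr e.toEquiv, nat_card_alternatingGroup]; simp [Nat.factorial]) (Or.inr rfl)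
      ?_).elim
    rw [hg] at h5
    rcases hk with ⟨hk, hn7, hn9⟩ | ⟨hk, hn7, hn9, hn11⟩ <;>
      rcases arith_facts (F := F) with ⟨⟨j, hj⟩, -, e1, e2⟩ | ⟨⟨j, hj⟩, -, e1, e2⟩ <;> omega
  · exfalso
    rw [hg] at hle
    rcases m with _ | _ | m
    · simp at hm; omega
    · rw [pow_one] at hm
      subst hm
      have hd := Subgroup.card_subgroup_dvd_card H
      have hG := PSLCard.card_PSL2_mul (F := F)
      have hdd : dd F = 1 ∨ dd F = 2 := (arith_facts (F := F)).elim (fun h => Or.inr h.2.1)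
        (fun h => Or.inl h.2.1)
      have hne := card_not_top hH
      have hle' := Nat.le_of_dvd Nat.card_pos hd
      rcases hc with hc | ⟨ho, hc⟩
      · rcases hdd with h | h <;> simp only [dd] at h hne <;> rw [h] at hG hne <;> omega
      · have hdd2 : dd F = 2 := by
          rcases arith_facts (F := F) with ⟨-, h, -⟩ | ⟨he, -⟩
          · exact h
          · exact absurd he (Nat.not_even_iff_odd.mpr ho)
        rw [hdd2] at hne
        omega
    · have hr2 : r * r ≤ Nat.card F := by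
        rw [← hm, ← sq]; exact Nat.pow_le_pow_right (by omega) (by omega)
      rcases Nat.lt_or_ge r 4 with h | h
      · have hr3 : r = 3 := by omega
        subst hr3
        rcases Nat.eq_zero_or_pos m with rfl | hm0
        · norm_num at hm; omega
        · have : 27 ≤ Nat.card F := by
            rw [← hm]; exact (Nat.pow_le_pow_right (n := 3) (by norm_num) (by omega : 3 ≤ m + 1 + 1))
          rcases arith_facts (F := F) with ⟨-, -, e1, e2⟩ | ⟨-, -, e1, e2⟩ <;> omega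
      · have : 4 * r ≤ r * r := Nat.mul_le_mul h le_rfl
        rcases arith_facts (F := F) with ⟨-, -, e1, e2⟩ | ⟨-, -, e1, e2⟩ <;> omega

include p hp in
/-- A maximal dihedral subgroup. -/
theorem exists_coatom (h2 : Nat.card F ≠ 2) {N : ℕ}
    (hN : (N = Nat.card F + 1 ∧ Nat.card F ≠ 7 ∧ Nat.card F ≠ 9) ∨
      (N = Nat.card F - 1 ∧ Nat.card F ∉ ({7, 9, 11} : Finset ℕ)))
    (h3 : 3 ≤ N / dd F) :
    ∃ D : Subgroup (Matrix.ProjectiveSpecialLinearGroup (Fin 2) F),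
      IsCoatom D ∧ Nonempty (D ≃* DihedralGroup (N / dd F)) := by
  obtain ⟨g, h, hg, hgh, hh, hnot⟩ := exists_torus p (F := F) (N := N)
    (hN.elim (fun h => Or.inr h.1) (fun h => Or.inl h.1)) (h3.trans (Nat.div_le_self _ _))
  obtain ⟨D, hgD, hhD, hcard, hiso⟩ := exists_dihedral_sub hg (by omega) hgh hh hnot
  have hk : (N / dd F = (Nat.card F + 1) / dd F ∧ Nat.card F ≠ 7 ∧ Nat.card F ≠ 9) ∨
      (N / dd F = (Nat.card F - 1) / dd F ∧ Nat.card F ∉ ({7, 9, 11} : Finset ℕ)) :=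
    hN.imp (fun h' : N = Nat.card F + 1 ∧ Nat.card F ≠ 7 ∧ Nat.card F ≠ 9 =>
      ⟨h'.1 ▸ rfl, h'.2⟩) (fun h' : N = Nat.card F - 1 ∧ Nat.card F ∉ ({7, 9, 11} : Finset ℕ) =>
      ⟨h'.1 ▸ rfl, h'.2⟩)
  refine ⟨D, ⟨?_, fun H hlt => ?_⟩, hiso⟩
  · intro e
    have h1 := PSLCard.one_lt_card F
    have hG := PSLCard.card_PSL2_mul (F := F)
    rw [e, Subgroup.card_top] at hcard
    rw [hcard] at hG
    have hNq : dd F * (N / dd F) ≤ Nat.card F + 1 := by
      refine (Nat.mul_div_le _ _).trans ?_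
      rcases hN with ⟨rfl, -⟩ | ⟨rfl, -⟩ <;> omega
    have hsq : Nat.card F ^ 2 - 1 = (Nat.card F + 1) * (Nat.card F - 1) := by
      rw [← Nat.sq_sub_sq, one_pow]
    have h4 : Nat.card F * (Nat.card F ^ 2 - 1) ≤ 2 * (Nat.card F + 1) := by
      calc Nat.card F * (Nat.card F ^ 2 - 1) = dd F * (2 * (N / dd F)) := hG.symm
        _ = 2 * (dd F * (N / dd F)) := by ring
        _ ≤ 2 * (Nat.card F + 1) := Nat.mul_le_mul_left 2 hNq
    rw [hsq] at h4
    have : Nat.card F * (Nat.card F - 1) ≤ 2 := by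
      refine Nat.le_of_mul_le_mul_left ?_ (show 0 < Nat.card F + 1 by omega)
      exact (le_of_eq (by ring)).trans (h4.trans (le_of_eq (by ring)))
    have : 3 * 2 ≤ Nat.card F * (Nat.card F - 1) := Nat.mul_le_mul (by omega) (by omega)
    omega
  · by_contra hne
    have hc := card_eq_of_le p h2 hg hgh h3 hk (hlt.le hgD) (hlt.le hhD) hne
    exact hlt.ne (Subgroup.eq_of_le_of_card_ge hlt.le (by rw [hc, hcard]))

end Cfsg.Agent.DicksonDihedralMax
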