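import Mathlib
import Cfsg.Agent.Lib.DicksonDihedralMax
import Cfsg.Agent.Lib.PSLSimple

/-!
Which cyclic, Borel and dihedral subgroups of `PSL(2,q)` can be maximal.
-/

set_option autoImplicit false
set_option linter.unusedSectionVars false

open scoped MatrixGroups

namespace Cfsg.Agent.DicksonMaximal

open Cfsg.Agent.DicksonPSL Cfsg.Agent.DicksonTorus Cfsg.Agent.DicksonDihedralMax

section generic

variable {G : Type*} [Group G] [Finite G]

/-- In a finite group it suffices that conjugation maps the subgroup into itself. -/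
theorem mem_normalizer_of {H : Subgroup G} {x : G} (h : ∀ y ∈ H, x * y * x⁻¹ ∈ H) :
    x ∈ Subgroup.normalizer (H : Set G) := by
  rw [Subgroup.mem_normalizer_iff_map_conj_eq]
  refine Subgroup.eq_of_le_of_card_ge ?_ (le_of_eq ?_)
  · rintro _ ⟨y, hy, rfl⟩
    exact h y hy
  · exact Nat.card_congr (H.equivMapOfInjective _ (MulAut.conj x).injective).toEquiv

variable [IsSimpleGroup G]

/-- A nontrivial subgroup normalised by a maximal subgroup containing it has that normaliser. -/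
theorem normalizer_eq {M N : Subgroup G} (hM : IsCoatom M) (hN : N ≠ ⊥) (hle : N ≤ M)
    (hn : M ≤ Subgroup.normalizer (N : Set G)) : Subgroup.normalizer (N : Set G) = M := by
  refine ((hM.le_iff.mp hn).resolve_left fun e => ?_)
  rcases (Subgroup.normalizer_eq_top_iff.mp e).eq_bot_or_eq_top with h | h
  · exact hN h
  · exact hM.1 (eq_top_iff.mpr (h ▸ hle))

theorem small_not_coatom {M : Subgroup G} (hM : IsCoatom M) (h4 : 4 ∣ Nat.card G)
    (h4' : 4 < Nat.card G) : ¬ Nat.card M ≤ 2 := by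
  intro h
  have : Fact (Nat.Prime 2) := ⟨Nat.prime_two⟩
  have hpos : 0 < Nat.card M := Nat.card_pos
  obtain ⟨n, hn, hn2⟩ : ∃ n, Nat.card M = 2 ^ n ∧ n < 2 := by
    rcases (show Nat.card M = 1 ∨ Nat.card M = 2 by omega) with e | e
    · exact ⟨0, e, by omega⟩
    · exact ⟨1, e, by omega⟩
  obtain ⟨K, hK, hMK⟩ := Sylow.exists_subgroup_card_pow_succ (p := 2) (n := n)
    ((pow_dvd_pow 2 (by omega : n + 1 ≤ 2)).trans h4) hn
  rcases hM.le_iff.mp hMK with e | e
  · rw [e, Subgroup.card_top] at hK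
    have := Nat.pow_le_pow_right (n := 2) two_pos (show n + 1 ≤ 2 by omega)
    omega
  · rw [e, hn, pow_succ] at hK
    have : 0 < 2 ^ n := by positivity
    omega

theorem klein_not_coatom {M : Subgroup G} (hM : IsCoatom M) (h8 : 8 < Nat.card G) :
    Nat.card M ≠ 4 := by
  intro h4
  have : Fact (Nat.Prime 2) := ⟨Nat.prime_two⟩
  by_cases hdvd : 2 ^ (2 + 1) ∣ Nat.card G
  · obtain ⟨K, hK, hMK⟩ := Sylow.exists_subgroup_card_pow_succ (p := 2) (n := 2) hdvd h4
    rcases hM.le_iff.mp hMK with e | e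
    · rw [e, Subgroup.card_top] at hK; omega
    · rw [e, h4] at hK; omega
  have hpg : IsPGroup 2 M := IsPGroup.of_card (n := 2) h4
  obtain ⟨P, hP⟩ := hpg.exists_le_sylow
  have hPM : (P : Subgroup G) = M := by
    obtain ⟨b, hb⟩ := IsPGroup.iff_card.mp P.2
    refine (Subgroup.eq_of_le_of_card_ge hP ?_).symm
    rw [h4, hb]
    by_contra hb2
    refine hdvd ((pow_dvd_pow 2 (?_ : 2 + 1 ≤ b)).trans (hb ▸ Subgroup.card_subgroup_dvd_card _))
    by_contra hb3
    exact hb2 (Nat.pow_le_pow_right two_pos (by omega : b ≤ 2))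
  have hcomm : ∀ a b : M, a * b = b * a := IsPGroup.commutative_of_card_eq_prime_sq (p := 2) h4
  have hN : Subgroup.normalizer ((P : Subgroup G) : Set G) ≤
      Subgroup.centralizer ((P : Subgroup G) : Set G) := by
    rw [hPM, normalizer_eq hM (fun e => by rw [e, Subgroup.card_bot] at h4; omega) le_rfl
      Subgroup.le_normalizer]
    intro x hx
    rw [Subgroup.mem_centralizer_iff]
    exact fun y hy => congrArg Subtype.val (hcomm ⟨y, hy⟩ ⟨x, hx⟩)
  have hc := (MonoidHom.ker_transferSylow_isComplement' P hN).card_mul_card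
  have hPc : Nat.card (P : Subgroup G) = 4 := by rw [hPM, h4]
  rw [hPc] at hc
  rcases ((MonoidHom.transferSylow P hN).normal_ker).eq_bot_or_eq_top with e | e <;> rw [e] at hc
  · rw [Subgroup.card_bot] at hc; omega
  · rw [Subgroup.card_top] at hc; omega

/-- A maximal subgroup which is a Sylow subgroup lies in no larger proper subgroup up to
conjugation. -/
theorem sylow_not_coatom {r a : ℕ} [Fact r.Prime] {M S : Subgroup G} (hM : IsCoatom M)
    (hMc : Nat.card M = r ^ a) (hG : ¬ r ^ (a + 1) ∣ Nat.card G) (hS : r ^ a ∣ Nat.card S)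
    (hne : Nat.card S ≠ r ^ a) (htop : S ≠ ⊤) : False := by
  obtain ⟨K, hK⟩ := Sylow.exists_subgroup_card_pow_prime r hS
  have hsyl : ∀ Q : Subgroup G, Nat.card Q = r ^ a → ∃ P : Sylow r G, (P : Subgroup G) = Q := by
    intro Q hQ
    obtain ⟨P, hP⟩ := (IsPGroup.of_card (p := r) (n := a) hQ).exists_le_sylow
    refine ⟨P, (Subgroup.eq_of_le_of_card_ge hP ?_).symm⟩
    obtain ⟨b, hb⟩ := IsPGroup.iff_card.mp P.2
    rw [hQ, hb]
    refine Nat.pow_le_pow_right (Fact.out : r.Prime).pos ?_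
    by_contra hb2
    exact hG ((pow_dvd_pow r (by omega : a + 1 ≤ b)).trans (hb ▸ Subgroup.card_subgroup_dvd_card _))
  obtain ⟨P, hP⟩ := hsyl M hMc
  have hK' : Nat.card (K.map S.subtype) = r ^ a := by
    rw [← Nat.card_congr (K.equivMapOfInjective _ S.subtype_injective).toEquiv, hK]
  obtain ⟨Q, hQ⟩ := hsyl _ hK'
  obtain ⟨x, hx⟩ := MulAction.exists_smul_eq G Q P
  have hle : M ≤ S.map (MulAut.conj x).toMonoidHom := by
    rw [← hP, ← hx, Sylow.coe_subgroup_smul, hQ]
    rintro _ ⟨y, hy, rfl⟩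
    obtain ⟨z, -, rfl⟩ := hy
    exact ⟨z, z.2, rfl⟩
  have hcard : Nat.card (S.map (MulAut.conj x).toMonoidHom) = Nat.card S :=
    (Nat.card_congr (S.equivMapOfInjective _ (MulAut.conj x).injective).toEquiv).symm
  rcases hM.le_iff.mp hle with e | e
  · refine htop (Subgroup.eq_top_of_card_eq S ?_)
    rw [← hcard, e, Subgroup.card_top]
  · exact hne (by rw [← hcard, e, hMc])

/-- A maximal subgroup of order `2r` normalising a Sylow subgroup of order `r` is not maximal if
some larger proper subgroup has an element of order `r` inverted by an involution outside it. -/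
theorem dihedral_not_coatom {r : ℕ} [Fact r.Prime] {M S : Subgroup G} (hM : IsCoatom M)
    (hMc : Nat.card M = 2 * r) (hr : r ≠ 2) (hG : ¬ r ^ 2 ∣ Nat.card G) {g : G} (hg : orderOf g = r)
    (hnorm : Subgroup.normalizer (Subgroup.zpowers g : Set G) = M) {g' h' : G} (hgS : g' ∈ S)
    (hhS : h' ∈ S) (hg' : orderOf g' = r) (hinv : h' * g' * h'⁻¹ = g'⁻¹) (hh : orderOf h' = 2)
    (hne : Nat.card S ≠ 2 * r) (htop : S ≠ ⊤) : False := by
  have hsyl : ∀ t : G, orderOf t = r → ∃ P : Sylow r G, (P : Subgroup G) = Subgroup.zpowers t := by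
    intro t ht
    have hc : Nat.card (Subgroup.zpowers t) = r ^ 1 := by rw [Nat.card_zpowers, ht, pow_one]
    obtain ⟨P, hP⟩ := (IsPGroup.of_card (p := r) (n := 1) hc).exists_le_sylow
    refine ⟨P, (Subgroup.eq_of_le_of_card_ge hP ?_).symm⟩
    obtain ⟨b, hb⟩ := IsPGroup.iff_card.mp P.2
    rw [hc, hb]
    refine Nat.pow_le_pow_right (Fact.out : r.Prime).pos ?_
    by_contra hb2
    exact hG ((pow_dvd_pow r (by omega : 2 ≤ b)).trans (hb ▸ Subgroup.card_subgroup_dvd_card _))
  obtain ⟨P, hP⟩ := hsyl g hg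
  obtain ⟨Q, hQ⟩ := hsyl g' hg'
  obtain ⟨x, hx⟩ := MulAction.exists_smul_eq G Q P
  have hx' : (Subgroup.zpowers g').map (MulAut.conj x).toMonoidHom = Subgroup.zpowers g := by
    rw [← hP, ← hx, Sylow.coe_subgroup_smul, hQ]
    rfl
  set S' := S.map (MulAut.conj x).toMonoidHom with hS'
  set h := x * h' * x⁻¹ with hhdef
  have hhS' : h ∈ S' := ⟨h', hhS, rfl⟩
  have hgS' : Subgroup.zpowers g ≤ S' := by
    rw [← hx']; exact Subgroup.map_mono (Subgroup.zpowers_le.mpr hgS)
  have hzM : Subgroup.zpowers g ≤ M := hnorm ▸ Subgroup.le_normalizer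
  have hhM : h ∈ M := by
    rw [← hnorm]
    have : h' ∈ Subgroup.normalizer (Subgroup.zpowers g' : Set G) := by
      refine mem_normalizer_of ?_
      intro y hy
      obtain ⟨i, rfl⟩ := Subgroup.mem_zpowers_iff.mp hy
      rw [← conj_zpow, hinv]
      exact Subgroup.zpow_mem _ (Subgroup.inv_mem _ (Subgroup.mem_zpowers g')) i
    rw [← hx']
    exact Subgroup.le_normalizer_map _ ⟨h', this, rfl⟩
  have hh2 : orderOf h = 2 := by
    rw [hhdef]
    exact ((MulAut.conj x).orderOf_eq h').trans hh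
  set L := M ⊓ S' with hL
  have hd1 : r ∣ Nat.card L := by
    rw [← hg, ← Nat.card_zpowers]
    exact Subgroup.card_dvd_of_le (le_inf hzM hgS')
  have hd2 : 2 ∣ Nat.card L := by
    rw [← hh2, ← Nat.card_zpowers]
    exact Subgroup.card_dvd_of_le (Subgroup.zpowers_le.mpr ⟨hhM, hhS'⟩)
  have hLM : L = M := by
    refine Subgroup.eq_of_le_of_card_ge inf_le_left (hMc ▸ Nat.le_of_dvd Nat.card_pos ?_)
    exact ((Nat.coprime_primes Nat.prime_two (Fact.out : r.Prime)).mpr hr.symm).mul_dvd_of_dvd_of_dvd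
      hd2 hd1
  have hcard : Nat.card S' = Nat.card S :=
    (Nat.card_congr (S.equivMapOfInjective _ (MulAut.conj x).injective).toEquiv).symm
  rcases hM.le_iff.mp (hLM ▸ inf_le_right : M ≤ S') with e | e
  · refine htop (Subgroup.eq_top_of_card_eq S ?_)
    rw [← hcard, e, Subgroup.card_top]
  · exact hne (by rw [← hcard, e, hMc])

end generic

theorem commute_rotation {n : ℕ} (hn : 3 ≤ n) {x : DihedralGroup n}
    (h : x * DihedralGroup.r 1 = DihedralGroup.r 1 * x) : ∃ i, x = DihedralGroup.r i := by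
  cases x with
  | r i => exact ⟨i, rfl⟩
  | sr i =>
    exfalso
    rw [DihedralGroup.sr_mul_r, DihedralGroup.r_mul_sr, DihedralGroup.sr.injEq] at h
    have h2 : ((2 : ℕ) : ZMod n) = 0 := by push_cast; linear_combination h
    have := Nat.le_of_dvd two_pos ((ZMod.natCast_eq_zero_iff 2 n).mp h2)
    omega

variable {F : Type*} [Field F] [Finite F] (p : ℕ) [hp : Fact p.Prime] [CharP F p]

include p hp in
theorem simple (h4 : 4 ≤ Nat.card F) :
    IsSimpleGroup (Matrix.ProjectiveSpecialLinearGroup (Fin 2) F) :=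
  PSLSimple.isSimpleGroup_PSL_fin' le_rfl (fun _ => h4)

theorem four_dvd_card (h4 : 4 ≤ Nat.card F) :
    4 ∣ Nat.card (Matrix.ProjectiveSpecialLinearGroup (Fin 2) F) ∧
      8 < Nat.card (Matrix.ProjectiveSpecialLinearGroup (Fin 2) F) := by
  have hG : dd F * Nat.card (Matrix.ProjectiveSpecialLinearGroup (Fin 2) F) =
      Nat.card F * (Nat.card F ^ 2 - 1) := PSLCard.card_PSL2_mul (F := F)
  have hsq : Nat.card F ^ 2 - 1 = (Nat.card F + 1) * (Nat.card F - 1) := by
    rw [← Nat.sq_sub_sq, one_pow]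
  have hbig : 4 * 15 ≤ Nat.card F * (Nat.card F ^ 2 - 1) :=
    Nat.mul_le_mul h4 (by have := Nat.pow_le_pow_left h4 2; omega)
  refine ⟨?_, ?_⟩
  · rcases arith_facts (F := F) with ⟨⟨j, hj⟩, hd, -⟩ | ⟨he, hd, -⟩
    · rw [hd, hsq, hj, show 2 * j + 1 + 1 = 2 * (j + 1) by ring, show 2 * j + 1 - 1 = 2 * j by omega] at hG
      obtain ⟨c, hc⟩ := Nat.even_mul_succ_self j
      have e : 2 * Nat.card (Matrix.ProjectiveSpecialLinearGroup (Fin 2) F) =
          2 * (4 * (c * (2 * j + 1))) := by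
        rw [hG]; linear_combination (4 * (2 * j + 1)) * hc
      exact ⟨_, Nat.eq_of_mul_eq_mul_left two_pos e⟩
    · rw [hd, one_mul] at hG
      rw [hG]
      refine dvd_mul_of_dvd_left ?_ _
      obtain ⟨q, hq⟩ := CharP.exists F
      have : Fact q.Prime := ⟨CharP.char_is_prime F q⟩
      obtain ⟨n, hn0, hn⟩ := PSL2Sylow.card_field_eq (F := F) q
      have hq2 : q = 2 := ((Nat.prime_dvd_prime_iff_eq Nat.prime_two Fact.out).mp
        (Nat.prime_two.dvd_of_dvd_pow (hn ▸ even_iff_two_dvd.mp he))).symm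
      subst hq2
      rw [hn]
      refine (show 4 = 2 ^ 2 from rfl) ▸ pow_dvd_pow 2 ?_
      by_contra h
      have : n = 1 := by omega
      subst this
      rw [pow_one] at hn; omega
  · rw [← hG] at hbig
    have hd2 : dd F ≤ 2 := Nat.le_of_dvd two_pos (Nat.gcd_dvd_left _ _)
    have := Nat.mul_le_mul_right (Nat.card (Matrix.ProjectiveSpecialLinearGroup (Fin 2) F)) hd2
    omega

include p hp in
/-- An element of order at least three prime to `p` lies in a cyclic torus and is inverted. -/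
theorem exists_torus_elt {g : Matrix.ProjectiveSpecialLinearGroup (Fin 2) F}
    (h3 : 3 ≤ orderOf g) (hco : ¬ p ∣ orderOf g) :
    (∃ h, h * g * h⁻¹ = g⁻¹) ∧
      ∃ K x, (K = (Nat.card F + 1) / dd F ∨ K = (Nat.card F - 1) / dd F) ∧ orderOf g ∣ K ∧
        orderOf x = K ∧ Commute x g := by
  obtain ⟨A, rfl⟩ := PSL2Proj52.π_surjective g
  have hcp : Nat.Coprime (orderOf (PSL2Proj52.π A)) p := (hp.out.coprime_iff_not_dvd.mpr hco).symm
  have hnot : ∀ B : SL(2, F), PSL2Elements.tr B = 2 → PSL2Proj52.π B ≠ PSL2Proj52.π A := by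
    intro B hB e
    have h1 : orderOf (PSL2Proj52.π A) ∣ p := orderOf_dvd_of_pow_eq_one
      (by rw [← e, ← map_pow, PSL2Elements.pow_char p hB, map_one])
    have := Nat.eq_one_of_dvd_coprimes hcp dvd_rfl h1
    omega
  have htr : PSL2Elements.tr A ^ 2 ≠ 4 := by
    intro h
    have h' : (PSL2Elements.tr A - 2) * (PSL2Elements.tr A + 2) = 0 := by linear_combination h
    rcases mul_eq_zero.mp h' with e | e
    · exact hnot A (sub_eq_zero.mp e) rfl
    · exact hnot (-A) (by rw [PSL2Elements.tr_neg, eq_neg_of_add_eq_zero_left e, neg_neg])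
        (PSL2Proj52.π_neg A)
  refine ⟨?_, ?_⟩
  · obtain ⟨h, hh⟩ := isConj_iff.mp (PSL2Elements.isConj_inv htr)
    exact ⟨PSL2Proj52.π h, by rw [← map_inv, ← map_mul, ← map_mul, hh, map_inv]⟩
  rcases PSL2Elements.trichotomy A with ⟨y, hy | hy⟩ | ⟨a, -, hc⟩ | hns
  · exact absurd (by rw [PSL2Elements.tr_eq_of_isConj hy, PSL2Elements.tr_u]; norm_num) htr
  · exact absurd (by rw [PSL2Elements.tr_eq_of_isConj hy, PSL2Elements.tr_neg, PSL2Elements.tr_u]
                     norm_num) htr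
  · obtain ⟨w, hw⟩ := isConj_iff.mp hc.symm
    obtain ⟨γ, hγ⟩ := IsCyclic.exists_generator (α := Fˣ)
    obtain ⟨i, hi⟩ := Subgroup.mem_zpowers_iff.mp (hγ a)
    set X := w * PSL2Elements.d γ * w⁻¹ with hX
    have hord : orderOf X = Nat.card F - 1 := by
      rw [hX, show w * PSL2Elements.d γ * w⁻¹ = MulAut.conj w (PSL2Elements.d γ) from rfl,
        MulEquiv.orderOf_eq,
        show PSL2Elements.d γ = PSL2Elements.dHom γ from rfl,
        orderOf_injective _ PSL2Elements.dHom_injective, orderOf_eq_card_of_forall_mem_zpowers hγ,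
        PSLCard.card_units_field]
    have hAX : X ^ i = A := by
      rw [hX, conj_zpow, show PSL2Elements.d γ = PSL2Elements.dHom γ from rfl, ← map_zpow, hi]
      exact hw
    refine ⟨_, PSL2Proj52.π X, Or.inr rfl, ?_, PSL2Proj52.orderOf_π PSL2Proj52.gcd_dvd.1 hord, ?_⟩
    · rw [← PSL2Proj52.orderOf_π PSL2Proj52.gcd_dvd.1 hord, ← hAX, map_zpow]
      exact orderOf_dvd_of_mem_zpowers ⟨i, rfl⟩
    · rw [← hAX]; exact ((Commute.refl X).zpow_right i).map _
  · obtain ⟨hcyc, hcard⟩ := PSL2Elements.centralizer_nonsplit hns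
    obtain ⟨z, hz⟩ := hcyc.exists_generator
    have hA : A ∈ Subgroup.centralizer ({A} : Set SL(2, F)) :=
      Subgroup.mem_centralizer_singleton_iff.mpr rfl
    obtain ⟨i, hi⟩ := Subgroup.mem_zpowers_iff.mp (hz ⟨A, hA⟩)
    have hord : orderOf (z : SL(2, F)) = Nat.card F + 1 := by
      rw [Subgroup.orderOf_coe, orderOf_eq_card_of_forall_mem_zpowers hz, hcard]
    have hAz : (z : SL(2, F)) ^ i = A := congrArg Subtype.val hi
    refine ⟨_, PSL2Proj52.π z, Or.inl rfl, ?_, PSL2Proj52.orderOf_π PSL2Proj52.gcd_dvd.2 hord, ?_⟩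
    · rw [← PSL2Proj52.orderOf_π PSL2Proj52.gcd_dvd.2 hord]
      exact orderOf_dvd_of_mem_zpowers ⟨i, (map_zpow _ _ _).symm.trans (congrArg _ hAz)⟩
    · have := ((Commute.refl (z : SL(2, F))).zpow_right i).map PSL2Proj52.π
      exact (congrArg PSL2Proj52.π hAz) ▸ this

variable {M : Subgroup (Matrix.ProjectiveSpecialLinearGroup (Fin 2) F)}

include p hp in
/-- No cyclic subgroup of order prime to `p` is maximal. -/
theorem not_cyclic (h4 : 4 ≤ Nat.card F) (hM : IsCoatom M) (hc : IsCyclic M)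
    (hco : ¬ p ∣ Nat.card M) : False := by
  have := simple p h4
  obtain ⟨hd4, hbig⟩ := four_dvd_card h4
  have h3 := small_not_coatom hM hd4 (by omega)
  obtain ⟨g, hg⟩ := IsCyclic.exists_ofOrder_eq_natCard (α := M)
  rw [← Subgroup.orderOf_coe] at hg
  obtain ⟨⟨h, hh⟩, -⟩ := exists_torus_elt p (g := (g : Matrix.ProjectiveSpecialLinearGroup (Fin 2) F))
    (by omega) (hg ▸ hco)
  have hz : Subgroup.zpowers (g : Matrix.ProjectiveSpecialLinearGroup (Fin 2) F) = M := by
    refine Subgroup.eq_of_le_of_card_ge (Subgroup.zpowers_le.mpr g.2) ?_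
    rw [Nat.card_zpowers, hg]
  have hn := normalizer_eq hM (fun e => by rw [e, Subgroup.card_bot] at h3; omega) le_rfl
    Subgroup.le_normalizer
  have hhM : h ∈ M := by
    rw [← hn]; refine mem_normalizer_of ?_
    intro y hy
    rw [← hz] at hy ⊢
    obtain ⟨i, rfl⟩ := Subgroup.mem_zpowers_iff.mp hy
    rw [← conj_zpow, hh]
    exact Subgroup.zpow_mem _ (Subgroup.inv_mem _ (Subgroup.mem_zpowers _)) i
  letI := hc.commGroup
  have hcomm : h * (g : Matrix.ProjectiveSpecialLinearGroup (Fin 2) F) = g * h :=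
    congrArg Subtype.val (mul_comm (⟨h, hhM⟩ : M) g)
  rw [hcomm, mul_inv_cancel_right] at hh
  have : (g : Matrix.ProjectiveSpecialLinearGroup (Fin 2) F) ^ 2 = 1 := by
    rw [sq]; nth_rw 2 [hh]; exact mul_inv_cancel _
  have := Nat.le_of_dvd two_pos (orderOf_dvd_of_pow_eq_one this)
  omega

include p hp in
theorem borelPSL_ne_top (h4 : 4 ≤ Nat.card F) : borelPSL F ≠ ⊤ := by
  intro e
  have h := card_borel (F := F)
  have hG : dd F * Nat.card (Matrix.ProjectiveSpecialLinearGroup (Fin 2) F) =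
      Nat.card F * (Nat.card F ^ 2 - 1) := PSLCard.card_PSL2_mul (F := F)
  rw [e, Subgroup.card_top, hG] at h
  have h2 := Nat.eq_of_mul_eq_mul_left (by omega) h
  have := Nat.pow_le_pow_left h4 2
  have : Nat.card F * 4 ≤ Nat.card F ^ 2 := by rw [sq]; exact Nat.mul_le_mul le_rfl h4
  omega

include p hp in
/-- A maximal subgroup fixing a point has the order of the Borel subgroup. -/
theorem card_borel_case (h4 : 4 ≤ Nat.card F) (hM : IsCoatom M)
    {a : Matrix.ProjectiveSpecialLinearGroup (Fin 2) F}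
    (ha : M.map (MulAut.conj a).toMonoidHom ≤ borelPSL F) :
    dd F * Nat.card M = Nat.card F * (Nat.card F - 1) := by
  rw [← card_borel]
  congr 1
  set B := (borelPSL F).map (MulAut.conj a⁻¹).toMonoidHom
  have hle : M ≤ B := fun x hx => ⟨MulAut.conj a x, ha ⟨x, hx, rfl⟩, by simp [mul_assoc]⟩
  have hcard : Nat.card B = Nat.card (borelPSL F) :=
    (Nat.card_congr ((borelPSL F).equivMapOfInjective _ (MulAut.conj a⁻¹).injective).toEquiv).symm
  rcases hM.le_iff.mp hle with e | e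
  · exfalso
    refine borelPSL_ne_top p h4 (Subgroup.eq_top_of_card_eq _ ?_)
    rw [← hcard, e, Subgroup.card_top]
  · rw [← hcard, e]

include p hp in
/-- A maximal dihedral subgroup is a torus normaliser. -/
theorem dihedral_case (h4 : 4 ≤ Nat.card F) (hM : IsCoatom M) {k : ℕ} (h2 : 2 ≤ k) (hco : ¬ p ∣ k)
    (e : M ≃* DihedralGroup k) :
    3 ≤ k ∧ (k = (Nat.card F + 1) / dd F ∨ k = (Nat.card F - 1) / dd F) ∧
      ∃ g : Matrix.ProjectiveSpecialLinearGroup (Fin 2) F, orderOf g = k ∧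
        Subgroup.normalizer (Subgroup.zpowers g : Set _) = M := by
  have := simple p h4
  obtain ⟨hd4, hbig⟩ := four_dvd_card h4
  have : NeZero k := ⟨by omega⟩
  have h3 : 3 ≤ k := by
    by_contra h
    refine klein_not_coatom hM hbig ?_
    rw [Nat.card_congr e.toEquiv, DihedralGroup.nat_card]; omega
  set g : Matrix.ProjectiveSpecialLinearGroup (Fin 2) F :=
    Subtype.val (e.symm (DihedralGroup.r 1)) with hgdef
  have hg : orderOf g = k := by
    rw [hgdef, Subgroup.orderOf_coe, MulEquiv.orderOf_eq, DihedralGroup.orderOf_r_one]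
  have hgM : g ∈ M := (e.symm _).2
  have hn : Subgroup.normalizer (Subgroup.zpowers g : Set _) = M := by
    refine normalizer_eq hM (fun h => ?_) (Subgroup.zpowers_le.mpr hgM) ?_
    · have := congrArg (fun H : Subgroup (Matrix.ProjectiveSpecialLinearGroup (Fin 2) F) => Nat.card H) h
      simp only [Nat.card_zpowers, hg, Subgroup.card_bot] at this
      omega
    · intro m hm
      refine mem_normalizer_of ?_
      intro y hy
      obtain ⟨i, rfl⟩ := Subgroup.mem_zpowers_iff.mp hy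
      rw [← conj_zpow]
      refine Subgroup.zpow_mem _ ?_ i
      obtain ⟨j, hj⟩ : ∃ j : ℤ, e ⟨m, hm⟩ * DihedralGroup.r 1 * (e ⟨m, hm⟩)⁻¹ =
          (DihedralGroup.r 1 : DihedralGroup k) ^ j := by
        cases e ⟨m, hm⟩ with
        | r u => exact ⟨1, by simp⟩
        | sr u => exact ⟨-1, by simp⟩
      refine Subgroup.mem_zpowers_iff.mpr ⟨j, ?_⟩
      have := congrArg (fun t => Subtype.val (e.symm t)) hj
      simp only [map_mul, map_inv, MulEquiv.symm_apply_apply, map_zpow, Subgroup.coe_mul,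
        Subgroup.coe_inv, SubgroupClass.coe_zpow] at this
      exact this.symm
  refine ⟨h3, ?_, g, hg, hn⟩
  obtain ⟨-, K, x, hK, hdvd, hx, hcomm⟩ := exists_torus_elt p (g := g) (hg ▸ h3) (hg ▸ hco)
  have hxM : x ∈ M := by
    rw [← hn]; refine mem_normalizer_of ?_
    intro y hy
    obtain ⟨i, rfl⟩ := Subgroup.mem_zpowers_iff.mp hy
    rw [← conj_zpow, hcomm.eq, mul_inv_cancel_right]
    exact Subgroup.zpow_mem _ (Subgroup.mem_zpowers _) i
  obtain ⟨i, hi⟩ := commute_rotation h3 (x := e ⟨x, hxM⟩) (by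
    have h' : (⟨x, hxM⟩ : M) * e.symm (DihedralGroup.r 1) =
        e.symm (DihedralGroup.r 1) * ⟨x, hxM⟩ := Subtype.ext hcomm.eq
    simpa using congrArg e h')
  have hKk : K ∣ k := by
    rw [← hx, ← Subgroup.orderOf_mk x hxM, ← e.orderOf_eq, hi]
    refine orderOf_dvd_of_pow_eq_one ?_
    rw [DihedralGroup.r_pow, ZMod.natCast_self, mul_zero, DihedralGroup.r_zero]
  rw [hg] at hdvd
  rw [Nat.dvd_antisymm hdvd hKk]
  exact hK

end Cfsg.Agent.DicksonMaximal
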