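import Cfsg.Agent.Lib.BrauerTuan7Main
import Cfsg.Agent.Lib.PTerminalDiag
import Cfsg.Agent.Lib.DicksonMaximal
import Cfsg.Agent.S0494

/-!
# Simple groups of order `p r q ^ b`
-/

set_option autoImplicit false

namespace Cfsg.Agent.BrauerTuan7

open Cfsg Cfsg.Agent.BrauerReynolds7

universe u

/-- The primes in the order of `PSL₂(p)` for a Fermat or Mersenne prime `p`. -/
theorem three_arith {p q r b m : ℕ} (hq : q.Prime) (hr : r.Prime) (hqr : q ≠ r) (hp : p.Prime)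
    (hp3 : 3 < p) (hm : p = 2 ^ m + 1 ∨ p = 2 ^ m - 1)
    (h : 2 * (r * q ^ b) = p * p - 1) : p = 5 ∨ p = 7 := by
  have hpos := Nat.two_pow_pos m
  have hm2 : 2 ≤ m := by
    rcases m with _ | _ | m
    · simp at hm; omega
    · simp at hm; omega
    · omega
  obtain ⟨k, rfl⟩ : ∃ k, m = k + 1 := ⟨m - 1, by omega⟩
  have hk : 1 ≤ k := by omega
  have h2k : 2 ∣ 2 ^ k := dvd_pow_self 2 (by omega)
  have hk0 := Nat.two_pow_pos k
  obtain ⟨d, hd, hd2⟩ : ∃ d, r * q ^ b = 2 ^ (k + 1) * d ∧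
      (p = 2 ^ (k + 1) + 1 ∧ d = 2 ^ k + 1 ∨ p = 2 ^ (k + 1) - 1 ∧ d = 2 ^ k - 1) := by
    rw [pow_succ] at hm
    rcases hm with hm | hm
    · refine ⟨2 ^ k + 1, ?_, Or.inl ⟨by rw [hm, pow_succ], rfl⟩⟩
      rw [hm] at h
      rw [pow_succ]
      have h2 : (2 ^ k * 2 + 1) * (2 ^ k * 2 + 1) = 2 * (2 ^ k * 2 * (2 ^ k + 1)) + 1 := by ring
      omega
    · refine ⟨2 ^ k - 1, ?_, Or.inr ⟨by rw [hm, pow_succ], rfl⟩⟩
      obtain ⟨w, hw⟩ : ∃ w, 2 ^ k = w + 1 := ⟨2 ^ k - 1, by omega⟩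
      rw [hm, hw] at h
      rw [pow_succ, hw]
      rw [show (w + 1) * 2 - 1 = 2 * w + 1 by omega] at h
      rw [show w + 1 - 1 = w by omega]
      have h2 : (2 * w + 1) * (2 * w + 1) = 2 * ((w + 1) * 2 * w) + 1 := by ring
      omega
  have hdodd : ¬ 2 ∣ d := by
    obtain ⟨u, hu⟩ := h2k
    rintro ⟨v, hv⟩
    rcases hd2 with ⟨-, e⟩ | ⟨-, e⟩ <;> omega
  have hr2 : r ≠ 2 := by
    rintro rfl
    have h4 : 2 ^ 2 ∣ 2 * q ^ b := hd ▸ dvd_mul_of_dvd_left (pow_dvd_pow 2 (by omega)) _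
    have h5 : 2 ∣ q ^ b := Nat.dvd_of_mul_dvd_mul_left two_pos (by simpa [sq] using h4)
    exact hqr ((Nat.prime_dvd_prime_iff_eq Nat.prime_two hq).1 (Nat.prime_two.dvd_of_dvd_pow h5)).symm
  have hrd : r ∣ d := by
    have h1 : r ∣ 2 ^ (k + 1) * d := hd ▸ dvd_mul_right r _
    exact (hr.dvd_mul.1 h1).resolve_left fun h2 =>
      hr2 ((Nat.prime_dvd_prime_iff_eq hr Nat.prime_two).1 (hr.dvd_of_dvd_pow h2))
  have hq2 : q = 2 := by
    have h1 : 2 ∣ r * q ^ b := hd ▸ dvd_mul_of_dvd_left (dvd_pow_self 2 (by omega)) _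
    have h2 := (Nat.prime_two.dvd_mul.1 h1).resolve_left
      fun h2 => hr2 ((Nat.prime_dvd_prime_iff_eq Nat.prime_two hr).1 h2).symm
    exact ((Nat.prime_dvd_prime_iff_eq Nat.prime_two hq).1 (Nat.prime_two.dvd_of_dvd_pow h2)).symm
  subst hq2
  obtain ⟨c, rfl⟩ := hrd
  have hc : c = 1 := by
    have h1 : c ∣ r * 2 ^ b := hd ▸ ⟨2 ^ (k + 1) * r, by ring⟩
    have hc2 : Nat.Coprime c (2 ^ b) := Nat.Coprime.pow_right b
      (Nat.coprime_two_right.2 (Nat.not_even_iff_odd.1 fun he => hdodd (dvd_mul_of_dvd_right he.two_dvd r)))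
    rcases hr.eq_one_or_self_of_dvd c (hc2.dvd_of_dvd_mul_right h1) with h2 | h2
    · exact h2
    · exfalso
      subst h2
      have h3 : c ∣ 2 ^ b := by
        refine ⟨2 ^ (k + 1), Nat.eq_of_mul_eq_mul_left hr.pos ?_⟩
        rw [hd]; ring
      exact hr.ne_one (Nat.eq_one_of_dvd_coprimes hc2 dvd_rfl h3)
  subst hc
  rw [mul_one] at hd2
  -- divisibility by three
  have h3p : ¬ 3 ∣ p := fun h3 =>
    absurd ((Nat.prime_dvd_prime_iff_eq Nat.prime_three hp).1 h3) (by omega)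
  have hmod : 2 ^ k % 3 = 1 ∧ 2 ^ (k + 1) % 3 = 2 ∨ 2 ^ k % 3 = 2 ∧ 2 ^ (k + 1) % 3 = 1 := by
    have : 2 ^ k % 3 ≠ 0 := fun h0 =>
      absurd (Nat.prime_three.dvd_of_dvd_pow (Nat.dvd_of_mod_eq_zero h0)) (by norm_num)
    rw [pow_succ]
    omega
  have hr3 : r = 3 := by
    refine ((Nat.prime_dvd_prime_iff_eq Nat.prime_three hr).1 ?_).symm
    rw [pow_succ] at hmod hd2
    rcases hd2 with ⟨e1, e2⟩ | ⟨e1, e2⟩ <;> omega
  rw [pow_succ] at hd2
  rcases hd2 with ⟨e1, e2⟩ | ⟨e1, e2⟩ <;> omega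

/-- Two simple groups of order `60` are isomorphic. -/
theorem iso_psl_five {G : Type u} [Group G] [Finite G] [IsSimpleGroup G] (h : Nat.card G = 60) :
    ∃ (F : Type) (_ : Field F) (_ : Fintype F), Fintype.card F = 5 ∧
      Nonempty (G ≃* Matrix.ProjectiveSpecialLinearGroup (Fin 2) F) := by
  haveI : Fact (Nat.Prime 5) := ⟨by norm_num⟩
  haveI := DicksonMaximal.simple (F := ZMod 5) 5 (by simp)
  have hc : Nat.card (Matrix.ProjectiveSpecialLinearGroup (Fin 2) (ZMod 5)) = 60 := by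
    rw [PSLCard.card_PSL2_odd (by rw [Nat.card_zmod]; decide), Nat.card_zmod]
    norm_num
  obtain ⟨e1⟩ := Cfsg.Agent.S0494.result h
  obtain ⟨e2⟩ := Cfsg.Agent.S0494.result hc
  exact ⟨ZMod 5, inferInstance, inferInstance, by simp, ⟨e1.trans e2.symm⟩⟩

/-- The case `r < p`. -/
theorem three_primes_aux {G : Type u} [Group G] [Finite G] [IsSimpleGroup G] (hG : ¬ IsCyclic G)
    {p q r b : ℕ} (hp : p.Prime) (hq : q.Prime) (hr : r.Prime) (hpq : p ≠ q) (hqr : q ≠ r)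
    (hlt : r < p) (hG' : Nat.card G = p * r * q ^ b) :
    (∃ (F : Type) (_ : Field F) (_ : Fintype F), Fintype.card F = 5 ∧
      Nonempty (G ≃* Matrix.ProjectiveSpecialLinearGroup (Fin 2) F)) ∨
    (∃ (F : Type) (_ : Field F) (_ : Fintype F), Fintype.card F = 7 ∧
      Nonempty (G ≃* Matrix.ProjectiveSpecialLinearGroup (Fin 2) F)) := by
  haveI := Fact.mk hp
  haveI := Fact.mk hq
  haveI := Fintype.ofFinite G
  have hna : ¬ IsMulCommutative G := fun h => hG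
    (by open scoped IsMulCommutative in exact IsSimpleGroup.isCyclic)
  have hrp : r < p - 1 := by
    by_contra hc
    have h1 : p = r + 1 := by omega
    have hr2 : r = 2 := by
      rcases hr.eq_two_or_odd with h | h
      · exact h
      · rcases hp.eq_two_or_odd with h' | h' <;> have := hr.two_le <;> omega
    subst hr2 h1
    have h4 := PTerminalDiag.four_dvd_card_of_simple hna ⟨3 * q ^ b, by rw [hG']; ring⟩
    rw [hG', show (2 + 1) * 2 * q ^ b = 2 * (3 * q ^ b) by ring] at h4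
    have h5 : 2 ∣ 3 * q ^ b := Nat.dvd_of_mul_dvd_mul_left two_pos (show 2 * 2 ∣ _ from h4)
    exact hqr ((Nat.prime_dvd_prime_iff_eq Nat.prime_two hq).1
      (Nat.prime_two.dvd_of_dvd_pow ((Nat.prime_two.dvd_mul.1 h5).resolve_left (by norm_num)))).symm
  obtain ⟨m, hm, hc⟩ := main hG hpq (b := b) (g₀ := r) (by rw [hG']; ring) hrp
  rcases hc with ⟨F, hF, hFf, hcard, hp3, hiso⟩ | ⟨m', F, hF, hFf, hcard, hpm, hp3, hiso⟩
  · obtain ⟨iso⟩ := hiso
    have hFc : Nat.card F = p := by rw [Nat.card_eq_fintype_card, hcard]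
    have hodd : Odd (Nat.card F) := hFc ▸ hp.odd_of_ne_two (by omega)
    have h1 := PSLCard.card_PSL2_odd (F := F) hodd
    rw [← Nat.card_congr iso.toEquiv, hG', hFc] at h1
    have h2 : 2 ∣ p * (p ^ 2 - 1) := by
      refine dvd_mul_of_dvd_right ?_ _
      obtain ⟨s, hs⟩ := hp.odd_of_ne_two (by omega)
      refine ⟨2 * s * (s + 1), ?_⟩
      have : p ^ 2 = 2 * (2 * s * (s + 1)) + 1 := by rw [hs]; ring
      omega
    have h3 : 2 * (r * q ^ b) = p * p - 1 := by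
      refine Nat.eq_of_mul_eq_mul_left hp.pos ?_
      rw [show p * (2 * (r * q ^ b)) = 2 * (p * r * q ^ b) by ring, h1, Nat.mul_div_cancel' h2,
        pow_two]
    rcases three_arith hq hr hqr hp hp3 hm h3 with h | h
    · exact Or.inl ⟨F, hF, hFf, hcard.trans h, ⟨iso⟩⟩
    · exact Or.inr ⟨F, hF, hFf, hcard.trans h, ⟨iso⟩⟩
  · obtain ⟨iso⟩ := hiso
    have hFc : Nat.card F = 2 ^ m' := by rw [Nat.card_eq_fintype_card, hcard]
    obtain ⟨k, rfl⟩ : ∃ k, m' = k + 2 := by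
      refine ⟨m' - 2, ?_⟩
      rcases m' with _ | _ | m'
      · rw [pow_zero] at hpm; omega
      · rw [pow_one] at hpm; omega
      · omega
    have heven : Even (Nat.card F) := hFc ▸ Nat.even_pow.2 ⟨even_two, by omega⟩
    have h1 := PSLCard.card_PSL2_even (F := F) heven
    rw [← Nat.card_congr iso.toEquiv, hG', hFc] at h1
    obtain ⟨w, hw⟩ : ∃ w, 2 ^ (k + 2) = w + 1 :=
      ⟨2 ^ (k + 2) - 1, by have := Nat.two_pow_pos (k + 2); omega⟩
    have h2 : r * q ^ b = 2 ^ (k + 2) * w := by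
      refine Nat.eq_of_mul_eq_mul_left hp.pos ?_
      rw [← mul_assoc, h1, hw, hpm, hw, show (w + 1) ^ 2 - 1 = w * (w + 2) by
        have : (w + 1) ^ 2 = w * (w + 2) + 1 := by ring
        omega]
      ring
    have hwodd : ¬ 2 ∣ w := by
      have h2' : 2 ∣ 2 ^ (k + 2) := dvd_pow_self 2 (by omega)
      omega
    have hr2 : r ≠ 2 := by
      intro hr2
      rw [hr2] at h2
      have h4 : 2 * 2 ∣ 2 * q ^ b := h2 ▸ dvd_mul_of_dvd_left ⟨2 ^ k, by ring⟩ _
      exact hqr (hr2 ▸ ((Nat.prime_dvd_prime_iff_eq Nat.prime_two hq).1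
        (Nat.prime_two.dvd_of_dvd_pow (Nat.dvd_of_mul_dvd_mul_left two_pos h4))).symm)
    have hrw : r ∣ w := (hr.dvd_mul.1 (h2 ▸ dvd_mul_right r _)).resolve_left fun h3 =>
      hr2 ((Nat.prime_dvd_prime_iff_eq hr Nat.prime_two).1 (hr.dvd_of_dvd_pow h3))
    obtain ⟨c, hc⟩ := hrw
    have hq2 : q = 2 := by
      have h3 : 2 ∣ r * q ^ b := h2 ▸ dvd_mul_of_dvd_left (dvd_pow_self 2 (by omega)) _
      exact ((Nat.prime_dvd_prime_iff_eq Nat.prime_two hq).1 (Nat.prime_two.dvd_of_dvd_pow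
        ((Nat.prime_two.dvd_mul.1 h3).resolve_left
          fun h4 => hr2 ((Nat.prime_dvd_prime_iff_eq Nat.prime_two hr).1 h4).symm))).symm
    subst hq2
    have hc1 : c = 1 := by
      have h3 : c ∣ 2 ^ b := by
        refine ⟨2 ^ (k + 2), Nat.eq_of_mul_eq_mul_left hr.pos ?_⟩
        rw [h2, hc]; ring
      have hc2 : Nat.Coprime c (2 ^ b) := Nat.Coprime.pow_right b (Nat.coprime_two_right.2
        (Nat.not_even_iff_odd.1 fun he => hwodd (hc ▸ dvd_mul_of_dvd_right he.two_dvd r)))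
      exact Nat.eq_one_of_dvd_coprimes hc2 dvd_rfl h3
    rw [hc1, mul_one] at hc
    have h3p : ¬ 3 ∣ p := fun h3 =>
      absurd ((Nat.prime_dvd_prime_iff_eq Nat.prime_three hp).1 h3) (by omega)
    have hmod : 2 ^ (k + 2) % 3 = 1 := by
      have : 2 ^ (k + 2) % 3 ≠ 0 := fun h0 =>
        absurd (Nat.prime_three.dvd_of_dvd_pow (Nat.dvd_of_mod_eq_zero h0)) (by norm_num)
      omega
    have hr3 : 3 = r := (Nat.prime_dvd_prime_iff_eq Nat.prime_three hr).1 (by omega)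
    refine Or.inl (iso_psl_five ?_)
    rw [hG', show p * r * 2 ^ b = p * (r * 2 ^ b) by ring, h2, show p = 5 by omega,
      show 2 ^ (k + 2) = 4 by omega, show w = 3 by omega]

/-- Simple groups of order `p r q ^ b`. -/
theorem three_primes {G : Type u} [Group G] [Finite G] [IsSimpleGroup G] (hG : ¬ IsCyclic G)
    {p q r b : ℕ} (hp : p.Prime) (hq : q.Prime) (hr : r.Prime) (hpq : p ≠ q) (hpr : p ≠ r)
    (hqr : q ≠ r) (hG' : Nat.card G = p * r * q ^ b) :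
    (∃ (F : Type) (_ : Field F) (_ : Fintype F), Fintype.card F = 5 ∧
      Nonempty (G ≃* Matrix.ProjectiveSpecialLinearGroup (Fin 2) F)) ∨
    (∃ (F : Type) (_ : Field F) (_ : Fintype F), Fintype.card F = 7 ∧
      Nonempty (G ≃* Matrix.ProjectiveSpecialLinearGroup (Fin 2) F)) := by
  rcases Nat.lt_or_ge r p with h | h
  · exact three_primes_aux hG hp hq hr hpq hqr h hG'
  · exact three_primes_aux (b := b) hG hr hq hp hqr.symm hpq.symm (lt_of_le_of_ne h hpr)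
      (by rw [hG']; ring)

end Cfsg.Agent.BrauerTuan7
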