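import Mathlib
import Cfsg.Agent.Lib.OmegaDecomp

/-!
Orthogonal decompositions with members of dimension at least three: an overgroup of the stabiliser
relates a mixed vector to block vectors, and contains a mixed Siegel element.
-/

set_option autoImplicit false

namespace Cfsg.Agent.OmegaDecompClass

open QuadraticMap Module
open Cfsg.Agent.OrthUnitaryQuad Cfsg.Agent.OrthUnitaryPrelude Cfsg.Agent.OrthUnitaryRefl
  Cfsg.Agent.OrthUnitaryOmega Cfsg.Agent.OmegaClasses Cfsg.Agent.OmegaGeo
  Cfsg.Agent.OrthUnitarySimple Cfsg.Agent.OmegaStabSingular Cfsg.Agent.OmegaDecomp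
open Cfsg.Agent.QuadClassify (Nondeg Aniso exists_partner pair_complement)

variable {F V : Type*} [Field F] [Fintype F] [AddCommGroup V] [Module F V] [FiniteDimensional F V]
  {Q : QuadraticForm F V} {t k : ℕ} {D : Fin t → Submodule F V} {π : Fin t → V →ₗ[F] V}

omit [FiniteDimensional F V] in
theorem indep_pair {a b : V} (ha : a ≠ 0) (hb : b ∉ Submodule.span F {a}) :
    ∀ p r : F, p • a + r • b = 0 → p = 0 ∧ r = 0 := by
  intro p r h
  have hr : r = 0 := by
    by_contra hr
    refine hb (Submodule.mem_span_singleton.2 ⟨-(r⁻¹ * p), ?_⟩)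
    have : r • b = -(p • a) := eq_neg_of_add_eq_zero_right h
    rw [neg_smul, ← smul_smul, ← smul_neg, ← this, inv_smul_smul₀ hr]
  rw [hr, zero_smul, add_zero, smul_eq_zero] at h
  exact ⟨h.resolve_right ha, hr⟩

/-- Class vectors of a subspace off the blocks. -/
theorem exists_mixed (hnd : (polarBilin Q).Nondegenerate) (hD : Dec Q D k) {T : Submodule F V}
    (hT : Nondeg Q T) (hTk : finrank F T = k) (hk : 3 ≤ k) (hk3 : k = 3 → 4 ≤ Fintype.card F)
    (hq2 : Fintype.card F = 2 → k = 4 → ∀ a ∈ T, ∀ b ∈ T, Q a = 0 → Q b = 0 → polar Q a b = 0 →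
      ∃ p r : F, (p ≠ 0 ∨ r ≠ 0) ∧ p • a + r • b = 0)
    (hnot : ∀ i, ¬ T ≤ D i) {w₀ : V} (hw₀ : w₀ ∈ T) (hQ₀ : Q w₀ ≠ 0) :
    ∃ y ∈ T, SameClass (Q w₀) (Q y) ∧ ∀ i, y ∉ D i := by
  classical
  by_contra hc
  push Not at hc
  obtain ⟨i₀, hi₀⟩ := hc w₀ hw₀ (sameClass_refl hQ₀)
  set A := T ⊓ D i₀
  set B := T ⊓ LinearMap.BilinForm.orthogonal (polarBilin Q) A
  have hpol : ∀ a ∈ A, ∀ b ∈ B, polar Q a b = 0 := fun a ha b hb => hb.2 a ha
  have hclass : ∀ y ∈ T, SameClass (Q w₀) (Q y) → y ∈ A ∨ y ∈ B := by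
    intro y hy hcy
    obtain ⟨l, hl⟩ := hc y hy hcy
    rcases eq_or_ne l i₀ with rfl | hne
    · exact Or.inl ⟨hy, hl⟩
    · exact Or.inr ⟨hy, fun a ha => hD.orth i₀ l (Ne.symm hne) a ha.2 y hl⟩
  have hTle : T ≤ A ⊔ B := le_of_class hnd hT (by omega) hw₀ hQ₀ fun w hw hcw =>
    (hclass w hw hcw).elim (fun h => Submodule.mem_sup_left h) (fun h => Submodule.mem_sup_right h)
  have hdisj : ∀ x, x ∈ A → x ∈ B → x = 0 := by
    intro x hxA hxB
    refine hT x hxA.1 fun u hu => ?_
    obtain ⟨a, ha, b, hb, rfl⟩ := Submodule.mem_sup.1 (hTle hu)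
    rw [polar_add_right, (polar_comm _ x a).trans (hpol a ha x hxB), hpol x hxA b hb, add_zero]
  have hdimAB : k ≤ finrank F A + finrank F B := by
    have h1 := Submodule.finrank_mono hTle
    have h2 := Submodule.finrank_add_le_finrank_add_finrank A B
    omega
  obtain ⟨w₁, hw₁B, hcw₁⟩ : ∃ w ∈ B, SameClass (Q w₀) (Q w) := by
    by_contra h
    push Not at h
    exact hnot i₀ fun x hx => (le_of_class hnd hT (by omega) hw₀ hQ₀ (S := A) (fun w hw hcw =>
      (hclass w hw hcw).resolve_right fun hb => h w hb hcw) hx).2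
  -- the basic reflection step, for either side
  have key : ∀ X Y : Submodule F V, (X = A ∧ Y = B) ∨ (X = B ∧ Y = A) →
      ∀ a ∈ X, ∀ b ∈ Y, a ≠ 0 → Q (a + b) ≠ 0 →
      ∀ w ∈ Y, SameClass (Q w₀) (Q w) → polar Q b w ≠ 0 → w ∈ Submodule.span F {b} := by
    intro X Y hXY a ha b hb ha0 hab w hw hcw hbw
    have hXT : X ≤ T := by rcases hXY with ⟨rfl, -⟩ | ⟨rfl, -⟩ <;> exact inf_le_left
    have hYT : Y ≤ T := by rcases hXY with ⟨-, rfl⟩ | ⟨-, rfl⟩ <;> exact inf_le_left
    have hsep : ∀ x, x ∈ X → x ∈ Y → x = 0 := by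
      rcases hXY with ⟨rfl, rfl⟩ | ⟨rfl, rfl⟩
      · exact hdisj
      · exact fun x h1 h2 => hdisj x h2 h1
    have haw : polar Q a w = 0 := by
      rcases hXY with ⟨rfl, rfl⟩ | ⟨rfl, rfl⟩
      · exact hpol a ha w hw
      · exact (polar_comm _ a w).trans (hpol w hw a ha)
    set c := (Q (a + b))⁻¹ * polar Q b w
    have hc0 : c ≠ 0 := mul_ne_zero (inv_ne_zero hab) hbw
    have himg : (refl Q (a + b) hab).1 w = (w - c • b) - c • a := by
      rw [refl_apply, polar_add_left, haw, zero_add, smul_add]; abel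
    have hmem := hclass _ (by
        rw [himg]; exact T.sub_mem (T.sub_mem (hYT hw) (T.smul_mem _ (hYT hb))) (T.smul_mem _ (hXT ha)))
      (by rw [map_orth]; exact hcw : SameClass (Q w₀) (Q ((refl Q (a + b) hab).1 w)))
    rw [himg] at hmem
    have hwY : w - c • b ∈ Y := Y.sub_mem hw (Y.smul_mem _ hb)
    have hor : (w - c • b) - c • a ∈ X ∨ (w - c • b) - c • a ∈ Y := by
      rcases hXY with ⟨rfl, rfl⟩ | ⟨rfl, rfl⟩
      · exact hmem
      · exact hmem.symm
    rcases hor with h | h
    · refine Submodule.mem_span_singleton.2 ⟨c, (sub_eq_zero.1 (hsep _ ?_ hwY)).symm⟩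
      simpa using X.add_mem h (X.smul_mem c ha)
    · exfalso
      have h' : c • a ∈ Y := by simpa using Y.sub_mem hwY h
      have := hsep _ (X.smul_mem c ha) h'
      exact ha0 ((smul_eq_zero.1 this).resolve_left hc0)
  have hsing : ∀ X Y : Submodule F V, (X = A ∧ Y = B) ∨ (X = B ∧ Y = A) →
      ∀ b ∈ Y, b ≠ 0 → ∃ w ∈ Y, SameClass (Q w₀) (Q w) ∧ polar Q b w ≠ 0 := by
    intro X Y hXY b hb hb0
    by_contra h
    push Not at h
    have hbT : b ∈ T := by rcases hXY with ⟨-, rfl⟩ | ⟨-, rfl⟩ <;> exact hb.1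
    have hle : T ≤ LinearMap.ker (polarBilin Q b) := le_of_class hnd hT (by omega) hw₀ hQ₀
      fun w hw hcw => by
        rcases hXY with ⟨rfl, rfl⟩ | ⟨rfl, rfl⟩
        · rcases hclass w hw hcw with h1 | h1
          · exact (polar_comm _ b w).trans (hpol w h1 b hb)
          · exact h w h1 hcw
        · rcases hclass w hw hcw with h1 | h1
          · exact h w h1 hcw
          · exact hpol b hb w h1
    exact hb0 (hT b hbT fun u hu => hle hu)
  have haniso : ∀ X Y : Submodule F V, (X = A ∧ Y = B) ∨ (X = B ∧ Y = A) →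
      ∀ a ∈ X, Q a ≠ 0 → Aniso Q Y := by
    intro X Y hXY a ha hQa b hb hQb
    by_contra hb0
    obtain ⟨w, hw, hcw, hbw⟩ := hsing X Y hXY b hb hb0
    have hp : polar Q a b = 0 := by
      rcases hXY with ⟨rfl, rfl⟩ | ⟨rfl, rfl⟩
      · exact hpol a ha b hb
      · exact (polar_comm _ a b).trans (hpol b hb a ha)
    obtain ⟨r, hr⟩ := Submodule.mem_span_singleton.1 (key X Y hXY a ha b hb
      (fun h => hQa (by rw [h, QuadraticMap.map_zero]))
      (by rw [QuadraticMap.map_add (⇑Q), hp, hQb]; simpa using hQa) w hw hcw hbw)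
    exact hcw.1 (by rw [← hr, QuadraticMap.map_smul, hQb, smul_zero])
  have hAaniso : Aniso Q A := haniso B A (Or.inr ⟨rfl, rfl⟩) w₁ hw₁B hcw₁.1
  have hBaniso : Aniso Q B := haniso A B (Or.inl ⟨rfl, rfl⟩) w₀ ⟨hw₀, hi₀⟩ hQ₀
  have hle2 : ∀ X : Submodule F V, Aniso Q X → finrank F X ≤ 2 := by
    intro X hX
    by_contra h
    obtain ⟨u, hu, hu0, hQu⟩ := QuadClassify.exists_singular Q X (by omega)
    exact hu0 (hX u hu hQu)
  have hA2 := hle2 A hAaniso
  have hB2 := hle2 B hBaniso
  -- the case of two planes over two elements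
  by_cases hq : Fintype.card F = 2
  · have hk4 : k = 4 := by
      rcases (show k = 3 ∨ k = 4 by omega) with h | h
      · exact absurd (hk3 h) (by omega)
      · exact h
    have hval : ∀ x : F, x ≠ 0 → x = 1 := by
      intro x hx
      have := FiniteField.pow_card_sub_one_eq_one x hx
      rw [hq] at this
      simpa using this
    have hone : ∀ X : Submodule F V, Aniso Q X → ∀ x ∈ X, x ≠ 0 → Q x = 1 := fun X hX x hx hx0 =>
      hval _ fun h => hx0 (hX x hx h)
    have htwo : ∀ X : Submodule F V, Aniso Q X → 2 ≤ finrank F X →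
        ∃ x ∈ X, ∃ x' ∈ X, x ≠ 0 ∧ x' ∉ Submodule.span F {x} ∧ polar Q x x' = -1 ∧
          Q x = 1 ∧ Q x' = 1 := by
      intro X hX h2
      obtain ⟨x, hx, hx0⟩ := Submodule.exists_mem_ne_zero_of_ne_bot (p := X)
        (fun hb => by rw [hb, finrank_bot] at h2; omega)
      obtain ⟨x', hx', hxx⟩ : ∃ x' ∈ X, x' ∉ Submodule.span F {x} := by
        by_contra hh
        push Not at hh
        have := Submodule.finrank_mono (show X ≤ Submodule.span F {x} from hh)
        rw [finrank_span_singleton hx0] at this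
        omega
      have hx'0 : x' ≠ 0 := fun h => hxx (h ▸ Submodule.zero_mem _)
      have hs : x + x' ≠ 0 := fun h => hxx (by
        rw [eq_neg_of_add_eq_zero_right h]
        exact neg_mem (Submodule.mem_span_singleton_self x))
      have e := hone X hX _ (X.add_mem hx hx') hs
      rw [QuadraticMap.map_add (⇑Q), hone X hX x hx hx0, hone X hX x' hx' hx'0] at e
      exact ⟨x, hx, x', hx', hx0, hxx, by linear_combination e, hone X hX x hx hx0,
        hone X hX x' hx' hx'0⟩
    obtain ⟨a, ha, a', ha', ha0, haa, hpa, hQa, hQa'⟩ := htwo A hAaniso (by omega)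
    obtain ⟨b, hb, b', hb', -, -, hpb, hQb, hQb'⟩ := htwo B hBaniso (by omega)
    have h2 : (2 : F) = 0 := by
      have := FiniteField.cast_card_eq_zero F
      rw [hq] at this
      exact_mod_cast this
    obtain ⟨p, r, hpr, h0⟩ := hq2 hq hk4 (a + b) (T.add_mem ha.1 hb.1) (a' + b') (T.add_mem ha'.1 hb'.1)
      (by rw [QuadraticMap.map_add (⇑Q), hQa, hQb, hpol a ha b hb]; linear_combination h2)
      (by rw [QuadraticMap.map_add (⇑Q), hQa', hQb', hpol a' ha' b' hb']; linear_combination h2)
      (by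
        rw [polar_add_left, polar_add_right, polar_add_right, hpa, hpb, hpol a ha b' hb',
          polar_comm Q b a', hpol a' ha' b hb]
        linear_combination -h2)
    have hA0 : p • a + r • a' = 0 := by
      refine hdisj _ (A.add_mem (A.smul_mem _ ha) (A.smul_mem _ ha')) ?_
      rw [show p • a + r • a' = -(p • b + r • b') from eq_neg_of_add_eq_zero_left (by
        rw [← h0, smul_add, smul_add]; abel)]
      exact B.neg_mem (B.add_mem (B.smul_mem _ hb) (B.smul_mem _ hb'))
    obtain ⟨e1, e2⟩ := indep_pair ha0 haa p r hA0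
    exact hpr.elim (fun h => h e1) (fun h => h e2)
  · -- every vector of a plane side pairs with its class vectors only trivially
    have hall : ∀ X Y : Submodule F V, (X = A ∧ Y = B) ∨ (X = B ∧ Y = A) → Aniso Q X →
        ∀ x ∈ X, x ≠ 0 → finrank F Y = 2 → (finrank F X = 2 ∨ 4 ≤ Fintype.card F) → False := by
      intro X Y hXY hX x hx hx0 hY2 hXd
      have hQx : Q x ≠ 0 := fun h => hx0 (hX x hx h)
      have hgood : ∀ c : F, ∃ a ∈ X, a ≠ 0 ∧ Q a + c ≠ 0 := by
        intro c
        by_cases h : Q x + c = 0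
        · rcases hXd with hXd | hXd
          · by_cases h2 : (2 : F) = 0
            · obtain ⟨s, hs, hs'⟩ : ∃ s : F, s ≠ 0 ∧ s ≠ Q x := by
                have := Fintype.one_lt_card (α := F)
                obtain ⟨s, hs, hs'⟩ := Finset.exists_mem_notMem_of_card_lt_card
                  (s := ({0, Q x} : Finset F)) (t := Finset.univ) (by
                    rw [Finset.card_univ]; exact lt_of_le_of_lt Finset.card_le_two (by omega))
                simp only [Finset.mem_insert, Finset.mem_singleton, not_or] at hs'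
                exact ⟨s, hs'.1, hs'.2⟩
              obtain ⟨a, ha, hQa⟩ := QuadClassify.aniso_represents Q hX hXd s
              exact ⟨a, ha, fun h0 => hs (by rw [← hQa, h0, QuadraticMap.map_zero]),
                fun he => hs' (by linear_combination -hQa + he - h)⟩
            · obtain ⟨a, ha, hQa⟩ := QuadClassify.aniso_represents Q hX hXd (-Q x)
              refine ⟨a, ha, fun h0 => hQx ?_, fun he => hQx ?_⟩
              · rw [h0, QuadraticMap.map_zero] at hQa
                linear_combination hQa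
              · exact (mul_eq_zero.1 (show (2 : F) * Q x = 0 by linear_combination h - he + hQa)).resolve_left h2
          · obtain ⟨s, hs, hs'⟩ := Finset.exists_mem_notMem_of_card_lt_card
              (s := ({0, 1, -1} : Finset F)) (t := Finset.univ) (by
                rw [Finset.card_univ]; exact lt_of_le_of_lt Finset.card_le_three (by omega))
            simp only [Finset.mem_insert, Finset.mem_singleton, not_or] at hs'
            refine ⟨s • x, X.smul_mem _ hx, smul_ne_zero hs'.1 hx0, fun he => ?_⟩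
            rw [QuadraticMap.map_smul, smul_eq_mul] at he
            have : (s - 1) * (s + 1) * Q x = 0 := by linear_combination he - h
            rcases mul_eq_zero.1 this with h' | h'
            · rcases mul_eq_zero.1 h' with h' | h'
              · exact hs'.2.1 (sub_eq_zero.1 h')
              · exact hs'.2.2 (eq_neg_of_add_eq_zero_left h')
            · exact hQx h'
        · exact ⟨x, hx, hx0, h⟩
      have hpXY : ∀ a ∈ X, ∀ b ∈ Y, polar Q a b = 0 := by
        rcases hXY with ⟨rfl, rfl⟩ | ⟨rfl, rfl⟩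
        · exact hpol
        · exact fun a ha b hb => (polar_comm _ a b).trans (hpol b hb a ha)
      have hdir : ∀ b ∈ Y, b ≠ 0 → ∃ w ∈ Y, SameClass (Q w₀) (Q w) ∧ ∃ r : F, r ≠ 0 ∧ r • b = w := by
        intro b hb hb0
        obtain ⟨w, hw, hcw, hbw⟩ := hsing X Y hXY b hb hb0
        obtain ⟨a, ha, ha0, hab⟩ := hgood (Q b)
        obtain ⟨r, hr⟩ := Submodule.mem_span_singleton.1 (key X Y hXY a ha b hb ha0
          (by rw [QuadraticMap.map_add (⇑Q), hpXY a ha b hb, add_zero]; exact hab) w hw hcw hbw)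
        exact ⟨w, hw, hcw, r, fun h => hcw.1 (by rw [← hr, h, zero_smul, QuadraticMap.map_zero]), hr⟩
      have hperp : ∀ b ∈ Y, ∀ b' ∈ Y, b ≠ 0 → b' ∉ Submodule.span F {b} → polar Q b b' = 0 := by
        intro b hb b' hb' hb0 hind
        have hb'0 : b' ≠ 0 := fun h => hind (h ▸ Submodule.zero_mem _)
        obtain ⟨w, hw, hcw, r, hr, hrw⟩ := hdir b' hb' hb'0
        by_contra hne
        obtain ⟨a, ha, ha0, hab⟩ := hgood (Q b)
        have h1 := key X Y hXY a ha b hb ha0
          (by rw [QuadraticMap.map_add (⇑Q), hpXY a ha b hb, add_zero]; exact hab) w hw hcw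
          (by rw [← hrw, polar_smul_right]; exact mul_ne_zero hr hne)
        refine hind ?_
        have := Submodule.smul_mem _ r⁻¹ h1
        rwa [← hrw, smul_smul, inv_mul_cancel₀ hr, one_smul] at this
      obtain ⟨b, hb, hb0⟩ := Submodule.exists_mem_ne_zero_of_ne_bot (p := Y)
        (fun hb => by rw [hb, finrank_bot] at hY2; omega)
      obtain ⟨b', hb', hbb⟩ : ∃ b' ∈ Y, b' ∉ Submodule.span F {b} := by
        by_contra hh
        push Not at hh
        have := Submodule.finrank_mono (show Y ≤ Submodule.span F {b} from hh)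
        rw [finrank_span_singleton hb0] at this
        omega
      have e1 := hperp b hb b' hb' hb0 hbb
      have e2 := hperp b hb (b + b') (Y.add_mem hb hb') hb0
        (fun h => hbb (by simpa using Submodule.sub_mem _ h (Submodule.mem_span_singleton_self b)))
      rw [polar_add_right, e1, add_zero] at e2
      have hle : Y ≤ Submodule.span F {b, b'} := by
        have hli : LinearIndependent F ![b, b'] := LinearIndependent.pair_iff.2 (indep_pair hb0 hbb)
        have hle' : Submodule.span F {b, b'} ≤ Y := Submodule.span_le.2 (by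
          rintro z (rfl | rfl) <;> assumption)
        refine (Submodule.eq_of_le_of_finrank_le hle' ?_).ge
        rw [hY2]
        have := finrank_span_eq_card hli
        rw [Matrix.range_cons_cons_empty, Fintype.card_fin] at this
        omega
      obtain ⟨w, hw, -, hbw⟩ := hsing X Y hXY b hb hb0
      obtain ⟨p, r, hpr⟩ := Submodule.mem_span_pair.1 (hle hw)
      exact hbw (by rw [← hpr, polar_add_right, polar_smul_right, polar_smul_right, e1, e2]; simp)
    have hq3 : 3 ≤ Fintype.card F := by have := Fintype.one_lt_card (α := F); omega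
    rcases (show finrank F B = 2 ∨ finrank F A = 2 by omega) with h | h
    · refine hall A B (Or.inl ⟨rfl, rfl⟩) hAaniso w₀ ⟨hw₀, hi₀⟩
        (fun h0 => hQ₀ (by rw [h0, QuadraticMap.map_zero])) h ?_
      by_cases hk' : k = 3
      · exact Or.inr (hk3 hk')
      · left; omega
    · refine hall B A (Or.inr ⟨rfl, rfl⟩) hBaniso w₁ hw₁B
        (fun h0 => hcw₁.1 (by rw [h0, QuadraticMap.map_zero])) h ?_
      by_cases hk' : k = 3
      · exact Or.inr (hk3 hk')
      · left; omega

/-- Hypotheses on the decomposition and the field. -/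
structure Hyps (Q : QuadraticForm F V) {t : ℕ} (D : Fin t → Submodule F V) (k : ℕ) : Prop where
  three : 3 ≤ k
  two_le : 2 ≤ t
  dim_big : 5 ≤ finrank F V
  small : k ≤ 4 → 3 ≤ t
  k3 : k = 3 → 5 ≤ Fintype.card F
  odd3 : k = 3 → (2 : F) ≠ 0
  q2 : Fintype.card F = 2 → k = 4 → ∀ i, ∀ a ∈ D i, ∀ b ∈ D i, Q a = 0 → Q b = 0 → polar Q a b = 0 →
    ∃ p r : F, (p ≠ 0 ∨ r ≠ 0) ∧ p • a + r • b = 0

/-- Elements respecting every member lie in the subgroup. -/
def Contains (M : Subgroup (orth Q)) (D : Fin t → Submodule F V) : Prop :=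
  ∀ h ∈ commutator (orth Q), (∀ i, ∃ j, ∀ x ∈ D i, h.1 x ∈ D j) → h ∈ M

omit [FiniteDimensional F V] [Fintype F] in
theorem exists_iso_image (hD : Dec Q D k) {i : Fin t} {v : V} (hv : v ∈ D i) (j : Fin t) :
    ∃ w ∈ D j, Q w = Q v := by
  obtain ⟨e, he⟩ := hD.iso i j
  exact ⟨e ⟨v, hv⟩, (e ⟨v, hv⟩).2, he ⟨v, hv⟩⟩

/-- Two block vectors of one class are paired. -/
theorem pair_blocks (hnd : (polarBilin Q).Nondegenerate) (hn : 5 ≤ finrank F V) (hD : Dec Q D k)
    {M : Subgroup (orth Q)} (hH : Contains M D) {i j : Fin t} {v w : V} (hv : v ∈ D i)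
    (hw : w ∈ D j) (hQv : Q v ≠ 0) (h : SameClass (Q v) (Q w)) : PairIn M v w := by
  refine ⟨hQv, h.1, hH _ (pair_mem_commutator hnd hn hQv h.1 h.2) fun l => ⟨l, fun x hx => ?_⟩⟩
  rw [orth_mul_apply]
  have keep : ∀ (z : V) (p : Fin t) (hz : Q z ≠ 0), z ∈ D p → ∀ x ∈ D l, (refl Q z hz).1 x ∈ D l := by
    intro z p hz hzp x hx
    rw [refl_apply]
    rcases eq_or_ne p l with rfl | hne
    · exact (D p).sub_mem hx ((D p).smul_mem _ hzp)
    · rw [hD.orth p l hne z hzp x hx]; simpa using hx
  exact keep v i hQv hv _ (keep w j h.1 hw x hx)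

/-- An overgroup relates a vector off the blocks to a block vector. -/
theorem exists_grow (hnd : (polarBilin Q).Nondegenerate) (hD : Dec Q D k) (hπ : Comp Q D π)
    (hh : Hyps Q D k) {M : Subgroup (orth Q)} (hH : Contains M D) {g : orth Q} (hg : g ∈ M)
    (hgD : ¬ ∀ i, ∃ j, ∀ x ∈ D i, g.1 x ∈ D j) :
    ∃ x v : V, ∃ j, v ∈ D j ∧ PairIn M x v ∧ SameClass (Q v) (Q x) ∧ ∀ i, x ∉ D i := by
  classical
  have hk := hh.three
  have hk3 : k = 3 → 4 ≤ Fintype.card F := fun h => by have := hh.k3 h; omega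
  push Not at hgD
  obtain ⟨l, hl⟩ := hgD
  -- images of blocks
  have himg : ∀ (m : orth Q) (l : Fin t), Nondeg Q ((D l).map (m.1 : V →ₗ[F] V)) ∧
      finrank F ((D l).map (m.1 : V →ₗ[F] V)) = k ∧
      (Fintype.card F = 2 → k = 4 → ∀ a ∈ (D l).map (m.1 : V →ₗ[F] V),
        ∀ b ∈ (D l).map (m.1 : V →ₗ[F] V), Q a = 0 → Q b = 0 → polar Q a b = 0 →
        ∃ p r : F, (p ≠ 0 ∨ r ≠ 0) ∧ p • a + r • b = 0) := by
    intro m l
    refine ⟨?_, by rw [LinearEquiv.finrank_map_eq, hD.dim], ?_⟩
    · rintro _ ⟨x, hx, rfl⟩ h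
      rw [LinearEquiv.coe_coe, hD.nd l x hx fun z hz => by
        rw [← polar_orth m]; exact h _ (Submodule.mem_map_of_mem hz), map_zero]
    · rintro hq hk4 _ ⟨a, ha, rfl⟩ _ ⟨b, hb, rfl⟩ hQa hQb hab
      simp only [LinearEquiv.coe_coe] at hQa hQb hab ⊢
      rw [map_orth m] at hQa hQb
      rw [polar_orth m] at hab
      obtain ⟨p, r, hpr, h0⟩ := hh.q2 hq hk4 l a ha b hb hQa hQb hab
      exact ⟨p, r, hpr, by rw [← map_smul, ← map_smul, ← map_add, h0, map_zero]⟩
  obtain ⟨hT, hTk, hTq⟩ := himg g l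
  generalize hTdef : (D l).map (g.1 : V →ₗ[F] V) = T at hT hTk hTq
  have hnot : ∀ i, ¬ T ≤ D i := by
    intro i hle
    obtain ⟨x, hx, hx'⟩ := hl i
    exact hx' (hle (hTdef ▸ Submodule.mem_map_of_mem hx))
  obtain ⟨w₀, hw₀, hQw₀⟩ := exists_nonsingular hnd hT (le_refl T) (by omega)
  obtain ⟨y, hyT, hyc, hy⟩ := exists_mixed hnd hD hT hTk hk hk3 hTq hnot hw₀ hQw₀
  have hQy := hyc.1
  have hy0 : y ≠ 0 := fun h => hQy (by rw [h, QuadraticMap.map_zero])
  have hTpair : ∀ z ∈ T, SameClass (Q y) (Q z) → PairIn M y z := by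
    intro z hzT hz
    rw [← hTdef] at hyT hzT
    obtain ⟨y₀, hy₀, rfl⟩ := hyT
    obtain ⟨z₀, hz₀, rfl⟩ := hzT
    simp only [LinearEquiv.coe_coe, map_orth g] at hQy hz
    exact (pair_blocks hnd hh.dim_big hD hH hy₀ hz₀ hQy hz).map hg
  obtain ⟨i, hi⟩ := hπ.exists_ne hy0
  obtain ⟨j, hji, hj⟩ : ∃ j, j ≠ i ∧ π j y ≠ 0 := by
    by_contra h
    push Not at h
    exact hy i (hπ.mem_of_forall h)
  -- a second vector and a fixed block vector
  obtain ⟨x', v, p, hx'T, hx'c, hvp, hQv, hvy, hvx, hsplit⟩ :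
      ∃ x' v : V, ∃ p, x' ∈ T ∧ SameClass (Q y) (Q x') ∧ v ∈ D p ∧ Q v ≠ 0 ∧ polar Q v y = 0 ∧
        polar Q v x' = 0 ∧
        (x' ∉ Submodule.span F {y} ∧ ¬ ((∀ r, r ≠ i → r ≠ j → π r y = 0) ∧
          x' ∈ Submodule.span F {π i y, π j y})) := by
    by_cases htwo : ∀ r, r ≠ i → r ≠ j → π r y = 0
    · set S := Submodule.span F {π i y, π j y}
      set L := T ⊓ S with hL
      have hyS : y ∈ S := by
        have : y = π i y + π j y := by
          conv_lhs => rw [← hπ.sum y]
          rw [Finset.sum_eq_add i j (Ne.symm hji) (fun r _ hr => htwo r hr.1 hr.2) (by simp) (by simp)]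
        rw [this]
        exact S.add_mem (Submodule.subset_span (by simp)) (Submodule.subset_span (by simp))
      have hS2 : finrank F S ≤ 2 := by
        have := finrank_span_finset_le_card (R := F) (({π i y, π j y} : Finset V))
        rw [Finset.coe_pair] at this
        exact this.trans Finset.card_le_two
      have hL2 : finrank F L ≤ 2 := (Submodule.finrank_mono inf_le_right).trans hS2
      obtain ⟨x', hx'T, hx'L, hx'c⟩ := exists_class_outside (X := T) hyT (show y ∈ L from ⟨hyT, hyS⟩)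
        inf_le_left hQy (by omega) (by
          by_cases h4 : 4 ≤ Fintype.card F
          · exact Or.inr h4
          · left
            have : k ≠ 3 := fun h => h4 (hk3 h)
            omega)
      obtain ⟨p, hp⟩ : ∃ p : Fin t, 5 ≤ k ∨ (p ≠ i ∧ p ≠ j) := by
        by_cases h5 : 5 ≤ k
        · exact ⟨i, Or.inl h5⟩
        · have ht := hh.small (by omega)
          obtain ⟨p, -, hp⟩ := Finset.exists_mem_notMem_of_card_lt_card
            (s := ({i, j} : Finset (Fin t))) (t := Finset.univ) (by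
              rw [Finset.card_univ, Fintype.card_fin]; exact lt_of_le_of_lt Finset.card_le_two (by omega))
          simp only [Finset.mem_insert, Finset.mem_singleton, not_or] at hp
          exact ⟨p, Or.inr hp⟩
      obtain ⟨v, hv, hQv⟩ := exists_nonsingular hnd (hD.nd p)
        (X := D p ⊓ LinearMap.ker (polarBilin Q y) ⊓ LinearMap.ker (polarBilin Q x'))
        (inf_le_left.trans inf_le_left) (by
          rw [hD.dim]
          rcases hp with h5 | ⟨hpi, hpj⟩
          · have h1 := QuadClassify.finrank_ker_inf (D p) (polarBilin Q y)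
            have h2 := QuadClassify.finrank_ker_inf (D p ⊓ LinearMap.ker (polarBilin Q y)) (polarBilin Q x')
            rw [hD.dim] at h1
            omega
          · have hzero : D p ≤ LinearMap.ker (polarBilin Q y) := fun z hz => by
              show polar Q y z = 0
              rw [polar_comm, hπ.polar_eq p z hz y, htwo p hpi hpj, polar_zero_right]
            rw [inf_eq_left.2 hzero]
            have h1 := QuadClassify.finrank_ker_inf (D p) (polarBilin Q x')
            rw [hD.dim] at h1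
            omega)
      refine ⟨x', v, p, hx'T, hx'c, hv.1.1, hQv, (polar_comm _ v y).trans hv.1.2,
        (polar_comm _ v x').trans hv.2, fun h => hx'L ⟨hx'T, ?_⟩, fun h => hx'L ⟨hx'T, h.2⟩⟩
      exact (Submodule.span_singleton_le_iff_mem _ _).2 hyS h
    · obtain ⟨v, hv, hQv⟩ := exists_nonsingular hnd (hD.nd i)
        (X := D i ⊓ LinearMap.ker (polarBilin Q y)) inf_le_left (by
          rw [hD.dim]
          have h1 := QuadClassify.finrank_ker_inf (D i) (polarBilin Q y)
          rw [hD.dim] at h1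
          omega)
      have h1 := QuadClassify.finrank_ker_inf T (polarBilin Q v)
      rw [hTk] at h1
      have hyX : y ∈ T ⊓ LinearMap.ker (polarBilin Q v) := ⟨hyT, (polar_comm _ v y).trans hv.2⟩
      obtain ⟨x', hx'X, hx'L, hx'c⟩ := exists_class_outside
        (X := T ⊓ LinearMap.ker (polarBilin Q v)) hyX (Submodule.mem_span_singleton_self y)
        ((Submodule.span_singleton_le_iff_mem _ _).2 hyX) hQy
        (by rw [finrank_span_singleton hy0]; omega) (by
          rw [finrank_span_singleton hy0]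
          by_cases h4 : 4 ≤ Fintype.card F
          · exact Or.inr h4
          · left
            have : k ≠ 3 := fun h => h4 (hk3 h)
            omega)
      exact ⟨x', v, i, hx'X.1, hx'c, hv.1, hQv, (polar_comm _ v y).trans hv.2, hx'X.2, hx'L,
        fun h => htwo h.1⟩
  obtain ⟨hQy', hQx', hm⟩ := hTpair x' hx'T hx'c
  set m := refl Q y hQy' * refl Q x' hQx'
  have hmx : ∀ w, m.1 w = w - ((Q x')⁻¹ * polar Q x' w) • x' -
      ((Q y)⁻¹ * polar Q y (w - ((Q x')⁻¹ * polar Q x' w) • x')) • y := fun w => by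
    rw [orth_mul_apply, refl_apply Q x' hQx', refl_apply]
  have hmv : m.1 v = v := by
    rw [hmx, polar_comm Q x' v, hvx, mul_zero, zero_smul, sub_zero, polar_comm Q y v, hvy]
    simp
  by_contra hcon
  push Not at hcon
  -- then every block is invariant
  have hinv : ∀ l', ∀ x ∈ D l', m.1 x ∈ D l' := by
    intro l'
    obtain ⟨hS, hSk, hSq⟩ := himg m l'
    obtain ⟨e, he, hQe⟩ := exists_iso_image hD hvp l'
    obtain ⟨i', hi'⟩ : ∃ i', (D l').map (m.1 : V →ₗ[F] V) ≤ D i' := by
      by_contra h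
      push Not at h
      obtain ⟨z, hz, hzc, hzu⟩ := exists_mixed hnd hD hS hSk hk hk3 hSq h
        (Submodule.mem_map_of_mem he)
        (by rw [LinearEquiv.coe_coe, map_orth m, hQe]; exact hQv)
      obtain ⟨z₀, hz₀, rfl⟩ := hz
      simp only [LinearEquiv.coe_coe, map_orth m, hQe] at hzc hzu
      have hpair := (pair_blocks hnd hh.dim_big hD hH hvp hz₀ hQv hzc).map hm
      rw [hmv] at hpair
      obtain ⟨i'', hi''⟩ := hcon (m.1 z₀) v p hvp hpair.symm (by rw [map_orth m]; exact hzc)
      exact hzu i'' hi''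
    obtain ⟨f, hf, hf0⟩ := Submodule.exists_mem_ne_zero_of_ne_bot
      (p := D l' ⊓ LinearMap.ker (polarBilin Q y) ⊓ LinearMap.ker (polarBilin Q x')) (fun hb => by
        have h1 := QuadClassify.finrank_ker_inf (D l') (polarBilin Q y)
        have h2 := QuadClassify.finrank_ker_inf (D l' ⊓ LinearMap.ker (polarBilin Q y)) (polarBilin Q x')
        rw [hD.dim] at h1
        rw [hb, finrank_bot] at h2
        omega)
    have hmf : m.1 f = f := by
      rw [hmx, show polar Q x' f = 0 from hf.2, mul_zero, zero_smul, sub_zero,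
        show polar Q y f = 0 from hf.1.2]
      simp
    have hfi : f ∈ D i' := by
      have h := hi' (Submodule.mem_map_of_mem hf.1.1)
      rwa [LinearEquiv.coe_coe, hmf] at h
    have : i' = l' := hπ.eq_of_mem hD hf.1.1 (by rw [hπ.self hD hfi]; exact hf0)
    subst this
    exact fun x hx => hi' (Submodule.mem_map_of_mem hx)
  have hindep := indep_pair hy0 hsplit.1
  -- block vectors in the plane of y and x'
  have hs : ∀ r, π r y ≠ 0 → ∃ s ∈ D r, s ≠ 0 ∧ s ∈ Submodule.span F {y, x'} := by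
    intro r hr
    obtain ⟨w, hw, hwy⟩ : ∃ w ∈ D r, polar Q y w ≠ 0 := by
      by_contra h
      push Not at h
      exact hr (hD.nd r _ (hπ.mem r y) fun z hz => by
        rw [polar_comm, ← hπ.polar_eq r z hz y, polar_comm]; exact h z hz)
    set a := (Q x')⁻¹ * polar Q x' w with ha
    set b := (Q y)⁻¹ * polar Q y (w - a • x') with hb
    refine ⟨w - m.1 w, (D r).sub_mem hw (hinv r w hw), fun h0 => ?_, ?_⟩
    · have hab : b • y + a • x' = 0 := by
        rw [← h0, hmx, ← ha, ← hb]; abel
      obtain ⟨hb0, ha0⟩ := hindep b a hab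
      rw [ha0, zero_smul, sub_zero] at hb
      rw [hb, mul_eq_zero] at hb0
      exact hwy (hb0.resolve_left (inv_ne_zero hQy'))
    · rw [hmx, ← ha, ← hb, show w - (w - a • x' - b • y) = b • y + a • x' by abel]
      exact Submodule.mem_span_pair.2 ⟨b, a, rfl⟩
  obtain ⟨si, hsi, hsi0, hsiS⟩ := hs i hi
  obtain ⟨sj, hsj, hsj0, hsjS⟩ := hs j hj
  have hli : LinearIndependent F ![si, sj] := LinearIndependent.pair_iff.2 fun p r hpr => by
    have h1 := congrArg (π i) hpr
    rw [map_add, map_smul, map_smul, hπ.self hD hsi, hπ.other hD (Ne.symm hji) hsj, smul_zero,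
      add_zero, map_zero, smul_eq_zero] at h1
    have h2 := congrArg (π j) hpr
    rw [map_add, map_smul, map_smul, hπ.self hD hsj, hπ.other hD hji hsi, smul_zero,
      zero_add, map_zero, smul_eq_zero] at h2
    exact ⟨h1.resolve_right hsi0, h2.resolve_right hsj0⟩
  have heq : Submodule.span F {si, sj} = Submodule.span F {y, x'} := by
    refine Submodule.eq_of_le_of_finrank_le (Submodule.span_le.2 (by
      rintro z (rfl | rfl)
      · exact hsiS
      · exact hsjS)) ?_
    have h2 : finrank F (Submodule.span F {si, sj}) = 2 := by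
      have := finrank_span_eq_card hli
      rw [Matrix.range_cons_cons_empty, Fintype.card_fin] at this
      exact this
    have h3 : finrank F (Submodule.span F {y, x'}) ≤ 2 := by
      have := finrank_span_finset_le_card (R := F) (({y, x'} : Finset V))
      rw [Finset.coe_pair] at this
      exact this.trans Finset.card_le_two
    omega
  obtain ⟨α, β, hαβ⟩ := Submodule.mem_span_pair.1
    (heq.ge (Submodule.subset_span (Set.mem_insert _ _)) : y ∈ Submodule.span F {si, sj})
  have hcomp : ∀ r, r ≠ i → r ≠ j → π r y = 0 := fun r hri hrj => by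
    rw [← hαβ, map_add, map_smul, map_smul, hπ.other hD hri hsi, hπ.other hD hrj hsj]; simp
  refine hsplit.2 ⟨hcomp, ?_⟩
  have hyi : π i y = α • si := by
    rw [← hαβ, map_add, map_smul, map_smul, hπ.self hD hsi, hπ.other hD (Ne.symm hji) hsj]; simp
  have hyj : π j y = β • sj := by
    rw [← hαβ, map_add, map_smul, map_smul, hπ.self hD hsj, hπ.other hD hji hsi]; simp
  have hα : α ≠ 0 := fun h => hi (by rw [hyi, h, zero_smul])
  have hβ : β ≠ 0 := fun h => hj (by rw [hyj, h, zero_smul])
  obtain ⟨c, d, hcd⟩ := Submodule.mem_span_pair.1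
    (heq.ge (Submodule.subset_span (Set.mem_insert_of_mem _ rfl)) : x' ∈ Submodule.span F {si, sj})
  refine Submodule.mem_span_pair.2 ⟨c / α, d / β, ?_⟩
  rw [hyi, hyj, smul_smul, smul_smul, div_mul_cancel₀ _ hα, div_mul_cancel₀ _ hβ, hcd]

end Cfsg.Agent.OmegaDecompClass
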