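import Mathlib
import Cfsg.Agent.Lib.OmegaDecompClass

/-!
Orthogonal decompositions: an overgroup of the stabiliser contains a Siegel element at a block vector
moving into a second block.
-/

set_option autoImplicit false

namespace Cfsg.Agent.OmegaDecompGain

open QuadraticMap Module
open Cfsg.Agent.OrthUnitaryQuad Cfsg.Agent.OrthUnitaryPrelude Cfsg.Agent.OrthUnitaryRefl
  Cfsg.Agent.OrthUnitaryOmega Cfsg.Agent.OmegaClasses Cfsg.Agent.OmegaGeo
  Cfsg.Agent.OrthUnitarySimple Cfsg.Agent.OmegaStabSingular Cfsg.Agent.OmegaDecomp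
  Cfsg.Agent.OmegaDecompClass
open Cfsg.Agent.QuadClassify (Nondeg Aniso exists_partner pair_complement)

/-- The equation `γ y² = c + d s²` in non-zero unknowns, for odd fields of order at least five. -/
theorem exists_solution {F : Type*} [Field F] [Fintype F] (h2 : (2 : F) ≠ 0)
    (h5 : 5 ≤ Fintype.card F) {γ c d : F} (hγ : γ ≠ 0) (hc : c ≠ 0) (hd : d ≠ 0) :
    (∃ y s : F, y ≠ 0 ∧ s ≠ 0 ∧ γ * y ^ 2 = c + d * s ^ 2) ∨
      (Fintype.card F = 5 ∧ IsSquare (γ * c) ∧ IsSquare (γ * d)) := by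
  classical
  set R : F → Finset F := fun a => Finset.univ.filter fun τ => τ ^ 2 = a with hR
  have hroots : ∀ a, (R a).card ≤ 2 := by
    intro a
    rcases (R a).eq_empty_or_nonempty with he | ⟨r, hr⟩
    · simp [he]
    · refine (Finset.card_le_card (fun τ hτ => ?_ : R a ⊆ ({r, -r} : Finset F))).trans
        Finset.card_le_two
      simp only [hR, Finset.mem_filter, Finset.mem_univ, true_and] at hτ hr
      simpa using sq_eq_sq_iff_eq_or_eq_neg.1 (hτ.trans hr.symm)
  have havoid : ∀ S : Finset F, S.card < Fintype.card F → ∃ τ : F, τ ∉ S := fun S hS => by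
    obtain ⟨τ, -, hτ⟩ := Finset.exists_mem_notMem_of_card_lt_card (s := S) (t := Finset.univ)
      (by rwa [Finset.card_univ])
    exact ⟨τ, hτ⟩
  by_cases hcs : IsSquare (γ * c)
  · by_cases h : Fintype.card F = 5 ∧ IsSquare (γ * d)
    · exact Or.inr ⟨h.1, hcs, h.2⟩
    obtain ⟨e, he⟩ := hcs
    have he0 : e ≠ 0 := fun h0 => mul_ne_zero hγ hc (by rw [he, h0, zero_mul])
    obtain ⟨τ, hτ⟩ := havoid (insert 0 (R (d / γ) ∪ R (-(d / γ)))) (by
      have h1 := Finset.card_insert_le (0 : F) (R (d / γ) ∪ R (-(d / γ)))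
      have h3 := Finset.card_union_le (R (d / γ)) (R (-(d / γ)))
      have := hroots (-(d / γ))
      rcases (R (d / γ)).eq_empty_or_nonempty with he | ⟨r, hr⟩
      · rw [he, Finset.card_empty] at h3; rw [he] at h1 ⊢; omega
      · have := hroots (d / γ)
        simp only [hR, Finset.mem_filter, Finset.mem_univ, true_and, eq_div_iff hγ] at hr
        have h6 : Fintype.card F ≠ 5 := fun h' => h ⟨h', γ * r, by linear_combination -γ * hr⟩
        omega)
    simp only [hR, Finset.mem_insert, Finset.mem_union, Finset.mem_filter, Finset.mem_univ, true_and,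
      not_or] at hτ
    obtain ⟨hτ0, hτ1, hτ2⟩ := hτ
    have hden : d - γ * τ ^ 2 ≠ 0 := fun h0 => hτ1 (by rw [eq_div_iff hγ]; linear_combination -h0)
    have hnum : d + γ * τ ^ 2 ≠ 0 := fun h0 => hτ2 (by
      rw [← neg_div, eq_div_iff hγ]; linear_combination h0)
    refine Or.inl ⟨e / γ * ((d + γ * τ ^ 2) / (d - γ * τ ^ 2)), 2 * e * τ / (d - γ * τ ^ 2),
      mul_ne_zero (div_ne_zero he0 hγ) (div_ne_zero hnum hden),
      div_ne_zero (mul_ne_zero (mul_ne_zero h2 he0) hτ0) hden, ?_⟩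
    field_simp
    linear_combination (-(d - γ * τ ^ 2) ^ 2) * he
  · obtain ⟨y₀, s₀, hys⟩ := QuadClassify.exists_two_squares h2 hγ (neg_ne_zero.2 hd) c
    have hys' : γ * y₀ ^ 2 = c + d * s₀ ^ 2 := by linear_combination hys
    have hs : ∀ y s : F, γ * y ^ 2 = c + d * s ^ 2 → s ≠ 0 := fun y s h h0 =>
      hcs ⟨γ * y, by rw [h0] at h; linear_combination -γ * h⟩
    by_cases hy : y₀ = 0
    · obtain ⟨τ, hτ⟩ := havoid (insert 0 (R (d / γ))) (by
        have h1 := Finset.card_insert_le (0 : F) (R (d / γ))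
        have := hroots (d / γ)
        omega)
      simp only [hR, Finset.mem_insert, Finset.mem_filter, Finset.mem_univ, true_and, not_or] at hτ
      obtain ⟨hτ0, hτ1⟩ := hτ
      have hs0 := hs y₀ s₀ hys'
      subst hy
      have hden : γ * τ ^ 2 - d ≠ 0 := fun h0 => hτ1 (by rw [eq_div_iff hγ]; linear_combination h0)
      obtain ⟨l, hl, hl0⟩ : ∃ l : F, l * (γ * τ ^ 2 - d) = 2 * d * s₀ ∧ l ≠ 0 :=
        ⟨2 * d * s₀ / (γ * τ ^ 2 - d), div_mul_cancel₀ _ hden,
          div_ne_zero (mul_ne_zero (mul_ne_zero h2 hd) hs0) hden⟩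
      have h : γ * (τ * l) ^ 2 = c + d * (s₀ + l) ^ 2 := by linear_combination hys' + l * hl
      exact Or.inl ⟨τ * l, s₀ + l, mul_ne_zero hτ0 hl0, hs _ _ h, h⟩
    · exact Or.inl ⟨y₀, s₀, hy, hs _ _ hys', hys'⟩

variable {F V : Type*} [Field F] [Fintype F] [AddCommGroup V] [Module F V] [FiniteDimensional F V]
  {Q : QuadraticForm F V} {t k : ℕ} {D : Fin t → Submodule F V} {π : Fin t → V →ₗ[F] V}
  {M : Subgroup (orth Q)}

omit [Fintype F] [FiniteDimensional F V] in
/-- A vector with two components lies in no member. -/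
theorem not_mem_of_two [FiniteDimensional F V] (hD : Dec Q D k) (hπ : Comp Q D π) {x : V}
    {i i' : Fin t} (hne : i ≠ i') (hi : π i x ≠ 0) (hi' : π i' x ≠ 0) (r : Fin t) : x ∉ D r :=
  fun h => hne ((hπ.eq_of_mem hD h hi).trans (hπ.eq_of_mem hD h hi').symm)

omit [Fintype F] in
theorem exists_other (hπ : Comp Q D π) {x : V} (hx : ∀ i, x ∉ D i) (l : Fin t) :
    ∃ i, i ≠ l ∧ π i x ≠ 0 := by
  by_contra h
  push Not at h
  exact hx l (hπ.mem_of_forall h)

omit [Fintype F] [FiniteDimensional F V] in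
theorem exists_singular_component (hπ : Comp Q D π) (hD : Dec Q D k) [FiniteDimensional F V] {x : V}
    (hx : Q x ≠ 0) : ∃ l, Q (π l x) ≠ 0 := by
  by_contra h
  push Not at h
  exact hx (by rw [hπ.value hD x, Finset.sum_eq_zero fun i _ => h i])

/-- The pairs of `M` link `x` to every block vector of its value. -/
def Rep (M : Subgroup (orth Q)) (D : Fin t → Submodule F V) (x : V) : Prop :=
  Q x ≠ 0 ∧ ∀ p, ∀ v ∈ D p, Q v = Q x → PairIn M x v

theorem rep_of_pair (hnd : (polarBilin Q).Nondegenerate) (hh : Hyps Q D k) (hD : Dec Q D k)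
    (hH : Contains M D) {x v : V} {j : Fin t} (hv : v ∈ D j) (hxv : PairIn M x v)
    (hc : SameClass (Q v) (Q x)) : Rep M D x := by
  refine ⟨hc.1, fun p w hw hQw => hxv.trans ?_⟩
  obtain ⟨-, hQv, -⟩ := hxv
  exact pair_blocks hnd hh.dim_big hD hH hv hw hQv (by rw [hQw]; exact hc)

omit [Fintype F] in
theorem siegel_blocks (hD : Dec Q D k) {l : Fin t} {u d : V} (hu : u ∈ D l) (hd : d ∈ D l)
    (hQu : Q u = 0) (hud : polar Q u d = 0) (r : Fin t) :
    ∀ z ∈ D r, (siegel Q u d hQu hud).1 z ∈ D r := by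
  intro z hz
  rw [siegel_apply]
  rcases eq_or_ne l r with rfl | hne
  · exact (D l).sub_mem ((D l).add_mem hz ((D l).smul_mem _ hd)) ((D l).smul_mem _ hu)
  · rw [hD.orth l r hne u hu z hz, hD.orth l r hne d hd z hz]; simpa using hz

/-- A Siegel element of a member moves `x` along a singular vector. -/
theorem exists_gain (hnd : (polarBilin Q).Nondegenerate) (hh : Hyps Q D k) (hD : Dec Q D k)
    (hπ : Comp Q D π) (hH : Contains M D) {x : V} (hx : Rep M D x) (hmix : ∀ i, x ∉ D i)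
    {l : Fin t} {u : V} (hu : u ∈ D l) (hQu : Q u = 0) (hux : polar Q u x = 0)
    (hne : π l x ∉ Submodule.span F {u}) (hu0 : u ≠ 0) :
    ∃ (w : V) (hw : polar Q u w = 0), siegel Q u w hQu hw ∈ M ∧ ∃ i, i ≠ l ∧ π i w ≠ 0 := by
  have hk := hh.three
  obtain ⟨hQx, hxv⟩ := hx
  obtain ⟨f, hf, hQf, huf⟩ := exists_partner Q (hD.nd l) hu hu0 hQu
  obtain ⟨d, hd, hud, hdx⟩ : ∃ d ∈ D l, polar Q u d = 0 ∧ polar Q d x ≠ 0 := by
    by_contra h
    push Not at h
    refine hne (Submodule.mem_span_singleton.2 ⟨polar Q f x, ?_⟩)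
    refine (hπ.uniq hD ((D l).smul_mem _ hu) fun z hz => ?_).symm
    have := h (z - polar Q u z • f) ((D l).sub_mem hz ((D l).smul_mem _ hf))
      (by rw [polar_sub_right, polar_smul_right, huf]; simp)
    rw [polar_sub_left, polar_smul_left, sub_eq_zero] at this
    rw [this, polar_smul_right, polar_comm Q z u, smul_eq_mul, smul_eq_mul, mul_comm]
  set h := siegel Q u d hQu hud with hdef
  have hhM : h ∈ M := hH _ (sGroup_le_commutator hnd hh.dim_big (siegel_mem hnd hh.dim_big hQu hud))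
    fun r => ⟨r, siegel_blocks hD hu hd hQu hud r⟩
  obtain ⟨p, hpl⟩ : ∃ p, p ≠ l := by
    haveI : Nontrivial (Fin t) := Fin.nontrivial_iff_two_le.2 hh.two_le
    exact exists_ne l
  obtain ⟨v, hv, hQv⟩ := nondeg_represents (hD.nd p) (by rw [hD.dim]; omega) (Q x)
  have hhv : h.1 v = v := by
    rw [hdef, siegel_apply, hD.orth l p hpl.symm u hu v hv, hD.orth l p hpl.symm d hd v hv]; simp
  have hhx : h.1 x = x + (-(polar Q d x)) • u := by
    rw [hdef, siegel_apply, hux]
    simp [sub_eq_add_neg]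
  have hp := hxv p v hv hQv
  have hp' := hp.map hhM
  rw [hhv, hhx] at hp'
  obtain ⟨_, _, hm⟩ := hp.trans hp'.symm
  set a := -(polar Q d x) / Q x with ha
  have ha0 : a ≠ 0 := div_ne_zero (neg_ne_zero.2 hdx) hQx
  have huw : polar Q u (a • x) = 0 := by rw [polar_smul_right, hux, smul_zero]
  have hQa : Q (a • x) ≠ 0 := by
    rw [QuadraticMap.map_smul, smul_eq_mul]; exact mul_ne_zero (mul_ne_zero ha0 ha0) hQx
  obtain ⟨i, hil, hi⟩ := exists_other hπ hmix l
  refine ⟨a • x, huw, ?_, i, hil, by rw [map_smul]; exact smul_ne_zero ha0 hi⟩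
  have e : a • x + Q (a • x) • u = a • (x + (-(polar Q d x)) • u) := by
    rw [QuadraticMap.map_smul, smul_eq_mul, smul_add, smul_smul,
      show a * a * Q x = a * -(polar Q d x) by rw [ha]; field_simp]
  rw [siegel_eq_refl_mul hQu huw hQa, refl_smul x hQx ha0, refl_congr e, refl_smul _ _ ha0]
  exact hm

/-- Change the component `l` of `x` by a pair through another member. -/
theorem exists_step (hnd : (polarBilin Q).Nondegenerate) (hh : Hyps Q D k) (h3 : 3 ≤ t)
    (h2 : (2 : F) ≠ 0) (hD : Dec Q D k) (hπ : Comp Q D π) (hH : Contains M D) {x : V}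
    (hx : Rep M D x) {l : Fin t} (hl : π l x ≠ 0) {s : F} (hs : s ≠ 0) :
    ∃ x', Rep M D x' ∧ Q x' = Q x ∧ Q (π l x') = Q x + (Q (π l x) - Q x) * s ^ 2 ∧
      ∀ i, i ≠ l → π i x' = -(s • π i x) := by
  classical
  have hk := hh.three
  obtain ⟨hQx, hxv⟩ := hx
  obtain ⟨j, hj⟩ := exists_singular_component hπ hD hQx
  have hperp : ∀ r, Q (π r x) ≠ 0 → ∀ c : F,
      ∃ z ∈ D r, polar Q (π r x) z = 0 ∧ Q z = c := by
    intro r hr c
    have hU : Nondeg Q (D r ⊓ LinearMap.ker (polarBilin Q (π r x))) := by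
      intro z hz hzU
      refine hD.nd r z hz.1 fun e he => ?_
      have hzr : polar Q (π r x) z = 0 := hz.2
      have := hzU (e - (polar Q (π r x) e / (2 * Q (π r x))) • π r x)
        ⟨(D r).sub_mem he ((D r).smul_mem _ (hπ.mem r x)), by
          show polar Q (π r x) _ = 0
          rw [polar_sub_right, polar_smul_right, polar_self_mul, smul_eq_mul,
            div_mul_cancel₀ _ (mul_ne_zero h2 hr), sub_self]⟩
      rwa [polar_sub_right, polar_smul_right, polar_comm Q z (π r x), hzr, smul_zero,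
        sub_zero] at this
    obtain ⟨z, hz, hQz⟩ := nondeg_represents hU
      (by have := QuadClassify.finrank_ker_inf (D r) (polarBilin Q (π r x)); rw [hD.dim] at this; omega) c
    exact ⟨z, hz.1, hz.2, hQz⟩
  obtain ⟨w, hw, hQw, hxw⟩ : ∃ w ∈ D l, Q w = Q x ∧ polar Q (π l x) w = s * Q x := by
    by_cases hb : Q (π l x) = 0
    · obtain ⟨f, hf, hQf, hxf⟩ := exists_partner Q (hD.nd l) (hπ.mem l x) hl hb
      refine ⟨s⁻¹ • π l x + (s * Q x) • f,
        (D l).add_mem ((D l).smul_mem _ (hπ.mem l x)) ((D l).smul_mem _ hf), ?_, ?_⟩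
      · rw [QuadraticMap.map_add (⇑Q), QuadraticMap.map_smul, QuadraticMap.map_smul, hb, hQf,
          polar_smul_left, polar_smul_right, hxf]
        simp only [smul_eq_mul, mul_zero, zero_add, mul_one]
        rw [← mul_assoc, inv_mul_cancel₀ hs, one_mul]
      · rw [polar_add_right, polar_smul_right, polar_smul_right, polar_self_mul, hb, hxf]
        simp
    · set α := s * Q x / (2 * Q (π l x)) with hα
      obtain ⟨z, hz, hxz, hQz⟩ := hperp l hb (Q x - α * α * Q (π l x))
      refine ⟨α • π l x + z, (D l).add_mem ((D l).smul_mem _ (hπ.mem l x)) hz, ?_, ?_⟩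
      · rw [QuadraticMap.map_add (⇑Q), QuadraticMap.map_smul, polar_smul_left, hxz, hQz]
        simp
      · rw [polar_add_right, polar_smul_right, polar_self_mul, hxz, add_zero, smul_eq_mul, hα,
          div_mul_cancel₀ _ (mul_ne_zero h2 hb)]
  obtain ⟨p, -, hp⟩ := Finset.exists_mem_notMem_of_card_lt_card
    (s := ({l, j} : Finset (Fin t))) (t := Finset.univ) (by
      rw [Finset.card_univ, Fintype.card_fin]; exact lt_of_le_of_lt Finset.card_le_two (by omega))
  simp only [Finset.mem_insert, Finset.mem_singleton, not_or] at hp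
  obtain ⟨v, hv, hQv⟩ := nondeg_represents (hD.nd p) (by rw [hD.dim]; omega) (Q x)
  obtain ⟨z, hz, hxz, hQz⟩ := hperp j hj (Q x)
  obtain ⟨_, hQv', hm⟩ := hxv p v hv hQv
  set m := refl Q x hQx * refl Q v hQv' with hmdef
  have hmw : m.1 w = w - s • x := by
    rw [hmdef, orth_mul_apply, refl_apply Q v, hD.orth p l hp.1 v hv w hw]
    simp only [mul_zero, zero_smul, sub_zero]
    rw [refl_apply, polar_comm Q x w, hπ.polar_eq l w hw x, polar_comm Q w, hxw]
    congr 2
    field_simp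
  have hmz : m.1 z = z := by
    rw [hmdef, orth_mul_apply, refl_apply Q v, hD.orth p j hp.2 v hv z hz]
    simp only [mul_zero, zero_smul, sub_zero]
    rw [refl_apply, polar_comm Q x z, hπ.polar_eq j z hz x, polar_comm Q z, hxz]
    simp
  have hQwn : Q w ≠ 0 := by rw [hQw]; exact hQx
  have hpair : PairIn M (m.1 w) (m.1 z) :=
    (pair_blocks hnd hh.dim_big hD hH hw hz hQwn ⟨by rw [hQz]; exact hQx, by rw [hQw, hQz]; exact ⟨_, rfl⟩⟩).map hm
  rw [hmz] at hpair
  refine ⟨m.1 w, rep_of_pair hnd hh hD hH hz hpair ?_, (map_orth m w).trans hQw, ?_, fun i hi => ?_⟩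
  · rw [map_orth m, hQw, hQz]; exact sameClass_refl hQx
  · rw [hmw, map_sub, map_smul, hπ.self hD hw, sub_eq_add_neg, ← neg_smul,
      QuadraticMap.map_add (⇑Q), QuadraticMap.map_smul, polar_smul_right, polar_comm Q w, hxw, hQw]
    simp only [smul_eq_mul]
    ring
  · rw [hmw, map_sub, map_smul, hπ.other hD hi hw, zero_sub]

omit [Fintype F] in
/-- Isometric members carry a singular vector orthogonal to a vector of one fixed value. -/
theorem exists_gamma (h2 : (2 : F) ≠ 0) [Finite F] (hD : Dec Q D k) (hk : 3 ≤ k) (i₀ : Fin t) :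
    ∃ γ : F, γ ≠ 0 ∧ ∀ l, ∀ a ∈ D l, SameClass γ (Q a) →
      ∃ u ∈ D l, u ≠ 0 ∧ Q u = 0 ∧ polar Q u a = 0 := by
  obtain ⟨e₀, he₀, he₀0, hQe₀⟩ := QuadClassify.exists_singular Q (D i₀) (by rw [hD.dim]; omega)
  obtain ⟨f₀, hf₀, hQf₀, hef₀⟩ := exists_partner Q (hD.nd i₀) he₀ he₀0 hQe₀
  obtain ⟨hnU, hdim⟩ := pair_complement Q (hD.nd i₀) he₀ hf₀ hQe₀ hQf₀ hef₀
  obtain ⟨z₀, hz₀, hQz₀⟩ : ∃ z ∈ D i₀ ⊓ LinearMap.ker (polarBilin Q e₀) ⊓
      LinearMap.ker (polarBilin Q f₀), Q z ≠ 0 := by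
    by_contra h
    push Not at h
    obtain ⟨z, hz, hz0⟩ := Submodule.exists_mem_ne_zero_of_ne_bot
      (p := D i₀ ⊓ LinearMap.ker (polarBilin Q e₀) ⊓ LinearMap.ker (polarBilin Q f₀))
      (fun hb => by rw [hb, finrank_bot, hD.dim] at hdim; omega)
    exact hz0 (hnU z hz fun w hw => polar_of_sing h hz hw)
  refine ⟨Q z₀, hQz₀, fun l a ha hca => ?_⟩
  obtain ⟨φ, hφ⟩ := hD.iso i₀ l
  set e : V := (φ ⟨e₀, he₀⟩ : V) with hedef
  set z : V := (φ ⟨z₀, hz₀.1.1⟩ : V) with hzdef
  have he : e ∈ D l := (φ _).2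
  have hz : z ∈ D l := (φ _).2
  have hQe : Q e = 0 := (hφ _).trans hQe₀
  have hQz : Q z = Q z₀ := hφ _
  have hze : polar Q z e = 0 := by
    have h := hφ (⟨z₀, hz₀.1.1⟩ + ⟨e₀, he₀⟩)
    rw [map_add] at h
    simp only [Submodule.coe_add] at h
    rw [← hedef, ← hzdef, QuadraticMap.map_add (⇑Q), QuadraticMap.map_add (⇑Q), hQe, hQe₀, hQz,
      polar_comm Q z₀ e₀, show polar Q e₀ z₀ = 0 from hz₀.1.2] at h
    linear_combination h
  have he0 : e ≠ 0 := fun h => he₀0 (congrArg Subtype.val (φ.map_eq_zero_iff.1 (Subtype.ext h) : (⟨e₀, he₀⟩ : D i₀) = 0))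
  -- a multiple of `a` of value `γ`
  obtain ⟨hQa, r, hr⟩ := hca
  have hr0 : r ≠ 0 := fun h => mul_ne_zero hQz₀ hQa (by rw [hr, h, zero_mul])
  set c := Q z₀ / r with hc
  have hc0 : c ≠ 0 := div_ne_zero hQz₀ hr0
  have hQca : Q (c • a) = Q z := by
    rw [QuadraticMap.map_smul, hQz, smul_eq_mul, hc]
    field_simp
    linear_combination hr
  have key : ∀ ε : F, ε * ε = 1 → Q (ε • (c • a) - z) ≠ 0 →
      ∃ u ∈ D l, u ≠ 0 ∧ Q u = 0 ∧ polar Q u a = 0 := by
    intro ε hε hne
    set R := refl Q (ε • (c • a) - z) hne with hR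
    have hRz : R.1 z = ε • (c • a) := by
      have hv : Q (ε • (c • a) - z) = -polar Q (ε • (c • a) - z) z := by
        rw [sub_eq_add_neg, QuadraticMap.map_add (⇑Q), QuadraticMap.map_neg,
          QuadraticMap.map_smul, hQca, polar_neg_right, polar_add_left, polar_neg_left,
          polar_self_mul, smul_eq_mul, hε]
        ring
      have hp : polar Q (ε • (c • a) - z) z ≠ 0 := fun h => hne (by rw [hv, h, neg_zero])
      rw [hR, refl_apply, hv, inv_neg, neg_mul, inv_mul_cancel₀ hp, neg_one_smul, sub_neg_eq_add,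
        add_sub_cancel]
    refine ⟨R.1 e, ?_, fun h => he0 (R.1.map_eq_zero_iff.1 h), by rw [map_orth R, hQe], ?_⟩
    · rw [hR, refl_apply]
      exact (D l).sub_mem he ((D l).smul_mem _ ((D l).sub_mem
        ((D l).smul_mem _ ((D l).smul_mem _ ha)) hz))
    · have h := polar_orth R e z
      rw [hRz, polar_comm Q e z, hze, polar_smul_right, polar_smul_right, smul_eq_mul, smul_eq_mul] at h
      have hε0 : ε ≠ 0 := fun h => by rw [h, zero_mul] at hε; exact zero_ne_one hε
      exact (mul_eq_zero.1 ((mul_eq_zero.1 h).resolve_left hε0)).resolve_left hc0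
  by_cases h : Q ((1 : F) • (c • a) - z) = 0
  · refine key (-1) (by ring) fun h' => ?_
    rw [sub_eq_add_neg, QuadraticMap.map_add (⇑Q), QuadraticMap.map_neg, QuadraticMap.map_smul,
      polar_neg_right, polar_smul_left, hQca] at h h'
    simp only [smul_eq_mul] at h h'
    exact mul_ne_zero (mul_ne_zero h2 h2) (hQz ▸ hQz₀ : Q z ≠ 0) (by linear_combination h + h')
  · exact key 1 (by ring) h

/-- A Siegel element at a vector of a member moving into a second member. -/
def Mixed (M : Subgroup (orth Q)) (D : Fin t → Submodule F V) (π : Fin t → V →ₗ[F] V) : Prop :=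
  ∃ (l : Fin t) (u w : V) (hQu : Q u = 0) (hw : polar Q u w = 0), u ∈ D l ∧ u ≠ 0 ∧
    siegel Q u w hQu hw ∈ M ∧ ∃ i, i ≠ l ∧ π i w ≠ 0

/-- An overgroup contains a Siegel element at a block vector moving into a second member. -/
theorem exists_mixed_siegel (hnd : (polarBilin Q).Nondegenerate) (hh : Hyps Q D k) (hD : Dec Q D k)
    (hπ : Comp Q D π) (hH : Contains M D) {g : orth Q} (hg : g ∈ M)
    (hgD : ¬ ∀ i, ∃ j, ∀ x ∈ D i, g.1 x ∈ D j) :
    Mixed M D π := by
  classical
  have hk := hh.three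
  obtain ⟨x, v, j, hv, hxv, hc, hmix⟩ := exists_grow hnd hD hπ hh hH hg hgD
  have hx := rep_of_pair hnd hh hD hH hv hxv hc
  have done : ∀ y, Rep M D y → (∀ i, y ∉ D i) → ∀ l u, u ∈ D l → u ≠ 0 → Q u = 0 →
      polar Q u (π l y) = 0 → Q (π l y) ≠ 0 → Mixed M D π := fun y hy hym l u hu hu0 hQu huy hQy => by
    obtain ⟨w, hw, hmem, hi⟩ := exists_gain hnd hh hD hπ hH hy hym hu hQu
      (by rw [hπ.polar_eq l u hu y, huy]) (fun h => hQy (by
        obtain ⟨c, hc⟩ := Submodule.mem_span_singleton.1 h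
        rw [← hc, QuadraticMap.map_smul, hQu, smul_zero])) hu0
    exact (⟨l, u, w, hQu, hw, hu, hu0, hmem, hi⟩ : Mixed M D π)
  obtain ⟨l, hl⟩ := exists_singular_component hπ hD hx.1
  by_cases h4 : 4 ≤ k
  · obtain ⟨u, hu, hu0, hQu⟩ := QuadClassify.exists_singular Q
      (D l ⊓ LinearMap.ker (polarBilin Q (π l x)))
      (by have := QuadClassify.finrank_ker_inf (D l) (polarBilin Q (π l x)); rw [hD.dim] at this; omega)
    exact done x hx hmix l u hu.1 hu0 hQu ((polar_comm _ _ _).trans hu.2) hl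
  -- members of dimension three
  have hk3 : k = 3 := by omega
  have hq := hh.k3 hk3
  have ht := hh.small (by omega)
  have h2 : (2 : F) ≠ 0 := hh.odd3 hk3
  obtain ⟨γ, hγ, hgood⟩ := exists_gamma h2 hD hk l
  have good : ∀ y, Rep M D y → (∀ i, y ∉ D i) → ∀ l', SameClass γ (Q (π l' y)) → Mixed M D π :=
    fun y hy hym l' hc' => by
      obtain ⟨u, hu, hu0, hQu, hua⟩ := hgood l' _ (hπ.mem l' y) hc'
      exact done y hy hym l' u hu hu0 hQu hua hc'.1
  have step := fun {y} (hy : Rep M D y) {l'} (hl' : π l' y ≠ 0) {s : F} (hs : s ≠ 0) =>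
    exists_step hnd hh ht h2 hD hπ hH hy hl' hs
  -- one step solves the equation
  have solve : ∀ y, Rep M D y → (∀ i, y ∉ D i) → ∀ l', π l' y ≠ 0 → Q (π l' y) ≠ Q y → Mixed M D π ∨
      (Fintype.card F = 5 ∧ IsSquare (γ * Q y) ∧ IsSquare (γ * (Q (π l' y) - Q y))) :=
    fun y hy hym l' hl' hne => by
      refine (exists_solution h2 hq hγ hy.1 (sub_ne_zero.2 hne)).imp_left fun ⟨a, s, ha, hs, he⟩ => ?_
      obtain ⟨y', hy', -, hval, hoth⟩ := step hy hl' hs
      obtain ⟨i, hil, hi⟩ := exists_other hπ hym l'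
      have hcl : SameClass γ (Q (π l' y')) := by
        rw [hval, ← he]
        exact ⟨mul_ne_zero hγ (pow_ne_zero 2 ha), γ * a, by ring⟩
      have hl'' : π l' y' ≠ 0 := fun h => hcl.1 (by rw [h, QuadraticMap.map_zero])
      exact good y' hy' (not_mem_of_two hD hπ hil.symm hl'' (by
        rw [hoth i hil]; exact neg_ne_zero.2 (smul_ne_zero hs hi))) l' hcl
  by_cases hcs : IsSquare (γ * Q x)
  · -- the value of `x` is good
    have round : ∀ y, Rep M D y → (∀ i, y ∉ D i) → Q y = Q x → Mixed M D π ∨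
        (Fintype.card F = 5 ∧ ∀ l', Q (π l' y) ≠ 0 → Q (π l' y) = 2 * Q x) := fun y hy hym hQy => by
      refine or_iff_not_imp_left.2 fun hno => ?_
      obtain ⟨i, hi⟩ := exists_singular_component hπ hD hy.1
      have hne : ∀ l', Q (π l' y) ≠ 0 → Q (π l' y) ≠ Q y := fun l' h he =>
        hno (good y hy hym l' ⟨h, by rw [he, hQy]; exact hcs⟩)
      have hnz : ∀ l', Q (π l' y) ≠ 0 → π l' y ≠ 0 := fun l' h h0 => h (by rw [h0, QuadraticMap.map_zero])
      refine ⟨((solve y hy hym i (hnz i hi) (hne i hi)).resolve_left hno).1, fun l' hl' => ?_⟩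
      obtain ⟨h5, ⟨a, ha⟩, b, hb⟩ := (solve y hy hym l' (hnz l' hl') (hne l' hl')).resolve_left hno
      rw [hQy] at ha hb
      have hpow : ∀ r : F, r ≠ 0 → r ^ 4 = 1 := fun r hr => by
        have := FiniteField.pow_card_sub_one_eq_one r hr
        rwa [h5] at this
      have hd0 : Q (π l' y) - Q x ≠ 0 := sub_ne_zero.2 (hQy ▸ hne l' hl')
      have hb0 : b ≠ 0 := fun h => mul_ne_zero hγ hd0 (by rw [hb, h, zero_mul])
      have ha0 : a ≠ 0 := fun h => mul_ne_zero hγ hx.1 (by rw [ha, h, zero_mul])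
      have : (Q (π l' y) - Q x) ^ 2 = Q x ^ 2 := by
        have h1 : (γ * (Q (π l' y) - Q x)) ^ 2 = 1 := by rw [hb]; linear_combination hpow b hb0
        have h2' : (γ * Q x) ^ 2 = 1 := by rw [ha]; linear_combination hpow a ha0
        refine mul_left_cancel₀ (pow_ne_zero 2 hγ) ?_
        linear_combination h1 - h2'
      rcases sq_eq_sq_iff_eq_or_eq_neg.1 this with h | h
      · linear_combination h
      · exact absurd (by linear_combination h : Q (π l' y) = 0) hl'
    rcases round x hx hmix rfl with hres | ⟨h5, hall⟩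
    · exact hres
    -- all non-singular components have twice the value
    obtain ⟨x', hx', hQ', hval, hoth⟩ := step hx (l' := l)
      (fun h => hl (by rw [h, QuadraticMap.map_zero])) (s := (2 : F)) h2
    have h50 : (5 : F) = 0 := by
      have := FiniteField.cast_card_eq_zero F
      rw [h5] at this
      exact_mod_cast this
    obtain ⟨i, i', hii, hil, hi'l, hi, hi'⟩ : ∃ i i', i ≠ i' ∧ i ≠ l ∧ i' ≠ l ∧
        Q (π i x) ≠ 0 ∧ Q (π i' x) ≠ 0 := by
      by_contra h
      push Not at h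
      have hsum := hπ.value hD x
      by_cases h' : ∃ i, i ≠ l ∧ Q (π i x) ≠ 0
      · obtain ⟨i, hil, hi⟩ := h'
        rw [Finset.sum_eq_add l i hil.symm (fun r _ hr => by_contra fun h0 =>
          h0 (h i r hr.2.symm hil hr.1 hi)) (by simp) (by simp), hall l hl, hall i hi] at hsum
        exact hx.1 (by linear_combination -2 * hsum - Q x * h50)
      · push Not at h'
        rw [Finset.sum_eq_single l (fun r _ hr => h' r hr) (by simp), hall l hl] at hsum
        exact hx.1 (by linear_combination -hsum)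
    have hv' : ∀ r, r ≠ l → Q (π r x') = 4 * Q (π r x) := fun r hr => by
      rw [hoth r hr, QuadraticMap.map_neg, QuadraticMap.map_smul, smul_eq_mul]; ring
    have hnz : ∀ r, r ≠ l → Q (π r x) ≠ 0 → Q (π r x') ≠ 0 := fun r hr h => by
      rw [hv' r hr]; exact mul_ne_zero (by rw [show (4 : F) = 2 * 2 by norm_num]; exact mul_ne_zero h2 h2) h
    have hmix' : ∀ r, x' ∉ D r := not_mem_of_two hD hπ hii
      (fun h => hnz i hil hi (by rw [h, QuadraticMap.map_zero]))
      (fun h => hnz i' hi'l hi' (by rw [h, QuadraticMap.map_zero]))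
    refine ((round x' hx' hmix' hQ').resolve_right fun ⟨_, hall'⟩ => ?_)
    have := hall' i (hnz i hil hi)
    rw [hv' i hil, hall i hi] at this
    exact hx.1 (by linear_combination this - Q x * h50)
  · -- the value of `x` is bad
    by_cases hall : ∀ l', π l' x ≠ 0 → Q (π l' x) = Q x
    · obtain ⟨s, hs, hs1⟩ : ∃ s : F, s ≠ 0 ∧ s ^ 2 ≠ 1 := by
        obtain ⟨s, -, hs⟩ := Finset.exists_mem_notMem_of_card_lt_card
          (s := ({0, 1, -1} : Finset F)) (t := Finset.univ) (by
            rw [Finset.card_univ]; exact lt_of_le_of_lt Finset.card_le_three (by omega))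
        simp only [Finset.mem_insert, Finset.mem_singleton, not_or] at hs
        exact ⟨s, hs.1, fun h => (sq_eq_one_iff.1 h).elim hs.2.1 hs.2.2⟩
      obtain ⟨x', hx', hQ', hval, hoth⟩ := step hx (l' := l)
        (fun h => hl (by rw [h, QuadraticMap.map_zero])) hs
      obtain ⟨i, hil, hi⟩ := exists_other hπ hmix l
      have hi' : π i x' ≠ 0 := by rw [hoth i hil]; exact neg_ne_zero.2 (smul_ne_zero hs hi)
      have hl' : π l x' ≠ 0 := fun h => hx.1 (by
        rw [h, QuadraticMap.map_zero, hall l (fun h => hl (by rw [h, QuadraticMap.map_zero]))] at hval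
        linear_combination -hval)
      refine (solve x' hx' (not_mem_of_two hD hπ hil.symm hl' hi') i hi' fun h => hs1 ?_).resolve_right
        fun h => hcs (hQ' ▸ h.2.1)
      rw [hQ', hoth i hil, QuadraticMap.map_neg, QuadraticMap.map_smul, smul_eq_mul, hall i hi] at h
      exact mul_right_cancel₀ hx.1 (by linear_combination h)
    · push Not at hall
      obtain ⟨l', hl', hne⟩ := hall
      exact (solve x hx hmix l' hl' hne).resolve_right fun h => hcs h.2.1

end Cfsg.Agent.OmegaDecompGain
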