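import Mathlib
import Cfsg.Agent.Lib.OmegaDecompGain
import Cfsg.Agent.Lib.OmegaStabNondeg

/-!
Orthogonal decompositions with members of dimension at least three: stabilisers are maximal.
-/

set_option autoImplicit false

namespace Cfsg.Agent.OmegaDecompFull

open QuadraticMap Module
open Cfsg.Agent.OrthUnitaryQuad Cfsg.Agent.OrthUnitaryPrelude Cfsg.Agent.OrthUnitaryRefl
  Cfsg.Agent.OrthUnitaryOmega Cfsg.Agent.OmegaClasses Cfsg.Agent.OmegaGeo
  Cfsg.Agent.OrthUnitarySimple Cfsg.Agent.OmegaStabSingular Cfsg.Agent.OmegaStabTools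
  Cfsg.Agent.OmegaDecomp Cfsg.Agent.OmegaDecompClass Cfsg.Agent.OmegaDecompGain
open Cfsg.Agent.QuadClassify (Nondeg Aniso exists_partner pair_complement)

variable {F V : Type*} [Field F] [Fintype F] [AddCommGroup V] [Module F V] [FiniteDimensional F V]
  {Q : QuadraticForm F V} {t k : ℕ} {D : Fin t → Submodule F V} {π : Fin t → V →ₗ[F] V}
  {M : Subgroup (orth Q)}

omit [Fintype F] in
theorem refl_mem_block (hD : Dec Q D k) {p r : Fin t} {z : V} (hz : z ∈ D p) (hQz : Q z ≠ 0) :
    ∀ x ∈ D r, (refl Q z hQz).1 x ∈ D r := by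
  intro x hx
  rw [refl_apply]
  rcases eq_or_ne p r with rfl | hne
  · exact (D p).sub_mem hx ((D p).smul_mem _ hz)
  · rw [hD.orth p r hne z hz x hx]; simpa using hx

omit [Fintype F] in
theorem refl_fix_block (hD : Dec Q D k) {p r : Fin t} (hne : p ≠ r) {z : V} (hz : z ∈ D p)
    (hQz : Q z ≠ 0) {x : V} (hx : x ∈ D r) : (refl Q z hQz).1 x = x := by
  rw [refl_apply, hD.orth p r hne z hz x hx]; simp

omit [Fintype F] [FiniteDimensional F V] in
theorem refl_fix (z : V) (hQz : Q z ≠ 0) {x : V} (h : polar Q z x = 0) :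
    (refl Q z hQz).1 x = x := by
  rw [refl_apply, h]; simp

omit [Fintype F] [FiniteDimensional F V] in
theorem siegel_mem_congr (M : Subgroup (orth Q)) {u w w' : V} (hu : Q u = 0)
    (hw : polar Q u w = 0) (hw' : polar Q u w' = 0) (h : w = w')
    (hm : siegel Q u w hu hw ∈ M) : siegel Q u w' hu hw' ∈ M := by
  subst h; exact hm

/-- The vectors paired with `u` by a Siegel element of `M`. -/
def SMem (M : Subgroup (orth Q)) (u w : V) : Prop :=
  ∃ (hu : Q u = 0) (hw : polar Q u w = 0), siegel Q u w hu hw ∈ M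

omit [Fintype F] [FiniteDimensional F V] in
theorem SMem.add {u w w' : V} (h : SMem M u w) (h' : SMem M u w') : SMem M u (w + w') := by
  obtain ⟨hu, hw, hm⟩ := h
  obtain ⟨_, hw', hm'⟩ := h'
  refine ⟨hu, by rw [polar_add_right, hw, hw', add_zero], ?_⟩
  have := M.mul_mem hm hm'
  rwa [siegel_mul hu hw hw'] at this

omit [Fintype F] [FiniteDimensional F V] in
theorem SMem.zero {u : V} (hu : Q u = 0) : SMem M u 0 :=
  ⟨hu, polar_zero_right Q u, by
    rw [siegel_eq_one hu (polar_zero_right Q u) (zero_smul F u).symm]; exact M.one_mem⟩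

omit [Fintype F] [FiniteDimensional F V] in
theorem SMem.neg {u w : V} (h : SMem M u w) : SMem M u (-w) := by
  obtain ⟨hu, hw, hm⟩ := h
  have hw' : polar Q u (-w) = 0 := by rw [polar_neg_right, hw, neg_zero]
  refine ⟨hu, hw', ?_⟩
  have h1 := siegel_mul hu hw hw'
  rw [siegel_eq_one hu _ (show w + -w = (0 : F) • u by simp)] at h1
  rw [← inv_eq_of_mul_eq_one_right h1]
  exact M.inv_mem hm

omit [Fintype F] [FiniteDimensional F V] in
theorem SMem.conj {u w : V} {h : orth Q} (hh : h ∈ M) (hs : SMem M u w) (hfix : h.1 u = u) :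
    SMem M u (h.1 w) := by
  obtain ⟨hu, hw, hm⟩ := hs
  refine ⟨hu, by rw [← hfix, polar_orth h, hw], ?_⟩
  have h1 := M.mul_mem (M.mul_mem hh hm) (M.inv_mem hh)
  rw [conj_siegel] at h1
  simp only [hfix] at h1
  exact h1

/-- Space for reflections away from a member, orthogonal to a hyperbolic pair. -/
theorem exists_slot (hh : Hyps Q D k) (hD : Dec Q D k) {l i : Fin t} (hil : i ≠ l) {u f : V}
    (hu : u ∈ D l) (hf : f ∈ D l) (hQu : Q u = 0) (hQf : Q f = 0) (huf : polar Q u f = 1) :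
    ∃ p, p ≠ i ∧ ∀ c : F, ∃ z ∈ D p, Q z = c ∧ polar Q z u = 0 ∧ polar Q z f = 0 := by
  have hk := hh.three
  by_cases h4 : 4 ≤ k
  · obtain ⟨hU, hdim⟩ := pair_complement Q (hD.nd l) hu hf hQu hQf huf
    refine ⟨l, hil.symm, fun c => ?_⟩
    obtain ⟨z, hz, hQz⟩ := nondeg_represents hU (by rw [hD.dim] at hdim; omega) c
    exact ⟨z, hz.1.1, hQz, (polar_comm _ z u).trans hz.1.2, (polar_comm _ z f).trans hz.2⟩
  · classical
    have ht := hh.small (by omega)
    obtain ⟨p, -, hp⟩ := Finset.exists_mem_notMem_of_card_lt_card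
      (s := ({l, i} : Finset (Fin t))) (t := Finset.univ) (by
        rw [Finset.card_univ, Fintype.card_fin]; exact lt_of_le_of_lt Finset.card_le_two (by omega))
    simp only [Finset.mem_insert, Finset.mem_singleton, not_or] at hp
    refine ⟨p, hp.2, fun c => ?_⟩
    obtain ⟨z, hz, hQz⟩ := nondeg_represents (hD.nd p) (by rw [hD.dim]; omega) c
    exact ⟨z, hz, hQz, hD.orth p l hp.1 z hz u hu, hD.orth p l hp.1 z hz f hf⟩

/-- One Siegel element reaching a member gives the whole member. -/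
theorem block_all (hnd : (polarBilin Q).Nondegenerate) (hh : Hyps Q D k) (hD : Dec Q D k)
    (hπ : Comp Q D π) (hH : Contains M D) {l i : Fin t} (hil : i ≠ l) {u w : V} (hu : u ∈ D l)
    (hu0 : u ≠ 0) (hw : SMem M u w) (hwi : π i w ≠ 0) : ∀ y ∈ D i, SMem M u y := by
  classical
  have hk := hh.three
  have hQu := hw.1
  obtain ⟨f, hf, hQf, huf⟩ := exists_partner Q (hD.nd l) hu hu0 hQu
  obtain ⟨p, hpi, hslot⟩ := exists_slot hh hD hil hu hf hQu hQf huf
  have hperp : ∀ y ∈ D i, polar Q u y = 0 := fun y hy => hD.orth l i hil.symm u hu y hy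
  -- a non-zero vector of the member
  obtain ⟨a, ha, hQa, haw⟩ : ∃ a ∈ D i, Q a ≠ 0 ∧ polar Q a w ≠ 0 := by
    by_contra h
    push Not at h
    have hle : D i ≤ LinearMap.ker (polarBilin Q w) := le_of_nonsingular hnd (hD.nd i)
      (by rw [hD.dim]; omega) fun z hz hQz => (polar_comm _ w z).trans (h z hz hQz)
    exact hwi (hD.nd i _ (hπ.mem i w) fun z hz => by
      rw [polar_comm, ← hπ.polar_eq i z hz w, polar_comm]; exact hle hz)
  obtain ⟨b, hb, hbspan, hab⟩ := exists_class_outside (L := Submodule.span F {a}) ha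
    (Submodule.mem_span_singleton_self a) ((Submodule.span_singleton_le_iff_mem _ _).2 ha) hQa
    (by rw [finrank_span_singleton (fun h => hQa (by rw [h, QuadraticMap.map_zero])), hD.dim]; omega)
    (Or.inl (by rw [finrank_span_singleton (fun h => hQa (by rw [h, QuadraticMap.map_zero])), hD.dim]; omega))
  obtain ⟨_, hQb, hm⟩ := pair_blocks hnd hh.dim_big hD hH ha hb hQa hab
  set m := refl Q a hQa * refl Q b hQb with hmdef
  have hmu : m.1 u = u := by
    rw [hmdef, orth_mul_apply, refl_fix_block hD hil hb hQb hu, refl_fix_block hD hil ha hQa hu]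
  have hdiff : m.1 w - w = -(((Q a)⁻¹ * polar Q a ((refl Q b hQb).1 w)) • a +
      ((Q b)⁻¹ * polar Q b w) • b) := by
    rw [hmdef, orth_mul_apply, refl_apply Q a hQa, refl_apply Q b hQb]; abel
  have hy₀ : SMem M u (m.1 w - w) := by
    rw [sub_eq_add_neg]; exact (hw.conj hm hmu).add hw.neg
  have hyi : m.1 w - w ∈ D i := by
    rw [hdiff]
    exact (D i).neg_mem ((D i).add_mem ((D i).smul_mem _ ha) ((D i).smul_mem _ hb))
  have hy0 : m.1 w - w ≠ 0 := by
    intro h0
    rw [hdiff, neg_eq_zero] at h0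
    obtain ⟨e1, e2⟩ := indep_pair (fun h => hQa (by rw [h, QuadraticMap.map_zero])) hbspan _ _ h0
    rw [refl_apply Q b hQb, e2, zero_smul, sub_zero] at e1
    exact mul_ne_zero (inv_ne_zero hQa) haw e1
  -- the set is a subspace
  have hscale : ∀ c : F, ∀ y ∈ D i, SMem M u y → SMem M u (c • y) := by
    intro c y hy hs
    rcases eq_or_ne c 0 with rfl | hc
    · rw [zero_smul]; exact SMem.zero hQu
    have hval : ∀ d : F, Q (u - d • f) = -d := fun d => by
      rw [sub_eq_add_neg, ← neg_smul, QuadraticMap.map_add (⇑Q), QuadraticMap.map_smul, hQu, hQf,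
        polar_smul_right, huf]
      simp
    obtain ⟨z₁, hz₁, hQ₁, hz₁u, hz₁f⟩ := hslot (-1)
    obtain ⟨z₂, hz₂, hQ₂, hz₂u, -⟩ := hslot (-c)
    have h1 : Q (u - f) = -1 := by simpa using hval 1
    obtain ⟨n1, n1', hm1⟩ := pair_blocks hnd hh.dim_big hD hH ((D l).sub_mem hu hf) hz₁
      (by rw [h1]; simp) ⟨by rw [hQ₁]; simp, by rw [h1, hQ₁]; exact ⟨_, rfl⟩⟩
    obtain ⟨n2, n2', hm2⟩ := pair_blocks hnd hh.dim_big hD hH
      ((D l).sub_mem hu ((D l).smul_mem c hf)) hz₂ (by rw [hval]; simpa using hc)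
      ⟨by rw [hQ₂]; simpa using hc, by rw [hval, hQ₂]; exact ⟨_, rfl⟩⟩
    have hk' := M.mul_mem hm1 hm2
    set kk := refl Q (u - f) n1 * refl Q z₁ n1' * (refl Q (u - c • f) n2 * refl Q z₂ n2') with hkk
    have hfix : ∀ x ∈ D i, kk.1 x = x := fun x hx => by
      rw [hkk]
      simp only [orth_mul_apply]
      rw [refl_fix_block hD hpi hz₂ n2' hx, refl_fix_block hD hil.symm ((D l).sub_mem hu ((D l).smul_mem c hf)) n2 hx,
        refl_fix_block hD hpi hz₁ n1' hx, refl_fix_block hD hil.symm ((D l).sub_mem hu hf) n1 hx]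
    have hff : polar Q f f = 0 := by rw [polar_self_mul, hQf, mul_zero]
    have hku : kk.1 u = c • u := by
      rw [hkk]
      simp only [orth_mul_apply]
      have e1 : (refl Q (u - c • f) n2).1 u = c • f := by
        rw [refl_apply, hval, polar_sub_left, polar_smul_left, polar_self_mul, hQu, polar_comm Q f u,
          huf]
        simp [hc]
      have e2 : (refl Q (u - f) n1).1 (c • f) = c • u := by
        rw [refl_apply, h1, polar_sub_left, polar_smul_right, polar_smul_right, hff, huf]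
        simp [smul_sub]
      rw [refl_fix z₂ n2' hz₂u, e1, refl_fix z₁ n1' (by rw [polar_smul_right, hz₁f, smul_zero]), e2]
    obtain ⟨hu', hyu, hmem⟩ := hs
    have h2 := M.mul_mem (M.mul_mem hk' hmem) (M.inv_mem hk')
    rw [conj_siegel] at h2
    simp only [hku, hfix y hy] at h2
    refine ⟨hQu, hperp _ ((D i).smul_mem _ hy), ?_⟩
    rwa [siegel_scale _ _ hQu (hperp _ ((D i).smul_mem _ hy))] at h2
  let A : Submodule F V :=
    { carrier := {y | y ∈ D i ∧ SMem M u y}
      add_mem' := fun ha hb => ⟨(D i).add_mem ha.1 hb.1, ha.2.add hb.2⟩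
      zero_mem' := ⟨(D i).zero_mem, SMem.zero hQu⟩
      smul_mem' := fun c y hy => ⟨(D i).smul_mem c hy.1, hscale c y hy.1 hy.2⟩ }
  have hA : A = D i := by
    refine OmegaStabNondeg.eq_of_invariant (hD.nd i) (fun y hy => hy.1) (y := m.1 w - w) ⟨hyi, hy₀⟩
      hy0 ?_ ?_ (fun h => by have := h.2.1; rw [hD.dim] at this; omega)
    · intro a ha x hx hQa hax z hz
      refine ⟨siegel_blocks hD ha hx hQa hax i z hz.1, hz.2.conj (hH _ (sGroup_le_commutator hnd
        hh.dim_big (siegel_mem hnd hh.dim_big hQa hax)) fun r => ⟨r, siegel_blocks hD ha hx hQa hax r⟩) ?_⟩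
      rw [siegel_apply, hD.orth i l hil a ha u hu, hD.orth i l hil x hx u hu]; simp
    · intro v hv hQv z hz
      obtain ⟨z', hz', hQz', hz'u, -⟩ := hslot (Q v)
      obtain ⟨_, n', hm'⟩ := pair_blocks hnd hh.dim_big hD hH hv hz' hQv
        ⟨by rw [hQz']; exact hQv, by rw [hQz']; exact ⟨_, rfl⟩⟩
      refine ⟨refl_mem_block hD hv hQv z hz.1, ?_⟩
      have := hz.2.conj hm' (by
        rw [orth_mul_apply, refl_fix z' n' hz'u, refl_fix_block hD hil hv hQv hu])
      rwa [orth_mul_apply, refl_fix_block hD hpi hz' n' hz.1] at this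
  intro y hy
  exact (hA.ge hy).2

/-- An element permuting two members and fixing a third member up to two reflections. -/
theorem exists_carry (hnd : (polarBilin Q).Nondegenerate) (hh : Hyps Q D k) (hD : Dec Q D k)
    (hπ : Comp Q D π) (hH : Contains M D) {l i r : Fin t} (hil : i ≠ l) (hrl : r ≠ l) (hri : r ≠ i)
    {u : V} (hu : u ∈ D l) : ∃ m ∈ M, m.1 u = u ∧ ∀ y ∈ D i, m.1 y ∈ D r := by
  classical
  have hk := hh.three
  obtain ⟨φ, hφ⟩ := hD.iso i r
  let a : V →ₗ[F] D i := (π i).codRestrict (D i) (hπ.mem i)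
  let b : V →ₗ[F] D r := (π r).codRestrict (D r) (hπ.mem r)
  let σ : V →ₗ[F] V := LinearMap.id - π i - π r + (D r).subtype ∘ₗ (φ : D i →ₗ[F] D r) ∘ₗ a
    + (D i).subtype ∘ₗ (φ.symm : D r →ₗ[F] D i) ∘ₗ b
  have hσ : ∀ x, σ x = x - π i x - π r x + (φ ⟨π i x, hπ.mem i x⟩ : V)
      + (φ.symm ⟨π r x, hπ.mem r x⟩ : V) := fun x => rfl
  have hσ' : ∀ x, σ (σ x) = x := by
    intro x
    have h1 : π i (σ x) = (φ.symm ⟨π r x, hπ.mem r x⟩ : V) := by
      rw [hσ, map_add, map_add, map_sub, map_sub, hπ.self hD (hπ.mem i x),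
        hπ.other hD hri.symm (hπ.mem r x), hπ.other hD hri.symm (φ _).2, hπ.self hD (φ.symm _).2]
      abel
    have h2 : π r (σ x) = (φ ⟨π i x, hπ.mem i x⟩ : V) := by
      rw [hσ, map_add, map_add, map_sub, map_sub, hπ.self hD (hπ.mem r x),
        hπ.other hD hri (hπ.mem i x), hπ.other hD hri (φ.symm _).2, hπ.self hD (φ _).2]
      abel
    conv_lhs => rw [hσ (σ x)]
    simp only [h1, h2, Subtype.coe_eta, LinearEquiv.apply_symm_apply, LinearEquiv.symm_apply_apply]
    rw [hσ]
    abel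
  let σe : V ≃ₗ[F] V := LinearEquiv.ofInvolutive σ hσ'
  have hQσ : ∀ x, Q (σ x) = Q x := by
    intro x
    have hval : ∀ j, Q (π j (σ x)) = Q (π ((Equiv.swap i r) j) x) := by
      intro j
      have hj : π j (σ x) = π j x - π j (π i x) - π j (π r x) + π j (φ ⟨π i x, hπ.mem i x⟩ : V)
          + π j (φ.symm ⟨π r x, hπ.mem r x⟩ : V) := by
        rw [hσ, map_add, map_add, map_sub, map_sub]
      rw [hj]
      rcases eq_or_ne j i with rfl | hji
      · rw [Equiv.swap_apply_left, hπ.self hD (hπ.mem j x),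
          hπ.other hD hri.symm (hπ.mem r x), hπ.other hD hri.symm (φ _).2, hπ.self hD (φ.symm _).2]
        simp only [sub_self, zero_add, sub_zero, add_zero]
        rw [← hφ, LinearEquiv.apply_symm_apply]
      rcases eq_or_ne j r with rfl | hjr
      · rw [Equiv.swap_apply_right, hπ.self hD (hπ.mem j x),
          hπ.other hD hri (hπ.mem i x), hπ.other hD hri (φ.symm _).2, hπ.self hD (φ _).2]
        simp only [sub_zero, sub_self, zero_add, add_zero]
        exact hφ _
      rw [Equiv.swap_apply_of_ne_of_ne hji hjr, hπ.other hD hji (hπ.mem i x),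
        hπ.other hD hjr (hπ.mem r x), hπ.other hD hjr (φ _).2, hπ.other hD hji (φ.symm _).2]
      simp
    rw [hπ.value hD (σ x), hπ.value hD x, Finset.sum_congr rfl fun j _ => hval j]
    exact Equiv.sum_comp (Equiv.swap i r) fun j => Q (π j x)
  let g : orth Q := ⟨σe, hQσ⟩
  have hexc : Fintype.card F ≠ 2 ∨ finrank F V ≠ 4 := Or.inr (by have := hh.dim_big; omega)
  obtain ⟨vs, hvs, hg⟩ := exists_rprod (reflGroup_top hnd hexc) g
  have hrepr : ∀ c : F, ∃ z ∈ D i, Q z = c := fun c =>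
    nondeg_represents (hD.nd i) (by rw [hD.dim]; omega) c
  obtain ⟨h, ⟨hblocks, hhu⟩, hgh⟩ := exists_adjust hnd hexc
    (fun h => (∀ s, ∀ x ∈ D s, h.1 x ∈ D s) ∧ h.1 u = u) ⟨fun s x hx => hx, rfl⟩
    (fun a b ha hb => ⟨fun s x hx => ha.1 s _ (hb.1 s x hx), by rw [orth_mul_apply, hb.2, ha.2]⟩)
    hvs
    (fun _ => by
      obtain ⟨z, hz, hQz⟩ := hrepr 1
      have hz1 : Q z ≠ 0 := by rw [hQz]; exact one_ne_zero
      refine ⟨[z], by simpa [NS] using hz1, by simp, ?_⟩
      rw [rprod_singleton hz1]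
      exact ⟨fun s => refl_mem_block hD hz hz1, refl_fix_block hD hil hz hz1 hu⟩)
    (fun c hc => Or.inr (by
      obtain ⟨z, hz, hQz⟩ := hrepr 1
      obtain ⟨z', hz', hQz'⟩ := hrepr c
      have hz1 : Q z ≠ 0 := by rw [hQz]; exact one_ne_zero
      have hz1' : Q z' ≠ 0 := by rw [hQz']; exact hc
      have hns : NS Q [z, z'] := by simp [NS, hz1, hz1']
      refine ⟨[z, z'], hns, even_two, by simp [hQz, hQz'], ?_⟩
      rw [rprod_cons hz1, rprod_singleton hz1']
      exact ⟨fun s x hx => by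
          rw [orth_mul_apply]; exact refl_mem_block hD hz hz1 _ (refl_mem_block hD hz' hz1' x hx),
        by rw [orth_mul_apply, refl_fix_block hD hil hz' hz1' hu, refl_fix_block hD hil hz hz1 hu]⟩))
  rw [← hg] at hgh
  have hgmem : ∀ s, ∀ x ∈ D s, g.1 x ∈ D ((Equiv.swap i r) s) := by
    intro s x hx
    show σ x ∈ _
    rw [hσ]
    rcases eq_or_ne s i with rfl | hsi
    · rw [Equiv.swap_apply_left]
      simp only [hπ.self hD hx, hπ.other hD hri hx, sub_self, sub_zero, zero_add]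
      rw [show (⟨(0 : V), _⟩ : D r) = 0 from rfl, map_zero, Submodule.coe_zero, add_zero]
      exact (φ _).2
    rcases eq_or_ne s r with rfl | hsr
    · rw [Equiv.swap_apply_right]
      simp only [hπ.self hD hx, hπ.other hD hri.symm hx, sub_self, sub_zero, zero_add]
      rw [show (⟨(0 : V), _⟩ : D i) = 0 from rfl, map_zero, Submodule.coe_zero, zero_add]
      exact (φ.symm _).2
    rw [Equiv.swap_apply_of_ne_of_ne hsi hsr]
    simp only [hπ.other hD hsi.symm hx, hπ.other hD hsr.symm hx, sub_zero]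
    rw [show (⟨(0 : V), _⟩ : D i) = 0 from rfl, show (⟨(0 : V), _⟩ : D r) = 0 from rfl, map_zero,
      map_zero, Submodule.coe_zero, Submodule.coe_zero, add_zero, add_zero]
    exact hx
  refine ⟨g * h, hH _ hgh fun s => ⟨_, fun x hx => hgmem s _ (hblocks s x hx)⟩, ?_, fun y hy => ?_⟩
  · rw [orth_mul_apply, hhu]
    show σ u = u
    rw [hσ]
    simp only [hπ.other hD hil hu, hπ.other hD hrl hu, sub_zero]
    rw [show (⟨(0 : V), _⟩ : D i) = 0 from rfl, show (⟨(0 : V), _⟩ : D r) = 0 from rfl, map_zero,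
      map_zero, Submodule.coe_zero, Submodule.coe_zero, add_zero, add_zero]
  · have := hgmem i _ (hblocks i y hy)
    rwa [Equiv.swap_apply_left] at this

/-- Stabilisers of decompositions into members of dimension at least three are maximal. -/
theorem commutator_le (hnd : (polarBilin Q).Nondegenerate) (hD : Dec Q D k) (hh : Hyps Q D k)
    (hH : Contains M D) {g : orth Q} (hg : g ∈ M)
    (hgD : ¬ ∀ i, ∃ j, ∀ x ∈ D i, g.1 x ∈ D j) : commutator (orth Q) ≤ M := by
  classical
  have hk := hh.three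
  obtain ⟨π, hπ⟩ := exists_comp hnd hD
  obtain ⟨l, u, w, hQu, hw, hu, hu0, hmem, i, hil, hwi⟩ :=
    exists_mixed_siegel hnd hh hD hπ hH hg hgD
  have hbi := block_all hnd hh hD hπ hH hil hu hu0 ⟨hQu, hw, hmem⟩ hwi
  have hall : ∀ r, r ≠ l → ∀ y ∈ D r, SMem M u y := by
    intro r hrl
    rcases eq_or_ne r i with rfl | hri
    · exact hbi
    obtain ⟨m, hm, hmu, hmi⟩ := exists_carry hnd hh hD hπ hH hil hrl hri hu
    obtain ⟨y, hy, hy0⟩ := Submodule.exists_mem_ne_zero_of_ne_bot (p := D i)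
      (fun hb => by have := hD.dim i; rw [hb, finrank_bot] at this; omega)
    exact block_all hnd hh hD hπ hH hrl hu hu0 ((hbi y hy).conj hm hmu)
      (by rw [hπ.self hD (hmi y hy)]; exact fun h => hy0 (m.1.map_eq_zero_iff.1 h))
  have hfull : Full M u := by
    intro z hu' hz
    have hcomp : ∀ r, SMem M u (π r z) := fun r => by
      rcases eq_or_ne r l with rfl | hrl
      · have hp : polar Q u (π r z) = 0 := by rw [← hπ.polar_eq r u hu z, hz]
        exact ⟨hQu, hp, hH _ (sGroup_le_commutator hnd hh.dim_big (siegel_mem hnd hh.dim_big hQu hp))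
          fun s => ⟨s, siegel_blocks hD hu (hπ.mem r z) hQu hp s⟩⟩
      · exact hall r hrl _ (hπ.mem r z)
    obtain ⟨_, hz', hm⟩ := Finset.sum_induction (fun r => π r z) (SMem M u)
      (fun a b => SMem.add) (SMem.zero hQu) (s := Finset.univ) (fun r _ => hcomp r)
    exact siegel_mem_congr M hu' hz' hz (hπ.sum z) hm
  obtain ⟨f, hf, hQf, huf⟩ := exists_partner Q (hD.nd l) hu hu0 hQu
  obtain ⟨p, -, hslot⟩ := exists_slot hh hD hil hu hf hQu hQf huf
  obtain ⟨z, hz, hQz, hzu, -⟩ := hslot (-1)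
  have h1 : Q (u - f) = -1 := by
    rw [sub_eq_add_neg, QuadraticMap.map_add (⇑Q), QuadraticMap.map_neg, hQu, hQf, polar_neg_right,
      huf]
    simp
  obtain ⟨n1, n2, hm⟩ := pair_blocks hnd hh.dim_big hD hH ((D l).sub_mem hu hf) hz
    (by rw [h1]; simp) ⟨by rw [hQz]; simp, by rw [h1, hQz]; exact ⟨_, rfl⟩⟩
  have hmf : (refl Q (u - f) n1 * refl Q z n2).1 u = f := by
    rw [orth_mul_apply, refl_fix z n2 hzu, refl_apply, h1, polar_sub_left, polar_self_mul, hQu,
      polar_comm Q f u, huf]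
    simp
  have hfullf := hfull.of_mem hm
  rw [hmf] at hfullf
  exact commutator_le_of_full hnd hh.dim_big hQu hQf (by rw [huf]; exact one_ne_zero) hfull hfullf

end Cfsg.Agent.OmegaDecompFull
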