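import Mathlib
import Cfsg.Agent.Lib.OmegaDecompFull
import Cfsg.Agent.Lib.OmegaMaxGlue

/-!
Stabilisers of orthogonal decompositions inside `Geo.omegaGL`.
-/

set_option autoImplicit false

namespace Cfsg.Agent.OmegaDecompGlue

open QuadraticMap Module
open Cfsg.Agent.OrthUnitaryQuad Cfsg.Agent.OrthUnitaryPrelude Cfsg.Agent.OrthUnitaryRefl
  Cfsg.Agent.OmegaClasses Cfsg.Agent.OmegaGeo Cfsg.Agent.OmegaMaxGlue
  Cfsg.Agent.OrthUnitarySimple Cfsg.Agent.OmegaDecomp Cfsg.Agent.OmegaDecompClass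
open Cfsg.Agent.QuadClassify (Nondeg Aniso exists_partner)

variable {F : Type*} [Field F] {ι : Type} [Fintype ι] [DecidableEq ι]
  {q : QuadraticForm F (ι → F)} {t k : ℕ} {D : Fin t → Submodule F (ι → F)}

omit [Fintype ι] [DecidableEq ι] in
theorem dec_of_decomposition (hD : Cfsg.Geo.IsOrthogonalMDecomposition (⇑q) k D) : Dec q D k := by
  refine ⟨hD.decomp.decomp.finrank_eq, fun i v hv h => ?_,
    fun i j hij x hx y hy => hD.decomp.orthogonal i j hij x hx y hy, hD.decomp.decomp.iSup_eq_top,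
    hD.isometric⟩
  by_contra h0
  obtain ⟨⟨w, hw, hne⟩, -⟩ := hD.decomp.nondegenerate i v hv h0
  exact hne ((polar_comm _ w v).trans (h w hw))

/-- Permuting the members means mapping each member into a member. -/
theorem toGL_mem_iff (hD : Cfsg.Geo.IsOrthogonalMDecomposition (⇑q) k D) (c : orth q) :
    toGL q c ∈ Cfsg.Geo.decompositionStabilizer D ↔ ∀ i, ∃ j, ∀ x ∈ D i, c.1 x ∈ D j := by
  have hd := hD.decomp.decomp
  have hlin : ∀ X : Submodule F (ι → F),
      X.map (Matrix.toLin' ((toGL q c : GL ι F) : Matrix ι ι F)) =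
        X.map (c.1 : (ι → F) →ₗ[F] (ι → F)) := fun X => by
    congr 1
    exact LinearMap.ext fun x => by rw [LinearEquiv.coe_coe, Matrix.toLin'_apply, toGL_mulVec]
  constructor
  · rintro ⟨σ, hσ⟩ i
    exact ⟨σ i, fun x hx => by rw [← hσ i, hlin]; exact Submodule.mem_map_of_mem hx⟩
  · intro h
    choose f hf using h
    have hmap : ∀ i, (D i).map (c.1 : (ι → F) →ₗ[F] (ι → F)) = D (f i) := fun i => by
      refine Submodule.eq_of_le_of_finrank_eq ?_
        (by rw [LinearEquiv.finrank_map_eq, hd.finrank_eq, hd.finrank_eq])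
      rintro _ ⟨x, hx, rfl⟩
      exact hf i x hx
    have hinj : Function.Injective f := by
      intro i i' h
      by_contra hne
      have he : D i = D i' := Submodule.map_injective_of_injective c.1.injective (by
        rw [hmap, hmap, h])
      have h1 := hd.indep.pairwiseDisjoint hne
      rw [Function.onFun, he, disjoint_self] at h1
      have h2 := hd.finrank_eq i'
      rw [h1, finrank_bot] at h2
      exact hd.pos.ne h2
    exact ⟨Equiv.ofBijective f (Finite.injective_iff_bijective.1 hinj), fun i => by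
      rw [hlin, hmap]; rfl⟩

/-- Some element of the commutator subgroup breaks the decomposition. -/
theorem exists_breaking [Fintype F] (hnd : (polarBilin q).Nondegenerate)
    (hn : 5 ≤ finrank F (ι → F)) (hD : Dec q D k) (ht : 2 ≤ t) (hk : 0 < k) {l : Fin t} {u : ι → F}
    (hu : u ∈ D l) (hu0 : u ≠ 0) (hQu : q u = 0) :
    ∃ c ∈ commutator (orth q), ¬ ∀ i, ∃ j, ∀ x ∈ D i, c.1 x ∈ D j := by
  obtain ⟨π, hπ⟩ := exists_comp hnd hD
  haveI : Nontrivial (Fin t) := Fin.nontrivial_iff_two_le.2 ht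
  obtain ⟨i, hil⟩ := exists_ne l
  obtain ⟨y, hy, hy0⟩ := Submodule.exists_mem_ne_zero_of_ne_bot (p := D i)
    (fun hb => by have := hD.dim i; rw [hb, finrank_bot] at this; omega)
  obtain ⟨x, hx, hyx⟩ : ∃ x ∈ D i, polar q y x ≠ 0 := by
    by_contra h
    push Not at h
    exact hy0 (hD.nd i y hy h)
  have huy : polar q u y = 0 := hD.orth l i hil.symm u hu y hy
  set c := siegel q u y hQu huy with hc
  refine ⟨c, sGroup_le_commutator hnd hn (siegel_mem hnd hn hQu huy), fun h => ?_⟩
  obtain ⟨j, hj⟩ := h i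
  have hcx : c.1 x = x - polar q y x • u := by
    rw [hc, siegel_apply, hD.orth l i hil.symm u hu x hx]; simp
  have hx0 : x ≠ 0 := fun h => hyx (by rw [h, polar_zero_right])
  have h1 := hj x hx
  rw [hcx] at h1
  have e1 : π i (x - polar q y x • u) = x := by
    rw [map_sub, map_smul, hπ.self hD hx, hπ.other hD hil hu]; simp
  have e2 : π l (x - polar q y x • u) ≠ 0 := by
    rw [map_sub, map_smul, hπ.self hD hu, hπ.other hD hil.symm hx, zero_sub, neg_ne_zero]
    exact smul_ne_zero hyx hu0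
  exact hil ((hπ.eq_of_mem hD h1 (by rw [e1]; exact hx0)).trans (hπ.eq_of_mem hD h1 e2).symm)

/-- Maximality from a breaking element and the overgroup statement. -/
theorem isMaximalIn_of (hD : Cfsg.Geo.IsOrthogonalMDecomposition (⇑q) k D)
    (hbreak : ∃ c ∈ commutator (orth q), ¬ ∀ i, ∃ j, ∀ x ∈ D i, c.1 x ∈ D j)
    (hmax : ∀ M : Subgroup (orth q), Contains M D → ∀ g ∈ M, g ∈ commutator (orth q) →
      (¬ ∀ i, ∃ j, ∀ x ∈ D i, g.1 x ∈ D j) → commutator (orth q) ≤ M) :
    Cfsg.Geo.IsMaximalIn (Cfsg.Geo.omegaGL ⇑q)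
      (Cfsg.Geo.decompositionStabilizer D ⊓ Cfsg.Geo.omegaGL ⇑q) := by
  refine ⟨lt_of_le_of_ne inf_le_right fun h => ?_, fun M hHM hMΩ => ?_⟩
  · obtain ⟨c, hc, hne⟩ := hbreak
    have := toGL_mem hc
    rw [← h] at this
    exact hne ((toGL_mem_iff hD c).1 this.1)
  · rcases eq_or_ne M (Cfsg.Geo.decompositionStabilizer D ⊓ Cfsg.Geo.omegaGL ⇑q) with h | h
    · exact Or.inl h
    refine Or.inr (le_antisymm hMΩ ?_)
    obtain ⟨x, hx, hxW⟩ := SetLike.exists_of_lt (lt_of_le_of_ne hHM (Ne.symm h))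
    obtain ⟨g, hg, rfl⟩ := exists_of_mem_omegaGL (hMΩ hx)
    have hle := hmax (M.comap (glHom q))
      (fun c hc hcD => hHM ⟨(toGL_mem_iff hD c).2 hcD, toGL_mem hc⟩) g hx hg
      (fun hgD => hxW ⟨(toGL_mem_iff hD g).2 hgD, toGL_mem hg⟩)
    intro y hy
    obtain ⟨c, hc, rfl⟩ := exists_of_mem_omegaGL hy
    exact hle hc

/-- Stabilisers of decompositions into members of dimension at least three are maximal. -/
theorem isMaximalIn [Fintype F] (hnd : (polarBilin q).Nondegenerate)
    (hD : Cfsg.Geo.IsOrthogonalMDecomposition (⇑q) k D) (hh : Hyps q D k) :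
    Cfsg.Geo.IsMaximalIn (Cfsg.Geo.omegaGL ⇑q)
      (Cfsg.Geo.decompositionStabilizer D ⊓ Cfsg.Geo.omegaGL ⇑q) := by
  have hd := dec_of_decomposition hD
  have hk := hh.three
  obtain ⟨u, hu, hu0, hQu⟩ := QuadClassify.exists_singular q (D ⟨0, by have := hh.two_le; omega⟩)
    (by rw [hd.dim]; omega)
  exact isMaximalIn_of hD (exists_breaking hnd hh.dim_big hd hh.two_le (by omega) hu hu0 hQu)
    fun M hM g hg _ hgD => OmegaDecompFull.commutator_le hnd hd hh hM hg hgD

omit [DecidableEq ι] in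
/-- The members fill the space. -/
theorem card_mul (hD : Cfsg.Geo.IsOrthogonalMDecomposition (⇑q) k D) :
    t * k = Fintype.card ι := by
  classical
  have hd := hD.decomp.decomp
  have hint : DirectSum.IsInternal D := DirectSum.isInternal_submodule_of_iSupIndep_of_iSup_eq_top
    hd.indep hd.iSup_eq_top
  have h := LinearEquiv.finrank_eq (LinearEquiv.ofBijective (DirectSum.coeLinearMap D) hint)
  rw [Module.finrank_directSum, Module.finrank_pi] at h
  simp only [hd.finrank_eq, Finset.sum_const, Finset.card_univ, Fintype.card_fin, smul_eq_mul] at h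
  exact h

end Cfsg.Agent.OmegaDecompGlue
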