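import Cfsg.Agent.Lib.Frame10Gen
import Cfsg.Agent.Lib.OmegaDecompGlue

/-!
Stabilisers of orthogonal frames are maximal in `Geo.omegaGL` over prime fields.
-/

set_option autoImplicit false
set_option linter.unusedSectionVars false

namespace Cfsg.Agent.Frame10

open QuadraticMap Module
open Cfsg.Agent.OrthUnitaryQuad Cfsg.Agent.OrthUnitaryRefl Cfsg.Agent.OmegaDecomp Cfsg.Agent.OmegaGeo
open scoped Matrix

variable {F : Type*} [Field F]

/-- Similar forms have isomorphic isometry groups. -/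
def orthSim {V W : Type*} [AddCommGroup V] [Module F V] [AddCommGroup W] [Module F W] {Q : QuadraticForm F V}
    {Q' : QuadraticForm F W} (e : V ≃ₗ[F] W) {η : F} (hη : η ≠ 0) (h : ∀ x, Q x = η * Q' (e x)) :
    orth Q ≃* orth Q' where
  toFun g := ⟨e.symm.trans (g.1.trans e), fun y => by
    rw [LinearEquiv.trans_apply, LinearEquiv.trans_apply]
    refine mul_left_cancel₀ hη ?_
    rw [← h, map_orth g, h, e.apply_symm_apply]⟩
  invFun g := ⟨e.trans (g.1.trans e.symm), fun y => by
    rw [LinearEquiv.trans_apply, LinearEquiv.trans_apply, h, e.apply_symm_apply, map_orth g, ← h]⟩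
  left_inv g := by ext x; simp
  right_inv g := by ext x; simp
  map_mul' a b := by ext x; simp

variable [Fintype F]

/-- An element of the derived group which is not monomial. -/
theorem exists_not_mono {ι : Type*} [Fintype ι] [DecidableEq ι] (h2 : (2 : F) ≠ 0) (hn : 5 ≤ Fintype.card ι) :
    ∃ h ∈ commutator (orth (sq F ι)), ¬ Mono h := by
  obtain ⟨S, hS⟩ := Finset.exists_subset_card_eq (s := (Finset.univ : Finset ι)) (n := 4) (by simp; omega)
  obtain ⟨a, b, c, d, hab, hac, had, hbc, hbd, hcd, -⟩ := Finset.card_eq_four.1 hS.2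
  set x : ι → F := (2 : F)⁻¹ • (ax a + ax b + ax c + ax d) with hx
  have hxb : x b = 2⁻¹ := by simp [hx, ax, hab.symm, hbc, hbd]
  have hxc : x c = 2⁻¹ := by simp [hx, ax, hac.symm, hbc.symm, hcd]
  have hxx : x ⬝ᵥ x = 1 := by
    simp [hx, smul_dotProduct, dotProduct_smul, add_dotProduct, dotProduct_add, dot_ax, ax_self, ax_ne hab,
      ax_ne hab.symm, ax_ne hac, ax_ne hac.symm, ax_ne had, ax_ne had.symm, ax_ne hbc, ax_ne hbc.symm, ax_ne hbd,
      ax_ne hbd.symm, ax_ne hcd, ax_ne hcd.symm]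
    field_simp
    norm_num
  have hQx : sq F ι x ≠ 0 := by rw [sq_apply, hxx]; exact one_ne_zero
  have hQa : sq F ι (ax a) ≠ 0 := by rw [sq_apply, dot_ax, ax_self]; exact one_ne_zero
  refine ⟨_, pair_mem_commutator (nondegenerate h2) (by rw [Module.finrank_pi]; exact hn) hQx hQa
    (by rw [sq_apply, sq_apply, hxx, dot_ax, ax_self]; exact ⟨1, rfl⟩), fun hm => ?_⟩
  obtain ⟨j, r, hj⟩ := hm b
  have hfix : rv (ax a) (ax b : ι → F) = ax b := by
    rw [rv, dot_ax, ax_ne hab]; simp
  rw [orth_mul_apply, refl_rv, refl_rv, hfix] at hj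
  have e := fun t => congrFun hj t
  simp only [rv, hxx, dot_ax' b x, hxb, Pi.sub_apply, Pi.smul_apply, smul_eq_mul, div_one] at e
  rcases eq_or_ne j b with rfl | hjb
  · have := e c
    rw [ax_ne hbc.symm, hxc, mul_zero, mul_inv_cancel₀ h2, one_mul, zero_sub, neg_eq_zero] at this
    exact inv_ne_zero h2 this
  · have := e b
    rw [ax_self, ax_ne hjb.symm, hxb, mul_zero, mul_inv_cancel₀ h2, one_mul, sub_eq_zero] at this
    have h' : (2 : F) = 1 := by rw [← inv_inv (2 : F), ← this, inv_one]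
    exact one_ne_zero (show (1 : F) = 0 by linear_combination h')

variable {ι : Type} [Fintype ι] [DecidableEq ι] {q : QuadraticForm F (ι → F)} {t : ℕ} {D : Fin t → Submodule F (ι → F)}

/-- Stabilisers of frames are maximal, dimension seven included. -/
theorem isMaximalIn_small (hnd : (polarBilin q).Nondegenerate) (hp : (Fintype.card F).Prime)
    (hodd : Odd (Fintype.card F)) (hn : 7 ≤ Fintype.card ι) (h8 : Fintype.card ι ≠ 8)
    (hD : Cfsg.Geo.IsOrthogonalMDecomposition (⇑q) 1 D) :
    Cfsg.Geo.IsMaximalIn (Cfsg.Geo.omegaGL ⇑q)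
      (Cfsg.Geo.decompositionStabilizer D ⊓ Cfsg.Geo.omegaGL ⇑q) := by
  classical
  have h2 : (2 : F) ≠ 0 := by
    have := hp.two_le
    have hne : Fintype.card F ≠ 2 := fun e => by rw [e] at hodd; exact absurd hodd (by decide)
    exact_mod_cast small_ne hp (k := 2) (by omega) (by norm_num)
  have hd := OmegaDecompGlue.dec_of_decomposition hD
  have ht : t = Fintype.card ι := by simpa using OmegaDecompGlue.card_mul hD
  have hone : ∀ {i} {v : ι → F}, v ∈ D i → v ≠ 0 → ∀ x ∈ D i, ∃ c : F, c • v = x := by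
    intro i v hv hv0 x hx
    obtain ⟨c, hc⟩ := (finrank_eq_one_iff_of_nonzero' (⟨v, hv⟩ : D i) (fun e => hv0 (congrArg Subtype.val e))).1
      (hd.dim i) ⟨x, hx⟩
    exact ⟨c, congrArg Subtype.val hc⟩
  let i₀ : Fin t := ⟨0, by omega⟩
  obtain ⟨d₀, hd₀, hd₀0⟩ := Submodule.exists_mem_ne_zero_of_ne_bot (p := D i₀)
    (fun hb => by have := hd.dim i₀; rw [hb, finrank_bot] at this; omega)
  set η := q d₀
  have hη : η ≠ 0 := fun h => hd₀0 (hd.nd i₀ d₀ hd₀ fun x hx => by
    obtain ⟨c, rfl⟩ := hone hd₀ hd₀0 x hx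
    rw [polar_smul_right, polar_self_mul, show q d₀ = 0 from h, mul_zero, smul_zero])
  choose E hE using fun j => hd.iso i₀ j
  set d : Fin t → ι → F := fun j => (E j ⟨d₀, hd₀⟩ : ι → F) with hdd
  have hdmem : ∀ j, d j ∈ D j := fun j => (E j ⟨d₀, hd₀⟩).2
  have hdq : ∀ j, q (d j) = η := fun j => hE j ⟨d₀, hd₀⟩
  have hd0 : ∀ j, d j ≠ 0 := fun j h => hη (by rw [← hdq j, h, QuadraticMap.map_zero])
  set L : (Fin t → F) →ₗ[F] (ι → F) := Fintype.linearCombination F d
  have hLax : ∀ i, L (ax i) = d i := fun i => by simp [L, ax, Fintype.linearCombination_apply_single]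
  have hpol : ∀ c j, polar q (L c) (d j) = c j * (2 * η) := fun c j => by
    rw [show L c = ∑ i, c i • d i from Fintype.linearCombination_apply F d c, ← polarBilin_apply_apply, map_sum,
      LinearMap.sum_apply, Finset.sum_eq_single j]
    · rw [map_smul, LinearMap.smul_apply, polarBilin_apply_apply, polar_self_mul, hdq, smul_eq_mul]
    · intro i _ hij
      rw [map_smul, LinearMap.smul_apply, polarBilin_apply_apply, hd.orth i j hij _ (hdmem i) _ (hdmem j), smul_zero]
    · simp
  have hinj : Function.Injective L := by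
    rw [injective_iff_map_eq_zero]
    intro c hc
    funext j
    have := hpol c j
    rw [hc, polar_zero_left] at this
    exact (mul_eq_zero.1 this.symm).resolve_right (mul_ne_zero h2 hη)
  set L' : (Fin t → F) ≃ₗ[F] (ι → F) := L.linearEquivOfInjective hinj (by simp [ht])
  have hval : ∀ x, q x = η * sq F (Fin t) (L'.symm x) := fun x => by
    obtain ⟨c, rfl⟩ := L'.surjective x
    rw [L'.symm_apply_apply]
    refine mul_left_cancel₀ h2 ?_
    rw [← polar_self_mul, show L' c = L c from rfl]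
    conv_lhs => arg 3; rw [show L c = ∑ i, c i • d i from Fintype.linearCombination_apply F d c]
    rw [← polarBilin_apply_apply, map_sum, sq_apply, dotProduct, Finset.mul_sum, Finset.mul_sum]
    refine Finset.sum_congr rfl fun i _ => ?_
    rw [map_smul, polarBilin_apply_apply, hpol, smul_eq_mul]
    ring
  set φ := orthSim (Q' := sq F (Fin t)) L'.symm hη hval
  have hφ : ∀ g i, (φ g).1 (ax i) = L'.symm (g.1 (d i)) := fun g i => by
    show L'.symm (g.1 (L' (ax i))) = _
    rw [show L' (ax i) = L (ax i) from rfl, hLax]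
  have hmono : ∀ g : orth q, Mono (φ g) ↔ ∀ i, ∃ j, ∀ x ∈ D i, g.1 x ∈ D j := by
    intro g
    refine forall_congr' fun i => exists_congr fun j => ?_
    constructor
    · rintro ⟨c, hc⟩ x hx
      obtain ⟨r, rfl⟩ := hone (hdmem i) (hd0 i) x hx
      rw [hφ, LinearEquiv.symm_apply_eq, map_smul, show L' (ax j) = L (ax j) from rfl, hLax] at hc
      rw [map_smul, hc]
      exact (D j).smul_mem _ ((D j).smul_mem _ (hdmem j))
    · intro h
      obtain ⟨c, hc⟩ := hone (hdmem j) (hd0 j) _ (h _ (hdmem i))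
      refine ⟨c, ?_⟩
      rw [hφ, LinearEquiv.symm_apply_eq, map_smul, show L' (ax j) = L (ax j) from rfl, hLax, hc]
  have hn' : 7 ≤ Fintype.card (Fin t) := by rw [Fintype.card_fin]; omega
  refine OmegaDecompGlue.isMaximalIn_of hD ?_ ?_
  · obtain ⟨h, hh, hm⟩ := exists_not_mono (ι := Fin t) h2 (by omega)
    refine ⟨φ.symm h, (OrthUnitaryOmega.mem_commutator_iff φ _).2 (by rwa [φ.apply_symm_apply]), fun hc => hm ?_⟩
    have := (hmono (φ.symm h)).2 hc
    rwa [φ.apply_symm_apply] at this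
  · intro M hM g hg _ hgD x hx
    have hOver : Over (M.map φ.toMonoidHom) := fun h hh hm =>
      ⟨φ.symm h, hM _ ((OrthUnitaryOmega.mem_commutator_iff φ _).2 (by rwa [φ.apply_symm_apply]))
        ((hmono _).1 (by rwa [φ.apply_symm_apply])), φ.apply_symm_apply h⟩
    have hle := commutator_le hp hodd hn' (by rw [Fintype.card_fin]; omega) hOver (Subgroup.mem_map_of_mem φ.toMonoidHom hg)
      (fun hm => hgD ((hmono g).1 hm))
    obtain ⟨y, hy, hyx⟩ := hle ((OrthUnitaryOmega.mem_commutator_iff φ x).1 hx)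
    rwa [← φ.injective hyx]

/-- Stabilisers of frames are maximal. -/
theorem isMaximalIn (hnd : (polarBilin q).Nondegenerate) (hp : (Fintype.card F).Prime)
    (hodd : Odd (Fintype.card F)) (hn : 9 ≤ Fintype.card ι)
    (hD : Cfsg.Geo.IsOrthogonalMDecomposition (⇑q) 1 D) :
    Cfsg.Geo.IsMaximalIn (Cfsg.Geo.omegaGL ⇑q)
      (Cfsg.Geo.decompositionStabilizer D ⊓ Cfsg.Geo.omegaGL ⇑q) :=
  isMaximalIn_small hnd hp hodd (by omega) (by omega) hD

end Cfsg.Agent.Frame10
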