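import Cfsg.Agent.Lib.Frame10Descent

/-!
An overgroup of the monomial group with a non-monomial element contains the derived orthogonal group.
-/

set_option autoImplicit false
set_option linter.unusedSectionVars false

namespace Cfsg.Agent.Frame10

open QuadraticMap Module
open Cfsg.Agent.OrthUnitaryQuad Cfsg.Agent.OrthUnitaryRefl Cfsg.Agent.OrthUnitarySimple Cfsg.Agent.OmegaDecomp
open scoped Matrix

variable {F : Type*} [Field F] {ι : Type*} [Fintype ι] [DecidableEq ι] [Fintype F]

/-- A unit vector orthogonal to two given vectors. -/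
theorem exists_unit_perp (h2 : (2 : F) ≠ 0) (hn : 7 ≤ Fintype.card ι) (u w : ι → F) :
    ∃ y : ι → F, polar (sq F ι) u y = 0 ∧ polar (sq F ι) w y = 0 ∧ sq F ι y = 1 := by
  have hnd := nondegenerate (F := F) (ι := ι) h2
  have htop : QuadClassify.Nondeg (sq F ι) ⊤ := fun v _ h => hnd.1 v fun z => h z trivial
  set B := polarBilin (sq F ι)
  have hcut : ∀ (X : Submodule F (ι → F)) (v : ι → F),
      finrank F X ≤ finrank F ↥(X ⊓ LinearMap.ker (B v)) + 1 := fun X v => by
    have := QuadClassify.finrank_ker_inf X (B v); omega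
  set K := (⊤ : Submodule F (ι → F)) ⊓ LinearMap.ker (B u) ⊓ LinearMap.ker (B w)
  have h1 := hcut ⊤ u
  have h3 := hcut (⊤ ⊓ LinearMap.ker (B u)) w
  rw [finrank_top, Module.finrank_pi] at h1
  obtain ⟨a, ha, hQa⟩ := exists_nonsingular hnd htop (X := K) le_top (by
    rw [finrank_top, Module.finrank_pi]; simp only [K]; omega)
  obtain ⟨b, hb, hQb⟩ := exists_nonsingular hnd htop (X := K ⊓ LinearMap.ker (B a)) le_top (by
    have := hcut K a
    rw [finrank_top, Module.finrank_pi]; simp only [K] at this ⊢; omega)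
  have hau : polar (sq F ι) u a = 0 := ha.1.2
  have haw : polar (sq F ι) w a = 0 := ha.2
  have hbu : polar (sq F ι) u b = 0 := hb.1.1.2
  have hbw : polar (sq F ι) w b = 0 := hb.1.2
  have hab : polar (sq F ι) a b = 0 := hb.2
  obtain ⟨r, s, hrs⟩ := Frame10Tern.exists_rep h2 (div_ne_zero hQb hQa) (sq F ι a)⁻¹
  refine ⟨r • a + s • b, ?_, ?_, ?_⟩
  · rw [polar_add_right, polar_smul_right, polar_smul_right, hau, hbu]; simp
  · rw [polar_add_right, polar_smul_right, polar_smul_right, haw, hbw]; simp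
  · rw [QuadraticMap.map_add (⇑(sq F ι)), QuadraticMap.map_smul, QuadraticMap.map_smul, polar_smul_left,
      polar_smul_right, hab]
    simp only [smul_eq_mul, mul_zero, add_zero]
    field_simp at hrs
    linear_combination hrs

/-- All unit vectors paired: the derived group. -/
theorem commutator_le_of_units {M : Subgroup (orth (sq F ι))} (h2 : (2 : F) ≠ 0) (hn : 7 ≤ Fintype.card ι) {i₀ : ι}
    (hall : ∀ x : ι → F, x ⬝ᵥ x = 1 → InR M i₀ x) : commutator (orth (sq F ι)) ≤ M := by
  rw [commutator_eq_sGroup (nondegenerate h2) (by rw [Module.finrank_pi]; omega), sGroup, Subgroup.closure_le]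
  rintro g ⟨u, w, hu, hw, hQw, rfl⟩
  obtain ⟨y, hy, hwy, hQy⟩ := exists_unit_perp h2 hn u w
  have one : ∀ {z : ι → F} (hz : polar (sq F ι) u z = 0), sq F ι z = 1 → siegel (sq F ι) u z hu hz ∈ M := by
    intro z hz hQz
    have hQz' : sq F ι z ≠ 0 := by rw [hQz]; exact one_ne_zero
    have h1 : (z + sq F ι z • u) ⬝ᵥ (z + sq F ι z • u) = 1 := by
      rw [← sq_apply, QuadraticMap.map_add (⇑(sq F ι)), QuadraticMap.map_smul, polar_smul_right, polar_comm _ z u,
        hz, hu, hQz]
      simp
    obtain ⟨_, _, hm⟩ := (hall z (by rw [← sq_apply, hQz])).2.trans (hall _ h1).2.symm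
    rw [siegel_eq_refl_mul hu hz hQz']
    exact hm
  have hwy' : polar (sq F ι) u (w - y) = 0 := by rw [polar_sub_right, hw, hy, sub_zero]
  have h := siegel_mul hu hy hwy'
  simp only [add_sub_cancel] at h
  rw [SetLike.mem_coe, ← h]
  refine M.mul_mem (one hy hQy) (one hwy' ?_)
  rw [sub_eq_add_neg, QuadraticMap.map_add (⇑(sq F ι)), QuadraticMap.map_neg, polar_neg_right, hQw, hQy, hwy]
  simp

/-- The maximality statement for the standard frame. -/
theorem commutator_le {M : Subgroup (orth (sq F ι))} (hp : (Fintype.card F).Prime) (hodd : Odd (Fintype.card F))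
    (hn : 7 ≤ Fintype.card ι) (h8 : Fintype.card ι ≠ 8) (hM : Over M) {g : orth (sq F ι)} (hg : g ∈ M) (hgm : ¬ Mono g) :
    commutator (orth (sq F ι)) ≤ M := by
  have h2 : (2 : F) ≠ 0 := by
    have := hp.two_le
    have hne : Fintype.card F ≠ 2 := fun e => by rw [e] at hodd; exact absurd hodd (by decide)
    exact_mod_cast small_ne hp (k := 2) (by omega) (by norm_num)
  obtain ⟨i₀⟩ : Nonempty ι := Fintype.card_pos_iff.1 (by omega)
  obtain ⟨x, hx, hnr, z, hz⟩ := exists_mixed hM h2 hn h8 i₀ hg hgm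
  exact commutator_le_of_units h2 (by omega) (descent (rSet hM h2 (by omega) i₀) hp hodd hn hx hnr hz)

end Cfsg.Agent.Frame10
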