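import Cfsg.Agent.Lib.Frame10Five83

/-!
Six coordinates: a vector on at most five coordinates outside the roots gives a short one.
-/

set_option autoImplicit false
set_option linter.unusedSectionVars false
set_option linter.style.haveILetI false
set_option maxHeartbeats 800000

namespace Cfsg.Agent.Frame10Six75

open Cfsg.Agent.Frame10 Cfsg.Agent.Frame10Five83
open Cfsg.Agent.Frame10Tern (nrm dt rf Sym e₁ e₂)
open scoped Matrix

variable {F : Type*} [Field F] {ι : Type*} [Fintype ι] [DecidableEq ι] [Fintype F] {R : (ι → F) → Prop}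

/-- A vector outside the roots on at most five coordinates gives a short one. -/
theorem short_le_five (hR : RSet R) (hp : (Fintype.card F).Prime) (h11 : 11 ≤ Fintype.card F)
    (hn : 5 ≤ Fintype.card ι) :
    ∀ (k : ℕ) (x : ι → F), R x → (supp x).card = k → k ≤ 5 → ¬ Root x → Short R := by
  classical
  intro k
  induction k using Nat.strong_induction_on with
  | _ k ih =>
    intro x hx hk hk5 hnr
    by_cases hk3 : k ≤ 3
    · exact ⟨x, hx, hnr, hk ▸ hk3⟩
    have c : ∀ {a : ℕ}, a < Fintype.card F → a ≠ 0 → (a : F) ≠ 0 := fun h h' => small_ne hp h h'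
    have h2 : (2 : F) ≠ 0 := by exact_mod_cast c (a := 2) (by omega) (by norm_num)
    have h3 : (3 : F) ≠ 0 := by exact_mod_cast c (a := 3) (by omega) (by norm_num)
    have h5 : (5 : F) ≠ 0 := by exact_mod_cast c (a := 5) (by omega) (by norm_num)
    have h7 : (7 : F) ≠ 0 := by exact_mod_cast c (a := 7) (by omega) (by norm_num)
    have h4 : (4 : F) ≠ 0 := by exact_mod_cast c (a := 4) (by omega) (by norm_num)
    have nz : ∀ {t}, t ∈ supp x → x t * x t ≠ 0 := fun h => mul_ne_zero (mem_supp.1 h) (mem_supp.1 h)
    by_cases hB : ∃ i ∈ supp x, ∃ j ∈ supp x, i ≠ j ∧ x i * x i + x j * x j ≠ 1 ∧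
        (x i * x i = 1 ∨ (4 * (x i * x i) ≠ 1 ∧ 2 * (x i * x i) ≠ 1 ∧
          16 * (x i * x i) ^ 2 - 12 * (x i * x i) + 1 ≠ 0))
    · obtain ⟨i, hi, j, hj, hij, hsum, hA⟩ := hB
      exact short_good hR hp h11 hx hij (mem_supp.1 hi) (mem_supp.1 hj) hsum hA
    -- no value is in general position
    have hbad : ∀ i ∈ supp x, 4 * (x i * x i) = 1 ∨ 2 * (x i * x i) = 1 ∨
        16 * (x i * x i) ^ 2 - 12 * (x i * x i) + 1 = 0 := by
      intro i hi
      by_contra hg
      push Not at hg
      have hall : ∀ j ∈ (supp x).erase i, x j * x j = 1 - x i * x i := fun j hj => by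
        obtain ⟨hji, hj'⟩ := Finset.mem_erase.1 hj
        by_contra hne
        exact hB ⟨i, hi, j, hj', hji.symm, fun e => hne (by linear_combination e), Or.inr hg⟩
      have h := sum_supp x
      rw [hR.unit x hx, ← Finset.add_sum_erase _ _ hi, Finset.sum_congr rfl hall, Finset.sum_const,
        Finset.card_erase_of_mem hi, hk, nsmul_eq_mul] at h
      obtain ⟨j, hj, hji⟩ := Finset.exists_mem_ne (show 1 < (supp x).card by omega) i
      have hB0 : 1 - x i * x i ≠ 0 := hall j (Finset.mem_erase.2 ⟨hji, hj⟩) ▸ nz hj
      rcases (show k = 4 ∨ k = 5 by omega) with rfl | rfl <;> norm_num at h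
      · exact mul_ne_zero h2 hB0 (by linear_combination -h)
      · exact mul_ne_zero h3 hB0 (by linear_combination -h)
    by_cases hhalf : ∃ j ∈ supp x, 2 * (x j * x j) = 1
    · obtain ⟨j, hj, hj2⟩ := hhalf
      have e : ∀ t, rv x (ax j) t = (if t = j then 1 else 0) - 2 * x j * x t := fun t => by
        rw [rv, hR.unit x hx, dot_ax', div_one, Pi.sub_apply, Pi.smul_apply, smul_eq_mul]
        simp [ax, Pi.single_apply]
      have hs : supp (rv x (ax j)) = (supp x).erase j := by
        ext t
        rw [Finset.mem_erase, mem_supp, mem_supp, e]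
        rcases eq_or_ne t j with rfl | ht
        · simp only [if_true]
          exact iff_of_false (fun h => h (by linear_combination -hj2)) (fun h => h.1 rfl)
        · simp [ht, h2, mem_supp.1 hj]
      have hc : (supp (rv x (ax j))).card = k - 1 := by rw [hs, Finset.card_erase_of_mem hj, hk]
      exact ih _ (by omega) _ (hR.closed _ _ hx (hR.axis j)) hc (by omega) (not_root_of_card (by omega))
    push Not at hhalf
    set Q := (supp x).filter fun t => 4 * (x t * x t) ≠ 1
    have hQ : ∀ t ∈ Q, 16 * (x t * x t) ^ 2 - 12 * (x t * x t) + 1 = 0 := fun t ht => by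
      obtain ⟨h, h'⟩ := Finset.mem_filter.1 ht
      exact ((hbad t h).resolve_left h').resolve_left (hhalf t h)
    by_cases htwo : ∃ i ∈ Q, ∃ j ∈ Q, x i * x i ≠ x j * x j
    · obtain ⟨i, hi, j, hj, hne⟩ := htwo
      have hi' := (Finset.mem_filter.1 hi).1
      have hj' := (Finset.mem_filter.1 hj).1
      have hij : i ≠ j := fun e => hne (e ▸ rfl)
      have e34 : 4 * (x i * x i + x j * x j) - 3 = 0 :=
        (mul_eq_zero.1 (show (4 * (x i * x i - x j * x j)) * (4 * (x i * x i + x j * x j) - 3) = 0 by
          linear_combination hQ i hi - hQ j hj)).resolve_left (mul_ne_zero h4 (sub_ne_zero.2 hne))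
      have hT : 4 * ∑ t ∈ ((supp x).erase i).erase j, x t * x t = 1 := by
        have h := sum_supp x
        rw [hR.unit x hx, ← Finset.add_sum_erase _ _ hi', ← Finset.add_sum_erase _ _
          (Finset.mem_erase.2 ⟨hij.symm, hj'⟩)] at h
        linear_combination -4 * h - e34
      obtain ⟨y, hy, hys, hyv⟩ := shrink hR h2 hx ((Finset.erase_subset _ _).trans (Finset.erase_subset _ _)) hT
      have hc : (supp y).card = k - 2 := by
        rw [hys, Finset.card_erase_of_mem (Finset.mem_erase.2 ⟨hij.symm, hj'⟩), Finset.card_erase_of_mem hi', hk]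
        omega
      rcases (show k = 4 ∨ k = 5 by omega) with rfl | rfl
      · obtain ⟨p, q, hpq, hs⟩ := Finset.card_eq_two.1 hc
        refine ⟨y, hy, not_root_two hpq (mem_supp.1 (by rw [hs]; simp)) (mem_supp.1 (by rw [hs]; simp)) ?_,
          by omega⟩
        have hp' : p ∈ ((supp x).erase i).erase j := hys ▸ (by rw [hs]; simp)
        have hq' : q ∈ ((supp x).erase i).erase j := hys ▸ (by rw [hs]; simp)
        rw [hyv p hp', hyv q hq']
        intro e
        rw [← hys, hs, Finset.sum_pair hpq] at hT
        have e8 : 8 * (x p * x p) = 1 := by linear_combination hT + e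
        have hpx : p ∈ supp x := Finset.mem_of_mem_erase (Finset.mem_of_mem_erase hp')
        rcases hbad p hpx with h | h | h
        · exact one_ne_zero (show (1 : F) = 0 by linear_combination e8 - 2 * h)
        · exact h3 (show (3 : F) = 0 by linear_combination e8 - 4 * h)
        · exact one_ne_zero (show (1 : F) = 0 by linear_combination -4 * h + (8 * (x p * x p) - 5) * e8)
      · exact ⟨y, hy, not_root_of_card (by omega), by omega⟩
    push Not at htwo
    have hquart : ∀ t ∈ (supp x).filter (fun t => ¬ 4 * (x t * x t) ≠ 1), x t * x t = 4⁻¹ := fun t ht =>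
      eq_inv_of_mul_eq_one_right (not_not.1 (Finset.mem_filter.1 ht).2)
    have hcard : Q.card + ((supp x).filter (fun t => ¬ 4 * (x t * x t) ≠ 1)).card = k := by
      rw [← hk]; exact Finset.card_filter_add_card_filter_not _
    rcases Q.eq_empty_or_nonempty with hQ0 | ⟨i, hi⟩
    · have hq : ∀ t ∈ supp x, 4 * (x t * x t) = 1 := fun t ht => by
        by_contra h
        exact Finset.notMem_empty t (hQ0 ▸ Finset.mem_filter.2 ⟨ht, h⟩)
      have h := sum_supp x
      have : (4 : F) * 1 = ∑ t ∈ supp x, 4 * (x t * x t) := by rw [← Finset.mul_sum, ← h, hR.unit x hx]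
      rw [Finset.sum_congr rfl hq, Finset.sum_const, nsmul_one, hk] at this
      rcases (show k = 4 ∨ k = 5 by omega) with rfl | rfl
      swap
      · norm_num at this
        exact absurd (show (1 : F) = 0 by linear_combination -this) one_ne_zero
      -- four halves
      obtain ⟨a, ha, b, hb, hab⟩ := Finset.one_lt_card.1 (show 1 < (supp x).card by omega)
      obtain ⟨z, hz⟩ : ∃ z, z ∉ supp x := by
        by_contra hall
        push Not at hall
        have := Finset.card_le_card (fun t _ => hall t : (Finset.univ : Finset ι) ⊆ supp x)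
        rw [Finset.card_univ] at this
        omega
      have hxz := not_mem_supp.1 hz
      have hzb : z ≠ b := fun e => hz (e ▸ hb)
      have hza : z ≠ a := fun e => hz (e ▸ ha)
      obtain ⟨d, hd, hda, hdb⟩ : ∃ d ∈ supp x, d ≠ a ∧ d ≠ b := by
        obtain ⟨d, hd⟩ := Finset.card_pos.1 (show 0 < (((supp x).erase a).erase b).card by
          rw [Finset.card_erase_of_mem (Finset.mem_erase.2 ⟨hab.symm, hb⟩), Finset.card_erase_of_mem ha]; omega)
        simp at hd
        exact ⟨d, hd.2.2, hd.2.1, hd.1⟩
      set y := x ∘ Equiv.swap a z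
      have hy : R y := swap_any hR hx hdb
        (mul_left_cancel₀ h4 ((hq d hd).trans (hq b hb).symm)) a z
      have hdot : y ⬝ᵥ x = 1 - x a * x a := by
        have hu := hR.unit x hx
        rw [dotProduct, Finset.sum_eq_sum_sdiff_singleton_add (Finset.mem_univ a)] at hu ⊢
        rw [show y a = 0 by simp [y, hxz]]
        rw [← hu, add_sub_cancel_right, zero_mul, add_zero]
        refine Finset.sum_congr rfl fun t ht => ?_
        have hta : t ≠ a := by simpa using ht
        rcases eq_or_ne t z with rfl | htz
        · simp [y, hxz]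
        · simp [y, Equiv.swap_apply_of_ne_of_ne hta htz]
      have ew : ∀ t, t ≠ a → t ≠ z → rv y x t = -(1 / 2) * x t := fun t hta htz => by
        rw [rv, hdot, hR.unit y hy, div_one, Pi.sub_apply, Pi.smul_apply, smul_eq_mul,
          show y t = x t by simp [y, Equiv.swap_apply_of_ne_of_ne hta htz]]
        field_simp
        linear_combination x t * hq a ha
      have e16 : ∀ t ∈ supp x, t ≠ a → t ≠ z → 16 * (rv y x t * rv y x t) = 1 := fun t ht hta htz => by
        rw [ew t hta htz]
        field_simp
        linear_combination 4 * hq t ht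
      have hb' := e16 b hb hab.symm hzb.symm
      have hd' := e16 d hd hda (fun e => hz (e ▸ hd))
      have nb : rv y x b ≠ 0 := fun e => by rw [e, mul_zero, mul_zero] at hb'; exact zero_ne_one hb'
      have nd : rv y x d ≠ 0 := fun e => by rw [e, mul_zero, mul_zero] at hd'; exact zero_ne_one hd'
      refine short_good hR hp h11 (hR.closed _ _ hy hx) hdb.symm nb nd (fun e => ?_) (Or.inr ⟨fun e => ?_,
        fun e => ?_, fun e => ?_⟩)
      · exact mul_ne_zero h2 h7 (show (2 : F) * 7 = 0 by linear_combination hb' + hd' - 16 * e)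
      · exact h3 (show (3 : F) = 0 by linear_combination hb' - 4 * e)
      · exact h7 (show (7 : F) = 0 by linear_combination hb' - 8 * e)
      · exact h5 (show (5 : F) = 0 by
          linear_combination 16 * e - (16 * (rv y x b * rv y x b) - 11) * hb')
    set r := x i * x i with hr
    have hQr : ∀ t ∈ Q, x t * x t = r := fun t ht => htwo t ht i hi
    have hsum : 4 = 4 * (Q.card : F) * r + (((supp x).filter (fun t => ¬ 4 * (x t * x t) ≠ 1)).card : F) := by
      have h := sum_supp x
      rw [hR.unit x hx, ← Finset.sum_filter_add_sum_filter_not (supp x) (fun t => 4 * (x t * x t) ≠ 1),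
        Finset.sum_congr rfl hQr, Finset.sum_congr rfl hquart, Finset.sum_const, Finset.sum_const,
        nsmul_eq_mul, nsmul_eq_mul] at h
      generalize ((supp x).filter (fun t => ¬ 4 * (x t * x t) ≠ 1)).card = c' at h ⊢
      field_simp at h
      linear_combination h
    have hqi := hQ i hi
    have hi4 : 4 * r ≠ 1 := (Finset.mem_filter.1 hi).2
    obtain ⟨n, hn'⟩ : ∃ n, Q.card = n := ⟨_, rfl⟩
    have hn0 : n ≠ 0 := hn' ▸ Finset.card_ne_zero_of_mem hi
    rw [hn'] at hcard hsum
    rcases (show k = 4 ∨ k = 5 by omega) with rfl | rfl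
    · rw [show ((supp x).filter (fun t => ¬ 4 * (x t * x t) ≠ 1)).card = 4 - n by omega,
        Nat.cast_sub (by omega)] at hsum
      exact absurd ((mul_eq_zero.1 (show (n : F) * (4 * r - 1) = 0 by push_cast at hsum; linear_combination -hsum)).resolve_left
        (c (by omega) hn0)) (sub_ne_zero.2 hi4)
    rw [show ((supp x).filter (fun t => ¬ 4 * (x t * x t) ≠ 1)).card = 5 - n by omega,
      Nat.cast_sub (by omega)] at hsum
    push_cast at hsum
    have hQ5 : n ≤ 5 := by omega
    have cast0 : ∀ {m : ℕ}, (m : F) = 0 → Fintype.card F ∣ m := fun h => dvd_of_cast hp h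
    replace hsum : 4 * (n : F) * r = (n : F) - 1 := by linear_combination -hsum
    interval_cases n <;> simp only [Nat.cast_zero, Nat.cast_one, Nat.cast_ofNat] at hsum
    · exact absurd rfl hn0
    · exact absurd (show (1 : F) = 0 by
        have : r = 0 := (mul_eq_zero.1 (show (4 : F) * r = 0 by linear_combination hsum)).resolve_left h4
        linear_combination hqi - (16 * r - 12) * this) one_ne_zero
    · exact absurd (show (1 : F) = 0 by
        have e8 : 8 * r = 1 := by linear_combination hsum
        linear_combination -4 * hqi + (8 * r - 5) * e8) one_ne_zero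
    · exact absurd (show (4 : F) * 5 = 0 by
        have e6 : 6 * r = 1 := mul_left_cancel₀ h2 (by linear_combination hsum)
        linear_combination -36 * hqi + (96 * r - 56) * e6) (mul_ne_zero h4 h5)
    · -- eleven elements
      have e16 : 16 * r = 3 := by linear_combination hsum
      have hp11 : Fintype.card F = 11 := by
        have := cast0 (m := 11) (by push_cast; linear_combination -16 * hqi + (16 * r - 9) * e16)
        rcases (Nat.Prime.eq_one_or_self_of_dvd (by norm_num) _ this) with h | h <;> omega
      have F11 : (11 : F) = 0 := by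
        have := FiniteField.cast_card_eq_zero F; rw [hp11] at this; exact_mod_cast this
      have hr5 : r = 5 := mul_left_cancel₀ (show (16 : F) ≠ 0 from by
        rw [show (16 : F) = 4 * 4 by norm_num]; exact mul_ne_zero h4 h4) (by linear_combination e16 - 7 * F11)
      obtain ⟨y, hy, hyv⟩ := flip_one hR hx i
      obtain ⟨m, hm, hmi⟩ := Finset.exists_mem_ne (show 1 < Q.card by omega) i
      obtain ⟨j, hj⟩ := Finset.card_pos.1 (show 0 < ((supp x).filter (fun t => ¬ 4 * (x t * x t) ≠ 1)).card by omega)
      have hjQ : j ∉ Q := fun h => (Finset.mem_filter.1 hj).2 (Finset.mem_filter.1 h).2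
      have hy1 : y m * y m = 1 := by
        rw [hyv, if_neg hmi, hQr m hm, ← hr, hr5]; linear_combination (164 : F) * F11
      have hyj : y j * y j ≠ 0 := by
        rw [hyv, if_neg (fun (e : j = i) => hjQ (e.symm ▸ hi))]
        exact mul_ne_zero (pow_ne_zero 2 (sub_ne_zero.2 hi4)) (nz (Finset.mem_filter.1 hj).1)
      exact short_good hR hp h11 hy (fun e : m = j => hjQ (e ▸ hm)) (fun e => by simp [e] at hy1)
        (fun e => hyj (by rw [e, zero_mul])) (fun e => hyj (by linear_combination e - hy1)) (Or.inl hy1)
    · -- nineteen elements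
      have e5 : 5 * r = 1 := mul_left_cancel₀ h4 (by linear_combination hsum)
      have hp19 : Fintype.card F = 19 := by
        have := cast0 (m := 19) (by push_cast; linear_combination -25 * hqi + (80 * r - 44) * e5)
        rcases (Nat.Prime.eq_one_or_self_of_dvd (by norm_num) _ this) with h | h <;> omega
      have F19 : (19 : F) = 0 := by
        have := FiniteField.cast_card_eq_zero F; rw [hp19] at this; exact_mod_cast this
      have hr4 : r = 4 := mul_left_cancel₀ h5 (by linear_combination e5 - F19)
      obtain ⟨y, hy, hyv⟩ := flip_one hR hx i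
      obtain ⟨m, hm, hmi⟩ := Finset.exists_mem_ne (show 1 < Q.card by omega) i
      obtain ⟨j, hj⟩ := Finset.card_pos.1 (show 0 < ((Q.erase i).erase m).card by
        rw [Finset.card_erase_of_mem (Finset.mem_erase.2 ⟨hmi, hm⟩), Finset.card_erase_of_mem hi]; omega)
      simp only [Finset.mem_erase] at hj
      have hv : ∀ t ∈ Q, t ≠ i → y t * y t = 7 := fun t ht hti => by
        rw [hyv, if_neg hti, hQr t ht, ← hr, hr4]; linear_combination (47 : F) * F19
      have n7 : ∀ t ∈ Q, t ≠ i → y t ≠ 0 := fun t ht hti e => h7 (by rw [← hv t ht hti, e, mul_zero])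
      refine short_good hR hp h11 hy (Ne.symm hj.1) (n7 m hm hmi) (n7 j hj.2.2 hj.2.1) ?_ ?_
      · rw [hv m hm hmi, hv j hj.2.2 hj.2.1]
        exact fun e => absurd (Nat.le_of_dvd (by norm_num) (cast0 (m := 13) (by push_cast; linear_combination e))) (by omega)
      · rw [hv m hm hmi]
        refine Or.inr ⟨fun e => ?_, fun e => ?_, fun e => ?_⟩
        · exact absurd (Nat.le_of_dvd (by norm_num) (cast0 (m := 8) (by push_cast; linear_combination e - F19))) (by omega)
        · exact absurd (Nat.le_of_dvd (by norm_num) (cast0 (m := 13) (by push_cast; linear_combination e))) (by omega)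
        · exact absurd (Nat.le_of_dvd (by norm_num) (cast0 (m := 17) (by push_cast; linear_combination e - 36 * F19))) (by omega)

end Cfsg.Agent.Frame10Six75
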