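import Cfsg.Agent.Lib.Frame10Six75Fusion
import Cfsg.Agent.Lib.Frame10Six75Short
import Cfsg.Agent.Lib.Frame10Gen

/-!
Six coordinates: an overgroup of the monomial group with a non-monomial element contains the derived orthogonal
group.
-/

set_option autoImplicit false
set_option linter.unusedSectionVars false
set_option linter.unusedSimpArgs false

namespace Cfsg.Agent.Frame10Six75

open QuadraticMap Module
open Cfsg.Agent.OrthUnitaryQuad Cfsg.Agent.OrthUnitaryRefl Cfsg.Agent.OrthUnitarySimple Cfsg.Agent.OmegaDecomp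
open Cfsg.Agent.Frame10
open scoped Matrix

variable {F : Type*} [Field F] {ι : Type*} [Fintype ι] [DecidableEq ι] [Fintype F] {M : Subgroup (orth (sq F ι))}

/-- The stabiliser of a coordinate line gives a vector which is not a root and has a zero coordinate. -/
theorem exists_mixed_six (hM : Over M) (h2 : (2 : F) ≠ 0) (hn : Fintype.card ι = 6)
    (i₀ : ι) {g : orth (sq F ι)}
    (hg : g ∈ M) (hgm : ¬ Mono g) : ∃ x, InR M i₀ x ∧ ¬ Root x ∧ ∃ z, x z = 0 := by
  classical
  have h := not_star_six hM h2 hn hg hgm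
  unfold Frame10.Star at h
  push Not at h
  obtain ⟨m, hm, l, ⟨l', c, hc⟩, hmm⟩ := h
  have hc0 : c ≠ 0 := fun e => by
    have := col_dot m h2 l l
    rw [hc, e, zero_smul, zero_dotProduct, if_pos rfl] at this
    exact zero_ne_one this
  have hl' : sq F ι (ax l') ≠ 0 := by rw [Frame10.sq_apply, dot_ax, ax_self]; exact one_ne_zero
  have key : ∀ y : ι → F, y ⬝ᵥ y = 1 → PairIn M y (ax l) → InR M i₀ (m.1 y) := fun y hy hp => by
    refine ⟨by rw [map_dot_self, hy], ?_⟩
    have h := hp.map hm
    rw [hc] at h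
    exact (pairIn_congr_right h hl' fun z => rv_smul hc0 _ z).trans (pair_ax hM h2 (by omega) l' i₀)
  have hzero : ∀ i, i ≠ l → m.1 (ax i) l' = 0 := fun i hi => by
    have := col_dot m h2 l i
    rw [hc, smul_dotProduct, dot_ax, if_neg (Ne.symm hi), smul_eq_mul] at this
    exact (mul_eq_zero.1 this).resolve_left hc0
  by_contra hall
  push Not at hall
  obtain ⟨a, ha⟩ : ∃ a, ¬ ∃ j, ∃ d : F, m.1 (ax a) = d • ax j := by
    by_contra h'; push Not at h'; exact hmm h'
  have hal : a ≠ l := fun e => ha ⟨l', c, by rw [e, hc]⟩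
  have hua : m.1 (ax a) ⬝ᵥ m.1 (ax a) = 1 := by rw [map_dot_self, dot_ax, ax_self]
  have hR : Root (m.1 (ax a)) := by
    by_contra hnr
    exact hall _ (key _ (by rw [dot_ax, ax_self]) (pair_ax hM h2 (by omega) a l)) hnr l' (hzero a hal)
  obtain ⟨i, j, hsupp, hval⟩ := hR
  set u := m.1 (ax a) with hu
  have one : ∀ p q : ι, (∀ t, t ≠ p → t ≠ q → u t = 0) → u q = 0 → False := fun p q hs hq =>
    ha ⟨p, u p, funext fun t => by
      rcases eq_or_ne t p with rfl | h
      · simp [ax, hu]
      · rcases eq_or_ne t q with rfl | h'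
        · rw [Pi.smul_apply, ax_ne h, smul_zero]; exact hq
        · rw [Pi.smul_apply, ax_ne h, smul_zero]; exact hs t h h'⟩
  have hj0 : u j ≠ 0 := fun e => one i j hsupp e
  have hi0 : u i ≠ 0 := fun e => one j i (fun t h h' => hsupp t h' h) e
  have hij : i ≠ j := by
    rintro rfl
    exact ha ⟨i, u i, funext fun t => by
      rcases eq_or_ne t i with rfl | h
      · simp [ax, hu]
      · rw [Pi.smul_apply, ax_ne h, smul_zero]; exact hsupp t h h⟩
  have hsq : u i * u i = u j * u j := by
    rcases hval with h | h | h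
    exacts [absurd h hi0, absurd h hj0, h]
  have h12 : 2 * (u i * u i) = 1 := by
    rw [← hua]
    rw [show u ⬝ᵥ u = u i * u i + u j * u j from
      Finset.sum_eq_add (s := Finset.univ) (f := fun t => u t * u t) i j hij
        (fun t _ ht => by rw [hsupp t ht.1 ht.2, zero_mul]) (by simp) (by simp), ← hsq]
    ring
  set y := u i • (df a l : ι → F) with hy
  have hyy : y ⬝ᵥ y = 1 := by
    rw [hy, smul_dotProduct, dotProduct_smul, df_self hal, smul_eq_mul, smul_eq_mul]
    linear_combination h12
  have hpy : PairIn M y (ax l) := by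
    refine pair_of_monoVec hM h2 (by omega) (fun k => ?_) (monoVec_ax l) (by rw [hyy]; exact one_ne_zero)
      (by rw [dot_ax, ax_self]; exact one_ne_zero) (by rw [hyy, dot_ax, ax_self]; exact ⟨1, rfl⟩)
    obtain ⟨q, e, he⟩ := monoVec_df h2 hal k
    exact ⟨q, e, by rw [hy, rv_smul hi0, he]⟩
  have hz := key y hyy hpy
  have hmy : m.1 y = u i • (u - c • ax l') := by
    rw [hy, df, map_smul, map_sub, hc]
  have hil' : i ≠ l' := fun e => hi0 (e ▸ hzero a hal)
  have hjl' : j ≠ l' := fun e => hj0 (e ▸ hzero a hal)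
  obtain ⟨z, hzi, hzj, hzl⟩ : ∃ z, z ≠ i ∧ z ≠ j ∧ z ≠ l' := by
    obtain ⟨z, hz⟩ := Finset.card_pos.1 (show 0 < ({i, j, l'} : Finset ι)ᶜ.card by
      rw [Finset.card_compl]; have := Finset.card_le_three (a := i) (b := j) (c := l'); omega)
    simp at hz
    exact ⟨z, hz.1, hz.2.1, hz.2.2⟩
  refine hall _ hz ?_ z ?_
  · rintro ⟨p, q, hpq, -⟩
    have hne : ∀ t, (t = i ∨ t = j ∨ t = l') → (m.1 y) t ≠ 0 := by
      intro t ht
      rw [hmy, Pi.smul_apply, Pi.sub_apply, Pi.smul_apply, smul_eq_mul]
      rcases ht with rfl | rfl | rfl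
      · rw [ax_ne hil', smul_zero, sub_zero]; exact mul_ne_zero hi0 hi0
      · rw [ax_ne hjl', smul_zero, sub_zero]; exact mul_ne_zero hi0 hj0
      · rw [show u t = 0 from hzero a hal, ax_self, smul_eq_mul, mul_one, zero_sub]; exact mul_ne_zero hi0 (neg_ne_zero.2 hc0)
    have hmem : ∀ t, (t = i ∨ t = j ∨ t = l') → t ∈ ({p, q} : Finset ι) := fun t ht => by
      by_contra h'
      simp at h'
      exact hne t ht (hpq t h'.1 h'.2)
    have := Finset.card_le_card (show ({i, j, l'} : Finset ι) ⊆ {p, q} from fun t ht => by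
      simp at ht; exact hmem t ht)
    rw [Finset.card_insert_of_notMem (by simp [hij, hil']), Finset.card_pair hjl'] at this
    have := Finset.card_le_two (a := p) (b := q)
    omega
  · rw [hmy, Pi.smul_apply, Pi.sub_apply, Pi.smul_apply, hsupp z hzi hzj, ax_ne hzl]
    simp

/-- All unit vectors in six coordinates. -/
theorem descent_six {R : (ι → F) → Prop} (hR : RSet R) (hp : (Fintype.card F).Prime) (hodd : Odd (Fintype.card F))
    (hn : Fintype.card ι = 6) {x : ι → F} (hx : R x) (hnr : ¬ Root x) {z : ι} (hz : x z = 0) :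
    ∀ y : ι → F, y ⬝ᵥ y = 1 → R y := by
  intro y hy
  by_cases h3 : Fintype.card F = 3
  · exact Frame10Five83.all_units_three hR h3 (by omega) hx hnr y hy
  have h2' := hp.two_le
  have h4 : Fintype.card F ≠ 4 := fun e => by rw [e] at hp; norm_num at hp
  have h2 : Fintype.card F ≠ 2 := fun e => by rw [e] at hodd; exact absurd hodd (by decide)
  have hS : Short R := by
    by_cases h11 : 11 ≤ Fintype.card F
    · refine short_le_five hR hp h11 (by omega) _ x hx rfl ?_ hnr
      have := Finset.card_le_card (show supp x ⊆ Finset.univ.erase z from fun t ht =>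
        Finset.mem_erase.2 ⟨fun e => mem_supp.1 ht (e ▸ hz), Finset.mem_univ t⟩)
      rw [Finset.card_erase_of_mem (Finset.mem_univ z), Finset.card_univ, hn] at this
      omega
    have hlist : Fintype.card F = 5 ∨ Fintype.card F = 7 := by
      rcases hodd with ⟨r, hr⟩
      have : Fintype.card F ≠ 9 := fun e => by rw [e] at hp; norm_num at hp
      omega
    rcases hlist with h | h
    · exact Frame10Five83.short_five hR hp h (by omega) _ x hx rfl hnr
    · exact Frame10Five83.short_seven hR hp h (by omega) _ x hx rfl hnr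
  exact Frame10Five83.all_units hR hp (by omega) (by omega) hS _ y hy rfl

/-- A unit vector orthogonal to two given vectors. -/
theorem exists_unit_perp_six (h2 : (2 : F) ≠ 0) (hn : Fintype.card ι = 6) (u w : ι → F) :
    ∃ y : ι → F, polar (sq F ι) u y = 0 ∧ polar (sq F ι) w y = 0 ∧ sq F ι y = 1 := by
  have hnd := nondegenerate (F := F) (ι := ι) h2
  have htop : QuadClassify.Nondeg (sq F ι) ⊤ := fun v _ h => hnd.1 v fun z => h z trivial
  set B := polarBilin (sq F ι)
  have hcut : ∀ (X : Submodule F (ι → F)) (v : ι → F),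
      finrank F X ≤ finrank F ↥(X ⊓ LinearMap.ker (B v)) + 1 := fun X v => by
    have := QuadClassify.finrank_ker_inf X (B v); omega
  set K := (⊤ : Submodule F (ι → F)) ⊓ LinearMap.ker (B u) ⊓ LinearMap.ker (B w)
  have h1 := hcut ⊤ u
  have h3 := hcut (⊤ ⊓ LinearMap.ker (B u)) w
  rw [finrank_top, Module.finrank_pi] at h1
  obtain ⟨a, ha, hQa⟩ := exists_nonsingular hnd htop (X := K) le_top (by
    rw [finrank_top, Module.finrank_pi]; simp only [K]; omega)
  obtain ⟨b, hb, hQb⟩ : ∃ b ∈ K ⊓ LinearMap.ker (B a), sq F ι b ≠ 0 := by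
    by_contra hno
    push Not at hno
    have hle : K ⊓ LinearMap.ker (B a) ≤ LinearMap.BilinForm.orthogonal B K := by
      intro x hx v hv
      show polar (sq F ι) v x = 0
      set t := polar (sq F ι) a v / (2 * sq F ι a)
      have hd : v - t • a ∈ K ⊓ LinearMap.ker (B a) := by
        refine ⟨K.sub_mem hv (K.smul_mem _ ha), ?_⟩
        show polar (sq F ι) a (v - t • a) = 0
        rw [polar_sub_right, polar_smul_right, polar_self_mul]
        simp only [t, smul_eq_mul]
        field_simp
        ring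
      have hxa : polar (sq F ι) a x = 0 := hx.2
      have : polar (sq F ι) (v - t • a) x = 0 := by
        rw [polar, hno _ ((K ⊓ LinearMap.ker (B a)).add_mem hd hx), hno _ hd, hno _ hx]; ring
      rwa [polar_sub_left, polar_smul_left, hxa, smul_zero, sub_zero] at this
    have e1 := Submodule.finrank_mono hle
    rw [LinearMap.BilinForm.finrank_orthogonal hnd, Module.finrank_pi] at e1
    have := hcut K a
    simp only [K] at this e1 ⊢
    omega
  have hau : polar (sq F ι) u a = 0 := ha.1.2
  have haw : polar (sq F ι) w a = 0 := ha.2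
  have hbu : polar (sq F ι) u b = 0 := hb.1.1.2
  have hbw : polar (sq F ι) w b = 0 := hb.1.2
  have hab : polar (sq F ι) a b = 0 := hb.2
  obtain ⟨r, s, hrs⟩ := Frame10Tern.exists_rep h2 (div_ne_zero hQb hQa) (sq F ι a)⁻¹
  refine ⟨r • a + s • b, ?_, ?_, ?_⟩
  · rw [polar_add_right, polar_smul_right, polar_smul_right, hau, hbu]; simp
  · rw [polar_add_right, polar_smul_right, polar_smul_right, haw, hbw]; simp
  · rw [QuadraticMap.map_add (⇑(sq F ι)), QuadraticMap.map_smul, QuadraticMap.map_smul, polar_smul_left,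
      polar_smul_right, hab]
    simp only [smul_eq_mul, mul_zero, add_zero]
    field_simp at hrs
    linear_combination hrs

/-- All unit vectors paired: the derived group. -/
theorem commutator_le_of_units_six (h2 : (2 : F) ≠ 0) (hn : Fintype.card ι = 6) {i₀ : ι}
    (hall : ∀ x : ι → F, x ⬝ᵥ x = 1 → InR M i₀ x) : commutator (orth (sq F ι)) ≤ M := by
  rw [commutator_eq_sGroup (nondegenerate h2) (by rw [Module.finrank_pi]; omega), sGroup, Subgroup.closure_le]
  rintro g ⟨u, w, hu, hw, hQw, rfl⟩
  obtain ⟨y, hy, hwy, hQy⟩ := exists_unit_perp_six h2 hn u w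
  have one : ∀ {z : ι → F} (hz : polar (sq F ι) u z = 0), sq F ι z = 1 → siegel (sq F ι) u z hu hz ∈ M := by
    intro z hz hQz
    have hQz' : sq F ι z ≠ 0 := by rw [hQz]; exact one_ne_zero
    have h1 : (z + sq F ι z • u) ⬝ᵥ (z + sq F ι z • u) = 1 := by
      rw [← Frame10.sq_apply, QuadraticMap.map_add (⇑(sq F ι)), QuadraticMap.map_smul, polar_smul_right, polar_comm _ z u,
        hz, hu, hQz]
      simp
    obtain ⟨_, _, hm⟩ := (hall z (by rw [← Frame10.sq_apply, hQz])).2.trans (hall _ h1).2.symm
    rw [siegel_eq_refl_mul hu hz hQz']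
    exact hm
  have hwy' : polar (sq F ι) u (w - y) = 0 := by rw [polar_sub_right, hw, hy, sub_zero]
  have h := siegel_mul hu hy hwy'
  simp only [add_sub_cancel] at h
  rw [SetLike.mem_coe, ← h]
  refine M.mul_mem (one hy hQy) (one hwy' ?_)
  rw [sub_eq_add_neg, QuadraticMap.map_add (⇑(sq F ι)), QuadraticMap.map_neg, polar_neg_right, hQw, hQy, hwy]
  simp

/-- The maximality statement for the standard frame in six coordinates. -/
theorem commutator_le {g : orth (sq F ι)} (hp : (Fintype.card F).Prime) (hodd : Odd (Fintype.card F))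
    (hn : Fintype.card ι = 6) (hM : Over M) (hg : g ∈ M) (hgm : ¬ Mono g) : commutator (orth (sq F ι)) ≤ M := by
  have h2 : (2 : F) ≠ 0 := by
    have := hp.two_le
    have hne : Fintype.card F ≠ 2 := fun e => by rw [e] at hodd; exact absurd hodd (by decide)
    exact_mod_cast small_ne hp (k := 2) (by omega) (by norm_num)
  obtain ⟨i₀⟩ : Nonempty ι := Fintype.card_pos_iff.1 (by omega)
  obtain ⟨x, hx, hnr, z, hz⟩ := exists_mixed_six hM h2 hn i₀ hg hgm
  exact commutator_le_of_units_six h2 hn (descent_six (rSet hM h2 (by omega) i₀) hp hodd hn hx hnr hz)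

end Cfsg.Agent.Frame10Six75
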