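import Mathlib
import Cfsg.Prelude.Def_ClassificationK
import Cfsg.Agent.S1755
import Cfsg.Agent.Lib.ComponentsFitting

/-!
# Groups of symplectic type of exponent four

A 2-group of symplectic type of exponent dividing 4 has commutators and squares in `{1, z}`, `z` the
central involution. Then: if it is `F*(C_G(z))` and contains a conjugate `z' ≠ z` of `z`, then `z`
lies in the corresponding conjugate of it.
-/

set_option autoImplicit false
set_option linter.style.haveILetI false

namespace Cfsg.Agent.SymplecticTypeFour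

open Subgroup
open scoped commutatorElement

theorem centralizer_characteristic {P : Type*} [Group P] (A : Subgroup P) [hA : A.Characteristic] :
    (centralizer (A : Set P)).Characteristic := by
  rw [characteristic_iff_le_comap]
  intro φ h hh
  rw [mem_comap, mem_centralizer_iff]
  intro a ha
  have ha' : φ.symm a ∈ A := by
    have := characteristic_iff_le_comap.mp hA φ.symm ha
    simpa using this
  have := congrArg φ (mem_centralizer_iff.mp hh _ ha')
  simpa using this

theorem char_trans {P : Type*} [Group P] {H : Subgroup P} [hH : H.Characteristic] (B : Subgroup H)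
    [hB : B.Characteristic] : (B.map H.subtype).Characteristic := by
  rw [characteristic_iff_map_le]
  rintro φ _ ⟨_, ⟨b, hb, rfl⟩, rfl⟩
  have hφ : ∀ φ : P ≃* P, ∀ x : P, x ∈ H → φ x ∈ H := fun φ x hx =>
    characteristic_iff_le_comap.mp hH φ hx
  let ψ : H ≃* H :=
    { toFun := fun x => ⟨φ x, hφ φ x x.2⟩
      invFun := fun x => ⟨φ.symm x, hφ φ.symm x x.2⟩
      left_inv := fun x => Subtype.ext (φ.symm_apply_apply x)
      right_inv := fun x => Subtype.ext (φ.apply_symm_apply x)
      map_mul' := fun x y => Subtype.ext (map_mul φ (x : P) (y : P)) }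
  exact ⟨ψ b, characteristic_iff_le_comap.mp hB ψ hb, rfl⟩

/-- The unique central involution. -/
theorem central_sq_one {P : Type*} [Group P] [Finite P]
    (hP : ∀ A : Subgroup P, A.Characteristic → IsMulCommutative A → IsCyclic A)
    {z : P} (hzc : z ∈ center P) (hzz : z * z = 1) (hz1 : z ≠ 1) {x : P} (hx : x ∈ center P)
    (hxx : x * x = 1) : x = 1 ∨ x = z := by
  classical
  haveI := hP (center P) inferInstance inferInstance
  by_contra hne
  obtain ⟨h1, h2⟩ := not_or.mp hne
  cases nonempty_fintype (center P)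
  have hcard := IsCyclic.card_pow_eq_one_le (α := center P) (n := 2) (by norm_num)
  have hsub : ({1, ⟨z, hzc⟩, ⟨x, hx⟩} : Finset (center P)) ⊆
      Finset.univ.filter (fun a : center P => a ^ 2 = 1) := by
    intro a ha
    simp only [Finset.mem_insert, Finset.mem_singleton] at ha
    rw [Finset.mem_filter]
    refine ⟨Finset.mem_univ _, ?_⟩
    rcases ha with rfl | rfl | rfl
    · simp
    · exact Subtype.ext (by simp [pow_two, hzz])
    · exact Subtype.ext (by simp [pow_two, hxx])
  have h3 : ({1, ⟨z, hzc⟩, ⟨x, hx⟩} : Finset (center P)).card = 3 := by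
    rw [Finset.card_insert_of_notMem, Finset.card_pair]
    · exact fun e => h2 (congrArg Subtype.val e).symm
    · simp only [Finset.mem_insert, Finset.mem_singleton, not_or]
      exact ⟨fun e => hz1 (congrArg Subtype.val e).symm, fun e => h1 (congrArg Subtype.val e).symm⟩
  have := Finset.card_le_card hsub
  omega

theorem struct_aux : ∀ (n : ℕ) (P : Type*) [Group P] [Finite P], Nat.card P ≤ n → IsPGroup 2 P →
    (∀ A : Subgroup P, A.Characteristic → IsMulCommutative A → IsCyclic A) → (∀ x : P, x ^ 4 = 1) →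
    ∀ z : P, z ∈ center P → z * z = 1 → z ≠ 1 →
      (∀ x y : P, x * y * x⁻¹ = y ∨ x * y * x⁻¹ = z * y) ∧ ∀ x : P, x * x = 1 ∨ x * x = z := by
  intro n
  induction n with
  | zero => intro P _ _ hcard; exact absurd hcard (by have := Nat.card_pos (α := P); omega)
  | succ n ih =>
    intro P _ _ hcard hpg hP h4 z hzc hzz hz1
    have p4 : ∀ x : P, x * x * (x * x) = 1 := fun x => by rw [← h4 x]; simp [pow_succ, mul_assoc]
    have hzcomm : ∀ x : P, x * z = z * x := fun x => mem_center_iff.mp hzc x
    -- class at most two suffices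
    suffices hclass : ∀ x y : P, x * y * x⁻¹ * y⁻¹ ∈ center P by
      have hsq : ∀ x y : P, (x * y * x⁻¹ * y⁻¹) * (x * y * x⁻¹ * y⁻¹) = 1 := by
        intro x y
        set w := x * y * x⁻¹ * y⁻¹ with hw
        have hwc : ∀ t, t * w = w * t := mem_center_iff.mp (hclass x y)
        have e1 : x * y = w * (y * x) := by rw [hw]; group
        have e1' : y * x = w⁻¹ * (x * y) := by rw [e1]; group
        have e2 : x * y * (x * y) = w⁻¹ * (x * x * (y * y)) := by
          have hwi : ∀ t, t * w⁻¹ = w⁻¹ * t := mem_center_iff.mp ((center P).inv_mem (hclass x y))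
          calc x * y * (x * y) = x * (y * x) * y := by group
            _ = (x * w⁻¹) * (x * y) * y := by rw [e1']; group
            _ = _ := by rw [hwi]; group
        have e3 := p4 (x * y)
        have hwi : ∀ t, t * w⁻¹ = w⁻¹ * t := mem_center_iff.mp ((center P).inv_mem (hclass x y))
        have hxy : x * y * x⁻¹ = w * y := by rw [hw]; group
        have e4 : x * x * (y * y) * (x * x)⁻¹ = w * w * (w * w) * (y * y) := by
          have a1 : x * (y * y) * x⁻¹ = w * w * (y * y) := by
            calc x * (y * y) * x⁻¹ = (x * y * x⁻¹) * (x * y * x⁻¹) := by group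
              _ = w * (y * w) * y := by rw [hxy]; group
              _ = _ := by rw [hwc y]; group
          calc x * x * (y * y) * (x * x)⁻¹ = x * (x * (y * y) * x⁻¹) * x⁻¹ := by group
            _ = (x * (w * w)) * (y * y) * x⁻¹ := by rw [a1]; group
            _ = (w * w) * (x * (y * y) * x⁻¹) := by
              rw [show x * (w * w) = w * w * x by rw [← mul_assoc, hwc x, mul_assoc, hwc x, ← mul_assoc]]
              group
            _ = _ := by rw [a1]; group
        rw [p4 w, one_mul] at e4
        have e5 : (x * x) * (y * y) = (y * y) * (x * x) := mul_inv_eq_iff_eq_mul.mp e4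
        rw [e2] at e3
        have e6 : w⁻¹ * (x * x * (y * y)) * (w⁻¹ * (x * x * (y * y))) = w⁻¹ * w⁻¹ := by
          calc w⁻¹ * (x * x * (y * y)) * (w⁻¹ * (x * x * (y * y)))
              = w⁻¹ * ((x * x * (y * y)) * w⁻¹) * (x * x * (y * y)) := by group
            _ = w⁻¹ * w⁻¹ * ((x * x * (y * y)) * (x * x * (y * y))) := by rw [hwi]; group
            _ = w⁻¹ * w⁻¹ * ((x * x) * (x * x) * ((y * y) * (y * y))) := by
              congr 1
              calc x * x * (y * y) * (x * x * (y * y)) = x * x * ((y * y) * (x * x)) * (y * y) := by group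
                _ = _ := by rw [← e5]; group
            _ = w⁻¹ * w⁻¹ := by rw [p4 x, p4 y]; group
        rw [e6] at e3
        rw [← inv_inj, mul_inv_rev, e3, inv_one]
      have hcase : ∀ x y : P, x * y * x⁻¹ = y ∨ x * y * x⁻¹ = z * y := by
        intro x y
        rcases central_sq_one hP hzc hzz hz1 (hclass x y) (hsq x y) with e | e
        · exact Or.inl (mul_inv_eq_one.mp e)
        · exact Or.inr (mul_inv_eq_iff_eq_mul.mp e)
      refine ⟨hcase, fun x => central_sq_one hP hzc hzz hz1 (mem_center_iff.mpr fun y => ?_) (p4 x)⟩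
      have e : y * (x * x) * y⁻¹ = (y * x * y⁻¹) * (y * x * y⁻¹) := by group
      apply mul_inv_eq_iff_eq_mul.mp
      rw [e]
      rcases hcase y x with e1 | e1
      · rw [e1]
      · rw [e1, mul_assoc z x (z * x), ← mul_assoc x z x, hzcomm, mul_assoc z x x, ← mul_assoc z z,
          hzz, one_mul]
    by_contra hcl
    push Not at hcl
    obtain ⟨x₀, y₀, hxy⟩ := hcl
    have hA2 : ∀ a ∈ Subgroup.upperCentralSeries P 2, ∀ t : P, a * t * a⁻¹ * t⁻¹ ∈ center P := by
      intro a ha t
      rw [← Subgroup.upperCentralSeries_one]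
      exact Subgroup.mem_upperCentralSeries_succ_iff.mp ha t
    set A := _root_.commutator P ⊓ Subgroup.upperCentralSeries P 2 with hA
    haveI hAchar : A.Characteristic := by
      rw [characteristic_iff_le_comap]
      intro φ a ha
      exact ⟨characteristic_iff_le_comap.mp (inferInstance : (_root_.commutator P).Characteristic) φ ha.1,
        characteristic_iff_le_comap.mp
          (inferInstance : (Subgroup.upperCentralSeries P 2).Characteristic) φ ha.2⟩
    -- elements of `Z_2` commute with commutators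
    have hAd : ∀ a ∈ Subgroup.upperCentralSeries P 2, ∀ b ∈ _root_.commutator P, a * b = b * a := by
      intro a ha b hb
      suffices _root_.commutator P ≤ centralizer ({a} : Set P) from
        (mem_centralizer_singleton_iff.mp (this hb)).symm
      rw [_root_.commutator_def, Subgroup.commutator_le]
      intro x _ y _
      rw [mem_centralizer_singleton_iff]
      have hx := hA2 a ha x
      have hy := hA2 a ha y
      have hc : ∀ c ∈ center P, ∀ t, t * c = c * t := fun c hc => mem_center_iff.mp hc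
      have ex : a * x * a⁻¹ = (a * x * a⁻¹ * x⁻¹) * x := by group
      have ey : a * y * a⁻¹ = (a * y * a⁻¹ * y⁻¹) * y := by group
      generalize a * x * a⁻¹ * x⁻¹ = c at hx ex
      generalize a * y * a⁻¹ * y⁻¹ = e at hy ey
      have : a * ⁅x, y⁆ * a⁻¹ = ⁅x, y⁆ := by
        calc a * ⁅x, y⁆ * a⁻¹
            = (a * x * a⁻¹) * (a * y * a⁻¹) * (a * x * a⁻¹)⁻¹ * (a * y * a⁻¹)⁻¹ := by
              rw [commutatorElement_def]; group
          _ = c * x * (e * y) * (x⁻¹ * c⁻¹) * (y⁻¹ * e⁻¹) := by rw [ex, ey]; group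
          _ = c * ((x * e) * y * x⁻¹) * (c⁻¹ * y⁻¹) * e⁻¹ := by group
          _ = c * ((e * x) * y * x⁻¹) * (y⁻¹ * c⁻¹) * e⁻¹ := by
              rw [hc e hy x, hc c⁻¹ ((center P).inv_mem hx) y⁻¹]
          _ = c * (e * ⁅x, y⁆ * c⁻¹) * e⁻¹ := by rw [commutatorElement_def]; group
          _ = c * (c⁻¹ * (e * ⁅x, y⁆)) * e⁻¹ := by rw [hc c⁻¹ ((center P).inv_mem hx)]
          _ = (e * ⁅x, y⁆) * e⁻¹ := by group
          _ = ⁅x, y⁆ := by rw [← hc e hy]; group
      exact (mul_inv_eq_iff_eq_mul.mp this).symm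
    haveI hAcomm : IsMulCommutative A := ⟨⟨fun a b => Subtype.ext (hAd a a.2.2 b b.2.1)⟩⟩
    haveI := hP A hAchar hAcomm
    -- `A` is not central
    obtain ⟨a₁, ha₁, ha₁c⟩ : ∃ a ∈ A, a ∉ center P := by
      have hne : (_root_.commutator P).map (QuotientGroup.mk' (center P)) ≠ ⊥ := by
        intro h
        rw [Subgroup.map_eq_bot_iff, QuotientGroup.ker_mk'] at h
        exact hxy (h (commutator_mem_commutator (mem_top x₀) (mem_top y₀)))
      haveI : ((_root_.commutator P).map (QuotientGroup.mk' (center P))).Normal :=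
        Subgroup.Normal.map inferInstance _ (QuotientGroup.mk'_surjective _)
      obtain ⟨w, hw, hwc, hw2⟩ := S1755.exists_central_involution (hpg.to_quotient (center P))
        ((_root_.commutator P).map (QuotientGroup.mk' (center P))) hne
      obtain ⟨a, ha, rfl⟩ := hw
      refine ⟨a, ⟨ha, Subgroup.mem_upperCentralSeries_succ_iff.mpr fun t => ?_⟩, fun h => ?_⟩
      · rw [Subgroup.upperCentralSeries_one, ← QuotientGroup.eq_one_iff]
        have := mem_center_iff.mp hwc (QuotientGroup.mk' (center P) t)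
        simp only [QuotientGroup.mk'_apply] at this
        change ((a * t * a⁻¹ * t⁻¹ : P) : P ⧸ center P) = 1
        simp only [QuotientGroup.mk_mul, QuotientGroup.mk_inv]
        rw [← this]; group
      · rw [QuotientGroup.mk'_apply, (QuotientGroup.eq_one_iff a).mpr h, orderOf_one] at hw2
        exact absurd hw2 (by norm_num)
    obtain ⟨d, hd⟩ := IsCyclic.exists_monoid_generator (α := A)
    have hAel : ∀ a ∈ A, ∃ k : ℕ, a = (d : P) ^ k := by
      intro a ha
      obtain ⟨k, hk⟩ := Submonoid.mem_powers_iff _ _ |>.mp (hd ⟨a, ha⟩)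
      exact ⟨k, by rw [← Subgroup.coe_pow, hk]⟩
    have hAel4 : ∀ a ∈ A, a = 1 ∨ a = (d : P) ∨ a = (d : P) * d ∨ a = (d : P)⁻¹ := by
      intro a ha
      obtain ⟨k, rfl⟩ := hAel a ha
      have hmod : (d : P) ^ k = (d : P) ^ (k % 4) := by
        conv_lhs => rw [← Nat.div_add_mod k 4, pow_add, pow_mul, h4, one_pow, one_mul]
      rw [hmod]
      have : k % 4 < 4 := Nat.mod_lt _ (by norm_num)
      interval_cases (k % 4)
      · simp
      · simp
      · simp [pow_two]
      · right; right; right
        exact eq_inv_of_mul_eq_one_left (by rw [← pow_succ]; exact h4 _)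
    have hdA : (d : P) ∈ A := d.2
    have hdd : (d : P) * d ≠ 1 := by
      intro h
      apply ha₁c
      refine mem_center_iff.mpr fun t => ?_
      have h2 : ∀ a ∈ A, a = 1 ∨ a = (d : P) := by
        intro a ha
        rcases hAel4 a ha with e | e | e | e
        · exact Or.inl e
        · exact Or.inr e
        · exact Or.inl (e.trans h)
        · exact Or.inr (e.trans (inv_eq_of_mul_eq_one_right h))
      have hnorm : A.Normal := inferInstance
      rcases h2 a₁ ha₁ with e | e
      · rw [e]; simp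
      · rcases h2 _ (hnorm.conj_mem a₁ ha₁ t) with e1 | e1
        · exact absurd (e ▸ conj_eq_one_iff.mp e1) (fun h' => ha₁c (by rw [e, h']; exact one_mem _))
        · rw [← e] at e1
          exact mul_inv_eq_iff_eq_mul.mp e1
    have hconjd : ∀ t : P, t * d * t⁻¹ = (d : P) ∨ t * d * t⁻¹ = (d : P)⁻¹ := by
      intro t
      rcases hAel4 _ ((inferInstance : A.Normal).conj_mem _ hdA t) with e | e | e | e
      · exact absurd (by rw [conj_eq_one_iff.mp e]; simp) hdd
      · exact Or.inl e
      · exfalso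
        apply hdd
        have e2 : (t * d * t⁻¹) * (t * d * t⁻¹) = 1 := by rw [e]; exact p4 d
        rw [show (t * d * t⁻¹) * (t * d * t⁻¹) = t * ((d : P) * d) * t⁻¹ by group] at e2
        exact conj_eq_one_iff.mp e2
      · exact Or.inr e
    have hddz : (d : P) * d = z := by
      refine (central_sq_one hP hzc hzz hz1 (mem_center_iff.mpr fun t => ?_) (p4 _)).resolve_left hdd
      apply mul_inv_eq_iff_eq_mul.mp
      rw [show t * ((d : P) * d) * t⁻¹ = (t * d * t⁻¹) * (t * d * t⁻¹) by group]
      rcases hconjd t with e | e <;> rw [e]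
      rw [← mul_inv_rev]
      exact inv_eq_of_mul_eq_one_right (p4 d)
    set H := centralizer (A : Set P) with hH
    haveI : H.Characteristic := centralizer_characteristic A
    have hmemH : ∀ t : P, t ∈ H ↔ t * d * t⁻¹ = (d : P) := by
      intro t
      constructor
      · intro ht
        rw [← mem_centralizer_iff.mp ht d hdA, mul_inv_cancel_right]
      · intro ht
        refine mem_centralizer_iff.mpr fun a ha => ?_
        obtain ⟨k, rfl⟩ := hAel a ha
        exact ((show Commute t (d : P) from mul_inv_eq_iff_eq_mul.mp ht).pow_right k).symm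
    obtain ⟨x, hx⟩ : ∃ x, x ∉ H := by
      by_contra hall
      push Not at hall
      exact ha₁c (mem_center_iff.mpr fun t => (mem_centralizer_iff.mp (hall t) a₁ ha₁).symm)
    have hxd : x * d * x⁻¹ = (d : P)⁻¹ := (hconjd x).resolve_left fun e => hx ((hmemH x).mpr e)
    have hdec : ∀ y, y ∉ H → y * x⁻¹ ∈ H := by
      intro y hy
      have hyd : y * d * y⁻¹ = (d : P)⁻¹ := (hconjd y).resolve_left fun e => hy ((hmemH y).mpr e)
      rw [hmemH]
      have e0 : x⁻¹ * d * x = (d : P)⁻¹ := by
        calc x⁻¹ * d * x = x⁻¹ * (x * d * x⁻¹)⁻¹ * x := by rw [hxd, inv_inv]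
          _ = _ := by group
      calc y * x⁻¹ * d * (y * x⁻¹)⁻¹ = y * (x⁻¹ * d * x) * y⁻¹ := by group
        _ = (y * d * y⁻¹)⁻¹ := by rw [e0]; group
        _ = _ := by rw [hyd, inv_inv]
    have hdH : (d : P) ∈ H := (hmemH _).mpr (by group)
    have hzH : z ∈ H := (hmemH z).mpr (by rw [← hzcomm, mul_inv_cancel_right])
    -- apply the induction hypothesis to `H`
    have hHcard : Nat.card H ≤ n := by
      have hne : H ≠ ⊤ := fun e => hx (e ▸ mem_top x)
      have hdiv := Subgroup.card_mul_index H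
      have h1 : H.index ≠ 1 := fun e => hne (Subgroup.index_eq_one.mp e)
      have h2 : 0 < Nat.card H := Nat.card_pos
      have h3 : H.index ≠ 0 := Subgroup.index_ne_zero_of_finite
      have h4 : 2 ≤ H.index := by omega
      nlinarith
    have hHP : ∀ B : Subgroup H, B.Characteristic → IsMulCommutative B → IsCyclic B := by
      intro B hB hBc
      have := hP (B.map H.subtype) (char_trans B) inferInstance
      exact (B.equivMapOfInjective H.subtype H.subtype_injective).isCyclic.mpr this
    obtain ⟨hHconj, hHsq⟩ := ih H hHcard (hpg.to_subgroup H) hHP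
      (fun h => Subtype.ext (by simpa using h4 h)) ⟨z, hzH⟩
      (mem_center_iff.mpr fun t => Subtype.ext (hzcomm t))
      (Subtype.ext hzz) (fun e => hz1 (congrArg Subtype.val e))
    have hHc : ∀ h ∈ H, ∀ k ∈ H, h * k * h⁻¹ = k ∨ h * k * h⁻¹ = z * k := by
      intro h hh k hk
      rcases hHconj ⟨h, hh⟩ ⟨k, hk⟩ with e | e
      · exact Or.inl (congrArg Subtype.val e)
      · exact Or.inr (congrArg Subtype.val e)
    have hHs : ∀ h ∈ H, h * h = 1 ∨ h * h = z := by
      intro h hh
      rcases hHsq ⟨h, hh⟩ with e | e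
      · exact Or.inl (congrArg Subtype.val e)
      · exact Or.inr (congrArg Subtype.val e)
    haveI : H.Normal := inferInstance
    set c : P → P := fun h => x * h * x⁻¹ * h⁻¹ with hc
    have hcH : ∀ h ∈ H, c h ∈ H := fun h hh =>
      H.mul_mem (Subgroup.Normal.conj_mem ‹_› h hh x) (H.inv_mem hh)
    -- squares of the `c h` are trivial
    have hc2 : ∀ h ∈ H, c h * c h = 1 := by
      intro h hh
      set u := x * x with hu
      have huH : u ∈ H := by
        rw [hmemH, hu, show x * x * (d : P) * (x * x)⁻¹ = x * (x * d * x⁻¹) * x⁻¹ by group, hxd,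
          show x * (d : P)⁻¹ * x⁻¹ = (x * d * x⁻¹)⁻¹ by group, hxd, inv_inv]
      have hxu : x * u = u * x := by rw [hu, mul_assoc]
      have hcu : c h * u = u * c h := by
        have e0 : u * c h * u⁻¹ = c (u * h * u⁻¹) := by
          rw [hc]
          simp only
          calc u * (x * h * x⁻¹ * h⁻¹) * u⁻¹
              = (u * x) * h * (u * x)⁻¹ * u * h⁻¹ * u⁻¹ := by group
            _ = _ := by rw [← hxu]; group
        rcases hHc u huH h hh with e | e
        · rw [e] at e0
          exact (mul_inv_eq_iff_eq_mul.mp e0).symm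
        · rw [e] at e0
          have : c (z * h) = c h := by
            rw [hc]
            simp only
            calc x * (z * h) * x⁻¹ * (z * h)⁻¹ = (x * z) * h * x⁻¹ * h⁻¹ * z⁻¹ := by group
              _ = z * (x * h * x⁻¹ * h⁻¹) * z⁻¹ := by rw [hzcomm]; group
              _ = _ := by rw [← hzcomm, mul_inv_cancel_right]
          rw [this] at e0
          exact (mul_inv_eq_iff_eq_mul.mp e0).symm
      have hu2 : u * u = 1 := p4 x
      set k := c h with hk
      have hkH : k ∈ H := hcH h hh
      -- the square of `h x` is `k u` up to a power of `z`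
      obtain ⟨e, he, hee⟩ : ∃ e : P, (e = 1 ∨ e = z) ∧ h * x * (h * x) = e * (k * u) := by
        have e1 : h * x * (h * x) = (h * k * h⁻¹) * (h * h) * u := by
          rw [hk, hu, hc]; group
        rcases hHc h hh k hkH with a | a <;> rcases hHs h hh with b | b <;> rw [a, b] at e1
        · exact ⟨1, Or.inl rfl, by rw [e1]; group⟩
        · exact ⟨z, Or.inr rfl, by rw [e1, hzcomm]; group⟩
        · exact ⟨z, Or.inr rfl, by rw [e1]; group⟩
        · refine ⟨1, Or.inl rfl, ?_⟩
          rw [e1, mul_assoc z k z, hzcomm k, ← mul_assoc z z k, hzz]; group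
      have hee2 := p4 (h * x)
      rw [hee] at hee2
      have he2 : e * e = 1 := by rcases he with e' | e' <;> simp [e', hzz]
      have hec : ∀ t, t * e = e * t := by
        intro t; rcases he with e' | e' <;> simp [e', hzcomm]
      calc k * k = (e * e) * ((k * k) * (u * u)) := by rw [he2, hu2, one_mul, mul_one]
        _ = e * e * (k * ((u * k) * u)) := by rw [← hcu]; group
        _ = e * (e * (k * u)) * (k * u) := by group
        _ = e * ((k * u) * e) * (k * u) := by rw [hec]
        _ = 1 := by rw [← hee2]; group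
    -- the subgroup generated by the `c h` and `z` has exponent two
    set S : Set P := insert z (c '' (H : Set P)) with hS
    have hScomm : ∀ a ∈ S, ∀ b ∈ S, a * b = b * a := by
      rintro a (rfl | ⟨h, hh, rfl⟩) b (rfl | ⟨k, hk, rfl⟩)
      · rfl
      · exact (hzcomm _).symm
      · exact hzcomm _
      · -- `c h * c k` is `c (h k)` up to `z`
        have e1 : c (h * k) = c h * (h * c k * h⁻¹) := by simp only [hc]; group
        have hp := hc2 (h * k) (H.mul_mem hh hk)
        have hpr : c h * c k * (c h * c k) = 1 := by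
          rcases hHc h hh _ (hcH k hk) with e | e <;> rw [e] at e1
          · rwa [← e1]
          · rw [e1] at hp
            rw [← hp]
            calc c h * c k * (c h * c k) = (z * z) * (c h * c k * (c h * c k)) := by rw [hzz, one_mul]
              _ = z * ((z * c h) * c k * (c h * c k)) := by group
              _ = z * (c h * (z * c k) * (c h * c k)) := by rw [← hzcomm (c h)]; group
              _ = c h * (z * c k) * z * (c h * c k) := by rw [← mul_assoc, ← hzcomm]
              _ = _ := by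
                rw [show c h * (z * c k) * z * (c h * c k) = c h * (z * c k) * ((z * c h) * c k) by group,
                  ← hzcomm (c h)]
                group
        have := inv_eq_of_mul_eq_one_right hpr
        rw [mul_inv_rev, inv_eq_of_mul_eq_one_right (hc2 h hh),
          inv_eq_of_mul_eq_one_right (hc2 k hk)] at this
        exact this.symm
    have hSsq : ∀ a ∈ S, a * a = 1 := by
      rintro a (rfl | ⟨h, hh, rfl⟩)
      exacts [hzz, hc2 h hh]
    set N := closure S with hN
    haveI hNc : IsMulCommutative N := isMulCommutative_closure fun a ha b hb => hScomm a ha b hb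
    have hNsq : ∀ a ∈ N, a * a = 1 := by
      intro a ha
      induction ha using closure_induction with
      | mem a ha => exact hSsq a ha
      | one => simp
      | mul a b ha hb iha ihb =>
        have hab : a * b = b * a := congrArg Subtype.val (hNc.is_comm.comm ⟨a, ha⟩ ⟨b, hb⟩)
        calc a * b * (a * b) = a * (b * a) * b := by group
          _ = (a * a) * (b * b) := by rw [← hab]; group
          _ = 1 := by rw [iha, ihb, one_mul]
      | inv a _ iha => rw [← mul_inv_rev, iha, inv_one]
    have hzN : z ∈ N := subset_closure (Set.mem_insert _ _)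
    have hcN : ∀ h ∈ H, c h ∈ N := fun h hh => subset_closure (Set.mem_insert_of_mem _ ⟨h, hh, rfl⟩)
    have hHN : ∀ h ∈ H, ∀ k ∈ H, h * k * h⁻¹ * k⁻¹ ∈ N := by
      intro h hh k hk
      rcases hHc h hh k hk with e | e <;> rw [e]
      · rw [mul_inv_cancel]; exact one_mem _
      · rw [mul_inv_cancel_right]; exact hzN
    have hform : ∀ h ∈ H, ∀ l ∈ H, ∀ k ∈ H, h * c l * k * h⁻¹ * k⁻¹ ∈ N := by
      intro h hh l hl k hk
      have e : h * c l * k * h⁻¹ * k⁻¹ = (h * c l * h⁻¹ * (c l)⁻¹) * c l * (h * k * h⁻¹ * k⁻¹) := by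
        group
      rw [e]
      exact N.mul_mem (N.mul_mem (hHN h hh _ (hcH l hl)) (hcN l hl)) (hHN h hh k hk)
    have hDN : _root_.commutator P ≤ N := by
      rw [_root_.commutator_def, Subgroup.commutator_le]
      intro a _ b _
      rw [commutatorElement_def]
      by_cases ha : a ∈ H <;> by_cases hb : b ∈ H
      · exact hHN a ha b hb
      · set k := b * x⁻¹ with hk
        have hkH : k ∈ H := hdec b hb
        have hbk : b = k * x := by rw [hk]; group
        have : a * b * a⁻¹ * b⁻¹ = (k * c a * a * k⁻¹ * a⁻¹)⁻¹ := by rw [hbk]; simp only [hc]; group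
        rw [this]
        exact N.inv_mem (hform k hkH a ha a ha)
      · set k := a * x⁻¹ with hk
        have hkH : k ∈ H := hdec a ha
        have hak : a = k * x := by rw [hk]; group
        have : a * b * a⁻¹ * b⁻¹ = k * c b * b * k⁻¹ * b⁻¹ := by rw [hak]; simp only [hc]; group
        rw [this]
        exact hform k hkH b hb b hb
      · set k := a * x⁻¹ with hk
        set l := b * x⁻¹ with hl
        have hkH : k ∈ H := hdec a ha
        have hlH : l ∈ H := hdec b hb
        have hak : a = k * x := by rw [hk]; group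
        have hbl : b = l * x := by rw [hl]; group
        have : a * b * a⁻¹ * b⁻¹ = k * c (l * k⁻¹) * l * k⁻¹ * l⁻¹ := by
          rw [hak, hbl]; simp only [hc]; group
        rw [this]
        exact hform k hkH _ (H.mul_mem hlH (H.inv_mem hkH)) l hlH
    exact hdd (hNsq _ (hDN hdA.1))

/-- Commutators and squares of a symplectic-type group of exponent four lie in `{1, z}`. -/
theorem struct {P : Type*} [Group P] [Finite P] (h : Cfsg.IsOfSymplecticType P) (h4 : ∀ x : P, x ^ 4 = 1)
    {z : P} (hzc : z ∈ center P) (hzz : z * z = 1) (hz1 : z ≠ 1) :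
    (∀ x y : P, x * y * x⁻¹ = y ∨ x * y * x⁻¹ = z * y) ∧ (∀ x : P, x * x = 1 ∨ x * x = z) ∧
      ∀ x ∈ center P, x * x = 1 → x = 1 ∨ x = z := by
  obtain ⟨h1, h2⟩ := struct_aux (Nat.card P) P le_rfl h.1 h.2 h4 z hzc hzz hz1
  exact ⟨h1, h2, fun x hx hxx => central_sq_one h.2 hzc hzz hz1 hx hxx⟩

/-- The hypotheses used: `Q = F*(C_G(z))` of symplectic type and exponent four. -/
structure Hyp {G : Type*} [Group G] (Q : Subgroup G) (z : G) : Prop where
  mem : z ∈ Q
  ne_one : z ≠ 1
  zz : z * z = 1
  comm : ∀ x ∈ Q, x * z = z * x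
  sq : ∀ x ∈ Q, x * x = 1 ∨ x * x = z
  conj : ∀ x ∈ Q, ∀ y ∈ Q, x * y * x⁻¹ = y ∨ x * y * x⁻¹ = z * y
  central : ∀ x ∈ Q, (∀ y ∈ Q, y * x = x * y) → x * x = 1 → x = 1 ∨ x = z
  cent : ∀ g, (∀ x ∈ Q, g * x = x * g) → g ∈ Q
  norm : ∀ g, g * z = z * g → ∀ x ∈ Q, g * x * g⁻¹ ∈ Q
  full : (∀ g, g * z = z * g → ∃ k : ℕ, g ^ 2 ^ k = 1) → ∀ g, g * z = z * g → g ∈ Q

namespace Hyp

variable {G : Type*} [Group G] {Q : Subgroup G} {z : G} (h : Hyp Q z)
include h

theorem inv_z : z⁻¹ = z := inv_eq_of_mul_eq_one_right h.zz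

theorem z_mul_ne (x : G) : z * x ≠ x := fun e => h.ne_one (mul_eq_right.mp e)

theorem z_mul_z_mul (x : G) : z * (z * x) = x := by rw [← mul_assoc, h.zz, one_mul]

theorem partner {x : G} (hx : x ∈ Q) (hxx : x * x = 1) (h1 : x ≠ 1) (h2 : x ≠ z) :
    ∃ y ∈ Q, y * x * y⁻¹ = z * x := by
  by_contra hno
  push Not at hno
  rcases h.central x hx (fun y hy => mul_inv_eq_iff_eq_mul.mp ((h.conj y hy x hx).resolve_right (hno y hy)))
    hxx with e | e
  exacts [h1 e, h2 e]

theorem map_conj (g : G) : Hyp (Q.map (MulAut.conj g).toMonoidHom) (g * z * g⁻¹) := by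
  have cj : ∀ x y : G, g * x * g⁻¹ * (g * y * g⁻¹) = g * (x * y) * g⁻¹ := fun x y => by group
  have cjinj : ∀ x y : G, g * x * g⁻¹ = g * y * g⁻¹ ↔ x = y := fun x y => by simp
  refine ⟨⟨z, h.mem, rfl⟩, fun e => h.ne_one (conj_eq_one_iff.mp e), ?_, ?_, ?_, ?_, ?_, ?_, ?_, ?_⟩
  · rw [cj, h.zz]; group
  · rintro _ ⟨x, hx, rfl⟩
    simp only [MulEquiv.coe_toMonoidHom, MulAut.conj_apply, cj, h.comm x hx]
  · rintro _ ⟨x, hx, rfl⟩
    simp only [MulEquiv.coe_toMonoidHom, MulAut.conj_apply, cj]
    rcases h.sq x hx with e | e <;> simp [e]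
  · rintro _ ⟨x, hx, rfl⟩ _ ⟨y, hy, rfl⟩
    simp only [MulEquiv.coe_toMonoidHom, MulAut.conj_apply]
    rw [show (g * x * g⁻¹) * (g * y * g⁻¹) * (g * x * g⁻¹)⁻¹ = g * (x * y * x⁻¹) * g⁻¹ by group, cj]
    rcases h.conj x hx y hy with e | e
    · exact Or.inl (by rw [e])
    · exact Or.inr (by rw [e])
  · rintro _ ⟨x, hx, rfl⟩ hc hxx
    simp only [MulEquiv.coe_toMonoidHom, MulAut.conj_apply] at hc hxx ⊢
    rw [cj, conj_eq_one_iff] at hxx
    rcases h.central x hx (fun y hy => (cjinj _ _).mp (by
      have := hc (g * y * g⁻¹) ⟨y, hy, rfl⟩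
      rwa [cj, cj] at this)) hxx with e | e
    · exact Or.inl (by rw [e]; group)
    · exact Or.inr (by rw [e])
  · intro c hc
    refine ⟨g⁻¹ * c * g, h.cent _ fun x hx => ?_, by simp [mul_assoc]⟩
    have := hc (g * x * g⁻¹) ⟨x, hx, rfl⟩
    calc g⁻¹ * c * g * x = g⁻¹ * (c * (g * x * g⁻¹)) * g := by group
      _ = x * (g⁻¹ * c * g) := by rw [this]; group
  · rintro c hc _ ⟨x, hx, rfl⟩
    refine ⟨(g⁻¹ * c * g) * x * (g⁻¹ * c * g)⁻¹, h.norm _ ?_ x hx, ?_⟩
    · calc g⁻¹ * c * g * z = g⁻¹ * (c * (g * z * g⁻¹)) * g := by group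
        _ = z * (g⁻¹ * c * g) := by rw [hc]; group
    · simp only [MulEquiv.coe_toMonoidHom, MulAut.conj_apply]; group
  · intro hall c hc
    refine ⟨g⁻¹ * c * g, h.full (fun a ha => ?_) _ ?_, by simp [mul_assoc]⟩
    · obtain ⟨k, hk⟩ := hall (g * a * g⁻¹) (by rw [cj, cj, ha])
      rw [conj_pow, conj_eq_one_iff] at hk
      exact ⟨k, hk⟩
    · calc g⁻¹ * c * g * z = g⁻¹ * (c * (g * z * g⁻¹)) * g := by group
        _ = z * (g⁻¹ * c * g) := by rw [hc]; group

theorem map_conj_congr {a b : G} (e : a * z * a⁻¹ = b * z * b⁻¹) :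
    Q.map (MulAut.conj a).toMonoidHom ≤ Q.map (MulAut.conj b).toMonoidHom := by
  rintro _ ⟨x, hx, rfl⟩
  refine ⟨(b⁻¹ * a) * x * (b⁻¹ * a)⁻¹, h.norm _ ?_ x hx, ?_⟩
  · calc b⁻¹ * a * z = b⁻¹ * (a * z * a⁻¹) * a := by group
      _ = z * (b⁻¹ * a) := by rw [e]; group
  · simp only [MulEquiv.coe_toMonoidHom, MulAut.conj_apply]; group

/-- The key fact: if a conjugate `z' ≠ z` of `z` lies in `Q`, then `z` lies in that conjugate of `Q`. -/
theorem z_mem_conj [Finite G] {g : G} (hgQ : g * z * g⁻¹ ∈ Q) (hgz : g * z * g⁻¹ ≠ z) :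
    z ∈ Q.map (MulAut.conj g).toMonoidHom := by
  set Q' := Q.map (MulAut.conj g).toMonoidHom with hQ'
  have h' : Hyp Q' (g * z * g⁻¹) := h.map_conj g
  set z' := g * z * g⁻¹ with hz'
  by_contra hz
  obtain ⟨q, hq, eq⟩ := h.partner hgQ h'.zz h'.ne_one hgz
  have hzz' : z * z' = z' * z := (h.comm z' hgQ).symm
  -- no element of `Q'` maps `z` to `z' z`
  have hB : ∀ y ∈ Q', z * y * z⁻¹ * y⁻¹ = 1 ∨ z * y * z⁻¹ * y⁻¹ = z' → z * y = y * z := by
    intro y hy hc
    rcases hc with e | e
    · exact mul_inv_eq_iff_eq_mul.mp (mul_inv_eq_one.mp e)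
    exfalso
    have hyz' : y * z' = z' * y := h'.comm y hy
    have ezy : z * y * z⁻¹ = z' * y := mul_inv_eq_iff_eq_mul.mp e
    have e2 : y⁻¹ * z * y = z' * z := by
      calc y⁻¹ * z * y = y⁻¹ * (z * y * z⁻¹) * z := by group
        _ = y⁻¹ * (z' * y) * z := by rw [ezy]
        _ = y⁻¹ * (y * z') * z := by rw [hyz']
        _ = z' * z := by group
    have e3 : y * z * y⁻¹ = z' * z := by
      calc y * z * y⁻¹ = y * (z' * (z' * z)) * y⁻¹ := by rw [← mul_assoc z', h'.zz, one_mul]
        _ = y * z' * (y⁻¹ * z * y) * y⁻¹ := by rw [e2]; group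
        _ = z' * y * (y⁻¹ * z * y) * y⁻¹ := by rw [hyz']
        _ = z' * z := by group
    have hconj : (q * g) * z * (q * g)⁻¹ = y * z * y⁻¹ := by
      calc (q * g) * z * (q * g)⁻¹ = q * z' * q⁻¹ := by rw [hz']; group
        _ = y * z * y⁻¹ := by rw [eq, e3, hzz']
    have hzy : z ∈ Q.map (MulAut.conj y).toMonoidHom :=
      ⟨y⁻¹ * z * y, by rw [e2]; exact Q.mul_mem hgQ h.mem,
        by simp only [MulEquiv.coe_toMonoidHom, MulAut.conj_apply]; group⟩
    obtain ⟨x, hx, ex⟩ := h.map_conj_congr hconj.symm hzy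
    simp only [MulEquiv.coe_toMonoidHom, MulAut.conj_apply] at ex
    apply hz
    refine ⟨x, hx, ?_⟩
    simp only [MulEquiv.coe_toMonoidHom, MulAut.conj_apply]
    calc g * x * g⁻¹ = q⁻¹ * (q * g * x * (q * g)⁻¹) * q := by group
      _ = q⁻¹ * z * q := by rw [ex]
      _ = z := by rw [mul_assoc, ← h.comm q hq, inv_mul_cancel_left]
  -- an element commuting with `C_Q(z')` is central or central times `z'`
  have hdbl : ∀ d ∈ Q, (∀ s ∈ Q, s * z' = z' * s → s * d = d * s) →
      (∀ y ∈ Q, y * d = d * y) ∨ ∀ y ∈ Q, y * (d * z') = d * z' * y := by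
    intro d hd hcd
    have hsp : ∀ y ∈ Q, ¬ y * z' = z' * y → y * z' * y⁻¹ = z * z' := fun y hy hne =>
      (h.conj y hy z' hgQ).resolve_left fun e => hne (mul_inv_eq_iff_eq_mul.mp e)
    have hS : ∀ y ∈ Q, ¬ y * z' = z' * y → (q * y) * z' = z' * (q * y) := by
      intro y hy hne
      apply mul_inv_eq_iff_eq_mul.mp
      calc q * y * z' * (q * y)⁻¹ = q * (y * z' * y⁻¹) * q⁻¹ := by group
        _ = (q * z) * z' * q⁻¹ := by rw [hsp y hy hne]; group
        _ = z * (q * z' * q⁻¹) := by rw [h.comm q hq]; group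
        _ = z' := by rw [eq, h.z_mul_z_mul]
    rcases h.conj q hq d hd with e | e
    · left
      intro y hy
      by_cases hyz : y * z' = z' * y
      · exact hcd y hy hyz
      have e1 := hcd _ (Q.mul_mem hq hy) (hS y hy hyz)
      have e2 : q * (y * d) = q * (d * y) := by
        rw [← mul_assoc, e1, ← mul_assoc, ← mul_assoc q d y, mul_inv_eq_iff_eq_mul.mp e]
      exact mul_left_cancel e2
    · right
      intro y hy
      by_cases hyz : y * z' = z' * y
      · rw [← mul_assoc, hcd y hy hyz, mul_assoc, hyz, ← mul_assoc]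
      have e1 : Commute (q * y) (d * z') :=
        Commute.mul_right (hcd _ (Q.mul_mem hq hy) (hS y hy hyz)) (hS y hy hyz)
      have e2 : q * (d * z') = d * z' * q := by
        apply mul_inv_eq_iff_eq_mul.mp
        rw [show q * (d * z') * q⁻¹ = (q * d * q⁻¹) * (q * z' * q⁻¹) by group, e, eq,
          mul_assoc z d (z * z'), ← mul_assoc d z z', h.comm d hd, mul_assoc z d z', h.z_mul_z_mul]
      have e3 : q * (y * (d * z')) = q * (d * z' * y) := by
        rw [← mul_assoc, e1.eq, ← mul_assoc, ← mul_assoc q (d * z') y, e2]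
      exact mul_left_cancel e3
  -- the intersection of `Q` and `Q'` is `{1, z'}`
  have hD : ∀ d ∈ Q, d ∈ Q' → d = 1 ∨ d = z' := by
    intro d hd hd'
    have hc : ∀ s ∈ Q, s * z' = z' * s → s * d = d * s := by
      intro s hs hsz
      rcases h.conj s hs d hd with e | e
      · exact mul_inv_eq_iff_eq_mul.mp e
      · exfalso
        apply hz
        have h1 : s * d * s⁻¹ * d⁻¹ ∈ Q' := Q'.mul_mem (h'.norm s hsz d hd') (Q'.inv_mem hd')
        rwa [e, mul_inv_cancel_right] at h1
    have hcen : ∀ e ∈ Q, e ∈ Q' → (∀ y ∈ Q, y * e = e * y) → e = 1 := by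
      intro e he he' hec
      have hee : e * e = 1 := (h.sq e he).resolve_right fun h2 => hz (h2 ▸ Q'.mul_mem he' he')
      exact (h.central e he hec hee).resolve_right fun h2 => hz (h2 ▸ he')
    rcases hdbl d hd hc with e | e
    · exact Or.inl (hcen d hd hd' e)
    · refine Or.inr ?_
      have := hcen _ (Q.mul_mem hd hgQ) (Q'.mul_mem hd' h'.mem) e
      rw [eq_inv_of_mul_eq_one_left this, h'.inv_z]
  have hS : ∀ s ∈ Q, s * z' = z' * s → ∀ y ∈ Q', z * y = y * z →
      s * y * s⁻¹ = y ∨ s * y * s⁻¹ = z' * y := by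
    intro s hs hsz y hy hyz
    have h1 : s * y * s⁻¹ * y⁻¹ ∈ Q' := Q'.mul_mem (h'.norm s hsz y hy) (Q'.inv_mem hy)
    have h2 : s * y * s⁻¹ * y⁻¹ ∈ Q := by
      have e : s * y * s⁻¹ * y⁻¹ = s * (y * s⁻¹ * y⁻¹) := by group
      rw [e]
      exact Q.mul_mem hs (h.norm y hyz.symm _ (Q.inv_mem hs))
    rcases hD _ h2 h1 with e | e
    · exact Or.inl (mul_inv_eq_one.mp e)
    · exact Or.inr (mul_inv_eq_iff_eq_mul.mp e)
  by_cases hroot : ∃ s ∈ Q, s * z' = z' * s ∧ s * s = z
  · obtain ⟨s, hs, hsz, hss⟩ := hroot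
    apply hz
    refine h'.cent z fun x hx => ?_
    set a := s * x * s⁻¹ * x⁻¹ with ha
    have haQ : a ∈ Q' := Q'.mul_mem (h'.norm s hsz x hx) (Q'.inv_mem hx)
    -- `a` centralises every element of `Q'` centralised by `z`
    have haT : ∀ y ∈ Q', z * y = y * z → a * y = y * a := by
      intro y hy hyz
      have hcx : ∀ e : G, e = 1 ∨ e = z' → x * y * x⁻¹ = e * y → a * y = y * a := by
        intro e he exy
        have hse : s * e = e * s := by rcases he with e' | e' <;> simp [e', hsz]
        have hey : ∀ w ∈ Q', e * w = w * e := by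
          intro w hw
          rcases he with e' | e' <;> simp [e', h'.comm w hw]
        have e1 : s * (x * y * x⁻¹) * s⁻¹ = e * (s * y * s⁻¹) := by
          calc s * (x * y * x⁻¹) * s⁻¹ = s * e * y * s⁻¹ := by rw [exy]; group
            _ = e * (s * y * s⁻¹) := by rw [hse]; group
        have e2 : a * (x * (s * y * s⁻¹) * x⁻¹) * a⁻¹ = s * (x * y * x⁻¹) * s⁻¹ := by
          rw [ha]; group
        rcases hS s hs hsz y hy hyz with e3 | e3
        · rw [e1, e3, exy] at e2
          have : e * (a * y * a⁻¹) = e * y := by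
            rw [← mul_assoc, ← mul_assoc, hey a haQ, mul_assoc a e y]; exact e2
          exact mul_inv_eq_iff_eq_mul.mp (mul_left_cancel this)
        · rw [e1, e3] at e2
          have e4 : x * (z' * y) * x⁻¹ = z' * (e * y) := by
            calc x * (z' * y) * x⁻¹ = (x * z') * y * x⁻¹ := by group
              _ = z' * (x * y * x⁻¹) := by rw [h'.comm x hx]; group
              _ = _ := by rw [exy]
          rw [e4] at e2
          have e5 : a * (z' * (e * y)) * a⁻¹ = z' * e * (a * y * a⁻¹) := by
            rw [← mul_assoc z', ← mul_assoc, ← mul_assoc, h'.comm a haQ]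
            rw [mul_assoc z' a e, ← hey a haQ]; group
          have e6 : e * (z' * y) = z' * e * y := by rw [← mul_assoc, hey z' h'.mem]
          rw [e5, e6] at e2
          exact mul_inv_eq_iff_eq_mul.mp (mul_left_cancel e2)
      rcases h'.conj x hx y hy with e | e
      · exact hcx 1 (Or.inl rfl) (by rw [one_mul]; exact e)
      · exact hcx z' (Or.inr rfl) e
    -- `z` acts on `Q'`
    have hzQ' : ∀ w ∈ Q', z * w * z⁻¹ ∈ Q' := h'.norm z hzz'
    have hbT : ∀ w ∈ Q', z * (z * w * z⁻¹ * w⁻¹) = (z * w * z⁻¹ * w⁻¹) * z := by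
      intro w hw
      set b := z * w * z⁻¹ * w⁻¹ with hb
      have hbQ : b ∈ Q' := Q'.mul_mem (hzQ' w hw) (Q'.inv_mem hw)
      apply hB b hbQ
      have : z * b * z⁻¹ * b⁻¹ = (b * b)⁻¹ := by
        have e : z * b * z⁻¹ = b⁻¹ := by
          calc z * b * z⁻¹ = (z * z) * w * (z * z)⁻¹ * (z * w⁻¹ * z⁻¹) := by rw [hb]; group
            _ = b⁻¹ := by rw [h.zz, hb]; group
        rw [e]; group
      rcases h'.sq b hbQ with e | e
      · exact Or.inl (by rw [this, e, inv_one])
      · exact Or.inr (by rw [this, e, h'.inv_z])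
    have hzinv := h.inv_z
    have haz : z * a = a * z := by
      apply hB a haQ
      set b₁ := z * a * z⁻¹ * a⁻¹ with hb₁
      have hb₁Q : b₁ ∈ Q' := Q'.mul_mem (hzQ' a haQ) (Q'.inv_mem haQ)
      have hb₁z : z * b₁ = b₁ * z := hbT a haQ
      have hb₁sq : b₁ * b₁ = 1 := by
        have e : z * b₁ * z⁻¹ = b₁⁻¹ := by
          calc z * b₁ * z⁻¹ = (z * z) * a * (z * z)⁻¹ * (z * a⁻¹ * z⁻¹) := by rw [hb₁]; group
            _ = b₁⁻¹ := by rw [h.zz, hb₁]; group
        rw [hb₁z, mul_inv_cancel_right] at e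
        nth_rw 2 [e]
        rw [mul_inv_cancel]
      have hcv : ∀ v ∈ Q', v * b₁ = b₁ * v := by
        intro v hv
        set b := z * v * z⁻¹ * v⁻¹ with hb
        have hbQ : b ∈ Q' := Q'.mul_mem (hzQ' v hv) (Q'.inv_mem hv)
        have hab := haT b hbQ (hbT v hv)
        suffices e0 : (z * a * z⁻¹) * v * (z * a * z⁻¹)⁻¹ = a * v * a⁻¹ by
          have hv' : b₁ * (a * v * a⁻¹) * b₁⁻¹ = a * v * a⁻¹ := by
            rw [hb₁]
            exact Eq.trans (by group) e0
          rcases h'.conj a haQ v hv with e | e <;> rw [e] at hv'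
          · exact (mul_inv_eq_iff_eq_mul.mp hv').symm
          · rw [← mul_assoc, h'.comm b₁ hb₁Q, mul_assoc z' b₁ v, mul_assoc z' (b₁ * v) b₁⁻¹] at hv'
            exact (mul_inv_eq_iff_eq_mul.mp (mul_left_cancel hv')).symm
        have key : ∀ e : G, z * e = e * z → b * e = e * b → a * v * a⁻¹ = e * v →
            (z * a * z⁻¹) * v * (z * a * z⁻¹)⁻¹ = a * v * a⁻¹ := by
          intro e hze hbe he
          calc (z * a * z⁻¹) * v * (z * a * z⁻¹)⁻¹
              = z * (a * (z⁻¹ * v * z) * a⁻¹) * z⁻¹ := by group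
            _ = z * (a * (b * v) * a⁻¹) * z⁻¹ := by
              rw [hb, inv_mul_cancel_right]; simp only [hzinv]
            _ = z * ((a * b) * v * a⁻¹) * z⁻¹ := by group
            _ = z * (b * (a * v * a⁻¹)) * z⁻¹ := by rw [hab]; group
            _ = z * (e * (b * v)) * z⁻¹ := by rw [he, ← mul_assoc b e v, hbe, mul_assoc e b v]
            _ = (z * e) * (b * v) * z⁻¹ := by group
            _ = e * (z * (b * v) * z⁻¹) := by rw [hze]; group
            _ = e * ((z * z) * v * (z * z)⁻¹) := by rw [hb]; group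
            _ = a * v * a⁻¹ := by rw [h.zz, he]; group
        rcases h'.conj a haQ v hv with e | e
        · exact key 1 (by simp) (by simp) (by rw [one_mul]; exact e)
        · exact key z' hzz' (h'.comm b hbQ) e
      exact h'.central b₁ hb₁Q hcv hb₁sq
    have e1 : z * x * z⁻¹ = (s * a * s⁻¹) * a * x := by
      calc z * x * z⁻¹ = (s * s) * x * (s * s)⁻¹ := by rw [hss]
        _ = s * (a * x) * s⁻¹ := by rw [ha]; group
        _ = (s * a * s⁻¹) * (s * x * s⁻¹ * x⁻¹) * x := by group
        _ = _ := by rw [← ha]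
    apply hB x hx
    rcases hS s hs hsz a haQ haz with e | e <;> rcases h'.sq a haQ with e' | e'
    · exact Or.inl (by rw [e1, e, e']; group)
    · exact Or.inr (by rw [e1, e, e']; group)
    · refine Or.inr ?_
      rw [e1, e, mul_assoc z' a a, e']; group
    · refine Or.inl ?_
      rw [e1, e, mul_assoc z' a a, e', h'.zz]; group
  · -- `C_Q(z')` is a four-group, so `C_G(z)` is a 2-group
    push Not at hroot
    have hinvol : ∀ s ∈ Q, s * z' = z' * s → s * s = 1 := fun s hs hsz =>
      (h.sq s hs).resolve_right (hroot s hs hsz)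
    have hScomm : ∀ s ∈ Q, s * z' = z' * s → ∀ t ∈ Q, t * z' = z' * t → t * s = s * t := by
      intro s hs hsz t ht htz
      have hst : t * s * z' = z' * (t * s) := by rw [mul_assoc, hsz, ← mul_assoc, htz, mul_assoc]
      have e := inv_eq_of_mul_eq_one_right (hinvol _ (Q.mul_mem ht hs) hst)
      rw [mul_inv_rev, inv_eq_of_mul_eq_one_right (hinvol t ht htz),
        inv_eq_of_mul_eq_one_right (hinvol s hs hsz)] at e
      exact e.symm
    have hfour : ∀ s ∈ Q, s * z' = z' * s → s = 1 ∨ s = z ∨ s = z' ∨ s = z * z' := by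
      intro s hs hsz
      rcases hdbl s hs (fun t ht htz => hScomm s hs hsz t ht htz) with e | e
      · rcases h.central s hs e (hinvol s hs hsz) with e' | e'
        · exact Or.inl e'
        · exact Or.inr (Or.inl e')
      · have hsz2 : s * z' * z' = z' * (s * z') := (Commute.mul_left hsz (Commute.refl z')).eq
        rcases h.central _ (Q.mul_mem hs hgQ) e (hinvol _ (Q.mul_mem hs hgQ) hsz2) with e' | e'
        · refine Or.inr (Or.inr (Or.inl ?_))
          rw [eq_inv_of_mul_eq_one_left e', h'.inv_z]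
        · refine Or.inr (Or.inr (Or.inr ?_))
          rw [← e', mul_assoc, h'.zz, mul_one]
    have hout : ∀ y ∈ Q, ¬ y * z' = z' * y → y * z' * y⁻¹ = z * z' := fun y hy hne =>
      (h.conj y hy z' hgQ).resolve_left fun e => hne (mul_inv_eq_iff_eq_mul.mp e)
    -- an element of order four moving `z'`
    obtain ⟨r, hr, hrz, hr4⟩ : ∃ r ∈ Q, r * z' * r⁻¹ = z * z' ∧ r * r = z := by
      rcases h.sq q hq with e | e
      · refine ⟨q * z', Q.mul_mem hq hgQ, by rw [← eq]; group, ?_⟩
        calc q * z' * (q * z') = (q * z' * q⁻¹) * (q * q) * z' := by group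
          _ = z := by rw [eq, e, mul_one, mul_assoc, h'.zz, mul_one]
      · exact ⟨q, hq, eq, e⟩
    have hcos : ∀ y ∈ Q, ¬ y * z' = z' * y → y = r ∨ y = z * r ∨ y = r * z' ∨ y = z * r * z' := by
      intro y hy hne
      have hry : (r * y) * z' = z' * (r * y) := by
        apply mul_inv_eq_iff_eq_mul.mp
        calc r * y * z' * (r * y)⁻¹ = r * (y * z' * y⁻¹) * r⁻¹ := by group
          _ = (r * z) * z' * r⁻¹ := by rw [hout y hy hne]; group
          _ = z * (r * z' * r⁻¹) := by rw [h.comm r hr]; group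
          _ = z' := by rw [hrz, h.z_mul_z_mul]
      have hyv : y = r⁻¹ * (r * y) := by group
      have hrinv : r⁻¹ = z * r := by
        apply inv_eq_of_mul_eq_one_right
        rw [← mul_assoc, h.comm r hr, mul_assoc, hr4, h.zz]
      rcases hfour _ (Q.mul_mem hr hy) hry with e | e | e | e <;> rw [e, hrinv] at hyv <;> rw [hyv]
      · exact Or.inr (Or.inl (mul_one _))
      · left; rw [mul_assoc, h.comm r hr, h.z_mul_z_mul]
      · exact Or.inr (Or.inr (Or.inr rfl))
      · refine Or.inr (Or.inr (Or.inl ?_))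
        rw [mul_assoc z r (z * z'), ← mul_assoc r z z', h.comm r hr, mul_assoc z r z', h.z_mul_z_mul]
    have hgen : ∀ c : G, c * r = r * c → c * z' = z' * c → ∀ y ∈ Q, c * y = y * c := by
      intro c hcr hcz' y hy
      have hcz : c * z = z * c := by
        rw [← hr4]
        exact Commute.mul_right hcr hcr
      by_cases hne : y * z' = z' * y
      · rcases hfour y hy hne with e | e | e | e <;> rw [e]
        exacts [by simp, hcz, hcz', Commute.mul_right hcz hcz']
      · rcases hcos y hy hne with e | e | e | e <;> rw [e]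
        exacts [hcr, Commute.mul_right hcz hcr, Commute.mul_right hcr hcz',
          Commute.mul_right (Commute.mul_right hcz hcr) hcz']
    have htwo : ∀ c, c * z = z * c → ∃ k : ℕ, c ^ 2 ^ k = 1 := by
      intro c hcz
      have hstep : ∀ c, c * z = z * c → c * r * c⁻¹ = r ∨ c * r * c⁻¹ = z * r := by
        intro c hcz
        have hsq : (c * r * c⁻¹) * (c * r * c⁻¹) = z := by
          rw [show (c * r * c⁻¹) * (c * r * c⁻¹) = c * (r * r) * c⁻¹ by group, hr4, hcz,
            mul_inv_cancel_right]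
        have hmem := h.norm c hcz r hr
        by_cases hne : (c * r * c⁻¹) * z' = z' * (c * r * c⁻¹)
        · exact absurd hsq (by rw [hinvol _ hmem hne]; exact h.ne_one.symm)
        rcases hcos _ hmem hne with e | e | e | e
        · exact Or.inl e
        · exact Or.inr e
        · exfalso
          rw [e] at hsq
          have : r * z' * (r * z') = (r * z' * r⁻¹) * (r * r) * z' := by group
          rw [this, hrz, hr4, mul_assoc z z' z, ← hzz', h.z_mul_z_mul, h'.zz] at hsq
          exact h.ne_one hsq.symm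
        · exfalso
          rw [e] at hsq
          have : z * r * z' * (z * r * z') = z * (r * z') * z * (r * z') := by group
          rw [this, mul_assoc z (r * z') z, h.comm _ (Q.mul_mem hr hgQ), h.z_mul_z_mul,
            show r * z' * (r * z') = (r * z' * r⁻¹) * (r * r) * z' by group, hrz, hr4,
            mul_assoc z z' z, ← hzz', h.z_mul_z_mul, h'.zz] at hsq
          exact h.ne_one hsq.symm
      have hr2 : (c * c) * r = r * (c * c) := by
        apply mul_inv_eq_iff_eq_mul.mp
        rw [show c * c * r * (c * c)⁻¹ = c * (c * r * c⁻¹) * c⁻¹ by group]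
        rcases hstep c hcz with e | e <;> rw [e]
        · exact e
        · rw [← mul_assoc, hcz, show z * c * r * c⁻¹ = z * (c * r * c⁻¹) by group, e, h.z_mul_z_mul]
      -- the square of `c` fixes `r`; its square moves `z'` by at most `z`
      set b := c * c with hb
      have hbz : b * z = z * b := Commute.mul_left hcz hcz
      have hbz' : b * b * (b * b) * z' = z' * (b * b * (b * b)) := by
        have hmem := h.norm b hbz z' hgQ
        have hb2 : b * b * z' * (b * b)⁻¹ = z' ∨ b * b * z' * (b * b)⁻¹ = z * z' := by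
          by_cases hne : (b * z' * b⁻¹) * z' = z' * (b * z' * b⁻¹)
          · rcases hfour _ hmem hne with e | e | e | e
            · exact absurd (conj_eq_one_iff.mp e) h'.ne_one
            · exfalso
              apply hgz
              have := congrArg (fun w => b⁻¹ * w * b) e
              rw [show b⁻¹ * (b * z' * b⁻¹) * b = z' by group, mul_assoc, ← hbz,
                inv_mul_cancel_left] at this
              exact this
            · left
              rw [show b * b * z' * (b * b)⁻¹ = b * (b * z' * b⁻¹) * b⁻¹ by group, e, e]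
            · left
              rw [show b * b * z' * (b * b)⁻¹ = b * (b * z' * b⁻¹) * b⁻¹ by group, e, ← mul_assoc,
                hbz, show z * b * z' * b⁻¹ = z * (b * z' * b⁻¹) by group, e, h.z_mul_z_mul]
          · rcases hcos _ hmem hne with e | e | e | e
            · exfalso
              have h2 : (b * z' * b⁻¹) * (b * z' * b⁻¹) = 1 := by
                rw [show (b * z' * b⁻¹) * (b * z' * b⁻¹) = b * (z' * z') * b⁻¹ by group, h'.zz]; group
              rw [e, hr4] at h2
              exact h.ne_one h2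
            · exfalso
              have h2 : (b * z' * b⁻¹) * (b * z' * b⁻¹) = 1 := by
                rw [show (b * z' * b⁻¹) * (b * z' * b⁻¹) = b * (z' * z') * b⁻¹ by group, h'.zz]; group
              rw [e, mul_assoc z r (z * r), ← mul_assoc r z r, h.comm r hr, mul_assoc z r r,
                h.z_mul_z_mul, hr4] at h2
              exact h.ne_one h2
            · right
              rw [show b * b * z' * (b * b)⁻¹ = b * (b * z' * b⁻¹) * b⁻¹ by group, e,
                show b * (r * z') * b⁻¹ = (b * r) * b⁻¹ * (b * z' * b⁻¹) by group, hr2,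
                mul_inv_cancel_right, e, ← mul_assoc, hr4]
            · right
              rw [show b * b * z' * (b * b)⁻¹ = b * (b * z' * b⁻¹) * b⁻¹ by group, e,
                show b * (z * r * z') * b⁻¹ = (b * z) * r * b⁻¹ * (b * z' * b⁻¹) by group, hbz,
                show z * b * r * b⁻¹ = z * ((b * r) * b⁻¹) by group, hr2, mul_inv_cancel_right, e]
              rw [show z * r * (z * r * z') = z * (r * z) * r * z' by group, h.comm r hr,
                show z * (z * r) * r * z' = (z * z) * (r * r) * z' by group, h.zz, hr4, one_mul]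
        apply mul_inv_eq_iff_eq_mul.mp
        rw [show b * b * (b * b) * z' * (b * b * (b * b))⁻¹ =
          b * b * (b * b * z' * (b * b)⁻¹) * (b * b)⁻¹ by group]
        rcases hb2 with e | e <;> rw [e]
        · exact e
        · rw [← mul_assoc, show b * b * z = z * (b * b) from Commute.mul_left hbz hbz,
            show z * (b * b) * z' * (b * b)⁻¹ = z * (b * b * z' * (b * b)⁻¹) by group, e,
            h.z_mul_z_mul]
      have hr8 : b * b * (b * b) * r = r * (b * b * (b * b)) :=
        Commute.mul_left (Commute.mul_left hr2 hr2) (Commute.mul_left hr2 hr2)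
      have hmem : b * b * (b * b) ∈ Q := h.cent _ (hgen _ hr8 hbz')
      refine ⟨5, ?_⟩
      have h4' : (b * b * (b * b)) ^ 4 = 1 := by
        have e : (b * b * (b * b)) ^ 4 =
            (b * b * (b * b)) * (b * b * (b * b)) * ((b * b * (b * b)) * (b * b * (b * b))) := by
          simp [pow_succ, mul_assoc]
        rw [e]
        rcases h.sq _ hmem with e' | e' <;> simp [e', h.zz]
      rw [← h4', hb]
      simp [pow_succ, mul_assoc]
    apply hz
    refine h'.full (fun c hc => ?_) z hzz'
    obtain ⟨k, hk⟩ := htwo (g⁻¹ * c * g) (by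
      calc g⁻¹ * c * g * z = g⁻¹ * (c * z') * g := by rw [hz']; group
        _ = z * (g⁻¹ * c * g) := by rw [hc, hz']; group)
    refine ⟨k, ?_⟩
    rw [show c = g * (g⁻¹ * c * g) * g⁻¹ by group, conj_pow, hk]; group

/-- The automorphisms of the four-group `{1, z, z', z z'}` induced by `⟨Q, Q^g⟩`. -/
theorem induces_all [Finite G] {g : G} (hgQ : g * z * g⁻¹ ∈ Q) (hgz : g * z * g⁻¹ ≠ z) :
    ∀ u ∈ closure ({z, g * z * g⁻¹} : Set G), ∀ v ∈ closure ({z, g * z * g⁻¹} : Set G),
      u ≠ 1 → v ≠ 1 → u ≠ v → ∃ x ∈ Q ⊔ Q.map (MulAut.conj g).toMonoidHom,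
        x * z * x⁻¹ = u ∧ x * (g * z * g⁻¹) * x⁻¹ = v := by
  have hzQ' := h.z_mem_conj hgQ hgz
  have h' := h.map_conj g
  obtain ⟨q, hq, eq⟩ := h.partner hgQ h'.zz h'.ne_one hgz
  obtain ⟨q', hq', eq'⟩ := h'.partner hzQ' h.zz h.ne_one hgz.symm
  have hzz' : z * (g * z * g⁻¹) = (g * z * g⁻¹) * z := (h.comm _ hgQ).symm
  set z' := g * z * g⁻¹ with hz'
  have hin : ∀ u ∈ closure ({z, z'} : Set G), u = 1 ∨ u = z ∨ u = z' ∨ u = z * z' := by
    intro u hu
    have h1 := h.zz
    have h2 := h'.zz
    induction hu using closure_induction with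
    | mem u hu =>
      rcases hu with rfl | rfl
      exacts [Or.inr (Or.inl rfl), Or.inr (Or.inr (Or.inl rfl))]
    | one => exact Or.inl rfl
    | mul a b _ _ ha hb =>
      have e1 : z' * (z * z') = z := by rw [hzz', ← mul_assoc, h2, one_mul]
      have e2 : z * z' * z = z' := by rw [hzz', mul_assoc, h1, mul_one]
      have e3 : z * z' * z' = z := by rw [mul_assoc, h2, mul_one]
      have e4 : z * z' * (z * z') = 1 := by rw [← mul_assoc, e2, h2]
      rcases ha with rfl | rfl | rfl | rfl <;> rcases hb with rfl | rfl | rfl | rfl <;>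
        simp [h1, h2, e1, e2, e3, e4, h.z_mul_z_mul, ← hzz']
    | inv a _ ha =>
      rcases ha with rfl | rfl | rfl | rfl
      · simp
      · simp [h.inv_z]
      · simp [h'.inv_z]
      · refine Or.inr (Or.inr (Or.inr ?_))
        rw [mul_inv_rev, h.inv_z, h'.inv_z, hzz']
  intro u hu v hv hu1 hv1 huv
  have hqX : q ∈ Q ⊔ Q.map (MulAut.conj g).toMonoidHom := mem_sup_left hq
  have hq'X : q' ∈ Q ⊔ Q.map (MulAut.conj g).toMonoidHom := mem_sup_right hq'
  have a1 : q * z * q⁻¹ = z := by rw [h.comm q hq, mul_inv_cancel_right]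
  have a2 : q' * z' * q'⁻¹ = z' := by rw [h'.comm q' hq', mul_inv_cancel_right]
  have eq2 : q' * z * q'⁻¹ = z * z' := by rw [eq', hzz']
  have a3 : q * (z * z') * q⁻¹ = z' := by
    rw [show q * (z * z') * q⁻¹ = (q * z * q⁻¹) * (q * z' * q⁻¹) by group, a1, eq, h.z_mul_z_mul]
  have a4 : q' * (z * z') * q'⁻¹ = z := by
    rw [show q' * (z * z') * q'⁻¹ = (q' * z * q'⁻¹) * (q' * z' * q'⁻¹) by group, eq2, a2, mul_assoc,
      h'.zz, mul_one]
  have cmp : ∀ (a b w : G), (a * b) * w * (a * b)⁻¹ = a * (b * w * b⁻¹) * a⁻¹ := fun a b w => by group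
  have a0 : ∀ w : G, 1 * w * (1 : G)⁻¹ = w := fun w => by group
  have c1 : q * q' * z * (q * q')⁻¹ = z' := by rw [cmp, eq2, a3]
  have c2 : q * q' * z' * (q * q')⁻¹ = z * z' := by rw [cmp, a2, eq]
  have c3 : q' * q * z * (q' * q)⁻¹ = z * z' := by rw [cmp, a1, eq2]
  have c4 : q' * q * z' * (q' * q)⁻¹ = z := by rw [cmp, eq, a4]
  have c5 : q * q' * q * z * (q * q' * q)⁻¹ = z' := by rw [cmp, a1, c1]
  have c6 : q * q' * q * z' * (q * q' * q)⁻¹ = z := by rw [cmp, eq, cmp, a4, a1]
  rcases hin u hu with eu | eu | eu | eu <;> rcases hin v hv with ev | ev | ev | ev <;>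
    rw [eu, ev] at huv ⊢ <;> rw [eu] at hu1 <;> rw [ev] at hv1 <;>
    first
      | exact absurd rfl hu1
      | exact absurd rfl hv1
      | exact absurd rfl huv
      | exact ⟨1, one_mem _, a0 z, a0 z'⟩
      | exact ⟨q, hqX, a1, eq⟩
      | exact ⟨q', hq'X, eq2, a2⟩
      | exact ⟨q * q', mul_mem hqX hq'X, c1, c2⟩
      | exact ⟨q' * q, mul_mem hq'X hqX, c3, c4⟩
      | exact ⟨q * q' * q, mul_mem (mul_mem hqX hq'X) hqX, c5, c6⟩

end Hyp

end Cfsg.Agent.SymplecticTypeFour

namespace Cfsg.Agent.SymplecticTypeFour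

open Subgroup

/-- `F*(C_G(z))` of symplectic type and exponent four satisfies `Hyp`. -/
theorem hyp_of_fitting {G : Type*} [Group G] [Finite G] {z : G} (hz : orderOf z = 2)
    (hQ : Cfsg.IsOfSymplecticType ↥(Cfsg.generalizedFittingSubgroup ↥(centralizer ({z} : Set G))))
    (h4 : ∀ q ∈ (Cfsg.generalizedFittingSubgroup ↥(centralizer ({z} : Set G))).map
      (centralizer ({z} : Set G)).subtype, q ^ 4 = 1) :
    Hyp ((Cfsg.generalizedFittingSubgroup ↥(centralizer ({z} : Set G))).map
      (centralizer ({z} : Set G)).subtype) z := by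
  set C := centralizer ({z} : Set G) with hC
  set Q₁ := Cfsg.generalizedFittingSubgroup ↥C with hQ₁
  haveI : Q₁.Normal := inferInstanceAs (Cfsg.generalizedFittingSubgroup ↥C).Normal
  have hzC : z ∈ C := mem_centralizer_singleton_iff.mpr rfl
  have hzz : z * z = 1 := by rw [← pow_two, ← hz, pow_orderOf_eq_one]
  have hz1 : z ≠ 1 := by intro e; rw [e, orderOf_one] at hz; omega
  have hzQ : (⟨z, hzC⟩ : C) ∈ Q₁ :=
    ComponentsFitting.centralizer_gen_le (mem_centralizer_iff.mpr fun x _ =>
      Subtype.ext (mem_centralizer_singleton_iff.mp x.2))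
  obtain ⟨hconj, hsq, hcen⟩ := struct hQ (fun x => by
      apply Subtype.ext
      apply Subtype.ext
      simpa using h4 (x : C) ⟨x, x.2, rfl⟩)
    (z := ⟨⟨z, hzC⟩, hzQ⟩)
    (mem_center_iff.mpr fun x => Subtype.ext (Subtype.ext (mem_centralizer_singleton_iff.mp (x : C).2)))
    (Subtype.ext (Subtype.ext hzz)) (fun e => hz1 (congrArg (fun w : Q₁ => ((w : C) : G)) e))
  refine ⟨⟨⟨z, hzC⟩, hzQ, rfl⟩, hz1, hzz, ?_, ?_, ?_, ?_, ?_, ?_, ?_⟩
  · rintro _ ⟨x, -, rfl⟩
    exact mem_centralizer_singleton_iff.mp x.2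
  · rintro _ ⟨x, hx, rfl⟩
    rcases hsq ⟨x, hx⟩ with e | e
    · exact Or.inl (congrArg (fun w : Q₁ => ((w : C) : G)) e)
    · exact Or.inr (congrArg (fun w : Q₁ => ((w : C) : G)) e)
  · rintro _ ⟨x, hx, rfl⟩ _ ⟨y, hy, rfl⟩
    rcases hconj ⟨x, hx⟩ ⟨y, hy⟩ with e | e
    · exact Or.inl (congrArg (fun w : Q₁ => ((w : C) : G)) e)
    · exact Or.inr (congrArg (fun w : Q₁ => ((w : C) : G)) e)
  · rintro _ ⟨x, hx, rfl⟩ hc hxx
    rcases hcen ⟨x, hx⟩ (mem_center_iff.mpr fun y =>
        Subtype.ext (Subtype.ext (hc ((y : C) : G) ⟨y, y.2, rfl⟩))) (Subtype.ext (Subtype.ext hxx))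
      with e | e
    · exact Or.inl (congrArg (fun w : Q₁ => ((w : C) : G)) e)
    · exact Or.inr (congrArg (fun w : Q₁ => ((w : C) : G)) e)
  · intro g hg
    have hgC : g ∈ C := mem_centralizer_singleton_iff.mpr (hg z ⟨⟨z, hzC⟩, hzQ, rfl⟩)
    refine ⟨⟨g, hgC⟩, ComponentsFitting.centralizer_gen_le ?_, rfl⟩
    exact mem_centralizer_iff.mpr fun x hx => Subtype.ext (hg x ⟨x, hx, rfl⟩).symm
  · rintro g hg _ ⟨x, hx, rfl⟩
    exact ⟨_, Normal.conj_mem ‹Q₁.Normal› x hx ⟨g, mem_centralizer_singleton_iff.mpr hg⟩, rfl⟩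
  · intro hall g hg
    have hp : IsPGroup 2 C := fun c => by
      obtain ⟨k, hk⟩ := hall c (mem_centralizer_singleton_iff.mp c.2)
      exact ⟨k, Subtype.ext (by simpa using hk)⟩
    haveI : Fact (Nat.Prime 2) := ⟨Nat.prime_two⟩
    have htop : fittingSubgroup C = ⊤ := ComponentsFitting.fittingSubgroup_eq_top_iff.mpr hp.isNilpotent
    exact ⟨⟨g, mem_centralizer_singleton_iff.mpr hg⟩,
      ComponentsFitting.fitting_le_gen (htop ▸ mem_top _), rfl⟩

end Cfsg.Agent.SymplecticTypeFour
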