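import Mathlib
import Cfsg.Prelude.Def_GeometricClasses
import Cfsg.Agent.Lib.SymplecticTypeFour

/-!
Matrix groups of symplectic type for the prime two: restrictions on elements of odd prime order
normalising them.
-/

set_option autoImplicit false
set_option linter.style.haveILetI false

namespace Cfsg.Agent.SympTypeTwo

open Matrix
open scoped MatrixGroups

variable {F : Type*} [Field F] {ι : Type} [Fintype ι] [DecidableEq ι]

/-- The permutation version of the congruence for fixed points. -/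
theorem fixed_mod {α : Type*} [Fintype α] [DecidableEq α] (φ : Equiv.Perm α) {r : ℕ} [Fact r.Prime]
    (h : φ ^ r = 1) : Fintype.card (Function.fixedPoints φ) ≡ Fintype.card α [MOD r] := by
  let f : Function.End α := (φ : α → α)
  have hf : ∀ n : ℕ, f ^ n = ((φ ^ n : Equiv.Perm α) : α → α) := by
    intro n
    induction n with
    | zero => rfl
    | succ n ih => rw [pow_succ, pow_succ, ih]; rfl
  exact (Equiv.Perm.card_fixedPoints_modEq (f := f) (p := r) (n := 1)
    (by rw [hf, pow_one, h]; rfl)).symm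

/-- A group, stable under an element of prime order modulo its centraliser, is congruent to its fixed
subgroup. -/
theorem card_fixed {G : Type*} [Group G] {D : Subgroup G} [Finite D] {y : G} {r : ℕ} [Fact r.Prime]
    (hy : ∀ u, u ∈ D ↔ y * u * y⁻¹ ∈ D) (hyr : ∀ u ∈ D, y ^ r * u = u * y ^ r) :
    Nat.card ↥(Subgroup.centralizer {y} ⊓ D) ≡ Nat.card D [MOD r] := by
  classical
  haveI : Fintype D := Fintype.ofFinite _
  let φ : Equiv.Perm D :=
    { toFun := fun u => ⟨y * u * y⁻¹, (hy u).mp u.2⟩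
      invFun := fun u => ⟨y⁻¹ * u * y, (hy _).mpr (by
        have : y * (y⁻¹ * (u : G) * y) * y⁻¹ = u := by group
        rw [this]; exact u.2)⟩
      left_inv := fun u => Subtype.ext (by simp only; group)
      right_inv := fun u => Subtype.ext (by simp only; group) }
  have hpow : ∀ (n : ℕ) (u : D), (((φ ^ n) u : D) : G) = y ^ n * u * (y ^ n)⁻¹ := by
    intro n
    induction n with
    | zero => intro u; simp
    | succ n ih =>
      intro u
      rw [pow_succ', Equiv.Perm.mul_apply]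
      show y * ((φ ^ n) u : G) * y⁻¹ = _
      rw [ih u]; group
  have hφ : φ ^ r = 1 := Equiv.ext fun u => Subtype.ext (by
    rw [hpow, hyr u u.2, mul_inv_cancel_right]; rfl)
  have h := fixed_mod φ hφ
  rw [← Nat.card_eq_fintype_card, ← Nat.card_eq_fintype_card] at h
  refine (Nat.card_congr ?_).symm ▸ h
  exact
    { toFun := fun u => ⟨⟨u.1, u.2.2⟩, Subtype.ext (by
        show y * u.1 * y⁻¹ = u.1
        rw [mul_inv_eq_iff_eq_mul]
        exact Subgroup.mem_centralizer_iff.mp u.2.1 y rfl)⟩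
      invFun := fun u => ⟨u.1.1, Subgroup.mem_centralizer_iff.mpr (fun h hh => by
        rw [Set.mem_singleton_iff.mp hh]
        exact mul_inv_eq_iff_eq_mul.mp (congrArg Subtype.val u.2)), u.1.2⟩
      left_inv := fun u => rfl
      right_inv := fun u => rfl }

/-- The consequences of being absolutely irreducible of symplectic type. -/
structure Setup (R : Subgroup (GL ι F)) : Prop where
  h2 : (2 : F) ≠ 0
  cent : ∀ M : Matrix ι ι F, (∀ u ∈ R, M * (u : Matrix ι ι F) = (u : Matrix ι ι F) * M) →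
    ∃ c : F, M = c • (1 : Matrix ι ι F)
  neg : (-1 : GL ι F) ∈ R
  conj : ∀ x ∈ R, ∀ y ∈ R, x * y * x⁻¹ = y ∨ x * y * x⁻¹ = -y
  sq : ∀ x ∈ R, x * x = 1 ∨ x * x = -1

theorem Setup.mk' [Finite F] [Nonempty ι] {R : Subgroup (GL ι F)} (h2 : (2 : F) ≠ 0)
    (hRs : Cfsg.Geo.IsSymplecticTypeGroup 2 R)
    (hRi : Cfsg.Geo.ActsAbsolutelyIrreducibly (Cfsg.Geo.matrixSet R))
    (hZ : 2 ∣ Nat.card (Subgroup.center R)) : Setup R := by
  classical
  have hcent : ∀ M : Matrix ι ι F, (∀ u ∈ R, M * (u : Matrix ι ι F) = (u : Matrix ι ι F) * M) →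
      ∃ c : F, M = c • (1 : Matrix ι ι F) := fun M hM =>
    hRi.2 M (by rintro _ ⟨u, hu, rfl⟩; exact hM u hu)
  obtain ⟨z, hz⟩ := exists_prime_orderOf_dvd_card' 2 hZ
  have hzo : orderOf ((z : R) : GL ι F) = 2 := by rw [Subgroup.orderOf_coe, Subgroup.orderOf_coe, hz]
  have hzz : ((z : R) : GL ι F) * (z : R) = 1 := by rw [← pow_two, ← hzo, pow_orderOf_eq_one]
  have hz1 : ((z : R) : GL ι F) ≠ 1 := fun e => by rw [e, orderOf_one] at hzo; omega
  obtain ⟨c, hc⟩ := hcent ((z : R) : GL ι F) fun u hu => by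
    rw [← Units.val_mul, ← Units.val_mul]
    exact congrArg Units.val (congrArg Subtype.val ((Subgroup.mem_center_iff.mp z.2) ⟨u, hu⟩)).symm
  have hcc : c * c = 1 := by
    have := congrArg (fun g : GL ι F => (g : Matrix ι ι F)) hzz
    simp only [Units.val_mul, Units.val_one, hc, smul_mul_smul_comm, one_mul] at this
    have e := congrFun (congrFun this (Classical.arbitrary ι)) (Classical.arbitrary ι)
    simpa using e
  have hzn : ((z : R) : GL ι F) = -1 := by
    rcases mul_self_eq_one_iff.mp hcc with e | e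
    · exact absurd (Units.ext (by rw [hc, e, one_smul, Units.val_one])) hz1
    · exact Units.ext (by rw [hc, e, Units.val_neg, Units.val_one, neg_one_smul])
  have hneg : (-1 : GL ι F) ∈ R := hzn ▸ z.1.2
  have h4 : ∀ x : R, x ^ 4 = 1 := fun x => by
    have := Monoid.pow_exponent_eq_one x
    rwa [hRs.exponent_eq, show 2 * Nat.gcd 2 2 = 4 from rfl] at this
  obtain ⟨s1, s2, -⟩ := Cfsg.Agent.SymplecticTypeFour.struct (P := R)
    ⟨hRs.pGroup, hRs.cyclic_of_characteristic⟩ h4 (z := (z : R)) z.2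
    (Subtype.ext hzz) (fun e => hz1 (congrArg Subtype.val e))
  refine ⟨h2, hcent, hneg, fun x hx y hy => ?_, fun x hx => ?_⟩
  · rcases s1 ⟨x, hx⟩ ⟨y, hy⟩ with e | e
    · exact Or.inl (congrArg Subtype.val e)
    · refine Or.inr ?_
      have := congrArg Subtype.val e
      simp only [Subgroup.coe_mul, Subgroup.coe_inv, hzn, neg_mul, one_mul] at this
      exact this
  · rcases s2 ⟨x, hx⟩ with e | e
    · exact Or.inl (congrArg Subtype.val e)
    · exact Or.inr ((congrArg Subtype.val e).trans hzn)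

variable {R : Subgroup (GL ι F)} (S : Setup R)
include S

/-- A member of the group that is not scalar has an anticommuting partner. -/
theorem Setup.partner {u : GL ι F} (hu : u ∈ R)
    (hns : ∀ c : F, (u : Matrix ι ι F) ≠ c • (1 : Matrix ι ι F)) : ∃ v ∈ R, v * u * v⁻¹ = -u := by
  by_contra hno
  push Not at hno
  obtain ⟨c, hc⟩ := S.cent u fun v hv => by
    rw [← Units.val_mul, ← Units.val_mul]
    exact congrArg Units.val (mul_inv_eq_iff_eq_mul.mp ((S.conj v hv u hu).resolve_right (hno v hv))).symm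
  exact hns c hc

theorem Setup.trace_zero {u : GL ι F} (hu : u ∈ R)
    (hns : ∀ c : F, (u : Matrix ι ι F) ≠ c • (1 : Matrix ι ι F)) : Matrix.trace (u : Matrix ι ι F) = 0 := by
  obtain ⟨v, -, hv⟩ := S.partner hu hns
  have := congrArg (fun g : GL ι F => Matrix.trace (g : Matrix ι ι F)) hv
  simp only [Units.val_mul, Units.val_neg, Matrix.trace_neg, trace_units_conj] at this
  exact (mul_eq_zero.mp (show (2 : F) * Matrix.trace (u : Matrix ι ι F) = 0 by linear_combination this)).resolve_left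
    S.h2

/-- The centre lies in every centraliser of an element normalising the group. -/
theorem Setup.center_le (y : GL ι F) :
    (Subgroup.center R).map R.subtype ≤ Subgroup.centralizer {y} ⊓ R := by
  rintro _ ⟨z, hz, rfl⟩
  refine ⟨Subgroup.mem_centralizer_iff.mpr fun h hh => ?_, z.2⟩
  obtain ⟨c, hc⟩ := S.cent (z : GL ι F) fun v hv => by
    rw [← Units.val_mul, ← Units.val_mul]
    exact congrArg Units.val (congrArg Subtype.val ((Subgroup.mem_center_iff.mp hz) ⟨v, hv⟩)).symm
  apply Units.ext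
  simp only [Units.val_mul, Subgroup.coe_subtype, hc, smul_mul_assoc, one_mul, mul_smul_comm, mul_one]

/-- A scalar commutator with an element of odd prime order modulo scalars is trivial. -/
theorem Setup.comm_scalar [Nonempty ι] {y u : GL ι F} {r : ℕ} (hr : Odd r) {z₀ : F}
    (hyr : ((y ^ r : GL ι F) : Matrix ι ι F) = z₀ • (1 : Matrix ι ι F))
    (hk : y * u * y⁻¹ * u⁻¹ ∈ R) {c : F}
    (hc : ((y * u * y⁻¹ * u⁻¹ : GL ι F) : Matrix ι ι F) = c • (1 : Matrix ι ι F)) :
    y * u * y⁻¹ * u⁻¹ = 1 := by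
  set k := y * u * y⁻¹ * u⁻¹ with hkdef
  have hkc : ∀ g : GL ι F, k * g = g * k := fun g => Units.ext (by
    simp only [Units.val_mul, hc, smul_mul_assoc, one_mul, mul_smul_comm, mul_one])
  have hn : ∀ n : ℕ, y ^ n * u * (y ^ n)⁻¹ = k ^ n * u := by
    intro n
    induction n with
    | zero => simp
    | succ n ih =>
      calc y ^ (n + 1) * u * (y ^ (n + 1))⁻¹ = y * (y ^ n * u * (y ^ n)⁻¹) * y⁻¹ := by rw [pow_succ']; group
        _ = y * k ^ n * y⁻¹ * (y * u * y⁻¹) := by rw [ih]; group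
        _ = k ^ n * (k * u) := by
          rw [← ((show Commute k y from hkc y).pow_left n).eq, mul_inv_cancel_right,
            show y * u * y⁻¹ = k * u by rw [hkdef, inv_mul_cancel_right]]
        _ = _ := by rw [pow_succ]; exact (mul_assoc _ _ _).symm
  have hkr : k ^ r = 1 := by
    have := hn r
    rw [show y ^ r * u = u * y ^ r from Units.ext (by
      simp only [Units.val_mul, hyr, smul_mul_assoc, one_mul, mul_smul_comm, mul_one]), mul_inv_cancel_right] at this
    exact (mul_eq_right.mp this.symm)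
  have hk4 : k ^ 4 = 1 := by
    have e : k ^ 4 = (k * k) * (k * k) := by simp only [pow_succ, pow_zero, one_mul, mul_assoc]
    rcases S.sq k hk with h | h <;> rw [e, h] <;> simp
  have := pow_gcd_eq_one.mpr ⟨hkr, hk4⟩
  obtain ⟨m, hm⟩ := hr
  have hg : Nat.gcd r 4 = 1 := by
    refine (show Nat.Coprime r (2 ^ 2) from Nat.Coprime.pow_right 2 ?_)
    rw [Nat.coprime_two_right, hm]
    exact ⟨m, rfl⟩
  rwa [hg, pow_one] at this

/-- The product of the traces of a normalising element and of its inverse is determined by the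
centraliser. -/
theorem Setup.trace_count [Finite R] [Nonempty ι] {y : GL ι F}
    (hy : y ∈ Cfsg.Geo.subgroupNormalizer R) {r : ℕ} (hr : Odd r) {z₀ : F}
    (hyr : ((y ^ r : GL ι F) : Matrix ι ι F) = z₀ • (1 : Matrix ι ι F)) :
    (Fintype.card ι : F) ^ 2 * (Nat.card ↥(Subgroup.centralizer {y} ⊓ R) : F) =
      (Nat.card R : F) * (Matrix.trace (y : Matrix ι ι F) *
        Matrix.trace ((y⁻¹ : GL ι F) : Matrix ι ι F)) := by
  classical
  haveI : Fintype R := Fintype.ofFinite _
  set n := (Fintype.card ι : F)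
  set Y' := ((y⁻¹ : GL ι F) : Matrix ι ι F)
  set M : Matrix ι ι F := ∑ u : R, ((u : GL ι F) : Matrix ι ι F) * Y' * (((u : GL ι F)⁻¹ : GL ι F) : Matrix ι ι F)
    with hM
  obtain ⟨c, hc⟩ := S.cent M fun v hv => by
    have e : (v : Matrix ι ι F) * M * ((v⁻¹ : GL ι F) : Matrix ι ι F) = M := by
      rw [hM, Finset.mul_sum, Finset.sum_mul]
      refine Fintype.sum_equiv (Equiv.mulLeft (⟨v, hv⟩ : R)) _ _ fun u => ?_
      simp only [Equiv.coe_mulLeft, Subgroup.coe_mul, _root_.mul_inv_rev, Units.val_mul, mul_assoc]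
    calc M * (v : Matrix ι ι F) = (v : Matrix ι ι F) * M * ((v⁻¹ : GL ι F) : Matrix ι ι F) * v := by rw [e]
      _ = _ := by rw [mul_assoc _ _ (v : Matrix ι ι F), Units.inv_mul, mul_one]
  have hcn : c * n = (Nat.card R : F) * Matrix.trace Y' := by
    have e1 : Matrix.trace M = (Nat.card R : F) * Matrix.trace Y' := by
      rw [hM, Matrix.trace_sum]
      simp only [trace_units_conj]
      rw [Finset.sum_const, Finset.card_univ, nsmul_eq_mul, Nat.card_eq_fintype_card]
    rw [← e1, hc, Matrix.trace_smul, Matrix.trace_one, smul_eq_mul]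
  have hsum : ∀ u : R, Matrix.trace ((y : Matrix ι ι F) * (((u : GL ι F) : Matrix ι ι F) * Y' *
      (((u : GL ι F)⁻¹ : GL ι F) : Matrix ι ι F))) = if (u : GL ι F) * y = y * u then n else 0 := by
    intro u
    have hk : y * u * y⁻¹ * (u : GL ι F)⁻¹ ∈ R :=
      R.mul_mem ((Subgroup.mem_set_normalizer_iff.mp hy _).mp u.2) (R.inv_mem u.2)
    have e : (y : Matrix ι ι F) * (((u : GL ι F) : Matrix ι ι F) * Y' *
        (((u : GL ι F)⁻¹ : GL ι F) : Matrix ι ι F)) =
        ((y * u * y⁻¹ * (u : GL ι F)⁻¹ : GL ι F) : Matrix ι ι F) := by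
      simp only [Units.val_mul, mul_assoc, Y']
    rw [e]
    split_ifs with h
    · rw [← h, mul_inv_cancel_right, mul_inv_cancel, Units.val_one, Matrix.trace_one]
    · refine S.trace_zero hk fun c' hc' => h ?_
      have := S.comm_scalar hr hyr hk hc'
      rw [mul_inv_eq_one, mul_inv_eq_iff_eq_mul] at this
      exact this.symm
  have e2 : Matrix.trace ((y : Matrix ι ι F) * M) = n * (Nat.card ↥(Subgroup.centralizer {y} ⊓ R) : F) := by
    rw [hM, Finset.mul_sum, Matrix.trace_sum, Finset.sum_congr rfl fun u _ => hsum u, Finset.sum_ite,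
      Finset.sum_const_zero, add_zero, Finset.sum_const, nsmul_eq_mul, mul_comm]
    congr 2
    rw [← Fintype.card_subtype, ← Nat.card_eq_fintype_card]
    exact Nat.card_congr
      { toFun := fun u => ⟨u.1.1, Subgroup.mem_centralizer_iff.mpr (fun h hh => by
          rw [Set.mem_singleton_iff.mp hh]; exact u.2.symm), u.1.2⟩
        invFun := fun u => ⟨⟨u.1, u.2.2⟩, (Subgroup.mem_centralizer_iff.mp u.2.1 y rfl).symm⟩
        left_inv := fun u => rfl
        right_inv := fun u => rfl }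
  rw [hc, mul_smul_comm, mul_one, Matrix.trace_smul, smul_eq_mul] at e2
  linear_combination (-n) * e2 + Matrix.trace (y : Matrix ι ι F) * hcn

/-- In dimension four no transvection normalises the group. -/
theorem Setup.no_transvection (hι : Fintype.card ι = 4) {y : GL ι F} {N : Matrix ι ι F}
    (hy : y ∈ Cfsg.Geo.subgroupNormalizer R) {r : ℕ} (hr : Odd r)
    (hyr : ((y ^ r : GL ι F) : Matrix ι ι F) = 1) (hyN : (y : Matrix ι ι F) = 1 + N) (hN0 : N ≠ 0)
    (hNN : N * N = 0) (hNX : ∀ X, N * X * N = Matrix.trace (X * N) • N) : False := by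
  haveI : Nonempty ι := Fintype.card_pos_iff.mp (by omega)
  have hyi : ((y⁻¹ : GL ι F) : Matrix ι ι F) = 1 - N := by
    refine Units.inv_eq_of_mul_eq_one_right ?_
    rw [hyN, mul_sub, mul_one, add_mul, one_mul, hNN, add_zero, add_sub_cancel_right]
  have htr : Matrix.trace N = 0 := by
    have := hNX 1
    rw [mul_one, hNN, one_mul] at this
    exact (smul_eq_zero.mp this.symm).resolve_right hN0
  -- some element of the group does not commute with y
  obtain ⟨u, hu, hne⟩ : ∃ u ∈ R, ¬ (y * u = u * y) := by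
    by_contra hall
    push Not at hall
    obtain ⟨c, hc⟩ := S.cent y fun v hv => by
      rw [← Units.val_mul, ← Units.val_mul]; exact congrArg Units.val (hall v hv)
    rw [hyN] at hc
    have hN : N = (c - 1) • (1 : Matrix ι ι F) := by rw [sub_smul, one_smul, ← hc, add_sub_cancel_left]
    rw [hN, smul_mul_smul_comm, one_mul, smul_eq_zero] at hNN
    exact hN0 (by rw [hN, mul_self_eq_zero.mp (hNN.resolve_right one_ne_zero), zero_smul])
  set N' := (u : Matrix ι ι F) * N * ((u⁻¹ : GL ι F) : Matrix ι ι F) with hN'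
  set k := y * u * y⁻¹ * u⁻¹ with hkdef
  have hk : k ∈ R := R.mul_mem ((Subgroup.mem_set_normalizer_iff.mp hy _).mp hu) (R.inv_mem hu)
  have hkv : (k : Matrix ι ι F) = (1 + N) * (1 - N') := by
    rw [hkdef, Units.val_mul, Units.val_mul, Units.val_mul, hyN, hyi, hN', mul_assoc (1 + N),
      mul_assoc (1 + N), mul_sub, mul_one, sub_mul, Units.mul_inv]
  have hkns : ∀ c : F, (k : Matrix ι ι F) ≠ c • (1 : Matrix ι ι F) := fun c hc => hne (by
    have := S.comm_scalar hr (z₀ := 1) (by rw [hyr, one_smul]) hk hc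
    rw [mul_inv_eq_one, mul_inv_eq_iff_eq_mul] at this
    exact this)
  have hN'2 : N' * N' = 0 := by
    rw [hN']
    simp only [mul_assoc, Units.inv_mul_cancel_left]
    rw [← mul_assoc N N, hNN, zero_mul, mul_zero]
  have h4 : Matrix.trace (N' * N) = 4 := by
    have := S.trace_zero hk hkns
    rw [hkv, mul_sub, mul_one, add_mul, one_mul, Matrix.trace_sub, Matrix.trace_add, Matrix.trace_add,
      Matrix.trace_one, hι, htr, Matrix.trace_mul_comm N N'] at this
    rw [hN'] at this ⊢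
    rw [trace_units_conj, htr] at this
    push_cast at this
    simp only [Matrix.coe_units_inv] at this ⊢
    linear_combination -this
  obtain ⟨l, hl⟩ : ∃ l : F, (k : Matrix ι ι F) * k = l • 1 := by
    rcases S.sq k hk with e | e
    · exact ⟨1, by rw [← Units.val_mul, e, Units.val_one, one_smul]⟩
    · exact ⟨-1, by rw [← Units.val_mul, e, Units.val_neg, Units.val_one, neg_one_smul]⟩
  have e1 : N * N' * N = (4 : F) • N := by rw [hNX, h4]
  have kN : (k : Matrix ι ι F) * N = (-3 : F) • N - N' * N := by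
    rw [hkv, mul_sub, mul_one, add_mul, one_mul, sub_mul, add_mul, one_mul, hNN, add_zero, add_mul, e1]
    module
  have kNN : (k : Matrix ι ι F) * (N' * N) = N' * N + (4 : F) • N := by
    rw [hkv, mul_assoc, sub_mul, one_mul, ← mul_assoc N' N', hN'2, zero_mul, sub_zero, add_mul,
      one_mul, ← mul_assoc, e1]
  have e2 : l • N = (5 : F) • N + (2 : F) • (N' * N) := by
    calc l • N = (k : Matrix ι ι F) * k * N := by rw [hl, smul_mul_assoc, one_mul]
      _ = (-3 : F) • ((-3 : F) • N - N' * N) - (N' * N + (4 : F) • N) := by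
          rw [mul_assoc, kN, mul_sub, mul_smul_comm, kN, kNN]
      _ = _ := by module
  have e3 : (8 : F) • N = 0 := by
    have := congrArg (fun X => N * X) e2
    simp only [mul_smul_comm, mul_add, hNN, smul_zero, zero_add, ← mul_assoc, e1, smul_smul] at this
    rw [this]
    norm_num
  rcases smul_eq_zero.mp e3 with h | h
  · rw [show (8 : F) = 2 ^ 3 by norm_num] at h
    exact S.h2 (pow_eq_zero_iff (by norm_num) |>.mp h)
  · exact hN0 h

/-- The possible sizes of the centraliser in the group of a normalising element. -/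
theorem Setup.fixed_card [Finite R] [Nonempty ι] {a : ℕ} (hR : Nat.card R = 2 ^ (a + 4))
    (hZ : Nat.card (Subgroup.center R) = 2 ^ a) {y : GL ι F} (hy : y ∈ Cfsg.Geo.subgroupNormalizer R)
    {r : ℕ} [Fact r.Prime] (hr2 : r ≠ 2) {z₀ : F}
    (hyr : ((y ^ r : GL ι F) : Matrix ι ι F) = z₀ • (1 : Matrix ι ι F))
    (hns : ∀ z : F, (y : Matrix ι ι F) ≠ z • (1 : Matrix ι ι F)) :
    (r = 3 ∨ r = 5) ∧ ∃ f : ℕ, (f = 0 ∨ f = 2 ∧ r = 3) ∧
      Nat.card ↥(Subgroup.centralizer {y} ⊓ R) = 2 ^ (a + f) := by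
  classical
  have hrp := Fact.out (p := r.Prime)
  have hodd : Odd r := hrp.odd_of_ne_two hr2
  set C := Subgroup.centralizer {y} ⊓ R with hC
  haveI : Finite C := Finite.Set.subset (R : Set (GL ι F)) (fun x hx => hx.2)
  have hd1 : 2 ^ a ∣ Nat.card C := by
    rw [← hZ, ← Subgroup.card_map_of_injective (K := Subgroup.center R) R.subtype_injective]
    exact Subgroup.card_dvd_of_le (S.center_le y)
  obtain ⟨j, hj, hCj⟩ := (Nat.dvd_prime_pow Nat.prime_two).mp
    (hR ▸ Subgroup.card_dvd_of_le (inf_le_right : C ≤ R) : Nat.card C ∣ 2 ^ (a + 4))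
  rw [hCj] at hd1
  have haj : a ≤ j := Nat.pow_dvd_pow_iff_le_right (by norm_num) |>.mp hd1
  have hcomm : ∀ u ∈ R, y ^ r * u = u * y ^ r := fun u _ => Units.ext (by
    simp only [Units.val_mul, hyr, smul_mul_assoc, one_mul, mul_smul_comm, mul_one])
  have hmod : 2 ^ j ≡ 2 ^ (a + 4) [MOD r] := by
    rw [← hR, ← hCj]
    exact card_fixed (fun u => Subgroup.mem_set_normalizer_iff.mp hy u) hcomm
  obtain ⟨f, rfl⟩ : ∃ f, j = a + f := ⟨j - a, by omega⟩
  have hf4 : f ≤ 4 := by omega
  have hdvd : r ∣ 2 ^ (a + 4) - 2 ^ (a + f) :=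
    (Nat.modEq_iff_dvd' (Nat.pow_le_pow_right (by norm_num) (by omega))).mp hmod
  rw [pow_add, pow_add, ← Nat.mul_sub] at hdvd
  have hd : r ∣ 2 ^ 4 - 2 ^ f := (hrp.dvd_mul.mp hdvd).resolve_left fun h =>
    hr2 ((Nat.prime_dvd_prime_iff_eq hrp Nat.prime_two).mp (hrp.dvd_of_dvd_pow h))
  have hpr : ∀ q : ℕ, q.Prime → r ∣ q → r = q := fun q hq h => (Nat.prime_dvd_prime_iff_eq hrp hq).mp h
  interval_cases f
  · have h : r ∣ 3 * 5 := by simpa using hd
    rcases hrp.dvd_mul.mp h with h | h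
    · exact ⟨Or.inl (hpr 3 Nat.prime_three h), 0, Or.inl rfl, hCj⟩
    · exact ⟨Or.inr (hpr 5 (by norm_num) h), 0, Or.inl rfl, hCj⟩
  · exfalso
    have h : r ∣ 2 * 7 := by simpa using hd
    obtain rfl : r = 7 := hpr 7 (by norm_num) ((hrp.dvd_mul.mp h).resolve_left fun h => hr2 (hpr 2 Nat.prime_two h))
    -- an element outside the centre
    haveI : Finite ↥((Subgroup.center R).map R.subtype) := Finite.Set.subset (R : Set (GL ι F))
      (fun x hx => by obtain ⟨z, -, rfl⟩ := hx; exact z.2)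
    obtain ⟨c₀, hc₀C, hc₀Z⟩ : ∃ c₀ ∈ C, c₀ ∉ (Subgroup.center R).map R.subtype := by
      by_contra hall
      push Not at hall
      have hle := Nat.le_of_dvd Nat.card_pos (Subgroup.card_dvd_of_le (H := C) hall)
      rw [hCj, Subgroup.card_map_of_injective R.subtype_injective, hZ, pow_succ] at hle
      have := Nat.two_pow_pos a
      omega
    have hns₀ : ∀ c : F, (c₀ : Matrix ι ι F) ≠ c • (1 : Matrix ι ι F) := fun c hc => hc₀Z
      ⟨⟨c₀, hc₀C.2⟩, Subgroup.mem_center_iff.mpr fun v => Subtype.ext (Units.ext (by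
        simp [hc])), rfl⟩
    obtain ⟨v, hv, hv₀⟩ := S.partner hc₀C.2 hns₀
    set D := Subgroup.centralizer {c₀} ⊓ R with hD
    have hmem : ∀ u, u ∈ D ↔ c₀ * u = u * c₀ ∧ u ∈ R := fun u =>
      ⟨fun h => ⟨Subgroup.mem_centralizer_iff.mp h.1 c₀ rfl, h.2⟩, fun h =>
        ⟨Subgroup.mem_centralizer_iff.mpr (fun g hg => by rw [Set.mem_singleton_iff.mp hg]; exact h.1), h.2⟩⟩
    haveI : Finite D := Finite.Set.subset (R : Set (GL ι F)) (fun x hx => hx.2)
    have hidx : (D.subgroupOf R).index = 2 := by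
      refine Subgroup.index_eq_two_iff.mpr ⟨⟨v, hv⟩, fun b => ?_⟩
      have hvne : -c₀ ≠ c₀ := fun e => by
        have h' := congrArg (fun g : GL ι F => (g : Matrix ι ι F)) e
        simp only [Units.val_neg] at h'
        have : (2 : F) • (c₀ : Matrix ι ι F) = 0 := by rw [two_smul]; exact add_eq_zero_iff_eq_neg.mpr h'.symm
        exact (smul_eq_zero.mp this).elim S.h2 (Units.ne_zero c₀)
      simp only [Subgroup.mem_subgroupOf, Subgroup.coe_mul, hmem, b.2, R.mul_mem b.2 hv, and_true]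
      have e1 : (c₀ * ((b : GL ι F) * v) = (b : GL ι F) * v * c₀) ↔
          (b : GL ι F) * c₀ * (b : GL ι F)⁻¹ = -c₀ := by
        have hvc : v * c₀ = -(c₀ * v) := by
          rw [mul_inv_eq_iff_eq_mul] at hv₀; rw [hv₀, neg_mul]
        rw [mul_assoc (b : GL ι F) v c₀, hvc, mul_neg, mul_inv_eq_iff_eq_mul, neg_mul, ← mul_assoc, ← mul_assoc,
          ← neg_mul, mul_left_inj]
        exact ⟨fun e => by rw [e, neg_neg], fun e => by rw [e, neg_neg]⟩
      have e2 : (c₀ * (b : GL ι F) = (b : GL ι F) * c₀) ↔ (b : GL ι F) * c₀ * (b : GL ι F)⁻¹ = c₀ :=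
        ⟨fun e => mul_inv_eq_iff_eq_mul.mpr e.symm, fun e => (mul_inv_eq_iff_eq_mul.mp e).symm⟩
      rw [e1, e2]
      rcases S.conj b b.2 c₀ hc₀C.2 with e | e
      · exact Or.inr ⟨e, fun e' => hvne (e'.symm.trans e)⟩
      · exact Or.inl ⟨e, fun e' => hvne (e.symm.trans e')⟩
    have hDcard : Nat.card D = 2 ^ (a + 3) := by
      have h := Subgroup.card_mul_index (D.subgroupOf R)
      rw [hidx, Nat.card_congr (Subgroup.subgroupOfEquivOfLe (inf_le_right : D ≤ R)).toEquiv, hR] at h
      have e : 2 ^ (a + 4) = 2 ^ (a + 3) * 2 := by rw [← pow_succ]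
      exact Nat.eq_of_mul_eq_mul_right two_pos (h.trans e)
    have hy₀ : y * c₀ = c₀ * y := Subgroup.mem_centralizer_iff.mp hc₀C.1 y rfl
    have hDy : ∀ u, u ∈ D ↔ y * u * y⁻¹ ∈ D := fun u => by
      rw [hmem, hmem]
      refine and_congr ?_ (Subgroup.mem_set_normalizer_iff.mp hy u)
      have e : y * c₀ * y⁻¹ = c₀ := mul_inv_eq_iff_eq_mul.mpr hy₀
      constructor
      · intro h
        calc c₀ * (y * u * y⁻¹) = y * (c₀ * u) * y⁻¹ := by nth_rw 1 [← e]; group
          _ = y * (u * c₀) * y⁻¹ := by rw [h]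
          _ = (y * u * y⁻¹) * (y * c₀ * y⁻¹) := by group
          _ = _ := by rw [e]
      · intro h
        calc c₀ * u = y⁻¹ * ((y * c₀ * y⁻¹) * (y * u * y⁻¹)) * y := by group
          _ = y⁻¹ * ((y * u * y⁻¹) * (y * c₀ * y⁻¹)) * y := by rw [e, h]
          _ = _ := by group
    have hCD : C ≤ D := by
      intro u hu
      refine (hmem u).mpr ⟨?_, hu.2⟩
      set D' := C ⊓ Subgroup.centralizer {c₀} with hD'
      haveI : Finite D' := Finite.Set.subset (C : Set (GL ι F)) (fun x hx => hx.1)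
      have hZD : (Subgroup.center R).map R.subtype ≤ D' := le_inf (S.center_le y) fun g hg =>
        (S.center_le c₀ hg).1
      have hc₀D : c₀ ∈ D' := ⟨hc₀C, Subgroup.mem_centralizer_iff.mpr (by simp)⟩
      obtain ⟨i, hi, hD'i⟩ := (Nat.dvd_prime_pow Nat.prime_two).mp
        (hCj ▸ Subgroup.card_dvd_of_le (inf_le_left : D' ≤ C) : Nat.card D' ∣ 2 ^ (a + 1))
      have hne : 2 ^ a < Nat.card D' := by
        rw [← hZ, ← Subgroup.card_map_of_injective (K := Subgroup.center R) R.subtype_injective]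
        refine lt_of_le_of_ne (Nat.le_of_dvd Nat.card_pos (Subgroup.card_dvd_of_le hZD)) fun e => hc₀Z ?_
        exact (Subgroup.eq_of_le_of_card_ge hZD e.ge).ge hc₀D
      rw [hD'i] at hne
      have hi1 : i = a + 1 := by
        have := (Nat.pow_lt_pow_iff_right (by norm_num)).mp hne
        omega
      have : D' = C := Subgroup.eq_of_le_of_card_ge inf_le_left (by rw [hD'i, hCj, hi1])
      exact Subgroup.mem_centralizer_iff.mp (this.ge hu).2 c₀ rfl
    have hCeq : Subgroup.centralizer {y} ⊓ D = C :=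
      le_antisymm (fun g hg => ⟨hg.1, hg.2.2⟩) fun g hg => ⟨hg.1, hCD hg⟩
    have h7 := card_fixed hDy (r := 7) fun u hu => hcomm u hu.2
    rw [hCeq, hCj, hDcard] at h7
    have h7' := (Nat.modEq_iff_dvd' (Nat.pow_le_pow_right (by norm_num) (by omega))).mp h7
    rw [pow_add, pow_add, ← Nat.mul_sub] at h7'
    rcases (show Nat.Prime 7 by norm_num).dvd_mul.mp h7' with h | h
    · exact absurd ((show Nat.Prime 7 by norm_num).dvd_of_dvd_pow h) (by norm_num)
    · norm_num at h
  · have h : r ∣ 2 ^ 2 * 3 := by simpa using hd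
    obtain rfl : r = 3 := hpr 3 Nat.prime_three ((hrp.dvd_mul.mp h).resolve_left fun h =>
      hr2 (hpr 2 Nat.prime_two (hrp.dvd_of_dvd_pow h)))
    exact ⟨Or.inl rfl, 2, Or.inr ⟨rfl, rfl⟩, hCj⟩
  · exfalso
    have h : r ∣ 2 ^ 3 := by simpa using hd
    exact hr2 (hpr 2 Nat.prime_two (hrp.dvd_of_dvd_pow h))
  · exfalso
    have hCR : C = R := Subgroup.eq_of_le_of_card_ge inf_le_right (by rw [hR, hCj])
    obtain ⟨z, hz⟩ := S.cent y fun u hu => by
      rw [← Units.val_mul, ← Units.val_mul]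
      exact congrArg Units.val (Subgroup.mem_centralizer_iff.mp (hCR.ge hu).1 y rfl)
    exact hns z hz

/-- The product of traces in dimension four. -/
theorem Setup.trace_mem [Finite R] (hι : Fintype.card ι = 4) {a : ℕ} (hR : Nat.card R = 2 ^ (a + 4))
    (hZ : Nat.card (Subgroup.center R) = 2 ^ a) {y : GL ι F} (hy : y ∈ Cfsg.Geo.subgroupNormalizer R)
    {r : ℕ} [Fact r.Prime] (hr2 : r ≠ 2) {z₀ : F}
    (hyr : ((y ^ r : GL ι F) : Matrix ι ι F) = z₀ • (1 : Matrix ι ι F))
    (hns : ∀ z : F, (y : Matrix ι ι F) ≠ z • (1 : Matrix ι ι F)) :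
    Matrix.trace (y : Matrix ι ι F) * Matrix.trace ((y⁻¹ : GL ι F) : Matrix ι ι F) = 1 ∨
      (r = 3 ∧ Matrix.trace (y : Matrix ι ι F) * Matrix.trace ((y⁻¹ : GL ι F) : Matrix ι ι F) = 4) := by
  haveI : Nonempty ι := Fintype.card_pos_iff.mp (by omega)
  obtain ⟨-, f, hf, hC⟩ := S.fixed_card hR hZ hy hr2 hyr hns
  have h := S.trace_count hy ((Fact.out (p := r.Prime)).odd_of_ne_two hr2) hyr
  rw [hι, hC, hR] at h
  push_cast at h
  have h16 : (2 : F) ^ a * 16 ≠ 0 := mul_ne_zero (pow_ne_zero _ S.h2) (by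
    rw [show (16 : F) = 2 ^ 4 by norm_num]; exact pow_ne_zero _ S.h2)
  have key : Matrix.trace (y : Matrix ι ι F) * Matrix.trace ((y⁻¹ : GL ι F) : Matrix ι ι F) = 2 ^ f :=
    mul_left_cancel₀ h16 (by rw [pow_add, pow_add] at h; simp only [Matrix.coe_units_inv] at h ⊢; linear_combination -h)
  rcases hf with rfl | ⟨rfl, hr⟩
  · exact Or.inl (by simpa using key)
  · exact Or.inr ⟨hr, by rw [key]; norm_num⟩

end Cfsg.Agent.SympTypeTwo
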