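import Mathlib
import Cfsg.Agent.Lib.SympTypeTwo
import Cfsg.Agent.Lib.SemisimpleConjGL

/-!
The monomial model of a group of order 64 of symplectic type in dimension four, elements of its
normaliser, and the characteristic polynomials of elements of prime order.
-/

set_option autoImplicit false
set_option linter.style.haveILetI false
set_option maxHeartbeats 1600000

namespace Cfsg.Agent.PauliFour

open Matrix Polynomial
open Cfsg.Agent.SympTypeTwo
open scoped MatrixGroups

variable {F : Type*} [Field F]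

/-! ### The model -/

/-- An invertible diagonal matrix. -/
def dg (d : Fin 4 → Fˣ) : GL (Fin 4) F :=
  ⟨diagonal fun i => (d i : F), diagonal fun i => ((d i)⁻¹ : Fˣ),
    by rw [diagonal_mul_diagonal]; simp, by rw [diagonal_mul_diagonal]; simp⟩

theorem dg_val (d : Fin 4 → Fˣ) : (dg d : Matrix (Fin 4) (Fin 4) F) = diagonal fun i => (d i : F) := rfl

/-- Scalar matrices. -/
def sc (z : Fˣ) : GL (Fin 4) F := dg fun _ => z

theorem sc_val (z : Fˣ) : (sc z : Matrix (Fin 4) (Fin 4) F) = (z : F) • (1 : Matrix (Fin 4) (Fin 4) F) := by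
  rw [sc, dg_val, Matrix.smul_one_eq_diagonal]

theorem sc_comm (z : Fˣ) (g : GL (Fin 4) F) : sc z * g = g * sc z := by
  apply Units.ext
  simp only [Units.val_mul, sc_val, smul_mul_assoc, one_mul, mul_smul_comm, mul_one]

def pA : GL (Fin 4) F := dg ![1, 1, -1, -1]
def pC : GL (Fin 4) F := dg ![1, -1, 1, -1]

def pB : GL (Fin 4) F :=
  ⟨!![0, 0, 1, 0; 0, 0, 0, 1; 1, 0, 0, 0; 0, 1, 0, 0], !![0, 0, 1, 0; 0, 0, 0, 1; 1, 0, 0, 0; 0, 1, 0, 0],
    by ext i j; fin_cases i <;> fin_cases j <;> simp [mul_apply, Fin.sum_univ_four],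
    by ext i j; fin_cases i <;> fin_cases j <;> simp [mul_apply, Fin.sum_univ_four]⟩

def pD : GL (Fin 4) F :=
  ⟨!![0, 1, 0, 0; 1, 0, 0, 0; 0, 0, 0, 1; 0, 0, 1, 0], !![0, 1, 0, 0; 1, 0, 0, 0; 0, 0, 0, 1; 0, 0, 1, 0],
    by ext i j; fin_cases i <;> fin_cases j <;> simp [mul_apply, Fin.sum_univ_four],
    by ext i j; fin_cases i <;> fin_cases j <;> simp [mul_apply, Fin.sum_univ_four]⟩

/-- The model group. -/
def std (I : Fˣ) : Subgroup (GL (Fin 4) F) := Subgroup.closure {sc I, pA, pB, pC, pD}

theorem sI_mem (I : Fˣ) : sc I ∈ std I := Subgroup.subset_closure (by simp)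
theorem pA_mem (I : Fˣ) : pA ∈ std I := Subgroup.subset_closure (by simp)
theorem pB_mem (I : Fˣ) : pB ∈ std I := Subgroup.subset_closure (by simp)
theorem pC_mem (I : Fˣ) : pC ∈ std I := Subgroup.subset_closure (by simp)
theorem pD_mem (I : Fˣ) : pD ∈ std I := Subgroup.subset_closure (by simp)

theorem neg_one_mem {I : Fˣ} (hI : (I : F) * I = -1) : (-1 : GL (Fin 4) F) ∈ std I := by
  have e : (-1 : GL (Fin 4) F) = sc I * sc I := Units.ext (by
    rw [Units.val_mul, sc_val, smul_mul_smul_comm, hI, one_mul, Units.val_neg, Units.val_one, neg_one_smul])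
  rw [e]
  exact mul_mem (sI_mem I) (sI_mem I)

/-- Membership in the normaliser of a finite group through its generators. -/
theorem mem_normalizer {I : Fˣ} [Finite F] {y a b c d : GL (Fin 4) F} (ha : a ∈ std I) (hb : b ∈ std I)
    (hc : c ∈ std I) (hd : d ∈ std I) (ea : y * pA = a * y) (eb : y * pB = b * y) (ec : y * pC = c * y)
    (ed : y * pD = d * y) : y ∈ Cfsg.Geo.subgroupNormalizer (std I) := by
  have hle : (std I).map (MulAut.conj y).toMonoidHom ≤ std I := by
    conv_lhs => rw [std]
    rw [MonoidHom.map_closure, Subgroup.closure_le]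
    rintro _ ⟨g, hg, rfl⟩
    simp only [MulEquiv.coe_toMonoidHom, MulAut.conj_apply]
    rcases hg with rfl | rfl | rfl | rfl | rfl
    · rw [← sc_comm, mul_inv_cancel_right]; exact sI_mem I
    · rw [ea, mul_inv_cancel_right]; exact ha
    · rw [eb, mul_inv_cancel_right]; exact hb
    · rw [ec, mul_inv_cancel_right]; exact hc
    · rw [ed, mul_inv_cancel_right]; exact hd
  have heq : (std I).map (MulAut.conj y).toMonoidHom = std I := Subgroup.eq_of_le_of_card_ge hle
    (by rw [Subgroup.card_map_of_injective (MulAut.conj y).injective])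
  rw [Cfsg.Geo.subgroupNormalizer, Subgroup.mem_set_normalizer_iff]
  intro g
  constructor
  · exact fun hg => hle ⟨g, hg, rfl⟩
  · intro hg
    obtain ⟨g', hg', e⟩ := heq.ge hg
    simp only [MulEquiv.coe_toMonoidHom, MulAut.conj_apply] at e
    rwa [mul_left_cancel (mul_right_cancel e)] at hg'

theorem sc_mem_normalizer (G : Subgroup (GL (Fin 4) F)) (z : Fˣ) :
    sc z ∈ Cfsg.Geo.subgroupNormalizer G := by
  rw [Cfsg.Geo.subgroupNormalizer, Subgroup.mem_set_normalizer_iff]
  intro g
  rw [sc_comm, mul_inv_cancel_right]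

/-- Diagonal sign matrices normalise the model. -/
theorem sign_mem [Finite F] {I : Fˣ} (hI : (I : F) * I = -1) (d : Fin 4 → Fˣ)
    (hd : ∀ i, d i = 1 ∨ d i = -1) : dg d ∈ Cfsg.Geo.subgroupNormalizer (std I) := by
  have hn := neg_one_mem hI
  have hsgn : ∀ s : Fˣ, s = 1 ∨ s = -1 → sc s ∈ std I := by
    rintro s (rfl | rfl)
    · convert one_mem (std I); exact Units.ext (by simp [sc_val])
    · convert hn; exact Units.ext (by simp [sc_val])
  have hsq : ∀ i, d i * d i = 1 := fun i => by rcases hd i with e | e <;> simp [e]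
  have hmul : ∀ i j, d i * d j = 1 ∨ d i * d j = -1 := fun i j => by
    rcases hd i with e | e <;> rcases hd j with e' | e' <;> simp [e, e']
  -- two-valued diagonal matrices of the model
  have hA : ∀ s t : Fˣ, (s = 1 ∨ s = -1) → (t = 1 ∨ t = -1) → dg ![s, s, t, t] ∈ std I := by
    intro s t hs ht
    by_cases h : t = s
    · subst h
      convert hsgn t ht using 1
      exact Units.ext (by rw [dg_val, sc, dg_val]; exact congrArg diagonal (funext fun i => by fin_cases i <;> rfl))
    · have ht' : t = -s := by rcases hs with rfl | rfl <;> rcases ht with rfl | rfl <;> simp_all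
      convert mul_mem (hsgn s hs) (pA_mem I) using 1
      exact Units.ext (by
        rw [Units.val_mul, sc, pA, dg_val, dg_val, dg_val, diagonal_mul_diagonal]
        exact congrArg diagonal (funext fun i => by fin_cases i <;> simp [ht']))
  have hC : ∀ s t : Fˣ, (s = 1 ∨ s = -1) → (t = 1 ∨ t = -1) → dg ![s, t, s, t] ∈ std I := by
    intro s t hs ht
    by_cases h : t = s
    · subst h
      convert hsgn t ht using 1
      exact Units.ext (by rw [dg_val, sc, dg_val]; exact congrArg diagonal (funext fun i => by fin_cases i <;> rfl))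
    · have ht' : t = -s := by rcases hs with rfl | rfl <;> rcases ht with rfl | rfl <;> simp_all
      convert mul_mem (hsgn s hs) (pC_mem I) using 1
      exact Units.ext (by
        rw [Units.val_mul, sc, pC, dg_val, dg_val, dg_val, diagonal_mul_diagonal]
        exact congrArg diagonal (funext fun i => by fin_cases i <;> simp [ht']))
  refine mem_normalizer (a := pA) (b := dg ![d 0 * d 2, d 1 * d 3, d 0 * d 2, d 1 * d 3] * pB) (c := pC)
    (d := dg ![d 0 * d 1, d 0 * d 1, d 2 * d 3, d 2 * d 3] * pD) (pA_mem I)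
    (mul_mem (hC _ _ (hmul _ _) (hmul _ _)) (pB_mem I)) (pC_mem I)
    (mul_mem (hA _ _ (hmul _ _) (hmul _ _)) (pD_mem I)) ?_ ?_ ?_ ?_ <;> apply Units.ext
  · simp only [Units.val_mul, pA, dg_val, diagonal_mul_diagonal]
    exact congrArg diagonal (funext fun i => mul_comm _ _)
  · have hs : ∀ i, (d i : F) * d i = 1 := fun i => by rw [← Units.val_mul, hsq, Units.val_one]
    simp only [Units.val_mul, dg_val]
    ext i j
    fin_cases i <;> fin_cases j <;> simp [pB, mul_apply, Fin.sum_univ_four] <;>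
      first | linear_combination -(d 0 : F) * hs 2 | linear_combination -(d 1 : F) * hs 3 |
        linear_combination -(d 2 : F) * hs 0 | linear_combination -(d 3 : F) * hs 1
  · simp only [Units.val_mul, pC, dg_val, diagonal_mul_diagonal]
    exact congrArg diagonal (funext fun i => mul_comm _ _)
  · have hs : ∀ i, (d i : F) * d i = 1 := fun i => by rw [← Units.val_mul, hsq, Units.val_one]
    simp only [Units.val_mul, dg_val]
    ext i j
    fin_cases i <;> fin_cases j <;> simp [pD, mul_apply, Fin.sum_univ_four] <;>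
      first | linear_combination -(d 0 : F) * hs 1 | linear_combination -(d 1 : F) * hs 0 |
        linear_combination -(d 2 : F) * hs 3 | linear_combination -(d 3 : F) * hs 2

/-- An element of order three. -/
def cliffT (I h : F) (hI : I * I = -1) (hh : h * 2 = 1) : GL (Fin 4) F :=
  ⟨h • !![-1 - I, 0, -1 - I, 0; 0, -1 - I, 0, -1 - I; 1 - I, 0, -1 + I, 0; 0, 1 - I, 0, -1 + I],
    h • !![-1 + I, 0, 1 + I, 0; 0, -1 + I, 0, 1 + I; -1 + I, 0, -1 - I, 0; 0, -1 + I, 0, -1 - I],
    by
      ext i j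
      fin_cases i <;> fin_cases j <;> simp [mul_apply, Fin.sum_univ_four] <;>
        first | ring1 | linear_combination (-2 * h * h) * hI + (2 * h + 1) * hh,
    by
      ext i j
      fin_cases i <;> fin_cases j <;> simp [mul_apply, Fin.sum_univ_four] <;>
        first | ring1 | linear_combination (-2 * h * h) * hI + (2 * h + 1) * hh⟩

/-- A second element of order three. -/
def cliffTT (I h : F) (hI : I * I = -1) (hh : h * 2 = 1) : GL (Fin 4) F :=
  ⟨h • !![I, I, I, I; -1, 1, -1, 1; -1, -1, 1, 1; -I, I, I, -I],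
    h • !![-I, -1, -1, I; -I, 1, -1, -I; -I, -1, 1, -I; -I, 1, 1, I],
    by
      ext i j
      fin_cases i <;> fin_cases j <;> simp [mul_apply, Fin.sum_univ_four] <;>
        first | ring1 | linear_combination (-4 * h * h) * hI + (2 * h + 1) * hh | linear_combination (2 * h + 1) * hh,
    by
      ext i j
      fin_cases i <;> fin_cases j <;> simp [mul_apply, Fin.sum_univ_four] <;>
        first | ring1 | linear_combination (-2 * h * h) * hI + (2 * h + 1) * hh |
          linear_combination (-2 * h * h) * hI | linear_combination (2 * h * h) * hI⟩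

/-- An element of order five. -/
def cliffF (I h : F) (hI : I * I = -1) (hh : h * 2 = 1) : GL (Fin 4) F :=
  ⟨h • !![-1 + I, -1 + I, 0, 0; 0, 0, -1 + I, 1 - I; -1 - I, 1 + I, 0, 0; 0, 0, -1 - I, -1 - I],
    h • !![-1 - I, 0, -1 + I, 0; -1 - I, 0, 1 - I, 0; 0, -1 - I, 0, -1 + I; 0, 1 + I, 0, -1 + I],
    by
      ext i j
      fin_cases i <;> fin_cases j <;> simp [mul_apply, Fin.sum_univ_four] <;>
        first | ring1 | linear_combination (-2 * h * h) * hI + (2 * h + 1) * hh,
    by
      ext i j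
      fin_cases i <;> fin_cases j <;> simp [mul_apply, Fin.sum_univ_four] <;>
        first | ring1 | linear_combination (-2 * h * h) * hI + (2 * h + 1) * hh⟩

section cliff

variable [Finite F] {I : Fˣ} (hI : (I : F) * I = -1) {h : F} (hh : h * 2 = 1)
include hI hh

/-- A word in the model. -/
local notation "s3" => sc I * sc I * sc I

theorem cliffT_mem : cliffT (I : F) h hI hh ∈ Cfsg.Geo.subgroupNormalizer (std I) := by
  refine mem_normalizer (a := s3 * pA * pB) (b := pA) (c := pC) (d := pD)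
    (mul_mem (mul_mem (mul_mem (mul_mem (sI_mem I) (sI_mem I)) (sI_mem I)) (pA_mem I)) (pB_mem I))
    (pA_mem I) (pC_mem I) (pD_mem I) ?_ ?_ ?_ ?_ <;> apply Units.ext <;>
    simp only [Units.val_mul, sc_val, pA, pC, dg_val, cliffT, pB, pD] <;>
    ext i j <;> fin_cases i <;> fin_cases j <;> simp [mul_apply, Fin.sum_univ_four, diagonal] <;>
    ring_nf <;> simp only [show (I : F) ^ 2 = -1 from by rw [pow_two, hI],
      show (I : F) ^ 3 = -(I : F) from by rw [pow_succ, pow_two, hI, neg_one_mul],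
      show (I : F) ^ 4 = 1 from by rw [show (I : F) ^ 4 = (I * I) * (I * I) by ring, hI]; norm_num] <;> ring

theorem cliffTT_mem : cliffTT (I : F) h hI hh ∈ Cfsg.Geo.subgroupNormalizer (std I) := by
  refine mem_normalizer (a := s3 * pA * pB) (b := pA) (c := s3 * pC * pD) (d := pC)
    (mul_mem (mul_mem (mul_mem (mul_mem (sI_mem I) (sI_mem I)) (sI_mem I)) (pA_mem I)) (pB_mem I))
    (pA_mem I)
    (mul_mem (mul_mem (mul_mem (mul_mem (sI_mem I) (sI_mem I)) (sI_mem I)) (pC_mem I)) (pD_mem I))
    (pC_mem I) ?_ ?_ ?_ ?_ <;> apply Units.ext <;>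
    simp only [Units.val_mul, sc_val, pA, pC, dg_val, cliffTT, pB, pD] <;>
    ext i j <;> fin_cases i <;> fin_cases j <;> simp [mul_apply, Fin.sum_univ_four, diagonal] <;>
    ring_nf <;> simp only [show (I : F) ^ 2 = -1 from by rw [pow_two, hI],
      show (I : F) ^ 3 = -(I : F) from by rw [pow_succ, pow_two, hI, neg_one_mul],
      show (I : F) ^ 4 = 1 from by rw [show (I : F) ^ 4 = (I * I) * (I * I) by ring, hI]; norm_num] <;> ring

theorem cliffF_mem : cliffF (I : F) h hI hh ∈ Cfsg.Geo.subgroupNormalizer (std I) := by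
  refine mem_normalizer (a := pC) (b := s3 * pA * pB * pD) (c := s3 * pA * pB) (d := pA * pC)
    (pC_mem I)
    (mul_mem (mul_mem (mul_mem (mul_mem (mul_mem (sI_mem I) (sI_mem I)) (sI_mem I)) (pA_mem I)) (pB_mem I))
      (pD_mem I))
    (mul_mem (mul_mem (mul_mem (mul_mem (sI_mem I) (sI_mem I)) (sI_mem I)) (pA_mem I)) (pB_mem I))
    (mul_mem (pA_mem I) (pC_mem I)) ?_ ?_ ?_ ?_ <;> apply Units.ext <;>
    simp only [Units.val_mul, sc_val, pA, pC, dg_val, cliffF, pB, pD] <;>
    ext i j <;> fin_cases i <;> fin_cases j <;> simp [mul_apply, Fin.sum_univ_four, diagonal] <;>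
    ring_nf <;> simp only [show (I : F) ^ 2 = -1 from by rw [pow_two, hI],
      show (I : F) ^ 3 = -(I : F) from by rw [pow_succ, pow_two, hI, neg_one_mul],
      show (I : F) ^ 4 = 1 from by rw [show (I : F) ^ 4 = (I * I) * (I * I) by ring, hI]; norm_num] <;> ring

omit [Finite F] in
theorem cliff_order :
    (cliffT (I : F) h hI hh : Matrix (Fin 4) (Fin 4) F) ^ 3 = 1 ∧
    (cliffTT (I : F) h hI hh : Matrix (Fin 4) (Fin 4) F) ^ 3 = 1 ∧
    (cliffF (I : F) h hI hh : Matrix (Fin 4) (Fin 4) F) ^ 5 = 1 := by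
  have h2 : (I : F) ^ 2 = -1 := by rw [pow_two, hI]
  refine ⟨?_, ?_, ?_⟩
  · rw [pow_succ, pow_two]
    ext i j
    fin_cases i <;> fin_cases j <;> simp [cliffT, mul_apply, Fin.sum_univ_four] <;> ring_nf <;>
      simp [h2, show (I : F) ^ 3 = -(I : F) by rw [pow_succ, h2, neg_one_mul]] <;>
      first | linear_combination (4 * h * h + 2 * h + 1) * hh | ring
  · rw [pow_succ, pow_two]
    ext i j
    fin_cases i <;> fin_cases j <;> simp [cliffTT, mul_apply, Fin.sum_univ_four] <;> ring_nf <;>
      simp [h2, show (I : F) ^ 3 = -(I : F) by rw [pow_succ, h2, neg_one_mul]] <;>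
      first | linear_combination (4 * h * h + 2 * h + 1) * hh | ring
  · rw [show 5 = 2 + 2 + 1 from rfl, pow_succ, pow_add, pow_two]
    ext i j
    fin_cases i <;> fin_cases j <;> simp [cliffF, mul_apply, Fin.sum_univ_four] <;> ring_nf <;>
      simp [h2, show (I : F) ^ 3 = -(I : F) by rw [pow_succ, h2, neg_one_mul],
        show (I : F) ^ 4 = 1 by rw [show (I : F) ^ 4 = ((I : F) ^ 2) ^ 2 by ring, h2]; norm_num,
        show (I : F) ^ 5 = (I : F) by rw [show (I : F) ^ 5 = ((I : F) ^ 2) ^ 2 * I by ring, h2]; norm_num] <;>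
      first | linear_combination (16 * h ^ 4 + 8 * h ^ 3 + 4 * h ^ 2 + 2 * h + 1) * hh | ring

omit [Finite F] in
theorem cliff_trace :
    Matrix.trace (cliffT (I : F) h hI hh : Matrix (Fin 4) (Fin 4) F) = -2 ∧
    Matrix.trace (cliffTT (I : F) h hI hh : Matrix (Fin 4) (Fin 4) F) = 1 ∧
    Matrix.trace (cliffF (I : F) h hI hh : Matrix (Fin 4) (Fin 4) F) = -1 := by
  refine ⟨?_, ?_, ?_⟩ <;> simp [cliffT, cliffTT, cliffF, Matrix.trace, Fin.sum_univ_four] <;>
    first | linear_combination -2 * hh | linear_combination hh | linear_combination -hh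

end cliff

/-! ### The form of an arbitrary group -/

theorem diag_apply_col (P : Matrix (Fin 4) (Fin 4) F) (x : Fin 4 → F) (i : Fin 4) :
    (P *ᵥ x) i = P i 0 * x 0 + P i 1 * x 1 + P i 2 * x 2 + P i 3 * x 3 := by
  simp [mulVec, dotProduct, Fin.sum_univ_four]

/-- Every group of the given type is conjugate to the model. -/
theorem exists_std [Finite F] {R : Subgroup (GL (Fin 4) F)} (S : Setup R) (hR : Nat.card R = 2 ^ 6)
    (hZ : Nat.card (Subgroup.center R) = 4) :
    ∃ (I : Fˣ) (P : GL (Fin 4) F), (I : F) * I = -1 ∧ R = (std I).map (MulAut.conj P).toMonoidHom := by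
  classical
  have h2 := S.h2
  haveI : Finite R := Nat.finite_of_card_ne_zero (by rw [hR]; norm_num)
  have negne : ∀ g : GL (Fin 4) F, -g ≠ g := fun g e => by
    have h' := congrArg (fun g : GL (Fin 4) F => (g : Matrix (Fin 4) (Fin 4) F)) e
    simp only [Units.val_neg] at h'
    have : (2 : F) • (g : Matrix (Fin 4) (Fin 4) F) = 0 := by
      rw [two_smul]; exact add_eq_zero_iff_eq_neg.mpr h'.symm
    exact (smul_eq_zero.mp this).elim h2 (Units.ne_zero g)
  -- central elements are scalar
  have cscal : ∀ u ∈ R, (∀ v ∈ R, u * v = v * u) → ∃ c : F, (u : Matrix (Fin 4) (Fin 4) F) = c • 1 :=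
    fun u _ hc => S.cent u fun v hv => by rw [← Units.val_mul, hc v hv, Units.val_mul]
  -- a scalar of order four
  obtain ⟨I, hI, hIR⟩ : ∃ I : Fˣ, (I : F) * I = -1 ∧ sc I ∈ R := by
    by_contra hno
    push Not at hno
    have hle : (Subgroup.center R).map R.subtype ≤ Subgroup.closure {(-1 : GL (Fin 4) F)} := by
      rintro _ ⟨u, hu, rfl⟩
      obtain ⟨c, hc⟩ := cscal u u.2 fun v hv =>
        (congrArg Subtype.val ((Subgroup.mem_center_iff.mp hu) ⟨v, hv⟩)).symm
      have hc0 : c ≠ 0 := fun e => (Units.ne_zero (u : GL (Fin 4) F)) (by rw [hc, e, zero_smul])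
      rcases S.sq u u.2 with e | e <;>
        (have e' := congrArg (fun g : GL (Fin 4) F => (g : Matrix (Fin 4) (Fin 4) F) 0 0) e;
         simp [hc] at e')
      · rcases mul_self_eq_one_iff.mp e' with h | h
        · rw [show R.subtype u = 1 from Units.ext (by simp [hc, h])]; exact one_mem _
        · rw [show R.subtype u = -1 from Units.ext (by simp [hc, h])]
          exact Subgroup.subset_closure rfl
      · refine absurd ?_ (hno (Units.mk0 c hc0) (by simpa using e'))
        rw [show sc (Units.mk0 c hc0) = (u : GL (Fin 4) F) from Units.ext (by rw [sc_val, hc]; rfl)]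
        exact u.2
    have hcl : Nat.card (Subgroup.closure {(-1 : GL (Fin 4) F)}) = 2 := by
      rw [← Subgroup.zpowers_eq_closure, Nat.card_zpowers]
      exact orderOf_eq_prime (by simp) (negne 1)
    have := Subgroup.card_dvd_of_le hle
    rw [Subgroup.card_map_of_injective R.subtype_injective, hZ, hcl] at this
    norm_num at this
  -- scaling to an involution
  have adjust : ∀ u ∈ R, ∃ u' ∈ R, u' * u' = 1 ∧ ∀ g, (g * u * g⁻¹ = u ↔ g * u' * g⁻¹ = u') ∧
      (g * u * g⁻¹ = -u ↔ g * u' * g⁻¹ = -u') := by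
    intro u hu
    rcases S.sq u hu with e | e
    · exact ⟨u, hu, e, fun g => ⟨Iff.rfl, Iff.rfl⟩⟩
    · refine ⟨sc I * u, R.mul_mem hIR hu, ?_, fun g => ?_⟩
      · rw [mul_assoc, ← mul_assoc u, ← sc_comm, mul_assoc, e, ← mul_assoc]
        exact Units.ext (by simp [sc_val, smul_smul, hI])
      · have e1 : g * (sc I * u) * g⁻¹ = sc I * (g * u * g⁻¹) := by
          rw [← mul_assoc, ← sc_comm]; group
        rw [e1, ← mul_neg, mul_right_inj, mul_right_inj]
        exact ⟨Iff.rfl, Iff.rfl⟩
  have dich : ∀ g ∈ R, ∀ u ∈ R, g * u * g⁻¹ = u ∨ g * u * g⁻¹ = -u := fun g hg u hu => S.conj g hg u hu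
  -- first pair
  obtain ⟨u₀, hu₀, v₀, hv₀, h0⟩ : ∃ u ∈ R, ∃ v ∈ R, v * u * v⁻¹ = -u := by
    by_contra hno
    push Not at hno
    have : Subgroup.center R = ⊤ := eq_top_iff.2 fun u _ => Subgroup.mem_center_iff.mpr fun v =>
      Subtype.ext (mul_inv_eq_iff_eq_mul.mp ((dich v v.2 u u.2).resolve_right (hno u u.2 v v.2)))
    rw [this, Subgroup.card_top, hR] at hZ
    norm_num at hZ
  obtain ⟨a, ha, haa, hau⟩ := adjust u₀ hu₀
  obtain ⟨b, hb, hbb, hbv⟩ := adjust v₀ hv₀
  have flip : ∀ g u : GL (Fin 4) F, g * u * g⁻¹ = -u → u * g * u⁻¹ = -g := fun g u e => by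
    rw [mul_inv_eq_iff_eq_mul] at e ⊢
    rw [neg_mul, e, neg_mul, neg_neg]
  have hba : b * a * b⁻¹ = -a := ((hau b).2.mp (flip _ _ ((hbv u₀).2.mp (flip _ _ h0))))
  have hab : a * b * a⁻¹ = -b := flip _ _ hba
  have inv_one : ∀ g : GL (Fin 4) F, g * g = 1 → g⁻¹ = g := fun g e => inv_eq_of_mul_eq_one_right e
  -- projection to elements commuting with a pair
  have proj : ∀ a ∈ R, ∀ b ∈ R, b * a * b⁻¹ = -a → ∀ u ∈ R, ∃ w ∈ Subgroup.closure {a, b},
      ∀ t ∈ ({a, b} : Set (GL (Fin 4) F)), t * (w * u) * t⁻¹ = w * u := by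
    intro a ha b hb hba u hu
    have hab : a * b * a⁻¹ = -b := flip _ _ hba
    have haA : a ∈ Subgroup.closure {a, b} := Subgroup.subset_closure (by simp)
    have hbA : b ∈ Subgroup.closure {a, b} := Subgroup.subset_closure (by simp)
    have self : ∀ g : GL (Fin 4) F, g * g * g⁻¹ = g := fun g => mul_inv_cancel_right g g
    have dist : ∀ t x y : GL (Fin 4) F, t * (x * y) * t⁻¹ = (t * x * t⁻¹) * (t * y * t⁻¹) := fun t x y => by
      group
    rcases dich a ha u hu with ea | ea <;> rcases dich b hb u hu with eb | eb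
    · refine ⟨1, one_mem _, ?_⟩
      rintro t (rfl | rfl) <;> rw [one_mul] <;> assumption
    · refine ⟨a, haA, ?_⟩
      rintro t (rfl | rfl)
      · rw [dist, self, ea]
      · rw [dist, hba, eb, neg_mul, mul_neg, neg_neg]
    · refine ⟨b, hbA, ?_⟩
      rintro t (rfl | rfl)
      · rw [dist, hab, ea, neg_mul, mul_neg, neg_neg]
      · rw [dist, self, eb]
    · refine ⟨a * b, mul_mem haA hbA, ?_⟩
      rintro t (rfl | rfl)
      · rw [dist, dist, self, hab, ea]; simp
      · rw [dist, dist, self, hba, eb]; simp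
  have habR : Subgroup.closure {a, b} ≤ R := (Subgroup.closure_le _).mpr (by
    rintro _ (rfl | rfl)
    exacts [ha, hb])
  -- second pair
  obtain ⟨c₀, hc₀, d₀, hd₀, hca, hcb, hda, hdb, h1⟩ : ∃ c ∈ R, ∃ d ∈ R, a * c * a⁻¹ = c ∧ b * c * b⁻¹ = c ∧
      a * d * a⁻¹ = d ∧ b * d * b⁻¹ = d ∧ d * c * d⁻¹ = -c := by
    by_contra hno
    push Not at hno
    have hle : R ≤ Subgroup.closure {a, b} ⊔ (Subgroup.center R).map R.subtype := by
      intro u hu
      obtain ⟨w, hw, hwu⟩ := proj a ha b hb hba u hu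
      have hwR : w * u ∈ R := R.mul_mem (habR hw) hu
      have hcen : (⟨w * u, hwR⟩ : R) ∈ Subgroup.center R := by
        refine Subgroup.mem_center_iff.mpr fun v => Subtype.ext ?_
        obtain ⟨w', hw', hwv⟩ := proj a ha b hb hba v v.2
        have hcl : ∀ t ∈ Subgroup.closure {a, b}, t * (w * u) = (w * u) * t := by
          intro t ht
          have : Subgroup.closure {a, b} ≤ Subgroup.centralizer {w * u} := (Subgroup.closure_le _).mpr
            fun t ht => Subgroup.mem_centralizer_iff.mpr fun h hh => by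
              rw [Set.mem_singleton_iff.mp hh]
              exact (mul_inv_eq_iff_eq_mul.mp (hwu t ht)).symm
          exact (Subgroup.mem_centralizer_iff.mp (this ht) _ rfl).symm
        have hvR : w' * (v : GL (Fin 4) F) ∈ R := R.mul_mem (habR hw') v.2
        have hcm := (dich _ hvR _ hwR).resolve_right (hno _ hwR _ hvR (hwu a (by simp)) (hwu b (by simp))
          (hwv a (by simp)) (hwv b (by simp)))
        show (v : GL (Fin 4) F) * (w * u) = w * u * v
        have e1 := mul_inv_eq_iff_eq_mul.mp hcm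
        apply mul_left_cancel (a := w')
        rw [← mul_assoc, e1, ← mul_assoc w', hcl w' hw', mul_assoc (w * u)]
      have : u = w⁻¹ * (w * u) := by group
      rw [this]
      exact Subgroup.mul_mem_sup (Subgroup.inv_mem _ hw) ⟨⟨w * u, hwR⟩, hcen, rfl⟩
    -- too few elements
    let T : Finset (GL (Fin 4) F) := {1, a, b, a * b}
    have hcov : ∀ u ∈ R, ∃ t ∈ T, ∃ z ∈ (Subgroup.center R).map R.subtype, u = t * z := by
      let K : Subgroup (GL (Fin 4) F) := (Subgroup.center R).map R.subtype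
      have hK : ∀ z ∈ K, ∀ g ∈ R, g * z = z * g := by
        rintro _ ⟨z, hz, rfl⟩ g hg
        exact congrArg Subtype.val ((Subgroup.mem_center_iff.mp hz) ⟨g, hg⟩)
      have hnegK : (-1 : GL (Fin 4) F) ∈ K := ⟨⟨-1, S.neg⟩, Subgroup.mem_center_iff.mpr fun v =>
        Subtype.ext (by simp), rfl⟩
      have hKR : K ≤ R := by rintro _ ⟨z, -, rfl⟩; exact z.2
      have hb_a : b * a = a * b * -1 := by
        have := mul_inv_eq_iff_eq_mul.mp hba
        have e2 := mul_inv_eq_iff_eq_mul.mp hab
        rw [this, neg_mul, e2]; simp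
      let C : Set (GL (Fin 4) F) := {u | ∃ t ∈ T, ∃ z ∈ K, u = t * z}
      have hstep : ∀ s ∈ ({a, b} : Set (GL (Fin 4) F)), ∀ u ∈ C, s * u ∈ C := by
        rintro s hs _ ⟨t, ht, z, hz, rfl⟩
        have key : ∃ t' ∈ T, ∃ z' ∈ K, s * t = t' * z' := by
          simp only [T, Finset.mem_insert, Finset.mem_singleton] at ht
          rcases hs with hs | hs <;> rcases ht with ht | ht | ht | ht <;> rw [hs, ht]
          · exact ⟨a, by simp [T], 1, one_mem K, by simp⟩
          · exact ⟨1, by simp [T], 1, one_mem K, by simp [haa]⟩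
          · exact ⟨a * b, by simp [T], 1, one_mem K, by simp⟩
          · exact ⟨b, by simp [T], 1, one_mem K, by rw [← mul_assoc, haa]; simp⟩
          · exact ⟨b, by simp [T], 1, one_mem K, by simp⟩
          · exact ⟨a * b, by simp [T], -1, hnegK, hb_a⟩
          · exact ⟨1, by simp [T], 1, one_mem K, by simp [hbb]⟩
          · refine ⟨a, by simp [T], -1, hnegK, ?_⟩
            rw [← mul_assoc, hb_a, mul_assoc, mul_assoc, neg_one_mul, mul_neg, hbb]
        obtain ⟨t', ht', z', hz', e⟩ := key
        exact ⟨t', ht', z' * z, K.mul_mem hz' hz, by rw [← mul_assoc, e, mul_assoc]⟩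
      have h1C : ∀ z ∈ K, z ∈ C := fun z hz => ⟨1, by simp [T], z, hz, by simp⟩
      intro u hu
      have hmul : ∀ g ∈ Subgroup.closure {a, b}, ∀ x ∈ C, g * x ∈ C := by
        intro g hg
        induction hg using Subgroup.closure_induction'' with
        | mem s hs => exact fun x hx => hstep s hs x hx
        | inv_mem s hs =>
          intro x hx
          rw [inv_one s (by rcases hs with rfl | rfl; exacts [haa, hbb])]
          exact hstep s hs x hx
        | one => exact fun x hx => by rwa [one_mul]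
        | mul g g' _ _ ih ih' => exact fun x hx => by rw [mul_assoc]; exact ih _ (ih' x hx)
      have hnc : Subgroup.closure {a, b} ≤ Subgroup.normalizer (K : Set (GL (Fin 4) F)) := fun g hg => by
        rw [Subgroup.mem_set_normalizer_iff]
        intro z
        constructor
        · intro hz; rwa [hK z hz g (habR hg), mul_inv_cancel_right]
        · intro hz
          have e := hK _ hz g⁻¹ (R.inv_mem (habR hg))
          have : z = g⁻¹ * (g * z * g⁻¹) * g := by group
          rw [this, e]
          simpa using hz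
      obtain ⟨g, hg, z, hz, rfl⟩ : ∃ g ∈ Subgroup.closure {a, b}, ∃ z ∈ K, g * z = u := by
        have := hle hu
        rw [← SetLike.mem_coe, Subgroup.coe_mul_of_left_le_normalizer_right _ _ hnc] at this
        exact this
      exact hmul g hg z (h1C z hz)
    haveI : Finite ↥((Subgroup.center R).map R.subtype) := Finite.Set.subset (R : Set (GL (Fin 4) F))
      (fun x hx => by obtain ⟨z, -, rfl⟩ := hx; exact z.2)
    have hT : Nat.card R ≤ T.card * Nat.card ↥((Subgroup.center R).map R.subtype) := by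
      choose t ht z hz e using hcov
      rw [← Nat.card_eq_finsetCard, ← Nat.card_prod]
      refine Nat.card_le_card_of_injective (fun u : R => ((⟨t u u.2, ht u u.2⟩ : T),
        (⟨z u u.2, hz u u.2⟩ : (Subgroup.center R).map R.subtype))) fun u u' huu => Subtype.ext ?_
      simp only [Prod.mk.injEq, Subtype.mk.injEq] at huu
      rw [e u u.2, e u' u'.2, huu.1, huu.2]
    rw [Subgroup.card_map_of_injective R.subtype_injective, hZ, hR] at hT
    have : T.card ≤ 4 := Finset.card_le_four
    omega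
  obtain ⟨c, hc, hcc, hcu⟩ := adjust c₀ hc₀
  obtain ⟨d, hd, hdd, hdu⟩ := adjust d₀ hd₀
  have hdc : d * c * d⁻¹ = -c := (hcu d).2.mp (flip _ _ ((hdu c₀).2.mp (flip _ _ h1)))
  have hac : a * c = c * a := mul_inv_eq_iff_eq_mul.mp ((hcu a).1.mp hca)
  have hbc : b * c = c * b := mul_inv_eq_iff_eq_mul.mp ((hcu b).1.mp hcb)
  have had : a * d = d * a := mul_inv_eq_iff_eq_mul.mp ((hdu a).1.mp hda)
  have hbd : b * d = d * b := mul_inv_eq_iff_eq_mul.mp ((hdu b).1.mp hdb)
  -- the matrices
  set A := (a : Matrix (Fin 4) (Fin 4) F) with hA'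
  set B := (b : Matrix (Fin 4) (Fin 4) F) with hB'
  set C := (c : Matrix (Fin 4) (Fin 4) F) with hC'
  set D := (d : Matrix (Fin 4) (Fin 4) F) with hD'
  have vm : ∀ {g g' : GL (Fin 4) F}, g = g' → (g : Matrix (Fin 4) (Fin 4) F) = g' := fun e => congrArg Units.val e
  have mAA : A * A = 1 := by simpa using vm haa
  have mBB : B * B = 1 := by simpa using vm hbb
  have mCC : C * C = 1 := by simpa using vm hcc
  have mDD : D * D = 1 := by simpa using vm hdd
  have mBA : B * A = -(A * B) := by
    have h' := mul_inv_eq_iff_eq_mul.mp hba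
    simpa using vm h'
  have mDC : D * C = -(C * D) := by
    have h' := mul_inv_eq_iff_eq_mul.mp hdc
    simpa using vm h'
  have mAC : A * C = C * A := by simpa using vm hac
  have mBC : B * C = C * B := by simpa using vm hbc
  have mAD : A * D = D * A := by simpa using vm had
  have mBD : B * D = D * B := by simpa using vm hbd
  -- a common eigenvector
  obtain ⟨v, hv0, hvA, hvC⟩ : ∃ v : Fin 4 → F, v ≠ 0 ∧ A *ᵥ v = v ∧ C *ᵥ v = v := by
    by_contra hno
    push Not at hno
    have key : (1 + A) * (1 + C) = 0 := by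
      apply Matrix.toLin'.injective
      refine LinearMap.ext fun w => ?_
      rw [Matrix.toLin'_apply, map_zero, LinearMap.zero_apply]
      by_contra hw
      refine hno _ hw ?_ ?_
      · rw [mulVec_mulVec, ← mul_assoc, mul_add A 1 A, mul_one, mAA, add_comm A 1]
      · rw [mulVec_mulVec]
        congr 1
        rw [← mul_assoc, mul_add C, mul_one, ← mAC]
        simp only [add_mul, mul_add, mul_one, one_mul, mul_assoc, mCC]
        abel
    have e1 : (1 - A) * (1 + C) = 0 := by
      have h' : B * ((1 + A) * (1 + C)) * B = 0 := by rw [key]; simp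
      rw [← h']
      simp only [add_mul, mul_add, sub_mul, mul_one, one_mul, mul_assoc, ← mBC]
      simp only [← mul_assoc, mBA, neg_mul, mul_assoc A B, mBB, mBC, mul_assoc C B, mul_one]
      simp only [mul_assoc, mBB, mul_one]
      abel
    have e2 : (1 + A) * (1 - C) = 0 := by
      have h' : D * ((1 + A) * (1 + C)) * D = 0 := by rw [key]; simp
      rw [← h']
      simp only [add_mul, mul_add, mul_sub, mul_one, one_mul, mul_assoc]
      simp only [← mul_assoc, ← mAD, mDD, mul_assoc A D, mDC, neg_mul, mul_assoc C D, mul_one, mul_neg]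
      simp only [mul_assoc, mDD, mul_one]
      abel
    have e3 : (1 - A) * (1 - C) = 0 := by
      have h' : B * ((1 + A) * (1 - C)) * B = 0 := by rw [e2]; simp
      rw [← h']
      simp only [add_mul, mul_add, sub_mul, mul_sub, mul_one, one_mul, mul_assoc, ← mBC]
      simp only [← mul_assoc, mBA, neg_mul, mul_assoc A B, mBB, mBC, mul_assoc C B, mul_one]
      simp only [mul_assoc, mBB, mul_one]
      abel
    have : (4 : F) • (1 : Matrix (Fin 4) (Fin 4) F) = 0 := by
      have h' : (1 + A) * (1 + C) + (1 - A) * (1 + C) + ((1 + A) * (1 - C) + (1 - A) * (1 - C)) = 0 := by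
        rw [key, e1, e2, e3]; simp
      rw [← h']
      simp only [add_mul, mul_add, sub_mul, mul_sub, mul_one, one_mul]
      module
    rcases smul_eq_zero.mp this with h | h
    · exact h2 (mul_self_eq_zero.mp (by linear_combination h))
    · exact one_ne_zero h
  let col : Fin 4 → Fin 4 → F := ![v, D *ᵥ v, B *ᵥ v, B *ᵥ (D *ᵥ v)]
  let M : Matrix (Fin 4) (Fin 4) F := Matrix.of fun i j => col j i
  have mcol : ∀ (X : Matrix (Fin 4) (Fin 4) F) (G : Matrix (Fin 4) (Fin 4) F),
      (∀ j, X *ᵥ col j = M *ᵥ (G *ᵥ Pi.single j 1)) → X * M = M * G := fun X G h => by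
    refine Matrix.ext_of_mulVec_single fun j => ?_
    rw [← mulVec_mulVec, ← mulVec_mulVec, ← h j]
    congr 1
    ext i
    simp [M, mulVec_single]
  have Mval : ∀ x : Fin 4 → F, M *ᵥ x = x 0 • v + x 1 • (D *ᵥ v) + x 2 • (B *ᵥ v) + x 3 • (B *ᵥ (D *ᵥ v)) :=
    fun x => by
      ext i
      simp [M, col, diag_apply_col]
      ring
  have dA : A *ᵥ (D *ᵥ v) = D *ᵥ v := by rw [mulVec_mulVec, mAD, ← mulVec_mulVec, hvA]
  have dC : C *ᵥ (D *ᵥ v) = -(D *ᵥ v) := by
    rw [mulVec_mulVec, show C * D = -(D * C) by rw [mDC, neg_neg], neg_mulVec, ← mulVec_mulVec, hvC]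
  have bA : ∀ w, A *ᵥ (B *ᵥ w) = -(B *ᵥ (A *ᵥ w)) := fun w => by
    rw [mulVec_mulVec, show A * B = -(B * A) by rw [mBA, neg_neg], neg_mulVec, mulVec_mulVec]
  have bC : ∀ w, C *ᵥ (B *ᵥ w) = B *ᵥ (C *ᵥ w) := fun w => by rw [mulVec_mulVec, ← mBC, mulVec_mulVec]
  have bD : ∀ w, D *ᵥ (B *ᵥ w) = B *ᵥ (D *ᵥ w) := fun w => by rw [mulVec_mulVec, ← mBD, mulVec_mulVec]
  have bb : ∀ w, B *ᵥ (B *ᵥ w) = w := fun w => by rw [mulVec_mulVec, mBB, one_mulVec]
  have dd : ∀ w, D *ᵥ (D *ᵥ w) = w := fun w => by rw [mulVec_mulVec, mDD, one_mulVec]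
  have eA : A * M = M * ((pA : GL (Fin 4) F) : Matrix (Fin 4) (Fin 4) F) := mcol _ _ fun j => by
    rw [Mval]
    fin_cases j <;> simp [-mulVec_mulVec, col, pA, dg_val, hvA, dA, bA]
  have eB : B * M = M * ((pB : GL (Fin 4) F) : Matrix (Fin 4) (Fin 4) F) := mcol _ _ fun j => by
    rw [Mval]
    fin_cases j <;> simp [-mulVec_mulVec, col, pB, bb, mulVec_single]
  have eC : C * M = M * ((pC : GL (Fin 4) F) : Matrix (Fin 4) (Fin 4) F) := mcol _ _ fun j => by
    rw [Mval]
    fin_cases j <;> simp [-mulVec_mulVec, col, pC, dg_val, hvC, dC, bC, mulVec_neg]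
  have eD : D * M = M * ((pD : GL (Fin 4) F) : Matrix (Fin 4) (Fin 4) F) := mcol _ _ fun j => by
    rw [Mval]
    fin_cases j <;> simp [-mulVec_mulVec, col, pD, dd, bD, mulVec_single]
  have hM : IsUnit M := by
    rw [← Matrix.mulVec_injective_iff_isUnit]
    intro x y hxy
    rw [← sub_eq_zero]
    set k := x - y
    have hk : M *ᵥ k = 0 := by rw [mulVec_sub, sub_eq_zero]; exact hxy
    have push : ∀ (X : Matrix (Fin 4) (Fin 4) F) G, X * M = M * G → ∀ k, M *ᵥ k = 0 → M *ᵥ (G *ᵥ k) = 0 :=
      fun X G e k hk => by rw [mulVec_mulVec, ← e, ← mulVec_mulVec, hk, mulVec_zero]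
    have h4 : ∀ k, M *ᵥ k = 0 → k 0 = 0 := by
      intro k hk
      have k1 := push _ _ eA k hk
      have k2 := push _ _ eC k hk
      have k3 := push _ _ eA _ (push _ _ eC k hk)
      have hs : M *ᵥ k + M *ᵥ (((pA : GL (Fin 4) F) : Matrix (Fin 4) (Fin 4) F) *ᵥ k) +
          M *ᵥ (((pC : GL (Fin 4) F) : Matrix (Fin 4) (Fin 4) F) *ᵥ k) +
          M *ᵥ (((pA : GL (Fin 4) F) : Matrix (Fin 4) (Fin 4) F) *ᵥ
            (((pC : GL (Fin 4) F) : Matrix (Fin 4) (Fin 4) F) *ᵥ k)) = 0 := by
        rw [hk, k1, k2, k3]; simp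
      rw [← mulVec_add, ← mulVec_add, ← mulVec_add, Mval] at hs
      simp [pA, pC, dg_val, mulVec_diagonal] at hs
      rcases hs with h | h
      · exact (mul_eq_zero.mp (show (4 : F) * k 0 = 0 by linear_combination h)).resolve_left
          fun e => h2 (mul_self_eq_zero.mp (by linear_combination e))
      · exact absurd h hv0
    have a0 := h4 k hk
    have a1 := h4 _ (push _ _ eD k hk)
    have a2 := h4 _ (push _ _ eB k hk)
    have a3 := h4 _ (push _ _ eB _ (push _ _ eD k hk))
    simp [pD, pB, mulVec, dotProduct, Fin.sum_univ_four] at a1 a2 a3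
    ext i
    fin_cases i <;> assumption
  set P : GL (Fin 4) F := hM.unit with hP
  have conjP : ∀ (g G : GL (Fin 4) F), (g : Matrix (Fin 4) (Fin 4) F) * M = M * G → P * G * P⁻¹ = g :=
    fun g G e => by
      rw [mul_inv_eq_iff_eq_mul]
      exact Units.ext (by rw [Units.val_mul, Units.val_mul, hP, IsUnit.unit_spec, e])
  refine ⟨I, P, hI, ?_⟩
  have hle : (std I).map (MulAut.conj P).toMonoidHom ≤ R := by
    rw [std, MonoidHom.map_closure, Subgroup.closure_le]
    rintro _ ⟨g, hg, rfl⟩
    simp only [MulEquiv.coe_toMonoidHom, MulAut.conj_apply, SetLike.mem_coe]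
    rcases hg with rfl | rfl | rfl | rfl | rfl
    · rw [← sc_comm, mul_inv_cancel_right]; exact hIR
    · rw [conjP a _ eA]; exact ha
    · rw [conjP b _ eB]; exact hb
    · rw [conjP c _ eC]; exact hc
    · rw [conjP d _ eD]; exact hd
  refine le_antisymm (fun u hu => ?_) hle
  set K := (std I).map (MulAut.conj P).toMonoidHom with hK
  have hmem : ∀ (g G : GL (Fin 4) F), G ∈ std I → (g : Matrix (Fin 4) (Fin 4) F) * M = M * G → g ∈ K :=
    fun g G hG e => ⟨G, hG, conjP g G e⟩
  have aK := hmem a _ (pA_mem I) eA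
  have bK := hmem b _ (pB_mem I) eB
  have cK := hmem c _ (pC_mem I) eC
  have dK := hmem d _ (pD_mem I) eD
  obtain ⟨w, hw, hwu⟩ := proj a ha b hb hba u hu
  have hcdR : Subgroup.closure {c, d} ≤ R := (Subgroup.closure_le _).mpr (by
    rintro _ (rfl | rfl)
    exacts [hc, hd])
  obtain ⟨w', hw', hwu'⟩ := proj c hc d hd hdc (w * u) (R.mul_mem (habR hw) hu)
  set m := w' * (w * u) with hm
  have hmR : m ∈ R := R.mul_mem (hcdR hw') (R.mul_mem (habR hw) hu)
  have hmc : ∀ t ∈ ({a, b, c, d} : Set (GL (Fin 4) F)), t * m = m * t := by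
    have hcm : ∀ t ∈ ({a, b} : Set (GL (Fin 4) F)), t * w' = w' * t := by
      intro t ht
      have : Subgroup.closure {c, d} ≤ Subgroup.centralizer {t} := (Subgroup.closure_le _).mpr (by
        rintro s hs
        refine Subgroup.mem_centralizer_iff.mpr fun h hh => ?_
        rw [Set.mem_singleton_iff.mp hh]
        rcases ht with rfl | rfl <;> rcases hs with rfl | rfl <;> assumption)
      exact Subgroup.mem_centralizer_iff.mp (this hw') t rfl
    have hab' : ∀ t ∈ ({a, b} : Set (GL (Fin 4) F)), t * m = m * t := fun t ht => by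
      rw [hm, ← mul_assoc, hcm t ht, mul_assoc, mul_inv_eq_iff_eq_mul.mp (hwu t ht), ← mul_assoc]
    rintro t (rfl | rfl | rfl | rfl)
    · exact hab' _ (by simp)
    · exact hab' _ (by simp)
    · exact mul_inv_eq_iff_eq_mul.mp (hwu' _ (by simp))
    · exact mul_inv_eq_iff_eq_mul.mp (hwu' _ (by simp))
  -- the model has scalar centraliser
  set Y := ((P⁻¹ * m * P : GL (Fin 4) F) : Matrix (Fin 4) (Fin 4) F) with hY
  have hYc : ∀ (g G : GL (Fin 4) F), g ∈ ({a, b, c, d} : Set (GL (Fin 4) F)) →
      (g : Matrix (Fin 4) (Fin 4) F) * M = M * G →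
      (G : Matrix (Fin 4) (Fin 4) F) * Y = Y * (G : Matrix (Fin 4) (Fin 4) F) := by
    intro g G hg e
    rw [hY, ← Units.val_mul, ← Units.val_mul]
    congr 1
    have := conjP g G e
    calc G * (P⁻¹ * m * P) = P⁻¹ * ((P * G * P⁻¹) * m) * P := by group
      _ = P⁻¹ * (m * (P * G * P⁻¹)) * P := by rw [this, hmc g hg]
      _ = _ := by group
  have hYs : Y = Y 0 0 • (1 : Matrix (Fin 4) (Fin 4) F) := by
    have kA := hYc a _ (by simp) eA
    have kB := hYc b _ (by simp) eB
    have kC := hYc c _ (by simp) eC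
    have kD := hYc d _ (by simp) eD
    have off : ∀ (i j : Fin 4), i ≠ j → Y i j = 0 := by
      intro i j hij
      have e1 := congrFun (congrFun kA i) j
      have e2 := congrFun (congrFun kC i) j
      simp [pA, pC, dg_val, diagonal_mul, mul_diagonal] at e1 e2
      by_contra hne
      have : (2 : F) * Y i j = 0 := by
        fin_cases i <;> fin_cases j <;> simp [-mul_eq_zero] at hij e1 e2 ⊢ <;>
          first | linear_combination e1 | linear_combination -e1 | linear_combination e2 |
            linear_combination -e2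
      exact hne ((mul_eq_zero.mp this).resolve_left h2)
    have dd1 : Y 1 1 = Y 0 0 := by
      simpa [pD, mul_apply, Fin.sum_univ_four, off 0 2 (by decide), off 0 3 (by decide)] using
        congrFun (congrFun kD 0) 1
    have dd2 : Y 2 2 = Y 0 0 := by
      simpa [pB, mul_apply, Fin.sum_univ_four] using congrFun (congrFun kB 0) 2
    have dd3 : Y 3 3 = Y 1 1 := by
      simpa [pB, mul_apply, Fin.sum_univ_four] using congrFun (congrFun kB 1) 3
    ext i j
    by_cases hij : i = j
    · subst hij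
      fin_cases i <;> simp [dd1, dd2, dd3]
    · simp [off i j hij, one_apply_ne hij]
  have hmm : (m : Matrix (Fin 4) (Fin 4) F) = Y 0 0 • (1 : Matrix (Fin 4) (Fin 4) F) := by
    have e : m = P * (P⁻¹ * m * P) * P⁻¹ := by group
    rw [e, Units.val_mul, Units.val_mul, ← hY]
    conv_lhs => rw [hYs]
    rw [mul_smul_comm, mul_one, smul_mul_assoc, Units.mul_inv]
  have hmK : m ∈ K := by
    set z := Y 0 0
    have hnK : (-1 : GL (Fin 4) F) ∈ K := ⟨-1, neg_one_mem hI, by simp⟩
    have hIK : sc I ∈ K := ⟨sc I, sI_mem I, by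
      simp only [MulEquiv.coe_toMonoidHom, MulAut.conj_apply]; rw [← sc_comm, mul_inv_cancel_right]⟩
    rcases S.sq m hmR with e | e <;>
      (have e' := congrArg (fun g : GL (Fin 4) F => (g : Matrix (Fin 4) (Fin 4) F) 0 0) e;
       simp [hmm] at e')
    · rcases mul_self_eq_one_iff.mp e' with h | h
      · rw [show m = 1 from Units.ext (by simp [hmm, h])]; exact one_mem _
      · rw [show m = -1 from Units.ext (by simp [hmm, h])]; exact hnK
    · rcases mul_self_eq_mul_self_iff.mp (e'.trans hI.symm) with h | h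
      · rw [show m = sc I from Units.ext (by rw [hmm, sc_val, h])]; exact hIK
      · rw [show m = -1 * sc I from Units.ext (by simp [hmm, sc_val, h])]
        exact K.mul_mem hnK hIK
  have : u = w⁻¹ * (w'⁻¹ * m) := by rw [hm]; group
  rw [this]
  refine K.mul_mem (K.inv_mem ((Subgroup.closure_le _).mpr ?_ hw)) (K.mul_mem (K.inv_mem
    ((Subgroup.closure_le _).mpr ?_ hw')) hmK)
  · rintro _ (rfl | rfl)
    exacts [aK, bK]
  · rintro _ (rfl | rfl)
    exacts [cK, dK]

/-! ### Characteristic polynomials and conjugacy -/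

/-- A matrix annihilated by a product of two monic irreducible polynomials has as characteristic
polynomial a product of their powers. -/
theorem charpoly_shape {n : ℕ} {A : Matrix (Fin n) (Fin n) F} {f g : F[X]} (hf : Irreducible f)
    (hfm : f.Monic) (hg : Irreducible g) (hgm : g.Monic) (h : aeval A (f * g) = 0) :
    ∃ a b : ℕ, A.charpoly = f ^ a * g ^ b ∧ a * f.natDegree + b * g.natDegree = n := by
  classical
  suffices h' : ∃ a b : ℕ, A.charpoly = f ^ a * g ^ b by
    obtain ⟨a, b, e⟩ := h'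
    refine ⟨a, b, e, ?_⟩
    have := congrArg natDegree e
    rw [charpoly_natDegree_eq_dim, Fintype.card_fin, Monic.natDegree_mul (hfm.pow _) (hgm.pow _),
      hfm.natDegree_pow, hgm.natDegree_pow] at this
    exact this.symm
  set b := Matrix.toLin' A
  have hall : ∀ π : F[X], Irreducible π → π.Monic → π ∣ A.charpoly → π = f ∨ π = g := by
    intro π hπ hπm hd
    obtain ⟨x, hx0, hx⟩ := SemisimpleConjGL.exists_ker_of_dvd_charpoly b hπ
      (by rwa [Matrix.charpoly_toLin'])
    by_contra hne
    rw [not_or] at hne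
    have co : ∀ k : F[X], Irreducible k → k.Monic → π ≠ k → IsCoprime π k := fun k hk hkm hne =>
      (dvd_or_isCoprime π k hπ).resolve_left fun hd =>
        hne (eq_of_monic_of_associated hπm hkm (hπ.associated_of_dvd hk hd))
    obtain ⟨u, v, huv⟩ := (co f hf hfm hne.1).mul_right (co g hg hgm hne.2)
    have hfg : aeval b (f * g) = 0 := by
      rw [show b = Matrix.toLinAlgEquiv' A from rfl, aeval_algHom_apply, h, map_zero]
    have := congrArg (fun q => aeval b q x) huv
    try simp only at this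
    rw [map_add, map_one, map_mul _ u π, map_mul _ v (f * g), hfg, mul_zero, add_zero,
      Module.End.mul_apply, hx, map_zero, Module.End.one_apply] at this
    exact hx0 this.symm
  have key : ∀ (n : ℕ) (q : F[X]), q.natDegree = n → q.Monic →
      (∀ π : F[X], Irreducible π → π.Monic → π ∣ q → π = f ∨ π = g) → ∃ a b : ℕ, q = f ^ a * g ^ b := by
    intro n
    induction n using Nat.strong_induction_on with
    | _ n ih =>
      intro q hqn hqm hq
      by_cases h1 : q = 1
      · exact ⟨0, 0, by rw [h1]; simp⟩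
      obtain ⟨π, hπm, hπ, hd⟩ := Polynomial.exists_monic_irreducible_factor q
        (fun hu => h1 (hqm.eq_one_of_isUnit hu))
      obtain ⟨c, hc⟩ := hd
      have hcm : c.Monic := hπm.of_mul_monic_left (hc ▸ hqm)
      have hlt : c.natDegree < n := by
        rw [← hqn, hc, Monic.natDegree_mul hπm hcm]
        have := hπ.natDegree_pos
        omega
      obtain ⟨a, b, e⟩ := ih _ hlt c rfl hcm fun π' h' hm' hd' => hq π' h' hm' (hc ▸ dvd_mul_of_dvd_right hd' π)
      rcases hq π hπ hπm ⟨c, hc⟩ with rfl | rfl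
      · exact ⟨a + 1, b, by rw [hc, e, pow_succ]; ring⟩
      · exact ⟨a, b + 1, by rw [hc, e, pow_succ]; ring⟩
  exact key _ _ rfl (Matrix.charpoly_monic A) hall

/-- Semisimple elements with the same characteristic polynomial are conjugate by a matrix of
determinant one. -/
theorem conj_SL [Finite F] {x y : GL (Fin 4) F}
    (hx : Module.End.IsSemisimple (Matrix.toLin' (x : Matrix (Fin 4) (Fin 4) F)))
    (hy : Module.End.IsSemisimple (Matrix.toLin' (y : Matrix (Fin 4) (Fin 4) F)))
    (h : (x : Matrix (Fin 4) (Fin 4) F).charpoly = (y : Matrix (Fin 4) (Fin 4) F).charpoly) :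
    ∃ g ∈ Cfsg.Geo.specialLinear (Fin 4) F, g⁻¹ * x * g = y := by
  obtain ⟨P, hP⟩ := SemisimpleConjGL.exists_gl_conj hy hx h.symm
  obtain ⟨T, hT, hTd⟩ := SemisimpleConjGL.exists_gl_commute_det hy
    (r := ((GeneralLinearGroup.det P)⁻¹ : Fˣ)) (Units.ne_zero _)
  have hP' : P * y = x * P := Units.ext hP
  have hT' : T * y = y * T := Units.ext hT
  have hd : GeneralLinearGroup.det T = (GeneralLinearGroup.det P)⁻¹ := Units.ext hTd
  refine ⟨P * T, ?_, ?_⟩
  · show GeneralLinearGroup.det (P * T) = 1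
    rw [map_mul, hd, mul_inv_cancel]
  · rw [mul_assoc, inv_mul_eq_iff_eq_mul, ← mul_assoc, ← hP', mul_assoc, ← hT', ← mul_assoc]

theorem scale_semisimple {A : Matrix (Fin 4) (Fin 4) F} (ζ : Fˣ) {m : ℕ} (hm : (m : F) ≠ 0)
    (h : A ^ m = 1) :
    Module.End.IsSemisimple (Matrix.toLin' ((ζ : F) • A)) := by
  rw [map_smul]
  exact Module.End.isSemisimple_of_squarefree_aeval_eq_zero (p := X ^ m - C ((ζ : F) ^ m))
    ((separable_X_pow_sub_C _ hm (pow_ne_zero _ ζ.ne_zero)).squarefree) (by
      rw [map_sub, map_pow, aeval_X, aeval_C, _root_.smul_pow, ← Matrix.toLin'_pow, h, Matrix.toLin'_one,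
        Algebra.algebraMap_eq_smul_one]
      exact sub_self _)

end Cfsg.Agent.PauliFour
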