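import Cfsg.Agent.Lib.C6Klein75
import Cfsg.Agent.Lib.PauliFour
import Cfsg.Agent.Lib.Frame10Six75Main
import Cfsg.Agent.Lib.Frame10Glue

/-!
Maximality of the normaliser of the model group of order 64, given a real structure on the Klein space.
-/

set_option autoImplicit false
set_option linter.unusedSectionVars false
set_option linter.unusedSimpArgs false
set_option maxHeartbeats 1000000

namespace Cfsg.Agent.C6Core75

open QuadraticMap
open Cfsg.Agent.OrthUnitaryKlein Cfsg.Agent.OrthUnitaryQuad Cfsg.Agent.OrthUnitaryRefl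
open Cfsg.Agent.OrthUnitarySix (swap6)
open Cfsg.Agent.C6Klein75 Cfsg.Agent.PauliFour Cfsg.Agent.Frame10
open Cfsg.Agent.Frame10Six75 (IsPair ext_ax)
open scoped Matrix MatrixGroups

variable {F : Type*} [Field F] {K : Type*} [Field K] {e : K →+* F} {I : Fˣ}

/-- The hypotheses on the ambient group. -/
structure Hyp (e : K →+* F) (I : Fˣ) (G : Subgroup (GL (Fin 4) F)) : Prop where
  hI : (I : F) * I = -1
  h2K : (2 : K) ≠ 0
  det : G ≤ Cfsg.Geo.specialLinear (Fin 4) F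
  real : ∀ g ∈ G, ∀ x : Fin 6 → K, ∃ y, act (g : Matrix (Fin 4) (Fin 4) F) (vec e I x) = vec e I y
  lift : ∀ (c : K) (x y : Fin 6 → K), c * c * ((x ⬝ᵥ x) * (y ⬝ᵥ y)) = 1 → ∀ g : GL (Fin 4) F,
    (g : Matrix (Fin 4) (Fin 4) F) = e c • (toAlt (vec e I x) * toAlt (swap6 (vec e I y))) → g ∈ G
  std : std I ≤ G
  perfect : commutator G = ⊤

theorem decomp (h2 : (2 : F) ≠ 0) (hI : (I : F) * I = -1) (v : Fin 3 ⊕ Fin 3 → F) :
    v = ((v (.inl 0) + v (.inr 0)) / 2) • vec e I (ax 0) + ((v (.inl 0) - v (.inr 0)) / (2 * I)) • vec e I (ax 1) +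
      ((v (.inl 1) + v (.inr 1)) / 2) • vec e I (ax 2) + ((v (.inl 1) - v (.inr 1)) / (2 * I)) • vec e I (ax 3) +
      ((v (.inl 2) + v (.inr 2)) / 2) • vec e I (ax 4) + ((v (.inl 2) - v (.inr 2)) / (2 * I)) • vec e I (ax 5) := by
  have hI0 : (I : F) ≠ 0 := I.ne_zero
  funext i
  rcases i with i | i <;> fin_cases i <;> simp [vec, ax, Pi.single_apply] <;> field_simp <;> ring

/-- Sign change of a pair in coordinates. -/
def sgn (a b : Fin 6) (x : Fin 6 → K) : Fin 6 → K := fun i => if i = a ∨ i = b then -x i else x i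

theorem act_edges (hI : (I : F) * I = -1) (x : Fin 6 → K) :
    act ((sc I * pA : GL (Fin 4) F) : Matrix (Fin 4) (Fin 4) F) (vec e I x) = vec e I (sgn 0 1 x) ∧
    act ((sc I * pC : GL (Fin 4) F) : Matrix (Fin 4) (Fin 4) F) (vec e I x) = vec e I (sgn 2 3 x) ∧
    act ((sc I * pB : GL (Fin 4) F) : Matrix (Fin 4) (Fin 4) F) (vec e I x) = vec e I (sgn 0 5 x) ∧
    act ((sc I * pD : GL (Fin 4) F) : Matrix (Fin 4) (Fin 4) F) (vec e I x) = vec e I (sgn 3 4 x) ∧
    act ((sc I * (pA * pC) : GL (Fin 4) F) : Matrix (Fin 4) (Fin 4) F) (vec e I x) = vec e I (sgn 4 5 x) ∧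
    act ((sc I : GL (Fin 4) F) : Matrix (Fin 4) (Fin 4) F) (vec e I x) = vec e I (-x) := by
  have hsm : ∀ (z : Fˣ) (P : GL (Fin 4) F) (v : Fin 3 ⊕ Fin 3 → F),
      act ((sc z * P : GL (Fin 4) F) : Matrix (Fin 4) (Fin 4) F) v =
        ((z : F) * z) • act (P : Matrix (Fin 4) (Fin 4) F) v := by
    intro z P v
    rw [Units.val_mul, sc_val, Matrix.smul_mul, one_mul, act_apply, act_apply, Matrix.transpose_smul,
      Matrix.smul_mul, Matrix.mul_smul, Matrix.smul_mul, smul_smul, map_smul]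
  have hsc : act ((sc I : GL (Fin 4) F) : Matrix (Fin 4) (Fin 4) F) (vec e I x) =
      ((I : F) * I) • act ((1 : GL (Fin 4) F) : Matrix (Fin 4) (Fin 4) F) (vec e I x) := by
    rw [← hsm, mul_one]
  rw [hsc, hsm, hsm, hsm, hsm, hsm, hI]
  refine ⟨?_, ?_, ?_, ?_, ?_, ?_⟩ <;> funext i <;> rcases i with i | i <;> fin_cases i <;>
    simp [act_apply, sgn, vec, pA, pB, pC, pD, dg, ofAlt, toAlt, Matrix.mul_apply, Fin.sum_univ_four,
      Matrix.transpose_apply, Matrix.diagonal, Matrix.vecMul, dotProduct] <;> ring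

theorem pair_trans {p q : orth (sq K (Fin 6))} {a b c : Fin 6} (hp : IsPair p a b) (hq : IsPair q b c)
    (hab : a ≠ b) (hac : a ≠ c) (hbc : b ≠ c) : IsPair (p * q) a c := fun i => by
  rw [orth_mul_apply, hq, map_smul, hp, smul_smul]
  congr 1
  rcases eq_or_ne i a with rfl | hia
  · simp [hab, hac]
  rcases eq_or_ne i b with rfl | hib
  · simp [hbc, hab.symm]
  rcases eq_or_ne i c with rfl | hic
  · simp [hac.symm, hbc.symm]
  simp [hia, hib, hic]

/-- The diagonal isometries. -/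
def diagG : Subgroup (orth (sq K (Fin 6))) where
  carrier := {h | ∀ i, ∃ c : K, h.1 (ax i) = c • ax i}
  one_mem' i := ⟨1, by rw [one_smul]; rfl⟩
  mul_mem' {g h} hg hh i := by
    obtain ⟨c, hc⟩ := hh i
    obtain ⟨d, hd⟩ := hg i
    exact ⟨c * d, by rw [orth_mul_apply, hc, map_smul, hd, smul_smul]⟩
  inv_mem' {g} hg i := by
    obtain ⟨c, hc⟩ := hg i
    have h : g⁻¹.1 (g.1 (ax i)) = ax i := by rw [← orth_mul_apply, inv_mul_cancel]; rfl
    rw [hc, map_smul] at h
    refine ⟨c⁻¹, ?_⟩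
    have hc0 : c ≠ 0 := fun e0 => by
      rw [e0, zero_smul] at h
      exact absurd (congrFun h i) (by rw [Pi.zero_apply, ax_self]; exact zero_ne_one)
    rw [← h, smul_smul, inv_mul_cancel₀ hc0, one_smul]
    rw [h]

variable {G : Subgroup (GL (Fin 4) F)} (H : Hyp e I G)
include H

theorem Hyp.h2 : (2 : F) ≠ 0 := by
  rw [← map_ofNat e 2]
  exact (map_ne_zero e).2 H.h2K

theorem Hyp.det_one (g : G) : ((g : GL (Fin 4) F) : Matrix (Fin 4) (Fin 4) F).det = 1 := by
  rw [← Matrix.GeneralLinearGroup.val_det_apply,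
    show Matrix.GeneralLinearGroup.det (g : GL (Fin 4) F) = 1 from H.det g.2, Units.val_one]

theorem Hyp.vecInj {x y : Fin 6 → K} (h : vec e I x = vec e I y) : x = y := vec_inj e H.h2 H.hI h

/-- The induced map on six coordinates. -/
noncomputable def Hyp.fn (g : G) (x : Fin 6 → K) : Fin 6 → K := (H.real g g.2 x).choose

theorem Hyp.fn_spec (g : G) (x : Fin 6 → K) :
    vec e I (H.fn g x) = act ((g : GL (Fin 4) F) : Matrix (Fin 4) (Fin 4) F) (vec e I x) :=
  (H.real g g.2 x).choose_spec.symm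

theorem Hyp.fn_mul (g h : G) (x : Fin 6 → K) : H.fn (g * h) x = H.fn g (H.fn h x) :=
  H.vecInj (by rw [H.fn_spec, H.fn_spec, H.fn_spec, Subgroup.coe_mul, Units.val_mul, act_mul])

theorem Hyp.fn_one (x : Fin 6 → K) : H.fn 1 x = x :=
  H.vecInj (by rw [H.fn_spec, Subgroup.coe_one, Units.val_one, act_one])

/-- The induced linear map. -/
noncomputable def Hyp.lin (g : G) : (Fin 6 → K) ≃ₗ[K] (Fin 6 → K) where
  toFun := H.fn g
  map_add' x y := H.vecInj (by rw [H.fn_spec, vec_add, vec_add, map_add, H.fn_spec, H.fn_spec])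
  map_smul' k x := H.vecInj (by rw [H.fn_spec, RingHom.id_apply, vec_smul, vec_smul, map_smul, H.fn_spec])
  invFun := H.fn g⁻¹
  left_inv x := by rw [← H.fn_mul, inv_mul_cancel, H.fn_one]
  right_inv x := by rw [← H.fn_mul, mul_inv_cancel, H.fn_one]

theorem Hyp.lin_mem (g : G) : H.lin g ∈ orth (sq K (Fin 6)) := fun x => by
  show sq K (Fin 6) (H.fn g x) = _
  rw [Frame10.sq_apply, Frame10.sq_apply]
  apply e.injective
  rw [← vec_quad e H.hI, ← vec_quad e H.hI, H.fn_spec, det_mul_pfaffian, H.det_one, one_mul]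

/-- The representation by isometries of six squares. -/
noncomputable def Hyp.rho : G →* orth (sq K (Fin 6)) where
  toFun g := ⟨H.lin g, H.lin_mem g⟩
  map_one' := Subtype.ext (LinearEquiv.ext H.fn_one)
  map_mul' g h := Subtype.ext (LinearEquiv.ext fun x => H.fn_mul g h x)

theorem Hyp.rho_spec (g : G) (x : Fin 6 → K) :
    vec e I ((H.rho g).1 x) = act ((g : GL (Fin 4) F) : Matrix (Fin 4) (Fin 4) F) (vec e I x) := H.fn_spec g x

theorem Hyp.rho_eq (g : G) {x y : Fin 6 → K}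
    (h : act ((g : GL (Fin 4) F) : Matrix (Fin 4) (Fin 4) F) (vec e I x) = vec e I y) : (H.rho g).1 x = y :=
  H.vecInj (by rw [H.rho_spec, h])

/-! ### Kernel -/

theorem Hyp.ker (g : G) (hg : H.rho g = 1) : (g : GL (Fin 4) F) ∈ PauliFour.std I := by
  set A := ((g : GL (Fin 4) F) : Matrix (Fin 4) (Fin 4) F) with hA
  have hfix : ∀ x, act A (vec e I x) = vec e I x := fun x => by
    rw [hA, ← H.rho_spec, hg]; rfl
  let s : SL(4, F) := ⟨A, H.det_one g⟩
  have hs : s ∈ (kleinHom (F := F)).ker := MonoidHom.mem_ker.2 (Subtype.ext (LinearEquiv.ext fun v => by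
    show act A v = v
    rw [decomp (e := e) H.h2 H.hI v]
    simp only [map_add, map_smul, hfix]))
  rcases eq_one_or_neg_one_of_minors (by norm_num) A (minors_of_ker s hs) with h | h
  · rw [show (g : GL (Fin 4) F) = 1 from Units.ext h]; exact one_mem _
  · rw [show (g : GL (Fin 4) F) = -1 from Units.ext (by rw [Units.val_neg, Units.val_one]; exact h)]
    exact neg_one_mem H.hI

theorem Hyp.mem_of_rho_eq (g h : G) (hh : (h : GL (Fin 4) F) ∈ PauliFour.std I) (he : H.rho g = H.rho h) :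
    (g : GL (Fin 4) F) ∈ PauliFour.std I := by
  have := H.ker (g * h⁻¹) (by rw [map_mul, map_inv, he, mul_inv_cancel])
  have := Subgroup.mul_mem _ this hh
  rwa [← Subgroup.coe_mul, inv_mul_cancel_right] at this

/-! ### Sign changes -/

theorem Hyp.pair_of_act (g : G) {a b : Fin 6}
    (h : ∀ x, act ((g : GL (Fin 4) F) : Matrix (Fin 4) (Fin 4) F) (vec e I x) = vec e I (sgn a b x)) :
    IsPair (H.rho g) a b := fun i => H.rho_eq g (by
  rw [h]
  congr 1
  funext j
  rcases eq_or_ne j i with rfl | hji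
  · simp [sgn, ax_self]
  · simp [sgn, ax_ne hji])

/-- A pair sign change comes from the model group. -/
def Hyp.Q (a b : Fin 6) : Prop := ∃ u : G, (u : GL (Fin 4) F) ∈ PauliFour.std I ∧ IsPair (H.rho u) a b

theorem Hyp.edge {z : GL (Fin 4) F} (hz : z ∈ PauliFour.std I) {a b : Fin 6}
    (h : ∀ x, act ((sc I * z : GL (Fin 4) F) : Matrix (Fin 4) (Fin 4) F) (vec e I x) = vec e I (sgn a b x)) :
    H.Q a b :=
  ⟨⟨sc I * z, H.std (mul_mem (sI_mem I) hz)⟩, mul_mem (sI_mem I) hz, H.pair_of_act _ h⟩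

theorem Hyp.Q_trans {a b c : Fin 6} (hp : H.Q a b) (hq : H.Q b c) (hab : a ≠ b) (hac : a ≠ c) (hbc : b ≠ c) :
    H.Q a c := by
  obtain ⟨u, hu, hpu⟩ := hp
  obtain ⟨v, hv, hpv⟩ := hq
  exact ⟨u * v, mul_mem hu hv, by rw [map_mul]; exact pair_trans hpu hpv hab hac hbc⟩

theorem Hyp.Q_symm {a b : Fin 6} (hp : H.Q a b) : H.Q b a := by
  obtain ⟨u, hu, hpu⟩ := hp
  exact ⟨u, hu, fun i => by rw [hpu i]; simp only [or_comm]⟩

theorem Hyp.Q_all {a b : Fin 6} (hab : a ≠ b) : H.Q a b := by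
  have e01 : H.Q 0 1 := H.edge (pA_mem I) fun x => (act_edges H.hI x).1
  have e23 : H.Q 2 3 := H.edge (pC_mem I) fun x => (act_edges H.hI x).2.1
  have e05 : H.Q 0 5 := H.edge (pB_mem I) fun x => (act_edges H.hI x).2.2.1
  have e34 : H.Q 3 4 := H.edge (pD_mem I) fun x => (act_edges H.hI x).2.2.2.1
  have e45 : H.Q 4 5 := H.edge (mul_mem (pA_mem I) (pC_mem I)) fun x => (act_edges H.hI x).2.2.2.2.1
  have e04 := H.Q_trans e05 (H.Q_symm e45) (by decide) (by decide) (by decide)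
  have e03 := H.Q_trans e04 (H.Q_symm e34) (by decide) (by decide) (by decide)
  have e02 := H.Q_trans e03 (H.Q_symm e23) (by decide) (by decide) (by decide)
  have h0 : ∀ x : Fin 6, x ≠ 0 → H.Q 0 x := by
    intro x hx
    fin_cases x
    exacts [absurd rfl hx, e01, e02, e03, e04, e05]
  rcases eq_or_ne a 0 with rfl | ha
  · exact h0 b hab.symm
  rcases eq_or_ne b 0 with rfl | hb
  · exact H.Q_symm (h0 a ha)
  exact H.Q_trans (H.Q_symm (h0 a ha)) (h0 b hb) ha hab (Ne.symm hb)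

theorem Hyp.std_diag {u : G} (hu : (u : GL (Fin 4) F) ∈ PauliFour.std I) : H.rho u ∈ diagG := by
  set T : Subgroup (GL (Fin 4) F) := (diagG.comap H.rho).map G.subtype
  have hs : sc I ∈ T := by
    refine ⟨⟨sc I, H.std (sI_mem I)⟩, fun i => ⟨-1, ?_⟩, rfl⟩
    exact H.rho_eq _ (by rw [(act_edges H.hI (ax i)).2.2.2.2.2, neg_one_smul])
  have hz : ∀ z ∈ PauliFour.std I, ∀ a b : Fin 6,
      (∀ x, act ((sc I * z : GL (Fin 4) F) : Matrix (Fin 4) (Fin 4) F) (vec e I x) = vec e I (sgn a b x)) →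
        z ∈ T := by
    intro z hz a b h
    set u₁ : G := ⟨sc I * z, H.std (mul_mem (sI_mem I) hz)⟩ with hu₁
    have hp : IsPair (H.rho u₁) a b := H.pair_of_act u₁ h
    have hd : H.rho u₁ ∈ diagG := fun i => ⟨if i = a ∨ i = b then (-1 : K) else 1, hp i⟩
    have hT : sc I * z ∈ T := Subgroup.mem_map.2 ⟨u₁, Subgroup.mem_comap.2 hd, rfl⟩
    have := mul_mem (inv_mem hs) hT
    rwa [inv_mul_cancel_left] at this
  have hle : PauliFour.std I ≤ T := by
    rw [PauliFour.std, Subgroup.closure_le]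
    rintro z (rfl | rfl | rfl | rfl | rfl)
    · exact hs
    · exact hz _ (pA_mem I) _ _ fun x => (act_edges H.hI x).1
    · exact hz _ (pB_mem I) _ _ fun x => (act_edges H.hI x).2.2.1
    · exact hz _ (pC_mem I) _ _ fun x => (act_edges H.hI x).2.1
    · exact hz _ (pD_mem I) _ _ fun x => (act_edges H.hI x).2.2.2.1
  obtain ⟨u', hu', he⟩ := hle hu
  obtain rfl : u' = u := Subtype.ext he
  exact hu'

/-- A normalising element is monomial. -/
theorem Hyp.mono_of_mem (g : G) (hg : (g : GL (Fin 4) F) ∈ Cfsg.Geo.subgroupNormalizer (PauliFour.std I)) :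
    Mono (H.rho g) := by
  intro i
  set k := (H.rho g).1 (ax i) with hk
  have hk0 : ∃ l, k l ≠ 0 := by
    by_contra h
    push Not at h
    have : k ⬝ᵥ k = 1 := by rw [hk, map_dot_self, dot_ax, ax_self]
    rw [show k = 0 from funext h, zero_dotProduct] at this
    exact zero_ne_one this
  obtain ⟨l, hl⟩ := hk0
  refine ⟨l, k l, funext fun m => ?_⟩
  rw [Pi.smul_apply, smul_eq_mul]
  rcases eq_or_ne m l with rfl | hml
  · rw [ax_self, mul_one]
  rw [ax_ne hml, mul_zero]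
  by_contra hm
  obtain ⟨x, hxl, hxm⟩ : ∃ x : Fin 6, x ≠ l ∧ x ≠ m := by
    obtain ⟨x, -, hx⟩ := Finset.exists_mem_notMem_of_card_lt_card (s := ({l, m} : Finset (Fin 6)))
      (t := Finset.univ) (lt_of_le_of_lt Finset.card_le_two (by simp))
    simp only [Finset.mem_insert, Finset.mem_singleton, not_or] at hx
    exact ⟨x, hx⟩
  obtain ⟨s, hs, hsp⟩ := H.Q_all hxl.symm
  have hs' : ((g⁻¹ * s * g : G) : GL (Fin 4) F) ∈ PauliFour.std I := by
    have := (Subgroup.mem_set_normalizer_iff.mp (inv_mem hg) (s : GL (Fin 4) F)).mp hs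
    simpa using this
  obtain ⟨c, hc⟩ := H.std_diag hs' i
  have hsk : (H.rho s).1 k = c • k := by
    rw [hk, ← orth_mul_apply, ← map_mul, show s * g = g * (g⁻¹ * s * g) by simp [mul_assoc], map_mul,
      orth_mul_apply, hc, map_smul]
  have hco : ∀ j : Fin 6, (H.rho s).1 k j = (if j = l ∨ j = x then (-1 : K) else 1) * k j := fun j =>
    Frame10Six75.coord H.h2K (Frame10Six75.sign_sq l x j) (hsp j) k
  have e1 := hco l
  have e2 := hco m
  rw [hsk, Pi.smul_apply, smul_eq_mul] at e1 e2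
  rw [if_pos (Or.inl rfl)] at e1
  rw [if_neg (not_or.2 ⟨hml, hxm.symm⟩)] at e2
  have c1 : c = -1 := mul_right_cancel₀ hl e1
  have c2 : c = 1 := mul_right_cancel₀ hm e2
  exact H.h2K (by linear_combination c1 - c2)

/-- A monomial element normalises. -/
theorem Hyp.mem_of_mono [Finite F] [Fintype K] (g : G) (hg : Mono (H.rho g)) :
    (g : GL (Fin 4) F) ∈ Cfsg.Geo.subgroupNormalizer (PauliFour.std I) := by
  have key : ∀ z ∈ PauliFour.std I, ∀ a b : Fin 6, a ≠ b →
      (∀ x, act ((sc I * z : GL (Fin 4) F) : Matrix (Fin 4) (Fin 4) F) (vec e I x) = vec e I (sgn a b x)) →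
        (g : GL (Fin 4) F) * z * (g : GL (Fin 4) F)⁻¹ ∈ PauliFour.std I := by
    intro z hz a b hab h
    set u : G := ⟨sc I * z, H.std (mul_mem (sI_mem I) hz)⟩
    obtain ⟨a', b', hab', hp⟩ := Frame10Six75.exists_conj_pair H.h2K hab (H.pair_of_act u h) hg
    obtain ⟨s, hs, hsp⟩ := H.Q_all hab'
    have hrho : H.rho (g * u * g⁻¹) = H.rho s := by
      rw [map_mul, map_mul, map_inv]
      exact ext_ax fun i => by rw [hp i, hsp i]
    have hmem := H.mem_of_rho_eq _ s hs hrho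
    have h1 := mul_mem (inv_mem (sI_mem I)) hmem
    convert h1 using 1
    simp only [Subgroup.coe_mul, Subgroup.coe_inv, u]
    rw [show (g : GL (Fin 4) F) * (sc I * z) = sc I * ((g : GL (Fin 4) F) * z) by
      rw [← mul_assoc, ← sc_comm, mul_assoc]]
    group
  refine mem_normalizer (key _ (pA_mem I) 0 1 (by decide) fun x => (act_edges H.hI x).1)
    (key _ (pB_mem I) 0 5 (by decide) fun x => (act_edges H.hI x).2.2.1)
    (key _ (pC_mem I) 2 3 (by decide) fun x => (act_edges H.hI x).2.1)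
    (key _ (pD_mem I) 3 4 (by decide) fun x => (act_edges H.hI x).2.2.2.1) ?_ ?_ ?_ ?_ <;>
    rw [inv_mul_cancel_right]

/-- The image is the derived group. -/
theorem Hyp.range_eq [Fintype K] : H.rho.range = commutator (orth (sq K (Fin 6))) := by
  refine le_antisymm ?_ ?_
  · rw [MonoidHom.range_eq_map, ← H.perfect, commutator_def, Subgroup.map_commutator, commutator_def]
    exact Subgroup.commutator_mono le_top le_top
  · refine Frame10Six75.commutator_le_of_units_six H.h2K (by simp) (i₀ := 0) fun x hx => ⟨hx, ?_⟩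
    have hQx : sq K (Fin 6) x ≠ 0 := by rw [Frame10.sq_apply, hx]; exact one_ne_zero
    have hQa : sq K (Fin 6) (ax 0) ≠ 0 := by rw [Frame10.sq_apply, dot_ax, ax_self]; exact one_ne_zero
    have hc : (1 : K) * 1 * ((x ⬝ᵥ x) * ((ax 0 : Fin 6 → K) ⬝ᵥ ax 0)) = 1 := by rw [hx, dot_ax, ax_self]; ring
    have hd := pair_det e H.hI hc
    set g := Matrix.GeneralLinearGroup.mkOfDetNeZero _ (hd ▸ one_ne_zero (α := F)) with hgdef
    refine ⟨hQx, hQa, ⟨⟨g, H.lift 1 x (ax 0) hc g rfl⟩, ?_⟩⟩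
    refine Subtype.ext (LinearEquiv.ext fun z => ?_)
    show (H.rho _).1 z = (refl (sq K (Fin 6)) x hQx).1 ((refl (sq K (Fin 6)) (ax 0) hQa).1 z)
    rw [refl_rv, refl_rv]
    exact H.rho_eq _ (pair_act e H.hI hc z)

/-- Maximality for the model. -/
theorem Hyp.isMaximalIn [Finite F] [Fintype K] (hp : (Fintype.card K).Prime) (hodd : Odd (Fintype.card K)) :
    Cfsg.Geo.IsMaximalIn G (Cfsg.Geo.subgroupNormalizer (PauliFour.std I) ⊓ G) := by
  refine ⟨lt_of_le_of_ne inf_le_right fun he => ?_, fun M hNM hMG => ?_⟩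
  · obtain ⟨h, hh, hnm⟩ := Frame10.exists_not_mono (F := K) (ι := Fin 6) H.h2K (by simp)
    rw [← H.range_eq] at hh
    obtain ⟨g, rfl⟩ := hh
    exact hnm (H.mono_of_mem g (he.ge g.2).1)
  by_cases hall : ∀ g : G, (g : GL (Fin 4) F) ∈ M → Mono (H.rho g)
  · exact Or.inl (le_antisymm (fun g hg => ⟨H.mem_of_mono ⟨g, hMG hg⟩ (hall ⟨g, hMG hg⟩ hg), hMG hg⟩) hNM)
  push Not at hall
  obtain ⟨g, hg, hgm⟩ := hall
  refine Or.inr (le_antisymm hMG fun x hx => ?_)
  have hOver : Over ((M.subgroupOf G).map H.rho) := fun h hh hm => by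
    rw [← H.range_eq] at hh
    obtain ⟨u, rfl⟩ := hh
    exact ⟨u, hNM ⟨H.mem_of_mono u hm, u.2⟩, rfl⟩
  have hle := Frame10Six75.commutator_le hp hodd (by simp) hOver ⟨g, hg, rfl⟩ hgm
  rw [← H.range_eq] at hle
  obtain ⟨m, hm, hme⟩ := hle (MonoidHom.mem_range.2 ⟨⟨x, hx⟩, rfl⟩)
  have hk := H.ker (⟨x, hx⟩ * m⁻¹) (by rw [map_mul, map_inv, hme, mul_inv_cancel])
  have hkM := hNM ⟨Subgroup.le_normalizer hk, (⟨x, hx⟩ * m⁻¹ : G).2⟩
  have := M.mul_mem hkM hm
  simpa using this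

end Cfsg.Agent.C6Core75
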