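import Cfsg.Agent.Lib.C6Cplx52CoordRep
import Cfsg.Agent.Lib.OrthUnitaryHerm

/-!
The generators of the normaliser of the group of complex type: determinant one, unitary, and
normalising.
-/

set_option autoImplicit false
set_option linter.unusedSectionVars false
set_option maxHeartbeats 800000

namespace Cfsg.Agent.C6Cplx52

open Matrix Cfsg.Agent.C6Plus10
open scoped MatrixGroups

variable {F : Type*} [Field F] {k : ℕ} {i : Fˣ}

/-- The matrix of the Hadamard generator at one position. -/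
noncomputable def hm (i : Fˣ) (a : Fin k) : Matrix (Pt k) (Pt k) F :=
  ((1 + (i : F)) * (2 : F)⁻¹) • had1 F a

theorem hm_sq (h2 : (2 : F) ≠ 0) (hi : (i : F) * i = -1) (a : Fin k) :
    hm i a * hm i a = (i : F) • (1 : Matrix (Pt k) (Pt k) F) := by
  rw [hm, smul_mul_smul_comm, had1_mul_self, smul_smul]
  congr 1
  field_simp
  linear_combination hi

theorem hm_inv_aux (h2 : (2 : F) ≠ 0) (hi : (i : F) * i = -1) (a : Fin k) :
    hm i a * (((i⁻¹ : Fˣ) : F) • hm i a) = 1 ∧ (((i⁻¹ : Fˣ) : F) • hm i a) * hm i a = 1 := by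
  rw [mul_smul_comm, smul_mul_assoc, hm_sq h2 hi, smul_smul, Units.inv_mul, one_smul]
  exact ⟨rfl, rfl⟩

/-- The Hadamard generator. -/
noncomputable def hmU (h2 : (2 : F) ≠ 0) (hi : (i : F) * i = -1) (a : Fin k) : GL (Pt k) F :=
  ⟨hm i a, ((i⁻¹ : Fˣ) : F) • hm i a, (hm_inv_aux h2 hi a).1, (hm_inv_aux h2 hi a).2⟩

/-! ### Normalising -/

theorem sc_const (hi : (i : F) * i = -1) (c : ZMod 2) :
    sd F (fun _ : Pt k => c) = sc (Pt k) (i ^ (2 * c.val)) := by
  rw [sd_const, sc_sg hi]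

theorem Nr.of_real (hi : (i : F) * i = -1) {g : GL (Pt k) F} (h : C6Plus10.Nr g) : Nr i g := fun a b => by
  obtain ⟨a', b', c, e⟩ := h a b
  exact ⟨a', b', 2 * c.val, by rw [e, sc_const hi]⟩

theorem Nr.mul {g h : GL (Pt k) F} (hg : Nr i g) (hh : Nr i h) : Nr i (g * h) := fun a b => by
  obtain ⟨a', b', c, e⟩ := hh a b
  obtain ⟨a'', b'', c', e'⟩ := hg a' b'
  refine ⟨a'', b'', c + c', ?_⟩
  rw [show g * h * pau F a b * (g * h)⁻¹ = g * (h * pau F a b * h⁻¹) * g⁻¹ by group, e, sc_pull,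
    mul_assoc, e', ← mul_assoc, ← map_mul, ← pow_add]

theorem nr_sc (c : Fˣ) : Nr i (sc (Pt k) c) := fun a b =>
  ⟨a, b, 0, by rw [← sc_comm, mul_inv_cancel_right, pow_zero, map_one, one_mul]⟩

theorem nr_pau (hi : (i : F) * i = -1) (a b : Pt k) : Nr i (pau F a b) :=
  (Nr.of_real hi (pm_nr (F := F) (show AffPerm (Equiv.addRight a) from fun x y z => by
    simp only [Equiv.coe_addRight]
    rw [show x + a + (y + a) + (z + a) = x + y + z + a + (a + a) by abel, pt_add_self, add_zero]))).mul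
    (Nr.of_real hi (sd_nr (aff_ip b).quad))

theorem nr_ph (hi : (i : F) * i = -1) {l : Pt k → ZMod 2} (hl : Aff l) : Nr i (ph i l) := fun a b => by
  classical
  obtain ⟨b', c', hb⟩ := aff_form hl
  set d := ip b' a
  have hd : ∀ x, l (x + a) = l x + d := fun x => by
    subst hb
    simp only [Pi.add_apply, ip_add_right, d, add_assoc]
  have e : ph i l * pau F a b * (ph i l)⁻¹ =
      sc (Pt k) (i ^ d.val) * (pm F (Equiv.addRight a) * sd F (fun x => d * l x + ip b x)) := by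
    rw [mul_inv_eq_iff_eq_mul]
    refine Units.ext (Matrix.ext fun x y => ?_)
    have hs : ∀ u : ZMod 2, ((i ^ (u + d).val : Fˣ) : F) =
        ((i ^ d.val : Fˣ) : F) * sgn F (d * u) * ((i ^ u.val : Fˣ) : F) := fun u => by
      rcases zm_cases u with rfl | rfl <;> rcases zm_cases d with e | e <;>
        simp [e, ZMod.val_one, sgn_one, show (1 : ZMod 2) + 1 = 0 by decide, hi]
    simp only [pau, Units.val_mul, sc_val, smul_mul_assoc, one_mul, Matrix.smul_apply, smul_eq_mul]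
    show (Matrix.diagonal _ * ((pm F (Equiv.addRight a)).1 * Matrix.diagonal _) :
        Matrix (Pt k) (Pt k) F) x y =
      _ * ((pm F (Equiv.addRight a)).1 * Matrix.diagonal _ * Matrix.diagonal _ :
        Matrix (Pt k) (Pt k) F) x y
    rw [Matrix.diagonal_mul, Matrix.mul_diagonal, Matrix.mul_diagonal, Matrix.mul_diagonal, pm_apply,
      sgn_add]
    by_cases h : x = y + a
    · subst h
      simp only [Equiv.coe_addRight, if_true, hd, hs]
      ring
    · simp [h]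
  have haff : Aff fun x => d * l x + ip b x := by
    refine Aff.add (fun p q x => ?_) (aff_ip b)
    have := hl p q x
    simp only [dl_apply] at this ⊢
    rw [← mul_add, ← mul_add, ← mul_add, this, mul_zero]
  obtain ⟨b'', c, e'⟩ := pm_sd_aff (F := F) a haff
  exact ⟨a, b'', d.val + 2 * c.val, by rw [e, e', sc_const hi, ← mul_assoc, ← map_mul, ← pow_add]⟩

theorem nr_hm (h2 : (2 : F) ≠ 0) (hi : (i : F) * i = -1) (a : Fin k) : Nr i (hmU h2 hi a) := fun p q => by
  refine ⟨Function.update p a (q a), Function.update q a (p a), 2 * (p a * q a).val, ?_⟩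
  rw [mul_inv_eq_iff_eq_mul, sc_sg hi, ← sd_const]
  refine Units.ext ?_
  show hm i a * (pau F p q : GL (Pt k) F).1 =
    Matrix.diagonal (fun _ : Pt k => sgn F (p a * q a)) * _ * hm i a
  rw [hm, smul_mul_assoc, had1_pau, ← Matrix.smul_one_eq_diagonal, smul_mul_assoc, one_mul,
    smul_mul_assoc, mul_smul_comm, smul_comm]

/-! ### Determinants -/

theorem det_eq_one_of_mem_omg (h2 : (2 : F) ≠ 0) {g : GL (Pt k) F} (hg : g ∈ Omg F k) :
    Matrix.GeneralLinearGroup.det g = 1 := by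
  rw [omg_eq] at hg
  have h1 := Subgroup.mem_map_of_mem (Matrix.GeneralLinearGroup.det (n := Pt k) (R := F)) hg
  rw [Subgroup.map_commutator] at h1
  refine (Subgroup.mem_bot.1 ((show (⁅_, _⁆ : Subgroup Fˣ) ≤ ⊥ from ?_) h1))
  refine Subgroup.commutator_le.2 fun x _ y _ => ?_
  rw [Subgroup.mem_bot, commutatorElement_eq_one_iff_mul_comm, mul_comm]

theorem det_pm_comm {π : Equiv.Perm (Pt k)} (h : π ∈ commutator (Equiv.Perm (Pt k))) (h2 : (2 : F) ≠ 0) :
    Matrix.GeneralLinearGroup.det (pm F π) = 1 :=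
  det_eq_one_of_mem_omg h2 (pm_omg_of_mem_commutator h)

theorem det_had1 (a : Fin k) : (had1 F a).det = (-2 : F) ^ 2 ^ (k - 1) := by
  classical
  let e : Pt k ≃ ZMod 2 × ({j : Fin k // j ≠ a} → ZMod 2) := Equiv.funSplitAt a (ZMod 2)
  let N : Matrix (ZMod 2) (ZMod 2) F := Matrix.of fun u v => sgn F (u * v)
  have h : Matrix.reindex e e (had1 F a) = Matrix.blockDiagonal fun _ => N := by
    ext ⟨u, s⟩ ⟨v, t⟩
    simp only [Matrix.reindex_apply, Matrix.submatrix_apply, Matrix.blockDiagonal_apply, had1,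
      Matrix.of_apply, N, e]
    have h1 : ∀ (w : ZMod 2) (r : {j : Fin k // j ≠ a} → ZMod 2),
        ((Equiv.funSplitAt a (ZMod 2)).symm (w, r)) a = w := fun w r => by simp
    have h1' : ∀ (w : ZMod 2) (r : {j : Fin k // j ≠ a} → ZMod 2) (j : {j : Fin k // j ≠ a}),
        ((Equiv.funSplitAt a (ZMod 2)).symm (w, r)) j = r j := fun w r j => by simp [j.2]
    simp only [h1]
    refine if_congr ⟨fun h => funext fun j => ?_, fun h j hj => ?_⟩ rfl rfl
    · have := h j j.2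
      rwa [h1', h1'] at this
    · have h3 := h1' u s ⟨j, hj⟩
      have h4 := h1' v t ⟨j, hj⟩
      simp only at h3 h4
      rw [h3, h4, h]
  have hN : N.det = -2 := by
    have : N.det = N 0 0 * N 1 1 - N 0 1 * N 1 0 := Matrix.det_fin_two (A := N)
    rw [this]
    simp [N, sgn_one]
    ring
  rw [← Matrix.det_reindex_self e, h, Matrix.det_blockDiagonal, Finset.prod_const, hN,
    Finset.card_univ]
  congr 1
  rw [Fintype.card_fun, ZMod.card, Fintype.card_subtype_compl, Fintype.card_fin,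
    Fintype.card_subtype_eq]

theorem i_pow_four (hi : (i : F) * i = -1) : (i : F) ^ 4 = 1 := by
  linear_combination ((i : F) * i - 1) * hi

theorem mem_sl {ι : Type} [Fintype ι] [DecidableEq ι] {g : GL ι F} :
    g ∈ Cfsg.Geo.specialLinear ι F ↔ (g : Matrix ι ι F).det = 1 := by
  rw [← Matrix.GeneralLinearGroup.val_det_apply, ← Units.val_one, Units.val_inj]
  exact MonoidHom.mem_ker

theorem sl_sd {f : Pt 3 → ZMod 2} (hf : Quad f) (h2 : (2 : F) ≠ 0) :
    sd F f ∈ Cfsg.Geo.specialLinear (Pt 3) F :=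
  MonoidHom.mem_ker.2 (det_eq_one_of_mem_omg h2 (quad_omg le_rfl hf))

theorem sl_pm {π : Equiv.Perm (Pt 3)} (hπ : AffPerm π) (h2 : (2 : F) ≠ 0) :
    pm F π ∈ Cfsg.Geo.specialLinear (Pt 3) F :=
  MonoidHom.mem_ker.2 (det_eq_one_of_mem_omg h2 (aff_omg le_rfl hπ))

theorem sl_hh (h2 : (2 : F) ≠ 0) {a b : Fin 3} (hab : a ≠ b) :
    hhU h2 hab ∈ Cfsg.Geo.specialLinear (Pt 3) F :=
  MonoidHom.mem_ker.2 (det_eq_one_of_mem_omg h2 (hhU_omg le_rfl h2 hab))

theorem sl_pau (h2 : (2 : F) ≠ 0) (a b : Pt 3) : pau F a b ∈ Cfsg.Geo.specialLinear (Pt 3) F :=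
  mul_mem (MonoidHom.mem_ker.2 (det_pm_comm (transl_mem le_rfl a) h2)) (sl_sd (aff_ip b).quad h2)

theorem sl_sc (hi : (i : F) * i = -1) : sc (Pt 3) i ∈ Cfsg.Geo.specialLinear (Pt 3) F :=
  mem_sl.2 (by
    rw [sc_val, Matrix.det_smul, Matrix.det_one, mul_one, Fintype.card_fun, ZMod.card,
      Fintype.card_fin, show 2 ^ 3 = 4 * 2 from rfl, pow_mul, i_pow_four hi, one_pow])

theorem sl_ph (hi : (i : F) * i = -1) {l : Pt 3 → ZMod 2} (hl : Aff l) :
    ph i l ∈ Cfsg.Geo.specialLinear (Pt 3) F := mem_sl.2 (by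
  obtain ⟨b, c, rfl⟩ := aff_form hl
  show (Matrix.diagonal _).det = 1
  rw [Matrix.det_diagonal]
  simp only [Units.val_pow_eq_pow_val]
  rw [Finset.prod_pow_eq_pow_sum]
  obtain ⟨m, hm⟩ : 4 ∣ ∑ x : Pt 3, (((fun _ : Pt 3 => c) + ip b : Pt 3 → ZMod 2) x).val :=
    (show ∀ (b : Pt 3) (c : ZMod 2), 4 ∣ ∑ x : Pt 3, (((fun _ : Pt 3 => c) + ip b : Pt 3 → ZMod 2) x).val by decide) b c
  rw [hm, pow_mul, i_pow_four hi, one_pow])

theorem sl_hm (h2 : (2 : F) ≠ 0) (hi : (i : F) * i = -1) (a : Fin 3) :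
    hmU h2 hi a ∈ Cfsg.Geo.specialLinear (Pt 3) F := mem_sl.2 (by
  show (hm i a).det = 1
  rw [hm, Matrix.det_smul, det_had1, Fintype.card_fun, ZMod.card, Fintype.card_fin]
  have e8 : (1 + (i : F)) ^ 8 = 16 := by
    rw [show (1 + (i : F)) ^ 8 = ((1 + (i : F)) ^ 2) ^ 4 by ring,
      show (1 + (i : F)) ^ 2 = 2 * i by linear_combination hi, mul_pow, i_pow_four hi]
    norm_num
  norm_num
  field_simp
  linear_combination (16 : F) * e8)

/-! ### Unitary -/

variable {q : ℕ} {σ : F →+* F}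

theorem mem_pres (hσ : ∀ x, σ x = x ^ q) {g : GL (Pt k) F}
    (h : (g : Matrix (Pt k) (Pt k) F)ᵀ * (g : Matrix (Pt k) (Pt k) F).map σ = 1) :
    g ∈ Cfsg.preserving (Units.coeHom (Matrix (Pt k) (Pt k) F)) (hf q) := by
  intro u v
  have e : ∀ u v : Pt k → F, hf q u v = u ⬝ᵥ (σ ∘ v) := fun u v => by
    simp [hf, dotProduct, hσ]
  show hf q ((g : Matrix (Pt k) (Pt k) F) *ᵥ u) ((g : Matrix (Pt k) (Pt k) F) *ᵥ v) = hf q u v
  rw [e, e, show σ ∘ ((g : Matrix (Pt k) (Pt k) F) *ᵥ v) =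
      (g : Matrix (Pt k) (Pt k) F).map σ *ᵥ (σ ∘ v) from funext fun r => RingHom.map_mulVec σ _ _ r,
    dotProduct_mulVec, ← Matrix.mulVec_transpose, mulVec_mulVec]
  have h' := congrArg Matrix.transpose h
  rw [Matrix.transpose_mul, Matrix.transpose_transpose, Matrix.transpose_one] at h'
  rw [h', one_mulVec]

theorem pres_real (hσ : ∀ x, σ x = x ^ q) {g : GL (Pt k) F} (hg : g ∈ Isom F k) (h2 : (2 : F) ≠ 0)
    (hs : ∀ x y, σ ((g : Matrix (Pt k) (Pt k) F) x y) = (g : Matrix (Pt k) (Pt k) F) x y) :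
    g ∈ Cfsg.preserving (Units.coeHom (Matrix (Pt k) (Pt k) F)) (hf q) :=
  mem_pres hσ (by
    rw [show (g : Matrix (Pt k) (Pt k) F).map σ = g from Matrix.ext hs]
    exact transpose_of_mem_isom h2 hg)

theorem sigma_sgn (σ : F →+* F) (z : ZMod 2) : σ (sgn F z) = sgn F z := by
  rcases zm_cases z with rfl | rfl <;> simp [sgn_one]

theorem su_sd (hσ : ∀ x, σ x = x ^ q) (h2 : (2 : F) ≠ 0) (f : Pt k → ZMod 2) :
    sd F f ∈ Cfsg.preserving (Units.coeHom (Matrix (Pt k) (Pt k) F)) (hf q) :=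
  pres_real hσ (sd_isom f) h2 fun x y => by
    show σ (Matrix.diagonal _ x y) = Matrix.diagonal _ x y
    by_cases h : x = y
    · subst h; simp [sigma_sgn]
    · simp [h]

theorem su_pm (hσ : ∀ x, σ x = x ^ q) (h2 : (2 : F) ≠ 0) (π : Equiv.Perm (Pt k)) :
    pm F π ∈ Cfsg.preserving (Units.coeHom (Matrix (Pt k) (Pt k) F)) (hf q) :=
  pres_real hσ (pm_isom π) h2 fun x y => by
    rw [pm_apply]
    by_cases h : x = π y <;> simp [h]

theorem su_hh (hσ : ∀ x, σ x = x ^ q) (h2 : (2 : F) ≠ 0) {a b : Fin k} (hab : a ≠ b) :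
    hhU h2 hab ∈ Cfsg.preserving (Units.coeHom (Matrix (Pt k) (Pt k) F)) (hf q) :=
  pres_real hσ (hhU_isom h2 hab) h2 fun x y => by
    show σ (hh F a b x y) = hh F a b x y
    simp only [hh, Matrix.of_apply]
    split_ifs <;> simp [sigma_sgn, map_ofNat]

theorem su_sc (hσ : ∀ x, σ x = x ^ q) (hi : (i : F) * i = -1) (hiq : (i : F) ^ q = -i) :
    sc (Pt k) i ∈ Cfsg.preserving (Units.coeHom (Matrix (Pt k) (Pt k) F)) (hf q) :=
  mem_pres hσ (by
    rw [sc_val, Matrix.transpose_smul, Matrix.transpose_one, Matrix.map_smul' _ _ _ (map_mul σ),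
      Matrix.map_one _ (map_zero σ) (map_one σ), smul_mul_smul_comm, one_mul, hσ, hiq, mul_neg, hi,
      neg_neg, one_smul])

theorem su_ph (hσ : ∀ x, σ x = x ^ q) (hi : (i : F) * i = -1) (hiq : (i : F) ^ q = -i) (l : Pt k → ZMod 2) :
    ph i l ∈ Cfsg.preserving (Units.coeHom (Matrix (Pt k) (Pt k) F)) (hf q) :=
  mem_pres hσ (by
    show (Matrix.diagonal _)ᵀ * (Matrix.diagonal _).map σ = 1
    rw [Matrix.diagonal_transpose, Matrix.diagonal_map (map_zero σ), Matrix.diagonal_mul_diagonal,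
      ← Matrix.diagonal_one]
    congr 1
    funext x
    rw [Units.val_pow_eq_pow_val, map_pow, hσ, hiq, ← mul_pow, mul_neg, hi,
      neg_neg, one_pow])

theorem su_hm (hσ : ∀ x, σ x = x ^ q) (h2 : (2 : F) ≠ 0) (hi : (i : F) * i = -1)
    (hiq : (i : F) ^ q = -i) (a : Fin k) :
    hmU h2 hi a ∈ Cfsg.preserving (Units.coeHom (Matrix (Pt k) (Pt k) F)) (hf q) :=
  mem_pres hσ (by
    show (hm i a)ᵀ * (hm i a).map σ = 1
    have ht : (had1 F a)ᵀ = had1 F a := by
      ext x y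
      simp only [Matrix.transpose_apply, had1, Matrix.of_apply, mul_comm (y a)]
      exact if_congr (forall₂_congr fun j _ => eq_comm) rfl rfl
    have hm' : (had1 F a).map σ = had1 F a := by
      ext x y
      simp only [Matrix.map_apply, had1, Matrix.of_apply]
      split_ifs <;> simp [sigma_sgn]
    rw [hm, Matrix.transpose_smul, ht, Matrix.map_smul' _ _ _ (map_mul σ), hm', smul_mul_smul_comm,
      had1_mul_self, smul_smul, map_mul, map_add, map_one, map_inv₀, map_ofNat, hσ (i : F), hiq]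
    convert one_smul F (1 : Matrix (Pt k) (Pt k) F) using 2
    field_simp
    linear_combination (-1 : F) * hi)

/-! ### An element outside -/

/-- A product of two transpositions with a common point. -/
def cyc : Equiv.Perm (Pt 3) :=
  Equiv.swap 0 (pe 0) * Equiv.swap 0 (pe 1) * Equiv.swap 0 (pe 0) * Equiv.swap 0 (pe 1)

theorem cyc_mem : cyc ∈ commutator (Equiv.Perm (Pt 3)) := by
  have h := Subgroup.commutator_mem_commutator (G := Equiv.Perm (Pt 3))
    (Subgroup.mem_top (Equiv.swap (0 : Pt 3) (pe 0))) (Subgroup.mem_top (Equiv.swap (0 : Pt 3) (pe 1)))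
  rwa [commutatorElement_def, Equiv.swap_inv, Equiv.swap_inv] at h

theorem pm_single (π : Equiv.Perm (Pt k)) (y : Pt k) :
    ((pm F π : GL (Pt k) F) : Matrix (Pt k) (Pt k) F) *ᵥ Pi.single y 1 = Pi.single (π y) 1 := by
  ext r
  rw [Matrix.mulVec_single_one, Matrix.col_apply, pm_apply, Pi.single_apply]

theorem cyc_not_nr : ¬ Nr i (pm F cyc) := by
  intro h
  obtain ⟨a', b', c, e⟩ := h (pe 2) 0
  rw [mul_inv_eq_iff_eq_mul] at e
  have key : ∀ y, cyc (y + pe 2) = cyc y + a' := fun y => by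
    have h1 := congrArg (fun g : GL (Pt 3) F => (g : Matrix (Pt 3) (Pt 3) F) *ᵥ Pi.single y 1) e
    simp only [Units.val_mul, ← mulVec_mulVec, pau_single, mulVec_smul, pm_single, sc_mulVec,
      ip_zero_left, sgn_zero, one_smul] at h1
    by_contra hne
    have h3 := congrFun h1 (cyc (y + pe 2))
    rw [Pi.single_eq_same, Pi.smul_apply, Pi.smul_apply, Pi.single_eq_of_ne hne, smul_zero,
      smul_zero] at h3
    exact one_ne_zero h3
  exact (show ∀ a' : Pt 3, ¬ (cyc (0 + pe 2) = cyc 0 + a' ∧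
    cyc (pe 0 + pe 1 + pe 2) = cyc (pe 0 + pe 1) + a') by decide) a' ⟨key 0, key _⟩

end Cfsg.Agent.C6Cplx52
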