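import Mathlib
import Cfsg.Prelude.Def_GeometricClasses

/-!
Transporting maximality along the coordinate change of a tensor decomposition.
-/

set_option autoImplicit false

namespace Cfsg.Agent.TensorMaxGlue

open scoped Matrix MatrixGroups

variable {F : Type*} [Field F] {ι : Type} [Fintype ι] [DecidableEq ι] {k l : ℕ}

/-- The coordinate change attached to a tensor decomposition. -/
def phi (e : ι ≃ Fin k × Fin l) (P : GL ι F) : GL (Fin k × Fin l) F ≃* GL ι F :=
  (Cfsg.Geo.glReindex e.symm).trans (MulAut.conj P)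

theorem tensorProductSubgroup_eq (e : ι ≃ Fin k × Fin l) (P : GL ι F) :
    Cfsg.Geo.tensorProductSubgroup k l e P = (Cfsg.Geo.kroneckerSubgroup k l F).map (phi e P).toMonoidHom := by
  rw [Cfsg.Geo.tensorProductSubgroup, Subgroup.map_map]
  rfl

theorem phi_val (e : ι ≃ Fin k × Fin l) (P : GL ι F) (g : GL (Fin k × Fin l) F) :
    (phi e P g : Matrix ι ι F) = (P : Matrix ι ι F) *
      (g : Matrix (Fin k × Fin l) (Fin k × Fin l) F).submatrix e e * ((P⁻¹ : GL ι F) : Matrix ι ι F) :=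
  rfl

theorem phi_mulVec (e : ι ≃ Fin k × Fin l) (P : GL ι F) (g : GL (Fin k × Fin l) F) (x : Fin k × Fin l → F) :
    (phi e P g : Matrix ι ι F) *ᵥ ((P : Matrix ι ι F) *ᵥ (x ∘ e)) =
      (P : Matrix ι ι F) *ᵥ (((g : Matrix (Fin k × Fin l) (Fin k × Fin l) F) *ᵥ x) ∘ e) := by
  rw [Matrix.mulVec_mulVec, phi_val, mul_assoc, Units.inv_mul, mul_one, ← Matrix.mulVec_mulVec,
    Matrix.submatrix_mulVec_equiv]
  congr 1
  funext i
  show ((g : Matrix (Fin k × Fin l) (Fin k × Fin l) F) *ᵥ ((x ∘ e) ∘ e.symm)) (e i) = _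
  rw [show (x ∘ e) ∘ e.symm = x from funext fun p => by simp]
  rfl

theorem phi_det (e : ι ≃ Fin k × Fin l) (P : GL ι F) (g : GL (Fin k × Fin l) F) :
    (phi e P g : Matrix ι ι F).det = (g : Matrix (Fin k × Fin l) (Fin k × Fin l) F).det := by
  rw [phi_val, Matrix.det_units_conj, Matrix.det_submatrix_equiv_self]

/-- Maximality transports along an isomorphism. -/
theorem isMaximalIn_map {G G' : Type*} [Group G] [Group G'] (φ : G ≃* G') {K : Subgroup G'} {H : Subgroup G}
    (h : Cfsg.Geo.IsMaximalIn (K.comap φ.toMonoidHom) H) : Cfsg.Geo.IsMaximalIn K (H.map φ.toMonoidHom) := by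
  obtain ⟨hlt, hmax⟩ := h
  have hK : K = (K.comap φ.toMonoidHom).map φ.toMonoidHom :=
    (Subgroup.map_comap_eq_self_of_surjective φ.surjective K).symm
  refine ⟨?_, fun M h1 h2 => ?_⟩
  · rw [hK]
    exact (Subgroup.map_lt_map_iff_of_injective φ.injective).2 hlt
  · have hM : M = (M.comap φ.toMonoidHom).map φ.toMonoidHom :=
      (Subgroup.map_comap_eq_self_of_surjective φ.surjective M).symm
    rcases hmax (M.comap φ.toMonoidHom) (Subgroup.map_le_iff_le_comap.1 h1) (Subgroup.comap_mono h2) with h | h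
    · exact Or.inl (by rw [hM, h])
    · exact Or.inr (by rw [hM, h, ← hK])

/-- The intersection with a tensor stabiliser, pulled back. -/
theorem tensor_inf (e : ι ≃ Fin k × Fin l) (P : GL ι F) (K : Subgroup (GL ι F)) :
    Cfsg.Geo.tensorProductSubgroup k l e P ⊓ K =
      (Cfsg.Geo.kroneckerSubgroup k l F ⊓ K.comap (phi e P).toMonoidHom).map (phi e P).toMonoidHom := by
  rw [Subgroup.map_inf _ _ _ (phi e P).injective, ← tensorProductSubgroup_eq,
    Subgroup.map_comap_eq_self_of_surjective (phi e P).surjective]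

/-- A criterion for maximality of a tensor stabiliser. -/
theorem isMaximalIn_of (e : ι ≃ Fin k × Fin l) (P : GL ι F) (K : Subgroup (GL ι F))
    (hne : ∃ g, phi e P g ∈ K ∧ g ∉ Cfsg.Geo.kroneckerSubgroup k l F)
    (h : ∀ M : Subgroup (GL (Fin k × Fin l) F),
      Cfsg.Geo.kroneckerSubgroup k l F ⊓ K.comap (phi e P).toMonoidHom ≤ M → M ≤ K.comap (phi e P).toMonoidHom →
      M ≤ Cfsg.Geo.kroneckerSubgroup k l F ∨ K.comap (phi e P).toMonoidHom ≤ M) :
    Cfsg.Geo.IsMaximalIn K (Cfsg.Geo.tensorProductSubgroup k l e P ⊓ K) := by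
  rw [tensor_inf]
  refine isMaximalIn_map (phi e P) ⟨lt_of_le_of_ne inf_le_right fun heq => ?_, fun M h1 h2 => ?_⟩
  · obtain ⟨g, hg, hgk⟩ := hne
    have hg' : g ∈ K.comap (phi e P).toMonoidHom := hg
    rw [← heq] at hg'
    exact hgk hg'.1
  · rcases h M h1 h2 with h' | h'
    · exact Or.inl (le_antisymm (le_inf h' h2) h1)
    · exact Or.inr (le_antisymm h2 h')

end Cfsg.Agent.TensorMaxGlue
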