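import Cfsg.Agent.Lib.C6Core75
import Cfsg.Agent.Lib.TensorMaxGlue
import Cfsg.Agent.Lib.PSLSimple

/-!
The normaliser of a group of symplectic type of order 64 is maximal in the special linear group of dimension four.
-/

set_option autoImplicit false
set_option linter.unusedSectionVars false
set_option linter.unusedSimpArgs false
set_option maxHeartbeats 1000000

namespace Cfsg.Agent.C6SL75

open Cfsg.Agent.PauliFour Cfsg.Agent.SympTypeTwo
open scoped Matrix MatrixGroups

variable {F : Type*} [Field F]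

theorem two_ne_zero' [Fintype F] (h : Odd (Fintype.card F)) : (2 : F) ≠ 0 := fun e => by
  obtain ⟨k, hk⟩ := h
  have h0 : ((Fintype.card F : ℕ) : F) = 0 := Nat.cast_card_eq_zero F
  rw [hk] at h0
  push_cast at h0
  rw [e, zero_mul, zero_add] at h0
  exact one_ne_zero h0

/-- The quotient by the centre has sixteen elements. -/
theorem card_eq [Finite F] {R : Subgroup (GL (Fin 4) F)} (S : Setup R) :
    Nat.card R = 16 * Nat.card (Subgroup.center R) := by
  classical
  haveI : Fintype F := Fintype.ofFinite _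
  haveI : Fact (Nat.Prime 2) := ⟨Nat.prime_two⟩
  haveI : Fintype R := Fintype.ofFinite _
  haveI : Fintype (R ⧸ Subgroup.center R) := Fintype.ofFinite _
  have h4 : (4 : F) ≠ 0 := by rw [show (4 : F) = 2 * 2 by norm_num]; exact mul_ne_zero S.h2 S.h2
  obtain ⟨n, hn⟩ : ∃ n, Nat.card R = 2 ^ n := IsPGroup.iff_card.mp fun g => ⟨2, by
    apply Subtype.ext
    rw [show (2 : ℕ) ^ 2 = 2 * 2 by norm_num, pow_mul, sq, sq]
    rcases S.sq g g.2 with e | e <;> simp [e]⟩
  have hRF : (Nat.card R : F) ≠ 0 := by rw [hn]; push_cast; exact pow_ne_zero _ S.h2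
  have cen : ∀ (g : R) (c : F), ((g : GL (Fin 4) F) : Matrix (Fin 4) (Fin 4) F) = c • 1 →
      g ∈ Subgroup.center R := fun g c hc => Subgroup.mem_center_iff.mpr fun v => Subtype.ext (Units.ext (by
    simp [hc]))
  set v : R ⧸ Subgroup.center R → Matrix (Fin 4) (Fin 4) F := fun q => ((q.out : GL (Fin 4) F) : Matrix _ _ F)
  have hline : ∀ u : R, ∃ c : F, ((u : GL (Fin 4) F) : Matrix (Fin 4) (Fin 4) F) = c • v (QuotientGroup.mk u) := by
    intro u
    set t := (QuotientGroup.mk (s := Subgroup.center R) u).out with ht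
    have hz : t⁻¹ * u ∈ Subgroup.center R := QuotientGroup.eq.1 (QuotientGroup.out_eq' _)
    obtain ⟨c, hc⟩ := S.cent ((t⁻¹ * u : R) : GL (Fin 4) F) fun w hw => by
      rw [← Units.val_mul, ← Units.val_mul]
      exact congrArg Units.val (congrArg Subtype.val ((Subgroup.mem_center_iff.mp hz) ⟨w, hw⟩)).symm
    refine ⟨c, ?_⟩
    have e : ((u : GL (Fin 4) F) : Matrix (Fin 4) (Fin 4) F) = ((t : GL (Fin 4) F) : Matrix (Fin 4) (Fin 4) F) *
        (((t⁻¹ * u : R) : GL (Fin 4) F) : Matrix (Fin 4) (Fin 4) F) := by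
      rw [← Units.val_mul, ← Subgroup.coe_mul, mul_inv_cancel_left]
    rw [e, hc, mul_smul_comm, mul_one]
  have hspan : ⊤ ≤ Submodule.span F (Set.range v) := by
    intro X _
    have key : (Nat.card R : F) • X = (4 : F) • ∑ u : R,
        Matrix.trace (X * ((u : GL (Fin 4) F) : Matrix (Fin 4) (Fin 4) F)) •
          (((u⁻¹ : R) : GL (Fin 4) F) : Matrix (Fin 4) (Fin 4) F) := by
      ext j m
      have havg : ∀ a b, (4 : F) * ∑ u : R, ((u : GL (Fin 4) F) : Matrix (Fin 4) (Fin 4) F) b a *
          (((u⁻¹ : R) : GL (Fin 4) F) : Matrix (Fin 4) (Fin 4) F) j m =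
          if a = j ∧ b = m then (Nat.card R : F) else 0 := by
        intro a b
        set Y : Matrix (Fin 4) (Fin 4) F := Matrix.single a j 1
        set M : Matrix (Fin 4) (Fin 4) F := ∑ u : R, ((u : GL (Fin 4) F) : Matrix (Fin 4) (Fin 4) F) * Y *
          (((u : GL (Fin 4) F)⁻¹ : GL (Fin 4) F) : Matrix (Fin 4) (Fin 4) F) with hM
        obtain ⟨c, hc⟩ := S.cent M fun w hw => by
          have e : (w : Matrix (Fin 4) (Fin 4) F) * M * ((w⁻¹ : GL (Fin 4) F) : Matrix (Fin 4) (Fin 4) F) = M := by
            rw [hM, Finset.mul_sum, Finset.sum_mul]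
            refine Fintype.sum_equiv (Equiv.mulLeft (⟨w, hw⟩ : R)) _ _ fun u => ?_
            simp only [Equiv.coe_mulLeft, Subgroup.coe_mul, _root_.mul_inv_rev, Units.val_mul, mul_assoc]
          calc M * (w : Matrix (Fin 4) (Fin 4) F) = (w : Matrix (Fin 4) (Fin 4) F) * M *
                ((w⁻¹ : GL (Fin 4) F) : Matrix (Fin 4) (Fin 4) F) * w := by rw [e]
            _ = _ := by rw [mul_assoc _ _ (w : Matrix (Fin 4) (Fin 4) F), Units.inv_mul, mul_one]
        have htr : (4 : F) * c = if a = j then (Nat.card R : F) else 0 := by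
          have e1 : Matrix.trace M = (Nat.card R : F) * Matrix.trace Y := by
            rw [hM, Matrix.trace_sum]
            simp only [Matrix.trace_units_conj]
            rw [Finset.sum_const, Finset.card_univ, nsmul_eq_mul, Nat.card_eq_fintype_card]
          rw [hc, Matrix.trace_smul, Matrix.trace_one, Fintype.card_fin, smul_eq_mul] at e1
          rw [mul_comm (4 : F), show (4 : F) = ((4 : ℕ) : F) by norm_num, e1]
          rcases eq_or_ne a j with rfl | h
          · simp [Y]
          · rw [show Matrix.trace Y = 0 from Matrix.trace_single_eq_of_ne _ _ _ h, mul_zero, if_neg h]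
        have hbm : ∑ u : R, ((u : GL (Fin 4) F) : Matrix (Fin 4) (Fin 4) F) b a *
            (((u⁻¹ : R) : GL (Fin 4) F) : Matrix (Fin 4) (Fin 4) F) j m = M b m := by
          rw [hM, Matrix.sum_apply]
          exact Finset.sum_congr rfl fun u _ => by
            simp [Y, Matrix.mul_apply, Matrix.single_apply, Finset.sum_ite_eq, ite_and, Subgroup.coe_inv]
        rw [hbm, hc, Matrix.smul_apply, smul_eq_mul, ← mul_assoc, htr, Matrix.one_apply]
        by_cases h1 : a = j <;> by_cases h2 : b = m <;> simp [h1, h2]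
      calc ((Nat.card R : F) • X) j m
          = ∑ a, ∑ b, X a b * ((4 : F) * ∑ u : R, ((u : GL (Fin 4) F) : Matrix (Fin 4) (Fin 4) F) b a *
              (((u⁻¹ : R) : GL (Fin 4) F) : Matrix (Fin 4) (Fin 4) F) j m) := by
            simp only [havg]
            simp [ite_and, mul_comm]
        _ = _ := by
            simp only [Matrix.smul_apply, Matrix.sum_apply, smul_eq_mul, Matrix.trace, Matrix.diag, Matrix.mul_apply,
              Finset.sum_mul, Finset.mul_sum]
            rw [Finset.sum_comm (γ := R)]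
            refine Finset.sum_congr rfl fun a _ => ?_
            rw [Finset.sum_comm (γ := R)]
            exact Finset.sum_congr rfl fun b _ => Finset.sum_congr rfl fun u _ => by ring
    have hmem : (Nat.card R : F) • X ∈ Submodule.span F (Set.range v) := by
      rw [key]
      refine Submodule.smul_mem _ _ (Submodule.sum_mem _ fun u _ => Submodule.smul_mem _ _ ?_)
      obtain ⟨c, hc⟩ := hline u⁻¹
      rw [hc]
      exact Submodule.smul_mem _ _ (Submodule.subset_span ⟨_, rfl⟩)
    exact (Submodule.smul_mem_iff _ hRF).1 hmem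
  have hli : LinearIndependent F v := by
    rw [linearIndependent_iff']
    intro s a hsum q hq
    have h := congrArg (fun X => Matrix.trace ((((q.out : GL (Fin 4) F)⁻¹ : GL (Fin 4) F) : Matrix _ _ F) * X)) hsum
    simp only [Finset.mul_sum, Matrix.trace_sum, mul_smul_comm, Matrix.trace_smul, mul_zero, Matrix.trace_zero,
      smul_eq_mul] at h
    rw [Finset.sum_eq_single q (fun w _ hwq => ?_) (fun hn => absurd hq hn)] at h
    · simp only [v, ← Units.val_mul, inv_mul_cancel, Units.val_one, Matrix.trace_one, Fintype.card_fin] at h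
      exact (mul_eq_zero.1 h).resolve_right (by exact_mod_cast h4)
    · simp only [v, ← Units.val_mul]
      rw [S.trace_zero (R.mul_mem (R.inv_mem q.out.2) w.out.2) fun c hc => hwq ?_, mul_zero]
      have hz := cen (q.out⁻¹ * w.out) c (by simpa using hc)
      rw [← QuotientGroup.out_eq' w, ← QuotientGroup.out_eq' q]
      exact (QuotientGroup.eq.2 hz).symm
  have h16 : Fintype.card (R ⧸ Subgroup.center R) = 16 := by
    rw [← Module.finrank_eq_card_basis (Module.Basis.mk hli hspan), Module.finrank_matrix, Module.finrank_self,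
      Fintype.card_fin]
  rw [Subgroup.card_eq_card_quotient_mul_card_subgroup (Subgroup.center R), Nat.card_eq_fintype_card
    (α := R ⧸ Subgroup.center R), h16]

/-- Maximality moves along conjugation. -/
theorem conj_maximal {G R₀ : Subgroup (GL (Fin 4) F)} {P : GL (Fin 4) F} (hPG : ∀ x, P * x * P⁻¹ ∈ G ↔ x ∈ G)
    (h : Cfsg.Geo.IsMaximalIn G (Cfsg.Geo.subgroupNormalizer R₀ ⊓ G)) :
    Cfsg.Geo.IsMaximalIn G
      (Cfsg.Geo.subgroupNormalizer (R₀.map (MulAut.conj P).toMonoidHom) ⊓ G) := by
  have hG : G.comap (MulAut.conj P).toMonoidHom = G := Subgroup.ext fun x => hPG x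
  have h' := TensorMaxGlue.isMaximalIn_map (MulAut.conj P) (K := G)
    (H := Cfsg.Geo.subgroupNormalizer R₀ ⊓ G) (by rwa [hG])
  rw [Subgroup.map_inf _ _ _ (MulAut.conj P).injective] at h'
  have e1 : G.map (MulAut.conj P).toMonoidHom = G := by
    conv_lhs => rw [← hG]
    exact Subgroup.map_comap_eq_self_of_surjective (MulAut.conj P).surjective G
  have e2 : (Cfsg.Geo.subgroupNormalizer R₀).map (MulAut.conj P).toMonoidHom =
      Cfsg.Geo.subgroupNormalizer (R₀.map (MulAut.conj P).toMonoidHom) :=
    Subgroup.map_equiv_normalizer_eq R₀ (MulAut.conj P)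
  rwa [e1, e2] at h'

theorem std_det {I : Fˣ} (hI : (I : F) * I = -1) : std I ≤ Cfsg.Geo.specialLinear (Fin 4) F := by
  rw [PauliFour.std, Subgroup.closure_le]
  rintro g (rfl | rfl | rfl | rfl | rfl) <;>
    refine Units.ext ?_ <;> rw [Matrix.GeneralLinearGroup.val_det_apply, Units.val_one]
  · rw [sc_val, Matrix.det_smul, Matrix.det_one, Fintype.card_fin, mul_one,
      show (I : F) ^ 4 = (I * I) * (I * I) by ring, hI]; ring
  · simp [pA, dg_val, Fin.prod_univ_four]
  · rw [Matrix.det_succ_row_zero]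
    simp [pB, Matrix.det_fin_three, Fin.sum_univ_four, Fin.succAbove]
  · simp [pC, dg_val, Fin.prod_univ_four]
  · rw [Matrix.det_succ_row_zero]
    simp [pD, Matrix.det_fin_three, Fin.sum_univ_four, Fin.succAbove]

theorem perfect_SL [Fintype F] : commutator (Cfsg.Geo.specialLinear (Fin 4) F) = ⊤ := by
  classical
  let f : SL(4, F) →* Cfsg.Geo.specialLinear (Fin 4) F :=
    (Matrix.SpecialLinearGroup.toGL).codRestrict _ fun g => Units.ext (by
      rw [Matrix.GeneralLinearGroup.val_det_apply, Units.val_one]; exact g.2)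
  have hf : Function.Surjective f := fun g => by
    refine ⟨⟨(g : GL (Fin 4) F), ?_⟩, Subtype.ext (Units.ext rfl)⟩
    rw [← Matrix.GeneralLinearGroup.val_det_apply,
      show Matrix.GeneralLinearGroup.det (g : GL (Fin 4) F) = 1 from g.2, Units.val_one]
  rw [eq_top_iff, ← Subgroup.map_top_of_surjective f hf, ← PSLSimple.commutator_SL_eq_top (by simp),
    commutator_def, Subgroup.map_commutator, commutator_def]
  exact Subgroup.commutator_mono le_top le_top

/-- The clause for the special linear group. -/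
theorem maximal_sympType {F : Type*} [Field F] [Fintype F] :
    ∀ (p : ℕ) (R : Subgroup (Matrix.GeneralLinearGroup (Fin 4) F)), p.Prime → Fintype.card F = p → p % 4 = 1 →
      Cfsg.Geo.IsLinearSymplecticTypeData 2 R →
      Cfsg.Geo.IsMaximalIn (Cfsg.Geo.specialLinear (Fin 4) F)
        (Cfsg.Geo.subgroupNormalizer R ⊓ Cfsg.Geo.specialLinear (Fin 4) F) := by
  intro p R hp hF hp4 hR
  have hodd : Odd (Fintype.card F) := by rw [hF, Nat.odd_iff]; omega
  have h2 := two_ne_zero' hodd
  obtain ⟨p₀, e₀, -, -, hcases⟩ := hR.field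
  have hZ : Nat.card (Subgroup.center R) = 4 := by
    rcases hcases with ⟨h, -⟩ | ⟨-, -, h, -⟩ | ⟨-, -, h, -⟩
    · exact absurd h (by decide)
    · exact h
    · rw [Fintype.card_fin] at h; omega
  have S := SympTypeTwo.Setup.mk' h2 hR.symplecticType hR.absIrred (by rw [hZ]; norm_num)
  obtain ⟨I, P, hI, hRP⟩ := exists_std S (by rw [card_eq S, hZ]; norm_num) hZ
  have H : C6Core75.Hyp (RingHom.id F) I (Cfsg.Geo.specialLinear (Fin 4) F) :=
    { hI := hI
      h2K := h2
      det := le_rfl
      real := fun g _ x => (C6Klein75.exists_vec (RingHom.id F) h2 hI (fun _ => ⟨_, rfl⟩) fun _ => ⟨_, rfl⟩).imp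
        fun _ h => h.symm
      lift := fun c x y hc g hg => Units.ext (by
        rw [Matrix.GeneralLinearGroup.val_det_apply, Units.val_one, hg, C6Klein75.pair_det _ hI hc])
      std := std_det hI
      perfect := perfect_SL }
  rw [hRP]
  refine conj_maximal (fun x => ?_) (H.isMaximalIn (by rwa [hF]) hodd)
  have hn : (Cfsg.Geo.specialLinear (Fin 4) F).Normal := MonoidHom.normal_ker _
  rw [hn.mem_comm_iff, inv_mul_cancel_left]

end Cfsg.Agent.C6SL75
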