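import Cfsg.Prelude.Def_LieClassical
import Cfsg.Agent.Lib.C6Cplx52CoordGen
import Cfsg.Agent.Lib.C6SL75

/-!
Maximality of the normaliser of a group of symplectic type with centre of order four in dimension
eight, in the special linear and special unitary groups, from the statement about overgroups in
the model.
-/

set_option autoImplicit false
set_option linter.unusedSectionVars false
set_option linter.style.haveILetI false
set_option maxHeartbeats 1000000

namespace Cfsg.Agent.C6Cplx52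

open Matrix Cfsg.Agent.C6Plus10
open scoped MatrixGroups

variable {F : Type*} [Field F]

theorem phi_det {k : ℕ} {ι : Type} [Fintype ι] [DecidableEq ι] (L : (Pt k → F) ≃ₗ[F] (ι → F))
    (g : GL (Pt k) F) :
    (phi L g : Matrix ι ι F).det = (g : Matrix (Pt k) (Pt k) F).det := by
  have e : (phi L g : Matrix ι ι F) =
      LinearMap.toMatrix' (L.conjAlgEquiv F (Matrix.toLinAlgEquiv' (g : Matrix (Pt k) (Pt k) F))) := rfl
  rw [e, LinearEquiv.conjAlgEquiv_apply, LinearMap.det_toMatrix',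
    LinearMap.det_conj]
  exact LinearMap.det_toLin' _

/-- Maximality from the model, for ambient groups that correspond. -/
theorem maximal_of_model [Finite F] {i : Fˣ} (hi : (i : F) * i = -1) (h2 : (2 : F) ≠ 0)
    (L : (Pt 3 → F) ≃ₗ[F] (Fin 8 → F)) (R : Subgroup (GL (Fin 8) F))
    (hR : ∀ g : GL (Pt 3) F, phi L g ∈ R ↔ ∃ (a b : Pt 3) (c : ℕ), g = sc (Pt 3) (i ^ c) * pau F a b)
    (G : Subgroup (GL (Pt 3) F)) (G' : Subgroup (GL (Fin 8) F)) (hG : ∀ g, phi L g ∈ G' ↔ g ∈ G)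
    (hcyc : pm F cyc ∈ G) (hscal : sc (Pt 3) i ∈ G) (hpau : ∀ a b, pau F a b ∈ G)
    (hquad : ∀ f, Quad f → sd F f ∈ G) (haff : ∀ π, AffPerm π → pm F π ∈ G)
    (hph : ∀ l, Aff l → ph i l ∈ G) (hhad : ∀ a, hmU h2 hi a ∈ G)
    (hhh : ∀ (a b : Fin 3) (hab : a ≠ b), hhU h2 hab ∈ G)
    (hcore : ∀ M : Subgroup (GL (Pt 3) F), BaseC i M → M ≤ G → (∀ g ∈ M, Nr i g) ∨ G ≤ M) :
    Cfsg.Geo.IsMaximalIn G' (Cfsg.Geo.subgroupNormalizer R ⊓ G') := by
  have hN : ∀ g, phi L g ∈ Cfsg.Geo.subgroupNormalizer R ↔ Nr i g := by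
    intro g
    constructor
    · intro h a b
      have h1 : phi L (pau F a b) ∈ R := (hR _).2 ⟨a, b, 0, by rw [pow_zero, map_one, one_mul]⟩
      have h3 := (Subgroup.mem_normalizer_iff.1 h _).1 h1
      rw [← map_inv, ← map_mul, ← map_mul] at h3
      exact (hR _).1 h3
    · intro h
      haveI : Finite (GL (Fin 8) F) := inferInstance
      refine Subgroup.mem_normalizer_fintype fun x hx => ?_
      obtain ⟨x, rfl⟩ := (phi L).surjective x
      obtain ⟨a, b, c, rfl⟩ := (hR x).1 hx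
      obtain ⟨a', b', c', e⟩ := h a b
      show phi L g * phi L _ * (phi L g)⁻¹ ∈ R
      rw [← map_inv, ← map_mul, ← map_mul]
      refine (hR _).2 ⟨a', b', c + c', ?_⟩
      rw [sc_pull, mul_assoc, e, ← mul_assoc, ← map_mul, ← pow_add]
  have hN' : ∀ g, phi L g ∈ Cfsg.Geo.subgroupNormalizer R ⊓ G' ↔ Nr i g ∧ g ∈ G := fun g => by
    rw [Subgroup.mem_inf, hN, hG]
  refine ⟨lt_of_le_of_ne inf_le_right fun h => ?_, fun M hHM hMG => ?_⟩
  · have := (hG (pm F cyc)).2 hcyc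
    rw [← h, hN'] at this
    exact cyc_not_nr this.1
  · let M' : Subgroup (GL (Pt 3) F) := M.comap (phi L).toMonoidHom
    have hM' : M' ≤ G := fun g hg => (hG g).1 (hMG hg)
    have hin : ∀ g, Nr i g → g ∈ G → g ∈ M' := fun g h1 h3 => hHM ((hN' g).2 ⟨h1, h3⟩)
    have hB : BaseC i M' :=
      { scal := hin _ (nr_sc i) hscal
        pau := fun a b => hin _ (nr_pau hi a b) (hpau a b)
        quad := fun f hf => hin _ (Nr.of_real hi (sd_nr hf)) (hquad f hf)
        aff := fun π hπ => hin _ (Nr.of_real hi (pm_nr hπ)) (haff π hπ)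
        phase := fun l hl => hin _ (nr_ph hi hl) (hph l hl)
        had := fun a => ⟨hmU h2 hi a, hin _ (nr_hm h2 hi a) (hhad a), rfl⟩
        hh := fun a b hab =>
          ⟨hhU h2 hab, hin _ (Nr.of_real hi (hhU_nr h2 hab)) (hhh a b hab), rfl⟩ }
    rcases hcore M' hB hM' with h | h
    · refine Or.inl (le_antisymm (fun g hg => ?_) hHM)
      obtain ⟨g, rfl⟩ := (phi L).surjective g
      exact (hN' g).2 ⟨h g hg, hM' hg⟩
    · refine Or.inr (le_antisymm hMG fun g hg => ?_)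
      obtain ⟨g, rfl⟩ := (phi L).surjective g
      exact h ((hG g).1 hg)

/-- The coordinates in dimension eight. -/
theorem exists_coord_eight [Finite F] {R : Subgroup (GL (Fin 8) F)} (h2 : (2 : F) ≠ 0)
    (hRs : Cfsg.Geo.IsSymplecticTypeGroup 2 R)
    (hRi : Cfsg.Geo.ActsAbsolutelyIrreducibly (Cfsg.Geo.matrixSet R))
    (hZ : Nat.card (Subgroup.center R) = 4) :
    ∃ (i : Fˣ) (L : (Pt 3 → F) ≃ₗ[F] (Fin 8 → F)), (i : F) * i = -1 ∧
      ∀ g : GL (Pt 3) F, phi L g ∈ R ↔ ∃ (a b : Pt 3) (c : ℕ), g = sc (Pt 3) (i ^ c) * pau F a b := by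
  obtain ⟨m, i, L, hi, h⟩ := exists_coord (by norm_num)
    (SympTypeTwo.Setup.mk' h2 hRs hRi (by rw [hZ]; norm_num)) hRi.1 hZ
  obtain rfl : m = 3 := Nat.pow_right_injective le_rfl (show 2 ^ m = 2 ^ 3 by
    have := L.finrank_eq
    rwa [Module.finrank_pi, Module.finrank_pi, Fintype.card_fun, Fintype.card_fin, Fintype.card_fin,
      ZMod.card] at this)
  exact ⟨i, L, hi, h⟩

/-- The clause for the special linear group, given the statement about overgroups in the model. -/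
theorem of_core_SL [Fintype F]
    (hcore : ∀ p : ℕ, p.Prime → Fintype.card F = p → p % 4 = 1 → (2 : F) ≠ 0 →
      ∀ i : Fˣ, (i : F) * i = -1 → ∀ M : Subgroup (GL (Pt 3) F), BaseC i M →
        M ≤ Cfsg.Geo.specialLinear (Pt 3) F →
        (∀ g ∈ M, Nr i g) ∨ Cfsg.Geo.specialLinear (Pt 3) F ≤ M) :
    (∃ p : ℕ, p.Prime ∧ Fintype.card F = p ∧ (p % 4 = 1)) →
      ∀ R : Subgroup (Matrix.GeneralLinearGroup (Fin 8) F), Cfsg.Geo.IsLinearSymplecticTypeData 2 R →
        Cfsg.Geo.IsMaximalIn (Cfsg.Geo.specialLinear (Fin 8) F)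
          (Cfsg.Geo.subgroupNormalizer R ⊓ Cfsg.Geo.specialLinear (Fin 8) F) := by
  rintro ⟨p, hp, hF, hp4⟩ R hR
  have h2 : (2 : F) ≠ 0 := C6SL75.two_ne_zero' (by rw [hF, Nat.odd_iff]; omega)
  obtain ⟨p₀, e₀, -, -, hcases⟩ := hR.field
  have hZ : Nat.card (Subgroup.center R) = 4 := by
    rcases hcases with ⟨h, -⟩ | ⟨-, -, h, -⟩ | ⟨-, -, h, -⟩
    · exact absurd h (by decide)
    · exact h
    · rw [Fintype.card_fin] at h; omega
  obtain ⟨i, L, hi, hmem⟩ := exists_coord_eight h2 hR.symplecticType hR.absIrred hZ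
  exact maximal_of_model hi h2 L R hmem (Cfsg.Geo.specialLinear (Pt 3) F) _ (fun g => by rw [mem_sl, mem_sl, phi_det])
    (MonoidHom.mem_ker.2 (det_pm_comm cyc_mem h2)) (sl_sc hi) (sl_pau h2)
    (fun f hf => sl_sd hf h2) (fun π hπ => sl_pm hπ h2) (fun l hl => sl_ph hi hl) (sl_hm h2 hi)
    (fun a b hab => sl_hh h2 hab) (hcore p hp hF hp4 h2 i hi)

/-- The coordinates carry the form to a multiple of the standard one. -/
theorem form_model {q : ℕ} {σ : F →+* F} (hσ : ∀ x, σ x = x ^ q) (h2 : (2 : F) ≠ 0) {i : Fˣ}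
    (L : (Pt 3 → F) ≃ₗ[F] (Fin 8 → F)) (R : Subgroup (GL (Fin 8) F))
    (hR : ∀ g : GL (Pt 3) F, phi L g ∈ R ↔ ∃ (a b : Pt 3) (c : ℕ), g = sc (Pt 3) (i ^ c) * pau F a b)
    (hRU : R ≤ Cfsg.GU 8 F q) :
    ∃ η : F, η ≠ 0 ∧ ∀ x y, Cfsg.hermForm 8 F q (L x) (L y) = η * hf q x y := by
  classical
  have hB : ∀ u v, Cfsg.hermForm 8 F q u v = u ⬝ᵥ (σ ∘ v) := fun u v => by
    simp [Cfsg.hermForm, dotProduct, hσ]
  have hinv : ∀ a b x y, Cfsg.hermForm 8 F q (L ((pau F a b : GL (Pt 3) F).1 *ᵥ x))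
      (L ((pau F a b : GL (Pt 3) F).1 *ᵥ y)) = Cfsg.hermForm 8 F q (L x) (L y) := fun a b x y => by
    rw [← phi_mulVec, ← phi_mulVec]
    exact hRU ((hR _).2 ⟨a, b, 0, by rw [pow_zero, map_one, one_mul]⟩) (L x) (L y)
  let w : Pt 3 → Fin 8 → F := fun a => L (Pi.single a 1)
  set η := Cfsg.hermForm 8 F q (w 0) (w 0)
  have hd : ∀ a, Cfsg.hermForm 8 F q (w a) (w a) = η := fun a => by
    have := hinv a 0 (Pi.single 0 1) (Pi.single 0 1)
    simpa only [pau_single, ip_zero_left, sgn_zero, one_smul, zero_add] using this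
  have ho : ∀ a a', a ≠ a' → Cfsg.hermForm 8 F q (w a) (w a') = 0 := fun a a' hne => by
    obtain ⟨j, hj⟩ := Function.ne_iff.1 hne
    have h := hinv 0 (pe j) (Pi.single a 1) (Pi.single a' 1)
    rw [pau_single, pau_single, add_zero, add_zero, map_smul, map_smul, hB, hB, ip_pe, ip_pe] at h
    rw [show σ ∘ (sgn F (a' j) • L (Pi.single a' 1)) = sgn F (a' j) • (σ ∘ L (Pi.single a' 1)) from
      funext fun r => by simp [sigma_sgn], smul_dotProduct, dotProduct_smul, smul_eq_mul, smul_eq_mul,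
      ← mul_assoc, ← sgn_add] at h
    have hs : a j + a' j = 1 := by
      revert hj
      generalize a j = u, a' j = v
      revert u v
      decide
    rw [hs, sgn_one, ← hB] at h
    exact (mul_eq_zero.1 (show (2 : F) * Cfsg.hermForm 8 F q (w a) (w a') = 0 by
      linear_combination -h)).resolve_left h2
  have hL : ∀ x, L x = ∑ a, x a • w a := fun x => by
    conv_lhs => rw [← Finset.univ_sum_single x]
    rw [map_sum]
    refine Finset.sum_congr rfl fun a _ => ?_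
    show L (Pi.single a (x a)) = x a • L (Pi.single a 1)
    rw [← map_smul]
    congr 1
    rw [← Pi.single_smul, smul_eq_mul, mul_one]
  have hBL : ∀ x y, Cfsg.hermForm 8 F q (L x) (L y) = η * hf q x y := fun x y => by
    rw [hB, hL x, hL y, sum_dotProduct, hf, Finset.mul_sum]
    refine Finset.sum_congr rfl fun a _ => ?_
    rw [smul_dotProduct, show (σ ∘ ∑ a', y a' • w a') = ∑ a', σ (y a') • (σ ∘ w a') from
      funext fun r => by simp [Finset.sum_apply], dotProduct_sum, Finset.sum_eq_single a]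
    · rw [dotProduct_smul, ← hB, hd, hσ, smul_eq_mul, smul_eq_mul]
      ring
    · intro a' _ hne
      rw [dotProduct_smul, ← hB, ho _ _ hne.symm, smul_zero]
    · simp
  refine ⟨η, fun h0 => ?_, hBL⟩
  have hw : w 0 ≠ 0 := fun e => by
    have := congrFun (L.map_eq_zero_iff.1 e) 0
    simp at this
  obtain ⟨r, hr⟩ := Function.ne_iff.1 hw
  obtain ⟨y, hy⟩ := L.surjective (Pi.single r 1)
  have h1 : Cfsg.hermForm 8 F q (w 0) (Pi.single r 1) = 0 := by rw [← hy, hBL, h0, zero_mul]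
  rw [hB, show σ ∘ (Pi.single r (1 : F) : Fin 8 → F) = Pi.single r 1 from funext fun s => by
    by_cases hs : s = r
    · subst hs; simp
    · simp [hs], dotProduct_single, mul_one] at h1
  exact hr h1

/-- The clause for the special unitary group, given the statement about overgroups in the model. -/
theorem of_core_SU [Fintype F] (q : ℕ) (hF : Fintype.card F = q ^ 2)
    (hcore : q.Prime → q % 4 = 3 → (2 : F) ≠ 0 →
      ∀ i : Fˣ, (i : F) * i = -1 → (i : F) ^ q = -i → ∀ M : Subgroup (GL (Pt 3) F), BaseC i M →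
        M ≤ suM q F 3 → (∀ g ∈ M, Nr i g) ∨ suM q F 3 ≤ M) :
    ∀ (p : ℕ) (R : Subgroup (Matrix.GeneralLinearGroup (Fin 8) F)), p.Prime → q = p → p % 4 = 3 →
      Cfsg.Geo.IsSymplecticTypeGroup 2 R →
      Cfsg.Geo.ActsAbsolutelyIrreducibly (Cfsg.Geo.matrixSet R) → R ≤ Cfsg.GU 8 F q →
      Nat.card R = 256 → Nat.card (Subgroup.center R) = 4 →
      Cfsg.Geo.IsMaximalIn (Cfsg.GU 8 F q ⊓ Cfsg.Geo.specialLinear (Fin 8) F)
        (Cfsg.Geo.subgroupNormalizer R ⊓ (Cfsg.GU 8 F q ⊓ Cfsg.Geo.specialLinear (Fin 8) F)) := by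
  intro p R hp hqp hp4 hRs hRi hRU _ hZ
  subst hqp
  have h2 : (2 : F) ≠ 0 :=
    C6SL75.two_ne_zero' (by rw [hF, Nat.odd_iff, Nat.pow_mod]; rw [show q % 2 = 1 by omega])
  haveI : Fact q.Prime := ⟨hp⟩
  obtain ⟨σ, hσ⟩ := OrthUnitaryHerm.exists_frobHom hF
  obtain ⟨i, L, hi, hmem⟩ := exists_coord_eight h2 hRs hRi hZ
  obtain ⟨η, hη, hBL⟩ := form_model hσ h2 L R hmem hRU
  have hiq : (i : F) ^ q = -i := by
    have h := hRU ((hmem (sc (Pt 3) i)).2 ⟨0, 0, 1, by
      rw [pow_one, pau, show ip (0 : Pt 3) = 0 from funext ip_zero_left, sd_zero, Equiv.addRight_zero, pm_one, mul_one, mul_one]⟩)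
      (L (Pi.single 0 1)) (L (Pi.single 0 1))
    simp only [Units.coeHom_apply, phi_mulVec, sc_mulVec, hBL] at h
    have h1 : hf q ((i : F) • Pi.single (0 : Pt 3) (1 : F)) ((i : F) • Pi.single 0 1) =
        (i : F) * (i : F) ^ q := by
      rw [hf, Finset.sum_eq_single (0 : Pt 3)]
      · simp
      · intro b _ hb; simp [hb]
      · simp
    have h0 : hf q (Pi.single (0 : Pt 3) (1 : F)) (Pi.single 0 1) = 1 := by
      rw [hf, Finset.sum_eq_single (0 : Pt 3)]
      · simp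
      · intro b _ hb; simp [hb]
      · simp
    rw [h1, h0] at h
    have h' : (i : F) * (i : F) ^ q = 1 := mul_left_cancel₀ hη h
    linear_combination (-(i : F)) * h' + ((i : F) ^ q) * hi
  refine maximal_of_model hi h2 L R hmem (suM q F 3) _ (fun g => ?_)
    ⟨su_pm hσ h2 _, MonoidHom.mem_ker.2 (det_pm_comm cyc_mem h2)⟩
    ⟨su_sc hσ hi hiq, sl_sc hi⟩
    (fun a b => ⟨mul_mem (su_pm hσ h2 _) (su_sd hσ h2 _), sl_pau h2 a b⟩)
    (fun f hf => ⟨su_sd hσ h2 f, sl_sd hf h2⟩) (fun π hπ => ⟨su_pm hσ h2 π, sl_pm hπ h2⟩)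
    (fun l hl => ⟨su_ph hσ hi hiq l, sl_ph hi hl⟩) (fun a => ⟨su_hm hσ h2 hi hiq a, sl_hm h2 hi a⟩)
    (fun a b hab => ⟨su_hh hσ h2 hab, sl_hh h2 hab⟩) (hcore hp hp4 h2 i hi hiq)
  rw [mem_suM, Subgroup.mem_inf, mem_sl, phi_det]
  refine and_congr ⟨fun h x y => ?_, fun h u v => ?_⟩ Iff.rfl
  · have := h (L x) (L y)
    simp only [Units.coeHom_apply, phi_mulVec, hBL] at this
    exact mul_left_cancel₀ hη this
  · obtain ⟨x, rfl⟩ := L.surjective u
    obtain ⟨y, rfl⟩ := L.surjective v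
    simp only [Units.coeHom_apply, phi_mulVec, hBL, h x y]

end Cfsg.Agent.C6Cplx52
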