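import Mathlib

/-!
The real Clifford model: signed permutations of the points of a binary space, the extraspecial group of
plus type formed by them, its normaliser, and the generators supplied to an overgroup.
-/

set_option autoImplicit false
set_option linter.unusedSectionVars false

namespace Cfsg.Agent.C6Plus10

open Matrix
open scoped MatrixGroups

variable {F : Type*} [Field F] {k : ℕ}

/-- The points, indexing the coordinates. -/
abbrev Pt (k : ℕ) : Type := Fin k → ZMod 2

/-- The sign attached to a bit. -/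
def sgn (F : Type*) [Field F] (a : ZMod 2) : F := if a = 0 then 1 else -1

@[simp] theorem sgn_zero : sgn F 0 = 1 := if_pos rfl

theorem sgn_one : sgn F 1 = -1 := if_neg one_ne_zero

theorem sgn_add (a b : ZMod 2) : sgn F (a + b) = sgn F a * sgn F b := by
  rcases (show ∀ c : ZMod 2, c = 0 ∨ c = 1 by decide) a with rfl | rfl <;>
    rcases (show ∀ c : ZMod 2, c = 0 ∨ c = 1 by decide) b with rfl | rfl <;>
      simp [sgn_one, show (1 : ZMod 2) + 1 = 0 by decide]

@[simp] theorem sgn_mul_self (a : ZMod 2) : sgn F a * sgn F a = 1 := by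
  rw [← sgn_add, CharTwo.add_self_eq_zero, sgn_zero]

theorem sgn_ne_zero (a : ZMod 2) : sgn F a ≠ 0 := fun h => by
  simpa [h] using sgn_mul_self (F := F) a

theorem sgn_inj (h2 : (2 : F) ≠ 0) {a b : ZMod 2} (h : sgn F a = sgn F b) : a = b := by
  have hne : (1 : F) ≠ -1 := fun e => h2 (by linear_combination e)
  rcases (show ∀ c : ZMod 2, c = 0 ∨ c = 1 by decide) a with rfl | rfl <;>
    rcases (show ∀ c : ZMod 2, c = 0 ∨ c = 1 by decide) b with rfl | rfl <;>
      simp_all [sgn_one, eq_comm]

/-- The difference of a function in a direction. -/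
def dl (a : Pt k) (f : Pt k → ZMod 2) : Pt k → ZMod 2 := fun x => f (x + a) + f x

/-- Affine functions. -/
def Aff (f : Pt k → ZMod 2) : Prop := ∀ a b x, dl a (dl b f) x = 0

/-- Functions of degree at most two. -/
def Quad (f : Pt k → ZMod 2) : Prop := ∀ a b c x, dl a (dl b (dl c f)) x = 0

/-- Affine permutations. -/
def AffPerm (π : Equiv.Perm (Pt k)) : Prop := ∀ x y z, π (x + y + z) = π x + π y + π z

/-- The pairing of the binary space. -/
def ip (a x : Pt k) : ZMod 2 := a ⬝ᵥ x

theorem ip_add_right (a x y : Pt k) : ip a (x + y) = ip a x + ip a y := dotProduct_add a x y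

theorem ip_add_left (a b x : Pt k) : ip (a + b) x = ip a x + ip b x := add_dotProduct a b x

/-- A diagonal matrix of signs. -/
noncomputable def sd (F : Type*) [Field F] (f : Pt k → ZMod 2) : GL (Pt k) F where
  val := Matrix.diagonal fun x => sgn F (f x)
  inv := Matrix.diagonal fun x => sgn F (f x)
  val_inv := by rw [Matrix.diagonal_mul_diagonal]; simp
  inv_val := by rw [Matrix.diagonal_mul_diagonal]; simp

theorem sd_mulVec (f : Pt k → ZMod 2) (v : Pt k → F) (x : Pt k) :
    ((sd F f : GL (Pt k) F) : Matrix (Pt k) (Pt k) F) *ᵥ v = fun y => sgn F (f y) * v y :=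
  funext fun _ => Matrix.mulVec_diagonal _ _ _

theorem sd_mul (f g : Pt k → ZMod 2) : sd F f * sd F g = sd F (f + g) := by
  refine Units.ext ?_
  show Matrix.diagonal _ * Matrix.diagonal _ = Matrix.diagonal _
  rw [Matrix.diagonal_mul_diagonal]
  simp [sgn_add]

theorem sd_zero : sd F (0 : Pt k → ZMod 2) = 1 := Units.ext (by simp [sd])

theorem sd_inv (f : Pt k → ZMod 2) : (sd F f)⁻¹ = sd F f := Units.ext rfl

theorem sd_inj (h2 : (2 : F) ≠ 0) {f g : Pt k → ZMod 2} (h : sd F f = sd F g) : f = g := by
  have h' := congrArg (fun u : GL (Pt k) F => (u : Matrix (Pt k) (Pt k) F)) h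
  funext x
  exact sgn_inj h2 (by simpa [sd] using congrFun (Matrix.diagonal_injective h') x)

/-- A permutation matrix, sending the coordinate vector at `x` to the one at `π x`. -/
noncomputable def pm (F : Type*) [Field F] (π : Equiv.Perm (Pt k)) : GL (Pt k) F where
  val := Matrix.of fun x y => if x = π y then 1 else 0
  inv := Matrix.of fun x y => if π x = y then 1 else 0
  val_inv := by
    ext x y
    rw [Matrix.mul_apply, Matrix.one_apply, Finset.sum_eq_single (π.symm x)]
    · simp
    · intro z _ hz
      simp [show ¬ x = π z from fun e => hz (by simp [e])]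
    · simp
  inv_val := by
    ext x y
    rw [Matrix.mul_apply, Matrix.one_apply, Finset.sum_eq_single (π x)]
    · simp [π.injective.eq_iff]
    · intro z _ hz
      simp [Ne.symm hz]
    · simp

theorem pm_apply (π : Equiv.Perm (Pt k)) (x y : Pt k) :
    ((pm F π : GL (Pt k) F) : Matrix (Pt k) (Pt k) F) x y = if x = π y then 1 else 0 := rfl

theorem pm_mul (π ρ : Equiv.Perm (Pt k)) : pm F π * pm F ρ = pm F (π * ρ) := by
  refine Units.ext (Matrix.ext fun x y => ?_)
  rw [Units.val_mul, Matrix.mul_apply, Finset.sum_eq_single (ρ y)]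
  · simp [pm_apply]
    try congr
  · intro z _ hz
    simp [pm_apply, hz]
  · simp

theorem pm_one : pm F (1 : Equiv.Perm (Pt k)) = 1 :=
  Units.ext (Matrix.ext fun x y => by simp [pm_apply, Matrix.one_apply]; try congr)

theorem pm_inv (π : Equiv.Perm (Pt k)) : (pm F π)⁻¹ = pm F π⁻¹ :=
  inv_eq_of_mul_eq_one_right (by rw [pm_mul, mul_inv_cancel, pm_one])

theorem pm_sd (π : Equiv.Perm (Pt k)) (f : Pt k → ZMod 2) : pm F π * sd F f = sd F (f ∘ π.symm) * pm F π := by
  refine Units.ext (Matrix.ext fun x y => ?_)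
  show (_ * Matrix.diagonal _ : Matrix (Pt k) (Pt k) F) x y = (Matrix.diagonal _ * _ : Matrix (Pt k) (Pt k) F) x y
  rw [Matrix.mul_diagonal, Matrix.diagonal_mul, pm_apply]
  by_cases h : x = π y
  · simp [h]
  · simp [h]

/-- The elements of the extraspecial group, up to sign: a translation after linear signs. -/
noncomputable def pau (F : Type*) [Field F] (a b : Pt k) : GL (Pt k) F :=
  pm F (Equiv.addRight a) * sd F (ip b)

/-- The normaliser of the extraspecial group. -/
def Nr (g : GL (Pt k) F) : Prop :=
  ∀ a b, ∃ (a' b' : Pt k) (c : ZMod 2), g * pau F a b * g⁻¹ = sd F (fun _ => c) * pau F a' b'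

/-- The product of the Hadamard matrices at two positions. -/
noncomputable def hh (F : Type*) [Field F] (a b : Fin k) : Matrix (Pt k) (Pt k) F :=
  Matrix.of fun x y =>
    if ∀ i, i ≠ a → i ≠ b → x i = y i then (2 : F)⁻¹ * sgn F (x a * y a + x b * y b) else 0

/-- An overgroup of the normaliser inside the derived orthogonal group: what is used of it. -/
structure Base (M : Subgroup (GL (Pt k) F)) : Prop where
  iso : ∀ g ∈ M, (g : Matrix (Pt k) (Pt k) F)ᵀ * (g : Matrix (Pt k) (Pt k) F) = 1
  quad : ∀ f, Quad f → sd F f ∈ M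
  aff : ∀ π, AffPerm π → pm F π ∈ M
  had : ∀ a b, a ≠ b → ∃ u ∈ M, (u : Matrix (Pt k) (Pt k) F) = hh F a b

/-- Every diagonal element has quadratic signs. -/
def Signs (M : Subgroup (GL (Pt k) F)) : Prop := ∀ f, sd F f ∈ M → Quad f

end Cfsg.Agent.C6Plus10
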