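import Cfsg.Prelude.Def_GeometricClasses
import Cfsg.Agent.Lib.C6Plus10Defs

/-!
The Clifford model of complex type in dimension eight: scalar fourth roots of unity times signed
translations, the properties used of an overgroup of its normaliser, and the two ambient groups.
-/

set_option autoImplicit false
set_option linter.unusedSectionVars false

namespace Cfsg.Agent.C6Cplx52

open Matrix Cfsg.Agent.C6Plus10
open scoped MatrixGroups

variable {F : Type*} [Field F] {k : ℕ} {ι : Type} [Fintype ι] [DecidableEq ι]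

/-- A scalar as an element of the general linear group. -/
def sc (ι : Type) [Fintype ι] [DecidableEq ι] {F : Type*} [Field F] : Fˣ →* GL ι F :=
  Units.map (algebraMap F (Matrix ι ι F)).toMonoidHom

theorem sc_val (c : Fˣ) :
    ((sc ι c : GL ι F) : Matrix ι ι F) = (c : F) • (1 : Matrix ι ι F) :=
  Algebra.algebraMap_eq_smul_one _

theorem sc_mulVec (c : Fˣ) (v : ι → F) : (sc ι c : Matrix ι ι F) *ᵥ v = (c : F) • v := by
  rw [sc_val, smul_mulVec, one_mulVec]

theorem sc_comm (c : Fˣ) (g : GL ι F) : g * sc ι c = sc ι c * g :=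
  Units.ext (by rw [Units.val_mul, Units.val_mul, sc_val, mul_smul_comm, smul_mul_assoc, one_mul, mul_one])

theorem sc_pull (c : Fˣ) (g h : GL ι F) : g * (sc ι c * h) = sc ι c * (g * h) := by
  rw [← mul_assoc, sc_comm, mul_assoc]

/-- The normaliser of the group of complex type. -/
def Nr (i : Fˣ) (g : GL (Pt k) F) : Prop :=
  ∀ a b, ∃ (a' b' : Pt k) (c : ℕ), g * pau F a b * g⁻¹ = sc (Pt k) (i ^ c) * pau F a' b'

/-- The phases attached to a bit-valued function. -/
def ph (i : Fˣ) (l : Pt k → ZMod 2) : GL (Pt k) F where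
  val := Matrix.diagonal fun x => ((i ^ (l x).val : Fˣ) : F)
  inv := Matrix.diagonal fun x => (((i ^ (l x).val)⁻¹ : Fˣ) : F)
  val_inv := by rw [Matrix.diagonal_mul_diagonal]; simp
  inv_val := by rw [Matrix.diagonal_mul_diagonal]; simp

theorem ph_mulVec (i : Fˣ) (l : Pt k → ZMod 2) (v : Pt k → F) :
    ((ph i l : GL (Pt k) F) : Matrix (Pt k) (Pt k) F) *ᵥ v =
      fun x => ((i ^ (l x).val : Fˣ) : F) * v x :=
  funext fun _ => Matrix.mulVec_diagonal _ _ _

/-- The form: a sum of products with the conjugates. -/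
def hf (q : ℕ) (u v : Pt k → F) : F := ∑ x, u x * v x ^ q

/-- The special unitary group of the model. -/
def suM (q : ℕ) (F : Type*) [Field F] (k : ℕ) : Subgroup (GL (Pt k) F) :=
  Cfsg.preserving (Units.coeHom (Matrix (Pt k) (Pt k) F)) (hf q) ⊓ Cfsg.Geo.specialLinear (Pt k) F

theorem mem_suM {q : ℕ} {g : GL (Pt k) F} : g ∈ suM q F k ↔
    (∀ u v, hf q ((g : Matrix (Pt k) (Pt k) F) *ᵥ u) ((g : Matrix (Pt k) (Pt k) F) *ᵥ v) = hf q u v) ∧
      (g : Matrix (Pt k) (Pt k) F).det = 1 := by
  refine and_congr Iff.rfl ⟨fun h => ?_, fun h => Units.ext ?_⟩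
  · rw [← Matrix.GeneralLinearGroup.val_det_apply, show Matrix.GeneralLinearGroup.det g = 1 from h,
      Units.val_one]
  · rw [Matrix.GeneralLinearGroup.val_det_apply, h, Units.val_one]

/-- An overgroup of the normaliser in the determinant one group: what is used of it. The Hadamard
matrix at one position comes with the factor `(1 + i) / 2`. -/
structure BaseC (i : Fˣ) (M : Subgroup (GL (Pt k) F)) : Prop where
  scal : sc (Pt k) i ∈ M
  pau : ∀ a b, pau F a b ∈ M
  quad : ∀ f, Quad f → sd F f ∈ M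
  aff : ∀ π, AffPerm π → pm F π ∈ M
  phase : ∀ l, Aff l → ph i l ∈ M
  had : ∀ a : Fin k, ∃ u ∈ M, (u : Matrix (Pt k) (Pt k) F) =
    ((1 + (i : F)) * (2 : F)⁻¹) • Matrix.of fun x y : Pt k =>
      if ∀ j, j ≠ a → x j = y j then sgn F (x a * y a) else 0
  hh : ∀ a b, a ≠ b → ∃ u ∈ M, (u : Matrix (Pt k) (Pt k) F) = hh F a b

end Cfsg.Agent.C6Cplx52
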