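import Cfsg.Agent.Lib.C6Plus10Defs

/-!
Signed permutations of the points, functions of low degree, and the consequences of having only quadratic
diagonal signs in an overgroup.
-/

set_option autoImplicit false
set_option linter.unusedSectionVars false

namespace Cfsg.Agent.C6Plus10

open Matrix
open scoped MatrixGroups

variable {F : Type*} [Field F] {k : ℕ}

theorem zm_cases (c : ZMod 2) : c = 0 ∨ c = 1 := (show ∀ c : ZMod 2, c = 0 ∨ c = 1 by decide) c

theorem pt_add_self (a : Pt k) : a + a = 0 := funext fun _ => CharTwo.add_self_eq_zero _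

theorem pt_add_cancel (x a : Pt k) : x + a + a = x := by rw [add_assoc, pt_add_self, add_zero]

/-- A unit point. -/
def pe (i : Fin k) : Pt k := Pi.single i 1

@[simp] theorem pe_self (i : Fin k) : pe i i = 1 := by simp [pe]

theorem pe_ne {i j : Fin k} (h : j ≠ i) : pe i j = 0 := by simp [pe, h]

theorem ip_pe (i : Fin k) (x : Pt k) : ip (pe i) x = x i := by simp [ip, pe]

theorem ip_zero_left (x : Pt k) : ip (0 : Pt k) x = 0 := zero_dotProduct x

theorem ip_eq_sum (a x : Pt k) : ip a x = ∑ i, a i * x i := rfl

/-! ### Degree -/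

theorem dl_apply (a : Pt k) (f : Pt k → ZMod 2) (x : Pt k) : dl a f x = f (x + a) + f x := rfl

theorem aff_const (c : ZMod 2) : Aff (fun _ : Pt k => c) := fun a b x => by
  simp [dl, CharTwo.add_self_eq_zero]

theorem aff_ip (a : Pt k) : Aff (ip a) := fun b c x => by
  simp only [dl_apply, ip_add_right]
  grind

theorem Aff.add {f g : Pt k → ZMod 2} (hf : Aff f) (hg : Aff g) : Aff (fun x => f x + g x) := fun a b x => by
  have h1 := hf a b x
  have h2 := hg a b x
  simp only [dl_apply] at h1 h2 ⊢
  linear_combination h1 + h2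

theorem Aff.quad {f : Pt k → ZMod 2} (hf : Aff f) : Quad f := fun a b c x => by
  rw [dl_apply, hf b c, hf b c, add_zero]

theorem Quad.add {f g : Pt k → ZMod 2} (hf : Quad f) (hg : Quad g) : Quad (fun x => f x + g x) := fun a b c x => by
  have h1 := hf a b c x
  have h2 := hg a b c x
  simp only [dl_apply] at h1 h2 ⊢
  linear_combination h1 + h2

theorem Aff.mul {f g : Pt k → ZMod 2} (hf : Aff f) (hg : Aff g) : Quad (fun x => f x * g x) := fun a b c x => by
  have e1 : ∀ y z w, f (y + z + w) = f (y + z) + f (y + w) + f y := fun y z w => by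
    have := hf z w y
    simp only [dl_apply] at this
    grind
  have e2 : ∀ y z w, g (y + z + w) = g (y + z) + g (y + w) + g y := fun y z w => by
    have := hg z w y
    simp only [dl_apply] at this
    grind
  simp only [dl_apply, e1, e2]
  grind

theorem quad_mul_coord {i j : Fin k} : Quad (fun x : Pt k => x i * x j) := by
  simpa only [ip_pe] using (aff_ip (pe i)).mul (aff_ip (pe j))

/-- A factor not depending on a coordinate loses one degree. -/
theorem aff_of_mul {l : Fin k} {s : Pt k → ZMod 2} (hl : ∀ x, s (x + pe l) = s x)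
    (h : Quad (fun x => s x * x l)) : Aff s := fun a b x => by
  have h' := h a b (pe l) x
  simp only [dl_apply, Pi.add_apply, pe_self, hl] at h'
  simp only [dl_apply]
  grind

/-- An affine function stays affine after multiplying by a coordinate only if it depends on that one alone. -/
theorem dl_eq_zero_of_mul {i l : Fin k} (hil : i ≠ l) {s : Pt k → ZMod 2} (hs : Aff s)
    (h : Aff (fun x => s x * x l)) (x : Pt k) : dl (pe i) s x = 0 := by
  have h' := h (pe l) (pe i) x
  have h'' := hs (pe l) (pe i) x
  simp only [dl_apply, Pi.add_apply, pe_self, pe_ne (Ne.symm hil), add_zero] at h' h''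
  simp only [dl_apply]
  grind

/-- A function without differences is constant. -/
theorem const_of_dl {s : Pt k → ZMod 2} (h : ∀ i x, dl (pe i) s x = 0) (x : Pt k) : s x = s 0 := by
  have key : ∀ A : Finset (Fin k), ∀ y, s (y + ∑ i ∈ A, pe i) = s y := by
    intro A
    induction A using Finset.induction_on with
    | empty => simp
    | @insert a A ha ih =>
      intro y
      rw [Finset.sum_insert ha, add_comm (pe a), ← add_assoc]
      have := h a (y + ∑ i ∈ A, pe i)
      rw [dl_apply, CharTwo.add_eq_zero] at this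
      rw [this, ih]
  have hx : (0 : Pt k) + ∑ i ∈ Finset.univ.filter (fun i => x i = 1), pe i = x := by
    funext j
    rcases zm_cases (x j) with hj | hj <;> simp [pe, Finset.sum_apply, Pi.single_apply, hj]
  conv_lhs => rw [← hx]
  exact key _ 0

/-! ### Signed permutations -/

/-- A signed permutation. -/
noncomputable def mon (F : Type*) [Field F] (π : Equiv.Perm (Pt k)) (f : Pt k → ZMod 2) : GL (Pt k) F :=
  pm F π * sd F f

theorem mon_apply (π : Equiv.Perm (Pt k)) (f : Pt k → ZMod 2) (x y : Pt k) :
    ((mon F π f : GL (Pt k) F) : Matrix (Pt k) (Pt k) F) x y = if x = π y then sgn F (f y) else 0 := by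
  rw [mon, Units.val_mul]
  show (_ * Matrix.diagonal _ : Matrix (Pt k) (Pt k) F) x y = _
  rw [Matrix.mul_diagonal, pm_apply]
  split_ifs <;> simp

theorem mon_mul (π ρ : Equiv.Perm (Pt k)) (f g : Pt k → ZMod 2) :
    mon F π f * mon F ρ g = mon F (π * ρ) (fun y => f (ρ y) + g y) := by
  have h := pm_sd (F := F) ρ (fun y => f (ρ y))
  rw [show (fun y => f (ρ y)) ∘ ρ.symm = f from funext fun y => by simp] at h
  calc mon F π f * mon F ρ g = pm F π * (sd F f * pm F ρ) * sd F g := by simp only [mon, mul_assoc]
    _ = _ := by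
      rw [← h, mon, ← pm_mul]
      simp only [mul_assoc, sd_mul]
      rfl

theorem mon_one_left (f : Pt k → ZMod 2) : mon F 1 f = sd F f := by rw [mon, pm_one, one_mul]

theorem mon_zero (π : Equiv.Perm (Pt k)) : mon F π (fun _ => 0) = pm F π := by
  rw [mon, show (fun _ : Pt k => (0 : ZMod 2)) = 0 from rfl, sd_zero, mul_one]

theorem mon_inv (π : Equiv.Perm (Pt k)) (f : Pt k → ZMod 2) : (mon F π f)⁻¹ = mon F π⁻¹ (fun y => f (π⁻¹ y)) := by
  refine inv_eq_of_mul_eq_one_right ?_
  rw [mon_mul, mul_inv_cancel, mon_one_left]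
  simp only [CharTwo.add_self_eq_zero]
  exact sd_zero

theorem mon_inj (h2 : (2 : F) ≠ 0) {π ρ : Equiv.Perm (Pt k)} {f g : Pt k → ZMod 2}
    (h : mon F π f = mon F ρ g) : π = ρ ∧ f = g := by
  have h' : ∀ x y, (if x = π y then sgn F (f y) else 0 : F) = if x = ρ y then sgn F (g y) else 0 := fun x y => by
    rw [← mon_apply, ← mon_apply, h]
  have hπ : π = ρ := Equiv.ext fun y => by
    by_contra hne
    have := h' (π y) y
    rw [if_pos rfl, if_neg hne] at this
    exact sgn_ne_zero _ this
  subst hπ
  refine ⟨rfl, funext fun y => sgn_inj h2 ?_⟩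
  simpa using h' (π y) y

theorem mon_conj_sd (π : Equiv.Perm (Pt k)) (f g : Pt k → ZMod 2) :
    mon F π f * sd F g * (mon F π f)⁻¹ = sd F (g ∘ π.symm) := by
  rw [← mon_one_left, mon_mul, mon_inv, mon_mul, ← mon_one_left (g ∘ π.symm)]
  congr 1
  · simp
  · funext y
    simp [Equiv.Perm.coe_inv]
    grind

/-- The translation part of an element of the extraspecial group. -/
theorem pau_eq (a b : Pt k) : pau F a b = mon F (Equiv.addRight a) (ip b) := rfl

theorem pau_mul (a b a' b' : Pt k) :
    pau F a b * pau F a' b' = sd F (fun _ => ip b a') * pau F (a + a') (b + b') := by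
  rw [pau_eq, pau_eq, pau_eq, ← mon_one_left, mon_mul, mon_mul]
  congr 1
  · ext1 y
    simp [Equiv.Perm.mul_apply, add_assoc, add_comm a a']
  · funext y
    simp only [Equiv.coe_addRight, ip_add_right, ip_add_left]
    grind

theorem pau_zero : pau F (0 : Pt k) 0 = 1 := by
  rw [pau_eq, show (Equiv.addRight (0 : Pt k)) = 1 from Equiv.ext fun x => by simp, mon_one_left,
    show ip (0 : Pt k) = 0 from funext ip_zero_left, sd_zero]

theorem pau_sd (b : Pt k) : pau F 0 b = sd F (ip b) := by
  rw [pau_eq, show (Equiv.addRight (0 : Pt k)) = 1 from Equiv.ext fun x => by simp, mon_one_left]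

/-- A sign is central. -/
theorem sd_const_mul (c : ZMod 2) (g : GL (Pt k) F) : sd F (fun _ => c) * g = g * sd F (fun _ => c) := by
  refine Units.ext (Matrix.ext fun x y => ?_)
  show (Matrix.diagonal _ * _ : Matrix (Pt k) (Pt k) F) x y = (_ * Matrix.diagonal _ : Matrix (Pt k) (Pt k) F) x y
  rw [Matrix.diagonal_mul, Matrix.mul_diagonal, mul_comm]

/-! ### Consequences of quadratic signs -/

variable {M : Subgroup (GL (Pt k) F)}

/-- Signed permutations of the overgroup preserve the quadratic functions. -/
theorem quad_comp (hM : Base M) (hS : Signs M) {π : Equiv.Perm (Pt k)} {f g : Pt k → ZMod 2}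
    (h : mon F π f ∈ M) (hg : Quad g) : Quad (g ∘ π) := by
  refine hS _ ?_
  have h' := M.mul_mem (M.mul_mem (M.inv_mem h) (hM.quad g hg)) h
  rw [mon_inv, ← mon_one_left g, mon_mul, mon_mul] at h'
  rw [← mon_one_left]
  convert h' using 2
  · simp
  · funext y
    simp [Equiv.Perm.coe_inv]
    grind

/-- A translation along one coordinate by a function of the others has affine amount. -/
theorem aff_shift (hM : Base M) (hS : Signs M) {π : Equiv.Perm (Pt k)} {f s : Pt k → ZMod 2} {i l : Fin k}
    (h : mon F π f ∈ M) (hi : ∀ y, π y i = y i + s y) (hl : ∀ y, π y l = y l)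
    (hs : ∀ y, s (y + pe l) = s y) : Aff s := by
  refine aff_of_mul hs ?_
  have h1 := (quad_comp hM hS h (quad_mul_coord (i := i) (j := l))).add (quad_mul_coord (i := i) (j := l))
  refine (show (fun x : Pt k => s x * x l) =
    fun x => ((fun y : Pt k => y i * y l) ∘ π) x + x i * x l from ?_) ▸ h1
  funext x
  simp [hi, hl]
  grind

theorem quad_of_mon (hM : Base M) (hS : Signs M) {π : Equiv.Perm (Pt k)} {f : Pt k → ZMod 2} (hπ : AffPerm π)
    (h : mon F π f ∈ M) : Quad f := by
  refine hS _ ?_
  have h' := M.mul_mem (M.inv_mem (hM.aff π hπ)) h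
  rwa [mon, inv_mul_cancel_left] at h'

end Cfsg.Agent.C6Plus10
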