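import Mathlib
import Cfsg.Agent.Lib.OmegaDecomp
import Cfsg.Agent.Lib.OrthUnitarySimple

/-!
The sum of squares and the group of monomial isometries inside its derived orthogonal group.
-/

set_option autoImplicit false
set_option linter.unusedSectionVars false

namespace Cfsg.Agent.Frame10

open QuadraticMap
open Cfsg.Agent.OrthUnitaryQuad Cfsg.Agent.OrthUnitaryRefl Cfsg.Agent.OmegaDecomp
open scoped Matrix

variable {F : Type*} [Field F] {ι : Type*} [Fintype ι] [DecidableEq ι]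

/-- The sum of squares. -/
noncomputable def sq (F : Type*) [Field F] (ι : Type*) [Fintype ι] : QuadraticForm F (ι → F) :=
  QuadraticMap.weightedSumSquares F (fun _ => (1 : F))

/-- A coordinate vector. -/
def ax (i : ι) : ι → F := Pi.single i 1

theorem sq_apply (x : ι → F) : sq F ι x = x ⬝ᵥ x := by
  simp [sq, QuadraticMap.weightedSumSquares_apply, dotProduct]

theorem polar_sq (x y : ι → F) : polar (sq F ι) x y = 2 * (x ⬝ᵥ y) := by
  rw [polar, sq_apply, sq_apply, sq_apply, add_dotProduct, dotProduct_add, dotProduct_add, dotProduct_comm y x]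
  ring

theorem nondegenerate (h2 : (2 : F) ≠ 0) : (polarBilin (sq F ι)).Nondegenerate := by
  have key : ∀ x : ι → F, (∀ y, polar (sq F ι) x y = 0) → x = 0 := fun x hx => funext fun i => by
    have h := hx (ax i)
    rw [polar_sq, ax, dotProduct_single, mul_one] at h
    exact (mul_eq_zero.1 h).resolve_left h2
  exact ⟨fun x hx => key x hx, fun y hy => key y fun x => (polar_comm _ y x).trans (hy x)⟩

theorem dot_ax (i : ι) (x : ι → F) : ax i ⬝ᵥ x = x i := by simp [ax]

theorem dot_ax' (i : ι) (x : ι → F) : x ⬝ᵥ ax i = x i := by simp [ax]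

theorem ax_self (i : ι) : (ax i : ι → F) i = 1 := by simp [ax]

theorem ax_ne {i j : ι} (h : j ≠ i) : (ax i : ι → F) j = 0 := by simp [ax, h]

/-- The reflection, written with the dot product. -/
def rv (v x : ι → F) : ι → F := x - (2 * (v ⬝ᵥ x) / (v ⬝ᵥ v)) • v

theorem refl_rv {v : ι → F} (hv : sq F ι v ≠ 0) (x : ι → F) : (refl (sq F ι) v hv).1 x = rv v x := by
  rw [refl_apply, polar_sq, sq_apply, rv, div_eq_inv_mul]

theorem rv_dot {v : ι → F} (hv : v ⬝ᵥ v ≠ 0) (x y : ι → F) : rv v x ⬝ᵥ rv v y = x ⬝ᵥ y := by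
  simp only [rv, sub_dotProduct, dotProduct_sub, smul_dotProduct, dotProduct_smul, smul_eq_mul,
    dotProduct_comm x v]
  field_simp
  ring

theorem rv_rv {v : ι → F} (hv : v ⬝ᵥ v ≠ 0) (x : ι → F) : rv v (rv v x) = x := by
  funext i
  simp only [rv, Pi.sub_apply, Pi.smul_apply, smul_eq_mul, dotProduct_sub, dotProduct_smul]
  field_simp
  ring

theorem rv_ax (i : ι) (x : ι → F) : rv (ax i) x = Function.update x i (-(x i)) := by
  funext j
  rw [rv, dot_ax, dot_ax, ax_self, Pi.sub_apply, Pi.smul_apply, smul_eq_mul, div_one]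
  rcases eq_or_ne j i with rfl | h
  · rw [Function.update_self, ax_self]; ring
  · rw [Function.update_of_ne h, ax_ne h]; ring

/-- The difference of two coordinate vectors. -/
def df (i j : ι) : ι → F := ax i - ax j

theorem df_self {i j : ι} (h : i ≠ j) : df (F := F) i j ⬝ᵥ df i j = 2 := by
  simp only [df, sub_dotProduct, dot_ax, Pi.sub_apply, ax_self, ax_ne h, ax_ne h.symm]
  norm_num

theorem rv_df (h2 : (2 : F) ≠ 0) {i j : ι} (h : i ≠ j) (x : ι → F) :
    rv (df i j) x = x ∘ Equiv.swap i j := by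
  funext k
  rw [rv, df_self h, mul_div_cancel_left₀ _ h2]
  simp only [df, sub_dotProduct, dot_ax, Pi.sub_apply, Pi.smul_apply, smul_eq_mul, Function.comp_apply]
  rcases eq_or_ne k i with rfl | hki
  · rw [ax_self, ax_ne h, Equiv.swap_apply_left]; ring
  rcases eq_or_ne k j with rfl | hkj
  · rw [ax_self, ax_ne hki, Equiv.swap_apply_right]; ring
  rw [ax_ne hki, ax_ne hkj, Equiv.swap_apply_of_ne_of_ne hki hkj]
  ring

/-- A monomial map sends coordinate vectors to multiples of coordinate vectors. -/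
def Mono (g : orth (sq F ι)) : Prop := ∀ i, ∃ j, ∃ c : F, g.1 (ax i) = c • ax j

/-- The group contains the monomial elements of the derived group. -/
def Over (M : Subgroup (orth (sq F ι))) : Prop :=
  ∀ h ∈ commutator (orth (sq F ι)), Mono h → h ∈ M

theorem map_dot (g : orth (sq F ι)) (h2 : (2 : F) ≠ 0) (x y : ι → F) : g.1 x ⬝ᵥ g.1 y = x ⬝ᵥ y := by
  have h := polar_orth g x y
  rw [polar_sq, polar_sq] at h
  exact mul_left_cancel₀ h2 h

theorem map_dot_self (g : orth (sq F ι)) (x : ι → F) : g.1 x ⬝ᵥ g.1 x = x ⬝ᵥ x := by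
  rw [← sq_apply, ← sq_apply, map_orth]

theorem mono_mul {g h : orth (sq F ι)} (hg : Mono g) (hh : Mono h) : Mono (g * h) := by
  intro i
  obtain ⟨j, c, hc⟩ := hh i
  obtain ⟨k, d, hd⟩ := hg j
  exact ⟨k, c * d, by rw [orth_mul_apply, hc, map_smul, hd, smul_smul]⟩

/-- The columns of an isometry are mutually orthogonal unit vectors. -/
theorem col_dot (g : orth (sq F ι)) (h2 : (2 : F) ≠ 0) (i j : ι) :
    g.1 (ax i) ⬝ᵥ g.1 (ax j) = if i = j then 1 else 0 := by
  rw [map_dot g h2, dot_ax]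
  split_ifs with h
  · rw [h, ax_self]
  · exact ax_ne h

/-- The coordinate permutation of a monomial map. -/
theorem mono_perm {g : orth (sq F ι)} (h2 : (2 : F) ≠ 0) (hg : Mono g) :
    ∃ σ : Equiv.Perm ι, ∃ c : ι → F, (∀ i, c i * c i = 1) ∧ ∀ i, g.1 (ax i) = c i • ax (σ i) := by
  choose f c hfc using hg
  have hc : ∀ i, c i * c i = 1 := fun i => by
    have := col_dot g h2 i i
    rw [hfc, if_pos rfl, smul_dotProduct, dot_ax, Pi.smul_apply, ax_self] at this
    simpa using this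
  have hinj : Function.Injective f := by
    intro i j hij
    by_contra hne
    have := col_dot g h2 i j
    rw [hfc, hfc, hij, if_neg hne, smul_dotProduct, dot_ax, Pi.smul_apply, ax_self] at this
    simp at this
    rcases this with h | h
    · have := hc i; rw [h, mul_zero] at this; exact zero_ne_one this
    · have := hc j; rw [h, mul_zero] at this; exact zero_ne_one this
  exact ⟨Equiv.ofBijective f (Finite.injective_iff_bijective.1 hinj), c, hc, hfc⟩

theorem mono_inv {g : orth (sq F ι)} (h2 : (2 : F) ≠ 0) (hg : Mono g) : Mono g⁻¹ := by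
  obtain ⟨σ, c, hc, hgc⟩ := mono_perm h2 hg
  intro i
  refine ⟨σ.symm i, c (σ.symm i), ?_⟩
  have h := hgc (σ.symm i)
  rw [σ.apply_symm_apply] at h
  have h1 : g⁻¹.1 (g.1 (ax (σ.symm i))) = ax (σ.symm i) := by
    rw [← orth_mul_apply, inv_mul_cancel]; rfl
  rw [h, map_smul] at h1
  rw [← h1, smul_smul, hc, one_smul]

variable [Fintype F]

/-- A monomial reflection. -/
def MonoVec (v : ι → F) : Prop := ∀ i, ∃ j, ∃ c : F, rv v (ax i) = c • ax j

theorem monoVec_ax (i : ι) : MonoVec (F := F) (ax i) := by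
  intro k
  refine ⟨k, if k = i then -1 else 1, ?_⟩
  rw [rv_ax]
  funext l
  rcases eq_or_ne l i with rfl | hl
  · rcases eq_or_ne k l with rfl | hk
    · simp [ax]
    · simp [ax, hk, hk.symm]
  · rcases eq_or_ne l k with rfl | hk
    · simp [ax, hl]
    · simp [ax, hl, hk]

theorem monoVec_df (h2 : (2 : F) ≠ 0) {i j : ι} (h : i ≠ j) : MonoVec (F := F) (df i j) := by
  intro k
  refine ⟨Equiv.swap i j k, 1, ?_⟩
  rw [rv_df h2 h, one_smul]
  funext l
  simp [ax, Pi.single_apply, Equiv.swap_apply_eq_iff]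

theorem pair_of_monoVec {M : Subgroup (orth (sq F ι))} (hM : Over M) (h2 : (2 : F) ≠ 0)
    (hn : 5 ≤ Fintype.card ι) {v w : ι → F} (hv : MonoVec v) (hw : MonoVec w) (hv0 : v ⬝ᵥ v ≠ 0)
    (hw0 : w ⬝ᵥ w ≠ 0) (hsq : IsSquare ((v ⬝ᵥ v) * (w ⬝ᵥ w))) : PairIn M v w := by
  have hQv : sq F ι v ≠ 0 := by rwa [sq_apply]
  have hQw : sq F ι w ≠ 0 := by rwa [sq_apply]
  refine ⟨hQv, hQw, hM _ (pair_mem_commutator (nondegenerate h2) (by simpa using hn) hQv hQw
    (by rwa [sq_apply, sq_apply])) fun i => ?_⟩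
  obtain ⟨j, c, hj⟩ := hw i
  obtain ⟨k, d, hk⟩ := hv j
  refine ⟨k, c * d, ?_⟩
  rw [orth_mul_apply, refl_rv hQw, hj, map_smul, refl_rv hQv, hk, smul_smul]

theorem pair_ax {M : Subgroup (orth (sq F ι))} (hM : Over M) (h2 : (2 : F) ≠ 0) (hn : 5 ≤ Fintype.card ι)
    (i j : ι) : PairIn M (ax i) (ax j) :=
  pair_of_monoVec hM h2 hn (monoVec_ax i) (monoVec_ax j) (by rw [dot_ax, ax_self]; exact one_ne_zero)
    (by rw [dot_ax, ax_self]; exact one_ne_zero) (by rw [dot_ax, dot_ax, ax_self, ax_self]; exact ⟨1, rfl⟩)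

/-- Products of two transpositions of coordinates. -/
theorem exists_swaps {M : Subgroup (orth (sq F ι))} (hM : Over M) (h2 : (2 : F) ≠ 0)
    (hn : 5 ≤ Fintype.card ι) {a b c d : ι} (hab : a ≠ b) (hcd : c ≠ d) :
    ∃ m ∈ M, Mono m ∧ (∀ x, m.1 x = x ∘ (Equiv.swap c d * Equiv.swap a b : Equiv.Perm ι)) ∧
      ∀ i, m.1 (ax i) = ax ((Equiv.swap a b * Equiv.swap c d : Equiv.Perm ι) i) := by
  obtain ⟨hv, hw, hm⟩ := pair_of_monoVec hM h2 hn (monoVec_df h2 hab) (monoVec_df h2 hcd)
    (by rw [df_self hab]; exact h2) (by rw [df_self hcd]; exact h2)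
    (by rw [df_self hab, df_self hcd]; exact ⟨2, rfl⟩)
  have happ : ∀ x, (refl (sq F ι) (df a b) hv * refl (sq F ι) (df c d) hw).1 x =
      x ∘ (Equiv.swap c d * Equiv.swap a b : Equiv.Perm ι) := fun x => by
    rw [orth_mul_apply, refl_rv, refl_rv, rv_df h2 hcd, rv_df h2 hab]
    rfl
  have hax : ∀ i, (refl (sq F ι) (df a b) hv * refl (sq F ι) (df c d) hw).1 (ax i) =
      ax ((Equiv.swap a b * Equiv.swap c d : Equiv.Perm ι) i) := fun i => by
    rw [happ]
    funext l
    simp [ax, Pi.single_apply, Equiv.swap_apply_eq_iff]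
  exact ⟨_, hm, fun i => ⟨_, 1, by rw [hax, one_smul]⟩, happ, hax⟩

end Cfsg.Agent.Frame10
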