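import Mathlib
import Cfsg.Prelude.Def_GeometricClasses
import Cfsg.Agent.Lib.C6Plus10Defs
import Cfsg.Agent.Lib.Frame10Base
import Cfsg.Agent.Lib.PSLSimple

/-!
The generators of the normaliser in the real Clifford model lie in the derived orthogonal group and
normalise the extraspecial group.
-/

set_option autoImplicit false
set_option linter.unusedSectionVars false
set_option maxHeartbeats 800000

namespace Cfsg.Agent.C6Plus10

open Matrix
open scoped MatrixGroups commutatorElement

variable {F : Type*} [Field F] {k : ℕ}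

/-- The isometries of the sum of squares. -/
noncomputable def Isom (F : Type*) [Field F] (k : ℕ) : Subgroup (GL (Pt k) F) :=
  Cfsg.isometryGroup F ⇑(Frame10.sq F (Pt k))

/-- Its derived group. -/
noncomputable def Omg (F : Type*) [Field F] (k : ℕ) : Subgroup (GL (Pt k) F) :=
  Cfsg.Geo.omegaGL ⇑(Frame10.sq F (Pt k))

theorem omega_eq_commutator {ι : Type} [Fintype ι] [DecidableEq ι] (Q : (ι → F) → F) :
    Cfsg.Geo.omegaGL Q = ⁅Cfsg.isometryGroup F Q, Cfsg.isometryGroup F Q⁆ := by
  show (commutator (Cfsg.isometryGroup F Q)).map (Cfsg.isometryGroup F Q).subtype = _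
  rw [_root_.commutator_def, Subgroup.map_commutator, ← MonoidHom.range_eq_map,
    Subgroup.range_subtype]

theorem omg_eq : Omg F k = ⁅Isom F k, Isom F k⁆ := omega_eq_commutator _

theorem omg_le : Omg F k ≤ Isom F k := by
  show (commutator (Cfsg.isometryGroup F ⇑(Frame10.sq F (Pt k)))).map
    (Cfsg.isometryGroup F ⇑(Frame10.sq F (Pt k))).subtype ≤ _
  exact Subgroup.map_subtype_le _

theorem comm_mem_omg {g h : GL (Pt k) F} (hg : g ∈ Isom F k) (hh : h ∈ Isom F k) :
    g * h * g⁻¹ * h⁻¹ ∈ Omg F k := by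
  rw [omg_eq]
  exact Subgroup.commutator_mem_commutator hg hh

theorem mem_isom_of_transpose {g : GL (Pt k) F}
    (h : (g : Matrix (Pt k) (Pt k) F)ᵀ * (g : Matrix (Pt k) (Pt k) F) = 1) : g ∈ Isom F k := by
  intro u v
  show Frame10.sq F (Pt k) ((g : Matrix (Pt k) (Pt k) F) *ᵥ u) = Frame10.sq F (Pt k) u
  rw [Frame10.sq_apply, Frame10.sq_apply, Matrix.dotProduct_mulVec, ← Matrix.mulVec_transpose,
    Matrix.mulVec_mulVec, h, Matrix.one_mulVec]

theorem transpose_of_mem_isom (h2 : (2 : F) ≠ 0) {g : GL (Pt k) F} (hg : g ∈ Isom F k) :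
    (g : Matrix (Pt k) (Pt k) F)ᵀ * (g : Matrix (Pt k) (Pt k) F) = 1 := by
  have hd : ∀ u, ((g : Matrix (Pt k) (Pt k) F) *ᵥ u) ⬝ᵥ ((g : Matrix (Pt k) (Pt k) F) *ᵥ u) =
      u ⬝ᵥ u := fun u => by
    have := hg u u
    change Frame10.sq F (Pt k) ((g : Matrix (Pt k) (Pt k) F) *ᵥ u) = Frame10.sq F (Pt k) u at this
    rwa [Frame10.sq_apply, Frame10.sq_apply] at this
  have hb : ∀ u v, ((g : Matrix (Pt k) (Pt k) F) *ᵥ u) ⬝ᵥ ((g : Matrix (Pt k) (Pt k) F) *ᵥ v) =
      u ⬝ᵥ v := fun u v => by
    have := hd (u + v)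
    simp only [mulVec_add, add_dotProduct, dotProduct_add, hd] at this
    rw [dotProduct_comm ((g : Matrix (Pt k) (Pt k) F) *ᵥ v), dotProduct_comm v u] at this
    exact mul_left_cancel₀ h2 (by linear_combination this)
  ext i j
  rw [Matrix.mul_apply, Matrix.one_apply]
  have := hb (Pi.single i 1) (Pi.single j 1)
  rw [Matrix.mulVec_single_one, Matrix.mulVec_single_one, single_dotProduct, one_mul,
    Pi.single_apply] at this
  exact this

theorem sd_isom (f : Pt k → ZMod 2) : sd F f ∈ Isom F k := mem_isom_of_transpose (by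
  show (Matrix.diagonal _)ᵀ * Matrix.diagonal _ = 1
  rw [Matrix.diagonal_transpose, Matrix.diagonal_mul_diagonal]
  simp)

theorem pm_isom (π : Equiv.Perm (Pt k)) : pm F π ∈ Isom F k := mem_isom_of_transpose (by
  ext x y
  rw [Matrix.mul_apply, Matrix.one_apply, Finset.sum_eq_single (π x)]
  · simp [pm_apply, π.injective.eq_iff]
  · intro z _ hz
    simp [pm_apply, hz]
  · simp)

/-! ### Signs -/

theorem dl_add (a : Pt k) (f g : Pt k → ZMod 2) : dl a (f + g) = dl a f + dl a g := by
  funext x
  simp only [dl, Pi.add_apply]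
  ring

theorem quad_sum (hk : 3 ≤ k) {f : Pt k → ZMod 2} (hf : Quad f) : ∑ x, f x = 0 := by
  classical
  have step : ∀ (s : Finset (Pt k)) (i : Fin k) (g : Pt k → ZMod 2),
      (∀ x, x ∈ s ↔ x + Pi.single i 1 ∈ s) →
      ∑ x ∈ s, g x = ∑ x ∈ s.filter (fun x => x i = 0), dl (Pi.single i 1) g x := by
    intro s i g hs
    rw [← Finset.sum_filter_add_sum_filter_not s (fun x => x i = 0) g]
    simp only [dl, Finset.sum_add_distrib]
    rw [add_comm]
    congr 1
    have e2 : ∀ a : ZMod 2, a + 1 + 1 = a := by decide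
    have c0 : ∀ a : ZMod 2, ¬ a = 0 → a + 1 = 0 := by decide
    have c1 : ∀ a : ZMod 2, a = 0 → ¬ a + 1 = 0 := by decide
    have hinv : ∀ x : Pt k, x + Pi.single i 1 + Pi.single i 1 = x := fun x => by
      rw [add_assoc, show (Pi.single i 1 : Pt k) + Pi.single i 1 = 0 from
        funext fun j => CharTwo.add_self_eq_zero _, add_zero]
    refine Finset.sum_nbij' (· + Pi.single i 1) (· + Pi.single i 1) ?_ ?_ ?_ ?_ ?_
    · intro x hx
      simp only [Finset.mem_coe, Finset.mem_filter] at hx ⊢
      exact ⟨(hs x).1 hx.1, by simpa using c0 _ hx.2⟩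
    · intro x hx
      simp only [Finset.mem_coe, Finset.mem_filter] at hx ⊢
      exact ⟨(hs x).1 hx.1, by simpa using c1 _ hx.2⟩
    · exact fun x _ => hinv x
    · exact fun x _ => hinv x
    · intro x _
      rw [hinv]
  let a₀ : Fin k := ⟨0, by omega⟩
  let a₁ : Fin k := ⟨1, by omega⟩
  let a₂ : Fin k := ⟨2, by omega⟩
  have h10 : (Pi.single a₁ 1 : Pt k) a₀ = 0 := Pi.single_eq_of_ne (by simp [a₀, a₁]) _
  have h20 : (Pi.single a₂ 1 : Pt k) a₀ = 0 := Pi.single_eq_of_ne (by simp [a₀, a₂]) _
  have h21 : (Pi.single a₂ 1 : Pt k) a₁ = 0 := Pi.single_eq_of_ne (by simp [a₁, a₂]) _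
  rw [step _ a₀ f (by simp), step _ a₁ _ (fun x => by simp [h10]),
    step _ a₂ _ (fun x => by simp [h20, h21])]
  exact Finset.sum_eq_zero fun x _ => hf _ _ _ x

theorem dl_delta_pair (x y : Pt k) :
    (Pi.single x 1 + Pi.single y 1 : Pt k → ZMod 2) =
      Pi.single x 1 + (Pi.single x 1 : Pt k → ZMod 2) ∘ (Equiv.swap x y).symm := by
  congr 1
  funext z
  simp only [Function.comp_apply, Equiv.symm_swap, Pi.single_apply]
  congr 1
  rw [eq_iff_iff, Equiv.swap_apply_eq_iff, Equiv.swap_apply_left]

theorem sd_pair (x y : Pt k) : sd F (Pi.single x 1 + Pi.single y 1) ∈ Omg F k := by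
  have h := comm_mem_omg (sd_isom (F := F) (Pi.single x 1)) (pm_isom (F := F) (Equiv.swap x y))
  rwa [show sd F (Pi.single x 1) * pm F (Equiv.swap x y) * (sd F (Pi.single x 1))⁻¹ *
      (pm F (Equiv.swap x y))⁻¹ = sd F (Pi.single x 1) * (pm F (Equiv.swap x y) *
      (sd F (Pi.single x 1))⁻¹ * (pm F (Equiv.swap x y))⁻¹) by simp only [mul_assoc],
    sd_inv, pm_sd, mul_inv_cancel_right, sd_mul, ← dl_delta_pair] at h

theorem sd_omg {f : Pt k → ZMod 2} (hf : ∑ x, f x = 0) : sd F f ∈ Omg F k := by
  classical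
  have key : ∀ s : Finset (Pt k),
      sd F (∑ x ∈ s, fun z => f x * (Pi.single x 1 + Pi.single 0 1 : Pt k → ZMod 2) z) ∈
        Omg F k := by
    intro s
    induction s using Finset.induction with
    | empty => rw [Finset.sum_empty, sd_zero]; exact one_mem _
    | insert a t hat ih =>
      rw [Finset.sum_insert hat, ← sd_mul]
      refine mul_mem ?_ ih
      rcases (show ∀ c : ZMod 2, c = 0 ∨ c = 1 by decide) (f a) with e | e <;>
        simp only [e, zero_mul, one_mul]
      · rw [show (fun _ : Pt k => (0 : ZMod 2)) = 0 from rfl, sd_zero]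
        exact one_mem _
      · exact sd_pair a 0
  have := key Finset.univ
  rwa [show (∑ x, fun z => f x * (Pi.single x 1 + Pi.single 0 1 : Pt k → ZMod 2) z) = f from
    funext fun z => by
      simp only [Finset.sum_apply, Pi.add_apply, mul_add, Finset.sum_add_distrib, ← Finset.sum_mul,
        hf, zero_mul, add_zero, Pi.single_apply, mul_ite, mul_one, mul_zero, Finset.sum_ite_eq,
        Finset.mem_univ, if_true]
      by_cases hz : z = 0 <;> simp [hz, hf]] at this

theorem quad_omg (hk : 3 ≤ k) {f : Pt k → ZMod 2} (hf : Quad f) : sd F f ∈ Omg F k :=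
  sd_omg (quad_sum hk hf)

/-- Affine functions have the standard shape. -/
theorem aff_form {f : Pt k → ZMod 2} (hf : Aff f) :
    ∃ (b : Pt k) (c : ZMod 2), f = (fun _ => c) + ip b := by
  have hadd : ∀ x y, f (x + y) + f 0 = (f x + f 0) + (f y + f 0) := fun x y => by
    have h := hf x y 0
    simp only [dl, zero_add] at h
    rw [CharTwo.add_eq_iff_eq_add] at h
    have e : ∀ u v w o : ZMod 2, u = v + w + o + 0 ∨ True := fun _ _ _ _ => Or.inr trivial
    revert h
    generalize f (x + y) = u, f x = v, f y = w, f 0 = o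
    revert u v w o
    decide
  let g : Pt k →ₗ[ZMod 2] ZMod 2 :=
    AddMonoidHom.toZModLinearMap 2 (AddMonoidHom.mk' (fun x => f x + f 0) hadd)
  refine ⟨fun i => g (Pi.single i 1), f 0, funext fun x => ?_⟩
  have hg : g x = ip (fun i => g (Pi.single i 1)) x := by
    conv_lhs => rw [← Finset.univ_sum_single x]
    rw [map_sum, ip, dotProduct]
    refine Finset.sum_congr rfl fun i _ => ?_
    rw [show (Pi.single i (x i) : Pt k) = x i • Pi.single i 1 by rw [← Pi.single_smul, smul_eq_mul,
      mul_one], map_smul, smul_eq_mul, mul_comm]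
  rw [Pi.add_apply, ← hg]
  show f x = f 0 + (f x + f 0)
  rw [add_comm (f x), ← add_assoc, CharTwo.add_self_eq_zero, zero_add]

theorem pm_sd_aff (a : Pt k) {f : Pt k → ZMod 2} (hf : Aff f) :
    ∃ (b : Pt k) (c : ZMod 2),
      pm F (Equiv.addRight a) * sd F f = sd F (fun _ => c) * pau F a b := by
  obtain ⟨b, c, rfl⟩ := aff_form hf
  refine ⟨b, c, ?_⟩
  rw [← sd_mul, ← mul_assoc, pm_sd, pau, mul_assoc]
  rfl

theorem ip_aff (b : Pt k) : Aff (ip b) := fun a c x => by
  simp only [dl, ip_add_right]
  generalize ip b x = u, ip b a = v, ip b c = w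
  revert u v w
  decide

theorem aff_add {f g : Pt k → ZMod 2} (hf : Aff f) (hg : Aff g) : Aff (f + g) := fun a b x => by
  rw [dl_add, dl_add, Pi.add_apply, hf a b x, hg a b x, add_zero]

theorem sd_nr {f : Pt k → ZMod 2} (hf : Quad f) : Nr (sd F f) := fun a b => by
  have e : sd F f * pau F a b * (sd F f)⁻¹ =
      pm F (Equiv.addRight a) * sd F (dl a f + ip b) := by
    have h1 : sd F f * pm F (Equiv.addRight a) =
        pm F (Equiv.addRight a) * sd F (fun x => f (x + a)) := by
      rw [pm_sd]
      congr 2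
      funext x
      simp only [Function.comp_apply, Equiv.addRight_symm, Equiv.coe_addRight]
      rw [add_assoc, neg_add_cancel, add_zero]
    rw [pau, ← mul_assoc, h1, sd_inv, mul_assoc, mul_assoc, sd_mul, sd_mul]
    congr 2
    funext x
    simp only [Pi.add_apply, dl]
    ring
  obtain ⟨b', c, e'⟩ := pm_sd_aff (F := F) a
    (aff_add (show Aff (dl a f) from fun a' b' x => hf a' b' a x) (ip_aff b))
  exact ⟨a, b', c, e.trans e'⟩

/-- The converse: signs that normalise the group have affine differences. -/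
theorem dl_of_nr (h2 : (2 : F) ≠ 0) {f : Pt k → ZMod 2} (hf : Nr (sd F f)) (a : Pt k) :
    Aff (dl a f) := by
  obtain ⟨a', b', c, e⟩ := hf a 0
  have h1 : sd F f * pau F a 0 * (sd F f)⁻¹ = pm F (Equiv.addRight a) * sd F (dl a f) := by
    rw [pau, show ip (0 : Pt k) = 0 from funext fun x => zero_dotProduct x, sd_zero, mul_one,
      sd_inv]
    rw [show dl a f = (fun x => f (x + a)) + f from rfl, ← sd_mul, ← mul_assoc, pm_sd]
    congr 2
    congr 1
    funext x
    simp only [Function.comp_apply, Equiv.addRight_symm, Equiv.coe_addRight]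
    rw [add_assoc, neg_add_cancel, add_zero]
  rw [h1, pau, ← mul_assoc, show sd F (fun _ : Pt k => c) * pm F (Equiv.addRight a') =
    pm F (Equiv.addRight a') * sd F (fun _ => c) by rw [pm_sd]; rfl, mul_assoc, sd_mul] at e
  have ha : a = a' := by
    by_contra hne
    have h := congrArg (fun u : GL (Pt k) F => (u : Matrix (Pt k) (Pt k) F) a 0) e
    simp only [Units.val_mul] at h
    change (_ * Matrix.diagonal _ : Matrix (Pt k) (Pt k) F) a 0 =
      (_ * Matrix.diagonal _ : Matrix (Pt k) (Pt k) F) a 0 at h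
    rw [Matrix.mul_diagonal, Matrix.mul_diagonal, pm_apply, pm_apply] at h
    simp [hne, sgn_ne_zero] at h
  subst ha
  rw [sd_inj h2 (mul_left_cancel e)]
  exact aff_add (fun _ _ _ => by simp [dl, CharTwo.add_self_eq_zero]) (ip_aff b')

/-! ### Affine permutations -/

/-- Permutation matrices as a homomorphism. -/
noncomputable def pmH : Equiv.Perm (Pt k) →* GL (Pt k) F :=
  MonoidHom.mk' (pm F) fun π ρ => (pm_mul π ρ).symm

theorem pm_omg_of_mem_commutator {π : Equiv.Perm (Pt k)} (h : π ∈ commutator (Equiv.Perm (Pt k))) :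
    pm F π ∈ Omg F k := by
  rw [omg_eq]
  have h1 := Subgroup.mem_map_of_mem (pmH (F := F)) h
  rw [_root_.commutator_def, Subgroup.map_commutator] at h1
  exact Subgroup.commutator_mono (by rintro _ ⟨ρ, -, rfl⟩; exact pm_isom ρ)
    (by rintro _ ⟨ρ, -, rfl⟩; exact pm_isom ρ) h1

/-- A matrix of determinant one as a permutation of the points. -/
def linP : Matrix.SpecialLinearGroup (Fin k) (ZMod 2) →* Equiv.Perm (Pt k) :=
  MonoidHom.mk' (fun A =>
    { toFun := fun x => A.1 *ᵥ x
      invFun := fun x => (A⁻¹).1 *ᵥ x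
      left_inv := fun x => by
        simp only [Matrix.mulVec_mulVec, ← Matrix.SpecialLinearGroup.coe_mul, inv_mul_cancel,
          Matrix.SpecialLinearGroup.coe_one, Matrix.one_mulVec]
      right_inv := fun x => by
        simp only [Matrix.mulVec_mulVec, ← Matrix.SpecialLinearGroup.coe_mul, mul_inv_cancel,
          Matrix.SpecialLinearGroup.coe_one, Matrix.one_mulVec] })
    fun A B => Equiv.ext fun x => by
      show (A * B).1 *ᵥ x = A.1 *ᵥ (B.1 *ᵥ x)
      rw [Matrix.mulVec_mulVec]; rfl

theorem linP_mem (hk : 3 ≤ k) (A : Matrix.SpecialLinearGroup (Fin k) (ZMod 2)) :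
    linP A ∈ commutator (Equiv.Perm (Pt k)) := by
  have h : A ∈ commutator (Matrix.SpecialLinearGroup (Fin k) (ZMod 2)) := by
    rw [PSLSimple.commutator_SL_eq_top (by rw [Fintype.card_fin]; exact hk)]
    exact Subgroup.mem_top A
  have h1 := Subgroup.mem_map_of_mem linP h
  rw [_root_.commutator_def, Subgroup.map_commutator] at h1
  exact Subgroup.commutator_mono le_top le_top h1

theorem transl_mem (hk : 3 ≤ k) (a : Pt k) :
    Equiv.addRight a ∈ commutator (Equiv.Perm (Pt k)) := by
  classical
  have key : ∀ i : Fin k, Equiv.addRight (Pi.single i 1 : Pt k) ∈ commutator (Equiv.Perm (Pt k)) := by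
    intro i
    haveI : Nontrivial (Fin k) := Fin.nontrivial_iff_two_le.2 (by omega)
    obtain ⟨j, hj⟩ := exists_ne i
    set A := Matrix.SpecialLinearGroup.transvection hj.symm (1 : ZMod 2)
    have e : linP A * Equiv.addRight (Pi.single j 1 : Pt k) * (linP A)⁻¹ *
        (Equiv.addRight (Pi.single j 1 : Pt k))⁻¹ = Equiv.addRight (Pi.single i 1 : Pt k) := by
      refine Equiv.ext fun x => ?_
      have hA : A.1 *ᵥ (Pi.single j 1 : Pt k) = Pi.single j 1 + Pi.single i 1 := by
        rw [PSLSimple.transvection_mulVec]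
        simp
      show A.1 *ᵥ ((A⁻¹).1 *ᵥ (x + -Pi.single j 1) + Pi.single j 1) = x + Pi.single i 1
      rw [Matrix.mulVec_add, Matrix.mulVec_mulVec, ← Matrix.SpecialLinearGroup.coe_mul, mul_inv_cancel,
        Matrix.SpecialLinearGroup.coe_one, Matrix.one_mulVec, hA]
      abel
    rw [← e]
    exact Subgroup.commutator_mem_commutator (Subgroup.mem_top _) (Subgroup.mem_top _)
  have hadd : ∀ u v : Pt k, Equiv.addRight (u + v) = Equiv.addRight u * Equiv.addRight v :=
    fun u v => Equiv.ext fun x => by
      show x + (u + v) = x + v + u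
      abel
  rw [← Finset.univ_sum_single a]
  refine Finset.induction_on (Finset.univ : Finset (Fin k)) ?_ fun i t hit ih => ?_
  · rw [Finset.sum_empty, Equiv.addRight_zero]; exact one_mem _
  · rw [Finset.sum_insert hit, hadd]
    refine mul_mem ?_ ih
    rcases (show ∀ c : ZMod 2, c = 0 ∨ c = 1 by decide) (a i) with e | e <;> rw [e]
    · rw [Pi.single_zero, Equiv.addRight_zero]; exact one_mem _
    · exact key i

theorem aff_decomp {π : Equiv.Perm (Pt k)} (hπ : AffPerm π) :
    ∃ A, π = Equiv.addRight (π 0) * linP A := by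
  have hadd : ∀ x y, π (x + y) + π 0 = (π x + π 0) + (π y + π 0) := fun x y => by
    have h := hπ x y 0
    rw [add_zero] at h
    rw [h]
    abel_nf
  let g : Pt k →ₗ[ZMod 2] Pt k :=
    AddMonoidHom.toZModLinearMap 2 (AddMonoidHom.mk' (fun x => π x + π 0) hadd)
  have hg : Function.Injective g := fun x y e => π.injective (add_right_cancel e)
  have hu : IsUnit (LinearMap.det g) :=
    LinearEquiv.isUnit_det' (LinearEquiv.ofInjectiveEndo g hg)
  have hd : (LinearMap.toMatrix' g).det = 1 := by
    rw [LinearMap.det_toMatrix']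
    exact (show ∀ c : ZMod 2, c ≠ 0 → c = 1 by decide) _ hu.ne_zero
  refine ⟨⟨LinearMap.toMatrix' g, hd⟩, Equiv.ext fun x => ?_⟩
  show π x = (LinearMap.toMatrix' g) *ᵥ x + π 0
  rw [LinearMap.toMatrix'_mulVec]
  show π x = π x + π 0 + π 0
  rw [add_assoc, show π 0 + π 0 = 0 from funext fun j => CharTwo.add_self_eq_zero _, add_zero]

theorem aff_omg (hk : 3 ≤ k) {π : Equiv.Perm (Pt k)} (hπ : AffPerm π) : pm F π ∈ Omg F k := by
  obtain ⟨A, e⟩ := aff_decomp hπ
  rw [e]
  exact pm_omg_of_mem_commutator (mul_mem (transl_mem hk _) (linP_mem hk A))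

theorem affPerm_symm {π : Equiv.Perm (Pt k)} (hπ : AffPerm π) : AffPerm π.symm := fun x y z =>
  π.injective (by rw [hπ, π.apply_symm_apply, π.apply_symm_apply, π.apply_symm_apply,
    π.apply_symm_apply])

theorem pm_nr {π : Equiv.Perm (Pt k)} (hπ : AffPerm π) : Nr (pm F π) := fun a b => by
  have two : ∀ u : Pt k, u + u = 0 := fun u => funext fun j => CharTwo.add_self_eq_zero _
  have hs := affPerm_symm hπ
  have hconj : π * Equiv.addRight a * π⁻¹ = Equiv.addRight (π a + π 0) := Equiv.ext fun x => by
    show π (π.symm x + a) = x + (π a + π 0)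
    conv_lhs => rw [← add_zero (π.symm x + a), hπ, π.apply_symm_apply]
    rw [add_assoc]
  have haff : Aff (ip b ∘ π.symm) := fun u v x => by
    simp only [dl, Function.comp_apply, ← ip_add_right]
    rw [show π.symm (x + u + v) + π.symm (x + u) + (π.symm (x + v) + π.symm x) = 0 by
      rw [show x + u + v = (x + u) + (x + v) + x by
        calc x + u + v = x + u + v + (x + x) := by rw [two, add_zero]
          _ = _ := by abel, hs]
      calc _ = (π.symm (x + u) + π.symm (x + u)) + (π.symm (x + v) + π.symm (x + v)) +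
            (π.symm x + π.symm x) := by abel
        _ = 0 := by simp [two]]
    exact dotProduct_zero b
  obtain ⟨b', c, e⟩ := pm_sd_aff (F := F) (π a + π 0) haff
  refine ⟨π a + π 0, b', c, ?_⟩
  have hsw : sd F (ip b) * pm F π⁻¹ = pm F π⁻¹ * sd F (ip b ∘ π.symm) := by
    rw [pm_sd]
    congr 2
    funext x
    exact congrArg (ip b) (π.symm_apply_apply x).symm
  rw [← e, pau, ← mul_assoc, pm_mul, pm_inv, mul_assoc, hsw, ← mul_assoc, pm_mul, hconj]

/-! ### Hadamard matrices -/

/-- The Hadamard matrix at one position. -/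
noncomputable def had1 (F : Type*) [Field F] (a : Fin k) : Matrix (Pt k) (Pt k) F :=
  Matrix.of fun x y => if ∀ i, i ≠ a → x i = y i then sgn F (x a * y a) else 0

theorem had1_mul_self (a : Fin k) :
    had1 F a * had1 F a = (2 : F) • (1 : Matrix (Pt k) (Pt k) F) := by
  classical
  ext x y
  rw [Matrix.mul_apply, Matrix.smul_apply, Matrix.one_apply, smul_eq_mul,
    Finset.sum_eq_add (Function.update x a 0) (Function.update x a 1)
      (fun e => zero_ne_one (α := ZMod 2) (by simpa using congrFun e a))]
  · have hupd : ∀ t, had1 F a x (Function.update x a t) = sgn F (x a * t) := fun t => by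
      simp only [had1, Matrix.of_apply, Function.update_self]
      rw [if_pos fun i hi => by rw [Function.update_of_ne hi]]
    have hupd' : ∀ t, had1 F a (Function.update x a t) y =
        if ∀ i, i ≠ a → x i = y i then sgn F (t * y a) else 0 := fun t => by
      simp only [had1, Matrix.of_apply, Function.update_self]
      refine if_congr (forall₂_congr fun i hi => ?_) rfl rfl
      rw [Function.update_of_ne hi]
    rw [hupd, hupd, hupd', hupd']
    by_cases hoff : ∀ i, i ≠ a → x i = y i
    · rw [if_pos hoff, if_pos hoff, ← sgn_add, ← sgn_add]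
      by_cases hxy : x = y
      · subst hxy
        rw [if_pos rfl, mul_zero, zero_mul, add_zero, sgn_zero, mul_one, one_mul,
          CharTwo.add_self_eq_zero, sgn_zero]
        ring
      · have ha : x a + y a = 1 := by
          have hne : x a ≠ y a := fun e => hxy (funext fun i => by
            by_cases hi : i = a
            · rw [hi, e]
            · exact hoff i hi)
          revert hne
          generalize x a = u, y a = v
          revert u v
          decide
        rw [if_neg hxy, mul_zero, zero_mul, add_zero, sgn_zero, mul_one, one_mul, ha, sgn_one]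
        ring
    · rw [if_neg hoff, if_neg hoff, if_neg fun e => hoff fun i _ => congrFun e i]
      ring
  · intro z _ hz
    by_cases hoff : ∀ i, i ≠ a → x i = z i
    · exfalso
      rcases (show ∀ c : ZMod 2, c = 0 ∨ c = 1 by decide) (z a) with e | e
      · exact hz.1 (funext fun i => by
          by_cases hi : i = a
          · subst hi; rw [Function.update_self, e]
          · rw [Function.update_of_ne hi, hoff i hi])
      · exact hz.2 (funext fun i => by
          by_cases hi : i = a
          · subst hi; rw [Function.update_self, e]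
          · rw [Function.update_of_ne hi, hoff i hi])
    · simp [had1, hoff]
  · simp
  · simp

theorem had1_mul {a b : Fin k} (hab : a ≠ b) (h2 : (2 : F) ≠ 0) :
    had1 F a * had1 F b = (2 : F) • hh F a b := by
  classical
  ext x y
  rw [Matrix.mul_apply, Matrix.smul_apply, smul_eq_mul,
    Finset.sum_eq_single (Function.update x a (y a))]
  · simp only [had1, hh, Matrix.of_apply, Function.update_self, Function.update_of_ne hab.symm]
    rw [if_pos fun i hi => by rw [Function.update_of_ne hi]]
    by_cases hoff : ∀ i, i ≠ a → i ≠ b → x i = y i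
    · rw [if_pos hoff, if_pos fun i hi => ?_, ← sgn_add, ← mul_assoc, mul_inv_cancel₀ h2, one_mul]
      by_cases hi' : i = a
      · subst hi'; rw [Function.update_self]
      · rw [Function.update_of_ne hi', hoff i hi' hi]
    · rw [if_neg hoff, if_neg fun h => hoff fun i hi hi' => ?_]
      · simp
      · have := h i hi'
        rwa [Function.update_of_ne hi] at this
  · intro z _ hz
    by_cases hoff : ∀ i, i ≠ a → x i = z i
    · have : ¬ ∀ i, i ≠ b → z i = y i := fun h => hz (funext fun i => by
        by_cases hi : i = a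
        · subst hi; rw [Function.update_self]; exact h i hab
        · rw [Function.update_of_ne hi]; exact (hoff i hi).symm)
      simp [had1, this]
    · simp [had1, hoff]
  · simp

theorem hh_comm (a b : Fin k) : hh F a b = hh F b a := by
  ext x y
  simp only [hh, Matrix.of_apply, add_comm (x a * y a)]
  refine if_congr ⟨fun h i h1 h2 => h i h2 h1, fun h i h1 h2 => h i h2 h1⟩ rfl rfl

theorem hh_transpose (a b : Fin k) : (hh F a b)ᵀ = hh F a b := by
  ext x y
  simp only [Matrix.transpose_apply, hh, Matrix.of_apply, mul_comm (y a), mul_comm (y b)]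
  exact if_congr (forall₃_congr fun i _ _ => eq_comm) rfl rfl

theorem had1_comm {a b : Fin k} (hab : a ≠ b) (h2 : (2 : F) ≠ 0) :
    had1 F a * had1 F b = had1 F b * had1 F a := by
  rw [had1_mul hab h2, had1_mul hab.symm h2, hh_comm]

theorem hh_eq {a b : Fin k} (hab : a ≠ b) (h2 : (2 : F) ≠ 0) :
    hh F a b = (2 : F)⁻¹ • (had1 F a * had1 F b) := by
  rw [had1_mul hab h2, smul_smul, inv_mul_cancel₀ h2, one_smul]

theorem hh_sq {a b : Fin k} (hab : a ≠ b) (h2 : (2 : F) ≠ 0) : hh F a b * hh F a b = 1 := by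
  rw [hh_eq hab h2, smul_mul_smul_comm, mul_assoc, ← mul_assoc (had1 F b), ← had1_comm hab h2,
    mul_assoc (had1 F a), had1_mul_self, mul_smul_comm, mul_one, mul_smul_comm, had1_mul_self,
    smul_smul, smul_smul]
  rw [show (2 : F)⁻¹ * 2⁻¹ * 2 * 2 = 1 by field_simp, one_smul]

theorem hh_trans {a b c : Fin k} (hab : a ≠ b) (hac : a ≠ c) (hcb : c ≠ b) (h2 : (2 : F) ≠ 0) :
    hh F a c * hh F c b = hh F a b := by
  rw [hh_eq hac h2, hh_eq hcb h2, hh_eq hab h2, smul_mul_smul_comm, mul_assoc,
    ← mul_assoc (had1 F c), had1_mul_self, smul_mul_assoc, one_mul, mul_smul_comm, smul_smul]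
  congr 1
  field_simp

/-- The unit of `hh`. -/
noncomputable def hhU (h2 : (2 : F) ≠ 0) {a b : Fin k} (hab : a ≠ b) : GL (Pt k) F :=
  ⟨hh F a b, hh F a b, hh_sq hab h2, hh_sq hab h2⟩

theorem hhU_isom (h2 : (2 : F) ≠ 0) {a b : Fin k} (hab : a ≠ b) : hhU h2 hab ∈ Isom F k :=
  mem_isom_of_transpose (by
    show (hh F a b)ᵀ * hh F a b = 1
    rw [hh_transpose, hh_sq hab h2])

theorem hhU_omg (hk : 3 ≤ k) (h2 : (2 : F) ≠ 0) {a b : Fin k} (hab : a ≠ b) :
    hhU h2 hab ∈ Omg F k := by
  classical
  obtain ⟨c, hca, hcb⟩ := PSLSimple.exists_third (by rw [Fintype.card_fin]; exact hk) a b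
  let σ : Equiv.Perm (Pt k) :=
    { toFun := fun x => x ∘ Equiv.swap a b
      invFun := fun x => x ∘ Equiv.swap a b
      left_inv := fun x => funext fun i => by simp
      right_inv := fun x => funext fun i => by simp }
  have hσ : pm F σ * hhU h2 hca.symm * (pm F σ)⁻¹ = hhU h2 hcb := by
    rw [mul_inv_eq_iff_eq_mul]
    refine Units.ext (Matrix.ext fun x y => ?_)
    rw [Units.val_mul, Units.val_mul, Matrix.mul_apply, Matrix.mul_apply,
      Finset.sum_eq_single (σ.symm x), Finset.sum_eq_single (σ y)]
    · rw [pm_apply, pm_apply, if_pos (σ.apply_symm_apply x).symm, if_pos rfl, one_mul, mul_one]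
      show hh F a c (x ∘ Equiv.swap a b) y = hh F c b x (y ∘ Equiv.swap a b)
      simp only [hh, Matrix.of_apply, Function.comp_apply, Equiv.swap_apply_left,
        Equiv.swap_apply_right, Equiv.swap_apply_of_ne_of_ne hca hcb]
      refine if_congr ⟨fun h i hic hib => ?_, fun h i hia hic => ?_⟩ ?_ rfl
      · by_cases hia : i = a
        · subst hia
          have := h b hab.symm (Ne.symm hcb)
          rw [Equiv.swap_apply_right] at this
          rw [Equiv.swap_apply_left]
          exact this
        · have := h i hia hic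
          rwa [Equiv.swap_apply_of_ne_of_ne hia hib] at this ⊢
      · by_cases hib : i = b
        · subst hib
          have := h a hca.symm hab
          rw [Equiv.swap_apply_left] at this
          rw [Equiv.swap_apply_right]
          exact this
        · have := h i hic hib
          rwa [Equiv.swap_apply_of_ne_of_ne hia hib] at this ⊢
      · congr 2
        ring
    · intro z _ hz
      rw [pm_apply, if_neg hz, mul_zero]
    · simp
    · intro z _ hz
      rw [pm_apply, if_neg (fun e => hz (by rw [e, Equiv.symm_apply_apply])), zero_mul]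
    · simp
  have h := comm_mem_omg (hhU_isom h2 hca.symm) (pm_isom (F := F) σ)
  rw [mul_assoc _ (hhU h2 hca.symm)⁻¹, mul_assoc] at h
  have hinv : (hhU h2 hca.symm)⁻¹ = hhU h2 hca.symm := Units.ext rfl
  rw [hinv, ← mul_assoc (pm F σ), hσ] at h
  rwa [show hhU h2 hca.symm * hhU h2 hcb = hhU h2 hab from
    Units.ext (hh_trans hab hca.symm hcb h2)] at h

theorem had1_pau (a : Fin k) (p q : Pt k) :
    had1 F a * (pau F p q : GL (Pt k) F).1 =
      sgn F (p a * q a) •
        ((pau F (Function.update p a (q a)) (Function.update q a (p a)) : GL (Pt k) F).1 *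
          had1 F a) := by
  classical
  have hp : ∀ (p q x y : Pt k), (pau F p q : GL (Pt k) F).1 x y =
      if x = y + p then sgn F (ip q y) else 0 := fun p q x y => by
    show ((pm F (Equiv.addRight p) : GL (Pt k) F).1 *
      Matrix.diagonal (fun z => sgn F (ip q z)) : Matrix (Pt k) (Pt k) F) x y = _
    rw [Matrix.mul_diagonal, pm_apply]
    show (if x = y + p then (1 : F) else 0) * _ = _
    split <;> simp
  have two : ∀ u : Pt k, u + u = 0 := fun u => funext fun j => CharTwo.add_self_eq_zero _
  set p' := Function.update p a (q a)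
  set q' := Function.update q a (p a)
  ext x y
  rw [Matrix.mul_apply, Matrix.smul_apply, Matrix.mul_apply, smul_eq_mul,
    Finset.sum_eq_single (y + p), Finset.sum_eq_single (x + p')]
  · rw [hp, hp, if_pos rfl, if_pos (by rw [add_assoc, two, add_zero])]
    simp only [had1, Matrix.of_apply, Pi.add_apply]
    have hc : (∀ i, i ≠ a → x i = y i + p i) ↔ ∀ i, i ≠ a → x i + p' i = y i :=
      forall₂_congr fun i hi => by
        rw [show p' i = p i from Function.update_of_ne hi _ _]
        exact CharTwo.add_eq_iff_eq_add.symm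
    by_cases hoff : ∀ i, i ≠ a → x i = y i + p i
    · rw [if_pos hoff, if_pos (hc.1 hoff), ← sgn_add, ← sgn_add, ← sgn_add]
      congr 1
      have hoff' : ∀ i, i ≠ a → x i + p' i = y i := hc.1 hoff
      have hip : ip q' (x + p') + ip q y = p a * (x a + q a) + q a * y a := by
        simp only [ip, dotProduct]
        rw [← Finset.sum_add_distrib, Finset.sum_eq_single a]
        · simp [q', p', Pi.add_apply]
        · intro i _ hi
          rw [Pi.add_apply, hoff' i hi, show q' i = q i from Function.update_of_ne hi _ _]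
          exact CharTwo.add_self_eq_zero _
        · simp
      rw [show p' a = q a from Function.update_self _ _ _]
      revert hip
      generalize x a = u, y a = v, p a = s, q a = t, ip q' (x + p') = m, ip q y = n
      revert u v s t m n
      decide
    · rw [if_neg hoff, if_neg (fun h => hoff (hc.2 h))]
      simp
  · intro z _ hz
    rw [hp, if_neg (fun e => hz (by rw [e, add_assoc, two, add_zero])), zero_mul]
  · simp
  · intro z _ hz
    rw [hp, if_neg hz, mul_zero]
  · simp

theorem hhU_nr (h2 : (2 : F) ≠ 0) {a b : Fin k} (hab : a ≠ b) : Nr (hhU h2 hab) := fun p q => by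
  classical
  set p₁ := Function.update p b (q b)
  set q₁ := Function.update q b (p b)
  refine ⟨Function.update p₁ a (q₁ a), Function.update q₁ a (p₁ a), p b * q b + p₁ a * q₁ a, ?_⟩
  rw [mul_inv_eq_iff_eq_mul]
  refine Units.ext ?_
  show hh F a b * (pau F p q : GL (Pt k) F).1 = Matrix.diagonal _ * _ * hh F a b
  rw [hh_eq hab h2, smul_mul_assoc, mul_assoc, had1_pau, mul_smul_comm, ← mul_assoc, had1_pau,
    smul_mul_assoc, mul_assoc, show Matrix.diagonal (fun _ : Pt k =>
      sgn F (p b * q b + p₁ a * q₁ a)) = sgn F (p b * q b + p₁ a * q₁ a) • (1 : Matrix (Pt k) (Pt k) F)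
      from (Matrix.smul_one_eq_diagonal _).symm, smul_mul_assoc, one_mul, smul_mul_assoc,
    mul_smul_comm, smul_smul, smul_smul, smul_smul, sgn_add]
  congr 1
  ring

end Cfsg.Agent.C6Plus10
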