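import Mathlib
import Cfsg.Prelude.Def_GeometricClasses
import Cfsg.Agent.Lib.C6Plus10CoordGen
import Cfsg.Agent.Lib.SympTypeTwo

/-!
An absolutely irreducible group of isometries of symplectic type of plus type is the real Clifford
model with respect to an orthogonal basis of vectors of equal norm.
-/

set_option autoImplicit false
set_option linter.unusedSectionVars false
set_option linter.style.haveILetI false
set_option maxHeartbeats 1000000

namespace Cfsg.Agent.C6Plus10

open Matrix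
open scoped MatrixGroups

variable {F : Type*} [Field F] {ι : Type} [Fintype ι] [DecidableEq ι]

/-- The scalar attached to a bit. -/
def sg (ι : Type) [Fintype ι] [DecidableEq ι] (F : Type*) [Field F] (z : ZMod 2) : GL ι F :=
  if z = 0 then 1 else -1

@[simp] theorem sg_zero : sg ι F 0 = 1 := if_pos rfl

theorem sg_one : sg ι F 1 = -1 := if_neg one_ne_zero

theorem sg_add (a b : ZMod 2) : sg ι F (a + b) = sg ι F a * sg ι F b := by
  rcases (show ∀ c : ZMod 2, c = 0 ∨ c = 1 by decide) a with rfl | rfl <;>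
    rcases (show ∀ c : ZMod 2, c = 0 ∨ c = 1 by decide) b with rfl | rfl <;>
      simp [sg_one, show (1 : ZMod 2) + 1 = 0 by decide]

theorem sg_mul_self (a : ZMod 2) : sg ι F a * sg ι F a = 1 := by
  rw [← sg_add, CharTwo.add_self_eq_zero, sg_zero]

theorem sg_comm (a : ZMod 2) (g : GL ι F) : g * sg ι F a = sg ι F a * g := by
  rcases (show ∀ c : ZMod 2, c = 0 ∨ c = 1 by decide) a with rfl | rfl <;> simp [sg_one]

theorem sg_pull (a : ZMod 2) (g h : GL ι F) : g * (sg ι F a * h) = sg ι F a * (g * h) := by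
  rw [← mul_assoc, sg_comm, mul_assoc]

theorem sg_mulVec (a : ZMod 2) (x : ι → F) :
    (sg ι F a : Matrix ι ι F) *ᵥ x = sgn F a • x := by
  rcases (show ∀ c : ZMod 2, c = 0 ∨ c = 1 by decide) a with rfl | rfl
  · simp
  · rw [sg_one, sgn_one, Units.val_neg, Units.val_one, neg_mulVec, one_mulVec, neg_one_smul]

theorem neg_one_ne [Nonempty ι] (h2 : (2 : F) ≠ 0) : (-1 : GL ι F) ≠ 1 := fun e => by
  have := congrArg (fun g : GL ι F => (g : Matrix ι ι F) (Classical.arbitrary ι)
    (Classical.arbitrary ι)) e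
  simp at this
  exact h2 (by linear_combination -this)

theorem sg_inj [Nonempty ι] (h2 : (2 : F) ≠ 0) {a b : ZMod 2} (h : sg ι F a = sg ι F b) :
    a = b := by
  rcases (show ∀ c : ZMod 2, c = 0 ∨ c = 1 by decide) a with rfl | rfl <;>
    rcases (show ∀ c : ZMod 2, c = 0 ∨ c = 1 by decide) b with rfl | rfl <;>
      simp only [sg_zero, sg_one] at h ⊢
  · exact absurd h.symm (neg_one_ne h2)
  · exact absurd h (neg_one_ne h2)

/-- A parametrisation of an elementary abelian group. -/
theorem exists_param {G : Type*} [Group G] (U : Subgroup G) [Finite U]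
    (hc : ∀ x ∈ U, ∀ y ∈ U, x * y = y * x) (hsq : ∀ x ∈ U, x * x = 1) :
    ∃ (m : ℕ) (ψ : Pt m → G), (∀ a b, ψ (a + b) = ψ a * ψ b) ∧ Function.Injective ψ ∧
      (∀ a, ψ a ∈ U) ∧ (∀ x ∈ U, ∃ a, ψ a = x) ∧ Nat.card U = 2 ^ m := by
  classical
  letI : CommGroup ↥U :=
    { (inferInstance : Group ↥U) with
      mul_comm := fun a b => Subtype.ext (hc a a.2 b b.2) }
  letI : Module (ZMod 2) (Additive ↥U) := AddCommGroup.zmodModule fun x => by
    rw [two_nsmul]
    exact congrArg Additive.ofMul (Subtype.ext (hsq _ (Additive.toMul x).2) :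
      Additive.toMul x * Additive.toMul x = 1)
  haveI : Finite (Additive ↥U) := ‹Finite U›
  let B := Module.finBasis (ZMod 2) (Additive ↥U)
  let e := B.equivFun.symm
  refine ⟨_, fun a => ((Additive.toMul (e a) : ↥U) : G), fun a b => ?_, fun a b h => ?_,
    fun a => (Additive.toMul (e a)).2, fun x hx => ⟨e.symm (Additive.ofMul ⟨x, hx⟩), ?_⟩, ?_⟩
  · simp only [map_add, toMul_add, Subgroup.coe_mul]
  · exact e.injective (Additive.toMul.injective (Subtype.ext h))
  · show ((Additive.toMul (e (e.symm _)) : ↥U) : G) = x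
    rw [e.apply_symm_apply]; rfl
  · rw [← Nat.card_congr (e.toEquiv.trans Additive.toMul), Nat.card_fun, Nat.card_fin, Nat.card_zmod]

/-- A simultaneous eigenvector of commuting involutions. -/
theorem exists_eigen [Nonempty ι] (s : Finset (GL ι F))
    (hc : ∀ x ∈ s, ∀ y ∈ s, x * y = y * x) (hsq : ∀ x ∈ s, x * x = 1) :
    ∃ v : ι → F, v ≠ 0 ∧ ∀ x ∈ s, ∃ z, (x : Matrix ι ι F) *ᵥ v = sgn F z • v := by
  classical
  induction s using Finset.induction with
  | empty => exact ⟨Pi.single (Classical.arbitrary ι) 1, Pi.single_ne_zero_iff.2 one_ne_zero,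
      fun x hx => absurd hx (Finset.notMem_empty x)⟩
  | insert a t hat ih =>
    obtain ⟨v, hv, hz⟩ := ih (fun x hx y hy => hc x (Finset.mem_insert_of_mem hx) y
      (Finset.mem_insert_of_mem hy)) fun x hx => hsq x (Finset.mem_insert_of_mem hx)
    by_cases h0 : v + (a : Matrix ι ι F) *ᵥ v = 0
    · refine ⟨v, hv, fun x hx => ?_⟩
      rcases Finset.mem_insert.1 hx with rfl | hx
      · exact ⟨1, by rw [sgn_one, neg_one_smul]; exact eq_neg_of_add_eq_zero_right h0⟩
      · exact hz x hx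
    · refine ⟨_, h0, fun x hx => ?_⟩
      rcases Finset.mem_insert.1 hx with rfl | hx
      · refine ⟨0, ?_⟩
        rw [mulVec_add, mulVec_mulVec, ← Units.val_mul, hsq x (Finset.mem_insert_self _ _),
          Units.val_one, one_mulVec, sgn_zero, one_smul, add_comm]
      · obtain ⟨z, e⟩ := hz x hx
        refine ⟨z, ?_⟩
        rw [mulVec_add, mulVec_mulVec, ← Units.val_mul,
          hc x (Finset.mem_insert_of_mem hx) a (Finset.mem_insert_self _ _), Units.val_mul,
          ← mulVec_mulVec, e, mulVec_smul, smul_add]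

variable [Finite F] {n k : ℕ}

/-- The model of a group of symplectic type of plus type. -/
theorem exists_coord (hn : 0 < n) (h2 : (2 : F) ≠ 0) {q : QuadraticForm F (Fin n → F)}
    (hnd : (QuadraticMap.polarBilin q).Nondegenerate) (R : Subgroup (GL (Fin n) F))
    (hRs : Cfsg.Geo.IsSymplecticTypeGroup 2 R)
    (hirr : Cfsg.Geo.ActsAbsolutelyIrreducibly (Cfsg.Geo.matrixSet R))
    (hRD : R ≤ Cfsg.isometryGroup F ⇑q) (hcard : Nat.card R = 2 ^ (1 + 2 * k))
    (hZ : Nat.card (Subgroup.center R) = 2) (hpt : Cfsg.Geo.IsOfPlusType k R) :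
    ∃ (L : (Pt k → F) ≃ₗ[F] (Fin n → F)) (η : F), η ≠ 0 ∧
      (∀ x, q (L x) = η * (x ⬝ᵥ x)) ∧
      ∀ g : GL (Fin n) F, g ∈ R ↔ ∃ (a b : Pt k) (c : ZMod 2), ∀ x,
        (g : Matrix (Fin n) (Fin n) F) *ᵥ L x =
          L (((sd F (fun _ => c) * pau F a b : GL (Pt k) F) : Matrix (Pt k) (Pt k) F) *ᵥ x) := by
  classical
  haveI : Nonempty (Fin n) := ⟨⟨0, hn⟩⟩
  haveI : Finite (GL (Fin n) F) := inferInstance
  letI : Fintype (GL (Fin n) F) := Fintype.ofFinite _
  have S := SympTypeTwo.Setup.mk' h2 hRs hirr (by rw [hZ])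
  obtain ⟨A, hAc, hA1, hAcard⟩ := hpt
  have hneg := S.neg
  have hsgR : ∀ z, sg (Fin n) F z ∈ R := fun z => by
    rcases (show ∀ c : ZMod 2, c = 0 ∨ c = 1 by decide) z with rfl | rfl
    · rw [sg_zero]; exact R.one_mem
    · rw [sg_one]; exact hneg
  have hscal : ∀ g ∈ R, (∀ h ∈ R, h * g = g * h) → ∃ z, g = sg (Fin n) F z := by
    intro g hg hc
    obtain ⟨x, y, hxy, hu⟩ := Nat.card_eq_two_iff.1 hZ
    have hm : ∀ (w : GL (Fin n) F) (hw : w ∈ R), (∀ h ∈ R, h * w = w * h) →
        (⟨w, hw⟩ : R) ∈ Subgroup.center R := fun w hw hcw =>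
      Subgroup.mem_center_iff.2 fun h => Subtype.ext (hcw h h.2)
    have h1 : ∀ (w : GL (Fin n) F) (hw : w ∈ R), (∀ h ∈ R, h * w = w * h) →
        ((x : R) : GL (Fin n) F) = w ∨ ((y : R) : GL (Fin n) F) = w := fun w hw hcw => by
      have : (⟨⟨w, hw⟩, hm w hw hcw⟩ : Subgroup.center R) ∈ ({x, y} : Set _) := by
        rw [hu]; exact Set.mem_univ _
      rcases this with e | e
      · exact Or.inl (congrArg (fun a : Subgroup.center R => ((a : R) : GL (Fin n) F)) e).symm
      · exact Or.inr (congrArg (fun a : Subgroup.center R => ((a : R) : GL (Fin n) F)) e).symm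
    have hne := neg_one_ne (ι := Fin n) h2
    rcases h1 g hg hc with e | e <;> rcases h1 1 R.one_mem (by simp) with e1 | e1 <;>
      rcases h1 (-1) hneg (by simp) with e2 | e2
    all_goals first
      | exact absurd (e2.symm.trans e1) hne
      | exact ⟨0, by rw [sg_zero]; exact e.symm.trans e1⟩
      | exact ⟨1, by rw [sg_one]; exact e.symm.trans e2⟩
  -- the abelian group and its eigenvector
  let A₁ : Subgroup (GL (Fin n) F) := A.map R.subtype
  have hA₁c : ∀ x ∈ A₁, ∀ y ∈ A₁, x * y = y * x := by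
    rintro _ ⟨x, hx, rfl⟩ _ ⟨y, hy, rfl⟩
    rw [← map_mul, ← map_mul]
    exact congrArg R.subtype (congrArg Subtype.val (hAc.is_comm.comm ⟨x, hx⟩ ⟨y, hy⟩))
  have hA₁q : ∀ x ∈ A₁, x * x = 1 := by
    rintro _ ⟨x, hx, rfl⟩
    rw [← map_mul, hA1 x hx, map_one]
  obtain ⟨v, hv0, hveig⟩ := exists_eigen (Finset.univ.filter (fun x => x ∈ A₁) :
    Finset (GL (Fin n) F)) (fun x hx y hy => hA₁c x (by simpa using hx) y (by simpa using hy))
    fun x hx => hA₁q x (by simpa using hx)
  let U : Subgroup (GL (Fin n) F) :=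
    { carrier := {g | (∃ z, sg (Fin n) F z * g ∈ A₁) ∧ (g : Matrix (Fin n) (Fin n) F) *ᵥ v = v}
      one_mem' := ⟨⟨0, by rw [sg_zero, one_mul]; exact A₁.one_mem⟩, by simp⟩
      mul_mem' := fun {a b} ha hb => by
        obtain ⟨⟨z, hz⟩, hav⟩ := ha
        obtain ⟨⟨z', hz'⟩, hbv⟩ := hb
        refine ⟨⟨z + z', ?_⟩, by rw [Units.val_mul, ← mulVec_mulVec, hbv, hav]⟩
        have := A₁.mul_mem hz hz'
        rwa [mul_assoc, sg_pull, ← mul_assoc, ← sg_add] at this
      inv_mem' := fun {a} ha => by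
        obtain ⟨⟨z, hz⟩, hav⟩ := ha
        refine ⟨⟨z, ?_⟩, ?_⟩
        · have := A₁.inv_mem hz
          rwa [_root_.mul_inv_rev, inv_eq_of_mul_eq_one_right (sg_mul_self z), sg_comm] at this
        · conv_lhs => rw [← hav]
          rw [mulVec_mulVec, ← Units.val_mul, inv_mul_cancel, Units.val_one, one_mulVec] }
  have hUc : ∀ x ∈ U, ∀ y ∈ U, x * y = y * x := by
    rintro x ⟨⟨z, hz⟩, -⟩ y ⟨⟨z', hz'⟩, -⟩
    have hcz : ∀ (w : ZMod 2) (g : GL (Fin n) F), Commute (sg (Fin n) F w) g := fun w g =>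
      (sg_comm w g).symm
    have hpr : Commute (sg (Fin n) F z * x) (sg (Fin n) F z' * y) := hA₁c _ hz _ hz'
    have h3 : Commute (sg (Fin n) F z * (sg (Fin n) F z * x))
        (sg (Fin n) F z' * (sg (Fin n) F z' * y)) :=
      (hcz z _).mul_left ((hcz z' _).symm.mul_right hpr)
    rwa [← mul_assoc, sg_mul_self, one_mul, ← mul_assoc, sg_mul_self, one_mul] at h3
  have hUq : ∀ x ∈ U, x * x = 1 := by
    rintro x ⟨⟨z, hz⟩, -⟩
    have := hA₁q _ hz
    rwa [mul_assoc, sg_pull, ← mul_assoc, sg_mul_self, one_mul] at this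
  haveI : Finite U := inferInstance
  obtain ⟨m, ψ, ψadd, ψinj, ψU, ψsur, ψcard⟩ := exists_param U hUc hUq
  have ψv : ∀ b, (ψ b : Matrix (Fin n) (Fin n) F) *ᵥ v = v := fun b => (ψU b).2
  have ψR : ∀ b, ψ b ∈ R := fun b => by
    obtain ⟨z, x, hx, e⟩ := (ψU b).1
    have h : sg (Fin n) F z * (sg (Fin n) F z * ψ b) = ψ b := by
      rw [← mul_assoc, sg_mul_self, one_mul]
    rw [← h, ← e]
    exact R.mul_mem (hsgR z) x.2
  have ψ0 : ψ 0 = 1 := by
    have h := ψadd 0 0
    rw [add_zero] at h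
    exact mul_eq_left.1 h.symm
  -- every element of the abelian group
  have hA₁U : ∀ x ∈ A₁, ∃ z b, x = sg (Fin n) F z * ψ b := by
    intro x hx
    obtain ⟨z, hz⟩ := hveig x (by simpa using hx)
    obtain ⟨b, hb⟩ := ψsur (sg (Fin n) F z * x) ⟨⟨z, by rw [← mul_assoc, sg_mul_self, one_mul]; exact hx⟩,
      by rw [Units.val_mul, ← mulVec_mulVec, hz, mulVec_smul, sg_mulVec, smul_smul, sgn_mul_self,
        one_smul]⟩
    exact ⟨z, b, by rw [hb, ← mul_assoc, sg_mul_self, one_mul]⟩
  -- the characters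
  have hconj : ∀ c ∈ R, ∀ b, ∃ z, c * ψ b * c⁻¹ = sg (Fin n) F z * ψ b := fun c hc b => by
    rcases S.conj c hc (ψ b) (ψR b) with e | e
    · exact ⟨0, by rw [sg_zero, one_mul, e]⟩
    · exact ⟨1, by rw [sg_one, neg_mul, one_mul, e]⟩
  choose! χ hχ using hconj
  let t : GL (Fin n) F → Pt m := fun c i => χ c (Pi.single i 1)
  have χu : ∀ c ∈ R, ∀ b z, c * ψ b * c⁻¹ = sg (Fin n) F z * ψ b → χ c b = z :=
    fun c hc b z e => sg_inj h2 (mul_right_cancel ((hχ c hc b).symm.trans e))
  have χt : ∀ c ∈ R, ∀ b, χ c b = ip (t c) b := by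
    intro c hc b
    let f : Pt m →ₗ[ZMod 2] ZMod 2 := AddMonoidHom.toZModLinearMap 2
      (AddMonoidHom.mk' (χ c) fun b b' => χu c hc _ _ (by
        rw [ψadd, show c * (ψ b * ψ b') * c⁻¹ = (c * ψ b * c⁻¹) * (c * ψ b' * c⁻¹) by group,
          hχ c hc, hχ c hc, mul_assoc, sg_pull, ← mul_assoc, ← sg_add]))
    show f b = _
    conv_lhs => rw [← Finset.univ_sum_single b]
    rw [map_sum, ip, dotProduct]
    refine Finset.sum_congr rfl fun i _ => ?_
    rw [show (Pi.single i (b i) : Pt m) = b i • Pi.single i 1 by rw [← Pi.single_smul, smul_eq_mul,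
      mul_one], map_smul, smul_eq_mul, mul_comm]
    rfl
  have tmul : ∀ c ∈ R, ∀ d ∈ R, t (c * d) = t c + t d := fun c hc d hd => funext fun i =>
    χu _ (R.mul_mem hc hd) _ _ (by
      rw [show c * d * ψ (Pi.single i 1) * (c * d)⁻¹ = c * (d * ψ (Pi.single i 1) * d⁻¹) * c⁻¹ by
        group, hχ d hd, sg_pull, mul_assoc (sg (Fin n) F _), hχ c hc, ← mul_assoc, ← sg_add]
      show sg (Fin n) F (t d i + t c i) * _ = _
      rw [add_comm]; rfl)
  let T : ↥R →* Multiplicative (Pt m) := MonoidHom.mk'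
    (fun c => Multiplicative.ofAdd (t c)) fun c d => by rw [← ofAdd_add, ← tmul c c.2 d d.2]; rfl
  have Tsur : Function.Surjective T := by
    let W : AddSubgroup (Pt m) :=
      { carrier := {a | ∃ c ∈ R, t c = a}
        zero_mem' := ⟨1, R.one_mem, by
          have h := tmul 1 R.one_mem 1 R.one_mem
          rw [mul_one] at h
          exact left_eq_add.1 h⟩
        add_mem' := fun {a b} ⟨c, hc, e⟩ ⟨d, hd, e'⟩ =>
          ⟨c * d, R.mul_mem hc hd, by rw [tmul c hc d hd, e, e']⟩
        neg_mem' := fun {a} ⟨c, hc, e⟩ => ⟨c, hc, by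
          rw [e, show -a = a from funext fun j => CharTwo.neg_eq _]⟩ }
    have hW : AddSubgroup.toZModSubmodule 2 W = ⊤ := by
      by_contra hne
      obtain ⟨f, hf, hle⟩ := Submodule.exists_le_ker_of_lt_top _ (lt_top_iff_ne_top.2 hne)
      let b : Pt m := fun i => f (Pi.single i 1)
      have hfb : ∀ a, f a = ip a b := fun a => by
        conv_lhs => rw [← Finset.univ_sum_single a]
        rw [map_sum, ip, dotProduct]
        refine Finset.sum_congr rfl fun i _ => ?_
        rw [show (Pi.single i (a i) : Pt m) = a i • Pi.single i 1 by rw [← Pi.single_smul, smul_eq_mul,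
          mul_one], map_smul, smul_eq_mul]
      obtain ⟨z, hz⟩ := hscal (ψ b) (ψR b) fun c hc => by
        have h0 : f (t c) = 0 := hle (show t c ∈ AddSubgroup.toZModSubmodule 2 W from ⟨c, hc, rfl⟩)
        have := hχ c hc b
        rw [χt c hc, ← hfb, h0, sg_zero, one_mul] at this
        exact mul_inv_eq_iff_eq_mul.1 this
      have hz0 : z = 0 := by
        have h := ψv b
        rw [hz, sg_mulVec] at h
        rcases (show ∀ c : ZMod 2, c = 0 ∨ c = 1 by decide) z with e | e
        · exact e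
        · exfalso
          rw [e, sgn_one, neg_one_smul, neg_eq_iff_add_eq_zero, ← two_smul F, smul_eq_zero] at h
          exact hv0 (h.resolve_left h2)
      rw [hz0, sg_zero, ← ψ0] at hz
      exact hf (LinearMap.ext fun a => by rw [hfb, ψinj hz, ip, dotProduct_zero]; rfl)
    intro a
    obtain ⟨c, hc, e⟩ : Multiplicative.toAdd a ∈ W := by
      have : Multiplicative.toAdd a ∈ AddSubgroup.toZModSubmodule 2 W := hW ▸ Submodule.mem_top
      exact this
    exact ⟨⟨c, hc⟩, Multiplicative.toAdd.injective e⟩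
  -- counting
  let emb : Pt m × ZMod 2 → ↥R := fun p => ⟨sg (Fin n) F p.2 * ψ p.1, R.mul_mem (hsgR _) (ψR _)⟩
  have hemb : Function.Injective emb := by
    rintro ⟨b, z⟩ ⟨b', z'⟩ e
    have e1 : sg (Fin n) F z * ψ b = sg (Fin n) F z' * ψ b' := congrArg Subtype.val e
    have e2 := congrArg (fun g : GL (Fin n) F => (g : Matrix (Fin n) (Fin n) F) *ᵥ v) e1
    simp only [Units.val_mul, ← mulVec_mulVec, ψv, sg_mulVec] at e2
    have hz : z = z' := sgn_inj h2 (smul_left_injective F hv0 e2)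
    subst hz
    exact Prod.ext (ψinj (mul_left_cancel e1)) rfl
  have hker : ∀ p, emb p ∈ T.ker := fun p => by
    rw [MonoidHom.mem_ker]
    refine Multiplicative.toAdd.injective (funext fun i => χu _ (emb p).2 _ 0 ?_)
    rw [sg_zero, one_mul, mul_inv_eq_iff_eq_mul]
    show sg (Fin n) F p.2 * ψ p.1 * ψ _ = ψ _ * (sg (Fin n) F p.2 * ψ p.1)
    rw [sg_pull, mul_assoc, ← ψadd, ← ψadd, add_comm]
  have hcR : Nat.card ↥R = 2 ^ m * Nat.card T.ker := by
    rw [Subgroup.card_eq_card_quotient_mul_card_subgroup T.ker,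
      Nat.card_congr (QuotientGroup.quotientKerEquivOfSurjective T Tsur).toEquiv,
      Nat.card_congr Multiplicative.toAdd, Nat.card_fun, Nat.card_fin, Nat.card_zmod]
  let emb' : Pt m × ZMod 2 → ↥T.ker := fun p => ⟨emb p, hker p⟩
  have hemb' : Function.Injective emb' := fun p p' e => hemb (congrArg Subtype.val e)
  have hlow : 2 ^ m * 2 ≤ Nat.card T.ker := by
    have := Nat.card_le_card_of_injective emb' hemb'
    rwa [Nat.card_prod, Nat.card_fun, Nat.card_fin, Nat.card_zmod] at this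
  have hkm : k ≤ m := by
    have : Nat.card A ≤ 2 ^ m * 2 := by
      have hb : ∀ x : ↥A, ∃ p : Pt m × ZMod 2, emb p = (x : ↥R) := fun x => by
        obtain ⟨z, b, e⟩ := hA₁U _ ⟨x, x.2, rfl⟩
        exact ⟨(b, z), Subtype.ext e.symm⟩
      choose f hf using hb
      have := Nat.card_le_card_of_injective f fun x y e => by
        exact Subtype.ext ((hf x).symm.trans ((congrArg emb e).trans (hf y)))
      rwa [Nat.card_prod, Nat.card_fun, Nat.card_fin, Nat.card_zmod] at this
    rw [hAcard, ← pow_succ] at this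
    have := (Nat.pow_le_pow_iff_right (by norm_num : 1 < 2)).1 this
    omega
  have hmk : m ≤ k := by
    have h1 : 2 ^ m * (2 ^ m * 2) ≤ 2 ^ (1 + 2 * k) := by
      rw [← hcard, hcR]; exact Nat.mul_le_mul_left _ hlow
    rw [← pow_succ, ← pow_add] at h1
    have := (Nat.pow_le_pow_iff_right (by norm_num : 1 < 2)).1 h1
    omega
  obtain rfl : k = m := le_antisymm hkm hmk
  have hkereq : Function.Bijective emb' := by
    refine hemb'.bijective_of_nat_card_le ?_
    rw [Nat.card_prod, Nat.card_fun, Nat.card_fin, Nat.card_zmod]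
    rw [hcard, show 1 + 2 * k = k + (k + 1) by omega, pow_add] at hcR
    rw [← Nat.eq_of_mul_eq_mul_left (pow_pos (by norm_num) _) hcR, pow_succ]
  -- commuting lifts of the translations
  choose c hcR' hct using fun i : Fin k => show ∃ c ∈ R, t c = Pi.single i 1 by
    obtain ⟨⟨c, hc⟩, e⟩ := Tsur (Multiplicative.ofAdd (Pi.single i 1))
    exact ⟨c, hc, congrArg Multiplicative.toAdd e⟩
  have hcomm : ∀ i j, ∃ z, c i * c j = sg (Fin n) F z * (c j * c i) := fun i j => by
    rcases S.conj (c i) (hcR' i) (c j) (hcR' j) with e | e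
    · exact ⟨0, by rw [sg_zero, one_mul]; exact mul_inv_eq_iff_eq_mul.1 e⟩
    · refine ⟨1, ?_⟩
      rw [sg_one, mul_inv_eq_iff_eq_mul.1 e]
      simp
  have hsquare : ∀ i, ∃ z, c i * c i = sg (Fin n) F z := fun i => by
    rcases S.sq (c i) (hcR' i) with e | e
    exacts [⟨0, by rw [sg_zero, e]⟩, ⟨1, by rw [sg_one, e]⟩]
  choose γ hγ using hcomm
  choose σ hσ using hsquare
  have hψc : ∀ b i, ψ b * c i = sg (Fin n) F (b i) * (c i * ψ b) := fun b i => by
    have := hχ (c i) (hcR' i) b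
    rw [χt (c i) (hcR' i), hct, ip, single_dotProduct, one_mul, mul_inv_eq_iff_eq_mul] at this
    rw [this, mul_assoc, ← mul_assoc, sg_mul_self, one_mul]
  let bb : Fin k → Pt k := fun i j => if j < i then γ j i else if j = i then σ i else 0
  let d : Fin k → GL (Fin n) F := fun i => c i * ψ (bb i)
  have hd : ∀ i j, d i * d j = sg (Fin n) F (bb i j) * (c i * c j * ψ (bb i + bb j)) := fun i j => by
    show c i * ψ (bb i) * (c j * ψ (bb j)) = _
    rw [mul_assoc, ← mul_assoc (ψ (bb i)), hψc, ψadd, mul_assoc (sg (Fin n) F _), sg_pull]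
    group
  have hdsq : ∀ i, d i * d i = 1 := fun i => by
    rw [hd, hσ, show bb i + bb i = 0 from funext fun j => CharTwo.add_self_eq_zero _, ψ0, mul_one,
      show bb i i = σ i by simp [bb], sg_mul_self]
  have hdc : ∀ i j, d i * d j = d j * d i := by
    suffices h : ∀ i j, j < i → d i * d j = d j * d i by
      intro i j
      rcases lt_trichotomy i j with h' | h' | h'
      · exact (h j i h').symm
      · rw [h']
      · exact h i j h'
    intro i j hij
    rw [hd, hd, hγ j i, show bb j + bb i = bb i + bb j from add_comm _ _,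
      show bb j i = 0 by simp [bb, hij.not_gt, hij.ne'], sg_zero, one_mul,
      show bb i j = γ j i by simp [bb, hij]]
    simp only [mul_assoc]
  let C := Subgroup.closure (Set.range d)
  haveI hCc : IsMulCommutative C := Subgroup.isMulCommutative_closure (by
    rintro _ ⟨i, rfl⟩ _ ⟨j, rfl⟩; exact hdc i j)
  let dC : Fin k → C := fun i => ⟨d i, Subgroup.subset_closure ⟨i, rfl⟩⟩
  letI : CommGroup C := { (inferInstance : Group C) with mul_comm := hCc.is_comm.comm }
  let u : Pt k → GL (Fin n) F := fun a => ((∏ i, dC i ^ (a i).val : C) : GL (Fin n) F)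
  have hdR : ∀ i, d i ∈ R := fun i => R.mul_mem (hcR' i) (ψR _)
  have huR : ∀ a, u a ∈ R := fun a =>
    (Subgroup.closure_le R).2 (by rintro _ ⟨i, rfl⟩; exact hdR i) (∏ i, dC i ^ (a i).val : C).2
  have uadd : ∀ a b, u (a + b) = u a * u b := fun a b => by
    rw [← Subgroup.coe_mul, ← Finset.prod_mul_distrib]
    refine congrArg Subtype.val (Finset.prod_congr rfl fun i _ => ?_)
    rw [← pow_add, Pi.add_apply, ZMod.val_add]
    exact (pow_eq_pow_mod _ (by rw [pow_two]; exact Subtype.ext (hdsq i))).symm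
  have ht1 : t 1 = 0 := by
    have h := tmul 1 R.one_mem 1 R.one_mem
    rw [mul_one] at h
    exact left_eq_add.1 h
  have htψ : ∀ b, t (ψ b) = 0 := fun b => by
    have := MonoidHom.mem_ker.1 (hker (b, 0))
    have e : emb (b, 0) = ⟨ψ b, ψR b⟩ := Subtype.ext (by simp [emb])
    rw [e] at this
    exact congrArg Multiplicative.toAdd this
  have htu : ∀ a, t (u a) = a := by
    let g : Pt k →+ Pt k := AddMonoidHom.mk' (fun a => t (u a))
      fun a b => by rw [uadd, tmul _ (huR a) _ (huR b)]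
    intro a
    show g a = a
    conv_rhs => rw [← Finset.univ_sum_single a]
    conv_lhs => rw [← Finset.univ_sum_single a]
    rw [map_sum]
    refine Finset.sum_congr rfl fun i _ => ?_
    rcases (show ∀ c : ZMod 2, c = 0 ∨ c = 1 by decide) (a i) with e | e <;> rw [e]
    · rw [Pi.single_zero, map_zero]
    · show t (u _) = _
      have : u (Pi.single i 1) = d i := by
        show ((∏ j, dC j ^ ((Pi.single i 1 : Pt k) j).val : C) : GL (Fin n) F) = d i
        rw [Finset.prod_eq_single i (fun j _ hj => by rw [Pi.single_eq_of_ne hj, ZMod.val_zero,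
          pow_zero]) (by simp), Pi.single_eq_same, ZMod.val_one, pow_one]
      rw [this, tmul _ (hcR' i) _ (ψR _), hct, htψ, add_zero]
  have hdec : ∀ r ∈ R, ∃ a b z, r = sg (Fin n) F z * (u a * ψ b) := fun r hr => by
    have hmem : (⟨(u (t r))⁻¹ * r, R.mul_mem (R.inv_mem (huR _)) hr⟩ : ↥R) ∈ T.ker := by
      rw [MonoidHom.mem_ker]
      have : (⟨(u (t r))⁻¹ * r, R.mul_mem (R.inv_mem (huR _)) hr⟩ : ↥R) =
          ⟨u (t r), huR _⟩⁻¹ * ⟨r, hr⟩ := rfl
      rw [this, map_mul, map_inv, inv_mul_eq_one]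
      exact congrArg Multiplicative.ofAdd (htu _)
    obtain ⟨⟨b, z⟩, e⟩ := hkereq.2 ⟨_, hmem⟩
    refine ⟨t r, b, z, ?_⟩
    have e' : sg (Fin n) F z * ψ b = (u (t r))⁻¹ * r :=
      congrArg (fun x : T.ker => ((x : ↥R) : GL (Fin n) F)) e
    rw [← sg_pull, e', mul_inv_cancel_left]
  -- the basis
  let w : Pt k → Fin n → F := fun a => (u a : Matrix (Fin n) (Fin n) F) *ᵥ v
  have hψw : ∀ b x, (ψ b : Matrix (Fin n) (Fin n) F) *ᵥ w x = sgn F (ip b x) • w x := fun b x => by
    have h := hχ (u x) (huR x) b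
    rw [χt _ (huR x), htu, mul_inv_eq_iff_eq_mul] at h
    have h' : ψ b * u x = sg (Fin n) F (ip x b) * (u x * ψ b) := by
      rw [h, mul_assoc, ← mul_assoc, sg_mul_self, one_mul]
    show _ *ᵥ (_ *ᵥ v) = _
    rw [mulVec_mulVec, ← Units.val_mul, h', Units.val_mul, Units.val_mul, ← mulVec_mulVec,
      ← mulVec_mulVec, ψv, sg_mulVec, ip, ip, dotProduct_comm]
  have huw : ∀ a x, (u a : Matrix (Fin n) (Fin n) F) *ᵥ w x = w (x + a) := fun a x => by
    show _ *ᵥ (_ *ᵥ v) = _
    rw [mulVec_mulVec, ← Units.val_mul, ← uadd, add_comm]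
  have hiso : ∀ g ∈ R, ∀ x, q ((g : Matrix (Fin n) (Fin n) F) *ᵥ x) = q x := fun g hg x =>
    hRD hg x x
  have hqw : ∀ x, q (w x) = q v := fun x => hiso _ (huR x) v
  have hpw : ∀ x y, x ≠ y → QuadraticMap.polar q (w x) (w y) = 0 := by
    intro x y hxy
    obtain ⟨i, hi⟩ := Function.ne_iff.1 hxy
    let b : Pt k := Pi.single i 1
    have hp : QuadraticMap.polar q ((ψ b : Matrix (Fin n) (Fin n) F) *ᵥ w x)
        ((ψ b : Matrix (Fin n) (Fin n) F) *ᵥ w y) = QuadraticMap.polar q (w x) (w y) := by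
      simp only [QuadraticMap.polar, ← mulVec_add, hiso _ (ψR b)]
    rw [hψw, hψw, QuadraticMap.polar_smul_left, QuadraticMap.polar_smul_right, smul_eq_mul,
      smul_eq_mul, ← mul_assoc, ← sgn_add] at hp
    have hs : ip b x + ip b y = 1 := by
      simp only [b, ip, single_dotProduct, one_mul]
      revert hi
      generalize x i = a, y i = c'
      revert a c'
      decide
    rw [hs, sgn_one, neg_one_mul, neg_eq_iff_add_eq_zero, ← two_mul, mul_eq_zero] at hp
    exact hp.resolve_left h2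
  set η := q v
  let L₀ : (Pt k → F) →ₗ[F] (Fin n → F) := Fintype.linearCombination F w
  have hL₀ : ∀ x, L₀ x = ∑ a, x a • w a := fun x => Fintype.linearCombination_apply F w x
  have hpol : ∀ x a, QuadraticMap.polar q (L₀ x) (w a) = x a * (2 * η) := fun x a => by
    rw [hL₀, ← QuadraticMap.polarBilin_apply_apply, map_sum, LinearMap.sum_apply,
      Finset.sum_eq_single a]
    · rw [map_smul, LinearMap.smul_apply, QuadraticMap.polarBilin_apply_apply,
        QuadraticMap.polar_self, hqw, smul_eq_mul, two_nsmul, two_mul]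
    · intro a' _ hne
      rw [map_smul, LinearMap.smul_apply, QuadraticMap.polarBilin_apply_apply, hpw _ _ hne,
        smul_zero]
    · simp
  have hLs : ∀ a, L₀ (Pi.single a 1) = w a := fun a => by
    simp [L₀, Fintype.linearCombination_apply_single]
  have hact : ∀ a b z x, ((sg (Fin n) F z * (u a * ψ b) : GL (Fin n) F) :
      Matrix (Fin n) (Fin n) F) *ᵥ L₀ x =
      L₀ (((sd F (fun _ => z) * pau F a b : GL (Pt k) F) : Matrix (Pt k) (Pt k) F) *ᵥ x) := by
    intro a b z x
    have key : ∀ y : Pt k, ((sd F (fun _ => z) * pau F a b : GL (Pt k) F) :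
        Matrix (Pt k) (Pt k) F) *ᵥ Pi.single y 1 =
        (sgn F z * sgn F (ip b y)) • Pi.single (y + a) 1 := fun y => by
      rw [pau, Units.val_mul, Units.val_mul, ← mulVec_mulVec, ← mulVec_mulVec]
      show Matrix.diagonal _ *ᵥ (_ *ᵥ (Matrix.diagonal _ *ᵥ Pi.single y 1)) = _
      ext r
      rw [Matrix.diagonal_mulVec_single, Matrix.mulVec_single, Matrix.mulVec_diagonal]
      simp only [Pi.smul_apply, Matrix.col_apply, pm_apply, op_smul_eq_mul, mul_one, smul_eq_mul,
        Pi.single_apply, Equiv.coe_addRight]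
      have hite : ∀ (P : Prop) (d : Decidable P) (d' : Decidable P),
          @ite F P d 1 0 = @ite F P d' 1 0 := fun P d d' => by congr
      rw [hite (r = y + a) _ (Classical.propDecidable _)]
      rw [mul_assoc, mul_comm (sgn F (ip b y))]
      congr
    conv_lhs => rw [hL₀]
    conv_rhs => rw [← Finset.univ_sum_single x]
    rw [mulVec_sum, mulVec_sum, map_sum]
    refine Finset.sum_congr rfl fun y _ => ?_
    rw [show (Pi.single y (x y) : Pt k → F) = x y • Pi.single y 1 by rw [← Pi.single_smul, smul_eq_mul,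
      mul_one], mulVec_smul, mulVec_smul, key, map_smul, map_smul, hLs, Units.val_mul, Units.val_mul,
      ← mulVec_mulVec, ← mulVec_mulVec, hψw, mulVec_smul, huw, mulVec_smul, sg_mulVec, smul_smul,
      smul_smul, smul_smul]
    congr 1
    ring
  have hsurj : LinearMap.range L₀ = ⊤ := by
    refine (hirr.1 _ ?_).resolve_left fun hb => hv0 ?_
    · rintro _ ⟨g, hg, rfl⟩ _ ⟨_, ⟨x, rfl⟩, rfl⟩
      obtain ⟨a, b, z, rfl⟩ := hdec g hg
      rw [Matrix.toLin'_apply, hact]
      exact ⟨_, rfl⟩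
    · have : w 0 ∈ LinearMap.range L₀ := ⟨_, hLs 0⟩
      rw [hb, Submodule.mem_bot] at this
      have h0 : u 0 = 1 := mul_eq_left.1 (((uadd 0 0).symm).trans (by rw [add_zero]))
      simpa [w, h0] using this
  have hη : η ≠ 0 := fun h0 => hv0 (hnd.1 v fun y => by
    obtain ⟨x, rfl⟩ := LinearMap.range_eq_top.1 hsurj y
    show QuadraticMap.polarBilin q v (L₀ x) = 0
    rw [QuadraticMap.polarBilin_apply_apply, QuadraticMap.polar_comm,
      show v = w 0 by
        have h0' : u 0 = 1 := mul_eq_left.1 (((uadd 0 0).symm).trans (by rw [add_zero]))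
        simp [w, h0'], hpol, h0, mul_zero, mul_zero])
  have hinj : Function.Injective L₀ := (injective_iff_map_eq_zero L₀).2 fun x hx => funext fun a => by
    have := hpol x a
    rw [hx, QuadraticMap.polar_zero_left] at this
    exact (mul_eq_zero.1 this.symm).resolve_right (mul_ne_zero h2 hη)
  let L := LinearEquiv.ofBijective L₀ ⟨hinj, LinearMap.range_eq_top.1 hsurj⟩
  refine ⟨L, η, hη, fun x => mul_left_cancel₀ h2 ?_, fun g => ⟨fun hg => ?_, ?_⟩⟩
  · show 2 * q (L₀ x) = _
    rw [show (2 : F) * q (L₀ x) = QuadraticMap.polar q (L₀ x) (L₀ x) by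
      rw [QuadraticMap.polar_self, two_nsmul, two_mul]]
    conv_lhs => arg 3; rw [hL₀]
    rw [← QuadraticMap.polarBilin_apply_apply, map_sum, dotProduct, Finset.mul_sum, Finset.mul_sum]
    refine Finset.sum_congr rfl fun a _ => ?_
    rw [map_smul, QuadraticMap.polarBilin_apply_apply, hpol, smul_eq_mul]
    ring
  · obtain ⟨a, b, z, rfl⟩ := hdec g hg
    exact ⟨a, b, z, hact a b z⟩
  · rintro ⟨a, b, z, h⟩
    have e : g = sg (Fin n) F z * (u a * ψ b) := by
      refine Units.ext (Matrix.ext_iff_mulVec.2 fun y => ?_)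
      obtain ⟨x, rfl⟩ := L.surjective y
      exact (h x).trans (hact a b z x).symm
    rw [e]
    exact R.mul_mem (hsgR z) (R.mul_mem (huR a) (ψR b))

end Cfsg.Agent.C6Plus10
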