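import Mathlib
import Cfsg.Agent.Lib.C6Plus10CoordGen
import Cfsg.Agent.Lib.C6Plus10CoordRep
import Cfsg.Agent.Lib.OmegaGeo

/-!
Maximality of the normaliser of a group of symplectic type of plus type in the orthogonal group,
from the statement about overgroups in the real Clifford model.
-/

set_option autoImplicit false
set_option linter.unusedSectionVars false
set_option linter.style.haveILetI false
set_option maxHeartbeats 1000000

namespace Cfsg.Agent.C6Plus10

open Matrix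
open scoped MatrixGroups

variable {F : Type*} [Field F] {k : ℕ}

theorem sd_const (c : ZMod 2) : sd F (fun _ : Pt k => c) = sg (Pt k) F c := by
  rcases (show ∀ d : ZMod 2, d = 0 ∨ d = 1 by decide) c with rfl | rfl
  · rw [sg_zero]; exact sd_zero
  · rw [sg_one]
    refine Units.ext ?_
    show Matrix.diagonal (fun _ => sgn F 1) = _
    rw [sgn_one, Units.val_neg, Units.val_one, ← Matrix.diagonal_one, Matrix.diagonal_neg]

/-- A sign change at two points is not quadratic. -/
theorem exists_not_nr (hk : 4 ≤ k) (h2 : (2 : F) ≠ 0) :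
    ∃ g ∈ Omg F k, ¬ Nr g := by
  classical
  let i : Fin 4 → Fin k := fun j => ⟨j, by omega⟩
  have hi : ∀ a b, a ≠ b → i a ≠ i b := fun a b h e => h (Fin.ext (by simpa [i] using e))
  refine ⟨sd F (Pi.single 0 1 + Pi.single (Pi.single (i 0) 1) 1), sd_pair _ _, fun h => ?_⟩
  have hA := dl_of_nr h2 h (Pi.single (i 3) 1) (Pi.single (i 1) 1) (Pi.single (i 2) 1) 0
  set f : Pt k → ZMod 2 := Pi.single 0 1 + Pi.single (Pi.single (i 0) 1) 1
  have hf : ∀ v : Pt k, v (i 0) = 0 → (v (i 1) = 1 ∨ v (i 2) = 1 ∨ v (i 3) = 1) → f v = 0 := by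
    intro v h0 h1
    have hv0 : v ≠ 0 := fun e => by simp [e] at h1
    have hv1 : v ≠ Pi.single (i 0) 1 := fun e => by simp [e] at h0
    simp [f, hv0, hv1]
  have hz : f 0 = 1 := by
    have : (0 : Pt k) ≠ Pi.single (i 0) 1 := fun e => by
      have := congrFun e (i 0)
      simp at this
    simp [f, this]
  simp only [dl, zero_add] at hA
  have n01 := hi 0 1 (by decide); have n02 := hi 0 2 (by decide); have n03 := hi 0 3 (by decide)
  have n12 := hi 1 2 (by decide); have n13 := hi 1 3 (by decide); have n23 := hi 2 3 (by decide)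
  simp [hf, hz, n01, n02, n03, n12, n13, n23, n01.symm, n02.symm, n03.symm, n12.symm, n13.symm,
    n23.symm] at hA

/-- The conjugation attached to a linear equivalence. -/
noncomputable def coordIso {ι : Type} [Fintype ι] [DecidableEq ι] (L : (Pt k → F) ≃ₗ[F] (ι → F)) :
    Matrix (Pt k) (Pt k) F ≃* Matrix ι ι F :=
  ((Matrix.toLinAlgEquiv'.trans (L.conjAlgEquiv F)).trans LinearMap.toMatrixAlgEquiv').toMulEquiv

theorem coordIso_mulVec {ι : Type} [Fintype ι] [DecidableEq ι] (L : (Pt k → F) ≃ₗ[F] (ι → F))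
    (M : Matrix (Pt k) (Pt k) F) (x : Pt k → F) : coordIso L M *ᵥ L x = L (M *ᵥ x) := by
  show LinearMap.toMatrixAlgEquiv' (L.conjAlgEquiv F (Matrix.toLinAlgEquiv' M)) *ᵥ L x = _
  rw [← Matrix.toLinAlgEquiv'_apply, Matrix.toLinAlgEquiv'_toMatrixAlgEquiv',
    LinearEquiv.conjAlgEquiv_apply]
  simp [Matrix.toLinAlgEquiv'_apply]

/-- The normaliser of a symplectic-type group of plus type is maximal, given the overgroup
statement in the model. -/
theorem of_core [Fintype F] {n : ℕ}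
    (hcore : ∀ k : ℕ, 4 ≤ k → ∀ M : Subgroup (GL (Pt k) F), Base M → M ≤ Omg F k →
      (∀ g ∈ M, Nr g) ∨ Omg F k ≤ M)
    (hn : 13 ≤ n) (Q : (Fin n → F) → F) (hQ : Cfsg.Geo.IsNondegenerateQuadraticForm Q)
    (p k : ℕ) (hp : p.Prime) (hpo : Odd p) (hF : Fintype.card F = p)
    (R : Subgroup (Matrix.GeneralLinearGroup (Fin n) F))
    (hR : Cfsg.Geo.IsSymplecticTypeGroup 2 R)
    (hirr : Cfsg.Geo.ActsAbsolutelyIrreducibly (Cfsg.Geo.matrixSet R))
    (hRD : R ≤ Cfsg.isometryGroup F Q) (hcard : Nat.card R = 2 ^ (1 + 2 * k))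
    (hZ : Nat.card (Subgroup.center R) = 2) (hpt : Cfsg.Geo.IsOfPlusType k R) :
    Cfsg.Geo.IsMaximalIn (Cfsg.Geo.omegaGL Q)
      (Cfsg.Geo.subgroupNormalizer R ⊓ Cfsg.Geo.omegaGL Q) := by
  classical
  have h2 : (2 : F) ≠ 0 := by
    haveI : Fact p.Prime := ⟨hp⟩
    haveI : CharP F p := charP_of_card_eq_prime hF
    intro e
    have := (CharP.cast_eq_zero_iff F p 2).1 (by exact_mod_cast e)
    have h' := (Nat.prime_dvd_prime_iff_eq hp Nat.prime_two).1 this
    subst h'
    exact absurd hpo (by decide)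
  obtain ⟨q, rfl, hnd⟩ := OmegaGeo.exists_quad hQ
  obtain ⟨L, η, hη, hq, hmem⟩ := exists_coord (by omega) h2 hnd R hR hirr hRD hcard hZ hpt
  have hnk : n = 2 ^ k := by
    have := L.finrank_eq
    rw [Module.finrank_pi, Module.finrank_pi, Fintype.card_fin, Fintype.card_fun, Fintype.card_fin,
      ZMod.card] at this
    exact this.symm
  have hk : 4 ≤ k := by
    by_contra h
    have := Nat.pow_le_pow_right (show 0 < 2 by norm_num) (show k ≤ 3 by omega)
    omega
  let Φ : GL (Pt k) F ≃* GL (Fin n) F := Units.mapEquiv (coordIso L)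
  have hΦ : ∀ (g : GL (Pt k) F) x,
      (Φ g : Matrix (Fin n) (Fin n) F) *ᵥ L x = L ((g : Matrix (Pt k) (Pt k) F) *ᵥ x) :=
    fun g x => coordIso_mulVec L (g : Matrix (Pt k) (Pt k) F) x
  have hext : ∀ (g : GL (Fin n) F) (h : GL (Pt k) F), g = Φ h ↔
      ∀ x, (g : Matrix (Fin n) (Fin n) F) *ᵥ L x = L ((h : Matrix (Pt k) (Pt k) F) *ᵥ x) := by
    intro g h
    refine ⟨fun e x => by rw [e, hΦ], fun e => Units.ext (Matrix.ext_iff_mulVec.2 fun y => ?_)⟩
    obtain ⟨x, rfl⟩ := L.surjective y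
    rw [e, hΦ]
  -- isometries and derived groups correspond
  have hiso : (Isom F k).map Φ.toMonoidHom = Cfsg.isometryGroup F ⇑q := by
    ext g
    obtain ⟨h, rfl⟩ := Φ.surjective g
    rw [Subgroup.mem_map_equiv, MulEquiv.symm_apply_apply]
    constructor
    · intro hh u v
      obtain ⟨x, rfl⟩ := L.surjective u
      show q ((Φ h : Matrix (Fin n) (Fin n) F) *ᵥ L x) = q (L x)
      rw [hΦ, hq, hq, ← Frame10.sq_apply, ← Frame10.sq_apply]
      exact congrArg (η * ·) (hh x x)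
    · intro hh u v
      have e : q ((Φ h : Matrix (Fin n) (Fin n) F) *ᵥ L u) = q (L u) := hh (L u) (L u)
      rw [hΦ, hq, hq, ← Frame10.sq_apply, ← Frame10.sq_apply] at e
      exact mul_left_cancel₀ hη e
  have homg : (Omg F k).map Φ.toMonoidHom = Cfsg.Geo.omegaGL ⇑q := by
    rw [omg_eq, omega_eq_commutator, Subgroup.map_commutator, hiso]
  have hmemΩ : ∀ g, Φ g ∈ Cfsg.Geo.omegaGL ⇑q ↔ g ∈ Omg F k := fun g => by
    rw [← homg, Subgroup.mem_map_equiv, MulEquiv.symm_apply_apply]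
  -- the group
  have hR' : ∀ g, Φ g ∈ R ↔ ∃ (a b : Pt k) (c : ZMod 2), g = sd F (fun _ => c) * pau F a b := by
    intro g
    rw [hmem]
    refine exists_congr fun a => exists_congr fun b => exists_congr fun c => ?_
    rw [← hext, EmbeddingLike.apply_eq_iff_eq]
  have hN : ∀ g, Φ g ∈ Cfsg.Geo.subgroupNormalizer R ↔ Nr g := by
    intro g
    constructor
    · intro h a b
      have h1 : Φ (pau F a b) ∈ R :=
        (hR' _).2 ⟨a, b, 0, by rw [sd_const, sg_zero, one_mul]⟩
      have h3 := (Subgroup.mem_normalizer_iff.1 h _).1 h1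
      rw [← map_inv, ← map_mul, ← map_mul] at h3
      exact (hR' _).1 h3
    · intro h
      haveI : Finite (GL (Fin n) F) := inferInstance
      refine Subgroup.mem_normalizer_fintype fun x hx => ?_
      obtain ⟨x, rfl⟩ := Φ.surjective x
      obtain ⟨a, b, c, rfl⟩ := (hR' x).1 hx
      obtain ⟨a', b', c', e⟩ := h a b
      show Φ g * Φ _ * (Φ g)⁻¹ ∈ R
      rw [← map_inv, ← map_mul, ← map_mul]
      refine (hR' _).2 ⟨a', b', c + c', ?_⟩
      rw [sd_const, sd_const, sg_pull, mul_assoc, e, sd_const, ← mul_assoc, ← sg_add]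
  have hN' : ∀ g, Φ g ∈ Cfsg.Geo.subgroupNormalizer R ⊓ Cfsg.Geo.omegaGL ⇑q ↔
      Nr g ∧ g ∈ Omg F k := fun g => by rw [Subgroup.mem_inf, hN, hmemΩ]
  refine ⟨lt_of_le_of_ne inf_le_right fun h => ?_, fun M hHM hMΩ => ?_⟩
  · obtain ⟨g, hg, hng⟩ := exists_not_nr (F := F) hk h2
    have := (hmemΩ g).2 hg
    rw [← h, hN'] at this
    exact hng this.1
  · let M' : Subgroup (GL (Pt k) F) := M.comap Φ.toMonoidHom
    have hM' : M' ≤ Omg F k := fun g hg => (hmemΩ g).1 (hMΩ hg)
    have hin : ∀ g, Nr g → g ∈ Omg F k → g ∈ M' := fun g h1 h3 => hHM ((hN' g).2 ⟨h1, h3⟩)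
    have hB : Base M' :=
      { iso := fun g hg => transpose_of_mem_isom h2 (omg_le (hM' hg))
        quad := fun f hf => hin _ (sd_nr hf) (quad_omg (by omega) hf)
        aff := fun π hπ => hin _ (pm_nr hπ) (aff_omg (by omega) hπ)
        had := fun a b hab => ⟨hhU h2 hab, hin _ (hhU_nr h2 hab) (hhU_omg (by omega) h2 hab), rfl⟩ }
    rcases hcore k hk M' hB hM' with h | h
    · refine Or.inl (le_antisymm (fun g hg => ?_) hHM)
      obtain ⟨g, rfl⟩ := Φ.surjective g
      exact (hN' g).2 ⟨h g hg, hM' hg⟩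
    · refine Or.inr (le_antisymm hMΩ fun g hg => ?_)
      obtain ⟨g, rfl⟩ := Φ.surjective g
      exact h ((hmemΩ g).1 hg)

end Cfsg.Agent.C6Plus10
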