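import Cfsg.Agent.Lib.C6Cplx52CoordDefs
import Cfsg.Agent.Lib.C6Plus10Coord
import Cfsg.Agent.Lib.C6Plus10Alg

/-!
An absolutely irreducible group of symplectic type with centre of order four is the Clifford model of
complex type in suitable coordinates.
-/

set_option autoImplicit false
set_option linter.unusedSectionVars false
set_option linter.style.haveILetI false
set_option maxHeartbeats 1000000

namespace Cfsg.Agent.C6Cplx52

open Matrix Cfsg.Agent.C6Plus10
open scoped MatrixGroups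

variable {F : Type*} [Field F] {k : ℕ} {ι : Type} [Fintype ι] [DecidableEq ι]

/-- The isomorphism of general linear groups attached to coordinates. -/
noncomputable def phi (L : (Pt k → F) ≃ₗ[F] (ι → F)) : GL (Pt k) F ≃* GL ι F :=
  Units.mapEquiv (coordIso L)

theorem phi_mulVec (L : (Pt k → F) ≃ₗ[F] (ι → F)) (g : GL (Pt k) F) (x : Pt k → F) :
    (phi L g : Matrix ι ι F) *ᵥ L x = L ((g : Matrix (Pt k) (Pt k) F) *ᵥ x) :=
  coordIso_mulVec L (g : Matrix (Pt k) (Pt k) F) x

theorem pau_single (a b y : Pt k) :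
    ((pau F a b : GL (Pt k) F) : Matrix (Pt k) (Pt k) F) *ᵥ Pi.single y 1 =
      sgn F (ip b y) • Pi.single (y + a) 1 := by
  classical
  rw [pau, Units.val_mul, ← mulVec_mulVec]
  show _ *ᵥ (Matrix.diagonal _ *ᵥ Pi.single y 1) = _
  ext r
  rw [Matrix.diagonal_mulVec_single, Matrix.mulVec_single]
  simp only [Pi.smul_apply, Matrix.col_apply, pm_apply, op_smul_eq_mul, mul_one, smul_eq_mul,
    Pi.single_apply, Equiv.coe_addRight]
  by_cases h : r = y + a <;> simp [h]

theorem sum_sgn (h2 : (2 : F) ≠ 0) {x : Pt k} (hx : x ≠ 0) : ∑ b : Pt k, sgn F (ip b x) = 0 := by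
  classical
  obtain ⟨j, hj⟩ := Function.ne_iff.1 hx
  have hj1 : x j = 1 := (show ∀ c : ZMod 2, c ≠ 0 → c = 1 by decide) _ hj
  have h := (Equiv.sum_comp (Equiv.addRight (pe j)) fun b : Pt k => sgn F (ip b x)).symm
  simp only [Equiv.coe_addRight, ip_add_left, sgn_add, ip_pe, hj1, sgn_one, mul_neg_one,
    Finset.sum_neg_distrib] at h
  exact (mul_eq_zero.1 (show (2 : F) * ∑ b : Pt k, sgn F (ip b x) = 0 by linear_combination h)).resolve_left h2

theorem sc_injective [Nonempty ι] : Function.Injective (sc ι (F := F)) := fun c d h => by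
  have := congrArg (fun g : GL ι F => (g : Matrix ι ι F) (Classical.arbitrary ι) (Classical.arbitrary ι)) h
  simp [sc_val] at this
  exact Units.ext this

theorem sq_neg_one {i : Fˣ} (hi : (i : F) * i = -1) : i * i = -1 :=
  Units.ext (by rw [Units.val_mul, hi, Units.val_neg, Units.val_one])

theorem sc_neg_one : sc ι (-1 : Fˣ) = (-1 : GL ι F) :=
  Units.ext (by simp [sc_val])

theorem sgn_unit {i : Fˣ} (hi : (i : F) * i = -1) (z : ZMod 2) :
    ((i ^ (2 * z.val) : Fˣ) : F) = sgn F z := by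
  rcases zm_cases z with rfl | rfl
  · simp
  · rw [ZMod.val_one, sgn_one]; simp [pow_two, hi]

theorem sc_sg {i : Fˣ} (hi : (i : F) * i = -1) (z : ZMod 2) : sc ι (i ^ (2 * z.val)) = sg ι F z := by
  rcases zm_cases z with rfl | rfl
  · simp
  · rw [ZMod.val_one, sg_one, show 2 * 1 = 2 from rfl, pow_two, sq_neg_one hi, sc_neg_one]

/-- The coordinates. -/
theorem exists_coord {F : Type*} [Field F] [Finite F] {n : ℕ} (hn : 0 < n) {R : Subgroup (GL (Fin n) F)}
    (S : SympTypeTwo.Setup R) (hirr : Cfsg.Geo.ActsIrreducibly (Cfsg.Geo.matrixSet R))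
    (hZ : Nat.card (Subgroup.center R) = 4) :
    ∃ (m : ℕ) (i : Fˣ) (L : (Pt m → F) ≃ₗ[F] (Fin n → F)), (i : F) * i = -1 ∧
      ∀ g : GL (Pt m) F, phi L g ∈ R ↔ ∃ (a b : Pt m) (c : ℕ), g = sc (Pt m) (i ^ c) * pau F a b := by
  classical
  have h2 := S.h2
  haveI : Nonempty (Fin n) := ⟨⟨0, hn⟩⟩
  haveI : Finite (GL (Fin n) F) := inferInstance
  letI : Fintype (GL (Fin n) F) := Fintype.ofFinite _
  have hscC : ∀ g ∈ R, (∀ h ∈ R, h * g = g * h) → ∃ c : Fˣ, g = sc (Fin n) c := by
    intro g hg hc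
    obtain ⟨c, hcg⟩ := S.cent (g : Matrix (Fin n) (Fin n) F) fun u hu => by
      rw [← Units.val_mul, ← Units.val_mul, hc u hu]
    have hc0 : c ≠ 0 := fun e => by
      have := g.mul_inv
      rw [hcg, e, zero_smul, zero_mul] at this
      exact one_ne_zero this.symm
    exact ⟨Units.mk0 c hc0, Units.ext (by rw [hcg, sc_val, Units.val_mk0])⟩
  have hsq : ∀ c : Fˣ, sc (Fin n) c ∈ R → c * c = 1 ∨ c * c = -1 := fun c hc => by
    rcases S.sq _ hc with e | e <;> rw [← map_mul] at e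
    · exact Or.inl (sc_injective (e.trans (map_one _).symm))
    · exact Or.inr (sc_injective (e.trans sc_neg_one.symm))
  obtain ⟨i, hi', hiR⟩ : ∃ i : Fˣ, i * i = -1 ∧ sc (Fin n) i ∈ R := by
    by_contra hno
    push Not at hno
    let T : Finset (GL (Fin n) F) := {1, -1}
    have hc : ∀ z : Subgroup.center R, ((z : R) : GL (Fin n) F) ∈ T := by
      intro z
      obtain ⟨c, hc⟩ := hscC _ (z : R).2 fun h hh =>
        congrArg Subtype.val (Subgroup.mem_center_iff.1 z.2 ⟨h, hh⟩)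
      have hcR : sc (Fin n) c ∈ R := hc ▸ (z : R).2
      rcases hsq c hcR with e | e
      · rcases mul_self_eq_one_iff.1 (show (c : F) * c = 1 by
          rw [← Units.val_mul, e, Units.val_one]) with e | e
        · simp [T, hc, show c = 1 from Units.ext e]
        · simp [T, hc, show c = -1 from Units.ext (by simpa using e), sc_neg_one]
      · exact absurd hcR (hno c e)
    have := Nat.card_le_card_of_injective (fun z => (⟨_, hc z⟩ : (T : Finset (GL (Fin n) F))))
      fun z w e => Subtype.ext (Subtype.ext (Subtype.ext_iff.1 e :))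
    rw [hZ, Nat.card_eq_fintype_card, Fintype.card_coe] at this
    have h3 : T.card ≤ 2 := Finset.card_le_two
    omega
  have hi : (i : F) * i = -1 := by rw [← Units.val_mul, hi', Units.val_neg, Units.val_one]
  have hiR' : ∀ c : ℕ, sc (Fin n) (i ^ c) ∈ R := fun c => by rw [map_pow]; exact R.pow_mem hiR c
  have hsgR : ∀ z, sg (Fin n) F z ∈ R := fun z => (sc_sg (ι := Fin n) hi z) ▸ hiR' _
  have hscal : ∀ g ∈ R, (∀ h ∈ R, h * g = g * h) → ∃ c : ℕ, g = sc (Fin n) (i ^ c) := by
    intro g hg hc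
    obtain ⟨c, rfl⟩ := hscC g hg hc
    suffices ∃ m : ℕ, c = i ^ m by
      obtain ⟨m, rfl⟩ := this
      exact ⟨m, rfl⟩
    rcases hsq c hg with e | e
    · rcases mul_self_eq_one_iff.1 (show (c : F) * c = 1 by rw [← Units.val_mul, e, Units.val_one]) with e | e
      · exact ⟨0, Units.ext (by simpa using e)⟩
      · exact ⟨2, Units.ext (by simp [pow_two, hi, e])⟩
    · have e' : (c : F) * c = -1 := by rw [← Units.val_mul, e, Units.val_neg, Units.val_one]
      rcases mul_self_eq_mul_self_iff.1 (e'.trans hi.symm) with e | e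
      · exact ⟨1, Units.ext (by simpa using e)⟩
      · exact ⟨3, Units.ext (by simp [pow_succ, hi, e])⟩
  -- a maximal abelian subgroup
  let P : Subgroup (GL (Fin n) F) → Prop := fun H =>
    H ≤ R ∧ sc (Fin n) i ∈ H ∧ ∀ x ∈ H, ∀ y ∈ H, x * y = y * x
  have hP0 : P (Subgroup.zpowers (sc (Fin n) i)) := by
    refine ⟨Subgroup.zpowers_le.2 hiR, Subgroup.mem_zpowers _, ?_⟩
    intro x hx y hy
    obtain ⟨a, rfl⟩ := hx
    obtain ⟨b, rfl⟩ := hy
    show _ ^ a * _ ^ b = _ ^ b * _ ^ a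
    rw [← _root_.zpow_add, ← _root_.zpow_add, add_comm]
  haveI : Finite (Subgroup (GL (Fin n) F)) := inferInstance
  obtain ⟨A, hA⟩ := (Set.toFinite {H | P H}).exists_maximal ⟨_, hP0⟩
  obtain ⟨hAR, hiA, hAc⟩ := hA.1
  have hAmax : ∀ c ∈ R, (∀ a ∈ A, c * a = a * c) → c ∈ A := by
    intro c hc hca
    have hcomm : ∀ x ∈ insert c (A : Set (GL (Fin n) F)), ∀ y ∈ insert c (A : Set (GL (Fin n) F)),
        x * y = y * x := by
      rintro x (rfl | hx) y (rfl | hy)
      · rfl
      · exact hca y hy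
      · exact (hca x hx).symm
      · exact hAc x hx y hy
    haveI := Subgroup.isMulCommutative_closure hcomm
    have hP : P (Subgroup.closure (insert c (A : Set (GL (Fin n) F)))) :=
      ⟨(Subgroup.closure_le R).2 (Set.insert_subset hc hAR),
        Subgroup.subset_closure (Set.mem_insert_of_mem _ hiA),
        fun x hx y hy => congrArg Subtype.val (IsMulCommutative.is_comm.comm (⟨x, hx⟩ :
          Subgroup.closure (insert c (A : Set (GL (Fin n) F)))) ⟨y, hy⟩)⟩
    exact hA.2 hP (fun a ha => Subgroup.subset_closure (Set.mem_insert_of_mem _ ha))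
      (Subgroup.subset_closure (Set.mem_insert _ _))
  have hiA' : ∀ c : ℕ, sc (Fin n) (i ^ c) ∈ A := fun c => by rw [map_pow]; exact A.pow_mem hiA c
  obtain ⟨v, hv0, hv⟩ := exists_eigen (Finset.univ.filter fun x : GL (Fin n) F => x ∈ A ∧ x * x = 1)
    (fun x hx y hy => hAc x (Finset.mem_filter.1 hx).2.1 y (Finset.mem_filter.1 hy).2.1)
    fun x hx => (Finset.mem_filter.1 hx).2.2
  let U : Subgroup (GL (Fin n) F) :=
    { carrier := {x | x ∈ A ∧ x * x = 1 ∧ (x : Matrix (Fin n) (Fin n) F) *ᵥ v = v}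
      one_mem' := ⟨A.one_mem, mul_one 1, by rw [Units.val_one, one_mulVec]⟩
      mul_mem' := fun {x y} hx hy => ⟨A.mul_mem hx.1 hy.1,
        by rw [mul_assoc, ← mul_assoc y x, hAc y hy.1 x hx.1, mul_assoc x y y, hy.2.1, mul_one, hx.2.1],
        by rw [Units.val_mul, ← mulVec_mulVec, hy.2.2, hx.2.2]⟩
      inv_mem' := fun {x} hx => by
        have e : x⁻¹ = x := inv_eq_of_mul_eq_one_right hx.2.1
        rw [e]; exact hx }
  obtain ⟨m, ψ, ψadd, ψinj, ψU, ψsur, -⟩ := exists_param U (fun x hx y hy => hAc x hx.1 y hy.1)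
    fun x hx => hx.2.1
  have ψA : ∀ b, ψ b ∈ A := fun b => (ψU b).1
  have ψR : ∀ b, ψ b ∈ R := fun b => hAR (ψA b)
  have ψv : ∀ b, (ψ b : Matrix (Fin n) (Fin n) F) *ᵥ v = v := fun b => (ψU b).2.2
  have ψ0 : ψ 0 = 1 := mul_eq_left.1 ((ψadd 0 0).symm.trans (by rw [add_zero]))
  have hsqfix : ∀ x ∈ R, ∃ s : ℕ, sc (Fin n) (i ^ s) * x * (sc (Fin n) (i ^ s) * x) = 1 := by
    intro x hx
    rcases S.sq x hx with e | e
    · exact ⟨0, by simpa using e⟩
    · refine ⟨1, ?_⟩
      rw [pow_one, mul_assoc, sc_pull, e, ← mul_assoc, ← map_mul, hi', sc_neg_one]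
      simp
  have hAdec : ∀ x ∈ A, ∃ (b : Pt m) (c : ℕ), x = sc (Fin n) (i ^ c) * ψ b := by
    intro x hx
    obtain ⟨s, hs⟩ := hsqfix x (hAR hx)
    obtain ⟨z, hz⟩ := hv _ (Finset.mem_filter.2 ⟨Finset.mem_univ _, A.mul_mem (hiA' s) hx, hs⟩)
    have hy : sg (Fin n) F z * (sc (Fin n) (i ^ s) * x) ∈ U := by
      refine ⟨A.mul_mem ((sc_sg (ι := Fin n) hi z) ▸ hiA' _) (A.mul_mem (hiA' s) hx), ?_, ?_⟩
      · rw [mul_assoc, sg_pull, hs, mul_one, sg_mul_self]
      · rw [Units.val_mul, ← mulVec_mulVec, hz, mulVec_smul, sg_mulVec, smul_smul, sgn_mul_self,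
          one_smul]
    obtain ⟨b, hb⟩ := ψsur _ hy
    refine ⟨b, 3 * (2 * z.val + s), ?_⟩
    have hi4 : i ^ 4 = 1 := by
      rw [show 4 = 2 * 2 from rfl, pow_mul, pow_two i, hi']; exact neg_one_sq
    rw [hb, ← sc_sg hi z, ← mul_assoc, ← mul_assoc, ← map_mul, ← map_mul, ← pow_add, ← pow_add,
      show 3 * (2 * z.val + s) + 2 * z.val + s = 4 * (2 * z.val + s) by ring, pow_mul, hi4, one_pow,
      map_one, one_mul]
  -- the characters
  have hχex : ∀ c ∈ R, ∀ b, ∃ z, c * ψ b * c⁻¹ = sg (Fin n) F z * ψ b := fun c hc b => by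
    rcases S.conj c hc (ψ b) (ψR b) with e | e
    · exact ⟨0, by rw [sg_zero, one_mul, e]⟩
    · exact ⟨1, by rw [sg_one, e, neg_one_mul]⟩
  choose! χ hχ using hχex
  have χu : ∀ c ∈ R, ∀ b z, c * ψ b * c⁻¹ = sg (Fin n) F z * ψ b → χ c b = z := fun c hc b z h =>
    sg_inj h2 (mul_right_cancel ((hχ c hc b).symm.trans h))
  have χadd : ∀ c ∈ R, ∀ b b', χ c (b + b') = χ c b + χ c b' := fun c hc b b' => χu c hc _ _ (by
    rw [ψadd, show c * (ψ b * ψ b') * c⁻¹ = c * ψ b * c⁻¹ * (c * ψ b' * c⁻¹) by group,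
      hχ c hc b, hχ c hc b', mul_assoc, sg_pull, ← mul_assoc, ← sg_add])
  let t : GL (Fin n) F → Pt m := fun c j => χ c (pe j)
  have χt : ∀ c ∈ R, ∀ b, χ c b = ip (t c) b := fun c hc b => by
    let f : Pt m →+ ZMod 2 := AddMonoidHom.mk' (χ c) (χadd c hc)
    show f b = _
    conv_lhs => rw [← Finset.univ_sum_single b]
    rw [map_sum, ip, dotProduct]
    refine Finset.sum_congr rfl fun j _ => ?_
    rcases zm_cases (b j) with e | e <;> rw [e]
    · rw [Pi.single_zero, map_zero, mul_zero]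
    · rw [mul_one]; rfl
  have tmul : ∀ c ∈ R, ∀ d ∈ R, t (c * d) = t c + t d := fun c hc d hd => funext fun j =>
    χu (c * d) (R.mul_mem hc hd) _ _ (by
      rw [show c * d * ψ (pe j) * (c * d)⁻¹ = c * (d * ψ (pe j) * d⁻¹) * c⁻¹ by group,
        hχ d hd, sg_pull, mul_assoc, hχ c hc, ← mul_assoc, ← sg_add, add_comm]
      rfl)
  have hker : ∀ c ∈ R, t c = 0 → c ∈ A := fun c hc h => hAmax c hc fun a ha => by
    obtain ⟨b, e, rfl⟩ := hAdec a ha
    have h1 := hχ c hc b
    rw [χt c hc, h, ip_zero_left, sg_zero, one_mul, mul_inv_eq_iff_eq_mul] at h1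
    rw [sc_pull, h1, mul_assoc]
  have htψ : ∀ b, t (ψ b) = 0 := fun b => funext fun j => χu _ (ψR b) _ 0 (by
    rw [sg_zero, one_mul, hAc _ (ψA b) _ (ψA _), mul_inv_cancel_right])
  have ht1 : t 1 = 0 := ψ0 ▸ htψ 0
  have hsc_t : ∀ c : ℕ, t (sc (Fin n) (i ^ c)) = 0 := fun c => funext fun j => χu _ (hiR' c) _ 0 (by
    rw [sg_zero, one_mul, ← sc_comm, mul_inv_cancel_right])
  -- surjectivity
  have Tsur : ∀ a, ∃ c ∈ R, t c = a := by
    let W : AddSubgroup (Pt m) :=
      { carrier := {a | ∃ c ∈ R, t c = a}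
        zero_mem' := ⟨1, R.one_mem, ht1⟩
        add_mem' := fun {a b} ⟨c, hc, e⟩ ⟨d, hd, e'⟩ =>
          ⟨c * d, R.mul_mem hc hd, by rw [tmul c hc d hd, e, e']⟩
        neg_mem' := fun {a} ⟨c, hc, e⟩ => ⟨c, hc, by
          rw [e, show -a = a from funext fun j => CharTwo.neg_eq _]⟩ }
    have hW : AddSubgroup.toZModSubmodule 2 W = ⊤ := by
      by_contra hne
      obtain ⟨f, hf, hle⟩ := Submodule.exists_le_ker_of_lt_top _ (lt_top_iff_ne_top.2 hne)
      let b : Pt m := fun j => f (pe j)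
      have hfb : ∀ a, f a = ip a b := fun a => by
        conv_lhs => rw [← Finset.univ_sum_single a]
        rw [map_sum, ip, dotProduct]
        refine Finset.sum_congr rfl fun j _ => ?_
        rcases zm_cases (a j) with e | e <;> rw [e]
        · rw [Pi.single_zero, map_zero, zero_mul]
        · rw [one_mul]; rfl
      obtain ⟨z, hz⟩ := hscal (ψ b) (ψR b) fun c hc => by
        have h0 : f (t c) = 0 := hle (show t c ∈ AddSubgroup.toZModSubmodule 2 W from ⟨c, hc, rfl⟩)
        have h := hχ c hc b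
        rw [χt c hc, ← hfb, h0, sg_zero, one_mul, mul_inv_eq_iff_eq_mul] at h
        exact h
      have hz0 : ((i ^ z : Fˣ) : F) = 1 := by
        have h := ψv b
        rw [hz, sc_mulVec] at h
        exact smul_left_injective F hv0 (h.trans (one_smul F v).symm)
      rw [Units.val_eq_one.1 hz0, map_one, ← ψ0] at hz
      exact hf (LinearMap.ext fun a => by rw [hfb, ψinj hz, ip, dotProduct_zero]; rfl)
    intro a
    exact (hW ▸ Submodule.mem_top : a ∈ AddSubgroup.toZModSubmodule 2 W)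
  -- commuting involutions lifting the translations
  have hlift : ∀ j, ∃ c ∈ R, t c = pe j ∧ c * c = 1 := fun j => by
    obtain ⟨c, hc, e⟩ := Tsur (pe j)
    obtain ⟨s, hs⟩ := hsqfix c hc
    exact ⟨_, R.mul_mem (hiR' s) hc, by rw [tmul _ (hiR' s) _ hc, hsc_t, zero_add, e], hs⟩
  choose c hcR hct hcsq using hlift
  have hcomm : ∀ j l, ∃ z, c j * c l = sg (Fin n) F z * (c l * c j) := fun j l => by
    rcases S.conj (c j) (hcR j) (c l) (hcR l) with e | e
    · exact ⟨0, by rw [sg_zero, one_mul]; exact mul_inv_eq_iff_eq_mul.1 e⟩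
    · refine ⟨1, ?_⟩
      rw [sg_one, mul_inv_eq_iff_eq_mul.1 e]
      simp
  choose γ hγ using hcomm
  have hψc : ∀ b j, ψ b * c j = sg (Fin n) F (b j) * (c j * ψ b) := fun b j => by
    have := hχ (c j) (hcR j) b
    rw [χt (c j) (hcR j), hct, ip_pe, mul_inv_eq_iff_eq_mul] at this
    rw [this, mul_assoc, ← mul_assoc, sg_mul_self, one_mul]
  let bb : Fin m → Pt m := fun j l => if l < j then γ l j else 0
  let d : Fin m → GL (Fin n) F := fun j => c j * ψ (bb j)
  have hd : ∀ j l, d j * d l = sg (Fin n) F (bb j l) * (c j * c l * ψ (bb j + bb l)) := fun j l => by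
    show c j * ψ (bb j) * (c l * ψ (bb l)) = _
    rw [mul_assoc, ← mul_assoc (ψ (bb j)), hψc, ψadd, mul_assoc (sg (Fin n) F _), sg_pull]
    group
  have hdsq : ∀ j, d j * d j = 1 := fun j => by
    rw [hd, hcsq, show bb j j = 0 by simp [bb], pt_add_self, ψ0, sg_zero, mul_one, mul_one]
  have hdc : ∀ j l, d j * d l = d l * d j := by
    suffices h : ∀ j l, l < j → d j * d l = d l * d j by
      intro j l
      rcases lt_trichotomy j l with h' | h' | h'
      · exact (h l j h').symm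
      · rw [h']
      · exact h j l h'
    intro j l hlj
    rw [hd, hd, hγ l j, add_comm (bb l) (bb j),
      show bb l j = 0 by simp [bb, hlj.not_gt], sg_zero, one_mul,
      show bb j l = γ l j by simp [bb, hlj]]
    simp only [mul_assoc]
  let C := Subgroup.closure (Set.range d)
  haveI hCc : IsMulCommutative C := Subgroup.isMulCommutative_closure (by
    rintro _ ⟨j, rfl⟩ _ ⟨l, rfl⟩; exact hdc j l)
  let dC : Fin m → C := fun j => ⟨d j, Subgroup.subset_closure ⟨j, rfl⟩⟩
  letI : CommGroup C := { (inferInstance : Group C) with mul_comm := hCc.is_comm.comm }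
  let u : Pt m → GL (Fin n) F := fun a => ((∏ j, dC j ^ (a j).val : C) : GL (Fin n) F)
  have hdR : ∀ j, d j ∈ R := fun j => R.mul_mem (hcR j) (ψR _)
  have huR : ∀ a, u a ∈ R := fun a =>
    (Subgroup.closure_le R).2 (by rintro _ ⟨j, rfl⟩; exact hdR j) (∏ j, dC j ^ (a j).val : C).2
  have uadd : ∀ a b, u (a + b) = u a * u b := fun a b => by
    rw [← Subgroup.coe_mul, ← Finset.prod_mul_distrib]
    refine congrArg Subtype.val (Finset.prod_congr rfl fun j _ => ?_)
    rw [← pow_add, Pi.add_apply, ZMod.val_add]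
    exact (pow_eq_pow_mod _ (by rw [pow_two]; exact Subtype.ext (hdsq j))).symm
  have htu : ∀ a, t (u a) = a := by
    let g : Pt m →+ Pt m := AddMonoidHom.mk' (fun a => t (u a))
      fun a b => by rw [uadd, tmul _ (huR a) _ (huR b)]
    intro a
    show g a = a
    conv_rhs => rw [← Finset.univ_sum_single a]
    conv_lhs => rw [← Finset.univ_sum_single a]
    rw [map_sum]
    refine Finset.sum_congr rfl fun j _ => ?_
    rcases zm_cases (a j) with e | e <;> rw [e]
    · rw [Pi.single_zero, map_zero]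
    · show t (u _) = _
      have : u (Pi.single j 1) = d j := by
        show ((∏ l, dC l ^ ((Pi.single j 1 : Pt m) l).val : C) : GL (Fin n) F) = d j
        rw [Finset.prod_eq_single j (fun l _ hl => by rw [Pi.single_eq_of_ne hl, ZMod.val_zero,
          pow_zero]) (by simp), Pi.single_eq_same, ZMod.val_one, pow_one]
      rw [this, tmul _ (hcR j) _ (ψR _), hct, htψ, add_zero]
      rfl
  have hu0 : u 0 = 1 := mul_eq_left.1 (((uadd 0 0).symm).trans (by rw [add_zero]))
  have hdec : ∀ r ∈ R, ∃ a b e, r = sc (Fin n) (i ^ e) * (u a * ψ b) := fun r hr => by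
    have ht : t ((u (t r))⁻¹ * r) = 0 := by
      have h := tmul _ (huR (t r)) _ (R.mul_mem (R.inv_mem (huR (t r))) hr)
      rw [mul_inv_cancel_left, htu] at h
      exact left_eq_add.1 h
    obtain ⟨b, e, he⟩ := hAdec _ (hker _ (R.mul_mem (R.inv_mem (huR _)) hr) ht)
    exact ⟨t r, b, e, by rw [← sc_pull, ← he, mul_inv_cancel_left]⟩
  -- the basis
  let w : Pt m → Fin n → F := fun a => (u a : Matrix (Fin n) (Fin n) F) *ᵥ v
  have hψw : ∀ b x, (ψ b : Matrix (Fin n) (Fin n) F) *ᵥ w x = sgn F (ip b x) • w x := fun b x => by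
    have h := hχ (u x) (huR x) b
    rw [χt _ (huR x), htu, mul_inv_eq_iff_eq_mul] at h
    have h' : ψ b * u x = sg (Fin n) F (ip x b) * (u x * ψ b) := by
      rw [h, mul_assoc, ← mul_assoc, sg_mul_self, one_mul]
    show _ *ᵥ (_ *ᵥ v) = _
    rw [mulVec_mulVec, ← Units.val_mul, h', Units.val_mul, Units.val_mul, ← mulVec_mulVec,
      ← mulVec_mulVec, ψv, sg_mulVec, ip, ip, dotProduct_comm]
  have huw : ∀ a x, (u a : Matrix (Fin n) (Fin n) F) *ᵥ w x = w (x + a) := fun a x => by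
    show _ *ᵥ (_ *ᵥ v) = _
    rw [mulVec_mulVec, ← Units.val_mul, ← uadd, add_comm]
  let L₀ : (Pt m → F) →ₗ[F] (Fin n → F) := Fintype.linearCombination F w
  have hL₀ : ∀ x, L₀ x = ∑ a, x a • w a := fun x => Fintype.linearCombination_apply F w x
  have hLs : ∀ a, L₀ (Pi.single a 1) = w a := fun a => by
    simp [L₀, Fintype.linearCombination_apply_single]
  have hact : ∀ a b (e : Fˣ) x, ((sc (Fin n) e * (u a * ψ b) : GL (Fin n) F) :
      Matrix (Fin n) (Fin n) F) *ᵥ L₀ x =
      L₀ (((sc (Pt m) e * pau F a b : GL (Pt m) F) : Matrix (Pt m) (Pt m) F) *ᵥ x) := by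
    intro a b e x
    conv_lhs => rw [hL₀]
    conv_rhs => rw [← Finset.univ_sum_single x]
    rw [mulVec_sum, mulVec_sum, map_sum]
    refine Finset.sum_congr rfl fun y _ => ?_
    rw [show (Pi.single y (x y) : Pt m → F) = x y • Pi.single y 1 by
        rw [← Pi.single_smul, smul_eq_mul, mul_one],
      mulVec_smul, mulVec_smul, map_smul, Units.val_mul (sc (Pt m) e), ← mulVec_mulVec, pau_single,
      mulVec_smul, sc_mulVec, map_smul, map_smul, hLs, Units.val_mul, Units.val_mul,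
      ← mulVec_mulVec, ← mulVec_mulVec, hψw, mulVec_smul, huw, mulVec_smul, sc_mulVec]
  have hinj : Function.Injective L₀ := (injective_iff_map_eq_zero L₀).2 fun x hx => funext fun y => by
    have h0 : ∑ b : Pt m, sgn F (ip b y) • ((ψ b : Matrix (Fin n) (Fin n) F) *ᵥ L₀ x) = 0 :=
      Finset.sum_eq_zero fun b _ => by rw [hx, mulVec_zero, smul_zero]
    simp only [hL₀, mulVec_sum, mulVec_smul, hψw, Finset.smul_sum, smul_smul] at h0
    rw [Finset.sum_comm, Finset.sum_eq_single y] at h0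
    · rw [← Finset.sum_smul, smul_eq_zero] at h0
      have hwy : w y ≠ 0 := fun e => hv0 (by
        have := congrArg (fun z => (u y : Matrix (Fin n) (Fin n) F) *ᵥ z) e
        rw [mulVec_zero, huw, pt_add_self] at this
        simpa [w, hu0] using this)
      have h1 := h0.resolve_right hwy
      rw [Finset.sum_congr rfl fun b _ => show sgn F (ip b y) * (x y * sgn F (ip b y)) = x y by
        rw [mul_left_comm, sgn_mul_self, mul_one], Finset.sum_const, Finset.card_univ, nsmul_eq_mul,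
        Fintype.card_fun, Fintype.card_fin, ZMod.card, Nat.cast_pow, mul_eq_zero] at h1
      exact h1.resolve_left (pow_ne_zero _ (by exact_mod_cast h2))
    · intro y' _ hne
      rw [← Finset.sum_smul, Finset.sum_congr rfl fun b _ =>
        show sgn F (ip b y) * (x y' * sgn F (ip b y')) = x y' * sgn F (ip b (y + y')) by
          rw [ip_add_right, sgn_add]; ring, ← Finset.mul_sum, sum_sgn h2, mul_zero, zero_smul]
      intro e
      exact hne (funext fun j => (CharTwo.add_eq_zero.1 (congrFun e j)).symm)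
    · simp
  have hsurj : LinearMap.range L₀ = ⊤ := by
    refine (hirr _ ?_).resolve_left fun hb => hv0 ?_
    · rintro _ ⟨g, hg, rfl⟩ _ ⟨_, ⟨x, rfl⟩, rfl⟩
      obtain ⟨a, b, e, rfl⟩ := hdec g hg
      rw [Matrix.toLin'_apply, hact]
      exact ⟨_, rfl⟩
    · have : w 0 ∈ LinearMap.range L₀ := ⟨_, hLs 0⟩
      rw [hb, Submodule.mem_bot] at this
      simpa [w, hu0] using this
  let L := LinearEquiv.ofBijective L₀ ⟨hinj, LinearMap.range_eq_top.1 hsurj⟩
  have hphi : ∀ a b (e : Fˣ), phi L (sc (Pt m) e * pau F a b) = sc (Fin n) e * (u a * ψ b) :=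
    fun a b e => Units.ext (Matrix.ext_iff_mulVec.2 fun y => by
      obtain ⟨x, rfl⟩ := L.surjective y
      rw [phi_mulVec]
      exact (hact a b e x).symm)
  refine ⟨m, i, L, hi, fun g => ⟨fun hg => ?_, ?_⟩⟩
  · obtain ⟨a, b, e, he⟩ := hdec _ hg
    exact ⟨a, b, e, (phi L).injective (he.trans (hphi a b _).symm)⟩
  · rintro ⟨a, b, e, rfl⟩
    rw [hphi]
    exact R.mul_mem (hiR' e) (R.mul_mem (huR a) (ψR b))

end Cfsg.Agent.C6Cplx52
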