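import Cfsg.Agent.Lib.C6Plus10Alg

/-!
The normaliser as a subgroup and the action of its generators on the extraspecial group: transvections,
quadratic signs and pairs of Hadamard matrices.
-/

set_option autoImplicit false
set_option linter.unusedSectionVars false

namespace Cfsg.Agent.C6Plus10

open Matrix
open scoped MatrixGroups

variable {F : Type*} [Field F] {k : ℕ}

theorem sd_const_add (c c' : ZMod 2) :
    sd F (fun _ : Pt k => c + c') = sd F (fun _ => c) * sd F (fun _ => c') := by rw [sd_mul]; rfl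

theorem sd_const_zero : sd F (fun _ : Pt k => (0 : ZMod 2)) = 1 := sd_zero

theorem pau_inv (a b : Pt k) : (pau F a b)⁻¹ = sd F (fun _ => ip b a) * pau F a b := by
  refine inv_eq_of_mul_eq_one_right ?_
  rw [← mul_assoc, ← sd_const_mul, mul_assoc, pau_mul, ← mul_assoc, ← sd_const_add, CharTwo.add_self_eq_zero,
    sd_const_zero, one_mul, pt_add_self, pt_add_self, pau_zero]

theorem pau_comm (a b a' b' : Pt k) :
    pau F a b * pau F a' b' = sd F (fun _ => ip b a' + ip b' a) * (pau F a' b' * pau F a b) := by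
  rw [pau_mul, pau_mul, ← mul_assoc, ← sd_const_add, add_assoc, CharTwo.add_self_eq_zero, add_zero, add_comm a a',
    add_comm b b']

theorem pau_inj (h2 : (2 : F) ≠ 0) {a b a' b' : Pt k} {c c' : ZMod 2}
    (h : sd F (fun _ => c) * pau F a b = sd F (fun _ => c') * pau F a' b') : a = a' ∧ b = b' ∧ c = c' := by
  rw [pau_eq, pau_eq, ← mon_one_left, ← mon_one_left, mon_mul, mon_mul] at h
  obtain ⟨h1, h3⟩ := mon_inj h2 h
  have ha : a = a' := by simpa using congrArg (fun π : Equiv.Perm (Pt k) => π 0) h1
  have hc : c = c' := by simpa [ip] using congrFun h3 0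
  refine ⟨ha, funext fun i => ?_, hc⟩
  have h4 := congrFun h3 (pe i)
  simp only [hc, add_right_inj, ip, pe, dotProduct_single, mul_one] at h4
  exact h4

/-- Conjugation by `n` maps one element of the extraspecial group to another, up to sign. -/
def CP (n : GL (Pt k) F) (a b a' b' : Pt k) : Prop :=
  ∃ c, n * pau F a b * n⁻¹ = sd F (fun _ => c) * pau F a' b'

theorem conj_sd_const (n : GL (Pt k) F) (c : ZMod 2) : n * sd F (fun _ => c) * n⁻¹ = sd F (fun _ => c) := by
  rw [← sd_const_mul, mul_inv_cancel_right]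

theorem CP.comp {m n : GL (Pt k) F} {a b a' b' a'' b'' : Pt k} (h : CP n a b a' b') (h' : CP m a' b' a'' b'') :
    CP (m * n) a b a'' b'' := by
  obtain ⟨c, hc⟩ := h
  obtain ⟨c', hc'⟩ := h'
  refine ⟨c + c', ?_⟩
  calc m * n * pau F a b * (m * n)⁻¹ = m * (n * pau F a b * n⁻¹) * m⁻¹ := by group
    _ = (m * sd F (fun _ => c) * m⁻¹) * (m * pau F a' b' * m⁻¹) := by rw [hc]; group
    _ = _ := by rw [conj_sd_const, hc', ← mul_assoc, ← sd_const_add]

theorem nr_iff {g : GL (Pt k) F} : Nr g ↔ ∀ a b, ∃ a' b', CP g a b a' b' :=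
  ⟨fun h a b => by obtain ⟨a', b', c, hc⟩ := h a b; exact ⟨a', b', c, hc⟩,
    fun h a b => by obtain ⟨a', b', c, hc⟩ := h a b; exact ⟨a', b', c, hc⟩⟩

theorem nr_one : Nr (1 : GL (Pt k) F) := fun a b => ⟨a, b, 0, by simp [sd_const_zero]⟩

theorem Nr.mul {g h : GL (Pt k) F} (hg : Nr g) (hh : Nr h) : Nr (g * h) := nr_iff.2 fun a b => by
  obtain ⟨a', b', h1⟩ := nr_iff.1 hh a b
  obtain ⟨a'', b'', h2⟩ := nr_iff.1 hg a' b'
  exact ⟨a'', b'', h1.comp h2⟩

theorem Nr.pow {g : GL (Pt k) F} (hg : Nr g) : ∀ n : ℕ, Nr (g ^ n)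
  | 0 => by rw [pow_zero]; exact nr_one
  | n + 1 => by rw [pow_succ]; exact (hg.pow n).mul hg

theorem Nr.inv [Finite F] {g : GL (Pt k) F} (hg : Nr g) : Nr g⁻¹ := by
  haveI : Finite (GL (Pt k) F) := Finite.of_injective _ Units.val_injective
  have h := orderOf_pos g
  rw [inv_eq_of_mul_eq_one_right (b := g ^ (orderOf g - 1))
    (by rw [← pow_succ', show orderOf g - 1 + 1 = orderOf g by omega, pow_orderOf_eq_one])]
  exact hg.pow _

/-- The normaliser. -/
def NrG (F : Type*) [Field F] [Finite F] (k : ℕ) : Subgroup (GL (Pt k) F) where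
  carrier := {g | Nr g}
  one_mem' := nr_one
  mul_mem' := Nr.mul
  inv_mem' := Nr.inv

theorem mem_NrG [Finite F] {g : GL (Pt k) F} : g ∈ NrG F k ↔ Nr g := Iff.rfl

theorem nr_pau (a b : Pt k) : Nr (pau F a b) := nr_iff.2 fun a' b' => ⟨a', b', _, by
  rw [pau_comm a b a' b', mul_assoc, mul_inv_cancel_right]⟩

theorem nr_sd_const (c : ZMod 2) : Nr (sd F (fun _ : Pt k => c)) := nr_iff.2 fun a b =>
  ⟨a, b, 0, by rw [sd_const_zero, one_mul, sd_const_mul, mul_inv_cancel_right]⟩

/-! ### Affine transvections -/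

/-- The affine transvection of the points. -/
def trP (d l : Pt k) (c : ZMod 2) (h : ip l d = 0) : Equiv.Perm (Pt k) :=
  Function.Involutive.toPerm (fun x => x + (ip l x + c) • d) fun x => by
    simp only [ip_add_right, show ip l ((ip l x + c) • d) = (ip l x + c) * ip l d from dotProduct_smul _ _ _, h,
      mul_zero, add_zero]
    rw [add_assoc, pt_add_self, add_zero]

theorem trP_apply (d l : Pt k) (c : ZMod 2) (h : ip l d = 0) (x : Pt k) :
    trP d l c h x = x + (ip l x + c) • d := rfl

theorem affPerm_trP (d l : Pt k) (c : ZMod 2) (h : ip l d = 0) : AffPerm (trP d l c h) := fun x y z => by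
  simp only [trP_apply, ip_add_right]
  funext i
  simp only [Pi.add_apply, Pi.smul_apply, smul_eq_mul]
  grind

theorem trP_inv (d l : Pt k) (c : ZMod 2) (h : ip l d = 0) : (trP d l c h)⁻¹ = trP d l c h :=
  rfl

theorem tr_conj (d l : Pt k) (c : ZMod 2) (h : ip l d = 0) (a b : Pt k) :
    pm F (trP d l c h) * pau F a b * (pm F (trP d l c h))⁻¹ =
      sd F (fun _ => c * ip b d) * pau F (a + ip l a • d) (b + ip b d • l) := by
  rw [pm_inv, trP_inv, pau_eq, pau_eq, ← mon_zero, mon_mul, mon_mul, ← mon_one_left, mon_mul]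
  congr 1
  · ext1 y
    simp only [Equiv.Perm.mul_apply, Equiv.coe_addRight, one_mul, Equiv.Perm.one_apply, trP_apply, ip_add_right,
      show ∀ t : ZMod 2, ip l (t • d) = t * ip l d from fun t => dotProduct_smul _ _ _, h]
    funext i
    simp only [Pi.add_apply, Pi.smul_apply, smul_eq_mul, mul_zero, add_zero]
    grind
  · funext y
    simp only [trP_apply, Equiv.coe_addRight, ip_add_left, ip_add_right,
      show ∀ t : ZMod 2, ip b (t • d) = t * ip b d from fun t => dotProduct_smul _ _ _,
      show ∀ (t : ZMod 2) (z : Pt k), ip (t • l) z = t * ip l z from fun t z => smul_dotProduct _ _ _,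
      show ∀ (t : ZMod 2), ip (ip b d • l) (t • d) = ip b d * (t * ip l d) from fun t => by
        simp [ip, smul_dotProduct, dotProduct_smul]; ring, h]
    grind

theorem nr_tr (d l : Pt k) (c : ZMod 2) (h : ip l d = 0) : Nr (pm F (trP d l c h)) :=
  nr_iff.2 fun a b => ⟨_, _, _, tr_conj d l c h a b⟩

/-! ### Quadratic signs -/

/-- A product of two affine functions. -/
def qf (l m : Pt k) (c : ZMod 2) : Pt k → ZMod 2 := fun x => ip l x * (ip m x + c)

theorem quad_qf (l m : Pt k) (c : ZMod 2) : Quad (qf l m c) := (aff_ip l).mul ((aff_ip m).add (aff_const c))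

theorem qd_conj (l m : Pt k) (c : ZMod 2) (a b : Pt k) :
    sd F (qf l m c) * pau F a b * (sd F (qf l m c))⁻¹ =
      sd F (fun _ => ip l a * (ip m a + c)) * pau F a (b + ip m a • l + ip l a • m) := by
  rw [sd_inv, pau_eq, pau_eq, ← mon_one_left (qf l m c), mon_mul, mon_mul, ← mon_one_left, mon_mul]
  congr 1
  funext y
  simp only [qf, Equiv.Perm.one_apply, Equiv.coe_addRight, ip_add_right, ip_add_left,
    show ∀ (t : ZMod 2) (v z : Pt k), ip (t • v) z = t * ip v z from fun t v z => smul_dotProduct _ _ _,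
    show ip (ip m a • l) a = ip m a * ip l a from smul_dotProduct _ _ _,
    show ip (ip l a • m) a = ip l a * ip m a from smul_dotProduct _ _ _]
  grind

theorem nr_qd (l m : Pt k) (c : ZMod 2) : Nr (sd F (qf l m c)) := nr_iff.2 fun a b => ⟨_, _, _, qd_conj l m c a b⟩

/-! ### Pairs of Hadamard matrices -/

/-- The point with the coordinates at two positions taken from the second argument. -/
def exch (i l : Fin k) (a b : Pt k) : Pt k := fun j => if j = i ∨ j = l then b j else a j

theorem hh_conj {i l : Fin k} (hil : i ≠ l) {u : GL (Pt k) F}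
    (hu : (u : Matrix (Pt k) (Pt k) F) = hh F i l) (a b : Pt k) :
    u * pau F a b * u⁻¹ = sd F (fun _ => a i * b i + a l * b l) * pau F (exch i l a b) (exch i l b a) := by
  rw [mul_inv_eq_iff_eq_mul]
  set π := Equiv.addRight a
  refine Units.ext (Matrix.ext fun x y => ?_)
  rw [pau_eq, pau_eq, ← mon_one_left, mon_mul, Units.val_mul, Units.val_mul, Matrix.mul_apply, Matrix.mul_apply, hu,
    Finset.sum_eq_single (y + a), Finset.sum_eq_single (x + exch i l a b)]
  · rw [mon_apply, mon_apply, if_pos (by simp [π]), if_pos (by simp [pt_add_cancel])]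
    simp only [hh, Matrix.of_apply, Pi.add_apply, one_mul, Equiv.coe_addRight]
    have hcond : (∀ j, j ≠ i → j ≠ l → x j = y j + a j) ↔
        (∀ j, j ≠ i → j ≠ l → x j + exch i l a b j = y j) := by
      refine forall_congr' fun j => forall_congr' fun h1 => forall_congr' fun h2 => ?_
      simp only [exch, h1, h2, or_self, if_false]
      grind
    by_cases hx : ∀ j, j ≠ i → j ≠ l → x j = y j + a j
    · rw [if_pos hx, if_pos (hcond.1 hx), mul_assoc, mul_left_comm (sgn F _), ← sgn_add, ← sgn_add]
      congr 2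
      have hsum : ip b y = ip (exch i l b a) (x + exch i l a b) + (a i * (x i + b i) + a l * (x l + b l)) +
          (b i * y i + b l * y l) := by
        have key : ∀ j, b j * y j + exch i l b a j * (x j + exch i l a b j) =
            (if j = i then a i * (x i + b i) + b i * y i else 0) +
              (if j = l then a l * (x l + b l) + b l * y l else 0) := by
          intro j
          by_cases h1 : j = i
          · subst h1; simp [exch, hil]; grind
          · by_cases h2 : j = l
            · subst h2; simp [exch, h1]; grind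
            · simp [exch, h1, h2, hx j h1 h2]; grind
        have h := Finset.sum_congr (rfl : (Finset.univ : Finset (Fin k)) = Finset.univ) fun j _ => key j
        rw [Finset.sum_add_distrib, Finset.sum_add_distrib, Finset.sum_ite_eq', Finset.sum_ite_eq',
          if_pos (Finset.mem_univ _), if_pos (Finset.mem_univ _)] at h
        simp only [ip_eq_sum, Pi.add_apply] at h ⊢
        linear_combination (norm := grind) h
      simp only [exch, if_true, eq_self_iff_true, true_or, or_true, Pi.add_apply]
      rw [hsum]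
      grind
    · rw [if_neg hx, if_neg (fun h' => hx (hcond.2 h'))]
      simp
  · intro z _ hz
    rw [mon_apply, if_neg, zero_mul]
    intro e
    exact hz (by
      have : x = z + exch i l a b := by simpa using e
      rw [this, pt_add_cancel])
  · simp
  · intro z _ hz
    rw [mon_apply, if_neg (by simpa [π] using hz), mul_zero]
  · simp

theorem nr_hh {i l : Fin k} (hil : i ≠ l) {u : GL (Pt k) F}
    (hu : (u : Matrix (Pt k) (Pt k) F) = hh F i l) : Nr u :=
  nr_iff.2 fun a b => ⟨_, _, _, hh_conj hil hu a b⟩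

end Cfsg.Agent.C6Plus10
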