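import Cfsg.Agent.Lib.C6Cplx84Defs
import Cfsg.Agent.Lib.C6Plus10Gen

/-!
The action of the generators of the complex Clifford normaliser on the points, and transitivity on the elements
outside the centre of a level.
-/

set_option autoImplicit false
set_option linter.unusedSectionVars false

namespace Cfsg.Agent.C6Cplx84

open Matrix Cfsg.Agent.C6Plus10 Cfsg.Agent.C6Cplx52
open scoped MatrixGroups

variable {F : Type*} [Field F] {k : ℕ} {i : Fˣ}

theorem sd_const_sc (hi : (i : F) * i = -1) (z : ZMod 2) :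
    sd F (fun _ : Pt k => z) = sc (Pt k) (i ^ (2 * z.val)) := by
  refine Units.ext ?_
  rw [sc_val, show ((sd F fun _ : Pt k => z : GL (Pt k) F) : Matrix (Pt k) (Pt k) F) =
    Matrix.diagonal fun _ => sgn F z from rfl, smul_one_eq_diagonal]
  congr 1
  funext _
  rcases zm_cases z with rfl | rfl
  · simp
  · rw [sgn_one, show (1 : ZMod 2).val = 1 from rfl, mul_one, Units.val_pow_eq_pow_val, pow_two, hi]

/-- Conjugation maps one signed translation to another, up to a power of the square root of minus one. -/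
def CPi (i : Fˣ) (g : GL (Pt k) F) (a b a' b' : Pt k) : Prop :=
  ∃ c : ℕ, g * pau F a b * g⁻¹ = sc (Pt k) (i ^ c) * pau F a' b'

theorem nr_iff {g : GL (Pt k) F} : C6Cplx52.Nr i g ↔ ∀ a b, ∃ a' b', CPi i g a b a' b' := Iff.rfl

theorem cp_of_eq (hi : (i : F) * i = -1) {g : GL (Pt k) F} {a b a' b' : Pt k} {z : ZMod 2}
    (h : g * pau F a b * g⁻¹ = sd F (fun _ => z) * pau F a' b') : CPi i g a b a' b' :=
  ⟨2 * z.val, by rw [h, sd_const_sc hi]⟩

theorem CPi.comp {m n : GL (Pt k) F} {a b a' b' a'' b'' : Pt k} (h : CPi i n a b a' b')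
    (h' : CPi i m a' b' a'' b'') : CPi i (m * n) a b a'' b'' := by
  obtain ⟨c, hc⟩ := h
  obtain ⟨c', hc'⟩ := h'
  refine ⟨c + c', ?_⟩
  calc m * n * pau F a b * (m * n)⁻¹ = m * (n * pau F a b * n⁻¹) * m⁻¹ := by group
    _ = sc (Pt k) (i ^ c) * (m * pau F a' b' * m⁻¹) := by rw [hc, sc_pull, mul_assoc]
    _ = _ := by rw [hc', ← mul_assoc, ← map_mul, ← pow_add]

theorem cp_one (a b : Pt k) : CPi i (1 : GL (Pt k) F) a b a b := ⟨0, by simp⟩

theorem CPi.inv (hi : (i : F) * i = -1) {n : GL (Pt k) F} {a b a' b' : Pt k} (h : CPi i n a b a' b') :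
    CPi i n⁻¹ a' b' a b := by
  obtain ⟨c, hc⟩ := h
  refine ⟨3 * c, ?_⟩
  have h4 : (i : Fˣ) ^ (3 * c + c) = 1 := by
    rw [show 3 * c + c = 4 * c by ring, pow_mul, show i ^ 4 = 1 from Units.ext (by
      rw [Units.val_pow_eq_pow_val, show (i : F) ^ 4 = (i : F) * i * ((i : F) * i) by ring, hi, Units.val_one]
      ring), one_pow]
  rw [inv_inv, show pau F a b = n⁻¹ * (sc (Pt k) (i ^ c) * pau F a' b') * n by rw [← hc]; group, sc_pull,
    ← mul_assoc, ← mul_assoc, ← map_mul, ← pow_add, h4, map_one, one_mul]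

theorem nr_one : C6Cplx52.Nr i (1 : GL (Pt k) F) := fun a b => ⟨a, b, cp_one a b⟩

theorem nr_mul {g h : GL (Pt k) F} (hg : C6Cplx52.Nr i g) (hh : C6Cplx52.Nr i h) : C6Cplx52.Nr i (g * h) := by
  intro a b
  obtain ⟨a', b', h1⟩ := nr_iff.1 hh a b
  obtain ⟨a'', b'', h2⟩ := nr_iff.1 hg a' b'
  exact ⟨a'', b'', h1.comp h2⟩

theorem nr_pow {g : GL (Pt k) F} (hg : C6Cplx52.Nr i g) : ∀ n : ℕ, C6Cplx52.Nr i (g ^ n)
  | 0 => by rw [pow_zero]; exact nr_one
  | n + 1 => by rw [pow_succ]; exact nr_mul (nr_pow hg n) hg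

theorem nr_inv [Finite F] {g : GL (Pt k) F} (hg : C6Cplx52.Nr i g) : C6Cplx52.Nr i g⁻¹ := by
  haveI : Finite (GL (Pt k) F) := Finite.of_injective _ Units.val_injective
  have h := orderOf_pos g
  rw [inv_eq_of_mul_eq_one_right (b := g ^ (orderOf g - 1))
    (by rw [← pow_succ', show orderOf g - 1 + 1 = orderOf g by omega, pow_orderOf_eq_one])]
  exact nr_pow hg _

theorem nr_sc (c : Fˣ) : C6Cplx52.Nr i (sc (Pt k) c) := fun a b => ⟨a, b, 0, by
  rw [← sc_comm, mul_inv_cancel_right, pow_zero, map_one, one_mul]⟩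

theorem cp_pau (hi : (i : F) * i = -1) (u w a b : Pt k) : CPi i (pau F u w) a b a b :=
  cp_of_eq hi (by rw [pau_comm u w a b, mul_assoc, mul_inv_cancel_right])

theorem nr_pau (hi : (i : F) * i = -1) (u w : Pt k) : C6Cplx52.Nr i (pau F u w) :=
  fun a b => ⟨a, b, cp_pau hi u w a b⟩

/-! ### The generators -/

theorem cp_tr (hi : (i : F) * i = -1) (d l : Pt k) (h : ip l d = 0) (a b : Pt k) :
    CPi i (pm F (trP d l 0 h)) a b (a + ip l a • d) (b + ip b d • l) :=
  cp_of_eq hi (tr_conj d l 0 h a b)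

theorem cp_qd (hi : (i : F) * i = -1) (l m : Pt k) (a b : Pt k) :
    CPi i (sd F (qf l m 0)) a b a (b + ip m a • l + ip l a • m) :=
  cp_of_eq hi (qd_conj l m 0 a b)

/-- The phase at a position. -/
def phj (i : Fˣ) (t : Fin k) : GL (Pt k) F := ph i (ip (pe t))

theorem cp_phj (hi : (i : F) * i = -1) (t : Fin k) (a b : Pt k) :
    CPi i (phj i t) a b a (b + a t • pe t) := by
  refine ⟨(a t).val, ?_⟩
  rw [mul_inv_eq_iff_eq_mul]
  refine Units.ext (Matrix.ext fun x y => ?_)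
  rw [Units.val_mul, Units.val_mul, Units.val_mul, sc_val, smul_mul_assoc, one_mul, smul_mul_assoc]
  show (Matrix.diagonal _ * _ : Matrix (Pt k) (Pt k) F) x y = ((_ : F) • (_ * Matrix.diagonal _) : Matrix (Pt k) (Pt k) F) x y
  rw [Matrix.diagonal_mul, Matrix.smul_apply, Matrix.mul_diagonal, smul_eq_mul, pau_eq, pau_eq, mon_apply, mon_apply]
  simp only [ip_add_left]
  by_cases hxy : x = (Equiv.addRight a) y
  · rw [if_pos hxy, if_pos hxy, show x = y + a from hxy, ip_pe, ip_pe, Pi.add_apply, sgn_add,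
      show ip (a t • pe t) y = a t * y t by rw [show ip (a t • pe t) y = a t * ip (pe t) y from smul_dotProduct _ _ _,
        ip_pe]]
    rcases zm_cases (a t) with ha | ha <;> rcases zm_cases (y t) with hy | hy <;>
      simp [ha, hy, sgn_one, show (1 : ZMod 2) + 1 = 0 from rfl, show (1 : ZMod 2).val = 1 from rfl]
    all_goals first
      | linear_combination (sgn F (ip b y)) * hi
      | linear_combination (-sgn F (ip b y)) * hi
      | ring
  · rw [if_neg hxy, if_neg hxy]; simp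

/-- The point with one coordinate taken from the second argument. -/
def sw (t : Fin k) (a b : Pt k) : Pt k := Function.update a t (b t)

theorem cp_had (hi : (i : F) * i = -1) {t : Fin k} {u : GL (Pt k) F}
    (hu : (u : Matrix (Pt k) (Pt k) F) = ((1 + (i : F)) * (2 : F)⁻¹) • Matrix.of fun x y : Pt k =>
      if ∀ j, j ≠ t → x j = y j then sgn F (x t * y t) else 0) (a b : Pt k) :
    CPi i u a b (sw t a b) (sw t b a) := by
  refine cp_of_eq (z := a t * b t) hi ?_
  rw [mul_inv_eq_iff_eq_mul]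
  refine Units.ext (Matrix.ext fun x y => ?_)
  rw [pau_eq, pau_eq, ← mon_one_left, mon_mul, Units.val_mul, Units.val_mul, Matrix.mul_apply, Matrix.mul_apply, hu,
    Finset.sum_eq_single (y + a), Finset.sum_eq_single (x + sw t a b)]
  · rw [mon_apply, mon_apply, if_pos (by simp), if_pos (by simp [pt_add_cancel])]
    simp only [Matrix.smul_apply, Matrix.of_apply, Pi.add_apply, smul_eq_mul]
    have hcond : (∀ j, j ≠ t → x j = y j + a j) ↔ (∀ j, j ≠ t → x j + sw t a b j = y j) := by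
      refine forall_congr' fun j => forall_congr' fun h1 => ?_
      simp only [sw, Function.update_of_ne h1]
      grind
    by_cases hx : ∀ j, j ≠ t → x j = y j + a j
    · rw [if_pos hx, if_pos (hcond.1 hx), mul_assoc, mul_left_comm (sgn F _), ← sgn_add, ← sgn_add]
      congr 2
      have hsum : ip b y = ip (sw t b a) (x + sw t a b) + a t * (x t + b t) + b t * y t := by
        have key : ∀ j, b j * y j + sw t b a j * (x j + sw t a b j) =
            if j = t then a t * (x t + b t) + b t * y t else 0 := by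
          intro j
          by_cases h1 : j = t
          · subst h1; simp [sw]; grind
          · simp [sw, Function.update_of_ne h1, h1, hx j h1]; grind
        have h := Finset.sum_congr (rfl : (Finset.univ : Finset (Fin k)) = Finset.univ) fun j _ => key j
        rw [Finset.sum_add_distrib, Finset.sum_ite_eq', if_pos (Finset.mem_univ _)] at h
        simp only [ip_eq_sum, Pi.add_apply] at h ⊢
        linear_combination (norm := grind) h
      simp only [Equiv.coe_addRight, sw, Function.update_self]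
      simp only [sw] at hsum
      rw [hsum]
      grind
    · rw [if_neg hx, if_neg (fun h' => hx (hcond.2 h'))]
      simp
  · intro z _ hz
    rw [mon_apply, if_neg, zero_mul]
    intro e
    exact hz (by
      have : x = z + sw t a b := by simpa using e
      rw [this, pt_add_cancel])
  · simp
  · intro z _ hz
    rw [mon_apply, if_neg (by simpa using hz), mul_zero]
  · simp

/-! ### Levels -/

variable {M : Subgroup (GL (Pt k) F)} {D : Finset (Fin k)}

theorem mem_Lev' {g : GL (Pt k) F} :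
    g ∈ Lev M D ↔ g ∈ M ∧ ∀ d ∈ D, g * sd F (ip (pe d)) = sd F (ip (pe d)) * g := mem_Lev

theorem Lev_empty : Lev M ∅ = M := Subgroup.ext fun g => by simp [mem_Lev]

/-- An element fixing the signs of the level exactly. -/
theorem mem_Lev_of_conj {g : GL (Pt k) F} (hg : g ∈ M)
    (h : ∀ d ∈ D, g * pau F 0 (pe d) * g⁻¹ = pau F 0 (pe d)) : g ∈ Lev M D :=
  mem_Lev'.2 ⟨hg, fun d hd => by rw [← pau_sd]; exact mul_inv_eq_iff_eq_mul.1 (h d hd)⟩

theorem ip_zero_right (x : Pt k) : ip x (0 : Pt k) = 0 := dotProduct_zero x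

theorem pau_mem_Lev (hM : BaseC i M) {a b : Pt k} (ha : ∀ d ∈ D, a d = 0) : pau F a b ∈ Lev M D :=
  mem_Lev_of_conj (hM.pau a b) fun d hd => by
    rw [pau_comm, ip_zero_right, ip_pe, ha d hd, add_zero, sd_const_zero, one_mul, mul_inv_cancel_right]

theorem tr_mem_Lev (hM : BaseC i M) (d l : Pt k) (h : ip l d = 0) (hd : ∀ j ∈ D, d j = 0) :
    pm F (trP d l 0 h) ∈ Lev M D :=
  mem_Lev_of_conj (hM.aff _ (affPerm_trP d l 0 h)) fun j hj => by
    rw [tr_conj, ip_pe, hd j hj, mul_zero, sd_const_zero, one_mul, zero_smul, add_zero,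
      show ip l (0 : Pt k) = 0 from dotProduct_zero l, zero_smul, add_zero]

theorem qd_mem_Lev (hM : BaseC i M) (l m : Pt k) : sd F (qf l m 0) ∈ Lev M D :=
  mem_Lev'.2 ⟨hM.quad _ (quad_qf l m 0), fun j _ => by rw [sd_mul, sd_mul, add_comm]⟩

theorem aff_pe (t : Fin k) : Aff (ip (pe t) : Pt k → ZMod 2) := aff_ip _

theorem phj_mem_Lev (hM : BaseC i M) (t : Fin k) : phj i t ∈ Lev M D :=
  mem_Lev'.2 ⟨hM.phase _ (aff_pe t), fun j _ => Units.ext (by
    show (Matrix.diagonal _ * Matrix.diagonal _ : Matrix (Pt k) (Pt k) F) = Matrix.diagonal _ * Matrix.diagonal _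
    rw [Matrix.diagonal_mul_diagonal, Matrix.diagonal_mul_diagonal]
    simp [mul_comm])⟩

theorem nr_phj (hi : (i : F) * i = -1) (t : Fin k) : C6Cplx52.Nr i (phj i t) :=
  fun a b => ⟨_, _, cp_phj hi t a b⟩

theorem exists_had (hi : (i : F) * i = -1) (hM : BaseC i M) {t : Fin k} (ht : t ∉ D) :
    ∃ u ∈ Lev M D, C6Cplx52.Nr i u ∧ ∀ a b, CPi i u a b (sw t a b) (sw t b a) := by
  obtain ⟨u, hu, hu'⟩ := hM.had t
  have hcp := cp_had hi hu'
  refine ⟨u, mem_Lev'.2 ⟨hu, fun d hd => ?_⟩, fun a b => ⟨_, _, hcp a b⟩, hcp⟩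
  have hdt : d ≠ t := fun e => ht (e ▸ hd)
  refine Units.ext (Matrix.ext fun x y => ?_)
  show (_ * Matrix.diagonal _ : Matrix (Pt k) (Pt k) F) x y = (Matrix.diagonal _ * _ : Matrix (Pt k) (Pt k) F) x y
  rw [Matrix.mul_diagonal, Matrix.diagonal_mul, hu', Matrix.smul_apply, Matrix.of_apply]
  split_ifs with h
  · rw [ip_pe, ip_pe, h d hdt]; ring
  · simp

/-- An index pair outside the centre of a level. -/
def Val (D : Finset (Fin k)) (a b : Pt k) : Prop := (∀ d ∈ D, a d = 0) ∧ ∃ j, j ∉ D ∧ (a j = 1 ∨ b j = 1)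

/-- The normaliser of a level moves one index pair to another. -/
def Mv (i : Fˣ) (M : Subgroup (GL (Pt k) F)) (D : Finset (Fin k)) (a b a' b' : Pt k) : Prop :=
  ∃ n ∈ Lev M D, C6Cplx52.Nr i n ∧ CPi i n a b a' b'

theorem Mv.trans {a b a' b' a'' b'' : Pt k} (h : Mv i M D a b a' b') (h' : Mv i M D a' b' a'' b'') :
    Mv i M D a b a'' b'' := by
  obtain ⟨n, hn, hn', hc⟩ := h
  obtain ⟨m, hm, hm', hc'⟩ := h'
  exact ⟨m * n, mul_mem hm hn, nr_mul hm' hn', hc.comp hc'⟩

/-- Transitivity. -/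
theorem reach (hi : (i : F) * i = -1) (hM : BaseC i M) {t : Fin k} (ht : t ∉ D) {a b : Pt k} (h : Val D a b) :
    Mv i M D a b 0 (pe t) := by
  obtain ⟨ha, j, hj, hab⟩ := h
  -- a translation somewhere outside
  obtain ⟨a₁, b₁, h₁, ha₁, hj₁⟩ : ∃ a₁ b₁, Mv i M D a b a₁ b₁ ∧ (∀ d ∈ D, a₁ d = 0) ∧ a₁ j = 1 := by
    by_cases haj : a j = 1
    · exact ⟨a, b, ⟨1, one_mem _, nr_one, cp_one a b⟩, ha, haj⟩
    · obtain ⟨u, hu, hun, hcp⟩ := exists_had hi hM hj
      refine ⟨_, _, ⟨u, hu, hun, hcp a b⟩, fun d hd => ?_, ?_⟩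
      · rw [sw, Function.update_of_ne (fun e : d = j => hj (e ▸ hd)), ha d hd]
      · rw [sw, Function.update_self]; exact hab.resolve_left haj
  -- translation at `t`
  obtain ⟨a₂, b₂, h₂, ha₂, ht₂⟩ : ∃ a₂ b₂, Mv i M D a₁ b₁ a₂ b₂ ∧ (∀ d ∈ D, a₂ d = 0) ∧ a₂ t = 1 := by
    by_cases hat : a₁ t = 1
    · exact ⟨a₁, b₁, ⟨1, one_mem _, nr_one, cp_one _ _⟩, ha₁, hat⟩
    · have hjt : j ≠ t := fun e => hat (e ▸ hj₁)
      have h0 : ip (pe j) (pe t) = (0 : ZMod 2) := by rw [ip_pe, pe_ne hjt]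
      refine ⟨_, _, ⟨_, tr_mem_Lev hM (pe t) (pe j) h0 (fun d hd => pe_ne (fun e : d = t => ht (e ▸ hd))),
        fun a b => ⟨_, _, cp_tr hi _ _ h0 a b⟩, cp_tr hi _ _ h0 a₁ b₁⟩, fun d hd => ?_, ?_⟩
      · simp [ha₁ d hd, pe_ne (fun e : d = t => ht (e ▸ hd))]
      · simp [ip_pe, hj₁, (zm_cases (a₁ t)).resolve_right hat]
  -- translation at `t` only
  obtain ⟨b₃, h₃⟩ : ∃ b₃, Mv i M D a₂ b₂ (pe t) b₃ := by
    have h0 : ip (pe t) (a₂ + pe t) = (0 : ZMod 2) := by
      rw [ip_pe, Pi.add_apply, ht₂, pe_self]; rfl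
    refine ⟨b₂ + ip b₂ (a₂ + pe t) • pe t, _, tr_mem_Lev hM (a₂ + pe t) (pe t) h0 (fun d hd => ?_),
      fun a b => ⟨_, _, cp_tr hi _ _ h0 a b⟩, ?_⟩
    · rw [Pi.add_apply, ha₂ d hd, pe_ne (fun e : d = t => ht (e ▸ hd)), add_zero]
    · have h := cp_tr (F := F) hi _ _ h0 a₂ b₂
      rwa [ip_pe, ht₂, one_smul, ← add_assoc, pt_add_self, zero_add] at h
  -- no other signs
  obtain ⟨c, h₄⟩ : ∃ c : ZMod 2, Mv i M D (pe t) b₃ (pe t) (c • pe t) := by
    refine ⟨b₃ t, _, qd_mem_Lev hM (Function.update b₃ t 0) (pe t), fun a b => ⟨_, _, cp_qd hi _ _ a b⟩, ?_⟩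
    have h := cp_qd (F := F) hi (Function.update b₃ t 0) (pe t) (pe t) b₃
    rwa [ip_pe, pe_self, one_smul,
      show ip (Function.update b₃ t 0) (pe t) = (0 : ZMod 2) by simp [ip, pe, dotProduct_single],
      zero_smul, add_zero, show b₃ + Function.update b₃ t 0 = b₃ t • pe t from funext fun l => by
        by_cases hl : l = t
        · subst hl; simp
        · simp [hl, pe_ne hl, CharTwo.add_self_eq_zero]] at h
  have h₅ : Mv i M D (pe t) (c • pe t) (pe t) 0 := by
    rcases zm_cases c with rfl | rfl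
    · rw [zero_smul]; exact ⟨1, one_mem _, nr_one, cp_one _ _⟩
    · have e : (1 : ZMod 2) • pe t + (pe t t) • pe t = (0 : Pt k) := by
        rw [pe_self]; exact pt_add_self _
      exact ⟨phj i t, phj_mem_Lev hM t, nr_phj hi t, e ▸ cp_phj hi t (pe t) ((1 : ZMod 2) • pe t)⟩
  obtain ⟨u, hu, hun, hcp⟩ := exists_had hi hM ht
  have h₆ : Mv i M D (pe t) 0 0 (pe t) := ⟨u, hu, hun, by
    have h := hcp (pe t) 0
    rwa [show sw t (pe t) (0 : Pt k) = 0 from funext fun l => by
        by_cases hl : l = t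
        · subst hl; simp [sw]
        · simp [sw, hl, pe_ne hl],
      show sw t (0 : Pt k) (pe t) = pe t from funext fun l => by
        by_cases hl : l = t
        · subst hl; simp [sw]
        · simp [sw, hl, pe_ne hl]] at h⟩
  exact h₁.trans (h₂.trans (h₃.trans (h₄.trans (h₅.trans h₆))))

end Cfsg.Agent.C6Cplx84
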