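import Cfsg.Agent.Lib.Dickson
import Mathlib.GroupTheory.FixedPointFree

/-!
A non-trivial subgroup of the projective group of the line normalised by the Clifford group of one qubit
contains a non-trivial element of the four-group.
-/

set_option autoImplicit false
set_option linter.unusedSectionVars false

namespace Cfsg.Agent.C6Plus10

open Matrix Cfsg.Agent.DicksonLine
open scoped MatrixGroups
open Matrix.ProjGenLinGroup (mk mk_eq_mk_iff)

/-- An involutive map fixes as many points, modulo two, as there are. -/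
theorem card_fixed_two {α : Type*} [Finite α] (f : α → α) (hf : ∀ x, f (f x) = x) :
    Nat.card α % 2 = Nat.card {x // f x = x} % 2 := by
  classical
  haveI : Fintype α := Fintype.ofFinite α
  haveI : Fact (Nat.Prime 2) := ⟨Nat.prime_two⟩
  have h := Equiv.Perm.card_fixedPoints_modEq (f := (f : Function.End α)) (p := 2) (n := 1) (funext hf)
  rw [Nat.card_eq_fintype_card, Nat.card_eq_fintype_card]
  refine h.trans ?_
  exact congrArg (· % 2) (Fintype.card_congr (Equiv.refl _))

/-- In a group of even order, two commuting involutive conjugations fix a common involution. -/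
theorem exists_common_involution {A : Type*} [Group A] [Finite A] (W : Subgroup A) (heven : Even (Nat.card W))
    {u v : A} (hu : ∀ g ∈ W, u * g * u⁻¹ ∈ W) (hv : ∀ g ∈ W, v * g * v⁻¹ ∈ W) (huu : u * u = 1) (hvv : v * v = 1)
    (huv : u * v = v * u) : ∃ t ∈ W, t ≠ 1 ∧ t * u = u * t ∧ t * v = v * t := by
  classical
  have conj2 : ∀ w g : A, w * w = 1 → w * (w * g * w⁻¹) * w⁻¹ = g := fun w g hw => by
    rw [inv_eq_of_mul_eq_one_right hw, show w * (w * g * w) * w = w * w * g * (w * w) by simp only [mul_assoc], hw,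
      one_mul, mul_one]
  have sq_conj : ∀ w g : A, g * g = 1 → w * g * w⁻¹ * (w * g * w⁻¹) = 1 := fun w g hg => by
    rw [show w * g * w⁻¹ * (w * g * w⁻¹) = w * (g * g) * w⁻¹ by group, hg, mul_one, mul_inv_cancel]
  have h1 := card_fixed_two (α := W) (fun g => g⁻¹) inv_inv
  have e1 : {g : W // g⁻¹ = g} ≃ {g : A // g ∈ W ∧ g * g = 1} :=
    { toFun := fun g => ⟨g.1.1, g.1.2, by
        have h := congrArg Subtype.val g.2
        exact inv_eq_iff_mul_eq_one.1 h⟩
      invFun := fun g => ⟨⟨g.1, g.2.1⟩, Subtype.ext (inv_eq_of_mul_eq_one_right g.2.2)⟩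
      left_inv := fun _ => rfl
      right_inv := fun _ => rfl }
  rw [Nat.card_congr e1] at h1
  let f : {g : A // g ∈ W ∧ g * g = 1} → {g : A // g ∈ W ∧ g * g = 1} :=
    fun g => ⟨u * g.1 * u⁻¹, hu _ g.2.1, sq_conj u _ g.2.2⟩
  have h2 := card_fixed_two f fun g => Subtype.ext (conj2 u g.1 huu)
  have e2 : {g // f g = g} ≃ {g : A // (g ∈ W ∧ g * g = 1) ∧ g * u = u * g} :=
    { toFun := fun g => ⟨g.1.1, g.1.2, (mul_inv_eq_iff_eq_mul.1 (congrArg Subtype.val g.2)).symm⟩
      invFun := fun g => ⟨⟨g.1, g.2.1⟩, Subtype.ext (mul_inv_eq_iff_eq_mul.2 g.2.2.symm)⟩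
      left_inv := fun _ => rfl
      right_inv := fun _ => rfl }
  rw [Nat.card_congr e2] at h2
  let f' : {g : A // (g ∈ W ∧ g * g = 1) ∧ g * u = u * g} → {g : A // (g ∈ W ∧ g * g = 1) ∧ g * u = u * g} :=
    fun g => ⟨v * g.1 * v⁻¹, ⟨hv _ g.2.1.1, sq_conj v _ g.2.1.2⟩, by
      have hvu : v⁻¹ * u = u * v⁻¹ := by rw [inv_eq_of_mul_eq_one_right hvv, huv]
      rw [mul_assoc _ v⁻¹, hvu, ← mul_assoc, mul_assoc v, g.2.2, ← mul_assoc, ← huv, mul_assoc, mul_assoc,
        mul_assoc]⟩
  have h3 := card_fixed_two f' fun g => Subtype.ext (conj2 v g.1 hvv)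
  have heven' : Nat.card {g // f' g = g} % 2 = 0 := by
    rw [← h3, ← h2, ← h1]
    exact Nat.even_iff.1 heven
  let o : {g // f' g = g} := ⟨⟨1, ⟨W.one_mem, one_mul 1⟩, by rw [one_mul, mul_one]⟩, Subtype.ext (by simp [f'])⟩
  haveI : Nonempty {g // f' g = g} := ⟨o⟩
  have hpos : 1 < Nat.card {g // f' g = g} := by
    have := Nat.card_pos (α := {g // f' g = g})
    omega
  haveI := (Finite.one_lt_card_iff_nontrivial).1 hpos
  obtain ⟨t, ht⟩ := exists_ne o
  exact ⟨t.1.1, t.1.2.1.1, fun e => ht (Subtype.ext (Subtype.ext e)), t.1.2.2,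
    (mul_inv_eq_iff_eq_mul.1 (congrArg Subtype.val t.2)).symm⟩

/-- One of the non-trivial elements of a four-group centralises a non-trivial element of a group it normalises. -/
theorem exists_centralised {A : Type*} [Group A] [Finite A] (W : Subgroup A) (hW : W ≠ ⊥)
    {u v : A} (hu : ∀ g ∈ W, u * g * u⁻¹ ∈ W) (hv : ∀ g ∈ W, v * g * v⁻¹ ∈ W) (huu : u * u = 1) (hvv : v * v = 1) :
    ∃ w ∈ W, w ≠ 1 ∧ (w * u = u * w ∨ w * v = v * w ∨ w * (u * v) = u * v * w) := by
  by_contra! hno
  haveI : Nontrivial W := (Subgroup.nontrivial_iff_ne_bot W).2 hW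
  obtain ⟨⟨g, hg⟩, hg1⟩ := exists_ne (1 : W)
  have inv : ∀ w : A, (∀ g ∈ W, w * g * w⁻¹ ∈ W) → w * w = 1 → (∀ g ∈ W, g ≠ 1 → g * w ≠ w * g) →
      ∀ g ∈ W, w * g * w⁻¹ = g⁻¹ := by
    intro w hw hww hfree g hg
    let φ : W →* W := MonoidHom.mk' (fun x => ⟨w * x.1 * w⁻¹, hw _ x.2⟩) fun x y => Subtype.ext (by
      show w * (x.1 * y.1) * w⁻¹ = w * x.1 * w⁻¹ * (w * y.1 * w⁻¹)
      group)
    have h1 : MonoidHom.FixedPointFree φ := fun x hx => by
      by_contra hx1
      exact hfree x.1 x.2 (fun e => hx1 (Subtype.ext e)) (mul_inv_eq_iff_eq_mul.1 (congrArg Subtype.val hx)).symm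
    have h2 : Function.Involutive φ := fun x => Subtype.ext (by
      show w * (w * x.1 * w⁻¹) * w⁻¹ = x.1
      rw [inv_eq_of_mul_eq_one_right hww, show w * (w * x.1 * w) * w = w * w * x.1 * (w * w) by simp only [mul_assoc],
        hww, one_mul, mul_one])
    exact congrArg Subtype.val (congrFun (h1.coe_eq_inv_of_involutive h2) ⟨g, hg⟩)
  have e1 := inv u hu huu (fun g hg h => (hno g hg h).1)
  have e2 := inv v hv hvv (fun g hg h => (hno g hg h).2.1)
  refine (hno g hg (fun e => hg1 (Subtype.ext e))).2.2 ?_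
  have h3 : u * v * g * (u * v)⁻¹ = g := by
    rw [show u * v * g * (u * v)⁻¹ = u * (v * g * v⁻¹) * u⁻¹ by group, e2 g hg, e1 _ (W.inv_mem hg), inv_inv]
  exact (mul_inv_eq_iff_eq_mul.1 h3).symm

variable {K : Type*} [Field K]

theorem mk_ext_smul {g g' : GL (Fin 2) K} {c : K} (hc : c ≠ 0)
    (h : (g' : Matrix (Fin 2) (Fin 2) K) = c • (g : Matrix (Fin 2) (Fin 2) K)) : mk g = mk g' :=
  mk_eq_mk_iff.2 ⟨Units.mk0 c hc, Units.ext (by
    rw [Units.val_mul, GeneralLinearGroup.coe_scalar, h]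
    simp [← Matrix.smul_one_eq_diagonal])⟩

theorem exists_smul_of_mk {g g' : GL (Fin 2) K} (h : mk g = mk g') :
    ∃ c : K, c ≠ 0 ∧ (g' : Matrix (Fin 2) (Fin 2) K) = c • (g : Matrix (Fin 2) (Fin 2) K) := by
  obtain ⟨u, hu⟩ := mk_eq_mk_iff.1 h
  refine ⟨u, u.ne_zero, ?_⟩
  rw [← hu, Units.val_mul, GeneralLinearGroup.coe_scalar]
  simp [← Matrix.smul_one_eq_diagonal]

theorem det_two (g : GL (Fin 2) K) :
    (g : Matrix (Fin 2) (Fin 2) K) 0 0 * (g : Matrix (Fin 2) (Fin 2) K) 1 1 -
      (g : Matrix (Fin 2) (Fin 2) K) 0 1 * (g : Matrix (Fin 2) (Fin 2) K) 1 0 ≠ 0 := by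
  rw [← Matrix.det_fin_two]
  exact g.isUnit.map Matrix.detMonoidHom |>.ne_zero

section Block

variable (h2 : (2 : K) ≠ 0) {z x : GL (Fin 2) K}
  (hz : (z : Matrix (Fin 2) (Fin 2) K) = !![1, 0; 0, -1]) (hx : (x : Matrix (Fin 2) (Fin 2) K) = !![0, 1; 1, 0])
include h2 hz

/-- The centraliser of the diagonal involution: diagonal or antidiagonal. -/
theorem diag_or_antidiag {g : GL (Fin 2) K} (hgz : mk g * mk z = mk z * mk g) :
    ((g : Matrix (Fin 2) (Fin 2) K) 0 1 = 0 ∧ (g : Matrix (Fin 2) (Fin 2) K) 1 0 = 0) ∨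
      ((g : Matrix (Fin 2) (Fin 2) K) 0 0 = 0 ∧ (g : Matrix (Fin 2) (Fin 2) K) 1 1 = 0) := by
  rw [← map_mul, ← map_mul] at hgz
  obtain ⟨c, -, hc⟩ := exists_smul_of_mk hgz
  rw [Units.val_mul, Units.val_mul, hz, Matrix.eta_fin_two (g : Matrix (Fin 2) (Fin 2) K)] at hc
  simp only [Matrix.mul_fin_two, Matrix.smul_of, Matrix.smul_cons, Matrix.smul_empty, EmbeddingLike.apply_eq_iff_eq,
    Matrix.vecCons_inj, smul_eq_mul, and_true, mul_one, mul_zero, zero_mul, one_mul, add_zero, zero_add, mul_neg,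
    neg_mul] at hc
  obtain ⟨⟨e00, e01⟩, e10, e11⟩ := hc
  have hd := det_two g
  set a := (g : Matrix (Fin 2) (Fin 2) K) 0 0
  set b := (g : Matrix (Fin 2) (Fin 2) K) 0 1
  set p := (g : Matrix (Fin 2) (Fin 2) K) 1 0
  set d := (g : Matrix (Fin 2) (Fin 2) K) 1 1
  by_cases ha : a = 0
  · right
    refine ⟨ha, ?_⟩
    by_contra hd0
    have hc1 : (c - 1) * d = 0 := by linear_combination e11
    have hcc : c = 1 := sub_eq_zero.1 ((mul_eq_zero.1 hc1).resolve_right hd0)
    rw [hcc] at e01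
    have hb : b = 0 := (mul_eq_zero.1 (show (2 : K) * b = 0 by linear_combination e01)).resolve_left h2
    exact hd (by rw [ha, hb]; ring)
  · left
    have hc1 : (c - 1) * a = 0 := by linear_combination -e00
    have hcc : c = 1 := sub_eq_zero.1 ((mul_eq_zero.1 hc1).resolve_right ha)
    rw [hcc] at e01 e10
    exact ⟨(mul_eq_zero.1 (show (2 : K) * b = 0 by linear_combination e01)).resolve_left h2,
      (mul_eq_zero.1 (show (2 : K) * p = 0 by linear_combination -e10)).resolve_left h2⟩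

include hx

/-- The common centraliser of the four-group is the four-group. -/
theorem mem_four {t : ProjGenLinGroup (Fin 2) K} (htz : t * mk z = mk z * t) (htx : t * mk x = mk x * t) :
    t = 1 ∨ t = mk z ∨ t = mk x ∨ t = mk (z * x) := by
  induction t using Matrix.ProjGenLinGroup.induction_on with | mk g => ?_
  have hd := det_two g
  have hg := Matrix.eta_fin_two (g : Matrix (Fin 2) (Fin 2) K)
  have htx' := htx
  rw [← map_mul, ← map_mul] at htx'
  obtain ⟨c, -, hc⟩ := exists_smul_of_mk htx'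
  rw [Units.val_mul, Units.val_mul, hx, hg] at hc
  simp only [Matrix.mul_fin_two, Matrix.smul_of, Matrix.smul_cons, Matrix.smul_empty, EmbeddingLike.apply_eq_iff_eq,
    Matrix.vecCons_inj, smul_eq_mul, and_true, mul_one, mul_zero, zero_mul, one_mul, add_zero, zero_add] at hc
  obtain ⟨⟨e00, e01⟩, e10, e11⟩ := hc
  set a := (g : Matrix (Fin 2) (Fin 2) K) 0 0
  set b := (g : Matrix (Fin 2) (Fin 2) K) 0 1
  set p := (g : Matrix (Fin 2) (Fin 2) K) 1 0
  set d := (g : Matrix (Fin 2) (Fin 2) K) 1 1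
  rcases diag_or_antidiag h2 hz htz with ⟨hb, hp⟩ | ⟨ha, hd'⟩
  · replace hb : b = 0 := hb
    replace hp : p = 0 := hp
    have ha : a ≠ 0 := fun e => hd (by rw [e, hb]; ring)
    have hsq : (d - a) * (d + a) = 0 := by linear_combination d * e01 - a * e10
    rcases mul_eq_zero.1 hsq with h | h
    · refine Or.inl ?_
      rw [← map_one (mk (n := Fin 2) (R := K))]
      refine (mk_ext_smul ha ?_).symm
      rw [hg, sub_eq_zero.1 h, Units.val_one, Matrix.one_fin_two, hb, hp]
      ext i j; fin_cases i <;> fin_cases j <;> simp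
    · refine Or.inr (Or.inl ?_)
      refine (mk_ext_smul ha ?_).symm
      rw [hg, hz, eq_neg_of_add_eq_zero_left h, hb, hp]
      ext i j; fin_cases i <;> fin_cases j <;> simp
  · replace ha : a = 0 := ha
    replace hd' : d = 0 := hd'
    have hb : b ≠ 0 := fun e => hd (by rw [ha, e]; ring)
    have hsq : (p - b) * (p + b) = 0 := by linear_combination p * e00 - b * e11
    rcases mul_eq_zero.1 hsq with h | h
    · refine Or.inr (Or.inr (Or.inl ?_))
      refine (mk_ext_smul hb ?_).symm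
      rw [hg, hx, sub_eq_zero.1 h, ha, hd']
      ext i j; fin_cases i <;> fin_cases j <;> simp
    · refine Or.inr (Or.inr (Or.inr ?_))
      refine (mk_ext_smul hb ?_).symm
      rw [hg, Units.val_mul, hz, hx, eq_neg_of_add_eq_zero_left h, ha, hd', Matrix.mul_fin_two]
      ext i j; fin_cases i <;> fin_cases j <;> simp

variable [Fintype K]

/-- A non-trivial subgroup normalised by the Clifford group of one qubit contains a Pauli element. -/
theorem fixed_of_normalised {i : K} (hi : i * i = -1) {h s : GL (Fin 2) K}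
    (hh : (h : Matrix (Fin 2) (Fin 2) K) = !![1, 1; 1, -1]) (hs : (s : Matrix (Fin 2) (Fin 2) K) = !![1, 0; 0, i])
    (W : Subgroup (ProjGenLinGroup (Fin 2) K)) (nz : ∀ w ∈ W, mk z * w * (mk z)⁻¹ ∈ W)
    (nx : ∀ w ∈ W, mk x * w * (mk x)⁻¹ ∈ W) (nh : ∀ w ∈ W, mk h * w * (mk h)⁻¹ ∈ W)
    (ns : ∀ w ∈ W, mk s * w * (mk s)⁻¹ ∈ W) (hW : W ≠ ⊥) :
    ∃ t ∈ W, t ≠ 1 ∧ t * mk z = mk z * t ∧ t * mk x = mk x * t ∧ (t = mk z ∨ t = mk x ∨ t = mk (z * x)) := by
  classical
  haveI : Finite (ProjGenLinGroup (Fin 2) K) := DicksonLine.finite_pgl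
  have hm1 : (-1 : K) ≠ 0 := neg_ne_zero.2 one_ne_zero
  have hzz : mk z * mk z = 1 := by
    rw [← map_mul, ← map_one (mk (n := Fin 2) (R := K))]
    refine (mk_ext_smul (one_ne_zero (α := K)) ?_).symm
    rw [Units.val_mul, hz, Matrix.mul_fin_two, Units.val_one, Matrix.one_fin_two]
    simp
  have hxx : mk x * mk x = 1 := by
    rw [← map_mul, ← map_one (mk (n := Fin 2) (R := K))]
    refine (mk_ext_smul (one_ne_zero (α := K)) ?_).symm
    rw [Units.val_mul, hx, Matrix.mul_fin_two, Units.val_one, Matrix.one_fin_two]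
    simp
  have hzx : mk z * mk x = mk x * mk z := by
    rw [← map_mul, ← map_mul]
    refine (mk_ext_smul hm1 ?_).symm
    rw [Units.val_mul, Units.val_mul, hz, hx, Matrix.mul_fin_two, Matrix.mul_fin_two]
    simp
  by_cases heven : Even (Nat.card W)
  · obtain ⟨t, ht, ht1, htz, htx⟩ := exists_common_involution W heven nz nx hzz hxx hzx
    exact ⟨t, ht, ht1, htz, htx, (mem_four h2 hz hx htz htx).resolve_left ht1⟩
  exfalso
  have hodd : ∀ w ∈ W, w * w = 1 → w = 1 := by
    intro w hw hww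
    by_contra hne
    refine heven (even_iff_two_dvd.2 ?_)
    have hord : orderOf (⟨w, hw⟩ : W) = 2 :=
      orderOf_eq_prime (by rw [sq]; exact Subtype.ext hww) fun e => hne (congrArg Subtype.val e)
    have hdvd := orderOf_dvd_natCard (⟨w, hw⟩ : W)
    rwa [hord] at hdvd
  have hhh : mk h * mk h = 1 := by
    rw [← map_mul, ← map_one (mk (n := Fin 2) (R := K))]
    refine (mk_ext_smul h2 ?_).symm
    rw [Units.val_mul, hh, Matrix.mul_fin_two, Units.val_one, Matrix.one_fin_two]
    ext a b; fin_cases a <;> fin_cases b <;> simp <;> ring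
  have hhz : mk h * mk x = mk z * mk h := by
    rw [← map_mul, ← map_mul]
    refine mk_ext_smul (one_ne_zero (α := K)) ?_
    rw [Units.val_mul, Units.val_mul, hh, hx, hz, Matrix.mul_fin_two, Matrix.mul_fin_two]
    simp
  have hsx : mk s * (mk z * mk x) = mk x * mk s := by
    rw [← map_mul, ← map_mul, ← map_mul]
    have hi0 : i ≠ 0 := fun e => by rw [e, zero_mul] at hi; exact hm1 hi.symm
    refine mk_ext_smul (c := i) hi0 ?_
    rw [Units.val_mul, Units.val_mul, Units.val_mul, hs, hx, hz]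
    simp only [Matrix.mul_fin_two]
    ext a b; fin_cases a <;> fin_cases b <;> simp <;> linear_combination hi
  have move : ∀ (n a b : ProjGenLinGroup (Fin 2) K), n * a = b * n → ∀ w, w * a = a * w →
      n * w * n⁻¹ * b = b * (n * w * n⁻¹) := fun n a b hn w hw => by
    have hb : b = n * a * n⁻¹ := by rw [hn, mul_inv_cancel_right]
    calc n * w * n⁻¹ * b = n * (w * a) * n⁻¹ := by rw [hb]; group
      _ = n * (a * w) * n⁻¹ := by rw [hw]
      _ = b * (n * w * n⁻¹) := by rw [hb]; group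
  obtain ⟨w₀, hw₀, hw₀1, hcase⟩ := exists_centralised W hW nz nx hzz hxx
  have key : ∀ n w : ProjGenLinGroup (Fin 2) K, w ≠ 1 → n * w * n⁻¹ ≠ 1 := fun n w hw e => hw (by
    calc w = n⁻¹ * (n * w * n⁻¹) * n := by group
      _ = 1 := by rw [e]; group)
  obtain ⟨w, hw, hw1, hwz⟩ : ∃ w ∈ W, w ≠ 1 ∧ w * mk z = mk z * w := by
    rcases hcase with hc | hc | hc
    · exact ⟨w₀, hw₀, hw₀1, hc⟩
    · exact ⟨_, nh _ hw₀, key _ _ hw₀1, move _ _ _ hhz w₀ hc⟩
    · exact ⟨_, nh _ (ns _ hw₀), key _ _ (key _ _ hw₀1), move _ _ _ hhz _ (move _ _ _ hsx w₀ hc)⟩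
  induction w using Matrix.ProjGenLinGroup.induction_on with | mk g => ?_
  have hsq : ∀ c : K, c ≠ 0 → ((g : Matrix (Fin 2) (Fin 2) K) * g) = c • 1 → False := fun c hc e => hw1 (hodd _ hw (by
    rw [← map_mul, ← map_one (mk (n := Fin 2) (R := K))]
    exact (mk_ext_smul hc (by rw [Units.val_mul, e, Units.val_one])).symm))
  have hd := det_two g
  have hg := Matrix.eta_fin_two (g : Matrix (Fin 2) (Fin 2) K)
  set a := (g : Matrix (Fin 2) (Fin 2) K) 0 0 with ha_def
  set b := (g : Matrix (Fin 2) (Fin 2) K) 0 1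
  set p := (g : Matrix (Fin 2) (Fin 2) K) 1 0
  set d := (g : Matrix (Fin 2) (Fin 2) K) 1 1
  rcases diag_or_antidiag h2 hz hwz with ⟨hb, hp⟩ | ⟨ha, hd'⟩
  swap
  · replace ha : a = 0 := ha
    replace hd' : d = 0 := hd'
    refine hsq (b * p) (fun e => hd (by rw [ha]; linear_combination -e)) ?_
    rw [hg, ha, hd', Matrix.mul_fin_two, Matrix.one_fin_two]
    ext i j; fin_cases i <;> fin_cases j <;> simp [mul_comm]
  replace hb : b = 0 := hb
  replace hp : p = 0 := hp
  have ha : a ≠ 0 := fun e => hd (by rw [e, hb]; ring)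
  have hd0 : d ≠ 0 := fun e => hd (by rw [e, hb]; ring)
  have had : a - d ≠ 0 := fun e => hw1 (by
    rw [← map_one (mk (n := Fin 2) (R := K))]
    refine (mk_ext_smul ha ?_).symm
    rw [hg, hb, hp, ← sub_eq_zero.1 e, Units.val_one, Matrix.one_fin_two]
    ext i j; fin_cases i <;> fin_cases j <;> simp)
  have had' : a + d ≠ 0 := fun e => hsq (a * a) (mul_ne_zero ha ha) (by
    rw [hg, hb, hp, eq_neg_of_add_eq_zero_right e, Matrix.mul_fin_two, Matrix.one_fin_two]
    ext i j; fin_cases i <;> fin_cases j <;> simp)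
  obtain ⟨g', hg'def⟩ : ∃ g', g' = h * g * h := ⟨_, rfl⟩
  have hg' : (g' : Matrix (Fin 2) (Fin 2) K) = !![a + d, a - d; a - d, a + d] := by
    rw [hg'def, Units.val_mul, Units.val_mul, hh, hg, hb, hp, Matrix.mul_fin_two, Matrix.mul_fin_two]
    ext i j; fin_cases i <;> fin_cases j <;> simp <;> ring
  have hw' : mk g' ∈ W := by
    have := nh _ hw
    rwa [inv_eq_of_mul_eq_one_right hhh, ← map_mul, ← map_mul, ← hg'def] at this
  haveI : Finite K := Finite.of_fintype K
  obtain ⟨q, hq⟩ := CharP.exists K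
  haveI : Fact q.Prime := ⟨(CharP.char_is_prime_or_zero K q).resolve_right (CharP.char_ne_zero_of_finite K q)⟩
  have noTwo : ∀ {H : Type _} [Group H], Nonempty (W ≃* H) → ∀ u : H, u * u = 1 → u = 1 := by
    intro H _ ⟨e⟩ u hu
    have := hodd _ (e.symm u).2 (by
      have h1 := congrArg (fun y : H => ((e.symm y : W) : ProjGenLinGroup (Fin 2) K)) hu
      simpa using h1)
    have h1 : e.symm u = 1 := Subtype.ext this
    rwa [MulEquiv.map_eq_one_iff] at h1
  have evenCard : ∀ {H : Type} [Group H], Nonempty (W ≃* H) → Even (Nat.card H) → False := fun ⟨e⟩ hH =>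
    heven (by rwa [Nat.card_congr e.toEquiv])
  rcases Dickson.dickson_pgl q W with ⟨hcyc, -⟩ | ⟨y, hy, -⟩ | ⟨C, -, -, -, -, ⟨e⟩⟩ | hiso | hiso | hiso |
    ⟨R, -, hR⟩
  · haveI := hcyc
    have hcm : mk g * mk g' = mk g' * mk g :=
      congrArg Subtype.val ((inferInstance : IsMulCommutative W).is_comm.comm ⟨_, hw⟩ ⟨_, hw'⟩)
    rw [← map_mul, ← map_mul] at hcm
    obtain ⟨c, -, hc⟩ := exists_smul_of_mk hcm
    rw [Units.val_mul, Units.val_mul, hg', hg, hb, hp] at hc
    simp only [Matrix.mul_fin_two, Matrix.smul_of, Matrix.smul_cons, Matrix.smul_empty,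
      EmbeddingLike.apply_eq_iff_eq, Matrix.vecCons_inj, smul_eq_mul, and_true, mul_zero, zero_mul, add_zero,
      zero_add] at hc
    obtain ⟨⟨e00, e01⟩, -⟩ := hc
    have hc1 : (c - 1) * (a * (a + d)) = 0 := by linear_combination -e00
    have hcc : c = 1 := sub_eq_zero.1 ((mul_eq_zero.1 hc1).resolve_right (mul_ne_zero ha had'))
    rw [hcc] at e01
    have : (a - d) * (a - d) = 0 := by linear_combination -e01
    exact had ((mul_eq_zero.1 this).elim id id)
  · have e1 : g • y = y := by rw [← mk_smul]; exact hy hw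
    have e2 : g' • y = y := by rw [← mk_smul]; exact hy hw'
    cases y with
    | infty =>
      rw [OnePoint.smul_infty_eq_self_iff, hg'] at e2
      exact had (by simpa using e2)
    | coe k =>
      rw [OnePoint.smul_some_eq_ite, hg] at e1
      simp [hp, hb, hd0] at e1
      have hk : k = 0 := by
        have : (a - d) * k = 0 := by
          rw [div_eq_iff hd0] at e1
          linear_combination e1
        exact (mul_eq_zero.1 this).resolve_left had
      rw [OnePoint.smul_some_eq_ite, hg', hk] at e2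
      simp [had', had] at e2
  · refine heven ?_
    rw [Nat.card_congr e.toEquiv, DihedralGroup.nat_card]
    exact even_two_mul _
  · exact evenCard hiso (by rw [nat_card_alternatingGroup, Nat.card_fin]; decide)
  · exact evenCard hiso (by rw [Nat.card_perm, Nat.card_fin]; decide)
  · exact evenCard hiso (by rw [nat_card_alternatingGroup, Nat.card_fin]; decide)
  · have h2R : (2 : R) ≠ 0 := fun e => h2 (by
      have h' := congrArg R.subtype e
      rwa [map_ofNat, map_zero] at h')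
    rcases hR with hiso | ⟨-, hiso⟩
    · set u : GL (Fin 2) R := GeneralLinearGroup.mkOfDetNeZero !![1, 0; 0, -1] (by simp [Matrix.det_fin_two]) with hu
      have h1 := noTwo hiso (mk u) (by
        rw [← map_mul, ← map_one (mk (n := Fin 2) (R := R))]
        refine (mk_ext_smul (one_ne_zero (α := R)) ?_).symm
        rw [Units.val_mul, hu]
        simp [GeneralLinearGroup.mkOfDetNeZero, Matrix.mul_fin_two, Matrix.one_fin_two])
      rw [← map_one (mk (n := Fin 2) (R := R))] at h1
      obtain ⟨c, -, hc⟩ := exists_smul_of_mk h1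
      rw [Units.val_one, hu] at hc
      have e00 := congrFun (congrFun hc 0) 0
      have e11 := congrFun (congrFun hc 1) 1
      simp [GeneralLinearGroup.mkOfDetNeZero] at e00 e11
      exact h2R (by linear_combination e00 + e11)
    · let S : SpecialLinearGroup (Fin 2) R := ⟨!![0, 1; -1, 0], by simp [Matrix.det_fin_two]⟩
      have hcoe : ∀ y : SpecialLinearGroup (Fin 2) R,
          (QuotientGroup.mk y : ProjectiveSpecialLinearGroup (Fin 2) R) = 1 ↔
            y ∈ Subgroup.center (SpecialLinearGroup (Fin 2) R) := fun y => QuotientGroup.eq_one_iff y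
      have h1 := noTwo hiso (QuotientGroup.mk S) (by
        rw [← QuotientGroup.mk_mul, hcoe, Matrix.SpecialLinearGroup.mem_center_iff]
        refine ⟨-1, by simp, ?_⟩
        rw [Matrix.SpecialLinearGroup.coe_mul]
        ext i j; fin_cases i <;> fin_cases j <;> simp [S, Matrix.mul_fin_two])
      rw [hcoe, Matrix.SpecialLinearGroup.mem_center_iff] at h1
      obtain ⟨r, -, hr⟩ := h1
      have := congrFun (congrFun hr 0) 1
      simp [S] at this

end Block

end Cfsg.Agent.C6Plus10
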