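import Cfsg.Agent.Lib.C6Plus10Level

/-!
Elements controlled by a function of the points, and the recognition of Pauli elements among the signed
permutations of an overgroup with quadratic diagonal signs.
-/

set_option autoImplicit false
set_option linter.unusedTactic false
set_option linter.unreachableTactic false
set_option linter.unusedSectionVars false

namespace Cfsg.Agent.C6Plus10

open Matrix
open scoped MatrixGroups

variable {F : Type*} [Field F] {k : ℕ}

/-- No entries between points with different values. -/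
def Kp (h : Pt k → ZMod 2) (X : GL (Pt k) F) : Prop :=
  ∀ x y, h x ≠ h y → (X : Matrix (Pt k) (Pt k) F) x y = 0 ∧ ((X⁻¹ : GL (Pt k) F) : Matrix (Pt k) (Pt k) F) x y = 0

/-- The rows where the function is one taken from the matrix, the others from the identity. -/
def cmat (h : Pt k → ZMod 2) (A : Matrix (Pt k) (Pt k) F) : Matrix (Pt k) (Pt k) F :=
  Matrix.of fun x y => if h x = 1 then A x y else (1 : Matrix (Pt k) (Pt k) F) x y

theorem cmat_mul {h : Pt k → ZMod 2} {A B : Matrix (Pt k) (Pt k) F} (hA : ∀ x y, h x ≠ h y → A x y = 0) :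
    cmat h A * cmat h B = cmat h (A * B) := by
  ext x y
  rw [Matrix.mul_apply]
  simp only [cmat, Matrix.of_apply]
  by_cases hx : h x = 1
  · rw [if_pos hx, Matrix.mul_apply]
    refine Finset.sum_congr rfl fun z _ => ?_
    rw [if_pos hx]
    by_cases hz : h z = 1
    · rw [if_pos hz]
    · rw [if_neg hz, hA x z (hx.trans_ne (Ne.symm hz)), zero_mul, zero_mul]
  · rw [if_neg hx, Finset.sum_eq_single x (fun z _ hz => by rw [if_neg hx, Matrix.one_apply_ne hz.symm, zero_mul])
      (fun h' => absurd (Finset.mem_univ x) h'), if_neg hx, Matrix.one_apply_eq, one_mul, if_neg hx]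

theorem cmat_one (h : Pt k → ZMod 2) : cmat h (1 : Matrix (Pt k) (Pt k) F) = 1 := by
  ext x y
  simp [cmat]

open Classical in
/-- The element acting as the given one where the function is one, trivially where it is zero. -/
noncomputable def ctl (h : Pt k → ZMod 2) (X : GL (Pt k) F) : GL (Pt k) F :=
  if hx : Kp h X then
    { val := cmat h (X : Matrix (Pt k) (Pt k) F)
      inv := cmat h ((X⁻¹ : GL (Pt k) F) : Matrix (Pt k) (Pt k) F)
      val_inv := by rw [cmat_mul fun x y e => (hx x y e).1, ← Units.val_mul, mul_inv_cancel, Units.val_one, cmat_one]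
      inv_val := by rw [cmat_mul fun x y e => (hx x y e).2, ← Units.val_mul, inv_mul_cancel, Units.val_one, cmat_one] }
  else 1

theorem ctl_val {h : Pt k → ZMod 2} {X : GL (Pt k) F} (hx : Kp h X) :
    ((ctl h X : GL (Pt k) F) : Matrix (Pt k) (Pt k) F) = cmat h (X : Matrix (Pt k) (Pt k) F) := by
  rw [ctl, dif_pos hx]

theorem sd_apply (f : Pt k → ZMod 2) :
    ((sd F f : GL (Pt k) F) : Matrix (Pt k) (Pt k) F) = Matrix.diagonal fun x => sgn F (f x) := rfl

/-- Intertwining two sign elements makes entries vanish. -/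
theorem entry_zero (h2 : (2 : F) ≠ 0) {h h' : Pt k → ZMod 2} {c : GL (Pt k) F}
    (hc : c * sd F h = sd F h' * c) {x y : Pt k} (hne : h' x ≠ h y) : (c : Matrix (Pt k) (Pt k) F) x y = 0 := by
  have e := congrArg (fun u : GL (Pt k) F => (u : Matrix (Pt k) (Pt k) F) x y) hc
  simp only [Units.val_mul, sd_apply, Matrix.mul_diagonal, Matrix.diagonal_mul] at e
  have e' : (sgn F (h' x) - sgn F (h y)) * (c : Matrix (Pt k) (Pt k) F) x y = 0 := by linear_combination -e
  exact (mul_eq_zero.1 e').resolve_left (sub_ne_zero.2 fun e2 => hne (sgn_inj h2 e2))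

theorem kp_of_comm (h2 : (2 : F) ≠ 0) {h : Pt k → ZMod 2} {X : GL (Pt k) F} (hc : X * sd F h = sd F h * X) :
    Kp h X := fun _ _ e => ⟨entry_zero h2 hc e, entry_zero h2 (Commute.inv_left hc).eq e⟩

theorem kp_sd (h f : Pt k → ZMod 2) : Kp h (sd F f) := fun x y e => by
  have hxy : x ≠ y := fun e' => e (congrArg h e')
  rw [sd_inv, sd_apply, Matrix.diagonal_apply_ne _ hxy]
  exact ⟨rfl, rfl⟩

theorem kp_mon {h : Pt k → ZMod 2} {π : Equiv.Perm (Pt k)} (hπ : ∀ y, h (π y) = h y) (f : Pt k → ZMod 2) :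
    Kp h (mon F π f) := fun x y e => by
  constructor
  · rw [mon_apply, if_neg fun e' => e (by rw [e', hπ])]
  · rw [mon_inv, mon_apply, if_neg fun e' : x = π⁻¹ y => e (by
      rw [e']
      conv_rhs => rw [← Equiv.apply_symm_apply π y, hπ]
      rfl)]

theorem kp_mul {h : Pt k → ZMod 2} {X Y : GL (Pt k) F} (hX : Kp h X) (hY : Kp h Y) : Kp h (X * Y) := fun x y e => by
  rw [_root_.mul_inv_rev, Units.val_mul, Units.val_mul, Matrix.mul_apply, Matrix.mul_apply]
  constructor <;> refine Finset.sum_eq_zero fun z _ => ?_ <;> by_cases hz : h x = h z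
  · rw [(hY z y (hz ▸ e)).1, mul_zero]
  · rw [(hX x z hz).1, zero_mul]
  · rw [(hX z y (hz ▸ e)).2, mul_zero]
  · rw [(hY x z hz).2, zero_mul]

theorem ctl_mul {h : Pt k → ZMod 2} {X Y : GL (Pt k) F} (hX : Kp h X) (hY : Kp h Y) :
    ctl h (X * Y) = ctl h X * ctl h Y := Units.ext (by
  rw [ctl_val (kp_mul hX hY), Units.val_mul, Units.val_mul, ctl_val hX, ctl_val hY,
    cmat_mul fun x y e => (hX x y e).1])

theorem ctl_one (h : Pt k → ZMod 2) : ctl h (1 : GL (Pt k) F) = 1 := Units.ext (by
  rw [ctl_val (fun x y e => by simp [Matrix.one_apply_ne fun e' : x = y => e (congrArg h e')]), Units.val_one,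
    cmat_one])

theorem kp_inv {h : Pt k → ZMod 2} {X : GL (Pt k) F} (hX : Kp h X) : Kp h X⁻¹ := fun x y e =>
  ⟨(hX x y e).2, by rw [inv_inv]; exact (hX x y e).1⟩

theorem ctl_inv {h : Pt k → ZMod 2} {X : GL (Pt k) F} (hX : Kp h X) : ctl h X⁻¹ = (ctl h X)⁻¹ :=
  eq_inv_of_mul_eq_one_left (by rw [← ctl_mul (kp_inv hX) hX, inv_mul_cancel, ctl_one])

/-- The two halves of an element. -/
theorem ctl_mul_compl {h : Pt k → ZMod 2} {X : GL (Pt k) F} (hX : Kp h X) :
    ctl h X * ctl (fun y => h y + 1) X = X := by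
  have hX' : Kp (fun y => h y + 1) X := fun x y e => hX x y fun e' => e (by simp only [e'])
  refine Units.ext (Matrix.ext fun x y => ?_)
  rw [Units.val_mul, ctl_val hX, ctl_val hX', Matrix.mul_apply]
  simp only [cmat, Matrix.of_apply]
  rcases zm_cases (h x) with hx | hx
  · rw [Finset.sum_eq_single x (fun z _ hz => by rw [if_neg (by simp [hx]), Matrix.one_apply_ne hz.symm, zero_mul])
      (fun h' => absurd (Finset.mem_univ x) h'), if_neg (by simp [hx]), if_pos (by rw [hx, zero_add]),
      Matrix.one_apply_eq, one_mul]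
  · rw [Finset.sum_eq_single y]
    · rw [if_pos hx]
      by_cases hy : h y = 1
      · rw [if_neg (by simp [hy, CharTwo.add_self_eq_zero]), Matrix.one_apply_eq, mul_one]
      · rw [(hX x y (hx.trans_ne (Ne.symm hy))).1, zero_mul]
    · intro z _ hz
      rw [if_pos hx]
      by_cases hzh : h z = 1
      · rw [if_neg (by simp [hzh, CharTwo.add_self_eq_zero]), Matrix.one_apply_ne hz, mul_zero]
      · rw [(hX x z (hx.trans_ne (Ne.symm hzh))).1, zero_mul]
    · simp

theorem kp_ctl {h h' : Pt k → ZMod 2} {X : GL (Pt k) F} (hX : Kp h' X) (hh : Kp h X) : Kp h (ctl h' X) := by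
  intro x y e
  have hxy : x ≠ y := fun e' => e (congrArg h e')
  rw [← ctl_inv hX, ctl_val hX, ctl_val (kp_inv hX)]
  simp only [cmat, Matrix.of_apply, Matrix.one_apply_ne hxy, (hh x y e).1, (hh x y e).2, ite_self, and_self]

theorem ctl_ctl {h h' : Pt k → ZMod 2} {X : GL (Pt k) F} (hX : Kp h' X) (hh : Kp h X) :
    ctl h (ctl h' X) = ctl (fun y => h y * h' y) X := by
  have hp : Kp (fun y => h y * h' y) X := fun x y e => by
    by_cases e1 : h x = h y
    · exact hX x y fun e2 => e (by simp only [e1, e2])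
    · exact hh x y e1
  refine Units.ext (Matrix.ext fun x y => ?_)
  rw [ctl_val (kp_ctl hX hh), ctl_val hX, ctl_val hp]
  simp only [cmat, Matrix.of_apply]
  rcases zm_cases (h x) with hx | hx <;> simp [hx]

theorem ctl_zero {X : GL (Pt k) F} : ctl (fun _ => 0) X = 1 := by
  have hX : Kp (fun _ : Pt k => (0 : ZMod 2)) X := fun x y e => absurd rfl e
  refine Units.ext (Matrix.ext fun x y => ?_)
  rw [ctl_val hX]
  simp [cmat]

theorem ctl_idem {h : Pt k → ZMod 2} {X : GL (Pt k) F} (hX : Kp h X) : ctl h (ctl h X) = ctl h X := by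
  rw [ctl_ctl hX hX]
  congr 1
  funext y
  rcases zm_cases (h y) with hy | hy <;> simp [hy]

theorem ctl_disj {h : Pt k → ZMod 2} {X : GL (Pt k) F} (hX : Kp h X) :
    ctl (fun y => h y + 1) (ctl h X) = 1 := by
  rw [ctl_ctl hX fun x y e => hX x y fun e' => e (by simp only [e']), show (fun y => (h y + 1) * h y) = fun _ => 0 from
    funext fun y => by rcases zm_cases (h y) with hy | hy <;> simp [hy, CharTwo.add_self_eq_zero]]
  exact ctl_zero

/-- Conjugation of a controlled element. -/
theorem ctl_conj (h2 : (2 : F) ≠ 0) {h h' : Pt k → ZMod 2} {c X : GL (Pt k) F} (hX : Kp h X)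
    (hc : c * sd F h * c⁻¹ = sd F h') : c * ctl h X * c⁻¹ = ctl h' (c * X * c⁻¹) := by
  have hc' : c * sd F h = sd F h' * c := mul_inv_eq_iff_eq_mul.1 hc
  have hci : c⁻¹ * sd F h' = sd F h * c⁻¹ := by rw [← hc]; group
  have hX' : Kp h' (c * X * c⁻¹) := by
    intro x y e
    have aux : ∀ Z : GL (Pt k) F, Kp h Z → ((c * Z * c⁻¹ : GL (Pt k) F) : Matrix (Pt k) (Pt k) F) x y = 0 := by
      intro Z hZ
      rw [Units.val_mul, Units.val_mul, Matrix.mul_apply]
      refine Finset.sum_eq_zero fun z _ => ?_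
      by_cases hz : h' y = h z
      · rw [Matrix.mul_apply, Finset.sum_eq_zero fun w _ => ?_, zero_mul]
        by_cases hw : h' x = h w
        · rw [(hZ w z (by rw [← hw, ← hz]; exact e)).1, mul_zero]
        · rw [entry_zero h2 hc' hw, zero_mul]
      · rw [entry_zero h2 hci (fun e' => hz e'.symm), mul_zero]
    exact ⟨aux X hX, by
      rw [show (c * X * c⁻¹)⁻¹ = c * X⁻¹ * c⁻¹ by group]; exact aux _ (kp_inv hX)⟩
  rw [mul_inv_eq_iff_eq_mul]
  refine Units.ext (Matrix.ext fun x y => ?_)
  rw [Units.val_mul, Units.val_mul, ctl_val hX, ctl_val hX', Matrix.mul_apply, Matrix.mul_apply]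
  simp only [cmat, Matrix.of_apply]
  by_cases hx : h' x = 1
  · have e : (c * X : GL (Pt k) F) = c * X * c⁻¹ * c := by group
    have e' := congrArg (fun u : GL (Pt k) F => (u : Matrix (Pt k) (Pt k) F) x y) e
    simp only [Units.val_mul c X, Units.val_mul _ c, Matrix.mul_apply] at e'
    simp only [if_pos hx]
    rw [← e']
    refine Finset.sum_congr rfl fun z _ => ?_
    by_cases hz : h z = 1
    · rw [if_pos hz]
    · rw [entry_zero h2 hc' (hx.trans_ne (Ne.symm hz)), zero_mul, zero_mul]
  · simp only [if_neg hx]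
    rw [Finset.sum_eq_single y, Finset.sum_eq_single x]
    · by_cases hy : h y = 1
      · rw [entry_zero h2 hc' (fun e => hx (e.trans hy)), zero_mul, mul_zero]
      · rw [if_neg hy, Matrix.one_apply_eq, Matrix.one_apply_eq, one_mul, mul_one]
    · intro z _ hz; rw [Matrix.one_apply_ne (Ne.symm hz), zero_mul]
    · simp
    · intro z _ hz
      by_cases hzh : h z = 1
      · rw [entry_zero h2 hc' (fun e => hx (e.trans hzh)), zero_mul]
      · rw [if_neg hzh, Matrix.one_apply_ne hz, mul_zero]
    · simp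

theorem ctl_sd (h f : Pt k → ZMod 2) : ctl h (sd F f) = sd F (fun y => h y * f y) := by
  refine Units.ext (Matrix.ext fun x y => ?_)
  rw [ctl_val (kp_sd h f), sd_apply, sd_apply]
  simp only [cmat, Matrix.of_apply]
  by_cases hxy : x = y
  · subst hxy
    rcases zm_cases (h x) with hx | hx <;> simp [hx]
  · simp [Matrix.diagonal_apply_ne _ hxy, Matrix.one_apply_ne hxy]

theorem ctl_mon {h : Pt k → ZMod 2} {π π' : Equiv.Perm (Pt k)} (hπ : ∀ y, h (π y) = h y)
    (hπ' : ∀ y, π' y = if h y = 1 then π y else y) (f : Pt k → ZMod 2) :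
    ctl h (mon F π f) = mon F π' (fun y => h y * f y) := by
  refine Units.ext (Matrix.ext fun x y => ?_)
  rw [ctl_val (kp_mon hπ f), mon_apply]
  simp only [cmat, Matrix.of_apply, mon_apply, hπ' y]
  rcases zm_cases (h y) with hy | hy
  · rw [hy, if_neg zero_ne_one, zero_mul, sgn_zero]
    by_cases hx : h x = 1
    · rw [if_pos hx, if_neg (fun e : x = π y => by rw [e, hπ, hy] at hx; exact zero_ne_one hx),
        if_neg (fun e : x = y => by rw [e, hy] at hx; exact zero_ne_one hx)]
    · rw [if_neg hx, Matrix.one_apply]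
  · rw [hy, if_pos rfl, one_mul]
    by_cases hx : h x = 1
    · rw [if_pos hx]
    · rw [if_neg hx, Matrix.one_apply_ne (fun e : x = y => hx (e ▸ hy)),
        if_neg (fun e : x = π y => hx (by rw [e, hπ, hy]))]

/-! ### Affine functions and Pauli elements -/

theorem aff_of_basis {f : Pt k → ZMod 2} (h : ∀ a b x, dl (pe a) (dl (pe b) f) x = 0) : Aff f := fun a b x => by
  have hb : ∀ i y, dl (pe i) f y = dl (pe i) f 0 := fun i => const_of_dl fun j => h j i
  have ha : ∀ y, dl b f y = dl b f 0 := const_of_dl fun i y => by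
    have e : dl (pe i) (dl b f) y = dl (pe i) f (y + b) + dl (pe i) f y := by
      simp only [dl_apply]
      rw [add_right_comm y (pe i) b]
      grind
    rw [e, hb i (y + b), hb i y, CharTwo.add_self_eq_zero]
  rw [dl_apply, ha (x + a), ha x, CharTwo.add_self_eq_zero]

theorem aff_eq {f : Pt k → ZMod 2} (h : Aff f) : ∃ (c : ZMod 2) (l : Pt k), f = fun x => c + ip l x := by
  refine ⟨f 0, fun i => f (pe i) + f 0, funext fun x => ?_⟩
  have key := const_of_dl (s := fun y => f y + ip (fun i => f (pe i) + f 0) y) (fun i y => by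
    have h1 := h y (pe i) 0
    simp only [dl_apply, zero_add, ip_add_right, ip_pe_right] at h1 ⊢
    grind) x
  simp only [ip, dotProduct_zero, add_zero] at key ⊢
  grind

theorem Quad.dl_aff {f : Pt k → ZMod 2} (h : Quad f) (a : Pt k) : Aff (dl a f) := fun b c x => h b c a x

theorem affPerm_addRight (u : Pt k) : AffPerm (Equiv.addRight u) := fun x y z => by
  simp only [Equiv.coe_addRight]
  funext i
  simp only [Pi.add_apply]
  grind

theorem mon_aff_pau {f : Pt k → ZMod 2} (hf : Aff f) (u : Pt k) :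
    ∃ (c : ZMod 2) (b : Pt k), mon F (Equiv.addRight u) f = sd F (fun _ => c) * pau F u b := by
  obtain ⟨c, l, rfl⟩ := aff_eq hf
  refine ⟨c, l, ?_⟩
  rw [pau_eq, ← mon_one_left, mon_mul, one_mul]

variable {M : Subgroup (GL (Pt k) F)}

/-- A coordinate of a signed permutation of the overgroup not moved in a direction moving another is affine. -/
theorem aff_coord (hM : Base M) (hS : Signs M) {π : Equiv.Perm (Pt k)} {f : Pt k → ZMod 2}
    (h : mon F π f ∈ M) {i j : Fin k} (e : Pt k) (hj : ∀ y, π (y + e) j = π y j + 1)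
    (hi : ∀ y, π (y + e) i = π y i) : Aff (fun y => π y i) := by
  have h1 := (quad_comp hM hS h (quad_mul_coord (i := i) (j := j))).dl_aff e
  refine (show dl e ((fun y : Pt k => y i * y j) ∘ π) = fun y => π y i from funext fun y => ?_) ▸ h1
  simp only [dl_apply, Function.comp_apply, hi, hj]
  grind

/-- The signs of a Pauli-like element whose controlled versions lie in the overgroup are affine apart from the
product of two control coordinates, when only two are available. -/
theorem pauli_of_ctl (hM : Base M) (hS : Signs M) (D : Finset (Fin k)) {d d' : Fin k} (hd : d ∈ D) (hd' : d' ∈ D)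
    (hdd : d ≠ d') {u : Pt k} (hu : ∀ l ∈ D, u l = 0) {f : Pt k → ZMod 2}
    (hx : mon F (Equiv.addRight u) f ∈ M) (hc : ∀ l ∈ D, ctl (ip (pe l)) (mon F (Equiv.addRight u) f) ∈ M) :
    ∃ ε : ZMod 2, (3 ≤ D.card → ε = 0) ∧ Aff (fun y => f y + ε * (y d * y d')) := by
  have hf : Quad f := quad_of_mon hM hS (affPerm_addRight u) hx
  have key : ∀ l ∈ D, ∀ a b, a ≠ l → b ≠ l → ∀ x, dl (pe a) (dl (pe b) f) x = 0 := by
    intro l hl a b ha hb x
    have h0 : ip (pe l) u = 0 := by rw [ip_pe, hu l hl]
    have hq : Quad (fun y => ip (pe l) y * f y) := by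
      refine quad_of_mon hM hS (π := trP u (pe l) 0 h0) (affPerm_trP u (pe l) 0 h0) ?_
      rw [← ctl_mon (π := Equiv.addRight u) (fun y => ?_) (fun y => ?_)]
      · exact hc l hl
      · simp only [Equiv.coe_addRight, ip_add_right, h0, add_zero]
      · rw [trP_apply, add_zero, Equiv.coe_addRight]
        rcases zm_cases (ip (pe l) y) with e | e <;> simp [e]
    have h1 := hq (pe a) (pe b) (pe l) x
    have h3 := hf (pe a) (pe b) (pe l) x
    simp only [dl_apply, ip_pe, Pi.add_apply, pe_self, pe_ne (Ne.symm ha), pe_ne (Ne.symm hb), add_zero] at h1 h3 ⊢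
    grind
  have hpe : ∀ a x, dl (pe a) (dl (pe a) f) x = 0 := fun a x => by
    simp only [dl_apply, pt_add_cancel]
    grind
  have hsym : ∀ a b x, dl (pe a) (dl (pe b) f) x = dl (pe b) (dl (pe a) f) x := fun a b x => by
    simp only [dl_apply, add_right_comm x (pe a) (pe b)]
    grind
  have gen : ∀ a b, ¬ ((a = d ∧ b = d') ∨ (a = d' ∧ b = d)) ∨ 3 ≤ D.card →
      ∀ x, dl (pe a) (dl (pe b) f) x = 0 := by
    intro a b hab x
    by_cases e : a = b
    · subst e; exact hpe a x
    obtain ⟨l, hl, hla, hlb⟩ : ∃ l ∈ D, l ≠ a ∧ l ≠ b := by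
      rcases hab with hab | hab
      · by_cases h1 : d ≠ a ∧ d ≠ b
        · exact ⟨d, hd, h1⟩
        · simp only [ne_eq, not_and_or, not_not] at h1
          refine ⟨d', hd', ?_, ?_⟩ <;>
          · intro h2
            rcases h1 with h1 | h1
            · first
                | exact hdd (h1.trans h2.symm)
                | exact hab (Or.inl ⟨h1.symm, h2.symm⟩)
                | exact hab (Or.inr ⟨h2.symm, h1.symm⟩)
            · first
                | exact hdd (h1.trans h2.symm)
                | exact hab (Or.inl ⟨h1.symm, h2.symm⟩)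
                | exact hab (Or.inr ⟨h2.symm, h1.symm⟩)
      · by_contra hno
        push Not at hno
        have hsub : D ⊆ {a, b} := fun l hl => by
          by_cases h1 : l = a
          · simp [h1]
          · simp [hno l hl h1]
        have := (Finset.card_le_card hsub).trans Finset.card_le_two
        omega
    exact key l hl a b hla.symm hlb.symm x
  by_cases h3 : 3 ≤ D.card
  · exact ⟨0, fun _ => rfl, by simpa using aff_of_basis fun a b => gen a b (Or.inr h3)⟩
  refine ⟨dl (pe d) (dl (pe d') f) 0, fun h => absurd h h3, aff_of_basis fun a b x => ?_⟩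
  have hconst : ∀ y, dl (pe d) (dl (pe d') f) y = dl (pe d) (dl (pe d') f) 0 :=
    const_of_dl fun i y => hf (pe i) (pe d) (pe d') y
  have e : dl (pe a) (dl (pe b) fun y => f y + dl (pe d) (dl (pe d') f) 0 * (y d * y d')) x =
      dl (pe a) (dl (pe b) f) x +
        dl (pe d) (dl (pe d') f) 0 * (pe a d * pe b d' + pe b d * pe a d') := by
    simp only [dl_apply, Pi.add_apply]
    grind
  rw [e]
  by_cases hab : (a = d ∧ b = d') ∨ (a = d' ∧ b = d)
  · rcases hab with ⟨rfl, rfl⟩ | ⟨rfl, rfl⟩
    · rw [hconst, pe_self, pe_self, pe_ne hdd, pe_ne hdd.symm]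
      simp [CharTwo.add_self_eq_zero]
    · rw [hsym, hconst, pe_self, pe_self, pe_ne hdd, pe_ne hdd.symm]
      simp [CharTwo.add_self_eq_zero]
  · rw [gen a b (Or.inl hab), zero_add]
    have h1 : pe a d * pe b d' = 0 := by
      by_cases e1 : a = d
      · rw [pe_ne (fun e2 : d' = b => hab (Or.inl ⟨e1, e2.symm⟩)), mul_zero]
      · rw [pe_ne (Ne.symm e1), zero_mul]
    have h2 : pe b d * pe a d' = 0 := by
      by_cases e1 : b = d
      · rw [pe_ne (fun e2 : d' = a => hab (Or.inr ⟨e2.symm, e1⟩)), mul_zero]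
      · rw [pe_ne (Ne.symm e1), zero_mul]
    rw [h1, h2, add_zero, mul_zero]

/-! ### Recognition -/

/-- An element of the overgroup moving every coordinate sign as an affine permutation does is monomial. -/
theorem mon_of_conj (h2 : (2 : F) ≠ 0) (hM : Base M) {g : GL (Pt k) F} (hg : g ∈ M) {π : Equiv.Perm (Pt k)}
    (hπ : AffPerm π) (h : ∀ i, g * sd F (ip (pe i)) * g⁻¹ = sd F (fun y => (π.symm y) i)) :
    ∃ f, g = mon F π f := by
  set y := (pm F π)⁻¹ * g with hy
  have hyM : y ∈ M := M.mul_mem (M.inv_mem (hM.aff π hπ)) hg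
  have hcomm : ∀ i, y * sd F (ip (pe i)) = sd F (ip (pe i)) * y := fun i => by
    refine mul_inv_eq_iff_eq_mul.1 ?_
    rw [hy, show (pm F π)⁻¹ * g * sd F (ip (pe i)) * ((pm F π)⁻¹ * g)⁻¹ =
      (pm F π)⁻¹ * (g * sd F (ip (pe i)) * g⁻¹) * pm F π by group, h, mul_assoc, inv_mul_eq_iff_eq_mul, pm_sd]
    congr 2
    funext z
    simp [ip_pe]
  have hd : ∀ x z, x ≠ z → (y : Matrix (Pt k) (Pt k) F) x z = 0 := by
    intro x z hxz
    obtain ⟨i, hi⟩ := Function.ne_iff.1 hxz
    exact entry_zero h2 (hcomm i) (by simpa [ip_pe] using hi)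
  have hval : (y : Matrix (Pt k) (Pt k) F) = Matrix.diagonal fun x => (y : Matrix (Pt k) (Pt k) F) x x := by
    ext x z
    by_cases hxz : x = z
    · subst hxz; simp
    · rw [hd x z hxz, Matrix.diagonal_apply_ne _ hxz]
  have hiso := hM.iso y hyM
  rw [hval, Matrix.diagonal_transpose, Matrix.diagonal_mul_diagonal] at hiso
  have hsq : ∀ x, (y : Matrix (Pt k) (Pt k) F) x x = 1 ∨ (y : Matrix (Pt k) (Pt k) F) x x = -1 := fun x => by
    have := congrFun (congrFun hiso x) x
    rw [Matrix.diagonal_apply_eq, Matrix.one_apply_eq] at this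
    exact mul_self_eq_one_iff.1 this
  classical
  refine ⟨fun x => if (y : Matrix (Pt k) (Pt k) F) x x = 1 then 0 else 1, ?_⟩
  have hy' : y = sd F (fun x => if (y : Matrix (Pt k) (Pt k) F) x x = 1 then 0 else 1) := Units.ext (by
    rw [sd_apply]
    refine hval.trans ?_
    congr 1
    funext x
    by_cases hx : (y : Matrix (Pt k) (Pt k) F) x x = 1
    · rw [if_pos hx, hx, sgn_zero]
    · rw [if_neg hx, sgn_one, (hsq x).resolve_left hx])
  rw [mon, ← hy', hy, mul_inv_cancel_left]

/-- Commuting with all coordinate signs. -/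
theorem sd_of_comm (h2 : (2 : F) ≠ 0) (hM : Base M) {g : GL (Pt k) F} (hg : g ∈ M)
    (h : ∀ i, g * sd F (ip (pe i)) = sd F (ip (pe i)) * g) : ∃ f, g = sd F f := by
  obtain ⟨f, hf⟩ := mon_of_conj h2 hM hg (π := 1) (fun x y z => rfl) fun i => by
    rw [h, mul_inv_cancel_right]
    exact congrArg _ (funext fun y => by rw [ip_pe]; rfl)
  exact ⟨f, by rw [hf, mon_one_left]⟩

/-- It suffices to map the generators to Pauli elements. -/
theorem nr_of_gens {g : GL (Pt k) F} (hx : ∀ i, ∃ a' b', CP g (pe i) 0 a' b')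
    (hz : ∀ i, ∃ a' b', CP g 0 (pe i) a' b') : Nr g := by
  classical
  refine nr_iff.2 fun a b => ?_
  have gen : ∀ (A : Finset (Fin k)), ∃ a' b', CP g (∑ i ∈ A, a i • pe i) (∑ i ∈ A, b i • pe i) a' b' := by
    intro A
    induction A using Finset.induction_on with
    | empty => exact ⟨0, 0, 0, by simp [pau_zero, sd_const_zero]⟩
    | @insert i A hi ih =>
      obtain ⟨a1, b1, h1⟩ : ∃ a' b', CP g (a i • pe i) (b i • pe i) a' b' := by
        rcases zm_cases (a i) with ha | ha <;> rcases zm_cases (b i) with hb | hb <;>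
          rw [ha, hb] <;> simp only [zero_smul, one_smul]
        · exact ⟨0, 0, 0, by simp [pau_zero, sd_const_zero]⟩
        · exact hz i
        · exact hx i
        · obtain ⟨a1, b1, h1⟩ := hx i
          obtain ⟨a2, b2, h2⟩ := hz i
          exact ⟨_, _, by simpa using h1.add h2⟩
      obtain ⟨a2, b2, h2⟩ := ih
      rw [Finset.sum_insert hi, Finset.sum_insert hi]
      exact ⟨_, _, h1.add h2⟩
  have e : ∀ c : Pt k, ∑ i, c i • pe i = c := fun c => funext fun j => by
    simp [Finset.sum_apply, pe, Pi.single_apply]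
  simpa only [e] using gen Finset.univ

theorem nr_quad {f : Pt k → ZMod 2} (hf : Quad f) : Nr (sd F f) := by
  refine nr_iff.2 fun a b => ?_
  obtain ⟨c, l, h⟩ := aff_eq (hf.dl_aff a)
  refine ⟨a, b + l, c, ?_⟩
  rw [sd_inv, pau_eq, pau_eq, ← mon_one_left f, mon_mul, mon_mul, ← mon_one_left, mon_mul]
  congr 1
  funext y
  have h' := congrFun h y
  simp only [dl_apply] at h'
  simp only [Equiv.Perm.one_apply, Equiv.coe_addRight, ip_add_left]
  grind

end Cfsg.Agent.C6Plus10
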