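import Cfsg.Agent.Lib.C6Cplx84Defs
import Cfsg.Agent.Lib.C6Plus10Ctl
import Cfsg.Agent.Lib.C6Plus10BlockPGL

/-!
The level of two-by-two blocks of an overgroup of the normaliser of complex type in dimension eight:
if every diagonal element normalises, so does every element centralising two coordinate signs.
-/

set_option autoImplicit false
set_option linter.unusedSectionVars false

namespace Cfsg.Agent.C6Cplx84

open Matrix Cfsg.Agent.C6Plus10
open scoped MatrixGroups
open Matrix.ProjGenLinGroup (mk)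

namespace Base42

variable {F : Type*} [Field F]

/-! ### The normaliser -/

theorem two_scalars {k : ℕ} {i : Fˣ} (hi : (i : F) * i = -1) (c : ZMod 2) :
    sd F (fun _ : Pt k => c) = C6Cplx52.sc (Pt k) (i ^ (2 * c.val)) := by
  refine Units.ext ?_
  rw [sd_apply, C6Cplx52.sc_val, Matrix.smul_one_eq_diagonal]
  congr 1
  funext _
  rcases zm_cases c with rfl | rfl
  · simp
  · simp [sgn_one, ZMod.val_one, pow_two, hi]

theorem nr_of_real {k : ℕ} {i : Fˣ} (hi : (i : F) * i = -1) {g : GL (Pt k) F} (h : C6Plus10.Nr g) :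
    C6Cplx52.Nr i g := fun a b => by
  obtain ⟨a', b', c, hc⟩ := h a b
  exact ⟨a', b', 2 * c.val, by rw [hc, two_scalars hi]⟩

theorem nr_one' {k : ℕ} (i : Fˣ) : C6Cplx52.Nr i (1 : GL (Pt k) F) := fun a b => ⟨a, b, 0, by simp⟩

theorem nr_mul' {k : ℕ} {i : Fˣ} {g h : GL (Pt k) F} (hg : C6Cplx52.Nr i g) (hh : C6Cplx52.Nr i h) :
    C6Cplx52.Nr i (g * h) := fun a b => by
  obtain ⟨a1, b1, c1, e1⟩ := hh a b
  obtain ⟨a2, b2, c2, e2⟩ := hg a1 b1
  refine ⟨a2, b2, c1 + c2, ?_⟩
  rw [pow_add, map_mul]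
  calc g * h * pau F a b * (g * h)⁻¹ = g * (h * pau F a b * h⁻¹) * g⁻¹ := by group
    _ = C6Cplx52.sc (Pt k) (i ^ c1) * (g * pau F a1 b1 * g⁻¹) := by
        rw [e1, C6Cplx52.sc_pull]; group
    _ = _ := by rw [e2, mul_assoc]

theorem mul_pau_apply {k : ℕ} (A : Matrix (Pt k) (Pt k) F) (a b x y : Pt k) :
    (A * (pau F a b : Matrix (Pt k) (Pt k) F)) x y = A x (y + a) * sgn F (ip b y) := by
  rw [pau_eq, Matrix.mul_apply, Finset.sum_eq_single (y + a)]
  · rw [mon_apply, Equiv.coe_addRight, if_pos rfl]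
  · intro z _ hz
    rw [mon_apply, Equiv.coe_addRight, if_neg hz, mul_zero]
  · simp

theorem pau_mul_apply {k : ℕ} (A : Matrix (Pt k) (Pt k) F) (a b x y : Pt k) :
    ((pau F a b : Matrix (Pt k) (Pt k) F) * A) x y = sgn F (ip b (x + a)) * A (x + a) y := by
  rw [pau_eq, Matrix.mul_apply, Finset.sum_eq_single (x + a)]
  · rw [mon_apply, Equiv.coe_addRight, if_pos (pt_add_cancel x a).symm]
  · intro z _ hz
    rw [mon_apply, Equiv.coe_addRight, if_neg (fun e => hz (by rw [e, pt_add_cancel])), zero_mul]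
  · simp

/-! ### The blocks -/

/-- The labels of the blocks. -/
abbrev Blk : Type := ZMod 2 × ZMod 2

/-- The point with the given block and place in it. -/
def pt (d : Blk) (s : Fin 2) : Pt 3 := ![d.1, d.2, (s.val : ZMod 2)]

noncomputable def ptEquiv : Blk × Fin 2 ≃ Pt 3 :=
  Equiv.ofBijective (fun q => pt q.1 q.2) (by decide)

theorem ptEquiv_apply (d : Blk) (s : Fin 2) : ptEquiv (d, s) = pt d s := rfl

theorem exists_pt (x : Pt 3) : ∃ d s, x = pt d s :=
  ⟨(ptEquiv.symm x).1, (ptEquiv.symm x).2, (ptEquiv.apply_symm_apply x).symm⟩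

/-- No entries between different blocks. -/
def Dia (A : Matrix (Pt 3) (Pt 3) F) : Prop := ∀ d e s t, d ≠ e → A (pt d s) (pt e t) = 0

/-- A block. -/
def blk (A : Matrix (Pt 3) (Pt 3) F) (d : Blk) : Matrix (Fin 2) (Fin 2) F :=
  Matrix.of fun s t => A (pt d s) (pt d t)

theorem blk_apply (A : Matrix (Pt 3) (Pt 3) F) (d : Blk) (s t : Fin 2) : blk A d s t = A (pt d s) (pt d t) := rfl

theorem blk_one (d : Blk) : blk (1 : Matrix (Pt 3) (Pt 3) F) d = 1 := by
  ext s t
  have h : pt d s = pt d t ↔ s = t :=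
    ⟨fun e => (Prod.ext_iff.1 (ptEquiv.injective (a₁ := (d, s)) (a₂ := (d, t)) e)).2, fun e => by rw [e]⟩
  simp only [blk_apply, Matrix.one_apply, h]

theorem blk_mul {A B : Matrix (Pt 3) (Pt 3) F} (hA : Dia A) (d : Blk) : blk (A * B) d = blk A d * blk B d := by
  ext s t
  rw [blk_apply, Matrix.mul_apply, Matrix.mul_apply, ← Equiv.sum_comp ptEquiv, Fintype.sum_prod_type,
    Finset.sum_eq_single d]
  · rfl
  · intro e _ he
    refine Finset.sum_eq_zero fun r _ => ?_
    rw [ptEquiv_apply, hA d e s r (Ne.symm he), zero_mul]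
  · simp

variable {M : Subgroup (GL (Pt 3) F)}

theorem dia_of_lev (h2 : (2 : F) ≠ 0) {g : GL (Pt 3) F} (hg : g ∈ Lev M {0, 1}) :
    Dia (g : Matrix (Pt 3) (Pt 3) F) := by
  intro d e s t hde
  obtain ⟨a, ha, hne⟩ : ∃ a ∈ ({0, 1} : Finset (Fin 3)), pt d s a ≠ pt e t a := by
    by_contra! h
    exact hde (Prod.ext (h 0 (by simp)) (h 1 (by simp)))
  refine entry_zero h2 ((mem_Lev.1 hg).2 a ha) ?_
  change ip (pe a) (pt d s) ≠ ip (pe a) (pt e t)
  rwa [ip_pe, ip_pe]

theorem lev_of_dia {g : GL (Pt 3) F} (hg : g ∈ M) (h : Dia (g : Matrix (Pt 3) (Pt 3) F)) : g ∈ Lev M {0, 1} := by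
  refine mem_Lev.2 ⟨hg, fun a ha => Units.ext (Matrix.ext fun x y => ?_)⟩
  obtain ⟨d, s, rfl⟩ := exists_pt x
  obtain ⟨e, t, rfl⟩ := exists_pt y
  simp only [Units.val_mul, sd_apply, Matrix.mul_diagonal, Matrix.diagonal_mul]
  by_cases hde : d = e
  · subst hde
    rw [mul_comm]
    have : ip (pe a) (pt d s) = ip (pe a) (pt d t) := by
      simp only [ip_pe]
      rcases Finset.mem_insert.1 ha with rfl | ha
      · rfl
      · rw [Finset.mem_singleton.1 ha]; rfl
    change sgn F (ip (pe a) (pt d t)) * _ = sgn F (ip (pe a) (pt d s)) * _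
    rw [this]
  · rw [h d e s t hde, mul_zero, zero_mul]

/-- The classes of the blocks. -/
noncomputable def cls (h2 : (2 : F) ≠ 0) (M : Subgroup (GL (Pt 3) F)) :
    ↥(Lev M {0, 1}) →* (Blk → ProjGenLinGroup (Fin 2) F) :=
  MonoidHom.mk' (fun g d => mk
    { val := blk ((g : GL (Pt 3) F) : Matrix (Pt 3) (Pt 3) F) d
      inv := blk ((((g : GL (Pt 3) F))⁻¹ : GL (Pt 3) F) : Matrix (Pt 3) (Pt 3) F) d
      val_inv := by rw [← blk_mul (dia_of_lev h2 g.2), ← Units.val_mul, mul_inv_cancel, Units.val_one, blk_one]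
      inv_val := by
        rw [← blk_mul (dia_of_lev h2 (inv_mem g.2)), ← Units.val_mul, inv_mul_cancel, Units.val_one, blk_one] })
    fun g h => funext fun d => by
      rw [Pi.mul_apply, ← map_mul]
      exact congrArg mk (Units.ext (blk_mul (dia_of_lev h2 g.2) d))

theorem cls_of_blk (h2 : (2 : F) ≠ 0) {g : ↥(Lev M {0, 1})} {d : Blk} {T : GL (Fin 2) F} {c : F} (hc : c ≠ 0)
    (h : blk ((g : GL (Pt 3) F) : Matrix (Pt 3) (Pt 3) F) d = c • (T : Matrix (Fin 2) (Fin 2) F)) :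
    cls h2 M g d = mk T :=
  (mk_ext_smul hc h).symm

/-- A pattern: a value on the blocks where an affine function is one. -/
def pat {P : Type*} [Group P] (v : P) (q : ZMod 2 × ZMod 2 × ZMod 2) : Blk → P :=
  fun d => if q.1 * d.1 + q.2.1 * d.2 + q.2.2 = 1 then v else 1

theorem pat_mul {P : Type*} [Group P] (v w : P) (q : ZMod 2 × ZMod 2 × ZMod 2) :
    pat (v * w) q = pat v q * pat w q := funext fun d => by
  simp only [pat, Pi.mul_apply]
  split_ifs <;> simp

theorem pat_const {P : Type*} [Group P] (v : P) : pat v (0, 0, 1) = fun _ => v := funext fun d => by simp [pat]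

theorem half (b b' : Blk) (h : b ≠ b') : ∃ q : ZMod 2 × ZMod 2 × ZMod 2,
    ∀ d : Blk, q.1 * d.1 + q.2.1 * d.2 + q.2.2 = 1 ↔ d = b ∨ d = b' := by
  revert b b' h
  decide

theorem third (b b' : Blk) : ∃ c : Blk, c ≠ b ∧ c ≠ b' := by
  revert b b'
  decide

/-- The half-pattern is monomial. -/
theorem tr_pt : ∀ (q : ZMod 2 × ZMod 2 × ZMod 2) (d : Blk) (t : Fin 2),
    pt d t + ((ip ![q.1, q.2.1, 0] (pt d t) + q.2.2) • pe 2) =
      pt d (if q.1 * d.1 + q.2.1 * d.2 + q.2.2 = 1 then 1 - t else t) := by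
  unfold ip pe
  decide

theorem pt_inj {d e : Blk} {s t : Fin 2} (h : pt d s = pt e t) : d = e ∧ s = t :=
  Prod.ext_iff.1 (ptEquiv.injective (a₁ := (d, s)) (a₂ := (e, t)) h)

variable (h2 : (2 : F) ≠ 0) {i : Fˣ} (hi : (i : F) * i = -1) (hM : C6Cplx52.BaseC i M)
include h2 hi hM

/-- The classes of the elements of the level normalising the group of complex type. -/
def Good (φ : Blk → ProjGenLinGroup (Fin 2) F) : Prop :=
  ∃ g : ↥(Lev M {0, 1}), C6Cplx52.Nr i (g : GL (Pt 3) F) ∧ cls h2 M g = φ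

theorem good_mul {φ ψ : Blk → ProjGenLinGroup (Fin 2) F} (hφ : Good h2 (M := M) (i := i) φ)
    (hψ : Good h2 (M := M) (i := i) ψ) : Good h2 (M := M) (i := i) (φ * ψ) := by
  obtain ⟨g, hg, rfl⟩ := hφ
  obtain ⟨g', hg', rfl⟩ := hψ
  exact ⟨g * g', nr_mul' hg hg', map_mul _ g g'⟩

variable {z x hd s : GL (Fin 2) F} (hz : (z : Matrix (Fin 2) (Fin 2) F) = !![1, 0; 0, -1])
  (hx : (x : Matrix (Fin 2) (Fin 2) F) = !![0, 1; 1, 0]) (hh : (hd : Matrix (Fin 2) (Fin 2) F) = !![1, 1; 1, -1])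
  (hs : (s : Matrix (Fin 2) (Fin 2) F) = !![1, 0; 0, (i : F)])

include hz in
theorem good_z (q : ZMod 2 × ZMod 2 × ZMod 2) : Good h2 (M := M) (i := i) (pat (mk z) q) := by
  set f : Pt 3 → ZMod 2 := fun y => (ip ![q.1, q.2.1, 0] y + q.2.2) * ip (pe 2) y with hf
  have hq : Quad f := ((aff_ip _).add (aff_const _)).mul (aff_ip _)
  have hdia : Dia ((sd F f : GL (Pt 3) F) : Matrix (Pt 3) (Pt 3) F) := fun d e a b hde => by
    rw [sd_apply, Matrix.diagonal_apply_ne _ fun e' => hde (pt_inj e').1]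
  refine ⟨⟨sd F f, lev_of_dia (hM.quad f hq) hdia⟩, nr_of_real hi (nr_quad hq), funext fun d => ?_⟩
  have hval : ∀ a : Fin 2, f (pt d a) = (q.1 * d.1 + q.2.1 * d.2 + q.2.2) * (a.val : ZMod 2) := by
    intro a
    simp only [hf, ip_pe, pt]
    simp [ip, dotProduct, Fin.sum_univ_three]
  have hb : blk ((sd F f : GL (Pt 3) F) : Matrix (Pt 3) (Pt 3) F) d =
      !![1, 0; 0, sgn F (q.1 * d.1 + q.2.1 * d.2 + q.2.2)] := by
    ext a b
    rw [blk_apply, sd_apply, Matrix.diagonal_apply]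
    by_cases hab : a = b
    · subst hab
      rw [if_pos rfl, hval]
      fin_cases a <;> simp
    · rw [if_neg fun e' => hab (pt_inj e').2]
      fin_cases a <;> fin_cases b <;> simp_all
  by_cases he : q.1 * d.1 + q.2.1 * d.2 + q.2.2 = 1
  · rw [pat, if_pos he]
    exact cls_of_blk h2 one_ne_zero (by rw [one_smul, hb, he, sgn_one, hz])
  · rw [pat, if_neg he, ← map_one (mk (n := Fin 2) (R := F))]
    refine cls_of_blk h2 one_ne_zero (hb.trans ?_)
    rw [(zm_cases _).resolve_right he, sgn_zero, one_smul, Units.val_one, Matrix.one_fin_two]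

include hx in
theorem good_x (q : ZMod 2 × ZMod 2 × ZMod 2) : Good h2 (M := M) (i := i) (pat (mk x) q) := by
  have h0 : ip ![q.1, q.2.1, 0] (pe (2 : Fin 3)) = 0 := by rw [ip_pe_right]; rfl
  set π := trP (pe (2 : Fin 3)) ![q.1, q.2.1, 0] q.2.2 h0 with hπ
  have hπa : ∀ d t, π (pt d t) = pt d (if q.1 * d.1 + q.2.1 * d.2 + q.2.2 = 1 then 1 - t else t) := fun d t => by
    rw [hπ, trP_apply]
    exact tr_pt q d t
  have hdia : Dia ((pm F π : GL (Pt 3) F) : Matrix (Pt 3) (Pt 3) F) := fun d e a b hde => by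
    rw [pm_apply, if_neg fun e' => hde ?_]
    rw [hπa] at e'
    exact (pt_inj e').1
  refine ⟨⟨pm F π, lev_of_dia (hM.aff π (affPerm_trP _ _ _ _)) hdia⟩, nr_of_real hi (nr_tr _ _ _ _), funext fun d => ?_⟩
  have hb : ∀ a b : Fin 2, blk ((pm F π : GL (Pt 3) F) : Matrix (Pt 3) (Pt 3) F) d a b =
      if a = (if q.1 * d.1 + q.2.1 * d.2 + q.2.2 = 1 then 1 - b else b) then 1 else 0 := fun a b => by
    rw [blk_apply, pm_apply, hπa]
    exact if_congr ⟨fun e => (pt_inj e).2, fun e => by rw [e]⟩ rfl rfl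
  by_cases he : q.1 * d.1 + q.2.1 * d.2 + q.2.2 = 1
  · rw [pat, if_pos he]
    refine cls_of_blk h2 one_ne_zero ?_
    ext a b
    rw [hb, if_pos he, one_smul, hx]
    fin_cases a <;> fin_cases b <;> simp
  · rw [pat, if_neg he, ← map_one (mk (n := Fin 2) (R := F))]
    refine cls_of_blk h2 one_ne_zero ?_
    ext a b
    rw [hb, if_neg he, one_smul, Units.val_one, Matrix.one_apply]

include hs in
theorem good_s : Good h2 (M := M) (i := i) (fun _ => mk s) := by
  set g : GL (Pt 3) F := C6Cplx52.ph i (ip (pe 2)) with hg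
  have hval : (g : Matrix (Pt 3) (Pt 3) F) =
      Matrix.diagonal fun y => ((i ^ (ip (pe 2) y).val : Fˣ) : F) := rfl
  have hdia : Dia (g : Matrix (Pt 3) (Pt 3) F) := fun d e a b hde => by
    rw [hval, Matrix.diagonal_apply_ne _ fun e' => hde (pt_inj e').1]
  refine ⟨⟨g, lev_of_dia (hM.phase _ (aff_ip _)) hdia⟩, fun a b => ⟨a, b + a 2 • pe 2, (a 2).val, ?_⟩, funext fun d => ?_⟩
  · show g * pau F a b * g⁻¹ = _
    rw [mul_inv_eq_iff_eq_mul]
    refine Units.ext (Matrix.ext fun u v => ?_)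
    rw [Units.val_mul, Units.val_mul, Units.val_mul, C6Cplx52.sc_val, smul_one_mul, Matrix.smul_mul, Matrix.smul_apply, mul_pau_apply,
      pau_mul_apply, hval, smul_eq_mul]
    by_cases huv : u = v + a
    · subst huv
      rw [Matrix.diagonal_apply_eq, pt_add_cancel, Matrix.diagonal_apply_eq]
      simp only [ip_pe, ip_add_left, ip_smul_left, Pi.add_apply, sgn_add]
      rcases zm_cases (a 2) with ha | ha <;> rcases zm_cases (v 2) with hv | hv <;>
        simp only [ha, hv, zero_mul, one_mul, add_zero, zero_add, mul_zero, mul_one, sgn_zero, sgn_one, ZMod.val_zero,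
          ZMod.val_one, CharTwo.add_self_eq_zero, pow_zero, pow_one, Units.val_one]
      · ring
      · linear_combination (sgn F (ip b v)) * hi
    · rw [Matrix.diagonal_apply_ne _ huv,
        Matrix.diagonal_apply_ne _ (fun e : u + a = v => huv (by rw [← e, pt_add_cancel]))]
      simp
  · refine cls_of_blk h2 one_ne_zero ?_
    ext a b
    rw [blk_apply, hval, one_smul, hs, Matrix.diagonal_apply]
    by_cases hab : a = b
    · subst hab
      rw [if_pos rfl]
      fin_cases a <;> simp [ip_pe, pt, ZMod.val_one]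
    · rw [if_neg fun e' => hab (pt_inj e').2]
      fin_cases a <;> fin_cases b <;> simp_all

include hh in
theorem good_h : Good h2 (M := M) (i := i) (fun _ => mk hd) := by
  obtain ⟨u, hu, hval⟩ := hM.had 2
  set κ : F := (1 + (i : F)) * (2 : F)⁻¹
  have hκ : κ ≠ 0 := by
    refine mul_ne_zero (fun e => h2 ?_) (inv_ne_zero h2)
    linear_combination ((1 : F) - i) * e + hi
  have hv : ∀ y y' : Pt 3, (u : Matrix (Pt 3) (Pt 3) F) y y' =
      if ∀ j, j ≠ 2 → y j = y' j then κ * sgn F (y 2 * y' 2) else 0 := fun y y' => by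
    rw [hval, Matrix.smul_apply, Matrix.of_apply, smul_eq_mul, mul_ite, mul_zero]
  have hdia : Dia (u : Matrix (Pt 3) (Pt 3) F) := fun d e a b hde => by
    rw [hv, if_neg fun h => hde (Prod.ext (h 0 (by decide)) (h 1 (by decide)))]
  refine ⟨⟨u, lev_of_dia hu hdia⟩, fun a b =>
    ⟨Function.update a 2 (b 2), Function.update b 2 (a 2), 2 * (a 2 * b 2).val, ?_⟩, funext fun d => ?_⟩
  · show u * pau F a b * u⁻¹ = _
    rw [mul_inv_eq_iff_eq_mul, ← two_scalars hi]
    refine Units.ext (Matrix.ext fun y v => ?_)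
    rw [Units.val_mul, Units.val_mul, Units.val_mul, sd_apply, Matrix.mul_assoc, Matrix.diagonal_mul, mul_pau_apply,
      pau_mul_apply, hv, hv]
    have hc : (∀ j, j ≠ 2 → y j = (v + a) j) ↔ ∀ j, j ≠ 2 → (y + Function.update a 2 (b 2)) j = v j := by
      refine forall_congr' fun j => imp_congr_right fun hj => ?_
      rw [Pi.add_apply, Pi.add_apply, Function.update_of_ne hj]
      generalize y j = p, v j = r, a j = l
      revert p r l
      decide
    by_cases h : ∀ j, j ≠ 2 → y j = (v + a) j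
    · rw [if_pos h, if_pos (hc.1 h)]
      have e0 := h 0 (by decide)
      have e1 := h 1 (by decide)
      simp only [Pi.add_apply] at e0 e1
      simp only [ip, dotProduct, Fin.sum_univ_three, Pi.add_apply, Function.update_self,
        Function.update_of_ne (show (0 : Fin 3) ≠ 2 by decide), Function.update_of_ne (show (1 : Fin 3) ≠ 2 by decide),
        e0, e1]
      rw [mul_assoc, ← sgn_add]; simp only [mul_left_comm (sgn F _) κ, ← sgn_add]
      congr 2
      grind
    · rw [if_neg h, if_neg (fun h' => h (hc.2 h'))]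
      simp
  · refine cls_of_blk h2 hκ ?_
    ext a b
    rw [blk_apply, hv, if_pos, Matrix.smul_apply, hh, smul_eq_mul]
    · fin_cases a <;> fin_cases b <;> simp [pt, sgn_one]
    · intro j hj
      fin_cases j <;> simp_all [pt]


omit h2 hi hM

/-- An element without entries off the diagonal of its blocks is diagonal. -/
theorem eq_dg {g : GL (Pt 3) F} (h : ∀ u v, u ≠ v → (g : Matrix (Pt 3) (Pt 3) F) u v = 0) :
    ∃ f : Pt 3 → Fˣ, g = dg f ∧ ∀ u, (f u : F) = (g : Matrix (Pt 3) (Pt 3) F) u u := by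
  have hne : ∀ u, (g : Matrix (Pt 3) (Pt 3) F) u u ≠ 0 := fun u e => by
    have h1 : ((g * g⁻¹ : GL (Pt 3) F) : Matrix (Pt 3) (Pt 3) F) u u = 1 := by
      rw [mul_inv_cancel, Units.val_one, Matrix.one_apply_eq]
    rw [Units.val_mul, Matrix.mul_apply, Finset.sum_eq_single u (fun w _ hw => by rw [h u w hw.symm, zero_mul])
      (by simp), e, zero_mul] at h1
    exact zero_ne_one h1
  refine ⟨fun u => Units.mk0 _ (hne u), Units.ext (Matrix.ext fun u v => ?_), fun u => rfl⟩
  rw [dg_val, Matrix.diagonal_apply]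
  by_cases huv : u = v
  · subst huv; rw [if_pos rfl, Units.val_mk0]
  · rw [if_neg huv, h u v huv]

include h2 hi hM

include hz in
/-- No diagonal element has the sign ratio at one block only. -/
theorem not_single (hD : DiagN i M) (g : ↥(Lev M {0, 1})) (b : Blk) (hb : cls h2 M g b = mk z)
    (hoff : ∀ d, d ≠ b → cls h2 M g d = 1) : False := by
  set A := ((g : GL (Pt 3) F) : Matrix (Pt 3) (Pt 3) F) with hA
  have hv : ∀ d, ∃ c : F, c ≠ 0 ∧ blk A d = c • !![1, 0; 0, if d = b then -1 else 1] := by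
    intro d
    by_cases hd' : d = b
    · subst hd'
      obtain ⟨c, hc, e⟩ := exists_smul_of_mk (g := z) hb.symm
      exact ⟨c, hc, by rw [if_pos rfl, ← hz]; exact e⟩
    · obtain ⟨c, hc, e⟩ := exists_smul_of_mk (g := (1 : GL (Fin 2) F)) (g' := _)
        ((map_one (mk (n := Fin 2) (R := F))).trans (hoff d hd').symm)
      exact ⟨c, hc, by rw [if_neg hd', ← Matrix.one_fin_two, ← Units.val_one]; exact e⟩
  choose c hc hcv using hv
  have hent : ∀ d s t, A (pt d s) (pt d t) = c d * !![1, 0; 0, if d = b then (-1 : F) else 1] s t := fun d s t => by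
    have := congrFun (congrFun (hcv d) s) t
    rwa [Matrix.smul_apply, smul_eq_mul] at this
  have hdiag : ∀ u v, u ≠ v → A u v = 0 := by
    intro u v huv
    obtain ⟨d, s, rfl⟩ := exists_pt u
    obtain ⟨e, t, rfl⟩ := exists_pt v
    by_cases hde : d = e
    · subst hde
      rw [hent]
      fin_cases s <;> fin_cases t <;> simp_all
    · exact dia_of_lev h2 g.2 d e s t hde
  obtain ⟨f, hf, -⟩ := eq_dg hdiag
  have hn := hD f (hf ▸ (mem_Lev.1 g.2).1)
  rw [← hf] at hn
  obtain ⟨a', b', n, e⟩ := hn (pe 2) 0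
  have e' := mul_inv_eq_iff_eq_mul.1 e
  have key : ∀ u, A u u = (i : F) ^ n * sgn F (ip b' (u + a')) * A (u + a') (u + pe 2) := fun u => by
    have := congrFun (congrFun (congrArg (fun w : GL (Pt 3) F => (w : Matrix (Pt 3) (Pt 3) F)) e') u) (u + pe 2)
    simp only [Units.val_mul, C6Cplx52.sc_val, smul_one_mul, Matrix.smul_mul, Matrix.smul_apply, mul_pau_apply,
      pau_mul_apply, smul_eq_mul, ← hA] at this
    rw [pt_add_cancel, show ip (0 : Pt 3) (u + pe 2) = 0 from zero_dotProduct _, sgn_zero, mul_one] at this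
    rw [this, Units.val_pow_eq_pow_val, mul_assoc]
  have ha : a' = pe 2 := by
    by_contra hne
    have h0 := key (pt (0, 0) 0)
    rw [hdiag (pt (0, 0) 0 + a') _ fun e => hne (add_left_cancel e), mul_zero, hent] at h0
    simp [hc] at h0
  subst ha
  set κ : F := (i : F) ^ n with hκ
  have hκ4 : κ ^ 4 = 1 := by
    rw [hκ, ← pow_mul, mul_comm, pow_mul, show (i : F) ^ 4 = 1 by linear_combination ((i : F) * i - 1) * hi, one_pow]
  have hshift : ∀ d : Blk, pt d 0 + pe 2 = pt d 1 := by unfold pe; decide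
  have hstep : ∀ d : Blk, κ * sgn F (ip b' (pt d 1)) * (if d = b then (-1 : F) else 1) = 1 := fun d => by
    have h1 := key (pt d 0)
    rw [hshift, hent, hent] at h1
    simp only [Matrix.of_apply, Matrix.cons_val', Matrix.cons_val_zero, Matrix.cons_val_one, Matrix.empty_val',
      Matrix.cons_val_fin_one, mul_one] at h1
    exact (mul_left_eq_self₀.1 (show κ * sgn F (ip b' (pt d 1)) * (if d = b then (-1 : F) else 1) * c d = c d by
      linear_combination -h1)).resolve_right (hc d)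
  have hsum : ∀ v : Pt 3, (∑ d : Blk, ip v (pt d 1)) = 0 := by unfold ip; decide
  have hprod : ∏ d : Blk, κ * sgn F (ip b' (pt d 1)) * (if d = b then (-1 : F) else 1) = -1 := by
    rw [Finset.prod_mul_distrib, Finset.prod_mul_distrib, Finset.prod_const, Finset.prod_ite_eq' Finset.univ b
      (fun _ => (-1 : F)), if_pos (Finset.mem_univ b), show Finset.card (Finset.univ : Finset Blk) = 4 from rfl, hκ4,
      one_mul]
    rw [show ∏ d : Blk, sgn F (ip b' (pt d 1)) = sgn F (∑ d : Blk, ip b' (pt d 1)) from ?_, hsum, sgn_zero, one_mul]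
    refine Finset.induction_on (Finset.univ : Finset Blk) (by simp) fun d S hd' ih => ?_
    rw [Finset.prod_insert hd', Finset.sum_insert hd', sgn_add, ih]
  rw [Finset.prod_congr rfl fun d _ => hstep d, Finset.prod_const_one] at hprod
  exact h2 (by linear_combination hprod)

section Alg

/-- Conjugation relations moving the three involutions. -/
theorem rels (hz : (z : Matrix (Fin 2) (Fin 2) F) = !![1, 0; 0, -1])
    (hx : (x : Matrix (Fin 2) (Fin 2) F) = !![0, 1; 1, 0])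
    (hh : (hd : Matrix (Fin 2) (Fin 2) F) = !![1, 1; 1, -1])
    (hs : (s : Matrix (Fin 2) (Fin 2) F) = !![1, 0; 0, (i : F)]) :
    mk z * mk z = 1 ∧ mk x * mk x = 1 ∧ mk x * mk z = mk z * mk x ∧ mk hd * mk z = mk x * mk hd ∧
      mk hd * mk x = mk z * mk hd ∧ mk s * mk z = mk z * mk s ∧ mk s * mk x = mk z * mk x * mk s ∧
      mk s * (mk z * mk x) = mk x * mk s ∧ mk z ≠ 1 := by
  have hi0 : (i : F) ≠ 0 := i.ne_zero
  have hm1 : (-1 : F) ≠ 0 := neg_ne_zero.2 one_ne_zero
  refine ⟨?_, ?_, ?_, ?_, ?_, ?_, ?_, ?_, fun e => ?_⟩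
  · rw [← map_mul, ← map_one (mk (n := Fin 2) (R := F))]
    refine (mk_ext_smul (one_ne_zero (α := F)) ?_).symm
    rw [Units.val_mul, hz, Units.val_one, Matrix.one_fin_two]; simp [Matrix.mul_fin_two]
  · rw [← map_mul, ← map_one (mk (n := Fin 2) (R := F))]
    refine (mk_ext_smul (one_ne_zero (α := F)) ?_).symm
    rw [Units.val_mul, hx, Units.val_one, Matrix.one_fin_two]; simp [Matrix.mul_fin_two]
  · rw [← map_mul, ← map_mul]
    refine mk_ext_smul hm1 ?_
    rw [Units.val_mul, Units.val_mul, hz, hx]; simp [Matrix.mul_fin_two]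
  · rw [← map_mul, ← map_mul]
    refine mk_ext_smul (one_ne_zero (α := F)) ?_
    rw [Units.val_mul, Units.val_mul, hh, hz, hx]; simp [Matrix.mul_fin_two]
  · rw [← map_mul, ← map_mul]
    refine mk_ext_smul (one_ne_zero (α := F)) ?_
    rw [Units.val_mul, Units.val_mul, hh, hz, hx]; simp [Matrix.mul_fin_two]
  · rw [← map_mul, ← map_mul]
    refine mk_ext_smul (one_ne_zero (α := F)) ?_
    rw [Units.val_mul, Units.val_mul, hs, hz]; simp [Matrix.mul_fin_two]
  · rw [← map_mul, ← map_mul, ← map_mul]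
    refine mk_ext_smul (c := (i : F)) hi0 ?_
    rw [Units.val_mul, Units.val_mul, Units.val_mul, hs, hx, hz]
    simp only [Matrix.mul_fin_two]
    ext a b; fin_cases a <;> fin_cases b <;> simp <;> linear_combination -hi
  · rw [← map_mul, ← map_mul, ← map_mul]
    refine mk_ext_smul (c := (i : F)) hi0 ?_
    rw [Units.val_mul, Units.val_mul, Units.val_mul, hs, hx, hz]
    simp only [Matrix.mul_fin_two]
    ext a b; fin_cases a <;> fin_cases b <;> simp <;> linear_combination hi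
  · obtain ⟨c, -, hc⟩ := exists_smul_of_mk (g := (1 : GL (Fin 2) F)) (g' := z)
      ((map_one (mk (n := Fin 2) (R := F))).trans e.symm)
    rw [hz, Units.val_one] at hc
    have h00 := congrFun (congrFun hc 0) 0
    have h11 := congrFun (congrFun hc 1) 1
    simp at h00 h11
    exact h2 (by linear_combination h00 - h11)

end Alg

include hz hx hh hs

/-- Every class of the level comes from the normaliser. -/
theorem good_all [Finite F] (hD : DiagN i M) (g₀ : ↥(Lev M {0, 1})) : Good h2 (M := M) (i := i) (cls h2 M g₀) := by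
  classical
  obtain ⟨hzz, hxx, hxz, hhz, hhx, hsz, hsx, hszx, hz1⟩ := rels h2 hi hM hz hx hh hs
  set R := (cls h2 M).range with hR
  let G : Subgroup (Blk → ProjGenLinGroup (Fin 2) F) :=
    Subgroup.map (cls h2 M)
      { carrier := {g | C6Cplx52.Nr i (g : GL (Pt 3) F)}
        one_mem' := nr_one' i
        mul_mem' := fun hg hh => nr_mul' hg hh
        inv_mem' := fun {g} hg => by
          have hp : ∀ n : ℕ, C6Cplx52.Nr i ((g : GL (Pt 3) F) ^ n) := fun n => by
            induction n with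
            | zero => rw [pow_zero]; exact nr_one' i
            | succ n ih => rw [pow_succ]; exact nr_mul' ih hg
          show C6Cplx52.Nr i ((g : GL (Pt 3) F))⁻¹
          have e : ((g : GL (Pt 3) F))⁻¹ = (g : GL (Pt 3) F) ^ (orderOf (g : GL (Pt 3) F) - 1) :=
            inv_eq_of_mul_eq_one_right (by
              rw [← pow_succ', Nat.sub_add_cancel (orderOf_pos _), pow_orderOf_eq_one])
          exact e ▸ hp _ }
  have hGR : G ≤ R := by rintro φ ⟨g, -, rfl⟩; exact ⟨g, rfl⟩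
  have mem : ∀ {φ}, Good h2 (M := M) (i := i) φ → φ ∈ G := fun ⟨g, hg, e⟩ => ⟨g, hg, e⟩
  suffices hmain : ∀ φ ∈ R, φ ∈ G by
    obtain ⟨g, hg, e⟩ := hmain _ ⟨g₀, rfl⟩
    exact ⟨g, hg, e⟩
  have four : ∀ v : ProjGenLinGroup (Fin 2) F, v = 1 ∨ v = mk z ∨ v = mk x ∨ v = mk (z * x) →
      (∀ q, pat v q ∈ G) ∧ v * v = 1 ∧ v * mk z = mk z * v ∧ v * mk x = mk x * v := by
    have gz := fun q => mem (good_z h2 hi hM hz q)
    have gx := fun q => mem (good_x h2 hi hM hx q)
    rintro v (rfl | rfl | rfl | rfl)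
    · refine ⟨fun q => ?_, one_mul 1, by simp, by simp⟩
      rw [show pat (1 : ProjGenLinGroup (Fin 2) F) q = 1 from funext fun d => ite_self 1]
      exact one_mem G
    · exact ⟨gz, hzz, rfl, hxz.symm⟩
    · exact ⟨gx, hxx, hxz, rfl⟩
    · rw [map_mul]
      refine ⟨fun q => ?_, ?_, ?_, ?_⟩
      · rw [pat_mul]; exact mul_mem (gz q) (gx q)
      · rw [mul_assoc, ← mul_assoc (mk x), hxz, mul_assoc (mk z) (mk x), hxx, mul_one, hzz]
      · rw [mul_assoc, hxz]
      · rw [← mul_assoc (mk x), hxz]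
  have cz : (fun _ => mk z) ∈ G := pat_const (mk z) ▸ mem (good_z h2 hi hM hz _)
  have cx : (fun _ => mk x) ∈ G := pat_const (mk x) ▸ mem (good_x h2 hi hM hx _)
  have ch := mem (good_h h2 hi hM hh)
  have cs := mem (good_s h2 hi hM hs)
  have conjq : ∀ {a v w : ProjGenLinGroup (Fin 2) F}, a * v = w * a → a * v * a⁻¹ = w := fun h => by
    rw [h, mul_inv_cancel_right]
  -- one block
  have one_blk : ∀ φ ∈ R, ∀ b, (∀ d, d ≠ b → φ d = 1) → φ b = 1 := by
    intro φ hφ b hoff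
    let ι := MonoidHom.mulSingle (fun _ : Blk => ProjGenLinGroup (Fin 2) F) b
    have hι : φ = ι (φ b) := funext fun d => by
      by_cases hd' : d = b
      · subst hd'; simp [ι]
      · simp [ι, hd', hoff d hd']
    let W := R.comap ι
    by_contra hne
    have hW : W ≠ ⊥ := fun e => hne ((Subgroup.eq_bot_iff_forall W).1 e _ (show ι (φ b) ∈ R from hι ▸ hφ))
    have nrm : ∀ m, (fun _ => m) ∈ G → ∀ w ∈ W, m * w * m⁻¹ ∈ W := by
      intro m hm w hw
      have e : ι (m * w * m⁻¹) = (fun _ => m) * ι w * (fun _ => m)⁻¹ := funext fun d => by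
        by_cases hd' : d = b
        · subst hd'; simp [ι]
        · simp [ι, hd']
      show ι (m * w * m⁻¹) ∈ R
      rw [e]
      exact mul_mem (mul_mem (hGR hm) hw) (inv_mem (hGR hm))
    letI := Fintype.ofFinite F
    obtain ⟨t, ht, -, -, -, htc⟩ :=
      fixed_of_normalised h2 hz hx hi hh hs W (nrm _ cz) (nrm _ cx) (nrm _ ch) (nrm _ cs) hW
    obtain ⟨g, hg⟩ : ι (mk z) ∈ R := by
      rcases htc with rfl | rfl | rfl
      · exact ht
      · have := nrm _ ch _ ht
        rwa [conjq hhx] at this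
      · have := nrm _ ch _ (nrm _ cs _ ht)
        rwa [map_mul, conjq hszx, conjq hhx] at this
    exact not_single h2 hi hM hz hD g b (by rw [hg]; exact Pi.mulSingle_eq_same b _)
      fun d hd' => by rw [hg]; exact Pi.mulSingle_eq_of_ne hd' _
  -- two blocks
  have two_blk : ∀ φ ∈ R, ∀ b b', b ≠ b' → (∀ d, d ≠ b → d ≠ b' → φ d = 1) →
      (φ b = 1 ∨ φ b = mk z ∨ φ b = mk x ∨ φ b = mk (z * x)) ∧ φ b = φ b' := by
    have comm : ∀ φ ∈ R, ∀ b b', b ≠ b' → (∀ d, d ≠ b → d ≠ b' → φ d = 1) →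
        φ b = 1 ∨ φ b = mk z ∨ φ b = mk x ∨ φ b = mk (z * x) := by
      intro φ hφ b b' hbb hoff
      obtain ⟨c, hcb, hcb'⟩ := third b b'
      obtain ⟨q, hq⟩ := half b c hcb.symm
      have hcom : ∀ v, (∀ q, pat v q ∈ G) → φ b * v = v * φ b := by
        intro v hv
        have hχ : φ * pat v q * φ⁻¹ * (pat v q)⁻¹ ∈ R :=
          mul_mem (mul_mem (mul_mem hφ (hGR (hv q))) (inv_mem hφ)) (inv_mem (hGR (hv q)))
        have h1 := one_blk _ hχ b fun d hdb => by
          simp only [Pi.mul_apply, Pi.inv_apply]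
          by_cases hdb' : d = b'
          · rw [pat, if_neg (fun e => ((hq d).1 e).elim hdb fun e' => hcb' (e'.symm.trans hdb')), mul_one,
              mul_inv_cancel, inv_one, mul_one]
          · rw [hoff d hdb hdb']; simp
        simp only [Pi.mul_apply, Pi.inv_apply, pat, if_pos ((hq b).2 (Or.inl rfl))] at h1
        rw [mul_inv_eq_one, mul_inv_eq_iff_eq_mul] at h1
        exact h1
      exact mem_four h2 hz hx (hcom _ (four _ (Or.inr (Or.inl rfl))).1)
        (hcom _ (four _ (Or.inr (Or.inr (Or.inl rfl)))).1)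
    intro φ hφ b b' hbb hoff
    refine ⟨comm φ hφ b b' hbb hoff, ?_⟩
    obtain ⟨hv, hvv, -, -⟩ := four _ (comm φ hφ b' b hbb.symm fun d h h' => hoff d h' h)
    obtain ⟨q, hq⟩ := half b b' hbb
    have h1 := one_blk _ (mul_mem hφ (hGR (hv q))) b fun d hdb => by
      rw [Pi.mul_apply, pat]
      by_cases hdb' : d = b'
      · subst hdb'
        rw [if_pos ((hq d).2 (Or.inr rfl)), hvv]
      · rw [if_neg (fun e => ((hq d).1 e).elim hdb hdb'), hoff d hdb hdb', one_mul]
    rw [Pi.mul_apply, pat, if_pos ((hq b).2 (Or.inl rfl))] at h1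
    exact mul_right_cancel (h1.trans hvv.symm)
  -- all blocks move the four-group in one way
  have move : ∀ φ ∈ R, ∀ v, (∀ q, pat v q ∈ G) → ∀ b,
      φ b * v * (φ b)⁻¹ = φ 0 * v * (φ 0)⁻¹ ∧ (φ 0 * v * (φ 0)⁻¹ = 1 ∨ φ 0 * v * (φ 0)⁻¹ = mk z ∨
        φ 0 * v * (φ 0)⁻¹ = mk x ∨ φ 0 * v * (φ 0)⁻¹ = mk (z * x)) := by
    intro φ hφ v hv b
    suffices hs : ∀ c : Blk, c ≠ 0 → (φ 0 * v * (φ 0)⁻¹ = 1 ∨ φ 0 * v * (φ 0)⁻¹ = mk z ∨
        φ 0 * v * (φ 0)⁻¹ = mk x ∨ φ 0 * v * (φ 0)⁻¹ = mk (z * x)) ∧ φ 0 * v * (φ 0)⁻¹ = φ c * v * (φ c)⁻¹ by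
      by_cases hb : b = 0
      · subst hb; exact ⟨rfl, (hs (1, 0) (by decide)).1⟩
      · exact ⟨(hs b hb).2.symm, (hs b hb).1⟩
    intro c hc
    obtain ⟨q, hq⟩ := half 0 c hc.symm
    have h1 := two_blk _ (mul_mem (mul_mem hφ (hGR (hv q))) (inv_mem hφ)) 0 c hc.symm fun d h0 hcd => by
      simp only [Pi.mul_apply, Pi.inv_apply]
      rw [pat, if_neg (fun e => ((hq d).1 e).elim h0 hcd), mul_one, mul_inv_cancel]
    simpa only [Pi.mul_apply, Pi.inv_apply, pat, if_pos ((hq 0).2 (Or.inl rfl)),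
      if_pos ((hq c).2 (Or.inr rfl))] using h1
  -- values in the four-group
  have inV : ∀ φ ∈ R, (∀ b, φ b = 1 ∨ φ b = mk z ∨ φ b = mk x ∨ φ b = mk (z * x)) → φ ∈ G := by
    intro φ hφ hV
    set ψ₁ := φ * fun _ => φ 0 with hψ₁
    have hc : (fun _ => φ 0) ∈ G := pat_const (φ 0) ▸ (four _ (hV 0)).1 _
    have hV1 : ∀ b, ψ₁ b = 1 ∨ ψ₁ b = mk z ∨ ψ₁ b = mk x ∨ ψ₁ b = mk (z * x) := fun b => by
      refine mem_four h2 hz hx ?_ ?_
      · exact ((show Commute (φ b) (mk z) from (four _ (hV b)).2.2.1).mul_left (four _ (hV 0)).2.2.1).eq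
      · exact ((show Commute (φ b) (mk x) from (four _ (hV b)).2.2.2).mul_left (four _ (hV 0)).2.2.2).eq
    have hp1 := (four _ (hV1 (1, 0))).1 (1, 0, 0)
    have hp2 := (four _ (hV1 (0, 1))).1 (0, 1, 0)
    set ψ := ψ₁ * pat (ψ₁ (1, 0)) (1, 0, 0) * pat (ψ₁ (0, 1)) (0, 1, 0) with hψ
    have hψR : ψ ∈ R := mul_mem (mul_mem (mul_mem hφ (hGR hc)) (hGR hp1)) (hGR hp2)
    have hoff : ∀ d, d ≠ (1, 1) → ψ d = 1 := by
      intro d hd'
      have hd3 : d = (0, 0) ∨ d = (1, 0) ∨ d = (0, 1) := by revert d; decide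
      rcases hd3 with rfl | rfl | rfl
      · simp [hψ, hψ₁, pat, (four _ (hV 0)).2.1, show ((0, 0) : Blk) = 0 from rfl]
      · simp [hψ, pat, (four _ (hV1 (1, 0))).2.1]
      · simp [hψ, pat, (four _ (hV1 (0, 1))).2.1]
    have hψ1 : ψ = 1 := funext fun d => by
      by_cases hd' : d = (1, 1)
      · subst hd'; exact one_blk ψ hψR _ hoff
      · exact hoff d hd'
    have hψG : ψ ∈ G := hψ1 ▸ one_mem G
    rw [hψ, hψ₁, Subgroup.mul_mem_cancel_right _ hp2, Subgroup.mul_mem_cancel_right _ hp1,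
      Subgroup.mul_mem_cancel_right _ hc] at hψG
    exact hψG
  -- reduce to fixing both involutions
  have vz := four _ (Or.inr (Or.inl rfl) : mk z = 1 ∨ mk z = mk z ∨ mk z = mk x ∨ mk z = mk (z * x))
  have vx := four _ (Or.inr (Or.inr (Or.inl rfl)) : mk x = 1 ∨ mk x = mk z ∨ mk x = mk x ∨ mk x = mk (z * x))
  have ne1 : ∀ {a v : ProjGenLinGroup (Fin 2) F}, v ≠ 1 → a * v * a⁻¹ ≠ 1 := fun {a v} hv e => hv (by
    calc v = a⁻¹ * (a * v * a⁻¹) * a := by group
      _ = 1 := by rw [e]; group)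
  have hx1 : mk x ≠ 1 := fun e => hz1 (by rw [← conjq hhx, e]; group)
  have step : ∀ φ ∈ R, (∀ b, φ b * mk z * (φ b)⁻¹ = mk z) → φ ∈ G := by
    intro φ hφ hfz
    have fix : ∀ φ' ∈ R, (∀ b, φ' b * mk z * (φ' b)⁻¹ = mk z) → (∀ b, φ' b * mk x * (φ' b)⁻¹ = mk x) → φ' ∈ G :=
      fun φ' hφ' e1 e2 => inV φ' hφ' fun b =>
        mem_four h2 hz hx (mul_inv_eq_iff_eq_mul.1 (e1 b)) (mul_inv_eq_iff_eq_mul.1 (e2 b))
    have hm := move φ hφ _ vx.1
    rcases (hm 0).2 with e | e | e | e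
    · exact absurd e (ne1 hx1)
    · have e' : φ 0 * mk x * (φ 0)⁻¹ = φ 0 * mk z * (φ 0)⁻¹ := by rw [e, hfz 0]
      refine absurd (mul_left_cancel (mul_right_cancel e')) fun h => hz1 ?_
      rw [h] at hszx
      rw [hzz, mul_one] at hszx
      calc mk z = mk z * mk s * (mk s)⁻¹ := by group
        _ = 1 := by rw [← hszx, mul_inv_cancel]
    · exact fix φ hφ hfz fun b => (hm b).1.trans e
    · rw [map_mul] at e
      refine (Subgroup.mul_mem_cancel_left G cs).1 (fix _ (mul_mem (hGR cs) hφ) (fun b => ?_) fun b => ?_)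
      · rw [Pi.mul_apply, show ∀ a c v : ProjGenLinGroup (Fin 2) F, a * c * v * (a * c)⁻¹ = a * (c * v * c⁻¹) * a⁻¹
          from fun a c v => by group, hfz b, conjq hsz]
      · rw [Pi.mul_apply, show ∀ a c v : ProjGenLinGroup (Fin 2) F, a * c * v * (a * c)⁻¹ = a * (c * v * c⁻¹) * a⁻¹
          from fun a c v => by group, (hm b).1, e, conjq hszx]
  intro φ hφ
  have hm := move φ hφ _ vz.1
  have assoc : ∀ a c v : ProjGenLinGroup (Fin 2) F, a * c * v * (a * c)⁻¹ = a * (c * v * c⁻¹) * a⁻¹ :=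
    fun a c v => by group
  rcases (hm 0).2 with e | e | e | e
  · exact absurd e (ne1 hz1)
  · exact step φ hφ fun b => (hm b).1.trans e
  · refine (Subgroup.mul_mem_cancel_left G ch).1 (step _ (mul_mem (hGR ch) hφ) fun b => ?_)
    rw [Pi.mul_apply, assoc, (hm b).1, e, conjq hhx]
  · rw [map_mul] at e
    refine (Subgroup.mul_mem_cancel_left G (mul_mem ch cs)).1
      (step _ (mul_mem (hGR (mul_mem ch cs)) hφ) fun b => ?_)
    rw [Pi.mul_apply, assoc, (hm b).1, e, Pi.mul_apply, assoc, conjq hszx, conjq hhx]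

end Base42

variable {F : Type*} [Field F]

open Base42 in
/-- If every diagonal element normalises, so does the centraliser of two coordinate signs. -/
theorem lev_two [Finite F] (h2 : (2 : F) ≠ 0) {i : Fˣ} (hi : (i : F) * i = -1) {M : Subgroup (GL (Pt 3) F)}
    (hM : C6Cplx52.BaseC i M) (hD : DiagN i M) {g : GL (Pt 3) F} (hg : g ∈ Lev M {0, 1}) :
    C6Cplx52.Nr i g := by
  have hm1 : (-1 : F) ≠ 0 := neg_ne_zero.2 one_ne_zero
  let z : GL (Fin 2) F := GeneralLinearGroup.mkOfDetNeZero !![1, 0; 0, -1] (by simp [Matrix.det_fin_two])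
  let x : GL (Fin 2) F := GeneralLinearGroup.mkOfDetNeZero !![0, 1; 1, 0] (by simp [Matrix.det_fin_two])
  let hd : GL (Fin 2) F := GeneralLinearGroup.mkOfDetNeZero !![1, 1; 1, -1]
    (by rw [Matrix.det_fin_two]; simp; exact fun e => h2 (by linear_combination -e))
  let s : GL (Fin 2) F := GeneralLinearGroup.mkOfDetNeZero !![1, 0; 0, (i : F)] (by simp [Matrix.det_fin_two])
  obtain ⟨n, hn, hcls⟩ := good_all h2 hi hM (z := z) (x := x) (hd := hd) (s := s) rfl rfl rfl rfl hD ⟨g, hg⟩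
  have hk : cls h2 M (n⁻¹ * ⟨g, hg⟩) = 1 := by rw [map_mul, map_inv, hcls, inv_mul_cancel]
  set k := n⁻¹ * ⟨g, hg⟩ with hk'
  have hdiag : ∀ u v, u ≠ v → ((k : GL (Pt 3) F) : Matrix (Pt 3) (Pt 3) F) u v = 0 := by
    intro u v huv
    obtain ⟨d, a, rfl⟩ := exists_pt u
    obtain ⟨e, b, rfl⟩ := exists_pt v
    by_cases hde : d = e
    · subst hde
      obtain ⟨c, -, hc⟩ := exists_smul_of_mk (g := (1 : GL (Fin 2) F)) (g' := _)
        ((map_one (mk (n := Fin 2) (R := F))).trans (congrFun hk d).symm)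
      refine (congrFun (congrFun hc a) b).trans ?_
      rw [Matrix.smul_apply, Units.val_one, Matrix.one_apply_ne fun e => huv (by rw [e]), smul_zero]
    · exact dia_of_lev h2 k.2 d e a b hde
  obtain ⟨f, hf, -⟩ := eq_dg hdiag
  have hkn : C6Cplx52.Nr i (k : GL (Pt 3) F) := hf ▸ hD f (hf ▸ (mem_Lev.1 k.2).1)
  have e : g = (n : GL (Pt 3) F) * (k : GL (Pt 3) F) := by rw [hk', Subgroup.coe_mul, Subgroup.coe_inv, mul_inv_cancel_left]
  exact e ▸ nr_mul' hn hkn

end Cfsg.Agent.C6Cplx84
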