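import Cfsg.Agent.Lib.C6Cplx84Act
import Cfsg.Agent.Lib.C6Plus10Ctl

/-!
The level of one coordinate sign of the complex type in dimension eight: an element acting on the free translations
through the two halves moves one of them to another one, if every diagonal element normalises.
-/

set_option autoImplicit false
set_option linter.unusedSectionVars false

namespace Cfsg.Agent.C6Cplx84

open Matrix Cfsg.Agent.C6Plus10
open scoped MatrixGroups

namespace Cent42

variable {F : Type*} [Field F] {i : Fˣ}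

/-- The matrices of the model. -/
abbrev Mat (F : Type*) : Type _ := Matrix (Pt 3) (Pt 3) F

/-- The projection on a half. -/
def P (F : Type*) [Field F] (e : ZMod 2) : Mat F := Matrix.diagonal fun x => if x 0 = e then 1 else 0

theorem P_mul_apply (e : ZMod 2) (A : Mat F) (x y : Pt 3) : (P F e * A) x y = if x 0 = e then A x y else 0 := by
  rw [P, Matrix.diagonal_mul]
  split_ifs <;> simp

theorem mul_P_apply (e : ZMod 2) (A : Mat F) (x y : Pt 3) : (A * P F e) x y = if y 0 = e then A x y else 0 := by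
  rw [P, Matrix.mul_diagonal]
  split_ifs <;> simp

theorem P_add : P F 0 + P F 1 = (1 : Mat F) := by
  rw [P, P, Matrix.diagonal_add, ← Matrix.diagonal_one]
  congr 1
  funext x
  rcases zm_cases (x 0) with h | h <;> simp [h]

theorem P_idem (e : ZMod 2) : P F e * P F e = P F e := by
  rw [P, Matrix.diagonal_mul_diagonal]
  congr 1
  funext x
  split_ifs <;> simp

/-- Commuting with the sign of the first position, an element commutes with both halves. -/
theorem comm_P (h2 : (2 : F) ≠ 0) {A : GL (Pt 3) F} (hA : A * sd F (ip (pe 0)) = sd F (ip (pe 0)) * A)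
    (e : ZMod 2) : P F e * (A : Mat F) = (A : Mat F) * P F e := by
  ext x y
  rw [P_mul_apply, mul_P_apply]
  by_cases h : x 0 = y 0
  · rw [h]
  · rw [entry_zero h2 hA (by rwa [ip_pe, ip_pe]), ite_self, ite_self]

theorem sd0_pau {a : Pt 3} (ha : a 0 = 0) (b : Pt 3) :
    pau F a b * sd F (ip (pe 0)) = sd F (ip (pe 0)) * pau F a b := by
  rw [← pau_sd, pau_comm a b, ip_zero_right, ip_pe, ha, add_zero, sd_const_zero, one_mul]

theorem pau_apply (a b x y : Pt 3) : (pau F a b : Mat F) x y = if x = y + a then sgn F (ip b y) else 0 := by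
  rw [pau_eq, mon_apply]; rfl

theorem mul_pau_at (A : Mat F) (a b x y : Pt 3) : (A * (pau F a b : Mat F)) x y = A x (y + a) * sgn F (ip b y) := by
  rw [Matrix.mul_apply, Finset.sum_eq_single (y + a)]
  · rw [pau_apply, if_pos rfl]
  · intro z _ hz; rw [pau_apply, if_neg hz, mul_zero]
  · simp

theorem pau_mul_at (A : Mat F) (a b x y : Pt 3) :
    ((pau F a b : Mat F) * A) x y = sgn F (ip b (x + a)) * A (x + a) y := by
  rw [Matrix.mul_apply, Finset.sum_eq_single (x + a)]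
  · rw [pau_apply, if_pos (pt_add_cancel x a).symm]
  · intro z _ hz; rw [pau_apply, if_neg (fun e => hz (by rw [e, pt_add_cancel])), zero_mul]
  · simp

theorem sd_const_val (c : ZMod 2) : ((sd F fun _ : Pt 3 => c : GL (Pt 3) F) : Mat F) = sgn F c • (1 : Mat F) := by
  rw [sd_apply, Matrix.smul_one_eq_diagonal]

/-- A product of two translations. -/
theorem pau_pau (r s : Pt 3 × Pt 3) :
    (pau F r.1 r.2 : Mat F) * pau F s.1 s.2 = sgn F (ip r.2 s.1) • (pau F (r + s).1 (r + s).2 : Mat F) := by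
  rw [← Units.val_mul, pau_mul, Units.val_mul, sd_const_val, smul_mul_assoc, one_mul]
  rfl

theorem pau_swap (r s : Pt 3 × Pt 3) : (pau F r.1 r.2 : Mat F) * pau F s.1 s.2 =
    sgn F (ip r.2 s.1 + ip s.2 r.1) • ((pau F s.1 s.2 : Mat F) * pau F r.1 r.2) := by
  rw [← Units.val_mul, pau_comm, Units.val_mul, Units.val_mul, sd_const_val, smul_mul_assoc, one_mul]

/-- The index pairs without first position. -/
def Free (r : Pt 3 × Pt 3) : Prop := r.1 0 = 0 ∧ r.2 0 = 0

theorem Free.add {r s : Pt 3 × Pt 3} (hr : Free r) (hs : Free s) : Free (r + s) :=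
  ⟨by simp [hr.1, hs.1], by simp [hr.2, hs.2]⟩

theorem free_zero : Free 0 := ⟨rfl, rfl⟩

theorem Free.commP (h2 : (2 : F) ≠ 0) {r : Pt 3 × Pt 3} (hr : Free r) (e : ZMod 2) :
    P F e * (pau F r.1 r.2 : Mat F) = (pau F r.1 r.2 : Mat F) * P F e :=
  comm_P h2 (sd0_pau hr.1 r.2) e

/-- The restriction to a half is a translation up to a scalar. -/
def Hf (e : ZMod 2) (Y : Mat F) (r : Pt 3 × Pt 3) : Prop :=
  ∃ α : F, α ≠ 0 ∧ P F e * Y = α • (P F e * (pau F r.1 r.2 : Mat F))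

theorem hf_pau (e : ZMod 2) (r : Pt 3 × Pt 3) : Hf e (pau F r.1 r.2 : Mat F) r :=
  ⟨1, one_ne_zero, (one_smul _ _).symm⟩

theorem Hf.smul {e : ZMod 2} {Y : Mat F} {r : Pt 3 × Pt 3} (h : Hf e Y r) {c : F} (hc : c ≠ 0) :
    Hf e (c • Y) r := by
  obtain ⟨α, hα, h⟩ := h
  exact ⟨c * α, mul_ne_zero hc hα, by rw [Matrix.mul_smul, h, smul_smul]⟩

theorem Hf.mul (h2 : (2 : F) ≠ 0) {e : ZMod 2} {Y Z : Mat F} {r s : Pt 3 × Pt 3} (hr : Free r) (h : Hf e Y r)
    (h' : Hf e Z s) : Hf e (Y * Z) (r + s) := by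
  obtain ⟨α, hα, h⟩ := h
  obtain ⟨β, hβ, h'⟩ := h'
  refine ⟨α * (β * sgn F (ip r.2 s.1)), mul_ne_zero hα (mul_ne_zero hβ (sgn_ne_zero _)), ?_⟩
  rw [← mul_assoc, h, smul_mul_assoc, hr.commP h2, mul_assoc, h', Matrix.mul_smul, ← mul_assoc, ← hr.commP h2,
    mul_assoc, pau_pau, Matrix.mul_smul, smul_smul, smul_smul, mul_assoc]

theorem Hf.uniq (h2 : (2 : F) ≠ 0) {e : ZMod 2} {Y : Mat F} {r s : Pt 3 × Pt 3} (hr : Free r) (hs : Free s)
    (h : Hf e Y r) (h' : Hf e Y s) : r = s := by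
  obtain ⟨α, hα, h⟩ := h
  obtain ⟨β, hβ, h'⟩ := h'
  have key : ∀ y : Pt 3, y 0 = e →
      α * sgn F (ip r.2 y) = β * if r.1 = s.1 then sgn F (ip s.2 y) else 0 := by
    intro y hy
    have := congrFun (congrFun (h.symm.trans h') (y + r.1)) y
    simp only [Matrix.smul_apply, smul_eq_mul, P_mul_apply, pau_apply, Pi.add_apply, hy, hr.1, add_zero,
      if_true, add_right_inj] at this
    exact this
  have h1 : r.1 = s.1 := by
    by_contra hne
    have := key (e • pe 0) (by simp)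
    rw [if_neg hne, mul_zero] at this
    exact (mul_ne_zero hα (sgn_ne_zero _)) this
  refine Prod.ext h1 (funext fun j => ?_)
  have e0 := key (e • pe 0) (by simp)
  rw [if_pos h1] at e0
  have hz : ∀ t : Pt 3 × Pt 3, Free t → ip t.2 (e • pe 0) = 0 := fun t ht => by
    rw [ip_smul_right, ip_pe_right, ht.2, mul_zero]
  rw [hz r hr, hz s hs, sgn_zero, mul_one, mul_one] at e0
  by_cases hj : j = 0
  · subst hj; rw [hr.2, hs.2]
  · have e1 := key (e • pe 0 + pe j) (by simp [pe_ne (Ne.symm hj)])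
    rw [if_pos h1, ip_add_right, ip_add_right, hz r hr, hz s hs, zero_add, zero_add, ip_pe_right, ip_pe_right,
      e0] at e1
    exact sgn_inj h2 (mul_left_cancel₀ hβ e1)

/-- The scalar of a half squares to a sign. -/
theorem Hf.sq (h2 : (2 : F) ≠ 0) {e : ZMod 2} {Y : Mat F} {r : Pt 3 × Pt 3} (hr : Free r) {α : F}
    (h : P F e * Y = α • (P F e * (pau F r.1 r.2 : Mat F))) {c : ZMod 2} (hY : Y * Y = sgn F c • 1) :
    α * α = sgn F (c + ip r.2 r.1) := by
  have hz : r + r = 0 := Prod.ext (pt_add_self _) (pt_add_self _)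
  have h1 : P F e * (Y * Y) = (α * α * sgn F (ip r.2 r.1)) • P F e := by
    rw [← mul_assoc, h, smul_mul_assoc, hr.commP h2, mul_assoc, h, Matrix.mul_smul, ← mul_assoc, ← hr.commP h2,
      mul_assoc, pau_pau, hz, Prod.fst_zero, Prod.snd_zero, pau_zero, Units.val_one, Matrix.mul_smul, mul_one,
      smul_smul, smul_smul, mul_assoc]
  rw [hY, Matrix.mul_smul, mul_one] at h1
  have h3 := congrFun (congrFun h1 (e • pe 0)) (e • pe 0)
  simp only [Matrix.smul_apply, P, Matrix.diagonal_apply_eq, Pi.smul_apply, pe_self, smul_eq_mul, mul_one,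
    if_true] at h3
  rw [sgn_add, h3, mul_assoc, sgn_mul_self, mul_one]

/-- An element permuting the free translations up to the sign of the first position is, on a half, one of
them up to a scalar. -/
theorem hf_exists (h2 : (2 : F) ≠ 0) {Y : GL (Pt 3) F}
    (hP : Y * sd F (ip (pe 0)) = sd F (ip (pe 0)) * Y) {d : ZMod 2} (hY : (Y : Mat F) * Y = sgn F d • 1)
    (hc : ∀ c f : Pt 3, c 0 = 0 → ∃ w, (∀ j, j ≠ 0 → w j = 0) ∧ CPi i Y c f c (f + w)) (e : ZMod 2) :
    ∃ r, Free r ∧ Hf e (Y : Mat F) r := by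
  set A : Mat F := P F e * (Y : Mat F) with hA
  have comA : ∀ c f : Pt 3, c 0 = 0 → ∃ σ : ZMod 2,
      A * (pau F c f : Mat F) = sgn F σ • ((pau F c f : Mat F) * A) := by
    intro c f hc0
    obtain ⟨w, hw, n, hn⟩ := hc c f hc0
    have hPw : P F e * (pau F c (f + w) : Mat F) = sgn F (w 0 * e) • (P F e * (pau F c f : Mat F)) := by
      ext x y
      rw [Matrix.smul_apply, P_mul_apply, P_mul_apply, pau_apply, pau_apply, smul_eq_mul]
      by_cases hx : x 0 = e
      · by_cases hxy : x = y + c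
        · rw [if_pos hx, if_pos hx, if_pos hxy, if_pos hxy, ip_add_left, add_comm, sgn_add]
          congr 2
          have hy : y 0 = e := by rw [← hx, hxy, Pi.add_apply, hc0, add_zero]
          simp [ip, dotProduct, Fin.sum_univ_three, hw, hy]
        · rw [if_pos hx, if_pos hx, if_neg hxy, if_neg hxy, mul_zero]
      · rw [if_neg hx, if_neg hx, mul_zero]
    have hn' : (Y : Mat F) * pau F c f = ((i ^ n : Fˣ) : F) • ((pau F c (f + w) : Mat F) * Y) := by
      rw [← Units.val_mul, mul_inv_eq_iff_eq_mul.1 hn, mul_assoc, Units.val_mul, Units.val_mul, C6Cplx52.sc_val,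
        smul_mul_assoc, one_mul]
    set κ : F := ((i ^ n : Fˣ) : F) * sgn F (w 0 * e) with hκ
    have hPc : P F e * (pau F c f : Mat F) = (pau F c f : Mat F) * P F e := comm_P h2 (sd0_pau hc0 f) e
    have h1 : A * (pau F c f : Mat F) = κ • ((pau F c f : Mat F) * A) := by
      rw [hA, mul_assoc, hn', Matrix.mul_smul, ← mul_assoc, hPw, smul_mul_assoc, smul_smul, hPc, mul_assoc]
    have hYA : (Y : Mat F) * A = A * Y := by rw [hA, ← mul_assoc, ← comm_P h2 hP, mul_assoc]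
    have h4 : A * ((Y : Mat F) * pau F c f) = (κ * κ) • ((pau F c f : Mat F) * (A * Y)) := by
      have hY' : (Y : Mat F) * pau F c f = ((i ^ n : Fˣ) : F) • ((pau F c (f + w) : Mat F) * Y) := hn'
      have hAw : A * (pau F c (f + w) : Mat F) = sgn F (w 0 * e) • (A * (pau F c f : Mat F)) := by
        rw [hA, comm_P h2 hP, mul_assoc, hPw, Matrix.mul_smul, ← mul_assoc]
      rw [hY', Matrix.mul_smul, ← mul_assoc, hAw, h1, smul_mul_assoc, smul_mul_assoc, smul_smul, smul_smul, mul_assoc,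
        hκ]
      simp only [mul_assoc]
    have h5 : A * (Y : Mat F) = sgn F d • P F e := by rw [hA, mul_assoc, hY, Matrix.mul_smul, mul_one]
    rw [← mul_assoc, h5, smul_mul_assoc, Matrix.mul_smul, ← hPc, smul_smul] at h4
    have h6 := congrFun (congrFun h4 (e • pe 0 + c)) (e • pe 0)
    have hx0 : (e • pe 0 + c : Pt 3) 0 = e := by simp [hc0]
    simp only [Matrix.smul_apply, P_mul_apply, pau_apply, hx0, if_true, smul_eq_mul] at h6
    have h7 : κ * κ = 1 := by
      have hne : sgn F d * sgn F (ip f (e • pe 0)) ≠ 0 := mul_ne_zero (sgn_ne_zero _) (sgn_ne_zero _)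
      refine mul_right_cancel₀ hne ?_
      rw [one_mul, ← mul_assoc]
      linear_combination -h6
    rcases mul_self_eq_one_iff.1 h7 with hk | hk
    · exact ⟨0, by rw [h1, hk, sgn_zero]⟩
    · exact ⟨1, by rw [h1, hk, sgn_one]⟩
  have comA' : ∀ s : Pt 3 × Pt 3, s.1 0 = 0 → ∃ σ : ZMod 2,
      A * (pau F s.1 s.2 : Mat F) = sgn F σ • ((pau F s.1 s.2 : Mat F) * A) := fun s hs => comA s.1 s.2 hs
  obtain ⟨z1, hz1⟩ := comA' (0, pe 1) rfl
  obtain ⟨z2, hz2⟩ := comA' (0, pe 2) rfl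
  obtain ⟨x1, hx1⟩ := comA' (pe 1, 0) (pe_ne (show (0 : Fin 3) ≠ 1 by decide))
  obtain ⟨x2, hx2⟩ := comA' (pe 2, 0) (pe_ne (show (0 : Fin 3) ≠ 2 by decide))
  set r : Pt 3 × Pt 3 := (![0, z1, z2], ![0, x1, x2]) with hr
  have hrf : Free r := ⟨rfl, rfl⟩
  set B : Mat F := A * (pau F r.1 r.2 : Mat F) with hB
  have comB : ∀ (s : Pt 3 × Pt 3) (σ : ZMod 2),
      A * (pau F s.1 s.2 : Mat F) = sgn F σ • ((pau F s.1 s.2 : Mat F) * A) → ip r.2 s.1 + ip s.2 r.1 = σ →
      B * (pau F s.1 s.2 : Mat F) = (pau F s.1 s.2 : Mat F) * B := by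
    intro s σ hs hσ
    rw [hB, mul_assoc, pau_swap r s, hσ, Matrix.mul_smul, ← mul_assoc, hs, smul_mul_assoc, smul_smul, sgn_mul_self,
      one_smul, mul_assoc]
  have cz1 := comB _ _ hz1 (by simp [hr, ip, pe, dotProduct, Fin.sum_univ_three])
  have cz2 := comB _ _ hz2 (by simp [hr, ip, pe, dotProduct, Fin.sum_univ_three])
  have cx1 := comB _ _ hx1 (by simp [hr, ip, pe, dotProduct, Fin.sum_univ_three])
  have cx2 := comB _ _ hx2 (by simp [hr, ip, pe, dotProduct, Fin.sum_univ_three])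
  have hBP : P F e * B = B ∧ B * P F e = B := by
    constructor
    · rw [hB, hA, ← mul_assoc, ← mul_assoc, P_idem]
    · rw [hB, mul_assoc, ← hrf.commP h2, hA, mul_assoc, ← mul_assoc _ (P F e), ← comm_P h2 hP, ← mul_assoc,
        ← mul_assoc, P_idem, mul_assoc]
  have hoff : ∀ x y, x ≠ y → B x y = 0 := by
    intro x y hxy
    have hP1 : ¬ x 0 = e → B x y = 0 := fun h => by rw [← hBP.1, P_mul_apply, if_neg h]
    have hP2 : ¬ y 0 = e → B x y = 0 := fun h => by rw [← hBP.2, mul_P_apply, if_neg h]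
    by_cases h0 : x 0 = e ∧ y 0 = e
    · obtain ⟨j, hj⟩ := Function.ne_iff.1 hxy
      have hsep : ∀ t : Fin 3, B * (pau F 0 (pe t) : Mat F) = (pau F 0 (pe t) : Mat F) * B → x t ≠ y t →
          B x y = 0 := by
        intro t ht hne
        have := congrFun (congrFun ht x) y
        rw [mul_pau_at, pau_mul_at, add_zero, add_zero, ip_pe, ip_pe] at this
        exact (mul_eq_zero.1 (show (sgn F (y t) - sgn F (x t)) * B x y = 0 by linear_combination this)).resolve_left
          (sub_ne_zero.2 fun e' => hne (sgn_inj h2 e').symm)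
      fin_cases j
      · exact absurd (h0.1.trans h0.2.symm) hj
      · exact hsep 1 cz1 hj
      · exact hsep 2 cz2 hj
    · rcases not_and_or.1 h0 with h | h
      exacts [hP1 h, hP2 h]
  have hmove : ∀ (t : Pt 3), B * (pau F t 0 : Mat F) = (pau F t 0 : Mat F) * B → ∀ x, B x x = B (x + t) (x + t) := by
    intro t ht x
    have := congrFun (congrFun ht x) (x + t)
    simp only [mul_pau_at, pau_mul_at, pt_add_cancel, ip_zero_left, sgn_zero, mul_one, one_mul] at this
    exact this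
  have hconst : B = (B (e • pe 0) (e • pe 0)) • P F e := by
    ext x y
    rw [Matrix.smul_apply, P, Matrix.diagonal_apply, smul_eq_mul]
    by_cases hxy : x = y
    · subst hxy
      rw [if_pos rfl]
      by_cases hx : x 0 = e
      · rw [if_pos hx, mul_one]
        have hx' : x = e • pe 0 + x 1 • pe 1 + x 2 • pe 2 := by
          funext j; fin_cases j <;> simp [pe, hx]
        have m1 := hmove _ cx1
        have m2 := hmove _ cx2
        rw [hx']
        rcases zm_cases (x 1) with h1 | h1 <;> rcases zm_cases (x 2) with h3 | h3 <;>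
          simp only [h1, h3, zero_smul, one_smul, add_zero]
        · exact (m2 _).symm
        · exact (m1 _).symm
        · exact ((m1 _).trans (m2 _)).symm
      · rw [if_neg hx, mul_zero, ← hBP.1, P_mul_apply, if_neg hx]
    · rw [hoff x y hxy, if_neg hxy, mul_zero]
  set α := B (e • pe 0) (e • pe 0)
  have hz : r + r = 0 := Prod.ext (pt_add_self _) (pt_add_self _)
  have hAeq : A = (α * sgn F (ip r.2 r.1)) • (P F e * (pau F r.1 r.2 : Mat F)) := by
    have h1 : B * (pau F r.1 r.2 : Mat F) = sgn F (ip r.2 r.1) • A := by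
      rw [hB, mul_assoc, pau_pau, hz, Prod.fst_zero, Prod.snd_zero, pau_zero, Units.val_one, Matrix.mul_smul, mul_one]
    rw [mul_comm, ← smul_smul, ← smul_mul_assoc α, ← hconst, h1, smul_smul, sgn_mul_self, one_smul]
  refine ⟨r, hrf, _, fun e0 => ?_, hAeq⟩
  rw [e0, zero_smul, hA] at hAeq
  have h1 : P F e = 0 := (Units.mul_left_eq_zero Y).1 hAeq
  simpa [P] using congrFun (congrFun h1 (e • pe 0)) (e • pe 0)

/-- Conjugation of the restriction to a half. -/
theorem Hf.conj (h2 : (2 : F) ≠ 0) {e : ZMod 2} {Y : GL (Pt 3) F} {r s : Pt 3 × Pt 3} (h : Hf e (Y : Mat F) r)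
    {n : GL (Pt 3) F} (hn : n * sd F (ip (pe 0)) = sd F (ip (pe 0)) * n) (hns : CPi i n r.1 r.2 s.1 s.2) :
    Hf e ((n * Y * n⁻¹ : GL (Pt 3) F) : Mat F) s := by
  obtain ⟨α, hα, h⟩ := h
  obtain ⟨m, hm⟩ := hns
  refine ⟨α * ((i ^ m : Fˣ) : F), mul_ne_zero hα (Units.ne_zero _), ?_⟩
  have hm' : (n : Mat F) * pau F r.1 r.2 * ((n⁻¹ : GL (Pt 3) F) : Mat F) =
      ((i ^ m : Fˣ) : F) • (pau F s.1 s.2 : Mat F) := by
    rw [← Units.val_mul, ← Units.val_mul, hm, Units.val_mul, C6Cplx52.sc_val, smul_mul_assoc, one_mul]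
  rw [Units.val_mul, Units.val_mul, ← mul_assoc, ← mul_assoc, comm_P h2 hn, mul_assoc (n : Mat F), h,
    Matrix.mul_smul, smul_mul_assoc, ← mul_assoc, ← comm_P h2 hn, mul_assoc, mul_assoc, ← mul_assoc (n : Mat F), hm',
    Matrix.mul_smul, smul_smul]

theorem pow_of_sq (hi : (i : F) * i = -1) {α : F} {c : ZMod 2} (h : α * α = sgn F c) :
    ∃ n : ℕ, α = ((i ^ n : Fˣ) : F) := by
  rcases zm_cases c with rfl | rfl
  · rw [sgn_zero] at h
    rcases mul_self_eq_one_iff.1 h with rfl | rfl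
    · exact ⟨0, by simp⟩
    · exact ⟨2, by simp [pow_two, hi]⟩
  · rw [sgn_one, ← hi] at h
    rcases mul_self_eq_mul_self_iff.1 h with rfl | rfl
    · exact ⟨1, by simp⟩
    · exact ⟨3, by simp [pow_succ, mul_assoc, hi]⟩

/-- The diagonal element left when the two halves are two different signs does not normalise. -/
theorem not_two (h2 : (2 : F) ≠ 0) (hi : (i : F) * i = -1) {M : Subgroup (GL (Pt 3) F)}
    (hM : C6Cplx52.BaseC i M) (hD : DiagN i M) {h : GL (Pt 3) F} (hh : h ∈ M)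
    (h0 : Hf 0 ((h * pau F 0 (pe 1) * h⁻¹ : GL (Pt 3) F) : Mat F) (0, pe 1))
    (h1 : Hf 1 ((h * pau F 0 (pe 1) * h⁻¹ : GL (Pt 3) F) : Mat F) (0, pe 2)) : False := by
  set Y := h * pau F 0 (pe 1) * h⁻¹ with hY
  have hYY : (Y : Mat F) * Y = sgn F 0 • 1 := by
    rw [← Units.val_mul, hY, show h * pau F 0 (pe 1) * h⁻¹ * (h * pau F 0 (pe 1) * h⁻¹) =
      h * (pau F 0 (pe 1) * pau F 0 (pe 1)) * h⁻¹ by group, pau_mul, ip_zero_right, sd_const_zero, one_mul,
      pt_add_self, pt_add_self, pau_zero, mul_one, mul_inv_cancel, Units.val_one, sgn_zero, one_smul]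
  obtain ⟨α, -, hα⟩ := h0
  obtain ⟨β, -, hβ⟩ := h1
  have ha2 := Hf.sq h2 (r := (0, pe 1)) ⟨rfl, pe_ne (show (0 : Fin 3) ≠ 1 by decide)⟩ hα hYY
  have hb2 := Hf.sq h2 (r := (0, pe 2)) ⟨rfl, pe_ne (show (0 : Fin 3) ≠ 2 by decide)⟩ hβ hYY
  simp only [ip_zero_right, add_zero, sgn_zero] at ha2 hb2
  set d : Pt 3 → F := fun x => if x 0 = 0 then α * sgn F (x 1) else β * sgn F (x 2) with hd
  have hYd : (Y : Mat F) = Matrix.diagonal d := by
    rw [← one_mul (Y : Mat F), ← P_add, add_mul, hα, hβ, pau_sd, pau_sd, sd_apply, sd_apply, P, P,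
      Matrix.diagonal_mul_diagonal, Matrix.diagonal_mul_diagonal, ← Matrix.diagonal_smul, ← Matrix.diagonal_smul,
      Matrix.diagonal_add]
    congr 1
    funext x
    rcases zm_cases (x 0) with hx | hx <;> simp [hd, hx, ip_pe]
  have hd2 : ∀ x, d x = 1 ∨ d x = -1 := fun x => mul_self_eq_one_iff.1 (by
    simp only [hd]
    split_ifs
    · linear_combination (sgn F (x 1) * sgn F (x 1)) * ha2 + sgn_mul_self (F := F) (x 1)
    · linear_combination (sgn F (x 2) * sgn F (x 2)) * hb2 + sgn_mul_self (F := F) (x 2))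
  classical
  set f : Pt 3 → Fˣ := fun x => if d x = 1 then 1 else i with hf
  have hm1 : (-1 : F) ≠ 1 := fun e => h2 (by linear_combination -e)
  have hlam : ((phj i (1 : Fin 3) : GL (Pt 3) F) : Mat F) =
      ((1 + (i : F)) * 2⁻¹) • (1 : Mat F) + ((1 - (i : F)) * 2⁻¹) • ((pau F 0 (pe 1) : GL (Pt 3) F) : Mat F) := by
    rw [pau_sd, sd_apply, Matrix.smul_one_eq_diagonal, ← Matrix.diagonal_smul, Matrix.diagonal_add]
    show Matrix.diagonal _ = _
    congr 1
    funext x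
    rcases zm_cases (x 1) with hx | hx <;> simp [ip_pe, hx, sgn_one, ZMod.val_one]
    all_goals field_simp
    all_goals ring
  have hmem : dg f ∈ M := by
    have e : h * phj i (1 : Fin 3) * h⁻¹ = dg f := Units.ext (by
      rw [Units.val_mul, Units.val_mul, hlam, mul_add, Matrix.mul_smul, Matrix.mul_smul, mul_one, add_mul,
        smul_mul_assoc, smul_mul_assoc, ← Units.val_mul h (pau F 0 (pe 1)), ← Units.val_mul (h * pau F 0 (pe 1)), ← Units.val_mul h,
        mul_inv_cancel, ← hY, hYd, Units.val_one, Matrix.smul_one_eq_diagonal, ← Matrix.diagonal_smul,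
        Matrix.diagonal_add, dg_val]
      congr 1
      funext x
      rcases hd2 x with e | e <;> simp [hf, e, hm1] <;> field_simp <;> ring)
    exact e ▸ M.mul_mem (M.mul_mem hh (hM.phase _ (aff_ip _))) (M.inv_mem hh)
  obtain ⟨a', b', n, hn⟩ := hD f hmem (pe 1) 0
  have key : ∀ x, (f x : F) = ((i ^ n : Fˣ) : F) * sgn F (ip b' (x + a')) *
      (dg f : Mat F) (x + a') (x + pe 1) := fun x => by
    have h5 := congrFun (congrFun (congrArg (fun w : GL (Pt 3) F => (w : Mat F)) (mul_inv_eq_iff_eq_mul.1 hn)) x)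
      (x + pe 1)
    simp only [Units.val_mul, C6Cplx52.sc_val, smul_one_mul, smul_mul_assoc, one_mul, Matrix.smul_apply, mul_pau_at,
      pau_mul_at, smul_eq_mul, pt_add_cancel, ip_zero_left, sgn_zero, mul_one] at h5
    rw [dg_val, Matrix.diagonal_apply_eq] at h5
    rw [h5, dg_val, mul_assoc]
  have ha : a' = pe 1 := by
    by_contra hne
    have := key 0
    rw [dg_val, Matrix.diagonal_apply_ne _ (fun e => hne (add_left_cancel e)), mul_zero] at this
    exact (f 0).ne_zero this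
  subst ha
  have sq : ∀ x, (f x : F) * f x =
      ((i ^ n : Fˣ) : F) * ((i ^ n : Fˣ) : F) * ((f (x + pe 1) : F) * f (x + pe 1)) := fun x => by
    have h5 := key x
    rw [dg_val, Matrix.diagonal_apply_eq] at h5
    rw [h5]
    linear_combination (((i ^ n : Fˣ) : F) * ((i ^ n : Fˣ) : F) * ((f (x + pe 1) : F) * f (x + pe 1))) *
      sgn_mul_self (F := F) (ip b' (x + pe 1))
  have fsq : ∀ x, (f x : F) * f x = d x := fun x => by
    rcases hd2 x with e | e <;> simp [hf, e, hm1, hi]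
  have e1 := sq (pe 0)
  have e2 := sq 0
  rw [fsq, fsq] at e1 e2
  simp [hd, sgn_one, pe_ne (show (0 : Fin 3) ≠ 1 by decide), pe_ne (show (1 : Fin 3) ≠ 0 by decide),
    pe_ne (show (2 : Fin 3) ≠ 1 by decide), pe_ne (show (2 : Fin 3) ≠ 0 by decide)] at e1 e2
  have hα0 : α ≠ 0 := fun e => by rw [e, zero_mul] at ha2; exact zero_ne_one ha2
  have hβ0 : β ≠ 0 := fun e => by rw [e, zero_mul] at hb2; exact zero_ne_one hb2
  refine mul_ne_zero h2 hα0 (mul_left_cancel₀ hβ0 ?_)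
  linear_combination β * e2 + α * e1


/-- The commutator pairing. -/
def bet (r s : Pt 3 × Pt 3) : ZMod 2 := ip r.2 s.1 + ip s.2 r.1

theorem bet_add_left (r r' s : Pt 3 × Pt 3) : bet (r + r') s = bet r s + bet r' s := by
  simp only [bet, Prod.fst_add, Prod.snd_add, ip_add_left, ip_add_right]
  ring

theorem bet_add_right (r s s' : Pt 3 × Pt 3) : bet r (s + s') = bet r s + bet r s' := by
  simp only [bet, Prod.fst_add, Prod.snd_add, ip_add_left, ip_add_right]
  ring

/-- A scalar times a translation determines both indices. -/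
theorem sc_pau_inj (h2 : (2 : F) ≠ 0) {c c' : Fˣ} {a b a' b' : Pt 3}
    (h : C6Cplx52.sc (Pt 3) c * pau F a b = C6Cplx52.sc (Pt 3) c' * pau F a' b') : c = c' ∧ a = a' ∧ b = b' := by
  have key : ∀ y : Pt 3, (c : F) * sgn F (ip b y) = c' * if a = a' then sgn F (ip b' y) else 0 := fun y => by
    have := congrFun (congrFun (congrArg (fun w : GL (Pt 3) F => (w : Mat F)) h) (y + a)) y
    simpa only [Units.val_mul, C6Cplx52.sc_val, smul_mul_assoc, one_mul, Matrix.smul_apply, smul_eq_mul, pau_apply,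
      if_true, add_right_inj] using this
  have ha : a = a' := by
    by_contra hne
    have := key 0
    rw [if_neg hne, mul_zero] at this
    exact mul_ne_zero c.ne_zero (sgn_ne_zero _) this
  have h0 := key 0
  rw [if_pos ha, ip_zero_right, ip_zero_right, sgn_zero, mul_one, mul_one] at h0
  refine ⟨Units.ext h0, ha, funext fun j => ?_⟩
  have h1 := key (pe j)
  rw [if_pos ha, ip_pe_right, ip_pe_right, h0] at h1
  exact sgn_inj h2 (mul_left_cancel₀ c'.ne_zero h1)

/-- Translations are moved one way only. -/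
theorem cp_uniq (h2 : (2 : F) ≠ 0) {n : GL (Pt 3) F} {a b a' b' a'' b'' : Pt 3} (h : CPi i n a b a' b')
    (h' : CPi i n a b a'' b'') : a' = a'' ∧ b' = b'' := by
  obtain ⟨c, hc⟩ := h
  obtain ⟨c', hc'⟩ := h'
  exact (sc_pau_inj h2 (hc.symm.trans hc')).2

theorem cp_add (hi : (i : F) * i = -1) {n : GL (Pt 3) F} {r s r' s' : Pt 3 × Pt 3}
    (h : CPi i n r.1 r.2 r'.1 r'.2) (h' : CPi i n s.1 s.2 s'.1 s'.2) :
    CPi i n (r + s).1 (r + s).2 (r' + s').1 (r' + s').2 := by
  obtain ⟨c, hc⟩ := h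
  obtain ⟨d, hd⟩ := h'
  refine ⟨2 * (ip r.2 s.1).val + (c + d) + 2 * (ip r'.2 s'.1).val, ?_⟩
  have e : pau F (r + s).1 (r + s).2 =
      C6Cplx52.sc (Pt 3) (i ^ (2 * (ip r.2 s.1).val)) * (pau F r.1 r.2 * pau F s.1 s.2) := by
    rw [← sd_const_sc hi, pau_mul, ← mul_assoc, ← sd_const_add, CharTwo.add_self_eq_zero, sd_const_zero, one_mul]
    rfl
  calc n * pau F (r + s).1 (r + s).2 * n⁻¹
      = C6Cplx52.sc (Pt 3) (i ^ (2 * (ip r.2 s.1).val)) * ((n * pau F r.1 r.2 * n⁻¹) * (n * pau F s.1 s.2 * n⁻¹)) := by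
        rw [e, C6Cplx52.sc_pull]; group
    _ = C6Cplx52.sc (Pt 3) (i ^ (2 * (ip r.2 s.1).val)) *
        (C6Cplx52.sc (Pt 3) (i ^ (c + d)) * (pau F r'.1 r'.2 * pau F s'.1 s'.2)) := by
        rw [hc, hd, mul_assoc (C6Cplx52.sc (Pt 3) (i ^ c)), C6Cplx52.sc_pull (i ^ d), pow_add, map_mul]
        simp only [mul_assoc]
    _ = _ := by
        rw [pau_mul, sd_const_sc hi, ← mul_assoc, ← mul_assoc, ← map_mul, ← map_mul, ← pow_add, ← pow_add]
        rfl

theorem cp_bet (h2 : (2 : F) ≠ 0) (hi : (i : F) * i = -1) {n : GL (Pt 3) F} {r s r' s' : Pt 3 × Pt 3}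
    (h : CPi i n r.1 r.2 r'.1 r'.2) (h' : CPi i n s.1 s.2 s'.1 s'.2) : bet r' s' = bet r s := by
  obtain ⟨c, hc⟩ := h
  obtain ⟨d, hd⟩ := h'
  have e := congrArg (fun w => n * w * n⁻¹) (pau_comm (F := F) r.1 r.2 s.1 s.2)
  beta_reduce at e
  rw [show ∀ p q : GL (Pt 3) F, n * (p * q) * n⁻¹ = (n * p * n⁻¹) * (n * q * n⁻¹) from fun p q => by group] at e
  rw [show n * (sd F (fun _ => ip r.2 s.1 + ip s.2 r.1) * (pau F s.1 s.2 * pau F r.1 r.2)) * n⁻¹ =
      sd F (fun _ => ip r.2 s.1 + ip s.2 r.1) * ((n * pau F s.1 s.2 * n⁻¹) * (n * pau F r.1 r.2 * n⁻¹)) by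
    rw [← mul_assoc n, ← sd_const_mul]; group, hc, hd] at e
  have e' := congrArg (fun w : GL (Pt 3) F => (w : Mat F)) e
  simp only [Units.val_mul, C6Cplx52.sc_val, sd_const_val, smul_mul_assoc, one_mul, Matrix.mul_smul, smul_smul] at e'
  rw [pau_swap r' s', smul_smul] at e'
  have e'' := congrFun (congrFun e' ((r' + s').1)) 0
  rw [Matrix.smul_apply, Matrix.smul_apply, pau_pau, Matrix.smul_apply, pau_apply,
    if_pos (show (r' + s').1 = 0 + (s' + r').1 by rw [zero_add, add_comm r']), smul_eq_mul, smul_eq_mul,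
    smul_eq_mul] at e''
  have hne : (sgn F (ip s'.2 r'.1) * sgn F (ip (s' + r').2 0) : F) ≠ 0 :=
    mul_ne_zero (sgn_ne_zero _) (sgn_ne_zero _)
  have h3 := mul_right_cancel₀ hne e''
  refine sgn_inj h2 (mul_left_cancel₀ (mul_ne_zero (i ^ c).ne_zero (i ^ d).ne_zero) ?_)
  simp only [bet]
  linear_combination h3

/-- A quadratic function on the free pairs vanishes at one of them. -/
theorem exists_zero (R₀ R₁ : Pt 3 × Pt 3 → Pt 3 × Pt 3)
    (h₀ : ∀ v w, Free v → Free w → R₀ (v + w) = R₀ v + R₀ w)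
    (h₁ : ∀ v w, Free v → Free w → R₁ (v + w) = R₁ v + R₁ w) :
    ∃ v, Free v ∧ v ≠ 0 ∧ bet (R₀ v) (R₁ v) = 0 := by
  by_contra! hno
  have hq : ∀ v, Free v → v ≠ 0 → bet (R₀ v) (R₁ v) = 1 := fun v hv hv0 =>
    (zm_cases _).resolve_left (hno v hv hv0)
  let B := fun v w => bet (R₀ v) (R₁ w) + bet (R₀ w) (R₁ v)
  have hB : ∀ v w, Free v → Free w → v ≠ 0 → w ≠ 0 → v + w ≠ 0 → B v w = 1 := fun v w hv hw a b c => by
    have := hq _ (hv.add hw) c
    rw [h₀ v w hv hw, h₁ v w hv hw, bet_add_left, bet_add_right, bet_add_right, hq v hv a, hq w hw b] at this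
    show bet (R₀ v) (R₁ w) + bet (R₀ w) (R₁ v) = 1
    grind
  have f1 : Free (pe 1, 0) := ⟨pe_ne (show (0 : Fin 3) ≠ 1 by decide), rfl⟩
  have f2 : Free (0, pe 1) := ⟨rfl, pe_ne (show (0 : Fin 3) ≠ 1 by decide)⟩
  have f3 : Free (pe 2, 0) := ⟨pe_ne (show (0 : Fin 3) ≠ 2 by decide), rfl⟩
  have b1 := hB _ _ f1 f2 (by decide +kernel) (by decide +kernel) (by decide +kernel)
  have b2 := hB _ _ f1 f3 (by decide +kernel) (by decide +kernel) (by decide +kernel)
  have b3 := hB _ _ f1 (f2.add f3) (by decide +kernel) (by decide +kernel) (by decide +kernel)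
  simp only [B] at b1 b2 b3
  rw [h₀ _ _ f2 f3, h₁ _ _ f2 f3, bet_add_left, bet_add_right] at b3
  grind

end Cent42

variable {F : Type*} [Field F] {i : Fˣ}

open Cent42 in
/-- An element moving the free translations within the pairs of the two halves moves one of them to another. -/
theorem cent_one [Finite F] (h2 : (2 : F) ≠ 0) (hi : (i : F) * i = -1) {M : Subgroup (GL (Pt 3) F)}
    (hM : C6Cplx52.BaseC i M) (hD : DiagN i M) {g : GL (Pt 3) F} (hg : g ∈ Lev M {0})
    (hc : ∀ a b : Pt 3, a 0 = 0 → C6Cplx52.Nr i (g * pau F a b * g⁻¹) ∧ ∀ c e : Pt 3, c 0 = 0 →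
      ∃ w : Pt 3, (∀ j, j ≠ 0 → w j = 0) ∧ CPi i (g * pau F a b * g⁻¹) c e c (e + w)) :
    ∃ a b a' b', Val {0} a b ∧ Val {0} a' b' ∧ CPi i g a b a' b' := by
  classical
  have hgc := (mem_Lev'.1 hg).2 0 (Finset.mem_singleton_self 0)
  let y : Pt 3 × Pt 3 → GL (Pt 3) F := fun v => g * pau F v.1 v.2 * g⁻¹
  have yP : ∀ v, Free v → y v * sd F (ip (pe 0)) = sd F (ip (pe 0)) * y v := fun v hv =>
    (((show Commute g (sd F (ip (pe 0))) from hgc).mul_left (sd0_pau hv.1 v.2)).mul_left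
      (show Commute g (sd F (ip (pe 0))) from hgc).inv_left).eq
  have yY : ∀ v, (y v : Mat F) * y v = sgn F (ip v.2 v.1) • 1 := fun v => by
    rw [← Units.val_mul, show y v * y v = g * (pau F v.1 v.2 * pau F v.1 v.2) * g⁻¹ by simp only [y]; group, pau_mul,
      pt_add_self, pt_add_self, pau_zero, mul_one, conj_sd_const, sd_const_val]
  have hR : ∀ (e : ZMod 2) v, ∃ r, Free v → Free r ∧ Hf e (y v : Mat F) r := fun e v => by
    by_cases hv : Free v
    · obtain ⟨r, hr⟩ := hf_exists h2 (yP v hv) (yY v) ((hc v.1 v.2 hv.1).2) e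
      exact ⟨r, fun _ => hr⟩
    · exact ⟨0, fun h => absurd h hv⟩
  choose R hR using hR
  have hadd : ∀ e v w, Free v → Free w → R e (v + w) = R e v + R e w := fun e v w hv hw => by
    obtain ⟨r1, r2⟩ := hR e v hv
    obtain ⟨s1, s2⟩ := hR e w hw
    refine Hf.uniq h2 (hR e _ (hv.add hw)).1 (r1.add s1) (hR e _ (hv.add hw)).2 ?_
    have := (Hf.mul h2 r1 r2 s2).smul (sgn_ne_zero (F := F) (ip v.2 w.1))
    rwa [show (y v : Mat F) * y w = sgn F (ip v.2 w.1) • (y (v + w) : Mat F) by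
      rw [← Units.val_mul, show y v * y w = g * (pau F v.1 v.2 * pau F w.1 w.2) * g⁻¹ by simp only [y]; group,
        pau_mul, ← mul_assoc g, ← sd_const_mul, mul_assoc (sd F _), mul_assoc (sd F _), Units.val_mul, sd_const_val,
        smul_mul_assoc, one_mul]
      rfl, smul_smul, sgn_mul_self, one_smul] at this
  have hinj : ∀ e v, Free v → R e v = 0 → v = 0 := fun e v hv h0 => by
    obtain ⟨α, hα, h⟩ := (hR e v hv).2
    rw [h0, Prod.fst_zero, Prod.snd_zero, pau_zero, Units.val_one, mul_one] at h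
    refine Hf.uniq h2 hv free_zero (hf_pau e v) ⟨α, hα, ?_⟩
    rw [Prod.fst_zero, Prod.snd_zero, pau_zero, Units.val_one, mul_one]
    have e1 : pau F v.1 v.2 = g⁻¹ * y v * g := by simp only [y]; group
    rw [e1, Units.val_mul, Units.val_mul, ← mul_assoc, ← mul_assoc,
      comm_P h2 ((show Commute g (sd F (ip (pe 0))) from hgc).inv_left.eq), mul_assoc _ _ (y v : Mat F), h,
      Matrix.mul_smul, smul_mul_assoc, mul_assoc, comm_P h2 hgc, ← mul_assoc, ← Units.val_mul, inv_mul_cancel,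
      Units.val_one, one_mul]
  have val0 : ∀ r : Pt 3 × Pt 3, Free r → r ≠ 0 → ∀ u : Pt 3, (∀ j, j ≠ 0 → u j = 0) → Val {0} r.1 (r.2 + u) := by
    intro r hr hne u hu
    refine ⟨fun d hd => by rw [Finset.mem_singleton.1 hd]; exact hr.1, ?_⟩
    by_contra hno
    push Not at hno
    refine hne (Prod.ext (funext fun j => ?_) (funext fun j => ?_))
    · by_cases hj : j = 0
      · subst hj; exact hr.1
      · exact (zm_cases _).resolve_right ((hno j (by simpa using hj)).1)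
    · by_cases hj : j = 0
      · subst hj; exact hr.2
      · have := (zm_cases _).resolve_right ((hno j (by simpa using hj)).2)
        rwa [Pi.add_apply, hu j hj, add_zero] at this
  by_cases h1 : ∃ v, Free v ∧ v ≠ 0 ∧ R 0 v = R 1 v
  · obtain ⟨v, hv, hv0, heq⟩ := h1
    obtain ⟨hr, α, -, hα⟩ := hR 0 v hv
    obtain ⟨-, β, -, hβ⟩ := hR 1 v hv
    rw [← heq] at hβ
    set r := R 0 v
    have hr0 : r ≠ 0 := fun e => hv0 (hinj 0 v hv e)
    obtain ⟨n, hn⟩ := pow_of_sq hi (Hf.sq h2 hr hα (yY v))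
    obtain ⟨δ, hδ⟩ : ∃ δ : ZMod 2, β = α * sgn F δ := by
      rcases mul_self_eq_mul_self_iff.1 ((Hf.sq h2 hr hβ (yY v)).trans (Hf.sq h2 hr hα (yY v)).symm) with e | e
      · exact ⟨0, by simp [e]⟩
      · exact ⟨1, by simp [e, sgn_one]⟩
    refine ⟨v.1, v.2, r.1, r.2 + δ • pe 0, ?_, val0 r hr hr0 _ fun j hj => by simp [pe_ne hj], n, ?_⟩
    · simpa using val0 v hv hv0 0 fun _ _ => rfl
    show y v = _
    refine Units.ext ?_
    rw [← one_mul (y v : Mat F), ← P_add, add_mul, hα, hβ, Units.val_mul, C6Cplx52.sc_val, smul_mul_assoc, one_mul,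
      ← hn, hδ]
    ext x z
    simp only [Matrix.add_apply, Matrix.smul_apply, P_mul_apply, pau_apply, smul_eq_mul]
    by_cases hxz : x = z + r.1
    · rw [if_pos hxz, if_pos hxz, ip_add_left, ip_smul_left, ip_pe]
      have : z 0 = x 0 := by rw [hxz, Pi.add_apply, hr.1, add_zero]
      rw [this, sgn_add]
      rcases zm_cases (x 0) with h0 | h0 <;> simp [h0, mul_comm, mul_left_comm, mul_assoc]
    · rw [if_neg hxz, if_neg hxz]; simp
  exfalso
  push Not at h1
  obtain ⟨v, hv, hv0, hQ⟩ := exists_zero (R 0) (R 1) (hadd 0) (hadd 1)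
  obtain ⟨hr, hfr⟩ := hR 0 v hv
  obtain ⟨hs, hfs⟩ := hR 1 v hv
  set r := R 0 v
  set s := R 1 v
  have hval : ∀ w : Pt 3 × Pt 3, Free w → w ≠ 0 → Val {0} w.1 w.2 := fun w hw hw0 => by
    simpa using val0 w hw hw0 0 fun _ _ => rfl
  obtain ⟨n₀, hn₀, -, hc₀⟩ := reach hi hM (show (1 : Fin 3) ∉ ({0} : Finset (Fin 3)) by decide) (hval v hv hv0)
  obtain ⟨n₁, hn₁, hn₁n, hc₁⟩ := reach hi hM (show (1 : Fin 3) ∉ ({0} : Finset (Fin 3)) by decide)
    (hval r hr fun e => hv0 (hinj 0 v hv e))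
  obtain ⟨a', b', hs'⟩ := nr_iff.1 hn₁n s.1 s.2
  have hn₁c := (mem_Lev'.1 hn₁).2 0 (Finset.mem_singleton_self 0)
  have hZ0 : CPi i n₁ 0 (pe 0) 0 (pe 0) := ⟨0, by
    rw [pow_zero, map_one, one_mul, pau_sd, hn₁c, mul_inv_cancel_right]⟩
  have ha0 : a' 0 = 0 := by
    have := cp_bet h2 hi (r := (0, pe 0)) (r' := (0, pe 0)) (s := s) (s' := (a', b')) hZ0 hs'
    simpa [bet, ip_pe, ip_zero_right, hs.1] using this
  have ha1 : a' 1 = 0 := by
    have := cp_bet h2 hi (r := r) (r' := (0, pe 1)) (s := s) (s' := (a', b')) hc₁ hs'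
    rw [hQ] at this
    simpa [bet, ip_pe, ip_zero_right] using this
  have hval2 : Val {0, 1} a' b' := by
    refine ⟨fun d hd => ?_, 2, by decide, ?_⟩
    · rcases Finset.mem_insert.1 hd with rfl | hd
      · exact ha0
      · rw [Finset.mem_singleton.1 hd]; exact ha1
    by_contra hno
    push Not at hno
    have ea : a' = 0 := funext fun j => by
      fin_cases j <;> simp_all [(zm_cases (a' 2)).resolve_right hno.1]
    have eb : b' = b' 0 • pe 0 + b' 1 • pe 1 := funext fun j => by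
      fin_cases j <;> simp [pe, (zm_cases (b' 2)).resolve_right hno.2]
    have k1 := CPi.inv hi hs'
    have k0 := CPi.inv hi hZ0
    have kr := CPi.inv hi hc₁
    have kk : ∀ (c : ZMod 2) {p q : Pt 3 × Pt 3}, CPi i n₁⁻¹ p.1 p.2 q.1 q.2 →
        CPi i n₁⁻¹ (c • p).1 (c • p).2 (c • q).1 (c • q).2 := fun c p q h => by
      rcases zm_cases c with rfl | rfl
      · rw [zero_smul, zero_smul, Prod.fst_zero, Prod.snd_zero]
        exact ⟨0, by simp [pau_zero]⟩
      · rwa [one_smul, one_smul]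
    have k2 := cp_add hi (kk (b' 0) (p := (0, pe 0)) (q := (0, pe 0)) k0)
      (kk (b' 1) (p := (0, pe 1)) (q := r) kr)
    simp only [Prod.smul_mk, Prod.mk_add_mk, smul_zero, add_zero, zero_add, ← eb] at k2
    rw [ea] at k1
    obtain ⟨e1, e2⟩ := cp_uniq h2 k1 k2
    simp only [Prod.fst_add, Prod.snd_add, Prod.smul_fst, Prod.smul_snd, smul_zero, zero_add] at e1 e2
    have hb0 : b' 0 = 0 := by
      have := congrFun e2 0
      simpa [hs.2, hr.2] using this.symm
    rw [hb0, zero_smul, zero_add] at e2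
    have hsr : s = b' 1 • r := Prod.ext e1 e2
    rcases zm_cases (b' 1) with h | h <;> rw [h] at hsr
    · exact hv0 (hinj 1 v hv (by rw [zero_smul] at hsr; exact hsr))
    · exact h1 v hv hv0 (by rw [one_smul] at hsr; exact hsr.symm)
  obtain ⟨n₂, hn₂, -, hc₂⟩ := reach hi hM (show (2 : Fin 3) ∉ ({0, 1} : Finset (Fin 3)) by decide) hval2
  have hn₂c := (mem_Lev'.1 hn₂).2
  have hN : n₂ * n₁ ∈ M := M.mul_mem (mem_Lev'.1 hn₂).1 (mem_Lev'.1 hn₁).1
  have hNc : n₂ * n₁ * sd F (ip (pe 0)) = sd F (ip (pe 0)) * (n₂ * n₁) :=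
    ((show Commute n₂ (sd F (ip (pe 0))) from hn₂c 0 (by decide)).mul_left hn₁c).eq
  have cr : CPi i (n₂ * n₁) r.1 r.2 0 (pe 1) := hc₁.comp ⟨0, by
    rw [pow_zero, map_one, one_mul, pau_sd, hn₂c 1 (by decide), mul_inv_cancel_right]⟩
  have cs : CPi i (n₂ * n₁) s.1 s.2 0 (pe 2) := hs'.comp hc₂
  obtain ⟨m, hm⟩ := CPi.inv hi hc₀
  set h := n₂ * n₁ * g * n₀⁻¹ with hh
  have hY : ((h * pau F 0 (pe 1) * h⁻¹ : GL (Pt 3) F) : Mat F) =
      ((i ^ m : Fˣ) : F) • ((n₂ * n₁ * y v * (n₂ * n₁)⁻¹ : GL (Pt 3) F) : Mat F) := by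
    have : h * pau F 0 (pe 1) * h⁻¹ = C6Cplx52.sc (Pt 3) (i ^ m) * (n₂ * n₁ * y v * (n₂ * n₁)⁻¹) := by
      rw [show h * pau F 0 (pe 1) * h⁻¹ =
        n₂ * n₁ * g * (n₀⁻¹ * pau F 0 (pe 1) * n₀⁻¹⁻¹) * (n₂ * n₁ * g)⁻¹ by rw [hh]; group, hm, C6Cplx52.sc_pull]
      simp only [y]
      group
    rw [this, Units.val_mul, C6Cplx52.sc_val, smul_mul_assoc, one_mul]
  refine not_two h2 hi hM hD (h := h)
    (M.mul_mem (M.mul_mem hN (mem_Lev'.1 hg).1) (M.inv_mem (mem_Lev'.1 hn₀).1)) ?_ ?_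
  · rw [hY]; exact (hfr.conj h2 hNc (s := (0, pe 1)) cr).smul (Units.ne_zero _)
  · rw [hY]; exact (hfs.conj h2 hNc (s := (0, pe 2)) cs).smul (Units.ne_zero _)

end Cfsg.Agent.C6Cplx84
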