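import Cfsg.Agent.Lib.C6Cplx84Act
import Cfsg.Agent.Lib.C6Cplx52CoordRep

/-!
The whole overgroup: an element whose conjugates of the signed translations fix every signed translation up to
scalars maps one of them to a multiple of another.
-/

set_option autoImplicit false
set_option linter.unusedSectionVars false

namespace Cfsg.Agent.C6Cplx84

open Matrix Cfsg.Agent.C6Plus10 Cfsg.Agent.C6Cplx52
open scoped MatrixGroups

variable {F : Type*} [Field F] {k : ℕ} {i : Fˣ}

/-- An element commuting with all signs and all translations is a scalar. -/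
theorem eq_sc_of_comm (h2 : (2 : F) ≠ 0) {y : GL (Pt k) F}
    (hs : ∀ t : Fin k, y * pau F 0 (pe t) = pau F 0 (pe t) * y)
    (ht : ∀ t : Fin k, y * pau F (pe t) 0 = pau F (pe t) 0 * y) : ∃ l : Fˣ, y = sc (Pt k) l := by
  classical
  have hdiag : ∀ x z : Pt k, x ≠ z → (y : Matrix (Pt k) (Pt k) F) x z = 0 := by
    intro x z hxz
    obtain ⟨t, ht'⟩ := Function.ne_iff.1 hxz
    have h := congrFun (congrFun (congrArg (fun g : GL (Pt k) F => (g : Matrix (Pt k) (Pt k) F)) (hs t)) x) z
    simp only [pau_sd, Units.val_mul] at h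
    rw [show ((sd F (ip (pe t)) : GL (Pt k) F) : Matrix (Pt k) (Pt k) F) = Matrix.diagonal fun w => sgn F (ip (pe t) w)
      from rfl, Matrix.mul_diagonal, Matrix.diagonal_mul, ip_pe, ip_pe] at h
    have hne : sgn F (x t) ≠ sgn F (z t) := fun e => ht' (sgn_inj h2 e)
    by_contra h0
    exact hne (mul_right_cancel₀ h0 (h.symm.trans (mul_comm _ _)))
  have hconst : ∀ (t : Fin k) (x : Pt k),
      (y : Matrix (Pt k) (Pt k) F) (x + pe t) (x + pe t) = (y : Matrix (Pt k) (Pt k) F) x x := by
    intro t x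
    have h := congrFun (congrFun (congrArg (fun g : GL (Pt k) F => (g : Matrix (Pt k) (Pt k) F)) (ht t)) (x + pe t)) x
    simp only [Units.val_mul, Matrix.mul_apply, pau_eq, mon_apply] at h
    rw [Finset.sum_eq_single (x + pe t) (fun w _ hw => by rw [hdiag _ _ (Ne.symm hw), zero_mul]) (by simp),
      Finset.sum_eq_single x (fun w _ hw => by rw [hdiag _ _ hw, mul_zero]) (by simp)] at h
    simpa [ip_zero_left] using h
  have hall : ∀ x : Pt k, (y : Matrix (Pt k) (Pt k) F) x x = (y : Matrix (Pt k) (Pt k) F) 0 0 := by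
    intro x
    have key : ∀ S : Finset (Fin k), (y : Matrix (Pt k) (Pt k) F) (∑ t ∈ S, pe t) (∑ t ∈ S, pe t) =
        (y : Matrix (Pt k) (Pt k) F) 0 0 := by
      intro S
      induction S using Finset.induction_on with
      | empty => simp
      | insert a S ha ih => rw [Finset.sum_insert ha, add_comm, hconst, ih]
    have hx : x = ∑ t ∈ Finset.univ.filter (fun t => x t = 1), pe t := by
      funext j
      rw [Finset.sum_apply]
      simp only [pe, Pi.single_apply]
      rw [Finset.sum_ite_eq]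
      rcases zm_cases (x j) with h | h <;> simp [h]
    rw [hx, key]
  have hy : (y : Matrix (Pt k) (Pt k) F) = ((y : Matrix (Pt k) (Pt k) F) 0 0) • 1 := by
    ext x z
    rcases eq_or_ne x z with rfl | h
    · simp [hall x]
    · simp [hdiag x z h, Matrix.one_apply_ne h]
  have h0 : (y : Matrix (Pt k) (Pt k) F) 0 0 ≠ 0 := fun h0 => by
    rw [h0, zero_smul] at hy
    exact y.ne_zero hy
  exact ⟨Units.mk0 _ h0, Units.ext (by rw [sc_val]; exact hy)⟩

theorem sc_val_inj [Nonempty (Pt k)] {c d : Fˣ} (h : sc (Pt k) c = sc (Pt k) d) : c = d :=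
  sc_injective h

/-- A signed translation squared is a sign. -/
theorem pau_sq (a b : Pt k) : pau F a b * pau F a b = sd F (fun _ => ip b a) := by
  rw [pau_mul, pt_add_self, pt_add_self, pau_zero, mul_one]

theorem comm_aux {G : Type*} [Group G] {U y P s : G} (h1 : y * P = s * (P * y)) (h2 : U * P = s * (P * U)) :
    U⁻¹ * y * P = P * (U⁻¹ * y) := by
  have hsP : s * P = U * P * U⁻¹ := by rw [h2]; group
  rw [mul_assoc, h1, ← mul_assoc s, hsP]
  group

/-- The element of `cent_top`: a multiple of a signed translation. -/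
theorem cent_top (h2 : (2 : F) ≠ 0) (hi : (i : F) * i = -1) (hk : 0 < k) {g : GL (Pt k) F}
    (hc : ∀ a b c e : Pt k, CPi i (g * pau F a b * g⁻¹) c e c e) :
    ∃ a b a' b' : Pt k, Val ∅ a b ∧ Val ∅ a' b' ∧ CPi i g a b a' b' := by
  classical
  set a : Pt k := pe ⟨0, hk⟩ with ha
  set y := g * pau F a 0 * g⁻¹ with hy
  have hy2 : y * y = 1 := by
    rw [hy, show g * pau F a 0 * g⁻¹ * (g * pau F a 0 * g⁻¹) = g * (pau F a 0 * pau F a 0) * g⁻¹ by group, pau_sq,
      ip_zero_left, sd_const_zero, mul_one, mul_inv_cancel]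
  -- the sign by which it moves each signed translation
  have hβ : ∀ c e : Pt k, ∃ z : ZMod 2, y * pau F c e = sd F (fun _ => z) * (pau F c e * y) := by
    intro c e
    obtain ⟨n, hn⟩ := hc a 0 c e
    have h1 : sc (Pt k) ((i ^ n) * (i ^ n)) = (1 : GL (Pt k) F) := by
      have h : y * (pau F c e * pau F c e) * y⁻¹ = sc (Pt k) (i ^ n * i ^ n) * (pau F c e * pau F c e) := by
        rw [show y * (pau F c e * pau F c e) * y⁻¹ = y * pau F c e * y⁻¹ * (y * pau F c e * y⁻¹) by group, hn,
          mul_assoc, sc_pull, ← mul_assoc, ← map_mul]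
      rw [pau_sq, conj_sd_const] at h
      exact (mul_eq_right.1 h.symm)
    have h1' : ((i : F) ^ n) * (i : F) ^ n = 1 := by
      have := congrArg (fun u : Fˣ => (u : F)) (sc_val_inj (h1.trans (map_one _).symm))
      simpa using this
    replace hn : y * pau F c e = sc (Pt k) (i ^ n) * (pau F c e * y) := by
      rw [← mul_assoc]; exact mul_inv_eq_iff_eq_mul.1 hn
    rcases mul_self_eq_one_iff.1 h1' with h | h
    · exact ⟨0, by rw [hn, show i ^ n = 1 from Units.ext (by simpa using h), map_one, sd_const_zero]⟩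
    · exact ⟨1, by
        rw [hn, sd_const_sc hi, show (1 : ZMod 2).val = 1 from rfl, mul_one]
        congr 2
        exact Units.ext (by simp [h, pow_two, hi])⟩
  choose β hβ using hβ
  set u : Pt k := fun t => β 0 (pe t) with hu
  set w : Pt k := fun t => β (pe t) 0 with hw
  obtain ⟨l, hl⟩ : ∃ l : Fˣ, (pau F u w)⁻¹ * y = sc (Pt k) l := by
    refine eq_sc_of_comm h2 (fun t => comm_aux (hβ 0 (pe t)) ?_) fun t => comm_aux (hβ (pe t) 0) ?_
    · rw [pau_comm u w 0 (pe t), show ip w (0 : Pt k) = 0 from dotProduct_zero w, ip_pe, zero_add, hu]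
    · rw [pau_comm u w (pe t) 0, ip_zero_left, add_zero, show ip w (pe t) = w t by
        rw [ip, pe, dotProduct_single, mul_one], hw]
  have hyl : y = sc (Pt k) l * pau F u w := by rw [← sc_comm, ← hl, mul_inv_cancel_left]
  have hl4 : ∃ n : ℕ, l = i ^ n := by
    have h : sc (Pt k) (l * l) * sd F (fun _ => ip w u) = (1 : GL (Pt k) F) := by
      rw [← hy2, hyl, mul_assoc (sc (Pt k) l), sc_pull, ← mul_assoc (sc (Pt k) l), ← map_mul, pau_sq]
    rw [sd_const_sc hi, ← map_mul] at h
    have h' := congrArg (fun v : Fˣ => (v : F)) (sc_val_inj (h.trans (map_one _).symm))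
    simp only [Units.val_mul, Units.val_pow_eq_pow_val, Units.val_one] at h'
    rcases zm_cases (ip w u) with hz | hz <;> rw [hz] at h'
    · rw [show (0 : ZMod 2).val = 0 from rfl, mul_zero, pow_zero, mul_one] at h'
      rcases mul_self_eq_one_iff.1 h' with h | h
      · exact ⟨0, Units.ext (by simp [h])⟩
      · exact ⟨2, Units.ext (by simp [h, pow_two, hi])⟩
    · rw [show (1 : ZMod 2).val = 1 from rfl, mul_one, pow_two, hi, mul_neg, mul_one, neg_eq_iff_eq_neg, ← hi] at h'
      rcases mul_self_eq_mul_self_iff.1 h' with h | h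
      · exact ⟨1, Units.ext (by simp [h])⟩
      · exact ⟨3, Units.ext (by rw [Units.val_pow_eq_pow_val, pow_succ, pow_two, hi, h, neg_one_mul])⟩
  have hne : ¬ (u = 0 ∧ w = 0) := by
    rintro ⟨hu0, hw0⟩
    rw [hu0, hw0, pau_zero, mul_one, hy, mul_inv_eq_iff_eq_mul, ← sc_comm, mul_right_inj] at hyl
    have h := congrFun (congrFun (congrArg (fun v : GL (Pt k) F => (v : Matrix (Pt k) (Pt k) F)) hyl) a) 0
    have ha0 : a ≠ 0 := fun e => by simpa [ha] using congrFun e ⟨0, hk⟩
    simp only [sc_val, pau_eq, mon_apply, Matrix.smul_apply, Matrix.one_apply_ne ha0, smul_zero] at h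
    simp [ip_zero_left] at h
  obtain ⟨n, hn⟩ := hl4
  refine ⟨a, 0, u, w, ⟨by simp, ⟨0, hk⟩, by simp, Or.inl (by simp [ha])⟩, ⟨by simp, ?_⟩, n, by rw [← hn]; exact hyl⟩
  by_contra! hall
  exact hne ⟨funext fun j => (zm_cases (u j)).resolve_right (hall j (by simp)).1,
    funext fun j => (zm_cases (w j)).resolve_right (hall j (by simp)).2⟩

end Cfsg.Agent.C6Cplx84
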