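import Cfsg.Agent.Lib.TensorMaxBasic

/-!
The stabiliser of a tensor decomposition is maximal in the special linear group.
-/

set_option autoImplicit false
set_option linter.unusedSectionVars false

namespace Cfsg.Agent.TensorMax

open scoped Matrix MatrixGroups Kronecker
open Cfsg.Agent.TransvectionMax

variable {F : Type*} [Field F] {k l : ℕ}

/-- Some element of `M` has the matrix `1 + X`. -/
def MemOne (M : Subgroup (GL (Fin k × Fin l) F)) (X : Matrix (Fin k × Fin l) (Fin k × Fin l) F) : Prop :=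
  ∃ g ∈ M, (g : Matrix (Fin k × Fin l) (Fin k × Fin l) F) = 1 + X

section Elem

variable {M : Subgroup (GL (Fin k × Fin l) F)}

theorem memOne_add {X Y : Matrix (Fin k × Fin l) (Fin k × Fin l) F} (hX : MemOne M X) (hY : MemOne M Y)
    (h : X * Y = 0) : MemOne M (X + Y) := by
  obtain ⟨g, hg, hgX⟩ := hX
  obtain ⟨g', hg', hgY⟩ := hY
  refine ⟨g * g', M.mul_mem hg hg', ?_⟩
  rw [Units.val_mul, hgX, hgY, add_mul, one_mul, mul_add, mul_one, h]
  abel

/-- The commutator of `1 + Z` and `1 + X`. -/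
theorem memOne_comm {X Z : Matrix (Fin k × Fin l) (Fin k × Fin l) F} (hX : MemOne M X) (hZ : MemOne M Z)
    (hXX : X * X = 0) (hZZ : Z * Z = 0) (hXZX : X * Z * X = 0) (hZXZ : Z * X * Z = 0) :
    MemOne M (Z * X - X * Z) := by
  obtain ⟨g, hg, hgX⟩ := hX
  obtain ⟨h, hh, hhZ⟩ := hZ
  refine ⟨h * g * h⁻¹ * g⁻¹, M.mul_mem (M.mul_mem (M.mul_mem hh hg) (M.inv_mem hh)) (M.inv_mem hg), ?_⟩
  have hg' : ((g⁻¹ : GL (Fin k × Fin l) F) : Matrix (Fin k × Fin l) (Fin k × Fin l) F) = 1 - X :=
    Units.inv_eq_of_mul_eq_one_right (by rw [hgX, add_mul, one_mul, mul_sub, mul_one, hXX]; abel)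
  have hh' : ((h⁻¹ : GL (Fin k × Fin l) F) : Matrix (Fin k × Fin l) (Fin k × Fin l) F) = 1 - Z :=
    Units.inv_eq_of_mul_eq_one_right (by rw [hhZ, add_mul, one_mul, mul_sub, mul_one, hZZ]; abel)
  rw [Units.val_mul, Units.val_mul, Units.val_mul, hgX, hhZ, hg', hh']
  have e1 : (1 + Z) * (1 + X) * (1 - Z) = 1 + X + Z * X - X * Z := by
    calc (1 + Z) * (1 + X) * (1 - Z) = 1 + X + Z * X - X * Z - Z * Z - Z * X * Z := by noncomm_ring
      _ = _ := by rw [hZZ, hZXZ]; abel
  rw [e1]
  calc (1 + X + Z * X - X * Z) * (1 - X)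
      = 1 + (Z * X - X * Z) - X * X - Z * (X * X) + X * Z * X := by noncomm_ring
    _ = _ := by rw [hXX, hXZX, mul_zero]; abel

theorem memOne_single_comm {p q r : Fin k × Fin l} (hpq : p ≠ q) (hqr : q ≠ r) (hpr : p ≠ r) {t : F}
    (h1 : MemOne M (Matrix.single p q t)) (h2 : MemOne M (Matrix.single q r (1 : F))) :
    MemOne M (Matrix.single p r t) := by
  have := memOne_comm h2 h1 (by simp [hqr.symm]) (by simp [hpq.symm]) (by simp [hpr.symm]) (by simp [hpr.symm])
  simpa [hpr.symm] using this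

theorem xr_val {b ψ : Fin l → F} (h : ψ ⬝ᵥ b = 0) :
    (xr k b ψ : Matrix (Fin k × Fin l) (Fin k × Fin l) F) =
      1 + (1 : Matrix (Fin k) (Fin k) F) ⊗ₖ Matrix.vecMulVec b ψ := by
  rw [xr, kr_val, Units.val_one, tv, dif_pos h, Matrix.kronecker_add, Matrix.one_kronecker_one]

theorem xr_mem_sl (b ψ : Fin l → F) : xr k b ψ ∈ Cfsg.Geo.specialLinear (Fin k × Fin l) F := by
  rw [Cfsg.Geo.specialLinear, MonoidHom.mem_ker]
  apply Units.ext
  have h := congrArg Units.val (tv_det b ψ)
  rw [Matrix.GeneralLinearGroup.val_det_apply] at h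
  rw [Matrix.GeneralLinearGroup.val_det_apply, xr, kr_det, h]
  simp

theorem kr_mem_sl {a : GL (Fin k) F} {b : GL (Fin l) F} (ha : Matrix.GeneralLinearGroup.det a = 1)
    (hb : Matrix.GeneralLinearGroup.det b = 1) : kr a b ∈ Cfsg.Geo.specialLinear (Fin k × Fin l) F := by
  rw [Cfsg.Geo.specialLinear, MonoidHom.mem_ker]
  apply Units.ext
  have h1 := congrArg Units.val ha
  have h2 := congrArg Units.val hb
  rw [Matrix.GeneralLinearGroup.val_det_apply] at h1 h2
  rw [Matrix.GeneralLinearGroup.val_det_apply, kr_det, h1, h2]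
  simp

/-- From a few elementary matrices to all of them. -/
theorem all_single (hl : 3 ≤ l) (hk : 2 ≤ k) (a₀ : Fin l)
    (hH : ∀ b ψ : Fin l → F, xr k b ψ ∈ M)
    (h : ∀ i j b, i ≠ j → b ≠ a₀ → ∀ t : F, MemOne M (Matrix.single (i, a₀) (j, b) t)) :
    ∀ p q, p ≠ q → ∀ t : F, MemOne M (Matrix.single p q t) := by
  classical
  -- commutators with the root elements of the second factor
  have key : ∀ i j (a b c d : Fin l) (t : F), c ≠ d → MemOne M (Matrix.single (i, a) (j, b) t) → a ≠ b →
      ((d = a ∧ c ≠ b → MemOne M (Matrix.single (i, c) (j, b) t)) ∧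
        (c = b ∧ d ≠ a → MemOne M (Matrix.single (i, a) (j, d) (-t)))) := by
    intro i j a b c d t hcd hm hab
    have hψ : (Pi.single d 1 : Fin l → F) ⬝ᵥ Pi.single c 1 = 0 := by simp [hcd]
    have hZ : MemOne M ((1 : Matrix (Fin k) (Fin k) F) ⊗ₖ Matrix.single c d (1 : F)) := by
      refine ⟨_, hH (Pi.single c 1) (Pi.single d 1), ?_⟩
      rw [xr_val hψ]
      congr 2
      ext x y
      simp only [Matrix.vecMulVec_apply, Matrix.single_apply, Pi.single_apply, mul_ite, mul_one, mul_zero]
      by_cases hx : x = c <;> by_cases hy : y = d <;> simp [hx, hy, Ne.symm, eq_comm]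
    have hX : Matrix.single (i, a) (j, b) t = Matrix.single i j t ⊗ₖ Matrix.single a b (1 : F) := by
      rw [Matrix.single_kronecker_single, mul_one]
    refine ⟨fun ⟨hda, hcb⟩ => ?_, fun ⟨hcb, hda⟩ => ?_⟩
    · subst hda
      rw [hX] at hm
      have := memOne_comm hm hZ (by simp [← Matrix.mul_kronecker_mul, hab.symm])
        (by simp [← Matrix.mul_kronecker_mul, hcd.symm]) (by simp [← Matrix.mul_kronecker_mul, hcb.symm])
        (by simp [← Matrix.mul_kronecker_mul, hcb.symm])
      have z : (Matrix.single d b (1 : F) * Matrix.single c d (1 : F) : Matrix (Fin l) (Fin l) F) = 0 := by simp [hcb.symm]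
      simp only [← Matrix.mul_kronecker_mul, one_mul, mul_one, Matrix.single_mul_single_same, z,
        Matrix.kronecker_zero, sub_zero] at this
      rwa [Matrix.single_kronecker_single, mul_one] at this
    · subst hcb
      rw [hX] at hm
      have := memOne_comm hm hZ (by simp [← Matrix.mul_kronecker_mul, hab.symm])
        (by simp [← Matrix.mul_kronecker_mul, hcd.symm]) (by simp [← Matrix.mul_kronecker_mul, hda])
        (by simp [← Matrix.mul_kronecker_mul, hda])
      have z : (Matrix.single c d (1 : F) * Matrix.single a c (1 : F) : Matrix (Fin l) (Fin l) F) = 0 := by simp [hda]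
      simp only [← Matrix.mul_kronecker_mul, one_mul, mul_one, Matrix.single_mul_single_same, z,
        Matrix.kronecker_zero, zero_sub] at this
      rw [Matrix.single_kronecker_single, mul_one] at this
      convert this using 1
      ext x y
      simp [Matrix.single_apply]; split_ifs <;> simp
  -- the second indices different
  have step1 : ∀ i j a b, i ≠ j → a ≠ b → ∀ t : F, MemOne M (Matrix.single (i, a) (j, b) t) := by
    intro i j a b hij hab t
    by_cases ha : a = a₀
    · exact ha ▸ h i j b hij (ha ▸ hab.symm) t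
    by_cases hb : b = a₀
    · subst hb
      obtain ⟨d, hd1, hd2⟩ : ∃ d : Fin l, d ≠ a ∧ d ≠ b := by
        obtain ⟨d, hd⟩ := (({a, b} : Finset (Fin l))ᶜ).card_pos.1 (by
          rw [Finset.card_compl, Fintype.card_fin]
          have := Finset.card_le_two (a := a) (b := b)
          omega)
        exact ⟨d, by simpa using hd⟩
      have h1 := ((key i j b d a b (-t) ha (h i j d hij hd2 (-t)) hd2.symm).1 ⟨rfl, hd1.symm⟩)
      have h2 := (key i j a d d b (-t) hd2 h1 hd1.symm).2 ⟨rfl, hab.symm⟩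
      rwa [neg_neg] at h2
    · exact (key i j a₀ b a a₀ t ha (h i j b hij hb t) (Ne.symm hb)).1 ⟨rfl, hab⟩
  have other : ∀ i : Fin k, ∃ j, j ≠ i := fun i => Fintype.exists_ne_of_one_lt_card (by simp; omega) i
  have other2 : ∀ a b : Fin l, ∃ d, d ≠ a ∧ d ≠ b := fun a b => by
    obtain ⟨d, hd⟩ := (({a, b} : Finset (Fin l))ᶜ).card_pos.1 (by
      rw [Finset.card_compl, Fintype.card_fin]
      have := Finset.card_le_two (a := a) (b := b)
      omega)
    exact ⟨d, by simpa using hd⟩
  rintro ⟨i, a⟩ ⟨j, b⟩ hpq t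
  have step2 : ∀ i a b, a ≠ b → ∀ t : F, MemOne M (Matrix.single (i, a) (i, b) t) := by
    intro i a b hab t
    obtain ⟨j, hj⟩ := other i
    obtain ⟨d, hda, hdb⟩ := other2 a b
    exact memOne_single_comm (q := (j, d)) (by simp [hj.symm]) (by simp [hj]) (by simp [hab])
      (step1 i j a d hj.symm hda.symm t) (step1 j i d b hj hdb 1)
  by_cases hij : i = j
  · subst hij
    exact step2 i a b (fun e => hpq (by rw [e])) t
  by_cases hab : a = b
  · subst hab
    obtain ⟨d, hd, -⟩ := other2 a a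
    exact memOne_single_comm (q := (i, d)) (by simp [hd.symm]) (by simp [hij]) (by simp [hij])
      (step2 i a d hd.symm t) (step1 i j d a hij hd 1)
  · exact step1 i j a b hij hab t

end Elem

/-- A subgroup with all elementary matrices contains the special linear group. -/
theorem specialLinear_le_of_single {ι : Type} [Fintype ι] [DecidableEq ι] {M : Subgroup (GL ι F)}
    (h : ∀ p q : ι, p ≠ q → ∀ t : F, ∃ g ∈ M, (g : Matrix ι ι F) = 1 + Matrix.single p q t) :
    Cfsg.Geo.specialLinear ι F ≤ M := by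
  let S : Matrix ι ι F → Prop := fun A => ∃ g ∈ M, (g : Matrix ι ι F) = A
  have hmul : ∀ A B, S A → S B → S (A * B) := by
    rintro A B ⟨a, ha, rfl⟩ ⟨b, hb, rfl⟩
    exact ⟨a * b, M.mul_mem ha hb, rfl⟩
  have hT : ∀ i j : ι, i ≠ j → ∀ c : F, S (Matrix.transvection i j c) := fun i j hij c => h i j hij c
  have hh : ∀ i j : ι, i ≠ j → ∀ a : F, a ≠ 0 →
      S (Matrix.diagonal (fun k => if k = i then a else if k = j then a⁻¹ else 1)) := by
    intro i j hij a ha
    have key : Matrix.transvection i j a * Matrix.transvection j i (-a⁻¹) * Matrix.transvection i j a *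
        (Matrix.transvection i j (-1) * Matrix.transvection j i (1 : F) * Matrix.transvection i j (-1)) =
        Matrix.diagonal (fun k => if k = i then a else if k = j then a⁻¹ else 1) := by
      refine Matrix.ext_iff_mulVec.mpr fun x => ?_
      have tr : ∀ (p r : ι) (c : F) (y : ι → F),
          Matrix.transvection p r c *ᵥ y = fun k => y k + (if k = p then c * y r else 0) := by
        intro p r c y
        ext k
        simp only [Matrix.transvection, Matrix.add_mulVec, Matrix.one_mulVec, Pi.add_apply,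
          Matrix.single_mulVec]
        simp [Function.update_apply]
      simp only [← Matrix.mulVec_mulVec, tr]
      ext k
      rw [Matrix.mulVec_diagonal]
      by_cases hki : k = i
      · subst hki
        simp only [if_true, if_neg hij, if_neg hij.symm, add_zero]
        field_simp
        ring
      · by_cases hkj : k = j
        · subst hkj
          simp only [if_true, if_neg hij, if_neg hki, add_zero]
          field_simp
          ring
        · simp [hki, hkj]
    rw [← key]
    exact hmul _ _ (hmul _ _ (hmul _ _ (hT i j hij a) (hT j i hij.symm _)) (hT i j hij a))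
      (hmul _ _ (hmul _ _ (hT i j hij _) (hT j i hij.symm _)) (hT i j hij _))
  have hdiag : ∀ D : ι → F, ∏ k, D k = 1 → S (Matrix.diagonal D) := by
    intro D hD
    rcases isEmpty_or_nonempty ι with hι | ⟨⟨i0⟩⟩
    · exact ⟨1, M.one_mem, Subsingleton.elim _ _⟩
    have hne : ∀ k, D k ≠ 0 := fun k hk => by
      rw [Finset.prod_eq_zero (Finset.mem_univ k) hk] at hD
      exact zero_ne_one hD
    have step : ∀ s : Finset ι, i0 ∉ s →
        S (Matrix.diagonal (fun k => if k = i0 then (∏ i ∈ s, D i)⁻¹ else if k ∈ s then D k else 1)) := by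
      intro s
      induction s using Finset.induction with
      | empty =>
        intro _
        refine ⟨1, M.one_mem, ?_⟩
        simp
      | insert a t hat ih =>
        intro h0
        rw [Finset.mem_insert, not_or] at h0
        have := hmul _ _ (ih h0.2) (hh a i0 (Ne.symm h0.1) (D a) (hne a))
        rw [Matrix.diagonal_mul_diagonal] at this
        convert this using 2
        ext k
        by_cases hk : k = i0
        · subst hk
          simp [h0.1, Finset.prod_insert hat, mul_comm]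
        · by_cases hka : k = a
          · subst hka
            simp [hk, hat]
          · simp [hk, hka]
    have := step (Finset.univ.erase i0) (by simp)
    convert this using 2
    ext k
    by_cases hk : k = i0
    · subst hk
      simp only [if_true]
      refine eq_inv_of_mul_eq_one_left ?_
      rw [Finset.mul_prod_erase Finset.univ D (Finset.mem_univ k), hD]
    · simp [hk]
  intro g hg
  rw [Cfsg.Geo.specialLinear, MonoidHom.mem_ker] at hg
  have hdet : (g : Matrix ι ι F).det = 1 := by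
    simpa using congrArg (Units.val) hg
  obtain ⟨u, hh', he⟩ := Matrix.diagonal_transvection_induction S (g : Matrix ι ι F)
    (fun D hD => hdiag D (by rw [Matrix.det_diagonal] at hD; rw [hD, hdet]))
    (fun t => hT t.i t.j t.hij t.c) hmul
  rwa [← Units.ext he]


/-- A subspace of matrices invariant under conjugation by transvections which contains a non-scalar matrix
contains every off-diagonal matrix unit. -/
theorem single_mem_of_invariant {n : ℕ} (S : Submodule F (Matrix (Fin n) (Fin n) F))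
    (hn : 2 ≤ n) (hq : n = 2 → ∃ t : F, t ≠ 0 ∧ t ≠ 1)
    (hinv : ∀ C ∈ S, ∀ i j, i ≠ j → ∀ t : F,
      (1 + Matrix.single i j t) * C * (1 - Matrix.single i j t) ∈ S)
    {C : Matrix (Fin n) (Fin n) F} (hC : C ∈ S) (hns : ¬ ∃ d : F, C = d • 1) :
    ∀ i j, i ≠ j → Matrix.single i j (1 : F) ∈ S := by
  classical
  have hdiff : ∀ C ∈ S, ∀ i j, i ≠ j → ∀ t : F,
      t • (Matrix.single i j 1 * C - C * Matrix.single i j 1) -
        (t * t) • (Matrix.single i j 1 * C * Matrix.single i j 1) ∈ S := by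
    intro C hC i j hij t
    have h := S.sub_mem (hinv C hC i j hij t) hC
    convert h using 1
    rw [show Matrix.single i j t = t • Matrix.single i j (1 : F) by simp]
    simp only [add_mul, one_mul, mul_sub, mul_one, Matrix.smul_mul, Matrix.mul_smul, smul_smul, smul_sub]
    abel
  have hsq : ∀ (C : Matrix (Fin n) (Fin n) F) i j,
      Matrix.single i j (1 : F) * C * Matrix.single i j 1 = C j i • Matrix.single i j 1 := fun C i j => by
    rw [Matrix.single_mul_mul_single]
    simp
  -- some matrix unit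
  obtain ⟨i₀, j₀, hij₀, h₀⟩ : ∃ i j, i ≠ j ∧ Matrix.single i j (1 : F) ∈ S := by
    by_cases hoff : ∃ i j, i ≠ j ∧ C j i ≠ 0
    · obtain ⟨i, j, hij, hc⟩ := hoff
      rcases eq_or_lt_of_le hn with hn2 | hn2
      · obtain ⟨t, ht0, ht1⟩ := hq hn2.symm
        refine ⟨i, j, hij, ?_⟩
        have h1 := hdiff C hC i j hij 1
        have h2 := hdiff C hC i j hij t
        rw [hsq] at h1 h2
        have h3 := S.sub_mem (S.smul_mem t h1) h2
        have hne : (t * t - t) * C j i ≠ 0 := mul_ne_zero (by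
          rw [← mul_sub_one]; exact mul_ne_zero ht0 (sub_ne_zero.2 ht1)) hc
        have := S.smul_mem ((t * t - t) * C j i)⁻¹ h3
        convert this using 1
        generalize Matrix.single i j (1 : F) * C - C * Matrix.single i j 1 = X
        match_scalars
        · field_simp [sub_ne_zero]
          ring
        · ring
      · obtain ⟨m, hmi, hmj⟩ : ∃ m, m ≠ i ∧ m ≠ j := by
          obtain ⟨d, hd⟩ := (({i, j} : Finset (Fin n))ᶜ).card_pos.1 (by
            rw [Finset.card_compl, Fintype.card_fin]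
            have := Finset.card_le_two (a := i) (b := j)
            omega)
          exact ⟨d, by simpa using hd⟩
        refine ⟨i, j, hij, ?_⟩
        set D₁ := (1 : F) • (Matrix.single i j 1 * C - C * Matrix.single i j 1) -
          ((1 : F) * 1) • (Matrix.single i j 1 * C * Matrix.single i j 1) with hD₁
        have hm1 : D₁ ∈ S := hdiff C hC i j hij 1
        have hD₂ : (1 : F) • (Matrix.single i m 1 * D₁ - D₁ * Matrix.single i m 1) -
            ((1 : F) * 1) • (Matrix.single i m 1 * D₁ * Matrix.single i m 1) =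
            (-C m i) • Matrix.single i j 1 - C j i • Matrix.single i m 1 := by
          rw [hD₁]
          ext x y
          simp [Matrix.mul_apply, Matrix.single_apply, Finset.sum_ite_eq, ite_and, Finset.mul_sum, Finset.sum_mul,
            hij, hij.symm, hmi, hmi.symm, hmj, hmj.symm]
          split_ifs <;> simp_all
        have hm2 := hdiff D₁ hm1 i m hmi.symm 1
        rw [hD₂] at hm2
        have hm3 := hdiff _ hm2 m j hmj 1
        have := S.smul_mem (C j i)⁻¹ hm3
        convert this using 1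
        simp [sub_mul, mul_sub, hij.symm, hmi.symm, hmj, hmj.symm, hc]
    · push_neg at hoff
      have hdiag : ∃ i j, C i i ≠ C j j := by
        by_contra! h
        refine hns ⟨C ⟨0, by omega⟩ ⟨0, by omega⟩, ?_⟩
        ext i j
        by_cases hij : i = j
        · subst hij
          simpa using h i ⟨0, by omega⟩
        · simpa [hij] using hoff j i (Ne.symm hij)
      obtain ⟨i, j, hd⟩ := hdiag
      have hij : i ≠ j := fun e => hd (by rw [e])
      refine ⟨i, j, hij, ?_⟩
      have h1 := hdiff C hC i j hij 1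
      rw [hsq, hoff i j hij, zero_smul, smul_zero, sub_zero, one_smul] at h1
      have e : Matrix.single i j (1 : F) * C - C * Matrix.single i j 1 = (C j j - C i i) • Matrix.single i j 1 := by
        ext x y
        by_cases hx : x = i <;> by_cases hy : y = j
        · subst hx hy; simp [hij, hij.symm]
        · subst hx; simp [hy, Ne.symm hy, hoff _ _ hy, hoff _ _ (Ne.symm hy)]
        · subst hy; simp [hx, Ne.symm hx, hoff _ _ (Ne.symm hx), hoff _ _ hx]
        · simp [hx, hy, Ne.symm hx, Ne.symm hy]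
      rw [e] at h1
      have := S.smul_mem (C j j - C i i)⁻¹ h1
      rwa [smul_smul, inv_mul_cancel₀ (sub_ne_zero.2 (Ne.symm hd)), one_smul] at this
  -- all of them
  have hleft : ∀ i j m, i ≠ j → m ≠ i → m ≠ j → Matrix.single i j (1 : F) ∈ S → Matrix.single m j (1 : F) ∈ S := by
    intro i j m hij hmi hmj h
    simpa [hij, hij.symm, hmi, hmi.symm, hmj, hmj.symm] using hdiff _ h m i hmi 1
  have hright : ∀ i j m, i ≠ j → m ≠ i → m ≠ j → Matrix.single i j (1 : F) ∈ S → Matrix.single i m (1 : F) ∈ S := by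
    intro i j m hij hmi hmj h
    simpa [hij, hij.symm, hmi, hmi.symm, hmj, hmj.symm] using hdiff _ h j m hmj.symm 1
  have hswap : Matrix.single j₀ i₀ (1 : F) ∈ S := by
    rcases eq_or_lt_of_le hn with hn2 | hn2
    · obtain ⟨t, ht0, ht1⟩ := hq hn2.symm
      have h1 := hdiff _ h₀ j₀ i₀ hij₀.symm 1
      have h2 := hdiff _ h₀ j₀ i₀ hij₀.symm t
      rw [hsq] at h1 h2
      have h3 := S.sub_mem (S.smul_mem t h1) h2
      have := S.smul_mem (t * t - t)⁻¹ h3
      convert this using 1
      simp only [Matrix.single_apply, and_self, if_true, one_smul, mul_one, smul_sub, smul_smul]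
      rw [sub_sub_sub_cancel_left, ← sub_smul, ← mul_sub, inv_mul_cancel₀ (by
        rw [← mul_sub_one]; exact mul_ne_zero ht0 (sub_ne_zero.2 ht1)), one_smul]
    · obtain ⟨m, hmi, hmj⟩ : ∃ m, m ≠ i₀ ∧ m ≠ j₀ := by
        obtain ⟨d, hd⟩ := (({i₀, j₀} : Finset (Fin n))ᶜ).card_pos.1 (by
          rw [Finset.card_compl, Fintype.card_fin]
          have := Finset.card_le_two (a := i₀) (b := j₀)
          omega)
        exact ⟨d, by simpa using hd⟩
      have a1 := hleft _ _ m hij₀ hmi hmj h₀
      have a2 := hright _ _ i₀ hmj hmi.symm hij₀ a1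
      exact hleft _ _ j₀ hmi hmj.symm hij₀.symm a2
  intro i j hij
  by_cases hi : i = i₀
  · subst hi
    by_cases hj : j = j₀
    · subst hj; exact h₀
    · exact hright _ _ j hij₀ (Ne.symm hij) hj h₀
  by_cases hj : j = j₀
  · subst hj
    exact hleft _ _ i hij₀ hi hij h₀
  by_cases hi' : i = j₀
  · subst hi'
    by_cases hj' : j = i₀
    · subst hj'; exact hswap
    · exact hright _ _ j hij₀.symm hj hj' hswap
  by_cases hj' : j = i₀
  · subst hj'
    exact hleft _ _ i hij₀.symm hi' hij hswap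
  exact hright _ _ j hi' (Ne.symm hij) hj (hleft _ _ i hij₀ hi hi' h₀)

theorem exists_third {l : ℕ} (hl : 3 ≤ l) (a b : Fin l) : ∃ d, d ≠ a ∧ d ≠ b := by
  obtain ⟨d, hd⟩ := (({a, b} : Finset (Fin l))ᶜ).card_pos.1 (by
    rw [Finset.card_compl, Fintype.card_fin]
    have := Finset.card_le_two (a := a) (b := b)
    omega)
  exact ⟨d, by simpa using hd⟩

theorem kr_sub_mul_mulVec (M : Subgroup (GL (Fin k × Fin l) F)) (a : GL (Fin k) F) (hM : kr a 1 ∈ M)
    {D : Matrix (Fin k) (Fin k) F} {E : Matrix (Fin l) (Fin l) F} (h : MemOne M (D ⊗ₖ E)) :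
    MemOne M (((a : Matrix (Fin k) (Fin k) F) * D * ((a⁻¹ : GL (Fin k) F) : Matrix (Fin k) (Fin k) F)) ⊗ₖ E) := by
  obtain ⟨g, hg, hgX⟩ := h
  refine ⟨kr a 1 * g * (kr a 1)⁻¹, M.mul_mem (M.mul_mem hM hg) (M.inv_mem hM), ?_⟩
  rw [Units.val_mul, Units.val_mul, hgX, kr_inv, inv_one, kr_val, kr_val, mul_add, add_mul, mul_one,
    ← Matrix.mul_kronecker_mul, ← Matrix.mul_kronecker_mul, ← Matrix.mul_kronecker_mul, ← Units.val_mul,
    ← Units.val_mul, mul_inv_cancel]
  simp [Matrix.one_kronecker_one]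

/-- An element fixing the ruler at `e_{a₀}` pointwise, trivial modulo it, and outside the tensor stabiliser produces
all elementary matrices. -/
theorem single_of_radical (hk : 2 ≤ k) (hl : 3 ≤ l) (hq : k = 2 → ∃ t : F, t ≠ 0 ∧ t ≠ 1)
    {M : Subgroup (GL (Fin k × Fin l) F)}
    (hH : ∀ a b, Matrix.GeneralLinearGroup.det a = (1 : Fˣ) → Matrix.GeneralLinearGroup.det b = (1 : Fˣ) → kr a b ∈ M)
    (a₀ : Fin l) {r : GL (Fin k × Fin l) F} (hr : r ∈ M)
    (hfix : ∀ p j, (r : Matrix (Fin k × Fin l) (Fin k × Fin l) F) p (j, a₀) =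
      (1 : Matrix (Fin k × Fin l) (Fin k × Fin l) F) p (j, a₀))
    (himg : ∀ p q, p.2 ≠ a₀ → (r : Matrix (Fin k × Fin l) (Fin k × Fin l) F) p q =
      (1 : Matrix (Fin k × Fin l) (Fin k × Fin l) F) p q)
    (hns : r ∉ Cfsg.Geo.kroneckerSubgroup k l F) :
    Cfsg.Geo.specialLinear (Fin k × Fin l) F ≤ M := by
  classical
  have hxr : ∀ b ψ : Fin l → F, xr k b ψ ∈ M := fun b ψ => hH 1 _ (map_one _) (tv_det b ψ)
  let C : Fin l → Matrix (Fin k) (Fin k) F := fun n => Matrix.of fun i j =>
    (r : Matrix (Fin k × Fin l) (Fin k × Fin l) F) (i, a₀) (j, n) -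
      (1 : Matrix (Fin k × Fin l) (Fin k × Fin l) F) (i, a₀) (j, n)
  set X := (r : Matrix (Fin k × Fin l) (Fin k × Fin l) F) - 1 with hXdef
  have hXe : ∀ i a j n, X (i, a) (j, n) = if a = a₀ then C n i j else 0 := by
    intro i a j n
    split_ifs with ha
    · subst ha; rfl
    · rw [hXdef, Matrix.sub_apply, himg _ _ ha, sub_self]
  have hC0 : C a₀ = 0 := by
    ext i j
    show _ - _ = (0 : F)
    rw [hfix, sub_self]
  have hrX : (r : Matrix (Fin k × Fin l) (Fin k × Fin l) F) = 1 + X := by rw [hXdef]; abel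
  -- a non-scalar block
  obtain ⟨m₀, hm₀, hm₀s⟩ : ∃ m, m ≠ a₀ ∧ ¬ ∃ d : F, C m = d • 1 := by
    by_contra! h
    choose! d hd using h
    let φ : Fin l → F := fun n => if n = a₀ then 0 else d n
    have hφ : φ ⬝ᵥ Pi.single a₀ (1 : F) = 0 := by simp [φ]
    refine hns ⟨1, tv (Pi.single a₀ 1) φ, ?_⟩
    rw [← kr_val, ← xr, xr_val hφ, hrX]
    congr 1
    ext ⟨i, a⟩ ⟨j, n⟩
    rw [hXe]
    by_cases ha : a = a₀
    · subst ha
      by_cases hn : n = a
      · subst hn; simp [hC0, φ, Matrix.vecMulVec_apply]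
      · simp [hd n hn, φ, hn, Matrix.vecMulVec_apply, Matrix.one_apply]
    · simp [ha, Matrix.vecMulVec_apply]
  -- moving the block
  have hmove : ∀ (D : Matrix (Fin k) (Fin k) F) m n, m ≠ a₀ → n ≠ a₀ → n ≠ m →
      MemOne M (D ⊗ₖ Matrix.single a₀ m (1 : F)) → ∀ t : F, MemOne M ((t • D) ⊗ₖ Matrix.single a₀ n (1 : F)) := by
    intro D m n hm hn hnm hD t
    have hψ : (Pi.single n (-t) : Fin l → F) ⬝ᵥ Pi.single m 1 = 0 := by simp [hnm]
    have hZ : MemOne M ((1 : Matrix (Fin k) (Fin k) F) ⊗ₖ Matrix.single m n (-t)) := by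
      refine ⟨_, hxr (Pi.single m 1) (Pi.single n (-t)), ?_⟩
      rw [xr_val hψ]
      congr 2
      ext x y
      simp only [Matrix.vecMulVec_apply, Matrix.single_apply, Pi.single_apply]
      by_cases hx : x = m <;> by_cases hy : y = n <;> simp [hx, hy, Ne.symm, eq_comm]
    have := memOne_comm hD hZ (by simp [← Matrix.mul_kronecker_mul, hm])
      (by simp [← Matrix.mul_kronecker_mul, hnm]) (by simp [← Matrix.mul_kronecker_mul, hn])
      (by simp [← Matrix.mul_kronecker_mul, hn])
    have z : (Matrix.single m n (-t) * Matrix.single a₀ m (1 : F) : Matrix (Fin l) (Fin l) F) = 0 := by simp [hn]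
    simp only [← Matrix.mul_kronecker_mul, one_mul, mul_one, Matrix.single_mul_single_same, z,
      Matrix.kronecker_zero, zero_sub] at this
    convert this using 1
    ext ⟨i, a⟩ ⟨j, b⟩
    simp [Matrix.single_apply]
    split_ifs <;> ring
  have hfirst : ∀ n, n ≠ a₀ → n ≠ m₀ → ∀ t : F, MemOne M ((t • C m₀) ⊗ₖ Matrix.single a₀ n (1 : F)) := by
    intro n hn hnm t
    have hψ : (Pi.single n (-t) : Fin l → F) ⬝ᵥ Pi.single m₀ 1 = 0 := by simp [hnm]
    have hZ : MemOne M ((1 : Matrix (Fin k) (Fin k) F) ⊗ₖ Matrix.single m₀ n (-t)) := by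
      refine ⟨_, hxr (Pi.single m₀ 1) (Pi.single n (-t)), ?_⟩
      rw [xr_val hψ]
      congr 2
      ext x y
      simp only [Matrix.vecMulVec_apply, Matrix.single_apply, Pi.single_apply]
      by_cases hx : x = m₀ <;> by_cases hy : y = n <;> simp [hx, hy, Ne.symm, eq_comm]
    set Z := (1 : Matrix (Fin k) (Fin k) F) ⊗ₖ Matrix.single m₀ n (-t)
    have hXX : X * X = 0 := by
      ext ⟨i, a⟩ ⟨j, b⟩
      rw [Matrix.mul_apply]
      refine Finset.sum_eq_zero fun q _ => ?_
      obtain ⟨x, y⟩ := q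
      by_cases hy : y = a₀
      · rw [hXe i a x y, hy, hC0]
        simp
      · rw [hXe x y j b, if_neg hy, mul_zero]
    have hZX : Z * X = 0 := by
      ext ⟨i, a⟩ ⟨j, b⟩
      rw [Matrix.mul_apply]
      refine Finset.sum_eq_zero fun q _ => ?_
      obtain ⟨x, y⟩ := q
      rw [hXe]
      split_ifs with h1
      · subst h1
        simp [Z, hn]
      · simp
    have := memOne_comm ⟨r, hr, hrX⟩ hZ hXX (by simp [Z, ← Matrix.mul_kronecker_mul, hnm])
      (by rw [mul_assoc, hZX, mul_zero]) (by rw [hZX, zero_mul])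
    rw [hZX, zero_sub] at this
    convert this using 1
    ext ⟨i, a⟩ ⟨j, b⟩
    rw [Matrix.neg_apply, Matrix.mul_apply]
    simp only [hXe, Z, Matrix.kroneckerMap_apply, Matrix.one_apply, Matrix.single_apply, Matrix.smul_apply,
      smul_eq_mul, Fintype.sum_prod_type]
    by_cases ha : a = a₀
    · subst ha
      by_cases hb : b = n
      · subst hb
        simp [ite_and, Finset.sum_ite_eq, Finset.sum_ite_eq']
        ring
      · simp [hb, Ne.symm hb]
    · simp [ha, Ne.symm ha]
  let S : Submodule F (Matrix (Fin k) (Fin k) F) :=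
    { carrier := {D | ∀ n, n ≠ a₀ → ∀ t : F, MemOne M ((t • D) ⊗ₖ Matrix.single a₀ n (1 : F))}
      zero_mem' := fun n _ t => ⟨1, M.one_mem, by simp⟩
      add_mem' := fun {D D'} h h' n hn t => by
        have := memOne_add (h n hn t) (h' n hn t) (by simp [← Matrix.mul_kronecker_mul, hn])
        rwa [← Matrix.add_kronecker, ← smul_add] at this
      smul_mem' := fun c D h n hn t => by rw [smul_smul]; exact h n hn (t * c) }
  have hCS : C m₀ ∈ S := by
    intro n hn t
    by_cases hnm : n = m₀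
    · obtain ⟨d, hd, hdm⟩ := exists_third hl a₀ m₀
      subst hnm
      have h1 := hmove _ d n hd hn hdm.symm (hfirst d hd hdm 1) t
      rwa [one_smul] at h1
    · exact hfirst n hn hnm t
  have hinv : ∀ D ∈ S, ∀ i j, i ≠ j → ∀ t : F,
      (1 + Matrix.single i j t) * D * (1 - Matrix.single i j t) ∈ S := by
    intro D hD i j hij t n hn s
    have h0 : (Pi.single j 1 : Fin k → F) ⬝ᵥ Pi.single i t = 0 := single_dot_single hij.symm t
    have hv : (tv (Pi.single i t) (Pi.single j 1) : Matrix (Fin k) (Fin k) F) = 1 + Matrix.single i j t :=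
      tv_single_val hij t
    have hv' : (((tv (Pi.single i t) (Pi.single j 1))⁻¹ : GL (Fin k) F) : Matrix (Fin k) (Fin k) F) =
        1 - Matrix.single i j t :=
      Units.inv_eq_of_mul_eq_one_right (by rw [hv]; simp [add_mul, mul_sub, hij.symm])
    have := kr_sub_mul_mulVec M (tv (Pi.single i t) (Pi.single j 1)) (hH _ _ (tv_det _ _) (map_one _)) (hD n hn s)
    rwa [hv, hv', Matrix.mul_smul, Matrix.smul_mul] at this
  have hall := single_mem_of_invariant S hk hq hinv hCS hm₀s
  refine specialLinear_le_of_single (all_single hl hk a₀ hxr fun i j b hij hb t => ?_)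
  have := hall i j hij b hb t
  rw [Matrix.smul_single, smul_eq_mul, mul_one, Matrix.single_kronecker_single, mul_one] at this
  exact this

theorem exists_det_one_move {b : Fin l → F} (hb : b ≠ 0) (a₀ : Fin l) :
    ∃ (β : GL (Fin l) F) (c : F), Matrix.GeneralLinearGroup.det β = 1 ∧ c ≠ 0 ∧
      (β : Matrix (Fin l) (Fin l) F) *ᵥ Pi.single a₀ 1 = c • b := by
  by_cases h : ∃ n, n ≠ a₀ ∧ b n ≠ 0
  · obtain ⟨n, hn, hbn⟩ := h
    set φ : Fin l → F := Pi.single a₀ 1 + Pi.single n ((1 - b a₀) / b n) with hφ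
    have h1 : φ ⬝ᵥ Pi.single a₀ 1 = 1 := by simp [hφ, hn, Ne.symm hn]
    have h2 : φ ⬝ᵥ b = 1 := by
      rw [hφ, add_dotProduct, single_dotProduct, single_dotProduct, one_mul, div_mul_cancel₀ _ hbn,
        add_sub_cancel]
    refine ⟨tv (b - Pi.single a₀ 1) φ, 1, tv_det _ _, one_ne_zero, ?_⟩
    rw [tv_act (by rw [dotProduct_sub, h1, h2, sub_self]), h1, one_smul, one_smul, add_sub_cancel]
  · push_neg at h
    have hb0 : b a₀ ≠ 0 := fun e => hb (funext fun n => by
      by_cases hn : n = a₀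
      · rw [hn]; exact e
      · exact h n hn)
    refine ⟨1, (b a₀)⁻¹, map_one _, inv_ne_zero hb0, ?_⟩
    rw [one_act]
    funext n
    by_cases hn : n = a₀
    · subst hn; simp [inv_mul_cancel₀ hb0]
    · simp [hn, h n hn]

/-- The stabiliser of a ruler in an overgroup lies in the tensor stabiliser, unless everything does. -/
theorem ruler_stab_linear (hk : 2 ≤ k) (hl : 3 ≤ l) (hq : k = 2 → ∃ t : F, t ≠ 0 ∧ t ≠ 1)
    {M : Subgroup (GL (Fin k × Fin l) F)}
    (hH : Cfsg.Geo.kroneckerSubgroup k l F ⊓ Cfsg.Geo.specialLinear (Fin k × Fin l) F ≤ M)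
    (hM : M ≤ Cfsg.Geo.specialLinear (Fin k × Fin l) F)
    (hne : ¬ Cfsg.Geo.specialLinear (Fin k × Fin l) F ≤ M) (a₀ : Fin l) {g : GL (Fin k × Fin l) F} (hg : g ∈ M)
    (hmap : MapsRuler g (Pi.single a₀ 1) (Pi.single a₀ 1)) : g ∈ Cfsg.Geo.kroneckerSubgroup k l F := by
  classical
  have hH' : ∀ a b, Matrix.GeneralLinearGroup.det a = (1 : Fˣ) → Matrix.GeneralLinearGroup.det b = (1 : Fˣ) →
      kr a b ∈ M := fun a b ha hb => hH ⟨kr_mem a b, kr_mem_sl ha hb⟩
  have hR : ∀ r ∈ M, (∀ p j, (r : Matrix (Fin k × Fin l) (Fin k × Fin l) F) p (j, a₀) =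
      (1 : Matrix (Fin k × Fin l) (Fin k × Fin l) F) p (j, a₀)) →
      (∀ p q, p.2 ≠ a₀ → (r : Matrix (Fin k × Fin l) (Fin k × Fin l) F) p q =
        (1 : Matrix (Fin k × Fin l) (Fin k × Fin l) F) p q) → r ∈ Cfsg.Geo.kroneckerSubgroup k l F :=
    fun r hr h1 h2 => by_contra fun hns => hne (single_of_radical hk hl hq hH' a₀ hr h1 h2 hns)
  have hcol : ∀ (A : Matrix (Fin k × Fin l) (Fin k × Fin l) F) p j,
      A p (j, a₀) = (A *ᵥ tp (Pi.single j 1) (Pi.single a₀ 1)) p := by
    intro A p j
    rw [show tp (Pi.single j 1) (Pi.single a₀ (1 : F)) = Pi.single (j, a₀) 1 from funext fun ⟨x, y⟩ => by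
      by_cases hx : x = j <;> by_cases hy : y = a₀ <;> simp [tp, Pi.single_apply, hx, hy], Matrix.mulVec_single_one,
      Matrix.col_apply]
  choose w hw using hmap
  set α : Matrix (Fin k) (Fin k) F := Matrix.of fun i j => w (Pi.single j 1) i with hα
  have hgcol : ∀ i a j, (g : Matrix (Fin k × Fin l) (Fin k × Fin l) F) (i, a) (j, a₀) =
      if a = a₀ then α i j else 0 := by
    intro i a j
    rw [hcol (g : Matrix (Fin k × Fin l) (Fin k × Fin l) F), hw]
    simp [tp, Pi.single_apply, α]
  have hgJ : ∀ v, (g : Matrix (Fin k × Fin l) (Fin k × Fin l) F) *ᵥ tp v (Pi.single a₀ 1) =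
      tp (α *ᵥ v) (Pi.single a₀ 1) := by
    intro v
    funext p
    obtain ⟨i, a⟩ := p
    simp only [Matrix.mulVec, dotProduct, tp, Fintype.sum_prod_type, Pi.single_apply, mul_ite, mul_one, mul_zero,
      Finset.sum_ite_eq', Finset.mem_univ, if_true, hgcol, ite_mul, zero_mul]
    by_cases ha : a = a₀
    · simp [ha, hgcol]
    · simp [ha, hgcol]
  have hαinj : ∀ v, α *ᵥ v = 0 → v = 0 := by
    intro v hv
    apply J_injective (k := k) (show (Pi.single a₀ (1 : F) : Fin l → F) ≠ 0 by simp)
    apply act_injective g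
    show _ *ᵥ tp v _ = _ *ᵥ tp 0 _
    rw [hgJ, hgJ, hv, Matrix.mulVec_zero]
  have hαdet : α.det ≠ 0 := fun h0 => by
    obtain ⟨v, hv0, hv⟩ := Matrix.exists_mulVec_eq_zero_iff.mpr h0
    exact hv0 (hαinj v hv)
  set A := Matrix.GeneralLinearGroup.mkOfDetNeZero α hαdet
  have hAv : (A : Matrix (Fin k) (Fin k) F) = α := rfl
  have hgfix : ∀ v, ((g⁻¹ : GL (Fin k × Fin l) F) : Matrix (Fin k × Fin l) (Fin k × Fin l) F) *ᵥ
      tp v (Pi.single a₀ 1) = tp (((A⁻¹ : GL (Fin k) F) : Matrix (Fin k) (Fin k) F) *ᵥ v) (Pi.single a₀ 1) := by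
    intro v
    apply act_injective g
    show _ *ᵥ _ = _ *ᵥ _
    rw [act_inv_act, hgJ, ← hAv, act_inv_act]
  -- the images of the root subgroups at the ruler
  have hconj : ∀ m, m ≠ a₀ → ∃ c : Fin l → F, c a₀ = 0 ∧ ∀ i j n, n ≠ a₀ →
      ∑ x ∈ Finset.univ.erase a₀, c x * (g : Matrix (Fin k × Fin l) (Fin k × Fin l) F) (i, x) (j, n) =
        if n = m then α i j else 0 := by
    intro m hm
    have hψ : (Pi.single m 1 : Fin l → F) ⬝ᵥ Pi.single a₀ 1 = 0 := by simp [Ne.symm hm]
    set y := g * xr k (Pi.single a₀ 1) (Pi.single m 1) * g⁻¹ with hy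
    have hyM : y ∈ M := M.mul_mem (M.mul_mem hg (hH' _ _ (map_one _) (tv_det _ _))) (M.inv_mem hg)
    have hyact : ∀ u, (y : Matrix (Fin k × Fin l) (Fin k × Fin l) F) *ᵥ u = u + tp (α *ᵥ (P (Pi.single m 1)
        (((g⁻¹ : GL (Fin k × Fin l) F) : Matrix (Fin k × Fin l) (Fin k × Fin l) F) *ᵥ u))) (Pi.single a₀ 1) := by
      intro u
      rw [hy, mul_act, mul_act, xr_act hψ, Matrix.mulVec_add, act_inv_act, J_apply, hgJ]
    have hyk : y ∈ Cfsg.Geo.kroneckerSubgroup k l F := by
      refine hR y hyM (fun p j => ?_) (fun p q hp => ?_)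
      · have z : tp (α *ᵥ (0 : Fin k → F)) (Pi.single a₀ (1 : F)) = 0 := funext fun p => by simp [tp]
        rw [hcol (y : Matrix (Fin k × Fin l) (Fin k × Fin l) F), hcol (1 : Matrix (Fin k × Fin l) (Fin k × Fin l) F),
          hyact, hgfix, P_tp, hψ, zero_smul, z, add_zero, Matrix.one_mulVec]
      · rw [show (y : Matrix (Fin k × Fin l) (Fin k × Fin l) F) p q =
            ((y : Matrix (Fin k × Fin l) (Fin k × Fin l) F) *ᵥ Pi.single q 1) p by simp, hyact]
        simp [tp, hp, Matrix.one_apply, Pi.single_apply]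
    obtain ⟨a, b, hab⟩ := exists_kr hyk
    have hfix' : ∀ v, (y : Matrix (Fin k × Fin l) (Fin k × Fin l) F) *ᵥ tp v (Pi.single a₀ 1) = tp v (Pi.single a₀ 1) := by
      intro v
      rw [hyact, hgfix, P_tp, hψ, zero_smul, Matrix.mulVec_zero]
      funext p
      simp [tp]
    obtain ⟨s, hs, hs'⟩ : ∃ s : F, s * (b : Matrix (Fin l) (Fin l) F) a₀ a₀ = 1 ∧
        (a : Matrix (Fin k) (Fin k) F) = s • 1 := by
      have h := fun i j => congrFun (hfix' (Pi.single j 1)) (i, a₀)
      simp only [hab, kr_tp, tp, Matrix.mulVec_single_one, Matrix.col_apply, Pi.single_eq_same, mul_one] at h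
      have hb0 : (b : Matrix (Fin l) (Fin l) F) a₀ a₀ ≠ 0 := fun e => by
        simpa [e] using h ⟨0, by omega⟩ ⟨0, by omega⟩
      refine ⟨((b : Matrix (Fin l) (Fin l) F) a₀ a₀)⁻¹, inv_mul_cancel₀ hb0, ?_⟩
      ext i j
      have hij := h i j
      rw [Matrix.smul_apply, smul_eq_mul, eq_inv_mul_iff_mul_eq₀ hb0, mul_comm, hij, Matrix.one_apply, Pi.single_apply]
    refine ⟨fun x => if x = a₀ then 0 else s * (b : Matrix (Fin l) (Fin l) F) a₀ x, if_pos rfl, fun i j n hn => ?_⟩
    have e := congrFun (hyact ((g : Matrix (Fin k × Fin l) (Fin k × Fin l) F) *ᵥ Pi.single (j, n) 1)) (i, a₀)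
    rw [inv_act_act] at e
    simp only [hab, kr_val, hs', Matrix.mulVec, dotProduct, Matrix.kroneckerMap_apply, Matrix.smul_apply,
      Matrix.one_apply, smul_eq_mul, Fintype.sum_prod_type, Pi.add_apply, tp, P_apply, Pi.single_apply, mul_ite,
      ite_mul, mul_one, one_mul, mul_zero, zero_mul, Prod.mk.injEq, ite_and, Finset.sum_ite_eq,
      Finset.sum_ite_eq', Finset.sum_ite_irrel, Finset.sum_const_zero, Finset.mem_univ, if_true] at e
    rw [← Finset.add_sum_erase _ _ (Finset.mem_univ a₀)] at e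
    rw [hs, one_mul, add_right_inj] at e
    rw [← Finset.sum_congr rfl (fun x hx => ?_)] at e
    · rw [e]
    · simp [Finset.ne_of_mem_erase hx]
  choose! c hc0 hc using hconj
  -- the induced matrix on the quotient
  obtain ⟨i₀, j₀, hij₀⟩ : ∃ i j, α i j ≠ 0 := by
    by_contra! h
    exact hαdet (Matrix.det_eq_zero_of_row_eq_zero ⟨0, by omega⟩ (fun j => h _ j))
  let B : Matrix (Fin l) (Fin l) F := Matrix.of fun m x =>
    if m = a₀ then (if x = a₀ then 1 else 0) else c m x
  let D : Fin k → Fin k → Matrix (Fin l) (Fin l) F := fun i j => Matrix.of fun x n =>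
    if x = a₀ then (if n = a₀ then α i j else 0) else if n = a₀ then 0 else
      (g : Matrix (Fin k × Fin l) (Fin k × Fin l) F) (i, x) (j, n)
  have hBD : ∀ i j, B * D i j = α i j • (1 : Matrix (Fin l) (Fin l) F) := by
    intro i j
    ext m n
    rw [Matrix.mul_apply, Matrix.smul_apply, smul_eq_mul, ← Finset.add_sum_erase _ _ (Finset.mem_univ a₀)]
    by_cases hm : m = a₀
    · subst hm
      rw [Finset.sum_eq_zero fun x hx => by simp [B, Finset.ne_of_mem_erase hx]]
      by_cases hn : n = m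
      · subst hn; simp [B, D]
      · simp [B, D, hn, Ne.symm hn]
    · by_cases hn : n = a₀
      · subst hn
        rw [Finset.sum_eq_zero fun x hx => by simp [D, Finset.ne_of_mem_erase hx]]
        simp [B, D, hm, hc0 m hm]
      · have : ∑ x ∈ Finset.univ.erase a₀, B m x * D i j x n = if n = m then α i j else 0 := by
          rw [← hc m hm i j n hn]
          exact Finset.sum_congr rfl fun x hx => by simp [B, D, hm, hn, Finset.ne_of_mem_erase hx]
        rw [this]
        by_cases hnm : n = m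
        · subst hnm; simp [B, D, hm, hn]
        · simp [B, D, hm, hn, hnm, Ne.symm hnm]
  set β₀ := (α i₀ j₀)⁻¹ • D i₀ j₀ with hβ₀
  have hBβ : B * β₀ = 1 := by rw [hβ₀, Matrix.mul_smul, hBD, smul_smul, inv_mul_cancel₀ hij₀, one_smul]
  have hD : ∀ i j, D i j = α i j • β₀ := fun i j => by
    rw [← one_mul (D i j), ← mul_eq_one_comm.1 hBβ, mul_assoc, hBD, Matrix.mul_smul, mul_one]
  set βu : GL (Fin l) F := ⟨β₀, B, mul_eq_one_comm.1 hBβ, hBβ⟩
  have hβv : (βu : Matrix (Fin l) (Fin l) F) = β₀ := rfl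
  set h := kr A βu with hh
  have hhval : ∀ i x j n, (h : Matrix (Fin k × Fin l) (Fin k × Fin l) F) (i, x) (j, n) =
      if x = a₀ then (if n = a₀ then α i j else 0) else if n = a₀ then 0 else
        (g : Matrix (Fin k × Fin l) (Fin k × Fin l) F) (i, x) (j, n) := by
    intro i x j n
    rw [hh, kr_val, Matrix.kroneckerMap_apply, hAv, hβv, ← smul_eq_mul, ← Matrix.smul_apply, ← hD]
    rfl
  set r := h⁻¹ * g with hr
  have hgh : ∀ p j, (g : Matrix (Fin k × Fin l) (Fin k × Fin l) F) p (j, a₀) =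
      (h : Matrix (Fin k × Fin l) (Fin k × Fin l) F) p (j, a₀) := by
    rintro ⟨i, x⟩ j
    rw [hgcol, hhval]
    split_ifs <;> first | rfl | contradiction
  set G := (g : Matrix (Fin k × Fin l) (Fin k × Fin l) F) - (h : Matrix (Fin k × Fin l) (Fin k × Fin l) F) with hG
  let inc : Matrix (Fin k × Fin l) (Fin k) F := Matrix.of fun p i => if p = (i, a₀) then 1 else 0
  let row : Matrix (Fin k) (Fin k × Fin l) F := Matrix.of fun i q => G (i, a₀) q
  have hGeq : G = inc * row := by
    ext ⟨i, x⟩ ⟨j, n⟩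
    rw [Matrix.mul_apply]
    by_cases hx : x = a₀
    · subst hx; simp [inc, row]
    · rw [Finset.sum_eq_zero fun a _ => by simp [inc, hx]]
      rw [hG, Matrix.sub_apply, hhval, if_neg hx]
      by_cases hn : n = a₀
      · subst hn; rw [if_pos rfl, hgcol, if_neg hx, sub_zero]
      · rw [if_neg hn, sub_self]
  set hi : Matrix (Fin k × Fin l) (Fin k × Fin l) F := ((h⁻¹ : GL (Fin k × Fin l) F) : Matrix (Fin k × Fin l) (Fin k × Fin l) F)
  have hrval : (r : Matrix (Fin k × Fin l) (Fin k × Fin l) F) = 1 + hi * inc * row := by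
    rw [hr, Units.val_mul, Matrix.mul_assoc hi, ← hGeq, hG, mul_sub, ← Units.val_mul h⁻¹ h, inv_mul_cancel,
      Units.val_one]
    abel
  have hG0 : ∀ i j, row i (j, a₀) = 0 := fun i j => by simp [row, hG, hgh]
  have hhinc : hi * inc = inc * ((A⁻¹ : GL (Fin k) F) : Matrix (Fin k) (Fin k) F) := by
    have e : (h : Matrix (Fin k × Fin l) (Fin k × Fin l) F) * inc = inc * α := by
      ext ⟨i, x⟩ j
      rw [Matrix.mul_apply, Matrix.mul_apply, Finset.sum_eq_single (j, a₀) (fun q _ hq => by simp [inc, hq]) (by simp),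
        hhval]
      by_cases hx : x = a₀
      · subst hx; simp [inc]
      · simp [inc, hx]
    calc hi * inc = hi * (inc * α) * ((A⁻¹ : GL (Fin k) F) : Matrix (Fin k) (Fin k) F) := by
          rw [Matrix.mul_assoc hi, Matrix.mul_assoc inc, ← hAv, ← Units.val_mul, mul_inv_cancel, Units.val_one,
            Matrix.mul_one]
      _ = _ := by rw [← e, ← Matrix.mul_assoc, ← Units.val_mul, inv_mul_cancel, Units.val_one, Matrix.one_mul]
  have hrdet : (r : Matrix (Fin k × Fin l) (Fin k × Fin l) F).det = 1 := by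
    rw [hrval, Matrix.det_one_add_mul_comm, hhinc, ← Matrix.mul_assoc]
    have : row * inc = 0 := by
      ext i j
      rw [Matrix.mul_apply]
      refine Finset.sum_eq_zero fun q _ => ?_
      by_cases hq : q = (j, a₀)
      · subst hq; simp [hG0]
      · simp [inc, hq]
    rw [this, Matrix.zero_mul, add_zero, Matrix.det_one]
  have hhH : h ∈ M := by
    refine hH ⟨kr_mem _ _, ?_⟩
    have e : g = h * r := by rw [hr, mul_inv_cancel_left]
    have hgsl := hM hg
    rw [Cfsg.Geo.specialLinear, MonoidHom.mem_ker] at hgsl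
    show h ∈ MonoidHom.ker _
    rw [MonoidHom.mem_ker]
    apply Units.ext
    have h1 := congrArg Units.val hgsl
    rw [Matrix.GeneralLinearGroup.val_det_apply] at h1 ⊢
    rw [e, Units.val_mul, Matrix.det_mul, hrdet, mul_one] at h1
    exact h1
  have hrM : r ∈ M := M.mul_mem (M.inv_mem hhH) hg
  have hrk : r ∈ Cfsg.Geo.kroneckerSubgroup k l F := by
    refine hR r hrM (fun p j => ?_) (fun p q hp => ?_)
    · rw [hrval, Matrix.add_apply, Matrix.mul_apply, Finset.sum_eq_zero fun i _ => by rw [hG0, mul_zero], add_zero]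
    · rw [hrval, Matrix.add_apply, hhinc, Matrix.mul_assoc, Matrix.mul_apply,
        Finset.sum_eq_zero fun i _ => by
          have : p ≠ (i, a₀) := fun e => hp (by rw [e])
          simp [inc, this], add_zero]
  rw [show g = h * r by rw [hr, mul_inv_cancel_left]]
  exact Subgroup.mul_mem _ (kr_mem _ _) hrk

/-- The main theorem in coordinates. -/
theorem linear_maximal (hk : 2 ≤ k) (hkl : k < l) (hq : k = 2 → ∃ t : F, t ≠ 0 ∧ t ≠ 1)
    {M : Subgroup (GL (Fin k × Fin l) F)}
    (hH : Cfsg.Geo.kroneckerSubgroup k l F ⊓ Cfsg.Geo.specialLinear (Fin k × Fin l) F ≤ M)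
    (hM : M ≤ Cfsg.Geo.specialLinear (Fin k × Fin l) F) :
    M ≤ Cfsg.Geo.kroneckerSubgroup k l F ∨ Cfsg.Geo.specialLinear (Fin k × Fin l) F ≤ M := by
  classical
  by_cases hne : Cfsg.Geo.specialLinear (Fin k × Fin l) F ≤ M
  · exact Or.inr hne
  left
  have hl : 3 ≤ l := by omega
  let a₀ : Fin l := ⟨0, by omega⟩
  let Root : (Fin l → F) → (Fin l → F) → Prop := fun b ψ => b ≠ 0 ∧ ψ ≠ 0 ∧ ψ ⬝ᵥ b = 0
  have h₀ : Root (Pi.single a₀ 1) (Pi.single ⟨1, by omega⟩ 1) :=
    ⟨by simp, by simp, by simp [a₀, Fin.ext_iff]⟩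
  refine le_of_pick (H := Cfsg.Geo.kroneckerSubgroup k l F) hkl (by omega) le_rfl (fun g _ hg => hg) Root
    (fun b ψ h => ⟨h.1, h.2.1, h.2.2, hH ⟨kr_mem _ _, xr_mem_sl b ψ⟩⟩) h₀ ?_ ?_
  · intro g hg b ψ c hr hmap
    obtain ⟨β, s, hβ, hs, hβb⟩ := exists_det_one_move hr.1 a₀
    have hc : c ≠ 0 := by
      intro hc
      obtain ⟨w, hw⟩ := hmap (Pi.single ⟨0, by omega⟩ 1)
      rw [hc, show tp w (0 : Fin l → F) = 0 from funext fun p => by simp [tp]] at hw
      have h0 := J_injective (k := k) hr.1 (a₁ := Pi.single ⟨0, by omega⟩ 1) (a₂ := 0)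
        (act_injective g (show _ *ᵥ tp _ b = _ *ᵥ tp 0 b by
          rw [hw, show tp (0 : Fin k → F) b = 0 from funext fun p => by simp [tp], Matrix.mulVec_zero]))
      simp at h0
    obtain ⟨γ, t, hγ, ht, hγc⟩ := exists_det_one_move hc a₀
    have hkM : ∀ δ : GL (Fin l) F, Matrix.GeneralLinearGroup.det δ = 1 → kr (1 : GL (Fin k) F) δ ∈ M :=
      fun δ hδ => hH ⟨kr_mem _ _, kr_mem_sl (map_one _) hδ⟩
    have hg' : (kr 1 γ)⁻¹ * g * kr 1 β ∈ Cfsg.Geo.kroneckerSubgroup k l F := by
      refine ruler_stab_linear hk hl hq hH hM hne a₀ (M.mul_mem (M.mul_mem (M.inv_mem (hkM _ hγ)) hg) (hkM _ hβ))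
        fun v => ?_
      obtain ⟨w, hw⟩ := hmap v
      refine ⟨(s * t⁻¹) • w, ?_⟩
      have e1 : tp v (s • b) = s • tp v b := funext fun p => by simp [tp]; ring
      have e2 : tp w c = tp (t⁻¹ • w) ((γ : Matrix (Fin l) (Fin l) F) *ᵥ Pi.single a₀ 1) := by
        rw [hγc]; funext p; simp [tp]; field_simp
      rw [mul_act, mul_act, kr_tp, Units.val_one, Matrix.one_mulVec, hβb, e1, Matrix.mulVec_smul, hw,
        Matrix.mulVec_smul, e2, kr_inv, kr_tp, inv_one, Units.val_one, Matrix.one_mulVec, inv_act_act]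
      funext p
      simp [tp]
      ring
    have := Subgroup.mul_mem _ (Subgroup.mul_mem _ (kr_mem (1 : GL (Fin k) F) γ) hg')
      (Subgroup.inv_mem _ (kr_mem (1 : GL (Fin k) F) β))
    simpa [mul_assoc] using this
  · intro g _ b ψ hr c χ hc A hA hAc
    -- the part of the ruler at `b` mapped into `A ⊗ c`
    set G := (Matrix.toLin' (g : Matrix (Fin k × Fin l) (Fin k × Fin l) F)).comp (J (k := k) b) with hG
    set A₀ := (A.map (J c)).comap G with hA₀
    have hGinj : Function.Injective G := fun u v e => J_injective hr.1 (act_injective g (by simpa [hG] using e))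
    have hA₀A : Module.finrank F A₀ = Module.finrank F A := by
      have e : A₀.map G = A.map (J c) := by
        rw [hA₀, Submodule.map_comap_eq, inf_eq_right]
        rintro _ ⟨v, hv, rfl⟩
        obtain ⟨w, hw⟩ := hAc v hv
        exact ⟨w, by simpa [hG, J_apply] using hw⟩
      calc Module.finrank F A₀ = Module.finrank F (A₀.map G) :=
            (Submodule.equivMapOfInjective G hGinj A₀).finrank_eq
        _ = Module.finrank F (A.map (J c)) := by rw [e]
        _ = Module.finrank F A := ((Submodule.equivMapOfInjective _ (J_injective hc.1) A).finrank_eq).symm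
    obtain ⟨v₀, hv₀⟩ : ∃ v₀, v₀ ∉ A₀ := by
      by_contra! h
      have : Module.finrank F A₀ = k := by
        rw [Submodule.eq_top_iff'.2 h, finrank_top, Module.finrank_fin_fun]
      omega
    obtain ⟨f, hf, hfA⟩ := Submodule.exists_le_ker_of_notMem hv₀
    -- a point whose ruler is mapped into the kernel of `f`
    set S := fun b' : Fin l → F => (P (k := k) ψ).comp
      ((Matrix.toLin' ((g⁻¹ : GL (Fin k × Fin l) F) : Matrix (Fin k × Fin l) (Fin k × Fin l) F)).comp (J (k := k) b'))
    have hSadd : ∀ x y v, S (x + y) v = S x v + S y v := fun x y v => by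
      simp only [S, LinearMap.comp_apply, ← map_add]
      congr 2
      funext p
      simp [J_apply, tp, mul_add]
    have hSsmul : ∀ (s : F) x v, S (s • x) v = s • S x v := fun s x v => by
      simp only [S, LinearMap.comp_apply, J_smul, map_smul]
    let Lam : (Fin l → F) →ₗ[F] (Fin k → F) :=
      LinearMap.pi fun i => { toFun := fun b' => f (S b' (Pi.single i 1))
                              map_add' := fun x y => by rw [hSadd, map_add]
                              map_smul' := fun s x => by rw [hSsmul, map_smul, RingHom.id_apply] }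
    obtain ⟨b', hb', hb'0⟩ := Submodule.exists_mem_ne_zero_of_ne_bot (p := LinearMap.ker Lam) (fun e => by
      have := LinearMap.finrank_range_add_finrank_ker Lam
      have h2 := Submodule.finrank_le (LinearMap.range Lam)
      rw [e, finrank_bot, Module.finrank_fin_fun] at this
      rw [Module.finrank_fin_fun] at h2
      omega)
    have hSker : ∀ v, f (S b' v) = 0 := by
      intro v
      have hb'' : Lam b' = 0 := hb'
      rw [pi_eq_sum_univ' v, map_sum, map_sum]
      refine Finset.sum_eq_zero fun i _ => ?_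
      rw [map_smul, map_smul, show f (S b' (Pi.single i 1)) = 0 from congrFun hb'' i, smul_zero]
    -- a functional killing both points
    let L₂ : (Fin l → F) →ₗ[F] (Fin 2 → F) :=
      LinearMap.pi ![(dotProductBilin F F).flip b', (dotProductBilin F F).flip c]
    obtain ⟨ψ', hψ', hψ'0⟩ := Submodule.exists_mem_ne_zero_of_ne_bot (p := LinearMap.ker L₂) (fun e => by
      have := LinearMap.finrank_range_add_finrank_ker L₂
      have h2 := Submodule.finrank_le (LinearMap.range L₂)
      rw [e, finrank_bot, Module.finrank_fin_fun] at this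
      rw [Module.finrank_fin_fun] at h2
      omega)
    have hL : L₂ ψ' = 0 := hψ'
    have hψb : ψ' ⬝ᵥ b' = 0 := by simpa [L₂] using congrFun hL 0
    have hψc : ψ' ⬝ᵥ c = 0 := by simpa [L₂] using congrFun hL 1
    refine ⟨b', ψ', ⟨hb'0, hψ'0, hψb⟩, ?_⟩
    set Q := (P (k := k) ψ').comp G
    have hrange : LinearMap.range (blockT g b ψ b' ψ') ≤ (LinearMap.ker f).map Q := by
      rintro _ ⟨v, rfl⟩
      exact ⟨S b' v, hSker v, rfl⟩
    have hker : A₀ ≤ LinearMap.ker Q := by
      rintro v ⟨a, -, ha⟩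
      show P ψ' (G v) = 0
      rw [← ha, J_apply, P_tp, hψc, zero_smul]
    have h1 := LinearMap.finrank_range_add_finrank_ker (Q.domRestrict (LinearMap.ker f))
    rw [LinearMap.range_domRestrict] at h1
    have h2 : Module.finrank F A₀ ≤ Module.finrank F (LinearMap.ker (Q.domRestrict (LinearMap.ker f))) := by
      let ι₀ : A₀ →ₗ[F] LinearMap.ker (Q.domRestrict (LinearMap.ker f)) :=
        ((A₀.subtype.codRestrict _ fun v => hfA v.2).codRestrict _ fun v => hker v.2)
      exact ι₀.finrank_le_finrank_of_injective (fun u v e => Subtype.ext (congrArg (fun z => ((z : LinearMap.ker f) : Fin k → F)) (congrArg Subtype.val e)))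
    have h3 : Module.finrank F (LinearMap.ker f) < k := by
      have := Submodule.finrank_lt (s := LinearMap.ker f) (fun e => hf (by
        have := e ▸ Submodule.mem_top (R := F) (x := v₀)
        exact this))
      rwa [Module.finrank_fin_fun] at this
    have h4 := Submodule.finrank_mono hrange
    omega

end Cfsg.Agent.TensorMax
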