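import Cfsg.Agent.Lib.C6Cplx84DiagFullReal
import Cfsg.Agent.Lib.TensorMaxLinear

/-!
Over a prime field with a fourth root of unity the real root elements and their twists by phases give every
elementary matrix.
-/

set_option autoImplicit false
set_option linter.unusedSectionVars false

namespace Cfsg.Agent.C6Cplx84

open Matrix Cfsg.Agent.C6Plus10 Cfsg.Agent.C6Cplx52
open Cfsg.Agent.TransvectionMax (mul_act act_inv_act)
open scoped MatrixGroups

variable {F : Type*} [Field F] [Fintype F] {i : Fˣ} {M : Subgroup (GL (Pt 3) F)}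

theorem dg_act {k : ℕ} (f : Pt k → Fˣ) (v : Pt k → F) (t : Pt k) :
    (((dg f : GL (Pt k) F) : Matrix (Pt k) (Pt k) F) *ᵥ v) t = f t * v t := by
  rw [dg_val]; exact Matrix.mulVec_diagonal _ _ _

theorem exists_fourth (a b c : Pt 3) : ∃ l, l ≠ a ∧ l ≠ b ∧ l ≠ c := by
  classical
  obtain ⟨l, hl⟩ := Finset.card_pos.1 (show 0 < ({a, b, c} : Finset (Pt 3))ᶜ.card by
    rw [Finset.card_compl, Fintype.card_fun, ZMod.card, Fintype.card_fin]
    have := Finset.card_le_three (a := a) (b := b) (c := c)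
    omega)
  simp only [Finset.mem_compl, Finset.mem_insert, Finset.mem_singleton, not_or] at hl
  exact ⟨l, hl⟩

/-- The elementary matrices. -/
theorem single_mem (hp : (Fintype.card F).Prime) (hodd : Odd (Fintype.card F)) (hi : (i : F) * i = -1)
    (hmono : MonoMem i M) {J : GL (Pt 3) F} (hJ : J ∈ M) (hJv : (J : Matrix (Pt 3) (Pt 3) F) = block F)
    {P R : Pt 3} (hPR : P ≠ R) (b : F) : ∃ g ∈ M, (g : Matrix (Pt 3) (Pt 3) F) = 1 + Matrix.single P R b := by
  classical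
  have h2 : (2 : F) ≠ 0 := by
    have := hp.two_le
    have hne : Fintype.card F ≠ 2 := fun e => by rw [e] at hodd; exact absurd hodd (by decide)
    exact_mod_cast Frame10.small_ne hp (k := 2) (by omega) (by norm_num)
  have h4 : (4 : F) ≠ 0 := by
    rw [show (4 : F) = 2 * 2 by norm_num]; exact mul_ne_zero h2 h2
  obtain ⟨Q, hQP, hQR, -⟩ := exists_fourth P R R
  obtain ⟨l, hlP, hlQ, hlR⟩ := exists_fourth P Q R
  set a : Pt 3 → F := Pi.single P 1 + (i : F) • Pi.single Q 1 with ha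
  set eR : Pt 3 → F := Pi.single R 1 with heR
  have aP : a P = 1 := by simp [ha, hQP.symm]
  have aQ : a Q = i := by simp [ha, hQP]
  have a0 : ∀ t, t ≠ P → t ≠ Q → a t = 0 := fun t h h' => by simp [ha, h, h']
  have hdot : ∀ y : Pt 3 → F, y ⬝ᵥ a = y P + (i : F) * y Q := fun y => by
    simp [ha, dotProduct_add, dotProduct_smul]
  have haa : a ⬝ᵥ a = 0 := by rw [hdot, aP, aQ, hi, add_neg_cancel]
  have haR : a R = 0 := a0 R hPR.symm hQR.symm
  have hroot : ∀ s : F, ∃ g ∈ M, ∀ y : Pt 3 → F, (g : Matrix (Pt 3) (Pt 3) F) *ᵥ y =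
      y + (s * (y ⬝ᵥ a)) • eR + (-(s * y R)) • a + (-(s * s * (2 : F)⁻¹ * (y ⬝ᵥ a))) • a := by
    intro s
    obtain ⟨g, hg, hgy⟩ := root_mem (RingHom.id F) hp hodd hi hmono hJ hJv (a := a) (x := s • eR) haa (by
      rw [dotProduct_smul, heR, dotProduct_single, haR, zero_mul, smul_zero])
    refine ⟨g, hg, fun y => ?_⟩
    rw [hgy]
    simp only [RingHom.coe_id, Function.id_comp, id_eq, dotProduct_smul, smul_dotProduct, heR,
      dotProduct_single, Pi.smul_apply, Pi.single_eq_same, smul_eq_mul, mul_one]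
    module
  -- the twist
  have hii : ∀ n : ℕ, ((i ^ n : Fˣ) : F) = (i : F) ^ n := fun n => Units.val_pow_eq_pow_val i n
  set fT : Pt 3 → ℕ := fun t => if t = P ∨ t = Q then 1 else if t = l then 2 else 0 with hfT
  set fT' : Pt 3 → ℕ := fun t => if t = P ∨ t = Q then 3 else if t = l then 2 else 0 with hfT'
  set fD : Pt 3 → ℕ := fun t => if t = P ∨ t = Q then 2 else 0 with hfD
  set fE : Pt 3 → ℕ := fun t => if t = Q ∨ t = l then 2 else 0 with hfE
  have hsum : ∀ (f : Pt 3 → ℕ), (∀ t, t ≠ P → t ≠ Q → t ≠ l → f t = 0) → ∑ t, f t = f P + f Q + f l := by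
    intro f h
    rw [← Finset.sum_subset (Finset.subset_univ ({P, Q, l} : Finset (Pt 3))) fun t _ ht => by
      simp only [Finset.mem_insert, Finset.mem_singleton, not_or] at ht; exact h t ht.1 ht.2.1 ht.2.2]
    rw [Finset.sum_insert (by simp [hQP.symm, hlP.symm]), Finset.sum_pair hlQ.symm, add_assoc]
  have mT : dg (fun t => i ^ fT t) ∈ M := diag_pow_mem hi hmono _ (by
    rw [hsum _ fun t h1 h2 h3 => by simp [hfT, h1, h2, h3]]; simp [hfT, hlP, hlQ])
  have mT' : dg (fun t => i ^ fT' t) ∈ M := diag_pow_mem hi hmono _ (by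
    rw [hsum _ fun t h1 h2 h3 => by simp [hfT', h1, h2, h3]]; simp [hfT', hlP, hlQ])
  have mD : dg (fun t => i ^ fD t) ∈ M := diag_pow_mem hi hmono _ (by
    rw [hsum _ fun t h1 h2 h3 => by simp [hfD, h1, h2]]; simp [hfD, hlP, hlQ])
  have mE : dg (fun t => i ^ fE t) ∈ M := diag_pow_mem hi hmono _ (by
    rw [hsum _ fun t h1 h2 h3 => by simp [hfE, h2, h3]]; simp [hfE, hlP, hlQ, hQP.symm, hlP.symm])
  set T := dg (fun t => i ^ fT t)
  set T' := dg (fun t => i ^ fT' t)
  set D := dg (fun t => i ^ fD t)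
  set E := dg (fun t => i ^ fE t)
  have hi2 : (i : F) ^ 2 = -1 := by rw [pow_two, hi]
  have hi3 : (i : F) ^ 3 = -i := by rw [pow_succ, hi2]; ring
  -- the elements without the first term
  have hX : ∀ s : F, ∃ X ∈ M, ∀ y : Pt 3 → F, (X : Matrix (Pt 3) (Pt 3) F) *ᵥ y =
      y + (-(2 * s * y R)) • a + (s * s * (y ⬝ᵥ a)) • a := by
    intro s
    obtain ⟨g, hg, hgy⟩ := hroot s
    obtain ⟨g', hg', hgy'⟩ := hroot (-((i : F) * s))
    refine ⟨g * (T * g' * T'), M.mul_mem hg (M.mul_mem (M.mul_mem mT hg') mT'), fun y => ?_⟩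
    have hT'y : ((T' : GL (Pt 3) F) : Matrix (Pt 3) (Pt 3) F) *ᵥ y =
        fun t => (if t = P ∨ t = Q then -(i : F) else if t = l then -1 else 1) * y t := funext fun t => by
      rw [dg_act, hii]; simp only [hfT']; split_ifs <;> simp [hi2, hi3]
    have e1 : ((T * g' * T' : GL (Pt 3) F) : Matrix (Pt 3) (Pt 3) F) *ᵥ y =
        y + (-(s * (y ⬝ᵥ a))) • eR + (-(s * y R)) • a + (s * s * (2 : F)⁻¹ * (y ⬝ᵥ a)) • a := by
      rw [mul_act, mul_act, hgy', hT'y]
      funext t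
      rw [dg_act, hii]
      simp only [Pi.add_apply, Pi.smul_apply, smul_eq_mul, hdot]
      simp only [hfT, heR, true_or, or_true, if_true,
        if_neg (show ¬(R = P ∨ R = Q) from not_or.2 ⟨hPR.symm, hQR.symm⟩), if_neg hlR.symm, one_mul]
      by_cases hP : t = P
      · subst hP
        simp only [aP, true_or, if_true, Pi.single_eq_of_ne hPR, pow_one]
        linear_combination (-(y t) + s * y R + (2 : F)⁻¹ * ((i : F) * i) * (s * s) * (y t + (i : F) * y Q)
          - (2 : F)⁻¹ * (s * s) * (y t + (i : F) * y Q)) * hi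
      by_cases hQ : t = Q
      · subst hQ
        simp only [aQ, or_true, if_true, Pi.single_eq_of_ne hQR, pow_one]
        linear_combination (-(y t) + (i : F) * s * y R + (i : F) * ((2 : F)⁻¹ * ((i : F) * i) * (s * s) * (y P + (i : F) * y t)
          - (2 : F)⁻¹ * (s * s) * (y P + (i : F) * y t))) * hi
      rw [a0 t hP hQ, if_neg (not_or.2 ⟨hP, hQ⟩), if_neg (not_or.2 ⟨hP, hQ⟩)]
      by_cases hR : t = R
      · subst hR
        simp only [if_neg hlR.symm, pow_zero, Pi.single_eq_same]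
        linear_combination (s * (y P + (i : F) * y Q)) * hi
      rw [Pi.single_eq_of_ne hR]
      split_ifs <;> simp [hi2]
    rw [mul_act, e1, hgy]
    have hd : (y + (-(s * (y ⬝ᵥ a))) • eR + (-(s * y R)) • a + (s * s * (2 : F)⁻¹ * (y ⬝ᵥ a)) • a) ⬝ᵥ a = y ⬝ᵥ a := by
      simp only [add_dotProduct, smul_dotProduct, haa, heR, single_dotProduct, haR, mul_zero, smul_zero, add_zero]
    have hR' : (y + (-(s * (y ⬝ᵥ a))) • eR + (-(s * y R)) • a + (s * s * (2 : F)⁻¹ * (y ⬝ᵥ a)) • a) R =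
        y R - s * (y ⬝ᵥ a) := by
      simp [heR, haR]; ring
    rw [hd, hR']
    module
  have hE : ∀ β : F, ∃ X ∈ M, ∀ y : Pt 3 → F, (X : Matrix (Pt 3) (Pt 3) F) *ᵥ y = y + (β * y R) • a := by
    intro β
    set s := -(β / 4)
    obtain ⟨X, hXM, hXy⟩ := hX s
    have hDy : ∀ y : Pt 3 → F, ((D : GL (Pt 3) F) : Matrix (Pt 3) (Pt 3) F) *ᵥ y =
        fun t => (if t = P ∨ t = Q then -1 else 1) * y t := fun y => funext fun t => by
      rw [dg_act, hii]; simp only [hfD]; split_ifs <;> simp [hi2]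
    have hY : ∀ y : Pt 3 → F, ((D * X * D : GL (Pt 3) F) : Matrix (Pt 3) (Pt 3) F) *ᵥ y =
        y + (2 * s * y R) • a + (s * s * (y ⬝ᵥ a)) • a := fun y => by
      rw [mul_act, mul_act, hXy, hDy, hDy]
      funext t
      simp only [Pi.add_apply, Pi.smul_apply, smul_eq_mul, hdot, if_neg (show ¬(R = P ∨ R = Q) from not_or.2 ⟨hPR.symm, hQR.symm⟩),
        true_or, or_true, if_true]
      by_cases h : t = P ∨ t = Q
      · rw [if_pos h]; ring
      · rw [if_neg h, a0 t (fun e => h (Or.inl e)) (fun e => h (Or.inr e))]; ring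
    refine ⟨X * (D * X * D)⁻¹, M.mul_mem hXM (M.inv_mem (M.mul_mem (M.mul_mem mD hXM) mD)), fun y => ?_⟩
    set w := (((D * X * D)⁻¹ : GL (Pt 3) F) : Matrix (Pt 3) (Pt 3) F) *ᵥ y with hw
    have hy : y = w + (2 * s * w R) • a + (s * s * (w ⬝ᵥ a)) • a := by rw [← hY, hw, act_inv_act]
    have hyR : y R = w R := by rw [hy]; simp [haR]
    rw [mul_act, ← hw, hXy, hyR, hy]
    have : β = -(4 * s) := by simp only [s]; field_simp
    rw [this]
    module
  obtain ⟨X, hXM, hXy⟩ := hE (b * (2 : F)⁻¹)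
  refine ⟨X * (E * X * E), M.mul_mem hXM (M.mul_mem (M.mul_mem mE hXM) mE), Matrix.ext_iff_mulVec.2 fun y => ?_⟩
  have hEy : ∀ v : Pt 3 → F, ((E : GL (Pt 3) F) : Matrix (Pt 3) (Pt 3) F) *ᵥ v =
      fun t => (if t = Q ∨ t = l then -1 else 1) * v t := fun v => funext fun t => by
    rw [dg_act, hii]; simp only [hfE]; split_ifs <;> simp [hi2]
  rw [mul_act, mul_act, mul_act, hXy, hXy, hEy, hEy, Matrix.add_mulVec, Matrix.one_mulVec, Matrix.single_mulVec]
  funext t
  simp only [Pi.add_apply, Pi.smul_apply, smul_eq_mul,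
    if_neg (show ¬(R = Q ∨ R = l) from not_or.2 ⟨hQR.symm, hlR.symm⟩), haR, mul_zero, add_zero, one_mul]
  rw [Function.update_apply]
  by_cases hP : t = P
  · subst hP
    simp only [aP, if_neg (show ¬(t = Q ∨ t = l) from not_or.2 ⟨hQP.symm, hlP.symm⟩), if_true]
    field_simp
    ring
  rw [if_neg hP, Pi.zero_apply]
  by_cases h : t = Q ∨ t = l
  · rw [if_pos h]; ring
  · rw [if_neg h, a0 t hP (fun e => h (Or.inl e))]; ring

/-- The linear case. -/
theorem full_SL {p : ℕ} (hp : p.Prime) (hp4 : p % 4 = 1) (hcard : Fintype.card F = p)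
    (hi : (i : F) * i = -1) (_hM : BaseC i M) (_hMSL : M ≤ Cfsg.Geo.specialLinear (Pt 3) F)
    (hmono : ∀ (σ : Equiv.Perm (Pt 3)) (f : Pt 3 → ℕ),
      ((dg (fun x => i ^ f x) * pm F σ : GL (Pt 3) F) : Matrix (Pt 3) (Pt 3) F).det = 1 →
        dg (fun x => i ^ f x) * pm F σ ∈ M)
    (hJ : ∃ J ∈ M, (J : Matrix (Pt 3) (Pt 3) F) = Matrix.of fun x y =>
      if x 0 = 1 ∧ y 0 = 1 then (2:F)⁻¹ * sgn F (x 1 * y 1 + x 2 * y 2) else (if x = y then 1 else 0)) :
    Cfsg.Geo.specialLinear (Pt 3) F ≤ M := by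
  obtain ⟨J, hJM, hJv⟩ := hJ
  exact TensorMax.specialLinear_le_of_single fun P R hPR t =>
    single_mem (hcard.symm ▸ hp) (hcard.symm ▸ Nat.odd_iff.2 (by omega)) hi hmono hJM hJv hPR t

end Cfsg.Agent.C6Cplx84
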