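import Cfsg.Agent.Lib.QuadPairEuclid

/-!
Two square-zero endomorphisms `a`, `b`: the subring `k[z]⟨a, b⟩`, `z = ab + ba`, as the image of a
ring of `2 × 2` polynomial matrices, and elements of the group generated by `1 + k a`, `1 + k b`.
-/

set_option autoImplicit false

namespace Cfsg.Agent.QuadPairSL2

open Polynomial Cfsg.Agent.QuadPairEuclid

section Ring

variable {R S : Type*} [CommRing R] [CommRing S]

/-- Upper unitriangular element. -/
def up (r : R) : Matrix.SpecialLinearGroup (Fin 2) R := ⟨!![1, r; 0, 1], by simp [Matrix.det_fin_two]⟩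

/-- Lower unitriangular element. -/
def lo (r : R) : Matrix.SpecialLinearGroup (Fin 2) R := ⟨!![1, 0; r, 1], by simp [Matrix.det_fin_two]⟩

@[simp] theorem up_00 (r : R) : (up r).1 0 0 = 1 := rfl
@[simp] theorem up_01 (r : R) : (up r).1 0 1 = r := rfl
@[simp] theorem up_10 (r : R) : (up r).1 1 0 = 0 := rfl
@[simp] theorem up_11 (r : R) : (up r).1 1 1 = 1 := rfl
@[simp] theorem lo_00 (r : R) : (lo r).1 0 0 = 1 := rfl
@[simp] theorem lo_01 (r : R) : (lo r).1 0 1 = 0 := rfl
@[simp] theorem lo_10 (r : R) : (lo r).1 1 0 = r := rfl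
@[simp] theorem lo_11 (r : R) : (lo r).1 1 1 = 1 := rfl

theorem sl_ext {g h : Matrix.SpecialLinearGroup (Fin 2) R} (h00 : g.1 0 0 = h.1 0 0)
    (h01 : g.1 0 1 = h.1 0 1) (h10 : g.1 1 0 = h.1 1 0) (h11 : g.1 1 1 = h.1 1 1) : g = h := by
  apply Subtype.ext
  ext i j
  fin_cases i <;> fin_cases j <;> assumption

theorem mul_apply (g h : Matrix.SpecialLinearGroup (Fin 2) R) (i j : Fin 2) :
    (g * h).1 i j = g.1 i 0 * h.1 0 j + g.1 i 1 * h.1 1 j := by
  rw [Matrix.SpecialLinearGroup.coe_mul, Matrix.mul_apply, Fin.sum_univ_two]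

theorem det_eq (g : Matrix.SpecialLinearGroup (Fin 2) R) :
    g.1 0 0 * g.1 1 1 - g.1 0 1 * g.1 1 0 = 1 := by
  rw [← Matrix.det_fin_two]; exact g.2

theorem inv_00 (g : Matrix.SpecialLinearGroup (Fin 2) R) : (g⁻¹).1 0 0 = g.1 1 1 := by
  simp [Matrix.SpecialLinearGroup.coe_inv, Matrix.adjugate_fin_two]
theorem inv_01 (g : Matrix.SpecialLinearGroup (Fin 2) R) : (g⁻¹).1 0 1 = -g.1 0 1 := by
  simp [Matrix.SpecialLinearGroup.coe_inv, Matrix.adjugate_fin_two]
theorem inv_10 (g : Matrix.SpecialLinearGroup (Fin 2) R) : (g⁻¹).1 1 0 = -g.1 1 0 := by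
  simp [Matrix.SpecialLinearGroup.coe_inv, Matrix.adjugate_fin_two]
theorem inv_11 (g : Matrix.SpecialLinearGroup (Fin 2) R) : (g⁻¹).1 1 1 = g.1 0 0 := by
  simp [Matrix.SpecialLinearGroup.coe_inv, Matrix.adjugate_fin_two]

theorem up_mul (r s : R) : up r * up s = up (r + s) := by
  apply sl_ext <;> simp [mul_apply, add_comm]

theorem lo_mul (r s : R) : lo r * lo s = lo (r + s) := by
  apply sl_ext <;> simp [mul_apply]

theorem up_zero : up (0 : R) = 1 := by
  apply sl_ext <;> simp

theorem lo_zero : lo (0 : R) = 1 := by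
  apply sl_ext <;> simp

theorem up_inv (r : R) : (up r)⁻¹ = up (-r) :=
  inv_eq_of_mul_eq_one_right (by rw [up_mul, add_neg_cancel, up_zero])

theorem lo_inv (r : R) : (lo r)⁻¹ = lo (-r) :=
  inv_eq_of_mul_eq_one_right (by rw [lo_mul, add_neg_cancel, lo_zero])

theorem map_up (f : R →+* S) (r : R) : Matrix.SpecialLinearGroup.map f (up r) = up (f r) := by
  apply sl_ext <;> simp

theorem map_lo (f : R →+* S) (r : R) : Matrix.SpecialLinearGroup.map f (lo r) = lo (f r) := by
  apply sl_ext <;> simp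

theorem up_injective : Function.Injective (up : R → Matrix.SpecialLinearGroup (Fin 2) R) :=
  fun r s h => by simpa using congrArg (fun g : Matrix.SpecialLinearGroup (Fin 2) R => g.1 0 1) h

variable (k : Type*) [CommRing k] [Algebra k R]

/-- The group generated by `up c` and `lo (c lam)`, `c ∈ k`. -/
def dick (lam : R) : Subgroup (Matrix.SpecialLinearGroup (Fin 2) R) :=
  Subgroup.closure (Set.range (fun c : k => up (algebraMap k R c)) ∪
    Set.range (fun c : k => lo (algebraMap k R c * lam)))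

theorem up_mem_dick (lam : R) (c : k) : up (algebraMap k R c) ∈ dick k lam :=
  Subgroup.subset_closure (Or.inl ⟨c, rfl⟩)

theorem lo_mem_dick (lam : R) (c : k) : lo (algebraMap k R c * lam) ∈ dick k lam :=
  Subgroup.subset_closure (Or.inr ⟨c, rfl⟩)

theorem map_dick [Algebra k S] (f : R →ₐ[k] S) (lam : R) :
    (dick k lam).map (Matrix.SpecialLinearGroup.map (n := Fin 2) f.toRingHom) = dick k (f lam) := by
  rw [dick, dick, MonoidHom.map_closure, Set.image_union, ← Set.range_comp, ← Set.range_comp]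
  congr 2
  · congr 1; funext c; simp [map_up]
  · congr 1; funext c; simp [map_lo]

end Ring

section Word

variable {k : Type*} [Field k]

/-- A regular pair is, up to a scalar, the first column of a word. -/
theorem exists_word : ∀ (n : ℕ) (Q P : k[X]), State n Q P → disc (n + 1) Q P ≠ 0 →
    ∃ g ∈ dick k (X : k[X]), ∃ c : k, c ≠ 0 ∧ P = C c * g.1 0 0 ∧ Q = C c * g.1 1 0 := by
  intro n
  induction n with
  | zero =>
    intro Q P hS hd
    obtain ⟨hq, hp⟩ := disc_coeff_ne hd
    obtain ⟨hP, hQ⟩ := hS.eq_of_zero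
    refine ⟨lo (algebraMap k k[X] (Q.coeff 1 / P.coeff 0) * X), lo_mem_dick k _ _, P.coeff 0, hp, ?_, ?_⟩
    · rw [lo_00, mul_one]; exact hP
    · rw [lo_10, algebraMap_eq, ← mul_assoc, ← C_mul, mul_div_cancel₀ _ hp]; exact hQ
  | succ n ih =>
    intro Q P hS hd
    have hd' := hd
    simp only [disc, ne_eq, mul_eq_zero, not_or] at hd'
    obtain ⟨⟨hq, hp⟩, hrest⟩ := hd'
    have hm := mid_coeff_ne hd
    obtain ⟨g, hg, c, hc, hPc, hQc⟩ := ih _ _ (next_state hS) hrest
    set p := P.coeff (n + 1)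
    set q := Q.coeff (n + 2)
    set m := (mid n Q P).coeff (n + 1)
    set u := p ^ 2 / m
    have hPg : C (m * p) * P = C c * g.1 0 0 + C u * (C c * g.1 1 0) := by
      rw [← hPc, ← hQc, nextP, nextQ, ← mul_assoc, ← C_mul, div_mul_cancel₀ _ hm]
      ring
    refine ⟨lo (algebraMap k k[X] (q / p) * X) * (up (algebraMap k k[X] u) * g),
      mul_mem (lo_mem_dick k _ _) (mul_mem (up_mem_dick k _ _) hg), c / (m * p), div_ne_zero hc (mul_ne_zero hm hp), ?_, ?_⟩
    · simp only [mul_apply, lo_00, lo_01, up_00, up_01, one_mul, zero_mul, add_zero, algebraMap_eq]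
      apply mul_left_cancel₀ (C_ne_zero.2 (mul_ne_zero hm hp))
      rw [hPg, ← mul_assoc (C (m * p)) (C (c / (m * p))), ← C_mul (a := m * p), mul_div_cancel₀ _ (mul_ne_zero hm hp)]
      ring
    · simp only [mul_apply, lo_10, lo_11, up_00, up_01, up_10, up_11, one_mul, zero_mul, zero_add, algebraMap_eq]
      apply mul_left_cancel₀ (C_ne_zero.2 (mul_ne_zero hm hp))
      rw [← mul_assoc _ (C (c / (m * p))), ← C_mul (a := m * p), mul_div_cancel₀ _ (mul_ne_zero hm hp)]
      have e1 : C (m * p) * Q = C c * g.1 1 0 + C (q / p) * X * (C (m * p) * P) := by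
        have e2 : C c * g.1 1 0 = C m * (C p * Q - C q * X * P) := by rw [← hQc]; rfl
        have e3 : C (q / p) * C (m * p) = C (m * q) := by
          rw [← C_mul]; congr 1; field_simp
        rw [e2, show C (q / p) * X * (C (m * p) * P) = C (q / p) * C (m * p) * X * P by ring, e3, C_mul, C_mul]
        ring
      rw [e1, hPg]
      ring

end Word

section Val

variable {k : Type*} [Field k] {M : Type*} [AddCommGroup M] [Module k M]

/-- `ab + ba`. -/
def zz (a b : Module.End k M) : Module.End k M := a * b + b * a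

theorem zz_comm_left {a b : Module.End k M} (ha : a * a = 0) : Commute (zz a b) a := by
  show (a * b + b * a) * a = a * (a * b + b * a)
  rw [add_mul, mul_add, mul_assoc b, ha, ← mul_assoc a a, ha, mul_assoc a b a]
  simp

theorem zz_comm_right {a b : Module.End k M} (hb : b * b = 0) : Commute (zz a b) b := by
  show (a * b + b * a) * b = b * (a * b + b * a)
  rw [add_mul, mul_add, mul_assoc a b b, hb, ← mul_assoc b b a, hb, ← mul_assoc b a b]
  simp

theorem zz_symm (a b : Module.End k M) : zz a b = zz b a := add_comm _ _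

theorem aeval_commute {T u : Module.End k M} (h : Commute T u) (p : k[X]) : Commute (aeval T p) u := by
  have hu : u ∈ Subalgebra.centralizer k {T} :=
    (Subalgebra.mem_centralizer_iff k).2 fun x hx => by rw [Set.mem_singleton_iff.1 hx]; exact h.eq
  induction p using Polynomial.induction_on' with
  | add p q hp hq => rw [map_add]; exact hp.add_left hq
  | monomial n c =>
    rw [aeval_monomial]
    exact ((Algebra.commute_algebraMap_left c u)).mul_left (h.pow_left n)

/-- The endomorphism attached to a polynomial matrix. -/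
noncomputable def val (a b : Module.End k M) (A : Matrix (Fin 2) (Fin 2) k[X]) : Module.End k M :=
  aeval (zz a b) (A 1 1) + aeval (zz a b) (A 0 0 - A 1 1).divX * (a * b) +
    aeval (zz a b) (A 0 1) * a + aeval (zz a b) (A 1 0).divX * b

/-- The order of matrices on which `val` is multiplicative. -/
structure InOrder (A : Matrix (Fin 2) (Fin 2) k[X]) : Prop where
  lower : (A 1 0).coeff 0 = 0
  diag : (A 0 0).coeff 0 = (A 1 1).coeff 0

theorem eq_X_mul_divX {p : k[X]} (h : p.coeff 0 = 0) : p = X * p.divX := by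
  conv_lhs => rw [← X_mul_divX_add p, h, C_0, add_zero]

theorem InOrder.mul {A B : Matrix (Fin 2) (Fin 2) k[X]} (hA : InOrder A) (hB : InOrder B) : InOrder (A * B) :=
  ⟨by simp [Matrix.mul_apply, Fin.sum_univ_two, hA.lower, hB.lower],
    by simp [Matrix.mul_apply, Fin.sum_univ_two, hA.lower, hB.lower, hA.diag, hB.diag]⟩

theorem divX_X_mul' (p : k[X]) : (X * p).divX = p := by
  ext i; simp

theorem val_mul {a b : Module.End k M} (ha : a * a = 0) (hb : b * b = 0)
    {A B : Matrix (Fin 2) (Fin 2) k[X]} (hA : InOrder A) (hB : InOrder B) :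
    val a b (A * B) = val a b A * val a b B := by
  obtain ⟨r, hr⟩ : ∃ r, A 1 0 = X * r := ⟨_, eq_X_mul_divX hA.lower⟩
  obtain ⟨r', hr'⟩ : ∃ r, B 1 0 = X * r := ⟨_, eq_X_mul_divX hB.lower⟩
  obtain ⟨m, hm⟩ : ∃ m, A 0 0 - A 1 1 = X * m := ⟨_, eq_X_mul_divX (by rw [coeff_sub, hA.diag, sub_self])⟩
  obtain ⟨m', hm'⟩ : ∃ m, B 0 0 - B 1 1 = X * m := ⟨_, eq_X_mul_divX (by rw [coeff_sub, hB.diag, sub_self])⟩
  have hA0 : A 0 0 = A 1 1 + X * m := by rw [← hm]; ring
  have hB0 : B 0 0 = B 1 1 + X * m' := by rw [← hm']; ring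
  set s := A 1 1
  set s' := B 1 1
  set q := A 0 1
  set q' := B 0 1
  have e11 : (A * B) 1 1 = s * s' + X * r * q' := by
    rw [Matrix.mul_apply, Fin.sum_univ_two, hr]; ring
  have e01 : (A * B) 0 1 = s * q' + X * m * q' + q * s' := by
    rw [Matrix.mul_apply, Fin.sum_univ_two, hA0]; ring
  have e10 : (A * B) 1 0 = X * (r * s' + X * r * m' + s * r') := by
    rw [Matrix.mul_apply, Fin.sum_univ_two, hr, hr', hB0]; ring
  have e00 : (A * B) 0 0 - (A * B) 1 1 = X * (s * m' + m * s' + X * m * m' + q * r' - r * q') := by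
    rw [e11, Matrix.mul_apply, Fin.sum_univ_two, hA0, hB0, hr']; ring
  rw [val, val, val, e00, show A 0 0 - A 1 1 = X * m from hm, show B 0 0 - B 1 1 = X * m' from hm']
  simp only [e11, e01, e10, hr, hr', divX_X_mul', show A 1 1 = s from rfl, show B 1 1 = s' from rfl,
    show A 0 1 = q from rfl, show B 0 1 = q' from rfl]
  set z := zz a b with hz
  have cz : ∀ u, Commute z u → ∀ P : k[X], u * aeval z P = aeval z P * u := fun u hu P =>
    ((aeval_commute hu P).eq).symm
  have za := zz_comm_left (b := b) ha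
  have zb := zz_comm_right (a := a) hb
  have key : ∀ (P P' : k[X]) (u v : Module.End k M), Commute z u →
      aeval z P * u * (aeval z P' * v) = aeval z P * aeval z P' * (u * v) := fun P P' u v hu => by
    rw [mul_assoc, ← mul_assoc u, cz u hu, mul_assoc (aeval z P'), ← mul_assoc]
  have key' : ∀ (P P' : k[X]) (u : Module.End k M), Commute z u →
      aeval z P * u * aeval z P' = aeval z P * aeval z P' * u := fun P P' u hu => by
    rw [mul_assoc, cz u hu, ← mul_assoc]
  have zab : Commute z (a * b) := za.mul_right zb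
  have t1 : a * (a * b) = 0 := by rw [← mul_assoc, ha, zero_mul]
  have t2 : a * b * b = 0 := by rw [mul_assoc, hb, mul_zero]
  have t3 : b * a = z - a * b := by rw [hz, zz]; abel
  have t4 : a * b * a = z * a := by
    rw [hz, zz, add_mul, mul_assoc b a a, ha, mul_zero, add_zero]
  have t5 : b * (a * b) = z * b := by
    rw [hz, zz, add_mul, mul_assoc a b b, hb, mul_zero, zero_add, mul_assoc]
  have t6 : a * b * (a * b) = z * (a * b) := by rw [← mul_assoc, t4, mul_assoc]
  have hZ : aeval z (X : k[X]) = z := aeval_X z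
  simp only [mul_add, add_mul, map_add, map_sub, map_mul, hZ, sub_mul]
  simp only [key _ _ _ _ zab, key _ _ _ _ za, key _ _ _ _ zb, key' _ _ _ zab, key' _ _ _ za, key' _ _ _ zb,
    ha, hb, t1, t2, t3, t4, t5, t6, mul_zero]
  have cc : ∀ P P' : k[X], aeval z P * aeval z P' = aeval z P' * aeval z P := fun P P' => by
    rw [← map_mul, ← map_mul, mul_comm]
  have cZ : ∀ P : k[X], z * aeval z P = aeval z P * z := fun P => cz z (Commute.refl z) P
  simp only [mul_sub, ← mul_assoc]
  simp only [cZ, mul_assoc]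
  simp only [← mul_assoc, cc r' q, cc r q']
  abel

theorem val_one (a b : Module.End k M) : val a b 1 = 1 := by
  simp [val, Matrix.one_apply]

/-- The subgroup of matrices congruent to upper unitriangular ones modulo `X`. -/
noncomputable def gam : Subgroup (Matrix.SpecialLinearGroup (Fin 2) k[X]) where
  carrier := {g | (g.1 1 0).coeff 0 = 0 ∧ (g.1 0 0).coeff 0 = 1 ∧ (g.1 1 1).coeff 0 = 1}
  one_mem' := by simp
  mul_mem' := fun {g h} ⟨g1, g2, g3⟩ ⟨h1, h2, h3⟩ => by
    simp [mul_apply, g1, g2, g3, h1, h2, h3]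
  inv_mem' := fun {g} ⟨g1, g2, g3⟩ => by
    simp [inv_00, inv_10, inv_11, g1, g2, g3, coeff_neg]

theorem inOrder_of_gam {g : Matrix.SpecialLinearGroup (Fin 2) k[X]} (hg : g ∈ gam) : InOrder g.1 :=
  ⟨hg.1, hg.2.1.trans hg.2.2.symm⟩

theorem dick_le_gam : dick k (X : k[X]) ≤ gam := by
  refine (Subgroup.closure_le _).2 ?_
  rintro g (⟨c, rfl⟩ | ⟨c, rfl⟩) <;> refine ⟨?_, ?_, ?_⟩ <;> simp

/-- `val` on the group `gam`, with values in `GL(M)`. -/
noncomputable def rep {a b : Module.End k M} (ha : a * a = 0) (hb : b * b = 0) :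
    (gam (k := k)) →* LinearMap.GeneralLinearGroup k M :=
  MonoidHom.toHomUnits
    { toFun := fun g => val a b g.1.1
      map_one' := val_one a b
      map_mul' := fun g h => val_mul ha hb (inOrder_of_gam g.2) (inOrder_of_gam h.2) }

theorem rep_apply {a b : Module.End k M} (ha : a * a = 0) (hb : b * b = 0) (g : gam (k := k)) :
    ((rep ha hb g : LinearMap.GeneralLinearGroup k M) : Module.End k M) = val a b g.1.1 := rfl

/-- The elements `1 + c • a`. -/
def fam (a : Module.End k M) : Set (LinearMap.GeneralLinearGroup k M) :=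
  {g | ∃ c : k, (g : Module.End k M) = 1 + c • a}

/-- The group generated by `1 + k a` and `1 + k b`. -/
def grp (a b : Module.End k M) : Subgroup (LinearMap.GeneralLinearGroup k M) :=
  Subgroup.closure (fam a ∪ fam b)

theorem grp_symm (a b : Module.End k M) : grp a b = grp b a := by rw [grp, grp, Set.union_comm]

theorem val_up (a b : Module.End k M) (p : k[X]) : val a b (up p).1 = 1 + aeval (zz a b) p * a := by
  simp [val]

theorem val_lo_X (a b : Module.End k M) (c : k) : val a b (lo (C c * X)).1 = 1 + c • b := by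
  have : (C c * X : k[X]).divX = C c := by rw [mul_comm, divX_X_mul']
  simp [val, this, Algebra.smul_def]

theorem rep_mem_grp {a b : Module.End k M} (ha : a * a = 0) (hb : b * b = 0)
    {g : Matrix.SpecialLinearGroup (Fin 2) k[X]} (hg : g ∈ dick k (X : k[X])) :
    rep ha hb ⟨g, dick_le_gam hg⟩ ∈ grp a b := by
  induction hg using Subgroup.closure_induction with
  | mem x hx =>
    refine Subgroup.subset_closure ?_
    rcases hx with ⟨c, rfl⟩ | ⟨c, rfl⟩
    · left
      refine ⟨c, ?_⟩
      show val a b (up (algebraMap k k[X] c)).1 = _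
      rw [algebraMap_eq, val_up, aeval_C, Algebra.smul_def]
    · right
      refine ⟨c, ?_⟩
      show val a b (lo (algebraMap k k[X] c * X)).1 = _
      rw [algebraMap_eq, val_lo_X]
  | one =>
    have := map_one (rep ha hb)
    exact this ▸ one_mem _
  | mul x y hx hy ihx ihy =>
    have := map_mul (rep ha hb) ⟨x, dick_le_gam hx⟩ ⟨y, dick_le_gam hy⟩
    exact this ▸ mul_mem ihx ihy
  | inv x hx ih =>
    have := map_inv (rep ha hb) ⟨x, dick_le_gam hx⟩
    exact this ▸ inv_mem ih

/-- Equality of values from congruences. -/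
theorem val_congr {a b : Module.End k M} (p : k[X]) (hpa : aeval (zz a b) p * a = 0) (hpb : aeval (zz a b) p * b = 0)
    {A B : Matrix (Fin 2) (Fin 2) k[X]} (h01 : p ∣ A 0 1 - B 0 1) (h10 : X * p ∣ A 1 0 - B 1 0)
    (h00 : X * p ∣ A 0 0 - B 0 0) (h11 : X * p ∣ A 1 1 - B 1 1) : val a b A = val a b B := by
  set z := zz a b with hz
  have hp_comm : ∀ u : k[X], aeval z (p * u) = aeval z u * aeval z p := fun u => by rw [mul_comm p u, map_mul]
  have hza : ∀ u : k[X], aeval z (p * u) * a = 0 := fun u => by rw [hp_comm, mul_assoc, hpa, mul_zero]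
  have hzb : ∀ u : k[X], aeval z (p * u) * b = 0 := fun u => by rw [hp_comm, mul_assoc, hpb, mul_zero]
  have hzz : ∀ u : k[X], aeval z (X * p * u) = 0 := fun u => by
    have : aeval z p * z = 0 := by
      conv_lhs => arg 2; rw [hz, zz]
      rw [mul_add, ← mul_assoc, ← mul_assoc, hpa, hpb, zero_mul, zero_mul, add_zero]
    rw [show X * p * u = u * (p * X) by ring, map_mul, map_mul, aeval_X, this, mul_zero]
  obtain ⟨u1, hu1⟩ := h01
  obtain ⟨u2, hu2⟩ := h10
  obtain ⟨u3, hu3⟩ := h00
  obtain ⟨u4, hu4⟩ := h11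
  have d1 : A 0 1 = B 0 1 + p * u1 := by rw [← hu1]; ring
  have d2 : (A 1 0).divX = (B 1 0).divX + p * u2 := by
    have : A 1 0 = B 1 0 + X * (p * u2) := by rw [← mul_assoc, ← hu2]; ring
    rw [this, divX_add, divX_X_mul']
  have d3 : (A 0 0 - A 1 1).divX = (B 0 0 - B 1 1).divX + p * (u3 - u4) := by
    have : A 0 0 - A 1 1 = (B 0 0 - B 1 1) + X * (p * (u3 - u4)) := by
      rw [← mul_assoc, mul_sub, ← hu3, ← hu4]; ring
    rw [this, divX_add, divX_X_mul']
  have d4 : A 1 1 = B 1 1 + X * p * u4 := by rw [← hu4]; ring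
  simp only [val, d3]
  simp only [d1, d2, d4, map_add, add_mul, ← hz, hzz, add_zero, hza, hzb, ← mul_assoc]

theorem smul_commute {z a : Module.End k M} (h : Commute z a) (c : k) : Commute z (1 + c • a) :=
  (Commute.one_right z).add_right (h.smul_right c)

end Val

end Cfsg.Agent.QuadPairSL2
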