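import Mathlib
import Cfsg.Agent.Lib.Dickson
import Cfsg.Agent.Lib.PSLCard
import Cfsg.Agent.Lib.PSLSimple
import Cfsg.Agent.Lib.QuadPairSL2

/-!
Two opposite `k`-root groups of `SL(2, F)`, `F = k(λ)` finite, `k` of odd order at least five,
generate `SL(2, F)`.
-/

set_option autoImplicit false
set_option linter.unusedSectionVars false

open scoped MatrixGroups Classical
open Matrix OnePoint

namespace Cfsg.Agent.QuadPairDickson

open Matrix.ProjGenLinGroup (mk mk_eq_mk_iff)
open Cfsg.Agent.DicksonLine Cfsg.Agent.QuadPairSL2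

theorem orbit_card {N n q e : ℕ} (hq : 5 ≤ q) (hN : n * (q * e) = N) (he : e ∣ q - 1)
    (hn : q ∣ n - 1) (hn2 : 2 ≤ n)
    (h : (N = 60 ∧ q = 5) ∨ N = q * (q ^ 2 - 1) ∨ 2 * N = q * (q ^ 2 - 1)) : n = q + 1 := by
  obtain ⟨t, ht⟩ := hn
  have hn' : n = q * t + 1 := by omega
  have he0 : 0 < e := Nat.pos_of_dvd_of_pos he (by omega)
  have hele : e ≤ q - 1 := Nat.le_of_dvd (by omega) he
  have ht0 : 0 < t := Nat.pos_of_ne_zero fun e0 => by subst e0; omega
  suffices t = 1 by rw [hn', this, mul_one]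
  have key : ∀ f : ℕ, n * f = q ^ 2 - 1 → t = 1 := by
    intro f hf
    have h1 : 1 ≤ q ^ 2 := Nat.one_le_pow _ _ (by omega)
    have h2 : q * (t * f) + (f + 1) = q * q := by
      have : n * f + 1 = q ^ 2 := by omega
      rw [← sq, ← this, hn']; ring
    have h3 : q ∣ f + 1 := (Nat.dvd_add_right (dvd_mul_right q (t * f))).1 (h2 ▸ dvd_mul_right q q)
    have h4 : q ≤ f + 1 := Nat.le_of_dvd (Nat.succ_pos f) h3
    by_contra hne
    have h5 : 2 * f ≤ t * f := Nat.mul_le_mul (by omega) le_rfl
    have h6 : q * (2 * f) ≤ q * (t * f) := Nat.mul_le_mul le_rfl h5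
    nlinarith
  rcases h with ⟨h, rfl⟩ | h | h
  · have hne : n * e = 12 := by rw [mul_left_comm] at hN; omega
    have : n ≤ 12 := hne ▸ Nat.le_mul_of_pos_right n he0
    have : t ≤ 2 := by omega
    interval_cases t
    · rfl
    · subst hn'
      interval_cases e <;> omega
  · refine key e (Nat.eq_of_mul_eq_mul_left (show 0 < q by omega) ?_)
    rw [← h, ← hN]; ring
  · refine key (2 * e) (Nat.eq_of_mul_eq_mul_left (show 0 < q by omega) ?_)
    rw [← h, ← hN]; ring

variable {F : Type*} [Field F]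

/-- The image of an element of `SL(2,F)` in `PGL(2,F)`. -/
noncomputable def proj : SL(2, F) →* Matrix.ProjGenLinGroup (Fin 2) F :=
  mk.comp Matrix.SpecialLinearGroup.toGL

/-- The map `z ↦ 1 / (λ z)`. -/
noncomputable def flip (s : Fˣ) : Matrix.ProjGenLinGroup (Fin 2) F :=
  mk (GeneralLinearGroup.mkOfDetNeZero !![0, 1; (s : F), 0] (by simp [det_fin_two]))

@[simp] theorem toGL_apply (g : SL(2, F)) (i j : Fin 2) :
    (Matrix.SpecialLinearGroup.toGL g : GL (Fin 2) F) i j = g.1 i j := rfl

theorem proj_up (x : F) : proj (up x) = aff 1 x := by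
  show mk _ = mk _
  congr 1
  apply Units.ext
  rw [affGL_coe]
  rfl

theorem flip_proj_up (s : Fˣ) (x : F) : flip s * proj (up x) = proj (lo ((s : F) * x)) * flip s := by
  show mk _ * mk _ = mk _ * mk _
  rw [← map_mul, ← map_mul]
  congr 1
  apply Units.ext
  ext i j
  fin_cases i <;> fin_cases j <;> simp [Matrix.mul_apply, Fin.sum_univ_two]

theorem flip_proj_lo (s : Fˣ) (x : F) : flip s * proj (lo ((s : F) * x)) = proj (up x) * flip s := by
  show mk _ * mk _ = mk _ * mk _
  rw [← map_mul, ← map_mul]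
  congr 1
  apply Units.ext
  ext i j
  fin_cases i <;> fin_cases j <;> simp [Matrix.mul_apply, Fin.sum_univ_two, mul_comm]

theorem proj_lo_smul_infty (y : F) (hy : y ≠ 0) :
    proj (lo y) • (∞ : OnePoint F) = ((1 / y : F) : OnePoint F) := by
  show mk _ • _ = _
  rw [DicksonLine.mk_smul, smul_infty_eq_ite, if_neg (by simpa using hy)]
  simp

theorem proj_lo_smul_coe (y x : F) (h : y * x + 1 ≠ 0) :
    proj (lo y) • (x : OnePoint F) = ((x / (y * x + 1) : F) : OnePoint F) := by
  show mk _ • _ = _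
  rw [DicksonLine.mk_smul, smul_some_eq_ite, if_neg (by simpa using h)]
  simp

theorem sq_eq_of_proj {g h : SL(2, F)} (he : proj g = proj h) : g * g = h * h := by
  obtain ⟨u, hu⟩ := mk_eq_mk_iff.1 he
  apply Matrix.SpecialLinearGroup.toGL_injective
  have hu2 : u * u = 1 := by
    have hd : (Matrix.SpecialLinearGroup.toGL g * GeneralLinearGroup.scalar (Fin 2) u : GL (Fin 2) F).1.det =
        (Matrix.SpecialLinearGroup.toGL h).1.det := congrArg (fun t : GL (Fin 2) F => t.1.det) hu
    rw [Units.val_mul, Matrix.det_mul, Matrix.SpecialLinearGroup.coe_GL_coe_matrix,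
      Matrix.SpecialLinearGroup.coe_GL_coe_matrix, g.2, h.2, GeneralLinearGroup.coe_scalar] at hd
    apply Units.ext
    rw [Units.val_mul, Units.val_one]
    rw [Matrix.scalar_apply, Matrix.det_diagonal, Fin.prod_univ_two, one_mul] at hd
    exact hd
  rw [map_mul, map_mul, ← hu]
  calc Matrix.SpecialLinearGroup.toGL g * Matrix.SpecialLinearGroup.toGL g
      = Matrix.SpecialLinearGroup.toGL g * Matrix.SpecialLinearGroup.toGL g *
          GeneralLinearGroup.scalar (Fin 2) (u * u) := by rw [hu2, map_one, mul_one]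
    _ = _ := by
        rw [map_mul, ← GeneralLinearGroup.scalar_commute]
        simp only [mul_assoc]
        congr 1
        rw [← mul_assoc, ← mul_assoc, GeneralLinearGroup.scalar_commute, mul_assoc]

theorem mem_of_proj_up_mem {H : Subgroup SL(2, F)} {x : F} (h : proj (up x) ∈ H.map proj) :
    up (2 * x) ∈ H := by
  obtain ⟨g, hg, he⟩ := h
  rw [two_mul, ← up_mul, ← sq_eq_of_proj he]
  exact mul_mem hg hg

theorem mem_of_proj_lo_mem {H : Subgroup SL(2, F)} {x : F} (h : proj (lo x) ∈ H.map proj) :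
    lo (2 * x) ∈ H := by
  obtain ⟨g, hg, he⟩ := h
  rw [two_mul, ← lo_mul, ← sq_eq_of_proj he]
  exact mul_mem hg hg

variable [Finite F] {k : Type*} [Field k] [Algebra k F]

/-- Dickson: `up k` and `lo (k λ)` generate `SL(2, F)`. -/
theorem dick_eq_top (hk2 : (2 : k) ≠ 0) (hk3 : Nat.card k ≠ 3) {lam : F} (hlam : lam ≠ 0)
    (hgen : Algebra.adjoin k ({lam} : Set F) = ⊤) : dick k lam = ⊤ := by
  cases nonempty_fintype F
  haveI : Finite k := Finite.of_injective _ (algebraMap k F).injective
  cases nonempty_fintype k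
  obtain ⟨p, hchar⟩ := CharP.exists k
  haveI : Fact p.Prime := ⟨CharP.char_is_prime k p⟩
  haveI hF : CharP F p := (RingHom.charP_iff (algebraMap k F) (algebraMap k F).injective p).mp hchar
  have h2 : (2 : F) ≠ 0 := by
    rw [← map_ofNat (algebraMap k F) 2, Ne, map_eq_zero]; exact hk2
  have hp2 : p ≠ 2 := by
    rintro rfl
    exact hk2 (CharP.cast_eq_zero k 2)
  obtain ⟨a0, -, hka⟩ := FiniteField.card k p
  have hk5 : 5 ≤ Nat.card k := by
    rw [Nat.card_eq_fintype_card, hka] at hk3 ⊢
    have h3 : 3 ≤ p := by have := (Fact.out : p.Prime).two_le; omega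
    rcases Nat.lt_or_ge (a0 : ℕ) 2 with h | h
    · have : (a0 : ℕ) = 1 := by have := a0.pos; omega
      rw [this, pow_one] at hk3 ⊢
      by_contra hc
      have : p = 4 := by omega
      subst this
      exact absurd (Fact.out : Nat.Prime 4) (by decide)
    · calc 5 ≤ 3 ^ 2 := by norm_num
        _ ≤ p ^ 2 := Nat.pow_le_pow_left h3 2
        _ ≤ p ^ (a0 : ℕ) := Nat.pow_le_pow_right (by omega) h
  set s : Fˣ := Units.mk0 lam hlam with hs
  set J : Subgroup (Matrix.ProjGenLinGroup (Fin 2) F) := (dick k lam).map proj with hJ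
  let A : AddSubgroup F :=
    { carrier := {x | proj (up x) ∈ J}
      zero_mem' := by simp [QuadPairSL2.up_zero, J.one_mem]
      add_mem' := fun {x y} hx hy => by
        show proj (up (x + y)) ∈ J
        rw [← up_mul, map_mul]; exact J.mul_mem hx hy
      neg_mem' := fun {x} hx => by
        show proj (up (-x)) ∈ J
        rw [← up_inv, map_inv]; exact J.inv_mem hx }
  have hAk : ∀ c : k, algebraMap k F c ∈ A := fun c =>
    Subgroup.mem_map_of_mem _ (up_mem_dick k lam c)
  have hJlo : ∀ c : k, proj (lo (algebraMap k F c * lam)) ∈ J := fun c =>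
    Subgroup.mem_map_of_mem _ (lo_mem_dick k lam c)
  -- the symmetry
  have hflip : ∀ g ∈ J, flip s * g * (flip s)⁻¹ ∈ J := by
    suffices J ≤ J.comap (MulAut.conj (flip s)).toMonoidHom from fun g hg => this hg
    rw [hJ, dick, MonoidHom.map_closure, Subgroup.closure_le]
    rintro _ ⟨x, (⟨c, rfl⟩ | ⟨c, rfl⟩), rfl⟩
    · show flip s * _ * (flip s)⁻¹ ∈ Subgroup.closure _
      rw [flip_proj_up, mul_inv_cancel_right, hs, Units.val_mk0, mul_comm]
      exact Subgroup.subset_closure ⟨_, Or.inr ⟨c, rfl⟩, rfl⟩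
    · show flip s * _ * (flip s)⁻¹ ∈ Subgroup.closure _
      simp only [show algebraMap k F c * lam = (s : F) * algebraMap k F c from mul_comm _ _]
      rw [flip_proj_lo,
        mul_inv_cancel_right]
      exact Subgroup.subset_closure ⟨_, Or.inl ⟨c, rfl⟩, rfl⟩
  have hAB : ∀ x : F, proj (lo (lam * x)) ∈ J ↔ x ∈ A := by
    intro x
    constructor
    · intro h
      have := hflip _ h
      rwa [show lam = (s : F) from rfl, flip_proj_lo, mul_inv_cancel_right] at this
    · intro h
      have := hflip _ h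
      rwa [flip_proj_up, mul_inv_cancel_right] at this
  -- counting data
  have h1 : (1 : Matrix.ProjGenLinGroup (Fin 2) F) • (∞ : OnePoint F) = ∞ := one_smul _ _
  set q := DicksonCount.uP J (∞ : OnePoint F) with hqdef
  set n := Nat.card (MulAction.orbit J (∞ : OnePoint F)) with hndef
  obtain ⟨e, hst, he⟩ := count_hk J (∞ : OnePoint F)
  have hn : q ∣ n - 1 := count_hfree J _
  have hqA : q = Nat.card A := by
    rw [hqdef, ← card_transSet (H := J) h1]
    have e : transSet J (1 : Matrix.ProjGenLinGroup (Fin 2) F) = (A : Set F) \ {0} := by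
      ext x
      simp only [transSet, Set.mem_ofPred_eq, inv_one, one_mul, mul_one, ← proj_up, Set.mem_diff,
        SetLike.mem_coe, Set.mem_singleton_iff]
      exact and_comm
    rw [e, Nat.card_coe_set_eq, Set.ncard_diff_singleton_add_one A.zero_mem (Set.toFinite _),
      ← Nat.card_coe_set_eq]
    rfl
  have hkq : Nat.card k ≤ q := hqA ▸ Nat.card_le_card_of_injective
    (fun c => (⟨_, hAk c⟩ : A)) fun a b h => (algebraMap k F).injective (congrArg Subtype.val h)
  have hq5 : 5 ≤ q := hk5.trans hkq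
  obtain ⟨aF, -, hFa⟩ := FiniteField.card F p
  obtain ⟨a, -, hqa⟩ : ∃ a, a ≤ (aF : ℕ) ∧ q = p ^ a := by
    refine (Nat.dvd_prime_pow (Fact.out : p.Prime)).1 ?_
    rw [← hFa, ← Nat.card_eq_fintype_card, hqA]
    exact A.card_addSubgroup_dvd_card
  have hpq : p ∣ q := by
    rw [hqa]
    exact dvd_pow_self p fun h => by rw [h, pow_zero] at hqa; omega
  have hN : n * (q * e) = Nat.card J := by
    rw [← hst, hndef, ← Nat.card_prod]
    exact Nat.card_congr (MulAction.orbitProdStabilizerEquivGroup J (∞ : OnePoint F))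
  have hinf : proj (lo lam) • (∞ : OnePoint F) = ((1 / lam : F) : OnePoint F) :=
    proj_lo_smul_infty _ hlam
  have hlo1 : proj (lo lam) ∈ J := by simpa using hJlo 1
  have hn2 : 2 ≤ n := by
    rw [hndef, Nat.card_coe_set_eq]
    refine (Set.one_lt_ncard_iff (Set.toFinite _)).2
      ⟨∞, ((1 / lam : F) : OnePoint F), MulAction.mem_orbit_self _, ?_, OnePoint.infty_ne_coe _⟩
    exact ⟨⟨_, hlo1⟩, hinf⟩
  have hcop : ¬ p ∣ n * e := by
    intro h
    rcases (Fact.out : p.Prime).dvd_mul.1 h with h | h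
    · have h' := hpq.trans hn
      have := Nat.dvd_sub h h'
      rw [Nat.sub_sub_self (by omega)] at this
      exact (Fact.out : p.Prime).one_lt.ne' (Nat.dvd_one.1 this)
    · have := Nat.dvd_sub hpq (h.trans he)
      rw [Nat.sub_sub_self (by omega)] at this
      exact (Fact.out : p.Prime).one_lt.ne' (Nat.dvd_one.1 this)
  have hqN : q ∣ Nat.card J := ⟨n * e, by rw [← hN]; ring⟩
  have hppart : ∀ {b m : ℕ}, Nat.card J = p ^ b * m → ¬ p ∣ m → q = p ^ b := by
    intro b m hb hm
    refine Nat.dvd_antisymm ?_ ?_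
    · refine Nat.Coprime.dvd_of_dvd_mul_right ?_ (hb ▸ hqN : q ∣ p ^ b * m)
      rw [hqa]
      exact Nat.Coprime.pow_left _ ((Fact.out : p.Prime).coprime_iff_not_dvd.2 hm)
    · refine Nat.Coprime.dvd_of_dvd_mul_right ?_
        (show p ^ b ∣ q * (n * e) from ⟨m, by rw [← hb, ← hN]; ring⟩)
      exact Nat.Coprime.pow_left _ ((Fact.out : p.Prime).coprime_iff_not_dvd.2 hcop)
  -- Dickson's list
  have hcard : (Nat.card J = 60 ∧ q = 5) ∨ Nat.card J = q * (q ^ 2 - 1) ∨
      2 * Nat.card J = q * (q ^ 2 - 1) := by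
    have hpN : p ∣ Nat.card J := hpq.trans hqN
    have hno : ∀ m, Nat.card J = m → (m = 12 ∨ m = 24) → False := by
      intro m hm h
      have hqm : q ∣ 24 := by
        rcases h with rfl | rfl
        · exact (hm ▸ hqN).trans (by norm_num)
        · exact hm ▸ hqN
      have hle : q ≤ 24 := Nat.le_of_dvd (by norm_num) hqm
      have hodd : Odd q := hqa ▸ ((Fact.out : p.Prime).odd_of_ne_two hp2).pow
      interval_cases q <;> first | omega | exact absurd hodd (by decide)
    rcases Dickson.dickson_pgl p J with h | h | h | h | h | h | h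
    · exact absurd hpN h.2
    · exfalso
      obtain ⟨x, hx, -⟩ := h
      have hA1 : (1 : F) ∈ A := by simpa using hAk 1
      cases x with
      | infty =>
        exact OnePoint.coe_ne_infty _ (hinf.symm.trans (hx hlo1))
      | coe z =>
        have := hx hA1
        rw [MulAction.mem_stabilizer_iff, proj_up, aff_smul_coe, OnePoint.coe_eq_coe] at this
        simp at this
    · exfalso
      obtain ⟨C, -, hC, hidx, -, -⟩ := h
      obtain ⟨g, hg⟩ := exists_prime_orderOf_dvd_card' p hpN
      have hgC : g ∈ C := by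
        obtain ⟨m, hm⟩ := (Fact.out : p.Prime).odd_of_ne_two hp2
        have : g = (g * g) ^ (m + 1) := by
          rw [← sq, ← pow_mul, show 2 * (m + 1) = p + 1 by omega, pow_succ, ← hg,
            pow_orderOf_eq_one, one_mul]
        rw [this]
        exact pow_mem (Subgroup.mul_self_mem_of_index_two hidx g) _
      refine hC (hg ▸ ?_)
      exact (orderOf_submonoid (⟨g, hgC⟩ : C)).symm ▸ orderOf_dvd_natCard _
    · obtain ⟨f⟩ := h
      refine (hno 12 ?_ (Or.inl rfl)).elim
      rw [Nat.card_congr f.toEquiv, nat_card_alternatingGroup, Nat.card_eq_fintype_card,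
        Fintype.card_fin]
      rfl
    · obtain ⟨f⟩ := h
      refine (hno 24 ?_ (Or.inr rfl)).elim
      rw [Nat.card_congr f.toEquiv, Nat.card_perm, Nat.card_eq_fintype_card, Fintype.card_fin]
      rfl
    · obtain ⟨f⟩ := h
      have h60 : Nat.card J = 60 := by
        rw [Nat.card_congr f.toEquiv, nat_card_alternatingGroup, Nat.card_eq_fintype_card,
          Fintype.card_fin]
        rfl
      refine Or.inl ⟨h60, ?_⟩
      have hq60 : q ∣ 60 := h60 ▸ hqN
      have hle : q ≤ 60 := Nat.le_of_dvd (by norm_num) hq60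
      have hodd : Odd q := hqa ▸ ((Fact.out : p.Prime).odd_of_ne_two hp2).pow
      have h15 : q ≠ 15 := by
        intro h
        have h3 : 3 ∣ p ^ a := hqa ▸ h ▸ (by norm_num)
        have h5 : 5 ∣ p ^ a := hqa ▸ h ▸ (by norm_num)
        have := (Nat.prime_dvd_prime_iff_eq Nat.prime_three Fact.out).1 (Nat.prime_three.dvd_of_dvd_pow h3)
        have := (Nat.prime_dvd_prime_iff_eq Nat.prime_five Fact.out).1 (Nat.prime_five.dvd_of_dvd_pow h5)
        omega
      interval_cases q <;> first | omega | exact absurd hodd (by decide)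
    · right
      obtain ⟨R, -, hR⟩ := h
      cases nonempty_fintype R
      haveI : CharP R p := (RingHom.charP_iff R.subtype R.subtype.injective p).mpr hF
      obtain ⟨b, -, hb⟩ := FiniteField.card R p
      rw [← Nat.card_eq_fintype_card] at hb
      set r := Nat.card R with hr
      have hr1 : 1 < r := PSLCard.one_lt_card R
      have hpm : ¬ p ∣ r ^ 2 - 1 := by
        intro hd
        have hd2 : p ∣ r ^ 2 := dvd_pow (hb ▸ dvd_pow_self p b.ne_zero) two_ne_zero
        have := Nat.dvd_sub hd2 hd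
        rw [Nat.sub_sub_self (Nat.one_le_pow _ _ (by omega))] at this
        exact (Fact.out : p.Prime).one_lt.ne' (Nat.dvd_one.1 this)
      rcases hR with ⟨⟨f⟩⟩ | ⟨hodd, ⟨f⟩⟩
      · have hc : Nat.card J = p ^ (b : ℕ) * (r ^ 2 - 1) := by
          rw [Nat.card_congr f.toEquiv, PSLCard.card_PGL2, ← hb]
        rw [hppart hc hpm, hc]
        exact Or.inl (by rw [← hb])
      · have h2c : 2 * Nat.card J = p ^ (b : ℕ) * (r ^ 2 - 1) := by
          rw [Nat.card_congr f.toEquiv, ← hb, ← PSLCard.card_PSL2_mul]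
          congr 1
          obtain ⟨m, hm⟩ := hodd
          rw [Nat.gcd_eq_left ⟨m, by omega⟩]
        obtain ⟨m', hm'⟩ : 2 ∣ r ^ 2 - 1 := by
          obtain ⟨m, hm⟩ := hodd
          exact ⟨2 * m * m + 2 * m, by rw [hm]; ring_nf; omega⟩
        have hc : Nat.card J = p ^ (b : ℕ) * m' := by
          rw [hm'] at h2c
          linarith
        refine Or.inr ?_
        rw [hppart hc fun h => hpm (hm' ▸ dvd_mul_of_dvd_right h 2), h2c, ← hb]
  have hnq : n = q + 1 := orbit_card hq5 hN he hn hn2 hcard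
  -- the orbit is `∞` and `A`
  set O := MulAction.orbit J (∞ : OnePoint F) with hO
  have hOmem : ∀ {g : Matrix.ProjGenLinGroup (Fin 2) F} {x : OnePoint F}, g ∈ J → x ∈ O →
      g • x ∈ O := fun {g x} hg hx => MulAction.mem_orbit_of_mem_orbit (⟨g, hg⟩ : J) hx
  have hy0 : ((1 / lam : F) : OnePoint F) ∈ O := hinf ▸ hOmem hlo1 (MulAction.mem_orbit_self _)
  have hOeq : O = insert ∞ ((fun x : F => ((1 / lam + x : F) : OnePoint F)) '' (A : Set F)) := by
    refine (Set.eq_of_subset_of_ncard_le ?_ ?_ (Set.toFinite _)).symm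
    · refine Set.insert_subset (MulAction.mem_orbit_self _) ?_
      rintro _ ⟨x, hx, rfl⟩
      have : proj (up x) • ((1 / lam : F) : OnePoint F) ∈ O := hOmem hx hy0
      rwa [proj_up, aff_smul_coe, Units.val_one, one_mul] at this
    · rw [← Nat.card_coe_set_eq, ← hndef, hnq, hqA, Set.ncard_insert_of_notMem (by simp)
        (Set.toFinite _), Set.ncard_image_of_injective _ (fun x y h => by simpa using h),
        ← Nat.card_coe_set_eq]
      rfl
  have hlamA : 1 / lam ∈ A := by
    have hd : ∀ c : k, c ≠ 0 → (1 / algebraMap k F c - 1) / lam ∈ A := by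
      intro c hc
      have hc' : algebraMap k F c * lam ≠ 0 := mul_ne_zero (by simpa using hc) hlam
      have hm : ((1 / (algebraMap k F c * lam) : F) : OnePoint F) ∈ O :=
        proj_lo_smul_infty _ hc' ▸ hOmem (hJlo c) (MulAction.mem_orbit_self _)
      rw [hOeq] at hm
      simp only [Set.mem_insert_iff, OnePoint.coe_ne_infty, false_or, Set.mem_image,
        OnePoint.coe_eq_coe, SetLike.mem_coe] at hm
      obtain ⟨x, hx, hxe⟩ := hm
      convert hx using 1
      have : algebraMap k F c ≠ 0 := by simpa using hc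
      field_simp
      field_simp at hxe
      linear_combination -hxe
    have h := hd (1 / 2) (one_div_ne_zero hk2)
    rw [map_div₀, map_one, map_ofNat] at h
    convert h using 1
    field_simp
    norm_num
  have hO' : ∀ x : F, ((x : F) : OnePoint F) ∈ O ↔ x ∈ A := by
    intro x
    rw [hOeq]
    simp only [Set.mem_insert_iff, OnePoint.coe_ne_infty, false_or, Set.mem_image,
      OnePoint.coe_eq_coe, SetLike.mem_coe]
    exact ⟨fun ⟨y, hy, e⟩ => e ▸ A.add_mem hlamA hy,
      fun hx => ⟨x - 1 / lam, A.sub_mem hx hlamA, by ring⟩⟩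
  let B : Set F := {y | proj (lo y) ∈ J}
  have hBinv : ∀ y ∈ B, y ≠ 0 → 1 / y ∈ A := fun y hy hy0 =>
    (hO' _).1 (proj_lo_smul_infty y hy0 ▸ hOmem hy (MulAction.mem_orbit_self _))
  have hAinv : ∀ x ∈ A, x ≠ 0 → 1 / x ∈ B := by
    intro x hx hx0
    set T : Set F := (A : Set F) \ {0}
    have hbij := Set.eq_of_subset_of_ncard_le (s := (fun a => 1 / (lam * a)) '' T) (t := T) ?_ ?_
      (Set.toFinite _)
    · obtain ⟨a, ha, rfl⟩ := (Set.ext_iff.1 hbij x).2 (⟨hx, hx0⟩ : x ∈ T)
      show proj (lo _) ∈ J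
      rw [one_div_one_div]
      exact (hAB a).2 ha.1
    · rintro _ ⟨a, ⟨ha, ha0⟩, rfl⟩
      exact ⟨hBinv _ ((hAB a).2 ha) (mul_ne_zero hlam ha0), by simp [hlam, show a ≠ 0 from ha0]⟩
    · rw [Set.ncard_image_of_injective _ fun a b h => by simpa [hlam] using h]
  have hBadd : ∀ y ∈ B, ∀ z ∈ B, y + z ∈ B := fun y hy z hz => by
    show proj (lo (y + z)) ∈ J
    rw [← lo_mul, map_mul]; exact J.mul_mem hy hz
  have hHua : ∀ x ∈ A, ∀ y ∈ B, x * x * y ∈ A := by
    intro x hx y hy
    rcases eq_or_ne x 0 with rfl | hx0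
    · simp [A.zero_mem]
    rcases eq_or_ne y 0 with rfl | hy0
    · simp [A.zero_mem]
    rcases eq_or_ne (x * y) 1 with h1 | h1
    · rw [mul_assoc, h1, mul_one]; exact hx
    have hu : 1 / y - x ∈ A := A.sub_mem (hBinv y hy hy0) hx
    have hxy : 1 - x * y ≠ 0 := sub_ne_zero.2 (Ne.symm h1)
    have hue : 1 / y - x = (1 - x * y) / y := by field_simp
    have hu0 : 1 / y - x ≠ 0 := hue ▸ div_ne_zero hxy hy0
    have hs : 1 / x + 1 / (1 / y - x) ∈ B := hBadd _ (hAinv x hx hx0) _ (hAinv _ hu hu0)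
    have hse : 1 / x + 1 / (1 / y - x) = 1 / (x * (1 - x * y)) := by
      rw [hue]; field_simp; ring
    rw [hse] at hs
    have := hBinv _ hs (one_div_ne_zero (mul_ne_zero hx0 hxy))
    rw [one_div_one_div] at this
    have h' := A.sub_mem hx this
    convert h' using 1
    ring
  have hA1 : (1 : F) ∈ A := by simpa using hAk 1
  have hBsub : ∀ y ∈ B, y ∈ A := fun y hy => by simpa using hHua 1 hA1 y hy
  have hAsubB : ∀ x ∈ A, x ∈ B := by
    set S : Set F := (fun a => lam * a) '' (A : Set F)
    have hS : S = (A : Set F) := Set.eq_of_subset_of_ncard_le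
      (by rintro _ ⟨a, ha, rfl⟩; exact hBsub _ ((hAB a).2 ha))
      (by rw [Set.ncard_image_of_injective _ (fun a b h => by simpa [hlam] using h)]) (Set.toFinite _)
    intro x hx
    obtain ⟨a, ha, rfl⟩ := hS.symm ▸ (show x ∈ (A : Set F) from hx)
    exact (hAB a).2 ha
  have hhalf : ∀ x : F, 2 * x ∈ A → x ∈ A := by
    intro x hx
    obtain ⟨m, hm⟩ := (Fact.out : p.Prime).odd_of_ne_two hp2
    have := A.nsmul_mem hx (m + 1)
    rw [nsmul_eq_mul] at this
    have hp0 : ((2 * m + 1 : ℕ) : F) = 0 := hm ▸ CharP.cast_eq_zero F p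
    push_cast at this hp0
    convert this using 1
    linear_combination -x * hp0
  have hmul : ∀ x ∈ A, ∀ y ∈ A, x * y ∈ A := by
    intro x hx y hy
    refine hhalf _ ?_
    have e1 := hHua (x + 1) (A.add_mem hx hA1) y (hAsubB y hy)
    have e2 := hHua x hx y (hAsubB y hy)
    have e3 := A.sub_mem (A.sub_mem e1 e2) hy
    convert e3 using 1
    ring
  have hAtop : ∀ x : F, x ∈ A := by
    intro x
    have hx : x ∈ Algebra.adjoin k ({lam} : Set F) := hgen ▸ Algebra.mem_top
    induction hx using Algebra.adjoin_induction with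
    | mem y hy =>
      rw [Set.mem_singleton_iff.1 hy]
      exact hBsub _ (show proj (lo lam) ∈ J by simpa using (hAB 1).2 hA1)
    | algebraMap c => exact hAk c
    | add y z _ _ hy hz => exact A.add_mem hy hz
    | mul y z _ _ hy hz => exact hmul y hy z hz
  -- lift
  have hup : ∀ x : F, up x ∈ dick k lam := fun x => by
    have := mem_of_proj_up_mem (hAtop (x / 2))
    rwa [mul_div_cancel₀ _ h2] at this
  have hlo : ∀ y : F, lo y ∈ dick k lam := by
    intro y
    have h := mem_of_proj_lo_mem (hAsubB (y / 2) (hAtop _))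
    rwa [mul_div_cancel₀ _ h2] at h
  refine PSLSimple.eq_top_of_transvection_mem _ fun i j hij c => ?_
  fin_cases i <;> fin_cases j <;> first | exact absurd rfl hij | skip
  · convert hup c using 1
    apply QuadPairSL2.sl_ext <;> simp [Matrix.SpecialLinearGroup.transvection, Matrix.transvection]
  · convert hlo c using 1
    apply QuadPairSL2.sl_ext <;> simp [Matrix.SpecialLinearGroup.transvection, Matrix.transvection]

end Cfsg.Agent.QuadPairDickson
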