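import Mathlib
import Cfsg.Agent.Lib.SL2SylowSubfield

/-!
A subgroup of `SL(2, q₀ ^ r)`, `r` odd, cannot meet the upper root group in exactly `q₀ ^ 2`
elements and the lower root group non-trivially (variant of `SL2SylowSubfield.contra`).
-/

set_option autoImplicit false
set_option linter.unusedSectionVars false

open scoped MatrixGroups
open Matrix OnePoint

namespace Cfsg.Agent.OrthSubfieldSL44

open Cfsg.Agent.DicksonLine Cfsg.Agent.QuadPairSL2 Cfsg.Agent.SL2SylowSubfield

variable {F : Type*} [Field F]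

theorem contra [Finite F] (J : Subgroup SL(2, F)) {q₀ r : ℕ} (hq : 1 < q₀) (hr : Odd r)
    (hF : Nat.card F = q₀ ^ r) {t : F} (ht : t ≠ 0) (htJ : up t ∈ J)
    (hupc : Nat.card {x : F // up x ∈ J} = q₀ ^ 2)
    {y : F} (hy0 : y ≠ 0) (hy : lo y ∈ J) : False := by
  have hup := hupc.le
  classical
  obtain ⟨p, hchar⟩ := CharP.exists F
  haveI : Fact p.Prime := ⟨CharP.char_is_prime F p⟩
  have hN4 : 4 ≤ q₀ ^ 2 := by nlinarith
  -- the upper element lies in a Sylow subgroup contained in the upper root group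
  have hpow : (⟨up t, htJ⟩ : J) ^ p = 1 := Subtype.ext (by
    rw [SubmonoidClass.coe_pow, up_pow, CharP.cast_eq_zero, zero_mul, up_zero]; rfl)
  have hz : IsPGroup p (Subgroup.zpowers (⟨up t, htJ⟩ : J)) := by
    rintro ⟨g, m, rfl⟩
    refine ⟨1, Subtype.ext ?_⟩
    simp only [pow_one, SubmonoidClass.coe_pow, OneMemClass.coe_one]
    rw [← zpow_natCast, ← _root_.zpow_mul, mul_comm, _root_.zpow_mul, zpow_natCast, hpow, _root_.one_zpow]
  obtain ⟨P, hP⟩ := hz.exists_le_sylow
  have htP : (⟨up t, htJ⟩ : J) ∈ (P : Subgroup J) := hP (Subgroup.mem_zpowers _)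
  haveI : Nontrivial (P : Subgroup J) := ⟨⟨⟨_, htP⟩, 1, fun h => ht (by
    have h' := congrArg (fun m : (P : Subgroup J) => ((m : J) : SL(2, F)).1 0 1) h
    simpa [up] using h')⟩⟩
  haveI := P.isPGroup'.center_nontrivial
  obtain ⟨z, hz1⟩ := exists_ne (1 : Subgroup.center (P : Subgroup J))
  set z' : SL(2, F) := (((z : (P : Subgroup J)) : J) : SL(2, F))
  have hcomm : ∀ g : (P : Subgroup J), ((g : J) : SL(2, F)) * z' = z' * ((g : J) : SL(2, F)) := fun g =>
    congrArg (fun m : (P : Subgroup J) => ((m : J) : SL(2, F))) (Subgroup.mem_center_iff.mp z.2 g)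
  have hpel : ∀ g : (P : Subgroup J), ∃ k, ((g : J) : SL(2, F)) ^ p ^ k = 1 := fun g => by
    obtain ⟨k, hk⟩ := P.isPGroup' g
    exact ⟨k, by simpa using congrArg (fun m : (P : Subgroup J) => ((m : J) : SL(2, F))) hk⟩
  have hzu : z' = up (z'.1 0 1) := by
    obtain ⟨h1, h2⟩ := of_commute_up ht (hcomm ⟨_, htP⟩).symm
    obtain ⟨k, hk⟩ := hpel z
    exact eq_up_of_pow_eq_one h1 h2 hk
  have hz0 : z'.1 0 1 ≠ 0 := fun h => by
    apply hz1
    rw [h, up_zero] at hzu
    exact Subtype.ext (Subtype.ext (Subtype.ext hzu))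
  have hPup : ∀ g : (P : Subgroup J), ((g : J) : SL(2, F)) = up (((g : J) : SL(2, F)).1 0 1) := fun g => by
    have hg : ((g : J) : SL(2, F)) * up (z'.1 0 1) = up (z'.1 0 1) * ((g : J) : SL(2, F)) := hzu ▸ hcomm g
    obtain ⟨h1, h2⟩ := of_commute_up hz0 hg
    obtain ⟨k, hk⟩ := hpel g
    exact eq_up_of_pow_eq_one h1 h2 hk
  have hPle : Nat.card (P : Subgroup J) ≤ q₀ ^ 2 := by
    refine le_trans (Nat.card_le_card_of_injective
      (fun g => (⟨((g : J) : SL(2, F)).1 0 1, hPup g ▸ (g : J).2⟩ : {x : F // up x ∈ J})) ?_) hup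
    intro g h he
    have he' : ((g : J) : SL(2, F)).1 0 1 = ((h : J) : SL(2, F)).1 0 1 := congrArg Subtype.val he
    exact Subtype.ext (Subtype.ext (by rw [hPup g, hPup h, he']))
  -- the upper root group is the Sylow subgroup
  let U : Subgroup J :=
    { carrier := {g | ∃ x, (g : SL(2, F)) = up x}
      one_mem' := ⟨0, by rw [up_zero]; rfl⟩
      mul_mem' := fun {a} {b} ha hb => by
        obtain ⟨x, hx⟩ := ha
        obtain ⟨z, hz⟩ := hb
        exact ⟨x + z, by rw [Subgroup.coe_mul, hx, hz, up_mul]⟩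
      inv_mem' := fun {a} ha => by
        obtain ⟨x, hx⟩ := ha
        exact ⟨-x, by rw [Subgroup.coe_inv, hx, up_inv]⟩ }
  have hU : IsPGroup p U := by
    rintro ⟨g, x, hx⟩
    refine ⟨1, Subtype.ext (Subtype.ext ?_)⟩
    rw [pow_one, SubmonoidClass.coe_pow, SubmonoidClass.coe_pow, hx, up_pow, CharP.cast_eq_zero, zero_mul,
      up_zero]
    rfl
  have hUge : q₀ ^ 2 ≤ Nat.card U := by
    refine hupc.ge.trans (Nat.card_le_card_of_injective
      (fun x => (⟨⟨up x.1, x.2⟩, x.1, rfl⟩ : U)) fun a b h => Subtype.ext ?_)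
    have := congrArg (fun m : U => ((m : J) : SL(2, F)).1 0 1) h
    simpa [up] using this
  obtain ⟨R', hR'⟩ := hU.exists_le_sylow
  have hPR : Nat.card (P : Subgroup J) = Nat.card (R' : Subgroup J) := by
    rw [P.card_eq_multiplicity, R'.card_eq_multiplicity]
  have hPeq : Nat.card (P : Subgroup J) = q₀ ^ 2 :=
    le_antisymm hPle ((hUge.trans (Nat.le_of_dvd Nat.card_pos (Subgroup.card_dvd_of_le hR'))).trans_eq hPR.symm)
  set k := (Nat.card J).factorization p
  have hN : q₀ ^ 2 = p ^ k := hPeq ▸ P.card_eq_multiplicity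
  have hk0 : k ≠ 0 := fun h => by rw [h, pow_zero] at hN; omega
  -- the image in PGL(2)
  set f := QuadPairDickson.proj.comp J.subtype with hf
  set Jb := f.range with hJb
  have hcardJ : Nat.card f.ker * Nat.card Jb = Nat.card J := by
    rw [hJb, ← Subgroup.index_ker, Subgroup.card_mul_index]
  have hker : ¬ p ∣ Nat.card f.ker := by
    intro hd
    obtain ⟨⟨g, hg⟩, hord⟩ := exists_prime_orderOf_dvd_card' p hd
    rw [← Subgroup.orderOf_coe] at hord
    have hgk : QuadPairDickson.proj (g : SL(2, F)) = QuadPairDickson.proj 1 := by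
      rw [map_one]; exact hg
    have hsq := QuadPairDickson.sq_eq_of_proj hgk
    obtain ⟨u, hu⟩ := Matrix.ProjGenLinGroup.mk_eq_mk_iff.1 hgk
    rw [map_one] at hu
    have hcen : ∀ x : SL(2, F), (g : SL(2, F)) * x = x * (g : SL(2, F)) := fun x => by
      apply Matrix.SpecialLinearGroup.toGL_injective
      rw [map_mul, map_mul, eq_inv_of_mul_eq_one_left hu, ← map_inv, GeneralLinearGroup.scalar_commute]
    obtain ⟨h1, h2⟩ := of_commute_up ht (hcen _)
    have hord' : orderOf (g : SL(2, F)) = p := by rw [Subgroup.orderOf_coe]; exact hord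
    have h3 : (g : SL(2, F)) ^ p ^ 1 = 1 := by
      rw [pow_one, ← hord', pow_orderOf_eq_one]
    have h4 := eq_up_of_pow_eq_one h1 h2 h3
    rw [of_commute_lo hy0 (hcen _), up_zero] at h4
    rw [h4, orderOf_one] at hord'
    exact (Fact.out : p.Prime).one_lt.ne hord'
  have hNdvd : p ^ k ∣ Nat.card Jb := by
    have h : p ^ k ∣ Nat.card f.ker * Nat.card Jb := by rw [hcardJ]; exact Nat.ordProj_dvd _ _
    exact (Nat.Coprime.pow_left _ ((Fact.out : p.Prime).coprime_iff_not_dvd.2 hker)).dvd_of_dvd_mul_left h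
  have hexact : ∀ b m : ℕ, Nat.card Jb = p ^ b * m → ¬ p ∣ m → q₀ ^ 2 = p ^ b := by
    intro b m hb hm
    rw [hN]
    congr 1
    have h1 : Nat.card J = p ^ b * (m * Nat.card f.ker) := by rw [← hcardJ, hb]; ring
    have h2 : ¬ p ∣ m * Nat.card f.ker := fun h => ((Fact.out : p.Prime).dvd_mul.1 h).elim hm hker
    have hm0 : m * Nat.card f.ker ≠ 0 := fun h => h2 (h ▸ dvd_zero p)
    simp only [k, h1]
    rw [Nat.factorization_mul (pow_ne_zero _ (Fact.out : p.Prime).ne_zero) hm0, Finsupp.add_apply,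
      Nat.Prime.factorization_pow (Fact.out : p.Prime), Finsupp.single_eq_same,
      Nat.factorization_eq_zero_of_not_dvd h2, add_zero]
  have hupJ : QuadPairDickson.proj (up t) ∈ Jb := ⟨⟨_, htJ⟩, rfl⟩
  have hloJ : QuadPairDickson.proj (lo y) ∈ Jb := ⟨⟨_, hy⟩, rfl⟩
  have hup2 : ∀ z : F, QuadPairDickson.proj (up t) • (z : OnePoint F) = ((z + t : F) : OnePoint F) :=
    fun z => by rw [QuadPairDickson.proj_up, aff_smul_coe, Units.val_one, one_mul]
  have hupinf : QuadPairDickson.proj (up t) • (∞ : OnePoint F) = ∞ := by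
    rw [QuadPairDickson.proj_up, aff_smul_infty]
  have hloinf := QuadPairDickson.proj_lo_smul_infty y hy0
  have hpJ : p ∣ Nat.card Jb := (dvd_pow_self p hk0).trans hNdvd
  have hsq : ∀ (s q : ℕ), s ^ 2 = q → q ≤ 24 → q = 0 ∨ q = 1 ∨ q = 4 ∨ q = 9 ∨ q = 16 := by
    intro s q hs hq
    have : s ≤ 4 := by nlinarith
    interval_cases s <;> omega
  rcases Dickson.dickson_pgl p Jb with h | h | h | h | h | h | h
  · exact h.2 hpJ
  · obtain ⟨x, hx, -⟩ := h
    cases x with
    | infty =>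
      have := hx hloJ
      rw [MulAction.mem_stabilizer_iff, hloinf] at this
      exact OnePoint.coe_ne_infty _ this
    | coe z =>
      have := hx hupJ
      rw [MulAction.mem_stabilizer_iff, hup2, OnePoint.coe_eq_coe, add_eq_left] at this
      exact ht this
  · obtain ⟨C, -, hC, hidx, -, -⟩ := h
    have hcard := C.card_mul_index
    rw [hidx] at hcard
    have h2 : p ^ k ∣ 2 := Nat.Coprime.dvd_of_dvd_mul_left
      (Nat.Coprime.pow_left _ ((Fact.out : p.Prime).coprime_iff_not_dvd.2 hC)) (hcard ▸ hNdvd)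
    have := Nat.le_of_dvd two_pos h2
    omega
  · obtain ⟨e⟩ := h
    have h12 : Nat.card Jb = 12 := by
      rw [Nat.card_congr e.toEquiv, nat_card_alternatingGroup, Nat.card_eq_fintype_card, Fintype.card_fin]
      rfl
    rw [h12, ← hN] at hNdvd
    have hle := Nat.le_of_dvd (by norm_num) hNdvd
    rcases hsq q₀ _ rfl (by omega) with h0 | h0 | h0 | h0 | h0
    all_goals first | omega | (rw [h0] at hNdvd; norm_num at hNdvd; done) | skip
    · -- char 2
      have hp2 : p = 2 := (Nat.prime_dvd_prime_iff_eq Fact.out Nat.prime_two).1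
        ((Fact.out : p.Prime).dvd_of_dvd_pow (show p ∣ 2 ^ 2 from by
          rw [show 2 ^ 2 = p ^ k by rw [← hN, h0]; norm_num]; exact dvd_pow_self p hk0))
      subst hp2
      have key : ∀ a b : alternatingGroup (Fin 4), a * a = 1 → b * b = 1 → a * b = b * a := by decide
      have h1 : (⟨_, hupJ⟩ : Jb) * ⟨_, hupJ⟩ = 1 := Subtype.ext (by
        rw [Subgroup.coe_mul, ← map_mul, up_mul, CharTwo.add_self_eq_zero, up_zero, map_one]; rfl)
      have h2 : (⟨_, hloJ⟩ : Jb) * ⟨_, hloJ⟩ = 1 := Subtype.ext (by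
        rw [Subgroup.coe_mul, ← map_mul, lo_mul, CharTwo.add_self_eq_zero, lo_zero, map_one]; rfl)
      have h3 := key (e ⟨_, hupJ⟩) (e ⟨_, hloJ⟩) (by rw [← map_mul, h1, map_one]) (by rw [← map_mul, h2, map_one])
      rw [← map_mul, ← map_mul] at h3
      have h4 := congrArg (fun g : Jb => (g : Matrix.ProjGenLinGroup (Fin 2) F) • (∞ : OnePoint F))
        (e.injective h3)
      simp only [Subgroup.coe_mul, mul_smul, hupinf, hloinf, hup2, OnePoint.coe_eq_coe, add_eq_left] at h4
      exact ht h4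
  · obtain ⟨e⟩ := h
    have h24 : Nat.card Jb = 24 := by
      rw [Nat.card_congr e.toEquiv, Nat.card_perm, Nat.card_eq_fintype_card, Fintype.card_fin]
      rfl
    have h8 : q₀ ^ 2 ∣ 24 := by rw [hN, ← h24]; exact hNdvd
    have hle := Nat.le_of_dvd (by norm_num) h8
    rcases hsq q₀ _ rfl (by omega) with h0 | h0 | h0 | h0 | h0
    all_goals first | omega | (rw [h0] at h8; norm_num at h8; done) | skip
    · have hp2 : p = 2 := (Nat.prime_dvd_prime_iff_eq Fact.out Nat.prime_two).1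
        ((Fact.out : p.Prime).dvd_of_dvd_pow (show p ∣ 2 ^ 2 from by
          rw [show 2 ^ 2 = p ^ k by rw [← hN, h0]; norm_num]; exact dvd_pow_self p hk0))
      subst hp2
      have := hexact 3 3 (by rw [h24]; rfl) (by norm_num)
      omega
  · obtain ⟨e⟩ := h
    have h60 : Nat.card Jb = 60 := by
      rw [Nat.card_congr e.toEquiv, nat_card_alternatingGroup, Nat.card_eq_fintype_card, Fintype.card_fin]
      rfl
    have hq4 : q₀ ^ 2 ∣ 60 := by rw [hN, ← h60]; exact hNdvd
    have hle := Nat.le_of_dvd (by norm_num) hq4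
    have hq7 : q₀ ≤ 7 := by nlinarith
    have hq2 : q₀ = 2 := by interval_cases q₀ <;> first | rfl | omega
    subst hq2
    have h5 : 5 ∣ Nat.card F * (Nat.card F ^ 2 - 1) := by
      rw [← PSLCard.card_PGL2]
      exact (show 5 ∣ Nat.card Jb by rw [h60]; norm_num).trans (Subgroup.card_subgroup_dvd_card _)
    rw [hF] at h5
    obtain ⟨m, hm⟩ := hr
    rcases (Nat.prime_five.dvd_mul).1 h5 with h | h
    · exact absurd ((Nat.prime_dvd_prime_iff_eq Nat.prime_five Nat.prime_two).1
        (Nat.prime_five.dvd_of_dvd_pow h)) (by norm_num)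
    · have h4 : (2 ^ r) ^ 2 % 5 = 4 := by
        rw [← pow_mul, mul_comm r 2, pow_mul, hm, pow_succ, pow_mul, Nat.mul_mod, Nat.pow_mod]
        norm_num
      omega
  · obtain ⟨R, -, hR⟩ := h
    haveI : CharP R p := (RingHom.charP_iff R.subtype R.subtype.injective p).mpr hchar
    cases nonempty_fintype R
    obtain ⟨b, -, hb⟩ := FiniteField.card R p
    rw [← Nat.card_eq_fintype_card] at hb
    have hR1 : 1 < Nat.card R := PSLCard.one_lt_card R
    have hpm : ¬ p ∣ Nat.card R ^ 2 - 1 := by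
      intro hd
      have hd2 : p ∣ Nat.card R ^ 2 := dvd_pow (hb ▸ dvd_pow_self p b.ne_zero) two_ne_zero
      have := Nat.dvd_sub hd2 hd
      rw [Nat.sub_sub_self (Nat.one_le_pow _ _ (by omega))] at this
      exact (Fact.out : p.Prime).one_lt.ne' (Nat.dvd_one.1 this)
    have hRN : q₀ ^ 2 = Nat.card R := by
      rw [hb]
      rcases hR with ⟨⟨e⟩⟩ | ⟨hodd, ⟨e⟩⟩
      · refine hexact b (Nat.card R ^ 2 - 1) ?_ hpm
        rw [Nat.card_congr e.toEquiv, PSLCard.card_PGL2, ← hb]
      · obtain ⟨m, hm⟩ : 2 ∣ Nat.card R ^ 2 - 1 := by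
          obtain ⟨c, hc⟩ := hodd
          exact ⟨2 * c * c + 2 * c, by rw [hc]; ring_nf; omega⟩
        refine hexact b m ?_ fun h => hpm (hm ▸ dvd_mul_of_dvd_right h 2)
        have h2 : 2 * Nat.card Jb = p ^ (b : ℕ) * (Nat.card R ^ 2 - 1) := by
          rw [Nat.card_congr e.toEquiv, ← hb, ← PSLCard.card_PSL2_mul]
          congr 1
          obtain ⟨c, hc⟩ := hodd
          rw [Nat.gcd_eq_left ⟨c, by omega⟩]
        rw [hm] at h2
        linarith
    have hRF : Nat.card F = Nat.card R ^ Module.finrank R F := Module.natCard_eq_pow_finrank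
    rw [hF, ← hRN, ← pow_mul] at hRF
    obtain ⟨m, hm⟩ := hr
    have := Nat.pow_right_injective hq hRF
    omega

end Cfsg.Agent.OrthSubfieldSL44
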