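import Mathlib
import Cfsg.Agent.Lib.OrthUnitaryRefl
import Cfsg.Agent.Lib.OrthSubfieldSL44

/-!
An orthogonal frame of two hyperbolic pairs and a further singular vector `r`: the maps
`phi m` (`SL(2)` on both totally singular planes) and the translations along `r`, and the pair
argument producing an irrational element of an upper root group.
-/

set_option autoImplicit false

namespace Cfsg.Agent.OrthSubfieldPair44

open QuadraticMap
open Cfsg.Agent.OrthUnitaryQuad Cfsg.Agent.OrthUnitaryRefl Cfsg.Agent.QuadPairSL2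
open scoped MatrixGroups

variable {F V : Type*} [Field F] [AddCommGroup V] [Module F V]

/-- Two hyperbolic pairs and a singular vector orthogonal to them. -/
structure Frame (Q : QuadraticForm F V) where
  e1 : V
  e2 : V
  f1 : V
  f2 : V
  r : V
  e11 : polar Q e1 e1 = 0
  e22 : polar Q e2 e2 = 0
  f11 : polar Q f1 f1 = 0
  f22 : polar Q f2 f2 = 0
  rr : polar Q r r = 0
  e12 : polar Q e1 e2 = 0
  f12 : polar Q f1 f2 = 0
  ef11 : polar Q e1 f1 = 1
  ef22 : polar Q e2 f2 = 1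
  ef12 : polar Q e1 f2 = 0
  ef21 : polar Q e2 f1 = 0
  e1r : polar Q e1 r = 0
  e2r : polar Q e2 r = 0
  f1r : polar Q f1 r = 0
  f2r : polar Q f2 r = 0

variable {Q : QuadraticForm F V}

/-- `m` on the plane of `e1, e2`, contragrediently on the plane of `f1, f2`. -/
def phi (d : Frame Q) (m : SL(2, F)) (x : V) : V :=
  x + ((m.1 0 0 - 1) * polar Q x d.f1 + m.1 0 1 * polar Q x d.f2) • d.e1
    + (m.1 1 0 * polar Q x d.f1 + (m.1 1 1 - 1) * polar Q x d.f2) • d.e2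
    + ((m.1 1 1 - 1) * polar Q x d.e1 - m.1 1 0 * polar Q x d.e2) • d.f1
    + (-(m.1 0 1) * polar Q x d.e1 + (m.1 0 0 - 1) * polar Q x d.e2) • d.f2

/-- The translation along `r`. -/
def trans (d : Frame Q) (w1 w2 : F) (x : V) : V :=
  x + polar Q x d.r • (w1 • d.e1 + w2 • d.e2)
    - (w1 * polar Q x d.e1 + w2 * polar Q x d.e2) • d.r

/-- The combined map. -/
def Phi (d : Frame Q) (m : SL(2, F)) (w1 w2 : F) (x : V) : V := phi d m (trans d w1 w2 x)

theorem phi_one (d : Frame Q) (x : V) : phi d 1 x = x := by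
  simp [phi]

theorem trans_zero (d : Frame Q) (x : V) : trans d 0 0 x = x := by
  simp [trans]

theorem phi_mul (d : Frame Q) (m m' : SL(2, F)) (x : V) :
    phi d m (phi d m' x) = phi d (m * m') x := by
  simp only [phi, QuadPairSL2.mul_apply, polar_add_left, polar_smul_left, smul_eq_mul, d.e11, d.e22,
    d.f11, d.f22, d.e12, d.f12, d.ef11, d.ef22, d.ef12, d.ef21, polar_comm Q d.f1 d.e1,
    polar_comm Q d.f1 d.e2, polar_comm Q d.f2 d.e1, polar_comm Q d.f2 d.e2, polar_comm Q d.e2 d.e1,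
    polar_comm Q d.f2 d.f1, mul_zero, add_zero, zero_add, mul_one]
  match_scalars <;> ring

theorem trans_add (d : Frame Q) (v1 v2 w1 w2 : F) (x : V) :
    trans d v1 v2 (trans d w1 w2 x) = trans d (v1 + w1) (v2 + w2) x := by
  simp only [trans, sub_eq_add_neg, ← neg_smul, polar_add_left, polar_smul_left, smul_eq_mul,
    smul_add, smul_smul, d.e11, d.e22, d.rr, d.e12, d.e1r, d.e2r, polar_comm Q d.e2 d.e1,
    polar_comm Q d.r d.e1, polar_comm Q d.r d.e2, mul_zero, add_zero, zero_add]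
  match_scalars <;> ring

theorem trans_phi (d : Frame Q) (m : SL(2, F)) (w1 w2 : F) (x : V) :
    trans d w1 w2 (phi d m x) =
      phi d m (trans d (m.1 1 1 * w1 - m.1 0 1 * w2) (-(m.1 1 0) * w1 + m.1 0 0 * w2) x) := by
  have hdet := det_eq m
  simp only [trans, phi, sub_eq_add_neg, ← neg_smul, polar_add_left, polar_smul_left, smul_eq_mul,
    smul_add, smul_smul, d.e11, d.e22, d.f11, d.f22, d.rr, d.e12, d.f12, d.ef11, d.ef22, d.ef12,
    d.ef21, d.e1r, d.e2r, d.f1r, d.f2r, polar_comm Q d.f1 d.e1, polar_comm Q d.f1 d.e2,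
    polar_comm Q d.f2 d.e1, polar_comm Q d.f2 d.e2, polar_comm Q d.e2 d.e1, polar_comm Q d.f2 d.f1,
    polar_comm Q d.r d.e1, polar_comm Q d.r d.e2, polar_comm Q d.r d.f1, polar_comm Q d.r d.f2,
    mul_zero, add_zero, zero_add, mul_one]
  match_scalars
  all_goals first
    | ring1
    | linear_combination (polar Q x d.r * w1) * hdet
    | linear_combination (-(polar Q x d.r * w1)) * hdet
    | linear_combination (polar Q x d.r * w2) * hdet
    | linear_combination (-(polar Q x d.r * w2)) * hdet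

theorem Phi_mul (d : Frame Q) (m m' : SL(2, F)) (w1 w2 v1 v2 : F) (x : V) :
    Phi d m w1 w2 (Phi d m' v1 v2 x) = Phi d (m * m') (m'.1 1 1 * w1 - m'.1 0 1 * w2 + v1)
      (-(m'.1 1 0) * w1 + m'.1 0 0 * w2 + v2) x := by
  simp only [Phi]
  rw [trans_phi, phi_mul, trans_add]

theorem Phi_one (d : Frame Q) (x : V) : Phi d 1 0 0 x = x := by
  rw [Phi, trans_zero, phi_one]

/-- The subgroup of `SL(2)` of parts of elements of `M` of the frame form. -/
def parts (d : Frame Q) (M : Subgroup (orth Q)) : Subgroup SL(2, F) where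
  carrier := {m | ∃ g ∈ M, ∃ w1 w2 : F, ∀ x, g.1 x = Phi d m w1 w2 x}
  one_mem' := ⟨1, M.one_mem, 0, 0, fun x => (Phi_one d x).symm⟩
  mul_mem' := by
    rintro a b ⟨g, hg, w1, w2, h⟩ ⟨g', hg', v1, v2, h'⟩
    refine ⟨g * g', M.mul_mem hg hg', b.1 1 1 * w1 - b.1 0 1 * w2 + v1,
      -(b.1 1 0) * w1 + b.1 0 0 * w2 + v2, fun x => ?_⟩
    rw [orth_mul_apply, h', h, Phi_mul]
  inv_mem' := by
    rintro a ⟨g, hg, w1, w2, h⟩
    refine ⟨g⁻¹, M.inv_mem hg, -(a.1 0 0 * w1 + a.1 0 1 * w2), -(a.1 1 0 * w1 + a.1 1 1 * w2),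
      fun x => ?_⟩
    apply g.1.injective
    rw [h (Phi d a⁻¹ _ _ x), Phi_mul, mul_inv_cancel, ← orth_mul_apply, mul_inv_cancel]
    simp only [inv_00, inv_01, inv_10, inv_11]
    conv_lhs => rw [show (1 : orth Q).1 x = x from rfl, ← Phi_one d x]
    congr 1 <;> ring

theorem eq_up_of_mem {t : F} {g : orth Q} {d : Frame Q} {M : Subgroup (orth Q)} (hg : g ∈ M)
    {w1 w2 : F} (h : ∀ x, g.1 x = Phi d (up t) w1 w2 x) (hU : ∃ g ∈ M, ∀ x, g.1 x = Phi d (up 1) 0 0 x) :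
    ∃ g' ∈ M, ∀ x, g'.1 x = Phi d (up (0 : F)) (-w2) 0 x := by
  obtain ⟨u, hu, hu'⟩ := hU
  refine ⟨(u * g)⁻¹ * (g * u), M.mul_mem (M.inv_mem (M.mul_mem hu hg)) (M.mul_mem hg hu), fun x => ?_⟩
  apply (u * g).1.injective
  rw [← orth_mul_apply, mul_inv_cancel_left, orth_mul_apply, hu', h, orth_mul_apply, h, hu',
    Phi_mul, Phi_mul, Phi_mul, up_zero, mul_one, up_mul, up_mul, add_comm t 1]
  simp only [up_00, up_01, up_10, up_11]
  simp only [show ((1 : SL(2, F)).1 0 0) = 1 from rfl, show ((1 : SL(2, F)).1 1 1) = 1 from rfl,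
    show ((1 : SL(2, F)).1 0 1) = 0 from rfl, show ((1 : SL(2, F)).1 1 0) = 0 from rfl]
  congr 1 <;> ring

/-- The pair argument. -/
theorem exists_irrational [Fintype F] [Finite V] (d : Frame Q) (M : Subgroup (orth Q))
    (F₀ : Subfield F) {r : ℕ} (hr : Odd r) (hcard : Fintype.card F = Nat.card F₀ ^ r) {μ τ : F}
    (hμ : μ ∉ F₀) (hτ : τ ≠ 0)
    (hz : ∀ s ∈ F₀, ∃ g ∈ M, ∀ x, g.1 x = Phi d (up s) 0 0 x)
    (hy : ∀ s ∈ F₀, ∃ g ∈ M, ∀ x, g.1 x = Phi d (up (s * μ)) (-s) 0 x)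
    (hE : ∃ g ∈ M, ∀ x, g.1 x = Phi d (lo (-τ)) 0 0 x) :
    ∃ t w1 : F, ¬ (w1 ∈ F₀ ∧ t + w1 * μ ∈ F₀) ∧ ∃ g ∈ M, ∀ x, g.1 x = Phi d (up t) w1 0 x := by
  classical
  by_cases hA : ∃ t : F, ∃ g ∈ M, ∃ w1 w2 : F, w2 ≠ 0 ∧ ∀ x, g.1 x = Phi d (up t) w1 w2 x
  · obtain ⟨t, g, hg, w1, w2, hw2, h⟩ := hA
    refine ⟨0, -w2, fun hh => ?_, eq_up_of_mem hg h (hz 1 F₀.one_mem)⟩
    rw [zero_add] at hh
    have h0 : -w2 ≠ 0 := neg_ne_zero.2 hw2
    refine hμ ?_
    rw [show μ = -w2 * μ / -w2 by field_simp]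
    exact F₀.div_mem hh.2 hh.1
  push Not at hA
  by_contra hno
  push Not at hno
  set J := parts d M
  have hupJ : ∀ t, up t ∈ J → ∃ s u : F₀, t = s + u * μ := by
    rintro t ⟨g, hg, w1, w2, h⟩
    have hw2 : w2 = 0 := by
      by_contra hne
      obtain ⟨x, hx⟩ := hA t g hg w1 w2 hne
      exact hx (h x)
    subst hw2
    have hq : w1 ∈ F₀ ∧ t + w1 * μ ∈ F₀ := by
      by_contra hne
      obtain ⟨x, hx⟩ := hno t w1 (fun h1 h2 => hne ⟨h1, h2⟩) g hg
      exact hx (h x)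
    exact ⟨⟨_, hq.2⟩, ⟨-w1, F₀.neg_mem hq.1⟩, by simp⟩
  have hmem : ∀ s u : F₀, up ((s : F) + u * μ) ∈ J := by
    intro s u
    rw [← up_mul]
    refine J.mul_mem ?_ ?_
    · obtain ⟨g, hg, h⟩ := hz s s.2
      exact ⟨g, hg, _, _, h⟩
    · obtain ⟨g, hg, h⟩ := hy u u.2
      exact ⟨g, hg, _, _, h⟩
  have hupc : Nat.card {x : F // up x ∈ J} = Nat.card F₀ ^ 2 := by
    rw [pow_two, ← Nat.card_prod]
    refine (Nat.card_congr (Equiv.ofBijective
      (fun p : F₀ × F₀ => (⟨(p.1 : F) + p.2 * μ, hmem p.1 p.2⟩ : {x : F // up x ∈ J})) ⟨?_, ?_⟩)).symm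
    · rintro ⟨s, u⟩ ⟨s', u'⟩ h
      have h' : (s : F) + u * μ = s' + u' * μ := congrArg Subtype.val h
      have hu : u = u' := by
        by_contra hne
        refine hμ ?_
        have h0 : (u : F) - u' ≠ 0 := sub_ne_zero.2 fun e => hne (Subtype.ext e)
        rw [show μ = ((s' : F) - s) / (u - u') by rw [eq_div_iff h0]; linear_combination h']
        exact F₀.div_mem (F₀.sub_mem s'.2 s.2) (F₀.sub_mem u.2 u'.2)
      subst hu
      have : s = s' := Subtype.ext (add_right_cancel h')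
      subst this
      rfl
    · rintro ⟨t, ht⟩
      obtain ⟨s, u, rfl⟩ := hupJ t ht
      exact ⟨(s, u), rfl⟩
  have h1 : (1 : F) ≠ 0 := one_ne_zero
  refine OrthSubfieldSL44.contra J (q₀ := Nat.card F₀) (r := r) Finite.one_lt_card hr
    (by rw [Nat.card_eq_fintype_card]; exact hcard) h1 ?_ hupc (y := -τ) (neg_ne_zero.2 hτ) ?_
  · obtain ⟨g, hg, h⟩ := hz 1 F₀.one_mem
    exact ⟨g, hg, _, _, h⟩
  · obtain ⟨g, hg, h⟩ := hE
    exact ⟨g, hg, _, _, h⟩

end Cfsg.Agent.OrthSubfieldPair44
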