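/-
Rational vectors for a subfield F₀ and a change of basis P: coefficient lemmas, scalar extension, membership
in `Cfsg.Geo.subfieldSubgroup`, the rational form, and subfields of prime index.
-/
import Mathlib
import Cfsg.Agent.Lib.TransvectionMax

set_option autoImplicit false
set_option linter.unusedSectionVars false

namespace Cfsg.Agent.SubfieldRational

open Cfsg.Agent.TransvectionMax
open scoped MatrixGroups Matrix

variable {F : Type*} [Field F] {F₀ : Subfield F} {ι : Type} [Fintype ι] [DecidableEq ι]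

/-- A vector with entries in F₀ as a vector over F. -/
def emb (u : ι → F₀) : ι → F := fun i => (u i : F)

/-- The rational vector P u. -/
def rat (P : GL ι F) (u : ι → F₀) : ι → F := (P : Matrix ι ι F) *ᵥ emb u

lemma emb_add (u v : ι → F₀) : emb (u + v) = emb u + emb v := funext fun _ => rfl

lemma emb_smul (c : F₀) (u : ι → F₀) : emb (c • u) = (c : F) • emb u := funext fun _ => rfl

lemma emb_injective : Function.Injective (emb : (ι → F₀) → ι → F) :=
  fun _ _ h => funext fun i => Subtype.ext (congrFun h i)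

lemma emb_zero : emb (0 : ι → F₀) = 0 := funext fun _ => rfl

lemma emb_single (i : ι) : emb (Pi.single i (1 : F₀)) = (Pi.single i (1 : F) : ι → F) :=
  funext fun j => by simp [emb, Pi.single_apply, apply_ite]

lemma rat_add (P : GL ι F) (u v : ι → F₀) : rat P (u + v) = rat P u + rat P v := by
  simp only [rat, emb_add, Matrix.mulVec_add]

lemma rat_smul (P : GL ι F) (c : F₀) (u : ι → F₀) : rat P (c • u) = (c : F) • rat P u := by
  simp only [rat, emb_smul, Matrix.mulVec_smul]

lemma rat_zero (P : GL ι F) : rat P (0 : ι → F₀) = 0 := by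
  simp only [rat, emb_zero, Matrix.mulVec_zero]

lemma rat_neg (P : GL ι F) (u : ι → F₀) : rat P (-u) = -rat P u := by
  rw [eq_neg_iff_add_eq_zero, ← rat_add, neg_add_cancel, rat_zero]

lemma rat_sub (P : GL ι F) (u v : ι → F₀) : rat P (u - v) = rat P u - rat P v := by
  rw [sub_eq_add_neg, rat_add, rat_neg, sub_eq_add_neg]

lemma rat_injective (P : GL ι F) : Function.Injective (rat P : (ι → F₀) → ι → F) :=
  fun _ _ h => emb_injective (act_injective P h)

lemma rat_eq_zero (P : GL ι F) {u : ι → F₀} (h : rat P u = 0) : u = 0 :=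
  rat_injective P (h.trans (rat_zero P).symm)

/-- Rational vectors span. -/
lemma exists_combination (P : GL ι F) (x : ι → F) :
    ∃ y : ι → F, x = ∑ i, y i • rat P (Pi.single i (1 : F₀)) := by
  refine ⟨((P⁻¹ : GL ι F) : Matrix ι ι F) *ᵥ x, ?_⟩
  simp only [rat, emb_single, ← Matrix.mulVec_smul, ← Matrix.mulVec_sum]
  conv_lhs => rw [← act_inv_act P x]
  congr 1
  exact (pi_eq_sum_univ' _).trans (Finset.sum_congr rfl fun i _ => by
    congr 1)

/-- A linear map vanishing on rational vectors is zero. -/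
lemma eq_zero_of_rat {V : Type*} [AddCommGroup V] [Module F V] (P : GL ι F) (L : (ι → F) →ₗ[F] V)
    (h : ∀ u : ι → F₀, L (rat P u) = 0) (x : ι → F) : L x = 0 := by
  obtain ⟨y, rfl⟩ := exists_combination (F₀ := F₀) P x
  rw [map_sum]
  exact Finset.sum_eq_zero fun i _ => by rw [map_smul, h, smul_zero]

lemma ext_rat (P : GL ι F) {g h : GL ι F}
    (H : ∀ u : ι → F₀, (g : Matrix ι ι F) *ᵥ rat P u = (h : Matrix ι ι F) *ᵥ rat P u) : g = h :=
  gl_ext fun x => sub_eq_zero.mp (by
    simpa using eq_zero_of_rat (F₀ := F₀) P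
      (Matrix.toLin' (g : Matrix ι ι F) - Matrix.toLin' (h : Matrix ι ι F))
      (fun u => by simp [H]) x)

/-- An F₀-linear retraction of F onto F₀. -/
lemma exists_retract (F₀ : Subfield F) : ∃ r : F →ₗ[F₀] F₀, ∀ x : F₀, r x = x := by
  obtain ⟨r, hr⟩ := (Algebra.linearMap F₀ F).exists_leftInverse_of_injective
    (LinearMap.ker_eq_bot.mpr Subtype.val_injective)
  exact ⟨r, fun x => LinearMap.congr_fun hr x⟩

/-- Independence over F₀ gives independence over F. -/
lemma indep {x y : ι → F₀} (hy : y ≠ 0) (hx : x ∉ Submodule.span F₀ {y}) {s t : F}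
    (h : s • emb x + t • emb y = 0) : s = 0 ∧ t = 0 := by
  have hs : s = 0 := by
    by_contra hs
    obtain ⟨r, hr⟩ := exists_retract F₀
    refine hx (Submodule.mem_span_singleton.mpr ⟨-r (t / s), funext fun i => ?_⟩)
    have h1 := congrFun h i
    simp only [Pi.add_apply, Pi.smul_apply, smul_eq_mul, emb, Pi.zero_apply] at h1
    have h2 : (y i) • (t / s) = -(x i : F) := by
      rw [Subfield.smul_def, smul_eq_mul]
      field_simp
      linear_combination h1
    have h3 := congrArg r h2
    rw [map_smul, map_neg, hr, smul_eq_mul] at h3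
    rw [Pi.smul_apply, smul_eq_mul]
    linear_combination -h3
  refine ⟨hs, ?_⟩
  obtain ⟨i, hi⟩ := Function.ne_iff.mp hy
  have h1 := congrFun h i
  simp only [hs, zero_smul, zero_add, Pi.smul_apply, smul_eq_mul, emb, Pi.zero_apply, mul_eq_zero] at h1
  exact h1.resolve_right fun h2 => hi (Subtype.ext h2)

/-- The coefficients of a rational combination of independent rational vectors are rational. -/
lemma coeff_mem {a b : F} {x y z : ι → F₀}
    (hxy : ∀ s t : F, s • emb x + t • emb y = 0 → s = 0 ∧ t = 0)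
    (h : a • emb x + b • emb y = emb z) : a ∈ F₀ ∧ b ∈ F₀ := by
  obtain ⟨r, hr⟩ := exists_retract F₀
  have h2 : (r a : F) • emb x + (r b : F) • emb y = emb z := funext fun i => by
    have h1 := congrFun h i
    simp only [Pi.add_apply, Pi.smul_apply, smul_eq_mul, emb] at h1 ⊢
    have h3 : x i • a + y i • b = (z i : F) := by
      simp only [Subfield.smul_def, smul_eq_mul]; linear_combination h1
    have h4 := congrArg (fun s => ((r s : F₀) : F)) h3
    simp only [map_add, map_smul, hr, smul_eq_mul, Subfield.coe_add, Subfield.coe_mul] at h4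
    linear_combination h4
  obtain ⟨h5, h6⟩ := hxy (a - r a) (b - r b) (by
    linear_combination (norm := module) h - h2)
  exact ⟨sub_eq_zero.mp h5 ▸ (r a).2, sub_eq_zero.mp h6 ▸ (r b).2⟩

lemma rat_indep (P : GL ι F) {x y : ι → F₀} (hy : y ≠ 0) (hx : x ∉ Submodule.span F₀ {y}) {s t : F}
    (h : s • rat P x + t • rat P y = 0) : s = 0 ∧ t = 0 := by
  refine indep hy hx (act_injective P ?_)
  simpa [rat, Matrix.mulVec_add, Matrix.mulVec_smul] using h

lemma rat_coeff_mem (P : GL ι F) {a b : F} {x y z : ι → F₀} (hy : y ≠ 0)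
    (hx : x ∉ Submodule.span F₀ {y}) (h : a • rat P x + b • rat P y = rat P z) : a ∈ F₀ ∧ b ∈ F₀ := by
  refine coeff_mem (z := z) (fun s t => indep hy hx) (act_injective P ?_)
  simpa [rat, Matrix.mulVec_add, Matrix.mulVec_smul] using h

/-- If a multiple of a non-zero rational vector is rational then the factor is rational. -/
lemma rat_smul_mem (P : GL ι F) {a : F} {x z : ι → F₀} (hx : x ≠ 0) (h : a • rat P x = rat P z) :
    a ∈ F₀ := by
  obtain ⟨i, hi⟩ := Function.ne_iff.mp hx
  have h1 : a • emb x = emb z := act_injective P (by simpa [rat, Matrix.mulVec_smul] using h)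
  have h2 := congrFun h1 i
  simp only [Pi.smul_apply, smul_eq_mul, emb] at h2
  have hi' : (x i : F) ≠ 0 := fun h3 => hi (Subtype.ext h3)
  rw [show a = (z i : F) / (x i : F) by rw [← h2, mul_div_assoc, div_self hi', mul_one]]
  exact F₀.div_mem (z i).2 (x i).2

/-- Scalar extension followed by conjugation by P. -/
noncomputable def lift (P : GL ι F) : GL ι F₀ →* GL ι F :=
  (MulAut.conj P).toMonoidHom.comp (Matrix.GeneralLinearGroup.map (F₀.subtype : F₀ →+* F))

lemma lift_act (P : GL ι F) (h : GL ι F₀) (u : ι → F₀) :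
    (lift P h : Matrix ι ι F) *ᵥ rat P u = rat P ((h : Matrix ι ι F₀) *ᵥ u) := by
  change ((P * Matrix.GeneralLinearGroup.map (F₀.subtype : F₀ →+* F) h * P⁻¹ : GL ι F) :
    Matrix ι ι F) *ᵥ rat P u = _
  simp only [rat, mul_act, inv_act_act]
  congr 1
  funext i
  exact (RingHom.map_mulVec (F₀.subtype : F₀ →+* F) (h : Matrix ι ι F₀) u i).symm

lemma lift_mem (P : GL ι F) (h : GL ι F₀) : lift P h ∈ Cfsg.Geo.subfieldSubgroup F₀ P :=
  Subgroup.mem_map_of_mem (MulAut.conj P).toMonoidHom (Subgroup.mem_sup_left ⟨h, rfl⟩)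

/-- The subfield group consists of the elements preserving the set of rational lines. -/
theorem mem_subfieldSubgroup_iff [Nonempty ι] (P : GL ι F) (g : GL ι F) :
    g ∈ Cfsg.Geo.subfieldSubgroup F₀ P ↔
      ∀ u : ι → F₀, ∃ k : F, ∃ w : ι → F₀, (g : Matrix ι ι F) *ᵥ rat P u = k • rat P w := by
  constructor
  · intro hg u
    obtain ⟨g', hg', rfl⟩ := Subgroup.mem_map.mp hg
    obtain ⟨a, ⟨h, rfl⟩, b, hb, rfl⟩ := Subgroup.mem_sup_of_normal_right.mp hg'
    obtain ⟨c, hc⟩ := (Cfsg.Geo.mem_scalars_iff b).mp hb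
    refine ⟨c, (h : Matrix ι ι F₀) *ᵥ u, ?_⟩
    rw [map_mul, mul_act, ← lift_act P h u, ← Matrix.mulVec_smul]
    congr 1
    change ((P * b * P⁻¹ : GL ι F) : Matrix ι ι F) *ᵥ rat P u = _
    rw [rat, mul_act, mul_act, inv_act_act, hc, Matrix.smul_mulVec, Matrix.one_mulVec,
      Matrix.mulVec_smul]
  · intro hg
    set A : GL ι F := P⁻¹ * g * P
    have hA : ∀ u : ι → F₀, ∃ k : F, ∃ w : ι → F₀, (A : Matrix ι ι F) *ᵥ emb u = k • emb w := fun u => by
      obtain ⟨k, w, hw⟩ := hg u
      refine ⟨k, w, ?_⟩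
      rw [rat] at hw
      rw [mul_act, mul_act, hw, rat, Matrix.mulVec_smul, inv_act_act]
    choose k w hkw using fun i => hA (Pi.single i 1)
    have hk0 : ∀ i, k i ≠ 0 := fun i h => by
      have := hkw i
      rw [h, zero_smul, emb_single] at this
      exact act_ne_zero A (by simp) this
    obtain ⟨i0⟩ := ‹Nonempty ι›
    have hratio : ∀ j, k j / k i0 ∈ F₀ := by
      intro j
      rcases eq_or_ne j i0 with rfl | hj
      · rw [div_self (hk0 _)]; exact F₀.one_mem
      obtain ⟨m, z, hz⟩ := hA (Pi.single i0 1 + Pi.single j 1)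
      rw [emb_add, Matrix.mulVec_add, hkw, hkw] at hz
      have hind : ∀ a b : F, a • emb (w i0) + b • emb (w j) = 0 → a = 0 ∧ b = 0 := by
        intro a b h
        have h' : (A : Matrix ι ι F) *ᵥ
            ((a / k i0) • emb (Pi.single i0 (1 : F₀)) + (b / k j) • emb (Pi.single j (1 : F₀))) = 0 := by
          rw [Matrix.mulVec_add, Matrix.mulVec_smul, Matrix.mulVec_smul, hkw, hkw, smul_smul, smul_smul,
            div_mul_cancel₀ _ (hk0 _), div_mul_cancel₀ _ (hk0 _), h]
        have h'' : (a / k i0) • emb (Pi.single i0 (1 : F₀)) + (b / k j) • emb (Pi.single j (1 : F₀)) = 0 :=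
          act_injective A (by simpa using h')
        rw [emb_single, emb_single] at h''
        have h1 := congrFun h'' i0
        have h2 := congrFun h'' j
        simp only [Pi.add_apply, Pi.smul_apply, Pi.single_eq_same, Pi.single_eq_of_ne hj,
          Pi.single_eq_of_ne hj.symm, smul_eq_mul, mul_one, mul_zero, add_zero, zero_add, Pi.zero_apply,
          div_eq_zero_iff, hk0, or_false] at h1 h2
        exact ⟨h1, h2⟩
      have hm : m ≠ 0 := fun h0 => hk0 i0 (hind _ _ (by rw [hz, h0, zero_smul])).1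
      have h3 : (k i0 / m) • emb (w i0) + (k j / m) • emb (w j) = emb z := by
        rw [div_eq_inv_mul, div_eq_inv_mul, ← smul_smul, ← smul_smul, ← smul_add, hz, smul_smul,
          inv_mul_cancel₀ hm, one_smul]
      obtain ⟨h1, h2⟩ := coeff_mem hind h3
      rw [← div_div_div_cancel_right₀ hm (k j) (k i0)]
      exact F₀.div_mem h2 h1
    let B : Matrix ι ι F₀ := fun r c => ⟨k c / k i0, hratio c⟩ * w c r
    have hAB : (A : Matrix ι ι F) = k i0 • B.map (F₀.subtype : F₀ →+* F) := by
      refine Matrix.ext_of_mulVec_single fun c => ?_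
      rw [← emb_single (F₀ := F₀), hkw, Matrix.smul_mulVec, emb_single, Matrix.mulVec_single_one]
      funext r
      change k c * (w c r : F) = k i0 * (k c / k i0 * (w c r : F))
      rw [← mul_assoc, mul_div_cancel₀ _ (hk0 i0)]
    have hBdet : B.det ≠ 0 := by
      intro h
      have h1 : (A : Matrix ι ι F).det = 0 := by
        rw [hAB, Matrix.det_smul,
          show B.map (F₀.subtype : F₀ →+* F) = (F₀.subtype : F₀ →+* F).mapMatrix B from rfl,
          ← RingHom.map_det, h, map_zero, mul_zero]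
      exact A.det_ne_zero h1
    have hAeq : A = Matrix.GeneralLinearGroup.map (F₀.subtype : F₀ →+* F)
        (Matrix.GeneralLinearGroup.mkOfDetNeZero B hBdet) *
        Units.map (Matrix.scalar ι : F →+* Matrix ι ι F).toMonoidHom (Units.mk0 (k i0) (hk0 i0)) := by
      apply Units.ext
      rw [hAB, Units.val_mul]
      simp [Matrix.smul_eq_mul_diagonal, Matrix.GeneralLinearGroup.mkOfDetNeZero,
        Matrix.GeneralLinearGroup.map]
    refine Subgroup.mem_map.mpr ⟨A, ?_, ?_⟩
    · rw [hAeq]
      exact Subgroup.mul_mem _ (Subgroup.mem_sup_left ⟨_, rfl⟩) (Subgroup.mem_sup_right ⟨_, rfl⟩)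
    · change P * A * P⁻¹ = g
      simp only [A]
      group

section Form

variable {f : (ι → F) → (ι → F) → F} {ζ : F} {P : GL ι F}

/-- The F₀-valued form on rational vectors. -/
def form (hP : Cfsg.Geo.IsFormRationalStructure f F₀ ζ P) (u v : ι → F₀) : F₀ :=
  ⟨ζ * f (rat P u) (rat P v), hP _ _ (fun i => (u i).2) (fun i => (v i).2)⟩

lemma form_coe (hP : Cfsg.Geo.IsFormRationalStructure f F₀ ζ P) (u v : ι → F₀) :
    (form hP u v : F) = ζ * f (rat P u) (rat P v) := rfl

lemma form_bilinear (hP : Cfsg.Geo.IsFormRationalStructure f F₀ ζ P) (hf : Cfsg.Geo.IsBilinearForm f) :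
    Cfsg.Geo.IsBilinearForm (form hP) := by
  refine ⟨?_, ?_, ?_, ?_⟩
  · intro x y v; apply Subtype.ext
    change ζ * f (rat P (x + y)) (rat P v) = ζ * f (rat P x) (rat P v) + ζ * f (rat P y) (rat P v)
    rw [rat_add, hf.add_left, mul_add]
  · intro c x v; apply Subtype.ext
    change ζ * f (rat P (c • x)) (rat P v) = c * (ζ * f (rat P x) (rat P v))
    rw [rat_smul, hf.smul_left]; ring
  · intro v x y; apply Subtype.ext
    change ζ * f (rat P v) (rat P (x + y)) = ζ * f (rat P v) (rat P x) + ζ * f (rat P v) (rat P y)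
    rw [rat_add, hf.add_right, mul_add]
  · intro c v x; apply Subtype.ext
    change ζ * f (rat P v) (rat P (c • x)) = c * (ζ * f (rat P v) (rat P x))
    rw [rat_smul, hf.smul_right]; ring

lemma form_symplectic (hP : Cfsg.Geo.IsFormRationalStructure f F₀ ζ P) (hζ : ζ ≠ 0)
    (hf : Cfsg.Geo.IsSymplecticForm f) : Cfsg.Geo.IsSymplecticForm (form hP) := by
  refine ⟨form_bilinear hP hf.bilinear, fun v w => Subtype.ext ?_, fun u => Subtype.ext ?_, fun v hv => ?_⟩
  · change ζ * f (rat P v) (rat P w) = -(ζ * f (rat P w) (rat P v))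
    rw [hf.skew]; ring
  · change ζ * f (rat P u) (rat P u) = 0
    rw [hf.alternating, mul_zero]
  · have h1 : ∃ w : ι → F₀, f (rat P w) (rat P v) ≠ 0 := by
      by_contra! h
      obtain ⟨x, hx⟩ := (hf.nondegenerate _ (fun h0 => hv (rat_eq_zero P h0))).1
      exact hx (eq_zero_of_rat P (fLeft hf.bilinear (rat P v)) h x)
    obtain ⟨w, hw⟩ := h1
    refine ⟨⟨w, fun h0 => ?_⟩, ⟨w, fun h0 => ?_⟩⟩
    · exact hw ((mul_eq_zero.mp (congrArg Subtype.val h0)).resolve_left hζ)
    · refine hw ?_
      rw [hf.skew, (mul_eq_zero.mp (congrArg Subtype.val h0)).resolve_left hζ, neg_zero]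

end Form

/-- A subalgebra over a subfield of prime index containing an irrational element is everything. -/
lemma subalgebra_eq_top [Fintype F] {r : ℕ} (hr : r.Prime) (hcard : Fintype.card F = Nat.card F₀ ^ r)
    (S : Subalgebra F₀ F) {x : F} (hx : x ∈ S) (hx0 : x ∉ F₀) : S = ⊤ := by
  have hfin : Module.finrank F₀ F = r := by
    refine Nat.pow_right_injective (Finite.one_lt_card (α := F₀)) ?_
    simp only
    rw [← hcard, ← Nat.card_eq_fintype_card]
    exact (Module.natCard_eq_pow_finrank (K := F₀) (V := F)).symm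
  have := Subalgebra.isSimpleOrder_of_finrank_prime F₀ F (hfin ▸ hr)
  rcases eq_bot_or_eq_top S with h | h
  · rw [h, Algebra.mem_bot] at hx
    obtain ⟨y, rfl⟩ := hx
    exact absurd y.2 hx0
  · exact h

end Cfsg.Agent.SubfieldRational
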