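import Mathlib
import Cfsg.Agent.Lib.OmegaGeo
import Cfsg.Agent.Lib.OmegaStabTools
import Cfsg.Agent.Lib.OrthSubfieldPair44
import Cfsg.Agent.Lib.SubfieldRational

/-!
An overgroup `M` of the rational Siegel elements that does not preserve the rational lines contains
every Siegel element: coefficient form.
-/

set_option autoImplicit false

namespace Cfsg.Agent.OrthSubfieldCore44

open QuadraticMap Module
open Cfsg.Agent.OrthUnitaryQuad Cfsg.Agent.OrthUnitaryRefl Cfsg.Agent.OrthUnitarySimple
open Cfsg.Agent.QuadPairSL2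

variable {F V : Type*} [Field F] [AddCommGroup V] [Module F V]

/-! ### Siegel elements in a subgroup -/

section HasS

variable {Q : QuadraticForm F V}

/-- The Siegel element of `u`, `w` lies in `M`. -/
def HasS (M : Subgroup (orth Q)) (u w : V) : Prop :=
  ∃ (hu : Q u = 0) (hw : polar Q u w = 0), siegel Q u w hu hw ∈ M

variable {M : Subgroup (orth Q)} {u w w' : V}

theorem HasS.add (h : HasS M u w) (h' : HasS M u w') : HasS M u (w + w') := by
  obtain ⟨hu, hw, hm⟩ := h
  obtain ⟨_, hw', hm'⟩ := h'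
  refine ⟨hu, by rw [polar_add_right, hw, hw', add_zero], ?_⟩
  rw [← siegel_mul hu hw hw']
  exact M.mul_mem hm hm'

theorem hasS_smul_self (hu : Q u = 0) (κ : F) : HasS M u (κ • u) := by
  have hw : polar Q u (κ • u) = 0 := by rw [polar_smul_right, polar_self_mul, hu]; simp
  refine ⟨hu, hw, ?_⟩
  rw [siegel_eq_one hu hw rfl]
  exact M.one_mem

theorem hasS_zero (hu : Q u = 0) : HasS M u 0 := by
  simpa using hasS_smul_self (M := M) hu 0

theorem HasS.neg (h : HasS M u w) : HasS M u (-w) := by
  obtain ⟨hu, hw, hm⟩ := h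
  have hw' : polar Q u (-w) = 0 := by rw [polar_neg_right, hw, neg_zero]
  refine ⟨hu, hw', ?_⟩
  have h1 : siegel Q u w hu hw * siegel Q u (-w) hu hw' = 1 := by
    rw [siegel_mul hu hw hw', siegel_eq_one hu _ (a := 0) (by simp)]
  rw [← inv_eq_of_mul_eq_one_right h1]
  exact M.inv_mem hm

theorem HasS.sub (h : HasS M u w) (h' : HasS M u w') : HasS M u (w - w') := by
  rw [sub_eq_add_neg]; exact h.add h'.neg

theorem HasS.conj {k : orth Q} (hk : k ∈ M) (h : HasS M u w) : HasS M (k.1 u) (k.1 w) := by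
  obtain ⟨hu, hw, hm⟩ := h
  refine ⟨by rw [map_orth k, hu], by rw [polar_orth k, hw], ?_⟩
  rw [← conj_siegel k u w hu hw]
  exact M.mul_mem (M.mul_mem hk hm) (M.inv_mem hk)

/-- Transfer along an element fixing the centre. -/
theorem HasS.transfer {k : orth Q} (hk : k ∈ M) (hku : k.1 u = u) (h : HasS M u w) :
    HasS M u (k.1 w - w) := (hku ▸ h.conj hk).sub h

/-- For a singular pair the two vectors exchange. -/
theorem HasS.swap (hQw : Q w = 0) (h : HasS M u w) : HasS M w (-u) := by
  obtain ⟨hu, hw, hm⟩ := h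
  have hwu : polar Q w (-u) = 0 := by rw [polar_neg_right, polar_comm, hw, neg_zero]
  refine ⟨hQw, hwu, ?_⟩
  convert hm using 1
  apply orth_ext
  intro x
  rw [siegel_apply, siegel_apply, QuadraticMap.map_neg, hQw, hu, polar_neg_left]
  module

end HasS

/-! ### Rational data -/

/-- An `F₀`-form of a quadratic space. -/
structure RatData (Q : QuadraticForm F V) (F₀ : Subfield F) (V₀ : Type*) [AddCommGroup V₀]
    [Module F₀ V₀] where
  j : V₀ →+ V
  smul : ∀ (c : F₀) (x : V₀), j (c • x) = (c : F) • j x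
  q : QuadraticForm F₀ V₀
  hQ : ∀ x, Q (j x) = (q x : F)
  span : ∀ v : V, v ∈ Submodule.span F (Set.range j)
  inj : ∀ x, j x = 0 → x = 0
  coeff : ∀ {k : ℕ} (v : Fin k → V₀), LinearIndependent F₀ v → ∀ (c : Fin k → F) (z : V₀),
    ∑ i, c i • j (v i) = j z → ∀ i, c i ∈ F₀

variable {Q : QuadraticForm F V} {F₀ : Subfield F} {V₀ : Type*} [AddCommGroup V₀] [Module F₀ V₀]

section Basic

variable (D : RatData Q F₀ V₀)

theorem pol (x y : V₀) : polar Q (D.j x) (D.j y) = ((polar D.q x y : F₀) : F) := by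
  simp only [polar, ← map_add, D.hQ, Subfield.coe_sub]

theorem sing {x : V₀} (h : D.q x = 0) : Q (D.j x) = 0 := by rw [D.hQ, h]; rfl

theorem orth' {x y : V₀} (h : polar D.q x y = 0) : polar Q (D.j x) (D.j y) = 0 := by
  rw [pol D, h]; rfl

theorem j_injective : Function.Injective D.j :=
  (injective_iff_map_eq_zero D.j).2 D.inj

/-- Coefficients of two independent rational vectors. -/
theorem coeff2 {x y : V₀} (h : LinearIndependent F₀ ![x, y]) {a b : F} {z : V₀}
    (he : a • D.j x + b • D.j y = D.j z) : a ∈ F₀ ∧ b ∈ F₀ := by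
  have := D.coeff ![x, y] h ![a, b] z (by simpa [Fin.sum_univ_two] using he)
  exact ⟨this 0, this 1⟩

/-- Coefficients of three independent rational vectors. -/
theorem coeff3 {x y w : V₀} (h : LinearIndependent F₀ ![x, y, w]) {a b c : F} {z : V₀}
    (he : a • D.j x + b • D.j y + c • D.j w = D.j z) : a ∈ F₀ ∧ b ∈ F₀ ∧ c ∈ F₀ := by
  have := D.coeff ![x, y, w] h ![a, b, c] z (by simpa [Fin.sum_univ_three] using he)
  exact ⟨this 0, this 1, this 2⟩

theorem coeff1 {x : V₀} (hx : x ≠ 0) {a : F} {z : V₀} (he : a • D.j x = D.j z) : a ∈ F₀ := by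
  have := D.coeff ![x] (by simpa [linearIndependent_unique_iff] using hx) ![a] z (by simpa using he)
  exact this 0

/-- A linear functional vanishing on rational vectors is zero. -/
theorem ext_j {L L' : V →ₗ[F] F} (h : ∀ x, L (D.j x) = L' (D.j x)) : L = L' := by
  refine LinearMap.ext fun v => ?_
  induction D.span v using Submodule.span_induction with
  | mem v hv => obtain ⟨x, rfl⟩ := hv; exact h x
  | zero => simp
  | add a b _ _ ha hb => rw [map_add, map_add, ha, hb]
  | smul c a _ ha => rw [map_smul, map_smul, ha]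

theorem eq_of_polar (hnd : (polarBilin Q).Nondegenerate) {v v' : V}
    (h : ∀ x, polar Q (D.j x) v = polar Q (D.j x) v') : v = v' := by
  have he : polarBilin Q v = polarBilin Q v' := ext_j D fun x => by
    simp only [polarBilin_apply_apply]
    rw [polar_comm, h, polar_comm]
  refine sub_eq_zero.1 (hnd.1 _ fun y => ?_)
  rw [map_sub, he, sub_self, LinearMap.zero_apply]

theorem nd (hnd : (polarBilin Q).Nondegenerate) : (polarBilin D.q).Nondegenerate := by
  have h1 : ∀ x, (∀ y, polar D.q y x = 0) → x = 0 := fun x hx => D.inj x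
    (eq_of_polar D hnd fun y => by rw [orth' D (hx y), polar_zero_right])
  exact ⟨fun x hx => h1 x fun y => by rw [polar_comm]; exact hx y, fun x hx => h1 x hx⟩

variable [FiniteDimensional F₀ V₀]

/-- A vector with rational inner products against all rational vectors is rational. -/
theorem exists_of_polar (hnd : (polarBilin Q).Nondegenerate) {v : V}
    (h : ∀ x, polar Q (D.j x) v ∈ F₀) : ∃ v₀, v = D.j v₀ := by
  let φ : V₀ →ₗ[F₀] F₀ :=
    { toFun := fun x => ⟨polar Q (D.j x) v, h x⟩
      map_add' := fun x y => Subtype.ext (by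
        show polar Q (D.j (x + y)) v = polar Q (D.j x) v + polar Q (D.j y) v
        rw [map_add, polar_add_left])
      map_smul' := fun c x => Subtype.ext (by
        show polar Q (D.j (c • x)) v = (c : F) * polar Q (D.j x) v
        rw [D.smul, polar_smul_left, smul_eq_mul]) }
  obtain ⟨v₀, hv₀⟩ := (LinearMap.BilinForm.toDual (polarBilin D.q) (nd D hnd)).surjective φ
  refine ⟨v₀, eq_of_polar D hnd fun x => ?_⟩
  have := congrArg (fun L => ((L x : F₀) : F)) hv₀
  simp only [LinearMap.BilinForm.toDual_def, polarBilin_apply_apply] at this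
  rw [pol D, polar_comm D.q x v₀, this]
  rfl

end Basic

/-! ### Linear algebra in the rational space -/

section Rational

variable [Finite F₀] [FiniteDimensional F₀ V₀] (q : QuadraticForm F₀ V₀)

/-- A singular vector orthogonal to `S` and outside it. -/
theorem exists_sing_avoid {k : ℕ} (s : Fin k → V₀) (h : 2 * k + 3 ≤ finrank F₀ V₀) :
    ∃ y, q y = 0 ∧ (∀ i, polar q (s i) y = 0) ∧ y ∉ Submodule.span F₀ (Set.range s) := by
  obtain ⟨C, hC⟩ := Submodule.exists_isCompl (Submodule.span F₀ (Set.range s))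
  let L : V₀ →ₗ[F₀] (Fin k → F₀) := LinearMap.pi fun i => polarBilin q (s i)
  have h1 := LinearMap.finrank_range_add_finrank_ker L
  have h2 : finrank F₀ (LinearMap.range L) ≤ k :=
    (Submodule.finrank_le _).trans_eq (by simp)
  have h3 := Submodule.finrank_sup_add_finrank_inf_eq (LinearMap.ker L) C
  have h4 := Submodule.finrank_le (LinearMap.ker L ⊔ C)
  have h5 := Submodule.finrank_add_eq_of_isCompl hC
  have h6 : finrank F₀ (Submodule.span F₀ (Set.range s)) ≤ k :=
    (finrank_range_le_card s).trans_eq (Fintype.card_fin k)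
  obtain ⟨y, hy, hy0, hQy⟩ := QuadClassify.exists_singular q (LinearMap.ker L ⊓ C) (by omega)
  refine ⟨y, hQy, fun i => ?_, fun hmem => hy0 (Submodule.disjoint_def.1 hC.disjoint y hmem hy.2)⟩
  exact congrFun (LinearMap.mem_ker.1 hy.1) i

/-- A singular vector orthogonal to two hyperbolic pairs and outside their span. -/
theorem exists_sing_pairs {a f e e' : V₀} (h : 7 ≤ finrank F₀ V₀) (ha : q a = 0) (hf : q f = 0)
    (he : q e = 0) (he' : q e' = 0) (haf : polar q a f = 1) (hee : polar q e e' = 1)
    (hae : polar q a e = 0) (hae' : polar q a e' = 0) (hfe : polar q f e = 0) (hfe' : polar q f e' = 0) :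
    ∃ y, q y = 0 ∧ (∀ i, polar q (![a, f, e, e'] i) y = 0) ∧
      y ∉ Submodule.span F₀ (Set.range ![a, f, e, e']) := by
  let L : V₀ →ₗ[F₀] (Fin 4 → F₀) := LinearMap.pi fun i => polarBilin q (![a, f, e, e'] i)
  have h1 := LinearMap.finrank_range_add_finrank_ker L
  have h2 : finrank F₀ (LinearMap.range L) ≤ 4 := (Submodule.finrank_le _).trans_eq (by simp)
  obtain ⟨y, hy, hy0, hQy⟩ := QuadClassify.exists_singular q (LinearMap.ker L) (by omega)
  have hp : ∀ i, polar q (![a, f, e, e'] i) y = 0 := fun i => congrFun (LinearMap.mem_ker.1 hy) i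
  refine ⟨y, hQy, hp, fun hmem => hy0 ?_⟩
  obtain ⟨c, hc⟩ := (Submodule.mem_span_range_iff_exists_fun F₀).1 hmem
  simp only [Fin.sum_univ_four, Matrix.cons_val_zero, Matrix.cons_val_one, Matrix.cons_val] at hc
  have e0 := congrArg (polar q a) hc
  have e1 := congrArg (polar q f) hc
  have e2 := congrArg (polar q e) hc
  have e3 := congrArg (polar q e') hc
  have k0 : polar q a y = 0 := hp 0
  have k1 : polar q f y = 0 := hp 1
  have k2 : polar q e y = 0 := hp 2
  have k3 : polar q e' y = 0 := hp 3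
  simp [polar_add_right, polar_smul_right, polar_self_mul, ha, hf, he, he', haf, hee, hae, hae', hfe,
    hfe', polar_comm q f a, polar_comm q e a, polar_comm q e' a, polar_comm q e f, polar_comm q e' f,
    polar_comm q e' e, k0, k1, k2, k3] at e0 e1 e2 e3
  rw [← hc, e0, e1, e2, e3]
  simp

/-- A singular partner of `y` orthogonal to `S`. -/
theorem exists_partner_perp (hq : (polarBilin q).Nondegenerate) {k : ℕ} (s : Fin k → V₀) {y : V₀}
    (hy : q y = 0) (hys : y ∉ Submodule.span F₀ (Set.range s)) (hperp : ∀ i, polar q (s i) y = 0) :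
    ∃ f, q f = 0 ∧ polar q y f = 1 ∧ ∀ i, polar q (s i) f = 0 := by
  obtain ⟨f, h1, h2, h3⟩ := OmegaGeo.exists_sing_dual hq hy hys (by
    intro v hv
    induction hv using Submodule.span_induction with
    | mem v hv => obtain ⟨i, rfl⟩ := hv; exact hperp i
    | zero => simp
    | add a b _ _ ha hb => rw [polar_add_left, ha, hb, add_zero]
    | smul c a _ ha => rw [polar_smul_left, ha, smul_zero])
  exact ⟨f, h1, h2, fun i => h3 _ (Submodule.subset_span ⟨i, rfl⟩)⟩

/-- Every vector orthogonal to `S` is a sum of three singular ones orthogonal to `S`. -/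
theorem exists_three_of (hq : (polarBilin q).Nondegenerate) {k : ℕ} (s : Fin k → V₀)
    {v : V₀} (hv : ∀ i, polar q (s i) v = 0)
    (hav : ∃ g, q g = 0 ∧ (∀ i, polar q (Fin.cons (α := fun _ => V₀) v s i) g = 0) ∧
      g ∉ Submodule.span F₀ (Set.range (Fin.cons (α := fun _ => V₀) v s))) :
    ∃ a b c, v = a + b + c ∧ (q a = 0 ∧ ∀ i, polar q (s i) a = 0) ∧
      (q b = 0 ∧ ∀ i, polar q (s i) b = 0) ∧ (q c = 0 ∧ ∀ i, polar q (s i) c = 0) := by
  obtain ⟨g, hg, hgp, hgs⟩ := hav
  obtain ⟨g', hg', hgg, hgp'⟩ := exists_partner_perp q hq (Fin.cons v s) hg hgs hgp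
  have hvg : polar q v g = 0 := hgp 0
  have hvg' : polar q v g' = 0 := hgp' 0
  have hsg : ∀ i, polar q (s i) g = 0 := fun i => hgp i.succ
  have hsg' : ∀ i, polar q (s i) g' = 0 := fun i => hgp' i.succ
  refine ⟨v + g + (-(q v)) • g', (q v) • g', -g, by module, ⟨?_, fun i => ?_⟩, ⟨?_, fun i => ?_⟩,
    ⟨?_, fun i => ?_⟩⟩
  · rw [QuadraticMap.map_add (⇑q), QuadraticMap.map_add (⇑q) v, QuadraticMap.map_smul, hg, hg',
      polar_add_left, polar_smul_right, polar_smul_right, hvg, hvg', hgg]
    simp only [smul_eq_mul]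
    ring
  · rw [polar_add_right, polar_add_right, polar_smul_right, hv, hsg, hsg']; simp
  · rw [QuadraticMap.map_smul, hg', smul_zero]
  · rw [polar_smul_right, hsg', smul_zero]
  · rw [QuadraticMap.map_neg, hg]
  · rw [polar_neg_right, hsg, neg_zero]

theorem exists_three (hq : (polarBilin q).Nondegenerate) {k : ℕ} (s : Fin k → V₀)
    (h : 2 * k + 5 ≤ finrank F₀ V₀) {v : V₀} (hv : ∀ i, polar q (s i) v = 0) :
    ∃ a b c, v = a + b + c ∧ (q a = 0 ∧ ∀ i, polar q (s i) a = 0) ∧
      (q b = 0 ∧ ∀ i, polar q (s i) b = 0) ∧ (q c = 0 ∧ ∀ i, polar q (s i) c = 0) :=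
  exists_three_of q hq s hv (exists_sing_avoid q (Fin.cons v s) (by omega))

/-- A singular vector orthogonal to `S` and outside it, when the radical of the span of `S` is
at most a line. -/
theorem exists_sing_avoid_line {k : ℕ} (s : Fin k → V₀) (b : V₀)
    (hR : ∀ c : Fin k → F₀, (∀ j, polar q (s j) (∑ i, c i • s i) = 0) →
      ∑ i, c i • s i ∈ Submodule.span F₀ {b})
    (h : k + 4 ≤ finrank F₀ V₀) :
    ∃ y, q y = 0 ∧ (∀ i, polar q (s i) y = 0) ∧ y ∉ Submodule.span F₀ (Set.range s) := by
  let L : V₀ →ₗ[F₀] (Fin k → F₀) := LinearMap.pi fun i => polarBilin q (s i)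
  have h1 := LinearMap.finrank_range_add_finrank_ker L
  have h2 : finrank F₀ (LinearMap.range L) ≤ k :=
    (Submodule.finrank_le _).trans_eq (by simp)
  obtain ⟨C, hC⟩ := Submodule.exists_isCompl (Submodule.span F₀ {b})
  have h3 := Submodule.finrank_sup_add_finrank_inf_eq (LinearMap.ker L) C
  have h4 := Submodule.finrank_le (LinearMap.ker L ⊔ C)
  have h5 := Submodule.finrank_add_eq_of_isCompl hC
  have h6 : finrank F₀ (Submodule.span F₀ {b}) ≤ 1 := by
    refine (finrank_span_le_card _).trans ?_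
    simp
  obtain ⟨y, hy, hy0, hQy⟩ := QuadClassify.exists_singular q (LinearMap.ker L ⊓ C) (by omega)
  have hp : ∀ i, polar q (s i) y = 0 := fun i => congrFun (LinearMap.mem_ker.1 hy.1) i
  refine ⟨y, hQy, hp, fun hmem => hy0 ?_⟩
  obtain ⟨c, rfl⟩ := (Submodule.mem_span_range_iff_exists_fun F₀).1 hmem
  exact Submodule.disjoint_def.1 hC.disjoint _ (hR c hp) hy.2

/-- A line radical for three vectors: a hyperbolic pair and a vector orthogonal to it. -/
theorem pair_radical {r a f : V₀} (ha : q a = 0) (hf : q f = 0) (haf : polar q a f ≠ 0)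
    (har : polar q a r = 0) (hfr : polar q f r = 0) (c₀ c₁ c₂ : F₀)
    (h1 : polar q a (c₀ • r + c₁ • a + c₂ • f) = 0) (h2 : polar q f (c₀ • r + c₁ • a + c₂ • f) = 0) :
    c₀ • r + c₁ • a + c₂ • f ∈ Submodule.span F₀ {r} := by
  simp [polar_add_right, polar_smul_right, polar_self_mul, ha, hf, har, hfr, haf,
    polar_comm q f a] at h1 h2
  rw [h1, h2, zero_smul, zero_smul, add_zero, add_zero]
  exact Submodule.smul_mem _ _ (Submodule.mem_span_singleton_self r)

/-- Every vector orthogonal to a hyperbolic pair is a sum of three singular ones orthogonal to it. -/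
theorem exists_three_pair (hq : (polarBilin q).Nondegenerate) {a f : V₀}
    (h : 7 ≤ finrank F₀ V₀) (ha : q a = 0) (hf : q f = 0) (haf : polar q a f ≠ 0) {v : V₀}
    (hv : ∀ i, polar q (![a, f] i) v = 0) :
    ∃ x y z, v = x + y + z ∧ (q x = 0 ∧ ∀ i, polar q (![a, f] i) x = 0) ∧
      (q y = 0 ∧ ∀ i, polar q (![a, f] i) y = 0) ∧ (q z = 0 ∧ ∀ i, polar q (![a, f] i) z = 0) := by
  refine exists_three_of q hq ![a, f] hv (exists_sing_avoid_line q _ v (fun c hc => ?_) (by omega))
  have e : ∑ i, c i • (Fin.cons (α := fun _ => V₀) v ![a, f]) i = c 0 • v + c 1 • a + c 2 • f := by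
    simp [Fin.sum_univ_three]
  rw [e] at hc ⊢
  exact pair_radical q ha hf haf (hv 0) (hv 1) _ _ _ (hc 1) (hc 2)

end Rational

/-! ### Elements preserving the rational lines -/

variable (D : RatData Q F₀ V₀) [Finite F₀] [FiniteDimensional F₀ V₀]

/-- Every rational vector goes to a multiple of a rational vector. -/
def Pres (k : V → V) : Prop := ∀ x, ∃ (c : F) (y : V₀), k (D.j x) = c • D.j y

/-- The bivector pairing. -/
def del (C C' : V) (x y : V₀) : F :=
  polar Q (D.j x) C * polar Q (D.j y) C' - polar Q (D.j x) C' * polar Q (D.j y) C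

omit [Finite F₀] [FiniteDimensional F₀ V₀] in
theorem del_add_left (C C' : V) (x x' y : V₀) :
    del D C C' (x + x') y = del D C C' x y + del D C C' x' y := by
  simp only [del, map_add, polar_add_left]; ring

omit [Finite F₀] [FiniteDimensional F₀ V₀] in
theorem del_smul_left (C C' : V) (c : F₀) (x y : V₀) :
    del D C C' (c • x) y = c * del D C C' x y := by
  simp only [del, D.smul, polar_smul_left, smul_eq_mul]; ring

omit [Finite F₀] [FiniteDimensional F₀ V₀] in
theorem del_swap (C C' : V) (x y : V₀) : del D C C' x y = -del D C C' y x := by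
  simp only [del]; ring

/-- A bivector pairing rationally with rational root bivectors pairs rationally with all. -/
theorem del_mem (hnd : (polarBilin Q).Nondegenerate) (hn : 7 ≤ finrank F₀ V₀) {C C' : V}
    (hs : ∀ a z, D.q a = 0 → D.q z = 0 → polar D.q a z = 0 → del D C C' a z ∈ F₀) (x y : V₀) :
    del D C C' x y ∈ F₀ := by
  have hq := nd D hnd
  have hperp : ∀ a z, D.q a = 0 → polar D.q a z = 0 → del D C C' a z ∈ F₀ := by
    intro a z ha hz
    obtain ⟨b₁, b₂, b₃, rfl, h1, h2, h3⟩ := exists_three D.q hq ![a] (v := z) (by omega)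
      (fun i => by fin_cases i; exact hz)
    rw [del_swap, del_add_left, del_add_left]
    refine F₀.neg_mem (F₀.add_mem (F₀.add_mem ?_ ?_) ?_) <;> rw [del_swap] <;> refine F₀.neg_mem ?_
    · exact hs a b₁ ha h1.1 (h1.2 0)
    · exact hs a b₂ ha h2.1 (h2.2 0)
    · exact hs a b₃ ha h3.1 (h3.2 0)
  have hpair : ∀ a f, D.q a = 0 → D.q f = 0 → polar D.q a f = 1 → del D C C' a f ∈ F₀ := by
    intro a f ha hf haf
    by_contra hκ
    obtain ⟨e, he, hep, hes⟩ := exists_sing_avoid D.q ![a, f] (by omega)
    obtain ⟨e', he', hee, hep'⟩ := exists_partner_perp D.q hq ![a, f] he hes hep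
    obtain ⟨g, hg, hgp, hgs⟩ := exists_sing_pairs D.q (by omega) ha hf he he' haf hee (hep 0)
      (hep' 0) (hep 1) (hep' 1)
    obtain ⟨g', hg', hgg, hgp'⟩ := exists_partner_perp D.q hq ![a, f, e, e'] hg hgs hgp
    have hae : polar D.q a e = 0 := hep 0
    have hfe : polar D.q f e = 0 := hep 1
    have hae' : polar D.q a e' = 0 := hep' 0
    have hfe' : polar D.q f e' = 0 := hep' 1
    have hag : polar D.q a g = 0 := hgp 0
    have hfg : polar D.q f g = 0 := hgp 1
    have heg : polar D.q e g = 0 := hgp 2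
    have he'g : polar D.q e' g = 0 := hgp 3
    have hag' : polar D.q a g' = 0 := hgp' 0
    have hfg' : polar D.q f g' = 0 := hgp' 1
    have heg' : polar D.q e g' = 0 := hgp' 2
    have he'g' : polar D.q e' g' = 0 := hgp' 3
    -- congruent pairs
    have hcong : ∀ a f e e' : V₀, D.q a = 0 → D.q f = 0 → D.q e = 0 → D.q e' = 0 →
        polar D.q a f = 1 → polar D.q e e' = 1 → polar D.q a e = 0 → polar D.q a e' = 0 →
        polar D.q f e = 0 → polar D.q f e' = 0 → del D C C' a f ∉ F₀ → del D C C' e e' ∉ F₀ := by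
      intro a f e e' ha hf he he' haf hee hae hae' hfe hfe' hκ hmem
      have h1 : del D C C' (a + e) (f + (-1 : F₀) • e') ∈ F₀ := by
        refine hs _ _ ?_ ?_ ?_
        · rw [QuadraticMap.map_add (⇑D.q), ha, he, hae]; simp
        · rw [QuadraticMap.map_add (⇑D.q), QuadraticMap.map_smul, hf, he', polar_smul_right, hfe']
          simp
        · rw [polar_add_left, polar_add_right, polar_add_right, polar_smul_right, polar_smul_right,
            haf, hae', hee, polar_comm D.q e f, hfe]
          simp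
      have h2 : del D C C' a f = del D C C' (a + e) (f + (-1 : F₀) • e') + del D C C' a e'
          - del D C C' e f + del D C C' e e' := by
        simp only [del, map_add, D.smul, polar_add_left, polar_smul_left]
        push_cast
        simp only [smul_eq_mul]
        ring
      rw [h2] at hκ
      exact hκ (F₀.add_mem (F₀.sub_mem (F₀.add_mem h1 (hs a e' ha he' hae'))
        (hs e f he hf (by rw [polar_comm]; exact hfe))) hmem)
    have hκe := hcong a f e e' ha hf he he' haf hee hae hae' hfe hfe' hκ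
    have hκg := hcong a f g g' ha hf hg hg' haf hgg hag hag' hfg hfg' hκ
    -- Plücker with an irrational entry
    have plu : ∀ a f b c : V₀, del D C C' a f * del D C C' b c =
        del D C C' a b * del D C C' f c - del D C C' a c * del D C C' f b := by
      intro a f b c; simp only [del]; ring
    have hvan : ∀ a f b c : V₀, del D C C' a f ∉ F₀ → del D C C' a b ∈ F₀ → del D C C' f c ∈ F₀ →
        del D C C' a c ∈ F₀ → del D C C' f b ∈ F₀ → del D C C' b c ∈ F₀ → del D C C' b c = 0 := by
      intro a f b c hκ h1 h2 h3 h4 h5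
      by_contra h0
      apply hκ
      rw [show del D C C' a f = (del D C C' a b * del D C C' f c - del D C C' a c * del D C C' f b) /
        del D C C' b c by rw [← plu, mul_div_cancel_right₀ _ h0]]
      exact F₀.div_mem (F₀.sub_mem (F₀.mul_mem h1 h2) (F₀.mul_mem h3 h4)) h5
    have hae0 : del D C C' a e = 0 := hvan g g' a e hκg (hs _ _ hg ha (by rw [polar_comm]; exact hag))
      (hs _ _ hg' he (by rw [polar_comm]; exact heg')) (hs _ _ hg he (by rw [polar_comm]; exact heg))
      (hs _ _ hg' ha (by rw [polar_comm]; exact hag')) (hs _ _ ha he hae)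
    have hae'0 : del D C C' a e' = 0 := hvan g g' a e' hκg
      (hs _ _ hg ha (by rw [polar_comm]; exact hag)) (hs _ _ hg' he' (by rw [polar_comm]; exact he'g'))
      (hs _ _ hg he' (by rw [polar_comm]; exact he'g)) (hs _ _ hg' ha (by rw [polar_comm]; exact hag'))
      (hs _ _ ha he' hae')
    have h0 := plu a f e e'
    rw [hae0, hae'0, zero_mul, zero_mul, sub_zero] at h0
    rcases mul_eq_zero.1 h0 with h | h
    · exact hκ (h ▸ F₀.zero_mem)
    · exact hκe (h ▸ F₀.zero_mem)
  have hsing : ∀ a y, D.q a = 0 → del D C C' a y ∈ F₀ := by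
    intro a y ha
    by_cases ha0 : a = 0
    · subst ha0; simp [del, F₀.zero_mem]
    obtain ⟨f, hf, haf, -⟩ := exists_partner_perp D.q hq (fun i : Fin 0 => i.elim0) ha
      (by simpa [Set.range_eq_empty] using ha0) (fun i => i.elim0)
    have hy : y = (polar D.q a y) • f + (y + (-(polar D.q a y)) • f) := by module
    rw [hy, del_swap, del_add_left]
    refine F₀.neg_mem (F₀.add_mem ?_ ?_) <;> rw [del_swap] <;> refine F₀.neg_mem ?_
    · rw [del_swap, del_smul_left]
      refine F₀.neg_mem (F₀.mul_mem (polar D.q a y).2 ?_)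
      rw [del_swap]
      exact F₀.neg_mem (hpair a f ha hf haf)
    · refine hperp a _ ha ?_
      rw [polar_add_right, polar_smul_right, haf]; simp
  obtain ⟨a, b, c, rfl, h1, h2, h3⟩ := exists_three D.q hq (fun i : Fin 0 => i.elim0) (v := x)
    (by omega) (fun i => i.elim0)
  rw [del_add_left, del_add_left]
  exact F₀.add_mem (F₀.add_mem (hsing a y h1.1) (hsing b y h2.1)) (hsing c y h3.1)

end Cfsg.Agent.OrthSubfieldCore44
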