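import Mathlib
import Cfsg.Agent.Lib.OrthSubfieldCore44

/-!
An element not preserving the rational lines pairs some rational root bivectors irrationally.
-/

set_option autoImplicit false

namespace Cfsg.Agent.OrthSubfieldTau44

open QuadraticMap Module
open Cfsg.Agent.OrthUnitaryQuad Cfsg.Agent.OrthUnitaryRefl Cfsg.Agent.OrthUnitarySimple
open Cfsg.Agent.OrthSubfieldCore44

variable {F V : Type*} [Field F] [AddCommGroup V] [Module F V] {Q : QuadraticForm F V}
  {F₀ : Subfield F} {V₀ : Type*} [AddCommGroup V₀] [Module F₀ V₀] (D : RatData Q F₀ V₀)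
  [Finite F₀] [FiniteDimensional F₀ V₀]

/-- Some rational root bivector pairs irrationally with the image of another, unless the rational
lines are preserved. -/
theorem exists_tau (hnd : (polarBilin Q).Nondegenerate) (hn : 7 ≤ finrank F₀ V₀) (k : orth Q)
    (hk : ¬ Pres D k.1) : ∃ c₀ d₀ a z : V₀, D.q c₀ = 0 ∧ D.q d₀ = 0 ∧ polar D.q c₀ d₀ = 0 ∧
      D.q a = 0 ∧ D.q z = 0 ∧ polar D.q a z = 0 ∧
      del D (k.1 (D.j c₀)) (k.1 (D.j d₀)) a z ∉ F₀ := by
  by_contra hno
  push Not at hno
  apply hk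
  have hq := nd D hnd
  -- the image of a rational root line is a rational plane
  have hplane : ∀ c₀ d₀, D.q c₀ = 0 → D.q d₀ = 0 → polar D.q c₀ d₀ = 0 →
      LinearIndependent F₀ ![c₀, d₀] → ∃ v₁ v₂ : V₀,
        k.1 (D.j c₀) ∈ Submodule.span F {D.j v₁, D.j v₂} ∧
        k.1 (D.j d₀) ∈ Submodule.span F {D.j v₁, D.j v₂} ∧
        D.j v₁ ∈ Submodule.span F {k.1 (D.j c₀), k.1 (D.j d₀)} ∧
        D.j v₂ ∈ Submodule.span F {k.1 (D.j c₀), k.1 (D.j d₀)} ∧
        LinearIndependent F₀ ![v₁, v₂] := by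
    intro c₀ d₀ hc hd hcd hli
    have hind : ∀ p r : F, p • k.1 (D.j c₀) + r • k.1 (D.j d₀) = 0 → p = 0 ∧ r = 0 := by
      intro p r h
      have h' : p • D.j c₀ + r • D.j d₀ = D.j 0 := k.1.injective (by simpa using h)
      obtain ⟨hp, hr'⟩ := coeff2 D hli h'
      have h0 := LinearIndependent.pair_iff.1 hli ⟨p, hp⟩ ⟨r, hr'⟩ (D.inj _ (by
        rw [map_add, D.smul, D.smul]; simpa using h'))
      exact ⟨congrArg Subtype.val h0.1, congrArg Subtype.val h0.2⟩
    set C := k.1 (D.j c₀)
    set C' := k.1 (D.j d₀)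
    have hmem := del_mem D hnd hn (C := C) (C' := C') fun a z ha hz haz =>
      hno c₀ d₀ a z hc hd hcd ha hz haz
    have hv : ∀ y, ∃ v₀, polar Q (D.j y) C' • C - polar Q (D.j y) C • C' = D.j v₀ := fun y =>
      exists_of_polar D hnd fun x => by
        rw [polar_sub_right, polar_smul_right, polar_smul_right, smul_eq_mul, smul_eq_mul]
        have := hmem x y
        simpa [del, mul_comm] using this
    obtain ⟨y, y', hdet⟩ : ∃ y y', del D C C' y y' ≠ 0 := by
      by_contra hall
      push Not at hall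
      -- the two functionals would be proportional
      obtain ⟨y, hy⟩ : ∃ y, polar Q (D.j y) C ≠ 0 := by
        by_contra h0
        push Not at h0
        have hC : C = 0 := eq_of_polar D hnd fun x => by rw [h0, polar_zero_right]
        have : D.j c₀ = 0 := k.1.injective (hC.trans (map_zero k.1).symm)
        exact hli.ne_zero 0 (D.inj _ this)
      have hprop : C' = (polar Q (D.j y) C' / polar Q (D.j y) C) • C := eq_of_polar D hnd fun x => by
        have := hall x y
        rw [polar_smul_right, smul_eq_mul, div_mul_eq_mul_div, eq_div_iff hy]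
        simp only [del] at this
        linear_combination -this
      have hpre : D.j d₀ = (polar Q (D.j y) C' / polar Q (D.j y) C) • D.j c₀ :=
        k.1.injective (by rw [map_smul]; exact hprop)
      have hzero : (-(polar Q (D.j y) C' / polar Q (D.j y) C)) • D.j c₀ + (1 : F) • D.j d₀ = D.j 0 := by
        rw [map_zero, hpre]; module
      have hκ := (coeff2 D hli hzero).1
      have h2 := (LinearIndependent.pair_iff.1 hli) ⟨_, hκ⟩ 1 (D.inj _ (by
        rw [map_add, D.smul, D.smul, ← map_zero D.j, ← hzero]; rfl))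
      exact one_ne_zero h2.2
    obtain ⟨v₁, hv₁⟩ := hv y
    obtain ⟨v₂, hv₂⟩ := hv y'
    refine ⟨v₁, v₂, ?_, ?_, ?_, ?_, ?_⟩
    · refine Submodule.mem_span_pair.2 ⟨-(polar Q (D.j y') C) / del D C C' y y',
        polar Q (D.j y) C / del D C C' y y', ?_⟩
      rw [← hv₁, ← hv₂]
      match_scalars <;> field_simp <;> (try simp only [del]) <;> ring
    · refine Submodule.mem_span_pair.2 ⟨-(polar Q (D.j y') C') / del D C C' y y',
        polar Q (D.j y) C' / del D C C' y y', ?_⟩
      rw [← hv₁, ← hv₂]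
      match_scalars <;> field_simp <;> (try simp only [del]) <;> ring
    · rw [← hv₁]
      exact Submodule.mem_span_pair.2 ⟨polar Q (D.j y) C', -(polar Q (D.j y) C), by module⟩
    · rw [← hv₂]
      exact Submodule.mem_span_pair.2 ⟨polar Q (D.j y') C', -(polar Q (D.j y') C), by module⟩
    · refine LinearIndependent.pair_iff.2 fun a b hab => ?_
      have hab' := congrArg D.j hab
      rw [map_add, D.smul, D.smul, map_zero, ← hv₁, ← hv₂] at hab'
      obtain ⟨e₁, e₂⟩ := hind ((a : F) * polar Q (D.j y) C' + b * polar Q (D.j y') C')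
        (-((a : F) * polar Q (D.j y) C + b * polar Q (D.j y') C)) (by rw [← hab']; module)
      rw [neg_eq_zero] at e₂
      simp only [del] at hdet
      constructor
      · have h0 : (a : F) * (polar Q (D.j y) C * polar Q (D.j y') C' -
            polar Q (D.j y) C' * polar Q (D.j y') C) = 0 := by
          linear_combination polar Q (D.j y') C' * e₂ - polar Q (D.j y') C * e₁
        exact Subtype.ext ((mul_eq_zero.1 h0).resolve_right hdet)
      · have h0 : (b : F) * (polar Q (D.j y) C * polar Q (D.j y') C' -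
            polar Q (D.j y) C' * polar Q (D.j y') C) = 0 := by
          linear_combination polar Q (D.j y) C * e₁ - polar Q (D.j y) C' * e₂
        exact Subtype.ext ((mul_eq_zero.1 h0).resolve_right hdet)
  -- singular rational vectors go to multiples of rational vectors
  have hpt : ∀ c₀, D.q c₀ = 0 → ∃ (c : F) (y : V₀), k.1 (D.j c₀) = c • D.j y := by
    intro c₀ hc
    by_cases hc0 : c₀ = 0
    · exact ⟨0, 0, by simp [hc0]⟩
    obtain ⟨d₀, hd, hdp, hds⟩ := exists_sing_avoid D.q ![c₀] (by omega)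
    obtain ⟨d₁, hd', hdp', hds'⟩ := exists_sing_avoid D.q ![c₀, d₀] (by omega)
    have hli₃ : LinearIndependent F₀ ![c₀, d₀, d₁] := by
      have h2 : LinearIndependent F₀ ![c₀, d₀] := (LinearIndependent.pair_iff' hc0).2 fun a ha =>
        hds (Submodule.mem_span.2 fun p hp => ha ▸ p.smul_mem a (hp ⟨0, rfl⟩))
      have h3 := h2.finSnoc (x := d₁) hds'
      convert h3 using 1
      funext i; fin_cases i <;> rfl
    have hli₀ : LinearIndependent F₀ ![c₀, d₀] := (LinearIndependent.pair_iff' hc0).2 fun a ha =>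
        hds (Submodule.mem_span.2 fun p hp => ha ▸ p.smul_mem a (hp ⟨0, rfl⟩))
    have hli₁ : LinearIndependent F₀ ![c₀, d₁] := (LinearIndependent.pair_iff' hc0).2 fun a ha =>
      hds' (Submodule.mem_span.2 fun p hp => ha ▸ p.smul_mem a (hp ⟨0, rfl⟩))
    obtain ⟨v₁, v₂, hC, -, hv₁, hv₂, hvli⟩ := hplane c₀ d₀ hc hd (hdp 0) hli₀
    obtain ⟨w₁, w₂, hC', -, hw₁, hw₂, hwli⟩ := hplane c₀ d₁ hc hd' (hdp' 0) hli₁
    obtain ⟨a₁, a₂, ha⟩ := Submodule.mem_span_pair.1 hC
    obtain ⟨b₁, b₂, hb⟩ := Submodule.mem_span_pair.1 hC'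
    -- images of independent rational vectors are independent
    have himg : ∀ p q r : F, p • k.1 (D.j c₀) + q • k.1 (D.j d₀) + r • k.1 (D.j d₁) = 0 →
        p = 0 ∧ q = 0 ∧ r = 0 := by
      intro p q r h
      have h' : p • D.j c₀ + q • D.j d₀ + r • D.j d₁ = D.j 0 :=
        k.1.injective (by simpa using h)
      obtain ⟨hp, hq', hr⟩ := coeff3 D hli₃ h'
      have h0 := Fintype.linearIndependent_iff.1 hli₃ ![⟨p, hp⟩, ⟨q, hq'⟩, ⟨r, hr⟩] (D.inj _ (by
        simp only [Fin.sum_univ_three, map_add, Matrix.cons_val_zero, Matrix.cons_val_one,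
          Matrix.cons_val, D.smul]
        simpa using h'))
      exact ⟨congrArg Subtype.val (h0 0), congrArg Subtype.val (h0 1), congrArg Subtype.val (h0 2)⟩
    -- a common rational vector
    by_cases hl : LinearIndependent F₀ ![v₁, v₂, w₁, w₂]
    · exfalso
      have hzero : a₁ • D.j v₁ + a₂ • D.j v₂ + (-b₁) • D.j w₁ + (-b₂) • D.j w₂ = D.j 0 := by
        rw [map_zero, add_assoc, ha, neg_smul, neg_smul, ← neg_add, hb, add_neg_cancel]
      have hm := D.coeff ![v₁, v₂, w₁, w₂] hl ![a₁, a₂, -b₁, -b₂] 0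
        (by simpa [Fin.sum_univ_four] using hzero)
      have h0 := Fintype.linearIndependent_iff.1 hl
        ![⟨a₁, hm 0⟩, ⟨a₂, hm 1⟩, ⟨-b₁, hm 2⟩, ⟨-b₂, hm 3⟩] (D.inj _ (by
          simp only [Fin.sum_univ_four, map_add, Matrix.cons_val_zero, Matrix.cons_val_one,
            Matrix.cons_val, D.smul]
          simpa using hzero))
      have h1 : a₁ = 0 := congrArg Subtype.val (h0 0)
      have h2 : a₂ = 0 := congrArg Subtype.val (h0 1)
      rw [h1, h2, zero_smul, zero_smul, add_zero] at ha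
      exact hc0 (D.inj _ (k.1.injective (ha.symm.trans (map_zero k.1).symm)))
    · obtain ⟨g, hg, i, hi⟩ := Fintype.not_linearIndependent_iff.1 hl
      have hsum : (g 0 : F) • D.j v₁ + (g 1 : F) • D.j v₂ =
          -((g 2 : F) • D.j w₁ + (g 3 : F) • D.j w₂) := by
        have := congrArg D.j hg
        simp only [Fin.sum_univ_four, map_add, Matrix.cons_val_zero, Matrix.cons_val_one,
          Matrix.cons_val, D.smul, map_zero] at this
        exact eq_neg_of_add_eq_zero_left (by rw [← this]; abel)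
      set u := g 0 • v₁ + g 1 • v₂ with hu
      have hu0 : D.j u = (g 0 : F) • D.j v₁ + (g 1 : F) • D.j v₂ := by
        rw [hu, map_add, D.smul, D.smul]
      have hu1 : D.j u ∈ Submodule.span F {k.1 (D.j c₀), k.1 (D.j d₀)} := hu0 ▸
        Submodule.add_mem _ (Submodule.smul_mem _ _ hv₁) (Submodule.smul_mem _ _ hv₂)
      have hu2 : D.j u ∈ Submodule.span F {k.1 (D.j c₀), k.1 (D.j d₁)} := by
        rw [hu0, hsum]
        exact Submodule.neg_mem _
          (Submodule.add_mem _ (Submodule.smul_mem _ _ hw₁) (Submodule.smul_mem _ _ hw₂))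
      obtain ⟨p, r, hpr⟩ := Submodule.mem_span_pair.1 hu1
      obtain ⟨p', r', hpr'⟩ := Submodule.mem_span_pair.1 hu2
      have h3 := himg (p - p') r (-r') (by
        calc (p - p') • k.1 (D.j c₀) + r • k.1 (D.j d₀) + (-r') • k.1 (D.j d₁)
            = (p • k.1 (D.j c₀) + r • k.1 (D.j d₀)) - (p' • k.1 (D.j c₀) + r' • k.1 (D.j d₁)) := by
              module
          _ = 0 := by rw [hpr, hpr', sub_self])
      rw [h3.2.1, zero_smul, add_zero] at hpr
      by_cases hu00 : u = 0
      · exfalso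
        -- then both pairs are dependent
        have h01 := LinearIndependent.pair_iff.1 hvli (g 0) (g 1) hu00
        rw [h01.1, h01.2, ZeroMemClass.coe_zero, zero_smul, zero_smul, add_zero, eq_comm,
          neg_eq_zero] at hsum
        have h23 := LinearIndependent.pair_iff.1 hwli (g 2) (g 3) (D.inj _ (by
          rw [map_add, D.smul, D.smul]; exact hsum))
        fin_cases i <;> simp_all
      · refine ⟨p⁻¹, u, ?_⟩
        have hp : p ≠ 0 := fun h => hu00 (D.inj _ (by rw [← hpr, h, zero_smul]))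
        rw [← hpr, smul_smul, inv_mul_cancel₀ hp, one_smul]
  -- the multipliers agree
  have himg0 : ∀ v, v ≠ 0 → k.1 (D.j v) ≠ 0 := fun v hv h =>
    hv (D.inj _ (k.1.injective (h.trans (map_zero k.1).symm)))
  -- two independent orthogonal singular vectors
  have key : ∀ v e, D.q v = 0 → D.q e = 0 → polar D.q v e = 0 → LinearIndependent F₀ ![v, e] →
      ∀ (μ ν : F) (v' e' : V₀), k.1 (D.j v) = μ • D.j v' → k.1 (D.j e) = ν • D.j e' →
        ν / μ ∈ F₀ := by
    intro v e hv he hve hli μ ν v' e' hμ hν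
    have hμ0 : μ ≠ 0 := fun h => himg0 v (hli.ne_zero 0) (by rw [hμ, h, zero_smul])
    have hν0 : ν ≠ 0 := fun h => himg0 e (hli.ne_zero 1) (by rw [hν, h, zero_smul])
    obtain ⟨κ, w, hκ⟩ := hpt (v + e) (by rw [QuadraticMap.map_add (⇑D.q), hv, he, hve]; simp)
    have hκ0 : κ ≠ 0 := by
      refine fun h => himg0 (v + e) (fun h0 => ?_) (by rw [hκ, h, zero_smul])
      exact one_ne_zero (LinearIndependent.pair_iff.1 hli 1 1 (by simpa using h0)).1
    have hli' : LinearIndependent F₀ ![v', e'] := LinearIndependent.pair_iff.2 fun a b hab => by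
      have h1 : k.1 (((a : F) / μ) • D.j v + ((b : F) / ν) • D.j e) = 0 := by
        rw [map_add, map_smul, map_smul, hμ, hν, smul_smul, smul_smul, div_mul_cancel₀ _ hμ0,
          div_mul_cancel₀ _ hν0, ← D.smul, ← D.smul, ← map_add, hab, map_zero]
      have h2 : ((a : F) / μ) • D.j v + ((b : F) / ν) • D.j e = D.j 0 := by
        rw [map_zero]; exact k.1.injective (h1.trans (map_zero k.1).symm)
      obtain ⟨ha, hb⟩ := coeff2 D hli h2
      have h3 := LinearIndependent.pair_iff.1 hli ⟨_, ha⟩ ⟨_, hb⟩ (D.inj _ (by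
        rw [map_add, D.smul, D.smul]; simpa using h2))
      have ha0 : (a : F) / μ = 0 := congrArg Subtype.val h3.1
      have hb0 : (b : F) / ν = 0 := congrArg Subtype.val h3.2
      exact ⟨Subtype.ext (by simpa [hμ0] using ha0), Subtype.ext (by simpa [hν0] using hb0)⟩
    have h4 : (μ / κ) • D.j v' + (ν / κ) • D.j e' = D.j w := by
      rw [map_add, map_add, hμ, hν] at hκ
      have := congrArg (κ⁻¹ • ·) hκ
      simp only [smul_add, smul_smul, inv_mul_cancel₀ hκ0, one_smul] at this
      rw [← this]; simp only [div_eq_inv_mul]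
    obtain ⟨h5, h6⟩ := coeff2 D hli' h4
    rw [show ν / μ = (ν / κ) / (μ / κ) by field_simp]
    exact F₀.div_mem h6 h5
  obtain ⟨a₀, ha₀, -, ha₀s⟩ := exists_sing_avoid D.q (fun i : Fin 0 => i.elim0) (by omega)
  have ha₀' : a₀ ≠ 0 := fun h => ha₀s (h ▸ Submodule.zero_mem _)
  obtain ⟨l, a', hl⟩ := hpt a₀ ha₀
  have hl0 : l ≠ 0 := fun h => himg0 a₀ ha₀' (by rw [hl, h, zero_smul])
  have hall : ∀ b, D.q b = 0 → ∃ b', k.1 (D.j b) = l • D.j b' := by
    intro b hb
    by_cases hb0 : b = 0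
    · exact ⟨0, by simp [hb0]⟩
    obtain ⟨e, he, hep, hes⟩ := exists_sing_avoid D.q ![a₀, b] (by omega)
    obtain ⟨μ, b', hμ⟩ := hpt b hb
    obtain ⟨ν, e', hν⟩ := hpt e he
    have h1 : ν / l ∈ F₀ := key a₀ e ha₀ he (hep 0) ((LinearIndependent.pair_iff' ha₀').2
      fun a h => hes (h ▸ Submodule.smul_mem _ a (Submodule.subset_span ⟨0, rfl⟩))) l ν a' e' hl hν
    have h2 : ν / μ ∈ F₀ := key b e hb he (hep 1) ((LinearIndependent.pair_iff' hb0).2
      fun a h => hes (h ▸ Submodule.smul_mem _ a (Submodule.subset_span ⟨1, rfl⟩))) μ ν b' e' hμ hν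
    have he0 : ν ≠ 0 := fun h => himg0 e (fun h0 => hes (h0 ▸ Submodule.zero_mem _))
      (by rw [hν, h, zero_smul])
    have hμ0 : μ ≠ 0 := fun h => himg0 b hb0 (by rw [hμ, h, zero_smul])
    have h3 : μ / l ∈ F₀ := by
      rw [show μ / l = (ν / l) / (ν / μ) by field_simp]; exact F₀.div_mem h1 h2
    refine ⟨(⟨_, h3⟩ : F₀) • b', ?_⟩
    rw [D.smul, smul_smul, hμ, mul_div_cancel₀ _ hl0]
  intro x
  obtain ⟨b₁, b₂, b₃, rfl, h1, h2, h3⟩ := exists_three D.q hq (fun i : Fin 0 => i.elim0) (v := x)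
    (by omega) (fun i => i.elim0)
  obtain ⟨y₁, e₁⟩ := hall b₁ h1.1
  obtain ⟨y₂, e₂⟩ := hall b₂ h2.1
  obtain ⟨y₃, e₃⟩ := hall b₃ h3.1
  exact ⟨l, y₁ + y₂ + y₃, by simp only [map_add, e₁, e₂, e₃, smul_add]⟩

end Cfsg.Agent.OrthSubfieldTau44
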