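import Mathlib
import Cfsg.Agent.Lib.OrthSubfieldTau44

/-!
An overgroup of the rational Siegel elements that does not preserve the rational lines contains a
Siegel element at a rational centre with irrational direction.
-/

set_option autoImplicit false

namespace Cfsg.Agent.OrthSubfieldIrr44

open QuadraticMap Module
open Cfsg.Agent.OrthUnitaryQuad Cfsg.Agent.OrthUnitaryRefl Cfsg.Agent.OrthUnitarySimple
open Cfsg.Agent.OrthSubfieldCore44 Cfsg.Agent.QuadPairSL2

variable {F V : Type*} [Field F] [AddCommGroup V] [Module F V] {Q : QuadraticForm F V}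

section HasS

variable {M : Subgroup (orth Q)} {u w : V}

theorem HasS.smul_left (hu : Q u = 0) (c : F) (h : HasS M (c • u) w) : HasS M u (c • w) := by
  obtain ⟨hcu, hw, hm⟩ := h
  refine ⟨hu, by rw [polar_smul_right, ← polar_smul_left]; exact hw, ?_⟩
  convert hm using 1
  apply orth_ext
  intro x
  rw [siegel_apply, siegel_apply, polar_smul_left, polar_smul_left, QuadraticMap.map_smul]
  simp only [smul_eq_mul]
  module

/-- Transfer along a Siegel element fixing the centre. -/
theorem HasS.transfer' {u' w' : V} (hk : HasS M u' w') (hQw' : Q w' = 0) (h1 : polar Q u' u = 0)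
    (h2 : polar Q w' u = 0) (h : HasS M u w) :
    HasS M u (polar Q u' w • w' - polar Q w' w • u') := by
  obtain ⟨hu', hw', hm⟩ := hk
  have h3 := h.transfer hm (by rw [siegel_apply, h1, h2]; simp)
  convert h3 using 1
  rw [siegel_apply, hQw']
  module

/-- Another basis of the plane of a singular pair, of determinant one. -/
theorem HasS.lincomb {C C' : V} (hC' : Q C' = 0) (h : HasS M C C') {p q r s : F}
    (hdet : p * s - q * r = 1) : HasS M (p • C + q • C') (r • C + s • C') := by
  obtain ⟨hC, hCC, hm⟩ := h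
  have hC'C : polar Q C' C = 0 := by rw [polar_comm, hCC]
  have hs : Q (r • C + s • C') = 0 := by
    rw [QuadraticMap.map_add (⇑Q), QuadraticMap.map_smul, QuadraticMap.map_smul, hC, hC',
      polar_smul_left, polar_smul_right, hCC]
    simp
  refine ⟨?_, ?_, ?_⟩
  · rw [QuadraticMap.map_add (⇑Q), QuadraticMap.map_smul, QuadraticMap.map_smul, hC, hC',
      polar_smul_left, polar_smul_right, hCC]
    simp
  · simp [polar_add_left, polar_add_right, polar_smul_left, polar_smul_right, hCC, hC'C,
      polar_self_mul, hC, hC']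
  · convert hm using 1
    apply orth_ext
    intro x
    rw [siegel_apply, siegel_apply, hs, hC', polar_add_left, polar_add_left, polar_smul_left,
      polar_smul_left, polar_smul_left, polar_smul_left]
    simp only [smul_eq_mul, zero_mul, add_zero]
    match_scalars
    · ring
    · linear_combination (-(polar Q C' x)) * hdet
    · linear_combination (polar Q C x) * hdet

end HasS

variable {F₀ : Subfield F} {V₀ : Type*} [AddCommGroup V₀] [Module F₀ V₀] (D : RatData Q F₀ V₀)
  [Finite F₀] [FiniteDimensional F₀ V₀]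

omit [Finite F₀] [FiniteDimensional F₀ V₀] in
/-- A rational direction orthogonal to `d'` gives an irrational Siegel element. -/
theorem irr_of_zero {M : Subgroup (orth Q)}
    (hrat : ∀ x y, D.q x = 0 → polar D.q x y = 0 → HasS M (D.j x) (D.j y))
    {a z y : V₀} {c' d' : V} {τ : F} (hτ : τ ∉ F₀) (ha : D.q a = 0) (hz : D.q z = 0)
    (haz : polar D.q a z = 0) (ha0 : a ≠ 0) (hd' : Q d' = 0)
    (hAc : polar Q (D.j a) c' = 1) (hAd : polar Q (D.j a) d' = 0)
    (hZd : polar Q (D.j z) d' = 1) (hk' : HasS M c' (τ • d')) (hy : D.q y = 0)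
    (hay : polar D.q a y = 0) (hzy : polar D.q z y = 0) (hyd : polar Q (D.j y) d' = 0)
    (hli2 : LinearIndependent F₀ ![y, a]) :
    ∃ a w, D.q a = 0 ∧ a ≠ 0 ∧ HasS M (D.j a) w ∧ ∀ (v : V₀) (κ : F), w ≠ D.j v + κ • D.j a := by
  have hA : Q (D.j a) = 0 := sing D ha
  have hZ : Q (D.j z) = 0 := sing D hz
  have hAZ : polar Q (D.j a) (D.j z) = 0 := orth' D haz
  have hZA : polar Q (D.j z) (D.j a) = 0 := by rw [polar_comm, hAZ]
  have hcA : polar Q c' (D.j a) = 1 := by rw [polar_comm, hAc]
  have hdA : polar Q d' (D.j a) = 0 := by rw [polar_comm, hAd]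
  have hY : Q (D.j y) = 0 := sing D hy
  have hAY : polar Q (D.j a) (D.j y) = 0 := orth' D hay
  have hZY : polar Q (D.j z) (D.j y) = 0 := orth' D hzy
  set ν := polar Q (D.j y) c' with hν
  have hνc : polar Q c' (D.j y) = ν := by rw [hν, polar_comm]
  have hdy : polar Q d' (D.j y) = 0 := by rw [polar_comm, hyd]
  have hQR : Q (D.j y - ν • D.j a) = 0 := by
    rw [sub_eq_add_neg, ← neg_smul, QuadraticMap.map_add (⇑Q), QuadraticMap.map_smul, hY, hA,
      polar_smul_right, polar_comm Q (D.j y), hAY]
    simp
  have h0 : HasS M (D.j a) (D.j y - ν • D.j a) := (hrat a y ha hay).sub (hasS_smul_self hA ν)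
  have hcR : polar Q c' (D.j y - ν • D.j a) = 0 := by
    rw [polar_sub_right, polar_smul_right, hνc, hcA]; simp
  have hdR : polar Q (τ • d') (D.j y - ν • D.j a) = 0 := by
    rw [polar_smul_left, polar_sub_right, polar_smul_right, hdy, hdA]; simp
  have hQd : Q (τ • d') = 0 := by rw [QuadraticMap.map_smul, hd', smul_zero]
  have h2 := HasS.transfer' hk' hQd hcR hdR (h0.swap hQR)
  rw [polar_neg_right, hcA, polar_neg_right, polar_smul_left, hdA, smul_zero, neg_zero, zero_smul,
    sub_zero] at h2
  have hAR : polar Q (D.j a) (D.j y - ν • D.j a) = 0 := by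
    rw [polar_sub_right, polar_smul_right, hAY, polar_self_mul, hA]; simp
  have hZR : polar Q (D.j z) (D.j y - ν • D.j a) = 0 := by
    rw [polar_sub_right, polar_smul_right, hZY, hZA]; simp
  have h3 := HasS.transfer' (hrat a z ha haz) hZ hAR hZR h2
  have h4 : HasS M (D.j y - ν • D.j a) (τ • D.j a) := by
    convert h3 using 1
    simp [polar_smul_right, hAd, hZd]
  have h5 := HasS.smul_left hA τ (h4.swap (by rw [QuadraticMap.map_smul, hA, smul_zero]))
  refine ⟨a, _, ha, ha0, h5, fun v κ hv => hτ ?_⟩
  have he : (-τ) • D.j y + (τ * ν - κ) • D.j a = D.j v := by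
    rw [eq_sub_of_add_eq hv.symm]; module
  simpa using F₀.neg_mem (coeff2 D hli2 he).1

/-- The irrational Siegel element. -/
theorem exists_irr [Fintype F] [Finite V] (hnd : (polarBilin Q).Nondegenerate)
    (hn : 7 ≤ finrank F₀ V₀) {r : ℕ} (hr : r.Prime) (hcard : Fintype.card F = Nat.card F₀ ^ r)
    {M : Subgroup (orth Q)}
    (hrat : ∀ x y, D.q x = 0 → polar D.q x y = 0 → HasS M (D.j x) (D.j y))
    {k : orth Q} (hk : k ∈ M) (hkP : ¬ Pres D k.1) :
    ∃ a w, D.q a = 0 ∧ a ≠ 0 ∧ HasS M (D.j a) w ∧ ∀ (v : V₀) (κ : F), w ≠ D.j v + κ • D.j a := by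
  have hq := nd D hnd
  obtain ⟨c₀, d₀, a, z, hc, hd, hcd, ha, hz, haz, hτ⟩ := OrthSubfieldTau44.exists_tau D hnd hn k hkP
  have hCD : HasS M (k.1 (D.j c₀)) (k.1 (D.j d₀)) := (hrat c₀ d₀ hc hcd).conj hk
  have hQC : Q (k.1 (D.j d₀)) = 0 := by rw [map_orth k, sing D hd]
  generalize k.1 (D.j c₀) = C, k.1 (D.j d₀) = C' at hCD hQC hτ
  have hτ0 : del D C C' a z ≠ 0 := fun h => hτ (h ▸ F₀.zero_mem)
  have hτ' : polar Q (D.j a) C * polar Q (D.j z) C' - polar Q (D.j a) C' * polar Q (D.j z) C =
      del D C C' a z := rfl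
  generalize del D C C' a z = τ at hτ hτ0 hτ'
  obtain ⟨hQC0, hCC, hCm⟩ := hCD
  obtain ⟨c', d', hc', hd', hcd', hAc, hZc, hAd, hZd, hk'⟩ : ∃ c' d' : V, Q c' = 0 ∧ Q d' = 0 ∧
      polar Q c' d' = 0 ∧ polar Q (D.j a) c' = 1 ∧ polar Q (D.j z) c' = 0 ∧
      polar Q (D.j a) d' = 0 ∧ polar Q (D.j z) d' = 1 ∧ HasS M c' (τ • d') := by
    have hC'C : polar Q C' C = 0 := by rw [polar_comm, hCC]
    refine ⟨(polar Q (D.j z) C' / τ) • C + (-(polar Q (D.j z) C) / τ) • C',
      (-(polar Q (D.j a) C') / τ) • C + (polar Q (D.j a) C / τ) • C', ?_, ?_, ?_, ?_, ?_, ?_, ?_, ?_⟩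
    · simp [QuadraticMap.map_add (⇑Q), QuadraticMap.map_smul, hQC0, hQC, polar_smul_left,
        polar_smul_right, hCC]
    · simp [QuadraticMap.map_add (⇑Q), QuadraticMap.map_smul, hQC0, hQC, polar_smul_left,
        polar_smul_right, hCC]
    · simp [polar_add_left, polar_add_right, polar_smul_left, polar_smul_right, hCC, hC'C,
        polar_self_mul, hQC0, hQC]
    · simp only [polar_add_right, polar_smul_right, smul_eq_mul]
      field_simp
      linear_combination hτ'
    · simp only [polar_add_right, polar_smul_right, smul_eq_mul]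
      field_simp
      ring
    · simp only [polar_add_right, polar_smul_right, smul_eq_mul]
      field_simp
      ring
    · simp only [polar_add_right, polar_smul_right, smul_eq_mul]
      field_simp
      linear_combination hτ'
    · rw [smul_add, smul_smul, smul_smul]
      refine HasS.lincomb hQC ⟨hQC0, hCC, hCm⟩ ?_
      field_simp
      linear_combination hτ'
  have hA : Q (D.j a) = 0 := sing D ha
  have hZ : Q (D.j z) = 0 := sing D hz
  have hAZ : polar Q (D.j a) (D.j z) = 0 := orth' D haz
  have hZA : polar Q (D.j z) (D.j a) = 0 := by rw [polar_comm, hAZ]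
  have hcA : polar Q c' (D.j a) = 1 := by rw [polar_comm, hAc]
  have hcZ : polar Q c' (D.j z) = 0 := by rw [polar_comm, hZc]
  have hdA : polar Q d' (D.j a) = 0 := by rw [polar_comm, hAd]
  have hdZ : polar Q d' (D.j z) = 1 := by rw [polar_comm, hZd]
  have hdc' : polar Q d' c' = 0 := by rw [polar_comm, hcd']
  have ha0 : a ≠ 0 := by
    intro h; subst h
    rw [map_zero, polar_zero_left] at hAc
    exact zero_ne_one hAc
  have hz0 : z ≠ 0 := by
    intro h; subst h
    rw [map_zero, polar_zero_left] at hZd
    exact zero_ne_one hZd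
  have haz' : ∀ s : F₀, s • z ≠ a := by
    intro s h
    rw [← h, D.smul, polar_smul_left, hZc, smul_zero] at hAc
    exact zero_ne_one hAc
  obtain ⟨f₀, hf₀, haf, hzf⟩ := exists_partner_perp D.q hq ![z] ha
    (fun h => by
      rw [show Set.range ![z] = {z} by simp, Submodule.mem_span_singleton] at h
      obtain ⟨s, hs⟩ := h
      exact haz' s hs)
    (fun i => by fin_cases i; simpa [polar_comm] using haz)
  have hzf : polar D.q z f₀ = 0 := hzf 0
  obtain ⟨g₀, hg₀, hzg, hgp⟩ := exists_partner_perp D.q hq ![a, f₀] hz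
    (fun h => by
      rw [show Set.range ![a, f₀] = {a, f₀} by simp [Set.pair_comm], Submodule.mem_span_pair] at h
      obtain ⟨s, t, hst⟩ := h
      have h1 := congrArg (polar D.q a) hst
      rw [polar_add_right, polar_smul_right, polar_smul_right, haf, haz, polar_self_mul, ha] at h1
      have ht : t = 0 := by simpa using h1
      rw [ht, zero_smul, add_zero] at hst
      have hs : s ≠ 0 := by intro h; rw [h, zero_smul] at hst; exact hz0 hst.symm
      exact haz' s⁻¹ (by rw [← hst, smul_smul, inv_mul_cancel₀ hs, one_smul]))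
    (fun i => by
      fin_cases i
      · exact haz
      · simpa [polar_comm] using hzf)
  have hag : polar D.q a g₀ = 0 := hgp 0
  -- independence of a nonzero vector orthogonal to both pairs
  have hli : ∀ y, y ≠ 0 → polar D.q f₀ y = 0 → polar D.q g₀ y = 0 →
      LinearIndependent F₀ ![z, y, a] := by
    intro y hy hfy hgy
    refine Fintype.linearIndependent_iff.2 fun c hc => ?_
    simp only [Fin.sum_univ_three, Matrix.cons_val_zero, Matrix.cons_val_one, Matrix.cons_val] at hc
    have h1 := congrArg (polar D.q g₀) hc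
    rw [polar_add_right, polar_add_right, polar_smul_right, polar_smul_right, polar_smul_right,
      polar_zero_right, polar_comm D.q g₀ z, hzg, hgy, polar_comm D.q g₀ a, hag] at h1
    have h2 := congrArg (polar D.q f₀) hc
    rw [polar_add_right, polar_add_right, polar_smul_right, polar_smul_right, polar_smul_right,
      polar_zero_right, polar_comm D.q f₀ z, hzf, hfy, polar_comm D.q f₀ a, haf] at h2
    have h0 : c 0 = 0 := by simpa using h1
    have h2' : c 2 = 0 := by simpa using h2
    rw [h0, h2', zero_smul, zero_smul, zero_add, add_zero] at hc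
    intro i; fin_cases i
    · exact h0
    · exact (smul_eq_zero.1 hc).resolve_right hy
    · exact h2'
  -- a direction pairing irrationally with `d'`
  have caseII : Odd r → ∀ y, D.q y = 0 → polar D.q a y = 0 → polar D.q z y = 0 →
      polar D.q f₀ y = 0 → polar D.q g₀ y = 0 → polar Q (D.j y) d' ∉ F₀ →
      ∃ a w, D.q a = 0 ∧ a ≠ 0 ∧ HasS M (D.j a) w ∧ ∀ (v : V₀) (κ : F), w ≠ D.j v + κ • D.j a := by
    intro hodd y hy hay hzy hfy hgy hμ
    have hy0 : y ≠ 0 := fun h => hμ (by rw [h, map_zero, polar_zero_left]; exact F₀.zero_mem)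
    have hY : Q (D.j y) = 0 := sing D hy
    have hAY : polar Q (D.j a) (D.j y) = 0 := orth' D hay
    have hZY : polar Q (D.j z) (D.j y) = 0 := orth' D hzy
    set μ := polar Q (D.j y) d' with hμd
    set ν := polar Q (D.j y) c' with hν
    have hνc : polar Q c' (D.j y) = ν := by rw [hν, polar_comm]
    have hμd' : polar Q d' (D.j y) = μ := by rw [hμd, polar_comm]
    set R := D.j y - ν • D.j a - μ • D.j z with hR
    have hAR : polar Q (D.j a) R = 0 := by
      simp [hR, polar_sub_right, polar_smul_right, hAY, hAZ, polar_self_mul, hA]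
    have hZR : polar Q (D.j z) R = 0 := by
      simp [hR, polar_sub_right, polar_smul_right, hZY, hZA, polar_self_mul, hZ]
    have hcR : polar Q c' R = 0 := by
      simp [hR, polar_sub_right, polar_smul_right, hνc, hcA, hcZ]
    have hdR : polar Q d' R = 0 := by
      simp [hR, polar_sub_right, polar_smul_right, hμd', hdA, hdZ]
    have hYR : polar Q (D.j y) R = 0 := by
      simp [hR, polar_sub_right, polar_smul_right, polar_comm Q (D.j y) (D.j a),
        polar_comm Q (D.j y) (D.j z), hAY, hZY, polar_self_mul, hY]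
    have hRR : polar Q R R = 0 := by
      conv_lhs => arg 2; rw [hR]
      rw [polar_sub_left, polar_sub_left, polar_smul_left, polar_smul_left, hYR, hAR, hZR]
      simp
    have hQR : Q R = 0 := by
      simp [hR, sub_eq_add_neg, ← neg_smul, QuadraticMap.map_add (⇑Q), QuadraticMap.map_smul,
        polar_add_left, polar_smul_left, polar_smul_right, hY, hA, hZ,
        polar_comm Q (D.j y) (D.j a), polar_comm Q (D.j y) (D.j z), hAY, hZY, hAZ]
    let d : OrthSubfieldPair44.Frame Q :=
      { e1 := D.j a, e2 := -d', f1 := c', f2 := -(D.j z), r := R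
        e11 := by rw [polar_self_mul, hA]; simp
        e22 := by simp [polar_neg_left, polar_neg_right, polar_self_mul, hd']
        f11 := by rw [polar_self_mul, hc']; simp
        f22 := by simp [polar_neg_left, polar_neg_right, polar_self_mul, hZ]
        rr := hRR
        e12 := by rw [polar_neg_right, hAd, neg_zero]
        f12 := by rw [polar_neg_right, hcZ, neg_zero]
        ef11 := hAc
        ef22 := by rw [polar_neg_right, polar_neg_left, hdZ, neg_neg]
        ef12 := by rw [polar_neg_right, hAZ, neg_zero]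
        ef21 := by rw [polar_neg_left, hdc', neg_zero]
        e1r := hAR
        e2r := by rw [polar_neg_left, hdR, neg_zero]
        f1r := hcR
        f2r := by rw [polar_neg_left, hZR, neg_zero] }
    have hAA : polar Q (D.j a) (D.j a) = 0 := by rw [polar_self_mul, hA]; simp
    -- elements of the upper root group
    have hS : ∀ (t w1 : F) (hw : polar Q (D.j a) (t • D.j z - w1 • R) = 0) (x : V),
        (siegel Q (D.j a) (t • D.j z - w1 • R) hA hw).1 x =
          OrthSubfieldPair44.Phi d (up t) w1 0 x := by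
      intro t w1 hw x
      have hQw : Q (t • D.j z - w1 • R) = 0 := by
        simp [sub_eq_add_neg, ← neg_smul, QuadraticMap.map_add (⇑Q), QuadraticMap.map_smul,
          polar_smul_left, polar_smul_right, hZ, hQR, hZR]
      rw [siegel_apply, hQw]
      simp only [OrthSubfieldPair44.Phi, OrthSubfieldPair44.phi, OrthSubfieldPair44.trans, d,
        up_00, up_01, up_10, up_11, sub_eq_add_neg, ← neg_smul, polar_add_left, polar_smul_left,
        polar_neg_right, polar_neg_left, smul_eq_mul, hAA, hAZ, hAR, polar_comm Q R (D.j a),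
        polar_comm Q R (D.j z), hZR, polar_comm Q x (D.j a), polar_comm Q x (D.j z),
        polar_comm Q x R]
      match_scalars <;> ring
    have hw0 : ∀ t w1 : F, polar Q (D.j a) (t • D.j z - w1 • R) = 0 := by
      intro t w1; simp [polar_sub_right, polar_smul_right, hAZ, hAR]
    obtain ⟨t, w1, hirr, g, hg, hgx⟩ := OrthSubfieldPair44.exists_irrational d M F₀ hodd hcard hμ
      hτ0
      (fun s hs => by
        obtain ⟨h1, h2, h3⟩ := hrat a ((⟨s, hs⟩ : F₀) • z) ha (by rw [polar_smul_right, haz, smul_zero])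
        refine ⟨_, h3, fun x => ?_⟩
        rw [← hS s 0 (hw0 s 0)]
        congr 2
        simp [D.smul])
      (fun s hs => by
        have h := (hrat a ((⟨s, hs⟩ : F₀) • y) ha (by rw [polar_smul_right, hay, smul_zero])).sub
          (hasS_smul_self hA (s * ν))
        obtain ⟨h1, h2, h3⟩ := h
        refine ⟨_, h3, fun x => ?_⟩
        rw [← hS (s * μ) (-s) (hw0 _ _)]
        refine congrArg (fun g : orth Q => g.1 x) (siegel_congr _ _ ?_)
        rw [hR, D.smul]
        module)
      (by
        obtain ⟨h1, h2, h3⟩ := hk'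
        refine ⟨_, h3, fun x => ?_⟩
        rw [siegel_apply, show Q (τ • d') = 0 by rw [QuadraticMap.map_smul, hd', smul_zero]]
        simp only [OrthSubfieldPair44.Phi, OrthSubfieldPair44.phi, OrthSubfieldPair44.trans, d,
          lo_00, lo_01, lo_10, lo_11, polar_smul_left, polar_neg_right, smul_eq_mul,
          polar_comm Q x c', polar_comm Q x d', sub_self, zero_mul, mul_zero, zero_smul, smul_zero, add_zero,
          sub_zero]
        match_scalars <;> ring)
    have hH : HasS M (D.j a) (t • D.j z - w1 • R) := by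
      refine ⟨hA, hw0 t w1, ?_⟩
      convert hg using 1
      exact orth_ext fun x => by rw [hgx, hS]
    refine ⟨a, _, ha, ha0, hH, fun v κ hv => hirr ?_⟩
    have he : (t + w1 * μ) • D.j z + (-w1) • D.j y + (w1 * ν - κ) • D.j a = D.j v := by
      rw [eq_sub_of_add_eq hv.symm, hR]; module
    obtain ⟨e1, e2, -⟩ := coeff3 D (hli y hy0 hfy hgy) he
    exact ⟨by simpa using F₀.neg_mem e2, e1⟩
  -- the cases
  obtain ⟨y₁, hy₁, hp₁', hs₁'⟩ := exists_sing_pairs D.q (a := a) (f := f₀) (e := z) (e' := g₀)
    (by omega) ha hf₀ hz hg₀ haf hzg haz hag (by rw [polar_comm]; exact hzf) (hgp 1)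
  have hay : polar D.q a y₁ = 0 := hp₁' 0
  have hfy : polar D.q f₀ y₁ = 0 := hp₁' 1
  have hzy : polar D.q z y₁ = 0 := hp₁' 2
  have hgy : polar D.q g₀ y₁ = 0 := hp₁' 3
  have hy0 : y₁ ≠ 0 := fun h => hs₁' (h ▸ Submodule.zero_mem _)
  have hli3 := Fintype.linearIndependent_iff.1 (hli y₁ hy0 hfy hgy)
  have hyA : polar Q (D.j y₁) (D.j a) = 0 := by rw [polar_comm]; exact orth' D hay
  by_cases hm : polar Q (D.j y₁) d' ∈ F₀
  · -- subtract a multiple of `z`
    set m : F₀ := ⟨_, hm⟩ with hmd
    refine irr_of_zero D hrat hτ ha hz haz ha0 hd' hAc hAd hZd hk'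
      (y := y₁ + (-m) • z) ?_ ?_ ?_ ?_ ?_
    · rw [QuadraticMap.map_add (⇑D.q), QuadraticMap.map_smul, hy₁, hz, polar_smul_right,
        polar_comm D.q y₁, hzy]
      simp
    · rw [polar_add_right, polar_smul_right, hay, haz]; simp
    · rw [polar_add_right, polar_smul_right, hzy, polar_self_mul, hz]; simp
    · rw [map_add, D.smul, polar_add_left, polar_smul_left, hZd]
      simp [hmd]
    · refine LinearIndependent.pair_iff.2 fun s t hst => ?_
      have h := hli3 ![s * -m, s, t] (by
        simp only [Fin.sum_univ_three, Matrix.cons_val_zero, Matrix.cons_val_one, Matrix.cons_val]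
        rw [← hst]; module)
      exact ⟨h 1, h 2⟩
  by_cases hr2 : r = 2
  swap
  · exact caseII (hr.odd_of_ne_two hr2) y₁ hy₁ hay hzy hfy hgy hm
  -- degree two: another basis of the plane of `a` and `z`
  haveI : Module.Finite F₀ F := Module.Finite.of_finite
  have hfin : finrank F₀ F = 2 := by
    subst hr2
    refine Nat.pow_right_injective (Finite.one_lt_card (α := F₀)) ?_
    simp only
    rw [← hcard, ← Nat.card_eq_fintype_card]
    exact (Module.natCard_eq_pow_finrank (K := F₀) (V := F)).symm
  have hindF : LinearIndependent F₀ ![(1 : F), polar Q (D.j y₁) d'] := by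
    refine (LinearIndependent.pair_iff' one_ne_zero).2 fun s hs => hm ?_
    rw [← hs, Subfield.smul_def, smul_eq_mul, mul_one]
    exact s.2
  obtain ⟨g, hg⟩ := (Submodule.mem_span_range_iff_exists_fun F₀).1
    (show polar Q (D.j y₁) c' ∈ Submodule.span F₀ (Set.range ![(1 : F), polar Q (D.j y₁) d']) by
      rw [hindF.span_eq_top_of_card_eq_finrank (by rw [Fintype.card_fin, hfin])]
      exact Submodule.mem_top)
  simp only [Fin.sum_univ_two, Matrix.cons_val_zero, Matrix.cons_val_one, Subfield.smul_def,
    smul_eq_mul, mul_one] at hg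
  set s := g 1 with hs
  set m := g 0 with hmd
  have hQd' : Q (τ • d') = 0 := by rw [QuadraticMap.map_smul, hd', smul_zero]
  have hk'' : HasS M d' ((-τ) • (c' + (-(s : F)) • d')) := by
    have h := HasS.lincomb hQd' hk' (p := 0) (q := τ⁻¹) (r := -τ) (s := (s : F))
      (by field_simp; ring)
    convert h using 1
    · rw [zero_smul, zero_add, inv_smul_smul₀ hτ0]
    · module
  refine irr_of_zero D hrat (a := z + s • a) (z := a) (c' := d') (d' := c' + (-(s : F)) • d')
    (τ := -τ) (fun h => hτ (by simpa using F₀.neg_mem h)) ?_ ha ?_ ?_ ?_ ?_ ?_ ?_ hk''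
    (y := y₁ + (-m) • a) ?_ ?_ ?_ ?_ ?_
  · rw [QuadraticMap.map_add (⇑D.q), QuadraticMap.map_smul, hz, ha, polar_smul_right,
      polar_comm D.q z, haz]
    simp
  · rw [polar_add_left, polar_smul_left, polar_self_mul, ha, polar_comm D.q z, haz]; simp
  · intro h
    have h0 := hli3 ![1, 0, s] (by simpa [Fin.sum_univ_three] using h) 0
    simp at h0
  · rw [QuadraticMap.map_add (⇑Q), QuadraticMap.map_smul, hc', hd', polar_smul_right, hcd']; simp
  · rw [map_add, D.smul, polar_add_left, polar_smul_left, hAd, hZd]; simp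
  · rw [map_add, D.smul, polar_add_left, polar_smul_left, polar_add_right, polar_add_right,
      polar_smul_right, polar_smul_right, hAc, hAd, hZc, hZd]
    simp
  · rw [polar_add_right, polar_smul_right, hAc, hAd]; simp
  · rw [QuadraticMap.map_add (⇑D.q), QuadraticMap.map_smul, hy₁, ha, polar_smul_right,
      polar_comm D.q y₁, hay]
    simp
  · rw [polar_add_left, polar_smul_left, polar_add_right, polar_add_right, polar_smul_right,
      polar_smul_right, hzy, hay, polar_self_mul, ha, polar_comm D.q z, haz]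
    simp
  · rw [polar_add_right, polar_smul_right, hay, polar_self_mul, ha]; simp
  · rw [map_add, D.smul, polar_add_left, polar_add_right, polar_add_right, polar_smul_left,
      polar_smul_left, polar_smul_right, polar_smul_right, hAc, hAd, ← hg]
    simp only [NegMemClass.coe_neg, smul_eq_mul]
    ring
  · refine LinearIndependent.pair_iff.2 fun p t hpt => ?_
    have h := hli3 ![t, p, t * s - p * m] (by
      simp only [Fin.sum_univ_three, Matrix.cons_val_zero, Matrix.cons_val_one, Matrix.cons_val]
      rw [← hpt]; module)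
    exact ⟨h 1, h 0⟩

end Cfsg.Agent.OrthSubfieldIrr44
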