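import Mathlib
import Cfsg.Agent.Lib.OrthSubfieldIrr44

/-!
An overgroup of the rational Siegel elements that does not preserve the rational lines contains the
commutator subgroup of the orthogonal group.
-/

set_option autoImplicit false

namespace Cfsg.Agent.OrthSubfieldFull44

open QuadraticMap Module
open Cfsg.Agent.OrthUnitaryQuad Cfsg.Agent.OrthUnitaryRefl Cfsg.Agent.OrthUnitarySimple
open Cfsg.Agent.OrthSubfieldCore44 Cfsg.Agent.OrthSubfieldIrr44

variable {F V : Type*} [Field F] [AddCommGroup V] [Module F V] {Q : QuadraticForm F V}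
  {F₀ : Subfield F} {V₀ : Type*} [AddCommGroup V₀] [Module F₀ V₀] (D : RatData Q F₀ V₀)
  {M : Subgroup (orth Q)}

/-- The Siegel elements at rational centres with directions `l` times rational. -/
def Good (M : Subgroup (orth Q)) (a : V₀) (l : F) : Prop :=
  ∀ y, polar D.q a y = 0 → HasS M (D.j a) (l • D.j y)

variable [Finite F₀] [FiniteDimensional F₀ V₀]
  (hrat : ∀ x y, D.q x = 0 → polar D.q x y = 0 → HasS M (D.j x) (D.j y))

include hrat

omit [Finite F₀] [FiniteDimensional F₀ V₀] in
/-- Transfer along a rational Siegel element fixing the centre. -/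
theorem transfer_rat {a u x : V₀} (hu : D.q u = 0) (hx : D.q x = 0) (hux : polar D.q u x = 0)
    (hau : polar D.q a u = 0) (hax : polar D.q a x = 0) {w : V} (h : HasS M (D.j a) w) :
    HasS M (D.j a) (polar Q (D.j u) w • D.j x - polar Q (D.j x) w • D.j u) :=
  HasS.transfer' (hrat u x hu hux) (sing D hx) (orth' D (by rw [polar_comm, hau]))
    (orth' D (by rw [polar_comm, hax])) h

/-- From one direction to all. -/
theorem good_of_one (hnd : (polarBilin Q).Nondegenerate) (hn : 7 ≤ finrank F₀ V₀) {a x : V₀}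
    (ha : D.q a = 0) (ha0 : a ≠ 0) (hx : D.q x = 0) (hax : polar D.q a x = 0)
    (hxa : x ∉ Submodule.span F₀ {a}) {l : F} (h : HasS M (D.j a) (l • D.j x)) : Good D M a l := by
  have hq := nd D hnd
  have move : ∀ x, D.q x = 0 → polar D.q a x = 0 → x ∉ Submodule.span F₀ {a} →
      HasS M (D.j a) (l • D.j x) → ∀ y, D.q y = 0 → polar D.q a y = 0 → polar D.q x y = 0 →
      y ∉ Submodule.span F₀ {a, x} → HasS M (D.j a) (l • D.j y) := by
    intro x hx hax hxa h y hy hay hxy hyax
    have hxay : x ∉ Submodule.span F₀ (Set.range ![a, y]) := by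
      intro hmem
      rw [show Set.range ![a, y] = {a, y} by simp [Set.pair_comm], Submodule.mem_span_pair] at hmem
      obtain ⟨s, t, hst⟩ := hmem
      by_cases ht : t = 0
      · exact hxa (Submodule.mem_span_singleton.2 ⟨s, by rw [← hst, ht, zero_smul, add_zero]⟩)
      · refine hyax (Submodule.mem_span_pair.2 ⟨-(t⁻¹ * s), t⁻¹, ?_⟩)
        rw [← hst, smul_add, smul_smul, inv_smul_smul₀ ht]; module
    obtain ⟨u, hu, hxu, hup⟩ := exists_partner_perp D.q hq ![a, y] hx hxay (fun i => by
      fin_cases i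
      · exact hax
      · simpa [polar_comm] using hxy)
    have h2 := transfer_rat D hrat hu hy (by rw [polar_comm]; exact hup 1) (hup 0) hay h
    rw [polar_smul_right, polar_smul_right, orth' D (show polar D.q y x = 0 by rw [polar_comm, hxy]),
      pol D u x, polar_comm D.q u x, hxu] at h2
    simpa using h2
  have hsing : ∀ y, D.q y = 0 → polar D.q a y = 0 → HasS M (D.j a) (l • D.j y) := by
    intro y hy hay
    by_cases hya : y ∈ Submodule.span F₀ {a}
    · obtain ⟨s, rfl⟩ := Submodule.mem_span_singleton.1 hya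
      rw [D.smul, smul_smul]
      exact hasS_smul_self (sing D ha) _
    by_cases hxy : polar D.q x y = 0
    · by_cases hyax : y ∈ Submodule.span F₀ {a, x}
      · obtain ⟨x', hx', hxp, hxs⟩ := exists_sing_avoid D.q ![a, x] (by omega)
        have hsub : ∀ {s : Set V₀}, s ⊆ Set.range ![a, x] → x' ∉ Submodule.span F₀ s :=
          fun hs h => hxs (Submodule.span_mono hs h)
        have h1 : HasS M (D.j a) (l • D.j x') :=
          move x hx hax hxa h x' hx' (hxp 0) (hxp 1) (hsub (by simp [Set.pair_comm]))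
        have hx'y : polar D.q x' y = 0 := by
          obtain ⟨s, t, rfl⟩ := Submodule.mem_span_pair.1 hyax
          rw [polar_add_right, polar_smul_right, polar_smul_right, polar_comm D.q x' a,
            polar_comm D.q x' x, show polar D.q a x' = 0 from hxp 0,
            show polar D.q x x' = 0 from hxp 1]
          simp
        refine move x' hx' (hxp 0) (hsub (by simp)) h1 y hy hay hx'y ?_
        intro hmem
        obtain ⟨s, t, hst⟩ := Submodule.mem_span_pair.1 hmem
        obtain ⟨s', t', hst'⟩ := Submodule.mem_span_pair.1 hyax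
        by_cases ht : t = 0
        · exact hya (Submodule.mem_span_singleton.2 ⟨s, by rw [← hst, ht, zero_smul, add_zero]⟩)
        · refine hsub (s := {a, x}) (by simp [Set.pair_comm])
            (Submodule.mem_span_pair.2 ⟨t⁻¹ * (s' - s), t⁻¹ * t', ?_⟩)
          have h2 : t • x' = (s' - s) • a + t' • x := by
            rw [← hst', ← sub_eq_zero] at hst
            rw [← sub_eq_zero, ← hst]; module
          rw [show x' = t⁻¹ • t • x' by rw [inv_smul_smul₀ ht], h2]
          module
      · exact move x hx hax hxa h y hy hay hxy hyax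
    obtain ⟨x', hx', hxp, hxs⟩ := exists_sing_avoid_line D.q ![a, x, y] a (fun c hc => by
      simp only [Fin.sum_univ_three, Matrix.cons_val_zero, Matrix.cons_val_one, Matrix.cons_val] at hc ⊢
      exact pair_radical D.q hx hy hxy (by rw [polar_comm, hax]) (by rw [polar_comm, hay]) _ _ _
        (hc 1) (hc 2)) (by omega)
    have hsub : ∀ {s : Set V₀}, s ⊆ Set.range ![a, x, y] → x' ∉ Submodule.span F₀ s :=
      fun hs h => hxs (Submodule.span_mono hs h)
    have h1 : HasS M (D.j a) (l • D.j x') :=
      move x hx hax hxa h x' hx' (hxp 0) (hxp 1) (hsub (by simp [Set.insert_subset_iff]))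
    refine move x' hx' (hxp 0) (hsub (by simp)) h1 y hy hay ?_ ?_
    · rw [polar_comm]; exact hxp 2
    · intro hmem
      obtain ⟨s, t, hst⟩ := Submodule.mem_span_pair.1 hmem
      by_cases ht : t = 0
      · exact hya (Submodule.mem_span_singleton.2 ⟨s, by rw [← hst, ht, zero_smul, add_zero]⟩)
      · refine hsub (s := {a, y}) (by simp [Set.insert_subset_iff])
          (Submodule.mem_span_pair.2 ⟨-(t⁻¹ * s), t⁻¹, ?_⟩)
        rw [← hst, smul_add, smul_smul, inv_smul_smul₀ ht]; module
  intro y hy
  obtain ⟨b₁, b₂, b₃, rfl, h1, h2, h3⟩ := exists_three D.q hq ![a] (v := y) (by omega)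
    (fun i => by fin_cases i; exact hy)
  rw [map_add, map_add, smul_add, smul_add]
  exact ((hsing b₁ h1.1 (h1.2 0)).add (hsing b₂ h2.1 (h2.2 0))).add (hsing b₃ h3.1 (h3.2 0))

/-- From one centre to an orthogonal one. -/
theorem good_move (hnd : (polarBilin Q).Nondegenerate) (hn : 7 ≤ finrank F₀ V₀) {a b : V₀}
    (ha : D.q a = 0) (hb : D.q b = 0) (hab : polar D.q a b = 0) (hb0 : b ≠ 0)
    (hab' : a ∉ Submodule.span F₀ {b}) {l : F} (hg : Good D M a l) : Good D M b l := by
  refine good_of_one D hrat hnd hn hb hb0 ha (by rw [polar_comm, hab]) hab' ?_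
  have hQ : Q (l • D.j b) = 0 := by rw [QuadraticMap.map_smul, sing D hb, smul_zero]
  have h1 := (HasS.smul_left (sing D hb) l ((hg b hab).swap hQ)).neg
  rwa [smul_neg, neg_neg] at h1

/-- The multipliers good at one centre are good at every centre. -/
theorem good_all (hnd : (polarBilin Q).Nondegenerate) (hn : 7 ≤ finrank F₀ V₀) {a : V₀}
    (ha : D.q a = 0) (ha0 : a ≠ 0) {l : F} (hg : Good D M a l) {b : V₀} (hb : D.q b = 0)
    (hb0 : b ≠ 0) : Good D M b l := by
  obtain ⟨e, he, hep, hes⟩ := exists_sing_avoid D.q ![a, b] (by omega)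
  have hea : a ∉ Submodule.span F₀ {e} := by
    intro h
    obtain ⟨s, hs⟩ := Submodule.mem_span_singleton.1 h
    have hs0 : s ≠ 0 := fun h0 => ha0 (by rw [← hs, h0, zero_smul])
    exact hes (by
      rw [show e = s⁻¹ • a by rw [← hs, inv_smul_smul₀ hs0]]
      exact Submodule.smul_mem _ _ (Submodule.subset_span ⟨0, rfl⟩))
  have he0 : e ≠ 0 := fun h => hes (h ▸ Submodule.zero_mem _)
  have h1 := good_move D hrat hnd hn ha he (hep 0) he0 hea hg
  refine good_move D hrat hnd hn he hb (by rw [polar_comm]; exact hep 1) hb0 ?_ h1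
  intro h
  obtain ⟨s, hs⟩ := Submodule.mem_span_singleton.1 h
  exact hes (hs ▸ Submodule.smul_mem _ _ (Submodule.subset_span ⟨1, rfl⟩))

/-- An irrational direction gives an irrational multiplier. -/
theorem exists_good (hnd : (polarBilin Q).Nondegenerate) (hn : 7 ≤ finrank F₀ V₀) {a : V₀} {w : V}
    (ha : D.q a = 0) (ha0 : a ≠ 0) (h : HasS M (D.j a) w)
    (hirr : ∀ (v : V₀) (κ : F), w ≠ D.j v + κ • D.j a) : ∃ l ∉ F₀, Good D M a l := by
  have hq := nd D hnd
  obtain ⟨f, hf, haf, -⟩ := exists_partner_perp D.q hq (fun i : Fin 0 => i.elim0) ha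
    (by simpa [Set.range_eq_empty] using ha0) (fun i => i.elim0)
  have hfa : polar Q (D.j f) (D.j a) = 1 := by rw [pol D, polar_comm D.q, haf]; rfl
  set w' := w - polar Q (D.j f) w • D.j a with hw'
  have hS : HasS M (D.j a) w' := h.sub (hasS_smul_self (sing D ha) _)
  have hfw : polar Q (D.j f) w' = 0 := by
    rw [hw', polar_sub_right, polar_smul_right, hfa]; simp
  have haw : polar Q (D.j a) w' = 0 := hS.2.1
  obtain ⟨u, hu, hau, hfu, hl⟩ : ∃ u, D.q u = 0 ∧ polar D.q a u = 0 ∧ polar D.q f u = 0 ∧
      polar Q (D.j u) w' ∉ F₀ := by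
    by_contra hno
    push Not at hno
    have hall : ∀ x, polar Q (D.j x) w' ∈ F₀ := by
      intro x
      obtain ⟨b₁, b₂, b₃, hx, h1, h2, h3⟩ := exists_three_pair D.q hq (a := a) (f := f)
        (v := x + (-(polar D.q f x)) • a + (-(polar D.q a x)) • f) (by omega) ha hf
        (by rw [haf]; exact one_ne_zero) (fun i => by
          fin_cases i <;>
            simp [polar_add_right, polar_neg_right, polar_smul_right, polar_self_mul, ha, hf, haf,
              polar_comm D.q f a])
      have hjx : polar Q (D.j x) w' =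
          polar Q (D.j (x + (-(polar D.q f x)) • a + (-(polar D.q a x)) • f)) w' := by
        rw [map_add, map_add, D.smul, D.smul, polar_add_left, polar_add_left, polar_smul_left,
          polar_smul_left, haw, hfw]
        simp
      rw [hjx, hx, map_add, map_add, polar_add_left, polar_add_left]
      exact F₀.add_mem (F₀.add_mem (hno b₁ h1.1 (h1.2 0) (h1.2 1)) (hno b₂ h2.1 (h2.2 0) (h2.2 1)))
        (hno b₃ h3.1 (h3.2 0) (h3.2 1))
    obtain ⟨v, hv⟩ := exists_of_polar D hnd hall
    exact hirr v (polar Q (D.j f) w) (by rw [← hv, hw']; module)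
  set l := polar Q (D.j u) w' with hl'
  have hu0 : u ≠ 0 := fun h0 => hl (by rw [hl', h0, map_zero, polar_zero_left]; exact F₀.zero_mem)
  obtain ⟨x, hx, hxp, hxs⟩ := exists_sing_avoid_line D.q ![a, f, u] u (fun c hc => by
    simp only [Fin.sum_univ_three, Matrix.cons_val_zero, Matrix.cons_val_one, Matrix.cons_val] at hc ⊢
    rw [show c 0 • a + c 1 • f + c 2 • u = c 2 • u + c 0 • a + c 1 • f by abel] at hc ⊢
    exact pair_radical D.q ha hf (by rw [haf]; exact one_ne_zero) hau hfu _ _ _ (hc 0) (hc 1))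
    (by omega)
  have hS1 := transfer_rat D hrat hu hx (hxp 2) hau (hxp 0) hS
  obtain ⟨u₂, hu₂, hxu, hu₂p⟩ := exists_partner_perp D.q hq ![a, f, u] hx hxs hxp
  obtain ⟨x₂, hx₂d⟩ : ∃ x₂, x₂ = u := ⟨u, rfl⟩
  have hx₂0 : x₂ ≠ 0 := hx₂d ▸ hu0
  have hx₂ : D.q x₂ = 0 := hx₂d ▸ hu
  have hx₂p : ∀ i, polar D.q (![a, u, x, u₂, f] i) x₂ = 0 := fun i => by
    fin_cases i
    · simpa [hx₂d] using hau
    · simp [hx₂d, polar_self_mul, hu]
    · simpa [hx₂d, polar_comm D.q x] using hxp 2
    · simpa [hx₂d, polar_comm D.q u₂] using hu₂p 2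
    · simpa [hx₂d] using hfu
  have hx₂a : x₂ ∉ Submodule.span F₀ {a} := fun hm => by
    obtain ⟨s, hs⟩ := Submodule.mem_span_singleton.1 hm
    have h' : polar D.q f x₂ = 0 := hx₂p 4
    rw [← hs, polar_smul_right, polar_comm D.q f a, haf, smul_eq_mul, mul_one] at h'
    exact hx₂0 (by rw [← hs, h', zero_smul])
  have h1 : polar D.q u₂ u = 0 := by rw [polar_comm]; exact hu₂p 2
  have h2 : polar D.q u₂ x₂ = 0 := hx₂p 3
  have hS2 := transfer_rat D hrat hu₂ hx₂ h2 (hu₂p 0) (hx₂p 0) hS1
  simp only [polar_sub_right, polar_smul_right, orth' D h1, orth' D (show polar D.q x₂ x = 0 by rw [polar_comm]; exact hx₂p 2),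
    orth' D (show polar D.q x₂ u = 0 by rw [polar_comm]; exact hx₂p 1), pol D u₂ x,
    polar_comm D.q u₂ x, hxu] at hS2
  refine ⟨l, hl, good_of_one D hrat hnd hn ha ha0 hx₂ (hx₂p 0) ?_ ?_⟩
  · exact hx₂a
  · simpa using hS2

/-- The full radical at a rational singular centre. -/
theorem full_of (hnd : (polarBilin Q).Nondegenerate) {a : V₀} (ha : D.q a = 0) (ha0 : a ≠ 0)
    (hg : ∀ l, Good D M a l) : OmegaStabTools.Full M (D.j a) := by
  obtain ⟨f, hf, haf, -⟩ := exists_partner_perp D.q (nd D hnd) (fun i : Fin 0 => i.elim0) ha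
    (by simpa [Set.range_eq_empty] using ha0) (fun i => i.elim0)
  have key : ∀ (w : V) (c : F), HasS M (D.j a) (c • (w - polar Q (D.j a) w • D.j f)) := by
    intro w
    induction D.span w using Submodule.span_induction with
    | mem v hv =>
        obtain ⟨x, rfl⟩ := hv
        intro c
        have h := hg c (x - polar D.q a x • f) (by
          rw [polar_sub_right, polar_smul_right, haf]; simp)
        rw [map_sub, D.smul, ← pol D] at h
        exact h
    | zero => intro c; simpa using hasS_zero (M := M) (sing D ha)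
    | add x y _ _ hx hy =>
        intro c
        convert (hx c).add (hy c) using 1
        rw [polar_add_right]; module
    | smul e x _ hx =>
        intro c
        convert hx (c * e) using 1
        rw [polar_smul_right, smul_eq_mul]; module
  intro w hu hw
  obtain ⟨h1, h2, h3⟩ := key w 1
  convert h3 using 2
  rw [hw, zero_smul, sub_zero, one_smul]

/-- The multipliers are closed under multiplication. -/
theorem good_mul (hnd : (polarBilin Q).Nondegenerate) (hn : 7 ≤ finrank F₀ V₀) {l m : F}
    (hl : ∀ a, D.q a = 0 → a ≠ 0 → Good D M a l) (hm : ∀ a, D.q a = 0 → a ≠ 0 → Good D M a m)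
    {a : V₀} (ha : D.q a = 0) (ha0 : a ≠ 0) : Good D M a (l * m) := by
  have hq := nd D hnd
  obtain ⟨x, hx, hxp, hxs⟩ := exists_sing_avoid D.q ![a] (by omega)
  obtain ⟨c, hc, hxc, hcp⟩ := exists_partner_perp D.q hq ![a] hx hxs hxp
  obtain ⟨d, hd, hdp, hds⟩ := exists_sing_avoid_line D.q ![a, x, c] a (fun t ht => by
    simp only [Fin.sum_univ_three, Matrix.cons_val_zero, Matrix.cons_val_one, Matrix.cons_val] at ht ⊢
    exact pair_radical D.q hx hc (by rw [hxc]; exact one_ne_zero)
      (by rw [polar_comm]; exact hxp 0) (by rw [polar_comm]; exact hcp 0) _ _ _ (ht 1) (ht 2))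
    (by omega)
  have hc0 : c ≠ 0 := fun h => by rw [h, polar_zero_right] at hxc; exact zero_ne_one hxc
  have hk := hm c hc hc0 d (hdp 2)
  have h := HasS.transfer' hk (by rw [QuadraticMap.map_smul, sing D hd, smul_zero])
    (orth' D (by rw [polar_comm]; exact hcp 0))
    (by rw [polar_smul_left, orth' D (show polar D.q d a = 0 by rw [polar_comm]; exact hdp 0), smul_zero])
    (hl a ha ha0 x (hxp 0))
  refine good_of_one D hrat hnd hn ha ha0 hd (hdp 0)
    (fun hmem => hds (Submodule.span_mono (by simp) hmem)) ?_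
  rw [polar_smul_right, polar_smul_right, polar_smul_left, pol D c x, polar_comm D.q c x, hxc,
    orth' D (show polar D.q d x = 0 by rw [polar_comm]; exact hdp 1)] at h
  simpa [smul_smul] using h

/-- An overgroup that does not preserve the rational lines contains the commutator subgroup. -/
theorem commutator_le [Fintype F] [FiniteDimensional F V] [Finite V]
    (hnd : (polarBilin Q).Nondegenerate) (hnF : 5 ≤ finrank F V) (hn : 7 ≤ finrank F₀ V₀) {r : ℕ}
    (hr : r.Prime) (hcard : Fintype.card F = Nat.card F₀ ^ r) {k : orth Q} (hk : k ∈ M)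
    (hkP : ¬ Pres D k.1) : commutator (orth Q) ≤ M := by
  have hq := nd D hnd
  obtain ⟨a, w, ha, ha0, hS, hirr⟩ := exists_irr D hnd hn hr hcard hrat hk hkP
  obtain ⟨l, hl, hgl⟩ := exists_good D hrat hnd hn ha ha0 hS hirr
  let S : Subalgebra F₀ F :=
    { carrier := {m | ∀ b, D.q b = 0 → b ≠ 0 → Good D M b m}
      mul_mem' := fun hx hy b hb hb0 => good_mul D hrat hnd hn hx hy hb hb0
      one_mem' := fun b hb _ y hy => by rw [one_smul]; exact hrat b y hb hy
      add_mem' := fun hx hy b hb hb0 y hy' => by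
        rw [add_smul]; exact (hx b hb hb0 y hy').add (hy b hb hb0 y hy')
      zero_mem' := fun b hb _ y _ => by rw [zero_smul]; exact hasS_zero (sing D hb)
      algebraMap_mem' := fun c b hb _ y hy => by
        rw [show (algebraMap F₀ F c) = (c : F) from rfl, ← D.smul]
        exact hrat b _ hb (by rw [polar_smul_right, hy, smul_zero]) }
  have hS' : S = ⊤ := SubfieldRational.subalgebra_eq_top hr hcard S (x := l)
    (fun b hb hb0 => good_all D hrat hnd hn ha ha0 hgl hb hb0) hl
  have hall : ∀ m b, D.q b = 0 → b ≠ 0 → Good D M b m := fun m =>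
    show m ∈ S by rw [hS']; trivial
  obtain ⟨f, hf, haf, -⟩ := exists_partner_perp D.q hq (fun i : Fin 0 => i.elim0) ha
    (by simpa [Set.range_eq_empty] using ha0) (fun i => i.elim0)
  have hf0 : f ≠ 0 := fun h => by rw [h, polar_zero_right] at haf; exact zero_ne_one haf
  refine OmegaStabTools.commutator_le_of_full hnd hnF (sing D ha) (sing D hf) ?_
    (full_of D hrat hnd ha ha0 fun m => hall m a ha ha0)
    (full_of D hrat hnd hf hf0 fun m => hall m f hf hf0)
  rw [pol D, haf]; exact one_ne_zero

end Cfsg.Agent.OrthSubfieldFull44
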