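import Mathlib
import Cfsg.Agent.Lib.OmegaGeo
import Cfsg.Agent.Lib.OrthSubfieldFull44

/-!
Subfield groups are maximal in the commutator subgroup of an orthogonal group.
-/

set_option autoImplicit false

namespace Cfsg.Agent.OrthSubfieldMax44

open QuadraticMap Module
open Cfsg.Agent.OrthUnitaryQuad Cfsg.Agent.OrthUnitaryRefl Cfsg.Agent.OrthUnitarySimple
open Cfsg.Agent.OrthSubfieldCore44 Cfsg.Agent.SubfieldRational
open scoped Matrix

variable {F : Type*} [Field F] {ι : Type} [Fintype ι] [DecidableEq ι]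

/-- The rational form on the rational vectors. -/
noncomputable def ratQuad (q : QuadraticForm F (ι → F)) (F₀ : Subfield F) (P : GL ι F)
    (hP : Cfsg.Geo.IsQuadFormRationalStructure ⇑q F₀ P) : QuadraticForm F₀ (ι → F₀) :=
  QuadraticMap.ofPolar (fun u => ⟨q (rat P u), hP (emb u) fun i => (u i).2⟩)
    (fun a x => Subtype.ext (by
      show q (rat P (a • x)) = ((a * a : F₀) : F) * q (rat P x)
      rw [rat_smul, QuadraticMap.map_smul, smul_eq_mul, Subfield.coe_mul]))
    (fun x x' y => Subtype.ext (by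
      show q (rat P (x + x' + y)) - q (rat P (x + x')) - q (rat P y) =
        (q (rat P (x + y)) - q (rat P x) - q (rat P y)) +
          (q (rat P (x' + y)) - q (rat P x') - q (rat P y))
      have h := polar_add_left q (rat P x) (rat P x') (rat P y)
      simpa only [polar, rat_add] using h))
    (fun a x y => Subtype.ext (by
      show q (rat P (a • x + y)) - q (rat P (a • x)) - q (rat P y) =
        (a : F) * (q (rat P (x + y)) - q (rat P x) - q (rat P y))
      have h := polar_smul_left q (a : F) (rat P x) (rat P y)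
      simpa only [polar, rat_add, rat_smul, smul_eq_mul] using h))

theorem coeff_rat (F₀ : Subfield F) (P : GL ι F) {k : ℕ} (v : Fin k → ι → F₀)
    (hv : LinearIndependent F₀ v) (c : Fin k → F) (z : ι → F₀)
    (h : ∑ i, c i • rat P (v i) = rat P z) (i : Fin k) : c i ∈ F₀ := by
  obtain ⟨r, hr⟩ := exists_retract F₀
  have h0 : ∑ i, c i • emb (v i) = emb z := TransvectionMax.act_injective P (by
    simpa only [Matrix.mulVec_sum, Matrix.mulVec_smul, rat] using h)
  have h1 : ∀ j, ∑ i, c i * (v i j : F) = (z j : F) := fun j => by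
    have := congrFun h0 j
    simpa [emb, Finset.sum_apply] using this
  have hlin : ∀ (s : F →ₗ[F₀] F₀) (d : Fin k → F), (∀ j, ∑ i, d i * (v i j : F) = 0) →
      ∀ i, s (d i) = 0 := by
    intro s d hd
    refine Fintype.linearIndependent_iff.1 hv _ (funext fun j => ?_)
    have h2 := congrArg s (show ∑ i, (v i j) • d i = 0 by
      rw [← hd j]; exact Finset.sum_congr rfl fun i _ => by
        rw [Subfield.smul_def, smul_eq_mul, mul_comm])
    rw [map_sum, map_zero] at h2
    simpa [Finset.sum_apply, map_smul, mul_comm] using h2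
  have hr1 : ∀ j, ∑ i, (r (c i) : F) * (v i j : F) = (z j : F) := fun j => by
    have h2 := congrArg r (show ∑ i, (v i j) • c i = (z j : F) by
      rw [← h1 j]; exact Finset.sum_congr rfl fun i _ => by
        rw [Subfield.smul_def, smul_eq_mul, mul_comm])
    rw [map_sum, hr] at h2
    have h3 := congrArg Subtype.val h2
    simpa [map_smul, mul_comm] using h3
  have hd : c i - r (c i) = 0 := by
    by_contra hne
    have h4 := hlin (r ∘ₗ LinearMap.mulLeft F₀ ((c i - r (c i))⁻¹)) (fun i => c i - r (c i))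
      (fun j => by rw [← sub_self (z j : F)]; conv_rhs => arg 1; rw [← h1 j]
                   conv_rhs => arg 2; rw [← hr1 j]
                   rw [← Finset.sum_sub_distrib]
                   exact Finset.sum_congr rfl fun i _ => sub_mul _ _ _) i
    rw [LinearMap.comp_apply, LinearMap.mulLeft_apply, inv_mul_cancel₀ hne] at h4
    have h5 := hr 1
    rw [Subfield.coe_one, h4] at h5
    exact zero_ne_one h5
  rw [sub_eq_zero.1 hd]
  exact (r (c i)).2

/-- The rational data of a subfield structure. -/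
noncomputable def ratData (q : QuadraticForm F (ι → F)) (F₀ : Subfield F) (P : GL ι F)
    (hP : Cfsg.Geo.IsQuadFormRationalStructure ⇑q F₀ P) : RatData q F₀ (ι → F₀) where
  j := AddMonoidHom.mk' (rat P) (rat_add P)
  smul := rat_smul P
  q := ratQuad q F₀ P hP
  hQ _ := rfl
  span v := by
    obtain ⟨y, rfl⟩ := exists_combination (F₀ := F₀) P v
    exact Submodule.sum_mem _ fun i _ => Submodule.smul_mem _ _ (Submodule.subset_span ⟨_, rfl⟩)
  inj _ := rat_eq_zero P
  coeff v hv c z h := coeff_rat F₀ P v hv c z h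

theorem exists_notMem [Fintype F] {F₀ : Subfield F} {r : ℕ} (hr : r.Prime)
    (hcard : Fintype.card F = Nat.card F₀ ^ r) : ∃ x : F, x ∉ F₀ := by
  by_contra h
  push Not at h
  have h1 : Nat.card F₀ = Fintype.card F := by
    rw [Nat.card_congr (Equiv.subtypeUnivEquiv h : F₀ ≃ F), Nat.card_eq_fintype_card]
  rw [← h1] at hcard
  exact hr.one_lt.ne' ((Nat.pow_eq_self_iff Finite.one_lt_card).1 hcard.symm)

/-- The subfield group is maximal. -/
theorem isMaximalIn [Fintype F] (q : QuadraticForm F (ι → F)) (hnd : (polarBilin q).Nondegenerate)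
    (hn : 7 ≤ Fintype.card ι) (F₀ : Subfield F) (r : ℕ) (hr : r.Prime)
    (hcard : Fintype.card F = Nat.card F₀ ^ r) (P : GL ι F)
    (hP : Cfsg.Geo.IsQuadFormRationalStructure ⇑q F₀ P) :
    Cfsg.Geo.IsMaximalIn (Cfsg.Geo.omegaGL ⇑q)
      (Cfsg.Geo.subfieldSubgroup F₀ P ⊓ Cfsg.Geo.omegaGL ⇑q) := by
  haveI : Nonempty ι := Fintype.card_pos_iff.1 (by omega)
  have hnF : 5 ≤ finrank F (ι → F) := by rw [Module.finrank_pi]; omega
  have hn0 : 7 ≤ finrank F₀ (ι → F₀) := by rw [Module.finrank_pi]; omega
  let D := ratData q F₀ P hP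
  have hq := nd D hnd
  have hcomm : ∀ (u w : ι → F) (hu : q u = 0) (hw : polar q u w = 0),
      siegel q u w hu hw ∈ commutator (orth q) := fun u w hu hw =>
    sGroup_le_commutator hnd hnF (siegel_mem hnd hnF hu hw)
  have hmem : ∀ k : orth q, OmegaGeo.toGL q k ∈ Cfsg.Geo.subfieldSubgroup F₀ P ↔ Pres D k.1 := by
    intro k
    rw [mem_subfieldSubgroup_iff]
    simp only [OmegaGeo.toGL_mulVec]
    rfl
  refine ⟨lt_of_le_of_ne inf_le_right fun heq => ?_, fun M hHM hMK => ?_⟩
  · obtain ⟨l, hl⟩ := exists_notMem hr hcard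
    obtain ⟨a, ha, -, has⟩ := exists_sing_avoid D.q (fun i : Fin 0 => i.elim0) (by omega)
    have ha0 : a ≠ 0 := fun h => has (h ▸ Submodule.zero_mem _)
    obtain ⟨x, hx, hxp, hxs⟩ := exists_sing_avoid D.q ![a] (by omega)
    have hax : a ∉ Submodule.span F₀ (Set.range ![x]) := by
      intro h
      rw [show Set.range ![x] = {x} by simp, Submodule.mem_span_singleton] at h
      obtain ⟨s, hs⟩ := h
      have hs0 : s ≠ 0 := fun h0 => ha0 (by rw [← hs, h0, zero_smul])
      exact hxs (by
        rw [show x = s⁻¹ • a by rw [← hs, inv_smul_smul₀ hs0]]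
        exact Submodule.smul_mem _ _ (Submodule.subset_span ⟨0, rfl⟩))
    obtain ⟨f, hf, haf, hfp⟩ := exists_partner_perp D.q hq ![x] ha hax (fun i => by
      fin_cases i
      rw [polar_comm]; exact hxp 0)
    have hw : polar q (D.j a) (l • D.j x) = 0 := by
      rw [polar_smul_right, orth' D (show polar D.q a x = 0 from hxp 0), smul_zero]
    have h1 := OmegaGeo.toGL_mem (hcomm _ _ (sing D ha) hw)
    rw [← heq] at h1
    obtain ⟨c, y, hy⟩ := (hmem _).1 h1.1 f
    rw [siegel_apply, polar_smul_left, orth' D (show polar D.q x f = 0 from hfp 0), QuadraticMap.map_smul, sing D hx,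
      pol D a f, haf] at hy
    simp only [smul_zero, zero_mul, add_zero, zero_smul, sub_zero, OneMemClass.coe_one,
      one_smul] at hy
    have hli : LinearIndependent F₀ ![f, x] := by
      refine LinearIndependent.pair_iff.2 fun s t hst => ?_
      have h2 := congrArg (polar D.q a) hst
      rw [polar_add_right, polar_smul_right, polar_smul_right, haf,
        show polar D.q a x = 0 from hxp 0, polar_zero_right] at h2
      have hs : s = 0 := by simpa using h2
      rw [hs, zero_smul, zero_add] at hst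
      exact ⟨hs, (smul_eq_zero.1 hst).resolve_right fun h => hxs (h ▸ Submodule.zero_mem _)⟩
    apply hl
    by_cases hc : c = 0
    · rw [hc, zero_smul] at hy
      exact (coeff2 D hli (z := 0) (a := (1 : F)) (b := l) (by rw [one_smul, map_zero]; exact hy)).2
    · have h3 := congrArg (c⁻¹ • ·) hy
      simp only [smul_add, smul_smul, inv_mul_cancel₀ hc, one_smul] at h3
      obtain ⟨e1, e2⟩ := coeff2 D hli h3
      rw [show l = (c⁻¹ * l) / c⁻¹ by field_simp]
      exact F₀.div_mem e2 e1
  · by_cases hall : ∀ g ∈ M, g ∈ Cfsg.Geo.subfieldSubgroup F₀ P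
    · exact Or.inl (le_antisymm (le_inf hall hMK) hHM)
    push Not at hall
    obtain ⟨g, hgM, hg⟩ := hall
    obtain ⟨k, -, rfl⟩ := OmegaGeo.exists_of_mem_omegaGL (hMK hgM)
    refine Or.inr (le_antisymm hMK fun g' hg' => ?_)
    obtain ⟨k', hk', rfl⟩ := OmegaGeo.exists_of_mem_omegaGL hg'
    let M' : Subgroup (orth q) := M.comap
      ((Cfsg.isometryGroup F ⇑q).subtype.comp (OrthUnitaryPrelude.iso q).symm.toMonoidHom)
    have hle : commutator (orth q) ≤ M' := by
      refine OrthSubfieldFull44.commutator_le D (M := M') ?_ hnd hnF hn0 hr hcard (k := k) hgM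
        (fun h => hg ((hmem k).2 h))
      intro x y hx hxy
      refine ⟨sing D hx, orth' D hxy, hHM ⟨(hmem _).2 fun u => ?_, OmegaGeo.toGL_mem (hcomm _ _ _ _)⟩⟩
      refine ⟨1, u + polar D.q x u • y - (polar D.q y u + D.q y * polar D.q x u) • x, ?_⟩
      rw [siegel_apply, one_smul, pol D, pol D, D.hQ, map_sub, map_add, D.smul, D.smul,
        Subfield.coe_add, Subfield.coe_mul]
    exact hle hk'

theorem omegaGL_congr {Q Q' : (ι → F) → F}
    (h : Cfsg.isometryGroup F Q = Cfsg.isometryGroup F Q') :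
    Cfsg.Geo.omegaGL Q = Cfsg.Geo.omegaGL Q' := by
  have key : ∀ I J : Subgroup (GL ι F), I = J →
      (commutator I).map I.subtype = (commutator J).map J.subtype := by rintro I J rfl; rfl
  exact key _ _ h

theorem omegaGL_smul {ζ : F} (hζ : ζ ≠ 0) (Q : (ι → F) → F) :
    Cfsg.Geo.omegaGL (fun v => ζ * Q v) = Cfsg.Geo.omegaGL Q := by
  refine omegaGL_congr (SetLike.ext fun g => ?_)
  exact ⟨fun h u v => mul_left_cancel₀ hζ (h u v), fun h u v => congrArg (ζ * ·) (h u v)⟩

end Cfsg.Agent.OrthSubfieldMax44
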