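import Mathlib
import Cfsg.Agent.Lib.OrthSubfieldCore44

/-!
A linear map carrying singular rational lines to rational lines preserves all rational lines; small-dimension lemmas.
-/

set_option autoImplicit false

namespace Cfsg.Agent.RatLines22

open QuadraticMap Module
open Cfsg.Agent.OrthSubfieldCore44 (exists_sing_avoid exists_partner_perp exists_three exists_three_of pair_radical)

section Quad

variable {F V₀ : Type*} [Field F] {F₀ : Subfield F} [Finite F₀] [AddCommGroup V₀] [Module F₀ V₀]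
  [FiniteDimensional F₀ V₀]
  (q : QuadraticForm F₀ V₀) (hq : (polarBilin q).Nondegenerate)

include hq in
/-- A totally singular subspace and its perp. -/
theorem ts_perp {Z : Submodule F₀ V₀} (hZ : ∀ z ∈ Z, q z = 0) :
    ∃ K : Submodule F₀ V₀, (∀ c, (∀ z ∈ Z, polar q c z = 0) → c ∈ K) ∧ Z ≤ K ∧
      finrank F₀ K + finrank F₀ Z = finrank F₀ V₀ := by
  let φ : V₀ →ₗ[F₀] Module.Dual F₀ Z :=
    Z.subtype.dualMap ∘ₗ (LinearMap.BilinForm.toDual (polarBilin q) hq).toLinearMap
  have hφ : Function.Surjective φ :=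
    (LinearMap.dualMap_surjective_of_injective Z.injective_subtype).comp
      (LinearMap.BilinForm.toDual (polarBilin q) hq).surjective
  have hker : ∀ c, (∀ z ∈ Z, polar q c z = 0) → c ∈ LinearMap.ker φ := fun c hc => by
    rw [LinearMap.mem_ker]
    ext z
    simpa [φ, LinearMap.BilinForm.toDual_def] using hc z z.2
  refine ⟨LinearMap.ker φ, hker, fun c hc => hker c fun z hz => ?_, ?_⟩
  · have h1 := hZ _ (Z.add_mem hc hz)
    rw [QuadraticMap.map_add (⇑q), hZ c hc, hZ z hz] at h1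
    simpa using h1
  · have h := LinearMap.finrank_range_add_finrank_ker φ
    rw [LinearMap.range_eq_top.2 hφ, finrank_top, Subspace.dual_finrank_eq] at h
    omega

include hq in
/-- A totally singular subspace has dimension at most half. -/
theorem ts_small {Z : Submodule F₀ V₀} (hZ : ∀ z ∈ Z, q z = 0) :
    2 * finrank F₀ Z ≤ finrank F₀ V₀ := by
  obtain ⟨K, -, hle, hdim⟩ := ts_perp q hq hZ
  have := Submodule.finrank_mono hle
  omega

include hq in
/-- A large totally singular subspace contains what is orthogonal to it. -/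
theorem ts_mem (hn : 6 ≤ finrank F₀ V₀) {Z : Submodule F₀ V₀} (hZ : ∀ z ∈ Z, q z = 0)
    (hd : finrank F₀ V₀ ≤ finrank F₀ Z + 3) {c : V₀} (hc : ∀ z ∈ Z, polar q c z = 0) : c ∈ Z := by
  obtain ⟨K, hK, hle, hdim⟩ := ts_perp q hq hZ
  rw [Submodule.eq_of_le_of_finrank_le hle (by omega)]
  exact hK c hc

/-- A singular vector orthogonal to a non-degenerate span and outside it. -/
theorem exists_sing_avoid_nd {k : ℕ} (s : Fin k → V₀)
    (hR : ∀ c : Fin k → F₀, (∀ j, polar q (s j) (∑ i, c i • s i) = 0) → ∑ i, c i • s i = 0)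
    (h : k + 3 ≤ finrank F₀ V₀) :
    ∃ y, q y = 0 ∧ (∀ i, polar q (s i) y = 0) ∧ y ∉ Submodule.span F₀ (Set.range s) := by
  let L : V₀ →ₗ[F₀] (Fin k → F₀) := LinearMap.pi fun i => polarBilin q (s i)
  have h1 := LinearMap.finrank_range_add_finrank_ker L
  have h2 : finrank F₀ (LinearMap.range L) ≤ k :=
    (Submodule.finrank_le _).trans_eq (by simp)
  obtain ⟨y, hy, hy0, hQy⟩ := QuadClassify.exists_singular q (LinearMap.ker L) (by omega)
  have hp : ∀ i, polar q (s i) y = 0 := fun i => congrFun (LinearMap.mem_ker.1 hy) i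
  refine ⟨y, hQy, hp, fun hmem => hy0 ?_⟩
  obtain ⟨c, rfl⟩ := (Submodule.mem_span_range_iff_exists_fun F₀).1 hmem
  exact hR c hp

/-- A singular vector orthogonal to two singular ones and on neither line. -/
theorem pick_two (hn : 6 ≤ finrank F₀ V₀) {a b : V₀} (ha : q a = 0) (ha0 : a ≠ 0) (hb : q b = 0)
    (hb0 : b ≠ 0) : ∃ e, q e = 0 ∧ polar q a e = 0 ∧ polar q b e = 0 ∧
      e ∉ Submodule.span F₀ {a} ∧ e ∉ Submodule.span F₀ {b} := by
  have paa : polar q a a = 0 := by rw [polar_self, ha, smul_zero]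
  have pbb : polar q b b = 0 := by rw [polar_self, hb, smul_zero]
  by_cases hba : b ∈ Submodule.span F₀ {a}
  · obtain ⟨t, rfl⟩ := Submodule.mem_span_singleton.1 hba
    obtain ⟨e, he, hep, hes⟩ := exists_sing_avoid q ![a] (by omega)
    have hes' : e ∉ Submodule.span F₀ {a} := fun h => hes (Submodule.span_mono (by simp) h)
    refine ⟨e, he, hep 0, by rw [polar_smul_left, show polar q a e = 0 from hep 0, smul_zero], hes', fun h => hes' ?_⟩
    obtain ⟨r, rfl⟩ := Submodule.mem_span_singleton.1 h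
    exact Submodule.smul_mem _ _ (Submodule.smul_mem _ _ (Submodule.mem_span_singleton_self a))
  by_cases hab : polar q a b = 0
  · refine ⟨a + b, by rw [QuadraticMap.map_add (⇑q), ha, hb, hab]; simp,
      by rw [polar_add_right, paa, hab, add_zero],
      by rw [polar_add_right, pbb, polar_comm, hab, add_zero], fun h => hba ?_, fun h => ?_⟩
    · simpa using Submodule.sub_mem _ h (Submodule.mem_span_singleton_self a)
    · have h1 : a ∈ Submodule.span F₀ {b} := by
        simpa using Submodule.sub_mem _ h (Submodule.mem_span_singleton_self b)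
      obtain ⟨r, rfl⟩ := Submodule.mem_span_singleton.1 h1
      have hr : r ≠ 0 := fun h => ha0 (by rw [h, zero_smul])
      exact hba (Submodule.mem_span_singleton.2 ⟨r⁻¹, by rw [smul_smul, inv_mul_cancel₀ hr, one_smul]⟩)
  · have hR : ∀ c : Fin 2 → F₀, (∀ j, polar q (![a, b] j) (∑ i, c i • ![a, b] i) = 0) →
        ∑ i, c i • ![a, b] i = 0 := by
      intro c hc
      rw [Fin.sum_univ_two] at hc ⊢
      have e0 : c 1 * polar q a b = 0 := by
        simpa [polar_add_right, polar_smul_right, paa] using hc 0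
      have e1 : c 0 * polar q a b = 0 := by
        simpa [polar_add_right, polar_smul_right, pbb, polar_comm q b a] using hc 1
      simp [(mul_eq_zero.1 e0).resolve_right hab, (mul_eq_zero.1 e1).resolve_right hab]
    obtain ⟨e, he, hep, hes⟩ := exists_sing_avoid_nd q ![a, b] hR (by omega)
    exact ⟨e, he, hep 0, hep 1, fun h => hes (Submodule.span_mono (by simp) h),
      fun h => hes (Submodule.span_mono (by simp) h)⟩

include hq in
/-- A vector orthogonal to a hyperbolic pair is a sum of three singular ones orthogonal to it. -/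
theorem three_pair (hn : 6 ≤ finrank F₀ V₀) (h2 : (2 : F₀) ≠ 0) {a r : V₀} (ha : q a = 0)
    (hr : q r = 0) (har : polar q a r ≠ 0) {v : V₀} (hv : ∀ i, polar q (![a, r] i) v = 0) :
    ∃ x y z, v = x + y + z ∧ (q x = 0 ∧ ∀ i, polar q (![a, r] i) x = 0) ∧
      (q y = 0 ∧ ∀ i, polar q (![a, r] i) y = 0) ∧ (q z = 0 ∧ ∀ i, polar q (![a, r] i) z = 0) := by
  by_cases hqv : q v = 0
  · exact ⟨v, 0, 0, by simp, ⟨hqv, hv⟩, ⟨by simp, fun i => by simp⟩, ⟨by simp, fun i => by simp⟩⟩
  refine exists_three_of q hq ![a, r] hv (exists_sing_avoid_nd q _ (fun c hc => ?_) (by omega))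
  have e : ∑ i, c i • (Fin.cons (α := fun _ => V₀) v ![a, r]) i = c 0 • v + c 1 • a + c 2 • r := by
    simp [Fin.sum_univ_three]
  have hva : polar q a v = 0 := hv 0
  have hvr : polar q r v = 0 := hv 1
  rw [e] at hc ⊢
  obtain ⟨t, ht⟩ := Submodule.mem_span_singleton.1 (pair_radical q ha hr har hva hvr _ _ _ (hc 1) (hc 2))
  have h0 : polar q v (t • v) = 0 := by rw [ht]; exact hc 0
  rw [polar_smul_right, polar_self, smul_eq_mul, nsmul_eq_mul, Nat.cast_ofNat] at h0
  rw [← ht, (mul_eq_zero.1 h0).resolve_right (mul_ne_zero h2 hqv), zero_smul]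

end Quad

variable {F V : Type*} [Field F] [AddCommGroup V] [Module F V] {F₀ : Subfield F} {V₀ : Type*}
  [AddCommGroup V₀] [Module F₀ V₀] (R : V₀ →+ V)
  (hcf : ∀ {k : ℕ} (v : Fin k → V₀), LinearIndependent F₀ v → ∀ (c : Fin k → F) (z : V₀),
    ∑ i, c i • R (v i) = R z → ∀ i, c i ∈ F₀)

include hcf

theorem lin2 {x y : V₀} (h : LinearIndependent F₀ ![x, y]) {a b : F} {z : V₀}
    (he : a • R x + b • R y = R z) : a ∈ F₀ ∧ b ∈ F₀ := by
  have := hcf ![x, y] h ![a, b] z (by simpa [Fin.sum_univ_two] using he)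
  exact ⟨this 0, this 1⟩

theorem lin3 {x y w : V₀} (h : LinearIndependent F₀ ![x, y, w]) {a b c : F} {z : V₀}
    (he : a • R x + b • R y + c • R w = R z) : a ∈ F₀ ∧ b ∈ F₀ ∧ c ∈ F₀ := by
  have := hcf ![x, y, w] h ![a, b, c] z (by simpa [Fin.sum_univ_three] using he)
  exact ⟨this 0, this 1, this 2⟩

omit hcf in
/-- A map sending singular rational vectors to rational lines preserves all of them. -/
theorem spread [Finite F₀] [FiniteDimensional F₀ V₀]
    (hcf : ∀ {k : ℕ} (v : Fin k → V₀), LinearIndependent F₀ v → ∀ (c : Fin k → F) (z : V₀),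
      ∑ i, c i • R (v i) = R z → ∀ i, c i ∈ F₀)
    (hs : ∀ (c : F₀) (x : V₀), R (c • x) = (c : F) • R x) (hR : ∀ x, R x = 0 → x = 0)
    (q : QuadraticForm F₀ V₀) (hq : (polarBilin q).Nondegenerate) (hn : 6 ≤ finrank F₀ V₀)
    (k : V →ₗ[F] V) (hk : Function.Injective k)
    (hpt : ∀ c₀, q c₀ = 0 → ∃ (c : F) (y : V₀), k (R c₀) = c • R y) :
    ∀ x, ∃ (c : F) (y : V₀), k (R x) = c • R y := by
  -- the multipliers agree
  have himg0 : ∀ v, v ≠ 0 → k (R v) ≠ 0 := fun v hv h =>
    hv (hR _ (hk (h.trans (map_zero k).symm)))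
  -- two independent orthogonal singular vectors
  have key : ∀ v e, q v = 0 → q e = 0 → polar q v e = 0 → LinearIndependent F₀ ![v, e] →
      ∀ (μ ν : F) (v' e' : V₀), k (R v) = μ • R v' → k (R e) = ν • R e' →
        ν / μ ∈ F₀ := by
    intro v e hv he hve hli μ ν v' e' hμ hν
    have hμ0 : μ ≠ 0 := fun h => himg0 v (hli.ne_zero 0) (by rw [hμ, h, zero_smul])
    have hν0 : ν ≠ 0 := fun h => himg0 e (hli.ne_zero 1) (by rw [hν, h, zero_smul])
    obtain ⟨κ, w, hκ⟩ := hpt (v + e) (by rw [QuadraticMap.map_add (⇑q), hv, he, hve]; simp)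
    have hκ0 : κ ≠ 0 := by
      refine fun h => himg0 (v + e) (fun h0 => ?_) (by rw [hκ, h, zero_smul])
      exact one_ne_zero (LinearIndependent.pair_iff.1 hli 1 1 (by simpa using h0)).1
    have hli' : LinearIndependent F₀ ![v', e'] := LinearIndependent.pair_iff.2 fun a b hab => by
      have h1 : k (((a : F) / μ) • R v + ((b : F) / ν) • R e) = 0 := by
        rw [map_add, map_smul, map_smul, hμ, hν, smul_smul, smul_smul, div_mul_cancel₀ _ hμ0,
          div_mul_cancel₀ _ hν0, ← hs, ← hs, ← map_add, hab, map_zero]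
      have h2 : ((a : F) / μ) • R v + ((b : F) / ν) • R e = R 0 := by
        rw [map_zero]; exact hk (h1.trans (map_zero k).symm)
      obtain ⟨ha, hb⟩ := lin2 R hcf hli h2
      have h3 := LinearIndependent.pair_iff.1 hli ⟨_, ha⟩ ⟨_, hb⟩ (hR _ (by
        rw [map_add, hs, hs]; simpa using h2))
      have ha0 : (a : F) / μ = 0 := congrArg Subtype.val h3.1
      have hb0 : (b : F) / ν = 0 := congrArg Subtype.val h3.2
      exact ⟨Subtype.ext (by simpa [hμ0] using ha0), Subtype.ext (by simpa [hν0] using hb0)⟩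
    have h4 : (μ / κ) • R v' + (ν / κ) • R e' = R w := by
      rw [map_add, map_add, hμ, hν] at hκ
      have := congrArg (κ⁻¹ • ·) hκ
      simp only [smul_add, smul_smul, inv_mul_cancel₀ hκ0, one_smul] at this
      rw [← this]; simp only [div_eq_inv_mul]
    obtain ⟨h5, h6⟩ := lin2 R hcf hli' h4
    rw [show ν / μ = (ν / κ) / (μ / κ) by field_simp]
    exact F₀.div_mem h6 h5
  obtain ⟨a₀, ha₀, -, ha₀s⟩ := exists_sing_avoid q (fun i : Fin 0 => i.elim0) (by omega)
  have ha₀' : a₀ ≠ 0 := fun h => ha₀s (h ▸ Submodule.zero_mem _)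
  obtain ⟨l, a', hl⟩ := hpt a₀ ha₀
  have hl0 : l ≠ 0 := fun h => himg0 a₀ ha₀' (by rw [hl, h, zero_smul])
  have hall : ∀ b, q b = 0 → ∃ b', k (R b) = l • R b' := by
    intro b hb
    by_cases hb0 : b = 0
    · exact ⟨0, by simp [hb0]⟩
    obtain ⟨e, he, hea, heb, hesa, hesb⟩ := pick_two q hn ha₀ ha₀' hb hb0
    obtain ⟨μ, b', hμ⟩ := hpt b hb
    obtain ⟨ν, e', hν⟩ := hpt e he
    have h1 : ν / l ∈ F₀ := key a₀ e ha₀ he hea ((LinearIndependent.pair_iff' ha₀').2
      fun a h => hesa (h ▸ Submodule.smul_mem _ a (Submodule.mem_span_singleton_self _))) l ν a' e' hl hν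
    have h2 : ν / μ ∈ F₀ := key b e hb he heb ((LinearIndependent.pair_iff' hb0).2
      fun a h => hesb (h ▸ Submodule.smul_mem _ a (Submodule.mem_span_singleton_self _))) μ ν b' e' hμ hν
    have he0 : ν ≠ 0 := fun h => himg0 e (fun h0 => hesa (h0 ▸ Submodule.zero_mem _))
      (by rw [hν, h, zero_smul])
    have hμ0 : μ ≠ 0 := fun h => himg0 b hb0 (by rw [hμ, h, zero_smul])
    have h3 : μ / l ∈ F₀ := by
      rw [show μ / l = (ν / l) / (ν / μ) by field_simp]; exact F₀.div_mem h1 h2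
    refine ⟨(⟨_, h3⟩ : F₀) • b', ?_⟩
    rw [hs, smul_smul, hμ, mul_div_cancel₀ _ hl0]
  intro x
  obtain ⟨b₁, b₂, b₃, rfl, h1, h2, h3⟩ := exists_three q hq (fun i : Fin 0 => i.elim0) (v := x)
    (by omega) (fun i => i.elim0)
  obtain ⟨y₁, e₁⟩ := hall b₁ h1.1
  obtain ⟨y₂, e₂⟩ := hall b₂ h2.1
  obtain ⟨y₃, e₃⟩ := hall b₃ h3.1
  exact ⟨l, y₁ + y₂ + y₃, by simp only [map_add, e₁, e₂, e₃, smul_add]⟩

end Cfsg.Agent.RatLines22
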