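/-
Generation of the special unitary group by transvections, for an abstract unitary form over a finite field:
transitivity inside non-degenerate subspaces and the reduction by hyperbolic pairs.
-/
import Mathlib
import Cfsg.Prelude.Def_LieClassical
import Cfsg.Agent.Lib.TransvectionUnitary

set_option autoImplicit false
set_option linter.unusedSectionVars false

namespace Cfsg.Agent.TransvectionUnitaryGen

open Cfsg.Agent.TransvectionMax Cfsg.Agent.TransvectionUnitary
open scoped MatrixGroups Matrix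

variable {ι : Type} [Fintype ι] [DecidableEq ι] {F : Type*} [Field F] [Fintype F]
  {σ : F ≃+* F} {f : (ι → F) → (ι → F) → F}

/-- g is an isometry of f. -/
def Iso (f : (ι → F) → (ι → F) → F) (g : GL ι F) : Prop :=
  ∀ x y, f ((g : Matrix ι ι F) *ᵥ x) ((g : Matrix ι ι F) *ᵥ y) = f x y

/-- The subgroup generated by the unitary transvections with centre in U. -/
noncomputable def transGroup (σ : F ≃+* F) (f : (ι → F) → (ι → F) → F) (U : Submodule F (ι → F)) :
    Subgroup (GL ι F) :=
  Subgroup.closure {g | ∃ b ∈ U, ∃ c : F, f b b = 0 ∧ σ c = -c ∧ g = ft f b (σ c • b)}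

variable (hf : Cfsg.Geo.IsUnitaryForm σ f)
include hf

lemma transGroup_le {U : Submodule F (ι → F)} {M : Subgroup (GL ι F)}
    (hM : ∀ b ∈ U, ∀ c, f b b = 0 → σ c = -c → ft f b (σ c • b) ∈ M) : transGroup σ f U ≤ M :=
  (Subgroup.closure_le M).mpr fun g hg => by
    obtain ⟨b, hb, c, hbb, hc, rfl⟩ := hg
    exact hM b hb c hbb hc

lemma ut_mem {U : Submodule F (ι → F)} {b : ι → F} (hb : b ∈ U) (hbb : f b b = 0) {c : F} (hc : σ c = -c) :
    ft f b (σ c • b) ∈ transGroup σ f U :=
  Subgroup.subset_closure ⟨b, hb, c, hbb, hc, rfl⟩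

lemma transGroup_props {U : Submodule F (ι → F)} {h : GL ι F} (hh : h ∈ transGroup σ f U) :
    Iso f h ∧ h ∈ Cfsg.Geo.specialLinear ι F ∧ (∀ x, (h : Matrix ι ι F) *ᵥ x - x ∈ U) ∧
      (∀ x ∈ perp hf U, (h : Matrix ι ι F) *ᵥ x = x) := by
  induction hh using Subgroup.closure_induction with
  | mem g hg =>
    obtain ⟨b, hb, c, hbb, hc, rfl⟩ := hg
    refine ⟨ut_preserves hf hbb hc, ft_mem_sl f b _, fun x => ?_, fun x hx => ?_⟩
    · rw [ut_act hf hbb, add_sub_cancel_left]
      exact U.smul_mem _ hb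
    · rw [ut_act hf hbb, hx b hb, mul_zero, zero_smul, add_zero]
  | one =>
    exact ⟨fun x y => by simp, Subgroup.one_mem _, fun x => by simp, fun x _ => by simp⟩
  | mul a b _ _ ha hb =>
    refine ⟨fun x y => by rw [mul_act, mul_act, ha.1, hb.1], Subgroup.mul_mem _ ha.2.1 hb.2.1,
      fun x => ?_, fun x hx => by rw [mul_act, hb.2.2.2 x hx, ha.2.2.2 x hx]⟩
    rw [mul_act, ← sub_add_sub_cancel _ ((b : Matrix ι ι F) *ᵥ x) x]
    exact U.add_mem (ha.2.2.1 _) (hb.2.2.1 x)
  | inv a _ ha =>
    refine ⟨fun x y => by rw [← ha.1, act_inv_act, act_inv_act], Subgroup.inv_mem _ ha.2.1,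
      fun x => ?_, fun x hx => ?_⟩
    · have := U.neg_mem (ha.2.2.1 (((a⁻¹ : GL ι F) : Matrix ι ι F) *ᵥ x))
      rwa [act_inv_act, neg_sub] at this
    · conv_lhs => rw [← ha.2.2.2 x hx]
      rw [inv_act_act]

/-- A single transvection carries v to w when f(v,w) is non-zero of trace zero. -/
lemma tmove {U : Submodule F (ι → F)} {v w : ι → F} (hv : v ∈ U) (hw : w ∈ U) (hvv : f v v = 0)
    (hww : f w w = 0) (h0 : f v w ≠ 0) (htz : σ (f v w) = - f v w) :
    ∃ h ∈ transGroup σ f U, (h : Matrix ι ι F) *ᵥ v = w ∧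
      ∀ x, f x v = f x w → (h : Matrix ι ι F) *ᵥ x = x := by
  have hbb : f (w - v) (w - v) = 0 := by
    rw [sub_left hf, sub_right hf, sub_right hf, hvv, hww, ← sigma_f hf v w, htz]
    ring
  have hc : σ (f v w)⁻¹ = -(f v w)⁻¹ := by rw [map_inv₀, htz, inv_neg]
  refine ⟨_, ut_mem hf (U.sub_mem hw hv) hbb hc, ?_, fun x hx => ?_⟩
  · rw [ut_act hf hbb, sub_right hf, hvv, sub_zero, inv_mul_cancel₀ h0, one_smul, add_sub_cancel]
  · rw [ut_act hf hbb, sub_right hf, hx, sub_self, mul_zero, zero_smul, add_zero]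

/-- A non-degenerate subspace and its perp decompose the space. -/
lemma exists_split {U : Submodule F (ι → F)} (hU : Cfsg.Geo.IsNondegenerateOn f U) (y : ι → F) :
    ∃ p ∈ U, y - p ∈ perp hf U := by
  have hbot : U ⊓ perp hf U = ⊥ := eq_bot_iff.mpr fun x ⟨hx, hx'⟩ => by
    rw [Submodule.mem_bot]
    by_contra h0
    obtain ⟨w, hw, hxw⟩ := (hU x hx h0).2
    exact hxw (hx' w hw)
  have htop : U ⊔ perp hf U = ⊤ := by
    apply Submodule.eq_top_of_finrank_eq
    have h1 := Submodule.finrank_sup_add_finrank_inf_eq U (perp hf U)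
    have h2 := Submodule.finrank_le (U ⊔ perp hf U)
    have h3 := finrank_perp hf U
    rw [hbot, finrank_bot] at h1
    rw [Module.finrank_fintype_fun_eq_card] at h2 ⊢
    omega
  obtain ⟨p, hp, r, hr, hpr⟩ := Submodule.mem_sup.mp (htop.symm ▸ Submodule.mem_top : y ∈ U ⊔ perp hf U)
  exact ⟨p, hp, by rwa [← hpr, add_sub_cancel_left]⟩

lemma finrank_inf_perp (U W : Submodule F (ι → F)) :
    Module.finrank F U ≤ Module.finrank F (U ⊓ perp hf W : Submodule F (ι → F)) + Module.finrank F W := by
  have h1 := Submodule.finrank_sup_add_finrank_inf_eq U (perp hf W)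
  have h2 := Submodule.finrank_le (U ⊔ perp hf W)
  have h3 := finrank_perp hf W
  rw [Module.finrank_fintype_fun_eq_card] at h2
  omega

/-- The perp, inside U, of a non-orthogonal isotropic pair is non-degenerate. -/
lemma inf_perp_pair_nondeg {U : Submodule F (ι → F)} (hU : Cfsg.Geo.IsNondegenerateOn f U) {v w : ι → F}
    (hv : v ∈ U) (hw : w ∈ U) (hvv : f v v = 0) (hww : f w w = 0) (hvw : f v w ≠ 0) :
    Cfsg.Geo.IsNondegenerateOn f (U ⊓ perp hf (Submodule.span F {v, w})) := by
  rintro x ⟨hxU, hx⟩ hx0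
  obtain ⟨hxv, hxw⟩ := (mem_perp_pair hf).mp hx
  obtain ⟨⟨y, hy, hyx⟩, -⟩ := hU x hxU hx0
  have hwv : f w v ≠ 0 := skew_ne hf hvw
  set y' := y - (f y w / f v w) • v - (f y v / f w v) • w with hy'
  have hm : y' ∈ U ⊓ perp hf (Submodule.span F {v, w}) := by
    refine ⟨U.sub_mem (U.sub_mem hy (U.smul_mem _ hv)) (U.smul_mem _ hw), (mem_perp_pair hf).mpr ⟨?_, ?_⟩⟩
    · rw [hy', sub_left hf, sub_left hf, hf.smul_left, hf.smul_left, hvv, div_mul_cancel₀ _ hwv]
      ring
    · rw [hy', sub_left hf, sub_left hf, hf.smul_left, hf.smul_left, hww, div_mul_cancel₀ _ hvw]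
      ring
  have h1 : f y' x ≠ 0 := by
    rw [hy', sub_left hf, sub_left hf, hf.smul_left, hf.smul_left, skew_zero hf hxv, skew_zero hf hxw]
    simpa using hyx
  exact ⟨⟨y', hm, h1⟩, ⟨y', hm, skew_ne hf h1⟩⟩

/-- A non-zero non-degenerate subspace represents every element of the fixed field. -/
lemma exists_norm_val {U : Submodule F (ι → F)} (hU : Cfsg.Geo.IsNondegenerateOn f U) (hU0 : U ≠ ⊥)
    {s : F} (hs : σ s = s) : ∃ x ∈ U, f x x = s := by
  obtain ⟨x, hx, hx0⟩ : ∃ x ∈ U, f x x ≠ 0 := by
    by_contra! hall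
    obtain ⟨x, hx, hx0⟩ := Submodule.exists_mem_ne_zero_of_ne_bot hU0
    obtain ⟨⟨y, hy, hyx⟩, -⟩ := hU x hx hx0
    obtain ⟨μ, hμ⟩ := exists_trace_eq hf (a := (1 : F)) (map_one σ)
    have h := hall ((μ / f y x) • y + x) (U.add_mem (U.smul_mem _ hy) hx)
    have h1 : σ (μ / f y x) * f x y = σ μ := by
      rw [map_div₀, sigma_f hf, div_mul_cancel₀ _ (skew_ne hf hyx)]
    rw [hf.add_left, add_right hf, add_right hf, hf.smul_left, hf.smul_left, smul_right hf, smul_right hf,
      hall y hy, hall x hx, div_mul_cancel₀ _ hyx, h1, mul_zero, mul_zero, zero_add, add_zero, hμ] at h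
    exact one_ne_zero h
  obtain ⟨z, hz⟩ := exists_norm_eq hf (a := s / f x x) (by rw [map_div₀, hs, sigma_f hf])
  refine ⟨z • x, U.smul_mem _ hx, ?_⟩
  rw [hf.smul_left, smul_right hf, ← mul_assoc, hz, div_mul_cancel₀ _ hx0]

/-- The isotropic partner of an isotropic vector inside a non-degenerate subspace. -/
lemma exists_partner {U : Submodule F (ι → F)} (hU : Cfsg.Geo.IsNondegenerateOn f U) {e : ι → F}
    (he : e ∈ U) (he0 : e ≠ 0) (hee : f e e = 0) : ∃ r ∈ U, f r r = 0 ∧ f e r = 1 := by
  obtain ⟨-, ⟨y, hy, hey⟩⟩ := hU e he he0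
  obtain ⟨r0, hr0U, her⟩ : ∃ r0 ∈ U, f e r0 = 1 :=
    ⟨σ (f e y)⁻¹ • y, U.smul_mem _ hy, by rw [smul_right hf, sigma_sigma hf, inv_mul_cancel₀ hey]⟩
  have hre : f r0 e = 1 := by rw [hf.herm, her, map_one]
  obtain ⟨μ, hμ⟩ := exists_trace_eq hf (a := -(f r0 r0)) (by rw [map_neg, sigma_f hf])
  refine ⟨r0 + μ • e, U.add_mem hr0U (U.smul_mem _ he), ?_, ?_⟩
  · rw [hf.add_left, add_right hf, add_right hf (μ • e), hf.smul_left, hf.smul_left, smul_right hf μ,
      smul_right hf μ, her, hre, hee]
    linear_combination hμ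
  · rw [add_right hf, her, smul_right hf μ, hee, mul_zero, add_zero]

/-- An isotropic vector with prescribed equal products with two independent isotropic vectors. -/
lemma exists_common_iso {U : Submodule F (ι → F)} (hU : Cfsg.Geo.IsNondegenerateOn f U)
    (hdim : 4 ≤ Module.finrank F U) {v w : ι → F} (hv : v ∈ U) (hw : w ∈ U) (hvv : f v v = 0)
    (hww : f w w = 0) (hv0 : v ≠ 0) (hind : w ∉ Submodule.span F {v}) {α : F} (hα : α ≠ 0) :
    ∃ z ∈ U, f z z = 0 ∧ f z v = α ∧ f z w = α := by
  by_cases hvw : f v w = 0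
  · have hv' : v ∉ Submodule.span F {w} := fun h => by
      obtain ⟨c, hc⟩ := Submodule.mem_span_singleton.mp h
      rcases eq_or_ne c 0 with rfl | hc0
      · exact hv0 (by simpa using hc.symm)
      · exact hind (Submodule.mem_span_singleton.mpr
          ⟨c⁻¹, by rw [← hc, smul_smul, inv_mul_cancel₀ hc0, one_smul]⟩)
    obtain ⟨y1, hy1, h1⟩ := exists_perp_val hf hind α
    obtain ⟨y2, hy2, h2⟩ := exists_perp_val hf hv' α
    rw [mem_perp_singleton hf] at hy1 hy2
    obtain ⟨p, hp, hyp⟩ := exists_split hf hU (y1 + y2)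
    have hpv : f p v = α := by
      have := hyp v hv
      rw [sub_left hf, hf.add_left, hy1, h2, zero_add, sub_eq_zero] at this
      exact this.symm
    have hpw : f p w = α := by
      have := hyp w hw
      rw [sub_left hf, hf.add_left, hy2, h1, add_zero, sub_eq_zero] at this
      exact this.symm
    obtain ⟨μ, hμ⟩ := exists_trace_eq hf (a := -(f p p)) (by rw [map_neg, sigma_f hf])
    refine ⟨p + (μ / σ α) • v, U.add_mem hp (U.smul_mem _ hv), ?_,
      by rw [hf.add_left, hf.smul_left, hvv, mul_zero, add_zero, hpv],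
      by rw [hf.add_left, hf.smul_left, hvw, mul_zero, add_zero, hpw]⟩
    have hvp : f v p = σ α := by rw [hf.herm, hpv]
    have hσα : σ α ≠ 0 := (map_ne_zero σ).mpr hα
    rw [hf.add_left, add_right hf, add_right hf, hf.smul_left, hf.smul_left, smul_right hf, smul_right hf,
      hpv, hvp, hvv, map_div₀, sigma_sigma hf, div_mul_cancel₀ _ hσα, div_mul_cancel₀ _ hα]
    linear_combination hμ
  · have hwv : f w v ≠ 0 := skew_ne hf hvw
    set z0 := (α / f v w) • v + (α / f w v) • w
    set U1 := U ⊓ perp hf (Submodule.span F {v, w})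
    have hU1 : U1 ≠ ⊥ := by
      intro h
      have h1 : Module.finrank F U ≤ Module.finrank F U1 + Module.finrank F (Submodule.span F {v, w}) :=
        finrank_inf_perp hf U _
      have h2 : Module.finrank F (Submodule.span F {v, w}) ≤ 2 := by
        classical
        have := finrank_span_finset_le_card (R := F) ({v, w} : Finset (ι → F))
        rw [Finset.coe_insert, Finset.coe_singleton] at this
        exact this.trans Finset.card_le_two
      rw [h, finrank_bot] at h1
      omega
    obtain ⟨x, ⟨hxU, hx⟩, hxx⟩ := exists_norm_val hf (inf_perp_pair_nondeg hf hU hv hw hvv hww hvw) hU1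
      (s := -(f z0 z0)) (by rw [map_neg, sigma_f hf])
    obtain ⟨hxv, hxw⟩ := (mem_perp_pair hf).mp hx
    have hz0x : f z0 x = 0 := by
      rw [hf.add_left, hf.smul_left, hf.smul_left, skew_zero hf hxv, skew_zero hf hxw]
      simp
    refine ⟨z0 + x, U.add_mem (U.add_mem (U.smul_mem _ hv) (U.smul_mem _ hw)) hxU, ?_, ?_, ?_⟩
    · rw [hf.add_left, add_right hf z0, add_right hf x, hz0x, skew_zero hf hz0x, hxx]
      ring
    · rw [hf.add_left, hf.add_left, hf.smul_left, hf.smul_left, hvv, hxv, div_mul_cancel₀ _ hwv]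
      ring
    · rw [hf.add_left, hf.add_left, hf.smul_left, hf.smul_left, hww, hxw, div_mul_cancel₀ _ hvw]
      ring

/-- Transitivity on non-zero isotropic vectors of a non-degenerate subspace of dimension at least four. -/
lemma move_iso {U : Submodule F (ι → F)} (hU : Cfsg.Geo.IsNondegenerateOn f U)
    (hdim : 4 ≤ Module.finrank F U) {v w : ι → F} (hv : v ∈ U) (hw : w ∈ U) (hvv : f v v = 0)
    (hww : f w w = 0) (hv0 : v ≠ 0) (hw0 : w ≠ 0) :
    ∃ h ∈ transGroup σ f U, (h : Matrix ι ι F) *ᵥ v = w := by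
  obtain ⟨c0, hc0, hc0'⟩ := exists_tz hf
  have indep : ∀ {v w : ι → F}, v ∈ U → w ∈ U → f v v = 0 → f w w = 0 → v ≠ 0 →
      w ∉ Submodule.span F {v} → ∃ h ∈ transGroup σ f U, (h : Matrix ι ι F) *ᵥ v = w := by
    intro v w hv hw hvv hww hv0 hind
    obtain ⟨z, hz, hzz, hzv, hzw⟩ := exists_common_iso hf hU hdim hv hw hvv hww hv0 hind hc0
    have hvz : f v z = -c0 := by rw [hf.herm, hzv, hc0']
    obtain ⟨h1, hh1, h1v, -⟩ := tmove hf hv hz hvv hzz (by rw [hvz]; exact neg_ne_zero.mpr hc0)
      (by rw [hvz, map_neg, hc0'])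
    obtain ⟨h2, hh2, h2z, -⟩ := tmove hf hz hw hzz hww (by rw [hzw]; exact hc0) (by rw [hzw, hc0'])
    exact ⟨h2 * h1, Subgroup.mul_mem _ hh2 hh1, by rw [mul_act, h1v, h2z]⟩
  by_cases hind : w ∈ Submodule.span F {v}
  · obtain ⟨r, hr, hrr, hvr⟩ := exists_partner hf hU hv hv0 hvv
    have h1 : r ∉ Submodule.span F {v} := fun h => by
      obtain ⟨c, rfl⟩ := Submodule.mem_span_singleton.mp h
      rw [smul_right hf, hvv, mul_zero] at hvr
      exact zero_ne_one hvr
    obtain ⟨k1, hk1, e1⟩ := indep hv hr hvv hrr hv0 h1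
    have h2 : w ∉ Submodule.span F {r} := fun h => by
      obtain ⟨c, hc⟩ := Submodule.mem_span_singleton.mp hind
      obtain ⟨d, hd⟩ := Submodule.mem_span_singleton.mp h
      have h3 := congrArg (f v) hd
      rw [smul_right hf, hvr, mul_one, ← hc, smul_right hf, hvv, mul_zero,
        map_eq_zero] at h3
      exact hw0 (by rw [← hd, h3, zero_smul])
    have hr0 : r ≠ 0 := fun h => h1 (h ▸ Submodule.zero_mem _)
    obtain ⟨k2, hk2, e2⟩ := indep hr hw hrr hww hr0 h2
    exact ⟨k2 * k1, Subgroup.mul_mem _ hk2 hk1, by rw [mul_act, e1, e2]⟩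
  · exact indep hv hw hvv hww hv0 hind

/-- Transitivity on the partners of an isotropic vector. -/
lemma move_partner {U : Submodule F (ι → F)} (hU : Cfsg.Geo.IsNondegenerateOn f U)
    (hdim : 4 ≤ Module.finrank F U) {e r r' : ι → F} (he : e ∈ U) (hr : r ∈ U) (hr' : r' ∈ U)
    (hee : f e e = 0) (hrr : f r r = 0) (hrr' : f r' r' = 0) (her : f e r = 1) (her' : f e r' = 1) :
    ∃ h ∈ transGroup σ f U, (h : Matrix ι ι F) *ᵥ e = e ∧ (h : Matrix ι ι F) *ᵥ r' = r := by
  obtain ⟨c0, hc0, hc0'⟩ := exists_tz hf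
  have hre : f r e = 1 := by rw [hf.herm, her, map_one]
  have hr'e : f r' e = 1 := by rw [hf.herm, her', map_one]
  have via : ∀ {z}, z ∈ U → f z z = 0 → f e z = 1 → f z r' ≠ 0 → σ (f z r') = - f z r' →
      f z r ≠ 0 → σ (f z r) = - f z r →
      ∃ h ∈ transGroup σ f U, (h : Matrix ι ι F) *ᵥ e = e ∧ (h : Matrix ι ι F) *ᵥ r' = r := by
    intro z hz hzz hez hne htz hne2 htz2
    have hr'z : f r' z = - f z r' := by rw [hf.herm, htz]
    obtain ⟨h1, hh1, e1, fix1⟩ := tmove hf hr' hz hrr' hzz (by rw [hr'z]; exact neg_ne_zero.mpr hne)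
      (by rw [hr'z, map_neg, htz])
    obtain ⟨h2, hh2, e2, fix2⟩ := tmove hf hz hr hzz hrr hne2 htz2
    exact ⟨h2 * h1, Subgroup.mul_mem _ hh2 hh1,
      by rw [mul_act, fix1 e (her'.trans hez.symm), fix2 e (hez.trans her.symm)],
      by rw [mul_act, e1, e2]⟩
  set a := f r' r
  by_cases ha : σ a = -a
  · by_cases ha0 : a = 0
    · have hrr2 : f r r' = 0 := skew_zero hf ha0
      refine via (z := c0 • e + r) (U.add_mem (U.smul_mem _ he) hr) ?_ ?_ ?_ ?_ ?_ ?_
      · rw [hf.add_left, add_right hf, add_right hf, hf.smul_left, hf.smul_left, smul_right hf,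
          smul_right hf, hee, her, hre, hrr, hc0']
        ring
      · rw [add_right hf, smul_right hf, hee, mul_zero, zero_add, her]
      all_goals rw [hf.add_left, hf.smul_left]
      · rw [her', hrr2, mul_one, add_zero]; exact hc0
      · rw [her', hrr2, mul_one, add_zero, hc0']
      · rw [her, hrr, mul_one, add_zero]; exact hc0
      · rw [her, hrr, mul_one, add_zero, hc0']
    · obtain ⟨h, hh, e1, fix⟩ := tmove hf hr' hr hrr' hrr ha0 ha
      exact ⟨h, hh, fix e (her'.trans her.symm), e1⟩
  · set U' := U ⊓ perp hf (Submodule.span F {e, r})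
    set x' := r' - a • e - r with hx'
    have hx'U' : x' ∈ U' := by
      refine ⟨U.sub_mem (U.sub_mem hr' (U.smul_mem _ he)) hr, (mem_perp_pair hf).mpr ⟨?_, ?_⟩⟩
      · rw [hx', sub_left hf, sub_left hf, hf.smul_left, hee, hr'e, hre]; ring
      · rw [hx', sub_left hf, sub_left hf, hf.smul_left, her, hrr]; ring
    obtain ⟨hx'e, hx'r⟩ := (mem_perp_pair hf).mp hx'U'.2
    have hdecomp : r' = a • e + r + x' := by rw [hx']; abel
    have hs : f x' x' = -(a + σ a) := by
      have h := hrr'
      rw [hdecomp] at h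
      simp only [hf.add_left, add_right hf, hf.smul_left, smul_right hf, hee, her, hre, hrr, hx'e, hx'r,
        skew_zero hf hx'e, skew_zero hf hx'r] at h
      linear_combination h
    have hs0 : f x' x' ≠ 0 := by
      rw [hs]
      intro h
      exact ha (by linear_combination (-1 : F) * h)
    have hU'n : Cfsg.Geo.IsNondegenerateOn f U' :=
      inf_perp_pair_nondeg hf hU he hr hee hrr (by rw [her]; exact one_ne_zero)
    set U2 := U' ⊓ perp hf (Submodule.span F {x'})
    have hU2n : Cfsg.Geo.IsNondegenerateOn f U2 := by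
      rintro x ⟨hx, hxp'⟩ hx0
      have hxp : f x x' = 0 := (mem_perp_singleton hf).mp hxp'
      obtain ⟨⟨y, hy, hyx⟩, -⟩ := hU'n x hx hx0
      have hm : y - (f y x' / f x' x') • x' ∈ U2 :=
        ⟨U'.sub_mem hy (U'.smul_mem _ hx'U'), (mem_perp_singleton hf).mpr (by
          rw [sub_left hf, hf.smul_left, div_mul_cancel₀ _ hs0, sub_self])⟩
      have h1 : f (y - (f y x' / f x' x') • x') x ≠ 0 := by
        rw [sub_left hf, hf.smul_left, skew_zero hf hxp, mul_zero, sub_zero]
        exact hyx
      exact ⟨⟨_, hm, h1⟩, ⟨_, hm, skew_ne hf h1⟩⟩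
    have hU20 : U2 ≠ ⊥ := by
      intro h
      have h1 : Module.finrank F U' ≤ Module.finrank F U2 + Module.finrank F (Submodule.span F {x'}) :=
        finrank_inf_perp hf U' _
      have h2 : Module.finrank F U ≤ Module.finrank F U' + Module.finrank F (Submodule.span F {e, r}) :=
        finrank_inf_perp hf U _
      have h3 : Module.finrank F (Submodule.span F {e, r}) ≤ 2 := by
        classical
        have := finrank_span_finset_le_card (R := F) ({e, r} : Finset (ι → F))
        rw [Finset.coe_insert, Finset.coe_singleton] at this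
        exact this.trans Finset.card_le_two
      have h4 : Module.finrank F (Submodule.span F {x'}) ≤ 1 :=
        (finrank_span_le_card ({x'} : Set (ι → F))).trans (by simp)
      rw [h, finrank_bot] at h1
      omega
    obtain ⟨l, hl, hl'⟩ : ∃ l : F, l + σ l = 1 ∧ c0 + σ a + l * f x' x' ≠ 0 := by
      obtain ⟨l, hl⟩ := exists_trace_eq hf (a := (1 : F)) (map_one σ)
      by_cases h : c0 + σ a + l * f x' x' = 0
      · refine ⟨l + c0, by rw [map_add, hc0']; linear_combination hl, fun h' => ?_⟩
        exact mul_ne_zero hc0 hs0 (by linear_combination h' - h)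
      · exact ⟨l, hl, h⟩
    obtain ⟨w, ⟨⟨hwU, hwer⟩, hwx'⟩, hww⟩ := exists_norm_val hf hU2n hU20
      (s := -(l * σ l * f x' x')) (by rw [map_neg, map_mul, map_mul, sigma_sigma hf, sigma_f hf]; ring)
    have hwx : f w x' = 0 := (mem_perp_singleton hf).mp hwx'
    obtain ⟨hwe, hwr⟩ := (mem_perp_pair hf).mp hwer
    set x := l • x' + w with hx
    have hxe : f x e = 0 := by rw [hf.add_left, hf.smul_left, hx'e, hwe]; simp
    have hxr : f x r = 0 := by rw [hf.add_left, hf.smul_left, hx'r, hwr]; simp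
    have hxx : f x x = 0 := by
      rw [hx]
      simp only [hf.add_left, add_right hf, hf.smul_left, smul_right hf, hwx, skew_zero hf hwx, hww]
      ring
    have hxx' : f x x' = l * f x' x' := by rw [hf.add_left, hf.smul_left, hwx, add_zero]
    have hσl : σ (l * f x' x') = f x' x' - l * f x' x' := by
      rw [map_mul, sigma_f hf]
      linear_combination (f x' x') * hl
    have hzr' : f (c0 • e + r + x) r' = c0 + σ a + l * f x' x' := by
      rw [hdecomp]
      simp only [hf.add_left, add_right hf, hf.smul_left, smul_right hf, hee, her, hre, hrr, hxe, hxr, hxx',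
        skew_zero hf hx'e, skew_zero hf hx'r]
      ring
    refine via (z := c0 • e + r + x)
      (U.add_mem (U.add_mem (U.smul_mem _ he) hr) (U.add_mem (U.smul_mem _ hx'U'.1) hwU)) ?_ ?_ ?_ ?_ ?_ ?_
    · simp only [hf.add_left, add_right hf (c0 • e), add_right hf r, add_right hf (c0 • e + r),
        add_right hf x, hf.smul_left, smul_right hf, hee, her, hre, hrr, hxe, hxr, hxx,
        skew_zero hf hxe, skew_zero hf hxr, hc0']
      ring
    · rw [add_right hf, add_right hf, smul_right hf, hee, her, skew_zero hf hxe]; ring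
    · rw [hzr']; exact hl'
    · rw [hzr', map_add, map_add, hσl, sigma_sigma hf, hc0', hs]; ring
    all_goals rw [hf.add_left, hf.add_left, hf.smul_left, her, hrr, hxr, mul_one, add_zero, add_zero]
    · exact hc0
    · exact hc0'

/-- An isometry fixing the perp of a non-degenerate subspace preserves it. -/
lemma preserves_of_fix {U : Submodule F (ι → F)} {g : GL ι F} (hg : Iso f g)
    (hfix : ∀ x ∈ perp hf U, (g : Matrix ι ι F) *ᵥ x = x) {x : ι → F} (hx : x ∈ U) :
    (g : Matrix ι ι F) *ᵥ x ∈ U :=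
  perp_perp_le hf fun y hy => by rw [← hfix y hy, hg]; exact hy x hx

/-- The group of determinant-one isometries of a hyperbolic plane lies in its transvection group. -/
lemma plane_le {U : Submodule F (ι → F)} (hU : Cfsg.Geo.IsNondegenerateOn f U)
    (hdim : Module.finrank F U = 2) {g : GL ι F} (hg : Iso f g) (hgs : g ∈ Cfsg.Geo.specialLinear ι F)
    (hfix : ∀ x ∈ perp hf U, (g : Matrix ι ι F) *ᵥ x = x) : g ∈ transGroup σ f U := by
  obtain ⟨e, he, he0, hee⟩ := exists_isotropic hf (X := U) (by omega)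
  obtain ⟨r, hr, hrr, her⟩ := exists_partner hf hU he he0 hee
  have hre : f r e = 1 := by rw [hf.herm, her, map_one]
  have hcoord : ∀ x ∈ U, x = f x r • e + f x e • r := by
    intro x hx
    have hn := inf_perp_pair_nondeg hf hU he hr hee hrr (by rw [her]; exact one_ne_zero)
    have hbot : U ⊓ perp hf (Submodule.span F {e, r}) = ⊥ := by
      have hle : Submodule.span F {e, r} ≤ U := Submodule.span_le.mpr (by simp [Set.insert_subset_iff, he, hr])
      have h2 : 2 ≤ Module.finrank F (Submodule.span F {e, r}) := by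
        have hind : r ∉ Submodule.span F {e} := fun h => by
          obtain ⟨c, rfl⟩ := Submodule.mem_span_singleton.mp h
          rw [smul_right hf, hee, mul_zero] at her
          exact zero_ne_one her
        have hlt : Submodule.span F {e} < Submodule.span F {e, r} :=
          lt_of_le_of_ne (Submodule.span_mono (by simp)) fun h =>
            hind (h ▸ Submodule.subset_span (by simp))
        have := Submodule.finrank_lt_finrank_of_lt hlt
        rw [finrank_span_singleton he0] at this
        omega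
      have heq : Submodule.span F {e, r} = U := Submodule.eq_of_le_of_finrank_le hle (by omega)
      rw [heq, eq_bot_iff]
      rintro z ⟨hz, hz'⟩
      rw [Submodule.mem_bot]
      by_contra h0
      obtain ⟨w, hw, hzw⟩ := (hU z hz h0).2
      exact hzw (hz' w hw)
    have hm : x - (f x r • e + f x e • r) ∈ U ⊓ perp hf (Submodule.span F {e, r}) := by
      refine ⟨U.sub_mem hx (U.add_mem (U.smul_mem _ he) (U.smul_mem _ hr)), (mem_perp_pair hf).mpr ⟨?_, ?_⟩⟩
      all_goals rw [sub_left hf, hf.add_left, hf.smul_left, hf.smul_left]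
      · rw [hee, hre]; ring
      · rw [her, hrr]; ring
    rw [hbot, Submodule.mem_bot] at hm
    exact sub_eq_zero.mp hm
  obtain ⟨c0, hc0, hc0'⟩ := exists_tz hf
  have ratio : ∀ {a c : F}, a ≠ 0 → a * σ c + c * σ a = 0 → σ (c / a) = -(c / a) := by
    intro a c ha h
    rw [map_div₀, ← neg_div, div_eq_div_iff ((map_ne_zero σ).mpr ha) ha]
    linear_combination h
  -- move the image of e onto the line of e
  obtain ⟨h, hh, hline⟩ : ∃ h ∈ transGroup σ f U,
      ∃ l : F, ((h * g : GL ι F) : Matrix ι ι F) *ᵥ e = l • e := by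
    have key : ∀ {x}, x ∈ U → f x x = 0 → f x r ≠ 0 →
        ∃ h ∈ transGroup σ f U, (h : Matrix ι ι F) *ᵥ x = f x r • e := by
      intro x hx hxx hxr
      have hiso : f x r * σ (f x e) + f x e * σ (f x r) = 0 := by
        have h := hxx
        rw [hcoord x hx] at h
        simp only [hf.add_left, add_right hf, hf.smul_left, smul_right hf, hee, hrr, her, hre] at h
        linear_combination h
      refine ⟨ft f r (σ (-(f x e / f x r)) • r), ut_mem hf hr hrr (by rw [map_neg, ratio hxr hiso]), ?_⟩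
      rw [ut_act hf hrr]
      conv_lhs => arg 1; rw [hcoord x hx]
      rw [add_assoc, ← add_smul, neg_mul, div_mul_cancel₀ _ hxr, add_neg_cancel, zero_smul, add_zero]
    set x := (g : Matrix ι ι F) *ᵥ e
    have hx : x ∈ U := preserves_of_fix hf hg hfix he
    have hxx : f x x = 0 := by rw [hg, hee]
    have hx0 : x ≠ 0 := act_ne_zero g he0
    by_cases hxr : f x r = 0
    · have hxe : f x e ≠ 0 := fun h => hx0 (by rw [hcoord x hx, hxr, h]; simp)
      obtain ⟨hiso, -, hmv, -⟩ := transGroup_props hf (ut_mem hf he hee hc0')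
      set x1 := (ft f e (σ c0 • e) : Matrix ι ι F) *ᵥ x
      have hx1 : x1 ∈ U := by simpa [x1] using U.add_mem (hmv x) hx
      have hx1r : f x1 r ≠ 0 := by
        rw [show x1 = x + (c0 * f x e) • e from ut_act hf hee c0 x, hf.add_left, hf.smul_left, hxr, her,
          zero_add, mul_one]
        exact mul_ne_zero hc0 hxe
      obtain ⟨h, hh, hhx⟩ := key hx1 (by rw [hiso, hxx]) hx1r
      exact ⟨h * ft f e (σ c0 • e), Subgroup.mul_mem _ hh (ut_mem hf he hee hc0'), _,
        by rw [mul_act, mul_act]; exact hhx⟩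
    · obtain ⟨h, hh, hhx⟩ := key hx hxx hxr
      exact ⟨h, hh, _, by rw [mul_act]; exact hhx⟩
  obtain ⟨l, hl⟩ := hline
  obtain ⟨hhi, hhs, -, hhfix⟩ := transGroup_props hf hh
  refine ((transGroup σ f U).mul_mem_cancel_left hh).mp ?_
  set k := h * g with hk
  have hki : Iso f k := fun x y => by rw [hk, mul_act, mul_act, hhi, hg]
  have hks : k ∈ Cfsg.Geo.specialLinear ι F := Subgroup.mul_mem _ hhs hgs
  have hkfix : ∀ x ∈ perp hf U, (k : Matrix ι ι F) *ᵥ x = x := fun x hx => by
    rw [hk, mul_act, hfix x hx, hhfix x hx]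
  have hl0 : l ≠ 0 := fun h0 => act_ne_zero k he0 (by rw [hl, h0, zero_smul])
  set r1 := (k : Matrix ι ι F) *ᵥ r
  have hr1 : r1 ∈ U := preserves_of_fix hf hki hkfix hr
  set β := f r1 r
  set l' := f r1 e
  have hll : l' * σ l = 1 := by
    have h1 := hki r e
    rw [hl, smul_right hf, hre] at h1
    rw [mul_comm]; exact h1
  have hl'0 : l' ≠ 0 := left_ne_zero_of_mul_eq_one hll
  have hs : σ (β / l') = -(β / l') := by
    have h := hki r r
    change f r1 r1 = f r r at h
    rw [hrr, hcoord r1 hr1] at h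
    simp only [hf.add_left, add_right hf, hf.smul_left, smul_right hf, hee, hrr, her, hre] at h
    exact ratio hl'0 (by linear_combination h)
  -- the diagonal part
  have hd1 : (1 + Matrix.vecMulVec e ((l - 1) • row f r)).det = l := by
    rw [Matrix.vecMulVec_eq Unit, Matrix.det_one_add_replicateCol_mul_replicateRow, smul_dotProduct,
      TransvectionUnitary.row_dot hf, her, smul_eq_mul]
    ring
  have hd2 : (1 + Matrix.vecMulVec r ((l' - 1) • row f e)).det = l' := by
    rw [Matrix.vecMulVec_eq Unit, Matrix.det_one_add_replicateCol_mul_replicateRow, smul_dotProduct,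
      TransvectionUnitary.row_dot hf, hre, smul_eq_mul]
    ring
  have hact : ∀ (u w : ι → F) (s : F) (x : ι → F),
      (1 + Matrix.vecMulVec u (s • row f w)) *ᵥ x = x + (s * f x w) • u := fun u w s x => by
    rw [Matrix.add_mulVec, Matrix.one_mulVec, Matrix.vecMulVec_mulVec, op_smul_eq_smul, smul_dotProduct,
      TransvectionUnitary.row_dot hf, smul_eq_mul]
  have hext : ∀ {A B : Matrix ι ι F}, A *ᵥ e = B *ᵥ e → A *ᵥ r = B *ᵥ r →
      (∀ x ∈ perp hf U, A *ᵥ x = B *ᵥ x) → A = B := by
    intro A B h1 h2 h3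
    refine Matrix.ext_iff_mulVec.mpr fun x => ?_
    obtain ⟨p, hp, hxp⟩ := exists_split hf hU x
    rw [← add_sub_cancel p x, Matrix.mulVec_add, Matrix.mulVec_add, h3 _ hxp, hcoord p hp,
      Matrix.mulVec_add, Matrix.mulVec_add, Matrix.mulVec_smul, Matrix.mulVec_smul, Matrix.mulVec_smul,
      Matrix.mulVec_smul, h1, h2]
  have hperp : ∀ x ∈ perp hf U, f x e = 0 ∧ f x r = 0 := fun x hx => ⟨hx e he, hx r hr⟩
  set T := ft f e (σ (β / l') • e)
  have hkT : (k : Matrix ι ι F) = (T : Matrix ι ι F) *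
      ((1 + Matrix.vecMulVec e ((l - 1) • row f r)) * (1 + Matrix.vecMulVec r ((l' - 1) • row f e))) := by
    refine hext ?_ ?_ fun x hx => ?_
    · simp only [← Matrix.mulVec_mulVec, hact, T, hee, her, mul_zero, zero_smul, add_zero,
        ut_act hf hee, hl, hf.add_left, hf.smul_left]
      module
    · simp only [← Matrix.mulVec_mulVec, hact, T, hre, hrr, her, hee, ut_act hf hee, hf.add_left, hf.smul_left,
        mul_zero, zero_smul, add_zero, mul_one, zero_add]
      rw [show (k : Matrix ι ι F) *ᵥ r = β • e + l' • r from hcoord r1 hr1]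
      rw [show (1 : F) + (l' - 1) = l' by ring, div_mul_cancel₀ _ hl'0]
      module
    · obtain ⟨hxe, hxr⟩ := hperp x hx
      rw [← Matrix.mulVec_mulVec, ← Matrix.mulVec_mulVec, hact r e, hxe, mul_zero, zero_smul, add_zero, hact e r,
        hxr, mul_zero, zero_smul, add_zero, ut_act hf hee, hxe, mul_zero, zero_smul, add_zero, hkfix x hx]
  have hlfix : σ l = l := by
    have h1 : (k : Matrix ι ι F).det = 1 := by
      have := hks
      rw [Cfsg.Geo.specialLinear, MonoidHom.mem_ker] at this
      simpa using congrArg Units.val this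
    have h2 : (T : Matrix ι ι F).det = 1 := by
      have := ft_mem_sl f e (σ (β / l') • e)
      rw [Cfsg.Geo.specialLinear, MonoidHom.mem_ker] at this
      simpa [T] using congrArg Units.val this
    rw [hkT, Matrix.det_mul, Matrix.det_mul, h2, hd1, hd2, one_mul] at h1
    exact mul_left_cancel₀ hl'0 (by rw [hll, mul_comm, h1])
  -- the diagonal part is a product of transvections
  have htz : ∀ {t : F}, σ t = -t → σ (-t⁻¹) = -(-t⁻¹) := fun {t} ht => by
    rw [map_neg, map_inv₀, ht, inv_neg]
  let w : F → GL ι F := fun t =>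
    ft f e (σ t • e) * ft f r (σ (-t⁻¹) • r) * ft f e (σ t • e)
  have hwmem : ∀ {t : F}, σ t = -t → w t ∈ transGroup σ f U := fun {t} ht =>
    Subgroup.mul_mem _ (Subgroup.mul_mem _ (ut_mem hf he hee ht) (ut_mem hf hr hrr (htz ht)))
      (ut_mem hf he hee ht)
  have hwe : ∀ {t : F}, t ≠ 0 → (w t : Matrix ι ι F) *ᵥ e = (-t⁻¹) • r := by
    intro t ht
    simp only [w, mul_act, ut_act hf hee, ut_act hf hrr, hf.add_left, hf.smul_left, hee, her, hre, hrr,
      mul_zero, zero_smul, add_zero, mul_one, zero_add, mul_neg, mul_inv_cancel₀ ht]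
    module
  have hwr : ∀ {t : F}, t ≠ 0 → (w t : Matrix ι ι F) *ᵥ r = t • e := by
    intro t ht
    simp only [w, mul_act, ut_act hf hee, ut_act hf hrr, hf.add_left, hf.smul_left, hee, her, hre, hrr,
      mul_zero, zero_smul, add_zero, mul_one, zero_add, neg_mul, inv_mul_cancel₀ ht]
    module
  have htl : σ (-(l * c0)) = -(-(l * c0)) := by rw [map_neg, map_mul, hlfix, hc0', mul_neg]
  have htl0 : -(l * c0) ≠ 0 := neg_ne_zero.mpr (mul_ne_zero hl0 hc0)
  have hl'l : l' = l⁻¹ := eq_inv_of_mul_eq_one_left (by rw [hlfix] at hll; exact hll)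
  have hkfinal : k = T * (w (-(l * c0)) * w c0) := by
    apply Units.ext
    rw [hkT, Units.val_mul]
    congr 1
    refine hext ?_ ?_ fun x hx => ?_
    · rw [mul_act, hwe hc0, Matrix.mulVec_smul, hwr htl0]
      simp only [← Matrix.mulVec_mulVec, hact, hee, her, mul_zero, zero_smul, add_zero, smul_smul]
      rw [show -c0⁻¹ * -(l * c0) = l by field_simp]
      module
    · rw [mul_act, hwr hc0, Matrix.mulVec_smul, hwe htl0]
      simp only [← Matrix.mulVec_mulVec, hact, hre, hf.add_left, hf.smul_left, hrr, mul_zero, zero_smul,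
        add_zero, smul_smul, mul_one]
      rw [show c0 * -(-(l * c0))⁻¹ = l⁻¹ by field_simp, hl'l]
      module
    · obtain ⟨hxe, hxr⟩ := hperp x hx
      rw [mul_act]
      simp only [w, mul_act, ut_act hf hee, ut_act hf hrr, ← Matrix.mulVec_mulVec, hact, hxe, hxr, mul_zero,
        zero_smul, add_zero]
  rw [hkfinal]
  exact Subgroup.mul_mem _ (ut_mem hf he hee hs)
    (Subgroup.mul_mem _ (hwmem htl) (hwmem hc0'))

/-- All determinant-one isometries fixing the perp of U lie in M. -/
def Covers (U : Submodule F (ι → F)) (M : Subgroup (GL ι F)) : Prop :=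
  ∀ g : GL ι F, Iso f g → g ∈ Cfsg.Geo.specialLinear ι F →
    (∀ x ∈ perp hf U, (g : Matrix ι ι F) *ᵥ x = x) → g ∈ M

/-- Removing a hyperbolic pair from a non-degenerate subspace of dimension at least four. -/
lemma covers_step {U : Submodule F (ι → F)} (hU : Cfsg.Geo.IsNondegenerateOn f U)
    (hdim : 4 ≤ Module.finrank F U) {M : Subgroup (GL ι F)} (hM : transGroup σ f U ≤ M) {e r : ι → F}
    (he : e ∈ U) (hr : r ∈ U) (he0 : e ≠ 0) (hee : f e e = 0) (hrr : f r r = 0) (her : f e r = 1)
    (hsub : Covers hf (U ⊓ perp hf (Submodule.span F {e, r})) M) : Covers hf U M := by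
  intro g hg hgs hfix
  obtain ⟨h1, hh1, e1⟩ := move_iso hf hU hdim (preserves_of_fix hf hg hfix he) he (by rw [hg, hee]) hee
    (act_ne_zero g he0) he0
  obtain ⟨hi1, hs1, hm1, hf1⟩ := transGroup_props hf hh1
  set r' := (h1 : Matrix ι ι F) *ᵥ ((g : Matrix ι ι F) *ᵥ r) with hr'
  have hr'U : r' ∈ U := sub_add_cancel r' ((g : Matrix ι ι F) *ᵥ r) ▸
    U.add_mem (hm1 _) (preserves_of_fix hf hg hfix hr)
  have her' : f e r' = 1 := by rw [← e1, hr', hi1, hg, her]
  obtain ⟨h2, hh2, e2, e2'⟩ := move_partner hf hU hdim he hr hr'U hee hrr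
    (by rw [hr', hi1, hg, hrr]) her her'
  obtain ⟨hi2, hs2, -, hf2⟩ := transGroup_props hf hh2
  refine (M.mul_mem_cancel_left (hM (Subgroup.mul_mem _ hh2 hh1))).mp (hsub _ ?_ ?_ fun x hx => ?_)
  · intro x y
    rw [mul_act, mul_act, mul_act, mul_act, hi2, hi1, hg]
  · exact Subgroup.mul_mem _ (Subgroup.mul_mem _ hs2 hs1) hgs
  · obtain ⟨p, hp, hxp⟩ := exists_split hf hU x
    have hn := inf_perp_pair_nondeg hf hU he hr hee hrr (by rw [her]; exact one_ne_zero)
    have hre : f r e = 1 := by rw [hf.herm, her, map_one]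
    set p' := p - f p r • e - f p e • r with hp'
    have hp'm : p' ∈ U ⊓ perp hf (Submodule.span F {e, r}) := by
      refine ⟨U.sub_mem (U.sub_mem hp (U.smul_mem _ he)) (U.smul_mem _ hr), (mem_perp_pair hf).mpr ⟨?_, ?_⟩⟩
      all_goals rw [hp', sub_left hf, sub_left hf, hf.smul_left, hf.smul_left]
      · rw [hee, hre]; ring
      · rw [her, hrr]; ring
    have hzero : p' = 0 := by
      by_contra h0
      obtain ⟨z, hz, hzp⟩ := (hn p' hp'm h0).2
      obtain ⟨hze, hzr⟩ := (mem_perp_pair hf).mp hz.2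
      apply hzp
      have h1 : f x z = 0 := hx z hz
      have h2 : f (x - p) z = 0 := hxp z hz.1
      rw [sub_left hf, h1, zero_sub, neg_eq_zero] at h2
      rw [hp', sub_left hf, sub_left hf, hf.smul_left, hf.smul_left, h2, skew_zero hf hze, skew_zero hf hzr]
      ring
    have hxdec : x = (x - p) + (f p r • e + f p e • r) := by
      have : p = f p r • e + f p e • r := by
        rw [← sub_eq_zero, ← sub_sub]; exact hzero
      rw [← this, sub_add_cancel]
    have ke : ((h2 * h1 * g : GL ι F) : Matrix ι ι F) *ᵥ e = e := by rw [mul_act, mul_act, e1, e2]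
    have kr : ((h2 * h1 * g : GL ι F) : Matrix ι ι F) *ᵥ r = r := by rw [mul_act, mul_act, ← hr', e2']
    have kp : ((h2 * h1 * g : GL ι F) : Matrix ι ι F) *ᵥ (x - p) = x - p := by
      rw [mul_act, mul_act, hfix _ hxp, hf1 _ hxp, hf2 _ hxp]
    conv_lhs => rw [hxdec]
    rw [Matrix.mulVec_add, Matrix.mulVec_add, Matrix.mulVec_smul, Matrix.mulVec_smul, kp, ke, kr, ← hxdec]

/-- In even dimension the transvection group covers. -/
theorem covers_even : ∀ (k : ℕ) {U : Submodule F (ι → F)}, Cfsg.Geo.IsNondegenerateOn f U →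
    Module.finrank F U = 2 * k → ∀ {M : Subgroup (GL ι F)}, transGroup σ f U ≤ M → Covers hf U M := by
  intro k
  induction k with
  | zero =>
    intro U _ hdim M _ g _ _ hfix
    have hbot : U = ⊥ := Submodule.finrank_eq_zero.mp (by omega)
    have : g = 1 := gl_ext fun x => by
      rw [one_act]
      exact hfix x fun w hw => by
        rw [hbot, Submodule.mem_bot] at hw
        rw [hw, zero_right hf]
    rw [this]
    exact M.one_mem
  | succ k ih =>
    intro U hU hdim M hM
    rcases Nat.eq_zero_or_pos k with hk | hk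
    · exact fun g hg hgs hfix => hM (plane_le hf hU (by omega) hg hgs hfix)
    obtain ⟨e, he, he0, hee⟩ := exists_isotropic hf (X := U) (by omega)
    obtain ⟨r, hr, hrr, her⟩ := exists_partner hf hU he he0 hee
    refine covers_step hf hU (by omega) hM he hr he0 hee hrr her
      (ih (inf_perp_pair_nondeg hf hU he hr hee hrr (by rw [her]; exact one_ne_zero)) ?_ ?_)
    · set W := Submodule.span F {e, r}
      have hW2 : Module.finrank F W ≤ 2 := by
        classical
        have := finrank_span_finset_le_card (R := F) ({e, r} : Finset (ι → F))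
        rw [Finset.coe_insert, Finset.coe_singleton] at this
        exact this.trans Finset.card_le_two
      have h1 := finrank_inf_perp hf U W
      -- the pair spans a complement
      have h2 : Module.finrank F (U ⊓ perp hf W : Submodule F (ι → F)) + 2 ≤ Module.finrank F U := by
        have hre : f r e = 1 := by rw [hf.herm, her, map_one]
        have hdis : W ⊓ (U ⊓ perp hf W) = ⊥ := by
          rw [eq_bot_iff]
          rintro z ⟨hz, -, hz'⟩
          obtain ⟨a, b, rfl⟩ := Submodule.mem_span_pair.mp hz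
          obtain ⟨hze, hzr⟩ := (mem_perp_pair hf).mp hz'
          rw [hf.add_left, hf.smul_left, hf.smul_left, hee, hre, mul_zero, zero_add, mul_one] at hze
          rw [hf.add_left, hf.smul_left, hf.smul_left, her, hrr, mul_zero, add_zero, mul_one] at hzr
          simp [hze, hzr]
        have h3 := Submodule.finrank_sup_add_finrank_inf_eq W (U ⊓ perp hf W)
        have h4 : Module.finrank F (W ⊔ (U ⊓ perp hf W) : Submodule F (ι → F)) ≤ Module.finrank F U :=
          Submodule.finrank_mono (sup_le (Submodule.span_le.mpr (by simp [Set.insert_subset_iff, he, hr]))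
            inf_le_left)
        have hW : 2 ≤ Module.finrank F W := by
          have hind : r ∉ Submodule.span F {e} := fun h => by
            obtain ⟨c, rfl⟩ := Submodule.mem_span_singleton.mp h
            rw [smul_right hf, hee, mul_zero] at her
            exact zero_ne_one her
          have hlt : Submodule.span F {e} < W :=
            lt_of_le_of_ne (Submodule.span_mono (by simp)) fun h =>
              hind (h ▸ Submodule.subset_span (by simp))
          have := Submodule.finrank_lt_finrank_of_lt hlt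
          rw [finrank_span_singleton he0] at this
          omega
        rw [hdis, finrank_bot] at h3
        omega
      omega
    · exact (transGroup_le hf fun b hb c hbb hc => ut_mem hf (Submodule.mem_inf.mp hb).1 hbb hc).trans hM

omit hf in
/-- In even dimension every subgroup containing the transvections contains the special unitary group. -/
theorem su_mem_of_even (hf : Cfsg.Geo.IsUnitaryForm σ f) (heven : Even (Fintype.card ι))
    {M : Subgroup (GL ι F)} (hM : ∀ b c, f b b = 0 → σ c = -c → ft f b (σ c • b) ∈ M) {g : GL ι F}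
    (hg : Iso f g) (hgs : g ∈ Cfsg.Geo.specialLinear ι F) : g ∈ M := by
  obtain ⟨k, hk⟩ := heven
  have htop : Cfsg.Geo.IsNondegenerateOn f (⊤ : Submodule F (ι → F)) := fun w _ hw => by
    obtain ⟨⟨x, hx⟩, ⟨y, hy⟩⟩ := hf.nondegenerate w hw
    exact ⟨⟨x, trivial, hx⟩, ⟨y, trivial, hy⟩⟩
  refine covers_even hf k htop (by rw [finrank_top, Module.finrank_fintype_fun_eq_card]; omega)
    (transGroup_le hf fun b _ c => hM b c) g hg hgs fun x hx => ?_
  have : x = 0 := by
    by_contra h0
    obtain ⟨y, hy⟩ := (hf.nondegenerate x h0).2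
    exact hy (hx y trivial)
  simp [this]

omit hf in
/-- The standard hermitian form is a unitary form. -/
lemma herm_isUnitaryForm {n q : ℕ} (hF : Fintype.card F = q ^ 2) :
    ∃ τ : F ≃+* F, (∀ x, τ x = x ^ q) ∧ Cfsg.Geo.IsUnitaryForm τ (Cfsg.hermForm n F q) := by
  obtain ⟨p, hc⟩ := CharP.exists F
  haveI : Fact p.Prime := ⟨CharP.char_is_prime F p⟩
  obtain ⟨k, hk, hk0⟩ : ∃ k, q = p ^ k ∧ q ≠ 1 := by
    obtain ⟨m, -, hm⟩ := FiniteField.card F p
    have hd : q ∣ p ^ (m : ℕ) := ⟨q, by rw [← hm, hF, sq]⟩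
    obtain ⟨k, -, hk⟩ := (Nat.dvd_prime_pow (Fact.out : p.Prime)).1 hd
    refine ⟨k, hk, fun h1 => ?_⟩
    have := Fintype.one_lt_card (α := F)
    rw [hF, h1] at this
    simp at this
  have hqpos : q ≠ 0 := by
    intro h
    have := Fintype.card_pos (α := F)
    rw [hF, h] at this
    simp at this
  let φ : F →+* F := iterateFrobenius F p k
  have hφ : ∀ x, φ x = x ^ q := fun x => by rw [hk]; rfl
  have hφφ : ∀ x, φ (φ x) = x := fun x => by
    rw [hφ, hφ, ← pow_mul, ← sq, ← hF, FiniteField.pow_card]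
  let τ : F ≃+* F := RingEquiv.ofBijective φ (Function.Involutive.bijective hφφ)
  have hτ : ∀ x, τ x = x ^ q := hφ
  refine ⟨τ, hτ, ⟨fun h => ?_, hφφ, ?_, ?_, ?_, ?_⟩⟩
  · classical
    have hall : ∀ x : F, x ^ q = x := fun x => by rw [← hτ, h, RingEquiv.refl_apply]
    have h2 : 1 < q := by omega
    have hsub : (Finset.univ : Finset F) ⊆ (Polynomial.X ^ q - Polynomial.X : Polynomial F).roots.toFinset :=
      fun x _ => by
        rw [Multiset.mem_toFinset, Polynomial.mem_roots (FiniteField.X_pow_card_sub_X_ne_zero F h2)]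
        simp [hall]
    have h3 := Finset.card_le_card hsub
    have h4 := (Polynomial.X ^ q - Polynomial.X : Polynomial F).card_roots'
    rw [FiniteField.X_pow_card_sub_X_natDegree_eq F h2] at h4
    have h5 := (Multiset.toFinset_card_le _).trans h4
    rw [Finset.card_univ, hF] at h3
    have h6 : q < q ^ 2 := by nlinarith
    omega
  · intro x y v; simp [Cfsg.hermForm, add_mul, Finset.sum_add_distrib]
  · intro c x v; simp [Cfsg.hermForm, Finset.mul_sum, mul_assoc]
  · intro v w
    unfold Cfsg.hermForm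
    rw [map_sum τ]
    refine Finset.sum_congr rfl fun i _ => ?_
    rw [map_mul, hτ, hτ, ← pow_mul, ← sq, ← hF, FiniteField.pow_card, mul_comm]
  · intro v hv
    obtain ⟨i, hi⟩ := Function.ne_iff.mp hv
    refine ⟨⟨Pi.single i 1, ?_⟩, ⟨Pi.single i 1, ?_⟩⟩
    · simpa [Cfsg.hermForm, Pi.single_apply, ite_mul] using pow_ne_zero q hi
    · have : Cfsg.hermForm n F q v (Pi.single i 1) = v i := by
        unfold Cfsg.hermForm
        rw [Finset.sum_eq_single i (fun j _ hj => by
          rw [Pi.single_eq_of_ne hj, zero_pow hqpos, mul_zero]) (by simp)]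
        simp
      rw [this]
      simpa using hi

end Cfsg.Agent.TransvectionUnitaryGen
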