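/-
Root elements x ↦ x + f(x,e)w - f(x,w)e + s f(x,e)e of a unitary form, spanning by isotropic vectors, and
rational linear algebra used for maximality of unitary subfield subgroups.
-/
import Mathlib
import Cfsg.Agent.Lib.SubfieldRational
import Cfsg.Agent.Lib.TransvectionUnitaryGen

set_option autoImplicit false
set_option linter.unusedSectionVars false

namespace Cfsg.Agent.UnitarySubfieldRoot

open Cfsg.Agent.TransvectionMax
open Cfsg.Agent.TransvectionUnitary (perp uLeft exists_tz exists_trace_eq exists_perp_val mem_perp_singleton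
  mem_perp_pair iso_adjust finrank_perp)
open Cfsg.Agent.SubfieldRational (emb rat)
open scoped MatrixGroups Matrix

variable {ι : Type} [Fintype ι] [DecidableEq ι] {F : Type*} [Field F] [Fintype F]
  {σ : F ≃+* F} {f : (ι → F) → (ι → F) → F}

/-- The unitary transvection x ↦ x + c f(x,v) v. -/
noncomputable def Tg (σ : F ≃+* F) (f : (ι → F) → (ι → F) → F) (v : ι → F) (c : F) : GL ι F :=
  ft f v (σ c • v)

/-- g acts as the root element with parameters e, w, s. -/
def EAct (f : (ι → F) → (ι → F) → F) (g : GL ι F) (e w : ι → F) (s : F) : Prop :=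
  ∀ x, (g : Matrix ι ι F) *ᵥ x = x + f x e • w - f x w • e + (s * f x e) • e

/-- M contains the root element with parameters e, w, s. -/
def InE (f : (ι → F) → (ι → F) → F) (M : Subgroup (GL ι F)) (e w : ι → F) (s : F) : Prop :=
  ∃ g ∈ M, EAct f g e w s

section Root

variable (hf : Cfsg.Geo.IsUnitaryForm σ f)
include hf

local notation "hzl" => TransvectionUnitary.zero_left hf
local notation "hzr" => TransvectionUnitary.zero_right hf

lemma tg_act {v : ι → F} (hv : f v v = 0) (c : F) (x : ι → F) :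
    (Tg σ f v c : Matrix ι ι F) *ᵥ x = x + (c * f x v) • v :=
  TransvectionUnitary.ut_act hf hv c x

lemma tg_conj {h : GL ι F} (hh : TransvectionUnitaryGen.Iso f h) {v : ι → F} (hv : f v v = 0) (c : F) :
    h * Tg σ f v c * h⁻¹ = Tg σ f ((h : Matrix ι ι F) *ᵥ v) c := by
  rw [Tg, Tg, TransvectionUnitary.ft_conj hf hh (by rw [TransvectionUnitary.smul_right hf, hv, mul_zero]),
    Matrix.mulVec_smul]

lemma tg_inv {v : ι → F} (hv : f v v = 0) (c : F) : (Tg σ f v c)⁻¹ = Tg σ f v (-c) := by
  rw [Tg, Tg, TransvectionUnitary.ft_inv hf (by rw [TransvectionUnitary.smul_right hf, hv, mul_zero]),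
    map_neg, neg_smul]

lemma tg_add {v : ι → F} (hv : f v v = 0) (c d : F) :
    Tg σ f v c * Tg σ f v d = Tg σ f v (c + d) := by
  rw [Tg, Tg, Tg, TransvectionUnitary.ft_add hf (by rw [TransvectionUnitary.smul_right hf, hv, mul_zero])
    (by rw [TransvectionUnitary.smul_right hf, hv, mul_zero]), map_add, add_smul]

lemma tg_smul {v : ι → F} (hv : f v v = 0) (l c : F) :
    Tg σ f (l • v) c = Tg σ f v (c * l * σ l) := gl_ext fun x => by
  rw [tg_act hf (by rw [hf.smul_left, TransvectionUnitary.smul_right hf, hv, mul_zero, mul_zero]), tg_act hf hv,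
    TransvectionUnitary.smul_right hf, smul_smul]
  congr 2
  ring

lemma eAct_tg {e : ι → F} (he : f e e = 0) (c : F) : EAct f (Tg σ f e c) e 0 c := fun x => by
  rw [tg_act hf he, TransvectionUnitary.zero_right hf]
  module

lemma EAct.eq_tg {g : GL ι F} {e : ι → F} {c : F} (he : f e e = 0) (h : EAct f g e 0 c) :
    g = Tg σ f e c := gl_ext fun x => by rw [h x, eAct_tg hf he c x]

lemma EAct.mul {g g' : GL ι F} {e w w' : ι → F} {s s' : F} (hg : EAct f g e w s) (hg' : EAct f g' e w' s')
    (he : f e e = 0) (hw : f w e = 0) (hw' : f w' e = 0) :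
    EAct f (g * g') e (w + w') (s + s' - f w' w) := fun x => by
  rw [mul_act, hg' x, hg]
  simp only [hf.add_left, TransvectionUnitary.sub_left hf, hf.smul_left, TransvectionUnitary.add_right hf,
    he, hw', TransvectionUnitary.skew_zero hf hw]
  module

lemma EAct.inv {g : GL ι F} {e w : ι → F} {s : F} (hg : EAct f g e w s) (he : f e e = 0)
    (hw : f w e = 0) : EAct f g⁻¹ e (-w) (-s - f w w) := fun x => by
  apply act_injective g
  show (g : Matrix ι ι F) *ᵥ _ = (g : Matrix ι ι F) *ᵥ _
  rw [act_inv_act, hg]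
  simp only [hf.add_left, TransvectionUnitary.sub_left hf, hf.smul_left, TransvectionUnitary.neg_right hf,
    TransvectionUnitary.neg_left hf, he, hw, TransvectionUnitary.skew_zero hf hw]
  module

lemma EAct.conj {g h : GL ι F} (hh : TransvectionUnitaryGen.Iso f h) {e w : ι → F} {s : F}
    (hg : EAct f g e w s) :
    EAct f (h * g * h⁻¹) ((h : Matrix ι ι F) *ᵥ e) ((h : Matrix ι ι F) *ᵥ w) s := fun x => by
  obtain ⟨y, rfl⟩ : ∃ y, x = (h : Matrix ι ι F) *ᵥ y := ⟨_, (act_inv_act h x).symm⟩
  rw [mul_act, mul_act, inv_act_act, hg, hh, hh]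
  simp only [Matrix.mulVec_add, Matrix.mulVec_sub, Matrix.mulVec_smul]

variable {M : Subgroup (GL ι F)}

lemma inE_tg {e : ι → F} {c : F} (he : f e e = 0) (h : InE f M e 0 c) : Tg σ f e c ∈ M := by
  obtain ⟨g, hg, hE⟩ := h
  rwa [← EAct.eq_tg hf he hE]

lemma inE_add {e w w' : ι → F} {s s' : F} (he : f e e = 0) (hw : f w e = 0) (hw' : f w' e = 0)
    (h : InE f M e w s) (h' : InE f M e w' s') : InE f M e (w + w') (s + s' - f w' w) := by
  obtain ⟨g, hg, hE⟩ := h
  obtain ⟨g', hg', hE'⟩ := h'
  exact ⟨g * g', M.mul_mem hg hg', hE.mul hf hE' he hw hw'⟩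

lemma inE_neg {e w : ι → F} {s : F} (he : f e e = 0) (hw : f w e = 0) (h : InE f M e w s) :
    InE f M e (-w) (-s - f w w) := by
  obtain ⟨g, hg, hE⟩ := h
  exact ⟨g⁻¹, M.inv_mem hg, hE.inv hf he hw⟩

lemma inE_shift {e w : ι → F} {s c : F} (he : f e e = 0) (hw : f w e = 0) (h : InE f M e w s)
    (hc : Tg σ f e c ∈ M) : InE f M e w (s + c) := by
  have := inE_add hf he hw (hzl e) h ⟨_, hc, eAct_tg hf he c⟩
  rwa [add_zero, hzl, sub_zero] at this

lemma inE_comm {e w w' : ι → F} {s s' : F} (he : f e e = 0) (hw : f w e = 0) (hw' : f w' e = 0)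
    (h : InE f M e w s) (h' : InE f M e w' s') : Tg σ f e (f w w' - f w' w) ∈ M := by
  obtain ⟨g, hg, hE⟩ := h
  obtain ⟨g', hg', hE'⟩ := h'
  have h1 := hE.mul hf hE' he hw hw'
  have h2 := (hE'.mul hf hE he hw' hw).inv hf he (by rw [hf.add_left, hw', hw, add_zero])
  have h3 := h1.mul hf h2 he (by rw [hf.add_left, hw, hw', add_zero])
    (by rw [TransvectionUnitary.neg_left hf, hf.add_left, hw', hw, add_zero, neg_zero])
  rw [add_comm w' w, add_neg_cancel] at h3
  have h4 : s + s' - f w' w + (-(s' + s - f w w') - f (w + w') (w + w')) - f (-(w + w')) (w + w')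
      = f w w' - f w' w := by
    rw [TransvectionUnitary.neg_left hf]; ring
  rw [h4] at h3
  rw [← EAct.eq_tg hf he h3]
  exact M.mul_mem (M.mul_mem hg hg') (M.inv_mem (M.mul_mem hg' hg))

lemma inE_conj {h : GL ι F} (hh : TransvectionUnitaryGen.Iso f h) (hM : h ∈ M) {e w : ι → F} {s : F}
    (hE : InE f M e w s) : InE f M ((h : Matrix ι ι F) *ᵥ e) ((h : Matrix ι ι F) *ᵥ w) s := by
  obtain ⟨g, hg, hE⟩ := hE
  exact ⟨_, M.mul_mem (M.mul_mem hM hg) (M.inv_mem hM), hE.conj hf hh⟩

/-- Conjugating by a transvection centred at y orthogonal to e and dividing. -/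
lemma inE_conj_div {e w y : ι → F} {s d : F} (he : f e e = 0) (hw : f w e = 0) (hy : f y y = 0)
    (hye : f y e = 0) (hd : σ d = -d) (hM : Tg σ f y d ∈ M) (h : InE f M e w s) :
    ∃ s', InE f M e ((d * f w y) • y) s' := by
  have hh : TransvectionUnitaryGen.Iso f (Tg σ f y d) := TransvectionUnitary.ut_preserves hf hy hd
  have h1 := inE_conj hf hh hM h
  rw [tg_act hf hy, tg_act hf hy, TransvectionUnitary.skew_zero hf hye, mul_zero, zero_smul, add_zero] at h1
  have h2 := inE_add hf he (by rw [hf.add_left, hw, hf.smul_left, hye, mul_zero, add_zero])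
    (by rw [TransvectionUnitary.neg_left hf, hw, neg_zero]) h1 (inE_neg hf he hw h)
  rw [add_comm w, add_neg_cancel_right] at h2
  exact ⟨_, h2⟩

/-- Two transvections with the same scalar give a root element. -/
lemma inE_pair {v e : ι → F} {c l : F} (hv : f v v = 0) (he : f e e = 0) (hve : f v e = 0)
    (hc : σ c = -c) (h1 : Tg σ f (v + l • e) c ∈ M) (h2 : Tg σ f v c ∈ M) :
    InE f M e ((c * σ l) • v) (c * (l * σ l)) := by
  refine ⟨Tg σ f (v + l • e) c * (Tg σ f v c)⁻¹, M.mul_mem h1 (M.inv_mem h2), fun x => ?_⟩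
  have hev := TransvectionUnitary.skew_zero hf hve
  have hsum : f (v + l • e) (v + l • e) = 0 := by
    simp only [hf.add_left, TransvectionUnitary.add_right hf, hf.smul_left, TransvectionUnitary.smul_right hf,
      hv, he, hve, hev]
    ring
  rw [tg_inv hf hv, mul_act, tg_act hf hv, tg_act hf hsum]
  simp only [hf.add_left, TransvectionUnitary.add_right hf, hf.smul_left, TransvectionUnitary.smul_right hf,
    hv, hve, map_mul, hc, TransvectionUnitary.sigma_sigma hf]
  module

/-- The parameter of a root element of an isometry has the prescribed trace. -/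
lemma EAct.trace {g : GL ι F} (hg : TransvectionUnitaryGen.Iso f g) {e r w : ι → F} {s : F}
    (hE : EAct f g e w s) (he : f e e = 0) (hr : f r r = 0) (hre : f r e = 1) (hw : f w e = 0) :
    f w w + s + σ s = 0 := by
  have h := hg r r
  rw [hE r, hre, hr] at h
  have her : f e r = 1 := by rw [hf.herm, hre, map_one]
  simp only [hf.add_left, TransvectionUnitary.sub_left hf, TransvectionUnitary.add_right hf,
    TransvectionUnitary.sub_right hf, hf.smul_left, TransvectionUnitary.smul_right hf, he, hr, hre, her, hw,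
    TransvectionUnitary.skew_zero hf hw, map_one, map_mul, TransvectionUnitary.sigma_f hf] at h
  linear_combination h

/-! ### Spanning by isotropic vectors -/

/-- In the perp of a small subspace every vector is a sum of two isotropic ones. -/
lemma exists_iso_pair (hn : 9 ≤ Fintype.card ι) {W : Submodule F (ι → F)} (hW : Module.finrank F W ≤ 2)
    {u : ι → F} (hu : u ∈ perp hf W) :
    ∃ z ∈ perp hf W, ∃ z' ∈ perp hf W, f z z = 0 ∧ f z' z' = 0 ∧ u = z + z' := by
  by_cases huu : f u u = 0
  · exact ⟨u, hu, 0, (perp hf W).zero_mem, huu, hzl _, (add_zero u).symm⟩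
  obtain ⟨p, hp, r, hr, μ, -, -, -, hup, hur, hz⟩ :=
    iso_adjust hf (W := W) (by omega) u
  set z := u + p + μ • r with hzdef
  have hzW : z ∈ perp hf W := (perp hf W).add_mem ((perp hf W).add_mem hu hp) ((perp hf W).smul_mem _ hr)
  have huz : f u z = f u u := by
    rw [hzdef, TransvectionUnitary.add_right hf, TransvectionUnitary.add_right hf,
      TransvectionUnitary.smul_right hf, hup, hur, mul_zero, add_zero, add_zero]
  obtain ⟨a, ha⟩ := exists_trace_eq hf (a := (1 : F)) (map_one σ)
  have hzu : f z u = f u u := by rw [hf.herm, huz, TransvectionUnitary.sigma_f hf]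
  refine ⟨a • z, (perp hf W).smul_mem _ hzW, u - a • z, (perp hf W).sub_mem hu ((perp hf W).smul_mem _ hzW),
    by rw [hf.smul_left, TransvectionUnitary.smul_right hf, hz, mul_zero, mul_zero], ?_,
    (add_sub_cancel _ _).symm⟩
  simp only [TransvectionUnitary.sub_left hf, TransvectionUnitary.sub_right hf, hf.smul_left,
    TransvectionUnitary.smul_right hf, hz, huz, hzu]
  linear_combination (-(f u u)) * ha

/-- An isotropic vector in the perp of a small subspace avoiding another subspace. -/
lemma exists_iso_notMem (hn : 9 ≤ Fintype.card ι) {W : Submodule F (ι → F)} (hW : Module.finrank F W ≤ 2)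
    {S : Submodule F (ι → F)} (hS : Module.finrank F S + Module.finrank F W < Fintype.card ι) :
    ∃ y ∈ perp hf W, f y y = 0 ∧ y ∉ S := by
  by_contra! h
  have hle : perp hf W ≤ S := fun u hu => by
    obtain ⟨z, hz, z', hz', hzz, hzz', rfl⟩ := exists_iso_pair hf hn hW hu
    exact S.add_mem (h z hz hzz) (h z' hz' hzz')
  have h1 := Submodule.finrank_mono hle
  have h2 := finrank_perp hf W
  omega

end Root

/-! ### Rational vectors -/

section Rat

variable {F₀ : Subfield F} (P : GL ι F)

/-- The span over F of the rational vectors in a subspace over F₀. -/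
def ext (S : Submodule F₀ (ι → F₀)) : Submodule F (ι → F) := Submodule.span F (rat P '' (S : Set (ι → F₀)))

lemma rat_mem_ext {S : Submodule F₀ (ι → F₀)} {u : ι → F₀} (hu : u ∈ S) : rat P u ∈ ext P S :=
  Submodule.subset_span ⟨u, hu, rfl⟩

/-- A vector outside S is removed from a combination lying in the extension of S. -/
lemma reduce {S : Submodule F₀ (ι → F₀)} {x y : ι → F} (hx : x ∈ ext P S) (hy : y ∈ ext P S)
    {a w : ι → F₀} (ha : a ∉ S) {q1 q2 : F} (h : x = y + q1 • rat P a + q2 • rat P w) :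
    ∃ z : ι → F₀, x = y + q2 • rat P z := by
  obtain ⟨φ, hφa, hφS⟩ := Submodule.exists_dual_map_eq_bot_of_notMem ha inferInstance
  set χ : ι → F₀ := fun i => (φ a)⁻¹ * φ (Pi.single i 1) with hχ
  have hdot : ∀ v : ι → F₀, χ ⬝ᵥ v = (φ a)⁻¹ * φ v := fun v => by
    rw [LinearMap.pi_apply_eq_sum_univ φ v, dotProduct, Finset.mul_sum]
    refine Finset.sum_congr rfl fun i _ => ?_
    rw [hχ, smul_eq_mul, mul_comm (v i)]
    simp only [mul_assoc]
    congr 3
    funext k
    simp [Pi.single_apply, eq_comm]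
  let Φ : (ι → F) →ₗ[F] F :=
    (dotProductBilin F F (emb χ)).comp (Matrix.mulVecLin ((P⁻¹ : GL ι F) : Matrix ι ι F))
  have hΦ : ∀ v : ι → F₀, Φ (rat P v) = ((χ ⬝ᵥ v : F₀) : F) := fun v => by
    show emb χ ⬝ᵥ (((P⁻¹ : GL ι F) : Matrix ι ι F) *ᵥ rat P v) = _
    rw [SubfieldRational.rat, inv_act_act]
    exact (RingHom.map_dotProduct (F₀.subtype : F₀ →+* F) χ v).symm
  have hker : ext P S ≤ LinearMap.ker Φ := Submodule.span_le.mpr fun z hz => by
    obtain ⟨v, hv, rfl⟩ := hz
    have h0 : φ v ∈ S.map φ := Submodule.mem_map_of_mem hv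
    rw [hφS, Submodule.mem_bot] at h0
    show Φ (rat P v) = 0
    rw [hΦ, hdot, h0, mul_zero]; rfl
  have h1 : Φ x = 0 := hker hx
  rw [h, map_add, map_add, map_smul, map_smul, hΦ, hΦ, show Φ y = 0 from hker hy, hdot a,
    inv_mul_cancel₀ hφa, zero_add, OneMemClass.coe_one, smul_eq_mul, mul_one, smul_eq_mul] at h1
  refine ⟨w - (χ ⬝ᵥ w) • a, ?_⟩
  rw [h, SubfieldRational.rat_sub, SubfieldRational.rat_smul]
  linear_combination (norm := module) congrArg (· • rat P a) h1

end Rat

end Cfsg.Agent.UnitarySubfieldRoot
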