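import Mathlib
import Cfsg.Agent.Lib.UnitarySubfieldRoot
import Cfsg.Agent.Lib.OrthSubfieldMax44
import Cfsg.Agent.Lib.RatLines22

/-!
An overgroup of the rational root elements of an orthogonal subfield structure of a unitary space
which does not preserve the rational lines contains every unitary transvection.
-/

set_option autoImplicit false
set_option linter.unusedSectionVars false

namespace Cfsg.Agent.UnitaryOrthSub22

open QuadraticMap Module
open Cfsg.Agent.OrthUnitaryQuad (polar_self_mul)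
open Cfsg.Agent.TransvectionMax (gl_ext mul_act one_act act_inv_act inv_act_act act_injective)
open Cfsg.Agent.TransvectionUnitary (skew_zero sigma_f sigma_sigma)
open Cfsg.Agent.SubfieldRational (rat rat_add rat_smul rat_zero rat_sub rat_eq_zero)
open Cfsg.Agent.UnitarySubfieldRoot
open Cfsg.Agent.OrthSubfieldCore44 (exists_sing_avoid exists_partner_perp exists_three)
open scoped MatrixGroups Matrix

variable {ι : Type} [Fintype ι] [DecidableEq ι] {F : Type*} [Field F] [Fintype F] {F₀ : Subfield F}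

/-- An orthogonal subfield structure of a unitary space and an overgroup of its root elements. -/
structure UData (σ : F ≃+* F) (f : (ι → F) → (ι → F) → F) (P : GL ι F)
    (q : QuadraticForm F₀ (ι → F₀)) (M : Subgroup (GL ι F)) : Prop where
  hf : Cfsg.Geo.IsUnitaryForm σ f
  hn : 6 ≤ Fintype.card ι
  two : (2 : F) ≠ 0
  fix : ∀ x : F, σ x = x ↔ x ∈ F₀
  fin2 : finrank F₀ F = 2
  hpol : ∀ u v, f (rat P u) (rat P v) = ((polar q u v : F₀) : F)
  iso : ∀ g ∈ M, TransvectionUnitaryGen.Iso f g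
  hrat : ∀ a x, q a = 0 → polar q a x = 0 → InE f M (rat P a) (rat P x) (-(q x : F))

variable {σ : F ≃+* F} {f : (ι → F) → (ι → F) → F} {P : GL ι F} {q : QuadraticForm F₀ (ι → F₀)}
  {M : Subgroup (GL ι F)}

/-- Some root element at `a` with direction `w` lies in `M`. -/
def E (f : (ι → F) → (ι → F) → F) (P : GL ι F) (M : Subgroup (GL ι F)) (a : ι → F₀) (w : ι → F) :
    Prop :=
  f w (rat P a) = 0 ∧ ∃ s, InE f M (rat P a) w s

/-- All directions `l` times rational at `a`. -/
def Good (f : (ι → F) → (ι → F) → F) (P : GL ι F) (q : QuadraticForm F₀ (ι → F₀))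
    (M : Subgroup (GL ι F)) (a : ι → F₀) (l : F) : Prop :=
  ∀ y, polar q a y = 0 → E f P M a (l • rat P y)

variable (X : UData σ f P q M)
include X

theorem fin : 6 ≤ finrank F₀ (ι → F₀) := by rw [Module.finrank_pi]; exact X.hn

theorem sing {a : ι → F₀} (ha : q a = 0) : f (rat P a) (rat P a) = 0 := by
  rw [X.hpol, polar_self_mul, ha, mul_zero]; rfl

theorem orth {a b : ι → F₀} (h : polar q a b = 0) : f (rat P a) (rat P b) = 0 := by
  rw [X.hpol, h]; rfl

theorem orth' {a b : ι → F₀} (h : polar q a b = 0) : f (rat P b) (rat P a) = 0 :=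
  skew_zero X.hf (orth X h)

theorem eq_of_f {v v' : ι → F} (h : ∀ u : ι → F₀, f (rat P u) v = f (rat P u) v') : v = v' := by
  by_contra hne
  obtain ⟨x, hx⟩ := (X.hf.nondegenerate (v - v') (sub_ne_zero.2 hne)).1
  refine hx (SubfieldRational.eq_zero_of_rat P (TransvectionUnitary.uLeft X.hf (v - v'))
    (fun (u : ι → F₀) => ?_) x)
  show f (rat P u) (v - v') = 0
  rw [TransvectionUnitary.sub_right X.hf, h, sub_self]

theorem nd : (polarBilin q).Nondegenerate := by
  have h1 : ∀ x, (∀ y, polar q y x = 0) → x = 0 := fun x hx => rat_eq_zero P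
    (eq_of_f X fun y => by rw [orth X (hx y), TransvectionUnitary.zero_right X.hf])
  exact ⟨fun x hx => h1 x fun y => by rw [polar_comm]; exact hx y, fun x hx => h1 x hx⟩

/-- A vector pairing rationally with the rational vectors is rational. -/
theorem exists_of_val {v : ι → F} (h : ∀ u : ι → F₀, f (rat P u) v ∈ F₀) : ∃ v₀ : ι → F₀, v = rat P v₀ := by
  let φ : (ι → F₀) →ₗ[F₀] F₀ :=
    { toFun := fun u => ⟨f (rat P u) v, h u⟩
      map_add' := fun x y => Subtype.ext (by
        show f (rat P (x + y)) v = f (rat P x) v + f (rat P y) v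
        rw [rat_add, X.hf.add_left])
      map_smul' := fun c x => Subtype.ext (by
        show f (rat P (c • x)) v = (c : F) * f (rat P x) v
        rw [rat_smul, X.hf.smul_left]) }
  obtain ⟨v₀, hv₀⟩ := (LinearMap.BilinForm.toDual (polarBilin q) (nd X)).surjective φ
  refine ⟨v₀, eq_of_f X fun u => ?_⟩
  have := congrArg (fun L => ((L u : F₀) : F)) hv₀
  simp only [LinearMap.BilinForm.toDual_def, polarBilin_apply_apply] at this
  rw [X.hpol, polar_comm q u v₀, this]
  rfl

theorem decomp {l : F} (hl : l ∉ F₀) (c : F) : ∃ r t : F₀, c = r + t * l := by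
  have hd : l - σ l ≠ 0 := fun h => hl ((X.fix l).1 (sub_eq_zero.1 h).symm)
  have ht : (c - σ c) / (l - σ l) ∈ F₀ := (X.fix _).1 (by
    rw [map_div₀, map_sub, map_sub, sigma_sigma X.hf, sigma_sigma X.hf, ← neg_sub c, ← neg_sub l,
      neg_div_neg_eq])
  have hr : c - (c - σ c) / (l - σ l) * l ∈ F₀ := (X.fix _).1 (by
    rw [map_sub, map_mul, (X.fix _).2 ht]
    field_simp
    ring)
  exact ⟨⟨_, hr⟩, ⟨_, ht⟩, by simp⟩

theorem E_add {a : ι → F₀} (ha : q a = 0) {w w' : ι → F} (h : E f P M a w) (h' : E f P M a w') :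
    E f P M a (w + w') := by
  obtain ⟨hw, s, hs⟩ := h
  obtain ⟨hw', s', hs'⟩ := h'
  exact ⟨by rw [X.hf.add_left, hw, hw', add_zero], _, inE_add X.hf (sing X ha) hw hw' hs hs'⟩

theorem E_neg {a : ι → F₀} (ha : q a = 0) {w : ι → F} (h : E f P M a w) : E f P M a (-w) := by
  obtain ⟨hw, s, hs⟩ := h
  exact ⟨by rw [TransvectionUnitary.neg_left X.hf, hw, neg_zero], _,
    inE_neg X.hf (sing X ha) hw hs⟩

theorem E_sub {a : ι → F₀} (ha : q a = 0) {w w' : ι → F} (h : E f P M a w) (h' : E f P M a w') :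
    E f P M a (w - w') := by
  rw [sub_eq_add_neg]; exact E_add X ha h (E_neg X ha h')

theorem E_self {a : ι → F₀} (ha : q a = 0) (κ : F) : E f P M a (κ • rat P a) := by
  refine ⟨by rw [X.hf.smul_left, sing X ha, mul_zero], σ κ - κ, 1, M.one_mem, fun x => ?_⟩
  rw [one_act, TransvectionUnitary.smul_right X.hf]
  module

theorem E_zero {a : ι → F₀} (ha : q a = 0) : E f P M a 0 := by
  simpa using E_self X ha 0

theorem E_rat {a x : ι → F₀} (ha : q a = 0) (hx : polar q a x = 0) : E f P M a (rat P x) :=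
  ⟨orth' X hx, _, X.hrat a x ha hx⟩

theorem E_conj {a : ι → F₀} {g : GL ι F} (hg : g ∈ M)
    (hga : (g : Matrix ι ι F) *ᵥ rat P a = rat P a) {w : ι → F} (h : E f P M a w) :
    E f P M a ((g : Matrix ι ι F) *ᵥ w) := by
  obtain ⟨hw, s, hs⟩ := h
  have h1 := inE_conj X.hf (X.iso g hg) hg hs
  rw [hga] at h1
  refine ⟨?_, s, h1⟩
  conv_lhs => rw [← hga]
  rw [X.iso g hg, hw]

/-- Transfer along a rational root element fixing the centre. -/
theorem E_transfer {a u x : ι → F₀} (ha : q a = 0) (hu : q u = 0) (hx : q x = 0)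
    (hux : polar q u x = 0) (hau : polar q a u = 0) (hax : polar q a x = 0) {w : ι → F}
    (h : E f P M a w) :
    E f P M a (f w (rat P u) • rat P x - f w (rat P x) • rat P u) := by
  obtain ⟨g, hg, hgx⟩ := X.hrat u x hu hux
  have h1 := E_sub X ha (E_conj X hg (by
    rw [hgx, orth X hau, orth X hax]; simp) h) h
  rw [hgx, hx] at h1
  convert h1 using 1
  simp only [ZeroMemClass.coe_zero, neg_zero, zero_mul, zero_smul, add_zero]
  module

theorem two0 : (2 : F₀) ≠ 0 := fun h => X.two (congrArg Subtype.val h)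

/-- A vector with non-zero value orthogonal to few vectors. -/
theorem exists_aniso {k : ℕ} (s : Fin k → ι → F₀) (hk : k ≤ 2) :
    ∃ z, (∀ i, polar q (s i) z = 0) ∧ q z ≠ 0 := by
  let L : (ι → F₀) →ₗ[F₀] (Fin k → F₀) := LinearMap.pi fun i => polarBilin q (s i)
  have h1 := LinearMap.finrank_range_add_finrank_ker L
  have h2 : finrank F₀ (LinearMap.range L) ≤ k := (Submodule.finrank_le _).trans_eq (by simp)
  by_contra hall
  push Not at hall
  have hfin := fin X
  have h3 := RatLines22.ts_small q (nd X) (Z := LinearMap.ker L) fun z hz =>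
    hall z fun i => congrFun (LinearMap.mem_ker.1 hz) i
  omega

/-- Transfer along a rational root element with any direction. -/
theorem E_transfer' {a u z : ι → F₀} (ha : q a = 0) (hu : q u = 0) (huz : polar q u z = 0)
    (hau : polar q a u = 0) (haz : polar q a z = 0) {w : ι → F} (h : E f P M a w) :
    E f P M a (f w (rat P u) • rat P z - f w (rat P z) • rat P u -
      ((q z : F) * f w (rat P u)) • rat P u) := by
  obtain ⟨g, hg, hgx⟩ := X.hrat u z hu huz
  have h1 := E_sub X ha (E_conj X hg (by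
    rw [hgx, orth X hau, orth X haz]; simp) h) h
  rw [hgx] at h1
  convert h1 using 1
  module

/-- From one direction to all. -/
theorem good_of_one {a x : ι → F₀} (ha : q a = 0) (hx : q x = 0) (hax : polar q a x = 0)
    (hxa : x ∉ Submodule.span F₀ {a}) {l : F} (h : E f P M a (l • rat P x)) : Good f P q M a l := by
  have hq := nd X
  have hfin := fin X
  have h20 := two0 X
  obtain ⟨x₂, hx₂, hxx, hp⟩ := exists_partner_perp q hq ![a] hx (by
    rwa [show Set.range ![a] = {a} by simp]) (fun i => by fin_cases i; exact hax)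
  have hax₂ : polar q a x₂ = 0 := hp 0
  have hperp : ∀ z, polar q a z = 0 → polar q x z = 0 → polar q x₂ z = 0 →
      E f P M a (l • rat P z) := by
    intro z haz hxz hx₂z
    set z' := (2 : F₀)⁻¹ • z with hz'
    have h1 := E_transfer' X ha hx₂ (z := z') (by rw [hz', polar_smul_right, hx₂z, smul_zero]) hax₂
      (by rw [hz', polar_smul_right, haz, smul_zero]) h
    have h2 := E_transfer' X ha hx₂ (z := -z') (by rw [hz', polar_neg_right, polar_smul_right, hx₂z,
      smul_zero, neg_zero]) hax₂ (by rw [hz', polar_neg_right, polar_smul_right, haz, smul_zero, neg_zero]) h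
    have h3 := E_sub X ha h1 h2
    have e1 : f (l • rat P x) (rat P x₂) = l := by
      rw [X.hf.smul_left, X.hpol, hxx, OneMemClass.coe_one, mul_one]
    have e2 : f (l • rat P x) (rat P z') = 0 := by
      rw [X.hf.smul_left, orth X (show polar q x z' = 0 by rw [hz', polar_smul_right, hxz, smul_zero]), mul_zero]
    rw [SubfieldRational.rat_neg, TransvectionUnitary.neg_right X.hf, QuadraticMap.map_neg, e1, e2] at h3
    convert h3 using 1
    have hz : z = z' + z' := by
      rw [hz', ← add_smul, ← two_mul, mul_inv_cancel₀ h20, one_smul]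
    conv_lhs => rw [hz, rat_add]
    module
  obtain ⟨z₀, hz₀, hqz⟩ : ∃ z, (polar q a z = 0 ∧ polar q x z = 0 ∧ polar q x₂ z = 0) ∧ q z ≠ 0 := by
    let L : (ι → F₀) →ₗ[F₀] (Fin 3 → F₀) := LinearMap.pi fun i => polarBilin q (![a, x, x₂] i)
    have h1 := LinearMap.finrank_range_add_finrank_ker L
    have h2 : finrank F₀ (LinearMap.range L) ≤ 3 := (Submodule.finrank_le _).trans_eq (by simp)
    have hL : ∀ z ∈ LinearMap.ker L, ∀ i, polar q (![a, x, x₂] i) z = 0 := fun z hz i =>
      congrFun (LinearMap.mem_ker.1 hz) i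
    by_contra hall
    push Not at hall
    have hts : ∀ z ∈ LinearMap.ker L, q z = 0 := fun z hz => hall z ⟨hL z hz 0, hL z hz 1, hL z hz 2⟩
    have hxm := RatLines22.ts_mem q hq hfin hts (by omega) (c := x) fun z hz => hL z hz 1
    have h5 : polar q x₂ x = 0 := hL x hxm 2
    rw [polar_comm, hxx] at h5
    exact one_ne_zero h5
  have hmul : ∀ (u : ι → F₀), q u = 0 → polar q a u = 0 → polar q u z₀ = 0 → ∀ t : F₀,
      E f P M a (l • rat P (t • u)) := by
    intro u hu hau huz t
    set s : F₀ := -t * ((2 : F₀) * q z₀)⁻¹ with hs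
    have h1 := E_transfer' X ha hu (z := s • z₀) (by rw [polar_smul_right, huz, smul_zero]) hau
      (by rw [polar_smul_right, hz₀.1, smul_zero]) (hperp z₀ hz₀.1 hz₀.2.1 hz₀.2.2)
    have e1 : f (l • rat P z₀) (rat P u) = 0 := by
      rw [X.hf.smul_left, orth X (show polar q z₀ u = 0 by rw [polar_comm]; exact huz), mul_zero]
    have e2 : f (l • rat P z₀) (rat P (s • z₀)) = -(l * t) := by
      rw [X.hf.smul_left, X.hpol, polar_smul_right, polar_self_mul, smul_eq_mul,
        show s * (2 * q z₀) = -t by rw [hs, inv_mul_cancel_right₀ (mul_ne_zero h20 hqz)],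
        NegMemClass.coe_neg, mul_neg]
    rw [e1, e2] at h1
    convert h1 using 1
    rw [rat_smul, smul_smul]
    module
  intro y hy
  set y' := y - polar q x y • x₂ - polar q x₂ y • x with hy'
  have pxx : polar q x x = 0 := by rw [polar_self_mul, hx, mul_zero]
  have p22 : polar q x₂ x₂ = 0 := by rw [polar_self_mul, hx₂, mul_zero]
  have e : y = y' + polar q x y • x₂ + polar q x₂ y • x := by rw [hy']; abel
  rw [e, rat_add, rat_add, smul_add, smul_add]
  refine E_add X ha (E_add X ha (hperp y' ?_ ?_ ?_) (hmul x₂ hx₂ hax₂ hz₀.2.2 _)) (hmul x hx hax hz₀.2.1 _)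
  · simp [hy', polar_sub_right, polar_smul_right, hy, hax₂, hax]
  · simp [hy', polar_sub_right, polar_smul_right, hxx, pxx]
  · simp [hy', polar_sub_right, polar_smul_right, polar_comm q x₂ x, hxx, p22]

/-- An irrational multiplier gives the transvections. -/
theorem tg_of_good {a : ι → F₀} (ha : q a = 0) {l : F} (hl : l ∉ F₀) (hg : Good f P q M a l)
    {c : F} (hc : σ c = -c) : Tg σ f (rat P a) c ∈ M := by
  have hfin := fin X
  obtain ⟨x, hx, hxp, hxs⟩ := exists_sing_avoid q ![a] (by omega)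
  obtain ⟨x', hx', hxx, hx'p⟩ := exists_partner_perp q (nd X) ![a] hx hxs hxp
  have hd : l - σ l ≠ 0 := fun h => hl ((X.fix l).1 (sub_eq_zero.1 h).symm)
  have ht : c / (l - σ l) ∈ F₀ := (X.fix _).1 (by
    rw [map_div₀, hc, map_sub, sigma_sigma X.hf, ← neg_sub l, neg_div_neg_eq])
  obtain ⟨hw, s, hs⟩ := hg x (hxp 0)
  obtain ⟨hw', s', hs'⟩ := E_rat X ha (x := (⟨_, ht⟩ : F₀) • x')
    (by rw [polar_smul_right, show polar q a x' = 0 from hx'p 0, smul_zero])
  have h := inE_comm X.hf (sing X ha) hw hw' hs hs'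
  convert h using 2
  rw [rat_smul, X.hf.smul_left, X.hf.smul_left, TransvectionUnitary.smul_right X.hf,
    TransvectionUnitary.smul_right X.hf, X.hpol, X.hpol, polar_comm q x' x, hxx, (X.fix _).2 ht]
  simp only [OneMemClass.coe_one, mul_one]
  rw [mul_comm (c / (l - σ l)) (σ l), ← sub_mul, mul_div_cancel₀ _ hd]

theorem trace {a : ι → F₀} (ha : q a = 0) (ha0 : a ≠ 0) {g : GL ι F} (hg : g ∈ M) {w : ι → F}
    {s : F} (hw : f w (rat P a) = 0) (hE : EAct f g (rat P a) w s) : f w w + s + σ s = 0 := by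
  obtain ⟨r, hr, har, -⟩ := exists_partner_perp q (nd X) (fun i : Fin 0 => i.elim0) ha
    (by simpa [Set.range_eq_empty] using ha0) (fun i => i.elim0)
  exact hE.trace X.hf (X.iso g hg) (sing X ha) (sing X hr)
    (by rw [X.hpol, polar_comm, har]; rfl) hw

/-- From one centre to an orthogonal one. -/
theorem good_move {a b : ι → F₀} (ha : q a = 0) (ha0 : a ≠ 0) (hb : q b = 0)
    (hab : polar q a b = 0) (hab' : a ∉ Submodule.span F₀ {b}) {l : F} (hl : l ∉ F₀)
    (hg : Good f P q M a l) : ∃ l', l' ∉ F₀ ∧ Good f P q M b l' := by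
  refine ⟨-σ l, fun h => hl ?_, good_of_one X hb ha (by rw [polar_comm, hab]) hab' ?_⟩
  · have h1 : σ l ∈ F₀ := by simpa using F₀.neg_mem h
    have h2 := (X.fix _).2 h1
    rw [sigma_sigma X.hf] at h2
    rw [h2]; exact h1
  obtain ⟨hw, s, g, hgM, hgx⟩ := hg b hab
  have htr := trace X ha ha0 hgM hw hgx
  rw [X.hf.smul_left, TransvectionUnitary.smul_right X.hf, sing X hb, mul_zero, mul_zero,
    zero_add] at htr
  have h0 := inE_shift X.hf (sing X ha) hw ⟨g, hgM, hgx⟩
    (c := -s) (tg_of_good X ha hl hg (by rw [map_neg]; linear_combination -htr))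
  rw [add_neg_cancel] at h0
  obtain ⟨g', hg'M, hg'x⟩ := h0
  refine ⟨by rw [X.hf.smul_left, orth X hab, mul_zero], 0, g', hg'M, fun x => ?_⟩
  rw [hg'x, TransvectionUnitary.smul_right X.hf, TransvectionUnitary.smul_right X.hf, map_neg,
    sigma_sigma X.hf]
  module

/-- An irrational direction gives an irrational multiplier at every centre. -/
theorem exists_good {a : ι → F₀} {w : ι → F} (ha : q a = 0) (ha0 : a ≠ 0) (h : E f P M a w)
    (hirr : ∀ (v : ι → F₀) (κ : F), w ≠ rat P v + κ • rat P a) {b : ι → F₀} (hb : q b = 0)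
    (hb0 : b ≠ 0) : ∃ l, l ∉ F₀ ∧ Good f P q M b l := by
  have hq := nd X
  have hfin := fin X
  obtain ⟨r, hr, har, -⟩ := exists_partner_perp q hq (fun i : Fin 0 => i.elim0) ha
    (by simpa [Set.range_eq_empty] using ha0) (fun i => i.elim0)
  set w' := w - f w (rat P r) • rat P a with hw'
  have hS : E f P M a w' := E_sub X ha h (E_self X ha _)
  have hrw : f w' (rat P r) = 0 := by
    rw [hw', TransvectionUnitary.sub_left X.hf, X.hf.smul_left, X.hpol, har]; simp
  have haw : f w' (rat P a) = 0 := hS.1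
  obtain ⟨u, hu, hau, hru, hl⟩ : ∃ u, q u = 0 ∧ polar q a u = 0 ∧ polar q r u = 0 ∧
      f w' (rat P u) ∉ F₀ := by
    by_contra hno
    push Not at hno
    have hall : ∀ x : ι → F₀, f (rat P x) w' ∈ F₀ := by
      intro x
      obtain ⟨b₁, b₂, b₃, hx, h1, h2, h3⟩ := RatLines22.three_pair q hq hfin (two0 X) ha hr
        (by rw [har]; exact one_ne_zero)
        (v := x + (-(polar q r x)) • a + (-(polar q a x)) • r) (fun i => by
          fin_cases i <;>
            simp [polar_add_right, polar_smul_right, polar_self_mul, ha, hr, har, polar_comm q r a])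
      have hjx : f (rat P x) w' =
          f (rat P (x + (-(polar q r x)) • a + (-(polar q a x)) • r)) w' := by
        rw [rat_add, rat_add, rat_smul, rat_smul, X.hf.add_left, X.hf.add_left, X.hf.smul_left,
          X.hf.smul_left, skew_zero X.hf haw, skew_zero X.hf hrw]
        simp
      have hb' : ∀ b, q b = 0 → polar q a b = 0 → polar q r b = 0 → f (rat P b) w' ∈ F₀ :=
        fun b h1 h2 h3 => by
          have h4 := hno b h1 h2 h3
          rw [← sigma_f X.hf w' (rat P b), (X.fix _).2 h4]; exact h4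
      rw [hjx, hx, rat_add, rat_add, X.hf.add_left, X.hf.add_left]
      exact F₀.add_mem (F₀.add_mem (hb' b₁ h1.1 (h1.2 0) (h1.2 1)) (hb' b₂ h2.1 (h2.2 0) (h2.2 1)))
        (hb' b₃ h3.1 (h3.2 0) (h3.2 1))
    obtain ⟨v, hv⟩ := exists_of_val X hall
    exact hirr v (f w (rat P r)) (by rw [← hv, hw']; module)
  set l := f w' (rat P u) with hl'
  obtain ⟨z, hzp, hqz⟩ := exists_aniso X ![a, u] le_rfl
  have haz : polar q a z = 0 := hzp 0
  have huz : polar q u z = 0 := hzp 1
  have hp1 := E_transfer' X ha hu huz hau haz hS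
  have hp2 := E_transfer' X ha hu (z := -z) (by rw [polar_neg_right, huz, neg_zero]) hau
    (by rw [polar_neg_right, haz, neg_zero]) hS
  have hsum := E_add X ha hp1 hp2
  set x := (-(2 * q z)) • u with hxdef
  have hc0 : -(2 * q z) ≠ 0 := neg_ne_zero.2 (mul_ne_zero (two0 X) hqz)
  have hxl : E f P M a (l • rat P x) := by
    convert hsum using 1
    rw [hxdef, rat_smul, SubfieldRational.rat_neg, TransvectionUnitary.neg_right X.hf,
      QuadraticMap.map_neg, smul_smul]
    simp only [NegMemClass.coe_neg, MulMemClass.coe_mul]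
    rw [show ((2 : F₀) : F) = 2 from rfl]
    module
  have hua : u ∉ Submodule.span F₀ {a} := by
    intro hm
    obtain ⟨t, rfl⟩ := Submodule.mem_span_singleton.1 hm
    exact hl (by rw [hl', rat_smul, TransvectionUnitary.smul_right X.hf, haw, mul_zero]; exact F₀.zero_mem)
  have hga : Good f P q M a l := good_of_one X ha (x := x)
    (by rw [hxdef, QuadraticMap.map_smul, hu, smul_zero])
    (by rw [hxdef, polar_smul_right, hau, smul_zero])
    (fun hm => hua ((Submodule.smul_mem_iff _ hc0).1 hm)) hxl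
  obtain ⟨e, he, heap, hebp, hesa, hesb⟩ := RatLines22.pick_two q hfin ha ha0 hb hb0
  have hea : a ∉ Submodule.span F₀ {e} := by
    intro h
    obtain ⟨s, hs⟩ := Submodule.mem_span_singleton.1 h
    have hs0 : s ≠ 0 := fun h0 => ha0 (by rw [← hs, h0, zero_smul])
    exact hesa (by
      rw [show e = s⁻¹ • a by rw [← hs, inv_smul_smul₀ hs0]]
      exact Submodule.smul_mem _ _ (Submodule.mem_span_singleton_self a))
  have he0 : e ≠ 0 := fun h => hesa (h ▸ Submodule.zero_mem _)
  obtain ⟨l₁, hl₁, hg₁⟩ := good_move X ha ha0 he heap hea hl hga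
  refine good_move X he he0 hb (by rw [polar_comm]; exact hebp) ?_ hl₁ hg₁
  intro h
  obtain ⟨s, hs⟩ := Submodule.mem_span_singleton.1 h
  exact hesb (hs ▸ Submodule.smul_mem _ _ (Submodule.mem_span_singleton_self b))

/-- The full radical at a rational centre. -/
theorem full {a : ι → F₀} (ha : q a = 0) (ha0 : a ≠ 0) {l : F} (hl : l ∉ F₀)
    (hg : Good f P q M a l) {w : ι → F} (hw : f w (rat P a) = 0) : E f P M a w := by
  obtain ⟨r, hr, har, -⟩ := exists_partner_perp q (nd X) (fun i : Fin 0 => i.elim0) ha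
    (by simpa [Set.range_eq_empty] using ha0) (fun i => i.elim0)
  obtain ⟨y, hy⟩ := SubfieldRational.exists_combination (F₀ := F₀) P w
  have key : ∀ (c : F) (u : ι → F₀), E f P M a (c • rat P (u - polar q a u • r)) := by
    intro c u
    have hu : polar q a (u - polar q a u • r) = 0 := by
      rw [polar_sub_right, polar_smul_right, har]; simp
    obtain ⟨s, t, rfl⟩ := decomp X hl c
    rw [add_smul, mul_comm, ← smul_smul, ← rat_smul, ← rat_smul]
    exact E_add X ha (E_rat X ha (by rw [polar_smul_right, hu, smul_zero]))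
      (hg _ (by rw [polar_smul_right, hu, smul_zero]))
  have hsum : E f P M a (∑ i, y i • rat P (Pi.single i 1 - polar q a (Pi.single i 1) • r)) :=
    Finset.sum_induction _ _ (fun _ _ => E_add X ha) (E_zero X ha) fun i _ => key _ _
  convert hsum using 1
  simp only [rat_sub, rat_smul, smul_sub, Finset.sum_sub_distrib, smul_smul, ← Finset.sum_smul,
    ← hy]
  have h0 : ∑ i, y i * ((polar q a (Pi.single i 1) : F₀) : F) = 0 := by
    rw [← hw]
    show _ = TransvectionUnitary.uLeft X.hf (rat P a) w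
    rw [hy, map_sum]
    refine Finset.sum_congr rfl fun i _ => ?_
    rw [map_smul, smul_eq_mul]
    congr 1
    show _ = f (rat P (Pi.single i 1)) (rat P a)
    rw [X.hpol, polar_comm]
  rw [h0, zero_smul, sub_zero]

section Lines

variable (hno : ∀ a w, q a = 0 → a ≠ 0 → E f P M a w →
      ∃ (v : ι → F₀) (κ : F), w = rat P v + κ • rat P a)
include hno

/-- The directions from a conjugate root element fixing `a'`. -/
theorem conj_dir {g : GL ι F} (hg : g ∈ M) {a x a' z : ι → F₀} (ha : q a = 0)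
    (hax : polar q a x = 0) (ha' : q a' = 0) (ha'0 : a' ≠ 0)
    (hC : f (rat P a') ((g : Matrix ι ι F) *ᵥ rat P a) = 0)
    (hW : f (rat P a') ((g : Matrix ι ι F) *ᵥ rat P x) = 0) (hz : polar q a' z = 0) :
    ∃ (v : ι → F₀) (κ : F),
      f (rat P z) ((g : Matrix ι ι F) *ᵥ rat P a) • ((g : Matrix ι ι F) *ᵥ rat P x) -
        f (rat P z) ((g : Matrix ι ι F) *ᵥ rat P x) • ((g : Matrix ι ι F) *ᵥ rat P a) -
        ((q x : F) * f (rat P z) ((g : Matrix ι ι F) *ᵥ rat P a)) • ((g : Matrix ι ι F) *ᵥ rat P a) =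
          rat P v + κ • rat P a' := by
  obtain ⟨k₀, hk₀, hk₀x⟩ := inE_conj X.hf (X.iso g hg) hg (X.hrat a x ha hax)
  obtain ⟨v, κ, h⟩ := hno a' _ ha' ha'0 (E_sub X ha' (E_conj X hk₀ (by rw [hk₀x, hC, hW]; simp)
    (E_rat X ha' hz)) (E_rat X ha' hz))
  refine ⟨v, κ, ?_⟩
  rw [← h, hk₀x]
  module

/-- With a non-singular direction the image lies in a rational plane through `a'`. -/
theorem quad_step {g : GL ι F} (hg : g ∈ M) {a x a' : ι → F₀} (ha : q a = 0)
    (hax : polar q a x = 0) (hqx : q x ≠ 0) (ha' : q a' = 0) (ha'0 : a' ≠ 0)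
    (hC : f (rat P a') ((g : Matrix ι ι F) *ᵥ rat P a) = 0)
    (hW : f (rat P a') ((g : Matrix ι ι F) *ᵥ rat P x) = 0) :
    ∃ (v : ι → F₀) (l κ : F), (g : Matrix ι ι F) *ᵥ rat P a = l • rat P v + κ • rat P a' := by
  generalize hCdef : (g : Matrix ι ι F) *ᵥ rat P a = C at hC ⊢
  by_cases hz : ∀ z, polar q a' z = 0 → f (rat P z) C = 0
  · obtain ⟨r, -, har, -⟩ := exists_partner_perp q (nd X) (fun i : Fin 0 => i.elim0) ha'
      (by simpa [Set.range_eq_empty] using ha'0) (fun i => i.elim0)
    refine ⟨0, 0, σ (f (rat P r) C), eq_of_f X fun u => ?_⟩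
    have h := hz (u - polar q a' u • r) (by rw [polar_sub_right, polar_smul_right, har]; simp)
    rw [rat_sub, rat_smul, TransvectionUnitary.sub_left X.hf, X.hf.smul_left, sub_eq_zero] at h
    rw [h, rat_zero, smul_zero, zero_add, TransvectionUnitary.smul_right X.hf, sigma_sigma X.hf,
      X.hpol, polar_comm q u a']
    ring
  push Not at hz
  obtain ⟨z, hz, hzC⟩ := hz
  obtain ⟨v, κ, h1⟩ := conj_dir X hno hg ha hax ha' ha'0 (hCdef ▸ hC) hW hz
  obtain ⟨v', κ', h2⟩ := conj_dir X hno hg ha (x := -x) (by rw [polar_neg_right, hax, neg_zero]) ha' ha'0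
    (hCdef ▸ hC) (by rw [SubfieldRational.rat_neg, Matrix.mulVec_neg, TransvectionUnitary.neg_right X.hf,
      hW, neg_zero]) hz
  rw [hCdef] at h1 h2
  rw [SubfieldRational.rat_neg, Matrix.mulVec_neg, TransvectionUnitary.neg_right X.hf,
    QuadraticMap.map_neg] at h2
  set d : F := -(2 * (q x : F) * f (rat P z) C) with hd
  have hd0 : d ≠ 0 := neg_ne_zero.2 (mul_ne_zero (mul_ne_zero X.two fun h => hqx (Subtype.ext h)) hzC)
  refine ⟨v + v', d⁻¹, d⁻¹ * (κ + κ'), ?_⟩
  have hsum : d • C = rat P (v + v') + (κ + κ') • rat P a' := by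
    rw [rat_add, add_smul, hd]
    linear_combination (norm := module) h1 + h2
  rw [← smul_smul, ← smul_add, ← hsum, inv_smul_smul₀ hd0]

/-- An image cannot be an irrational point of a rational singular plane. -/
theorem plane_step {g : GL ι F} (hg : g ∈ M) {a v a' : ι → F₀} (ha : q a = 0) (ha0 : a ≠ 0)
    (hv : q v = 0) (ha' : q a' = 0) (hva : polar q v a' = 0) (ha'0 : a' ≠ 0)
    (hvi : v ∉ Submodule.span F₀ {a'}) {l θ : F} (hθ : θ ∉ F₀)
    (hC : (g : Matrix ι ι F) *ᵥ rat P a = l • (rat P v + θ • rat P a')) : False := by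
  have hq := nd X
  have hfin := fin X
  have hv0 : v ≠ 0 := fun h => hvi (h ▸ Submodule.zero_mem _)
  have ha'i : a' ∉ Submodule.span F₀ {v} := fun h => by
    obtain ⟨t, ht⟩ := Submodule.mem_span_singleton.1 h
    have ht0 : t ≠ 0 := fun h0 => ha'0 (by rw [← ht, h0, zero_smul])
    exact hvi (Submodule.mem_span_singleton.2 ⟨t⁻¹, by rw [← ht, inv_smul_smul₀ ht0]⟩)
  have hl : l ≠ 0 := fun h => by
    rw [h, zero_smul] at hC
    have h1 : rat P a = 0 := act_injective g (hC.trans (Matrix.mulVec_zero _).symm)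
    exact ha0 (rat_eq_zero P h1)
  obtain ⟨r, -, hvr, hra'⟩ := exists_partner_perp q hq ![a'] hv
    (by rwa [show Set.range ![a'] = {a'} by simp]) (fun i => by fin_cases i; simpa [polar_comm] using hva)
  obtain ⟨r', -, ha'r', hr'v⟩ := exists_partner_perp q hq ![v] ha'
    (by rwa [show Set.range ![v] = {v} by simp]) (fun i => by fin_cases i; exact hva)
  have hfa' : f (rat P a') ((g : Matrix ι ι F) *ᵥ rat P a) = 0 := by
    rw [hC, TransvectionUnitary.smul_right X.hf, TransvectionUnitary.add_right X.hf,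
      TransvectionUnitary.smul_right X.hf, orth' X hva, sing X ha']
    ring
  have hfv : f (rat P v) ((g : Matrix ι ι F) *ᵥ rat P a) = 0 := by
    rw [hC, TransvectionUnitary.smul_right X.hf, TransvectionUnitary.add_right X.hf,
      TransvectionUnitary.smul_right X.hf, orth X hva, sing X hv]
    ring
  let L : (ι → F₀) →ₗ[F₀] F₀ × F :=
    { toFun := fun x => (polar q a x, f ((g : Matrix ι ι F) *ᵥ rat P x) (rat P a'))
      map_add' := fun u w => by
        simp only [rat_add, Matrix.mulVec_add, X.hf.add_left, polar_add_right, Prod.mk_add_mk]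
      map_smul' := fun c u => by
        simp only [rat_smul, Matrix.mulVec_smul, X.hf.smul_left, polar_smul_right, RingHom.id_apply,
          Prod.smul_mk, Subfield.smul_def, smul_eq_mul] }
  haveI : Module.Finite F₀ F := Module.Finite.of_finite
  have h1 := LinearMap.finrank_range_add_finrank_ker L
  have h2 : finrank F₀ (LinearMap.range L) ≤ 3 :=
    (Submodule.finrank_le _).trans_eq (by rw [Module.finrank_prod, X.fin2, Module.finrank_self])
  set Pl := Submodule.span F {rat P v, rat P a'}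
  have hmem : ∀ x ∈ LinearMap.ker L, (g : Matrix ι ι F) *ᵥ rat P x ∈ Pl := by
    intro x hx
    have hL := LinearMap.mem_ker.1 hx
    have hax : polar q a x = 0 := congrArg Prod.fst hL
    have hWa' : f ((g : Matrix ι ι F) *ᵥ rat P x) (rat P a') = 0 := congrArg Prod.snd hL
    generalize hWdef : (g : Matrix ι ι F) *ᵥ rat P x = W at hWa'
    have hWv : f W (rat P v) = 0 := by
      have h : f W ((g : Matrix ι ι F) *ᵥ rat P a) = 0 := by
        rw [← hWdef, X.iso g hg, orth' X hax]
      rw [hC, TransvectionUnitary.smul_right X.hf, TransvectionUnitary.add_right X.hf,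
        TransvectionUnitary.smul_right X.hf, hWa', mul_zero, add_zero] at h
      exact (mul_eq_zero.1 h).resolve_left ((map_ne_zero σ).2 hl)
    have hz : ∀ z, polar q v z = 0 → polar q a' z = 0 → f (rat P z) W = 0 := by
      intro z hvz ha'z
      have hzC : f (rat P z) ((g : Matrix ι ι F) *ᵥ rat P a) = 0 := by
        rw [hC, TransvectionUnitary.smul_right X.hf, TransvectionUnitary.add_right X.hf,
          TransvectionUnitary.smul_right X.hf, orth' X hvz, orth' X ha'z]
        ring
      have hkey : ∀ c, q c = 0 → c ≠ 0 → polar q c z = 0 → f (rat P c) W = 0 →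
          f (rat P c) ((g : Matrix ι ι F) *ᵥ rat P a) = 0 →
          ∃ (p : ι → F₀) (κ : F), (-(f (rat P z) W * l)) • rat P v +
            (-(f (rat P z) W * (l * θ))) • rat P a' = rat P p + κ • rat P c := by
        intro c hc hc0 hcz hcW hcC
        obtain ⟨p, κ, h⟩ := conj_dir X hno hg ha hax hc hc0 hcC (hWdef ▸ hcW) hcz
        refine ⟨p, κ, ?_⟩
        rw [← h, hWdef, hzC, hC]
        module
      obtain ⟨p, κ, hp⟩ := hkey a' ha' ha'0 ha'z (skew_zero X.hf hWa') hfa'
      obtain ⟨p', κ', hp'⟩ := hkey v hv hv0 hvz (skew_zero X.hf hWv) hfv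
      have m1 := (SubfieldRational.rat_coeff_mem P ha'0 hvi (a := -(f (rat P z) W * l))
        (b := -(f (rat P z) W * (l * θ)) - κ) (z := p) (by rw [sub_smul, ← add_sub_assoc, hp, add_sub_cancel_right])).1
      have m2 := (SubfieldRational.rat_coeff_mem P hv0 ha'i (a := -(f (rat P z) W * (l * θ)))
        (b := -(f (rat P z) W * l) - κ') (z := p') (by
          rw [sub_smul, ← add_sub_assoc, add_comm, hp', add_sub_cancel_right])).1
      by_contra h0
      refine hθ ?_
      rw [show θ = -(f (rat P z) W * (l * θ)) / -(f (rat P z) W * l) by field_simp]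
      exact F₀.div_mem m2 m1
    refine Submodule.mem_span_pair.2 ⟨σ (f (rat P r) W), σ (f (rat P r') W), eq_of_f X fun u => ?_⟩
    have h := hz (u - polar q v u • r - polar q a' u • r') (by
        have e : polar q v r' = 0 := hr'v 0
        simp [polar_sub_right, polar_smul_right, hvr, e]) (by
        have e : polar q a' r = 0 := hra' 0
        simp [polar_sub_right, polar_smul_right, ha'r', e])
    rw [rat_sub, rat_sub, rat_smul, rat_smul, TransvectionUnitary.sub_left X.hf,
      TransvectionUnitary.sub_left X.hf, X.hf.smul_left, X.hf.smul_left] at h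
    rw [TransvectionUnitary.add_right X.hf, TransvectionUnitary.smul_right X.hf,
      TransvectionUnitary.smul_right X.hf, sigma_sigma X.hf, sigma_sigma X.hf, X.hpol u v, X.hpol u a',
      polar_comm q u v, polar_comm q u a']
    linear_combination -h
  obtain ⟨b, hb⟩ := exists_linearIndependent_of_le_finrank (R := F₀) (M := LinearMap.ker L) (n := 3) (by omega)
  have hb' : LinearIndependent F₀ fun i => ((b i : LinearMap.ker L) : ι → F₀) :=
    hb.map' (LinearMap.ker L).subtype (Submodule.ker_subtype _)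
  have hli : LinearIndependent F fun i => (g : Matrix ι ι F) *ᵥ rat P (b i : ι → F₀) := by
    refine Fintype.linearIndependent_iff.2 fun c hc => ?_
    have h0 : ∑ i, c i • rat P ((b i : ι → F₀)) = rat P (0 : ι → F₀) := act_injective g (by
      show (g : Matrix ι ι F) *ᵥ _ = (g : Matrix ι ι F) *ᵥ _
      rw [rat_zero, Matrix.mulVec_zero, Matrix.mulVec_sum]
      simpa only [Matrix.mulVec_smul] using hc)
    have hmemc := OrthSubfieldMax44.coeff_rat F₀ P _ hb' c 0 h0
    have h3 := Fintype.linearIndependent_iff.1 hb' (fun i => ⟨c i, hmemc i⟩) (rat_eq_zero P (by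
      rw [rat_zero] at h0
      rw [← h0, Fin.sum_univ_three, Fin.sum_univ_three, rat_add, rat_add, rat_smul, rat_smul, rat_smul]))
    exact fun i => congrArg Subtype.val (h3 i)
  have h4 := Submodule.finrank_mono (show Submodule.span F (Set.range fun i =>
      (g : Matrix ι ι F) *ᵥ rat P (b i : ι → F₀)) ≤ Pl from
    Submodule.span_le.2 (by rintro _ ⟨i, rfl⟩; exact hmem _ (b i).2))
  rw [finrank_span_eq_card hli, Fintype.card_fin] at h4
  have h5 : finrank F Pl ≤ 2 := by
    have e : ({rat P v, rat P a'} : Set (ι → F)) = Set.range ![rat P v, rat P a'] := by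
      simp [Set.pair_comm]
    show finrank F (Submodule.span F ({rat P v, rat P a'} : Set (ι → F))) ≤ 2
    rw [e]
    exact (finrank_range_le_card _).trans_eq (Fintype.card_fin 2)
  omega

/-- A point of a rational plane through `a'` that is the image of a singular vector is rational. -/
theorem line_of_plane {g : GL ι F} (hg : g ∈ M) {a v a' : ι → F₀} (ha : q a = 0) (ha0 : a ≠ 0) (ha' : q a' = 0)
    (ha'0 : a' ≠ 0) {l κ : F} (hC : (g : Matrix ι ι F) *ᵥ rat P a = l • rat P v + κ • rat P a')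
    (hCa : f ((g : Matrix ι ι F) *ᵥ rat P a) (rat P a') = 0) :
    ∃ (c : F) (y : ι → F₀), (g : Matrix ι ι F) *ᵥ rat P a = c • rat P y := by
  by_cases hvi : v ∈ Submodule.span F₀ {a'}
  · obtain ⟨t, rfl⟩ := Submodule.mem_span_singleton.1 hvi
    exact ⟨l * t + κ, a', by rw [hC, rat_smul, smul_smul, add_smul]⟩
  rcases eq_or_ne l 0 with rfl | hl
  · exact ⟨κ, a', by rw [hC, zero_smul, zero_add]⟩
  have hC' : (g : Matrix ι ι F) *ᵥ rat P a = l • (rat P v + (κ / l) • rat P a') := by
    rw [hC, smul_add, smul_smul, mul_div_cancel₀ _ hl]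
  by_cases hθ : κ / l ∈ F₀
  · exact ⟨l, v + (⟨_, hθ⟩ : F₀) • a', by rw [hC', rat_add, rat_smul]⟩
  exfalso
  rw [hC, X.hf.add_left, X.hf.smul_left, X.hf.smul_left, sing X ha', mul_zero, add_zero, X.hpol] at hCa
  have hva : polar q v a' = 0 := Subtype.ext ((mul_eq_zero.1 hCa).resolve_left hl)
  have hvv : f (rat P v) (rat P v) = 0 := by
    have h := X.iso g hg (rat P a) (rat P a)
    rw [sing X ha, hC] at h
    simp only [X.hf.add_left, TransvectionUnitary.add_right X.hf, X.hf.smul_left,
      TransvectionUnitary.smul_right X.hf, orth X hva, orth' X hva, sing X ha', mul_zero, add_zero] at h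
    exact ((mul_eq_zero.1 h).resolve_left hl |> mul_eq_zero.1).resolve_left ((map_ne_zero σ).2 hl)
  have hv : q v = 0 := by
    rw [X.hpol, polar_self_mul] at hvv
    exact (mul_eq_zero.1 (Subtype.ext hvv : (2 : F₀) * q v = 0)).resolve_left (two0 X)
  exact plane_step X hno hg ha ha0 hv ha' hva ha'0 hvi hθ hC'

/-- Without irrational directions singular rational lines go to rational lines. -/
theorem sing_line {g : GL ι F} (hg : g ∈ M) {a : ι → F₀} (ha : q a = 0) :
    ∃ (c : F) (y : ι → F₀), (g : Matrix ι ι F) *ᵥ rat P a = c • rat P y := by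
  have hq := nd X
  have hfin := fin X
  rcases eq_or_ne a 0 with rfl | ha0
  · exact ⟨0, 0, by rw [rat_zero, Matrix.mulVec_zero, smul_zero]⟩
  set C := (g : Matrix ι ι F) *ᵥ rat P a with hCdef
  obtain ⟨θ, hθσ⟩ := TransvectionUnitary.exists_not_fixed X.hf.ne_refl
  have hθ : θ ∉ F₀ := fun h => hθσ ((X.fix θ).2 h)
  obtain ⟨c₁, c₂, hC⟩ : ∃ c₁ c₂ : ι → F₀, C = rat P c₁ + θ • rat P c₂ := by
    obtain ⟨y, hy⟩ := SubfieldRational.exists_combination (F₀ := F₀) P C
    rw [hy]
    refine Finset.sum_induction _ (fun w => ∃ c₁ c₂ : ι → F₀, w = rat P c₁ + θ • rat P c₂) ?_ ?_ ?_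
    · rintro _ _ ⟨p, p', rfl⟩ ⟨r, r', rfl⟩
      exact ⟨p + r, p' + r', by rw [rat_add, rat_add, smul_add]; abel⟩
    · exact ⟨0, 0, by rw [rat_zero, smul_zero, add_zero]⟩
    · intro i _
      obtain ⟨r, t, hrt⟩ := decomp X hθ (y i)
      exact ⟨r • Pi.single i 1, t • Pi.single i 1, by
        rw [hrt, rat_smul, rat_smul, add_smul, smul_smul, mul_comm (t : F)]⟩
  by_cases hc₂ : c₂ = 0
  · exact ⟨1, c₁, by rw [hC, hc₂, rat_zero, smul_zero, add_zero, one_smul]⟩
  by_cases hc₁ : c₁ ∈ Submodule.span F₀ {c₂}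
  · obtain ⟨t, rfl⟩ := Submodule.mem_span_singleton.1 hc₁
    exact ⟨t + θ, c₂, by rw [hC, rat_smul, add_smul]⟩
  have hCval : ∀ u, polar q c₁ u = 0 → polar q c₂ u = 0 → f (rat P u) C = 0 := fun u h1 h2 => by
    rw [hC, TransvectionUnitary.add_right X.hf, TransvectionUnitary.smul_right X.hf, orth' X h1,
      orth' X h2]
    ring
  let L₁ : (ι → F₀) →ₗ[F₀] (Fin 2 → F₀) := LinearMap.pi fun i => polarBilin q (![c₁, c₂] i)
  have g1 := LinearMap.finrank_range_add_finrank_ker L₁
  have g2 : finrank F₀ (LinearMap.range L₁) ≤ 2 := (Submodule.finrank_le _).trans_eq (by simp)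
  obtain ⟨a', ha'm, ha'0, ha'⟩ := QuadClassify.exists_singular q (LinearMap.ker L₁) (by omega)
  have hac : ∀ i, polar q (![c₁, c₂] i) a' = 0 := fun i => congrFun (LinearMap.mem_ker.1 ha'm) i
  have ha'C : f (rat P a') C = 0 := hCval a' (hac 0) (hac 1)
  let L₂ : (ι → F₀) →ₗ[F₀] (Fin 3 → F₀) := LinearMap.pi fun i => polarBilin q (![a', c₁, c₂] i)
  have g3 := LinearMap.finrank_range_add_finrank_ker L₂
  have g4 : finrank F₀ (LinearMap.range L₂) ≤ 3 := (Submodule.finrank_le _).trans_eq (by simp)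
  have hL₂ : ∀ z ∈ LinearMap.ker L₂, ∀ i, polar q (![a', c₁, c₂] i) z = 0 := fun z hz i =>
    congrFun (LinearMap.mem_ker.1 hz) i
  by_cases hts : ∀ z ∈ LinearMap.ker L₂, q z = 0
  · have m1 := RatLines22.ts_mem q hq hfin hts (by omega) (c := c₁) fun z hz => hL₂ z hz 1
    have m2 := RatLines22.ts_mem q hq hfin hts (by omega) (c := c₂) fun z hz => hL₂ z hz 2
    have h12 : polar q c₁ c₂ = 0 := hL₂ _ m2 1
    exact (plane_step X hno hg ha ha0 (hts _ m1) (hts _ m2) h12 hc₂ hc₁ (l := 1) hθ
      (by rw [one_smul]; exact hC)).elim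
  push Not at hts
  obtain ⟨y, hy, hqy⟩ := hts
  have hyC : f (rat P y) C = 0 := hCval y (hL₂ y hy 1) (hL₂ y hy 2)
  have hgi : (g⁻¹ : GL ι F) ∈ M := M.inv_mem hg
  have hback : ∀ w, f (rat P a) ((g⁻¹ : GL ι F).1 *ᵥ w) = f C w := fun w => by
    rw [← X.iso g hg (rat P a), act_inv_act]
  obtain ⟨v, l, κ, hgv⟩ := quad_step X hno hgi ha' (hL₂ y hy 0) hqy ha ha0
    (by rw [hback]; exact skew_zero X.hf ha'C) (by rw [hback]; exact skew_zero X.hf hyC)
  obtain ⟨k, d, hd⟩ := line_of_plane X hno hgi ha' ha'0 ha ha0 hgv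
    (skew_zero X.hf (by rw [hback]; exact skew_zero X.hf ha'C))
  obtain ⟨x, hxp, hqx⟩ := exists_aniso X ![a, d] le_rfl
  have hax : polar q a x = 0 := hxp 0
  have hdx : polar q d x = 0 := hxp 1
  have hW : f (rat P a') ((g : Matrix ι ι F) *ᵥ rat P x) = 0 := by
    conv_lhs => arg 1; rw [← act_inv_act g (rat P a'), hd]
    rw [X.iso g hg, X.hf.smul_left, orth X hdx, mul_zero]
  obtain ⟨v', l', κ', hv'⟩ := quad_step X hno hg ha hax hqx ha' ha'0 ha'C hW
  exact line_of_plane X hno hg ha ha0 ha' ha'0 hv' (skew_zero X.hf ha'C)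

/-- Without irrational directions the rational lines are preserved. -/
theorem pres_of_no_irr {g : GL ι F} (hg : g ∈ M) :
    ∀ x : ι → F₀, ∃ (c : F) (y : ι → F₀), (g : Matrix ι ι F) *ᵥ rat P x = c • rat P y := by
  have h := RatLines22.spread (AddMonoidHom.mk' (rat P) (rat_add P))
    (fun v hv c z h i => OrthSubfieldMax44.coeff_rat F₀ P v hv c z h i) (rat_smul P)
    (fun _ => rat_eq_zero P) q (nd X) (fin X) (Matrix.toLin' (g : Matrix ι ι F))
    (fun u w huw => act_injective g (by simpa [Matrix.toLin'_apply] using huw))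
    (fun c₀ hc => by simpa [Matrix.toLin'_apply] using sing_line X hno hg hc)
  intro x
  simpa [Matrix.toLin'_apply] using h x

end Lines

/-- All transvections. -/
theorem tg_mem {g : GL ι F} (hg : g ∈ M)
    (hnp : ¬ ∀ x : ι → F₀, ∃ (c : F) (y : ι → F₀), (g : Matrix ι ι F) *ᵥ rat P x = c • rat P y)
    {v : ι → F} (hv : f v v = 0) {c : F} (hc : σ c = -c) : Tg σ f v c ∈ M := by
  have hq := nd X
  have hfin := fin X
  by_cases hv0 : v = 0
  · rw [show Tg σ f v c = 1 from gl_ext fun x => by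
      rw [tg_act X.hf hv, one_act, hv0, smul_zero, add_zero]]
    exact M.one_mem
  obtain ⟨a, w, ha, ha0, hE, hirr⟩ : ∃ a w, q a = 0 ∧ a ≠ 0 ∧ E f P M a w ∧
      ∀ (v : ι → F₀) (κ : F), w ≠ rat P v + κ • rat P a := by
    by_contra h
    push Not at h
    exact hnp (pres_of_no_irr X h hg)
  obtain ⟨b, hb, hvb⟩ : ∃ b, q b = 0 ∧ f v (rat P b) ≠ 0 := by
    by_contra h
    push Not at h
    refine hv0 (eq_of_f X fun u => ?_)
    obtain ⟨b₁, b₂, b₃, rfl, h1, h2, h3⟩ := exists_three q hq (fun i : Fin 0 => i.elim0) (v := u)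
      (by omega) (fun i => i.elim0)
    rw [rat_add, rat_add, X.hf.add_left, X.hf.add_left, TransvectionUnitary.zero_right X.hf,
      skew_zero X.hf (h b₁ h1.1), skew_zero X.hf (h b₂ h2.1), skew_zero X.hf (h b₃ h3.1)]
    simp
  have hb0 : b ≠ 0 := fun h => hvb (by rw [h, rat_zero, TransvectionUnitary.zero_right X.hf])
  obtain ⟨l, hl, hgl⟩ := exists_good X ha ha0 hE hirr hb hb0
  obtain ⟨r, hr, hbr, -⟩ := exists_partner_perp q hq (fun i : Fin 0 => i.elim0) hb
    (by simpa [Set.range_eq_empty] using hb0) (fun i => i.elim0)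
  have hr0 : r ≠ 0 := fun h => by rw [h, polar_zero_right] at hbr; exact zero_ne_one hbr
  obtain ⟨l', hl', hgl'⟩ := exists_good X ha ha0 hE hirr hr hr0
  have hrb : f (rat P r) (rat P b) = 1 := by rw [X.hpol, polar_comm, hbr]; rfl
  set m := f v (rat P b) with hm
  set v' := m⁻¹ • v with hv'
  have hv'b : f v' (rat P b) = 1 := by rw [hv', X.hf.smul_left, ← hm, inv_mul_cancel₀ hvb]
  have hv'v : f v' v' = 0 := by
    rw [hv', X.hf.smul_left, TransvectionUnitary.smul_right X.hf, hv, mul_zero, mul_zero]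
  have hw : f (v' - rat P r) (rat P b) = 0 := by
    rw [TransvectionUnitary.sub_left X.hf, hv'b, hrb, sub_self]
  obtain ⟨-, s₀, g₀, hg₀, hg₀x⟩ := full X hb hb0 hl hgl hw
  have htr := trace X hb hb0 hg₀ hw hg₀x
  set s := f (rat P r) (v' - rat P r) with hs
  have hskew : σ (s - s₀) = -(s - s₀) := by
    have h2 : f (v' - rat P r) (v' - rat P r) + s + σ s = 0 := by
      simp only [hs, TransvectionUnitary.sub_left X.hf, TransvectionUnitary.sub_right X.hf, map_sub,
        hv'v, sing X hr, sigma_f X.hf, map_zero]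
      ring
    rw [map_sub]
    linear_combination h2 - htr
  obtain ⟨g₁, hg₁, hg₁x⟩ := inE_shift X.hf (sing X hb) hw ⟨g₀, hg₀, hg₀x⟩
    (c := s - s₀) (tg_of_good X hb hl hgl hskew)
  rw [add_sub_cancel] at hg₁x
  have hmv : (g₁ : Matrix ι ι F) *ᵥ rat P r = v' := by
    rw [hg₁x, hrb, ← hs]; module
  have hc' : σ (c * m * σ m) = -(c * m * σ m) := by
    rw [map_mul, map_mul, hc, sigma_sigma X.hf]; ring
  have h := M.mul_mem (M.mul_mem hg₁ (tg_of_good X hr hl' hgl' hc')) (M.inv_mem hg₁)
  rw [tg_conj X.hf (X.iso g₁ hg₁) (sing X hr), hmv] at h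
  have hvv : v = m • v' := by rw [hv', smul_smul, mul_inv_cancel₀ hvb, one_smul]
  rwa [hvv, tg_smul X.hf hv'v]

end Cfsg.Agent.UnitaryOrthSub22
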