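import Cfsg.Agent.Lib.C6Cplx84DiagFullReal
import Cfsg.Agent.Lib.UnitaryOrthSub22

/-!
Over a field of order the square of a prime, with a fourth root of unity outside the prime field, the real
root elements and a phase give every unitary transvection.
-/

set_option autoImplicit false
set_option linter.unusedSectionVars false

namespace Cfsg.Agent.C6Cplx84

open Matrix Cfsg.Agent.C6Plus10 Cfsg.Agent.C6Cplx52
open Cfsg.Agent.SubfieldRational (rat)
open Cfsg.Agent.UnitarySubfieldRoot
open scoped MatrixGroups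

variable {F : Type*} [Field F] [Fintype F] {i : Fˣ} {M : Subgroup (GL (Pt 3) F)}

theorem rat_one {F₀ : Subfield F} (u : Pt 3 → F₀) : rat (1 : GL (Pt 3) F) u = F₀.subtype ∘ u := by
  rw [rat, Units.val_one, Matrix.one_mulVec]; rfl

/-- The sum of products with Frobenius conjugates is a unitary form. -/
theorem hf_isUnitary {p : ℕ} [Fact p.Prime] [CharP F p] (h2 : (2 : F) ≠ 0) (hcard : Fintype.card F = p ^ 2)
    (hip : (i : F) ^ p = -(i : F)) : Cfsg.Geo.IsUnitaryForm (frobeniusEquiv F p) (hf (k := 3) p) where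
  ne_refl h := by
    have h' : (i : F) ^ p = i := RingEquiv.congr_fun h (i : F)
    rw [hip] at h'
    exact i.ne_zero ((mul_eq_zero.1 (by linear_combination -h' : (2 : F) * i = 0)).resolve_left h2)
  involutive a := by
    show (a ^ p) ^ p = a
    rw [← pow_mul, ← pow_two, ← hcard, FiniteField.pow_card]
  add_left x y v := by simp [hf, add_mul, Finset.sum_add_distrib]
  smul_left c x v := by simp [hf, Finset.mul_sum, mul_assoc]
  herm v w := by
    show _ = frobenius F p _
    simp only [hf, map_sum, frobenius_def, mul_pow, ← pow_mul, ← pow_two, ← hcard, FiniteField.pow_card]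
    exact Finset.sum_congr rfl fun x _ => mul_comm _ _
  nondegenerate v hv := by
    obtain ⟨t, ht⟩ := Function.ne_iff.1 hv
    classical
    have hp0 : p ≠ 0 := (Fact.out : p.Prime).ne_zero
    exact ⟨⟨Pi.single t 1, by simpa [hf, Pi.single_apply, ite_mul] using pow_ne_zero p ht⟩,
      ⟨Pi.single t 1, by simpa [hf, Pi.single_apply, ite_pow, hp0] using ht⟩⟩

/-- The unitary case. -/
theorem full_SU {p : ℕ} (hp : p.Prime) (hp4 : p % 4 = 3) (hcard : Fintype.card F = p ^ 2)
    (hi : (i : F) * i = -1) (hip : (i : F) ^ p = -(i : F)) (_hM : BaseC i M) (hMU : M ≤ suM p F 3)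
    (hmono : ∀ (σ : Equiv.Perm (Pt 3)) (f : Pt 3 → ℕ),
      ((dg (fun x => i ^ f x) * pm F σ : GL (Pt 3) F) : Matrix (Pt 3) (Pt 3) F).det = 1 →
        dg (fun x => i ^ f x) * pm F σ ∈ M)
    (hJ : ∃ J ∈ M, (J : Matrix (Pt 3) (Pt 3) F) = Matrix.of fun x y =>
      if x 0 = 1 ∧ y 0 = 1 then (2:F)⁻¹ * sgn F (x 1 * y 1 + x 2 * y 2) else (if x = y then 1 else 0)) :
    suM p F 3 ≤ M := by
  classical
  obtain ⟨J, hJM, hJv⟩ := hJ
  haveI : Fact p.Prime := ⟨hp⟩
  haveI : CharP F p := charP_of_card_eq_prime_pow hcard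
  set F₀ : Subfield F := ⊥
  haveI : Fintype F₀ := Fintype.ofFinite F₀
  have hF₀ : Fintype.card F₀ = p := by rw [Fintype.card_eq_nat_card]; exact Subfield.card_bot F p
  have hin : ∀ x : F₀, (x : F) ^ p = x := fun x => (Subfield.mem_bot_iff_pow_eq_self F p).1 x.2
  have h2 : (2 : F) ≠ 0 := fun h => by
    have := (CharP.cast_eq_zero_iff F p 2).1 (by exact_mod_cast h)
    have := Nat.le_of_dvd (by norm_num) this
    omega
  have hX := hf_isUnitary (i := i) h2 hcard hip
  have h20 : (2 : F₀) ≠ 0 := fun h => h2 (congrArg Subtype.val h)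
  haveI : Module.Finite F₀ F := Module.Finite.of_finite
  have hfin : Module.finrank F₀ F = 2 := by
    refine Nat.pow_right_injective (Finite.one_lt_card (α := F₀)) ?_
    simp only
    rw [← Module.natCard_eq_pow_finrank, Nat.card_eq_fintype_card, Nat.card_eq_fintype_card, hcard, hF₀]
  let q : QuadraticForm F₀ (Pt 3 → F₀) := (2 : F₀)⁻¹ • Frame10.sq F₀ (Pt 3)
  have hq : ∀ x, q x = (2 : F₀)⁻¹ * (x ⬝ᵥ x) := fun x => by
    simp [q, Frame10.sq_apply]
  have hpol : ∀ u v, QuadraticMap.polar (⇑q) u v = u ⬝ᵥ v := fun u v => by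
    rw [QuadraticMap.polar, hq, hq, hq, ← mul_sub, ← mul_sub, add_dotProduct, dotProduct_add, dotProduct_add,
      dotProduct_comm v u]
    field_simp
    ring
  have hfr : ∀ (y : Pt 3 → F) (u : Pt 3 → F₀), hf p y (rat 1 u) = y ⬝ᵥ (F₀.subtype ∘ u) := fun y u => by
    rw [rat_one]
    exact Finset.sum_congr rfl fun t _ => congrArg (y t * ·) (hin (u t))
  have hD : UnitaryOrthSub22.UData (frobeniusEquiv F p) (hf p) (1 : GL (Pt 3) F) q M :=
    { hf := hX
      hn := by rw [Fintype.card_fun, ZMod.card, Fintype.card_fin]; norm_num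
      two := h2
      fix := fun x => (Subfield.mem_bot_iff_pow_eq_self F p).symm
      fin2 := hfin
      hpol := fun u v => by
        rw [hfr, rat_one, hpol]
        exact (RingHom.map_dotProduct F₀.subtype u v).symm
      iso := fun g hg => (mem_suM.1 (hMU hg)).1
      hrat := fun a x ha hax => by
        rw [hq, mul_eq_zero] at ha
        obtain ⟨g, hg, hgy⟩ := root_mem F₀.subtype (hF₀.symm ▸ hp) (hF₀.symm ▸ Nat.odd_iff.2 (by omega)) hi hmono hJM
          hJv (ha.resolve_left (inv_ne_zero h20)) (by rw [← hpol, hax] : a ⬝ᵥ x = 0)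
        refine ⟨g, hg, fun y => ?_⟩
        rw [hgy, hfr, hfr, rat_one, rat_one, hq]
        have e : (((2 : F₀)⁻¹ * (x ⬝ᵥ x) : F₀) : F) = F₀.subtype (x ⬝ᵥ x) * (2 : F)⁻¹ := by
          show F₀.subtype ((2 : F₀)⁻¹ * (x ⬝ᵥ x)) = _
          rw [map_mul, map_inv₀, map_ofNat, mul_comm]
        rw [e]
        module }
  -- a phase moves the rational lines
  set z : Pt 3 := Pi.single 0 1
  set w : Pt 3 := Pi.single 1 1
  have hzw : z ≠ w := by decide
  have hz0 : z ≠ 0 := by decide
  have hw0 : w ≠ 0 := by decide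
  have hg : dg (fun t => i ^ (if t = z then 1 else if t = w then 3 else 0)) ∈ M := diag_pow_mem hi hmono _ ⟨1, by
    rw [Finset.sum_eq_add z w hzw (fun t _ ht => by simp [ht.1, ht.2]) (by simp) (by simp)]
    simp [hzw.symm]⟩
  have hnot : (i : F) ∉ F₀ := fun h => by
    have := hin ⟨_, h⟩
    simp only [hip] at this
    exact i.ne_zero ((mul_eq_zero.1 (by linear_combination -this : (2 : F) * i = 0)).resolve_left h2)
  have hnp : ¬ ∀ x : Pt 3 → F₀, ∃ (c : F) (y : Pt 3 → F₀),
      ((dg (fun t => i ^ (if t = z then 1 else if t = w then 3 else 0)) : GL (Pt 3) F) : Matrix (Pt 3) (Pt 3) F) *ᵥ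
        rat 1 x = c • rat 1 y := by
    intro h
    obtain ⟨c, y, hy⟩ := h (Pi.single z 1 + Pi.single 0 1)
    have ez := congrFun hy z
    have e0 := congrFun hy 0
    rw [dg_val, Matrix.mulVec_diagonal] at ez e0
    simp [rat_one, hz0, hz0.symm, hw0.symm, Pi.single_apply] at ez e0
    refine hnot ?_
    have hy0 : ((y 0 : F₀) : F) ≠ 0 := fun h0 => by rw [h0, mul_zero] at e0; exact one_ne_zero e0
    have : (i : F) = (y z : F) * ((y 0 : F₀) : F)⁻¹ := by
      field_simp
      linear_combination ((y 0 : F₀) : F) * ez - ((y z : F₀) : F) * e0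
    rw [this]
    exact F₀.mul_mem (y z).2 (F₀.inv_mem (y 0).2)
  intro g' hg'
  obtain ⟨hiso, hdet⟩ := mem_suM.1 hg'
  exact TransvectionUnitaryGen.su_mem_of_even hX (by rw [Fintype.card_fun, ZMod.card, Fintype.card_fin]; decide)
    (fun b c hb hc => UnitaryOrthSub22.tg_mem hD hg hnp hb hc) hiso hg'.2

end Cfsg.Agent.C6Cplx84
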