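import Cfsg.Agent.Lib.C6Cplx84DiagMonoBlk
import Cfsg.Agent.Lib.C6Cplx52CoordGen

/-!
Dimension eight, complex type: an overgroup with a diagonal element that does not normalise contains all monomial
elements of determinant one with fourth roots of unity as entries, and a controlled product of two Hadamard
matrices.
-/

set_option autoImplicit false
set_option linter.unusedSectionVars false
set_option linter.unusedTactic false
set_option linter.unreachableTactic false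
set_option linter.unusedSimpArgs false

namespace Cfsg.Agent.C6Cplx84

open Matrix Cfsg.Agent.C6Plus10 Cfsg.Agent.C6Cplx52
open scoped MatrixGroups

variable {F : Type*} [Field F] {i : Fˣ} {M : Subgroup (GL (Pt 3) F)}

/-! ### Diagonal elements -/

/-- Diagonal matrices as a homomorphism. -/
noncomputable def dgHom : (Pt 3 → Fˣ) →* GL (Pt 3) F := MonoidHom.mk' dg fun f g => (dg_mul f g).symm

/-- The diagonal elements of a subgroup. -/
noncomputable def Dg (M : Subgroup (GL (Pt 3) F)) : Subgroup (Pt 3 → Fˣ) := M.comap dgHom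

theorem mem_Dg {f : Pt 3 → Fˣ} : f ∈ Dg M ↔ dg f ∈ M := Iff.rfl

theorem pm_conj_dg (π : Equiv.Perm (Pt 3)) (f : Pt 3 → Fˣ) :
    pm F π * dg f * (pm F π)⁻¹ = dg (f ∘ π.symm) := by
  rw [mul_inv_eq_iff_eq_mul]
  refine Units.ext (Matrix.ext fun x y => ?_)
  rw [Units.val_mul, Units.val_mul, dg_val, dg_val, Matrix.mul_diagonal, Matrix.diagonal_mul, pm_apply]
  by_cases h : x = π y
  · simp [h]
  · simp [h]

theorem dg_pm_mul (f g : Pt 3 → Fˣ) (σ τ : Equiv.Perm (Pt 3)) :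
    dg f * pm F σ * (dg g * pm F τ) = dg (f * g ∘ σ.symm) * pm F (σ * τ) := by
  rw [← dg_mul, ← pm_conj_dg, ← pm_mul]
  group

theorem conj_mem_Dg {π : Equiv.Perm (Pt 3)} (hπ : pm F π ∈ M) {f : Pt 3 → Fˣ} (hf : f ∈ Dg M) :
    f ∘ π ∈ Dg M := by
  have h := M.mul_mem (M.mul_mem (M.inv_mem hπ) (mem_Dg.1 hf)) hπ
  have e := pm_conj_dg (F := F) π (f ∘ π)
  rw [Function.comp_assoc, π.self_comp_symm, Function.comp_id] at e
  rw [mem_Dg]
  rwa [← e, show (pm F π)⁻¹ * (pm F π * dg (f ∘ π) * (pm F π)⁻¹) * pm F π = dg (f ∘ π) by group] at h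

theorem dg_sc (c : Fˣ) (f : Pt 3 → Fˣ) : sc (Pt 3) c * dg f = dg fun x => c * f x := by
  refine Units.ext ?_
  rw [Units.val_mul, sc_val, dg_val, dg_val, smul_mul_assoc, one_mul, ← Matrix.diagonal_smul]
  rfl

theorem det_dg (f : Pt 3 → Fˣ) :
    ((dg f : GL (Pt 3) F) : Matrix (Pt 3) (Pt 3) F).det = ((∏ x, f x : Fˣ) : F) := by
  rw [dg_val, Matrix.det_diagonal, Units.coe_prod]

/-! ### Points -/

@[simp] theorem pt_app0 (a b c : ZMod 2) : pt a b c 0 = a := rfl

@[simp] theorem pt_app1 (a b c : ZMod 2) : pt a b c 1 = b := rfl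

@[simp] theorem pt_app2 (a b c : ZMod 2) : pt a b c 2 = c := rfl

theorem pt_inj {a b c a' b' c' : ZMod 2} : pt a b c = pt a' b' c' ↔ a = a' ∧ b = b' ∧ c = c' := by
  simp [pt_ext]

theorem sum_pt {β : Type*} [AddCommMonoid β] (G : Pt 3 → β) :
    ∑ x, G x = G (pt 0 0 0) + G (pt 0 0 1) + G (pt 0 1 0) + G (pt 0 1 1) +
      G (pt 1 0 0) + G (pt 1 0 1) + G (pt 1 1 0) + G (pt 1 1 1) := by
  rw [show (Finset.univ : Finset (Pt 3)) =
    {pt 0 0 0, pt 0 0 1, pt 0 1 0, pt 0 1 1, pt 1 0 0, pt 1 0 1, pt 1 1 0, pt 1 1 1} by decide]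
  simp [pt_inj, add_assoc]

theorem pt_cases (x : Pt 3) : x = pt 0 0 0 ∨ x = pt 0 0 1 ∨ x = pt 0 1 0 ∨ x = pt 0 1 1 ∨
    x = pt 1 0 0 ∨ x = pt 1 0 1 ∨ x = pt 1 1 0 ∨ x = pt 1 1 1 := by
  rcases zm_cases (x 0) with a | a <;> rcases zm_cases (x 1) with b | b <;> rcases zm_cases (x 2) with c | c <;>
    simp [pt_ext, a, b, c]

/-- An affine map of the points. -/
def aMap (o a b c : Pt 3) (x : Pt 3) : Pt 3 := fun j => o j + x 0 * a j + x 1 * b j + x 2 * c j

/-- Independence of three points. -/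
abbrev Indep (a b c : Pt 3) : Prop :=
  ∀ u v w : ZMod 2, (∀ j, u * a j + v * b j + w * c j = 0) → u = 0 ∧ v = 0 ∧ w = 0

theorem exists_aff {o a b c : Pt 3} (h : Indep a b c) :
    ∃ π : Equiv.Perm (Pt 3), AffPerm π ∧ ∀ x, π x = aMap o a b c x := by
  have hinj : Function.Injective (aMap o a b c) := fun x y e => by
    obtain ⟨h0, h1, h2⟩ := h (x 0 + y 0) (x 1 + y 1) (x 2 + y 2) fun j => by
      have := congrFun e j
      simp only [aMap] at this
      grind
    exact pt_ext.2 ⟨CharTwo.add_eq_zero.1 h0, CharTwo.add_eq_zero.1 h1, CharTwo.add_eq_zero.1 h2⟩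
  refine ⟨Equiv.ofBijective _ (Finite.injective_iff_bijective.1 hinj), fun x y z => ?_, fun x => rfl⟩
  funext j
  simp only [Equiv.ofBijective_apply, aMap, Pi.add_apply]
  grind

theorem exists_first : ∀ c : Pt 3, c ≠ 0 → ∃ a b, Indep a b c := by decide +kernel

theorem exists_third : ∀ a b : Pt 3, a ≠ 0 → b ≠ 0 → a ≠ b → ∃ w, Indep w a b := by decide +kernel

/-- The affine permutations are transitive on pairs. -/
theorem trans2 {x y : Pt 3} (hne : x ≠ y) :
    ∃ π : Equiv.Perm (Pt 3), AffPerm π ∧ π (pt 1 1 0) = x ∧ π (pt 1 1 1) = y := by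
  obtain ⟨a, b, h⟩ := exists_first (x + y) fun e => hne (funext fun j => by
    have := congrFun e j
    simp only [Pi.add_apply, Pi.zero_apply] at this
    grind)
  obtain ⟨π, hπ, hπv⟩ := exists_aff (o := x + a + b) h
  refine ⟨π, hπ, ?_, ?_⟩ <;> rw [hπv] <;> funext j <;>
    simp only [aMap, pt_app0, pt_app1, pt_app2, Pi.add_apply] <;> grind

/-! ### Pairs -/

/-- A unit at the first point and its inverse at the second. -/
noncomputable def dpair (x y : Pt 3) : Fˣ →* (Pt 3 → Fˣ) :=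
  MonoidHom.mulSingle (fun _ : Pt 3 => Fˣ) x / MonoidHom.mulSingle (fun _ : Pt 3 => Fˣ) y

theorem dpair_apply (x y : Pt 3) (u : Fˣ) (z : Pt 3) :
    dpair x y u z = (if z = x then u else 1) / (if z = y then u else 1) := by
  simp [dpair, Pi.mulSingle_apply]

theorem dpair_comp (x y : Pt 3) (u : Fˣ) (π : Equiv.Perm (Pt 3)) :
    (dpair x y u : Pt 3 → Fˣ) ∘ π.symm = dpair (π x) (π y) u := by
  funext z
  simp [dpair_apply, Equiv.symm_apply_eq]

theorem dpair_base (u : Fˣ) :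
    (dpair (pt 1 1 0) (pt 1 1 1) u : Pt 3 → Fˣ) =
      fun x => if x = pt 1 1 0 then u else if x = pt 1 1 1 then u⁻¹ else 1 := by
  funext x
  rw [dpair_apply]
  rcases pt_cases x with rfl | rfl | rfl | rfl | rfl | rfl | rfl | rfl <;> simp [pt_inj]

theorem dg_comp (hM : BaseC i M) {π : Equiv.Perm (Pt 3)} (hπ : AffPerm π) {f : Pt 3 → Fˣ} (hf : f ∈ Dg M) :
    f ∘ π ∈ Dg M := conj_mem_Dg (hM.aff π hπ) hf

/-- From one pair to all of them. -/
theorem all_pairs (hM : BaseC i M) {x₀ y₀ : Pt 3} (h0 : x₀ ≠ y₀) {u : Fˣ} (h : dpair x₀ y₀ u ∈ Dg M)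
    (x y : Pt 3) : dpair x y u ∈ Dg M := by
  rcases eq_or_ne x y with rfl | hne
  · convert (Dg M).one_mem
    funext z
    simp [dpair_apply]
  obtain ⟨π, hπ, p0, p1⟩ := trans2 h0
  obtain ⟨ρ, hρ, r0, r1⟩ := trans2 hne
  have hb : dpair (pt 1 1 0) (pt 1 1 1) u ∈ Dg M := by
    have := dg_comp hM (π := π) hπ h
    rwa [← p0, ← p1, ← dpair_comp, Function.comp_assoc, Equiv.symm_comp_self, Function.comp_id] at this
  have := dg_comp hM (affPerm_symm hρ) hb
  rwa [dpair_comp, r0, r1] at this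

/-- The sign as a unit. -/
def sgnU (F : Type*) [Field F] (a : ZMod 2) : Fˣ := if a = 0 then 1 else -1

theorem sgnU_val (a : ZMod 2) : ((sgnU F a : Fˣ) : F) = sgn F a := by
  rcases zm_cases a with rfl | rfl <;> simp [sgnU, sgn_one]

theorem sgnU_mem (hM : BaseC i M) {s : Pt 3 → ZMod 2} (hs : Quad s) : (fun x => sgnU F (s x)) ∈ Dg M := by
  rw [mem_Dg, show dg (fun x => sgnU F (s x)) = sd F s from Units.ext (by simp [dg_val, sd_apply, sgnU_val])]
  exact hM.quad s hs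

theorem neg_pair (hM : BaseC i M) (x y : Pt 3) : dpair x y (-1 : Fˣ) ∈ Dg M := by
  refine all_pairs hM (x₀ := pt 1 1 0) (y₀ := pt 1 1 1) (by simp [pt_inj]) ?_ x y
  have h := sgnU_mem hM (quad_mul_coord (i := (0 : Fin 3)) (j := (1 : Fin 3)))
  convert h using 1
  rw [dpair_base]
  funext z
  rcases pt_cases z with rfl | rfl | rfl | rfl | rfl | rfl | rfl | rfl <;> simp [pt_inj, sgnU]

/-- Squares of ratios along a pair. -/
theorem ratio_mem (hM : BaseC i M) {f : Pt 3 → Fˣ} (hf : f ∈ Dg M) :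
    dpair (pt 1 1 0) (pt 1 1 1) ((f (pt 1 1 1) / f (pt 1 1 0)) ^ 2) ∈ Dg M := by
  obtain ⟨π, hπ, hπv⟩ := exists_aff (o := 0) (a := pt 1 0 1) (b := pt 0 1 0) (c := pt 0 0 1) (by decide)
  obtain ⟨σ, hσ, hσv⟩ := exists_aff (o := 0) (a := pt 1 0 0) (b := pt 0 1 1) (c := pt 0 0 1) (by decide)
  have hev : ∀ (o a b c : Pt 3) (x : Pt 3), aMap o a b c x =
      pt (o 0 + x 0 * a 0 + x 1 * b 0 + x 2 * c 0) (o 1 + x 0 * a 1 + x 1 * b 1 + x 2 * c 1)
        (o 2 + x 0 * a 2 + x 1 * b 2 + x 2 * c 2) := fun o a b c x => (pt_eta _).symm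
  have h1 : (f ∘ π) / f ∈ Dg M := (Dg M).div_mem (dg_comp hM hπ hf) hf
  have h2 := (Dg M).inv_mem ((Dg M).div_mem (dg_comp hM hσ h1) h1)
  convert h2 using 1
  rw [dpair_base]
  funext z
  have h11 : (1 : ZMod 2) + 1 = 0 := by decide
  rcases pt_cases z with rfl | rfl | rfl | rfl | rfl | rfl | rfl | rfl <;>
    simp [pt_inj, hπv, hσv, hev, h11] <;> simp [div_eq_mul_inv, sq] <;> ac_rfl

/-! ### The last block -/

/-- A diagonal element of the last block. -/
noncomputable def dB (a b : Fˣ) : GL (Fin 2) F :=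
  GeneralLinearGroup.mkOfDetNeZero !![(a : F), 0; 0, (b : F)] (by simp [Matrix.det_fin_two])

theorem dB_val (a b : Fˣ) : ((dB a b : GL (Fin 2) F) : Matrix (Fin 2) (Fin 2) F) = !![(a : F), 0; 0, (b : F)] :=
  rfl

theorem eb_dB (a b : Fˣ) :
    eb (dB a b) = dg fun x : Pt 3 => if x = pt 1 1 0 then a else if x = pt 1 1 1 then b else 1 :=
  eb_diag a b (dB_val a b)

theorem eb_pair (u : Fˣ) : eb (dB u u⁻¹) = dg (dpair (pt 1 1 0) (pt 1 1 1) u) := by
  rw [eb_dB, dpair_base]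

theorem i_inv (hi : (i : F) * i = -1) : ((i⁻¹ : Fˣ) : F) = -(i : F) := by
  rw [Units.val_inv_eq_inv_val]
  exact inv_eq_of_mul_eq_one_right (by rw [mul_neg, hi, neg_neg])

theorem had_conj (h2 : (2 : F) ≠ 0) (hM : BaseC i M) (c : Fˣ) {B : GL (Fin 2) F}
    (h : sc (Pt 3) c * eb B ∈ M) : sc (Pt 3) c * eb (hB h2 * B * (hB h2)⁻¹) ∈ M := by
  obtain ⟨N, hN, hNv⟩ := hM.had (2 : Fin 3)
  rw [h_mat h2] at hNv
  have := M.mul_mem (M.mul_mem hN h) (M.inv_mem hN)
  rwa [sc_pull, mul_assoc, eb_conj hNv] at this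

theorem hB_conj_z (h2 : (2 : F) ≠ 0) : hB h2 * dB 1 (-1 : Fˣ) * (hB h2)⁻¹ = (xB : GL (Fin 2) F) := by
  rw [mul_inv_eq_iff_eq_mul]
  refine Units.ext ?_
  rw [Units.val_mul, Units.val_mul, hB_val, xB_val, dB_val, Matrix.mul_fin_two, Matrix.mul_fin_two]
  simp

theorem hB_conj_i (h2 : (2 : F) ≠ 0) (hi : (i : F) * i = -1) :
    hB h2 * dB i i⁻¹ * (hB h2)⁻¹ = dB i i * (xB : GL (Fin 2) F) := by
  rw [mul_inv_eq_iff_eq_mul]
  refine Units.ext ?_
  rw [Units.val_mul, Units.val_mul, Units.val_mul, hB_val, xB_val, dB_val, dB_val, i_inv hi, Matrix.mul_fin_two,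
    Matrix.mul_fin_two, Matrix.mul_fin_two]
  simp

/-- A pair that is not a sign gives the pair of fourth roots. -/
theorem pair_of_unit [Fintype F] (h2 : (2 : F) ≠ 0) (hi : (i : F) * i = -1) (hM : BaseC i M)
    (hdet : ∀ g ∈ M, (g : Matrix (Pt 3) (Pt 3) F).det = 1) {u : Fˣ} (hu : u ^ 2 ≠ 1)
    (h : dpair (pt 1 1 0) (pt 1 1 1) u ∈ Dg M) : dpair (pt 1 1 0) (pt 1 1 1) i ∈ Dg M := by
  rw [mem_Dg, ← eb_pair] at h
  obtain ⟨g, hg, hgM⟩ := block_pair h2 hi hM hdet h fun c e => hu (Units.ext (by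
    have e0 : (u : F) = c := by simpa [dB_val] using congrFun (congrFun e 0) 0
    have e1 : ((u⁻¹ : Fˣ) : F) = c := by simpa [dB_val] using congrFun (congrFun e 1) 1
    rw [← e0] at e1
    rw [Units.val_pow_eq_pow_val, Units.val_one, sq]
    conv_lhs => arg 2; rw [← e1]
    exact u.mul_inv))
  rw [mem_Dg, ← eb_pair]
  rwa [show g = dB i i⁻¹ from Units.ext (by rw [hg, dB_val, i_inv hi])] at hgM

/-! ### Fourth roots -/

theorem i_four (hi : (i : F) * i = -1) : i ^ 4 = 1 :=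
  Units.ext (by push_cast; linear_combination ((i : F) * i - 1) * hi)

theorem i_two (hi : (i : F) * i = -1) : i ^ 2 = -1 :=
  Units.ext (by push_cast; linear_combination hi)

theorem pow_cases (hi : (i : F) * i = -1) (m : ℕ) :
    ((m : ZMod 2) = 0 → i ^ m = 1 ∨ i ^ m = -1) ∧ ((m : ZMod 2) = 1 → i ^ m = i ∨ i ^ m = i⁻¹) := by
  have hm : (m : ZMod 2) = ((m % 4 : ℕ) : ZMod 2) := by
    conv_lhs => rw [← Nat.mod_add_div m 4]
    push_cast
    rw [show (4 : ZMod 2) = 0 by decide, zero_mul, add_zero]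
  rw [pow_eq_pow_mod m (i_four hi), hm]
  have h3 : i ^ 3 = i⁻¹ := eq_inv_of_mul_eq_one_left (by rw [← pow_succ, i_four hi])
  have hlt : m % 4 < 4 := Nat.mod_lt _ (by norm_num)
  interval_cases (m % 4)
  · simp
  · simp
  · simp [i_two hi, show (2 : ZMod 2) = 0 by decide]
  · simp [h3, show (3 : ZMod 2) = 1 by decide]

theorem four_root (hi : (i : F) * i = -1) {r : Fˣ} (hr : r ^ 4 = 1) : ∃ n : ℕ, r = i ^ n := by
  have h4 : (r : F) ^ 4 = 1 := by simpa using congrArg Units.val hr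
  have : ((r : F) - 1) * ((r : F) + 1) * (((r : F) - i) * ((r : F) + i)) = 0 := by
    linear_combination h4 - ((r : F) ^ 2 - 1) * hi
  rcases mul_eq_zero.1 this with h | h <;> rcases mul_eq_zero.1 h with h' | h'
  · exact ⟨0, Units.ext (by simpa using sub_eq_zero.1 h')⟩
  · exact ⟨2, by rw [i_two hi]; exact Units.ext (by simpa using eq_neg_of_add_eq_zero_left h')⟩
  · exact ⟨1, Units.ext (by simpa using sub_eq_zero.1 h')⟩
  · exact ⟨3, Units.ext (by
      rw [eq_neg_of_add_eq_zero_left h']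
      push_cast
      linear_combination -(i : F) * hi)⟩

/-- A diagonal element whose exponents have a parity that is not affine gives the pair of fourth roots. -/
theorem of_odd (hi : (i : F) * i = -1) (hM : BaseC i M) {f : Pt 3 → Fˣ} (hf : f ∈ Dg M) {c : Fˣ}
    {P : Pt 3 → ℕ} (hP : ∀ x, f x = c * i ^ P x) {a b z : Pt 3}
    (hab : dl a (dl b fun x => (P x : ZMod 2)) z = 1) : dpair (pt 1 1 0) (pt 1 1 1) i ∈ Dg M := by
  simp only [dl_apply] at hab
  have ha : a ≠ 0 := by rintro rfl; simp [CharTwo.add_self_eq_zero] at hab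
  have hb : b ≠ 0 := by rintro rfl; simp [CharTwo.add_self_eq_zero] at hab
  have hne : a ≠ b := by
    rintro rfl
    simp only [pt_add_cancel] at hab
    grind
  obtain ⟨w, hw⟩ := exists_third a b ha hb hne
  obtain ⟨π, hπ, hπv⟩ := exists_aff (o := z + w) hw
  obtain ⟨τ, hτ, hτv⟩ := exists_aff (o := 0) (a := pt 1 0 1) (b := pt 0 1 0) (c := pt 0 0 1) (by decide)
  have e100 : π (pt 1 0 0) = z := by
    rw [hπv]; funext j; simp only [aMap, pt_app0, pt_app1, pt_app2, Pi.add_apply]; grind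
  have e101 : π (pt 1 0 1) = z + b := by
    rw [hπv]; funext j; simp only [aMap, pt_app0, pt_app1, pt_app2, Pi.add_apply]; grind
  have e110 : π (pt 1 1 0) = z + a := by
    rw [hπv]; funext j; simp only [aMap, pt_app0, pt_app1, pt_app2, Pi.add_apply]; grind
  have e111 : π (pt 1 1 1) = z + a + b := by
    rw [hπv]; funext j; simp only [aMap, pt_app0, pt_app1, pt_app2, Pi.add_apply]; grind
  have hf' := dg_comp hM hπ hf
  have h1 := (Dg M).div_mem (dg_comp hM hτ hf') hf'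
  set n₁ : ℕ := P (z + b) + 3 * P z with hn₁
  set n₂ : ℕ := P (z + a + b) + 3 * P (z + a) with hn₂
  have hq : ∀ x y, f x / f y = i ^ (P x + 3 * P y) := fun x y => by
    rw [hP, hP, mul_div_mul_left_eq_div, div_eq_iff_eq_mul, ← pow_add,
      show P x + 3 * P y + P y = P x + 4 * P y by ring, pow_add, pow_mul, i_four hi, one_pow, mul_one]
  have hgh : dpair (pt 1 0 0) (pt 1 0 1) (i ^ n₁) * dpair (pt 1 1 0) (pt 1 1 1) (i ^ n₂) ∈ Dg M := by
    convert h1 using 1
    rw [hn₁, hn₂, ← hq, ← hq, ← e111, ← e110, ← e101, ← e100]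
    funext x
    have hev : ∀ (o a b c : Pt 3) (x : Pt 3), aMap o a b c x =
        pt (o 0 + x 0 * a 0 + x 1 * b 0 + x 2 * c 0) (o 1 + x 0 * a 1 + x 1 * b 1 + x 2 * c 1)
          (o 2 + x 0 * a 2 + x 1 * b 2 + x 2 * c 2) := fun o a b c x => (pt_eta _).symm
    have h11 : (1 : ZMod 2) + 1 = 0 := by decide
    simp only [Pi.mul_apply, Pi.div_apply, Function.comp_apply, dpair_apply, hτv]
    rcases pt_cases x with rfl | rfl | rfl | rfl | rfl | rfl | rfl | rfl <;>
      simp [pt_inj, hev, h11]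
  have hsum : (n₁ : ZMod 2) + (n₂ : ZMod 2) = 1 := by
    rw [hn₁, hn₂]
    push_cast
    grind
  have hget : ∀ {x y : Pt 3}, x ≠ y → ∀ {n : ℕ}, (n : ZMod 2) = 1 → dpair x y (i ^ n) ∈ Dg M →
      dpair (pt 1 1 0) (pt 1 1 1) i ∈ Dg M := by
    intro x y hxy n hn h
    refine all_pairs hM hxy ?_ _ _
    rcases (pow_cases hi n).2 hn with e | e <;> rw [e] at h
    · exact h
    · simpa [map_inv] using h
  have hsign : ∀ (x y : Pt 3) {n : ℕ}, (n : ZMod 2) = 0 → dpair x y (i ^ n) ∈ Dg M := by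
    intro x y n hn
    rcases (pow_cases hi n).1 hn with e | e <;> rw [e]
    · rw [map_one]; exact (Dg M).one_mem
    · exact neg_pair hM x y
  rcases zm_cases (n₁ : ZMod 2) with e | e
  · exact hget (by simp [pt_inj]) (by simpa [e] using hsum)
      (((Dg M).mul_mem_cancel_left (hsign _ _ e)).1 hgh)
  · exact hget (by simp [pt_inj]) e
      (((Dg M).mul_mem_cancel_right (hsign _ _ (by grind))).1 hgh)

/-- A function with total zero is quadratic. -/
theorem quad_of_sum {s : Pt 3 → ZMod 2} (h : ∑ x, s x = 0) : Quad s := by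
  have hc : ∀ (c : ZMod 2) {g : Pt 3 → ZMod 2}, Quad g → Quad fun x => c * g x := fun c g hg => by
    rcases zm_cases c with rfl | rfl
    · simpa using (aff_const (k := 3) (0 : ZMod 2)).quad
    · simpa using hg
  have h1 : ∀ j : Fin 3, Quad fun x : Pt 3 => x j := fun j => by
    have h := (aff_ip (pe j)).quad
    rwa [show ip (pe j) = fun x : Pt 3 => x j from funext fun x => ip_pe j x] at h
  rw [sum_pt] at h
  have hs : s = fun x => s (pt 0 0 0) + (s (pt 0 0 0) + s (pt 1 0 0)) * x 0 + (s (pt 0 0 0) + s (pt 0 1 0)) * x 1 +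
      (s (pt 0 0 0) + s (pt 0 0 1)) * x 2 +
      (s (pt 0 0 0) + s (pt 1 0 0) + s (pt 0 1 0) + s (pt 1 1 0)) * (x 0 * x 1) +
      (s (pt 0 0 0) + s (pt 1 0 0) + s (pt 0 0 1) + s (pt 1 0 1)) * (x 0 * x 2) +
      (s (pt 0 0 0) + s (pt 0 1 0) + s (pt 0 0 1) + s (pt 0 1 1)) * (x 1 * x 2) := by
    funext x
    rcases pt_cases x with rfl | rfl | rfl | rfl | rfl | rfl | rfl | rfl <;>
      simp only [pt_app0, pt_app1, pt_app2] <;> grind
  rw [hs]
  exact ((((((aff_const _).quad.add (hc _ (h1 0))).add (hc _ (h1 1))).add (hc _ (h1 2))).add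
    (hc _ quad_mul_coord)).add (hc _ quad_mul_coord)).add (hc _ quad_mul_coord)

/-- Scalars drop out of a commutator. -/
theorem comm_sc (c : Fˣ) (a b : GL (Pt 3) F) :
    sc (Pt 3) c * a * (sc (Pt 3) c * b) * (sc (Pt 3) c * a)⁻¹ * (sc (Pt 3) c * b)⁻¹ = a * b * a⁻¹ * b⁻¹ := by
  have hz : ∀ g : GL (Pt 3) F, Commute (sc (Pt 3) c) g := fun g => (sc_comm c g).symm
  calc sc (Pt 3) c * a * (sc (Pt 3) c * b) * (sc (Pt 3) c * a)⁻¹ * (sc (Pt 3) c * b)⁻¹
      = sc (Pt 3) c * (a * sc (Pt 3) c) * b * a⁻¹ * ((sc (Pt 3) c)⁻¹ * b⁻¹) * (sc (Pt 3) c)⁻¹ := by group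
    _ = sc (Pt 3) c * (sc (Pt 3) c * a) * b * a⁻¹ * (b⁻¹ * (sc (Pt 3) c)⁻¹) * (sc (Pt 3) c)⁻¹ := by
      rw [(hz a).eq, (hz b⁻¹).inv_left.eq]
    _ = sc (Pt 3) c * (sc (Pt 3) c * (a * b * a⁻¹ * b⁻¹)) * (sc (Pt 3) c)⁻¹ * (sc (Pt 3) c)⁻¹ := by group
    _ = _ := by
      rw [(hz (a * b * a⁻¹ * b⁻¹)).eq, ← mul_assoc, (hz (a * b * a⁻¹ * b⁻¹)).eq]
      group

/-- A non-quadratic sign vector up to a scalar gives a permutation moving the phases off the normaliser. -/
theorem of_delta (h2 : (2 : F) ≠ 0) (hi : (i : F) * i = -1) (hM : BaseC i M) (c : Fˣ)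
    (h : (fun x : Pt 3 => c * sgnU F (x 0 * x 1 * x 2)) ∈ Dg M) : dpair (pt 1 1 0) (pt 1 1 1) i ∈ Dg M := by
  have h0 : sc (Pt 3) c * eb (dB 1 (-1 : Fˣ)) ∈ M := by
    rw [eb_dB, dg_sc]
    convert mem_Dg.1 h using 3 with x
    rcases pt_cases x with rfl | rfl | rfl | rfl | rfl | rfl | rfl | rfl <;> simp [pt_inj, sgnU]
  have h1 := had_conj h2 hM c h0
  rw [hB_conj_z, eb_xB] at h1
  have h3 : ∀ {x y : Pt 3}, x ≠ y → sc (Pt 3) c * pm F (Equiv.swap x y) ∈ M := fun {x y} hxy => by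
    obtain ⟨π, hπ, p0, p1⟩ := trans2 hxy
    have := M.mul_mem (M.mul_mem (hM.aff π hπ) h1) (M.inv_mem (hM.aff π hπ))
    rwa [sc_pull, mul_assoc, pm_inv, pm_mul, pm_mul, ← Equiv.swap_apply_apply, p0, p1] at this
  have hn1 : pt 1 0 0 ≠ pt 0 1 0 := by simp [pt_inj]
  have hn2 : pt 0 1 0 ≠ pt 0 0 1 := by simp [pt_inj]
  have h4 := M.mul_mem (M.mul_mem (M.mul_mem (h3 hn1) (h3 hn2)) (M.inv_mem (h3 hn1))) (M.inv_mem (h3 hn2))
  rw [comm_sc, pm_inv, pm_inv, pm_mul, pm_mul, pm_mul] at h4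
  have h5 : (fun x : Pt 3 => i ^ (x 0).val) ∈ Dg M := by
    rw [mem_Dg, show dg (fun x : Pt 3 => i ^ (x 0).val) = ph i (ip (pe (0 : Fin 3))) from
      Units.ext (by simp only [dg_val, ph, ip_pe])]
    exact hM.phase _ (aff_ip _)
  refine of_odd hi hM (conj_mem_Dg h4 h5) (c := 1) (P := fun x => ((Equiv.swap (pt 1 0 0) (pt 0 1 0) *
      Equiv.swap (pt 0 1 0) (pt 0 0 1) * (Equiv.swap (pt 1 0 0) (pt 0 1 0))⁻¹ *
      (Equiv.swap (pt 0 1 0) (pt 0 0 1))⁻¹) x 0).val)
    (fun x => by simp) (a := pt 1 0 0) (b := pt 0 0 1) (z := pt 0 0 0) ?_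
  decide +kernel

/-- The pairs of fourth roots. -/
theorem pair_i [Fintype F] (h2 : (2 : F) ≠ 0) (hi : (i : F) * i = -1) (hM : BaseC i M)
    (hdet : ∀ g ∈ M, (g : Matrix (Pt 3) (Pt 3) F).det = 1) (hnot : ¬ DiagN i M) (x y : Pt 3) :
    dpair x y i ∈ Dg M := by
  refine all_pairs hM (x₀ := pt 1 1 0) (y₀ := pt 1 1 1) (by simp [pt_inj]) ?_ x y
  clear x y
  simp only [DiagN, not_forall] at hnot
  obtain ⟨f, hf, hnr⟩ := hnot
  by_cases hcase : ∀ y : Pt 3, (f y / f 0) ^ 4 = 1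
  · choose P hP using fun y => four_root hi (hcase y)
    have hfP : ∀ x, f x = f 0 * i ^ P x := fun x => by rw [← hP, mul_div_cancel]
    by_cases hp : Aff (fun x => (P x : ZMod 2))
    · let s : Pt 3 → ZMod 2 := fun x => ((P x / 2 : ℕ) : ZMod 2)
      let p : Pt 3 → ZMod 2 := fun x => (P x : ZMod 2)
      have hsplit : ∀ x, f x = f 0 * sgnU F (s x) * i ^ (p x).val := fun x => by
        rw [hfP, mul_assoc]
        congr 1
        conv_lhs => rw [← Nat.div_add_mod (P x) 2, pow_add, pow_mul, i_two hi]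
        rw [show (p x).val = P x % 2 from ZMod.val_natCast 2 (P x)]
        congr 1
        rcases Nat.even_or_odd (P x / 2) with e | e
        · rw [e.neg_one_pow, show s x = 0 from (ZMod.natCast_eq_zero_iff_even).2 e]; simp [sgnU]
        · rw [e.neg_one_pow, show s x = 1 from (ZMod.natCast_eq_one_iff_odd).2 e]; simp [sgnU]
      have hdgf : dg f = sc (Pt 3) (f 0) * sd F s * ph i p := by
        refine Units.ext ?_
        rw [Units.val_mul, Units.val_mul, sc_val, sd_apply, ph_apply, dg_val, smul_mul_assoc, one_mul,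
          smul_mul_assoc, Matrix.diagonal_mul_diagonal, ← Matrix.diagonal_smul]
        refine congrArg _ (funext fun x => ?_)
        rw [hsplit x, Units.val_mul, Units.val_mul, sgnU_val, Pi.smul_apply, smul_eq_mul, mul_assoc]
      have hns : ∑ x, s x = 1 := by
        rcases zm_cases (∑ x, s x) with e | e
        · exact absurd (hdgf ▸ ((C6Cplx52.nr_sc (f 0)).mul (Nr.of_real hi (sd_nr (quad_of_sum e)))).mul
            (nr_ph hi hp)) hnr
        · exact e
      refine of_delta h2 hi hM (f 0) ?_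
      have hq : Quad fun x : Pt 3 => s x + x 0 * x 1 * x 2 := quad_of_sum (by
        rw [Finset.sum_add_distrib, hns, sum_pt]
        simp only [pt_app0, pt_app1, pt_app2]
        decide)
      have hph : (fun x => i ^ (p x).val) ∈ Dg M := by
        rw [mem_Dg, show dg (fun x => i ^ (p x).val) = ph i p from Units.ext rfl]
        exact hM.phase _ hp
      convert (Dg M).mul_mem ((Dg M).div_mem hf hph) (sgnU_mem hM hq) using 1
      funext x
      simp only [Pi.mul_apply, Pi.div_apply, hsplit x, mul_div_cancel_right]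
      rcases zm_cases (s x) with e | e <;> rcases zm_cases (x 0 * x 1 * x 2) with e' | e' <;>
        simp [e, e', sgnU, show (1 : ZMod 2) + 1 = 0 by decide]
    · simp only [Aff, not_forall] at hp
      obtain ⟨a, b, z, hz⟩ := hp
      exact of_odd hi hM hf hfP ((zm_cases _).resolve_left hz)
  · simp only [not_forall] at hcase
    obtain ⟨y, hy⟩ := hcase
    have hne : (0 : Pt 3) ≠ y := fun e => hy (by rw [← e, div_self', one_pow])
    obtain ⟨π, hπ, p0, p1⟩ := trans2 hne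
    have := ratio_mem hM (dg_comp hM hπ hf)
    simp only [Function.comp_apply, p0, p1] at this
    exact pair_of_unit h2 hi hM hdet (by rwa [← pow_mul]) this

/-- All diagonal elements of determinant one with fourth roots as entries. -/
theorem diag_mem (hp : ∀ x y, dpair x y i ∈ Dg M) {f : Pt 3 → Fˣ}
    (hv : ∀ x, f x ∈ Subgroup.zpowers i) (hf : ∏ x, f x = 1) : f ∈ Dg M := by
  have h : ∏ x, dpair x (0 : Pt 3) (f x) ∈ Dg M := Subgroup.prod_mem _ fun x _ => by
    obtain ⟨n, hn⟩ := Subgroup.mem_zpowers_iff.1 (hv x)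
    rw [← hn, map_zpow]
    exact (Dg M).zpow_mem (hp x 0) n
  convert h
  simp only [dpair, MonoidHom.div_apply, MonoidHom.mulSingle_apply, Finset.prod_div_distrib]
  rw [Finset.univ_prod_mulSingle]
  rw [show (∏ x, Pi.mulSingle (0 : Pt 3) (f x) : Pt 3 → Fˣ) = Pi.mulSingle 0 (∏ x, f x) from
    (map_prod (MonoidHom.mulSingle (fun _ : Pt 3 => Fˣ) (0 : Pt 3)) f Finset.univ).symm, hf, Pi.mulSingle_one,
    div_one]

/-- Every permutation occurs with fourth roots. -/
theorem perm_mem [Fintype F] (h2 : (2 : F) ≠ 0) (hi : (i : F) * i = -1) (hM : BaseC i M)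
    (hp : ∀ x y, dpair x y i ∈ Dg M) (σ : Equiv.Perm (Pt 3)) :
    ∃ f : Pt 3 → Fˣ, (∀ x, f x ∈ Subgroup.zpowers i) ∧ dg f * pm F σ ∈ M := by
  have h0 : sc (Pt 3) (1 : Fˣ) * eb (dB i i⁻¹) ∈ M := by
    rw [map_one, one_mul, eb_pair]; exact hp _ _
  have h1 := had_conj h2 hM 1 h0
  rw [hB_conj_i h2 hi, map_one, one_mul, map_mul, eb_dB, eb_xB] at h1
  induction σ using Equiv.Perm.swap_induction_on with
  | one => exact ⟨1, fun x => one_mem _, by rw [dg_one, pm_one, one_mul]; exact M.one_mem⟩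
  | swap_mul σ x y hxy ih =>
    obtain ⟨g, hg, hgM⟩ := ih
    obtain ⟨π, hπ, p0, p1⟩ := trans2 hxy
    have h3 := M.mul_mem (M.mul_mem (hM.aff π hπ) h1) (M.inv_mem (hM.aff π hπ))
    have e : ∀ (f : Pt 3 → Fˣ) (τ : Equiv.Perm (Pt 3)),
        pm F π * (dg f * pm F τ) * (pm F π)⁻¹ = dg (f ∘ π.symm) * pm F (π * τ * π⁻¹) := fun f τ => by
      rw [← pm_conj_dg, ← pm_mul, ← pm_mul, ← pm_inv]
      group
    rw [e, ← Equiv.swap_apply_apply, p0, p1] at h3
    have h4 := M.mul_mem h3 hgM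
    rw [dg_pm_mul] at h4
    refine ⟨_, fun z => ?_, h4⟩
    refine mul_mem ?_ (hg _)
    simp only [Function.comp_apply]
    split_ifs
    · exact Subgroup.mem_zpowers i
    · exact Subgroup.mem_zpowers i
    · exact one_mem _

set_option maxHeartbeats 2000000 in
/-- The monomial elements and the controlled product of two Hadamard matrices in an overgroup with a diagonal
element that does not normalise. -/
theorem mono_of_diag [Fintype F] (h2 : (2 : F) ≠ 0) (hi : (i : F) * i = -1) (hM : C6Cplx52.BaseC i M)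
    (hdet : ∀ g ∈ M, (g : Matrix (Pt 3) (Pt 3) F).det = 1) (hnot : ¬ DiagN i M) :
    (∀ (σ : Equiv.Perm (Pt 3)) (f : Pt 3 → ℕ),
      ((dg fun x => i ^ f x) * pm F σ : Matrix (Pt 3) (Pt 3) F).det = 1 →
        dg (fun x => i ^ f x) * pm F σ ∈ M) ∧
    ∃ J ∈ M, (J : Matrix (Pt 3) (Pt 3) F) = Matrix.of fun x y =>
      if x 0 = 1 ∧ y 0 = 1 then (2 : F)⁻¹ * sgn F (x 1 * y 1 + x 2 * y 2) else (if x = y then 1 else 0) := by
  have hp := pair_i h2 hi hM hdet hnot
  refine ⟨fun σ f hf => ?_, ?_⟩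
  · obtain ⟨g, hg, hgM⟩ := perm_mem h2 hi hM hp σ
    have hd := hdet _ hgM
    rw [Units.val_mul, Matrix.det_mul, det_dg] at hd
    rw [Matrix.det_mul, det_dg, ← hd] at hf
    have hne : ((pm F σ : GL (Pt 3) F) : Matrix (Pt 3) (Pt 3) F).det ≠ 0 := fun e => by simp [e] at hd
    have hprod : ∏ x, i ^ f x = ∏ x, g x := Units.ext (mul_right_cancel₀ hne hf)
    have := M.mul_mem (mem_Dg.1 (diag_mem hp (f := fun x => i ^ f x / g x)
      (fun x => div_mem (pow_mem (Subgroup.mem_zpowers i) _) (hg x))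
      (by rw [Finset.prod_div_distrib, hprod, div_self']))) hgM
    rw [← mul_assoc, dg_mul] at this
    convert this using 4 with x
    simp
  · let A : Pt 3 → Fˣ := fun x => if x 0 = 1 then i ^ ((x 1).val + (x 2).val) else 1
    let C : Pt 3 → Fˣ := fun x => if x 0 = 1 then i ^ 3 else 1
    have hprodA : ∏ x, A x = 1 := by
      refine Units.ext ?_
      rw [Units.coe_prod, Fintype.prod_equiv (Equiv.refl (Pt 3)) _ _ (fun x => rfl)]
      rw [show (Finset.univ : Finset (Pt 3)) =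
        {pt 0 0 0, pt 0 0 1, pt 0 1 0, pt 0 1 1, pt 1 0 0, pt 1 0 1, pt 1 1 0, pt 1 1 1} by decide]
      simp [pt_inj, A, ZMod.val_one]
      linear_combination ((i : F) * i - 1) * hi
    have hprodC : ∏ x, C x = 1 := by
      refine Units.ext ?_
      rw [Units.coe_prod]
      rw [show (Finset.univ : Finset (Pt 3)) =
        {pt 0 0 0, pt 0 0 1, pt 0 1 0, pt 0 1 1, pt 1 0 0, pt 1 0 1, pt 1 1 0, pt 1 1 1} by decide]
      simp [pt_inj, C]
      linear_combination ((i : F) * i - 1) * ((i : F) ^ 8 + (i : F) ^ 4 + 1) * hi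
    have hA : dg A ∈ M := diag_mem hp (fun x => by
      simp only [A]; split_ifs
      · exact pow_mem (Subgroup.mem_zpowers i) _
      · exact one_mem _) hprodA
    have hC : dg C ∈ M := diag_mem hp (fun x => by
      simp only [C]; split_ifs
      · exact pow_mem (Subgroup.mem_zpowers i) _
      · exact one_mem _) hprodC
    obtain ⟨h, hh', hhv⟩ := hM.hh (1 : Fin 3) (2 : Fin 3) (by decide)
    refine ⟨dg C * (dg A * (h * (dg A * (h * dg A)))), M.mul_mem hC (M.mul_mem hA (M.mul_mem hh'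
      (M.mul_mem hA (M.mul_mem hh' hA)))), ?_⟩
    ext x y
    simp only [Units.val_mul, dg_val, hhv, Matrix.diagonal_mul]
    rw [Matrix.mul_apply, sum_pt]
    simp only [Matrix.diagonal_mul, Matrix.mul_diagonal, hh, Matrix.of_apply]
    have ht : (2 : F) * (2 : F)⁻¹ = 1 := mul_inv_cancel₀ h2
    have hoff : ∀ u v : Pt 3, (∀ j, j ≠ (1 : Fin 3) → j ≠ (2 : Fin 3) → u j = v j) ↔ u 0 = v 0 := fun u v =>
      ⟨fun e => e 0 (by decide) (by decide), fun e j a b => by fin_cases j <;> simp_all⟩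
    simp only [hoff, pt_ext, pt_app0, pt_app1, pt_app2, A, C]
    rcases zm_cases (x 0) with a | a <;> rcases zm_cases (y 0) with d | d <;>
      rcases zm_cases (x 1) with b | b <;> rcases zm_cases (x 2) with c | c <;>
        rcases zm_cases (y 1) with e | e <;> rcases zm_cases (y 2) with f | f <;>
          simp [a, b, c, d, e, f, sgn_one, ZMod.val_one, show (1 : ZMod 2) + 1 = 0 by decide]
    all_goals
      clear * - hi ht
      grobner

end Cfsg.Agent.C6Cplx84
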