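import Cfsg.Agent.Lib.C6Cplx84Step
import Cfsg.Agent.Lib.C6Cplx52CoordGen
import Cfsg.Agent.Lib.C6Cplx84Base
import Cfsg.Agent.Lib.C6Cplx84Cent42
import Cfsg.Agent.Lib.C6Cplx84Cent51
import Cfsg.Agent.Lib.C6Cplx84DiagMono
import Cfsg.Agent.Lib.C6Cplx84DiagFullSL
import Cfsg.Agent.Lib.C6Cplx84DiagFullSU

/-!
The overgroups of the normaliser of complex type in dimension eight: it is maximal.
-/

set_option autoImplicit false
set_option linter.unusedSectionVars false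

namespace Cfsg.Agent.C6Cplx84

open Matrix Cfsg.Agent.C6Plus10 Cfsg.Agent.C6Cplx52
open scoped MatrixGroups

variable {F : Type*} [Field F] [Fintype F] {i : Fˣ} {M : Subgroup (GL (Pt 3) F)}

/-- If every diagonal element normalises, everything does. -/
theorem nr_of_diagN (h2 : (2 : F) ≠ 0) (hi : (i : F) * i = -1) (hM : BaseC i M) (hD : DiagN i M) :
    ∀ g ∈ M, C6Cplx52.Nr i g := by
  have h1 : ∀ g ∈ Lev M ({0} : Finset (Fin 3)), C6Cplx52.Nr i g := by
    refine step h2 hi hM (t := 1) (t' := 2) (by decide) (by decide) (by decide)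
      (fun g hg => lev_two h2 hi hM hD (by rwa [show ({0, 1} : Finset (Fin 3)) = insert 1 {0} by decide]))
      fun g hg hc => cent_one h2 hi hM hD hg fun a b ha => ?_
    obtain ⟨h, h'⟩ := hc a b fun d hd => by rw [Finset.mem_singleton.1 hd]; exact ha
    refine ⟨h, fun c e hce => ?_⟩
    obtain ⟨w, hw, hw'⟩ := h' c e fun d hd => by rw [Finset.mem_singleton.1 hd]; exact hce
    exact ⟨w, fun j hj => hw j (by simpa using hj), hw'⟩
  have h0 : ∀ g ∈ Lev M (∅ : Finset (Fin 3)), C6Cplx52.Nr i g := by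
    refine step h2 hi hM (t := 0) (t' := 1) (by simp) (by simp) (by decide)
      (fun g hg => h1 g (by rwa [show ({0} : Finset (Fin 3)) = insert 0 ∅ by decide]))
      fun g _ hc => cent_top h2 hi (by norm_num) fun a b c e => ?_
    obtain ⟨w, hw, hw'⟩ := (hc a b (by simp)).2 c e (by simp)
    rwa [show w = 0 from funext fun j => hw j (by simp), add_zero] at hw'
  intro g hg
  exact h0 g (by rwa [Lev_empty])

/-- The linear core. -/
theorem core_SL (p : ℕ) (hp : p.Prime) (hcard : Fintype.card F = p) (hp4 : p % 4 = 1) (h2 : (2 : F) ≠ 0)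
    (i : Fˣ) (hi : (i : F) * i = -1) (M : Subgroup (GL (Pt 3) F)) (hM : BaseC i M)
    (hMSL : M ≤ Cfsg.Geo.specialLinear (Pt 3) F) :
    (∀ g ∈ M, C6Cplx52.Nr i g) ∨ Cfsg.Geo.specialLinear (Pt 3) F ≤ M := by
  by_cases hD : DiagN i M
  · exact Or.inl (nr_of_diagN h2 hi hM hD)
  obtain ⟨hm, hJ⟩ := mono_of_diag h2 hi hM (fun g hg => C6Cplx52.mem_sl.1 (hMSL hg)) hD
  exact Or.inr (full_SL hp hp4 hcard hi hM hMSL (fun σ f h => hm σ f (by rwa [Units.val_mul] at h)) hJ)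

/-- The unitary core. -/
theorem core_SU (q : ℕ) (hq : q.Prime) (hcard : Fintype.card F = q ^ 2) (hq4 : q % 4 = 3) (h2 : (2 : F) ≠ 0)
    (i : Fˣ) (hi : (i : F) * i = -1) (hiq : (i : F) ^ q = -i) (M : Subgroup (GL (Pt 3) F)) (hM : BaseC i M)
    (hMU : M ≤ suM q F 3) : (∀ g ∈ M, C6Cplx52.Nr i g) ∨ suM q F 3 ≤ M := by
  by_cases hD : DiagN i M
  · exact Or.inl (nr_of_diagN h2 hi hM hD)
  obtain ⟨hm, hJ⟩ := mono_of_diag h2 hi hM (fun g hg => (mem_suM.1 (hMU hg)).2) hD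
  exact Or.inr (full_SU hq hq4 hcard hi hiq hM hMU (fun σ f h => hm σ f (by rwa [Units.val_mul] at h)) hJ)

end Cfsg.Agent.C6Cplx84
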