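import Cfsg.Agent.Lib.C6Cplx52CoordDefs

/-!
The levels of an overgroup of the normaliser of complex type, and the dichotomy on its diagonal elements.
-/

set_option autoImplicit false
set_option linter.unusedSectionVars false

namespace Cfsg.Agent.C6Cplx84

open Matrix Cfsg.Agent.C6Plus10 Cfsg.Agent.C6Cplx52
open scoped MatrixGroups

variable {F : Type*} [Field F] {k : ℕ}

/-- A diagonal matrix. -/
noncomputable def dg (f : Pt k → Fˣ) : GL (Pt k) F where
  val := Matrix.diagonal fun x => (f x : F)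
  inv := Matrix.diagonal fun x => ((f x)⁻¹ : Fˣ)
  val_inv := by rw [Matrix.diagonal_mul_diagonal]; simp
  inv_val := by rw [Matrix.diagonal_mul_diagonal]; simp

theorem dg_val (f : Pt k → Fˣ) :
    ((dg f : GL (Pt k) F) : Matrix (Pt k) (Pt k) F) = Matrix.diagonal fun x => (f x : F) := rfl

theorem dg_mul (f g : Pt k → Fˣ) : dg f * dg g = dg (f * g) :=
  Units.ext (by rw [Units.val_mul, dg_val, dg_val, dg_val, Matrix.diagonal_mul_diagonal]; simp)

theorem dg_one : dg (1 : Pt k → Fˣ) = (1 : GL (Pt k) F) := Units.ext (by simp [dg_val])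

/-- Every diagonal element normalises. -/
def DiagN (i : Fˣ) (M : Subgroup (GL (Pt k) F)) : Prop := ∀ f : Pt k → Fˣ, dg f ∈ M → Nr i (dg f)

/-- The centraliser in `M` of the signs at the positions of `D`. -/
def Lev (M : Subgroup (GL (Pt k) F)) (D : Finset (Fin k)) : Subgroup (GL (Pt k) F) :=
  M ⊓ Subgroup.centralizer ((fun d => sd F (ip (Pi.single d 1))) '' (D : Set (Fin k)))

theorem mem_Lev {M : Subgroup (GL (Pt k) F)} {D : Finset (Fin k)} {g : GL (Pt k) F} :
    g ∈ Lev M D ↔ g ∈ M ∧ ∀ d ∈ D, g * sd F (ip (Pi.single d 1)) = sd F (ip (Pi.single d 1)) * g := by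
  rw [Lev, Subgroup.mem_inf, Subgroup.mem_centralizer_iff]
  simp only [Set.forall_mem_image, Finset.mem_coe, eq_comm]

end Cfsg.Agent.C6Cplx84
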