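import Cfsg.Agent.Lib.C6Plus10FinishPerms
import Cfsg.Agent.Lib.Frame10Gen
import Cfsg.Agent.Lib.OmegaMaxGlue

/-!
An overgroup of the normaliser with a diagonal element whose signs are not quadratic contains the derived
group of the isometry group.
-/

set_option autoImplicit false
set_option linter.unusedSectionVars false

namespace Cfsg.Agent.C6Plus10

open Matrix QuadraticMap Module
open Cfsg.Agent.OrthUnitaryQuad Cfsg.Agent.OrthUnitaryRefl Cfsg.Agent.OmegaDecomp Cfsg.Agent.OmegaGeo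
  Cfsg.Agent.OrthUnitaryPrelude
open scoped MatrixGroups

variable {F : Type*} [Field F] {k : ℕ}

section rset

variable {ι : Type*} [Fintype ι] [DecidableEq ι] [Fintype F] {N : Subgroup (orth (Frame10.sq F ι))}

/-- The reflection-closed set, from the pairs of coordinate vectors and of transpositions alone. -/
theorem rSet_of_pairs (h2 : (2 : F) ≠ 0) (hax : ∀ i j, PairIn N (Frame10.ax i) (Frame10.ax j))
    (hsw : ∀ {a b c d : ι}, a ≠ b → c ≠ d → ∃ m ∈ N,
      (∀ x, m.1 x = x ∘ (Equiv.swap c d * Equiv.swap a b : Equiv.Perm ι)) ∧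
      ∀ i, m.1 (Frame10.ax i) = Frame10.ax ((Equiv.swap a b * Equiv.swap c d : Equiv.Perm ι) i))
    (i₀ : ι) : Frame10.RSet (Frame10.InR N i₀) := by
  have hax1 : ∀ i : ι, (Frame10.ax i : ι → F) ⬝ᵥ Frame10.ax i = 1 := fun i => by
    rw [Frame10.dot_ax, Frame10.ax_self]
  have hone : ∀ {x : ι → F}, x ⬝ᵥ x = 1 → Frame10.sq F ι x ≠ 0 := fun {x} h => by
    rw [Frame10.sq_apply, h]; exact one_ne_zero
  have hflip : ∀ i x, Frame10.InR N i₀ x → Frame10.InR N i₀ (Frame10.rv (Frame10.ax i) x) := by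
    intro i x hx
    have hu : Frame10.rv (Frame10.ax i) x ⬝ᵥ Frame10.rv (Frame10.ax i) x = 1 := by
      rw [Frame10.rv_dot (by rw [hax1]; exact one_ne_zero), hx.1]
    refine ⟨hu, PairIn.trans ?_ (hax i i₀)⟩
    obtain ⟨h1, h1', hm⟩ := hx.2.trans (hax i₀ i)
    refine ⟨hone hu, h1', ?_⟩
    have e' : refl (Frame10.sq F ι) (Frame10.rv (Frame10.ax i) x) (hone hu) =
        refl (Frame10.sq F ι) (Frame10.ax i) h1' * refl (Frame10.sq F ι) x h1 *
          (refl (Frame10.sq F ι) (Frame10.ax i) h1')⁻¹ := by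
      rw [conj_refl]; apply orth_ext; intro y; rw [Frame10.refl_rv, Frame10.refl_rv, Frame10.refl_rv]
    rw [e', inv_mul_cancel_right]
    have := N.inv_mem hm
    rwa [_root_.mul_inv_rev, inv_eq_of_mul_eq_one_right (refl_sq _ h1),
      inv_eq_of_mul_eq_one_right (refl_sq _ h1')] at this
  refine ⟨fun x hx => hx.1, fun i => ⟨hax1 i, hax i i₀⟩, hflip, ?_, ?_⟩
  · intro x y hx hy
    obtain ⟨h1, h1', hm⟩ := hx.2
    have hy' := hflip i₀ y hy
    refine ⟨by rw [Frame10.rv_dot (by rw [hx.1]; exact one_ne_zero), hy.1], ?_⟩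
    have h := hy'.2.map hm
    have e1 : (refl (Frame10.sq F ι) x h1 * refl (Frame10.sq F ι) (Frame10.ax i₀) h1').1
        (Frame10.rv (Frame10.ax i₀) y) = Frame10.rv x y := by
      rw [orth_mul_apply, Frame10.refl_rv, Frame10.refl_rv, Frame10.rv_rv (by rw [hax1]; exact one_ne_zero)]
    have e3 : (refl (Frame10.sq F ι) x h1 * refl (Frame10.sq F ι) (Frame10.ax i₀) h1').1 (Frame10.ax i₀) =
        -Frame10.rv x (Frame10.ax i₀) := by
      rw [orth_mul_apply, Frame10.refl_rv, Frame10.refl_rv]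
      funext l
      simp [Frame10.rv, Frame10.dot_ax, Frame10.ax_self, dotProduct_sub, dotProduct_smul]
      ring
    rw [e1, e3] at h
    have hz : Frame10.rv x (Frame10.ax i₀) ⬝ᵥ Frame10.rv x (Frame10.ax i₀) = 1 := by
      rw [Frame10.rv_dot (by rw [hx.1]; exact one_ne_zero), hax1]
    have h' := Frame10.pairIn_congr_right h (hone hz) fun z => by
      rw [← neg_one_smul F (Frame10.rv x (Frame10.ax i₀)), Frame10.rv_smul (neg_ne_zero.2 one_ne_zero)]
    refine h'.trans ⟨hone hz, h1', ?_⟩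
    have e4 : refl (Frame10.sq F ι) (Frame10.rv x (Frame10.ax i₀)) (hone hz) =
        refl (Frame10.sq F ι) x h1 * refl (Frame10.sq F ι) (Frame10.ax i₀) h1' * (refl (Frame10.sq F ι) x h1)⁻¹ := by
      rw [conj_refl]; apply orth_ext; intro y; rw [Frame10.refl_rv, Frame10.refl_rv, Frame10.refl_rv]
    rw [e4, inv_eq_of_mul_eq_one_right (refl_sq _ h1), mul_assoc (_ * _)]
    exact N.mul_mem hm hm
  · intro x a b c d hx hab hcd
    obtain ⟨m, hm, hmx, hmax⟩ := hsw hab hcd
    rw [← hmx]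
    refine ⟨by rw [Frame10.map_dot_self, hx.1], ?_⟩
    have h := hx.2.map hm
    rw [hmax] at h
    exact h.trans (hax _ i₀)

end rset

section finish

variable [Fintype F] {M : Subgroup (GL (Pt k) F)}

theorem exists_orth {g : GL (Pt k) F} (h : (g : Matrix (Pt k) (Pt k) F)ᵀ * (g : Matrix (Pt k) (Pt k) F) = 1) :
    ∃ m : orth (Frame10.sq F (Pt k)), toGL (Frame10.sq F (Pt k)) m = g := by
  have hg : g ∈ Cfsg.isometryGroup F ⇑(Frame10.sq F (Pt k)) := fun u v => by
    show Frame10.sq F (Pt k) ((g : Matrix (Pt k) (Pt k) F) *ᵥ u) = Frame10.sq F (Pt k) u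
    rw [Frame10.sq_apply, Frame10.sq_apply, dotProduct_mulVec, ← mulVec_transpose, mulVec_mulVec, h, one_mulVec]
  exact ⟨iso _ ⟨g, hg⟩, by rw [toGL, MulEquiv.symm_apply_apply]⟩

theorem toGL_eq_iff {m : orth (Frame10.sq F (Pt k))} {g : GL (Pt k) F}
    (h : ∀ x, (g : Matrix (Pt k) (Pt k) F) *ᵥ x = m.1 x) : toGL (Frame10.sq F (Pt k)) m = g :=
  Units.ext (Matrix.ext_of_mulVec_single fun i => by rw [toGL_mulVec, h])

theorem pm_mulVec (π : Equiv.Perm (Pt k)) (v : Pt k → F) :
    ((pm F π : GL (Pt k) F) : Matrix (Pt k) (Pt k) F) *ᵥ v = v ∘ π.symm := funext fun x => by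
  rw [Matrix.mulVec, dotProduct, Finset.sum_eq_single (π.symm x)]
  · simp [pm_apply]
  · intro y _ hy
    rw [pm_apply, if_neg fun e => hy (by rw [e, π.symm_apply_apply]), zero_mul]
  · simp

theorem hh_ax (c d : Fin k) (y : Pt k) :
    hh F c d *ᵥ Frame10.ax y = fun x => hh F c d x y := funext fun x => by
  simp [Frame10.ax]

/-- A diagonal element with signs that are not quadratic gives the derived isometry group. -/
theorem full (hp : (Fintype.card F).Prime) (hodd : Odd (Fintype.card F)) (hk : 4 ≤ k) (hM : Base M)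
    {f : Pt k → ZMod 2} (hf : sd F f ∈ M) (hq : ¬ Quad f) :
    Cfsg.Geo.omegaGL ⇑(Frame10.sq F (Pt k)) ≤ M := by
  classical
  have h2 : (2 : F) ≠ 0 := by
    have := hp.two_le
    have hne : Fintype.card F ≠ 2 := fun e => by rw [e] at hodd; exact absurd hodd (by decide)
    exact_mod_cast Frame10.small_ne hp (k := 2) (by omega) (by norm_num)
  have h2s := two_mem hM hk hf hq
  set Q := Frame10.sq F (Pt k) with hQdef
  let N : Subgroup (orth Q) := M.comap (OmegaMaxGlue.glHom Q)
  have hmemN : ∀ {m : orth Q} {g : GL (Pt k) F}, g ∈ M →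
      (∀ x, (g : Matrix (Pt k) (Pt k) F) *ᵥ x = m.1 x) → m ∈ N := fun {m g} hg h => by
    show toGL Q m ∈ M
    rwa [toGL_eq_iff h]
  have hQax : ∀ i : Pt k, Q (Frame10.ax i) ≠ 0 := fun i => by
    rw [Frame10.sq_apply, Frame10.dot_ax, Frame10.ax_self]; exact one_ne_zero
  have hax : ∀ i j : Pt k, PairIn N (Frame10.ax i) (Frame10.ax j) := by
    intro i j
    refine ⟨hQax i, hQax j, hmemN (h2s i j) fun x => ?_⟩
    rw [orth_mul_apply, Frame10.refl_rv, Frame10.refl_rv, Frame10.rv_ax, Frame10.rv_ax, sd_mulVec _ x i]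
    funext y
    simp only [two, Function.update_apply, sgn_add]
    by_cases hi : y = i <;> by_cases hj : y = j
    · subst hi; subst hj; simp [sgn_one]
    · subst hi; simp [sgn_one, hj]
    · subst hj; simp [sgn_one, hi]
    · simp [hi, hj]
  have hsw : ∀ {a b c d : Pt k}, a ≠ b → c ≠ d → ∃ m ∈ N,
      (∀ x, m.1 x = x ∘ (Equiv.swap c d * Equiv.swap a b : Equiv.Perm (Pt k))) ∧
      ∀ i, m.1 (Frame10.ax i) = Frame10.ax ((Equiv.swap a b * Equiv.swap c d : Equiv.Perm (Pt k)) i) := by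
    intro a b c d hab hcd
    have hQdf : ∀ {u v : Pt k}, u ≠ v → Q (Frame10.df u v) ≠ 0 := fun h => by
      rw [Frame10.sq_apply, Frame10.df_self h]; exact h2
    have happ : ∀ x, (refl Q _ (hQdf hab) * refl Q _ (hQdf hcd)).1 x =
        x ∘ (Equiv.swap c d * Equiv.swap a b : Equiv.Perm (Pt k)) := fun x => by
      rw [orth_mul_apply, Frame10.refl_rv, Frame10.refl_rv, Frame10.rv_df h2 hcd, Frame10.rv_df h2 hab]
      rfl
    refine ⟨_, hmemN (swaps_mem hM hk h2s hab hcd) fun x => ?_, happ, fun i => ?_⟩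
    · rw [happ, pm_mulVec, ← Equiv.Perm.inv_def, _root_.mul_inv_rev, Equiv.swap_inv, Equiv.swap_inv]
    · rw [happ]
      funext l
      simp [Frame10.ax, Pi.single_apply, Equiv.swap_apply_eq_iff]
  -- a unit vector with four entries paired with a coordinate vector
  obtain ⟨c, hc⟩ := exists_outside (∅ : Finset (Fin k)) (by simp; omega)
  obtain ⟨d, hd⟩ := exists_outside ({c} : Finset (Fin k)) (by simp; omega)
  obtain ⟨e, he⟩ := exists_outside ({c, d} : Finset (Fin k)) (by
    have := Finset.card_le_two (a := c) (b := d); omega)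
  obtain ⟨g, hg⟩ := exists_outside ({c, d, e} : Finset (Fin k)) (by
    have := Finset.card_le_three (a := c) (b := d) (c := e); omega)
  simp only [Finset.mem_insert, Finset.mem_singleton, not_or] at hd he hg
  obtain ⟨hec, hed⟩ := he
  obtain ⟨hgc, hgd, hge⟩ := hg
  obtain ⟨u, hu, huv⟩ := hM.had c d (Ne.symm hd)
  obtain ⟨m, hm⟩ := exists_orth (hM.iso u hu)
  have hmN : m ∈ N := by show toGL Q m ∈ M; rwa [hm]
  have hmx : ∀ x, m.1 x = hh F c d *ᵥ x := fun x => by rw [← toGL_mulVec, hm, huv]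
  have hsym : (hh F c d : Matrix (Pt k) (Pt k) F)ᵀ = hh F c d := Matrix.ext fun x y => by
    simp only [Matrix.transpose_apply, hh, Matrix.of_apply, mul_comm (y c), mul_comm (y d)]
    congr 1
    exact propext (forall_congr' fun i => forall_congr' fun _ => forall_congr' fun _ => eq_comm)
  have hinv : ∀ x, m.1 (m.1 x) = x := fun x => by
    have h := hM.iso u hu
    rw [huv, hsym] at h
    rw [hmx, hmx, mulVec_mulVec, h, one_mulVec]
  set z : Pt k := pe e
  set q : Pt k := pe g
  have hz0 : hh F c d z 0 = 0 := by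
    rw [hh, Matrix.of_apply, if_neg fun h => by simpa [z] using h e hec hed]
  have hq0 : hh F c d q 0 = 0 := by
    rw [hh, Matrix.of_apply, if_neg fun h => by simpa [q] using h g hgc hgd]
  have hqz : hh F c d q z = 0 := by
    rw [hh, Matrix.of_apply, if_neg fun h => by simpa [q, z, pe_ne hge] using h g hgc hgd]
  have hzz : hh F c d z z = (2 : F)⁻¹ := by
    rw [hh, Matrix.of_apply, if_pos fun _ _ _ => rfl]
    simp [z, pe_ne (Ne.symm hec), pe_ne (Ne.symm hed)]
  have hzq : z ≠ q := fun h => by simpa [z, q, pe_ne (Ne.symm hge)] using congrFun h e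
  obtain ⟨_, _, hs⟩ := hax z q
  set s := refl Q (Frame10.ax z) (hQax z) * refl Q (Frame10.ax q) (hQax q)
  have hsx : ∀ (x : Pt k → F), x q = 0 → s.1 x = x - (2 * x z) • Frame10.ax z := fun x hx => by
    have h1 : Frame10.rv (Frame10.ax q) x = x := by
      rw [Frame10.rv_ax, hx, neg_zero, ← hx, Function.update_eq_self]
    rw [orth_mul_apply, Frame10.refl_rv, Frame10.refl_rv, h1, Frame10.rv, Frame10.dot_ax, Frame10.dot_ax,
      Frame10.ax_self, div_one]
  have hfix : s.1 (m.1 (Frame10.ax 0)) = m.1 (Frame10.ax 0) := by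
    rw [hsx _ (by rw [hmx, hh_ax]; exact hq0)]
    rw [show (m.1 (Frame10.ax 0)) z = 0 from by rw [hmx, hh_ax]; exact hz0, mul_zero, zero_smul, sub_zero]
  set w := m.1 (s.1 (m.1 (Frame10.ax z))) with hw
  have hwx : ∀ x, w x = (Frame10.ax z : Pt k → F) x - hh F c d x z := fun x => by
    rw [hw, hsx _ (by rw [hmx, hh_ax]; exact hqz), map_sub, map_smul, hinv,
      show (m.1 (Frame10.ax z)) z = hh F c d z z from by rw [hmx, hh_ax], hzz, mul_inv_cancel₀ h2, one_smul,
      hmx, hh_ax]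
    rfl
  have hR : Frame10.InR N 0 w := by
    refine ⟨by rw [hw, Frame10.map_dot_self, Frame10.map_dot_self, Frame10.map_dot_self, Frame10.dot_ax,
      Frame10.ax_self], ?_⟩
    have := ((((hax z 0).map hmN).map hs).map hmN)
    rwa [hfix, hinv] at this
  have hcol : ∀ {x : Pt k}, (∀ i, i ≠ c → i ≠ d → x i = z i) → x ≠ z → w x ≠ 0 := fun {x} hx hxz => by
    rw [hwx, Frame10.ax_ne hxz, zero_sub, neg_ne_zero, hh, Matrix.of_apply, if_pos hx]
    exact mul_ne_zero (inv_ne_zero h2) (sgn_ne_zero _)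
  have hnr : ¬ Frame10.Root w := by
    refine Frame10.not_root_of_card (le_trans ?_ (Finset.card_le_card (s := {z, z + pe c, z + pe d}) ?_))
    · have n1 : z ≠ z + pe c := pt_ne_add c (pe_self c)
      have n2 : z ≠ z + pe d := pt_ne_add d (pe_self d)
      have n3 : z + pe c ≠ z + pe d := fun h => by simpa [pe_ne (Ne.symm hd)] using congrFun (add_left_cancel h) c
      rw [Finset.card_eq_three.2 ⟨_, _, _, n1, n2, n3, rfl⟩]
    · intro x hx
      rw [Frame10.mem_supp]
      simp only [Finset.mem_insert, Finset.mem_singleton] at hx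
      rcases hx with rfl | rfl | rfl
      · rw [hwx, Frame10.ax_self, hzz]
        intro h
        exact one_ne_zero (show (1 : F) = 0 by linear_combination (2 : F) * h + mul_inv_cancel₀ h2)
      · exact hcol (fun i h _ => by simp [pe_ne h]) (pt_ne_add c (pe_self c)).symm
      · exact hcol (fun i _ h => by simp [pe_ne h]) (pt_ne_add d (pe_self d)).symm
  have hw0 : w 0 = 0 := by
    rw [hwx, Frame10.ax_ne (fun h => by simpa [z] using congrFun h.symm e), zero_sub, neg_eq_zero, hh,
      Matrix.of_apply, if_neg fun h => by simpa [z] using h e hec hed]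
  have hcard : 7 ≤ Fintype.card (Pt k) := by
    rw [Fintype.card_fun, ZMod.card, Fintype.card_fin]
    exact le_trans (by norm_num) (Nat.pow_le_pow_right (n := 2) (by norm_num) hk)
  have hle : commutator (orth Q) ≤ N := Frame10.commutator_le_of_units h2 hcard
    (Frame10.descent (rSet_of_pairs h2 hax hsw 0) hp hodd hcard hR hnr hw0)
  intro x hx
  obtain ⟨m', hm', rfl⟩ := exists_of_mem_omegaGL hx
  exact hle hm'

end finish

end Cfsg.Agent.C6Plus10
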