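import Cfsg.Agent.Lib.C6Cplx84Defs
import Cfsg.Agent.Lib.C6Plus10Finish

/-!
Monomial matrices with fourth roots of unity and the block of two Hadamard factors give the real derived
orthogonal group: in particular its root elements.
-/

set_option autoImplicit false
set_option linter.unusedSectionVars false

namespace Cfsg.Agent.C6Cplx84

open Matrix Cfsg.Agent.C6Plus10 QuadraticMap
open Cfsg.Agent.OrthUnitaryQuad Cfsg.Agent.OrthUnitaryRefl Cfsg.Agent.OmegaDecomp Cfsg.Agent.OmegaGeo
  Cfsg.Agent.OrthUnitaryPrelude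
open scoped MatrixGroups

variable {F : Type*} [Field F] {i : Fˣ} {M : Subgroup (GL (Pt 3) F)}

/-- All monomial matrices of determinant one with entries among the powers of `i`. -/
def MonoMem (i : Fˣ) (M : Subgroup (GL (Pt 3) F)) : Prop :=
  ∀ (σ : Equiv.Perm (Pt 3)) (f : Pt 3 → ℕ),
    ((dg (fun x => i ^ f x) * pm F σ : GL (Pt 3) F) : Matrix (Pt 3) (Pt 3) F).det = 1 →
      dg (fun x => i ^ f x) * pm F σ ∈ M

theorem pm_act {k : ℕ} (π : Equiv.Perm (Pt k)) (v : Pt k → F) :
    ((pm F π : GL (Pt k) F) : Matrix (Pt k) (Pt k) F) *ᵥ v = v ∘ π.symm := funext fun x => by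
  rw [Matrix.mulVec, dotProduct, Finset.sum_eq_single (π.symm x)]
  · simp [pm_apply]
  · intro y _ hy
    rw [pm_apply, if_neg fun e => hy (by rw [e, π.symm_apply_apply]), zero_mul]
  · simp

theorem pm_det {k : ℕ} (σ : Equiv.Perm (Pt k)) :
    ((pm F σ : GL (Pt k) F) : Matrix (Pt k) (Pt k) F).det = ((Equiv.Perm.sign σ : ℤ) : F) := by
  have : ((pm F σ : GL (Pt k) F) : Matrix (Pt k) (Pt k) F) = (σ⁻¹).permMatrix F := by
    ext x y
    simp only [pm_apply, Equiv.Perm.permMatrix, PEquiv.toMatrix_apply, Equiv.toPEquiv_apply, Option.mem_some_iff,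
      Equiv.Perm.inv_def, Equiv.symm_apply_eq]
  rw [this, Matrix.det_permutation, Equiv.Perm.sign_inv]

theorem diag_pow_mem (hi : (i : F) * i = -1) (hmono : MonoMem i M) (f : Pt 3 → ℕ) (h : 4 ∣ ∑ x, f x) :
    dg (fun x => i ^ f x) ∈ M := by
  have h4 : i ^ 4 = 1 := Units.ext (by
    rw [Units.val_pow_eq_pow_val, Units.val_one, show (i : F) ^ 4 = ((i : F) * i) * ((i : F) * i) by ring, hi]
    norm_num)
  have := hmono 1 f (by
    rw [pm_one, mul_one, dg_val, Matrix.det_diagonal, ← Units.coe_prod, Finset.prod_pow_eq_pow_sum]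
    obtain ⟨c, hc⟩ := h
    rw [hc, pow_mul, h4, one_pow, Units.val_one])
  rwa [pm_one, mul_one] at this

theorem perm_one_mem (hmono : MonoMem i M) {σ : Equiv.Perm (Pt 3)} (h : Equiv.Perm.sign σ = 1) : pm F σ ∈ M := by
  have e : dg (fun x : Pt 3 => i ^ (0 : ℕ)) = (1 : GL (Pt 3) F) := by
    simp only [pow_zero]
    exact dg_one
  have := hmono σ (fun _ => 0) (by rw [e, one_mul, pm_det, h]; simp)
  rwa [e, one_mul] at this

/-- The integral form of twice the block. -/
def blockZ : Matrix (Pt 3) (Pt 3) ℤ :=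
  Matrix.of fun x y => if x 0 = 1 ∧ y 0 = 1 then (if x 1 * y 1 + x 2 * y 2 = 0 then 1 else -1)
    else (if x = y then 2 else 0)

set_option maxRecDepth 20000 in
theorem blockZ_sq : blockZ * blockZ = Matrix.diagonal fun _ => 4 := by decide

/-- The block of two Hadamard factors. -/
def block (F : Type*) [Field F] : Matrix (Pt 3) (Pt 3) F :=
  Matrix.of fun x y => if x 0 = 1 ∧ y 0 = 1 then (2:F)⁻¹ * sgn F (x 1 * y 1 + x 2 * y 2)
    else (if x = y then 1 else 0)

theorem block_eq (h2 : (2 : F) ≠ 0) : block F = (2 : F)⁻¹ • blockZ.map (Int.castRingHom F) := by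
  ext x y
  simp only [block, blockZ, Matrix.of_apply, Matrix.smul_apply, Matrix.map_apply, smul_eq_mul, sgn]
  split_ifs <;> simp [h2]

theorem block_sq (h2 : (2 : F) ≠ 0) : block F * block F = 1 := by
  rw [block_eq h2, smul_mul_assoc, mul_smul_comm, ← Matrix.map_mul, blockZ_sq, smul_smul,
    Matrix.diagonal_map (map_zero _), ← Matrix.diagonal_smul, ← Matrix.diagonal_one]
  congr 1
  funext x
  simp only [Pi.smul_apply, Function.comp_apply, smul_eq_mul, map_ofNat]
  field_simp
  norm_num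

theorem block_transpose : (block F)ᵀ = block F := by
  ext x y
  simp only [block, Matrix.transpose_apply, Matrix.of_apply, and_comm (a := y 0 = 1), mul_comm (y _), eq_comm (a := y)]

variable {K : Type*} [Field K] [Fintype K] (c : K →+* F)

/-- The matrices over the larger field of the isometries over the smaller one. -/
noncomputable def big : orth (Frame10.sq K (Pt 3)) →* GL (Pt 3) F :=
  (Matrix.GeneralLinearGroup.map c).comp (OmegaMaxGlue.glHom (Frame10.sq K (Pt 3)))

theorem big_mulVec (m : orth (Frame10.sq K (Pt 3))) (x : Pt 3 → K) :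
    ((big c m : GL (Pt 3) F) : Matrix (Pt 3) (Pt 3) F) *ᵥ (c ∘ x) = c ∘ m.1 x := by
  show ((toGL _ m : GL (Pt 3) K) : Matrix (Pt 3) (Pt 3) K).map c *ᵥ _ = _
  rw [← toGL_mulVec]
  funext t
  exact (RingHom.map_mulVec c _ x t).symm

theorem mem_big {m : orth (Frame10.sq K (Pt 3))} {g : GL (Pt 3) F} (hg : g ∈ M)
    (h : ∀ x, (g : Matrix (Pt 3) (Pt 3) F) *ᵥ (c ∘ x) = c ∘ m.1 x) : m ∈ M.comap (big c) := by
  show big c m ∈ M
  have : big c m = g := Units.ext (Matrix.ext_of_mulVec_single fun t => by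
    have e : (Pi.single t 1 : Pt 3 → F) = c ∘ Pi.single t 1 := by
      funext s
      simp [Pi.single_apply, apply_ite c]
    rw [e, big_mulVec, h])
  rwa [this]

include c in
/-- The real derived orthogonal group lies in the overgroup. -/
theorem commutator_le_real (hp : (Fintype.card K).Prime) (hodd : Odd (Fintype.card K)) (hi : (i : F) * i = -1)
    (hmono : MonoMem i M) {J : GL (Pt 3) F} (hJ : J ∈ M) (hJv : (J : Matrix (Pt 3) (Pt 3) F) = block F) :
    commutator (orth (Frame10.sq K (Pt 3))) ≤ M.comap (big c) := by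
  classical
  have hk2 : (2 : K) ≠ 0 := by
    have := hp.two_le
    have hne : Fintype.card K ≠ 2 := fun e => by rw [e] at hodd; exact absurd hodd (by decide)
    exact_mod_cast Frame10.small_ne hp (k := 2) (by omega) (by norm_num)
  have h2 : (2 : F) ≠ 0 := fun e => hk2 (c.injective (by rw [map_ofNat, e, map_zero]))
  have hi2 : (i : F) ^ 2 = -1 := by rw [pow_two, hi]
  set Q := Frame10.sq K (Pt 3) with hQdef
  set N := M.comap (big c) with hN
  have hQax : ∀ j : Pt 3, Q (Frame10.ax j) ≠ 0 := fun j => by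
    rw [Frame10.sq_apply, Frame10.dot_ax, Frame10.ax_self]; exact one_ne_zero
  have hneg : ∀ (a b : Pt 3) (w : Pt 3 → F), a ≠ b →
      ((dg fun t => i ^ (if t = a ∨ t = b then 2 else 0) : GL (Pt 3) F) : Matrix (Pt 3) (Pt 3) F) *ᵥ w =
        fun t => if t = a ∨ t = b then -w t else w t := fun a b w _ => by
    funext t
    rw [dg_val, Matrix.mulVec_diagonal, Units.val_pow_eq_pow_val]
    split_ifs <;> simp [hi2]
  have hnegM : ∀ a b : Pt 3, a ≠ b → dg (fun t => i ^ (if t = a ∨ t = b then 2 else 0)) ∈ M := fun a b hab => by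
    refine diag_pow_mem hi hmono _ ⟨1, ?_⟩
    rw [Finset.sum_eq_add a b hab (fun t _ ht => by simp [ht.1, ht.2]) (by simp) (by simp)]
    simp
  have hax : ∀ a b : Pt 3, PairIn N (Frame10.ax a) (Frame10.ax b) := by
    intro a b
    refine ⟨hQax a, hQax b, ?_⟩
    rcases eq_or_ne a b with rfl | hab
    · rw [refl_sq]; exact N.one_mem
    refine mem_big c (hnegM a b hab) fun x => ?_
    rw [hneg a b _ hab, orth_mul_apply, Frame10.refl_rv, Frame10.refl_rv, Frame10.rv_ax, Frame10.rv_ax]
    funext t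
    simp only [Function.comp_apply, Function.update_apply]
    by_cases ha : t = a
    · subst ha; simp [hab]
    · by_cases hb : t = b
      · subst hb; simp [ha]
      · simp [ha, hb]
  have hsw : ∀ {a b a' b' : Pt 3}, a ≠ b → a' ≠ b' → ∃ m ∈ N,
      (∀ x, m.1 x = x ∘ (Equiv.swap a' b' * Equiv.swap a b : Equiv.Perm (Pt 3))) ∧
      ∀ j, m.1 (Frame10.ax j) = Frame10.ax ((Equiv.swap a b * Equiv.swap a' b' : Equiv.Perm (Pt 3)) j) := by
    intro a b a' b' hab hab'
    have hQdf : ∀ {u v : Pt 3}, u ≠ v → Q (Frame10.df u v) ≠ 0 := fun h => by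
      rw [Frame10.sq_apply, Frame10.df_self h]; exact hk2
    have happ : ∀ x, (refl Q _ (hQdf hab) * refl Q _ (hQdf hab')).1 x =
        x ∘ (Equiv.swap a' b' * Equiv.swap a b : Equiv.Perm (Pt 3)) := fun x => by
      rw [orth_mul_apply, Frame10.refl_rv, Frame10.refl_rv, Frame10.rv_df hk2 hab', Frame10.rv_df hk2 hab]
      rfl
    refine ⟨_, mem_big c (perm_one_mem hmono (σ := Equiv.swap a b * Equiv.swap a' b') ?_) fun x => ?_, happ, fun j => ?_⟩
    · rw [map_mul, Equiv.Perm.sign_swap hab, Equiv.Perm.sign_swap hab']; rfl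
    · rw [happ, pm_act, ← Equiv.Perm.inv_def, _root_.mul_inv_rev, Equiv.swap_inv, Equiv.swap_inv]
      rfl
    · rw [happ]
      funext l
      simp [Frame10.ax, Pi.single_apply, Equiv.swap_apply_eq_iff]
  -- a vector with four entries paired with a coordinate vector
  set z : Pt 3 := Pi.single 0 1 with hz
  set v : Pt 3 → K := fun t => if t 0 = 1 then (2 : K)⁻¹ else 0 with hv
  have hz0 : z 0 = 1 := by simp [hz]
  have hz1 : z 1 = 0 := by simp [hz]
  have hz2 : z 2 = 0 := by simp [hz]
  have hzne : z ≠ 0 := fun e => by rw [e] at hz0; exact zero_ne_one hz0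
  have hJz : ∀ t, block F t z = c (v t) := fun t => by
    by_cases ht : t 0 = 1
    · simp [block, hv, hz1, hz2, hz0, ht, map_inv₀, map_ofNat]
    · have : t ≠ z := fun e => ht (e ▸ hz0)
      simp [block, hv, ht, this]
  have hJ0 : ∀ t, block F t 0 = if t = 0 then 1 else 0 := fun t => by simp [block]
  have hJrow : ∀ (w : Pt 3 → F) (b : Pt 3), (block F *ᵥ w) b = (fun t => block F t b) ⬝ᵥ w := fun w b => by
    conv_lhs => rw [← block_transpose]
    rfl
  have hvv : v ⬝ᵥ v = 1 := by
    have : ((Finset.univ.filter fun t : Pt 3 => t 0 = 1).card : K) = 4 := by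
      rw [show (Finset.univ.filter fun t : Pt 3 => t 0 = 1).card = 4 by decide]; norm_num
    simp only [dotProduct, hv, ite_mul, mul_ite, zero_mul, mul_zero, Finset.sum_ite, Finset.sum_const_zero, add_zero,
      Finset.filter_filter, and_self, Finset.sum_const, nsmul_eq_mul, this]
    field_simp
    norm_num
  have hQv : Q v ≠ 0 := by rw [Frame10.sq_apply, hvv]; exact one_ne_zero
  have hR : Frame10.InR N 0 v := by
    refine ⟨hvv, hQv, hQax 0, mem_big c (M.mul_mem (M.mul_mem hJ (hnegM z 0 hzne)) hJ) fun x => ?_⟩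
    rw [Units.val_mul, Units.val_mul, ← Matrix.mulVec_mulVec, ← Matrix.mulVec_mulVec, hJv, hneg z 0 _ hzne,
      orth_mul_apply, Frame10.refl_rv, Frame10.refl_rv]
    set w : Pt 3 → F := block F *ᵥ (c ∘ x) with hw
    have e1 : (fun t => if t = z ∨ t = 0 then -w t else w t) =
        w - (2 * w z) • (Pi.single z 1 : Pt 3 → F) - (2 * w 0) • (Pi.single 0 1 : Pt 3 → F) := by
      funext t
      by_cases h1 : t = z
      · subst h1; simp [hzne]; ring
      · by_cases h0 : t = 0
        · subst h0; simp [h1]; ring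
        · simp [h1, h0]
    have ez : w z = c (v ⬝ᵥ x) := by
      rw [hw, hJrow, RingHom.map_dotProduct]
      exact congrArg (· ⬝ᵥ (c ∘ x)) (funext hJz)
    have e0 : w 0 = c (x 0) := by
      rw [hw, hJrow, funext hJ0]
      simp [dotProduct]
    rw [e1, Matrix.mulVec_sub, Matrix.mulVec_sub, Matrix.mulVec_smul, Matrix.mulVec_smul, ez, e0, hw,
      Matrix.mulVec_mulVec, block_sq h2, Matrix.one_mulVec, Matrix.mulVec_single_one, Matrix.mulVec_single_one]
    have hv0 : v 0 = 0 := by simp [hv]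
    have ev : v ⬝ᵥ Frame10.rv (Frame10.ax 0) x = v ⬝ᵥ x := by
      simp [Frame10.rv, Frame10.dot_ax', dotProduct_sub, dotProduct_smul, hv0]
    funext t
    simp only [Function.comp_apply, Pi.sub_apply, Pi.smul_apply, smul_eq_mul, Matrix.col_apply, hJz, hJ0]
    rw [Frame10.rv, ev, hvv, div_one, Frame10.rv_ax]
    simp only [Pi.sub_apply, Pi.smul_apply, smul_eq_mul, Function.update_apply]
    split_ifs with h
    · subst h
      simp [hv0]; ring
    · simp [show c 2 = (2 : F) from map_ofNat c 2]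
  have hnr : ¬ Frame10.Root v := by
    refine Frame10.not_root_of_card (le_trans (b := (Finset.univ.filter fun t : Pt 3 => t 0 = 1).card) (by decide)
      (Finset.card_le_card fun t ht => ?_))
    rw [Frame10.mem_supp]
    simp only [Finset.mem_filter, Finset.mem_univ, true_and] at ht
    simp [hv, ht, hk2]
  have hcard : 7 ≤ Fintype.card (Pt 3) := by rw [Fintype.card_fun, ZMod.card, Fintype.card_fin]; norm_num
  exact Frame10.commutator_le_of_units hk2 hcard
    (Frame10.descent (rSet_of_pairs hk2 hax hsw 0) hp hodd hcard hR hnr (z := 0) (by simp [hv]))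

include c in
/-- The root elements of the real orthogonal group. -/
theorem root_mem (hp : (Fintype.card K).Prime) (hodd : Odd (Fintype.card K)) (hi : (i : F) * i = -1)
    (hmono : MonoMem i M) {J : GL (Pt 3) F} (hJ : J ∈ M) (hJv : (J : Matrix (Pt 3) (Pt 3) F) = block F)
    {a x : Pt 3 → K} (ha : a ⬝ᵥ a = 0) (hax : a ⬝ᵥ x = 0) :
    ∃ g ∈ M, ∀ y : Pt 3 → F, (g : Matrix (Pt 3) (Pt 3) F) *ᵥ y =
      y + (y ⬝ᵥ (c ∘ a)) • (c ∘ x) - (y ⬝ᵥ (c ∘ x)) • (c ∘ a) -
        (c (x ⬝ᵥ x) * (2 : F)⁻¹ * (y ⬝ᵥ (c ∘ a))) • (c ∘ a) := by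
  classical
  have hk2 : (2 : K) ≠ 0 := by
    have := hp.two_le
    have hne : Fintype.card K ≠ 2 := fun e => by rw [e] at hodd; exact absurd hodd (by decide)
    exact_mod_cast Frame10.small_ne hp (k := 2) (by omega) (by norm_num)
  set u : Pt 3 → K := (2 : K)⁻¹ • a with hu
  have hQu : Frame10.sq K (Pt 3) u = 0 := by
    rw [Frame10.sq_apply, hu, smul_dotProduct, dotProduct_smul, ha, smul_zero, smul_zero]
  have hpx : polar (Frame10.sq K (Pt 3)) u x = 0 := by
    rw [Frame10.polar_sq, hu, smul_dotProduct, hax, smul_zero, mul_zero]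
  have hn : 5 ≤ Module.finrank K (Pt 3 → K) := by
    rw [Module.finrank_pi, Fintype.card_fun, ZMod.card, Fintype.card_fin]; norm_num
  have hm : siegel (Frame10.sq K (Pt 3)) u x hQu hpx ∈ commutator (orth (Frame10.sq K (Pt 3))) := by
    rw [OrthUnitarySimple.commutator_eq_sGroup (Frame10.nondegenerate hk2) hn]
    exact OrthUnitarySimple.siegel_mem (Frame10.nondegenerate hk2) hn hQu hpx
  set m := siegel (Frame10.sq K (Pt 3)) u x hQu hpx
  refine ⟨big c m, commutator_le_real c hp hodd hi hmono hJ hJv hm, fun y => ?_⟩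
  set h : F := c (x ⬝ᵥ x) * (2 : F)⁻¹
  have hB : ((big c m : GL (Pt 3) F) : Matrix (Pt 3) (Pt 3) F) = 1 + vecMulVec (c ∘ x) (c ∘ a) -
      vecMulVec (c ∘ a) (c ∘ x) - h • vecMulVec (c ∘ a) (c ∘ a) := by
    refine Matrix.ext fun t s => ?_
    have e : (Pi.single s 1 : Pt 3 → F) = c ∘ Pi.single s 1 := by
      funext r
      simp [Pi.single_apply, apply_ite c]
    have e' := congrFun (Matrix.mulVec_single_one ((big c m : GL (Pt 3) F) : Matrix (Pt 3) (Pt 3) F) s) t
    rw [Matrix.col_apply] at e'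
    rw [← e', e, big_mulVec, Function.comp_apply, siegel_apply, Frame10.polar_sq, Frame10.polar_sq,
      Frame10.sq_apply, hu, smul_dotProduct]
    have hh : h = c (x ⬝ᵥ x * (2 : K)⁻¹) := by rw [map_mul, map_inv₀, map_ofNat]
    simp only [hh, dotProduct_single, mul_one, Pi.add_apply, Pi.sub_apply, Pi.smul_apply, smul_eq_mul,
      Matrix.add_apply, Matrix.sub_apply, Matrix.smul_apply, vecMulVec_apply, Function.comp_apply, Matrix.one_apply]
    rw [show (if t = s then (1 : F) else 0) = c (Pi.single (M := fun _ : Pt 3 => K) s 1 t) by simp [Pi.single_apply, apply_ite c]]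
    simp only [← map_mul, ← map_add, ← map_sub]
    congr 1
    field_simp
    ring
  rw [hB]
  simp only [Matrix.add_mulVec, Matrix.sub_mulVec, Matrix.smul_mulVec, Matrix.one_mulVec, Matrix.vecMulVec_mulVec,
    op_smul_eq_smul, smul_smul, dotProduct_comm y]

end Cfsg.Agent.C6Cplx84
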