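import Cfsg.Agent.Lib.C6Cplx84Defs
import Cfsg.Agent.Lib.C6Plus10BlockPGL
import Cfsg.Agent.Lib.C6Plus10Alg
import Cfsg.Agent.Lib.C6Plus10Ctl

/-!
Dimension eight, complex type: the pairs of points differing in the last coordinate as two by two blocks, the
constant block elements of an overgroup and the elements supported on one block.
-/

set_option autoImplicit false
set_option linter.unusedSectionVars false
set_option linter.unusedTactic false
set_option linter.unreachableTactic false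
set_option linter.unusedSimpArgs false

namespace Cfsg.Agent.C6Cplx84

open Matrix Cfsg.Agent.C6Plus10 Cfsg.Agent.C6Cplx52
open scoped MatrixGroups

variable {F : Type*} [Field F]

/-- A point from its coordinates. -/
def pt (a b c : ZMod 2) : Pt 3 := ![a, b, c]

theorem pt_eta (x : Pt 3) : pt (x 0) (x 1) (x 2) = x := by
  funext j; fin_cases j <;> rfl

/-- The points as blocks. -/
def bEquiv : Fin 2 × (ZMod 2 × ZMod 2) ≃ Pt 3 where
  toFun p := pt p.2.1 p.2.2 p.1
  invFun x := (x 2, (x 0, x 1))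
  left_inv p := rfl
  right_inv x := pt_eta x

/-- Block diagonal matrices. -/
noncomputable def bd : (ZMod 2 × ZMod 2 → Matrix (Fin 2) (Fin 2) F) →+* Matrix (Pt 3) (Pt 3) F :=
  (Matrix.reindexAlgEquiv F F bEquiv).toRingEquiv.toRingHom.comp
    (Matrix.blockDiagonalRingHom (Fin 2) (ZMod 2 × ZMod 2) F)

theorem bd_apply (f : ZMod 2 × ZMod 2 → Matrix (Fin 2) (Fin 2) F) (x y : Pt 3) :
    bd f x y = if (x 0, x 1) = (y 0, y 1) then f (x 0, x 1) (x 2) (y 2) else 0 := by
  show Matrix.blockDiagonal f (bEquiv.symm x) (bEquiv.symm y) = _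
  rw [Matrix.blockDiagonal_apply]
  rfl

theorem bd_det (f : ZMod 2 × ZMod 2 → Matrix (Fin 2) (Fin 2) F) : (bd f).det = ∏ q, (f q).det := by
  simp [bd, Matrix.det_reindex_self, Matrix.det_blockDiagonal]

/-- The element of the last block. -/
noncomputable def eb : GL (Fin 2) F →* GL (Pt 3) F :=
  (Units.map (bd (F := F)).toMonoidHom).comp
    (MulEquiv.piUnits.symm.toMonoidHom.comp (MonoidHom.mulSingle (fun _ : ZMod 2 × ZMod 2 => GL (Fin 2) F) (1, 1)))

theorem eb_val (B : GL (Fin 2) F) :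
    ((eb B : GL (Pt 3) F) : Matrix (Pt 3) (Pt 3) F) =
      bd (Pi.mulSingle (1, 1) (B : Matrix (Fin 2) (Fin 2) F)) := by
  show bd _ = bd _
  refine congrArg _ (funext fun q => ?_)
  by_cases h : q = (1, 1)
  · subst h; simp [MulEquiv.piUnits]
  · simp [MulEquiv.piUnits, h]

theorem eb_det (B : GL (Fin 2) F) :
    ((eb B : GL (Pt 3) F) : Matrix (Pt 3) (Pt 3) F).det = (B : Matrix (Fin 2) (Fin 2) F).det := by
  rw [eb_val, bd_det, Finset.prod_eq_single (1, 1) (fun q _ hq => by simp [hq]) (by simp)]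
  simp

/-- A constant block element conjugates the last block. -/
theorem eb_conj {N : GL (Pt 3) F} {c : F} {n : GL (Fin 2) F}
    (hN : (N : Matrix (Pt 3) (Pt 3) F) = bd fun _ => c • (n : Matrix (Fin 2) (Fin 2) F)) (B : GL (Fin 2) F) :
    N * eb B * N⁻¹ = eb (n * B * n⁻¹) := by
  rw [mul_inv_eq_iff_eq_mul]
  refine Units.ext ?_
  rw [Units.val_mul, Units.val_mul, hN, eb_val, eb_val, ← map_mul, ← map_mul]
  congr 1
  funext q
  by_cases h : q = (1, 1)
  · subst h
    simp only [Pi.mul_apply, Pi.mulSingle_eq_same, smul_mul_assoc, mul_smul_comm, ← Units.val_mul,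
      inv_mul_cancel_right]
  · simp [h]

/-- The four constants. -/
noncomputable def zB : GL (Fin 2) F :=
  GeneralLinearGroup.mkOfDetNeZero !![1, 0; 0, -1] (by simp [Matrix.det_fin_two])

noncomputable def xB : GL (Fin 2) F :=
  GeneralLinearGroup.mkOfDetNeZero !![0, 1; 1, 0] (by simp [Matrix.det_fin_two])

noncomputable def sB (i : Fˣ) : GL (Fin 2) F :=
  GeneralLinearGroup.mkOfDetNeZero !![1, 0; 0, (i : F)] (by simp [Matrix.det_fin_two])

noncomputable def hB (h2 : (2 : F) ≠ 0) : GL (Fin 2) F :=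
  GeneralLinearGroup.mkOfDetNeZero !![1, 1; 1, -1]
    (by simp only [Matrix.det_fin_two_of]; intro e; exact h2 (by linear_combination -e))

theorem zB_val : ((zB : GL (Fin 2) F) : Matrix (Fin 2) (Fin 2) F) = !![1, 0; 0, -1] := rfl

theorem xB_val : ((xB : GL (Fin 2) F) : Matrix (Fin 2) (Fin 2) F) = !![0, 1; 1, 0] := rfl

theorem sB_val (i : Fˣ) : ((sB i : GL (Fin 2) F) : Matrix (Fin 2) (Fin 2) F) = !![1, 0; 0, (i : F)] := rfl

theorem hB_val (h2 : (2 : F) ≠ 0) :
    ((hB h2 : GL (Fin 2) F) : Matrix (Fin 2) (Fin 2) F) = !![1, 1; 1, -1] := rfl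

/-- A two by two matrix at bit indices. -/
theorem m2_apply (a b c d : F) (u v : ZMod 2) :
    (!![a, b; c, d] : Matrix (Fin 2) (Fin 2) F) u v =
      if u = 0 then (if v = 0 then a else b) else (if v = 0 then c else d) := by
  fin_cases u <;> fin_cases v <;> rfl

theorem one2_apply (u v : ZMod 2) : (1 : Matrix (Fin 2) (Fin 2) F) u v = if u = v then 1 else 0 := by
  fin_cases u <;> fin_cases v <;> rfl

theorem pt_ext {x y : Pt 3} : x = y ↔ x 0 = y 0 ∧ x 1 = y 1 ∧ x 2 = y 2 :=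
  ⟨fun h => h ▸ ⟨rfl, rfl, rfl⟩, fun ⟨a, b, c⟩ => by funext j; fin_cases j <;> assumption⟩

theorem off_last {x y : Pt 3} : (∀ j, j ≠ (2 : Fin 3) → x j = y j) ↔ x 0 = y 0 ∧ x 1 = y 1 :=
  ⟨fun h => ⟨h 0 (by decide), h 1 (by decide)⟩, fun ⟨a, b⟩ j hj => by
    fin_cases j
    · exact a
    · exact b
    · exact absurd rfl hj⟩

theorem pt_zero (a b c : ZMod 2) : pt a b c 0 = a ∧ pt a b c 1 = b ∧ pt a b c 2 = c := ⟨rfl, rfl, rfl⟩

theorem pe_two : (pe (2 : Fin 3) : Pt 3) 0 = 0 ∧ (pe (2 : Fin 3) : Pt 3) 1 = 0 ∧ (pe (2 : Fin 3) : Pt 3) 2 = 1 := by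
  simp [pe]

theorem z_mat : ((sd F (ip (pe (2 : Fin 3))) : GL (Pt 3) F) : Matrix (Pt 3) (Pt 3) F) =
    bd fun _ => (1 : F) • ((zB : GL (Fin 2) F) : Matrix (Fin 2) (Fin 2) F) := by
  ext x y
  rw [bd_apply, one_smul, zB_val, m2_apply, sd_apply, Matrix.diagonal_apply]
  simp only [pt_ext, Prod.ext_iff, ip_pe]
  rcases zm_cases (x 0) with a | a <;> rcases zm_cases (x 1) with b | b <;> rcases zm_cases (x 2) with c | c <;>
    rcases zm_cases (y 0) with d | d <;> rcases zm_cases (y 1) with e | e <;> rcases zm_cases (y 2) with f | f <;>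
      simp [a, b, c, d, e, f, sgn_one]

theorem x_mat : ((pm F (Equiv.addRight (pe (2 : Fin 3))) : GL (Pt 3) F) : Matrix (Pt 3) (Pt 3) F) =
    bd fun _ => (1 : F) • ((xB : GL (Fin 2) F) : Matrix (Fin 2) (Fin 2) F) := by
  ext x y
  rw [bd_apply, one_smul, xB_val, m2_apply, pm_apply]
  obtain ⟨p0, p1, p2⟩ := pe_two
  simp only [pt_ext, Prod.ext_iff, Equiv.coe_addRight, Pi.add_apply, p0, p1, p2, add_zero]
  rcases zm_cases (x 0) with a | a <;> rcases zm_cases (x 1) with b | b <;> rcases zm_cases (x 2) with c | c <;>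
    rcases zm_cases (y 0) with d | d <;> rcases zm_cases (y 1) with e | e <;> rcases zm_cases (y 2) with f | f <;>
      simp [a, b, c, d, e, f, show (1 : ZMod 2) + 1 = 0 by decide]

theorem ph_apply (i : Fˣ) (l : Pt 3 → ZMod 2) : ((ph i l : GL (Pt 3) F) : Matrix (Pt 3) (Pt 3) F) =
    Matrix.diagonal fun x => ((i ^ (l x).val : Fˣ) : F) := rfl

theorem s_mat (i : Fˣ) : ((ph i (ip (pe (2 : Fin 3))) : GL (Pt 3) F) : Matrix (Pt 3) (Pt 3) F) =
    bd fun _ => (1 : F) • ((sB i : GL (Fin 2) F) : Matrix (Fin 2) (Fin 2) F) := by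
  ext x y
  rw [bd_apply, one_smul, sB_val, m2_apply, ph_apply, Matrix.diagonal_apply]
  simp only [pt_ext, Prod.ext_iff, ip_pe]
  rcases zm_cases (x 0) with a | a <;> rcases zm_cases (x 1) with b | b <;> rcases zm_cases (x 2) with c | c <;>
    rcases zm_cases (y 0) with d | d <;> rcases zm_cases (y 1) with e | e <;> rcases zm_cases (y 2) with f | f <;>
      simp [a, b, c, d, e, f, ZMod.val_one]

theorem h_mat (h2 : (2 : F) ≠ 0) (c₀ : F) : (c₀ • Matrix.of fun x y : Pt 3 =>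
      if ∀ j, j ≠ (2 : Fin 3) → x j = y j then sgn F (x 2 * y 2) else 0) =
    bd fun _ => c₀ • ((hB h2 : GL (Fin 2) F) : Matrix (Fin 2) (Fin 2) F) := by
  ext x y
  rw [bd_apply, hB_val]
  show c₀ * (if ∀ j, j ≠ (2 : Fin 3) → x j = y j then sgn F (x 2 * y 2) else 0) =
    if (x 0, x 1) = (y 0, y 1) then c₀ * (!![1, 1; 1, -1] : Matrix (Fin 2) (Fin 2) F) (x 2) (y 2) else 0
  rw [m2_apply]
  simp only [off_last, Prod.ext_iff]
  rcases zm_cases (x 0) with a | a <;> rcases zm_cases (x 1) with b | b <;> rcases zm_cases (x 2) with c | c <;>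
    rcases zm_cases (y 0) with d | d <;> rcases zm_cases (y 1) with e | e <;> rcases zm_cases (y 2) with f | f <;>
      simp [a, b, c, d, e, f, sgn_one]

/-- The last block lifted along the diagonal. -/
theorem eb_diag (a b : Fˣ) {B : GL (Fin 2) F}
    (hB' : (B : Matrix (Fin 2) (Fin 2) F) = !![(a : F), 0; 0, (b : F)]) :
    eb B = dg fun x : Pt 3 => if x = pt 1 1 0 then a else if x = pt 1 1 1 then b else 1 := by
  refine Units.ext (Matrix.ext fun x y => ?_)
  rw [eb_val, bd_apply, dg_val, Matrix.diagonal_apply, Pi.mulSingle_apply]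
  simp only [pt_ext, Prod.ext_iff, (pt_zero _ _ _).1, (pt_zero _ _ _).2.1, (pt_zero _ _ _).2.2, apply_ite Units.val,
    hB']
  rcases zm_cases (x 0) with a' | a' <;> rcases zm_cases (x 1) with b' | b' <;> rcases zm_cases (x 2) with c | c <;>
    rcases zm_cases (y 0) with d | d <;> rcases zm_cases (y 1) with e | e <;> rcases zm_cases (y 2) with f | f <;>
      simp [a', b', c, d, e, f, m2_apply, one2_apply]

theorem eb_xB : eb (xB : GL (Fin 2) F) = pm F (Equiv.swap (pt 1 1 0) (pt 1 1 1)) := by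
  refine Units.ext (Matrix.ext fun x y => ?_)
  rw [eb_val, bd_apply, pm_apply, Pi.mulSingle_apply, Equiv.swap_apply_def, xB_val]
  simp only [pt_ext, Prod.ext_iff, apply_ite (fun p : Pt 3 => p 0), apply_ite (fun p : Pt 3 => p 1),
    apply_ite (fun p : Pt 3 => p 2), (pt_zero _ _ _).1, (pt_zero _ _ _).2.1, (pt_zero _ _ _).2.2]
  rcases zm_cases (x 0) with a | a <;> rcases zm_cases (x 1) with b | b <;> rcases zm_cases (x 2) with c | c <;>
    rcases zm_cases (y 0) with d | d <;> rcases zm_cases (y 1) with e | e <;> rcases zm_cases (y 2) with f | f <;>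
      simp [a, b, c, d, e, f, m2_apply, one2_apply]

variable [Fintype F] {i : Fˣ} {M : Subgroup (GL (Pt 3) F)}

/-- A non-scalar element of the last block gives the pair of fourth roots of unity. -/
theorem block_pair (h2 : (2 : F) ≠ 0) (hi : (i : F) * i = -1) (hM : BaseC i M)
    (hdet : ∀ g ∈ M, (g : Matrix (Pt 3) (Pt 3) F).det = 1) {B : GL (Fin 2) F} (hBM : eb B ∈ M)
    (hne : ∀ c : F, (B : Matrix (Fin 2) (Fin 2) F) ≠ c • 1) :
    ∃ g : GL (Fin 2) F, (g : Matrix (Fin 2) (Fin 2) F) = !![(i : F), 0; 0, -(i : F)] ∧ eb g ∈ M := by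
  classical
  let mk2 : GL (Fin 2) F →* ProjGenLinGroup (Fin 2) F := Matrix.ProjGenLinGroup.mk
  let W : Subgroup (ProjGenLinGroup (Fin 2) F) := (M.comap eb).map mk2
  have hnorm : ∀ {N : GL (Pt 3) F} {c : F} {n : GL (Fin 2) F}, N ∈ M →
      (N : Matrix (Pt 3) (Pt 3) F) = (bd fun _ => c • (n : Matrix (Fin 2) (Fin 2) F)) →
      ∀ w ∈ W, mk2 n * w * (mk2 n)⁻¹ ∈ W := by
    rintro N c n hNM hN w ⟨g, hg, rfl⟩
    refine ⟨n * g * n⁻¹, ?_, by simp⟩
    show eb (n * g * n⁻¹) ∈ M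
    rw [← eb_conj hN]
    exact M.mul_mem (M.mul_mem hNM hg) (M.inv_mem hNM)
  obtain ⟨Nh, hNh, hNhv⟩ := hM.had (2 : Fin 3)
  rw [h_mat h2] at hNhv
  have nz := hnorm (hM.quad _ (aff_ip _).quad) z_mat
  have nx := hnorm (hM.aff _ (fun a b c => by simp only [Equiv.coe_addRight]; ext j; simp; grind)) x_mat
  have ns := hnorm (hM.phase _ (aff_ip _)) (s_mat i)
  have nh := hnorm hNh hNhv
  have hW : W ≠ ⊥ := fun e => by
    have h1 : mk2 B ∈ W := ⟨B, hBM, rfl⟩
    rw [e, Subgroup.mem_bot, ← map_one mk2] at h1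
    obtain ⟨c, hc, hc'⟩ := exists_smul_of_mk h1.symm
    exact hne c (by rw [hc', Units.val_one])
  obtain ⟨t, ht, -, -, -, htc⟩ :=
    fixed_of_normalised h2 zB_val xB_val hi (hB_val h2) (sB_val i) W nz nx nh ns hW
  have hx2z : mk2 (hB h2) * mk2 xB * (mk2 (hB h2))⁻¹ = mk2 zB := by
    rw [mul_inv_eq_iff_eq_mul, ← map_mul, ← map_mul]
    refine mk_ext_smul (one_ne_zero (α := F)) ?_
    rw [Units.val_mul, Units.val_mul, hB_val, xB_val, zB_val, Matrix.mul_fin_two, Matrix.mul_fin_two]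
    simp
  have hs2x : mk2 (sB i) * mk2 (zB * xB) * (mk2 (sB i))⁻¹ = mk2 xB := by
    rw [mul_inv_eq_iff_eq_mul, ← map_mul, ← map_mul]
    refine mk_ext_smul (c := (i : F)) i.ne_zero ?_
    rw [Units.val_mul, Units.val_mul, Units.val_mul, sB_val, zB_val, xB_val]
    simp only [Matrix.mul_fin_two]
    ext a b; fin_cases a <;> fin_cases b <;> simp <;> linear_combination hi
  have hzW : mk2 zB ∈ W := by
    rcases htc with rfl | rfl | rfl
    · exact ht
    · exact hx2z ▸ nh _ ht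
    · exact hx2z ▸ nh _ (hs2x ▸ ns _ ht)
  obtain ⟨g, hg, hgz⟩ := hzW
  obtain ⟨c, hc, hgc⟩ := exists_smul_of_mk hgz.symm
  have hd := hdet _ hg
  rw [eb_det, hgc, zB_val, Matrix.det_smul, Matrix.det_fin_two_of] at hd
  simp only [Fintype.card_fin] at hd
  have hci : c = i ∨ c = -(i : F) := by
    have : (c - i) * (c + i) = 0 := by linear_combination -hd - hi
    rcases mul_eq_zero.1 this with h | h
    · exact Or.inl (sub_eq_zero.1 h)
    · exact Or.inr (eq_neg_of_add_eq_zero_left h)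
  rcases hci with rfl | rfl
  · exact ⟨g, by rw [hgc, zB_val]; simp, hg⟩
  · refine ⟨g⁻¹, ?_, by rw [map_inv]; exact M.inv_mem hg⟩
    rw [Matrix.coe_units_inv]
    refine Matrix.inv_eq_left_inv ?_
    rw [hgc, zB_val]
    ext a b; fin_cases a <;> fin_cases b <;> simp [Matrix.mul_apply, Fin.sum_univ_two, hi]

end Cfsg.Agent.C6Cplx84
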