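import Mathlib

/-!
Fusion of involutions: a finite group with an elementary abelian subgroup, each of whose involutions has its
centraliser inside the normaliser, is that normaliser as soon as the normaliser preserves a quadratic form, or
contains square roots acting as transvections.
-/

set_option autoImplicit false
set_option linter.unusedSectionVars false

namespace Cfsg.Agent.C6Plus10

open Module LinearMap

theorem bit (c : ZMod 2) : c = 0 ∨ c = 1 := (show ∀ c : ZMod 2, c = 0 ∨ c = 1 by decide) c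

theorem vadd_self {V : Type*} [AddCommGroup V] [Module (ZMod 2) V] (v : V) : v + v = 0 := by
  rw [← two_smul (ZMod 2) v, show (2 : ZMod 2) = 0 from rfl, zero_smul]

theorem eq_of_vadd {V : Type*} [AddCommGroup V] [Module (ZMod 2) V] {v w : V} (h : v + w = 0) : v = w := by
  calc v = v + (w + w) := by rw [vadd_self, add_zero]
    _ = w := by rw [← add_assoc, h, zero_add]

section Dihedral

variable {G : Type*} [Group G]

theorem inv_of_sq {a : G} (ha : a * a = 1) : a⁻¹ = a := inv_eq_of_mul_eq_one_right ha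

theorem dihedral_flip {a b : G} (ha : a * a = 1) (hb : b * b = 1) (n : ℕ) :
    a * (a * b) ^ n = ((a * b) ^ n)⁻¹ * a := by
  have h1 : a * (a * b) * a⁻¹ = (a * b)⁻¹ := by
    simp [mul_inv_rev, inv_of_sq ha, inv_of_sq hb, ← mul_assoc, ha, mul_assoc b a a]
  have h2 : a * (a * b) ^ n * a⁻¹ = ((a * b) ^ n)⁻¹ := by rw [← conj_pow, h1, inv_pow]
  rw [← h2, inv_mul_cancel_right]

/-- Two involutions with product of odd order are conjugate under that product. -/
theorem dihedral_conj {a b : G} (ha : a * a = 1) (hb : b * b = 1) {i : ℕ} (h : (a * b) ^ (2 * i + 1) = 1) :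
    ((a * b) ^ i) * a * ((a * b) ^ i)⁻¹ = b := by
  have h1 : a * ((a * b) ^ i)⁻¹ = (a * b) ^ i * a := by
    rw [eq_comm, eq_mul_inv_iff_mul_eq, mul_assoc, dihedral_flip ha hb, ← mul_assoc, mul_inv_cancel, one_mul]
  rw [mul_assoc, h1, ← mul_assoc, ← pow_add]
  have h2 : (a * b) ^ (i + i) = (a * b)⁻¹ := eq_inv_of_mul_eq_one_left (by
    rw [← pow_succ, show i + i + 1 = 2 * i + 1 by omega, h])
  rw [h2, mul_inv_rev, inv_of_sq ha, inv_of_sq hb, mul_assoc, ha, mul_one]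

theorem comm_pow_of_order {a b : G} (ha : a * a = 1) (hb : b * b = 1) {m : ℕ} (h : (a * b) ^ (2 * m) = 1) :
    a * (a * b) ^ m = (a * b) ^ m * a := by
  have h2 : (a * b) ^ m * (a * b) ^ m = 1 := by rw [← pow_add, ← two_mul, h]
  rw [dihedral_flip ha hb, inv_of_sq h2]

theorem prod_sq {a b : G} (h : a * b = b * a) (ha : a * a = 1) (hb : b * b = 1) : a * b * (a * b) = 1 := by
  rw [mul_assoc, ← mul_assoc b a b, ← h, mul_assoc a b b, hb, mul_one, ha]

end Dihedral

/-- An elementary abelian subgroup whose involutions are centralised inside the normaliser only. -/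
structure Sys (G : Type*) [Group G] (V : Type*) [AddCommGroup V] [Module (ZMod 2) V] where
  N : Subgroup G
  E : V → G
  E_add : ∀ v w, E (v + w) = E v * E w
  E_inj : Function.Injective E
  E_mem : ∀ v, E v ∈ N
  nor : ∀ n ∈ N, ∀ v, ∃ w, n * E v * n⁻¹ = E w
  β : LinearMap.BilinForm (ZMod 2) V
  β_symm : ∀ v w, β v w = β w v
  β_nd : ∀ v, (∀ w, β v w = 0) → v = 0
  iso : ∀ n ∈ N, ∀ v v' w w', n * E v * n⁻¹ = E v' → n * E w * n⁻¹ = E w' → β v' w' = β v w
  good : ∀ v, v ≠ 0 → ∀ g, g * E v = E v * g → g ∈ N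
  fus : ∀ v, v ≠ 0 → ∀ g w, g * E v * g⁻¹ = E w → g ∈ N
  cent : ∀ g, (∀ v, g * E v * g⁻¹ ∈ N ∧ ∀ w, g * E v * g⁻¹ * E w = E w * (g * E v * g⁻¹)) →
    ∃ v w, v ≠ 0 ∧ g * E v * g⁻¹ = E w

namespace Sys

variable {G : Type*} [Group G] {V : Type*} [AddCommGroup V] [Module (ZMod 2) V] (S : Sys G V)

theorem E_zero : S.E 0 = 1 := by
  have h := S.E_add 0 0
  rw [add_zero] at h
  exact mul_eq_left.1 h.symm

theorem E_sq (v : V) : S.E v * S.E v = 1 := by rw [← S.E_add, vadd_self, S.E_zero]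

theorem E_ne {v : V} (hv : v ≠ 0) : S.E v ≠ 1 := fun h => hv (S.E_inj (h.trans S.E_zero.symm))

theorem E_comm (v w : V) : S.E v * S.E w = S.E w * S.E v := by rw [← S.E_add, ← S.E_add, add_comm]

/-- The action of the normaliser. -/
noncomputable def act (n : S.N) : V →ₗ[ZMod 2] V :=
  AddMonoidHom.toZModLinearMap 2
    { toFun := fun v => (S.nor n.1 n.2 v).choose
      map_zero' := S.E_inj (by rw [← (S.nor n.1 n.2 0).choose_spec, S.E_zero, mul_one, mul_inv_cancel])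
      map_add' := fun v w => S.E_inj ((S.nor n.1 n.2 (v + w)).choose_spec.symm.trans (by
        rw [S.E_add v w, S.E_add, ← (S.nor n.1 n.2 v).choose_spec, ← (S.nor n.1 n.2 w).choose_spec, conj_mul])) }

theorem act_spec (n : S.N) (v : V) : (n : G) * S.E v * (n : G)⁻¹ = S.E (S.act n v) := (S.nor n.1 n.2 v).choose_spec

theorem act_eq {n : S.N} {v w : V} (h : (n : G) * S.E v * (n : G)⁻¹ = S.E w) : S.act n v = w :=
  S.E_inj ((S.act_spec n v).symm.trans h)

theorem act_mul (m n : S.N) (v : V) : S.act (m * n) v = S.act m (S.act n v) := S.act_eq (by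
  rw [← S.act_spec m, ← S.act_spec n, Subgroup.coe_mul]; group)

theorem act_one (v : V) : S.act 1 v = v := S.act_eq (by simp)

theorem act_iso (n : S.N) (v w : V) : S.β (S.act n v) (S.act n w) = S.β v w :=
  S.iso n.1 n.2 _ _ _ _ (S.act_spec n v) (S.act_spec n w)

theorem comm_iff (n : S.N) (v : V) : (n : G) * S.E v = S.E v * n ↔ S.act n v = v := by
  constructor
  · intro h
    exact S.act_eq (by rw [h, mul_inv_cancel_right])
  · intro h
    have h' := S.act_spec n v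
    rw [h, mul_inv_eq_iff_eq_mul] at h'
    exact h'

/-- The elements of the subgroup lying in a conjugate of the normaliser. -/
noncomputable def inter (g : G) : Submodule (ZMod 2) V :=
  AddSubgroup.toZModSubmodule 2
    { carrier := {b | g * S.E b * g⁻¹ ∈ S.N}
      zero_mem' := by simp [S.E_zero]
      add_mem' := fun {a b} ha hb => by
        show g * S.E (a + b) * g⁻¹ ∈ S.N
        rw [S.E_add, ← conj_mul]
        exact S.N.mul_mem ha hb
      neg_mem' := fun {a} ha => by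
        show g * S.E (-a) * g⁻¹ ∈ S.N
        rwa [show -a = a from neg_eq_of_add_eq_zero_left (vadd_self a)] }

theorem mem_inter {g : G} {b : V} : b ∈ S.inter g ↔ g * S.E b * g⁻¹ ∈ S.N := Iff.rfl

variable [FiniteDimensional (ZMod 2) V]

theorem refl_β : S.β.IsRefl := fun v w h => by rwa [S.β_symm]

theorem nd_β : S.β.Nondegenerate :=
  ⟨fun v h => S.β_nd v h, fun v h => S.β_nd v fun w => by rw [S.β_symm]; exact h w⟩

theorem finrank_orth (A : Submodule (ZMod 2) V) :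
    finrank (ZMod 2) A + finrank (ZMod 2) ↥(S.β.orthogonal A) = finrank (ZMod 2) V := by
  rw [LinearMap.BilinForm.finrank_orthogonal S.nd_β]
  have := A.finrank_le
  omega

theorem mem_orth {A : Submodule (ZMod 2) V} {v : V} : v ∈ S.β.orthogonal A ↔ ∀ a ∈ A, S.β a v = 0 := Iff.rfl

theorem trivial_inter {g : G} (hg : g ∉ S.N) {a b : V} (h : g * S.E a * g⁻¹ = S.E b) : a = 0 := by
  by_contra ha
  exact hg (S.fus a ha g b h)

theorem inv_not_mem {g : G} (hg : g ∉ S.N) : g⁻¹ ∉ S.N := fun h => hg (inv_inv g ▸ S.N.inv_mem h)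

/-- A conjugate involution in the normaliser fixes exactly the intersection. -/
theorem fix_iff {g : G} (hg : g ∉ S.N) {b : V} (hb0 : b ≠ 0) (h : g * S.E b * g⁻¹ ∈ S.N) (e : V) :
    S.act ⟨_, h⟩ e = e ↔ e ∈ S.inter g⁻¹ := by
  rw [mem_inter, inv_inv]
  constructor
  · intro he
    refine S.good b hb0 _ ?_
    have h1 := (S.comm_iff ⟨_, h⟩ e).2 he
    have h2 := congrArg (fun t => g⁻¹ * t * g) h1
    simp only [mul_assoc, inv_mul_cancel_left, inv_mul_cancel, mul_one] at h2 ⊢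
    exact h2.symm
  · intro he
    have h1 : g * S.E (S.act ⟨_, he⟩ b + b) * g⁻¹ = S.E (S.act ⟨_, h⟩ e + e) := by
      rw [add_comm (S.act ⟨_, h⟩ e), S.E_add, ← S.act_spec, S.E_add, ← S.act_spec]
      simp only [mul_inv_rev, inv_inv, inv_of_sq (S.E_sq e), inv_of_sq (S.E_sq b), mul_assoc,
        mul_inv_cancel_left, inv_mul_cancel_left]
    have h2 := S.trivial_inter hg h1
    rw [h2, S.E_zero, mul_one, mul_inv_cancel] at h1
    exact eq_of_vadd (S.E_inj (h1.symm.trans S.E_zero.symm))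

/-- The commutators with such an element lie in the intersection and its orthogonal. -/
theorem diff_mem {g : G} (hg : g ∉ S.N) {b : V} (h : g * S.E b * g⁻¹ ∈ S.N) (e : V) :
    S.act ⟨_, h⟩ e + e ∈ S.inter g⁻¹ ⊓ S.β.orthogonal (S.inter g⁻¹) := by
  by_cases hb0 : b = 0
  · subst hb0
    rw [show (⟨_, h⟩ : S.N) = 1 from Subtype.ext (by simp [S.E_zero]), S.act_one, vadd_self]
    exact zero_mem _
  have hfix := S.fix_iff hg hb0 h
  have hidem : ∀ e, S.act ⟨_, h⟩ (S.act ⟨_, h⟩ e) = e := fun e => by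
    rw [← S.act_mul, show (⟨_, h⟩ : S.N) * ⟨_, h⟩ = 1 from Subtype.ext (by
      show g * S.E b * g⁻¹ * (g * S.E b * g⁻¹) = 1
      rw [conj_mul, S.E_sq, mul_one, mul_inv_cancel]), S.act_one]
  refine ⟨(hfix _).1 (by rw [map_add, hidem, add_comm]), S.mem_orth.2 fun a ha => ?_⟩
  rw [map_add]
  nth_rw 1 [← (hfix a).2 ha]
  rw [S.act_iso]
  exact CharTwo.add_self_eq_zero _

/-- The map from one intersection to the orthogonal of the other. -/
noncomputable def psi {g : G} (hg : g ∉ S.N) (e : V) : ↥(S.inter g) →ₗ[ZMod 2] V :=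
  AddMonoidHom.toZModLinearMap 2
    { toFun := fun b => S.act ⟨_, b.2⟩ e + e
      map_zero' := by
        rw [show (⟨_, (0 : S.inter g).2⟩ : S.N) = 1 from Subtype.ext (by simp [S.E_zero]), S.act_one, vadd_self]
      map_add' := fun b c => by
        rw [show (⟨_, (b + c).2⟩ : S.N) = ⟨_, b.2⟩ * ⟨_, c.2⟩ from Subtype.ext (by simp [S.E_add]),
          S.act_mul]
        have h1 : S.act ⟨_, b.2⟩ (S.act ⟨_, c.2⟩ e + e) = S.act ⟨_, c.2⟩ e + e := by
          by_cases hb0 : (b : V) = 0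
          · rw [show (⟨_, b.2⟩ : S.N) = 1 from Subtype.ext (by simp [hb0, S.E_zero]), S.act_one]
          · exact (S.fix_iff hg hb0 b.2 _).2 (S.diff_mem hg c.2 e).1
        rw [map_add] at h1
        calc S.act ⟨_, b.2⟩ (S.act ⟨_, c.2⟩ e) + e
            = (S.act ⟨_, b.2⟩ (S.act ⟨_, c.2⟩ e) + S.act ⟨_, b.2⟩ e) + (S.act ⟨_, b.2⟩ e + e) := by
              rw [add_assoc, ← add_assoc (S.act ⟨_, b.2⟩ e), vadd_self, zero_add]
          _ = _ := by rw [h1, add_comm] }

theorem psi_apply {g : G} (hg : g ∉ S.N) (e : V) (b : ↥(S.inter g)) :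
    S.psi hg e b = S.act ⟨_, b.2⟩ e + e := rfl

theorem psi_inj {g : G} (hg : g ∉ S.N) {e : V} (he : e ∉ S.inter g⁻¹) : Function.Injective (S.psi hg e) :=
  (injective_iff_map_eq_zero _).2 fun b hb => by
    by_contra hb0
    exact he ((S.fix_iff hg (fun h => hb0 (Subtype.ext h)) b.2 e).1 (eq_of_vadd hb))

theorem range_psi {g : G} (hg : g ∉ S.N) (e : V) :
    LinearMap.range (S.psi hg e) ≤ S.inter g⁻¹ ⊓ S.β.orthogonal (S.inter g⁻¹) := by
  rintro _ ⟨b, rfl⟩
  exact S.diff_mem hg b.2 e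

theorem inter_le {g : G} (hg : g ∉ S.N) {e : V} (he : e ∉ S.inter g⁻¹) :
    finrank (ZMod 2) ↥(S.inter g) ≤ finrank (ZMod 2) ↥(S.β.orthogonal (S.inter g⁻¹)) := by
  rw [← LinearMap.finrank_range_of_inj (S.psi_inj hg he)]
  exact Submodule.finrank_mono ((S.range_psi hg e).trans inf_le_right)

theorem half {g : G} (hg : g ∉ S.N) {b : V} (hb0 : b ≠ 0) (hb : g * S.E b * g⁻¹ ∈ S.N) :
    finrank (ZMod 2) V ≤ 2 * finrank (ZMod 2) ↥(S.inter g⁻¹) ∧ S.β.orthogonal (S.inter g⁻¹) ≤ S.inter g⁻¹ := by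
  set φ : V →ₗ[ZMod 2] V := S.act ⟨_, hb⟩ + LinearMap.id
  have hk : LinearMap.ker φ = S.inter g⁻¹ := by
    ext e
    rw [LinearMap.mem_ker, ← S.fix_iff hg hb0 hb]
    exact ⟨eq_of_vadd, fun e' => by
      show S.act ⟨_, hb⟩ e + e = 0
      rw [e', vadd_self]⟩
  have hr : LinearMap.range φ ≤ S.inter g⁻¹ ⊓ S.β.orthogonal (S.inter g⁻¹) := by
    rintro _ ⟨e, rfl⟩; exact S.diff_mem hg hb e
  have hd := LinearMap.finrank_range_add_finrank_ker φ
  rw [hk] at hd
  have hr1 := Submodule.finrank_mono (hr.trans inf_le_left)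
  have hr2 := Submodule.finrank_mono (hr.trans inf_le_right)
  have ho := S.finrank_orth (S.inter g⁻¹)
  have heq := Submodule.eq_of_le_of_finrank_eq (hr.trans inf_le_right) (by omega)
  exact ⟨by omega, heq ▸ hr.trans inf_le_left⟩

/-- A conjugate element in the normaliser outside the subgroup: the two intersections are maximal totally
isotropic, and the commutator map is onto. -/
theorem shape {g : G} (hg : g ∉ S.N) {v : V} (hv : v ≠ 0) (hx : g * S.E v * g⁻¹ ∈ S.N) :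
    S.β.orthogonal (S.inter g⁻¹) = S.inter g⁻¹ ∧ S.β.orthogonal (S.inter g) = S.inter g ∧
      2 * finrank (ZMod 2) ↥(S.inter g⁻¹) = finrank (ZMod 2) V ∧
      ∀ e, e ∉ S.inter g⁻¹ → ∀ a ∈ S.inter g⁻¹,
        ∃ b, ∃ h : g * S.E b * g⁻¹ ∈ S.N, S.act ⟨_, h⟩ e = e + a := by
  have hg' := S.inv_not_mem hg
  obtain ⟨hA1, hA2⟩ := S.half hg hv hx
  haveI : Nontrivial V := ⟨v, 0, hv⟩
  have hpos := Module.finrank_pos (R := ZMod 2) (M := V)
  obtain ⟨a₀, ha₀, ha₀0⟩ := Submodule.exists_mem_ne_zero_of_ne_bot (p := S.inter g⁻¹)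
    fun h0 => by rw [h0, finrank_bot] at hA1; omega
  obtain ⟨hB1, hB2⟩ := S.half hg' ha₀0 ha₀
  rw [inv_inv] at hB1 hB2
  have hoA := S.finrank_orth (S.inter g⁻¹)
  have hoB := S.finrank_orth (S.inter g)
  obtain ⟨e₁, he₁⟩ : ∃ e, e ∉ S.inter g⁻¹ := by
    by_contra hA3
    push Not at hA3
    have hBtop : ∀ e, e ∈ S.inter g := fun e => by
      by_contra he
      have h1 := S.inter_le hg' (e := e) (by rwa [inv_inv])
      rw [inv_inv, show S.inter g⁻¹ = ⊤ from eq_top_iff.2 fun a _ => hA3 a, finrank_top] at h1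
      omega
    obtain ⟨v', w, hv', hw⟩ := S.cent g fun b => ⟨hBtop b, fun w => by
      by_cases hb0 : b = 0
      · subst hb0; simp [S.E_zero]
      exact (S.comm_iff ⟨_, hBtop b⟩ w).2 ((S.fix_iff hg hb0 (hBtop b) w).2 (hA3 w))⟩
    exact hv' (S.trivial_inter hg hw)
  have h1 := S.inter_le hg he₁
  have oA : S.β.orthogonal (S.inter g⁻¹) = S.inter g⁻¹ := Submodule.eq_of_le_of_finrank_eq hA2 (by omega)
  refine ⟨oA, Submodule.eq_of_le_of_finrank_eq hB2 (by omega), by omega, fun e he a ha => ?_⟩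
  have hr := (S.range_psi hg e).trans inf_le_left
  have h2 := LinearMap.finrank_range_of_inj (S.psi_inj hg he)
  obtain ⟨b, rfl⟩ : a ∈ LinearMap.range (S.psi hg e) := by
    rwa [Submodule.eq_of_le_of_finrank_eq hr (by omega)]
  refine ⟨b, b.2, ?_⟩
  rw [psi_apply, add_comm (S.act _ e), ← add_assoc, vadd_self, zero_add]

theorem conj_eq_of_mem {g : G} (hg : g ∈ S.N) (v : V) : ∃ w, g * S.E v * g⁻¹ = S.E w := S.nor g hg v

/-- Outside the normaliser the conjugates of two involutions have product of odd order. -/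
theorem odd_conj [Finite G] (hW : ∀ g v, v ≠ 0 → g * S.E v * g⁻¹ ∈ S.N → ∃ w, g * S.E v * g⁻¹ = S.E w)
    {g : G} (hg : g ∉ S.N) {v a : V} (hv : v ≠ 0) (ha : a ≠ 0) :
    ∃ h : G, h * S.E a * h⁻¹ = g * S.E v * g⁻¹ ∧
      ∀ t, t * S.E a = S.E a * t → t * (g * S.E v * g⁻¹) = g * S.E v * g⁻¹ * t → t * h = h * t := by
  obtain ⟨z, hz⟩ : ∃ z, z = g * S.E v * g⁻¹ := ⟨_, rfl⟩
  rw [← hz]
  have hzz : z * z = 1 := by rw [hz, conj_mul, S.E_sq, mul_one, mul_inv_cancel]
  have haa := S.E_sq a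
  have hne : ∀ w, z ≠ S.E w := fun w e => hv (S.trivial_inter hg (hz ▸ e))
  have hzN : z ∉ S.N := fun h => by obtain ⟨w, hw⟩ := hW g v hv (hz ▸ h); exact hne w (hz.trans hw)
  set p := S.E a * z with hp
  obtain ⟨i, hi⟩ | ⟨i, hi⟩ := (Nat.even_or_odd (orderOf p)).symm
  · refine ⟨p ^ i, dihedral_conj haa hzz (by rw [← hp, ← hi, pow_orderOf_eq_one]), fun t h1 h2 => ?_⟩
    exact ((Commute.mul_right h1 h2).pow_right i).eq
  exfalso
  rw [← two_mul] at hi
  have hord := orderOf_pos p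
  have hpi : p ^ (2 * i) = 1 := by rw [← hi, pow_orderOf_eq_one]
  set w := p ^ i with hw
  have hw1 : w ≠ 1 := pow_ne_one_of_lt_orderOf (by omega) (by omega)
  have hww : w * w = 1 := by rw [hw, ← pow_add, ← two_mul, hpi]
  have hwa : w * S.E a = S.E a * w := (comm_pow_of_order haa hzz hpi).symm
  have hwz : w * z = z * w := by
    have h1 : p⁻¹ = z * S.E a := by rw [hp, mul_inv_rev, inv_of_sq haa, inv_of_sq hzz]
    have h2 : w = (z * S.E a) ^ i := by rw [← h1, inv_pow, ← hw, inv_of_sq hww]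
    rw [h2]
    exact (comm_pow_of_order hzz haa (by rw [← h1, inv_pow, hpi, inv_one])).symm
  have hwN : w ∈ S.N := S.good a ha w hwa
  rcases Nat.even_or_odd i with ⟨r, hr⟩ | ⟨r, hr⟩
  · have h1 : S.E a * (p ^ r)⁻¹ = p ^ r * S.E a := by
      rw [eq_comm, eq_mul_inv_iff_mul_eq, mul_assoc, hp, dihedral_flip haa hzz, ← mul_assoc, mul_inv_cancel,
        one_mul]
    have h2 : p ^ r * S.E a * (p ^ r)⁻¹ = w * S.E a := by rw [mul_assoc, h1, ← mul_assoc, ← pow_add, hw, hr]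
    obtain ⟨c, hc⟩ := hW (p ^ r) a ha (by rw [h2]; exact S.N.mul_mem hwN (S.E_mem a))
    rw [h2] at hc
    have hd : w = S.E (c + a) := by rw [S.E_add, ← hc, mul_assoc, haa, mul_one]
    exact hzN (S.good (c + a) (fun h => hw1 (by rw [hd, h, S.E_zero])) z (by rw [← hd, hwz]))
  · obtain ⟨y, hy⟩ : ∃ y, y = z * w := ⟨_, rfl⟩
    have hyy : y * y = 1 := hy ▸ prod_sq hwz.symm hzz hww
    have hpy : (S.E a * y) ^ (2 * r + 1) = 1 := by
      rw [hy, ← mul_assoc, ← hp, (Commute.pow_self p i).symm.mul_pow, ← hr, ← hw,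
        show w ^ i = w by rw [hr, pow_succ, pow_mul, sq, hww, one_pow, one_mul], hww]
    have hconj := dihedral_conj haa hyy hpy
    set h := (S.E a * y) ^ r
    have hm : g⁻¹ * w * g ∈ S.N := S.good v hv _ (by
      have h1 := congrArg (fun t => g⁻¹ * t * g) hwz
      simp only [hz, mul_assoc, inv_mul_cancel_left, inv_mul_cancel, mul_one] at h1 ⊢
      exact h1)
    have h2 : (g⁻¹ * h) * S.E a * (g⁻¹ * h)⁻¹ = S.E v * (g⁻¹ * w * g) := by
      rw [show (g⁻¹ * h) * S.E a * (g⁻¹ * h)⁻¹ = g⁻¹ * (h * S.E a * h⁻¹) * g by group, hconj, hy, hz]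
      group
    obtain ⟨c, hc⟩ := hW _ a ha (by rw [h2]; exact S.N.mul_mem (S.E_mem v) hm)
    rw [h2] at hc
    have hd : g * S.E (v + c) * g⁻¹ = w := by
      rw [S.E_add, ← hc, ← mul_assoc (S.E v), S.E_sq, one_mul]
      group
    have hd0 : v + c ≠ 0 := fun h0 => hw1 (by rw [← hd, h0, S.E_zero, mul_one, mul_inv_cancel])
    obtain ⟨d, hd'⟩ := hW g (v + c) hd0 (by rw [hd]; exact hwN)
    rw [hd] at hd'
    exact hzN (S.good d (fun h0 => hw1 (by rw [hd', h0, S.E_zero])) z (by rw [← hd', hwz]))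

/-- No conjugate lies outside when the normaliser preserves a quadratic form. -/
theorem real_W (hdim : 4 ≤ finrank (ZMod 2) V) (Q : V → ZMod 2)
    (hQ : ∀ a b, Q (a + b) = Q a + Q b + S.β a b)
    (hQi : ∀ n ∈ S.N, ∀ v w, n * S.E v * n⁻¹ = S.E w → Q w = Q v)
    (g : G) (v : V) (hv : v ≠ 0) (hx : g * S.E v * g⁻¹ ∈ S.N) : ∃ w, g * S.E v * g⁻¹ = S.E w := by
  by_cases hg : g ∈ S.N
  · exact S.nor g hg v
  exfalso
  obtain ⟨oA, -, dA, hsur⟩ := S.shape hg hv hx
  set A := S.inter g⁻¹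
  have key : ∀ e, e ∉ A → ∀ a ∈ A, S.β e a = Q a := fun e he a ha => by
    obtain ⟨b, h, hb⟩ := hsur e he a ha
    have h1 := hQi _ h e (e + a) (by
      have h2 := S.act_spec ⟨_, h⟩ e
      rwa [hb] at h2)
    rw [hQ, add_assoc, add_eq_left, CharTwo.add_eq_zero] at h1
    exact h1.symm
  obtain ⟨e₁, -, he₁⟩ := SetLike.exists_of_lt (show A < ⊤ from lt_top_iff_ne_top.2 fun h => by
    rw [h, finrank_top] at dA; omega)
  obtain ⟨e₂, -, he₂⟩ := SetLike.exists_of_lt (show A ⊔ Submodule.span (ZMod 2) {e₁} < ⊤ from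
    lt_top_iff_ne_top.2 fun h => by
      have h1 := Submodule.finrank_add_le_finrank_add_finrank A (Submodule.span (ZMod 2) {e₁})
      rw [h, finrank_top] at h1
      have h2 := finrank_span_le_card ({e₁} : Set V) (R := ZMod 2)
      simp at h2
      omega)
  have h2 : e₂ ∉ A := fun h => he₂ (Submodule.mem_sup_left h)
  have h3 : e₁ + e₂ ∉ A := fun h => he₂ (by
    rw [show e₂ = (e₁ + e₂) + e₁ by rw [add_comm e₁ e₂, add_assoc, vadd_self, add_zero]]
    exact add_mem (Submodule.mem_sup_left h) (Submodule.mem_sup_right (Submodule.mem_span_singleton_self _)))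
  refine he₁ (oA ▸ S.mem_orth.2 fun a ha => ?_)
  have h4 := key _ h3 a ha
  rw [map_add, LinearMap.add_apply, key _ h2 a ha, add_eq_right] at h4
  rw [S.β_symm]
  exact h4

/-- A quadratic form with two values on the subgroup: everything normalises it. -/
theorem real_all [Finite G] (hdim : 4 ≤ finrank (ZMod 2) V) (Q : V → ZMod 2)
    (hQ : ∀ a b, Q (a + b) = Q a + Q b + S.β a b)
    (hQi : ∀ n ∈ S.N, ∀ v w, n * S.E v * n⁻¹ = S.E w → Q w = Q v)
    {a b : V} (ha : a ≠ 0) (hb : b ≠ 0) (hab : Q a ≠ Q b) (g : G) : g ∈ S.N := by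
  by_contra hg
  have hW := S.real_W hdim Q hQ hQi
  obtain ⟨h₁, e₁, -⟩ := S.odd_conj hW hg ha ha
  obtain ⟨h₂, e₂, -⟩ := S.odd_conj hW hg ha hb
  have h : (h₂⁻¹ * h₁) * S.E a * (h₂⁻¹ * h₁)⁻¹ = S.E b := by
    rw [show (h₂⁻¹ * h₁) * S.E a * (h₂⁻¹ * h₁)⁻¹ = h₂⁻¹ * (h₁ * S.E a * h₁⁻¹) * h₂ by group, e₁, ← e₂]
    group
  exact hab (hQi _ (S.fus a ha _ b h) a b h).symm

/-- No conjugate lies outside when transvections have roots of their involutions. -/
theorem root_W (hdim : 4 ≤ finrank (ZMod 2) V)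
    (hroot : ∀ x ∈ S.N, x * x = 1 → ∀ e₁ e₂ a₁ a₂, a₁ ≠ 0 → a₂ ≠ 0 → a₁ ≠ a₂ →
      x * S.E e₁ * x⁻¹ = S.E (e₁ + a₁) → x * S.E e₂ * x⁻¹ = S.E (e₂ + a₂) →
      ∃ a u, a ≠ 0 ∧ x * S.E a * x⁻¹ = S.E a ∧ u ∈ S.N ∧ u * u = S.E a ∧ u * x = x * u ∧
        ∀ w, u * S.E w * u⁻¹ = S.E (w + S.β a w • a))
    (g : G) (v : V) (hv : v ≠ 0) (hx : g * S.E v * g⁻¹ ∈ S.N) : ∃ w, g * S.E v * g⁻¹ = S.E w := by
  by_cases hg : g ∈ S.N
  · exact S.nor g hg v
  exfalso
  obtain ⟨oA, oB, dA, -⟩ := S.shape hg hv hx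
  set A := S.inter g⁻¹
  set x : S.N := ⟨_, hx⟩
  set φ : V →ₗ[ZMod 2] V := S.act x + LinearMap.id
  have hk : LinearMap.ker φ = A := by
    ext e
    rw [LinearMap.mem_ker, ← S.fix_iff hg hv hx]
    exact ⟨eq_of_vadd, fun e' => by
      show S.act x e + e = 0
      rw [e', vadd_self]⟩
  have hr : LinearMap.range φ = A := Submodule.eq_of_le_of_finrank_eq
    (by rintro _ ⟨e, rfl⟩; exact (S.diff_mem hg hx e).1)
    (by have := LinearMap.finrank_range_add_finrank_ker φ; rw [hk] at this; omega)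
  obtain ⟨a₁, ha₁, ha₁0⟩ := Submodule.exists_mem_ne_zero_of_ne_bot (p := A) fun h => by
    rw [h, finrank_bot] at dA; omega
  obtain ⟨a₂, ha₂, ha₂'⟩ := SetLike.exists_of_lt (show Submodule.span (ZMod 2) {a₁} < A from
    lt_of_le_of_ne ((Submodule.span_singleton_le_iff_mem _ _).2 ha₁) fun h => by
      have h2 := finrank_span_le_card ({a₁} : Set V) (R := ZMod 2)
      simp at h2
      rw [h] at h2
      omega)
  have spec : ∀ a ∈ A, ∃ e, (x : G) * S.E e * (x : G)⁻¹ = S.E (e + a) := fun a ha => by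
    rw [← hr] at ha
    obtain ⟨e, rfl⟩ := ha
    refine ⟨e, (S.act_spec x e).trans (congrArg S.E ?_)⟩
    show S.act x e = e + (S.act x e + e)
    rw [add_comm (S.act x e), ← add_assoc, vadd_self, zero_add]
  obtain ⟨e₁, he₁⟩ := spec a₁ ha₁
  obtain ⟨e₂, he₂⟩ := spec a₂ ha₂
  obtain ⟨a, u, ha0, hxa, huN, huu, hux, hut⟩ := hroot _ hx (by rw [conj_mul, S.E_sq, mul_one, mul_inv_cancel])
    e₁ e₂ a₁ a₂ ha₁0 (fun h => ha₂' (h ▸ zero_mem _)) (fun h => ha₂' (h ▸ Submodule.mem_span_singleton_self _))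
    he₁ he₂
  have haA : a ∈ A := (S.fix_iff hg hv hx a).1 (S.act_eq hxa)
  have hm : g⁻¹ * u * g ∈ S.N := S.good v hv _ (by
    have h1 := congrArg (fun t => g⁻¹ * t * g) hux
    simp only [mul_assoc, inv_mul_cancel_left, inv_mul_cancel, mul_one] at h1 ⊢
    exact h1)
  set m : S.N := ⟨_, hm⟩
  set U : S.N := ⟨u, huN⟩
  have hU : ∀ w, S.act U w = w + S.β a w • a := fun w => S.act_eq (hut w)
  have hfix : ∀ b ∈ S.inter g, S.act m b = b := by
    intro b hb
    refine eq_of_vadd ?_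
    by_contra hd0
    set X : S.N := ⟨_, hb⟩
    have hval : (U * X * U⁻¹ * X : S.N).1 = g * S.E (S.act m b + b) * g⁻¹ := by
      rw [S.E_add, ← S.act_spec]
      show u * (g * S.E b * g⁻¹) * u⁻¹ * (g * S.E b * g⁻¹) =
        g * (g⁻¹ * u * g * S.E b * (g⁻¹ * u * g)⁻¹ * S.E b) * g⁻¹
      group
    have hd : g * S.E (S.act m b + b) * g⁻¹ ∈ S.N := hval ▸ (U * X * U⁻¹ * X).2
    obtain ⟨e, -, he⟩ := SetLike.exists_of_lt (show A < ⊤ from lt_top_iff_ne_top.2 fun h => by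
      rw [h, finrank_top] at dA; omega)
    refine he ((S.fix_iff hg hd0 hd e).1 ?_)
    rw [show (⟨_, hd⟩ : S.N) = U * X * U⁻¹ * X from Subtype.ext hval.symm]
    have hc : ∀ w, S.act U (S.act X w) = S.act X (S.act U w) := by
      intro w
      by_cases hb0 : b = 0
      · rw [show X = 1 from Subtype.ext (by simp [X, hb0, S.E_zero]), S.act_one, S.act_one]
      have h1 := (S.fix_iff hg hb0 hb a).2 haA
      have h2 := S.act_iso X a w
      rw [h1] at h2
      rw [hU, hU, map_add, map_smul, h1, h2]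
    have hXX : ∀ w, S.act X (S.act X w) = w := fun w => by
      rw [← S.act_mul, show X * X = 1 from Subtype.ext (by
        show g * S.E b * g⁻¹ * (g * S.E b * g⁻¹) = 1
        rw [conj_mul, S.E_sq, mul_one, mul_inv_cancel]), S.act_one]
    have hi : S.act U (S.act U⁻¹ (S.act X e)) = S.act X e := by rw [← S.act_mul, mul_inv_cancel, S.act_one]
    have hUi : S.act U⁻¹ (S.act X e) = S.act X (S.act U⁻¹ e) := by
      have h3 : ∀ w, S.act U⁻¹ (S.act U w) = w := fun w => by rw [← S.act_mul, inv_mul_cancel, S.act_one]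
      conv_lhs => rw [show e = S.act U (S.act U⁻¹ e) by rw [← S.act_mul, mul_inv_cancel, S.act_one], ← hc, h3]
    rw [S.act_mul, S.act_mul, S.act_mul, hUi, hXX, ← S.act_mul, mul_inv_cancel, S.act_one]
  have hm2 : ∀ w, S.act (m * m) w = w := by
    intro w
    have h1 : S.act m w + w ∈ S.β.orthogonal (S.inter g) := S.mem_orth.2 fun b hb => by
      rw [map_add]
      nth_rw 1 [← hfix b hb]
      rw [S.act_iso]
      exact CharTwo.add_self_eq_zero _
    rw [oB] at h1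
    have h2 := hfix _ h1
    rw [map_add, add_comm (S.act m (S.act m w))] at h2
    rw [S.act_mul]
    exact add_left_cancel h2
  have htop : ∀ w, w ∈ S.inter g := fun w => by
    refine S.good a ha0 _ ?_
    have h1 := (S.comm_iff (m * m) w).2 (hm2 w)
    have h2 : ((m * m : S.N) : G) = g⁻¹ * S.E a * g := by
      rw [← huu]
      show g⁻¹ * u * g * (g⁻¹ * u * g) = _
      group
    rw [h2] at h1
    have h3 := congrArg (fun t => g * t * g⁻¹) h1
    simp only [mul_assoc, mul_inv_cancel_left, mul_inv_cancel, mul_one] at h3 ⊢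
    exact h3.symm
  have h4 := S.finrank_orth (S.inter g)
  rw [oB, show S.inter g = ⊤ from eq_top_iff.2 fun w _ => htop w, finrank_top] at h4
  omega

/-- Roots of involutions and one transvection involution: everything normalises the subgroup. -/
theorem root_all [Finite G] (hdim : 4 ≤ finrank (ZMod 2) V)
    (hroot : ∀ x ∈ S.N, x * x = 1 → ∀ e₁ e₂ a₁ a₂, a₁ ≠ 0 → a₂ ≠ 0 → a₁ ≠ a₂ →
      x * S.E e₁ * x⁻¹ = S.E (e₁ + a₁) → x * S.E e₂ * x⁻¹ = S.E (e₂ + a₂) →
      ∃ a u, a ≠ 0 ∧ x * S.E a * x⁻¹ = S.E a ∧ u ∈ S.N ∧ u * u = S.E a ∧ u * x = x * u ∧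
        ∀ w, u * S.E w * u⁻¹ = S.E (w + S.β a w • a))
    {s : G} (hs : s ∈ S.N) (hss : s * s = 1) {lam c : V} (hlam : lam ≠ 0) (hc : c ≠ 0) (hclam : c ≠ lam)
    (hll : S.β lam lam = 0) (hlc : S.β lam c = 0) (hst : ∀ w, s * S.E w * s⁻¹ = S.E (w + S.β lam w • lam))
    (g : G) : g ∈ S.N := by
  have hW := S.root_W hdim hroot
  -- conjugates commuting with an involution acting as this transvection
  have T : ∀ (t : G) (htN : t ∈ S.N), (∀ w, t * S.E w * t⁻¹ = S.E (w + S.β lam w • lam)) →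
      ∀ (g : G) (v : V), v ≠ 0 → t * (g * S.E v * g⁻¹) = g * S.E v * g⁻¹ * t →
      ∃ w, g * S.E v * g⁻¹ = S.E w := by
    intro t htN ht g v hv hcomm
    by_cases hg : g ∈ S.N
    · exact S.nor g hg v
    exfalso
    have hfix : ∀ w, S.β lam w = 0 → t * S.E w = S.E w * t := fun w hw =>
      (S.comm_iff ⟨t, htN⟩ w).2 (by rw [S.act_eq (ht w), hw, zero_smul, add_zero])
    obtain ⟨h₁, e₁, f₁⟩ := S.odd_conj hW hg hv hlam
    obtain ⟨h₂, e₂, f₂⟩ := S.odd_conj hW hg hv hc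
    have c₁ : Commute t h₁ := f₁ t (hfix lam hll) hcomm
    have c₂ : Commute t h₂ := f₂ t (hfix c hlc) hcomm
    have h : (h₂⁻¹ * h₁) * S.E lam * (h₂⁻¹ * h₁)⁻¹ = S.E c := by
      rw [show (h₂⁻¹ * h₁) * S.E lam * (h₂⁻¹ * h₁)⁻¹ = h₂⁻¹ * (h₁ * S.E lam * h₁⁻¹) * h₂ by group, e₁, ← e₂]
      group
    have hn := S.fus lam hlam _ c h
    set n : S.N := ⟨_, hn⟩
    set T' : S.N := ⟨t, htN⟩
    have hnl : S.act n lam = c := S.act_eq h
    have hct : n * T' = T' * n := Subtype.ext ((c₂.inv_right.mul_right c₁).eq.symm)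
    obtain ⟨w, hw⟩ : ∃ w, S.β lam w = 1 := by
      by_contra hno
      push Not at hno
      exact hlam (S.β_nd lam fun w => (bit _).resolve_right (hno w))
    have h1 : S.act n (S.act T' w) = S.act T' (S.act n w) := by rw [← S.act_mul, hct, S.act_mul]
    rw [S.act_eq (n := T') (ht w), S.act_eq (n := T') (ht (S.act n w)), hw, one_smul, map_add, hnl, add_right_inj] at h1
    rcases bit (S.β lam (S.act n w)) with h2 | h2 <;> rw [h2] at h1
    · rw [zero_smul] at h1; exact hc h1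
    · rw [one_smul] at h1; exact hclam h1
  by_contra hg
  obtain ⟨y, hy⟩ : ∃ y, y = g * s * g⁻¹ := ⟨_, rfl⟩
  have hyy : y * y = 1 := by rw [hy, conj_mul, hss, mul_one, mul_inv_cancel]
  have back : ∀ (t : G) a, y * (t * S.E a * t⁻¹) = t * S.E a * t⁻¹ * y →
      s * ((g⁻¹ * t) * S.E a * (g⁻¹ * t)⁻¹) = (g⁻¹ * t) * S.E a * (g⁻¹ * t)⁻¹ * s := fun t a h => by
    have h1 := congrArg (fun u => g⁻¹ * u * g) h
    simp only [hy, mul_inv_rev, inv_inv, mul_assoc, inv_mul_cancel_left, inv_mul_cancel, mul_one] at h1 ⊢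
    exact h1
  have hyN : y ∉ S.N := by
    intro hyN
    set Y : S.N := ⟨y, hyN⟩
    obtain ⟨a, ha, haY⟩ : ∃ a, a ≠ 0 ∧ S.act Y a = a := by
      by_cases h0 : S.act Y lam + lam = 0
      · exact ⟨lam, hlam, eq_of_vadd h0⟩
      · refine ⟨_, h0, ?_⟩
        rw [map_add, ← S.act_mul, show Y * Y = 1 from Subtype.ext hyy, S.act_one, add_comm]
    obtain ⟨w, hw⟩ := T s hs hst g⁻¹ a ha (by
      simpa using back 1 a (by simpa using (S.comm_iff Y a).2 haY))
    exact S.inv_not_mem hg (S.fus a ha _ w hw)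
  have hcc := S.E_sq c
  set p := S.E c * y with hp
  obtain ⟨i, hi⟩ | ⟨i, hi⟩ := (Nat.even_or_odd (orderOf p)).symm
  · -- the involution would be conjugate to one of the subgroup
    have h1 := dihedral_conj hcc hyy (show (S.E c * y) ^ (2 * i + 1) = 1 by rw [← hp, ← hi, pow_orderOf_eq_one])
    rw [← hp] at h1
    have h3 : g⁻¹ * p ^ i * S.E c * (g⁻¹ * p ^ i)⁻¹ = s := by
      rw [show g⁻¹ * p ^ i * S.E c * (g⁻¹ * p ^ i)⁻¹ = g⁻¹ * (p ^ i * S.E c * (p ^ i)⁻¹) * g by group, h1, hy]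
      group
    obtain ⟨w, hw⟩ := hW _ c hc (by rw [h3]; exact hs)
    obtain ⟨w', hw'⟩ : ∃ w', S.β lam w' = 1 := by
      by_contra hno
      push Not at hno
      exact hlam (S.β_nd lam fun w => (bit _).resolve_right (hno w))
    have h4 := hst w'
    rw [← h3, hw, hw', one_smul, S.E_comm, mul_inv_cancel_right] at h4
    exact hlam (left_eq_add.1 (S.E_inj h4))
  rw [← two_mul] at hi
  have hord := orderOf_pos p
  have hpi : p ^ (2 * i) = 1 := by rw [← hi, pow_orderOf_eq_one]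
  set w := p ^ i with hw
  have hw1 : w ≠ 1 := pow_ne_one_of_lt_orderOf (by omega) (by omega)
  have hww : w * w = 1 := by rw [hw, ← pow_add, ← two_mul, hpi]
  have hwa : w * S.E c = S.E c * w := (comm_pow_of_order hcc hyy hpi).symm
  have hwy : w * y = y * w := by
    have h1 : p⁻¹ = y * S.E c := by rw [hp, mul_inv_rev, inv_of_sq hcc, inv_of_sq hyy]
    have h2 : w = (y * S.E c) ^ i := by rw [← h1, inv_pow, ← hw, inv_of_sq hww]
    rw [h2]
    exact (comm_pow_of_order hyy hcc (by rw [← h1, inv_pow, hpi, inv_one])).symm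
  have hwN : w ∈ S.N := S.good c hc w hwa
  rcases Nat.even_or_odd i with ⟨r, hr⟩ | ⟨r, hr⟩
  · have h1 : S.E c * (p ^ r)⁻¹ = p ^ r * S.E c := by
      rw [eq_comm, eq_mul_inv_iff_mul_eq, mul_assoc, hp, dihedral_flip hcc hyy, ← mul_assoc, mul_inv_cancel,
        one_mul]
    have h2 : p ^ r * S.E c * (p ^ r)⁻¹ = w * S.E c := by rw [mul_assoc, h1, ← mul_assoc, ← pow_add, hw, hr]
    obtain ⟨d, hd⟩ := hW (p ^ r) c hc (by rw [h2]; exact S.N.mul_mem hwN (S.E_mem c))
    rw [h2] at hd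
    have hd' : w = S.E (d + c) := by rw [S.E_add, ← hd, mul_assoc, hcc, mul_one]
    exact hyN (S.good (d + c) (fun h => hw1 (by rw [hd', h, S.E_zero])) y (by rw [← hd', hwy]))
  · obtain ⟨z, hz⟩ : ∃ z, z = y * w := ⟨_, rfl⟩
    have hzz : z * z = 1 := hz ▸ prod_sq hwy.symm hyy hww
    have hpz : (S.E c * z) ^ (2 * r + 1) = 1 := by
      rw [hz, ← mul_assoc, ← hp, (Commute.pow_self p i).symm.mul_pow, ← hr, ← hw,
        show w ^ i = w by rw [hr, pow_succ, pow_mul, sq, hww, one_pow, one_mul], hww]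
    have hconj := dihedral_conj hcc hzz hpz
    set h := (S.E c * z) ^ r
    have hzy : y * z = z * y := by rw [hz, ← mul_assoc, mul_assoc y w y, hwy, ← mul_assoc]
    obtain ⟨d, hd⟩ := T s hs hst (g⁻¹ * h) c hc (back h c (by rw [hconj]; exact hzy))
    have hgd : g * S.E d * g⁻¹ = z := by rw [← hd, ← hconj]; group
    have hdfix : S.β lam d = 0 := by
      have h1 : s * S.E d = S.E d * s := by
        have := back h c (by rw [hconj]; exact hzy)
        rwa [hd] at this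
      have h2 := (hst d).symm.trans (by rw [h1, mul_inv_cancel_right])
      have h3 := S.E_inj h2
      rw [add_eq_left] at h3
      exact (smul_eq_zero.1 h3).resolve_right hlam
    have htN : s * S.E d ∈ S.N := S.N.mul_mem hs (S.E_mem d)
    have ht : ∀ w', s * S.E d * S.E w' * (s * S.E d)⁻¹ = S.E (w' + S.β lam w' • lam) := fun w' => by
      rw [← hst w', mul_inv_rev, inv_of_sq (S.E_sq d), mul_assoc s, S.E_comm d w']
      simp only [mul_assoc]
      rw [← mul_assoc (S.E d) (S.E d), S.E_sq, one_mul]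
    obtain ⟨e, he⟩ := T _ htN ht g⁻¹ c hc (by
      have h1 : g * (s * S.E d) * g⁻¹ = w := by
        rw [show g * (s * S.E d) * g⁻¹ = (g * s * g⁻¹) * (g * S.E d * g⁻¹) by group, hgd, ← hy, hz,
          ← mul_assoc, hyy, one_mul]
      have h2 := congrArg (fun t => g⁻¹ * t * g) hwa
      simp only [← h1, inv_inv, mul_assoc, inv_mul_cancel_left, inv_mul_cancel, mul_one] at h2 ⊢
      exact h2)
    exact S.inv_not_mem hg (S.fus c hc _ e he)

end Sys

end Cfsg.Agent.C6Plus10
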