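import Cfsg.Agent.Lib.C6Plus10Gen

/-!
The levels: the elements of an overgroup centralising the signs of some coordinates and possibly one complex
structure, the free Pauli elements, and the transitivity of the normaliser on them.
-/

set_option autoImplicit false
set_option linter.unusedSectionVars false

namespace Cfsg.Agent.C6Plus10

open Matrix
open scoped MatrixGroups

variable {F : Type*} [Field F] {k : ℕ} {S T : Finset (Fin k)}

theorem ip_comm (a b : Pt k) : ip a b = ip b a := dotProduct_comm a b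

theorem ip_eq_zero {a b : Pt k} (h : ∀ i, a i = 0 ∨ b i = 0) : ip a b = 0 :=
  (ip_eq_sum a b).trans (Finset.sum_eq_zero fun i _ => by rcases h i with h | h <;> simp [h])

theorem ip_smul_left (t : ZMod 2) (a b : Pt k) : ip (t • a) b = t * ip a b := smul_dotProduct _ _ _

theorem ip_smul_right (t : ZMod 2) (a b : Pt k) : ip a (t • b) = t * ip a b := dotProduct_smul _ _ _

theorem ip_pe_right (i : Fin k) (x : Pt k) : ip x (pe i) = x i := by rw [ip_comm, ip_pe]

/-- The indices of the central elements of a level. -/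
structure Shp (S T : Finset (Fin k)) (u w : Pt k) : Prop where
  hu : ∀ i, i ∉ T → u i = 0
  hw : ∀ i ∈ S, w i = 0
  hq : ∀ q ∈ T, w q = u q

theorem shp_zero : Shp S T 0 0 := ⟨fun _ _ => rfl, fun _ _ => rfl, fun _ _ => rfl⟩

theorem Shp.add {u w u' w' : Pt k} (h : Shp S T u w) (h' : Shp S T u' w') : Shp S T (u + u') (w + w') :=
  ⟨fun i hi => by rw [Pi.add_apply, h.hu i hi, h'.hu i hi, add_zero],
    fun i hi => by rw [Pi.add_apply, h.hw i hi, h'.hw i hi, add_zero],
    fun q hq => by rw [Pi.add_apply, Pi.add_apply, h.hq q hq, h'.hq q hq]⟩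

theorem Shp.huS {u w : Pt k} (h : Shp S T u w) (hST : Disjoint S T) {i : Fin k} (hi : i ∈ S) : u i = 0 :=
  h.hu i (Finset.disjoint_left.1 hST hi)

/-- The signed elements of the extraspecial group with central indices. -/
def Czs (F : Type*) [Field F] (S T : Finset (Fin k)) : Set (GL (Pt k) F) :=
  {g | ∃ c u w, Shp S T u w ∧ g = sd F (fun _ => c) * pau F u w}

theorem pau_mem_Czs {u w : Pt k} (h : Shp S T u w) : pau F u w ∈ Czs F S T :=
  ⟨0, u, w, h, by rw [sd_const_zero, one_mul]⟩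

/-- The group of a level. -/
def LK (M : Subgroup (GL (Pt k) F)) (S T : Finset (Fin k)) : Subgroup (GL (Pt k) F) :=
  M ⊓ Subgroup.centralizer (Czs F S T)

variable {M : Subgroup (GL (Pt k) F)}

theorem mem_LK {g : GL (Pt k) F} :
    g ∈ LK M S T ↔ g ∈ M ∧ ∀ u w, Shp S T u w → g * pau F u w = pau F u w * g := by
  rw [LK, Subgroup.mem_inf, Subgroup.mem_centralizer_iff]
  refine and_congr_right fun _ => ⟨fun h u w hs => (h _ (pau_mem_Czs hs)).symm, ?_⟩
  rintro h x ⟨c, u, w, hs, rfl⟩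
  rw [mul_assoc, ← h u w hs, ← mul_assoc, sd_const_mul, mul_assoc]

theorem mem_LK_of_conj {g : GL (Pt k) F} (hg : g ∈ M)
    (h : ∀ u w, Shp S T u w → g * pau F u w * g⁻¹ = pau F u w) : g ∈ LK M S T :=
  mem_LK.2 ⟨hg, fun u w hs => mul_inv_eq_iff_eq_mul.1 (h u w hs)⟩

theorem CP_of_LK {g : GL (Pt k) F} (hg : g ∈ LK M S T) {u w : Pt k} (h : Shp S T u w) : CP g u w u w :=
  ⟨0, by rw [sd_const_zero, one_mul, (mem_LK.1 hg).2 u w h, mul_inv_cancel_right]⟩

theorem CP.add {n : GL (Pt k) F} {a b a' b' c d c' d' : Pt k} (h : CP n a b a' b') (h' : CP n c d c' d') :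
    CP n (a + c) (b + d) (a' + c') (b' + d') := by
  obtain ⟨x, hx⟩ := h
  obtain ⟨y, hy⟩ := h'
  refine ⟨x + y + ip b c + ip b' c', ?_⟩
  have e : pau F (a + c) (b + d) = sd F (fun _ => ip b c) * (pau F a b * pau F c d) := by
    rw [pau_mul, ← mul_assoc, ← sd_const_add, CharTwo.add_self_eq_zero, sd_const_zero, one_mul]
  calc n * pau F (a + c) (b + d) * n⁻¹
      = (n * sd F (fun _ => ip b c) * n⁻¹) * ((n * pau F a b * n⁻¹) * (n * pau F c d * n⁻¹)) := by
        rw [e]; group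
    _ = sd F (fun _ => ip b c) * (sd F (fun _ => x) * (sd F (fun _ => y) * (pau F a' b' * pau F c' d'))) := by
        rw [conj_sd_const, hx, hy]
        congr 1
        rw [mul_assoc, ← mul_assoc (pau F a' b'), ← sd_const_mul, mul_assoc]
    _ = _ := by
        rw [pau_mul, ← mul_assoc, ← mul_assoc, ← mul_assoc, ← sd_const_add, ← sd_const_add, ← sd_const_add]
        congr 1
        congr 1
        funext _
        ring

theorem CP.of_eq {n : GL (Pt k) F} {a b a' b' x y : Pt k} {c : ZMod 2}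
    (h : n * pau F a b * n⁻¹ = sd F (fun _ => c) * pau F x y) (hx : x = a') (hy : y = b') : CP n a b a' b' :=
  ⟨c, by rw [h, hx, hy]⟩

/-- Conjugation preserves squares. -/
theorem CP.sq (h2 : (2 : F) ≠ 0) {n : GL (Pt k) F} {a b a' b' : Pt k} (h : CP n a b a' b') : ip b' a' = ip b a := by
  obtain ⟨c, hc⟩ := h
  have e : n * (pau F a b * pau F a b) * n⁻¹ = (sd F (fun _ => c) * pau F a' b') * (sd F (fun _ => c) * pau F a' b') := by
    rw [← hc]; group
  rw [pau_mul, pt_add_self, pt_add_self, pau_zero, mul_one, conj_sd_const, mul_assoc,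
    ← mul_assoc (pau F a' b'), ← sd_const_mul, mul_assoc, pau_mul, pt_add_self, pt_add_self, pau_zero, mul_one,
    ← sd_const_add, ← sd_const_add, ← add_assoc, CharTwo.add_self_eq_zero, zero_add] at e
  exact (pau_inj h2 (a := 0) (b := 0) (a' := 0) (b' := 0) (by rw [e])).2.2.symm

/-- Conjugation preserves commutators. -/
theorem CP.comm (h2 : (2 : F) ≠ 0) {n : GL (Pt k) F} {a b a' b' c d c' d' : Pt k} (h : CP n a b a' b')
    (h' : CP n c d c' d') : ip b' c' + ip d' a' = ip b c + ip d a := by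
  have e1 := (h.add h').sq h2
  have e2 := h.sq h2
  have e3 := h'.sq h2
  simp only [ip_add_left, ip_add_right] at e1
  grind

/-! ### The free coordinates -/

/-- The free indices. -/
abbrev Vec (S : Finset (Fin k)) : Type := (↥S → ZMod 2) × (↥S → ZMod 2)

/-- Extension by zero. -/
def ex (S : Finset (Fin k)) : (↥S → ZMod 2) →ₗ[ZMod 2] Pt k where
  toFun a i := if h : i ∈ S then a ⟨i, h⟩ else 0
  map_add' a b := funext fun i => by by_cases h : i ∈ S <;> simp [h]
  map_smul' c a := funext fun i => by by_cases h : i ∈ S <;> simp [h]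

theorem ex_mem (a : ↥S → ZMod 2) {i : Fin k} (h : i ∈ S) : ex S a i = a ⟨i, h⟩ := dif_pos h

theorem ex_not_mem (a : ↥S → ZMod 2) {i : Fin k} (h : i ∉ S) : ex S a i = 0 := dif_neg h

theorem ex_inj {a b : ↥S → ZMod 2} (h : ex S a = ex S b) : a = b := funext fun i => by
  have := congrFun h i
  rwa [ex_mem a i.2, ex_mem b i.2] at this

theorem ex_single {i : Fin k} (h : i ∈ S) : ex S (Pi.single ⟨i, h⟩ 1) = pe i := funext fun j => by
  by_cases hj : j ∈ S
  · rw [ex_mem _ hj]; simp [pe, Pi.single_apply]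
  · rw [ex_not_mem _ hj, pe_ne (fun e : j = i => hj (e ▸ h))]

theorem ip_ex (a b : ↥S → ZMod 2) : ip (ex S a) (ex S b) = a ⬝ᵥ b := by
  rw [ip_eq_sum, ← Finset.sum_subset (Finset.subset_univ S) (fun i _ hi => by rw [ex_not_mem _ hi, zero_mul]),
    ← Finset.sum_coe_sort S]
  exact Finset.sum_congr rfl fun i _ => by rw [ex_mem a i.2, ex_mem b i.2]

theorem ip_ex_shp (hST : Disjoint S T) {u w : Pt k} (h : Shp S T u w) (a : ↥S → ZMod 2) :
    ip (ex S a) u = 0 ∧ ip w (ex S a) = 0 :=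
  ⟨ip_eq_zero fun i => by
      by_cases hi : i ∈ S
      · exact Or.inr (h.huS hST hi)
      · exact Or.inl (ex_not_mem a hi),
    ip_eq_zero fun i => by
      by_cases hi : i ∈ S
      · exact Or.inl (h.hw i hi)
      · exact Or.inr (ex_not_mem a hi)⟩

/-- The quadratic form. -/
def qv (v : Vec S) : ZMod 2 := v.2 ⬝ᵥ v.1

/-- A free element of the extraspecial group. -/
noncomputable def El (F : Type*) [Field F] (v : Vec S) : GL (Pt k) F := pau F (ex S v.1) (ex S v.2)

theorem pau_mem (hM : Base M) (a b : Pt k) : pau F a b ∈ M :=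
  M.mul_mem (hM.aff _ fun x y z => by
    simp only [Equiv.coe_addRight]
    funext i
    simp only [Pi.add_apply]
    grind) (hM.quad _ (aff_ip b).quad)

theorem El_mem (hM : Base M) (hST : Disjoint S T) (v : Vec S) : El F v ∈ LK M S T :=
  mem_LK.2 ⟨pau_mem hM _ _, fun u w h => by
    rw [El, pau_comm, (ip_ex_shp hST h v.2).1, (ip_ex_shp hST h v.1).2, add_zero, sd_const_zero, one_mul]⟩

/-- An index pair commuting with the centre of a level splits into a free and a central part. -/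
theorem split_shp (hST : Disjoint S T) {a b : Pt k} (h : ∀ u w, Shp S T u w → ip b u + ip w a = 0) :
    ∃ (v : Vec S) (u z : Pt k), Shp S T u z ∧ a = ex S v.1 + u ∧ b = ex S v.2 + z := by
  refine ⟨(fun i => a i, fun i => b i), a + ex S (fun i => a i), b + ex S (fun i => b i), ⟨?_, ?_, ?_⟩, ?_, ?_⟩
  · intro i hiT
    by_cases hi : i ∈ S
    · rw [Pi.add_apply, ex_mem _ hi, CharTwo.add_self_eq_zero]
    · have h1 := h 0 (pe i) ⟨fun _ _ => rfl, fun j hj => pe_ne (fun e : j = i => hi (e ▸ hj)),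
        fun q hq => pe_ne (fun e : q = i => hiT (e ▸ hq))⟩
      rw [ip_comm b, ip_zero_left, zero_add, ip_pe] at h1
      rw [Pi.add_apply, ex_not_mem _ hi, h1, add_zero]
  · intro i hi
    rw [Pi.add_apply, ex_mem _ hi, CharTwo.add_self_eq_zero]
  · intro q hq
    have hqS : q ∉ S := fun hq' => Finset.disjoint_left.1 hST hq' hq
    have h1 := h (pe q) (pe q) ⟨fun i hi => pe_ne (fun e : i = q => hi (e ▸ hq)),
      fun j hj => pe_ne (fun e : j = q => hqS (e ▸ hj)), fun _ _ => rfl⟩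
    rw [ip_pe_right, ip_pe, CharTwo.add_eq_zero] at h1
    rw [Pi.add_apply, Pi.add_apply, ex_not_mem _ hqS, ex_not_mem _ hqS, h1]
  · rw [add_comm a, ← add_assoc, pt_add_self, zero_add]
  · rw [add_comm b, ← add_assoc, pt_add_self, zero_add]

/-- Elements of the level normalising the extraspecial group permute the free elements modulo the centre. -/
theorem nor_El (h2 : (2 : F) ≠ 0) (hST : Disjoint S T) {g : GL (Pt k) F} (hg : g ∈ LK M S T)
    (hn : Nr g) (v : Vec S) : ∃ (w : Vec S) (u z : Pt k), Shp S T u z ∧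
      CP g (ex S v.1) (ex S v.2) (ex S w.1 + u) (ex S w.2 + z) := by
  obtain ⟨a', b', h⟩ := nr_iff.1 hn (ex S v.1) (ex S v.2)
  obtain ⟨w, u, z, hs, rfl, rfl⟩ := split_shp hST (a := a') (b := b') fun u w hs => by
    rw [h.comm h2 (CP_of_LK hg hs), (ip_ex_shp hST hs v.2).1, (ip_ex_shp hST hs v.1).2, add_zero]
  exact ⟨w, u, z, hs, h⟩

/-- The normaliser moves one free element to the other. -/
def Rc (M : Subgroup (GL (Pt k) F)) (S T : Finset (Fin k)) (v w : Vec S) : Prop :=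
  ∃ n ∈ LK M S T, Nr n ∧ ∃ u z, Shp S T u z ∧ CP n (ex S v.1) (ex S v.2) (ex S w.1 + u) (ex S w.2 + z)

theorem Rc.refl (v : Vec S) : Rc M S T v v :=
  ⟨1, one_mem _, nr_one, 0, 0, shp_zero, 0, by simp [sd_const_zero]⟩

theorem Rc.trans {v w x : Vec S} (h : Rc M S T v w) (h' : Rc M S T w x) : Rc M S T v x := by
  obtain ⟨n, hn, hnn, u, z, hs, hc⟩ := h
  obtain ⟨n', hn', hnn', u', z', hs', hc'⟩ := h'
  refine ⟨n' * n, mul_mem hn' hn, hnn'.mul hnn, u' + u, z' + z, hs'.add hs, ?_⟩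
  rw [← add_assoc, ← add_assoc]
  exact hc.comp (hc'.add (CP_of_LK hn' hs))

theorem Rc.qv (h2 : (2 : F) ≠ 0) (hT : T = ∅) (hST : Disjoint S T) {v w : Vec S} (h : Rc M S T v w) :
    qv w = qv v := by
  obtain ⟨n, -, -, u, z, hs, hc⟩ := h
  have hu : u = 0 := funext fun i => hs.hu i (by simp [hT])
  have h1 := hc.sq h2
  rw [hu, add_zero, ip_add_left, (ip_ex_shp hST hs w.1).2, add_zero, ip_ex, ip_ex] at h1
  exact h1

theorem tr_LK (hM : Base M) (d l : Pt k) (c : ZMod 2) (h : ip l d = 0)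
    (hd : ∀ u w, Shp S T u w → ip l u = 0 ∧ ip w d = 0) : pm F (trP d l c h) ∈ LK M S T :=
  mem_LK_of_conj (hM.aff _ (affPerm_trP d l c h)) fun u w hs => by
    rw [tr_conj, (hd u w hs).1, (hd u w hs).2, mul_zero, sd_const_zero, one_mul, zero_smul, zero_smul, add_zero,
      add_zero]

theorem qd_LK (hM : Base M) (l m : Pt k) (c : ZMod 2)
    (hd : ∀ u w, Shp S T u w → ip l u = 0 ∧ ip m u = 0) : sd F (qf l m c) ∈ LK M S T :=
  mem_LK_of_conj (hM.quad _ (quad_qf l m c)) fun u w hs => by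
    rw [qd_conj, (hd u w hs).1, (hd u w hs).2, zero_mul, sd_const_zero, one_mul, zero_smul, zero_smul, add_zero,
      add_zero]

theorem rc_tr (hM : Base M) (hST : Disjoint S T) {i j : ↥S} (hij : i ≠ j) (v : Vec S) :
    Rc M S T v (v.1 + v.1 j • Pi.single i 1, v.2 + v.2 i • Pi.single j 1) := by
  have hne : (i : Fin k) ≠ j := fun e => hij (Subtype.ext e)
  have h : ip (pe (j : Fin k)) (pe i) = 0 := by rw [ip_pe, pe_ne hne.symm]
  have hn : pm F (trP (pe (i : Fin k)) (pe j) 0 h) ∈ LK M S T := tr_LK hM _ _ 0 h fun u w hs =>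
      ⟨by rw [ip_pe, hs.huS hST j.2], by rw [ip_pe_right, hs.hw i i.2]⟩
  refine ⟨pm F (trP (pe (i : Fin k)) (pe j) 0 h), hn, nr_tr _ _ _ _, 0, 0, shp_zero,
    CP.of_eq (tr_conj (pe (i : Fin k)) (pe j) 0 h (ex S v.1) (ex S v.2)) ?_ ?_⟩
  · rw [add_zero, map_add, map_smul, ex_single i.2, ip_pe, ex_mem v.1 j.2]
  · rw [add_zero, map_add, map_smul, ex_single j.2, ip_pe_right, ex_mem v.2 i.2]

theorem rc_qd (hM : Base M) (hST : Disjoint S T) (i j : ↥S) (v : Vec S) :
    Rc M S T v (v.1, v.2 + v.1 j • Pi.single i 1 + v.1 i • Pi.single j 1) := by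
  refine ⟨_, qd_LK hM (pe i) (pe j) 0 fun u w hs =>
      ⟨by rw [ip_pe, hs.huS hST i.2], by rw [ip_pe, hs.huS hST j.2]⟩, nr_qd _ _ _, 0, 0, shp_zero,
    CP.of_eq (qd_conj (pe (i : Fin k)) (pe j) 0 _ _) ?_ ?_⟩
  · rw [add_zero]
  · rw [add_zero, map_add, map_add, map_smul, map_smul, ex_single i.2, ex_single j.2, ip_pe, ip_pe, ex_mem v.1 i.2,
      ex_mem v.1 j.2]

theorem hh_LK (hST : Disjoint S T) {i j : ↥S} (hij : (i : Fin k) ≠ j) {n : GL (Pt k) F} (hn : n ∈ M)
    (hu : (n : Matrix (Pt k) (Pt k) F) = hh F (i : Fin k) j) : n ∈ LK M S T := by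
  refine mem_LK_of_conj hn fun u w hs => ?_
  have e : ∀ {a b : Pt k}, a i = 0 → a j = 0 → b i = 0 → b j = 0 → exch (i : Fin k) j a b = a := by
    intro a b h1 h2 h3 h4
    funext t
    simp only [exch]
    split_ifs with ht
    · rcases ht with rfl | rfl
      · rw [h1, h3]
      · rw [h2, h4]
    · rfl
  rw [hh_conj hij hu, e (hs.huS hST i.2) (hs.huS hST j.2) (hs.hw i i.2) (hs.hw j j.2),
    e (hs.hw i i.2) (hs.hw j j.2) (hs.huS hST i.2) (hs.huS hST j.2), hs.hw i i.2, hs.hw j j.2]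
  simp [sd_const_zero]

/-- Exchanging translations and signs at two positions. -/
def swv (i j : ↥S) (v : Vec S) : Vec S :=
  (fun t => if t = i ∨ t = j then v.2 t else v.1 t, fun t => if t = i ∨ t = j then v.1 t else v.2 t)

theorem rc_hh (hM : Base M) (hST : Disjoint S T) {i j : ↥S} (hij : i ≠ j) (v : Vec S) :
    Rc M S T v (swv i j v) := by
  have hne : (i : Fin k) ≠ j := fun e => hij (Subtype.ext e)
  obtain ⟨n, hn, hu⟩ := hM.had _ _ hne
  have e : ∀ a b : ↥S → ZMod 2, exch (i : Fin k) j (ex S a) (ex S b) =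
      ex S (fun t => if t = i ∨ t = j then b t else a t) := by
    intro a b
    funext t
    by_cases ht : t ∈ S
    · simp only [exch, ex_mem _ ht, Subtype.ext_iff]
    · simp only [exch, ex_not_mem _ ht, ite_self]
  refine ⟨n, hh_LK hST hne hn hu, nr_hh hne hu, 0, 0, shp_zero, CP.of_eq (hh_conj hne hu _ _) ?_ ?_⟩ <;>
    rw [e, add_zero] <;> rfl

theorem rc_ph (hM : Base M) (hST : Disjoint S T) (i : ↥S) {q : Fin k} (hq : q ∈ T) (v : Vec S) :
    Rc M S T v (v.1, v.2 + v.1 i • Pi.single i 1) := by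
  have hqS : q ∉ S := fun h => Finset.disjoint_left.1 hST h hq
  have hne : (i : Fin k) ≠ q := fun e => hqS (e ▸ i.2)
  have h : ip (pe (i : Fin k)) (pe q) = 0 := by rw [ip_pe, pe_ne hne]
  have hn : sd F (qf (pe (i : Fin k)) (pe q) 0) * pm F (trP (pe q) (pe i) 0 h) ∈ LK M S T := by
    refine mem_LK_of_conj (M.mul_mem (hM.quad _ (quad_qf _ _ _)) (hM.aff _ (affPerm_trP _ _ _ h))) fun u w hs => ?_
    rw [show ∀ X Y Z : GL (Pt k) F, X * Y * Z * (X * Y)⁻¹ = X * (Y * Z * Y⁻¹) * X⁻¹ from fun X Y Z => by group,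
      tr_conj, ip_pe, hs.huS hST i.2, zero_mul, sd_const_zero, one_mul, zero_smul, add_zero, qd_conj,
      ip_pe_right, ip_pe, ip_pe, hs.huS hST i.2, zero_mul, sd_const_zero, one_mul, zero_smul, add_zero,
      hs.hq q hq, add_assoc, pt_add_self, add_zero]
  refine ⟨_, hn, (nr_qd _ _ _).mul (nr_tr _ _ _ _), v.1 i • pe q, v.1 i • pe q, ⟨fun t ht => ?_, fun t ht => ?_,
    fun _ _ => rfl⟩, CP.comp ⟨_, tr_conj (pe q) (pe (i : Fin k)) 0 h (ex S v.1) (ex S v.2)⟩ (CP.of_eq (qd_conj _ _ _ _ _) ?_ ?_)⟩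
  · rw [Pi.smul_apply, pe_ne (fun e : t = q => ht (e ▸ hq)), smul_zero]
  · rw [Pi.smul_apply, pe_ne (fun e : t = q => hqS (e ▸ ht)), smul_zero]
  · rw [ip_pe, ex_mem v.1 i.2]
  · simp only [map_add, map_smul, ex_single i.2, ip_pe, ip_pe_right, ip_add_right, Pi.add_apply, Pi.smul_apply,
      ex_mem _ i.2, ex_not_mem _ hqS, pe_ne hne, pe_self, smul_eq_mul, mul_zero, mul_one, add_zero, zero_add,
      zero_smul]

/-- Every free element is moved to a sign at any place, or, without complex structure and for the value one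
of the form, to the product of sign and translation there. -/
theorem reach_std (h2 : (2 : F) ≠ 0) (hM : Base M) (hST : Disjoint S T) (hcard : 2 ≤ S.card) (t : ↥S)
    {v : Vec S} (hv : v ≠ 0) :
    Rc M S T v (0, Pi.single t 1) ∨ (T = ∅ ∧ qv v = 1 ∧ Rc M S T v (Pi.single t 1, Pi.single t 1)) := by
  obtain ⟨l, hl⟩ : ∃ l : ↥S, l ≠ t := by
    haveI : Nontrivial ↥S := Fintype.one_lt_card_iff_nontrivial.1 (by rw [Fintype.card_coe]; omega)
    exact exists_ne t
  obtain ⟨v₁, h₁, i, hi⟩ : ∃ v₁, Rc M S T v v₁ ∧ ∃ i, v₁.1 i = 1 := by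
    by_cases ha : ∃ i, v.1 i = 1
    · exact ⟨v, Rc.refl v, ha⟩
    push Not at ha
    obtain ⟨i, hi⟩ : ∃ i, v.2 i = 1 := by
      by_contra hb
      push Not at hb
      exact hv (Prod.ext (funext fun i => (zm_cases _).resolve_right (ha i))
        (funext fun i => (zm_cases _).resolve_right (hb i)))
    obtain ⟨j, hj⟩ : ∃ j : ↥S, j ≠ i := by
      by_cases h : t = i
      · exact ⟨l, h ▸ hl⟩
      · exact ⟨t, h⟩
    exact ⟨_, rc_hh hM hST hj.symm v, i, by simp [swv, hi]⟩
  obtain ⟨v₂, h₂, ht⟩ : ∃ v₂, Rc M S T v v₂ ∧ v₂.1 t = 1 := by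
    rcases zm_cases (v₁.1 t) with h0 | h1
    · have hne : t ≠ i := fun e => by rw [e, hi] at h0; exact one_ne_zero h0
      exact ⟨_, h₁.trans (rc_tr hM hST hne v₁), by simp [h0, hi]⟩
    · exact ⟨v₁, h₁, h1⟩
  obtain ⟨v₃, h₃, ht₃, hoff⟩ : ∃ w, Rc M S T v w ∧ w.1 t = 1 ∧ ∀ j, j ≠ t → w.1 j = 0 := by
    suffices h : ∀ A : Finset ↥S, ∃ w, Rc M S T v w ∧ w.1 t = 1 ∧ ∀ j ∈ A, j ≠ t → w.1 j = 0 by
      obtain ⟨w, a, b, c⟩ := h Finset.univ
      exact ⟨w, a, b, fun j => c j (Finset.mem_univ _)⟩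
    intro A
    induction A using Finset.induction_on with
    | empty => exact ⟨v₂, h₂, ht, by simp⟩
    | @insert a A _ ih =>
      obtain ⟨w, hw, hwt, hwA⟩ := ih
      by_cases ha : a ≠ t ∧ w.1 a = 1
      · refine ⟨_, hw.trans (rc_tr hM hST ha.1 w), by simp [hwt, ha.1.symm], fun j hj hjt => ?_⟩
        by_cases hja : j = a
        · subst hja; simp [hwt, ha.2, CharTwo.add_self_eq_zero]
        · simp [hwA j ((Finset.mem_insert.1 hj).resolve_left hja) hjt, hja]
      · refine ⟨w, hw, hwt, fun j hj hjt => ?_⟩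
        rcases Finset.mem_insert.1 hj with rfl | hj
        · exact (zm_cases _).resolve_right fun e => ha ⟨hjt, e⟩
        · exact hwA j hj hjt
  have hfst : v₃.1 = Pi.single t 1 := funext fun j => by
    by_cases hj : j = t
    · subst hj; simp [ht₃]
    · simp [hoff j hj, hj]
  obtain ⟨c, h₄⟩ : ∃ c : ZMod 2, Rc M S T v (Pi.single t 1, c • Pi.single t 1) := by
    suffices h : ∀ A : Finset ↥S, ∃ b : ↥S → ZMod 2, Rc M S T v (Pi.single t 1, b) ∧ ∀ j ∈ A, j ≠ t → b j = 0 by
      obtain ⟨b, hb, hA⟩ := h Finset.univ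
      refine ⟨b t, ?_⟩
      rwa [show b t • Pi.single t 1 = b from funext fun j => by
        by_cases hj : j = t
        · subst hj; simp
        · simp [hj, hA j (Finset.mem_univ _) hj]]
    intro A
    induction A using Finset.induction_on with
    | empty => exact ⟨v₃.2, by rw [← hfst]; exact h₃, by simp⟩
    | @insert a A _ ih =>
      obtain ⟨b, hb, hA⟩ := ih
      by_cases ha : a ≠ t ∧ b a = 1
      · refine ⟨_, hb.trans (rc_qd hM hST a t _), fun j hj hjt => ?_⟩
        by_cases hja : j = a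
        · subst hja; simp [ha.2, hjt, CharTwo.add_self_eq_zero]
        · simp [hA j ((Finset.mem_insert.1 hj).resolve_left hja) hjt, hja, hjt]
      · refine ⟨b, hb, fun j hj hjt => ?_⟩
        rcases Finset.mem_insert.1 hj with rfl | hj
        · exact (zm_cases _).resolve_right fun e => ha ⟨hjt, e⟩
        · exact hA j hj hjt
  have hzero : Rc M S T v (Pi.single t 1, 0) → Rc M S T v (0, Pi.single t 1) := fun h => by
    have h' := h.trans (rc_hh hM hST hl.symm _)
    rwa [show swv t l ((Pi.single t 1, 0) : Vec S) = (0, Pi.single t 1) from Prod.ext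
      (funext fun j => by by_cases hj : j = t <;> by_cases hjl : j = l <;> simp [swv, hj, hjl, hl])
      (funext fun j => by by_cases hj : j = t <;> by_cases hjl : j = l <;> simp [swv, hj, hjl, hl, hl.symm])] at h'
  rcases zm_cases c with rfl | rfl
  · rw [zero_smul] at h₄
    exact Or.inl (hzero h₄)
  rw [one_smul] at h₄
  by_cases hT : T = ∅
  · exact Or.inr ⟨hT, by rw [← h₄.qv h2 hT hST]; simp [qv], h₄⟩
  obtain ⟨q, hq⟩ := Finset.nonempty_iff_ne_empty.2 hT
  refine Or.inl (hzero ?_)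
  have h' := h₄.trans (rc_ph hM hST t hq _)
  rwa [show (Pi.single t 1 : ↥S → ZMod 2) + (Pi.single t 1 : ↥S → ZMod 2) t • Pi.single t 1 = 0 by
    funext j; by_cases hj : j = t <;> simp [hj, CharTwo.add_self_eq_zero]] at h'

end Cfsg.Agent.C6Plus10
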