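import Cfsg.Agent.Lib.C6Cplx84Act
import Cfsg.Agent.Lib.C6Plus10Level
import Cfsg.Agent.Lib.C6Plus10Ctl
import Cfsg.Agent.Lib.C6Plus10Fus

/-!
One step down the levels: if the centraliser of one more sign normalises, so does the whole level, by fusion of
involutions in the level modulo its centre.
-/

set_option autoImplicit false
set_option linter.unusedSectionVars false

namespace Cfsg.Agent.C6Cplx84

open Matrix Cfsg.Agent.C6Plus10 Cfsg.Agent.C6Cplx52
open scoped MatrixGroups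

variable {F : Type*} [Field F] {k : ℕ} {i : Fˣ}

theorem pau_sc_inj (h2 : (2 : F) ≠ 0) {c c' : Fˣ} {a b a' b' : Pt k}
    (h : sc (Pt k) c * pau F a b = sc (Pt k) c' * pau F a' b') : a = a' ∧ b = b' ∧ c = c' := by
  have e : ∀ x y, (c : F) * (if x = Equiv.addRight a y then sgn F (ip b y) else 0) =
      (c' : F) * (if x = Equiv.addRight a' y then sgn F (ip b' y) else 0) := by
    intro x y
    have h' := congrArg (fun u : GL (Pt k) F => (u : Matrix (Pt k) (Pt k) F) x y) h
    simpa only [Units.val_mul, sc_val, smul_mul_assoc, one_mul, Matrix.smul_apply, smul_eq_mul, pau_eq, mon_apply]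
      using h'
  have ha : a = a' := by
    have h0 := e (Equiv.addRight a 0) 0
    rw [if_pos rfl] at h0
    by_cases he : Equiv.addRight a (0 : Pt k) = Equiv.addRight a' 0
    · simpa using he
    · rw [if_neg he, mul_zero] at h0
      exact absurd h0 (mul_ne_zero c.ne_zero (sgn_ne_zero _))
  subst ha
  have hy : ∀ y, (c : F) * sgn F (ip b y) = (c' : F) * sgn F (ip b' y) := fun y => by
    have h' := e (Equiv.addRight a y) y
    rwa [if_pos rfl, if_pos rfl] at h'
  have hc : c = c' := Units.ext (by simpa [ip] using hy 0)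
  subst hc
  exact ⟨rfl, funext fun j => by
    have h' := sgn_inj h2 (mul_left_cancel₀ c.ne_zero (hy (pe j)))
    rwa [ip_pe_right, ip_pe_right] at h', rfl⟩

/-- The commutator pairing of two index pairs. -/
def pr (a b c d : Pt k) : ZMod 2 := ip b c + ip d a

theorem sc_prod (c c' : Fˣ) (x y : GL (Pt k) F) :
    sc (Pt k) c * x * (sc (Pt k) c' * y) = sc (Pt k) (c * c') * (x * y) := by
  rw [mul_assoc, sc_pull, ← mul_assoc, ← map_mul]

theorem CPi.comm (h2 : (2 : F) ≠ 0) (hi : (i : F) * i = -1) {g : GL (Pt k) F} {a b a' b' c d c' d' : Pt k}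
    (h : CPi i g a b a' b') (h' : CPi i g c d c' d') : pr a' b' c' d' = pr a b c d := by
  obtain ⟨n, hn⟩ := h
  obtain ⟨m, hm⟩ := h'
  have e1 : (g * pau F a b * g⁻¹) * (g * pau F c d * g⁻¹) =
      sd F (fun _ => pr a b c d) * ((g * pau F c d * g⁻¹) * (g * pau F a b * g⁻¹)) := by
    calc (g * pau F a b * g⁻¹) * (g * pau F c d * g⁻¹) = g * (pau F a b * pau F c d) * g⁻¹ := by group
      _ = g * (sd F (fun _ => pr a b c d) * (pau F c d * pau F a b)) * g⁻¹ := by rw [pau_comm]; rfl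
      _ = (g * sd F (fun _ => pr a b c d) * g⁻¹) * ((g * pau F c d * g⁻¹) * (g * pau F a b * g⁻¹)) := by group
      _ = _ := by rw [conj_sd_const]
  rw [hn, hm, sc_prod, sc_prod, pau_comm a' b' c' d', mul_comm (i ^ m) (i ^ n)] at e1
  simp only [← mul_assoc] at e1
  have e2 := mul_right_cancel (mul_right_cancel e1)
  rw [sd_const_mul _ (sc (Pt k) (i ^ n * i ^ m))] at e2
  exact congrFun (sd_inj h2 (mul_left_cancel e2)) 0

theorem exists_pow_of_four (hi : (i : F) * i = -1) {c : Fˣ} (h : c ^ 4 = 1) : ∃ n : ℕ, c = i ^ n := by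
  have h' : ((c : F) - 1) * ((c : F) + 1) * ((c - (i : F)) * (c + (i : F))) = 0 := by
    have h4 : (c : F) ^ 4 = 1 := by rw [← Units.val_pow_eq_pow_val, h, Units.val_one]
    linear_combination h4 + (1 - (c : F) * c) * hi
  rcases mul_eq_zero.1 h' with h | h <;> rcases mul_eq_zero.1 h with h | h
  · exact ⟨0, Units.ext (by simp [sub_eq_zero.1 h])⟩
  · exact ⟨2, Units.ext (by simp [eq_neg_of_add_eq_zero_left h, pow_two, hi])⟩
  · exact ⟨1, Units.ext (by simp [sub_eq_zero.1 h])⟩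
  · exact ⟨3, Units.ext (by simp [eq_neg_of_add_eq_zero_left h, pow_succ, hi])⟩

/-- A scalar multiple as a conjugate has a fourth root of unity as scalar. -/
theorem cp_of_sc (h2 : (2 : F) ≠ 0) (hi : (i : F) * i = -1) {g : GL (Pt k) F} {a b a' b' : Pt k} {c : Fˣ}
    (h : g * pau F a b * g⁻¹ = sc (Pt k) c * pau F a' b') : CPi i g a b a' b' := by
  have e : g * (pau F a b * pau F a b) * g⁻¹ = (g * pau F a b * g⁻¹) * (g * pau F a b * g⁻¹) := by group
  rw [h, pau_mul, pt_add_self, pt_add_self, pau_zero, mul_one, conj_sd_const, mul_assoc, sc_pull, pau_mul,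
    pt_add_self, pt_add_self, pau_zero, mul_one, ← mul_assoc, ← map_mul, sd_const_sc hi, sd_const_sc hi,
    ← map_mul] at e
  have e' := (pau_sc_inj h2 (a := 0) (b := 0) (a' := 0) (b' := 0) (congrArg (· * pau F 0 0) e)).2.2
  obtain ⟨n, hn⟩ := exists_pow_of_four hi (c := c) (by
    have hc : c * c = i ^ (2 * (ip b a).val) * (i ^ (2 * (ip b' a').val))⁻¹ := eq_mul_inv_iff_mul_eq.2 e'.symm
    have h2' : ∀ z : ZMod 2, (i ^ (2 * z.val)) ^ 2 = 1 := fun z => Units.ext (by
      rw [Units.val_pow_eq_pow_val, Units.val_pow_eq_pow_val, pow_mul, pow_two (i : F), hi, ← pow_mul, pow_mul',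
        neg_one_sq, one_pow, Units.val_one])
    rw [show c ^ 4 = (c * c) ^ 2 by rw [← pow_two, ← pow_mul], hc, mul_pow, inv_pow, h2', h2', inv_one, one_mul])
  exact ⟨n, by rw [h, hn]⟩

theorem pau_exact (a b : Pt k) {n : GL (Pt k) F} {a' b' : Pt k} (h : CPi i n a b a' b') :
    ∃ c : ℕ, n * pau F a b = sc (Pt k) (i ^ c) * pau F a' b' * n := by
  obtain ⟨c, hc⟩ := h
  exact ⟨c, mul_inv_eq_iff_eq_mul.1 hc⟩

/-- Elements of a level commute with its signs. -/
theorem comm_sign (h2 : (2 : F) ≠ 0) {M : Subgroup (GL (Pt k) F)} {D : Finset (Fin k)} {g : GL (Pt k) F}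
    (hg : g ∈ Lev M D) {w : Pt k} (hw : ∀ j, j ∉ D → w j = 0) : g * pau F 0 w = pau F 0 w * g := by
  rw [pau_sd]
  refine Units.ext (Matrix.ext fun x y => ?_)
  show (_ * Matrix.diagonal _ : Matrix (Pt k) (Pt k) F) x y = (Matrix.diagonal _ * _ : Matrix (Pt k) (Pt k) F) x y
  rw [Matrix.mul_diagonal, Matrix.diagonal_mul]
  by_cases h : ∀ d ∈ D, x d = y d
  · rw [show ip w x = ip w y by
      rw [ip_eq_sum, ip_eq_sum]
      refine Finset.sum_congr rfl fun j _ => ?_
      by_cases hj : j ∈ D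
      · rw [h j hj]
      · rw [hw j hj, zero_mul, zero_mul], mul_comm]
  · push Not at h
    obtain ⟨d, hd, hne⟩ := h
    rw [entry_zero h2 ((mem_Lev'.1 hg).2 d hd) (by simpa [ip_pe] using hne), mul_zero, zero_mul]

variable {M : Subgroup (GL (Pt k) F)} {D : Finset (Fin k)}

/-- The free positions. -/
abbrev fr (D : Finset (Fin k)) : Finset (Fin k) := Finset.univ \ D

/-- The centre of a level. -/
def Cen (M : Subgroup (GL (Pt k) F)) (D : Finset (Fin k)) : Subgroup (Lev M D) where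
  carrier := {x | ∃ (c : Fˣ) (w : Pt k), (∀ j, j ∉ D → w j = 0) ∧ (x : GL (Pt k) F) = sc (Pt k) c * pau F 0 w}
  one_mem' := ⟨1, 0, fun _ _ => rfl, by simp [pau_zero]⟩
  mul_mem' := by
    rintro x y ⟨c, w, hw, hx⟩ ⟨c', w', hw', hy⟩
    refine ⟨c * c', w + w', fun j hj => by rw [Pi.add_apply, hw j hj, hw' j hj, add_zero], ?_⟩
    rw [Subgroup.coe_mul, hx, hy, mul_assoc, sc_pull, pau_mul, ← mul_assoc, ← map_mul, add_zero,
      show ip w (0 : Pt k) = 0 from dotProduct_zero w, sd_const_zero, one_mul]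
  inv_mem' := by
    rintro x ⟨c, w, hw, hx⟩
    refine ⟨c⁻¹, w, hw, ?_⟩
    rw [Subgroup.coe_inv, hx, _root_.mul_inv_rev, pau_inv, show ip w (0 : Pt k) = 0 from dotProduct_zero w,
      sd_const_zero, one_mul, ← map_inv, sc_comm]

theorem mem_Cen {x : Lev M D} : x ∈ Cen M D ↔
    ∃ (c : Fˣ) (w : Pt k), (∀ j, j ∉ D → w j = 0) ∧ (x : GL (Pt k) F) = sc (Pt k) c * pau F 0 w := Iff.rfl

theorem cen_comm (h2 : (2 : F) ≠ 0) {c : Fˣ} {w : Pt k} (hw : ∀ j, j ∉ D → w j = 0) {g : GL (Pt k) F}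
    (hg : g ∈ Lev M D) : g * (sc (Pt k) c * pau F 0 w) = sc (Pt k) c * pau F 0 w * g := by
  rw [sc_pull, comm_sign h2 hg hw, mul_assoc]

theorem cen_normal (h2 : (2 : F) ≠ 0) : (Cen M D).Normal := ⟨by
  rintro x ⟨c, w, hw, hx⟩ g
  refine ⟨c, w, hw, ?_⟩
  rw [Subgroup.coe_mul, Subgroup.coe_mul, Subgroup.coe_inv, hx, cen_comm h2 hw g.2, mul_inv_cancel_right]⟩

theorem ex_off (a : ↥(fr D) → ZMod 2) :
    ∀ d ∈ D, ex (fr D) a d = 0 := fun d hd => ex_not_mem a fun h => (Finset.mem_sdiff.1 h).2 hd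

/-- A free element of a level. -/
noncomputable def El' (hM : BaseC i M) (v : Vec (fr D)) : Lev M D :=
  ⟨pau F (ex (fr D) v.1) (ex (fr D) v.2), pau_mem_Lev hM (ex_off v.1)⟩

theorem El'_val (hM : BaseC i M) (v : Vec (fr D)) :
    ((El' hM v : Lev M D) : GL (Pt k) F) = pau F (ex (fr D) v.1) (ex (fr D) v.2) := rfl

/-- The pairing of the free indices. -/
def bf (D : Finset (Fin k)) : LinearMap.BilinForm (ZMod 2) (Vec (fr D)) :=
  LinearMap.mk₂ (ZMod 2) (fun v w => v.2 ⬝ᵥ w.1 + w.2 ⬝ᵥ v.1)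
    (fun a b c => by simp only [Prod.fst_add, Prod.snd_add, add_dotProduct, dotProduct_add]; ring)
    (fun r a c => by simp only [Prod.smul_fst, Prod.smul_snd, smul_dotProduct, dotProduct_smul, smul_eq_mul]; ring)
    (fun a b c => by simp only [Prod.fst_add, Prod.snd_add, add_dotProduct, dotProduct_add]; ring)
    (fun r a c => by simp only [Prod.smul_fst, Prod.smul_snd, smul_dotProduct, dotProduct_smul, smul_eq_mul]; ring)

theorem bf_apply (v w : Vec (fr D)) : bf D v w = v.2 ⬝ᵥ w.1 + w.2 ⬝ᵥ v.1 := rfl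

theorem pr_ex {v w : Vec (fr D)} {z z' : Pt k} (hz : ∀ j, j ∉ D → z j = 0) (hz' : ∀ j, j ∉ D → z' j = 0) :
    pr (ex (fr D) v.1) (ex (fr D) v.2 + z) (ex (fr D) w.1) (ex (fr D) w.2 + z') = bf D v w := by
  have h : ∀ (a : ↥(fr D) → ZMod 2) (u : Pt k), (∀ j, j ∉ D → u j = 0) → ip u (ex (fr D) a) = 0 := fun a u hu =>
    ip_eq_zero fun j => by
      by_cases hj : j ∈ D
      · exact Or.inr (ex_off (a) j hj)
      · exact Or.inl (hu j hj)
  rw [pr, ip_add_left, ip_add_left, h _ _ hz, h _ _ hz', add_zero, add_zero, ip_ex, ip_ex, bf_apply]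

theorem val_ex {v : Vec (fr D)} (hv : v ≠ 0) {z : Pt k} (hz : ∀ j, j ∉ D → z j = 0) :
    Val D (ex (fr D) v.1) (ex (fr D) v.2 + z) := by
  refine ⟨ex_off (v.1), ?_⟩
  by_contra hno
  push Not at hno
  refine hv (Prod.ext (funext fun l => ?_) (funext fun l => ?_)) <;>
    refine (zm_cases _).resolve_right fun e => ?_
  · exact (hno l (Finset.mem_sdiff.1 l.2).2).1 (by rw [ex_mem _ l.2]; exact e)
  · exact (hno l (Finset.mem_sdiff.1 l.2).2).2 (by
      rw [Pi.add_apply, ex_mem _ l.2, hz l (Finset.mem_sdiff.1 l.2).2, add_zero]; exact e)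

/-- The scaled phase is a combination of one and the sign. -/
theorem phj_val (h2 : (2 : F) ≠ 0) (t : Fin k) :
    ((phj i t : GL (Pt k) F) : Matrix (Pt k) (Pt k) F) = ((1 + (i : F)) * (2 : F)⁻¹) • 1 +
      ((1 - (i : F)) * (2 : F)⁻¹) • ((pau F 0 (pe t) : GL (Pt k) F) : Matrix (Pt k) (Pt k) F) := by
  rw [pau_sd, smul_one_eq_diagonal, sd_apply, ← Matrix.diagonal_smul, Matrix.diagonal_add]
  show Matrix.diagonal _ = _
  congr 1
  funext x
  simp only [Pi.smul_apply, smul_eq_mul]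
  rcases zm_cases (ip (pe t) x) with h | h
  · rw [h, sgn_zero, ZMod.val_zero, pow_zero, Units.val_one]; field_simp; ring
  · rw [h, sgn_one, show (1 : ZMod 2).val = 1 from rfl, pow_one]; field_simp; ring

theorem phj_sq (hi : (i : F) * i = -1) (t : Fin k) : phj i t * phj i t = pau F 0 (pe t) := by
  rw [pau_sd]
  refine Units.ext ?_
  show Matrix.diagonal _ * Matrix.diagonal _ = Matrix.diagonal _
  rw [Matrix.diagonal_mul_diagonal]
  congr 1
  funext x
  rcases zm_cases (ip (pe t) x) with h | h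
  · simp [h]
  · simp [h, sgn_one, show (1 : ZMod 2).val = 1 from rfl, hi]

set_option maxHeartbeats 1000000 in
/-- One step. The last hypothesis handles a conjugate of the free elements inside their centraliser. -/
theorem step [Finite F] (h2 : (2 : F) ≠ 0) (hi : (i : F) * i = -1) (hM : BaseC i M) {t t' : Fin k}
    (ht : t ∉ D) (ht' : t' ∉ D) (htt : t ≠ t')
    (hup : ∀ g ∈ Lev M (insert t D), C6Cplx52.Nr i g)
    (hcent : ∀ g ∈ Lev M D, (∀ a b, (∀ d ∈ D, a d = 0) → C6Cplx52.Nr i (g * pau F a b * g⁻¹) ∧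
        ∀ c e, (∀ d ∈ D, c d = 0) → ∃ w, (∀ j, j ∉ D → w j = 0) ∧ CPi i (g * pau F a b * g⁻¹) c e c (e + w)) →
      ∃ a b a' b', Val D a b ∧ Val D a' b' ∧ CPi i g a b a' b') :
    ∀ g ∈ Lev M D, C6Cplx52.Nr i g := by
  classical
  haveI := cen_normal (M := M) (D := D) h2
  haveI : Finite (GL (Pt k) F) := Finite.of_injective _ Units.val_injective
  have hself : ∀ {g : GL (Pt k) F} {a b : Pt k} {z : Pt k}, g ∈ Lev M D → (∀ j, j ∉ D → z j = 0) →
      ∀ c : Fˣ, g * (sc (Pt k) c * pau F 0 z * pau F a b) * g⁻¹ = sc (Pt k) c * pau F 0 z * (g * pau F a b * g⁻¹) :=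
    fun hg hz c => by rw [← mul_assoc, cen_comm h2 hz hg]; group
  -- one sign moved to another
  have hkey : ∀ g ∈ Lev M D, ∀ a b a' b', Val D a b → Val D a' b' → CPi i g a b a' b' → C6Cplx52.Nr i g := by
    intro g hg a b a' b' hv hv' hc
    obtain ⟨n₀, hn₀, hnr₀, hc₀⟩ := reach hi hM ht hv
    obtain ⟨n₁, hn₁, hnr₁, hc₁⟩ := reach hi hM ht hv'
    set h := n₁ * g * n₀⁻¹ with hh
    have hhL : h ∈ Lev M D := mul_mem (mul_mem hn₁ hg) (inv_mem hn₀)
    obtain ⟨c, hcZ⟩ := ((hc₀.inv hi).comp hc).comp hc₁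
    rw [← mul_assoc, ← hh] at hcZ
    clear_value h
    have hback : ∀ x, C6Cplx52.Nr i (x * h) → C6Cplx52.Nr i x → C6Cplx52.Nr i g := fun x h1 h2' => by
      rw [show g = n₁⁻¹ * (x⁻¹ * (x * h)) * n₀ by rw [hh]; group]
      exact nr_mul (nr_mul (nr_inv hnr₁) (nr_mul (nr_inv h2') h1)) hnr₀
    have hsq : (i ^ c) * (i ^ c) = 1 := by
      have e : h * (pau F 0 (pe t) * pau F 0 (pe t)) * h⁻¹ = (h * pau F 0 (pe t) * h⁻¹) * (h * pau F 0 (pe t) * h⁻¹) := by
        group
      rw [pau_mul, show ip (pe t) (0 : Pt k) = 0 from dotProduct_zero _, sd_const_zero, one_mul, pt_add_self,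
        pt_add_self, pau_zero, mul_one, mul_inv_cancel, hcZ, mul_assoc, sc_pull, pau_mul,
        show ip (pe t) (0 : Pt k) = 0 from dotProduct_zero _, sd_const_zero, one_mul, pt_add_self, pt_add_self,
        pau_zero, mul_one, ← map_mul] at e
      exact ((pau_sc_inj h2 (a := 0) (b := 0) (a' := 0) (b' := 0) (congrArg (· * pau F 0 0)
        ((map_one (sc (Pt k))).trans e))).2.2).symm
    have hsq' : ((i ^ c : Fˣ) : F) = 1 ∨ ((i ^ c : Fˣ) : F) = -1 := mul_self_eq_one_iff.1 (by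
      rw [← Units.val_mul, hsq, Units.val_one])
    rcases hsq' with e | e
    · refine hback 1 ?_ nr_one
      rw [one_mul]
      refine hup h (mem_Lev'.2 ⟨(mem_Lev'.1 hhL).1, fun d hd => ?_⟩)
      rcases Finset.mem_insert.1 hd with rfl | hd
      · rw [← pau_sd, mul_inv_eq_iff_eq_mul.1 hcZ, show i ^ c = 1 from Units.ext e, map_one, one_mul]
      · exact (mem_Lev'.1 hhL).2 d hd
    · refine hback (pau F (pe t) 0) ?_ (nr_pau hi _ _)
      refine hup _ (mem_Lev'.2 ⟨M.mul_mem (hM.pau _ _) (mem_Lev'.1 hhL).1, fun d hd => ?_⟩)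
      rcases Finset.mem_insert.1 hd with rfl | hd
      · have hZ : h * pau F 0 (pe d) = sd F (fun _ => (1 : ZMod 2)) * (pau F 0 (pe d) * h) := by
          rw [mul_inv_eq_iff_eq_mul.1 hcZ, sd_const_sc hi, mul_assoc]
          congr 2
          exact Units.ext (e.trans (by
            rw [show (1 : ZMod 2).val = 1 from rfl, mul_one, Units.val_pow_eq_pow_val, pow_two, hi]))
        have hp : pau F (pe d) 0 * pau F 0 (pe d) =
            sd F (fun _ => (1 : ZMod 2)) * (pau F 0 (pe d) * pau F (pe d) 0) := by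
          rw [pau_comm]
          congr 2
          funext _
          rw [show ip (0 : Pt k) 0 = 0 from dotProduct_zero _, ip_pe, pe_self, zero_add]
        rw [← pau_sd]
        calc pau F (pe d) 0 * h * pau F 0 (pe d)
            = sd F (fun _ => (1 : ZMod 2)) * (pau F (pe d) 0 * pau F 0 (pe d)) * h := by
              rw [mul_assoc, hZ, ← mul_assoc (pau F (pe d) 0), ← sd_const_mul, mul_assoc, mul_assoc, mul_assoc]
          _ = pau F 0 (pe d) * (pau F (pe d) 0 * h) := by
              rw [hp, ← mul_assoc, ← sd_const_add, CharTwo.add_self_eq_zero, sd_const_zero, one_mul, mul_assoc]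
      · exact (mem_Lev'.1 (mul_mem (pau_mem_Lev hM (a := pe t) (b := 0)
          (fun d' hd' => pe_ne (fun e' : d' = t => ht (e' ▸ hd')))) hhL)).2 d hd
  -- the quotient
  let q := QuotientGroup.mk' (Cen M D)
  have hq : ∀ {x y : Lev M D}, q x = q y ↔ ∃ (c : Fˣ) (w : Pt k), (∀ j, j ∉ D → w j = 0) ∧
      (y : GL (Pt k) F) = sc (Pt k) c * pau F 0 w * (x : GL (Pt k) F) := by
    intro x y
    refine (QuotientGroup.eq (s := Cen M D)).trans ?_
    constructor
    · rintro ⟨c, w, hw, e⟩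
      refine ⟨c, w, hw, ?_⟩
      rw [← cen_comm h2 hw x.2, ← e]
      simp
    · rintro ⟨c, w, hw, e⟩
      refine ⟨c, w, hw, ?_⟩
      rw [Subgroup.coe_mul, Subgroup.coe_inv, e, ← cen_comm h2 hw x.2, inv_mul_cancel_left]
  have hconj : ∀ (g : Lev M D) (v w : Vec (fr D)), q g * q (El' hM v) * (q g)⁻¹ = q (El' hM w) →
      ∃ z, (∀ j, j ∉ D → z j = 0) ∧ CPi i (g : GL (Pt k) F) (ex (fr D) v.1) (ex (fr D) v.2)
        (ex (fr D) w.1) (ex (fr D) w.2 + z) := by
    intro g v w h
    rw [← map_mul, ← map_inv, ← map_mul, eq_comm, hq] at h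
    obtain ⟨c, z, hz, e⟩ := h
    refine ⟨z, hz, cp_of_sc h2 hi (c := c) ?_⟩
    rw [Subgroup.coe_mul, Subgroup.coe_mul, Subgroup.coe_inv, El'_val, El'_val] at e
    rw [e, mul_assoc, pau_mul, zero_add, ip_eq_zero fun j => by
      by_cases hj : j ∈ D
      · exact Or.inr (ex_off (w.1) j hj)
      · exact Or.inl (hz j hj), sd_const_zero, one_mul, add_comm z]
  have hconj' : ∀ (g : Lev M D) (v w : Vec (fr D)) (z : Pt k), (∀ j, j ∉ D → z j = 0) →
      CPi i (g : GL (Pt k) F) (ex (fr D) v.1) (ex (fr D) v.2) (ex (fr D) w.1) (ex (fr D) w.2 + z) →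
      q g * q (El' hM v) * (q g)⁻¹ = q (El' hM w) := by
    rintro g v w z hz ⟨c, hc⟩
    rw [← map_mul, ← map_inv, ← map_mul, eq_comm, hq]
    refine ⟨i ^ c, z, hz, ?_⟩
    rw [Subgroup.coe_mul, Subgroup.coe_mul, Subgroup.coe_inv, El'_val, hc, El'_val, mul_assoc, pau_mul, zero_add,
      ip_eq_zero fun j => by
        by_cases hj : j ∈ D
        · exact Or.inr (ex_off (w.1) j hj)
        · exact Or.inl (hz j hj), sd_const_zero, one_mul, add_comm z]
  have hadd : ∀ v w, q (El' hM (v + w)) = q (El' hM v) * q (El' hM w) := by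
    intro v w
    rw [← map_mul, hq]
    refine ⟨i ^ (2 * (ip (ex (fr D) v.2) (ex (fr D) w.1)).val), 0, fun _ _ => rfl, ?_⟩
    rw [Subgroup.coe_mul, El'_val, El'_val, El'_val, pau_mul, sd_const_sc hi, pau_zero, mul_one, Prod.fst_add,
      Prod.snd_add, map_add, map_add]
  have hinj : Function.Injective fun v => q (El' hM v) := by
    intro v w h
    obtain ⟨c, z, hz, e⟩ := hq.1 h
    rw [El'_val, El'_val, mul_assoc, pau_mul, zero_add, ip_eq_zero fun j => by
        by_cases hj : j ∈ D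
        · exact Or.inr (ex_off (v.1) j hj)
        · exact Or.inl (hz j hj), sd_const_zero, one_mul] at e
    obtain ⟨e1, e2, -⟩ := pau_sc_inj h2 (c := 1) (c' := c) (by rw [map_one, one_mul]; exact e)
    refine Prod.ext (ex_inj e1.symm) (funext fun l => ?_)
    have := congrFun e2 l
    rw [ex_mem _ l.2, Pi.add_apply, ex_mem _ l.2, hz l (Finset.mem_sdiff.1 l.2).2, zero_add] at this
    exact this.symm
  let N : Subgroup (Lev M D ⧸ Cen M D) := Subgroup.map q
    { carrier := {x | C6Cplx52.Nr i (x : GL (Pt k) F)}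
      one_mem' := nr_one
      mul_mem' := fun hx hy => nr_mul hx hy
      inv_mem' := fun hx => nr_inv hx }
  have hN : ∀ x : Lev M D, q x ∈ N ↔ C6Cplx52.Nr i (x : GL (Pt k) F) := by
    intro x
    refine ⟨?_, fun h => ⟨x, h, rfl⟩⟩
    rintro ⟨y, hy, e⟩
    obtain ⟨c, w, -, e'⟩ := hq.1 e
    rw [e']
    exact nr_mul (nr_mul (nr_sc c) (nr_pau hi 0 w)) hy
  have hsurj : ∀ g : Lev M D ⧸ Cen M D, ∃ x, g = q x := fun g => by
    obtain ⟨x, rfl⟩ := QuotientGroup.mk'_surjective (Cen M D) g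
    exact ⟨x, rfl⟩
  have hnor : ∀ n ∈ N, ∀ v, ∃ w, n * q (El' hM v) * n⁻¹ = q (El' hM w) := by
    intro n hn v
    obtain ⟨x, rfl⟩ := hsurj n
    obtain ⟨a', b', h⟩ := nr_iff.1 ((hN x).1 hn) (ex (fr D) v.1) (ex (fr D) v.2)
    have ha : ∀ d ∈ D, a' d = 0 := by
      intro d hd
      have h' : CPi i (x : GL (Pt k) F) 0 (pe d) 0 (pe d) := ⟨0, by
        rw [pau_sd, (mem_Lev'.1 x.2).2 d hd, mul_inv_cancel_right, pow_zero, map_one, one_mul]⟩
      have e := h.comm h2 hi h'
      rwa [pr, pr, show ip b' (0 : Pt k) = 0 from dotProduct_zero _, zero_add, ip_pe,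
        show ip (ex (fr D) v.2) (0 : Pt k) = 0 from dotProduct_zero _, zero_add, ip_pe,
        ex_off (v.1) d hd] at e
    refine ⟨(fun l => a' l, fun l => b' l), hconj' x v _ (b' + ex (fr D) fun l => b' l) (fun j hj => ?_) ?_⟩
    · rw [Pi.add_apply, ex_mem _ (Finset.mem_sdiff.2 ⟨Finset.mem_univ j, hj⟩), CharTwo.add_self_eq_zero]
    · have e1 : ex (fr D) (fun l => a' l) = a' := funext fun j => by
        by_cases hj : j ∈ D
        · rw [ex_off (fun l => a' l) j hj, ha j hj]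
        · exact ex_mem _ (Finset.mem_sdiff.2 ⟨Finset.mem_univ j, hj⟩)
      rw [e1, add_comm b', ← add_assoc, pt_add_self, zero_add]
      exact h
  have hisob : ∀ n ∈ N, ∀ v v' w w', n * q (El' hM v) * n⁻¹ = q (El' hM v') →
      n * q (El' hM w) * n⁻¹ = q (El' hM w') → bf D v' w' = bf D v w := by
    intro n hn v v' w w' h h'
    obtain ⟨x, rfl⟩ := hsurj n
    obtain ⟨z, hz, c1⟩ := hconj x v v' h
    obtain ⟨z', hz', c2⟩ := hconj x w w' h'
    have e := c1.comm h2 hi c2
    rw [pr_ex hz hz'] at e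
    rw [e]
    simpa using pr_ex (v := v) (w := w) (z := (0 : Pt k)) (z' := 0) (fun _ _ => rfl) fun _ _ => rfl
  let S : Sys (Lev M D ⧸ Cen M D) (Vec (fr D)) :=
    { N := N
      E := fun v => q (El' hM v)
      E_add := hadd
      E_inj := hinj
      E_mem := fun v => (hN _).2 (nr_pau hi _ _)
      nor := hnor
      β := bf D
      β_symm := fun v w => by rw [bf_apply, bf_apply, add_comm]
      β_nd := fun v hv => Prod.ext
        (funext fun l => by simpa [bf_apply] using hv (0, Pi.single l 1))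
        (funext fun l => by simpa [bf_apply] using hv (Pi.single l 1, 0))
      iso := hisob
      good := fun v hv g hg => by
        obtain ⟨x, rfl⟩ := hsurj g
        obtain ⟨z, hz, c⟩ := hconj x v v (mul_inv_eq_iff_eq_mul.2 hg)
        exact (hN x).2 (hkey _ x.2 _ _ _ _ (by simpa using val_ex hv (z := 0) fun _ _ => rfl) (val_ex hv hz) c)
      fus := fun v hv g w hg => by
        obtain ⟨x, rfl⟩ := hsurj g
        obtain ⟨z, hz, c⟩ := hconj x v w hg
        have hw : w ≠ 0 := fun h0 => by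
          rw [h0, mul_inv_eq_iff_eq_mul] at hg
          have h1 : q (El' hM (0 : Vec (fr D))) = 1 := by
            have h := hadd 0 0
            rw [add_zero] at h
            exact mul_eq_left.1 h.symm
          rw [h1, one_mul, mul_eq_left] at hg
          exact hv (hinj (hg.trans h1.symm))
        exact (hN x).2 (hkey _ x.2 _ _ _ _ (by simpa using val_ex hv (z := 0) fun _ _ => rfl) (val_ex hw hz) c)
      cent := fun g hg => by
        obtain ⟨x, rfl⟩ := hsurj g
        obtain ⟨a, b, a', b', hv, hv', c, hc⟩ := hcent _ x.2 fun a b ha => by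
          set v : Vec (fr D) := (fun l => a l, fun l => b l) with hvd
          have e1 : ex (fr D) v.1 = a := funext fun j => by
            by_cases hj : j ∈ D
            · rw [ex_off (v.1) j hj, ha j hj]
            · exact ex_mem _ (Finset.mem_sdiff.2 ⟨Finset.mem_univ j, hj⟩)
          obtain ⟨hgN, hgc⟩ := hg v
          set z := b + ex (fr D) v.2 with hzd
          have hz : ∀ j, j ∉ D → z j = 0 := fun j hj => by
            rw [hzd, Pi.add_apply, ex_mem _ (Finset.mem_sdiff.2 ⟨Finset.mem_univ j, hj⟩), CharTwo.add_self_eq_zero]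
          have ey : (x : GL (Pt k) F) * pau F a b * (x : GL (Pt k) F)⁻¹ =
              pau F 0 z * ((x : GL (Pt k) F) * pau F (ex (fr D) v.1) (ex (fr D) v.2) * (x : GL (Pt k) F)⁻¹) := by
            have h := hself (a := ex (fr D) v.1) (b := ex (fr D) v.2) x.2 hz 1
            rw [map_one, one_mul] at h
            rw [← h, pau_mul, zero_add, e1, ip_eq_zero fun j => by
              by_cases hj : j ∈ D
              · exact Or.inr (ha j hj)
              · exact Or.inl (hz j hj), sd_const_zero, one_mul, hzd, add_assoc, pt_add_self, add_zero]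
          have hy : C6Cplx52.Nr i ((x : GL (Pt k) F) * pau F a b * (x : GL (Pt k) F)⁻¹) := by
            rw [ey]
            refine nr_mul (nr_pau hi _ _) ?_
            rw [← map_mul, ← map_inv, ← map_mul, hN] at hgN
            exact hgN
          refine ⟨hy, fun c e hc => ?_⟩
          set w : Vec (fr D) := (fun l => c l, fun l => e l) with hwd
          have e2 : ex (fr D) w.1 = c := funext fun j => by
            by_cases hj : j ∈ D
            · rw [ex_off (w.1) j hj, hc j hj]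
            · exact ex_mem _ (Finset.mem_sdiff.2 ⟨Finset.mem_univ j, hj⟩)
          set u := e + ex (fr D) w.2 with hud
          have hu : ∀ j, j ∉ D → u j = 0 := fun j hj => by
            rw [hud, Pi.add_apply, ex_mem _ (Finset.mem_sdiff.2 ⟨Finset.mem_univ j, hj⟩), CharTwo.add_self_eq_zero]
          have hw := hgc w
          rw [← map_mul, ← map_inv, ← map_mul] at hw
          obtain ⟨w₀, hw₀, n, hn⟩ := hconj _ w w (mul_inv_eq_iff_eq_mul.2 hw)
          rw [Subgroup.coe_mul, Subgroup.coe_mul, Subgroup.coe_inv, El'_val] at hn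
          refine ⟨w₀, hw₀, n, ?_⟩
          have hyL : ((x : GL (Pt k) F) * pau F a b * (x : GL (Pt k) F)⁻¹) ∈ Lev M D :=
            mul_mem (mul_mem x.2 (pau_mem_Lev hM ha)) (inv_mem x.2)
          have ee : pau F c e = pau F 0 u * pau F (ex (fr D) w.1) (ex (fr D) w.2) := by
            rw [pau_mul, zero_add, e2, ip_eq_zero fun j => by
              by_cases hj : j ∈ D
              · exact Or.inr (hc j hj)
              · exact Or.inl (hu j hj), sd_const_zero, one_mul, hud, add_assoc, pt_add_self, add_zero]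
          have ee' : pau F c (e + w₀) = pau F 0 u * pau F (ex (fr D) w.1) (ex (fr D) w.2 + w₀) := by
            rw [pau_mul, zero_add, e2, ip_eq_zero fun j => by
              by_cases hj : j ∈ D
              · exact Or.inr (hc j hj)
              · exact Or.inl (hu j hj), sd_const_zero, one_mul, hud, ← add_assoc, add_assoc e, pt_add_self, add_zero]
          have hcomm := comm_sign h2 (mul_mem (pau_mem_Lev hM (a := 0) (b := z) fun _ _ => rfl)
            (mul_mem (mul_mem x.2 (El' hM v).2) (inv_mem x.2))) hu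
          rw [El'_val] at hcomm
          have hz' := comm_sign h2 (pau_mem_Lev hM (D := D) (M := M) (a := ex (fr D) w.1) (b := ex (fr D) w.2 + w₀)
            (ex_off w.1)) hz
          rw [ey, ee, ee']
          generalize (x : GL (Pt k) F) * pau F (ex (fr D) v.1) (ex (fr D) v.2) * (x : GL (Pt k) F)⁻¹ = Y at hn hcomm ⊢
          generalize pau F (ex (fr D) w.1) (ex (fr D) w.2) = W at hn ⊢
          generalize pau F (ex (fr D) w.1) (ex (fr D) w.2 + w₀) = W' at hn hz' ⊢
          calc pau F 0 z * Y * (pau F 0 u * W) * (pau F 0 z * Y)⁻¹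
              = (pau F 0 z * Y * pau F 0 u) * W * (Y⁻¹ * (pau F 0 z)⁻¹) := by group
            _ = pau F 0 u * (pau F 0 z * (Y * W * Y⁻¹) * (pau F 0 z)⁻¹) := by rw [hcomm]; group
            _ = _ := by rw [hn, sc_pull, mul_assoc (sc (Pt k) (i ^ n)), ← hz', mul_inv_cancel_right, sc_pull]
        obtain ⟨v', hv'0⟩ : ∃ v : Vec (fr D), v ≠ 0 :=
          ⟨(0, Pi.single ⟨t, Finset.mem_sdiff.2 ⟨Finset.mem_univ t, ht⟩⟩ 1), fun h => by
            simpa using congrFun (congrArg Prod.snd h) ⟨t, Finset.mem_sdiff.2 ⟨Finset.mem_univ t, ht⟩⟩⟩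
        obtain ⟨w, hw⟩ := hnor _ ((hN x).2 (hkey _ x.2 _ _ _ _ hv hv' ⟨c, hc⟩)) v'
        exact ⟨v', w, hv'0, hw⟩ }
  have hdim : 4 ≤ Module.finrank (ZMod 2) (Vec (fr D)) := by
    rw [Module.finrank_prod, Module.finrank_fintype_fun_eq_card, Fintype.card_coe]
    have : ({t, t'} : Finset (Fin k)) ⊆ fr D := by simp [Finset.insert_subset_iff, ht, ht']
    have := Finset.card_le_card this
    rw [Finset.card_pair htt] at this
    omega
  have hEsq := S.E_sq
  let lam : Vec (fr D) := (0, Pi.single ⟨t, Finset.mem_sdiff.2 ⟨Finset.mem_univ t, ht⟩⟩ 1)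
  let cc : Vec (fr D) := (0, Pi.single ⟨t', Finset.mem_sdiff.2 ⟨Finset.mem_univ t', ht'⟩⟩ 1)
  have hlam : (ex (fr D) lam.1, ex (fr D) lam.2) = ((0 : Pt k), pe t) :=
    Prod.ext (map_zero _) (ex_single (Finset.mem_sdiff.2 ⟨Finset.mem_univ t, ht⟩))
  have hl1 : ex (fr D) lam.1 = 0 := congrArg Prod.fst hlam
  have hl2 : ex (fr D) lam.2 = pe t := congrArg Prod.snd hlam
  set U : Lev M D := ⟨phj i t, phj_mem_Lev hM t⟩
  have hUE : q U * q U = q (El' hM lam) := by
    rw [← map_mul]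
    congr 1
    exact Subtype.ext (by rw [Subgroup.coe_mul, El'_val, hl1, hl2]; exact phj_sq hi t)
  have hUact : ∀ w, q U * q (El' hM w) * (q U)⁻¹ = q (El' hM (w + bf D lam w • lam)) := by
    intro w
    refine hconj' U w _ 0 (fun _ _ => rfl) ?_
    rw [add_zero, Prod.fst_add, Prod.snd_add, Prod.smul_fst, Prod.smul_snd, map_add, map_add, map_smul, map_smul,
      hl1, hl2, smul_zero, add_zero]
    have e : bf D lam w = ex (fr D) w.1 t := by
      rw [bf_apply, show lam.1 = 0 from rfl, dotProduct_zero, add_zero, ex_mem _ (Finset.mem_sdiff.2 ⟨Finset.mem_univ t, ht⟩)]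
      simp [lam]
    rw [e]
    exact cp_phj hi t _ _
  -- square roots
  have hE0 : q (El' hM (0 : Vec (fr D))) = 1 := S.E_zero
  have hmove : ∀ v : Vec (fr D), v ≠ 0 → ∃ n : Lev M D, C6Cplx52.Nr i (n : GL (Pt k) F) ∧
      q n * q (El' hM lam) * (q n)⁻¹ = q (El' hM v) := by
    intro v hv
    obtain ⟨n, hn, hnr, c⟩ := reach hi hM ht (a := ex (fr D) v.1) (b := ex (fr D) v.2)
      (by simpa using val_ex hv (z := 0) fun _ _ => rfl)
    refine ⟨⟨n, hn⟩⁻¹, nr_inv hnr, hconj' _ _ _ 0 (fun _ _ => rfl) ?_⟩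
    rw [hl1, hl2, add_zero]
    exact c.inv hi
  have hroot : ∀ x ∈ S.N, x * x = 1 → ∀ e₁ e₂ a₁ a₂, a₁ ≠ 0 → a₂ ≠ 0 → a₁ ≠ a₂ →
      x * S.E e₁ * x⁻¹ = S.E (e₁ + a₁) → x * S.E e₂ * x⁻¹ = S.E (e₂ + a₂) →
      ∃ a u, a ≠ 0 ∧ x * S.E a * x⁻¹ = S.E a ∧ u ∈ S.N ∧ u * u = S.E a ∧ u * x = x * u ∧
        ∀ w, u * S.E w * u⁻¹ = S.E (w + S.β a w • a) := by
    intro x hx hxx e₁ e₂ a₁ a₂ ha₁ ha₂ ha12 he₁ he₂
    -- one with vanishing pairing
    have hiso := S.iso x hx
    have hfix : ∀ {e a}, x * S.E e * x⁻¹ = S.E (e + a) → x * S.E a * x⁻¹ = S.E a := by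
      intro e a h
      have h1 : x * S.E (e + a) * x⁻¹ = S.E e := by
        rw [← h, show x * (x * S.E e * x⁻¹) * x⁻¹ = (x * x) * S.E e * (x * x)⁻¹ by group, hxx, one_mul, inv_one,
          mul_one]
      rw [show a = e + (e + a) by rw [← add_assoc, vadd_self, zero_add], S.E_add, ← conj_mul, h, h1,
        ← S.E_add, ← S.E_add]
      congr 1
      rw [add_comm]
    obtain ⟨e, a, ha, hea, he⟩ : ∃ e a, a ≠ 0 ∧ x * S.E e * x⁻¹ = S.E (e + a) ∧ S.β e a = 0 := by
      by_cases h1 : S.β e₁ a₁ = 0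
      · exact ⟨e₁, a₁, ha₁, he₁, h1⟩
      by_cases h2' : S.β e₂ a₂ = 0
      · exact ⟨e₂, a₂, ha₂, he₂, h2'⟩
      refine ⟨e₁ + e₂, a₁ + a₂, fun h => ha12 (eq_of_vadd h), ?_, ?_⟩
      · rw [S.E_add, ← conj_mul, he₁, he₂, ← S.E_add]
        congr 1
        abel
      · have i12 := hiso e₁ (e₁ + a₁) e₂ (e₂ + a₂) he₁ he₂
        have i' := hiso e₁ (e₁ + a₁) a₂ a₂ he₁ (hfix he₂)
        simp only [map_add, LinearMap.add_apply] at i12 i' ⊢
        rw [(bit _).resolve_left h1, (bit _).resolve_left h2']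
        have s1 := S.β_symm a₁ e₂
        grind
    obtain ⟨x, rfl⟩ := hsurj x
    obtain ⟨n, hnr, hn⟩ := hmove a ha
    refine ⟨a, q n * q U * (q n)⁻¹, ha, hfix hea, ?_, ?_, ?_, ?_⟩
    · rw [← map_inv, ← map_mul, ← map_mul]
      exact (hN _).2 (nr_mul (nr_mul hnr (nr_phj hi t)) (nr_inv hnr))
    · rw [conj_mul, hUE]; exact hn
    · -- the conjugate sign is fixed exactly
      obtain ⟨z, hz, c1⟩ := hconj x e (e + a) hea
      obtain ⟨z', hz', c3⟩ := hconj x a a (hfix hea)
      obtain ⟨zn, hzn, cn⟩ := hconj n lam a hn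
      rw [hl1, hl2] at cn
      -- signs of the squares
      obtain ⟨m1, hm1⟩ := c1
      obtain ⟨m3, hm3⟩ := c3
      have hxxC : x * x ∈ Cen M D := (QuotientGroup.eq_one_iff (N := Cen M D) _).1 (by
        show q (x * x) = 1
        rw [map_mul]; exact hxx)
      obtain ⟨cx, wx, hwx, hcx⟩ := hxxC
      set xx := (x : GL (Pt k) F)
      have hxxc : ∀ g ∈ Lev M D, xx * xx * g = g * (xx * xx) := fun g hg => by
        rw [show xx * xx = sc (Pt k) cx * pau F 0 wx from hcx, cen_comm h2 hwx hg]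
      set Pe := pau F (ex (fr D) e.1) (ex (fr D) e.2)
      have hPe : Pe ∈ Lev M D := (El' hM e).2
      have hA : xx * (xx * Pe * xx⁻¹ * Pe⁻¹) * xx⁻¹ = (xx * Pe * xx⁻¹ * Pe⁻¹)⁻¹ := by
        calc xx * (xx * Pe * xx⁻¹ * Pe⁻¹) * xx⁻¹ = (xx * xx * Pe) * (xx * xx)⁻¹ * (xx * Pe⁻¹ * xx⁻¹) := by group
          _ = _ := by rw [hxxc Pe hPe]; group
      have hAsq : (xx * Pe * xx⁻¹ * Pe⁻¹) * (xx * Pe * xx⁻¹ * Pe⁻¹) = 1 := by
        have hP2 : (xx * Pe * xx⁻¹) * (xx * Pe * xx⁻¹) = Pe * Pe := by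
          rw [conj_mul, show Pe * Pe = sd F (fun _ => ip (ex (fr D) e.2) (ex (fr D) e.1)) by
            rw [show Pe = pau F (ex (fr D) e.1) (ex (fr D) e.2) from rfl, pau_mul, pt_add_self, pt_add_self, pau_zero,
              mul_one], conj_sd_const]
        have hcom : Pe * (xx * Pe * xx⁻¹) = (xx * Pe * xx⁻¹) * Pe := by
          rw [hm1, sc_pull, mul_assoc (sc (Pt k) (i ^ m1)),
            show Pe = pau F (ex (fr D) e.1) (ex (fr D) e.2) from rfl, pau_comm]
          have h0 := pr_ex (v := e) (w := e + a) (z := (0 : Pt k)) (z' := z) (fun _ _ => rfl) hz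
          rw [add_zero, pr, map_add (bf D e), bf_apply e e, CharTwo.add_self_eq_zero, zero_add] at h0
          rw [h0, show bf D e a = 0 from he, sd_const_zero, one_mul]
        have hcom' : Pe⁻¹ * (xx * Pe * xx⁻¹) = (xx * Pe * xx⁻¹) * Pe⁻¹ := by
          rw [inv_mul_eq_iff_eq_mul, ← mul_assoc, hcom, mul_inv_cancel_right]
        generalize xx * Pe * xx⁻¹ = Y at hP2 hcom' ⊢
        rw [mul_assoc, ← mul_assoc Pe⁻¹, hcom', ← mul_assoc, ← mul_assoc, hP2]
        group
      set A := xx * Pe * xx⁻¹ * Pe⁻¹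
      have hxA : xx * A = A * xx := by
        rw [← mul_inv_eq_iff_eq_mul, hA]
        exact inv_eq_of_mul_eq_one_right hAsq
      -- the conjugate sign is the same up to the centre
      obtain ⟨mn, hmn⟩ := cn
      set Y := (n : GL (Pt k) F) * pau F 0 (pe t) * (n : GL (Pt k) F)⁻¹
      obtain ⟨cY, wY, hwY, eY⟩ : ∃ (c : Fˣ) (w : Pt k), (∀ j, j ∉ D → w j = 0) ∧ Y = sc (Pt k) c * pau F 0 w * A := by
        set AL : Lev M D := x * El' hM e * x⁻¹ * (El' hM e)⁻¹
        set YL : Lev M D := n * El' hM lam * n⁻¹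
        have hAY : q AL = q YL := by
          rw [map_mul, map_mul, map_mul, map_mul, map_mul, map_inv, map_inv, map_inv]
          refine Eq.trans ?_ hn.symm
          show q x * S.E e * (q x)⁻¹ * (S.E e)⁻¹ = S.E a
          rw [hea, show (S.E e)⁻¹ = S.E e from inv_of_sq (hEsq e), ← S.E_add, add_comm e a, add_assoc, vadd_self,
            add_zero]
        obtain ⟨c, w, hw, e'⟩ := hq.1 hAY
        refine ⟨c, w, hw, ?_⟩
        have eYL : (YL : GL (Pt k) F) = Y := by
          show (n : GL (Pt k) F) * pau F (ex (fr D) lam.1) (ex (fr D) lam.2) * (n : GL (Pt k) F)⁻¹ = Y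
          rw [hl1, hl2]
        rw [← eYL, e']
        rfl
      have hxY : xx * Y = Y * xx := by
        rw [eY]
        calc xx * (sc (Pt k) cY * pau F 0 wY * A) = (xx * (sc (Pt k) cY * pau F 0 wY)) * A := (mul_assoc _ _ _).symm
          _ = sc (Pt k) cY * pau F 0 wY * (xx * A) := by rw [cen_comm h2 hwY x.2, mul_assoc]
          _ = _ := by rw [hxA, ← mul_assoc]
      rw [← map_inv, ← map_mul, ← map_mul, ← map_mul, ← map_mul]
      congr 1
      refine Subtype.ext (Units.ext ?_)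
      simp only [Subgroup.coe_mul, Subgroup.coe_inv, Units.val_mul]
      show (n : GL (Pt k) F).val * (phj i t).val * ((n : GL (Pt k) F)⁻¹).val * xx.val = xx.val *
        ((n : GL (Pt k) F).val * (phj i t).val * ((n : GL (Pt k) F)⁻¹).val)
      rw [phj_val h2]
      simp only [mul_add, add_mul, mul_smul_comm, smul_mul_assoc, mul_one, Units.mul_inv, one_mul]
      congr 2
      have := congrArg Units.val hxY
      simp only [Y, Units.val_mul] at this
      exact this.symm
    · intro w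
      obtain ⟨w', hw'⟩ := hnor _ (S.N.inv_mem ((hN n).2 hnr)) w
      rw [inv_inv] at hw'
      have hw : q n * q (El' hM w') * (q n)⁻¹ = q (El' hM w) := by rw [← hw']; group
      calc q n * q U * (q n)⁻¹ * q (El' hM w) * (q n * q U * (q n)⁻¹)⁻¹
          = q n * (q U * q (El' hM w') * (q U)⁻¹) * (q n)⁻¹ := by rw [← hw]; group
        _ = q n * (q (El' hM w') * q (El' hM (bf D lam w' • lam))) * (q n)⁻¹ := by rw [hUact, hadd]
        _ = _ := by
          rw [← conj_mul, hw]
          show _ = q (El' hM (w + bf D a w • a))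
          rw [hadd, show bf D a w = bf D lam w' from hisob _ ((hN n).2 hnr) lam a w' w hn hw]
          refine congrArg (q (El' hM w) * ·) ?_
          rcases bit (bf D lam w') with h | h <;> rw [h]
          · rw [zero_smul, zero_smul, show q (El' hM (0 : Vec (fr D))) = 1 from hE0, mul_one, mul_inv_cancel]
          · rw [one_smul, one_smul, hn]
  set s := q U * q (El' hM ((Pi.single ⟨t, Finset.mem_sdiff.2 ⟨Finset.mem_univ t, ht⟩⟩ 1, 0) : Vec (fr D))) with hsd
  have hsN : s ∈ S.N := S.N.mul_mem ((hN U).2 (nr_phj hi t)) (S.E_mem _)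
  have hst : ∀ w, s * S.E w * s⁻¹ = S.E (w + S.β lam w • lam) := fun w => by
    show q U * S.E _ * S.E w * (q U * S.E _)⁻¹ = _
    rw [_root_.mul_inv_rev, mul_assoc (q U), ← mul_assoc, mul_assoc (q U), S.E_comm, mul_inv_cancel_right]
    exact hUact w
  have hss : s * s = 1 := by
    set v : Vec (fr D) := (Pi.single ⟨t, Finset.mem_sdiff.2 ⟨Finset.mem_univ t, ht⟩⟩ 1, 0)
    have h1 : q U * S.E v * (q U)⁻¹ = S.E (v + S.β lam v • lam) := hUact v
    have h2' : S.β lam v = 1 := by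
      show bf D lam v = 1
      simp [bf_apply, lam, v]
    rw [h2', one_smul, S.E_add] at h1
    show q U * S.E v * (q U * S.E v) = 1
    rw [show q U * S.E v * (q U * S.E v) = (q U * S.E v * (q U)⁻¹) * (q U * q U) * S.E v by group, h1, hUE]
    show S.E v * S.E lam * S.E lam * S.E v = 1
    rw [mul_assoc (S.E v), hEsq, mul_one, hEsq]
  intro g hg
  have hll : S.β lam lam = 0 := by show bf D lam lam = 0; simp [bf_apply, lam]
  have hlc : S.β lam cc = 0 := by show bf D lam cc = 0; simp [bf_apply, lam, cc]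
  exact (hN ⟨g, hg⟩).1 (S.root_all hdim hroot hsN hss (lam := lam) (c := cc)
    (fun h => by simpa [lam] using congrFun (congrArg Prod.snd h) ⟨t, Finset.mem_sdiff.2 ⟨Finset.mem_univ t, ht⟩⟩)
    (fun h => by simpa [cc] using congrFun (congrArg Prod.snd h) ⟨t', Finset.mem_sdiff.2 ⟨Finset.mem_univ t', ht'⟩⟩)
    (fun h => by
      have := congrFun (congrArg Prod.snd h) ⟨t, Finset.mem_sdiff.2 ⟨Finset.mem_univ t, ht⟩⟩
      simp [cc, lam, Subtype.ext_iff, htt] at this)
    hll hlc hst (q ⟨g, hg⟩))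

end Cfsg.Agent.C6Cplx84
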