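import Cfsg.Agent.Lib.OrthUnitarySix
import Cfsg.Agent.Lib.Frame10Base

/-!
The Klein correspondence in coordinates with a sum of six squares.
-/

set_option autoImplicit false
set_option linter.unusedSectionVars false

namespace Cfsg.Agent.C6Klein75

open Cfsg.Agent.OrthUnitaryKlein
open Cfsg.Agent.OrthUnitarySix (swap6)
open scoped Matrix MatrixGroups

variable {F : Type*} [Field F]

/-- The bilinear form of the Pfaffian. -/
def B (u v : Fin 3 ⊕ Fin 3 → F) : F := u ⬝ᵥ swap6 v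

theorem swap6_swap6 (u : Fin 3 ⊕ Fin 3 → F) : swap6 (swap6 u) = u := by
  funext i; rcases i with i | i <;> rfl

theorem toAlt_inj {u v : Fin 3 ⊕ Fin 3 → F} (h : toAlt u = toAlt v) : u = v := by
  rw [← ofAlt_toAlt u, h, ofAlt_toAlt]

theorem B_comm (u v : Fin 3 ⊕ Fin 3 → F) : B u v = B v u := by
  simp [B, swap6, dotProduct, Fintype.sum_sum_type, Fin.sum_univ_three]
  ring

theorem B_self (u : Fin 3 ⊕ Fin 3 → F) : B u u = 2 * Cfsg.quadFormPlus 3 F u := by
  simp [B, swap6, dotProduct, Cfsg.quadFormPlus, Fintype.sum_sum_type, Fin.sum_univ_three]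
  ring

theorem B_swap (u v : Fin 3 ⊕ Fin 3 → F) : B (swap6 u) (swap6 v) = B u v := by
  simp [B, swap6, dotProduct, Fintype.sum_sum_type, Fin.sum_univ_three]
  ring

/-- The basic identity. -/
theorem toAlt_dual (u v : Fin 3 ⊕ Fin 3 → F) :
    toAlt u * toAlt (swap6 v) + toAlt v * toAlt (swap6 u) = (-B u v) • (1 : Matrix (Fin 4) (Fin 4) F) := by
  ext i j
  fin_cases i <;> fin_cases j <;>
    simp [toAlt, swap6, B, dotProduct, Matrix.mul_apply, Fin.sum_univ_four, Fintype.sum_sum_type,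
      Fin.sum_univ_three] <;> ring

theorem toAlt_sq (u : Fin 3 ⊕ Fin 3 → F) :
    toAlt u * toAlt (swap6 u) = (-Cfsg.quadFormPlus 3 F u) • (1 : Matrix (Fin 4) (Fin 4) F) := by
  ext i j
  fin_cases i <;> fin_cases j <;>
    simp [toAlt, swap6, Cfsg.quadFormPlus, Matrix.mul_apply, Fin.sum_univ_four, Fin.sum_univ_three] <;> ring

theorem toAlt_sq' (u : Fin 3 ⊕ Fin 3 → F) :
    toAlt (swap6 u) * toAlt u = (-Cfsg.quadFormPlus 3 F u) • (1 : Matrix (Fin 4) (Fin 4) F) := by
  ext i j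
  fin_cases i <;> fin_cases j <;>
    simp [toAlt, swap6, Cfsg.quadFormPlus, Matrix.mul_apply, Fin.sum_univ_four, Fin.sum_univ_three] <;> ring

theorem toAlt_det (u : Fin 3 ⊕ Fin 3 → F) : (toAlt u).det = Cfsg.quadFormPlus 3 F u * Cfsg.quadFormPlus 3 F u := by
  rw [Matrix.det_succ_row_zero]
  simp [toAlt, Cfsg.quadFormPlus, Fin.sum_univ_four, Fin.sum_univ_three, Matrix.det_fin_three, Fin.succAbove]
  ring

theorem toAlt_transpose (u : Fin 3 ⊕ Fin 3 → F) : (toAlt u)ᵀ = -toAlt u := by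
  ext i j
  fin_cases i <;> fin_cases j <;> simp [toAlt]

/-- The sandwich identity. -/
theorem toAlt_sandwich (u w : Fin 3 ⊕ Fin 3 → F) :
    toAlt u * toAlt (swap6 w) * toAlt u = toAlt (Cfsg.quadFormPlus 3 F u • w - B u w • u) := by
  rw [eq_sub_of_add_eq (toAlt_dual u w), sub_mul, mul_assoc, toAlt_sq', map_sub, map_smul, map_smul,
    Matrix.smul_mul, one_mul, Matrix.mul_smul, mul_one]
  module

/-- The action of a product of two alternating matrices. -/
theorem pair_conj (c : F) (u w v : Fin 3 ⊕ Fin 3 → F) :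
    (c • (toAlt u * toAlt (swap6 w))) * toAlt v * (c • (toAlt u * toAlt (swap6 w)))ᵀ =
      toAlt ((c * c) • (Cfsg.quadFormPlus 3 F u • (Cfsg.quadFormPlus 3 F w • v - B w v • w) -
        B u (Cfsg.quadFormPlus 3 F w • v - B w v • w) • u)) := by
  have hT : (toAlt u * toAlt (swap6 w))ᵀ = toAlt (swap6 w) * toAlt u := by
    rw [Matrix.transpose_mul, toAlt_transpose, toAlt_transpose, neg_mul_neg]
  have hin : toAlt (swap6 w) * toAlt v * toAlt (swap6 w) =
      toAlt (swap6 (Cfsg.quadFormPlus 3 F w • v - B w v • w)) := by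
    have h := toAlt_sandwich (swap6 w) (swap6 v)
    rw [swap6_swap6, B_swap] at h
    rw [h]
    congr 1
    have hQ : Cfsg.quadFormPlus 3 F (swap6 w) = Cfsg.quadFormPlus 3 F w := by
      simp [Cfsg.quadFormPlus, swap6, mul_comm]
    rw [hQ]
    funext i
    rcases i with i | i <;> simp [swap6]
  rw [Matrix.transpose_smul, hT, Matrix.smul_mul, Matrix.smul_mul, Matrix.mul_smul, smul_smul, map_smul]
  congr 1
  rw [← toAlt_sandwich, ← hin]
  simp only [mul_assoc]

variable {K : Type*} [Field K] (e : K →+* F) (I : F)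

/-- Six coordinates over the small field as a vector of the Klein space. -/
def vec (x : Fin 6 → K) : Fin 3 ⊕ Fin 3 → F :=
  Sum.elim ![e (x 0) + I * e (x 1), e (x 2) + I * e (x 3), e (x 4) + I * e (x 5)]
    ![e (x 0) - I * e (x 1), e (x 2) - I * e (x 3), e (x 4) - I * e (x 5)]

theorem vec_add (x y : Fin 6 → K) : vec e I (x + y) = vec e I x + vec e I y := by
  funext i; rcases i with i | i <;> fin_cases i <;> simp [vec] <;> ring

theorem vec_smul (k : K) (x : Fin 6 → K) : vec e I (k • x) = e k • vec e I x := by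
  funext i; rcases i with i | i <;> fin_cases i <;> simp [vec] <;> ring

theorem vec_sub (x y : Fin 6 → K) : vec e I (x - y) = vec e I x - vec e I y := by
  funext i; rcases i with i | i <;> fin_cases i <;> simp [vec] <;> ring

variable {I}

theorem vec_quad (hI : I * I = -1) (x : Fin 6 → K) : Cfsg.quadFormPlus 3 F (vec e I x) = e (x ⬝ᵥ x) := by
  simp [vec, Cfsg.quadFormPlus, dotProduct, Fin.sum_univ_three, Fin.sum_univ_six]
  linear_combination -(e (x 1) * e (x 1) + e (x 3) * e (x 3) + e (x 5) * e (x 5)) * hI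

theorem vec_B (hI : I * I = -1) (x y : Fin 6 → K) : B (vec e I x) (vec e I y) = e (2 * (x ⬝ᵥ y)) := by
  simp [vec, B, swap6, dotProduct, Fintype.sum_sum_type, Fin.sum_univ_three, Fin.sum_univ_six, map_ofNat]
  linear_combination -2 * (e (x 1) * e (y 1) + e (x 3) * e (y 3) + e (x 5) * e (y 5)) * hI

theorem vec_inj (h2 : (2 : F) ≠ 0) (hI : I * I = -1) {x y : Fin 6 → K} (h : vec e I x = vec e I y) : x = y := by
  have hI0 : I ≠ 0 := fun h0 => by rw [h0, mul_zero] at hI; exact neg_ne_zero.2 one_ne_zero hI.symm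
  have two : ∀ {a b a' b' : F}, a + I * b = a' + I * b' → a - I * b = a' - I * b' → a = a' ∧ b = b' := by
    intro a b a' b' h1 h3
    exact ⟨mul_left_cancel₀ h2 (by linear_combination h1 + h3),
      mul_left_cancel₀ (mul_ne_zero h2 hI0) (by linear_combination h1 - h3)⟩
  obtain ⟨h0, h1⟩ := two (a := e (x 0)) (b := e (x 1)) (a' := e (y 0)) (b' := e (y 1))
    (congrFun h (.inl 0)) (congrFun h (.inr 0))
  obtain ⟨h2', h3⟩ := two (a := e (x 2)) (b := e (x 3)) (a' := e (y 2)) (b' := e (y 3))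
    (congrFun h (.inl 1)) (congrFun h (.inr 1))
  obtain ⟨h4, h5⟩ := two (a := e (x 4)) (b := e (x 5)) (a' := e (y 4)) (b' := e (y 5))
    (congrFun h (.inl 2)) (congrFun h (.inr 2))
  funext i
  fin_cases i <;> exact e.injective ‹_›

/-- A pair of reflections as a matrix. -/
theorem pair_act (hI : I * I = -1) {c : K} {x y : Fin 6 → K} (h : c * c * ((x ⬝ᵥ x) * (y ⬝ᵥ y)) = 1)
    (z : Fin 6 → K) :
    act (e c • (toAlt (vec e I x) * toAlt (swap6 (vec e I y)))) (vec e I z) =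
      vec e I (Frame10.rv x (Frame10.rv y z)) := by
  rw [act_apply, pair_conj, ofAlt_toAlt, vec_quad e hI, vec_quad e hI, vec_B e hI]
  have hxy : (x ⬝ᵥ x) * (y ⬝ᵥ y) ≠ 0 := fun h0 => by rw [h0, mul_zero] at h; exact zero_ne_one h
  have hx := left_ne_zero_of_mul hxy
  have hy := right_ne_zero_of_mul hxy
  rw [← vec_smul, ← vec_smul, ← vec_sub, vec_B e hI, ← vec_smul, ← vec_smul, ← vec_sub, ← map_mul, ← vec_smul]
  congr 1
  funext i
  simp only [Frame10.rv, Pi.smul_apply, Pi.sub_apply, smul_eq_mul, dotProduct_sub, dotProduct_smul]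
  field_simp
  linear_combination ((x ⬝ᵥ x) * (y ⬝ᵥ y) * z i - (x ⬝ᵥ x) * (2 * (y ⬝ᵥ z)) * y i -
    2 * ((y ⬝ᵥ y) * (x ⬝ᵥ z) - 2 * (y ⬝ᵥ z) * (x ⬝ᵥ y)) * x i) * h

theorem pair_det (hI : I * I = -1) {c : K} {x y : Fin 6 → K} (h : c * c * ((x ⬝ᵥ x) * (y ⬝ᵥ y)) = 1) :
    (e c • (toAlt (vec e I x) * toAlt (swap6 (vec e I y)))).det = 1 := by
  have hQ : Cfsg.quadFormPlus 3 F (swap6 (vec e I y)) = Cfsg.quadFormPlus 3 F (vec e I y) := by
    simp [Cfsg.quadFormPlus, swap6, mul_comm]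
  rw [Matrix.det_smul, Fintype.card_fin, Matrix.det_mul, toAlt_det, toAlt_det, hQ, vec_quad e hI, vec_quad e hI,
    ← map_pow, ← map_mul, ← map_mul, ← map_mul, ← map_mul,
    show c ^ 4 * ((x ⬝ᵥ x) * (x ⬝ᵥ x) * ((y ⬝ᵥ y) * (y ⬝ᵥ y))) = 1 by
      linear_combination (c * c * ((x ⬝ᵥ x) * (y ⬝ᵥ y)) + 1) * h, map_one]

/-- The coordinates of a vector fixed by the twist. -/
theorem exists_vec (h2 : (2 : F) ≠ 0) (hI : I * I = -1) {v : Fin 3 ⊕ Fin 3 → F}
    (hl : ∀ i, (v (.inl i) + v (.inr i)) / 2 ∈ e.range)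
    (hr : ∀ i, (v (.inl i) - v (.inr i)) / (2 * I) ∈ e.range) : ∃ x, vec e I x = v := by
  have hI0 : I ≠ 0 := fun h0 => by rw [h0, mul_zero] at hI; exact neg_ne_zero.2 one_ne_zero hI.symm
  choose a ha using hl
  choose b hb using hr
  refine ⟨![a 0, b 0, a 1, b 1, a 2, b 2], ?_⟩
  funext i
  rcases i with i | i <;> fin_cases i <;> simp [vec, ha, hb] <;> field_simp <;> ring

end Cfsg.Agent.C6Klein75
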