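import Mathlib

/-!
An element all of whose relevant conjugates normalise a self-centralising four-group, in a set closed under
conjugation by the two automorphism generators, normalises it itself.
-/

set_option autoImplicit false

namespace Cfsg.Agent.C6Plus10

variable {A : Type*} [Group A] {z x : A}

/-- Membership in the four-group of two commuting involutions. -/
def InV (z x v : A) : Prop := v = 1 ∨ v = z ∨ v = x ∨ v = z * x

/-- Conjugation sends the two generators into the four-group. -/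
def Fw (z x t : A) : Prop := InV z x (t * z * t⁻¹) ∧ InV z x (t * x * t⁻¹)

theorem InV.mul (hzz : z * z = 1) (hxx : x * x = 1) (hc : z * x = x * z) {v w : A} (hv : InV z x v)
    (hw : InV z x w) : InV z x (v * w) := by
  have e1 : z * (z * x) = x := by rw [← mul_assoc, hzz, one_mul]
  have e2 : x * (z * x) = z := by rw [← mul_assoc, ← hc, mul_assoc, hxx, mul_one]
  have e3 : z * x * z = x := by rw [hc, mul_assoc, hzz, mul_one]
  have e4 : z * x * x = z := by rw [mul_assoc, hxx, mul_one]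
  have e5 : z * x * (z * x) = 1 := by rw [mul_assoc, e2, hzz]
  rcases hv with rfl | rfl | rfl | rfl <;> rcases hw with h | h | h | h <;> subst h <;>
    simp [InV, hzz, hxx, ← hc, e1, e2, e3, e4, e5]

theorem InV.comm (hc : z * x = x * z) {v : A} (hv : InV z x v) : v * z = z * v ∧ v * x = x * v := by
  rcases hv with rfl | rfl | rfl | rfl
  · simp
  · exact ⟨rfl, hc⟩
  · exact ⟨hc.symm, rfl⟩
  · constructor
    · rw [mul_assoc, ← hc]
    · rw [← mul_assoc, ← hc]

theorem InV.inv_eq (hzz : z * z = 1) (hxx : x * x = 1) (hc : z * x = x * z) {v : A} (hv : InV z x v) : v⁻¹ = v := by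
  refine inv_eq_of_mul_eq_one_right ?_
  rcases hv with rfl | rfl | rfl | rfl
  · simp
  · exact hzz
  · exact hxx
  · rw [mul_assoc, ← mul_assoc x, ← hc, mul_assoc z x x, hxx, mul_one, hzz]

theorem Fw.inV (hzz : z * z = 1) (hxx : x * x = 1) (hc : z * x = x * z) {t v : A} (ht : Fw z x t)
    (hv : InV z x v) : InV z x (t * v * t⁻¹) := by
  rcases hv with rfl | rfl | rfl | rfl
  · exact Or.inl (by simp)
  · exact ht.1
  · exact ht.2
  · rw [show t * (z * x) * t⁻¹ = t * z * t⁻¹ * (t * x * t⁻¹) by group]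
    exact ht.1.mul hzz hxx hc ht.2

/-- A transposition fixing `a` and one fixing `b` cannot give commuting conjugates. -/
theorem swaps_not_comm {t k a b c : A} (hab : a ≠ b) (ta : t * a * t⁻¹ = a) (tb : t * b * t⁻¹ = c)
    (tc : t * c * t⁻¹ = b) (ka : k * a * k⁻¹ = c) (kb : k * b * k⁻¹ = b) (kc : k * c * k⁻¹ = a)
    (hcomm : t * (k * t * k⁻¹) = k * t * k⁻¹ * t) : False := by
  have ki : ∀ {u v : A}, k * u * k⁻¹ = v → k⁻¹ * v * k = u := fun h => by rw [← h]; group
  have e1 : t * (k * t * k⁻¹) * a * (t * (k * t * k⁻¹))⁻¹ = c := by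
    calc t * (k * t * k⁻¹) * a * (t * (k * t * k⁻¹))⁻¹
        = t * (k * (t * (k⁻¹ * a * k) * t⁻¹) * k⁻¹) * t⁻¹ := by group
      _ = c := by rw [ki kc, tc, kb, tb]
  have e2 : k * t * k⁻¹ * t * a * (k * t * k⁻¹ * t)⁻¹ = b := by
    calc k * t * k⁻¹ * t * a * (k * t * k⁻¹ * t)⁻¹
        = k * (t * (k⁻¹ * (t * a * t⁻¹) * k) * t⁻¹) * k⁻¹ := by group
      _ = b := by rw [ta, ki kc, tc, kb]
  rw [hcomm] at e1
  have hbc : b = c := e2.symm.trans e1
  have hac : a = c := by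
    have h : k * b * k⁻¹ = k * a * k⁻¹ := by rw [kb, ka, hbc]
    have h' : b = a := mul_left_cancel (mul_right_cancel h)
    rw [← h', hbc]
  exact hab (hac.trans hbc.symm)

/-- Conjugates in the normaliser force normalisation. -/
theorem inV_conj {J : Set A} (hzz : z * z = 1) (hxx : x * x = 1) (hc : z * x = x * z) (hz1 : z ≠ 1) (hx1 : x ≠ 1)
    (hzx : z ≠ x) (hself : ∀ t, t * z = z * t → t * x = x * t → InV z x t) {h r : A}
    (hz : h * z * h⁻¹ = x) (hx : h * x * h⁻¹ = z) (rz : r * z * r⁻¹ = z) (rx : r * x * r⁻¹ = z * x)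
    (Jh : ∀ y ∈ J, h * y * h⁻¹ ∈ J) (Jr : ∀ y ∈ J, r * y * r⁻¹ ∈ J)
    (Jmul : ∀ y ∈ J, ∀ y' ∈ J, y⁻¹ * y' ∈ J)
    (hJ : ∀ y ∈ J, Fw z x (y * z * y⁻¹) ∧ Fw z x (y * x * y⁻¹)) {y : A} (hy : y ∈ J) :
    InV z x (y * z * y⁻¹) := by
  by_contra hnot
  set t := y * z * y⁻¹ with ht
  have ht2 : t * t = 1 := by
    rw [ht, show y * z * y⁻¹ * (y * z * y⁻¹) = y * (z * z) * y⁻¹ by group, hzz, mul_one, mul_inv_cancel]
  have htF : Fw z x t := (hJ y hy).1
  have ht2c : ∀ {u v : A}, t * u * t⁻¹ = v → t * v * t⁻¹ = u := fun {u v} e => by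
    rw [← e, show t * (t * u * t⁻¹) * t⁻¹ = t * t * u * (t * t)⁻¹ by group, ht2]; simp
  have hne : ∀ {u : A}, u ≠ 1 → t * u * t⁻¹ ≠ 1 := fun hu e => hu (conj_eq_one_iff.1 e)
  have hinj : ∀ {u v : A}, t * u * t⁻¹ = t * v * t⁻¹ → u = v := fun e => mul_left_cancel (mul_right_cancel e)
  have hcomm : ∀ {y₁ v : A}, y₁ ∈ J → (v = z ∨ v = x) →
      t * (y₁ * v * y₁⁻¹ * t * (y₁ * v * y₁⁻¹)⁻¹) = y₁ * v * y₁⁻¹ * t * (y₁ * v * y₁⁻¹)⁻¹ * t := by
    intro y₁ v hy₁ hv
    set k := y₁ * v * y₁⁻¹ with hk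
    have hy₂ := Jmul y hy y₁ hy₁
    have hF : Fw z x (y⁻¹ * k * y) := by
      rw [show y⁻¹ * k * y = y⁻¹ * y₁ * v * (y⁻¹ * y₁)⁻¹ by rw [hk]; group]
      rcases hv with rfl | rfl
      exacts [(hJ _ hy₂).1, (hJ _ hy₂).2]
    have hw := (hF.1.comm hc).1
    calc t * (k * t * k⁻¹) = y * (z * (y⁻¹ * k * y * z * (y⁻¹ * k * y)⁻¹)) * y⁻¹ := by rw [ht]; group
      _ = y * (y⁻¹ * k * y * z * (y⁻¹ * k * y)⁻¹ * z) * y⁻¹ := by rw [hw]
      _ = k * t * k⁻¹ * t := by rw [ht]; group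
  have hconjh : h * t * h⁻¹ = h * y * h⁻¹ * x * (h * y * h⁻¹)⁻¹ := by
    rw [← hz, ht]; group
  have hconjr : r * t * r⁻¹ = r * y * r⁻¹ * z * (r * y * r⁻¹)⁻¹ := by
    conv_rhs => arg 1; arg 2; rw [← rz]
    rw [ht]; group
  -- transport by conjugation
  have move : ∀ {n u v : A}, t * u * t⁻¹ = v →
      n * t * n⁻¹ * (n * u * n⁻¹) * (n * t * n⁻¹)⁻¹ = n * v * n⁻¹ := fun {n u v} e => by rw [← e]; group
  have hy' : h * (z * x) * h⁻¹ = z * x := by
    rw [show h * (z * x) * h⁻¹ = h * z * h⁻¹ * (h * x * h⁻¹) by group, hz, hx, hc]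
  have ry : r * (z * x) * r⁻¹ = x := by
    rw [show r * (z * x) * r⁻¹ = r * z * r⁻¹ * (r * x * r⁻¹) by group, rz, rx, ← mul_assoc, hzz, one_mul]
  have hzy : z ≠ z * x := fun e => hx1 (mul_left_cancel (a := z) (by rw [← e, mul_one]))
  have hxy : x ≠ z * x := fun e => hz1 (mul_right_cancel (b := x) (by rw [← e, one_mul]))
  rcases htF.1 with e | e | e | e
  · exact hne hz1 e
  · -- fixes z
    rcases htF.2 with e' | e' | e' | e'
    · exact hne hx1 e'
    · exact hzx (hinj (e.trans e'.symm))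
    · exact hnot (hself t (mul_inv_eq_iff_eq_mul.1 e) (mul_inv_eq_iff_eq_mul.1 e'))
    · have k1 := move (n := h) e
      have k2 := move (n := h) e'
      have k3 := move (n := h) (ht2c e')
      rw [hz] at k1
      rw [hx, hy'] at k2 k3
      refine swaps_not_comm (k := h * t * h⁻¹) hzx e e' (ht2c e') k2 k1 k3 ?_
      rw [hconjh]
      exact hcomm (Jh y hy) (Or.inr rfl)
  · -- exchanges z and x
    have e' : t * (z * x) * t⁻¹ = z * x := by
      rw [show t * (z * x) * t⁻¹ = t * z * t⁻¹ * (t * x * t⁻¹) by group, e, ht2c e, hc]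
    have k1 := move (n := r) e'
    have k2 := move (n := r) e
    have k3 := move (n := r) (ht2c e)
    rw [ry] at k1
    rw [rz, rx] at k2 k3
    refine swaps_not_comm (k := r * t * r⁻¹) hxy.symm e' (ht2c e) e k3 k1 k2 ?_
    rw [hconjr]
    exact hcomm (Jr y hy) (Or.inl rfl)
  · -- fixes x
    have e' : t * x * t⁻¹ = x := by
      rcases htF.2 with e' | e' | e' | e'
      · exact absurd e' (hne hx1)
      · exact absurd (hinj (e'.trans (ht2c e).symm)) hxy
      · exact e'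
      · exact absurd (hinj (e.trans e'.symm)) hzx
    have k1 := move (n := h) e'
    have k2 := move (n := h) e
    have k3 := move (n := h) (ht2c e)
    rw [hx] at k1
    rw [hz, hy'] at k2 k3
    refine swaps_not_comm (k := h * t * h⁻¹) hzx.symm e' e (ht2c e) k2 k1 k3 ?_
    rw [hconjh]
    exact hcomm (Jh y hy) (Or.inr rfl)

end Cfsg.Agent.C6Plus10
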