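import Cfsg.Agent.Lib.C6Minus10Gen
import Cfsg.Agent.Lib.C6Plus10BlockPGL
import Cfsg.Agent.Lib.C6Plus10BlockFour

/-!
The projective line under the quaternion group extended by the three-cycle: a non-trivial subgroup normalised
by them contains an element of the four-group, and conjugates in the normaliser force normalisation.
-/

set_option autoImplicit false
set_option linter.unusedSectionVars false

namespace Cfsg.Agent.C6Minus10

open Matrix Cfsg.Agent.C6Plus10 Cfsg.Agent.DicksonLine
open scoped MatrixGroups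
open Matrix.ProjGenLinGroup (mk)

/-- Conjugates in the normaliser of a four-group force normalisation, with a three-cycle alone. -/
theorem inV_conj3 {A : Type*} [Group A] {z x : A} {J : Set A} (hzz : z * z = 1) (hxx : x * x = 1)
    (hc : z * x = x * z) (hz1 : z ≠ 1) (hx1 : x ≠ 1) (hzx : z ≠ x)
    (hself : ∀ t, t * z = z * t → t * x = x * t → InV z x t) {n : A} (nz : n * z * n⁻¹ = x)
    (nx : n * x * n⁻¹ = z * x) (Jn : ∀ y ∈ J, n * y * n⁻¹ ∈ J) (Jmul : ∀ y ∈ J, ∀ y' ∈ J, y⁻¹ * y' ∈ J)
    (hJ : ∀ y ∈ J, Fw z x (y * z * y⁻¹) ∧ Fw z x (y * x * y⁻¹)) {y : A} (hy : y ∈ J) :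
    InV z x (y * z * y⁻¹) := by
  by_contra hnot
  set t := y * z * y⁻¹ with ht
  have ht2 : t * t = 1 := by
    rw [ht, show y * z * y⁻¹ * (y * z * y⁻¹) = y * (z * z) * y⁻¹ by group, hzz, mul_one, mul_inv_cancel]
  have htF : Fw z x t := (hJ y hy).1
  have ht2c : ∀ {a b : A}, t * a * t⁻¹ = b → t * b * t⁻¹ = a := fun {a b} e => by
    rw [← e, show t * (t * a * t⁻¹) * t⁻¹ = t * t * a * (t * t)⁻¹ by group, ht2]; simp
  have hne : ∀ {a : A}, a ≠ 1 → t * a * t⁻¹ ≠ 1 := fun ha e => ha (conj_eq_one_iff.1 e)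
  have hinj : ∀ {a b : A}, t * a * t⁻¹ = t * b * t⁻¹ → a = b := fun e => mul_left_cancel (mul_right_cancel e)
  have hzy : z ≠ z * x := fun e => hx1 (mul_left_cancel (a := z) (by rw [← e, mul_one]))
  have hxy : x ≠ z * x := fun e => hz1 (mul_right_cancel (b := x) (by rw [← e, one_mul]))
  have nzx : n * (z * x) * n⁻¹ = z := by
    rw [show n * (z * x) * n⁻¹ = n * z * n⁻¹ * (n * x * n⁻¹) by group, nz, nx, ← mul_assoc, ← hc, mul_assoc,
      hxx, mul_one]
  have hk : n * t * n⁻¹ = n * y * n⁻¹ * x * (n * y * n⁻¹)⁻¹ := by rw [← nz, ht]; group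
  have hcomm : t * (n * t * n⁻¹ * t * (n * t * n⁻¹)⁻¹) = n * t * n⁻¹ * t * (n * t * n⁻¹)⁻¹ * t := by
    have hy₂ := Jmul y hy _ (Jn y hy)
    set k := n * t * n⁻¹
    have hF : Fw z x (y⁻¹ * k * y) := by
      rw [hk, show y⁻¹ * (n * y * n⁻¹ * x * (n * y * n⁻¹)⁻¹) * y =
        y⁻¹ * (n * y * n⁻¹) * x * (y⁻¹ * (n * y * n⁻¹))⁻¹ by group]
      exact (hJ _ hy₂).2
    have hw := (hF.1.comm hc).1
    calc t * (k * t * k⁻¹) = y * (z * (y⁻¹ * k * y * z * (y⁻¹ * k * y)⁻¹)) * y⁻¹ := by rw [ht]; group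
      _ = y * (y⁻¹ * k * y * z * (y⁻¹ * k * y)⁻¹ * z) * y⁻¹ := by rw [hw]
      _ = k * t * k⁻¹ * t := by rw [ht]; group
  have move : ∀ {a b a' b' : A}, t * a * t⁻¹ = b → n * a * n⁻¹ = a' → n * b * n⁻¹ = b' →
      n * t * n⁻¹ * a' * (n * t * n⁻¹)⁻¹ = b' := fun {a b a' b'} e ea eb => by rw [← ea, ← eb, ← e]; group
  rcases htF.1 with e | e | e | e
  · exact hne hz1 e
  · rcases htF.2 with e' | e' | e' | e'
    · exact hne hx1 e'
    · exact hzx (hinj (e.trans e'.symm))
    · exact hnot (hself t (mul_inv_eq_iff_eq_mul.1 e) (mul_inv_eq_iff_eq_mul.1 e'))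
    · exact swaps_not_comm (k := n * t * n⁻¹) hzx e e' (ht2c e') (move (ht2c e') nzx nx) (move e nz nz)
        (move e' nx nzx) hcomm
  · have e' : t * (z * x) * t⁻¹ = z * x := by
      rw [show t * (z * x) * t⁻¹ = t * z * t⁻¹ * (t * x * t⁻¹) by group, e, ht2c e, hc]
    exact swaps_not_comm (k := n * t * n⁻¹) hzy.symm e' e (ht2c e) (move (ht2c e) nx nz) (move e' nzx nzx)
      (move e nz nx) hcomm
  · have e' : t * x * t⁻¹ = x := by
      rcases htF.2 with e' | e' | e' | e'
      · exact absurd e' (hne hx1)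
      · exact absurd (hinj (e'.trans (ht2c e).symm)) hxy
      · exact e'
      · exact absurd (hinj (e.trans e'.symm)) hzx
    exact swaps_not_comm (k := n * t * n⁻¹) hxy e' (ht2c e) e (move e nz nzx) (move e' nx nx)
      (move (ht2c e) nzx nz) hcomm

variable {F : Type*} [Field F]

/-- Equal classes and equal determinants differ by a sign. -/
theorem sign_of_mk {a b : GL (Fin 2) F} (h : mk a = mk b) (hd : a.val.det = b.val.det) :
    ∃ s : ZMod 2, a = sg s * b := by
  obtain ⟨c, -, hc⟩ := exists_smul_of_mk h.symm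
  rw [hc, Matrix.det_smul, Fintype.card_fin] at hd
  have hb : b.val.det ≠ 0 := by rw [Matrix.det_fin_two]; exact det_two b
  have hcc : c * c = 1 := by
    have : (c * c - 1) * b.val.det = 0 := by linear_combination hd
    exact sub_eq_zero.1 ((mul_eq_zero.1 this).resolve_right hb)
  rcases mul_self_eq_one_iff.1 hcc with rfl | rfl
  · exact ⟨0, Units.ext (by rw [hc, sg_zero, one_mul, one_smul])⟩
  · exact ⟨1, Units.ext (by rw [hc, sg_one, neg_one_mul, Units.val_neg]; simp)⟩

theorem mk_neg_eq (g : GL (Fin 2) F) : mk (-g) = mk g :=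
  (mk_ext_smul (neg_ne_zero.2 (one_ne_zero (α := F))) (by rw [Units.val_neg]; simp)).symm

theorem mk_sg (s : ZMod 2) (g : GL (Fin 2) F) : mk (sg s * g) = mk g := by
  rcases zm_cases s with rfl | rfl
  · rw [sg_zero, one_mul]
  · rw [sg_one, neg_one_mul, mk_neg_eq]

/-- Elements of the same class act alike. -/
theorem conj_of_mk {a b : GL (Fin 2) F} (h : mk a = mk b) (x : GL (Fin 2) F) : a * x * a⁻¹ = b * x * b⁻¹ := by
  obtain ⟨c, hc0, hc⟩ := exists_smul_of_mk h.symm
  refine mul_inv_eq_iff_eq_mul.2 ?_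
  have e : (a : Matrix (Fin 2) (Fin 2) F) * x.val = (b * x * b⁻¹ : GL (Fin 2) F).val * a.val := by
    rw [hc, Units.val_mul, Units.val_mul, Matrix.smul_mul, Matrix.mul_smul, mul_assoc (b.val * x.val),
      Units.inv_mul, mul_one]
  exact Units.ext e

variable (p : Par F)

theorem jq_det : (jq : GL (Fin 2) F).val.det = 1 := by rw [Matrix.det_fin_two]; simp [jq]

theorem aq_det : (aq p).val.det = 1 := by
  rw [Matrix.det_fin_two]; simp [aq]; linear_combination -p.eq

theorem q8_det1 {q : GL (Fin 2) F} (hq : q ∈ Q8 p) : q.val.det = 1 := by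
  obtain ⟨c, d, e, rfl⟩ := hq
  have hS : ∀ s : ZMod 2, (sg s : GL (Fin 2) F).val.det = 1 := fun s => by
    rcases zm_cases s with rfl | rfl <;> simp [sg_one, Matrix.det_fin_two]
  rw [qel, Units.val_mul, Units.val_mul, Matrix.det_mul, Matrix.det_mul, hS]
  split_ifs <;> simp [jq_det, aq_det]

/-- The projective four-group. -/
theorem pgl_four (h2 : (2 : F) ≠ 0) :
    (mk (jq : GL (Fin 2) F) * mk jq = 1 ∧ mk (aq p) * mk (aq p) = 1 ∧ mk jq * mk (aq p) = mk (aq p) * mk jq) ∧
      mk (jq : GL (Fin 2) F) ≠ 1 ∧ mk (aq p) ≠ 1 ∧ mk jq ≠ mk (aq p) := by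
  refine ⟨⟨?_, ?_, ?_⟩, ?_, ?_, ?_⟩
  · rw [← map_mul, jq_sq, mk_neg_eq, map_one]
  · rw [← map_mul, aq_sq, mk_neg_eq, map_one]
  · rw [← map_mul, ← map_mul, aq_jq, mk_neg_eq]
  · intro e
    rw [← map_one (mk (n := Fin 2) (R := F))] at e
    obtain ⟨c, hc0, hc⟩ := exists_smul_of_mk e
    have := congrFun (congrFun hc 0) 0
    simp [jq] at this
  · intro e
    rw [← map_one (mk (n := Fin 2) (R := F))] at e
    obtain ⟨c, hc0, hc⟩ := exists_smul_of_mk e
    have e0 := congrFun (congrFun hc 0) 0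
    have e1 := congrFun (congrFun hc 1) 1
    have e2 := congrFun (congrFun hc 0) 1
    simp [aq] at e0 e1 e2
    have ha : p.al = 0 ∨ c = 0 := by
      left
      exact (mul_eq_zero.1 (show (2 : F) * (c * p.al) = 0 by linear_combination e1 - e0)).resolve_left h2
        |> mul_eq_zero.1 |>.resolve_left hc0
    rcases ha with ha | ha
    · rcases e2 with e2 | e2
      · exact hc0 e2
      · have := p.eq
        rw [ha, e2] at this
        simp at this
    · exact hc0 ha
  · intro e
    obtain ⟨c, hc0, hc⟩ := exists_smul_of_mk e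
    have e1 := congrFun (congrFun hc 0) 1
    have e3 := congrFun (congrFun hc 1) 0
    simp [jq, aq] at e1 e3
    exact hc0 ((mul_eq_zero.1 (show (2 : F) * c = 0 by linear_combination e3 - e1)).resolve_left h2)

theorem rotU_jq (h2 : (2 : F) ≠ 0) : rotU p h2 * jq * (rotU p h2)⁻¹ = aq p :=
  mul_inv_eq_iff_eq_mul.mpr (Units.ext (by
    ext i l; fin_cases i <;> fin_cases l <;> simp [rotU, jq, aq, Matrix.mul_apply, Fin.sum_univ_two] <;>
      field_simp <;> first | ring1 | linear_combination p.eq | linear_combination -p.eq))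

theorem rotU_aq (h2 : (2 : F) ≠ 0) : rotU p h2 * aq p * (rotU p h2)⁻¹ = jq * aq p :=
  mul_inv_eq_iff_eq_mul.mpr (Units.ext (by
    ext i l; fin_cases i <;> fin_cases l <;> simp [rotU, jq, aq, Matrix.mul_apply, Fin.sum_univ_two] <;>
      field_simp <;> first | ring1 | linear_combination p.eq | linear_combination -p.eq))

theorem mk_rot (h2 : (2 : F) ≠ 0) :
    mk (rotU p h2) * mk jq * (mk (rotU p h2))⁻¹ = mk (aq p) ∧
      mk (rotU p h2) * mk (aq p) * (mk (rotU p h2))⁻¹ = mk jq * mk (aq p) := by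
  rw [← map_inv, ← map_mul, ← map_mul, ← map_mul, ← map_mul, ← map_mul, rotU_jq, rotU_aq]
  exact ⟨rfl, rfl⟩

/-- Commuting with both generators forces a scalar. -/
theorem scalar_of_comm (h2 : (2 : F) ≠ 0) {h : GL (Fin 2) F} (hj : h * jq = jq * h) (ha : h * aq p = aq p * h) :
    ∃ a : F, h.val = a • 1 := by
  have ej := congrArg (fun g : GL (Fin 2) F => (g : Matrix (Fin 2) (Fin 2) F)) hj
  have ea := congrArg (fun g : GL (Fin 2) F => (g : Matrix (Fin 2) (Fin 2) F)) ha
  simp only [Units.val_mul] at ej ea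
  have j0 := congrFun (congrFun ej 0) 0
  have j1 := congrFun (congrFun ej 0) 1
  have a0 := congrFun (congrFun ea 0) 0
  have a1 := congrFun (congrFun ea 0) 1
  simp [jq, aq, Matrix.mul_apply, Fin.sum_univ_two] at j0 j1 a0 a1
  set a := h.val 0 0
  set b := h.val 0 1 with hb_def
  have hd : h.val 1 1 = a := by linear_combination -j1
  have hc : h.val 1 0 = -b := by linear_combination -j0
  rw [hc] at a0
  rw [hd] at a1
  have hbe : b * p.be = 0 :=
    (mul_eq_zero.1 (show (2 : F) * (b * p.be) = 0 by linear_combination a0)).resolve_left h2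
  have hal : b * p.al = 0 :=
    (mul_eq_zero.1 (show (2 : F) * (b * p.al) = 0 by linear_combination -a1)).resolve_left h2
  have hb : b = 0 := by linear_combination -p.al * hal - p.be * hbe + b * p.eq
  refine ⟨a, Matrix.ext fun i l => ?_⟩
  fin_cases i <;> fin_cases l <;> simp [hc, hd, hb, a, ← hb_def]

/-- The four-group is self-centralising. -/
theorem mem_four_q (h2 : (2 : F) ≠ 0) {t : ProjGenLinGroup (Fin 2) F} (htj : t * mk jq = mk jq * t)
    (hta : t * mk (aq p) = mk (aq p) * t) : InV (mk jq) (mk (aq p)) t := by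
  induction t using Matrix.ProjGenLinGroup.induction_on with | mk g => ?_
  have dj : ∀ q : GL (Fin 2) F, (g * q).val.det = (q * g).val.det := fun q => by
    rw [Units.val_mul, Units.val_mul, Matrix.det_mul, Matrix.det_mul, mul_comm]
  obtain ⟨s, hs⟩ := sign_of_mk (by rw [map_mul, map_mul]; exact htj) (dj jq)
  obtain ⟨t, ht⟩ := sign_of_mk (by rw [map_mul, map_mul]; exact hta) (dj (aq p))
  have key : ∀ q : GL (Fin 2) F, q * jq = sg s * (jq * q) → q * aq p = sg t * (aq p * q) →
      mk g * mk q = 1 := by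
    intro q hq1 hq2
    obtain ⟨a, ha⟩ := scalar_of_comm p h2 (h := g * q)
      (by
        rw [mul_assoc, hq1, ← mul_assoc g, ← sg_comm, mul_assoc, ← mul_assoc g, hs]
        simp only [← mul_assoc]
        rw [← sg_add, CharTwo.add_self_eq_zero, sg_zero, one_mul])
      (by
        rw [mul_assoc, hq2, ← mul_assoc g, ← sg_comm, mul_assoc, ← mul_assoc g, ht]
        simp only [← mul_assoc]
        rw [← sg_add, CharTwo.add_self_eq_zero, sg_zero, one_mul])
    have ha0 : a ≠ 0 := fun e => by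
      rw [e, zero_smul] at ha
      exact det_two (g * q) (by rw [ha]; simp)
    rw [← map_mul, ← map_one (mk (n := Fin 2) (R := F))]
    exact (mk_ext_smul ha0 (by rw [ha, Units.val_one])).symm
  obtain ⟨⟨hjj, haa, hja⟩, -⟩ := pgl_four p h2
  rcases zm_cases s with rfl | rfl <;> rcases zm_cases t with rfl | rfl
  · left
    simpa using key 1 (by simp) (by simp)
  · right; left
    have := key jq (by simp) (by rw [sg_one, aq_jq]; simp)
    rw [mul_eq_one_iff_eq_inv.1 this, inv_eq_of_mul_eq_one_right hjj]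
  · right; right; left
    have := key (aq p) (by rw [sg_one, aq_jq]; simp) (by simp)
    rw [mul_eq_one_iff_eq_inv.1 this, inv_eq_of_mul_eq_one_right haa]
  · right; right; right
    have := key (jq * aq p) (by rw [sg_one, mul_assoc, aq_jq]; simp)
      (by rw [sg_one, ← mul_assoc (aq p), aq_jq]; simp)
    rw [mul_eq_one_iff_eq_inv.1 this, map_mul]
    exact inv_eq_of_mul_eq_one_right (by
      rw [mul_assoc, ← mul_assoc (mk (aq p)), ← hja, mul_assoc, haa, mul_one, hjj])

/-- A non-trivial subgroup normalised by the quaternions and the three-cycle contains a quaternion class. -/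
theorem fixed_of_rot [Fintype F] (h2 : (2 : F) ≠ 0) (W : Subgroup (ProjGenLinGroup (Fin 2) F))
    (nj : ∀ w ∈ W, mk jq * w * (mk jq)⁻¹ ∈ W) (na : ∀ w ∈ W, mk (aq p) * w * (mk (aq p))⁻¹ ∈ W)
    (nr : ∀ w ∈ W, mk (rotU p h2) * w * (mk (rotU p h2))⁻¹ ∈ W) (hW : W ≠ ⊥) :
    mk jq ∈ W ∨ mk (aq p) ∈ W ∨ mk (jq * aq p) ∈ W := by
  classical
  haveI : Finite (ProjGenLinGroup (Fin 2) F) := DicksonLine.finite_pgl
  obtain ⟨⟨hjj, haa, hja⟩, -⟩ := pgl_four p h2
  by_cases heven : Even (Nat.card W)
  · obtain ⟨t, ht, ht1, htj, hta⟩ := exists_common_involution W heven nj na hjj haa hja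
    rcases mem_four_q p h2 htj hta with rfl | rfl | rfl | rfl
    exacts [absurd rfl ht1, Or.inl ht, Or.inr (Or.inl ht), Or.inr (Or.inr (by rwa [map_mul]))]
  exfalso
  have hodd : ∀ w ∈ W, w * w = 1 → w = 1 := by
    intro w hw hww
    by_contra hne
    refine heven (even_iff_two_dvd.2 ?_)
    have hord : orderOf (⟨w, hw⟩ : W) = 2 :=
      orderOf_eq_prime (by rw [sq]; exact Subtype.ext hww) fun e => hne (congrArg Subtype.val e)
    have hdvd := orderOf_dvd_natCard (⟨w, hw⟩ : W)
    rwa [hord] at hdvd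
  obtain ⟨hrj, hra⟩ := mk_rot p h2
  have move : ∀ (n a b : ProjGenLinGroup (Fin 2) F), n * a * n⁻¹ = b → ∀ w, w * a = a * w →
      n * w * n⁻¹ * b = b * (n * w * n⁻¹) := fun n a b hn w hw => by
    calc n * w * n⁻¹ * b = n * (w * a) * n⁻¹ := by rw [← hn]; group
      _ = n * (a * w) * n⁻¹ := by rw [hw]
      _ = b * (n * w * n⁻¹) := by rw [← hn]; group
  have key : ∀ n w : ProjGenLinGroup (Fin 2) F, w ≠ 1 → n * w * n⁻¹ ≠ 1 := fun n w hw e =>
    hw (conj_eq_one_iff.1 e)
  have hrw : mk (rotU p h2) * (mk jq * mk (aq p)) * (mk (rotU p h2))⁻¹ = mk jq := by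
    rw [show ∀ n a b : ProjGenLinGroup (Fin 2) F, n * (a * b) * n⁻¹ = n * a * n⁻¹ * (n * b * n⁻¹) from
      fun n a b => by group, hrj, hra, ← mul_assoc, ← hja, mul_assoc, haa, mul_one]
  obtain ⟨w₀, hw₀, hw₀1, hcase⟩ := exists_centralised W hW nj na hjj haa
  obtain ⟨w, hw, hw1, hwj⟩ : ∃ w ∈ W, w ≠ 1 ∧ w * mk jq = mk jq * w := by
    rcases hcase with hc | hc | hc
    · exact ⟨w₀, hw₀, hw₀1, hc⟩
    · exact ⟨_, nr _ (nr _ hw₀), key _ _ (key _ _ hw₀1), move _ _ _ hrw _ (move _ _ _ hra w₀ hc)⟩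
    · exact ⟨_, nr _ hw₀, key _ _ hw₀1, move _ _ _ hrw w₀ hc⟩
  induction w using Matrix.ProjGenLinGroup.induction_on with | mk g => ?_
  obtain ⟨s, hs⟩ := sign_of_mk (a := g * jq) (b := jq * g) (by rw [map_mul, map_mul]; exact hwj)
    (by rw [Units.val_mul, Units.val_mul, Matrix.det_mul, Matrix.det_mul, mul_comm])
  have hsq : ∀ c : F, c ≠ 0 → g.val * g.val = c • 1 → False := fun c hc e => hw1 (hodd _ hw (by
    rw [← map_mul, ← map_one (mk (n := Fin 2) (R := F))]
    exact (mk_ext_smul hc (by rw [Units.val_mul, e, Units.val_one])).symm))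
  have hd := det_two g
  have es := congrArg (fun u : GL (Fin 2) F => (u : Matrix (Fin 2) (Fin 2) F)) hs
  have hg0 := Matrix.eta_fin_two g.val
  set a := g.val 0 0 with ha_def
  set b := g.val 0 1 with hb_def
  rcases zm_cases s with rfl | rfl
  swap
  · simp only [sg_one, neg_one_mul, Units.val_neg, Units.val_mul] at es
    have s0 := congrFun (congrFun es 0) 0
    have s1 := congrFun (congrFun es 0) 1
    simp [jq, Matrix.mul_apply, Matrix.vecMul, dotProduct, Fin.sum_univ_two] at s0 s1
    have hc : g.val 1 0 = b := s0.symm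
    have hd' : g.val 1 1 = -a := by rw [ha_def]; linear_combination s1
    rw [hc, hd'] at hd hg0
    refine hsq (a * a + b * b) (fun e => hd (by linear_combination -e)) ?_
    rw [hg0, Matrix.mul_fin_two, Matrix.one_fin_two]
    ext i l; fin_cases i <;> fin_cases l <;> simp <;> ring
  simp only [sg_zero, one_mul, Units.val_mul] at es
  have s0 := congrFun (congrFun es 0) 0
  have s1 := congrFun (congrFun es 0) 1
  simp [jq, Matrix.mul_apply, Matrix.vecMul, dotProduct, Fin.sum_univ_two] at s0 s1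
  have hc : g.val 1 0 = -b := by linear_combination -s0
  have hd' : g.val 1 1 = a := by linear_combination -s1
  rw [hc, hd'] at hd hg0
  have hb : b ≠ 0 := fun e => hw1 (by
    rw [← map_one (mk (n := Fin 2) (R := F))]
    have ha : a ≠ 0 := fun e' => hd (by rw [e, e']; ring)
    refine (mk_ext_smul ha ?_).symm
    rw [hg0, e, Units.val_one, Matrix.one_fin_two]
    ext i l; fin_cases i <;> fin_cases l <;> simp)
  have ha : a ≠ 0 := fun e => hsq (-(b * b)) (neg_ne_zero.2 (mul_ne_zero hb hb)) (by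
    rw [hg0, e, Matrix.mul_fin_two, Matrix.one_fin_two]
    ext i l; fin_cases i <;> fin_cases l <;> simp)
  obtain ⟨g', hg'def⟩ : ∃ g', g' = rotU p h2 * g * (rotU p h2)⁻¹ := ⟨_, rfl⟩
  have hg' : g'.val = !![a + b * p.al, b * p.be; b * p.be, a - b * p.al] := by
    have hgj : g.val = a • (1 : Matrix (Fin 2) (Fin 2) F) + b • (jq : GL (Fin 2) F).val := by
      rw [hg0, Matrix.one_fin_two]
      ext i l; fin_cases i <;> fin_cases l <;> simp [jq]
    have hrot : (rotU p h2).val * (jq : GL (Fin 2) F).val * (rotU p h2)⁻¹.val = (aq p).val := by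
      rw [← Units.val_mul, ← Units.val_mul, rotU_jq]
    rw [hg'def, Units.val_mul, Units.val_mul, hgj, mul_add, add_mul, mul_smul_comm, smul_mul_assoc, mul_one,
      Units.mul_inv, mul_smul_comm, smul_mul_assoc, hrot, Matrix.one_fin_two]
    ext i l; fin_cases i <;> fin_cases l <;> simp [aq] <;> ring
  have hw' : mk g' ∈ W := by rw [hg'def, map_mul, map_mul, map_inv]; exact nr _ hw
  haveI : Finite F := Finite.of_fintype F
  obtain ⟨q, hq⟩ := CharP.exists F
  haveI : Fact q.Prime := ⟨(CharP.char_is_prime_or_zero F q).resolve_right (CharP.char_ne_zero_of_finite F q)⟩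
  have noTwo : ∀ {H : Type _} [Group H], Nonempty (W ≃* H) → ∀ u : H, u * u = 1 → u = 1 := by
    intro H _ ⟨e⟩ u hu
    have := hodd _ (e.symm u).2 (by
      have h1 := congrArg (fun y : H => ((e.symm y : W) : ProjGenLinGroup (Fin 2) F)) hu
      simpa using h1)
    have h1 : e.symm u = 1 := Subtype.ext this
    rwa [MulEquiv.map_eq_one_iff] at h1
  have evenCard : ∀ {H : Type} [Group H], Nonempty (W ≃* H) → Even (Nat.card H) → False := fun ⟨e⟩ hH =>
    heven (by rwa [Nat.card_congr e.toEquiv])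
  rcases Dickson.dickson_pgl q W with ⟨hcyc, -⟩ | ⟨y, hy, -⟩ | ⟨C, -, -, -, -, ⟨e⟩⟩ | hiso | hiso | hiso |
    ⟨R, -, hR⟩
  · haveI := hcyc
    have hcm : mk g * mk g' = mk g' * mk g :=
      congrArg Subtype.val ((inferInstance : IsMulCommutative W).is_comm.comm ⟨_, hw⟩ ⟨_, hw'⟩)
    obtain ⟨s, hs⟩ := sign_of_mk (a := g * g') (b := g' * g) (by rw [map_mul, map_mul]; exact hcm)
      (by rw [Units.val_mul, Units.val_mul, Matrix.det_mul, Matrix.det_mul, mul_comm])
    have et := congrArg (fun u : GL (Fin 2) F => (u : Matrix (Fin 2) (Fin 2) F)) hs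
    rcases zm_cases s with rfl | rfl
    · simp only [sg_zero, one_mul, Units.val_mul, hg', hg0, Matrix.mul_fin_two] at et
      have t0 := congrFun (congrFun et 0) 0
      have t1 := congrFun (congrFun et 0) 1
      simp at t0 t1
      have hbe : p.be = 0 := (mul_eq_zero.1 ((mul_eq_zero.1
        (show (2 : F) * (b * b * p.be) = 0 by linear_combination t0)).resolve_left h2)).resolve_left
          (mul_ne_zero hb hb)
      have hal : p.al = 0 := (mul_eq_zero.1 ((mul_eq_zero.1
        (show (2 : F) * (b * b * p.al) = 0 by linear_combination -t1)).resolve_left h2)).resolve_left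
          (mul_ne_zero hb hb)
      have := p.eq
      rw [hal, hbe] at this
      simp at this
    · simp only [sg_one, neg_one_mul, Units.val_neg, Units.val_mul, hg', hg0, Matrix.mul_fin_two] at et
      have t0 := congrFun (congrFun et 0) 0
      have t1 := congrFun (congrFun et 1) 1
      simp at t0 t1
      have e1 : a + b * p.al = 0 := (mul_eq_zero.1 ((mul_eq_zero.1
        (show (2 : F) * (a * (a + b * p.al)) = 0 by linear_combination t0)).resolve_left h2)).resolve_left ha
      have e2 : a - b * p.al = 0 := (mul_eq_zero.1 ((mul_eq_zero.1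
        (show (2 : F) * (a * (a - b * p.al)) = 0 by linear_combination t1)).resolve_left h2)).resolve_left ha
      exact ha ((mul_eq_zero.1 (show (2 : F) * a = 0 by linear_combination e1 + e2)).resolve_left h2)
  · have e1 : g • y = y := by rw [← mk_smul]; exact hy hw
    have e2 : g' • y = y := by rw [← mk_smul]; exact hy hw'
    cases y with
    | infty =>
      rw [OnePoint.smul_infty_eq_self_iff, hc] at e1
      exact hb (neg_eq_zero.1 e1)
    | coe k =>
      rw [OnePoint.smul_some_eq_ite, ← ha_def, ← hb_def, hc, hd'] at e1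
      rw [OnePoint.smul_some_eq_ite, hg'] at e2
      simp only [Matrix.of_apply, Matrix.cons_val', Matrix.cons_val_zero, Matrix.cons_val_one,
        Matrix.cons_val_fin_one] at e2
      by_cases n1 : -b * k + a = 0
      · rw [if_pos n1] at e1; exact OnePoint.infty_ne_coe k e1
      by_cases n2 : b * p.be * k + (a - b * p.al) = 0
      · rw [if_pos n2] at e2; exact OnePoint.infty_ne_coe k e2
      rw [if_neg n1, OnePoint.coe_eq_coe, div_eq_iff n1] at e1
      rw [if_neg n2, OnePoint.coe_eq_coe, div_eq_iff n2] at e2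
      have k2 : k * k = -1 := by
        have : b * (k * k + 1) = 0 := by linear_combination e1
        linear_combination (mul_eq_zero.1 this).resolve_left hb
      have kb : p.be + p.al * k = 0 := by
        have : (2 : F) * (b * (p.be + p.al * k)) = 0 := by linear_combination e2 + b * p.be * k2
        exact (mul_eq_zero.1 ((mul_eq_zero.1 this).resolve_left h2)).resolve_left hb
      exact one_ne_zero (α := F) (by linear_combination p.eq - (p.be - p.al * k) * kb - p.al * p.al * k2)
  · refine heven ?_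
    rw [Nat.card_congr e.toEquiv, DihedralGroup.nat_card]
    exact even_two_mul _
  · exact evenCard hiso (by rw [nat_card_alternatingGroup, Nat.card_fin]; decide)
  · exact evenCard hiso (by rw [Nat.card_perm, Nat.card_fin]; decide)
  · exact evenCard hiso (by rw [nat_card_alternatingGroup, Nat.card_fin]; decide)
  · have h2R : (2 : R) ≠ 0 := fun e => h2 (by
      have h' := congrArg R.subtype e
      rwa [map_ofNat, map_zero] at h')
    rcases hR with hiso | ⟨-, hiso⟩
    · set u : GL (Fin 2) R := GeneralLinearGroup.mkOfDetNeZero !![1, 0; 0, -1] (by simp [Matrix.det_fin_two]) with hu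
      have h1 := noTwo hiso (mk u) (by
        rw [← map_mul, ← map_one (mk (n := Fin 2) (R := R))]
        refine (mk_ext_smul (one_ne_zero (α := R)) ?_).symm
        rw [Units.val_mul, hu]
        simp [GeneralLinearGroup.mkOfDetNeZero, Matrix.mul_fin_two, Matrix.one_fin_two])
      rw [← map_one (mk (n := Fin 2) (R := R))] at h1
      obtain ⟨c, -, hc⟩ := exists_smul_of_mk h1
      rw [Units.val_one, hu] at hc
      have e00 := congrFun (congrFun hc 0) 0
      have e11 := congrFun (congrFun hc 1) 1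
      simp [GeneralLinearGroup.mkOfDetNeZero] at e00 e11
      exact h2R (by linear_combination e00 + e11)
    · let S : SpecialLinearGroup (Fin 2) R := ⟨!![0, 1; -1, 0], by simp [Matrix.det_fin_two]⟩
      have hcoe : ∀ y : SpecialLinearGroup (Fin 2) R,
          (QuotientGroup.mk y : ProjectiveSpecialLinearGroup (Fin 2) R) = 1 ↔
            y ∈ Subgroup.center (SpecialLinearGroup (Fin 2) R) := fun y => QuotientGroup.eq_one_iff y
      have h1 := noTwo hiso (QuotientGroup.mk S) (by
        rw [← QuotientGroup.mk_mul, hcoe, Matrix.SpecialLinearGroup.mem_center_iff]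
        refine ⟨-1, by simp, ?_⟩
        rw [Matrix.SpecialLinearGroup.coe_mul]
        ext i j; fin_cases i <;> fin_cases j <;> simp [S, Matrix.mul_fin_two])
      rw [hcoe, Matrix.SpecialLinearGroup.mem_center_iff] at h1
      obtain ⟨r, -, hr⟩ := h1
      have := congrFun (congrFun hr 0) 1
      simp [S] at this

end Cfsg.Agent.C6Minus10
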