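import Cfsg.Agent.Lib.C6Plus10Ctl

/-!
The two-by-two blocks of the elements of a level with one free coordinate and one complex structure.
-/

set_option autoImplicit false
set_option linter.unusedSectionVars false

namespace Cfsg.Agent.C6Plus10

open Matrix
open scoped MatrixGroups

variable {F : Type*} [Field F] {k : ℕ}

/-- The point with two given coordinates. -/
def pl (a q : Fin k) (β : Pt k) (s c : ZMod 2) : Pt k := fun j => if j = a then s else if j = q then c else β j

/-- Equality off two coordinates. -/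
def Off (a q : Fin k) (x y : Pt k) : Prop := ∀ j, j ≠ a → j ≠ q → x j = y j

variable {a q : Fin k}

theorem pl_a (β : Pt k) (s c : ZMod 2) : pl a q β s c a = s := if_pos rfl

theorem pl_q (haq : a ≠ q) (β : Pt k) (s c : ZMod 2) : pl a q β s c q = c := by
  simp [pl, Ne.symm haq]

theorem pl_off {j : Fin k} (h : j ≠ a) (h' : j ≠ q) (β : Pt k) (s c : ZMod 2) : pl a q β s c j = β j := by
  simp [pl, h, h']

theorem off_pl (β : Pt k) (s c : ZMod 2) : Off a q (pl a q β s c) β := fun _ h h' => pl_off h h' β s c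

theorem off_pl_pl (β : Pt k) (s c s' c' : ZMod 2) : Off a q (pl a q β s c) (pl a q β s' c') := fun j h h' => by
  rw [pl_off h h', pl_off h h']

theorem pl_congr {β β' : Pt k} (h : Off a q β β') (s c : ZMod 2) : pl a q β s c = pl a q β' s c := by
  funext j
  by_cases h1 : j = a
  · simp [pl, h1]
  by_cases h3 : j = q
  · simp [pl, h3]
  rw [pl_off h1 h3, pl_off h1 h3, h j h1 h3]

theorem pl_self (haq : a ≠ q) (y : Pt k) : pl a q y (y a) (y q) = y := by
  funext j
  by_cases h1 : j = a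
  · subst h1; exact pl_a _ _ _
  by_cases h3 : j = q
  · subst h3; exact pl_q haq _ _ _
  exact pl_off h1 h3 _ _ _

theorem pl_eq_iff (haq : a ≠ q) {β : Pt k} {s c s' c' : ZMod 2} :
    pl a q β s c = pl a q β s' c' ↔ s = s' ∧ c = c' :=
  ⟨fun h => ⟨by simpa [pl_a] using congrFun h a, by simpa [pl_q haq] using congrFun h q⟩,
    fun ⟨h, h'⟩ => by rw [h, h']⟩

theorem pl_add_q (haq : a ≠ q) (β : Pt k) (s c d : ZMod 2) :
    pl a q β s c + d • pe q = pl a q β s (c + d) := by
  funext j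
  by_cases h1 : j = a
  · subst h1; simp [pl_a, pe_ne haq]
  by_cases h3 : j = q
  · subst h3; simp [pl_q haq]
  simp [pl_off h1 h3, pe_ne h3]

/-- A sum supported in one plane. -/
theorem sum_plane (haq : a ≠ q) {R : Type*} [AddCommMonoid R] (f : Pt k → R) (β : Pt k)
    (h : ∀ z, ¬ Off a q z β → f z = 0) :
    ∑ z, f z = f (pl a q β 0 0) + f (pl a q β 0 1) + (f (pl a q β 1 0) + f (pl a q β 1 1)) := by
  rw [← Fintype.sum_of_injective (fun p : ZMod 2 × ZMod 2 => pl a q β p.1 p.2)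
    (fun p p' hp => Prod.ext ((pl_eq_iff haq).1 hp).1 ((pl_eq_iff haq).1 hp).2) (fun p => f (pl a q β p.1 p.2)) f
    (fun z hz => h z fun hoff => hz ⟨(z a, z q), by
      show pl a q β (z a) (z q) = z
      rw [← pl_congr hoff, pl_self haq]⟩) (fun _ => rfl), Fintype.sum_prod_type]
  rw [show (Finset.univ : Finset (ZMod 2)) = {0, 1} from rfl]
  simp

/-! ### The level -/

variable {M : Subgroup (GL (Pt k) F)}

theorem shp_off {d : Fin k} (hda : d ≠ a) (hdq : d ≠ q) : Shp ({a} : Finset (Fin k)) {q} 0 (pe d) :=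
  ⟨fun _ _ => rfl, fun i hi => by rw [Finset.mem_singleton.1 hi, pe_ne (Ne.symm hda)],
    fun i hi => by rw [Finset.mem_singleton.1 hi, pe_ne (Ne.symm hdq), Pi.zero_apply]⟩

theorem shp_J (haq : a ≠ q) : Shp ({a} : Finset (Fin k)) {q} (pe q) (pe q) :=
  ⟨fun i hi => pe_ne fun e => hi (Finset.mem_singleton.2 e),
    fun i hi => by rw [Finset.mem_singleton.1 hi, pe_ne haq], fun _ _ => rfl⟩

theorem LK_zero (h2 : (2 : F) ≠ 0) {g : GL (Pt k) F} (hg : g ∈ LK M {a} {q}) {x y : Pt k}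
    (h : ¬ Off a q x y) : (g : Matrix (Pt k) (Pt k) F) x y = 0 := by
  simp only [Off, not_forall] at h
  obtain ⟨d, hda, hdq, hd⟩ := h
  have e := (mem_LK.1 hg).2 0 (pe d) (shp_off hda hdq)
  rw [pau_sd] at e
  exact entry_zero h2 e (by simpa [ip_pe] using hd)

theorem LK_J (haq : a ≠ q) {g : GL (Pt k) F} (hg : g ∈ LK M {a} {q}) (x y : Pt k) :
    (g : Matrix (Pt k) (Pt k) F) x (y + pe q) * sgn F (y q) =
      sgn F (x q + 1) * (g : Matrix (Pt k) (Pt k) F) (x + pe q) y := by
  have e := congrArg (fun u : GL (Pt k) F => (u : Matrix (Pt k) (Pt k) F) x y)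
    ((mem_LK.1 hg).2 (pe q) (pe q) (shp_J haq))
  simp only [Units.val_mul, pau_eq, Matrix.mul_apply] at e
  rw [Finset.sum_eq_single (y + pe q), Finset.sum_eq_single (x + pe q)] at e
  · rw [mon_apply, mon_apply, if_pos (by simp), if_pos (by simp [pt_add_cancel])] at e
    simpa [ip_pe] using e
  · intro z _ hz
    rw [mon_apply, if_neg (fun e' => hz (by rw [e', Equiv.coe_addRight]; simp [pt_add_cancel])), zero_mul]
  · simp
  · intro z _ hz
    rw [mon_apply, if_neg (by simpa using hz), mul_zero]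
  · simp

theorem LK_right (haq : a ≠ q) {g : GL (Pt k) F} (hg : g ∈ LK M {a} {q}) (β : Pt k) (s t : ZMod 2) :
    (g : Matrix (Pt k) (Pt k) F) (pl a q β s 0) (pl a q β t 1) =
      -(g : Matrix (Pt k) (Pt k) F) (pl a q β s 1) (pl a q β t 0) ∧
    (g : Matrix (Pt k) (Pt k) F) (pl a q β s 1) (pl a q β t 1) =
      (g : Matrix (Pt k) (Pt k) F) (pl a q β s 0) (pl a q β t 0) := by
  have h0 := LK_J haq hg (pl a q β s 0) (pl a q β t 0)
  have h1 := LK_J haq hg (pl a q β s 1) (pl a q β t 0)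
  have e : ∀ r c, pl a q β r c + pe q = pl a q β r (c + 1) := fun r c => by
    rw [← pl_add_q haq, one_smul]
  rw [e, e, pl_q haq, pl_q haq, zero_add, sgn_zero, mul_one, sgn_one, neg_one_mul] at h0
  rw [e, e, pl_q haq, pl_q haq, zero_add, CharTwo.add_self_eq_zero, sgn_zero, mul_one, one_mul] at h1
  exact ⟨h0, h1⟩

/-! ### The blocks -/

variable {K : Type*} [Field K]

/-- An entry of a block. -/
def bb (e : F →+* K) (i : K) (a q : Fin k) (g : GL (Pt k) F) (β : Pt k) (s t : ZMod 2) : K :=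
  e ((g : Matrix (Pt k) (Pt k) F) (pl a q β s 0) (pl a q β t 0)) +
    i * e ((g : Matrix (Pt k) (Pt k) F) (pl a q β s 1) (pl a q β t 0))

/-- A block. -/
def blk (e : F →+* K) (i : K) (a q : Fin k) (g : GL (Pt k) F) (β : Pt k) : Matrix (Fin 2) (Fin 2) K :=
  !![bb e i a q g β 0 0, bb e i a q g β 0 1; bb e i a q g β 1 0, bb e i a q g β 1 1]

variable (e : F →+* K) (i : K)

theorem blk_congr (g : GL (Pt k) F) {β β' : Pt k} (h : Off a q β β') : blk e i a q g β = blk e i a q g β' := by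
  simp only [blk, bb, pl_congr h]

theorem bb_one (haq : a ≠ q) (β : Pt k) (s t : ZMod 2) :
    bb e i a q 1 β s t = if s = t then 1 else 0 := by
  simp only [bb, Units.val_one, Matrix.one_apply, pl_eq_iff haq]
  by_cases h : s = t <;> simp [h]

theorem bb_mul (h2 : (2 : F) ≠ 0) (haq : a ≠ q) (hi : i * i = -1) {g h : GL (Pt k) F} (hg : g ∈ LK M {a} {q})
    (hh : h ∈ LK M {a} {q}) (β : Pt k) (s t : ZMod 2) :
    bb e i a q (g * h) β s t =
      bb e i a q g β s 0 * bb e i a q h β 0 t + bb e i a q g β s 1 * bb e i a q h β 1 t := by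
  have hsum : ∀ r, ((g * h : GL (Pt k) F) : Matrix (Pt k) (Pt k) F) (pl a q β s r) (pl a q β t 0) =
      (g : Matrix (Pt k) (Pt k) F) (pl a q β s r) (pl a q β 0 0) * (h : Matrix (Pt k) (Pt k) F) (pl a q β 0 0) (pl a q β t 0) +
      (g : Matrix (Pt k) (Pt k) F) (pl a q β s r) (pl a q β 0 1) * (h : Matrix (Pt k) (Pt k) F) (pl a q β 0 1) (pl a q β t 0) +
      ((g : Matrix (Pt k) (Pt k) F) (pl a q β s r) (pl a q β 1 0) * (h : Matrix (Pt k) (Pt k) F) (pl a q β 1 0) (pl a q β t 0) +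
      (g : Matrix (Pt k) (Pt k) F) (pl a q β s r) (pl a q β 1 1) * (h : Matrix (Pt k) (Pt k) F) (pl a q β 1 1) (pl a q β t 0)) := fun r => by
    rw [Units.val_mul, Matrix.mul_apply]
    refine sum_plane haq _ β fun z hz => ?_
    rw [LK_zero h2 hh (fun ho => hz fun j h1 h3 => by rw [ho j h1 h3, pl_off h1 h3]), mul_zero]
  simp only [bb, hsum, (LK_right haq hg β s 0).1, (LK_right haq hg β s 0).2, (LK_right haq hg β s 1).1,
    (LK_right haq hg β s 1).2, map_add, map_mul, map_neg]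
  linear_combination -(e ((g : Matrix (Pt k) (Pt k) F) (pl a q β s 1) (pl a q β 0 0)) *
      e ((h : Matrix (Pt k) (Pt k) F) (pl a q β 0 1) (pl a q β t 0)) +
    e ((g : Matrix (Pt k) (Pt k) F) (pl a q β s 1) (pl a q β 1 0)) *
      e ((h : Matrix (Pt k) (Pt k) F) (pl a q β 1 1) (pl a q β t 0))) * hi

/-- The block as a homomorphism. -/
def blkM (h2 : (2 : F) ≠ 0) (haq : a ≠ q) (hi : i * i = -1) (β : Pt k) :
    ↥(LK M {a} {q}) →* Matrix (Fin 2) (Fin 2) K where
  toFun g := blk e i a q g.1 β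
  map_one' := by
    rw [OneMemClass.coe_one, blk]
    simp [bb_one e i haq, Matrix.one_fin_two]
  map_mul' g h := by
    simp only [blk, Subgroup.coe_mul, bb_mul e i h2 haq hi g.2 h.2, Matrix.mul_fin_two]

/-- The block in the general linear group. -/
def blkG (h2 : (2 : F) ≠ 0) (haq : a ≠ q) (hi : i * i = -1) (β : Pt k) : ↥(LK M {a} {q}) →* GL (Fin 2) K :=
  (blkM e i h2 haq hi β).toHomUnits

theorem blkG_val (h2 : (2 : F) ≠ 0) (haq : a ≠ q) (hi : i * i = -1) (β : Pt k) (g : ↥(LK M {a} {q})) :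
    ((blkG e i h2 haq hi β g : GL (Fin 2) K) : Matrix (Fin 2) (Fin 2) K) = blk e i a q g.1 β := rfl

/-- The column of an element of the overgroup with a monomial block. -/
theorem entries_of_bb (h2 : (2 : K) ≠ 0) (h2F : (2 : F) ≠ 0) (hM : Base M) (haq : a ≠ q) (hi : i * i = -1)
    {g : GL (Pt k) F} (hg : g ∈ LK M {a} {q}) (β : Pt k) (σ : ZMod 2) {v : ZMod 2 → K}
    (hv : ∀ t, bb e i a q g β (t + σ) t = v t) (hv' : ∀ t, bb e i a q g β (t + σ + 1) t = 0)
    (hv0 : ∀ t, v t ≠ 0) (t : ZMod 2) :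
    (2 * e ((g : Matrix (Pt k) (Pt k) F) (pl a q β (t + σ) 0) (pl a q β t 0)) = v t + (v t)⁻¹ ∧
      2 * i * e ((g : Matrix (Pt k) (Pt k) F) (pl a q β (t + σ) 1) (pl a q β t 0)) = v t - (v t)⁻¹) ∧
    (g : Matrix (Pt k) (Pt k) F) (pl a q β (t + σ + 1) 0) (pl a q β t 0) = 0 ∧
      (g : Matrix (Pt k) (Pt k) F) (pl a q β (t + σ + 1) 1) (pl a q β t 0) = 0 := by
  have hinv : ∀ x y, ((g⁻¹ : GL (Pt k) F) : Matrix (Pt k) (Pt k) F) x y = (g : Matrix (Pt k) (Pt k) F) y x := by
    intro x y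
    rw [Units.inv_eq_of_mul_eq_one_left (hM.iso g (mem_LK.1 hg).1)]
    rfl
  have hneg : ∀ r u, bb e i a q g⁻¹ β r u =
      e ((g : Matrix (Pt k) (Pt k) F) (pl a q β u 0) (pl a q β r 0)) -
        i * e ((g : Matrix (Pt k) (Pt k) F) (pl a q β u 1) (pl a q β r 0)) := fun r u => by
    rw [bb, hinv, hinv, (LK_right haq hg β u r).1, map_neg]
    ring
  have hone : ∀ r u, bb e i a q g⁻¹ β r 0 * bb e i a q g β 0 u + bb e i a q g⁻¹ β r 1 * bb e i a q g β 1 u =
      if r = u then 1 else 0 := fun r u => by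
    rw [← bb_mul e i h2F haq hi ((LK M {a} {q}).inv_mem hg) hg, inv_mul_cancel, bb_one e i haq]
  have hsplit : ∀ r u, bb e i a q g⁻¹ β r (u + σ) * v u = if r = u then 1 else 0 := fun r u => by
    have h1 := hone r u
    have h3 := hv u
    have h4 := hv' u
    rcases zm_cases σ with rfl | rfl <;> rcases zm_cases u with rfl | rfl <;>
      simp only [add_zero, zero_add, show (1 : ZMod 2) + 1 = 0 by decide] at h1 h3 h4 ⊢ <;>
      rw [h3, h4] at h1 <;> simpa using h1
  have h1 : bb e i a q g⁻¹ β t (t + σ) = (v t)⁻¹ :=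
    eq_inv_of_mul_eq_one_left (by simpa using hsplit t t)
  have h3 : bb e i a q g⁻¹ β t (t + σ + 1) = 0 := by
    have h := hsplit t (t + 1)
    rw [if_neg (by simp), show t + 1 + σ = t + σ + 1 by ring] at h
    exact (mul_eq_zero.1 h).resolve_right (hv0 _)
  rw [hneg] at h1 h3
  have h4 := hv t
  have h5 := hv' t
  rw [bb] at h4 h5
  have hi0 : i ≠ 0 := fun e0 => by rw [e0, zero_mul] at hi; exact one_ne_zero (neg_eq_zero.1 hi.symm)
  refine ⟨⟨by linear_combination h4 + h1, by linear_combination h4 - h1⟩, e.injective ?_, e.injective ?_⟩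
  · rw [map_zero]
    exact (mul_eq_zero.1 (show (2 : K) * _ = 0 by linear_combination h5 + h3)).resolve_left h2
  · rw [map_zero]
    exact (mul_eq_zero.1 (show (2 * i) * _ = 0 by linear_combination h5 - h3)).resolve_left (mul_ne_zero h2 hi0)

theorem map_sgn (c : ZMod 2) : e (sgn F c) = sgn K c := by
  rcases zm_cases c with rfl | rfl <;> simp [sgn_one]

/-- The shift of points by functions of the other coordinates. -/
def shift2 (a q : Fin k) (σ τ : Pt k → ZMod 2) (hσ : ∀ x y, Off a q x y → σ x = σ y)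
    (hτ : ∀ x y, Off a q x y → τ x = τ y) : Equiv.Perm (Pt k) :=
  Function.Involutive.toPerm (fun y => y + (σ y • pe a + τ y • pe q)) fun y => by
    have h : Off a q (y + (σ y • pe a + τ y • pe q)) y := fun j h h' => by simp [pe_ne h, pe_ne h']
    dsimp only
    rw [hσ _ _ h, hτ _ _ h, pt_add_cancel]

theorem shift2_apply {σ τ : Pt k → ZMod 2} (hσ : ∀ x y, Off a q x y → σ x = σ y)
    (hτ : ∀ x y, Off a q x y → τ x = τ y) (y : Pt k) :
    shift2 a q σ τ hσ hτ y = y + (σ y • pe a + τ y • pe q) := rfl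

/-- Monomial blocks with fourth roots of unity as entries come from a signed permutation. -/
theorem mon_of_blk (h2 : (2 : K) ≠ 0) (h2F : (2 : F) ≠ 0) (hM : Base M) (haq : a ≠ q) (hi : i * i = -1)
    {g : GL (Pt k) F} (hg : g ∈ LK M {a} {q}) {σ τ : Pt k → ZMod 2} (hσ : ∀ x y, Off a q x y → σ x = σ y)
    (hτ : ∀ x y, Off a q x y → τ x = τ y)
    (h : ∀ β t, (∃ ε : ZMod 2, bb e i a q g β (t + σ β) t = (if τ β = 1 then i else 1) * sgn K ε) ∧
      bb e i a q g β (t + σ β + 1) t = 0) :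
    ∃ f, g = mon F (shift2 a q σ τ hσ hτ) f := by
  have h' : ∀ β t, bb e i a q g β (t + σ β + 1) t = 0 := fun β t => (h β t).2
  choose ε hε using fun β t => (h β t).1
  have hi0 : i ≠ 0 := fun e0 => by rw [e0, zero_mul] at hi; exact one_ne_zero (neg_eq_zero.1 hi.symm)
  have col : ∀ β t, ((g : Matrix (Pt k) (Pt k) F) (pl a q β (t + σ β) (τ β)) (pl a q β t 0) = sgn F (ε β t)) ∧
      ∀ s c, ¬(s = t + σ β ∧ c = τ β) → (g : Matrix (Pt k) (Pt k) F) (pl a q β s c) (pl a q β t 0) = 0 := by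
    intro β t
    obtain ⟨⟨eP, eR⟩, z0, z1⟩ := entries_of_bb e i h2 h2F hM haq hi hg β (σ β)
      (v := fun t => (if τ β = 1 then i else 1) * sgn K (ε β t)) (hε β) (h' β)
      (fun t => mul_ne_zero (by split_ifs <;> simp [hi0]) (sgn_ne_zero _)) t
    have hsi : (sgn K (ε β t))⁻¹ = sgn K (ε β t) := inv_eq_of_mul_eq_one_right (sgn_mul_self _)
    have hii : i⁻¹ = -i := inv_eq_of_mul_eq_one_right (by rw [mul_neg, hi, neg_neg])
    rcases zm_cases (τ β) with hτβ | hτβ
    · rw [hτβ, if_neg (by decide), one_mul, hsi] at eP eR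
      have hP : (g : Matrix (Pt k) (Pt k) F) (pl a q β (t + σ β) 0) (pl a q β t 0) = sgn F (ε β t) :=
        e.injective (mul_left_cancel₀ h2 (by rw [map_sgn]; linear_combination eP))
      have hR : (g : Matrix (Pt k) (Pt k) F) (pl a q β (t + σ β) 1) (pl a q β t 0) = 0 := e.injective (by
        rw [map_zero]
        exact (mul_eq_zero.1 (show (2 * i) * _ = 0 by linear_combination eR)).resolve_left (mul_ne_zero h2 hi0))
      refine ⟨by rwa [hτβ], fun s c hsc => ?_⟩
      rw [hτβ] at hsc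
      rcases eq_or_ne s (t + σ β) with rfl | hs
      · rw [(zm_cases c).resolve_left fun hc => hsc ⟨rfl, hc⟩]; exact hR
      · obtain rfl : s = t + σ β + 1 := (show ∀ a b : ZMod 2, a ≠ b → a = b + 1 by decide) s _ hs
        rcases zm_cases c with rfl | rfl
        exacts [z0, z1]
    · rw [hτβ, if_pos rfl, mul_inv, hsi, hii] at eP eR
      have hR : (g : Matrix (Pt k) (Pt k) F) (pl a q β (t + σ β) 1) (pl a q β t 0) = sgn F (ε β t) :=
        e.injective (mul_left_cancel₀ (mul_ne_zero h2 hi0) (by rw [map_sgn]; linear_combination eR))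
      have hP : (g : Matrix (Pt k) (Pt k) F) (pl a q β (t + σ β) 0) (pl a q β t 0) = 0 := e.injective (by
        rw [map_zero]
        exact (mul_eq_zero.1 (show (2 : K) * _ = 0 by linear_combination eP)).resolve_left h2)
      refine ⟨by rwa [hτβ], fun s c hsc => ?_⟩
      rw [hτβ] at hsc
      rcases eq_or_ne s (t + σ β) with rfl | hs
      · rw [(zm_cases c).resolve_right fun hc => hsc ⟨rfl, hc⟩]; exact hP
      · obtain rfl : s = t + σ β + 1 := (show ∀ a b : ZMod 2, a ≠ b → a = b + 1 by decide) s _ hs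
        rcases zm_cases c with rfl | rfl
        exacts [z0, z1]
  refine ⟨fun y => ε y (y a) + τ y * y q, Units.ext (Matrix.ext fun x y => ?_)⟩
  rw [mon_apply, shift2_apply]
  by_cases hoff : Off a q x y
  · obtain ⟨s, c, rfl⟩ : ∃ s c, x = pl a q y s c := ⟨x a, x q, by rw [← pl_congr hoff, pl_self haq]⟩
    have hy : y + (σ y • pe a + τ y • pe q) = pl a q y (y a + σ y) (y q + τ y) := by
      funext j
      by_cases h1 : j = a
      · subst h1; simp [pl_a, pe_ne haq]
      by_cases h3 : j = q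
      · subst h3; simp [pl_q haq, pe_ne (Ne.symm haq)]
      simp [pl_off h1 h3, pe_ne h1, pe_ne h3]
    simp only [hy, pl_eq_iff haq]
    rw [show (g : Matrix (Pt k) (Pt k) F) (pl a q y s c) y =
      (g : Matrix (Pt k) (Pt k) F) (pl a q y s c) (pl a q y (y a) (y q)) by rw [pl_self haq]]
    obtain ⟨c1, c0⟩ := col y (y a)
    rcases zm_cases (y q) with hq0 | hq1
    · rw [hq0, zero_add, mul_zero, add_zero]
      split_ifs with hsc
      · rw [hsc.1, hsc.2]; exact c1
      · exact c0 s c hsc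
    · rw [hq1, mul_one]
      rcases zm_cases c with rfl | rfl
      · rw [(LK_right haq hg y s (y a)).1]
        split_ifs with hsc
        · have hτ1 : τ y = 1 := (show ∀ b : ZMod 2, 0 = 1 + b → b = 1 by decide) _ hsc.2
          rw [hτ1] at c1
          rw [hsc.1, c1, hτ1, sgn_add, sgn_one, mul_neg_one]
        · rw [c0 s 1 (fun e' => hsc ⟨e'.1, by rw [← e'.2]; rfl⟩), neg_zero]
      · rw [(LK_right haq hg y s (y a)).2]
        split_ifs with hsc
        · have hτ0 : τ y = 0 := (show ∀ b : ZMod 2, 1 = 1 + b → b = 0 by decide) _ hsc.2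
          rw [hτ0] at c1
          rw [hsc.1, c1, hτ0, add_zero]
        · exact c0 s 0 (fun e' => hsc ⟨e'.1, by rw [← e'.2]; rfl⟩)
  · rw [LK_zero h2F hg hoff, if_neg]
    intro e'
    exact hoff fun j h1 h3 => by simp [e', pe_ne h1, pe_ne h3]

end Cfsg.Agent.C6Plus10
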