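import Cfsg.Agent.Lib.C6Plus10BlockPGL
import Cfsg.Agent.Lib.C6Plus10BlockPlane
import Cfsg.Agent.Lib.C6Plus10BlockFour

/-!
The elements of a level with one free coordinate and one complex structure conjugate the sign of that coordinate
to a signed permutation translating in the two coordinates.
-/

set_option autoImplicit false
set_option linter.unusedSectionVars false
set_option maxHeartbeats 1000000

namespace Cfsg.Agent.C6Plus10

open Matrix
open scoped MatrixGroups
open Matrix.ProjGenLinGroup (mk)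

theorem Fw.mul_right {A : Type*} [Group A] {z x : A} (hc : z * x = x * z) {t v : A} (ht : Fw z x t)
    (hv : InV z x v) : Fw z x (t * v) := by
  obtain ⟨h1, h3⟩ := hv.comm hc
  constructor
  · rw [show t * v * z * (t * v)⁻¹ = t * (v * z) * v⁻¹ * t⁻¹ by group, h1,
      show t * (z * v) * v⁻¹ * t⁻¹ = t * z * t⁻¹ by group]
    exact ht.1
  · rw [show t * v * x * (t * v)⁻¹ = t * (v * x) * v⁻¹ * t⁻¹ by group, h3,
      show t * (x * v) * v⁻¹ * t⁻¹ = t * x * t⁻¹ by group]
    exact ht.2

section pgl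

variable {K : Type*} [Field K] {zg xg hg rg : GL (Fin 2) K} {i : K}

/-- Relations of the images of the one-qubit Clifford generators. -/
theorem pgl_facts (h2 : (2 : K) ≠ 0) (hi : i * i = -1) (hz : (zg : Matrix (Fin 2) (Fin 2) K) = !![1, 0; 0, -1])
    (hx : (xg : Matrix (Fin 2) (Fin 2) K) = !![0, 1; 1, 0]) (hh : (hg : Matrix (Fin 2) (Fin 2) K) = !![1, 1; 1, -1])
    (hr : (rg : Matrix (Fin 2) (Fin 2) K) = !![1, 0; 0, -i]) :
    (mk zg * mk zg = 1 ∧ mk xg * mk xg = 1 ∧ mk zg * mk xg = mk xg * mk zg) ∧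
      (mk zg ≠ 1 ∧ mk xg ≠ 1 ∧ mk zg ≠ mk xg) ∧
      (mk hg * mk zg * (mk hg)⁻¹ = mk xg ∧ mk hg * mk xg * (mk hg)⁻¹ = mk zg) ∧
      (mk rg * mk zg * (mk rg)⁻¹ = mk zg ∧ mk rg * mk xg * (mk rg)⁻¹ = mk zg * mk xg) := by
  have hm : (-1 : K) ≠ 0 := neg_ne_zero.2 one_ne_zero
  have h11 : (1 : K) ≠ -1 := fun e => h2 (by linear_combination e)
  have hi0 : -i ≠ 0 := neg_ne_zero.2 fun e0 => by rw [e0, zero_mul] at hi; exact one_ne_zero (neg_eq_zero.1 hi.symm)
  refine ⟨⟨?_, ?_, ?_⟩, ⟨?_, ?_, ?_⟩, ⟨?_, ?_⟩, ?_, ?_⟩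
  · rw [← map_mul, ← map_one (mk (n := Fin 2) (R := K))]
    refine (mk_ext_smul (one_ne_zero (α := K)) ?_).symm
    simp [hz, Matrix.mul_fin_two, Matrix.one_fin_two]
  · rw [← map_mul, ← map_one (mk (n := Fin 2) (R := K))]
    refine (mk_ext_smul (one_ne_zero (α := K)) ?_).symm
    simp [hx, Matrix.mul_fin_two, Matrix.one_fin_two]
  · rw [← map_mul, ← map_mul]
    refine (mk_ext_smul hm ?_).symm
    simp [hz, hx, Matrix.mul_fin_two]
  · rw [← map_one (mk (n := Fin 2) (R := K))]
    intro e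
    obtain ⟨c, -, hc⟩ := exists_smul_of_mk e
    rw [hz, Units.val_one, Matrix.one_fin_two] at hc
    simp at hc
    exact h11 (hc.1.symm ▸ hc.2)
  · rw [← map_one (mk (n := Fin 2) (R := K))]
    intro e
    obtain ⟨c, -, hc⟩ := exists_smul_of_mk e
    rw [hx, Units.val_one, Matrix.one_fin_two] at hc
    simp at hc
  · intro e
    obtain ⟨c, -, hc⟩ := exists_smul_of_mk e
    rw [hz, hx] at hc
    simp at hc
  · refine mul_inv_eq_iff_eq_mul.2 ?_
    rw [← map_mul, ← map_mul]
    refine mk_ext_smul (one_ne_zero (α := K)) ?_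
    simp [hh, hz, hx, Matrix.mul_fin_two]
  · refine mul_inv_eq_iff_eq_mul.2 ?_
    rw [← map_mul, ← map_mul]
    refine mk_ext_smul (one_ne_zero (α := K)) ?_
    simp [hh, hz, hx, Matrix.mul_fin_two]
  · refine mul_inv_eq_iff_eq_mul.2 ?_
    rw [← map_mul, ← map_mul]
    refine mk_ext_smul (one_ne_zero (α := K)) ?_
    simp [hr, hz, Matrix.mul_fin_two]
  · refine mul_inv_eq_iff_eq_mul.2 ?_
    rw [← map_mul, ← map_mul, ← map_mul]
    refine mk_ext_smul hi0 ?_
    simp [hr, hx, hz, Matrix.mul_fin_two, hi]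

theorem comm_val {G N : GL (Fin 2) K} {Q P H : Matrix (Fin 2) (Fin 2) K} {c d : K}
    (hG : (G : Matrix (Fin 2) (Fin 2) K) = c • P) (hN : (N : Matrix (Fin 2) (Fin 2) K) = d • H)
    (h : P * H = Q * (H * P)) :
    ((G * N * G⁻¹ * N⁻¹ : GL (Fin 2) K) : Matrix (Fin 2) (Fin 2) K) = Q := by
  have e : ((G * N : GL (Fin 2) K) : Matrix (Fin 2) (Fin 2) K) = Q * ((N * G : GL (Fin 2) K) : Matrix (Fin 2) (Fin 2) K) := by
    rw [Units.val_mul, Units.val_mul, hG, hN, Matrix.smul_mul, Matrix.mul_smul, h, Matrix.smul_mul, Matrix.mul_smul,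
      Matrix.mul_smul, Matrix.mul_smul, smul_comm c d]
  rw [show G * N * G⁻¹ * N⁻¹ = G * N * (N * G)⁻¹ by group, Units.val_mul, e, Units.mul_inv_cancel_right]

theorem comm_one {G N : GL (Fin 2) K} (hG : mk G = 1) : G * N * G⁻¹ * N⁻¹ = 1 := by
  rw [← map_one (mk (n := Fin 2) (R := K))] at hG
  obtain ⟨c, -, hc⟩ := exists_smul_of_mk hG.symm
  have : G * N = N * G := Units.ext (by
    rw [Units.val_mul, Units.val_mul, hc, Units.val_one, Matrix.smul_mul, Matrix.mul_smul, one_mul, mul_one])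
  rw [this]; group

end pgl

section block

variable {F : Type*} [Field F] {k : ℕ} {M : Subgroup (GL (Pt k) F)} {a q : Fin k}
variable {K : Type*} [Field K] (e : F →+* K) (i : K)

theorem bb_mon (haq : a ≠ q) {π : Equiv.Perm (Pt k)} {f : Pt k → ZMod 2} {β : Pt k} {s t s' c' : ZMod 2}
    (hπ : π (pl a q β t 0) = pl a q β s' c') :
    bb e i a q (mon F π f) β s t =
      if s = s' then (if c' = 1 then i else 1) * sgn K (f (pl a q β t 0)) else 0 := by
  simp only [bb, mon_apply, hπ, pl_eq_iff haq]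
  by_cases hs : s = s'
  · rcases zm_cases c' with rfl | rfl <;> simp [hs, map_sgn]
  · simp [hs]

theorem bb_of_blk {g : GL (Pt k) F} {β : Pt k} {A B C D : K} (h : blk e i a q g β = !![A, B; C, D]) :
    bb e i a q g β 0 0 = A ∧ bb e i a q g β 0 1 = B ∧ bb e i a q g β 1 0 = C ∧ bb e i a q g β 1 1 = D := by
  simpa [blk, and_assoc] using h

theorem root_sq {v c : K} (h : v * v = c * c) : ∃ ε : ZMod 2, v = c * sgn K ε := by
  rcases mul_self_eq_mul_self_iff.1 h with h | h
  · exact ⟨0, by simp [h]⟩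
  · exact ⟨1, by simp [h, sgn_one]⟩

include e in
/-- The statement over a field with a square root of minus one. -/
theorem block_mon_aux [Fintype K] (h2K : (2 : K) ≠ 0) (h2 : (2 : F) ≠ 0) (hM : Base M) (hS : Signs M)
    (haq : a ≠ q) (hk : 4 ≤ k) (hi : i * i = -1) {g : GL (Pt k) F} (hg : g ∈ LK M {a} {q}) :
    ∃ π f, g * sd F (ip (pe a)) * g⁻¹ = mon F π f ∧ (∀ y j, j ≠ a → j ≠ q → π y j = y j) ∧
      (∀ y, π (y + pe q) = π y + pe q) ∧ (∀ y, π (y + pe a) = π y + pe a) := by
  classical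
  set L := LK M ({a} : Finset (Fin k)) {q} with hL
  have hqs : ∀ {u w : Pt k}, Shp ({a} : Finset (Fin k)) {q} u w → u a = 0 ∧ w a = 0 ∧ w q = u q ∧
      ∀ j, j ≠ q → u j = 0 := fun {u w} hs =>
    ⟨hs.hu a (by simpa using haq), hs.hw a (by simp), hs.hq q (by simp), fun j hj => hs.hu j (by simpa using hj)⟩
  -- the generators
  let zg : L := ⟨sd F (ip (pe a)), mem_LK_of_conj (hM.quad _ (aff_ip _).quad) fun u w hs => by
    rw [← pau_sd, pau_comm, mul_assoc, mul_inv_cancel_right, ip_pe, (hqs hs).1, ip_comm w, ip_zero_left, add_zero,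
      sd_const_zero, one_mul]⟩
  let xg : L := ⟨pau F (pe a) 0, mem_LK_of_conj (pau_mem hM _ _) fun u w hs => by
    rw [pau_comm, mul_assoc, mul_inv_cancel_right, ip_zero_left, ip_pe_right, (hqs hs).2.1, add_zero,
      sd_const_zero, one_mul]⟩
  have hap : ip (pe a) (pe q) = 0 := by rw [ip_pe, pe_ne haq]
  let rg : L := ⟨sd F (qf (pe a) (pe q) 0) * pm F (trP (pe q) (pe a) 0 hap),
    mem_LK_of_conj (M.mul_mem (hM.quad _ (quad_qf _ _ _)) (hM.aff _ (affPerm_trP _ _ _ hap))) fun u w hs => by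
      rw [show ∀ X Y Z : GL (Pt k) F, X * Y * Z * (X * Y)⁻¹ = X * (Y * Z * Y⁻¹) * X⁻¹ from fun X Y Z => by group,
        tr_conj, ip_pe, (hqs hs).1, zero_mul, sd_const_zero, one_mul, zero_smul, add_zero, qd_conj,
        ip_pe_right, ip_pe, ip_pe, (hqs hs).1, zero_mul, sd_const_zero, one_mul, zero_smul, add_zero,
        (hqs hs).2.2.1, add_assoc, pt_add_self, add_zero]⟩
  obtain ⟨U, hU, hUv⟩ := hM.had a q haq
  let sg : L := ⟨U * sd F (ip (pe q)), mem_LK_of_conj (M.mul_mem hU (hM.quad _ (aff_ip _).quad)) fun u w hs => by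
    have h1 : exch a q u w = u := funext fun j => by
      simp only [exch]
      split_ifs with hj
      · rcases hj with rfl | rfl
        exacts [(hqs hs).2.1.trans (hqs hs).1.symm, (hqs hs).2.2.1]
      · rfl
    have h3 : exch a q w u = w := funext fun j => by
      simp only [exch]
      split_ifs with hj
      · rcases hj with rfl | rfl
        exacts [(hqs hs).1.trans (hqs hs).2.1.symm, (hqs hs).2.2.1.symm]
      · rfl
    rw [show ∀ X Y Z : GL (Pt k) F, X * Y * Z * (X * Y)⁻¹ = X * (Y * Z * Y⁻¹) * X⁻¹ from fun X Y Z => by group,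
      ← pau_sd (pe q), pau_comm, mul_assoc (sd F _), mul_inv_cancel_right, ip_pe, ip_comm w, ip_zero_left, add_zero,
      ← mul_assoc U, ← sd_const_mul, mul_assoc (sd F _), mul_assoc (sd F _), hh_conj haq hUv, h1, h3,
      (hqs hs).1, (hqs hs).2.2.1, zero_mul, zero_add, ← mul_assoc, ← sd_const_add]
    rcases zm_cases (u q) with hu | hu <;> simp [hu, sd_const_zero, CharTwo.add_self_eq_zero]⟩
  -- controlled generators
  have hla : ∀ l : Fin k, l ≠ a → ip (pe l) (pe a) = 0 := fun l hl => by rw [ip_pe, pe_ne hl]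
  let cz : ∀ l : Fin k, l ≠ a → l ≠ q → L := fun l _ hlq => ⟨sd F (qf (pe l) (pe a) 0),
    qd_LK hM (pe l) (pe a) 0 fun u w hs => ⟨by rw [ip_pe, (hqs hs).2.2.2 l hlq], by rw [ip_pe, (hqs hs).1]⟩⟩
  let cx : ∀ l : Fin k, l ≠ a → l ≠ q → L := fun l hla' hlq => ⟨pm F (trP (pe a) (pe l) 0 (hla l hla')),
    tr_LK hM _ _ 0 _ fun u w hs => ⟨by rw [ip_pe, (hqs hs).2.2.2 l hlq], by rw [ip_pe_right, (hqs hs).2.1]⟩⟩
  -- their blocks
  have hadd : ∀ (β : Pt k) (s c d d' : ZMod 2),
      pl a q β s c + (d • pe a + d' • pe q) = pl a q β (s + d) (c + d') := by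
    intro β s c d d'
    funext j
    by_cases h1 : j = a
    · subst h1; simp [pl_a, pe_ne haq]
    by_cases h3 : j = q
    · subst h3; simp [pl_q haq, pe_ne (Ne.symm haq)]
    simp [pl_off h1 h3, pe_ne h1, pe_ne h3]
  have bz : ∀ β, blk e i a q zg.1 β = !![1, 0; 0, -1] := fun β => by
    simp only [zg, ← mon_one_left, blk]
    rw [bb_mon e i haq (s' := 0) (c' := 0) rfl, bb_mon e i haq (s' := 1) (c' := 0) rfl,
      bb_mon e i haq (s' := 0) (c' := 0) rfl, bb_mon e i haq (s' := 1) (c' := 0) rfl]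
    simp [ip_pe, pl_a, sgn_one]
  have bx : ∀ β, blk e i a q xg.1 β = !![0, 1; 1, 0] := fun β => by
    have hπ : ∀ t, Equiv.addRight (pe a) (pl a q β t 0) = pl a q β (t + 1) 0 := fun t => by
      have := hadd β t 0 1 0
      simpa using this
    simp only [xg, pau_eq, blk]
    rw [bb_mon e i haq (hπ 0), bb_mon e i haq (hπ 1), bb_mon e i haq (hπ 0), bb_mon e i haq (hπ 1)]
    simp [ip_zero_left, show (1 : ZMod 2) + 1 = 0 by decide]
  have br : ∀ β, blk e i a q rg.1 β = !![1, 0; 0, -i] := fun β => by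
    have hπ : ∀ t, trP (pe q) (pe a) 0 hap (pl a q β t 0) = pl a q β t t := fun t => by
      have := hadd β t 0 0 t
      simpa [trP_apply, ip_pe, pl_a] using this
    simp only [rg]
    rw [← mon_one_left, ← mon_zero, mon_mul, one_mul]
    simp only [blk]
    rw [bb_mon e i haq (hπ 0), bb_mon e i haq (hπ 1), bb_mon e i haq (hπ 0), bb_mon e i haq (hπ 1)]
    simp [hπ, qf, ip_pe, pl_a, pl_q haq, sgn_one]
  have bs : ∀ β, blk e i a q sg.1 β = ((1 + i) * 2⁻¹) • !![1, 1; 1, -1] := fun β => by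
    have hent : ∀ s t : ZMod 2, bb e i a q sg.1 β s t = (1 + i) * 2⁻¹ * sgn K (s * t) := fun s t => by
      have hv : ∀ r, ((sg.1 : GL (Pt k) F) : Matrix (Pt k) (Pt k) F) (pl a q β s r) (pl a q β t 0) =
          2⁻¹ * sgn F (s * t) := fun r => by
        simp only [sg]
        rw [Units.val_mul, sd_apply, Matrix.mul_diagonal, hUv, hh, Matrix.of_apply,
          if_pos (show ∀ j, j ≠ a → j ≠ q → pl a q β s r j = pl a q β t 0 j from off_pl_pl β s r t 0)]
        simp [ip_pe, pl_a, pl_q haq]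
      rw [bb, hv, hv, map_mul, map_inv₀, map_sgn, map_ofNat]
      ring
    simp only [blk, hent]
    simp [sgn_one, Matrix.smul_of, Matrix.smul_cons]
  have bcz : ∀ l hla' hlq β, blk e i a q (cz l hla' hlq).1 β =
      if β l = 1 then !![1, 0; 0, -1] else 1 := fun l hla' hlq β => by
    simp only [cz, ← mon_one_left, blk]
    rw [bb_mon e i haq (s' := 0) (c' := 0) rfl, bb_mon e i haq (s' := 1) (c' := 0) rfl,
      bb_mon e i haq (s' := 0) (c' := 0) rfl, bb_mon e i haq (s' := 1) (c' := 0) rfl]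
    rcases zm_cases (β l) with hl | hl <;>
      simp [qf, ip_pe, pl_a, pl_off hla' hlq, hl, sgn_one, Matrix.one_fin_two]
  have bcx : ∀ l hla' hlq β, blk e i a q (cx l hla' hlq).1 β =
      if β l = 1 then !![0, 1; 1, 0] else 1 := fun l hla' hlq β => by
    have hπ : ∀ t, trP (pe a) (pe l) 0 (hla l hla') (pl a q β t 0) = pl a q β (t + β l) 0 := fun t => by
      have := hadd β t 0 (β l) 0
      simpa [trP_apply, ip_pe, pl_off hla' hlq] using this
    simp only [cx, ← mon_zero, blk]
    rw [bb_mon e i haq (hπ 0), bb_mon e i haq (hπ 1), bb_mon e i haq (hπ 0), bb_mon e i haq (hπ 1)]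
    rcases zm_cases (β l) with hl | hl <;> simp [hl, Matrix.one_fin_two, show (1 : ZMod 2) + 1 = 0 by decide]
  -- the projective images
  let G : Pt k → L →* GL (Fin 2) K := fun β => blkG e i h2 haq hi β
  have hGv : ∀ β (n : L), ((G β n : GL (Fin 2) K) : Matrix (Fin 2) (Fin 2) K) = blk e i a q n.1 β := fun β n => rfl
  let ψ : Pt k → L →* Matrix.ProjGenLinGroup (Fin 2) K := fun β => mk.comp (G β)
  let zK : GL (Fin 2) K := GeneralLinearGroup.mkOfDetNeZero !![1, 0; 0, -1] (by simp [Matrix.det_fin_two])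
  let xK : GL (Fin 2) K := GeneralLinearGroup.mkOfDetNeZero !![0, 1; 1, 0] (by simp [Matrix.det_fin_two])
  let hK : GL (Fin 2) K := GeneralLinearGroup.mkOfDetNeZero !![1, 1; 1, -1] (by
    simp [Matrix.det_fin_two]; intro h; exact h2K (by linear_combination -h))
  let rK : GL (Fin 2) K := GeneralLinearGroup.mkOfDetNeZero !![1, 0; 0, -i] (by
    simp [Matrix.det_fin_two]; intro h; rw [h, zero_mul] at hi; exact one_ne_zero (neg_eq_zero.1 hi.symm))
  obtain ⟨⟨hzz, hxx, hzx⟩, ⟨hz1, hx1, hne⟩, ⟨hhz, hhx⟩, hrz, hrx⟩ :=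
    pgl_facts (zg := zK) (xg := xK) (hg := hK) (rg := rK) h2K hi rfl rfl rfl rfl
  set Z := mk zK
  set X := mk xK
  have hψz : ∀ β, ψ β zg = Z := fun β => congrArg mk (Units.ext (bz β))
  have hψx : ∀ β, ψ β xg = X := fun β => congrArg mk (Units.ext (bx β))
  have hψr : ∀ β, ψ β rg = mk rK := fun β => congrArg mk (Units.ext (br β))
  have hci : (1 + i) * 2⁻¹ ≠ 0 := mul_ne_zero (fun h0 => h2K (by
    have : i = -1 := by linear_combination h0
    rw [this] at hi
    linear_combination hi)) (inv_ne_zero h2K)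
  have hψs : ∀ β, ψ β sg = mk hK := fun β =>
    (mk_ext_smul hci (bs β)).symm
  have hψc : ∀ l hla' hlq β, ψ β (cz l hla' hlq) = (if β l = 1 then Z else 1) ∧
      ψ β (cx l hla' hlq) = if β l = 1 then X else 1 := fun l hla' hlq β => by
    rcases zm_cases (β l) with hl | hl
    · rw [if_neg (by simp [hl]), if_neg (by simp [hl])]
      exact ⟨by rw [← map_one (mk (n := Fin 2) (R := K))]; exact congrArg mk (Units.ext (by
          rw [hGv, bcz l hla' hlq, if_neg (by simp [hl])]; rfl)),
        by rw [← map_one (mk (n := Fin 2) (R := K))]; exact congrArg mk (Units.ext (by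
          rw [hGv, bcx l hla' hlq, if_neg (by simp [hl])]; rfl))⟩
    · rw [if_pos hl, if_pos hl]
      exact ⟨congrArg mk (Units.ext (by rw [hGv, bcz l hla' hlq, if_pos hl]; rfl)),
        congrArg mk (Units.ext (by rw [hGv, bcx l hla' hlq, if_pos hl]; rfl))⟩
  have hGcongr : ∀ {β β' : Pt k}, Off a q β β' → ∀ n, G β n = G β' n := fun h n =>
    Units.ext (blk_congr e i _ h)
  have hself : ∀ t, t * Z = Z * t → t * X = X * t → InV Z X t := fun t ht ht' => by
    rcases mem_four h2K (z := zK) (x := xK) rfl rfl ht ht' with h | h | h | h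
    exacts [Or.inl h, Or.inr (Or.inl h), Or.inr (Or.inr (Or.inl h)),
      Or.inr (Or.inr (Or.inr (by rw [h, map_mul])))]
  have hFone : Fw Z X 1 := ⟨Or.inr (Or.inl (by simp)), Or.inr (Or.inr (Or.inl (by simp)))⟩
  have hFV : ∀ {v}, InV Z X v → Fw Z X v := fun hv => by
    simpa using hFone.mul_right hzx hv
  -- the flats
  let Gs : Finset (Fin k) → Pt k → Subgroup L := fun A β₀ =>
    ⨅ (β : Pt k), ⨅ (_ : ¬ ∀ j ∈ A, β j = β₀ j), (ψ β).ker
  have hGs : ∀ {A β₀} {n : L}, n ∈ Gs A β₀ ↔ ∀ β, (¬ ∀ j ∈ A, β j = β₀ j) → ψ β n = 1 := fun {A β₀ n} => by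
    simp [Gs, Subgroup.mem_iInf, MonoidHom.mem_ker]
  have hnormal : ∀ A β₀ (n m : L), n ∈ Gs A β₀ → m * n * m⁻¹ ∈ Gs A β₀ := fun A β₀ n m hn => hGs.2 fun β hβ => by
    rw [map_mul, map_mul, hGs.1 hn β hβ, mul_one, map_inv, mul_inv_cancel]
  obtain ⟨d, hd⟩ : ∃ d, d ∉ ({a, q} : Finset (Fin k)) := by
    by_contra hc
    push Not at hc
    have := Finset.card_le_card (show Finset.univ ⊆ ({a, q} : Finset (Fin k)) from fun x _ => hc x)
    rw [Finset.card_univ, Fintype.card_fin] at this
    have := Finset.card_le_two (a := a) (b := q)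
    omega
  obtain ⟨d', hd'⟩ : ∃ d', d' ∉ ({a, q, d} : Finset (Fin k)) := by
    by_contra hc
    push Not at hc
    have := Finset.card_le_card (show Finset.univ ⊆ ({a, q, d} : Finset (Fin k)) from fun x _ => hc x)
    rw [Finset.card_univ, Fintype.card_fin] at this
    have := Finset.card_le_three (a := a) (b := q) (c := d)
    omega
  simp only [Finset.mem_insert, Finset.mem_singleton, not_or] at hd hd'
  have claim : ∀ n, ∀ A : Finset (Fin k), a ∉ A → q ∉ A → A.card + n + 2 = k → ∀ β₀, ∀ m ∈ Gs A β₀, ∀ β,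
      Fw Z X (ψ β m) := by
    intro n
    induction n with
    | zero =>
      intro A haA hqA hA β₀ m hm β
      have hfull : ∀ j, j ≠ a → j ≠ q → j ∈ A := by
        have hAeq : A = ({a, q} : Finset (Fin k))ᶜ := Finset.eq_of_subset_of_card_le
          (fun j hj => by simp; exact ⟨fun h => haA (h ▸ hj), fun h => hqA (h ▸ hj)⟩)
          (by rw [Finset.card_compl, Finset.card_pair haq, Fintype.card_fin]; omega)
        intro j h1 h3
        rw [hAeq]; simp [h1, h3]
      suffices hW : (Gs A β₀).map (ψ β₀) = ⊥ by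
        by_cases hβ : ∀ j ∈ A, β j = β₀ j
        · have : ψ β m = ψ β₀ m := congrArg mk (hGcongr (fun j h h' => hβ j (hfull j h h')) m)
          rw [this, (Subgroup.eq_bot_iff_forall _).1 hW _ (Subgroup.mem_map_of_mem _ hm)]
          exact hFone
        · rw [hGs.1 hm β hβ]; exact hFone
      by_contra hW
      have hnor : ∀ (u : L) (w), w ∈ (Gs A β₀).map (ψ β₀) → ψ β₀ u * w * (ψ β₀ u)⁻¹ ∈ (Gs A β₀).map (ψ β₀) := by
        rintro u w ⟨m', hm', rfl⟩
        exact ⟨u * m' * u⁻¹, hnormal _ _ _ u hm', by simp⟩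
      obtain ⟨t, ⟨m', hm', rfl⟩, -, -, -, ht⟩ := fixed_of_normalised h2K (z := zK) (x := xK) rfl rfl
        (i := -i) (by rw [neg_mul_neg, hi]) (h := hK) (s := rK) rfl rfl _
        (fun w hw => by have := hnor zg w hw; rwa [hψz] at this)
        (fun w hw => by have := hnor xg w hw; rwa [hψx] at this)
        (fun w hw => by have := hnor sg w hw; rwa [hψs] at this)
        (fun w hw => by have := hnor rg w hw; rwa [hψr] at this) hW
      -- an exact commutator supported at one point
      obtain ⟨u, σ₁, τ₁, hne', hu0, hu1⟩ : ∃ (u : L) (σ₁ τ₁ : ZMod 2), (σ₁ = 1 ∨ τ₁ = 1) ∧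
          (∀ β', (∀ j ∈ A, β' j = β₀ j) → ∀ t, bb e i a q u.1 β' (t + σ₁) t * bb e i a q u.1 β' (t + σ₁) t =
            (if τ₁ = 1 then i else 1) * (if τ₁ = 1 then i else 1) ∧ bb e i a q u.1 β' (t + σ₁ + 1) t = 0) ∧
          ∀ β', (¬ ∀ j ∈ A, β' j = β₀ j) → blk e i a q u.1 β' = 1 := by
        have at0 : ∀ (N : L) {β'}, (∀ j ∈ A, β' j = β₀ j) →
            blk e i a q (m' * N * m'⁻¹ * N⁻¹).1 β' =
              ((G β₀ m' * G β₀ N * (G β₀ m')⁻¹ * (G β₀ N)⁻¹ : GL (Fin 2) K) : Matrix (Fin 2) (Fin 2) K) :=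
          fun N β' hβ' => by
            rw [← hGv, hGcongr (β' := β₀) (fun j h h' => hβ' j (hfull j h h')), map_mul, map_mul, map_mul, map_inv,
              map_inv]
        have out : ∀ (N : L) β', (¬ ∀ j ∈ A, β' j = β₀ j) → blk e i a q (m' * N * m'⁻¹ * N⁻¹).1 β' = 1 :=
          fun N β' hβ' => by
            rw [← hGv, map_mul, map_mul, map_mul, map_inv, map_inv, comm_one (hGs.1 hm' β' hβ')]
            rfl
        rcases ht with ht | ht | ht <;> obtain ⟨c, -, hc⟩ := exists_smul_of_mk ht.symm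
        · refine ⟨m' * sg * m'⁻¹ * sg⁻¹, 1, 0, Or.inl rfl, fun β' hβ' => ?_, out sg⟩
          have := at0 sg hβ'
          rw [comm_val (Q := !![0, 1; -1, 0]) hc (bs β₀) (by simp [zK, GeneralLinearGroup.mkOfDetNeZero, Matrix.mul_fin_two])] at this
          obtain ⟨e00, e01, e10, e11⟩ := bb_of_blk e i this
          simp only [Subgroup.coe_mul, InvMemClass.coe_inv] at e00 e01 e10 e11
          intro t
          rcases zm_cases t with rfl | rfl <;> simp [e00, e01, e10, e11, show (1 : ZMod 2) + 1 = 0 by decide]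
        · refine ⟨m' * sg * m'⁻¹ * sg⁻¹, 1, 0, Or.inl rfl, fun β' hβ' => ?_, out sg⟩
          have := at0 sg hβ'
          rw [comm_val (Q := !![0, -1; 1, 0]) hc (bs β₀) (by simp [xK, GeneralLinearGroup.mkOfDetNeZero, Matrix.mul_fin_two])] at this
          obtain ⟨e00, e01, e10, e11⟩ := bb_of_blk e i this
          simp only [Subgroup.coe_mul, InvMemClass.coe_inv] at e00 e01 e10 e11
          intro t
          rcases zm_cases t with rfl | rfl <;> simp [e00, e01, e10, e11, show (1 : ZMod 2) + 1 = 0 by decide]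
        · refine ⟨m' * rg * m'⁻¹ * rg⁻¹, 0, 1, Or.inr rfl, fun β' hβ' => ?_, out rg⟩
          have := at0 rg hβ'
          rw [comm_val (Q := !![-i, 0; 0, i]) (d := 1) (H := !![1, 0; 0, -i]) hc (by rw [one_smul]; exact br β₀)
            (by simp [zK, xK, GeneralLinearGroup.mkOfDetNeZero, Matrix.mul_fin_two, hi])] at this
          obtain ⟨e00, e01, e10, e11⟩ := bb_of_blk e i this
          simp only [Subgroup.coe_mul, InvMemClass.coe_inv] at e00 e01 e10 e11
          intro t
          rcases zm_cases t with rfl | rfl <;> simp [e00, e01, e10, e11, show (1 : ZMod 2) + 1 = 0 by decide]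
      let ind : Pt k → ZMod 2 := fun y => if ∀ j ∈ A, y j = β₀ j then 1 else 0
      have hind : ∀ x y, Off a q x y → ind x = ind y := fun x y h => by
        simp only [ind]
        congr 1
        exact propext (forall_congr' fun j => forall_congr' fun hj => by
          rw [h j (fun h' => haA (h' ▸ hj)) (fun h' => hqA (h' ▸ hj))])
      obtain ⟨f, hf⟩ := mon_of_blk e i h2K h2 hM haq hi u.2 (σ := fun y => σ₁ * ind y) (τ := fun y => τ₁ * ind y)
        (fun x y h => by rw [hind x y h]) (fun x y h => by rw [hind x y h]) (fun β' t => by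
          by_cases hβ' : ∀ j ∈ A, β' j = β₀ j
          · simp only [ind, if_pos hβ', mul_one]
            obtain ⟨h1, h3⟩ := hu0 β' hβ' t
            exact ⟨root_sq h1, h3⟩
          · simp only [ind, if_neg hβ', mul_zero, add_zero]
            have := hu1 β' hβ'
            rw [Matrix.one_fin_two] at this
            obtain ⟨e00, e01, e10, e11⟩ := bb_of_blk e i this
            rcases zm_cases t with rfl | rfl <;>
              exact ⟨⟨0, by simp [e00, e11]⟩, by simp [e01, e10, show (1 : ZMod 2) + 1 = 0 by decide]⟩)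
      have huM : mon F _ f ∈ M := hf ▸ (mem_LK.1 u.2).1
      have hinv : ∀ (y : Pt k) (j : Fin k), (j = a ∨ j = q) → ind (y + pe j) = ind y := fun y j hj =>
        hind _ _ fun l h h' => by
          simp [pe_ne (show l ≠ j by rcases hj with rfl | rfl <;> assumption)]
      have hnaff : ∀ c : Fin k, ¬ Aff (fun y => y c + ind y) := by
        intro c hA'
        have h := hA' (pe d) (pe d') β₀
        have i0 : ind β₀ = 1 := if_pos fun _ _ => rfl
        have hno : ∀ v : Pt k, (∃ j, j ≠ a ∧ j ≠ q ∧ v j = 1) → ind (β₀ + v) = 0 := fun v ⟨j, h1, h3, hv⟩ =>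
          if_neg fun h => by
            have := h j (hfull j h1 h3)
            simp [hv] at this
        have i1 := hno (pe d) ⟨d, hd.1, hd.2, pe_self d⟩
        have i3 := hno (pe d') ⟨d', hd'.1, hd'.2.1, pe_self d'⟩
        have i4 := hno (pe d + pe d') ⟨d, hd.1, hd.2, by simp [pe_ne (Ne.symm hd'.2.2)]⟩
        simp only [dl_apply] at h
        rw [i0, i1, add_assoc β₀, add_comm (pe d) (pe d') ] at h
        rw [show pe d' + pe d = pe d + pe d' from add_comm _ _] at h
        simp only [i3, i4, Pi.add_apply] at h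
        grind
      rcases hne' with hσ1 | hτ1
      · refine hnaff a ?_
        have := aff_coord hM hS huM (i := a) (j := q) (pe q)
          (fun y => by simp [shift2_apply, hinv y q (Or.inr rfl), pe_ne (Ne.symm haq), add_right_comm])
          (fun y => by simp [shift2_apply, hinv y q (Or.inr rfl), pe_ne haq, add_right_comm])
        simpa [shift2_apply, pe_ne haq, hσ1] using this
      · refine hnaff q ?_
        have := aff_coord hM hS huM (i := q) (j := a) (pe a)
          (fun y => by simp [shift2_apply, hinv y a (Or.inl rfl), pe_ne haq, add_right_comm])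
          (fun y => by simp [shift2_apply, hinv y a (Or.inl rfl), pe_ne (Ne.symm haq), add_right_comm])
        simpa [shift2_apply, pe_ne (Ne.symm haq), hτ1] using this
    | succ n ih =>
      intro A haA hqA hA β₀
      obtain ⟨l, hl⟩ : ∃ l, l ∉ A ∪ {a, q} := by
        by_contra hc
        push Not at hc
        have := Finset.card_le_card (show Finset.univ ⊆ A ∪ {a, q} from fun x _ => hc x)
        rw [Finset.card_univ, Fintype.card_fin] at this
        have := Finset.card_union_le A {a, q}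
        have := Finset.card_le_two (a := a) (b := q)
        omega
      simp only [Finset.mem_union, Finset.mem_insert, Finset.mem_singleton, not_or] at hl
      obtain ⟨hlA, hla', hlq⟩ := hl
      have key : ∀ (β : Pt k) (P : L) (Pc : L) (v : Matrix.ProjGenLinGroup (Fin 2) K), InV Z X v →
          (∀ β', ψ β' P = v) → (∀ β', ψ β' Pc = if β' l = 1 then v else 1) →
          ∀ m ∈ Gs A β₀, Fw Z X (ψ β m * v * (ψ β m)⁻¹) := by
        intro β P Pc v hv hP hPc m hm
        by_cases hβ : ∀ j ∈ A, β j = β₀ j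
        swap
        · rw [hGs.1 hm β hβ, inv_one, mul_one, one_mul]; exact hFV hv
        have hvv : v * v = 1 := by
          have := hv.inv_eq hzz hxx hzx
          conv_lhs => arg 1; rw [← this]
          rw [inv_mul_cancel]
        let N : L := if β l = 1 then Pc else P * Pc
        have hN : ∀ β', ψ β' N = if β' l = β l then v else 1 := fun β' => by
          rcases zm_cases (β l) with h | h <;> rcases zm_cases (β' l) with h' | h' <;>
            simp [N, h, h', hPc, hP, hvv]
        have hmem : m * N * m⁻¹ * N⁻¹ ∈ Gs (insert l A) (Function.update β₀ l (β l)) := hGs.2 fun β' hβ' => by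
          rw [map_mul, map_mul, map_mul, map_inv, map_inv, hN]
          by_cases hl' : β' l = β l
          · have : ¬ ∀ j ∈ A, β' j = β₀ j := fun h => hβ' fun j hj => by
              rcases Finset.mem_insert.1 hj with rfl | hj
              · rw [Function.update_self, hl']
              · rw [Function.update_of_ne (fun e' : j = l => hlA (e' ▸ hj)), h j hj]
            simp [hGs.1 hm β' this]
          · simp [hl']
        have := ih (insert l A) (by simp [haA, Ne.symm hla']) (by simp [hqA, Ne.symm hlq])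
          (by rw [Finset.card_insert_of_notMem hlA]; omega) _ _ hmem β
        rw [map_mul, map_mul, map_mul, map_inv, map_inv, hN, if_pos rfl] at this
        simpa [mul_assoc] using this.mul_right hzx hv
      intro m hm β
      have hJ : ∀ y ∈ ((Gs A β₀).map (ψ β) : Set _), Fw Z X (y * Z * y⁻¹) ∧ Fw Z X (y * X * y⁻¹) := by
        rintro y ⟨m', hm', rfl⟩
        exact ⟨key β zg (cz l hla' hlq) Z (Or.inr (Or.inl rfl)) hψz (fun β' => (hψc l hla' hlq β').1) m' hm',
          key β xg (cx l hla' hlq) X (Or.inr (Or.inr (Or.inl rfl))) hψx (fun β' => (hψc l hla' hlq β').2) m' hm'⟩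
      have hconj : ∀ (u : L), ∀ y ∈ ((Gs A β₀).map (ψ β) : Set _), ψ β u * y * (ψ β u)⁻¹ ∈
          ((Gs A β₀).map (ψ β) : Set _) := by
        rintro u y ⟨m', hm', rfl⟩
        exact ⟨u * m' * u⁻¹, hnormal _ _ _ u hm', by simp⟩
      have hconjh : ∀ y ∈ ((Gs A β₀).map (ψ β) : Set _), mk hK * y * (mk hK)⁻¹ ∈
          ((Gs A β₀).map (ψ β) : Set _) := fun y hy => hψs β ▸ hconj sg y hy
      have main : ∀ y ∈ ((Gs A β₀).map (ψ β) : Set _), InV Z X (y * Z * y⁻¹) := fun y hy =>
        inV_conj hzz hxx hzx hz1 hx1 hne hself hhz hhx hrz hrx hconjh (fun y hy => hψr β ▸ hconj rg y hy)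
          (fun y hy y' hy' => ((Gs A β₀).map (ψ β)).mul_mem (((Gs A β₀).map (ψ β)).inv_mem hy) hy') hJ hy
      have hy : ψ β m ∈ ((Gs A β₀).map (ψ β) : Set _) := Subgroup.mem_map_of_mem _ hm
      refine ⟨main _ hy, ?_⟩
      have hy' : (mk hK)⁻¹ * ψ β m * mk hK ∈ ((Gs A β₀).map (ψ β) : Set _) := by
        have := hconj sg⁻¹ _ hy
        rwa [map_inv, hψs, inv_inv] at this
      have h1 := (show Fw Z X (mk hK) from ⟨Or.inr (Or.inr (Or.inl hhz)), Or.inr (Or.inl hhx)⟩).inV hzz hxx hzx
        (main _ hy')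
      have e1 : mk hK * ((mk hK)⁻¹ * ψ β m * mk hK * Z * ((mk hK)⁻¹ * ψ β m * mk hK)⁻¹) * (mk hK)⁻¹ =
          ψ β m * (mk hK * Z * (mk hK)⁻¹) * (ψ β m)⁻¹ := by group
      rwa [e1, hhz] at h1
  -- the sign of the free coordinate
  let g' : L := ⟨g, hg⟩
  let u : L := g' * zg * g'⁻¹
  have hV : ∀ β, InV Z X (ψ β u) := fun β => by
    have := (claim (k - 2) ∅ (by simp) (by simp) (by simp; omega) 0 g' (hGs.2 fun β' h => absurd (by simp) h) β).1
    simpa [u, hψz] using this
  have hu2 : u * u = 1 := by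
    have hz2 : zg * zg = 1 := Subtype.ext (by
      show sd F (ip (pe a)) * sd F (ip (pe a)) = 1
      rw [sd_mul, show ip (pe a) + ip (pe a) = (0 : Pt k → ZMod 2) from funext fun x => CharTwo.add_self_eq_zero _,
        sd_zero])
    rw [show u * u = g' * (zg * zg) * g'⁻¹ by simp only [u]; group, hz2, mul_one, mul_inv_cancel]
  have hst : ∀ β, ∃ σ τ : ZMod 2, ∀ t, (bb e i a q u.1 β (t + σ) t * bb e i a q u.1 β (t + σ) t =
      (if τ = 1 then i else 1) * (if τ = 1 then i else 1)) ∧ bb e i a q u.1 β (t + σ + 1) t = 0 := by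
    intro β
    have hne1 : ψ β u ≠ 1 := fun h => hz1 (by
      have := h
      simp only [u, map_mul, map_inv, hψz, conj_eq_one_iff] at this
      exact this)
    have hsq : ((G β u : GL (Fin 2) K) : Matrix (Fin 2) (Fin 2) K) * (G β u : GL (Fin 2) K).val = 1 := by
      rw [← Units.val_mul, ← map_mul, hu2, map_one]; rfl
    rcases hV β with h | h | h | h
    · exact absurd h hne1
    · obtain ⟨c, -, hc⟩ := exists_smul_of_mk h.symm
      rw [hc] at hsq
      have hcc : c * c = 1 := by
        have := congrFun (congrFun hsq 0) 0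
        simpa [zK, GeneralLinearGroup.mkOfDetNeZero, Matrix.mul_apply, Fin.sum_univ_two] using this
      have hb : blk e i a q u.1 β = !![c, 0; 0, -c] := by
        rw [← hGv, hc]; simp [zK, GeneralLinearGroup.mkOfDetNeZero, Matrix.smul_of, Matrix.smul_cons]
      obtain ⟨e00, e01, e10, e11⟩ := bb_of_blk e i hb
      refine ⟨0, 0, fun t => ?_⟩
      rcases zm_cases t with rfl | rfl <;> simp [e00, e01, e10, e11, hcc, show (1 : ZMod 2) + 1 = 0 by decide]
    · obtain ⟨c, -, hc⟩ := exists_smul_of_mk h.symm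
      rw [hc] at hsq
      have hcc : c * c = 1 := by
        have := congrFun (congrFun hsq 0) 0
        simpa [xK, GeneralLinearGroup.mkOfDetNeZero, Matrix.mul_apply, Fin.sum_univ_two] using this
      have hb : blk e i a q u.1 β = !![0, c; c, 0] := by
        rw [← hGv, hc]; simp [xK, GeneralLinearGroup.mkOfDetNeZero, Matrix.smul_of, Matrix.smul_cons]
      obtain ⟨e00, e01, e10, e11⟩ := bb_of_blk e i hb
      refine ⟨1, 0, fun t => ?_⟩
      rcases zm_cases t with rfl | rfl <;> simp [e00, e01, e10, e11, hcc, show (1 : ZMod 2) + 1 = 0 by decide]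
    · rw [← map_mul] at h
      obtain ⟨c, -, hc⟩ := exists_smul_of_mk h.symm
      rw [hc] at hsq
      have hcc : c * c = -1 := by
        have := congrFun (congrFun hsq 0) 0
        simp [zK, xK, GeneralLinearGroup.mkOfDetNeZero, Matrix.mul_apply, Fin.sum_univ_two] at this
        linear_combination -this
      have hb : blk e i a q u.1 β = !![0, c; -c, 0] := by
        rw [← hGv, hc]; simp [zK, xK, GeneralLinearGroup.mkOfDetNeZero, Matrix.smul_of, Matrix.smul_cons]
      obtain ⟨e00, e01, e10, e11⟩ := bb_of_blk e i hb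
      refine ⟨1, 1, fun t => ?_⟩
      rcases zm_cases t with rfl | rfl <;> simp [e00, e01, e10, e11, hcc, hi, show (1 : ZMod 2) + 1 = 0 by decide]
  choose σ τ hστ using hst
  have hnorm : ∀ {x y : Pt k}, Off a q x y → pl a q x 0 0 = pl a q y 0 0 := fun h => pl_congr h 0 0
  obtain ⟨f, hf⟩ := mon_of_blk e i h2K h2 hM haq hi u.2
    (σ := fun y => σ (pl a q y 0 0)) (τ := fun y => τ (pl a q y 0 0))
    (fun x y h => by rw [hnorm h]) (fun x y h => by rw [hnorm h]) (fun β t => by
      obtain ⟨h1, h3⟩ := hστ (pl a q β 0 0) t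
      have ee : ∀ s r, bb e i a q u.1 (pl a q β 0 0) s r = bb e i a q u.1 β s r := fun s r => by
        simp only [bb, pl_congr (off_pl β 0 0)]
      rw [ee] at h1 h3
      exact ⟨root_sq h1, h3⟩)
  refine ⟨_, f, hf, fun y j h1 h3 => by simp [shift2_apply, pe_ne h1, pe_ne h3], fun y => ?_, fun y => ?_⟩
  all_goals
    rw [shift2_apply, shift2_apply]
  · rw [hnorm (x := y + pe q) (y := y) fun j h h' => by simp [pe_ne h']]
    abel
  · rw [hnorm (x := y + pe a) (y := y) fun j h h' => by simp [pe_ne h]]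
    abel

/-- Conjugates of the free sign in a level with one free coordinate and one complex structure. -/
theorem block_mon [Finite F] (h2 : (2 : F) ≠ 0) (hM : Base M) (hS : Signs M) {a q : Fin k} (haq : a ≠ q)
    (hk : 4 ≤ k) {g : GL (Pt k) F} (hg : g ∈ LK M {a} {q}) :
    ∃ π f, g * sd F (ip (pe a)) * g⁻¹ = mon F π f ∧ (∀ y j, j ≠ a → j ≠ q → π y j = y j) ∧
      (∀ y, π (y + pe q) = π y + pe q) ∧ (∀ y, π (y + pe a) = π y + pe a) := by
  let P : Polynomial F := Polynomial.X ^ 2 + Polynomial.C 1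
  let e : F →+* P.SplittingField := algebraMap F P.SplittingField
  haveI : Finite P.SplittingField := Module.finite_of_finite F
  letI := Fintype.ofFinite P.SplittingField
  have hdeg : (P.map e).degree ≠ 0 := by
    rw [Polynomial.degree_map, show P.degree = (2 : ℕ) from Polynomial.degree_X_pow_add_C (by norm_num) 1]
    decide
  obtain ⟨r, hr⟩ := (Polynomial.SplittingField.splits P).exists_eval_eq_zero hdeg
  have hr' : r * r = -1 := by
    rw [Polynomial.eval_map] at hr
    simp [P] at hr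
    linear_combination hr
  exact block_mon_aux e r (fun h0 => h2 (e.injective (by rw [map_ofNat, map_zero, h0]))) h2 hM hS haq hk hr' hg

end block

end Cfsg.Agent.C6Plus10
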