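import Cfsg.Agent.Lib.C6Minus10Level
import Cfsg.Agent.Lib.C6Minus10BottomPGL
import Cfsg.Agent.Lib.C6Plus10Ctl
import Cfsg.Agent.Lib.C6Plus10Block

/-!
The bottom level of an overgroup in the minus-type model: the elements centralising every sign of the points are
families of quaternion normalisers, the family is controlled, and they normalise.
-/

set_option autoImplicit false
set_option linter.unusedSectionVars false
set_option maxHeartbeats 1000000

namespace Cfsg.Agent.C6Minus10

open Matrix Cfsg.Agent.C6Plus10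
open scoped MatrixGroups
open Matrix.ProjGenLinGroup (mk)

variable {F : Type*} [Field F] {j : ℕ} {p : Par F} {M : Subgroup (GL (Ix j) F)}

/-! ### Block-diagonal elements -/

theorem blk_inj {N N' : Pt j → GL (Fin 2) F} (h : blk N = blk N') : N = N' := by
  funext x
  refine Units.ext (Matrix.ext fun i l => ?_)
  have := congrArg (fun g : GL (Ix j) F => (g : Matrix (Ix j) (Ix j) F) (x, i) (x, l)) h
  simpa [blk_val, blkM_apply] using this

theorem comm_sd_entry (h2 : (2 : F) ≠ 0) {g : GL (Ix j) F} {f : Pt j → ZMod 2}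
    (h : g * up (sd F f) = up (sd F f) * g) {u v : Ix j} (hne : f u.1 ≠ f v.1) : g.val u v = 0 := by
  have hv : (up (sd F f)).val = Matrix.diagonal fun w : Ix j => sgn F (f w.1) := by
    ext ⟨x, i⟩ ⟨y, l⟩
    rw [up_val, upM_apply, sd_apply]
    by_cases h1 : x = y <;> by_cases h3 : i = l <;> simp [h1, h3]
  have e := congrArg (fun w : GL (Ix j) F => (w : Matrix (Ix j) (Ix j) F) u v) h
  simp only [Units.val_mul, hv, Matrix.mul_diagonal, Matrix.diagonal_mul] at e
  have e' : (sgn F (f u.1) - sgn F (f v.1)) * g.val u v = 0 := by linear_combination -e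
  exact (mul_eq_zero.1 e').resolve_left (sub_ne_zero.2 fun e2 => hne (sgn_inj h2 e2))

theorem blk_of_comm (h2 : (2 : F) ≠ 0) {g : GL (Ix j) F}
    (h : ∀ i, g * up (sd F (ip (pe i))) = up (sd F (ip (pe i))) * g) : ∃ N, g = blk N := by
  have key : ∀ w : GL (Ix j) F, (∀ i, w * up (sd F (ip (pe i))) = up (sd F (ip (pe i))) * w) →
      w.val = blkM fun x => Matrix.of fun i l => w.val (x, i) (x, l) := by
    intro w hw
    ext ⟨x, i⟩ ⟨y, l⟩
    rw [blkM_apply]
    by_cases hxy : x = y
    · subst hxy; simp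
    · obtain ⟨t, ht⟩ := Function.ne_iff.1 hxy
      rw [if_neg hxy, comm_sd_entry h2 (hw t) (by simpa [ip_pe] using ht)]
  have h1 := key g h
  have h3 := key g⁻¹ fun i => (Commute.inv_left (h i)).eq
  have ent : ∀ A B : Pt j → Matrix (Fin 2) (Fin 2) F, blkM A * blkM B = 1 → ∀ x, A x * B x = 1 := by
    intro A B e x
    ext i l
    have := congrFun (congrFun e (x, i)) (x, l)
    rw [← blkM_mul, blkM_apply, if_pos rfl] at this
    simpa [Matrix.one_apply] using this
  have h13 := Units.mul_inv g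
  have h31 := Units.inv_mul g
  rw [h1, h3] at h13 h31
  refine ⟨fun x => ⟨Matrix.of fun i l => g.val (x, i) (x, l), Matrix.of fun i l => (g⁻¹).val (x, i) (x, l),
    ent _ _ h13 x, ent _ _ h31 x⟩, Units.ext ?_⟩
  rw [blk_val]
  exact h1

theorem det_one (hM : BaseMinus p M) {N : Pt j → GL (Fin 2) F} (hN : blk N ∈ M) (x : Pt j) : (N x).val.det = 1 := by
  classical
  have h := hM.le hN (Pi.single (x, 0) 1) (Pi.single (x, 1) 1)
  have e : ∀ (u : Fin 2) (y : Pt j) (i : Fin 2),
      ((blk N).val *ᵥ Pi.single (x, u) 1) (y, i) = if y = x then (N x).val i u else 0 := fun u y i => by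
    rw [Matrix.mulVec_single_one, Matrix.col_apply, blk_val, blkM_apply]
    by_cases hy : y = x
    · subst hy; simp
    · simp [hy]
  simp only [sform, e] at h
  rw [Finset.sum_eq_single x (fun y _ hy => by simp [hy]) (by simp),
    Finset.sum_eq_single x (fun y _ hy => by simp [hy]) (by simp)] at h
  simp at h
  rw [Matrix.det_fin_two]
  linear_combination h

/-! ### Quaternion families -/

theorem qel_sg (p : Par F) (c d e : ZMod 2) : qel p c d e = sg c * qel p 0 d e := by simp [qel, mul_assoc]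

theorem qel_shift (p : Par F) (c c' d e : ZMod 2) : qel p c d e = sg (c + c') * qel p c' d e := by
  rw [qel_sg, qel_sg p c', ← mul_assoc, ← sg_add, add_assoc, CharTwo.add_self_eq_zero, add_zero]

theorem qel_comm (p : Par F) (c d e c' d' e' : ZMod 2) :
    qel p c d e * qel p c' d' e' * (qel p c d e)⁻¹ = sg (e * d' + e' * d) * qel p c' d' e' := by
  refine mul_inv_eq_iff_eq_mul.2 ?_
  rw [show (sg (e * d' + e' * d) : GL (Fin 2) F) = qel p (e * d' + e' * d) 0 0 by simp [qel], qel_mul,
    qel_mul, qel_mul]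
  congr 1 <;> grind

theorem if_jq (p : Par F) (c : ZMod 2) : (if c = 0 then 1 else jq : GL (Fin 2) F) = qel p 0 c 0 := by simp [qel]

theorem if_aq (p : Par F) (c : ZMod 2) : (if c = 0 then 1 else aq p : GL (Fin 2) F) = qel p 0 0 c := by simp [qel]

theorem exists_third (hj : 3 ≤ j) (a b : Fin j) : ∃ l, l ≠ a ∧ l ≠ b := by
  classical
  by_contra hc
  push Not at hc
  have := Finset.card_le_card (show Finset.univ ⊆ ({a, b} : Finset (Fin j)) from fun x _ => by
    by_cases h : x = a
    · simp [h]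
    · simp [hc x h])
  rw [Finset.card_univ, Fintype.card_fin] at this
  have := Finset.card_le_two (a := a) (b := b)
  omega

theorem aff_coord' (l : Fin j) : Aff fun x : Pt j => x l := by
  have : ip (pe l) = fun x : Pt j => x l := funext fun x => ip_pe l x
  exact this ▸ aff_ip (pe l)

theorem aff_of_quad_mul (hj : 3 ≤ j) {s : Pt j → ZMod 2} (hs : Quad s) (h : ∀ l, Quad fun x => s x * x l) :
    Aff s := by
  refine aff_of_basis fun a b x => ?_
  obtain ⟨l, hla, hlb⟩ := exists_third hj a b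
  have h1 := h l (pe a) (pe b) (pe l) x
  have h3 := hs (pe a) (pe b) (pe l) x
  simp only [dl_apply, Pi.add_apply, pe_self, pe_ne hla, pe_ne hlb, add_zero] at h1 h3 ⊢
  grind

theorem quad_of_dl {φ : Pt j → ZMod 2} (h : ∀ i, Aff (dl (pe i) φ)) : Quad φ := by
  intro a b c x
  have hs := const_of_dl (s := dl a (dl b φ)) (fun i y => by
    have h' := h i a b y
    simp only [dl_apply, add_right_comm _ (pe i)] at h' ⊢
    grind)
  have h1 := hs (x + c)
  have h3 := hs x
  simp only [dl_apply, add_right_comm _ c] at h1 h3 ⊢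
  grind

theorem blk_sg_mem (hS : SignsMinus M) {f : Pt j → ZMod 2} (h : blk (fun x => (sg (f x) : GL (Fin 2) F)) ∈ M) :
    Quad f := hS f (by rwa [← blk_sg])

/-- A quaternion family in the overgroup has affine classes and quadratic signs. -/
theorem blk_q (hM : BaseMinus p M) (hS : SignsMinus M) (hj : 3 ≤ j) {f d e : Pt j → ZMod 2}
    (h : blk (fun x => qel p (f x) (d x) (e x)) ∈ M) : Aff d ∧ Aff e ∧ Quad f := by
  have key : ∀ (w : Pt j → ZMod 2), Aff w → ∀ d' e', Quad fun x => (e x * d' + e' * d x) * w x := by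
    intro w hw d' e'
    have hC := hM.ctrl w hw _ (qel_mem p 0 d' e')
    have hm := M.mul_mem (M.mul_mem (M.mul_mem h hC) (M.inv_mem h)) (M.inv_mem hC)
    rw [← map_inv, ← map_inv, ← map_mul, ← map_mul, ← map_mul] at hm
    refine blk_sg_mem hS ?_
    convert hm using 2
    funext x
    simp only [Pi.mul_apply, Pi.inv_apply]
    rcases zm_cases (w x) with hx | hx <;> rw [hx]
    · simp
    · rw [if_neg one_ne_zero, mul_one, qel_comm, mul_inv_cancel_right]
  have hl : ∀ l : Fin j, Aff fun x : Pt j => x l := aff_coord'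
  have he : Aff e := aff_of_quad_mul hj (by simpa using key _ (aff_const 1) 1 0)
    fun l => by simpa using key _ (hl l) 1 0
  have hd : Aff d := aff_of_quad_mul hj (by simpa using key _ (aff_const 1) 0 1)
    fun l => by simpa using key _ (hl l) 0 1
  have hm := M.mul_mem (M.mul_mem h (hM.ctrl d hd jq (jq_mem p))) (hM.ctrl e he (aq p) (aq_mem p))
  rw [← map_mul, ← map_mul] at hm
  have hq : Quad fun x => f x + e x * d x + d x + e x := by
    refine blk_sg_mem hS ?_
    convert hm using 2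
    funext x
    simp only [Pi.mul_apply]
    rw [if_jq p, if_aq p, qel_mul, qel_mul, show (sg (f x + e x * d x + d x + e x) : GL (Fin 2) F) =
      qel p (f x + e x * d x + d x + e x) 0 0 by simp [qel]]
    congr 1 <;> rcases zm_cases (d x) with e1 | e1 <;> rcases zm_cases (e x) with e2 | e2 <;> grind
  refine ⟨hd, he, ?_⟩
  have := ((hq.add (he.mul hd)).add hd.quad).add he.quad
  convert this using 1
  funext x
  grind

/-! ### The flats -/

/-- Every block of an element of the bottom level normalises the quaternion group. -/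
theorem conj_q8 [Finite F] (h2 : (2 : F) ≠ 0) (hM : BaseMinus p M) (hS : SignsMinus M) (hj : 3 ≤ j)
    {N : Pt j → GL (Fin 2) F} (hN : blk N ∈ M) (x : Pt j) : ∀ q ∈ Q8 p, N x * q * (N x)⁻¹ ∈ Q8 p := by
  classical
  letI := Fintype.ofFinite F
  let P : Subgroup (Pt j → GL (Fin 2) F) := M.comap blk
  let ψ : Pt j → P →* Matrix.ProjGenLinGroup (Fin 2) F :=
    fun y => (mk.comp (Pi.evalMonoidHom _ y)).comp P.subtype
  obtain ⟨⟨hjj, haa, hja⟩, hj1, ha1, hne⟩ := pgl_four p h2
  obtain ⟨hrj, hra⟩ := mk_rot p h2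
  set U : Matrix.ProjGenLinGroup (Fin 2) F := mk jq with hU
  set V : Matrix.ProjGenLinGroup (Fin 2) F := mk (aq p) with hV
  set R : Matrix.ProjGenLinGroup (Fin 2) F := mk (rotU p h2) with hR
  let jP : P := ⟨fun _ => jq, hM.q8 _ (jq_mem p)⟩
  let aP : P := ⟨fun _ => aq p, hM.q8 _ (aq_mem p)⟩
  let rP : P := ⟨fun _ => rotU p h2, by
    obtain ⟨w, hw, hwM⟩ := hM.rot
    have : w = rotU p h2 := Units.ext hw
    subst this
    exact hwM⟩
  let Gs : Finset (Fin j) → Pt j → Subgroup P :=
    fun A β₀ => ⨅ (β : Pt j), ⨅ (_ : ¬ ∀ i ∈ A, β i = β₀ i), (ψ β).ker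
  have hGs : ∀ {A β₀} {n : P}, n ∈ Gs A β₀ ↔ ∀ β, (¬ ∀ i ∈ A, β i = β₀ i) → ψ β n = 1 := fun {A β₀ n} => by
    simp [Gs, Subgroup.mem_iInf, MonoidHom.mem_ker]
  have hnormal : ∀ A β₀ (n m : P), n ∈ Gs A β₀ → m * n * m⁻¹ ∈ Gs A β₀ := fun A β₀ n m hn => hGs.2 fun β hβ => by
    rw [map_mul, map_mul, hGs.1 hn β hβ, mul_one, map_inv, mul_inv_cancel]
  have hFone : Fw U V 1 := ⟨Or.inr (Or.inl (by simp)), Or.inr (Or.inr (Or.inl (by simp)))⟩
  have claim : ∀ n, ∀ A : Finset (Fin j), A.card + n = j → ∀ β₀, ∀ m ∈ Gs A β₀, ∀ β, Fw U V (ψ β m) := by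
    intro n
    induction n with
    | zero =>
      intro A hA β₀ m hm β
      have hAu : A = Finset.univ := Finset.eq_univ_of_card A (by rw [Fintype.card_fin]; omega)
      suffices hW : (Gs A β₀).map (ψ β₀) = ⊥ by
        by_cases hβ : ∀ i ∈ A, β i = β₀ i
        · have : β = β₀ := funext fun i => hβ i (hAu ▸ Finset.mem_univ i)
          rw [this, (Subgroup.eq_bot_iff_forall _).1 hW _ (Subgroup.mem_map_of_mem _ hm)]
          exact hFone
        · rw [hGs.1 hm β hβ]; exact hFone
      by_contra hW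
      have hnor : ∀ (u : P) (w), w ∈ (Gs A β₀).map (ψ β₀) → ψ β₀ u * w * (ψ β₀ u)⁻¹ ∈ (Gs A β₀).map (ψ β₀) := by
        rintro u w ⟨m', hm', rfl⟩
        exact ⟨u * m' * u⁻¹, hnormal _ _ _ u hm', by simp⟩
      have fin : ∀ d0 e0 d e : ZMod 2, e0 * d + e * d0 = 1 → mk (qel p 0 d0 e0) ∈ (Gs A β₀).map (ψ β₀) → False := by
        rintro d0 e0 d e hε ⟨m', hm', hm''⟩
        have hm0 : mk (m'.1 β₀) = mk (qel p 0 d0 e0) := hm''
        set q := qel p 0 d e with hq
        have hmem := M.mul_mem (M.mul_mem (M.mul_mem m'.2 (hM.q8 q (qel_mem p 0 d e))) (M.inv_mem m'.2))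
          (M.inv_mem (hM.q8 q (qel_mem p 0 d e)))
        rw [cst_eq, ← map_inv, ← map_inv, ← map_mul, ← map_mul, ← map_mul] at hmem
        let δ : Pt j → ZMod 2 := fun y => if y = β₀ then 1 else 0
        have hQ : Quad δ := by
          refine blk_sg_mem hS ?_
          convert hmem using 2
          funext y
          simp only [Pi.mul_apply, Pi.inv_apply, δ]
          by_cases hy : y = β₀
          · subst hy
            rw [if_pos rfl, conj_of_mk hm0, hq, qel_comm, hε, mul_inv_cancel_right]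
          · have hy1 : mk (m'.1 y) = mk (1 : GL (Fin 2) F) := by
              rw [map_one]
              exact hGs.1 hm' y fun h => hy (funext fun i => h i (hAu ▸ Finset.mem_univ i))
            rw [if_neg hy, conj_of_mk hy1]
            simp
        let i0 : Fin j := ⟨0, by omega⟩
        let i1 : Fin j := ⟨1, by omega⟩
        let i3 : Fin j := ⟨2, by omega⟩
        have h01 : i0 ≠ i1 := by simp [i0, i1]
        have h03 : i0 ≠ i3 := by simp [i0, i3]
        have h13 : i1 ≠ i3 := by simp [i1, i3]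
        have hno : ∀ (v : Pt j) (i : Fin j), v i = 1 → δ (β₀ + v) = 0 := fun v i hv =>
          if_neg fun h => by simpa [hv] using congrFun h i
        have h := hQ (pe i0) (pe i1) (pe i3) β₀
        simp only [dl_apply, add_assoc] at h
        rw [hno (pe i0 + (pe i1 + pe i3)) i0 (by simp [pe_ne h01, pe_ne h03]),
          hno (pe i0 + pe i1) i0 (by simp [pe_ne h01]), hno (pe i0 + pe i3) i0 (by simp [pe_ne h03]),
          hno (pe i1 + pe i3) i1 (by simp [pe_ne h13]), hno (pe i0) i0 (pe_self _), hno (pe i1) i1 (pe_self _),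
          hno (pe i3) i3 (pe_self _), show δ β₀ = 1 from if_pos rfl] at h
        simp at h
      rcases fixed_of_rot p h2 _ (fun w hw => hnor jP w hw) (fun w hw => hnor aP w hw)
        (fun w hw => hnor rP w hw) hW with ht | ht | ht
      · exact fin 1 0 0 1 (by simp) (by simpa [qel] using ht)
      · exact fin 0 1 1 0 (by simp) (by simpa [qel] using ht)
      · exact fin 1 1 1 0 (by simp) (by simpa [qel] using ht)
    | succ n ih =>
      intro A hA β₀
      obtain ⟨l, hl⟩ : ∃ l, l ∉ A := by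
        by_contra hc
        push Not at hc
        rw [Finset.eq_univ_of_forall hc, Finset.card_univ, Fintype.card_fin] at hA
        omega
      have key : ∀ (β : Pt j) (q : GL (Fin 2) F), q ∈ Q8 p → InV U V (mk q) → ∀ m ∈ Gs A β₀,
          Fw U V (ψ β m * mk q * (ψ β m)⁻¹) := by
        intro β q hq hv m hm
        by_cases hβ : ∀ i ∈ A, β i = β₀ i
        swap
        · rw [hGs.1 hm β hβ, inv_one, mul_one, one_mul]
          simpa using hFone.mul_right hja hv
        have hw : Aff fun y : Pt j => y l + (β l + 1) :=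
          (aff_coord' l).add (aff_const _)
        let C : P := ⟨_, hM.ctrl _ hw q hq⟩
        have hC : ∀ y, C.1 y = if y l = β l then q else 1 := fun y => by
          show (if y l + (β l + 1) = 0 then 1 else q) = _
          rcases zm_cases (y l) with e | e <;> rcases zm_cases (β l) with e' | e' <;> rw [e, e'] <;>
            simp [show (1 : ZMod 2) + 1 = 0 by decide]
        have hmem : m * C * m⁻¹ * C⁻¹ ∈ Gs (insert l A) (Function.update β₀ l (β l)) := hGs.2 fun y hy => by
          rw [map_mul, map_mul, map_mul, map_inv, map_inv]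
          have hψC : ψ y C = mk (C.1 y) := rfl
          rw [hψC, hC]
          by_cases hl' : y l = β l
          · have : ¬ ∀ i ∈ A, y i = β₀ i := fun h => hy fun i hi => by
              rcases Finset.mem_insert.1 hi with rfl | hi
              · rw [Function.update_self, hl']
              · rw [Function.update_of_ne (fun e' : i = l => hl (e' ▸ hi)), h i hi]
            rw [hGs.1 hm y this]
            group
          · rw [if_neg hl', map_one]
            group
        have := ih (insert l A) (by rw [Finset.card_insert_of_notMem hl]; omega) _ _ hmem β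
        rw [map_mul, map_mul, map_mul, map_inv, map_inv, show ψ β C = mk (C.1 β) from rfl, hC, if_pos rfl] at this
        simpa [mul_assoc] using this.mul_right hja hv
      intro m hm β
      have hJ : ∀ y ∈ ((Gs A β₀).map (ψ β) : Set _), Fw U V (y * U * y⁻¹) ∧ Fw U V (y * V * y⁻¹) := by
        rintro y ⟨m', hm', rfl⟩
        exact ⟨key β _ (jq_mem p) (Or.inr (Or.inl rfl)) m' hm',
          key β _ (aq_mem p) (Or.inr (Or.inr (Or.inl rfl))) m' hm'⟩
      have hconj : ∀ (u : P), ∀ y ∈ ((Gs A β₀).map (ψ β) : Set _), ψ β u * y * (ψ β u)⁻¹ ∈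
          ((Gs A β₀).map (ψ β) : Set _) := by
        rintro u y ⟨m', hm', rfl⟩
        exact ⟨u * m' * u⁻¹, hnormal _ _ _ u hm', by simp⟩
      have main : ∀ y ∈ ((Gs A β₀).map (ψ β) : Set _), InV U V (y * U * y⁻¹) := fun y hy =>
        inV_conj3 hjj haa hja hj1 ha1 hne (fun t h1 h3 => mem_four_q p h2 h1 h3) hrj hra (hconj rP)
          (fun y hy y' hy' => ((Gs A β₀).map (ψ β)).mul_mem (((Gs A β₀).map (ψ β)).inv_mem hy) hy') hJ hy
      have hy : ψ β m ∈ ((Gs A β₀).map (ψ β) : Set _) := Subgroup.mem_map_of_mem _ hm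
      refine ⟨main _ hy, ?_⟩
      have hy' : R⁻¹ * ψ β m * R ∈ ((Gs A β₀).map (ψ β) : Set _) := by
        have := hconj rP⁻¹ _ hy
        rwa [map_inv, inv_inv] at this
      have h1 := (show Fw U V R from ⟨Or.inr (Or.inr (Or.inl hrj)), Or.inr (Or.inr (Or.inr hra))⟩).inV hjj haa hja
        (main _ hy')
      have e1 : R * (R⁻¹ * ψ β m * R * U * (R⁻¹ * ψ β m * R)⁻¹) * R⁻¹ =
          ψ β m * (R * U * R⁻¹) * (ψ β m)⁻¹ := by group
      rwa [e1, hrj] at h1
  have hF := claim j ∅ (by simp) 0 ⟨N, hN⟩ (hGs.2 fun β h => absurd (by simp) h) x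
  have back : ∀ q q' : GL (Fin 2) F, q ∈ Q8 p → q' ∈ Q8 p → mk (N x) * mk q * (mk (N x))⁻¹ = mk q' →
      N x * q * (N x)⁻¹ ∈ Q8 p := by
    intro q q' hq hq' e
    rw [← map_inv, ← map_mul, ← map_mul] at e
    obtain ⟨s, hs⟩ := sign_of_mk e (by
      rw [Units.val_mul, Units.val_mul, Matrix.det_mul, Matrix.det_mul, q8_det1 p hq, q8_det1 p hq', mul_one,
        ← Matrix.det_mul, Units.mul_inv, Matrix.det_one])
    rw [hs]
    exact mul_mem (sg_mem p s) hq'
  have get : ∀ q, q ∈ Q8 p → InV U V (mk (N x) * mk q * (mk (N x))⁻¹) → N x * q * (N x)⁻¹ ∈ Q8 p := by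
    intro q hq h
    rcases h with h | h | h | h
    · exact back q 1 hq (one_mem _) (by rw [h, map_one])
    · exact back q _ hq (jq_mem p) h
    · exact back q _ hq (aq_mem p) h
    · exact back q _ hq (mul_mem (jq_mem p) (aq_mem p)) (by rw [h, map_mul])
  exact q8_conj_of p (get _ (jq_mem p) hF.1) (get _ (aq_mem p) hF.2)

/-- The conjugates of a quaternion have constant class and affine sign. -/
theorem axis [Finite F] (h2 : (2 : F) ≠ 0) (hM : BaseMinus p M) (hS : SignsMinus M) (hj : 3 ≤ j)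
    {N : Pt j → GL (Fin 2) F} (hN : blk N ∈ M) {q : GL (Fin 2) F} (hq : q ∈ Q8 p) :
    ∃ (f : Pt j → ZMod 2) (d e : ZMod 2), Aff f ∧ ∀ x, N x * q * (N x)⁻¹ = qel p (f x) d e := by
  choose f d e h using fun x => conj_q8 h2 hM hS hj hN x q hq
  have hy : blk (fun x => qel p (f x) (d x) (e x)) ∈ M := by
    have hm := M.mul_mem (M.mul_mem hN (hM.q8 q hq)) (M.inv_mem hN)
    rw [cst_eq, ← map_inv, ← map_mul, ← map_mul] at hm
    convert hm using 2
    funext x
    simp only [Pi.mul_apply, Pi.inv_apply, h]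
  obtain ⟨hd, he, hf⟩ := blk_q hM hS hj hy
  have hl : ∀ l : Fin j, blk (fun x => qel p (f x * x l) (d x * x l) (e x * x l)) ∈ M := by
    intro l
    have hC := hM.ctrl (fun x : Pt j => x l) (aff_coord' l) q hq
    have hm := M.mul_mem (M.mul_mem hN hC) (M.inv_mem hN)
    rw [← map_inv, ← map_mul, ← map_mul] at hm
    convert hm using 2
    funext x
    simp only [Pi.mul_apply, Pi.inv_apply]
    rcases zm_cases (x l) with e' | e' <;> rw [e']
    · simp [qel_zero]
    · simp [h]
  have hconst : ∀ {s : Pt j → ZMod 2}, Aff s → (∀ l, Aff fun x => s x * x l) → ∀ x, s x = s 0 := fun hs hsl =>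
    const_of_dl fun i x => by
      obtain ⟨l, hli, -⟩ := exists_third hj i i
      exact dl_eq_zero_of_mul hli.symm hs (hsl l) x
  refine ⟨f, d 0, e 0, aff_of_quad_mul hj hf fun l => (blk_q hM hS hj (hl l)).2.2, fun x => ?_⟩
  rw [h, hconst hd (fun l => (blk_q hM hS hj (hl l)).1) x, hconst he (fun l => (blk_q hM hS hj (hl l)).2.1) x]

/-! ### The sign of a reduced element -/

/-- The shift of one coordinate by a function of the others. -/
def shift1 (a : Fin j) (f : Pt j → ZMod 2) (hf : ∀ y, f (y + pe a) = f y) : Equiv.Perm (Pt j) :=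
  Function.Involutive.toPerm (fun y => y + f y • pe a) fun y => by
    rcases zm_cases (f y) with e | e
    · simp [e]
    · simp [e, hf, pt_add_cancel]

theorem shift1_apply {a : Fin j} {f : Pt j → ZMod 2} (hf : ∀ y, f (y + pe a) = f y) (y : Pt j) :
    shift1 a f hf y = y + f y • pe a := rfl

theorem shift1_shift1 {a : Fin j} {f : Pt j → ZMod 2} (hf : ∀ y, f (y + pe a) = f y) (y : Pt j) :
    shift1 a f hf (shift1 a f hf y) = y := by
  rw [shift1_apply, shift1_apply]
  rcases zm_cases (f y) with e | e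
  · simp [e]
  · simp [e, hf, pt_add_cancel]

theorem dl_indep (a : Fin j) (φ : Pt j → ZMod 2) (y : Pt j) : dl (pe a) φ (y + pe a) = dl (pe a) φ y := by
  simp only [dl_apply, pt_add_cancel]
  rw [add_comm]

theorem bit : ∀ x z f : ZMod 2, (x + z) * f + x * z = f * (x + f + 1) + (x + f) * z := by decide

theorem sd_had_sd (h2 : (2 : F) ≠ 0) (a : Fin j) (φ : Pt j → ZMod 2) :
    sd F φ * hadU h2 a * (sd F φ)⁻¹ * (hadU h2 a)⁻¹ =
      mon F (shift1 a (dl (pe a) φ) (dl_indep a φ)) (fun y => dl (pe a) φ y * (y a + 1)) := by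
  refine mul_inv_eq_iff_eq_mul.2 ?_
  rw [sd_inv]
  set f := dl (pe a) φ with hf
  set π := shift1 a f (dl_indep a φ) with hπ
  refine Units.ext (Matrix.ext fun x z => ?_)
  rw [Units.val_mul, Units.val_mul, Units.val_mul, sd_apply, Matrix.mul_diagonal, Matrix.diagonal_mul,
    Matrix.mul_apply, Finset.sum_eq_single (π x) (fun y _ hy => by
      rw [mon_apply, if_neg (fun e : x = π y => hy (by rw [e, hπ, shift1_shift1])), zero_mul]) (by simp),
    mon_apply, if_pos (by rw [hπ, shift1_shift1])]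
  show sgn F (φ x) * ((2 : F)⁻¹ • had F a) x z * sgn F (φ z) = sgn F _ * ((2 : F)⁻¹ • had F a) (π x) z
  simp only [Matrix.smul_apply, smul_eq_mul, had_apply]
  have hoff : ∀ i, i ≠ a → π x i = x i := fun i hi => by simp [hπ, shift1_apply, pe_ne hi]
  by_cases hc : ∀ i, i ≠ a → x i = z i
  · rw [if_pos hc, if_pos fun i hi => by rw [hoff i hi, hc i hi]]
    have hφ : φ x + φ z = (x a + z a) * f x := by
      by_cases hxz : x a = z a
      · have : x = z := funext fun i => if hi : i = a then hi ▸ hxz else hc i hi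
        subst this
        simp [CharTwo.add_self_eq_zero]
      · have hz : z = x + pe a := funext fun i => by
          by_cases hi : i = a
          · subst hi
            rcases zm_cases (x i) with e | e <;> rcases zm_cases (z i) with e' | e' <;> simp_all <;> decide
          · simp [pe_ne hi, hc i hi]
        rw [hz, hf, dl_apply]
        simp only [Pi.add_apply, pe_self]
        grind
    have ha : π x a = x a + f x := by simp [hπ, shift1_apply]
    have hfπ : f (π x) = f x := by
      rw [hπ, shift1_apply]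
      rcases zm_cases (f x) with e | e
      · simp [e]
      · rw [e, one_smul, hf, dl_indep, ← hf, e]
    calc sgn F (φ x) * ((2 : F)⁻¹ * sgn F (x a * z a)) * sgn F (φ z)
        = (2 : F)⁻¹ * sgn F (φ x + φ z + x a * z a) := by rw [sgn_add, sgn_add]; ring
      _ = (2 : F)⁻¹ * sgn F (f (π x) * (π x a + 1) + π x a * z a) := by
          congr 2; rw [hφ, hfπ, ha]; exact bit _ _ _
      _ = _ := by rw [sgn_add]; ring
  · rw [if_neg hc, if_neg fun h => hc fun i hi => by rw [← hoff i hi, h i hi]]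
    simp

theorem had1_mem (h2 : (2 : F) ≠ 0) (hM : BaseMinus p M) (a : Fin j) : up (hadU h2 a) * cst (onejU h2) ∈ M := by
  obtain ⟨g, hg, hv⟩ := hM.had1 a
  convert hg
  refine Units.ext ?_
  rw [hv, Units.val_mul, up_val, cst_val]
  show upM ((2 : F)⁻¹ • had F a) * _ = _
  rw [← smul_mul_assoc]
  congr 1
  ext u v
  simp only [upM_apply, Matrix.smul_apply, smul_eq_mul, had]
  split_ifs <;> simp

/-- A reduced element has quadratic signs. -/
theorem quad_reduced (h2 : (2 : F) ≠ 0) (hM : BaseMinus p M) (hS : SignsMinus M) (hj : 3 ≤ j) {n : GL (Fin 2) F}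
    {φ : Pt j → ZMod 2} (hn : n * jq = jq * n) (h : cst n * up (sd F φ) ∈ M) : Quad φ := by
  refine quad_of_dl fun a => ?_
  set f := dl (pe a) φ with hf
  set π := shift1 a f (dl_indep a φ) with hπ
  set c : GL (Ix j) F := cst n
  set D : GL (Ix j) F := up (sd F φ)
  set H : GL (Ix j) F := up (hadU h2 a)
  set J : GL (Ix j) F := cst (onejU h2)
  have hnJ : n * onejU h2 = onejU h2 * n := Units.ext (by
    have e := congrArg (fun g : GL (Fin 2) F => (g : Matrix (Fin 2) (Fin 2) F)) hn
    simp only [Units.val_mul] at e ⊢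
    show n.val * (1 + _) = (1 + _) * n.val
    rw [mul_add, add_mul, mul_one, one_mul, e])
  have hcJ : c * J = J * c := by simp only [c, J, ← map_mul, hnJ]
  have hDc : D * c = c * D := up_comm_cst _ _
  have hHc : H * c = c * H := up_comm_cst _ _
  have hDJ : D * J = J * D := up_comm_cst _ _
  have hT : c * D * (H * J) * (c * D)⁻¹ * (H * J)⁻¹ = up (mon F π fun y => f y * (y a + 1)) := by
    have e1 : c * D * (H * J) * (c * D)⁻¹ = D * H * D⁻¹ * J := by
      rw [mul_inv_eq_iff_eq_mul]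
      calc c * D * (H * J) = D * H * c * J := by rw [← hDc, mul_assoc D, ← mul_assoc c, ← hHc]; simp only [mul_assoc]
        _ = D * H * J * c := by rw [mul_assoc (D * H), hcJ]; simp only [mul_assoc]
        _ = D * H * D⁻¹ * (D * J) * c := by group
        _ = D * H * D⁻¹ * J * (D * c) := by rw [hDJ]; simp only [mul_assoc]
        _ = _ := by rw [hDc]
    rw [e1, _root_.mul_inv_rev, show D * H * D⁻¹ * J * (J⁻¹ * H⁻¹) = D * H * D⁻¹ * H⁻¹ by group]
    simp only [D, H, ← map_inv, ← map_mul]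
    rw [sd_had_sd h2 a φ]
  have hTM : up (mon F π fun y => f y * (y a + 1)) ∈ M :=
    hT ▸ M.mul_mem (M.mul_mem (M.mul_mem h (had1_mem h2 hM a)) (M.inv_mem h)) (M.inv_mem (had1_mem h2 hM a))
  have hC := hM.ctrl (fun y : Pt j => y a) (aff_coord' a) jq (jq_mem p)
  have hm := M.mul_mem (M.mul_mem hTM hC) (M.inv_mem hTM)
  set C : Pt j → GL (Fin 2) F := fun y => if y a = 0 then 1 else jq with hC'
  have e2 : up (mon F π fun y => f y * (y a + 1)) * blk C * (up (mon F π fun y => f y * (y a + 1)))⁻¹ =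
      blk fun y => C (π y) := by
    refine mul_inv_eq_iff_eq_mul.2 ?_
    rw [mon, map_mul, ← blk_sg, mul_assoc, ← map_mul, ← mul_assoc (blk fun y => C (π y)), blk_pm, mul_assoc,
      ← map_mul]
    congr 2
    funext y
    simp only [Pi.mul_apply, hπ, shift1_shift1]
    exact sg_comm _ _
  rw [e2] at hm
  have := (blk_q hM hS hj (f := fun _ => 0) (d := fun y => y a + f y) (e := fun _ => 0) (by
    convert hm using 2
    funext y
    simp only [hC', hπ, shift1_apply, Pi.add_apply, Pi.smul_apply, pe_self, smul_eq_mul, mul_one]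
    exact (if_jq p _).symm)).1
  have h3 := this.add (aff_coord' a)
  convert h3 using 1
  funext y
  grind

/-! ### Conclusion -/

/-- Every element of the bottom level normalises. -/
theorem lev_bottom [Finite F] (h2 : (2 : F) ≠ 0) {p : Par F} {M : Subgroup (GL (Ix j) F)} (hM : BaseMinus p M)
    (hS : SignsMinus M) (hj : 3 ≤ j) : LevR p M ∅ := by
  intro g hg
  obtain ⟨hgM, hgc⟩ := mem_LR.1 hg
  obtain ⟨N, rfl⟩ := blk_of_comm h2 fun i => hgc i (Finset.notMem_empty i)
  obtain ⟨f1, d1, e1, hf1, h1⟩ := axis h2 hM hS hj hgM (jq_mem p)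
  obtain ⟨w, hwM, hwn, hw⟩ : ∃ w : GL (Fin 2) F, cst w ∈ M ∧ (∀ q ∈ Q8 p, w * q * w⁻¹ ∈ Q8 p) ∧
      w * jq * w⁻¹ = qel p (f1 0) d1 e1 := by
    obtain ⟨r, hr, hrv⟩ := hM.rot
    have : r = rotU p h2 := Units.ext hr
    subst this
    obtain ⟨R, hRM, hRn, hR⟩ : ∃ R : GL (Fin 2) F, cst R ∈ M ∧ (∀ q ∈ Q8 p, R * q * R⁻¹ ∈ Q8 p) ∧
        R * jq * R⁻¹ = qel p 0 d1 e1 := by
      rcases zm_cases d1 with rfl | rfl <;> rcases zm_cases e1 with rfl | rfl
      · exfalso
        apply (pgl_four p h2).2.1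
        have e : mk (N 0 * jq * (N 0)⁻¹) = 1 := by
          rw [h1, qel_sg, qel_zero, mk_sg, map_one]
        rwa [map_mul, map_mul, map_inv, conj_eq_one_iff] at e
      · exact ⟨rotU p h2, hrv, rotU_conj p h2, by rw [rotU_jq]; simp [qel]⟩
      · exact ⟨1, by rw [map_one]; exact M.one_mem, fun q hq => by simpa using hq, by simp [qel]⟩
      · refine ⟨rotU p h2 * rotU p h2, by rw [map_mul]; exact M.mul_mem hrv hrv, fun q hq => ?_, ?_⟩
        · rw [show ∀ r : GL (Fin 2) F, r * r * q * (r * r)⁻¹ = r * (r * q * r⁻¹) * r⁻¹ from fun r => by group]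
          exact rotU_conj p h2 _ (rotU_conj p h2 q hq)
        · rw [show ∀ r : GL (Fin 2) F, r * r * jq * (r * r)⁻¹ = r * (r * jq * r⁻¹) * r⁻¹ from fun r => by group,
            rotU_jq, rotU_aq]
          simp [qel]
    refine ⟨R * qel p 0 0 (f1 0), by rw [map_mul]; exact M.mul_mem hRM (hM.q8 _ (qel_mem p 0 0 _)),
      fun q hq => ?_, ?_⟩
    · rw [show R * qel p 0 0 (f1 0) * q * (R * qel p 0 0 (f1 0))⁻¹ =
        R * (qel p 0 0 (f1 0) * q * (qel p 0 0 (f1 0))⁻¹) * R⁻¹ by group]
      exact hRn _ (mul_mem (mul_mem (qel_mem p _ _ _) hq) (inv_mem (qel_mem p _ _ _)))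
    · rw [show R * qel p 0 0 (f1 0) * jq * (R * qel p 0 0 (f1 0))⁻¹ =
        R * (qel p 0 0 (f1 0) * jq * (qel p 0 0 (f1 0))⁻¹) * R⁻¹ by group,
        show (jq : GL (Fin 2) F) = qel p 0 1 0 by simp [qel], qel_comm, mul_one, zero_mul, add_zero,
        show qel p 0 1 0 = jq by simp [qel], ← mul_assoc R, ← sg_comm, mul_assoc, mul_assoc, ← mul_assoc R, hR,
        ← qel_sg]
  set N1 : Pt j → GL (Fin 2) F := (fun _ => w⁻¹) * N with hN1
  have hN1M : blk N1 ∈ M := by
    rw [hN1, map_mul, ← cst_eq, map_inv]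
    exact M.mul_mem (M.inv_mem hwM) hgM
  set lam : Pt j → ZMod 2 := fun x => f1 x + f1 0 with hlam
  have h1' : ∀ x, N1 x * jq * (N1 x)⁻¹ = sg (lam x) * jq := fun x => by
    simp only [hN1, Pi.mul_apply]
    rw [show w⁻¹ * N x * jq * (w⁻¹ * N x)⁻¹ = w⁻¹ * (N x * jq * (N x)⁻¹) * w by group, h1,
      qel_shift p (f1 x) (f1 0), ← hw, ← mul_assoc w⁻¹, ← sg_comm]
    group
    rfl
  obtain ⟨f2, d2, e2, hf2, h3⟩ := axis h2 hM hS hj hN1M (aq_mem p)
  set mu : Pt j → ZMod 2 := fun x => f2 x + f2 0 with hmu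
  have hlamA : Aff lam := hf1.add (aff_const _)
  have hmuA : Aff mu := hf2.add (aff_const _)
  set Cm : Pt j → GL (Fin 2) F := fun x => if mu x = 0 then 1 else jq
  set Cl : Pt j → GL (Fin 2) F := fun x => if lam x = 0 then 1 else aq p
  have hCm : blk Cm ∈ M := hM.ctrl mu hmuA jq (jq_mem p)
  have hCl : blk Cl ∈ M := hM.ctrl lam hlamA (aq p) (aq_mem p)
  set r : Pt j → GL (Fin 2) F := Cm * Cl with hr
  have hrv : ∀ x, r x = qel p 0 (mu x) (lam x) := fun x => by
    simp only [hr, Pi.mul_apply, Cm, Cl]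
    rw [if_jq p, if_aq p, qel_mul]
    congr 1 <;> simp
  set N2 : Pt j → GL (Fin 2) F := N1 * r⁻¹ with hN2
  have hN2M : blk N2 ∈ M := by
    have hrM : blk r ∈ M := by
      show blk (Cm * Cl) ∈ M
      rw [map_mul]
      exact M.mul_mem hCm hCl
    show blk (N1 * r⁻¹) ∈ M
    rw [map_mul blk N1 r⁻¹, map_inv]
    exact M.mul_mem hN1M (M.inv_mem hrM)
  have conj2 : ∀ x (q : GL (Fin 2) F) (ε : ZMod 2), r x * q * (r x)⁻¹ = sg ε * q →
      N2 x * q * (N2 x)⁻¹ = sg ε * (N1 x * q * (N1 x)⁻¹) := by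
    intro x q ε hε
    have hinv : (r x)⁻¹ * q * r x = sg ε * q := by
      have e : q = (r x)⁻¹ * (sg ε * q) * r x := by rw [← hε]; group
      conv_rhs => arg 2; rw [e]
      rw [← mul_assoc (sg ε), ← mul_assoc (sg ε), sg_comm ε, mul_assoc (r x)⁻¹ (sg ε), ← mul_assoc (sg ε),
        ← sg_add, CharTwo.add_self_eq_zero, sg_zero, one_mul]
    simp only [hN2, Pi.mul_apply, Pi.inv_apply]
    rw [show N1 x * (r x)⁻¹ * q * (N1 x * (r x)⁻¹)⁻¹ = N1 x * ((r x)⁻¹ * q * r x) * (N1 x)⁻¹ by group, hinv,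
      ← mul_assoc (N1 x), ← sg_comm]
    simp only [mul_assoc]
  have c1 : ∀ x, N2 x * jq * (N2 x)⁻¹ = jq := fun x => by
    rw [conj2 x jq (lam x) (by
      rw [hrv, show (jq : GL (Fin 2) F) = qel p 0 1 0 by simp [qel], qel_comm]; simp), h1', ← mul_assoc, ← sg_add,
      CharTwo.add_self_eq_zero, sg_zero, one_mul]
  have c2 : ∀ x, N2 x * aq p * (N2 x)⁻¹ = qel p (f2 0) d2 e2 := fun x => by
    rw [conj2 x (aq p) (mu x) (by
      rw [hrv, show aq p = qel p 0 0 1 by simp [qel], qel_comm]; simp), h3, qel_shift p (f2 x) (f2 0),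
      ← mul_assoc, ← sg_add, CharTwo.add_self_eq_zero, sg_zero, one_mul]
  have hsc : ∀ x, ∃ c : ZMod 2, N2 x = N2 0 * sg c := by
    intro x
    set u := (N2 0)⁻¹ * N2 x
    obtain ⟨a, ha⟩ := scalar_of_comm p h2 (h := u)
      (mul_inv_eq_iff_eq_mul.1 (by
        rw [show u * jq * u⁻¹ = (N2 0)⁻¹ * (N2 x * jq * (N2 x)⁻¹) * N2 0 by simp only [u]; group, c1]
        conv_lhs => arg 1; arg 2; rw [← c1 0]
        group))
      (mul_inv_eq_iff_eq_mul.1 (by
        rw [show u * aq p * u⁻¹ = (N2 0)⁻¹ * (N2 x * aq p * (N2 x)⁻¹) * N2 0 by simp only [u]; group, c2, ← c2 0]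
        group))
    have hdet : u.val.det = 1 := by
      have e : u = ((fun _ => N2 0)⁻¹ * N2 : Pt j → GL (Fin 2) F) x := rfl
      simp only [u, Units.val_mul, Matrix.det_mul]
      rw [det_one hM hN2M x, mul_one]
      have h0 := det_one hM hN2M 0
      have h' : ((N2 0)⁻¹).val.det * (N2 0).val.det = 1 := by
        rw [← Matrix.det_mul, Units.inv_mul, Matrix.det_one]
      rwa [h0, mul_one] at h'
    rw [ha, Matrix.det_smul, Matrix.det_one, Fintype.card_fin, mul_one, sq] at hdet
    have hcases : ∃ c : ZMod 2, u = sg c := by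
      rcases mul_self_eq_one_iff.1 hdet with rfl | rfl
      · exact ⟨0, Units.ext (by rw [ha, one_smul, sg_zero, Units.val_one])⟩
      · exact ⟨1, Units.ext (by rw [ha, sg_one, Units.val_neg, Units.val_one]; simp)⟩
    obtain ⟨c, hc⟩ := hcases
    exact ⟨c, by rw [← hc]; simp only [u]; group⟩
  choose φ hφ using hsc
  have hb2 : blk N2 = cst (N2 0) * up (sd F φ) := by
    rw [← blk_sg, cst_eq, ← map_mul]
    congr 1
    funext x
    exact hφ x
  have hQ : Quad φ := quad_reduced h2 hM hS hj (mul_inv_eq_iff_eq_mul.1 (c1 0)) (hb2 ▸ hN2M)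
  have hn0 : ∀ q ∈ Q8 p, N2 0 * q * (N2 0)⁻¹ ∈ Q8 p :=
    q8_conj_of p (by rw [c1]; exact jq_mem p) (by rw [c2]; exact qel_mem p _ _ _)
  have hfin : blk N = cst w * blk N2 * (blk Cm * blk Cl) := by
    rw [cst_eq, ← map_mul, ← map_mul, ← map_mul]
    congr 1
    funext x
    simp only [hN2, hN1, hr, Pi.mul_apply, Pi.inv_apply]
    group
  rw [hfin, hb2]
  exact nr_mul p (nr_mul p (nr_cst p hwn) (nr_mul p (nr_cst p hn0) (nr_up p (nr_plus_sd hQ))))
    (nr_mul p (nr_ctrl p hmuA (jq_mem p)) (nr_ctrl p hlamA (aq_mem p)))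

end Cfsg.Agent.C6Minus10
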