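import Cfsg.Agent.Lib.C6Plus10Zero

/-!
The centralising step at a level: if an element of a level sends every free element to a normalising
element commuting with the free elements modulo the centre, then it sends some free element to a free
element, modulo the centre.
-/

set_option autoImplicit false
set_option linter.unusedSectionVars false

namespace Cfsg.Agent.C6Plus10

open Matrix
open scoped MatrixGroups

variable {F : Type*} [Field F] {k : ℕ} {S T : Finset (Fin k)} {M : Subgroup (GL (Pt k) F)}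

/-! ### The centre of a level -/

theorem czs_one : (1 : GL (Pt k) F) ∈ Czs F S T :=
  ⟨0, 0, 0, shp_zero, by rw [sd_const_zero, one_mul, pau_zero]⟩

theorem czs_const (c : ZMod 2) : sd F (fun _ => c) ∈ Czs F S T :=
  ⟨c, 0, 0, shp_zero, by rw [pau_zero, mul_one]⟩

theorem czs_mul {x y : GL (Pt k) F} (hx : x ∈ Czs F S T) (hy : y ∈ Czs F S T) : x * y ∈ Czs F S T := by
  obtain ⟨c, u, w, hs, rfl⟩ := hx
  obtain ⟨c', u', w', hs', rfl⟩ := hy
  exact ⟨c + c' + ip w u', u + u', w + w', hs.add hs', by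
    rw [mul_assoc, ← mul_assoc (pau F u w), ← sd_const_mul, mul_assoc (sd F _) (pau F u w), pau_mul,
      sd_const_add, sd_const_add]
    simp only [mul_assoc]⟩

theorem czs_inv {x : GL (Pt k) F} (hx : x ∈ Czs F S T) : x⁻¹ ∈ Czs F S T := by
  obtain ⟨c, u, w, hs, rfl⟩ := hx
  rw [_root_.mul_inv_rev, pau_inv, sd_inv]
  exact czs_mul ⟨ip w u, u, w, hs, rfl⟩ (czs_const c)

theorem LK_comm_czs {g z : GL (Pt k) F} (hg : g ∈ LK M S T) (hz : z ∈ Czs F S T) : g * z = z * g :=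
  ((Subgroup.mem_centralizer_iff.1 (Subgroup.mem_inf.1 hg).2) z hz).symm

theorem LK_conj_czs {g z : GL (Pt k) F} (hg : g ∈ LK M S T) (hz : z ∈ Czs F S T) : g * z * g⁻¹ = z := by
  rw [LK_comm_czs hg hz, mul_inv_cancel_right]

theorem shp_comm (hST : Disjoint S T) {u w u' w' : Pt k} (h : Shp S T u w) (h' : Shp S T u' w') :
    ip w u' + ip w' u = 0 := by
  rw [ip_eq_sum, ip_eq_sum, ← Finset.sum_add_distrib]
  refine Finset.sum_eq_zero fun i _ => ?_
  by_cases hi : i ∈ T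
  · rw [h.hq i hi, h'.hq i hi, mul_comm (u' i)]
    exact CharTwo.add_self_eq_zero _
  · rw [h.hu i hi, h'.hu i hi, mul_zero, mul_zero, add_zero]

theorem czs_LK (hM : Base M) (hST : Disjoint S T) {z : GL (Pt k) F} (hz : z ∈ Czs F S T) : z ∈ LK M S T := by
  obtain ⟨c, u, w, hs, rfl⟩ := hz
  refine mul_mem (mem_LK.2 ⟨hM.quad _ (aff_const c).quad, fun _ _ _ => sd_const_mul _ _⟩)
    (mem_LK.2 ⟨pau_mem hM _ _, fun u' w' hs' => ?_⟩)
  rw [pau_comm, shp_comm hST hs hs', sd_const_zero, one_mul]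

/-- With at most one complex structure, the form of a central index determines its translation. -/
theorem shp_ext (hT : T.card ≤ 1) {u w u' w' : Pt k} (h : Shp S T u w) (h' : Shp S T u' w')
    (e : ip w u = ip w' u') : u = u' := by
  funext i
  by_cases hi : i ∈ T
  · have key : ∀ {u w : Pt k}, Shp S T u w → ip w u = u i := fun {u w} hs => by
      rw [ip_eq_sum, Finset.sum_eq_single i (fun j _ hj => by
        rw [hs.hu j fun hjT => hj (Finset.card_le_one.1 hT j hjT i hi), mul_zero]) (by simp), hs.hq i hi]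
      rcases zm_cases (u i) with e | e <;> simp [e]
    rw [← key h, e, key h']
  · rw [h.hu i hi, h'.hu i hi]

theorem shp_zero_off (hT : T.card ≤ 1) {u w : Pt k} (h : Shp S T u w) (e : ip w u = 0) :
    u = 0 ∧ ∀ i ∈ S ∪ T, w i = 0 := by
  have hu : u = 0 := shp_ext hT h shp_zero (by rw [e, ip_zero_left])
  refine ⟨hu, fun i hi => ?_⟩
  rcases Finset.mem_union.1 hi with hi | hi
  · exact h.hw i hi
  · rw [h.hq i hi, hu, Pi.zero_apply]

theorem ip_congr {A : Finset (Fin k)} {z y y' : Pt k} (hz : ∀ j ∈ A, z j = 0) (hy : ∀ j, j ∉ A → y j = y' j) :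
    ip z y = ip z y' := by
  rw [ip_eq_sum, ip_eq_sum]
  refine Finset.sum_congr rfl fun j _ => ?_
  by_cases hj : j ∈ A
  · rw [hz j hj, zero_mul, zero_mul]
  · rw [hy j hj]

/-! ### Free elements -/

theorem El_mul (v w : Vec S) : ∃ c, El F v * El F w = sd F (fun _ => c) * El F (v + w) :=
  ⟨ip (ex S v.2) (ex S w.1), by rw [El, El, El, pau_mul, Prod.fst_add, Prod.snd_add, map_add, map_add]⟩

theorem El_sq (v : Vec S) : El F v * El F v = sd F (fun _ => qv v) := by
  rw [El, pau_mul, pt_add_self, pt_add_self, pau_zero, mul_one, ip_ex]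
  rfl

theorem cp_El {n : GL (Pt k) F} {v w : Vec S} {u z : Pt k} (hs : Shp S T u z)
    (h : CP n (ex S v.1) (ex S v.2) (ex S w.1 + u) (ex S w.2 + z)) :
    ∃ e ∈ Czs F S T, n * El F v * n⁻¹ = El F w * e := by
  obtain ⟨c, hc⟩ := h
  refine ⟨sd F (fun _ => c + ip (ex S w.2) u) * pau F u z, ⟨_, _, _, hs, rfl⟩, ?_⟩
  rw [El, El, hc, ← mul_assoc, ← sd_const_mul, mul_assoc (sd F _) (pau F (ex S w.1) (ex S w.2)), pau_mul,
    ← mul_assoc, ← sd_const_add, add_assoc, CharTwo.add_self_eq_zero, add_zero]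

/-- A Pauli element of a level is a free element times a central one. -/
theorem pau_split (h2 : (2 : F) ≠ 0) (hST : Disjoint S T) {x : GL (Pt k) F} (hx : x ∈ LK M S T) (hp : Pau x) :
    ∃ w : Vec S, x * (El F w)⁻¹ ∈ Czs F S T := by
  obtain ⟨c, a, b, rfl⟩ := hp
  obtain ⟨v, u, z, hs, rfl, rfl⟩ := split_shp hST (a := a) (b := b) fun u w hs => by
    refine ip_of_comm h2 ?_
    have e := (mem_LK.1 hx).2 u w hs
    rwa [mul_assoc, ← mul_assoc (pau F u w), ← sd_const_mul, mul_assoc (sd F _) (pau F u w), mul_left_cancel_iff] at e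
  refine ⟨v, ?_⟩
  have e : pau F (ex S v.1 + u) (ex S v.2 + z) =
      sd F (fun _ => ip z (ex S v.1)) * (pau F u z * El F v) := by
    rw [El, pau_mul, ← mul_assoc, ← sd_const_add, CharTwo.add_self_eq_zero, sd_const_zero, one_mul, add_comm u,
      add_comm z]
  rw [e]
  simp only [mul_assoc, mul_inv_cancel, mul_one]
  rw [← mul_assoc, ← sd_const_add]
  exact czs_mul (czs_const _) (pau_mem_Czs hs)

/-! ### The image of a free element is monomial -/

/-- A normalising element of a level, commuting with the free elements modulo the centre, is a signed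
permutation moving the coordinates of the level by functions of the others. -/
theorem img_mon (h2 : (2 : F) ≠ 0) (hM : Base M) (hST : Disjoint S T) (hT : T.card ≤ 1) {x : GL (Pt k) F}
    (hx : x ∈ LK M S T) (hn : Nr x) (hsq : ∃ c, x * x = sd F (fun _ => c))
    (hel : ∀ w : Vec S, x * El F w * x⁻¹ * (El F w)⁻¹ ∈ Czs F S T) :
    ∃ (π : Equiv.Perm (Pt k)) (f : Pt k → ZMod 2) (c : Fin k → ZMod 2) (w : Fin k → Pt k),
      x = mon F π f ∧ AffPerm π ∧ (∀ y i, π y i = y i + (c i + ip (w i) y)) ∧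
      (∀ i, i ∉ S ∪ T → c i = 0 ∧ w i = 0) ∧ (∀ i, ∀ j ∈ S ∪ T, w i j = 0) ∧
      (∀ i ∈ S ∪ T, ∀ y y', (∀ j, j ∉ S ∪ T → y j = y' j) → dl (pe i) f y = dl (pe i) f y') := by
  classical
  -- free generators
  have hfree : ∀ a b : Pt k, (∀ i, i ∉ S → a i = 0 ∧ b i = 0) → ip b a = 0 →
      ∃ u z : Pt k, Shp S T u z ∧ CP x a b (u + a) (z + b) ∧ ip (z + b) (u + a) = 0 := by
    intro a b hab hsingular
    obtain ⟨v, rfl, rfl⟩ : ∃ v : Vec S, ex S v.1 = a ∧ ex S v.2 = b := by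
      refine ⟨(fun i => a i, fun i => b i), funext fun i => ?_, funext fun i => ?_⟩ <;> by_cases hi : i ∈ S
      · rw [ex_mem _ hi]
      · rw [ex_not_mem _ hi, (hab i hi).1]
      · rw [ex_mem _ hi]
      · rw [ex_not_mem _ hi, (hab i hi).2]
    obtain ⟨d, u, z, hs, hd⟩ := hel v
    have h : CP x (ex S v.1) (ex S v.2) (u + ex S v.1) (z + ex S v.2) := by
      refine ⟨d + ip z (ex S v.1), ?_⟩
      rw [mul_inv_eq_iff_eq_mul] at hd
      rw [← El, hd, El, mul_assoc, pau_mul, ← mul_assoc, ← sd_const_add]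
    exact ⟨u, z, hs, h, (h.sq h2).trans hsingular⟩
  have hZ : ∀ i ∈ S, ∃ z : Pt k, (∀ j ∈ S ∪ T, z j = 0) ∧ CP x 0 (pe i) 0 (z + pe i) := by
    intro i hi
    obtain ⟨u, z, hs, h, hsing⟩ := hfree 0 (pe i) (fun j hj => ⟨rfl, pe_ne fun e : j = i => hj (e ▸ hi)⟩)
      (ip_zero_right _)
    rw [add_zero, ip_add_left, ip_pe, hs.huS hST hi, add_zero] at hsing
    obtain ⟨rfl, hz⟩ := shp_zero_off hT hs hsing
    exact ⟨z, hz, by rwa [add_zero] at h⟩
  have hX : ∀ i ∈ S, ∃ z : Pt k, (∀ j ∈ S ∪ T, z j = 0) ∧ CP x (pe i) 0 (pe i) z := by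
    intro i hi
    obtain ⟨u, z, hs, h, hsing⟩ := hfree (pe i) 0 (fun j hj => ⟨pe_ne fun e : j = i => hj (e ▸ hi), rfl⟩)
      (ip_zero_left _)
    rw [add_zero, ip_add_right, ip_pe_right, hs.hw i hi, add_zero] at hsing
    obtain ⟨rfl, hz⟩ := shp_zero_off hT hs hsing
    exact ⟨z, hz, by rwa [add_zero, zero_add] at h⟩
  have hJ : ∀ {q}, q ∈ T → Shp S T (pe q) (pe q) := fun {q} hq =>
    ⟨fun j hj => pe_ne fun e : j = q => hj (e ▸ hq),
      fun j hj => pe_ne fun e : j = q => Finset.disjoint_left.1 hST hj (e ▸ hq), fun _ _ => rfl⟩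
  have hZq : ∀ q ∈ T, ∃ z : Pt k, (∀ j ∈ S ∪ T, z j = 0) ∧ CP x 0 (pe q) 0 (z + pe q) := by
    intro q hq
    obtain ⟨a, b, h⟩ := nr_iff.1 hn 0 (pe q)
    have hTq : ∀ j ∈ T, j = q := fun j hj => Finset.card_le_one.1 hT j hj q hq
    have hD : ∀ l, l ∉ S ∪ T → a l = 0 := fun l hl => by
      rw [Finset.mem_union, not_or] at hl
      have e := h.comm h2 (CP_of_LK hx (shp_pe hl.1 hl.2))
      simpa [ip_zero_right, ip_pe] using e
    have hSa : ∀ i ∈ S, a i = 0 := fun i hi => by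
      obtain ⟨z, hz, h'⟩ := hZ i hi
      have e := h.comm h2 h'
      simp only [ip_zero_right, ip_add_left, ip_pe, zero_add, add_zero] at e
      rwa [show ip z a = 0 from ip_eq_zero fun j => by
        by_cases hj : j ∈ S ∪ T
        · exact Or.inl (hz j hj)
        · exact Or.inr (hD j hj), zero_add] at e
    have hSb : ∀ i ∈ S, b i = 0 := fun i hi => by
      obtain ⟨z, hz, h'⟩ := hX i hi
      have e := h.comm h2 h'
      simp only [ip_pe, ip_pe_right, ip_zero_left, add_zero,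
        pe_ne (show i ≠ q from fun e => Finset.disjoint_left.1 hST hi (e ▸ hq))] at e
      rwa [show ip z a = 0 from ip_eq_zero fun j => by
        by_cases hj : j ∈ S ∪ T
        · exact Or.inl (hz j hj)
        · exact Or.inr (hD j hj), add_zero] at e
    have hsum : b q + a q = 1 := by
      have e := h.comm h2 (CP_of_LK hx (hJ hq))
      simpa [ip_pe, ip_pe_right, ip_zero_right, add_comm] using e
    have haq : a q = 0 := (zm_cases _).resolve_right fun ha => by
      have ea : a = pe q := funext fun j => by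
        by_cases hj : j = q
        · rw [hj, ha, pe_self]
        · rw [pe_ne hj]
          by_cases hjST : j ∈ S ∪ T
          · exact hSa j ((Finset.mem_union.1 hjST).resolve_right fun h' => hj (hTq j h'))
          · exact hD j hjST
      have hbq : b q = 0 := by
        rcases zm_cases (b q) with e | e
        · exact e
        · simp [e, ha, CharTwo.add_self_eq_zero] at hsum
      have hsz : Shp S T 0 b := ⟨fun _ _ => rfl, hSb, fun j hj => by rw [hTq j hj, hbq, Pi.zero_apply]⟩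
      obtain ⟨d, hd⟩ := h
      obtain ⟨c, hc⟩ := hsq
      have hd' : x * pau F 0 (pe q) * x⁻¹ = sd F (fun _ => d) * (pau F (pe q) (pe q) * pau F 0 (pe q) * pau F 0 b) := by
        rw [hd, ea, pau_mul, mul_assoc, pau_mul, ip_zero_right, ip_zero_right, sd_const_zero, one_mul, add_zero,
          add_zero, pt_add_self, zero_add, one_mul]
      have e : x * x * pau F 0 (pe q) * (x * x)⁻¹ = x * (x * pau F 0 (pe q) * x⁻¹) * x⁻¹ := by group
      rw [hd', show ∀ P Q R K : GL (Pt k) F, x * (K * (P * Q * R)) * x⁻¹ =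
          x * K * x⁻¹ * ((x * P * x⁻¹) * (x * Q * x⁻¹) * (x * R * x⁻¹)) from fun P Q R K => by group,
        conj_sd_const, hd', LK_conj_czs hx (pau_mem_Czs (hJ hq)), LK_conj_czs hx (pau_mem_Czs hsz),
        hc, sd_const_mul, mul_inv_cancel_right] at e
      have e' : pau F 0 (pe q) = sd F (fun _ => (1 : ZMod 2)) * pau F 0 (pe q) := by
        conv_lhs => rw [e]
        simp only [mul_assoc]
        rw [← mul_assoc (pau F (pe q) (pe q)) (sd F fun _ => d), ← sd_const_mul, mul_assoc (sd F fun _ => d)]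
        rw [← mul_assoc (sd F fun _ => d) (sd F fun _ => d), ← sd_const_add, CharTwo.add_self_eq_zero, sd_const_zero,
          one_mul, pau_mul 0 b 0 b, ip_zero_right, sd_const_zero, one_mul, pt_add_self, pt_add_self, pau_zero,
          mul_one, ← mul_assoc, pau_mul, ip_pe, pe_self, pt_add_self, pau_zero, mul_one]
      have := congrFun (sd_inj h2 ((mul_eq_right.1 e'.symm).trans sd_zero.symm)) 0
      exact one_ne_zero this
    have hbq : b q = 1 := by rwa [haq, add_zero] at hsum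
    refine ⟨b + pe q, fun j hj => ?_, ?_⟩
    · rcases Finset.mem_union.1 hj with hj | hj
      · rw [Pi.add_apply, hSb j hj, pe_ne (fun e : j = q => Finset.disjoint_left.1 hST hj (e ▸ hq)), add_zero]
      · rw [hTq j hj, Pi.add_apply, hbq, pe_self, CharTwo.add_self_eq_zero]
    · have ea : a = 0 := funext fun j => by
        by_cases hjST : j ∈ S ∪ T
        · rcases Finset.mem_union.1 hjST with hj | hj
          · exact hSa j hj
          · rw [hTq j hj]; exact haq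
        · exact hD j hjST
      rw [add_assoc, pt_add_self, add_zero, ← ea]
      exact ea ▸ h
  have hgen : ∀ i, ∃ (c : ZMod 2) (z : Pt k), (∀ j ∈ S ∪ T, z j = 0) ∧ (i ∉ S ∪ T → c = 0 ∧ z = 0) ∧
      x * sd F (ip (pe i)) * x⁻¹ = sd F (fun y => y i + (c + ip z y)) := by
    intro i
    have conv : ∀ (c : ZMod 2) (z : Pt k), sd F (fun _ => c) * pau F 0 (z + pe i) =
        sd F (fun y => y i + (c + ip z y)) := fun c z => by
      rw [pau_sd, sd_mul]
      refine congrArg _ (funext fun y => ?_)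
      simp only [Pi.add_apply, ip_add_left, ip_pe]
      ring
    by_cases hi : i ∈ S ∪ T
    · obtain ⟨z, hz, d, hd⟩ : ∃ z : Pt k, (∀ j ∈ S ∪ T, z j = 0) ∧ CP x 0 (pe i) 0 (z + pe i) :=
        (Finset.mem_union.1 hi).elim (hZ i) (hZq i)
      exact ⟨d, z, hz, fun h => absurd hi h, by rw [← conv, ← hd, pau_sd]⟩
    · rw [Finset.mem_union, not_or] at hi
      refine ⟨0, 0, fun _ _ => rfl, fun _ => ⟨rfl, rfl⟩, (LK_conj_sd hx hi.1 hi.2).trans ?_⟩
      refine congrArg _ (funext fun y => ?_)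
      simp [ip_pe, ip_zero_left]
  choose c w hw hout hconj using hgen
  have hfix : ∀ (y : Pt k) (i : Fin k), ip (w i) (fun j => y j + (c j + ip (w j) y)) = ip (w i) y := fun y i =>
    ip_congr (hw i) fun j hj => by rw [(hout j hj).1, (hout j hj).2, ip_zero_left, add_zero, add_zero]
  set π : Equiv.Perm (Pt k) := Function.Involutive.toPerm (fun y i => y i + (c i + ip (w i) y)) fun y => by
    funext i
    simp only [hfix]
    grind with hπ
  have hπy : ∀ y i, π y i = y i + (c i + ip (w i) y) := fun _ _ => rfl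
  have haff : AffPerm π := fun y y' y'' => funext fun i => by
    simp only [Pi.add_apply, hπy, ip_add_right]
    grind
  obtain ⟨f, hf⟩ := mon_of_conj h2 hM (mem_LK.1 hx).1 haff fun i => (hconj i).trans (by congr 1)
  refine ⟨π, f, c, w, hf, haff, hπy, hout, hw, fun i hi y y' hy => ?_⟩
  have hπD : ∀ {z : Pt k}, (∀ j ∈ S ∪ T, z j = 0) → ∀ y, ip z (π y) = ip z y := fun {z} hz y =>
    ip_congr hz fun j hj => by rw [hπy, (hout j hj).1, (hout j hj).2, ip_zero_left, add_zero, add_zero]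
  rcases Finset.mem_union.1 hi with hiS | hiT
  · obtain ⟨z, hz, d, hd⟩ := hX i hiS
    have e : mon F π f * mon F (Equiv.addRight (pe i)) (ip 0) =
        mon F (Equiv.addRight (pe i)) (fun y => d + ip z y) * mon F π f := by
      rw [← hf, ← pau_eq, show mon F (Equiv.addRight (pe i)) (fun y => d + ip z y) = sd F (fun _ => d) * pau F (pe i) z
        from by rw [pau_eq, ← mon_one_left, mon_mul, one_mul], ← hd]
      group
    rw [mon_mul, mon_mul] at e
    have key : ∀ y, dl (pe i) f y = d + ip z y := fun y => by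
      have := congrFun (mon_inj h2 e).2 y
      simp only [Equiv.coe_addRight, ip_zero_left, add_zero, hπD hz] at this
      rw [dl_apply, this]
      grind
    rw [key, key, ip_congr hz hy]
  · have e := (mem_LK.1 hx).2 _ _ (hJ hiT)
    rw [hf, pau_eq, mon_mul, mon_mul] at e
    have key : ∀ y, dl (pe i) f y = c i + ip (w i) y := fun y => by
      have := congrFun (mon_inj h2 e).2 y
      simp only [Equiv.coe_addRight, ip_pe, hπy] at this
      rw [dl_apply]
      grind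
    rw [key, key, ip_congr (hw i) hy]

/-! ### Free elements times central ones -/

theorem El_zero : El F (0 : Vec S) = (1 : GL (Pt k) F) := by
  rw [El, Prod.fst_zero, Prod.snd_zero, map_zero, pau_zero]

theorem El_inv (v : Vec S) : (El F v)⁻¹ = sd F (fun _ => qv v) * El F v := by
  rw [El, pau_inv, ip_ex]
  rfl

theorem vec_add_self (v : Vec S) : v + v = 0 :=
  Prod.ext (funext fun _ => CharTwo.add_self_eq_zero _) (funext fun _ => CharTwo.add_self_eq_zero _)

theorem El_comm_czs (hM : Base M) (hST : Disjoint S T) (v : Vec S) {z : GL (Pt k) F} (hz : z ∈ Czs F S T) :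
    El F v * z = z * El F v :=
  LK_comm_czs (El_mem hM hST v) hz

theorem El_czs_mul (hM : Base M) (hST : Disjoint S T) (v w : Vec S) {z z' : GL (Pt k) F} (hz : z ∈ Czs F S T)
    (hz' : z' ∈ Czs F S T) : ∃ z'' ∈ Czs F S T, El F v * z * (El F w * z') = El F (v + w) * z'' := by
  obtain ⟨c, hc⟩ := El_mul (F := F) v w
  refine ⟨sd F (fun _ => c) * (z * z'), czs_mul (czs_const c) (czs_mul hz hz'), ?_⟩
  rw [show El F v * z * (El F w * z') = El F v * (z * El F w) * z' by group, ← El_comm_czs hM hST w hz,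
    show El F v * (El F w * z) * z' = El F v * El F w * (z * z') by group, hc, sd_const_mul]
  simp only [mul_assoc]

theorem ip_single {z : Pt k} {d : Fin k} (hz : ∀ i, i ≠ d → z i = 0) (y : Pt k) : ip z y = z d * y d := by
  rw [ip_eq_sum, Finset.sum_eq_single d (fun j _ hj => by rw [hz j hj, zero_mul]) (by simp)]

theorem aff_shift_arg {f : Pt k → ZMod 2} (hf : Aff f) (u : Pt k) : Aff (fun y => f (y + u)) := fun a b x => by
  have := hf a b (x + u)
  simpa only [dl_apply, add_right_comm _ _ u] using this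

theorem pau_of_aff {f : Pt k → ZMod 2} (hf : Aff f) (u : Pt k) : Pau (mon F (Equiv.addRight u) f) := by
  obtain ⟨c, b, h⟩ := mon_aff_pau (F := F) hf u
  exact ⟨c, u, b, h⟩

theorem img_mul (g : GL (Pt k) F) (v w : Vec S) : ∃ c, g * El F v * g⁻¹ * (g * El F w * g⁻¹) =
    sd F (fun _ => c) * (g * El F (v + w) * g⁻¹) := by
  obtain ⟨c, hc⟩ := El_mul (F := F) v w
  refine ⟨c, ?_⟩
  rw [show g * El F v * g⁻¹ * (g * El F w * g⁻¹) = g * (El F v * El F w) * g⁻¹ by group, hc, ← mul_assoc g,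
    ← sd_const_mul]
  group

theorem img_sq (g : GL (Pt k) F) (v : Vec S) :
    g * El F v * g⁻¹ * (g * El F v * g⁻¹) = sd F (fun _ => qv v) := by
  rw [show g * El F v * g⁻¹ * (g * El F v * g⁻¹) = g * (El F v * El F v) * g⁻¹ by group, El_sq, conj_sd_const]

theorem img_LK (hM : Base M) (hST : Disjoint S T) {g : GL (Pt k) F} (hg : g ∈ LK M S T) (v : Vec S) :
    g * El F v * g⁻¹ ∈ LK M S T :=
  mul_mem (mul_mem hg (El_mem hM hST v)) (inv_mem hg)

theorem single_ne_zero (a : ↥S) : ((0, Pi.single a 1) : Vec S) ≠ 0 := fun e => by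
  have := congrFun (congrArg Prod.snd e) a
  simp at this

/-! ### No coordinate, or at least two, outside the level -/

theorem cent_empty (h2 : (2 : F) ≠ 0) (hM : Base M) (hST : Disjoint S T) (hT : T.card ≤ 1) {x : GL (Pt k) F}
    (hx : x ∈ LK M S T) (hn : Nr x) (hsq : ∃ c, x * x = sd F (fun _ => c))
    (hel : ∀ w : Vec S, x * El F w * x⁻¹ * (El F w)⁻¹ ∈ Czs F S T) (hD : ∀ i, i ∈ S ∪ T) : Pau x := by
  obtain ⟨π, f, c, w, hxe, -, hπ, -, hw, hdl⟩ := img_mon h2 hM hST hT hx hn hsq hel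
  have e : π = Equiv.addRight c := Equiv.ext fun y => funext fun i => by
    rw [hπ, show w i = 0 from funext fun j => hw i j (hD j), ip_zero_left, add_zero]
    rfl
  rw [hxe, e]
  refine pau_of_aff (aff_of_basis fun a b y => ?_) c
  rw [dl_apply, hdl b (hD b) (y + pe a) y fun j hj => absurd (hD j) hj, CharTwo.add_self_eq_zero]

theorem many_shape (h2 : (2 : F) ≠ 0) (hM : Base M) (hS : Signs M) (hST : Disjoint S T) (hT : T.card ≤ 1)
    (hS2 : 2 ≤ S.card) {g : GL (Pt k) F} (hg : g ∈ LK M S T)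
    (himg : ∀ v : Vec S, Nr (g * El F v * g⁻¹) ∧
      ∀ w : Vec S, g * El F v * g⁻¹ * El F w * (g * El F v * g⁻¹)⁻¹ * (El F w)⁻¹ ∈ Czs F S T)
    {d d' : Fin k} (hd : d ∉ S ∪ T) (hd' : d' ∉ S ∪ T) (hdd : d ≠ d') (v : Vec S) :
    ∃ (u : Pt k) (f : Pt k → ZMod 2) (ε : ZMod 2), g * El F v * g⁻¹ = mon F (Equiv.addRight u) f ∧
      u d = 0 ∧ u d' = 0 ∧ Aff (fun y => f y + ε * (y d * y d')) := by
  classical
  have hx := img_LK hM hST hg v
  obtain ⟨π, f, c, w, hxe, -, hπ, hout, hw, -⟩ :=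
    img_mon h2 hM hST hT hx (himg v).1 ⟨_, img_sq g v⟩ (himg v).2
  have hctl : ∀ l, l ∉ S ∪ T → ctl (ip (pe l)) (g * El F v * g⁻¹) ∈ M := fun l hl => by
    rw [Finset.mem_union, not_or] at hl
    rw [← ctl_conj h2 (kp_of_comm h2 (LK_comm_sd (El_mem hM hST v) hl.1 hl.2)) (LK_conj_sd hg hl.1 hl.2)]
    refine M.mul_mem (M.mul_mem (mem_LK.1 hg).1 (ctl_pau_mem hM (aff_ip _) (fun y => ?_) _))
      (M.inv_mem (mem_LK.1 hg).1)
    rw [ip_add_right, ip_pe, ip_pe, ex_not_mem _ hl.1, add_zero]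
  have hfixl : ∀ l, l ∉ S ∪ T → ∀ y, ip (pe l) (π y) = ip (pe l) y := fun l hl y => by
    rw [ip_pe, ip_pe, hπ, (hout l hl).1, (hout l hl).2, ip_zero_left, add_zero, add_zero]
  have hw0 : ∀ l, l ∉ S ∪ T → ∀ i ∈ S ∪ T, ∀ a, a ≠ l → w i a = 0 := fun l hl i hi a hal => by
    obtain ⟨j, hjS, hji⟩ := Finset.exists_mem_ne (by omega : 1 < S.card) i
    have hj : j ∈ S ∪ T := Finset.mem_union_left _ hjS
    have hjl : j ≠ l := fun e => hl (e ▸ hj)
    have hm := hctl l hl
    rw [hxe, ctl_selP (hfixl l hl)] at hm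
    have hh : ∀ y, ip (pe l) (y + pe j) = ip (pe l) y := fun y => by
      rw [ip_add_right, ip_pe, ip_pe, pe_ne hjl.symm, add_zero]
    have hwe : ∀ t y, t ∈ S ∪ T → π (y + pe j) t = π y t + pe j t := fun t y _ => by
      rw [hπ, hπ, ip_add_right, ip_pe_right, hw t j hj, add_zero, Pi.add_apply]
      ring
    have hsel : ∀ y t, selP π (ip (pe l)) (hfixl l hl) y t = if ip (pe l) y = 1 then π y t else y t := fun y t => by
      show (if ip (pe l) y = 1 then π y else y) t = _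
      split_ifs <;> rfl
    have haff : Aff (fun y => selP π (ip (pe l)) (hfixl l hl) y i) := by
      refine aff_coord hM hS hm (i := i) (j := j) (pe j) (fun y => ?_) fun y => ?_
      · rw [hsel, hsel, hh, hwe j y hj, pe_self, Pi.add_apply, pe_self]
        split_ifs <;> rfl
      · rw [hsel, hsel, hh, hwe i y hi, Pi.add_apply, pe_ne (Ne.symm hji), add_zero, add_zero]
    have hs : Aff (fun y => (c i + ip (w i) y) * y l) := by
      refine (show (fun y => selP π (ip (pe l)) (hfixl l hl) y i + ip (pe i) y) = fun y => (c i + ip (w i) y) * y l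
        from funext fun y => ?_) ▸ haff.add (aff_ip (pe i))
      rw [hsel, ip_pe, ip_pe, hπ]
      rcases zm_cases (y l) with e | e <;> simp [e] <;> grind
    have := dl_eq_zero_of_mul hal ((aff_const (c i)).add (aff_ip (w i))) hs 0
    simp only [dl_apply, ip_zero_right, ip_pe_right, ip_add_right] at this
    grind
  have e : π = Equiv.addRight c := Equiv.ext fun y => funext fun i => by
    rw [hπ]
    by_cases hi : i ∈ S ∪ T
    · rw [show w i = 0 from funext fun a => by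
        by_cases ha : a = d
        · exact hw0 d' hd' i hi a (ha ▸ hdd)
        · exact hw0 d hd i hi a ha, ip_zero_left, add_zero]
      rfl
    · rw [(hout i hi).2, ip_zero_left, add_zero]
      rfl
  have hD : ∀ {l}, l ∈ ({d, d'} : Finset (Fin k)) → l ∉ S ∪ T := fun {l} hl => by
    rcases Finset.mem_insert.1 hl with rfl | hl
    · exact hd
    · rw [Finset.mem_singleton.1 hl]; exact hd'
  obtain ⟨ε, -, hε⟩ := pauli_of_ctl hM hS {d, d'} (d := d) (d' := d') (by simp) (by simp) hdd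
    (fun l hl => (hout l (hD hl)).1) (e ▸ hxe ▸ (mem_LK.1 hx).1) (fun l hl => e ▸ hxe ▸ hctl l (hD hl))
  exact ⟨c, f, ε, by rw [hxe, e], (hout d hd).1, (hout d' hd').1, hε⟩

theorem cent_many (h2 : (2 : F) ≠ 0) (hM : Base M) (hS : Signs M) (hST : Disjoint S T) (hT : T.card ≤ 1)
    (hS2 : 2 ≤ S.card) {g : GL (Pt k) F} (hg : g ∈ LK M S T)
    (himg : ∀ v : Vec S, Nr (g * El F v * g⁻¹) ∧
      ∀ w : Vec S, g * El F v * g⁻¹ * El F w * (g * El F v * g⁻¹)⁻¹ * (El F w)⁻¹ ∈ Czs F S T)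
    {d d' : Fin k} (hd : d ∉ S ∪ T) (hd' : d' ∉ S ∪ T) (hdd : d ≠ d') :
    ∃ v : Vec S, v ≠ 0 ∧ Pau (g * El F v * g⁻¹) := by
  obtain ⟨a, ha, b, hb, hab⟩ := Finset.one_lt_card.1 (by omega : 1 < S.card)
  obtain ⟨u₁, f₁, ε₁, e₁, -, -, hA₁⟩ := many_shape h2 hM hS hST hT hS2 hg himg hd hd' hdd (0, Pi.single ⟨a, ha⟩ 1)
  obtain ⟨u₂, f₂, ε₂, e₂, h₂, h₂', hA₂⟩ :=
    many_shape h2 hM hS hST hT hS2 hg himg hd hd' hdd (0, Pi.single ⟨b, hb⟩ 1)
  rcases zm_cases ε₁ with rfl | rfl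
  · exact ⟨_, single_ne_zero _, e₁ ▸ pau_of_aff (by simpa only [zero_mul, add_zero] using hA₁) u₁⟩
  rcases zm_cases ε₂ with rfl | rfl
  · exact ⟨_, single_ne_zero _, e₂ ▸ pau_of_aff (by simpa only [zero_mul, add_zero] using hA₂) u₂⟩
  refine ⟨(0, Pi.single ⟨a, ha⟩ 1) + (0, Pi.single ⟨b, hb⟩ 1), fun e => ?_, ?_⟩
  · have := congrFun (congrArg Prod.snd e) ⟨a, ha⟩
    simp [hab] at this
  obtain ⟨c, hc⟩ := img_mul g ((0, Pi.single ⟨a, ha⟩ 1) : Vec S) (0, Pi.single ⟨b, hb⟩ 1)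
  have hp : Pau (sd F (fun _ => c) * (g * El F ((0, Pi.single ⟨a, ha⟩ 1) + (0, Pi.single ⟨b, hb⟩ 1) : Vec S) * g⁻¹)) := by
    rw [← hc, e₁, e₂, mon_mul,
      show Equiv.addRight u₁ * Equiv.addRight u₂ = Equiv.addRight (u₂ + u₁) from
        Equiv.ext fun y => by simp [Equiv.Perm.mul_apply, add_assoc]]
    refine pau_of_aff ?_ _
    have := (aff_shift_arg hA₁ u₂).add hA₂
    refine (show (fun y => f₁ (y + u₂) + 1 * ((y + u₂) d * (y + u₂) d') + (f₂ y + 1 * (y d * y d'))) =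
      fun y => f₁ (Equiv.addRight u₂ y) + f₂ y from funext fun y => ?_) ▸ this
    simp only [Pi.add_apply, h₂, h₂', add_zero, Equiv.coe_addRight]
    grind
  have := Pau.mul ⟨c, 0, 0, by rw [pau_zero, mul_one]⟩ hp
  rwa [← mul_assoc, ← sd_const_add, CharTwo.add_self_eq_zero, sd_const_zero, one_mul] at this

/-! ### One coordinate outside the level -/

/-- The points with the given value at one coordinate. -/
def sl (d : Fin k) (b : ZMod 2) : Pt k → ZMod 2 := fun y => y d + (b + 1)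

theorem sl_self (d : Fin k) (b : ZMod 2) {y : Pt k} (hy : y d = b) : sl d b y = 1 := by
  rw [sl, hy, ← add_assoc, CharTwo.add_self_eq_zero, zero_add]

theorem sl_eq {d : Fin k} {b : ZMod 2} {y : Pt k} (h : sl d b y = 1) : y d = b := by
  rw [sl] at h
  grind

theorem sl_conj {d : Fin k} (hd : d ∉ S ∪ T) (b : ZMod 2) {n : GL (Pt k) F} (hn : n ∈ LK M S T) :
    n * sd F (sl d b) * n⁻¹ = sd F (sl d b) := by
  rw [Finset.mem_union, not_or] at hd
  rw [show sd F (sl d b) = sd F (ip (pe d)) * sd F (fun _ => b + 1) by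
    rw [sd_mul]; exact congrArg _ (funext fun y => by simp [sl, ip_pe]),
    show n * (sd F (ip (pe d)) * sd F (fun _ => b + 1)) * n⁻¹ =
      (n * sd F (ip (pe d)) * n⁻¹) * (n * sd F (fun _ => b + 1) * n⁻¹) by group,
    LK_conj_sd hn hd.1 hd.2, conj_sd_const]

theorem sl_kp (h2 : (2 : F) ≠ 0) {d : Fin k} (hd : d ∉ S ∪ T) (b : ZMod 2) {n : GL (Pt k) F}
    (hn : n ∈ LK M S T) : Kp (sl d b) n :=
  kp_of_comm h2 (mul_inv_eq_iff_eq_mul.1 (sl_conj hd b hn))

theorem sl_ctl_conj (h2 : (2 : F) ≠ 0) {d : Fin k} (hd : d ∉ S ∪ T) (b : ZMod 2) {n X : GL (Pt k) F}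
    (hn : n ∈ LK M S T) (hX : X ∈ LK M S T) : n * ctl (sl d b) X * n⁻¹ = ctl (sl d b) (n * X * n⁻¹) :=
  ctl_conj h2 (sl_kp h2 hd b hX) (sl_conj hd b hn)

theorem sl_ctl_mul (h2 : (2 : F) ≠ 0) {d : Fin k} (hd : d ∉ S ∪ T) (b : ZMod 2) {X Y : GL (Pt k) F}
    (hX : X ∈ LK M S T) (hY : Y ∈ LK M S T) : ctl (sl d b) (X * Y) = ctl (sl d b) X * ctl (sl d b) Y :=
  ctl_mul (sl_kp h2 hd b hX) (sl_kp h2 hd b hY)

theorem sd_d_mem {d : Fin k} (hd : d ∉ S ∪ T) (α β : ZMod 2) : sd F (fun y => α + β * y d) ∈ Czs F S T := by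
  rw [Finset.mem_union, not_or] at hd
  have hs : Shp S T 0 (β • pe d) :=
    ⟨fun _ _ => rfl, fun j hj => by rw [Pi.smul_apply, pe_ne (fun e : j = d => hd.1 (e ▸ hj)), smul_zero],
      fun j hj => by rw [Pi.smul_apply, pe_ne (fun e : j = d => hd.2 (e ▸ hj)), smul_zero, Pi.zero_apply]⟩
  exact ⟨α, 0, _, hs, by
    rw [pau_sd, sd_mul]; exact congrArg _ (funext fun y => by simp [ip_smul_left, ip_pe])⟩

theorem slice_pau (h2 : (2 : F) ≠ 0) {d : Fin k} {b c : ZMod 2} {a l : Pt k} (ha : a d = 0)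
    (h : ctl (sl d b) (sd F (fun _ => c) * pau F a l) = 1) : a = 0 ∧ ∀ i, i ≠ d → l i = 0 := by
  have hfix : ∀ y, sl d b (Equiv.addRight a y) = sl d b y := fun y => by simp [sl, ha]
  rw [pau_eq, ← mon_one_left, mon_mul, one_mul, ctl_selP hfix, ← sd_zero, ← mon_one_left] at h
  obtain ⟨hp, hf⟩ := mon_inj h2 h
  set y₀ : Pt k := b • pe d with hy₀
  have h0 : y₀ d = b := by simp [hy₀]
  refine ⟨?_, fun i hi => ?_⟩
  · have := congrArg (fun p : Equiv.Perm (Pt k) => p y₀) hp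
    rw [selP_addRight hfix, sl_self d b h0, one_smul, Equiv.Perm.one_apply] at this
    exact add_eq_left.1 this
  · have h1 := congrFun hf y₀
    have h3 := congrFun hf (y₀ + pe i)
    have hd1 : (y₀ + pe i) d = b := by rw [Pi.add_apply, h0, pe_ne (Ne.symm hi), add_zero]
    simp only [sl_self d b h0, sl_self d b hd1, one_mul, ip_add_right, ip_pe_right, Pi.zero_apply] at h1 h3
    linear_combination h3 - h1

theorem slice_free (h2 : (2 : F) ≠ 0) (hST : Disjoint S T) {d : Fin k} (hd : d ∉ S ∪ T) {b : ZMod 2} {v : Vec S}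
    {z : GL (Pt k) F} (hz : z ∈ Czs F S T) (h : ctl (sl d b) (El F v * z) = 1) : v = 0 := by
  obtain ⟨c, u, w, hs, rfl⟩ := hz
  rw [Finset.mem_union, not_or] at hd
  rw [El, ← mul_assoc, ← sd_const_mul, mul_assoc, pau_mul, ← mul_assoc, ← sd_const_add] at h
  obtain ⟨ha, hl⟩ := slice_pau h2 (by rw [Pi.add_apply, ex_not_mem _ hd.1, hs.hu d hd.2, add_zero]) h
  refine Prod.ext (funext fun i => ?_) (funext fun i => ?_)
  · have := congrFun ha i
    rwa [Pi.add_apply, ex_mem _ i.2, hs.huS hST i.2, add_zero] at this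
  · have := hl i fun e => hd.1 (e ▸ i.2)
    rwa [Pi.add_apply, ex_mem _ i.2, hs.hw i i.2, add_zero] at this

theorem slice_uniq (h2 : (2 : F) ≠ 0) (hM : Base M) (hST : Disjoint S T) {d : Fin k} (hd : d ∉ S ∪ T) {b : ZMod 2}
    {v v' : Vec S} {z z' : GL (Pt k) F} (hz : z ∈ Czs F S T) (hz' : z' ∈ Czs F S T)
    (h : ctl (sl d b) (El F v * z) = ctl (sl d b) (El F v' * z')) : v = v' := by
  obtain ⟨z'', hz'', e⟩ := El_czs_mul hM hST v v' hz (czs_mul (czs_inv hz') (czs_const (qv v')))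
  have hL : ∀ {v : Vec S} {z}, z ∈ Czs F S T → El F v * z ∈ LK M S T :=
    fun {v z} hz => mul_mem (El_mem hM hST v) (czs_LK hM hST hz)
  have hinv : El F v' * (z'⁻¹ * sd F (fun _ => qv v')) = (El F v' * z')⁻¹ := by
    rw [_root_.mul_inv_rev, El_inv, ← mul_assoc, ← sd_const_mul, El_comm_czs hM hST v' (czs_inv hz'), ← mul_assoc,
      ← mul_assoc, sd_const_mul]
  have h0 : ctl (sl d b) (El F (v + v') * z'') = 1 := by
    rw [← e, hinv, sl_ctl_mul h2 hd b (hL hz) (inv_mem (hL hz')), ctl_inv (sl_kp h2 hd b (hL hz')), h,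
      mul_inv_cancel]
  have := slice_free h2 hST hd hz'' h0
  rw [← add_zero v, ← vec_add_self v', ← add_assoc, this, zero_add]

theorem slice_exists (h2 : (2 : F) ≠ 0) (hM : Base M) (hST : Disjoint S T) (hT : T.card ≤ 1) {d : Fin k}
    (hd : d ∉ S ∪ T) (hD : ∀ i, i ≠ d → i ∈ S ∪ T) {x : GL (Pt k) F} (hx : x ∈ LK M S T) (hn : Nr x)
    (hsq : ∃ c, x * x = sd F (fun _ => c)) (hel : ∀ w : Vec S, x * El F w * x⁻¹ * (El F w)⁻¹ ∈ Czs F S T)
    (b : ZMod 2) : ∃ w : Vec S, ∃ z ∈ Czs F S T, ctl (sl d b) x = ctl (sl d b) (El F w * z) := by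
  obtain ⟨π, f, c, w, hxe, -, hπ, hout, hw, hdl⟩ := img_mon h2 hM hST hT hx hn hsq hel
  set u : Pt k := fun i => c i + w i d * b with hu
  have hud : u d = 0 := by simp [hu, (hout d hd).1, (hout d hd).2]
  have hπs : ∀ y, y d = b → π y = y + u := fun y hy => funext fun i => by
    rw [hπ, ip_single fun j hj => hw i j (hD j hj), hy]
    rfl
  have hπd : ∀ y, π y d = y d := fun y => by rw [hπ, (hout d hd).1, (hout d hd).2, ip_zero_left, add_zero, add_zero]
  set f' : Pt k → ZMod 2 := fun y => f (y + (y d + b) • pe d) with hf'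
  have hf'aff : Aff f' := aff_of_basis fun a j y => by
    suffices h : ∀ y, dl (pe j) f' y = if j = d then 0 else dl (pe j) f (b • pe d) by
      rw [dl_apply, h, h, CharTwo.add_self_eq_zero]
    intro y
    split_ifs with hj
    · subst hj
      have e : y + pe j + ((y + pe j) j + b) • pe j = y + (y j + b) • pe j := funext fun i => by
        simp only [Pi.add_apply, Pi.smul_apply, pe_self, smul_eq_mul]
        grind
      rw [dl_apply, hf']
      simp only [e, CharTwo.add_self_eq_zero]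
    · rw [← hdl j (hD j hj) (y + (y d + b) • pe d) (b • pe d) fun i hi => ?_, dl_apply, dl_apply, hf']
      · simp only [Pi.add_apply, pe_ne (Ne.symm hj), add_zero, add_right_comm y (pe j)]
      · rw [show i = d from by_contra fun e => hi (hD i e)]
        simp only [Pi.add_apply, Pi.smul_apply, pe_self, smul_eq_mul]
        grind
  obtain ⟨c₀, l, hl⟩ := aff_eq hf'aff
  have hfl : ∀ y, y d = b → f y = c₀ + ip l y := fun y hy => by
    have := congrFun hl y
    simpa only [hf', hy, CharTwo.add_self_eq_zero, zero_smul, add_zero] using this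
  have hfixπ : ∀ y, sl d b (π y) = sl d b y := fun y => by simp [sl, hπd]
  have hfixu : ∀ y, sl d b (Equiv.addRight u y) = sl d b y := fun y => by simp [sl, hud]
  have key : ctl (sl d b) x = ctl (sl d b) (sd F (fun _ => c₀) * pau F u l) := by
    rw [hxe, pau_eq, ← mon_one_left, mon_mul, one_mul, ctl_selP hfixπ, ctl_selP hfixu]
    congr 1
    · refine Equiv.ext fun y => ?_
      show (if sl d b y = 1 then π y else y) = if sl d b y = 1 then y + u else y
      split_ifs with h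
      · exact hπs y (sl_eq h)
      · rfl
    · funext y
      rcases zm_cases (sl d b y) with h | h <;> simp only [h, zero_mul, one_mul]
      exact hfl y (sl_eq h)
  have hkey : Kp (sl d b) (sd F (fun _ => c₀) * pau F u l) := by
    refine kp_mul (kp_sd _ _) ?_
    rw [pau_eq]
    exact kp_mon hfixu _
  obtain ⟨v, u', z', hs', eu, el⟩ := split_shp hST (a := u) (b := l) fun u₁ w₁ hs => by
    set e₀ := ip l u₁ + ip w₁ u with he₀
    set P := pau F u₁ w₁ with hP
    have hPK : P ∈ LK M S T := czs_LK hM hST (pau_mem_Czs hs)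
    have hcomm : sd F (fun _ => c₀) * pau F u l * P = sd F (fun _ => e₀) * (P * (sd F (fun _ => c₀) * pau F u l)) := by
      rw [mul_assoc, hP, pau_comm u l, ← mul_assoc (pau F u₁ w₁) (sd F _), ← sd_const_mul,
        mul_assoc (sd F fun _ => c₀) (pau F u₁ w₁), ← mul_assoc (sd F fun _ => c₀) (sd F _),
        ← mul_assoc (sd F fun _ => e₀), ← sd_const_add, ← sd_const_add, add_comm c₀]
    have hPY : Kp (sl d b) (P * (sd F (fun _ => c₀) * pau F u l)) := kp_mul (sl_kp h2 hd b hPK) hkey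
    have e : ctl (sl d b) (sd F (fun _ => e₀)) * ctl (sl d b) (P * (sd F (fun _ => c₀) * pau F u l)) =
        ctl (sl d b) (P * (sd F (fun _ => c₀) * pau F u l)) := by
      rw [← ctl_mul (kp_sd _ _) hPY, ← hcomm, ctl_mul hkey (sl_kp h2 hd b hPK), ← key,
        ← sl_ctl_mul h2 hd b hx hPK, (mem_LK.1 hx).2 u₁ w₁ hs, sl_ctl_mul h2 hd b hPK hx, key,
        ctl_mul (sl_kp h2 hd b hPK) hkey]
    rw [mul_eq_right, ctl_sd] at e
    have := congrFun (sd_inj h2 (e.trans sd_zero.symm)) (b • pe d)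
    simpa [sl_self d b (show (b • pe d : Pt k) d = b by simp)] using this
  refine ⟨v, sd F (fun _ => c₀ + ip (ex S v.2) u') * pau F u' z', ⟨_, _, _, hs', rfl⟩, ?_⟩
  rw [key, El, eu, el]
  congr 1
  rw [← mul_assoc, ← sd_const_mul, mul_assoc, pau_mul, ← mul_assoc, ← sd_const_add, add_assoc,
    CharTwo.add_self_eq_zero, add_zero]

/-- The free elements with translations vanishing at given places outnumber the square root of all. -/
theorem exists_pair {Φ Ψ : Vec S → Vec S} (hΦ : ∀ v w, Φ (v + w) = Φ v + Φ w) (hΨ : ∀ v w, Ψ (v + w) = Ψ v + Ψ w)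
    (hΦi : ∀ v, Φ v = 0 → v = 0) (hΨi : ∀ v, Ψ v = 0 → v = 0) (A : Finset ↥S) (hA : A.card < S.card) :
    ∃ u u', (∀ a ∈ A, u.1 a = 0) ∧ (∀ a ∈ A, u'.1 a = 0) ∧ Φ u = Ψ u' ∧ Φ u ≠ 0 := by
  classical
  set emb : (↥(Aᶜ : Finset ↥S) → ZMod 2) × (↥S → ZMod 2) → Vec S :=
    fun p => (fun a => if h : a ∈ Aᶜ then p.1 ⟨a, h⟩ else 0, p.2) with hemb
  have hemb_inj : Function.Injective emb := fun p p' e => by
    refine Prod.ext (funext fun a => ?_) (congrArg (fun v : Vec S => v.2) e)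
    have := congrFun (congrArg (fun v : Vec S => v.1) e) a.1
    simpa [hemb, Finset.mem_compl.1 a.2] using this
  have hK : ∀ p, ∀ a ∈ A, (emb p).1 a = 0 := fun p a ha => dif_neg fun h => Finset.mem_compl.1 h ha
  have hcard : Fintype.card (Vec S) < Fintype.card
      (((↥(Aᶜ : Finset ↥S) → ZMod 2) × (↥S → ZMod 2)) × ((↥(Aᶜ : Finset ↥S) → ZMod 2) × (↥S → ZMod 2))) := by
    simp only [Fintype.card_prod, Fintype.card_fun, Fintype.card_coe, ZMod.card, Finset.card_compl, ← pow_add]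
    exact Nat.pow_lt_pow_right one_lt_two (by omega)
  obtain ⟨p, q, hne, he⟩ := Fintype.exists_ne_map_eq_of_card_lt (fun p => Φ (emb p.1) + Ψ (emb p.2)) hcard
  refine ⟨emb p.1 + emb q.1, emb p.2 + emb q.2,
    fun a ha => by rw [Prod.fst_add, Pi.add_apply, hK _ a ha, hK _ a ha, add_zero],
    fun a ha => by rw [Prod.fst_add, Pi.add_apply, hK _ a ha, hK _ a ha, add_zero], ?_, ?_⟩
  · have e0 : Φ (emb p.1) + Ψ (emb p.2) + (Φ (emb q.1) + Ψ (emb q.2)) = 0 := by
      rw [show Φ (emb p.1) + Ψ (emb p.2) = Φ (emb q.1) + Ψ (emb q.2) from he, vec_add_self]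
    rw [hΦ, hΨ, ← add_zero (Φ (emb p.1) + Φ (emb q.1)), ← vec_add_self (Ψ (emb p.2) + Ψ (emb q.2)), ← add_assoc,
      show Φ (emb p.1) + Φ (emb q.1) + (Ψ (emb p.2) + Ψ (emb q.2)) =
        Φ (emb p.1) + Ψ (emb p.2) + (Φ (emb q.1) + Ψ (emb q.2)) by abel, e0, zero_add]
  · intro e
    have heq : ∀ {v w : Vec S}, v + w = 0 → v = w := fun {v w} h => by
      rw [← add_zero v, ← vec_add_self w, ← add_assoc, h, zero_add]
    have h1 : emb p.1 = emb q.1 := heq (hΦi _ e)
    have h4 : Ψ (emb p.2) = Ψ (emb q.2) := by simpa only [h1, add_right_inj] using he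
    have h3 : emb p.2 = emb q.2 := heq (hΨi _ (by rw [hΨ, h4, vec_add_self]))
    exact hne (Prod.ext (hemb_inj h1) (hemb_inj h3))

theorem ph_act (hM : Base M) (hST : Disjoint S T) (i : ↥S) {q : Fin k} (hq : q ∈ T) : ∃ n ∈ LK M S T,
    ∀ v : Vec S, Shp S T (v.1 i • pe q) (v.1 i • pe q) ∧ CP n (ex S v.1) (ex S v.2)
      (ex S v.1 + v.1 i • pe q) (ex S (v.2 + v.1 i • Pi.single i 1) + v.1 i • pe q) := by
  have hqS : q ∉ S := fun h => Finset.disjoint_left.1 hST h hq
  have hne : (i : Fin k) ≠ q := fun e => hqS (e ▸ i.2)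
  have h : ip (pe (i : Fin k)) (pe q) = 0 := by rw [ip_pe, pe_ne hne]
  have hn : sd F (qf (pe (i : Fin k)) (pe q) 0) * pm F (trP (pe q) (pe i) 0 h) ∈ LK M S T := by
    refine mem_LK_of_conj (M.mul_mem (hM.quad _ (quad_qf _ _ _)) (hM.aff _ (affPerm_trP _ _ _ h))) fun u w hs => ?_
    rw [show ∀ X Y Z : GL (Pt k) F, X * Y * Z * (X * Y)⁻¹ = X * (Y * Z * Y⁻¹) * X⁻¹ from fun X Y Z => by group,
      tr_conj, ip_pe, hs.huS hST i.2, zero_mul, sd_const_zero, one_mul, zero_smul, add_zero, qd_conj,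
      ip_pe_right, ip_pe, ip_pe, hs.huS hST i.2, zero_mul, sd_const_zero, one_mul, zero_smul, add_zero,
      hs.hq q hq, add_assoc, pt_add_self, add_zero]
  refine ⟨_, hn, fun v => ⟨⟨fun t ht => ?_, fun t ht => ?_, fun _ _ => rfl⟩,
    CP.comp ⟨_, tr_conj (pe q) (pe (i : Fin k)) 0 h (ex S v.1) (ex S v.2)⟩ (CP.of_eq (qd_conj _ _ _ _ _) ?_ ?_)⟩⟩
  · rw [Pi.smul_apply, pe_ne (fun e : t = q => ht (e ▸ hq)), smul_zero]
  · rw [Pi.smul_apply, pe_ne (fun e : t = q => hqS (e ▸ ht)), smul_zero]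
  · rw [ip_pe, ex_mem v.1 i.2]
  · simp only [map_add, map_smul, ex_single i.2, ip_pe, ip_pe_right, ip_add_right, Pi.add_apply, Pi.smul_apply,
      ex_mem _ i.2, ex_not_mem _ hqS, pe_ne hne, pe_self, smul_eq_mul, mul_zero, mul_one, add_zero, zero_add,
      zero_smul]

theorem qd_act (hM : Base M) (hST : Disjoint S T) (i j : ↥S) : ∃ n ∈ LK M S T, ∀ v : Vec S,
    CP n (ex S v.1) (ex S v.2) (ex S v.1)
      (ex S (v.2 + v.1 j • Pi.single i 1 + v.1 i • Pi.single j 1)) := by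
  refine ⟨_, qd_LK hM (pe i) (pe j) 0 fun u w hs =>
      ⟨by rw [ip_pe, hs.huS hST i.2], by rw [ip_pe, hs.huS hST j.2]⟩, fun v =>
    CP.of_eq (qd_conj (pe (i : Fin k)) (pe j) 0 _ _) rfl ?_⟩
  rw [map_add, map_add, map_smul, map_smul, ex_single i.2, ex_single j.2, ip_pe, ip_pe, ex_mem v.1 i.2,
    ex_mem v.1 j.2]

theorem cent_one [Finite F] (h2 : (2 : F) ≠ 0) (hM : Base M) (hk : 4 ≤ k) (hST : Disjoint S T) (hT : T.card ≤ 1)
    {g : GL (Pt k) F} (hg : g ∈ LK M S T)
    (himg : ∀ v : Vec S, Nr (g * El F v * g⁻¹) ∧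
      ∀ w : Vec S, g * El F v * g⁻¹ * El F w * (g * El F v * g⁻¹)⁻¹ * (El F w)⁻¹ ∈ Czs F S T)
    (hgood : ∀ w : Vec S, w ≠ 0 → ∀ x ∈ LK M S T, x * El F w * x⁻¹ * (El F w)⁻¹ ∈ Czs F S T → Nr x)
    {d : Fin k} (hd : d ∉ S ∪ T) (hD : ∀ i, i ≠ d → i ∈ S ∪ T) :
    ∃ v w : Vec S, v ≠ 0 ∧ g * El F v * g⁻¹ * (El F w)⁻¹ ∈ Czs F S T := by
  classical
  have hx := img_LK hM hST hg
  have hkp : ∀ b {X : GL (Pt k) F}, X ∈ LK M S T → Kp (sl d b) X := fun b {X} h => sl_kp h2 hd b h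
  have hL : ∀ {v : Vec S} {z}, z ∈ Czs F S T → El F v * z ∈ LK M S T :=
    fun {v z} hz => mul_mem (El_mem hM hST v) (czs_LK hM hST hz)
  have hcard : k = S.card + T.card + 1 := by
    have e : insert d (S ∪ T) = Finset.univ := Finset.eq_univ_iff_forall.2 fun i => Finset.mem_insert.2
      ((em (i = d)).imp_right (hD i))
    have := congrArg Finset.card e
    rwa [Finset.card_insert_of_notMem hd, Finset.card_union_of_disjoint hST, Finset.card_fin, eq_comm] at this
  -- the maps of the slices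
  have hex : ∀ b (v : Vec S), ∃ w : Vec S, ∃ z ∈ Czs F S T,
      ctl (sl d b) (g * El F v * g⁻¹) = ctl (sl d b) (El F w * z) := fun b v =>
    slice_exists h2 hM hST hT hd hD (hx v) (himg v).1 ⟨_, img_sq g v⟩ (himg v).2 b
  choose Φ hΦ using hex
  have huq : ∀ {b v w}, (∃ z ∈ Czs F S T, ctl (sl d b) (g * El F v * g⁻¹) = ctl (sl d b) (El F w * z)) →
      Φ b v = w := fun {b v w} ⟨z, hz, e⟩ => by
    obtain ⟨z₀, hz₀, e₀⟩ := hΦ b v
    exact slice_uniq h2 hM hST hd hz₀ hz (e₀.symm.trans e)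
  have hadd : ∀ b v v', Φ b (v + v') = Φ b v + Φ b v' := fun b v v' => by
    obtain ⟨z, hz, e⟩ := hΦ b v
    obtain ⟨z', hz', e'⟩ := hΦ b v'
    obtain ⟨c, hc⟩ := img_mul g v v'
    obtain ⟨z'', hz'', ez⟩ := El_czs_mul hM hST (Φ b v) (Φ b v') hz hz'
    refine huq ⟨sd F (fun _ => c) * z'', czs_mul (czs_const c) hz'', ?_⟩
    have hc' : g * El F (v + v') * g⁻¹ = sd F (fun _ => c) * (g * El F v * g⁻¹ * (g * El F v' * g⁻¹)) := by
      rw [hc, ← mul_assoc (sd F _), ← sd_const_add, CharTwo.add_self_eq_zero, sd_const_zero, one_mul]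
    rw [hc', ← mul_assoc (El F _), ← sd_const_mul, mul_assoc (sd F _) (El F _), ← ez,
      ctl_mul (kp_sd _ _) (hkp b (mul_mem (hx v) (hx v'))), ctl_mul (hkp b (hx v)) (hkp b (hx v')), e, e',
      ctl_mul (kp_sd _ _) (hkp b (mul_mem (hL hz) (hL hz'))), ctl_mul (hkp b (hL hz)) (hkp b (hL hz'))]
  have hzero : ∀ b v, Φ b v = 0 → v = 0 := fun b v h => by
    obtain ⟨z, hz, e⟩ := hΦ b v
    rw [h, El_zero, one_mul, ← sl_ctl_conj h2 hd b hg (El_mem hM hST v)] at e
    conv_rhs at e => rw [← LK_conj_czs hg hz, ← sl_ctl_conj h2 hd b hg (czs_LK hM hST hz)]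
    rw [mul_left_inj, mul_right_inj] at e
    refine slice_uniq h2 hM hST hd czs_one hz (b := b) ?_
    rwa [mul_one, El_zero, one_mul]
  have hinj : ∀ b, Function.Injective (Φ b) := fun b v v' e => by
    have := hzero b (v + v') (by rw [hadd, e, vec_add_self])
    rw [← add_zero v, ← vec_add_self v', ← add_assoc, this, zero_add]
  -- elements of the normaliser fixing many free elements
  have hconj : ∀ n ∈ LK M S T, ∀ (φ : Vec S → Vec S) (A : Finset ↥S), A.card < S.card →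
      (∀ v : Vec S, ∃ u z, Shp S T u z ∧ CP n (ex S v.1) (ex S v.2) (ex S (φ v).1 + u) (ex S (φ v).2 + z)) →
      (∀ v : Vec S, (∀ a ∈ A, v.1 a = 0) → CP n (ex S v.1) (ex S v.2) (ex S v.1) (ex S v.2)) →
      ∀ v v', Φ 0 v = Φ 1 v' → Φ 0 (φ v) = Φ 1 (φ v') := by
    intro n hn φ A hA hφ hfix
    obtain ⟨u, u', hu, hu', huu, hne⟩ := exists_pair (hadd 0) (hadd 1) (hzero 0) (hzero 1) A hA
    have hcLK : g * n * g⁻¹ ∈ LK M S T := mul_mem (mul_mem hg hn) (inv_mem hg)
    set w := Φ 0 u with hw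
    have hcen : ∀ (b : ZMod 2) (v : Vec S), (∀ a ∈ A, v.1 a = 0) → Φ b v = w → ∃ e,
        ctl (sl d b) (g * n * g⁻¹ * El F w * (g * n * g⁻¹)⁻¹ * (El F w)⁻¹) = ctl (sl d b) (sd F (fun _ => e)) := by
      intro b v hv hvw
      obtain ⟨z, hz, e⟩ := hΦ b v
      rw [hvw] at e
      obtain ⟨ε, hε⟩ := hfix v hv
      refine ⟨ε, ?_⟩
      have hεx : g * n * g⁻¹ * (g * El F v * g⁻¹) * (g * n * g⁻¹)⁻¹ = sd F (fun _ => ε) * (g * El F v * g⁻¹) := by
        rw [show g * n * g⁻¹ * (g * El F v * g⁻¹) * (g * n * g⁻¹)⁻¹ = g * (n * El F v * n⁻¹) * g⁻¹ by group,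
          show n * El F v * n⁻¹ = sd F (fun _ => ε) * El F v from hε, ← mul_assoc g, ← sd_const_mul]
        group
      have h1 : ctl (sl d b) (g * n * g⁻¹ * (El F w * z) * (g * n * g⁻¹)⁻¹) =
          ctl (sl d b) (sd F (fun _ => ε) * (El F w * z)) := by
        rw [← sl_ctl_conj h2 hd b hcLK (hL hz), ← e, sl_ctl_conj h2 hd b hcLK (hx v), hεx,
          ctl_mul (kp_sd _ _) (hkp b (hx v)), e, ctl_mul (kp_sd _ _) (hkp b (hL hz))]
      have hsd : sd F (fun _ => ε) ∈ LK M S T := czs_LK hM hST (czs_const ε)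
      rw [show g * n * g⁻¹ * El F w * (g * n * g⁻¹)⁻¹ * (El F w)⁻¹ =
          g * n * g⁻¹ * (El F w * z) * (g * n * g⁻¹)⁻¹ * (El F w * (g * n * g⁻¹ * z * (g * n * g⁻¹)⁻¹))⁻¹ by group,
        LK_conj_czs hcLK hz, ctl_mul (hkp b (mul_mem (mul_mem hcLK (hL hz)) (inv_mem hcLK))) (hkp b (inv_mem (hL hz))),
        h1, ctl_inv (hkp b (hL hz)), ctl_mul (kp_sd _ _) (hkp b (hL hz)), mul_inv_cancel_right]
    obtain ⟨ε₀, h₀⟩ := hcen 0 u hu rfl
    obtain ⟨ε₁, h₁⟩ := hcen 1 u' hu' huu.symm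
    have hE : g * n * g⁻¹ * El F w * (g * n * g⁻¹)⁻¹ * (El F w)⁻¹ ∈ Czs F S T := by
      rw [← ctl_mul_compl (hkp 0 (mul_mem (mul_mem (mul_mem hcLK (El_mem hM hST w)) (inv_mem hcLK))
          (inv_mem (El_mem hM hST w)))),
        show (fun y => sl d 0 y + 1) = sl d 1 from funext fun y => by simp only [sl]; grind, h₀, h₁, ctl_sd, ctl_sd,
        sd_mul, show ((fun y => sl d 0 y * ε₀) + fun y => sl d 1 y * ε₁) = fun y => ε₀ + (ε₀ + ε₁) * y d from
          funext fun y => by simp only [Pi.add_apply, sl]; grind]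
      exact sd_d_mem hd _ _
    have hnr := hgood w hne _ hcLK hE
    intro v v' hvv
    obtain ⟨w', u₁, z₁, hs₁, hcp⟩ := nor_El h2 hST hcLK hnr (Φ 0 v)
    obtain ⟨e₁, he₁, hce⟩ := cp_El hs₁ hcp
    have h' : ∀ b x, Φ b x = Φ 0 v → Φ b (φ x) = w' := fun b x hbx => by
      obtain ⟨z, hz, e⟩ := hΦ b x
      rw [hbx] at e
      obtain ⟨u₂, z₂, hs₂, hcp₂⟩ := hφ x
      obtain ⟨e₂, he₂, hne₂⟩ := cp_El (v := x) (w := φ x) hs₂ hcp₂
      refine huq ⟨e₁ * z * e₂⁻¹, czs_mul (czs_mul he₁ hz) (czs_inv he₂), ?_⟩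
      have hA' : g * n * g⁻¹ * (g * El F x * g⁻¹) * (g * n * g⁻¹)⁻¹ = g * El F (φ x) * g⁻¹ * e₂ := by
        rw [show g * n * g⁻¹ * (g * El F x * g⁻¹) * (g * n * g⁻¹)⁻¹ = g * (n * El F x * n⁻¹) * g⁻¹ by group, hne₂,
          show g * (El F (φ x) * e₂) * g⁻¹ = g * El F (φ x) * g⁻¹ * (g * e₂ * g⁻¹) by group, LK_conj_czs hg he₂]
      have hB : g * n * g⁻¹ * (El F (Φ 0 v) * z) * (g * n * g⁻¹)⁻¹ = El F w' * (e₁ * z) := by
        rw [show ∀ c P Q : GL (Pt k) F, c * (P * Q) * c⁻¹ = c * P * c⁻¹ * (c * Q * c⁻¹) from fun c P Q => by group,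
          hce, LK_conj_czs hcLK hz, mul_assoc]
      rw [← mul_assoc (El F w'), ← hB, show g * El F (φ x) * g⁻¹ = g * n * g⁻¹ * (g * El F x * g⁻¹) *
          (g * n * g⁻¹)⁻¹ * e₂⁻¹ by rw [hA', mul_inv_cancel_right],
        ctl_mul (hkp b (mul_mem (mul_mem hcLK (hx x)) (inv_mem hcLK))) (hkp b (czs_LK hM hST (czs_inv he₂))),
        ctl_mul (hkp b (mul_mem (mul_mem hcLK (hL hz)) (inv_mem hcLK))) (hkp b (czs_LK hM hST (czs_inv he₂))),
        ← sl_ctl_conj h2 hd b hcLK (hx x), ← sl_ctl_conj h2 hd b hcLK (hL hz), e]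
    rw [h' 0 v rfl, h' 1 v' hvv.symm]
  -- a sign sent alike by both slices
  obtain ⟨v₀, hv₀, hq₀, hv⟩ : ∃ v₀ : Vec S, v₀ ≠ 0 ∧ qv v₀ = 0 ∧ Φ 0 v₀ = Φ 1 v₀ := by
    obtain ⟨a, ha⟩ := Finset.card_pos.1 (by omega : 0 < S.card)
    lift a to ↥S using ha
    refine ⟨(0, Pi.single a 1), single_ne_zero a, by simp [qv], ?_⟩
    have hsurj : ∀ v, ∃ v', Φ 0 v = Φ 1 v' := fun v =>
      (Finite.surjective_of_injective (hinj 1) (Φ 0 v)).imp fun _ h => h.symm
    obtain ⟨v', hv'⟩ := hsurj (0, Pi.single a 1)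
    have hv'0 : v' ≠ 0 := fun e => by
      rw [e, show Φ 1 (0 : Vec S) = 0 from by simpa using hadd 1 0 0] at hv'
      exact single_ne_zero a (hzero 0 _ hv')
    suffices h : ∀ i, v'.1 i = 0 ∧ (i ≠ a → v'.2 i = 0) by
      rwa [show v' = (0, Pi.single a 1) from Prod.ext (funext fun i => (h i).1) (funext fun i => by
        by_cases hi : i = a
        · subst hi
          show v'.2 i = (Pi.single i 1 : ↥S → ZMod 2) i
          rw [Pi.single_eq_same]
          refine (zm_cases _).resolve_left fun e => hv'0 (Prod.ext (funext fun j => (h j).1) (funext fun j => ?_))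
          by_cases hj : j = i
          · rw [hj, e]; rfl
          · exact (h j).2 hj
        · show v'.2 i = (Pi.single a 1 : ↥S → ZMod 2) i
          rw [(h i).2 hi, Pi.single_eq_of_ne hi])] at hv'
    rcases T.eq_empty_or_nonempty with hT0 | ⟨q, hq⟩
    · have main : ∀ b : ↥S, b ≠ a → ∀ i, v'.1 i = 0 ∧ (i ≠ a → i ≠ b → v'.2 i = 0) := by
        intro b hb
        obtain ⟨n, hn, hcp⟩ := qd_act (F := F) hM hST a b
        obtain ⟨t', ht'⟩ := hsurj (Pi.single b 1, 0)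
        have := hconj n hn (fun v => (v.1, v.2 + v.1 b • Pi.single a 1 + v.1 a • Pi.single b 1)) {a, b}
          (by rw [hT0, Finset.card_empty] at hcard; have : ({a, b} : Finset ↥S).card ≤ 2 := Finset.card_le_two; omega)
          (fun v => ⟨0, 0, shp_zero, by rw [add_zero, add_zero]; exact hcp v⟩)
          (fun v hv => by
            have := hcp v
            rwa [hv a (by simp), hv b (by simp), zero_smul, zero_smul, add_zero, add_zero] at this) _ _ ht'
        have e : v' = (t'.1, t'.2 + t'.1 b • Pi.single a 1 + t'.1 a • Pi.single b 1) + t' := hinj 1 (by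
          rw [hadd, ← this, ← ht', ← hadd, ← hv']
          congr 1
          refine Prod.ext ?_ ?_
          · simp [vec_add_self, ← two_smul (ZMod 2), show (2 : ZMod 2) = 0 from rfl]
          · simp [hb.symm])
        intro i
        rw [e]
        refine ⟨by simp [CharTwo.add_self_eq_zero], fun hia hib => ?_⟩
        simp [hia, hib, CharTwo.add_self_eq_zero]
      rw [hT0, Finset.card_empty] at hcard
      haveI : Nontrivial ↥S := Fintype.one_lt_card_iff_nontrivial.1 (by rw [Fintype.card_coe]; omega)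
      obtain ⟨b, hb⟩ := exists_ne a
      obtain ⟨c, -, hc⟩ : ∃ c ∈ (Finset.univ : Finset ↥S), c ∉ ({a, b} : Finset ↥S) :=
        Finset.exists_mem_notMem_of_card_lt_card (by
          rw [Finset.card_univ, Fintype.card_coe]
          have : ({a, b} : Finset ↥S).card ≤ 2 := Finset.card_le_two
          omega)
      simp only [Finset.mem_insert, Finset.mem_singleton, not_or] at hc
      intro i
      refine ⟨(main b hb i).1, fun hia => ?_⟩
      by_cases hib : i = b
      · exact (main c hc.1 i).2 hia fun e => hc.2 (e.symm.trans hib)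
      · exact (main b hb i).2 hia hib
    · obtain ⟨n, hn, hcp⟩ := ph_act (F := F) hM hST a hq
      obtain ⟨t', ht'⟩ := hsurj (Pi.single a 1, 0)
      have := hconj n hn (fun v => (v.1, v.2 + v.1 a • Pi.single a 1)) {a}
        (by rw [Finset.card_singleton]; omega)
        (fun v => ⟨_, _, (hcp v).1, (hcp v).2⟩)
        (fun v hv => by
          have := (hcp v).2
          rwa [hv a (by simp), zero_smul, zero_smul, add_zero, add_zero, add_zero] at this) _ _ ht'
      have e : v' = (t'.1, t'.2 + t'.1 a • Pi.single a 1) + t' := hinj 1 (by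
        rw [hadd, ← this, ← ht', ← hadd, ← hv']
        congr 1
        refine Prod.ext ?_ ?_
        · funext i; simp [CharTwo.add_self_eq_zero]
        · simp)
      intro i
      rw [e]
      refine ⟨by simp [CharTwo.add_self_eq_zero], fun hia => ?_⟩
      simp [hia, CharTwo.add_self_eq_zero]
  -- its image
  obtain ⟨z₀, hz₀, e₀⟩ := hΦ 0 v₀
  obtain ⟨z₁, hz₁, e₁⟩ := hΦ 1 v₀
  rw [← hv] at e₁
  set w := Φ 0 v₀ with hw
  refine ⟨v₀, w, hv₀, ?_⟩
  have hzz : ∀ (b : ZMod 2) (z : GL (Pt k) F) (c : ZMod 2) (u ω : Pt k), Shp S T u ω →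
      z = sd F (fun _ => c) * pau F u ω → ctl (sl d b) (g * El F v₀ * g⁻¹) = ctl (sl d b) (El F w * z) →
      qv w + ip ω u = 0 := fun b z c u ω hs hze e => by
    have hz : z ∈ Czs F S T := ⟨c, u, ω, hs, hze⟩
    have h1 := congrArg (fun t : GL (Pt k) F => t * t) e
    simp only [← sl_ctl_mul h2 hd b (hx v₀) (hx v₀), ← sl_ctl_mul h2 hd b (hL hz) (hL hz), img_sq, hq₀,
      sd_const_zero, ctl_one] at h1
    rw [show El F w * z * (El F w * z) = El F w * (z * El F w) * z by group, ← El_comm_czs hM hST w hz,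
      show El F w * (El F w * z) * z = El F w * El F w * (z * z) by group, El_sq, hze, mul_assoc (sd F fun _ => c),
      ← mul_assoc (pau F u ω), ← sd_const_mul, mul_assoc (sd F fun _ => c) (pau F u ω), ← mul_assoc (sd F fun _ => c),
      ← sd_const_add, CharTwo.add_self_eq_zero, sd_const_zero, one_mul, pau_mul, pt_add_self, pt_add_self, pau_zero,
      mul_one, ← sd_const_add, ctl_sd] at h1
    have := congrFun (sd_inj h2 (h1.symm.trans sd_zero.symm)) (b • pe d)
    simpa [sl_self d b (show (b • pe d : Pt k) d = b by simp)] using this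
  obtain ⟨c₀, u₀, ω₀, hs₀, hz₀e⟩ := id hz₀
  obtain ⟨c₁, u₁, ω₁, hs₁, hz₁e⟩ := id hz₁
  have q₀ := hzz 0 z₀ c₀ u₀ ω₀ hs₀ hz₀e e₀
  have q₁ := hzz 1 z₁ c₁ u₁ ω₁ hs₁ hz₁e e₁
  obtain rfl : u₀ = u₁ := shp_ext hT hs₀ hs₁ (add_left_cancel (q₀.trans q₁.symm))
  have hωd : ∀ i, i ≠ d → (ω₀ + ω₁) i = 0 := fun i hi => by
    rcases Finset.mem_union.1 (hD i hi) with h | h
    · rw [Pi.add_apply, hs₀.hw i h, hs₁.hw i h, add_zero]
    · rw [Pi.add_apply, hs₀.hq i h, hs₁.hq i h, CharTwo.add_self_eq_zero]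
  set κ := c₁ + (c₀ + ip ω₀ 0) with hκ
  have hz10 : z₁ = z₀ * sd F (fun y => κ + (ω₀ + ω₁) d * y d) := by
    rw [hz₀e, hz₁e, show (fun y : Pt k => κ + (ω₀ + ω₁) d * y d) = (fun _ => κ) + ip (ω₀ + ω₁) from
      funext fun y => (congrArg (κ + ·) (ip_single hωd y)).symm, ← sd_mul, ← pau_sd,
      mul_assoc, ← mul_assoc (pau F u₀ ω₀), ← sd_const_mul, mul_assoc (sd F fun _ => κ) (pau F u₀ ω₀), pau_mul,
      add_zero, ← add_assoc, pt_add_self, zero_add, ← mul_assoc, ← mul_assoc, ← sd_const_add, ← sd_const_add]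
    congr 1
    refine congrArg _ (funext fun _ => ?_)
    rw [hκ, ip_zero_right]
    grind
  set e := sd F (fun y => κ + (ω₀ + ω₁) d * y d) with he
  have hec : e ∈ Czs F S T := sd_d_mem hd _ _
  have hx₀ : g * El F v₀ * g⁻¹ = El F w * (z₀ * sd F (fun y => 0 + (κ + (ω₀ + ω₁) d) * y d)) := by
    have hsplit : ∀ {X : GL (Pt k) F}, X ∈ LK M S T → ctl (sl d 0) X * ctl (sl d 1) X = X := fun {X} hX => by
      conv_rhs => rw [← ctl_mul_compl (hkp 0 hX)]
      rw [show (fun y => sl d 0 y + 1) = sl d 1 from funext fun y => by simp only [sl]; grind]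
    rw [← hsplit (hx v₀), e₀, e₁, hz10, ← mul_assoc (El F w), sl_ctl_mul h2 hd 1 (hL hz₀) (czs_LK hM hST hec),
      ← mul_assoc, hsplit (hL hz₀), he, ctl_sd, mul_assoc]
    congr 2
    refine congrArg _ (funext fun y => ?_)
    simp only [sl]
    rcases zm_cases (y d) with h | h <;> rw [h] <;> grind
  have hZ := czs_mul hz₀ (sd_d_mem (F := F) hd 0 (κ + (ω₀ + ω₁) d))
  rwa [hx₀, El_comm_czs hM hST w hZ, mul_inv_cancel_right]

/-- If an element of a level sends every free element to a normalising element commuting with the free elements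
modulo the centre, then it sends some free element to a free one modulo the centre. -/
theorem cent_level [Finite F] (h2 : (2 : F) ≠ 0) (hM : Base M) (hS : Signs M) (hk : 4 ≤ k) (hST : Disjoint S T)
    (hT : T.card ≤ 1) (hS2 : 2 ≤ S.card) {g : GL (Pt k) F} (hg : g ∈ LK M S T)
    (himg : ∀ v : Vec S, Nr (g * El F v * g⁻¹) ∧
      ∀ w : Vec S, g * El F v * g⁻¹ * El F w * (g * El F v * g⁻¹)⁻¹ * (El F w)⁻¹ ∈ Czs F S T)
    (hgood : ∀ w : Vec S, w ≠ 0 → ∀ x ∈ LK M S T, x * El F w * x⁻¹ * (El F w)⁻¹ ∈ Czs F S T → Nr x) :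
    ∃ v w : Vec S, v ≠ 0 ∧ g * El F v * g⁻¹ * (El F w)⁻¹ ∈ Czs F S T := by
  by_cases hd : ∃ d, d ∉ S ∪ T
  · obtain ⟨d, hd⟩ := hd
    by_cases hd' : ∃ d', d' ∉ S ∪ T ∧ d ≠ d'
    · obtain ⟨d', hd', hdd⟩ := hd'
      obtain ⟨v, hv, hp⟩ := cent_many h2 hM hS hST hT hS2 hg himg hd hd' hdd
      obtain ⟨w, hw⟩ := pau_split h2 hST (img_LK hM hST hg v) hp
      exact ⟨v, w, hv, hw⟩
    · push Not at hd'
      exact cent_one h2 hM hk hST hT hg himg hgood hd fun i hi =>
        by_contra fun h => hi (hd' i h).symm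
  · push Not at hd
    obtain ⟨a, ha⟩ := Finset.card_pos.1 (by omega : 0 < S.card)
    obtain ⟨w, hw⟩ := pau_split h2 hST (img_LK hM hST hg (0, Pi.single ⟨a, ha⟩ 1))
      (cent_empty h2 hM hST hT (img_LK hM hST hg _) (himg _).1 ⟨_, img_sq g _⟩ (himg _).2 hd)
    exact ⟨_, w, single_ne_zero _, hw⟩

end Cfsg.Agent.C6Plus10
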