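import Cfsg.Agent.Lib.C6Minus10Free
import Cfsg.Agent.Lib.C6Plus10Cent

/-!
The centralising step at a level of the minus-type model: if an element of a level sends every free element to
a normalising element commuting with the free elements modulo the centre, then it sends some free element to a
free element, modulo the centre.
-/

set_option autoImplicit false
set_option linter.unusedSectionVars false

namespace Cfsg.Agent.C6Minus10.CentAux

open Matrix Cfsg.Agent.C6Plus10 Cfsg.Agent.C6Minus10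
open scoped MatrixGroups

variable {F : Type*} [Field F] {j : ℕ} {p : Par F} {M : Subgroup (GL (Ix j) F)} {S : Finset (Fin j)}

/-! ### Blocks -/

theorem qel_mul_inv (p : Par F) (c d e : ZMod 2) : (qel p c d e)⁻¹ = qel p (c + d + e * d + e) d e := by
  refine inv_eq_of_mul_eq_one_right ?_
  rw [qel_mul, ← qel_zero p]
  congr 1
  · rcases zm_cases c with rfl | rfl <;> rcases zm_cases d with rfl | rfl <;> rcases zm_cases e with rfl | rfl <;>
      decide
  · exact CharTwo.add_self_eq_zero _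
  · exact CharTwo.add_self_eq_zero _

theorem qel_comm_jq (c d e : ZMod 2) : qel p c d e * jq = (sg e : GL (Fin 2) F) * jq * qel p c d e := by
  rw [show (jq : GL (Fin 2) F) = qel p 0 1 0 by simp [qel], sg_qel, qel_mul, qel_mul]
  congr 1 <;> grind

theorem qel_comm_aq (c d e : ZMod 2) : qel p c d e * aq p = (sg d : GL (Fin 2) F) * aq p * qel p c d e := by
  rw [show (aq p : GL (Fin 2) F) = qel p 0 0 1 by simp [qel], sg_qel, qel_mul, qel_mul]
  congr 1 <;> grind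

theorem qel_inj (h2 : (2 : F) ≠ 0) {c d e c' d' e' : ZMod 2} (h : qel p c d e = qel p c' d' e') :
    c = c' ∧ d = d' ∧ e = e' := by
  have hne : (1 : F) ≠ -1 := fun e => h2 (by linear_combination e)
  have hsg : ∀ {a b : ZMod 2}, (sg a : GL (Fin 2) F) = sg b → a = b := by
    intro a b e
    have e00 := congrArg (fun g : GL (Fin 2) F => (g : Matrix (Fin 2) (Fin 2) F) 0 0) e
    rcases zm_cases a with rfl | rfl <;> rcases zm_cases b with rfl | rfl <;> simp [sg_one] at e00 <;>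
      first
        | rfl
        | exact absurd e00 hne
        | exact absurd e00.symm hne
        | exact absurd (show (2 : F) = 0 by linear_combination e00) h2
        | exact absurd (show (2 : F) = 0 by linear_combination -e00) h2
  have he : e = e' := hsg (a := e) (b := e') (mul_right_cancel (b := jq * qel p c d e) (by
    rw [← mul_assoc, ← qel_comm_jq, h, qel_comm_jq, mul_assoc]))
  have hd : d = d' := hsg (a := d) (b := d') (mul_right_cancel (b := aq p * qel p c d e) (by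
    rw [← mul_assoc, ← qel_comm_aq, h, qel_comm_aq, mul_assoc]))
  subst hd he
  rw [qel_eq, qel_eq] at h
  exact ⟨hsg (mul_right_cancel h), rfl, rfl⟩

theorem blk_inj {N N' : Pt j → GL (Fin 2) F} (h : (blk N : GL (Ix j) F) = blk N') : N = N' := by
  funext y
  refine Units.ext (Matrix.ext fun i l => ?_)
  have := congrArg (fun g : GL (Ix j) F => (g : Matrix (Ix j) (Ix j) F) (y, i) (y, l)) h
  simpa [blk_val, blkM_apply] using this

theorem blk_det (hM : BaseMinus p M) {N : Pt j → GL (Fin 2) F} (h : blk N ∈ M) (y : Pt j) :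
    (N y : Matrix (Fin 2) (Fin 2) F).det = 1 := by
  have := mem_spM.1 (hM.le h) (Pi.single (y, 0) 1) (Pi.single (y, 1) 1)
  simp only [sform, blk_val, Matrix.mulVec_single_one, Matrix.col_apply, blkM_apply] at this
  rw [Finset.sum_eq_single y (fun z _ hz => by simp [hz]) (by simp),
    Finset.sum_eq_single y (fun z _ hz => by simp [hz]) (by simp)] at this
  simp at this
  rw [Matrix.det_fin_two]
  linear_combination this

theorem sd_entry (h : Pt j → ZMod 2) (u v : Ix j) :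
    ((up (sd F h) : GL (Ix j) F) : Matrix (Ix j) (Ix j) F) u v = if u = v then sgn F (h u.1) else 0 := by
  obtain ⟨x, i⟩ := u
  obtain ⟨y, l⟩ := v
  rw [up_val, upM_apply, C6Plus10.sd_apply, Matrix.diagonal_apply]
  by_cases hx : x = y <;> by_cases hi : i = l <;> simp [hx, hi]

theorem sd_mul_apply (h : Pt j → ZMod 2) (X : Matrix (Ix j) (Ix j) F) (u v : Ix j) :
    (((up (sd F h) : GL (Ix j) F) : Matrix (Ix j) (Ix j) F) * X) u v = sgn F (h u.1) * X u v := by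
  rw [Matrix.mul_apply, Finset.sum_eq_single u (fun z _ hz => by rw [sd_entry, if_neg (Ne.symm hz), zero_mul])
    (by simp), sd_entry, if_pos rfl]

theorem mul_sd_apply (h : Pt j → ZMod 2) (X : Matrix (Ix j) (Ix j) F) (u v : Ix j) :
    (X * ((up (sd F h) : GL (Ix j) F) : Matrix (Ix j) (Ix j) F)) u v = X u v * sgn F (h v.1) := by
  rw [Matrix.mul_apply, Finset.sum_eq_single v (fun z _ hz => by rw [sd_entry, if_neg hz, mul_zero])
    (by simp), sd_entry, if_pos rfl]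

theorem comm_entry_zero (h2 : (2 : F) ≠ 0) {g : GL (Ix j) F} {h : Pt j → ZMod 2}
    (hg : g * up (sd F h) = up (sd F h) * g) {u v : Ix j} (hne : h u.1 ≠ h v.1) :
    (g : Matrix (Ix j) (Ix j) F) u v = 0 := by
  have e := congrArg (fun g : GL (Ix j) F => (g : Matrix (Ix j) (Ix j) F) u v) hg
  simp only [Units.val_mul, sd_mul_apply, mul_sd_apply] at e
  have e' : (sgn F (h u.1) - sgn F (h v.1)) * (g : Matrix (Ix j) (Ix j) F) u v = 0 := by linear_combination -e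
  exact (mul_eq_zero.1 e').resolve_left (sub_ne_zero.2 fun e2 => hne (sgn_inj h2 e2))

/-- An element commuting with the signs of all coordinates acts on the last qubit at every point. -/
theorem blk_of_comm (h2 : (2 : F) ≠ 0) {g : GL (Ix j) F}
    (hg : ∀ i, g * up (sd F (ip (pe i))) = up (sd F (ip (pe i))) * g) : ∃ N : Pt j → GL (Fin 2) F, g = blk N := by
  have hoff : ∀ (g : GL (Ix j) F), (∀ i, g * up (sd F (ip (pe i))) = up (sd F (ip (pe i))) * g) →
      ∀ u v : Ix j, u.1 ≠ v.1 → (g : Matrix (Ix j) (Ix j) F) u v = 0 := fun g hg u v hne => by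
    obtain ⟨i, hi⟩ := Function.ne_iff.1 hne
    exact comm_entry_zero h2 (hg i) (by rwa [ip_pe, ip_pe])
  have hgi : ∀ i, g⁻¹ * up (sd F (ip (pe i))) = up (sd F (ip (pe i))) * g⁻¹ := fun i => (Commute.inv_left (hg i)).eq
  have key : ∀ (g g' : GL (Ix j) F), (∀ u v : Ix j, u.1 ≠ v.1 → (g : Matrix (Ix j) (Ix j) F) u v = 0) →
      g * g' = 1 → ∀ y : Pt j, (Matrix.of fun i l => (g : Matrix (Ix j) (Ix j) F) (y, i) (y, l)) *
        (Matrix.of fun i l => (g' : Matrix (Ix j) (Ix j) F) (y, i) (y, l)) = (1 : Matrix (Fin 2) (Fin 2) F) := by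
    intro g g' hg e y
    ext i l
    have h1 := congrArg (fun g : GL (Ix j) F => (g : Matrix (Ix j) (Ix j) F) (y, i) (y, l)) e
    simp only [Units.val_mul, Units.val_one, Matrix.mul_apply, Fintype.sum_prod_type] at h1
    rw [Finset.sum_eq_single y (fun z _ hz => Finset.sum_eq_zero fun t _ => by
      rw [hg (y, i) (z, t) (fun e => hz e.symm), zero_mul]) (by simp)] at h1
    simpa [Matrix.mul_apply, Matrix.one_apply] using h1
  refine ⟨fun y => ⟨_, _, key g g⁻¹ (hoff g hg) (mul_inv_cancel g) y, key g⁻¹ g (hoff g⁻¹ hgi) (inv_mul_cancel g) y⟩,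
    Units.ext (Matrix.ext fun ⟨x, i⟩ ⟨y, l⟩ => ?_)⟩
  rw [blk_val, blkM_apply]
  by_cases h : x = y
  · subst h; rw [if_pos rfl]; rfl
  · rw [if_neg h, hoff g hg _ _ h]

/-- Signed permutations of the points with a quaternion at every point. -/
noncomputable def mq (p : Par F) (π : Equiv.Perm (Pt j)) (f d e : Pt j → ZMod 2) : GL (Ix j) F :=
  up (pm F π) * blk fun y => qel p (f y) (d y) (e y)

theorem mq_mul (π ρ : Equiv.Perm (Pt j)) (f d e f' d' e' : Pt j → ZMod 2) :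
    mq p π f d e * mq p ρ f' d' e' = mq p (π * ρ)
      (fun y => f (ρ y) + f' y + e (ρ y) * d' y + d (ρ y) * d' y + e (ρ y) * e' y)
      (fun y => d (ρ y) + d' y) (fun y => e (ρ y) + e' y) := by
  rw [mq, mq, mq, mul_assoc, ← mul_assoc (blk _) (up (pm F ρ)), blk_pm, mul_assoc, ← map_mul blk, ← mul_assoc,
    ← map_mul up, pm_mul]
  congr 1
  congr 1
  funext y
  exact qel_mul p _ _ _ _ _ _

theorem mq_up (π : Equiv.Perm (Pt j)) (f : Pt j → ZMod 2) : up (mon F π f) = mq p π f 0 0 := by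
  rw [mon, map_mul, mq, ← blk_sg]
  congr 1
  congr 1
  funext y
  simp [qel]

theorem mq_blk (f d e : Pt j → ZMod 2) : blk (fun y => qel p (f y) (d y) (e y)) = mq p 1 f d e := by
  rw [mq, pm_one, map_one, one_mul]

theorem mq_sd (f : Pt j → ZMod 2) : up (sd F f) = mq p 1 f 0 0 := by rw [← mon_one_left, mq_up]

theorem el_mq (a b : Pt j) (c d e : ZMod 2) :
    el a b (qel p c d e) = mq p (Equiv.addRight a) (fun y => c + ip b y) (fun _ => d) (fun _ => e) := by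
  rw [el, pau, map_mul, mq, mul_assoc, ← blk_sg, cst_eq, ← map_mul blk]
  congr 1
  congr 1
  funext y
  simp only [Pi.mul_apply, sg_qel]
  rw [add_comm c]

theorem mq_apply (π : Equiv.Perm (Pt j)) (f d e : Pt j → ZMod 2) (u v : Ix j) :
    ((mq p π f d e : GL (Ix j) F) : Matrix (Ix j) (Ix j) F) u v =
      if u.1 = π v.1 then (qel p (f v.1) (d v.1) (e v.1) : Matrix (Fin 2) (Fin 2) F) u.2 v.2 else 0 := by
  obtain ⟨x, i⟩ := u
  obtain ⟨y, l⟩ := v
  simp only [mq, Units.val_mul, up_val, blk_val, Matrix.mul_apply, upM_apply, blkM_apply, Fintype.sum_prod_type,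
    pm_apply]
  rw [Finset.sum_eq_single y (fun z _ hz => by simp [hz]) (by simp)]
  fin_cases i <;> fin_cases l <;> by_cases h : x = π y <;> simp [h]

theorem mq_inj (h2 : (2 : F) ≠ 0) {π ρ : Equiv.Perm (Pt j)} {f d e f' d' e' : Pt j → ZMod 2}
    (h : mq p π f d e = mq p ρ f' d' e') : π = ρ ∧ f = f' ∧ d = d' ∧ e = e' := by
  have h' : ∀ y i l, (if π y = ρ y then (qel p (f' y) (d' y) (e' y) : Matrix (Fin 2) (Fin 2) F) i l else 0) =
      (qel p (f y) (d y) (e y) : Matrix (Fin 2) (Fin 2) F) i l := fun y i l => by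
    have := congrArg (fun g : GL (Ix j) F => (g : Matrix (Ix j) (Ix j) F) (π y, i) (y, l)) h
    simpa [mq_apply] using this.symm
  have hπ : π = ρ := Equiv.ext fun y => by
    by_contra hne
    refine (qel p (f y) (d y) (e y)).ne_zero (Matrix.ext fun i l => ?_)
    rw [← h', if_neg hne]
    rfl
  subst hπ
  have hq : ∀ y, qel p (f' y) (d' y) (e' y) = qel p (f y) (d y) (e y) := fun y =>
    Units.ext (Matrix.ext fun i l => by simpa using h' y i l)
  exact ⟨rfl, funext fun y => (qel_inj h2 (hq y)).1.symm, funext fun y => (qel_inj h2 (hq y)).2.1.symm,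
    funext fun y => (qel_inj h2 (hq y)).2.2.symm⟩

/-! ### Elements of the overgroup with quaternion blocks -/

theorem aff_of_quad (hj : 3 ≤ j) {δ : Pt j → ZMod 2} (hd : Quad δ) (h : ∀ l, Quad fun y => ip (pe l) y * δ y) :
    Aff δ := by
  refine aff_of_basis fun a b x => ?_
  obtain ⟨l, hl⟩ : ∃ l, l ∉ ({a, b} : Finset (Fin j)) := by
    by_contra hne
    push Not at hne
    have := Finset.card_le_card (show (Finset.univ : Finset (Fin j)) ⊆ {a, b} from fun l _ => hne l)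
    rw [Finset.card_univ, Fintype.card_fin] at this
    have h2 : ({a, b} : Finset (Fin j)).card ≤ 2 := Finset.card_le_two
    omega
  rw [Finset.mem_insert, Finset.mem_singleton, not_or] at hl
  have h1 := h l (pe a) (pe b) (pe l) x
  have h3 := hd (pe a) (pe b) (pe l) x
  simp only [dl_apply, ip_pe, Pi.add_apply, pe_self, pe_ne hl.1, pe_ne hl.2, add_zero] at h1 h3 ⊢
  grind

/-- A quaternion at every point lies in the overgroup only with affine exponents and quadratic sign. -/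
theorem blk_qel_deg (hM : BaseMinus p M) (hS : SignsMinus M) (hj : 3 ≤ j) {f d e : Pt j → ZMod 2}
    (h : blk (fun y => qel p (f y) (d y) (e y)) ∈ M) : Aff d ∧ Aff e ∧ Quad f := by
  have key : ∀ q ∈ Q8 p, ∀ δ : Pt j → ZMod 2, (∀ y, qel p (f y) (d y) (e y) * q = sg (δ y) * q * qel p (f y) (d y) (e y)) →
      Quad δ ∧ ∀ l, Quad fun y => ip (pe l) y * δ y := by
    intro q hq δ hδ
    have step : ∀ m : Pt j → ZMod 2, blk (fun y => if m y = 0 then 1 else q) ∈ M → Quad fun y => m y * δ y := by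
      intro m hm
      refine hS _ ?_
      have hc := M.mul_mem (M.mul_mem (M.mul_mem h hm) (M.inv_mem h)) (M.inv_mem hm)
      rw [← map_inv, ← map_inv, ← map_mul, ← map_mul, ← map_mul] at hc
      rw [← blk_sg]
      convert hc using 2
      funext y
      simp only [Pi.mul_apply, Pi.inv_apply]
      rcases zm_cases (m y) with e | e
      · simp [e]
      · rw [e, if_neg one_ne_zero, hδ, one_mul, mul_inv_cancel_right, mul_inv_cancel_right]
    refine ⟨?_, fun l => step _ (hM.ctrl _ (aff_ip _) q hq)⟩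
    have := step (fun _ => 1) (by simpa [← cst_eq] using hM.q8 q hq)
    simpa using this
  have hd := key (aq p) (aq_mem p) d fun y => qel_comm_aq _ _ _
  have he := key jq (jq_mem p) e fun y => qel_comm_jq _ _ _
  have hda := aff_of_quad hj hd.1 hd.2
  have hea := aff_of_quad hj he.1 he.2
  refine ⟨hda, hea, hS f ?_⟩
  have hc := M.mul_mem h (M.inv_mem (M.mul_mem (hM.ctrl d hda jq (jq_mem p)) (hM.ctrl e hea (aq p) (aq_mem p))))
  rw [← map_mul, ← map_inv, ← map_mul] at hc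
  rw [← blk_sg]
  convert hc using 2
  funext y
  simp only [Pi.mul_apply, Pi.inv_apply, qel]
  rw [mul_assoc (sg (f y)), mul_inv_cancel_right]

theorem mq_mem (hM : BaseMinus p M) {π : Equiv.Perm (Pt j)} (hπ : AffPerm π) {f d e : Pt j → ZMod 2}
    (hf : Quad f) (hd : Aff d) (he : Aff e) : mq p π f d e ∈ M := by
  refine M.mul_mem (hM.aff π hπ) ?_
  have hc := M.mul_mem (M.mul_mem (hM.quad f hf) (hM.ctrl d hd jq (jq_mem p))) (hM.ctrl e he (aq p) (aq_mem p))
  rw [← blk_sg, ← map_mul, ← map_mul] at hc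
  convert hc using 2
  funext y
  simp only [Pi.mul_apply, qel]

theorem mq_deg (hM : BaseMinus p M) (hS : SignsMinus M) (hj : 3 ≤ j) {π : Equiv.Perm (Pt j)} (hπ : AffPerm π)
    {f d e : Pt j → ZMod 2} (h : mq p π f d e ∈ M) : Aff d ∧ Aff e ∧ Quad f := by
  refine blk_qel_deg hM hS hj ?_
  have := M.mul_mem (M.inv_mem (hM.aff π hπ)) h
  rwa [mq, inv_mul_cancel_left] at this

/-- The moved coordinates of an element with quaternion blocks are affine. -/
theorem mq_coord (hM : BaseMinus p M) (hS : SignsMinus M) (hj : 3 ≤ j) {π : Equiv.Perm (Pt j)}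
    {f d e : Pt j → ZMod 2} (h : mq p π f d e ∈ M) (m : Fin j) : Aff fun y => π y m := by
  have hc : mq p (1 : Equiv.Perm (Pt j)) 0 0 (fun y => y m) ∈ M :=
    mq_mem hM (fun x y z => rfl) (aff_const 0).quad (aff_const 0) (funext (ip_pe m) ▸ aff_ip (pe m))
  have h' := M.mul_mem (M.inv_mem h) (M.mul_mem hc h)
  rw [mq_mul, one_mul] at h'
  simp only [mq, _root_.mul_inv_rev] at h'
  rw [mul_assoc, inv_mul_cancel_left, ← map_inv blk, ← map_mul blk] at h'
  obtain ⟨-, he, -⟩ := blk_qel_deg hM hS hj (f := fun y => _) (d := fun y => _) (e := fun y => π y m) (by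
    convert h' using 2
    funext y
    simp only [Pi.mul_apply, Pi.inv_apply, qel_mul_inv, qel_mul, Pi.zero_apply, zero_add]
    congr 1
    grind)
  exact he

/-! ### The extraspecial group -/

theorem cst_sg_comm (c : ZMod 2) (g : GL (Ix j) F) :
    cst (sg c : GL (Fin 2) F) * g = g * cst (sg c : GL (Fin 2) F) := by
  rcases zm_cases c with rfl | rfl
  · simp
  · rw [show (cst (sg (1 : ZMod 2) : GL (Fin 2) F) : GL (Ix j) F) = -1 from Units.ext (by
      rw [sg_one, cst_val, Units.val_neg, Units.val_neg, Units.val_one]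
      ext ⟨x, i⟩ ⟨y, l⟩
      by_cases e : x = y <;> by_cases e' : i = l <;> simp [blkM_apply, Matrix.one_apply, e, e'])]
    simp

theorem el_inj (h2 : (2 : F) ≠ 0) {a b a' b' : Pt j} {c d e c' d' e' : ZMod 2}
    (h : el a b (qel p c d e) = el a' b' (qel p c' d' e')) : a = a' ∧ b = b' ∧ c = c' ∧ d = d' ∧ e = e' := by
  rw [el_mq, el_mq] at h
  obtain ⟨h1, hf, hd, he⟩ := mq_inj h2 h
  have hc : c = c' := by simpa [ip] using congrFun hf 0
  refine ⟨by simpa using congrArg (fun π : Equiv.Perm (Pt j) => π 0) h1, funext fun i => ?_, hc, congrFun hd 0,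
    congrFun he 0⟩
  have := congrFun hf (pe i)
  simpa [hc, ip_pe_right] using this

theorem el_mul_qel (a b a' b' : Pt j) (c d e c' d' e' : ZMod 2) :
    el a b (qel p c d e) * el a' b' (qel p c' d' e') =
      el (a + a') (b + b') (qel p (ip b a' + c + c' + e * d' + d * d' + e * e') (d + d') (e + e')) := by
  rw [el_mul, sg_qel, qel_mul]

theorem el_omega (h2 : (2 : F) ≠ 0) {x : GL (Ix j) F} {a b a₁ b₁ a' b' a'₁ b'₁ : Pt j}
    {c d e c₁ d₁ e₁ c' d' e' c'₁ d'₁ e'₁ : ZMod 2}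
    (h : x * el a b (qel p c d e) * x⁻¹ = el a₁ b₁ (qel p c₁ d₁ e₁))
    (h' : x * el a' b' (qel p c' d' e') * x⁻¹ = el a'₁ b'₁ (qel p c'₁ d'₁ e'₁)) :
    ip b₁ a'₁ + ip b'₁ a₁ + (e₁ * d'₁ + e'₁ * d₁) = ip b a' + ip b' a + (e * d' + e' * d) := by
  have hcomm : ∀ (a b a' b' : Pt j) (c d e c' d' e' : ZMod 2),
      el a b (qel p c d e) * el a' b' (qel p c' d' e') =
        cst (sg (ip b a' + ip b' a + (e * d' + e' * d)) : GL (Fin 2) F) *
          (el a' b' (qel p c' d' e') * el a b (qel p c d e)) := by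
    intro a b a' b' c d e c' d' e'
    rw [el_mul_qel, el_mul_qel, el, el, ← mul_assoc, cst_sg_comm, mul_assoc, ← map_mul cst, sg_qel, add_comm a',
      add_comm b']
    congr 2
    congr 1 <;> grind
  have e1 : cst (sg (ip b a' + ip b' a + (e * d' + e' * d)) : GL (Fin 2) F) *
        (el a'₁ b'₁ (qel p c'₁ d'₁ e'₁) * el a₁ b₁ (qel p c₁ d₁ e₁)) =
      cst (sg (ip b₁ a'₁ + ip b'₁ a₁ + (e₁ * d'₁ + e'₁ * d₁)) : GL (Fin 2) F) *
        (el a'₁ b'₁ (qel p c'₁ d'₁ e'₁) * el a₁ b₁ (qel p c₁ d₁ e₁)) := by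
    rw [← hcomm, ← h, ← h']
    have hAB := hcomm a b a' b' c d e c' d' e'
    generalize el a b (qel p c d e) = A at hAB
    generalize el a' b' (qel p c' d' e') = B at hAB
    rw [show x * A * x⁻¹ * (x * B * x⁻¹) = x * (A * B) * x⁻¹ by group, hAB, ← mul_assoc x, ← cst_sg_comm]
    group
  have e2 : ∀ u : ZMod 2, (sg u : GL (Fin 2) F) = qel p u 0 0 := fun u => by simp [qel]
  have e3 := mul_right_cancel e1
  rw [cst_eq, cst_eq] at e3
  exact ((qel_inj (p := p) h2 (by rw [← e2, ← e2]; exact congrFun (blk_inj e3) 0)).1).symm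

theorem el_sq_eq (h2 : (2 : F) ≠ 0) {x : GL (Ix j) F} {a b a₁ b₁ : Pt j} {c d e c₁ d₁ e₁ : ZMod 2}
    (h : x * el a b (qel p c d e) * x⁻¹ = el a₁ b₁ (qel p c₁ d₁ e₁)) :
    ip b₁ a₁ + (e₁ * d₁ + d₁ + e₁) = ip b a + (e * d + d + e) := by
  have hsq : ∀ (a b : Pt j) (c d e : ZMod 2), el a b (qel p c d e) * el a b (qel p c d e) =
      cst (sg (ip b a + (e * d + d + e)) : GL (Fin 2) F) := by
    intro a b c d e
    rw [el_mul_qel, pt_add_self, pt_add_self, el, pau_zero, map_one, one_mul]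
    congr 1
    rw [show (sg (ip b a + (e * d + d + e)) : GL (Fin 2) F) = qel p (ip b a + (e * d + d + e)) 0 0 by simp [qel]]
    rcases zm_cases d with rfl | rfl <;> rcases zm_cases e with rfl | rfl <;> congr 1 <;> grind
  have e1 : cst (sg (ip b₁ a₁ + (e₁ * d₁ + d₁ + e₁)) : GL (Fin 2) F) =
      (cst (sg (ip b a + (e * d + d + e)) : GL (Fin 2) F) : GL (Ix j) F) := by
    rw [← hsq a₁ b₁ c₁, ← h, show ∀ A : GL (Ix j) F, x * A * x⁻¹ * (x * A * x⁻¹) = x * (A * A) * x⁻¹ from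
      fun A => by group, hsq, ← cst_sg_comm, mul_inv_cancel_right]
  have e2 : ∀ u : ZMod 2, (sg u : GL (Fin 2) F) = qel p u 0 0 := fun u => by simp [qel]
  rw [cst_eq, cst_eq] at e1
  exact (qel_inj (p := p) h2 (by rw [← e2, ← e2]; exact congrFun (blk_inj e1) 0)).1

theorem el_one (a b : Pt j) : el a b (qel p 0 0 0) = up (pau F a b) := by rw [qel_zero, el, map_one, mul_one]

theorem el_sd (b : Pt j) : el 0 b (qel p 0 0 0) = up (sd F (ip b)) := by rw [el_one, pau_sd]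

theorem el_zero_blk (b : Pt j) (c d e : ZMod 2) :
    el 0 b (qel p c d e) = blk fun y => qel p (c + ip b y) d e := by
  rw [el_mq, show Equiv.addRight (0 : Pt j) = 1 from Equiv.ext fun y => by simp, ← mq_blk]

/-! ### The image of a free element is monomial -/

theorem scalar_of_comm_quat {u : Matrix (Fin 2) (Fin 2) F} (h2 : (2 : F) ≠ 0) (hj : u * jq.val = jq.val * u)
    (ha : u * (aq p).val = (aq p).val * u) : u = u 0 0 • 1 := by
  have j1 := congrFun (congrFun hj 0) 0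
  have j2 := congrFun (congrFun hj 0) 1
  have a1 := congrFun (congrFun ha 0) 0
  have a2 := congrFun (congrFun ha 0) 1
  simp [jq, aq, Matrix.mul_apply, Fin.sum_univ_two] at j1 j2 a1 a2
  have hb : u 0 1 * p.al = 0 := by
    refine (mul_eq_zero.1 (show (2 : F) * (u 0 1 * p.al) = 0 from ?_)).resolve_left h2
    rw [← j2] at a2
    linear_combination -a2
  have hb' : u 0 1 * p.be = 0 := by
    refine (mul_eq_zero.1 (show (2 : F) * (u 0 1 * p.be) = 0 from ?_)).resolve_left h2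
    linear_combination a1 - p.be * j1
  have h01 : u 0 1 = 0 := by
    linear_combination -p.al * hb - p.be * hb' + u 0 1 * p.eq
  have h10 : u 1 0 = 0 := by linear_combination -j1 - h01
  ext i l
  fin_cases i <;> fin_cases l <;> simp [h01, h10, j2]

/-- An element of a level moving the signs of the free coordinates, the translations and the quaternions by
central signs is a signed permutation with quaternion blocks. -/
theorem mon_shape (h2 : (2 : F) ≠ 0) (hM : BaseMinus p M) {x : GL (Ix j) F} (hx : x ∈ LR M S)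
    (hz : ∀ i ∈ S, ∃ (w : Pt j) (c : ZMod 2), (∀ t ∈ S, w t = 0) ∧
      x * up (sd F (ip (pe i))) * x⁻¹ = el 0 (w + pe i) (qel p c 0 0))
    (hxp : ∀ i ∈ S, ∃ (w : Pt j) (c : ZMod 2), (∀ t ∈ S, w t = 0) ∧
      x * up (pau F (pe i) 0) * x⁻¹ = el (pe i) w (qel p c 0 0))
    (hjq : ∃ (w : Pt j) (c : ZMod 2), (∀ t ∈ S, w t = 0) ∧ x * cst jq * x⁻¹ = el 0 w (qel p c 1 0))
    (haq : ∃ (w : Pt j) (c : ZMod 2), (∀ t ∈ S, w t = 0) ∧ x * cst (aq p) * x⁻¹ = el 0 w (qel p c 0 1)) :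
    ∃ (π : Equiv.Perm (Pt j)) (f d e : Pt j → ZMod 2) (c : Fin j → ZMod 2) (w : Fin j → Pt j),
      x = mq p π f d e ∧ AffPerm π ∧ (∀ y i, π y i = y i + (c i + ip (w i) y)) ∧
      (∀ i, i ∉ S → c i = 0 ∧ w i = 0) ∧ (∀ i, ∀ t ∈ S, w i t = 0) ∧ Aff d ∧ Aff e ∧
      (∀ y y', (∀ t, t ∉ S → y t = y' t) → d y = d y' ∧ e y = e y') ∧
      (∀ i ∈ S, ∀ y y', (∀ t, t ∉ S → y t = y' t) → dl (pe i) f y = dl (pe i) f y') := by
  classical
  have hgen : ∀ i, ∃ (c : ZMod 2) (z : Pt j), (∀ t ∈ S, z t = 0) ∧ (i ∉ S → c = 0 ∧ z = 0) ∧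
      x * up (sd F (ip (pe i))) * x⁻¹ = up (sd F fun y => y i + (c + ip z y)) := by
    intro i
    by_cases hi : i ∈ S
    · obtain ⟨z, c, hz', e⟩ := hz i hi
      refine ⟨c, z, hz', fun h => absurd hi h, ?_⟩
      rw [e, el_zero_blk, ← blk_sg]
      congr 1
      funext y
      rw [ip_add_left, ip_pe, show c + (ip z y + y i) = y i + (c + ip z y) by ring]
      simp [qel]
    · refine ⟨0, 0, fun _ _ => rfl, fun _ => ⟨rfl, rfl⟩, ?_⟩
      rw [(mem_LR.1 hx).2 i hi, mul_inv_cancel_right]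
      exact congrArg _ (congrArg _ (funext fun y => by simp [ip_pe, C6Plus10.ip_zero_left]))
  choose c w hw hout hconj using hgen
  have hfix : ∀ (z : Pt j), (∀ t ∈ S, z t = 0) → ∀ y : Pt j,
      ip z (fun t => y t + (c t + ip (w t) y)) = ip z y := fun z hz y =>
    ip_congr hz fun t ht => by rw [(hout t ht).1, (hout t ht).2, C6Plus10.ip_zero_left, add_zero, add_zero]
  set π : Equiv.Perm (Pt j) := Function.Involutive.toPerm (fun y i => y i + (c i + ip (w i) y)) fun y => by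
    funext i
    simp only [hfix (w i) (hw i)]
    grind with hπ
  have hπy : ∀ y i, π y i = y i + (c i + ip (w i) y) := fun _ _ => rfl
  have haff : AffPerm π := fun y y' y'' => funext fun i => by
    simp only [Pi.add_apply, hπy, ip_add_right]
    grind
  have hπz : ∀ {z : Pt j}, (∀ t ∈ S, z t = 0) → ∀ y, ip z (π y) = ip z y := fun {z} hz y => hfix z hz y
  obtain ⟨N, hN⟩ := blk_of_comm h2 (g := (up (pm F π))⁻¹ * x) fun i => by
    have e := mul_inv_eq_iff_eq_mul.1 (hconj i)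
    have h1 : up (pm F π) * up (sd F (ip (pe i))) =
        up (sd F fun y => y i + (c i + ip (w i) y)) * up (pm F π) := by
      rw [← map_mul, ← map_mul, pm_sd]
      refine congrArg up (congrArg (· * pm F π) (congrArg _ (funext fun y => ?_)))
      rw [Function.comp_apply, ip_pe]
      rfl
    rw [mul_assoc, e, ← mul_assoc, ← mul_assoc]
    congr 1
    rw [inv_mul_eq_iff_eq_mul, ← mul_assoc, h1, mul_inv_cancel_right]
  have hxN : x = up (pm F π) * blk N := by rw [← hN, mul_inv_cancel_left]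
  have hNM : blk N ∈ M := hN ▸ M.mul_mem (M.inv_mem (hM.aff π haff)) (mem_LR.1 hx).1
  obtain ⟨wj, cj, hwj, hej⟩ := hjq
  obtain ⟨wa, ca, hwa, hea⟩ := haq
  have hact : ∀ {q : GL (Fin 2) F} {z : Pt j} {c₀ d₀ e₀ : ZMod 2}, (∀ t ∈ S, z t = 0) →
      x * cst q * x⁻¹ = el 0 z (qel p c₀ d₀ e₀) → ∀ y, N y * q = qel p (c₀ + ip z y) d₀ e₀ * N y := by
    intro q z c₀ d₀ e₀ hz h y
    rw [mul_inv_eq_iff_eq_mul, hxN, el_zero_blk, mul_assoc, ← mul_assoc (blk _) (up _), blk_pm, mul_assoc,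
      mul_left_cancel_iff, cst_eq, ← map_mul, ← map_mul] at h
    have := congrFun (blk_inj h) y
    simpa only [Pi.mul_apply, hπz hz] using this
  set e : Pt j → ZMod 2 := fun y => cj + ip wj y with he
  set d : Pt j → ZMod 2 := fun y => ca + ip wa y with hd
  have hjy : ∀ y, N y * jq = (sg (e y) : GL (Fin 2) F) * jq * N y := fun y => by
    rw [hact hwj hej y, qel_eq, qb_jq]
  have hay : ∀ y, N y * aq p = (sg (d y) : GL (Fin 2) F) * aq p * N y := fun y => by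
    rw [hact hwa hea y, qel_eq, qb_aq]
  have hf : ∀ y, ∃ f₀, N y = qel p f₀ (d y) (e y) := fun y => by
    obtain ⟨u, hu⟩ : ∃ u, u = (qel p 0 (d y) (e y))⁻¹ * N y := ⟨_, rfl⟩
    have hcomm : ∀ (q : GL (Fin 2) F) (η : ZMod 2), N y * q = sg η * q * N y →
        qel p 0 (d y) (e y) * q = sg η * q * qel p 0 (d y) (e y) → u * q = q * u := by
      intro q η h1 h3
      rw [hu, mul_assoc, h1, ← mul_assoc, ← mul_assoc q]
      congr 1
      rw [inv_mul_eq_iff_eq_mul, ← mul_assoc, h3, mul_inv_cancel_right]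
    have hj' := congrArg Units.val (hcomm jq _ (hjy y) (qel_comm_jq _ _ _))
    have ha' := congrArg Units.val (hcomm (aq p) _ (hay y) (qel_comm_aq _ _ _))
    rw [Units.val_mul, Units.val_mul] at hj' ha'
    have hs := scalar_of_comm_quat (p := p) h2 hj' ha'
    have hdet : (u : Matrix (Fin 2) (Fin 2) F).det = 1 := by
      have hq : blk (fun _ : Pt j => (qel p 0 (d y) (e y))⁻¹) ∈ M := by
        rw [← cst_eq]; exact hM.q8 _ (inv_mem (qel_mem p _ _ _))
      rw [hu, Units.val_mul, Matrix.det_mul, blk_det hM hNM y, blk_det hM hq 0, one_mul]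
    have hsq : (u : Matrix (Fin 2) (Fin 2) F) 0 0 * (u : Matrix (Fin 2) (Fin 2) F) 0 0 = 1 := by
      rw [hs, Matrix.det_fin_two] at hdet
      simpa using hdet
    obtain ⟨f₀, hf₀⟩ : ∃ f₀, u = sg f₀ := by
      rcases mul_self_eq_one_iff.1 hsq with h | h
      · exact ⟨0, Units.ext (by rw [hs, h, one_smul, sg_zero, Units.val_one])⟩
      · exact ⟨1, Units.ext (by rw [hs, h, sg_one, Units.val_neg, Units.val_one, neg_one_smul])⟩
    refine ⟨f₀, ?_⟩
    rw [← mul_inv_cancel_left (qel p 0 (d y) (e y)) (N y), ← hu, hf₀, qel_eq, qel_eq, sg_zero, one_mul, sg_comm]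
  choose f hf using hf
  have hxe : x = mq p π f d e := by rw [hxN, mq, show N = _ from funext hf]
  refine ⟨π, f, d, e, c, w, hxe, haff, hπy, hout, hw, (aff_const ca).add (aff_ip wa), (aff_const cj).add (aff_ip wj),
    fun y y' h => ⟨by simp only [hd, ip_congr hwa h], by simp only [he, ip_congr hwj h]⟩, fun i hi y y' h => ?_⟩
  obtain ⟨z, κ, hz', hzx⟩ := hxp i hi
  rw [mul_inv_eq_iff_eq_mul, hxe, ← el_one (p := p), el_mq, el_mq, mq_mul, mq_mul] at hzx
  have key : ∀ y, dl (pe i) f y = κ + ip z y := fun y => by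
    have := congrFun (mq_inj h2 hzx).2.1 y
    simp only [Equiv.coe_addRight, C6Plus10.ip_zero_left, mul_zero, zero_mul, add_zero, hπz hz'] at this
    rw [dl_apply, this]
    grind
  rw [key, key, ip_congr hz' h]

/-! ### Levels and centres -/

theorem LR_comm_sd {g : GL (Ix j) F} (hg : g ∈ LR M S) {b : Pt j} (hb : ∀ i ∈ S, b i = 0) :
    g * up (sd F (ip b)) = up (sd F (ip b)) * g := by
  classical
  have key : ∀ A : Finset (Fin j), (∀ i ∈ A, i ∉ S) →
      Commute g (up (sd F (ip (∑ i ∈ A, pe i : Pt j)))) := by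
    intro A
    induction A using Finset.induction_on with
    | empty =>
      intro _
      rw [Finset.sum_empty, show ip (0 : Pt j) = 0 from funext C6Plus10.ip_zero_left, sd_zero, map_one]
      exact Commute.one_right g
    | @insert a A ha ih =>
      intro hA
      rw [Finset.sum_insert ha, show ip (pe a + ∑ i ∈ A, pe i : Pt j) = ip (pe a) + ip (∑ i ∈ A, pe i) from
        funext fun y => ip_add_left _ _ _, ← sd_mul, map_mul]
      exact Commute.mul_right ((mem_LR.1 hg).2 a (hA a (Finset.mem_insert_self a A)))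
        (ih fun i hi => hA i (Finset.mem_insert_of_mem hi))
  have h := key (Finset.univ.filter fun i => b i = 1) fun i hi hiS => by
    simp [hb i hiS] at hi
  rwa [show ∑ i ∈ Finset.univ.filter (fun i => b i = 1), pe i = b from funext fun t => by
    rcases zm_cases (b t) with ht | ht <;> simp [pe, Finset.sum_apply, Pi.single_apply, ht]] at h

theorem CR_comm {g z : GL (Ix j) F} (hg : g ∈ LR M S) (hz : z ∈ CR F S) : g * z = z * g := by
  obtain ⟨c, w, hw, rfl⟩ := hz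
  rw [el, pau_sd, ← mul_assoc, LR_comm_sd hg hw, mul_assoc, ← cst_sg_comm, mul_assoc]

theorem CC_comm {g z : GL (Ix j) F} (hg : g ∈ LC M S) (hz : z ∈ CC p S) : g * z = z * g := by
  obtain ⟨c, t, w, hw, rfl⟩ := hz
  obtain ⟨hg, hgj⟩ := mem_LC.1 hg
  have hq : g * cst (qel p c t 0) = cst (qel p c t 0) * g := by
    rw [qel, if_pos rfl, mul_one, map_mul, ← mul_assoc g, ← cst_sg_comm, mul_assoc, mul_assoc (cst _)]
    congr 1
    split_ifs
    · simp
    · exact hgj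
  rw [el, pau_sd, ← mul_assoc, LR_comm_sd hg hw, mul_assoc, hq, mul_assoc]

theorem el_mem_LR (hM : BaseMinus p M) {a : Pt j} (ha : ∀ i, i ∉ S → a i = 0) (b : Pt j) {q : GL (Fin 2) F}
    (hq : q ∈ Q8 p) : el a b q ∈ LR M S := by
  refine mem_LR.2 ⟨el_mem_M hM a b hq, fun i hi => ?_⟩
  rw [el, mul_assoc, ← up_comm_cst, ← mul_assoc, ← map_mul, ← pau_sd, pau_comm, C6Plus10.ip_zero_right, ip_pe,
    ha i hi, add_zero, sd_const_zero, one_mul, map_mul, mul_assoc]

theorem EmR_mem (hM : BaseMinus p M) (v : Vm S) : EmR p v ∈ LR M S :=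
  el_mem_LR hM (fun _ hi => ex_not_mem _ hi) _ (qb_mem p _)

theorem upEl_eq (v : Vec S) : up (El F v) = el (ex S v.1) (ex S v.2) (qel p 0 0 0) := by rw [El, el_one]

theorem upEl_mem (hM : BaseMinus p M) (v : Vec S) : up (El F v) ∈ LC M S := by
  rw [mem_LC]
  refine ⟨?_, up_comm_cst _ _⟩
  rw [upEl_eq (p := p)]
  exact el_mem_LR hM (fun _ hi => ex_not_mem _ hi) _ (qel_mem p _ _ _)

theorem img_mem {L : Subgroup (GL (Ix j) F)} {g e : GL (Ix j) F} (hg : g ∈ L) (he : e ∈ L) : g * e * g⁻¹ ∈ L :=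
  mul_mem (mul_mem hg he) (inv_mem hg)

theorem conj_of_comm {x E z : GL (Ix j) F} (h : x * E * x⁻¹ * E⁻¹ = z) : x * E * x⁻¹ = z * E :=
  mul_inv_eq_iff_eq_mul.1 h

theorem ex_single_zero {i : Fin j} (hi : i ∈ S) :
    ex S (Pi.single ⟨i, hi⟩ 1) = pe i ∧ ex S (0 : ↥S → ZMod 2) = 0 := ⟨ex_single hi, map_zero _⟩

/-- The image of a free element of the level with free last qubit. -/
theorem shape_real (h2 : (2 : F) ≠ 0) (hM : BaseMinus p M) {x : GL (Ix j) F} (hx : x ∈ LR M S)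
    (hel : ∀ w : Vm S, x * EmR p w * x⁻¹ * (EmR p w)⁻¹ ∈ CR F S) :
    ∃ (π : Equiv.Perm (Pt j)) (f d e : Pt j → ZMod 2) (c : Fin j → ZMod 2) (w : Fin j → Pt j),
      x = mq p π f d e ∧ AffPerm π ∧ (∀ y i, π y i = y i + (c i + ip (w i) y)) ∧
      (∀ i, i ∉ S → c i = 0 ∧ w i = 0) ∧ (∀ i, ∀ t ∈ S, w i t = 0) ∧ Aff d ∧ Aff e ∧
      (∀ y y', (∀ t, t ∉ S → y t = y' t) → d y = d y' ∧ e y = e y') ∧
      (∀ i ∈ S, ∀ y y', (∀ t, t ∉ S → y t = y' t) → dl (pe i) f y = dl (pe i) f y') := by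
  classical
  have hz' : ∀ v : Vm S, ∃ (w : Pt j) (c : ZMod 2), (∀ t ∈ S, w t = 0) ∧
      x * EmR p v * x⁻¹ = el (ex S v.1.1) (w + ex S v.1.2) (qel p (ip w (ex S v.1.1) + c) v.2.1 v.2.2) := fun v => by
    obtain ⟨c, w, hw, e⟩ := hel v
    refine ⟨w, c, hw, ?_⟩
    rw [conj_of_comm e, EmR, qb, show (sg c : GL (Fin 2) F) = qel p c 0 0 by simp [qel], el_mul_qel]
    simp
  refine mon_shape h2 hM hx (fun i hi => ?_) (fun i hi => ?_) ?_ ?_
  · obtain ⟨w, c, hw, e⟩ := hz' ((0, Pi.single ⟨i, hi⟩ 1), (0, 0))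
    simp only [EmR, qb, (ex_single_zero hi).1, map_zero, el_sd, C6Plus10.ip_zero_right, zero_add] at e
    exact ⟨w, c, hw, e⟩
  · obtain ⟨w, c, hw, e⟩ := hz' ((Pi.single ⟨i, hi⟩ 1, 0), (0, 0))
    simp only [EmR, qb, (ex_single_zero hi).1, map_zero, el_one, ip_pe_right, hw i hi, zero_add, add_zero] at e
    exact ⟨w, c, hw, e⟩
  · obtain ⟨w, c, hw, e⟩ := hz' (0, (1, 0))
    simp only [EmR, qb_jq, Prod.fst_zero, Prod.snd_zero, map_zero, C6Plus10.ip_zero_right, zero_add,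
      add_zero] at e
    rw [el, pau_zero, map_one, one_mul] at e
    exact ⟨w, c, hw, e⟩
  · obtain ⟨w, c, hw, e⟩ := hz' (0, (0, 1))
    simp only [EmR, qb_aq, Prod.fst_zero, Prod.snd_zero, map_zero, C6Plus10.ip_zero_right, zero_add,
      add_zero] at e
    rw [el, pau_zero, map_one, one_mul] at e
    exact ⟨w, c, hw, e⟩

/-- The image of a free element of the level centralising the complex structure. -/
theorem shape_complex (h2 : (2 : F) ≠ 0) (hM : BaseMinus p M) {x : GL (Ix j) F} (hx : x ∈ LC M S) (hn : Nr p x)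
    (hsq : ∃ c, x * x = cst (sg c : GL (Fin 2) F))
    (hel : ∀ w : Vec S, x * up (El F w) * x⁻¹ * (up (El F w))⁻¹ ∈ CC p S) :
    ∃ (π : Equiv.Perm (Pt j)) (f d e : Pt j → ZMod 2) (c : Fin j → ZMod 2) (w : Fin j → Pt j),
      x = mq p π f d e ∧ AffPerm π ∧ (∀ y i, π y i = y i + (c i + ip (w i) y)) ∧
      (∀ i, i ∉ S → c i = 0 ∧ w i = 0) ∧ (∀ i, ∀ t ∈ S, w i t = 0) ∧ Aff d ∧ Aff e ∧
      (∀ y y', (∀ t, t ∉ S → y t = y' t) → d y = d y' ∧ e y = e y') ∧
      (∀ i ∈ S, ∀ y y', (∀ t, t ∉ S → y t = y' t) → dl (pe i) f y = dl (pe i) f y') := by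
  classical
  obtain ⟨hxR, hxj⟩ := mem_LC.1 hx
  have hz' : ∀ v : Vec S, (ex S v.1 = 0 ∨ ∃ i ∈ S, ex S v.1 = pe i) → ∃ (w : Pt j) (c : ZMod 2),
      (∀ t ∈ S, w t = 0) ∧
      x * up (El F v) * x⁻¹ = el (ex S v.1) (w + ex S v.2) (qel p c 0 0) := fun v hv => by
    obtain ⟨c, t, w, hw, e⟩ := hel v
    have hwa : ip w (ex S v.1) = 0 := by
      rcases hv with h | ⟨i, hi, h⟩
      · rw [h, C6Plus10.ip_zero_right]
      · rw [h, ip_pe_right, hw i hi]
    have e' : x * el (ex S v.1) (ex S v.2) (qel p 0 0 0) * x⁻¹ =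
        el (ex S v.1) (w + ex S v.2) (qel p c t 0) := by
      rw [← upEl_eq, conj_of_comm e, upEl_eq (p := p), el_mul_qel]
      simp [hwa]
    have hsq := el_sq_eq h2 e'
    rw [ip_add_left, hwa] at hsq
    obtain rfl : t = 0 := by simpa using hsq
    exact ⟨w, c, hw, by rw [upEl_eq (p := p), e']⟩
  have hzZ : ∀ i ∈ S, ∃ (w : Pt j) (c : ZMod 2), (∀ t ∈ S, w t = 0) ∧
      x * up (sd F (ip (pe i))) * x⁻¹ = el 0 (w + pe i) (qel p c 0 0) := fun i hi => by
    obtain ⟨w, c, hw, e⟩ := hz' (0, Pi.single ⟨i, hi⟩ 1) (Or.inl (map_zero _))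
    simp only [El, (ex_single_zero hi).1, map_zero, pau_sd] at e
    exact ⟨w, c, hw, e⟩
  have hzX : ∀ i ∈ S, ∃ (w : Pt j) (c : ZMod 2), (∀ t ∈ S, w t = 0) ∧
      x * up (pau F (pe i) 0) * x⁻¹ = el (pe i) w (qel p c 0 0) := fun i hi => by
    obtain ⟨w, c, hw, e⟩ := hz' (Pi.single ⟨i, hi⟩ 1, 0) (Or.inr ⟨i, hi, (ex_single_zero hi).1⟩)
    simp only [El, (ex_single_zero hi).1, map_zero, add_zero] at e
    exact ⟨w, c, hw, e⟩
  have hj' : x * el 0 0 (qel p 0 1 0) * x⁻¹ = el 0 0 (qel p 0 1 0) := by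
    rw [show qel p 0 1 0 = (jq : GL (Fin 2) F) by simp [qel], el, pau_zero, map_one, one_mul, hxj, mul_inv_cancel_right]
  refine mon_shape h2 hM hxR hzZ hzX ⟨0, 0, fun _ _ => rfl, ?_⟩ ?_
  · rw [← hj', show qel p 0 1 0 = (jq : GL (Fin 2) F) by simp [qel], el, pau_zero, map_one, one_mul]
  obtain ⟨a, b, q, ⟨c, d, e, rfl⟩, h⟩ := hn (el 0 0 (qel p 0 0 1)) (el_mem p 0 0 (qel_mem p _ _ _))
  have haD : ∀ i, i ∉ S → a i = 0 := fun i hi => by
    have h' := el_omega h2 h (show x * el 0 (pe i) (qel p 0 0 0) * x⁻¹ = el 0 (pe i) (qel p 0 0 0) by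
      rw [el_sd, (mem_LR.1 hxR).2 i hi, mul_inv_cancel_right])
    simpa [C6Plus10.ip_zero_right, ip_pe] using h'
  have haS : ∀ i ∈ S, a i = 0 := fun i hi => by
    obtain ⟨w, κ, hw, e'⟩ := hzZ i hi
    rw [← el_sd (p := p)] at e'
    have h' := el_omega h2 h e'
    have hwa : ip w a = 0 := C6Plus10.ip_eq_zero fun t => by
      by_cases ht : t ∈ S
      · exact Or.inl (hw t ht)
      · exact Or.inr (haD t ht)
    simpa [C6Plus10.ip_zero_right, ip_add_left, ip_pe, hwa] using h'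
  obtain rfl : a = 0 := funext fun i => if hi : i ∈ S then haS i hi else haD i hi
  have hb : ∀ i ∈ S, b i = 0 := fun i hi => by
    obtain ⟨w, κ, hw, e'⟩ := hzX i hi
    rw [← el_one (p := p)] at e'
    have h' := el_omega h2 h e'
    simpa [C6Plus10.ip_zero_right, C6Plus10.ip_zero_left, ip_pe_right] using h'
  obtain rfl : e = 1 := by
    have h' := el_omega h2 h hj'
    simpa [C6Plus10.ip_zero_right] using h'
  obtain rfl : d = 0 := (zm_cases d).resolve_right fun hd => by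
    subst hd
    obtain ⟨κ, hκ⟩ := hsq
    have hC : x * el 0 b (qel p c 1 0) * x⁻¹ = el 0 b (qel p c 1 0) := by
      rw [CC_comm hx ⟨c, 1, b, hb, rfl⟩, mul_inv_cancel_right]
    have hsplit : el (F := F) 0 b (qel p c 1 1) = el 0 b (qel p c 1 0) * el 0 0 (qel p 0 0 1) := by
      rw [el_mul_qel]
      simp [C6Plus10.ip_zero_right]
    have e2 : x * x * el 0 0 (qel p 0 0 1) * (x * x)⁻¹ = el 0 b (qel p c 1 0) * el 0 b (qel p c 1 1) := by
      rw [show x * x * el 0 0 (qel p 0 0 1) * (x * x)⁻¹ = x * (x * el 0 0 (qel p 0 0 1) * x⁻¹) * x⁻¹ by group, h,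
        hsplit, show ∀ A B : GL (Ix j) F, x * (A * B) * x⁻¹ = x * A * x⁻¹ * (x * B * x⁻¹) from fun A B => by group,
        hC, h, hsplit]
    rw [hκ, cst_sg_comm, mul_inv_cancel_right, el_mul_qel] at e2
    have := (el_inj h2 e2).2.2.1
    simp [C6Plus10.ip_zero_right, CharTwo.add_self_eq_zero] at this
  refine ⟨b, c, hb, ?_⟩
  rw [← h, show qel p 0 0 1 = aq p by simp [qel], el, pau_zero, map_one, one_mul]

/-- An element of the extraspecial group with translation inside the level. -/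
def PauS (p : Par F) (S : Finset (Fin j)) (x : GL (Ix j) F) : Prop :=
  ∃ (u l : Pt j) (c d e : ZMod 2), (∀ i, i ∉ S → u i = 0) ∧ x = el u l (qel p c d e)

theorem pauS_of_aff {f : Pt j → ZMod 2} (hf : Aff f) {u : Pt j} (hu : ∀ i, i ∉ S → u i = 0) (d e : ZMod 2) :
    PauS p S (mq p (Equiv.addRight u) f (fun _ => d) (fun _ => e)) := by
  obtain ⟨c, l, rfl⟩ := aff_eq hf
  exact ⟨u, l, c, d, e, hu, (el_mq u l c d e).symm⟩

theorem split_ex (u : Pt j) (hu : ∀ i, i ∉ S → u i = 0) : ex S (fun i => u i) = u := funext fun i => by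
  by_cases hi : i ∈ S
  · rw [ex_mem _ hi]
  · rw [ex_not_mem _ hi, hu i hi]

theorem split_real {x : GL (Ix j) F} (hx : PauS p S x) : ∃ w : Vm S, ∃ z ∈ CR F S, x = EmR p w * z := by
  obtain ⟨u, l, c, d, e, hu, rfl⟩ := hx
  refine ⟨((fun i => u i, fun i => l i), (d, e)), el 0 (l + ex S fun i => l i) (sg c),
    ⟨c, _, fun i hi => by rw [Pi.add_apply, ex_mem _ hi, CharTwo.add_self_eq_zero], rfl⟩, ?_⟩
  rw [EmR, qb, show (sg c : GL (Fin 2) F) = qel p c 0 0 by simp [qel], el_mul_qel, split_ex u hu]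
  simp [C6Plus10.ip_zero_right, add_comm l, ← add_assoc, pt_add_self]

theorem split_complex (h2 : (2 : F) ≠ 0) {x : GL (Ix j) F} (hx : PauS p S x)
    (hj : x * cst jq = cst jq * x) : ∃ w : Vec S, ∃ z ∈ CC p S, x = up (El F w) * z := by
  obtain ⟨u, l, c, d, e, hu, rfl⟩ := hx
  obtain rfl : e = 0 := by
    rw [show (jq : GL (Fin 2) F) = qel p 0 1 0 by simp [qel],
      show (cst (qel p 0 1 0) : GL (Ix j) F) = el 0 0 (qel p 0 1 0) by rw [el, pau_zero, map_one, one_mul],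
      el_mul_qel, el_mul_qel] at hj
    have := (el_inj h2 hj).2.2.1
    simp [C6Plus10.ip_zero_right, C6Plus10.ip_zero_left] at this
    grind
  refine ⟨(fun i => u i, fun i => l i), el 0 (l + ex S fun i => l i) (qel p c d 0),
    ⟨c, d, _, fun i hi => by rw [Pi.add_apply, ex_mem _ hi, CharTwo.add_self_eq_zero], rfl⟩, ?_⟩
  rw [upEl_eq (p := p), el_mul_qel, split_ex u hu]
  simp [C6Plus10.ip_zero_right, add_comm l, ← add_assoc, pt_add_self]

/-- No coordinate outside: the element is in the extraspecial group. -/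
theorem pauS_empty {x : GL (Ix j) F} {π : Equiv.Perm (Pt j)} {f d e : Pt j → ZMod 2} {c : Fin j → ZMod 2}
    {w : Fin j → Pt j} (hxe : x = mq p π f d e) (hπ : ∀ y i, π y i = y i + (c i + ip (w i) y))
    (hw : ∀ i, ∀ t ∈ S, w i t = 0)
    (hde : ∀ y y', (∀ t, t ∉ S → y t = y' t) → d y = d y' ∧ e y = e y')
    (hdl : ∀ i ∈ S, ∀ y y', (∀ t, t ∉ S → y t = y' t) → dl (pe i) f y = dl (pe i) f y')
    (hD : ∀ i, i ∈ S) : PauS p S x := by
  have e1 : π = Equiv.addRight c := Equiv.ext fun y => funext fun i => by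
    rw [hπ, show w i = 0 from funext fun t => hw i t (hD t), C6Plus10.ip_zero_left, add_zero]
    rfl
  rw [hxe, e1, show d = fun _ => d 0 from funext fun y => (hde y 0 fun t ht => absurd (hD t) ht).1,
    show e = fun _ => e 0 from funext fun y => (hde y 0 fun t ht => absurd (hD t) ht).2]
  refine pauS_of_aff (aff_of_basis fun a b y => ?_) (fun i hi => absurd (hD i) hi) _ _
  rw [dl_apply, hdl b (hD b) (y + pe a) y fun t ht => absurd (hD t) ht, CharTwo.add_self_eq_zero]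

/-! ### Control -/

/-- The projection to the points where the function is one. -/
def Pm (F : Type*) [Field F] (h : Pt j → ZMod 2) : Matrix (Ix j) (Ix j) F :=
  Matrix.diagonal fun u => if h u.1 = 1 then 1 else 0

theorem Pm_mul_apply (h : Pt j → ZMod 2) (X : Matrix (Ix j) (Ix j) F) (u v : Ix j) :
    (Pm F h * X) u v = if h u.1 = 1 then X u v else 0 := by
  rw [Pm, Matrix.diagonal_mul]
  split_ifs <;> simp

theorem Pm_comm (h2 : (2 : F) ≠ 0) {h : Pt j → ZMod 2} {g : GL (Ix j) F}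
    (hg : g * up (sd F h) = up (sd F h) * g) :
    (g : Matrix (Ix j) (Ix j) F) * Pm F h = Pm F h * (g : Matrix (Ix j) (Ix j) F) := by
  ext u v
  rw [Pm_mul_apply, Pm, Matrix.mul_diagonal]
  by_cases e : h u.1 = h v.1
  · rw [e]; split_ifs <;> simp
  · rw [comm_entry_zero h2 hg e]; simp

theorem mq_sel {h : Pt j → ZMod 2} {π : Equiv.Perm (Pt j)} (hπ : ∀ y, h (π y) = h y) (f d e : Pt j → ZMod 2) :
    ((mq p (selP π h hπ) (fun y => h y * f y) (fun y => h y * d y) (fun y => h y * e y) : GL (Ix j) F) :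
        Matrix (Ix j) (Ix j) F) =
      Pm F h * ((mq p π f d e : GL (Ix j) F) : Matrix (Ix j) (Ix j) F) + (1 - Pm F h) := by
  ext u v
  have hs : selP π h hπ v.1 = if h v.1 = 1 then π v.1 else v.1 := rfl
  rw [Matrix.add_apply, Pm_mul_apply, mq_apply, mq_apply, Matrix.sub_apply, Pm, Matrix.diagonal_apply,
    Matrix.one_apply, hs]
  rcases zm_cases (h v.1) with hv | hv
  · rw [if_neg (show ¬ h v.1 = 1 by rw [hv]; exact zero_ne_one), hv, zero_mul, zero_mul, zero_mul, qel_zero]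
    by_cases huv : u = v
    · subst huv; simp [hv]
    · by_cases h1 : u.1 = v.1
      · have h2' : u.2 ≠ v.2 := fun e => huv (Prod.ext h1 e)
        simp [huv, h1, hv, Matrix.one_apply, h2']
      · simp only [h1, huv, if_false, sub_zero, add_zero]
        by_cases h2' : h u.1 = 1
        · rw [if_pos h2', if_neg (fun e : u.1 = π v.1 => by rw [e, hπ, hv] at h2'; exact zero_ne_one h2')]
        · rw [if_neg h2']
  · rw [if_pos hv, hv, one_mul, one_mul, one_mul]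
    by_cases h1 : u.1 = π v.1
    · have hu : h u.1 = 1 := by rw [h1, hπ, hv]
      by_cases huv : u = v <;> simp [h1, hπ, hv, huv]
    · by_cases huv : u = v
      · subst huv; simp [h1, hv]
      · simp [h1, huv]

theorem aff_smul {h : Pt j → ZMod 2} (hh : Aff h) (δ : ZMod 2) : Aff fun y => h y * δ := fun a b x => by
  have := hh a b x
  simp only [dl_apply] at this ⊢
  linear_combination δ * this

/-- At least two coordinates outside: the element is a Pauli element times a sign in the two coordinates. -/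
theorem many_shape_m (h2 : (2 : F) ≠ 0) (hM : BaseMinus p M) (hS : SignsMinus M) (hj : 3 ≤ j)
    {g : GL (Ix j) F} (hgM : g ∈ M) (hgl : ∀ l, l ∉ S → g * up (sd F (ip (pe l))) = up (sd F (ip (pe l))) * g)
    {a b : Pt j} {c₀ δ₀ ε₀ : ZMod 2} (ha : ∀ i, i ∉ S → a i = 0)
    {π : Equiv.Perm (Pt j)} {f d e : Pt j → ZMod 2} {c : Fin j → ZMod 2} {w : Fin j → Pt j}
    (hxe : g * el a b (qel p c₀ δ₀ ε₀) * g⁻¹ = mq p π f d e) (hπa : AffPerm π)
    (hπ : ∀ y i, π y i = y i + (c i + ip (w i) y)) (hout : ∀ i, i ∉ S → c i = 0 ∧ w i = 0)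
    (hd : Aff d) (he : Aff e) {l₁ l₂ : Fin j} (h₁ : l₁ ∉ S) (h₂ : l₂ ∉ S) (h12 : l₁ ≠ l₂) :
    ∃ (u : Pt j) (f' : Pt j → ZMod 2) (δ η ε : ZMod 2),
      g * el a b (qel p c₀ δ₀ ε₀) * g⁻¹ = mq p (Equiv.addRight u) f' (fun _ => δ) (fun _ => η) ∧
      (∀ i, i ∉ S → u i = 0) ∧ Aff (fun y => f' y + ε * (y l₁ * y l₂)) := by
  classical
  have hxM : mq p π f d e ∈ M := hxe ▸ M.mul_mem (M.mul_mem hgM (el_mem_M hM a b (qel_mem p _ _ _))) (M.inv_mem hgM)
  have hfixl : ∀ l, l ∉ S → ∀ y, ip (pe l) (π y) = ip (pe l) y := fun l hl y => by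
    rw [ip_pe, ip_pe, hπ, (hout l hl).1, (hout l hl).2, C6Plus10.ip_zero_left, add_zero, add_zero]
  have hY : ∀ l (hl : l ∉ S), mq p (selP π (ip (pe l)) (hfixl l hl)) (fun y => ip (pe l) y * f y)
      (fun y => ip (pe l) y * d y) (fun y => ip (pe l) y * e y) ∈ M := by
    intro l hl
    have hu : ∀ y, ip (pe l) (Equiv.addRight a y) = ip (pe l) y := fun y => by simp [ip_pe, ha l hl]
    have hmem : mq p (selP (Equiv.addRight a) (ip (pe l)) hu) (fun y => ip (pe l) y * (c₀ + ip b y))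
        (fun y => ip (pe l) y * δ₀) (fun y => ip (pe l) y * ε₀) ∈ M := by
      refine mq_mem hM (fun x y z => ?_) ((aff_ip _).mul ((aff_const c₀).add (aff_ip b))) (aff_smul (aff_ip _) _)
        (aff_smul (aff_ip _) _)
      rw [selP_addRight hu, selP_addRight hu, selP_addRight hu, selP_addRight hu]
      simp only [ip_add_right]
      funext i
      simp only [Pi.add_apply, Pi.smul_apply, smul_eq_mul]
      grind
    have hc := M.mul_mem (M.mul_mem hgM hmem) (M.inv_mem hgM)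
    convert hc using 1
    refine Units.ext ?_
    rw [Units.val_mul, Units.val_mul, mq_sel, mq_sel, ← el_mq, ← hxe, Units.val_mul, Units.val_mul]
    have hP := Pm_comm h2 (hgl l hl)
    have hgg : (g : Matrix (Ix j) (Ix j) F) * ((g⁻¹ : GL (Ix j) F) : Matrix (Ix j) (Ix j) F) = 1 := Units.mul_inv g
    rw [mul_add, add_mul, mul_sub, mul_one, sub_mul, hgg, ← mul_assoc, ← mul_assoc, hP]
    simp only [mul_assoc]
    rw [hgg, mul_one, ← mul_assoc (g : Matrix (Ix j) (Ix j) F) (Pm F _), hP, mul_assoc (Pm F _)]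
  have hsel : ∀ l (hl : l ∉ S) y t, selP π (ip (pe l)) (hfixl l hl) y t = if ip (pe l) y = 1 then π y t else y t :=
    fun l hl y t => by
      show (if ip (pe l) y = 1 then π y else y) t = _
      split_ifs <;> rfl
  have hwl : ∀ l, l ∉ S → ∀ i ∈ S, ∀ t, t ≠ l → w i t = 0 := fun l hl i _ t htl => by
    have hm := mq_coord hM hS hj (hY l hl) i
    have hs : Aff (fun y => (c i + ip (w i) y) * y l) := by
      refine (show (fun y => selP π (ip (pe l)) (hfixl l hl) y i + ip (pe i) y) = fun y => (c i + ip (w i) y) * y l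
        from funext fun y => ?_) ▸ hm.add (aff_ip (pe i))
      rw [hsel l hl, ip_pe, ip_pe, hπ]
      rcases zm_cases (y l) with e | e <;> simp [e] <;> grind
    have := dl_eq_zero_of_mul htl ((aff_const (c i)).add (aff_ip (w i))) hs 0
    simp only [dl_apply, C6Plus10.ip_zero_right, ip_pe_right, ip_add_right] at this
    grind
  have e1 : π = Equiv.addRight c := Equiv.ext fun y => funext fun i => by
    rw [hπ]
    by_cases hi : i ∈ S
    · rw [show w i = 0 from funext fun t => by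
        by_cases ht : t = l₁
        · exact hwl l₂ h₂ i hi t (ht ▸ h12)
        · exact hwl l₁ h₁ i hi t ht, C6Plus10.ip_zero_left, add_zero]
      rfl
    · rw [(hout i hi).2, C6Plus10.ip_zero_left, add_zero]
      rfl
  subst e1
  have hselA : ∀ l (hl : l ∉ S), AffPerm (selP (Equiv.addRight c) (ip (pe l)) (hfixl l hl)) := fun l hl x y z => by
    rw [selP_addRight, selP_addRight, selP_addRight, selP_addRight]
    simp only [ip_add_right]
    funext i
    simp only [Pi.add_apply, Pi.smul_apply, smul_eq_mul]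
    grind
  have hdeg := fun l (hl : l ∉ S) => mq_deg hM hS hj (hselA l hl) (hY l hl)
  have hconst : ∀ s : Pt j → ZMod 2, Aff s → (∀ l, l ∉ S → Aff fun y => ip (pe l) y * s y) → ∀ y, s y = s 0 := by
    intro s hs hsl
    have key : ∀ l, l ∉ S → ∀ t, t ≠ l → ∀ y, dl (pe t) s y = 0 := fun l hl t ht y =>
      dl_eq_zero_of_mul ht hs (by
        refine (show (fun y => ip (pe l) y * s y) = fun y => s y * y l from funext fun y => ?_) ▸ hsl l hl
        rw [ip_pe, mul_comm]) y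
    refine const_of_dl fun t y => ?_
    by_cases ht : t = l₁
    · exact key l₂ h₂ t (ht ▸ h12) y
    · exact key l₁ h₁ t ht y
  have hd0 := hconst d hd fun l hl => (hdeg l hl).1
  have he0 := hconst e he fun l hl => (hdeg l hl).2.1
  obtain ⟨-, -, hqf⟩ := mq_deg hM hS hj (affPerm_addRight c) hxM
  have hup : ∀ (π' : Equiv.Perm (Pt j)) (f' : Pt j → ZMod 2), AffPerm π' → Quad f' →
      mon F π' f' ∈ M.comap up := fun π' f' h h' => by
    show up (mon F π' f') ∈ M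
    rw [mq_up (p := p)]
    exact mq_mem hM h h' (aff_const 0) (aff_const 0)
  have hlD : ∀ l ∈ ({l₁, l₂} : Finset (Fin j)), l ∉ S := fun l hl => by
    rcases Finset.mem_insert.1 hl with rfl | hl
    · exact h₁
    · rw [Finset.mem_singleton.1 hl]; exact h₂
  obtain ⟨ε, -, hε⟩ := C6Plus10.pauli_of_ctl (base_comap hM) (fun q hq => hS q hq) {l₁, l₂} (d := l₁) (d' := l₂)
    (by simp) (by simp) h12 (u := c) (f := f) (fun l hl => (hout l (hlD l hl)).1)
    (hup _ _ (affPerm_addRight c) hqf)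
    (fun l hl => by
      rw [ctl_selP (fun y => hfixl l (hlD l hl) y)]
      exact hup _ _ (hselA l (hlD l hl)) (hdeg l (hlD l hl)).2.2)
  refine ⟨c, f, d 0, e 0, ε, ?_, fun i hi => (hout i hi).1, hε⟩
  rw [hxe, show d = fun _ => d 0 from funext hd0, show e = fun _ => e 0 from funext he0]

theorem cst_sg_mq (c : ZMod 2) : (cst (sg c : GL (Fin 2) F) : GL (Ix j) F) = mq p 1 (fun _ => c) 0 0 := by
  rw [cst_eq, ← mq_blk]
  congr 1
  funext y
  simp [qel]

theorem many_pick {x₁ x₂ x₃ : GL (Ix j) F} {κ : ZMod 2} (hmul : x₁ * x₂ = cst (sg κ : GL (Fin 2) F) * x₃)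
    {u₁ u₂ : Pt j} {f₁ f₂ : Pt j → ZMod 2} {δ₁ η₁ ε₁ δ₂ η₂ ε₂ : ZMod 2} {l₁ l₂ : Fin j} (h₁ : l₁ ∉ S) (h₂ : l₂ ∉ S)
    (e₁ : x₁ = mq p (Equiv.addRight u₁) f₁ (fun _ => δ₁) (fun _ => η₁)) (hu₁ : ∀ i, i ∉ S → u₁ i = 0)
    (hA₁ : Aff fun y => f₁ y + ε₁ * (y l₁ * y l₂))
    (e₂ : x₂ = mq p (Equiv.addRight u₂) f₂ (fun _ => δ₂) (fun _ => η₂)) (hu₂ : ∀ i, i ∉ S → u₂ i = 0)
    (hA₂ : Aff fun y => f₂ y + ε₂ * (y l₁ * y l₂)) : PauS p S x₁ ∨ PauS p S x₂ ∨ PauS p S x₃ := by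
  rcases zm_cases ε₁ with rfl | rfl
  · exact Or.inl (e₁ ▸ pauS_of_aff (by simpa only [zero_mul, add_zero] using hA₁) hu₁ δ₁ η₁)
  rcases zm_cases ε₂ with rfl | rfl
  · exact Or.inr (Or.inl (e₂ ▸ pauS_of_aff (by simpa only [zero_mul, add_zero] using hA₂) hu₂ δ₂ η₂))
  refine Or.inr (Or.inr ?_)
  have e₃ : x₃ = cst (sg κ : GL (Fin 2) F) * (x₁ * x₂) := by
    rw [hmul, ← mul_assoc, ← map_mul, ← sg_add, CharTwo.add_self_eq_zero, sg_zero, map_one, one_mul]
  rw [e₃, e₁, e₂, mq_mul, cst_sg_mq (p := p), mq_mul, one_mul,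
    show Equiv.addRight u₁ * Equiv.addRight u₂ = Equiv.addRight (u₂ + u₁) from
      Equiv.ext fun y => by simp [Equiv.Perm.mul_apply, add_assoc]]
  simp only [Pi.zero_apply, zero_mul, add_zero, zero_add]
  refine pauS_of_aff ?_ (fun i hi => by rw [Pi.add_apply, hu₁ i hi, hu₂ i hi, add_zero]) _ _
  have := ((aff_shift_arg hA₁ u₂).add hA₂).add (aff_const (κ + η₁ * δ₂ + δ₁ * δ₂ + η₁ * η₂))
  refine (show (fun y => f₁ (y + u₂) + 1 * ((y + u₂) l₁ * (y + u₂) l₂) + (f₂ y + 1 * (y l₁ * y l₂)) +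
      (κ + η₁ * δ₂ + δ₁ * δ₂ + η₁ * η₂)) =
      fun y => κ + (f₁ (Equiv.addRight u₂ y) + f₂ y + η₁ * δ₂ + δ₁ * δ₂ + η₁ * η₂) from funext fun y => ?_) ▸ this
  simp only [Pi.add_apply, hu₂ l₁ h₁, hu₂ l₂ h₂, add_zero, Equiv.coe_addRight]
  grind

/-! ### Slices -/

/-- Two elements agree on the points with the given value at one coordinate. -/
def Seq (d : Fin j) (b : ZMod 2) (X Y : GL (Ix j) F) : Prop :=
  Pm F (sl d b) * (X : Matrix (Ix j) (Ix j) F) = Pm F (sl d b) * (Y : Matrix (Ix j) (Ix j) F)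

/-- An element respecting the points with each value at one coordinate. -/
def Pc (d : Fin j) (g : GL (Ix j) F) : Prop :=
  ∀ b, (g : Matrix (Ix j) (Ix j) F) * Pm F (sl d b) = Pm F (sl d b) * (g : Matrix (Ix j) (Ix j) F)

theorem Seq.mul_right {d : Fin j} {b : ZMod 2} {X Y : GL (Ix j) F} (h : Seq d b X Y) (Z : GL (Ix j) F) :
    Seq d b (X * Z) (Y * Z) := by
  unfold Seq at h ⊢
  rw [Units.val_mul, Units.val_mul, ← mul_assoc, h, mul_assoc]

theorem Seq.mul_left {d : Fin j} {b : ZMod 2} {X Y : GL (Ix j) F} (h : Seq d b X Y) {Z : GL (Ix j) F}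
    (hZ : Pc d Z) : Seq d b (Z * X) (Z * Y) := by
  unfold Seq at h ⊢
  rw [Units.val_mul, Units.val_mul, ← mul_assoc, ← mul_assoc, ← hZ b, mul_assoc, mul_assoc, h]

theorem Seq.mul {d : Fin j} {b : ZMod 2} {X X' Y Y' : GL (Ix j) F} (h : Seq d b X X') (h' : Seq d b Y Y')
    (hX : Pc d X') : Seq d b (X * Y) (X' * Y') := (h.mul_right Y).trans (h'.mul_left hX)

theorem Seq.conj {d : Fin j} {b : ZMod 2} {X Y : GL (Ix j) F} (h : Seq d b X Y) {c : GL (Ix j) F}
    (hc : Pc d c) : Seq d b (c * X * c⁻¹) (c * Y * c⁻¹) := (h.mul_left hc).mul_right _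

theorem Seq.split {d : Fin j} {X Y : GL (Ix j) F} (h0 : Seq d 0 X Y) (h1 : Seq d 1 X Y) : X = Y := by
  refine Units.ext (Matrix.ext fun u v => ?_)
  rcases zm_cases (u.1 d) with hu | hu
  · have := congrFun (congrFun h0 u) v
    rwa [Pm_mul_apply, Pm_mul_apply, if_pos (sl_self d 0 hu), if_pos (sl_self d 0 hu)] at this
  · have := congrFun (congrFun h1 u) v
    rwa [Pm_mul_apply, Pm_mul_apply, if_pos (sl_self d 1 hu), if_pos (sl_self d 1 hu)] at this

theorem seq_mq {d : Fin j} {b : ZMod 2} {π π' : Equiv.Perm (Pt j)} (hπ : ∀ y, π y d = y d)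
    (hπ' : ∀ y, π' y d = y d) {f f' δ δ' ε ε' : Pt j → ZMod 2}
    (h : ∀ y, y d = b → π y = π' y ∧ f y = f' y ∧ δ y = δ' y ∧ ε y = ε' y) :
    Seq d b (mq p π f δ ε) (mq p π' f' δ' ε') := by
  refine Matrix.ext fun u v => ?_
  rw [Pm_mul_apply, Pm_mul_apply, mq_apply, mq_apply]
  by_cases hu : sl d b u.1 = 1
  · rw [if_pos hu, if_pos hu]
    by_cases hv : v.1 d = b
    · obtain ⟨e1, e2, e3, e4⟩ := h v.1 hv
      rw [e1, e2, e3, e4]
    · rw [if_neg (fun e : u.1 = π v.1 => hv (by rw [← hπ v.1, ← e]; exact sl_eq hu)),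
        if_neg (fun e : u.1 = π' v.1 => hv (by rw [← hπ' v.1, ← e]; exact sl_eq hu))]
  · rw [if_neg hu, if_neg hu]

theorem seq_sd (p : Par F) {d : Fin j} {b : ZMod 2} {f f' : Pt j → ZMod 2} (h : ∀ y, y d = b → f y = f' y) :
    Seq d b (up (sd F f)) (up (sd F f')) := by
  rw [mq_sd (p := p), mq_sd (p := p)]
  exact seq_mq (fun _ => rfl) (fun _ => rfl) fun y hy => ⟨rfl, h y hy, rfl, rfl⟩

theorem seq_sg (h2 : (2 : F) ≠ 0) {d : Fin j} {b u : ZMod 2}
    (h : Seq d b (1 : GL (Ix j) F) (cst (sg u : GL (Fin 2) F))) : u = 0 := by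
  have := congrFun (congrFun h (b • pe d, 0)) (b • pe d, 0)
  rw [Pm_mul_apply, Pm_mul_apply, if_pos (sl_self d b (by simp)), if_pos (sl_self d b (by simp))] at this
  rcases zm_cases u with rfl | rfl
  · rfl
  · rw [sg_one, cst_val, blkM_apply] at this
    simp at this
    exact absurd (show (2 : F) = 0 by linear_combination this) h2

theorem slice_pau_m (h2 : (2 : F) ≠ 0) {d : Fin j} {b : ZMod 2} {a l : Pt j} {c δ ε : ZMod 2} (ha : a d = 0)
    (h : Seq d b (el a l (qel p c δ ε)) (1 : GL (Ix j) F)) :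
    a = 0 ∧ (∀ i, i ≠ d → l i = 0) ∧ δ = 0 ∧ ε = 0 := by
  have hkey : ∀ y : Pt j, y d = b → a = 0 ∧ qel p (c + ip l y) δ ε = qel p 0 0 0 := by
    intro y hy
    have hrow : sl d b (y + a) = 1 := sl_self d b (by rw [Pi.add_apply, hy, ha, add_zero])
    have e : ∀ i i', (qel p (c + ip l y) δ ε : Matrix (Fin 2) (Fin 2) F) i i' =
        if (y + a, i) = (y, i') then 1 else 0 := fun i i' => by
      have := congrFun (congrFun h (y + a, i)) (y, i')
      rw [Pm_mul_apply, Pm_mul_apply, if_pos hrow, if_pos hrow, el_mq, mq_apply, Units.val_one,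
        Matrix.one_apply] at this
      rwa [if_pos (show (y + a, i).1 = Equiv.addRight a (y, i').1 from rfl)] at this
    have ha0 : a = 0 := by
      by_contra hne
      refine (qel p (c + ip l y) δ ε).ne_zero (Matrix.ext fun i i' => ?_)
      rw [e, if_neg (fun e => hne (add_eq_left.1 (Prod.mk.inj e).1))]
      rfl
    refine ⟨ha0, Units.ext (Matrix.ext fun i i' => ?_)⟩
    rw [e, qel_zero, Units.val_one, Matrix.one_apply, ha0, add_zero]
    simp
  have h0 : (b • pe d : Pt j) d = b := by simp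
  obtain ⟨ha0, hq⟩ := hkey _ h0
  obtain ⟨hc0, hδ, hε⟩ := qel_inj h2 hq
  refine ⟨ha0, fun i hi => ?_, hδ, hε⟩
  have h1 : (b • pe d + pe i : Pt j) d = b := by rw [Pi.add_apply, h0, pe_ne (Ne.symm hi), add_zero]
  have hc1 := (qel_inj h2 (hkey _ h1).2).1
  rw [ip_add_right, ip_pe_right] at hc1
  linear_combination hc1 - hc0

theorem pc_of_LR (h2 : (2 : F) ≠ 0) {d : Fin j} (hd : d ∉ S) {g : GL (Ix j) F} (hg : g ∈ LR M S) : Pc d g := by
  intro b
  refine Pm_comm h2 ?_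
  rw [show up (sd F (sl d b)) = up (sd F (ip (pe d))) * cst (sg (b + 1) : GL (Fin 2) F) by
    rw [← up_sd_const, ← map_mul, sd_mul]
    exact congrArg _ (congrArg _ (funext fun y => by simp [sl, ip_pe])),
    ← mul_assoc, (mem_LR.1 hg).2 d hd, mul_assoc, mul_assoc, cst_sg_comm]

/-- One coordinate outside: on each slice the element agrees with an element of the extraspecial group. -/
theorem slice_exists_m {d₀ : Fin j} (hd₀ : d₀ ∉ S) (hD : ∀ i, i ≠ d₀ → i ∈ S) {x : GL (Ix j) F}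
    {π : Equiv.Perm (Pt j)} {f d e : Pt j → ZMod 2} {c : Fin j → ZMod 2} {w : Fin j → Pt j}
    (hxe : x = mq p π f d e) (hπ : ∀ y i, π y i = y i + (c i + ip (w i) y))
    (hout : ∀ i, i ∉ S → c i = 0 ∧ w i = 0) (hw : ∀ i, ∀ t ∈ S, w i t = 0)
    (hde : ∀ y y', (∀ t, t ∉ S → y t = y' t) → d y = d y' ∧ e y = e y')
    (hdl : ∀ i ∈ S, ∀ y y', (∀ t, t ∉ S → y t = y' t) → dl (pe i) f y = dl (pe i) f y') (b : ZMod 2) :
    ∃ u l c₀, (∀ i, i ∉ S → u i = 0) ∧
      Seq d₀ b x (el u l (qel p c₀ (d (b • pe d₀)) (e (b • pe d₀)))) := by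
  set u : Pt j := fun i => c i + w i d₀ * b with hu
  have huS : ∀ i, i ∉ S → u i = 0 := fun i hi => by simp [hu, (hout i hi).1, (hout i hi).2]
  have hπs : ∀ y, y d₀ = b → π y = y + u := fun y hy => funext fun i => by
    rw [hπ, ip_single fun t ht => hw i t (hD t ht), hy]
    rfl
  have hπd : ∀ y, π y d₀ = y d₀ := fun y => by
    rw [hπ, (hout d₀ hd₀).1, (hout d₀ hd₀).2, C6Plus10.ip_zero_left, add_zero, add_zero]
  have hslice : ∀ y y' : Pt j, y d₀ = y' d₀ → ∀ t, t ∉ S → y t = y' t := fun y y' h t ht => by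
    rw [show t = d₀ from by_contra fun e => ht (hD t e)]; exact h
  set f' : Pt j → ZMod 2 := fun y => f (y + (y d₀ + b) • pe d₀) with hf'
  have hf'aff : Aff f' := aff_of_basis fun a t y => by
    suffices h : ∀ y, dl (pe t) f' y = if t = d₀ then 0 else dl (pe t) f (b • pe d₀) by
      rw [dl_apply, h, h, CharTwo.add_self_eq_zero]
    intro y
    split_ifs with ht
    · subst ht
      have e : y + pe t + ((y + pe t) t + b) • pe t = y + (y t + b) • pe t := funext fun i => by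
        simp only [Pi.add_apply, Pi.smul_apply, pe_self, smul_eq_mul]
        grind
      rw [dl_apply, hf']
      simp only [e, CharTwo.add_self_eq_zero]
    · rw [← hdl t (hD t ht) (y + (y d₀ + b) • pe d₀) (b • pe d₀) (hslice _ _ (by
          simp only [Pi.add_apply, Pi.smul_apply, pe_self, smul_eq_mul]
          grind)), dl_apply, dl_apply, hf']
      simp only [Pi.add_apply, pe_ne (Ne.symm ht), add_zero, add_right_comm y (pe t)]
  obtain ⟨c₀, l, hl⟩ := aff_eq hf'aff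
  refine ⟨u, l, c₀, huS, ?_⟩
  rw [hxe, el_mq]
  refine seq_mq hπd (fun y => by simp [huS d₀ hd₀]) fun y hy => ⟨hπs y hy, ?_, ?_⟩
  · have := congrFun hl y
    simpa only [hf', hy, CharTwo.add_self_eq_zero, zero_smul, add_zero] using this
  · exact hde y _ (hslice _ _ (by simp [hy]))

/-- What the slice argument uses of a level, its centre and its free elements. -/
structure Sys {V : Type} [AddCommGroup V] (d : Fin j) (L : Subgroup (GL (Ix j) F)) (Cz : Set (GL (Ix j) F))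
    (E : V → GL (Ix j) F) : Prop where
  E_mem : ∀ v, E v ∈ L
  E_mul : ∀ v w, ∃ z ∈ Cz, E v * E w = E (v + w) * z
  E_zero : E 0 = 1
  two : ∀ v : V, v + v = 0
  one : (1 : GL (Ix j) F) ∈ Cz
  mul : ∀ x ∈ Cz, ∀ y ∈ Cz, x * y ∈ Cz
  inv : ∀ x ∈ Cz, x⁻¹ ∈ Cz
  comm : ∀ z ∈ Cz, ∀ g ∈ L, g * z = z * g
  pc : ∀ g ∈ L, Pc d g
  le : Cz ⊆ L
  free : ∀ b v, ∀ z ∈ Cz, Seq d b (E v * z) 1 → v = 0
  dmem : ∀ α β : ZMod 2, up (sd F fun y => α + β * y d) ∈ Cz

variable {V : Type} [AddCommGroup V] {d : Fin j} {L : Subgroup (GL (Ix j) F)} {Cz : Set (GL (Ix j) F)}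
  {E : V → GL (Ix j) F}

theorem Sys.eq_of_add (H : Sys d L Cz E) {v w : V} (h : v + w = 0) : v = w := by
  rw [← add_zero v, ← H.two w, ← add_assoc, h, zero_add]

theorem Sys.uniq (H : Sys d L Cz E) {b : ZMod 2} {v w : V} {z z' : GL (Ix j) F} (hz : z ∈ Cz) (hz' : z' ∈ Cz)
    (h : Seq d b (E v * z) (E w * z')) : v = w := by
  obtain ⟨z₂, hz₂, e₂⟩ := H.E_mul w w
  obtain ⟨z₃, hz₃, e₃⟩ := H.E_mul v w
  rw [H.two, H.E_zero, one_mul] at e₂
  have einv : (E w)⁻¹ = E w * z₂⁻¹ := inv_eq_of_mul_eq_one_right (by rw [← mul_assoc, e₂, mul_inv_cancel])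
  have h' := h.mul_right (E w * z')⁻¹
  rw [mul_inv_cancel, _root_.mul_inv_rev, einv] at h'
  refine H.eq_of_add (H.free b _ (z₃ * (z₂⁻¹ * (z * z'⁻¹))) (H.mul _ hz₃ _ (H.mul _ (H.inv _ hz₂) _
    (H.mul _ hz _ (H.inv _ hz')))) ?_)
  convert h' using 1
  rw [← mul_assoc (E (v + w)), ← e₃, H.comm _ (H.mul _ hz _ (H.inv _ hz')) _ (H.le (H.inv _ hz₂)),
    mul_assoc (E v) (E w), ← mul_assoc (E w) (z * z'⁻¹),
    H.comm _ (H.mul _ hz _ (H.inv _ hz')) _ (H.E_mem w)]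
  simp only [mul_assoc]

theorem Sys.maps [Finite V] (H : Sys d L Cz E) {g : GL (Ix j) F} (hg : g ∈ L)
    (hex : ∀ b v, ∃ w, ∃ z ∈ Cz, Seq d b (g * E v * g⁻¹) (E w * z)) :
    ∃ Φ : ZMod 2 → V → V, (∀ b v, ∃ z ∈ Cz, Seq d b (g * E v * g⁻¹) (E (Φ b v) * z)) ∧
      (∀ b v w z, z ∈ Cz → Seq d b (g * E v * g⁻¹) (E w * z) → Φ b v = w) ∧
      (∀ b v w, Φ b (v + w) = Φ b v + Φ b w) ∧ (∀ b v, Φ b v = 0 → v = 0) ∧
      ∀ v, ∃ v', Φ 0 v = Φ 1 v' := by
  choose Φ hΦ using hex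
  have huq : ∀ b v w z, z ∈ Cz → Seq d b (g * E v * g⁻¹) (E w * z) → Φ b v = w := fun b v w z hz e => by
    obtain ⟨z₀, hz₀, e₀⟩ := hΦ b v
    exact H.uniq hz₀ hz (e₀.symm.trans e)
  have hadd : ∀ b v w, Φ b (v + w) = Φ b v + Φ b w := fun b v w => by
    obtain ⟨z, hz, e⟩ := hΦ b v
    obtain ⟨z', hz', e'⟩ := hΦ b w
    obtain ⟨z₁, hz₁, e₁⟩ := H.E_mul v w
    obtain ⟨z₂, hz₂, e₂⟩ := H.E_mul (Φ b v) (Φ b w)
    refine huq b _ _ (z₂ * (z * z') * z₁⁻¹) (H.mul _ (H.mul _ hz₂ _ (H.mul _ hz _ hz')) _ (H.inv _ hz₁)) ?_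
    have hx : g * E (v + w) * g⁻¹ = g * E v * g⁻¹ * (g * E w * g⁻¹) * z₁⁻¹ := by
      rw [show g * E v * g⁻¹ * (g * E w * g⁻¹) = g * (E v * E w) * g⁻¹ by group, e₁, ← mul_assoc g,
        mul_assoc (g * E (v + w)) z₁, ← H.comm _ hz₁ _ (inv_mem hg)]
      group
    rw [hx, show E (Φ b v + Φ b w) * (z₂ * (z * z') * z₁⁻¹) = E (Φ b v) * z * (E (Φ b w) * z') * z₁⁻¹ by
      rw [show E (Φ b v) * z * (E (Φ b w) * z') = E (Φ b v) * (z * E (Φ b w)) * z' by group,
        ← H.comm _ hz _ (H.E_mem _), ← mul_assoc (E (Φ b v)) (E (Φ b w)) z, e₂]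
      simp only [mul_assoc]]
    exact (e.mul e' (H.pc _ (mul_mem (H.E_mem _) (H.le hz)))).mul_right _
  have hzero : ∀ b v, Φ b v = 0 → v = 0 := fun b v h => by
    obtain ⟨z, hz, e⟩ := hΦ b v
    rw [h, H.E_zero, one_mul] at e
    have e' := e.conj (H.pc _ (inv_mem hg))
    rw [show g⁻¹ * (g * E v * g⁻¹) * g⁻¹⁻¹ = E v by group, H.comm _ hz _ (inv_mem hg), mul_inv_cancel_right] at e'
    exact H.uniq H.one hz (b := b) (by rw [mul_one, H.E_zero, one_mul]; exact e')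
  refine ⟨Φ, hΦ, huq, hadd, hzero, fun v => ?_⟩
  have hinj : Function.Injective (Φ 1) := fun v w e =>
    H.eq_of_add (hzero 1 _ (by rw [hadd, e, H.two]))
  exact (Finite.surjective_of_injective hinj (Φ 0 v)).imp fun _ h => h.symm

theorem Sys.conj [Fintype V] (H : Sys d L Cz E) (p : Par F) {g n : GL (Ix j) F} (hg : g ∈ L) (hn : n ∈ L)
    {Φ : ZMod 2 → V → V} (hΦ : ∀ b v, ∃ z ∈ Cz, Seq d b (g * E v * g⁻¹) (E (Φ b v) * z))
    (huq : ∀ b v w z, z ∈ Cz → Seq d b (g * E v * g⁻¹) (E w * z) → Φ b v = w)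
    (hadd : ∀ b v w, Φ b (v + w) = Φ b v + Φ b w) (hzero : ∀ b v, Φ b v = 0 → v = 0)
    (φ : V → V) (hφ : ∀ v, ∃ z ∈ Cz, n * E v * n⁻¹ = E (φ v) * z)
    {V' : Type} [Fintype V'] (emb : V' → V) (hemb : Function.Injective emb)
    (hfix : ∀ x y : V', ∃ e, n * E (emb x + emb y) * n⁻¹ = cst (sg e : GL (Fin 2) F) * E (emb x + emb y))
    (hcard : Fintype.card V < Fintype.card V' * Fintype.card V')
    (hgood : ∀ w, w ≠ 0 → ∀ x ∈ L, x * E w * x⁻¹ * (E w)⁻¹ ∈ Cz → Nr p x)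
    (hnor : ∀ c ∈ L, Nr p c → ∀ v, ∃ w, ∃ z ∈ Cz, c * E v * c⁻¹ = E w * z) :
    ∀ v v', Φ 0 v = Φ 1 v' → Φ 0 (φ v) = Φ 1 (φ v') := by
  classical
  obtain ⟨u, u', hu, hu', huu, hne⟩ : ∃ u u' : V, (∃ x y, u = emb x + emb y) ∧ (∃ x y, u' = emb x + emb y) ∧
      Φ 0 u = Φ 1 u' ∧ Φ 0 u ≠ 0 := by
    obtain ⟨x, y, hxy, e⟩ := Fintype.exists_ne_map_eq_of_card_lt
      (fun x : V' × V' => Φ 0 (emb x.1) + Φ 1 (emb x.2)) (by rwa [Fintype.card_prod])
    refine ⟨emb x.1 + emb y.1, emb x.2 + emb y.2, ⟨_, _, rfl⟩, ⟨_, _, rfl⟩, H.eq_of_add ?_, fun h => ?_⟩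
    · rw [hadd, hadd, add_add_add_comm, show Φ 0 (emb x.1) + Φ 1 (emb x.2) = Φ 0 (emb y.1) + Φ 1 (emb y.2) from e]
      exact H.two _
    · have h1 : emb x.1 = emb y.1 := H.eq_of_add (hzero 0 _ h)
      have h4 : Φ 1 (emb x.2) = Φ 1 (emb y.2) := by simpa only [h1, add_right_inj] using e
      have h3 : emb x.2 = emb y.2 := H.eq_of_add (hzero 1 _ (by rw [hadd, h4, H.two]))
      exact hxy (Prod.ext (hemb h1) (hemb h3))
  have hcL : g * n * g⁻¹ ∈ L := img_mem hg hn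
  set w := Φ 0 u with hw
  have hcen : ∀ b v, (∃ x y, v = emb x + emb y) → Φ b v = w → ∃ e : ZMod 2,
      Seq d b (g * n * g⁻¹ * E w * (g * n * g⁻¹)⁻¹ * (E w)⁻¹) (cst (sg e : GL (Fin 2) F)) := by
    rintro b _ ⟨x, y, rfl⟩ hvw
    obtain ⟨z, hz, e⟩ := hΦ b (emb x + emb y)
    rw [hvw] at e
    obtain ⟨ε, hε⟩ := hfix x y
    refine ⟨ε, ?_⟩
    have e1 := e.conj (H.pc _ hcL)
    rw [show g * n * g⁻¹ * (g * E (emb x + emb y) * g⁻¹) * (g * n * g⁻¹)⁻¹ =
        g * (n * E (emb x + emb y) * n⁻¹) * g⁻¹ by group, hε, ← mul_assoc g, ← cst_sg_comm,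
      mul_assoc (cst _) g, mul_assoc (cst _) (g * _),
      show g * n * g⁻¹ * (E w * z) * (g * n * g⁻¹)⁻¹ =
        g * n * g⁻¹ * E w * (g * n * g⁻¹)⁻¹ * (g * n * g⁻¹ * z * (g * n * g⁻¹)⁻¹) by group,
      H.comm _ hz _ hcL, mul_inv_cancel_right] at e1
    have e2 : Seq d b (cst (sg ε : GL (Fin 2) F) * (g * E (emb x + emb y) * g⁻¹))
        (cst (sg ε : GL (Fin 2) F) * (E w * z)) := e.mul_left (H.pc _ (H.le (by
      rw [← up_sd_const]
      simpa using H.dmem ε 0)))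
    have e3 := Seq.mul_right (e1.symm.trans e2 : Seq d b _ _) (E w * z)⁻¹
    rw [mul_inv_cancel_right, _root_.mul_inv_rev (E w) z, ← mul_assoc, mul_inv_cancel_right] at e3
    exact e3
  obtain ⟨ε₀, h₀⟩ := hcen 0 u hu rfl
  obtain ⟨ε₁, h₁⟩ := hcen 1 u' hu' huu.symm
  have hE : g * n * g⁻¹ * E w * (g * n * g⁻¹)⁻¹ * (E w)⁻¹ ∈ Cz := by
    rw [Seq.split (h₀.trans ?_) (h₁.trans ?_)]
    · exact H.dmem ε₀ (ε₀ + ε₁)
    · rw [← up_sd_const]
      exact seq_sd p fun y hy => by rw [hy]; grind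
    · rw [← up_sd_const]
      exact seq_sd p fun y hy => by rw [hy]; grind
  have hnr := hgood w hne _ hcL hE
  intro v v' hvv
  obtain ⟨w', e₁, he₁, hce⟩ := hnor _ hcL hnr (Φ 0 v)
  have h' : ∀ b x, Φ b x = Φ 0 v → Φ b (φ x) = w' := fun b x hbx => by
    obtain ⟨z, hz, e⟩ := hΦ b x
    rw [hbx] at e
    obtain ⟨e₂, he₂, hne₂⟩ := hφ x
    refine huq b _ _ (e₁ * z * e₂⁻¹) (H.mul _ (H.mul _ he₁ _ hz) _ (H.inv _ he₂)) ?_
    have e' := (e.conj (H.pc _ hcL)).mul_right e₂⁻¹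
    rw [show g * n * g⁻¹ * (g * E x * g⁻¹) * (g * n * g⁻¹)⁻¹ = g * (n * E x * n⁻¹) * g⁻¹ by group, hne₂,
      show g * (E (φ x) * e₂) * g⁻¹ = g * E (φ x) * g⁻¹ * (g * e₂ * g⁻¹) by group, H.comm _ he₂ _ hg,
      mul_inv_cancel_right, mul_inv_cancel_right,
      show g * n * g⁻¹ * (E (Φ 0 v) * z) * (g * n * g⁻¹)⁻¹ =
        g * n * g⁻¹ * E (Φ 0 v) * (g * n * g⁻¹)⁻¹ * (g * n * g⁻¹ * z * (g * n * g⁻¹)⁻¹) by group,
      hce, H.comm _ hz _ hcL, mul_inv_cancel_right] at e'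
    simpa only [mul_assoc] using e'
  rw [h' 0 v rfl, h' 1 v' hvv.symm]

theorem Sys.finish (H : Sys d L Cz E) (p : Par F) {x : GL (Ix j) F} {w : V} {z₀ z₁ : GL (Ix j) F} (hz₀ : z₀ ∈ Cz)
    (e₀ : Seq d 0 x (E w * z₀)) (e₁ : Seq d 1 x (E w * z₁)) {α β : ZMod 2}
    (hz : z₁ = z₀ * up (sd F fun y => α + β * y d)) : x * (E w)⁻¹ ∈ Cz := by
  set δ := up (sd F fun y => (0 : ZMod 2) + (α + β) * y d) with hδ
  have hs : x = E w * (z₀ * δ) := Seq.split
    (e₀.trans (by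
      have h : Seq d 0 (1 : GL (Ix j) F) δ := by
        have h' := seq_sd (F := F) p (d := d) (b := 0) (f := 0) (f' := fun y => (0 : ZMod 2) + (α + β) * y d)
          fun y hy => by rw [hy, mul_zero, add_zero]; rfl
        rwa [sd_zero, map_one] at h'
      have := h.mul_left (H.pc _ (mul_mem (H.E_mem w) (H.le hz₀)))
      rwa [mul_one, mul_assoc] at this))
    (e₁.trans (by
      have h : Seq d 1 (up (sd F fun y => α + β * y d)) δ := seq_sd p fun y hy => by rw [hy, mul_one, mul_one]; ring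
      have := h.mul_left (H.pc _ (mul_mem (H.E_mem w) (H.le hz₀)))
      rwa [mul_assoc, mul_assoc, ← hz] at this))
  have hZ := H.mul _ hz₀ _ (H.dmem 0 (α + β))
  rw [hs, H.comm _ hZ _ (H.E_mem w), mul_inv_cancel_right]
  exact hZ

theorem Sys.tau (H : Sys d L Cz E) {Φ : ZMod 2 → V → V} (hadd : ∀ b v w, Φ b (v + w) = Φ b v + Φ b w)
    (hzero : ∀ b v, Φ b v = 0 → v = 0) (hsurj : ∀ v, ∃ v', Φ 0 v = Φ 1 v') {φ : V → V}
    (hφ : ∀ v v', Φ 0 v = Φ 1 v' → Φ 0 (φ v) = Φ 1 (φ v')) {t v₀ v' : V} (ht : φ t + t = v₀)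
    (hv : Φ 0 v₀ = Φ 1 v') : ∃ t', v' = φ t' + t' := by
  obtain ⟨t', ht'⟩ := hsurj t
  refine ⟨t', H.eq_of_add (hzero 1 _ ?_)⟩
  rw [hadd, hadd, ← hφ t t' ht', ← ht', ← hadd, ht, hv]
  exact H.two _

/-! ### Centres and free elements -/

theorem el_zero_sd (c : ZMod 2) (w : Pt j) :
    el 0 w (sg c : GL (Fin 2) F) = up (sd F fun y => c + ip w y) := by
  rw [el, pau_sd, ← up_sd_const, ← map_mul, sd_mul]
  exact congrArg up (congrArg _ (funext fun y => add_comm _ _))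

theorem sd_d_CR {d : Fin j} (hd : d ∉ S) (α β : ZMod 2) : up (sd F fun y => α + β * y d) ∈ CR F S :=
  ⟨α, β • pe d, fun i hi => by rw [Pi.smul_apply, pe_ne (fun e : i = d => hd (e ▸ hi)), smul_zero], by
    rw [el_zero_sd]; exact congrArg up (congrArg _ (funext fun y => by rw [ip_smul_left, ip_pe]))⟩

theorem qel_sg (c : ZMod 2) : qel p c 0 0 = (sg c : GL (Fin 2) F) := by simp [qel]

theorem CR_sub_CC {z : GL (Ix j) F} (hz : z ∈ CR F S) : z ∈ CC p S := by
  obtain ⟨c, w, hw, rfl⟩ := hz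
  exact ⟨c, 0, w, hw, by rw [qel_sg]⟩

theorem sys_real (h2 : (2 : F) ≠ 0) (hM : BaseMinus p M) {d : Fin j} (hd : d ∉ S) :
    Sys (V := Vm S) d (LR M S) (CR F S) (EmR p) where
  E_mem v := EmR_mem hM v
  E_mul v w := ⟨el 0 0 (sg (ip (ex S v.1.2) (ex S w.1.1) + (v.2.2 * w.2.1 + v.2.1 * w.2.1 + v.2.2 * w.2.2))),
    ⟨_, 0, fun _ _ => rfl, rfl⟩, by
      rw [EmR, EmR, EmR, qb, qb, qb, ← qel_sg (p := p), el_mul_qel, el_mul_qel]
      simp [C6Plus10.ip_zero_right, add_assoc]⟩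
  E_zero := by rw [EmR, Prod.fst_zero, Prod.snd_zero, Prod.fst_zero, Prod.snd_zero, map_zero, qb_zero, el_zero]
  two v := Prod.ext (C6Plus10.vec_add_self v.1) (Prod.ext (CharTwo.add_self_eq_zero _) (CharTwo.add_self_eq_zero _))
  one := ⟨0, 0, fun _ _ => rfl, by rw [sg_zero, el_zero]⟩
  mul := by
    rintro _ ⟨c, w, hw, rfl⟩ _ ⟨c', w', hw', rfl⟩
    refine ⟨c + c', w + w', fun i hi => by rw [Pi.add_apply, hw i hi, hw' i hi, add_zero], ?_⟩
    rw [el_mul, C6Plus10.ip_zero_right, sg_zero, one_mul, add_zero, sg_add]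
  inv := by
    rintro _ ⟨c, w, hw, rfl⟩
    refine ⟨c, w, hw, inv_eq_of_mul_eq_one_right ?_⟩
    rw [el_mul, C6Plus10.ip_zero_right, sg_zero, one_mul, add_zero, pt_add_self, ← sg_add, CharTwo.add_self_eq_zero,
      sg_zero, el_zero]
  comm z hz g hg := CR_comm hg hz
  pc g hg := pc_of_LR h2 hd hg
  le := by
    rintro _ ⟨c, w, hw, rfl⟩
    exact el_mem_LR hM (fun _ _ => rfl) _ (sg_mem p c)
  free b v z hz h := by
    obtain ⟨c, w, hw, rfl⟩ := hz
    rw [EmR, qb, ← qel_sg (p := p), el_mul_qel, add_zero] at h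
    obtain ⟨ha, hl, hδ, hε⟩ := slice_pau_m h2 (ex_not_mem _ hd) h
    simp only [add_zero] at hδ hε
    refine Prod.ext (Prod.ext (funext fun i => ?_) (funext fun i => ?_)) (Prod.ext hδ hε)
    · have := congrFun ha i
      rwa [ex_mem _ i.2] at this
    · have := hl i fun e => hd (e ▸ i.2)
      rwa [Pi.add_apply, ex_mem _ i.2, hw i i.2, add_zero] at this
  dmem := sd_d_CR hd

theorem sys_complex (h2 : (2 : F) ≠ 0) (hM : BaseMinus p M) {d : Fin j} (hd : d ∉ S) :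
    Sys (V := Vec S) d (LC M S) (CC p S) (fun v => up (El F v)) where
  E_mem v := upEl_mem hM v
  E_mul v w := ⟨el 0 0 (qel p (ip (ex S v.2) (ex S w.1)) 0 0), ⟨_, 0, 0, fun _ _ => rfl, rfl⟩, by
      rw [upEl_eq (p := p), upEl_eq (p := p), upEl_eq (p := p), el_mul_qel, el_mul_qel]
      simp [C6Plus10.ip_zero_right]⟩
  E_zero := by rw [C6Plus10.El_zero, map_one]
  two v := C6Plus10.vec_add_self v
  one := ⟨0, 0, 0, fun _ _ => rfl, by rw [qel_zero, el_zero]⟩
  mul := by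
    rintro _ ⟨c, t, w, hw, rfl⟩ _ ⟨c', t', w', hw', rfl⟩
    refine ⟨c + c' + t * t', t + t', w + w', fun i hi => by rw [Pi.add_apply, hw i hi, hw' i hi, add_zero], ?_⟩
    rw [el_mul_qel]
    simp [C6Plus10.ip_zero_right]
  inv := by
    rintro _ ⟨c, t, w, hw, rfl⟩
    refine ⟨c + t, t, w, hw, inv_eq_of_mul_eq_one_right ?_⟩
    rw [el_mul_qel, pt_add_self, pt_add_self, C6Plus10.ip_zero_right, ← el_zero, ← qel_zero p]
    congr 1
    congr 1 <;> rcases zm_cases c with rfl | rfl <;> rcases zm_cases t with rfl | rfl <;> decide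
  comm z hz g hg := CC_comm hg hz
  pc g hg := pc_of_LR h2 hd (mem_LC.1 hg).1
  le := by
    rintro _ ⟨c, t, w, hw, rfl⟩
    refine mem_LC.2 ⟨el_mem_LR hM (fun _ _ => rfl) _ (qel_mem p _ _ _), ?_⟩
    rw [show (jq : GL (Fin 2) F) = qel p 0 1 0 by simp [qel],
      show (cst (qel p 0 1 0) : GL (Ix j) F) = el 0 0 (qel p 0 1 0) by rw [el, pau_zero, map_one, one_mul],
      el_mul_qel, el_mul_qel]
    simp [C6Plus10.ip_zero_right, C6Plus10.ip_zero_left, add_comm, mul_comm]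
  free b v z hz h := by
    obtain ⟨c, t, w, hw, rfl⟩ := hz
    rw [upEl_eq (p := p), el_mul_qel, add_zero] at h
    obtain ⟨ha, hl, -, -⟩ := slice_pau_m h2 (ex_not_mem _ hd) h
    refine Prod.ext (funext fun i => ?_) (funext fun i => ?_)
    · have := congrFun ha i
      rwa [ex_mem _ i.2] at this
    · have := hl i fun e => hd (e ▸ i.2)
      rwa [Pi.add_apply, ex_mem _ i.2, hw i i.2, add_zero] at this
  dmem α β := CR_sub_CC (sd_d_CR hd α β)

theorem pauS_conj (h2 : (2 : F) ≠ 0) {x : GL (Ix j) F} (hx : x ∈ LR M S) (hn : Nr p x) {a b : Pt j}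
    (ha : ∀ i, i ∉ S → a i = 0) (c d e : ZMod 2) : PauS p S (x * el a b (qel p c d e) * x⁻¹) := by
  obtain ⟨a', b', q, ⟨c', d', e', rfl⟩, h⟩ := hn _ (el_mem p a b (qel_mem p c d e))
  refine ⟨a', b', c', d', e', fun i hi => ?_, h⟩
  have h' := el_omega h2 h (show x * el 0 (pe i) (qel p 0 0 0) * x⁻¹ = el 0 (pe i) (qel p 0 0 0) by
    rw [el_sd, (mem_LR.1 hx).2 i hi, mul_inv_cancel_right])
  simpa [C6Plus10.ip_zero_right, ip_pe, ha i hi] using h'

theorem cpm_EmR {n : GL (Ix j) F} {v w : Vm S}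
    (h : CPm p n (ex S v.1.1) (ex S v.1.2) v.2 (ex S w.1.1) (ex S w.1.2) w.2) :
    (∃ z ∈ CR F S, n * EmR p v * n⁻¹ = EmR p w * z) ∧
      (w = v → ∃ e, n * EmR p v * n⁻¹ = cst (sg e : GL (Fin 2) F) * EmR p v) := by
  obtain ⟨e, he⟩ := h
  have e' : n * EmR p v * n⁻¹ = EmR p w * cst (sg e : GL (Fin 2) F) := by
    rw [EmR, he, EmR, el, el, mul_assoc, ← map_mul, sg_comm e (qb p w.2)]
  exact ⟨⟨_, ⟨e, 0, fun _ _ => rfl, by rw [el, pau_zero, map_one, one_mul]⟩, e'⟩,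
    fun hwv => ⟨e, by rw [e', hwv, cst_sg_comm]⟩⟩

/-- Extension by zero from the complement. -/
def exc {ι : Type} [Fintype ι] [DecidableEq ι] (A : Finset ι) (f : ↥(Aᶜ : Finset ι) → ZMod 2) : ι → ZMod 2 :=
  fun a => if h : a ∈ Aᶜ then f ⟨a, h⟩ else 0

theorem exc_apply_mem {ι : Type} [Fintype ι] [DecidableEq ι] {A : Finset ι} (f : ↥(Aᶜ : Finset ι) → ZMod 2)
    {a : ι} (h : a ∈ A) : exc A f a = 0 :=
  dif_neg fun h' => Finset.mem_compl.1 h' h

theorem exc_inj {ι : Type} [Fintype ι] [DecidableEq ι] (A : Finset ι) : Function.Injective (exc A) := fun f g e =>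
  funext fun a => by simpa [exc, Finset.mem_compl.1 a.2] using congrFun e a.1

theorem card_pt (α : Type) [Fintype α] [DecidableEq α] : Fintype.card (α → ZMod 2) = 2 ^ Fintype.card α := by
  rw [Fintype.card_fun, ZMod.card]

end Cfsg.Agent.C6Minus10.CentAux

namespace Cfsg.Agent.C6Minus10

open Matrix Cfsg.Agent.C6Plus10 CentAux
open scoped MatrixGroups

variable {F : Type*} [Field F] {j : ℕ} {S : Finset (Fin j)}

/-! ### The centralising steps -/

/-- The level with free last qubit. -/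
theorem cent_real [Finite F] (h2 : (2 : F) ≠ 0) {p : Par F} {M : Subgroup (GL (Ix j) F)} (hM : BaseMinus p M)
    (hS : SignsMinus M) (hj : 3 ≤ j) (hS1 : 1 ≤ S.card) {g : GL (Ix j) F} (hg : g ∈ LR M S)
    (himg : ∀ v : Vm S, Nr p (g * EmR p v * g⁻¹) ∧
      ∀ w : Vm S, g * EmR p v * g⁻¹ * EmR p w * (g * EmR p v * g⁻¹)⁻¹ * (EmR p w)⁻¹ ∈ CR F S)
    (hgood : ∀ w : Vm S, w ≠ 0 → ∀ x ∈ LR M S, x * EmR p w * x⁻¹ * (EmR p w)⁻¹ ∈ CR F S → Nr p x) :
    ∃ v w : Vm S, v ≠ 0 ∧ g * EmR p v * g⁻¹ * (EmR p w)⁻¹ ∈ CR F S := by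
  classical
  obtain ⟨a, ha⟩ := Finset.card_pos.1 (by omega : 0 < S.card)
  lift a to ↥S using ha
  have hx := fun v : Vm S => img_mem hg (EmR_mem hM v)
  have hshape := fun v : Vm S => shape_real h2 hM (hx v) (himg v).2
  have hdone : ∀ v : Vm S, v ≠ 0 → PauS p S (g * EmR p v * g⁻¹) →
      ∃ v w : Vm S, v ≠ 0 ∧ g * EmR p v * g⁻¹ * (EmR p w)⁻¹ ∈ CR F S := fun v hv hp => by
    obtain ⟨w, z, hz, e⟩ := split_real hp
    exact ⟨v, w, hv, by rw [e, CR_comm (EmR_mem hM w) hz, mul_inv_cancel_right]; exact hz⟩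
  have hne1 : (((0, Pi.single a 1), (0, 0)) : Vm S) ≠ 0 := fun e =>
    C6Plus10.single_ne_zero a (congrArg Prod.fst e)
  by_cases hd : ∃ d, d ∉ S
  swap
  · push Not at hd
    obtain ⟨π, f, d, e, c, w, hxe, -, hπ, -, hw, -, -, hde, hdl⟩ := hshape ((0, Pi.single a 1), (0, 0))
    exact hdone _ hne1 (pauS_empty hxe hπ hw hde hdl hd)
  obtain ⟨d₀, hd₀⟩ := hd
  by_cases hd' : ∃ d', d' ∉ S ∧ d₀ ≠ d'
  · obtain ⟨d', hd', hdd⟩ := hd'
    have hone : ∀ v : Vm S, ∃ (u : Pt j) (f : Pt j → ZMod 2) (δ η ε : ZMod 2),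
        g * EmR p v * g⁻¹ = mq p (Equiv.addRight u) f (fun _ => δ) (fun _ => η) ∧ (∀ i, i ∉ S → u i = 0) ∧
        Aff (fun y => f y + ε * (y d₀ * y d')) := fun v => by
      obtain ⟨π, f, d, e, c, w, hxe, hπa, hπ, hout, -, hda, hea, -, -⟩ := hshape v
      exact many_shape_m h2 hM hS hj (mem_LR.1 hg).1 (mem_LR.1 hg).2 (fun _ hi => ex_not_mem _ hi) hxe hπa hπ hout
        hda hea hd₀ hd' hdd
    obtain ⟨z, ⟨κ, w₀, hw₀, hzw⟩, hmul⟩ := (sys_real h2 hM hd₀).E_mul ((0, Pi.single a 1), (0, 0)) (0, (1, 0))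
    obtain ⟨u₁, f₁, δ₁, η₁, ε₁, e₁, hu₁, hA₁⟩ := hone ((0, Pi.single a 1), (0, 0))
    obtain ⟨u₂, f₂, δ₂, η₂, ε₂, e₂, hu₂, hA₂⟩ := hone (0, (1, 0))
    obtain ⟨κ', hk⟩ : ∃ κ', EmR p ((0, Pi.single a 1), (0, 0)) * EmR p ((0, (1, 0)) : Vm S) =
        cst (sg κ' : GL (Fin 2) F) * EmR p (((0, Pi.single a 1), (0, 0)) + (0, (1, 0)) : Vm S) := by
      refine ⟨0, ?_⟩
      rw [sg_zero, map_one, one_mul, EmR, EmR, EmR, qb, qb, qb, el_mul_qel]
      simp [C6Plus10.ip_zero_right]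
    have hmul' : g * EmR p ((0, Pi.single a 1), (0, 0)) * g⁻¹ * (g * EmR p ((0, (1, 0)) : Vm S) * g⁻¹) =
        cst (sg κ' : GL (Fin 2) F) * (g * EmR p (((0, Pi.single a 1), (0, 0)) + (0, (1, 0)) : Vm S) * g⁻¹) := by
      rw [show ∀ A B : GL (Ix j) F, g * A * g⁻¹ * (g * B * g⁻¹) = g * (A * B) * g⁻¹ from fun A B => by group, hk,
        ← mul_assoc g, ← cst_sg_comm]
      group
    rcases many_pick hmul' hd₀ hd' e₁ hu₁ hA₁ e₂ hu₂ hA₂ with h | h | h
    · exact hdone _ hne1 h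
    · exact hdone _ (fun e => by simpa using congrArg (fun v : Vm S => v.2.1) e) h
    · exact hdone _ (fun e => by simpa using congrArg (fun v : Vm S => v.2.1) e) h
  push Not at hd'
  have hD : ∀ i, i ≠ d₀ → i ∈ S := fun i hi => by_contra fun h => hi (hd' i h).symm
  have hcard : j = S.card + 1 := by
    have e : insert d₀ S = Finset.univ := Finset.eq_univ_iff_forall.2 fun i => Finset.mem_insert.2
      ((em (i = d₀)).imp_right (hD i))
    have := congrArg Finset.card e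
    rwa [Finset.card_insert_of_notMem hd₀, Finset.card_fin, eq_comm] at this
  have H := sys_real h2 hM hd₀
  obtain ⟨Φ, hΦ, huq, hadd, hzero, hsurj⟩ := H.maps hg fun b v => by
    obtain ⟨π, f, d, e, c, w, hxe, -, hπ, hout, hw, -, -, hde, hdl⟩ := hshape v
    obtain ⟨u, l, c₀, hu, hs⟩ := slice_exists_m hd₀ hD hxe hπ hout hw hde hdl b
    obtain ⟨v', z, hz, e'⟩ := split_real (p := p) ⟨u, l, c₀, d (b • pe d₀), e (b • pe d₀), hu, rfl⟩
    exact ⟨v', z, hz, e' ▸ hs⟩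
  have hnor : ∀ c ∈ LR M S, Nr p c → ∀ v, ∃ w, ∃ z ∈ CR F S, c * EmR p v * c⁻¹ = EmR p w * z :=
    fun c hc hn v => split_real (pauS_conj h2 hc hn (fun _ hi => ex_not_mem _ hi) 0 v.2.1 v.2.2)
  -- the controlled complex structure
  have hcB : ∀ v v', Φ 0 v = Φ 1 v' →
      Φ 0 ((v.1.1, v.1.2 + (v.1.1 a + v.2.2) • Pi.single a 1), (v.2.1 + v.1.1 a, v.2.2)) =
        Φ 1 ((v'.1.1, v'.1.2 + (v'.1.1 a + v'.2.2) • Pi.single a 1), (v'.2.1 + v'.1.1 a, v'.2.2)) := by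
    have hcp : ∀ v : Vm S, CPm p (ctlB (ip (pe (a : Fin j))) jq) (ex S v.1.1) (ex S v.1.2) v.2 (ex S v.1.1)
        (ex S (v.1.2 + (v.1.1 a + v.2.2) • Pi.single a 1)) (v.2.1 + v.1.1 a, v.2.2) := fun v => by
      have := ctlB_conj p (a : Fin j) (ex S v.1.1) (ex S v.1.2) v.2
      rw [ex_mem v.1.1 a.2] at this
      rw [map_add, map_smul, ex_single a.2]
      exact this
    have hfixA : ∀ v : Vm S, v.1.1 a = 0 → v.2.2 = 0 → ∃ e, ctlB (ip (pe (a : Fin j))) jq * EmR p v *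
        (ctlB (ip (pe (a : Fin j))) jq)⁻¹ = cst (sg e : GL (Fin 2) F) * EmR p v := fun v h1 h3 =>
      (cpm_EmR (v := v) (w := ((v.1.1, v.1.2 + (v.1.1 a + v.2.2) • Pi.single a 1), (v.2.1 + v.1.1 a, v.2.2)))
        (hcp v)).2 (by simp [h1, h3]; try exact Prod.ext rfl (Prod.ext rfl h3.symm))
    refine H.conj p hg (blk_mem_LR (hM.ctrl _ (aff_ip _) jq (jq_mem p))) hΦ huq hadd hzero
      (fun v : Vm S => ((v.1.1, v.1.2 + (v.1.1 a + v.2.2) • Pi.single a 1), (v.2.1 + v.1.1 a, v.2.2)))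
      (fun v => (cpm_EmR (w := ((v.1.1, v.1.2 + (v.1.1 a + v.2.2) • Pi.single a 1), (v.2.1 + v.1.1 a, v.2.2)))
        (hcp v)).1)
      (V' := ((↥({a}ᶜ : Finset ↥S) → ZMod 2) × (↥S → ZMod 2)) × ZMod 2)
      (fun x => ((exc {a} x.1.1, x.1.2), (x.2, 0)))
      (fun x y e => by
        simp only [Prod.mk.injEq] at e
        exact Prod.ext (Prod.ext (exc_inj _ e.1.1) e.1.2) e.2.1)
      (fun x y => hfixA _ ?_ ?_) ?_ hgood hnor
    · simp [exc_apply_mem _ (Finset.mem_singleton_self a)]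
    · simp
    · simp only [Fintype.card_prod, card_pt, Finset.card_compl, ZMod.card, Fintype.card_coe, Finset.card_singleton]
      rw [show (2 : ℕ) * 2 = 2 ^ 2 from rfl, ← pow_add, ← pow_add, ← pow_add,
        show (2 : ℕ) ^ (S.card - 1 + S.card) * 2 = 2 ^ (S.card - 1 + S.card + 1) from (pow_succ _ _).symm, ← pow_add]
      exact Nat.pow_lt_pow_right one_lt_two (by omega)
  haveI : Nontrivial ↥S := Fintype.one_lt_card_iff_nontrivial.1 (by rw [Fintype.card_coe]; omega)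
  obtain ⟨b, hb⟩ := exists_ne a
  have hqd : ∀ v v', Φ 0 v = Φ 1 v' →
      Φ 0 ((v.1.1, v.1.2 + v.1.1 b • Pi.single a 1 + v.1.1 a • Pi.single b 1), v.2) =
        Φ 1 ((v'.1.1, v'.1.2 + v'.1.1 b • Pi.single a 1 + v'.1.1 a • Pi.single b 1), v'.2) := by
    have hnLK : sd F (qf (pe (a : Fin j)) (pe b) 0) ∈ C6Plus10.LK (M.comap up) S ∅ :=
      qd_LK (base_comap hM) (pe a) (pe b) 0 fun u w hs =>
        ⟨by rw [ip_pe, hs.huS (Finset.disjoint_empty_right _) a.2],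
          by rw [ip_pe, hs.huS (Finset.disjoint_empty_right _) b.2]⟩
    have hcp : ∀ v : Vm S, CPm p (up (sd F (qf (pe (a : Fin j)) (pe b) 0))) (ex S v.1.1) (ex S v.1.2) v.2
        (ex S v.1.1) (ex S (v.1.2 + v.1.1 b • Pi.single a 1 + v.1.1 a • Pi.single b 1)) v.2 := fun v => by
      refine up_conj p (CP.of_eq (qd_conj (pe (a : Fin j)) (pe b) 0 _ _) rfl ?_) _
      rw [map_add, map_add, map_smul, map_smul, ex_single a.2, ex_single b.2, ip_pe, ip_pe, ex_mem v.1.1 a.2,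
        ex_mem v.1.1 b.2]
    have hfixB : ∀ v : Vm S, v.1.1 a = 0 → v.1.1 b = 0 → ∃ e, up (sd F (qf (pe (a : Fin j)) (pe b) 0)) *
        EmR p v * (up (sd F (qf (pe (a : Fin j)) (pe b) 0)))⁻¹ = cst (sg e : GL (Fin 2) F) * EmR p v := fun v h1 h3 =>
      (cpm_EmR (v := v) (w := ((v.1.1, v.1.2 + v.1.1 b • Pi.single a 1 + v.1.1 a • Pi.single b 1), v.2))
        (hcp v)).2 (by simp [h1, h3])
    refine H.conj p hg (up_mem_LR hnLK) hΦ huq hadd hzero
      (fun v : Vm S => ((v.1.1, v.1.2 + v.1.1 b • Pi.single a 1 + v.1.1 a • Pi.single b 1), v.2))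
      (fun v => (cpm_EmR (w := ((v.1.1, v.1.2 + v.1.1 b • Pi.single a 1 + v.1.1 a • Pi.single b 1), v.2)) (hcp v)).1)
      (V' := ((↥({a, b}ᶜ : Finset ↥S) → ZMod 2) × (↥S → ZMod 2)) × (ZMod 2 × ZMod 2))
      (fun x => ((exc {a, b} x.1.1, x.1.2), x.2))
      (fun x y e => by
        simp only [Prod.mk.injEq] at e
        exact Prod.ext (Prod.ext (exc_inj _ e.1.1) e.1.2) e.2)
      (fun x y => hfixB _ ?_ ?_) ?_ hgood hnor
    · simp [exc_apply_mem _ (show a ∈ ({a, b} : Finset ↥S) by simp)]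
    · simp [exc_apply_mem _ (show b ∈ ({a, b} : Finset ↥S) by simp)]
    · simp only [Fintype.card_prod, card_pt, Finset.card_compl, ZMod.card, Fintype.card_coe, Finset.card_pair hb.symm]
      rw [show (2 : ℕ) * 2 = 2 ^ 2 from rfl, ← pow_add, ← pow_add, ← pow_add, ← pow_add, ← pow_add]
      exact Nat.pow_lt_pow_right one_lt_two (by omega)
  -- a sign sent alike by both slices
  set v₀ : Vm S := ((0, Pi.single a 1), (0, 0)) with hv₀
  obtain ⟨v', hv'⟩ := hsurj v₀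
  have hv'0 : v' ≠ 0 := fun e => by
    rw [e, show Φ 1 (0 : Vm S) = 0 from by simpa using hadd 1 0 0] at hv'
    exact hne1 (hzero 0 _ hv')
  obtain ⟨t₁, e₁⟩ := H.tau hadd hzero hsurj hcB (t := (0, (0, 1))) (v₀ := v₀)
    (by refine Prod.ext (Prod.ext ?_ ?_) (Prod.ext ?_ ?_) <;> simp [hv₀, CharTwo.add_self_eq_zero]) hv'
  obtain ⟨t₂, e₂⟩ := H.tau hadd hzero hsurj hqd (t := ((Pi.single b 1, 0), (0, 0))) (v₀ := v₀)
    (by refine Prod.ext (Prod.ext ?_ ?_) (Prod.ext ?_ ?_) <;>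
      simp [hv₀, hb, hb.symm, CharTwo.add_self_eq_zero, funext_iff]) hv'
  have hvv : v' = v₀ := by
    have h1 : v'.1.1 = 0 := by rw [e₁]; simp [CharTwo.add_self_eq_zero, funext_iff]
    have h3 : ∀ i, i ≠ a → v'.1.2 i = 0 := fun i hi => by rw [e₁]; simp [hi, CharTwo.add_self_eq_zero]
    have h4 : v'.2 = 0 := by rw [e₂]; simp [CharTwo.add_self_eq_zero, Prod.ext_iff]
    have h5 : v'.1.2 a = 1 := (zm_cases _).resolve_left fun e => hv'0 (Prod.ext (Prod.ext h1 (funext fun i => by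
      by_cases hi : i = a
      · rw [hi, e]; rfl
      · exact h3 i hi)) h4)
    refine Prod.ext (Prod.ext h1 (funext fun i => ?_)) h4
    show v'.1.2 i = (Pi.single a 1 : ↥S → ZMod 2) i
    by_cases hi : i = a
    · rw [hi, h5, Pi.single_eq_same]
    · rw [h3 i hi, Pi.single_eq_of_ne hi]
  rw [hvv] at hv'
  obtain ⟨z₀, hz₀, he₀⟩ := hΦ 0 v₀
  obtain ⟨z₁, hz₁, he₁⟩ := hΦ 1 v₀
  rw [← hv'] at he₁
  obtain ⟨c₀, w₀, hw₀, rfl⟩ := id hz₀
  obtain ⟨c₁, w₁, hw₁, rfl⟩ := id hz₁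
  refine ⟨v₀, Φ 0 v₀, hne1, H.finish p hz₀ he₀ he₁ (α := c₀ + c₁) (β := (w₀ + w₁) d₀) ?_⟩
  rw [el_zero_sd, el_zero_sd, ← map_mul, sd_mul]
  refine congrArg up (congrArg _ (funext fun y => ?_))
  have hs := ip_single (z := w₀ + w₁) (d := d₀) (fun i hi => by
    rw [Pi.add_apply, hw₀ i (hD i hi), hw₁ i (hD i hi), add_zero]) y
  rw [ip_add_left] at hs
  simp only [Pi.add_apply] at hs ⊢
  grind

/-- The level centralising the complex structure. -/
theorem cent_complex [Finite F] (h2 : (2 : F) ≠ 0) {p : Par F} {M : Subgroup (GL (Ix j) F)} (hM : BaseMinus p M)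
    (hS : SignsMinus M) (hj : 3 ≤ j) (hS2 : 2 ≤ S.card) {g : GL (Ix j) F} (hg : g ∈ LC M S)
    (himg : ∀ v : Vec S, Nr p (g * up (El F v) * g⁻¹) ∧ ∀ w : Vec S,
      g * up (El F v) * g⁻¹ * up (El F w) * (g * up (El F v) * g⁻¹)⁻¹ * (up (El F w))⁻¹ ∈ CC p S)
    (hgood : ∀ w : Vec S, w ≠ 0 → ∀ x ∈ LC M S, x * up (El F w) * x⁻¹ * (up (El F w))⁻¹ ∈ CC p S → Nr p x) :
    ∃ v w : Vec S, v ≠ 0 ∧ g * up (El F v) * g⁻¹ * (up (El F w))⁻¹ ∈ CC p S := by
  classical
  obtain ⟨a₀, ha₀, b₀, hb₀, hab₀⟩ := Finset.one_lt_card.1 (by omega : 1 < S.card)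
  lift a₀ to ↥S using ha₀ with a
  lift b₀ to ↥S using hb₀ with b
  have hab : a ≠ b := fun e => hab₀ (e ▸ rfl)
  obtain ⟨hgR, hgj⟩ := mem_LC.1 hg
  have hx := fun v : Vec S => img_mem hg (upEl_mem hM v)
  have hsq : ∀ v : Vec S, g * up (El F v) * g⁻¹ * (g * up (El F v) * g⁻¹) = cst (sg (qv v) : GL (Fin 2) F) := by
    intro v
    rw [show ∀ A : GL (Ix j) F, g * A * g⁻¹ * (g * A * g⁻¹) = g * (A * A) * g⁻¹ from fun A => by group, ← map_mul,
      C6Plus10.El_sq, up_sd_const, ← cst_sg_comm, mul_inv_cancel_right]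
  have hshape := fun v : Vec S => shape_complex h2 hM (hx v) (himg v).1 ⟨_, hsq v⟩ (himg v).2
  have hdone : ∀ v : Vec S, v ≠ 0 → PauS p S (g * up (El F v) * g⁻¹) →
      ∃ v w : Vec S, v ≠ 0 ∧ g * up (El F v) * g⁻¹ * (up (El F w))⁻¹ ∈ CC p S := fun v hv hp => by
    obtain ⟨w, z, hz, e⟩ := split_complex h2 hp (mem_LC.1 (hx v)).2
    exact ⟨v, w, hv, by rw [e, CC_comm (upEl_mem hM w) hz, mul_inv_cancel_right]; exact hz⟩
  by_cases hd : ∃ d, d ∉ S
  swap
  · push Not at hd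
    obtain ⟨π, f, d, e, c, w, hxe, -, hπ, -, hw, -, -, hde, hdl⟩ := hshape (0, Pi.single a 1)
    exact hdone _ (C6Plus10.single_ne_zero a) (pauS_empty hxe hπ hw hde hdl hd)
  obtain ⟨d₀, hd₀⟩ := hd
  by_cases hd' : ∃ d', d' ∉ S ∧ d₀ ≠ d'
  · obtain ⟨d', hd', hdd⟩ := hd'
    have hone : ∀ v : Vec S, ∃ (u : Pt j) (f : Pt j → ZMod 2) (δ η ε : ZMod 2),
        g * up (El F v) * g⁻¹ = mq p (Equiv.addRight u) f (fun _ => δ) (fun _ => η) ∧ (∀ i, i ∉ S → u i = 0) ∧
        Aff (fun y => f y + ε * (y d₀ * y d')) := fun v => by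
      obtain ⟨π, f, d, e, c, w, hxe, hπa, hπ, hout, -, hda, hea, -, -⟩ := hshape v
      rw [upEl_eq (p := p)] at hxe ⊢
      exact many_shape_m h2 hM hS hj (mem_LR.1 hgR).1 (mem_LR.1 hgR).2 (fun _ hi => ex_not_mem _ hi) hxe hπa hπ hout
        hda hea hd₀ hd' hdd
    obtain ⟨u₁, f₁, δ₁, η₁, ε₁, e₁, hu₁, hA₁⟩ := hone (0, Pi.single a 1)
    obtain ⟨u₂, f₂, δ₂, η₂, ε₂, e₂, hu₂, hA₂⟩ := hone (0, Pi.single b 1)
    obtain ⟨κ, hκ⟩ := C6Plus10.El_mul (F := F) ((0, Pi.single a 1) : Vec S) (0, Pi.single b 1)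
    have hmul' : g * up (El F ((0, Pi.single a 1) : Vec S)) * g⁻¹ * (g * up (El F ((0, Pi.single b 1) : Vec S)) * g⁻¹) =
        cst (sg κ : GL (Fin 2) F) *
          (g * up (El F ((0, Pi.single a 1) + (0, Pi.single b 1) : Vec S)) * g⁻¹) := by
      rw [show ∀ A B : GL (Ix j) F, g * A * g⁻¹ * (g * B * g⁻¹) = g * (A * B) * g⁻¹ from fun A B => by group,
        ← map_mul, hκ, map_mul, up_sd_const, ← mul_assoc g, ← cst_sg_comm]
      group
    rcases many_pick hmul' hd₀ hd' e₁ hu₁ hA₁ e₂ hu₂ hA₂ with h | h | h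
    · exact hdone _ (C6Plus10.single_ne_zero a) h
    · exact hdone _ (C6Plus10.single_ne_zero b) h
    · exact hdone _ (fun e => by simpa [hab] using congrFun (congrArg Prod.snd e) a) h
  push Not at hd'
  have hD : ∀ i, i ≠ d₀ → i ∈ S := fun i hi => by_contra fun h => hi (hd' i h).symm
  have H := sys_complex (M := M) h2 hM hd₀
  obtain ⟨Φ, hΦ, huq, hadd, hzero, hsurj⟩ := H.maps hg fun b v => by
    obtain ⟨π, f, d, e, c, w, hxe, -, hπ, hout, hw, -, -, hde, hdl⟩ := hshape v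
    obtain ⟨u, l, c₀, hu, hs⟩ := slice_exists_m hd₀ hD hxe hπ hout hw hde hdl b
    have he0 : e = 0 := by
      have hj' := (mem_LC.1 (hx v)).2
      rw [hxe, show (cst jq : GL (Ix j) F) = mq p 1 (fun _ => 0) (fun _ => 1) (fun _ => 0) by
        rw [← mq_blk, cst_eq]; exact congrArg blk (funext fun _ => by simp [qel]), mq_mul, mq_mul] at hj'
      funext y
      have := congrFun (mq_inj h2 hj').2.1 y
      simp at this
      simpa using this
    rw [he0] at hs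
    obtain ⟨v', z, hz, e'⟩ := split_complex (p := p) h2 ⟨u, l, c₀, d (b • pe d₀), 0, hu, rfl⟩ (by
      rw [show (jq : GL (Fin 2) F) = qel p 0 1 0 by simp [qel],
        show (cst (qel p 0 1 0) : GL (Ix j) F) = el 0 0 (qel p 0 1 0) by rw [el, pau_zero, map_one, one_mul],
        el_mul_qel, el_mul_qel]
      simp [C6Plus10.ip_zero_right, C6Plus10.ip_zero_left, add_comm, mul_comm])
    exact ⟨v', z, hz, e' ▸ hs⟩
  have hnor : ∀ c ∈ LC M S, Nr p c → ∀ v : Vec S, ∃ w : Vec S, ∃ z ∈ CC p S, c * up (El F v) * c⁻¹ = up (El F w) * z := by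
    intro c hc hn v
    refine split_complex h2 ?_ (mem_LC.1 (img_mem hc (upEl_mem hM v))).2
    rw [upEl_eq (p := p)]
    exact pauS_conj h2 (mem_LC.1 hc).1 hn (fun _ hi => ex_not_mem _ hi) 0 0 0
  have hcB : ∀ v v', Φ 0 v = Φ 1 v' →
      Φ 0 (v.1, v.2 + v.1 a • Pi.single a 1) = Φ 1 (v'.1, v'.2 + v'.1 a • Pi.single a 1) := by
    have hn : ctlB (ip (pe (a : Fin j))) (jq : GL (Fin 2) F) ∈ LC M S :=
      mem_LC.2 ⟨blk_mem_LR (hM.ctrl _ (aff_ip _) jq (jq_mem p)), jq_comm_ctlB _⟩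
    have hcp : ∀ v : Vec S, ∃ e, ctlB (ip (pe (a : Fin j))) jq * up (El F v) * (ctlB (ip (pe (a : Fin j))) jq)⁻¹ =
        up (El F ((v.1, v.2 + v.1 a • Pi.single a 1) : Vec S)) * el 0 0 (qel p e (v.1 a) 0) := fun v => by
      obtain ⟨e, he⟩ := ctlB_conj p (a : Fin j) (ex S v.1) (ex S v.2) (0, 0)
      refine ⟨e, ?_⟩
      rw [upEl_eq (p := p), upEl_eq (p := p), map_add, map_smul, ex_single a.2, el_mul_qel]
      simp only [qb, add_zero, zero_add, ex_mem v.1 a.2, sg_qel] at he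
      rw [he]
      simp [C6Plus10.ip_zero_right]
    refine H.conj p hg hn hΦ huq hadd hzero (fun v : Vec S => ((v.1, v.2 + v.1 a • Pi.single a 1) : Vec S))
      (fun v => ?_)
      (V' := (↥({a}ᶜ : Finset ↥S) → ZMod 2) × (↥S → ZMod 2))
      (fun x => (exc {a} x.1, x.2))
      (fun x y e => by
        simp only [Prod.mk.injEq] at e
        exact Prod.ext (exc_inj _ e.1) e.2)
      (fun x y => ?_) ?_ hgood hnor
    · obtain ⟨e, he⟩ := hcp v
      exact ⟨_, ⟨e, v.1 a, 0, fun _ _ => rfl, rfl⟩, he⟩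
    · obtain ⟨e, he⟩ := hcp ((exc {a} x.1, x.2) + (exc {a} y.1, y.2))
      refine ⟨e, ?_⟩
      simp only [Prod.fst_add, Pi.add_apply, exc_apply_mem _ (Finset.mem_singleton_self a), add_zero, zero_smul,
        qel_sg] at he
      rw [he, cst_sg_comm, el, pau_zero, map_one, one_mul]
      rfl
    · simp only [Fintype.card_prod, card_pt, Finset.card_compl, Fintype.card_coe, Finset.card_singleton]
      rw [← pow_add, ← pow_add, ← pow_add]
      exact Nat.pow_lt_pow_right one_lt_two (by omega)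
  set v₀ : Vec S := (0, Pi.single a 1) with hv₀
  obtain ⟨v', hv'⟩ := hsurj v₀
  have hv'0 : v' ≠ 0 := fun e => by
    rw [e, show Φ 1 (0 : Vec S) = 0 from by simpa using hadd 1 0 0] at hv'
    exact C6Plus10.single_ne_zero a (hzero 0 _ hv')
  obtain ⟨t₁, e₁⟩ := H.tau hadd hzero hsurj hcB (t := (Pi.single a 1, 0)) (v₀ := v₀)
    (by refine Prod.ext ?_ ?_ <;> simp [hv₀, CharTwo.add_self_eq_zero, funext_iff]) hv'
  have hvv : v' = v₀ := by
    have h1 : v'.1 = 0 := by rw [e₁]; simp [CharTwo.add_self_eq_zero, funext_iff]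
    have h3 : ∀ i, i ≠ a → v'.2 i = 0 := fun i hi => by rw [e₁]; simp [hi, CharTwo.add_self_eq_zero]
    have h5 : v'.2 a = 1 := (zm_cases _).resolve_left fun e => hv'0 (Prod.ext h1 (funext fun i => by
      by_cases hi : i = a
      · rw [hi, e]; rfl
      · exact h3 i hi))
    refine Prod.ext h1 (funext fun i => ?_)
    show v'.2 i = (Pi.single a 1 : ↥S → ZMod 2) i
    by_cases hi : i = a
    · rw [hi, h5, Pi.single_eq_same]
    · rw [h3 i hi, Pi.single_eq_of_ne hi]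
  rw [hvv] at hv'
  obtain ⟨z₀, hz₀, he₀⟩ := hΦ 0 v₀
  obtain ⟨z₁, hz₁, he₁⟩ := hΦ 1 v₀
  rw [← hv'] at he₁
  obtain ⟨c₀, t₀, w₀, hw₀, rfl⟩ := id hz₀
  obtain ⟨c₁, t₁', w₁, hw₁, rfl⟩ := id hz₁
  have hq : ∀ (b : ZMod 2) (c t : ZMod 2) (w : Pt j), (∀ i ∈ S, w i = 0) →
      Seq d₀ b (g * up (El F v₀) * g⁻¹) (up (El F (Φ 0 v₀)) * el 0 w (qel p c t 0)) → qv (Φ 0 v₀) + t = 0 := by
    intro b c t w hw e
    have hz : el 0 w (qel p c t 0) ∈ CC p S := ⟨c, t, w, hw, rfl⟩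
    have e2 := e.mul e (H.pc _ (mul_mem (H.E_mem _) (H.le hz)))
    rw [hsq, show qv v₀ = 0 by simp [hv₀, qv], sg_zero, map_one,
      show ∀ A B : GL (Ix j) F, A * B * (A * B) = A * (B * A) * B from fun A B => by group,
      ← H.comm _ hz _ (H.E_mem _),
      show ∀ A B : GL (Ix j) F, A * (A * B) * B = A * A * (B * B) from fun A B => by group,
      ← map_mul, C6Plus10.El_sq, up_sd_const, el_mul_qel, pt_add_self, pt_add_self, C6Plus10.ip_zero_right,
      show el (F := F) (0 : Pt j) 0 (qel p (0 + c + c + 0 * t + t * t + 0 * 0) (t + t) (0 + 0)) = cst (sg t : GL (Fin 2) F) by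
        rw [el, pau_zero, map_one, one_mul, ← qel_sg (p := p)]
        congr 1
        congr 1 <;> rcases zm_cases t with rfl | rfl <;> rcases zm_cases c with rfl | rfl <;> decide,
      ← map_mul, ← sg_add] at e2
    exact seq_sg h2 e2
  obtain rfl : t₀ = t₁' := add_left_cancel ((hq 0 c₀ t₀ w₀ hw₀ he₀).trans (hq 1 c₁ t₁' w₁ hw₁ he₁).symm)
  refine ⟨v₀, Φ 0 v₀, C6Plus10.single_ne_zero a, H.finish p hz₀ he₀ he₁ (α := c₀ + c₁) (β := (w₀ + w₁) d₀) ?_⟩
  have hs : ∀ y, ip w₀ y + ip w₁ y = (w₀ + w₁) d₀ * y d₀ := fun y => by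
    rw [← ip_add_left]
    exact ip_single (fun i hi => by rw [Pi.add_apply, hw₀ i (hD i hi), hw₁ i (hD i hi), add_zero]) y
  rw [el_zero_blk, el_zero_blk, ← blk_sg, ← map_mul]
  refine congrArg blk (funext fun y => ?_)
  rw [Pi.mul_apply, ← sg_comm, sg_qel]
  congr 1
  have := hs y
  simp only [Pi.add_apply] at this ⊢
  grind

end Cfsg.Agent.C6Minus10
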