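import Cfsg.Agent.Lib.C6Minus10Real

/-!
The level centralising the complex structure normalises when the smaller level with free last qubit does.
-/

set_option autoImplicit false
set_option linter.unusedSectionVars false

namespace Cfsg.Agent.C6Minus10

open Matrix Module Cfsg.Agent.C6Plus10
open scoped MatrixGroups

variable {F : Type*} [Field F] {j : ℕ} {p : Par F} {M : Subgroup (GL (Ix j) F)} {S : Finset (Fin j)}

theorem commC (g : GL (Ix j) F) (hg : g ∈ LC M S) (c : GL (Ix j) F) (hc : c ∈ CCG p S) : g * c = c * g :=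
  comm_CC hg hc

theorem CC_nr (c : GL (Ix j) F) (hc : c ∈ CCG p S) : Nr p c := nr_of_mem (CC_le hc)

theorem qel_sgC (c : ZMod 2) : qel p c 0 0 = (sg c : GL (Fin 2) F) := by simp [qel]

theorem qel_jt_comm (c t c' t' : ZMod 2) : qel p c t 0 * qel p c' t' 0 = qel p c' t' 0 * qel p c t 0 := by
  rw [qel_mul, qel_mul]
  congr 1 <;> ring

/-- The level centralising the complex structure modulo its centre. -/
abbrev GC (p : Par F) (M : Subgroup (GL (Ix j) F)) (S : Finset (Fin j)) : Type _ := Qg (LC M S) (CCG p S)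

/-- A free element modulo the centre. -/
noncomputable def EC (hM : BaseMinus p M) (v : Vec S) : GC p M S :=
  QuotientGroup.mk ⟨up (El F v), up_El_mem hM v⟩

/-- What is used of elements carrying all free elements into the centraliser of the free elements. -/
def CentC (p : Par F) (M : Subgroup (GL (Ix j) F)) : Prop :=
  ∀ S : Finset (Fin j), 2 ≤ S.card → ∀ g ∈ LC M S,
    (∀ v : Vec S, Nr p (g * up (El F v) * g⁻¹) ∧
      ∀ w : Vec S, g * up (El F v) * g⁻¹ * up (El F w) * (g * up (El F v) * g⁻¹)⁻¹ * (up (El F w))⁻¹ ∈ CC p S) →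
    (∀ w : Vec S, w ≠ 0 → ∀ x ∈ LC M S, x * up (El F w) * x⁻¹ * (up (El F w))⁻¹ ∈ CC p S → Nr p x) →
    ∃ v w : Vec S, v ≠ 0 ∧ g * up (El F v) * g⁻¹ * (up (El F w))⁻¹ ∈ CC p S

/-- An element commuting with a sign at one place and the complex structure commutes with the controlled
complex structure. -/
theorem ctlB_comm (h2 : (2 : F) ≠ 0) {a : Fin j} {y : GL (Ix j) F}
    (hZ : y * up (sd F (ip (pe a))) = up (sd F (ip (pe a))) * y) (hJ : y * cst jq = cst jq * y) :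
    y * ctlB (ip (pe a)) jq = ctlB (ip (pe a)) jq * y := by
  have e : (2 : F) • ((ctlB (ip (pe a)) jq : GL (Ix j) F) : Matrix (Ix j) (Ix j) F) =
      1 + ((up (sd F (ip (pe a))) : GL (Ix j) F) : Matrix (Ix j) (Ix j) F) +
        (1 - ((up (sd F (ip (pe a))) : GL (Ix j) F) : Matrix (Ix j) (Ix j) F)) *
          ((cst jq : GL (Ix j) F) : Matrix (Ix j) (Ix j) F) := by
    rw [← blk_sg, ctlB, cst_eq, blk_val, blk_val, blk_val, sub_mul, one_mul, ← blkM_mul]
    ext ⟨x, i⟩ ⟨z, l⟩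
    simp only [Matrix.smul_apply, Matrix.add_apply, Matrix.sub_apply, blkM_apply, Matrix.one_apply, smul_eq_mul]
    by_cases h : x = z
    · subst h
      rcases zm_cases (ip (pe a) x) with e | e <;> rw [e] <;> fin_cases i <;> fin_cases l <;>
        simp [sg_one, jq] <;> ring
    · simp [h]
  have hZ' := congrArg (fun u : GL (Ix j) F => (u : Matrix (Ix j) (Ix j) F)) hZ
  have hJ' := congrArg (fun u : GL (Ix j) F => (u : Matrix (Ix j) (Ix j) F)) hJ
  rw [Units.val_mul, Units.val_mul] at hZ' hJ'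
  refine Units.ext (smul_right_injective _ h2 ?_)
  show (2 : F) • ((y * ctlB (ip (pe a)) jq : GL (Ix j) F) : Matrix (Ix j) (Ix j) F) =
    (2 : F) • ((ctlB (ip (pe a)) jq * y : GL (Ix j) F) : Matrix (Ix j) (Ix j) F)
  rw [Units.val_mul, Units.val_mul, ← mul_smul_comm, ← smul_mul_assoc, e]
  exact (((Commute.one_right _).add_right hZ').add_right (((Commute.one_right _).sub_right hZ').mul_right hJ')).eq

section Level

variable (hM : BaseMinus p M)
include hM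

theorem conjC_iff {g : ↥(LC M S)} {v w : Vec S} :
    (QuotientGroup.mk g : GC p M S) * EC hM v * (QuotientGroup.mk g)⁻¹ = EC hM w ↔
      ∃ c t z, (∀ i ∈ S, (z : Pt j) i = 0) ∧ (g : GL (Ix j) F) * up (El F v) * (g : GL (Ix j) F)⁻¹ =
        el (ex S w.1) (ex S w.2 + z) (qel p c t 0) := by
  rw [EC, EC, ← QuotientGroup.mk_inv, ← QuotientGroup.mk_mul, ← QuotientGroup.mk_mul, mk_iff commC, Subgroup.coe_mul,
    Subgroup.coe_mul, Subgroup.coe_inv]
  show _ * up (El F v) * _ * (up (El F w))⁻¹ ∈ CC p S ↔ _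
  have e : ∀ (z : Pt j) (q : GL (Fin 2) F), (∀ i ∈ S, z i = 0) →
      el 0 z q * up (El F w) = el (ex S w.1) (ex S w.2 + z) q := fun z q hz => by
    rw [El, ← el_one, el_mul, zero_add, ip_off hz, sg_zero, one_mul, mul_one, add_comm z]
  constructor
  · rintro ⟨c, t, z, hz, h⟩
    exact ⟨c, t, z, hz, by rw [← e z _ hz, ← h, inv_mul_cancel_right]⟩
  · rintro ⟨c, t, z, hz, h⟩
    exact ⟨c, t, z, hz, by rw [h, ← e z _ hz, mul_inv_cancel_right]⟩

theorem conjC_of_CPm {n : GL (Ix j) F} (hn : n ∈ LC M S) {v w : Vec S} {t : ZMod 2} {z : Pt j}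
    (hz : ∀ i ∈ S, z i = 0) (h : CPm p n (ex S v.1) (ex S v.2) (0, 0) (ex S w.1) (ex S w.2 + z) (t, 0)) :
    (QuotientGroup.mk ⟨n, hn⟩ : GC p M S) * EC hM v * (QuotientGroup.mk ⟨n, hn⟩)⁻¹ = EC hM w := by
  obtain ⟨c, hc⟩ := h
  refine (conjC_iff hM).2 ⟨c, t, z, hz, ?_⟩
  rw [qel_eq, ← hc, show qb p ((0, 0) : ZMod 2 × ZMod 2) = 1 from qb_zero p, el_one]
  rfl

theorem EC_add (v w : Vec S) : EC hM (v + w) = EC hM v * EC hM w := by
  symm
  rw [EC, EC, EC, ← QuotientGroup.mk_mul, mk_iff commC, Subgroup.coe_mul]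
  refine ⟨ip (ex S v.2) (ex S w.1), 0, 0, fun _ _ => rfl, ?_⟩
  rw [mul_inv_eq_iff_eq_mul]
  show up (El F v) * up (El F w) = _ * up (El F (v + w))
  rw [qel_sgC, el_sg, pau_zero, mul_one, ← map_mul, ← map_mul, El, El, El, pau_mul]
  simp only [Prod.fst_add, Prod.snd_add, map_add]

theorem EC_inj (h2 : (2 : F) ≠ 0) {v w : Vec S} (h : EC hM v = EC hM w) : v = w := by
  obtain ⟨c, t, z, hz, hc⟩ := (conjC_iff hM (g := 1) (v := v) (w := w)).1 (by simpa using h)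
  rw [Subgroup.coe_one, one_mul, inv_one, mul_one, El, ← el_one] at hc
  obtain ⟨e1, e2, -⟩ := el_inj h2 hc
  refine Prod.ext (ex_inj e1) (funext fun i => ?_)
  have := congrFun e2 i
  simpa [ex_mem _ i.2, hz i i.2] using this

theorem sq_trivial (h2 : (2 : F) ≠ 0) {g : GL (Ix j) F} {b b' : Pt j} {c t : ZMod 2}
    (h : g * el 0 b (1 : GL (Fin 2) F) * g⁻¹ = el 0 b' (qel p c t 0)) : t = 0 := by
  have e : g * el 0 b (1 : GL (Fin 2) F) * g⁻¹ * (g * el 0 b (1 : GL (Fin 2) F) * g⁻¹) =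
      el 0 b' (qel p c t 0) * el 0 b' (qel p c t 0) := by rw [h]
  rw [conj_mul, el_mul, el_mul, pt_add_self, pt_add_self, pt_add_self, ip_zero_right, ip_zero_right, sg_zero, one_mul,
    one_mul, el_zero, mul_one, mul_inv_cancel, one_mul, qel_mul, ← el_zero, ← qel_zero p] at e
  have := (qel_inj h2 (el_inj h2 e).2.2).1
  simpa [show ∀ t : ZMod 2, t * t = t from by decide, CharTwo.add_self_eq_zero] using this.symm

/-- What fixes the free sign modulo the centre normalises. -/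
theorem fixC_sign [Finite F] (h2 : (2 : F) ≠ 0) {a : ↥S} (hlow : LevR p M (S.erase (a : Fin j))) {g : ↥(LC M S)}
    (h : (QuotientGroup.mk g : GC p M S) * EC hM (0, Pi.single a 1) * (QuotientGroup.mk g)⁻¹ =
      EC hM (0, Pi.single a 1)) : Nr p (g : GL (Ix j) F) := by
  obtain ⟨c, t, z, hz, hc⟩ := (conjC_iff hM).1 h
  rw [El, map_zero, ex_single a.2, ← el_one] at hc
  obtain rfl : t = 0 := sq_trivial hM h2 hc
  rw [qel_sgC] at hc
  have hzd : ip z (pe (a : Fin j)) = 0 := by rw [ip_pe_right]; exact hz a a.2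
  obtain ⟨n, hn⟩ : ∃ n, n = up (pm F (trP (pe (a : Fin j)) z c hzd)) := ⟨_, rfl⟩
  have hnL : n ∈ LR M S := hn ▸ up_mem_LR (tr_LK (base_comap hM) _ _ c hzd fun u w hs => by
    have hu : u = 0 := funext fun i => hs.hu i (by simp)
    exact ⟨by rw [hu]; exact ip_zero_right z, by rw [ip_pe_right]; exact hs.hw a a.2⟩)
  have hnr : Nr p n := hn ▸ nr_up p (nr_tr _ _ _ hzd)
  have e : n * el 0 (pe (a : Fin j)) (1 : GL (Fin 2) F) * n⁻¹ =
      (g : GL (Ix j) F) * el 0 (pe (a : Fin j)) (1 : GL (Fin 2) F) * (g : GL (Ix j) F)⁻¹ := by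
    rw [hn, hc, el_one, el_sg, ← map_inv, ← map_mul, ← map_mul, tr_conj, ip_pe, pe_self, one_smul, mul_one,
      ip_zero_right, zero_smul, add_zero]
  have hgR : (g : GL (Ix j) F) ∈ LR M S := (mem_LC.1 g.2).1
  have hh : n⁻¹ * (g : GL (Ix j) F) ∈ LR M (S.erase (a : Fin j)) := by
    refine mem_LR.2 ⟨M.mul_mem (M.inv_mem (mem_LR.1 hnL).1) (mem_LR.1 hgR).1, fun i hi => ?_⟩
    by_cases hia : i = (a : Fin j)
    · subst hia
      rw [up_pe]
      refine mul_inv_eq_iff_eq_mul.1 ?_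
      rw [show n⁻¹ * (g : GL (Ix j) F) * el 0 (pe (a : Fin j)) 1 * (n⁻¹ * (g : GL (Ix j) F))⁻¹ =
        n⁻¹ * ((g : GL (Ix j) F) * el 0 (pe (a : Fin j)) 1 * (g : GL (Ix j) F)⁻¹) * n by group, ← e]
      group
    · exact (mem_LR.1 (mul_mem (inv_mem hnL) hgR)).2 i fun h => hi (Finset.mem_erase.2 ⟨hia, h⟩)
  have := nr_mul p hnr (hlow _ hh)
  rwa [mul_inv_cancel_left] at this

/-- Moving a free index to another by the normaliser inside the level centralising the complex structure. -/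
def RC [Finite F] (v w : Vec S) : Prop :=
  ∃ n : GC p M S, n ∈ Nqg p (LC M S) (CCG p S) ∧ n * EC hM v * n⁻¹ = EC hM w

theorem rc_of_CPm [Finite F] {n : GL (Ix j) F} (hn : n ∈ LC M S) (hnr : Nr p n) {v w : Vec S} {t : ZMod 2} {z : Pt j}
    (hz : ∀ i ∈ S, z i = 0) (h : CPm p n (ex S v.1) (ex S v.2) (0, 0) (ex S w.1) (ex S w.2 + z) (t, 0)) :
    RC hM v w :=
  ⟨QuotientGroup.mk ⟨n, hn⟩, (mem_Nqg commC CC_nr).2 hnr, conjC_of_CPm hM hn hz h⟩

theorem RC.trans' [Finite F] {u v w : Vec S} (h : RC hM u v) (h' : RC hM v w) : RC hM u w := by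
  obtain ⟨n, hn, e⟩ := h
  obtain ⟨n', hn', e'⟩ := h'
  refine ⟨n' * n, mul_mem hn' hn, ?_⟩
  rw [← e', ← e]
  group

theorem rc_up [Finite F] {v w : Vec S} (h : C6Plus10.Rc (M.comap up) S ∅ v w) : RC hM v w := by
  obtain ⟨n, hn, hnr, u, z, hs, hc⟩ := h
  have hu : u = 0 := funext fun i => hs.hu i (by simp)
  rw [hu, add_zero] at hc
  exact rc_of_CPm hM (mem_LC.2 ⟨up_mem_LR hn, up_comm_cst _ _⟩) (nr_up p hnr) hs.hw (up_conj p hc (0, 0))

theorem ctlB_mem_LC (a : Fin j) : ctlB (ip (pe a)) jq ∈ LC M S :=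
  mem_LC.2 ⟨blk_mem_LR (hM.ctrl _ (aff_ip _) _ (jq_mem p)), jq_comm_ctlB _⟩

theorem rc_ctl [Finite F] (a : ↥S) (v : Vec S) : RC hM v (v.1, v.2 + v.1 a • Pi.single a 1) := by
  have := ctlB_conj p (a : Fin j) (ex S v.1) (ex S v.2) (0, 0)
  refine rc_of_CPm hM (t := v.1 a) (z := 0) (ctlB_mem_LC hM a) (nr_ctrl p (aff_ip _) (jq_mem p)) (fun _ _ => rfl) ?_
  dsimp only at this
  rw [ex_mem _ a.2, zero_add, add_zero] at this
  rwa [add_zero, map_add, map_smul, ex_single a.2]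

omit hM in
theorem ex_update {t : ↥S} (x : ↥S → ZMod 2) (c : ZMod 2) :
    ex S (Function.update x t c) = Function.update (ex S x) (t : Fin j) c := by
  funext i
  by_cases hi : i ∈ S
  · simp [ex_mem _ hi, Function.update_apply, Subtype.ext_iff]
  · rw [ex_not_mem _ hi, Function.update_of_ne (fun e : i = t => hi (e ▸ t.2)), ex_not_mem _ hi]

/-- The swap at one place. -/
def swC (a : ↥S) (v : Vec S) : Vec S := (Function.update v.1 a (v.2 a), Function.update v.2 a (v.1 a))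

theorem had1_LC (h2 : (2 : F) ≠ 0) (a : ↥S) : ∃ g, ∃ hg : g ∈ LC M S, Nr p g ∧ g * g = cst jq ∧
    ∀ v : Vec S, (QuotientGroup.mk ⟨g, hg⟩ : GC p M S) * EC hM v * (QuotientGroup.mk ⟨g, hg⟩)⁻¹ =
      EC hM (swC a v) := by
  obtain ⟨g, hg, hgr, hgg, hgj, hfix, hc⟩ := had1_spec h2 hM (a : Fin j)
  have hgL : g ∈ LC M S := mem_LC.2 ⟨mem_LR.2 ⟨hg, fun i hi => hfix i fun e => hi (e ▸ a.2)⟩, hgj⟩
  refine ⟨g, hgL, hgr, hgg, fun v => conjC_of_CPm hM hgL (t := 0) (z := 0) (fun _ _ => rfl) ?_⟩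
  have := hc (ex S v.1) (ex S v.2) (0, 0)
  rw [swC, ex_update, ex_update, add_zero]
  dsimp only at this ⊢
  rwa [ex_mem _ a.2, ex_mem _ a.2, add_zero] at this

/-- Every free element reaches the free sign. -/
theorem rcC_reach [Finite F] (h2 : (2 : F) ≠ 0) (hS2 : 2 ≤ S.card) (a : ↥S) {v : Vec S} (hv : v ≠ 0) :
    RC hM v (0, Pi.single a 1) := by
  rcases C6Plus10.reach_std h2 (base_comap hM) (Finset.disjoint_empty_right S) hS2 a hv with h | ⟨-, -, h⟩
  · exact rc_up hM h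
  refine RC.trans' hM (rc_up hM h) (RC.trans' hM (rc_ctl hM a _) ?_)
  obtain ⟨g, hg, hgr, -, he⟩ := had1_LC hM h2 a
  refine ⟨QuotientGroup.mk ⟨g, hg⟩, (mem_Nqg commC CC_nr).2 hgr, (he _).trans (congrArg (EC hM) ?_)⟩
  refine Prod.ext (funext fun i => ?_) (funext fun i => ?_) <;>
    by_cases hi : i = a <;> simp [swC, hi, CharTwo.add_self_eq_zero]

theorem fuseC [Finite F] (h2 : (2 : F) ≠ 0) (hS2 : 2 ≤ S.card) {a : ↥S} (hlow : LevR p M (S.erase (a : Fin j)))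
    {g : GC p M S} {v w : Vec S} (hv : v ≠ 0) (hw : w ≠ 0) (h : g * EC hM v * g⁻¹ = EC hM w) :
    g ∈ Nqg p (LC M S) (CCG p S) := by
  obtain ⟨n₁, hn₁, e₁⟩ := rcC_reach hM h2 hS2 a hv
  obtain ⟨n₂, hn₂, e₂⟩ := rcC_reach hM h2 hS2 a hw
  obtain ⟨x, hx⟩ := QuotientGroup.mk_surjective (n₂ * g * n₁⁻¹)
  have hN : n₂ * g * n₁⁻¹ ∈ Nqg p (LC M S) (CCG p S) := by
    rw [← hx]
    refine (mem_Nqg commC CC_nr).2 (fixC_sign hM h2 hlow ?_)
    rw [show (QuotientGroup.mk x : GC p M S) = n₂ * g * n₁⁻¹ from hx,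
      show n₂ * g * n₁⁻¹ * EC hM (0, Pi.single a 1) * (n₂ * g * n₁⁻¹)⁻¹ =
        n₂ * (g * (n₁⁻¹ * EC hM (0, Pi.single a 1) * n₁) * g⁻¹) * n₂⁻¹ by group, ← e₁,
      show n₁⁻¹ * (n₁ * EC hM v * n₁⁻¹) * n₁ = EC hM v by group, h, e₂, e₁]
  have := mul_mem (mul_mem (inv_mem hn₂) hN) hn₁
  rwa [show n₂⁻¹ * (n₂ * g * n₁⁻¹) * n₁ = g by group] at this

theorem commutator_sign (h2 : (2 : F) ≠ 0) {g : ↥(LC M S)} {v v' w w' : Vec S}
    (hv : (QuotientGroup.mk g : GC p M S) * EC hM v * (QuotientGroup.mk g)⁻¹ = EC hM v')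
    (hw : (QuotientGroup.mk g : GC p M S) * EC hM w * (QuotientGroup.mk g)⁻¹ = EC hM w') :
    bq S v' w' = bq S v w := by
  obtain ⟨c, t, z, hz, hc⟩ := (conjC_iff hM).1 hv
  obtain ⟨c', t', z', hz', hc'⟩ := (conjC_iff hM).1 hw
  obtain ⟨k, hk⟩ : ∃ k, k = ip (ex S v.2) (ex S w.1) + ip (ex S w.2) (ex S v.1) := ⟨_, rfl⟩
  have hG : (g : GL (Ix j) F) * cst (sg k : GL (Fin 2) F) * (g : GL (Ix j) F)⁻¹ = cst (sg k : GL (Fin 2) F) := by
    rw [← cst_sg_comm, mul_inv_cancel_right]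
  have e := congrArg (fun x => (g : GL (Ix j) F) * x * (g : GL (Ix j) F)⁻¹)
    (show up (El F v) * up (El F w) = cst (sg k : GL (Fin 2) F) * (up (El F w) * up (El F v)) by
      rw [← map_mul, ← map_mul, El, El, pau_comm, map_mul, up_sd_const, hk])
  rw [← conj_mul, ← conj_mul, ← conj_mul, hG, hc, hc', el_mul, el_mul, ← el_sg_mul] at e
  obtain ⟨-, -, e'⟩ := el_inj h2 e
  rw [mul_assoc, mul_assoc, qel_jt_comm c' t' c t, ← mul_assoc (sg k : GL (Fin 2) F), ← sg_add] at e'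
  have e'' := mul_right_cancel e'
  rw [← qel_sgC (p := p), ← qel_sgC (p := p), ip_add_left, ip_add_left, ip_off hz, ip_off hz', add_zero, add_zero,
    hk] at e''
  have := (qel_inj h2 e'').1
  simp only [bq_apply, ip_ex] at this ⊢
  rw [dotProduct_comm v'.1, dotProduct_comm w'.1, dotProduct_comm v.1, dotProduct_comm w.1]
  linear_combination (norm := grind) this

end Level

variable [Finite F] (h2 : (2 : F) ≠ 0) (hM : BaseMinus p M) (hcent : CentC p M) (hS2 : 2 ≤ S.card) {a : ↥S}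
  (hlow : LevR p M (S.erase (a : Fin j)))
include h2 hM hcent hS2 hlow

/-- The system of the level centralising the complex structure. -/
noncomputable def sysC : Sys (GC p M S) (Vec S) where
  N := Nqg p (LC M S) (CCG p S)
  E := EC hM
  E_add := EC_add hM
  E_inj _ _ h := EC_inj hM h2 h
  E_mem v := (mem_Nqg commC CC_nr).2 (nr_up p (nr_pau _ _))
  nor := by
    intro n hn v
    obtain ⟨g, rfl⟩ := QuotientGroup.mk_surjective n
    obtain ⟨a', b', q', ⟨c, d, e, rfl⟩, he⟩ :=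
      (mem_Nqg commC CC_nr).1 hn _ (el_mem p (ex S v.1) (ex S v.2) (one_mem (Q8 p)))
    rw [el_one] at he
    have hmem : el a' b' (qel p c d e) ∈ LC M S := he ▸ mul_mem (mul_mem g.2 (up_El_mem hM v)) (inv_mem g.2)
    have h1 := (mem_LC.1 hmem).2
    rw [← el_jq, el_mul, el_mul, zero_add, zero_add, add_zero, add_zero, ip_zero_right, ip_zero_left, sg_zero,
      one_mul, one_mul, show (jq : GL (Fin 2) F) = qel p 0 1 0 by simp [qel], qel_mul, qel_mul] at h1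
    have h3 := (qel_inj h2 (el_inj h2 h1).2.2).1
    obtain rfl : e = 0 := by linear_combination (norm := grind) h3
    obtain ⟨w, z, hz, rfl, rfl⟩ := split_vec (b := b') (el_support h2 (mem_LC.1 hmem).1)
    exact ⟨w, (conjC_iff hM).2 ⟨c, d, z, hz, he⟩⟩
  β := bq S
  β_symm v w := by rw [bq_apply, bq_apply, add_comm]
  β_nd := by
    intro v h
    refine Prod.ext (funext fun i => ?_) (funext fun i => ?_)
    · simpa [bq_apply] using h (0, Pi.single i 1)
    · simpa [bq_apply] using h (Pi.single i 1, 0)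
  iso := by
    intro n _ v v' w w' hv hw
    obtain ⟨g, rfl⟩ := QuotientGroup.mk_surjective n
    exact commutator_sign hM h2 hv hw
  good v hv g hg := fuseC hM h2 hS2 hlow hv hv (by rw [hg, mul_inv_cancel_right])
  fus v hv g w hg := fuseC hM h2 hS2 hlow hv (fun e => by
    have h0 : EC hM (0 : Vec S) = 1 := by
      have h := EC_add hM (0 : Vec S) 0
      rw [add_zero] at h
      exact mul_eq_left.1 h.symm
    rw [e, h0] at hg
    exact hv (EC_inj hM h2 ((conj_eq_one_iff.1 hg).trans h0.symm))) hg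
  cent := by
    intro x hx
    obtain ⟨g, rfl⟩ := QuotientGroup.mk_surjective x
    have hnr : ∀ v : Vec S, Nr p ((g : GL (Ix j) F) * up (El F v) * (g : GL (Ix j) F)⁻¹) := fun v => by
      have h := (hx v).1
      rw [EC, ← QuotientGroup.mk_inv, ← QuotientGroup.mk_mul, ← QuotientGroup.mk_mul, mem_Nqg commC CC_nr,
        Subgroup.coe_mul, Subgroup.coe_mul, Subgroup.coe_inv] at h
      exact h
    have himg : ∀ v w : Vec S, (g : GL (Ix j) F) * up (El F v) * (g : GL (Ix j) F)⁻¹ * up (El F w) *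
        ((g : GL (Ix j) F) * up (El F v) * (g : GL (Ix j) F)⁻¹)⁻¹ * (up (El F w))⁻¹ ∈ CC p S := fun v w => by
      have h := mul_inv_eq_iff_eq_mul.2 ((hx v).2 w)
      rw [EC, EC, ← QuotientGroup.mk_inv, ← QuotientGroup.mk_mul, ← QuotientGroup.mk_mul, ← QuotientGroup.mk_mul,
        ← QuotientGroup.mk_inv, ← QuotientGroup.mk_mul, mk_iff commC] at h
      simp only [Subgroup.coe_mul, Subgroup.coe_inv] at h
      exact h
    obtain ⟨v, w, hv, h⟩ := hcent S hS2 g g.2 (fun v => ⟨hnr v, himg v⟩) fun w hw y hy hyw => by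
      refine (mem_Nqg commC CC_nr (x := ⟨y, hy⟩)).1 (fuseC hM h2 hS2 hlow hw hw ?_)
      rw [EC, ← QuotientGroup.mk_inv, ← QuotientGroup.mk_mul, ← QuotientGroup.mk_mul, mk_iff commC]
      simp only [Subgroup.coe_mul, Subgroup.coe_inv]
      exact hyw
    refine ⟨v, w, hv, ?_⟩
    rw [EC, EC, ← QuotientGroup.mk_inv, ← QuotientGroup.mk_mul, ← QuotientGroup.mk_mul, mk_iff commC]
    simp only [Subgroup.coe_mul, Subgroup.coe_inv]
    exact h

/-- An involution moving free indices fixes some free element, and that has a root acting as a transvection. -/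
theorem sysC_root (x : GC p M S) (hx : x ∈ (sysC h2 hM hcent hS2 hlow).N) (hxx : x * x = 1) (e₁ e₂ a₁ a₂ : Vec S)
    (ha₁ : a₁ ≠ 0) (ha₂ : a₂ ≠ 0) (ha12 : a₁ ≠ a₂) (h₁ : x * EC hM e₁ * x⁻¹ = EC hM (e₁ + a₁))
    (h₂ : x * EC hM e₂ * x⁻¹ = EC hM (e₂ + a₂)) :
    ∃ b u, b ≠ 0 ∧ x * EC hM b * x⁻¹ = EC hM b ∧ u ∈ Nqg p (LC M S) (CCG p S) ∧ u * u = EC hM b ∧ u * x = x * u ∧
      ∀ w, u * EC hM w * u⁻¹ = EC hM (w + bq S b w • b) := by
  obtain ⟨X, rfl⟩ := QuotientGroup.mk_surjective x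
  have hXX : (X : GL (Ix j) F) * X ∈ CC p S := by
    have := (mk_iff commC (x := X * X) (y := 1)).1 hxx
    simp at this
    exact this
  have key : ∀ e b : Vec S, (QuotientGroup.mk X : GC p M S) * EC hM e * (QuotientGroup.mk X)⁻¹ = EC hM (e + b) →
      ∃ c : ZMod 2, (X : GL (Ix j) F) * up (El F b) * (X : GL (Ix j) F)⁻¹ =
        cst (sg c : GL (Fin 2) F) * up (El F b) := by
    intro e b h
    have h' := (mk_iff commC (x := X * ⟨up (El F e), up_El_mem hM e⟩ * X⁻¹ *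
      (⟨up (El F e), up_El_mem hM e⟩)⁻¹) (y := ⟨up (El F b), up_El_mem hM b⟩)).1 (by
        show (QuotientGroup.mk X : GC p M S) * EC hM e * (QuotientGroup.mk X)⁻¹ * (EC hM e)⁻¹ = EC hM b
        rw [h, add_comm, EC_add, mul_inv_cancel_right])
    simp only [Subgroup.coe_mul, Subgroup.coe_inv] at h'
    obtain ⟨ζ, hζ, hζ'⟩ : ∃ ζ ∈ CC p S, (X : GL (Ix j) F) * up (El F e) * (X : GL (Ix j) F)⁻¹ * (up (El F e))⁻¹ =
        ζ * up (El F b) := ⟨_, h', (inv_mul_cancel_right _ _).symm⟩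
    obtain ⟨A, hA⟩ : ∃ A, A = ζ * up (El F b) := ⟨_, rfl⟩
    have hAinv : (X : GL (Ix j) F) * A * (X : GL (Ix j) F)⁻¹ = A⁻¹ := by
      have hc2 : (X : GL (Ix j) F) * X * up (El F e) = up (El F e) * ((X : GL (Ix j) F) * X) :=
        (comm_CC (up_El_mem hM e) hXX).symm
      rw [hA, ← hζ']
      calc (X : GL (Ix j) F) * ((X : GL (Ix j) F) * up (El F e) * (X : GL (Ix j) F)⁻¹ * (up (El F e))⁻¹) *
            (X : GL (Ix j) F)⁻¹
          = (X : GL (Ix j) F) * X * up (El F e) * (X : GL (Ix j) F)⁻¹ * (up (El F e))⁻¹ * (X : GL (Ix j) F)⁻¹ := by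
            group
        _ = up (El F e) * ((X : GL (Ix j) F) * X) * (X : GL (Ix j) F)⁻¹ * (up (El F e))⁻¹ *
            (X : GL (Ix j) F)⁻¹ := by rw [hc2]
        _ = _ := by group
    obtain ⟨c, hc⟩ := rm_inv (p := p) (x := A) (by
      rw [hA, El, ← el_one]
      exact mul_mem (CC_le hζ) (el_mem p _ _ (one_mem _)))
    refine ⟨c, mul_left_cancel (a := ζ) ?_⟩
    calc ζ * ((X : GL (Ix j) F) * up (El F b) * (X : GL (Ix j) F)⁻¹)
        = ζ * (X : GL (Ix j) F) * (up (El F b) * (X : GL (Ix j) F)⁻¹) := by group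
      _ = (X : GL (Ix j) F) * A * (X : GL (Ix j) F)⁻¹ := by rw [hA, ← comm_CC X.2 hζ]; group
      _ = _ := by rw [hAinv, hc, hA, ← mul_assoc, cst_sg_comm, mul_assoc]
  obtain ⟨b, hb, hXb⟩ : ∃ b : Vec S, b ≠ 0 ∧
      (X : GL (Ix j) F) * up (El F b) * (X : GL (Ix j) F)⁻¹ = up (El F b) := by
    obtain ⟨c₁, hc₁⟩ := key e₁ a₁ h₁
    obtain ⟨c₂, hc₂⟩ := key e₂ a₂ h₂
    rcases zm_cases c₁ with rfl | rfl
    · exact ⟨a₁, ha₁, by rw [hc₁, sg_zero, map_one, one_mul]⟩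
    rcases zm_cases c₂ with rfl | rfl
    · exact ⟨a₂, ha₂, by rw [hc₂, sg_zero, map_one, one_mul]⟩
    refine ⟨a₁ + a₂, fun e => ha12 (C6Plus10.eq_of_vadd e), ?_⟩
    have e : up (El F (a₁ + a₂)) =
        cst (sg (ip (ex S a₁.2) (ex S a₂.1)) : GL (Fin 2) F) * (up (El F a₁) * up (El F a₂)) := by
      rw [El, El, El, ← map_mul, pau_mul, map_mul up, up_sd_const, ← mul_assoc, ← map_mul, ← sg_add,
        CharTwo.add_self_eq_zero, sg_zero, map_one, one_mul]
      simp only [Prod.fst_add, Prod.snd_add, map_add]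
    rw [e, ← conj_mul, ← conj_mul, hc₁, hc₂, show ∀ c : ZMod 2, (X : GL (Ix j) F) * cst (sg c : GL (Fin 2) F) *
      (X : GL (Ix j) F)⁻¹ = cst (sg c : GL (Fin 2) F) from fun c => by rw [← cst_sg_comm, mul_inv_cancel_right]]
    congr 1
    rw [mul_assoc, ← mul_assoc (up (El F a₁)), ← cst_sg_comm, mul_assoc, ← mul_assoc, ← map_mul, ← sg_add,
      CharTwo.add_self_eq_zero, sg_zero, map_one, one_mul]
  -- to the sign at the place
  obtain ⟨N, hN, hNb⟩ := rcC_reach hM h2 hS2 a hb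
  obtain ⟨n, rfl⟩ := QuotientGroup.mk_surjective N
  obtain ⟨c, t, z, hz, hc⟩ := (conjC_iff hM).1 hNb
  set X' : ↥(LC M S) := n * X * n⁻¹ with hX'
  have hZcomm : (X' : GL (Ix j) F) * up (sd F (ip (pe (a : Fin j)))) =
      up (sd F (ip (pe (a : Fin j)))) * (X' : GL (Ix j) F) := by
    have hζ : el (0 : Pt j) z (qel p c t 0) ∈ CC p S := ⟨c, t, z, hz, rfl⟩
    have c1 : Commute (X' : GL (Ix j) F) (el 0 z (qel p c t 0)) := comm_CC X'.2 hζ
    have c2 : Commute (X' : GL (Ix j) F) ((n : GL (Ix j) F) * up (El F b) * (n : GL (Ix j) F)⁻¹) := by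
      show _ * _ = _ * _
      simp only [hX', Subgroup.coe_mul, Subgroup.coe_inv]
      calc (n : GL (Ix j) F) * X * (n : GL (Ix j) F)⁻¹ * ((n : GL (Ix j) F) * up (El F b) * (n : GL (Ix j) F)⁻¹)
          = (n : GL (Ix j) F) * ((X : GL (Ix j) F) * up (El F b)) * (n : GL (Ix j) F)⁻¹ := by group
        _ = (n : GL (Ix j) F) * (up (El F b) * X) * (n : GL (Ix j) F)⁻¹ := by rw [mul_inv_eq_iff_eq_mul.1 hXb]
        _ = _ := by group
    have h3 : up (sd F (ip (pe (a : Fin j)))) =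
        (el (0 : Pt j) z (qel p c t 0))⁻¹ * ((n : GL (Ix j) F) * up (El F b) * (n : GL (Ix j) F)⁻¹) := by
      rw [hc, eq_inv_mul_iff_mul_eq, map_zero, ex_single a.2, ← pau_sd, ← el_one, el_mul, zero_add, ip_zero_right,
        sg_zero, one_mul, mul_one, add_comm z]
    rw [h3]
    exact (c1.inv_right.mul_right c2).eq
  obtain ⟨ρ, hρ⟩ : ∃ ρ, ρ = (ctlB (ip (pe (a : Fin j))) jq : GL (Ix j) F) := ⟨_, rfl⟩
  have hρL : ρ ∈ LC M S := hρ ▸ ctlB_mem_LC hM _
  have hρr : Nr p ρ := hρ ▸ nr_ctrl p (aff_ip _) (jq_mem p)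
  set Z0 : Vec S := (0, Pi.single a 1)
  have hρρ : ρ * ρ = up (El F Z0) := by
    rw [hρ, ctlB, ← map_mul, El, map_zero, ex_single a.2, pau_sd, ← blk_sg]
    congr 1
    funext y
    simp only [Pi.mul_apply]
    rcases zm_cases (ip (pe (a : Fin j)) y) with e | e <;> simp [e, sg_one, jq_sq]
  set R : GC p M S := QuotientGroup.mk ⟨ρ, hρL⟩
  have hRE : ∀ w : Vec S, R * EC hM w * R⁻¹ = EC hM (w + w.1 a • Z0) := fun w => by
    refine conjC_of_CPm hM hρL (t := w.1 a) (z := 0) (fun _ _ => rfl) ?_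
    have := ctlB_conj p (a : Fin j) (ex S w.1) (ex S w.2) (0, 0)
    dsimp only at this
    rw [← hρ, ex_mem _ a.2, zero_add, add_zero] at this
    rw [add_zero, show (w + w.1 a • Z0).1 = w.1 from by simp [Z0],
      show (w + w.1 a • Z0).2 = w.2 + w.1 a • Pi.single a 1 from rfl, map_add, map_smul, ex_single a.2]
    exact this
  set Nn : GC p M S := QuotientGroup.mk n
  have hRR : R * R = EC hM Z0 := congrArg (QuotientGroup.mk : ↥(LC M S) → GC p M S)
    (Subtype.ext (a1 := (⟨ρ, hρL⟩ : ↥(LC M S)) * ⟨ρ, hρL⟩) hρρ)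
  have hbN : Nn⁻¹ * EC hM Z0 * Nn = EC hM b := by rw [← hNb]; group
  refine ⟨b, Nn⁻¹ * R * Nn, hb, ?_, ?_, ?_, ?_, fun w => ?_⟩
  · exact congrArg (QuotientGroup.mk : ↥(LC M S) → GC p M S)
      (Subtype.ext (a1 := X * ⟨up (El F b), up_El_mem hM b⟩ * X⁻¹) hXb)
  · exact mul_mem (mul_mem (inv_mem hN) ((mem_Nqg commC CC_nr).2 hρr)) hN
  · rw [show Nn⁻¹ * R * Nn * (Nn⁻¹ * R * Nn) = Nn⁻¹ * (R * R) * Nn by group, hRR, hbN]
  · have hXρ : (X' : GL (Ix j) F) * ρ = ρ * (X' : GL (Ix j) F) := hρ ▸ ctlB_comm h2 hZcomm (mem_LC.1 X'.2).2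
    have hcq : Commute (Nn * QuotientGroup.mk X * Nn⁻¹) R :=
      congrArg (QuotientGroup.mk : ↥(LC M S) → GC p M S)
        (Subtype.ext (a1 := (n * X * n⁻¹) * ⟨ρ, hρL⟩) (a2 := ⟨ρ, hρL⟩ * (n * X * n⁻¹)) hXρ)
    calc Nn⁻¹ * R * Nn * QuotientGroup.mk X = Nn⁻¹ * (R * (Nn * QuotientGroup.mk X * Nn⁻¹)) * Nn := by group
      _ = Nn⁻¹ * ((Nn * QuotientGroup.mk X * Nn⁻¹) * R) * Nn := by rw [hcq.eq]
      _ = _ := by group
  · obtain ⟨w', hw'⟩ : ∃ w', Nn * EC hM w * Nn⁻¹ = EC hM w' := (sysC h2 hM hcent hS2 hlow).nor _ hN w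
    have hβ : w'.1 a = bq S b w := by
      have h3 := commutator_sign hM h2 (v := b) (v' := Z0) hNb hw'
      refine Eq.trans ?_ h3
      simp [bq_apply, Z0]
    have hwN : Nn⁻¹ * EC hM w' * Nn = EC hM w := by rw [← hw']; group
    rw [show Nn⁻¹ * R * Nn * EC hM w * (Nn⁻¹ * R * Nn)⁻¹ =
      Nn⁻¹ * (R * (Nn * EC hM w * Nn⁻¹) * R⁻¹) * Nn by group, hw', hRE w', hβ]
    rcases zm_cases (bq S b w) with e | e <;> rw [e]
    · rw [zero_smul, zero_smul, add_zero, add_zero, hwN]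
    · rw [one_smul, one_smul, EC_add, EC_add, ← hwN, ← hbN]
      group

/-- The step for the level centralising the complex structure. -/
theorem step_C : LevC p M S := by
  obtain ⟨l, hl⟩ : ∃ l : ↥S, l ≠ a := by
    haveI : Nontrivial ↥S := Fintype.one_lt_card_iff_nontrivial.1 (by rw [Fintype.card_coe]; omega)
    exact exists_ne a
  obtain ⟨s, hsL, hsr, hss, hsE⟩ := had1_LC hM h2 a
  intro g hg
  refine (mem_Nqg commC CC_nr (x := ⟨g, hg⟩)).1 ((sysC h2 hM hcent hS2 hlow).root_all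
    (by rw [C6Plus10.finrank_vec]; omega) (sysC_root h2 hM hcent hS2 hlow)
    (s := QuotientGroup.mk ⟨s, hsL⟩) ((mem_Nqg commC CC_nr).2 hsr) ?_
    (lam := ((Pi.single a 1, Pi.single a 1) : Vec S)) (c := ((0, Pi.single l 1) : Vec S)) ?_ ?_ ?_ ?_ ?_
    (fun w => (hsE w).trans (congrArg (EC hM) ?_)) _)
  · rw [← QuotientGroup.mk_mul]
    refine (mk_iff commC (y := 1)).2 ?_
    rw [Subgroup.coe_mul, Subgroup.coe_one, inv_one, mul_one, hss]
    exact ⟨0, 1, 0, fun _ _ => rfl, by rw [← el_jq]; simp [qel]⟩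
  · intro e
    simpa using congrFun (congrArg Prod.snd e) a
  · intro e
    simpa using congrFun (congrArg Prod.snd e) l
  · intro e
    have := congrFun (congrArg Prod.fst e) a
    simp at this
  · show bq S _ _ = 0
    simp [bq_apply, CharTwo.add_self_eq_zero]
  · show bq S _ _ = 0
    simp [bq_apply, hl, hl.symm]
  · show swC a w = w + bq S _ w • _
    refine Prod.ext (funext fun i => ?_) (funext fun i => ?_) <;>
      by_cases hi : i = a <;> simp [swC, hi, bq_apply, Pi.single_apply] <;> grind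

end Cfsg.Agent.C6Minus10
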