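import Cfsg.Agent.Lib.C6Minus10Defs
import Cfsg.Agent.Lib.SympTypeTwo

/-!
Inside an absolutely irreducible 2-group of symplectic type of minus type: commuting pairs of anticommuting
involutions, and one quaternion pair commuting with all of them.
-/

set_option autoImplicit false
set_option linter.unusedSectionVars false

namespace Cfsg.Agent.C6Minus10

open Matrix Cfsg.Agent.C6Plus10
open scoped MatrixGroups

/-- A power with exponent a bit. -/
def pw {G : Type*} [Monoid G] (g : G) (c : ZMod 2) : G := if c = 0 then 1 else g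

@[simp] theorem pw_zero {G : Type*} [Monoid G] (g : G) : pw g 0 = 1 := if_pos rfl

@[simp] theorem pw_one {G : Type*} [Monoid G] (g : G) : pw g 1 = g := if_neg one_ne_zero

section Signs

variable {G : Type*} [Monoid G] [HasDistribNeg G]

theorem pw_add {u : G} (hu : u * u = 1) (c d : ZMod 2) : pw u (c + d) = pw u c * pw u d := by
  rcases zm_cases c with rfl | rfl <;> rcases zm_cases d with rfl | rfl <;>
    simp [hu, show (1 : ZMod 2) + 1 = 0 by decide]

theorem pw_comm {u v : G} (h : v * u = -(u * v)) (c d : ZMod 2) :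
    pw v c * pw u d = sg (c * d) * (pw u d * pw v c) := by
  rcases zm_cases c with rfl | rfl <;> rcases zm_cases d with rfl | rfl <;> simp [h, sg_one]

theorem pw_commute {g u : G} (h : g * u = u * g) (c : ZMod 2) : g * pw u c = pw u c * g := by
  rcases zm_cases c with rfl | rfl <;> simp [h]

theorem sg_mul_self (c : ZMod 2) : sg c * sg c = (1 : G) := by
  rw [← sg_add, CharTwo.add_self_eq_zero, sg_zero]

end Signs

variable {ι : Type} [Fintype ι] [DecidableEq ι] {F : Type*} [Field F] {R : Subgroup (GL ι F)}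

theorem neg_one_ne_one [Nonempty ι] (h2 : (2 : F) ≠ 0) : (-1 : GL ι F) ≠ 1 := fun h => h2 (by
  have := congrArg (fun g : GL ι F => (g : Matrix ι ι F) (Classical.arbitrary ι) (Classical.arbitrary ι)) h
  simp only [Units.val_neg, Units.val_one, Matrix.neg_apply, Matrix.one_apply_eq] at this
  linear_combination -this)

theorem sg_inj [Nonempty ι] (h2 : (2 : F) ≠ 0) {c d : ZMod 2} (h : (sg c : GL ι F) = sg d) : c = d := by
  rcases zm_cases c with rfl | rfl <;> rcases zm_cases d with rfl | rfl <;> simp only [sg_zero, sg_one] at h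
  · rfl
  · exact absurd h.symm (neg_one_ne_one h2)
  · exact absurd h (neg_one_ne_one h2)
  · rfl

/-- Commuting with every member of two families. -/
def Cen {t : ℕ} (X Z : Pt t → GL ι F) (c : GL ι F) : Prop :=
  (∀ a, c * X a = X a * c) ∧ ∀ b, c * Z b = Z b * c

/-- Two families of involutions in R pairing by signs, and the decomposition of R along them. -/
structure Frame (R : Subgroup (GL ι F)) (t : ℕ) (X Z : Pt t → GL ι F) : Prop where
  memX : ∀ a, X a ∈ R
  memZ : ∀ b, Z b ∈ R
  addX : ∀ a b, X (a + b) = X a * X b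
  addZ : ∀ a b, Z (a + b) = Z a * Z b
  comm : ∀ a b, Z b * X a = sg (ip b a) * (X a * Z b)
  corr : ∀ r ∈ R, ∃ a b c, c ∈ R ∧ r = X a * Z b * c ∧ Cen X Z c

section

variable {t : ℕ} {X Z : Pt t → GL ι F}

theorem Frame.X_zero (fr : Frame R t X Z) : X 0 = 1 := by
  have h := fr.addX 0 0
  rw [add_zero] at h
  exact mul_eq_left.mp h.symm

theorem Frame.Z_zero (fr : Frame R t X Z) : Z 0 = 1 := by
  have h := fr.addZ 0 0
  rw [add_zero] at h
  exact mul_eq_left.mp h.symm

theorem Frame.X_sq (fr : Frame R t X Z) (a : Pt t) : X a * X a = 1 := by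
  rw [← fr.addX, pt_add_self, fr.X_zero]

theorem Frame.Z_sq (fr : Frame R t X Z) (a : Pt t) : Z a * Z a = 1 := by
  rw [← fr.addZ, pt_add_self, fr.Z_zero]

theorem Frame.inj [Nonempty ι] (fr : Frame R t X Z) (h2 : (2 : F) ≠ 0) {a b a' b' : Pt t} {c c' : GL ι F}
    (hc : Cen X Z c) (hc' : Cen X Z c') (h : X a * Z b * c = X a' * Z b' * c') : a = a' ∧ b = b' ∧ c = c' := by
  have hz : ∀ (a b : Pt t) (c : GL ι F), Cen X Z c → ∀ e : Pt t,
      Z e * (X a * Z b * c) = sg (ip e a) * (X a * Z b * c) * Z e := fun a b c hc e => by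
    rw [← mul_assoc, ← mul_assoc, fr.comm, mul_assoc, mul_assoc, mul_assoc, ← mul_assoc (Z e) (Z b), ← fr.addZ,
      add_comm e b, fr.addZ, mul_assoc, ← hc.2 e]
    simp only [mul_assoc]
  have hx : ∀ (a b : Pt t) (c : GL ι F), Cen X Z c → ∀ e : Pt t,
      (X a * Z b * c) * X e = sg (ip b e) * X e * (X a * Z b * c) := fun a b c hc e => by
    rw [mul_assoc, hc.1 e, ← mul_assoc, mul_assoc (X a), fr.comm, ← mul_assoc (X a), ← sg_comm,
      mul_assoc, mul_assoc]
    simp only [mul_assoc]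
    rw [← mul_assoc (X a) (X e), ← fr.addX, add_comm a e, fr.addX]
    simp only [mul_assoc]
  have ha : a = a' := funext fun i => by
    have h1 := hz a b c hc (pe i)
    have h3 := hz a' b' c' hc' (pe i)
    rw [← h, h1, ip_pe, ip_pe] at h3
    exact sg_inj h2 (mul_right_cancel (mul_right_cancel h3))
  have hb : b = b' := funext fun i => by
    have h1 := hx a b c hc (pe i)
    have h3 := hx a' b' c' hc' (pe i)
    rw [← h, h1] at h3
    have h4 := sg_inj h2 (mul_right_cancel (mul_right_cancel h3))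
    rw [show ip b (pe i) = b i from by rw [ip, dotProduct_comm]; exact ip_pe i b,
      show ip b' (pe i) = b' i from by rw [ip, dotProduct_comm]; exact ip_pe i b'] at h4
    exact h4
  subst ha hb
  exact ⟨rfl, rfl, mul_left_cancel h⟩

theorem Cen.one : Cen X Z (1 : GL ι F) := ⟨fun _ => by simp, fun _ => by simp⟩

theorem Cen.mul {c d : GL ι F} (hc : Cen X Z c) (hd : Cen X Z d) : Cen X Z (c * d) :=
  ⟨fun a => by rw [mul_assoc, hd.1, ← mul_assoc, hc.1, mul_assoc],
    fun a => by rw [mul_assoc, hd.2, ← mul_assoc, hc.2, mul_assoc]⟩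

theorem Cen.inv {c : GL ι F} (hc : Cen X Z c) : Cen X Z c⁻¹ :=
  ⟨fun a => ((show Commute c (X a) from hc.1 a).inv_left).eq,
    fun a => ((show Commute c (Z a) from hc.2 a).inv_left).eq⟩

theorem Cen.sign (c : ZMod 2) : Cen X Z (sg c : GL ι F) := ⟨fun _ => sg_comm c _, fun _ => sg_comm c _⟩

theorem Cen.pow {u : GL ι F} (hu : Cen X Z u) (c : ZMod 2) : Cen X Z (pw u c) := by
  rcases zm_cases c with rfl | rfl
  · simpa using Cen.one
  · simpa using hu

theorem pw_mem {u : GL ι F} (hu : u ∈ R) (c : ZMod 2) : pw u c ∈ R := by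
  rcases zm_cases c with rfl | rfl <;> simp [hu]

theorem comm_sign (S : SympTypeTwo.Setup R) {c u : GL ι F} (hc : c ∈ R) (hu : u ∈ R) :
    ∃ ε, c * u = sg ε * (u * c) := by
  rcases S.conj c hc u hu with e | e
  · exact ⟨0, by rw [sg_zero, one_mul, ← mul_inv_eq_iff_eq_mul, e]⟩
  · exact ⟨1, by rw [sg_one, neg_one_mul, ← neg_mul, ← mul_inv_eq_iff_eq_mul, e]⟩

/-- One more pair. -/
theorem Frame.extend (S : SympTypeTwo.Setup R) (fr : Frame R t X Z) {u v : GL ι F} (hu : u ∈ R) (hv : v ∈ R)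
    (cu : Cen X Z u) (cv : Cen X Z v) (huu : u * u = 1) (hvv : v * v = 1) (huv : v * u = -(u * v)) :
    ∃ X' Z' : Pt (t + 1) → GL ι F, Frame R (t + 1) X' Z' := by
  refine ⟨fun a => X (Fin.tail a) * pw u (a 0), fun b => Z (Fin.tail b) * pw v (b 0),
    fun a => mul_mem (fr.memX _) (pw_mem hu _), fun b => mul_mem (fr.memZ _) (pw_mem hv _),
    fun a b => ?_, fun a b => ?_, fun a b => ?_, fun r hr => ?_⟩
  · rw [show Fin.tail (a + b) = Fin.tail a + Fin.tail b from rfl, fr.addX, Pi.add_apply, pw_add huu,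
      mul_assoc, ← mul_assoc (X (Fin.tail b)), ← (cu.pow (a 0)).1]
    simp only [mul_assoc]
  · rw [show Fin.tail (a + b) = Fin.tail a + Fin.tail b from rfl, fr.addZ, Pi.add_apply, pw_add hvv,
      mul_assoc, ← mul_assoc (Z (Fin.tail b)), ← (cv.pow (a 0)).2]
    simp only [mul_assoc]
  · have hip : ip b a = ip (Fin.tail b) (Fin.tail a) + b 0 * a 0 := by
      rw [ip_eq_sum, ip_eq_sum, Fin.sum_univ_succ, add_comm]
      rfl
    calc Z (Fin.tail b) * pw v (b 0) * (X (Fin.tail a) * pw u (a 0))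
        = Z (Fin.tail b) * X (Fin.tail a) * (pw v (b 0) * pw u (a 0)) := by
          rw [mul_assoc, ← mul_assoc (pw v (b 0)), (cv.pow (b 0)).1]
          simp only [mul_assoc]
      _ = sg (ip (Fin.tail b) (Fin.tail a)) * (X (Fin.tail a) * Z (Fin.tail b) *
          (sg (b 0 * a 0) * (pw u (a 0) * pw v (b 0)))) := by
          rw [fr.comm, pw_comm huv, mul_assoc]
      _ = sg (ip b a) * (X (Fin.tail a) * (Z (Fin.tail b) * pw u (a 0)) * pw v (b 0)) := by
          rw [hip, sg_add]
          rcases zm_cases (b 0 * a 0) with e | e <;> rw [e] <;> simp [sg_one, mul_assoc]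
      _ = _ := by
          rw [← (cu.pow (a 0)).2]
          simp only [mul_assoc]
  · obtain ⟨a, b, c, hc, rfl, hcC⟩ := fr.corr r hr
    obtain ⟨β, hβ⟩ := comm_sign S hc hu
    obtain ⟨γ, hγ⟩ := comm_sign S hc hv
    set w := pw v β * pw u γ with hw
    have hwu : w * u = sg β * (u * w) := by
      rw [hw, mul_assoc, ← pw_commute (u := u) rfl γ, ← mul_assoc, show pw v β * u = sg β * (u * pw v β) from by
        simpa using pw_comm huv β 1]
      simp only [mul_assoc]
    have hwv : w * v = sg γ * (v * w) := by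
      have h1 : pw u γ * v = sg γ * (v * pw u γ) := by
        have h := pw_comm (u := v) (v := u) (by rw [huv, neg_neg]) γ 1
        simpa using h
      rw [hw, mul_assoc, h1, ← mul_assoc, ← sg_comm, mul_assoc, ← mul_assoc (pw v β) v,
        ← pw_commute (u := v) rfl β]
      simp only [mul_assoc]
    have hwC : Cen X Z w := (cv.pow _).mul (cu.pow _)
    have hinv : pw u γ * pw v β * w = 1 := by
      rw [hw, mul_assoc, ← mul_assoc (pw v β), ← pw_add hvv, CharTwo.add_self_eq_zero, pw_zero, one_mul,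
        ← pw_add huu, CharTwo.add_self_eq_zero, pw_zero]
    refine ⟨Fin.cons γ a, Fin.cons β b, w * c,
      mul_mem (mul_mem (pw_mem hv _) (pw_mem hu _)) hc, ?_, ?_⟩
    · simp only [Fin.tail_cons, Fin.cons_zero]
      calc X a * Z b * c = X a * Z b * (pw u γ * pw v β * w) * c := by rw [hinv, mul_one]
        _ = X a * (Z b * pw u γ) * pw v β * (w * c) := by simp only [mul_assoc]
        _ = _ := by rw [← (cu.pow γ).2]; simp only [mul_assoc]
    · have hu' : w * c * u = u * (w * c) := by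
        rw [mul_assoc, hβ, ← mul_assoc w, ← sg_comm, mul_assoc, ← mul_assoc w u, hwu, mul_assoc,
          ← mul_assoc (sg β) (sg β), sg_mul_self, one_mul, mul_assoc]
      have hv' : w * c * v = v * (w * c) := by
        rw [mul_assoc, hγ, ← mul_assoc w, ← sg_comm, mul_assoc, ← mul_assoc w v, hwv, mul_assoc,
          ← mul_assoc (sg γ) (sg γ), sg_mul_self, one_mul, mul_assoc]
      have hC := hwC.mul hcC
      exact ⟨fun a' => by rw [← mul_assoc, hC.1, mul_assoc, pw_commute hu' (a' 0), ← mul_assoc],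
        fun b' => by rw [← mul_assoc, hC.2, mul_assoc, pw_commute hv' (b' 0), ← mul_assoc]⟩

end

theorem frame_zero : Frame R 0 (fun _ => 1) (fun _ => 1) where
  memX _ := one_mem _
  memZ _ := one_mem _
  addX _ _ := (one_mul _).symm
  addZ _ _ := (one_mul _).symm
  comm a b := by simp [ip, dotProduct]
  corr r hr := ⟨0, 0, r, hr, by simp, ⟨fun _ => by simp, fun _ => by simp⟩⟩

/-- The structure of R of minus type. -/
theorem exists_quat [Nonempty ι] [Finite R] (S : SympTypeTwo.Setup R) (k : ℕ)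
    (hcard : Nat.card R = 2 ^ (1 + 2 * k)) (hZ : Nat.card (Subgroup.center R) = 2)
    (hminus : Cfsg.Geo.IsOfMinusType k R) :
    ∃ (t : ℕ) (X Z : Pt t → GL ι F) (u v : GL ι F), Frame R t X Z ∧ u ∈ R ∧ v ∈ R ∧ Cen X Z u ∧ Cen X Z v ∧
      u * u = -1 ∧ v * v = -1 ∧ v * u = -(u * v) ∧
      ∀ r ∈ R, ∃ a b c d e, r = X a * Z b * (sg c * pw u d * pw v e) := by
  classical
  haveI := Fintype.ofFinite R
  have hsgR : ∀ c : ZMod 2, (sg c : GL ι F) ∈ R := fun c => by
    rcases zm_cases c with rfl | rfl <;> simp [sg_one, S.neg]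
  -- scalar members are signs
  have hsc : ∀ r ∈ R, ∀ l : F, (r : Matrix ι ι F) = l • (1 : Matrix ι ι F) → r = 1 ∨ r = -1 := by
    intro r hr l hl
    have hc : ∀ x : R, x ∈ ({1, ⟨-1, S.neg⟩} : Finset R) → x ∈ Subgroup.center R := by
      intro x hx
      simp only [Finset.mem_insert, Finset.mem_singleton] at hx
      rcases hx with rfl | rfl
      · exact one_mem _
      · exact Subgroup.mem_center_iff.mpr fun y => Subtype.ext (by simp)
    have hcr : (⟨r, hr⟩ : R) ∈ Subgroup.center R := Subgroup.mem_center_iff.mpr fun y => Subtype.ext <| Units.ext (by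
      simp only [Subgroup.coe_mul, Units.val_mul, hl, smul_mul_assoc, one_mul, mul_smul_comm, mul_one])
    by_contra hne
    push Not at hne
    have hsub : ({1, ⟨-1, S.neg⟩, ⟨r, hr⟩} : Finset R) ⊆ (Subgroup.center R : Set R).toFinset := by
      intro x hx
      rw [Set.mem_toFinset]
      simp only [Finset.mem_insert, Finset.mem_singleton] at hx
      rcases hx with rfl | rfl | rfl
      · exact hc _ (by simp)
      · exact hc _ (by simp)
      · exact hcr
    have h3 := Finset.card_le_card hsub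
    rw [Finset.card_insert_of_notMem, Finset.card_insert_of_notMem, Finset.card_singleton, Set.toFinset_card,
      ← Nat.card_eq_fintype_card] at h3
    · exact absurd (h3.trans_eq hZ) (by omega)
    · simp only [Finset.mem_singleton, Subtype.mk.injEq]
      exact fun e => hne.2 e.symm
    · simp only [Finset.mem_insert, Finset.mem_singleton, Subtype.ext_iff, Subgroup.coe_one, not_or]
      exact ⟨fun e => neg_one_ne_one S.h2 e.symm, fun e => hne.1 e.symm⟩
  -- a maximal frame
  obtain ⟨t, X, Z, fr, hmax⟩ : ∃ (t : ℕ) (X Z : Pt t → GL ι F), Frame R t X Z ∧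
      ∀ X' Z' : Pt (t + 1) → GL ι F, ¬ Frame R (t + 1) X' Z' := by
    by_contra hno
    push Not at hno
    have hall : ∀ t, ∃ X Z : Pt t → GL ι F, Frame R t X Z := by
      intro t
      induction t with
      | zero => exact ⟨_, _, frame_zero⟩
      | succ t ih =>
        obtain ⟨X, Z, fr⟩ := ih
        exact hno t X Z fr
    obtain ⟨X, Z, fr⟩ := hall (Nat.card R)
    have hinj : Function.Injective fun a : Pt (Nat.card R) => (⟨X a, fr.memX a⟩ : R) := fun a a' h =>
      (fr.inj S.h2 (b := 0) (b' := 0) Cen.one Cen.one (by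
        simpa [fr.Z_zero] using Subtype.ext_iff.mp h)).1
    have h1 := Nat.card_le_card_of_injective _ hinj
    have h3 : Nat.card (Pt (Nat.card R)) = 2 ^ Nat.card R := by
      rw [Nat.card_fun, Nat.card_zmod, Nat.card_eq_fintype_card, Fintype.card_fin]
    rw [h3] at h1
    exact absurd h1 (not_le.mpr Nat.lt_two_pow_self)
  have hnosc : ∀ c ∈ R, c ≠ 1 → c ≠ -1 → ∀ l : F, (c : Matrix ι ι F) ≠ l • (1 : Matrix ι ι F) :=
    fun c hc h1 h1' l hl => (hsc c hc l hl).elim h1 h1'
  have hpartner : ∀ c ∈ R, Cen X Z c → c ≠ 1 → c ≠ -1 → ∃ v ∈ R, Cen X Z v ∧ v * c = -(c * v) := by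
    intro c hc hcC h1 h1'
    obtain ⟨v, hv, hvc⟩ := S.partner hc (hnosc c hc h1 h1')
    obtain ⟨a, b, v', hv', rfl, hC⟩ := fr.corr v hv
    refine ⟨v', hv', hC, mul_left_cancel (a := X a * Z b) ?_⟩
    have h := mul_inv_eq_iff_eq_mul.mp hvc
    rw [← mul_assoc, h, neg_mul, mul_neg, ← mul_assoc (X a * Z b) c v', ← mul_assoc c (X a * Z b) v']
    congr 2
    rw [← mul_assoc, hcC.1, mul_assoc, hcC.2, ← mul_assoc]
  -- no involution commutes with the frame
  have hinv : ∀ c ∈ R, Cen X Z c → c * c = 1 → c = 1 ∨ c = -1 := by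
    intro c hc hcC hcc
    by_contra hne
    push Not at hne
    obtain ⟨v, hv, hvC, hvc⟩ := hpartner c hc hcC hne.1 hne.2
    rcases S.sq v hv with e | e
    · obtain ⟨X', Z', h'⟩ := fr.extend S hc hv hcC hvC hcc e hvc
      exact hmax X' Z' h'
    · obtain ⟨X', Z', h'⟩ := fr.extend S hc (mul_mem hc hv) hcC (hcC.mul hvC) hcc (by
        rw [mul_assoc, ← mul_assoc v c v, hvc, neg_mul, mul_neg, mul_assoc c v v, e, mul_neg, mul_one, mul_neg,
          neg_neg, hcc]) (by rw [mul_assoc, hvc, mul_neg, ← mul_assoc])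
      exact hmax X' Z' h'
  by_cases hall : ∀ c ∈ R, Cen X Z c → c = 1 ∨ c = -1
  · -- then R would be of plus type
    exfalso
    have hbij : Function.Bijective fun p : ZMod 2 × Pt t × Pt t =>
        (⟨X p.2.1 * Z p.2.2 * sg p.1, mul_mem (mul_mem (fr.memX _) (fr.memZ _)) (hsgR _)⟩ : R) := by
      refine ⟨fun p p' h => ?_, fun r => ?_⟩
      · obtain ⟨h1, h3, h4⟩ := fr.inj S.h2 (Cen.sign _) (Cen.sign _) (Subtype.ext_iff.mp h)
        exact Prod.ext (sg_inj S.h2 h4) (Prod.ext h1 h3)
      · obtain ⟨a, b, c, hc, he, hC⟩ := fr.corr r r.2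
        rcases hall c hc hC with rfl | rfl
        · exact ⟨(0, a, b), Subtype.ext (by simp [he])⟩
        · exact ⟨(1, a, b), Subtype.ext (by simp [he, sg_one])⟩
    have h1 := Nat.card_congr (Equiv.ofBijective _ hbij)
    have h3 : Nat.card (Pt t) = 2 ^ t := by
      rw [Nat.card_fun, Nat.card_zmod, Nat.card_eq_fintype_card, Fintype.card_fin]
    rw [Nat.card_prod, Nat.card_prod, h3, Nat.card_zmod, hcard, ← pow_add, ← pow_succ'] at h1
    have htk : t = k := by
      have := Nat.pow_right_injective le_rfl h1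
      omega
    let A : Subgroup R :=
      { carrier := {x | ∃ c b, (x : GL ι F) = sg c * Z b}
        mul_mem' := by
          rintro x y ⟨c, b, hx⟩ ⟨c', b', hy⟩
          refine ⟨c + c', b + b', ?_⟩
          rw [Subgroup.coe_mul, hx, hy, sg_add, fr.addZ, mul_assoc, ← mul_assoc (Z b), ← sg_comm]
          simp only [mul_assoc]
        one_mem' := ⟨0, 0, by simp [fr.Z_zero]⟩
        inv_mem' := by
          rintro x ⟨c, b, hx⟩
          refine ⟨c, b, ?_⟩
          rw [Subgroup.coe_inv, hx]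
          exact inv_eq_of_mul_eq_one_right (by
            rw [mul_assoc, ← mul_assoc (Z b), ← sg_comm, mul_assoc, fr.Z_sq, mul_one, sg_mul_self]) }
    have hAb : Function.Bijective fun p : ZMod 2 × Pt t =>
        (⟨⟨sg p.1 * Z p.2, mul_mem (hsgR _) (fr.memZ _)⟩, p.1, p.2, rfl⟩ : A) := by
      refine ⟨fun p p' h => ?_, fun x => ?_⟩
      · have h' : sg p.1 * Z p.2 = sg p'.1 * Z p'.2 := congrArg (fun x : A => ((x : R) : GL ι F)) h
        rw [sg_comm, sg_comm] at h'
        obtain ⟨-, e1, e2⟩ := fr.inj S.h2 (a := 0) (a' := 0) (b := p.2) (b' := p'.2) (Cen.sign p.1) (Cen.sign p'.1) (by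
          rw [fr.X_zero, one_mul, one_mul, h'])
        exact Prod.ext (sg_inj S.h2 e2) e1
      · obtain ⟨c, b, hx⟩ := x.2
        exact ⟨(c, b), Subtype.ext (Subtype.ext hx.symm)⟩
    have hA := Nat.card_congr (Equiv.ofBijective _ hAb)
    rw [Nat.card_prod, h3, Nat.card_zmod, ← pow_succ', htk] at hA
    have hcomm : IsMulCommutative A := ⟨⟨fun x y => by
      obtain ⟨c, b, hx⟩ := x.2
      obtain ⟨c', b', hy⟩ := y.2
      refine Subtype.ext (Subtype.ext ?_)
      simp only [Subgroup.coe_mul, hx, hy]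
      rw [mul_assoc, ← mul_assoc (Z b), ← sg_comm, mul_assoc, ← fr.addZ, mul_assoc, ← mul_assoc (Z b'),
        ← sg_comm, mul_assoc, ← fr.addZ, add_comm b' b, ← mul_assoc, ← mul_assoc, ← sg_add, ← sg_add, add_comm c' c]⟩⟩
    have := hminus A hcomm fun x hx => by
      obtain ⟨c, b, hxe⟩ := hx
      refine Subtype.ext ?_
      rw [Subgroup.coe_mul, hxe, Subgroup.coe_one, mul_assoc, ← mul_assoc (Z b), ← sg_comm, mul_assoc,
        fr.Z_sq, mul_one, sg_mul_self]
    omega
  push Not at hall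
  obtain ⟨u, hu, huC, hu1, hu1'⟩ := hall
  have hsq : ∀ c ∈ R, Cen X Z c → c ≠ 1 → c ≠ -1 → c * c = -1 := fun c hc hC h1 h1' =>
    (S.sq c hc).resolve_left fun e => (hinv c hc hC e).elim h1 h1'
  have huu := hsq u hu huC hu1 hu1'
  obtain ⟨v, hv, hvC, hvu⟩ := hpartner u hu huC hu1 hu1'
  have hncomm : ∀ x : GL ι F, x * u = u * x → x * u ≠ -(u * x) := fun x h e => by
    rw [h] at e
    have : (-1 : GL ι F) = 1 := mul_right_cancel (b := u * x) (by rw [neg_one_mul, one_mul, ← e])
    exact neg_one_ne_one S.h2 this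
  have hv1 : v ≠ 1 := fun e => hncomm v (by simp [e]) hvu
  have hv1' : v ≠ -1 := fun e => hncomm v (by simp [e]) hvu
  have hvv := hsq v hv hvC hv1 hv1'
  refine ⟨t, X, Z, u, v, fr, hu, hv, huC, hvC, huu, hvv, hvu, fun r hr => ?_⟩
  obtain ⟨a, b, c, hc, rfl, hC⟩ := fr.corr r hr
  obtain ⟨β, hβ⟩ := comm_sign S hc hu
  obtain ⟨γ, hγ⟩ := comm_sign S hc hv
  set w := pw v β * pw u γ with hw
  have hwu : w * u = sg β * (u * w) := by
    rw [hw, mul_assoc, ← pw_commute (u := u) rfl γ, ← mul_assoc, show pw v β * u = sg β * (u * pw v β) from by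
      simpa using pw_comm hvu β 1]
    simp only [mul_assoc]
  have hwv : w * v = sg γ * (v * w) := by
    have h1 : pw u γ * v = sg γ * (v * pw u γ) := by
      simpa using pw_comm (u := v) (v := u) (by rw [hvu, neg_neg]) γ 1
    rw [hw, mul_assoc, h1, ← mul_assoc, ← sg_comm, mul_assoc, ← mul_assoc (pw v β) v, ← pw_commute (u := v) rfl β]
    simp only [mul_assoc]
  have hu' : w * c * u = u * (w * c) := by
    rw [mul_assoc, hβ, ← mul_assoc w, ← sg_comm, mul_assoc, ← mul_assoc w u, hwu, mul_assoc,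
      ← mul_assoc (sg β) (sg β), sg_mul_self, one_mul, mul_assoc]
  have hv' : w * c * v = v * (w * c) := by
    rw [mul_assoc, hγ, ← mul_assoc w, ← sg_comm, mul_assoc, ← mul_assoc w v, hwv, mul_assoc,
      ← mul_assoc (sg γ) (sg γ), sg_mul_self, one_mul, mul_assoc]
  have hwcR : w * c ∈ R := mul_mem (mul_mem (pw_mem hv _) (pw_mem hu _)) hc
  have hwcC : Cen X Z (w * c) := ((hvC.pow _).mul (huC.pow _)).mul hC
  have hsign : ∃ s, w * c = sg s := by
    set x := w * c with hx
    by_cases h1 : x = 1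
    · exact ⟨0, by rw [h1, sg_zero]⟩
    by_cases h1' : x = -1
    · exact ⟨1, by rw [h1', sg_one]⟩
    exfalso
    have hxx := hsq x hwcR hwcC h1 h1'
    have hxu : x * u = 1 ∨ x * u = -1 := hinv _ (mul_mem hwcR hu) (hwcC.mul huC) (by
      rw [mul_assoc x u (x * u), ← mul_assoc u x u, ← hu', mul_assoc x u u, huu, mul_neg, mul_one, mul_neg,
        hxx, neg_neg])
    refine hncomm v ?_ hvu
    rcases hxu with e | e
    · have hxe : x = u⁻¹ := eq_inv_of_mul_eq_one_left e
      rw [hxe] at hv'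
      exact ((show Commute u⁻¹ v from hv').inv_left.eq |> fun h => by simpa using h.symm)
    · have hxe : -x = u⁻¹ := eq_inv_of_mul_eq_one_left (by rw [neg_mul, e, neg_neg])
      have h : u⁻¹ * v = v * u⁻¹ := by rw [← hxe, neg_mul, mul_neg, hv']
      exact ((show Commute u⁻¹ v from h).inv_left.eq |> fun h => by simpa using h.symm)
  obtain ⟨s, hs⟩ := hsign
  obtain ⟨d, e, σ, hσ⟩ : ∃ d e σ, w⁻¹ = sg σ * (pw u d * pw v e) := by
    refine ⟨γ, β, γ + β, inv_eq_of_mul_eq_one_right ?_⟩
    rw [hw, ← mul_assoc, mul_assoc _ (pw u γ), ← sg_comm, ← mul_assoc (pw v β), ← sg_comm]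
    rcases zm_cases γ with rfl | rfl <;> rcases zm_cases β with rfl | rfl <;>
      simp [sg_one, show (1 : ZMod 2) + 1 = 0 by decide, mul_assoc, huu, hvv,
        show ∀ g : GL ι F, u * (u * g) = -g from fun g => by rw [← mul_assoc, huu, neg_one_mul],
        show ∀ g : GL ι F, v * (v * g) = -g from fun g => by rw [← mul_assoc, hvv, neg_one_mul]]
  refine ⟨a, b, σ + s, d, e, ?_⟩
  rw [show c = w⁻¹ * (w * c) by group, hs, hσ, sg_add, ← sg_comm s, ← mul_assoc (sg s) (sg σ),
    sg_comm s (sg σ)]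
  simp only [mul_assoc]

end Cfsg.Agent.C6Minus10
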