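import Cfsg.Agent.Lib.C6Minus10Defs

/-!
The generators of the normaliser of the extraspecial group of minus type: they are isometries and normalise it.
-/

set_option autoImplicit false
set_option linter.unusedSectionVars false

namespace Cfsg.Agent.C6Minus10

open Matrix Cfsg.Agent.C6Plus10
open scoped MatrixGroups

variable {F : Type*} [Field F] {j : ℕ}

/-! ### Affine functions and translations -/

theorem aff_form {g : Pt j → ZMod 2} (hg : Aff g) : ∃ b : Pt j, g = fun x => g 0 + ip b x := by
  refine ⟨fun i => dl (pe i) g 0, funext fun x => ?_⟩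
  have hconst : ∀ i y, dl (pe i) g y = dl (pe i) g 0 := fun i y =>
    const_of_dl (s := dl (pe i) g) (fun l z => hg (pe l) (pe i) z) y
  have h := const_of_dl (s := fun y => g y + ip (fun i => dl (pe i) g 0) y) (fun i y => by
    have h1 := hconst i y
    simp only [dl_apply] at h1 ⊢
    rw [ip_add_right]
    rw [show ip (fun i => g (0 + pe i) + g 0) (pe i) = g (0 + pe i) + g 0 from by simp [ip, pe]]
    grind) x
  simp only [ip, dotProduct_zero, add_zero] at h
  simp only [ip]
  grind

theorem mon_add_aff {g : Pt j → ZMod 2} (hg : Aff g) (a : Pt j) :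
    ∃ b, mon F (Equiv.addRight a) g = sd F (fun _ => g 0) * pau F a b := by
  obtain ⟨b, hb⟩ := aff_form hg
  refine ⟨b, ?_⟩
  conv_lhs => rw [hb]
  rw [sd_const_mul, pau_eq, mon, mon, mul_assoc, sd_mul]
  congr 2
  funext x
  simp [add_comm]

theorem nr_plus_sd {f : Pt j → ZMod 2} (hf : Quad f) : C6Plus10.Nr (sd F f) := by
  intro a b
  have hg : Aff fun y => f (y + a) + f y + ip b y := (Aff.add (fun c d x => hf c d a x) (aff_ip b))
  obtain ⟨b', hb'⟩ := mon_add_aff (F := F) hg a
  refine ⟨a, b', _, Eq.trans ?_ hb'⟩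
  rw [pau_eq, sd_inv, ← mon_one_left, mon_mul, mon_mul]
  congr 1
  funext y
  simp only [Equiv.Perm.one_apply, Equiv.coe_addRight]
  grind

theorem aff_comp_affPerm {g : Pt j → ZMod 2} (hg : Aff g) {π : Equiv.Perm (Pt j)} (hπ : AffPerm π) :
    Aff fun y => g (π y) := by
  intro a b x
  have h := hg (π a + π 0) (π b + π 0) (π x)
  simp only [dl_apply] at h ⊢
  have e : ∀ y c, π (y + c) = π y + (π c + π 0) := fun y c => by
    rw [← add_assoc, ← hπ y c 0, add_zero]
  rwa [e (x + a) b, e x b, e x a]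

theorem affPerm_symm {π : Equiv.Perm (Pt j)} (hπ : AffPerm π) : AffPerm π⁻¹ := by
  intro x y z
  apply π.injective
  simp only [Equiv.Perm.coe_inv, Equiv.apply_symm_apply]
  rw [hπ]
  simp only [Equiv.apply_symm_apply]

theorem nr_plus_pm {π : Equiv.Perm (Pt j)} (hπ : AffPerm π) : C6Plus10.Nr (pm F π) := by
  intro a b
  obtain ⟨b', hb'⟩ := mon_add_aff (F := F) (aff_comp_affPerm (aff_ip b) (affPerm_symm hπ)) (π a + π 0)
  refine ⟨π a + π 0, b', _, Eq.trans ?_ hb'⟩
  rw [pau_eq, pm_inv, ← mon_zero, ← mon_zero, mon_mul, mon_mul]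
  congr 1
  · ext1 y
    simp only [Equiv.Perm.mul_apply, Equiv.coe_addRight]
    have h := hπ (π⁻¹ y) a 0
    rw [add_zero] at h
    rw [h]
    simp [add_assoc]
  · funext y
    simp [Equiv.Perm.coe_inv]

/-! ### Hadamard matrices -/

/-- Twice the Hadamard matrix at one position. -/
noncomputable def had (F : Type*) [Field F] (a : Fin j) : Matrix (Pt j) (Pt j) F :=
  (pau F (pe a) 0).val + (pau F 0 (pe a)).val

theorem had_apply (a : Fin j) (x y : Pt j) :
    had F a x y = if ∀ i, i ≠ a → x i = y i then sgn F (x a * y a) else 0 := by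
  have h1 : ∀ c d : Pt j, (pau F c d).val x y = if x = y + c then sgn F (ip d y) else 0 := fun c d => by
    rw [pau_eq, mon_apply]
    simp [Equiv.coe_addRight]
    try congr
  rw [had, Matrix.add_apply, h1, h1, add_zero, ip_pe, ip_zero_left, sgn_zero]
  by_cases h : ∀ i, i ≠ a → x i = y i
  · rw [if_pos h]
    by_cases hxy : x a = y a
    · have e : x = y := funext fun i => if hi : i = a then hi ▸ hxy else h i hi
      subst e
      have hne : ¬ x = x + pe a := fun e => by simpa using congrFun e a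
      rw [if_neg hne, if_pos rfl, zero_add]
      congr 1
      rcases zm_cases (x a) with e | e <;> rw [e] <;> simp
    · have e : x = y + pe a := funext fun i => by
        by_cases hi : i = a
        · subst hi
          simp only [Pi.add_apply, pe_self]
          rcases zm_cases (x i) with e | e <;> rcases zm_cases (y i) with e' | e' <;> simp_all <;> decide
        · simp [pe_ne hi, h i hi]
      have hne : ¬ x = y := fun e' => hxy (by rw [e'])
      rw [if_pos e, if_neg hne, add_zero, ← sgn_zero (F := F)]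
      congr 1
      rcases zm_cases (x a) with ea | ea <;> rcases zm_cases (y a) with eb | eb <;> simp_all
  · rw [if_neg h, if_neg (fun e => h fun i hi => by simp [e, pe_ne hi]),
      if_neg (fun e => h fun i _ => by rw [e]), add_zero]

theorem had_transpose (a : Fin j) : (had F a)ᵀ = had F a := by
  ext x y
  rw [Matrix.transpose_apply, had_apply, had_apply, mul_comm (y a)]
  exact if_congr ⟨fun h i hi => (h i hi).symm, fun h i hi => (h i hi).symm⟩ rfl rfl

theorem had_sq (a : Fin j) : had F a * had F a = (2 : F) • 1 := by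
  have h1 : ∀ c d c' d' : Pt j, (pau F c d).val * (pau F c' d').val =
      sgn F (ip d c') • (pau F (c + c') (d + d')).val := fun c d c' d' => by
    rw [← Units.val_mul, pau_mul, Units.val_mul]
    ext x y
    show (Matrix.diagonal _ * _ : Matrix (Pt j) (Pt j) F) x y = _
    rw [Matrix.diagonal_mul, Matrix.smul_apply, smul_eq_mul]
  rw [had, add_mul, mul_add, mul_add, h1, h1, h1, h1]
  simp only [pt_add_self, ip_zero_left, add_zero, zero_add, sgn_zero, one_smul, ip_pe, pe_self, sgn_one,
    pau_zero, Units.val_one, show ip (pe a) (0 : Pt j) = 0 from dotProduct_zero _]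
  module

theorem hh_eq {a b : Fin j} (hab : a ≠ b) : hh F a b = (2 : F)⁻¹ • (had F a * had F b) := by
  ext x y
  rw [Matrix.smul_apply, Matrix.mul_apply, smul_eq_mul,
    Finset.sum_eq_single (Function.update x a (y a))]
  · have hx : ∀ i, i ≠ a → x i = Function.update x a (y a) i := fun i hi => by simp [hi]
    rw [had_apply, had_apply, if_pos hx, hh, Matrix.of_apply]
    by_cases h : ∀ i, i ≠ a → i ≠ b → x i = y i
    · have hy : ∀ i, i ≠ b → Function.update x a (y a) i = y i := fun i hi => by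
        by_cases hia : i = a
        · subst hia; simp
        · simp [hia, h i hia hi]
      rw [if_pos h, if_pos hy]
      simp only [Function.update_self, Function.update_of_ne (Ne.symm hab)]
      rw [sgn_add]
    · rw [if_neg h, if_neg fun h' => h fun i hia hib => by simpa [hia] using h' i hib, mul_zero, mul_zero]
  · intro z _ hz
    rw [had_apply, had_apply]
    split_ifs with h1 h2
    · exfalso
      apply hz
      funext i
      by_cases hia : i = a
      · subst hia; simp [h2 i hab]
      · simp [hia, h1 i hia]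
    all_goals simp
  · simp

theorem had_conj (a : Fin j) (c d : Pt j) :
    had F a * (pau F c d).val = sgn F (c a * d a) •
      ((pau F (Function.update c a (d a)) (Function.update d a (c a))).val * had F a) := by
  ext x y
  have hne : ∀ z, z ≠ y + c → (pau F c d).val z y = 0 := fun z hz => by
    rw [pau_eq, mon_apply, if_neg]
    simpa [Equiv.coe_addRight] using hz
  set c' := Function.update c a (d a) with hc'
  set d' := Function.update d a (c a) with hd'
  have hne' : ∀ z, z ≠ x + c' → (pau F c' d').val x z = 0 := fun z hz => by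
    rw [pau_eq, mon_apply, if_neg]
    simp only [Equiv.coe_addRight]
    exact fun e => hz (by rw [e, pt_add_cancel])
  rw [Matrix.smul_apply, Matrix.mul_apply, Matrix.mul_apply, smul_eq_mul,
    Finset.sum_eq_single (y + c) (fun z _ hz => by rw [hne z hz, mul_zero]) (by simp),
    Finset.sum_eq_single (x + c') (fun z _ hz => by rw [hne' z hz, zero_mul]) (by simp)]
  rw [pau_eq, pau_eq, mon_apply, mon_apply, had_apply, had_apply]
  simp only [Equiv.coe_addRight, pt_add_cancel, if_true]
  have hcond : (∀ i, i ≠ a → x i = (y + c) i) ↔ ∀ i, i ≠ a → (x + c') i = y i := by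
    refine forall_congr' fun i => imp_congr_right fun hi => ?_
    simp only [Pi.add_apply, hc', Function.update_of_ne hi]
    constructor <;> intro e
    · rw [e, add_assoc, CharTwo.add_self_eq_zero, add_zero]
    · rw [← e, add_assoc, CharTwo.add_self_eq_zero, add_zero]
  by_cases h : ∀ i, i ≠ a → x i = (y + c) i
  · have h' := hcond.mp h
    rw [if_pos h, if_pos h', ← sgn_add, ← sgn_add, ← sgn_add]
    congr 1
    have es : ∀ d z : Pt j, ip d z = d a * z a + ∑ i ∈ Finset.univ.erase a, d i * z i := fun d z => by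
      rw [ip_eq_sum, ← Finset.add_sum_erase Finset.univ _ (Finset.mem_univ a)]
    rw [es d y, es d' (x + c')]
    have e3 : ∑ i ∈ Finset.univ.erase a, d' i * (x + c') i = ∑ i ∈ Finset.univ.erase a, d i * y i :=
      Finset.sum_congr rfl fun i hi => by
        have hia := (Finset.mem_erase.mp hi).1
        rw [h' i hia, hd', Function.update_of_ne hia]
    rw [e3]
    simp only [Pi.add_apply, hc', hd', Function.update_self]
    grind
  · rw [if_neg h, if_neg (fun e => h (hcond.mpr e))]
    simp

/-- The Hadamard matrix at one position, halved, as a unit. -/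
noncomputable def hadU (h2 : (2 : F) ≠ 0) (a : Fin j) : GL (Pt j) F where
  val := (2 : F)⁻¹ • had F a
  inv := had F a
  val_inv := by rw [smul_mul_assoc, had_sq, smul_smul, inv_mul_cancel₀ h2, one_smul]
  inv_val := by rw [mul_smul_comm, had_sq, smul_smul, inv_mul_cancel₀ h2, one_smul]

theorem sd_const_val (c : ZMod 2) (g : GL (Pt j) F) : (sd F (fun _ => c) * g).val = sgn F c • g.val := by
  ext x y
  show (Matrix.diagonal _ * _ : Matrix (Pt j) (Pt j) F) x y = _
  rw [Matrix.diagonal_mul, Matrix.smul_apply, smul_eq_mul]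

theorem nr_plus_hadU (h2 : (2 : F) ≠ 0) (a : Fin j) : C6Plus10.Nr (hadU (F := F) h2 a) := by
  intro c d
  refine ⟨Function.update c a (d a), Function.update d a (c a), c a * d a, mul_inv_eq_iff_eq_mul.mpr ?_⟩
  rw [mul_assoc]
  refine Units.ext ?_
  rw [sd_const_val, Units.val_mul, Units.val_mul]
  show (2 : F)⁻¹ • had F a * _ = _ • (_ * (2 : F)⁻¹ • had F a)
  rw [smul_mul_assoc, mul_smul_comm, had_conj, smul_comm]

theorem nr_plus_mul {g h : GL (Pt j) F} (hg : C6Plus10.Nr g) (hh' : C6Plus10.Nr h) : C6Plus10.Nr (g * h) := by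
  intro a b
  obtain ⟨a', b', c, e⟩ := hh' a b
  obtain ⟨a'', b'', c', e'⟩ := hg a' b'
  refine ⟨a'', b'', c + c', ?_⟩
  calc g * h * pau F a b * (g * h)⁻¹ = g * (h * pau F a b * h⁻¹) * g⁻¹ := by group
    _ = g * sd F (fun _ => c) * pau F a' b' * g⁻¹ := by rw [e]; group
    _ = sd F (fun _ => c) * (g * pau F a' b' * g⁻¹) := by rw [← sd_const_mul]; group
    _ = _ := by rw [e', ← mul_assoc, sd_mul]; rfl

/-- The product of two Hadamard matrices, as a unit. -/
noncomputable def hhU (h2 : (2 : F) ≠ 0) {a b : Fin j} (hab : a ≠ b) : GL (Pt j) F where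
  val := hh F a b
  inv := hh F b a
  val_inv := by
    rw [hh_eq hab, hh_eq hab.symm, smul_mul_smul_comm,
      show had F a * had F b * (had F b * had F a) = had F a * (had F b * had F b) * had F a by
        simp only [mul_assoc],
      had_sq, mul_smul_comm, mul_one, smul_mul_assoc, had_sq, smul_smul, smul_smul]
    field_simp
    simp
  inv_val := by
    rw [hh_eq hab, hh_eq hab.symm, smul_mul_smul_comm,
      show had F b * had F a * (had F a * had F b) = had F b * (had F a * had F a) * had F b by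
        simp only [mul_assoc],
      had_sq, mul_smul_comm, mul_one, smul_mul_assoc, had_sq, smul_smul, smul_smul]
    field_simp
    simp

theorem nr_plus_hhU (h2 : (2 : F) ≠ 0) {a b : Fin j} (hab : a ≠ b) : C6Plus10.Nr (hhU (F := F) h2 hab) := by
  intro c d
  obtain ⟨c', d', s, e⟩ := nr_plus_mul (nr_plus_hadU (F := F) h2 a) (nr_plus_hadU (F := F) h2 b) c d
  refine ⟨c', d', s, mul_inv_eq_iff_eq_mul.mpr ?_⟩
  have e' := congrArg Units.val (mul_inv_eq_iff_eq_mul.mp e)
  have hv : (hadU h2 a * hadU h2 b : GL (Pt j) F).val = (2 : F)⁻¹ • hh F a b := by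
    show ((2 : F)⁻¹ • had F a) * ((2 : F)⁻¹ • had F b) = _
    rw [hh_eq hab, smul_mul_smul_comm, smul_smul]
  refine Units.ext (smul_right_injective _ (inv_ne_zero h2) ?_)
  simp only [Units.val_mul] at e' hv ⊢
  rw [hv, smul_mul_assoc, mul_smul_comm] at e'
  exact e'

/-! ### Isometries -/

theorem sform_scale {G : Matrix (Pt j) (Pt j) F} {c : F} (hG : Gᵀ * G = c • 1) (u v : Ix j → F) :
    sform (upM G *ᵥ u) (upM G *ᵥ v) = c * sform u v := by
  have h : ∀ x y : Pt j → F, ∑ z, (G *ᵥ x) z * (G *ᵥ y) z = c * ∑ z, x z * y z := fun x y => by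
    show (G *ᵥ x) ⬝ᵥ (G *ᵥ y) = c * (x ⬝ᵥ y)
    rw [Matrix.dotProduct_mulVec, ← Matrix.mulVec_transpose, Matrix.mulVec_mulVec, hG, Matrix.smul_mulVec,
      Matrix.one_mulVec, smul_dotProduct, smul_eq_mul]
  simp only [sform, upM_mulVec, Finset.sum_sub_distrib, h]
  rw [← mul_sub]

theorem up_mem_spM {g : GL (Pt j) F} (hg : g.valᵀ * g.val = 1) : up g ∈ spM j F := fun u v => by
  rw [up_val, sform_scale (c := 1) (by rw [hg, one_smul]), one_mul]

theorem sform_blk (N : Pt j → Matrix (Fin 2) (Fin 2) F) {c : F} (hN : ∀ x, (N x).det = c) (u v : Ix j → F) :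
    sform (blkM N *ᵥ u) (blkM N *ᵥ v) = c * sform u v := by
  rw [sform, sform, Finset.mul_sum]
  refine Finset.sum_congr rfl fun x _ => ?_
  rw [blkM_mulVec, blkM_mulVec, blkM_mulVec, blkM_mulVec, ← hN x, Matrix.det_fin_two]
  simp only [Matrix.mulVec, dotProduct, Fin.sum_univ_two]
  ring

theorem blk_mem_spM {N : Pt j → GL (Fin 2) F} (hN : ∀ x, (N x).val.det = 1) : blk N ∈ spM j F := fun u v => by
  rw [blk_val, sform_blk _ hN, one_mul]

theorem sd_orth (f : Pt j → ZMod 2) : (sd F f).valᵀ * (sd F f).val = 1 := by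
  show (Matrix.diagonal _)ᵀ * Matrix.diagonal _ = _
  rw [Matrix.diagonal_transpose, Matrix.diagonal_mul_diagonal]
  simp

theorem pm_orth (π : Equiv.Perm (Pt j)) : (pm F π).valᵀ * (pm F π).val = 1 := by
  have : (pm F π).valᵀ = (pm F π)⁻¹.val := by
    ext x y
    rw [Matrix.transpose_apply, pm_inv, pm_apply, pm_apply]
    exact if_congr ⟨fun h => by simp [h], fun h => by simp [h]⟩ rfl rfl
  rw [this]
  exact Units.inv_mul _

theorem hhU_orth (h2 : (2 : F) ≠ 0) {a b : Fin j} (hab : a ≠ b) :
    (hhU (F := F) h2 hab).valᵀ * (hhU (F := F) h2 hab).val = 1 := by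
  have : (hhU (F := F) h2 hab).valᵀ = (hhU (F := F) h2 hab)⁻¹.val := by
    show (hh F a b)ᵀ = hh F b a
    rw [hh_eq hab, hh_eq hab.symm, Matrix.transpose_smul, Matrix.transpose_mul, had_transpose, had_transpose]
  rw [this]
  exact Units.inv_mul _

/-! ### Normalising -/

variable (p : Par F)

theorem nr_up {g : GL (Pt j) F} (hg : C6Plus10.Nr g) : Nr p (up g) := by
  rintro _ ⟨a, b, q, hq, rfl⟩
  obtain ⟨a', b', c, e⟩ := hg a b
  refine ⟨a', b', sg c * q, mul_mem (sg_mem p c) hq, ?_⟩
  rw [el, el, map_mul cst, ← up_sd_const]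
  calc up g * (up (pau F a b) * cst q) * (up g)⁻¹ = up g * up (pau F a b) * (cst q * up g⁻¹) := by
        rw [map_inv]; group
    _ = up g * up (pau F a b) * (up g⁻¹ * cst q) := by rw [up_comm_cst]
    _ = up (sd F (fun _ => c) * pau F a' b') * cst q := by
        rw [← e, map_mul, map_mul]; group
    _ = _ := by rw [sd_const_mul, map_mul, mul_assoc]

theorem nr_cst {w : GL (Fin 2) F} (hw : ∀ q ∈ Q8 p, w * q * w⁻¹ ∈ Q8 p) : Nr (j := j) p (cst w) := by
  rintro _ ⟨a, b, q, hq, rfl⟩
  refine ⟨a, b, w * q * w⁻¹, hw q hq, ?_⟩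
  rw [el, el, ← mul_assoc, ← up_comm_cst, map_mul, map_mul, map_inv]
  group

theorem nr_mul {g h : GL (Ix j) F} (hg : Nr p g) (hh' : Nr p h) : Nr p (g * h) := fun r hr => by
  have := hg _ (hh' r hr)
  rwa [show g * h * r * (g * h)⁻¹ = g * (h * r * h⁻¹) * g⁻¹ by group]

theorem blk_pm (N : Pt j → GL (Fin 2) F) (π : Equiv.Perm (Pt j)) :
    blk N * up (pm F π) = up (pm F π) * blk fun y => N (π y) := by
  refine Units.ext (Matrix.ext fun ⟨x, i⟩ ⟨y, l⟩ => ?_)
  simp only [Units.val_mul, up_val, blk_val, Matrix.mul_apply, Fintype.sum_prod_type, upM_apply, blkM_apply,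
    pm_apply]
  rw [Finset.sum_eq_single x (fun z _ hz => by simp [Ne.symm hz]) (by simp),
    Finset.sum_eq_single y (fun z _ hz => by simp [hz]) (by simp)]
  by_cases h : x = π y
  · subst h; fin_cases i <;> fin_cases l <;> simp [Fin.sum_univ_two]
  · simp [h]

theorem blk_sg (g : Pt j → ZMod 2) : blk (fun x => (sg (g x) : GL (Fin 2) F)) = up (sd F g) := by
  refine Units.ext (Matrix.ext fun ⟨x, i⟩ ⟨y, l⟩ => ?_)
  rw [up_val, upM_apply, blk_val, blkM_apply]
  by_cases h : x = y
  · subst h
    rcases zm_cases (g x) with e | e <;> by_cases h' : i = l <;>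
      simp [sd, sg_one, sgn_one, Matrix.one_apply, e, h']
  · simp [sd, h]

/-- Members of the quaternion group commute up to sign and square to a sign. -/
theorem q8_sign {q q' : GL (Fin 2) F} (hq : q ∈ Q8 p) (hq' : q' ∈ Q8 p) :
    (∃ ε, q * q' * q⁻¹ = sg ε * q') ∧ ∃ ε, q⁻¹ = sg ε * q := by
  obtain ⟨c, d, e, rfl⟩ := hq
  obtain ⟨c', d', e', rfl⟩ := hq'
  refine ⟨⟨e * d' + e' * d, mul_inv_eq_iff_eq_mul.mpr ?_⟩, d + e * d + e, inv_eq_of_mul_eq_one_right ?_⟩
  · rw [show (sg (e * d' + e' * d) : GL (Fin 2) F) = qel p (e * d' + e' * d) 0 0 by simp [qel], qel_mul,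
      qel_mul, qel_mul]
    congr 1 <;> grind
  · rw [show (sg (d + e * d + e) : GL (Fin 2) F) = qel p (d + e * d + e) 0 0 by simp [qel], qel_mul, qel_mul,
      ← qel_zero p]
    congr 1 <;> rcases zm_cases c with rfl | rfl <;> rcases zm_cases d with rfl | rfl <;>
      rcases zm_cases e with rfl | rfl <;> decide

/-- A quaternion controlled by an affine function. -/
theorem nr_ctrl {l : Pt j → ZMod 2} (hl : Aff l) {q : GL (Fin 2) F} (hq : q ∈ Q8 p) :
    Nr p (blk fun x => if l x = 0 then 1 else q) := by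
  set N : Pt j → GL (Fin 2) F := fun x => if l x = 0 then 1 else q
  rintro _ ⟨a, b, q', hq', rfl⟩
  obtain ⟨⟨ε, hε⟩, η, hη⟩ := q8_sign p hq hq'
  obtain ⟨c, hc⟩ := aff_form hl
  have hδ : ∀ x, l (x + a) = l x + ip c a := fun x => by
    rw [hc]
    simp only [ip_add_right]
    rw [add_assoc]
  have key : ∀ x, N (x + a) * (sg (ip b x) * q') * (N x)⁻¹ =
      sg (ip b x + (ε + η * ip c a) * l x) * ((if ip c a = 0 then 1 else q) * q') := by
    intro x
    have hqq : q * q' = sg ε * q' * q := by rw [← hε]; group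
    simp only [N, hδ]
    rcases zm_cases (l x) with e | e <;> rcases zm_cases (ip c a) with e' | e' <;> rw [e, e'] <;>
      simp only [add_zero, zero_add, mul_zero, mul_one, if_true, if_neg (one_ne_zero : (1 : ZMod 2) ≠ 0),
        inv_one, one_mul, sg_add]
    · rw [← mul_assoc, ← sg_comm, mul_assoc]
    · rw [← mul_assoc, ← sg_comm, mul_assoc, mul_assoc, mul_assoc, ← mul_assoc q, hε]
    · rw [show (1 : ZMod 2) + 1 = 0 from by decide, if_pos rfl, one_mul]
      rw [show q * q' = sg ε * q' * q from hqq, hη]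
      calc sg (ip b x) * q' * (sg η * q) = sg (ip b x) * (sg η * q' * q) := by
            rw [mul_assoc, ← mul_assoc q', ← sg_comm η q']
        _ = _ := by
            rcases zm_cases ε with rfl | rfl <;> simp [sg_one, mul_assoc]
  obtain ⟨b', hb'⟩ := aff_form (Aff.add (aff_ip b) (show Aff fun x => (ε + η * ip c a) * l x from
    fun u v x => by
      have := hl u v x
      simp only [dl_apply] at this ⊢
      linear_combination (ε + η * ip c a) * this))
  have hq'' : (if ip c a = 0 then 1 else q) * q' ∈ Q8 p :=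
    mul_mem (by split_ifs <;> simp [hq, one_mem]) hq'
  refine ⟨a, b', sg (ip b 0 + (ε + η * ip c a) * l 0) * ((if ip c a = 0 then 1 else q) * q'),
    mul_mem (sg_mem p _) hq'', ?_⟩
  have hel : ∀ (b : Pt j) (q : GL (Fin 2) F), el a b q =
      up (pm F (Equiv.addRight a)) * blk (fun x => sg (ip b x) * q) := fun b q => by
    rw [el, pau, map_mul, mul_assoc, ← blk_sg, cst_eq, ← map_mul]
    rfl
  rw [hel, hel, ← mul_assoc, blk_pm, mul_assoc, mul_assoc, ← map_inv, ← map_mul, ← map_mul]
  congr 1
  congr 1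
  funext x
  simp only [Pi.mul_apply, Pi.inv_apply, Equiv.coe_addRight, ← mul_assoc]
  have k := key x
  have e := congrFun hb' x
  try simp only at e
  rw [← mul_assoc] at k
  rw [k, e, sg_add, sg_comm (ip b 0 + (ε + η * ip c a) * l 0) (sg (ip b' x))]
  simp only [mul_assoc]

theorem q8_conj_of {w : GL (Fin 2) F} (hj : w * jq * w⁻¹ ∈ Q8 p) (ha : w * aq p * w⁻¹ ∈ Q8 p) :
    ∀ q ∈ Q8 p, w * q * w⁻¹ ∈ Q8 p := by
  rintro _ ⟨c, d, e, rfl⟩
  rw [show w * qel p c d e * w⁻¹ = w * sg c * w⁻¹ * (w * (if d = 0 then 1 else jq) * w⁻¹) *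
    (w * (if e = 0 then 1 else aq p) * w⁻¹) by rw [qel]; group, ← sg_comm, mul_inv_cancel_right]
  refine mul_mem (mul_mem (sg_mem p c) ?_) ?_ <;> split_ifs <;> simp [hj, ha, one_mem]

/-- The rotation of the quaternion group. -/
noncomputable def rotU (h2 : (2 : F) ≠ 0) : GL (Fin 2) F where
  val := (2 : F)⁻¹ • (1 + jq.val + (aq p).val + jq.val * (aq p).val)
  inv := (2 : F)⁻¹ • (1 - jq.val - (aq p).val - jq.val * (aq p).val)
  val_inv := by
    ext i l; fin_cases i <;> fin_cases l <;> simp [jq, aq, Matrix.mul_apply, Fin.sum_univ_two] <;>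
      field_simp <;> first | ring1 | linear_combination -2 * p.eq
  inv_val := by
    ext i l; fin_cases i <;> fin_cases l <;> simp [jq, aq, Matrix.mul_apply, Fin.sum_univ_two] <;>
      field_simp <;> first | ring1 | linear_combination -2 * p.eq

theorem rotU_det (h2 : (2 : F) ≠ 0) : (rotU p h2).val.det = 1 := by
  rw [Matrix.det_fin_two]
  simp [rotU, jq, aq, Matrix.mul_apply, Fin.sum_univ_two]
  field_simp
  first | ring1 | linear_combination -2 * p.eq

theorem rotU_conj (h2 : (2 : F) ≠ 0) : ∀ q ∈ Q8 p, rotU p h2 * q * (rotU p h2)⁻¹ ∈ Q8 p := by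
  refine q8_conj_of p ?_ ?_
  · rw [show rotU p h2 * jq * (rotU p h2)⁻¹ = aq p from mul_inv_eq_iff_eq_mul.mpr (Units.ext (by
      ext i l; fin_cases i <;> fin_cases l <;> simp [rotU, jq, aq, Matrix.mul_apply, Fin.sum_univ_two] <;>
        field_simp <;> first | ring1 | linear_combination p.eq | linear_combination -p.eq))]
    exact aq_mem p
  · rw [show rotU p h2 * aq p * (rotU p h2)⁻¹ = jq * aq p from mul_inv_eq_iff_eq_mul.mpr (Units.ext (by
      ext i l; fin_cases i <;> fin_cases l <;> simp [rotU, jq, aq, Matrix.mul_apply, Fin.sum_univ_two] <;>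
        field_simp <;> first | ring1 | linear_combination p.eq | linear_combination -p.eq))]
    exact mul_mem (jq_mem p) (aq_mem p)

/-- The complex structure plus one, as a unit. -/
noncomputable def onejU (h2 : (2 : F) ≠ 0) : GL (Fin 2) F where
  val := 1 + jq.val
  inv := (2 : F)⁻¹ • (1 - jq.val)
  val_inv := by
    ext i l; fin_cases i <;> fin_cases l <;> simp [jq, Matrix.mul_apply, Fin.sum_univ_two] <;>
      field_simp <;> ring
  inv_val := by
    ext i l; fin_cases i <;> fin_cases l <;> simp [jq, Matrix.mul_apply, Fin.sum_univ_two] <;>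
      field_simp <;> ring

theorem onejU_conj (h2 : (2 : F) ≠ 0) : ∀ q ∈ Q8 p, onejU h2 * q * (onejU h2)⁻¹ ∈ Q8 p := by
  refine q8_conj_of p ?_ ?_
  · rw [show onejU h2 * jq * (onejU h2)⁻¹ = (jq : GL (Fin 2) F) from mul_inv_eq_iff_eq_mul.mpr (Units.ext (by
      ext i l; fin_cases i <;> fin_cases l <;> simp [onejU, jq, Matrix.mul_apply, Fin.sum_univ_two]))]
    exact jq_mem p
  · rw [show onejU h2 * aq p * (onejU h2)⁻¹ = jq * aq p from mul_inv_eq_iff_eq_mul.mpr (Units.ext (by
      ext i l; fin_cases i <;> fin_cases l <;> simp [onejU, jq, aq, Matrix.mul_apply, Fin.sum_univ_two] <;>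
        ring))]
    exact mul_mem (jq_mem p) (aq_mem p)

theorem had1_mem_spM (h2 : (2 : F) ≠ 0) (a : Fin j) : up (hadU h2 a) * cst (onejU h2) ∈ spM j F := fun u v => by
  rw [Units.val_mul, ← Matrix.mulVec_mulVec, ← Matrix.mulVec_mulVec, up_val, cst_val,
    show (hadU h2 a).val = (2 : F)⁻¹ • had F a from rfl,
    sform_scale (c := (2 : F)⁻¹) (show ((2 : F)⁻¹ • had F a)ᵀ * ((2 : F)⁻¹ • had F a) = _ from by
      rw [Matrix.transpose_smul, had_transpose, smul_mul_smul_comm, had_sq, smul_smul, mul_assoc,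
        inv_mul_cancel₀ h2, mul_one]),
    sform_blk _ (c := 2) (fun _ => by
      rw [Matrix.det_fin_two]; simp [onejU, jq]; norm_num), ← mul_assoc, inv_mul_cancel₀ h2, one_mul]

/-- An element of the symplectic group outside the normaliser. -/
theorem exists_not_nr (h2 : (2 : F) ≠ 0) (hj : 1 ≤ j) : ∃ g ∈ spM j F, ¬ Nr p g := by
  let T : GL (Fin 2) F :=
    { val := !![1, 1; 0, 1]
      inv := !![1, -1; 0, 1]
      val_inv := by ext i l; fin_cases i <;> fin_cases l <;> simp
      inv_val := by ext i l; fin_cases i <;> fin_cases l <;> simp }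
  let N : Pt j → GL (Fin 2) F := fun x => if x = 0 then T else 1
  refine ⟨blk N, blk_mem_spM fun x => ?_, fun h => ?_⟩
  · simp only [N]
    split_ifs <;> simp [T, Matrix.det_fin_two]
  obtain ⟨a, b, q, hq, e⟩ := h (cst jq) ⟨0, 0, jq, jq_mem p, by rw [el, pau_zero, map_one, one_mul]⟩
  rw [cst_eq, ← map_inv, ← map_mul, ← map_mul, el, pau, map_mul up, mul_assoc (up (pm F _)), ← blk_sg, cst_eq, ← map_mul blk] at e
  have hv : ∀ x i l, ((N x * jq * (N x)⁻¹ : GL (Fin 2) F) : Matrix (Fin 2) (Fin 2) F) i l =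
      if x = x + a then ((sg (ip b x) * q : GL (Fin 2) F) : Matrix (Fin 2) (Fin 2) F) i l else 0 := by
    intro x i l
    have h1 := congrArg (fun g : GL (Ix j) F => (g : Matrix (Ix j) (Ix j) F) (x, i) (x, l)) e
    simp only [Units.val_mul, blk_val, up_val, blkM_apply, Matrix.mul_apply, upM_apply, Fintype.sum_prod_type,
      pm_apply, Pi.mul_apply, Pi.inv_apply] at h1
    rw [if_pos trivial, Finset.sum_eq_single x (fun z _ hz => by simp [hz]) (by simp)] at h1
    fin_cases i <;> fin_cases l <;>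
      simpa [Fin.sum_univ_two, Equiv.coe_addRight, Units.val_mul, Matrix.mul_apply] using h1
  have ha0 : a = 0 := by
    by_contra hne
    have h00 := hv 0 0 0
    rw [if_neg (fun e => hne (by simpa using e.symm))] at h00
    simp [N, T, jq, Matrix.mul_apply, Fin.sum_univ_two] at h00
  subst ha0
  let i0 : Fin j := ⟨0, hj⟩
  have hp : (pe i0 : Pt j) ≠ 0 := fun e => by simpa using congrFun e i0
  have h10 := hv (pe i0) 0 0
  have h00 := hv 0 0 0
  rw [if_pos (add_zero _).symm] at h10 h00
  rw [show ip b (0 : Pt j) = 0 from dotProduct_zero b, sg_zero, one_mul] at h00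
  simp only [N, if_neg hp, one_mul, inv_one, mul_one] at h10
  rcases zm_cases (ip b (pe i0)) with e' | e' <;> rw [e'] at h10 <;>
    simp [N, T, jq, sg_one, Matrix.mul_apply, Fin.sum_univ_two] at h00 h10
  all_goals first
    | linear_combination (norm := (ring_nf; simp)) h00 + h10
    | exact absurd (h10.trans h00.symm) (by simp)
    | (rw [← h10] at h00; simp at h00)
    | (rw [← h00] at h10; simp at h10)

end Cfsg.Agent.C6Minus10
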