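import Cfsg.Prelude.Def_GeometricClasses
import Cfsg.Agent.Lib.C6Minus10Frame
import Cfsg.Agent.Lib.C6Minus10Gen
import Cfsg.Agent.Lib.TransvectionMax

/-!
Coordinates in which an absolutely irreducible symplectic 2-group of minus type is the model group, and the
reduction of the maximality of its normaliser to a statement about the model.
-/

set_option autoImplicit false
set_option linter.unusedSectionVars false

namespace Cfsg.Agent.C6Minus10

open Matrix Cfsg.Agent.C6Plus10
open scoped MatrixGroups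

variable {F : Type*} [Field F]

theorem exists_par [Fintype F] (hodd : Odd (Fintype.card F)) : Nonempty (Par F) := by
  obtain ⟨a, b, h⟩ := FiniteField.exists_root_sum_quadratic (f := (Polynomial.X ^ 2 : Polynomial F))
    (g := Polynomial.X ^ 2 - Polynomial.C (-1 : F)) (Polynomial.degree_X_pow 2)
    (Polynomial.degree_X_pow_sub_C two_pos _) (Nat.odd_iff.mp hodd)
  simp only [Polynomial.eval_pow, Polynomial.eval_X, Polynomial.eval_sub, Polynomial.eval_C] at h
  exact ⟨⟨a, b, by linear_combination h⟩⟩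

theorem sum_sgn {t : ℕ} (c : Pt t) :
    ∑ b : Pt t, sgn F (ip b c) = if c = 0 then (2 : F) ^ t else 0 := by
  split_ifs with h
  · subst h
    rw [show (fun b : Pt t => sgn F (ip b (0 : Pt t))) = fun _ => (1 : F) from funext fun b => by
      rw [show ip b (0 : Pt t) = 0 from dotProduct_zero b, sgn_zero]]
    simp [Finset.card_univ]
  · obtain ⟨i, hi⟩ := Function.ne_iff.mp h
    have hi1 : c i = 1 := (zm_cases (c i)).resolve_left hi
    by_cases h2 : (2 : F) = 0
    · have hs : ∀ a : ZMod 2, sgn F a = 1 := fun a => by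
        rcases zm_cases a with rfl | rfl
        · simp
        · rw [sgn_one]; linear_combination -h2
      simp only [hs]
      rw [Finset.sum_const, Finset.card_univ, nsmul_one, Fintype.card_fun, ZMod.card, Fintype.card_fin,
        Nat.cast_pow, Nat.cast_ofNat, h2, zero_pow]
      intro ht
      subst ht
      exact i.elim0
    have key : ∑ b : Pt t, sgn F (ip b c) = -∑ b : Pt t, sgn F (ip b c) := by
      conv_lhs => rw [← Equiv.sum_comp (Equiv.addRight (pe i)) fun b => sgn F (ip b c)]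
      rw [← Finset.sum_neg_distrib]
      refine Finset.sum_congr rfl fun b _ => ?_
      rw [Equiv.coe_addRight, ip_add_left, sgn_add, ip_pe, hi1, sgn_one, mul_neg_one]
    exact (mul_eq_zero.mp (show (2 : F) * ∑ b : Pt t, sgn F (ip b c) = 0 by linear_combination key)).resolve_left h2

variable {ι : Type} [Fintype ι] [DecidableEq ι]

theorem act_mul (g h : GL ι F) (x : ι → F) : (g * h).val *ᵥ x = g.val *ᵥ h.val *ᵥ x := by
  rw [Units.val_mul, Matrix.mulVec_mulVec]

theorem act_sg (c : ZMod 2) (x : ι → F) : (sg c : GL ι F).val *ᵥ x = sgn F c • x := by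
  rcases zm_cases c with rfl | rfl <;> simp [sg_one, sgn_one, Matrix.neg_mulVec]

/-- Conjugation by a linear bijection. -/
noncomputable def conjGL {j : ℕ} (Φ : (Ix j → F) ≃ₗ[F] (ι → F)) : GL (Ix j) F ≃* GL ι F :=
  Units.mapEquiv ((Matrix.toLinAlgEquiv'.trans (Φ.conjAlgEquiv F)).trans Matrix.toLinAlgEquiv'.symm).toMulEquiv

theorem conjGL_act {j : ℕ} (Φ : (Ix j → F) ≃ₗ[F] (ι → F)) (G : GL (Ix j) F) (c : Ix j → F) :
    (conjGL Φ G).val *ᵥ Φ c = Φ (G.val *ᵥ c) := by
  show (Matrix.toLinAlgEquiv'.symm (Φ.conjAlgEquiv F (Matrix.toLinAlgEquiv' G.val))) *ᵥ Φ c = _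
  rw [← Matrix.toLinAlgEquiv'_apply (Matrix.toLinAlgEquiv'.symm _), AlgEquiv.apply_symm_apply]
  simp [LinearEquiv.conj_apply]

theorem conjGL_eq {j : ℕ} (Φ : (Ix j → F) ≃ₗ[F] (ι → F)) {G : GL (Ix j) F} {g : GL ι F}
    (h : ∀ c, g.val *ᵥ Φ c = Φ (G.val *ᵥ c)) : conjGL Φ G = g := by
  refine Units.ext (Matrix.ext_of_mulVec_single fun x => ?_)
  rw [← Φ.apply_symm_apply (Pi.single x 1), conjGL_act, h]

/-- Coordinates adapted to the group. -/
theorem exists_coord [Fintype F] (m k : ℕ) (hm : 0 < m) (hodd : Odd (Fintype.card F))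
    (R : Subgroup (GL (Fin m ⊕ Fin m) F)) (hR : Cfsg.Geo.IsSymplecticTypeGroup 2 R)
    (hirr : Cfsg.Geo.ActsAbsolutelyIrreducibly (Cfsg.Geo.matrixSet R)) (hRD : R ≤ Cfsg.spGL m F)
    (hcard : Nat.card R = 2 ^ (1 + 2 * k)) (hZ : Nat.card (Subgroup.center R) = 2)
    (hminus : Cfsg.Geo.IsOfMinusType k R) :
    ∃ (j : ℕ) (p : Par F) (Ψ : GL (Ix j) F ≃* GL (Fin m ⊕ Fin m) F), m = 2 ^ j ∧
      (Rm p).map Ψ.toMonoidHom = R ∧ (spM j F).map Ψ.toMonoidHom = Cfsg.spGL m F := by
  classical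
  haveI : Nonempty (Fin m ⊕ Fin m) := ⟨Sum.inl ⟨0, hm⟩⟩
  have h2 : (2 : F) ≠ 0 := Ring.two_ne_zero fun hc => by
    have := FiniteField.even_card_of_char_two (F := F) hc
    rw [Nat.odd_iff] at hodd
    omega
  have S := SympTypeTwo.Setup.mk' h2 hR hirr (by rw [hZ])
  haveI : Finite R := inferInstance
  obtain ⟨t, X, Z, U, V, fr, hU, hV, hUC, hVC, hUU, hVV, hVU, hgen⟩ := exists_quat S k hcard hZ hminus
  obtain ⟨p⟩ := exists_par hodd
  have hf := TransvectionMax.sympForm_isSymplecticForm (F := F) m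
  set f := Cfsg.sympForm m F
  have hb := hf.bilinear
  have hiso : ∀ g ∈ R, ∀ x y, f (g.val *ᵥ x) (g.val *ᵥ y) = f x y := fun g hg x y => hRD hg x y
  have hpow : (2 : F) ^ t ≠ 0 := pow_ne_zero _ h2
  -- the projection on the vectors fixed by all Z b
  let P0 : Matrix (Fin m ⊕ Fin m) (Fin m ⊕ Fin m) F := ∑ b : Pt t, (Z b).val
  have hP0 : ∀ b x, (Z b).val *ᵥ P0 *ᵥ x = P0 *ᵥ x := fun b x => by
    rw [Matrix.mulVec_mulVec, Finset.mul_sum]
    congr 1
    conv_rhs => rw [show P0 = ∑ c : Pt t, (Z c).val from rfl, ← Equiv.sum_comp (Equiv.addLeft b) fun c => (Z c).val]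
    exact Finset.sum_congr rfl fun c _ => by rw [Equiv.coe_addLeft, fr.addZ, Units.val_mul]
  have hsum : ∀ x, ∑ a : Pt t, (X a).val *ᵥ P0 *ᵥ (X a).val *ᵥ x = (2 : F) ^ t • x := by
    intro x
    have e : ∀ a b : Pt t, (X a).val *ᵥ (Z b).val *ᵥ (X a).val *ᵥ x = sgn F (ip b a) • ((Z b).val *ᵥ x) :=
      fun a b => by
        rw [← act_mul (Z b), fr.comm, act_mul, act_mul, act_sg, Matrix.mulVec_smul, ← act_mul (X a) (X a), fr.X_sq,
          Units.val_one, Matrix.one_mulVec]
    calc ∑ a : Pt t, (X a).val *ᵥ P0 *ᵥ (X a).val *ᵥ x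
        = ∑ a : Pt t, ∑ b : Pt t, sgn F (ip b a) • ((Z b).val *ᵥ x) := Finset.sum_congr rfl fun a _ => by
          simp only [P0, Matrix.sum_mulVec, Matrix.mulVec_sum, e]
      _ = ∑ b : Pt t, (∑ a : Pt t, sgn F (ip b a)) • ((Z b).val *ᵥ x) := by
          rw [Finset.sum_comm]; simp only [Finset.sum_smul]
      _ = _ := by
          have hs : ∀ b : Pt t, ∑ a : Pt t, sgn F (ip b a) = if b = 0 then (2 : F) ^ t else 0 := fun b => by
            rw [← sum_sgn b]
            exact Finset.sum_congr rfl fun a _ => by rw [ip, ip, dotProduct_comm]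
          simp only [hs, ite_smul, zero_smul, Finset.sum_ite_eq', Finset.mem_univ, if_true, fr.Z_zero,
            Units.val_one, Matrix.one_mulVec]
  obtain ⟨w0, hw0, hw0f⟩ : ∃ w0 : Fin m ⊕ Fin m → F, w0 ≠ 0 ∧ ∀ b, (Z b).val *ᵥ w0 = w0 := by
    by_contra! hno
    have hz : ∀ x, P0 *ᵥ x = 0 := fun x => by
      by_contra h
      obtain ⟨b, hb'⟩ := hno _ h
      exact hb' (hP0 b x)
    have h := hsum (Pi.single (Sum.inl ⟨0, hm⟩) 1)
    simp only [hz, Matrix.mulVec_zero, Finset.sum_const_zero] at h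
    rcases smul_eq_zero.mp h.symm with e | e
    · exact hpow e
    · simpa using congrFun e (Sum.inl ⟨0, hm⟩)
  have hVU' : ∀ x, V.val *ᵥ U.val *ᵥ x = -(U.val *ᵥ V.val *ᵥ x) := fun x => by
    rw [← act_mul, hVU, Units.val_neg, Matrix.neg_mulVec, act_mul]
  have hUU' : ∀ x, U.val *ᵥ U.val *ᵥ x = -x := fun x => by
    rw [← act_mul, hUU, Units.val_neg, Units.val_one, Matrix.neg_mulVec, Matrix.one_mulVec]
  have hVV' : ∀ x, V.val *ᵥ V.val *ᵥ x = -x := fun x => by
    rw [← act_mul, hVV, Units.val_neg, Units.val_one, Matrix.neg_mulVec, Matrix.one_mulVec]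
  have hfixC : ∀ {c : GL (Fin m ⊕ Fin m) F} {x}, Cen X Z c → (∀ b, (Z b).val *ᵥ x = x) →
      ∀ b, (Z b).val *ᵥ c.val *ᵥ x = c.val *ᵥ x := fun {c x} hc hx b => by
    rw [← act_mul, ← hc.2 b, act_mul, hx]
  -- a vector in which the quaternion pair has the chosen shape
  obtain ⟨w, hw, hwf, hVw⟩ : ∃ w : Fin m ⊕ Fin m → F, w ≠ 0 ∧ (∀ b, (Z b).val *ᵥ w = w) ∧
      V.val *ᵥ w = p.al • w - p.be • (U.val *ᵥ w) := by
    have key : ∀ x, (∀ b, (Z b).val *ᵥ x = x) → V.val *ᵥ x + p.be • (U.val *ᵥ x) + p.al • x ≠ 0 →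
        ∃ w : Fin m ⊕ Fin m → F, w ≠ 0 ∧ (∀ b, (Z b).val *ᵥ w = w) ∧
          V.val *ᵥ w = p.al • w - p.be • (U.val *ᵥ w) := fun x hx hne => by
      refine ⟨_, hne, fun b => ?_, ?_⟩
      · simp only [Matrix.mulVec_add, Matrix.mulVec_smul, hx, hfixC hUC hx, hfixC hVC hx]
      · simp only [Matrix.mulVec_add, Matrix.mulVec_smul, hVV', hVU', hUU', smul_add, smul_neg, smul_smul]
        match_scalars <;> first | ring1 | linear_combination p.eq | linear_combination -p.eq
    by_contra hno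
    have h1 : ∀ x, (∀ b, (Z b).val *ᵥ x = x) → V.val *ᵥ x + p.be • (U.val *ᵥ x) + p.al • x = 0 := fun x hx =>
      by_contra fun hne => hno (key x hx hne)
    have e1 := h1 w0 hw0f
    have e2 := h1 _ (hfixC hUC hw0f)
    rw [hVU', hUU', eq_sub_of_add_eq (eq_neg_of_add_eq_zero_left e1)] at e2
    simp only [Matrix.mulVec_sub, Matrix.mulVec_neg, Matrix.mulVec_smul, hUU'] at e2
    have e3 : p.al • (U.val *ᵥ w0) = p.be • w0 := by
      refine smul_right_injective _ h2 ?_
      simp only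
      rw [← sub_eq_zero, ← e2]
      module
    have e4 : U.val *ᵥ (p.al • (U.val *ᵥ w0)) = U.val *ᵥ (p.be • w0) := congrArg (fun x => U.val *ᵥ x) e3
    rw [Matrix.mulVec_smul, Matrix.mulVec_smul, hUU'] at e4
    have e5 : (p.al ^ 2 + p.be ^ 2) • w0 = 0 := by
      have e6 := congrArg (fun x => p.be • x) e3
      have e7 := congrArg (fun x => p.al • x) e4
      simp only [smul_neg, smul_smul] at e6 e7
      rw [mul_comm p.be p.al, ← e7] at e6
      rw [add_smul, pow_two, pow_two, ← e6, add_neg_cancel]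
    rw [p.eq, neg_smul, one_smul, neg_eq_zero] at e5
    exact hw0 e5
  -- the basis
  let col : Ix t → (Fin m ⊕ Fin m → F) := fun x => (X x.1).val *ᵥ ![w, -(U.val *ᵥ w)] x.2
  let L : (Ix t → F) →ₗ[F] (Fin m ⊕ Fin m → F) := Fintype.linearCombination F col
  have hLs : ∀ x, L (Pi.single x 1) = col x := fun x => by
    simp [L, Fintype.linearCombination_apply_single]
  let Int : GL (Fin m ⊕ Fin m) F → GL (Ix t) F → Prop := fun g G => ∀ c, g.val *ᵥ L c = L (G.val *ᵥ c)
  have hInt : ∀ (g : GL (Fin m ⊕ Fin m) F) (G : GL (Ix t) F),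
      (∀ x, g.val *ᵥ col x = L (G.val *ᵥ Pi.single x 1)) → Int g G := fun g G h => by
    have : (Matrix.toLin' g.val).comp L = L.comp (Matrix.toLin' G.val) := by
      refine (Pi.basisFun F (Ix t)).ext fun x => ?_
      simp only [LinearMap.comp_apply, Pi.basisFun_apply, Matrix.toLin'_apply, hLs, h]
    intro c
    simpa using LinearMap.congr_fun this c
  have hIntmul : ∀ {g h G H}, Int g G → Int h H → Int (g * h) (G * H) := fun {g h G H} h1 h3 c => by
    rw [act_mul, h3, h1, act_mul]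
  have hcolfix : ∀ i, ∀ b, (Z b).val *ᵥ (![w, -(U.val *ᵥ w)] i) = ![w, -(U.val *ᵥ w)] i := fun i b => by
    fin_cases i
    · exact hwf b
    · simp [Matrix.mulVec_neg, hfixC hUC hwf b]
  have hupX : ∀ a, Int (X a) (up (pm F (Equiv.addRight a))) := fun a => hInt _ _ fun x => by
    obtain ⟨y, i⟩ := x
    have e : (up (pm F (Equiv.addRight a))).val *ᵥ Pi.single (y, i) (1 : F) = Pi.single (y + a, i) 1 := by
      rw [Matrix.mulVec_single_one]
      funext ⟨z, l⟩
      simp only [Matrix.col_apply, up_val, upM_apply, pm_apply, Equiv.coe_addRight, Pi.single_apply, Prod.mk.injEq]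
      by_cases h1 : l = i <;> by_cases h3 : z = y + a <;> simp [h1, h3]
    rw [e, hLs]
    simp only [col]
    rw [← act_mul, ← fr.addX, add_comm]
  have hupZ : ∀ b, Int (Z b) (up (sd F (ip b))) := fun b => hInt _ _ fun x => by
    obtain ⟨y, i⟩ := x
    have e : (up (sd F (ip b))).val *ᵥ Pi.single (y, i) (1 : F) = sgn F (ip b y) • Pi.single (y, i) 1 := by
      rw [Matrix.mulVec_single_one]
      funext ⟨z, l⟩
      simp only [Matrix.col_apply, up_val, upM_apply, Pi.smul_apply, Pi.single_apply, Prod.mk.injEq, sd,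
        Matrix.diagonal_apply]
      by_cases h1 : l = i <;> by_cases h3 : z = y <;> simp [h1, h3]
    rw [e, map_smul, hLs]
    simp only [col]
    rw [← act_mul, fr.comm, act_mul, act_mul, act_sg, hcolfix]
  have hcol2 : ∀ (q : GL (Fin 2) F) (c : GL (Fin m ⊕ Fin m) F), Cen X Z c →
      (∀ i, c.val *ᵥ ![w, -(U.val *ᵥ w)] i = q.val 0 i • w + q.val 1 i • -(U.val *ᵥ w)) → Int c (cst q) :=
    fun q c hc h => hInt _ _ fun x => by
      obtain ⟨y, i⟩ := x
      have e : (cst q : GL (Ix t) F).val *ᵥ Pi.single (y, i) (1 : F) =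
          q.val 0 i • Pi.single (y, (0 : Fin 2)) 1 + q.val 1 i • Pi.single (y, (1 : Fin 2)) 1 := by
        rw [Matrix.mulVec_single_one]
        funext ⟨z, l⟩
        simp only [Matrix.col_apply, cst_val, blkM_apply, Pi.add_apply, Pi.smul_apply, Pi.single_apply,
          Prod.mk.injEq]
        fin_cases l <;> by_cases h3 : z = y <;> simp [h3]
      rw [e, map_add, map_smul, map_smul, hLs, hLs]
      simp only [col]
      rw [← act_mul, hc.1, act_mul, h]
      simp [Matrix.mulVec_add, Matrix.mulVec_smul, Matrix.mulVec_neg]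
  have hUint : Int U (cst jq) := hcol2 jq U hUC fun i => by
    fin_cases i <;> simp [jq, Matrix.mulVec_neg, hUU']
  have hVint : Int V (cst (aq p)) := hcol2 (aq p) V hVC fun i => by
    fin_cases i
    · simp [aq, hVw, sub_eq_add_neg]
    · simp [aq, Matrix.mulVec_neg, hVU', hVw, Matrix.mulVec_sub, Matrix.mulVec_smul, hUU']
      module
  have hSint : ∀ s, Int (sg s) (cst (sg s : GL (Fin 2) F)) := fun s c => by
    rw [act_sg, ← up_sd_const, up_val, ← map_smul]
    congr 1
    funext ⟨z, l⟩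
    rw [upM_mulVec, Pi.smul_apply, smul_eq_mul]
    show _ = (Matrix.diagonal _ *ᵥ _) z
    rw [Matrix.mulVec_diagonal]
  have hone : Int 1 1 := fun c => by simp
  have hpwint : ∀ {g G}, Int g G → ∀ d, Int (pw g d) (pw G d) := fun {g G} h d => by
    rcases zm_cases d with rfl | rfl
    · simpa using hone
    · simpa using h
  have helint : ∀ a b c d e,
      Int (X a * Z b * (sg c * pw U d * pw V e)) (el a b (qel p c d e) : GL (Ix t) F) := fun a b c d e => by
    have h := hIntmul (hIntmul (hupX a) (hupZ b))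
      (hIntmul (hIntmul (hSint c) (hpwint hUint d)) (hpwint hVint e))
    have he : (el a b (qel p c d e) : GL (Ix t) F) = up (pm F (Equiv.addRight a)) * up (sd F (ip b)) *
        (cst (sg c : GL (Fin 2) F) * pw (cst jq) d * pw (cst (aq p)) e) := by
      rw [el, pau, map_mul up, qel, map_mul cst, map_mul cst]
      rcases zm_cases d with rfl | rfl <;> rcases zm_cases e with rfl | rfl <;> simp
    rw [he]
    exact h
  have hsurj : Function.Surjective L := by
    rw [← LinearMap.range_eq_top]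
    refine (hirr.1 _ ?_).resolve_left fun e => hw ?_
    · rintro _ ⟨r, hr, rfl⟩
      obtain ⟨a, b, c, d, e, rfl⟩ := hgen r hr
      rintro _ ⟨_, ⟨c', rfl⟩, rfl⟩
      exact ⟨_, ((Matrix.toLin'_apply _ _).trans (helint a b c d e c')).symm⟩
    · have h : col (0, 0) ∈ LinearMap.range L := ⟨_, hLs _⟩
      rw [e, Submodule.mem_bot] at h
      simpa [col, fr.X_zero] using h
  have hinj : Function.Injective L := by
    rw [← LinearMap.ker_eq_bot, LinearMap.ker_eq_bot']
    intro c hc
    have hLc : L c = ∑ x, c x • col x := Fintype.linearCombination_apply F col c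
    have hblock : ∀ a, c (a, 0) • w + c (a, 1) • -(U.val *ᵥ w) = 0 := by
      intro a
      have h1 : ∑ b : Pt t, sgn F (ip b a) • ((Z b).val *ᵥ L c) = 0 := by simp [hc]
      have h3 : ∀ b : Pt t, (Z b).val *ᵥ L c = ∑ x, (c x * sgn F (ip b x.1)) • col x := fun b => by
        rw [hupZ b c, show L ((up (sd F (ip b))).val *ᵥ c) = ∑ x, ((up (sd F (ip b))).val *ᵥ c) x • col x from
          Fintype.linearCombination_apply F col _]
        refine Finset.sum_congr rfl fun ⟨y, i⟩ _ => ?_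
        rw [up_val, upM_mulVec]
        show (Matrix.diagonal _ *ᵥ _) y • _ = _
        rw [Matrix.mulVec_diagonal, mul_comm]
      simp only [h3, Finset.smul_sum, smul_smul] at h1
      rw [Finset.sum_comm] at h1
      have h4 : ∀ x : Ix t, ∑ b : Pt t, (sgn F (ip b a) * (c x * sgn F (ip b x.1))) • col x =
          if x.1 = a then ((2 : F) ^ t * c x) • col x else 0 := fun x => by
        rw [← Finset.sum_smul, show ∑ b : Pt t, sgn F (ip b a) * (c x * sgn F (ip b x.1)) =
          c x * ∑ b : Pt t, sgn F (ip b (a + x.1)) by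
            rw [Finset.mul_sum]
            exact Finset.sum_congr rfl fun b _ => by rw [ip_add_right, sgn_add]; ring, sum_sgn]
        by_cases h : x.1 = a
        · rw [if_pos h, h, pt_add_self, if_pos rfl, mul_comm]
        · rw [if_neg h, if_neg, mul_zero, zero_smul]
          exact fun e => h (by
            have := congrArg (a + ·) e
            simpa [← add_assoc, pt_add_self] using this)
      simp only [h4, Fintype.sum_prod_type, Fin.sum_univ_two] at h1
      rw [Finset.sum_eq_single a (fun y _ hy => by simp [hy]) (by simp)] at h1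
      simp only [if_true, col, ← Matrix.mulVec_smul, ← Matrix.mulVec_add] at h1
      have h5 := congrArg (fun v => (X a).val *ᵥ v) h1
      simp only [Matrix.mulVec_zero] at h5
      rw [← act_mul, fr.X_sq, Units.val_one, Matrix.one_mulVec] at h5
      refine (smul_eq_zero.mp (?_ : (2 : F) ^ t • (c (a, 0) • w + c (a, 1) • -(U.val *ᵥ w)) = 0)).resolve_left hpow
      rw [smul_add, smul_smul, smul_smul]
      simpa using h5
    funext ⟨a, i⟩
    have h := hblock a
    have hc1 : c (a, 1) = 0 := by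
      by_contra hne
      have hUw : U.val *ᵥ w = (c (a, 0) / c (a, 1)) • w := by
        have h' := congrArg (fun v => (c (a, 1))⁻¹ • v) h
        simp only [smul_add, smul_zero, smul_smul, inv_mul_cancel₀ hne, one_smul, ← sub_eq_add_neg, sub_eq_zero] at h'
        rw [← h', div_eq_inv_mul]
      set l := c (a, 0) / c (a, 1)
      have hl : l * l = -1 := by
        have := hUU' w
        rw [hUw, Matrix.mulVec_smul, hUw, smul_smul, ← neg_one_smul F w] at this
        exact smul_left_injective F hw this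
      have hVw' : V.val *ᵥ w = (p.al - p.be * l) • w := by rw [hVw, hUw, smul_smul, ← sub_smul]
      have := hVU' w
      rw [hUw, Matrix.mulVec_smul, hVw', Matrix.mulVec_smul, hUw, smul_smul, smul_smul] at this
      have hμ : l * (p.al - p.be * l) = 0 := by
        rw [eq_neg_iff_add_eq_zero, ← add_smul, smul_eq_zero] at this
        have := this.resolve_right hw
        exact (mul_eq_zero.mp (show (2 : F) * (l * (p.al - p.be * l)) = 0 by linear_combination this)).resolve_left h2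
      have hμ' : p.al - p.be * l = 0 := (mul_eq_zero.mp hμ).resolve_left fun e => by simp [e] at hl
      have hz := hVV' w
      rw [hVw', hμ', zero_smul, Matrix.mulVec_zero] at hz
      exact hw (neg_eq_zero.mp hz.symm)
    rw [hc1, zero_smul, add_zero, smul_eq_zero] at h
    fin_cases i
    · exact h.resolve_right hw
    · exact hc1
  let Φ : (Ix t → F) ≃ₗ[F] (Fin m ⊕ Fin m → F) := LinearEquiv.ofBijective L ⟨hinj, hsurj⟩
  have hmt : m = 2 ^ t := by
    have := Φ.finrank_eq
    rw [Module.finrank_fintype_fun_eq_card, Module.finrank_fintype_fun_eq_card, Fintype.card_prod,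
      Fintype.card_sum, Fintype.card_fun, ZMod.card, Fintype.card_fin, Fintype.card_fin, Fintype.card_fin] at this
    omega
  -- the form
  set η := f w (-(U.val *ᵥ w))
  have hsigma : ∀ (a : Pt t) (i : Fin 2) (b : Pt t) (l : Fin 2), f (col (a, i)) (col (b, l)) =
      if a = b then f (![w, -(U.val *ᵥ w)] i) (![w, -(U.val *ᵥ w)] l) else 0 := by
    intro a i b l
    simp only [col]
    rw [← hiso (X a) (fr.memX a), ← act_mul, ← act_mul, fr.X_sq, Units.val_one, Matrix.one_mulVec, ← fr.addX]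
    split_ifs with h
    · subst h
      rw [pt_add_self, fr.X_zero, Units.val_one, Matrix.one_mulVec]
    · obtain ⟨i0, hi0⟩ : ∃ i0, (a + b) i0 ≠ 0 := by
        by_contra! hn
        exact h (funext fun i0 => CharTwo.add_eq_zero.mp (hn i0))
      have hd : (a + b) i0 = 1 := (zm_cases _).resolve_left hi0
      have e := hiso (Z (pe i0)) (fr.memZ _) (![w, -(U.val *ᵥ w)] i) ((X (a + b)).val *ᵥ ![w, -(U.val *ᵥ w)] l)
      rw [hcolfix, ← act_mul, fr.comm, act_mul, act_mul, act_sg, hcolfix, ip_pe, hd, sgn_one, hb.smul_right] at e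
      exact (mul_eq_zero.mp (show (2 : F) * _ = 0 by linear_combination -e)).resolve_left h2
  have hform : ∀ c d : Ix t → F, f (L c) (L d) = η * sform c d := by
    intro c d
    have e1 : ∀ u, f (L c) u = ∑ x, c x * f (col x) u := fun u => by
      rw [show L c = ∑ x, c x • col x from Fintype.linearCombination_apply F col c]
      exact (map_sum (TransvectionMax.fLeft hb u) _ _).trans (Finset.sum_congr rfl fun x _ => hb.smul_left _ _ _)
    have e2 : ∀ u, f u (L d) = ∑ x, d x * f u (col x) := fun u => by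
      rw [show L d = ∑ x, d x • col x from Fintype.linearCombination_apply F col d]
      exact (map_sum (TransvectionMax.fRight hb u) _ _).trans (Finset.sum_congr rfl fun x _ => hb.smul_right _ _ _)
    rw [e1]
    simp only [e2, Fintype.sum_prod_type, hsigma, Fin.sum_univ_two, sform, mul_ite, mul_zero, ite_add_ite,
      add_zero, Finset.mul_sum, Finset.sum_ite_eq, Finset.mem_univ, if_true]
    refine Finset.sum_congr rfl fun x _ => ?_
    simp only [η, Matrix.cons_val_zero, Matrix.cons_val_one, hf.alternating, hf.skew (-(U.val *ᵥ w)) w]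
    ring
  have hη : η ≠ 0 := by
    intro e
    obtain ⟨z, hz⟩ := (hf.nondegenerate w hw).1
    apply hz
    obtain ⟨d, rfl⟩ := hsurj z
    rw [show w = L (Pi.single (0, 0) 1) by rw [hLs]; simp [col, fr.X_zero], hform, e, zero_mul]
  let Ψ := conjGL Φ
  have hΨ : ∀ {g G}, Int g G → Ψ G = g := fun h => conjGL_eq Φ h
  refine ⟨t, p, Ψ, hmt, le_antisymm ?_ fun r hr => ?_, le_antisymm ?_ fun g hg => ?_⟩
  · rintro _ ⟨_, ⟨a, b, _, ⟨c, d, e, rfl⟩, rfl⟩, rfl⟩
    show Ψ _ ∈ R
    rw [hΨ (helint a b c d e)]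
    have hs : (sg c : GL (Fin m ⊕ Fin m) F) ∈ R := by
      rcases zm_cases c with rfl | rfl <;> simp [sg_one, S.neg]
    exact mul_mem (mul_mem (fr.memX a) (fr.memZ b)) (mul_mem (mul_mem hs (pw_mem hU d)) (pw_mem hV e))
  · obtain ⟨a, b, c, d, e, rfl⟩ := hgen r hr
    exact ⟨_, el_mem p a b (qel_mem p c d e), hΨ (helint a b c d e)⟩
  · rintro _ ⟨G, hG, rfl⟩
    intro x y
    obtain ⟨c, rfl⟩ := Φ.surjective x
    obtain ⟨d, rfl⟩ := Φ.surjective y
    show f ((Ψ G).val *ᵥ Φ c) ((Ψ G).val *ᵥ Φ d) = f (L c) (L d)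
    rw [conjGL_act, conjGL_act]
    show f (L (G.val *ᵥ c)) (L (G.val *ᵥ d)) = _
    rw [hform, hform, hG]
  · refine ⟨Ψ.symm g, fun c d => mul_left_cancel₀ hη ?_, Ψ.apply_symm_apply g⟩
    have h := hg (Φ c) (Φ d)
    rw [← Ψ.apply_symm_apply g] at h
    change f ((Ψ (Ψ.symm g)).val *ᵥ Φ c) ((Ψ (Ψ.symm g)).val *ᵥ Φ d) = f (L c) (L d) at h
    rw [conjGL_act, conjGL_act] at h
    change f (L _) (L _) = _ at h
    rwa [hform, hform] at h

theorem base_of_gens [Fintype F] {j : ℕ} (p : Par F) (h2 : (2 : F) ≠ 0) {M : Subgroup (GL (Ix j) F)}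
    (hle : M ≤ spM j F) (h : ∀ g ∈ spM j F, Nr p g → g ∈ M) : BaseMinus p M where
  le := hle
  quad f hf := h _ (up_mem_spM (sd_orth f)) (nr_up p (nr_plus_sd hf))
  aff π hπ := h _ (up_mem_spM (pm_orth π)) (nr_up p (nr_plus_pm hπ))
  had _ _ hab := ⟨hhU h2 hab, rfl, h _ (up_mem_spM (hhU_orth h2 hab)) (nr_up p (nr_plus_hhU h2 hab))⟩
  q8 q hq := h _ (blk_mem_spM fun _ => q8_det p hq) (nr_cst p fun q' hq' => mul_mem (mul_mem hq hq') (inv_mem hq))
  ctrl l hl q hq := h _ (blk_mem_spM fun x => by split_ifs <;> simp [q8_det p hq]) (nr_ctrl p hl hq)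
  rot := ⟨rotU p h2, rfl, h _ (blk_mem_spM fun _ => rotU_det p h2) (nr_cst p (rotU_conj p h2))⟩
  had1 a := ⟨up (hadU h2 a) * cst (onejU h2),
    h _ (had1_mem_spM h2 a) (nr_mul p (nr_up p (nr_plus_hadU h2 a)) (nr_cst p (onejU_conj p h2))), by
      rw [Units.val_mul, up_val, cst_val]
      show upM ((2 : F)⁻¹ • had F a) * _ = _
      rw [← smul_mul_assoc]
      congr 1
      ext u v
      simp only [upM_apply, Matrix.smul_apply, smul_eq_mul, had]
      split_ifs <;> simp⟩
where
  q8_det {F : Type _} [Field F] (p : Par F) {q : GL (Fin 2) F} (hq : q ∈ Q8 p) : q.val.det = 1 := by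
    obtain ⟨c, d, e, rfl⟩ := hq
    have hJ : (jq : GL (Fin 2) F).val.det = 1 := by rw [Matrix.det_fin_two]; simp [jq]
    have hA : (aq p).val.det = 1 := by
      rw [Matrix.det_fin_two]; simp [aq]; linear_combination -p.eq
    have hS : ∀ s : ZMod 2, (sg s : GL (Fin 2) F).val.det = 1 := fun s => by
      rcases zm_cases s with rfl | rfl <;> simp [sg_one, Matrix.det_fin_two]
    rw [qel, Units.val_mul, Units.val_mul, Matrix.det_mul, Matrix.det_mul, hS]
    split_ifs <;> simp [hJ, hA]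

/-- The normaliser is maximal as soon as this holds of the model. -/
theorem of_core [Fintype F] (m k : ℕ) (hm : 1 < m) (hodd : Odd (Fintype.card F))
    (R : Subgroup (GL (Fin m ⊕ Fin m) F)) (hR : Cfsg.Geo.IsSymplecticTypeGroup 2 R)
    (hirr : Cfsg.Geo.ActsAbsolutelyIrreducibly (Cfsg.Geo.matrixSet R)) (hRD : R ≤ Cfsg.spGL m F)
    (hcard : Nat.card R = 2 ^ (1 + 2 * k)) (hZ : Nat.card (Subgroup.center R) = 2)
    (hminus : Cfsg.Geo.IsOfMinusType k R)
    (hcore : ∀ (j : ℕ), m = 2 ^ j → ∀ (p : Par F) (M : Subgroup (GL (Ix j) F)), BaseMinus p M →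
      (∀ g ∈ M, Nr p g) ∨ spM j F ≤ M) :
    Cfsg.Geo.IsMaximalIn (Cfsg.spGL m F) (Cfsg.Geo.subgroupNormalizer R ⊓ Cfsg.spGL m F) := by
  classical
  have h2 : (2 : F) ≠ 0 := Ring.two_ne_zero fun hc => by
    have := FiniteField.even_card_of_char_two (F := F) hc
    rw [Nat.odd_iff] at hodd
    omega
  obtain ⟨j, p, Ψ, hj, hΨR, hΨS⟩ := exists_coord m k (by omega) hodd R hR hirr hRD hcard hZ hminus
  haveI : Finite (GL (Ix j) F) := inferInstance
  have hNr : ∀ g, Ψ g ∈ Cfsg.Geo.subgroupNormalizer R ↔ Nr p g := by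
    intro g
    constructor
    · intro h r hr
      have h1 : Ψ g * Ψ r * (Ψ g)⁻¹ ∈ R :=
        ((Subgroup.mem_set_normalizer_iff.mp h) (Ψ r)).mp (hΨR ▸ ⟨r, hr, rfl⟩)
      rw [← map_inv, ← map_mul, ← map_mul, ← hΨR] at h1
      obtain ⟨s, hs, e⟩ := h1
      exact Ψ.injective e ▸ hs
    · intro h
      refine Subgroup.mem_set_normalizer_iff.mpr fun x => ?_
      let φ : Rm (j := j) p → Rm (j := j) p := fun r => ⟨g * r.1 * g⁻¹, h r.1 r.2⟩
      have hφ : Function.Injective φ := fun a b e => Subtype.ext (by simpa [φ] using Subtype.ext_iff.mp e)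
      constructor
      · intro hx
        rw [SetLike.mem_coe, ← hΨR] at hx ⊢
        obtain ⟨r, hr, rfl⟩ := hx
        exact ⟨_, h r hr, by simp⟩
      · intro hx
        rw [SetLike.mem_coe, ← hΨR] at hx ⊢
        obtain ⟨s, hs, e⟩ := hx
        obtain ⟨r, hr⟩ := (Finite.injective_iff_surjective.mp hφ) ⟨s, hs⟩
        refine ⟨r.1, r.2, ?_⟩
        have hre : g * r.1 * g⁻¹ = s := congrArg Subtype.val hr
        rw [← hre] at e
        simp only [MulEquiv.coe_toMonoidHom, map_mul, map_inv] at e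
        exact mul_left_cancel (mul_right_cancel e)
  have hsp : ∀ g, Ψ g ∈ Cfsg.spGL m F ↔ g ∈ spM j F := fun g => by
    rw [← hΨS]
    exact ⟨fun ⟨s, hs, e⟩ => Ψ.injective e ▸ hs, fun h => ⟨g, h, rfl⟩⟩
  have hj1 : 1 ≤ j := by
    rcases Nat.eq_zero_or_pos j with rfl | h
    · simp at hj; omega
    · exact h
  refine ⟨lt_of_le_of_ne inf_le_right fun he => ?_, fun M hHM hMK => ?_⟩
  · obtain ⟨g, hg, hgn⟩ := exists_not_nr p h2 hj1
    exact hgn ((hNr g).mp (Subgroup.mem_inf.mp (he.symm ▸ (hsp g).mpr hg)).1)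
  have hbase : BaseMinus p (M.comap Ψ.toMonoidHom) := base_of_gens p h2
    (fun g hg => (hsp g).mp (hMK hg)) fun g hg hgn => hHM ⟨(hNr g).mpr hgn, (hsp g).mpr hg⟩
  rcases hcore j hj p _ hbase with h | h
  · refine Or.inl (le_antisymm (fun x hx => ⟨?_, hMK hx⟩) hHM)
    obtain ⟨g, rfl⟩ := Ψ.surjective x
    exact (hNr g).mpr (h g hx)
  · refine Or.inr (le_antisymm hMK ?_)
    rw [← hΨS]
    exact Subgroup.map_le_iff_le_comap.mpr h

end Cfsg.Agent.C6Minus10
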