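import Cfsg.Agent.Lib.C6Minus10Levels
import Cfsg.Agent.Lib.C6Minus10Cent

/-!
The core for minus type: an overgroup of the normaliser all of whose diagonal signs are quadratic is contained in it.
-/

set_option autoImplicit false
set_option linter.unusedSectionVars false

namespace Cfsg.Agent.C6Minus10

open Matrix Cfsg.Agent.C6Plus10
open scoped MatrixGroups

variable {F : Type*} [Field F] [Finite F] {j : ℕ} {p : Par F} {M : Subgroup (GL (Ix j) F)}

/-- The whole group normalises. -/
theorem core (h2 : (2 : F) ≠ 0) (hM : BaseMinus p M) (hS : SignsMinus M) (hj : 3 ≤ j) : ∀ g ∈ M, Nr p g :=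
  core_of_cent h2 hM hS hj (fun _ hS1 _ hg himg hgood => cent_real h2 hM hS hj hS1 hg himg hgood)
    (fun _ hS2 _ hg himg hgood => cent_complex h2 hM hS hj hS2 hg himg hgood)

end Cfsg.Agent.C6Minus10
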