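import Cfsg.Agent.Lib.C6Plus10Alg

/-!
The Clifford model of minus type in a symplectic space: a binary space of points times one quaternion qubit.
The extraspecial group consists of a translation after linear signs on the points, times an element of the
quaternion group on the last factor; the properties used of an overgroup of its normaliser are listed.
-/

set_option autoImplicit false
set_option linter.unusedSectionVars false

namespace Cfsg.Agent.C6Minus10

open Matrix Cfsg.Agent.C6Plus10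
open scoped MatrixGroups

variable {F : Type*} [Field F] {j : ℕ}

/-- The coordinates: a point and a position of the last qubit. -/
abbrev Ix (j : ℕ) : Type := Pt j × Fin 2

/-- A sign in a group of units. -/
def sg {G : Type*} [Monoid G] [HasDistribNeg G] (c : ZMod 2) : G := if c = 0 then 1 else -1

@[simp] theorem sg_zero {G : Type*} [Monoid G] [HasDistribNeg G] : sg (0 : ZMod 2) = (1 : G) := if_pos rfl

theorem sg_one {G : Type*} [Monoid G] [HasDistribNeg G] : sg (1 : ZMod 2) = (-1 : G) := if_neg one_ne_zero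

theorem sg_add {G : Type*} [Monoid G] [HasDistribNeg G] (c d : ZMod 2) : sg (c + d) = (sg c * sg d : G) := by
  rcases zm_cases c with rfl | rfl <;> rcases zm_cases d with rfl | rfl <;>
    simp [sg_one, show (1 : ZMod 2) + 1 = 0 by decide]

theorem sg_comm {G : Type*} [Monoid G] [HasDistribNeg G] (c : ZMod 2) (g : G) : sg c * g = g * sg c := by
  rcases zm_cases c with rfl | rfl <;> simp [sg_one]

/-! ### The two factors -/

/-- A matrix on the points, acting trivially on the last qubit. -/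
def upM (g : Matrix (Pt j) (Pt j) F) : Matrix (Ix j) (Ix j) F :=
  Matrix.of fun u v => if u.2 = v.2 then g u.1 v.1 else 0

theorem upM_apply (g : Matrix (Pt j) (Pt j) F) (u v : Ix j) :
    upM g u v = if u.2 = v.2 then g u.1 v.1 else 0 := rfl

theorem upM_one : upM (1 : Matrix (Pt j) (Pt j) F) = 1 := by
  ext ⟨x, i⟩ ⟨y, l⟩
  by_cases h : i = l <;> simp [upM_apply, Matrix.one_apply, h]

theorem upM_mul (g h : Matrix (Pt j) (Pt j) F) : upM (g * h) = upM g * upM h := by
  ext ⟨x, i⟩ ⟨y, l⟩
  simp only [Matrix.mul_apply, upM_apply, Fintype.sum_prod_type, Fin.sum_univ_two]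
  fin_cases i <;> fin_cases l <;> simp

theorem upM_mulVec (g : Matrix (Pt j) (Pt j) F) (v : Ix j → F) (x : Pt j) (i : Fin 2) :
    (upM g *ᵥ v) (x, i) = (g *ᵥ fun y => v (y, i)) x := by
  simp only [Matrix.mulVec, dotProduct, upM_apply, Fintype.sum_prod_type, Fin.sum_univ_two]
  fin_cases i <;> simp

/-- An element on the points, acting trivially on the last qubit. -/
def up : GL (Pt j) F →* GL (Ix j) F :=
  Units.map ({ toFun := upM, map_one' := upM_one, map_mul' := upM_mul } :
    Matrix (Pt j) (Pt j) F →* Matrix (Ix j) (Ix j) F)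

theorem up_val (g : GL (Pt j) F) : ((up g : GL (Ix j) F) : Matrix (Ix j) (Ix j) F) = upM (g : Matrix (Pt j) (Pt j) F) :=
  rfl

/-- A family of matrices on the last qubit, one for each point. -/
def blkM (N : Pt j → Matrix (Fin 2) (Fin 2) F) : Matrix (Ix j) (Ix j) F :=
  Matrix.of fun u v => if u.1 = v.1 then N u.1 u.2 v.2 else 0

theorem blkM_apply (N : Pt j → Matrix (Fin 2) (Fin 2) F) (u v : Ix j) :
    blkM N u v = if u.1 = v.1 then N u.1 u.2 v.2 else 0 := rfl

theorem blkM_one : blkM (fun _ : Pt j => (1 : Matrix (Fin 2) (Fin 2) F)) = 1 := by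
  ext ⟨x, i⟩ ⟨y, l⟩
  by_cases h : x = y <;> simp [blkM_apply, Matrix.one_apply, h]

theorem blkM_mul (N N' : Pt j → Matrix (Fin 2) (Fin 2) F) : blkM (fun x => N x * N' x) = blkM N * blkM N' := by
  ext ⟨x, i⟩ ⟨y, l⟩
  simp only [Matrix.mul_apply, blkM_apply, Fintype.sum_prod_type]
  by_cases h : x = y
  · subst h
    rw [if_pos rfl, Finset.sum_eq_single x (fun z _ hz => by simp [hz]) (by simp)]
    simp
  · rw [if_neg h, Finset.sum_eq_zero]
    intro z _
    by_cases hz : x = z
    · subst hz; simp [h]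
    · simp [hz]

theorem blkM_mulVec (N : Pt j → Matrix (Fin 2) (Fin 2) F) (v : Ix j → F) (x : Pt j) (i : Fin 2) :
    (blkM N *ᵥ v) (x, i) = (N x *ᵥ fun l => v (x, l)) i := by
  simp only [Matrix.mulVec, dotProduct, blkM_apply, Fintype.sum_prod_type]
  rw [Finset.sum_eq_single x (fun z _ hz => by simp [Ne.symm hz]) (by simp)]
  simp

/-- A family of elements on the last qubit, one for each point. -/
def blk : (Pt j → GL (Fin 2) F) →* GL (Ix j) F where
  toFun N :=
    { val := blkM fun x => (N x : Matrix (Fin 2) (Fin 2) F)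
      inv := blkM fun x => ((N x)⁻¹ : GL (Fin 2) F)
      val_inv := by rw [← blkM_mul]; simpa using blkM_one
      inv_val := by rw [← blkM_mul]; simpa using blkM_one }
  map_one' := Units.ext (by simpa using blkM_one)
  map_mul' N N' := Units.ext (by simpa using blkM_mul _ _)

theorem blk_val (N : Pt j → GL (Fin 2) F) :
    ((blk N : GL (Ix j) F) : Matrix (Ix j) (Ix j) F) = blkM fun x => (N x : Matrix (Fin 2) (Fin 2) F) := rfl

/-- The same element on the last qubit at every point. -/
def cst : GL (Fin 2) F →* GL (Ix j) F := blk.comp (MonoidHom.pi fun _ => MonoidHom.id _)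

theorem cst_eq (q : GL (Fin 2) F) : (cst q : GL (Ix j) F) = blk fun _ => q := rfl

theorem cst_val (q : GL (Fin 2) F) :
    ((cst q : GL (Ix j) F) : Matrix (Ix j) (Ix j) F) = blkM fun _ => (q : Matrix (Fin 2) (Fin 2) F) := rfl

theorem up_comm_cst (g : GL (Pt j) F) (q : GL (Fin 2) F) : up g * cst q = cst q * up g := by
  refine Units.ext (Matrix.ext fun ⟨x, i⟩ ⟨y, l⟩ => ?_)
  simp only [Units.val_mul, up_val, cst_val, Matrix.mul_apply, upM_apply, blkM_apply, Fintype.sum_prod_type]
  rw [Finset.sum_eq_single y (fun z _ hz => by simp [hz]) (by simp),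
    Finset.sum_eq_single x (fun z _ hz => by simp [Ne.symm hz]) (by simp)]
  fin_cases i <;> fin_cases l <;> simp [Fin.sum_univ_two, mul_comm]

theorem up_sd_const (c : ZMod 2) : up (sd F fun _ : Pt j => c) = cst (sg c : GL (Fin 2) F) := by
  refine Units.ext (Matrix.ext fun ⟨x, i⟩ ⟨y, l⟩ => ?_)
  rw [up_val, upM_apply, cst_val, blkM_apply]
  rcases zm_cases c with rfl | rfl <;> by_cases h : x = y <;> by_cases h' : i = l <;>
    simp [sd, sg_one, sgn_one, Matrix.one_apply, h, h']

/-! ### The quaternion group on the last qubit -/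

/-- The parameters of the second generator of the quaternion group. -/
structure Par (F : Type*) [Field F] where
  al : F
  be : F
  eq : al ^ 2 + be ^ 2 = -1

/-- The complex structure. -/
def jq : GL (Fin 2) F where
  val := !![0, 1; -1, 0]
  inv := !![0, -1; 1, 0]
  val_inv := by ext i l; fin_cases i <;> fin_cases l <;> simp
  inv_val := by ext i l; fin_cases i <;> fin_cases l <;> simp

/-- The second generator. -/
def aq (p : Par F) : GL (Fin 2) F where
  val := !![p.al, p.be; p.be, -p.al]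
  inv := !![-p.al, -p.be; -p.be, p.al]
  val_inv := by
    ext i l; fin_cases i <;> fin_cases l <;> simp <;> first | ring1 | linear_combination -p.eq
  inv_val := by
    ext i l; fin_cases i <;> fin_cases l <;> simp <;> first | ring1 | linear_combination -p.eq

theorem jq_sq : (jq : GL (Fin 2) F) * jq = -1 :=
  Units.ext (by ext i l; fin_cases i <;> fin_cases l <;> simp [jq])

theorem aq_sq (p : Par F) : aq p * aq p = -1 :=
  Units.ext (by
    ext i l; fin_cases i <;> fin_cases l <;> simp [aq] <;> first | ring1 | linear_combination p.eq)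

theorem aq_jq (p : Par F) : aq p * jq = -(jq * aq p) :=
  Units.ext (by ext i l; fin_cases i <;> fin_cases l <;> simp [aq, jq])

/-- An element of the quaternion group. -/
def qel (p : Par F) (c d e : ZMod 2) : GL (Fin 2) F :=
  (sg c : GL (Fin 2) F) * (if d = 0 then 1 else jq) * (if e = 0 then 1 else aq p)

theorem qel_mul (p : Par F) (c d e c' d' e' : ZMod 2) :
    qel p c d e * qel p c' d' e' = qel p (c + c' + e * d' + d * d' + e * e') (d + d') (e + e') := by
  have hJ := jq_sq (F := F)
  have hA := aq_sq p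
  have hAJ := aq_jq p
  have hJJ : ∀ g : GL (Fin 2) F, jq * (jq * g) = -g := fun g => by rw [← mul_assoc, hJ, neg_one_mul]
  have hAA : ∀ g : GL (Fin 2) F, aq p * (aq p * g) = -g := fun g => by rw [← mul_assoc, hA, neg_one_mul]
  have hAJ' : ∀ g : GL (Fin 2) F, aq p * (jq * g) = -(jq * (aq p * g)) := fun g => by
    rw [← mul_assoc, hAJ, neg_mul, mul_assoc]
  rcases zm_cases c with rfl | rfl <;> rcases zm_cases d with rfl | rfl <;> rcases zm_cases e with rfl | rfl <;>
    rcases zm_cases c' with rfl | rfl <;> rcases zm_cases d' with rfl | rfl <;>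
      rcases zm_cases e' with rfl | rfl <;>
        simp [qel, sg_one, show (1 : ZMod 2) + 1 = 0 by decide, mul_assoc, hJ, hA, hAJ, hJJ, hAA, hAJ']

theorem qel_zero (p : Par F) : qel p 0 0 0 = 1 := by simp [qel]

/-- The quaternion group on the last qubit. -/
def Q8 (p : Par F) : Subgroup (GL (Fin 2) F) where
  carrier := {g | ∃ c d e, g = qel p c d e}
  mul_mem' := by
    rintro _ _ ⟨c, d, e, rfl⟩ ⟨c', d', e', rfl⟩
    exact ⟨_, _, _, qel_mul p c d e c' d' e'⟩
  one_mem' := ⟨0, 0, 0, (qel_zero p).symm⟩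
  inv_mem' := by
    rintro _ ⟨c, d, e, rfl⟩
    refine ⟨c + e * d + d * d + e * e, d, e, inv_eq_of_mul_eq_one_right ?_⟩
    rw [qel_mul, ← qel_zero p]
    congr 1 <;> grind

theorem qel_mem (p : Par F) (c d e : ZMod 2) : qel p c d e ∈ Q8 p := ⟨c, d, e, rfl⟩

theorem sg_mem (p : Par F) (c : ZMod 2) : (sg c : GL (Fin 2) F) ∈ Q8 p := ⟨c, 0, 0, by simp [qel]⟩

theorem jq_mem (p : Par F) : jq ∈ Q8 p := ⟨0, 1, 0, by simp [qel]⟩

theorem aq_mem (p : Par F) : aq p ∈ Q8 p := ⟨0, 0, 1, by simp [qel]⟩

/-! ### The extraspecial group of minus type -/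

/-- The elements: a translation after linear signs, times a quaternion. -/
noncomputable def el (a b : Pt j) (q : GL (Fin 2) F) : GL (Ix j) F := up (pau F a b) * cst q

theorem el_mul (a b a' b' : Pt j) (q q' : GL (Fin 2) F) :
    el a b q * el a' b' q' = el (a + a') (b + b') (sg (ip b a') * q * q') := by
  rw [el, el, el, mul_assoc, ← mul_assoc (cst q), ← up_comm_cst, ← mul_assoc, ← mul_assoc, ← map_mul, pau_mul,
    sd_const_mul, map_mul, up_sd_const, map_mul cst, map_mul cst]
  simp only [mul_assoc]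

theorem el_zero : el (0 : Pt j) 0 (1 : GL (Fin 2) F) = 1 := by
  rw [el, pau_zero, map_one, map_one, mul_one]

/-- The extraspecial group. -/
def Rm (p : Par F) : Subgroup (GL (Ix j) F) where
  carrier := {g | ∃ a b, ∃ q ∈ Q8 p, g = el a b q}
  mul_mem' := by
    rintro _ _ ⟨a, b, q, hq, rfl⟩ ⟨a', b', q', hq', rfl⟩
    exact ⟨_, _, _, mul_mem (mul_mem (sg_mem p _) hq) hq', el_mul a b a' b' q q'⟩
  one_mem' := ⟨0, 0, 1, one_mem _, el_zero.symm⟩
  inv_mem' := by
    rintro _ ⟨a, b, q, hq, rfl⟩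
    refine ⟨a, b, q⁻¹ * sg (ip b a), mul_mem (inv_mem hq) (sg_mem p _), inv_eq_of_mul_eq_one_right ?_⟩
    rw [el_mul, pt_add_self, pt_add_self, mul_assoc (sg (ip b a)), mul_inv_cancel_left, ← sg_add,
      CharTwo.add_self_eq_zero, sg_zero, el_zero]

theorem el_mem (p : Par F) (a b : Pt j) {q : GL (Fin 2) F} (hq : q ∈ Q8 p) : el a b q ∈ Rm (j := j) p :=
  ⟨a, b, q, hq, rfl⟩

/-- The normaliser of the extraspecial group. -/
def Nr (p : Par F) (g : GL (Ix j) F) : Prop := ∀ r ∈ Rm p, g * r * g⁻¹ ∈ Rm p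

/-! ### The symplectic form -/

/-- The form: on every point the determinant form of the last qubit. -/
def sform (u v : Ix j → F) : F := ∑ x : Pt j, (u (x, 0) * v (x, 1) - u (x, 1) * v (x, 0))

/-- The isometry group of the form. -/
def spM (j : ℕ) (F : Type*) [Field F] : Subgroup (GL (Ix j) F) where
  carrier := {g | ∀ u v, sform ((g : Matrix (Ix j) (Ix j) F) *ᵥ u) ((g : Matrix (Ix j) (Ix j) F) *ᵥ v) = sform u v}
  mul_mem' {g h} hg hh := fun u v => by
    rw [Units.val_mul, ← Matrix.mulVec_mulVec, ← Matrix.mulVec_mulVec, hg, hh]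
  one_mem' := fun u v => by simp
  inv_mem' {g} hg := fun u v => by
    have h := hg (((g⁻¹ : GL (Ix j) F) : Matrix (Ix j) (Ix j) F) *ᵥ u)
      (((g⁻¹ : GL (Ix j) F) : Matrix (Ix j) (Ix j) F) *ᵥ v)
    rwa [Matrix.mulVec_mulVec, Matrix.mulVec_mulVec, Units.mul_inv, Matrix.one_mulVec, Matrix.one_mulVec,
      eq_comm] at h

theorem mem_spM {g : GL (Ix j) F} : g ∈ spM j F ↔
    ∀ u v, sform ((g : Matrix (Ix j) (Ix j) F) *ᵥ u) ((g : Matrix (Ix j) (Ix j) F) *ᵥ v) = sform u v := Iff.rfl

/-- An overgroup of the normaliser inside the symplectic group: what is used of it. -/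
structure BaseMinus (p : Par F) (M : Subgroup (GL (Ix j) F)) : Prop where
  le : M ≤ spM j F
  quad : ∀ f, Quad f → up (sd F f) ∈ M
  aff : ∀ π, AffPerm π → up (pm F π) ∈ M
  had : ∀ a b, a ≠ b → ∃ u : GL (Pt j) F, (u : Matrix (Pt j) (Pt j) F) = hh F a b ∧ up u ∈ M
  q8 : ∀ q ∈ Q8 p, cst q ∈ M
  ctrl : ∀ l : Pt j → ZMod 2, Aff l → ∀ q ∈ Q8 p, blk (fun x => if l x = 0 then 1 else q) ∈ M
  rot : ∃ w : GL (Fin 2) F, (w : Matrix (Fin 2) (Fin 2) F) =
    (2 : F)⁻¹ • (1 + jq.val + (aq p).val + jq.val * (aq p).val) ∧ cst w ∈ M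
  had1 : ∀ a : Fin j, ∃ g ∈ M, (g : Matrix (Ix j) (Ix j) F) =
    (2 : F)⁻¹ • (upM ((pau F (pe a) 0).val + (pau F 0 (pe a)).val) * blkM fun _ => 1 + jq.val)

/-- Every diagonal sign element has quadratic signs. -/
def SignsMinus (M : Subgroup (GL (Ix j) F)) : Prop := ∀ f, up (sd F f) ∈ M → Quad f

end Cfsg.Agent.C6Minus10
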