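import Cfsg.Agent.Lib.C6Minus10Free

/-!
The extraspecial group of minus type as a group: uniqueness of the coordinates of its elements, signs, and the
normaliser as a subgroup.
-/

set_option autoImplicit false
set_option linter.unusedSectionVars false

namespace Cfsg.Agent.C6Minus10

open Matrix Cfsg.Agent.C6Plus10
open scoped MatrixGroups

variable {F : Type*} [Field F] {j : ℕ} {p : Par F} {M : Subgroup (GL (Ix j) F)} {S : Finset (Fin j)}

theorem qel_one_iff (h2 : (2 : F) ≠ 0) {c d e : ZMod 2} (h : qel p c d e = 1) : c = 0 ∧ d = 0 ∧ e = 0 := by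
  have hne : (1 : F) ≠ -1 := fun e => h2 (by linear_combination e)
  have hval := congrArg (fun u : GL (Fin 2) F => (u : Matrix (Fin 2) (Fin 2) F)) h
  have h00 := congrFun (congrFun hval 0) 0
  have h01 := congrFun (congrFun hval 0) 1
  rcases zm_cases c with rfl | rfl <;> rcases zm_cases d with rfl | rfl <;> rcases zm_cases e with rfl | rfl <;>
    simp [qel, sg_one, jq, aq, Matrix.mul_apply, Fin.sum_univ_two] at h00 h01 ⊢
  all_goals
    first
      | exact hne h00.symm
      | (have := p.eq; rw [h00, h01] at this; exact hne (by linear_combination this))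
      | (have := p.eq; rw [h01, neg_eq_iff_eq_neg.1 h00] at this; exact hne (by linear_combination this))
      | (have := p.eq; rw [neg_eq_iff_eq_neg.1 h01, h00] at this; exact hne (by linear_combination this))
      | (have := p.eq; rw [neg_eq_iff_eq_neg.1 h01, neg_eq_iff_eq_neg.1 h00] at this;
         exact hne (by linear_combination this))

theorem qel_inv (c d e : ZMod 2) : (qel p c d e)⁻¹ = qel p (c + (e * d + d * d + e * e)) d e := by
  refine inv_eq_of_mul_eq_one_right ?_
  rw [qel_mul, ← qel_zero p]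
  congr 1 <;> grind

theorem qel_inj (h2 : (2 : F) ≠ 0) {c d e c' d' e' : ZMod 2} (h : qel p c d e = qel p c' d' e') :
    c = c' ∧ d = d' ∧ e = e' := by
  have h1 : qel p c d e * (qel p c' d' e')⁻¹ = 1 := by rw [h, mul_inv_cancel]
  rw [qel_inv, qel_mul] at h1
  obtain ⟨hc, hd, he⟩ := qel_one_iff h2 h1
  rw [CharTwo.add_eq_zero] at hd he
  subst hd he
  refine ⟨?_, rfl, rfl⟩
  grind

theorem el_apply (a b : Pt j) (q : GL (Fin 2) F) (x : Pt j) (i l : Fin 2) :
    ((el a b q : GL (Ix j) F) : Matrix (Ix j) (Ix j) F) (x + a, i) (x, l) =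
      sgn F (ip b x) * (q : Matrix (Fin 2) (Fin 2) F) i l := by
  rw [el, Units.val_mul, Matrix.mul_apply, Finset.sum_eq_single (x, i)]
  · rw [up_val, upM_apply, cst_val, blkM_apply, if_pos rfl, if_pos rfl, pau_eq, mon_apply, Equiv.coe_addRight,
      if_pos rfl]
  · rintro ⟨z, s⟩ _ hz
    rw [up_val, upM_apply, cst_val, blkM_apply]
    by_cases hs : i = s
    · rw [if_neg (fun e : z = x => hz (by rw [e, hs])), mul_zero]
    · rw [if_neg hs, zero_mul]
  · simp

theorem el_inj (h2 : (2 : F) ≠ 0) {a b a' b' : Pt j} {q q' : GL (Fin 2) F} (h : el a b q = el a' b' q') :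
    a = a' ∧ b = b' ∧ q = q' := by
  have ha : a = a' := by
    by_contra hne
    have hz : ∀ i l, (q : Matrix (Fin 2) (Fin 2) F) i l = 0 := fun i l => by
      have e := el_apply a b q 0 i l
      rw [h, zero_add, ip_zero_right, sgn_zero, one_mul] at e
      rw [← e, el, Units.val_mul, Matrix.mul_apply]
      refine Finset.sum_eq_zero ?_
      rintro ⟨z, s⟩ _
      rw [up_val, upM_apply, cst_val, blkM_apply]
      by_cases hz0 : z = 0
      · rw [pau_eq, mon_apply, Equiv.coe_addRight, if_neg (fun e' : a = z + a' => hne (by rw [e', hz0, zero_add])),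
          ite_self, zero_mul]
      · rw [if_neg hz0, mul_zero]
    have h1 := congrFun (congrFun (Units.mul_inv q) 0) 0
    rw [Matrix.mul_apply, Matrix.one_apply_eq] at h1
    simp [hz] at h1
  subst ha
  have hq : q = q' := Units.ext (Matrix.ext fun i l => by
    have e := el_apply a b q 0 i l
    rw [h, el_apply, ip_zero_right, ip_zero_right, sgn_zero, one_mul, one_mul] at e
    exact e.symm)
  subst hq
  refine ⟨rfl, funext fun t => ?_, rfl⟩
  obtain ⟨i, l, hil⟩ : ∃ i l, (q : Matrix (Fin 2) (Fin 2) F) i l ≠ 0 := by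
    by_contra hno
    push Not at hno
    have h1 := congrFun (congrFun (Units.mul_inv q) 0) 0
    rw [Matrix.mul_apply, Matrix.one_apply_eq] at h1
    simp [hno] at h1
  have e := el_apply a b q (pe t) i l
  rw [h, el_apply, ip_pe_right, ip_pe_right] at e
  exact (sgn_inj h2 (mul_right_cancel₀ hil e)).symm

theorem up_inj (h2 : (2 : F) ≠ 0) {g g' : GL (Pt j) F} (h : up g = up g') : g = g' := Units.ext (Matrix.ext fun x y => by
  have := congrArg (fun u : GL (Ix j) F => (u : Matrix (Ix j) (Ix j) F) (x, 0) (y, 0)) h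
  simpa [up_val, upM_apply] using this)

theorem el_sg (a b : Pt j) (c : ZMod 2) :
    (el a b (sg c : GL (Fin 2) F)) = up (sd F (fun _ => c) * pau F a b) := by
  rw [el, ← up_sd_const, ← map_mul, sd_const_mul]

theorem el_one (a b : Pt j) : (el a b (1 : GL (Fin 2) F)) = up (pau F a b) := by rw [el, map_one, mul_one]

theorem el_jq : (el 0 0 jq : GL (Ix j) F) = cst jq := by rw [el, pau_zero, map_one, one_mul]

theorem up_pe (i : Fin j) : (up (sd F (ip (pe i))) : GL (Ix j) F) = el 0 (pe i) 1 := by rw [el_one, pau_sd]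

/-- A sign as an element of the last qubit. -/
theorem cst_sg_comm (c : ZMod 2) (g : GL (Ix j) F) :
    cst (sg c : GL (Fin 2) F) * g = g * cst (sg c : GL (Fin 2) F) := by
  rcases zm_cases c with rfl | rfl
  · simp
  · rw [show (cst (sg (1 : ZMod 2) : GL (Fin 2) F) : GL (Ix j) F) = -1 from Units.ext (by
      rw [sg_one, cst_val, Units.val_neg, Units.val_neg, Units.val_one]
      ext ⟨x, i⟩ ⟨y, l⟩
      by_cases e : x = y <;> by_cases e' : i = l <;> simp [blkM_apply, Matrix.one_apply, e, e'])]
    simp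

theorem el_sg_mul (c : ZMod 2) (a b : Pt j) (q : GL (Fin 2) F) :
    el a b (sg c * q) = cst (sg c : GL (Fin 2) F) * el a b q := by
  rw [el, el, map_mul, ← mul_assoc, up_comm_cst, mul_assoc]

theorem el_square (a b : Pt j) (v : ZMod 2 × ZMod 2) :
    el a b (qb p v) * el a b (qb p v) = cst (sg (ip b a + (v.2 * v.1 + v.1 + v.2)) : GL (Fin 2) F) := by
  rw [el_mul, pt_add_self, pt_add_self, el, pau_zero, map_one, one_mul, mul_assoc, qb_mul, ← mul_assoc, ← sg_add,
    show v + v = 0 from Prod.ext (CharTwo.add_self_eq_zero _) (CharTwo.add_self_eq_zero _), qb_zero, mul_one]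
  congr 2
  have h1 : v.1 * v.1 = v.1 := by rcases zm_cases v.1 with e | e <;> simp [e]
  have h3 : v.2 * v.2 = v.2 := by rcases zm_cases v.2 with e | e <;> simp [e]
  linear_combination h1 + h3

/-- The inverse of an element of the extraspecial group differs by a sign. -/
theorem rm_inv {x : GL (Ix j) F} (hx : x ∈ Rm p) :
    ∃ c : ZMod 2, x⁻¹ = cst (sg c : GL (Fin 2) F) * x := by
  obtain ⟨a, b, q, ⟨c, d, e, rfl⟩, rfl⟩ := hx
  refine ⟨ip b a + (e * d + d + e), inv_eq_of_mul_eq_one_right ?_⟩
  rw [← mul_assoc, ← cst_sg_comm, mul_assoc, qel_eq, el_sg_mul]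
  have hs := el_square (p := p) a b (d, e)
  calc cst (sg (ip b a + (e * d + d + e)) : GL (Fin 2) F) *
        (cst (sg c : GL (Fin 2) F) * el a b (qb p (d, e)) * (cst (sg c : GL (Fin 2) F) * el a b (qb p (d, e))))
      = cst (sg (ip b a + (e * d + d + e)) : GL (Fin 2) F) * (cst (sg c : GL (Fin 2) F) * cst (sg c : GL (Fin 2) F) *
          (el a b (qb p (d, e)) * el a b (qb p (d, e)))) := by
        rw [mul_assoc (cst (sg c : GL (Fin 2) F)) (el a b _), ← mul_assoc (el a b (qb p (d, e))),
          ← cst_sg_comm c (el a b (qb p (d, e)))]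
        simp only [mul_assoc]
    _ = 1 := by
        rw [hs, ← map_mul cst, ← sg_add, CharTwo.add_self_eq_zero, sg_zero, map_one, one_mul, ← map_mul, ← sg_add,
          CharTwo.add_self_eq_zero, sg_zero, map_one]

theorem nr_one_m : Nr p (1 : GL (Ix j) F) := fun r hr => by simpa using hr

theorem Nr.pow' {g : GL (Ix j) F} (hg : Nr p g) : ∀ n : ℕ, Nr p (g ^ n)
  | 0 => by rw [pow_zero]; exact nr_one_m
  | n + 1 => by rw [pow_succ]; exact nr_mul p (Nr.pow' hg n) hg

theorem Nr.inv' [Finite F] {g : GL (Ix j) F} (hg : Nr p g) : Nr p g⁻¹ := by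
  haveI : Finite (GL (Ix j) F) := Finite.of_injective _ Units.val_injective
  have h := orderOf_pos g
  rw [inv_eq_of_mul_eq_one_right (b := g ^ (orderOf g - 1))
    (by rw [← pow_succ', show orderOf g - 1 + 1 = orderOf g by omega, pow_orderOf_eq_one])]
  exact Nr.pow' hg _

/-- The normaliser. -/
def NrGm [Finite F] (p : Par F) (j : ℕ) : Subgroup (GL (Ix j) F) where
  carrier := {g | Nr p g}
  one_mem' := nr_one_m
  mul_mem' := fun hg hh => nr_mul p hg hh
  inv_mem' := Nr.inv'

theorem nr_of_mem {x : GL (Ix j) F} (hx : x ∈ Rm p) : Nr p x :=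
  fun r hr => mul_mem (mul_mem hx hr) (inv_mem hx)

end Cfsg.Agent.C6Minus10
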