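/-
Subspaces of a symplectic space and subgroups containing many symplectic transvections: perps, orthogonal
projections, transitivity on vectors and on non-degenerate subspaces by transvections.
-/
import Mathlib
import Cfsg.Agent.Lib.TransvectionMax

set_option autoImplicit false
set_option linter.unusedSectionVars false

namespace Cfsg.Agent.TransvectionSymp

open Cfsg.Agent.TransvectionMax
open scoped MatrixGroups Matrix

variable {ι : Type} [Fintype ι] [DecidableEq ι] {F : Type*} [Field F]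
  {f : (ι → F) → (ι → F) → F}

/-- The vectors orthogonal to every member of W. -/
def perp (hf : Cfsg.Geo.IsBilinearForm f) (W : Submodule F (ι → F)) : Submodule F (ι → F) where
  carrier := {x | ∀ w ∈ W, f w x = 0}
  add_mem' {a b} ha hb := fun w hw => by rw [hf.add_right, ha w hw, hb w hw, add_zero]
  zero_mem' := fun w _ => zero_right hf w
  smul_mem' c x hx := fun w hw => by rw [hf.smul_right, hx w hw, mul_zero]

lemma mem_perp (hf : Cfsg.Geo.IsBilinearForm f) {W : Submodule F (ι → F)} {x : ι → F} :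
    x ∈ perp hf W ↔ ∀ w ∈ W, f w x = 0 := Iff.rfl

/-- Two subspaces covering a subspace: one of them contains it. -/
lemma le_or_le_of_forall {X A B : Submodule F (ι → F)} (h : ∀ x ∈ X, x ∈ A ∨ x ∈ B) : X ≤ A ∨ X ≤ B := by
  by_contra! hc
  obtain ⟨a, haX, haA⟩ := Set.not_subset.mp hc.1
  obtain ⟨b, hbX, hbB⟩ := Set.not_subset.mp hc.2
  have haB : a ∈ B := (h a haX).resolve_left haA
  have hbA : b ∈ A := (h b hbX).resolve_right hbB
  rcases h (a + b) (X.add_mem haX hbX) with h1 | h1
  · exact haA (by simpa using A.sub_mem h1 hbA)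
  · exact hbB (by simpa using B.sub_mem h1 haB)

section

variable (hf : Cfsg.Geo.IsSymplecticForm f)
include hf

lemma skew_zero {x y : ι → F} (h : f x y = 0) : f y x = 0 := by rw [hf.skew, h, neg_zero]

lemma skew_ne {x y : ι → F} (h : f x y ≠ 0) : f y x ≠ 0 := fun h' => h (skew_zero hf h')

/-- A vector outside W is detected by some vector of the perp of W. -/
lemma exists_perp_ne {W : Submodule F (ι → F)} {x : ι → F} (hx : x ∉ W) :
    ∃ a ∈ perp hf.bilinear W, f x a ≠ 0 := by
  obtain ⟨φ, hφx, hφW⟩ := Submodule.exists_dual_map_eq_bot_of_notMem hx inferInstance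
  obtain ⟨a, ha⟩ := exists_row hf.bilinear hf.nondegenerate (fun i => φ (Pi.single i 1))
  have hφ : ∀ y, f y a = φ y := fun y => by
    rw [← ha, LinearMap.pi_apply_eq_sum_univ φ y, dotProduct]
    refine Finset.sum_congr rfl fun i _ => ?_
    rw [smul_eq_mul, mul_comm]
    congr 1
    congr 1
    ext k
    simp [Pi.single_apply, eq_comm]
  refine ⟨a, fun w hw => ?_, by rwa [hφ]⟩
  rw [hφ]
  have : φ w ∈ W.map φ := Submodule.mem_map_of_mem hw
  rwa [hφW, Submodule.mem_bot] at this

/-- Two non-zero functionals `f · a`, `f · b` on a subspace have a common non-zero point. -/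
lemma exists_common_on {W : Submodule F (ι → F)} {a b : ι → F} (ha : ∃ x ∈ W, f x a ≠ 0)
    (hb : ∃ x ∈ W, f x b ≠ 0) : ∃ z ∈ W, f z a ≠ 0 ∧ f z b ≠ 0 := by
  obtain ⟨x, hx, hxa⟩ := ha
  obtain ⟨y, hy, hyb⟩ := hb
  by_cases h1 : f x b = 0
  · by_cases h2 : f y a = 0
    · exact ⟨x + y, W.add_mem hx hy, by rwa [hf.bilinear.add_left, h2, add_zero],
        by rwa [hf.bilinear.add_left, h1, zero_add]⟩
    · exact ⟨y, hy, h2, hyb⟩
  · exact ⟨x, hx, hxa, h1⟩

/-- Orthogonal projection on a non-degenerate subspace. -/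
lemma exists_proj {U : Submodule F (ι → F)} (hU : Cfsg.Geo.IsNondegenerateOn f U) (y : ι → F) :
    ∃ p ∈ U, ∀ x ∈ U, f x p = f x y := by
  let L : U →ₗ[F] Module.Dual F U :=
    { toFun := fun p => (fLeft hf.bilinear (p : ι → F)).comp U.subtype
      map_add' := fun a b => LinearMap.ext fun x => hf.bilinear.add_right _ _ _
      map_smul' := fun c a => LinearMap.ext fun x => hf.bilinear.smul_right _ _ _ }
  have hinj : Function.Injective L := by
    rw [← LinearMap.ker_eq_bot, LinearMap.ker_eq_bot']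
    intro p hp
    by_contra h
    obtain ⟨x, hx, hxp⟩ := (hU p p.2 (by simpa using h)).1
    exact hxp (LinearMap.congr_fun hp ⟨x, hx⟩)
  obtain ⟨p, hp⟩ := (LinearMap.injective_iff_surjective_of_finrank_eq_finrank
    (Subspace.dual_finrank_eq (K := F) (V := U)).symm).mp hinj ((fLeft hf.bilinear y).comp U.subtype)
  exact ⟨p, p.2, fun x hx => LinearMap.congr_fun hp ⟨x, hx⟩⟩

/-- The decomposition of a vector along a non-degenerate subspace and its perp. -/
lemma exists_split {U : Submodule F (ι → F)} (hU : Cfsg.Geo.IsNondegenerateOn f U) (y : ι → F) :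
    ∃ p ∈ U, y - p ∈ perp hf.bilinear U := by
  obtain ⟨p, hp, h⟩ := exists_proj hf hU y
  exact ⟨p, hp, fun x hx => by rw [TransvectionMax.sub_right hf.bilinear, h x hx, sub_self]⟩

lemma perp_nondegenerate {U : Submodule F (ι → F)} (hU : Cfsg.Geo.IsNondegenerateOn f U) :
    Cfsg.Geo.IsNondegenerateOn f (perp hf.bilinear U) := by
  intro w hw hw0
  obtain ⟨y, hy⟩ := (hf.nondegenerate w hw0).1
  obtain ⟨p, hp, hyp⟩ := exists_split hf hU y
  have h1 : f (y - p) w ≠ 0 := by
    rwa [TransvectionMax.sub_left hf.bilinear, hw p hp, sub_zero]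
  exact ⟨⟨y - p, hyp, h1⟩, ⟨y - p, hyp, skew_ne hf h1⟩⟩

/-- Within a non-degenerate subspace, the subgroup generated by its transvections moves any non-zero vector
to any other. -/
lemma move_vec {U : Submodule F (ι → F)} (hU : Cfsg.Geo.IsNondegenerateOn f U)
    {v w : ι → F} (hv : v ∈ U) (hw : w ∈ U) (hv0 : v ≠ 0) (hw0 : w ≠ 0) :
    ∃ h ∈ Subgroup.closure {g : GL ι F | ∃ u ∈ U, ∃ c, g = st f u c}, (h : Matrix ι ι F) *ᵥ v = w := by
  obtain ⟨z, hz, hzv, hzw⟩ := exists_common_on hf (hU v hv hv0).1 (hU w hw hw0).1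
  refine ⟨st f (w - z) (f z w)⁻¹ * st f (z - v) (f v z)⁻¹, Subgroup.mul_mem _ ?_ ?_, ?_⟩
  · exact Subgroup.subset_closure ⟨_, U.sub_mem hw hz, _, rfl⟩
  · exact Subgroup.subset_closure ⟨_, U.sub_mem hz hv, _, rfl⟩
  · rw [mul_act, st_move hf (skew_ne hf hzv), st_move hf hzw]

/-- A group element in the closure of the transvections of U is an isometry, preserves U and fixes its perp. -/
lemma closure_props {U : Submodule F (ι → F)} {h : GL ι F}
    (hh : h ∈ Subgroup.closure {g : GL ι F | ∃ u ∈ U, ∃ c, g = st f u c}) :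
    (∀ x y, f ((h : Matrix ι ι F) *ᵥ x) ((h : Matrix ι ι F) *ᵥ y) = f x y) ∧
    (∀ x, (h : Matrix ι ι F) *ᵥ x - x ∈ U) ∧
    (∀ x ∈ perp hf.bilinear U, (h : Matrix ι ι F) *ᵥ x = x) := by
  induction hh using Subgroup.closure_induction with
  | mem g hg =>
    obtain ⟨u, hu, c, rfl⟩ := hg
    refine ⟨st_preserves hf u c, fun x => ?_, fun x hx => st_fix hf u c (skew_zero hf (hx u hu))⟩
    rw [st_act hf, add_sub_cancel_left]
    exact U.smul_mem _ hu
  | one => exact ⟨fun x y => by simp, fun x => by simp, fun x _ => by simp⟩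
  | mul a b _ _ ha hb =>
    refine ⟨fun x y => by rw [mul_act, mul_act, ha.1, hb.1], fun x => ?_, fun x hx => by
      rw [mul_act, hb.2.2 x hx, ha.2.2 x hx]⟩
    rw [mul_act, ← sub_add_sub_cancel _ ((b : Matrix ι ι F) *ᵥ x) x]
    exact U.add_mem (ha.2.1 _) (hb.2.1 x)
  | inv a _ ha =>
    refine ⟨fun x y => by rw [← ha.1, act_inv_act, act_inv_act], fun x => ?_, fun x hx => ?_⟩
    · have := U.neg_mem (ha.2.1 (((a⁻¹ : GL ι F) : Matrix ι ι F) *ᵥ x))
      rwa [act_inv_act, neg_sub] at this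
    · conv_lhs => rw [← ha.2.2 x hx]
      rw [inv_act_act]

/-- Two orthogonal-complement functionals cut two dimensions off a subspace containing a hyperbolic pair. -/
lemma finrank_inf_perp_pair {W : Submodule F (ι → F)} {v w : ι → F} (hv : v ∈ W) (hw : w ∈ W)
    (hvw : f v w = 1) :
    Module.finrank F (W ⊓ perp hf.bilinear (Submodule.span F {v, w}) : Submodule F (ι → F)) + 2
      = Module.finrank F W := by
  let L : (ι → F) →ₗ[F] F × F := (fRight hf.bilinear v).prod (fRight hf.bilinear w)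
  have hker : W ⊓ perp hf.bilinear (Submodule.span F {v, w}) = W ⊓ LinearMap.ker L := by
    ext x
    simp only [Submodule.mem_inf, mem_perp, LinearMap.mem_ker]
    refine and_congr_right fun _ => ⟨fun h => ?_, fun h u hu => ?_⟩
    · exact Prod.ext (h v (Submodule.subset_span (by simp))) (h w (Submodule.subset_span (by simp)))
    · obtain ⟨a, b, rfl⟩ := Submodule.mem_span_pair.mp hu
      have h1 : f v x = 0 := (Prod.ext_iff.mp h).1
      have h2 : f w x = 0 := (Prod.ext_iff.mp h).2
      simp [hf.bilinear.add_left, hf.bilinear.smul_left, h1, h2]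
  have hrange : LinearMap.range (L.domRestrict W) = ⊤ := by
    rw [LinearMap.range_eq_top]
    rintro ⟨a, b⟩
    refine ⟨⟨a • w + (-b) • v, W.add_mem (W.smul_mem _ hw) (W.smul_mem _ hv)⟩, ?_⟩
    have h21 : f w v = -1 := by rw [hf.skew, hvw]
    change (f v (a • w + (-b) • v), f w (a • w + (-b) • v)) = (a, b)
    simp [hf.bilinear.add_right, hf.bilinear.smul_right, TransvectionMax.neg_right hf.bilinear, hvw, h21, hf.alternating]
  have hk : LinearMap.ker (L.domRestrict W) = (W ⊓ LinearMap.ker L).comap W.subtype := by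
    ext x
    simp [x.2]
  have := LinearMap.finrank_range_add_finrank_ker (L.domRestrict W)
  rw [hrange, finrank_top, Module.finrank_prod, Module.finrank_self, hk,
    (Submodule.comapSubtypeEquivOfLe inf_le_left).finrank_eq] at this
  rw [hker]
  omega

lemma inf_perp_pair_nondegenerate {W : Submodule F (ι → F)} (hW : Cfsg.Geo.IsNondegenerateOn f W)
    {v w : ι → F} (hv : v ∈ W) (hw : w ∈ W) (hvw : f v w = 1) :
    Cfsg.Geo.IsNondegenerateOn f (W ⊓ perp hf.bilinear (Submodule.span F {v, w})) := by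
  rintro x ⟨hxW, hx⟩ hx0
  obtain ⟨y, hy, hyx⟩ := (hW x hxW hx0).1
  have hxv := hx v (Submodule.subset_span (by simp))
  have hxw := hx w (Submodule.subset_span (by simp))
  set y' := y - f y w • v - f v y • w with hy'
  have h21 : f w v = -1 := by rw [hf.skew, hvw]
  have hmem : y' ∈ W ⊓ perp hf.bilinear (Submodule.span F {v, w}) := by
    refine ⟨W.sub_mem (W.sub_mem hy (W.smul_mem _ hv)) (W.smul_mem _ hw), fun u hu => ?_⟩
    obtain ⟨a, b, rfl⟩ := Submodule.mem_span_pair.mp hu
    rw [hy']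
    simp only [hf.bilinear.add_left, hf.bilinear.smul_left, TransvectionMax.sub_right hf.bilinear,
      hf.bilinear.smul_right, hvw, h21, hf.alternating]
    rw [hf.skew y w]
    ring
  have h1 : f y' x ≠ 0 := by
    rw [hy', TransvectionMax.sub_left hf.bilinear, TransvectionMax.sub_left hf.bilinear,
      hf.bilinear.smul_left, hf.bilinear.smul_left, hxv, hxw]
    simpa using hyx
  exact ⟨⟨y', hmem, h1⟩, ⟨y', hmem, skew_ne hf h1⟩⟩

/-- Transvections of a non-degenerate U are transitive on its non-degenerate subspaces of a given dimension. -/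
lemma move_subspace : ∀ (d : ℕ) {U W W' : Submodule F (ι → F)}, Cfsg.Geo.IsNondegenerateOn f U →
    Cfsg.Geo.IsNondegenerateOn f W → Cfsg.Geo.IsNondegenerateOn f W' → W ≤ U → W' ≤ U →
    Module.finrank F W = d → Module.finrank F W' = d →
    ∃ h ∈ Subgroup.closure {g : GL ι F | ∃ u ∈ U, ∃ c, g = st f u c},
      W.map (Matrix.toLin' (h : Matrix ι ι F)) = W' := by
  intro d
  induction d using Nat.strong_induction_on with
  | _ d ih =>
  intro U W W' hU hW hW' hWU hWU' hd hd'
  have hmapeq : ∀ (h : GL ι F) {X Y : Submodule F (ι → F)}, (∀ x ∈ X, (h : Matrix ι ι F) *ᵥ x ∈ Y) →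
      Module.finrank F X = Module.finrank F Y → X.map (Matrix.toLin' (h : Matrix ι ι F)) = Y := by
    intro h X Y hXY hfr
    apply Submodule.eq_of_le_of_finrank_eq
    · rintro _ ⟨x, hx, rfl⟩
      rw [Matrix.toLin'_apply]
      exact hXY x hx
    · rw [← hfr]
      refine (LinearEquiv.finrank_eq (Submodule.equivMapOfInjective _ ?_ X)).symm
      intro a b hab
      simp only [Matrix.toLin'_apply] at hab
      exact act_injective h hab
  rcases eq_or_ne W ⊥ with hbot | hbot
  · refine ⟨1, Subgroup.one_mem _, hmapeq 1 (fun x hx => ?_) (by rw [hd, hd'])⟩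
    rw [hbot, Submodule.mem_bot] at hx
    simp [hx]
  · obtain ⟨v, hv, hv0⟩ := Submodule.exists_mem_ne_zero_of_ne_bot hbot
    obtain ⟨w0, hw0, hvw0⟩ := (hW v hv hv0).2
    set w := (f v w0)⁻¹ • w0
    have hw : w ∈ W := W.smul_mem _ hw0
    have hvw : f v w = 1 := by rw [hf.bilinear.smul_right, inv_mul_cancel₀ hvw0]
    have hW'0 : W' ≠ ⊥ := by
      rintro rfl
      rw [finrank_bot] at hd'
      exact hbot (Submodule.finrank_eq_zero.mp (by rw [hd, ← hd']))
    obtain ⟨v', hv', hv'0⟩ := Submodule.exists_mem_ne_zero_of_ne_bot hW'0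
    obtain ⟨w0', hw0', hvw0'⟩ := (hW' v' hv' hv'0).2
    set w' := (f v' w0')⁻¹ • w0'
    have hw' : w' ∈ W' := W'.smul_mem _ hw0'
    have hvw' : f v' w' = 1 := by rw [hf.bilinear.smul_right, inv_mul_cancel₀ hvw0']
    obtain ⟨h1, hh1, h1v⟩ := move_vec hf hU (hWU hv) (hWU' hv') hv0 hv'0
    obtain ⟨hp1, hU1, -⟩ := closure_props hf hh1
    set w1 := (h1 : Matrix ι ι F) *ᵥ w
    have hw1 : w1 ∈ U := by simpa [w1] using U.add_mem (hU1 w) (hWU hw)
    have hvw1 : f v' w1 = 1 := by rw [← h1v, hp1, hvw]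
    -- move w1 to w' fixing v'
    obtain ⟨h2, hh2, h2v, h2w⟩ : ∃ h2 ∈ Subgroup.closure {g : GL ι F | ∃ u ∈ U, ∃ c, g = st f u c},
        (h2 : Matrix ι ι F) *ᵥ v' = v' ∧ (h2 : Matrix ι ι F) *ᵥ w1 = w' := by
      have fixv : ∀ {x y}, f v' x = 1 → f v' y = 1 → ∀ c,
          (st f (y - x) c : Matrix ι ι F) *ᵥ v' = v' := fun {x y} hx hy c =>
        st_fix hf _ _ (by rw [TransvectionMax.sub_right hf.bilinear, hx, hy, sub_self])
      by_cases h : f w1 w' = 0
      · have h' : f v' (w1 + v') = 1 := by rw [hf.bilinear.add_right, hf.alternating, hvw1, add_zero]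
        refine ⟨st f (w' - (w1 + v')) (f (w1 + v') w')⁻¹ * st f (w1 + v' - w1) (f w1 (w1 + v'))⁻¹,
          Subgroup.mul_mem _ ?_ ?_, ?_, ?_⟩
        · exact Subgroup.subset_closure ⟨_, U.sub_mem (hWU' hw') (U.add_mem hw1 (hWU' hv')), _, rfl⟩
        · exact Subgroup.subset_closure ⟨_, U.sub_mem (U.add_mem hw1 (hWU' hv')) hw1, _, rfl⟩
        · rw [mul_act, fixv hvw1 h', fixv h' hvw']
        · rw [mul_act, st_move hf, st_move hf]
          · rw [hf.bilinear.add_left, h, hvw', zero_add]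
            exact one_ne_zero
          · rw [hf.bilinear.add_right, hf.alternating, zero_add, hf.skew, hvw1]
            exact neg_ne_zero.mpr one_ne_zero
      · exact ⟨st f (w' - w1) (f w1 w')⁻¹,
          Subgroup.subset_closure ⟨_, U.sub_mem (hWU' hw') hw1, _, rfl⟩,
          fixv hvw1 hvw' _, st_move hf h⟩
    set k := h2 * h1 with hk
    have hkv : (k : Matrix ι ι F) *ᵥ v = v' := by rw [hk, mul_act, h1v, h2v]
    have hkw : (k : Matrix ι ι F) *ᵥ w = w' := by rw [hk, mul_act]; exact h2w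
    have hkC := Subgroup.mul_mem _ hh2 hh1
    obtain ⟨hpk, hUk, -⟩ := closure_props hf hkC
    set P := perp hf.bilinear (Submodule.span F {v', w'})
    set W1 := (W ⊓ perp hf.bilinear (Submodule.span F {v, w})).map (Matrix.toLin' (k : Matrix ι ι F))
    have hW1d : Module.finrank F W1 + 2 = d := by
      rw [← (Submodule.equivMapOfInjective _ (fun a b hab => act_injective k (by simpa using hab)) _).finrank_eq,
        finrank_inf_perp_pair hf hv hw hvw, hd]
    have hW1U : W1 ≤ U ⊓ P := by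
      rintro _ ⟨x, ⟨hxW, hx⟩, rfl⟩
      rw [Matrix.toLin'_apply]
      refine ⟨sub_add_cancel ((k : Matrix ι ι F) *ᵥ x) x ▸ U.add_mem (hUk x) (hWU hxW), fun u hu => ?_⟩
      obtain ⟨a, b, rfl⟩ := Submodule.mem_span_pair.mp hu
      rw [← hkv, ← hkw, ← Matrix.mulVec_smul, ← Matrix.mulVec_smul, ← Matrix.mulVec_add, hpk]
      exact hx _ (Submodule.mem_span_pair.mpr ⟨a, b, rfl⟩)
    have hW1n : Cfsg.Geo.IsNondegenerateOn f W1 := by
      rintro _ ⟨x, hx, rfl⟩ hx0
      obtain ⟨⟨y, hy, hyx⟩, -⟩ := inf_perp_pair_nondegenerate hf hW hv hw hvw x hx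
        (fun h => hx0 (by rw [h, map_zero]))
      refine ⟨⟨_, Submodule.mem_map_of_mem hy, ?_⟩, ⟨_, Submodule.mem_map_of_mem hy, ?_⟩⟩
      · simp only [Matrix.toLin'_apply]; rwa [hpk]
      · simp only [Matrix.toLin'_apply]; rw [hpk]; exact skew_ne hf hyx
    obtain ⟨h3, hh3, hmap⟩ := ih (d - 2) (by omega) (inf_perp_pair_nondegenerate hf hU (hWU' hv') (hWU' hw') hvw')
      hW1n (inf_perp_pair_nondegenerate hf hW' hv' hw' hvw') hW1U (inf_le_inf_right P hWU')
      (by omega) (by have := finrank_inf_perp_pair hf hv' hw' hvw'; omega)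
    obtain ⟨-, -, hfix⟩ := closure_props hf hh3
    have hh3' : h3 ∈ Subgroup.closure {g : GL ι F | ∃ u ∈ U, ∃ c, g = st f u c} :=
      Subgroup.closure_mono (Set.setOf_subset_setOf.mpr fun g hg => by
        obtain ⟨u, hu, c, e⟩ := hg
        exact ⟨u, hu.1, c, e⟩) hh3
    have hfv : ∀ z, z ∈ Submodule.span F {v', w'} → (h3 : Matrix ι ι F) *ᵥ z = z := fun z hz =>
      hfix z fun u hu => skew_zero hf (hu.2 z hz)
    refine ⟨h3 * k, Subgroup.mul_mem _ hh3' hkC, hmapeq _ (fun x hx => ?_) (by rw [hd, hd'])⟩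
    set a := f x w
    set b := f v x
    have h21 : f w v = -1 := by rw [hf.skew, hvw]
    set x' := x - a • v - b • w with hx'
    have hx'm : x' ∈ W ⊓ perp hf.bilinear (Submodule.span F {v, w}) := by
      refine ⟨W.sub_mem (W.sub_mem hx (W.smul_mem _ hv)) (W.smul_mem _ hw), fun u hu => ?_⟩
      obtain ⟨c, d, rfl⟩ := Submodule.mem_span_pair.mp hu
      rw [hx']
      simp only [hf.bilinear.add_left, hf.bilinear.smul_left, TransvectionMax.sub_right hf.bilinear,
        hf.bilinear.smul_right, hvw, h21, hf.alternating, a, b]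
      rw [hf.skew x w]
      ring
    have hx'W : (h3 : Matrix ι ι F) *ᵥ ((k : Matrix ι ι F) *ᵥ x') ∈ W' := by
      have h : Matrix.toLin' (h3 : Matrix ι ι F) (Matrix.toLin' (k : Matrix ι ι F) x') ∈
          W' ⊓ P := by
        rw [← hmap]
        exact Submodule.mem_map_of_mem (Submodule.mem_map_of_mem hx'm)
      simpa using h.1
    have hxe : x = x' + (a • v + b • w) := by rw [hx']; abel
    rw [mul_act, hxe, Matrix.mulVec_add, Matrix.mulVec_add (k : Matrix ι ι F) (a • v), Matrix.mulVec_smul,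
      Matrix.mulVec_smul, hkv, hkw, Matrix.mulVec_add (h3 : Matrix ι ι F),
      hfv _ (Submodule.mem_span_pair.mpr ⟨a, b, rfl⟩)]
    exact W'.add_mem hx'W (W'.add_mem (W'.smul_mem _ hv') (W'.smul_mem _ hw'))

end

end Cfsg.Agent.TransvectionSymp
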