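import Cfsg.Agent.Lib.C6Minus10Coord
import Cfsg.Agent.Lib.C6Plus10CoordGen
import Cfsg.Agent.Lib.TransvectionSymp

/-!
An overgroup in the minus model containing the derived orthogonal group of the points is the whole symplectic
group: a commutator of an orthogonal unipotent with its conjugate by a controlled quaternion is a root element.
-/

set_option autoImplicit false
set_option linter.unusedSectionVars false

namespace Cfsg.Agent.C6Minus10

open Matrix Cfsg.Agent.C6Plus10 Cfsg.Agent.TransvectionMax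
open scoped MatrixGroups

variable {F : Type*} [Field F] {j : ℕ}

theorem upM_add (g h : Matrix (Pt j) (Pt j) F) : upM (g + h) = upM g + upM h := by
  ext u v
  simp only [upM_apply, Matrix.add_apply]
  split_ifs <;> simp

theorem upM_smul (c : F) (g : Matrix (Pt j) (Pt j) F) : upM (c • g) = c • upM g := by
  ext u v
  simp only [upM_apply, Matrix.smul_apply]
  split_ifs <;> simp

theorem upM_comm_cst (g : Matrix (Pt j) (Pt j) F) (q : Matrix (Fin 2) (Fin 2) F) :
    (blkM fun _ => q) * upM g = upM g * blkM fun _ => q := by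
  refine Matrix.ext fun ⟨x, i⟩ ⟨y, l⟩ => ?_
  simp only [Matrix.mul_apply, upM_apply, blkM_apply, Fintype.sum_prod_type]
  rw [Finset.sum_eq_single x (fun z _ hz => by simp [Ne.symm hz]) (by simp),
    Finset.sum_eq_single y (fun z _ hz => by simp [hz]) (by simp)]
  fin_cases i <;> fin_cases l <;> simp [Fin.sum_univ_two, mul_comm]

/-- A matrix on the points tensored with one on the last qubit. -/
def tens (g : Matrix (Pt j) (Pt j) F) (q : Matrix (Fin 2) (Fin 2) F) : Matrix (Ix j) (Ix j) F :=
  upM g * blkM fun _ => q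

theorem tens_mul (g h : Matrix (Pt j) (Pt j) F) (q r : Matrix (Fin 2) (Fin 2) F) :
    tens g q * tens h r = tens (g * h) (q * r) := by
  rw [tens, tens, tens, mul_assoc, ← mul_assoc (blkM fun _ => q), upM_comm_cst, upM_mul, blkM_mul]
  simp only [mul_assoc]

theorem tens_one (g : Matrix (Pt j) (Pt j) F) : tens g 1 = upM g := by rw [tens, blkM_one, mul_one]

theorem tens_apply (g : Matrix (Pt j) (Pt j) F) (q : Matrix (Fin 2) (Fin 2) F) (u v : Ix j) :
    tens g q u v = g u.1 v.1 * q u.2 v.2 := by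
  obtain ⟨x, i⟩ := u
  obtain ⟨y, l⟩ := v
  rw [tens, Matrix.mul_apply, Fintype.sum_prod_type]
  simp only [upM_apply, blkM_apply]
  rw [Finset.sum_eq_single y (fun z _ hz => by simp [hz]) (by simp)]
  fin_cases i <;> simp [Fin.sum_univ_two]

section Root

variable {e v : Pt j → F} (hee : e ⬝ᵥ e = 0) (hev : e ⬝ᵥ v = 0) (hvv : v ⬝ᵥ v = 1)
include hee hev hvv

theorem root_rel :
    (vecMulVec e v - vecMulVec v e) * (vecMulVec e v - vecMulVec v e) = -vecMulVec e e ∧
    (vecMulVec e v + vecMulVec v e) * (vecMulVec e v + vecMulVec v e) = vecMulVec e e ∧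
    (vecMulVec e v - vecMulVec v e) * (vecMulVec e v + vecMulVec v e) = vecMulVec e e ∧
    (vecMulVec e v + vecMulVec v e) * (vecMulVec e v - vecMulVec v e) = -vecMulVec e e ∧
    vecMulVec e e * vecMulVec e e = 0 ∧
    (vecMulVec e v - vecMulVec v e) * vecMulVec e e = 0 ∧ vecMulVec e e * (vecMulVec e v - vecMulVec v e) = 0 ∧
    (vecMulVec e v + vecMulVec v e) * vecMulVec e e = 0 ∧ vecMulVec e e * (vecMulVec e v + vecMulVec v e) = 0 := by
  have hve : v ⬝ᵥ e = 0 := by rw [dotProduct_comm, hev]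
  refine ⟨?_, ?_, ?_, ?_, ?_, ?_, ?_, ?_, ?_⟩ <;>
    simp [mul_add, add_mul, mul_sub, sub_mul, Matrix.vecMulVec_mul_vecMulVec, hee, hev, hve, hvv]

omit hee hev hvv in
/-- The orthogonal root element. -/
noncomputable def rootM (e v : Pt j → F) (t : F) : Matrix (Pt j) (Pt j) F :=
  1 + t • (vecMulVec e v - vecMulVec v e) - (t ^ 2 / 2) • vecMulVec e e

theorem rootM_add (h2 : (2 : F) ≠ 0) (s t : F) : rootM e v s * rootM e v t = rootM e v (s + t) := by
  obtain ⟨hNN, -, -, -, hQQ, hNQ, hQN, -, -⟩ := root_rel hee hev hvv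
  simp only [rootM]
  set N := vecMulVec e v - vecMulVec v e
  set Q := vecMulVec e e
  simp only [mul_add, add_mul, mul_sub, sub_mul, one_mul, mul_one, smul_mul_assoc, mul_smul_comm, smul_smul,
    hNN, hNQ, hQN, hQQ, smul_zero, sub_zero, smul_neg]
  match_scalars <;> field_simp <;> ring

/-- The orthogonal root element as a unit. -/
noncomputable def rootU (h2 : (2 : F) ≠ 0) (t : F) : GL (Pt j) F where
  val := rootM e v t
  inv := rootM e v (-t)
  val_inv := by rw [rootM_add hee hev hvv h2, add_neg_cancel]; simp [rootM]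
  inv_val := by rw [rootM_add hee hev hvv h2, neg_add_cancel]; simp [rootM]

theorem rootU_isom (h2 : (2 : F) ≠ 0) (t : F) : rootU hee hev hvv h2 t ∈ Isom F j := by
  refine mem_isom_of_transpose ?_
  have : (rootM e v t)ᵀ = rootM e v (-t) := by
    simp only [rootM, Matrix.transpose_add, Matrix.transpose_sub, Matrix.transpose_smul, Matrix.transpose_one,
      Matrix.transpose_vecMulVec]
    match_scalars <;> ring
  show (rootM e v t)ᵀ * rootM e v t = 1
  rw [this, rootM_add hee hev hvv h2, neg_add_cancel]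
  simp [rootM]

theorem rootU_omg (h2 : (2 : F) ≠ 0) (y : Pt j) (hy : v = Pi.single y 1) :
    rootU hee hev hvv h2 1 ∈ Omg F j := by
  have hey : e y = 0 := by simpa [hy] using hev
  have h := comm_mem_omg (sd_isom (F := F) (Pi.single y 1)) (rootU_isom hee hev hvv h2 (-(1 / 2)))
  have he : sd F (Pi.single y (1 : ZMod 2)) * rootU hee hev hvv h2 (-(1 / 2)) * (sd F (Pi.single y 1))⁻¹ =
      rootU hee hev hvv h2 (1 / 2) := by
    rw [sd_inv]
    refine Units.ext (Matrix.ext fun a b => ?_)
    show (Matrix.diagonal _ * rootM e v _ * Matrix.diagonal _ : Matrix (Pt j) (Pt j) F) a b = rootM e v _ a b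
    rw [Matrix.mul_diagonal, Matrix.diagonal_mul]
    simp only [rootM, hy, Matrix.add_apply, Matrix.sub_apply, Matrix.smul_apply, Matrix.one_apply,
      vecMulVec_apply, Pi.single_apply, smul_eq_mul]
    by_cases ha : a = y <;> by_cases hb : b = y
    · subst ha hb; simp [hey, sgn_one]
    · subst ha; simp [hey, sgn_one, hb, Ne.symm hb]
    · subst hb; simp [hey, sgn_one, ha]
    · simp [ha, hb]
  rw [he] at h
  convert h using 1
  refine Units.ext ?_
  show rootM e v 1 = rootM e v (1 / 2) * rootM e v (-(-(1 / 2)))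
  rw [rootM_add hee hev hvv h2, neg_neg, show (1 : F) / 2 + 1 / 2 = 1 by field_simp; norm_num]

end Root

section Endgame

variable {p : Par F} {M : Subgroup (GL (Ix j) F)}

/-- The root element in the radical of an isotropic vector. -/
def tz (e : Pt j → F) (q : Matrix (Fin 2) (Fin 2) F) : Matrix (Ix j) (Ix j) F := 1 + tens (vecMulVec e e) q

/-- The root elements in M. -/
def InRoot (M : Subgroup (GL (Ix j) F)) (e : Pt j → F) (q : Matrix (Fin 2) (Fin 2) F) : Prop :=
  ∃ g ∈ M, (g : Matrix (Ix j) (Ix j) F) = tz e q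

theorem inRoot_add {e : Pt j → F} (hee : e ⬝ᵥ e = 0) {q r : Matrix (Fin 2) (Fin 2) F} (hq : InRoot M e q)
    (hr : InRoot M e r) : InRoot M e (q + r) := by
  obtain ⟨g, hg, hgv⟩ := hq
  obtain ⟨h, hh', hhv⟩ := hr
  refine ⟨g * h, mul_mem hg hh', ?_⟩
  have hQ : vecMulVec e e * vecMulVec e e = (0 : Matrix (Pt j) (Pt j) F) := by
    simp [Matrix.vecMulVec_mul_vecMulVec, hee]
  rw [Units.val_mul, hgv, hhv, tz, tz, tz, mul_add, add_mul, add_mul, one_mul, mul_one, one_mul, tens_mul, hQ]
  refine Matrix.ext fun a b => ?_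
  simp only [Matrix.add_apply, tens_apply, Matrix.zero_apply, zero_mul, mul_add]
  ring

theorem exists_natCast [Fintype F] (hp : (Fintype.card F).Prime) (c : F) : ∃ n : ℕ, (n : F) = c := by
  classical
  haveI := Fact.mk hp
  haveI : CharP F (Fintype.card F) := charP_of_card_eq_prime rfl
  obtain ⟨z, rfl⟩ := (ZMod.castHom_bijective (R := F) (n := Fintype.card F) rfl).2 c
  exact ⟨z.val, by rw [ZMod.castHom_apply, ← ZMod.natCast_val]⟩

theorem inRoot_smul [Fintype F] (hp : (Fintype.card F).Prime) {e : Pt j → F} (hee : e ⬝ᵥ e = 0)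
    {q : Matrix (Fin 2) (Fin 2) F} (hq : InRoot M e q) (c : F) : InRoot M e (c • q) := by
  obtain ⟨n, rfl⟩ := exists_natCast hp c
  induction n with
  | zero => exact ⟨1, one_mem _, by ext a b; simp [tz, tens_apply]⟩
  | succ n ih => rw [Nat.cast_succ, add_smul, one_smul]; exact inRoot_add hee ih hq

theorem inRoot_conj {e : Pt j → F} {q r : Matrix (Fin 2) (Fin 2) F} {w : GL (Fin 2) F} (hw : cst w ∈ M)
    (he : w.val * q = r * w.val) (hq : InRoot M e q) : InRoot M e r := by
  obtain ⟨g, hg, hgv⟩ := hq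
  refine ⟨cst w * g * (cst w)⁻¹, mul_mem (mul_mem hw hg) (inv_mem hw), ?_⟩
  rw [Units.val_mul, Units.mul_inv_eq_iff_eq_mul, Units.val_mul, hgv, cst_val, tz, tz, mul_add, mul_one, add_mul,
    one_mul]
  congr 1
  rw [tens, tens, ← mul_assoc, upM_comm_cst, mul_assoc, mul_assoc, ← blkM_mul, ← blkM_mul]
  simp only [he]

/-- A root element from a controlled quaternion. -/
theorem inRoot_jq (h2 : (2 : F) ≠ 0) (hM : BaseMinus p M) (hΩ : ∀ g ∈ Omg F j, up g ∈ M) {e : Pt j → F}
    (hee : e ⬝ᵥ e = 0) {l : Pt j → ZMod 2} (hl : Aff l) (hel : ∀ x, e x ≠ 0 → l x = 0) {y : Pt j} (hy : l y = 1) :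
    InRoot M e ((-2 : F) • jq.val) := by
  set v : Pt j → F := Pi.single y 1 with hv
  have hey : e y = 0 := by
    by_contra h
    rw [hel y h] at hy
    exact zero_ne_one hy
  have hev : e ⬝ᵥ v = 0 := by simp [v, hey]
  have hvv : v ⬝ᵥ v = 1 := by simp [v]
  set E := up (rootU hee hev hvv h2 1) with hE
  have hEM : E ∈ M := hΩ _ (rootU_omg hee hev hvv h2 y rfl)
  set D : GL (Ix j) F := blk fun x => if l x = 0 then 1 else jq with hD
  have hDM : D ∈ M := hM.ctrl l hl jq (jq_mem p)
  set E' := D * E * D⁻¹ with hE'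
  have hE'M : E' ∈ M := mul_mem (mul_mem hDM hEM) (inv_mem hDM)
  refine ⟨E * E' * E⁻¹ * E'⁻¹, mul_mem (mul_mem (mul_mem hEM hE'M) (inv_mem hEM)) (inv_mem hE'M), ?_⟩
  set Nm : Matrix (Pt j) (Pt j) F := vecMulVec e v - vecMulVec v e with hNm
  set Km : Matrix (Pt j) (Pt j) F := vecMulVec e v + vecMulVec v e with hKm
  set Q : Matrix (Pt j) (Pt j) F := vecMulVec e e with hQdef
  have hEv : E.val = 1 + tens Nm 1 - (1 / 2 : F) • tens Q 1 := by
    rw [hE, up_val, tens_one, tens_one]
    refine Matrix.ext fun ⟨a, i⟩ ⟨b, k⟩ => ?_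
    show upM (rootM e v 1) (a, i) (b, k) = _
    simp only [upM_apply, rootM, Matrix.add_apply, Matrix.sub_apply, Matrix.smul_apply, Matrix.one_apply,
      Prod.mk.injEq, smul_eq_mul, hNm, hQdef]
    by_cases h : i = k <;> simp [h]
  have hE'v : E'.val = 1 + tens Km (-jq.val) - (1 / 2 : F) • tens Q 1 := by
    rw [hE', Units.val_mul, Units.mul_inv_eq_iff_eq_mul, Units.val_mul, hEv, hD, blk_val]
    refine Matrix.ext fun ⟨a, i⟩ ⟨b, k⟩ => ?_
    simp only [Matrix.mul_apply, Fintype.sum_prod_type, blkM_apply, Matrix.add_apply, Matrix.sub_apply,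
      Matrix.smul_apply, tens_apply, Matrix.one_apply, Prod.mk.injEq, smul_eq_mul]
    rw [Finset.sum_eq_single a (fun z _ hz => by simp [Ne.symm hz]) (by simp),
      Finset.sum_eq_single b (fun z _ hz => by simp [hz]) (by simp)]
    simp only [hNm, hKm, hQdef, Matrix.add_apply, Matrix.sub_apply, vecMulVec_apply, v, Pi.single_apply, if_true]
    by_cases ha : a = y <;> by_cases hb : b = y
    · subst ha hb; simp only [hey]; fin_cases i <;> fin_cases k <;> simp [Fin.sum_univ_two, hy, jq]
    · subst ha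
      rcases eq_or_ne (e b) 0 with hb0 | hb0
      · simp only [hey, hb0]; fin_cases i <;> fin_cases k <;> simp [Fin.sum_univ_two, hy, hb, Ne.symm hb, jq]
      · fin_cases i <;> fin_cases k <;>
          simp [Fin.sum_univ_two, hey, hy, hel b hb0, hb, Ne.symm hb, jq] <;> ring
    · subst hb
      rcases eq_or_ne (e a) 0 with ha0 | ha0
      · simp only [hey, ha0]; fin_cases i <;> fin_cases k <;> simp [Fin.sum_univ_two, hy, ha, jq]
      · fin_cases i <;> fin_cases k <;> simp [Fin.sum_univ_two, hey, hy, hel a ha0, ha, jq] <;> ring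
    · by_cases hab : a = b
      · subst hab
        rcases eq_or_ne (e a) 0 with ha0 | ha0
        · rcases zm_cases (l a) with h | h <;> fin_cases i <;> fin_cases k <;>
            simp [Fin.sum_univ_two, ha, ha0, h, jq]
        · fin_cases i <;> fin_cases k <;> simp [Fin.sum_univ_two, ha, hel a ha0, jq]
      · rcases eq_or_ne (e a) 0 with ha0 | ha0
        · fin_cases i <;> fin_cases k <;> simp [Fin.sum_univ_two, ha, hb, hab, ha0, jq]
        · rcases eq_or_ne (e b) 0 with hb0 | hb0
          · fin_cases i <;> fin_cases k <;> simp [Fin.sum_univ_two, ha, hb, hab, hb0, jq]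
          · fin_cases i <;> fin_cases k <;> simp [Fin.sum_univ_two, ha, hb, hab, hel a ha0, hel b hb0, jq]
  rw [show E * E' * E⁻¹ * E'⁻¹ = E * E' * (E' * E)⁻¹ by group, Units.val_mul, Units.mul_inv_eq_iff_eq_mul,
    Units.val_mul E E', Units.val_mul E' E, hEv, hE'v, tz]
  obtain ⟨hNN, hKK, hNK, hKN, hQQ, hNQ, hQN, hKQ, hQK⟩ := root_rel hee hev hvv
  rw [← hNm, ← hKm, ← hQdef] at *
  simp only [mul_add, add_mul, mul_sub, sub_mul, one_mul, mul_one, smul_mul_assoc, mul_smul_comm, tens_mul,
    smul_smul, hNK, hKN, hQQ, hNQ, hQN, hKQ, hQK, mul_zero, zero_mul, neg_mul, mul_neg, neg_zero]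
  refine Matrix.ext fun a b => ?_
  simp only [Matrix.add_apply, Matrix.sub_apply, Matrix.smul_apply, tens_apply, Matrix.zero_apply,
    Matrix.neg_apply, smul_eq_mul]
  ring

/-- All root elements in the radical of such a vector. -/
theorem inRoot_all [Fintype F] (hp : (Fintype.card F).Prime) (h2 : (2 : F) ≠ 0) (hM : BaseMinus p M)
    (hΩ : ∀ g ∈ Omg F j, up g ∈ M) {e : Pt j → F} (hee : e ⬝ᵥ e = 0) {l : Pt j → ZMod 2} (hl : Aff l)
    (hel : ∀ x, e x ≠ 0 → l x = 0) {y : Pt j} (hy : l y = 1) (r s t : F) :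
    InRoot M e !![r, s; t, -r] := by
  have hJ : InRoot M e jq.val := by
    have := inRoot_smul hp hee (inRoot_jq h2 hM hΩ hee hl hel hy) (-2 : F)⁻¹
    rwa [smul_smul, inv_mul_cancel₀ (neg_ne_zero.mpr h2), one_smul] at this
  obtain ⟨w, hwv, hw⟩ := hM.rot
  have hA : InRoot M e (aq p).val := inRoot_conj hw (by
    rw [hwv]
    ext i k; fin_cases i <;> fin_cases k <;> simp [jq, aq, Matrix.mul_apply, Fin.sum_univ_two] <;>
      field_simp <;> first | ring1 | linear_combination p.eq | linear_combination -p.eq) hJ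
  have hK : InRoot M e (jq.val * (aq p).val) := inRoot_conj hw (by
    rw [hwv]
    ext i k; fin_cases i <;> fin_cases k <;> simp [jq, aq, Matrix.mul_apply, Fin.sum_univ_two] <;>
      field_simp <;> first | ring1 | linear_combination p.eq | linear_combination -p.eq) hA
  have h := inRoot_add hee (inRoot_add hee (inRoot_smul hp hee hJ ((s - t) / 2))
    (inRoot_smul hp hee hA (-(p.al * r + p.be * ((s + t) / 2)))))
    (inRoot_smul hp hee hK (-(p.be * r - p.al * ((s + t) / 2))))
  convert h using 1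
  ext i k
  fin_cases i <;> fin_cases k <;> simp [jq, aq, Matrix.mul_apply, Fin.sum_univ_two] <;> field_simp <;>
    first
      | ring1
      | linear_combination (2 * r) * p.eq
      | linear_combination (-2 * r) * p.eq
      | linear_combination r * p.eq
      | linear_combination (-r) * p.eq
      | linear_combination (s + t) * p.eq
      | linear_combination -(s + t) * p.eq

theorem sform_symplectic : Cfsg.Geo.IsSymplecticForm (sform (j := j) (F := F)) := by
  refine ⟨⟨fun u u' v => ?_, fun c u v => ?_, fun u v v' => ?_, fun c u v => ?_⟩, fun u v => ?_, fun u => ?_,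
    fun u hu => ?_⟩
  · simp only [sform, Pi.add_apply, ← Finset.sum_add_distrib]
    exact Finset.sum_congr rfl fun x _ => by ring
  · simp only [sform, Pi.smul_apply, smul_eq_mul, Finset.mul_sum]
    exact Finset.sum_congr rfl fun x _ => by ring
  · simp only [sform, Pi.add_apply, ← Finset.sum_add_distrib]
    exact Finset.sum_congr rfl fun x _ => by ring
  · simp only [sform, Pi.smul_apply, smul_eq_mul, Finset.mul_sum]
    exact Finset.sum_congr rfl fun x _ => by ring
  · simp only [sform, ← Finset.sum_neg_distrib]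
    exact Finset.sum_congr rfl fun x _ => by ring
  · exact Finset.sum_eq_zero fun x _ => by ring
  · obtain ⟨⟨a, i⟩, ha⟩ := Function.ne_iff.mp hu
    refine ⟨?_, ?_⟩
    all_goals
      refine ⟨Pi.single (a, if i = 0 then 1 else 0) 1, ?_⟩
      rw [sform, Finset.sum_eq_single a (fun x _ hx => by simp [hx]) (by simp)]
      fin_cases i <;> simpa [Pi.single_apply] using ha

/-- A vector of the points tensored with one of the last qubit. -/
def tv (e : Pt j → F) (u : Fin 2 → F) : Ix j → F := fun x => e x.1 * u x.2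

theorem sform_tv (e e' : Pt j → F) (u u' : Fin 2 → F) :
    sform (tv e u) (tv e' u') = (e ⬝ᵥ e') * (u 0 * u' 1 - u 1 * u' 0) := by
  rw [sform, dotProduct, Finset.sum_mul]
  exact Finset.sum_congr rfl fun x _ => by simp only [tv]; ring

theorem sform_one (a : Pt j) (u : Fin 2 → F) (z : Ix j → F) :
    sform (tv (Pi.single a 1) u) z = u 0 * z (a, 1) - u 1 * z (a, 0) := by
  rw [sform, Finset.sum_eq_single a (fun x _ hx => by simp [tv, hx]) (by simp)]
  simp [tv]

theorem exists_aff_sep (hj : 3 ≤ j) (a b c : Pt j) :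
    ∃ l : Pt j → ZMod 2, Aff l ∧ l a = 0 ∧ l b = 0 ∧ l c = 0 ∧ ∃ y, l y = 1 := by
  classical
  let f : Pt j → ZMod 2 × ZMod 2 := fun β => (ip β (a + b), ip β (a + c))
  obtain ⟨β, β', hne, he⟩ := Fintype.exists_ne_map_eq_of_card_lt f (by
    simp only [Fintype.card_prod, ZMod.card, Fintype.card_fun, Fintype.card_fin]
    calc 2 * 2 < 2 ^ 3 := by norm_num
      _ ≤ 2 ^ j := Nat.pow_le_pow_right (by norm_num) hj)
  obtain ⟨h1, h3⟩ := Prod.ext_iff.mp he
  simp only [f] at h1 h3
  set γ := β + β'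
  have g1 : ip γ (a + b) = 0 := by rw [ip_add_left, h1, CharTwo.add_self_eq_zero]
  have g2 : ip γ (a + c) = 0 := by rw [ip_add_left, h3, CharTwo.add_self_eq_zero]
  rw [ip_add_right] at g1 g2
  obtain ⟨i, hi⟩ : ∃ i, γ i = 1 := by
    by_contra! h
    exact hne (funext fun i => CharTwo.add_eq_zero.mp ((zm_cases (γ i)).resolve_right (h i)))
  refine ⟨fun x => ip γ x + ip γ a, (aff_ip γ).add (aff_const _), CharTwo.add_self_eq_zero _,
    show ip γ b + ip γ a = 0 by rw [add_comm]; exact g1,
    show ip γ c + ip γ a = 0 by rw [add_comm]; exact g2, a + pe i, ?_⟩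
  show ip γ (a + pe i) + ip γ a = 1
  rw [ip_add_right, show ip γ (pe i) = 1 from by rw [ip, dotProduct_comm]; exact (ip_pe i γ).trans hi]
  grind

theorem exists_avoid [Fintype F] (h2 : (2 : F) ≠ 0) (x z w : Fin 2 → F) (hx : x ≠ 0) (hz : z ≠ 0) (hw : w ≠ 0) :
    ∃ u : Fin 2 → F, x 0 * u 1 - x 1 * u 0 ≠ 0 ∧ z 0 * u 1 - z 1 * u 0 ≠ 0 ∧ w 0 * u 1 - w 1 * u 0 ≠ 0 := by
  classical
  by_contra! h
  let u : Fin 4 → (Fin 2 → F) := ![![0, 1], ![1, 0], ![1, 1], ![1, -1]]
  have hkill : ∀ i, ∃ c : Fin 3, ![x, z, w] c 0 * u i 1 - ![x, z, w] c 1 * u i 0 = 0 := fun i => by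
    by_cases h1 : x 0 * u i 1 - x 1 * u i 0 = 0
    · exact ⟨0, by simpa using h1⟩
    by_cases h3 : z 0 * u i 1 - z 1 * u i 0 = 0
    · exact ⟨1, by simpa using h3⟩
    exact ⟨2, by simpa using h (u i) h1 h3⟩
  choose g hg using hkill
  obtain ⟨i, k, hik, he⟩ := Fintype.exists_ne_map_eq_of_card_lt g (by simp)
  have e1 := hg i
  have e2 := hg k
  rw [← he] at e2
  set a := ![x, z, w] (g i) with ha
  have ha0 : a ≠ 0 := by
    have : ∀ c, ![x, z, w] c ≠ 0 := fun c => by fin_cases c <;> assumption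
    exact this _
  apply ha0
  have hone : (1 : F) ≠ -1 := fun e => h2 (by linear_combination e)
  funext c
  fin_cases i <;> fin_cases k <;> simp [u] at e1 e2 hik ⊢ <;> fin_cases c <;> simp <;> grind

/-- An overgroup containing the derived orthogonal group of the points is the symplectic group. -/
theorem full_of_omega [Fintype F] (hp : (Fintype.card F).Prime) (h2 : (2 : F) ≠ 0) (hj : 3 ≤ j)
    (hM : BaseMinus p M) (hΩ : ∀ g ∈ Omg F j, up g ∈ M) : spM j F ≤ M := by
  classical
  have hf := sform_symplectic (F := F) (j := j)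
  have hb := hf.bilinear
  let S : (Ix j → F) → Prop := fun z => ∀ c, st sform z c ∈ M
  have hadd : ∀ {v w}, S v → S w → sform v w ≠ 0 → S (v + w) := by
    intro v w hv hw hvw c
    have h := M.mul_mem (M.mul_mem (hw (sform v w)⁻¹) (hv c)) (M.inv_mem (hw (sform v w)⁻¹))
    rwa [st_conj hf (st_preserves hf w _), st_act hf, inv_mul_cancel₀ hvw, one_smul] at h
  have hsmul : ∀ {v} (a : F), S v → S (a • v) := fun a hv c => by rw [st_smul hf]; exact hv _
  -- two orthogonal centres with a common partner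
  have hlink : ∀ {v w y}, S v → S w → S y → sform v y ≠ 0 → sform w y ≠ 0 → sform (v + w) y ≠ 0 → S (v + w) := by
    intro v w y hv hw hy hvy hwy hsum
    by_cases hvw : sform v w = 0
    swap
    · exact hadd hv hw hvw
    have h1 := hadd hv hy hvy
    have h3 := hadd h1 hw (by
      rw [hb.add_left, hvw, zero_add]; exact TransvectionSymp.skew_ne hf hwy)
    have h4 := hadd h3 (hsmul (-1) hy) (by
      rw [hb.smul_right, neg_one_mul, neg_ne_zero, show v + y + w = (v + w) + y by abel, hb.add_left,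
        hf.alternating, add_zero]
      exact hsum)
    rwa [show v + y + w + (-1 : F) • y = v + w by module] at h4
  -- isotropic vectors on three points
  have htri : ∀ {a b c : Pt j} {α β γ : F}, a ≠ b → a ≠ c → b ≠ c → α * α + β * β + γ * γ = 0 →
      ∀ u, S (tv (Pi.single a α + Pi.single b β + Pi.single c γ) u) := by
    intro a b c α β γ hab hac hbc hiso u k
    set e : Pt j → F := Pi.single a α + Pi.single b β + Pi.single c γ with he
    obtain ⟨l, hl, hla, hlb, hlc, y, hy⟩ := exists_aff_sep hj a b c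
    have hee : e ⬝ᵥ e = 0 := by
      rw [he]
      simp [hab, hac, hbc, Ne.symm hab, Ne.symm hac, Ne.symm hbc, hiso]
    have hel : ∀ x, e x ≠ 0 → l x = 0 := fun x hx => by
      by_contra h
      apply hx
      simp [e, show x ≠ a from fun e => h (e ▸ hla), show x ≠ b from fun e => h (e ▸ hlb),
        show x ≠ c from fun e => h (e ▸ hlc)]
    obtain ⟨g, hg, hgv⟩ := inRoot_all hp h2 hM hΩ hee hl hel hy (k * u 0 * u 1) (-(k * u 0 * u 0)) (k * u 1 * u 1)
    suffices st sform (tv e u) k = g by rw [this]; exact hg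
    refine gl_ext fun z => ?_
    rw [st_act hf, hgv, tz, Matrix.add_mulVec, Matrix.one_mulVec]
    congr 1
    funext ⟨x, i⟩
    simp only [Pi.smul_apply, smul_eq_mul, sform, tv, Matrix.mulVec, dotProduct, tens_apply, vecMulVec_apply,
      Fintype.sum_prod_type, Fin.sum_univ_two, Finset.mul_sum, Finset.sum_mul]
    refine Finset.sum_congr rfl fun b _ => ?_
    fin_cases i <;> simp <;> ring
  -- three distinct points
  have hthird : ∀ a b : Pt j, ∃ c, a ≠ c ∧ b ≠ c := fun a b => by
    have h : ({a, b} : Finset (Pt j)).card < Fintype.card (Pt j) := by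
      refine lt_of_le_of_lt Finset.card_le_two ?_
      rw [Fintype.card_fun, ZMod.card, Fintype.card_fin]
      calc 2 < 2 ^ 3 := by norm_num
        _ ≤ 2 ^ j := Nat.pow_le_pow_right (by norm_num) hj
    obtain ⟨c, -, hc⟩ := Finset.exists_mem_notMem_of_card_lt_card (t := (Finset.univ : Finset (Pt j))) h
    simp only [Finset.mem_insert, Finset.mem_singleton, not_or] at hc
    exact ⟨c, Ne.symm hc.1, Ne.symm hc.2⟩
  obtain ⟨A, B, hB0, hAB⟩ : ∃ A B : F, B ≠ 0 ∧ A * A + B * B = -1 := by
    by_cases h : p.be = 0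
    · exact ⟨p.be, p.al, fun ha => by have := p.eq; simp [h, ha] at this, by linear_combination p.eq⟩
    · exact ⟨p.al, p.be, h, by linear_combination p.eq⟩
  have htva : ∀ (e e' : Pt j → F) u, tv (e + e') u = tv e u + tv e' u := fun e e' u => by
    funext x; simp [tv, add_mul]
  -- one point
  have hone : ∀ (c : Pt j) (u : Fin 2 → F), S (tv (Pi.single c 1) u) := by
    intro c u
    rcases eq_or_ne u 0 with rfl | hu
    · intro k
      rw [show tv (Pi.single c 1) (0 : Fin 2 → F) = 0 from funext fun x => by simp [tv]]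
      rw [show st sform 0 k = 1 from gl_ext fun z => by rw [st_act hf]; simp]
      exact one_mem _
    obtain ⟨a, hca, -⟩ := hthird c c
    obtain ⟨b, hcb, hab⟩ := hthird c a
    have h1 := htri (Ne.symm hab).symm (Ne.symm hca) (Ne.symm hcb) (α := A) (β := B) (γ := 1)
      (by linear_combination hAB) u
    have h3 := htri (Ne.symm hab).symm (Ne.symm hca) (Ne.symm hcb) (α := -A) (β := -B) (γ := 1)
      (by linear_combination hAB) u
    obtain ⟨u', hu'⟩ : ∃ u' : Fin 2 → F, u 0 * u' 1 - u 1 * u' 0 = 1 := by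
      by_cases h0 : u 0 = 0
      · have h1 : u 1 ≠ 0 := fun h => hu (funext fun i => by fin_cases i <;> simp [h0, h])
        exact ⟨![-(u 1)⁻¹, 0], by simp [h1]⟩
      · exact ⟨![0, (u 0)⁻¹], by simp [h0]⟩
    have h5 := htri (Ne.symm hab).symm (Ne.symm hca) (Ne.symm hcb) (α := B) (β := -A) (γ := 1)
      (by linear_combination hAB) u'
    have h6 := hlink h1 h3 h5
      (by rw [sform_tv, hu', mul_one]; simp [hab, Ne.symm hab, hca, Ne.symm hca, hcb, Ne.symm hcb, mul_comm])
      (by rw [sform_tv, hu', mul_one]; simp [hab, Ne.symm hab, hca, Ne.symm hca, hcb, Ne.symm hcb, mul_comm])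
      (by
        rw [hb.add_left, sform_tv, sform_tv, hu', mul_one, mul_one]
        simp [hab, Ne.symm hab, hca, Ne.symm hca, hcb, Ne.symm hcb, mul_comm]
        norm_num [h2])
    rw [← htva] at h6
    have h7 := hsmul (2 : F)⁻¹ h6
    convert h7 using 1
    funext x
    simp only [tv, Pi.smul_apply, smul_eq_mul, Pi.add_apply, Pi.single_apply]
    by_cases h1 : x.1 = c <;> by_cases h4 : x.1 = a <;> by_cases h5 : x.1 = b <;>
      simp [h1, h4, h5, hab, hca, hcb, Ne.symm hab, Ne.symm hca, Ne.symm hcb] <;> field_simp <;> ring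
  -- two points
  have htwo : ∀ (a b : Pt j) (x z : Fin 2 → F), a ≠ b → x ≠ 0 → z ≠ 0 →
      S (tv (Pi.single a 1) x + tv (Pi.single b 1) z) := by
    intro a b x z hab hx hz
    obtain ⟨c, hac, hbc⟩ := hthird a b
    have hpick : ∃ β : F, β ≠ 0 ∧ β * β = B * B ∧ x + β • z ≠ 0 := by
      by_cases h : x + B • z = 0
      · refine ⟨-B, neg_ne_zero.mpr hB0, by ring, fun h' => hz ?_⟩
        have h3 : (2 * B) • z = 0 := by linear_combination (norm := module) h - h'
        exact (smul_eq_zero.mp h3).resolve_left (mul_ne_zero h2 hB0)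
      · exact ⟨B, hB0, rfl, h⟩
    obtain ⟨β, hβ0, hβ, hsum⟩ := hpick
    obtain ⟨u, h1, h3, h4⟩ := exists_avoid h2 x z (x + β • z) hx hz hsum
    have hy := htri hab hac hbc (α := 1) (β := β) (γ := A) (by linear_combination hAB + hβ) u
    refine hlink (hone a x) (hone b z) hy ?_ ?_ ?_
    · rw [sform_tv]
      simpa [hab, hac] using h1
    · rw [sform_tv]
      simpa [hab, hbc, Ne.symm hab, hβ0] using h3
    · rw [hb.add_left, sform_tv, sform_tv]
      simp only [Pi.add_apply, Pi.smul_apply, smul_eq_mul] at h4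
      simp [hab, hac, hbc, Ne.symm hab]
      intro e
      exact h4 (by linear_combination e)
  -- every vector
  have hall : ∀ (T : Finset (Pt j)) (z : Ix j → F), (∀ a, a ∉ T → ∀ i, z (a, i) = 0) → S z := by
    intro T
    induction T using Finset.induction_on with
    | empty =>
      intro z hz k
      rw [show z = 0 from funext fun x => hz x.1 (Finset.notMem_empty _) x.2,
        show st sform 0 k = 1 from gl_ext fun z => by rw [st_act hf]; simp]
      exact one_mem _
    | @insert b T hbT ih =>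
      intro z hz
      set x : Fin 2 → F := fun i => z (b, i)
      set z' := z - tv (Pi.single b 1) x with hz'
      have hz'T : ∀ a, a ∉ T → ∀ i, z' (a, i) = 0 := fun a ha i => by
        by_cases hab : a = b
        · subst hab; simp [z', tv, x]
        · simp [z', tv, hab, hz a (by simp [ha, hab]) i]
      have hzz : z = z' + tv (Pi.single b 1) x := by simp [z']
      rcases eq_or_ne x 0 with hx | hx
      · rw [hzz, hx, show tv (Pi.single b 1) (0 : Fin 2 → F) = 0 from funext fun x => by simp [tv], add_zero]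
        exact ih z' hz'T
      by_cases hne : ∃ a i, z' (a, i) ≠ 0
      swap
      · push Not at hne
        rw [hzz, show z' = 0 from funext fun x => hne x.1 x.2, zero_add]
        exact hone b x
      obtain ⟨a, i, hai⟩ := hne
      have haT : a ∈ T := by by_contra h; exact hai (hz'T a h i)
      have hab : a ≠ b := fun e => hbT (e ▸ haT)
      set xa : Fin 2 → F := fun i => z' (a, i) with hxa
      have hdual : ∀ x : Fin 2 → F, x ≠ 0 → ∃ u : Fin 2 → F, u 0 * x 1 - u 1 * x 0 = 1 := fun x hx => by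
        by_cases h0 : x 0 = 0
        · have h1 : x 1 ≠ 0 := fun h => hx (funext fun i => by fin_cases i <;> simp [h0, h])
          exact ⟨![(x 1)⁻¹, 0], by simp [h1]⟩
        · exact ⟨![0, -(x 0)⁻¹], by simp [h0]⟩
      obtain ⟨u, hu⟩ := hdual xa fun e => hai (congrFun e i)
      obtain ⟨u', hu'⟩ := hdual x hx
      have hu0 : u ≠ 0 := fun e => by simp [e] at hu
      have hu'0 : u' ≠ 0 := fun e => by simp [e] at hu'
      have hy := htwo a b u u' hab hu0 hu'0
      have hz'b : ∀ i, z' (b, i) = 0 := hz'T b hbT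
      have e1 : sform z' (tv (Pi.single a 1) u + tv (Pi.single b 1) u') = -1 := by
        rw [hb.add_right, hf.skew, hf.skew z' (tv (Pi.single b 1) u'), sform_one, sform_one, hz'b, hz'b]
        simp only [mul_zero, sub_zero, neg_zero, add_zero]
        rw [show u 0 * z' (a, 1) - u 1 * z' (a, 0) = 1 from hu]
      have e2 : sform (tv (Pi.single b 1) x) (tv (Pi.single a 1) u + tv (Pi.single b 1) u') = -1 := by
        rw [hb.add_right, sform_one, sform_one]
        simp only [tv, Pi.single_apply, if_neg (Ne.symm hab), if_true, one_mul, zero_mul, mul_zero, sub_zero,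
          zero_add]
        linear_combination -hu'
      rw [hzz]
      refine hlink (ih z' hz'T) (hone b x) hy ?_ ?_ ?_
      · rw [e1]; exact neg_ne_zero.mpr one_ne_zero
      · rw [e2]; exact neg_ne_zero.mpr one_ne_zero
      · rw [hb.add_left, e1, e2]
        intro e
        exact h2 (by linear_combination -e)
  -- transport to the standard form
  obtain ⟨σ⟩ : Nonempty (Fin (2 ^ j) ≃ Pt j) :=
    ⟨(Fintype.equivFinOfCardEq (by rw [Fintype.card_fun, ZMod.card, Fintype.card_fin])).symm⟩
  let ε : Fin (2 ^ j) ⊕ Fin (2 ^ j) → Ix j := Sum.elim (fun i => (σ i, 0)) fun i => (σ i, 1)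
  have hε : Function.Bijective ε := by
    refine (Fintype.bijective_iff_injective_and_card ε).mpr ⟨?_, ?_⟩
    · rintro (i | i) (k | k) h <;> simp [ε] at h <;> simp [h]
    · simp [two_mul, mul_comm]
  let Φ : (Ix j → F) ≃ₗ[F] (Fin (2 ^ j) ⊕ Fin (2 ^ j) → F) :=
    LinearEquiv.funCongrLeft F F (Equiv.ofBijective ε hε)
  have hΦ : ∀ (z : Ix j → F) x, Φ z x = z (ε x) := fun z x => rfl
  have hs : ∃ η : F, η ≠ 0 ∧ ∀ u v, Cfsg.sympForm (2 ^ j) F (Φ u) (Φ v) = η * sform u v := by
    refine ⟨-1, neg_ne_zero.mpr one_ne_zero, fun u v => ?_⟩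
    rw [Cfsg.sympForm, Matrix.J]
    simp only [dotProduct, Matrix.mulVec, Fintype.sum_sum_type, hΦ, ε, Sum.elim_inl, Sum.elim_inr,
      Matrix.fromBlocks_apply₁₁, Matrix.fromBlocks_apply₁₂, Matrix.fromBlocks_apply₂₁, Matrix.fromBlocks_apply₂₂,
      Matrix.zero_apply, Matrix.neg_apply, Matrix.one_apply, zero_mul, Finset.sum_const_zero, zero_add, add_zero,
      neg_mul, ite_mul, one_mul, Finset.sum_neg_distrib, Finset.sum_ite_eq, Finset.mem_univ, if_true, mul_neg]
    rw [sform, ← Equiv.sum_comp σ, ← Finset.sum_neg_distrib, ← Finset.sum_add_distrib, ← Finset.sum_neg_distrib]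
    exact Finset.sum_congr rfl fun i _ => by ring
  obtain ⟨η, hη0, hη⟩ := hs
  let Ψ := conjGL Φ
  have hstd := TransvectionMax.sympForm_isSymplecticForm (F := F) (2 ^ j)
  have hle : Cfsg.spGL (2 ^ j) F ≤ M.map Ψ.toMonoidHom := by
    refine TransvectionMax.spGL_le (2 ^ j) fun v c => ?_
    obtain ⟨z, rfl⟩ := Φ.surjective v
    refine ⟨st sform z (c * η), hall Finset.univ z (by simp) _, conjGL_eq Φ fun x => ?_⟩
    rw [st_act hstd, st_act hf, map_add, map_smul, hη, mul_assoc]
  intro g hg
  have hgs : Ψ g ∈ Cfsg.spGL (2 ^ j) F := fun x y => by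
    obtain ⟨u, rfl⟩ := Φ.surjective x
    obtain ⟨v, rfl⟩ := Φ.surjective y
    show Cfsg.sympForm _ F ((Ψ g).val *ᵥ Φ u) ((Ψ g).val *ᵥ Φ v) = _
    rw [conjGL_act, conjGL_act, hη, hη, hg]
  obtain ⟨g', hg', he⟩ := hle hgs
  exact Ψ.injective he ▸ hg'

end Endgame

end Cfsg.Agent.C6Minus10
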