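import Cfsg.Agent.Lib.C6Plus10Finish
import Cfsg.Agent.Lib.C6Minus10Endgame

/-!
The end of the minus type: an overgroup with a sign diagonal on the points that is not quadratic is the
symplectic group. With three coordinates the single sign and the one-qubit Hadamard matrix give every
transposition of the points.
-/

set_option autoImplicit false
set_option linter.unusedSectionVars false

namespace Cfsg.Agent.C6Minus10

open Matrix QuadraticMap Module Cfsg.Agent.C6Plus10
open Cfsg.Agent.OrthUnitaryQuad Cfsg.Agent.OrthUnitaryRefl Cfsg.Agent.OmegaDecomp Cfsg.Agent.OmegaGeo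
  Cfsg.Agent.OrthUnitaryPrelude
open scoped MatrixGroups

variable {F : Type*} [Field F] {j : ℕ} {p : Par F} {M : Subgroup (GL (Ix j) F)}

theorem up_isom {g : GL (Pt j) F} (h : up g ∈ spM j F) :
    (g : Matrix (Pt j) (Pt j) F)ᵀ * (g : Matrix (Pt j) (Pt j) F) = 1 := by
  ext a b
  have := h (Pi.single (a, 0) 1) (Pi.single (b, 1) 1)
  simp only [sform, up_val, Matrix.mulVec_single_one, Matrix.col_apply, upM_apply] at this
  simp [Matrix.mul_apply, Matrix.transpose_apply, Matrix.one_apply, Pi.single_apply] at this ⊢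
  rw [this]
  by_cases hab : a = b <;> simp [hab, eq_comm]

theorem base_comap (hM : BaseMinus p M) : Base (M.comap up) where
  iso g hg := up_isom (hM.le hg)
  quad f hf := hM.quad f hf
  aff π hπ := hM.aff π hπ
  had a b hab := by
    obtain ⟨u, hu, huM⟩ := hM.had a b hab
    exact ⟨u, huM, hu⟩

/-- The one-qubit Hadamard matrix turns a sign into a shift. -/
theorem shift_mem_one (hM : BaseMinus p M) (c : Fin j) (g : Pt j → ZMod 2) (hg : ∀ x, g (x + pe c) = g x)
    (h : up (sd F fun x => g x * x c) ∈ M) : up (pm F (shiftPerm c g hg)) ∈ M := by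
  obtain ⟨H, hHM, hH⟩ := hM.had1 c
  suffices e : H * up (sd F fun x => g x * x c) = up (pm F (shiftPerm c g hg)) * H by
    have := mul_mem (mul_mem hHM h) (inv_mem hHM)
    rwa [e, mul_inv_cancel_right] at this
  set S : Matrix (Pt j) (Pt j) F := (pau F (pe c) 0).val + (pau F 0 (pe c)).val with hS
  have key : S * (sd F fun x => g x * x c).val = (pm F (shiftPerm c g hg)).val * S := by
    have hSe : ∀ x y, S x y = (if x = y + pe c then 1 else 0) + (if x = y then sgn F (y c) else 0) := by
      intro x y
      simp only [hS, Matrix.add_apply, pau, Units.val_mul, sd, Matrix.mul_diagonal, pm_apply, Equiv.coe_addRight,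
        add_zero, ip, zero_dotProduct, sgn_zero, mul_one, pe, single_dotProduct, one_mul, ite_mul, zero_mul]
      congr
    ext x y
    rw [Matrix.mul_apply, Matrix.mul_apply, Finset.sum_eq_single y (fun z _ hz => by simp [sd, hz]) (by simp),
      Finset.sum_eq_single (shiftPerm c g hg x) (fun z _ hz => by
        rw [pm_apply, if_neg, zero_mul]
        intro e
        exact hz (by rw [e, show shiftPerm c g hg (shiftPerm c g hg z) = z from
          Function.Involutive.toPerm_involutive _ z])) (by simp)]
    have hinv : x = shiftPerm c g hg (shiftPerm c g hg x) :=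
      (Function.Involutive.toPerm_involutive _ x).symm
    rw [pm_apply, if_pos hinv, one_mul]
    simp only [sd, Matrix.diagonal_apply_eq, hSe, shiftPerm_apply]
    have hne0 : pe c ≠ 0 := fun e => by simpa using congrFun e c
    have hne : x ≠ x + pe c := pt_ne_add c (pe_self c)
    rcases zm_cases (g x) with hx | hx
    · by_cases h1 : x = y
      · subst h1; simp [hx]
      · by_cases h2 : x = y + pe c
        · subst h2; rw [hg] at hx; simp [hg, hx, pt_add_cancel]
        · simp [hx, h1, h2]
    · by_cases h1 : x = y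
      · subst h1; simp [hx, hne, hne.symm, hne0]
      · by_cases h2 : x = y + pe c
        · subst h2; rw [hg] at hx; simp [hg, hx, pe_self, pt_add_cancel, hne, hne.symm, hne0, sgn_add, sgn_one]
        · have h3 : x + pe c ≠ y := fun e => h2 (by rw [← e, pt_add_cancel])
          have h4 : x + pe c ≠ y + pe c := fun e => h1 (add_right_cancel e)
          simp [hx, h1, h2, h3, h4]
  refine Units.ext ?_
  rw [Units.val_mul, Units.val_mul, hH, up_val, up_val, smul_mul_assoc, mul_smul_comm,
    mul_assoc (upM S), upM_comm_cst (sd F fun x => g x * x c).val, ← mul_assoc, ← mul_assoc, ← upM_mul, ← upM_mul, key]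

section three

variable {M : Subgroup (GL (Ix 3) F)}

theorem dl_add (a : Pt 3) (f g : Pt 3 → ZMod 2) : dl a (f + g) = dl a f + dl a g := funext fun x => by
  simp only [dl_apply, Pi.add_apply]
  ring

/-- A sign that is not quadratic gives every single sign. -/
theorem single_mem (hM : Base (M.comap up)) {f : Pt 3 → ZMod 2} (hf : up (sd F f) ∈ M) (hq : ¬ Quad f)
    (y : Pt 3) : up (sd F (Pi.single y 1)) ∈ M := by
  set δ : Pt 3 → ZMod 2 := fun x => if x = 0 then 1 else 0 with hδ
  have hT : ∀ x, dl (pe 0) (dl (pe 1) (dl (pe 2) δ)) x = 1 := by decide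
  set T := dl (pe 0) (dl (pe 1) (dl (pe 2) f)) with hTdef
  have hquad : ∀ e : Pt 3 → ZMod 2, dl (pe 0) (dl (pe 1) (dl (pe 2) e)) = 0 → Quad e := by
    intro e he
    have key : ∀ P : Fin 3 → Fin 3 → Fin 3 → Prop, P 0 1 2 → (∀ {a b c}, P a b c → P b a c) →
        (∀ {a b c}, P a b c → P a c b) → (∀ a c, P a a c) → ∀ a b c, P a b c := by
      intro P he h12 h23 hr a b c
      fin_cases a <;> fin_cases b <;> fin_cases c <;>
        first
        | exact he
        | exact h12 he
        | exact h23 he
        | exact h12 (h23 he)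
        | exact h23 (h12 he)
        | exact h12 (h23 (h12 he))
        | exact hr _ _
        | exact h23 (hr _ _)
        | exact h12 (h23 (hr _ _))
    exact quad_of_coord (key (fun a b c => dl (pe a) (dl (pe b) (dl (pe c) e)) = 0) he
      (fun {a b c} h => (dl_comm (pe b) (pe a) (dl (pe c) e)).trans h)
      (fun {a b c} h => (congrArg (dl (pe a)) (dl_comm (pe c) (pe b) e)).trans h)
      (fun a c => dl_dl_self _ _))
  have hconst : ∀ x, T x = T 0 := const_of_dl fun i x => by
    fin_cases i <;> simp only [hTdef, Fin.zero_eta, Fin.mk_one, Fin.reduceFinMk]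
    · rw [dl_dl_self]; rfl
    · rw [dl_comm (pe 1) (pe 0), dl_dl_self, dl_zero_fun]; rfl
    · rw [dl_comm (pe 2) (pe 0), dl_comm (pe 2) (pe 1), dl_dl_self, dl_zero_fun, dl_zero_fun]; rfl
  rcases zm_cases (T 0) with h0 | h1
  · exact absurd (hquad f (funext fun x => (hconst x).trans h0)) hq
  have hsum : Quad (f + δ) := hquad _ (funext fun x => by
    rw [dl_add, dl_add, dl_add, Pi.add_apply, hT, ← hTdef, hconst, h1]
    exact CharTwo.add_self_eq_zero _)
  have hδM : sd F δ ∈ M.comap up := by
    have := mul_mem (show sd F f ∈ M.comap up from hf) (hM.quad _ hsum)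
    rwa [sd_mul, ← add_assoc, show f + f = 0 from funext fun x => CharTwo.add_self_eq_zero _, zero_add] at this
  have := sd_comp_mem (hM.aff _ (affPerm_translate y)) hδM
  show sd F (Pi.single y 1) ∈ M.comap up
  convert this using 2
  funext x
  simp [δ, Pi.single_apply, add_neg_eq_zero]

/-- Every transposition of the points. -/
theorem swap_mem (hM : BaseMinus p M) (hs : ∀ y, up (sd F (Pi.single y 1)) ∈ M) (a b : Pt 3) :
    up (pm F (Equiv.swap a b)) ∈ M := by
  show Equiv.swap a b ∈ Perms (M.comap up)
  set H := Perms (M.comap up)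
  have edge : ∀ (q : Pt 3) (c : Fin 3), Equiv.swap q (q + pe c) ∈ H := by
    intro q c
    let g : Pt 3 → ZMod 2 := fun x => if x = q ∨ x = q + pe c then 1 else 0
    have hg : ∀ x, g (x + pe c) = g x := fun x => by
      simp only [g]
      congr 1
      exact propext ⟨fun h => h.symm.imp (fun e => add_right_cancel e) (fun e => by rw [← e, pt_add_cancel]),
        fun h => h.symm.imp (fun e => by rw [e, pt_add_cancel]) (fun e => by rw [e])⟩
    have hsd : up (sd F fun x => g x * x c) ∈ M := by
      convert hs (q + (1 + q c) • pe c) using 3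
      funext x
      have hne : q ≠ q + pe c := pt_ne_add c (pe_self c)
      rcases zm_cases (q c) with hq | hq <;> by_cases h1 : x = q <;> by_cases h2 : x = q + pe c <;>
        simp [g, h1, h2, hq, hne, hne.symm, Pi.single_apply, pe_self, show (1 : ZMod 2) + 1 = 0 by decide]
      all_goals first | (subst h1; simp_all) | (subst h2; simp_all [pe_self])
    have := shift_mem_one hM c g hg hsd
    show up (pm F _) ∈ M
    convert this using 3
    ext1 x
    rw [shiftPerm_apply]
    by_cases h1 : x = q
    · simp [g, h1]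
    by_cases h2 : x = q + pe c
    · simp [g, h2, pt_add_cancel]
    simp [g, h1, h2, Equiv.swap_apply_of_ne_of_ne h1 h2]
  have all : ∀ (A : Finset (Fin 3)) (x : Pt 3), Equiv.swap x (x + ∑ i ∈ A, pe i) ∈ H := by
    intro A
    induction A using Finset.induction_on with
    | empty => intro x; rw [Finset.sum_empty, add_zero, Equiv.swap_self]; exact one_mem H
    | @insert c A hc ih =>
      intro x
      rw [Finset.sum_insert hc, add_comm (pe c), ← add_assoc]
      set y := x + ∑ i ∈ A, pe i
      rcases eq_or_ne x (y + pe c) with e | e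
      · rw [← e, Equiv.swap_self]; exact one_mem H
      rcases eq_or_ne x y with e' | e'
      · rw [← e']; exact edge x c
      have := mul_mem (mul_mem (edge y c) (ih x)) (edge y c)
      convert this using 1
      rw [Equiv.swap_comm x y, Equiv.swap_comm x (y + pe c),
        show Equiv.swap y (y + pe c) * Equiv.swap y x * Equiv.swap y (y + pe c) =
          Equiv.swap y (y + pe c) * Equiv.swap y x * (Equiv.swap y (y + pe c))⁻¹ by rw [Equiv.swap_inv],
        ← Equiv.swap_apply_apply, Equiv.swap_apply_left, Equiv.swap_apply_of_ne_of_ne e' e]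
  have := all (Finset.univ.filter fun i => (a + b) i = 1) a
  rwa [show ∑ i ∈ Finset.univ.filter (fun i => (a + b) i = 1), pe i = a + b from funext fun i => by
    rcases zm_cases ((a + b) i) with hi | hi <;> rw [Finset.sum_apply, hi] <;>
      simp [pe, Pi.single_apply] at * <;> simp [hi], ← add_assoc, pt_add_self, zero_add] at this

variable [Fintype F]

/-- With three coordinates the derived orthogonal group of the points lies in the overgroup. -/
theorem omega_three (hp : (Fintype.card F).Prime) (hodd : Odd (Fintype.card F)) (h2 : (2 : F) ≠ 0)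
    (hM : BaseMinus p M) {f : Pt 3 → ZMod 2} (hf : up (sd F f) ∈ M) (hq : ¬ Quad f) :
    Omg F 3 ≤ M.comap up := by
  classical
  have hB := base_comap hM
  have hs := single_mem hB hf hq
  set Q := Frame10.sq F (Pt 3) with hQdef
  let N : Subgroup (orth Q) := (M.comap up).comap (OmegaMaxGlue.glHom Q)
  have hmemN : ∀ {m : orth Q} {g : GL (Pt 3) F}, g ∈ M.comap up →
      (∀ x, (g : Matrix (Pt 3) (Pt 3) F) *ᵥ x = m.1 x) → m ∈ N := fun {m g} hg h => by
    show toGL Q m ∈ M.comap up
    rwa [toGL_eq_iff h]
  have hQax : ∀ i : Pt 3, Q (Frame10.ax i) ≠ 0 := fun i => by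
    rw [Frame10.sq_apply, Frame10.dot_ax, Frame10.ax_self]; exact one_ne_zero
  have hrefl : ∀ i, refl Q (Frame10.ax i) (hQax i) ∈ N := fun i => hmemN (hs i) fun x => by
    rw [Frame10.refl_rv, Frame10.rv_ax, sd_mulVec _ x i]
    funext y
    by_cases hy : y = i
    · subst hy; simp [sgn_one]
    · simp [hy]
  have hax : ∀ i l : Pt 3, PairIn N (Frame10.ax i) (Frame10.ax l) := fun i l =>
    ⟨hQax i, hQax l, N.mul_mem (hrefl i) (hrefl l)⟩
  have hsw : ∀ {a b c d : Pt 3}, a ≠ b → c ≠ d → ∃ m ∈ N,
      (∀ x, m.1 x = x ∘ (Equiv.swap c d * Equiv.swap a b : Equiv.Perm (Pt 3))) ∧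
      ∀ i, m.1 (Frame10.ax i) = Frame10.ax ((Equiv.swap a b * Equiv.swap c d : Equiv.Perm (Pt 3)) i) := by
    intro a b c d hab hcd
    have hQdf : ∀ {u v : Pt 3}, u ≠ v → Q (Frame10.df u v) ≠ 0 := fun h => by
      rw [Frame10.sq_apply, Frame10.df_self h]; exact h2
    have happ : ∀ x, (refl Q _ (hQdf hab) * refl Q _ (hQdf hcd)).1 x =
        x ∘ (Equiv.swap c d * Equiv.swap a b : Equiv.Perm (Pt 3)) := fun x => by
      rw [orth_mul_apply, Frame10.refl_rv, Frame10.refl_rv, Frame10.rv_df h2 hcd, Frame10.rv_df h2 hab]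
      rfl
    have hP : Equiv.swap a b * Equiv.swap c d ∈ Perms (M.comap up) :=
      mul_mem (swap_mem hM hs a b) (swap_mem hM hs c d)
    refine ⟨_, hmemN hP fun x => ?_, happ, fun i => ?_⟩
    · rw [happ, pm_mulVec, ← Equiv.Perm.inv_def, _root_.mul_inv_rev, Equiv.swap_inv, Equiv.swap_inv]
    · rw [happ]
      funext l
      simp [Frame10.ax, Pi.single_apply, Equiv.swap_apply_eq_iff]
  obtain ⟨u, hu, huv⟩ := hB.had (0 : Fin 3) 1 (by decide)
  obtain ⟨m, hm⟩ := exists_orth (hB.iso u hu)
  have hmN : m ∈ N := by show toGL Q m ∈ M.comap up; rwa [hm]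
  have hmx : ∀ x, m.1 x = hh F (0 : Fin 3) 1 *ᵥ x := fun x => by rw [← toGL_mulVec, hm, huv]
  have hinv : ∀ x, m.1 (m.1 x) = x := fun x => by
    rw [hmx, hmx, mulVec_mulVec, hh_sq (by decide) h2, one_mulVec]
  set z : Pt 3 := pe 2
  have hz0 : hh F (0 : Fin 3) 1 z 0 = 0 := by
    rw [hh, Matrix.of_apply, if_neg fun h => by simpa [z] using h 2 (by decide) (by decide)]
  have hzz : hh F (0 : Fin 3) 1 z z = (2 : F)⁻¹ := by
    rw [hh, Matrix.of_apply, if_pos fun _ _ _ => rfl]
    simp [z, pe_ne (show (0 : Fin 3) ≠ 2 by decide), pe_ne (show (1 : Fin 3) ≠ 2 by decide)]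
  set s := refl Q (Frame10.ax z) (hQax z)
  have hsx : ∀ x : Pt 3 → F, s.1 x = x - (2 * x z) • Frame10.ax z := fun x => by
    rw [Frame10.refl_rv, Frame10.rv, Frame10.dot_ax, Frame10.dot_ax, Frame10.ax_self, div_one]
  have hfix : s.1 (m.1 (Frame10.ax 0)) = m.1 (Frame10.ax 0) := by
    rw [hsx, show (m.1 (Frame10.ax 0)) z = 0 from by rw [hmx, hh_ax]; exact hz0, mul_zero, zero_smul, sub_zero]
  set w := m.1 (s.1 (m.1 (Frame10.ax z))) with hw
  have hwx : ∀ x, w x = (Frame10.ax z : Pt 3 → F) x - hh F (0 : Fin 3) 1 x z := fun x => by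
    rw [hw, hsx, map_sub, map_smul, hinv,
      show (m.1 (Frame10.ax z)) z = hh F (0 : Fin 3) 1 z z from by rw [hmx, hh_ax], hzz, mul_inv_cancel₀ h2,
      one_smul, hmx, hh_ax]
    rfl
  have hR : Frame10.InR N 0 w := by
    refine ⟨by rw [hw, Frame10.map_dot_self, Frame10.map_dot_self, Frame10.map_dot_self, Frame10.dot_ax,
      Frame10.ax_self], ?_⟩
    have := ((((hax z 0).map hmN).map (hrefl z)).map hmN)
    rwa [hfix, hinv] at this
  have hcol : ∀ {x : Pt 3}, (∀ i, i ≠ 0 → i ≠ 1 → x i = z i) → x ≠ z → w x ≠ 0 := fun {x} hx hxz => by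
    rw [hwx, Frame10.ax_ne hxz, zero_sub, neg_ne_zero, hh, Matrix.of_apply, if_pos hx]
    exact mul_ne_zero (inv_ne_zero h2) (sgn_ne_zero _)
  have hnr : ¬ Frame10.Root w := by
    refine Frame10.not_root_of_card (le_trans ?_ (Finset.card_le_card (s := {z, z + pe 0, z + pe 1}) ?_))
    · have n1 : z ≠ z + pe 0 := pt_ne_add 0 (pe_self 0)
      have n2 : z ≠ z + pe 1 := pt_ne_add 1 (pe_self 1)
      have n3 : z + pe (0 : Fin 3) ≠ z + pe 1 := fun h => by
        simpa [pe_ne (show (0 : Fin 3) ≠ 1 by decide)] using congrFun (add_left_cancel h) 0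
      rw [Finset.card_eq_three.2 ⟨_, _, _, n1, n2, n3, rfl⟩]
    · intro x hx
      rw [Frame10.mem_supp]
      simp only [Finset.mem_insert, Finset.mem_singleton] at hx
      rcases hx with rfl | rfl | rfl
      · rw [hwx, Frame10.ax_self, hzz]
        intro h
        exact one_ne_zero (show (1 : F) = 0 by linear_combination (2 : F) * h + mul_inv_cancel₀ h2)
      · exact hcol (fun i h _ => by simp [pe_ne h]) (pt_ne_add 0 (pe_self 0)).symm
      · exact hcol (fun i _ h => by simp [pe_ne h]) (pt_ne_add 1 (pe_self 1)).symm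
  have hw0 : w 0 = 0 := by
    rw [hwx, Frame10.ax_ne (fun h => by simpa [z] using congrFun h.symm 2), zero_sub, neg_eq_zero, hh,
      Matrix.of_apply, if_neg fun h => by simpa [z] using h 2 (by decide) (by decide)]
  have hcard : 7 ≤ Fintype.card (Pt 3) := by
    rw [Fintype.card_fun, ZMod.card, Fintype.card_fin]; norm_num
  have hle : commutator (orth Q) ≤ N := Frame10.commutator_le_of_units h2 hcard
    (Frame10.descent (rSet_of_pairs h2 hax hsw 0) hp hodd hcard hR hnr hw0)
  intro x hx
  obtain ⟨m', hm', rfl⟩ := exists_of_mem_omegaGL hx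
  exact hle hm'

end three

/-- A sign diagonal on the points that is not quadratic gives the symplectic group. -/
theorem full [Fintype F] (hp : (Fintype.card F).Prime) (hodd : Odd (Fintype.card F)) (hj : 3 ≤ j)
    (hM : BaseMinus p M) {f : Pt j → ZMod 2} (hf : up (sd F f) ∈ M) (hq : ¬ Quad f) : spM j F ≤ M := by
  have h2 : (2 : F) ≠ 0 := by
    have := hp.two_le
    have hne : Fintype.card F ≠ 2 := fun e => by rw [e] at hodd; exact absurd hodd (by decide)
    exact_mod_cast Frame10.small_ne hp (k := 2) (by omega) (by norm_num)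
  refine full_of_omega hp h2 hj hM fun g hg => ?_
  rcases eq_or_lt_of_le hj with rfl | h4
  · exact omega_three hp hodd h2 hM hf hq hg
  · exact C6Plus10.full hp hodd h4 (base_comap hM) (f := f) hf hq hg

/-- Either every sign diagonal on the points is quadratic, or the overgroup is the symplectic group. -/
theorem signs_or_full [Fintype F] (hp : (Fintype.card F).Prime) (hodd : Odd (Fintype.card F)) (hj : 3 ≤ j)
    (hM : BaseMinus p M) : SignsMinus M ∨ M = spM j F :=
  (em (SignsMinus M)).imp_right fun h => by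
    simp only [SignsMinus, not_forall] at h
    obtain ⟨f, hf, hq⟩ := h
    exact le_antisymm hM.le (full hp hodd hj hM hf hq)

end Cfsg.Agent.C6Minus10
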