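import Cfsg.Agent.Lib.C6Plus10Ctl

/-!
The smallest levels: no free coordinate, and one free coordinate, given that blocks send the free sign to a
signed permutation.
-/

set_option autoImplicit false
set_option linter.unusedSectionVars false

namespace Cfsg.Agent.C6Plus10

open Matrix
open scoped MatrixGroups

variable {F : Type*} [Field F] {k : ℕ} {S T : Finset (Fin k)} {M : Subgroup (GL (Pt k) F)}

/-- Every element of a level normalises. -/
def Lev (M : Subgroup (GL (Pt k) F)) (S T : Finset (Fin k)) : Prop := ∀ g ∈ LK M S T, Nr g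

/-- What is used of the blocks over one free coordinate with complex structure. -/
def BlockMon (M : Subgroup (GL (Pt k) F)) : Prop :=
  ∀ a q : Fin k, a ≠ q → ∀ g ∈ LK M {a} {q}, ∃ π f, g * sd F (ip (pe a)) * g⁻¹ = mon F π f ∧
    (∀ y i, i ≠ a → i ≠ q → π y i = y i) ∧ (∀ y, π (y + pe q) = π y + pe q) ∧ (∀ y, π (y + pe a) = π y + pe a)

/-- An element of the extraspecial group, up to sign. -/
def Pau (x : GL (Pt k) F) : Prop := ∃ (c : ZMod 2) (a b : Pt k), x = sd F (fun _ => c) * pau F a b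

theorem pau_pau (a b : Pt k) : Pau (pau F a b) := ⟨0, a, b, by rw [sd_const_zero, one_mul]⟩

theorem Pau.mul {x y : GL (Pt k) F} (hx : Pau x) (hy : Pau y) : Pau (x * y) := by
  obtain ⟨c, a, b, rfl⟩ := hx
  obtain ⟨c', a', b', rfl⟩ := hy
  exact ⟨c + c' + ip b a', a + a', b + b', by
    rw [mul_assoc, ← mul_assoc (pau F a b), ← sd_const_mul, mul_assoc (sd F _) (pau F a b), pau_mul,
      sd_const_add, sd_const_add]
    simp only [mul_assoc]⟩

theorem Pau.inv {x : GL (Pt k) F} (hx : Pau x) : Pau x⁻¹ := by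
  obtain ⟨c, a, b, rfl⟩ := hx
  rw [_root_.mul_inv_rev, pau_inv, sd_inv]
  exact (Pau.mul ⟨ip b a, a, b, rfl⟩ ⟨c, 0, 0, by rw [pau_zero, mul_one]⟩)

theorem Pau.conj {n x : GL (Pt k) F} (hn : Nr n) (hx : Pau x) : Pau (n * x * n⁻¹) := by
  obtain ⟨c, a, b, rfl⟩ := hx
  obtain ⟨a', b', c', h⟩ := hn a b
  refine ⟨c + c', a', b', ?_⟩
  rw [← mul_assoc n, ← sd_const_mul, mul_assoc (sd F _) n, mul_assoc (sd F _) (n * pau F a b), h, ← mul_assoc,
    ← sd_const_add]

theorem cp_iff {g : GL (Pt k) F} {a b : Pt k} : (∃ a' b', CP g a b a' b') ↔ Pau (g * pau F a b * g⁻¹) :=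
  ⟨fun ⟨a', b', c, h⟩ => ⟨c, a', b', h⟩, fun ⟨c, a', b', h⟩ => ⟨a', b', c, h⟩⟩

theorem CP.symm {n : GL (Pt k) F} {a b a' b' : Pt k} (h : CP n a b a' b') : CP n⁻¹ a' b' a b := by
  obtain ⟨c, hc⟩ := h
  refine ⟨c, ?_⟩
  have e : pau F a' b' = sd F (fun _ => c) * (n * pau F a b * n⁻¹) := by
    rw [hc, ← mul_assoc, ← sd_const_add, CharTwo.add_self_eq_zero, sd_const_zero, one_mul]
  rw [e, inv_inv, ← mul_assoc, ← sd_const_mul]
  group

theorem ip_of_comm (h2 : (2 : F) ≠ 0) {a b a' b' : Pt k} (h : pau F a b * pau F a' b' = pau F a' b' * pau F a b) :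
    ip b a' + ip b' a = 0 := by
  rw [pau_comm, mul_eq_right] at h
  exact congrFun (sd_inj h2 (h.trans sd_zero.symm)) 0

theorem ip_zero_right (a : Pt k) : ip a 0 = 0 := dotProduct_zero a

theorem sd_comm (f h : Pt k → ZMod 2) : sd F f * sd F h = sd F h * sd F f := by rw [sd_mul, sd_mul, add_comm]

theorem shp_pe {i : Fin k} (hiS : i ∉ S) (hiT : i ∉ T) : Shp S T 0 (pe i) :=
  ⟨fun _ _ => rfl, fun j hj => pe_ne fun e : j = i => hiS (e ▸ hj), fun j hj => pe_ne fun e : j = i => hiT (e ▸ hj)⟩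

theorem LK_comm_sd {g : GL (Pt k) F} (hg : g ∈ LK M S T) {i : Fin k} (hiS : i ∉ S) (hiT : i ∉ T) :
    g * sd F (ip (pe i)) = sd F (ip (pe i)) * g := by
  rw [← pau_sd]
  exact (mem_LK.1 hg).2 _ _ (shp_pe hiS hiT)

theorem LK_conj_sd {g : GL (Pt k) F} (hg : g ∈ LK M S T) {i : Fin k} (hiS : i ∉ S) (hiT : i ∉ T) :
    g * sd F (ip (pe i)) * g⁻¹ = sd F (ip (pe i)) := by
  rw [LK_comm_sd hg hiS hiT, mul_inv_cancel_right]

/-- Commuting with one more element lowers the level. -/
theorem lower {S' T' : Finset (Fin k)} {g : GL (Pt k) F} (hg : g ∈ LK M S T) {u0 w0 : Pt k}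
    (hc : g * pau F u0 w0 = pau F u0 w0 * g)
    (h : ∀ u w, Shp S' T' u w → ∃ t : ZMod 2, Shp S T (u + t • u0) (w + t • w0)) : g ∈ LK M S' T' := by
  refine mem_LK.2 ⟨(mem_LK.1 hg).1, fun u w hs => ?_⟩
  obtain ⟨t, ht⟩ := h u w hs
  rcases zm_cases t with rfl | rfl
  · simpa using (mem_LK.1 hg).2 _ _ ht
  · have h1 : Commute g (pau F (u + (1 : ZMod 2) • u0) (w + (1 : ZMod 2) • w0)) := (mem_LK.1 hg).2 _ _ ht
    have h2 : Commute g (sd F (fun _ => ip (w + w0) u0)) := (sd_const_mul _ g).symm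
    have e : pau F u w = sd F (fun _ => ip (w + w0) u0) *
        (pau F (u + (1 : ZMod 2) • u0) (w + (1 : ZMod 2) • w0) * pau F u0 w0) := by
      rw [one_smul, one_smul, pau_mul, pt_add_cancel, pt_add_cancel, ← mul_assoc, ← sd_const_add,
        CharTwo.add_self_eq_zero, sd_const_zero, one_mul]
    rw [e]
    exact h2.mul_right (h1.mul_right hc)

theorem comm_of_conj {g x : GL (Pt k) F} (h : g * x * g⁻¹ = x) : g * x = x * g := mul_inv_eq_iff_eq_mul.1 h

/-- The permutation applying the given one where the function is one. -/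
def selP (π : Equiv.Perm (Pt k)) (h : Pt k → ZMod 2) (hπ : ∀ y, h (π y) = h y) : Equiv.Perm (Pt k) where
  toFun y := if h y = 1 then π y else y
  invFun y := if h y = 1 then π.symm y else y
  left_inv y := by
    rcases zm_cases (h y) with e | e
    · simp [e]
    · simp [e, hπ]
  right_inv y := by
    rcases zm_cases (h y) with e | e
    · simp [e]
    · have e' : h (π.symm y) = 1 := by rw [← hπ, Equiv.apply_symm_apply, e]
      simp [e, e']

theorem ctl_selP {π : Equiv.Perm (Pt k)} {h : Pt k → ZMod 2} (hπ : ∀ y, h (π y) = h y) (f : Pt k → ZMod 2) :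
    ctl h (mon F π f) = mon F (selP π h hπ) (fun y => h y * f y) :=
  ctl_mon hπ (fun _ => rfl) f

theorem selP_addRight {u : Pt k} {h : Pt k → ZMod 2} (hu : ∀ y, h (Equiv.addRight u y) = h y) (y : Pt k) :
    selP (Equiv.addRight u) h hu y = y + h y • u := by
  show (if h y = 1 then y + u else y) = _
  rcases zm_cases (h y) with e | e <;> simp [e]

theorem ctl_pau_mem (hM : Base M) {h : Pt k → ZMod 2} (hh : Aff h) {u : Pt k} (hu : ∀ y, h (y + u) = h y) (b : Pt k) :
    ctl h (pau F u b) ∈ M := by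
  rw [pau_eq, ctl_selP hu]
  refine M.mul_mem (hM.aff _ fun x y z => ?_) (hM.quad _ (hh.mul (aff_ip b)))
  rw [selP_addRight hu, selP_addRight hu, selP_addRight hu, selP_addRight hu]
  obtain ⟨c, l, rfl⟩ := aff_eq hh
  simp only [ip_add_right]
  funext i
  simp only [Pi.add_apply, Pi.smul_apply, smul_eq_mul]
  grind

/-! ### One sign coordinate swapped with the complex structure -/

theorem sq_spec (hM : Base M) {i q : Fin k} (hiq : i ≠ q) : ∃ n ∈ M, Nr n ∧ n * n = pau F (pe q) (pe q) ∧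
    (∀ a b, n * pau F a b * n⁻¹ = sd F (fun _ => a i * b i + a q * b q + a q) *
      pau F (exch i q a b) (exch i q b a)) := by
  obtain ⟨u, hu, hu'⟩ := hM.had _ _ hiq
  refine ⟨u * sd F (ip (pe q)), M.mul_mem hu (hM.quad _ (aff_ip _).quad),
    (nr_hh hiq hu').mul (nr_quad (aff_ip _).quad), ?_, fun a b => ?_⟩
  · have hsymm : (u : Matrix (Pt k) (Pt k) F)ᵀ = u := by
      ext x y
      rw [Matrix.transpose_apply, hu']
      simp only [hh, Matrix.of_apply]
      rw [mul_comm (x i), mul_comm (x q)]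
      exact if_congr ⟨fun h j h1 h2 => (h j h1 h2).symm, fun h j h1 h2 => (h j h1 h2).symm⟩ rfl rfl
    have huu : u * u = 1 := Units.ext (by
      have := hM.iso u hu
      rwa [hsymm] at this)
    have e := hh_conj hiq hu' (0 : Pt k) (pe q)
    rw [show exch i q (0 : Pt k) (pe q) = pe q from funext fun t => by
        by_cases ht : t = q
        · simp [exch, ht]
        · simp [exch, pe_ne ht],
      show exch i q (pe q) (0 : Pt k) = 0 from funext fun t => by
        by_cases ht : t = q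
        · simp [exch, ht]
        · simp [exch, pe_ne ht]] at e
    simp only [Pi.zero_apply, zero_mul, add_zero, sd_const_zero, one_mul, pau_sd] at e
    rw [inv_eq_of_mul_eq_one_right huu] at e
    rw [show u * sd F (ip (pe q)) * (u * sd F (ip (pe q))) = u * sd F (ip (pe q)) * u * sd F (ip (pe q)) by group, e,
      ← pau_sd, pau_mul, ip_zero_left, sd_const_zero, one_mul, add_zero, zero_add]
  rw [← pau_sd, show u * pau F 0 (pe q) * pau F a b * (u * pau F 0 (pe q))⁻¹ =
      u * (pau F 0 (pe q) * pau F a b * (pau F 0 (pe q))⁻¹) * u⁻¹ by group,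
    pau_comm 0 (pe q) a b, mul_assoc (sd F _), mul_inv_cancel_right, ← mul_assoc u, ← sd_const_mul,
    mul_assoc (sd F _) u, mul_assoc (sd F _) (u * _), hh_conj hiq hu', ← mul_assoc, ← sd_const_add]
  congr 2
  funext _
  rw [ip_pe, ip_comm b, ip_zero_left]
  ring

theorem sq_LK (hST : Disjoint S T) {i q : Fin k} (hi : i ∈ S) (hq : q ∈ T) {n : GL (Pt k) F} (hn : n ∈ M)
    (h : ∀ a b, n * pau F a b * n⁻¹ = sd F (fun _ => a i * b i + a q * b q + a q) *
      pau F (exch i q a b) (exch i q b a)) : n ∈ LK M S T := by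
  refine mem_LK_of_conj hn fun u w hs => ?_
  have e : ∀ {a b : Pt k}, a i = b i → a q = b q → exch i q a b = a := by
    intro a b h1 h2
    funext t
    simp only [exch]
    split_ifs with ht
    · rcases ht with rfl | rfl
      · exact h1.symm
      · exact h2.symm
    · rfl
  rw [h, e (by rw [hs.huS hST hi, hs.hw i hi]) (hs.hq q hq).symm,
    e (by rw [hs.huS hST hi, hs.hw i hi]) (hs.hq q hq), hs.huS hST hi, hs.hq q hq]
  rcases zm_cases (u q) with e' | e' <;> simp [e', sd_const_zero, CharTwo.add_self_eq_zero]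

theorem rc_sq (hM : Base M) (hST : Disjoint S T) (i : ↥S) {q : Fin k} (hq : q ∈ T) (v : Vec S) :
    Rc M S T v (fun t => if t = i then v.2 t else v.1 t, fun t => if t = i then v.1 t else v.2 t) := by
  have hqS : q ∉ S := fun h => Finset.disjoint_left.1 hST h hq
  have hne : (i : Fin k) ≠ q := fun e => hqS (e ▸ i.2)
  obtain ⟨n, hn, hnr, -, hc⟩ := sq_spec hM hne
  have e : ∀ a b : ↥S → ZMod 2, exch (i : Fin k) q (ex S a) (ex S b) =
      ex S (fun t => if t = i then b t else a t) := by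
    intro a b
    funext t
    by_cases ht : t ∈ S
    · have htq : t ≠ q := fun e => hqS (e ▸ ht)
      simp only [exch, ex_mem _ ht, Subtype.ext_iff, htq, or_false]
    · simp only [exch, ex_not_mem _ ht, ite_self]
  exact ⟨n, sq_LK hST i.2 hq hn hc, hnr, 0, 0, shp_zero, CP.of_eq (hc _ _) (by rw [e, add_zero]) (by rw [e, add_zero])⟩

theorem reach_one (hM : Base M) {a q : Fin k} (haq : a ≠ q) {v : Vec ({a} : Finset (Fin k))} (hv : v ≠ 0) :
    Rc M {a} {q} v (0, fun _ => 1) := by
  have hST : Disjoint ({a} : Finset (Fin k)) {q} := Finset.disjoint_singleton.2 haq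
  set i : ↥({a} : Finset (Fin k)) := ⟨a, Finset.mem_singleton_self a⟩
  have hu : ∀ t : ↥({a} : Finset (Fin k)), t = i := fun t => Subtype.ext (Finset.mem_singleton.1 t.2)
  obtain ⟨x, z⟩ := v
  have hx : x = fun _ => x i := funext fun t => by rw [hu t]
  have hz : z = fun _ => z i := funext fun t => by rw [hu t]
  have hq : q ∈ ({q} : Finset (Fin k)) := Finset.mem_singleton_self q
  rcases zm_cases (x i) with ex1 | ex1 <;> rcases zm_cases (z i) with ez | ez <;> rw [hx, hz, ex1, ez]
  · exact absurd (by rw [hx, hz, ex1, ez]; rfl) hv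
  · exact Rc.refl _
  · convert rc_sq hM hST i hq ((fun _ => 1, fun _ => 0) : Vec _) using 2 <;> funext t <;> simp [hu t]
  · refine (rc_ph hM hST i hq _).trans ?_
    convert rc_sq hM hST i hq ((fun _ => 1, fun _ => 0) : Vec _) using 2 <;> funext t <;>
      simp [hu t, CharTwo.add_self_eq_zero]

/-! ### One free coordinate with complex structure -/

variable (h2 : (2 : F) ≠ 0) (hM : Base M) (hS : Signs M) (hB : BlockMon M) (hk : 4 ≤ k)
include h2 hM hS hB hk

/-- The image of the free sign is a Pauli element up to one product of two control coordinates. -/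
theorem image_sign {a q : Fin k} (haq : a ≠ q) {g : GL (Pt k) F} (hg : g ∈ LK M {a} {q}) :
    ∃ (d d' : Fin k) (ε c : ZMod 2) (u b : Pt k), d ≠ d' ∧ d ≠ a ∧ d ≠ q ∧ d' ≠ a ∧ d' ≠ q ∧
      g * sd F (ip (pe a)) * g⁻¹ = sd F (fun y => ε * (y d * y d')) * (sd F (fun _ => c) * pau F u b) := by
  obtain ⟨π, f, hx, hfix, hπq, hπa⟩ := hB a q haq g hg
  set D : Finset (Fin k) := Finset.univ \ {a, q} with hD
  have hmem : ∀ {l}, l ∈ D ↔ l ≠ a ∧ l ≠ q := fun {l} => by simp [hD]
  have hcard : 2 ≤ D.card := by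
    have := Finset.le_card_sdiff {a, q} (Finset.univ : Finset (Fin k))
    rw [Finset.card_univ, Fintype.card_fin, Finset.card_pair haq] at this
    rw [hD]
    omega
  obtain ⟨d, hd, d', hd', hdd⟩ := Finset.one_lt_card.1 hcard
  have hgM := (mem_LK.1 hg).1
  have hxM : mon F π f ∈ M := hx ▸ M.mul_mem (M.mul_mem hgM (hM.quad _ (aff_ip _).quad)) (M.inv_mem hgM)
  have hkp : ∀ l ∈ D, ∀ y, ip (pe l) (π y) = ip (pe l) y := fun l hl y => by
    rw [ip_pe, ip_pe, hfix y l (hmem.1 hl).1 (hmem.1 hl).2]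
  have hcM : ∀ l ∈ D, ctl (ip (pe l)) (mon F π f) ∈ M := fun l hl => by
    have e := ctl_conj h2 (kp_sd (ip (pe l)) (ip (pe a))) (LK_conj_sd hg
      (fun e => (hmem.1 hl).1 (Finset.mem_singleton.1 e)) (fun e => (hmem.1 hl).2 (Finset.mem_singleton.1 e)))
    rw [← hx, ← e, ctl_sd]
    exact M.mul_mem (M.mul_mem hgM (hM.quad _ ((aff_ip _).mul (aff_ip _)))) (M.inv_mem hgM)
  have hq0 : ∀ y, π (y + pe q) a = π y a := fun y => by rw [hπq, Pi.add_apply, pe_ne haq, add_zero]
  have ha0 : ∀ y, π (y + pe a) q = π y q := fun y => by rw [hπa, Pi.add_apply, pe_ne haq.symm, add_zero]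
  -- the two moved coordinates are moved by constants
  have hconst : ∀ i j, i ≠ j → (i = a ∧ j = q ∨ i = q ∧ j = a) → ∀ y, π y i = y i + (π 0 i) := by
    intro i j hij hcase y
    have hj : ∀ y, π (y + pe j) = π y + pe j := by rcases hcase with ⟨-, rfl⟩ | ⟨-, rfl⟩ <;> assumption
    have hi : ∀ y, π (y + pe i) = π y + pe i := by rcases hcase with ⟨rfl, -⟩ | ⟨rfl, -⟩ <;> assumption
    have hji : ∀ y, π (y + pe j) i = π y i := fun y => by rw [hj, Pi.add_apply, pe_ne hij, add_zero]
    have hs : Aff (fun y => π y i + ip (pe i) y) :=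
      (aff_coord hM hS hxM (pe j) (fun y => by rw [hj, Pi.add_apply, pe_self]) hji).add (aff_ip _)
    have hz : ∀ t x, dl (pe t) (fun y => π y i + ip (pe i) y) x = 0 := by
      intro t x
      by_cases ht : t = i ∨ t = j
      · rcases ht with rfl | rfl
        · simp only [dl_apply, hi, ip_pe, Pi.add_apply, pe_self]
          grind
        · simp only [dl_apply, hji, ip_pe, Pi.add_apply, pe_ne hij]
          grind
      · obtain ⟨l, hl, hlt⟩ : ∃ l ∈ D, l ≠ t := by
          by_cases e : d = t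
          · exact ⟨d', hd', fun e' => hdd (e.trans e'.symm)⟩
          · exact ⟨d, hd, e⟩
        have hla := (hmem.1 hl).1
        have hlq := (hmem.1 hl).2
        have hli : l ≠ i := by rcases hcase with ⟨rfl, -⟩ | ⟨rfl, -⟩ <;> assumption
        have hlj : l ≠ j := by rcases hcase with ⟨-, rfl⟩ | ⟨-, rfl⟩ <;> assumption
        refine dl_eq_zero_of_mul hlt.symm hs ?_ x
        have hc := hcM l hl
        rw [ctl_selP (hkp l hl)] at hc
        have hsel : ∀ y, selP π (ip (pe l)) (hkp l hl) y = if y l = 1 then π y else y := fun y => by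
          show (if ip (pe l) y = 1 then π y else y) = _
          rw [ip_pe]
        refine (show (fun y => selP π (ip (pe l)) (hkp l hl) y i + ip (pe i) y) =
          fun y => (π y i + ip (pe i) y) * y l from funext fun y => ?_) ▸
          (aff_coord hM hS hc (i := i) (j := j) (pe j) (fun y => ?_) (fun y => ?_)).add (aff_ip (pe i))
        · simp only [hsel, ip_pe]
          rcases zm_cases (y l) with e | e <;> simp [e, CharTwo.add_self_eq_zero]
        · simp only [hsel, Pi.add_apply, pe_ne hlj, add_zero]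
          split_ifs <;> simp [hj]
        · simp only [hsel, Pi.add_apply, pe_ne hlj, add_zero]
          split_ifs <;> simp [hji, pe_ne hij]
    have h := const_of_dl hz y
    simp only [ip_pe, Pi.zero_apply, add_zero] at h
    linear_combination (norm := grind) h
  have hπ : π = Equiv.addRight (π 0) := Equiv.ext fun y => funext fun i => by
    show π y i = y i + π 0 i
    by_cases hia : i = a
    · exact hia ▸ hconst a q haq (Or.inl ⟨rfl, rfl⟩) y
    by_cases hiq : i = q
    · exact hiq ▸ hconst q a haq.symm (Or.inr ⟨rfl, rfl⟩) y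
    rw [hfix y i hia hiq, hfix 0 i hia hiq, Pi.zero_apply, add_zero]
  rw [hπ] at hxM hcM hx
  obtain ⟨ε, -, hA⟩ := pauli_of_ctl hM hS D hd hd' hdd
    (fun l hl => by rw [hfix 0 l (hmem.1 hl).1 (hmem.1 hl).2, Pi.zero_apply]) hxM hcM
  obtain ⟨c, b, hp⟩ := mon_aff_pau (F := F) hA (π 0)
  refine ⟨d, d', ε, c + ε * (π 0 d * π 0 d'), π 0, b, hdd, (hmem.1 hd).1, (hmem.1 hd).2, (hmem.1 hd').1,
    (hmem.1 hd').2, ?_⟩
  rw [hx, hfix 0 d (hmem.1 hd).1 (hmem.1 hd).2, Pi.zero_apply, zero_mul, mul_zero, add_zero, ← hp, ← mon_one_left,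
    mon_mul, one_mul]
  congr 1
  funext y
  simp only [Equiv.coe_addRight, Pi.add_apply, hfix 0 d (hmem.1 hd).1 (hmem.1 hd).2,
    hfix 0 d' (hmem.1 hd').1 (hmem.1 hd').2, Pi.zero_apply, add_zero]
  grind

/-- Some normalising element of the level brings the image of the free sign back. -/
theorem moves [Finite F] {a q : Fin k} (haq : a ≠ q) {g : GL (Pt k) F} (hg : g ∈ LK M {a} {q}) :
    ∃ n ∈ LK M {a} {q}, Nr n ∧ n * g * sd F (ip (pe a)) = sd F (ip (pe a)) * (n * g) := by
  obtain ⟨d, d', ε, c, u, b, hdd, hda, hdq, hd'a, hd'q, hx⟩ := image_sign h2 hM hS hB hk haq hg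
  have hST : Disjoint ({a} : Finset (Fin k)) {q} := Finset.disjoint_singleton.2 haq
  set P : GL (Pt k) F := sd F (fun y => ε * (y d * y d'))
  -- it commutes with the level
  have hP : ∀ m ∈ LK M {a} {q}, m * P = P * m := by
    intro m hm
    rcases zm_cases ε with e | e
    · rw [show P = 1 by rw [show P = sd F (fun y => ε * (y d * y d')) from rfl, e]; simp only [zero_mul]; exact sd_zero,
        one_mul, mul_one]
    · have eP : P = ctl (ip (pe d)) (sd F (ip (pe d'))) := by
        rw [ctl_sd, show P = sd F (fun y => ε * (y d * y d')) from rfl, e]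
        simp only [one_mul, ip_pe]
      refine mul_inv_eq_iff_eq_mul.1 ?_
      rw [eP, ctl_conj h2 (kp_sd _ _) (LK_conj_sd hm (by simpa using hda) (by simpa using hdq)),
        LK_conj_sd hm (by simpa using hd'a) (by simpa using hd'q)]
  have hZ : sd F (ip (pe a)) ∈ LK M {a} {q} := by
    rw [← pau_sd, ← ex_single (Finset.mem_singleton_self a), ← (ex ({a} : Finset (Fin k))).map_zero]
    exact El_mem hM hST ((0, Pi.single ⟨a, Finset.mem_singleton_self a⟩ 1) : Vec _)
  obtain ⟨v, u', z, hs, hu, hb⟩ := split_shp hST (a := u) (b := b) fun u'' w'' hs' => by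
    refine ip_of_comm h2 ?_
    have hmem : g * sd F (ip (pe a)) * g⁻¹ ∈ LK M {a} {q} := mul_mem (mul_mem hg hZ) (inv_mem hg)
    have e1 : Commute (pau F u'' w'') (P * (sd F (fun _ => c) * pau F u b)) :=
      hx ▸ ((mem_LK.1 hmem).2 u'' w'' hs').symm
    have e2 : Commute (pau F u'' w'') P := by
      refine hP _ (mem_LK_of_conj (pau_mem hM _ _) fun u₃ w₃ hs₃ => ?_)
      rw [pau_comm, mul_assoc, mul_inv_cancel_right]
      have : ip w'' u₃ + ip w₃ u'' = 0 := by
        rw [ip_eq_sum, ip_eq_sum, ← Finset.sum_add_distrib]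
        refine Finset.sum_eq_zero fun i _ => ?_
        by_cases hi : i = q
        · subst hi
          rw [hs'.hq i (Finset.mem_singleton_self i), hs₃.hq i (Finset.mem_singleton_self i), mul_comm (u₃ i),
            CharTwo.add_self_eq_zero]
        · rw [hs'.hu i (by simpa using hi), hs₃.hu i (by simpa using hi), mul_zero, mul_zero, add_zero]
      rw [this, sd_const_zero, one_mul]
    have e3 : Commute (pau F u'' w'') (sd F (fun _ => c)) := (sd_const_mul c _).symm
    have e4 : pau F u b = sd F (fun _ => c) * (P⁻¹ * (P * (sd F (fun _ => c) * pau F u b))) := by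
      rw [inv_mul_cancel_left, ← mul_assoc, ← sd_const_add, CharTwo.add_self_eq_zero, sd_const_zero, one_mul]
    rw [e4]
    exact (e3.mul_right (e2.inv_right.mul_right e1)).eq.symm
  have hv : v ≠ 0 := by
    intro hv0
    rw [hv0, Prod.fst_zero, map_zero, zero_add] at hu
    rw [hv0, Prod.snd_zero, map_zero, zero_add] at hb
    subst hu hb
    have hcentral : ∀ m ∈ LK M {a} {q}, Commute m (sd F (ip (pe a))) := fun m hm => by
      have e : Commute m (g * sd F (ip (pe a)) * g⁻¹) := by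
        rw [hx]
        exact (show Commute m P from hP m hm).mul_right ((show Commute m _ from (sd_const_mul c m).symm).mul_right ((mem_LK.1 hm).2 _ _ hs))
      have e' : Commute g (g * sd F (ip (pe a)) * g⁻¹) := by
        rw [hx]
        exact (show Commute g P from hP g hg).mul_right ((show Commute g _ from (sd_const_mul c g).symm).mul_right ((mem_LK.1 hg).2 _ _ hs))
      have e'' : g * sd F (ip (pe a)) * g⁻¹ = sd F (ip (pe a)) := by
        calc g * sd F (ip (pe a)) * g⁻¹ = g⁻¹ * (g * (g * sd F (ip (pe a)) * g⁻¹)) := by group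
          _ = g⁻¹ * ((g * sd F (ip (pe a)) * g⁻¹) * g) := by rw [e'.eq]
          _ = sd F (ip (pe a)) := by group
      rwa [e''] at e
    have h1 := (hcentral _ (El_mem hM hST ((fun _ => 1, fun _ => 0) : Vec _))).eq
    rw [El, ← pau_sd] at h1
    have h3 := ip_of_comm h2 h1
    have he : ex ({a} : Finset (Fin k)) (fun _ => (1 : ZMod 2)) = pe a := funext fun i => by
      by_cases hi : i = a
      · subst hi; rw [ex_mem _ (Finset.mem_singleton_self i), pe_self]
      · rw [ex_not_mem _ (by simpa using hi), pe_ne hi]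
    simp only [he, show (fun _ : ↥({a} : Finset (Fin k)) => (0 : ZMod 2)) = 0 from rfl, map_zero, ip_pe, pe_self,
      ip_zero_left, zero_add] at h3
    exact one_ne_zero h3
  obtain ⟨n, hn, hnn, u3, z3, hs3, hc3⟩ := reach_one hM haq hv
  have hc4 := hc3.add (CP_of_LK hn hs)
  rw [← hu, ← hb] at hc4
  obtain ⟨c4, hc4⟩ := hc4
  have e1a : (ex ({a} : Finset (Fin k)) (fun _ => (1 : ZMod 2))) = pe a := funext fun i => by
    by_cases hi : i = a
    · subst hi; rw [ex_mem _ (Finset.mem_singleton_self i), pe_self]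
    · rw [ex_not_mem _ (by simpa using hi), pe_ne hi]
  simp only [map_zero, zero_add, e1a] at hc4
  have hsh := hs3.add hs
  set U := u3 + u'
  set W := z3 + z
  rw [add_assoc] at hc4
  change n * pau F u b * n⁻¹ = sd F (fun _ => c4) * pau F U (pe a + W) at hc4
  have hconj : n * g * sd F (ip (pe a)) * (n * g)⁻¹ =
      P * (sd F (fun _ => c + c4) * pau F U (pe a + W)) := by
    calc n * g * sd F (ip (pe a)) * (n * g)⁻¹ = n * (g * sd F (ip (pe a)) * g⁻¹) * n⁻¹ := by group
      _ = n * P * (sd F (fun _ => c) * pau F u b) * n⁻¹ := by rw [hx, ← mul_assoc]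
      _ = P * (n * sd F (fun _ => c) * n⁻¹ * (n * pau F u b * n⁻¹)) := by rw [hP n hn]; group
      _ = _ := by rw [conj_sd_const, hc4, ← mul_assoc (sd F fun _ => c), ← sd_const_add]
  -- no complex structure in the image
  have hU : U = 0 := by
    have hsq : (n * g * sd F (ip (pe a)) * (n * g)⁻¹) * (n * g * sd F (ip (pe a)) * (n * g)⁻¹) = 1 := by
      rw [conj_mul, sd_mul, show ip (pe a) + ip (pe a) = (0 : Pt k → ZMod 2) from
        funext fun _ => CharTwo.add_self_eq_zero _, sd_zero, mul_one, mul_inv_cancel]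
    rw [hconj] at hsq
    have hQ : P * P = 1 := by
      rw [sd_mul, show ((fun y : Pt k => ε * (y d * y d')) + fun y => ε * (y d * y d')) = 0 from
        funext fun y => CharTwo.add_self_eq_zero (ε * (y d * y d')), sd_zero]
    have hx' : P * (sd F (fun _ => c + c4) * pau F U (pe a + W)) =
        (sd F (fun _ => c + c4) * pau F U (pe a + W)) * P := by
      have hm : sd F (fun _ => c + c4) * pau F U (pe a + W) ∈ LK M {a} {q} := by
        have : P⁻¹ * (n * g * sd F (ip (pe a)) * (n * g)⁻¹) ∈ LK M {a} {q} := by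
          refine mul_mem (inv_mem ?_) (mul_mem (mul_mem (mul_mem hn hg) hZ) (inv_mem (mul_mem hn hg)))
          refine mem_LK_of_conj (hM.quad _ ?_) fun u'' w'' hs'' => ?_
          · simpa only [ip_pe] using (show Quad (fun y : Pt k => ε * (y d * y d')) from by
              rcases zm_cases ε with e | e <;> subst e
              · simpa using (aff_const (k := k) 0).quad
              · simpa using quad_mul_coord (i := d) (j := d'))
          · rw [mul_inv_eq_iff_eq_mul]
            refine (hP _ (mem_LK_of_conj (pau_mem hM _ _) fun u₃ w₃ hs₃ => ?_)).symm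
            rw [pau_comm, mul_assoc, mul_inv_cancel_right]
            have : ip w'' u₃ + ip w₃ u'' = 0 := by
              rw [ip_eq_sum, ip_eq_sum, ← Finset.sum_add_distrib]
              refine Finset.sum_eq_zero fun i _ => ?_
              by_cases hi : i = q
              · subst hi
                rw [hs''.hq i (Finset.mem_singleton_self i), hs₃.hq i (Finset.mem_singleton_self i),
                  mul_comm (u₃ i), CharTwo.add_self_eq_zero]
              · rw [hs''.hu i (by simpa using hi), hs₃.hu i (by simpa using hi), mul_zero, mul_zero, add_zero]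
            rw [this, sd_const_zero, one_mul]
        rwa [hconj, inv_mul_cancel_left] at this
      exact (hP _ hm).symm
    rw [mul_assoc P, ← mul_assoc (sd F (fun _ => c + c4) * pau F U (pe a + W)) P, ← hx'] at hsq
    simp only [mul_assoc] at hsq
    rw [← mul_assoc P P, hQ, one_mul, ← mul_assoc (pau F U _), ← sd_const_mul, mul_assoc, pau_mul, pt_add_self,
      pt_add_self, pau_zero, mul_one, ← sd_const_add, ← sd_const_add, ← add_assoc, CharTwo.add_self_eq_zero,
      zero_add] at hsq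
    have h0 : ip (pe a + W) U = 0 := congrFun (sd_inj h2 (hsq.trans sd_zero.symm)) 0
    funext i
    by_cases hi : i = q
    · subst hi
      rw [ip_add_left, ip_pe, hsh.huS hST (Finset.mem_singleton_self a), zero_add, ip_eq_sum,
        Finset.sum_eq_single i] at h0
      · rw [hsh.hq i (Finset.mem_singleton_self i)] at h0
        rcases zm_cases (U i) with e | e
        · exact e
        · rw [e, one_mul] at h0; exact absurd h0 one_ne_zero
      · intro t _ ht; rw [hsh.hu t (by simpa using ht), mul_zero]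
      · simp
    · exact hsh.hu i (by simpa using hi)
  have hWq : W q = 0 := by rw [hsh.hq q (Finset.mem_singleton_self q), hU]; rfl
  have hWa : W a = 0 := hsh.hw a (Finset.mem_singleton_self a)
  set h : Pt k → ZMod 2 := fun y => c + c4 + (ε * (y d * y d') + ip W y) with hh_def
  have hq' : ∀ y, h (y + pe q) = h y := fun y => by
    simp only [hh_def, ip_add_right, ip_pe_right, hWq, Pi.add_apply, pe_ne hdq, pe_ne hd'q, add_zero]
  have ha' : ∀ y, h (y + pe a) = h y := fun y => by
    simp only [hh_def, ip_add_right, ip_pe_right, hWa, Pi.add_apply, pe_ne hda, pe_ne hd'a, add_zero]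
  have hm : n * g * sd F (ip (pe a)) * (n * g)⁻¹ = sd F (fun y => y a + h y) := by
    rw [hconj, hU, pau_sd, sd_mul, sd_mul]
    congr 1
    funext y
    simp only [hh_def, Pi.add_apply, ip_add_left, ip_pe]
    ring
  -- the phase at the free place shows that the remaining function is affine
  have hJ : n * g * pau F (pe q) (pe q) * (n * g)⁻¹ = pau F (pe q) (pe q) := by
    have hshq : Shp ({a} : Finset (Fin k)) {q} (pe q) (pe q) := ⟨fun i hi => pe_ne (by simpa using hi),
      fun i hi => pe_ne (by rw [Finset.mem_singleton.1 hi]; exact haq), fun _ _ => rfl⟩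
    rw [(mem_LK.1 (mul_mem hn hg)).2 _ _ hshq, mul_inv_cancel_right]
  have haff : Aff h := by
    have hk1 : ∀ y, ip (pe a) (Equiv.addRight (pe q) y) = ip (pe a) y := fun y => by
      simp [ip_pe, pe_ne haq]
    have hk2 : ∀ y, (fun y => y a + h y) (Equiv.addRight (pe q) y) = (fun y => y a + h y) y := fun y => by
      simp [hq', pe_ne haq]
    have hρ : ctl (ip (pe a)) (pau F (pe q) (pe q)) ∈ M :=
      ctl_pau_mem hM (aff_ip _) (fun y => by simpa using hk1 y) _
    have e := ctl_conj h2 (kp_mon (F := F) hk1 (ip (pe q))) hm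
    rw [← pau_eq, hJ] at e
    have hm' : ctl (fun y => y a + h y) (pau F (pe q) (pe q)) ∈ M :=
      e ▸ M.mul_mem (M.mul_mem (mem_LK.1 (mul_mem hn hg)).1 hρ) (M.inv_mem (mem_LK.1 (mul_mem hn hg)).1)
    have hprod := M.mul_mem hm' hρ
    rw [pau_eq, ctl_selP hk2, ctl_selP hk1, mon_mul] at hprod
    have hval : ∀ y, (selP (Equiv.addRight (pe q)) (fun y => y a + h y) hk2 * selP (Equiv.addRight (pe q)) (ip (pe a)) hk1) y =
        y + h y • pe q := fun y => by
      rw [Equiv.Perm.mul_apply, selP_addRight, selP_addRight]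
      simp only [ip_pe, Pi.add_apply, Pi.smul_apply, pe_ne haq, smul_zero, add_zero]
      rw [show h (y + y a • pe q) = h y by rcases zm_cases (y a) with e | e <;> simp [e, hq'], add_assoc, ← add_smul,
        ← add_assoc, CharTwo.add_self_eq_zero, zero_add]
    have h' := (aff_coord hM hS hprod (i := q) (j := a) (pe a)
      (fun y => by simp [hval, pe_ne haq]) (fun y => by simp [hval, ha', pe_ne haq.symm])).add (aff_ip (pe q))
    refine (show (fun y => _ + ip (pe q) y) = h from funext fun y => ?_) ▸ h'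
    rw [hval, ip_pe]
    simp
    grind
  obtain ⟨c', w, hhw⟩ := aff_eq haff
  have hw : w a = 0 ∧ w q = 0 := by
    constructor
    · have := ha' 0
      simpa [hhw, ip_add_right, ip_pe_right, ip_zero_right] using this
    · have := hq' 0
      simpa [hhw, ip_add_right, ip_pe_right, ip_zero_right] using this
  have hwd : ip w (pe a) = 0 := by rw [ip_pe_right]; exact hw.1
  set n2 : GL (Pt k) F := pm F (trP (pe a) w c' hwd)
  have hn2 : n2 ∈ LK M {a} {q} := tr_LK hM _ _ c' hwd fun u w' hs' => by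
    refine ⟨ip_eq_zero fun i => ?_, by rw [ip_pe_right]; exact hs'.hw a (Finset.mem_singleton_self a)⟩
    by_cases hi : i = q
    · exact Or.inl (hi ▸ hw.2)
    · exact Or.inr (hs'.hu i (by simpa using hi))
  have hn2c : n2 * sd F (ip (pe a)) * n2⁻¹ = sd F (fun y => y a + h y) := by
    rw [← pau_sd, tr_conj, ip_pe, pe_self, one_smul, mul_one, show ip w (0 : Pt k) = 0 from dotProduct_zero w,
      zero_smul, add_zero, pau_sd, sd_mul, hhw]
    congr 1
    funext y
    simp only [Pi.add_apply, ip_add_left, ip_pe]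
    ring
  refine ⟨n2⁻¹ * n, mul_mem (inv_mem hn2) hn, (nr_tr _ _ _ _).inv.mul hnn, mul_inv_eq_iff_eq_mul.1 ?_⟩
  rw [show n2⁻¹ * n * g * sd F (ip (pe a)) * (n2⁻¹ * n * g)⁻¹ =
    n2⁻¹ * (n * g * sd F (ip (pe a)) * (n * g)⁻¹) * n2 by group, hm, ← hn2c]
  group

/-- The images of translations by elements centralising the other signs and the complex structure. -/
theorem pau_image [Finite F] {a q : Fin k} (haq : a ≠ q) {g : GL (Pt k) F} (hg : g ∈ LK M ∅ {q}) :
    Pau (g * pau F (pe a) 0 * g⁻¹) := by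
  have sub : ∀ {g}, g ∈ LK M ∅ {q} → g ∈ LK M {a} {q} := fun {g} hg =>
    mem_LK.2 ⟨(mem_LK.1 hg).1, fun u w hs => (mem_LK.1 hg).2 u w ⟨hs.hu, by simp, hs.hq⟩⟩
  obtain ⟨s, hs, hsr, -, hsc⟩ := sq_spec hM haq
  have hsL : s ∈ LK M {a} {q} := sq_LK (Finset.disjoint_singleton.2 haq) (Finset.mem_singleton_self a)
    (Finset.mem_singleton_self q) hs hsc
  obtain ⟨n, -, hnn, hc⟩ := moves h2 hM hS hB hk haq (mul_mem (sub hg) hsL)
  have h1 : Pau (g * s * sd F (ip (pe a)) * (g * s)⁻¹) := by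
    have h2' : n * (g * s * sd F (ip (pe a)) * (g * s)⁻¹) * n⁻¹ = sd F (ip (pe a)) := by
      calc n * (g * s * sd F (ip (pe a)) * (g * s)⁻¹) * n⁻¹ = n * (g * s) * sd F (ip (pe a)) * (n * (g * s))⁻¹ := by group
        _ = _ := by rw [hc, mul_inv_cancel_right]
    have := Pau.conj hnn.inv (pau_pau (F := F) 0 (pe a))
    rwa [pau_sd, ← h2', show n⁻¹ * (n * (g * s * sd F (ip (pe a)) * (g * s)⁻¹) * n⁻¹) * n⁻¹⁻¹ =
      g * s * sd F (ip (pe a)) * (g * s)⁻¹ by group] at this
  have e1 := hsc 0 (pe a)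
  rw [show exch a q (0 : Pt k) (pe a) = pe a from funext fun t => by
      by_cases ht : t = a
      · simp [exch, ht]
      · simp [exch, pe_ne ht],
    show exch a q (pe a) (0 : Pt k) = 0 from funext fun t => by
      by_cases ht : t = a
      · simp [exch, ht]
      · simp [exch, pe_ne ht]] at e1
  simp only [Pi.zero_apply, zero_mul, add_zero, sd_const_zero, one_mul, pau_sd] at e1
  rwa [← e1, show g * (s * sd F (ip (pe a)) * s⁻¹) * g⁻¹ = g * s * sd F (ip (pe a)) * (g * s)⁻¹ by group]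

/-- No free coordinate with complex structure. -/
theorem lev_zero_complex [Finite F] (q : Fin k) : Lev M ∅ {q} := by
  intro g hg
  have hshq : Shp (∅ : Finset (Fin k)) {q} (pe q) (pe q) :=
    ⟨fun i hi => pe_ne (by simpa using hi), by simp, fun _ _ => rfl⟩
  obtain ⟨Z, hZdef⟩ : ∃ Z : GL (Pt k) F, Z = sd F (ip (pe q)) := ⟨_, rfl⟩
  have hZM : Z ∈ M := hZdef ▸ hM.quad _ (aff_ip _).quad
  have hnot : ∀ {l : Fin k}, l ≠ q → l ∉ ({q} : Finset (Fin k)) := fun h => by simpa using h
  have hZnorm : ∀ {x}, x ∈ LK M ∅ {q} → Z * x * Z ∈ LK M ∅ {q} := by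
    intro x hx
    refine mem_LK.2 ⟨M.mul_mem (M.mul_mem hZM (mem_LK.1 hx).1) hZM, fun u w hs => ?_⟩
    have hc : ∀ c : ZMod 2, Commute (Z * x) (sd F (fun _ => c)) := fun c => (sd_const_mul c _).symm
    have hZc : Z * pau F u w = sd F (fun _ => u q) * (pau F u w * Z) := by
      rw [hZdef, ← pau_sd, pau_comm, ip_pe, ip_comm w, ip_zero_left, add_zero]
    have hZc' : pau F u w * Z = sd F (fun _ => u q) * (Z * pau F u w) := by
      rw [hZc, ← mul_assoc, ← sd_const_add, CharTwo.add_self_eq_zero, sd_const_zero, one_mul]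
    calc Z * x * Z * pau F u w = Z * x * (sd F (fun _ => u q) * (pau F u w * Z)) := by rw [mul_assoc, hZc]
      _ = sd F (fun _ => u q) * (Z * (x * pau F u w) * Z) := by
        rw [← mul_assoc (Z * x), (hc _).eq]; group
      _ = sd F (fun _ => u q) * (Z * pau F u w) * (x * Z) := by rw [(mem_LK.1 hx).2 u w hs]; group
      _ = pau F u w * (Z * x * Z) := by rw [← hZc']; group
  obtain ⟨Y, hY⟩ : ∃ Y, Y = g * (Z * g⁻¹ * Z) := ⟨_, rfl⟩
  have hYL : Y ∈ LK M ∅ {q} := hY ▸ mul_mem hg (hZnorm (inv_mem hg))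
  have hkpY : ∀ {l : Fin k}, l ≠ q → Kp (ip (pe l)) Y := fun {l} hl =>
    kp_of_comm h2 (LK_comm_sd hYL (by simp) (hnot hl))
  have hctl : ∀ {l : Fin k}, l ≠ q → ctl (ip (pe l)) Y ∈ LK M ∅ {q} := by
    intro l hl
    have hl' := hnot hl
    have hW : g * ctl (ip (pe l)) Z * g⁻¹ = ctl (ip (pe l)) (g * Z * g⁻¹) :=
      ctl_conj h2 (hZdef ▸ kp_sd _ _) (LK_conj_sd hg (by simp) hl')
    have hM1 : ctl (ip (pe l)) Y ∈ M := by
      have e : Y = g * Z * g⁻¹ * Z := by rw [hY]; group
      rw [e, ctl_mul (kp_of_comm h2 ?_) (hZdef ▸ kp_sd _ _), ← hW]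
      · have hc : ctl (ip (pe l)) Z ∈ M := by
          rw [hZdef, ctl_sd]; exact hM.quad _ ((aff_ip _).mul (aff_ip _))
        exact M.mul_mem (M.mul_mem (M.mul_mem (mem_LK.1 hg).1 hc) (M.inv_mem (mem_LK.1 hg).1)) hc
      · have c1 : Commute g (sd F (ip (pe l))) := LK_comm_sd hg (by simp) hl'
        have c2 : Commute Z (sd F (ip (pe l))) := hZdef ▸ sd_comm _ _
        exact (c1.mul_left c2).mul_left c1.inv_left
    refine mem_LK.2 ⟨hM1, fun u w hs => ?_⟩
    have hu : pau F u w * sd F (ip (pe l)) * (pau F u w)⁻¹ = sd F (ip (pe l)) := by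
      rw [← pau_sd, pau_comm, ip_comm w, ip_zero_left, ip_pe, hs.hu l hl', add_zero, sd_const_zero, one_mul,
        mul_inv_cancel_right]
    have h := ctl_conj h2 (hkpY hl) hu
    rw [← (mem_LK.1 hYL).2 u w hs, mul_inv_cancel_right] at h
    exact (mul_inv_eq_iff_eq_mul.1 h).symm
  -- the sign at the complex place
  obtain ⟨a, ha⟩ : ∃ a : Fin k, a ≠ q := by
    haveI : Nontrivial (Fin k) := Fin.nontrivial_iff_two_le.2 (by omega)
    exact exists_ne q
  obtain ⟨X, hX⟩ : ∃ X : GL (Pt k) F, X = pau F (pe a) 0 := ⟨_, rfl⟩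
  have hXs : X * sd F (ip (pe a)) * X⁻¹ = sd F (fun y => ip (pe a) y + 1) := by
    rw [hX, ← pau_sd, pau_comm, ip_zero_left, ip_pe, pe_self, zero_add, mul_assoc, mul_inv_cancel_right, pau_sd,
      sd_mul]
    congr 1
    funext y
    simp only [Pi.add_apply]
    exact add_comm (1 : ZMod 2) _
  set h := ip (k := k) (pe a) with hha
  set h' : Pt k → ZMod 2 := fun y => h y + 1
  have p1 : Pau (Y * X * Y⁻¹ * X⁻¹) := (hX ▸ pau_image h2 hM hS hB hk ha hYL : Pau (Y * X * Y⁻¹)).mul
    (hX ▸ (pau_pau _ _).inv)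
  obtain ⟨C, hC⟩ : ∃ C, C = ctl h Y * X * (ctl h Y)⁻¹ * X⁻¹ := ⟨_, rfl⟩
  have p2 : Pau C := hC ▸ (hX ▸ pau_image h2 hM hS hB hk ha (hctl ha) : Pau (ctl h Y * X * (ctl h Y)⁻¹)).mul
    (hX ▸ (pau_pau _ _).inv)
  have kY : Kp h Y := hkpY ha
  have kY' : Kp h' Y := fun x y e => kY x y fun e' => e (by simp only [h', e'])
  have e1 : X * (ctl h Y)⁻¹ * X⁻¹ = ctl h' (X * Y⁻¹ * X⁻¹) := by
    rw [← ctl_inv kY, ctl_conj h2 (kp_inv kY) hXs]
  obtain ⟨p3, hp3⟩ : ∃ p3, p3 = Y * X * Y⁻¹ * X⁻¹ := ⟨_, rfl⟩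
  have kX : Kp h' (X * Y⁻¹ * X⁻¹) := by
    intro x y e
    refine kp_of_comm h2 ?_ x y e
    have c0 : Commute Y⁻¹ (sd F h) := (show Commute Y _ from LK_comm_sd hYL (by simp) (hnot ha)).inv_left
    rw [← hXs, show X * Y⁻¹ * X⁻¹ * (X * sd F h * X⁻¹) = X * (Y⁻¹ * sd F h) * X⁻¹ by group, c0.eq]
    group
  have hCeq : C = ctl h Y * ctl h' (Y⁻¹ * p3) := by
    rw [hC, show ctl h Y * X * (ctl h Y)⁻¹ * X⁻¹ = ctl h Y * (X * (ctl h Y)⁻¹ * X⁻¹) by group, e1, hp3]
    congr 2
    group
  have kp3' : Kp h' (Y⁻¹ * p3) := by rw [hp3, show Y⁻¹ * (Y * X * Y⁻¹ * X⁻¹) = X * Y⁻¹ * X⁻¹ by group]; exact kX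
  have hh' : ∀ {Z : GL (Pt k) F}, Kp h' Z → Kp h Z := fun hZ x y e => hZ x y fun e' => e (add_right_cancel e')
  have kC : Kp h' C := hCeq ▸ kp_mul (kp_ctl kY kY') (kp_ctl kp3' kp3')
  have kp3 : Kp h' p3 := by
    rw [show p3 = Y * (Y⁻¹ * p3) by rw [mul_inv_cancel_left]]
    exact kp_mul kY' kp3'
  have eA : ctl h' C = ctl h' (Y⁻¹ * p3) := by
    rw [hCeq, ctl_mul (kp_ctl kY kY') (kp_ctl kp3' kp3'), ctl_disj kY, one_mul, ctl_idem kp3']
  have eB : ctl h C = ctl h Y := by
    have h'' : (fun y => h' y + 1) = h := funext fun y => by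
      simp only [h', add_assoc, CharTwo.add_self_eq_zero, add_zero]
    rw [hCeq, ctl_mul (kp_ctl kY kY) (kp_ctl kp3' (hh' kp3')), ctl_idem kY]
    nth_rw 2 [← h'']
    rw [ctl_disj kp3', mul_one]
  have hYeq : Y = ctl h C * ctl h' (p3 * C⁻¹) := by
    have e : ctl h' Y = ctl h' (p3 * C⁻¹) := by
      rw [ctl_mul kp3 (kp_inv kC), ctl_inv kC, eA, ctl_mul (kp_inv kY') kp3, ctl_inv kY', _root_.mul_inv_rev, inv_inv,
        mul_inv_cancel_left]
    rw [eB, ← e]
    exact (ctl_mul_compl kY).symm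
  -- both are translations along the complex place
  have hsupp : ∀ {x : GL (Pt k) F}, Pau x → (∀ l, l ≠ q → x * sd F (ip (pe l)) = sd F (ip (pe l)) * x) →
      ∃ (t : ZMod 2) (f : Pt k → ZMod 2), x = mon F (Equiv.addRight (t • pe q)) f := by
    rintro x ⟨c, u, b, rfl⟩ hx
    refine ⟨u q, fun y => c + ip b y, ?_⟩
    have hu : u q • pe q = u := funext fun l => by
      by_cases hl : l = q
      · subst hl; simp
      · have e := hx l hl
        rw [← pau_sd, mul_assoc, ← mul_assoc (pau F 0 _), ← sd_const_mul, mul_assoc, mul_left_cancel_iff] at e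
        have := ip_of_comm h2 e
        rw [ip_comm b, ip_zero_left, ip_pe, zero_add] at this
        rw [this, Pi.smul_apply, pe_ne hl, smul_zero]
    rw [hu, pau_eq, ← mon_one_left, mon_mul, one_mul]
  have hfixl : ∀ {x : GL (Pt k) F} {l : Fin k}, x ∈ LK M ∅ {q} → l ≠ q → Commute x (sd F (ip (pe l))) :=
    fun hx hl => LK_comm_sd hx (by simp) (hnot hl)
  have hXl : ∀ {x : GL (Pt k) F}, x ∈ LK M ∅ {q} → ∀ l, l ≠ q →
      Commute (x * X * x⁻¹ * X⁻¹) (sd F (ip (pe l))) := by
    intro x hx l hl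
    obtain ⟨c, hc⟩ : ∃ c : ZMod 2, X * sd F (ip (pe l)) = sd F (fun _ => c) * (sd F (ip (pe l)) * X) :=
      ⟨_, by rw [hX, ← pau_sd]; exact pau_comm _ _ _ _⟩
    have hc1 : X * sd F (ip (pe l)) * X⁻¹ = sd F (fun _ => c) * sd F (ip (pe l)) := by
      rw [hc]; group
    have hc2 : X⁻¹ * sd F (ip (pe l)) * X = sd F (fun _ => c) * sd F (ip (pe l)) := by
      rw [mul_assoc, show sd F (ip (pe l)) * X = sd F (fun _ => c) * (X * sd F (ip (pe l))) by
        rw [hc, ← mul_assoc, ← sd_const_add, CharTwo.add_self_eq_zero, sd_const_zero, one_mul],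
        ← mul_assoc X⁻¹, ← sd_const_mul, mul_assoc, inv_mul_cancel_left]
    refine mul_inv_eq_iff_eq_mul.1 ?_
    have cx : x * sd F (ip (pe l)) * x⁻¹ = sd F (ip (pe l)) := by rw [(hfixl hx hl).eq, mul_inv_cancel_right]
    have cx' : x⁻¹ * sd F (ip (pe l)) * x = sd F (ip (pe l)) := by
      rw [mul_assoc, ← (hfixl hx hl).eq, inv_mul_cancel_left]
    calc x * X * x⁻¹ * X⁻¹ * sd F (ip (pe l)) * (x * X * x⁻¹ * X⁻¹)⁻¹
        = x * X * (x⁻¹ * (X⁻¹ * sd F (ip (pe l)) * X) * x) * X⁻¹ * x⁻¹ := by group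
      _ = x * X * (x⁻¹ * sd F (fun _ => c) * x * (x⁻¹ * sd F (ip (pe l)) * x)) * X⁻¹ * x⁻¹ := by rw [hc2]; group
      _ = x * (X * sd F (fun _ => c) * X⁻¹ * (X * sd F (ip (pe l)) * X⁻¹)) * x⁻¹ := by
          rw [cx', mul_assoc x⁻¹, sd_const_mul c x, inv_mul_cancel_left]; group
      _ = sd F (ip (pe l)) := by
          rw [conj_sd_const, hc1, ← mul_assoc (sd F fun _ => c), ← sd_const_add, CharTwo.add_self_eq_zero, sd_const_zero, one_mul, cx]
  obtain ⟨t1, f1, hC1⟩ := hsupp p2 fun l hl => by rw [hC]; exact (hXl (hctl ha) l hl).eq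
  obtain ⟨t2, f2, hC2⟩ := hsupp ((hp3 ▸ p1 : Pau p3).mul p2.inv) fun l hl => by
    rw [hp3, hC]
    exact ((hXl hYL l hl).mul_left (hXl (hctl ha) l hl).inv_left).eq
  have hk0 : ∀ (t : ZMod 2) y, h (Equiv.addRight (t • pe q) y) = h y := fun t y => by
    simp [hha, ip_pe, pe_ne ha]
  have hk0' : ∀ (t : ZMod 2) y, h' (Equiv.addRight (t • pe q) y) = h' y := fun t y => by
    simp only [h', hk0]
  rw [hC2, hC1, ctl_selP (hk0 t1), ctl_selP (hk0' t2), mon_mul] at hYeq
  obtain ⟨π, hπdef⟩ : ∃ π : Equiv.Perm (Pt k),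
      π = selP _ _ (hk0 t1) * selP _ _ (hk0' t2) := ⟨_, rfl⟩
  rw [← hπdef] at hYeq
  have hπ : ∀ y, π y = y + (t1 * y a + t2 * (y a + 1)) • pe q := fun y => by
    rw [hπdef, Equiv.Perm.mul_apply, selP_addRight, selP_addRight]
    simp only [h', hha, ip_pe, Pi.add_apply, Pi.smul_apply, pe_ne ha, smul_zero, add_zero]
    rw [add_assoc, smul_smul, smul_smul, ← add_smul]
    congr 2
    ring
  obtain ⟨f, hYm⟩ : ∃ f, Y = mon F π f := ⟨_, hYeq⟩
  have hYM : mon F π f ∈ M := hYm ▸ (mem_LK.1 hYL).1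
  obtain ⟨l, hl, m, hm, hlm⟩ : ∃ l ∈ Finset.univ \ {a, q}, ∃ m ∈ Finset.univ \ ({a, q} : Finset (Fin k)), l ≠ m := by
    refine Finset.one_lt_card.1 ?_
    have := Finset.le_card_sdiff {a, q} (Finset.univ : Finset (Fin k))
    rw [Finset.card_univ, Fintype.card_fin, Finset.card_pair ha] at this
    omega
  simp only [Finset.mem_sdiff, Finset.mem_univ, true_and, Finset.mem_insert, Finset.mem_singleton, not_or] at hl hm
  have hkl : ∀ {l : Fin k}, l ≠ q → ∀ y, ip (pe l) (π y) = ip (pe l) y := fun hl y => by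
    simp [hπ, ip_pe, pe_ne hl]
  have ht : t1 = t2 := by
    have hc := (mem_LK.1 (hctl hl.2)).1
    rw [hYm, ctl_selP (hkl hl.2)] at hc
    have hA := aff_shift hM hS hc (i := q) (l := m) (s := fun y => (t1 * y a + t2 * (y a + 1)) * y l)
      (fun y => by
        show (if ip (pe l) y = 1 then π y else y) q = _
        rw [ip_pe]
        rcases zm_cases (y l) with e | e <;> simp [e, hπ])
      (fun y => by
        show (if ip (pe l) y = 1 then π y else y) m = _
        rw [ip_pe]
        rcases zm_cases (y l) with e | e <;> simp [e, hπ, pe_ne hm.2])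
      (fun y => by simp [pe_ne (Ne.symm hm.1), pe_ne hlm])
    have hs : Aff (fun y : Pt k => t1 * y a + t2 * (y a + 1)) := fun u v x => by
      simp only [dl_apply, Pi.add_apply]
      grind
    have := dl_eq_zero_of_mul (Ne.symm hl.1) hs hA 0
    simp only [dl_apply, zero_add, Pi.zero_apply, pe_self] at this
    grind
  subst ht
  have hπ' : π = Equiv.addRight (t1 • pe q) := Equiv.ext fun y => by
    rw [hπ, Equiv.coe_addRight]
    congr 2
    grind
  have hD : ∀ {l : Fin k}, l ∈ Finset.univ.erase q → l ≠ q := fun h => (Finset.mem_erase.1 h).1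
  rw [hπ'] at hYM hYm
  obtain ⟨ε, hε, hA⟩ := pauli_of_ctl hM hS (Finset.univ.erase q) (d := l) (d' := m) (by simpa using hl.2)
    (by simpa using hm.2) hlm (fun i hi => by rw [Pi.smul_apply, pe_ne (hD hi), smul_zero]) hYM
    (fun i hi => hYm ▸ (mem_LK.1 (hctl (hD hi))).1)
  have hε0 := hε (by rw [Finset.card_erase_of_mem (Finset.mem_univ q), Finset.card_univ, Fintype.card_fin]; omega)
  simp only [hε0, zero_mul, add_zero] at hA
  obtain ⟨c, b, hp⟩ := mon_aff_pau (F := F) hA (t1 • pe q)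
  have hYp : Pau Y := ⟨c, _, b, hYm.trans hp⟩
  have hgZ : ∃ a' b', CP g 0 (pe q) a' b' := cp_iff.2 (by
    rw [pau_sd, ← hZdef, show g * Z * g⁻¹ = Y * Z⁻¹ by rw [hY]; group]
    exact hYp.mul (by rw [hZdef, ← pau_sd]; exact (pau_pau _ _).inv))
  refine nr_of_gens (fun i => ?_) (fun i => ?_) <;> by_cases hi : i = q
  · subst hi
    obtain ⟨a', b', h1⟩ := hgZ
    have := (CP_of_LK hg hshq).add h1
    rw [add_zero, pt_add_self] at this
    exact ⟨_, _, this⟩
  · exact cp_iff.2 (pau_image h2 hM hS hB hk hi hg)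
  · exact hi ▸ hgZ
  · exact ⟨_, _, CP_of_LK hg (shp_pe (by simp) (hnot hi))⟩

/-- One free coordinate with complex structure. -/
theorem lev_one_complex [Finite F] {a q : Fin k} (haq : a ≠ q) : Lev M {a} {q} := by
  intro g hg
  obtain ⟨n, hn, hnn, hc⟩ := moves h2 hM hS hB hk haq hg
  have h := lev_zero_complex h2 hM hS hB hk q (n * g) (lower (mul_mem hn hg) (u0 := 0) (w0 := pe a)
    (by rwa [pau_sd]) fun u w hs => ⟨w a, ?_⟩)
  · have := hnn.inv.mul h
    rwa [inv_mul_cancel_left] at this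
  · refine ⟨fun i hi => by simp [hs.hu i hi], fun i hi => ?_, fun i hi => ?_⟩
    · rw [Finset.mem_singleton.1 hi]; simp [CharTwo.add_self_eq_zero]
    · rw [Finset.mem_singleton.1 hi]
      simp [pe_ne haq.symm, hs.hq q (Finset.mem_singleton_self q)]

/-- One free coordinate without complex structure. -/
theorem lev_one_real [Finite F] (a : Fin k) : Lev M {a} ∅ := by
  intro g hg
  have hgM := (mem_LK.1 hg).1
  have hgT := hM.iso g hgM
  obtain ⟨J, hJdef⟩ : ∃ J : GL (Pt k) F, J = pau F (pe a) (pe a) := ⟨_, rfl⟩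
  obtain ⟨x, hxdef⟩ : ∃ x, x = g * J * g⁻¹ := ⟨_, rfl⟩
  have hxM : x ∈ M := hxdef ▸ M.mul_mem (M.mul_mem hgM (hJdef ▸ pau_mem hM _ _)) (M.inv_mem hgM)
  have hJl : ∀ {l}, l ≠ a → Commute J (sd F (ip (pe l))) := fun {l} hl => by
    rw [hJdef, ← pau_sd]
    show _ * _ = _ * _
    rw [pau_comm, ip_comm (pe a), ip_zero_left, ip_pe, pe_ne hl, add_zero, sd_const_zero, one_mul]
  have hgl : ∀ {l}, l ≠ a → Commute g (sd F (ip (pe l))) := fun hl => LK_comm_sd hg (by simpa using hl) (by simp)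
  have hxl : ∀ {l}, l ≠ a → Commute x (sd F (ip (pe l))) := fun hl =>
    hxdef ▸ ((hgl hl).mul_left (hJl hl)).mul_left (hgl hl).inv_left
  -- the entries
  have hzero : ∀ y z, y ≠ z → y ≠ z + pe a → (x : Matrix (Pt k) (Pt k) F) y z = 0 := by
    intro y z h1 h3
    obtain ⟨l, hl, hne⟩ : ∃ l, l ≠ a ∧ y l ≠ z l := by
      by_contra hno
      push Not at hno
      rcases zm_cases (y a + z a) with e | e
      · refine h1 (funext fun l => ?_)
        by_cases hla : l = a
        · subst hla; exact CharTwo.add_eq_zero.1 e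
        · exact hno l hla
      · refine h3 (funext fun l => ?_)
        by_cases hla : l = a
        · subst hla; rw [Pi.add_apply, pe_self]; grind
        · rw [Pi.add_apply, pe_ne hla, add_zero, hno l hla]
    exact entry_zero h2 (hxl hl).eq (by simpa [ip_pe] using hne)
  have hskew : (x : Matrix (Pt k) (Pt k) F)ᵀ = -(x : Matrix (Pt k) (Pt k) F) := by
    have hgi : ((g⁻¹ : GL (Pt k) F) : Matrix (Pt k) (Pt k) F) = (g : Matrix (Pt k) (Pt k) F)ᵀ := by
      rw [Matrix.coe_units_inv]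
      exact Matrix.inv_eq_left_inv hgT
    have hJT : (J : Matrix (Pt k) (Pt k) F)ᵀ = -(J : Matrix (Pt k) (Pt k) F) := by
      ext y z
      rw [Matrix.transpose_apply, Matrix.neg_apply, hJdef, pau_eq, mon_apply, mon_apply]
      simp only [Equiv.coe_addRight, ip_pe]
      by_cases e : z = y + pe a
      · have e' : y = z + pe a := by rw [e, pt_add_cancel]
        rw [if_pos e, if_pos e', e, Pi.add_apply, pe_self, sgn_add, sgn_one]
        ring
      · rw [if_neg e, if_neg fun e' => e (by rw [e', pt_add_cancel]), neg_zero]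
    rw [hxdef, Units.val_mul, Units.val_mul, hgi, Matrix.transpose_mul, Matrix.transpose_mul,
      Matrix.transpose_transpose, hJT, Matrix.neg_mul, Matrix.mul_neg, Matrix.mul_assoc]
  have hdiag : ∀ y, (x : Matrix (Pt k) (Pt k) F) y y = 0 := fun y => by
    have e := congrFun (congrFun hskew y) y
    rw [Matrix.transpose_apply, Matrix.neg_apply] at e
    exact (mul_eq_zero.1 (show (2 : F) * (x : Matrix (Pt k) (Pt k) F) y y = 0 by linear_combination e)).resolve_left h2
  have hcol : ∀ y, (x : Matrix (Pt k) (Pt k) F) (y + pe a) y = 1 ∨ (x : Matrix (Pt k) (Pt k) F) (y + pe a) y = -1 :=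
    fun y => by
    have e := congrFun (congrFun (hM.iso x hxM) y) y
    rw [Matrix.mul_apply, Finset.sum_eq_single (y + pe a), Matrix.transpose_apply, Matrix.one_apply_eq] at e
    · exact mul_self_eq_one_iff.1 e
    · intro z _ hz
      by_cases hzy : z = y
      · rw [hzy, hdiag y, mul_zero]
      · rw [hzero z y hzy hz, mul_zero]
    · simp
  classical
  obtain ⟨f, hfdef⟩ : ∃ f : Pt k → ZMod 2,
      f = fun y => if (x : Matrix (Pt k) (Pt k) F) (y + pe a) y = 1 then 0 else 1 := ⟨_, rfl⟩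
  have hf : ∀ y, sgn F (f y) = (x : Matrix (Pt k) (Pt k) F) (y + pe a) y := fun y => by
    simp only [hfdef]
    by_cases e : (x : Matrix (Pt k) (Pt k) F) (y + pe a) y = 1
    · rw [if_pos e, sgn_zero, e]
    · rw [if_neg e, sgn_one, (hcol y).resolve_left e]
  have hxm : x = mon F (Equiv.addRight (pe a)) f := Units.ext (Matrix.ext fun y z => by
    rw [mon_apply, Equiv.coe_addRight]
    by_cases e : y = z + pe a
    · rw [if_pos e, hf, e]
    · rw [if_neg e]
      by_cases e' : y = z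
      · rw [e', hdiag]
      · exact hzero y z e' e)
  have hfflip : ∀ y, f (y + pe a) = f y + 1 := fun y => sgn_inj h2 (by
    rw [sgn_add, sgn_one, hf, hf, pt_add_cancel]
    have e := congrFun (congrFun hskew (y + pe a)) y
    rw [Matrix.transpose_apply, Matrix.neg_apply] at e
    linear_combination e)
  set D : Finset (Fin k) := Finset.univ.erase a
  have hD : ∀ {l}, l ∈ D → l ≠ a := fun h => (Finset.mem_erase.1 h).1
  have hcard : 3 ≤ D.card := by
    rw [Finset.card_erase_of_mem (Finset.mem_univ a), Finset.card_univ, Fintype.card_fin]; omega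
  obtain ⟨d, hd, d', hd', hdd⟩ := Finset.one_lt_card.1 (show 1 < D.card by omega)
  obtain ⟨ε, hε, hA⟩ := pauli_of_ctl hM hS D hd hd' hdd (fun l hl => pe_ne (hD hl)) (hxm ▸ hxM) (fun l hl => by
    have hk1 : ∀ y, ip (pe l) (Equiv.addRight (pe a) y) = ip (pe l) y := fun y => by simp [ip_pe, pe_ne (hD hl)]
    have hkJ : Kp (ip (pe l)) J := hJdef ▸ pau_eq (F := F) (pe a) (pe a) ▸ kp_mon hk1 _
    rw [← hxm, hxdef, ← ctl_conj h2 hkJ (by rw [(hgl (hD hl)).eq, mul_inv_cancel_right]), hJdef]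
    exact M.mul_mem (M.mul_mem hgM (ctl_pau_mem hM (aff_ip _) (fun y => by simpa using hk1 y) _)) (M.inv_mem hgM))
  simp only [hε hcard, zero_mul, add_zero] at hA
  obtain ⟨c, l, hl⟩ := aff_eq hA
  have hla : l a = 1 := by
    have := hfflip 0
    simpa [show f = _ from hl, ip_add_right, ip_pe_right, ip_zero_right] using this
  have hn : sd F (qf (pe a) (l + pe a) c) ∈ LK M {a} ∅ := qd_LK hM _ _ _ fun u w hs => by
    have hu : u = 0 := funext fun i => hs.hu i (by simp)
    exact ⟨by rw [hu]; exact dotProduct_zero _, by rw [hu]; exact dotProduct_zero _⟩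
  have hcomm : (sd F (qf (pe a) (l + pe a) c))⁻¹ * g * pau F (pe a) (pe a) =
      pau F (pe a) (pe a) * ((sd F (qf (pe a) (l + pe a) c))⁻¹ * g) := by
    refine mul_inv_eq_iff_eq_mul.1 ?_
    have e : sd F (qf (pe a) (l + pe a) c) * pau F (pe a) (pe a) * (sd F (qf (pe a) (l + pe a) c))⁻¹ = x := by
      rw [qd_conj, ip_pe, pe_self, one_mul, one_smul, ip_pe_right, Pi.add_apply, hla, pe_self,
        CharTwo.add_self_eq_zero, zero_smul, add_zero, zero_add, add_comm l, ← add_assoc, pt_add_self, zero_add,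
        hxm, show f = _ from hl, pau_eq, ← mon_one_left, mon_mul, one_mul]
    rw [show (sd F (qf (pe a) (l + pe a) c))⁻¹ * g * pau F (pe a) (pe a) * ((sd F (qf (pe a) (l + pe a) c))⁻¹ * g)⁻¹ =
      (sd F (qf (pe a) (l + pe a) c))⁻¹ * (g * J * g⁻¹) * sd F (qf (pe a) (l + pe a) c) by rw [hJdef]; group,
      ← hxdef, ← e]
    group
  have h := lev_zero_complex h2 hM hS hB hk a _ (lower (mul_mem (inv_mem hn) hg) hcomm
    fun u w hs => ⟨u a, fun i _ => ?_, fun i hi => ?_, by simp⟩)
  · have := (nr_qd (F := F) (pe a) (l + pe a) c).mul h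
    rwa [mul_inv_cancel_left] at this
  · by_cases hi : i = a
    · subst hi; simp [CharTwo.add_self_eq_zero]
    · simp [hs.hu i (by simpa using hi), pe_ne hi]
  · rw [Finset.mem_singleton.1 hi]
    simp [hs.hq a (Finset.mem_singleton_self a), CharTwo.add_self_eq_zero]

omit hB hk in
/-- No free coordinate: only diagonal signs. -/
theorem lev_zero_real : Lev M ∅ ∅ := by
  intro g hg
  obtain ⟨f, rfl⟩ := sd_of_comm h2 hM (mem_LK.1 hg).1 fun i => LK_comm_sd hg (by simp) (by simp)
  exact nr_quad (hS f (mem_LK.1 hg).1)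

end Cfsg.Agent.C6Plus10
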