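import Cfsg.Agent.Lib.C6Minus10Level
import Cfsg.Agent.Lib.C6Minus10Finish
import Cfsg.Agent.Lib.C6Plus10Zero

/-!
The free elements of a level in the minus-type model, their centres, and the generators of the normaliser
lying in a level together with their action.
-/

set_option autoImplicit false
set_option linter.unusedSectionVars false

namespace Cfsg.Agent.C6Minus10

open Matrix Cfsg.Agent.C6Plus10
open scoped MatrixGroups

variable {F : Type*} [Field F] {j : ℕ} (p : Par F) {M : Subgroup (GL (Ix j) F)} {S : Finset (Fin j)}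

/-- The free indices of the level with free last qubit. -/
abbrev Vm (S : Finset (Fin j)) : Type := Vec S × (ZMod 2 × ZMod 2)

/-- A quaternion without sign. -/
def qb (b : ZMod 2 × ZMod 2) : GL (Fin 2) F := qel p 0 b.1 b.2

theorem qb_mem (b : ZMod 2 × ZMod 2) : qb p b ∈ Q8 p := qel_mem p _ _ _

theorem sg_qel (c c' d e : ZMod 2) : (sg c : GL (Fin 2) F) * qel p c' d e = qel p (c + c') d e := by
  rw [qel, qel, ← mul_assoc, ← mul_assoc, ← sg_add]

theorem qel_eq (c d e : ZMod 2) : qel p c d e = sg c * qb p (d, e) := by rw [qb, sg_qel, add_zero]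

theorem qb_mul (a b : ZMod 2 × ZMod 2) :
    qb p a * qb p b = sg (a.2 * b.1 + a.1 * b.1 + a.2 * b.2) * qb p (a + b) := by
  rw [qb, qb, qel_mul, qel_eq]
  simp only [zero_add]
  rfl

theorem qb_zero : qb p 0 = (1 : GL (Fin 2) F) := qel_zero p

theorem qb_jq : qb p (1, 0) = (jq : GL (Fin 2) F) := by simp [qb, qel]

theorem qb_aq : qb p (0, 1) = aq p := by simp [qb, qel]

/-- A free element of the level with free last qubit. -/
noncomputable def EmR (v : Vm S) : GL (Ix j) F := el (ex S v.1.1) (ex S v.1.2) (qb p v.2)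

/-- The quadratic form of the free indices. -/
def qvm (v : Vm S) : ZMod 2 := C6Plus10.qv v.1 + (v.2.2 * v.2.1 + v.2.1 + v.2.2)

/-- The central elements of the level with free last qubit. -/
def CR (F : Type*) [Field F] (S : Finset (Fin j)) : Set (GL (Ix j) F) :=
  {x | ∃ c w, (∀ i ∈ S, (w : Pt j) i = 0) ∧ x = el 0 w (sg c : GL (Fin 2) F)}

/-- The central elements of the level centralising the complex structure. -/
def CC (S : Finset (Fin j)) : Set (GL (Ix j) F) :=
  {x | ∃ c t w, (∀ i ∈ S, (w : Pt j) i = 0) ∧ x = el 0 w (qel p c t 0)}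

/-- Conjugation maps one element of the extraspecial group to another, up to sign. -/
def CPm (g : GL (Ix j) F) (a b : Pt j) (v : ZMod 2 × ZMod 2) (a' b' : Pt j) (v' : ZMod 2 × ZMod 2) : Prop :=
  ∃ c, g * el a b (qb p v) * g⁻¹ = el a' b' (sg c * qb p v')

theorem up_conj {g : GL (Pt j) F} {a b a' b' : Pt j} (h : CP g a b a' b') (v : ZMod 2 × ZMod 2) :
    CPm p (up g) a b v a' b' v := by
  obtain ⟨c, hc⟩ := h
  refine ⟨c, ?_⟩
  rw [el, el, map_mul cst, ← up_sd_const]
  calc up g * (up (pau F a b) * cst (qb p v)) * (up g)⁻¹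
      = up g * up (pau F a b) * (cst (qb p v) * up g⁻¹) := by rw [map_inv]; group
    _ = up g * up (pau F a b) * (up g⁻¹ * cst (qb p v)) := by rw [up_comm_cst]
    _ = up (sd F (fun _ => c) * pau F a' b') * cst (qb p v) := by rw [← hc, map_mul, map_mul]; group
    _ = _ := by rw [sd_const_mul, map_mul, mul_assoc]

theorem cst_conj {w : GL (Fin 2) F} {v v' : ZMod 2 × ZMod 2} {c : ZMod 2}
    (h : w * qb p v * w⁻¹ = sg c * qb p v') (a b : Pt j) : CPm p (cst w) a b v a b v' := by
  refine ⟨c, ?_⟩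
  rw [el, el, ← mul_assoc, ← up_comm_cst, ← h, map_mul, map_mul, map_inv]
  group

theorem CPm.comp {g h : GL (Ix j) F} {a b a' b' a'' b'' : Pt j} {v v' v'' : ZMod 2 × ZMod 2}
    (h1 : CPm p g a b v a' b' v') (h2 : CPm p h a' b' v' a'' b'' v'') : CPm p (h * g) a b v a'' b'' v'' := by
  obtain ⟨c, hc⟩ := h1
  obtain ⟨c', hc'⟩ := h2
  refine ⟨c + c', ?_⟩
  have hs : ∀ (c : ZMod 2) (a b : Pt j) (q : GL (Fin 2) F),
      el a b (sg c * q) = cst (sg c : GL (Fin 2) F) * el a b q := by
    intro c a b q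
    rw [el, el, map_mul, ← mul_assoc, up_comm_cst, mul_assoc]
  have hc0 : ∀ y : GL (Ix j) F, y * cst (sg c : GL (Fin 2) F) = cst (sg c : GL (Fin 2) F) * y := fun y => by
    rcases zm_cases c with rfl | rfl
    · simp
    · rw [show (cst (sg (1 : ZMod 2) : GL (Fin 2) F) : GL (Ix j) F) = -1 from Units.ext (by
        rw [sg_one, cst_val, Units.val_neg, Units.val_neg, Units.val_one]
        ext ⟨x, i⟩ ⟨y, l⟩
        by_cases e : x = y <;> by_cases e' : i = l <;> simp [blkM_apply, Matrix.one_apply, e, e'])]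
      simp
  calc h * g * el a b (qb p v) * (h * g)⁻¹ = h * (g * el a b (qb p v) * g⁻¹) * h⁻¹ := by group
    _ = cst (sg c : GL (Fin 2) F) * (h * el a' b' (qb p v') * h⁻¹) := by rw [hc, hs, ← mul_assoc h, hc0]; group
    _ = _ := by rw [hc', ← hs, ← mul_assoc, sg_add]

/-- Where the function is one the element, elsewhere one. -/
def ctlB (l : Pt j → ZMod 2) (q : GL (Fin 2) F) : GL (Ix j) F := blk fun x => if l x = 0 then 1 else q

theorem blk_comm_sd (N : Pt j → GL (Fin 2) F) (f : Pt j → ZMod 2) :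
    blk N * up (sd F f) = up (sd F f) * blk N := by
  rw [← blk_sg, ← map_mul, ← map_mul]
  exact congrArg blk (funext fun x => (sg_comm (f x) (N x)).symm)

/-- A family on the last qubit moving past an element of the extraspecial group. -/
theorem blk_el (N : Pt j → GL (Fin 2) F) (a b : Pt j) (q : GL (Fin 2) F) :
    blk N * el a b q = up (pau F a b) * blk fun y => N (y + a) * q := by
  rw [el, pau, map_mul, ← mul_assoc, ← mul_assoc, blk_pm, mul_assoc (up (pm F _)), blk_comm_sd, ← mul_assoc,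
    mul_assoc (up (pm F _) * up (sd F _)), cst_eq, ← map_mul]
  congr 1
  rw [← map_mul]
  rfl

/-- A controlled complex structure acts as a transvection. -/
theorem ctlB_conj (t : Fin j) (a b : Pt j) (v : ZMod 2 × ZMod 2) :
    CPm p (ctlB (ip (pe t)) jq) a b v a (b + (a t + v.2) • pe t) (v.1 + a t, v.2) := by
  refine ⟨a t * v.1, mul_inv_eq_iff_eq_mul.2 ?_⟩
  rw [ctlB, blk_el]
  have e : el a (b + (a t + v.2) • pe t) (sg (a t * v.1) * qb p (v.1 + a t, v.2)) =
      up (pau F a b) * blk fun x => sg ((a t + v.2) * x t + a t * v.1) * qb p (v.1 + a t, v.2) := by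
    rw [el, show pau F a (b + (a t + v.2) • pe t) = pau F a b * sd F (fun x => (a t + v.2) * x t) from ?_, map_mul,
      ← blk_sg, cst_eq, mul_assoc, ← map_mul]
    · congr 1
      congr 1
      funext x
      rw [Pi.mul_apply, ← mul_assoc, sg_add]
    · rw [pau, pau, mul_assoc, sd_mul]
      congr 2
      funext x
      rw [Pi.add_apply, ip_add_left, ip_smul_left, ip_pe]
  rw [e, mul_assoc, ← map_mul]
  congr 1
  congr 1
  funext x
  obtain ⟨d, f⟩ := v
  simp only [Pi.mul_apply, ip_pe, Pi.add_apply]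
  rw [show (jq : GL (Fin 2) F) = qel p 0 1 0 by simp [qel],
    show ∀ c, (if c = (0 : ZMod 2) then (1 : GL (Fin 2) F) else qel p 0 1 0) = qel p 0 c 0 from fun c => by
      rcases zm_cases c with rfl | rfl <;> simp [qel_zero],
    show ∀ c, (if c = (0 : ZMod 2) then (1 : GL (Fin 2) F) else qel p 0 1 0) = qel p 0 c 0 from fun c => by
      rcases zm_cases c with rfl | rfl <;> simp [qel_zero]]
  simp only [qb]
  rw [sg_qel, qel_mul, qel_mul]
  congr 1 <;> rcases zm_cases (x t) with ex | ex <;> rcases zm_cases (a t) with ea | ea <;>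
    rcases zm_cases d with rfl | rfl <;> rcases zm_cases f with rfl | rfl <;> (try simp only [ex, ea]) <;> decide

theorem ctlB_jq (l : Pt j → ZMod 2) (hl : Aff l) :
    ∃ c w, l = (fun x => c + ip w x) ∧ ctlB l (aq p) * el 0 0 jq * (ctlB l (aq p))⁻¹ = el 0 w ((sg c : GL (Fin 2) F) * jq) := by
  obtain ⟨c, w, rfl⟩ := aff_eq hl
  refine ⟨c, w, rfl, mul_inv_eq_iff_eq_mul.2 ?_⟩
  rw [ctlB, blk_el, el, pau_zero, map_one, one_mul, pau_sd, ← blk_sg, cst_eq, ← map_mul, ← map_mul]
  congr 1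
  funext x
  simp only [Pi.mul_apply, add_zero]
  rw [show (jq : GL (Fin 2) F) = qel p 0 1 0 by simp [qel],
    show ∀ c, (if c = (0 : ZMod 2) then (1 : GL (Fin 2) F) else aq p) = qel p 0 0 c from fun c => by
      rcases zm_cases c with rfl | rfl <;> simp [qel],
    sg_qel, sg_qel, qel_mul, qel_mul]
  congr 1 <;> rcases zm_cases (ip w x) with e | e <;> rcases zm_cases c with rfl | rfl <;> (try simp only [e]) <;> decide

variable {p}

theorem jq_comm_ctlB (l : Pt j → ZMod 2) : ctlB (F := F) l jq * cst jq = cst jq * ctlB l jq := by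
  rw [ctlB, cst_eq, ← map_mul, ← map_mul]
  congr 1
  funext x
  simp only [Pi.mul_apply]
  split_ifs <;> simp

theorem pau_mem_M (hM : BaseMinus p M) (a b : Pt j) : up (pau F a b) ∈ M := pau_mem (base_comap hM) a b

theorem el_mem_M (hM : BaseMinus p M) (a b : Pt j) {q : GL (Fin 2) F} (hq : q ∈ Q8 p) : el a b q ∈ M :=
  M.mul_mem (pau_mem_M hM a b) (hM.q8 q hq)

/-- Conjugation fixing the signs outside puts an element into the level. -/
theorem mem_LR_of_CPm {g : GL (Ix j) F} (hg : g ∈ M)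
    (h : ∀ i, i ∉ S → g * up (sd F (ip (pe i))) * g⁻¹ = up (sd F (ip (pe i)))) : g ∈ LR M S :=
  mem_LR.2 ⟨hg, fun i hi => mul_inv_eq_iff_eq_mul.1 (h i hi)⟩

theorem cst_mem_LR {w : GL (Fin 2) F} (hw : cst w ∈ M) : cst w ∈ LR M S :=
  mem_LR.2 ⟨hw, fun _ _ => (up_comm_cst _ _).symm⟩

theorem blk_mem_LR {N : Pt j → GL (Fin 2) F} (h : blk N ∈ M) : blk N ∈ LR M S :=
  mem_LR.2 ⟨h, fun _ _ => blk_comm_sd _ _⟩

theorem up_mem_LR {g : GL (Pt j) F} (hg : g ∈ C6Plus10.LK (M.comap up) S ∅) : up g ∈ LR M S :=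
  mem_LR.2 ⟨(C6Plus10.mem_LK.1 hg).1, fun i hi => by
    rw [← map_mul, ← map_mul, C6Plus10.LK_comm_sd hg hi (by simp)]⟩

/-- The element exchanging sign and translation at one place, with its action. -/
theorem had1_spec (h2 : (2 : F) ≠ 0) (hM : BaseMinus p M) (t : Fin j) : ∃ g ∈ M, Nr p g ∧
    g * g = cst jq ∧ g * cst jq = cst jq * g ∧
    (∀ i, i ≠ t → g * up (sd F (ip (pe i))) = up (sd F (ip (pe i))) * g) ∧
    ∀ a b v, CPm p g a b v (Function.update a t (b t)) (Function.update b t (a t)) (v.1 + v.2, v.2) := by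
  obtain ⟨g, hg, hv⟩ := hM.had1 t
  have e : g = up (hadU h2 t) * cst (onejU h2) := Units.ext (by
    rw [hv, Units.val_mul, up_val, cst_val]
    show _ = upM ((2 : F)⁻¹ • had F t) * blkM fun _ => 1 + jq.val
    rw [show upM ((2 : F)⁻¹ • had F t) = (2 : F)⁻¹ • upM (had F t) from by
      ext u v; simp [upM_apply], smul_mul_assoc]
    rfl)
  have hup : ∀ a b, hadU h2 t * pau F a b * (hadU h2 t)⁻¹ =
      sd F (fun _ => a t * b t) * pau F (Function.update a t (b t)) (Function.update b t (a t)) := by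
    intro a b
    refine mul_inv_eq_iff_eq_mul.mpr ?_
    rw [mul_assoc]
    refine Units.ext ?_
    rw [sd_const_val, Units.val_mul, Units.val_mul]
    show (2 : F)⁻¹ • had F t * _ = _ • (_ * (2 : F)⁻¹ • had F t)
    rw [smul_mul_assoc, mul_smul_comm, had_conj, smul_comm]
  have hoj : onejU h2 * jq * (onejU h2)⁻¹ = (jq : GL (Fin 2) F) := mul_inv_eq_iff_eq_mul.mpr (Units.ext (by
    ext i l; fin_cases i <;> fin_cases l <;> simp [onejU, jq, Matrix.mul_apply, Fin.sum_univ_two]))
  have hact : ∀ v : ZMod 2 × ZMod 2, ∃ c, onejU h2 * qb p v * (onejU h2)⁻¹ = sg c * qb p (v.1 + v.2, v.2) := by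
    have ha : onejU h2 * aq p * (onejU h2)⁻¹ = jq * aq p := mul_inv_eq_iff_eq_mul.mpr (Units.ext (by
      ext i l; fin_cases i <;> fin_cases l <;> simp [onejU, jq, aq, Matrix.mul_apply, Fin.sum_univ_two] <;> ring))
    rintro ⟨d, f⟩
    rcases zm_cases d with rfl | rfl <;> rcases zm_cases f with rfl | rfl
    · exact ⟨0, by simp [qb, qel]⟩
    · exact ⟨0, by simp [qb, qel, ha]⟩
    · exact ⟨0, by simp [qb, qel, hoj]⟩
    · refine ⟨1, ?_⟩
      have e : qb p (1, 1) = jq * aq p := by simp [qb, qel]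
      rw [show ((1 : ZMod 2) + 1, (1 : ZMod 2)) = (0, 1) from rfl, qb_aq, e,
        show onejU h2 * (jq * aq p) * (onejU h2)⁻¹ =
          onejU h2 * jq * (onejU h2)⁻¹ * (onejU h2 * aq p * (onejU h2)⁻¹) by group, hoj, ha, ← mul_assoc, jq_sq,
        sg_one]
  refine ⟨g, hg, e ▸ nr_mul p (nr_up p (nr_plus_hadU h2 t)) (nr_cst p (onejU_conj p h2)), ?_, ?_, fun i hi => ?_,
    fun a b v => ?_⟩
  · rw [e, show up (hadU h2 t) * cst (onejU h2) * (up (hadU h2 t) * cst (onejU h2)) =
      up (hadU h2 t) * (cst (onejU h2) * up (hadU h2 t)) * cst (onejU h2) by group, ← up_comm_cst, ← mul_assoc,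
      ← map_mul, mul_assoc, ← map_mul]
    refine Units.ext ?_
    rw [Units.val_mul, up_val, cst_val, cst_val, Units.val_mul]
    show upM (((2 : F)⁻¹ • had F t) * ((2 : F)⁻¹ • had F t)) * blkM (fun _ => ((onejU h2 * onejU h2 :
      GL (Fin 2) F) : Matrix (Fin 2) (Fin 2) F)) = blkM fun _ => jq.val
    rw [smul_mul_smul_comm, had_sq, smul_smul, mul_assoc, inv_mul_cancel₀ h2, mul_one,
      show upM ((2 : F)⁻¹ • (1 : Matrix (Pt j) (Pt j) F)) = (2 : F)⁻¹ • (1 : Matrix (Ix j) (Ix j) F) from by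
        rw [← upM_one]; ext u v; simp [upM_apply], smul_mul_assoc, one_mul]
    ext ⟨x, i⟩ ⟨y, l⟩
    simp only [Matrix.smul_apply, blkM_apply, smul_eq_mul]
    by_cases h : x = y
    · fin_cases i <;> fin_cases l <;> simp [h, onejU, jq, Matrix.mul_apply, Fin.sum_univ_two] <;>
        field_simp <;> ring
    · simp [h]
  · rw [e, mul_assoc, ← map_mul, mul_inv_eq_iff_eq_mul.1 hoj, map_mul, ← mul_assoc, up_comm_cst, mul_assoc]
  · have hc := hup 0 (pe i)
    have h0 : Function.update (0 : Pt j) t (pe i t) = 0 := by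
      rw [pe_ne (Ne.symm hi)]; exact Function.update_eq_self t (0 : Pt j)
    have h1 : Function.update (pe i) t ((0 : Pt j) t) = pe i := by
      rw [show (0 : Pt j) t = pe i t from (pe_ne (Ne.symm hi)).symm]; exact Function.update_eq_self t (pe i)
    rw [h0, h1, pe_ne (Ne.symm hi), mul_zero, sd_const_zero, one_mul, mul_inv_eq_iff_eq_mul, pau_sd] at hc
    rw [e, mul_assoc, ← up_comm_cst, ← mul_assoc, ← map_mul, hc, map_mul, mul_assoc]
  · obtain ⟨c, hc⟩ := hact v
    exact e ▸ CPm.comp p (cst_conj p hc a b) (up_conj p ⟨_, hup a b⟩ _)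

end Cfsg.Agent.C6Minus10
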