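import Cfsg.Agent.Lib.C6Minus10Gen

/-!
The levels of an overgroup in the minus-type model: elements centralising the signs outside a set of
coordinates, and possibly the complex structure of the last qubit.
-/

set_option autoImplicit false
set_option linter.unusedSectionVars false

namespace Cfsg.Agent.C6Minus10

open Matrix Cfsg.Agent.C6Plus10
open scoped MatrixGroups

variable {F : Type*} [Field F] {j : ℕ} {M : Subgroup (GL (Ix j) F)} {S : Finset (Fin j)}

/-- The signs of the coordinates outside a set. -/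
def Zs (F : Type*) [Field F] (S : Finset (Fin j)) : Set (GL (Ix j) F) :=
  {x | ∃ i, i ∉ S ∧ x = up (sd F (ip (pe i)))}

/-- The level with free last qubit. -/
def LR (M : Subgroup (GL (Ix j) F)) (S : Finset (Fin j)) : Subgroup (GL (Ix j) F) :=
  M ⊓ Subgroup.centralizer (Zs F S)

/-- The level centralising the complex structure of the last qubit. -/
def LC (M : Subgroup (GL (Ix j) F)) (S : Finset (Fin j)) : Subgroup (GL (Ix j) F) :=
  LR M S ⊓ Subgroup.centralizer {cst jq}

/-- Every element of the level with free last qubit normalises. -/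
def LevR (p : Par F) (M : Subgroup (GL (Ix j) F)) (S : Finset (Fin j)) : Prop := ∀ g ∈ LR M S, Nr p g

/-- Every element of the level centralising the complex structure normalises. -/
def LevC (p : Par F) (M : Subgroup (GL (Ix j) F)) (S : Finset (Fin j)) : Prop := ∀ g ∈ LC M S, Nr p g

theorem mem_LR {g : GL (Ix j) F} :
    g ∈ LR M S ↔ g ∈ M ∧ ∀ i, i ∉ S → g * up (sd F (ip (pe i))) = up (sd F (ip (pe i))) * g := by
  rw [LR, Subgroup.mem_inf, Subgroup.mem_centralizer_iff]
  refine and_congr_right fun _ => ⟨fun h i hi => (h _ ⟨i, hi, rfl⟩).symm, ?_⟩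
  rintro h x ⟨i, hi, rfl⟩
  exact (h i hi).symm

theorem mem_LC {g : GL (Ix j) F} : g ∈ LC M S ↔ g ∈ LR M S ∧ g * cst jq = cst jq * g := by
  rw [LC, Subgroup.mem_inf, Subgroup.mem_centralizer_iff]
  refine and_congr_right fun _ => ⟨fun h => (h _ rfl).symm, ?_⟩
  rintro h x rfl
  exact h.symm

theorem LR_mono {S S' : Finset (Fin j)} (h : S ⊆ S') : LR M S ≤ LR M S' := fun _ hg =>
  mem_LR.2 ⟨(mem_LR.1 hg).1, fun i hi => (mem_LR.1 hg).2 i fun e => hi (h e)⟩

theorem LR_univ : LR M Finset.univ = M :=
  le_antisymm inf_le_left fun _ hg => mem_LR.2 ⟨hg, fun i hi => absurd (Finset.mem_univ i) hi⟩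

end Cfsg.Agent.C6Minus10
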