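import Cfsg.Agent.Lib.C6Minus10OneLine
import Cfsg.Agent.Lib.C6Plus10Block

/-!
Minus type: the level with one free coordinate and the complex structure of the last qubit consists of elements
of the normaliser, given that the level without free coordinates does.
-/

set_option autoImplicit false
set_option linter.unusedSectionVars false
set_option maxHeartbeats 1000000

namespace Cfsg.Agent.C6Minus10

open Matrix Cfsg.Agent.C6Plus10
open scoped MatrixGroups
open Matrix.ProjGenLinGroup (mk)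

variable {F : Type*} [Field F] {j : ℕ} {M : Subgroup (GL (Ix j) F)} {p : Par F}

namespace One

theorem nr_inv [Finite F] {g : GL (Ix j) F} (hg : Nr p g) : Nr p g⁻¹ := by
  haveI : Finite (GL (Ix j) F) := Finite.of_injective _ Units.val_injective
  have hpow : ∀ n : ℕ, Nr p (g ^ n) := fun n => by
    induction n with
    | zero => intro r hr; simpa using hr
    | succ n ih => rw [pow_succ]; exact nr_mul p ih hg
  have h := orderOf_pos g
  rw [inv_eq_of_mul_eq_one_right (b := g ^ (orderOf g - 1))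
    (by rw [← pow_succ', show orderOf g - 1 + 1 = orderOf g by omega, pow_orderOf_eq_one])]
  exact hpow _

/-- A quadratic function staying quadratic after multiplication by every coordinate is affine. -/
theorem aff_of_quad_mul (hj : 3 ≤ j) {e : Pt j → ZMod 2} (hQ : Quad e)
    (h : ∀ c : Fin j, Quad (fun x => x c * e x)) : Aff e := by
  refine aff_of_basis fun b c x => ?_
  rcases eq_or_ne b c with rfl | hbc
  · simp only [dl_apply, pt_add_cancel]; grind
  obtain ⟨a, ha⟩ : ∃ a, a ∉ ({b, c} : Finset (Fin j)) := by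
    by_contra hc
    push Not at hc
    have := Finset.card_le_card (show Finset.univ ⊆ ({b, c} : Finset (Fin j)) from fun x _ => hc x)
    rw [Finset.card_univ, Fintype.card_fin] at this
    have := Finset.card_le_two (a := b) (b := c)
    omega
  simp only [Finset.mem_insert, Finset.mem_singleton, not_or] at ha
  have h1 := h a (pe a) (pe b) (pe c) x
  have h3 := hQ (pe a) (pe b) (pe c) x
  simp only [dl_apply, Pi.add_apply, pe_self, pe_ne ha.1, pe_ne ha.2, add_zero] at h1 h3 ⊢
  grind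

theorem qel_jq (p : Par F) (d : ZMod 2) : qel p 0 d 0 = if d = 0 then 1 else jq := by simp [qel]

theorem qel_aq (p : Par F) (e : ZMod 2) : qel p 0 0 e = if e = 0 then 1 else aq p := by simp [qel]

/-- Families of quaternions in the overgroup have affine exponents and quadratic signs. -/
theorem qel_signs (hM : BaseMinus p M) (hS : SignsMinus M) (hj : 3 ≤ j) {f d e : Pt j → ZMod 2}
    (h : blk (fun x => qel p (f x) (d x) (e x)) ∈ M) : Aff d ∧ Aff e ∧ Quad f := by
  have hjm : ∀ l, Aff l → blk (fun x => qel p 0 (l x) 0) ∈ M := fun l hl => by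
    simp only [qel_jq]; exact hM.ctrl l hl _ (jq_mem p)
  have ham : ∀ l, Aff l → blk (fun x => qel p 0 0 (l x)) ∈ M := fun l hl => by
    simp only [qel_aq]; exact hM.ctrl l hl _ (aq_mem p)
  have comm : ∀ (N : Pt j → GL (Fin 2) F) (c : Pt j → ZMod 2), blk N ∈ M →
      (∀ x, qel p (f x) (d x) (e x) * N x = qel p (c x) 0 0 * N x * qel p (f x) (d x) (e x)) → Quad c := by
    intro N c hN hc
    refine hS c ?_
    have h' := M.mul_mem (M.mul_mem (M.mul_mem h hN) (M.inv_mem h)) (M.inv_mem hN)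
    rw [← map_inv, ← map_inv, ← map_mul, ← map_mul, ← map_mul] at h'
    rw [← blk_sg]
    convert h' using 2
    funext x
    simp only [Pi.mul_apply, Pi.inv_apply]
    rw [hc x, mul_inv_cancel_right, mul_inv_cancel_right]
    simp [qel]
  have he : ∀ l, Aff l → Quad (fun x => l x * e x) := fun l hl => comm _ _ (hjm l hl) fun x => by
    rw [qel_mul, qel_mul, qel_mul]
    congr 1 <;> grind
  have hd : ∀ l, Aff l → Quad (fun x => l x * d x) := fun l hl => comm _ _ (ham l hl) fun x => by
    rw [qel_mul, qel_mul, qel_mul]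
    congr 1 <;> grind
  have hde : ∀ {e : Pt j → ZMod 2}, (∀ l, Aff l → Quad (fun x => l x * e x)) → Aff e := fun {e} he => by
    refine aff_of_quad_mul hj (by simpa using he _ (aff_const 1)) fun c => ?_
    simpa [ip_pe] using he _ (aff_ip (pe c))
  refine ⟨hde hd, hde he, hS f ?_⟩
  have h' := M.mul_mem h (M.inv_mem (M.mul_mem (hjm d (hde hd)) (ham e (hde he))))
  rw [← map_mul, ← map_inv, ← map_mul] at h'
  rw [← blk_sg]
  convert h' using 2
  funext x
  simp only [Pi.mul_apply, Pi.inv_apply]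
  rw [eq_mul_inv_iff_mul_eq, qel, qel, qel]
  simp [mul_assoc]

theorem mj_eq (π : Equiv.Perm (Pt j)) (f τ : Pt j → ZMod 2) :
    mj π f τ = (up (pm F π) * blk fun x => qel p (f x) (τ x) 0 : GL (Ix j) F) := by
  rw [mj, mon, map_mul, ← blk_sg, mul_assoc, ← map_mul]
  congr 2
  funext x
  simp [qel]

theorem mj_zero (π : Equiv.Perm (Pt j)) (f : Pt j → ZMod 2) :
    (mj π f (fun _ => 0) : GL (Ix j) F) = up (mon F π f) := by
  rw [mj, show (fun _ : Pt j => if (0 : ZMod 2) = 0 then (1 : GL (Fin 2) F) else jq) = 1 from funext fun x => by simp,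
    map_one, mul_one]

theorem affPerm_shift1 {a : Fin j} {σ : Pt j → ZMod 2} (hσ : ∀ x y, Off1 a x y → σ x = σ y) (h : Aff σ) :
    AffPerm (shift1 a σ hσ) := fun x y z => by
  obtain ⟨c, l, hl⟩ := aff_eq h
  funext i
  simp only [shift1_apply, Pi.add_apply, Pi.smul_apply, smul_eq_mul, hl, ip_add_right]
  grind

/-- A signed shift with powers of the complex structure in the overgroup has affine data. -/
theorem mj_data (hM : BaseMinus p M) (hS : SignsMinus M) (hj : 3 ≤ j) {a : Fin j} {σ f τ : Pt j → ZMod 2}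
    (hσ : ∀ x y, Off1 a x y → σ x = σ y) (hτ : ∀ x y, Off1 a x y → τ x = τ y)
    (h : mj (shift1 a σ hσ) f τ ∈ M) : Aff σ ∧ Aff τ := by
  set π := shift1 a σ hσ with hπ
  have hinv : ∀ y, τ (π y) = τ y := fun y => hτ _ _ fun l hl => by simp [hπ, shift1_apply, pe_ne hl]
  have key : ∀ l, Aff l → blk (fun y => qel p (τ (π y) * l (π y)) 0 (l (π y))) ∈ M := by
    intro l hl
    have hN : blk (fun x => qel p 0 0 (l x)) ∈ M := by
      simp only [qel_aq]; exact hM.ctrl l hl _ (aq_mem p)
    have h' := M.mul_mem (M.mul_mem h hN) (M.inv_mem h)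
    rw [mj_eq (p := p), mul_inv_eq_iff_eq_mul.2 (_ : _ = blk (fun y => qel p (τ (π y) * l (π y)) 0 (l (π y))) *
      (up (pm F π) * blk fun x => qel p (f x) (τ x) 0))] at h'
    · exact h'
    rw [← mul_assoc, blk_pm, mul_assoc, mul_assoc, ← map_mul, ← map_mul]
    congr 2
    funext x
    simp only [Pi.mul_apply, show π (π x) = x by
      conv_lhs => arg 1; rw [hπ, ← shift1_symm hσ, ← hπ]
      exact π.symm_apply_apply x]
    rw [qel_mul, qel_mul]
    congr 1 <;> grind
  obtain ⟨-, h1, h3⟩ := qel_signs hM hS hj (key _ (aff_ip (pe a)))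
  have e : ∀ y, ip (pe a) (π y) = y a + σ y := fun y => by simp [hπ, shift1_apply, ip_pe]
  simp only [e, hinv] at h1 h3
  refine ⟨?_, ?_⟩
  · have := h1.add (aff_ip (pe a))
    convert this using 1
    funext y
    rw [ip_pe]; grind
  · refine (show dl (pe a) (fun x => τ x * (x a + σ x)) = τ from funext fun x => ?_) ▸ h3.dl_aff (pe a)
    have ho : Off1 a (x + pe a) x := fun l hl => by simp [pe_ne hl]
    simp only [dl_apply, hσ _ _ ho, hτ _ _ ho, Pi.add_apply, pe_self]
    grind

theorem mem_LC_mj {a : Fin j} {π : Equiv.Perm (Pt j)} {f τ : Pt j → ZMod 2} (hm : mj π f τ ∈ M)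
    (hfix : ∀ y l, l ≠ a → π y l = y l) : mj π f τ ∈ LC M {a} := by
  refine mem_LC.2 ⟨mem_LR.2 ⟨hm, fun d hd => ?_⟩, ?_⟩
  · have hda : d ≠ a := by simpa using hd
    have hmon : mon F π f * sd F (ip (pe d)) = sd F (ip (pe d)) * mon F π f := by
      refine mul_inv_eq_iff_eq_mul.1 ?_
      rw [mon_conj_sd]
      refine congrArg _ (funext fun y => ?_)
      have := hfix (π.symm y) d hda
      rw [π.apply_symm_apply] at this
      rw [Function.comp_apply, ip_pe, ip_pe, this]
    rw [mj, mul_assoc, ← blk_sg (ip (pe d)), ← map_mul,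
      show ((fun x => if τ x = 0 then (1 : GL (Fin 2) F) else jq) * fun x => sg (ip (pe d) x)) =
        (fun x => sg (ip (pe d) x)) * fun x => if τ x = 0 then (1 : GL (Fin 2) F) else jq from
        funext fun x => by rw [Pi.mul_apply, Pi.mul_apply, ← sg_comm],
      map_mul, blk_sg, ← mul_assoc, ← map_mul, hmon, map_mul, mul_assoc]
  · rw [mj, mul_assoc, cst_eq, ← map_mul,
      show ((fun x => if τ x = 0 then (1 : GL (Fin 2) F) else jq) * fun _ => jq) =
        (fun _ => jq) * fun x => if τ x = 0 then (1 : GL (Fin 2) F) else jq from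
        funext fun x => by rw [Pi.mul_apply, Pi.mul_apply]; split_ifs <;> simp,
      map_mul, ← cst_eq, ← mul_assoc, up_comm_cst, mul_assoc]

variable {K : Type*} [Field K] (e : F →+* K) (i : K)

theorem lb_mj {a : Fin j} {π : Equiv.Perm (Pt j)} {f τ : Pt j → ZMod 2} {β : Pt j} {s t s' : ZMod 2}
    (hπ : π (ln a β t) = ln a β s') :
    lb e i a (mj π f τ : GL (Ix j) F) β s t =
      if s = s' then (if τ (ln a β t) = 1 then i else 1) * sgn K (f (ln a β t)) else 0 := by
  simp only [lb, mj_apply, hπ, ln_eq_iff]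
  by_cases hs : s = s'
  · rcases zm_cases (τ (ln a β t)) with hc | hc <;> simp [hs, hc, jq, map_sgn']
  · simp [hs]

include e in
/-- The statement over a field with a square root of minus one. -/
theorem lev_one_aux [Fintype K] [Finite F] (h2K : (2 : K) ≠ 0) (h2 : (2 : F) ≠ 0) (hM : BaseMinus p M)
    (hS : SignsMinus M) (hj : 3 ≤ j) (hbot : LevR p M ∅) (hi : i * i = -1) (a : Fin j) : LevC p M {a} := by
  classical
  intro g hg
  set L := LC M ({a} : Finset (Fin j)) with hL
  have hi0 : i ≠ 0 := fun e0 => by rw [e0, zero_mul] at hi; exact one_ne_zero (neg_eq_zero.1 hi.symm)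
  -- the generators
  have hid : ∀ (y : Pt j) l, l ≠ a → (1 : Equiv.Perm (Pt j)) y l = y l := fun _ _ _ => rfl
  have mzero : ∀ f : Pt j → ZMod 2, (mj 1 f (fun _ => 0) : GL (Ix j) F) = up (sd F f) := fun f => by
    rw [mj_zero, mon_one_left]
  have mpm : ∀ π : Equiv.Perm (Pt j), (mj π (fun _ => 0) (fun _ => 0) : GL (Ix j) F) = up (pm F π) := fun π => by
    rw [mj_zero, C6Plus10.mon_zero]
  let zg : L := ⟨mj 1 (ip (pe a)) (fun _ => 0),
    mem_LC_mj (by rw [mzero]; exact hM.quad _ (aff_ip _).quad) hid⟩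
  let xg : L := ⟨mj (Equiv.addRight (pe a)) (fun _ => 0) (fun _ => 0), mem_LC_mj (by
    rw [mpm]; exact hM.aff _ fun x y z => by
      funext l; simp only [Equiv.coe_addRight, Pi.add_apply]; grind) fun y l hl => by simp [pe_ne hl]⟩
  let rg : L := ⟨mj 1 (fun _ => 0) (ip (pe a)), mem_LC_mj (by
    rw [mj, C6Plus10.mon_zero, pm_one, map_one, one_mul]
    exact hM.ctrl _ (aff_ip _) _ (jq_mem p)) hid⟩
  have hHval : ∀ x y u v, ((up (hadU h2 a) * cst (onejU h2) : GL (Ix j) F) : Matrix (Ix j) (Ix j) F) (x, u) (y, v) =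
      2⁻¹ * C6Minus10.had F a x y * (1 + jq.val : Matrix (Fin 2) (Fin 2) F) u v := fun x y u v => by
    rw [Units.val_mul, up_val, cst_val, Matrix.mul_apply, Fintype.sum_prod_type,
      Finset.sum_eq_single y (fun z _ hz => by simp [blkM_apply, hz]) (by simp)]
    simp only [upM_apply, blkM_apply, Fin.sum_univ_two, if_true]
    show _ = _
    simp only [hadU, onejU, Matrix.smul_apply, smul_eq_mul]
    fin_cases u <;> fin_cases v <;> simp
  obtain ⟨H, hHM, hHv⟩ := hM.had1 a
  have hH : H = up (hadU h2 a) * cst (onejU h2) := Units.ext (Matrix.ext fun ⟨x, u⟩ ⟨y, v⟩ => by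
    rw [hHval, hHv, Matrix.smul_apply, smul_eq_mul, Matrix.mul_apply, Fintype.sum_prod_type,
      Finset.sum_eq_single y (fun z _ hz => by simp [blkM_apply, hz]) (by simp)]
    simp only [upM_apply, blkM_apply, Fin.sum_univ_two, if_true, C6Minus10.had]
    fin_cases u <;> fin_cases v <;> simp [mul_assoc])
  subst hH
  have hadc : ∀ d, d ≠ a → hadU (F := F) h2 a * sd F (ip (pe d)) = sd F (ip (pe d)) * hadU h2 a := fun d hd =>
    Units.ext (Matrix.ext fun x y => by
      rw [Units.val_mul, Units.val_mul, sd_apply, Matrix.mul_diagonal, Matrix.diagonal_mul]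
      simp only [hadU, Matrix.smul_apply, smul_eq_mul, had_apply, ip_pe]
      by_cases h : ∀ l, l ≠ a → x l = y l
      · rw [if_pos h, h d hd]; ring
      · rw [if_neg h]; ring)
  have hoj : onejU (F := F) h2 * jq = jq * onejU h2 := Units.ext (by
    simp only [Units.val_mul, onejU]
    rw [add_mul, mul_add, one_mul, mul_one])
  let sg' : L := ⟨up (hadU h2 a) * cst (onejU h2), mem_LC.2 ⟨mem_LR.2 ⟨hHM, fun d hd => by
      rw [mul_assoc, ← up_comm_cst, ← mul_assoc, ← map_mul, hadc d (by simpa using hd), map_mul, mul_assoc]⟩, by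
      rw [mul_assoc, ← map_mul cst, hoj, map_mul cst, ← mul_assoc, up_comm_cst, mul_assoc]⟩⟩
  have hla : ∀ l : Fin j, l ≠ a → ip (pe l) (pe a) = 0 := fun l hl => by rw [ip_pe, pe_ne hl]
  let cz : ∀ l : Fin j, l ≠ a → L := fun l _ => ⟨mj 1 (qf (pe l) (pe a) 0) (fun _ => 0),
    mem_LC_mj (by rw [mzero]; exact hM.quad _ (quad_qf _ _ _)) hid⟩
  let cx : ∀ l : Fin j, l ≠ a → L := fun l hl => ⟨mj (trP (pe a) (pe l) 0 (hla l hl)) (fun _ => 0) (fun _ => 0),
    mem_LC_mj (by rw [mpm]; exact hM.aff _ (affPerm_trP _ _ _ _))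
      fun y m hm => by simp [trP_apply, pe_ne hm]⟩
  -- their blocks
  have h11 : (1 : ZMod 2) + 1 = 0 := by decide
  have bz : ∀ β, lblk e i a zg.1 β = !![1, 0; 0, -1] := fun β => by
    simp only [zg, lblk]
    rw [lb_mj e i (s' := 0) rfl, lb_mj e i (s' := 1) rfl, lb_mj e i (s' := 0) rfl, lb_mj e i (s' := 1) rfl]
    simp [ip_pe, ln_a, sgn_one]
  have hadd : ∀ (β : Pt j) (t d : ZMod 2), ln a β t + d • pe a = ln a β (t + d) := fun β t d => ln_add β t d
  have bx : ∀ β, lblk e i a xg.1 β = !![0, 1; 1, 0] := fun β => by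
    have hπ : ∀ t, Equiv.addRight (pe a) (ln a β t) = ln a β (t + 1) := fun t => by simpa using hadd β t 1
    simp only [xg, lblk]
    rw [lb_mj e i (hπ 0), lb_mj e i (hπ 1), lb_mj e i (hπ 0), lb_mj e i (hπ 1)]
    simp [h11]
  have br : ∀ β, lblk e i a rg.1 β = !![1, 0; 0, i] := fun β => by
    simp only [rg, lblk]
    rw [lb_mj e i (s' := 0) rfl, lb_mj e i (s' := 1) rfl, lb_mj e i (s' := 0) rfl, lb_mj e i (s' := 1) rfl]
    simp [ip_pe, ln_a]
  have bs : ∀ β, lblk e i a sg'.1 β = ((1 + i) * 2⁻¹) • !![1, 1; 1, -1] := fun β => by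
    have hent : ∀ s t : ZMod 2, lb e i a sg'.1 β s t = (1 + i) * 2⁻¹ * sgn K (s * t) := fun s t => by
      simp only [sg', lb]
      rw [hHval, hHval, had_apply, if_pos (show ∀ l, l ≠ a → ln a β s l = ln a β t l from off_ln_ln β s t), ln_a, ln_a]
      simp [jq, map_sgn', map_ofNat]
      ring
    simp only [lblk, hent]
    simp [sgn_one, Matrix.smul_of, Matrix.smul_cons]
  have bcz : ∀ l hl β, lblk e i a (cz l hl).1 β = if β l = 1 then !![1, 0; 0, -1] else 1 := fun l hl β => by
    simp only [cz, lblk]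
    rw [lb_mj e i (s' := 0) rfl, lb_mj e i (s' := 1) rfl, lb_mj e i (s' := 0) rfl, lb_mj e i (s' := 1) rfl]
    rcases zm_cases (β l) with hb | hb <;> simp [qf, ip_pe, ln_a, ln_off hl, hb, sgn_one, Matrix.one_fin_two]
  have bcx : ∀ l hl β, lblk e i a (cx l hl).1 β = if β l = 1 then !![0, 1; 1, 0] else 1 := fun l hl β => by
    have hπ : ∀ t, trP (pe a) (pe l) 0 (hla l hl) (ln a β t) = ln a β (t + β l) := fun t => by
      simpa [trP_apply, ip_pe, ln_off hl] using hadd β t (β l)
    simp only [cx, lblk]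
    rw [lb_mj e i (hπ 0), lb_mj e i (hπ 1), lb_mj e i (hπ 0), lb_mj e i (hπ 1)]
    rcases zm_cases (β l) with hb | hb <;> simp [hb, Matrix.one_fin_two, h11]
  -- the projective images
  let G : Pt j → L →* GL (Fin 2) K := fun β => lblkG e i h2 hi β
  have hGv : ∀ β (n : L), ((G β n : GL (Fin 2) K) : Matrix (Fin 2) (Fin 2) K) = lblk e i a n.1 β := fun β n => rfl
  let ψ : Pt j → L →* Matrix.ProjGenLinGroup (Fin 2) K := fun β => mk.comp (G β)
  let zK : GL (Fin 2) K := GeneralLinearGroup.mkOfDetNeZero !![1, 0; 0, -1] (by simp [Matrix.det_fin_two])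
  let xK : GL (Fin 2) K := GeneralLinearGroup.mkOfDetNeZero !![0, 1; 1, 0] (by simp [Matrix.det_fin_two])
  let hK : GL (Fin 2) K := GeneralLinearGroup.mkOfDetNeZero !![1, 1; 1, -1] (by
    simp [Matrix.det_fin_two]; intro h; exact h2K (by linear_combination -h))
  let rK : GL (Fin 2) K := GeneralLinearGroup.mkOfDetNeZero !![1, 0; 0, i] (by simp [Matrix.det_fin_two, hi0])
  obtain ⟨⟨hzz, hxx, hzx⟩, ⟨hz1, hx1, hne⟩, ⟨hhz, hhx⟩, hrz, hrx⟩ :=
    pgl_facts (zg := zK) (xg := xK) (hg := hK) (rg := rK) (i := -i) h2K (by rw [neg_mul_neg, hi]) rfl rfl rfl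
      (by simp [rK, GeneralLinearGroup.mkOfDetNeZero])
  set Z := mk zK
  set X := mk xK
  have hψz : ∀ β, ψ β zg = Z := fun β => congrArg mk (Units.ext (bz β))
  have hψx : ∀ β, ψ β xg = X := fun β => congrArg mk (Units.ext (bx β))
  have hψr : ∀ β, ψ β rg = mk rK := fun β => congrArg mk (Units.ext (br β))
  have hci : (1 + i) * 2⁻¹ ≠ 0 := mul_ne_zero (fun h0 => h2K (by
    have : i = -1 := by linear_combination h0
    rw [this] at hi
    linear_combination hi)) (inv_ne_zero h2K)
  have hψs : ∀ β, ψ β sg' = mk hK := fun β => (mk_ext_smul hci (bs β)).symm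
  have hGcz : ∀ l hl β, G β (cz l hl) = if β l = 1 then G β zg else 1 := fun l hl β => by
    rcases zm_cases (β l) with hb | hb
    · rw [if_neg (by simp [hb])]
      exact Units.ext (by rw [hGv, bcz l hl, if_neg (by simp [hb])]; rfl)
    · rw [if_pos hb]
      exact Units.ext (by rw [hGv, hGv, bcz l hl, if_pos hb, bz])
  have hψc : ∀ l hl β, ψ β (cz l hl) = (if β l = 1 then Z else 1) ∧
      ψ β (cx l hl) = if β l = 1 then X else 1 := fun l hl β => by
    rcases zm_cases (β l) with hb | hb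
    · rw [if_neg (by simp [hb]), if_neg (by simp [hb])]
      exact ⟨by rw [← map_one (mk (n := Fin 2) (R := K))]; exact congrArg mk (Units.ext (by
          rw [hGv, bcz l hl, if_neg (by simp [hb])]; rfl)),
        by rw [← map_one (mk (n := Fin 2) (R := K))]; exact congrArg mk (Units.ext (by
          rw [hGv, bcx l hl, if_neg (by simp [hb])]; rfl))⟩
    · rw [if_pos hb, if_pos hb]
      exact ⟨congrArg mk (Units.ext (by rw [hGv, bcz l hl, if_pos hb]; rfl)),
        congrArg mk (Units.ext (by rw [hGv, bcx l hl, if_pos hb]; rfl))⟩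
  have hGcongr : ∀ {β β' : Pt j}, Off1 a β β' → ∀ n, G β n = G β' n := fun h n =>
    Units.ext (lblk_congr e i _ h)
  have hself : ∀ t, t * Z = Z * t → t * X = X * t → InV Z X t := fun t ht ht' => by
    rcases mem_four h2K (z := zK) (x := xK) rfl rfl ht ht' with h | h | h | h
    exacts [Or.inl h, Or.inr (Or.inl h), Or.inr (Or.inr (Or.inl h)),
      Or.inr (Or.inr (Or.inr (by rw [h, map_mul])))]
  have hFone : Fw Z X 1 := ⟨Or.inr (Or.inl (by simp)), Or.inr (Or.inr (Or.inl (by simp)))⟩
  have hFV : ∀ {v}, InV Z X v → Fw Z X v := fun hv => by simpa using hFone.mul_right hzx hv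
  -- the flats
  let Gs : Finset (Fin j) → Pt j → Subgroup L := fun A β₀ =>
    ⨅ (β : Pt j), ⨅ (_ : ¬ ∀ l ∈ A, β l = β₀ l), (ψ β).ker
  have hGs : ∀ {A β₀} {n : L}, n ∈ Gs A β₀ ↔ ∀ β, (¬ ∀ l ∈ A, β l = β₀ l) → ψ β n = 1 := fun {A β₀ n} => by
    simp [Gs, Subgroup.mem_iInf, MonoidHom.mem_ker]
  have hnormal : ∀ A β₀ (n m : L), n ∈ Gs A β₀ → m * n * m⁻¹ ∈ Gs A β₀ := fun A β₀ n m hn => hGs.2 fun β hβ => by
    rw [map_mul, map_mul, hGs.1 hn β hβ, mul_one, map_inv, mul_inv_cancel]
  obtain ⟨d, hd⟩ : ∃ d, d ≠ a := by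
    haveI : Nontrivial (Fin j) := Fin.nontrivial_iff_two_le.2 (by omega)
    exact exists_ne a
  obtain ⟨d', hd'⟩ : ∃ d', d' ∉ ({a, d} : Finset (Fin j)) := by
    by_contra hc
    push Not at hc
    have := Finset.card_le_card (show Finset.univ ⊆ ({a, d} : Finset (Fin j)) from fun x _ => hc x)
    rw [Finset.card_univ, Fintype.card_fin] at this
    have := Finset.card_le_two (a := a) (b := d)
    omega
  simp only [Finset.mem_insert, Finset.mem_singleton, not_or] at hd'
  have claim : ∀ n, ∀ A : Finset (Fin j), a ∉ A → A.card + n + 1 = j → ∀ β₀, ∀ m ∈ Gs A β₀, ∀ β,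
      Fw Z X (ψ β m) := by
    intro n
    induction n with
    | zero =>
      intro A haA hA β₀ m hm β
      have hfull : ∀ l, l ≠ a → l ∈ A := by
        have hAeq : A = ({a} : Finset (Fin j))ᶜ := Finset.eq_of_subset_of_card_le
          (fun l hl => by simp; exact fun h => haA (h ▸ hl))
          (by rw [Finset.card_compl, Finset.card_singleton, Fintype.card_fin]; omega)
        intro l h1
        rw [hAeq]; simp [h1]
      suffices hW : (Gs A β₀).map (ψ β₀) = ⊥ by
        by_cases hβ : ∀ l ∈ A, β l = β₀ l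
        · have : ψ β m = ψ β₀ m := congrArg mk (hGcongr (fun l h => hβ l (hfull l h)) m)
          rw [this, (Subgroup.eq_bot_iff_forall _).1 hW _ (Subgroup.mem_map_of_mem _ hm)]
          exact hFone
        · rw [hGs.1 hm β hβ]; exact hFone
      by_contra hW
      have hnor : ∀ (u : L) (w), w ∈ (Gs A β₀).map (ψ β₀) → ψ β₀ u * w * (ψ β₀ u)⁻¹ ∈ (Gs A β₀).map (ψ β₀) := by
        rintro u w ⟨m', hm', rfl⟩
        exact ⟨u * m' * u⁻¹, hnormal _ _ _ u hm', by simp⟩
      obtain ⟨t, ⟨m', hm', rfl⟩, -, -, -, ht⟩ := fixed_of_normalised h2K (z := zK) (x := xK) rfl rfl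
        (i := i) hi (h := hK) (s := rK) rfl rfl _
        (fun w hw => by have := hnor zg w hw; rwa [hψz] at this)
        (fun w hw => by have := hnor xg w hw; rwa [hψx] at this)
        (fun w hw => by have := hnor sg' w hw; rwa [hψs] at this)
        (fun w hw => by have := hnor rg w hw; rwa [hψr] at this) hW
      obtain ⟨u, σ₁, τ₁, hne', hu0, hu1⟩ : ∃ (u : L) (σ₁ τ₁ : ZMod 2), (σ₁ = 1 ∨ τ₁ = 1) ∧
          (∀ β', (∀ l ∈ A, β' l = β₀ l) → ∀ t, lb e i a u.1 β' (t + σ₁) t * lb e i a u.1 β' (t + σ₁) t =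
            (if τ₁ = 1 then i else 1) * (if τ₁ = 1 then i else 1) ∧ lb e i a u.1 β' (t + σ₁ + 1) t = 0) ∧
          ∀ β', (¬ ∀ l ∈ A, β' l = β₀ l) → lblk e i a u.1 β' = 1 := by
        have at0 : ∀ (N : L) {β'}, (∀ l ∈ A, β' l = β₀ l) →
            lblk e i a (m' * N * m'⁻¹ * N⁻¹).1 β' =
              ((G β₀ m' * G β₀ N * (G β₀ m')⁻¹ * (G β₀ N)⁻¹ : GL (Fin 2) K) : Matrix (Fin 2) (Fin 2) K) :=
          fun N β' hβ' => by
            rw [← hGv, hGcongr (β' := β₀) (fun l h => hβ' l (hfull l h)), map_mul, map_mul, map_mul, map_inv,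
              map_inv]
        have out : ∀ (N : L) β', (¬ ∀ l ∈ A, β' l = β₀ l) → lblk e i a (m' * N * m'⁻¹ * N⁻¹).1 β' = 1 :=
          fun N β' hβ' => by
            rw [← hGv, map_mul, map_mul, map_mul, map_inv, map_inv, comm_one (hGs.1 hm' β' hβ')]
            rfl
        rcases ht with ht | ht | ht <;> obtain ⟨c, -, hc⟩ := exists_smul_of_mk ht.symm
        · refine ⟨m' * sg' * m'⁻¹ * sg'⁻¹, 1, 0, Or.inl rfl, fun β' hβ' => ?_, out sg'⟩
          have := at0 sg' hβ'
          rw [comm_val (Q := !![0, 1; -1, 0]) hc (bs β₀) (by simp [zK, GeneralLinearGroup.mkOfDetNeZero])] at this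
          obtain ⟨e00, e01, e10, e11⟩ := lb_of_blk e i this
          simp only [Subgroup.coe_mul, InvMemClass.coe_inv] at e00 e01 e10 e11
          intro t
          rcases zm_cases t with rfl | rfl <;> simp [e00, e01, e10, e11, h11]
        · refine ⟨m' * sg' * m'⁻¹ * sg'⁻¹, 1, 0, Or.inl rfl, fun β' hβ' => ?_, out sg'⟩
          have := at0 sg' hβ'
          rw [comm_val (Q := !![0, -1; 1, 0]) hc (bs β₀) (by simp [xK, GeneralLinearGroup.mkOfDetNeZero])] at this
          obtain ⟨e00, e01, e10, e11⟩ := lb_of_blk e i this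
          simp only [Subgroup.coe_mul, InvMemClass.coe_inv] at e00 e01 e10 e11
          intro t
          rcases zm_cases t with rfl | rfl <;> simp [e00, e01, e10, e11, h11]
        · refine ⟨m' * rg * m'⁻¹ * rg⁻¹, 0, 1, Or.inr rfl, fun β' hβ' => ?_, out rg⟩
          have := at0 rg hβ'
          rw [comm_val (Q := !![i, 0; 0, -i]) (d := 1) (H := !![1, 0; 0, i]) hc (by rw [one_smul]; exact br β₀)
            (by simp [zK, xK, GeneralLinearGroup.mkOfDetNeZero, hi])] at this
          obtain ⟨e00, e01, e10, e11⟩ := lb_of_blk e i this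
          simp only [Subgroup.coe_mul, InvMemClass.coe_inv] at e00 e01 e10 e11
          intro t
          rcases zm_cases t with rfl | rfl <;> simp [e00, e01, e10, e11, h11]
      let ind : Pt j → ZMod 2 := fun y => if ∀ l ∈ A, y l = β₀ l then 1 else 0
      have hind : ∀ x y, Off1 a x y → ind x = ind y := fun x y h => by
        simp only [ind]
        congr 1
        exact propext (forall_congr' fun l => forall_congr' fun hl => by rw [h l (fun h' => haA (h' ▸ hl))])
      have hs1 : ∀ x y, Off1 a x y → (fun z => σ₁ * ind z) x = (fun z => σ₁ * ind z) y := fun x y h => by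
        simp only [hind x y h]
      have ht1 : ∀ x y, Off1 a x y → (fun z => τ₁ * ind z) x = (fun z => τ₁ * ind z) y := fun x y h => by
        simp only [hind x y h]
      obtain ⟨f, hf⟩ := mj_of_lb e i h2K h2 hM.le hi u.2 (σ := fun y => σ₁ * ind y) (τ := fun y => τ₁ * ind y)
        hs1 (fun β' t => by
          have hln : ind (ln a β' t) = ind β' := hind _ _ (off_ln β' t)
          by_cases hβ' : ∀ l ∈ A, β' l = β₀ l
          · have : ind β' = 1 := if_pos hβ'
            simp only [hln, this, mul_one]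
            exact hu0 β' hβ' t
          · have : ind β' = 0 := if_neg hβ'
            simp only [hln, this, mul_zero, add_zero]
            have hb := hu1 β' hβ'
            rw [Matrix.one_fin_two] at hb
            obtain ⟨e00, e01, e10, e11⟩ := lb_of_blk e i hb
            rcases zm_cases t with rfl | rfl <;> simp [e00, e01, e10, e11, h11])
      obtain ⟨hA1, hA3⟩ := mj_data hM hS hj hs1 ht1 (hf ▸ (mem_LR.1 (mem_LC.1 u.2).1).1)
      have hnaff : ¬ Aff ind := by
        intro hA'
        have h := hA' (pe d) (pe d') β₀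
        have i0 : ind β₀ = 1 := if_pos fun _ _ => rfl
        have hno : ∀ v : Pt j, (∃ l, l ≠ a ∧ v l = 1) → ind (β₀ + v) = 0 := fun v ⟨l, h1, hv⟩ =>
          if_neg fun h => by
            have := h l (hfull l h1)
            simp [hv] at this
        have i1 := hno (pe d) ⟨d, hd, pe_self d⟩
        have i3 := hno (pe d') ⟨d', hd'.1, pe_self d'⟩
        have i4 := hno (pe d + pe d') ⟨d, hd, by simp [pe_ne (Ne.symm hd'.2)]⟩
        simp only [dl_apply] at h
        rw [i0, i1, add_assoc β₀] at h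
        simp only [i3, i4] at h
        grind
      rcases hne' with rfl | rfl
      · simp only [one_mul] at hA1; exact hnaff hA1
      · simp only [one_mul] at hA3; exact hnaff hA3
    | succ n ih =>
      intro A haA hA β₀
      obtain ⟨l, hl⟩ : ∃ l, l ∉ insert a A := by
        by_contra hc
        push Not at hc
        have := Finset.card_le_card (show Finset.univ ⊆ insert a A from fun x _ => hc x)
        rw [Finset.card_univ, Fintype.card_fin] at this
        have := Finset.card_insert_le a A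
        omega
      simp only [Finset.mem_insert, not_or] at hl
      obtain ⟨hla', hlA⟩ := hl
      have key : ∀ (β : Pt j) (P : L) (Pc : L) (v : Matrix.ProjGenLinGroup (Fin 2) K), InV Z X v →
          (∀ β', ψ β' P = v) → (∀ β', ψ β' Pc = if β' l = 1 then v else 1) →
          ∀ m ∈ Gs A β₀, Fw Z X (ψ β m * v * (ψ β m)⁻¹) := by
        intro β P Pc v hv hP hPc m hm
        by_cases hβ : ∀ m ∈ A, β m = β₀ m
        swap
        · rw [hGs.1 hm β hβ, inv_one, mul_one, one_mul]; exact hFV hv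
        have hvv : v * v = 1 := by
          have := hv.inv_eq hzz hxx hzx
          conv_lhs => arg 1; rw [← this]
          rw [inv_mul_cancel]
        let N : L := if β l = 1 then Pc else P * Pc
        have hN : ∀ β', ψ β' N = if β' l = β l then v else 1 := fun β' => by
          rcases zm_cases (β l) with h | h <;> rcases zm_cases (β' l) with h' | h' <;>
            simp [N, h, h', hPc, hP, hvv]
        have hmem : m * N * m⁻¹ * N⁻¹ ∈ Gs (insert l A) (Function.update β₀ l (β l)) := hGs.2 fun β' hβ' => by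
          rw [map_mul, map_mul, map_mul, map_inv, map_inv, hN]
          by_cases hl' : β' l = β l
          · have : ¬ ∀ m ∈ A, β' m = β₀ m := fun h => hβ' fun m hm' => by
              rcases Finset.mem_insert.1 hm' with rfl | hm'
              · rw [Function.update_self, hl']
              · rw [Function.update_of_ne (fun e' : m = l => hlA (e' ▸ hm')), h m hm']
            simp [hGs.1 hm β' this]
          · simp [hl']
        have := ih (insert l A) (by simp [haA, Ne.symm hla'])
          (by rw [Finset.card_insert_of_notMem hlA]; omega) _ _ hmem β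
        rw [map_mul, map_mul, map_mul, map_inv, map_inv, hN, if_pos rfl] at this
        simpa [mul_assoc] using this.mul_right hzx hv
      intro m hm β
      have hJ : ∀ y ∈ ((Gs A β₀).map (ψ β) : Set _), Fw Z X (y * Z * y⁻¹) ∧ Fw Z X (y * X * y⁻¹) := by
        rintro y ⟨m', hm', rfl⟩
        exact ⟨key β zg (cz l hla') Z (Or.inr (Or.inl rfl)) hψz (fun β' => (hψc l hla' β').1) m' hm',
          key β xg (cx l hla') X (Or.inr (Or.inr (Or.inl rfl))) hψx (fun β' => (hψc l hla' β').2) m' hm'⟩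
      have hconj : ∀ (u : L), ∀ y ∈ ((Gs A β₀).map (ψ β) : Set _), ψ β u * y * (ψ β u)⁻¹ ∈
          ((Gs A β₀).map (ψ β) : Set _) := by
        rintro u y ⟨m', hm', rfl⟩
        exact ⟨u * m' * u⁻¹, hnormal _ _ _ u hm', by simp⟩
      have main : ∀ y ∈ ((Gs A β₀).map (ψ β) : Set _), InV Z X (y * Z * y⁻¹) := fun y hy =>
        inV_conj hzz hxx hzx hz1 hx1 hne hself hhz hhx hrz hrx (fun y hy => hψs β ▸ hconj sg' y hy)
          (fun y hy => hψr β ▸ hconj rg y hy)
          (fun y hy y' hy' => ((Gs A β₀).map (ψ β)).mul_mem (((Gs A β₀).map (ψ β)).inv_mem hy) hy') hJ hy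
      have hy : ψ β m ∈ ((Gs A β₀).map (ψ β) : Set _) := Subgroup.mem_map_of_mem _ hm
      refine ⟨main _ hy, ?_⟩
      have hy' : (mk hK)⁻¹ * ψ β m * mk hK ∈ ((Gs A β₀).map (ψ β) : Set _) := by
        have := hconj sg'⁻¹ _ hy
        rwa [map_inv, hψs, inv_inv] at this
      have h1 := (show Fw Z X (mk hK) from ⟨Or.inr (Or.inr (Or.inl hhz)), Or.inr (Or.inl hhx)⟩).inV hzz hxx hzx
        (main _ hy')
      have e1 : mk hK * ((mk hK)⁻¹ * ψ β m * mk hK * Z * ((mk hK)⁻¹ * ψ β m * mk hK)⁻¹) * (mk hK)⁻¹ =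
          ψ β m * (mk hK * Z * (mk hK)⁻¹) * (ψ β m)⁻¹ := by group
      rwa [e1, hhz] at h1
  -- the image of the free sign
  let g' : L := ⟨g, hg⟩
  let u : L := g' * zg * g'⁻¹
  have hz2 : zg * zg = 1 := Subtype.ext (by
    show (mj 1 _ _ : GL (Ix j) F) * mj 1 _ _ = 1
    rw [mzero, ← map_mul, sd_mul, show ip (pe a) + ip (pe a) = (0 : Pt j → ZMod 2) from
      funext fun x => CharTwo.add_self_eq_zero _, sd_zero, map_one])
  have hconj2 : ∀ n : L, n * zg * n⁻¹ * (n * zg * n⁻¹) = 1 := fun n => by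
    rw [show n * zg * n⁻¹ * (n * zg * n⁻¹) = n * (zg * zg) * n⁻¹ by group, hz2, mul_one, mul_inv_cancel]
  have hsq : ∀ (n : L) β, ((G β (n * zg * n⁻¹) : GL (Fin 2) K) : Matrix (Fin 2) (Fin 2) K) *
      (G β (n * zg * n⁻¹) : GL (Fin 2) K).val = 1 := fun n β => by
    rw [← Units.val_mul, ← map_mul, hconj2, map_one]; rfl
  have hst : ∀ β, ∃ σ τ : ZMod 2, (∀ t, (lb e i a u.1 β (t + σ) t * lb e i a u.1 β (t + σ) t =
      (if τ = 1 then i else 1) * (if τ = 1 then i else 1)) ∧ lb e i a u.1 β (t + σ + 1) t = 0) ∧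
      ((σ = 0 ∧ τ = 0 ∧ ψ β u = Z) ∨ (σ = 1 ∧ τ = 0 ∧ ψ β u = X) ∨ (σ = 1 ∧ τ = 1 ∧ ψ β u = Z * X)) := by
    intro β
    have hV : InV Z X (ψ β u) := by
      have := (claim (j - 1) ∅ (by simp) (by simp; omega) 0 g' (hGs.2 fun β' h => absurd (by simp) h) β).1
      simpa [u, hψz] using this
    have hne1 : ψ β u ≠ 1 := fun h => hz1 (by
      simpa only [u, map_mul, map_inv, hψz, conj_eq_one_iff] using h)
    have hsq' := hsq g' β
    rcases hV with h | h | h | h
    · exact absurd h hne1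
    · obtain ⟨c, -, hc⟩ := exists_smul_of_mk h.symm
      rw [show g' * zg * g'⁻¹ = u from rfl, hc] at hsq'
      have hcc : c * c = 1 := by
        have := congrFun (congrFun hsq' 0) 0
        simpa [zK, GeneralLinearGroup.mkOfDetNeZero, Matrix.mul_apply, Fin.sum_univ_two] using this
      have hb : lblk e i a u.1 β = !![c, 0; 0, -c] := by
        rw [← hGv, hc]; simp [zK, GeneralLinearGroup.mkOfDetNeZero, Matrix.smul_of, Matrix.smul_cons]
      obtain ⟨e00, e01, e10, e11⟩ := lb_of_blk e i hb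
      refine ⟨0, 0, fun t => ?_, Or.inl ⟨rfl, rfl, h⟩⟩
      rcases zm_cases t with rfl | rfl <;> simp [e00, e01, e10, e11, hcc, h11]
    · obtain ⟨c, -, hc⟩ := exists_smul_of_mk h.symm
      rw [show g' * zg * g'⁻¹ = u from rfl, hc] at hsq'
      have hcc : c * c = 1 := by
        have := congrFun (congrFun hsq' 0) 0
        simpa [xK, GeneralLinearGroup.mkOfDetNeZero, Matrix.mul_apply, Fin.sum_univ_two] using this
      have hb : lblk e i a u.1 β = !![0, c; c, 0] := by
        rw [← hGv, hc]; simp [xK, GeneralLinearGroup.mkOfDetNeZero, Matrix.smul_of, Matrix.smul_cons]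
      obtain ⟨e00, e01, e10, e11⟩ := lb_of_blk e i hb
      refine ⟨1, 0, fun t => ?_, Or.inr (Or.inl ⟨rfl, rfl, h⟩)⟩
      rcases zm_cases t with rfl | rfl <;> simp [e00, e01, e10, e11, hcc, h11]
    · have h' := h
      rw [← map_mul] at h'
      obtain ⟨c, -, hc⟩ := exists_smul_of_mk h'.symm
      rw [show g' * zg * g'⁻¹ = u from rfl, hc] at hsq'
      have hcc : c * c = -1 := by
        have := congrFun (congrFun hsq' 0) 0
        simp [zK, xK, GeneralLinearGroup.mkOfDetNeZero, Matrix.mul_apply, Fin.sum_univ_two] at this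
        linear_combination -this
      have hb : lblk e i a u.1 β = !![0, c; -c, 0] := by
        rw [← hGv, hc]; simp [zK, xK, GeneralLinearGroup.mkOfDetNeZero, Matrix.smul_of, Matrix.smul_cons]
      obtain ⟨e00, e01, e10, e11⟩ := lb_of_blk e i hb
      refine ⟨1, 1, fun t => ?_, Or.inr (Or.inr ⟨rfl, rfl, h⟩)⟩
      rcases zm_cases t with rfl | rfl <;> simp [e00, e01, e10, e11, hcc, hi, h11]
  choose σ₀ τ₀ hστ hcase using hst
  let σ : Pt j → ZMod 2 := fun y => σ₀ (ln a y 0)
  let τ : Pt j → ZMod 2 := fun y => τ₀ (ln a y 0)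
  have hσ : ∀ x y, Off1 a x y → σ x = σ y := fun x y h => by simp only [σ, ln_congr h]
  have hτ : ∀ x y, Off1 a x y → τ x = τ y := fun x y h => by simp only [τ, ln_congr h]
  have hdata : ∀ β t, lb e i a u.1 β (t + σ β) t * lb e i a u.1 β (t + σ β) t =
      (if τ β = 1 then i else 1) * (if τ β = 1 then i else 1) ∧ lb e i a u.1 β (t + σ β + 1) t = 0 := fun β t => by
    have ee : ∀ s r, lb e i a u.1 (ln a β 0) s r = lb e i a u.1 β s r := fun s r => by
      simp only [lb, ln_congr (off_ln β 0)]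
    simpa only [ee] using hστ (ln a β 0) t
  -- constancy
  obtain ⟨f₁, hf₁⟩ := mj_of_lb e i h2K h2 hM.le hi u.2 (τ := τ) hσ (fun β t => by
    rw [hτ _ _ (off_ln β t)]; exact hdata β t)
  obtain ⟨hσA, hτA⟩ := mj_data hM hS hj hσ hτ (hf₁ ▸ (mem_LR.1 (mem_LC.1 u.2).1).1)
  have hmulA : ∀ l, l ≠ a → Aff (fun y => y l * σ y) ∧ Aff (fun y => y l * τ y) := by
    intro l hl
    let v : L := g' * cz l hl * g'⁻¹
    have hvb : ∀ β, G β v = if β l = 1 then G β u else 1 := fun β => by
      simp only [v, u, map_mul, map_inv, hGcz]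
      split_ifs <;> simp
    have hs' : ∀ x y, Off1 a x y → (fun y => y l * σ y) x = (fun y => y l * σ y) y := fun x y h => by
      simp only [h l hl, hσ x y h]
    have ht' : ∀ x y, Off1 a x y → (fun y => y l * τ y) x = (fun y => y l * τ y) y := fun x y h => by
      simp only [h l hl, hτ x y h]
    obtain ⟨f', hf'⟩ := mj_of_lb e i h2K h2 hM.le hi v.2 (τ := fun y => y l * τ y) hs' (fun β t => by
      simp only [ln_off hl, hτ _ _ (off_ln β t)]
      rcases zm_cases (β l) with hb | hb
      · have : lblk e i a v.1 β = 1 := by rw [← hGv, hvb, if_neg (by simp [hb])]; rfl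
        rw [Matrix.one_fin_two] at this
        obtain ⟨e00, e01, e10, e11⟩ := lb_of_blk e i this
        simp only [hb, zero_mul, add_zero]
        rcases zm_cases t with rfl | rfl <;> simp [e00, e01, e10, e11, h11]
      · have hvu : lblk e i a v.1 β = lblk e i a u.1 β := by rw [← hGv, hvb, if_pos hb, hGv]
        obtain ⟨e00, e01, e10, e11⟩ := lb_of_blk e i (hvu.trans rfl)
        simp only [hb, one_mul]
        have := hdata β t
        rcases zm_cases t with rfl | rfl <;> rcases zm_cases (σ β) with hs | hs <;>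
          simp only [hs, h11, add_zero, zero_add, e00, e01, e10, e11] at this ⊢ <;> exact this)
    exact mj_data hM hS hj hs' ht' (hf' ▸ (mem_LR.1 (mem_LC.1 v.2).1).1)
  have hconst : ∀ s : Pt j → ZMod 2, (∀ x y, Off1 a x y → s x = s y) → Aff s →
      (∀ l, l ≠ a → Aff (fun y => y l * s y)) → ∀ y, s y = s 0 := fun s hinv hs hmul =>
    const_of_dl fun b y => by
      rcases eq_or_ne b a with rfl | hb
      · rw [dl_apply, hinv _ y (fun l hl => by simp [pe_ne hl]), CharTwo.add_self_eq_zero]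
      obtain ⟨l, hl⟩ : ∃ l, l ∉ ({a, b} : Finset (Fin j)) := by
        by_contra hc
        push Not at hc
        have := Finset.card_le_card (show Finset.univ ⊆ ({a, b} : Finset (Fin j)) from fun x _ => hc x)
        rw [Finset.card_univ, Fintype.card_fin] at this
        have := Finset.card_le_two (a := a) (b := b)
        omega
      simp only [Finset.mem_insert, Finset.mem_singleton, not_or] at hl
      exact dl_eq_zero_of_mul (Ne.symm hl.2) hs (by simpa only [mul_comm] using hmul l hl.1) y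
  have hσc := hconst σ hσ hσA fun l hl => (hmulA l hl).1
  have hτc := hconst τ hτ hτA fun l hl => (hmulA l hl).2
  have hψu : ∀ β, (σ 0 = 0 ∧ τ 0 = 0 ∧ ψ β u = Z) ∨ (σ 0 = 1 ∧ τ 0 = 0 ∧ ψ β u = X) ∨
      (σ 0 = 1 ∧ τ 0 = 1 ∧ ψ β u = Z * X) := fun β => by
    have := hcase (ln a β 0)
    have e1 : ψ (ln a β 0) u = ψ β u := congrArg mk (hGcongr (off_ln β 0) u)
    rw [e1] at this
    rw [← hσc β, ← hτc β]
    exact this
  -- move it to the sign
  have hnrs : Nr p (sg' : L).1 := nr_mul p (nr_up p (nr_plus_hadU h2 a)) (nr_cst p (onejU_conj p h2))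
  have hnrr : Nr p (rg : L).1 := by
    show Nr p (mj 1 _ _)
    rw [mj, C6Plus10.mon_zero, pm_one, map_one, one_mul]
    exact nr_ctrl p (aff_ip _) (jq_mem p)
  have hrzx : mk rK * (Z * X) * (mk rK)⁻¹ = X := by
    rw [show mk rK * (Z * X) * (mk rK)⁻¹ = mk rK * Z * (mk rK)⁻¹ * (mk rK * X * (mk rK)⁻¹) by group, hrz, hrx,
      ← mul_assoc, hzz, one_mul]
  obtain ⟨n, hn, hnu⟩ : ∃ n : L, Nr p n.1 ∧ ∀ β, ψ β n * ψ β u * (ψ β n)⁻¹ = Z := by
    rcases hψu 0 with ⟨hs, ht, -⟩ | ⟨hs, ht, -⟩ | ⟨hs, ht, -⟩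
    · refine ⟨1, fun r hr => by simpa using hr, fun β => ?_⟩
      rcases hψu β with ⟨-, -, h⟩ | ⟨h0, -⟩ | ⟨h0, -⟩
      · simp [h]
      · rw [hs] at h0; exact absurd h0 zero_ne_one
      · rw [hs] at h0; exact absurd h0 zero_ne_one
    · refine ⟨sg', hnrs, fun β => ?_⟩
      rcases hψu β with ⟨h0, -⟩ | ⟨-, -, h⟩ | ⟨-, h0, -⟩
      · rw [hs] at h0; exact absurd h0 one_ne_zero
      · rw [h, hψs, hhx]
      · rw [ht] at h0; exact absurd h0 zero_ne_one
    · refine ⟨sg' * rg, nr_mul p hnrs hnrr, fun β => ?_⟩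
      rcases hψu β with ⟨h0, -⟩ | ⟨-, h0, -⟩ | ⟨-, -, h⟩
      · rw [hs] at h0; exact absurd h0 one_ne_zero
      · rw [ht] at h0; exact absurd h0 one_ne_zero
      · rw [h, map_mul, hψs, hψr, show mk hK * mk rK * (Z * X) * (mk hK * mk rK)⁻¹ =
          mk hK * (mk rK * (Z * X) * (mk rK)⁻¹) * (mk hK)⁻¹ by group, hrzx, hhx]
  let g2 : L := n * g'
  let u2 : L := g2 * zg * g2⁻¹
  have hψu2 : ∀ β, ψ β u2 = Z := fun β => by
    have := hnu β
    simp only [u, map_mul, map_inv] at this
    simp only [u2, g2, map_mul, map_inv, _root_.mul_inv_rev]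
    rw [← this]; group
  have hb2 : ∀ β, ∃ c : K, c * c = 1 ∧ lblk e i a u2.1 β = !![c, 0; 0, -c] := fun β => by
    obtain ⟨c, -, hc⟩ := exists_smul_of_mk (hψu2 β).symm
    have hsq' := hsq g2 β
    rw [show g2 * zg * g2⁻¹ = u2 from rfl, hc] at hsq'
    refine ⟨c, ?_, ?_⟩
    · have := congrFun (congrFun hsq' 0) 0
      simpa [zK, GeneralLinearGroup.mkOfDetNeZero, Matrix.mul_apply, Fin.sum_univ_two] using this
    · rw [← hGv, hc]; simp [zK, GeneralLinearGroup.mkOfDetNeZero, Matrix.smul_of, Matrix.smul_cons]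
  have hs0 : ∀ x y, Off1 a x y → (fun _ : Pt j => (0 : ZMod 2)) x = (fun _ : Pt j => (0 : ZMod 2)) y :=
    fun _ _ _ => rfl
  obtain ⟨f, hf⟩ := mj_of_lb e i h2K h2 hM.le hi u2.2 (τ := fun _ => 0) hs0 (fun β t => by
    obtain ⟨c, hc, hb⟩ := hb2 β
    obtain ⟨e00, e01, e10, e11⟩ := lb_of_blk e i hb
    rcases zm_cases t with rfl | rfl <;> simp [e00, e01, e10, e11, hc, h11])
  have hπ0 : shift1 a (fun _ => (0 : ZMod 2)) hs0 = 1 := Equiv.ext fun y => by simp [shift1_apply]
  rw [hπ0] at hf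
  have hfval : ∀ β t, lb e i a u2.1 β t t = sgn K (f (ln a β t)) := fun β t => by
    rw [hf, lb_mj e i (s' := t) rfl]; simp
  have hflip : ∀ β, f (ln a β 1) = f (ln a β 0) + 1 := fun β => by
    obtain ⟨c, -, hb⟩ := hb2 β
    obtain ⟨e00, -, -, e11⟩ := lb_of_blk e i hb
    refine sgn_inj h2K ?_
    rw [← hfval, sgn_add, ← hfval, e00, e11, sgn_one]
    ring
  -- the conjugate of the phase
  let w : L := g2 * rg * g2⁻¹
  have hwb : ∀ β, lblk e i a w.1 β =
      !![if f (ln a β 0) = 1 then i else 1, 0; 0, if f (ln a β 1) = 1 then i else 1] := fun β => by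
    obtain ⟨e00, -, -, e11⟩ := lb_of_blk e i (hb2 β).choose_spec.2
    set c := (hb2 β).choose
    have hGz : (G β g2).val * !![1, 0; 0, -1] = !![c, 0; 0, -c] * (G β g2).val := by
      have h1 : G β g2 * G β zg = G β u2 * G β g2 := by
        simp only [u2, map_mul, map_inv, inv_mul_cancel_right]
      have := congrArg Units.val h1
      rwa [Units.val_mul, Units.val_mul, hGv β zg, bz, hGv β u2, (hb2 β).choose_spec.2] at this
    have hGr : (G β g2).val * !![1, 0; 0, i] =
        !![if f (ln a β 0) = 1 then i else 1, 0; 0, if f (ln a β 1) = 1 then i else 1] * (G β g2).val := by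
      have hr : (!![1, 0; 0, i] : Matrix (Fin 2) (Fin 2) K) =
          ((1 + i) * 2⁻¹) • 1 + ((1 - i) * 2⁻¹) • !![1, 0; 0, -1] := by
        ext r s; fin_cases r <;> fin_cases s <;> simp <;> field_simp <;> ring
      have hl : (!![if f (ln a β 0) = 1 then i else 1, 0; 0, if f (ln a β 1) = 1 then i else 1] :
          Matrix (Fin 2) (Fin 2) K) = ((1 + i) * 2⁻¹) • 1 + ((1 - i) * 2⁻¹) • !![c, 0; 0, -c] := by
        have h00 := hfval β 0
        rw [e00] at h00
        rw [hflip, h00]
        rcases zm_cases (f (ln a β 0)) with h0 | h0 <;> rw [h0] <;>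
          ext r s <;> fin_cases r <;> fin_cases s <;> simp [sgn_one, h11] <;> field_simp <;> ring
      rw [hr, hl]
      simp only [Matrix.mul_add, Matrix.add_mul, mul_smul_comm, smul_mul_assoc, mul_one, one_mul, hGz]
    rw [← hGv]
    simp only [w, map_mul, map_inv, Units.val_mul]
    rw [hGv β rg, br, hGr, Units.mul_inv_cancel_right]
  obtain ⟨f₂, hf₂⟩ := mj_of_lb e i h2K h2 hM.le hi w.2 (τ := f) hs0 (fun β t => by
    obtain ⟨e00, e01, e10, e11⟩ := lb_of_blk e i (hwb β)
    rcases zm_cases t with rfl | rfl <;> simp [e00, e01, e10, e11, h11])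
  rw [hπ0] at hf₂
  have hfA : Aff f := by
    have hwM : mj 1 f₂ f ∈ M := hf₂ ▸ (mem_LR.1 (mem_LC.1 w.2).1).1
    rw [mj_eq (p := p), pm_one, map_one, one_mul] at hwM
    exact (qel_signs hM hS hj hwM).1
  -- straighten
  let h : Pt j → ZMod 2 := fun y => f y + ip (pe a) y
  have hh : ∀ x y, Off1 a x y → h x = h y := by
    have : ∀ y, h y = f (ln a y 0) := fun y => by
      simp only [h, ip_pe]
      conv_lhs => arg 1; rw [← ln_self (a := a) y]
      rcases zm_cases (y a) with hy | hy <;> rw [hy]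
      · rw [add_zero]
      · rw [hflip, add_assoc, h11, add_zero]
    intro x y hxy
    rw [this, this, ln_congr hxy]
  have hπA := affPerm_shift1 hh (hfA.add (aff_ip (pe a)))
  set π := shift1 a h hh with hπdef
  let n2 : L := ⟨mj π (fun _ => 0) (fun _ => 0), mem_LC_mj (by rw [mpm]; exact hM.aff _ hπA)
    fun y l hl => by simp [hπdef, shift1_apply, pe_ne hl]⟩
  have hn2 : Nr p n2.1 := by
    show Nr p (mj π _ _)
    rw [mpm]; exact nr_up p (nr_plus_pm hπA)
  have hcomp : f ∘ π.symm = ip (pe a) := funext fun y => by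
    rw [Function.comp_apply, hπdef, shift1_symm, shift1_apply]
    have h1 := hh (y + h y • pe a) y fun l hl => by simp [pe_ne hl]
    simp only [h, ip_pe, Pi.add_apply, Pi.smul_apply, pe_self, smul_eq_mul, mul_one] at h1 ⊢
    grind
  have key : (n2 * g2).1 * up (sd F (ip (pe a))) * (n2 * g2).1⁻¹ = up (sd F (ip (pe a))) := by
    have e1 : (n2 * g2).1 * up (sd F (ip (pe a))) * (n2 * g2).1⁻¹ = n2.1 * u2.1 * n2.1⁻¹ := by
      simp only [u2, zg, mzero, Subgroup.coe_mul, InvMemClass.coe_inv]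
      group
    rw [e1, hf, mzero]
    show mj π _ _ * _ * (mj π _ _)⁻¹ = _
    rw [mpm, ← map_inv, ← map_mul, ← map_mul, pm_sd, mul_inv_cancel_right, hcomp]
  have hbotmem : (n2 * g2).1 ∈ LR M ∅ := mem_LR.2 ⟨(mem_LR.1 (mem_LC.1 (n2 * g2).2).1).1, fun l _ => by
    rcases eq_or_ne l a with rfl | hl
    · exact mul_inv_eq_iff_eq_mul.1 key
    · exact (mem_LR.1 (mem_LC.1 (n2 * g2).2).1).2 l (by simpa using hl)⟩
  have hfin := nr_mul p (nr_mul p (nr_inv hn) (nr_inv hn2)) (hbot _ hbotmem)
  simpa [g2, g', mul_assoc] using hfin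

end One

/-- The level with one free coordinate and the complex structure. -/
theorem lev_one_complex [Finite F] (h2 : (2 : F) ≠ 0) {p : Par F} {M : Subgroup (GL (Ix j) F)}
    (hM : BaseMinus p M) (hS : SignsMinus M) (hj : 3 ≤ j) (hbot : LevR p M ∅) (a : Fin j) : LevC p M {a} := by
  let P : Polynomial F := Polynomial.X ^ 2 + Polynomial.C 1
  let e : F →+* P.SplittingField := algebraMap F P.SplittingField
  haveI : Finite P.SplittingField := Module.finite_of_finite F
  letI := Fintype.ofFinite P.SplittingField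
  have hdeg : (P.map e).degree ≠ 0 := by
    rw [Polynomial.degree_map, show P.degree = (2 : ℕ) from Polynomial.degree_X_pow_add_C (by norm_num) 1]
    decide
  obtain ⟨r, hr⟩ := (Polynomial.SplittingField.splits P).exists_eval_eq_zero hdeg
  have hr' : r * r = -1 := by
    rw [Polynomial.eval_map] at hr
    simp [P] at hr
    linear_combination hr
  exact One.lev_one_aux e r (fun h0 => h2 (e.injective (by rw [map_ofNat, map_zero, h0]))) h2 hM hS hj hbot hr' a

end Cfsg.Agent.C6Minus10
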