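import Cfsg.Agent.Lib.C6Minus10Complex
import Cfsg.Agent.Lib.C6Minus10Bottom
import Cfsg.Agent.Lib.C6Minus10One

/-!
All levels normalise: the induction on the free coordinates.
-/

set_option autoImplicit false
set_option linter.unusedSectionVars false

namespace Cfsg.Agent.C6Minus10

open Matrix Cfsg.Agent.C6Plus10
open scoped MatrixGroups

variable {F : Type*} [Field F] [Finite F] {j : ℕ} {p : Par F} {M : Subgroup (GL (Ix j) F)}

/-- All levels with free last qubit normalise. -/
theorem levR_all (h2 : (2 : F) ≠ 0) (hM : BaseMinus p M) (hS : SignsMinus M) (hj : 3 ≤ j) (hcr : CentR p M)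
    (hcc : CentC p M) : ∀ n (S : Finset (Fin j)), S.card = n → LevR p M S := by
  have hbot := lev_bottom h2 hM hS hj
  intro n
  induction n with
  | zero => intro S hS'; rwa [Finset.card_eq_zero.1 hS']
  | succ n ih =>
    intro S hS'
    obtain ⟨a, ha⟩ := Finset.card_pos.1 (show 0 < S.card by omega)
    have hlow : LevR p M (S.erase a) := ih _ (by rw [Finset.card_erase_of_mem ha]; omega)
    refine step_R h2 hM hcr (a := ⟨a, ha⟩) hlow ?_
    by_cases h1 : S.card = 1
    · obtain ⟨b, rfl⟩ := Finset.card_eq_one.1 h1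
      exact lev_one_complex h2 hM hS hj hbot b
    · exact step_C h2 hM hcc (by omega) (a := ⟨a, ha⟩) hlow

/-- The whole group normalises. -/
theorem core_of_cent (h2 : (2 : F) ≠ 0) (hM : BaseMinus p M) (hS : SignsMinus M) (hj : 3 ≤ j) (hcr : CentR p M)
    (hcc : CentC p M) : ∀ g ∈ M, Nr p g := fun g hg =>
  levR_all h2 hM hS hj hcr hcc _ Finset.univ rfl g (by rwa [LR_univ])

end Cfsg.Agent.C6Minus10
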