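import Cfsg.Agent.Lib.C6Minus10Level
import Cfsg.Agent.Lib.C6Plus10Ctl

/-!
The two-by-two blocks of the elements of a level with one free coordinate and the complex structure of the
last qubit.
-/

set_option autoImplicit false
set_option linter.unusedSectionVars false

namespace Cfsg.Agent.C6Minus10.One

open Matrix Cfsg.Agent.C6Plus10
open scoped MatrixGroups

variable {F : Type*} [Field F] {j : ℕ} {a : Fin j}

/-- The point with one given coordinate. -/
def ln (a : Fin j) (β : Pt j) (s : ZMod 2) : Pt j := fun l => if l = a then s else β l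

/-- Equality off one coordinate. -/
def Off1 (a : Fin j) (x y : Pt j) : Prop := ∀ l, l ≠ a → x l = y l

theorem ln_a (β : Pt j) (s : ZMod 2) : ln a β s a = s := if_pos rfl

theorem ln_off {l : Fin j} (h : l ≠ a) (β : Pt j) (s : ZMod 2) : ln a β s l = β l := if_neg h

theorem off_ln (β : Pt j) (s : ZMod 2) : Off1 a (ln a β s) β := fun _ h => ln_off h β s

theorem off_ln_ln (β : Pt j) (s s' : ZMod 2) : Off1 a (ln a β s) (ln a β s') := fun l h => by
  rw [ln_off h, ln_off h]

theorem ln_congr {β β' : Pt j} (h : Off1 a β β') (s : ZMod 2) : ln a β s = ln a β' s := by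
  funext l
  by_cases h1 : l = a
  · simp [ln, h1]
  rw [ln_off h1, ln_off h1, h l h1]

theorem ln_self (y : Pt j) : ln a y (y a) = y := by
  funext l
  by_cases h1 : l = a
  · subst h1; exact ln_a _ _
  exact ln_off h1 _ _

theorem ln_eq_iff {β : Pt j} {s s' : ZMod 2} : ln a β s = ln a β s' ↔ s = s' :=
  ⟨fun h => by simpa [ln_a] using congrFun h a, fun h => by rw [h]⟩

theorem ln_add (β : Pt j) (s d : ZMod 2) : ln a β s + d • pe a = ln a β (s + d) := by
  funext l
  by_cases h1 : l = a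
  · subst h1; simp [ln_a]
  simp [ln_off h1, pe_ne h1]

/-- A sum supported in one line. -/
theorem sum_line {R : Type*} [AddCommMonoid R] (f : Pt j → R) (β : Pt j) (h : ∀ z, ¬ Off1 a z β → f z = 0) :
    ∑ z, f z = f (ln a β 0) + f (ln a β 1) := by
  rw [← Fintype.sum_of_injective (fun s : ZMod 2 => ln a β s) (fun _ _ hs => ln_eq_iff.1 hs)
    (fun s => f (ln a β s)) f (fun z hz => h z fun hoff => hz ⟨z a, by
      show ln a β (z a) = z
      rw [← ln_congr hoff, ln_self]⟩) (fun _ => rfl), show (Finset.univ : Finset (ZMod 2)) = {0, 1} from rfl]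
  simp

/-! ### The level -/

variable {M : Subgroup (GL (Ix j) F)}

theorem LC_zero (h2 : (2 : F) ≠ 0) {g : GL (Ix j) F} (hg : g ∈ LC M {a}) {x y : Pt j} (h : ¬ Off1 a x y)
    (u v : Fin 2) : (g : Matrix (Ix j) (Ix j) F) (x, u) (y, v) = 0 := by
  simp only [Off1, not_forall] at h
  obtain ⟨d, hda, hd⟩ := h
  have e := (mem_LR.1 (mem_LC.1 hg).1).2 d (by simpa using hda)
  rw [← blk_sg] at e
  have e' := congrArg (fun w : GL (Ix j) F => (w : Matrix (Ix j) (Ix j) F) (x, u) (y, v)) e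
  simp only [Units.val_mul, blk_val, Matrix.mul_apply, blkM_apply, Fintype.sum_prod_type] at e'
  rw [Finset.sum_eq_single y (fun z _ hz => by simp [hz]) (by simp),
    Finset.sum_eq_single x (fun z _ hz => by simp [Ne.symm hz]) (by simp)] at e'
  rcases zm_cases (x d) with hx | hx <;> rcases zm_cases (y d) with hy | hy
  · exact absurd (hx.trans hy.symm) hd
  · simp [ip_pe, hx, hy, sg_one, Fin.sum_univ_two, Matrix.one_apply] at e'
    fin_cases u <;> fin_cases v <;> simp at e' ⊢ <;>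
      exact (mul_eq_zero.1 (show (2 : F) * _ = 0 by linear_combination -e')).resolve_left h2
  · simp [ip_pe, hx, hy, sg_one, Fin.sum_univ_two, Matrix.one_apply] at e'
    fin_cases u <;> fin_cases v <;> simp at e' ⊢ <;>
      exact (mul_eq_zero.1 (show (2 : F) * _ = 0 by linear_combination e')).resolve_left h2
  · exact absurd (hx.trans hy.symm) hd

theorem LC_J {g : GL (Ix j) F} (hg : g ∈ LC M {a}) (x y : Pt j) :
    (g : Matrix (Ix j) (Ix j) F) (x, 1) (y, 0) = -(g : Matrix (Ix j) (Ix j) F) (x, 0) (y, 1) ∧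
      (g : Matrix (Ix j) (Ix j) F) (x, 1) (y, 1) = (g : Matrix (Ix j) (Ix j) F) (x, 0) (y, 0) := by
  have e := (mem_LC.1 hg).2
  have ent : ∀ u v, ((g * cst jq : GL (Ix j) F) : Matrix (Ix j) (Ix j) F) (x, u) (y, v) =
      ((cst jq * g : GL (Ix j) F) : Matrix (Ix j) (Ix j) F) (x, u) (y, v) := fun u v => by rw [e]
  simp only [Units.val_mul, cst_val, Matrix.mul_apply, blkM_apply, Fintype.sum_prod_type] at ent
  have h00 := ent 0 0
  have h01 := ent 0 1
  rw [Finset.sum_eq_single y (fun z _ hz => by simp [hz]) (by simp),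
    Finset.sum_eq_single x (fun z _ hz => by simp [Ne.symm hz]) (by simp)] at h00 h01
  simp [jq, Fin.sum_univ_two] at h00 h01
  exact ⟨h00.symm, h01.symm⟩

/-- Isometries commuting with the complex structure are orthogonal. -/
theorem inv_apply {g : GL (Ix j) F} (hle : M ≤ spM j F) (hg : g ∈ LC M {a}) (u v : Ix j) :
    ((g⁻¹ : GL (Ix j) F) : Matrix (Ix j) (Ix j) F) u v = (g : Matrix (Ix j) (Ix j) F) v u := by
  have hdot : ∀ x y : Ix j → F, x ⬝ᵥ y =
      -sform x (((cst jq : GL (Ix j) F) : Matrix (Ix j) (Ix j) F) *ᵥ y) := fun x y => by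
    simp only [sform, cst_val, blkM_mulVec, dotProduct, Fintype.sum_prod_type, Fin.sum_univ_two,
      ← Finset.sum_neg_distrib]
    refine Finset.sum_congr rfl fun z _ => ?_
    simp [jq, Matrix.mulVec, dotProduct, Fin.sum_univ_two]
    ring
  have hpres : ∀ x y : Ix j → F,
      ((g : Matrix (Ix j) (Ix j) F) *ᵥ x) ⬝ᵥ ((g : Matrix (Ix j) (Ix j) F) *ᵥ y) = x ⬝ᵥ y := fun x y => by
    rw [hdot, hdot, Matrix.mulVec_mulVec, ← Units.val_mul, ← (mem_LC.1 hg).2, Units.val_mul,
      ← Matrix.mulVec_mulVec, mem_spM.1 (hle (mem_LR.1 (mem_LC.1 hg).1).1)]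
  have h1 : (g : Matrix (Ix j) (Ix j) F)ᵀ * (g : Matrix (Ix j) (Ix j) F) = 1 := by
    ext r c
    have := hpres (Pi.single r 1) (Pi.single c 1)
    rw [dotProduct_single, mul_one, dotProduct, Pi.single_apply] at this
    simp [Matrix.mulVec_single] at this
    simp only [Matrix.mul_apply, Matrix.transpose_apply, Matrix.one_apply]
    rw [this]
    simp [eq_comm]
  rw [Units.inv_eq_of_mul_eq_one_left h1]
  rfl

/-! ### The blocks -/

variable {K : Type*} [Field K] (e : F →+* K) (i : K)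

/-- An entry of a block. -/
def lb (a : Fin j) (g : GL (Ix j) F) (β : Pt j) (s t : ZMod 2) : K :=
  e ((g : Matrix (Ix j) (Ix j) F) (ln a β s, 0) (ln a β t, 0)) +
    i * e ((g : Matrix (Ix j) (Ix j) F) (ln a β s, 0) (ln a β t, 1))

/-- A block. -/
def lblk (a : Fin j) (g : GL (Ix j) F) (β : Pt j) : Matrix (Fin 2) (Fin 2) K :=
  !![lb e i a g β 0 0, lb e i a g β 0 1; lb e i a g β 1 0, lb e i a g β 1 1]

theorem lblk_congr (g : GL (Ix j) F) {β β' : Pt j} (h : Off1 a β β') : lblk e i a g β = lblk e i a g β' := by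
  simp only [lblk, lb, ln_congr h]

theorem lb_one (β : Pt j) (s t : ZMod 2) : lb e i a (1 : GL (Ix j) F) β s t = if s = t then 1 else 0 := by
  simp only [lb, Units.val_one, Matrix.one_apply, Prod.mk.injEq, ln_eq_iff]
  by_cases h : s = t <;> simp [h]

theorem lb_mul (h2 : (2 : F) ≠ 0) (hi : i * i = -1) {g h : GL (Ix j) F} (hg : g ∈ LC M {a}) (hh : h ∈ LC M {a})
    (β : Pt j) (s t : ZMod 2) :
    lb e i a (g * h) β s t = lb e i a g β s 0 * lb e i a h β 0 t + lb e i a g β s 1 * lb e i a h β 1 t := by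
  have hsum : ∀ v, ((g * h : GL (Ix j) F) : Matrix (Ix j) (Ix j) F) (ln a β s, 0) (ln a β t, v) =
      (g : Matrix (Ix j) (Ix j) F) (ln a β s, 0) (ln a β 0, 0) * (h : Matrix (Ix j) (Ix j) F) (ln a β 0, 0) (ln a β t, v) +
        (g : Matrix (Ix j) (Ix j) F) (ln a β s, 0) (ln a β 0, 1) * (h : Matrix (Ix j) (Ix j) F) (ln a β 0, 1) (ln a β t, v) +
      ((g : Matrix (Ix j) (Ix j) F) (ln a β s, 0) (ln a β 1, 0) * (h : Matrix (Ix j) (Ix j) F) (ln a β 1, 0) (ln a β t, v) +
        (g : Matrix (Ix j) (Ix j) F) (ln a β s, 0) (ln a β 1, 1) * (h : Matrix (Ix j) (Ix j) F) (ln a β 1, 1) (ln a β t, v)) := fun v => by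
    rw [Units.val_mul, Matrix.mul_apply, Fintype.sum_prod_type]
    simp only [Fin.sum_univ_two]
    refine sum_line _ β fun z hz => ?_
    have hz' : ¬ Off1 a z (ln a β t) := fun ho => hz fun l h1 => by rw [ho l h1, ln_off h1]
    rw [LC_zero h2 hh hz', LC_zero h2 hh hz', mul_zero, mul_zero, add_zero]
  simp only [lb, hsum, (LC_J hh (ln a β 0) (ln a β t)).1, (LC_J hh (ln a β 0) (ln a β t)).2,
    (LC_J hh (ln a β 1) (ln a β t)).1, (LC_J hh (ln a β 1) (ln a β t)).2, map_add, map_mul, map_neg]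
  linear_combination -(e ((g : Matrix (Ix j) (Ix j) F) (ln a β s, 0) (ln a β 0, 1)) *
      e ((h : Matrix (Ix j) (Ix j) F) (ln a β 0, 0) (ln a β t, 1)) +
    e ((g : Matrix (Ix j) (Ix j) F) (ln a β s, 0) (ln a β 1, 1)) *
      e ((h : Matrix (Ix j) (Ix j) F) (ln a β 1, 0) (ln a β t, 1))) * hi

/-- The block as a homomorphism into the general linear group. -/
def lblkG (h2 : (2 : F) ≠ 0) (hi : i * i = -1) (β : Pt j) : ↥(LC M {a}) →* GL (Fin 2) K :=
  MonoidHom.toHomUnits
    { toFun := fun g => lblk e i a g.1 β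
      map_one' := by
        rw [OneMemClass.coe_one, lblk]
        simp [lb_one e i, Matrix.one_fin_two]
      map_mul' := fun g h => by
        simp only [lblk, Subgroup.coe_mul, lb_mul e i h2 hi g.2 h.2, Matrix.mul_fin_two] }

theorem lblkG_val (h2 : (2 : F) ≠ 0) (hi : i * i = -1) (β : Pt j) (g : ↥(LC M {a})) :
    ((lblkG e i h2 hi β g : GL (Fin 2) K) : Matrix (Fin 2) (Fin 2) K) = lblk e i a g.1 β := rfl

theorem lb_of_blk {g : GL (Ix j) F} {β : Pt j} {A B C D : K} (h : lblk e i a g β = !![A, B; C, D]) :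
    lb e i a g β 0 0 = A ∧ lb e i a g β 0 1 = B ∧ lb e i a g β 1 0 = C ∧ lb e i a g β 1 1 = D := by
  simpa [lblk, and_assoc] using h

/-- The column of an element with a monomial block. -/
theorem entries_of_lb (h2 : (2 : K) ≠ 0) (h2F : (2 : F) ≠ 0) (hle : M ≤ spM j F) (hi : i * i = -1)
    {g : GL (Ix j) F} (hg : g ∈ LC M {a}) (β : Pt j) (σ : ZMod 2) {v : ZMod 2 → K}
    (hv : ∀ t, lb e i a g β (t + σ) t = v t) (hv' : ∀ t, lb e i a g β (t + σ + 1) t = 0)
    (hv0 : ∀ t, v t ≠ 0) (t : ZMod 2) :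
    (2 * e ((g : Matrix (Ix j) (Ix j) F) (ln a β (t + σ), 0) (ln a β t, 0)) = v t + (v t)⁻¹ ∧
      2 * i * e ((g : Matrix (Ix j) (Ix j) F) (ln a β (t + σ), 0) (ln a β t, 1)) = v t - (v t)⁻¹) ∧
    (g : Matrix (Ix j) (Ix j) F) (ln a β (t + σ + 1), 0) (ln a β t, 0) = 0 ∧
      (g : Matrix (Ix j) (Ix j) F) (ln a β (t + σ + 1), 0) (ln a β t, 1) = 0 := by
  have hneg : ∀ r u, lb e i a g⁻¹ β r u =
      e ((g : Matrix (Ix j) (Ix j) F) (ln a β u, 0) (ln a β r, 0)) -
        i * e ((g : Matrix (Ix j) (Ix j) F) (ln a β u, 0) (ln a β r, 1)) := fun r u => by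
    rw [lb, inv_apply hle hg, inv_apply hle hg, (LC_J hg (ln a β u) (ln a β r)).1, map_neg]
    ring
  have hone : ∀ r u, lb e i a g⁻¹ β r 0 * lb e i a g β 0 u + lb e i a g⁻¹ β r 1 * lb e i a g β 1 u =
      if r = u then 1 else 0 := fun r u => by
    rw [← lb_mul e i h2F hi ((LC M {a}).inv_mem hg) hg, inv_mul_cancel, lb_one e i]
  have hsplit : ∀ r u, lb e i a g⁻¹ β r (u + σ) * v u = if r = u then 1 else 0 := fun r u => by
    have h1 := hone r u
    have h3 := hv u
    have h4 := hv' u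
    rcases zm_cases σ with rfl | rfl <;> rcases zm_cases u with rfl | rfl <;>
      simp only [add_zero, zero_add, show (1 : ZMod 2) + 1 = 0 by decide] at h1 h3 h4 ⊢ <;>
      rw [h3, h4] at h1 <;> simpa using h1
  have h1 : lb e i a g⁻¹ β t (t + σ) = (v t)⁻¹ :=
    eq_inv_of_mul_eq_one_left (by simpa using hsplit t t)
  have h3 : lb e i a g⁻¹ β t (t + σ + 1) = 0 := by
    have h := hsplit t (t + 1)
    rw [if_neg (by simp), show t + 1 + σ = t + σ + 1 by ring] at h
    exact (mul_eq_zero.1 h).resolve_right (hv0 _)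
  rw [hneg] at h1 h3
  have h4 := hv t
  have h5 := hv' t
  rw [lb] at h4 h5
  have hi0 : i ≠ 0 := fun e0 => by rw [e0, zero_mul] at hi; exact one_ne_zero (neg_eq_zero.1 hi.symm)
  refine ⟨⟨by linear_combination h4 + h1, by linear_combination h4 - h1⟩, e.injective ?_, e.injective ?_⟩
  · rw [map_zero]
    exact (mul_eq_zero.1 (show (2 : K) * _ = 0 by linear_combination h5 + h3)).resolve_left h2
  · rw [map_zero]
    exact (mul_eq_zero.1 (show (2 * i) * _ = 0 by linear_combination h5 - h3)).resolve_left (mul_ne_zero h2 hi0)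

/-- A signed permutation followed by powers of the complex structure. -/
noncomputable def mj (π : Equiv.Perm (Pt j)) (f τ : Pt j → ZMod 2) : GL (Ix j) F :=
  up (mon F π f) * blk fun x => if τ x = 0 then 1 else jq

theorem mj_apply (π : Equiv.Perm (Pt j)) (f τ : Pt j → ZMod 2) (x y : Pt j) (u v : Fin 2) :
    ((mj π f τ : GL (Ix j) F) : Matrix (Ix j) (Ix j) F) (x, u) (y, v) =
      if x = π y then sgn F (f y) * ((if τ y = 0 then 1 else jq : GL (Fin 2) F) : Matrix (Fin 2) (Fin 2) F) u v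
      else 0 := by
  rw [mj, Units.val_mul, up_val, blk_val, Matrix.mul_apply, Fintype.sum_prod_type,
    Finset.sum_eq_single y (fun z _ hz => by simp [blkM_apply, hz]) (by simp)]
  simp only [upM_apply, blkM_apply, mon_apply, Fin.sum_univ_two, if_true]
  fin_cases u <;> fin_cases v <;> by_cases h : x = π y <;> simp [h]

/-- The shift of one coordinate by a function of the others. -/
def shift1 (a : Fin j) (σ : Pt j → ZMod 2) (hσ : ∀ x y, Off1 a x y → σ x = σ y) : Equiv.Perm (Pt j) :=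
  Function.Involutive.toPerm (fun y => y + σ y • pe a) fun y => by
    have h : Off1 a (y + σ y • pe a) y := fun l h => by simp [pe_ne h]
    dsimp only
    rw [hσ _ _ h, pt_add_cancel]

theorem shift1_apply {σ : Pt j → ZMod 2} (hσ : ∀ x y, Off1 a x y → σ x = σ y) (y : Pt j) :
    shift1 a σ hσ y = y + σ y • pe a := rfl

theorem shift1_symm {σ : Pt j → ZMod 2} (hσ : ∀ x y, Off1 a x y → σ x = σ y) :
    (shift1 a σ hσ).symm = shift1 a σ hσ := Function.Involutive.toPerm_symm _

theorem map_sgn' (c : ZMod 2) : e (sgn F c) = sgn K c := by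
  rcases zm_cases c with rfl | rfl <;> simp [sgn_one]

/-- Monomial blocks with fourth roots of unity as entries: a signed permutation and powers of the structure. -/
theorem mj_of_lb (h2 : (2 : K) ≠ 0) (h2F : (2 : F) ≠ 0) (hle : M ≤ spM j F) (hi : i * i = -1) {g : GL (Ix j) F}
    (hg : g ∈ LC M {a}) {σ τ : Pt j → ZMod 2} (hσ : ∀ x y, Off1 a x y → σ x = σ y)
    (h : ∀ β t, lb e i a g β (t + σ β) t * lb e i a g β (t + σ β) t =
        (if τ (ln a β t) = 1 then i else 1) * (if τ (ln a β t) = 1 then i else 1) ∧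
      lb e i a g β (t + σ β + 1) t = 0) :
    ∃ f, g = mj (shift1 a σ hσ) f τ := by
  have hi0 : i ≠ 0 := fun e0 => by rw [e0, zero_mul] at hi; exact one_ne_zero (neg_eq_zero.1 hi.symm)
  have hroot : ∀ β t, ∃ ε : ZMod 2, lb e i a g β (t + σ β) t = (if τ (ln a β t) = 1 then i else 1) * sgn K ε :=
    fun β t => by
      rcases mul_self_eq_mul_self_iff.1 (h β t).1 with h | h
      · exact ⟨0, by simp [h]⟩
      · exact ⟨1, by simp [h, sgn_one]⟩
  choose ε hε using hroot
  have col : ∀ β t,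
      ((g : Matrix (Ix j) (Ix j) F) (ln a β (t + σ β), 0) (ln a β t, 0) =
          (if τ (ln a β t) = 0 then sgn F (ε β t) else 0)) ∧
      ((g : Matrix (Ix j) (Ix j) F) (ln a β (t + σ β), 0) (ln a β t, 1) =
          (if τ (ln a β t) = 0 then 0 else sgn F (ε β t))) ∧
      (g : Matrix (Ix j) (Ix j) F) (ln a β (t + σ β + 1), 0) (ln a β t, 0) = 0 ∧
      (g : Matrix (Ix j) (Ix j) F) (ln a β (t + σ β + 1), 0) (ln a β t, 1) = 0 := by
    intro β t
    obtain ⟨⟨eP, eQ⟩, z0, z1⟩ := entries_of_lb e i h2 h2F hle hi hg β (σ β)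
      (v := fun t => (if τ (ln a β t) = 1 then i else 1) * sgn K (ε β t)) (hε β) (fun t => (h β t).2)
      (fun t => mul_ne_zero (by split_ifs <;> simp [hi0]) (sgn_ne_zero _)) t
    have hsi : (sgn K (ε β t))⁻¹ = sgn K (ε β t) := inv_eq_of_mul_eq_one_right (sgn_mul_self _)
    have hii : i⁻¹ = -i := inv_eq_of_mul_eq_one_right (by rw [mul_neg, hi, neg_neg])
    refine ⟨?_, ?_, z0, z1⟩ <;> rcases zm_cases (τ (ln a β t)) with hτ | hτ
    · rw [hτ, if_neg (by decide), one_mul, hsi] at eP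
      rw [hτ, if_pos rfl]
      exact e.injective (mul_left_cancel₀ h2 (by rw [map_sgn']; linear_combination eP))
    · rw [hτ, if_pos rfl, mul_inv, hsi, hii] at eP
      rw [hτ, if_neg (by decide)]
      exact e.injective (by
        rw [map_zero]
        exact (mul_eq_zero.1 (show (2 : K) * _ = 0 by linear_combination eP)).resolve_left h2)
    · rw [hτ, if_neg (by decide), one_mul, hsi] at eQ
      rw [hτ, if_pos rfl]
      exact e.injective (by
        rw [map_zero]
        exact (mul_eq_zero.1 (show (2 * i) * _ = 0 by linear_combination eQ)).resolve_left (mul_ne_zero h2 hi0))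
    · rw [hτ, if_pos rfl, mul_inv, hsi, hii] at eQ
      rw [hτ, if_neg (by decide)]
      exact e.injective (mul_left_cancel₀ (mul_ne_zero h2 hi0) (by rw [map_sgn']; linear_combination eQ))
  refine ⟨fun y => ε y (y a), Units.ext (Matrix.ext fun ⟨x, u⟩ ⟨y, v⟩ => ?_)⟩
  rw [mj_apply, shift1_apply]
  by_cases hoff : Off1 a x y
  · obtain ⟨s, rfl⟩ : ∃ s, x = ln a y s := ⟨x a, by rw [← ln_congr hoff, ln_self]⟩
    have hy : y + σ y • pe a = ln a y (y a + σ y) := by
      conv_lhs => arg 1; rw [← ln_self (a := a) y]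
      rw [ln_add]
    rw [show (g : Matrix (Ix j) (Ix j) F) (ln a y s, u) (y, v) =
      (g : Matrix (Ix j) (Ix j) F) (ln a y s, u) (ln a y (y a), v) by rw [ln_self]]
    simp only [hy, ln_eq_iff]
    obtain ⟨c0, c1, z0, z1⟩ := col y (y a)
    rw [ln_self (a := a) y] at c0 c1 z0 z1
    have hJ := LC_J hg (ln a y s) y
    rw [ln_self (a := a) y]
    by_cases hs : s = y a + σ y
    · subst hs
      rcases zm_cases (τ y) with hτ | hτ <;> fin_cases u <;> fin_cases v <;>
        simp [hJ.1, hJ.2, c0, c1, hτ, jq]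
    · obtain rfl : s = y a + σ y + 1 := (show ∀ a b : ZMod 2, a ≠ b → a = b + 1 by decide) s _ hs
      fin_cases u <;> fin_cases v <;> simp [hJ.1, hJ.2, z0, z1]
  · rw [LC_zero h2F hg hoff, if_neg]
    intro e'
    exact hoff fun l h1 => by simp [e', pe_ne h1]

end Cfsg.Agent.C6Minus10.One
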