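import Cfsg.Agent.Lib.C6Minus10Sys
import Cfsg.Agent.Lib.C6Plus10Fus

/-!
The level with free last qubit normalises when the smaller one and the level centralising the complex
structure do.
-/

set_option autoImplicit false
set_option linter.unusedSectionVars false

namespace Cfsg.Agent.C6Minus10

open Matrix Module Cfsg.Agent.C6Plus10
open scoped MatrixGroups

variable {F : Type*} [Field F] {j : ℕ} {p : Par F} {M : Subgroup (GL (Ix j) F)} {S : Finset (Fin j)}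

/-- The normaliser in a quotient of a level. -/
def Nqg [Finite F] (p : Par F) (L C : Subgroup (GL (Ix j) F)) : Subgroup (Qg L C) :=
  ((NrGm p j).subgroupOf L).map (QuotientGroup.mk' (CzOf L C))

theorem mem_Nqg [Finite F] {L C : Subgroup (GL (Ix j) F)} (hc : ∀ g ∈ L, ∀ c ∈ C, g * c = c * g)
    (hC : ∀ c ∈ C, Nr p c) {x : ↥L} : (QuotientGroup.mk x : Qg L C) ∈ Nqg p L C ↔ Nr p (x : GL (Ix j) F) := by
  constructor
  · rintro ⟨y, hy, e⟩
    have h := (mk_iff hc).1 e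
    have h1 := nr_mul p (Nr.inv' (hC _ h)) (Subgroup.mem_subgroupOf.1 hy : Nr p (y : GL (Ix j) F))
    rwa [_root_.mul_inv_rev, inv_inv, inv_mul_cancel_right] at h1
  · exact fun h => ⟨x, Subgroup.mem_subgroupOf.2 h, rfl⟩

theorem el_support (h2 : (2 : F) ≠ 0) {a b : Pt j} {c d e : ZMod 2} (h : el a b (qel p c d e) ∈ LR M S) :
    ∀ i, i ∉ S → a i = 0 := by
  intro i hi
  have h1 := (mem_LR.1 h).2 i hi
  rw [up_pe, el_mul, el_mul, ip_zero_right, sg_zero, one_mul, mul_one, mul_one, ip_pe] at h1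
  obtain ⟨-, -, h3⟩ := el_inj h2 h1
  rw [sg_qel] at h3
  have h4 := (qel_inj h2 h3).1
  exact (add_eq_right (a := a i) (b := c)).1 h4.symm

theorem split_vec {a b : Pt j} (h : ∀ i, i ∉ S → a i = 0) :
    ∃ (v : Vec S) (z : Pt j), (∀ i ∈ S, z i = 0) ∧ a = ex S v.1 ∧ b = ex S v.2 + z := by
  refine ⟨(fun i => a i, fun i => b i), b + ex S (fun i => b i), fun i hi => ?_, funext fun i => ?_, ?_⟩
  · rw [Pi.add_apply, ex_mem _ hi, CharTwo.add_self_eq_zero]
  · by_cases hi : i ∈ S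
    · rw [ex_mem _ hi]
    · rw [ex_not_mem _ hi, h i hi]
  · rw [add_comm b, ← add_assoc, pt_add_self, zero_add]

theorem CR_nr (c : GL (Ix j) F) (hc : c ∈ CRG F S) : Nr p c := nr_of_mem (CR_le p hc)

theorem commR (g : GL (Ix j) F) (hg : g ∈ LR M S) (c : GL (Ix j) F) (hc : c ∈ CRG F S) : g * c = c * g :=
  comm_CR hg hc

/-- The level with free last qubit modulo its centre. -/
abbrev GR (M : Subgroup (GL (Ix j) F)) (S : Finset (Fin j)) : Type _ := Qg (LR M S) (CRG F S)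

/-- A free element modulo the centre. -/
noncomputable def ER (hM : BaseMinus p M) (v : Vm S) : GR M S := QuotientGroup.mk ⟨EmR p v, EmR_mem hM v⟩

/-- What is used of elements carrying all free elements into the centraliser of the free elements. -/
def CentR (p : Par F) (M : Subgroup (GL (Ix j) F)) : Prop :=
  ∀ S : Finset (Fin j), 1 ≤ S.card → ∀ g ∈ LR M S,
    (∀ v : Vm S, Nr p (g * EmR p v * g⁻¹) ∧
      ∀ w : Vm S, g * EmR p v * g⁻¹ * EmR p w * (g * EmR p v * g⁻¹)⁻¹ * (EmR p w)⁻¹ ∈ CR F S) →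
    (∀ w : Vm S, w ≠ 0 → ∀ x ∈ LR M S, x * EmR p w * x⁻¹ * (EmR p w)⁻¹ ∈ CR F S → Nr p x) →
    ∃ v w : Vm S, v ≠ 0 ∧ g * EmR p v * g⁻¹ * (EmR p w)⁻¹ ∈ CR F S

/-- The pairing of the free indices. -/
noncomputable def bqm (S : Finset (Fin j)) : LinearMap.BilinForm (ZMod 2) (Vm S) :=
  LinearMap.mk₂ (ZMod 2) (fun v w => bq S v.1 w.1 + (v.2.1 * w.2.2 + v.2.2 * w.2.1))
    (fun a b c => by simp only [Prod.fst_add, Prod.snd_add, map_add, LinearMap.add_apply]; ring)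
    (fun r a c => by
      simp only [Prod.smul_fst, Prod.smul_snd, map_smul, LinearMap.smul_apply, smul_eq_mul]; ring)
    (fun a b c => by simp only [Prod.fst_add, Prod.snd_add, map_add]; ring)
    (fun r a c => by simp only [Prod.smul_fst, Prod.smul_snd, map_smul, smul_eq_mul]; ring)

theorem bqm_apply (v w : Vm S) : bqm S v w = bq S v.1 w.1 + (v.2.1 * w.2.2 + v.2.2 * w.2.1) := rfl

theorem qvm_add (v w : Vm S) : qvm (v + w) = qvm v + qvm w + bqm S v w := by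
  rw [qvm, qvm, qvm, bqm_apply, bq_apply, C6Plus10.qv, C6Plus10.qv, C6Plus10.qv]
  simp only [Prod.fst_add, Prod.snd_add, add_dotProduct, dotProduct_add]
  rw [dotProduct_comm v.1.1 w.1.2, dotProduct_comm w.1.1 v.1.2]
  ring

theorem bqm_nd (v : Vm S) (h : ∀ w, bqm S v w = 0) : v = 0 := by
  refine Prod.ext (Prod.ext (funext fun i => ?_) (funext fun i => ?_)) (Prod.ext ?_ ?_)
  · simpa [bqm_apply, bq_apply] using h ((0, Pi.single i 1), 0)
  · simpa [bqm_apply, bq_apply] using h ((Pi.single i 1, 0), 0)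
  · simpa [bqm_apply, bq_apply] using h (0, (0, 1))
  · simpa [bqm_apply, bq_apply] using h (0, (1, 0))

section Level

variable (hM : BaseMinus p M)
include hM

theorem ER_iff {g : ↥(LR M S)} {v w : Vm S} :
    (QuotientGroup.mk g : GR M S) * ER hM v * (QuotientGroup.mk g)⁻¹ = ER hM w ↔
      ∃ z, (∀ i ∈ S, z i = 0) ∧
        CPm p (g : GL (Ix j) F) (ex S v.1.1) (ex S v.1.2) v.2 (ex S w.1.1) (ex S w.1.2 + z) w.2 := by
  rw [ER, ER, ← QuotientGroup.mk_inv, ← QuotientGroup.mk_mul, ← QuotientGroup.mk_mul, mk_iff commR, Subgroup.coe_mul,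
    Subgroup.coe_mul, Subgroup.coe_inv]
  show _ * EmR p v * _ * (EmR p w)⁻¹ ∈ CR F S ↔ _
  constructor
  · rintro ⟨c, z, hz, h⟩
    refine ⟨z, hz, c, ?_⟩
    rw [mul_inv_eq_iff_eq_mul] at h
    rw [show (g : GL (Ix j) F) * el (ex S v.1.1) (ex S v.1.2) (qb p v.2) * (g : GL (Ix j) F)⁻¹ = _ from h, EmR,
      el_split_R c _ (ip_off hz _)]
  · rintro ⟨z, hz, c, h⟩
    refine ⟨c, z, hz, ?_⟩
    rw [show (g : GL (Ix j) F) * EmR p v * (g : GL (Ix j) F)⁻¹ = _ from h, el_split_R c _ (ip_off hz _), EmR,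
      mul_inv_cancel_right]

theorem ER_add (v w : Vm S) : ER hM (v + w) = ER hM v * ER hM w := by
  symm
  rw [ER, ER, ER, ← QuotientGroup.mk_mul, mk_iff commR, Subgroup.coe_mul]
  refine ⟨ip (ex S v.1.2) (ex S w.1.1) + (v.2.2 * w.2.1 + v.2.1 * w.2.1 + v.2.2 * w.2.2), 0, fun _ _ => rfl, ?_⟩
  rw [mul_inv_eq_iff_eq_mul]
  show EmR p v * EmR p w = _ * EmR p (v + w)
  rw [EmR, EmR, EmR, el_mul, mul_assoc, qb_mul, ← mul_assoc, ← sg_add, ← el_split_R _ _ (ip_zero_left _), add_zero]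
  simp only [Prod.fst_add, Prod.snd_add, map_add]

theorem qvm_of_rel (h2 : (2 : F) ≠ 0) {g : ↥(LR M S)} {v w : Vm S}
    (h : (QuotientGroup.mk g : GR M S) * ER hM v * (QuotientGroup.mk g)⁻¹ = ER hM w) : qvm w = qvm v := by
  obtain ⟨z, hz, c, hc⟩ := (ER_iff hM).1 h
  have e : (g : GL (Ix j) F) * (el (ex S v.1.1) (ex S v.1.2) (qb p v.2) * el (ex S v.1.1) (ex S v.1.2) (qb p v.2)) *
      (g : GL (Ix j) F)⁻¹ = el (ex S w.1.1) (ex S w.1.2 + z) (sg c * qb p w.2) *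
        el (ex S w.1.1) (ex S w.1.2 + z) (sg c * qb p w.2) := by rw [← hc]; group
  rw [el_square, ← cst_sg_comm, mul_inv_cancel_right, el_sg_mul, mul_assoc (cst (sg c : GL (Fin 2) F)),
    ← mul_assoc (el _ _ (qb p w.2)), ← cst_sg_comm c (el _ _ (qb p w.2)), mul_assoc (cst (sg c : GL (Fin 2) F)),
    ← mul_assoc, el_square, ← map_mul cst, ← sg_add, CharTwo.add_self_eq_zero, sg_zero, map_one, one_mul] at e
  have e' : el (0 : Pt j) 0 (qel p (ip (ex S v.1.2) (ex S v.1.1) + (v.2.2 * v.2.1 + v.2.1 + v.2.2)) 0 0) =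
      el 0 0 (qel p (ip (ex S w.1.2 + z) (ex S w.1.1) + (w.2.2 * w.2.1 + w.2.1 + w.2.2)) 0 0) := by
    simp only [el, pau_zero, map_one, one_mul]
    simpa [qel] using e
  have h4 := (qel_inj h2 (el_inj h2 e').2.2).1
  rw [ip_add_left, ip_off hz, add_zero, ip_ex, ip_ex] at h4
  exact h4.symm

theorem ER_inj (h2 : (2 : F) ≠ 0) {v w : Vm S} (h : ER hM v = ER hM w) : v = w := by
  obtain ⟨z, hz, c, hc⟩ := (ER_iff hM (g := 1) (v := v) (w := w)).1 (by simpa using h)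
  rw [Subgroup.coe_one, one_mul, inv_one, mul_one, qb, qb, sg_qel] at hc
  obtain ⟨e1, e2, e3⟩ := el_inj h2 hc
  refine Prod.ext (Prod.ext (ex_inj e1) (funext fun i => ?_)) ?_
  · have := congrFun e2 i
    simpa [ex_mem _ i.2, hz i i.2] using this
  · obtain ⟨-, h5, h6⟩ := qel_inj h2 e3
    exact Prod.ext h5 h6

theorem RR_rel {v w : Vm S} [Finite F] (h : RR (p := p) (M := M) v w) :
    ∃ n : GR M S, n ∈ Nqg p (LR M S) (CRG F S) ∧ n * ER hM v * n⁻¹ = ER hM w := by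
  obtain ⟨n, hn, hnr, z, hz, hc⟩ := h
  exact ⟨QuotientGroup.mk ⟨n, hn⟩, (mem_Nqg commR CR_nr).2 hnr, (ER_iff hM).2 ⟨z, hz, hc⟩⟩

/-- What fixes the free sign modulo the centre normalises. -/
theorem fixR_sign [Finite F] (h2 : (2 : F) ≠ 0) {a : ↥S} (hlow : LevR p M (S.erase (a : Fin j))) {g : ↥(LR M S)}
    (h : (QuotientGroup.mk g : GR M S) * ER hM ((0, Pi.single a 1), (0, 0)) * (QuotientGroup.mk g)⁻¹ =
      ER hM ((0, Pi.single a 1), (0, 0))) : Nr p (g : GL (Ix j) F) := by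
  obtain ⟨z, hz, c, hc⟩ := (ER_iff hM).1 h
  rw [map_zero, ex_single a.2, show qb p ((0, 0) : ZMod 2 × ZMod 2) = 1 from qb_zero p, mul_one] at hc
  have hzd : ip z (pe (a : Fin j)) = 0 := by rw [ip_pe_right]; exact hz a a.2
  obtain ⟨n, hn⟩ : ∃ n, n = up (pm F (trP (pe (a : Fin j)) z c hzd)) := ⟨_, rfl⟩
  have hnL : n ∈ LR M S := hn ▸ up_mem_LR (tr_LK (base_comap hM) _ _ c hzd fun u w hs => by
    have hu : u = 0 := funext fun i => hs.hu i (by simp)
    exact ⟨by rw [hu]; exact ip_zero_right z, by rw [ip_pe_right]; exact hs.hw a a.2⟩)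
  have hnr : Nr p n := hn ▸ nr_up p (nr_tr _ _ _ hzd)
  have e : n * el 0 (pe (a : Fin j)) (1 : GL (Fin 2) F) * n⁻¹ =
      (g : GL (Ix j) F) * el 0 (pe (a : Fin j)) (1 : GL (Fin 2) F) * (g : GL (Ix j) F)⁻¹ := by
    rw [hn, hc, el_one, el_sg, ← map_inv, ← map_mul, ← map_mul, tr_conj, ip_pe, pe_self, one_smul, mul_one,
      ip_zero_right, zero_smul, add_zero]
  have hh : n⁻¹ * (g : GL (Ix j) F) ∈ LR M (S.erase (a : Fin j)) := by
    refine mem_LR.2 ⟨M.mul_mem (M.inv_mem (mem_LR.1 hnL).1) (mem_LR.1 g.2).1, fun i hi => ?_⟩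
    by_cases hia : i = (a : Fin j)
    · subst hia
      rw [up_pe]
      refine mul_inv_eq_iff_eq_mul.1 ?_
      rw [show n⁻¹ * (g : GL (Ix j) F) * el 0 (pe (a : Fin j)) 1 * (n⁻¹ * (g : GL (Ix j) F))⁻¹ =
        n⁻¹ * ((g : GL (Ix j) F) * el 0 (pe (a : Fin j)) 1 * (g : GL (Ix j) F)⁻¹) * n by group, ← e]
      group
    · exact (mem_LR.1 (mul_mem (inv_mem hnL) g.2)).2 i fun h => hi (Finset.mem_erase.2 ⟨hia, h⟩)
  have := nr_mul p hnr (hlow _ hh)
  rwa [mul_inv_cancel_left] at this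

/-- What fixes the complex structure modulo the centre normalises. -/
theorem fixR_jq [Finite F] (h2 : (2 : F) ≠ 0) (hC : LevC p M S) {g : ↥(LR M S)}
    (h : (QuotientGroup.mk g : GR M S) * ER hM ((0, 0), (1, 0)) * (QuotientGroup.mk g)⁻¹ =
      ER hM ((0, 0), (1, 0))) : Nr p (g : GL (Ix j) F) := by
  obtain ⟨z, hz, c, hc⟩ := (ER_iff hM).1 h
  rw [map_zero, zero_add, qb_jq] at hc
  have haff : Aff fun x => c + ip z x := (aff_const c).add (aff_ip z)
  obtain ⟨c', w, hl, hn⟩ := ctlB_jq p _ haff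
  have hc' : c' = c := by simpa [ip_zero_right] using (congrFun hl 0).symm
  have hw : w = z := funext fun i => by
    have := congrFun hl (pe i)
    simp only [hc', ip_pe_right] at this
    exact (add_left_cancel this).symm
  rw [hc', hw] at hn
  set n := ctlB (fun x => c + ip z x) (aq p)
  have hnL : n ∈ LR M S := blk_mem_LR (hM.ctrl _ haff _ (aq_mem p))
  have hnr : Nr p n := nr_ctrl p haff (aq_mem p)
  have hh : n⁻¹ * (g : GL (Ix j) F) ∈ LC M S := by
    refine mem_LC.2 ⟨mul_mem (inv_mem hnL) g.2, mul_inv_eq_iff_eq_mul.1 ?_⟩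
    rw [← el_jq, show n⁻¹ * (g : GL (Ix j) F) * el 0 0 jq * (n⁻¹ * (g : GL (Ix j) F))⁻¹ =
      n⁻¹ * ((g : GL (Ix j) F) * el 0 0 jq * (g : GL (Ix j) F)⁻¹) * n by group, hc, ← hn]
    group
  have := nr_mul p hnr (hC _ hh)
  rwa [mul_inv_cancel_left] at this

theorem fuseR [Finite F] (h2 : (2 : F) ≠ 0) {a : ↥S} (hlow : LevR p M (S.erase (a : Fin j))) (hC : LevC p M S)
    {g : GR M S} {v w : Vm S} (hv : v ≠ 0) (hw : w ≠ 0) (h : g * ER hM v * g⁻¹ = ER hM w) :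
    g ∈ Nqg p (LR M S) (CRG F S) := by
  have hq : ∀ {n : GR M S} {v w : Vm S}, n * ER hM v * n⁻¹ = ER hM w → qvm w = qvm v := by
    intro n v w hh
    obtain ⟨x, rfl⟩ := QuotientGroup.mk_surjective n
    exact qvm_of_rel hM h2 hh
  have fin : ∀ r : Vm S, (∀ x : GR M S, x * ER hM r * x⁻¹ = ER hM r → x ∈ Nqg p (LR M S) (CRG F S)) →
      RR (p := p) (M := M) v r → RR (p := p) (M := M) w r → g ∈ Nqg p (LR M S) (CRG F S) := by
    intro r hr h1 h3
    obtain ⟨n₁, hn₁, e₁⟩ := RR_rel hM h1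
    obtain ⟨n₂, hn₂, e₂⟩ := RR_rel hM h3
    have hx := hr (n₂ * g * n₁⁻¹) (by
      rw [show n₂ * g * n₁⁻¹ * ER hM r * (n₂ * g * n₁⁻¹)⁻¹ =
        n₂ * (g * (n₁⁻¹ * ER hM r * n₁) * g⁻¹) * n₂⁻¹ by group, ← e₁,
        show n₁⁻¹ * (n₁ * ER hM v * n₁⁻¹) * n₁ = ER hM v by group, h, e₂, e₁])
    have := mul_mem (mul_mem (inv_mem hn₂) hx) hn₁
    rwa [show n₂⁻¹ * (n₂ * g * n₁⁻¹) * n₁ = g by group] at this
  have hQ : ∀ {u r : Vm S}, RR (p := p) (M := M) u r → qvm r = qvm u := fun h' => by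
    obtain ⟨n, -, e⟩ := RR_rel hM h'
    exact hq e
  have q0 : qvm (((0, Pi.single a 1), (0, 0)) : Vm S) = 0 := by simp [qvm, C6Plus10.qv]
  have q1 : qvm (((0, 0), (1, 0)) : Vm S) = 1 := by simp [qvm, C6Plus10.qv]
  rcases rr_reach hM h2 a hv with hv' | hv' <;> rcases rr_reach hM h2 a hw with hw' | hw'
  · refine fin _ (fun x hx => ?_) hv' hw'
    obtain ⟨x, rfl⟩ := QuotientGroup.mk_surjective x
    exact (mem_Nqg commR CR_nr).2 (fixR_sign hM h2 hlow hx)
  · have := hQ hw'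
    rw [q1, hq h, ← hQ hv', q0] at this
    exact absurd this one_ne_zero
  · have := hQ hw'
    rw [q0, hq h, ← hQ hv', q1] at this
    exact absurd this zero_ne_one
  · refine fin _ (fun x hx => ?_) hv' hw'
    obtain ⟨x, rfl⟩ := QuotientGroup.mk_surjective x
    exact (mem_Nqg commR CR_nr).2 (fixR_jq hM h2 hC hx)

end Level

variable [Finite F] (h2 : (2 : F) ≠ 0) (hM : BaseMinus p M) (hcent : CentR p M) {a : ↥S}
  (hlow : LevR p M (S.erase (a : Fin j))) (hC : LevC p M S)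
include h2 hM hcent hlow hC

/-- The system of the level with free last qubit. -/
noncomputable def sysR : Sys (GR M S) (Vm S) where
  N := Nqg p (LR M S) (CRG F S)
  E := ER hM
  E_add := ER_add hM
  E_inj _ _ h := ER_inj hM h2 h
  E_mem v := (mem_Nqg commR CR_nr).2 (nr_of_mem (el_mem p _ _ (qb_mem p _)))
  nor := by
    intro n hn v
    obtain ⟨g, rfl⟩ := QuotientGroup.mk_surjective n
    obtain ⟨a', b', q', ⟨c, d, e, rfl⟩, he⟩ :=
      (mem_Nqg commR CR_nr).1 hn _ (el_mem p (ex S v.1.1) (ex S v.1.2) (qb_mem p v.2))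
    have hmem : el a' b' (qel p c d e) ∈ LR M S := he ▸ mul_mem (mul_mem g.2 (EmR_mem hM v)) (inv_mem g.2)
    obtain ⟨w, z, hz, rfl, rfl⟩ := split_vec (b := b') (el_support h2 hmem)
    exact ⟨(w, (d, e)), (ER_iff hM).2 ⟨z, hz, c, by rw [he, qel_eq]⟩⟩
  β := bqm S
  β_symm v w := by
    rw [bqm_apply, bqm_apply, bq_apply, bq_apply]
    ring
  β_nd := bqm_nd
  iso := by
    intro n _ v v' w w' hv hw
    obtain ⟨g, rfl⟩ := QuotientGroup.mk_surjective n
    have hvw : (QuotientGroup.mk g : GR M S) * ER hM (v + w) * (QuotientGroup.mk g)⁻¹ = ER hM (v' + w') := by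
      rw [ER_add, ER_add, ← hv, ← hw]; group
    have e1 := qvm_of_rel hM h2 hvw
    have e2 := qvm_of_rel hM h2 hv
    have e3 := qvm_of_rel hM h2 hw
    rw [qvm_add, qvm_add, e2, e3] at e1
    exact add_left_cancel e1
  good v hv g hg := fuseR hM h2 hlow hC hv hv (by rw [hg, mul_inv_cancel_right])
  fus v hv g w hg := fuseR hM h2 hlow hC hv (fun e => by
    have h0 : ER hM (0 : Vm S) = 1 := by
      have h := ER_add hM (0 : Vm S) 0
      rw [add_zero] at h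
      exact mul_eq_left.1 h.symm
    rw [e, h0] at hg
    exact hv (ER_inj hM h2 ((conj_eq_one_iff.1 hg).trans h0.symm))) hg
  cent := by
    intro x hx
    obtain ⟨g, rfl⟩ := QuotientGroup.mk_surjective x
    have hnr : ∀ v : Vm S, Nr p ((g : GL (Ix j) F) * EmR p v * (g : GL (Ix j) F)⁻¹) := fun v => by
      have h := (hx v).1
      rw [ER, ← QuotientGroup.mk_inv, ← QuotientGroup.mk_mul, ← QuotientGroup.mk_mul, mem_Nqg commR CR_nr,
        Subgroup.coe_mul, Subgroup.coe_mul, Subgroup.coe_inv] at h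
      exact h
    have himg : ∀ v w : Vm S, (g : GL (Ix j) F) * EmR p v * (g : GL (Ix j) F)⁻¹ * EmR p w *
        ((g : GL (Ix j) F) * EmR p v * (g : GL (Ix j) F)⁻¹)⁻¹ * (EmR p w)⁻¹ ∈ CR F S := fun v w => by
      have h := mul_inv_eq_iff_eq_mul.2 ((hx v).2 w)
      rw [ER, ER, ← QuotientGroup.mk_inv, ← QuotientGroup.mk_mul, ← QuotientGroup.mk_mul, ← QuotientGroup.mk_mul,
        ← QuotientGroup.mk_inv, ← QuotientGroup.mk_mul, mk_iff commR] at h
      simp only [Subgroup.coe_mul, Subgroup.coe_inv] at h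
      exact h
    have hS1 : 1 ≤ S.card := Finset.card_pos.2 ⟨a, a.2⟩
    obtain ⟨v, w, hv, h⟩ := hcent S hS1 g g.2 (fun v => ⟨hnr v, himg v⟩) fun w hw y hy hyw => by
      refine (mem_Nqg commR CR_nr (x := ⟨y, hy⟩)).1 (fuseR hM h2 hlow hC hw hw ?_)
      rw [ER, ← QuotientGroup.mk_inv, ← QuotientGroup.mk_mul, ← QuotientGroup.mk_mul, mk_iff commR]
      simp only [Subgroup.coe_mul, Subgroup.coe_inv]
      exact hyw
    refine ⟨v, w, hv, ?_⟩
    rw [ER, ER, ← QuotientGroup.mk_inv, ← QuotientGroup.mk_mul, ← QuotientGroup.mk_mul, mk_iff commR]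
    simp only [Subgroup.coe_mul, Subgroup.coe_inv]
    exact h

/-- The step for the level with free last qubit. -/
theorem step_R : LevR p M S := by
  intro g hg
  refine (mem_Nqg commR CR_nr (x := ⟨g, hg⟩)).1 ((sysR h2 hM hcent hlow hC).real_all ?_ qvm qvm_add ?_
    (a := (((0, Pi.single a 1), (0, 0)) : Vm S)) (b := (((0, 0), (1, 0)) : Vm S)) ?_ ?_ ?_ _)
  · rw [Module.finrank_prod, C6Plus10.finrank_vec, Module.finrank_prod, Module.finrank_self]
    have := Finset.card_pos.2 ⟨(a : Fin j), a.2⟩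
    omega
  · intro n _ v w hvw
    obtain ⟨x, rfl⟩ := QuotientGroup.mk_surjective n
    exact qvm_of_rel hM h2 hvw
  · intro e
    simpa using congrFun (congrArg (fun v : Vm S => v.1.2) e) a
  · intro e
    simpa using congrArg (fun v : Vm S => v.2.1) e
  · simp [qvm, C6Plus10.qv]

end Cfsg.Agent.C6Minus10
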