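import Cfsg.Agent.Lib.C6Plus10Zero
import Cfsg.Agent.Lib.C6Plus10Fus

/-!
A level modulo its centre, and the induction step from the smaller levels.
-/

set_option autoImplicit false
set_option linter.unusedSectionVars false

namespace Cfsg.Agent.C6Plus10

open Matrix Module
open scoped MatrixGroups

variable {F : Type*} [Field F] {k : ℕ} {S T : Finset (Fin k)} {M : Subgroup (GL (Pt k) F)}

theorem shp_ip {u w u' w' : Pt k} (h : Shp S T u w) (h' : Shp S T u' w') : ip w u' + ip w' u = 0 := by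
  rw [ip_eq_sum, ip_eq_sum, ← Finset.sum_add_distrib]
  refine Finset.sum_eq_zero fun i _ => ?_
  by_cases hi : i ∈ T
  · rw [h.hq i hi, h'.hq i hi, mul_comm (u' i), CharTwo.add_self_eq_zero]
  · rw [h.hu i hi, h'.hu i hi, mul_zero, mul_zero, add_zero]

theorem pau_sq (a b : Pt k) : pau F a b * pau F a b = sd F (fun _ => ip b a) := by
  rw [pau_mul, pt_add_self, pt_add_self, pau_zero, mul_one]

/-- The centre of a level. -/
def CzG (F : Type*) [Field F] (S T : Finset (Fin k)) : Subgroup (GL (Pt k) F) where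
  carrier := Czs F S T
  one_mem' := ⟨0, 0, 0, shp_zero, by rw [sd_const_zero, pau_zero, one_mul]⟩
  mul_mem' := by
    rintro _ _ ⟨c, u, w, h, rfl⟩ ⟨c', u', w', h', rfl⟩
    refine ⟨c + c' + ip w u', u + u', w + w', h.add h', ?_⟩
    rw [mul_assoc, ← mul_assoc (pau F u w), ← sd_const_mul, mul_assoc (sd F _) (pau F u w), pau_mul, sd_const_add,
      sd_const_add]
    simp only [mul_assoc]
  inv_mem' := by
    rintro _ ⟨c, u, w, h, rfl⟩
    refine ⟨c + ip w u, u, w, h, ?_⟩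
    rw [_root_.mul_inv_rev, pau_inv, sd_inv, ← sd_const_mul, ← mul_assoc, ← sd_const_add]

theorem mem_CzG {x : GL (Pt k) F} : x ∈ CzG F S T ↔ x ∈ Czs F S T := Iff.rfl

theorem sd_mem_CzG (c : ZMod 2) : sd F (fun _ : Pt k => c) ∈ CzG F S T :=
  ⟨c, 0, 0, shp_zero, by rw [pau_zero, mul_one]⟩

theorem nr_Czs {x : GL (Pt k) F} (h : x ∈ Czs F S T) : Nr x := by
  obtain ⟨c, u, w, -, rfl⟩ := h
  exact (nr_sd_const c).mul (nr_pau u w)

theorem comm_Czs {g x : GL (Pt k) F} (hg : g ∈ LK M S T) (hx : x ∈ Czs F S T) : g * x = x * g := by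
  obtain ⟨c, u, w, h, rfl⟩ := hx
  rw [← mul_assoc, ← sd_const_mul, mul_assoc, (mem_LK.1 hg).2 u w h, ← mul_assoc]

/-- The centre inside the level. -/
def Cz (M : Subgroup (GL (Pt k) F)) (S T : Finset (Fin k)) : Subgroup ↥(LK M S T) :=
  (CzG F S T).subgroupOf (LK M S T)

instance cz_normal : (Cz M S T).Normal := ⟨fun c hc g => by
  have h : ((g * c * g⁻¹ : ↥(LK M S T)) : GL (Pt k) F) = c := by
    rw [Subgroup.coe_mul, Subgroup.coe_mul, Subgroup.coe_inv, comm_Czs g.2 (Subgroup.mem_subgroupOf.1 hc),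
      mul_inv_cancel_right]
  rw [Cz, Subgroup.mem_subgroupOf, h]
  exact hc⟩

/-- A level modulo its centre. -/
abbrev Gq (M : Subgroup (GL (Pt k) F)) (S T : Finset (Fin k)) : Type _ := ↥(LK M S T) ⧸ Cz M S T

theorem mk_eq_iff {x y : ↥(LK M S T)} :
    (QuotientGroup.mk x : Gq M S T) = QuotientGroup.mk y ↔ (x : GL (Pt k) F) * (y : GL (Pt k) F)⁻¹ ∈ Czs F S T := by
  rw [QuotientGroup.eq, Cz, Subgroup.mem_subgroupOf, Subgroup.coe_mul, Subgroup.coe_inv, mem_CzG]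
  constructor
  · intro h
    have h' := (CzG F S T).inv_mem h
    rw [_root_.mul_inv_rev, inv_inv] at h'
    rwa [show (x : GL (Pt k) F) * (y : GL (Pt k) F)⁻¹ = (y : GL (Pt k) F)⁻¹ * x from ?_]
    have hc := comm_Czs y.2 (mem_CzG.1 h')
    rw [mul_inv_cancel_left] at hc
    nth_rw 1 [hc]
    rw [mul_inv_cancel_right]
  · intro h
    have h' := (CzG F S T).inv_mem h
    rw [_root_.mul_inv_rev, inv_inv] at h'
    have hc := comm_Czs x.2 (mem_CzG.1 h)
    rw [show (x : GL (Pt k) F)⁻¹ * y = (y : GL (Pt k) F) * (x : GL (Pt k) F)⁻¹ from ?_]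
    · exact h'
    have hc' := comm_Czs x.2 (mem_CzG.1 h')
    calc (x : GL (Pt k) F)⁻¹ * y = (x : GL (Pt k) F)⁻¹ * ((y : GL (Pt k) F) * (x : GL (Pt k) F)⁻¹ * x) := by group
      _ = (x : GL (Pt k) F)⁻¹ * ((x : GL (Pt k) F) * ((y : GL (Pt k) F) * (x : GL (Pt k) F)⁻¹)) := by rw [hc']
      _ = _ := by group

/-- The normaliser modulo the centre. -/
def Nq [Finite F] (M : Subgroup (GL (Pt k) F)) (S T : Finset (Fin k)) : Subgroup (Gq M S T) :=
  ((NrG F k).subgroupOf (LK M S T)).map (QuotientGroup.mk' (Cz M S T))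

theorem mem_Nq [Finite F] {x : ↥(LK M S T)} :
    (QuotientGroup.mk x : Gq M S T) ∈ Nq M S T ↔ Nr (x : GL (Pt k) F) := by
  constructor
  · rintro ⟨y, hy, e⟩
    have h := mk_eq_iff.1 e
    have h1 := ((nr_Czs h).inv).mul (Subgroup.mem_subgroupOf.1 hy : Nr (y : GL (Pt k) F))
    rwa [_root_.mul_inv_rev, inv_inv, inv_mul_cancel_right] at h1
  · exact fun h => ⟨x, Subgroup.mem_subgroupOf.2 h, rfl⟩

variable (hM : Base M) (hST : Disjoint S T)

/-- The free elements modulo the centre. -/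
noncomputable def Eq' (v : Vec S) : Gq M S T := QuotientGroup.mk ⟨El F v, El_mem hM hST v⟩

include hM hST in
theorem conj_E_iff {g : ↥(LK M S T)} {v w : Vec S} :
    (QuotientGroup.mk g : Gq M S T) * Eq' hM hST v * (QuotientGroup.mk g)⁻¹ = Eq' hM hST w ↔
      ∃ u z, Shp S T u z ∧ CP (g : GL (Pt k) F) (ex S v.1) (ex S v.2) (ex S w.1 + u) (ex S w.2 + z) := by
  rw [Eq', Eq', ← QuotientGroup.mk_inv, ← QuotientGroup.mk_mul, ← QuotientGroup.mk_mul, mk_eq_iff, Subgroup.coe_mul,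
    Subgroup.coe_mul, Subgroup.coe_inv]
  constructor
  · rintro ⟨c, u, z, hs, h⟩
    refine ⟨u, z, hs, c + ip z (ex S w.1), ?_⟩
    rw [mul_inv_eq_iff_eq_mul] at h
    rw [show (g : GL (Pt k) F) * pau F (ex S v.1) (ex S v.2) * (g : GL (Pt k) F)⁻¹ = _ from h]
    show _ * pau F (ex S w.1) (ex S w.2) = _
    rw [mul_assoc, pau_mul,
      ← mul_assoc, ← sd_const_add, add_comm u, add_comm z]
  · rintro ⟨u, z, hs, c, h⟩
    refine ⟨c + ip z (ex S w.1), u, z, hs, ?_⟩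
    show (g : GL (Pt k) F) * pau F (ex S v.1) (ex S v.2) * (g : GL (Pt k) F)⁻¹ * (pau F (ex S w.1) (ex S w.2))⁻¹ = _
    rw [h, mul_inv_eq_iff_eq_mul, mul_assoc (sd F _) (pau F u z), pau_mul, ← mul_assoc, ← sd_const_add, add_assoc,
      CharTwo.add_self_eq_zero, add_zero, add_comm u, add_comm z]

/-- The pairing of the free indices. -/
noncomputable def bq (S : Finset (Fin k)) : LinearMap.BilinForm (ZMod 2) (Vec S) :=
  LinearMap.mk₂ (ZMod 2) (fun v w => v.1 ⬝ᵥ w.2 + w.1 ⬝ᵥ v.2)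
    (fun a b c => by simp only [Prod.fst_add, Prod.snd_add, add_dotProduct, dotProduct_add]; ring)
    (fun r a c => by simp only [Prod.smul_fst, Prod.smul_snd, smul_dotProduct, dotProduct_smul, smul_eq_mul]; ring)
    (fun a b c => by simp only [Prod.fst_add, Prod.snd_add, add_dotProduct, dotProduct_add]; ring)
    (fun r a c => by simp only [Prod.smul_fst, Prod.smul_snd, smul_dotProduct, dotProduct_smul, smul_eq_mul]; ring)

theorem bq_apply (v w : Vec S) : bq S v w = v.1 ⬝ᵥ w.2 + w.1 ⬝ᵥ v.2 := rfl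

theorem finrank_vec (S : Finset (Fin k)) : finrank (ZMod 2) (Vec S) = S.card + S.card := by
  rw [Module.finrank_prod, Module.finrank_pi, Fintype.card_coe]

/-! ### Fusion by the smaller levels -/

variable (h2 : (2 : F) ≠ 0) (hT : T.card ≤ 1)
include h2 hM hST

theorem qv_of_cp (hT0 : T = ∅) {g : GL (Pt k) F} {v w : Vec S} {u z : Pt k} (hs : Shp S T u z)
    (hc : CP g (ex S v.1) (ex S v.2) (ex S w.1 + u) (ex S w.2 + z)) : qv w = qv v := by
  have hu : u = 0 := funext fun i => hs.hu i (by simp [hT0])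
  have h1 := hc.sq h2
  rw [hu, add_zero, ip_add_left, (ip_ex_shp hST hs w.1).2, add_zero, ip_ex, ip_ex] at h1
  exact h1

include hT

/-- What fixes a standard sign modulo the centre normalises. -/
theorem fix_sign [Finite F] {a : ↥S} (hlow : Lev M (S.erase (a : Fin k)) T) {g : GL (Pt k) F} (hg : g ∈ LK M S T)
    {u z : Pt k} (hs : Shp S T u z) (hc : CP g 0 (pe (a : Fin k)) u (pe (a : Fin k) + z)) : Nr g := by
  have hu : u = 0 := funext fun i => by
    by_cases hi : i ∈ T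
    · have h1 := hc.sq h2
      rw [ip_add_left, ip_pe, hs.huS hST a.2, zero_add, ip_zero_right, ip_eq_sum, Finset.sum_eq_single i] at h1
      · rw [hs.hq i hi] at h1
        rcases zm_cases (u i) with e | e
        · exact e
        · rw [e, one_mul] at h1; exact absurd h1 one_ne_zero
      · intro t _ ht
        rw [hs.hu t fun h => ht (Finset.card_le_one.1 hT t h i hi), mul_zero]
      · simp
    · exact hs.hu i hi
  obtain ⟨c, hc⟩ := hc
  rw [hu] at hc
  have hzd : ip z (pe (a : Fin k)) = 0 := by rw [ip_pe_right]; exact hs.hw a a.2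
  obtain ⟨n, hn⟩ : ∃ n, n = pm F (trP (pe (a : Fin k)) z c hzd) := ⟨_, rfl⟩
  have hnL : n ∈ LK M S T := hn ▸ tr_LK hM _ _ c hzd fun u' w' hs' =>
    ⟨ip_eq_zero fun i => by
      by_cases hi : i ∈ T
      · exact Or.inl (by rw [hs.hq i hi, hu]; rfl)
      · exact Or.inr (hs'.hu i hi), by rw [ip_pe_right]; exact hs'.hw a a.2⟩
  have e : n * pau F 0 (pe (a : Fin k)) * n⁻¹ = g * pau F 0 (pe (a : Fin k)) * g⁻¹ := by
    rw [hn, hc, tr_conj, ip_pe, pe_self, one_smul, mul_one, ip_zero_right, zero_smul, add_zero]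
  have hcomm : n⁻¹ * g * pau F 0 (pe (a : Fin k)) = pau F 0 (pe (a : Fin k)) * (n⁻¹ * g) := by
    refine mul_inv_eq_iff_eq_mul.1 ?_
    rw [show n⁻¹ * g * pau F 0 (pe (a : Fin k)) * (n⁻¹ * g)⁻¹ = n⁻¹ * (g * pau F 0 (pe (a : Fin k)) * g⁻¹) * n by
      group, ← e]
    group
  have h := hlow _ (lower (mul_mem (inv_mem hnL) hg) hcomm fun u' w' hs' => ⟨w' a, fun i hi => by simp [hs'.hu i hi],
    fun i hi => ?_, fun q hq => ?_⟩)
  · have := (hn ▸ nr_tr _ _ _ _ : Nr n).mul h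
    rwa [mul_inv_cancel_left] at this
  · by_cases hia : i = (a : Fin k)
    · subst hia; simp [CharTwo.add_self_eq_zero]
    · simp [pe_ne hia, hs'.hw i (Finset.mem_erase.2 ⟨hia, hi⟩)]
  · have hqa : q ≠ (a : Fin k) := fun e => Finset.disjoint_left.1 hST a.2 (e ▸ hq)
    simp [pe_ne hqa, hs'.hq q hq]

/-- Without complex structure: what fixes the standard product modulo the centre normalises. -/
theorem fix_prod [Finite F] (hT0 : T = ∅) {a : ↥S} (hlow : Lev M (S.erase (a : Fin k)) {(a : Fin k)})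
    {g : GL (Pt k) F} (hg : g ∈ LK M S T) {u z : Pt k} (hs : Shp S T u z)
    (hc : CP g (pe (a : Fin k)) (pe (a : Fin k)) (pe (a : Fin k) + u) (pe (a : Fin k) + z)) : Nr g := by
  have hu0 : ∀ {u w : Pt k}, Shp S T u w → u = 0 := fun h => funext fun i => h.hu i (by simp [hT0])
  obtain ⟨c, hc⟩ := hc
  rw [hu0 hs, add_zero] at hc
  have hzd : ip z (pe (a : Fin k)) = 0 := by rw [ip_pe_right]; exact hs.hw a a.2
  obtain ⟨n, hn⟩ : ∃ n, n = sd F (qf (pe (a : Fin k)) z c) := ⟨_, rfl⟩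
  have hnL : n ∈ LK M S T := hn ▸ qd_LK hM _ _ _ fun u' w' hs' => by
    rw [hu0 hs']; exact ⟨ip_zero_right _, ip_zero_right _⟩
  have e : n * pau F (pe (a : Fin k)) (pe (a : Fin k)) * n⁻¹ =
      g * pau F (pe (a : Fin k)) (pe (a : Fin k)) * g⁻¹ := by
    rw [hn, hc, qd_conj, ip_pe, pe_self, one_mul, one_smul, hzd, zero_smul, add_zero, zero_add]
  have hcomm : n⁻¹ * g * pau F (pe (a : Fin k)) (pe (a : Fin k)) =
      pau F (pe (a : Fin k)) (pe (a : Fin k)) * (n⁻¹ * g) := by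
    refine mul_inv_eq_iff_eq_mul.1 ?_
    rw [show n⁻¹ * g * pau F (pe (a : Fin k)) (pe (a : Fin k)) * (n⁻¹ * g)⁻¹ =
      n⁻¹ * (g * pau F (pe (a : Fin k)) (pe (a : Fin k)) * g⁻¹) * n by group, ← e]
    group
  have h := hlow _ (lower (mul_mem (inv_mem hnL) hg) hcomm fun u' w' hs' => ⟨u' a, fun i _ => ?_,
    fun i hi => ?_, by simp [hT0]⟩)
  · have := (hn ▸ nr_qd _ _ _ : Nr n).mul h
    rwa [mul_inv_cancel_left] at this
  · by_cases hia : i = (a : Fin k)
    · subst hia; simp [CharTwo.add_self_eq_zero]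
    · simp [hs'.hu i (by simpa using hia), pe_ne hia]
  · by_cases hia : i = (a : Fin k)
    · subst hia; simp [hs'.hq _ (Finset.mem_singleton_self _), CharTwo.add_self_eq_zero]
    · simp [pe_ne hia, hs'.hw i (Finset.mem_erase.2 ⟨hia, hi⟩)]

/-- An element moving a free element to another modulo the centre normalises. -/
theorem fuse [Finite F] (hS2 : 2 ≤ S.card) {a : ↥S} (hlow : Lev M (S.erase (a : Fin k)) T)
    (hlow' : T = ∅ → Lev M (S.erase (a : Fin k)) {(a : Fin k)}) {g : GL (Pt k) F} (hg : g ∈ LK M S T) {v w : Vec S}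
    (hv : v ≠ 0) (hw : w ≠ 0) {u z : Pt k} (hs : Shp S T u z)
    (hc : CP g (ex S v.1) (ex S v.2) (ex S w.1 + u) (ex S w.2 + z)) : Nr g := by
  have e0 : ex S (Pi.single a 1) = pe (a : Fin k) := ex_single a.2
  -- conjugating to a standard element
  have conj : ∀ r : Vec S, Rc M S T v r → Rc M S T w r → ∃ n₁ n₂, n₁ ∈ LK M S T ∧ n₂ ∈ LK M S T ∧ Nr n₁ ∧ Nr n₂ ∧
      ∃ u' z', Shp S T u' z' ∧ CP (n₂ * g * n₁⁻¹) (ex S r.1) (ex S r.2) (ex S r.1 + u') (ex S r.2 + z') := by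
    rintro r ⟨n₁, hn₁, hr₁, u₁, z₁, hs₁, hc₁⟩ ⟨n₂, hn₂, hr₂, u₂, z₂, hs₂, hc₂⟩
    refine ⟨n₁, n₂, hn₁, hn₂, hr₁, hr₂, _, _, (hs₂.add hs).add hs₁, ?_⟩
    have h1 := hc₁.symm.add (CP_of_LK (inv_mem hn₁) hs₁)
    rw [add_assoc, pt_add_self, add_zero, add_assoc, pt_add_self, add_zero] at h1
    have h2' := h1.comp (hc.add (CP_of_LK hg hs₁))
    have h3 := h2'.comp ((hc₂.add (CP_of_LK hn₂ hs)).add (CP_of_LK hn₂ hs₁))
    rw [mul_assoc]
    simpa only [add_assoc] using h3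
  have finish : ∀ n₁ n₂ : GL (Pt k) F, Nr n₁ → Nr n₂ → Nr (n₂ * g * n₁⁻¹) → Nr g := fun n₁ n₂ h₁ h₂ h => by
    have := (h₂.inv.mul h).mul h₁
    rwa [show n₂⁻¹ * (n₂ * g * n₁⁻¹) * n₁ = g by group] at this
  have q0 : qv ((0, Pi.single a 1) : Vec S) = 0 := by simp [qv]
  rcases reach_std h2 hM hST hS2 a hv with h | ⟨hT0, hqv, h⟩
  · have hr : Rc M S T w (0, Pi.single a 1) := by
      rcases reach_std h2 hM hST hS2 a hw with h' | ⟨hT0, hqw, -⟩
      · exact h'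
      · rw [qv_of_cp hM hST h2 hT0 hs hc, ← h.qv h2 hT0 hST, q0] at hqw
        exact absurd hqw zero_ne_one
    obtain ⟨n₁, n₂, hn₁, hn₂, hr₁, hr₂, u', z', hs', h'⟩ := conj _ h hr
    rw [map_zero, zero_add, e0] at h'
    exact finish n₁ n₂ hr₁ hr₂ (fix_sign hM hST h2 hT hlow (mul_mem (mul_mem hn₂ hg) (inv_mem hn₁)) hs' h')
  · have hr : Rc M S T w (Pi.single a 1, Pi.single a 1) := by
      rcases reach_std h2 hM hST hS2 a hw with h' | ⟨-, -, h'⟩
      · have h1 := h'.qv h2 hT0 hST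
        rw [q0, qv_of_cp hM hST h2 hT0 hs hc, hqv] at h1
        exact absurd h1 zero_ne_one
      · exact h'
    obtain ⟨n₁, n₂, hn₁, hn₂, hr₁, hr₂, u', z', hs', h'⟩ := conj _ h hr
    rw [e0] at h'
    exact finish n₁ n₂ hr₁ hr₂ (fix_prod hM hST h2 hT hT0 (hlow' hT0) (mul_mem (mul_mem hn₂ hg) (inv_mem hn₁)) hs' h')

omit hT in
theorem E_eq_iff {v w : Vec S} : Eq' hM hST v = Eq' hM hST w ↔ v = w := by
  refine ⟨fun h => ?_, fun h => h ▸ rfl⟩
  obtain ⟨c, u, z, hs, h⟩ := mk_eq_iff.1 h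
  rw [mul_inv_eq_iff_eq_mul] at h
  change pau F (ex S v.1) (ex S v.2) = _ * pau F (ex S w.1) (ex S w.2) at h
  rw [mul_assoc, pau_mul, ← mul_assoc, ← sd_const_add] at h
  rw [← one_mul (pau F (ex S v.1) (ex S v.2)), ← sd_const_zero] at h
  obtain ⟨e1, e2, -⟩ := pau_inj h2 h
  refine Prod.ext (funext fun i => ?_) (funext fun i => ?_)
  · have e := congrFun e1 i
    simpa [ex_mem _ i.2, hs.huS hST i.2] using e
  · have e := congrFun e2 i
    simpa [ex_mem _ i.2, hs.hw i i.2] using e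

end Cfsg.Agent.C6Plus10
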