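import Cfsg.Agent.Lib.C6Minus10El
import Cfsg.Agent.Lib.C6Plus10Sys

/-!
The levels of the minus-type model modulo their centres, and the fusion of their free elements.
-/

set_option autoImplicit false
set_option linter.unusedSectionVars false

namespace Cfsg.Agent.C6Minus10

open Matrix Cfsg.Agent.C6Plus10
open scoped MatrixGroups

variable {F : Type*} [Field F] {j : ℕ} {p : Par F} {M : Subgroup (GL (Ix j) F)} {S : Finset (Fin j)}

/-! ### A subgroup modulo central elements -/

/-- The central elements lying in a subgroup. -/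
def CzOf {G : Type*} [Group G] (L C : Subgroup G) : Subgroup ↥L := C.subgroupOf L ⊓ Subgroup.center ↥L

instance czOf_normal {G : Type*} [Group G] (L C : Subgroup G) : (CzOf L C).Normal :=
  ⟨fun c hc g => by rwa [Subgroup.mem_center_iff.1 hc.2 g, mul_inv_cancel_right]⟩

/-- The quotient. -/
abbrev Qg {G : Type*} [Group G] (L C : Subgroup G) : Type _ := ↥L ⧸ CzOf L C

theorem mk_iff {G : Type*} [Group G] {L C : Subgroup G} (hc : ∀ g ∈ L, ∀ c ∈ C, g * c = c * g) {x y : ↥L} :
    (QuotientGroup.mk x : Qg L C) = QuotientGroup.mk y ↔ (x : G) * (y : G)⁻¹ ∈ C := by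
  rw [eq_comm, QuotientGroup.eq, CzOf, Subgroup.mem_inf, Subgroup.mem_subgroupOf, Subgroup.mem_center_iff,
    Subgroup.coe_mul, Subgroup.coe_inv]
  constructor
  · rintro ⟨h, -⟩
    have e := hc y.1 y.2 _ h
    rw [mul_inv_cancel_left] at e
    have e' := congrArg (· * (y : G)⁻¹) e
    simp only [mul_inv_cancel_right] at e'
    rwa [e']
  · intro h
    have e := hc y.1 y.2 _ h
    have h' : (y : G)⁻¹ * x = (x : G) * (y : G)⁻¹ :=
      calc (y : G)⁻¹ * x = (y : G)⁻¹ * ((x : G) * (y : G)⁻¹ * y) := by group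
        _ = (y : G)⁻¹ * ((y : G) * ((x : G) * (y : G)⁻¹)) := by rw [e]
        _ = _ := by group
    exact ⟨h' ▸ h, fun g => Subtype.ext (by
      simp only [Subgroup.coe_mul, Subgroup.coe_inv]
      rw [h']
      exact hc g.1 g.2 _ h)⟩

/-! ### The centres -/

theorem el_CR_mul {c c' : ZMod 2} (w w' : Pt j) :
    el (0 : Pt j) w (sg c : GL (Fin 2) F) * el 0 w' (sg c' : GL (Fin 2) F) =
      el 0 (w + w') (sg (c + c') : GL (Fin 2) F) := by
  rw [el_mul, ip_zero_right, sg_zero, one_mul, add_zero, sg_add]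

/-- The centre of the level with free last qubit, as a group. -/
def CRG (F : Type*) [Field F] (S : Finset (Fin j)) : Subgroup (GL (Ix j) F) where
  carrier := CR F S
  one_mem' := ⟨0, 0, fun _ _ => rfl, by rw [sg_zero, el_zero]⟩
  mul_mem' := by
    rintro _ _ ⟨c, w, hw, rfl⟩ ⟨c', w', hw', rfl⟩
    exact ⟨c + c', w + w', fun i hi => by rw [Pi.add_apply, hw i hi, hw' i hi, add_zero], el_CR_mul w w'⟩
  inv_mem' := by
    rintro _ ⟨c, w, hw, rfl⟩
    exact ⟨c, w, hw, inv_eq_of_mul_eq_one_right (by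
      rw [el_CR_mul, pt_add_self, CharTwo.add_self_eq_zero, sg_zero, el_zero])⟩

theorem el_CC_mul {c t c' t' : ZMod 2} (w w' : Pt j) :
    el (0 : Pt j) w (qel p c t 0) * el 0 w' (qel p c' t' 0) = el 0 (w + w') (qel p (c + c' + t * t') (t + t') 0) := by
  rw [el_mul, ip_zero_right, sg_zero, one_mul, add_zero, qel_mul]
  congr 2 <;> simp

/-- The centre of the level centralising the complex structure, as a group. -/
def CCG (p : Par F) (S : Finset (Fin j)) : Subgroup (GL (Ix j) F) where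
  carrier := CC p S
  one_mem' := ⟨0, 0, 0, fun _ _ => rfl, by rw [qel_zero, el_zero]⟩
  mul_mem' := by
    rintro _ _ ⟨c, t, w, hw, rfl⟩ ⟨c', t', w', hw', rfl⟩
    exact ⟨_, _, w + w', fun i hi => by rw [Pi.add_apply, hw i hi, hw' i hi, add_zero], el_CC_mul w w'⟩
  inv_mem' := by
    rintro _ ⟨c, t, w, hw, rfl⟩
    refine ⟨c + t, t, w, hw, inv_eq_of_mul_eq_one_right ?_⟩
    rw [el_CC_mul, pt_add_self, CharTwo.add_self_eq_zero, ← el_zero, ← qel_zero p]
    congr 2
    rcases zm_cases c with rfl | rfl <;> rcases zm_cases t with rfl | rfl <;> decide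

theorem sd_mem_LKplus (w : Pt j) (hw : ∀ i ∈ S, w i = 0) {g : GL (Ix j) F} (hg : g ∈ LR M S) :
    g * up (sd F (ip w)) = up (sd F (ip w)) * g := by
  have key : ∀ A : Finset (Fin j), Commute g (up (sd F (ip (∑ i ∈ A, w i • pe i)))) := by
    intro A
    induction A using Finset.induction_on with
    | empty =>
      rw [Finset.sum_empty, show ip (0 : Pt j) = 0 from funext ip_zero_left, sd_zero, map_one]
      exact Commute.one_right g
    | @insert i A hi ih =>
      rw [Finset.sum_insert hi, show ip (w i • pe i + ∑ x ∈ A, w x • pe x) =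
        ip (w i • pe i) + ip (∑ x ∈ A, w x • pe x) from funext fun y => ip_add_left _ _ y, ← sd_mul, map_mul]
      refine Commute.mul_right ?_ ih
      rcases zm_cases (w i) with e | e <;> rw [e]
      · rw [zero_smul, show ip (0 : Pt j) = 0 from funext ip_zero_left, sd_zero, map_one]
        exact Commute.one_right g
      · rw [one_smul]
        exact (mem_LR.1 hg).2 i fun h => by rw [hw i h] at e; exact zero_ne_one e
  have e : (∑ i, w i • pe i) = w := funext fun t => by simp [Finset.sum_apply, pe, Pi.single_apply]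
  have := key Finset.univ
  rwa [e] at this

theorem comm_CR {g x : GL (Ix j) F} (hg : g ∈ LR M S) (hx : x ∈ CR F S) : g * x = x * g := by
  obtain ⟨c, w, hw, rfl⟩ := hx
  rw [el, pau_sd, ← mul_assoc, sd_mem_LKplus w hw hg, mul_assoc, ← cst_sg_comm, mul_assoc]

theorem LC_jq {g : GL (Ix j) F} (hg : g ∈ LC M S) (c t : ZMod 2) :
    Commute g (cst (qel p c t 0)) := by
  rw [qel, map_mul, map_mul]
  refine (Commute.mul_right (cst_sg_comm c g).symm ?_).mul_right (by simp)
  split_ifs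
  · simp
  · exact (mem_LC.1 hg).2

theorem comm_CC {g x : GL (Ix j) F} (hg : g ∈ LC M S) (hx : x ∈ CC p S) : g * x = x * g := by
  obtain ⟨c, t, w, hw, rfl⟩ := hx
  rw [el, pau_sd, ← mul_assoc, sd_mem_LKplus w hw (mem_LC.1 hg).1, mul_assoc, (LC_jq hg c t).eq, mul_assoc]

theorem CR_le (p : Par F) {x : GL (Ix j) F} (hx : x ∈ CR F S) : x ∈ Rm p := by
  obtain ⟨c, w, -, rfl⟩ := hx
  exact el_mem p _ _ (sg_mem p c)

theorem CC_le {x : GL (Ix j) F} (hx : x ∈ CC p S) : x ∈ Rm p := by
  obtain ⟨c, t, w, -, rfl⟩ := hx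
  exact el_mem p _ _ (qel_mem p _ _ _)

theorem el_split_R {a b z : Pt j} (c : ZMod 2) (q : GL (Fin 2) F) (hz : ip z a = 0) :
    el a (b + z) (sg c * q) = el 0 z (sg c : GL (Fin 2) F) * el a b q := by
  rw [el_mul, zero_add, hz, sg_zero, one_mul, add_comm z]

theorem ip_off {z : Pt j} (hz : ∀ i ∈ S, z i = 0) (a : ↥S → ZMod 2) : ip z (ex S a) = 0 :=
  ip_eq_zero fun i => by
    by_cases hi : i ∈ S
    · exact Or.inl (hz i hi)
    · exact Or.inr (ex_not_mem a hi)

/-! ### The free elements -/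

variable (hM : BaseMinus p M)

include hM

theorem EmR_mem (v : Vm S) : EmR p v ∈ LR M S := by
  refine mem_LR_of_CPm (el_mem_M hM _ _ (qb_mem p _)) fun i hi => ?_
  rw [up_pe, mul_inv_eq_iff_eq_mul, EmR, el_mul, el_mul, ip_zero_right, sg_zero, one_mul, mul_one, add_comm (ex S _) 0,
    zero_add, ip_pe, ex_not_mem _ hi, sg_zero, one_mul, one_mul, add_comm]

theorem up_El_mem (v : Vec S) : up (El F v) ∈ LC M S := by
  refine mem_LC.2 ⟨up_mem_LR (El_mem (base_comap hM) (Finset.disjoint_empty_right S) v), ?_⟩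
  exact up_comm_cst _ _

/-- Moving a free index to another by the normaliser inside the level with free last qubit. -/
def RR (v w : Vm S) : Prop :=
  ∃ n ∈ LR M S, Nr p n ∧ ∃ z, (∀ i ∈ S, (z : Pt j) i = 0) ∧
    CPm p n (ex S v.1.1) (ex S v.1.2) v.2 (ex S w.1.1) (ex S w.1.2 + z) w.2

theorem shift_CPm {n : GL (Ix j) F} (hn : n ∈ LR M S) {a b a' b' z : Pt j} {v v' : ZMod 2 × ZMod 2}
    (hz : ∀ i ∈ S, z i = 0) (ha : ip z a = 0) (ha' : ip z a' = 0) (h : CPm p n a b v a' b' v') :
    CPm p n a (b + z) v a' (b' + z) v' := by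
  obtain ⟨c, hc⟩ := h
  refine ⟨c, ?_⟩
  have e := el_split_R (F := F) (b := b) 0 (qb p v) ha
  rw [sg_zero, one_mul] at e
  rw [e, ← mul_assoc n, comm_CR hn ⟨0, z, hz, by rw [sg_zero]⟩, mul_assoc _ n, mul_assoc _ (n * _), hc, el_mul,
    zero_add, ha', sg_zero, one_mul, one_mul, add_comm z]

theorem RR.trans' {u v w : Vm S} (h : RR (p := p) (M := M) u v) (h' : RR (p := p) (M := M) v w) :
    RR (p := p) (M := M) u w := by
  obtain ⟨n, hn, hnn, z, hz, hc⟩ := h
  obtain ⟨n', hn', hnn', z', hz', hc'⟩ := h'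
  refine ⟨n' * n, mul_mem hn' hn, nr_mul p hnn' hnn, z' + z,
    fun i hi => by rw [Pi.add_apply, hz i hi, hz' i hi, add_zero], ?_⟩
  have := shift_CPm hM hn' hz (ip_off hz _) (ip_off hz _) hc'
  rw [add_assoc] at this
  exact CPm.comp p hc this

theorem RR.refl' (v : Vm S) : RR (p := p) (M := M) v v :=
  ⟨1, one_mem _, nr_one_m, 0, fun _ _ => rfl, 0, by simp⟩

theorem rr_up {v w : Vec S} (h : C6Plus10.Rc (M.comap up) S ∅ v w) (b : ZMod 2 × ZMod 2) :
    RR (p := p) (M := M) (v, b) (w, b) := by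
  obtain ⟨n, hn, hnr, u, z, hs, hc⟩ := h
  have hu : u = 0 := funext fun i => hs.hu i (by simp)
  rw [hu, add_zero] at hc
  exact ⟨up n, up_mem_LR hn, nr_up p hnr, z, hs.hw, up_conj p hc b⟩

theorem rr_ctl (t : ↥S) (v : Vm S) :
    RR (p := p) (M := M) v ((v.1.1, v.1.2 + (v.1.1 t + v.2.2) • Pi.single t 1), (v.2.1 + v.1.1 t, v.2.2)) := by
  refine ⟨ctlB (ip (pe (t : Fin j))) jq, blk_mem_LR (hM.ctrl _ (aff_ip _) _ (jq_mem p)),
    nr_ctrl p (aff_ip _) (jq_mem p), 0, fun _ _ => rfl, ?_⟩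
  have := ctlB_conj p (t : Fin j) (ex S v.1.1) (ex S v.1.2) v.2
  rw [ex_mem _ t.2] at this
  rwa [map_add, map_smul, ex_single t.2, add_zero]

theorem rr_rot (h2 : (2 : F) ≠ 0) (v : Vm S) : RR (p := p) (M := M) v (v.1, (v.2.2, v.2.1 + v.2.2)) := by
  obtain ⟨w, hw, hwM⟩ := hM.rot
  have e : w = rotU p h2 := Units.ext hw
  subst e
  have hj : rotU p h2 * jq * (rotU p h2)⁻¹ = aq p := mul_inv_eq_iff_eq_mul.mpr (Units.ext (by
    ext i l; fin_cases i <;> fin_cases l <;> simp [rotU, jq, aq, Matrix.mul_apply, Fin.sum_univ_two] <;>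
      field_simp <;> first | ring1 | linear_combination p.eq | linear_combination -p.eq))
  have ha : rotU p h2 * aq p * (rotU p h2)⁻¹ = jq * aq p := mul_inv_eq_iff_eq_mul.mpr (Units.ext (by
    ext i l; fin_cases i <;> fin_cases l <;> simp [rotU, jq, aq, Matrix.mul_apply, Fin.sum_univ_two] <;>
      field_simp <;> first | ring1 | linear_combination p.eq | linear_combination -p.eq))
  obtain ⟨c, hc⟩ : ∃ c, rotU p h2 * qb p v.2 * (rotU p h2)⁻¹ = sg c * qb p (v.2.2, v.2.1 + v.2.2) := by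
    obtain ⟨-, d, f⟩ := v
    rcases zm_cases d with rfl | rfl <;> rcases zm_cases f with rfl | rfl
    · exact ⟨0, by simp [qb, qel]⟩
    · exact ⟨0, by simp [qb, qel, ha]⟩
    · exact ⟨0, by simp [qb, qel, hj]⟩
    · refine ⟨0, ?_⟩
      have e : qb p (1, 1) = jq * aq p := by simp [qb, qel]
      have e' : qb p ((1 : ZMod 2), (1 : ZMod 2) + 1) = (jq : GL (Fin 2) F) := by
        rw [show (1 : ZMod 2) + 1 = 0 from by decide, qb_jq]
      rw [sg_zero, one_mul, e, e', show rotU p h2 * (jq * aq p) * (rotU p h2)⁻¹ =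
        rotU p h2 * jq * (rotU p h2)⁻¹ * (rotU p h2 * aq p * (rotU p h2)⁻¹) by group, hj, ha, ← mul_assoc, aq_jq,
        neg_mul, mul_assoc, aq_sq, mul_neg, mul_one, neg_neg]
  refine ⟨cst (rotU p h2), cst_mem_LR hwM, nr_cst p (rotU_conj p h2), 0, fun _ _ => rfl, ?_⟩
  rw [add_zero]
  exact cst_conj p hc _ _

theorem rr_had (h2 : (2 : F) ≠ 0) (t : ↥S) (v : Vm S) :
    RR (p := p) (M := M) v ((Function.update v.1.1 t (v.1.2 t), Function.update v.1.2 t (v.1.1 t)),
      (v.2.1 + v.2.2, v.2.2)) := by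
  obtain ⟨g, hg, hgr, -, -, hfix, hc⟩ := had1_spec h2 hM (t : Fin j)
  refine ⟨g, mem_LR.2 ⟨hg, fun i hi => hfix i fun e => hi (e ▸ t.2)⟩, hgr, 0, fun _ _ => rfl, ?_⟩
  have := hc (ex S v.1.1) (ex S v.1.2) v.2
  have e : ∀ (a : ↥S → ZMod 2) (c : ZMod 2), ex S (Function.update a t c) = Function.update (ex S a) (t : Fin j) c := by
    intro a c
    funext i
    by_cases hi : i ∈ S
    · simp [ex_mem _ hi, Function.update_apply, Subtype.ext_iff]
    · rw [ex_not_mem _ hi, Function.update_of_ne (fun e : i = t => hi (e ▸ t.2)), ex_not_mem _ hi]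
  rw [e, e, add_zero]
  rwa [ex_mem _ t.2, ex_mem _ t.2] at this

/-- Upper parts reach the sign or the product of sign and translation at one place. -/
theorem rr_upper (h2 : (2 : F) ≠ 0) (t : ↥S) {v : Vec S} (hv : v ≠ 0) (b : ZMod 2 × ZMod 2) :
    ∃ b', RR (p := p) (M := M) (v, b) ((0, Pi.single t 1), b') ∨
      RR (p := p) (M := M) (v, b) ((Pi.single t 1, Pi.single t 1), b') := by
  by_cases hcard : 2 ≤ S.card
  · rcases C6Plus10.reach_std h2 (base_comap hM) (Finset.disjoint_empty_right S) hcard t hv with h | ⟨-, -, h⟩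
    · exact ⟨b, Or.inl (rr_up hM h b)⟩
    · exact ⟨b, Or.inr (rr_up hM h b)⟩
  have hall : ∀ i : ↥S, i = t := fun i => Subtype.ext (Finset.card_le_one.1 (by omega) _ i.2 _ t.2)
  have ev : ∀ a : ↥S → ZMod 2, a = a t • Pi.single t 1 := fun a => funext fun i => by rw [hall i]; simp
  obtain ⟨x, z⟩ := v
  have hx := ev x
  have hz := ev z
  rcases zm_cases (x t) with ex1 | ex1 <;> rcases zm_cases (z t) with ez | ez <;>
    rw [ex1] at hx <;> rw [ez] at hz <;> simp only [zero_smul, one_smul] at hx hz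
  · exact absurd (Prod.ext hx hz) hv
  · exact ⟨b, Or.inl (by rw [hx, hz]; exact RR.refl' hM _)⟩
  · refine ⟨(b.1 + b.2, b.2), Or.inl ?_⟩
    have h := rr_had hM h2 t ((x, z), b)
    dsimp only at h
    rwa [ex1, ez, show Function.update x t 0 = 0 from funext fun i => by rw [hall i]; simp,
      show Function.update z t 1 = Pi.single t 1 from funext fun i => by rw [hall i]; simp] at h
  · exact ⟨b, Or.inr (by rw [hx, hz]; exact RR.refl' hM _)⟩

/-- Every free element reaches the free sign or the complex structure of the last qubit. -/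
theorem rr_reach (h2 : (2 : F) ≠ 0) (t : ↥S) {v : Vm S} (hv : v ≠ 0) :
    RR (p := p) (M := M) v ((0, Pi.single t 1), (0, 0)) ∨ RR (p := p) (M := M) v ((0, 0), (1, 0)) := by
  have rot : ∀ (u : Vec S) (b b' : ZMod 2 × ZMod 2), b ≠ 0 → b' ≠ 0 → RR (p := p) (M := M) (u, b) (u, b') := by
    intro u b b' hb hb'
    have h1 := rr_rot hM h2 (u, b)
    have h3 := RR.trans' hM h1 (rr_rot hM h2 _)
    have key : ∀ x y : ZMod 2 × ZMod 2, x ≠ 0 → y ≠ 0 →
        y = x ∨ y = (x.2, x.1 + x.2) ∨ y = (x.1 + x.2, x.2 + (x.1 + x.2)) := by decide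
    rcases key b b' hb hb' with rfl | rfl | rfl
    · exact RR.refl' hM _
    · exact h1
    · exact h3
  obtain ⟨u, b⟩ := v
  by_cases hu : u = 0
  · exact Or.inr (hu ▸ rot 0 b (1, 0) (fun e => hv (by rw [hu, e]; rfl)) (by decide))
  -- from a sign at the place
  have fromZ : ∀ b', RR (p := p) (M := M) ((0, Pi.single t 1), b') ((0, Pi.single t 1), (0, 0)) ∨
      RR (p := p) (M := M) ((0, Pi.single t 1), b') ((0, 0), (1, 0)) := by
    intro b'
    by_cases hb : b' = 0
    · exact Or.inl (hb ▸ RR.refl' hM _)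
    refine Or.inr (RR.trans' hM (rot _ b' (0, 1) hb (by decide)) (RR.trans' hM (rr_ctl hM t _) ?_))
    convert rot (0 : Vec S) (0, 1) (1, 0) (by decide) (by decide) using 3 <;>
      first
        | (simp [CharTwo.add_self_eq_zero]; done)
        | exact funext fun i => by simp [CharTwo.add_self_eq_zero]
  have step : ∀ b', ∀ w : Vm S, RR (p := p) (M := M) (u, b) w → w = ((0, Pi.single t 1), b') →
      RR (p := p) (M := M) (u, b) ((0, Pi.single t 1), (0, 0)) ∨ RR (p := p) (M := M) (u, b) ((0, 0), (1, 0)) := by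
    rintro b' _ h rfl
    exact (fromZ b').imp (RR.trans' hM h) (RR.trans' hM h)
  obtain ⟨b', h | h⟩ := rr_upper hM h2 t hu b
  · exact step b' _ h rfl
  · -- from a product of sign and translation
    by_cases hb : b' = 0
    · subst hb
      refine step (1, 0) _ (RR.trans' hM h (RR.trans' hM (rr_ctl hM t _) (rr_had hM h2 t _))) ?_
      simp [Function.update_eq_iff, CharTwo.add_self_eq_zero]
      exact ⟨fun i hi hne => by simp [hne], fun i hi hne => by simp [hne]⟩
    · refine step (0, 0) _ (RR.trans' hM (RR.trans' hM h (rot _ b' (1, 0) hb (by decide)))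
        (RR.trans' hM (rr_ctl hM t _) (rr_had hM h2 t _))) ?_
      simp [Function.update_eq_iff, CharTwo.add_self_eq_zero, show (1 : ZMod 2) + 1 = 0 from by decide]
      exact ⟨fun i hi hne => by simp [hne], fun i hi hne => by simp [hne]⟩

end Cfsg.Agent.C6Minus10
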