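import Cfsg.Agent.Lib.C6Plus10Step
import Cfsg.Agent.Lib.C6Plus10Block
import Cfsg.Agent.Lib.C6Plus10Cent

/-!
The core: an overgroup of the normaliser all of whose diagonal signs are quadratic is contained in it.
-/

set_option autoImplicit false
set_option linter.unusedSectionVars false

namespace Cfsg.Agent.C6Plus10

open Matrix
open scoped MatrixGroups

variable {F : Type*} [Field F] [Finite F] {k : ℕ} {M : Subgroup (GL (Pt k) F)}

/-- All levels normalise. -/
theorem lev_all (h2 : (2 : F) ≠ 0) (hM : Base M) (hS : Signs M) (hk : 4 ≤ k) :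
    ∀ n (S : Finset (Fin k)), S.card = n → (∀ q, q ∉ S → Lev M S {q}) ∧ Lev M S ∅ := by
  have hB : BlockMon M := fun a q haq g hg => block_mon h2 hM hS haq hk hg
  have hC : CentLevel M := fun S T hST hT hS2 g hg h1 h3 => cent_level h2 hM hS hk hST hT hS2 hg h1 h3
  intro n
  induction n using Nat.strong_induction_on with
  | _ n ih =>
    intro S hS'
    rcases n with _ | _ | n
    · rw [Finset.card_eq_zero] at hS'
      subst hS'
      exact ⟨fun q _ => lev_zero_complex h2 hM hS hB hk q, lev_zero_real h2 hM hS⟩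
    · obtain ⟨a, rfl⟩ := Finset.card_eq_one.1 hS'
      exact ⟨fun q hq => lev_one_complex h2 hM hS hB hk (fun e : a = q => hq (by simp [e])),
        lev_one_real h2 hM hS hB hk a⟩
    obtain ⟨a, ha⟩ := Finset.card_pos.1 (show 0 < S.card by omega)
    have hlow := ih (n + 1) (by omega) (S.erase a) (by rw [Finset.card_erase_of_mem ha]; omega)
    have hcx : ∀ q, q ∉ S → Lev M S {q} := fun q hq =>
      step_complex h2 hM (Finset.disjoint_singleton_right.2 hq) (by simp) (by omega) hC (a := ⟨a, ha⟩)
        (hlow.1 q fun h => hq (Finset.mem_of_mem_erase h)) (fun h => absurd h (Finset.singleton_ne_empty q))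
        (Finset.mem_singleton_self q)
    exact ⟨hcx, step_real h2 hM (Finset.disjoint_empty_right S) (by simp) (by omega) hC (a := ⟨a, ha⟩) hlow.2
      (fun _ => hlow.1 a (Finset.notMem_erase a S)) rfl⟩

/-- The whole group normalises. -/
theorem core (h2 : (2 : F) ≠ 0) (hM : Base M) (hS : Signs M) (hk : 4 ≤ k) {g : GL (Pt k) F} (hg : g ∈ M) : Nr g := by
  refine (lev_all h2 hM hS hk _ Finset.univ rfl).2 g (mem_LK_of_conj hg fun u w hs => ?_)
  have hu : u = 0 := funext fun i => hs.hu i (by simp)
  have hw : w = 0 := funext fun i => hs.hw i (Finset.mem_univ i)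
  rw [hu, hw, pau_zero, mul_one, mul_inv_cancel]

end Cfsg.Agent.C6Plus10
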