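import Cfsg.Agent.Lib.C6Plus10FinishSigns

/-!
All products of two transpositions of points, from all pairs of negative signs.
-/

set_option autoImplicit false
set_option linter.unusedSectionVars false

namespace Cfsg.Agent.C6Plus10

open Matrix
open scoped MatrixGroups

variable {F : Type*} [Field F] {k : ℕ} {M : Subgroup (GL (Pt k) F)}

/-- The permutations whose matrices lie in the group. -/
def Perms (M : Subgroup (GL (Pt k) F)) : Subgroup (Equiv.Perm (Pt k)) where
  carrier := {π | pm F π ∈ M}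
  mul_mem' {a b} ha hb := by
    show pm F (a * b) ∈ M
    rw [← pm_mul]; exact M.mul_mem ha hb
  one_mem' := by show pm F 1 ∈ M; rw [pm_one]; exact M.one_mem
  inv_mem' {a} ha := by
    show pm F a⁻¹ ∈ M
    rw [← pm_inv]; exact M.inv_mem ha

theorem pt_ne_add {p : Pt k} {v : Pt k} (i : Fin k) (h : v i = 1) : p ≠ p + v := fun e => by
  simpa [h] using congrFun e i

/-- An exchange of two parallel sides of a plane. -/
theorem plane_mem (hM : Base M) (h2s : ∀ p q : Pt k, sd F (two p q) ∈ M) {c d : Fin k} (hcd : c ≠ d) (p : Pt k) :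
    Equiv.swap p (p + pe c) * Equiv.swap (p + pe d) (p + pe d + pe c) ∈ Perms M := by
  classical
  let g : Pt k → ZMod 2 := fun x => if ∀ i, i ≠ c → i ≠ d → x i = p i then 1 else 0
  have hg : ∀ x y : Pt k, (∀ i, i ≠ c → i ≠ d → x i = y i) → g x = g y := fun x y h => by
    simp only [g]
    congr 1
    exact propext (forall_congr' fun i => forall_congr' fun h1 => forall_congr' fun h3 => by rw [h i h1 h3])
  have hflat : ∀ x, (∀ i, i ≠ c → i ≠ d → x i = p i) →
      x = p ∨ x = p + pe c ∨ x = p + pe d ∨ x = p + pe d + pe c := by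
    intro x hx
    have hrest : ∀ v : Pt k, (∀ i, i ≠ c → i ≠ d → v i = 0) → x c = p c + v c → x d = p d + v d → x = p + v := by
      intro v hv h1 h3
      funext i
      rcases eq_or_ne i c with rfl | hic
      · exact h1
      rcases eq_or_ne i d with rfl | hid
      · exact h3
      rw [Pi.add_apply, hv i hic hid, add_zero, hx i hic hid]
    have off : ∀ (a : Fin k) i, i ≠ a → pe a i = 0 := fun a i h => pe_ne h
    rcases zm_cases (x c + p c) with e | e <;> rcases zm_cases (x d + p d) with e' | e'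
    · left
      simpa using hrest 0 (fun _ _ _ => rfl) (by simpa using CharTwo.add_eq_zero.1 e) (by simpa using CharTwo.add_eq_zero.1 e')
    · right; right; left
      exact hrest _ (fun i _ h => off d i h) (by rw [off d c hcd, add_zero]; exact CharTwo.add_eq_zero.1 e)
        (by rw [pe_self, ← e']; grind)
    · right; left
      exact hrest _ (fun i h _ => off c i h) (by rw [pe_self, ← e]; grind)
        (by rw [off c d hcd.symm, add_zero]; exact CharTwo.add_eq_zero.1 e')
    · right; right; right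
      rw [add_assoc]
      exact hrest _ (fun i h h' => by simp [off c i h, off d i h'])
        (by rw [Pi.add_apply, pe_self, off d c hcd, zero_add, ← e]; grind)
        (by rw [Pi.add_apply, pe_self, off c d hcd.symm, add_zero, ← e']; grind)
  have n1 : p ≠ p + pe c := pt_ne_add c (pe_self c)
  have n2 : p ≠ p + pe d := pt_ne_add d (pe_self d)
  have n3 : p ≠ p + pe d + pe c := by
    rw [add_assoc]; exact pt_ne_add c (by simp [pe_ne hcd])
  have n4 : p + pe c ≠ p + pe d := fun e => by simpa [pe_ne hcd] using congrFun (add_left_cancel e) c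
  have n5 : p + pe c ≠ p + pe d + pe c := fun e => n2 (add_right_cancel e)
  have n6 : p + pe d ≠ p + pe d + pe c := pt_ne_add c (pe_self c)
  have hp : ∀ v : Pt k, (∀ i, i ≠ c → i ≠ d → v i = 0) → g (p + v) = 1 := fun v hv =>
    if_pos fun i h h' => by simp [hv i h h']
  have gp : g p = 1 := if_pos fun _ _ _ => rfl
  have gc : g (p + pe c) = 1 := hp _ fun i h _ => pe_ne h
  have gd : g (p + pe d) = 1 := hp _ fun i _ h => pe_ne h
  have gdc : g (p + pe d + pe c) = 1 := by
    rw [add_assoc]; exact hp _ fun i h h' => by simp [pe_ne h, pe_ne h']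
  have hsd : sd F (fun x => g x * x c) ∈ M := by
    have := h2s (p + (1 + p c) • pe c) (p + (1 + p c) • pe c + pe d)
    convert this using 2
    funext x
    by_cases hx : ∀ i, i ≠ c → i ≠ d → x i = p i
    · simp only [g, if_pos hx, one_mul]
      rcases zm_cases (p c) with hc | hc <;> rcases hflat x hx with e | e | e | e <;>
        simp [e, two, hc, n1, n1.symm, n2, n2.symm, n3, n3.symm, n4, n4.symm, n5, n5.symm, n6, n6.symm,
          pe_ne hcd, show (1 : ZMod 2) + 1 = 0 by decide, add_right_comm p (pe c) (pe d)]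
    · have hout : ∀ v : Pt k, (∀ i, i ≠ c → i ≠ d → v i = 0) → x ≠ p + v := fun v hv e => hx fun i h h' => by
        simp [e, hv i h h']
      simp only [g, if_neg hx, zero_mul, two]
      rw [if_neg (hout _ fun i h _ => by simp [pe_ne h]),
        if_neg (by rw [add_assoc]; exact hout _ fun i h h' => by simp [pe_ne h, pe_ne h']), add_zero]
  have := shift_mem hM hcd g hg hsd
  show pm F _ ∈ M
  convert this using 2
  ext1 x
  rw [shiftPerm_apply, Equiv.Perm.mul_apply]
  by_cases hx : ∀ i, i ≠ c → i ≠ d → x i = p i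
  · rcases hflat x hx with e | e | e | e <;> rw [e]
    · rw [gp, one_smul, Equiv.swap_apply_of_ne_of_ne n2 n3, Equiv.swap_apply_left]
    · rw [gc, one_smul, Equiv.swap_apply_of_ne_of_ne n4 n5, Equiv.swap_apply_right, pt_add_cancel]
    · rw [gd, one_smul, Equiv.swap_apply_left, Equiv.swap_apply_of_ne_of_ne n3.symm n5.symm]
    · rw [gdc, one_smul, Equiv.swap_apply_right, Equiv.swap_apply_of_ne_of_ne n2.symm n4.symm, pt_add_cancel]
  · have hne : ∀ v : Pt k, (∀ i, i ≠ c → i ≠ d → v i = 0) → x ≠ p + v := fun v hv e => hx fun i h h' => by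
      simp [e, hv i h h']
    have m0 : x ≠ p := fun e => hx fun i _ _ => by rw [e]
    have m1 := hne (pe c) fun i h _ => pe_ne h
    have m2 := hne (pe d) fun i _ h => pe_ne h
    have m3 : x ≠ p + pe d + pe c := by
      rw [add_assoc]; exact hne _ fun i h h' => by simp [pe_ne h, pe_ne h']
    rw [show g x = 0 from if_neg hx, zero_smul, add_zero, Equiv.swap_apply_of_ne_of_ne m2 m3,
      Equiv.swap_apply_of_ne_of_ne m0 m1]

/-- The square of two exchanges sharing one point. -/
theorem swaps_sq {α : Type*} [DecidableEq α] {p A B C A' B' C' : α} (h : [p, A, B, C, A', B', C'].Nodup) :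
    (Equiv.swap p A * Equiv.swap B C * (Equiv.swap p A' * Equiv.swap B' C')) ^ 2 =
      Equiv.swap p A' * Equiv.swap p A := by
  simp only [List.nodup_cons, List.mem_cons, List.not_mem_nil, or_false, not_or, List.nodup_nil, and_true,
    not_false_eq_true] at h
  obtain ⟨⟨h1, h2, h3, h4, h5, h6⟩, ⟨g2, g3, g4, g5, g6⟩, ⟨f3, f4, f5, f6⟩, ⟨e4, e5, e6⟩, ⟨d5, d6⟩, c6⟩ := h
  ext1 x
  simp only [pow_two, Equiv.Perm.mul_apply]
  rcases eq_or_ne x p with e | x0
  · rw [e]; simp [Equiv.swap_apply_def, h1, Ne.symm h1, h2, Ne.symm h2, h3, Ne.symm h3, h4, Ne.symm h4, h5, Ne.symm h5, h6, Ne.symm h6, g2, Ne.symm g2, g3, Ne.symm g3, g4, Ne.symm g4, g5, Ne.symm g5, g6, Ne.symm g6, f3, Ne.symm f3, f4, Ne.symm f4, f5, Ne.symm f5, f6, Ne.symm f6, e4, Ne.symm e4, e5, Ne.symm e5, e6, Ne.symm e6, d5, Ne.symm d5, d6, Ne.symm d6, c6, Ne.symm c6]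
  rcases eq_or_ne x A with e | x1
  · rw [e]; simp [Equiv.swap_apply_def, h1, Ne.symm h1, h2, Ne.symm h2, h3, Ne.symm h3, h4, Ne.symm h4, h5, Ne.symm h5, h6, Ne.symm h6, g2, Ne.symm g2, g3, Ne.symm g3, g4, Ne.symm g4, g5, Ne.symm g5, g6, Ne.symm g6, f3, Ne.symm f3, f4, Ne.symm f4, f5, Ne.symm f5, f6, Ne.symm f6, e4, Ne.symm e4, e5, Ne.symm e5, e6, Ne.symm e6, d5, Ne.symm d5, d6, Ne.symm d6, c6, Ne.symm c6]
  rcases eq_or_ne x B with e | x2
  · rw [e]; simp [Equiv.swap_apply_def, h1, Ne.symm h1, h2, Ne.symm h2, h3, Ne.symm h3, h4, Ne.symm h4, h5, Ne.symm h5, h6, Ne.symm h6, g2, Ne.symm g2, g3, Ne.symm g3, g4, Ne.symm g4, g5, Ne.symm g5, g6, Ne.symm g6, f3, Ne.symm f3, f4, Ne.symm f4, f5, Ne.symm f5, f6, Ne.symm f6, e4, Ne.symm e4, e5, Ne.symm e5, e6, Ne.symm e6, d5, Ne.symm d5, d6, Ne.symm d6, c6, Ne.symm c6]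
  rcases eq_or_ne x C with e | x3
  · rw [e]; simp [Equiv.swap_apply_def, h1, Ne.symm h1, h2, Ne.symm h2, h3, Ne.symm h3, h4, Ne.symm h4, h5, Ne.symm h5, h6, Ne.symm h6, g2, Ne.symm g2, g3, Ne.symm g3, g4, Ne.symm g4, g5, Ne.symm g5, g6, Ne.symm g6, f3, Ne.symm f3, f4, Ne.symm f4, f5, Ne.symm f5, f6, Ne.symm f6, e4, Ne.symm e4, e5, Ne.symm e5, e6, Ne.symm e6, d5, Ne.symm d5, d6, Ne.symm d6, c6, Ne.symm c6]
  rcases eq_or_ne x A' with e | x4
  · rw [e]; simp [Equiv.swap_apply_def, h1, Ne.symm h1, h2, Ne.symm h2, h3, Ne.symm h3, h4, Ne.symm h4, h5, Ne.symm h5, h6, Ne.symm h6, g2, Ne.symm g2, g3, Ne.symm g3, g4, Ne.symm g4, g5, Ne.symm g5, g6, Ne.symm g6, f3, Ne.symm f3, f4, Ne.symm f4, f5, Ne.symm f5, f6, Ne.symm f6, e4, Ne.symm e4, e5, Ne.symm e5, e6, Ne.symm e6, d5, Ne.symm d5, d6, Ne.symm d6, c6, Ne.symm c6]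
  rcases eq_or_ne x B' with e | x5
  · rw [e]; simp [Equiv.swap_apply_def, h1, Ne.symm h1, h2, Ne.symm h2, h3, Ne.symm h3, h4, Ne.symm h4, h5, Ne.symm h5, h6, Ne.symm h6, g2, Ne.symm g2, g3, Ne.symm g3, g4, Ne.symm g4, g5, Ne.symm g5, g6, Ne.symm g6, f3, Ne.symm f3, f4, Ne.symm f4, f5, Ne.symm f5, f6, Ne.symm f6, e4, Ne.symm e4, e5, Ne.symm e5, e6, Ne.symm e6, d5, Ne.symm d5, d6, Ne.symm d6, c6, Ne.symm c6]
  rcases eq_or_ne x C' with e | x6
  · rw [e]; simp [Equiv.swap_apply_def, h1, Ne.symm h1, h2, Ne.symm h2, h3, Ne.symm h3, h4, Ne.symm h4, h5, Ne.symm h5, h6, Ne.symm h6, g2, Ne.symm g2, g3, Ne.symm g3, g4, Ne.symm g4, g5, Ne.symm g5, g6, Ne.symm g6, f3, Ne.symm f3, f4, Ne.symm f4, f5, Ne.symm f5, f6, Ne.symm f6, e4, Ne.symm e4, e5, Ne.symm e5, e6, Ne.symm e6, d5, Ne.symm d5, d6, Ne.symm d6, c6, Ne.symm c6]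
  simp [Equiv.swap_apply_def, x0, x1, x2, x3, x4, x5, x6]

/-- All even permutations, as products of two transpositions. -/
theorem swaps_mem (hM : Base M) (hk : 4 ≤ k) (h2s : ∀ p q : Pt k, sd F (two p q) ∈ M) {a b a' b' : Pt k}
    (hab : a ≠ b) (hab' : a' ≠ b') : Equiv.swap a b * Equiv.swap a' b' ∈ Perms M := by
  classical
  set H := Perms M
  -- two edges at a point
  have star : ∀ (p : Pt k) (c c' : Fin k), Equiv.swap p (p + pe c) * Equiv.swap p (p + pe c') ∈ H := by
    intro p c c'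
    rcases eq_or_ne c c' with rfl | hcc
    · rw [Equiv.swap_mul_self]; exact H.one_mem
    obtain ⟨d, hd⟩ := exists_outside ({c, c'} : Finset (Fin k)) (by
      have := Finset.card_le_two (a := c) (b := c'); omega)
    obtain ⟨d', hd'⟩ := exists_outside ({c, c', d} : Finset (Fin k)) (by
      have := Finset.card_le_three (a := c) (b := c') (c := d); omega)
    simp only [Finset.mem_insert, Finset.mem_singleton, not_or] at hd hd'
    obtain ⟨hdc, hdc'⟩ := hd
    obtain ⟨hd'c, hd'c', hd'd⟩ := hd'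
    have hnd : [p, p + pe c, p + pe d, p + pe d + pe c, p + pe c', p + pe d', p + pe d' + pe c'].Nodup := by
      simp only [List.nodup_cons, List.mem_cons, List.not_mem_nil, or_false, not_or, List.nodup_nil, and_true,
        not_false_eq_true]
      have key : ∀ {u v : Pt k} (i : Fin k), u i ≠ v i → u ≠ v := fun i h e => h (by rw [e])
      refine ⟨⟨key c ?_, key d ?_, key c ?_, key c' ?_, key d' ?_, key c' ?_⟩, ⟨key c ?_, key d ?_, key c ?_, key c ?_, key c ?_⟩,
        ⟨key c ?_, key d ?_, key d ?_, key d ?_⟩, ⟨key c ?_, key c ?_, key c ?_⟩, ⟨key c' ?_, key d' ?_⟩, key c' ?_⟩ <;>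
        simp [pe, hcc, hcc.symm, hdc, Ne.symm hdc, hdc', Ne.symm hdc', hd'c, Ne.symm hd'c, hd'c', Ne.symm hd'c', hd'd,
          Ne.symm hd'd]
    have hm := H.pow_mem (H.mul_mem (plane_mem hM h2s (Ne.symm hdc) p) (plane_mem hM h2s (Ne.symm hd'c') p)) 2
    rw [swaps_sq hnd] at hm
    simpa [_root_.mul_inv_rev, Equiv.swap_inv] using H.inv_mem hm
  let i₀ : Fin k := ⟨0, by omega⟩
  let e₀ : Equiv.Perm (Pt k) := Equiv.swap 0 (0 + pe i₀)
  have tr : ∀ {s t u : Equiv.Perm (Pt k)}, t * t = 1 → s * t ∈ H → t * u ∈ H → s * u ∈ H := fun {s t u} ht h h' => by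
    have := H.mul_mem h h'
    rwa [mul_assoc, ← mul_assoc t, ht, one_mul] at this
  have sym : ∀ {x y z w : Pt k}, Equiv.swap x y * Equiv.swap z w ∈ H → Equiv.swap z w * Equiv.swap x y ∈ H :=
    fun h => by simpa [_root_.mul_inv_rev, Equiv.swap_inv] using H.inv_mem h
  -- all edges
  have edge : ∀ (A : Finset (Fin k)) (c : Fin k),
      Equiv.swap (∑ i ∈ A, pe i) ((∑ i ∈ A, pe i) + pe c) * e₀ ∈ H := by
    intro A
    induction A using Finset.induction_on with
    | empty => intro c; rw [Finset.sum_empty]; exact star 0 c i₀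
    | @insert j A hj ih =>
      intro c
      refine tr (Equiv.swap_mul_self _ _) (star _ c j) ?_
      rw [Finset.sum_insert hj, Equiv.swap_comm, add_comm (pe j), pt_add_cancel]
      exact ih j
  have edge' : ∀ (p : Pt k) (c : Fin k), Equiv.swap p (p + pe c) * e₀ ∈ H := fun p c => by
    have := edge (Finset.univ.filter fun i => p i = 1) c
    rwa [show ∑ i ∈ Finset.univ.filter (fun i => p i = 1), pe i = p from funext fun j => by
      rcases zm_cases (p j) with hj | hj <;> rw [Finset.sum_apply, hj] <;> simp [pe, Pi.single_apply, hj]] at this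
  -- all transpositions
  have all : ∀ (A : Finset (Fin k)) (x : Pt k), x ≠ x + ∑ i ∈ A, pe i →
      Equiv.swap x (x + ∑ i ∈ A, pe i) * e₀ ∈ H := by
    intro A
    induction A using Finset.induction_on with
    | empty => intro x h; exact absurd (by simp) h
    | @insert j A hj ih =>
      intro x hx
      rw [Finset.sum_insert hj, add_comm (pe j), ← add_assoc] at hx ⊢
      set y := x + ∑ i ∈ A, pe i with hy
      rcases eq_or_ne x y with hxy | hxy
      · rw [← hxy]; exact edge' x j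
      have h1 : Equiv.swap y (y + pe j) * Equiv.swap x y ∈ H :=
        tr (Equiv.swap_mul_self _ _) (edge' y j) (sym (ih x hxy))
      refine tr (Equiv.swap_mul_self _ _) ?_ (edge' y j)
      have e : Equiv.swap x (y + pe j) = Equiv.swap y (y + pe j) * Equiv.swap x y * Equiv.swap y (y + pe j) := by
        rw [Equiv.swap_comm x y, Equiv.swap_comm x (y + pe j)]
        rw [show Equiv.swap y (y + pe j) * Equiv.swap y x * Equiv.swap y (y + pe j) =
          Equiv.swap y (y + pe j) * Equiv.swap y x * (Equiv.swap y (y + pe j))⁻¹ by rw [Equiv.swap_inv],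
          ← Equiv.swap_apply_apply, Equiv.swap_apply_left, Equiv.swap_apply_of_ne_of_ne hxy hx]
      rw [e, mul_assoc, Equiv.swap_mul_self, mul_one]
      exact h1
  have all' : ∀ {x y : Pt k}, x ≠ y → Equiv.swap x y * e₀ ∈ H := fun {x y} h => by
    have hs : x + ∑ i ∈ Finset.univ.filter (fun i => (x + y) i = 1), pe i = y := by
      rw [show ∑ i ∈ Finset.univ.filter (fun i => (x + y) i = 1), pe i = x + y from funext fun j => by
        rcases zm_cases ((x + y) j) with hj | hj <;> rw [Finset.sum_apply, hj] <;>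
          simp [pe, Pi.single_apply] at * <;> simp [hj], ← add_assoc, pt_add_self, zero_add]
    have := all (Finset.univ.filter fun i => (x + y) i = 1) x (by rw [hs]; exact h)
    rwa [hs] at this
  exact tr (Equiv.swap_mul_self _ _) (all' hab) (sym (all' hab'))

end Cfsg.Agent.C6Plus10
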