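import Cfsg.Agent.Lib.C6Plus10Alg

/-!
One diagonal element whose signs are not quadratic gives all diagonal elements with an even number of
negative signs and all even permutations of the points.
-/

set_option autoImplicit false
set_option linter.unusedSectionVars false

namespace Cfsg.Agent.C6Plus10

open Matrix
open scoped MatrixGroups

variable {F : Type*} [Field F] {k : ℕ} {M : Subgroup (GL (Pt k) F)}

theorem exists_outside (A : Finset (Fin k)) (h : A.card < k) : ∃ d, d ∉ A := by
  by_contra hc
  push Not at hc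
  have := Finset.card_le_card (show Finset.univ ⊆ A from fun i _ => hc i)
  rw [Finset.card_univ, Fintype.card_fin] at this
  omega

theorem pt_neg (a : Pt k) : -a = a := funext fun _ => CharTwo.neg_eq _

/-- A permutation shifting one coordinate by a function of the others. -/
def shiftPerm (c : Fin k) (g : Pt k → ZMod 2) (h : ∀ x, g (x + pe c) = g x) : Equiv.Perm (Pt k) :=
  Function.Involutive.toPerm (fun x => x + g x • pe c) fun x => by
    rcases zm_cases (g x) with hg | hg
    · simp [hg]
    · simp [hg, h, pt_add_cancel]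

theorem shiftPerm_apply (c : Fin k) (g : Pt k → ZMod 2) (h : ∀ x, g (x + pe c) = g x) (x : Pt k) :
    shiftPerm c g h x = x + g x • pe c := rfl

theorem shiftPerm_symm (c : Fin k) (g : Pt k → ZMod 2) (h : ∀ x, g (x + pe c) = g x) :
    (shiftPerm c g h).symm = shiftPerm c g h := Function.Involutive.toPerm_symm _

theorem affPerm_translate (a : Pt k) : AffPerm (Equiv.addRight a) := fun x y z => by
  funext i
  simp only [Equiv.coe_addRight, Pi.add_apply]
  grind

theorem affPerm_cnot {i j : Fin k} (hij : i ≠ j) :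
    AffPerm (shiftPerm j (fun x => x i) fun x => by simp [pe_ne hij]) := fun x y z => by
  simp only [shiftPerm_apply, Pi.add_apply, add_smul]
  abel

/-- A permutation of the coordinates. -/
def coordPerm (σ : Equiv.Perm (Fin k)) : Equiv.Perm (Pt k) :=
  ⟨fun x => x ∘ σ, fun x => x ∘ σ.symm, fun x => by funext i; simp, fun x => by funext i; simp⟩

theorem affPerm_coord (σ : Equiv.Perm (Fin k)) : AffPerm (coordPerm σ) := fun _ _ _ => rfl

theorem sd_add_mem {f g : Pt k → ZMod 2} (hf : sd F f ∈ M) (hg : sd F g ∈ M) :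
    sd F (fun x => f x + g x) ∈ M := by
  have := M.mul_mem hf hg
  rwa [sd_mul] at this

theorem sd_comp_mem {π : Equiv.Perm (Pt k)} {f : Pt k → ZMod 2} (hπ : pm F π ∈ M) (hf : sd F f ∈ M) :
    sd F (f ∘ π.symm) ∈ M := by
  have := M.mul_mem (M.mul_mem hπ hf) (M.inv_mem hπ)
  rwa [pm_sd, mul_inv_cancel_right] at this

/-! ### Derivatives -/

theorem dl_comm (a b : Pt k) (f : Pt k → ZMod 2) : dl a (dl b f) = dl b (dl a f) := funext fun x => by
  simp only [dl_apply, add_right_comm x a b]
  ring

theorem dl_dl_self (a : Pt k) (f : Pt k → ZMod 2) : dl a (dl a f) = 0 := funext fun x => by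
  simp only [dl_apply, pt_add_cancel, Pi.zero_apply]
  grind

theorem dl_zero_fun (a : Pt k) : dl a (0 : Pt k → ZMod 2) = 0 := funext fun x => by simp [dl_apply]

theorem dl_of_dl_coord {f : Pt k → ZMod 2} (h : ∀ i, dl (pe i) f = 0) (a : Pt k) : dl a f = 0 :=
  funext fun x => by
    have hc := const_of_dl (s := f) fun i x => congrFun (h i) x
    rw [dl_apply, hc (x + a), hc x, CharTwo.add_self_eq_zero, Pi.zero_apply]

theorem dl_coord_mul {i j : Fin k} (hij : i ≠ j) (f : Pt k → ZMod 2) :
    dl (pe j) (fun x => x i * f x) = fun x => x i * dl (pe j) f x := funext fun x => by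
  simp only [dl_apply, Pi.add_apply, pe_ne hij, add_zero]
  ring

theorem quad_of_coord {f : Pt k → ZMod 2} (h : ∀ i j l, dl (pe i) (dl (pe j) (dl (pe l) f)) = 0) : Quad f := by
  have h1 : ∀ a j l, dl a (dl (pe j) (dl (pe l) f)) = 0 := fun a j l => dl_of_dl_coord (fun i => h i j l) a
  have h3 : ∀ a b l, dl a (dl b (dl (pe l) f)) = 0 := fun a b l => by
    rw [dl_comm]
    exact dl_of_dl_coord (fun j => by rw [dl_comm]; exact h1 a j l) b
  intro a b c x
  refine congrFun (g := (0 : Pt k → ZMod 2)) ?_ x
  rw [dl_comm b c, dl_comm a c]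
  exact dl_of_dl_coord (fun l => by rw [dl_comm (pe l) a, dl_comm (pe l) b]; exact h3 a b l) c

/-- The translations give the derivatives. -/
theorem sd_dl_mem (hM : Base M) {f : Pt k → ZMod 2} (hf : sd F f ∈ M) (a : Pt k) : sd F (dl a f) ∈ M := by
  have := sd_add_mem (sd_comp_mem (hM.aff _ (affPerm_translate a)) hf) hf
  convert this using 2
  funext x
  rw [dl_apply, Function.comp_apply, Equiv.addRight_symm, Equiv.coe_addRight, pt_neg]

/-- One non-quadratic sign function with quadratic coordinate derivatives. -/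
theorem exists_cubic (hM : Base M) {f : Pt k → ZMod 2} (hf : sd F f ∈ M) (hq : ¬ Quad f) :
    ∃ g, sd F g ∈ M ∧ ¬ Quad g ∧ ∀ i, Quad (dl (pe i) g) := by
  classical
  suffices ∀ n, ∀ g : Pt k → ZMod 2, sd F g ∈ M → ¬ Quad g →
      (Finset.univ.filter fun i => dl (pe i) g ≠ 0).card ≤ n → ∃ g, sd F g ∈ M ∧ ¬ Quad g ∧ ∀ i, Quad (dl (pe i) g) from
    this _ f hf hq le_rfl
  intro n
  induction n with
  | zero =>
    intro g _ hg hn
    refine absurd (quad_of_coord fun i j l => ?_) hg
    have : dl (pe l) g = 0 := by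
      by_contra h
      exact Finset.notMem_empty l
        ((Finset.card_eq_zero.1 (Nat.le_zero.1 hn)) ▸ Finset.mem_filter.2 ⟨Finset.mem_univ l, h⟩)
    rw [this, dl_zero_fun, dl_zero_fun]
  | succ n ih =>
    intro g hgM hg hn
    by_cases h : ∀ i, Quad (dl (pe i) g)
    · exact ⟨g, hgM, hg, h⟩
    push Not at h
    obtain ⟨i, hi⟩ := h
    refine ih _ (sd_dl_mem hM hgM _) hi ?_
    have hne : dl (pe i) g ≠ 0 := fun e => hi (by rw [e]; exact fun _ _ _ _ => by simp [dl_apply])
    have hss : (Finset.univ.filter fun j => dl (pe j) (dl (pe i) g) ≠ 0) ⊂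
        Finset.univ.filter fun j => dl (pe j) g ≠ 0 := by
      refine Finset.ssubset_iff_of_subset ?_ |>.2 ⟨i, by simp [hne], by simp [dl_dl_self]⟩
      intro j hj
      simp only [Finset.mem_filter, Finset.mem_univ, true_and] at hj ⊢
      intro e
      rw [dl_comm, e, dl_zero_fun] at hj
      exact hj rfl
    have := Finset.card_lt_card hss
    omega

/-- Conjugation by a transvection multiplies a derivative by a coordinate. -/
theorem sd_cnot_mem (hM : Base M) {f : Pt k → ZMod 2} (hf : sd F f ∈ M) {i j : Fin k} (hij : i ≠ j) :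
    sd F (fun x => x i * dl (pe j) f x) ∈ M := by
  have := sd_add_mem (sd_comp_mem (hM.aff _ (affPerm_cnot hij)) hf) hf
  convert this using 2
  funext x
  rw [Function.comp_apply, shiftPerm_symm, shiftPerm_apply, dl_apply]
  rcases zm_cases (x i) with h | h <;> simp [h, CharTwo.add_self_eq_zero]

/-- A product of coordinates. -/
def pr (A : Finset (Fin k)) (x : Pt k) : ZMod 2 := ∏ i ∈ A, x i

theorem exists_three (hM : Base M) (hk : 4 ≤ k) {f : Pt k → ZMod 2} (hf : sd F f ∈ M) (hq : ¬ Quad f) :
    ∃ A : Finset (Fin k), A.card = 3 ∧ sd F (pr A) ∈ M := by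
  obtain ⟨g, hgM, hg, hd⟩ := exists_cubic hM hf hq
  obtain ⟨a, b, c, hT⟩ : ∃ a b c, dl (pe a) (dl (pe b) (dl (pe c) g)) ≠ 0 := by
    by_contra h
    push Not at h
    exact hg (quad_of_coord h)
  have hab : a ≠ b := by rintro rfl; rw [dl_dl_self] at hT; exact hT rfl
  have hbc : b ≠ c := by rintro rfl; rw [dl_dl_self, dl_zero_fun] at hT; exact hT rfl
  have hac : a ≠ c := by rintro rfl; rw [dl_comm (pe b), dl_dl_self] at hT; exact hT rfl
  have h1 : ∀ x, dl (pe a) (dl (pe b) (dl (pe c) g)) x = 1 := by
    have hc := const_of_dl (s := dl (pe a) (dl (pe b) (dl (pe c) g))) fun i x => hd c _ _ _ x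
    intro x
    rw [hc x]
    refine (zm_cases _).resolve_left fun e => hT (funext fun y => ?_)
    rw [hc y, e, Pi.zero_apply]
  obtain ⟨d, hd'⟩ := exists_outside ({a, b, c} : Finset (Fin k)) (by
    have := Finset.card_le_three (a := a) (b := b) (c := c); omega)
  simp only [Finset.mem_insert, Finset.mem_singleton, not_or] at hd'
  obtain ⟨hda, hdb, hdc⟩ := hd'
  have g1 := sd_cnot_mem hM hgM hdc
  have g2 := sd_cnot_mem hM g1 hbc.symm
  rw [dl_coord_mul hdb] at g2
  have g3 := sd_cnot_mem hM g2 hab.symm
  rw [dl_coord_mul hac.symm, dl_coord_mul hda] at g3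
  refine ⟨{b, c, d}, Finset.card_eq_three.2 ⟨b, c, d, hbc, Ne.symm hdb, Ne.symm hdc, rfl⟩, ?_⟩
  convert g3 using 2
  funext x
  simp only [h1, mul_one]
  rw [pr, Finset.prod_insert (by simp [hbc, Ne.symm hdb]), Finset.prod_pair (Ne.symm hdc)]

/-! ### All even sign changes -/

theorem pr_cubics (hM : Base M) (hk : 4 ≤ k) {f : Pt k → ZMod 2} (hf : sd F f ∈ M) (hq : ¬ Quad f)
    (A : Finset (Fin k)) (hA : A.card = 3) : sd F (pr A) ∈ M := by
  obtain ⟨B, hB, hBM⟩ := exists_three hM hk hf hq
  let e : {x // x ∈ B} ≃ {x // x ∈ A} := Finset.equivOfCardEq (hB.trans hA.symm)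
  let σ : Equiv.Perm (Fin k) := e.extendSubtype
  have hσ : B.map σ.toEmbedding = A := by
    refine Finset.eq_of_subset_of_card_le ?_ (by rw [Finset.card_map, hA, hB])
    intro y hy
    obtain ⟨x, hx, rfl⟩ := Finset.mem_map.1 hy
    exact Equiv.extendSubtype_mem e x hx
  have := sd_comp_mem (hM.aff _ (affPerm_coord σ⁻¹)) hBM
  convert this using 2
  funext x
  rw [← hσ, pr, Finset.prod_map, Function.comp_apply, pr]
  rfl

/-- Conjugation by a pair of Hadamard matrices turns a sign function into a permutation. -/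
theorem shift_mem (hM : Base M) {c d : Fin k} (hcd : c ≠ d) (g : Pt k → ZMod 2)
    (hg : ∀ x y : Pt k, (∀ i, i ≠ c → i ≠ d → x i = y i) → g x = g y)
    (hf : sd F (fun x => g x * x c) ∈ M) :
    pm F (shiftPerm c g fun x => hg _ _ fun i hi _ => by simp [pe_ne hi]) ∈ M := by
  set π := shiftPerm c g fun x => hg _ _ fun i hi _ => by simp [pe_ne hi] with hπ
  obtain ⟨u, hu, huv⟩ := hM.had c d hcd
  have key : pm F π * u = u * sd F (fun x => g x * x c) := by
    refine Units.ext (Matrix.ext fun x y => ?_)
    show (_ * _ : Matrix (Pt k) (Pt k) F) x y = (_ * Matrix.diagonal _ : Matrix (Pt k) (Pt k) F) x y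
    rw [Matrix.mul_diagonal, Matrix.mul_apply, Finset.sum_eq_single (π.symm x), pm_apply,
      π.apply_symm_apply, if_pos rfl, one_mul, huv, shiftPerm_symm, shiftPerm_apply]
    · have hag : (∀ i, i ≠ c → i ≠ d → (x + g x • pe c) i = y i) ↔ ∀ i, i ≠ c → i ≠ d → x i = y i :=
        forall_congr' fun i => forall_congr' fun hi => by simp [pe_ne hi]
      simp only [hh, Matrix.of_apply]
      by_cases h : ∀ i, i ≠ c → i ≠ d → x i = y i
      · rw [if_pos h, if_pos (hag.2 h), mul_assoc, ← sgn_add]
        congr 2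
        rw [Pi.add_apply, Pi.add_apply, Pi.smul_apply, Pi.smul_apply, pe_self, pe_ne hcd.symm, smul_eq_mul,
          smul_eq_mul, hg x y h]
        ring
      · rw [if_neg h, if_neg (mt hag.1 h), zero_mul]
    · intro z _ hz
      rw [pm_apply, if_neg fun e => hz (by rw [e, π.symm_apply_apply]), zero_mul]
    · simp
  rw [eq_mul_inv_of_mul_eq key]
  exact M.mul_mem (M.mul_mem hu hf) (M.inv_mem hu)

theorem pr_congr {A : Finset (Fin k)} {x y : Pt k} (h : ∀ i ∈ A, x i = y i) : pr A x = pr A y :=
  Finset.prod_congr rfl h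

/-- All products of fewer than all coordinates. -/
theorem pr_mem (hM : Base M) (hk : 4 ≤ k) {f : Pt k → ZMod 2} (hf : sd F f ∈ M) (hq : ¬ Quad f) :
    ∀ A : Finset (Fin k), A.card < k → sd F (pr A) ∈ M := by
  suffices ∀ n, ∀ A : Finset (Fin k), A.card = n → n < k → sd F (pr A) ∈ M from fun A hA => this _ A rfl hA
  intro n
  induction n using Nat.strong_induction_on with
  | _ n ih =>
    intro A hA hn
    rcases Nat.lt_or_ge n 3 with h3 | h3
    · refine hM.quad _ ?_
      rcases (show n = 0 ∨ n = 1 ∨ n = 2 by omega) with rfl | rfl | rfl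
      · rw [Finset.card_eq_zero] at hA
        subst hA
        exact (aff_const 1).quad
      · obtain ⟨a, rfl⟩ := Finset.card_eq_one.1 hA
        rw [show pr {a} = ip (pe a) from funext fun x => by simp [pr, ip_pe]]
        exact (aff_ip _).quad
      · obtain ⟨a, b, hab, rfl⟩ := Finset.card_eq_two.1 hA
        rw [show pr {a, b} = fun x => x a * x b from funext fun x => Finset.prod_pair hab]
        exact quad_mul_coord
    rcases Nat.eq_or_lt_of_le h3 with rfl | h4
    · exact pr_cubics hM hk hf hq A hA
    obtain ⟨a, ha⟩ := Finset.card_pos.1 (by omega : 0 < A.card)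
    obtain ⟨b, hb⟩ := Finset.card_pos.1 (show 0 < (A.erase a).card by rw [Finset.card_erase_of_mem ha]; omega)
    obtain ⟨c, hc⟩ := exists_outside A (by omega)
    set S := (A.erase a).erase b
    have hScard : S.card + 2 = n := by
      rw [Finset.card_erase_of_mem hb, Finset.card_erase_of_mem ha]; omega
    have hba : b ≠ a := (Finset.mem_erase.1 hb).1
    have hbA : b ∈ A := (Finset.mem_erase.1 hb).2
    have hca : c ≠ a := fun e => hc (e ▸ ha)
    have hcb : c ≠ b := fun e => hc (e ▸ hbA)
    have hcS : c ∉ S := fun h => hc (Finset.mem_erase.1 (Finset.mem_erase.1 h).2).2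
    have hS : sd F (pr (insert c S)) ∈ M :=
      ih _ (by rw [Finset.card_insert_of_notMem hcS]; omega) _ rfl (by rw [Finset.card_insert_of_notMem hcS]; omega)
    obtain ⟨d, hd⟩ := exists_outside ({a, b, c} : Finset (Fin k)) (by
      have := Finset.card_le_three (a := a) (b := b) (c := c); omega)
    simp only [Finset.mem_insert, Finset.mem_singleton, not_or] at hd
    obtain ⟨hda, hdb, hdc⟩ := hd
    have hτ := shift_mem hM (Ne.symm hdc) (fun x => x a * x b)
      (fun x y h => by simp only [h a hca.symm (Ne.symm hda), h b hcb.symm (Ne.symm hdb)]) (by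
        have := ih 3 (by omega) {a, b, c} (Finset.card_eq_three.2 ⟨a, b, c, hba.symm, hca.symm, hcb.symm, rfl⟩) (by omega)
        convert this using 2
        funext x
        rw [pr, Finset.prod_insert (by simp [hba.symm, hca.symm]), Finset.prod_pair hcb.symm, mul_assoc])
    have := sd_add_mem (sd_comp_mem hτ hS) hS
    convert this using 2
    funext x
    have hsame : pr S (x + (x a * x b) • pe c) = pr S x :=
      pr_congr fun i hi => by simp [pe_ne (show i ≠ c from fun e => hcS (e ▸ hi))]
    have hA' : A = insert a (insert b S) := by rw [Finset.insert_erase hb, Finset.insert_erase ha]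
    rw [Function.comp_apply, shiftPerm_symm, shiftPerm_apply, hA']
    simp only [pr] at hsame ⊢
    rw [Finset.prod_insert hcS, Finset.prod_insert hcS, Finset.prod_insert (by simp [S, hba.symm]),
      Finset.prod_insert (Finset.notMem_erase b _), hsame, Pi.add_apply, Pi.smul_apply, pe_self, smul_eq_mul]
    grind

/-- A pair of negative signs. -/
def two (p q : Pt k) (x : Pt k) : ZMod 2 := (if x = p then 1 else 0) + (if x = q then 1 else 0)

theorem two_adj_mem (hM : Base M) (hk : 4 ≤ k) {f : Pt k → ZMod 2} (hf : sd F f ∈ M) (hq : ¬ Quad f)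
    (p : Pt k) (i : Fin k) : sd F (two p (p + pe i)) ∈ M := by
  have h := pr_mem hM hk hf hq (Finset.univ.erase i) (by
    rw [Finset.card_erase_of_mem (Finset.mem_univ i), Finset.card_univ, Fintype.card_fin]; omega)
  have := sd_comp_mem (hM.aff _ (affPerm_translate (p + fun _ => 1))) h
  convert this using 2
  funext x
  rw [Function.comp_apply, Equiv.addRight_symm, Equiv.coe_addRight, pt_neg]
  have hx : x = p ∨ x = p + pe i ↔ ∀ j, j ≠ i → x j = p j := by
    constructor
    · rintro (rfl | rfl) j hj
      · rfl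
      · simp [pe_ne hj]
    · intro h
      rcases zm_cases (x i + p i) with e | e
      · left
        funext j
        rcases eq_or_ne j i with rfl | hj
        exacts [CharTwo.add_eq_zero.1 e, h j hj]
      · right
        funext j
        rcases eq_or_ne j i with rfl | hj
        · rw [Pi.add_apply, pe_self, ← e]; grind
        · simp [pe_ne hj, h j hj]
  have hne : p ≠ p + pe i := fun e => by simpa using congrFun e i
  have hpr : pr (Finset.univ.erase i) (x + (p + fun _ => 1)) =
      if x = p ∨ x = p + pe i then 1 else 0 := by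
    split_ifs with h
    · refine Finset.prod_eq_one fun j hj => ?_
      simp only [Pi.add_apply, hx.1 h j (Finset.ne_of_mem_erase hj)]
      grind
    · rw [hx] at h
      push Not at h
      obtain ⟨j, hj, hne⟩ := h
      refine Finset.prod_eq_zero (Finset.mem_erase.2 ⟨hj, Finset.mem_univ j⟩) ?_
      simp only [Pi.add_apply]
      rcases zm_cases (x j + p j) with e | e
      · exact absurd (CharTwo.add_eq_zero.1 e) hne
      · grind
  rw [hpr, two]
  rcases eq_or_ne x p with rfl | h1
  · simp [hne]
  · simp [h1]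

theorem two_mem (hM : Base M) (hk : 4 ≤ k) {f : Pt k → ZMod 2} (hf : sd F f ∈ M) (hq : ¬ Quad f)
    (p q : Pt k) : sd F (two p q) ∈ M := by
  have key : ∀ A : Finset (Fin k), sd F (two p (p + ∑ i ∈ A, pe i)) ∈ M := by
    intro A
    induction A using Finset.induction_on with
    | empty =>
      rw [Finset.sum_empty, add_zero, show two p p = fun _ => 0 from funext fun x => CharTwo.add_self_eq_zero _]
      exact hM.quad _ (aff_const 0).quad
    | @insert a A ha ih =>
      have := sd_add_mem ih (two_adj_mem hM hk hf hq (p + ∑ i ∈ A, pe i) a)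
      convert this using 2
      funext x
      rw [Finset.sum_insert ha, add_comm (pe a), ← add_assoc]
      simp only [two]
      grind
  have hsum : p + ∑ i ∈ Finset.univ.filter (fun i => (p + q) i = 1), pe i = q := by
    rw [show ∑ i ∈ Finset.univ.filter (fun i => (p + q) i = 1), pe i = p + q from by
      funext j
      rcases zm_cases ((p + q) j) with hj | hj <;> rw [Finset.sum_apply, hj] <;>
        simp [pe, Pi.single_apply] at * <;> simp [hj]]
    rw [← add_assoc, pt_add_self, zero_add]
  rw [← hsum]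
  exact key _

end Cfsg.Agent.C6Plus10
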