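import Cfsg.Agent.Lib.C6Plus10Sys

/-!
The induction steps: a level normalises when the levels with one free coordinate less do.
-/

set_option autoImplicit false
set_option linter.unusedSectionVars false

namespace Cfsg.Agent.C6Plus10

open Matrix Module
open scoped MatrixGroups

variable {F : Type*} [Field F] {k : ℕ} {S T : Finset (Fin k)} {M : Subgroup (GL (Pt k) F)}

/-- What is used of elements carrying all free elements into the centraliser of the free elements. -/
def CentLevel (M : Subgroup (GL (Pt k) F)) : Prop :=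
  ∀ S T : Finset (Fin k), Disjoint S T → T.card ≤ 1 → 2 ≤ S.card → ∀ g ∈ LK M S T,
    (∀ v : Vec S, Nr (g * El F v * g⁻¹) ∧
      ∀ w : Vec S, g * El F v * g⁻¹ * El F w * (g * El F v * g⁻¹)⁻¹ * (El F w)⁻¹ ∈ Czs F S T) →
    (∀ w : Vec S, w ≠ 0 → ∀ x ∈ LK M S T, x * El F w * x⁻¹ * (El F w)⁻¹ ∈ Czs F S T → Nr x) →
    ∃ v w : Vec S, v ≠ 0 ∧ g * El F v * g⁻¹ * (El F w)⁻¹ ∈ Czs F S T

theorem vec_two (v : Vec S) : v + v = 0 :=
  Prod.ext (funext fun _ => CharTwo.add_self_eq_zero _) (funext fun _ => CharTwo.add_self_eq_zero _)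

variable (h2 : (2 : F) ≠ 0) (hM : Base M) (hST : Disjoint S T) (hT : T.card ≤ 1) (hS2 : 2 ≤ S.card)
include h2 hM hST

theorem Eq'_add (v w : Vec S) : Eq' hM hST (v + w) = Eq' hM hST v * Eq' hM hST w := by
  rw [Eq', Eq', Eq', ← QuotientGroup.mk_mul, mk_eq_iff, Subgroup.coe_mul]
  refine ⟨ip (ex S v.2) (ex S w.1), 0, 0, shp_zero, ?_⟩
  show pau F (ex S (v.1 + w.1)) (ex S (v.2 + w.2)) * (pau F (ex S v.1) (ex S v.2) * pau F (ex S w.1) (ex S w.2))⁻¹ = _
  rw [map_add, map_add, pau_mul, _root_.mul_inv_rev, sd_inv, pau_zero, mul_one, ← mul_assoc, mul_inv_cancel,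
    one_mul]

omit h2 in
theorem conj_E_mem [Finite F] {g : ↥(LK M S T)} {v : Vec S} :
    (QuotientGroup.mk g : Gq M S T) * Eq' hM hST v * (QuotientGroup.mk g)⁻¹ ∈ Nq M S T ↔
      Nr ((g : GL (Pt k) F) * El F v * (g : GL (Pt k) F)⁻¹) := by
  rw [Eq', ← QuotientGroup.mk_inv, ← QuotientGroup.mk_mul, ← QuotientGroup.mk_mul, mem_Nq, Subgroup.coe_mul,
    Subgroup.coe_mul, Subgroup.coe_inv]

omit h2 in
theorem comm_E {g : ↥(LK M S T)} {w : Vec S} :
    (QuotientGroup.mk g : Gq M S T) * Eq' hM hST w = Eq' hM hST w * QuotientGroup.mk g ↔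
      (g : GL (Pt k) F) * El F w * (g : GL (Pt k) F)⁻¹ * (El F w)⁻¹ ∈ Czs F S T := by
  rw [← mul_inv_eq_iff_eq_mul, Eq', ← QuotientGroup.mk_inv, ← QuotientGroup.mk_mul, ← QuotientGroup.mk_mul, mk_eq_iff,
    Subgroup.coe_mul, Subgroup.coe_mul, Subgroup.coe_inv]

omit h2 in
theorem conj_E_eq {g : ↥(LK M S T)} {v w : Vec S} :
    (QuotientGroup.mk g : Gq M S T) * Eq' hM hST v * (QuotientGroup.mk g)⁻¹ = Eq' hM hST w ↔
      (g : GL (Pt k) F) * El F v * (g : GL (Pt k) F)⁻¹ * (El F w)⁻¹ ∈ Czs F S T := by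
  rw [Eq', Eq', ← QuotientGroup.mk_inv, ← QuotientGroup.mk_mul, ← QuotientGroup.mk_mul, mk_eq_iff, Subgroup.coe_mul,
    Subgroup.coe_mul, Subgroup.coe_inv]

include hT hS2

variable (hcent : CentLevel M) {a : ↥S} (hlow : Lev M (S.erase (a : Fin k)) T)
  (hlow' : T = ∅ → Lev M (S.erase (a : Fin k)) {(a : Fin k)})
include hcent hlow hlow'

/-- The system of a level. -/
noncomputable def sys [Finite F] : Sys (Gq M S T) (Vec S) where
  N := Nq M S T
  E := Eq' hM hST
  E_add := Eq'_add h2 hM hST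
  E_inj v w h := (E_eq_iff hM hST h2).1 h
  E_mem v := mem_Nq.2 (nr_pau _ _)
  nor := by
    intro n hn v
    obtain ⟨g, rfl⟩ := QuotientGroup.mk_surjective n
    obtain ⟨w, u, z, hs, hc⟩ := nor_El h2 hST g.2 (mem_Nq.1 hn) v
    exact ⟨w, (conj_E_iff hM hST).2 ⟨u, z, hs, hc⟩⟩
  β := bq S
  β_symm v w := by rw [bq_apply, bq_apply, add_comm]
  β_nd := by
    intro v h
    refine Prod.ext (funext fun i => ?_) (funext fun i => ?_)
    · simpa [bq_apply] using h (0, Pi.single i 1)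
    · simpa [bq_apply] using h (Pi.single i 1, 0)
  iso := by
    intro n _ v v' w w' hv hw
    obtain ⟨g, rfl⟩ := QuotientGroup.mk_surjective n
    obtain ⟨u, z, hs, hc⟩ := (conj_E_iff hM hST).1 hv
    obtain ⟨u', z', hs', hc'⟩ := (conj_E_iff hM hST).1 hw
    have e := hc.comm h2 hc'
    simp only [ip_add_left, ip_add_right, ip_ex, (ip_ex_shp hST hs v'.1).2, (ip_ex_shp hST hs w'.1).2,
      (ip_ex_shp hST hs' v'.2).1, (ip_ex_shp hST hs w'.2).1, (ip_ex_shp hST hs' v'.1).2] at e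
    rw [bq_apply, bq_apply, dotProduct_comm v'.1, dotProduct_comm v.1, dotProduct_comm w'.1, dotProduct_comm w.1]
    linear_combination (norm := grind) e + shp_ip hs hs'
  good := by
    intro v hv x hx
    obtain ⟨g, rfl⟩ := QuotientGroup.mk_surjective x
    obtain ⟨u, z, hs, hc⟩ := (conj_E_iff hM hST (g := g) (v := v) (w := v)).1 (by rw [hx, mul_inv_cancel_right])
    exact mem_Nq.2 (fuse hM hST h2 hT hS2 hlow hlow' g.2 hv hv hs hc)
  fus := by
    intro v hv x w hx
    obtain ⟨g, rfl⟩ := QuotientGroup.mk_surjective x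
    obtain ⟨u, z, hs, hc⟩ := (conj_E_iff hM hST).1 hx
    refine mem_Nq.2 (fuse hM hST h2 hT hS2 hlow hlow' g.2 hv ?_ hs hc)
    rintro rfl
    refine hv ((E_eq_iff hM hST h2).1 ?_)
    have h0 : Eq' hM hST (0 : Vec S) = 1 := by
      have h := Eq'_add h2 hM hST (0 : Vec S) 0
      rw [add_zero] at h
      exact mul_eq_left.1 h.symm
    rw [h0] at hx ⊢
    exact conj_eq_one_iff.1 hx
  cent := by
    intro x hx
    obtain ⟨g, rfl⟩ := QuotientGroup.mk_surjective x
    have himg : ∀ v w : Vec S, (g : GL (Pt k) F) * El F v * (g : GL (Pt k) F)⁻¹ * El F w *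
        ((g : GL (Pt k) F) * El F v * (g : GL (Pt k) F)⁻¹)⁻¹ * (El F w)⁻¹ ∈ Czs F S T := fun v w => by
      have h := (hx v).2 w
      have e : (QuotientGroup.mk g : Gq M S T) * Eq' hM hST v * (QuotientGroup.mk g)⁻¹ =
          QuotientGroup.mk (g * ⟨El F v, El_mem hM hST v⟩ * g⁻¹) := by
        rw [Eq', QuotientGroup.mk_mul, QuotientGroup.mk_mul, QuotientGroup.mk_inv]
      rw [e, comm_E hM hST, Subgroup.coe_mul, Subgroup.coe_mul, Subgroup.coe_inv] at h
      exact h
    obtain ⟨v, w, hv, h⟩ := hcent S T hST hT hS2 g g.2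
      (fun v => ⟨(conj_E_mem hM hST).1 (hx v).1, himg v⟩)
      (fun w hw y hy hyw => by
        obtain ⟨u, z, hs, hc⟩ := (conj_E_iff hM hST).1 ((conj_E_eq hM hST (g := ⟨y, hy⟩) (v := w) (w := w)).2 hyw)
        exact fuse hM hST h2 hT hS2 hlow hlow' hy hw hw hs hc)
    exact ⟨v, w, hv, (conj_E_eq hM hST).2 h⟩

omit hlow hlow' hS2 hT hcent in
theorem mem_of_all [Finite F] (h : ∀ x : Gq M S T, x ∈ Nq M S T) : Lev M S T := fun g hg =>
  (mem_Nq (x := ⟨g, hg⟩)).1 (h _)

/-- The step without complex structure. -/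
theorem step_real [Finite F] (hT0 : T = ∅) : Lev M S T := by
  refine mem_of_all h2 hM hST fun x => ?_
  refine (sys h2 hM hST hT hS2 hcent hlow hlow').real_all (by rw [finrank_vec]; omega) qv ?_ ?_
    (a := ((0, Pi.single a 1) : Vec S)) (b := ((Pi.single a 1, Pi.single a 1) : Vec S)) ?_ ?_ ?_ x
  · intro v w
    show _ = _ + bq S v w
    rw [bq_apply, qv, qv, qv, Prod.fst_add, Prod.snd_add, add_dotProduct, dotProduct_add, dotProduct_add,
      dotProduct_comm v.1 w.2, dotProduct_comm w.1 v.2]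
    ring
  · intro n _ v w hvw
    obtain ⟨g, rfl⟩ := QuotientGroup.mk_surjective n
    obtain ⟨u, z, hs, hc⟩ := (conj_E_iff hM hST).1 hvw
    exact qv_of_cp hM hST h2 hT0 hs hc
  · intro e
    simpa using congrFun (congrArg Prod.snd e) a
  · intro e
    simpa using congrFun (congrArg Prod.snd e) a
  · simp [qv]

/-- The step with complex structure. -/
theorem step_complex [Finite F] {q : Fin k} (hq : q ∈ T) : Lev M S T := by
  have hTq : ∀ i, i ∈ T → i = q := fun i hi => Finset.card_le_one.1 hT i hi q hq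
  have hqS : ∀ i : ↥S, (i : Fin k) ≠ q := fun i e => Finset.disjoint_left.1 hST i.2 (e ▸ hq)
  have hshq : Shp S T (pe q) (pe q) := ⟨fun i hi => pe_ne fun e : i = q => hi (e ▸ hq),
    fun i hi => pe_ne (hqS ⟨i, hi⟩), fun _ _ => rfl⟩
  have eex : ∀ i : ↥S, ex S (Pi.single i 1) = pe (i : Fin k) := fun i => ex_single i.2
  refine mem_of_all h2 hM hST fun g => ?_
  obtain ⟨l, hl⟩ : ∃ l : ↥S, l ≠ a := by
    haveI : Nontrivial ↥S := Fintype.one_lt_card_iff_nontrivial.1 (by rw [Fintype.card_coe]; omega)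
    exact exists_ne a
  set Sy := sys h2 hM hST hT hS2 hcent hlow hlow'
  -- the involution acting as a transvection
  obtain ⟨s, hsM, hsr, hss, hsc⟩ := sq_spec hM (hqS a)
  have hsL : s ∈ LK M S T := sq_LK hST a.2 hq hsM hsc
  refine Sy.root_all (by rw [finrank_vec]; omega) ?_ (s := QuotientGroup.mk ⟨s, hsL⟩) (mem_Nq.2 hsr) ?_
    (lam := ((Pi.single a 1, Pi.single a 1) : Vec S)) (c := ((0, Pi.single l 1) : Vec S)) ?_ ?_ ?_ ?_ ?_ ?_ g
  · -- roots
    intro x hx hxx e₁ e₂ a₁ a₂ ha₁ ha₂ ha12 h₁ h₂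
    obtain ⟨X, rfl⟩ := QuotientGroup.mk_surjective x
    have hXr : Nr (X : GL (Pt k) F) := mem_Nq.1 hx
    have hXX : (X : GL (Pt k) F) * X ∈ Czs F S T := by
      have := (mk_eq_iff (x := X * X) (y := 1)).1 hxx
      simpa using this
    have key : ∀ e b : Vec S, (QuotientGroup.mk X : Gq M S T) * Eq' hM hST e * (QuotientGroup.mk X)⁻¹ =
        Eq' hM hST (e + b) → ∃ c : ZMod 2, (X : GL (Pt k) F) * El F b * (X : GL (Pt k) F)⁻¹ =
          sd F (fun _ => c) * El F b := by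
      intro e b h
      rw [Eq'_add h2 hM hST] at h
      have h' := (mk_eq_iff (x := X * ⟨El F e, El_mem hM hST e⟩ * X⁻¹ *
        (⟨El F e, El_mem hM hST e⟩)⁻¹) (y := ⟨El F b, El_mem hM hST b⟩)).1 (by
          show (QuotientGroup.mk X : Gq M S T) * Eq' hM hST e * (QuotientGroup.mk X)⁻¹ * (Eq' hM hST e)⁻¹ =
            Eq' hM hST b
          rw [h, ← Eq'_add h2 hM hST, add_comm, Eq'_add h2 hM hST, mul_inv_cancel_right])
      simp only [Subgroup.coe_mul, Subgroup.coe_inv] at h'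
      obtain ⟨ζ, hζ, hζ'⟩ : ∃ ζ ∈ Czs F S T, (X : GL (Pt k) F) * El F e * (X : GL (Pt k) F)⁻¹ * (El F e)⁻¹ =
          ζ * El F b := ⟨_, h', (inv_mul_cancel_right _ _).symm⟩
      obtain ⟨A, hA⟩ : ∃ A, A = (X : GL (Pt k) F) * El F e * (X : GL (Pt k) F)⁻¹ * (El F e)⁻¹ := ⟨_, rfl⟩
      have hAinv : (X : GL (Pt k) F) * A * (X : GL (Pt k) F)⁻¹ = A⁻¹ := by
        have hc2 : (X : GL (Pt k) F) * X * El F e = El F e * ((X : GL (Pt k) F) * X) :=
          (comm_Czs (El_mem (T := T) hM hST e) hXX).symm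
        rw [hA]
        calc (X : GL (Pt k) F) * ((X : GL (Pt k) F) * El F e * (X : GL (Pt k) F)⁻¹ * (El F e)⁻¹) * (X : GL (Pt k) F)⁻¹
            = (X : GL (Pt k) F) * X * El F e * (X : GL (Pt k) F)⁻¹ * (El F e)⁻¹ * (X : GL (Pt k) F)⁻¹ := by group
          _ = El F e * ((X : GL (Pt k) F) * X) * (X : GL (Pt k) F)⁻¹ * (El F e)⁻¹ * (X : GL (Pt k) F)⁻¹ := by rw [hc2]
          _ = _ := by group
      obtain ⟨c, u, z, hs, rfl⟩ := hζ
      obtain ⟨c', hc'⟩ : ∃ c' : ZMod 2, A⁻¹ = sd F (fun _ => c') * A := by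
        rw [hA, hζ']
        show ∃ c' : ZMod 2, (sd F (fun _ => c) * pau F u z * pau F (ex S b.1) (ex S b.2))⁻¹ = _
        have e : sd F (fun _ => c) * pau F u z * pau F (ex S b.1) (ex S b.2) =
            sd F (fun _ => c + ip z (ex S b.1)) * pau F (u + ex S b.1) (z + ex S b.2) := by
          rw [mul_assoc, pau_mul, ← mul_assoc, ← sd_const_add]
        refine ⟨ip (z + ex S b.2) (u + ex S b.1), ?_⟩
        show _ = sd F (fun _ => _) * (sd F (fun _ => c) * pau F u z * pau F (ex S b.1) (ex S b.2))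
        rw [e, _root_.mul_inv_rev, pau_inv, sd_inv, mul_assoc (sd F _),
          ← sd_const_mul (c + ip z (ex S b.1)) (pau F (u + ex S b.1) (z + ex S b.2))]
      refine ⟨c', ?_⟩
      have hXc : (X : GL (Pt k) F) * (sd F (fun _ => c) * pau F u z) = sd F (fun _ => c) * pau F u z * (X : GL (Pt k) F) :=
        comm_Czs X.2 ⟨c, u, z, hs, rfl⟩
      rw [← hAinv, hA, hζ'] at hc'
      have hC : Commute (sd F (fun _ => c) * pau F u z) (sd F (fun _ => c')) := (sd_const_mul c' _).symm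
      refine mul_left_cancel (a := sd F (fun _ => c) * pau F u z) ?_
      calc sd F (fun _ => c) * pau F u z * ((X : GL (Pt k) F) * El F b * (X : GL (Pt k) F)⁻¹)
          = sd F (fun _ => c) * pau F u z * (X : GL (Pt k) F) * (El F b * (X : GL (Pt k) F)⁻¹) := by group
        _ = (X : GL (Pt k) F) * (sd F (fun _ => c) * pau F u z * El F b) * (X : GL (Pt k) F)⁻¹ := by
          rw [← hXc]; group
        _ = _ := by rw [hc', ← mul_assoc (sd F fun _ => c'), ← hC.eq, mul_assoc]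
    obtain ⟨b, hb, hXb⟩ : ∃ b : Vec S, b ≠ 0 ∧
        (X : GL (Pt k) F) * El F b * (X : GL (Pt k) F)⁻¹ = El F b := by
      obtain ⟨c₁, hc₁⟩ := key e₁ a₁ h₁
      obtain ⟨c₂, hc₂⟩ := key e₂ a₂ h₂
      rcases zm_cases c₁ with rfl | rfl
      · exact ⟨a₁, ha₁, by rw [hc₁, sd_const_zero, one_mul]⟩
      rcases zm_cases c₂ with rfl | rfl
      · exact ⟨a₂, ha₂, by rw [hc₂, sd_const_zero, one_mul]⟩
      refine ⟨a₁ + a₂, fun e => ha12 ?_, ?_⟩
      · have := congrArg (fun v => v + a₂) e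
        simpa only [add_assoc, vec_two, add_zero, zero_add] using this
      · have e : El F (a₁ + a₂) = sd F (fun _ => ip (ex S a₁.2) (ex S a₂.1)) * (El F a₁ * El F a₂) := by
          show pau F (ex S (a₁.1 + a₂.1)) (ex S (a₁.2 + a₂.2)) = _ * (pau F _ _ * pau F _ _)
          rw [map_add, map_add, pau_mul, ← mul_assoc, ← sd_const_add, CharTwo.add_self_eq_zero, sd_const_zero,
            one_mul]
        rw [e, ← conj_mul, ← conj_mul, conj_sd_const, hc₁, hc₂, mul_assoc (sd F fun _ => (1 : ZMod 2)),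
          ← mul_assoc (El F a₁), ← sd_const_mul, mul_assoc (sd F fun _ => (1 : ZMod 2)) (El F a₁),
          ← mul_assoc (sd F fun _ => (1 : ZMod 2)) (sd F fun _ => (1 : ZMod 2)), ← sd_const_add,
          CharTwo.add_self_eq_zero, sd_const_zero, one_mul]
    -- to the sign at the first place
    have hreach : Rc M S T b (0, Pi.single a 1) := by
      rcases reach_std h2 hM hST hS2 a hb with h | ⟨hT0, -⟩
      · exact h
      · rw [hT0] at hq; simp at hq
    obtain ⟨n, hn, hnr, u, z, hs, hc⟩ := hreach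
    have hn' : n⁻¹ ∈ LK M S T := inv_mem hn
    set X' : GL (Pt k) F := n * X * n⁻¹ with hX'
    have hX'L : X' ∈ LK M S T := mul_mem (mul_mem hn X.2) hn'
    have hZcomm : X' * pau F 0 (pe (a : Fin k)) = pau F 0 (pe (a : Fin k)) * X' := by
      obtain ⟨c, hc⟩ := hc
      rw [map_zero, zero_add, eex] at hc
      have h3 : pau F 0 (pe (a : Fin k)) =
          pau F u z * (sd F (fun _ => c + ip z u + ip z 0) * (n * El F b * n⁻¹)) := by
        show _ = pau F u z * (sd F _ * (n * pau F (ex S b.1) (ex S b.2) * n⁻¹))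
        rw [hc, ← mul_assoc (sd F _) (sd F _), ← sd_const_add, ← mul_assoc, ← sd_const_mul, mul_assoc, pau_mul,
          ← mul_assoc, ← sd_const_add, pt_add_self, add_comm (pe (a : Fin k)), ← add_assoc, pt_add_self, zero_add,
          ip_zero_right]
        rw [show c + ip z u + 0 + c + ip z u = (0 : ZMod 2) by grind, sd_const_zero, one_mul]
      rw [h3]
      have c1 : Commute X' (pau F u z) := (mem_LK.1 hX'L).2 u z hs
      have c2 : Commute X' (sd F fun _ => c + ip z u + ip z 0) := (sd_const_mul _ _).symm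
      have c3 : Commute X' (n * El F b * n⁻¹) := by
        show _ * _ = _ * _
        rw [hX']
        calc n * X * n⁻¹ * (n * El F b * n⁻¹) = n * ((X : GL (Pt k) F) * El F b) * n⁻¹ := by group
          _ = n * (El F b * X) * n⁻¹ := by rw [mul_inv_eq_iff_eq_mul.1 hXb]
          _ = _ := by group
      exact (c1.mul_right (c2.mul_right c3)).eq
    set J : GL (Pt k) F := pau F (pe q) (pe q) with hJ
    set h : Pt k → ZMod 2 := ip (pe (a : Fin k))
    have hk1 : ∀ y, h (Equiv.addRight (pe q) y) = h y := fun y => by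
      simp [h, ip_pe, pe_ne (hqS a)]
    have kJ : Kp h J := hJ ▸ pau_eq (F := F) (pe q) (pe q) ▸ kp_mon hk1 _
    obtain ⟨ρ, hρ⟩ : ∃ ρ, ρ = ctl h J := ⟨_, rfl⟩
    -- what commutes with the sign and the complex structure commutes with the root
    have hcρ : ∀ y : GL (Pt k) F, y * sd F h = sd F h * y → y * J = J * y → y * ρ = ρ * y := fun y hy hyJ => by
      refine mul_inv_eq_iff_eq_mul.1 ?_
      rw [hρ, ctl_conj h2 kJ (h' := h) (by rw [hy, mul_inv_cancel_right]), hyJ, mul_inv_cancel_right]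
    have hρM : ρ ∈ M := hρ ▸ hJ ▸ ctl_pau_mem hM (aff_ip _) (fun y => by simpa using hk1 y) _
    have hρL : ρ ∈ LK M S T := mem_LK.2 ⟨hρM, fun u' w' hs' => by
      refine (hcρ (pau F u' w') ?_ ?_).symm
      · show pau F u' w' * sd F (ip (pe (a : Fin k))) = _
        rw [← pau_sd, pau_comm, ip_comm w', ip_zero_left, ip_pe, hs'.huS hST a.2, add_zero, sd_const_zero,
          one_mul]
      · rw [hJ, pau_comm, shp_ip hs' hshq, sd_const_zero, one_mul]⟩
    have hρr : Nr ρ := by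
      have hd : ip (pe (a : Fin k)) (pe q) = 0 := by rw [ip_pe, pe_ne (hqS a)]
      rw [hρ, hJ, pau_eq, ctl_mon (π' := trP (pe q) (pe (a : Fin k)) 0 hd) hk1 (fun y => ?_), mon]
      · refine (nr_tr _ _ _ hd).mul ?_
        convert nr_qd (F := F) (pe (a : Fin k)) (pe q) 0 using 2
        congr 1
        funext y
        simp [qf, h]
      · rw [trP_apply, add_zero, Equiv.coe_addRight]
        rcases zm_cases (ip (pe (a : Fin k)) y) with e | e <;> simp [h, e]
    have hρρ : ρ * ρ = sd F h := by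
      rw [hρ, ← ctl_mul kJ kJ, hJ, pau_sq, ctl_sd]
      congr 1
      funext y
      simp [ip_pe]
    have hρE : ∀ w : Vec S, (QuotientGroup.mk ⟨ρ, hρL⟩ : Gq M S T) * Eq' hM hST w *
        (QuotientGroup.mk ⟨ρ, hρL⟩)⁻¹ = Eq' hM hST (w + w.1 a • ((0, Pi.single a 1) : Vec S)) := by
      intro w
      have hEs : ∀ t : Vec S, El F t * sd F h * (El F t)⁻¹ = sd F (fun y => h y + t.1 a) := fun t => by
        show pau F (ex S t.1) (ex S t.2) * sd F (ip (pe (a : Fin k))) * _ = _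
        rw [← pau_sd, pau_comm, ip_comm (ex S t.2), ip_zero_left, ip_pe, ex_mem _ a.2, zero_add, El, mul_assoc,
          mul_inv_cancel_right, pau_sd, sd_mul]
        congr 1
        funext y
        exact add_comm _ _
      have hEJ : El F w * J * (El F w)⁻¹ = J := by
        rw [← (mem_LK.1 (El_mem (T := T) hM hST w)).2 _ _ hshq |>.symm, mul_inv_cancel_right]
      rcases zm_cases (w.1 a) with e | e
      · rw [e, zero_smul, add_zero]
        refine mul_inv_eq_iff_eq_mul.2 ?_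
        have hc : El F w * ρ = ρ * El F w := by
          refine mul_inv_eq_iff_eq_mul.1 ?_
          rw [hρ, ctl_conj h2 kJ (h' := h) (by rw [hEs, e]; simp), hEJ]
        exact congrArg (QuotientGroup.mk : ↥(LK M S T) → Gq M S T) (Subtype.ext hc.symm)
      · rw [e, one_smul, add_comm w, Eq'_add h2 hM hST]
        refine (mk_eq_iff (x := ⟨ρ, hρL⟩ * ⟨El F w, El_mem hM hST w⟩ * (⟨ρ, hρL⟩)⁻¹)
          (y := ⟨El F ((0, Pi.single a 1) : Vec S), El_mem hM hST _⟩ * ⟨El F w, El_mem hM hST w⟩)).2 ?_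
        simp only [Subgroup.coe_mul, Subgroup.coe_inv]
        have hwρ : El F w * ρ * (El F w)⁻¹ = ρ⁻¹ * J := by
          rw [hρ, ctl_conj h2 kJ (h' := fun y => h y + 1) (by rw [hEs, e]), hEJ, eq_inv_mul_iff_mul_eq,
            ctl_mul_compl kJ]
        have hZ : El F ((0, Pi.single a 1) : Vec S) = sd F h := by
          show pau F (ex S 0) (ex S (Pi.single a 1)) = _
          rw [map_zero, eex, pau_sd]
        have hρJ : ρ * J = J * ρ := (mem_LK.1 hρL).2 _ _ hshq
        rw [hZ]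
        have key' : ρ * El F w * ρ⁻¹ = J⁻¹ * (sd F h * El F w) := by
          have h3 : ρ⁻¹ = (El F w)⁻¹ * (J⁻¹ * ρ) * El F w := by
            rw [show J⁻¹ * ρ = (ρ⁻¹ * J)⁻¹ by group, ← hwρ]
            group
          calc ρ * El F w * ρ⁻¹ = ρ * El F w * ((El F w)⁻¹ * (J⁻¹ * ρ) * El F w) := by rw [← h3]
            _ = (ρ * J⁻¹) * ρ * El F w := by group
            _ = _ := by
              rw [show ρ * J⁻¹ = J⁻¹ * ρ from (Commute.inv_right hρJ).eq, mul_assoc J⁻¹, hρρ, mul_assoc]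
        rw [key', mul_inv_cancel_right]
        exact (CzG F S T).inv_mem (mem_CzG.2 (pau_mem_Czs hshq))
    set n' : ↥(LK M S T) := ⟨n, hn⟩
    set Z0 : Vec S := (0, Pi.single a 1)
    have hnb : (QuotientGroup.mk n' : Gq M S T) * Eq' hM hST b * (QuotientGroup.mk n')⁻¹ = Eq' hM hST Z0 :=
      (conj_E_iff hM hST).2 ⟨u, z, hs, hc⟩
    set R : Gq M S T := QuotientGroup.mk ⟨ρ, hρL⟩
    set Nn : Gq M S T := QuotientGroup.mk n'
    have hRR : R * R = Eq' hM hST Z0 := congrArg (QuotientGroup.mk : ↥(LK M S T) → Gq M S T)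
      (Subtype.ext (a1 := (⟨ρ, hρL⟩ : ↥(LK M S T)) * ⟨ρ, hρL⟩) (by
        show ρ * ρ = El F Z0
        rw [hρρ]
        show _ = pau F (ex S 0) (ex S (Pi.single a 1))
        rw [map_zero, eex, pau_sd]))
    have hbN : Nn⁻¹ * Eq' hM hST Z0 * Nn = Eq' hM hST b := by rw [← hnb]; group
    refine ⟨b, Nn⁻¹ * R * Nn, hb, ?_, ?_, ?_, ?_, fun w => ?_⟩
    · exact congrArg (QuotientGroup.mk : ↥(LK M S T) → Gq M S T)
        (Subtype.ext (a1 := X * ⟨El F b, El_mem hM hST b⟩ * X⁻¹) hXb)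
    · exact mul_mem (mul_mem (inv_mem (mem_Nq.2 hnr)) (mem_Nq.2 hρr)) (mem_Nq.2 hnr)
    · rw [show Nn⁻¹ * R * Nn * (Nn⁻¹ * R * Nn) = Nn⁻¹ * (R * R) * Nn by group, hRR, hbN]
      rfl
    · have hXρ : X' * ρ = ρ * X' := hcρ X' (by rw [← pau_sd]; exact hZcomm) ((mem_LK.1 hX'L).2 _ _ hshq)
      have hcq : Commute (Nn * QuotientGroup.mk X * Nn⁻¹) R :=
        congrArg (QuotientGroup.mk : ↥(LK M S T) → Gq M S T)
          (Subtype.ext (a1 := (n' * X * n'⁻¹) * ⟨ρ, hρL⟩) (a2 := ⟨ρ, hρL⟩ * (n' * X * n'⁻¹)) hXρ)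
      show Nn⁻¹ * R * Nn * QuotientGroup.mk X = QuotientGroup.mk X * (Nn⁻¹ * R * Nn)
      calc Nn⁻¹ * R * Nn * QuotientGroup.mk X = Nn⁻¹ * (R * (Nn * QuotientGroup.mk X * Nn⁻¹)) * Nn := by group
        _ = Nn⁻¹ * ((Nn * QuotientGroup.mk X * Nn⁻¹) * R) * Nn := by rw [hcq.eq]
        _ = _ := by group
    · have hN : Nn ∈ Sy.N := mem_Nq.2 hnr
      obtain ⟨w', hw'⟩ := Sy.nor _ hN w
      have hβ : w'.1 a = bq S b w := by
        have h3 := Sy.iso _ hN b Z0 w w' hnb hw'
        refine Eq.trans ?_ h3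
        show _ = bq S Z0 w'
        simp [bq_apply, Z0]
      show Nn⁻¹ * R * Nn * Eq' hM hST w * (Nn⁻¹ * R * Nn)⁻¹ = Eq' hM hST (w + bq S b w • b)
      have hwN : Nn⁻¹ * Eq' hM hST w' * Nn = Eq' hM hST w := by
        rw [← show Nn * Eq' hM hST w * Nn⁻¹ = Eq' hM hST w' from hw']; group
      rw [show Nn⁻¹ * R * Nn * Eq' hM hST w * (Nn⁻¹ * R * Nn)⁻¹ =
          Nn⁻¹ * (R * (Nn * Eq' hM hST w * Nn⁻¹) * R⁻¹) * Nn by group,
        show Nn * Eq' hM hST w * Nn⁻¹ = Eq' hM hST w' from hw', hρE w', hβ]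
      rcases zm_cases (bq S b w) with e | e <;> rw [e]
      · rw [zero_smul, zero_smul, add_zero, add_zero, hwN]
      · rw [one_smul, one_smul, Eq'_add h2 hM hST, Eq'_add h2 hM hST, ← hwN, ← hbN]
        group
  · rw [← QuotientGroup.mk_mul]
    refine (mk_eq_iff (y := 1)).2 ?_
    rw [Subgroup.coe_mul, Subgroup.coe_one, inv_one, mul_one, hss]
    exact pau_mem_Czs hshq
  · intro e
    simpa using congrFun (congrArg Prod.snd e) a
  · intro e
    simpa using congrFun (congrArg Prod.snd e) l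
  · intro e
    have := congrFun (congrArg Prod.fst e) a
    simp at this
  · show bq S _ _ = 0
    simp [bq_apply, CharTwo.add_self_eq_zero]
  · show bq S _ _ = 0
    simp [bq_apply, hl, hl.symm]
  · intro w
    refine (conj_E_iff hM hST).2 ⟨0, 0, shp_zero, CP.of_eq (hsc _ _) ?_ ?_⟩ <;>
      · rw [add_zero]
        funext t
        show exch (a : Fin k) q _ _ t = ex S _ t
        by_cases ht : t ∈ S
        · have htq : t ≠ q := hqS ⟨t, ht⟩
          simp only [exch, htq, or_false, ex_mem _ ht, Prod.fst_add, Prod.snd_add, Prod.smul_fst, Prod.smul_snd,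
            Pi.add_apply, Pi.smul_apply, Pi.single_apply, bq_apply, dotProduct_single, single_dotProduct,
            smul_eq_mul, Subtype.ext_iff, mul_one, one_mul]
          show _ = _ + bq S _ w * _
          by_cases hta : t = (a : Fin k)
          · subst hta
            simp [bq_apply]
            grind
          · simp [hta, bq_apply]
        · simp only [exch, ex_not_mem _ ht, ite_self]

end Cfsg.Agent.C6Plus10
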