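import Mathlib
import Cfsg.Agent.Lib.SemisimpleConjGL

/-!
Counting classes of elements of prime order `r ≠ p` in matrix groups where semisimple classes are
given by characteristic polynomials.
-/

set_option autoImplicit false

namespace Cfsg.Agent.PrimeOrderClassCount

open Polynomial UniqueFactorizationMonoid

variable {F : Type*} [Field F] [DecidableEq F]

/-- multiplicity of a factor -/
noncomputable def cnt (μ P : F[X]) : ℕ := (normalizedFactors P).count μ

theorem cnt_mul {μ P Q : F[X]} (hP : P ≠ 0) (hQ : Q ≠ 0) : cnt μ (P * Q) = cnt μ P + cnt μ Q := by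
  simp [cnt, normalizedFactors_mul hP hQ]

theorem cnt_pow (μ P : F[X]) (k : ℕ) : cnt μ (P ^ k) = k * cnt μ P := by
  simp [cnt, normalizedFactors_pow]

theorem cnt_irreducible (μ : F[X]) {P : F[X]} (hP : Irreducible P) (hm : P.Monic) :
    cnt μ P = if μ = P then 1 else 0 := by
  rw [cnt, normalizedFactors_irreducible hP, hm.normalize_eq_self, Multiset.count_singleton]

theorem cnt_prod {ι : Type*} (μ : F[X]) (s : Finset ι) (f : ι → F[X]) (h : ∀ i ∈ s, f i ≠ 0) :
    cnt μ (∏ i ∈ s, f i) = ∑ i ∈ s, cnt μ (f i) := by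
  classical
  induction s using Finset.induction_on with
  | empty => simp [cnt, normalizedFactors_one]
  | insert a s ha ih =>
    rw [Finset.prod_insert ha, Finset.sum_insert ha, cnt_mul (h a (Finset.mem_insert_self a s))
      (Finset.prod_ne_zero_iff.2 fun i hi => h i (Finset.mem_insert_of_mem hi)),
      ih fun i hi => h i (Finset.mem_insert_of_mem hi)]

/-- `X - 1` -/
noncomputable def lin (F : Type*) [Field F] : F[X] := X - C 1

theorem lin_monic : (lin F).Monic := monic_X_sub_C 1

theorem lin_irreducible : Irreducible (lin F) := irreducible_X_sub_C 1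

theorem lin_natDegree : (lin F).natDegree = 1 := natDegree_X_sub_C 1

theorem lin_dvd_X_pow_sub_one (r : ℕ) : lin F ∣ X ^ r - 1 := by
  rw [lin, map_one]; exact sub_one_dvd_pow_sub_one X r

/-- The products of blocks from `S`, padded with `X - 1` to degree `n`. -/
def prods (S : Finset F[X]) (e n : ℕ) : Set F[X] :=
  {P | ∃ f : F[X] → ℕ, e * (∑ B ∈ S, f B) ≤ n ∧
    P = lin F ^ (n - e * ∑ B ∈ S, f B) * ∏ B ∈ S, B ^ f B}

theorem prods_natDegree {S : Finset F[X]} {e n : ℕ} (hm : ∀ B ∈ S, B.Monic)
    (hd : ∀ B ∈ S, B.natDegree = e) {P : F[X]} (hP : P ∈ prods S e n) :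
    P.Monic ∧ P.natDegree = n := by
  obtain ⟨f, hf, rfl⟩ := hP
  have h1 : (∏ B ∈ S, B ^ f B).Monic := monic_prod_of_monic _ _ fun B hB => (hm B hB).pow _
  refine ⟨(lin_monic.pow _).mul h1, ?_⟩
  rw [(lin_monic.pow _).natDegree_mul h1, natDegree_pow, lin_natDegree,
    natDegree_prod_of_monic _ _ fun B hB => (hm B hB).pow _,
    Finset.sum_congr rfl fun B hB =>
      show (B ^ f B).natDegree = e * f B by rw [natDegree_pow, hd B hB, mul_comm],
    ← Finset.mul_sum]
  omega

theorem ncard_prods {S : Finset F[X]} {e n : ℕ} (he : 0 < e) (hm : ∀ B ∈ S, B.Monic) (ρ : F[X] → F[X])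
    (hρ : ∀ B ∈ S, ∀ B' ∈ S, cnt (ρ B) B' = if B = B' then 1 else 0)
    (hρl : ∀ B ∈ S, ρ B ≠ lin F) :
    (prods S e n).ncard = Nat.choose (n / e + S.card) S.card := by
  classical
  have hcnt : ∀ (f : F[X] → ℕ) (a : ℕ), ∀ B ∈ S, cnt (ρ B) (lin F ^ a * ∏ C ∈ S, C ^ f C) = f B := by
    intro f a B hB
    rw [cnt_mul (pow_ne_zero _ lin_monic.ne_zero)
      (Finset.prod_ne_zero_iff.2 fun C hC => pow_ne_zero _ (hm C hC).ne_zero), cnt_pow,
      cnt_irreducible _ lin_irreducible lin_monic, if_neg (hρl B hB), mul_zero, zero_add,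
      cnt_prod _ _ _ fun C hC => pow_ne_zero _ (hm C hC).ne_zero, Finset.sum_eq_single_of_mem B hB]
    · rw [cnt_pow, hρ B hB B hB, if_pos rfl, mul_one]
    · intro C hC hne
      rw [cnt_pow, hρ B hB C hC, if_neg (Ne.symm hne), mul_zero]
  let α := {f : Option S → ℕ // ∑ i, f i = n / e}
  let g : α → (F[X] → ℕ) := fun f B => if hB : B ∈ S then f.1 (some ⟨B, hB⟩) else 0
  have hg : ∀ f : α, f.1 none + ∑ B ∈ S, g f B = n / e := fun f => by
    have e1 : ∑ B ∈ S, g f B = ∑ B : S, f.1 (some B) := by
      rw [← Finset.sum_coe_sort]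
      exact Finset.sum_congr rfl fun B _ => by simp [g]
    have := f.2
    rw [Fintype.sum_option] at this
    rw [e1]; exact this
  have hle : ∀ f : α, e * (∑ B ∈ S, g f B) ≤ n := fun f =>
    (Nat.mul_le_mul_left e (by have := hg f; omega : ∑ B ∈ S, g f B ≤ n / e)).trans (Nat.mul_div_le n e)
  let Φ : α → prods S e n := fun f => ⟨_, g f, hle f, rfl⟩
  have hΦ : Function.Bijective Φ := by
    constructor
    · intro f f' h
      have hB : ∀ B : S, f.1 (some B) = f'.1 (some B) := fun B => by
        have h1 := hcnt (g f) (n - e * ∑ C ∈ S, g f C) B.1 B.2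
        have h2 := hcnt (g f') (n - e * ∑ C ∈ S, g f' C) B.1 B.2
        rw [show (lin F ^ (n - e * ∑ C ∈ S, g f C) * ∏ C ∈ S, C ^ g f C) = _ from congrArg Subtype.val h,
          h2] at h1
        simpa [g] using h1.symm
      refine Subtype.ext (funext fun i => ?_)
      rcases i with _ | B
      · have h1 := f.2
        have h2 := f'.2
        rw [Fintype.sum_option] at h1 h2
        have : ∑ B : S, f.1 (some B) = ∑ B : S, f'.1 (some B) := Finset.sum_congr rfl fun B _ => hB B
        omega
      · exact hB B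
    · rintro ⟨P, f, hf, rfl⟩
      have hf' : ∑ B ∈ S, f B ≤ n / e := (Nat.le_div_iff_mul_le he).2 (by rw [mul_comm]; exact hf)
      refine ⟨⟨fun i => Option.elim i (n / e - ∑ B ∈ S, f B) fun B => f B.1, ?_⟩, ?_⟩
      · rw [Fintype.sum_option]
        simp only [Option.elim]
        rw [Finset.sum_coe_sort S f]; omega
      · refine Subtype.ext ?_
        simp only [Φ, g]
        congr 1
        · congr 2
          congr 1
          exact Finset.sum_congr rfl fun B hB => by simp [hB]
        · exact Finset.prod_congr rfl fun B hB => by simp [hB]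
  rw [← Nat.card_coe_set_eq, ← Nat.card_eq_of_bijective Φ hΦ,
    ← Nat.card_congr (Sym.equivNatSumOfFintype (Option S) (n / e)), Nat.card_eq_fintype_card,
    Sym.card_sym_eq_choose, Fintype.card_option, Fintype.card_coe]
  rw [(show ∀ a b : ℕ, a + 1 + b - 1 = b + a from fun a b => by omega) S.card (n / e)]
  rcases Nat.eq_zero_or_pos S.card with h | h
  · simp [h]
  · exact (Nat.choose_symm_add).trans rfl

/-- Every admissible polynomial is a product of blocks. -/
theorem mem_prods {S : Finset F[X]} {e : ℕ} (hm : ∀ B ∈ S, B.Monic) (hd : ∀ B ∈ S, B.natDegree = e)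
    (Q : F[X] → Prop) (hQm : ∀ P, Q P → P.Monic)
    (hstep : ∀ P μ, Q P → μ.Monic → Irreducible μ → μ ∣ P → μ ≠ lin F →
      ∃ B ∈ S, B.natDegree ≠ 0 ∧ ∃ P', P = B * P' ∧ Q P') :
    ∀ (n : ℕ) (P : F[X]), Q P → P.natDegree = n → P ∈ prods S e n := by
  classical
  intro n
  induction n using Nat.strong_induction_on with
  | _ n ih =>
    intro P hQ hn
    by_cases h : ∃ μ ∈ normalizedFactors P, μ ≠ lin F
    · obtain ⟨μ, hμ, hne⟩ := h
      have hirr := irreducible_of_normalized_factor μ hμ
      have hmon : μ.Monic := by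
        have := normalize_normalized_factor μ hμ
        rw [← this]; exact monic_normalize hirr.ne_zero
      obtain ⟨B, hB, hB0, P', hPP', hQ'⟩ := hstep P μ hQ hmon hirr (dvd_of_mem_normalizedFactors hμ) hne
      have hdeg : n = e + P'.natDegree := by
        rw [← hn, hPP', (hm B hB).natDegree_mul (hQm P' hQ'), hd B hB]
      rw [hd B hB] at hB0
      obtain ⟨f, hf, hP'⟩ := ih P'.natDegree (by omega) P' hQ' rfl
      refine ⟨Function.update f B (f B + 1), ?_, ?_⟩
      · rw [Finset.sum_update_of_mem hB, ← Finset.sum_sdiff (Finset.singleton_subset_iff.2 hB),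
          Finset.sum_singleton] at *
        rw [Nat.mul_add] at hf ⊢
        rw [Nat.mul_add, Nat.mul_one] at *
        omega
      · have hs : ∑ C ∈ S, Function.update f B (f B + 1) C = (∑ C ∈ S, f C) + 1 := by
          rw [Finset.sum_update_of_mem hB, ← Finset.sum_sdiff (Finset.singleton_subset_iff.2 hB),
            Finset.sum_singleton]
          omega
        have hp : ∏ C ∈ S, C ^ Function.update f B (f B + 1) C = B * ∏ C ∈ S, C ^ f C := by
          rw [← Finset.mul_prod_erase S _ hB, ← Finset.mul_prod_erase S (fun C => C ^ f C) hB,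
            Function.update_self, pow_succ', mul_assoc]
          congr 2
          exact Finset.prod_congr rfl fun C hC => by
            rw [Function.update_of_ne (Finset.ne_of_mem_erase hC)]
        rw [hPP', hs, hp, Nat.mul_add, Nat.mul_one, hdeg,
          show e + P'.natDegree - (e * ∑ C ∈ S, f C + e) = P'.natDegree - e * ∑ C ∈ S, f C by omega]
        conv_lhs => rw [hP']
        ring
    · push Not at h
      refine ⟨0, by simp, ?_⟩
      have hP : P.Monic := hQm P hQ
      have hnf : normalizedFactors P = Multiset.replicate (Multiset.card (normalizedFactors P)) (lin F) :=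
        Multiset.eq_replicate_card.2 h
      have hprod : (normalizedFactors P).prod = P := by
        rw [prod_normalizedFactors_eq hP.ne_zero, hP.normalize_eq_self]
      rw [hnf, Multiset.prod_replicate] at hprod
      have hcard : Multiset.card (normalizedFactors P) = n := by
        rw [← hn, ← hprod, natDegree_pow, lin_natDegree, mul_one, hprod]
      simp [← hcard, hprod]

variable {ι : Type*} [Fintype ι] [DecidableEq ι]

theorem dvd_of_pow_eq_one {A : Matrix ι ι F} {r : ℕ} (hA : A ^ r = 1) {μ : F[X]} (hμ : Irreducible μ)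
    (hd : μ ∣ A.charpoly) : μ ∣ X ^ r - 1 := by
  by_contra h
  obtain ⟨x, hx0, hx⟩ := SemisimpleConjGL.exists_ker_of_dvd_charpoly (Matrix.toLin' A) hμ
    (by rwa [Matrix.charpoly_toLin'])
  obtain ⟨u, w, huw⟩ := hμ.coprime_iff_not_dvd.2 h
  apply hx0
  have hz : aeval (Matrix.toLin' A) (X ^ r - 1 : F[X]) = 0 := by
    rw [map_sub, map_pow, aeval_X, map_one, ← Matrix.toLin'_pow, hA, Matrix.toLin'_one]
    exact sub_self _
  have := LinearMap.congr_fun (congrArg (aeval (Matrix.toLin' A)) huw) x
  rw [map_add, map_mul, map_mul, hz, mul_zero, add_zero, Module.End.mul_apply, hx, map_zero,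
    map_one] at this
  exact this.symm

/-- Classes of elements of order `r`. -/
theorem card_classes {G : Type*} [Group G] [Finite G] {p r : ℕ} [Fact p.Prime] [CharP F p]
    (hr : r.Prime) (hrp : r ≠ p) (φ : G →* (Matrix ι ι F)ˣ) (hφ : Function.Injective φ)
    (hinj : ∀ g h : G, (orderOf g).Coprime p → (orderOf h).Coprime p →
      (φ g : Matrix ι ι F).charpoly = (φ h : Matrix ι ι F).charpoly → IsConj g h)
    (T : Set F[X]) (hin : ∀ g : G, g ^ r = 1 → (φ g : Matrix ι ι F).charpoly ∈ T)
    (hsurj : ∀ P ∈ T, ∃ g : G, (φ g : Matrix ι ι F).charpoly = P)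
    (hT : ∀ P ∈ T, ∃ N, P ∣ (X ^ r - 1) ^ N) :
    Nat.card {c : ConjClasses G // ∃ g, ConjClasses.mk g = c ∧ orderOf g = r} = T.ncard - 1 := by
  classical
  have hp : p.Prime := Fact.out
  have hcop : ∀ g : G, g ^ r = 1 → (orderOf g).Coprime p := fun g hg =>
    Nat.Coprime.coprime_dvd_left (orderOf_dvd_of_pow_eq_one hg) ((Nat.coprime_primes hr hp).2 hrp)
  let A : Set (ConjClasses G) := {c | ∃ g, ConjClasses.mk g = c ∧ g ^ r = 1}
  let B : Set (ConjClasses G) := {c | ∃ g, ConjClasses.mk g = c ∧ orderOf g = r}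
  have hAB : A = insert (ConjClasses.mk 1) B := by
    ext c
    constructor
    · rintro ⟨g, rfl, hg⟩
      rcases (Nat.dvd_prime hr).1 (orderOf_dvd_of_pow_eq_one hg) with h | h
      · exact Or.inl (by rw [orderOf_eq_one_iff.1 h])
      · exact Or.inr ⟨g, rfl, h⟩
    · rintro (rfl | ⟨g, rfl, h⟩)
      · exact ⟨1, rfl, one_pow r⟩
      · exact ⟨g, rfl, by rw [← h, pow_orderOf_eq_one]⟩
  have hnot : ConjClasses.mk (1 : G) ∉ B := by
    rintro ⟨g, hg, ho⟩
    rw [ConjClasses.mk_eq_mk_iff_isConj, isConj_one_left] at hg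
    rw [hg, orderOf_one] at ho
    exact hr.one_lt.ne ho
  have hA : A.ncard = T.ncard := by
    refine Set.ncard_congr (fun c hc => (φ hc.choose : Matrix ι ι F).charpoly)
      (fun c hc => hin _ hc.choose_spec.2) (fun c d hc hd h => ?_) (fun P hP => ?_)
    · rw [← hc.choose_spec.1, ← hd.choose_spec.1, ConjClasses.mk_eq_mk_iff_isConj]
      exact hinj _ _ (hcop _ hc.choose_spec.2) (hcop _ hd.choose_spec.2) h
    · obtain ⟨g, hg⟩ := hsurj P hP
      obtain ⟨a, k, hco, hpow⟩ := SemisimpleConjGL.exists_regular_part p g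
      have hc1 : (φ (g ^ a) : Matrix ι ι F).charpoly = P := by
        rw [← hg]
        refine SemisimpleConjGL.charpoly_eq_of_pow_eq (p := p) (k := k) ?_
        rw [← Units.val_pow_eq_pow_val, ← Units.val_pow_eq_pow_val, ← map_pow, ← map_pow, hpow]
      have hr1 : (g ^ a) ^ r = 1 := by
        rcases isEmpty_or_nonempty ι with hι | hι
        · exact hφ (Units.ext (Subsingleton.elim _ _))
        obtain ⟨N, Z, hZ⟩ := hT P hP
        have h0 : ((φ (g ^ a) : Matrix ι ι F) ^ r - 1) ^ N = 0 := by
          have := Matrix.aeval_self_charpoly (φ (g ^ a) : Matrix ι ι F)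
          rw [hc1] at this
          have h2 := congrArg (aeval (φ (g ^ a) : Matrix ι ι F)) hZ
          rw [map_mul, this, zero_mul] at h2
          simpa using h2
        obtain ⟨l, hl⟩ : ∃ l, N ≤ p ^ l := ⟨N, (Nat.lt_pow_self hp.one_lt).le⟩
        have h1 := pow_eq_zero_of_le hl h0
        rw [sub_pow_char_pow_of_commute (p := p) _ (Commute.one_right _), one_pow, sub_eq_zero,
          ← pow_mul, ← Units.val_pow_eq_pow_val, ← map_pow] at h1
        have h2 : (g ^ a) ^ (r * p ^ l) = 1 := hφ (Units.ext (by rw [map_one, Units.val_one]; exact h1))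
        exact orderOf_dvd_iff_pow_eq_one.1
          ((Nat.Coprime.pow_right l hco).dvd_of_dvd_mul_right (orderOf_dvd_of_pow_eq_one h2))
      have hmem : ConjClasses.mk (g ^ a) ∈ A := ⟨g ^ a, rfl, hr1⟩
      refine ⟨_, hmem, ?_⟩
      rw [← hc1]
      exact SemisimpleConjGL.charpoly_eq_of_isConj_val φ
        (ConjClasses.mk_eq_mk_iff_isConj.1 hmem.choose_spec.1)
  show Nat.card B = _
  rw [Nat.card_coe_set_eq, ← hA, hAB, Set.ncard_insert_of_notMem hnot (Set.toFinite _),
    Nat.add_sub_cancel]

/-- The monic irreducible factors of `Φ_r`. -/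
theorem exists_factors {F : Type*} [Field F] [Fintype F] [DecidableEq F] {p q r i t : ℕ}
    [Fact p.Prime] [CharP F p] (hF : Fintype.card F = q) (hr : r.Prime) (hrp : r ≠ p)
    (hi : i = orderOf (q : ZMod r)) (ht : t * i = r - 1) :
    ∃ S : Finset F[X], S.card = t ∧ 0 < i ∧ (∀ μ, μ ∈ S ↔
        (μ.Monic ∧ Irreducible μ ∧ μ ∣ X ^ r - 1 ∧ μ ≠ lin F)) ∧
      ∀ μ ∈ S, μ.natDegree = i := by
  obtain ⟨f, -, hf⟩ := FiniteField.card F p
  have hcop : p.Coprime r := (Nat.coprime_primes Fact.out hr).2 hrp.symm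
  haveI : NeZero r := ⟨hr.ne_zero⟩
  have hord : orderOf (ZMod.unitOfCoprime _ (hcop.pow_left f)) = i := by
    rw [← orderOf_units, ZMod.coe_unitOfCoprime, hi, ← hF, hf]
  have hipos : 0 < i := hord ▸ orderOf_pos _
  refine ⟨(normalizedFactors (cyclotomic r F)).toFinset, ?_, hipos, fun μ => ?_, fun μ hμ => ?_⟩
  · rw [normalizedFactors_cyclotomic_card hf hcop, hord, Nat.totient_prime hr, ← ht,
      Nat.mul_div_cancel _ hipos]
  · rw [Multiset.mem_toFinset]
    have hX : (cyclotomic r F) * (X - 1) = X ^ r - 1 := by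
      haveI := Fact.mk hr
      exact cyclotomic_prime_mul_X_sub_one F r
    have hr0 : (r : F) ≠ 0 := by
      rw [Ne, CharP.cast_eq_zero_iff F p]
      exact (Fact.out : p.Prime).coprime_iff_not_dvd.1 hcop
    constructor
    · intro h
      have hirr := irreducible_of_normalized_factor μ h
      refine ⟨?_, hirr, hX ▸ (dvd_of_mem_normalizedFactors h).mul_right _, ?_⟩
      · rw [← normalize_normalized_factor μ h]; exact monic_normalize hirr.ne_zero
      · intro he
        obtain ⟨Z, hZ⟩ := dvd_of_mem_normalizedFactors h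
        have h1 := congrArg (eval 1) hZ
        rw [he, eval_mul] at h1
        haveI := Fact.mk hr
        simp [lin, eval_one_cyclotomic_prime] at h1
        exact hr0 h1
    · rintro ⟨hm, hirr, hd, hne⟩
      rw [← hX] at hd
      rcases hirr.prime.dvd_or_dvd hd with h | h
      · obtain ⟨ν, hν, hνμ⟩ := exists_mem_normalizedFactors_of_dvd (cyclotomic_ne_zero r F) hirr h
        have hνm : ν.Monic := by
          rw [← normalize_normalized_factor ν hν]
          exact monic_normalize (irreducible_of_normalized_factor ν hν).ne_zero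
        rwa [eq_of_monic_of_associated hm hνm hνμ]
      · refine absurd (eq_of_monic_of_associated hm lin_monic ?_) hne
        exact hirr.associated_of_dvd lin_irreducible (by rwa [lin, map_one])
  · rw [natDegree_of_mem_normalizedFactors_cyclotomic hf hcop (Multiset.mem_toFinset.1 hμ), hord]

end Cfsg.Agent.PrimeOrderClassCount
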