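import Mathlib
import Cfsg.Agent.Lib.PrimeOrderClassCount

/-!
Blocks for a multiplicative duality on the irreducible factors of `X ^ r - 1`.
-/

set_option autoImplicit false

namespace Cfsg.Agent.DualBlocks

open Polynomial Cfsg.Agent.PrimeOrderClassCount

variable {F : Type*} [Field F] [DecidableEq F]

/-- Self-dual blocks: the factors themselves if all are self-dual, otherwise the pairs. -/
theorem exists_blocks (δ : F[X] → F[X]) (hmul : ∀ a b, δ (a * b) = δ a * δ b)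
    (S₀ : Finset F[X]) (fixed : Prop) [Decidable fixed] {r i : ℕ}
    (hS : ∀ μ ∈ S₀, μ.Monic ∧ Irreducible μ ∧ μ ∣ X ^ r - 1 ∧ μ ≠ lin F ∧ μ.natDegree = i)
    (hδ : ∀ μ ∈ S₀, δ μ ∈ S₀ ∧ δ (δ μ) = μ) (hfix : fixed → ∀ μ ∈ S₀, δ μ = μ)
    (hnfix : ¬ fixed → ∀ μ ∈ S₀, δ μ ≠ μ) :
    ∃ (S : Finset F[X]) (ρ : F[X] → F[X]),
      (S.card = if fixed then S₀.card else S₀.card / 2) ∧
      (∀ B ∈ S, B.Monic ∧ B.natDegree = (if fixed then i else 2 * i) ∧ δ B = B ∧
        B ∣ (X ^ r - 1) ^ 2 ∧ ρ B ≠ lin F) ∧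
      (∀ B ∈ S, ∀ B' ∈ S, cnt (ρ B) B' = if B = B' then 1 else 0) ∧
      (∀ μ ∈ S₀, ∃ B ∈ S, ∀ P : F[X], δ P = P → μ ∣ P → B ∣ P) := by
  classical
  by_cases hf : fixed
  · refine ⟨S₀, id, by rw [if_pos hf], fun B hB => ?_,
      fun B hB B' hB' => cnt_irreducible _ (hS B' hB').2.1 (hS B' hB').1,
      fun μ h => ⟨μ, h, fun P _ hd => hd⟩⟩
    obtain ⟨h1, h2, h3, h4, h5⟩ := hS B hB
    exact ⟨h1, by rw [if_pos hf, h5], hfix hf B hB, h3.trans (dvd_pow_self _ two_ne_zero), h4⟩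
  · let blk : F[X] → F[X] := fun μ => μ * δ μ
    let S := S₀.image blk
    have hne := hnfix hf
    have hcntblk : ∀ μ ∈ S₀, ∀ ν ∈ S₀, cnt ν (blk μ) = if ν = μ ∨ ν = δ μ then 1 else 0 := by
      intro μ hμ ν _
      obtain ⟨h1, h2, -, -, -⟩ := hS μ hμ
      obtain ⟨k1, k2, -, -, -⟩ := hS _ (hδ μ hμ).1
      rw [cnt_mul h1.ne_zero k1.ne_zero, cnt_irreducible _ h2 h1, cnt_irreducible _ k2 k1]
      by_cases h : ν = μ
      · subst h; simp [(hne ν hμ).symm]
      · simp [h]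
    have hblk : ∀ μ ∈ S₀, blk (δ μ) = blk μ := fun μ hμ => by
      simp only [blk, (hδ μ hμ).2, mul_comm]
    have hblkeq : ∀ μ ∈ S₀, ∀ ν ∈ S₀, (blk μ = blk ν ↔ μ = ν ∨ μ = δ ν) := by
      intro μ hμ ν hν
      constructor
      · intro h
        have h1 := hcntblk μ hμ μ hμ
        rw [h, hcntblk ν hν μ hμ, if_pos (Or.inl rfl)] at h1
        by_contra hc
        rw [if_neg hc] at h1
        exact zero_ne_one h1
      · rintro (rfl | rfl)
        · rfl
        · exact hblk ν hν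
    let ρ : F[X] → F[X] := fun B => if h : ∃ μ ∈ S₀, blk μ = B then h.choose else 0
    have hρ : ∀ B ∈ S, ρ B ∈ S₀ ∧ blk (ρ B) = B := fun B hB => by
      have h : ∃ μ ∈ S₀, blk μ = B := Finset.mem_image.1 hB
      simp only [ρ, dif_pos h]
      exact h.choose_spec
    refine ⟨S, ρ, ?_, fun B hB => ?_, fun B hB B' hB' => ?_, fun μ h => ?_⟩
    · have h2 : S₀.card = 2 * S.card := by
        rw [Finset.card_eq_sum_card_image blk S₀, mul_comm, ← smul_eq_mul, ← Finset.sum_const]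
        refine Finset.sum_congr rfl fun B hB => ?_
        obtain ⟨hρB, hρB'⟩ := hρ B hB
        have : S₀.filter (fun ν => blk ν = B) = {ρ B, δ (ρ B)} := by
          ext ν
          simp only [Finset.mem_filter, Finset.mem_insert, Finset.mem_singleton]
          constructor
          · rintro ⟨hν, he⟩
            exact (hblkeq ν hν _ hρB).1 (he.trans hρB'.symm)
          · rintro (rfl | rfl)
            · exact ⟨hρB, hρB'⟩
            · exact ⟨(hδ _ hρB).1, (hblk _ hρB).trans hρB'⟩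
        rw [this, Finset.card_pair (hne _ hρB).symm]
      rw [if_neg hf]
      omega
    · obtain ⟨hρB, hρB'⟩ := hρ B hB
      obtain ⟨h1, h2, h3, h4, h5⟩ := hS _ hρB
      obtain ⟨k1, k2, k3, k4, k5⟩ := hS _ (hδ _ hρB).1
      refine ⟨?_, ?_, ?_, ?_, h4⟩
      · rw [← hρB']; exact h1.mul k1
      · rw [← hρB', if_neg hf, h1.natDegree_mul k1, h5, k5]; omega
      · rw [← hρB']
        simp only [blk, hmul, (hδ _ hρB).2, mul_comm]
      · rw [← hρB', pow_two]
        exact mul_dvd_mul h3 k3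
    · obtain ⟨hρB, hρB'⟩ := hρ B hB
      obtain ⟨hρC, hρC'⟩ := hρ B' hB'
      conv_lhs => rw [← hρC']
      rw [hcntblk _ hρC _ hρB]
      exact if_congr ((hblkeq _ hρB _ hρC).symm.trans (by rw [hρB', hρC'])) rfl rfl
    · refine ⟨blk μ, Finset.mem_image_of_mem _ h, fun P hP hd => ?_⟩
      obtain ⟨h1, h2, -, -, -⟩ := hS μ h
      obtain ⟨k1, k2, -, -, -⟩ := hS _ (hδ μ h).1
      have hd' : δ μ ∣ P := by
        obtain ⟨Z, rfl⟩ := hd
        rw [← hP, hmul]
        exact dvd_mul_right _ _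
      refine IsCoprime.mul_dvd (h2.coprime_iff_not_dvd.2 fun hdd => ?_) hd hd'
      exact hne μ h (eq_of_monic_of_associated h1 k1 (h2.associated_of_dvd k2 hdd)).symm

end Cfsg.Agent.DualBlocks
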