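import Mathlib
import Cfsg.Agent.Lib.PrimeOrderClassCount

/-!
Self-reciprocal blocks of the factors of `X ^ r - 1` over a finite field.
-/

set_option autoImplicit false

namespace Cfsg.Agent.SelfReciprocalFactors

open Polynomial Cfsg.Agent.PrimeOrderClassCount

variable {F : Type*} [Field F]

/-- The monic reciprocal polynomial. -/
noncomputable def st [DecidableEq F] (μ : F[X]) : F[X] := normalize μ.mirror

theorem mirror_irreducible {μ : F[X]} (h : Irreducible μ) : Irreducible μ.mirror := by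
  refine ⟨fun hu => ?_, fun a b hab => ?_⟩
  · have := natDegree_eq_zero_of_isUnit hu
    rw [mirror_natDegree] at this
    exact h.natDegree_pos.ne' this
  · have h' : μ = a.mirror * b.mirror := by rw [← mirror_mul_of_domain, ← hab, mirror_mirror]
    have key : ∀ c : F[X], IsUnit c.mirror → IsUnit c := fun c hc => by
      have h1 := natDegree_eq_zero_of_isUnit hc
      rw [mirror_natDegree] at h1
      rw [eq_C_of_natDegree_eq_zero h1, mirror_C] at hc
      rwa [eq_C_of_natDegree_eq_zero h1]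
    exact (h.isUnit_or_isUnit h').imp (key a) (key b)

theorem mirror_dvd {a b : F[X]} (h : a ∣ b) : a.mirror ∣ b.mirror := by
  obtain ⟨c, rfl⟩ := h
  exact ⟨c.mirror, mirror_mul_of_domain a c⟩

theorem mirror_associated {a b : F[X]} (h : Associated a b) : Associated a.mirror b.mirror :=
  associated_of_dvd_dvd (mirror_dvd h.dvd) (mirror_dvd h.symm.dvd)

theorem mirror_X_pow_sub_one_dvd (r : ℕ) : (X ^ r - 1 : F[X]).mirror ∣ X ^ r - 1 := by
  rcases Nat.eq_zero_or_pos r with rfl | hr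
  · simp
  have h0 : (X ^ r - 1 : F[X]).natTrailingDegree = 0 :=
    natTrailingDegree_eq_zero.2 (Or.inr (by simp [hr.ne]))
  have : (X ^ r - 1 : F[X]).mirror = -(X ^ r - 1) := by
    rw [Polynomial.mirror, h0, pow_zero, mul_one, sub_eq_add_neg, ← C_1, ← C_neg, reverse_add_C,
      natDegree_X_pow, ← mul_one ((X : F[X]) ^ r), reverse_X_pow_mul, ← C_1, reverse_C, C_1]
    simp [C_neg]
  rw [this]
  exact (neg_dvd).2 dvd_rfl

theorem eq_mirror_of_associated {B : F[X]} (h : Associated B.mirror B)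
    (h1 : B.eval 1 ≠ 0) : B.mirror = B := by
  obtain ⟨u, hu⟩ := h.symm
  obtain ⟨c, -, hc⟩ := Polynomial.isUnit_iff.1 u.isUnit
  have h2 := congrArg (eval 1) hu
  rw [mirror_eval_one, eval_mul, ← hc, eval_C] at h2
  have : c = 1 := mul_left_cancel₀ h1 (h2.trans (mul_one _).symm)
  rw [← hu, ← hc, this, C_1, mul_one]

theorem lin_sq_mirror : (lin F ^ 2).mirror = lin F ^ 2 := by
  have h0 : (lin F).natTrailingDegree = 0 := natTrailingDegree_eq_zero.2 (Or.inr (by simp [lin]))
  have h : (lin F).mirror = -lin F := by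
    rw [Polynomial.mirror, h0, pow_zero, mul_one, lin, sub_eq_add_neg, ← C_neg, reverse_add_C]
    have : reverse (X : F[X]) = 1 := by
      rw [← mul_one (X : F[X]), reverse_X_mul, ← C_1, reverse_C]
    rw [this, natDegree_X, C_neg, C_1]
    ring
  rw [pow_two, mirror_mul_of_domain, h, neg_mul_neg]

variable [DecidableEq F]

/-- An irreducible monic factor of `X ^ r - 1` other than `X - 1`. -/
structure IsFactor (r : ℕ) (μ : F[X]) : Prop where
  monic : μ.Monic
  irr : Irreducible μ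
  dvd : μ ∣ X ^ r - 1
  ne : μ ≠ lin F

theorem IsFactor.eval_one {r : ℕ} {μ : F[X]} (h : IsFactor r μ) : μ.eval 1 ≠ 0 := fun h1 =>
  h.ne (eq_of_monic_of_associated h.monic lin_monic
    (lin_irreducible.associated_of_dvd h.irr (dvd_iff_isRoot.2 h1)).symm)

theorem assoc_st {μ : F[X]} : Associated μ.mirror (st μ) := (normalize_associated _).symm

theorem IsFactor.isFactor_st {r : ℕ} {μ : F[X]} (h : IsFactor r μ) : IsFactor r (st μ) := by
  have hirr := mirror_irreducible h.irr
  refine ⟨monic_normalize hirr.ne_zero, assoc_st.irreducible hirr,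
    assoc_st.symm.dvd.trans ((mirror_dvd h.dvd).trans (mirror_X_pow_sub_one_dvd r)), fun he => ?_⟩
  have he' : lin F ∣ μ.mirror := he ▸ (assoc_st (μ := μ)).symm.dvd
  have h1 : μ.mirror.eval 1 = 0 := dvd_iff_isRoot.1 he'
  rw [mirror_eval_one] at h1
  exact h.eval_one h1

theorem IsFactor.st_st {r : ℕ} {μ : F[X]} (h : IsFactor r μ) : st (st μ) = μ := by
  refine eq_of_monic_of_associated h.isFactor_st.isFactor_st.monic h.monic ?_
  refine assoc_st.symm.trans ?_
  have := mirror_associated (assoc_st (μ := μ)).symm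
  rwa [mirror_mirror] at this

theorem natDegree_st (μ : F[X]) : (st μ).natDegree = μ.natDegree := by
  rw [← natDegree_eq_of_degree_eq (degree_eq_degree_of_associated (assoc_st (μ := μ))), mirror_natDegree]

theorem root_facts {r : ℕ} (hr : r.Prime) {μ : F[X]} (h : IsFactor r μ) [Fact (Irreducible μ)] :
    AdjoinRoot.root μ ^ r = 1 ∧ orderOf (AdjoinRoot.root μ) = r := by
  have h1 : AdjoinRoot.root μ ^ r = 1 := by
    have := AdjoinRoot.mk_eq_zero.2 h.dvd
    rw [map_sub, map_pow, map_one, AdjoinRoot.mk_X, sub_eq_zero] at this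
    exact this
  refine ⟨h1, (Nat.dvd_prime hr).1 (orderOf_dvd_of_pow_eq_one h1) |>.resolve_left fun ho => ?_⟩
  rw [orderOf_eq_one_iff] at ho
  have : μ ∣ lin F := by
    rw [← AdjoinRoot.mk_eq_zero, lin, map_sub, AdjoinRoot.mk_X, AdjoinRoot.mk_C, map_one, ho, sub_self]
  exact h.ne (eq_of_monic_of_associated h.monic lin_monic (h.irr.associated_of_dvd lin_irreducible this))

theorem st_eq_iff_root {r : ℕ} (hr : r.Prime) {μ : F[X]} (h : IsFactor r μ) [Fact (Irreducible μ)] :
    st μ = μ ↔ aeval (AdjoinRoot.root μ)⁻¹ μ = 0 := by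
  have hζ : AdjoinRoot.root μ ≠ 0 := fun h0 => by
    have := (root_facts hr h).1
    rw [h0, zero_pow hr.ne_zero] at this
    exact zero_ne_one this
  have h0 : μ.natTrailingDegree = 0 := by
    refine natTrailingDegree_eq_zero.2 (Or.inr fun hc => ?_)
    obtain ⟨Z, hZ⟩ := h.dvd
    have := congrArg (eval 0) hZ
    rw [eval_mul, ← coeff_zero_eq_eval_zero μ, hc, zero_mul] at this
    simp [hr.ne_zero] at this
  letI := invertibleOfNonzero (inv_ne_zero hζ)
  have key : aeval (AdjoinRoot.root μ)⁻¹ μ = 0 ↔ μ ∣ μ.mirror := by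
    rw [aeval_def, ← eval₂_reverse_eq_zero_iff, invOf_eq_inv, inv_inv, ← aeval_def,
      AdjoinRoot.aeval_eq, AdjoinRoot.mk_eq_zero, Polynomial.mirror, h0, pow_zero, mul_one]
  rw [key]
  constructor
  · intro he
    have h' : st μ ∣ μ.mirror := (assoc_st (μ := μ)).symm.dvd
    rwa [he] at h'
  · intro hd
    exact (eq_of_monic_of_associated h.monic h.isFactor_st.monic
      ((h.irr.associated_of_dvd (mirror_irreducible h.irr) hd).trans assoc_st)).symm

theorem st_of_even [Fintype F] {q r i : ℕ} (hF : Fintype.card F = q) (hr : r.Prime)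
    (hi : i = orderOf (q : ZMod r)) (hi0 : 0 < i) (hev : Even i) {μ : F[X]} (h : IsFactor r μ) :
    st μ = μ := by
  haveI := Fact.mk h.irr
  haveI := Fact.mk hr
  rw [st_eq_iff_root hr h]
  haveI := h.monic.finite_adjoinRoot
  haveI : Finite (AdjoinRoot μ) := Module.finite_of_finite F
  obtain ⟨k, hk⟩ := hev
  have hneg : (q : ZMod r) ^ k = -1 := by
    have h2 : (q : ZMod r) ^ k * (q : ZMod r) ^ k = 1 := by
      rw [← pow_add, ← hk, hi, pow_orderOf_eq_one]
    rcases mul_self_eq_one_iff.1 h2 with h1 | h1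
    · have := orderOf_dvd_of_pow_eq_one h1
      rw [← hi] at this
      have := Nat.le_of_dvd (by omega) this
      omega
    · exact h1
  have hdvd : r ∣ q ^ k + 1 := by
    rw [← ZMod.natCast_eq_zero_iff]
    push_cast
    rw [hneg, neg_add_cancel]
  have hinv : (AdjoinRoot.root μ)⁻¹ = AdjoinRoot.root μ ^ q ^ k := by
    refine inv_eq_of_mul_eq_one_right ?_
    obtain ⟨c, hc⟩ := hdvd
    rw [← pow_succ', hc, pow_mul, (root_facts hr h).1, one_pow]
  let φ := FiniteField.frobeniusAlgEquivOfAlgebraic F (AdjoinRoot μ)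
  have hφ : (φ ^ k) (AdjoinRoot.root μ) = AdjoinRoot.root μ ^ q ^ k := by
    simp [φ, AlgEquiv.coe_pow, FiniteField.coe_frobeniusAlgEquivOfAlgebraic, pow_iterate, hF]
  rw [hinv, ← hφ, aeval_algHom_apply, AdjoinRoot.aeval_eq, AdjoinRoot.mk_self, map_zero]

theorem st_of_odd [Finite F] {r : ℕ} (hr : r.Prime) (hr2 : r ≠ 2) {μ : F[X]} (h : IsFactor r μ)
    (hodd : Odd μ.natDegree) : st μ ≠ μ := by
  haveI := Fact.mk h.irr
  rw [Ne, st_eq_iff_root hr h]
  intro hz
  haveI := h.monic.finite_adjoinRoot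
  haveI : Finite (AdjoinRoot μ) := Module.finite_of_finite F
  have h1 := (root_facts hr h).1
  have ho := (root_facts hr h).2
  let pb := AdjoinRoot.powerBasis h.irr.ne_zero
  have hmin : minpoly F pb.gen = μ := by
    rw [AdjoinRoot.powerBasis_gen h.irr.ne_zero, AdjoinRoot.minpoly_root h.irr.ne_zero,
      h.monic.leadingCoeff, inv_one, map_one, mul_one]
  let σ : AdjoinRoot μ →ₐ[F] AdjoinRoot μ := pb.lift (AdjoinRoot.root μ)⁻¹ (by rw [hmin]; exact hz)
  have hσ : σ (AdjoinRoot.root μ) = (AdjoinRoot.root μ)⁻¹ := by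
    rw [← AdjoinRoot.powerBasis_gen h.irr.ne_zero]; exact pb.lift_gen _ _
  let τ : AdjoinRoot μ ≃ₐ[F] AdjoinRoot μ := AlgEquiv.ofBijective σ
    ⟨σ.toRingHom.injective, Finite.injective_iff_surjective.1 σ.toRingHom.injective⟩
  have hτ : τ (AdjoinRoot.root μ) = (AdjoinRoot.root μ)⁻¹ := hσ
  have h2 : orderOf τ = 2 := by
    refine orderOf_eq_prime ?_ fun he => ?_
    · refine AlgEquiv.coe_toAlgHom_injective (pb.algHom_ext ?_)
      rw [AdjoinRoot.powerBasis_gen h.irr.ne_zero]
      show τ (τ (AdjoinRoot.root μ)) = AdjoinRoot.root μ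
      rw [hτ, map_inv₀, hτ, inv_inv]
    · rw [he] at hτ
      have hne : AdjoinRoot.root μ ≠ 0 := fun h0 => by
        rw [h0, zero_pow hr.ne_zero] at h1; exact zero_ne_one h1
      have : AdjoinRoot.root μ ^ 2 = 1 := by
        rw [pow_two]; nth_rewrite 1 [show AdjoinRoot.root μ = (AdjoinRoot.root μ)⁻¹ from hτ]
        exact inv_mul_cancel₀ hne
      have := orderOf_dvd_of_pow_eq_one this
      rw [ho] at this
      exact hr2 ((Nat.prime_dvd_prime_iff_eq hr Nat.prime_two).1 this)
  have hdvd := orderOf_dvd_natCard τ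
  rw [IsGalois.card_aut_eq_finrank, pb.finrank, AdjoinRoot.powerBasis_dim h.irr.ne_zero, h2] at hdvd
  exact (Nat.not_even_iff_odd.2 hodd) (even_iff_two_dvd.2 hdvd)

/-- A polynomial assembled from factors of `X ^ r - 1` which is its own reciprocal. -/
def Adm (r : ℕ) (P : F[X]) : Prop :=
  P.Monic ∧ P.mirror = P ∧ ∀ μ : F[X], μ.Monic → Irreducible μ → μ ∣ P → μ ∣ X ^ r - 1

theorem adm_of_dvd {r : ℕ} {P P' B : F[X]} (hB : B.Monic) (hBm : B.mirror = B)
    (hP : Adm r P) (he : P = B * P') : Adm r P' := by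
  obtain ⟨h1, h2, h3⟩ := hP
  subst he
  refine ⟨hB.of_mul_monic_left h1, ?_, fun μ hm hi hd => h3 μ hm hi (hd.mul_left B)⟩
  rw [mirror_mul_of_domain, hBm] at h2
  exact mul_left_cancel₀ hB.ne_zero h2

/-- The blocks, with their degree and number. -/
theorem exists_blocks [Fintype F] {p q r i t : ℕ} [Fact p.Prime] [CharP F p]
    (hF : Fintype.card F = q) (hr : r.Prime) (hr2 : r ≠ 2) (hrp : r ≠ p)
    (hi : i = orderOf (q : ZMod r)) (ht : t * i = r - 1) :
    0 < i ∧ ∃ (S : Finset F[X]) (ρ : F[X] → F[X]),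
      (S.card = if Odd i then t / 2 else t) ∧
      (∀ B ∈ S, B.Monic ∧ B.natDegree = (if Odd i then 2 * i else i) ∧ B.mirror = B ∧
        B ∣ (X ^ r - 1) ^ 2 ∧ ρ B ≠ lin F) ∧
      (∀ B ∈ S, ∀ B' ∈ S, cnt (ρ B) B' = if B = B' then 1 else 0) ∧
      (∀ μ : F[X], IsFactor r μ → ∃ B ∈ S, ∀ P : F[X], P.mirror = P → μ ∣ P → B ∣ P) := by
  classical
  obtain ⟨S₀, hcard, hi0, hmem, hdeg⟩ := exists_factors (p := p) hF hr hrp hi ht
  have hfac : ∀ μ ∈ S₀, IsFactor r μ := fun μ hμ => by
    obtain ⟨a, b, c, d⟩ := (hmem μ).1 hμ; exact ⟨a, b, c, d⟩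
  have hmem' : ∀ μ, IsFactor r μ → μ ∈ S₀ := fun μ h => (hmem μ).2 ⟨h.monic, h.irr, h.dvd, h.ne⟩
  refine ⟨hi0, ?_⟩
  rcases Nat.even_or_odd i with hev | hodd
  · have hno : ¬ Odd i := Nat.not_odd_iff_even.2 hev
    refine ⟨S₀, id, by rw [if_neg hno, hcard], fun B hB => ?_, fun B hB B' hB' =>
      cnt_irreducible _ (hfac B' hB').irr (hfac B' hB').monic, fun μ h => ⟨μ, hmem' μ h, fun P _ hd => hd⟩⟩
    refine ⟨(hfac B hB).monic, by rw [if_neg hno, hdeg B hB], ?_,
      (hfac B hB).dvd.trans (dvd_pow_self _ two_ne_zero), (hfac B hB).ne⟩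
    refine eq_mirror_of_associated ?_ (hfac B hB).eval_one
    have := assoc_st (μ := B)
    rwa [st_of_even hF hr hi hi0 hev (hfac B hB)] at this
  · let blk : F[X] → F[X] := fun μ => μ * st μ
    let S := S₀.image blk
    have hne : ∀ μ ∈ S₀, st μ ≠ μ := fun μ hμ =>
      st_of_odd hr hr2 (hfac μ hμ) (by rw [hdeg μ hμ]; exact hodd)
    have hcntblk : ∀ μ ∈ S₀, ∀ ν ∈ S₀, cnt ν (blk μ) = if ν = μ ∨ ν = st μ then 1 else 0 := by
      intro μ hμ ν _
      rw [cnt_mul (hfac μ hμ).monic.ne_zero (hfac μ hμ).isFactor_st.monic.ne_zero,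
        cnt_irreducible _ (hfac μ hμ).irr (hfac μ hμ).monic,
        cnt_irreducible _ (hfac μ hμ).isFactor_st.irr (hfac μ hμ).isFactor_st.monic]
      by_cases h1 : ν = μ
      · subst h1; simp [(hne ν hμ).symm]
      · simp [h1]
    have hblk : ∀ μ ∈ S₀, blk (st μ) = blk μ := fun μ hμ => by
      simp only [blk, (hfac μ hμ).st_st, mul_comm]
    have hblkeq : ∀ μ ∈ S₀, ∀ ν ∈ S₀, (blk μ = blk ν ↔ μ = ν ∨ μ = st ν) := by
      intro μ hμ ν hν
      constructor
      · intro h
        have h1 := hcntblk μ hμ μ hμ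
        rw [h, hcntblk ν hν μ hμ, if_pos (Or.inl rfl)] at h1
        by_contra hc
        rw [if_neg hc] at h1
        exact zero_ne_one h1
      · rintro (rfl | rfl)
        · rfl
        · exact hblk ν hν
    let ρ : F[X] → F[X] := fun B => if h : ∃ μ ∈ S₀, blk μ = B then h.choose else 0
    have hρ : ∀ B ∈ S, ρ B ∈ S₀ ∧ blk (ρ B) = B := fun B hB => by
      have h : ∃ μ ∈ S₀, blk μ = B := Finset.mem_image.1 hB
      simp only [ρ, dif_pos h]
      exact h.choose_spec
    refine ⟨S, ρ, ?_, fun B hB => ?_, fun B hB B' hB' => ?_, fun μ h => ?_⟩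
    · have h2 : S₀.card = 2 * S.card := by
        rw [Finset.card_eq_sum_card_image blk S₀, mul_comm, ← smul_eq_mul, ← Finset.sum_const]
        refine Finset.sum_congr rfl fun B hB => ?_
        obtain ⟨hρB, hρB'⟩ := hρ B hB
        have : S₀.filter (fun ν => blk ν = B) = {ρ B, st (ρ B)} := by
          ext ν
          simp only [Finset.mem_filter, Finset.mem_insert, Finset.mem_singleton]
          constructor
          · rintro ⟨hν, he⟩
            exact (hblkeq ν hν _ hρB).1 (he.trans hρB'.symm)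
          · rintro (rfl | rfl)
            · exact ⟨hρB, hρB'⟩
            · exact ⟨hmem' _ (hfac _ hρB).isFactor_st, (hblk _ hρB).trans hρB'⟩
        rw [this, Finset.card_pair (hne _ hρB).symm]
      rw [if_pos hodd]
      omega
    · obtain ⟨hρB, hρB'⟩ := hρ B hB
      have hf := hfac _ hρB
      refine ⟨?_, ?_, ?_, ?_, hf.ne⟩
      · rw [← hρB']; exact hf.monic.mul hf.isFactor_st.monic
      · rw [← hρB', if_pos hodd, hf.monic.natDegree_mul hf.isFactor_st.monic, natDegree_st, hdeg _ hρB]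
        omega
      · rw [← hρB']
        refine eq_mirror_of_associated ?_ ?_
        · simp only [blk]
          rw [mirror_mul_of_domain, mul_comm (ρ B)]
          refine assoc_st.mul_mul ?_
          have := mirror_associated (assoc_st (μ := ρ B)).symm
          rwa [mirror_mirror] at this
        · simp only [blk, eval_mul]
          exact mul_ne_zero hf.eval_one hf.isFactor_st.eval_one
      · rw [← hρB', pow_two]
        exact mul_dvd_mul hf.dvd hf.isFactor_st.dvd
    · obtain ⟨hρB, hρB'⟩ := hρ B hB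
      obtain ⟨hρC, hρC'⟩ := hρ B' hB'
      conv_lhs => rw [← hρC']
      rw [hcntblk _ hρC _ hρB]
      exact if_congr ((hblkeq _ hρB _ hρC).symm.trans (by rw [hρB', hρC'])) rfl rfl
    · refine ⟨blk μ, Finset.mem_image_of_mem _ (hmem' μ h), fun P hP hd => ?_⟩
      have h1 : st μ ∣ P := assoc_st.symm.dvd.trans (hP ▸ mirror_dvd hd)
      refine IsCoprime.mul_dvd (h.irr.coprime_iff_not_dvd.2 fun hdd => ?_) hd h1
      exact hne μ (hmem' μ h)
        (eq_of_monic_of_associated h.monic h.isFactor_st.monic (h.irr.associated_of_dvd h.isFactor_st.irr hdd)).symm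

end Cfsg.Agent.SelfReciprocalFactors
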