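import Mathlib
import Cfsg.Prelude.Def_LieClassical
import Cfsg.Agent.Lib.HermitianFactor
import Cfsg.Agent.Lib.SemisimpleConjGL
import Cfsg.Agent.Lib.DualBlocks
import Cfsg.Agent.Lib.SelfReciprocalFactors
import Cfsg.Agent.Lib.OrthUnitaryHerm
import Cfsg.Agent.S2588

/-!
Classes of elements of prime order `r ∤ q (q + 1)` in `GU_n(q)`.
-/

set_option autoImplicit false

namespace Cfsg.Agent.UnitaryPrimeOrderClasses

open Polynomial Cfsg.Agent.PrimeOrderClassCount

variable {K : Type*} [Field K] [Fintype K] {σ : K →+* K}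

/-- Linearly conjugate unitary matrices are unitarily conjugate. -/
theorem isConj_of_linear {n q : ℕ} (hq : ∀ x, σ x = x ^ q) (hσ : ∀ x, σ (σ x) = x) (c : K)
    (hc : σ c ≠ c) (g h : ↥(Cfsg.GU n K q)) (P : GL (Fin n) K)
    (hP : P * (g : GL (Fin n) K) = h * P) : IsConj g h := by
  classical
  let M := fun A : GL (Fin n) K => (A : Matrix (Fin n) (Fin n) K)
  have hg := (HermitianFactor.mem_GU_iff hq hσ _).1 g.2
  have hh := (HermitianFactor.mem_GU_iff hq hσ _).1 h.2
  have hP' : M P * M g = M h * M P := congrArg Units.val hP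
  set H := HermitianFactor.ct σ (M P) * M P with hH
  have hHu : IsUnit H := (HermitianFactor.isUnit_ct P.isUnit).mul P.isUnit
  have hHfix : HermitianFactor.ct σ H = H := by
    rw [hH, HermitianFactor.ct_mul, HermitianFactor.ct_ct hσ]
  have hinv : HermitianFactor.ct σ (M g) * H * M g = H := by
    calc _ = HermitianFactor.ct σ (M P * M g) * (M P * M g) := by
          rw [hH, HermitianFactor.ct_mul]; simp only [mul_assoc]
      _ = _ := by
          rw [hP', HermitianFactor.ct_mul, hH, mul_assoc, ← mul_assoc (HermitianFactor.ct σ (M h)), hh, one_mul]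
  have hcomm : Commute (M g) H := by
    show M g * H = H * M g
    have h1 : M g * HermitianFactor.ct σ (M g) = 1 := mul_eq_one_comm.1 hg
    calc M g * H = M g * (HermitianFactor.ct σ (M g) * H * M g) := by rw [hinv]
      _ = H * M g := by rw [← mul_assoc, ← mul_assoc, h1, one_mul]
  obtain ⟨s, hs, hsu, he⟩ := HermitianFactor.exists_factor hσ c hc hHu hHfix
  have hgs : Commute (M g) s := Algebra.commute_of_mem_adjoin_of_forall_mem_commute hs
    (by rintro _ rfl; exact hcomm)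
  obtain ⟨u, rfl⟩ := hsu
  have hQ : P * u⁻¹ ∈ Cfsg.GU n K q := by
    rw [HermitianFactor.mem_GU_iff hq hσ]
    show HermitianFactor.ct σ (M P * M u⁻¹) * (M P * M u⁻¹) = 1
    rw [HermitianFactor.ct_mul, mul_assoc, ← mul_assoc (HermitianFactor.ct σ (M P)), ← hH, ← he,
      mul_assoc, Units.mul_inv, mul_one, ← HermitianFactor.ct_mul, Units.mul_inv, HermitianFactor.ct_one]
  refine isConj_iff.2 ⟨⟨P * u⁻¹, hQ⟩, ?_⟩
  rw [mul_inv_eq_iff_eq_mul]
  refine Subtype.ext (Units.ext ?_)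
  show M P * M u⁻¹ * M g = M h * (M P * M u⁻¹)
  have hgu : M u⁻¹ * M g = M g * M u⁻¹ := (Commute.units_inv_left (show Commute (M u) (M g) from hgs.symm)).eq
  rw [mul_assoc, hgu, ← mul_assoc, hP', mul_assoc]

variable [DecidableEq K]

/-- The conjugate reciprocal. -/
noncomputable def dual (σ : K →+* K) (P : K[X]) : K[X] := normalize (P.map σ).mirror

theorem dual_mul (a b : K[X]) : dual σ (a * b) = dual σ a * dual σ b := by
  simp [dual, Polynomial.map_mul, mirror_mul_of_domain]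

theorem dual_lin : dual σ (lin K) = lin K := by
  have h0 : (lin K).natTrailingDegree = 0 := natTrailingDegree_eq_zero.2 (Or.inr (by simp [lin]))
  have hm : (lin K).map σ = lin K := by simp [lin]
  have h : (lin K).mirror = lin K * -1 := by
    rw [Polynomial.mirror, h0, pow_zero, mul_one, lin, sub_eq_add_neg, ← C_neg, reverse_add_C]
    have : reverse (X : K[X]) = 1 := by
      rw [← mul_one (X : K[X]), reverse_X_mul, ← C_1, reverse_C]
    rw [this, natDegree_X, C_neg, C_1]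
    ring
  rw [dual, hm, h]
  exact eq_of_monic_of_associated (monic_normalize (mul_ne_zero lin_monic.ne_zero (neg_ne_zero.2 one_ne_zero)))
    lin_monic ((normalize_associated _).trans (associated_mul_unit_left _ _ isUnit_one.neg))

/-- The characteristic polynomial of `(ct A)⁻¹`. -/
theorem charpoly_ct_inv {ι : Type*} [Fintype ι] [DecidableEq ι] (A : Matrix ι ι K) (hA : IsUnit A) :
    ((HermitianFactor.ct σ A)⁻¹).charpoly = dual σ A.charpoly := by
  have hct : IsUnit (HermitianFactor.ct σ A) := HermitianFactor.isUnit_ct hA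
  have hm : (HermitianFactor.ct σ A).charpoly = A.charpoly.map σ := by
    rw [HermitianFactor.ct, Matrix.charpoly_transpose, Matrix.charpoly_map]
  refine eq_of_monic_of_associated (Matrix.charpoly_monic _) ?_ ?_
  · exact monic_normalize (mirror_eq_zero.not.2 (((Matrix.charpoly_monic A).map σ).ne_zero))
  · refine Associated.trans ?_ (normalize_associated _).symm
    have h0 : (A.charpoly.map σ).natTrailingDegree = 0 := by
      refine natTrailingDegree_eq_zero.2 (Or.inr ?_)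
      rw [← hm]
      intro h
      have hd := ((Matrix.isUnit_iff_isUnit_det _).1 hct).ne_zero
      rw [Matrix.det_eq_sign_charpoly_coeff, h, mul_zero] at hd
      exact hd rfl
    rw [Matrix.charpoly_inv _ hct, Polynomial.mirror, h0, pow_zero, mul_one, ← hm, Matrix.reverse_charpoly]
    refine (associated_unit_mul_left _ _ ?_)
    refine ((isUnit_one.neg).pow _).mul (Polynomial.isUnit_C.2 ?_)
    exact ((Matrix.isUnit_iff_isUnit_det _).1 hct).ringInverse

theorem mem_dual_fixed {n q : ℕ} (hq : ∀ x, σ x = x ^ q) (hσ : ∀ x, σ (σ x) = x) (g : ↥(Cfsg.GU n K q)) :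
    dual σ (((g : GL (Fin n) K) : Matrix (Fin n) (Fin n) K).charpoly) =
      ((g : GL (Fin n) K) : Matrix (Fin n) (Fin n) K).charpoly := by
  rw [← charpoly_ct_inv _ (g : GL (Fin n) K).isUnit,
    Matrix.inv_eq_right_inv ((HermitianFactor.mem_GU_iff hq hσ _).1 g.2)]

theorem exists_unitary {n p q r : ℕ} [Fact p.Prime] [CharP K p] (hK : Fintype.card K = q ^ 2)
    (hq : ∀ x, σ x = x ^ q) {P : K[X]} (hPm : P.Monic) (hPd : P.natDegree = n)
    (hdual : dual σ P = P) (h0 : P.eval 0 ≠ 0) (hr : ∀ A : Matrix (Fin n) (Fin n) K, A.charpoly = P →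
      ∃ k : ℕ, (A ^ r - 1) ^ k = 0) (hrp : r.Coprime p) :
    ∃ g : ↥(Cfsg.GU n K q), ((g : GL (Fin n) K) : Matrix (Fin n) (Fin n) K).charpoly = P := by
  classical
  obtain ⟨A, hA⟩ := SemisimpleConjGL.exists_matrix_charpoly P hPm hPd
  have hA0 : A.det ≠ 0 := fun h => by
    apply h0
    have h1 := Matrix.det_eq_sign_charpoly_coeff A
    rw [h, hA, coeff_zero_eq_eval_zero] at h1
    simpa using h1.symm
  obtain ⟨a, k, hcop, hpow⟩ := SemisimpleConjGL.exists_regular_part p (Matrix.GeneralLinearGroup.mkOfDetNeZero A hA0)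
  set x := Matrix.GeneralLinearGroup.mkOfDetNeZero A hA0 ^ a with hx
  have hc : (x : Matrix (Fin n) (Fin n) K).charpoly = P := by
    rw [← hA]
    refine SemisimpleConjGL.charpoly_eq_of_pow_eq (p := p) (k := k) ?_
    rw [← Units.val_pow_eq_pow_val, hpow, Units.val_pow_eq_pow_val]
    rfl
  have hss := SemisimpleConjGL.isSemisimple_of_coprime (MonoidHom.id (GL (Fin n) K)) hcop
  have hxn : (x : Matrix (Fin n) (Fin n) K) ^ orderOf x = 1 := by
    rw [← Units.val_pow_eq_pow_val, pow_orderOf_eq_one, Units.val_one]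
  have hNF : ((orderOf x : ℕ) : K) ≠ 0 := by
    rw [Ne, CharP.cast_eq_zero_iff K p]
    exact (Fact.out : p.Prime).coprime_iff_not_dvd.1 hcop.symm
  set Y := (HermitianFactor.ct σ (x : Matrix (Fin n) (Fin n) K))⁻¹ with hY
  have hYn : Y ^ orderOf x = 1 := by
    rw [hY, Matrix.inv_pow']
    have : HermitianFactor.ct σ (x : Matrix (Fin n) (Fin n) K) ^ orderOf x =
        HermitianFactor.ct σ ((x : Matrix (Fin n) (Fin n) K) ^ orderOf x) := by
      generalize orderOf x = N
      induction N with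
      | zero => simp [HermitianFactor.ct_one]
      | succ N ih => rw [pow_succ, ih, pow_succ', HermitianFactor.ct_mul]
    rw [this, hxn, HermitianFactor.ct_one, inv_one]
  obtain ⟨U, hU⟩ := SemisimpleConjGL.exists_gl_conj (A := (x : Matrix (Fin n) (Fin n) K)) (B := Y) hss
    (SemisimpleConjGL.isSemisimple_of_pow_eq_one hNF hYn)
    (by rw [hY, charpoly_ct_inv _ x.isUnit, hc, hdual])
  have hconj : IsConj (x : Matrix (Fin n) (Fin n) K)
      (((x : Matrix (Fin n) (Fin n) K).map (fun y : K => y ^ q)).transpose)⁻¹ := by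
    refine ⟨U, ?_⟩
    have : ((x : Matrix (Fin n) (Fin n) K).map (fun y : K => y ^ q)).transpose =
        HermitianFactor.ct σ (x : Matrix (Fin n) (Fin n) K) := by
      ext i j; simp [HermitianFactor.ct, hq]
    rw [this]
    exact hU
  obtain ⟨g, hg⟩ := (Cfsg.Agent.S2588.result hK x).2 hconj
  exact ⟨g, (SemisimpleConjGL.charpoly_eq_of_isConj_val (MonoidHom.id (GL (Fin n) K)) hg).symm.trans hc⟩

theorem root_criterion {q r : ℕ} (hK : Fintype.card K = q ^ 2) (hq : ∀ x, σ x = x ^ q) (hσ : ∀ x, σ (σ x) = x) (hq0 : q ≠ 0)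
    (hr : r ≠ 0) {μ : K[X]} (hm : μ.Monic) (hirr : Irreducible μ) (hdvd : μ ∣ X ^ r - 1)
    [Fact (Irreducible μ)] :
    dual σ μ = μ ↔ aeval (((AdjoinRoot.root μ)⁻¹) ^ q) μ = 0 := by
  have hr1 : AdjoinRoot.root μ ^ r = 1 := by
    have := AdjoinRoot.mk_eq_zero.2 hdvd
    rw [map_sub, map_pow, map_one, AdjoinRoot.mk_X, sub_eq_zero] at this
    exact this
  have hζ : AdjoinRoot.root μ ≠ 0 := fun h0 => by
    rw [h0, zero_pow hr] at hr1; exact zero_ne_one hr1
  have hμ0 : μ.coeff 0 ≠ 0 := fun h0 => by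
    obtain ⟨Z, hZ⟩ := hdvd
    have := congrArg (eval 0) hZ
    rw [eval_mul, ← coeff_zero_eq_eval_zero μ, h0, zero_mul] at this
    simp [hr] at this
  have ht0 : (μ.map σ).natTrailingDegree = 0 :=
    natTrailingDegree_eq_zero.2 (Or.inr (by rw [coeff_map]; exact (map_ne_zero σ).2 hμ0))
  letI := invertibleOfNonzero (inv_ne_zero hζ)
  have key : μ ∣ (μ.map σ).mirror ↔ aeval (AdjoinRoot.root μ)⁻¹ (μ.map σ) = 0 := by
    rw [aeval_def, ← eval₂_reverse_eq_zero_iff, invOf_eq_inv, inv_inv, ← aeval_def,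
      AdjoinRoot.aeval_eq, AdjoinRoot.mk_eq_zero, Polynomial.mirror, ht0, pow_zero, mul_one]
  haveI := hm.finite_adjoinRoot
  obtain ⟨p, j, hp, hc, -, hqp⟩ := OrthUnitaryHerm.exists_prime_pow hK
  haveI := hc
  haveI := Fact.mk hp
  haveI : CharP (AdjoinRoot μ) p :=
    charP_of_injective_algebraMap (algebraMap K (AdjoinRoot μ)).injective p
  have hpow : (aeval (AdjoinRoot.root μ)⁻¹ (μ.map σ)) ^ q = aeval (((AdjoinRoot.root μ)⁻¹) ^ q) μ := by
    let φ := iterateFrobenius (AdjoinRoot μ) p j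
    have hφ : ∀ y, φ y = y ^ q := fun y => by rw [hqp]; exact iterateFrobenius_def p j y
    rw [← hφ, aeval_def, eval₂_map, hom_eval₂, hφ, aeval_def]
    congr 1
    refine RingHom.ext fun x => ?_
    show φ (algebraMap K (AdjoinRoot μ) (σ x)) = algebraMap K (AdjoinRoot μ) x
    rw [hφ, ← map_pow, ← hq, hσ]
  rw [← hpow, pow_eq_zero_iff hq0, ← key]
  constructor
  · intro he
    have h' : dual σ μ ∣ (μ.map σ).mirror := (normalize_associated _).dvd
    rwa [he] at h'
  · intro hd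
    have hdeg : (μ.map σ).mirror.natDegree = μ.natDegree := by rw [mirror_natDegree, natDegree_map]
    have hne : (μ.map σ).mirror ≠ 0 := mirror_eq_zero.not.2 ((hm.map σ).ne_zero)
    exact (eq_of_monic_of_associated hm (monic_normalize hne)
      ((associated_of_dvd_of_natDegree_le hd hne hdeg.le).trans (normalize_associated _).symm)).symm

theorem map_mirror (f : K →+* K) (P : K[X]) : (P.map f).mirror = P.mirror.map f := by
  have ht : (P.map f).natTrailingDegree = P.natTrailingDegree := by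
    rcases eq_or_ne P 0 with rfl | hP
    · simp
    refine le_antisymm (natTrailingDegree_le_of_ne_zero ?_) (natTrailingDegree_le_of_ne_zero ?_)
    · rw [coeff_map]
      exact (map_ne_zero f).2 (coeff_natTrailingDegree_ne_zero.2 hP)
    · intro h
      have hne := coeff_natTrailingDegree_ne_zero.2 (Polynomial.map_ne_zero (f := f) hP)
      rw [coeff_map, h, map_zero] at hne
      exact hne rfl
  ext k
  rw [coeff_mirror, coeff_map, coeff_map, coeff_mirror, ht, natDegree_map]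

theorem dual_facts (hσ : ∀ x, σ (σ x) = x) {μ : K[X]} (hm : μ.Monic) (hirr : Irreducible μ) (r : ℕ)
    (hdvd : μ ∣ X ^ r - 1) :
    (dual σ μ).Monic ∧ Irreducible (dual σ μ) ∧ dual σ μ ∣ X ^ r - 1 ∧
      (dual σ μ).natDegree = μ.natDegree ∧ dual σ (dual σ μ) = μ := by
  let e := RingEquiv.ofBijective σ ⟨σ.injective, fun x => ⟨σ x, hσ x⟩⟩
  have hirr1 : Irreducible (μ.map σ) := (MulEquiv.irreducible_iff (Polynomial.mapEquiv e)).2 hirr
  have hirr2 : Irreducible (μ.map σ).mirror := SelfReciprocalFactors.mirror_irreducible hirr1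
  have ha : Associated (μ.map σ).mirror (dual σ μ) := (normalize_associated _).symm
  refine ⟨monic_normalize hirr2.ne_zero, ha.irreducible hirr2, ha.symm.dvd.trans ?_, ?_, ?_⟩
  · refine (SelfReciprocalFactors.mirror_dvd ?_).trans (SelfReciprocalFactors.mirror_X_pow_sub_one_dvd r)
    have h : μ.map σ ∣ (X ^ r - 1 : K[X]).map σ := Polynomial.map_dvd σ hdvd
    simpa using h
  · rw [← natDegree_eq_of_degree_eq (degree_eq_degree_of_associated ha), mirror_natDegree, natDegree_map]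
  · have h1 : Associated ((dual σ μ).map σ).mirror μ := by
      refine (SelfReciprocalFactors.mirror_associated (ha.symm.map (Polynomial.mapRingHom σ).toMonoidHom)).trans ?_
      show Associated (((μ.map σ).mirror).map σ).mirror μ
      rw [← map_mirror, mirror_mirror, Polynomial.map_map,
        show σ.comp σ = RingHom.id K from RingHom.ext hσ, Polynomial.map_id]
    refine eq_of_monic_of_associated (monic_normalize ?_) hm ((normalize_associated _).trans h1)
    exact h1.symm.ne_zero_iff.1 hm.ne_zero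

theorem dual_fixed_iff {q r i : ℕ} (hK : Fintype.card K = q ^ 2) (hq : ∀ x, σ x = x ^ q)
    (hσ : ∀ x, σ (σ x) = x) (hr : r.Prime) (hr2 : r ≠ 2) (hi : i = orderOf (q : ZMod r)) (hi0 : 0 < i)
    {μ : K[X]} (hm : μ.Monic) (hirr : Irreducible μ) (hdvd : μ ∣ X ^ r - 1) (hne : μ ≠ lin K) :
    dual σ μ = μ ↔ i % 4 = 2 := by
  haveI := Fact.mk hirr
  haveI := Fact.mk hr
  have hq0 : q ≠ 0 := by
    rintro rfl
    simp at hK
  rw [root_criterion hK hq hσ hq0 hr.ne_zero hm hirr hdvd]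
  haveI := hm.finite_adjoinRoot
  haveI : Finite (AdjoinRoot μ) := Module.finite_of_finite K
  set ζ := AdjoinRoot.root μ with hζdef
  have hr1 : ζ ^ r = 1 := by
    have := AdjoinRoot.mk_eq_zero.2 hdvd
    rw [map_sub, map_pow, map_one, AdjoinRoot.mk_X, sub_eq_zero] at this
    exact this
  have hord : orderOf ζ = r := (Nat.dvd_prime hr).1 (orderOf_dvd_of_pow_eq_one hr1) |>.resolve_left fun ho => by
    rw [orderOf_eq_one_iff] at ho
    have : μ ∣ lin K := by
      rw [← AdjoinRoot.mk_eq_zero, lin, map_sub, AdjoinRoot.mk_X, AdjoinRoot.mk_C, map_one, ← hζdef, ho, sub_self]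
    exact hne (eq_of_monic_of_associated hm lin_monic (hirr.associated_of_dvd lin_irreducible this))
  have hζ0 : ζ ≠ 0 := fun h0 => by rw [h0, zero_pow hr.ne_zero] at hr1; exact zero_ne_one hr1
  let φ := FiniteField.frobeniusAlgEquivOfAlgebraic K (AdjoinRoot μ)
  have hφ : ∀ k : ℕ, (φ ^ k) ζ = ζ ^ (q ^ (2 * k)) := fun k => by
    rw [pow_mul]
    simp [φ, AlgEquiv.coe_pow, FiniteField.coe_frobeniusAlgEquivOfAlgebraic, pow_iterate, hK]
  have hrel : ∀ k : ℕ, ((ζ⁻¹) ^ q = ζ ^ q ^ (2 * k)) ↔ (q : ZMod r) ^ (2 * k) = -(q : ZMod r) := by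
    intro k
    rw [inv_pow, ← mul_eq_one_iff_inv_eq₀ (pow_ne_zero q hζ0), ← pow_add, ← orderOf_dvd_iff_pow_eq_one,
      hord, ← ZMod.natCast_eq_zero_iff, Nat.cast_add, Nat.cast_pow, eq_neg_iff_add_eq_zero, add_comm]
  have h1ne : (1 : ZMod r) ≠ -1 := by
    intro h
    have h2 : ((2 : ℕ) : ZMod r) = 0 := by push_cast; linear_combination h
    rw [ZMod.natCast_eq_zero_iff] at h2
    exact hr2 ((Nat.prime_dvd_prime_iff_eq hr Nat.prime_two).1 h2)
  have hqi : (q : ZMod r) ^ i = 1 := hi ▸ pow_orderOf_eq_one _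
  constructor
  · intro hz
    let pb := AdjoinRoot.powerBasis hirr.ne_zero
    have hmin : minpoly K pb.gen = μ := by
      rw [AdjoinRoot.powerBasis_gen hirr.ne_zero, AdjoinRoot.minpoly_root hirr.ne_zero,
        hm.leadingCoeff, inv_one, map_one, mul_one]
    let s : AdjoinRoot μ →ₐ[K] AdjoinRoot μ := pb.lift (ζ⁻¹ ^ q) (by rw [hmin]; exact hz)
    have hs : s ζ = ζ⁻¹ ^ q := by
      rw [hζdef, ← AdjoinRoot.powerBasis_gen hirr.ne_zero]; exact pb.lift_gen _ _
    let τ : AdjoinRoot μ ≃ₐ[K] AdjoinRoot μ := AlgEquiv.ofBijective s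
      ⟨s.toRingHom.injective, Finite.injective_iff_surjective.1 s.toRingHom.injective⟩
    obtain ⟨k, hk⟩ := (FiniteField.bijective_frobeniusAlgEquivOfAlgebraic_pow K (AdjoinRoot μ)).2 τ
    have hk' : τ ζ = (φ ^ (k : ℕ)) ζ := by rw [← hk]
    rw [hφ] at hk'
    have h := (hrel k).1 ((hs.symm : _ = s ζ).trans hk')
    obtain ⟨j, hj⟩ : ∃ j, i = j + 1 := ⟨i - 1, by omega⟩
    set J := 2 * (k : ℕ) + j with hJ
    have h1 : (q : ZMod r) ^ J = -1 := by
      rw [hJ, pow_add, h, neg_mul, ← pow_succ', ← hj, hqi]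
    have hnd : ¬ i ∣ J := fun ⟨c, hc⟩ => h1ne (by rw [← h1, hc, pow_mul, hqi, one_pow])
    have hd2 : i ∣ 2 * J := by
      rw [hi]; refine orderOf_dvd_of_pow_eq_one ?_
      rw [mul_comm, pow_mul, h1, neg_one_sq]
    rcases Nat.even_or_odd i with hev | hodd
    · obtain ⟨l, hl⟩ := hev
      by_contra h4
      have h4' : 4 ∣ i := by omega
      have : 4 ∣ 2 * J := h4'.trans hd2
      omega
    · exact absurd ((Nat.coprime_two_right.2 hodd).dvd_of_dvd_mul_left hd2) hnd
  · intro h4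
    have hhalf : (q : ZMod r) ^ (i / 2) = -1 := by
      have h2 : (q : ZMod r) ^ (i / 2) * (q : ZMod r) ^ (i / 2) = 1 := by
        rw [← pow_add, show i / 2 + i / 2 = i by omega, hqi]
      rcases mul_self_eq_one_iff.1 h2 with h1 | h1
      · have := orderOf_dvd_of_pow_eq_one h1
        rw [← hi] at this
        have := Nat.le_of_dvd (by omega) this
        omega
      · exact h1
    have hk : (q : ZMod r) ^ (2 * ((i / 2 + 1) / 2)) = -(q : ZMod r) := by
      rw [show 2 * ((i / 2 + 1) / 2) = i / 2 + 1 by omega, pow_succ, hhalf, neg_one_mul]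
    rw [(hrel _).2 hk, ← hφ, aeval_algHom_apply, hζdef, AdjoinRoot.aeval_eq, AdjoinRoot.mk_self, map_zero]

theorem card_prime_order {p q n r i b s : ℕ} [Fact p.Prime] [CharP K p]
    (hK : Fintype.card K = q ^ 2) (hr : r.Prime) (hr2 : r ≠ 2) (hrp : r ≠ p)
    (hi : i = orderOf (q : ZMod r)) (hb : b = if Odd i then i else i / 2) (hs : s * b = r - 1) :
    Nat.card {C : ConjClasses ↥(Cfsg.GU n K q) // ∃ g : ↥(Cfsg.GU n K q), ConjClasses.mk g = C ∧ orderOf g = r} =
      if i % 4 = 2 then Nat.choose (n / b + s) s - 1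
      else Nat.choose (n / (2 * b) + s / 2) (s / 2) - 1 := by
  classical
  haveI := Fact.mk hr
  have hp : p.Prime := Fact.out
  obtain ⟨σ, hq, hσ, c, hc⟩ := HermitianFactor.exists_conjugation hK
  have hi0 : 0 < i := by
    rw [hi]
    obtain ⟨p', j, hp', hc', -, hqp⟩ := OrthUnitaryHerm.exists_prime_pow hK
    have hpp : p = p' := CharP.eq K (by assumption) hc'
    have hq0 : (q : ZMod r) ≠ 0 := by
      rw [Ne, ZMod.natCast_eq_zero_iff, hqp, ← hpp]
      exact fun h => hrp ((Nat.prime_dvd_prime_iff_eq hr hp).1 (hr.dvd_of_dvd_pow h))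
    obtain ⟨u, hu⟩ := hq0.isUnit
    rw [← hu, orderOf_units]
    exact orderOf_pos u
  have hb' : b = orderOf (((q ^ 2 : ℕ)) : ZMod r) := by
    rw [Nat.cast_pow, orderOf_pow' _ two_ne_zero, ← hi, hb]
    rcases Nat.even_or_odd i with hev | hodd
    · rw [if_neg (Nat.not_odd_iff_even.2 hev),
        Nat.gcd_eq_right (even_iff_two_dvd.1 hev)]
    · rw [if_pos hodd, (Nat.coprime_two_right.2 hodd).gcd_eq_one, Nat.div_one]
  obtain ⟨S₀, hcard, hb0, hmem, hdeg⟩ := exists_factors (p := p) hK hr hrp hb' hs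
  have hS₀ : ∀ μ ∈ S₀, μ.Monic ∧ Irreducible μ ∧ μ ∣ X ^ r - 1 ∧ μ ≠ lin K ∧ μ.natDegree = b := fun μ hμ => by
    obtain ⟨h1, h2, h3, h4⟩ := (hmem μ).1 hμ; exact ⟨h1, h2, h3, h4, hdeg μ hμ⟩
  have hδ : ∀ μ ∈ S₀, dual σ μ ∈ S₀ ∧ dual σ (dual σ μ) = μ := fun μ hμ => by
    obtain ⟨h1, h2, h3, h4, -⟩ := hS₀ μ hμ
    obtain ⟨k1, k2, k3, -, k5⟩ := dual_facts hσ h1 h2 r h3
    refine ⟨(hmem _).2 ⟨k1, k2, k3, fun he => h4 ?_⟩, k5⟩
    rw [← k5, he, dual_lin]
  have hfixed : ∀ μ ∈ S₀, (dual σ μ = μ ↔ i % 4 = 2) := fun μ hμ => by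
    obtain ⟨h1, h2, h3, h4, -⟩ := hS₀ μ hμ
    exact dual_fixed_iff hK hq hσ hr hr2 hi hi0 h1 h2 h3 h4
  obtain ⟨S, ρ, hScard, hS, hρ, hcover⟩ := DualBlocks.exists_blocks (dual σ) dual_mul S₀ (i % 4 = 2) hS₀ hδ
    (fun h μ hμ => (hfixed μ hμ).2 h) (fun h μ hμ he => h ((hfixed μ hμ).1 he))
  let e := if i % 4 = 2 then b else 2 * b
  have hm : ∀ B ∈ S, B.Monic := fun B hB => (hS B hB).1
  have hd : ∀ B ∈ S, B.natDegree = e := fun B hB => (hS B hB).2.1
  have he : 0 < e := by simp only [e]; split_ifs <;> omega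
  let T := prods S e n
  have hT : ∀ P ∈ T, ∃ N, P ∣ (X ^ r - 1) ^ N := by
    rintro P ⟨f, -, rfl⟩
    refine ⟨(n - e * ∑ B ∈ S, f B) + ∑ B ∈ S, 2 * f B, ?_⟩
    rw [pow_add, ← Finset.prod_pow_eq_pow_sum]
    refine mul_dvd_mul (pow_dvd_pow_of_dvd (lin_dvd_X_pow_sub_one r) _)
      (Finset.prod_dvd_prod_of_dvd _ _ fun B hB => ?_)
    rw [pow_mul]
    exact pow_dvd_pow_of_dvd (hS B hB).2.2.2.1 _
  have hdual_one : dual σ (1 : K[X]) = 1 := by
    rw [dual, Polynomial.map_one, ← C_1, mirror_C, C_1, normalize_one]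
  have hTd : ∀ P ∈ T, dual σ P = P := by
    rintro P ⟨f, -, rfl⟩
    have hpow : ∀ (a : K[X]) (k : ℕ), dual σ a = a → dual σ (a ^ k) = a ^ k := by
      intro a k ha
      induction k with
      | zero => rw [pow_zero, hdual_one]
      | succ k ih => rw [pow_succ, dual_mul, ih, ha]
    have hprod : dual σ (∏ B ∈ S, B ^ f B) = ∏ B ∈ S, B ^ f B :=
      Finset.prod_induction _ (fun a : K[X] => dual σ a = a)
        (fun a b ha hb => by rw [dual_mul, ha, hb]) hdual_one
        fun B hB => hpow B _ (hS B hB).2.2.1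
    rw [dual_mul, hprod, hpow _ _ dual_lin]
  have hcop : r.Coprime p := (Nat.coprime_primes hr hp).2 hrp
  rw [PrimeOrderClassCount.card_classes (ι := Fin n) (F := K) (p := p) hr hrp
    (Cfsg.GU n K q).subtype (Subgroup.subtype_injective _) ?_ T ?_ ?_ hT,
    ncard_prods he hm ρ hρ (fun B hB => (hS B hB).2.2.2.2), hScard, hcard]
  · simp only [e]
    split_ifs <;> rfl
  · intro g h hg hh hgh
    obtain ⟨P, hP⟩ := SemisimpleConjGL.exists_gl_conj
      (SemisimpleConjGL.isSemisimple_of_coprime (Cfsg.GU n K q).subtype hg)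
      (SemisimpleConjGL.isSemisimple_of_coprime (Cfsg.GU n K q).subtype hh) hgh
    exact isConj_of_linear hq hσ c hc g h P (Units.ext hP)
  · intro g hg
    refine mem_prods hm hd
      (fun P => P.Monic ∧ dual σ P = P ∧ ∀ μ : K[X], μ.Monic → Irreducible μ → μ ∣ P → μ ∣ X ^ r - 1)
      (fun P h => h.1) ?_ n _
      ⟨Matrix.charpoly_monic _, mem_dual_fixed hq hσ g, fun μ _ hirr hdv => dvd_of_pow_eq_one
          (by rw [← Units.val_pow_eq_pow_val, ← map_pow, hg, map_one, Units.val_one]) hirr hdv⟩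
      (by rw [Matrix.charpoly_natDegree_eq_dim, Fintype.card_fin])
    intro P μ hP hμ hirr hdv hne
    obtain ⟨B, hB, hBd⟩ := hcover μ ((hmem μ).2 ⟨hμ, hirr, hP.2.2 μ hμ hirr hdv, hne⟩)
    obtain ⟨P', hP'⟩ := hBd P hP.2.1 hdv
    refine ⟨B, hB, by rw [hd B hB]; omega, P', hP', (hm B hB).of_mul_monic_left (hP' ▸ hP.1), ?_,
      fun ν h1 h2 h3 => hP.2.2 ν h1 h2 (hP' ▸ h3.mul_left B)⟩
    have h2 := hP.2.1
    rw [hP', dual_mul, (hS B hB).2.2.1] at h2
    exact mul_left_cancel₀ (hm B hB).ne_zero h2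
  · intro P hP
    obtain ⟨hPm, hPd⟩ := prods_natDegree hm hd hP
    obtain ⟨N, Z, hZ⟩ := hT P hP
    refine exists_unitary (p := p) (r := r) hK hq hPm hPd (hTd P hP) ?_ (fun A hA => ⟨N, ?_⟩) hcop
    · intro h0
      have h1 := congrArg (eval 0) hZ
      rw [eval_mul, h0, zero_mul] at h1
      simp [hr.ne_zero] at h1
    · have := Matrix.aeval_self_charpoly A
      rw [hA] at this
      have h2 := congrArg (aeval A) hZ
      rw [map_mul, this, zero_mul] at h2
      simpa using h2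

end Cfsg.Agent.UnitaryPrimeOrderClasses
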