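import Mathlib
import Cfsg.Agent.Lib.PauliFour
import Cfsg.Agent.Lib.UnitaryPrimeOrderClasses

/-!
The group of order 64 of symplectic type in the four-dimensional unitary group.
-/

set_option autoImplicit false
set_option linter.style.haveILetI false
set_option maxHeartbeats 800000

namespace Cfsg.Agent.PauliFourUnitary

open Matrix Polynomial
open Cfsg.Agent.PauliFour
open Cfsg.Agent.HermitianFactor (ct)
open Cfsg.Agent.UnitaryPrimeOrderClasses (dual)
open scoped MatrixGroups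

variable {F : Type*} [Field F] [Fintype F] {σ : F →+* F} {p : ℕ}

omit [Fintype F] in
theorem ct_smul {n : ℕ} (c : F) (X : Matrix (Fin n) (Fin n) F) : ct σ (c • X) = σ c • ct σ X := by
  ext i j; simp [ct]

theorem mem_iff {n : ℕ} (hq : ∀ x, σ x = x ^ p) (hσ : ∀ x, σ (σ x) = x) (A : GL (Fin n) F) :
    A ∈ Cfsg.GU n F p ↔ ct σ (A : Matrix (Fin n) (Fin n) F) = ((A⁻¹ : GL (Fin n) F) : Matrix (Fin n) (Fin n) F) := by
  rw [HermitianFactor.mem_GU_iff hq hσ]
  constructor
  · intro h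
    exact (Units.inv_eq_of_mul_eq_one_left h).symm
  · intro h
    rw [h, Units.inv_mul]

theorem dg_mem_GU (hq : ∀ x, σ x = x ^ p) (hσ : ∀ x, σ (σ x) = x) {d : Fin 4 → Fˣ}
    (hd : ∀ i, (d i : F) ^ (p + 1) = 1) : dg d ∈ Cfsg.GU 4 F p := by
  rw [HermitianFactor.mem_GU_iff hq hσ, dg_val, ct, Matrix.diagonal_map (map_zero σ), diagonal_transpose,
    diagonal_mul_diagonal, ← diagonal_one]
  exact congrArg diagonal (funext fun i => by simp [hq, ← pow_succ, hd])

theorem sc_mem_GU (hq : ∀ x, σ x = x ^ p) (hσ : ∀ x, σ (σ x) = x) {z : Fˣ}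
    (hz : (z : F) ^ (p + 1) = 1) : sc z ∈ Cfsg.GU 4 F p := dg_mem_GU hq hσ fun _ => hz

theorem I_norm {I : F} (hI : I * I = -1) (hp : p % 4 = 3) : I ^ (p + 1) = 1 := by
  obtain ⟨k, hk⟩ : 4 ∣ p + 1 := by omega
  rw [hk, pow_mul, show I ^ 4 = (I * I) * (I * I) by ring, hI]
  norm_num

theorem sigma_I (hq : ∀ x, σ x = x ^ p) {I : F} (hI : I * I = -1) (hp : p % 4 = 3) : σ I = -I := by
  have h := I_norm hI hp
  rw [pow_succ] at h
  rw [hq]
  linear_combination (-I) * h + I ^ p * hI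

theorem std_le (hq : ∀ x, σ x = x ^ p) (hσ : ∀ x, σ (σ x) = x) {I : Fˣ} (hI : (I : F) * I = -1)
    (hp : p % 4 = 3) : std I ≤ Cfsg.GU 4 F p := by
  have hm : ((-1 : F)) ^ (p + 1) = 1 := Even.neg_one_pow ⟨(p + 1) / 2, by omega⟩
  rw [std, Subgroup.closure_le]
  rintro g (rfl | rfl | rfl | rfl | rfl)
  · exact sc_mem_GU hq hσ (I_norm hI hp)
  · exact dg_mem_GU hq hσ fun i => by fin_cases i <;> simp [hm]
  · exact (HermitianFactor.mem_GU_iff hq hσ _).2 (by
      ext i j; fin_cases i <;> fin_cases j <;> simp [pB, ct, mul_apply, Fin.sum_univ_four])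
  · exact dg_mem_GU hq hσ fun i => by fin_cases i <;> simp [hm]
  · exact (HermitianFactor.mem_GU_iff hq hσ _).2 (by
      ext i j; fin_cases i <;> fin_cases j <;> simp [pD, ct, mul_apply, Fin.sum_univ_four])

theorem cliff_mem_GU (hq : ∀ x, σ x = x ^ p) (hσ : ∀ x, σ (σ x) = x) {I h : F} (hI : I * I = -1)
    (hh : h * 2 = 1) (hp : p % 4 = 3) :
    cliffT I h hI hh ∈ Cfsg.GU 4 F p ∧ cliffTT I h hI hh ∈ Cfsg.GU 4 F p ∧
      cliffF I h hI hh ∈ Cfsg.GU 4 F p := by
  have hs := sigma_I hq hI hp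
  have h2 : (2 : F) ≠ 0 := fun e => by rw [e, mul_zero] at hh; exact one_ne_zero hh.symm
  have hσh : σ h = h := by
    apply mul_right_cancel₀ h2
    rw [hh, show (2 : F) = σ 2 from (map_ofNat σ 2).symm, ← map_mul, hh, map_one]
  refine ⟨?_, ?_, ?_⟩ <;> rw [mem_iff hq hσ]
  · ext i j
    fin_cases i <;> fin_cases j <;> simp [-mul_eq_mul_left_iff, -mul_eq_mul_right_iff, cliffT, ct, hs, hσh, Units.inv_mk] <;> ring
  · ext i j
    fin_cases i <;> fin_cases j <;> simp [-mul_eq_mul_left_iff, -mul_eq_mul_right_iff, cliffTT, ct, hs, hσh, Units.inv_mk] <;> ring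
  · ext i j
    fin_cases i <;> fin_cases j <;> simp [-mul_eq_mul_left_iff, -mul_eq_mul_right_iff, cliffF, ct, hs, hσh, Units.inv_mk] <;> ring

/-- Every group of the given type in the unitary group is unitarily conjugate to the model. -/
theorem exists_std (hF : Fintype.card F = p ^ 2) (hq : ∀ x, σ x = x ^ p) (hσ : ∀ x, σ (σ x) = x)
    (hp : p % 4 = 3) {R : Subgroup (GL (Fin 4) F)} (S : SympTypeTwo.Setup R) (hR : Nat.card R = 2 ^ 6)
    (hZ : Nat.card (Subgroup.center R) = 4) (hRU : R ≤ Cfsg.GU 4 F p) :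
    ∃ (I : Fˣ) (P : GL (Fin 4) F), (I : F) * I = -1 ∧ P ∈ Cfsg.GU 4 F p ∧
      R = (std I).map (MulAut.conj P).toMonoidHom := by
  obtain ⟨I, P, hI, hRP⟩ := PauliFour.exists_std S hR hZ
  set M := (P : Matrix (Fin 4) (Fin 4) F) with hM
  have hHu : IsUnit (ct σ M * M) := (HermitianFactor.isUnit_ct P.isUnit).mul P.isUnit
  set H : GL (Fin 4) F := hHu.unit with hH
  have hcomm : ∀ u : GL (Fin 4) F, u ∈ Cfsg.GU 4 F p → P * u * P⁻¹ ∈ R → Commute H u := by
    intro u hu hm
    have h1 := (HermitianFactor.mem_GU_iff hq hσ u).1 hu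
    have h2 := (HermitianFactor.mem_GU_iff hq hσ _).1 (hRU hm)
    apply Units.ext
    rw [Units.val_mul, Units.val_mul, hH, IsUnit.unit_spec]
    set U := (u : Matrix (Fin 4) (Fin 4) F)
    have e : ct σ U * (ct σ M * M) * U = ct σ M * M := by
      set A := ((P * u * P⁻¹ : GL (Fin 4) F) : Matrix (Fin 4) (Fin 4) F) with hA
      have e1 : A * M = M * U := by
        rw [hA, hM, ← Units.val_mul, inv_mul_cancel_right, Units.val_mul]
      calc _ = ct σ (M * U) * (M * U) := by rw [HermitianFactor.ct_mul]; simp only [mul_assoc]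
        _ = ct σ M * (ct σ A * A) * M := by rw [← e1, HermitianFactor.ct_mul]; simp only [mul_assoc]
        _ = _ := by rw [h2, mul_one]
    calc ct σ M * M * U = U * (ct σ U * (ct σ M * M) * U) := by
          rw [← mul_assoc, ← mul_assoc, mul_eq_one_comm.1 h1, one_mul]
      _ = _ := by rw [e]
  obtain ⟨z, hz⟩ := S.cent ((P * H * P⁻¹ : GL (Fin 4) F) : Matrix (Fin 4) (Fin 4) F) fun g hg => by
    rw [hRP] at hg
    obtain ⟨u, hu, rfl⟩ := hg
    simp only [MulEquiv.coe_toMonoidHom, MulAut.conj_apply, ← Units.val_mul]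
    congr 1
    have hmem : P * u * P⁻¹ ∈ R := by rw [hRP]; exact ⟨u, hu, rfl⟩
    calc P * H * P⁻¹ * (P * u * P⁻¹) = P * (H * u) * P⁻¹ := by group
      _ = P * (u * H) * P⁻¹ := by rw [(hcomm u (std_le hq hσ hI hp hu) hmem).eq]
      _ = _ := by group
  have hHz : ct σ M * M = z • (1 : Matrix (Fin 4) (Fin 4) F) := by
    have e : H = P⁻¹ * (P * H * P⁻¹) * P := by group
    rw [← hHu.unit_spec, ← hH, e, Units.val_mul, Units.val_mul, hz, mul_smul_comm, mul_one,
      smul_mul_assoc, Units.inv_mul]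
  have hz0 : z ≠ 0 := fun e => by
    rw [hHz, e, zero_smul] at hHu
    exact not_isUnit_zero hHu
  have hzq : z ^ p = z := by
    have e : ct σ (ct σ M * M) = ct σ M * M := by rw [HermitianFactor.ct_mul, HermitianFactor.ct_ct hσ]
    rw [hHz] at e
    have e00 := congrFun (congrFun e 0) 0
    simpa [ct, hq] using e00
  obtain ⟨μ, hμ⟩ := OrthUnitaryHerm.exists_norm_eq hF (a := z⁻¹) (by rw [inv_pow, hzq])
  have hμ0 : μ ≠ 0 := fun e => by
    rw [e, zero_pow (by omega)] at hμ
    exact hz0 (inv_eq_zero.mp hμ.symm)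
  set m : Fˣ := Units.mk0 μ hμ0
  refine ⟨I, P * sc m, hI, ?_, ?_⟩
  · rw [HermitianFactor.mem_GU_iff hq hσ, Units.val_mul, sc_val, Units.val_mk0, mul_smul_comm, mul_one]
    rw [ct_smul, smul_mul_smul_comm, hHz, smul_smul, hq, ← pow_succ, hμ, inv_mul_cancel₀ hz0, one_smul]
  · rw [hRP]
    congr 1
    ext u : 1
    simp only [MulEquiv.coe_toMonoidHom, MulAut.conj_apply]
    calc P * u * P⁻¹ = P * (sc m * u) * (sc m)⁻¹ * P⁻¹ := by rw [sc_comm m u]; group
      _ = _ := by group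

/-- Conjugacy in the special unitary group, given centralising elements of every determinant. -/
theorem conj_SU (hF : Fintype.card F = p ^ 2) (hq : ∀ x, σ x = x ^ p) (hσ : ∀ x, σ (σ x) = x)
    {c : F} (hc : σ c ≠ c) {x y : GL (Fin 4) F} (hx : x ∈ Cfsg.GU 4 F p) (hy : y ∈ Cfsg.GU 4 F p)
    (hlin : ∃ g : GL (Fin 4) F, g⁻¹ * x * g = y)
    (hdet : ∀ s : Fˣ, (s : F) ^ (p + 1) = 1 →
      ∃ u ∈ Cfsg.GU 4 F p, GeneralLinearGroup.det u = s ∧ u * y = y * u) :
    ∃ g ∈ Cfsg.GU 4 F p ⊓ Cfsg.Geo.specialLinear (Fin 4) F, g⁻¹ * x * g = y := by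
  obtain ⟨g, hg⟩ := hlin
  obtain ⟨k, hk⟩ := isConj_iff.1 (UnitaryPrimeOrderClasses.isConj_of_linear hq hσ c hc ⟨x, hx⟩ ⟨y, hy⟩ g⁻¹
    (by show g⁻¹ * x = y * g⁻¹; rw [← hg]; group))
  have hk' : (k : GL (Fin 4) F) * x * (k : GL (Fin 4) F)⁻¹ = y := congrArg Subtype.val hk
  have hn : ((GeneralLinearGroup.det (k : GL (Fin 4) F) : Fˣ) : F) ^ (p + 1) = 1 := by
    rw [GeneralLinearGroup.val_det_apply]
    exact (OrthUnitaryHerm.isU_of_mem k).det_pow hF
  obtain ⟨u, hu, hud, huy⟩ := hdet _ hn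
  refine ⟨(k : GL (Fin 4) F)⁻¹ * u, ⟨Subgroup.mul_mem _ (Subgroup.inv_mem _ k.2) hu, ?_⟩, ?_⟩
  · show GeneralLinearGroup.det _ = 1
    rw [map_mul, map_inv, hud, inv_mul_cancel]
  · calc ((k : GL (Fin 4) F)⁻¹ * u)⁻¹ * x * ((k : GL (Fin 4) F)⁻¹ * u)
        = u⁻¹ * ((k : GL (Fin 4) F) * x * (k : GL (Fin 4) F)⁻¹) * u := by group
      _ = y := by rw [hk', mul_assoc, ← huy, ← mul_assoc, inv_mul_cancel, one_mul]

/-- Elements of norm one are quotients by conjugates. -/
theorem exists_quot (hF : Fintype.card F = p ^ 2) (hp : 2 ≤ p) {s : Fˣ} (hs : (s : F) ^ (p + 1) = 1) :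
    ∃ μ : Fˣ, (μ : F) ^ p * s = μ := by
  obtain ⟨g, hg⟩ := IsCyclic.exists_generator (α := Fˣ)
  obtain ⟨m, hm⟩ := mem_powers_iff_mem_zpowers.mpr (hg s)
  have hm' : g ^ m = s := hm
  have ho : orderOf g = (p + 1) * (p - 1) := by
    rw [orderOf_eq_card_of_forall_mem_zpowers hg, Nat.card_units, Nat.card_eq_fintype_card, hF,
      ← Nat.sq_sub_sq, one_pow]
  have hdvd : p - 1 ∣ m := by
    have : g ^ (m * (p + 1)) = 1 := by
      rw [pow_mul, hm']; exact Units.ext (by rw [Units.val_pow_eq_pow_val, hs, Units.val_one])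
    have h := orderOf_dvd_of_pow_eq_one this
    rw [ho, mul_comm m] at h
    exact Nat.dvd_of_mul_dvd_mul_left (by omega) h
  obtain ⟨k, hk⟩ := hdvd
  refine ⟨(g ^ k)⁻¹, ?_⟩
  have e : (g ^ k) ^ (p - 1) = s := by rw [← pow_mul, mul_comm, ← hk, hm']
  rw [← Units.val_pow_eq_pow_val, ← Units.val_mul]
  congr 1
  rw [← e, inv_pow, show (g ^ k) ^ p = (g ^ k) ^ (p - 1) * g ^ k by rw [← pow_succ, Nat.sub_add_cancel (by omega)]]
  group

omit [Fintype F] in
/-- The determinant of a perturbation by an idempotent of trace one. -/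
theorem det_one_add (hp : 5 ≤ p) [CharP F p] {M : Matrix (Fin 4) (Fin 4) F} (hM : M * M = M)
    (ht : Matrix.trace M = 1) {c : F} (hc : 1 + c ≠ 0) :
    (1 + c • M).det = 1 + c := by
  rcases eq_or_ne c 0 with rfl | hc0
  · simp
  obtain ⟨a, b, e, hab⟩ := charpoly_shape (A := M) (irreducible_X_sub_C (0 : F)) (monic_X_sub_C 0)
    (irreducible_X_sub_C (1 : F)) (monic_X_sub_C 1) (by
      rw [map_mul, map_sub, map_sub, aeval_X, aeval_C, aeval_C, map_zero, map_one, sub_zero, mul_sub, hM,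
        mul_one, sub_self])
  rw [natDegree_X_sub_C, natDegree_X_sub_C, mul_one, mul_one] at hab
  have hb : b = 1 := by
    have ht' : Matrix.trace M = (b : F) := by
      let d : Fin 4 → F := fun i => if (i : ℕ) < b then 1 else 0
      have hd : (diagonal d).charpoly = M.charpoly := by
        rw [e, charpoly_diagonal, Fin.prod_univ_four]
        obtain rfl : a = 4 - b := by omega
        have : b ≤ 4 := by omega
        simp only [d]
        interval_cases b <;> simp [-mul_eq_mul_left_iff, -mul_eq_mul_right_iff] <;> ring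
      have htd : Matrix.trace (diagonal d) = (b : F) := by
        rw [trace_diagonal, Fin.sum_univ_four]
        have : b ≤ 4 := by omega
        simp only [d]
        interval_cases b <;> simp <;> norm_num
      rw [Matrix.trace_eq_neg_charpoly_coeff, ← hd, ← Matrix.trace_eq_neg_charpoly_coeff, htd]
    rw [ht] at ht'
    have : b ≤ 4 := by omega
    have hne : ∀ n : ℕ, 0 < n → n < 5 → (n : F) ≠ 0 := fun n h0 h5 hn => by
      have := Nat.le_of_dvd h0 ((CharP.cast_eq_zero_iff F p n).mp hn)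
      omega
    interval_cases b
    · simp at ht'
    · rfl
    all_goals exfalso
    · exact hne 1 (by norm_num) (by norm_num) (by push_cast at ht' ⊢; linear_combination -ht')
    · exact hne 2 (by norm_num) (by norm_num) (by push_cast at ht' ⊢; linear_combination -ht')
    · exact hne 3 (by norm_num) (by norm_num) (by push_cast at ht' ⊢; linear_combination -ht')
  have h1 : (1 + c • M) = (-c) • (Matrix.scalar (Fin 4) (-c⁻¹) - M) := by
    rw [smul_sub, neg_smul c M, sub_neg_eq_add]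
    congr 1
    rw [Matrix.scalar_apply, ← Matrix.smul_one_eq_diagonal, smul_smul, neg_mul_neg, mul_inv_cancel₀ hc0, one_smul]
  rw [h1, det_smul, ← Matrix.eval_charpoly, e, hb, show a = 3 by omega, Fintype.card_fin]
  simp only [eval_mul, eval_pow, eval_sub, eval_X, eval_C]
  field_simp
  ring

/-- A unitary element of order three with suitable multiplicities has centralising unitary elements
of every determinant. -/
theorem three_det (hF : Fintype.card F = p ^ 2) [CharP F p] (hp : 5 ≤ p) (hq : ∀ x, σ x = x ^ p)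
    (hσ : ∀ x, σ (σ x) = x) {ω : F} (hw : ω ^ 3 = 1) (hs : 1 + ω + ω ^ 2 = 0) (hσw : σ ω = ω)
    {y : GL (Fin 4) F} (hy : y ∈ Cfsg.GU 4 F p) (hy3 : (y : Matrix (Fin 4) (Fin 4) F) ^ 3 = 1)
    {Q : Matrix (Fin 4) (Fin 4) F} (hQ : Q * Q = Q) (hQc : ct σ Q = Q)
    (hQy : Q * (y : Matrix (Fin 4) (Fin 4) F) = (y : Matrix (Fin 4) (Fin 4) F) * Q)
    {a b : F} (hQ0 : Matrix.trace Q = a) (hQ1 : Matrix.trace ((y : Matrix (Fin 4) (Fin 4) F) * Q) = b)
    (hQ2 : Matrix.trace ((y : Matrix (Fin 4) (Fin 4) F) * (y : Matrix (Fin 4) (Fin 4) F) * Q) = b)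
    (hab : a - b = 3) (s : Fˣ) (hsn : (s : F) ^ (p + 1) = 1) :
    ∃ u ∈ Cfsg.GU 4 F p, GeneralLinearGroup.det u = s ∧ u * y = y * u := by
  set Y := (y : Matrix (Fin 4) (Fin 4) F) with hY
  have h3 : (3 : F) ≠ 0 := fun e => by
    have := Nat.le_of_dvd (by norm_num) ((CharP.cast_eq_zero_iff F p 3).mp (by exact_mod_cast e))
    omega
  set t : F := 3⁻¹ with htdef
  have ht : t * 3 = 1 := inv_mul_cancel₀ h3
  have hσt : σ t = t := by rw [htdef, map_inv₀, map_ofNat]
  have y3 : Y * (Y * Y) = 1 := by rw [← hy3, pow_succ', pow_two]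
  have hctY : ct σ Y = Y * Y := by
    have h := (HermitianFactor.mem_GU_iff hq hσ y).1 hy
    calc ct σ Y = ct σ Y * (Y * (Y * Y)) := by rw [y3, mul_one]
      _ = Y * Y := by rw [← mul_assoc, h, one_mul]
  set E1 := t • (1 + ω ^ 2 • Y + ω • (Y * Y)) with hE1
  set E2 := t • (1 + ω • Y + ω ^ 2 • (Y * Y)) with hE2
  have ev1 : Y * E1 = ω • E1 := by
    rw [hE1, mul_smul_comm, smul_comm ω t]
    congr 1
    simp only [mul_add, mul_one, mul_smul_comm, y3, smul_add, smul_smul]
    rw [show ω * ω ^ 2 = 1 by linear_combination hw, one_smul, pow_two]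
    abel
  have ev2 : Y * E2 = ω ^ 2 • E2 := by
    rw [hE2, mul_smul_comm, smul_comm (ω ^ 2) t]
    congr 1
    simp only [mul_add, mul_one, mul_smul_comm, y3, smul_add, smul_smul]
    rw [show ω ^ 2 * ω = 1 by linear_combination hw, show ω ^ 2 * ω ^ 2 = ω by linear_combination ω * hw,
      one_smul]
    abel
  have app : ∀ (α β : F) (E : Matrix (Fin 4) (Fin 4) F) (l : F), Y * E = l • E →
      (t • (1 + α • Y + β • (Y * Y))) * E = (t * (1 + α * l + β * (l * l))) • E := by
    intro α β E l hE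
    rw [smul_mul_assoc, add_mul, add_mul, one_mul, smul_mul_assoc, smul_mul_assoc, hE, mul_assoc, hE,
      mul_smul_comm, hE]
    module
  have p11 : E1 * E1 = E1 := by
    conv_lhs => arg 1; rw [hE1]
    rw [app _ _ _ _ ev1, show t * (1 + ω ^ 2 * ω + ω * (ω * ω)) = 1 by linear_combination ht + 2 * t * hw,
      one_smul]
  have p22 : E2 * E2 = E2 := by
    conv_lhs => arg 1; rw [hE2]
    rw [app _ _ _ _ ev2, show t * (1 + ω * ω ^ 2 + ω ^ 2 * (ω ^ 2 * ω ^ 2)) = 1 by
      linear_combination ht + (2 * t + t * ω ^ 3) * hw, one_smul]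
  have p12 : E1 * E2 = 0 := by
    conv_lhs => arg 1; rw [hE1]
    rw [app _ _ _ _ ev2, show t * (1 + ω ^ 2 * ω ^ 2 + ω * (ω ^ 2 * ω ^ 2)) = 0 by
      linear_combination t * hs + (t * ω ^ 2 + t * ω) * hw, zero_smul]
  have p21 : E2 * E1 = 0 := by
    conv_lhs => arg 1; rw [hE2]
    rw [app _ _ _ _ ev1, show t * (1 + ω * ω + ω ^ 2 * (ω * ω)) = 0 by
      linear_combination t * hs + t * ω * hw, zero_smul]
  have ctE1 : ct σ E1 = E2 := by
    rw [hE1, hE2, ct_smul, HermitianFactor.ct_add, HermitianFactor.ct_add, HermitianFactor.ct_one, ct_smul,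
      ct_smul, HermitianFactor.ct_mul, hctY, hσt, map_pow, hσw,
      show Y * Y * (Y * Y) = Y by rw [mul_assoc, y3, mul_one]]
    module
  have cQY : Commute Q Y := hQy
  have cQ : ∀ α β : F, Commute Q (t • (1 + α • Y + β • (Y * Y))) := fun α β =>
    (((Commute.one_right Q).add_right (cQY.smul_right α)).add_right ((cQY.mul_right cQY).smul_right β)).smul_right t
  have cE : ∀ α β : F, Commute Y (t • (1 + α • Y + β • (Y * Y))) := fun α β =>
    (((Commute.one_right Y).add_right ((Commute.refl Y).smul_right α)).add_right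
      (((Commute.refl Y).mul_right (Commute.refl Y)).smul_right β)).smul_right t
  set G1 := E1 * Q with hG1
  set G2 := E2 * Q with hG2
  have gg : ∀ A B : Matrix (Fin 4) (Fin 4) F, Commute Q B → A * Q * (B * Q) = A * B * Q := fun A B hB => by
    rw [mul_assoc A Q, ← mul_assoc Q B, hB.eq, mul_assoc B Q, hQ, ← mul_assoc]
  have g11 : G1 * G1 = G1 := by rw [hG1, gg _ _ (cQ _ _), p11]
  have g22 : G2 * G2 = G2 := by rw [hG2, gg _ _ (cQ _ _), p22]
  have g12 : G1 * G2 = 0 := by rw [hG1, hG2, gg _ _ (cQ _ _), p12, zero_mul]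
  have g21 : G2 * G1 = 0 := by rw [hG1, hG2, gg _ _ (cQ _ _), p21, zero_mul]
  have ctG1 : ct σ G1 = G2 := by rw [hG1, HermitianFactor.ct_mul, hQc, ctE1, (cQ _ _).eq]
  have ctG2 : ct σ G2 = G1 := by rw [← ctG1, HermitianFactor.ct_ct hσ]
  have trG : ∀ α β : F, Matrix.trace ((t • (1 + α • Y + β • (Y * Y))) * Q) = t * (a + α * b + β * b) := by
    intro α β
    simp only [smul_mul_assoc, add_mul, one_mul, trace_smul, trace_add, hQ0, hQ1, hQ2, smul_eq_mul]
  obtain ⟨μ, hμ⟩ := exists_quot hF (by omega) hsn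
  have hμp : (μ : F) ^ p ≠ 0 := pow_ne_zero _ μ.ne_zero
  set A := (1 + ((μ : F) - 1) • G1) * (1 + (((μ : F) ^ p)⁻¹ - 1) • G2) with hA
  have hdA : A.det = s := by
    rw [hA, det_mul, det_one_add hp g11 (by
        rw [hG1, hE1, trG]; linear_combination ht + t * hab + b * t * hs) (by simp),
      det_one_add hp g22 (by
        rw [hG2, hE2, trG]; linear_combination ht + t * hab + b * t * hs) (by simp)]
    rw [add_sub_cancel, add_sub_cancel]
    field_simp
    linear_combination -hμ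
  have hAu : IsUnit A := (Matrix.isUnit_iff_isUnit_det A).2 (hdA ▸ isUnit_iff_ne_zero.2 s.ne_zero)
  have hAc : Commute Y A := ((Commute.one_right Y).add_right (((cE _ _).mul_right cQY.symm).smul_right _)).mul_right
    ((Commute.one_right Y).add_right (((cE _ _).mul_right cQY.symm).smul_right _))
  refine ⟨hAu.unit, ?_, Units.ext (by rw [GeneralLinearGroup.val_det_apply, IsUnit.unit_spec, hdA]),
    Units.ext (by rw [Units.val_mul, Units.val_mul, IsUnit.unit_spec]; exact hAc.eq.symm)⟩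
  rw [HermitianFactor.mem_GU_iff hq hσ, IsUnit.unit_spec, hA]
  have e : ∀ α β : F, (1 + α • G1) * (1 + β • G2) = 1 + α • G1 + β • G2 := fun α β => by
    rw [mul_add, mul_one, add_mul, one_mul, smul_mul_smul_comm, g12, smul_zero, add_zero]
  rw [e, HermitianFactor.ct_add, HermitianFactor.ct_add, HermitianFactor.ct_one, ct_smul, ct_smul, ctG1, ctG2,
    map_sub, map_sub, map_one, map_inv₀, map_pow, hq]
  simp only [add_mul, mul_add, one_mul, mul_one, smul_mul_smul_comm, g11, g22, g12, g21, smul_zero, add_zero,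
    zero_add]
  have hpp : ((μ : F) ^ p) ^ p = μ := by rw [← hq, ← hq, hσ]
  rw [hpp]
  have u1 : ((μ : F)⁻¹ - 1) + ((μ : F) - 1) + ((μ : F)⁻¹ - 1) * ((μ : F) - 1) = 0 := by field_simp; ring
  have u2 : ((μ : F) ^ p - 1) + (((μ : F) ^ p)⁻¹ - 1) + ((μ : F) ^ p - 1) * (((μ : F) ^ p)⁻¹ - 1) = 0 := by
    field_simp; ring
  linear_combination (norm := module) congrArg (· • G1) u1 + congrArg (· • G2) u2

/-- The element of order five of the model has centralising unitary elements of every determinant. -/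
theorem five_det (hF : Fintype.card F = p ^ 2) (hp : 2 ≤ p) (hq : ∀ x, σ x = x ^ p) (hσ : ∀ x, σ (σ x) = x)
    {y : GL (Fin 4) F} (hy : y ∈ Cfsg.GU 4 F p)
    (hss : Module.End.IsSemisimple (Matrix.toLin' (y : Matrix (Fin 4) (Fin 4) F))) {v : Fin 4 → F}
    (hv : LinearIndependent F fun k : Fin 4 => ((y : Matrix (Fin 4) (Fin 4) F) ^ (k : ℕ)) *ᵥ v)
    (s : Fˣ) (hsn : (s : F) ^ (p + 1) = 1) :
    ∃ u ∈ Cfsg.GU 4 F p, GeneralLinearGroup.det u = s ∧ u * y = y * u := by
  set Y := (y : Matrix (Fin 4) (Fin 4) F) with hY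
  obtain ⟨μ, hμ⟩ := exists_quot hF hp hsn
  obtain ⟨T, hT, hTd⟩ := SemisimpleConjGL.exists_gl_commute_det hss (Units.ne_zero μ)
  set M := (T : Matrix (Fin 4) (Fin 4) F) with hM
  -- commuting with y means being a polynomial in y
  have hspan : Submodule.span F (Set.range fun k : Fin 4 => (Y ^ (k : ℕ)) *ᵥ v) = ⊤ :=
    hv.span_eq_top_of_card_eq_finrank (by simp)
  have poly : ∀ A : Matrix (Fin 4) (Fin 4) F, A * Y = Y * A → ∀ B, B * Y = Y * B → Commute A B := by
    intro A hA B hB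
    obtain ⟨f, hf⟩ := (Submodule.mem_span_range_iff_exists_fun F).mp (hspan.ge (Submodule.mem_top (x := A *ᵥ v)))
    have hAe : A = ∑ k : Fin 4, f k • Y ^ (k : ℕ) := by
      apply Matrix.toLin'.injective
      refine LinearMap.ext_on_range hspan fun k => ?_
      simp only [Matrix.toLin'_apply, mulVec_mulVec]
      rw [((show Commute A Y from hA).pow_right k).eq, ← mulVec_mulVec, ← hf, mulVec_sum, Matrix.sum_mul,
        sum_mulVec]
      refine Finset.sum_congr rfl fun m _ => ?_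
      rw [mulVec_smul, smul_mul_assoc, smul_mulVec, mulVec_mulVec, ← pow_add, ← pow_add, Nat.add_comm]
    rw [hAe]
    exact Commute.sum_left _ _ _ fun k _ => (((show Commute B Y from hB).pow_right _).smul_right _).symm
  have hUu : IsUnit (ct σ M) := HermitianFactor.isUnit_ct T.isUnit
  set T' : GL (Fin 4) F := hUu.unit with hT'
  have hT'c : ct σ M * Y = Y * ct σ M := by
    have h1 := (mem_iff hq hσ y).1 hy
    have h2 := congrArg (ct σ) hT
    rw [HermitianFactor.ct_mul, HermitianFactor.ct_mul] at h2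
    try rw [← hY] at h1
    rw [h1] at h2
    calc ct σ M * Y = Y * (((y⁻¹ : GL (Fin 4) F) : Matrix (Fin 4) (Fin 4) F) * ct σ M) * Y := by
          rw [← mul_assoc Y, hY, Units.mul_inv, one_mul]
      _ = Y * ct σ M := by rw [h2, mul_assoc, mul_assoc, hY, Units.inv_mul, mul_one]
  have hTT : Commute M (ct σ M) := poly M hT (ct σ M) hT'c
  refine ⟨T * T'⁻¹, ?_, ?_, ?_⟩
  · rw [mem_iff hq hσ]
    have e : ct σ ((T'⁻¹ : GL (Fin 4) F) : Matrix (Fin 4) (Fin 4) F) =
        ((T⁻¹ : GL (Fin 4) F) : Matrix (Fin 4) (Fin 4) F) := by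
      refine (Units.inv_eq_of_mul_eq_one_right ?_).symm
      conv_lhs => arg 1; rw [← hM, ← HermitianFactor.ct_ct hσ M, ← hUu.unit_spec, ← hT']
      rw [← HermitianFactor.ct_mul, Units.inv_mul, HermitianFactor.ct_one]
    rw [_root_.mul_inv_rev, inv_inv, Units.val_mul, Units.val_mul, HermitianFactor.ct_mul, e]
    have hc : Commute T' T⁻¹ := (Commute.inv_right (Units.ext (by
      rw [Units.val_mul, Units.val_mul, hT', IsUnit.unit_spec]; exact hTT.eq.symm)))
    rw [← Units.val_mul, hc.eq, Units.val_mul, hT', IsUnit.unit_spec]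
  · rw [map_mul, map_inv, mul_inv_eq_iff_eq_mul]
    apply Units.ext
    rw [Units.val_mul, GeneralLinearGroup.val_det_apply, GeneralLinearGroup.val_det_apply, hT',
      IsUnit.unit_spec, ← hM, hTd, ct, det_transpose, ← RingHom.mapMatrix_apply, ← RingHom.map_det, hTd, hq,
      mul_comm]
    exact hμ.symm
  · have c1 : Commute T y := Units.ext (by rw [Units.val_mul, Units.val_mul]; exact hT)
    have c2 : Commute T' y := Units.ext (by
      rw [Units.val_mul, Units.val_mul, hT', IsUnit.unit_spec]; exact hT'c)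
    exact (c1.mul_left c2.inv_left).eq

/-- A matrix annihilated by a product of three monic irreducible polynomials. -/
theorem charpoly_shape3 {n : ℕ} {A : Matrix (Fin n) (Fin n) F} {f g k : F[X]} (hf : Irreducible f)
    (hfm : f.Monic) (hg : Irreducible g) (hgm : g.Monic) (hk : Irreducible k) (hkm : k.Monic)
    (h : aeval A (f * g * k) = 0) :
    ∃ a b c : ℕ, A.charpoly = f ^ a * g ^ b * k ^ c := by
  classical
  set b := Matrix.toLin' A
  have hall : ∀ π : F[X], Irreducible π → π.Monic → π ∣ A.charpoly → π = f ∨ π = g ∨ π = k := by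
    intro π hπ hπm hd
    obtain ⟨x, hx0, hx⟩ := SemisimpleConjGL.exists_ker_of_dvd_charpoly b hπ
      (by rwa [Matrix.charpoly_toLin'])
    by_contra hne
    rw [not_or, not_or] at hne
    have co : ∀ k : F[X], Irreducible k → k.Monic → π ≠ k → IsCoprime π k := fun k hk hkm hne =>
      (dvd_or_isCoprime π k hπ).resolve_left fun hd =>
        hne (eq_of_monic_of_associated hπm hkm (hπ.associated_of_dvd hk hd))
    obtain ⟨u, v, huv⟩ := ((co f hf hfm hne.1).mul_right (co g hg hgm hne.2.1)).mul_right (co k hk hkm hne.2.2)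
    have hfg : aeval b (f * g * k) = 0 := by
      rw [show b = Matrix.toLinAlgEquiv' A from rfl, aeval_algHom_apply, h, map_zero]
    have := congrArg (fun q => aeval b q x) huv
    rw [map_add, map_one, map_mul _ u π, map_mul _ v (f * g * k), hfg, mul_zero, add_zero,
      Module.End.mul_apply, hx, map_zero, Module.End.one_apply] at this
    exact hx0 this.symm
  have key : ∀ (n : ℕ) (q : F[X]), q.natDegree = n → q.Monic →
      (∀ π : F[X], Irreducible π → π.Monic → π ∣ q → π = f ∨ π = g ∨ π = k) →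
      ∃ a b c : ℕ, q = f ^ a * g ^ b * k ^ c := by
    intro n
    induction n using Nat.strong_induction_on with
    | _ n ih =>
      intro q hqn hqm hq
      by_cases h1 : q = 1
      · exact ⟨0, 0, 0, by rw [h1]; simp⟩
      obtain ⟨π, hπm, hπ, hd⟩ := Polynomial.exists_monic_irreducible_factor q
        (fun hu => h1 (hqm.eq_one_of_isUnit hu))
      obtain ⟨d, hd'⟩ := hd
      have hdm : d.Monic := hπm.of_mul_monic_left (hd' ▸ hqm)
      have hlt : d.natDegree < n := by
        rw [← hqn, hd', Monic.natDegree_mul hπm hdm]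
        have := hπ.natDegree_pos
        omega
      obtain ⟨a, b, c, e⟩ := ih _ hlt d rfl hdm
        fun π' h' hm' hdv => hq π' h' hm' (hd' ▸ dvd_mul_of_dvd_right hdv π)
      rcases hq π hπ hπm ⟨d, hd'⟩ with rfl | rfl | rfl
      · exact ⟨a + 1, b, c, by rw [hd', e, pow_succ]; ring⟩
      · exact ⟨a, b + 1, c, by rw [hd', e, pow_succ]; ring⟩
      · exact ⟨a, b, c + 1, by rw [hd', e, pow_succ]; ring⟩
  exact key _ _ rfl (Matrix.charpoly_monic A) hall

/-- The characteristic polynomial of a unitary element whose non-trivial eigenvalues come in a pair of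
classes exchanged by the conjugate reciprocal. -/
theorem shapeU [DecidableEq F] (hq : ∀ x, σ x = x ^ p) (hσ : ∀ x, σ (σ x) = x) {A : GL (Fin 4) F}
    (hA : A ∈ Cfsg.GU 4 F p) {r : ℕ} (hrF : (r : F) ≠ 0)
    (hAr : (A : Matrix (Fin 4) (Fin 4) F) ^ r = 1) (hA1 : (A : Matrix (Fin 4) (Fin 4) F) ≠ 1) {g k : F[X]}
    (hg : Irreducible g) (hgm : g.Monic) (hk : Irreducible k) (hkm : k.Monic)
    (hfac : (X - C 1) * g * k = X ^ r - 1) (hdg : k.natDegree = g.natDegree)
    (hf1 : (X - C 1 : F[X]) ≠ g ∧ (X - C 1 : F[X]) ≠ k) (hgk : g ≠ k)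
    (df : dual σ (X - C 1) = X - C 1) (dg' : dual σ g = k) (dk : dual σ k = g) :
    ∃ a b : ℕ, (A : Matrix (Fin 4) (Fin 4) F).charpoly = (X - C 1) ^ a * g ^ b * k ^ b ∧
      a + 2 * (b * g.natDegree) = 4 ∧ 1 ≤ b := by
  classical
  obtain ⟨a, b, c, e⟩ := charpoly_shape3 (A := (A : Matrix (Fin 4) (Fin 4) F)) (irreducible_X_sub_C (1 : F))
    (monic_X_sub_C 1) hg hgm hk hkm (by rw [hfac, map_sub, map_pow, aeval_X, map_one, hAr, sub_self])
  have hdual := UnitaryPrimeOrderClasses.mem_dual_fixed hq hσ ⟨A, hA⟩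
  have dpow : ∀ (P : F[X]) (n : ℕ), dual σ (P ^ n) = dual σ P ^ n := by
    intro P n
    induction n with
    | zero =>
      rw [pow_zero, pow_zero]
      simp only [UnitaryPrimeOrderClasses.dual, Polynomial.map_one]
      rw [← C_1, mirror_C, C_1, normalize_one]
    | succ n ih => rw [pow_succ, UnitaryPrimeOrderClasses.dual_mul, ih, pow_succ]
  rw [e, UnitaryPrimeOrderClasses.dual_mul, UnitaryPrimeOrderClasses.dual_mul, dpow, dpow, dpow, df, dg',
    dk] at hdual
  have hbc : b = c := by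
    have co : ∀ P Q : F[X], Irreducible P → P.Monic → Irreducible Q → Q.Monic → P ≠ Q → IsCoprime P Q :=
      fun P Q hP hPm hQ hQm hne => (dvd_or_isCoprime P Q hP).resolve_left fun hd =>
        hne (eq_of_monic_of_associated hPm hQm (hP.associated_of_dvd hQ hd))
    have hfne : (X - C (1 : F)) ^ a ≠ 0 := pow_ne_zero _ (X_sub_C_ne_zero 1)
    have h' : g ^ b * k ^ c = k ^ b * g ^ c := mul_left_cancel₀ hfne (by
      rw [← mul_assoc, ← mul_assoc]; exact hdual.symm)
    have le : ∀ (P Q : F[X]) (m n : ℕ), Irreducible P → P.Monic → Irreducible Q → Q.Monic → P ≠ Q →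
        P ^ m ∣ Q ^ m * P ^ n → m ≤ n := by
      intro P Q m n hP hPm hQ hQm hne hd
      exact (pow_dvd_pow_iff hP.ne_zero hP.not_isUnit).mp
        (((co P Q hP hPm hQ hQm hne).pow).dvd_of_dvd_mul_left hd)
    refine le_antisymm (le g k b c hg hgm hk hkm hgk (h' ▸ dvd_mul_right _ _)) ?_
    have h2 : k ^ c ∣ g ^ c * k ^ b := by rw [mul_comm (g ^ c), ← h']; exact dvd_mul_left _ _
    exact le k g c b hk hkm hg hgm hgk.symm h2
  subst hbc
  have hn := congrArg natDegree e
  rw [charpoly_natDegree_eq_dim, Fintype.card_fin, Monic.natDegree_mul (((monic_X_sub_C 1).pow _).mul (hgm.pow _))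
    (hkm.pow _), Monic.natDegree_mul ((monic_X_sub_C 1).pow _) (hgm.pow _), (monic_X_sub_C (1 : F)).natDegree_pow,
    hgm.natDegree_pow, hkm.natDegree_pow, natDegree_X_sub_C, hdg, mul_one] at hn
  refine ⟨a, b, e, by omega, Nat.pos_of_ne_zero fun hb => hA1 ?_⟩
  subst hb
  simp only [pow_zero, mul_one] at e
  have ha : a = 4 := by omega
  have h1 : (1 : Matrix (Fin 4) (Fin 4) F).charpoly = (X - C 1) ^ 4 := by
    rw [← diagonal_one, charpoly_diagonal]; simp
  obtain ⟨P, hP⟩ := SemisimpleConjGL.exists_gl_conj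
    (SemisimpleConjGL.isSemisimple_of_pow_eq_one hrF hAr)
    (SemisimpleConjGL.isSemisimple_of_pow_eq_one (A := (1 : Matrix (Fin 4) (Fin 4) F)) hrF (one_pow r))
    (by rw [e, ha, h1])
  rw [one_mul] at hP
  calc (A : Matrix (Fin 4) (Fin 4) F)
      = ((P⁻¹ : GL (Fin 4) F) : Matrix (Fin 4) (Fin 4) F) * ((P : Matrix (Fin 4) (Fin 4) F) * A) := by
        rw [← mul_assoc, Units.inv_mul, one_mul]
    _ = 1 := by rw [hP, Units.inv_mul]

theorem dual_X_sub_C [DecidableEq F] {w w' : F} (h : σ w * w' = 1) : dual σ (X - C w) = X - C w' := by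
  set A : Matrix (Fin 1) (Fin 1) F := !![w]
  have hw : w ≠ 0 := fun e => by simp [e] at h
  have hA : IsUnit A := (Matrix.isUnit_iff_isUnit_det A).2 (by simp [A, hw])
  have e : (ct σ A)⁻¹ = !![w'] := Matrix.inv_eq_right_inv (by ext i j; fin_cases i; fin_cases j; simpa [A, ct, mul_apply] using h)
  have := UnitaryPrimeOrderClasses.charpoly_ct_inv (σ := σ) A hA
  rw [e] at this
  simpa [A, Matrix.charpoly, Matrix.charmatrix, Matrix.det_fin_one] using this.symm

theorem dual_quad [DecidableEq F] (t : F) :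
    dual σ (X ^ 2 - C t * X + C 1) = X ^ 2 - C (σ t) * X + C 1 := by
  set A : Matrix (Fin 2) (Fin 2) F := !![0, -1; 1, t]
  have hA : IsUnit A := (Matrix.isUnit_iff_isUnit_det A).2 (by simp [A, det_fin_two])
  have e : (ct σ A)⁻¹ = !![σ t, -1; 1, 0] := Matrix.inv_eq_right_inv (by
    ext i j; fin_cases i <;> fin_cases j <;> simp [A, ct, mul_apply, Fin.sum_univ_two])
  have := UnitaryPrimeOrderClasses.charpoly_ct_inv (σ := σ) A hA
  rw [e, Matrix.charpoly_fin_two, Matrix.charpoly_fin_two] at this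
  simpa [A, Matrix.trace_fin_two, det_fin_two] using this.symm

end Cfsg.Agent.PauliFourUnitary
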