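import Cfsg.Agent.Lib.C6SL75
import Cfsg.Agent.Lib.PauliFourUnitary
import Cfsg.Agent.Lib.OrthUnitaryPSU

/-!
The normaliser of a group of symplectic type of order 64 is maximal in the special unitary group of dimension four.
-/

set_option autoImplicit false
set_option linter.unusedSectionVars false
set_option linter.unusedSimpArgs false
set_option maxHeartbeats 1000000

namespace Cfsg.Agent.C6SU75

open Cfsg.Agent.PauliFour Cfsg.Agent.SympTypeTwo Cfsg.Agent.OrthUnitaryKlein Cfsg.Agent.C6Klein75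
open Cfsg.Agent.OrthUnitarySix (swap6 IsReal)
open Cfsg.Agent.HermitianFactor (ct)
open scoped Matrix MatrixGroups

variable {F : Type*} [Field F] {p : ℕ} [Fact p.Prime]

/-- Roots of `X ^ p = X` lie in the prime field. -/
theorem mem_range (e : ZMod p →+* F) {x : F} (hx : x ^ p = x) : x ∈ e.range := by
  classical
  by_contra hn
  have hp := (Fact.out : p.Prime)
  set f : Polynomial F := Polynomial.X ^ p - Polynomial.X with hf
  have hf0 : f ≠ 0 := FiniteField.X_pow_card_sub_X_ne_zero F hp.one_lt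
  have hsub : insert x (Finset.univ.image e) ⊆ f.roots.toFinset := by
    intro y hy
    rw [Multiset.mem_toFinset, Polynomial.mem_roots hf0]
    rcases Finset.mem_insert.1 hy with rfl | hy
    · simp [hf, hx]
    · obtain ⟨a, -, rfl⟩ := Finset.mem_image.1 hy
      simp [hf, ← map_pow, ZMod.pow_card]
  have h := (Finset.card_le_card hsub).trans ((Multiset.toFinset_card_le _).trans (Polynomial.card_roots' f))
  rw [Finset.card_insert_of_notMem (fun h => by obtain ⟨a, -, rfl⟩ := Finset.mem_image.1 h; exact hn ⟨a, rfl⟩),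
    Finset.card_image_of_injective _ e.injective, Finset.card_univ, ZMod.card,
    FiniteField.X_pow_card_sub_X_natDegree_eq F hp.one_lt] at h
  omega

/-- Perfection of the special unitary group inside the general linear group. -/
theorem perfect_SU [Fintype F] {q : ℕ} (hF : Fintype.card F = q ^ 2) :
    commutator (Cfsg.GU 4 F q ⊓ Cfsg.Geo.specialLinear (Fin 4) F : Subgroup (GL (Fin 4) F)) = ⊤ := by
  classical
  set G : Subgroup (GL (Fin 4) F) := Cfsg.GU 4 F q ⊓ Cfsg.Geo.specialLinear (Fin 4) F with hG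
  let f : Cfsg.SU 4 F q →* G :=
    (Matrix.SpecialLinearGroup.toGL.comp (Cfsg.SU 4 F q).subtype).codRestrict _ fun g =>
      ⟨g.2, Units.ext (by rw [Matrix.GeneralLinearGroup.val_det_apply, Units.val_one]; exact g.1.2)⟩
  have hf : Function.Surjective f := fun g => by
    refine ⟨⟨⟨(g : GL (Fin 4) F), ?_⟩, g.2.1⟩, Subtype.ext (Units.ext rfl)⟩
    rw [← Matrix.GeneralLinearGroup.val_det_apply,
      show Matrix.GeneralLinearGroup.det (g : GL (Fin 4) F) = 1 from g.2.2, Units.val_one]
  rw [eq_top_iff, ← Subgroup.map_top_of_surjective f hf,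
    ← OrthUnitaryPSU.commutator_eq_top (n := 4) hF (by norm_num) (by omega),
    commutator_def, Subgroup.map_commutator, commutator_def]
  exact Subgroup.commutator_mono le_top le_top

theorem hyp [Fintype F] (hF : Fintype.card F = p ^ 2) (hp4 : p % 4 = 3) (σ : F →+* F) (hq : ∀ x, σ x = x ^ p)
    (e : ZMod p →+* F) {I : Fˣ} (hI : (I : F) * I = -1) :
    C6Core75.Hyp e I (Cfsg.GU 4 F p ⊓ Cfsg.Geo.specialLinear (Fin 4) F) := by
  have hσ : ∀ x, σ (σ x) = x := fun x => by rw [hq, hq, OrthUnitaryHerm.pow_q_q hF]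
  have h2 : (2 : F) ≠ 0 := C6SL75.two_ne_zero' (by rw [hF, Nat.odd_iff, Nat.pow_mod]; rw [show p % 2 = 1 by omega])
  have hσI := PauliFourUnitary.sigma_I hq hI hp4
  have he : ∀ a, σ (e a) = e a := fun a => by rw [hq, ← map_pow, ZMod.pow_card]
  have hσv : ∀ x : Fin 6 → ZMod p, (fun i => σ (vec e I x i)) = swap6 (vec e I x) := fun x => by
    funext i
    rcases i with i | i <;> fin_cases i <;> simp [vec, swap6, he, hσI, sub_eq_add_neg]
  refine ⟨hI, fun h => h2 (by rw [← map_ofNat e 2, h, map_zero]), inf_le_right, fun g hg x => ?_,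
    fun c x y hc g hgm => ?_, le_inf (PauliFourUnitary.std_le hq hσ hI hp4) (C6SL75.std_det hI), perfect_SU hF⟩
  · let g' : Cfsg.SU 4 F p := ⟨⟨(g : Matrix (Fin 4) (Fin 4) F), by
      rw [← Matrix.GeneralLinearGroup.val_det_apply,
        show Matrix.GeneralLinearGroup.det g = 1 from hg.2, Units.val_one]⟩, hg.1⟩
    have hreal : IsReal p (vec e I x) := fun i => by
      rw [← hq]
      exact (congrFun (hσv x) (.inl i)).symm
    set v := act (g : Matrix (Fin 4) (Fin 4) F) (vec e I x)
    have hr : IsReal p v := OrthUnitarySix.isReal_act hF g' hreal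
    have hl : ∀ i, σ (v (.inl i)) = v (.inr i) := fun i => by rw [hq, hr i]
    have hr' : ∀ i, σ (v (.inr i)) = v (.inl i) := fun i => by rw [← hl i, hσ]
    refine (exists_vec e h2 hI (v := v) (fun i => mem_range e ?_) fun i => mem_range e ?_).imp fun y h => h.symm
    · rw [← hq, map_div₀, map_add, hl, hr', map_ofNat, add_comm]
    · rw [← hq, map_div₀, map_sub, map_mul, hl, hr', map_ofNat, hσI, mul_neg, div_neg, ← neg_div, neg_sub]
  · refine ⟨(HermitianFactor.mem_GU_iff hq hσ g).2 ?_, Units.ext ?_⟩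
    · have hmap : ∀ u : Fin 3 ⊕ Fin 3 → F, (toAlt u).map σ = toAlt (fun i => σ (u i)) := fun u => by
        ext i j; fin_cases i <;> fin_cases j <;> simp [toAlt]
      have hsw : (fun i => σ (swap6 (vec e I y) i)) = vec e I y := by
        funext i
        rcases i with i | i
        · exact congrFun (hσv y) (.inr i)
        · exact congrFun (hσv y) (.inl i)
      rw [hgm, PauliFourUnitary.ct_smul, he, HermitianFactor.ct_mul]
      unfold HermitianFactor.ct
      rw [hmap, hmap, hsw, hσv, toAlt_transpose, toAlt_transpose, neg_mul_neg, Matrix.smul_mul, Matrix.mul_smul,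
        smul_smul, mul_assoc, ← mul_assoc (toAlt (swap6 (vec e I x))), toAlt_sq', Matrix.smul_mul, one_mul,
        Matrix.mul_smul, toAlt_sq, smul_smul, smul_smul, vec_quad e hI, vec_quad e hI, ← map_neg, ← map_neg,
        ← map_mul, ← map_mul, ← map_mul]
      rw [show c * c * -(x ⬝ᵥ x) * -(y ⬝ᵥ y) = 1 by linear_combination hc, map_one, one_smul]
    · rw [Matrix.GeneralLinearGroup.val_det_apply, Units.val_one, hgm, pair_det e hI hc]

/-- The clause for the special unitary group. -/
theorem maximal_sympType {F : Type*} [Field F] [Fintype F] (q : ℕ) (hF : Fintype.card F = q ^ 2) :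
    ∀ (p : ℕ) (R : Subgroup (Matrix.GeneralLinearGroup (Fin 4) F)), p.Prime → q = p → p % 4 = 3 →
      Cfsg.Geo.IsSymplecticTypeGroup 2 R → Cfsg.Geo.ActsAbsolutelyIrreducibly (Cfsg.Geo.matrixSet R) →
      R ≤ Cfsg.GU 4 F q → Nat.card R = 64 → Nat.card (Subgroup.center R) = 4 →
      Cfsg.Geo.IsMaximalIn (Cfsg.GU 4 F q ⊓ Cfsg.Geo.specialLinear (Fin 4) F)
        (Cfsg.Geo.subgroupNormalizer R ⊓ (Cfsg.GU 4 F q ⊓ Cfsg.Geo.specialLinear (Fin 4) F)) := by
  intro p R hp hqp hp4 hRs hRi hRU hR hZ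
  subst hqp
  haveI : Fact q.Prime := ⟨hp⟩
  have h2 : (2 : F) ≠ 0 :=
    C6SL75.two_ne_zero' (by rw [hF, Nat.odd_iff, Nat.pow_mod]; rw [show q % 2 = 1 by omega])
  obtain ⟨σ, hq⟩ := OrthUnitaryHerm.exists_frobHom hF
  have hσ : ∀ x, σ (σ x) = x := fun x => by rw [hq, hq, OrthUnitaryHerm.pow_q_q hF]
  haveI : CharP F q := charP_of_card_eq_prime_pow hF
  have S := SympTypeTwo.Setup.mk' h2 hRs hRi (by rw [hZ]; norm_num)
  obtain ⟨I, P, hI, hP, hRP⟩ := PauliFourUnitary.exists_std hF hq hσ hp4 S (by rw [hR]; norm_num) hZ hRU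
  have H := hyp hF hp4 σ hq (ZMod.castHom (dvd_refl q) F) hI
  rw [hRP]
  refine C6SL75.conj_maximal (fun x => ?_)
    (H.isMaximalIn (by rw [ZMod.card]; exact hp) (by rw [ZMod.card, Nat.odd_iff]; omega))
  rw [Subgroup.mem_inf, Subgroup.mem_inf]
  refine and_congr ⟨fun h => ?_, fun h => mul_mem (mul_mem hP h) (inv_mem hP)⟩ ?_
  · have := mul_mem (mul_mem (inv_mem hP) h) hP
    simpa [mul_assoc] using this
  · have hn : (Cfsg.Geo.specialLinear (Fin 4) F).Normal := MonoidHom.normal_ker _
    rw [hn.mem_comm_iff, inv_mul_cancel_left]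

end Cfsg.Agent.C6SU75
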