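import Cfsg.Agent.Lib.C6Sp8Cplx75Trans
import Cfsg.Agent.Lib.C6SU75

/-!
The centraliser of the complex structure inside an overgroup of the normaliser of the group of minus type in
dimension eight.
-/

set_option autoImplicit false
set_option linter.unusedSectionVars false
set_option linter.unusedSimpArgs false
set_option maxHeartbeats 1000000

namespace Cfsg.Agent.C6Sp8Cx

open Matrix Cfsg.Agent.C6Plus10 Cfsg.Agent.C6Minus10
open scoped MatrixGroups

variable {F : Type*} [Field F] [Fintype F] [NeZero (2 : F)] {P : Par F} {M : Subgroup (GL (Ix 2) F)}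

/-- The split case. -/
theorem cplx_split (hp : (Fintype.card F).Prime) (hp4 : Fintype.card F % 4 = 1) (hM : Ovg P M) :
    (∀ g ∈ M, g ∈ CS → Nr P g) ∨ ∀ (n : Pt 2 → F) (hn : n ⬝ᵥ n = 0), tj n hn ∈ M := by
  have h2 : (2 : F) ≠ 0 := NeZero.ne 2
  obtain ⟨i, hi⟩ := FiniteField.isSquare_neg_one_iff.2 (show Fintype.card F % 4 ≠ 3 by omega)
  have hi0 : i ≠ 0 := fun h0 => by rw [h0, mul_zero] at hi; exact neg_ne_zero.2 one_ne_zero hi
  set I : Fˣ := Units.mk0 i hi0
  have hI : (I : F) * I = -1 := hi.symm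
  have H : C6Core75.Hyp (RingHom.id F) I (Cfsg.Geo.specialLinear (Fin 4) F) :=
    { hI := hI
      h2K := h2
      det := le_rfl
      real := fun g _ x => (C6Klein75.exists_vec (RingHom.id F) h2 hI (fun _ => ⟨_, rfl⟩) fun _ => ⟨_, rfl⟩).imp
        fun _ h => h.symm
      lift := fun c x y hc g hg => Units.ext (by
        rw [Matrix.GeneralLinearGroup.val_det_apply, Units.val_one, hg, C6Klein75.pair_det _ hI hc])
      std := C6SL75.std_det hI
      perfect := C6SL75.perfect_SL }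
  refine cplx_or (e := RingHom.id F) hI hM (H.isMaximalIn hp (by rw [Nat.odd_iff]; omega)) le_rfl
    (fun g hg => ?_) fun Z _ => exists_preimage (RingHom.id F) h2 hI Z (fun _ _ => ⟨_, rfl⟩) fun _ _ => ⟨_, rfl⟩
  show Matrix.GeneralLinearGroup.det _ = 1
  exact Units.ext (by rw [Matrix.GeneralLinearGroup.val_det_apply, Units.val_one]; exact hg)

/-- The inert case, over a given quadratic extension. -/
theorem cplx_inert {E : Type*} [Field E] [Fintype E] {p : ℕ} [Fact p.Prime] [CharP F p] (hFp : Fintype.card F = p)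
    (hE : Fintype.card E = p ^ 2) [CharP E p] (hp4 : p % 4 = 3) (hM : Ovg P M) :
    (∀ g ∈ M, g ∈ CS → Nr P g) ∨ ∀ (n : Pt 2 → F) (hn : n ⬝ᵥ n = 0), tj n hn ∈ M := by
  have hp := (Fact.out : p.Prime)
  let φ : ZMod p ≃+* F := RingEquiv.ofBijective (ZMod.castHom (dvd_refl p) F)
    ((Fintype.bijective_iff_injective_and_card _).2 ⟨RingHom.injective _, by rw [ZMod.card, hFp]⟩)
  set e0 := ZMod.castHom (dvd_refl p) E
  set e : F →+* E := e0.comp φ.symm.toRingHom with he
  obtain ⟨σ, hq⟩ := OrthUnitaryHerm.exists_frobHom hE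
  have hσ : ∀ x, σ (σ x) = x := fun x => by rw [hq, hq, OrthUnitaryHerm.pow_q_q hE]
  obtain ⟨i, hi⟩ := FiniteField.isSquare_neg_one_iff.2 (show Fintype.card E % 4 ≠ 3 by
    rw [hE, Nat.pow_mod, hp4]; norm_num)
  have hi0 : i ≠ 0 := fun h0 => by rw [h0, mul_zero] at hi; exact neg_ne_zero.2 one_ne_zero hi
  set I : Eˣ := Units.mk0 i hi0
  have hI : (I : E) * I = -1 := hi.symm
  have H := C6SU75.hyp hE hp4 σ hq e0 hI
  have he' : ∀ a, σ (e a) = e a := fun a => by
    rw [hq, ← map_pow]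
    congr 1
    rw [← hFp, FiniteField.pow_card]
  have hsI := PauliFourUnitary.sigma_I hq hI hp4
  have hct : ∀ g : GL (Ix 2) F, HermitianFactor.ct σ (phiM e (I : E) g.val) = (phiM e (-(I : E)) g.val)ᵀ := by
    intro g
    ext k l
    simp [HermitianFactor.ct, phiM_apply, he', hsI]
  have hrange : ∀ {x : E}, σ x = x → x ∈ e.range := by
    intro x hx
    obtain ⟨z, hz⟩ := C6SU75.mem_range e0 (x := x) (by rw [← hq, hx])
    exact ⟨φ z, by rw [he, RingHom.comp_apply]; simpa using hz⟩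
  refine cplx_or (e := e) hI hM (H.isMaximalIn (by rw [ZMod.card]; exact hp) (by rw [ZMod.card, Nat.odd_iff]; omega))
    inf_le_right (fun g hg => ⟨?_, ?_⟩) fun Z hZ => ?_
  · refine (HermitianFactor.mem_GU_iff hq hσ _).2 ?_
    rw [phi_val, hct]
    exact phiM_inv e hI g.2
  · exact Units.ext (by rw [Matrix.GeneralLinearGroup.val_det_apply, Units.val_one]; exact hg)
  · have hinv := (PauliFourUnitary.mem_iff hq hσ Z).1 hZ.1
    have hent : ∀ k l, (Z⁻¹ : GL (Fin 4) E).val l k = σ (Z.val k l) := fun k l => by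
      rw [← hinv]; rfl
    refine exists_preimage e (two_neE e) hI Z (fun k l => hrange ?_) fun k l => hrange ?_
    · rw [hent, map_div₀, map_add, hσ, map_ofNat, add_comm]
    · rw [hent, map_div₀, map_sub, map_mul, hσ, map_ofNat, hsI, mul_neg, div_neg, ← neg_div, neg_sub]

end Cfsg.Agent.C6Sp8Cx

namespace Cfsg.Agent.C6Sp8

open Matrix Cfsg.Agent.C6Plus10 Cfsg.Agent.C6Minus10 Cfsg.Agent.C6Sp8Cx

variable {F : Type*} [Field F] [Fintype F]

/-- The centraliser of the complex structure normalises, or the overgroup is everything. -/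
theorem cplx_nr (hp : (Fintype.card F).Prime) (hodd : Odd (Fintype.card F)) (P : Par F)
    {M : Subgroup (GL (Ix 2) F)} (hMS : M ≤ spM 2 F) (hN : ∀ g ∈ spM 2 F, Nr P g → g ∈ M) :
    (∀ g ∈ M, g * cst jq = cst jq * g → Nr P g) ∨ spM 2 F ≤ M := by
  haveI : NeZero (2 : F) := ⟨C6SL75.two_ne_zero' hodd⟩
  have hM : Ovg P M := ⟨hMS, hN⟩
  have hor : (∀ g ∈ M, g ∈ CS → Nr P g) ∨ ∀ (n : Pt 2 → F) (hn : n ⬝ᵥ n = 0), tj n hn ∈ M := by
    haveI : Fact (Fintype.card F).Prime := ⟨hp⟩
    have hmod : Fintype.card F % 4 = 1 ∨ Fintype.card F % 4 = 3 := by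
      obtain ⟨k, hk⟩ := hodd; omega
    rcases hmod with h | h
    · exact cplx_split hp h hM
    · haveI : CharP F (Fintype.card F) := charP_of_card_eq_prime rfl
      haveI : Fintype (GaloisField (Fintype.card F) 2) := Fintype.ofFinite _
      exact cplx_inert (E := GaloisField (Fintype.card F) 2) rfl
        (by rw [← Nat.card_eq_fintype_card, GaloisField.card _ 2 two_ne_zero]) h hM
  rcases hor with h | h
  · exact Or.inl fun g hg hc => h g hg (mem_CS.2 ⟨hc, hMS hg⟩)
  · exact Or.inr (spM_le hp hM h)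

end Cfsg.Agent.C6Sp8
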