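import Cfsg.Agent.Lib.C6Minus10Gen

/-!
The binary symplectic space of dimension four: finite facts on its transvections.
-/

set_option autoImplicit false
set_option synthInstance.maxSize 1000

namespace Cfsg.Agent.C6Sp8Cx

open Cfsg.Agent.C6Plus10

/-! ### The binary symplectic space -/

/-- The binary space of dimension four. -/
abbrev V4 : Type := ZMod 2 × ZMod 2 × ZMod 2 × ZMod 2

/-- The translation part. -/
def va (v : V4) : Pt 2 := ![v.1, v.2.1]

/-- The sign part. -/
def vb (v : V4) : Pt 2 := ![v.2.2.1, v.2.2.2]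

/-- The cocycle. -/
def co (v w : V4) : ZMod 2 := v.2.2.1 * w.1 + v.2.2.2 * w.2.1

/-- The alternating form. -/
def Bf (v w : V4) : ZMod 2 := co v w + co w v

/-- The transvection. -/
def tau (x v : V4) : V4 := if Bf x v = 0 then v else v + x

def e1 : V4 := (1, 0, 0, 0)
def e2 : V4 := (0, 1, 0, 0)
def f1 : V4 := (0, 0, 1, 0)
def f2 : V4 := (0, 0, 0, 1)

theorem stepA : ∀ u : V4, u ≠ 0 → ∃ x y : V4, tau x (tau y u) = e1 := by decide +kernel

theorem stepB : ∀ u : V4, Bf e1 u = 1 → ∃ x y : V4, tau x (tau y e1) = e1 ∧ tau x (tau y u) = f1 := by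
  decide +kernel

theorem stepC : ∀ u : V4, u ≠ 0 → Bf e1 u = 0 → Bf f1 u = 0 →
    ∃ x y : V4, tau x (tau y e1) = e1 ∧ tau x (tau y f1) = f1 ∧ tau x (tau y u) = e2 := by
  decide +kernel

theorem stepD : ∀ u : V4, Bf e1 u = 0 → Bf f1 u = 0 → Bf e2 u = 1 →
    ∃ x y : V4, tau x (tau y e1) = e1 ∧ tau x (tau y f1) = f1 ∧ tau x (tau y e2) = e2 ∧ tau x (tau y u) = f2 := by
  decide +kernel

theorem bf_sep : ∀ v w : V4, (∀ u : V4, Bf u v = Bf u w) → v = w := by decide +kernel

theorem tau_noncomm : ∀ x u : V4, x ≠ 0 → u ≠ 0 → x ≠ u →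
    ∃ y v : V4, tau x (tau u (tau y (tau x (tau u (tau y v))))) ≠ tau y (tau x (tau u (tau y (tau x (tau u v))))) := by
  decide +kernel

theorem v4_decomp : ∀ v : V4, v = (if v.1 = 0 then 0 else e1) + (if v.2.1 = 0 then 0 else e2) +
    (if v.2.2.1 = 0 then 0 else f1) + (if v.2.2.2 = 0 then 0 else f2) := by
  decide +kernel

theorem co_add_left (v v' w : V4) : co (v + v') w = co v w + co v' w := by
  simp only [co, Prod.fst_add, Prod.snd_add]; ring

theorem va_add (v w : V4) : va (v + w) = va v + va w := by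
  funext i; fin_cases i <;> rfl

theorem vb_add (v w : V4) : vb (v + w) = vb v + vb w := by
  funext i; fin_cases i <;> rfl

theorem ip_vb_va (v w : V4) : ip (vb v) (va w) = co v w := by
  simp [ip, dotProduct, va, vb, co, Fin.sum_univ_two]

theorem exists_v4 (a b : Pt 2) : ∃ v : V4, va v = a ∧ vb v = b :=
  ⟨(a 0, a 1, b 0, b 1), funext fun i => by fin_cases i <;> rfl, funext fun i => by fin_cases i <;> rfl⟩

end Cfsg.Agent.C6Sp8Cx
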