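import Cfsg.Agent.Lib.C6Minus10Gen
import Cfsg.Agent.Lib.C6Minus10Frame
import Cfsg.Agent.Lib.C6Sp8Cplx75V4

/-!
The group of order 64 inside the centraliser of the complex structure in dimension eight: its elements, the
transvections of the binary symplectic space, and the reduction of a normalising element to a complex scalar.
-/

set_option autoImplicit false
set_option linter.unusedSectionVars false
set_option linter.unusedSimpArgs false
set_option maxHeartbeats 1000000

namespace Cfsg.Agent.C6Sp8Cx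

open Matrix Cfsg.Agent.C6Plus10 Cfsg.Agent.C6Minus10
open scoped MatrixGroups

/-! ### The elements -/

variable {F : Type*} [Field F]

/-- The complex structure. -/
def Jc : GL (Ix 2) F := cst jq

/-- The second quaternion generator. -/
def Ac (P : Par F) : GL (Ix 2) F := cst (aq P)

/-- The element of a binary vector. -/
noncomputable def Ev (v : V4) : GL (Ix 2) F := up (pau F (va v) (vb v))

theorem cst_neg_one : cst (-1 : GL (Fin 2) F) = (-1 : GL (Ix 2) F) := by
  refine Units.ext (Matrix.ext fun ⟨x, i⟩ ⟨y, l⟩ => ?_)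
  rw [cst_val, blkM_apply, Units.val_neg, Units.val_one, Units.val_neg, Units.val_one]
  by_cases h : x = y <;> simp [Matrix.one_apply, h]

theorem cst_sg (c : ZMod 2) : cst (sg c : GL (Fin 2) F) = (sg c : GL (Ix 2) F) := by
  rcases zm_cases c with rfl | rfl
  · simp
  · rw [sg_one, sg_one, cst_neg_one]

theorem Jc_sq : (Jc : GL (Ix 2) F) * Jc = -1 := by rw [Jc, ← map_mul, jq_sq, cst_neg_one]

theorem Ac_sq (P : Par F) : Ac P * Ac P = -1 := by rw [Ac, ← map_mul, aq_sq, cst_neg_one]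

theorem Ac_Jc (P : Par F) : Ac P * Jc = -(Jc * Ac P) := by
  rw [Ac, Jc, ← map_mul, aq_jq, ← neg_one_mul, map_mul, cst_neg_one, neg_one_mul, map_mul]

theorem Ev_comm_cst (v : V4) (q : GL (Fin 2) F) : Ev v * cst q = cst q * Ev v := up_comm_cst _ q

theorem Ev_Jc (v : V4) : (Ev v : GL (Ix 2) F) * Jc = Jc * Ev v := Ev_comm_cst v _

theorem Ev_Ac (P : Par F) (v : V4) : Ev v * Ac P = Ac P * Ev v := Ev_comm_cst v _

theorem Ev_mul (v w : V4) : (Ev v : GL (Ix 2) F) * Ev w = sg (co v w) * Ev (v + w) := by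
  rw [Ev, Ev, ← map_mul, pau_mul, map_mul, up_sd_const, cst_sg, ip_vb_va, Ev, va_add, vb_add]

theorem Ev_zero : (Ev 0 : GL (Ix 2) F) = 1 := by
  rw [Ev, show va 0 = 0 from funext fun i => by fin_cases i <;> rfl,
    show vb 0 = 0 from funext fun i => by fin_cases i <;> rfl, pau_zero, map_one]

theorem sg_sq {G : Type*} [Monoid G] [HasDistribNeg G] (c : ZMod 2) : sg c * sg c = (1 : G) := by
  rw [← sg_add, CharTwo.add_self_eq_zero, sg_zero]

theorem sg_move {G : Type*} [Monoid G] [HasDistribNeg G] (c : ZMod 2) (a b : G) : a * (sg c * b) = sg c * (a * b) := by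
  rw [← mul_assoc, ← sg_comm, mul_assoc]

theorem Ev_comm (v w : V4) : (Ev v : GL (Ix 2) F) * Ev w = sg (Bf v w) * (Ev w * Ev v) := by
  rw [Ev_mul, Ev_mul, ← mul_assoc, ← sg_add, Bf, add_assoc, CharTwo.add_self_eq_zero, add_zero, add_comm v w]

theorem Ev_sq (v : V4) : (Ev v : GL (Ix 2) F) * Ev v = sg (co v v) := by
  rw [Ev_mul, show v + v = 0 from Prod.ext (CharTwo.add_self_eq_zero _) (Prod.ext (CharTwo.add_self_eq_zero _)
    (Prod.ext (CharTwo.add_self_eq_zero _) (CharTwo.add_self_eq_zero _))), Ev_zero, mul_one]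

/-- The scalars of order four. -/
def C4 : Subgroup (GL (Ix 2) F) := Subgroup.zpowers Jc

theorem Jc_mem : (Jc : GL (Ix 2) F) ∈ C4 := Subgroup.mem_zpowers _

theorem sg_mem_C4 (c : ZMod 2) : (sg c : GL (Ix 2) F) ∈ C4 := by
  rcases zm_cases c with rfl | rfl
  · rw [sg_zero]; exact one_mem _
  · rw [sg_one, ← Jc_sq]; exact mul_mem Jc_mem Jc_mem

theorem C4_cases {q : GL (Ix 2) F} (hq : q ∈ C4) : q = 1 ∨ q = -1 ∨ q = Jc ∨ q = -(Jc : GL (Ix 2) F) := by
  obtain ⟨n, rfl⟩ := Subgroup.mem_zpowers_iff.1 hq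
  have h4 : (Jc : GL (Ix 2) F) ^ (4 : ℤ) = 1 := by
    rw [show (4 : ℤ) = ((4 : ℕ) : ℤ) from rfl, zpow_natCast, show (4 : ℕ) = 2 * 2 from rfl, pow_mul, sq, sq, Jc_sq]
    simp
  rw [← Int.mul_ediv_add_emod n 4, _root_.zpow_add, _root_.zpow_mul, h4, _root_.one_zpow, one_mul]
  have h1 := Int.emod_nonneg n (show (4 : ℤ) ≠ 0 by norm_num)
  have h2 := Int.emod_lt_of_pos n (show (0 : ℤ) < 4 by norm_num)
  interval_cases h : n % 4
  · simp
  · simp
  · right; left; rw [zpow_two, Jc_sq]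
  · right; right; right; rw [show (3 : ℤ) = 2 + 1 from rfl, _root_.zpow_add, zpow_two, zpow_one, Jc_sq, neg_one_mul]

theorem C4_comm {g q : GL (Ix 2) F} (hg : g * Jc = Jc * g) (hq : q ∈ C4) : g * q = q * g := by
  rcases C4_cases hq with rfl | rfl | rfl | rfl <;> simp [hg]

theorem Ev_C4 (v : V4) {q : GL (Ix 2) F} (hq : q ∈ C4) : Ev v * q = q * Ev v := C4_comm (Ev_Jc v) hq

/-! ### Action on the binary space -/

/-- The element sends one vector to another modulo the scalars of order four. -/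
def Act (g : GL (Ix 2) F) (v w : V4) : Prop := ∃ q ∈ C4, g * Ev v = Ev w * q * g

/-- The element normalises the group of order 64. -/
def NR (g : GL (Ix 2) F) : Prop := ∀ v, ∃ w, Act g v w

theorem act_one (v : V4) : Act (1 : GL (Ix 2) F) v v := ⟨1, one_mem _, by simp⟩

theorem Act.mul {g h : GL (Ix 2) F} {u v w : V4} (hh : Act h u v) (hg : Act g v w) (hc : g * Jc = Jc * g) :
    Act (g * h) u w := by
  obtain ⟨q, hq, e⟩ := hh
  obtain ⟨q', hq', e'⟩ := hg
  refine ⟨q' * q, mul_mem hq' hq, ?_⟩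
  calc g * h * Ev u = g * Ev v * q * h := by rw [mul_assoc, e]; group
    _ = Ev w * q' * (g * q) * h := by rw [e']; group
    _ = _ := by rw [C4_comm hc hq]; group

theorem NR.mul {g h : GL (Ix 2) F} (hg : NR g) (hh : NR h) (hc : g * Jc = Jc * g) : NR (g * h) := fun u => by
  obtain ⟨v, hv⟩ := hh u
  obtain ⟨w, hw⟩ := hg v
  exact ⟨w, hv.mul hw hc⟩

theorem Act.add {g : GL (Ix 2) F} {v w v' w' : V4} (hv : Act g v w) (hv' : Act g v' w') :
    Act g (v + v') (w + w') := by
  obtain ⟨q, hq, e⟩ := hv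
  obtain ⟨q', hq', e'⟩ := hv'
  refine ⟨sg (co v v') * (sg (co w w') * (q * q')), mul_mem (sg_mem_C4 _) (mul_mem (sg_mem_C4 _) (mul_mem hq hq')), ?_⟩
  have h : g * (Ev v * Ev v') = Ev w * Ev w' * (q * q') * g := by
    calc g * (Ev v * Ev v') = Ev w * q * (g * Ev v') := by rw [← mul_assoc, e]; group
      _ = Ev w * (q * Ev w') * q' * g := by rw [e']; group
      _ = _ := by rw [← Ev_C4 w' hq]; group
  rw [Ev_mul, Ev_mul, sg_move] at h
  have h' := congrArg (sg (co v v') * ·) h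
  rw [← mul_assoc, sg_sq, one_mul] at h'
  rw [h', sg_move, sg_move]
  simp only [mul_assoc]

theorem Act.bf [NeZero (2 : F)] {g : GL (Ix 2) F} {v w v' w' : V4} (hv : Act g v w) (hv' : Act g v' w') :
    Bf v v' = Bf w w' := by
  obtain ⟨q, hq, e⟩ := hv
  obtain ⟨q', hq', e'⟩ := hv'
  have key : ∀ {v v' w w' : V4} {q q' : GL (Ix 2) F}, q ∈ C4 → q' ∈ C4 → g * Ev v = Ev w * q * g →
      g * Ev v' = Ev w' * q' * g → g * (Ev v * Ev v') = Ev w * Ev w' * (q * q') * g := by
    intro v v' w w' q q' hq hq' e e'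
    calc g * (Ev v * Ev v') = Ev w * q * (g * Ev v') := by rw [← mul_assoc, e]; group
      _ = Ev w * (q * Ev w') * q' * g := by rw [e']; group
      _ = _ := by rw [← Ev_C4 w' hq]; group
  have h1 := key hq hq' e e'
  have h2 := key hq' hq e' e
  rw [Ev_comm v v', Ev_comm w w', sg_move, h2, show q' * q = q * q' from
    C4_comm (C4_comm (rfl : (Jc : GL (Ix 2) F) * Jc = Jc * Jc) hq').symm hq] at h1
  simp only [mul_assoc] at h1
  exact C6Minus10.sg_inj (ι := Ix 2) (NeZero.ne 2) (mul_right_cancel h1)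

theorem Act.unique [NeZero (2 : F)] {g : GL (Ix 2) F} {v w w' : V4} (hg : Act g v w) (hg' : Act g v w') :
    w = w' := by
  obtain ⟨q, hq, e⟩ := hg
  obtain ⟨q', hq', e'⟩ := hg'
  have h : Ev w * q = Ev w' * q' := mul_right_cancel (e.symm.trans e')
  refine bf_sep w w' fun u => C6Minus10.sg_inj (ι := Ix 2) (NeZero.ne (2 : F)) ?_
  have h1 : ∀ {x : V4} {r : GL (Ix 2) F}, r ∈ C4 → Ev u * (Ev x * r) = sg (Bf u x) * (Ev x * r * Ev u) :=
    fun {x r} hr => by
      rw [← mul_assoc, Ev_comm, mul_assoc, mul_assoc, Ev_C4 u hr, mul_assoc]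
  have h2 := h1 (x := w) hq
  rw [h, h1 hq'] at h2
  exact (mul_right_cancel h2).symm

theorem act_zero (g : GL (Ix 2) F) : Act g 0 0 := ⟨1, one_mem _, by simp [Ev_zero]⟩

/-! ### Halved products -/

theorem sform_add_left (u u' v : Ix 2 → F) : sform (u + u') v = sform u v + sform u' v := by
  simp only [sform, Pi.add_apply, ← Finset.sum_add_distrib]
  exact Finset.sum_congr rfl fun x _ => by ring

theorem sform_add_right (u v v' : Ix 2 → F) : sform u (v + v') = sform u v + sform u v' := by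
  simp only [sform, Pi.add_apply, ← Finset.sum_add_distrib]
  exact Finset.sum_congr rfl fun x _ => by ring

theorem sform_smul_left (c : F) (u v : Ix 2 → F) : sform (c • u) v = c * sform u v := by
  simp only [sform, Pi.smul_apply, smul_eq_mul, Finset.mul_sum]
  exact Finset.sum_congr rfl fun x _ => by ring

theorem sform_smul_right (c : F) (u v : Ix 2 → F) : sform u (c • v) = c * sform u v := by
  simp only [sform, Pi.smul_apply, smul_eq_mul, Finset.mul_sum]
  exact Finset.sum_congr rfl fun x _ => by ring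

theorem sform_neg_left (u v : Ix 2 → F) : sform (-u) v = -sform u v := by
  rw [← neg_one_smul F u, sform_smul_left, neg_one_mul]

theorem sform_one_add {s : GL (Ix 2) F} (hs : s ∈ spM 2 F) (hs2 : s * s = -1) (u v : Ix 2 → F) :
    sform ((1 + s.val) *ᵥ u) ((1 + s.val) *ᵥ v) = 2 * sform u v := by
  have h := hs (s.val *ᵥ u) v
  rw [Matrix.mulVec_mulVec, ← Units.val_mul, hs2, Units.val_neg, Units.val_one, Matrix.neg_mulVec,
    Matrix.one_mulVec, sform_neg_left] at h
  rw [Matrix.add_mulVec, Matrix.add_mulVec, Matrix.one_mulVec, Matrix.one_mulVec, sform_add_left, sform_add_right,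
    sform_add_right, hs u v]
  linear_combination -h

variable [NeZero (2 : F)]

theorem one_add_mul_one_sub {s : GL (Ix 2) F} (hs : s * s = -1) :
    ((1 : Matrix (Ix 2) (Ix 2) F) + s.val) * (1 - s.val) = (2 : F) • 1 ∧
      ((1 : Matrix (Ix 2) (Ix 2) F) - s.val) * (1 + s.val) = (2 : F) • 1 := by
  have e : s.val * s.val = -(1 : Matrix (Ix 2) (Ix 2) F) := by
    rw [← Units.val_mul, hs, Units.val_neg, Units.val_one]
  constructor <;> simp only [add_mul, sub_mul, mul_add, mul_sub, one_mul, mul_one, e, two_smul] <;> abel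

/-- Half the product of two elements of multiplier two. -/
noncomputable def hf (s t : GL (Ix 2) F) (hs : s * s = -1) (ht : t * t = -1) : GL (Ix 2) F where
  val := (2 : F)⁻¹ • ((1 + s.val) * (1 + t.val))
  inv := (2 : F)⁻¹ • ((1 - t.val) * (1 - s.val))
  val_inv := by
    rw [smul_mul_smul_comm, mul_assoc (1 + s.val), ← mul_assoc (1 + t.val), (one_add_mul_one_sub ht).1,
      smul_mul_assoc, one_mul, mul_smul_comm, (one_add_mul_one_sub hs).1, smul_smul, smul_smul,
      show (2 : F)⁻¹ * 2⁻¹ * 2 * 2 = 1 by field_simp [NeZero.ne (2 : F)], one_smul]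
  inv_val := by
    rw [smul_mul_smul_comm, mul_assoc (1 - t.val), ← mul_assoc (1 - s.val), (one_add_mul_one_sub hs).2,
      smul_mul_assoc, one_mul, mul_smul_comm, (one_add_mul_one_sub ht).2, smul_smul, smul_smul,
      show (2 : F)⁻¹ * 2⁻¹ * 2 * 2 = 1 by field_simp [NeZero.ne (2 : F)], one_smul]

theorem hf_mem {s t : GL (Ix 2) F} (hs : s * s = -1) (ht : t * t = -1) (hsM : s ∈ spM 2 F) (htM : t ∈ spM 2 F) :
    hf s t hs ht ∈ spM 2 F := fun u v => by
  show sform (((2 : F)⁻¹ • ((1 + s.val) * (1 + t.val))) *ᵥ u) (((2 : F)⁻¹ • ((1 + s.val) * (1 + t.val))) *ᵥ v) = _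
  rw [Matrix.smul_mulVec, Matrix.smul_mulVec, sform_smul_left, sform_smul_right, ← Matrix.mulVec_mulVec,
    ← Matrix.mulVec_mulVec, sform_one_add hsM hs, sform_one_add htM ht]
  field_simp [NeZero.ne (2 : F)]

theorem hf_comm {s t g : GL (Ix 2) F} (hs : s * s = -1) (ht : t * t = -1) (h1 : g * s = s * g)
    (h2 : g * t = t * g) : g * hf s t hs ht = hf s t hs ht * g := by
  have e1 := congrArg Units.val h1
  have e2 := congrArg Units.val h2
  rw [Units.val_mul, Units.val_mul] at e1 e2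
  refine Units.ext ?_
  show g.val * ((2 : F)⁻¹ • ((1 + s.val) * (1 + t.val))) = ((2 : F)⁻¹ • ((1 + s.val) * (1 + t.val))) * g.val
  rw [Matrix.mul_smul, Matrix.smul_mul]
  congr 1
  simp only [mul_add, add_mul, one_mul, mul_one, ← mul_assoc, e1]
  simp only [mul_assoc, e2]

/-! ### The extraspecial group -/

variable (P : Par F)

theorem el_eq (a b : Pt 2) (q : GL (Fin 2) F) : ∃ v, el a b q = Ev v * cst q := by
  obtain ⟨v, rfl, rfl⟩ := exists_v4 a b
  exact ⟨v, rfl⟩

theorem Ev_mem (v : V4) : (Ev v : GL (Ix 2) F) ∈ Rm P := by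
  have := el_mem P (va v) (vb v) (one_mem (Q8 P))
  rwa [el, map_one, mul_one] at this

theorem cst_mem_Rm {q : GL (Fin 2) F} (hq : q ∈ Q8 P) : (cst q : GL (Ix 2) F) ∈ Rm P := by
  have := el_mem P (0 : Pt 2) 0 hq
  rwa [el, pau_zero, map_one, one_mul] at this

theorem Jc_mem_Rm : (Jc : GL (Ix 2) F) ∈ Rm P := cst_mem_Rm P (jq_mem P)

theorem C4_le_Rm : (C4 : Subgroup (GL (Ix 2) F)) ≤ Rm P := Subgroup.zpowers_le.2 (Jc_mem_Rm P)

theorem Rm_sign {r s : GL (Ix 2) F} (hr : r ∈ Rm P) (hs : s ∈ Rm P) : ∃ ε : ZMod 2, r * s = sg ε * (s * r) := by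
  obtain ⟨a, b, q, hq, rfl⟩ := hr
  obtain ⟨a', b', q', hq', rfl⟩ := hs
  obtain ⟨ε, hε⟩ := (q8_sign P hq hq').1
  obtain ⟨v, hv⟩ := el_eq a b q
  obtain ⟨v', hv'⟩ := el_eq a' b' q'
  rw [hv, hv']
  refine ⟨Bf v v' + ε, ?_⟩
  have hqq : cst q * cst q' = (sg ε : GL (Ix 2) F) * (cst q' * cst q) := by
    rw [← map_mul, ← map_mul, ← cst_sg, ← map_mul, ← mul_assoc (sg ε), ← mul_inv_eq_iff_eq_mul.1 hε]
  calc Ev v * cst q * (Ev v' * cst q') = Ev v * (cst q * Ev v') * cst q' := by group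
    _ = Ev v * Ev v' * (cst q * cst q') := by rw [← Ev_comm_cst]; group
    _ = sg (Bf v v' + ε) * (Ev v' * Ev v * (cst q' * cst q)) := by
      rw [hqq, Ev_comm v v', sg_move, sg_add]
      simp only [← mul_assoc]
      rw [sg_comm ε (sg (Bf v v') : GL (Ix 2) F)]
    _ = _ := by
      congr 1
      calc Ev v' * Ev v * (cst q' * cst q) = Ev v' * (Ev v * cst q') * cst q := by group
        _ = _ := by rw [Ev_comm_cst]; group

theorem one_add_conj {s r : GL (Ix 2) F} (hs : s * s = -1) (hsR : s ∈ Rm P) (hr : r ∈ Rm P) :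
    ∃ r' ∈ Rm P, (1 + s.val) * r.val = r'.val * (1 + s.val) := by
  obtain ⟨ε, hε⟩ := Rm_sign P hsR hr
  rcases zm_cases ε with rfl | rfl
  · refine ⟨r, hr, ?_⟩
    rw [sg_zero, one_mul] at hε
    rw [add_mul, mul_add, one_mul, mul_one, ← Units.val_mul, hε, Units.val_mul]
  · refine ⟨s * r, mul_mem hsR hr, ?_⟩
    rw [sg_one, neg_one_mul] at hε
    have e : s.val * r.val * s.val = r.val := by
      rw [← Units.val_mul, hε, Units.val_neg, Units.val_mul, neg_mul, mul_assoc, ← Units.val_mul s s, hs,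
        Units.val_neg, Units.val_one]
      simp
    rw [Units.val_mul, add_mul, mul_add, one_mul, mul_one, e, add_comm]

theorem nr_of_mem {g : GL (Ix 2) F} (hg : g ∈ Rm P) : Nr P g := fun _ hr => mul_mem (mul_mem hg hr) (inv_mem hg)

theorem nr_of_scale {g s : GL (Ix 2) F} {c : F} (hs : s * s = -1) (hsR : s ∈ Rm P)
    (hg : g.val = c • (1 + s.val)) : Nr P g := fun r hr => by
  obtain ⟨r', hr', e⟩ := one_add_conj P hs hsR hr
  have h : g * r = r' * g := Units.ext (by rw [Units.val_mul, Units.val_mul, hg, smul_mul_assoc, e, mul_smul_comm])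
  rwa [h, mul_inv_cancel_right]

theorem nr_hf {s t : GL (Ix 2) F} (hs : s * s = -1) (ht : t * t = -1) (hsR : s ∈ Rm P) (htR : t ∈ Rm P) :
    Nr P (hf s t hs ht) := fun r hr => by
  obtain ⟨r', hr', e⟩ := one_add_conj P ht htR hr
  obtain ⟨r'', hr'', e'⟩ := one_add_conj P hs hsR hr'
  have h : hf s t hs ht * r = r'' * hf s t hs ht := Units.ext (by
    show ((2 : F)⁻¹ • ((1 + s.val) * (1 + t.val))) * r.val = r''.val * ((2 : F)⁻¹ • ((1 + s.val) * (1 + t.val)))
    rw [smul_mul_assoc, mul_smul_comm, mul_assoc, e, ← mul_assoc, e', mul_assoc])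
  rwa [h, mul_inv_cancel_right]

theorem up_pau_mem_spM (v : V4) : (Ev v : GL (Ix 2) F) ∈ spM 2 F := by
  refine up_mem_spM ?_
  rw [C6Plus10.pau, Units.val_mul, Matrix.transpose_mul, mul_assoc, ← mul_assoc (pm F _).valᵀ, pm_orth, one_mul,
    sd_orth]

theorem Jc_mem_spM : (Jc : GL (Ix 2) F) ∈ spM 2 F :=
  blk_mem_spM fun _ => by rw [Matrix.det_fin_two]; simp [jq]

theorem Ac_mem_spM : Ac P ∈ spM 2 F :=
  blk_mem_spM fun _ => by
    rw [Matrix.det_fin_two]
    simp [aq]
    linear_combination -P.eq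

end Cfsg.Agent.C6Sp8Cx
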