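import Cfsg.Agent.Lib.C6Sp8Cplx75Red

/-!
Either the centraliser of the complex structure in the overgroup normalises, or the overgroup contains the
transvection-like elements attached to isotropic vectors.
-/

set_option autoImplicit false
set_option linter.unusedSectionVars false
set_option linter.unusedSimpArgs false
set_option maxHeartbeats 1000000

namespace Cfsg.Agent.C6Sp8Cx

open Matrix Cfsg.Agent.C6Plus10 Cfsg.Agent.C6Minus10
open scoped MatrixGroups

variable {F : Type*} [Field F] {E : Type*} [Field E] [NeZero (2 : F)] {e : F →+* E}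
variable {I : Eˣ} (hI : (I : E) * I = -1) {P : Par F}

theorem Jc_transpose : ((Jc : GL (Ix 2) F).val)ᵀ = -(Jc : GL (Ix 2) F).val := by
  ext ⟨x, i⟩ ⟨y, l⟩
  rw [Matrix.transpose_apply, Matrix.neg_apply, Jc_apply, Jc_apply]
  by_cases h : x = y
  · subst h; fin_cases i <;> fin_cases l <;> simp
  · simp [h, Ne.symm h]

theorem hf_val {s t : GL (Ix 2) F} (hs : s * s = -1) (ht : t * t = -1) :
    (hf s t hs ht).val = (2 : F)⁻¹ • ((1 + s.val) * (1 + t.val)) := rfl

/-! ### Scalars -/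

/-- The scalars which normalise. -/
def Cond (x y : F) : Prop := x * y = 0 ∨ x * x = y * y

theorem Scal.cj {z : GL (Ix 2) F} {x y : F} (hz : Scal z x y) : Cj z := Units.ext (by
  rw [Units.val_mul, Units.val_mul, hz.1]
  simp only [add_mul, mul_add, smul_mul_assoc, mul_smul_comm, one_mul, mul_one])

theorem Scal.comm {z r : GL (Ix 2) F} {x y : F} (hz : Scal z x y) (hr : Cj r) : z * r = r * z := Units.ext (by
  rw [Units.val_mul, Units.val_mul, hz.1]
  simp only [add_mul, mul_add, smul_mul_assoc, mul_smul_comm, one_mul, mul_one, ← Units.val_mul,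
    show r * Jc = Jc * r from hr])

theorem Scal.nr {z : GL (Ix 2) F} {x y : F} (hz : Scal z x y) : NR z :=
  fun v => ⟨v, 1, one_mem _, by rw [mul_one, hz.comm (Ev_Jc v)]⟩

theorem Scal.cs {z : GL (Ix 2) F} {x y : F} (hz : Scal z x y) : z ∈ CS := by
  refine mem_CS_of hz.cj ?_
  rw [hz.1, Matrix.transpose_add, Matrix.transpose_smul, Matrix.transpose_smul, Matrix.transpose_one, Jc_transpose]
  simp only [add_mul, mul_add, smul_mul_assoc, mul_smul_comm, one_mul, mul_one, neg_mul, smul_smul, smul_neg,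
    ← Units.val_mul, Jc_sq, Units.val_neg, Units.val_one]
  have : (x * x + y * y) • (1 : Matrix (Ix 2) (Ix 2) F) = 1 := by rw [hz.2, one_smul]
  rw [add_smul] at this
  simp only [mul_comm y x, neg_neg, neg_smul]
  linear_combination (norm := module) this

include hI in
theorem Scal.dt_eq {z : GL (Ix 2) F} {x y : F} (hz : Scal z x y) : dt e I z = (e x + I * e y) ^ 4 := by
  have h := phiM_lin e (I : E) x y 0 0
  simp only [zero_smul, add_zero, sub_zero] at h
  rw [dt, hz.1, h, Matrix.det_diagonal, Fin.prod_univ_four]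
  simp
  ring

include hI in
theorem cond_of_dt {x y : F} (hxy : x * x + y * y = 1) (h : ((e x + I * e y) ^ 4) ^ 2 = 1) : Cond x y := by
  set ζ := e x + I * e y with hζ
  set η := e x - I * e y with hη
  have h1 : ζ * η = 1 := by
    rw [← map_one e, ← hxy, map_add, map_mul, map_mul, hζ, hη]
    linear_combination -(e y * e y) * hI
  have h4 : (ζ ^ 2 - η ^ 2) * (ζ ^ 2 + η ^ 2) = 0 := by
    rcases mul_self_eq_one_iff.1 ((sq (ζ ^ 4)).symm.trans h) with h' | h'
    · linear_combination h' + η ^ 4 * h' - (ζ ^ 3 * η ^ 3 + ζ ^ 2 * η ^ 2 + ζ * η + 1) * h1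
    · linear_combination h' - η ^ 4 * h' + (ζ ^ 3 * η ^ 3 + ζ ^ 2 * η ^ 2 + ζ * η + 1) * h1
  have h2 := two_neE e
  rcases mul_eq_zero.1 h4 with h' | h'
  · refine Or.inl (e.injective ?_)
    rw [map_mul, map_zero]
    have : (2 * 2 * (I : E)) * (e x * e y) = 0 := by linear_combination h'
    exact (mul_eq_zero.1 this).resolve_left (mul_ne_zero (mul_ne_zero h2 h2) I.ne_zero)
  · refine Or.inr (e.injective ?_)
    rw [map_mul, map_mul]
    exact mul_left_cancel₀ h2 (by linear_combination h' - 2 * e y * e y * hI)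

include hI in
theorem prod_zero_of_dt {x y : F} (hxy : x * x + y * y = 1) (h : (e x + I * e y) ^ 4 = 1) : x * y = 0 := by
  set ζ := e x + I * e y with hζ
  set η := e x - I * e y with hη
  have h1 : ζ * η = 1 := by
    rw [← map_one e, ← hxy, map_add, map_mul, map_mul, hζ, hη]
    linear_combination -(e y * e y) * hI
  have h' : ζ ^ 2 - η ^ 2 = 0 := by linear_combination η ^ 2 * h - ζ ^ 2 * (ζ * η + 1) * h1
  apply e.injective
  rw [map_mul, map_zero]
  have : (2 * 2 * (I : E)) * (e x * e y) = 0 := by linear_combination h'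
  exact (mul_eq_zero.1 this).resolve_left (mul_ne_zero (mul_ne_zero (two_neE e) (two_neE e)) I.ne_zero)

theorem neg_mem_R0 {r : GL (Ix 2) F} (hr : r ∈ R0) : -r ∈ R0 := by
  rw [← neg_one_mul, ← Jc_sq]
  exact mul_mem (mul_mem (C4_le_R0 Jc_mem) (C4_le_R0 Jc_mem)) hr

theorem Scal.mem_R0 {z : GL (Ix 2) F} {x y : F} (hz : Scal z x y) (h0 : x * y = 0) : z ∈ R0 := by
  have h1 : (1 : GL (Ix 2) F) ∈ R0 := one_mem _
  have hJ : (Jc : GL (Ix 2) F) ∈ R0 := C4_le_R0 Jc_mem
  rcases mul_eq_zero.1 h0 with rfl | rfl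
  · rcases mul_self_eq_one_iff.1 (by simpa using hz.2) with rfl | rfl
    · rwa [show z = Jc from Units.ext (by simp [hz.1])]
    · rw [show z = -(Jc : GL (Ix 2) F) from Units.ext (by simp [hz.1])]
      exact neg_mem_R0 hJ
  · rcases mul_self_eq_one_iff.1 (by simpa using hz.2) with rfl | rfl
    · rwa [show z = 1 from Units.ext (by simp [hz.1])]
    · rw [show z = (-1 : GL (Ix 2) F) from Units.ext (by simp [hz.1])]
      exact neg_mem_R0 h1

theorem Scal.nrP (P : Par F) {z : GL (Ix 2) F} {x y : F} (hz : Scal z x y) (hc : Cond x y) : Nr P z := by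
  rcases hc with h | h
  · exact nr_of_mem P (R0_le_Rm P (hz.mem_R0 h))
  · rcases mul_self_eq_mul_self_iff.1 h with rfl | rfl
    · exact nr_of_scale P Jc_sq (Jc_mem_Rm P) (c := x) (by rw [hz.1, smul_add])
    · refine nr_of_scale P (s := -(Jc : GL (Ix 2) F)) (c := -y) (by rw [neg_mul_neg, Jc_sq]) (R0_le_Rm P (neg_mem_R0 (C4_le_R0 Jc_mem)))
        ?_
      rw [hz.1, Units.val_neg, smul_add, smul_neg, neg_smul, neg_smul, neg_neg]

/-! ### The overgroup -/

variable [Finite F] {M : Subgroup (GL (Ix 2) F)}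

/-- The hypotheses on the overgroup. -/
structure Ovg (P : Par F) (M : Subgroup (GL (Ix 2) F)) : Prop where
  le : M ≤ spM 2 F
  nr : ∀ g ∈ spM 2 F, Nr P g → g ∈ M

theorem Ovg.good (hM : Ovg P M) {g : GL (Ix 2) F} (hg : Good e I P g) : g ∈ M :=
  hM.nr g (mem_CS.1 hg.cs).2 hg.nrP

theorem Ovg.r0 (hM : Ovg P M) {r : GL (Ix 2) F} (hr : r ∈ R0) : r ∈ M :=
  hM.nr r (mem_CS.1 (R0_le_CS hr)).2 (nr_of_mem P (R0_le_Rm P hr))

theorem conj_sq : (Ev f1 * Ac P) * (Ev f1 * Ac P) = -1 := by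
  calc (Ev f1 * Ac P) * (Ev f1 * Ac P) = Ev f1 * (Ac P * Ev f1) * Ac P := by group
    _ = Ev f1 * Ev f1 * (Ac P * Ac P) := by rw [← Ev_Ac]; group
    _ = -1 := by rw [Ev_sq, show co f1 f1 = 0 by decide, sg_zero, one_mul, Ac_sq]

include hI in
/-- A scalar in the overgroup gives an element of determinant one. -/
theorem exists_conj (hM : Ovg P M) {z : GL (Ix 2) F} {x y : F} (hz : Scal z x y) (hzM : z ∈ M) :
    ∃ w ∈ M, w ∈ CS ∧ dt e I w = 1 ∧
      w.val = x • (1 : Matrix (Ix 2) (Ix 2) F) + (-y) • ((Ev f1 : GL (Ix 2) F).val * (Jc : GL (Ix 2) F).val) := by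
  set h := hf (Ev f1 * Ac P) (Ac P) conj_sq (Ac_sq P) with hh
  have hAR : Ac P ∈ Rm P := cst_mem_Rm P (aq_mem P)
  have hhM : h ∈ M := hM.nr h (hf_mem _ _ (mul_mem (up_pau_mem_spM f1) (Ac_mem_spM P)) (Ac_mem_spM P))
    (nr_hf P _ _ (mul_mem (Ev_mem P f1) hAR) hAR)
  set A := (Ac P).val
  set Z := (Ev f1 : GL (Ix 2) F).val
  set J := (Jc : GL (Ix 2) F).val
  have hAJ : A * J = -(J * A) := by rw [← Units.val_mul, Ac_Jc, Units.val_neg, Units.val_mul]
  have hAA : A * A = -1 := by rw [← Units.val_mul, Ac_sq, Units.val_neg, Units.val_one]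
  have hZA : Z * A = A * Z := by rw [← Units.val_mul, Ev_Ac, Units.val_mul]
  have hZJ : Z * J = J * Z := by rw [← Units.val_mul, Ev_Jc, Units.val_mul]
  have e1' : (1 + A) * J = -(J * A) * (1 + A) := by
    rw [add_mul, mul_add, one_mul, mul_one, hAJ, neg_mul, mul_assoc, hAA, mul_neg, mul_one, neg_neg, add_comm]
  have hzj : Z * A * (-(J * A)) = -(Z * J) := by
    rw [mul_neg, mul_assoc, ← mul_assoc A J, hAJ, neg_mul, mul_assoc J, hAA]
    simp
  have hZZ : Z * Z = 1 := by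
    rw [← Units.val_mul, Ev_sq, show co f1 f1 = 0 by decide, sg_zero, Units.val_one]
  have e2' : (1 + Z * A) * (-(J * A)) = -(Z * J) * (1 + Z * A) := by
    rw [add_mul, one_mul, hzj, mul_add, mul_one, show -(Z * J) * (Z * A) = -(J * A) by
      rw [neg_mul, hZJ, mul_assoc, ← mul_assoc Z Z, hZZ, one_mul], add_comm]
  have hJ : h.val * J = -(Z * J) * h.val := by
    rw [hh, hf_val, Units.val_mul, smul_mul_assoc, mul_smul_comm, mul_assoc, e1', ← mul_assoc, e2', mul_assoc]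
  have hval : (h * z * h⁻¹).val = x • (1 : Matrix (Ix 2) (Ix 2) F) + (-y) • (Z * J) := by
    rw [Units.val_mul, Units.val_mul, hz.1, mul_add, mul_smul_comm, mul_smul_comm, mul_one, hJ, add_mul,
      smul_mul_assoc, smul_mul_assoc, Units.mul_inv, mul_assoc, Units.mul_inv, mul_one, neg_smul, smul_neg]
  have hwM : h * z * h⁻¹ ∈ M := mul_mem (mul_mem hhM hzM) (inv_mem hhM)
  refine ⟨_, hwM, mem_CS.2 ⟨Units.ext ?_, hM.le hwM⟩, ?_, hval⟩
  · rw [Units.val_mul (h * z * h⁻¹), Units.val_mul Jc, hval, add_mul, mul_add, smul_mul_assoc, smul_mul_assoc,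
      mul_smul_comm, mul_smul_comm, one_mul, mul_one, ← mul_assoc, ← hZJ]
  · have hl := phiM_lin e (I : E) x 0 0 (-y)
    simp only [zero_smul, add_zero, zero_add, sub_zero, zero_sub, neg_neg] at hl
    rw [dt, hval, hl, Matrix.det_diagonal, Fin.prod_univ_four]
    have h1 : (e x + I * e y) * (e x + I * -(e y)) = 1 := by
      rw [← map_one e, ← hz.2, map_add, map_mul, map_mul]
      linear_combination -(e y * e y) * hI
    simp [map_neg]
    linear_combination ((e x + I * e y) * (e x + I * -(e y)) + 1) * h1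

theorem cond_of_nr (P : Par F) {w : GL (Ix 2) F} {x y : F} (hxy : x * x + y * y = 1)
    (hw : w.val = x • (1 : Matrix (Ix 2) (Ix 2) F) + (-y) • ((Ev f1 : GL (Ix 2) F).val * (Jc : GL (Ix 2) F).val))
    (hNR : NR w) : Cond x y := by
  obtain ⟨v, q, hq, hv⟩ := hNR e1
  set r := Ev v * q with hr
  obtain ⟨ε, hε⟩ := Rm_sign P (R0_le_Rm P (⟨v, q, hq, rfl⟩ : r ∈ R0)) (Ev_mem P e1)
  set W := (Ev f1 : GL (Ix 2) F).val * (Jc : GL (Ix 2) F).val with hW
  set X := (Ev e1 : GL (Ix 2) F).val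
  set U := w.val
  set U' := x • (1 : Matrix (Ix 2) (Ix 2) F) + y • W with hU'
  have hWW : W * W = -1 := by
    rw [hW, ← Units.val_mul, ← Units.val_mul, show Ev f1 * Jc * (Ev f1 * Jc) = (-1 : GL (Ix 2) F) by
      have := sx_sq (F := F) f1
      rwa [sx, if_pos (show co f1 f1 = 0 by decide)] at this, Units.val_neg, Units.val_one]
  have hXX : X * X = 1 := by
    rw [← Units.val_mul, Ev_sq, show co e1 e1 = 0 by decide, sg_zero, Units.val_one]
  have hXW : X * W = -(W * X) := by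
    rw [hW, ← Units.val_mul, ← Units.val_mul, ← Units.val_mul, ← Units.val_neg]
    congr 1
    rw [← mul_assoc, Ev_comm, show Bf e1 f1 = 1 by decide, sg_one, neg_one_mul, neg_mul, mul_assoc, Ev_Jc,
      ← mul_assoc]
  have hUU : U * U' = 1 := by
    have : (x * x + y * y) • (1 : Matrix (Ix 2) (Ix 2) F) = 1 := by rw [hxy, one_smul]
    rw [hw, hU']
    simp only [add_mul, mul_add, smul_mul_assoc, mul_smul_comm, one_mul, mul_one, hWW, smul_smul, smul_neg]
    linear_combination (norm := module) this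
  have hXU : X * U' = U * X ∧ X * U = U' * X := by
    constructor <;> rw [hw, hU'] <;>
      simp only [add_mul, mul_add, smul_mul_assoc, mul_smul_comm, one_mul, mul_one, hXW] <;> module
  have hrv : r.val = U * U * X := by
    have h' : U * X = r.val * U := by rw [← Units.val_mul, hv, Units.val_mul]
    calc r.val = r.val * (U * U') := by rw [hUU, mul_one]
      _ = U * (X * U') := by rw [← mul_assoc, ← h', mul_assoc]
      _ = _ := by rw [hXU.1, mul_assoc]
  have hrX : (r * Ev e1).val = U * U := by rw [Units.val_mul, hrv, mul_assoc, hXX, mul_one]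
  have hXr : (Ev e1 * r).val = U' * U' := by
    rw [Units.val_mul, hrv, ← mul_assoc, ← mul_assoc, hXU.2, mul_assoc U' X, hXU.2, mul_assoc, mul_assoc, hXX,
      mul_one]
  have hne : W ≠ 0 := by rw [hW, ← Units.val_mul]; exact Units.ne_zero _
  have h2 : (2 : F) ≠ 0 := NeZero.ne 2
  rcases zm_cases ε with rfl | rfl
  · have h := congrArg Units.val hε
    rw [sg_zero, one_mul, hrX, hXr, hw, hU'] at h
    simp only [add_mul, mul_add, smul_mul_assoc, mul_smul_comm, one_mul, mul_one, hWW, smul_smul, smul_neg] at h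
    have h' : (2 * 2 * (x * y)) • W = 0 := by linear_combination (norm := module) -h
    exact Or.inl ((mul_eq_zero.1 ((smul_eq_zero.1 h').resolve_right hne)).resolve_left (mul_ne_zero h2 h2))
  · have h := congrArg Units.val hε
    rw [sg_one, neg_one_mul, Units.val_neg, hrX, hXr, hw, hU'] at h
    simp only [add_mul, mul_add, smul_mul_assoc, mul_smul_comm, one_mul, mul_one, hWW, smul_smul, smul_neg] at h
    have h' : (2 * (x * x - y * y)) • (1 : Matrix (Ix 2) (Ix 2) F) = 0 := by linear_combination (norm := module) h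
    exact Or.inr (sub_eq_zero.1 ((mul_eq_zero.1 ((smul_eq_zero.1 h').resolve_right one_ne_zero)).resolve_left h2))

include hI in
theorem dt_ux_f1 : dt e I (ux f1 : GL (Ix 2) F) = -1 := by
  have hval : (ux f1 : GL (Ix 2) F).val = (2 : F)⁻¹ • 1 + (2 : F)⁻¹ • (Jc : GL (Ix 2) F).val +
      (-(2 : F)⁻¹) • (Ev f1 : GL (Ix 2) F).val +
      (2 : F)⁻¹ • ((Ev f1 : GL (Ix 2) F).val * (Jc : GL (Ix 2) F).val) := by
    show (2 : F)⁻¹ • ((1 + (Jc : GL (Ix 2) F).val) * (1 + (sx f1 : GL (Ix 2) F).val)) = _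
    rw [sx, if_pos (show co f1 f1 = 0 by decide), Units.val_mul]
    have hJJ : (Jc : GL (Ix 2) F).val * ((Ev f1 : GL (Ix 2) F).val * (Jc : GL (Ix 2) F).val) =
        -(Ev f1 : GL (Ix 2) F).val := by
      rw [← Units.val_mul, ← Units.val_mul, ← mul_assoc, ← Ev_Jc, mul_assoc, Jc_sq, mul_neg_one, Units.val_neg]
    simp only [add_mul, mul_add, one_mul, mul_one, hJJ]
    module
  have h2 : (2 : F) ≠ 0 := NeZero.ne 2
  rw [dt, hval, phiM_lin, Matrix.det_diagonal, Fin.prod_univ_four, add_neg_cancel,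
    show (2 : F)⁻¹ + 2⁻¹ = 1 by field_simp; norm_num, show (2 : F)⁻¹ - -2⁻¹ = 1 by field_simp; norm_num,
    sub_self]
  simp
  linear_combination hI

variable (hM : Ovg P M)

include hI hM in
/-- The overgroup normalises when its determinant-one part does. -/
theorem nr_of_one (h1 : ∀ g ∈ M, g ∈ CS → dt e I g = 1 → NR g) : ∀ g ∈ M, g ∈ CS → Nr P g := by
  have hsq : ∀ g ∈ M, g ∈ CS → dt e I g ^ 2 = 1 → NR g := by
    intro g hg hgc hd
    rcases mul_self_eq_one_iff.1 ((sq (dt e I g)).symm.trans hd) with h | h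
    · exact h1 g hg hgc h
    · have hu := good_ux (e := e) (P := P) hI f1
      have h' := h1 (g * ux f1) (mul_mem hg (hM.good hu)) (mul_mem hgc hu.cs)
        (by rw [dt_mul hI hu.cj, h, dt_ux_f1 hI]; ring)
      have := h'.mul (hu.inv hI).nr (mem_CS.1 (mul_mem hgc hu.cs)).1
      rwa [mul_inv_cancel_right] at this
  intro g hg hgc
  set P0 : Subgroup (GL (Ix 2) F) := R0.map (MulAut.conj g).toMonoidHom with hP0
  have hP0M : ∀ r ∈ P0, r ∈ M ∧ r ∈ CS ∧ dt e I r = 1 := by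
    rintro _ ⟨s, hs, rfl⟩
    simp only [MulEquiv.coe_toMonoidHom, MulAut.conj_apply]
    refine ⟨mul_mem (mul_mem hg (hM.r0 hs)) (inv_mem hg), mul_mem (mul_mem hgc (R0_le_CS hs)) (inv_mem hgc), ?_⟩
    have hgi : g⁻¹ ∈ CS := inv_mem hgc
    rw [dt_mul hI (mem_CS.1 hgi).1, dt_mul hI (mem_CS.1 (R0_le_CS hs)).1, dt_R0 hI hs, mul_one,
      ← dt_mul hI (mem_CS.1 hgi).1, mul_inv_cancel, dt_R0 hI (one_mem _)]
  have hinv : ∀ n, Good e I P n → ∀ r ∈ P0, n * r * n⁻¹ ∈ P0 := by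
    rintro n hn _ ⟨s, hs, rfl⟩
    simp only [MulEquiv.coe_toMonoidHom, MulAut.conj_apply]
    set n' := g⁻¹ * n * g with hn'
    have hn'c : n' ∈ CS := mul_mem (mul_mem (inv_mem hgc) hn.cs) hgc
    have hd : dt e I n' ^ 2 = 1 := by
      have hgi : g⁻¹ ∈ CS := inv_mem hgc
      rw [hn', dt_mul hI (mem_CS.1 hgc).1, dt_mul hI hn.cj, mul_pow, mul_pow, hn.d, mul_one, ← mul_pow,
        ← dt_mul hI (mem_CS.1 hgc).1, inv_mul_cancel, dt_R0 hI (one_mem _), one_pow]
    have hNR := hsq n' (mul_mem (mul_mem (inv_mem hg) (hM.good hn)) hg) hn'c hd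
    obtain ⟨a, q, hq, rfl⟩ := hs
    obtain ⟨b, q', hq', hb⟩ := hNR a
    refine ⟨Ev b * (q' * q), ⟨b, _, mul_mem hq' hq, rfl⟩, ?_⟩
    show g * (Ev b * (q' * q)) * g⁻¹ = _
    have hcq : n' * q = q * n' := C4_comm (mem_CS.1 hn'c).1 hq
    have : Ev b * (q' * q) = n' * (Ev a * q) * n'⁻¹ := by
      rw [← mul_assoc n', hb, mul_assoc _ n' q, hcq]; group
    rw [this, hn']
    group
  have hP0s : ∀ r ∈ P0, ∀ s ∈ P0, ∃ ε : ZMod 2, r * s = sg ε * (s * r) := by
    rintro _ ⟨a, ha, rfl⟩ _ ⟨b, hb, rfl⟩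
    obtain ⟨ε, hε⟩ := Rm_sign P (R0_le_Rm P ha) (R0_le_Rm P hb)
    refine ⟨ε, ?_⟩
    simp only [MulEquiv.coe_toMonoidHom, MulAut.conj_apply]
    calc g * a * g⁻¹ * (g * b * g⁻¹) = g * (a * b) * g⁻¹ := by group
      _ = sg ε * (g * (b * a) * g⁻¹) := by rw [hε, sg_move, mul_assoc, mul_assoc]
      _ = _ := by group
  have hP0R : ∀ r ∈ P0, r ∈ R0 := by
    intro r hr
    obtain ⟨hrM, hrc, hrd⟩ := hP0M r hr
    have hNR := h1 r hrM hrc hrd
    choose T hT using hNR
    have hrr : r * r ∈ R0 := by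
      obtain ⟨s, hs, rfl⟩ := hr
      obtain ⟨v, q, hq, rfl⟩ := hs
      simp only [MulEquiv.coe_toMonoidHom, MulAut.conj_apply]
      have e2 : (Ev v * q) * (Ev v * q) = sg (co v v) * (q * q) := by
        calc (Ev v * q) * (Ev v * q) = Ev v * (q * Ev v) * q := by group
          _ = Ev v * Ev v * (q * q) := by rw [← Ev_C4 v hq]; group
          _ = _ := by rw [Ev_sq]
      have hm : sg (co v v) * (q * q) ∈ (C4 : Subgroup (GL (Ix 2) F)) := mul_mem (sg_mem_C4 _) (mul_mem hq hq)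
      rw [show g * (Ev v * q) * g⁻¹ * (g * (Ev v * q) * g⁻¹) = g * ((Ev v * q) * (Ev v * q)) * g⁻¹ by group, e2,
        C4_comm (mem_CS.1 hgc).1 hm, mul_inv_cancel_right]
      exact C4_le_R0 hm
    have hrcj := (mem_CS.1 hrc).1
    have hTT : ∀ v, T (T v) = v := fun v => ((hT v).mul (hT (T v)) hrcj).unique (R0_act P hrr v)
    have hTa : ∀ v w, T (v + w) = T v + T w := fun v w => (hT _).unique ((hT v).add (hT w))
    have hTB : ∀ v w, Bf (T v) (T w) = Bf v w := fun v w => ((hT v).bf (hT w)).symm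
    have conjT : ∀ x v, T (tau x (T v)) = tau (T x) v := fun x v => by
      unfold tau
      rw [show Bf x (T v) = Bf (T x) v by rw [← hTB x (T v), hTT]]
      split_ifs
      · rw [hTT]
      · rw [hTa, hTT]
    have hinvu : ∀ x v, Act (ux x : GL (Ix 2) F)⁻¹ v (tau x v) := fun x v => by
      have hs : (Jc * sx x : GL (Ix 2) F)⁻¹ ∈ R0 := inv_mem (mul_mem (C4_le_R0 Jc_mem) (sx_R0 x))
      have := (act_ux x v).mul (R0_act P hs (tau x v)) (mem_CS.1 (R0_le_CS hs)).1
      rwa [← ux_sq, show ((ux x * ux x : GL (Ix 2) F))⁻¹ * ux x = (ux x)⁻¹ by group] at this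
    have hTid : ∀ x, T x = x := by
      intro x
      by_contra hne
      have hx0 : x ≠ 0 := fun h0 => hne (by rw [h0]; exact (hT 0).unique (act_zero r))
      have hu0 : T x ≠ 0 := fun h0 => hx0 (by rw [← hTT x, h0]; exact (hT 0).unique (act_zero r))
      obtain ⟨y, v, hyv⟩ := tau_noncomm x (T x) hx0 hu0 (Ne.symm hne)
      set c := ux x * r * (ux x)⁻¹ * r with hc
      set d := ux y * c * (ux y)⁻¹ with hd
      have hcP : c ∈ P0 := mul_mem (hinv _ (good_ux hI x) r hr) hr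
      have hdP : d ∈ P0 := hinv _ (good_ux hI y) c hcP
      have ucj : ∀ x, Cj (ux x : GL (Ix 2) F) := fun x => (mem_CS.1 (ux_CS x)).1
      have uicj : ∀ x, Cj (ux x : GL (Ix 2) F)⁻¹ := fun x => (mem_CS.1 (inv_mem (ux_CS x))).1
      have hca : ∀ v, Act c v (tau x (tau (T x) v)) := fun v => by
        rw [← conjT, hc, mul_assoc, mul_assoc]
        exact (((hT v).mul (hinvu x _) (uicj x)).mul (hT _) hrcj).mul (act_ux x _) (ucj x)
      have hccj : Cj c := (mem_CS.1 (hP0M c hcP).2.1).1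
      have hdcj : Cj d := (mem_CS.1 (hP0M d hdP).2.1).1
      have hda : ∀ v, Act d v (tau y (tau x (tau (T x) (tau y v)))) := fun v => by
        rw [hd, mul_assoc]
        exact ((hinvu y v).mul (hca _) hccj).mul (act_ux y _) (ucj y)
      obtain ⟨ε, hε⟩ := hP0s c hcP d hdP
      have A1 := (hda v).mul (hca _) hccj
      have hsg : (sg ε : GL (Ix 2) F) ∈ R0 := C4_le_R0 (sg_mem_C4 ε)
      have A2 := ((hca v).mul (hda _) hdcj).mul (R0_act P hsg _) (mem_CS.1 (R0_le_CS hsg)).1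
      rw [← hε] at A2
      exact hyv (A1.unique A2)
    obtain ⟨n, z, x, y, hn, he, hz⟩ := reduce (e := e) (P := P) hI hrc (fun v => ⟨T v, hT v⟩)
    have hrv : ∀ v, Act r v v := fun v => by have := hT v; rwa [hTid] at this
    obtain ⟨z', x', y', hz', he'⟩ : ∃ (w : V4) (x y : F), Scal (Ev w * r) x y ∧ True := by
      have hcj4 : ∀ v, co v v = 0 → ∃ ε : ZMod 2, r * Ev v = sg ε * (Ev v * r) := fun v _ => by
        obtain ⟨q, hq, hqv⟩ := hrv v
        obtain ⟨ε, hε⟩ := Rm_sign P (R0_le_Rm P (Ev_mem_R0 v)) (R0_le_Rm P (Ev_mem_R0 v))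
        have hq2 : q * q = 1 := by
          have e1' : r * Ev v * r⁻¹ * (r * Ev v * r⁻¹) = r * (Ev v * Ev v) * r⁻¹ := by group
          have e2' : r * Ev v * r⁻¹ = Ev v * q := by rw [hqv, mul_inv_cancel_right]
          rw [e2'] at e1'
          have e3' : Ev v * q * (Ev v * q) = Ev v * Ev v * (q * q) := by
            calc Ev v * q * (Ev v * q) = Ev v * (q * Ev v) * q := by group
              _ = _ := by rw [← Ev_C4 v hq]; group
          rw [e3', C4_comm hrcj (show (Ev v * Ev v : GL (Ix 2) F) ∈ C4 by rw [Ev_sq]; exact sg_mem_C4 _),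
            mul_inv_cancel_right] at e1'
          exact mul_eq_left.1 e1'
        rcases C4_cases hq with rfl | rfl | rfl | rfl
        · exact ⟨0, by rw [hqv, sg_zero, one_mul, mul_one]⟩
        · exact ⟨1, by rw [hqv, sg_one, mul_neg_one, neg_one_mul, neg_mul]⟩
        · exfalso; rw [Jc_sq] at hq2; exact neg_one_ne_one (ι := Ix 2) (NeZero.ne (2 : F)) hq2
        · exfalso; rw [neg_mul_neg, Jc_sq] at hq2; exact neg_one_ne_one (ι := Ix 2) (NeZero.ne (2 : F)) hq2
      obtain ⟨εa, ha⟩ := hcj4 e1 (by decide)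
      obtain ⟨εb, hb⟩ := hcj4 f1 (by decide)
      obtain ⟨εc, hc⟩ := hcj4 e2 (by decide)
      obtain ⟨εd, hd⟩ := hcj4 f2 (by decide)
      set w : V4 := (εb, εd, εa, εc) with hw
      have comm : ∀ (v : V4) (ε : ZMod 2), r * Ev v = sg ε * (Ev v * r) → Bf w v = ε →
          Ev w * r * Ev v = Ev v * (Ev w * r) := by
        intro v ε hv hB
        rw [mul_assoc, hv, sg_move, ← mul_assoc (Ev w), Ev_comm, hB, mul_assoc (sg ε), ← mul_assoc (sg ε), sg_sq,
          one_mul, mul_assoc]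
      obtain ⟨x, y, hz⟩ := scal_of_comm (mul_mem (Ev_CS w) hrc) (comm e1 εa ha (by simp [hw, Bf, co, e1]))
        (comm f1 εb hb (by simp [hw, Bf, co, f1])) (comm e2 εc hc (by simp [hw, Bf, co, e2]))
        (comm f2 εd hd (by simp [hw, Bf, co, f2]))
      exact ⟨w, x, y, hz, trivial⟩
    have hd1 : dt e I (Ev z' * r) = 1 := by rw [dt_mul hI hrcj, dt_R0 hI (Ev_mem_R0 _), hrd, one_mul]
    rw [hz'.dt_eq hI] at hd1
    have := mul_mem (inv_mem (Ev_mem_R0 z')) (hz'.mem_R0 (prod_zero_of_dt hI hz'.2 hd1))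
    rwa [inv_mul_cancel_left] at this
  have hNRg : NR g := fun v => by
    obtain ⟨w, q, hq, hw⟩ := hP0R (g * Ev v * g⁻¹) ⟨_, Ev_mem_R0 v, rfl⟩
    exact ⟨w, q, hq, mul_inv_eq_iff_eq_mul.1 hw⟩
  obtain ⟨n, z, x, y, hn, hng, hz⟩ := reduce (e := e) (P := P) hI hgc hNRg
  have hzM : z ∈ M := hng ▸ mul_mem (hM.good hn) hg
  obtain ⟨w, hwM, hwc, hwd, hwv⟩ := exists_conj (e := e) hI hM hz hzM
  have hgz : g = n⁻¹ * z := by rw [← hng, inv_mul_cancel_left]
  rw [hgz]
  exact nr_mul P (hn.inv hI).nrP (hz.nrP P (cond_of_nr P hz.2 hwv (h1 w hwM hwc hwd)))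

/-- The element attached to an isotropic vector. -/
noncomputable def tj (n : Pt 2 → F) (hn : n ⬝ᵥ n = 0) : GL (Ix 2) F :=
  have h0 : Matrix.vecMulVec n n * Matrix.vecMulVec n n = 0 := by
    rw [Matrix.vecMulVec_mul_vecMulVec, hn, zero_smul, Matrix.vecMulVec_zero]
  have hsq : (Jc : GL (Ix 2) F).val * upM (Matrix.vecMulVec n n) *
      ((Jc : GL (Ix 2) F).val * upM (Matrix.vecMulVec n n)) = 0 := by
    have hc : ComM (upM (Matrix.vecMulVec n n) : Matrix (Ix 2) (Ix 2) F) :=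
      comM_of_entries fun x y => by simp [upM_apply]
    unfold ComM at hc
    rw [mul_assoc, ← mul_assoc (upM _) (Jc : GL (Ix 2) F).val, hc, mul_assoc _ (upM _) (upM _), ← upM_mul, h0]
    ext u v
    simp [Matrix.mul_apply, upM_apply]
  { val := 1 + (Jc : GL (Ix 2) F).val * upM (Matrix.vecMulVec n n)
    inv := 1 - (Jc : GL (Ix 2) F).val * upM (Matrix.vecMulVec n n)
    val_inv := by rw [add_mul, mul_sub, mul_sub, one_mul, one_mul, mul_one, hsq]; abel
    inv_val := by rw [sub_mul, mul_add, mul_add, one_mul, one_mul, mul_one, hsq]; abel }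

theorem tj_val (n : Pt 2 → F) (hn : n ⬝ᵥ n = 0) :
    (tj n hn).val = 1 + (Jc : GL (Ix 2) F).val * upM (Matrix.vecMulVec n n) := rfl

include hI in
theorem tj_CS (n : Pt 2 → F) (hn : n ⬝ᵥ n = 0) : tj n hn ∈ CS ∧ dt e I (tj n hn) = 1 := by
  have hcU : ComM (upM (Matrix.vecMulVec n n) : Matrix (Ix 2) (Ix 2) F) :=
    comM_of_entries fun x y => by simp [upM_apply]
  have hcm : ComM (tj n hn).val := by
    have hc := hcU
    unfold ComM at hc ⊢
    rw [tj_val, add_mul, mul_add, one_mul, mul_one, mul_assoc, hc]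
  refine ⟨mem_CS_of (Units.ext hcm) ?_, ?_⟩
  · have ht : (tj n hn).valᵀ = (tj n hn)⁻¹.val := by
      show _ = 1 - (Jc : GL (Ix 2) F).val * upM (Matrix.vecMulVec n n)
      have hs : (upM (Matrix.vecMulVec n n) : Matrix (Ix 2) (Ix 2) F)ᵀ = upM (Matrix.vecMulVec n n) := by
        ext u v
        by_cases h : u.2 = v.2
        · simp [upM_apply, h, Matrix.vecMulVec_apply, mul_comm]
        · simp [upM_apply, h, Ne.symm h]
      rw [tj_val, Matrix.transpose_add, Matrix.transpose_one, Matrix.transpose_mul, hs, Jc_transpose, mul_neg, hcU]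
      rw [sub_eq_add_neg]
    rw [ht, Units.inv_mul]
  · have h : phiM e (I : E) (tj n hn).val = 1 + Matrix.replicateCol Unit (fun k => (I : E) * e (n (pk k))) *
        Matrix.replicateRow Unit (fun k => e (n (pk k))) := by
      ext k l
      rw [phiM_apply, tj_val, Matrix.add_apply, Matrix.add_apply, Matrix.add_apply, (Jc_mul_apply _ _ (pk k)).1,
        (Jc_mul_apply _ _ (pk k)).1]
      have hkl : (pk k = pk l) ↔ k = l := pk_bij.1.eq_iff
      by_cases hk : k = l <;> simp [upM_apply, Matrix.one_apply, Matrix.mul_apply, Matrix.vecMulVec_apply, hkl, hk]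
        <;> ring
    rw [dt, h, Matrix.det_one_add_replicateCol_mul_replicateRow]
    have h0 : ∑ k : Fin 4, n (pk k) * n (pk k) = 0 := by
      rw [← sum_pk (fun x => n x * n x)]; exact hn
    have h0' := congrArg e h0
    rw [map_sum, map_zero] at h0'
    simp only [map_mul] at h0'
    simp only [dotProduct, ← mul_assoc, mul_comm _ (I : E)]
    rw [show ∑ k, (I : E) * e (n (pk k)) * e (n (pk k)) = I * ∑ k, e (n (pk k)) * e (n (pk k)) by
      rw [Finset.mul_sum]; simp only [mul_assoc], h0', mul_zero, add_zero]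

include hI hM in
/-- The dichotomy. -/
theorem cplx_or [Finite E] {G : Subgroup (GL (Fin 4) E)} (hmax : Cfsg.Geo.IsMaximalIn G
      (Cfsg.Geo.subgroupNormalizer (PauliFour.std I) ⊓ G))
    (hsl : G ≤ Cfsg.Geo.specialLinear (Fin 4) E)
    (hin : ∀ g : ↥(CS : Subgroup (GL (Ix 2) F)), dt e I (g : GL (Ix 2) F) = 1 → phi e hI g ∈ G)
    (hpre : ∀ Z ∈ G, ∃ g : ↥(CS : Subgroup (GL (Ix 2) F)), phi e hI g = Z) :
    (∀ g ∈ M, g ∈ CS → Nr P g) ∨ ∀ (n : Pt 2 → F) (hn : n ⬝ᵥ n = 0), tj n hn ∈ M := by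
  have hdet : ∀ g : ↥(CS : Subgroup (GL (Ix 2) F)),
      phi e hI g ∈ Cfsg.Geo.specialLinear (Fin 4) E ↔ dt e I (g : GL (Ix 2) F) = 1 := fun g => by
    rw [Cfsg.Geo.specialLinear, MonoidHom.mem_ker, Units.ext_iff, Matrix.GeneralLinearGroup.val_det_apply,
      Units.val_one, phi_val, dt]
  set L : Subgroup (GL (Fin 4) E) := (M.subgroupOf CS).map (phi e hI) ⊓ Cfsg.Geo.specialLinear (Fin 4) E with hL
  have hLG : L ≤ G := by
    rintro _ ⟨⟨g, -, rfl⟩, hs⟩
    exact hin g ((hdet g).1 hs)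
  have hNL : Cfsg.Geo.subgroupNormalizer (PauliFour.std I) ⊓ G ≤ L := by
    rintro Z ⟨hZN, hZG⟩
    obtain ⟨g, rfl⟩ := hpre Z hZG
    refine ⟨⟨g, ?_, rfl⟩, hsl hZG⟩
    obtain ⟨n, z, x, y, hn, hng, hz⟩ := reduce (e := e) (P := P) hI g.2 ((nr_iff hI g).2 hZN)
    have hd : ((e x + I * e y) ^ 4) ^ 2 = 1 := by
      rw [← hz.dt_eq hI, ← hng, dt_mul hI (mem_CS.1 g.2).1, mul_pow, hn.d, (hdet g).1 (hsl hZG)]
      ring
    have hzM : z ∈ M := hM.nr z (mem_CS.1 hz.cs).2 (hz.nrP P (cond_of_dt hI hz.2 hd))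
    show (g : GL (Ix 2) F) ∈ M
    rw [show (g : GL (Ix 2) F) = n⁻¹ * z by rw [← hng, inv_mul_cancel_left]]
    exact mul_mem (inv_mem (hM.good hn)) hzM
  rcases hmax.2 L hNL hLG with h | h
  · refine Or.inl (nr_of_one (e := e) hI hM fun g hg hgc hd => ?_)
    refine (nr_iff (e := e) hI ⟨g, hgc⟩).2 (h.le ?_).1
    exact ⟨⟨⟨g, hgc⟩, hg, rfl⟩, (hdet ⟨g, hgc⟩).2 hd⟩
  · refine Or.inr fun n hn => ?_
    obtain ⟨hc, hd⟩ := tj_CS (e := e) hI n hn
    obtain ⟨⟨g, hg, he⟩, -⟩ := h.ge (hin ⟨_, hc⟩ hd)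
    rw [show tj n hn = (g : GL (Ix 2) F) from congrArg Subtype.val (phi_inj e (two_neE e) hI he).symm]
    exact hg

end Cfsg.Agent.C6Sp8Cx
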