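import Cfsg.Agent.Lib.C6Sp8Cplx75Base
import Cfsg.Agent.Lib.C6SL75

/-!
The centraliser of the complex structure as a matrix group of dimension four over a field with a square root of
minus one.
-/

set_option autoImplicit false
set_option linter.unusedSectionVars false
set_option linter.unusedSimpArgs false
set_option maxHeartbeats 1000000

namespace Cfsg.Agent.C6Sp8Cx

open Matrix Cfsg.Agent.C6Plus10 Cfsg.Agent.C6Minus10
open scoped MatrixGroups

variable {F : Type*} [Field F] {E : Type*} [Field E]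

/-! ### The centraliser -/

/-- Commuting with the complex structure. -/
def Cj (g : GL (Ix 2) F) : Prop := g * Jc = Jc * g

/-- The centraliser of the complex structure in the symplectic group. -/
def CS : Subgroup (GL (Ix 2) F) := Subgroup.centralizer {Jc} ⊓ spM 2 F

theorem mem_CS {g : GL (Ix 2) F} : g ∈ CS ↔ Cj g ∧ g ∈ spM 2 F := by
  rw [CS, Subgroup.mem_inf, Subgroup.mem_centralizer_singleton_iff]
  exact and_congr ⟨fun h => h, fun h => h⟩ Iff.rfl

/-- A matrix commuting with the complex structure. -/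
def ComM (N : Matrix (Ix 2) (Ix 2) F) : Prop := N * (Jc : GL (Ix 2) F).val = (Jc : GL (Ix 2) F).val * N

theorem comM_of {g : GL (Ix 2) F} (h : Cj g) : ComM g.val := by
  rw [ComM, ← Units.val_mul, h, Units.val_mul]

theorem Jc_apply (x y : Pt 2) (i l : Fin 2) : (Jc : GL (Ix 2) F).val (x, i) (y, l) =
    if x = y then (if i = 0 then (if l = 0 then 0 else 1) else (if l = 0 then -1 else 0)) else 0 := by
  rw [Jc, cst_val, blkM_apply]
  fin_cases i <;> fin_cases l <;> simp [jq]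

theorem mul_Jc_apply (N : Matrix (Ix 2) (Ix 2) F) (u : Ix 2) (y : Pt 2) :
    (N * (Jc : GL (Ix 2) F).val) u (y, 0) = -N u (y, 1) ∧ (N * (Jc : GL (Ix 2) F).val) u (y, 1) = N u (y, 0) := by
  constructor <;> simp [Matrix.mul_apply, Fintype.sum_prod_type, Fin.sum_univ_two, Jc_apply]

theorem Jc_mul_apply (N : Matrix (Ix 2) (Ix 2) F) (v : Ix 2) (x : Pt 2) :
    ((Jc : GL (Ix 2) F).val * N) (x, 0) v = N (x, 1) v ∧ ((Jc : GL (Ix 2) F).val * N) (x, 1) v = -N (x, 0) v := by
  constructor <;> simp [Matrix.mul_apply, Fintype.sum_prod_type, Fin.sum_univ_two, Jc_apply]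

theorem ComM.entries {N : Matrix (Ix 2) (Ix 2) F} (h : ComM N) (x y : Pt 2) :
    N (x, 1) (y, 0) = -N (x, 0) (y, 1) ∧ N (x, 1) (y, 1) = N (x, 0) (y, 0) := by
  have h0 := congrFun (congrFun h (x, 0)) (y, 0)
  have h1 := congrFun (congrFun h (x, 0)) (y, 1)
  rw [(mul_Jc_apply N _ y).1, (Jc_mul_apply N _ x).1] at h0
  rw [(mul_Jc_apply N _ y).2, (Jc_mul_apply N _ x).1] at h1
  exact ⟨h0.symm, h1.symm⟩

theorem comM_of_entries {N : Matrix (Ix 2) (Ix 2) F}
    (h : ∀ x y, N (x, 1) (y, 0) = -N (x, 0) (y, 1) ∧ N (x, 1) (y, 1) = N (x, 0) (y, 0)) : ComM N := by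
  ext ⟨x, i⟩ ⟨y, l⟩
  obtain ⟨h1, h2⟩ := h x y
  fin_cases i <;> fin_cases l <;>
    simp [(mul_Jc_apply N _ y).1, (mul_Jc_apply N _ y).2, (Jc_mul_apply N _ x).1, (Jc_mul_apply N _ x).2, h1, h2]

theorem ComM.transpose {N : Matrix (Ix 2) (Ix 2) F} (h : ComM N) : ComM Nᵀ := comM_of_entries fun x y => by
  obtain ⟨h1, h2⟩ := h.entries y x
  simp [h1, h2]

theorem ComM.mul {M N : Matrix (Ix 2) (Ix 2) F} (hM : ComM M) (hN : ComM N) : ComM (M * N) := by
  unfold ComM at *
  rw [mul_assoc, hN, ← mul_assoc, hM, mul_assoc]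

theorem comM_one : ComM (1 : Matrix (Ix 2) (Ix 2) F) := by rw [ComM, one_mul, mul_one]

theorem ComM.ext {M N : Matrix (Ix 2) (Ix 2) F} (hM : ComM M) (hN : ComM N)
    (h : ∀ x y i, M (x, 0) (y, i) = N (x, 0) (y, i)) : M = N := by
  ext ⟨x, i⟩ ⟨y, l⟩
  fin_cases i
  · exact h x y l
  · fin_cases l
    · show M (x, 1) (y, 0) = N (x, 1) (y, 0)
      rw [(hM.entries x y).1, (hN.entries x y).1, h]
    · show M (x, 1) (y, 1) = N (x, 1) (y, 1)
      rw [(hM.entries x y).2, (hN.entries x y).2, h]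

theorem sform_eq (u v : Ix 2 → F) : sform u v = u ⬝ᵥ ((Jc : GL (Ix 2) F).val *ᵥ v) := by
  simp [sform, dotProduct, Matrix.mulVec, Fintype.sum_prod_type, Fin.sum_univ_two, Jc_apply]
  rw [← Finset.sum_sub_distrib]
  exact Finset.sum_congr rfl fun x _ => by ring

theorem mem_spM_iff {g : GL (Ix 2) F} :
    g ∈ spM 2 F ↔ g.valᵀ * (Jc : GL (Ix 2) F).val * g.val = (Jc : GL (Ix 2) F).val := by
  have e : ∀ u v, sform (g.val *ᵥ u) (g.val *ᵥ v) = u ⬝ᵥ ((g.valᵀ * (Jc : GL (Ix 2) F).val * g.val) *ᵥ v) := by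
    intro u v
    rw [sform_eq, ← Matrix.mulVec_mulVec, ← Matrix.mulVec_mulVec, Matrix.dotProduct_mulVec u, Matrix.vecMul_transpose]
  constructor
  · intro hg
    refine Matrix.ext fun a b => ?_
    have h := hg (Pi.single a 1) (Pi.single b 1)
    rw [e, sform_eq, Matrix.mulVec_single_one, Matrix.mulVec_single_one, single_one_dotProduct,
      single_one_dotProduct] at h
    exact h
  · intro hg u v
    rw [e, hg, sform_eq]

theorem transpose_mul_self {g : GL (Ix 2) F} (hg : g ∈ CS) : g.valᵀ * g.val = 1 := by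
  obtain ⟨hc, hs⟩ := mem_CS.1 hg
  have h := mem_spM_iff.1 hs
  rw [mul_assoc, ← comM_of hc, ← mul_assoc] at h
  calc g.valᵀ * g.val = g.valᵀ * g.val * ((Jc : GL (Ix 2) F).val * (Jc⁻¹ : GL (Ix 2) F).val) := by
        rw [Units.mul_inv, mul_one]
    _ = _ := by rw [← mul_assoc, h, Units.mul_inv]

theorem mem_CS_of {g : GL (Ix 2) F} (hc : Cj g) (ht : g.valᵀ * g.val = 1) : g ∈ CS := by
  refine mem_CS.2 ⟨hc, mem_spM_iff.2 ?_⟩
  rw [mul_assoc, ← comM_of hc, ← mul_assoc, ht, one_mul]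

/-! ### The complexification -/

/-- The points in order. -/
def pk : Fin 4 → Pt 2 := ![![0, 0], ![0, 1], ![1, 0], ![1, 1]]

theorem pk_bij : Function.Bijective pk := by decide +kernel

/-- The points in order, as a bijection. -/
noncomputable def pkE : Fin 4 ≃ Pt 2 := Equiv.ofBijective pk pk_bij

theorem pkE_apply (k : Fin 4) : pkE k = pk k := rfl

theorem sum_pk {M : Type*} [AddCommMonoid M] (f : Pt 2 → M) : ∑ x, f x = ∑ k, f (pk k) :=
  (Equiv.sum_comp pkE f).symm

variable (e : F →+* E)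

/-- The complexification of a matrix. -/
def phiM (c : E) (M : Matrix (Ix 2) (Ix 2) F) : Matrix (Fin 4) (Fin 4) E :=
  Matrix.of fun k l => e (M (pk k, 0) (pk l, 0)) + c * e (M (pk k, 0) (pk l, 1))

theorem phiM_apply (c : E) (M : Matrix (Ix 2) (Ix 2) F) (k l : Fin 4) :
    phiM e c M k l = e (M (pk k, 0) (pk l, 0)) + c * e (M (pk k, 0) (pk l, 1)) := rfl

theorem phiM_one (c : E) : phiM e c (1 : Matrix (Ix 2) (Ix 2) F) = 1 := by
  ext k l
  rw [phiM_apply, Matrix.one_apply, Matrix.one_apply, Matrix.one_apply]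
  by_cases h : k = l
  · subst h; simp
  · have : pk k ≠ pk l := fun h' => h (pk_bij.1 h')
    simp [h, this]

theorem phiM_mul {c : E} (hc : c * c = -1) (M : Matrix (Ix 2) (Ix 2) F) {N : Matrix (Ix 2) (Ix 2) F} (hN : ComM N) :
    phiM e c (M * N) = phiM e c M * phiM e c N := by
  ext k l
  rw [phiM_apply, Matrix.mul_apply, Matrix.mul_apply, Matrix.mul_apply, Fintype.sum_prod_type, Fintype.sum_prod_type]
  simp only [Fin.sum_univ_two, sum_pk (M := F), map_sum, map_add, map_mul, Finset.mul_sum, ← Finset.sum_add_distrib]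
  refine Finset.sum_congr rfl fun m _ => ?_
  rw [(hN.entries (pk m) (pk l)).1, (hN.entries (pk m) (pk l)).2, map_neg, phiM_apply, phiM_apply]
  linear_combination -(e (M (pk k, 0) (pk m, 1)) * e (N (pk m, 0) (pk l, 1))) * hc

theorem phiM_transpose (c : E) {N : Matrix (Ix 2) (Ix 2) F} (hN : ComM N) :
    phiM e c Nᵀ = (phiM e (-c) N)ᵀ := by
  ext k l
  rw [Matrix.transpose_apply, phiM_apply, phiM_apply, Matrix.transpose_apply, Matrix.transpose_apply,
    (hN.entries (pk l) (pk k)).1, map_neg]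
  ring

theorem phiM_ext {c : E} (h2 : (2 : E) ≠ 0) (hc : c * c = -1) {M N : Matrix (Ix 2) (Ix 2) F} (hM : ComM M)
    (hN : ComM N) (h : phiM e c M = phiM e c N) (h' : phiM e (-c) M = phiM e (-c) N) : M = N := by
  have hc0 : c ≠ 0 := fun h0 => by rw [h0, mul_zero] at hc; exact neg_ne_zero.2 one_ne_zero hc.symm
  refine hM.ext hN fun x y i => ?_
  obtain ⟨k, rfl⟩ := pk_bij.2 x
  obtain ⟨l, rfl⟩ := pk_bij.2 y
  have a := congrFun (congrFun h k) l
  have b := congrFun (congrFun h' k) l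
  simp only [phiM_apply] at a b
  apply e.injective
  fin_cases i
  · exact mul_left_cancel₀ h2 (by simp only [Fin.zero_eta]; linear_combination a + b)
  · exact mul_left_cancel₀ (mul_ne_zero h2 hc0) (by simp only [Fin.mk_one]; linear_combination a - b)

/-- The inverse of an element of the centraliser. -/
theorem phiM_inv {c : E} (hc : c * c = -1) {g : GL (Ix 2) F} (hg : g ∈ CS) :
    (phiM e (-c) g.val)ᵀ * phiM e c g.val = 1 := by
  rw [← phiM_transpose e c (comM_of (mem_CS.1 hg).1), ← phiM_mul e hc _ (comM_of (mem_CS.1 hg).1),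
    transpose_mul_self hg, phiM_one]

/-- The complexification as a homomorphism. -/
noncomputable def phi {c : E} (hc : c * c = -1) : ↥(CS : Subgroup (GL (Ix 2) F)) →* GL (Fin 4) E :=
  MonoidHom.toHomUnits
    { toFun := fun g => phiM e c (g : GL (Ix 2) F).val
      map_one' := phiM_one e c
      map_mul' := fun _ h => phiM_mul e hc _ (comM_of (mem_CS.1 h.2).1) }

theorem phi_val {c : E} (hc : c * c = -1) (g : ↥(CS : Subgroup (GL (Ix 2) F))) :
    (phi e hc g).val = phiM e c (g : GL (Ix 2) F).val := rfl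

theorem phi_inv_val {c : E} (hc : c * c = -1) (g : ↥(CS : Subgroup (GL (Ix 2) F))) :
    ((phi e hc g)⁻¹ : GL (Fin 4) E).val = (phiM e (-c) (g : GL (Ix 2) F).val)ᵀ :=
  Units.inv_eq_of_mul_eq_one_left (by rw [phi_val]; exact phiM_inv e hc g.2)

theorem phi_inj {c : E} (h2 : (2 : E) ≠ 0) (hc : c * c = -1) : Function.Injective (phi (F := F) e hc) := by
  intro g h hgh
  have h1 := congrArg Units.val hgh
  have h3 := congrArg (fun a : GL (Fin 4) E => (a⁻¹ : GL (Fin 4) E).valᵀ) hgh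
  simp only [phi_inv_val, Matrix.transpose_transpose] at h3
  exact Subtype.ext (Units.ext (phiM_ext e h2 hc (comM_of (mem_CS.1 g.2).1) (comM_of (mem_CS.1 h.2).1) h1 h3))

/-- Matrices with prescribed complexification. -/
theorem exists_preimage {c : E} (h2 : (2 : E) ≠ 0) (hc : c * c = -1) (Z : GL (Fin 4) E)
    (hA : ∀ k l, (Z.val k l + (Z⁻¹ : GL (Fin 4) E).val l k) / 2 ∈ e.range)
    (hB : ∀ k l, (Z.val k l - (Z⁻¹ : GL (Fin 4) E).val l k) / (2 * c) ∈ e.range) :
    ∃ g : ↥(CS : Subgroup (GL (Ix 2) F)), phi e hc g = Z := by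
  have hc0 : c ≠ 0 := fun h0 => by rw [h0, mul_zero] at hc; exact neg_ne_zero.2 one_ne_zero hc.symm
  choose a ha using hA
  choose b hb using hB
  set A : Pt 2 → Pt 2 → F := fun x y => a (pkE.symm x) (pkE.symm y)
  set B : Pt 2 → Pt 2 → F := fun x y => b (pkE.symm x) (pkE.symm y)
  set N : Matrix (Ix 2) (Ix 2) F := Matrix.of fun u v =>
    if u.2 = 0 then (if v.2 = 0 then A u.1 v.1 else B u.1 v.1) else (if v.2 = 0 then -B u.1 v.1 else A u.1 v.1)
    with hN
  have hNc : ComM N := comM_of_entries fun x y => by simp [hN]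
  have hk : ∀ k, pkE.symm (pk k) = k := fun k => pkE.symm_apply_apply k
  have h1 : phiM e c N = Z.val := by
    ext k l
    simp [phiM_apply, hN, A, B, hk, ha, hb]
    field_simp
    ring
  have h2' : phiM e (-c) N = ((Z⁻¹ : GL (Fin 4) E).val)ᵀ := by
    ext k l
    simp [phiM_apply, hN, A, B, hk, ha, hb]
    field_simp
    ring
  have horth : Nᵀ * N = 1 := by
    refine phiM_ext e h2 hc (hNc.transpose.mul hNc) comM_one ?_ ?_
    · rw [phiM_mul e hc _ hNc, phiM_transpose e c hNc, h2', Matrix.transpose_transpose, h1, phiM_one, Units.inv_mul]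
    · rw [phiM_mul e (by rw [neg_mul_neg, hc]) _ hNc, phiM_transpose e _ hNc, neg_neg, h1, h2', phiM_one,
        ← Matrix.transpose_mul, Units.inv_mul, Matrix.transpose_one]
  let g : GL (Ix 2) F := ⟨N, Nᵀ, mul_eq_one_comm.1 horth, horth⟩
  have hg : Cj g := Units.ext hNc
  exact ⟨⟨g, mem_CS_of hg horth⟩, Units.ext h1⟩

/-! ### The images of the generators -/

theorem Ev_apply (v : V4) (x y : Pt 2) (i l : Fin 2) : (Ev v : GL (Ix 2) F).val (x, i) (y, l) =
    if i = l then (if x = y + va v then sgn F (ip (vb v) y) else 0) else 0 := by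
  rw [Ev, up_val, upM_apply, pau_eq, mon_apply]
  rfl

theorem mul_Jc_zero (N : Matrix (Ix 2) (Ix 2) F) (u : Ix 2) (y : Pt 2) :
    (N * (Jc : GL (Ix 2) F).val) u (y, 0) = -N u (y, 1) := (mul_Jc_apply N u y).1

theorem mul_Jc_one (N : Matrix (Ix 2) (Ix 2) F) (u : Ix 2) (y : Pt 2) :
    (N * (Jc : GL (Ix 2) F).val) u (y, 1) = N u (y, 0) := (mul_Jc_apply N u y).2

theorem phiM_Ev {c : E} : phiM e c (Ev e1 : GL (Ix 2) F).val = (PauliFour.pB : GL (Fin 4) E).val ∧
    phiM e c (Ev e2 : GL (Ix 2) F).val = (PauliFour.pD : GL (Fin 4) E).val ∧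
    phiM e c (Ev f1 : GL (Ix 2) F).val = (PauliFour.pA : GL (Fin 4) E).val ∧
    phiM e c (Ev f2 : GL (Ix 2) F).val = (PauliFour.pC : GL (Fin 4) E).val := by
  refine ⟨?_, ?_, ?_, ?_⟩ <;> ext k l <;> fin_cases k <;> fin_cases l <;>
    simp [phiM_apply, pk, Ev_apply, show (1 : ZMod 2) + 1 = 0 by decide, sgn, va, vb, ip, e1, e2, f1, f2,
      PauliFour.pA, PauliFour.pB, PauliFour.pC, PauliFour.pD, PauliFour.dg, Matrix.mul_apply, Matrix.diagonal,
      Fin.sum_univ_two, dotProduct, funext_iff, Fin.forall_fin_two]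

theorem phiM_lin (c : E) (x y z w : F) :
    phiM e c (x • 1 + y • (Jc : GL (Ix 2) F).val + z • (Ev f1 : GL (Ix 2) F).val +
        w • ((Ev f1 : GL (Ix 2) F).val * (Jc : GL (Ix 2) F).val)) =
      Matrix.diagonal ![e (x + z) + c * e (y + w), e (x + z) + c * e (y + w),
        e (x - z) + c * e (y - w), e (x - z) + c * e (y - w)] := by
  ext k l
  fin_cases k <;> fin_cases l <;>
    simp [phiM_apply, pk, show (1 : ZMod 2) + 1 = 0 by decide, mul_Jc_zero, mul_Jc_one, Jc_apply, Ev_apply, sgn, va, vb, ip, f1, Matrix.diagonal,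
      Matrix.one_apply,
      Fin.sum_univ_two, dotProduct, funext_iff, Fin.forall_fin_two, map_add, map_sub, sub_eq_add_neg]

theorem phiM_Jc {c : E} : phiM e c (Jc : GL (Ix 2) F).val = c • (1 : Matrix (Fin 4) (Fin 4) E) := by
  have h := phiM_lin (F := F) e c 0 1 0 0
  simp only [zero_smul, one_smul, zero_add, add_zero, map_zero, sub_zero, map_one, mul_one] at h
  rw [h, Matrix.smul_one_eq_diagonal]
  exact congrArg Matrix.diagonal (funext fun i => by fin_cases i <;> rfl)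

end Cfsg.Agent.C6Sp8Cx
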