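import Cfsg.Agent.Lib.C6Sp8Cplx75Phi

/-!
An overgroup of the normaliser meets the centraliser of the complex structure either inside the normaliser or in
everything of determinant one.
-/

set_option autoImplicit false
set_option linter.unusedSectionVars false
set_option linter.unusedSimpArgs false
set_option maxHeartbeats 1000000

namespace Cfsg.Agent.C6Sp8Cx

open Matrix Cfsg.Agent.C6Plus10 Cfsg.Agent.C6Minus10
open scoped MatrixGroups

variable {F : Type*} [Field F] {E : Type*} [Field E] [NeZero (2 : F)] (e : F →+* E)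

include e in
theorem two_neE : (2 : E) ≠ 0 := by
  rw [← map_ofNat e 2]
  exact (map_ne_zero e).2 (NeZero.ne 2)

/-! ### The group of order 64 -/

/-- The group of order 64. -/
def R0 : Subgroup (GL (Ix 2) F) where
  carrier := {g | ∃ v, ∃ q ∈ C4, g = Ev v * q}
  one_mem' := ⟨0, 1, one_mem _, by simp [Ev_zero]⟩
  mul_mem' := by
    rintro _ _ ⟨v, q, hq, rfl⟩ ⟨w, q', hq', rfl⟩
    refine ⟨v + w, sg (co v w) * (q * q'), mul_mem (sg_mem_C4 _) (mul_mem hq hq'), ?_⟩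
    calc Ev v * q * (Ev w * q') = Ev v * (q * Ev w) * q' := by group
      _ = Ev v * Ev w * (q * q') := by rw [← Ev_C4 w hq]; group
      _ = _ := by rw [Ev_mul, sg_move]; group
  inv_mem' := by
    rintro _ ⟨v, q, hq, rfl⟩
    refine ⟨v, sg (co v v) * q⁻¹, mul_mem (sg_mem_C4 _) (inv_mem hq), inv_eq_of_mul_eq_one_right ?_⟩
    calc Ev v * q * (Ev v * (sg (co v v) * q⁻¹)) = Ev v * (q * Ev v) * (sg (co v v) * q⁻¹) := by group
      _ = Ev v * Ev v * (q * (sg (co v v) * q⁻¹)) := by rw [← Ev_C4 v hq]; group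
      _ = 1 := by rw [Ev_sq, sg_move, ← mul_assoc, sg_sq, one_mul, mul_inv_cancel]

theorem Ev_mem_R0 (v : V4) : (Ev v : GL (Ix 2) F) ∈ R0 := ⟨v, 1, one_mem _, (mul_one _).symm⟩

theorem C4_le_R0 {q : GL (Ix 2) F} (hq : q ∈ C4) : q ∈ R0 := ⟨0, q, hq, by rw [Ev_zero, one_mul]⟩

theorem Ev_CS (v : V4) : (Ev v : GL (Ix 2) F) ∈ CS := mem_CS.2 ⟨Ev_Jc v, up_pau_mem_spM v⟩

theorem Jc_CS : (Jc : GL (Ix 2) F) ∈ CS := mem_CS.2 ⟨rfl, Jc_mem_spM⟩

theorem R0_le_CS : (R0 : Subgroup (GL (Ix 2) F)) ≤ CS := by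
  rintro _ ⟨v, q, hq, rfl⟩
  exact mul_mem (Ev_CS v) ((Subgroup.zpowers_le.2 Jc_CS) hq)

theorem R0_le_Rm (P : Par F) : (R0 : Subgroup (GL (Ix 2) F)) ≤ Rm P := by
  rintro _ ⟨v, q, hq, rfl⟩
  exact mul_mem (Ev_mem P v) (C4_le_Rm P hq)

theorem R0_act (P : Par F) {r : GL (Ix 2) F} (hr : r ∈ R0) (v : V4) : Act r v v := by
  obtain ⟨ε, hε⟩ := Rm_sign P (R0_le_Rm P hr) (Ev_mem P v)
  exact ⟨sg ε, sg_mem_C4 ε, by rw [hε, mul_assoc, sg_move]⟩

variable {e} {I : Eˣ} (hI : (I : E) * I = -1)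

theorem map_R0 : ((R0 : Subgroup (GL (Ix 2) F)).subgroupOf CS).map (phi e hI) = PauliFour.std I := by
  have hJ : phi e hI ⟨Jc, Jc_CS⟩ = PauliFour.sc I := Units.ext (by rw [phi_val, phiM_Jc, PauliFour.sc_val])
  have hB : phi e hI ⟨Ev e1, Ev_CS _⟩ = PauliFour.pB := Units.ext (phiM_Ev e).1
  have hD : phi e hI ⟨Ev e2, Ev_CS _⟩ = PauliFour.pD := Units.ext (phiM_Ev e).2.1
  have hA : phi e hI ⟨Ev f1, Ev_CS _⟩ = PauliFour.pA := Units.ext (phiM_Ev e).2.2.1
  have hC : phi e hI ⟨Ev f2, Ev_CS _⟩ = PauliFour.pC := Units.ext (phiM_Ev e).2.2.2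
  refine le_antisymm ?_ ?_
  · set T : Subgroup (GL (Ix 2) F) := ((PauliFour.std I).comap (phi e hI)).map CS.subtype with hT
    have mem : ∀ {g : GL (Ix 2) F} (h : g ∈ CS) {s : GL (Fin 4) E}, phi e hI ⟨g, h⟩ = s → s ∈ PauliFour.std I →
        g ∈ T := fun {g} h {s} hs hm => Subgroup.mem_map.2 ⟨⟨g, h⟩, by rw [Subgroup.mem_comap, hs]; exact hm, rfl⟩
    have tJ : (Jc : GL (Ix 2) F) ∈ T := mem _ hJ (PauliFour.sI_mem I)
    have tC : ∀ q ∈ (C4 : Subgroup (GL (Ix 2) F)), q ∈ T := fun q hq => (Subgroup.zpowers_le.2 tJ) hq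
    have t0 : ∀ (b : ZMod 2) {u : V4}, (Ev u : GL (Ix 2) F) ∈ T → (Ev (if b = 0 then 0 else u) : GL (Ix 2) F) ∈ T := by
      intro b u hu
      split_ifs
      · rw [Ev_zero]; exact one_mem _
      · exact hu
    have tadd : ∀ {u w : V4}, (Ev u : GL (Ix 2) F) ∈ T → (Ev w : GL (Ix 2) F) ∈ T →
        (Ev (u + w) : GL (Ix 2) F) ∈ T := fun {u w} hu hw => by
      have h := mul_mem (tC _ (sg_mem_C4 (co u w))) (mul_mem hu hw)
      rwa [Ev_mul, ← mul_assoc, sg_sq, one_mul] at h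
    have tE : ∀ v : V4, (Ev v : GL (Ix 2) F) ∈ T := fun v => by
      rw [v4_decomp v]
      exact tadd (tadd (tadd (t0 _ (mem _ hB (PauliFour.pB_mem I))) (t0 _ (mem _ hD (PauliFour.pD_mem I))))
        (t0 _ (mem _ hA (PauliFour.pA_mem I)))) (t0 _ (mem _ hC (PauliFour.pC_mem I)))
    rintro _ ⟨g, hg, rfl⟩
    obtain ⟨v, q, hq, hgv⟩ := hg
    obtain ⟨g', hg', he⟩ := Subgroup.mem_map.1 (mul_mem (tE v) (tC q hq))
    obtain rfl : g' = g := Subtype.ext (he.trans hgv.symm)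
    exact hg'
  · rw [PauliFour.std, Subgroup.closure_le]
    rintro s (rfl | rfl | rfl | rfl | rfl)
    exacts [⟨_, C4_le_R0 Jc_mem, hJ⟩, ⟨_, Ev_mem_R0 f1, hA⟩, ⟨_, Ev_mem_R0 e1, hB⟩, ⟨_, Ev_mem_R0 f2, hC⟩,
      ⟨_, Ev_mem_R0 e2, hD⟩]

theorem phi_mem_std {r : GL (Ix 2) F} (hr : r ∈ R0) : phi e hI ⟨r, R0_le_CS hr⟩ ∈ PauliFour.std I := by
  rw [← map_R0 (e := e) hI]
  exact ⟨_, hr, rfl⟩

theorem nr_iff [Finite E] (g : ↥(CS : Subgroup (GL (Ix 2) F))) :
    NR (g : GL (Ix 2) F) ↔ phi e hI g ∈ Cfsg.Geo.subgroupNormalizer (PauliFour.std I) := by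
  constructor
  · intro hg
    have key : ∀ v, ∃ a ∈ PauliFour.std I, phi e hI g * phi e hI ⟨Ev v, Ev_CS v⟩ = a * phi e hI g := by
      intro v
      obtain ⟨w, q, hq, h⟩ := hg v
      have hr : Ev w * q ∈ R0 := ⟨w, q, hq, rfl⟩
      refine ⟨_, phi_mem_std (e := e) hI hr, ?_⟩
      rw [← map_mul, ← map_mul]
      exact congrArg _ (Subtype.ext h)
    obtain ⟨a, ha, ea⟩ := key f1
    obtain ⟨b, hb, eb⟩ := key e1
    obtain ⟨c, hc, ec⟩ := key f2
    obtain ⟨d, hd, ed⟩ := key e2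
    rw [show phi e hI ⟨Ev f1, Ev_CS _⟩ = PauliFour.pA from Units.ext (phiM_Ev e).2.2.1] at ea
    rw [show phi e hI ⟨Ev e1, Ev_CS _⟩ = PauliFour.pB from Units.ext (phiM_Ev e).1] at eb
    rw [show phi e hI ⟨Ev f2, Ev_CS _⟩ = PauliFour.pC from Units.ext (phiM_Ev e).2.2.2] at ec
    rw [show phi e hI ⟨Ev e2, Ev_CS _⟩ = PauliFour.pD from Units.ext (phiM_Ev e).2.1] at ed
    exact PauliFour.mem_normalizer ha hb hc hd ea eb ec ed
  · intro hg v
    have h := (Subgroup.mem_set_normalizer_iff.mp hg _).mp (phi_mem_std (e := e) hI (Ev_mem_R0 v))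
    rw [← map_R0 (e := e) hI, ← map_inv, ← map_mul, ← map_mul] at h
    obtain ⟨r, hr, he⟩ := h
    obtain ⟨w, q, hq, hw⟩ := hr
    have := congrArg Subtype.val (phi_inj e (two_neE e) hI he)
    rw [Subgroup.subtype_apply] at hw
    rw [hw] at this
    refine ⟨w, q, hq, ?_⟩
    rw [this, Subgroup.coe_mul, Subgroup.coe_mul, Subgroup.coe_inv, inv_mul_cancel_right]

/-- The determinant of the complexification. -/
noncomputable def dt (e : F →+* E) (c : E) (g : GL (Ix 2) F) : E := (phiM e c g.val).det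

include hI in
theorem dt_mul {g h : GL (Ix 2) F} (hh : Cj h) : dt e I (g * h) = dt e I g * dt e I h := by
  rw [dt, Units.val_mul, phiM_mul e hI _ (comM_of hh), Matrix.det_mul]
  rfl

include hI in
theorem dt_R0 {r : GL (Ix 2) F} (hr : r ∈ R0) : dt e I r = 1 := by
  have h := C6SL75.std_det hI (phi_mem_std (e := e) hI hr)
  have h' := congrArg Units.val (show Matrix.GeneralLinearGroup.det _ = (1 : Eˣ) from h)
  rwa [Matrix.GeneralLinearGroup.val_det_apply, Units.val_one] at h'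

/-! ### Good elements -/

/-- Normalising elements of the centraliser which are known to lie in the overgroup. -/
structure Good (e : F →+* E) (c : E) (P : Par F) (g : GL (Ix 2) F) : Prop where
  cs : g ∈ CS
  nr : NR g
  nrP : Nr P g
  d : dt e c g ^ 2 = 1

variable {P : Par F}

theorem Good.cj {g : GL (Ix 2) F} (hg : Good e I P g) : Cj g := (mem_CS.1 hg.cs).1

include hI in
theorem Good.mul {g h : GL (Ix 2) F} (hg : Good e I P g) (hh : Good e I P h) : Good e I P (g * h) :=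
  ⟨mul_mem hg.cs hh.cs, hg.nr.mul hh.nr hg.cj, nr_mul P hg.nrP hh.nrP, by
    rw [dt_mul hI hh.cj, mul_pow, hg.d, hh.d, one_mul]⟩

include hI in
theorem good_R0 {r : GL (Ix 2) F} (hr : r ∈ R0) : Good e I P r :=
  ⟨R0_le_CS hr, fun v => ⟨v, R0_act P hr v⟩, nr_of_mem P (R0_le_Rm P hr), by rw [dt_R0 hI hr, one_pow]⟩

include hI in
theorem Good.inv [Finite F] {g : GL (Ix 2) F} (hg : Good e I P g) : Good e I P g⁻¹ := by
  have key : ∀ n : ℕ, Good e I P (g ^ n) := by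
    intro n
    induction n with
    | zero => rw [pow_zero]; exact good_R0 hI (one_mem _)
    | succ n ih => rw [pow_succ]; exact ih.mul hI hg
  have h : g⁻¹ = g ^ (orderOf g - 1) := inv_eq_of_mul_eq_one_right (by
    rw [← pow_succ', Nat.sub_add_cancel (orderOf_pos g), pow_orderOf_eq_one])
  rw [h]
  exact key _

/-! ### Transvections -/

/-- A square root of minus one over a binary vector. -/
noncomputable def sx (x : V4) : GL (Ix 2) F := Ev x * (if co x x = 0 then Jc else 1)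

theorem sx_R0 (x : V4) : (sx x : GL (Ix 2) F) ∈ R0 :=
  ⟨x, _, by split_ifs <;> [exact Jc_mem; exact one_mem _], rfl⟩

theorem sx_sq (x : V4) : (sx x : GL (Ix 2) F) * sx x = (-1 : GL (Ix 2) F) := by
  rw [sx]
  rcases zm_cases (co x x) with h | h <;> simp only [h, if_true, one_ne_zero, if_false, mul_one]
  · calc (Ev x * Jc * (Ev x * Jc) : GL (Ix 2) F) = Ev x * (Jc * Ev x) * Jc := by group
      _ = Ev x * Ev x * (Jc * Jc) := by rw [← Ev_Jc]; group
      _ = -1 := by rw [Ev_sq, h, sg_zero, one_mul, Jc_sq]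
  · rw [Ev_sq, h, sg_one]

theorem sx_Ev (x v : V4) : (sx x : GL (Ix 2) F) * Ev v = sg (Bf x v) * (Ev v * sx x) := by
  have hq : (if co x x = 0 then Jc else 1 : GL (Ix 2) F) ∈ C4 := by split_ifs <;> [exact Jc_mem; exact one_mem _]
  rw [sx, mul_assoc, ← Ev_C4 v hq, ← mul_assoc, Ev_comm]
  simp only [mul_assoc]

theorem sx_Jc (x : V4) : (sx x : GL (Ix 2) F) * Jc = Jc * sx x := (mem_CS.1 (R0_le_CS (sx_R0 x))).1

/-- The normalising element acting as a transvection. -/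
noncomputable def ux (x : V4) : GL (Ix 2) F := hf Jc (sx x) Jc_sq (sx_sq x)

theorem ux_CS (x : V4) : (ux x : GL (Ix 2) F) ∈ CS :=
  mem_CS.2 ⟨(hf_comm Jc_sq (sx_sq x) rfl (sx_Jc x).symm).symm,
    hf_mem Jc_sq (sx_sq x) Jc_mem_spM (mem_CS.1 (R0_le_CS (sx_R0 x))).2⟩

theorem ux_sq (x : V4) : (ux x : GL (Ix 2) F) * ux x = Jc * sx x := by
  refine Units.ext ?_
  have sq2 : ∀ s : GL (Ix 2) F, s * s = -1 → (1 + s.val) * (1 + s.val) = (2 : F) • s.val := fun s hs => by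
    simp only [mul_add, add_mul, one_mul, mul_one, ← Units.val_mul, hs, Units.val_neg, Units.val_one, two_smul]
    abel
  have hc : (1 + (sx x : GL (Ix 2) F).val) * (1 + Jc.val) = (1 + Jc.val) * (1 + (sx x : GL (Ix 2) F).val) := by
    simp only [mul_add, add_mul, one_mul, mul_one, ← Units.val_mul, sx_Jc]
    abel
  show ((2 : F)⁻¹ • ((1 + Jc.val) * (1 + (sx x : GL (Ix 2) F).val))) *
    ((2 : F)⁻¹ • ((1 + Jc.val) * (1 + (sx x : GL (Ix 2) F).val))) = _
  rw [smul_mul_smul_comm, mul_assoc (1 + Jc.val), ← mul_assoc (1 + (sx x : GL (Ix 2) F).val), hc,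
    mul_assoc (1 + Jc.val) (1 + (sx x : GL (Ix 2) F).val), ← mul_assoc (1 + Jc.val), sq2 _ Jc_sq, sq2 _ (sx_sq x),
    smul_mul_smul_comm, smul_smul, Units.val_mul,
    show (2 : F)⁻¹ * 2⁻¹ * (2 * 2) = 1 by field_simp [NeZero.ne (2 : F)], one_smul]

theorem act_ux (x v : V4) : Act (ux x : GL (Ix 2) F) v (tau x v) := by
  unfold tau
  rcases zm_cases (Bf x v) with hB | hB
  · rw [if_pos hB]
    refine ⟨1, one_mem _, ?_⟩
    rw [mul_one, ux]
    refine (hf_comm Jc_sq (sx_sq x) (Ev_Jc v) ?_).symm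
    rw [sx_Ev, hB, sg_zero, one_mul]
  · rw [if_neg (by rw [hB]; exact one_ne_zero)]
    have hsv : sx x * Ev v = -(Ev v * sx x : GL (Ix 2) F) := by rw [sx_Ev, hB, sg_one, neg_one_mul]
    set q : GL (Ix 2) F := sg (co v x) * (if co x x = 0 then Jc else 1) with hq
    have hqm : q ∈ C4 := mul_mem (sg_mem_C4 _) (by split_ifs <;> [exact Jc_mem; exact one_mem _])
    have he : Ev v * sx x = Ev (v + x) * q := by rw [hq, sx, ← mul_assoc, Ev_mul, sg_move]; group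
    refine ⟨-q, by rw [← neg_one_mul]; exact mul_mem (by rw [← Jc_sq]; exact mul_mem Jc_mem Jc_mem) hqm, ?_⟩
    rw [mul_neg, ← he]
    refine Units.ext ?_
    show ((2 : F)⁻¹ • ((1 + Jc.val) * (1 + (sx x : GL (Ix 2) F).val))) * (Ev v).val =
      (-(Ev v * sx x : GL (Ix 2) F)).val * ((2 : F)⁻¹ • ((1 + Jc.val) * (1 + (sx x : GL (Ix 2) F).val)))
    rw [smul_mul_assoc, mul_smul_comm]
    congr 1
    have h1 : (1 + (sx x : GL (Ix 2) F).val) * (Ev v).val =
        (-(Ev v * sx x : GL (Ix 2) F)).val * (1 + (sx x : GL (Ix 2) F).val) := by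
      rw [add_mul, mul_add, one_mul, mul_one, ← Units.val_mul (sx x), hsv, ← Units.val_mul,
        neg_mul, mul_assoc, sx_sq, mul_neg_one, neg_neg]
      abel
    have h2 : (1 + (Jc : GL (Ix 2) F).val) * (-(Ev v * sx x : GL (Ix 2) F)).val =
        (-(Ev v * sx x : GL (Ix 2) F)).val * (1 + Jc.val) := by
      have hc : Cj (-(Ev v * sx x : GL (Ix 2) F)) := by
        show _ * _ = _ * _
        rw [neg_mul, mul_neg, mul_assoc, sx_Jc, ← mul_assoc, Ev_Jc, mul_assoc]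
      rw [add_mul, mul_add, one_mul, mul_one, ← Units.val_mul, ← Units.val_mul, hc]
    rw [mul_assoc, h1, ← mul_assoc, h2, mul_assoc]

include hI in
theorem good_ux (x : V4) : Good e I P (ux x) :=
  ⟨ux_CS x, fun v => ⟨_, act_ux x v⟩, nr_hf P Jc_sq (sx_sq x) (Jc_mem_Rm P) (R0_le_Rm P (sx_R0 x)), by
    rw [sq, ← dt_mul hI (mem_CS.1 (ux_CS x)).1, ux_sq, dt_R0 hI (mul_mem (C4_le_R0 Jc_mem) (sx_R0 x))]⟩

/-! ### Reduction to a scalar -/

/-- A complex scalar. -/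
def Scal (g : GL (Ix 2) F) (x y : F) : Prop :=
  g.val = x • (1 : Matrix (Ix 2) (Ix 2) F) + y • (Jc : GL (Ix 2) F).val ∧ x * x + y * y = 1

/-- An element commuting with the four generators is a complex scalar. -/
theorem scal_of_comm {z : GL (Ix 2) F} (hcs : z ∈ CS) (c1 : z * Ev e1 = Ev e1 * z) (c2 : z * Ev f1 = Ev f1 * z)
    (c3 : z * Ev e2 = Ev e2 * z) (c4 : z * Ev f2 = Ev f2 * z) : ∃ x y, Scal z x y := by
  set N := z.val with hNdef
  have hN : ComM N := comM_of (mem_CS.1 hcs).1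
  have co1 : ∀ {v : V4}, z * Ev v = Ev v * (z) → ∀ (x y : Pt 2) (i l : Fin 2),
      N (x, i) (y + va v, l) * sgn F (ip (vb v) y) = sgn F (ip (vb v) (x + va v)) * N (x + va v, i) (y, l) := by
    intro v hv x y i l
    have h := Matrix.ext_iff.mpr (congrArg Units.val hv) (x, i) (y, l)
    rw [Units.val_mul, Units.val_mul (Ev v), Matrix.mul_apply, Matrix.mul_apply,
      Finset.sum_eq_single (y + va v, l), Finset.sum_eq_single (x + va v, i)] at h
    · rw [Ev_apply, Ev_apply] at h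
      simpa [pt_add_cancel, ← hNdef] using h
    · rintro ⟨t, m⟩ - hne
      rw [Ev_apply]
      split_ifs with h1 h2
      · exact absurd (by rw [h1, h2, pt_add_cancel]) hne
      all_goals simp
    · simp
    · rintro ⟨t, m⟩ - hne
      rw [Ev_apply]
      split_ifs with h1 h2
      · exact absurd (by rw [← h1, h2]) hne
      all_goals simp
    · simp
  have hva : va e1 = pe 0 ∧ va e2 = pe 1 ∧ va f1 = 0 ∧ va f2 = 0 ∧ vb e1 = 0 ∧ vb e2 = 0 ∧
      vb f1 = pe 0 ∧ vb f2 = pe 1 := by decide +kernel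
  obtain ⟨a1, a2, a3, a4, b1, b2, b3, b4⟩ := hva
  have d1 : ∀ x y i l, N (x, i) (y + pe 0, l) = N (x + pe 0, i) (y, l) := fun x y i l => by
    simpa [a1, b1, ip_zero_left] using co1 c1 x y i l
  have d2 : ∀ x y i l, N (x, i) (y + pe 1, l) = N (x + pe 1, i) (y, l) := fun x y i l => by
    simpa [a2, b2, ip_zero_left] using co1 c3 x y i l
  have d3 : ∀ x y i l, x ≠ y → N (x, i) (y, l) = 0 := fun x y i l hne => by
    by_contra h0
    have e0 := co1 c2 x y i l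
    have e1' := co1 c4 x y i l
    rw [a3, b3, ip_pe, ip_pe, add_zero, add_zero, mul_comm (sgn F (x 0))] at e0
    rw [a4, b4, ip_pe, ip_pe, add_zero, add_zero, mul_comm (sgn F (x 1))] at e1'
    refine hne (funext fun t => ?_)
    fin_cases t
    · exact (sgn_inj (NeZero.ne 2) (mul_left_cancel₀ h0 e0)).symm
    · exact (sgn_inj (NeZero.ne 2) (mul_left_cancel₀ h0 e1')).symm
  have key : ∀ x i l, N (x, i) (x, l) = N (0, i) (0, l) := by
    intro x i l
    have s0 : ∀ t : Pt 2, N (t + pe 0, i) (t + pe 0, l) = N (t, i) (t, l) := fun t => by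
      rw [d1, pt_add_cancel]
    have s1 : ∀ t : Pt 2, N (t + pe 1, i) (t + pe 1, l) = N (t, i) (t, l) := fun t => by
      rw [d2, pt_add_cancel]
    rcases (show ∀ x : Pt 2, x = 0 ∨ x = 0 + pe 0 ∨ x = 0 + pe 1 ∨ x = 0 + pe 0 + pe 1 by decide +kernel) x with
      rfl | rfl | rfl | rfl
    exacts [rfl, s0 0, s1 0, (s1 _).trans (s0 0)]
  refine ⟨N (0, 0) (0, 0), N (0, 0) (0, 1), ?_, ?_⟩
  · refine hN.ext (comM_of_entries fun x y => by by_cases h : x = y <;> simp [Jc_apply, Matrix.one_apply, h]) fun x y i => ?_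
    by_cases hxy : x = y
    · subst hxy
      rw [key]
      fin_cases i <;> simp [Jc_apply]
    · rw [d3 _ _ _ _ hxy]
      simp [Jc_apply, hxy]
  · have ht := Matrix.ext_iff.mpr (transpose_mul_self hcs) (0, 0) (0, 0)
    rw [Matrix.one_apply_eq, Matrix.mul_apply, Fintype.sum_prod_type,
      Finset.sum_eq_single 0 (fun t _ hz => by simp [← hNdef, d3 _ _ _ _ hz]) (by simp), Fin.sum_univ_two] at ht
    rw [← ht]
    simp only [Matrix.transpose_apply, ← hNdef, (hN.entries 0 0).1]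
    ring


include hI in
theorem reduce {g : GL (Ix 2) F} (hg : g ∈ CS) (hNR : NR g) :
    ∃ n z x y, Good e I P n ∧ n * g = z ∧ Scal z x y := by
  have hBe : Bf e1 f1 = 1 ∧ Bf e1 e2 = 0 ∧ Bf e1 f2 = 0 ∧ Bf f1 e2 = 0 ∧ Bf f1 f2 = 0 ∧ Bf e2 f2 = 1 := by decide
  have step : ∀ (n : GL (Ix 2) F) (a b : V4), Good e I P n →
      ∃ n', Good e I P n' ∧ ∀ v w, Act (n * g) v w → Act (n' * g) v (tau a (tau b w)) := fun n a b hn =>
    ⟨ux a * ux b * n, ((good_ux hI a).mul hI (good_ux hI b)).mul hI hn, fun v w h => by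
      rw [mul_assoc _ n g]
      exact h.mul ((act_ux b w).mul (act_ux a _) (mem_CS.1 (ux_CS a)).1)
        ((good_ux (e := e) (P := P) hI a).mul hI (good_ux hI b)).cj⟩
  have g1 : Good e I P (1 : GL (Ix 2) F) := good_R0 hI (one_mem _)
  obtain ⟨u, hu⟩ := hNR e1
  obtain ⟨u', hu'⟩ := hNR f1
  have hu0 : u ≠ 0 := fun h0 => by
    have := hu.bf hu'
    rw [hBe.1, h0, show Bf 0 u' = 0 by simp [Bf, co]] at this
    exact one_ne_zero this
  obtain ⟨a, b, hab⟩ := stepA u hu0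
  obtain ⟨n1, n1g, n1a⟩ := step 1 a b g1
  have k1 : Act (n1 * g) e1 e1 := by
    have := n1a e1 u (by rw [one_mul]; exact hu)
    rw [hab] at this
    exact this
  have w1 := n1a f1 u' (by rw [one_mul]; exact hu')
  obtain ⟨a', b', hfix, hab'⟩ := stepB _ (by rw [← k1.bf w1, hBe.1])
  obtain ⟨n2, n2g, n2a⟩ := step n1 a' b' n1g
  have k2e : Act (n2 * g) e1 e1 := by
    have := n2a _ _ k1
    rwa [hfix] at this
  have k2f : Act (n2 * g) f1 f1 := by
    have := n2a _ _ w1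
    rwa [hab'] at this
  obtain ⟨v2, hv2⟩ := n2g.nr.mul hNR n2g.cj e2
  obtain ⟨v2', hv2'⟩ := n2g.nr.mul hNR n2g.cj f2
  have hv20 : v2 ≠ 0 := fun h0 => by
    have := hv2.bf hv2'
    rw [hBe.2.2.2.2.2, h0, show Bf 0 v2' = 0 by simp [Bf, co]] at this
    exact one_ne_zero this
  obtain ⟨a, b, fe, ff, fu⟩ := stepC v2 hv20 (by rw [← k2e.bf hv2, hBe.2.1]) (by rw [← k2f.bf hv2, hBe.2.2.2.1])
  obtain ⟨n3, n3g, n3a⟩ := step n2 a b n2g
  have k3e : Act (n3 * g) e1 e1 := by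
    have := n3a _ _ k2e
    rwa [fe] at this
  have k3f : Act (n3 * g) f1 f1 := by
    have := n3a _ _ k2f
    rwa [ff] at this
  have k3e2 : Act (n3 * g) e2 e2 := by
    have := n3a _ _ hv2
    rwa [fu] at this
  have w3 := n3a _ _ hv2'
  obtain ⟨a, b, fe, ff, fe2, fu⟩ := stepD _ (by rw [← k3e.bf w3, hBe.2.2.1]) (by rw [← k3f.bf w3, hBe.2.2.2.2.1])
    (by rw [← k3e2.bf w3, hBe.2.2.2.2.2])
  obtain ⟨n4, n4g, n4a⟩ := step n3 a b n3g
  have k4e : Act (n4 * g) e1 e1 := by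
    have := n4a _ _ k3e
    rwa [fe] at this
  have k4f : Act (n4 * g) f1 f1 := by
    have := n4a _ _ k3f
    rwa [ff] at this
  have k4e2 : Act (n4 * g) e2 e2 := by
    have := n4a _ _ k3e2
    rwa [fe2] at this
  have k4f2 : Act (n4 * g) f2 f2 := by
    have := n4a _ _ w3
    rwa [fu] at this
  set h := n4 * g with hh
  have hcj : Cj h := (mem_CS.1 (mul_mem n4g.cs hg)).1
  have sgn4 : ∀ v, co v v = 0 → Act h v v → ∃ ε : ZMod 2, h * Ev v = sg ε * (Ev v * h) := by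
    intro v hv ⟨q, hq, hqv⟩
    have hq2 : q * q = 1 := by
      have e1' : Ev v * q * (Ev v * q) = (1 : GL (Ix 2) F) := by
        have e2' : Ev v * q = h * Ev v * h⁻¹ := by rw [hqv, mul_inv_cancel_right]
        rw [e2', show h * Ev v * h⁻¹ * (h * Ev v * h⁻¹) = h * (Ev v * Ev v) * h⁻¹ by group, Ev_sq, hv, sg_zero,
          mul_one, mul_inv_cancel]
      calc q * q = Ev v * Ev v * (q * q) := by rw [Ev_sq, hv, sg_zero, one_mul]
        _ = Ev v * (Ev v * q) * q := by group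
        _ = Ev v * (q * Ev v) * q := by rw [Ev_C4 v hq]
        _ = Ev v * q * (Ev v * q) := by group
        _ = 1 := e1'
    rcases C4_cases hq with rfl | rfl | rfl | rfl
    · exact ⟨0, by rw [hqv, sg_zero, one_mul, mul_one]⟩
    · exact ⟨1, by rw [hqv, sg_one, mul_neg_one, neg_one_mul, neg_mul]⟩
    · exfalso; rw [Jc_sq] at hq2; exact neg_one_ne_one (ι := Ix 2) (NeZero.ne (2 : F)) hq2
    · exfalso; rw [neg_mul_neg, Jc_sq] at hq2; exact neg_one_ne_one (ι := Ix 2) (NeZero.ne (2 : F)) hq2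
  obtain ⟨εa, ha⟩ := sgn4 e1 (by decide) k4e
  obtain ⟨εb, hb⟩ := sgn4 f1 (by decide) k4f
  obtain ⟨εc, hc⟩ := sgn4 e2 (by decide) k4e2
  obtain ⟨εd, hd⟩ := sgn4 f2 (by decide) k4f2
  set w : V4 := (εb, εd, εa, εc) with hw
  have comm : ∀ (v : V4) (ε : ZMod 2), h * Ev v = sg ε * (Ev v * h) → Bf w v = ε →
      Ev w * h * Ev v = Ev v * (Ev w * h) := by
    intro v ε hv hB
    rw [mul_assoc, hv, sg_move, ← mul_assoc (Ev w), Ev_comm, hB, mul_assoc (sg ε), ← mul_assoc (sg ε), sg_sq,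
      one_mul, mul_assoc]
  have c1 := comm e1 εa ha (by simp [hw, Bf, co, e1])
  have c2 := comm f1 εb hb (by simp [hw, Bf, co, f1])
  have c3 := comm e2 εc hc (by simp [hw, Bf, co, e2])
  have c4 := comm f2 εd hd (by simp [hw, Bf, co, f2])
  refine ⟨Ev w * n4, Ev w * h, ?_⟩
  obtain ⟨x, y, hz⟩ := scal_of_comm (mul_mem (Ev_CS w) (mul_mem n4g.cs hg)) c1 c2 c3 c4
  exact ⟨x, y, (good_R0 hI (Ev_mem_R0 w)).mul hI n4g, by rw [hh, mul_assoc], hz⟩

end Cfsg.Agent.C6Sp8Cx
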