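import Cfsg.Agent.Lib.C6Sp8Cplx75Dich
import Cfsg.Agent.Lib.TransvectionMax

/-!
The elements attached to isotropic vectors generate the symplectic group with the rotation of the quaternion
group.
-/

set_option autoImplicit false
set_option linter.unusedSectionVars false
set_option linter.unusedSimpArgs false
set_option maxHeartbeats 1000000

namespace Cfsg.Agent.C6Sp8Cx

open Matrix Cfsg.Agent.C6Plus10 Cfsg.Agent.C6Minus10
open scoped MatrixGroups

variable {F : Type*} [Field F]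

theorem sform_symplectic [NeZero (2 : F)] :
    Cfsg.Geo.IsSymplecticForm (sform : (Ix 2 → F) → (Ix 2 → F) → F) := by
  refine ⟨⟨fun x y v => sform_add_left x y v, fun c x v => sform_smul_left c x v,
    fun v x y => sform_add_right v x y, fun c v x => sform_smul_right c v x⟩, fun v w => ?_, fun v => ?_, fun v hv => ?_⟩
  · simp only [sform, ← Finset.sum_neg_distrib]
    exact Finset.sum_congr rfl fun x _ => by ring
  · simp only [sform]
    exact Finset.sum_eq_zero fun x _ => by ring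
  · obtain ⟨⟨x, i⟩, hi⟩ : ∃ u, v u ≠ 0 := Function.ne_iff.1 hv
    fin_cases i
    · refine ⟨⟨Pi.single (x, 1) 1, ?_⟩, ⟨Pi.single (x, 1) 1, ?_⟩⟩ <;>
        simpa [sform, Pi.single_apply] using hi
    · refine ⟨⟨Pi.single (x, 0) 1, ?_⟩, ⟨Pi.single (x, 0) 1, ?_⟩⟩ <;>
        simpa [sform, Pi.single_apply] using hi

/-! ### Elements attached to an isotropic vector and a matrix on the last qubit -/

/-- The rank-one matrix on the points times a matrix on the last qubit. -/
def pK (n : Pt 2 → F) (K : Matrix (Fin 2) (Fin 2) F) : Matrix (Ix 2) (Ix 2) F :=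
  Matrix.of fun u v => n u.1 * n v.1 * K u.2 v.2

theorem pK_apply (n : Pt 2 → F) (K : Matrix (Fin 2) (Fin 2) F) (u v : Ix 2) :
    pK n K u v = n u.1 * n v.1 * K u.2 v.2 := rfl

theorem pK_mul {n : Pt 2 → F} (hn : n ⬝ᵥ n = 0) (K L : Matrix (Fin 2) (Fin 2) F) : pK n K * pK n L = 0 := by
  ext u v
  rw [Matrix.mul_apply, Fintype.sum_prod_type, Finset.sum_comm, Matrix.zero_apply]
  refine Finset.sum_eq_zero fun m _ => ?_
  have h : ∑ x, n x * n x = 0 := hn
  calc ∑ x, pK n K u (x, m) * pK n L (x, m) v = ∑ x, (n u.1 * K u.2 m * (L m v.2 * n v.1)) * (n x * n x) :=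
        Finset.sum_congr rfl fun x _ => by simp only [pK_apply]; ring
    _ = 0 := by rw [← Finset.mul_sum, h, mul_zero]

theorem pK_add (n : Pt 2 → F) (K L : Matrix (Fin 2) (Fin 2) F) : pK n (K + L) = pK n K + pK n L := by
  ext u v
  simp [pK_apply, mul_add]

/-- One plus the product. -/
def tn (n : Pt 2 → F) (hn : n ⬝ᵥ n = 0) (K : Matrix (Fin 2) (Fin 2) F) : GL (Ix 2) F where
  val := 1 + pK n K
  inv := 1 - pK n K
  val_inv := by rw [add_mul, mul_sub, mul_sub, one_mul, one_mul, mul_one, pK_mul hn]; abel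
  inv_val := by rw [sub_mul, mul_add, mul_add, one_mul, one_mul, mul_one, pK_mul hn]; abel

theorem tn_val (n : Pt 2 → F) (hn : n ⬝ᵥ n = 0) (K : Matrix (Fin 2) (Fin 2) F) : (tn n hn K).val = 1 + pK n K := rfl

theorem tn_mul (n : Pt 2 → F) (hn : n ⬝ᵥ n = 0) (K L : Matrix (Fin 2) (Fin 2) F) :
    tn n hn K * tn n hn L = tn n hn (K + L) := Units.ext (by
  rw [Units.val_mul, tn_val, tn_val, tn_val, add_mul, mul_add, mul_add, one_mul, one_mul, mul_one, pK_mul hn, pK_add]
  abel)

theorem cst_tn (n : Pt 2 → F) (hn : n ⬝ᵥ n = 0) (w : GL (Fin 2) F) (K : Matrix (Fin 2) (Fin 2) F) :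
    cst w * tn n hn K * (cst w)⁻¹ = tn n hn (w.val * K * (w⁻¹ : GL (Fin 2) F).val) := by
  refine mul_inv_eq_iff_eq_mul.2 (Units.ext ?_)
  have e1 : ∀ (w : GL (Fin 2) F) K, (cst w : GL (Ix 2) F).val * pK n K = pK n (w.val * K) := fun w K => by
    ext ⟨x, i⟩ ⟨y, l⟩
    simp only [Matrix.mul_apply, cst_val, blkM_apply, pK_apply, Fintype.sum_prod_type]
    rw [Finset.sum_eq_single x (fun z _ hz => by simp [Ne.symm hz]) (by simp)]
    simp [Fin.sum_univ_two]
    ring
  have e2 : ∀ (w : GL (Fin 2) F) K, pK n K * (cst w : GL (Ix 2) F).val = pK n (K * w.val) := fun w K => by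
    ext ⟨x, i⟩ ⟨y, l⟩
    simp only [Matrix.mul_apply, cst_val, blkM_apply, pK_apply, Fintype.sum_prod_type]
    rw [Finset.sum_eq_single y (fun z _ hz => by simp [hz]) (by simp)]
    simp [Fin.sum_univ_two]
    ring
  rw [Units.val_mul, Units.val_mul, tn_val, tn_val, mul_add, add_mul, e1, e2, one_mul, mul_one,
    mul_assoc (w.val * K), Units.inv_mul, mul_one]

theorem tj_eq [NeZero (2 : F)] [Finite F] (n : Pt 2 → F) (hn : n ⬝ᵥ n = 0) : tn n hn jq.val = tj n hn := by
  refine Units.ext ?_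
  rw [tn_val, tj_val]
  congr 1
  ext ⟨x, i⟩ ⟨y, l⟩
  fin_cases i <;> fin_cases l <;>
    simp [(Jc_mul_apply _ _ x).1, (Jc_mul_apply _ _ x).2, upM_apply, Matrix.vecMulVec_apply, pK_apply, jq]

variable (P : Par F) [NeZero (2 : F)]

theorem rot_jq : (rotU P (NeZero.ne (2 : F))).val * (jq : GL (Fin 2) F).val * ((rotU P (NeZero.ne (2 : F)))⁻¹ :
    GL (Fin 2) F).val = (aq P).val := by
  rw [← Units.val_mul, ← Units.val_mul, show rotU P (NeZero.ne (2 : F)) * jq * (rotU P (NeZero.ne (2 : F)))⁻¹ = aq P from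
    mul_inv_eq_iff_eq_mul.mpr (Units.ext (by
      have h2 : (2 : F) ≠ 0 := NeZero.ne 2
      ext i l; fin_cases i <;> fin_cases l <;> simp [rotU, jq, aq, Matrix.mul_apply, Fin.sum_univ_two] <;>
        field_simp <;> first | ring1 | linear_combination P.eq | linear_combination -P.eq))]

theorem rot_aq : (rotU P (NeZero.ne (2 : F))).val * (aq P).val * ((rotU P (NeZero.ne (2 : F)))⁻¹ :
    GL (Fin 2) F).val = (jq * aq P).val := by
  rw [← Units.val_mul, ← Units.val_mul, show rotU P (NeZero.ne (2 : F)) * aq P * (rotU P (NeZero.ne (2 : F)))⁻¹ =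
    jq * aq P from
    mul_inv_eq_iff_eq_mul.mpr (Units.ext (by
      have h2 : (2 : F) ≠ 0 := NeZero.ne 2
      ext i l; fin_cases i <;> fin_cases l <;> simp [rotU, jq, aq, Matrix.mul_apply, Fin.sum_univ_two] <;>
        field_simp <;> first | ring1 | linear_combination P.eq | linear_combination -P.eq))]

/-- The vector with the given two halves. -/
def mk (p q : Pt 2 → F) : Ix 2 → F := fun u => if u.2 = 0 then p u.1 else q u.1

theorem mk_zero (p q : Pt 2 → F) (x : Pt 2) : mk p q (x, 0) = p x := rfl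

theorem mk_one (p q : Pt 2 → F) (x : Pt 2) : mk p q (x, 1) = q x := rfl

theorem mk_add (p q p' q' : Pt 2 → F) : mk p q + mk p' q' = mk (p + p') (q + q') := by
  funext u; by_cases h : u.2 = 0 <;> simp [mk, h]

theorem sform_mk (p q p' q' : Pt 2 → F) : sform (mk p q) (mk p' q') = p ⬝ᵥ q' - q ⬝ᵥ p' := by
  simp [sform, mk_zero, mk_one, dotProduct, Finset.sum_sub_distrib]

theorem mk_split (u : Ix 2 → F) : mk (fun x => u (x, 0)) (fun x => u (x, 1)) = u := by
  funext ⟨x, i⟩; fin_cases i <;> rfl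

variable {P} [Fintype F] {M : Subgroup (GL (Ix 2) F)}

theorem mem_of_tj (hp : (Fintype.card F).Prime) (hM : Ovg P M) (h : ∀ (n : Pt 2 → F) (hn : n ⬝ᵥ n = 0), tj n hn ∈ M)
    (n : Pt 2 → F) (hn : n ⬝ᵥ n = 0) (K : Matrix (Fin 2) (Fin 2) F) (hK : K 1 1 = -K 0 0) : tn n hn K ∈ M := by
  have h2 : (2 : F) ≠ 0 := NeZero.ne 2
  set w := rotU P h2
  have hw : cst w ∈ M := hM.nr _ (blk_mem_spM fun _ => rotU_det P h2) (nr_cst P (rotU_conj P h2))
  let S : AddSubgroup (Matrix (Fin 2) (Fin 2) F) :=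
    { carrier := {K | tn n hn K ∈ M}
      zero_mem' := by
        show tn n hn 0 ∈ M
        rw [show tn n hn 0 = 1 from Units.ext (by
          rw [tn_val, Units.val_one]; ext u v; simp [pK_apply, Matrix.add_apply])]
        exact M.one_mem
      add_mem' := fun {K L} hK hL => by
        show tn n hn (K + L) ∈ M
        rw [← tn_mul]; exact M.mul_mem hK hL
      neg_mem' := fun {K} hK => by
        show tn n hn (-K) ∈ M
        rw [show tn n hn (-K) = (tn n hn K)⁻¹ from (inv_eq_of_mul_eq_one_right (by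
          rw [tn_mul, add_neg_cancel]; exact Units.ext (by
            rw [tn_val, Units.val_one]; ext u v; simp [pK_apply, Matrix.add_apply]))).symm]
        exact M.inv_mem hK }
  have smul : ∀ (c : F) (K : Matrix (Fin 2) (Fin 2) F), K ∈ S → c • K ∈ S := by
    intro c K hK
    haveI : Fact (Fintype.card F).Prime := ⟨hp⟩
    obtain ⟨m, hm⟩ := AddSubgroup.mem_zmultiples_iff.1 (mem_zmultiples_of_prime_card
      (g' := c) (Nat.card_eq_fintype_card (α := F)) (one_ne_zero : (1 : F) ≠ 0))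
    rw [← hm, smul_assoc, one_smul]
    exact S.zsmul_mem hK m
  have conj : ∀ K, K ∈ S → w.val * K * (w⁻¹ : GL (Fin 2) F).val ∈ S := fun K hK => by
    show tn n hn _ ∈ M
    rw [← cst_tn]
    exact M.mul_mem (M.mul_mem hw hK) (M.inv_mem hw)
  have hj : (jq : GL (Fin 2) F).val ∈ S := by
    show tn n hn _ ∈ M
    rw [tj_eq]; exact h n hn
  have ha : (aq P).val ∈ S := rot_jq P ▸ conj _ hj
  have hja : (jq * aq P).val ∈ S := rot_aq P ▸ conj _ ha
  have hdec : K = ((K 0 1 - K 1 0) / 2) • (jq : GL (Fin 2) F).val +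
      (-(P.al * K 0 0 + P.be * ((K 0 1 + K 1 0) / 2))) • (aq P).val +
      (-(P.be * K 0 0 - P.al * ((K 0 1 + K 1 0) / 2))) • (jq * aq P).val := by
    ext i l
    fin_cases i <;> fin_cases l <;> simp [jq, aq, Units.val_mul, Matrix.mul_apply, Fin.sum_univ_two, hK] <;>
      field_simp
    · linear_combination (2 * K 0 0) * P.eq
    · linear_combination (K 0 1 + K 1 0) * P.eq
    · linear_combination (K 0 1 + K 1 0) * P.eq
    · linear_combination -(2 * K 0 0) * P.eq
  show K ∈ S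
  rw [hdec]
  exact S.add_mem (S.add_mem (smul _ _ hj) (smul _ _ ha)) (smul _ _ hja)

theorem exists_iso_ne {p : Pt 2 → F} (hp : p ≠ 0) (P : Par F) : ∃ n : Pt 2 → F, n ⬝ᵥ n = 0 ∧ n ⬝ᵥ p ≠ 0 := by
  by_contra hno
  push Not at hno
  have dot : ∀ f g : Pt 2 → F, f ⬝ᵥ g = f ![0, 0] * g ![0, 0] + f ![0, 1] * g ![0, 1] + f ![1, 0] * g ![1, 0] +
      f ![1, 1] * g ![1, 1] := fun f g => by
    rw [dotProduct, sum_pk, Fin.sum_univ_four]; rfl
  let mkv : F → F → F → F → Pt 2 → F := fun a b c d => fun x => ![a, b, c, d] (pkE.symm x)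
  have mkv_pk : ∀ a b c d k, mkv a b c d (pk k) = ![a, b, c, d] k := fun a b c d k => by
    simp only [mkv]; rw [show pk k = pkE k from rfl, Equiv.symm_apply_apply]
  have key : ∀ a b c d : F, a * a + b * b + c * c + d * d = 0 →
      a * p ![0, 0] + b * p ![0, 1] + c * p ![1, 0] + d * p ![1, 1] = 0 := by
    intro a b c d habcd
    have e0 : mkv a b c d ![0, 0] = a := mkv_pk a b c d 0
    have e1 : mkv a b c d ![0, 1] = b := mkv_pk a b c d 1
    have e2 : mkv a b c d ![1, 0] = c := mkv_pk a b c d 2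
    have e3 : mkv a b c d ![1, 1] = d := mkv_pk a b c d 3
    have := hno (mkv a b c d) (by rw [dot, e0, e1, e2, e3]; exact habcd)
    rw [dot, e0, e1, e2, e3] at this
    exact this
  have h2 : (2 : F) ≠ 0 := NeZero.ne 2
  have hs : ∀ {u : F}, 2 * u = 0 → u = 0 := fun hu => (mul_eq_zero.1 hu).resolve_left h2
  have q1 := key P.al P.be 1 0 (by linear_combination P.eq)
  have q1' := key P.al P.be (-1) 0 (by linear_combination P.eq)
  have q2 := key P.al P.be 0 1 (by linear_combination P.eq)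
  have q2' := key P.al P.be 0 (-1) (by linear_combination P.eq)
  have q3 := key 1 0 P.al P.be (by linear_combination P.eq)
  have q3' := key (-1) 0 P.al P.be (by linear_combination P.eq)
  have q4 := key 0 1 P.al P.be (by linear_combination P.eq)
  have q4' := key 0 (-1) P.al P.be (by linear_combination P.eq)
  refine hp (funext fun x => ?_)
  obtain ⟨k, rfl⟩ := pk_bij.2 x
  fin_cases k
  · exact hs (show 2 * p ![0, 0] = 0 by linear_combination q3 - q3')
  · exact hs (show 2 * p ![0, 1] = 0 by linear_combination q4 - q4')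
  · exact hs (show 2 * p ![1, 0] = 0 by linear_combination q1 - q1')
  · exact hs (show 2 * p ![1, 1] = 0 by linear_combination q2 - q2')

/-- The overgroup is everything. -/
theorem spM_le (hp : (Fintype.card F).Prime) (hM : Ovg P M)
    (h : ∀ (n : Pt 2 → F) (hn : n ⬝ᵥ n = 0), tj n hn ∈ M) : spM 2 F ≤ M := by
  classical
  have hf := sform_symplectic (F := F)
  have h2 : (2 : F) ≠ 0 := NeZero.ne 2
  set S : (Ix 2 → F) → Prop := fun a => ∀ s, TransvectionMax.st sform a s ∈ M with hS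
  have hbase : ∀ (n : Pt 2 → F), n ⬝ᵥ n = 0 → ∀ c d : F, S (mk (c • n) (d • n)) := by
    intro n hn c d s
    have := mem_of_tj hp hM h n hn (Matrix.of ![![s * (c * d), -(s * (c * c))], ![s * (d * d), -(s * (c * d))]]) (by simp)
    convert this using 1
    refine TransvectionMax.gl_ext fun v => ?_
    rw [TransvectionMax.st_act hf, tn_val, Matrix.add_mulVec, Matrix.one_mulVec]
    congr 1
    funext ⟨x, i⟩
    simp only [Pi.smul_apply, smul_eq_mul, sform, Matrix.mulVec, dotProduct, pK_apply, Fintype.sum_prod_type,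
      Fin.sum_univ_two, Finset.mul_sum, Finset.sum_mul]
    refine Finset.sum_congr rfl fun y _ => ?_
    fin_cases i <;> simp [mk] <;> ring
  have hadd : ∀ {a b}, S a → S b → sform a b ≠ 0 → S (a + b) := by
    intro a b ha hb hab s
    have hc := TransvectionMax.st_conj hf (h := TransvectionMax.st sform b (sform a b)⁻¹)
      (fun x y => TransvectionMax.st_preserves hf _ _ x y) a s
    rw [TransvectionMax.st_act hf, inv_mul_cancel₀ hab, one_smul] at hc
    rw [← hc]
    exact M.mul_mem (M.mul_mem (hb _) (ha s)) (M.inv_mem (hb _))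
  have hJ : ∀ p q, S (mk p q) → S (mk q (-p)) := by
    intro p q hpq s
    have hJM : (Jc : GL (Ix 2) F) ∈ M := hM.r0 (C4_le_R0 Jc_mem)
    have hc := TransvectionMax.st_conj hf (h := (Jc : GL (Ix 2) F)) Jc_mem_spM (mk p q) s
    have e : (Jc : GL (Ix 2) F).val *ᵥ mk p q = mk q (-p) := by
      funext ⟨x, i⟩
      fin_cases i <;> simp [Matrix.mulVec, dotProduct, Fintype.sum_prod_type, Fin.sum_univ_two, Jc_apply, mk]
    rw [e] at hc
    rw [← hc]
    exact M.mul_mem (M.mul_mem hJM (hpq s)) (M.inv_mem hJM)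
  have isoA : ∀ n q : Pt 2 → F, n ⬝ᵥ n = 0 → n ⬝ᵥ q ≠ 0 → S (mk n q) := by
    intro n q hn hnq
    set l := q ⬝ᵥ q / (2 * (n ⬝ᵥ q)) with hl
    set m := q - l • n with hm
    have hnm : n ⬝ᵥ m = n ⬝ᵥ q := by rw [hm, dotProduct_sub, dotProduct_smul, hn, smul_zero, sub_zero]
    have hmm : m ⬝ᵥ m = 0 := by
      simp only [hm, dotProduct_sub, sub_dotProduct, dotProduct_smul, smul_dotProduct, hn, smul_eq_mul,
        dotProduct_comm q n, hl]
      field_simp
      ring
    have hx := hbase m hmm 0 1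
    have hy := hbase n hn 1 l
    rw [zero_smul, one_smul] at hx
    rw [one_smul] at hy
    have := hadd hx hy (by
      rw [sform_mk, zero_dotProduct, zero_sub, neg_ne_zero, dotProduct_comm, hnm]; exact hnq)
    rwa [mk_add, zero_add, hm, sub_add_cancel] at this
  have anisoB : ∀ p q : Pt 2 → F, p ⬝ᵥ p ≠ 0 → S (mk p q) := by
    intro p q hpp
    obtain ⟨n0, hn0, hn0p⟩ := exists_iso_ne (p := p) (fun e0 => hpp (by rw [e0, zero_dotProduct])) P
    obtain ⟨n, hn⟩ : ∃ n : Pt 2 → F, n = (p ⬝ᵥ p / (2 * (n0 ⬝ᵥ p))) • n0 := ⟨_, rfl⟩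
    obtain ⟨n', hn'⟩ : ∃ n' : Pt 2 → F, n' = p - n := ⟨_, rfl⟩
    have hnn : n ⬝ᵥ n = 0 := by rw [hn, smul_dotProduct, dotProduct_smul, hn0, smul_zero, smul_zero]
    have hnp : n ⬝ᵥ p = p ⬝ᵥ p / 2 := by
      rw [hn, smul_dotProduct, smul_eq_mul]; field_simp
    have hn'n' : n' ⬝ᵥ n' = 0 := by
      simp only [hn', dotProduct_sub, sub_dotProduct, hnn, dotProduct_comm p n, hnp]
      field_simp
      ring
    have hnn' : n ⬝ᵥ n' = p ⬝ᵥ p / 2 := by rw [hn', dotProduct_sub, hnn, sub_zero, hnp]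
    have hnn'0 : n ⬝ᵥ n' ≠ 0 := by rw [hnn']; exact div_ne_zero hpp h2
    obtain ⟨t, ht, ht'⟩ : ∃ t : F, t ≠ n ⬝ᵥ q / (n ⬝ᵥ n') ∧ t ≠ n' ⬝ᵥ q / (n ⬝ᵥ n') := by
      have h3 : 3 ≤ Fintype.card F := by
        have := hp.two_le
        by_contra hlt
        have hc : Fintype.card F = 2 := by omega
        have h0 : ((Fintype.card F : ℕ) : F) = 0 := Nat.cast_card_eq_zero F
        rw [hc] at h0
        exact h2 (by exact_mod_cast h0)
      obtain ⟨t, -, ht⟩ := Finset.exists_mem_notMem_of_card_lt_card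
        (s := {n ⬝ᵥ q / (n ⬝ᵥ n'), n' ⬝ᵥ q / (n ⬝ᵥ n')}) (t := (Finset.univ : Finset F))
        (lt_of_le_of_lt Finset.card_le_two (by rw [Finset.card_univ]; omega))
      simp only [Finset.mem_insert, Finset.mem_singleton, not_or] at ht
      exact ⟨t, ht⟩
    have hx := isoA n (q - t • n') hnn (by
      rw [dotProduct_sub, dotProduct_smul, smul_eq_mul, sub_ne_zero]
      exact fun e0 => ht (eq_div_iff hnn'0 |>.2 e0.symm))
    have hy := hbase n' hn'n' 1 t
    rw [one_smul] at hy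
    have := hadd hx hy (by
      rw [sform_mk, sub_dotProduct, smul_dotProduct, dotProduct_smul, hn'n', smul_zero, sub_zero, smul_eq_mul,
        sub_ne_zero, dotProduct_comm q n']
      exact fun e0 => ht' (eq_div_iff hnn'0 |>.2 e0))
    rwa [mk_add, sub_add_cancel, show n + n' = p by rw [hn', add_sub_cancel]] at this
  have isoC : ∀ p q : Pt 2 → F, p ⬝ᵥ p = 0 → q ≠ 0 → S (mk p q) := by
    intro p q hpp hq
    obtain ⟨r, hrr, hrq⟩ : ∃ r : Pt 2 → F, r ⬝ᵥ r ≠ 0 ∧ r ⬝ᵥ q ≠ 0 := by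
      by_cases hqq : q ⬝ᵥ q = 0
      · obtain ⟨n, hn, hnq⟩ := exists_iso_ne hq P
        refine ⟨q + n, ?_, ?_⟩
        · rw [dotProduct_add, add_dotProduct, add_dotProduct, hqq, hn, dotProduct_comm q n, zero_add, add_zero,
            ← two_mul]
          exact mul_ne_zero h2 hnq
        · rwa [add_dotProduct, hqq, zero_add]
      · exact ⟨q, hqq, hqq⟩
    obtain ⟨s, hs0, hs⟩ : ∃ s : F, s ≠ 0 ∧ s * (r ⬝ᵥ r) ≠ 2 * (p ⬝ᵥ r) := by
      by_cases hb : 1 * (r ⬝ᵥ r) = 2 * (p ⬝ᵥ r)
      · refine ⟨-1, neg_ne_zero.2 one_ne_zero, fun e0 => hrr ?_⟩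
        exact (mul_eq_zero.1 (show (2 : F) * (r ⬝ᵥ r) = 0 by linear_combination hb - e0)).resolve_left h2
      · exact ⟨1, one_ne_zero, hb⟩
    have hz := anisoB (s • r) 0 (by
      rw [smul_dotProduct, dotProduct_smul, smul_eq_mul, smul_eq_mul]
      exact mul_ne_zero hs0 (mul_ne_zero hs0 hrr))
    have hx := anisoB (p - s • r) q (by
      simp only [sub_dotProduct, dotProduct_sub, smul_dotProduct, dotProduct_smul, smul_eq_mul, hpp,
        dotProduct_comm r p]
      intro e0
      exact hs (mul_left_cancel₀ hs0 (by linear_combination e0)))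
    have := hadd hx hz (by
      rw [sform_mk, dotProduct_zero, zero_sub, neg_ne_zero, dotProduct_smul, smul_eq_mul, dotProduct_comm]
      exact mul_ne_zero hs0 hrq)
    rwa [mk_add, sub_add_cancel, add_zero] at this
  have all : ∀ a, S a := by
    intro a
    rw [← mk_split a]
    set p : Pt 2 → F := fun x => a (x, 0)
    set q : Pt 2 → F := fun x => a (x, 1)
    by_cases hpp : p ⬝ᵥ p = 0
    · by_cases hq : q = 0
      · by_cases hp0 : p = 0
        · have := hbase 0 (zero_dotProduct _) 1 1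
          simpa [hp0, hq] using this
        · have := hJ _ _ (isoC (0 : Pt 2 → F) p (zero_dotProduct _) hp0)
          simpa [hq] using this
      · exact isoC p q hpp hq
    · exact anisoB p q hpp
  intro g hg
  exact TransvectionMax.isometry_mem hf (fun u c => all u c) g hg

end Cfsg.Agent.C6Sp8Cx
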