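import Cfsg.Agent.Lib.C6Sp8Half56Code

/-!
A subgroup of dimension four containing the extraspecial group and normalised by the whole symplectic group
contains an element outside it commuting with an element of square minus one.
-/

set_option autoImplicit false
set_option linter.unusedSectionVars false

namespace Cfsg.Agent.C6Sp8

open Matrix Cfsg.Agent.C6Plus10 Cfsg.Agent.C6Minus10
open scoped MatrixGroups

variable {F : Type*} [Field F]

/-- The upper corner with respect to the last qubit. -/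
def uM (S : Matrix (Pt 1) (Pt 1) F) : Matrix (Ix 1) (Ix 1) F :=
  Matrix.of fun u v => if u.2 = 0 ∧ v.2 = 1 then S u.1 v.1 else 0

/-- The diagonal blocks with respect to the last qubit. -/
def dM (A B : Matrix (Pt 1) (Pt 1) F) : Matrix (Ix 1) (Ix 1) F :=
  Matrix.of fun u v => if u.2 = v.2 then (if u.2 = 0 then A else B) u.1 v.1 else 0

theorem upM_eq_dM (g : Matrix (Pt 1) (Pt 1) F) : upM g = dM g g := by
  ext u v
  simp [upM_apply, dM]

theorem uM_uM (S T : Matrix (Pt 1) (Pt 1) F) : uM S * uM T = 0 := by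
  ext ⟨x, i⟩ ⟨y, l⟩
  simp [Matrix.mul_apply, uM, Fintype.sum_prod_type, Fin.sum_univ_two]

theorem uM_add (S T : Matrix (Pt 1) (Pt 1) F) : uM (S + T) = uM S + uM T := by
  ext u v
  simp only [uM, Matrix.of_apply, Matrix.add_apply]
  split_ifs <;> simp

theorem uM_zero : uM (0 : Matrix (Pt 1) (Pt 1) F) = 0 := by
  ext u v
  simp [uM]

theorem dM_uM (A B S : Matrix (Pt 1) (Pt 1) F) : dM A B * uM S = uM (A * S) := by
  ext ⟨x, i⟩ ⟨y, l⟩
  fin_cases i <;> fin_cases l <;> simp [Matrix.mul_apply, dM, uM, Fintype.sum_prod_type, Fin.sum_univ_two]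

theorem uM_dM (A B S : Matrix (Pt 1) (Pt 1) F) : uM S * dM A B = uM (S * B) := by
  ext ⟨x, i⟩ ⟨y, l⟩
  fin_cases i <;> fin_cases l <;> simp [Matrix.mul_apply, dM, uM, Fintype.sum_prod_type, Fin.sum_univ_two]

theorem dM_mul (A B A' B' : Matrix (Pt 1) (Pt 1) F) : dM A B * dM A' B' = dM (A * A') (B * B') := by
  ext ⟨x, i⟩ ⟨y, l⟩
  fin_cases i <;> fin_cases l <;> simp [Matrix.mul_apply, dM, Fintype.sum_prod_type, Fin.sum_univ_two]

theorem dM_one : dM (1 : Matrix (Pt 1) (Pt 1) F) 1 = 1 := by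
  rw [← upM_eq_dM, upM_one]

/-- A unipotent element of the corner. -/
def sN (S : Matrix (Pt 1) (Pt 1) F) : GL (Ix 1) F where
  val := 1 + uM S
  inv := 1 + uM (-S)
  val_inv := by
    rw [add_mul, one_mul, mul_add, mul_one, uM_uM, add_zero, add_assoc, ← uM_add, neg_add_cancel, uM_zero, add_zero]
  inv_val := by
    rw [add_mul, one_mul, mul_add, mul_one, uM_uM, add_zero, add_assoc, ← uM_add, add_neg_cancel, uM_zero, add_zero]

theorem sN_mul (S T : Matrix (Pt 1) (Pt 1) F) : sN S * sN T = sN (S + T) := by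
  refine Units.ext ?_
  show (1 + uM S) * (1 + uM T) = 1 + uM (S + T)
  rw [add_mul, one_mul, mul_add, mul_one, uM_uM, add_zero, uM_add]
  abel

theorem sN_inv (S : Matrix (Pt 1) (Pt 1) F) : (sN S)⁻¹ = sN (-S) := Units.ext rfl

theorem sN_inj {S T : Matrix (Pt 1) (Pt 1) F} (h : sN S = sN T) : S = T := by
  ext x y
  have := congrArg (fun g : GL (Ix 1) F => (g : Matrix (Ix 1) (Ix 1) F) (x, 0) (y, 1)) h
  simpa [sN, uM] using this

theorem conj_sN {g : GL (Ix 1) F} {A B : Matrix (Pt 1) (Pt 1) F} (hg : (g : Matrix (Ix 1) (Ix 1) F) = dM A B)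
    {S S' : Matrix (Pt 1) (Pt 1) F} (h : A * S = S' * B) : g * sN S * g⁻¹ = sN S' := by
  rw [mul_inv_eq_iff_eq_mul]
  refine Units.ext ?_
  show g.val * (1 + uM S) = (1 + uM S') * g.val
  rw [hg, mul_add, add_mul, mul_one, one_mul, dM_uM, uM_dM, h]

theorem sform_dot (u v : Ix 1 → F) :
    sform u v = (fun x => u (x, 0)) ⬝ᵥ (fun x => v (x, 1)) - (fun x => u (x, 1)) ⬝ᵥ (fun x => v (x, 0)) := by
  rw [sform, dotProduct, dotProduct, Finset.sum_sub_distrib]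

theorem sN_mem_spM {S : Matrix (Pt 1) (Pt 1) F} (hS : Sᵀ = S) : sN S ∈ spM 1 F := fun u v => by
  have e0 : ∀ (w : Ix 1 → F) x, ((sN S).val *ᵥ w) (x, 0) = w (x, 0) + (S *ᵥ fun y => w (y, 1)) x := fun w x => by
    show ((1 + uM S) *ᵥ w) (x, 0) = _
    rw [Matrix.add_mulVec, Matrix.one_mulVec, Pi.add_apply]
    congr 1
    simp [Matrix.mulVec, dotProduct, uM, Fintype.sum_prod_type, Fin.sum_univ_two]
  have e1 : ∀ (w : Ix 1 → F) x, ((sN S).val *ᵥ w) (x, 1) = w (x, 1) := fun w x => by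
    show ((1 + uM S) *ᵥ w) (x, 1) = _
    rw [Matrix.add_mulVec, Matrix.one_mulVec, Pi.add_apply]
    simp [Matrix.mulVec, dotProduct, uM]
  have key : (S *ᵥ fun x => u (x, 1)) ⬝ᵥ (fun x => v (x, 1)) = (fun x => u (x, 1)) ⬝ᵥ (S *ᵥ fun x => v (x, 1)) := by
    conv_rhs => rw [Matrix.dotProduct_mulVec, ← Matrix.mulVec_transpose, hS]
  rw [sform_dot, sform_dot u v]
  simp only [e0, e1, ← Pi.add_def, add_dotProduct, dotProduct_add, key]
  ring

theorem dM_mem_spM {g : GL (Ix 1) F} {A B : Matrix (Pt 1) (Pt 1) F} (hg : (g : Matrix (Ix 1) (Ix 1) F) = dM A B)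
    (h : Aᵀ * B = 1) : g ∈ spM 1 F := fun u v => by
  have e0 : ∀ (w : Ix 1 → F), (fun x => (g.val *ᵥ w) (x, 0)) = A *ᵥ fun y => w (y, 0) := fun w => by
    funext x
    simp [hg, Matrix.mulVec, dotProduct, dM, Fintype.sum_prod_type, Fin.sum_univ_two]
  have e1 : ∀ (w : Ix 1 → F), (fun x => (g.val *ᵥ w) (x, 1)) = B *ᵥ fun y => w (y, 1) := fun w => by
    funext x
    simp [hg, Matrix.mulVec, dotProduct, dM, Fintype.sum_prod_type, Fin.sum_univ_two]
  have key : ∀ p q : Pt 1 → F, (A *ᵥ p) ⬝ᵥ (B *ᵥ q) = p ⬝ᵥ q := fun p q => by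
    rw [Matrix.dotProduct_mulVec, ← Matrix.mulVec_transpose, Matrix.mulVec_mulVec,
      show Bᵀ * A = 1 by rw [← Matrix.transpose_transpose A, ← Matrix.transpose_mul, h, Matrix.transpose_one],
      Matrix.one_mulVec]
  rw [sform_dot, sform_dot u v, e0, e0, e1, e1, key, dotProduct_comm (B *ᵥ _) (A *ᵥ _), key,
    dotProduct_comm (fun y => v (y, 0))]

/-- A matrix on the two points. -/
def mk2 (a b c d : F) : Matrix (Pt 1) (Pt 1) F :=
  Matrix.of fun x y => if x 0 = 0 then (if y 0 = 0 then a else b) else (if y 0 = 0 then c else d)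

theorem mk2_mul (a b c d a' b' c' d' : F) :
    mk2 a b c d * mk2 a' b' c' d' = mk2 (a * a' + b * c') (a * b' + b * d') (c * a' + d * c') (c * b' + d * d') := by
  ext x y
  rw [Matrix.mul_apply, ← (Equiv.funUnique (Fin 1) (ZMod 2)).symm.sum_comp]
  refine (Fin.sum_univ_two (f := fun t : ZMod 2 => mk2 a b c d x ((Equiv.funUnique (Fin 1) (ZMod 2)).symm t) *
    mk2 a' b' c' d' ((Equiv.funUnique (Fin 1) (ZMod 2)).symm t) y)).trans ?_
  show mk2 a b c d x (fun _ => 0) * mk2 a' b' c' d' (fun _ => 0) y +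
    mk2 a b c d x (fun _ => 1) * mk2 a' b' c' d' (fun _ => 1) y = _
  rcases zm_cases (x 0) with hx | hx <;> rcases zm_cases (y 0) with hy | hy <;> simp [mk2, hx, hy]

theorem mk2_add (a b c d a' b' c' d' : F) :
    mk2 a b c d + mk2 a' b' c' d' = mk2 (a + a') (b + b') (c + c') (d + d') := by
  ext x y
  rcases zm_cases (x 0) with hx | hx <;> rcases zm_cases (y 0) with hy | hy <;> simp [mk2, hx, hy]

theorem mk2_one : mk2 (1 : F) 0 0 1 = 1 := by
  ext x y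
  rcases zm_cases (x 0) with hx | hx <;> rcases zm_cases (y 0) with hy | hy <;>
    simp [mk2, Matrix.one_apply, hx, hy, show x = y ↔ x 0 = y 0 from ⟨fun h => h ▸ rfl, pt1_ext⟩]

theorem mk2_transpose (a b c d : F) : (mk2 a b c d)ᵀ = mk2 a c b d := by
  ext x y
  rcases zm_cases (x 0) with hx | hx <;> rcases zm_cases (y 0) with hy | hy <;> simp [mk2, hx, hy]

theorem ev_dM (P : Par F) (a b : ZMod 2) :
    ((ev P (a, b, 0, 0, 0) : GL (Ix 1) F) : Matrix (Ix 1) (Ix 1) F) =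
      dM (pau F ![a] ![b]).val (pau F ![a] ![b]).val := by
  rw [← upM_eq_dM, ← up_val]
  show (el _ _ _ : GL (Ix 1) F).val = _
  rw [el, qel_zero, map_one, mul_one]

theorem pau_one (a b : ZMod 2) :
    ((pau F ![a] ![b] : GL (Pt 1) F) : Matrix (Pt 1) (Pt 1) F) =
      if a = 0 then mk2 1 0 0 (sgn F b) else mk2 0 (sgn F b) 1 0 := by
  ext x y
  rw [pau_eq, mon_apply, Equiv.coe_addRight]
  have e : x = y + ![a] ↔ x 0 = y 0 + a := ⟨fun h => by rw [h]; simp, fun h => pt1_ext (by simpa using h)⟩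
  have hip : ip ![b] y = b * y 0 := by simp [ip, dotProduct]
  simp only [e, hip]
  rcases zm_cases a with rfl | rfl <;> rcases zm_cases (x 0) with hx | hx <;> rcases zm_cases (y 0) with hy | hy <;>
    simp [mk2, hx, hy, show (1 : ZMod 2) + 1 = 0 by decide]

/-- The escaping element. -/
theorem exists_escape (P : Par F) (h2 : (2 : F) ≠ 0) {K : Subgroup (GL (Ix 1) F)} (hR : Rm P ≤ K)
    (hn : ∀ g ∈ spM 1 F, ∀ k ∈ K, g * k * g⁻¹ ∈ K) :
    ∃ k ∈ K, k ∉ Rm P ∧ ∃ u ∈ Rm P, u * u = -1 ∧ k * u = u * k := by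
  have comm : ∀ r ∈ Rm P, ∀ s ∈ spM 1 F, r * s * r⁻¹ * s⁻¹ ∈ K := fun r hr s hs => by
    rw [show r * s * r⁻¹ * s⁻¹ = r * (s * r⁻¹ * s⁻¹) by group]
    exact mul_mem (hR hr) (hn s hs _ (inv_mem (hR hr)))
  have hX : ((ev P (1, 0, 0, 0, 0) : GL (Ix 1) F) : Matrix (Ix 1) (Ix 1) F) = dM (mk2 0 1 1 0) (mk2 0 1 1 0) := by
    rw [ev_dM, pau_one, if_neg one_ne_zero, sgn_zero]
  have hD : ((ev P (0, 1, 0, 0, 0) : GL (Ix 1) F) : Matrix (Ix 1) (Ix 1) F) =
      dM (mk2 1 0 0 (-1)) (mk2 1 0 0 (-1)) := by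
    rw [ev_dM, pau_one, if_pos rfl, sgn_one]
  -- diagonal corner
  have k1 : sN (mk2 1 0 0 (-1) : Matrix (Pt 1) (Pt 1) F) ∈ K := by
    have h := comm _ (ev_mem P (1, 0, 0, 0, 0)) _ (sN_mem_spM (S := mk2 0 0 0 1) (mk2_transpose _ _ _ _))
    rwa [conj_sN hX (S' := mk2 1 0 0 0) (by simp [mk2_mul]), sN_inv, sN_mul,
      show mk2 (1 : F) 0 0 0 + -mk2 0 0 0 1 = mk2 1 0 0 (-1) by
        rw [← sub_eq_add_neg, sub_eq_iff_eq_add, mk2_add]; congr 1 <;> ring] at h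
  -- off-diagonal corner
  have k2 : sN (mk2 0 1 1 0 : Matrix (Pt 1) (Pt 1) F) ∈ K := by
    have h := comm _ (ev_mem P (0, 1, 0, 0, 0)) _
      (sN_mem_spM (S := mk2 0 (-(2 : F)⁻¹) (-(2 : F)⁻¹) 0) (mk2_transpose _ _ _ _))
    rwa [conj_sN hD (S' := mk2 0 (2 : F)⁻¹ (2 : F)⁻¹ 0) (by simp [mk2_mul]), sN_inv, sN_mul,
      show mk2 0 (2 : F)⁻¹ (2 : F)⁻¹ 0 + -mk2 0 (-(2 : F)⁻¹) (-(2 : F)⁻¹) 0 = mk2 0 1 1 0 by
        rw [← sub_eq_add_neg, sub_eq_iff_eq_add, mk2_add]; congr 1 <;> field_simp <;> ring] at h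
  let g : GL (Ix 1) F :=
    ⟨dM (mk2 1 1 0 1) (mk2 1 0 (-1) 1), dM (mk2 1 (-1) 0 1) (mk2 1 0 1 1), by
      rw [dM_mul, mk2_mul, mk2_mul]; simp [mk2_one, dM_one], by
      rw [dM_mul, mk2_mul, mk2_mul]; simp [mk2_one, dM_one]⟩
  have hg : g ∈ spM 1 F := dM_mem_spM rfl (by rw [mk2_transpose, mk2_mul]; simp [mk2_one])
  have k3 : sN (mk2 0 0 0 (-1) : Matrix (Pt 1) (Pt 1) F) ∈ K := by
    have h := hn g hg _ k1
    rw [conj_sN rfl (S' := mk2 0 (-1) (-1) (-1)) (by simp [mk2_mul])] at h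
    have := mul_mem h k2
    rwa [sN_mul, mk2_add, zero_add, neg_add_cancel, add_zero] at this
  have k4 : sN (mk2 (-1) 0 0 (-1) : Matrix (Pt 1) (Pt 1) F) ∈ K := by
    have h := hn _ (Rm_mem_spM P (ev_mem P (1, 0, 0, 0, 0))) _ k3
    rw [conj_sN hX (S' := mk2 (-1) 0 0 0) (by simp [mk2_mul])] at h
    have := mul_mem h k3
    rwa [sN_mul, mk2_add, zero_add, zero_add, add_zero] at this
  refine ⟨_, k4, fun hk => ?_, ev P (1, 1, 0, 0, 0), ev_mem P _, sq_ev P (by decide), ?_⟩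
  · obtain ⟨x, hx⟩ := exists_code P hk
    have e : ev P (cm (cm x x) (cm x x)) = sN (0 : Matrix (Pt 1) (Pt 1) F) := by
      rw [(show ∀ x, cm (cm x x) (cm x x) = c1 by decide) x, ev_c1]
      exact Units.ext (by simp [sN, uM_zero])
    rw [← ev_mul, ← ev_mul, hx, sN_mul, sN_mul, mk2_add, mk2_add] at e
    have h0 := congrFun (congrFun (sN_inj e) ![0]) ![0]
    simp [mk2] at h0
    exact mul_ne_zero h2 h2 (by linear_combination -h0)
  · refine Units.ext ?_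
    show (1 + uM _) * _ = _ * (1 + uM _)
    rw [ev_dM, pau_one, if_neg one_ne_zero, mul_add, add_mul, dM_uM, uM_dM, one_mul, mul_one, mk2_mul, mk2_mul]
    congr 2
    congr 1 <;> ring

end Cfsg.Agent.C6Sp8
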