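import Cfsg.Agent.Lib.C6Sp8Half56Max
import Cfsg.Agent.Lib.C6Sp8Half56Uni

/-!
In dimension eight, the centraliser of the signs of the first bit inside an overgroup of the normaliser of minus
type normalises the extraspecial group, provided this is so for the centraliser of the complex structure.
-/

set_option autoImplicit false
set_option linter.unusedSectionVars false

namespace Cfsg.Agent.C6Sp8

open Matrix Cfsg.Agent.C6Plus10 Cfsg.Agent.C6Minus10
open scoped MatrixGroups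

variable {F : Type*} [Field F] (P : Par F)

/-! ### Membership in the group of dimension eight -/

/-- A pair with equal entries up to sign. -/
theorem pair_mem {r s : GL (Ix 1) F} (hr : r ∈ Rm P) (h : s = r ∨ s = -r) : two (r, s) ∈ Rm P := by
  obtain ⟨a, b, q, hq, rfl⟩ := hr
  rcases h with rfl | rfl
  · have h := el_split a b 0 q
    rw [sg_zero, one_mul] at h
    rw [h]; exact el_mem P _ _ hq
  · have h := el_split a b 1 q
    rw [sg_one, neg_one_mul, el_neg] at h
    rw [h]; exact el_mem P _ _ hq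

theorem X0_mem : X0 F ∈ Rm P := el_mem P _ _ (one_mem _)

theorem rm_cases {r : GL (Ix 2) F} (hr : r ∈ Rm P) :
    ∃ s t, s ∈ Rm P ∧ (t = s ∨ t = -s) ∧ (r = two (s, t) ∨ r = X0 F * two (s, t)) := by
  obtain ⟨a, b, q, hq, rfl⟩ := hr
  refine ⟨el ![a 1] ![b 1] q, el ![a 1] ![b 1] (sg (b 0) * q), el_mem P _ _ hq, ?_, ?_⟩
  · rcases zm_cases (b 0) with h | h <;> rw [h]
    · exact Or.inl (by rw [sg_zero, one_mul])
    · exact Or.inr (by rw [sg_one, neg_one_mul, el_neg])
  · have hb : ![b 0, ![b 1] 0] = b := funext fun i => by fin_cases i <;> rfl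
    rcases zm_cases (a 0) with h | h
    · left
      rw [el_split, hb, show ![(0 : ZMod 2), ![a 1] 0] = a from funext fun i => by fin_cases i <;> simp [h]]
    · right
      rw [← el_odd, hb, show ![(1 : ZMod 2), ![a 1] 0] = a from funext fun i => by fin_cases i <;> simp [h]]

theorem nr_two_same {g : GL (Ix 1) F} (hg : Nr P g) : Nr P (two (g, g)) := by
  intro r hr
  obtain ⟨s, t, hs, ht, hr'⟩ := rm_cases P hr
  have e : two (g, g) * two (s, t) * (two (g, g))⁻¹ ∈ Rm P := by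
    rw [← map_inv, ← map_mul, ← map_mul]
    exact pair_mem P (hg s hs) (ht.imp (fun h => by simp [h]) (fun h => by simp [h]))
  rcases hr' with rfl | rfl
  · exact e
  · rw [← mul_assoc, ← X0_swap, mul_assoc (X0 F), mul_assoc]
    exact mul_mem (X0_mem P) e

theorem nr_two_one {h : GL (Ix 1) F} (hh : h ∈ Rm P) : Nr P (two (1, h)) := by
  intro r hr
  obtain ⟨s, t, hs, ht, hr'⟩ := rm_cases P hr
  have e : two (1, h) * two (s, t) * (two (1, h))⁻¹ ∈ Rm P := by
    rw [← map_inv, ← map_mul, ← map_mul]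
    refine pair_mem P (by simpa using hs) ?_
    simp only [Prod.fst_mul, Prod.snd_mul, Prod.fst_inv, Prod.snd_inv, one_mul, inv_one, mul_one]
    rcases comm_or P hh hs with h' | h' <;> rcases ht with rfl | rfl <;> simp [h', neg_mul]
  rcases hr' with rfl | rfl
  · exact e
  · have e' : two (1, h) * (X0 F * two (s, t)) * (two (1, h))⁻¹ =
        X0 F * two (h, h⁻¹) * (two (1, h) * two (s, t) * (two (1, h))⁻¹) := by
      have hsw : two (1, h) * X0 F = X0 F * two (h, 1) := (X0_swap h 1).symm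
      rw [← mul_assoc, hsw]
      simp only [← map_inv, mul_assoc, ← map_mul]
      congr 2
      simp [mul_assoc]
    rw [e']
    refine mul_mem (mul_mem (X0_mem P) (pair_mem P hh ?_)) e
    rcases comm_or P hh (inv_mem hh) with h1 | h1 <;> obtain ⟨x, rfl⟩ := exists_code P hh
    · rcases (show ∀ x, cm x x = c1 ∨ cm x x = m1 by decide) x with h' | h'
      · exact Or.inl (inv_eq_of_mul_eq_one_left (by rw [ev_mul, h', ev_c1]))
      · exact Or.inr (inv_eq_of_mul_eq_one_left (by rw [neg_mul, sq_ev P h', neg_neg]))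
    · rw [mul_inv_cancel, inv_mul_cancel] at h1
      rcases (show ∀ x, cm x x = c1 ∨ cm x x = m1 by decide) x with h' | h'
      · exact Or.inl (inv_eq_of_mul_eq_one_left (by rw [ev_mul, h', ev_c1]))
      · exact Or.inr (inv_eq_of_mul_eq_one_left (by rw [neg_mul, sq_ev P h', neg_neg]))

theorem mem_of_nr_two_one {h : GL (Ix 1) F} (hn : Nr P (two (1, h))) : h ∈ Rm P := by
  have e := hn _ (X0_mem P)
  rw [show two (1, h) * X0 F = X0 F * two (h, 1) from (X0_swap h 1).symm, mul_assoc, ← map_inv, ← map_mul] at e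
  obtain ⟨s, t, hs, -, h' | h'⟩ := rm_cases P e
  · exact absurd (eq_mul_inv_of_mul_eq h' |>.trans (by rw [← map_inv, ← map_mul])) (X0_not_two _)
  · have := congrArg Prod.fst (two_inj (mul_left_cancel h'))
    simp at this
    exact this ▸ hs

/-! ### The five involutions -/

/-- The bits of five anticommuting involutions. -/
def zc : Fin 5 → Code :=
  ![(1, 0, 0, 0, 0), (0, 1, 0, 0, 0), (1, 1, 0, 1, 0), (1, 1, 0, 0, 1), (1, 1, 0, 1, 1)]

/-- The five involutions. -/
noncomputable def zz (i : Fin 5) : GL (Ix 1) F := ev P (zc i)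

/-- The element carries one involution to the other up to sign. -/
def Mv (h : GL (Ix 1) F) (i l : Fin 5) : Prop := h * zz P i * h⁻¹ = zz P l ∨ h * zz P i * h⁻¹ = -zz P l

theorem dec_zc_sq : ∀ i, cm (zc i) (zc i) = c1 := by decide

theorem dec_zc_pair : ∀ a b, a ≠ b → cm (zc a) (zc b) = ng (cm (zc b) (zc a)) := by decide

set_option synthInstance.maxSize 1024 in
set_option synthInstance.maxHeartbeats 200000 in
theorem dec_zc_dist : ∀ i l, i ≠ l → zc i ≠ zc l ∧ zc i ≠ ng (zc l) := by decide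

set_option synthInstance.maxSize 1024 in
set_option synthInstance.maxHeartbeats 200000 in
theorem dec_zc_all : ∀ x, cm x x = c1 → x = c1 ∨ x = m1 ∨ ∃ i, x = zc i ∨ x = ng (zc i) := by decide

variable {h g : GL (Ix 1) F} {i l m : Fin 5}

theorem zz_anti {a b : Fin 5} (hab : a ≠ b) : zz P a * zz P b = -(zz P b * zz P a) :=
  anti_ev P (dec_zc_pair a b hab)

theorem zz_sq (i : Fin 5) : zz P i * zz P i = 1 := by rw [zz, ev_mul, dec_zc_sq, ev_c1]

theorem mv_one : Mv P 1 i i := Or.inl (by group)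

theorem mv_mem {r : GL (Ix 1) F} (hr : r ∈ Rm P) : Mv P r i i := by
  rcases comm_or P hr (ev_mem P (zc i)) with e | e
  · exact Or.inl (by show r * ev P _ * _ = _; rw [e, mul_inv_cancel_right]; rfl)
  · exact Or.inr (by show r * ev P _ * _ = _; rw [e, neg_mul, mul_inv_cancel_right]; rfl)

theorem mv_mul (h1 : Mv P g i l) (h2 : Mv P h l m) : Mv P (h * g) i m := by
  have e : h * g * zz P i * (h * g)⁻¹ = h * (g * zz P i * g⁻¹) * h⁻¹ := by group
  rw [Mv, e]
  rcases h1 with h1 | h1 <;> rw [h1] <;> rcases h2 with h2 | h2 <;> simp [mul_neg, neg_mul, h2]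

theorem mv_inv (h1 : Mv P h i l) : Mv P h⁻¹ l i := by
  rcases h1 with h1 | h1
  · exact Or.inl (by rw [← h1]; group)
  · refine Or.inr ?_
    rw [show zz P l = -(h * zz P i * h⁻¹) by rw [h1, neg_neg]]
    simp [mul_neg, neg_mul, mul_assoc]

theorem mv_unique (h2 : (2 : F) ≠ 0) (h1 : Mv P h i l) (h1' : Mv P h i m) : l = m := by
  by_contra hne
  have key : ∀ {a b : Fin 5}, a ≠ b → zz P a ≠ zz P b ∧ zz P a ≠ -zz P b := fun {a b} hab =>
    ⟨fun e => (dec_zc_dist a b hab).1 (ev_inj P h2 e),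
      fun e => (dec_zc_dist a b hab).2 (ev_inj P h2 (e.trans (ev_ng P (zc b)).symm))⟩
  rcases h1 with h1 | h1 <;> rcases h1' with h1' | h1'
  · exact (key hne).1 (h1.symm.trans h1')
  · exact (key hne).2 (h1.symm.trans h1')
  · exact (key (Ne.symm hne)).2 (h1'.symm.trans h1)
  · exact (key hne).1 (neg_inj.mp (h1.symm.trans h1'))

theorem mv_exists (h2 : (2 : F) ≠ 0) (hn : Nr P h) (i : Fin 5) : ∃ l, Mv P h i l := by
  obtain ⟨x, hx⟩ := exists_code P (hn _ (ev_mem P (zc i)))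
  have hsq : cm x x = c1 := ev_inj P h2 (by
    rw [← ev_mul, hx, conj_mul, ev_mul, dec_zc_sq, ev_c1, mul_one, mul_inv_cancel])
  have ne : ∀ c, c = c1 ∨ c = m1 → x ≠ c := by
    intro c hc e
    rw [e] at hx
    have hx' : ev P (zc i) = h⁻¹ * ev P c * h := by rw [hx]; group
    rcases hc with rfl | rfl
    · rw [ev_c1, mul_one, inv_mul_cancel, ← ev_c1 P] at hx'
      exact (show ∀ i, zc i ≠ c1 by decide) i (ev_inj P h2 hx')
    · rw [ev_m1, mul_neg_one, neg_mul, inv_mul_cancel, ← ev_m1 P] at hx'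
      exact (show ∀ i, zc i ≠ m1 by decide) i (ev_inj P h2 hx')
  rcases dec_zc_all x hsq with e | e | ⟨l, e | e⟩
  · exact absurd e (ne _ (Or.inl rfl))
  · exact absurd e (ne _ (Or.inr rfl))
  · exact ⟨l, Or.inl (by rw [zz, zz, ← hx, e])⟩
  · exact ⟨l, Or.inr (by rw [zz, zz, ← hx, e, ev_ng])⟩

theorem pair_sq {a b : Fin 5} (hab : a ≠ b) : (zz P a * zz P b) * (zz P a * zz P b) = -1 := by
  calc zz P a * zz P b * (zz P a * zz P b) = zz P a * (zz P b * zz P a) * zz P b := by simp only [mul_assoc]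
    _ = -1 := by
      rw [zz_anti P hab.symm, mul_neg, neg_mul, ← mul_assoc (zz P a), zz_sq, one_mul, zz_sq]

/-- The rotation attached to an ordered triple, a three-cycle on the five. -/
theorem exists_three (h2 : (2 : F) ≠ 0) {a b c : Fin 5} (hab : a ≠ b) (hbc : b ≠ c) (hca : c ≠ a) :
    ∃ s ∈ spM 1 F, Nr P s ∧ Mv P s a b ∧ Mv P s b c ∧ Mv P s c a ∧
      ∀ e, e ≠ a → e ≠ b → e ≠ c → Mv P s e e := by
  have step : ∀ {x y : Fin 5} (hxy : x ≠ y),
      Mv P (onep h2 _ (pair_sq P hxy)) x y ∧ Mv P (onep h2 _ (pair_sq P hxy)) y x ∧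
        ∀ e, e ≠ x → e ≠ y → Mv P (onep h2 _ (pair_sq P hxy)) e e := fun {x y} hxy => by
    refine ⟨Or.inr ?_, Or.inl ?_, fun e hx hy => Or.inl (onep_comm h2 _ ?_)⟩
    · rw [onep_anti h2 _ (by
        rw [mul_assoc, ← mul_assoc (zz P x) (zz P x), zz_sq, one_mul, zz_anti P hxy.symm, mul_neg,
          ← mul_assoc, zz_sq, one_mul])]
      rw [mul_assoc, zz_anti P hxy.symm, mul_neg, ← mul_assoc, zz_sq, one_mul]
    · rw [onep_anti h2 _ (by
        rw [mul_assoc, zz_sq, mul_one, ← mul_assoc (zz P y), zz_anti P hxy.symm, neg_mul, mul_assoc, zz_sq, mul_one,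
          neg_neg])]
      rw [mul_assoc, zz_sq, mul_one]
    · rw [mul_assoc, zz_anti P (Ne.symm hy), mul_neg, ← mul_assoc, zz_anti P (Ne.symm hx), neg_mul, neg_neg,
        mul_assoc]
  obtain ⟨u1, u2, u3⟩ := step hab
  obtain ⟨v1, v2, v3⟩ := step hbc
  have hu' : zz P a * zz P b ∈ Rm P := mul_mem (ev_mem P _) (ev_mem P _)
  have hv' : zz P b * zz P c ∈ Rm P := mul_mem (ev_mem P _) (ev_mem P _)
  have conv : ∀ {i l}, Mv P (onep h2 _ (pair_sq P hab) * onep h2 _ (pair_sq P hbc)) i l →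
      Mv P (rot h2 _ _ (pair_sq P hab) (pair_sq P hbc)) i l := fun {i l} h => by
    have e : ∀ x, rot h2 _ _ (pair_sq P hab) (pair_sq P hbc) * x * (rot h2 _ _ (pair_sq P hab) (pair_sq P hbc))⁻¹ =
        onep h2 _ (pair_sq P hab) * onep h2 _ (pair_sq P hbc) * x *
          (onep h2 _ (pair_sq P hab) * onep h2 _ (pair_sq P hbc))⁻¹ := fun x => by rw [rot_conj]; group
    rw [Mv, e]; exact h
  exact ⟨_, rot_mem_spM h2 _ _ (Rm_mem_spM P hu') (Rm_mem_spM P hv'), rot_nr P h2 _ _ hu' hv',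
    conv (mv_mul P (v3 a hab hca.symm) u1), conv (mv_mul P v1 (u3 c hca hbc.symm)),
    conv (mv_mul P v2 u2), fun e ea eb ec => conv (mv_mul P (v3 e eb ec) (u3 e ea eb))⟩

theorem dec_four : ∀ a b c : Fin 5, ∀ d : Fin 5, ∃ e, e ≠ a ∧ e ≠ b ∧ e ≠ c ∧ e ≠ d := by decide

set_option synthInstance.maxSize 1024 in
set_option synthInstance.maxHeartbeats 200000 in
theorem dec_rest : ∀ a b c : Fin 5, a ≠ b → b ≠ c → c ≠ a →
    ∃ d e, d ≠ e ∧ d ≠ a ∧ d ≠ b ∧ d ≠ c ∧ e ≠ a ∧ e ≠ b ∧ e ≠ c ∧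
      ∀ x, x = a ∨ x = b ∨ x = c ∨ x = d ∨ x = e := by decide

/-- The elements of a subgroup normalised by the normaliser, lying in the normaliser and subject to the condition
on commuting elements of square minus one, lie in the extraspecial group. -/
theorem mem_of_nr [Fintype F] (h2 : (2 : F) ≠ 0) {K : Subgroup (GL (Ix 1) F)} (hR : Rm P ≤ K)
    (hn : ∀ s ∈ spM 1 F, Nr P s → ∀ k ∈ K, s * k * s⁻¹ ∈ K)
    (star : ∀ k ∈ K, ∀ u ∈ Rm P, u * u = -1 → k * u = u * k → k ∈ Rm P)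
    {h : GL (Ix 1) F} (hh : h ∈ K) (hhn : Nr P h) : h ∈ Rm P := by
  -- fixing a pair
  have pair : ∀ {k : GL (Ix 1) F}, k ∈ K → ∀ a b : Fin 5, a ≠ b →
      (Mv P k a a ∧ Mv P k b b ∨ Mv P k a b ∧ Mv P k b a) → k ∈ Rm P := by
    intro k hk a b hab hmv
    set u := zz P a * zz P b with hu
    have e : k * u * k⁻¹ = (k * zz P a * k⁻¹) * (k * zz P b * k⁻¹) := by rw [hu]; group
    have hu' : u ∈ Rm P := mul_mem (ev_mem P _) (ev_mem P _)
    have hba : zz P b * zz P a = -u := zz_anti P hab.symm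
    have hpm : k * u * k⁻¹ = u ∨ k * u * k⁻¹ = -u := by
      rw [e]
      rcases hmv with ⟨h1, h1'⟩ | ⟨h1, h1'⟩
      · rcases h1 with h1 | h1 <;> rcases h1' with h1' | h1' <;>
          simp [h1, h1', neg_mul, mul_neg, ← hu]
      · rcases h1 with h1 | h1 <;> rcases h1' with h1' | h1' <;>
          simp [h1, h1', neg_mul, mul_neg, hba]
    rcases hpm with e' | e'
    · exact star k hk u hu' (pair_sq P hab) (mul_inv_eq_iff_eq_mul.mp e')
    · have := star (zz P a * k) (mul_mem (hR (ev_mem P _)) hk) u hu' (pair_sq P hab) (by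
        rw [mul_assoc, mul_inv_eq_iff_eq_mul.mp e', ← mul_assoc, ← mul_assoc u]
        congr 1
        rw [hu, mul_neg, mul_assoc (zz P a) (zz P b), zz_anti P hab.symm, mul_neg])
      simpa [zz] using mul_mem (inv_mem (ev_mem P (zc a))) this
  choose π hπ using mv_exists P h2 hhn
  have hπi : Function.Injective π := fun i l e => by
    have h2' : Mv P h⁻¹ (π i) l := by rw [e]; exact mv_inv P (hπ l)
    exact mv_unique P h2 (mv_inv P (hπ i)) h2'
  by_cases hfix : ∀ i, π i = i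
  · exact pair hh 0 1 (by decide) (Or.inl ⟨by have := hπ 0; rwa [hfix 0] at this,
      by have := hπ 1; rwa [hfix 1] at this⟩)
  push Not at hfix
  obtain ⟨a, ha⟩ := hfix
  set b := π a with hb
  set c := π b with hc
  set d := π c with hd
  have hab : a ≠ b := Ne.symm ha
  have hbc : b ≠ c := fun e => hab (hπi (hb.symm.trans (e.trans hc)))
  by_cases hca : c = a
  · exact pair hh a b hab (Or.inr ⟨hπ a, by have := hπ b; rwa [← hc, hca] at this⟩)
  by_cases hda : d = a
  · obtain ⟨x, y, hxy, xa, xb, xc, ya, yb, yc, hall⟩ := dec_rest a b c hab hbc hca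
    have stay : ∀ z, z ≠ a → z ≠ b → z ≠ c → π z = x ∨ π z = y := fun z za zb zc' => by
      rcases hall (π z) with e | e | e | e | e
      · exact absurd (hπi (e.trans hda.symm)) zc'
      · exact absurd (hπi (e.trans hb)) za
      · exact absurd (hπi (e.trans hc)) zb
      · exact Or.inl e
      · exact Or.inr e
    rcases stay x xa xb xc with e | e
    · rcases stay y ya yb yc with e' | e'
      · exact absurd (hπi (e.trans e'.symm)) hxy
      · exact pair hh x y hxy (Or.inl ⟨by have := hπ x; rwa [e] at this, by have := hπ y; rwa [e'] at this⟩)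
    · rcases stay y ya yb yc with e' | e'
      · exact pair hh x y hxy (Or.inr ⟨by have := hπ x; rwa [e] at this, by have := hπ y; rwa [e'] at this⟩)
      · exact absurd (hπi (e.trans e'.symm)) hxy
  -- the commutator with a three-cycle
  exfalso
  obtain ⟨s, hs, hsn, sab, sbc, sca, sfix⟩ := exists_three P h2 hab hbc hca
  have hk : h * (s * h⁻¹ * s⁻¹) ∈ K := mul_mem hh (hn s hs hsn _ (inv_mem hh))
  have hac : Mv P h a b := hπ a
  have hbc' : Mv P h b c := hπ b
  have hcd : Mv P h c d := hπ c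
  have kc : Mv P (h * (s * h⁻¹ * s⁻¹)) c c :=
    mv_mul P (mv_mul P (mv_inv P sbc) (mv_mul P (mv_inv P hac) sab)) hbc'
  obtain ⟨e, ea, eb, ec, ed⟩ := dec_four a b c d
  obtain ⟨f, rfl⟩ := (Finite.injective_iff_surjective.mp hπi) e
  have fa : f ≠ a := fun e' => eb (by rw [e', hb])
  have fb : f ≠ b := fun e' => ec (by rw [e', hc])
  have fc : f ≠ c := fun e' => ed (by rw [e', hd])
  have ke : Mv P (h * (s * h⁻¹ * s⁻¹)) (π f) (π f) :=
    mv_mul P (mv_mul P (mv_inv P (sfix _ ea eb ec)) (mv_mul P (mv_inv P (hπ f)) (sfix _ fa fb fc))) (hπ f)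
  have hmem := pair hk c (π f) (Ne.symm ec) (Or.inl ⟨kc, ke⟩)
  have ka : Mv P (h * (s * h⁻¹ * s⁻¹)) a d :=
    mv_mul P (mv_mul P (mv_inv P sca) (mv_mul P (mv_inv P hbc') sbc)) hcd
  exact hda (mv_unique P h2 ka (mv_mem P hmem))

/-! ### The theorem -/

/-- The centraliser of the signs of the first bit normalises. -/
theorem half_nr [Fintype F] (hp : (Fintype.card F).Prime) (hodd : Odd (Fintype.card F))
    {M : Subgroup (GL (Ix 2) F)} (hMS : M ≤ spM 2 F) (hN : ∀ g ∈ spM 2 F, Nr P g → g ∈ M)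
    (hJ : ∀ g ∈ M, g * cst jq = cst jq * g → Nr P g) :
    ∀ g ∈ M, g * up (sd F (ip (pe (0 : Fin 2)))) = up (sd F (ip (pe (0 : Fin 2)))) * g → Nr P g := by
  intro g hg hgz
  have h2 : (2 : F) ≠ 0 := Ring.two_ne_zero fun hc => by
    have := FiniteField.even_card_of_char_two (F := F) hc
    rw [Nat.odd_iff] at hodd
    omega
  obtain ⟨⟨g0, g1⟩, rfl⟩ := exists_two h2 hgz
  let K : Subgroup (GL (Ix 1) F) := M.comap (two.comp (MonoidHom.inr _ _))
  have hK : ∀ k, k ∈ K ↔ two (1, k) ∈ M := fun k => Iff.rfl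
  let H : Subgroup (GL (Ix 1) F) := (M.comap two).map (MonoidHom.snd _ _)
  have hdbl : ∀ s ∈ spM 1 F, Nr P s → two (s, s) ∈ M := fun s hs hsn =>
    hN _ (two_mem_spM.mpr ⟨hs, hs⟩) (nr_two_same P hsn)
  have hRK : Rm P ≤ K := fun r hr =>
    (hK r).mpr (hN _ (two_mem_spM.mpr ⟨one_mem _, Rm_mem_spM P hr⟩) (nr_two_one P hr))
  have hHK : ∀ a ∈ H, ∀ k ∈ K, a * k * a⁻¹ ∈ K := by
    rintro _ ⟨⟨b, a⟩, hab, rfl⟩ k hk
    have hab' : two (b, a) ∈ M := hab
    have := mul_mem (mul_mem hab' ((hK k).mp hk)) (inv_mem hab')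
    rw [← map_inv, ← map_mul, ← map_mul] at this
    simpa [hK] using this
  have hHle : H ≤ spM 1 F := by
    rintro _ ⟨⟨b, a⟩, hab, rfl⟩
    exact (two_mem_spM.mp (hMS hab)).2
  have hNH : ∀ s ∈ spM 1 F, Nr P s → s ∈ H := fun s hs hsn => ⟨(s, s), hdbl s hs hsn, rfl⟩
  have star : ∀ k ∈ K, ∀ u ∈ Rm P, u * u = -1 → k * u = u * k → k ∈ Rm P := by
    intro k hk u hu huu hku
    obtain ⟨n, hn, hnn, hnu⟩ := exists_rot P h2 hu huu
    have hk' : n⁻¹ * k * n ∈ K := by
      simpa using hHK n⁻¹ (inv_mem (hNH n hn hnn)) k hk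
    have hc : n⁻¹ * k * n * cst jq = cst jq * (n⁻¹ * k * n) := by
      have e : n⁻¹ * k * n * cst jq = n⁻¹ * (k * (n * cst jq * n⁻¹)) * n := by group
      have e' : cst jq * (n⁻¹ * k * n) = n⁻¹ * ((n * cst jq * n⁻¹) * k) * n := by group
      rw [e, e']
      rcases hnu with h | h <;> simp [h, hku]
    have := mem_of_nr_two_one P (hJ _ ((hK _).mp hk') (by rw [cst_two, ← map_mul, ← map_mul]; simp [hc]))
    simpa [mul_assoc] using hnn _ this
  rcases normalizer_maximal P hp hodd hHle hNH with hH | hH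
  · have hX : X0 F ∈ M := hN _ X0_mem_spM (nr_of_mem P (X0_mem P))
    have hsw : two (g1, g0) ∈ M := by
      have := mul_mem (mul_mem hX hg) hX
      rwa [X0_swap, mul_assoc, X0_sq, mul_one] at this
    have hn1 : Nr P g1 := hH g1 ⟨(g0, g1), hg, rfl⟩
    have hn0 : Nr P g0 := hH g0 ⟨(g1, g0), hsw, rfl⟩
    have hs0 : g0 ∈ spM 1 F := (two_mem_spM.mp (hMS hg)).1
    have hk : g0⁻¹ * g1 ∈ K := (hK _).mpr (by
      have := mul_mem (inv_mem (hdbl g0 hs0 hn0)) hg
      rw [← map_inv, ← map_mul] at this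
      simpa using this)
    have hr := mem_of_nr P h2 hRK (fun s hs hsn => hHK s (hNH s hs hsn)) star hk (nr_mul P (nr_inv P hn0) hn1)
    have := nr_mul P (nr_two_same P hn0) (nr_two_one P hr)
    rw [← map_mul] at this
    simpa using this
  · obtain ⟨k, hk, hkR, u, hu, huu, hku⟩ := exists_escape P h2 hRK fun a ha => hHK a (hH ha)
    exact absurd (star k hk u hu huu hku) hkR

end Cfsg.Agent.C6Sp8
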