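import Cfsg.Agent.Lib.C6Sp8Half56Two
import Cfsg.Agent.Lib.C6Minus10Coord

/-!
The elements of the extraspecial group in dimension four by five bits, and the rotations belonging to pairs of
anticommuting elements of square minus one.
-/

set_option autoImplicit false
set_option linter.unusedSectionVars false

namespace Cfsg.Agent.C6Sp8

open Matrix Cfsg.Agent.C6Plus10 Cfsg.Agent.C6Minus10
open scoped MatrixGroups

variable {F : Type*} [Field F]

/-- The bits of an element. -/
abbrev Code : Type := ZMod 2 × ZMod 2 × ZMod 2 × ZMod 2 × ZMod 2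

/-- The product of bits. -/
def cm : Code → Code → Code
  | (a, b, c, d, e), (a', b', c', d', e') =>
    (a + a', b + b', b * a' + c + c' + e * d' + d * d' + e * e', d + d', e + e')

/-- The neutral bits. -/
def c1 : Code := (0, 0, 0, 0, 0)

/-- The bits of minus one. -/
def m1 : Code := (0, 0, 1, 0, 0)

/-- The bits of the complex structure. -/
def cJ : Code := (0, 0, 0, 1, 0)

/-- The bits of the negative. -/
def ng : Code → Code
  | (a, b, c, d, e) => (a, b, c + 1, d, e)

/-- The element with the given bits. -/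
noncomputable def ev (P : Par F) : Code → GL (Ix 1) F
  | (a, b, c, d, e) => el ![a] ![b] (qel P c d e)

variable (P : Par F)

theorem qel_sg (s c d e : ZMod 2) : sg s * qel P c d e = qel P (s + c) d e := by
  simp only [qel, ← mul_assoc, ← sg_add]

theorem ev_mul (x y : Code) : ev P x * ev P y = ev P (cm x y) := by
  obtain ⟨a, b, c, d, e⟩ := x
  obtain ⟨a', b', c', d', e'⟩ := y
  simp only [ev, cm, el_mul, qel_sg, qel_mul]
  congr 1
  · exact pt1_ext rfl
  · exact pt1_ext rfl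
  · congr 1
    simp [ip, dotProduct]

theorem ev_c1 : ev P c1 = 1 := by
  show el _ _ _ = _
  rw [qel_zero, ← el_zero (j := 1)]
  congr 1 <;> exact pt1_ext rfl

theorem ev_ng (x : Code) : ev P (ng x) = -ev P x := by
  obtain ⟨a, b, c, d, e⟩ := x
  simp only [ev, ng]
  rw [← el_neg, ← neg_one_mul, ← sg_one, qel_sg, add_comm]

theorem ev_m1 : ev P m1 = -1 := by
  rw [show m1 = ng c1 from rfl, ev_ng, ev_c1]

theorem ev_cJ : ev P cJ = cst jq := by
  show el _ _ _ = _
  rw [← el_cst]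
  congr 1
  · exact pt1_ext rfl
  · exact pt1_ext rfl
  · simp [qel]

theorem ev_mem (x : Code) : ev P x ∈ Rm P := by
  obtain ⟨a, b, c, d, e⟩ := x
  exact el_mem P _ _ (qel_mem P c d e)

theorem exists_code {r : GL (Ix 1) F} (hr : r ∈ Rm P) : ∃ x, ev P x = r := by
  obtain ⟨a, b, q, ⟨c, d, e, rfl⟩, rfl⟩ := hr
  refine ⟨(a 0, b 0, c, d, e), ?_⟩
  simp only [ev]
  congr 1 <;> exact pt1_ext rfl

theorem dec_anti : ∀ x, x = c1 ∨ x = m1 ∨ ∃ y, cm x y = ng (cm y x) := by decide

theorem dec_comm : ∀ x y, cm x y = cm y x ∨ cm x y = ng (cm y x) := by decide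

theorem dec_inv : ∀ x, cm x (cm x (cm x x)) = c1 := by decide

theorem dec_eq : ∀ x y, cm x (cm y (cm y y)) = c1 → x = y := by decide

/-- Every pair of elements commutes or anticommutes. -/
theorem comm_or {r s : GL (Ix 1) F} (hr : r ∈ Rm P) (hs : s ∈ Rm P) : r * s = s * r ∨ r * s = -(s * r) := by
  obtain ⟨x, rfl⟩ := exists_code P hr
  obtain ⟨y, rfl⟩ := exists_code P hs
  rw [ev_mul, ev_mul, ← ev_ng]
  exact (dec_comm x y).imp (congrArg _) (congrArg _)

theorem neg_ne {j : ℕ} (h2 : (2 : F) ≠ 0) (g : GL (Ix j) F) : g ≠ -g := fun h => by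
  have h1 := congrArg (fun u : GL (Ix j) F => ((g⁻¹ * u : GL (Ix j) F) : Matrix (Ix j) (Ix j) F) (0, 0) (0, 0)) h
  simp at h1
  exact h2 (by linear_combination h1)

theorem ev_inj (h2 : (2 : F) ≠ 0) {x y : Code} (h : ev P x = ev P y) : x = y := by
  apply dec_eq
  have e : ev P (cm x (cm y (cm y y))) = 1 := by
    rw [← ev_mul, h, ev_mul, dec_inv, ev_c1]
  generalize cm x (cm y (cm y y)) = w at e ⊢
  rcases dec_anti w with h' | h' | ⟨z, hz⟩
  · exact h'
  · rw [h', ev_m1] at e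
    exact absurd e.symm (neg_ne h2 _)
  · have := congrArg (ev P) hz
    rw [ev_ng, ← ev_mul, ← ev_mul, e, one_mul, mul_one] at this
    exact absurd this (neg_ne h2 _)

theorem ev_sign (x : Code) {g : GL (Ix 1) F} (h : g = ev P x ∨ g = -ev P x) : g ∈ Rm P := by
  rcases h with rfl | rfl
  · exact ev_mem P x
  · rw [← ev_ng]; exact ev_mem P _

theorem Rm_mem_spM {j : ℕ} {r : GL (Ix j) F} (hr : r ∈ Rm P) : r ∈ spM j F := by
  obtain ⟨a, b, q, hq, rfl⟩ := hr
  refine mul_mem (up_mem_spM ?_) (blk_mem_spM fun _ => base_of_gens.q8_det P hq)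
  rw [pau_eq, mon, Units.val_mul, Matrix.transpose_mul, Matrix.mul_assoc, ← Matrix.mul_assoc ((pm F _).val)ᵀ,
    pm_orth, Matrix.one_mul, sd_orth]

theorem nr_of_mem {j : ℕ} {r : GL (Ix j) F} (hr : r ∈ Rm P) : Nr P r :=
  fun _ hs => mul_mem (mul_mem hr hs) (inv_mem hr)

/-! ### Rotations -/

theorem sform_add_left {j : ℕ} (u u' v : Ix j → F) : sform (u + u') v = sform u v + sform u' v := by
  simp only [sform, ← Finset.sum_add_distrib, Pi.add_apply]
  exact Finset.sum_congr rfl fun x _ => by ring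

theorem sform_add_right {j : ℕ} (u v v' : Ix j → F) : sform u (v + v') = sform u v + sform u v' := by
  simp only [sform, ← Finset.sum_add_distrib, Pi.add_apply]
  exact Finset.sum_congr rfl fun x _ => by ring

theorem sform_smul {j : ℕ} (a b : F) (u v : Ix j → F) : sform (a • u) (b • v) = a * b * sform u v := by
  simp only [sform, Finset.mul_sum, Pi.smul_apply, smul_eq_mul]
  exact Finset.sum_congr rfl fun x _ => by ring

theorem sform_neg {j : ℕ} (u v : Ix j → F) : sform (-u) v = -sform u v := by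
  simp only [sform, ← Finset.sum_neg_distrib, Pi.neg_apply]
  exact Finset.sum_congr rfl fun x _ => by ring

/-- One plus an element of square minus one. -/
def onep (h2 : (2 : F) ≠ 0) {j : ℕ} (r : GL (Ix j) F) (hr : r * r = -1) : GL (Ix j) F where
  val := 1 + r.val
  inv := (2 : F)⁻¹ • (1 - r.val)
  val_inv := by
    have e : r.val * r.val = -1 := by rw [← Units.val_mul, hr, Units.val_neg, Units.val_one]
    rw [Matrix.mul_smul, add_mul, one_mul, mul_sub, mul_one, e, show (1 - r.val) + (r.val - -1) = (2 : F) • 1 by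
      rw [two_smul]; abel, inv_smul_smul₀ h2]
  inv_val := by
    have e : r.val * r.val = -1 := by rw [← Units.val_mul, hr, Units.val_neg, Units.val_one]
    rw [Matrix.smul_mul, sub_mul, one_mul, mul_add, mul_one, e, show (1 + r.val) - (r.val + -1) = (2 : F) • 1 by
      rw [two_smul]; abel, inv_smul_smul₀ h2]

theorem onep_comm (h2 : (2 : F) ≠ 0) {j : ℕ} {r : GL (Ix j) F} (hr : r * r = -1) {x : GL (Ix j) F}
    (h : r * x = x * r) : onep h2 r hr * x * (onep h2 r hr)⁻¹ = x := by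
  rw [mul_inv_eq_iff_eq_mul]
  refine Units.ext ?_
  show (1 + r.val) * x.val = x.val * (1 + r.val)
  rw [add_mul, mul_add, one_mul, mul_one, ← Units.val_mul, h, Units.val_mul]

theorem onep_anti (h2 : (2 : F) ≠ 0) {j : ℕ} {r : GL (Ix j) F} (hr : r * r = -1) {x : GL (Ix j) F}
    (h : r * x = -(x * r)) : onep h2 r hr * x * (onep h2 r hr)⁻¹ = r * x := by
  rw [mul_inv_eq_iff_eq_mul]
  refine Units.ext ?_
  show (1 + r.val) * x.val = (r * x).val * (1 + r.val)
  have e : r.val * r.val = -1 := by rw [← Units.val_mul, hr, Units.val_neg, Units.val_one]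
  have h' : x.val * r.val = -(r.val * x.val) := by
    rw [← Units.val_mul, ← Units.val_mul, h, Units.val_neg, neg_neg]
  rw [Units.val_mul, mul_add, mul_one, mul_assoc r.val, h', mul_neg, ← mul_assoc, e, add_mul, one_mul, neg_one_mul,
    neg_neg, add_comm]

theorem sform_skew_sum {j : ℕ} {r : GL (Ix j) F} (hr : r * r = -1) (hs : r ∈ spM j F) (u v : Ix j → F) :
    sform ((1 + r.val) *ᵥ u) ((1 + r.val) *ᵥ v) = 2 * sform u v := by
  have e : r.val * r.val = -1 := by rw [← Units.val_mul, hr, Units.val_neg, Units.val_one]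
  have hsk : sform u (r.val *ᵥ v) = -sform (r.val *ᵥ u) v := by
    rw [← hs (r.val *ᵥ u) v, Matrix.mulVec_mulVec, e, Matrix.neg_mulVec, Matrix.one_mulVec, sform_neg, neg_neg]
  rw [Matrix.add_mulVec, Matrix.add_mulVec, Matrix.one_mulVec, Matrix.one_mulVec, sform_add_left, sform_add_right,
    sform_add_right, hs u v, hsk]
  ring

/-- One half, as a scalar. -/
def halfU (h2 : (2 : F) ≠ 0) (j : ℕ) : GL (Ix j) F where
  val := (2 : F)⁻¹ • 1
  inv := (2 : F) • 1
  val_inv := by rw [Matrix.smul_mul, one_mul, inv_smul_smul₀ h2]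
  inv_val := by rw [Matrix.smul_mul, one_mul, smul_inv_smul₀ h2]

theorem halfU_comm (h2 : (2 : F) ≠ 0) {j : ℕ} (x : GL (Ix j) F) : halfU h2 j * x * (halfU h2 j)⁻¹ = x := by
  rw [mul_inv_eq_iff_eq_mul]
  refine Units.ext ?_
  show ((2 : F)⁻¹ • (1 : Matrix (Ix j) (Ix j) F)) * x.val = x.val * ((2 : F)⁻¹ • 1)
  rw [Matrix.smul_mul, Matrix.mul_smul, one_mul, mul_one]

/-- The rotation of a pair of anticommuting elements of square minus one. -/
def rot (h2 : (2 : F) ≠ 0) {j : ℕ} (u v : GL (Ix j) F) (hu : u * u = -1) (hv : v * v = -1) : GL (Ix j) F :=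
  halfU h2 j * (onep h2 u hu * onep h2 v hv)

theorem rot_conj (h2 : (2 : F) ≠ 0) {j : ℕ} {u v : GL (Ix j) F} (hu : u * u = -1) (hv : v * v = -1)
    (x : GL (Ix j) F) : rot h2 u v hu hv * x * (rot h2 u v hu hv)⁻¹ =
      onep h2 u hu * (onep h2 v hv * x * (onep h2 v hv)⁻¹) * (onep h2 u hu)⁻¹ := by
  conv_rhs => rw [← halfU_comm h2 (onep h2 u hu * _ * _)]
  rw [rot]
  group

theorem rot_mem_spM (h2 : (2 : F) ≠ 0) {j : ℕ} {u v : GL (Ix j) F} (hu : u * u = -1) (hv : v * v = -1)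
    (hu' : u ∈ spM j F) (hv' : v ∈ spM j F) : rot h2 u v hu hv ∈ spM j F := fun x y => by
  rw [rot, Units.val_mul, Units.val_mul]
  show sform ((((2 : F)⁻¹ • (1 : Matrix (Ix j) (Ix j) F)) * ((1 + u.val) * (1 + v.val))) *ᵥ x)
    ((((2 : F)⁻¹ • (1 : Matrix (Ix j) (Ix j) F)) * ((1 + u.val) * (1 + v.val))) *ᵥ y) = _
  rw [Matrix.smul_mul, one_mul, Matrix.smul_mulVec, Matrix.smul_mulVec, sform_smul, ← Matrix.mulVec_mulVec,
    ← Matrix.mulVec_mulVec, sform_skew_sum hu hu', sform_skew_sum hv hv']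
  field_simp

theorem rot_nr (h2 : (2 : F) ≠ 0) {u v : GL (Ix 1) F} (hu : u * u = -1) (hv : v * v = -1)
    (hu' : u ∈ Rm P) (hv' : v ∈ Rm P) : Nr P (rot h2 u v hu hv) := by
  have key : ∀ {w : GL (Ix 1) F} (hw : w * w = -1), w ∈ Rm P → Nr P (onep h2 w hw) := fun {w} hw hw' s hs => by
    rcases comm_or P hw' hs with h | h
    · rw [onep_comm h2 hw h]; exact hs
    · rw [onep_anti h2 hw h]; exact mul_mem hw' hs
  intro s hs
  rw [rot_conj]
  exact key hu hu' _ (key hv hv' s hs)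

/-- The rotation turns its first element into the second. -/
theorem rot_fst (h2 : (2 : F) ≠ 0) {j : ℕ} {u v : GL (Ix j) F} (hu : u * u = -1) (hv : v * v = -1)
    (h : v * u = -(u * v)) : rot h2 u v hu hv * u * (rot h2 u v hu hv)⁻¹ = v := by
  rw [rot_conj, onep_anti h2 hv h, onep_anti h2 hu (x := v * u)]
  · rw [h, mul_neg, ← mul_assoc, hu, neg_one_mul, neg_neg]
  · rw [h, mul_neg, neg_mul, neg_neg, mul_assoc, h, mul_neg]

set_option synthInstance.maxSize 1024 in
set_option synthInstance.maxHeartbeats 200000 in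
theorem dec_rot : ∀ x, cm x x = m1 → x = cJ ∨ x = ng cJ ∨ cm x cJ = ng (cm cJ x) ∨
    ∃ v, cm v v = m1 ∧ cm v x = ng (cm x v) ∧ cm cJ v = ng (cm v cJ) := by decide

theorem sq_ev {x : Code} (h : cm x x = m1) : ev P x * ev P x = -1 := by rw [ev_mul, h, ev_m1]

theorem anti_ev {x y : Code} (h : cm x y = ng (cm y x)) : ev P x * ev P y = -(ev P y * ev P x) := by
  rw [ev_mul, ev_mul, h, ev_ng]

/-- An element of square minus one is carried from the complex structure, up to sign, by an isometry of the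
normaliser. -/
theorem exists_rot (h2 : (2 : F) ≠ 0) {u : GL (Ix 1) F} (hu' : u ∈ Rm P) (hu : u * u = -1) :
    ∃ n ∈ spM 1 F, Nr P n ∧ (n * cst jq * n⁻¹ = u ∨ n * cst jq * n⁻¹ = -u) := by
  obtain ⟨x, rfl⟩ := exists_code P hu'
  have hx : cm x x = m1 := ev_inj P h2 (by rw [← ev_mul, hu, ev_m1])
  have hJ : cm cJ cJ = m1 := by decide
  rw [← ev_cJ P]
  have sp : ∀ {a b : Code} (ha : cm a a = m1) (hb : cm b b = m1),
      rot h2 (ev P a) (ev P b) (sq_ev P ha) (sq_ev P hb) ∈ spM 1 F := fun ha hb =>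
    rot_mem_spM h2 _ _ (Rm_mem_spM P (ev_mem P _)) (Rm_mem_spM P (ev_mem P _))
  have nr : ∀ {a b : Code} (ha : cm a a = m1) (hb : cm b b = m1),
      Nr P (rot h2 (ev P a) (ev P b) (sq_ev P ha) (sq_ev P hb)) := fun ha hb =>
    rot_nr P h2 _ _ (ev_mem P _) (ev_mem P _)
  rcases dec_rot x hx with rfl | rfl | h | ⟨v, hv, h, h'⟩
  · exact ⟨1, one_mem _, fun r hr => by simpa using hr, Or.inl (by group)⟩
  · exact ⟨1, one_mem _, fun r hr => by simpa using hr, Or.inr (by rw [ev_ng, neg_neg]; group)⟩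
  · exact ⟨_, sp hJ hx, nr hJ hx, Or.inl (rot_fst h2 _ _ (anti_ev P h))⟩
  · refine ⟨rot h2 (ev P v) (ev P x) (sq_ev P hv) (sq_ev P hx) * rot h2 (ev P cJ) (ev P v) (sq_ev P hJ) (sq_ev P hv),
      mul_mem (sp hv hx) (sp hJ hv), nr_mul P (nr hv hx) (nr hJ hv), Or.inl ?_⟩
    have e1 := rot_fst h2 (sq_ev P hJ) (sq_ev P hv) (by rw [anti_ev P h', neg_neg])
    have e2 := rot_fst h2 (sq_ev P hv) (sq_ev P hx) (by rw [anti_ev P h, neg_neg])
    refine Eq.trans ?_ e2
    generalize rot h2 (ev P v) (ev P x) (sq_ev P hv) (sq_ev P hx) = A at *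
    refine Eq.trans ?_ (congrArg (fun t => A * t * A⁻¹) e1)
    group

end Cfsg.Agent.C6Sp8
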