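import Cfsg.Agent.Lib.Frame10Descent

/-!
A reflection-closed set of unit vectors in five or more coordinates: the descent without a zero coordinate.
-/

set_option autoImplicit false
set_option linter.unusedSectionVars false
set_option linter.style.haveILetI false
set_option maxHeartbeats 800000

namespace Cfsg.Agent.Frame10Five83

open Cfsg.Agent.Frame10
open Cfsg.Agent.Frame10Tern (nrm dt rf Sym e₁ e₂)
open scoped Matrix

variable {F : Type*} [Field F] {ι : Type*} [Fintype ι] [DecidableEq ι] [Fintype F] {R : (ι → F) → Prop}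

theorem swap_any (hR : RSet R) {x : ι → F} (hx : R x) {m m' : ι} (hm : m ≠ m')
    (hsq : x m * x m = x m' * x m') (a b : ι) : R (x ∘ Equiv.swap a b) := by
  rcases eq_or_ne a b with rfl | hab
  · simpa using hx
  refine same_squares hR (hR.perm x a b m m' hx hab hm) fun t => ?_
  simp only [Function.comp_apply, Equiv.Perm.mul_apply]
  rcases eq_or_ne (Equiv.swap a b t) m with e | h1
  · rw [e, Equiv.swap_apply_left, hsq]
  rcases eq_or_ne (Equiv.swap a b t) m' with e | h1'
  · rw [e, Equiv.swap_apply_right, hsq]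
  rw [Equiv.swap_apply_of_ne_of_ne h1 h1']

theorem exists_two' (hn : 5 ≤ Fintype.card ι) (A : Finset ι) (hA : A.card + 2 ≤ Fintype.card ι) :
    ∃ m m', m ≠ m' ∧ m ∉ A ∧ m' ∉ A := by
  obtain ⟨m, hm, m', hm', hne⟩ := Finset.one_lt_card.1 (show 1 < Aᶜ.card by rw [Finset.card_compl]; omega)
  exact ⟨m, m', hne, Finset.mem_compl.1 hm, Finset.mem_compl.1 hm'⟩

theorem swap_small' (hR : RSet R) (hn : 5 ≤ Fintype.card ι) {x : ι → F} (hx : R x) (hw : (supp x).card ≤ 3)
    (a b : ι) : R (x ∘ Equiv.swap a b) := by
  obtain ⟨m, m', hm, h1, h1'⟩ := exists_two' hn (supp x) (by omega)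
  exact swap_any hR hx hm (by rw [not_mem_supp.1 h1, not_mem_supp.1 h1']) a b

theorem perm_small' (hR : RSet R) (hn : 5 ≤ Fintype.card ι) (σ : Equiv.Perm ι) :
    ∀ {x : ι → F}, R x → (supp x).card ≤ 3 → R (x ∘ σ) := by
  induction σ using Equiv.Perm.swap_induction_on with
  | one => intro x hx _; exact hx
  | swap_mul f a b _ ih =>
    intro x hx hw
    have e : x ∘ ⇑(Equiv.swap a b * f) = (x ∘ Equiv.swap a b) ∘ f := rfl
    rw [e]
    refine ih (swap_small' hR hn hx hw a b) (le_trans (le_of_eq ?_) hw)
    have : supp (x ∘ Equiv.swap a b) = (supp x).map (Equiv.swap a b).toEmbedding := by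
      ext t; simp [mem_supp, Finset.mem_map_equiv]
    rw [this, Finset.card_map]

/-- A pair in general position. -/
theorem short_good (hR : RSet R) (hp : (Fintype.card F).Prime) (h11 : 11 ≤ Fintype.card F) {x : ι → F} (hx : R x)
    {i j : ι} (hij : i ≠ j) (hi : x i ≠ 0) (hj : x j ≠ 0) (hsum : x i * x i + x j * x j ≠ 1)
    (hA : x i * x i = 1 ∨ (4 * (x i * x i) ≠ 1 ∧ 2 * (x i * x i) ≠ 1 ∧
      16 * (x i * x i) ^ 2 - 12 * (x i * x i) + 1 ≠ 0)) : Short R := by
  have h2 : (2 : F) ≠ 0 := by exact_mod_cast small_ne hp (k := 2) (by omega) (by norm_num)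
  set u := x - x i • ax i - x j • ax j with hu
  have hui : u i = 0 := by simp [hu, ax, hij]
  have huj : u j = 0 := by simp [hu, ax, hij.symm]
  have hxe : emb i j u ![x i, x j, 1] = x := by simp [emb, hu]
  have hc : u ⬝ᵥ u = 1 - x i * x i - x j * x j := by
    have h := emb_dot hij hui huj ![x i, x j, 1] ![x i, x j, 1]
    rw [hxe, hR.unit x hx] at h
    simp [dt] at h
    linear_combination -h
  exact short_of_units hp h11 hij hui huj fun v hv => units_full hR h2 hp hij hui huj
    (by rw [hc]; intro e; exact hsum (by linear_combination -e)) (x := ![x i, x j, 1]) (by rw [hxe]; exact hx)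
    (show x i ≠ 0 from hi) (show x j ≠ 0 from hj) one_ne_zero hA hv

theorem flip_one (hR : RSet R) {x : ι → F} (hx : R x) (i : ι) :
    ∃ y, R y ∧ ∀ t, y t * y t = (if t = i then 4 * (x i * x i) - 3 else 4 * (x i * x i) - 1) ^ 2 * (x t * x t) := by
  set y : ι → F := fun t => if t ∈ ({i} : Finset ι) then -x t else x t with hy
  have hRy : R y := flips hR hx {i}
  have hd : x ⬝ᵥ y = 1 - 2 * (x i * x i) := by
    have : y = x - (2 * x i) • ax i := by
      funext t
      rcases eq_or_ne t i with rfl | h
      · simp [hy, ax]; ring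
      · simp [hy, ax, h]
    rw [this, dotProduct_sub, hR.unit x hx, dotProduct_smul, dot_ax', smul_eq_mul]
    ring
  refine ⟨rv x y, hR.closed _ _ hx hRy, fun t => ?_⟩
  rw [rv, hd, hR.unit x hx, div_one, Pi.sub_apply, Pi.smul_apply, smul_eq_mul]
  simp only [hy, Finset.mem_singleton]
  split_ifs with h
  · subst h; ring
  · ring

theorem short_large5 (hR : RSet R) (hp : (Fintype.card F).Prime) (h11 : 11 ≤ Fintype.card F)
    (hn : Fintype.card ι = 5) : ∀ (k : ℕ) (x : ι → F), R x → (supp x).card = k → ¬ Root x → Short R := by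
  classical
  intro k
  induction k using Nat.strong_induction_on with
  | _ k ih =>
    intro x hx hk hnr
    by_cases hk3 : k ≤ 3
    · exact ⟨x, hx, hnr, hk ▸ hk3⟩
    have hk5 : k ≤ 5 := hk ▸ hn ▸ Finset.card_le_univ _
    have c : ∀ {a : ℕ}, a < Fintype.card F → a ≠ 0 → (a : F) ≠ 0 := fun h h' => small_ne hp h h'
    have h2 : (2 : F) ≠ 0 := by exact_mod_cast c (a := 2) (by omega) (by norm_num)
    have h3 : (3 : F) ≠ 0 := by exact_mod_cast c (a := 3) (by omega) (by norm_num)
    have h5 : (5 : F) ≠ 0 := by exact_mod_cast c (a := 5) (by omega) (by norm_num)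
    have h7 : (7 : F) ≠ 0 := by exact_mod_cast c (a := 7) (by omega) (by norm_num)
    have h4 : (4 : F) ≠ 0 := by exact_mod_cast c (a := 4) (by omega) (by norm_num)
    have nz : ∀ {t}, t ∈ supp x → x t * x t ≠ 0 := fun h => mul_ne_zero (mem_supp.1 h) (mem_supp.1 h)
    by_cases hB : ∃ i ∈ supp x, ∃ j ∈ supp x, i ≠ j ∧ x i * x i + x j * x j ≠ 1 ∧
        (x i * x i = 1 ∨ (4 * (x i * x i) ≠ 1 ∧ 2 * (x i * x i) ≠ 1 ∧
          16 * (x i * x i) ^ 2 - 12 * (x i * x i) + 1 ≠ 0))
    · obtain ⟨i, hi, j, hj, hij, hsum, hA⟩ := hB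
      exact short_good hR hp h11 hx hij (mem_supp.1 hi) (mem_supp.1 hj) hsum hA
    -- no value is in general position
    have hbad : ∀ i ∈ supp x, 4 * (x i * x i) = 1 ∨ 2 * (x i * x i) = 1 ∨
        16 * (x i * x i) ^ 2 - 12 * (x i * x i) + 1 = 0 := by
      intro i hi
      by_contra hg
      push Not at hg
      have hall : ∀ j ∈ (supp x).erase i, x j * x j = 1 - x i * x i := fun j hj => by
        obtain ⟨hji, hj'⟩ := Finset.mem_erase.1 hj
        by_contra hne
        exact hB ⟨i, hi, j, hj', hji.symm, fun e => hne (by linear_combination e), Or.inr hg⟩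
      have h := sum_supp x
      rw [hR.unit x hx, ← Finset.add_sum_erase _ _ hi, Finset.sum_congr rfl hall, Finset.sum_const,
        Finset.card_erase_of_mem hi, hk, nsmul_eq_mul] at h
      obtain ⟨j, hj, hji⟩ := Finset.exists_mem_ne (show 1 < (supp x).card by omega) i
      have hB0 : 1 - x i * x i ≠ 0 := hall j (Finset.mem_erase.2 ⟨hji, hj⟩) ▸ nz hj
      rcases (show k = 4 ∨ k = 5 by omega) with rfl | rfl <;> norm_num at h
      · exact mul_ne_zero h2 hB0 (by linear_combination -h)
      · exact mul_ne_zero h3 hB0 (by linear_combination -h)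
    by_cases hhalf : ∃ j ∈ supp x, 2 * (x j * x j) = 1
    · obtain ⟨j, hj, hj2⟩ := hhalf
      have e : ∀ t, rv x (ax j) t = (if t = j then 1 else 0) - 2 * x j * x t := fun t => by
        rw [rv, hR.unit x hx, dot_ax', div_one, Pi.sub_apply, Pi.smul_apply, smul_eq_mul]
        simp [ax, Pi.single_apply]
      have hs : supp (rv x (ax j)) = (supp x).erase j := by
        ext t
        rw [Finset.mem_erase, mem_supp, mem_supp, e]
        rcases eq_or_ne t j with rfl | ht
        · simp only [if_true]
          exact iff_of_false (fun h => h (by linear_combination -hj2)) (fun h => h.1 rfl)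
        · simp [ht, h2, mem_supp.1 hj]
      have hc : (supp (rv x (ax j))).card = k - 1 := by rw [hs, Finset.card_erase_of_mem hj, hk]
      exact ih _ (by omega) _ (hR.closed _ _ hx (hR.axis j)) hc (not_root_of_card (by omega))
    push Not at hhalf
    set Q := (supp x).filter fun t => 4 * (x t * x t) ≠ 1
    have hQ : ∀ t ∈ Q, 16 * (x t * x t) ^ 2 - 12 * (x t * x t) + 1 = 0 := fun t ht => by
      obtain ⟨h, h'⟩ := Finset.mem_filter.1 ht
      exact ((hbad t h).resolve_left h').resolve_left (hhalf t h)
    by_cases htwo : ∃ i ∈ Q, ∃ j ∈ Q, x i * x i ≠ x j * x j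
    · obtain ⟨i, hi, j, hj, hne⟩ := htwo
      have hi' := (Finset.mem_filter.1 hi).1
      have hj' := (Finset.mem_filter.1 hj).1
      have hij : i ≠ j := fun e => hne (e ▸ rfl)
      have e34 : 4 * (x i * x i + x j * x j) - 3 = 0 :=
        (mul_eq_zero.1 (show (4 * (x i * x i - x j * x j)) * (4 * (x i * x i + x j * x j) - 3) = 0 by
          linear_combination hQ i hi - hQ j hj)).resolve_left (mul_ne_zero h4 (sub_ne_zero.2 hne))
      have hT : 4 * ∑ t ∈ ((supp x).erase i).erase j, x t * x t = 1 := by
        have h := sum_supp x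
        rw [hR.unit x hx, ← Finset.add_sum_erase _ _ hi', ← Finset.add_sum_erase _ _
          (Finset.mem_erase.2 ⟨hij.symm, hj'⟩)] at h
        linear_combination -4 * h - e34
      obtain ⟨y, hy, hys, hyv⟩ := shrink hR h2 hx ((Finset.erase_subset _ _).trans (Finset.erase_subset _ _)) hT
      have hc : (supp y).card = k - 2 := by
        rw [hys, Finset.card_erase_of_mem (Finset.mem_erase.2 ⟨hij.symm, hj'⟩), Finset.card_erase_of_mem hi', hk]
        omega
      rcases (show k = 4 ∨ k = 5 by omega) with rfl | rfl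
      · obtain ⟨p, q, hpq, hs⟩ := Finset.card_eq_two.1 hc
        refine ⟨y, hy, not_root_two hpq (mem_supp.1 (by rw [hs]; simp)) (mem_supp.1 (by rw [hs]; simp)) ?_,
          by omega⟩
        have hp' : p ∈ ((supp x).erase i).erase j := hys ▸ (by rw [hs]; simp)
        have hq' : q ∈ ((supp x).erase i).erase j := hys ▸ (by rw [hs]; simp)
        rw [hyv p hp', hyv q hq']
        intro e
        rw [← hys, hs, Finset.sum_pair hpq] at hT
        have e8 : 8 * (x p * x p) = 1 := by linear_combination hT + e
        have hpx : p ∈ supp x := Finset.mem_of_mem_erase (Finset.mem_of_mem_erase hp')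
        rcases hbad p hpx with h | h | h
        · exact one_ne_zero (show (1 : F) = 0 by linear_combination e8 - 2 * h)
        · exact h3 (show (3 : F) = 0 by linear_combination e8 - 4 * h)
        · exact one_ne_zero (show (1 : F) = 0 by linear_combination -4 * h + (8 * (x p * x p) - 5) * e8)
      · exact ⟨y, hy, not_root_of_card (by omega), by omega⟩
    push Not at htwo
    have hquart : ∀ t ∈ (supp x).filter (fun t => ¬ 4 * (x t * x t) ≠ 1), x t * x t = 4⁻¹ := fun t ht =>
      eq_inv_of_mul_eq_one_right (not_not.1 (Finset.mem_filter.1 ht).2)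
    have hcard : Q.card + ((supp x).filter (fun t => ¬ 4 * (x t * x t) ≠ 1)).card = k := by
      rw [← hk]; exact Finset.card_filter_add_card_filter_not _
    rcases Q.eq_empty_or_nonempty with hQ0 | ⟨i, hi⟩
    · have hq : ∀ t ∈ supp x, 4 * (x t * x t) = 1 := fun t ht => by
        by_contra h
        exact Finset.notMem_empty t (hQ0 ▸ Finset.mem_filter.2 ⟨ht, h⟩)
      have h := sum_supp x
      have : (4 : F) * 1 = ∑ t ∈ supp x, 4 * (x t * x t) := by rw [← Finset.mul_sum, ← h, hR.unit x hx]
      rw [Finset.sum_congr rfl hq, Finset.sum_const, nsmul_one, hk] at this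
      rcases (show k = 4 ∨ k = 5 by omega) with rfl | rfl
      swap
      · norm_num at this
        exact absurd (show (1 : F) = 0 by linear_combination -this) one_ne_zero
      -- four halves
      obtain ⟨a, ha, b, hb, hab⟩ := Finset.one_lt_card.1 (show 1 < (supp x).card by omega)
      obtain ⟨z, hz⟩ : ∃ z, z ∉ supp x := by
        by_contra hall
        push Not at hall
        have := Finset.card_le_card (fun t _ => hall t : (Finset.univ : Finset ι) ⊆ supp x)
        rw [Finset.card_univ] at this
        omega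
      have hxz := not_mem_supp.1 hz
      have hzb : z ≠ b := fun e => hz (e ▸ hb)
      have hza : z ≠ a := fun e => hz (e ▸ ha)
      obtain ⟨d, hd, hda, hdb⟩ : ∃ d ∈ supp x, d ≠ a ∧ d ≠ b := by
        obtain ⟨d, hd⟩ := Finset.card_pos.1 (show 0 < (((supp x).erase a).erase b).card by
          rw [Finset.card_erase_of_mem (Finset.mem_erase.2 ⟨hab.symm, hb⟩), Finset.card_erase_of_mem ha]; omega)
        simp at hd
        exact ⟨d, hd.2.2, hd.2.1, hd.1⟩
      set y := x ∘ Equiv.swap a z
      have hy : R y := swap_any hR hx hdb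
        (mul_left_cancel₀ h4 ((hq d hd).trans (hq b hb).symm)) a z
      have hdot : y ⬝ᵥ x = 1 - x a * x a := by
        have hu := hR.unit x hx
        rw [dotProduct, Finset.sum_eq_sum_sdiff_singleton_add (Finset.mem_univ a)] at hu ⊢
        rw [show y a = 0 by simp [y, hxz]]
        rw [← hu, add_sub_cancel_right, zero_mul, add_zero]
        refine Finset.sum_congr rfl fun t ht => ?_
        have hta : t ≠ a := by simpa using ht
        rcases eq_or_ne t z with rfl | htz
        · simp [y, hxz]
        · simp [y, Equiv.swap_apply_of_ne_of_ne hta htz]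
      have ew : ∀ t, t ≠ a → t ≠ z → rv y x t = -(1 / 2) * x t := fun t hta htz => by
        rw [rv, hdot, hR.unit y hy, div_one, Pi.sub_apply, Pi.smul_apply, smul_eq_mul,
          show y t = x t by simp [y, Equiv.swap_apply_of_ne_of_ne hta htz]]
        field_simp
        linear_combination x t * hq a ha
      have e16 : ∀ t ∈ supp x, t ≠ a → t ≠ z → 16 * (rv y x t * rv y x t) = 1 := fun t ht hta htz => by
        rw [ew t hta htz]
        field_simp
        linear_combination 4 * hq t ht
      have hb' := e16 b hb hab.symm hzb.symm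
      have hd' := e16 d hd hda (fun e => hz (e ▸ hd))
      have nb : rv y x b ≠ 0 := fun e => by rw [e, mul_zero, mul_zero] at hb'; exact zero_ne_one hb'
      have nd : rv y x d ≠ 0 := fun e => by rw [e, mul_zero, mul_zero] at hd'; exact zero_ne_one hd'
      refine short_good hR hp h11 (hR.closed _ _ hy hx) hdb.symm nb nd (fun e => ?_) (Or.inr ⟨fun e => ?_,
        fun e => ?_, fun e => ?_⟩)
      · exact mul_ne_zero h2 h7 (show (2 : F) * 7 = 0 by linear_combination hb' + hd' - 16 * e)
      · exact h3 (show (3 : F) = 0 by linear_combination hb' - 4 * e)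
      · exact h7 (show (7 : F) = 0 by linear_combination hb' - 8 * e)
      · exact h5 (show (5 : F) = 0 by
          linear_combination 16 * e - (16 * (rv y x b * rv y x b) - 11) * hb')
    set r := x i * x i with hr
    have hQr : ∀ t ∈ Q, x t * x t = r := fun t ht => htwo t ht i hi
    have hsum : 4 = 4 * (Q.card : F) * r + (((supp x).filter (fun t => ¬ 4 * (x t * x t) ≠ 1)).card : F) := by
      have h := sum_supp x
      rw [hR.unit x hx, ← Finset.sum_filter_add_sum_filter_not (supp x) (fun t => 4 * (x t * x t) ≠ 1),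
        Finset.sum_congr rfl hQr, Finset.sum_congr rfl hquart, Finset.sum_const, Finset.sum_const,
        nsmul_eq_mul, nsmul_eq_mul] at h
      generalize ((supp x).filter (fun t => ¬ 4 * (x t * x t) ≠ 1)).card = c' at h ⊢
      field_simp at h
      linear_combination h
    have hqi := hQ i hi
    have hi4 : 4 * r ≠ 1 := (Finset.mem_filter.1 hi).2
    obtain ⟨n, hn'⟩ : ∃ n, Q.card = n := ⟨_, rfl⟩
    have hn0 : n ≠ 0 := hn' ▸ Finset.card_ne_zero_of_mem hi
    rw [hn'] at hcard hsum
    rcases (show k = 4 ∨ k = 5 by omega) with rfl | rfl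
    · rw [show ((supp x).filter (fun t => ¬ 4 * (x t * x t) ≠ 1)).card = 4 - n by omega,
        Nat.cast_sub (by omega)] at hsum
      exact absurd ((mul_eq_zero.1 (show (n : F) * (4 * r - 1) = 0 by push_cast at hsum; linear_combination -hsum)).resolve_left
        (c (by omega) hn0)) (sub_ne_zero.2 hi4)
    rw [show ((supp x).filter (fun t => ¬ 4 * (x t * x t) ≠ 1)).card = 5 - n by omega,
      Nat.cast_sub (by omega)] at hsum
    push_cast at hsum
    have hQ5 : n ≤ 5 := by omega
    have cast0 : ∀ {m : ℕ}, (m : F) = 0 → Fintype.card F ∣ m := fun h => dvd_of_cast hp h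
    replace hsum : 4 * (n : F) * r = (n : F) - 1 := by linear_combination -hsum
    interval_cases n <;> simp only [Nat.cast_zero, Nat.cast_one, Nat.cast_ofNat] at hsum
    · exact absurd rfl hn0
    · exact absurd (show (1 : F) = 0 by
        have : r = 0 := (mul_eq_zero.1 (show (4 : F) * r = 0 by linear_combination hsum)).resolve_left h4
        linear_combination hqi - (16 * r - 12) * this) one_ne_zero
    · exact absurd (show (1 : F) = 0 by
        have e8 : 8 * r = 1 := by linear_combination hsum
        linear_combination -4 * hqi + (8 * r - 5) * e8) one_ne_zero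
    · exact absurd (show (4 : F) * 5 = 0 by
        have e6 : 6 * r = 1 := mul_left_cancel₀ h2 (by linear_combination hsum)
        linear_combination -36 * hqi + (96 * r - 56) * e6) (mul_ne_zero h4 h5)
    · -- eleven elements
      have e16 : 16 * r = 3 := by linear_combination hsum
      have hp11 : Fintype.card F = 11 := by
        have := cast0 (m := 11) (by push_cast; linear_combination -16 * hqi + (16 * r - 9) * e16)
        rcases (Nat.Prime.eq_one_or_self_of_dvd (by norm_num) _ this) with h | h <;> omega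
      have F11 : (11 : F) = 0 := by
        have := FiniteField.cast_card_eq_zero F; rw [hp11] at this; exact_mod_cast this
      have hr5 : r = 5 := mul_left_cancel₀ (show (16 : F) ≠ 0 from by
        rw [show (16 : F) = 4 * 4 by norm_num]; exact mul_ne_zero h4 h4) (by linear_combination e16 - 7 * F11)
      obtain ⟨y, hy, hyv⟩ := flip_one hR hx i
      obtain ⟨m, hm, hmi⟩ := Finset.exists_mem_ne (show 1 < Q.card by omega) i
      obtain ⟨j, hj⟩ := Finset.card_pos.1 (show 0 < ((supp x).filter (fun t => ¬ 4 * (x t * x t) ≠ 1)).card by omega)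
      have hjQ : j ∉ Q := fun h => (Finset.mem_filter.1 hj).2 (Finset.mem_filter.1 h).2
      have hy1 : y m * y m = 1 := by
        rw [hyv, if_neg hmi, hQr m hm, ← hr, hr5]; linear_combination (164 : F) * F11
      have hyj : y j * y j ≠ 0 := by
        rw [hyv, if_neg (fun (e : j = i) => hjQ (e.symm ▸ hi))]
        exact mul_ne_zero (pow_ne_zero 2 (sub_ne_zero.2 hi4)) (nz (Finset.mem_filter.1 hj).1)
      exact short_good hR hp h11 hy (fun e : m = j => hjQ (e ▸ hm)) (fun e => by simp [e] at hy1)
        (fun e => hyj (by rw [e, zero_mul])) (fun e => hyj (by linear_combination e - hy1)) (Or.inl hy1)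
    · -- nineteen elements
      have e5 : 5 * r = 1 := mul_left_cancel₀ h4 (by linear_combination hsum)
      have hp19 : Fintype.card F = 19 := by
        have := cast0 (m := 19) (by push_cast; linear_combination -25 * hqi + (80 * r - 44) * e5)
        rcases (Nat.Prime.eq_one_or_self_of_dvd (by norm_num) _ this) with h | h <;> omega
      have F19 : (19 : F) = 0 := by
        have := FiniteField.cast_card_eq_zero F; rw [hp19] at this; exact_mod_cast this
      have hr4 : r = 4 := mul_left_cancel₀ h5 (by linear_combination e5 - F19)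
      obtain ⟨y, hy, hyv⟩ := flip_one hR hx i
      obtain ⟨m, hm, hmi⟩ := Finset.exists_mem_ne (show 1 < Q.card by omega) i
      obtain ⟨j, hj⟩ := Finset.card_pos.1 (show 0 < ((Q.erase i).erase m).card by
        rw [Finset.card_erase_of_mem (Finset.mem_erase.2 ⟨hmi, hm⟩), Finset.card_erase_of_mem hi]; omega)
      simp only [Finset.mem_erase] at hj
      have hv : ∀ t ∈ Q, t ≠ i → y t * y t = 7 := fun t ht hti => by
        rw [hyv, if_neg hti, hQr t ht, ← hr, hr4]; linear_combination (47 : F) * F19
      have n7 : ∀ t ∈ Q, t ≠ i → y t ≠ 0 := fun t ht hti e => h7 (by rw [← hv t ht hti, e, mul_zero])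
      refine short_good hR hp h11 hy (Ne.symm hj.1) (n7 m hm hmi) (n7 j hj.2.2 hj.2.1) ?_ ?_
      · rw [hv m hm hmi, hv j hj.2.2 hj.2.1]
        exact fun e => absurd (Nat.le_of_dvd (by norm_num) (cast0 (m := 13) (by push_cast; linear_combination e))) (by omega)
      · rw [hv m hm hmi]
        refine Or.inr ⟨fun e => ?_, fun e => ?_, fun e => ?_⟩
        · exact absurd (Nat.le_of_dvd (by norm_num) (cast0 (m := 8) (by push_cast; linear_combination e - F19))) (by omega)
        · exact absurd (Nat.le_of_dvd (by norm_num) (cast0 (m := 13) (by push_cast; linear_combination e))) (by omega)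
        · exact absurd (Nat.le_of_dvd (by norm_num) (cast0 (m := 17) (by push_cast; linear_combination e - 36 * F19))) (by omega)

/-- An overlapping copy of a vector on four coordinates. -/
theorem overlap (hR : RSet R) (hn : 5 ≤ Fintype.card ι) {x : ι → F} (hx : R x) (h4 : (supp x).card = 4) {q : F}
    (hq : ∀ t ∈ supp x, x t * x t = q) :
    ∃ z, R z ∧ ∃ a b c d e, a ≠ b ∧ a ≠ c ∧ b ≠ c ∧ a ≠ d ∧ b ≠ d ∧ c ≠ d ∧ e ≠ a ∧ e ≠ b ∧ e ≠ c ∧ e ≠ d ∧
      supp z ⊆ {a, b, c, d, e} ∧ z a * z a = (1 - 6 * q) ^ 2 * q ∧ z b * z b = (1 - 6 * q) ^ 2 * q ∧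
      z c * z c = (1 - 6 * q) ^ 2 * q ∧ z d * z d = q ∧ z e * z e = 36 * q ^ 2 * q := by
  obtain ⟨a, b, c, d, hab, hac, had, hbc, hbd, hcd, hs⟩ := Finset.card_eq_four.1 h4
  obtain ⟨e, he⟩ := Finset.card_pos.1 (show 0 < (supp x)ᶜ.card by rw [Finset.card_compl]; omega)
  rw [Finset.mem_compl] at he
  have he' : e ∉ ({a, b, c, d} : Finset ι) := hs ▸ he
  simp at he'
  obtain ⟨hea, heb, hec, hed⟩ := he'
  have hmem : ∀ t, t ≠ a → t ≠ b → t ≠ c → t ≠ d → x t = 0 := fun t h1 h2 h3 h4 => not_mem_supp.1 (by
    rw [hs]; simp [h1, h2, h3, h4])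
  set y := x ∘ Equiv.swap d e
  have hy : R y := swap_mem hR hx (Ne.symm hed) hab had (Ne.symm hea) hbd (Ne.symm heb)
    (by rw [hq a (by rw [hs]; simp), hq b (by rw [hs]; simp)])
  have ya : y a = x a := by simp [y, Equiv.swap_apply_of_ne_of_ne had (Ne.symm hea)]
  have yb : y b = x b := by simp [y, Equiv.swap_apply_of_ne_of_ne hbd (Ne.symm heb)]
  have yc : y c = x c := by simp [y, Equiv.swap_apply_of_ne_of_ne hcd (Ne.symm hec)]
  have xe : x e = 0 := hmem e hea heb hec hed
  have yd : y d = 0 := by simp [y, xe]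
  have ye : y e = x d := by simp [y]
  have hdot : y ⬝ᵥ x = 3 * q := by
    rw [dotProduct_comm, dot_on (A := {a, b, c, d}) (fun t ht => by simp at ht; exact hmem t ht.1 ht.2.1 ht.2.2.1 ht.2.2.2) y,
      Finset.sum_insert (by simp [hab, hac, had]), Finset.sum_insert (by simp [hbc, hbd]),
      Finset.sum_pair hcd, ya, yb, yc, yd]
    linear_combination hq a (by rw [hs]; simp) + hq b (by rw [hs]; simp) + hq c (by rw [hs]; simp)
  have ez : ∀ t, rv y x t = x t - 6 * q * y t := fun t => by
    rw [rv, hdot, hR.unit y hy, Pi.sub_apply, Pi.smul_apply, smul_eq_mul]; ring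
  refine ⟨rv y x, hR.closed _ _ hy hx, a, b, c, d, e, hab, hac, hbc, had, hbd, hcd, hea, heb, hec, hed,
    fun t ht => ?_, ?_, ?_, ?_, ?_, ?_⟩
  · by_contra hc'
    simp at hc'
    obtain ⟨h1, h2, h3, h4, h5⟩ := hc'
    refine mem_supp.1 ht ?_
    rw [ez, hmem t h1 h2 h3 h4, show y t = 0 by
      simp [y, Equiv.swap_apply_of_ne_of_ne h4 h5, hmem t h1 h2 h3 h4]]
    ring
  · rw [ez, ya]; linear_combination (1 - 6 * q) ^ 2 * hq a (by rw [hs]; simp)
  · rw [ez, yb]; linear_combination (1 - 6 * q) ^ 2 * hq b (by rw [hs]; simp)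
  · rw [ez, yc]; linear_combination (1 - 6 * q) ^ 2 * hq c (by rw [hs]; simp)
  · rw [ez, yd]; linear_combination hq d (by rw [hs]; simp)
  · rw [ez, xe, ye]; linear_combination 36 * q ^ 2 * hq d (by rw [hs]; simp)

theorem short_five (hR : RSet R) (hp : (Fintype.card F).Prime) (h5 : Fintype.card F = 5)
    (hn : 5 ≤ Fintype.card ι) : ∀ (k : ℕ) (x : ι → F), R x → (supp x).card = k → ¬ Root x → Short R := by
  classical
  have h2 : (2 : F) ≠ 0 := by exact_mod_cast small_ne hp (k := 2) (by omega) (by norm_num)
  have five : (5 : F) = 0 := by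
    have := FiniteField.cast_card_eq_zero F; rw [h5] at this; exact_mod_cast this
  intro k
  induction k using Nat.strong_induction_on with
  | _ k ih =>
    intro x hx hk hnr
    by_cases hk3 : k ≤ 3
    · exact ⟨x, hx, hnr, hk ▸ hk3⟩
    have hsq : ∀ t ∈ supp x, ¬ x t * x t = 1 → x t * x t = -1 := fun t ht h => by
      have h1 := FiniteField.pow_card_sub_one_eq_one (x t) (mem_supp.1 ht)
      rw [h5] at h1
      exact (mul_self_eq_one_iff.1 (show x t * x t * (x t * x t) = 1 by linear_combination h1)).resolve_left h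
    set P := (supp x).filter fun t => x t * x t = 1
    set N := (supp x).filter fun t => ¬ x t * x t = 1
    have hPN : P.card + N.card = k := by
      rw [← hk]; exact Finset.card_filter_add_card_filter_not _
    have hsum : ((P.card + 4 * N.card + 4 : ℕ) : F) = 0 := by
      have h := sum_supp x
      rw [hR.unit x hx, ← Finset.sum_filter_add_sum_filter_not (supp x) (fun t => x t * x t = 1),
        Finset.sum_congr rfl (fun t (ht : t ∈ P) => (Finset.mem_filter.1 ht).2),
        Finset.sum_congr rfl (fun t (ht : t ∈ N) => hsq t (Finset.mem_filter.1 ht).1 (Finset.mem_filter.1 ht).2),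
        Finset.sum_const, Finset.sum_const, nsmul_eq_mul, nsmul_eq_mul] at h
      push_cast
      linear_combination -h + ((N.card : F) + 1) * five
    have hd := dvd_of_cast hp hsum
    rw [h5] at hd
    have drop : ∀ B ⊆ supp x, 4 * ∑ t ∈ supp x \ B, x t * x t = 1 → 1 ≤ B.card → B.card + 3 ≤ k → Short R := by
      intro B hB hT hB1 hB3
      obtain ⟨y, hy, hys, -⟩ := shrink hR h2 hx Finset.sdiff_subset hT
      have hc : (supp y).card = k - B.card := by rw [hys, Finset.card_sdiff_of_subset hB, hk]
      exact ih _ (by omega) y hy hc (not_root_of_card (by omega))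
    have tot : ∀ B ⊆ supp x, ∑ t ∈ supp x \ B, x t * x t = 1 - ∑ t ∈ B, x t * x t := fun B hB => by
      rw [eq_sub_iff_add_eq, Finset.sum_sdiff hB, ← sum_supp, hR.unit x hx]
    by_cases hP : 2 ≤ P.card
    · have h5k : 5 ≤ k := by
        by_contra hk5
        have : N.card ≤ 2 := by omega
        interval_cases N.card <;> omega
      obtain ⟨B, hB, hBc⟩ := Finset.exists_subset_card_eq hP
      have hBs : B ⊆ supp x := hB.trans (Finset.filter_subset _ _)
      refine drop B hBs ?_ (by omega) (by omega)
      rw [tot B hBs, Finset.sum_congr rfl (fun t ht => (Finset.mem_filter.1 (hB ht)).2), Finset.sum_const, hBc]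
      simp
      linear_combination -five
    by_cases hk6 : 6 ≤ k
    · obtain ⟨B, hB, hBc⟩ := Finset.exists_subset_card_eq (show 3 ≤ N.card by omega)
      have hBs : B ⊆ supp x := hB.trans (Finset.filter_subset _ _)
      refine drop B hBs ?_ (by omega) (by omega)
      rw [tot B hBs, Finset.sum_congr rfl (fun t ht => hsq t (Finset.mem_filter.1 (hB ht)).1 (Finset.mem_filter.1 (hB ht)).2),
        Finset.sum_const, hBc]
      simp
      linear_combination 3 * five
    have hN4 : N.card = 4 ∧ P.card = 0 := by interval_cases k <;> interval_cases P.card <;> omega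
    obtain ⟨z, hz, a, b, c, d, e, hab, hac, hbc, had, hbd, hcd, hea, heb, hec, hed, hsub, za, zb, zc, zd, ze⟩ :=
      overlap hR hn hx (q := (-1 : F)) (by omega) fun t ht => hsq t ht fun h => by
        have : t ∈ P := Finset.mem_filter.2 ⟨ht, h⟩
        rw [Finset.card_eq_zero.1 hN4.2] at this
        exact Finset.notMem_empty t this
    have nz : ∀ t, z t * z t ≠ 0 → t ∈ supp z := fun t h => mem_supp.2 fun e => h (by rw [e, zero_mul])
    obtain ⟨y, hy, hys, -⟩ := shrink hR h2 hz (A := {c, d, e}) (by
      simp only [Finset.insert_subset_iff, Finset.singleton_subset_iff]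
      refine ⟨nz c ?_, nz d ?_, nz e ?_⟩
      · rw [zc]; exact fun h => one_ne_zero (show (1 : F) = 0 by linear_combination h + 10 * five)
      · rw [zd]; exact neg_ne_zero.2 one_ne_zero
      · rw [ze]; exact fun h => one_ne_zero (show (1 : F) = 0 by linear_combination -h - 7 * five)) (by
      rw [Finset.sum_insert (by simp [hcd, hec.symm]), Finset.sum_pair hed.symm, zc, zd, ze]
      linear_combination (-69 : F) * five)
    refine ⟨y, hy, not_root_of_card ?_, ?_⟩ <;>
      rw [hys, Finset.card_insert_of_notMem (by simp [hcd, hec.symm]), Finset.card_pair hed.symm]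

theorem short_seven (hR : RSet R) (hp : (Fintype.card F).Prime) (h7 : Fintype.card F = 7)
    (hn : 5 ≤ Fintype.card ι) : ∀ (k : ℕ) (x : ι → F), R x → (supp x).card = k → ¬ Root x → Short R := by
  classical
  have h2 : (2 : F) ≠ 0 := by exact_mod_cast small_ne hp (k := 2) (by omega) (by norm_num)
  have h3 : (3 : F) ≠ 0 := by exact_mod_cast small_ne hp (k := 3) (by omega) (by norm_num)
  have seven : (7 : F) = 0 := by
    have := FiniteField.cast_card_eq_zero F; rw [h7] at this; exact_mod_cast this
  intro k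
  induction k using Nat.strong_induction_on with
  | _ k ih =>
    intro x hx hk hnr
    by_cases hk3 : k ≤ 3
    · exact ⟨x, hx, hnr, hk ▸ hk3⟩
    by_cases h1 : ∃ i ∈ supp x, x i * x i = 1
    · obtain ⟨i, hi, hi1⟩ := h1
      obtain ⟨j, hj, hji⟩ := Finset.exists_mem_ne (show 1 < (supp x).card by omega) i
      have hij := hji.symm
      set u := x - x i • ax i - x j • ax j with hu
      have hui : u i = 0 := by simp [hu, ax, hij]
      have huj : u j = 0 := by simp [hu, ax, hij.symm]
      have hxe : emb i j u ![x i, x j, 1] = x := by simp [emb, hu]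
      have hj0 := mem_supp.1 hj
      have hc : u ⬝ᵥ u = -(x j * x j) := by
        have h := emb_dot hij hui huj ![x i, x j, 1] ![x i, x j, 1]
        rw [hxe, hR.unit x hx] at h
        simp [dt] at h
        linear_combination -h - hi1
      set v : Fin 3 → F := ![0, 3, (x j)⁻¹]
      have hv : R (emb i j u v) := units_full hR h2 hp hij hui huj
        (by rw [hc]; exact neg_ne_zero.2 (mul_ne_zero hj0 hj0)) (x := ![x i, x j, 1]) (by rw [hxe]; exact hx)
        (show x i ≠ 0 from mem_supp.1 hi) hj0 one_ne_zero (Or.inl hi1) (by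
          rw [hc]; simp [nrm, v]; field_simp; linear_combination seven)
      obtain ⟨a0, a1, a2⟩ := emb_at hij hui huj v
      have hs : supp (emb i j u v) = (supp x).erase i := by
        ext t
        rw [Finset.mem_erase, mem_supp, mem_supp]
        rcases eq_or_ne t i with rfl | hti
        · simp [a0, v]
        rcases eq_or_ne t j with rfl | htj
        · simp [a1, v, hti, hj0, h3]
        · rw [a2 t hti htj]; simp [v, hj0, hti, hu, ax, htj]
      have hc' : (supp (emb i j u v)).card = k - 1 := by rw [hs, Finset.card_erase_of_mem hi, hk]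
      exact ih _ (by omega) _ hv hc' (not_root_of_card (by omega))
    push Not at h1
    have hsq : ∀ t ∈ supp x, ¬ x t * x t = 2 → x t * x t = 4 := fun t ht h => by
      have e := FiniteField.pow_card_sub_one_eq_one (x t) (mem_supp.1 ht)
      rw [h7] at e
      have : (x t * x t - 1) * ((x t * x t - 2) * (x t * x t - 4)) = 0 := by
        linear_combination e + (2 * (x t * x t) - (x t * x t) ^ 2 - 1) * seven
      exact sub_eq_zero.1 (((mul_eq_zero.1 this).resolve_left (sub_ne_zero.2 (h1 t ht))) |> mul_eq_zero.1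
        |>.resolve_left (sub_ne_zero.2 h))
    set A2 := (supp x).filter fun t => x t * x t = 2
    set A4 := (supp x).filter fun t => ¬ x t * x t = 2
    have hA : A2.card + A4.card = k := by rw [← hk]; exact Finset.card_filter_add_card_filter_not _
    have s2 : ∀ t ∈ A2, x t * x t = 2 := fun t ht => (Finset.mem_filter.1 ht).2
    have s4 : ∀ t ∈ A4, x t * x t = 4 := fun t ht => hsq t (Finset.mem_filter.1 ht).1 (Finset.mem_filter.1 ht).2
    have hsum : ((2 * A2.card + 4 * A4.card + 6 : ℕ) : F) = 0 := by
      have h := sum_supp x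
      rw [hR.unit x hx, ← Finset.sum_filter_add_sum_filter_not (supp x) (fun t => x t * x t = 2),
        Finset.sum_congr rfl s2, Finset.sum_congr rfl s4,
        Finset.sum_const, Finset.sum_const, nsmul_eq_mul, nsmul_eq_mul] at h
      push_cast
      linear_combination -h + seven
    have hd := dvd_of_cast hp hsum
    rw [h7] at hd
    have take : ∀ a b : ℕ, a ≤ A2.card → b ≤ A4.card → 3 ≤ a + b → a + b < k → a + 2 * b = 8 → Short R := by
      intro a b ha hb hab3 habk hab
      obtain ⟨B, hB, hBc⟩ := Finset.exists_subset_card_eq ha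
      obtain ⟨C, hC, hCc⟩ := Finset.exists_subset_card_eq hb
      have hdis : Disjoint B C := Finset.disjoint_left.2 fun t h h' =>
        (Finset.mem_filter.1 (hC h')).2 (s2 t (hB h))
      have habF : (a : F) + 2 * (b : F) = 8 := by exact_mod_cast congrArg (fun m : ℕ => (m : F)) hab
      obtain ⟨y, hy, hys, -⟩ := shrink hR h2 hx (A := B ∪ C)
        (Finset.union_subset (hB.trans (Finset.filter_subset _ _)) (hC.trans (Finset.filter_subset _ _))) (by
        rw [Finset.sum_union hdis, Finset.sum_congr rfl fun t ht => s2 t (hB ht),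
          Finset.sum_congr rfl fun t ht => s4 t (hC ht), Finset.sum_const, Finset.sum_const, hBc, hCc,
          nsmul_eq_mul, nsmul_eq_mul]
        linear_combination 8 * habF + 9 * seven)
      have hc : (supp y).card = a + b := by rw [hys, Finset.card_union_of_disjoint hdis, hBc, hCc]
      exact ih _ habk y hy hc (not_root_of_card (by omega))
    by_cases c1 : 4 ≤ A4.card
    · exact take 0 4 (Nat.zero_le _) c1 (by omega) (by omega) rfl
    by_cases c2 : 8 ≤ A2.card
    · exact take 8 0 c2 (Nat.zero_le _) (by omega) (by omega) rfl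
    by_cases c3 : A4.card = 2 ∧ 4 ≤ A2.card
    · exact take 4 2 c3.2 (by omega) (by omega) (by omega) rfl
    by_cases c4 : A4.card = 3 ∧ 2 ≤ A2.card
    · exact take 2 3 c4.2 (by omega) (by omega) (by omega) rfl
    have hN : A4.card = 0 ∧ A2.card = 4 := by omega
    obtain ⟨z, hz, a, b, c, d, e, hab, hac, hbc, had, hbd, hcd, hea, heb, hec, hed, hsub, za, zb, zc, zd, ze⟩ :=
      overlap hR hn hx (q := (2 : F)) (by omega) fun t ht => by
        by_contra h
        have : t ∈ A4 := Finset.mem_filter.2 ⟨ht, h⟩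
        rw [Finset.card_eq_zero.1 hN.1] at this
        exact Finset.notMem_empty t this
    have nz : ∀ t, z t * z t ≠ 0 → t ∈ supp z := fun t h => mem_supp.2 fun e => h (by rw [e, zero_mul])
    obtain ⟨y, hy, hys, -⟩ := shrink hR h2 hz (A := {a, b, e}) (by
      simp only [Finset.insert_subset_iff, Finset.singleton_subset_iff]
      refine ⟨nz a ?_, nz b ?_, nz e ?_⟩
      · rw [za]; exact fun h => mul_ne_zero h2 h2 (show (2 : F) * 2 = 0 by linear_combination h - 34 * seven)
      · rw [zb]; exact fun h => mul_ne_zero h2 h2 (show (2 : F) * 2 = 0 by linear_combination h - 34 * seven)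
      · rw [ze]; exact fun h => one_ne_zero (show (1 : F) = 0 by linear_combination h - 41 * seven)) (by
      rw [Finset.sum_insert (by simp [hab, hea.symm]), Finset.sum_pair heb.symm, za, zb, ze]
      linear_combination (441 : F) * seven)
    refine ⟨y, hy, not_root_of_card ?_, ?_⟩ <;>
      rw [hys, Finset.card_insert_of_notMem (by simp [hab, hea.symm]), Finset.card_pair heb.symm]

/-- All unit vectors on a triple. -/
theorem triple (hR : RSet R) (hp : (Fintype.card F).Prime) (h5 : 5 ≤ Fintype.card F) (hn : 5 ≤ Fintype.card ι)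
    (hS : Short R) : ∃ i j k : ι, i ≠ j ∧ i ≠ k ∧ j ≠ k ∧
      ∀ y : ι → F, y ⬝ᵥ y = 1 → supp y ⊆ {i, j, k} → R y := by
  classical
  have h2 : (2 : F) ≠ 0 := by exact_mod_cast small_ne hp (k := 2) (by omega) (by norm_num)
  have h3 : (3 : F) ≠ 0 := by exact_mod_cast small_ne hp (k := 3) (by omega) (by norm_num)
  obtain ⟨x, hx, hnr, hcard⟩ := hS
  obtain ⟨T, hT, hTc⟩ := Finset.exists_superset_card_eq hcard (by omega : 3 ≤ Fintype.card ι)
  obtain ⟨i, j, k, hij, hik, hjk, rfl⟩ := Finset.card_eq_three.1 hTc
  -- normal forms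
  suffices key : ∀ (i j k : ι), i ≠ j → i ≠ k → j ≠ k → supp x ⊆ {i, j, k} → x k ≠ 0 →
      ((x j = 0 ∧ 2 * (x i * x i) ≠ 1 ∧ x i * x i ≠ 1 ∧ x i ≠ 0) ∨
        (x j ≠ 0 ∧ 4 * (x i * x i) ≠ 1 ∧ 2 * (x i * x i) ≠ 1 ∧ x i ≠ 0) ∨
        (4 * (x i * x i) = 1 ∧ 2 * (x j * x j) = 1 ∧ 4 * (x k * x k) = 1)) →
      ∀ y : ι → F, y ⬝ᵥ y = 1 → supp y ⊆ {i, j, k} → R y by
    refine ⟨i, j, k, hij, hik, hjk, ?_⟩
    have p1 : ({i, j, k} : Finset ι) = {i, k, j} := by rw [Finset.pair_comm j k]
    have p2 : ({i, j, k} : Finset ι) = {j, i, k} := by rw [Finset.insert_comm]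
    have p3 : ({i, j, k} : Finset ι) = {j, k, i} := by ext t; simp; tauto
    have p4 : ({i, j, k} : Finset ι) = {k, i, j} := by ext t; simp; tauto
    have p5 : ({i, j, k} : Finset ι) = {k, j, i} := by ext t; simp; tauto
    have hsum : x i * x i + x j * x j + x k * x k = 1 := by
      rw [← hR.unit x hx, dot_on (A := {i, j, k}) (fun t ht => not_mem_supp.1 fun h => ht (hT h)),
        Finset.sum_insert (by simp [hij, hik]), Finset.sum_pair hjk]
      ring
    by_cases zi : x i = 0
    · have hj0 : x j ≠ 0 := fun e => hnr ⟨k, k, fun t ht _ => not_mem_supp.1 fun h => by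
        have h' := hT h; simp at h'
        rcases h' with rfl | rfl | rfl
        exacts [mem_supp.1 h zi, mem_supp.1 h e, ht rfl], Or.inr (Or.inr rfl)⟩
      have hk0 : x k ≠ 0 := fun e => hnr ⟨j, j, fun t ht _ => not_mem_supp.1 fun h => by
        have h' := hT h; simp at h'
        rcases h' with rfl | rfl | rfl
        exacts [mem_supp.1 h zi, ht rfl, mem_supp.1 h e], Or.inr (Or.inr rfl)⟩
      rw [p3.trans (by ext t; simp; tauto : ({j, k, i} : Finset ι) = {j, i, k})] at hT ⊢
      refine key j i k hij.symm hjk hik hT hk0 (Or.inl ⟨zi, fun e => hnr ⟨j, k, fun t h1 h3 => not_mem_supp.1 fun h => ?_,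
        Or.inr (Or.inr ?_)⟩, fun e => hk0 (mul_self_eq_zero.1 ?_), hj0⟩)
      · have h' := hT h; simp at h'
        rcases h' with rfl | rfl | rfl
        exacts [h1 rfl, mem_supp.1 h zi, h3 rfl]
      · linear_combination e - hsum + x i * zi
      · linear_combination hsum - e - x i * zi
    by_cases zj : x j = 0
    · have hk0 : x k ≠ 0 := fun e => hnr ⟨i, i, fun t ht _ => not_mem_supp.1 fun h => by
        have h' := hT h; simp at h'
        rcases h' with rfl | rfl | rfl
        exacts [ht rfl, mem_supp.1 h zj, mem_supp.1 h e], Or.inr (Or.inr rfl)⟩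
      refine key i j k hij hik hjk hT hk0 (Or.inl ⟨zj, fun e => hnr ⟨i, k, fun t h1 h3 => not_mem_supp.1 fun h => ?_,
        Or.inr (Or.inr ?_)⟩, fun e => hk0 (mul_self_eq_zero.1 ?_), zi⟩)
      · have h' := hT h; simp at h'
        rcases h' with rfl | rfl | rfl
        exacts [h1 rfl, mem_supp.1 h zj, h3 rfl]
      · linear_combination e - hsum + x j * zj
      · linear_combination hsum - e - x j * zj
    by_cases zk : x k = 0
    · rw [p1] at hT ⊢
      refine key i k j hik hij hjk.symm hT zj (Or.inl ⟨zk, fun e => hnr ⟨i, j, fun t h1 h3 => not_mem_supp.1 fun h => ?_,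
        Or.inr (Or.inr ?_)⟩, fun e => zj (mul_self_eq_zero.1 ?_), zi⟩)
      · have h' := hT h; simp at h'
        rcases h' with rfl | rfl | rfl
        exacts [h1 rfl, mem_supp.1 h zk, h3 rfl]
      · linear_combination e - hsum + x k * zk
      · linear_combination hsum - e - x k * zk
    by_cases gi : 4 * (x i * x i) ≠ 1 ∧ 2 * (x i * x i) ≠ 1
    · exact key i j k hij hik hjk hT zk (Or.inr (Or.inl ⟨zj, gi.1, gi.2, zi⟩))
    by_cases gj : 4 * (x j * x j) ≠ 1 ∧ 2 * (x j * x j) ≠ 1
    · rw [p2] at hT ⊢
      exact key j i k hij.symm hjk hik hT zk (Or.inr (Or.inl ⟨zi, gj.1, gj.2, zj⟩))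
    by_cases gk : 4 * (x k * x k) ≠ 1 ∧ 2 * (x k * x k) ≠ 1
    · rw [p4] at hT ⊢
      exact key k i j hik.symm hjk.symm hij hT zj (Or.inr (Or.inl ⟨zi, gk.1, gk.2, zk⟩))
    have e1 : 4 * (x i * x i) = 1 ∨ 2 * (x i * x i) = 1 := by by_contra h; push Not at h; exact gi h
    have e2 : 4 * (x j * x j) = 1 ∨ 2 * (x j * x j) = 1 := by by_contra h; push Not at h; exact gj h
    have e3 : 4 * (x k * x k) = 1 ∨ 2 * (x k * x k) = 1 := by by_contra h; push Not at h; exact gk h
    rcases e1 with e1 | e1 <;> rcases e2 with e2 | e2 <;> rcases e3 with e3 | e3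
    · exact absurd (show (1 : F) = 0 by linear_combination e1 + e2 + e3 - 4 * hsum) one_ne_zero
    · rw [p1] at hT ⊢; exact key i k j hik hij hjk.symm hT zj (Or.inr (Or.inr ⟨e1, e3, e2⟩))
    · exact key i j k hij hik hjk hT zk (Or.inr (Or.inr ⟨e1, e2, e3⟩))
    · exact absurd (show (1 : F) = 0 by linear_combination -e1 - 2 * e2 - 2 * e3 + 4 * hsum) one_ne_zero
    · rw [p2] at hT ⊢; exact key j i k hij.symm hjk hik hT zk (Or.inr (Or.inr ⟨e2, e1, e3⟩))
    · exact absurd (show (1 : F) = 0 by linear_combination -2 * e1 - e2 - 2 * e3 + 4 * hsum) one_ne_zero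
    · exact absurd (show (1 : F) = 0 by linear_combination -2 * e1 - 2 * e2 - e3 + 4 * hsum) one_ne_zero
    · exact absurd (show (2 : F) = 0 by linear_combination -2 * e1 - 2 * e2 - 2 * e3 + 4 * hsum) h2
  clear hij hik hjk hTc hT i j k
  intro i j k hij hik hjk hT hk0 hform
  set u : ι → F := ax k with hu
  have hui : u i = 0 := ax_ne hik
  have huj : u j = 0 := ax_ne hjk
  have hc : u ⬝ᵥ u = 1 := by rw [hu, dot_ax, ax_self]
  have hrep : ∀ y : ι → F, supp y ⊆ {i, j, k} → emb i j u ![y i, y j, y k] = y := by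
    intro y hy
    funext t
    obtain ⟨a0, a1, a2⟩ := emb_at hij hui huj ![y i, y j, y k]
    rcases eq_or_ne t i with rfl | hti
    · simpa using a0
    rcases eq_or_ne t j with rfl | htj
    · simpa using a1
    rcases eq_or_ne t k with rfl | htk
    · rw [a2 t hti htj]; simp [hu, ax_self]
    · rw [a2 t hti htj, hu, ax_ne htk, mul_zero, eq_comm, ← not_mem_supp]
      exact fun h => by simpa [hti, htj, htk] using hy h
  obtain ⟨m, m', hm, hm1, hm1'⟩ := exists_two' hn ({i, j, k} : Finset ι) (by
    have := Finset.card_le_three (a := i) (b := j) (c := k); omega)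
  simp at hm1 hm1'
  have hsq : u m * u m = u m' * u m' := by rw [hu, ax_ne hm1.2.2, ax_ne hm1'.2.2]
  have hxe : emb i j u ![x i, x j, x k] = x := hrep x hT
  have hxR : R (emb i j u ![x i, x j, x k]) := by rw [hxe]; exact hx
  suffices h : ∀ v, nrm 1 v = 1 → R (emb i j u v) by
    intro y hy hs
    rw [← hrep y hs]
    refine h _ ?_
    have h := emb_dot hij hui huj ![y i, y j, y k] ![y i, y j, y k]
    rw [hc, hrep y hs, hy] at h
    exact h.symm
  intro v hv
  have hv' : nrm (u ⬝ᵥ u) v = 1 := by rw [hc]; exact hv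
  have hcne : u ⬝ᵥ u ≠ 0 := by rw [hc]; exact one_ne_zero
  rcases hform with ⟨zj, a2, a1, ai⟩ | ⟨-, a4, a2, ai⟩ | ⟨ei, ej, ek⟩
  · -- two coordinates
    refine units_swap hR h2 hp hij hui huj hcne hm hm1.1 hm1.2.1 hm1'.1 hm1'.2.1 hsq hxR hk0
      (w := ![1, 1, 0]) (Or.inr ⟨1, Or.inl rfl, rfl⟩) ?_ ?_ ?_ hv'
    all_goals simp [dt, nrm_pm (Or.inl rfl), zj]
    · exact ai
    · exact fun e => a2 (mul_left_cancel₀ h2 (by linear_combination e))
    · exact fun e => a1 (mul_left_cancel₀ h2 (by linear_combination e))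
  · refine units_swap hR h2 hp hij hui huj hcne hm hm1.1 hm1.2.1 hm1'.1 hm1'.2.1 hsq hxR hk0 (w := e₁)
      (Or.inl rfl) ?_ ?_ ?_ hv'
    all_goals (try rw [Frame10Tern.nrm_e₁])
    all_goals simp [dt, e₁]
    · exact ai
    · exact a4
    · exact a2
  · have ai : x i ≠ 0 := fun e => by rw [e] at ei; simp at ei
    by_cases h7 : (7 : F) = 0
    · -- seven elements
      set a := x i
      obtain ⟨r, hr, har⟩ : ∃ r, r * r = x j * x j ∧ a * r = 1 := by
        have : (a * x j) * (a * x j) = 1 := by
          refine mul_left_cancel₀ (mul_ne_zero h2 (mul_ne_zero h2 h2)) ?_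
          linear_combination 2 * (x j * x j) * ei + ej - h7
        rcases mul_self_eq_one_iff.1 this with h | h
        · exact ⟨x j, rfl, h⟩
        · exact ⟨-x j, by ring, by linear_combination -h⟩
      set P : (Fin 3 → F) → Prop := fun v => R (emb i j u v)
      have hS : ∀ {y}, R (emb i j u y) → Sym 1 P y := fun {y} hy => by
        have := sym_of_mem hR hij hui huj (z := 0) rfl rfl (dotProduct_zero u) hy
        simp only [add_zero, hc] at this
        exact this
      have hneg : ∀ v, P v → P (-v) := fun v hv => by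
        show R _
        have : emb i j u (-v) = -emb i j u v := by simp [emb]; abel
        rw [this]; exact neg_mem hR hv
      have hak : a * a = x k * x k := mul_left_cancel₀ (mul_ne_zero h2 h2) (by linear_combination ei - ek)
      obtain ⟨xi, xj, xt⟩ := emb_at hij hui huj ![x i, x j, x k]
      have xk : x k * x k = a * a := hak.symm
      have h0 : ∀ t, t ≠ i → t ≠ j → t ≠ k → x t = 0 := fun t t1 t2 t3 => not_mem_supp.1 fun h => by
        simpa [t1, t2, t3] using hT h
      have hA : R (emb i j u ![a, a, r]) := by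
        refine same_squares hR (swap_small' hR hn hx ((Finset.card_le_card hT).trans (by
          have := Finset.card_le_three (a := i) (b := j) (c := k); omega)) j k) fun t => ?_
        obtain ⟨b0, b1, b2⟩ := emb_at hij hui huj ![a, a, r]
        simp only [Function.comp_apply]
        rcases eq_or_ne t i with rfl | hti
        · rw [b0, Equiv.swap_apply_of_ne_of_ne hij hik]; rfl
        rcases eq_or_ne t j with rfl | htj
        · rw [b1, Equiv.swap_apply_left]; simpa using hak
        rw [b2 t hti htj]
        rcases eq_or_ne t k with rfl | htk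
        · rw [Equiv.swap_apply_right, hu, ax_self]; simpa using hr
        · rw [Equiv.swap_apply_of_ne_of_ne htj htk, hu, ax_ne htk, h0 t hti htj htk]; simp
      have hB : R (emb i j u ![r, a, a]) := by
        refine same_squares hR (swap_small' hR hn hx ((Finset.card_le_card hT).trans (by
          have := Finset.card_le_three (a := i) (b := j) (c := k); omega)) i j) fun t => ?_
        obtain ⟨b0, b1, b2⟩ := emb_at hij hui huj ![r, a, a]
        simp only [Function.comp_apply]
        rcases eq_or_ne t i with rfl | hti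
        · rw [b0, Equiv.swap_apply_left]; simpa using hr
        rcases eq_or_ne t j with rfl | htj
        · rw [b1, Equiv.swap_apply_right]; rfl
        rw [Equiv.swap_apply_of_ne_of_ne hti htj, b2 t hti htj]
        rcases eq_or_ne t k with rfl | htk
        · rw [hu, ax_self]; simpa using hak
        · rw [hu, ax_ne htk, h0 t hti htj htk]; simp
      have hrr : 2 * (r * r) = 1 := by rw [hr]; exact ej
      refine Frame10Tern.sweep_three h2 hp hneg (hS (by rw [emb_e₁]; exact hR.axis i))
        (hS (by rw [emb_e₂]; exact hR.axis j)) (hS hA) (hS hB) ?_ ?_ ?_ ?_ (v := e₁)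
        (by rw [Frame10Tern.nrm_e₁, hv]) (by rw [Frame10Tern.nrm_e₁]; exact one_ne_zero)
        (show R _ by rw [emb_e₁]; exact hR.axis i)
      · simp [nrm]; refine mul_left_cancel₀ (mul_ne_zero h2 h2) ?_; linear_combination 2 * ei + 2 * hrr
      · simp [nrm]; refine mul_left_cancel₀ (mul_ne_zero h2 h2) ?_; linear_combination 2 * ei + 2 * hrr
      · simp
        refine mul_left_cancel₀ (pow_ne_zero 4 h2) ?_
        grobner
      · simp [dt]
        intro e
        exact h2 (by linear_combination 4 * e - ei - 8 * har - h7)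
    · -- one of the two signs works
      set s := x i * x j
      have hs : 8 * (s * s) = 1 := by linear_combination 2 * (x j * x j) * ei + ej
      obtain ⟨σ, hσ, hσ1, hσ2⟩ : ∃ σ : F, (σ = 1 ∨ σ = -1) ∧ 2 * (3 + 8 * (σ * s)) ≠ 4 ∧ 3 + 8 * (σ * s) ≠ 4 := by
        have alt : ∀ σ : F, ¬ (2 * (3 + 8 * (σ * s)) ≠ 4 ∧ 3 + 8 * (σ * s) ≠ 4) → σ = 1 ∨ σ = -1 →
            8 * (σ * s) = -1 ∨ 8 * (σ * s) = 1 := fun σ h _ => by
          by_cases h1 : 2 * (3 + 8 * (σ * s)) = 4
          · exact Or.inl (mul_left_cancel₀ h2 (by linear_combination h1))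
          · push Not at h; exact Or.inr (by linear_combination h h1)
        by_cases h1 : 2 * (3 + 8 * (1 * s)) ≠ 4 ∧ 3 + 8 * (1 * s) ≠ 4
        · exact ⟨1, Or.inl rfl, h1.1, h1.2⟩
        exfalso
        rcases alt 1 h1 (Or.inl rfl) with e | e
        · exact h7 (by linear_combination (-8) * hs + (8 * s - 1) * e)
        · exact h7 (by linear_combination (-8) * hs + (8 * s + 1) * e)
      have hd : (x i + σ * x j) * (x i + σ * x j) * 4 = 3 + 8 * (σ * s) := by
        have : σ * σ = 1 := by rcases hσ with rfl | rfl <;> ring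
        linear_combination ei + 2 * ej + 4 * (x j * x j) * this
      refine units_swap hR h2 hp hij hui huj hcne hm hm1.1 hm1.2.1 hm1'.1 hm1'.2.1 hsq hxR hk0
        (w := ![1, σ, 0]) (Or.inr ⟨σ, hσ, rfl⟩) ?_ ?_ ?_ hv'
      all_goals simp [dt, nrm_pm hσ]
      · intro e
        refine one_ne_zero (show (1 : F) = 0 from ?_)
        rcases hσ with rfl | rfl
        · linear_combination (4 * (x j - x i)) * e + ei - 2 * ej
        · linear_combination (4 * (-x j - x i)) * e + ei - 2 * ej
      · exact fun e => hσ1 (by linear_combination -2 * hd + 2 * e)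
      · exact fun e => hσ2 (by linear_combination -hd + 2 * e)

/-- Every unit vector. -/
theorem all_units (hR : RSet R) (hp : (Fintype.card F).Prime) (h5 : 5 ≤ Fintype.card F) (hn : 5 ≤ Fintype.card ι)
    (hS : Short R) : ∀ (k : ℕ) (x : ι → F), x ⬝ᵥ x = 1 → (supp x).card = k → R x := by
  classical
  have h2 : (2 : F) ≠ 0 := by exact_mod_cast small_ne hp (k := 2) (by omega) (by norm_num)
  have h3 : (3 : F) ≠ 0 := by exact_mod_cast small_ne hp (k := 3) (by omega) (by norm_num)
  obtain ⟨i₁, j₁, k₁, hij₁, hik₁, hjk₁, hall⟩ := triple hR hp h5 hn hS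
  have three : ∀ x : ι → F, x ⬝ᵥ x = 1 → (supp x).card ≤ 3 → R x := by
    intro x hx hc
    obtain ⟨T, hT, hTc⟩ := Finset.exists_superset_card_eq hc (by omega : 3 ≤ Fintype.card ι)
    set T₁ : Finset ι := {i₁, j₁, k₁}
    have hT₁ : T₁.card = 3 := Finset.card_eq_three.2 ⟨i₁, j₁, k₁, hij₁, hik₁, hjk₁, rfl⟩
    let e : {t // t ∈ T₁} ≃ {t // t ∈ T} := Finset.equivOfCardEq (hT₁.trans hTc.symm)
    set σ : Equiv.Perm ι := e.extendSubtype
    have hy : R (x ∘ σ) := by
      refine hall _ ?_ fun t ht => ?_
      · rw [comp_equiv_dotProduct_comp_equiv, hx]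
      · by_contra hn'
        exact e.extendSubtype_not_mem t hn' (hT (mem_supp.2 (show x (σ t) ≠ 0 from (mem_supp (x := x ∘ σ)).1 ht)))
    have hw : (supp (x ∘ σ)).card ≤ 3 := by
      have : supp (x ∘ σ) = (supp x).map σ.symm.toEmbedding := by
        ext t; simp [mem_supp, Finset.mem_map_equiv]
      rw [this, Finset.card_map]; omega
    have := perm_small' hR hn σ.symm hy hw
    rwa [Function.comp_assoc, Equiv.self_comp_symm, Function.comp_id] at this
  intro k
  induction k using Nat.strong_induction_on with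
  | _ k ih =>
    intro x hx hk
    by_cases hk3 : k ≤ 3
    · exact three x hx (hk ▸ hk3)
    obtain ⟨W, hW, hWc⟩ := Finset.exists_subset_card_eq (show 4 ≤ (supp x).card by omega)
    obtain ⟨a, b, c, d, hab, hac, had, hbc, hbd, hcd, rfl⟩ := Finset.card_eq_four.1 hWc
    simp only [Finset.insert_subset_iff, Finset.singleton_subset_iff, mem_supp] at hW
    obtain ⟨i, j, l, hij, hil, hjl, hi0, hj0, hl0, hs⟩ : ∃ i j l, i ≠ j ∧ i ≠ l ∧ j ≠ l ∧ x i ≠ 0 ∧ x j ≠ 0 ∧
        x l ≠ 0 ∧ x i * x i + x j * x j + x l * x l ≠ 0 := by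
      by_contra hcon
      push Not at hcon
      have e1 := hcon a b c hab hac hbc hW.1 hW.2.1 hW.2.2.1
      have e2 := hcon a b d hab had hbd hW.1 hW.2.1 hW.2.2.2
      have e3 := hcon a c d hac had hcd hW.1 hW.2.2.1 hW.2.2.2
      have e4 := hcon b c d hbc hbd hcd hW.2.1 hW.2.2.1 hW.2.2.2
      exact mul_ne_zero h3 (mul_ne_zero hW.1 hW.1) (by linear_combination e1 + e2 + e3 - 2 * e4)
    obtain ⟨α, β, hαβ⟩ := Frame10Tern.exists_rep h2 one_ne_zero (x i * x i + x j * x j + x l * x l)
    rw [one_mul] at hαβ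
    set z : ι → F := x - x i • ax i - x j • ax j - x l • ax l with hz
    have hzi : z i = 0 := by simp [hz, ax, hij, hil]
    have hzj : z j = 0 := by simp [hz, ax, hij.symm, hjl]
    have hzl : z l = 0 := by simp [hz, ax, hil.symm, hjl.symm]
    have hui : (ax l : ι → F) i = 0 := ax_ne hil
    have huj : (ax l : ι → F) j = 0 := ax_ne hjl
    have hzu : ax l ⬝ᵥ z = 0 := by rw [dot_ax, hzl]
    have hxe : emb i j (ax l) ![x i, x j, x l] + z = x := by simp [emb, hz]
    set P : (Fin 3 → F) → Prop := fun v => R (emb i j (ax l) v + z)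
    have hcu : (ax l : ι → F) ⬝ᵥ ax l = 1 := by rw [dot_ax, ax_self]
    have hneg : ∀ v, P v → P (-v) := fun v hv => by
      refine same_squares hR hv fun t => ?_
      simp only [Pi.add_apply]
      have hneg' : emb i j (ax l) (-v) t = -emb i j (ax l) v t := by simp [emb]; ring
      rw [hneg']
      rcases eq_or_ne t i with rfl | hti
      · rw [hzi]; ring
      rcases eq_or_ne t j with rfl | htj
      · rw [hzj]; ring
      rcases eq_or_ne t l with rfl | htl
      · rw [hzl]; ring
      rw [(emb_at hij hui huj v).2.2 t hti htj, ax_ne htl]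
      ring
    have hall' : ∀ w, nrm 1 w = 1 → Sym 1 P w := fun w hw => by
      have h := sym_of_mem hR hij hui huj hzi hzj hzu (w := w) (three _ (by rw [emb_dot hij hui huj, hcu]; exact hw) (by
        refine le_trans (Finset.card_le_card (t := {i, j, l}) fun t ht => ?_) Finset.card_le_three
        by_contra hc'
        simp at hc'
        exact mem_supp.1 ht (by rw [(emb_at hij hui huj w).2.2 t hc'.1 hc'.2.1, ax_ne hc'.2.2, mul_zero])))
      rw [hcu] at h
      exact h
    have hbase : P ![α, β, 0] := by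
      have hval : (emb i j (ax l) ![α, β, 0] + z) ⬝ᵥ (emb i j (ax l) ![α, β, 0] + z) = 1 := by
        have orth : ∀ v, emb i j (ax l) v ⬝ᵥ z = 0 := fun v => by
          simp [emb, add_dotProduct, smul_dotProduct, dot_ax, hzi, hzj, hzl]
        have h0 : x ⬝ᵥ x = dt 1 ![x i, x j, x l] ![x i, x j, x l] + z ⬝ᵥ z := by
          conv_lhs => rw [← hxe]
          simp only [add_dotProduct, dotProduct_add, dotProduct_comm z (emb i j (ax l) _), orth,
            emb_dot hij hui huj, hcu]
          ring
        simp only [add_dotProduct, dotProduct_add, dotProduct_comm z (emb i j (ax l) _), orth,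
          emb_dot hij hui huj, hcu]
        rw [hx] at h0
        simp [dt] at h0 ⊢
        linear_combination hαβ - h0
      have hlt : (supp (emb i j (ax l) ![α, β, 0] + z)).card < k := by
        rw [← hk]
        refine Finset.card_lt_card ((Finset.ssubset_iff_of_subset fun t ht => mem_supp.2 fun e => ?_).2
          ⟨l, mem_supp.2 hl0, fun h => mem_supp.1 h ?_⟩)
        · have hti : t ≠ i := fun h => hi0 (h ▸ e)
          have htj : t ≠ j := fun h => hj0 (h ▸ e)
          have htl : t ≠ l := fun h => hl0 (h ▸ e)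
          refine mem_supp.1 ht ?_
          rw [Pi.add_apply, (emb_at hij hui huj _).2.2 t hti htj, ax_ne htl, mul_zero, zero_add]
          simp [hz, ax, hti, htj, htl, e]
        · rw [Pi.add_apply, (emb_at hij hui huj _).2.2 l hil.symm hjl.symm, hzl]
          simp
      exact ih _ hlt _ hval rfl
    have := Frame10Tern.sweep_all h2 h3 hp hneg hall' (v := ![α, β, 0]) (w := ![x i, x j, x l])
      (by simp [nrm]; linear_combination hαβ)
      (by simp [nrm]; rw [hαβ]; exact hs) hbase
    show R x
    rw [← hxe]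
    exact this

/-- Three elements: supports only. -/
theorem all_units_three (hR : RSet R) (h3 : Fintype.card F = 3) (hn : 5 ≤ Fintype.card ι) {x₀ : ι → F}
    (hx₀ : R x₀) (hnr : ¬ Root x₀) : ∀ x : ι → F, x ⬝ᵥ x = 1 → R x := by
  classical
  have hp : (Fintype.card F).Prime := by rw [h3]; norm_num
  have three : (3 : F) = 0 := by
    have := FiniteField.cast_card_eq_zero F; rw [h3] at this; exact_mod_cast this
  have h2 : (2 : F) ≠ 0 := by exact_mod_cast small_ne hp (k := 2) (by omega) (by norm_num)
  have hsq : ∀ {a : F}, a ≠ 0 → a * a = 1 := fun {a} ha => by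
    have h1 := FiniteField.pow_card_sub_one_eq_one a ha
    rw [h3] at h1
    linear_combination h1
  have hmod : ∀ x : ι → F, x ⬝ᵥ x = 1 → (supp x).card % 3 = 1 := by
    intro x hx
    rw [sum_supp, Finset.sum_congr rfl fun t ht => hsq (mem_supp.1 ht), Finset.sum_const, nsmul_one] at hx
    have := dvd_of_cast hp (k := (supp x).card + 2) (by push_cast; linear_combination hx + three)
    rw [h3] at this
    omega
  have hsame : ∀ {x y : ι → F}, R x → supp y = supp x → R y := fun {x y} hx e => same_squares hR hx fun t => by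
    by_cases h : x t = 0
    · have : y t = 0 := not_mem_supp.1 (e ▸ not_mem_supp.2 h)
      rw [h, this]
    · have : y t ≠ 0 := mem_supp.1 (e ▸ mem_supp.2 h)
      rw [hsq h, hsq this]
  have hswap : ∀ {x : ι → F}, R x → ∀ a b, R (x ∘ Equiv.swap a b) := by
    intro x hx a b
    rcases eq_or_ne a b with rfl | hab
    · simpa using hx
    set S := Finset.univ \ ({a, b} : Finset ι)
    have hS : 3 ≤ S.card := by
      rw [Finset.card_sdiff_of_subset (Finset.subset_univ _), Finset.card_univ, Finset.card_pair hab]; omega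
    obtain ⟨m, hm, m', hm', hne, he⟩ := Finset.exists_ne_map_eq_of_card_lt_of_maps_to (s := S)
      (t := (Finset.univ : Finset Bool)) (by simp; omega) (f := fun t => decide (x t = 0)) (fun t _ => Finset.mem_univ _)
    simp [S] at hm hm'
    refine swap_mem hR hx hab hne hm.1 hm.2 hm'.1 hm'.2 ?_
    by_cases h : x m = 0
    · rw [h, show x m' = 0 from of_decide_eq_true (he ▸ decide_eq_true h)]
    · have : x m' ≠ 0 := of_decide_eq_false (he ▸ decide_eq_false h)
      rw [hsq h, hsq this]
  have hperm : ∀ (σ : Equiv.Perm ι) {x : ι → F}, R x → R (x ∘ σ) := by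
    intro σ
    induction σ using Equiv.Perm.swap_induction_on with
    | one => intro x hx; exact hx
    | swap_mul f a b _ ih => intro x hx; exact ih (hswap hx a b)
  let K : ℕ → Prop := fun k => ∀ x : ι → F, (supp x).card = k → R x
  have hK : ∀ {x : ι → F}, R x → K (supp x).card := by
    intro x hx y hy
    let e : {t // t ∈ supp y} ≃ {t // t ∈ supp x} := Finset.equivOfCardEq hy
    refine hsame (hperm e.extendSubtype hx) ?_
    ext t
    rw [mem_supp, mem_supp, Function.comp_apply]
    by_cases ht : t ∈ supp y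
    · exact iff_of_true (mem_supp.1 ht) (mem_supp.1 (e.extendSubtype_mem t ht))
    · exact iff_of_false (fun h => h (not_mem_supp.1 ht)) (fun h => h (not_mem_supp.1 (e.extendSubtype_not_mem t ht)))
  have hdown : ∀ k, 7 ≤ k → k % 3 = 1 → k ≤ Fintype.card ι → K k → K (k - 3) := by
    intro k h7 hk3 hkn hk
    obtain ⟨S, -, hS⟩ := Finset.exists_subset_card_eq (show k ≤ (Finset.univ : Finset ι).card by simpa using hkn)
    obtain ⟨D, hD, hDc⟩ := Finset.exists_subset_card_eq (show k - 3 ≤ S.card by omega)
    set x : ι → F := fun t => if t ∈ S then 1 else 0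
    have hxs : supp x = S := by ext t; simp [mem_supp, x]
    have hx : R x := hk x (by rw [hxs, hS])
    obtain ⟨y, hy, hys, -⟩ := shrink hR h2 hx (A := D) (hxs ▸ hD) (by
      rw [Finset.sum_congr rfl (g := fun _ => (1 : F)) (fun t ht => by simp [x, hD ht]), Finset.sum_const,
        nsmul_one, hDc]
      have : ((k - 3 : ℕ) : F) = 1 := by
        rw [show k - 3 = 3 * ((k - 4) / 3) + 1 by omega]
        push_cast
        linear_combination (((k - 4) / 3 : ℕ) : F) * three
      linear_combination 4 * this + three)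
    have h := hK hy
    rwa [hys, hDc] at h
  have hup : ∀ k, 4 ≤ k → k % 3 = 1 → k + 3 ≤ Fintype.card ι → K 4 → K k → K (k + 3) := by
    intro k h4 hk3 hkn hK4 hk
    obtain ⟨S, -, hS⟩ := Finset.exists_subset_card_eq (show k + 3 ≤ (Finset.univ : Finset ι).card by simpa using hkn)
    obtain ⟨W, hWS, hW⟩ := Finset.exists_subset_card_eq (show 4 ≤ S.card by omega)
    obtain ⟨e, he⟩ := Finset.card_pos.1 (show 0 < W.card by omega)
    set U := insert e (S \ W)
    have hU : U.card = k := by
      rw [Finset.card_insert_of_notMem (by simp [he]), Finset.card_sdiff_of_subset hWS]; omega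
    set x : ι → F := fun t => if t ∈ U then 1 else 0
    set w : ι → F := fun t => if t ∈ W then 1 else 0
    have hxs : supp x = U := by ext t; simp [mem_supp, x]
    have hws : supp w = W := by ext t; simp [mem_supp, w]
    have hx : R x := hk x (by rw [hxs, hU])
    have hw : R w := hK4 w (by rw [hws, hW])
    have hdot : w ⬝ᵥ x = 1 := by
      rw [dot_on (A := W) (fun t ht => by simp [w, ht]), Finset.sum_eq_single e (fun t ht hte => by simp [x, U, ht, hte])
        (fun h => absurd he h)]
      simp [w, x, U, he]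
    have hz := hR.closed w x hw hx
    have hzs : supp (rv w x) = S := by
      ext t
      rw [mem_supp, rv, hdot, hR.unit w hw, Pi.sub_apply, Pi.smul_apply, smul_eq_mul]
      by_cases hte : t = e
      · subst hte
        simp [x, w, U, he, hWS he]
        exact fun h => one_ne_zero (show (1 : F) = 0 by linear_combination -h)
      by_cases htW : t ∈ W
      · simp [x, w, U, htW, hte, hWS htW, h2]
      · simp [x, w, U, htW, hte]
    have h := hK hz
    rwa [hzs, hS] at h
  have h0 : 4 ≤ (supp x₀).card ∧ (supp x₀).card % 3 = 1 ∧ (supp x₀).card ≤ Fintype.card ι := by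
    have hm := hmod x₀ (hR.unit x₀ hx₀)
    refine ⟨?_, hm, Finset.card_le_univ _⟩
    by_contra hlt
    obtain ⟨a, ha⟩ := Finset.card_eq_one.1 (show (supp x₀).card = 1 by omega)
    exact hnr ⟨a, a, fun t ht _ => not_mem_supp.1 (by rw [ha]; simpa using ht), Or.inr (Or.inr rfl)⟩
  have hfour : ∀ j, K (3 * j + 4) → 3 * j + 4 ≤ Fintype.card ι → K 4 := by
    intro j
    induction j with
    | zero => exact fun h _ => h
    | succ j ih => exact fun h hle => ih (by
        have := hdown _ (by omega) (by omega) hle h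
        rwa [show 3 * (j + 1) + 4 - 3 = 3 * j + 4 by omega] at this) (by omega)
  have h4 : K 4 := hfour (((supp x₀).card - 4) / 3)
    (by rw [show 3 * (((supp x₀).card - 4) / 3) + 4 = (supp x₀).card by omega]; exact hK hx₀) (by omega)
  have hevery : ∀ j, 3 * j + 4 ≤ Fintype.card ι → K (3 * j + 4) := by
    intro j
    induction j with
    | zero => exact fun _ => h4
    | succ j ih => exact fun hle => hup (3 * j + 4) (by omega) (by omega) (by omega) h4 (ih (by omega))
  intro x hx
  have hm := hmod x hx
  have hle : (supp x).card ≤ Fintype.card ι := Finset.card_le_univ _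
  by_cases h1 : (supp x).card = 1
  · obtain ⟨a, ha⟩ := Finset.card_eq_one.1 h1
    refine hsame (hR.axis a) ?_
    rw [ha]
    ext t
    simp [mem_supp, ax, Pi.single_apply]
  · have := hevery (((supp x).card - 4) / 3) (by omega) x
    exact this (by omega)

/-- All unit vectors lie in a closed set reaching outside the roots. -/
theorem descent5 (hR : RSet R) (hp : (Fintype.card F).Prime) (hodd : Odd (Fintype.card F)) (hn : Fintype.card ι = 5)
    {x : ι → F} (hx : R x) (hnr : ¬ Root x) : ∀ y : ι → F, y ⬝ᵥ y = 1 → R y := by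
  intro y hy
  by_cases h3 : Fintype.card F = 3
  · exact all_units_three hR h3 hn.ge hx hnr y hy
  have h2' := hp.two_le
  have h4 : Fintype.card F ≠ 4 := fun e => by rw [e] at hp; norm_num at hp
  have h2 : Fintype.card F ≠ 2 := fun e => by rw [e] at hodd; exact absurd hodd (by decide)
  have hS : Short R := by
    by_cases h11 : 11 ≤ Fintype.card F
    · exact short_large5 hR hp h11 hn _ x hx rfl hnr
    have hlist : Fintype.card F = 5 ∨ Fintype.card F = 7 := by
      rcases hodd with ⟨r, hr⟩
      have : Fintype.card F ≠ 9 := fun e => by rw [e] at hp; norm_num at hp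
      omega
    rcases hlist with h | h
    · exact short_five hR hp h hn.ge _ x hx rfl hnr
    · exact short_seven hR hp h hn.ge _ x hx rfl hnr
  exact all_units hR hp (by omega) hn.ge hS _ y hy rfl

end Cfsg.Agent.Frame10Five83
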