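import Cfsg.Agent.Lib.SympCliff83Mat
import Cfsg.Agent.Lib.SympTypeTwo
import Cfsg.Agent.Lib.Frame10Five83

/-!
The normaliser of an extraspecial group of order thirty-two and minus type is maximal in the symplectic
group of dimension four over a prime field.
-/

set_option autoImplicit false
set_option linter.unusedSectionVars false
set_option maxHeartbeats 800000

namespace Cfsg.Agent.SympCliff83

open Cfsg.Agent.TransvectionMax
open scoped Matrix MatrixGroups

variable {F : Type*} [Field F] [Fintype F]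

/-- The data: five pairwise anticommuting self-adjoint involutions in the group. -/
structure Cliff (R : Subgroup (GL (Fin 2 ⊕ Fin 2) F)) (z : Fin 5 → GL (Fin 2 ⊕ Fin 2) F) : Prop where
  mem : ∀ i, z i ∈ R
  sq : ∀ i, z i * z i = 1
  sa : ∀ i, SA (z i : Mat F)
  tr : ∀ i, (z i : Mat F).trace = 0
  anti : ∀ i j, i ≠ j → z i * z j = -(z j * z i)
  gen : R ≤ Subgroup.closure (Set.range z ∪ {-1})

variable {R : Subgroup (GL (Fin 2 ⊕ Fin 2) F)}

theorem ne_neg (h2 : (2 : F) ≠ 0) (u : GL (Fin 2 ⊕ Fin 2) F) : u ≠ -u := fun e => by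
  have h := congrArg (fun g : GL (Fin 2 ⊕ Fin 2) F => ((u⁻¹ * g : GL (Fin 2 ⊕ Fin 2) F) : Mat F) (.inl 0) (.inl 0)) e
  simp at h
  exact h2 (by linear_combination h)

theorem four_ne_zero (h2 : (2 : F) ≠ 0) : (4 : F) ≠ 0 := fun e =>
  mul_ne_zero h2 h2 (by linear_combination e)

theorem indep (h2 : (2 : F) ≠ 0) (htr : ∀ u ∈ R, u ≠ 1 → u ≠ -1 → (u : Mat F).trace = 0)
    {κ : Type*} [Fintype κ] (v : κ → GL (Fin 2 ⊕ Fin 2) F) (hv : ∀ k, v k ∈ R)
    (hd : ∀ k l, k ≠ l → v k ≠ v l ∧ v k ≠ -v l) : LinearIndependent F fun k => (v k : Mat F) := by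
  classical
  rw [Fintype.linearIndependent_iff]
  intro g hg k
  have h := congrArg (fun A : Mat F => (((v k)⁻¹ : GL (Fin 2 ⊕ Fin 2) F) : Mat F) * A) hg
  simp only [Finset.mul_sum, mul_smul_comm, mul_zero, ← Units.val_mul] at h
  have h' := congrArg Matrix.trace h
  rw [Matrix.trace_sum, Finset.sum_eq_single k (fun l _ hl => by
    rw [Matrix.trace_smul, htr _ (R.mul_mem (R.inv_mem (hv k)) (hv l)), smul_zero]
    · exact fun e => (hd l k hl).1 (inv_mul_eq_one.1 e).symm
    · exact fun e => (hd l k hl).2 (by rw [inv_mul_eq_iff_eq_mul.1 e, mul_neg, mul_one]))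
    (fun h => absurd (Finset.mem_univ k) h), inv_mul_cancel, Units.val_one, Matrix.trace_smul, Matrix.trace_one,
    Matrix.trace_zero] at h'
  simp at h'
  exact h'.resolve_right (four_ne_zero h2)

theorem skew_le (h2 : (2 : F) ≠ 0) (htr : ∀ u ∈ R, u ≠ 1 → u ≠ -1 → (u : Mat F).trace = 0)
    (hsk : ∀ {u : GL (Fin 2 ⊕ Fin 2) F}, u ∈ R → u * u = -1 → SK (u : Mat F))
    {κ : Type*} [Fintype κ] (v : κ → GL (Fin 2 ⊕ Fin 2) F) (hv : ∀ k, v k ∈ R) (he : ∀ k, v k * v k = -1)
    (hd : ∀ k l, k ≠ l → v k ≠ v l ∧ v k ≠ -v l) : Fintype.card κ ≤ 10 :=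
  card_le_of (P := SK) (indep h2 htr v hv hd) sk_zero (fun _ _ => sk_add) (fun _ _ => sk_smul _)
    (fun k => hsk (hv k) (he k)) (φ := ten) fun _ => eq_zero_of_ten

/-- The five involutions. -/
theorem exists_cliff (h2 : (2 : F) ≠ 0) (hRs : Cfsg.Geo.IsSymplecticTypeGroup 2 R)
    (hRi : Cfsg.Geo.ActsAbsolutelyIrreducibly (Cfsg.Geo.matrixSet R)) (hR : R ≤ Cfsg.spGL 2 F)
    (hcard : Nat.card R = 32) (hZ : Nat.card (Subgroup.center R) = 2) (hminus : Cfsg.Geo.IsOfMinusType 2 R) :
    ∃ z, Cliff R z := by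
  classical
  have hf := sympForm_isSymplecticForm (F := F) 2
  obtain ⟨-, hcent, hneg, hconj, hsq⟩ := SympTypeTwo.Setup.mk' h2 hRs hRi (by rw [hZ])
  have S : SympTypeTwo.Setup R := ⟨h2, hcent, hneg, hconj, hsq⟩
  haveI : Finite R := Nat.finite_of_card_ne_zero (by omega)
  let negR : R := ⟨-1, hneg⟩
  have hne1 : negR ≠ 1 := fun e => ne_neg h2 1 (congrArg Subtype.val e).symm
  have hnc : negR ∈ Subgroup.center R := Subgroup.mem_center_iff.2 fun g => Subtype.ext (by
    show (g : GL (Fin 2 ⊕ Fin 2) F) * -1 = -1 * g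
    simp)
  -- the scalars in the group
  have hscal : ∀ {u : GL (Fin 2 ⊕ Fin 2) F}, u ∈ R → ∀ c : F, (u : Mat F) = c • (1 : Mat F) → u = 1 ∨ u = -1 := by
    intro u hu c hc
    have huc : (⟨u, hu⟩ : R) ∈ Subgroup.center R := Subgroup.mem_center_iff.2 fun g => Subtype.ext (Units.ext (by
      simp only [Subgroup.coe_mul, Units.val_mul, hc, Matrix.mul_smul, Matrix.smul_mul, mul_one, one_mul]))
    haveI : Fintype (Subgroup.center R) := Fintype.ofFinite _
    by_contra hno
    push Not at hno
    have h3 : ({⟨_, huc⟩, ⟨_, hnc⟩, 1} : Finset (Subgroup.center R)).card = 3 := by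
      refine Finset.card_eq_three.2 ⟨_, _, _, ?_, ?_, ?_, rfl⟩
      · exact fun e => hno.2 (congrArg (fun w : Subgroup.center R => ((w : R) : GL (Fin 2 ⊕ Fin 2) F)) e)
      · exact fun e => hno.1 (congrArg (fun w : Subgroup.center R => ((w : R) : GL (Fin 2 ⊕ Fin 2) F)) e)
      · exact fun e => hne1 (congrArg Subtype.val e)
    have := Finset.card_le_univ ({⟨_, huc⟩, ⟨_, hnc⟩, 1} : Finset (Subgroup.center R))
    rw [h3, ← Nat.card_eq_fintype_card, hZ] at this
    omega
  have htr : ∀ {u : GL (Fin 2 ⊕ Fin 2) F}, u ∈ R → u ≠ 1 → u ≠ -1 → (u : Mat F).trace = 0 := fun {u} hu h1 h1' =>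
    S.trace_zero hu fun c hc => (hscal hu c hc).elim h1 h1'
  have htr' : ∀ u ∈ R, u ≠ 1 → u ≠ -1 → (u : Mat F).trace = 0 := fun u hu => htr hu
  have hiso : ∀ {u : GL (Fin 2 ⊕ Fin 2) F}, u ∈ R → ∀ x y, Cfsg.sympForm 2 F ((u : Mat F) *ᵥ x) y =
      Cfsg.sympForm 2 F x (((u⁻¹ : GL (Fin 2 ⊕ Fin 2) F) : Mat F) *ᵥ y) := fun {u} hu x y => by
    conv_lhs => rw [← act_inv_act u y]
    exact hR hu _ _
  have hsa : ∀ {u : GL (Fin 2 ⊕ Fin 2) F}, u ∈ R → u * u = 1 → SA (u : Mat F) := fun {u} hu e x y => by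
    rw [hiso hu, inv_eq_of_mul_eq_one_right e]
  have hsk : ∀ {u : GL (Fin 2 ⊕ Fin 2) F}, u ∈ R → u * u = -1 → SK (u : Mat F) := fun {u} hu e x y => by
    rw [hiso hu, inv_eq_of_mul_eq_one_right (show u * -u = 1 by rw [mul_neg, e, neg_neg]), Units.val_neg,
      Matrix.neg_mulVec, TransvectionMax.neg_right hf.bilinear]
  -- the classes
  let Q := R ⧸ Subgroup.center R
  haveI : Fintype Q := Fintype.ofFinite _
  have hQ : Fintype.card Q = 16 := by
    have := Subgroup.card_eq_card_quotient_mul_card_subgroup (Subgroup.center R)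
    rw [hcard, hZ, Nat.card_eq_fintype_card] at this
    show Fintype.card (R ⧸ Subgroup.center R) = 16
    omega
  let v : Q → GL (Fin 2 ⊕ Fin 2) F := fun q => ((Quotient.out q : R) : GL (Fin 2 ⊕ Fin 2) F)
  have hvR : ∀ q, v q ∈ R := fun q => (Quotient.out q : R).2
  have hmk : ∀ q : Q, ((Quotient.out q : R) : Q) = q := fun q => QuotientGroup.out_eq' q
  have hd : ∀ k l, k ≠ l → v k ≠ v l ∧ v k ≠ -v l := fun k l hkl => by
    refine ⟨fun e => hkl ?_, fun e => hkl ?_⟩
    · rw [← hmk k, ← hmk l, Subtype.ext e]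
    · rw [← hmk k, ← hmk l, QuotientGroup.eq]
      convert hnc using 1
      refine Subtype.ext ?_
      show (v k)⁻¹ * v l = -1
      rw [e, inv_mul_eq_iff_eq_mul, mul_neg, mul_one, neg_neg]
  let P := {q : Q // q ≠ 1 ∧ v q * v q = 1}
  have hP5 : Fintype.card P ≤ 5 := by
    refine card_le_of (P := fun X : Mat F => SA X ∧ X.trace = 0)
      (indep h2 htr' (fun q : P => v q.1) (fun q => hvR _) fun k l h => hd _ _ fun e => h (Subtype.ext e))
      ⟨sa_zero, Matrix.trace_zero _ _⟩ (fun X Y h h' => ⟨sa_add h.1 h'.1, by rw [Matrix.trace_add, h.2, h'.2, add_zero]⟩)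
      (fun c X h => ⟨sa_smul c h.1, by rw [Matrix.trace_smul, h.2, smul_zero]⟩)
      (fun q => ⟨hsa (hvR _) q.2.2, htr (hvR _) ?_ ?_⟩) (φ := five) (fun X h => eq_zero_of_five h2 h.1 h.2)
    · intro e
      refine q.2.1 ?_
      rw [← hmk q.1, QuotientGroup.eq_one_iff]
      convert one_mem (Subgroup.center R)
      exact Subtype.ext e
    · intro e
      refine q.2.1 ?_
      rw [← hmk q.1, QuotientGroup.eq_one_iff]
      convert hnc
      exact Subtype.ext e
  have hN10 : Fintype.card {q : Q // v q * v q = -1} ≤ 10 :=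
    skew_le h2 htr' hsk (fun q : {q : Q // v q * v q = -1} => v q.1) (fun q => hvR _) (fun q => q.2)
      fun k l h => hd _ _ fun e => h (Subtype.ext e)
  have hP : Fintype.card P = 5 := by
    refine le_antisymm hP5 ?_
    have hcov : (Finset.univ : Finset Q) ⊆
        (Finset.univ.filter fun q => q ≠ 1 ∧ v q * v q = 1) ∪ ((Finset.univ.filter fun q => v q * v q = -1) ∪ {1}) :=
      fun q _ => by
        rcases hsq _ (hvR q) with e | e <;> by_cases hq : q = 1 <;> simp [e, hq]
    have := Finset.card_le_card hcov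
    have := Finset.card_union_le (Finset.univ.filter fun q => q ≠ 1 ∧ v q * v q = 1)
      ((Finset.univ.filter fun q => v q * v q = -1) ∪ {1})
    have := Finset.card_union_le (Finset.univ.filter fun q => v q * v q = -1) ({1} : Finset Q)
    rw [Fintype.card_subtype] at hN10 ⊢
    rw [Finset.card_univ, hQ] at *
    rw [Finset.card_singleton] at *
    omega
  let e := (Fintype.equivFinOfCardEq hP).symm
  let z : Fin 5 → GL (Fin 2 ⊕ Fin 2) F := fun i => v (e i).1
  have hz : ∀ i, z i ∈ R := fun i => hvR _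
  have hzsq : ∀ i, z i * z i = 1 := fun i => (e i).2.2
  have hzd : ∀ i j, i ≠ j → z i ≠ z j ∧ z i ≠ -z j := fun i j h =>
    hd _ _ fun he => h (e.injective (Subtype.ext he))
  have hz1 : ∀ i, z i ≠ 1 ∧ z i ≠ -1 := fun i => by
    refine ⟨fun h => (e i).2.1 ?_, fun h => (e i).2.1 ?_⟩
    · rw [← hmk (e i).1, QuotientGroup.eq_one_iff]
      convert one_mem (Subgroup.center R)
      exact Subtype.ext h
    · rw [← hmk (e i).1, QuotientGroup.eq_one_iff]
      convert hnc
      exact Subtype.ext h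
  have hanti : ∀ i j, i ≠ j → z i * z j = -(z j * z i) := by
    intro i j hij
    have h := hconj (z i) (hz i) (z j) (hz j)
    rw [mul_inv_eq_iff_eq_mul, mul_inv_eq_iff_eq_mul] at h
    refine (h.resolve_left fun hcom => ?_).trans (neg_mul _ _)
    -- an elementary abelian subgroup of order eight
    let a : R := ⟨z i, hz i⟩
    let b : R := ⟨z j, hz j⟩
    have ha : a * a = 1 := Subtype.ext (hzsq i)
    have hb : b * b = 1 := Subtype.ext (hzsq j)
    have hn2 : negR * negR = 1 := Subtype.ext (by show (-1 : GL (Fin 2 ⊕ Fin 2) F) * -1 = 1; simp)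
    have hab : a * b = b * a := Subtype.ext hcom
    have hs : ∀ x ∈ ({negR, a, b} : Set R), ∀ y ∈ ({negR, a, b} : Set R), x * y = y * x := by
      have hn : ∀ x : R, negR * x = x * negR := fun x => ((Subgroup.mem_center_iff.1 hnc) x).symm
      rintro x (rfl | rfl | rfl) y (rfl | rfl | rfl) <;> simp [hn, hab]
    let A := Subgroup.closure ({negR, a, b} : Set R)
    haveI hA : IsMulCommutative A := Subgroup.isMulCommutative_closure hs
    have hA2 : ∀ x ∈ A, x * x = 1 := by
      intro x hx
      induction hx using Subgroup.closure_induction with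
      | mem x hx => rcases hx with rfl | rfl | rfl <;> assumption
      | one => simp
      | mul x y hx hy ex ey =>
        have : x * y = y * x := congrArg Subtype.val (mul_comm' (⟨x, hx⟩ : A) ⟨y, hy⟩)
        calc x * y * (x * y) = x * (y * x) * y := by group
          _ = x * x * (y * y) := by rw [← this]; group
          _ = 1 := by rw [ex, ey, one_mul]
      | inv x _ ex => rw [← mul_inv_rev, ex, inv_one]
    have hab1 : z i * z j ≠ 1 ∧ z i * z j ≠ -1 := by
      refine ⟨fun h => (hzd i j hij).1 ?_, fun h => (hzd i j hij).2 ?_⟩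
      · rw [← mul_one (z i), ← hzsq j, ← mul_assoc, h, one_mul]
      · rw [← mul_one (z i), ← hzsq j, ← mul_assoc, h, neg_one_mul]
    let f : Bool × Fin 4 → A := fun p => ⟨(if p.1 then negR else 1) * ![1, a, b, a * b] p.2, A.mul_mem
      (by rcases p.1 with _ | _
          · exact A.one_mem
          · exact Subgroup.subset_closure (by simp))
      (by
        have ha' : a ∈ A := Subgroup.subset_closure (by simp)
        have hb' : b ∈ A := Subgroup.subset_closure (by simp)
        fin_cases p <;> simp <;> first | exact A.one_mem | assumption | exact A.mul_mem ha' hb')⟩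
    have hinj : Function.Injective f := by
      have hval : ∀ p, (((f p : A) : R) : GL (Fin 2 ⊕ Fin 2) F) =
          (if p.1 then -1 else 1) * ![1, z i, z j, z i * z j] p.2 := by
        rintro ⟨s, k⟩
        cases s <;> fin_cases k <;> rfl
      let w : Fin 4 → GL (Fin 2 ⊕ Fin 2) F := ![1, z i, z j, z i * z j]
      have sep : ∀ k k' : Fin 4, k < k' → w k ≠ w k' ∧ w k ≠ -w k' := by
        have e1 : ∀ {x y : GL (Fin 2 ⊕ Fin 2) F}, x ≠ 1 → x ≠ -1 → y ≠ y * x ∧ y ≠ -(y * x) := fun {x y} h h' =>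
          ⟨fun e => h (mul_eq_left.1 e.symm),
            fun e => h' (mul_left_cancel (a := y) (by rw [mul_neg, mul_one]; exact neg_eq_iff_eq_neg.1 e.symm))⟩
        have e3 : ∀ {x y : GL (Fin 2 ⊕ Fin 2) F}, x ≠ 1 → x ≠ -1 → y ≠ x * y ∧ y ≠ -(x * y) := fun {x y} h h' =>
          ⟨fun e => h (mul_eq_right.1 e.symm),
            fun e => h' (mul_right_cancel (b := y) (by rw [neg_mul, one_mul]; exact neg_eq_iff_eq_neg.1 e.symm))⟩
        have pm : ∀ {x : GL (Fin 2 ⊕ Fin 2) F}, x ≠ 1 → x ≠ -1 → (1 : GL (Fin 2 ⊕ Fin 2) F) ≠ x ∧ 1 ≠ -x :=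
          fun {x} h h' => ⟨h.symm, fun e => h' (neg_eq_iff_eq_neg.1 e.symm)⟩
        intro k k' hk
        fin_cases k <;> fin_cases k' <;> first
          | exact absurd hk (by decide)
          | exact pm (hz1 i).1 (hz1 i).2
          | exact pm (hz1 j).1 (hz1 j).2
          | exact pm hab1.1 hab1.2
          | exact hzd i j hij
          | exact e1 (hz1 j).1 (hz1 j).2
          | exact e3 (hz1 i).1 (hz1 i).2
      rintro ⟨s, k⟩ ⟨s', k'⟩ hkk
      have h := congrArg (fun w : A => ((w : R) : GL (Fin 2 ⊕ Fin 2) F)) hkk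
      simp only [hval] at h
      change (if s then -1 else 1) * w k = (if s' then -1 else 1) * w k' at h
      have hk : k = k' := by
        rcases lt_trichotomy k k' with hlt | heq | hlt
        · exfalso
          obtain ⟨d1, d2⟩ := sep k k' hlt
          cases s <;> cases s' <;> simp [neg_eq_iff_eq_neg, d1, d2] at h
        · exact heq
        · exfalso
          obtain ⟨d1, d2⟩ := sep k' k hlt
          cases s <;> cases s' <;>
            simp [neg_eq_iff_eq_neg, eq_comm (a := w k), eq_neg_iff_add_eq_zero, d1.symm, d2] at h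
          all_goals first | exact d1 h | exact d2 h | exact d1 h.symm | exact d2 h.symm
      subst hk
      have hs' := mul_right_cancel h
      have nn := ne_neg (F := F) h2 1
      cases s <;> cases s' <;> first | rfl | exact absurd hs' nn | exact absurd hs'.symm nn
    have h8 := Nat.card_le_card_of_injective f hinj
    rw [Nat.card_eq_fintype_card] at h8
    have := hminus A hA hA2
    rw [← Nat.card_eq_fintype_card, Nat.card_prod, Nat.card_eq_fintype_card, Nat.card_eq_fintype_card, Fintype.card_bool,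
      Fintype.card_fin] at h8
    omega
  refine ⟨z, hz, hzsq, fun i => hsa (hz i) (hzsq i), fun i => htr (hz i) (hz1 i).1 (hz1 i).2, hanti, fun r hr => ?_⟩
  -- generation
  set H := Subgroup.closure (Set.range z ∪ {-1})
  have hzH : ∀ i, z i ∈ H := fun i => Subgroup.subset_closure (Or.inl ⟨i, rfl⟩)
  have hnH : (-1 : GL (Fin 2 ⊕ Fin 2) F) ∈ H := Subgroup.subset_closure (Or.inr rfl)
  have hneg' : ∀ {g}, g ∈ H → -g ∈ H := fun {g} hg => by rw [← neg_one_mul]; exact H.mul_mem hnH hg
  have inv1 : ∀ {g}, g ∈ R → g * g = 1 → g ∈ H := by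
    intro g hg he
    set q : Q := ((⟨g, hg⟩ : R) : Q)
    have hq : (Quotient.out q : R)⁻¹ * ⟨g, hg⟩ ∈ Subgroup.center R := QuotientGroup.eq.1 (hmk q)
    have hpm : g = v q ∨ g = -v q := by
      obtain ⟨c, hc⟩ := S.cent ((((Quotient.out q : R)⁻¹ * ⟨g, hg⟩ : R) : GL (Fin 2 ⊕ Fin 2) F) : Mat F) fun u hu => by
        rw [← Units.val_mul, ← Units.val_mul]
        exact congrArg Units.val (congrArg Subtype.val ((Subgroup.mem_center_iff.1 hq) ⟨u, hu⟩)).symm
      rcases hscal (u := (v q)⁻¹ * g) (R.mul_mem (R.inv_mem (hvR q)) hg) c hc with h | h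
      · exact Or.inl (inv_mul_eq_one.1 h).symm
      · exact Or.inr (by rw [inv_mul_eq_iff_eq_mul.1 h, mul_neg, mul_one])
    by_cases hq1 : q = 1
    · have : (⟨g, hg⟩ : R) ∈ Subgroup.center R := (QuotientGroup.eq_one_iff _).1 hq1
      obtain ⟨c, hc⟩ := S.cent (g : Mat F) fun u hu => by
        rw [← Units.val_mul, ← Units.val_mul]
        exact congrArg Units.val (congrArg Subtype.val ((Subgroup.mem_center_iff.1 this) ⟨u, hu⟩)).symm
      rcases hscal hg c hc with rfl | rfl
      exacts [H.one_mem, hnH]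
    · have hvv : v q * v q = 1 := by
        rcases hpm with h | h <;> rw [h] at he
        · exact he
        · simpa using he
      have : z (e.symm ⟨q, hq1, hvv⟩) = v q := by simp [z]
      rcases hpm with h | h <;> rw [h, ← this]
      · exact hzH _
      · exact hneg' (hzH _)
  rcases hsq r hr with he | he
  · exact inv1 hr he
  by_cases hall : ∀ i, r * z i = z i * r
  · exfalso
    let κ := {p : Fin 5 × Fin 5 // p.1 < p.2}
    let w : Option κ → GL (Fin 2 ⊕ Fin 2) F := fun o => o.elim r fun p => z p.1.1 * z p.1.2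
    have hsign : ∀ (p : κ) k, z k * w (some p) =
        if k = p.1.1 ∨ k = p.1.2 then -(w (some p) * z k) else w (some p) * z k := by
      rintro ⟨⟨i, j⟩, hij⟩ k
      simp only [w, Option.elim]
      have hij' : i ≠ j := ne_of_lt hij
      split_ifs with hk
      · rcases hk with rfl | rfl
        · rw [← mul_assoc, hzsq, one_mul, hanti _ _ hij', neg_mul, neg_neg, mul_assoc, hzsq, mul_one]
        · rw [← mul_assoc, hanti k i hij'.symm, neg_mul, mul_assoc]
      · push Not at hk
        rw [← mul_assoc, hanti k i hk.1, neg_mul, mul_assoc, hanti k j hk.2, mul_neg, neg_neg, mul_assoc]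
    have hwsq : ∀ o, w o * w o = -1 := by
      rintro (_ | ⟨⟨i, j⟩, hij⟩)
      · exact he
      · simp only [w, Option.elim]
        rw [mul_assoc, ← mul_assoc (z j), hanti j i (ne_of_gt hij), neg_mul, mul_neg, mul_assoc (z i) (z j) (z j),
          hzsq, mul_one, hzsq]
    have hwd : ∀ k l, k ≠ l → w k ≠ w l ∧ w k ≠ -w l := by
      have key : ∀ k l, (w k = w l ∨ w k = -w l) → ∀ t, (z t * w k = w k * z t) → z t * w l = w l * z t := by
        rintro k l (h | h) t ht <;> rw [h] at ht
        · exact ht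
        · simpa using ht
      have no : ∀ {a : GL (Fin 2 ⊕ Fin 2) F}, a ≠ -a := fun {a} => ne_neg h2 a
      intro k l hkl
      rw [← not_or]
      intro h
      rcases k with _ | p <;> rcases l with _ | p'
      · exact hkl rfl
      · have := key _ _ h p'.1.1 (hall p'.1.1).symm
        rw [hsign, if_pos (Or.inl rfl)] at this
        exact no this.symm
      · have := key none (some p) (h.imp Eq.symm fun h => by rw [h, neg_neg]) p.1.1 (hall p.1.1).symm
        rw [hsign, if_pos (Or.inl rfl)] at this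
        exact no this.symm
      · have hmem : ∀ t, (t = p'.1.1 ∨ t = p'.1.2) → (t = p.1.1 ∨ t = p.1.2) := fun t ht => by
          by_contra hn
          have := key _ _ h t (by rw [hsign, if_neg hn])
          rw [hsign, if_pos ht] at this
          exact no this.symm
        obtain ⟨⟨a, b⟩, hp⟩ := p
        obtain ⟨⟨a', b'⟩, hp'⟩ := p'
        simp only at hmem hp hp'
        refine hkl ?_
        have h1 := hmem a' (Or.inl rfl)
        have h3 := hmem b' (Or.inr rfl)
        have : a = a' ∧ b = b' := by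
          rcases h1 with rfl | rfl <;> rcases h3 with rfl | rfl
          · exact absurd hp' (lt_irrefl _)
          · exact ⟨rfl, rfl⟩
          · exact absurd hp' (not_lt.2 hp.le)
          · exact absurd hp' (lt_irrefl _)
        obtain ⟨rfl, rfl⟩ := this
        rfl
    have := skew_le h2 htr' hsk w (by rintro (_ | p); exacts [hr, R.mul_mem (hz _) (hz _)]) hwsq hwd
    rw [Fintype.card_option, show Fintype.card κ = 10 from by rfl] at this
    omega
  push Not at hall
  obtain ⟨i, hi⟩ := hall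
  have hanti' : z i * r = -(r * z i) := by
    have h := hconj (z i) (hz i) r hr
    rw [mul_inv_eq_iff_eq_mul, mul_inv_eq_iff_eq_mul, neg_mul] at h
    exact h.resolve_left fun h => hi h.symm
  have hrz : r * z i * (r * z i) = 1 := by
    rw [mul_assoc, ← mul_assoc (z i) r, hanti', neg_mul, mul_neg, mul_assoc r (z i) (z i), hzsq, mul_one, he, neg_neg]
  have := H.mul_mem (inv1 (R.mul_mem hr (hz i)) hrz) (hzH i)
  rwa [mul_assoc, hzsq, mul_one] at this

section cliff

variable {z : Fin 5 → GL (Fin 2 ⊕ Fin 2) F} (C : Cliff R z)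
include C

/-- The linear combination of the five involutions. -/
def lin (z : Fin 5 → GL (Fin 2 ⊕ Fin 2) F) (x : Fin 5 → F) : Mat F := ∑ i, x i • (z i : Mat F)

theorem lin_ax (i : Fin 5) : lin z (Frame10.ax i) = (z i : Mat F) := by
  simp [lin, Frame10.ax, Pi.single_apply]

theorem lin_anti (x y : Fin 5 → F) : lin z x * lin z y + lin z y * lin z x = (2 * (x ⬝ᵥ y)) • (1 : Mat F) := by
  simp only [lin, Finset.sum_mul, Finset.mul_sum, Matrix.smul_mul, Matrix.mul_smul, smul_smul]
  rw [Finset.sum_comm (f := fun i j => (y i * x j) • ((z j : Mat F) * (z i : Mat F))), ← Finset.sum_add_distrib]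
  rw [dotProduct, Finset.mul_sum, Finset.sum_smul]
  refine Finset.sum_congr rfl fun i _ => ?_
  rw [← Finset.sum_add_distrib, Finset.sum_eq_single i (fun j _ hj => ?_) (fun h => absurd (Finset.mem_univ i) h)]
  · rw [← Units.val_mul, C.sq, Units.val_one, ← add_smul]
    congr 1
    ring
  · rw [← Units.val_mul, ← Units.val_mul, C.anti j i hj, Units.val_neg, smul_neg, mul_comm (y j), add_neg_cancel]

theorem lin_sq (x : Fin 5 → F) (h2 : (2 : F) ≠ 0) : lin z x * lin z x = (x ⬝ᵥ x) • (1 : Mat F) := by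
  have h := lin_anti C x x
  rw [← two_smul F (lin z x * lin z x), mul_smul] at h
  exact smul_right_injective _ h2 h

theorem lin_sa (x : Fin 5 → F) : SA (lin z x) ∧ (lin z x).trace = 0 := by
  refine ⟨Finset.sum_induction _ SA (fun _ _ => sa_add) sa_zero fun i _ => sa_smul _ (C.sa i), ?_⟩
  simp [lin, Matrix.trace_sum, C.tr]

theorem lin_inj (h2 : (2 : F) ≠ 0) {x : Fin 5 → F} (h : lin z x = 0) : x = 0 := by
  funext i
  have h' := lin_anti C x (Frame10.ax i)
  rw [h, zero_mul, mul_zero, add_zero, Frame10.dot_ax'] at h'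
  exact (mul_eq_zero.1 ((smul_eq_zero.1 h'.symm).resolve_right one_ne_zero)).resolve_left h2

theorem exists_lin (h2 : (2 : F) ≠ 0) {X : Mat F} (hs : SA X) (ht : X.trace = 0) : ∃ x, lin z x = X := by
  let T : (Fin 5 → F) →ₗ[F] (Fin 5 → F) := five.comp (Fintype.linearCombination F fun i => (z i : Mat F))
  have hT : ∀ x, T x = five (lin z x) := fun x => rfl
  have hinj : Function.Injective T := (injective_iff_map_eq_zero T).2 fun x hx =>
    lin_inj C h2 (eq_zero_of_five h2 (lin_sa C x).1 (lin_sa C x).2 (hT x ▸ hx))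
  obtain ⟨x, hx⟩ := LinearMap.injective_iff_surjective.1 hinj (five X)
  refine ⟨x, sub_eq_zero.1 (eq_zero_of_five h2 ?_ ?_ ?_)⟩
  · rw [sub_eq_add_neg, ← neg_one_smul F X]
    exact sa_add (lin_sa C x).1 (sa_smul _ hs)
  · rw [Matrix.trace_sub, (lin_sa C x).2, ht, sub_zero]
  · rw [map_sub, ← hT, hx, sub_self]

theorem lin_conj (x y : Fin 5 → F) (h2 : (2 : F) ≠ 0) (hx : x ⬝ᵥ x ≠ 0) :
    lin z x * lin z y * lin z x = (-(x ⬝ᵥ x)) • lin z (Frame10.rv x y) := by
  have h := eq_sub_of_add_eq (lin_anti C x y)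
  rw [h, sub_mul, Matrix.smul_mul, one_mul, mul_assoc, lin_sq C x h2, Matrix.mul_smul, mul_one]
  simp only [lin, Frame10.rv, Finset.smul_sum, smul_smul, ← Finset.sum_sub_distrib, ← sub_smul, Pi.sub_apply,
    Pi.smul_apply, smul_eq_mul]
  refine Finset.sum_congr rfl fun i _ => ?_
  congr 1
  field_simp
  ring

end cliff

open Frame10 in
/-- Maximality: an overgroup of the normaliser inside the symplectic group is one of the two. -/
theorem isMaximalIn {p : ℕ} (hodd : Odd (Fintype.card F)) (hp : p.Prime) (hFp : Fintype.card F = p)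
    (hRs : Cfsg.Geo.IsSymplecticTypeGroup 2 R)
    (hRi : Cfsg.Geo.ActsAbsolutelyIrreducibly (Cfsg.Geo.matrixSet R)) (hR : R ≤ Cfsg.spGL 2 F)
    (hcard : Nat.card R = 32) (hZ : Nat.card (Subgroup.center R) = 2) (hminus : Cfsg.Geo.IsOfMinusType 2 R) :
    Cfsg.Geo.IsMaximalIn (Cfsg.spGL 2 F) (Cfsg.Geo.subgroupNormalizer R ⊓ Cfsg.spGL 2 F) := by
  classical
  have hp' : (Fintype.card F).Prime := hFp ▸ hp
  have h2 : (2 : F) ≠ 0 := by
    have := hp'.two_le
    have hne : Fintype.card F ≠ 2 := fun e => by rw [e] at hodd; exact absurd hodd (by decide)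
    exact_mod_cast small_ne hp' (k := 2) (by omega) (by norm_num)
  haveI : Finite R := Nat.finite_of_card_ne_zero (by omega)
  obtain ⟨z, C⟩ := exists_cliff h2 hRs hRi hR hcard hZ hminus
  have hneg : (-1 : GL (Fin 2 ⊕ Fin 2) F) ∈ R := (SympTypeTwo.Setup.mk' h2 hRs hRi (by rw [hZ])).neg
  have hnorm : ∀ {g : GL (Fin 2 ⊕ Fin 2) F}, (∀ i, g * z i * g⁻¹ ∈ R) → g ∈ Cfsg.Geo.subgroupNormalizer R := by
    intro g hg
    have h1 : ∀ r ∈ R, g * r * g⁻¹ ∈ R := fun r hr => by
      have hle : Subgroup.closure (Set.range z ∪ {-1}) ≤ R.comap (MulAut.conj g).toMonoidHom := by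
        rw [Subgroup.closure_le]
        rintro _ (⟨i, rfl⟩ | rfl)
        · exact hg i
        · show g * -1 * g⁻¹ ∈ R
          simpa using hneg
      exact hle (C.gen hr)
    refine Subgroup.mem_set_normalizer_iff.2 fun r => ⟨h1 r, fun h => ?_⟩
    let φ : R → R := fun u => ⟨g * u * g⁻¹, h1 u u.2⟩
    have hφ : Function.Injective φ := fun u v e => Subtype.ext (by
      have := congrArg Subtype.val e
      exact mul_left_cancel (mul_right_cancel this))
    obtain ⟨u, hu⟩ := Finite.injective_iff_surjective.1 hφ ⟨_, h⟩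
    rw [← show (u : GL (Fin 2 ⊕ Fin 2) F) = r from mul_left_cancel (mul_right_cancel (congrArg Subtype.val hu))]
    exact u.2
  constructor
  · -- proper
    refine lt_of_le_of_ne inf_le_right fun he => ?_
    have hall : ∀ u ∈ R, ∀ c, st (Cfsg.sympForm 2 F) (Pi.single (.inl 0) 1) c * u *
        (st (Cfsg.sympForm 2 F) (Pi.single (.inl 0) 1) c)⁻¹ ∈ R := fun u hu c =>
      (Subgroup.mem_set_normalizer_iff.1 ((he ▸ inf_le_left : Cfsg.spGL 2 F ≤ _) (st_mem_spGL 2 _ c)) u).1 hu
    refine SympTypeTwo.Setup.no_transvection (SympTypeTwo.Setup.mk' h2 hRs hRi (by rw [hZ])) (by simp)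
      (N := ((st (Cfsg.sympForm 2 F) (Pi.single (.inl 0) 1) 1 : GL _ F) : Mat F) - 1)
      (y := st (Cfsg.sympForm 2 F) (Pi.single (.inl 0) 1) 1) (r := p)
      ((he ▸ inf_le_left : Cfsg.spGL 2 F ≤ _) (st_mem_spGL 2 _ 1)) (hFp ▸ hodd) ?_ (by rw [add_sub_cancel]) ?_ ?_ ?_
    · have hf := sympForm_isSymplecticForm (F := F) 2
      have hpow : ∀ n : ℕ, st (Cfsg.sympForm 2 F) (Pi.single (.inl 0) 1) (1 : F) ^ n =
          st (Cfsg.sympForm 2 F) (Pi.single (.inl 0) 1) (n : F) := fun n => by
        induction n with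
        | zero => rw [pow_zero, Nat.cast_zero, st_zero hf]
        | succ n ih => rw [pow_succ, ih, st_add hf, Nat.cast_succ]
      rw [hpow, ← hFp, FiniteField.cast_card_eq_zero, st_zero hf, Units.val_one]
    all_goals
      set N := ((st (Cfsg.sympForm 2 F) (Pi.single (.inl 0) 1) 1 : GL _ F) : Mat F) - 1 with hN
      have hval : ∀ i j, N i j = if i = .inl 0 ∧ j = .inr 0 then 1 else 0 := by
        intro i j
        have h := congrFun (st_act (sympForm_isSymplecticForm (F := F) 2) (Pi.single (.inl 0) 1) 1 (Pi.single j 1)) i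
        rw [Matrix.mulVec_single] at h
        simp at h
        rw [hN, Matrix.sub_apply, h]
        rcases i with i | i <;> rcases j with j | j <;> fin_cases i <;> fin_cases j <;>
          simp [form_apply, Matrix.one_apply]
    · exact fun h => one_ne_zero (show (1 : F) = 0 by simpa [hval] using congrFun (congrFun h (.inl 0)) (.inr 0))
    · ext i j
      simp [Matrix.mul_apply, hval]
    · intro X
      ext i j
      simp [Matrix.mul_apply, Matrix.trace, hval, Fintype.sum_sum_type, Fin.sum_univ_two]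
      rcases i with i | i <;> rcases j with j | j <;> fin_cases i <;> fin_cases j <;> simp
  intro M hle hMI
  by_cases hMN : M ≤ Cfsg.Geo.subgroupNormalizer R
  · exact Or.inl (le_antisymm (le_inf hMN hMI) hle)
  refine Or.inr (le_antisymm hMI (spGL_le_of_invol h2 ?_))
  have hRM : R ≤ M := fun r hr => hle ⟨hnorm (fun i => R.mul_mem (R.mul_mem hr (C.mem i)) (R.inv_mem hr)), hR hr⟩
  -- the set of unit vectors whose involution lies in the overgroup
  let T : (Fin 5 → F) → Prop := fun x => x ⬝ᵥ x = 1 ∧ ∃ g ∈ M, (g : Mat F) = lin z x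
  have hax : ∀ i, T (ax i) := fun i => ⟨by rw [dot_ax, ax_self], z i, hRM (C.mem i), (lin_ax C i).symm⟩
  have hclosed : ∀ x y, T x → T y → T (rv x y) := by
    rintro x y ⟨hx, g, hg, hgx⟩ ⟨hy, h, hh, hhy⟩
    refine ⟨by rw [rv_dot (by rw [hx]; exact one_ne_zero), hy], -1 * (g * h * g),
      M.mul_mem (hRM hneg) (M.mul_mem (M.mul_mem hg hh) hg), ?_⟩
    rw [neg_one_mul, Units.val_neg, Units.val_mul, Units.val_mul, hgx, hhy,
      lin_conj C x y h2 (by rw [hx]; exact one_ne_zero), hx, neg_one_smul, neg_neg]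
  have hset : RSet T := by
    refine ⟨fun x hx => hx.1, hax, fun i x hx => hclosed _ _ (hax i) hx, hclosed, ?_⟩
    rintro x a b c d ⟨hx, g, hg, hgx⟩ hab hcd
    have hab0 : df (F := F) a b ⬝ᵥ df a b ≠ 0 := by rw [df_self hab]; exact h2
    have hcd0 : df (F := F) c d ⬝ᵥ df c d ≠ 0 := by rw [df_self hcd]; exact h2
    let τ : GL (Fin 2 ⊕ Fin 2) F :=
      ⟨(2 : F)⁻¹ • (lin z (df a b) * lin z (df c d)), (2 : F)⁻¹ • (lin z (df c d) * lin z (df a b)), by
        rw [Matrix.smul_mul, Matrix.mul_smul, smul_smul, mul_assoc, ← mul_assoc (lin z (df c d)), lin_sq C _ h2,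
          Matrix.smul_mul, one_mul, Matrix.mul_smul, lin_sq C _ h2, df_self hab, df_self hcd, smul_smul, smul_smul]
        rw [show (2 : F)⁻¹ * 2⁻¹ * 2 * 2 = 1 by field_simp, one_smul], by
        rw [Matrix.smul_mul, Matrix.mul_smul, smul_smul, mul_assoc, ← mul_assoc (lin z (df a b)), lin_sq C _ h2,
          Matrix.smul_mul, one_mul, Matrix.mul_smul, lin_sq C _ h2, df_self hab, df_self hcd, smul_smul, smul_smul]
        rw [show (2 : F)⁻¹ * 2⁻¹ * 2 * 2 = 1 by field_simp, one_smul]⟩
    have hτ : ∀ y, ((τ : GL _ F) : Mat F) * lin z y * ((τ⁻¹ : GL _ F) : Mat F) =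
        lin z (y ∘ (Equiv.swap c d * Equiv.swap a b : Equiv.Perm (Fin 5))) := fun y => by
      show ((2 : F)⁻¹ • (lin z (df a b) * lin z (df c d))) * lin z y * ((2 : F)⁻¹ • (lin z (df c d) * lin z (df a b))) = _
      rw [Matrix.smul_mul, Matrix.smul_mul, Matrix.mul_smul, smul_smul,
        show lin z (df a b) * lin z (df c d) * lin z y * (lin z (df c d) * lin z (df a b)) =
          lin z (df a b) * (lin z (df c d) * lin z y * lin z (df c d)) * lin z (df a b) by simp only [mul_assoc],
        lin_conj C _ _ h2 hcd0, Matrix.mul_smul, Matrix.smul_mul, lin_conj C _ _ h2 hab0, smul_smul, smul_smul,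
        df_self hab, df_self hcd, rv_df h2 hcd, rv_df h2 hab]
      rw [show (2 : F)⁻¹ * 2⁻¹ * -2 * -2 = 1 by field_simp, one_smul]
      rfl
    have hτM : τ ∈ M := by
      refine hle ⟨hnorm fun i => ?_, fun u v => ?_⟩
      · have e : τ * z i * τ⁻¹ = z ((Equiv.swap a b * Equiv.swap c d : Equiv.Perm (Fin 5)) i) := Units.ext (by
          rw [Units.val_mul, Units.val_mul, ← lin_ax C i, hτ, ← lin_ax C]
          congr 1
          funext l
          simp [ax, Pi.single_apply, Equiv.swap_apply_eq_iff])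
        rw [e]
        exact C.mem _
      · have hf := sympForm_isSymplecticForm (F := F) 2
        show Cfsg.sympForm 2 F (((2 : F)⁻¹ • (lin z (df a b) * lin z (df c d))) *ᵥ u)
          (((2 : F)⁻¹ • (lin z (df a b) * lin z (df c d))) *ᵥ v) = _
        rw [Matrix.smul_mulVec, Matrix.smul_mulVec, hf.bilinear.smul_left, hf.bilinear.smul_right,
          ← Matrix.mulVec_mulVec, ← Matrix.mulVec_mulVec, (lin_sa C _).1, Matrix.mulVec_mulVec, lin_sq C _ h2,
          Matrix.smul_mulVec, Matrix.one_mulVec, hf.bilinear.smul_right, (lin_sa C _).1, Matrix.mulVec_mulVec,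
          lin_sq C _ h2, Matrix.smul_mulVec, Matrix.one_mulVec, hf.bilinear.smul_right, df_self hab, df_self hcd]
        field_simp
    exact ⟨by rw [comp_equiv_dotProduct_comp_equiv, hx], τ * g * τ⁻¹, M.mul_mem (M.mul_mem hτM hg) (M.inv_mem hτM),
      by rw [Units.val_mul, Units.val_mul, hgx, hτ]⟩
  have hconj : ∀ g ∈ M, ∀ x, T x → ∃ y, T y ∧ lin z y = (g : Mat F) * lin z x * ((g⁻¹ : GL _ F) : Mat F) := by
    rintro g hg x ⟨hx, h, hh, hhx⟩
    have hg' : ∀ u v, Cfsg.sympForm 2 F ((g : Mat F) *ᵥ u) ((g : Mat F) *ᵥ v) = Cfsg.sympForm 2 F u v := hMI hg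
    obtain ⟨y, hy⟩ := exists_lin C h2 (X := (g : Mat F) * lin z x * ((g⁻¹ : GL _ F) : Mat F)) (fun u v => by
      rw [← Matrix.mulVec_mulVec, ← Matrix.mulVec_mulVec, ← Matrix.mulVec_mulVec, ← Matrix.mulVec_mulVec]
      conv_lhs => arg 4; rw [← act_inv_act g v]
      conv_rhs => arg 3; rw [← act_inv_act g u]
      rw [hg', hg']
      exact (lin_sa C x).1 _ _) (by rw [Matrix.trace_units_conj]; exact (lin_sa C x).2)
    refine ⟨y, ⟨?_, g * h * g⁻¹, M.mul_mem (M.mul_mem hg hh) (M.inv_mem hg), by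
      rw [Units.val_mul, Units.val_mul, hhx, hy]⟩, hy⟩
    have e := lin_sq C y h2
    rw [hy, show (g : Mat F) * lin z x * ((g⁻¹ : GL _ F) : Mat F) * ((g : Mat F) * lin z x * ((g⁻¹ : GL _ F) : Mat F)) =
      (g : Mat F) * (lin z x * lin z x) * ((g⁻¹ : GL _ F) : Mat F) by simp only [mul_assoc, Units.inv_mul_cancel_left],
      lin_sq C x h2, hx, one_smul, mul_one, Units.mul_inv] at e
    have := congrFun (congrFun e (.inl 0)) (.inl 0)
    simp at this
    exact this.symm
  obtain ⟨g, hg, i, hgi⟩ : ∃ g ∈ M, ∃ i, g * z i * g⁻¹ ∉ R := by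
    by_contra hno
    push Not at hno
    exact hMN fun g hg => hnorm (hno g hg)
  obtain ⟨x, hx, hxe⟩ := hconj g hg _ (hax i)
  have key : ∃ y, T y ∧ ¬ Root y := by
    by_contra hno
    push Not at hno
    obtain ⟨a, b, hsupp, hval⟩ := hno x hx
    have hnotax : ∀ t, (∀ l, l ≠ t → x l = 0) → False := fun t ht => by
      have hxt : x = x t • (ax t : Fin 5 → F) := funext fun l => by
        rcases eq_or_ne l t with rfl | hl
        · simp [ax]
        · rw [ht l hl, Pi.smul_apply, ax_ne hl, smul_zero]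
      have hu := hx.1
      rw [hxt, smul_dotProduct, dotProduct_smul, dot_ax, ax_self, smul_eq_mul, smul_eq_mul, mul_one] at hu
      have hlx : lin z x = x t • (z t : Mat F) := by
        rw [hxt]; simp [lin, ax, Pi.single_apply]
      refine hgi ?_
      rcases mul_self_eq_one_iff.1 hu with h | h
      · convert C.mem t using 1
        refine Units.ext ?_
        rw [Units.val_mul, Units.val_mul, ← lin_ax C i, ← hxe, hlx, h, one_smul]
      · convert R.mul_mem hneg (C.mem t) using 1
        refine Units.ext ?_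
        rw [Units.val_mul, Units.val_mul, ← lin_ax C i, ← hxe, hlx, h, neg_one_smul, neg_one_mul, Units.val_neg]
    have hab : a ≠ b := fun e => hnotax a fun l hl => hsupp l hl (e ▸ hl)
    have hb0 : x b ≠ 0 := fun e => hnotax a fun l hl => by
      rcases eq_or_ne l b with rfl | hb
      exacts [e, hsupp l hl hb]
    have ha0 : x a ≠ 0 := fun e => hnotax b fun l hl => by
      rcases eq_or_ne l a with rfl | ha
      exacts [e, hsupp l ha hl]
    have hsq : x a * x a = x b * x b := (hval.resolve_left ha0).resolve_left hb0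
    have hsum : x a * x a + x b * x b = 1 := by
      have := hx.1
      rw [dotProduct, Finset.sum_eq_add a b hab (fun t _ ht => by rw [hsupp t ht.1 ht.2, zero_mul]) (by simp)
        (by simp)] at this
      exact this
    obtain ⟨d, e, hde, hd, he⟩ := Frame10Five83.exists_two' (by simp) ({a, b} : Finset (Fin 5)) (by
      have := Finset.card_le_two (a := a) (b := b)
      simp only [Fintype.card_fin]
      omega)
    simp at hd he
    set x' := x ∘ Equiv.swap a d
    have hx' : T x' := Frame10Five83.swap_any hset hx hde (by rw [hsupp d hd.1 hd.2, hsupp e he.1 he.2]) a d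
    have hdot : x ⬝ᵥ x' = x b * x b := by
      rw [dotProduct, Finset.sum_eq_single b (fun t _ htb => ?_) (by simp)]
      · simp [x', Equiv.swap_apply_of_ne_of_ne hab.symm (Ne.symm hd.2)]
      · rcases eq_or_ne t a with rfl | hta
        · simp [x', hsupp d hd.1 hd.2]
        · rw [hsupp t hta htb, zero_mul]
    obtain ⟨y, hy, hye⟩ := hconj g⁻¹ (M.inv_mem hg) x' hx'
    have hyi : 2 * y i = 1 := by
      have e1 := lin_anti C (ax i) y
      rw [dot_ax, lin_ax C, hye, inv_inv] at e1
      have e2 : (g : Mat F) * ((z i : Mat F) * (((g⁻¹ : GL _ F) : Mat F) * lin z x' * (g : Mat F)) +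
          ((g⁻¹ : GL _ F) : Mat F) * lin z x' * (g : Mat F) * (z i : Mat F)) * ((g⁻¹ : GL _ F) : Mat F) =
          lin z x * lin z x' + lin z x' * lin z x := by
        rw [hxe, lin_ax C]
        simp only [mul_add, add_mul, mul_assoc, Units.mul_inv_cancel_left, Units.mul_inv, mul_one]
      rw [e1, lin_anti C, hdot, Matrix.mul_smul, mul_one, Matrix.smul_mul, Units.mul_inv] at e2
      have := congrFun (congrFun e2 (.inl 0)) (.inl 0)
      simp at this
      linear_combination 2 * this.resolve_right h2 - hsq + hsum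
    obtain ⟨p1, q1, hsy, hvy⟩ := hno y hy
    have hy2 : y i * y i * 4 = 1 := by linear_combination (2 * y i + 1) * hyi
    have hyi0 : y i ≠ 0 := fun e => by rw [e, mul_zero] at hyi; exact zero_ne_one hyi
    have one : y i * y i = 1 → False := fun h => by
      have h3 : (3 : F) = 0 := by linear_combination hy2 - 4 * h
      have hcard3 : Fintype.card F = 3 :=
        (Nat.prime_dvd_prime_iff_eq hp' Nat.prime_three).1 (dvd_of_cast hp' (k := 3) (by exact_mod_cast h3))
      have sqone : ∀ {w : F}, w ≠ 0 → w * w = 1 := fun {w} hw => by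
        have h1 := FiniteField.pow_card_sub_one_eq_one w hw
        rw [hcard3] at h1
        linear_combination h1
      exact one_ne_zero (show (1 : F) = 0 by linear_combination hsum - sqone ha0 - sqone hb0)
    have hyu := hy.1
    rcases eq_or_ne p1 q1 with rfl | hpq
    · refine one ?_
      rw [dotProduct, Finset.sum_eq_single p1 (fun t _ ht => by rw [hsy t ht ht, zero_mul]) (by simp)] at hyu
      rcases eq_or_ne i p1 with rfl | hi
      exacts [hyu, absurd (hsy i hi hi) hyi0]
    rw [dotProduct, Finset.sum_eq_add p1 q1 hpq (fun t _ ht => by rw [hsy t ht.1 ht.2, zero_mul]) (by simp)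
      (by simp)] at hyu
    have hipq : i = p1 ∨ i = q1 := by
      by_contra h; push Not at h; exact hyi0 (hsy i h.1 h.2)
    rcases hvy with h | h | h
    · rcases hipq with rfl | rfl
      · exact hyi0 h
      · exact one (by linear_combination hyu - y p1 * h)
    · rcases hipq with rfl | rfl
      · exact one (by linear_combination hyu - y q1 * h)
      · exact hyi0 h
    · rcases hipq with rfl | rfl
      · exact one_ne_zero (show (1 : F) = 0 by linear_combination -2 * hyu - 2 * h + hy2)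
      · exact one_ne_zero (show (1 : F) = 0 by linear_combination -2 * hyu + 2 * h + hy2)
  obtain ⟨y, hy, hyr⟩ := key
  intro g hgs hgg hgt
  obtain ⟨w, hw⟩ := exists_lin C h2 hgs hgt
  have hw1 : w ⬝ᵥ w = 1 := by
    have e := lin_sq C w h2
    rw [hw, ← Units.val_mul, hgg, Units.val_one] at e
    have := congrFun (congrFun e (.inl 0)) (.inl 0)
    simp at this
    exact this.symm
  obtain ⟨-, g', hg', e⟩ := Frame10Five83.descent5 hset hp' hodd (by simp) hy hyr w hw1
  rwa [show g = g' from Units.ext (by rw [e, hw])]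

end Cfsg.Agent.SympCliff83
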