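import Cfsg.Agent.Lib.C6Sp8Half56Code
import Cfsg.Agent.Lib.SympCliff83

/-!
The normaliser of the model group of dimension four is maximal in the symplectic group.
-/

set_option autoImplicit false
set_option linter.unusedSectionVars false

namespace Cfsg.Agent.C6Sp8

open Matrix Cfsg.Agent.C6Plus10 Cfsg.Agent.C6Minus10
open scoped MatrixGroups

variable {F : Type*} [Field F] (P : Par F)

/-- An element carrying a finite subgroup into itself normalises it. -/
theorem mem_normalizer_of {G : Type*} [Group G] [Finite G] {R : Subgroup G} {g : G}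
    (h : ∀ r ∈ R, g * r * g⁻¹ ∈ R) : g ∈ Subgroup.normalizer (R : Set G) := by
  refine Subgroup.mem_set_normalizer_iff.mpr fun x => ⟨fun hx => h x hx, fun hx => ?_⟩
  let φ : R → R := fun r => ⟨g * r.1 * g⁻¹, h r.1 r.2⟩
  have hφ : Function.Injective φ := fun a b e => Subtype.ext (by simpa [φ] using Subtype.ext_iff.mp e)
  obtain ⟨r, hr⟩ := (Finite.injective_iff_surjective.mp hφ) ⟨_, hx⟩
  exact (mul_left_cancel (mul_right_cancel (congrArg Subtype.val hr)) : r.1 = x) ▸ r.2

theorem mem_normalizer_iff_nr [Fintype F] {j : ℕ} {g : GL (Ix j) F} :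
    g ∈ Subgroup.normalizer ((Rm P : Subgroup (GL (Ix j) F)) : Set (GL (Ix j) F)) ↔ Nr P g :=
  ⟨fun h r hr => (Subgroup.mem_set_normalizer_iff.mp h r).mp hr, mem_normalizer_of⟩

theorem nr_inv [Fintype F] {j : ℕ} {g : GL (Ix j) F} (h : Nr P g) : Nr P g⁻¹ :=
  (mem_normalizer_iff_nr P).mp (inv_mem ((mem_normalizer_iff_nr P).mpr h))

theorem dec_center : ∀ x, (∀ y, cm x y = cm y x) → x = c1 ∨ x = m1 := by decide

theorem dec_pow4 : ∀ x, cm (cm x x) (cm x x) = c1 := by decide

set_option synthInstance.maxSize 1024 in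
set_option synthInstance.maxHeartbeats 200000 in
theorem dec_move : ∀ x, x = c1 ∨ x = m1 ∨ ∃ u, cm u u = m1 ∧ cm u x = ng (cm x u) := by decide

set_option synthInstance.maxSize 1024 in
set_option synthInstance.maxHeartbeats 200000 in
theorem dec_elem : ∀ x y, cm x x = c1 → cm y y = c1 → cm x y = cm y x →
    x = c1 ∨ x = m1 ∨ y = c1 ∨ y = m1 ∨ y = x ∨ y = ng x := by decide

/-- The bits of the sixteen elements up to sign. -/
def c16 : ZMod 2 × ZMod 2 × ZMod 2 × ZMod 2 → Code
  | (a, b, d, e) => (a, b, 0, d, e)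

set_option synthInstance.maxSize 1024 in
set_option synthInstance.maxHeartbeats 200000 in
theorem dec_c16 : ∀ k l, k ≠ l → c16 k ≠ c16 l ∧ c16 k ≠ ng (c16 l) := by decide

set_option synthInstance.maxSize 1024 in
set_option synthInstance.maxHeartbeats 200000 in
theorem dec_nc : ∀ u x, cm u u = m1 → cm u x = ng (cm x u) → cm (cm u x) x ≠ cm x (cm u x) := by decide

variable [Fintype F]

/-- The indices in dimension four. -/
def e4 : Fin 2 ⊕ Fin 2 ≃ Ix 1 where
  toFun := Sum.elim (fun i => ((fun _ => i), 0)) (fun i => ((fun _ => i), 1))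
  invFun u := if u.2 = 0 then Sum.inl (u.1 0) else Sum.inr (u.1 0)
  left_inv u := by rcases u with i | i <;> rfl
  right_inv u := by
    obtain ⟨x, i⟩ := u
    fin_cases i <;> exact Prod.ext (pt1_ext rfl) rfl

theorem sform_sympForm (u v : Ix 1 → F) :
    Cfsg.sympForm 2 F (fun a => u (e4 a)) (fun a => v (e4 a)) = -sform u v := by
  rw [SympCliff83.form_apply, sform]
  have : ∀ g : Pt 1 → F, ∑ x, g x = g (e4 (.inl 0)).1 + g (e4 (.inl 1)).1 := fun g => by
    rw [← (Equiv.funUnique (Fin 1) (ZMod 2)).symm.sum_comp]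
    exact Fin.sum_univ_two (f := fun c : ZMod 2 => g ((Equiv.funUnique (Fin 1) (ZMod 2)).symm c))
  rw [this]
  rw [show ∀ i, e4 (.inr i) = ((e4 (.inl i)).1, 1) from fun _ => rfl,
    show ∀ i, e4 (.inr i) = ((e4 (.inl i)).1, 1) from fun _ => rfl]
  rw [show u (e4 (.inl 0)) = u ((e4 (.inl 0)).1, 0) from rfl, show u (e4 (.inl 1)) = u ((e4 (.inl 1)).1, 0) from rfl,
    show v (e4 (.inl 0)) = v ((e4 (.inl 0)).1, 0) from rfl, show v (e4 (.inl 1)) = v ((e4 (.inl 1)).1, 0) from rfl]
  ring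

theorem trace_eq_zero {ι : Type} [Fintype ι] [DecidableEq ι] (h2 : (2 : F) ≠ 0) {u y : GL ι F}
    (h : y * u = -(u * y)) : (u : Matrix ι ι F).trace = 0 := by
  have e : y * u * y⁻¹ = -u := by rw [h, neg_mul, mul_assoc, mul_inv_cancel, mul_one]
  have := congrArg (fun g : GL ι F => (g : Matrix ι ι F).trace) e
  simp only [Units.val_mul, Matrix.trace_units_conj, Units.val_neg, Matrix.trace_neg] at this
  exact (mul_eq_zero.mp (show (2 : F) * (u : Matrix ι ι F).trace = 0 by linear_combination this)).resolve_left h2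

/-- Maximality of the normaliser in dimension four. -/
theorem normalizer_maximal (hp : (Fintype.card F).Prime) (hodd : Odd (Fintype.card F))
    {H : Subgroup (GL (Ix 1) F)} (hH : H ≤ spM 1 F) (hN : ∀ g ∈ spM 1 F, Nr P g → g ∈ H) :
    (∀ g ∈ H, Nr P g) ∨ spM 1 F ≤ H := by
  classical
  have h2 : (2 : F) ≠ 0 := Ring.two_ne_zero fun hc => by
    have := FiniteField.even_card_of_char_two (F := F) hc
    rw [Nat.odd_iff] at hodd
    omega
  let Φ : (Ix 1 → F) ≃ₗ[F] (Fin 2 ⊕ Fin 2 → F) := LinearEquiv.funCongrLeft F F e4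
  let Ψ := conjGL Φ
  let R' := (Rm P : Subgroup (GL (Ix 1) F)).map Ψ.toMonoidHom
  have hform : ∀ c d, Cfsg.sympForm 2 F (Φ c) (Φ d) = -sform c d := sform_sympForm
  have hsp : ∀ g, Ψ g ∈ Cfsg.spGL 2 F ↔ g ∈ spM 1 F := fun g => by
    constructor
    · intro h c d
      have e : Cfsg.sympForm 2 F ((Ψ g).val *ᵥ Φ c) ((Ψ g).val *ᵥ Φ d) = Cfsg.sympForm 2 F (Φ c) (Φ d) := h _ _
      rw [conjGL_act, conjGL_act, hform, hform] at e
      exact neg_injective e
    · intro h x y
      obtain ⟨c, rfl⟩ := Φ.surjective x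
      obtain ⟨d, rfl⟩ := Φ.surjective y
      show Cfsg.sympForm 2 F ((Ψ g).val *ᵥ Φ c) ((Ψ g).val *ᵥ Φ d) = Cfsg.sympForm 2 F (Φ c) (Φ d)
      rw [conjGL_act, conjGL_act, hform, hform, h]
  have hmem : ∀ g, Ψ g ∈ R' ↔ g ∈ Rm P := fun g =>
    ⟨fun ⟨r, hr, e⟩ => Ψ.injective e ▸ hr, fun h => ⟨g, h, rfl⟩⟩
  let f : Code → R' := fun x => ⟨Ψ (ev P x), (hmem _).mpr (ev_mem P x)⟩
  have hfi : Function.Injective f := fun x y h =>
    ev_inj P h2 (Ψ.injective (congrArg Subtype.val h))
  have hfs : Function.Surjective f := by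
    rintro ⟨_, r, hr, rfl⟩
    obtain ⟨x, rfl⟩ := exists_code P hr
    exact ⟨x, rfl⟩
  have fmul : ∀ x y, f x * f y = f (cm x y) := fun x y =>
    Subtype.ext (show Ψ (ev P x) * Ψ (ev P y) = _ by rw [← map_mul, ev_mul])
  have fone : f c1 = 1 := Subtype.ext (show Ψ (ev P c1) = 1 by rw [ev_c1, map_one])
  have hcard : Nat.card R' = 32 := by
    rw [← Nat.card_eq_of_bijective f ⟨hfi, hfs⟩]
    simp [Code, Nat.card_eq_fintype_card]
  haveI : Fact (Nat.Prime 2) := ⟨Nat.prime_two⟩
  have hcentral : ∀ x : R', x ∈ Subgroup.center R' → x = f c1 ∨ x = f m1 := by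
    intro x hx
    obtain ⟨x, rfl⟩ := hfs x
    refine (dec_center x fun y => hfi ?_).imp (congrArg f) (congrArg f)
    rw [← fmul, ← fmul]
    exact (Subgroup.mem_center_iff.mp hx (f y)).symm
  have hm1c : f m1 ∈ Subgroup.center R' := Subgroup.mem_center_iff.mpr fun y => by
    obtain ⟨y, rfl⟩ := hfs y
    rw [fmul, fmul, (show ∀ y, cm y m1 = cm m1 y by decide) y]
  have hne : f m1 ≠ 1 := fun h => absurd (hfi (h.trans fone.symm)) (by decide)
  have hZ : Nat.card (Subgroup.center R') = 2 := by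
    rw [Nat.card_eq_two_iff]
    refine ⟨1, ⟨f m1, hm1c⟩, fun h => hne (congrArg Subtype.val h).symm, Set.eq_univ_of_forall fun z => ?_⟩
    rcases hcentral z.1 z.2 with h | h
    · exact Or.inl (Subtype.ext (h.trans fone))
    · exact Or.inr (Subtype.ext h)
  have hnegR : -1 ∈ R' := ⟨-1, ev_m1 P ▸ ev_mem P m1, Units.ext (by
    show _ = ((-1 : GL (Fin 2 ⊕ Fin 2) F) : Matrix (Fin 2 ⊕ Fin 2) (Fin 2 ⊕ Fin 2) F)
    refine Matrix.ext_of_mulVec_single fun a => ?_
    rw [← Φ.apply_symm_apply (Pi.single a 1)]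
    show (Ψ (-1)).val *ᵥ _ = _
    rw [conjGL_act, Units.val_neg, Units.val_one, Units.val_neg, Units.val_one, Matrix.neg_mulVec, Matrix.neg_mulVec,
      Matrix.one_mulVec, Matrix.one_mulVec, map_neg])⟩
  have fneg : ∀ x, (f (ng x)).1 = -(f x).1 := fun x => by
    show Ψ (ev P (ng x)) = -Ψ (ev P x)
    refine Units.ext (Matrix.ext_of_mulVec_single fun a => ?_)
    rw [← Φ.apply_symm_apply (Pi.single a 1), conjGL_act, ev_ng, Units.val_neg, Units.val_neg, Matrix.neg_mulVec,
      Matrix.neg_mulVec, conjGL_act, map_neg]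
  have hRD : R' ≤ Cfsg.spGL 2 F := by
    rintro _ ⟨r, hr, rfl⟩
    exact (hsp r).mpr (Rm_mem_spM P hr)
  have hR : Cfsg.Geo.IsSymplecticTypeGroup 2 R' := by
    refine ⟨Nat.prime_two, IsPGroup.of_card (n := 5) (by rw [hcard]; rfl), fun A hA hAc => ?_, ?_⟩
    · suffices hle : A ≤ Subgroup.center R' by
        haveI : IsCyclic (Subgroup.center R') := isCyclic_of_prime_card hZ
        exact isCyclic_of_injective (Subgroup.inclusion hle) (Subgroup.inclusion_injective hle)
      intro x hx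
      obtain ⟨x, rfl⟩ := hfs x
      rcases dec_move x with rfl | rfl | ⟨u, hu, hux⟩
      · rw [fone]; exact one_mem _
      · exact hm1c
      exfalso
      let w : GL (Ix 1) F := onep h2 (ev P u) (sq_ev P hu)
      have hw : ∀ r ∈ Rm P, w * r * w⁻¹ ∈ Rm P := fun r hr => by
        rcases comm_or P (ev_mem P u) hr with h | h
        · rw [onep_comm h2 _ h]; exact hr
        · rw [onep_anti h2 _ h]; exact mul_mem (ev_mem P u) hr
      have hw' : Ψ w ∈ Subgroup.normalizer (R' : Set (GL (Fin 2 ⊕ Fin 2) F)) := mem_normalizer_of fun r hr => by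
        obtain ⟨s, hs, rfl⟩ := hr
        exact ⟨_, hw s hs, by simp [Ψ]⟩
      let φ : R' ≃* R' := Subgroup.normalizerMonoidHom R' ⟨Ψ w, hw'⟩
      have hφ : φ (f x) = f (cm u x) := Subtype.ext (by
        show Ψ w * Ψ (ev P x) * (Ψ w)⁻¹ = Ψ (ev P (cm u x))
        rw [← map_inv, ← map_mul, ← map_mul, onep_anti h2 _ (anti_ev P hux), ev_mul])
      have hmem' : f (cm u x) ∈ A := hφ ▸ (by
        have := Subgroup.characteristic_iff_map_le.mp hA φ
        exact this ⟨f x, hx, rfl⟩)
      have hc := congrArg Subtype.val (IsMulCommutative.is_comm.comm (⟨_, hmem'⟩ : A) ⟨_, hx⟩)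
      simp only [Subgroup.coe_mul, fmul] at hc
      exact absurd (hfi hc) (dec_nc u x hu hux)
    · refine Nat.dvd_antisymm (Monoid.exponent_dvd_iff_forall_pow_eq_one.mpr fun r => ?_) ?_
      · obtain ⟨x, rfl⟩ := hfs r
        show f x ^ 4 = 1
        rw [pow_succ, pow_succ, pow_two, mul_assoc (f x * f x), fmul, fmul, dec_pow4, fone]
      · show 2 ^ (1 + 1) ∣ _
        have e : orderOf (f cJ) = 2 ^ (1 + 1) := orderOf_eq_prime_pow
          (by rw [pow_one, pow_two, fmul, ← fone]; exact fun h => absurd (hfi h) (by decide))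
          (by rw [pow_succ, pow_one, pow_mul]; simp only [pow_two, fmul]; rw [← fone]; exact congrArg f (by decide))
        rw [← e]
        exact Monoid.order_dvd_exponent _
  have htr : ∀ u ∈ R', u ≠ 1 → u ≠ -1 →
      (u : Matrix (Fin 2 ⊕ Fin 2) (Fin 2 ⊕ Fin 2) F).trace = 0 := by
    intro u hu h1 h1'
    obtain ⟨x, hx⟩ := hfs ⟨u, hu⟩
    have hxu : (f x).1 = u := congrArg Subtype.val hx
    rcases dec_anti x with rfl | rfl | ⟨y, hy⟩
    · exact absurd (congrArg Subtype.val (hx.symm.trans fone)) h1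
    · refine absurd ?_ h1'
      rw [← hxu, show m1 = ng c1 from rfl, fneg, fone, Subgroup.coe_one]
    · refine trace_eq_zero h2 (y := (f y).1) ?_
      rw [← hxu, ← Subgroup.coe_mul, ← Subgroup.coe_mul, fmul, fmul, hy, fneg,
        neg_neg]
  have hspan : Submodule.span F (Cfsg.Geo.matrixSet R') = ⊤ := by
    have hli := SympCliff83.indep h2 htr (fun k => (f (c16 k)).1) (fun k => (f (c16 k)).2) fun k l hkl =>
      ⟨fun h => (dec_c16 k l hkl).1 (hfi (Subtype.ext h)),
        fun h => (dec_c16 k l hkl).2 (hfi (Subtype.ext (h.trans (fneg _).symm)))⟩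
    refine top_le_iff.mp ((hli.span_eq_top_of_card_eq_finrank ?_).ge.trans (Submodule.span_mono ?_))
    · rw [Module.finrank_matrix, Module.finrank_self]; simp
    · rintro _ ⟨k, rfl⟩; exact ⟨_, (f (c16 k)).2, rfl⟩
  have hirr : Cfsg.Geo.ActsAbsolutelyIrreducibly (Cfsg.Geo.matrixSet R') := by
    refine ⟨fun W hW => ?_, fun X hX => ?_⟩
    · rcases eq_or_ne W ⊥ with h | h
      · exact Or.inl h
      refine Or.inr (eq_top_iff.mpr fun v _ => ?_)
      have hall : ∀ X : Matrix (Fin 2 ⊕ Fin 2) (Fin 2 ⊕ Fin 2) F, ∀ w ∈ W, X *ᵥ w ∈ W := fun X w hw => by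
        have hX : X ∈ Submodule.span F (Cfsg.Geo.matrixSet R') := hspan ▸ Submodule.mem_top
        induction hX using Submodule.span_induction with
        | mem x hx => exact hW x hx ⟨w, hw, Matrix.toLin'_apply x w⟩
        | zero => rw [Matrix.zero_mulVec]; exact W.zero_mem
        | add x y _ _ hx hy => rw [Matrix.add_mulVec]; exact W.add_mem hx hy
        | smul c x _ hx => rw [Matrix.smul_mulVec]; exact W.smul_mem c hx
      obtain ⟨w, hw, hw0⟩ := (Submodule.ne_bot_iff W).mp h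
      obtain ⟨i, hi⟩ := Function.ne_iff.mp hw0
      have key := hall (Matrix.of fun a b => if b = i then v a * (w i)⁻¹ else 0) w hw
      convert key using 1
      funext a
      simp only [Matrix.mulVec, dotProduct, Matrix.of_apply, ite_mul, zero_mul]
      rw [Finset.sum_ite_eq' Finset.univ i, if_pos (Finset.mem_univ i), mul_assoc, inv_mul_cancel₀ hi, mul_one]
    · have hall : ∀ Y, X * Y = Y * X := fun Y => by
        have hY : Y ∈ Submodule.span F (Cfsg.Geo.matrixSet R') := hspan ▸ Submodule.mem_top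
        induction hY using Submodule.span_induction with
        | mem x hx => exact hX x hx
        | zero => rw [mul_zero, zero_mul]
        | add x y _ _ hx hy => rw [mul_add, add_mul, hx, hy]
        | smul c x _ hx => rw [Matrix.mul_smul, Matrix.smul_mul, hx]
      obtain ⟨c, hc⟩ := Matrix.mem_range_scalar_of_commute_single fun i j _ => (hall _).symm
      exact ⟨c, by rw [← hc, Matrix.scalar_apply, ← Matrix.smul_one_eq_diagonal]⟩
  have hminus : Cfsg.Geo.IsOfMinusType 2 R' := by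
    intro A hA hsq
    have hc : ∀ a ∈ A, ∀ b ∈ A, a = f c1 ∨ a = f m1 ∨ b = f c1 ∨ b = f m1 ∨ b = a ∨ b.1 = -a.1 := by
      intro a ha b hb
      obtain ⟨x, rfl⟩ := hfs a
      obtain ⟨y, rfl⟩ := hfs b
      have hxy := congrArg Subtype.val (IsMulCommutative.is_comm.comm (⟨_, ha⟩ : A) ⟨_, hb⟩)
      simp only [Subgroup.coe_mul, fmul] at hxy
      rcases dec_elem x y (hfi (by rw [← fmul, hsq _ ha, fone])) (hfi (by rw [← fmul, hsq _ hb, fone]))
        (hfi hxy) with h | h | h | h | h | h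
      · exact Or.inl (congrArg f h)
      · exact Or.inr (Or.inl (congrArg f h))
      · exact Or.inr (Or.inr (Or.inl (congrArg f h)))
      · exact Or.inr (Or.inr (Or.inr (Or.inl (congrArg f h))))
      · exact Or.inr (Or.inr (Or.inr (Or.inr (Or.inl (congrArg f h)))))
      · exact Or.inr (Or.inr (Or.inr (Or.inr (Or.inr (h ▸ fneg x)))))
    obtain ⟨x, hx⟩ : ∃ x : R', (A : Set R') ⊆ {f c1, f m1, x, f m1 * x} := by
      by_cases hex : ∃ a ∈ A, a ≠ f c1 ∧ a ≠ f m1
      · obtain ⟨a, ha, ha1, ha2⟩ := hex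
        refine ⟨a, fun b hb => ?_⟩
        rcases hc a ha b hb with h | h | h | h | h | h
        · exact absurd h ha1
        · exact absurd h ha2
        · exact Or.inl h
        · exact Or.inr (Or.inl h)
        · exact Or.inr (Or.inr (Or.inl h))
        · refine Or.inr (Or.inr (Or.inr (Subtype.ext ?_)))
          rw [Subgroup.coe_mul, show m1 = ng c1 from rfl, fneg, fone, Subgroup.coe_one, neg_one_mul, h]
      · push Not at hex
        refine ⟨1, fun b hb => ?_⟩
        by_cases h : b = f c1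
        · exact Or.inl h
        · exact Or.inr (Or.inl (hex b hb h))
    calc Nat.card A = (A : Set R').ncard := (Nat.card_coe_set_eq _)
      _ ≤ ({f c1, f m1, x, f m1 * x} : Set R').ncard := Set.ncard_le_ncard hx (Set.toFinite _)
      _ ≤ 4 := by
        refine (Set.ncard_insert_le _ _).trans (Nat.succ_le_succ ?_)
        refine (Set.ncard_insert_le _ _).trans (Nat.succ_le_succ ?_)
        refine (Set.ncard_insert_le _ _).trans (Nat.succ_le_succ ?_)
        rw [Set.ncard_singleton]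
      _ < 2 ^ (2 + 1) := by norm_num
  have hmax := SympCliff83.isMaximalIn hodd hp rfl hR hirr hRD hcard hZ hminus
  have hnr : ∀ g, Ψ g ∈ Cfsg.Geo.subgroupNormalizer R' ↔ Nr P g := fun g => by
    constructor
    · intro h r hr
      have := (Subgroup.mem_set_normalizer_iff.mp h (Ψ r)).mp ((hmem r).mpr hr)
      rw [← map_inv, ← map_mul, ← map_mul] at this
      exact (hmem _).mp this
    · exact fun h => mem_normalizer_of fun x hx => by
        obtain ⟨r, hr, rfl⟩ := hx
        show Ψ g * Ψ r * (Ψ g)⁻¹ ∈ R'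
        rw [← map_inv, ← map_mul, ← map_mul]
        exact (hmem _).mpr (h r hr)
  rcases hmax.2 (H.map Ψ.toMonoidHom)
    (fun x hx => by
      obtain ⟨g, rfl⟩ := Ψ.surjective x
      exact ⟨g, hN g ((hsp g).mp hx.2) ((hnr g).mp hx.1), rfl⟩)
    (fun x hx => by
      obtain ⟨g, hg, rfl⟩ := hx
      exact (hsp g).mpr (hH hg)) with h | h
  · exact Or.inl fun g hg => (hnr g).mp
      ((h ▸ ⟨g, hg, rfl⟩ : Ψ g ∈ Cfsg.Geo.subgroupNormalizer R' ⊓ Cfsg.spGL 2 F)).1
  · refine Or.inr fun g hg => ?_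
    obtain ⟨s, hs, e⟩ := (h.symm ▸ (hsp g).mpr hg : Ψ g ∈ H.map Ψ.toMonoidHom)
    exact Ψ.injective e ▸ hs

end Cfsg.Agent.C6Sp8
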