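import Cfsg.Agent.Lib.C6Minus10Gen

/-!
The model in dimension eight as two halves of dimension four, according to the first bit of the point.
-/

set_option autoImplicit false
set_option linter.unusedSectionVars false

namespace Cfsg.Agent.C6Sp8

open Matrix Cfsg.Agent.C6Plus10 Cfsg.Agent.C6Minus10
open scoped MatrixGroups

variable {F : Type*} [Field F]

theorem pt1_ext {x y : Pt 1} (h : x 0 = y 0) : x = y := funext fun i => by rw [Fin.fin_one_eq_zero i, h]

/-- The indices as a position in a half, and a half. -/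
def e2 : Ix 1 × ZMod 2 ≃ Ix 2 where
  toFun p := (![p.2, p.1.1 0], p.1.2)
  invFun u := ((![u.1 1], u.2), u.1 0)
  left_inv p := Prod.ext (Prod.ext (pt1_ext rfl) rfl) rfl
  right_inv u := Prod.ext (funext fun i => by fin_cases i <;> rfl) rfl

/-- The position in its half. -/
def res (u : Ix 2) : Ix 1 := (![u.1 1], u.2)

theorem res_e2 (a : Ix 1) (c : ZMod 2) : res (e2 (a, c)) = a := congrArg Prod.fst (e2.symm_apply_apply (a, c))

theorem e2_fst (a : Ix 1) (c : ZMod 2) : (e2 (a, c)).1 0 = c := rfl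

/-- A matrix on each half. -/
def twoM (A B : Matrix (Ix 1) (Ix 1) F) : Matrix (Ix 2) (Ix 2) F :=
  (Matrix.blockDiagonal fun c : ZMod 2 => if c = 0 then A else B).submatrix e2.symm e2.symm

theorem twoM_apply (A B : Matrix (Ix 1) (Ix 1) F) (u v : Ix 2) :
    twoM A B u v = if u.1 0 = v.1 0 then (if u.1 0 = 0 then A else B) (res u) (res v) else 0 := by
  rw [twoM, Matrix.submatrix_apply, Matrix.blockDiagonal_apply]
  rfl

theorem twoM_one : twoM (1 : Matrix (Ix 1) (Ix 1) F) 1 = 1 := by
  simp only [twoM, ite_self]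
  rw [show (fun _ : ZMod 2 => (1 : Matrix (Ix 1) (Ix 1) F)) = 1 from rfl, Matrix.blockDiagonal_one,
    Matrix.submatrix_one_equiv]

theorem twoM_mul (A B A' B' : Matrix (Ix 1) (Ix 1) F) : twoM A B * twoM A' B' = twoM (A * A') (B * B') := by
  rw [twoM, twoM, twoM, Matrix.submatrix_mul_equiv, ← Matrix.blockDiagonal_mul]
  congr 2
  funext c
  split_ifs <;> rfl

theorem twoM_inj {A B A' B' : Matrix (Ix 1) (Ix 1) F} (h : twoM A B = twoM A' B') : A = A' ∧ B = B' := by
  refine ⟨Matrix.ext fun a b => ?_, Matrix.ext fun a b => ?_⟩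
  · simpa [twoM_apply, res_e2, e2_fst] using congrFun (congrFun h (e2 (a, 0))) (e2 (b, 0))
  · simpa [twoM_apply, res_e2, e2_fst] using congrFun (congrFun h (e2 (a, 1))) (e2 (b, 1))

/-- An element on each half. -/
def two : GL (Ix 1) F × GL (Ix 1) F →* GL (Ix 2) F where
  toFun g :=
    { val := twoM g.1 g.2
      inv := twoM (g.1⁻¹ : GL (Ix 1) F) (g.2⁻¹ : GL (Ix 1) F)
      val_inv := by rw [twoM_mul, Units.mul_inv, Units.mul_inv, twoM_one]
      inv_val := by rw [twoM_mul, Units.inv_mul, Units.inv_mul, twoM_one] }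
  map_one' := Units.ext (by simpa using twoM_one)
  map_mul' _ _ := Units.ext (by simpa using (twoM_mul _ _ _ _).symm)

theorem two_val (g : GL (Ix 1) F × GL (Ix 1) F) :
    ((two g : GL (Ix 2) F) : Matrix (Ix 2) (Ix 2) F) = twoM g.1 g.2 := rfl

theorem two_inj {g h : GL (Ix 1) F × GL (Ix 1) F} (e : two g = two h) : g = h := by
  have := twoM_inj (congrArg Units.val e)
  exact Prod.ext (Units.ext this.1) (Units.ext this.2)

/-! ### Entries of the elements of the extraspecial group -/

theorem el_apply {j : ℕ} (a b : Pt j) (q : GL (Fin 2) F) (u v : Ix j) :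
    ((el a b q : GL (Ix j) F) : Matrix (Ix j) (Ix j) F) u v =
      if u.1 = v.1 + a then sgn F (ip b v.1) * q.val u.2 v.2 else 0 := by
  obtain ⟨x, i⟩ := u
  obtain ⟨y, l⟩ := v
  rw [el, Units.val_mul, up_val, cst_val, Matrix.mul_apply, Finset.sum_eq_single (y, i)]
  · rw [upM_apply, blkM_apply, if_pos rfl, if_pos rfl, pau_eq, mon_apply, Equiv.coe_addRight]
    split_ifs <;> simp
  · rintro ⟨z, m⟩ - hne
    rw [upM_apply, blkM_apply]
    split_ifs with h1 h2 <;> simp_all
  · simp

theorem el_neg {j : ℕ} (a b : Pt j) (q : GL (Fin 2) F) : el a b (-q) = -el a b q := by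
  refine Units.ext (Matrix.ext fun u v => ?_)
  rw [Units.val_neg, Matrix.neg_apply, el_apply, el_apply, Units.val_neg, Matrix.neg_apply]
  split_ifs <;> ring

theorem el_cst {j : ℕ} (q : GL (Fin 2) F) : el (0 : Pt j) 0 q = cst q := by
  rw [el, pau_zero, map_one, one_mul]

theorem sg_val (c : ZMod 2) (i l : Fin 2) (q : GL (Fin 2) F) :
    ((sg c * q : GL (Fin 2) F) : Matrix (Fin 2) (Fin 2) F) i l = sgn F c * q.val i l := by
  rcases zm_cases c with rfl | rfl <;> simp [sg_one, sgn_one]

theorem el_split (a b : Pt 1) (s : ZMod 2) (q : GL (Fin 2) F) :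
    two (el a b q, el a b (sg s * q)) = el ![0, a 0] ![s, b 0] q := by
  refine Units.ext (Matrix.ext fun u v => ?_)
  rw [two_val, twoM_apply, el_apply]
  by_cases h0 : u.1 0 = v.1 0
  · rw [if_pos h0]
    have e : u.1 = v.1 + ![0, a 0] ↔ (res u).1 = (res v).1 + a := by
      constructor
      · intro e; exact pt1_ext (by simpa [res] using congrFun e 1)
      · intro e
        funext i
        fin_cases i
        · simpa using h0
        · simpa [res] using congrFun e 0
    have hip : sgn F (ip ![s, b 0] v.1) = sgn F (s * v.1 0) * sgn F (ip b (res v).1) := by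
      rw [← sgn_add]
      congr 1
      try simp [ip, res, dotProduct, Fin.sum_univ_two]
    rcases zm_cases (u.1 0) with hu | hu <;> rw [hu] at h0 <;>
      simp only [hu, if_true, if_neg (one_ne_zero (α := ZMod 2)), el_apply, e, hip, ← h0] <;>
      split_ifs <;> simp [sg_val, res] <;> ring
  · rw [if_neg h0, if_neg fun e => h0 (by simpa using congrFun e 0)]

/-- The exchange of the halves. -/
noncomputable def X0 (F : Type*) [Field F] : GL (Ix 2) F := el ![1, 0] 0 1

theorem el_odd (a b : Pt 1) (s : ZMod 2) (q : GL (Fin 2) F) :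
    el ![1, a 0] ![s, b 0] q = X0 F * two (el a b q, el a b (sg s * q)) := by
  rw [el_split, X0, el_mul, ip_zero_left, sg_zero, one_mul, one_mul]
  congr 1
  · funext i; fin_cases i <;> simp
  · rw [zero_add]

theorem X0_sq : X0 F * X0 F = 1 := by
  rw [X0, el_mul, pt_add_self, pt_add_self, ip_zero_left, sg_zero, one_mul, one_mul, el_zero]

theorem X0_swap (A B : GL (Ix 1) F) : X0 F * two (A, B) = two (B, A) * X0 F := by
  refine Units.ext (Matrix.ext fun u v => ?_)
  rw [Units.val_mul, Units.val_mul, Matrix.mul_apply, Matrix.mul_apply,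
    Finset.sum_eq_single ((u.1 + ![1, 0], u.2) : Ix 2),
    Finset.sum_eq_single ((v.1 + ![1, 0], v.2) : Ix 2)]
  · simp only [X0, el_apply, two_val, twoM_apply, pt_add_cancel, ip_zero_left, sgn_zero, one_mul, if_true,
      Units.val_one, Matrix.one_apply_eq]
    have e : ∀ w : Ix 2, res (w.1 + ![1, 0], w.2) = res w := fun w => by simp [res]
    rw [e, e]
    rcases zm_cases (u.1 0) with hu | hu <;> rcases zm_cases (v.1 0) with hv | hv <;>
      simp [hu, hv, show (1 : ZMod 2) + 1 = 0 by decide]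
  · rintro w - hw
    rw [X0, el_apply]
    split_ifs with h <;> simp only [ip_zero_left, sgn_zero, one_mul, Units.val_one, mul_zero]
    rw [Matrix.one_apply_ne fun e => hw (Prod.ext h e), mul_zero]
  · simp
  · rintro w - hw
    rw [X0, el_apply]
    split_ifs with h <;> simp only [ip_zero_left, sgn_zero, one_mul, Units.val_one, zero_mul]
    rw [Matrix.one_apply_ne fun e => hw (Prod.ext (by rw [h, pt_add_cancel]) e.symm), zero_mul]
  · simp

theorem X0_not_two (g : GL (Ix 1) F × GL (Ix 1) F) : X0 F ≠ two g := fun h => by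
  have e := congrArg (fun x : GL (Ix 2) F => (x : Matrix (Ix 2) (Ix 2) F) (![1, 0], 0) (![0, 0], 0)) h
  simp only [X0, el_apply, two_val, twoM_apply] at e
  simp [ip_zero_left] at e

theorem two_neg_snd : two ((1 : GL (Ix 1) F), -1) = up (sd F (ip (pe (0 : Fin 2)))) := by
  have h := el_split (F := F) (0 : Pt 1) 0 1 1
  rw [sg_one, neg_one_mul, el_neg, el_zero] at h
  rw [h, el, map_one, mul_one]
  congr 1
  rw [pau_eq, show ![(0 : ZMod 2), (0 : Pt 1) 0] = 0 from funext fun i => by fin_cases i <;> rfl,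
    show ![(1 : ZMod 2), (0 : Pt 1) 0] = pe 0 from funext fun i => by fin_cases i <;> rfl,
    show Equiv.addRight (0 : Pt 2) = 1 from Equiv.ext fun x => add_zero x, mon_one_left]

theorem cst_two (q : GL (Fin 2) F) : (cst q : GL (Ix 2) F) = two (cst q, cst q) := by
  have h := el_split (F := F) (0 : Pt 1) 0 0 q
  rw [sg_zero, one_mul, el_cst] at h
  rw [h, ← el_cst (j := 2)]
  congr 1 <;> funext i <;> fin_cases i <;> rfl

/-- The centraliser of the signs of the first bit is the product of the halves. -/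
theorem exists_two (h2 : (2 : F) ≠ 0) {g : GL (Ix 2) F}
    (h : g * up (sd F (ip (pe (0 : Fin 2)))) = up (sd F (ip (pe (0 : Fin 2)))) * g) : ∃ p, g = two p := by
  set z : GL (Ix 2) F := up (sd F (ip (pe (0 : Fin 2))))
  have hz : (z : Matrix (Ix 2) (Ix 2) F) = Matrix.diagonal fun u : Ix 2 => sgn F (u.1 0) := by
    ext ⟨x, i⟩ ⟨y, l⟩
    simp only [z, up_val, upM_apply, sd, Matrix.diagonal_apply, Prod.mk.injEq, ip_pe]
    by_cases h1 : x = y <;> by_cases h' : i = l <;> simp [h1, h']
  have key : ∀ k : GL (Ix 2) F, k * z = z * k →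
      ∃ A B, (k : Matrix (Ix 2) (Ix 2) F) = twoM A B := fun k hk => by
    refine ⟨Matrix.of fun a b => k.val (e2 (a, 0)) (e2 (b, 0)),
      Matrix.of fun a b => k.val (e2 (a, 1)) (e2 (b, 1)), Matrix.ext fun u v => ?_⟩
    obtain ⟨⟨a, c⟩, rfl⟩ := e2.surjective u
    obtain ⟨⟨b, d⟩, rfl⟩ := e2.surjective v
    rw [twoM_apply, res_e2, res_e2, e2_fst, e2_fst]
    split_ifs with h1 h3
    · subst h1; subst h3; rfl
    · subst h1; rw [(zm_cases c).resolve_left h3]; rfl
    · have e := congrArg (fun x : GL (Ix 2) F => (x : Matrix (Ix 2) (Ix 2) F) (e2 (a, c)) (e2 (b, d))) hk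
      simp only [Units.val_mul, hz, Matrix.mul_diagonal, Matrix.diagonal_mul, e2_fst] at e
      refine (mul_eq_zero.mp (show k.val (e2 (a, c)) (e2 (b, d)) * (sgn F d - sgn F c) = 0 by
        linear_combination e)).resolve_right fun h' => h1 (sgn_inj h2 (sub_eq_zero.mp h')).symm
  obtain ⟨A, B, hg⟩ := key g h
  obtain ⟨A', B', hg'⟩ := key g⁻¹ (by
    exact (Commute.inv_left (h : Commute g z)).eq)
  have e := g.mul_inv
  rw [hg, hg', twoM_mul, ← twoM_one] at e
  have e' := g.inv_mul
  rw [hg, hg', twoM_mul, ← twoM_one] at e'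
  exact ⟨(⟨A, A', (twoM_inj e).1, (twoM_inj e').1⟩, ⟨B, B', (twoM_inj e).2, (twoM_inj e').2⟩), Units.ext hg⟩

/-! ### The form -/

theorem sform_split (u v : Ix 2 → F) : sform u v = sform (fun a => u (e2 (a, 0))) (fun a => v (e2 (a, 0))) +
    sform (fun a => u (e2 (a, 1))) (fun a => v (e2 (a, 1))) := by
  simp only [sform, ← Finset.sum_add_distrib]
  let e : ZMod 2 × Pt 1 ≃ Pt 2 :=
    ⟨fun p => ![p.1, p.2 0], fun x => (x 0, ![x 1]), fun p => Prod.ext rfl (pt1_ext rfl),
      fun x => funext fun i => by fin_cases i <;> rfl⟩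
  rw [← e.sum_comp, Fintype.sum_prod_type, Finset.sum_comm]
  refine Finset.sum_congr rfl fun y _ => ?_
  exact (Fin.sum_univ_two (f := fun c : ZMod 2 => u (![c, y 0], 0) * v (![c, y 0], 1) -
    u (![c, y 0], 1) * v (![c, y 0], 0)))

theorem twoM_act (A B : Matrix (Ix 1) (Ix 1) F) (w : Ix 2 → F) (a : Ix 1) (c : ZMod 2) :
    (twoM A B *ᵥ w) (e2 (a, c)) = ((if c = 0 then A else B) *ᵥ fun b => w (e2 (b, c))) a := by
  simp only [Matrix.mulVec, dotProduct]
  rw [← e2.sum_comp, Fintype.sum_prod_type]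
  refine Finset.sum_congr rfl fun b _ => ?_
  rw [Finset.sum_eq_single c]
  · rw [twoM_apply, res_e2, res_e2, e2_fst, e2_fst, if_pos rfl]
  · intro d _ hd
    rw [twoM_apply, e2_fst, e2_fst, if_neg (Ne.symm hd), zero_mul]
  · simp

theorem two_mem_spM {g : GL (Ix 1) F × GL (Ix 1) F} :
    two g ∈ spM 2 F ↔ g.1 ∈ spM 1 F ∧ g.2 ∈ spM 1 F := by
  constructor
  · intro h
    have key : ∀ (c : ZMod 2) (u v : Ix 1 → F),
        sform ((if c = 0 then g.1 else g.2).val *ᵥ u) ((if c = 0 then g.1 else g.2).val *ᵥ v) = sform u v := by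
      intro c u v
      have e := h (fun w => if w.1 0 = c then u (res w) else 0) (fun w => if w.1 0 = c then v (res w) else 0)
      rw [sform_split, sform_split, two_val] at e
      simp only [twoM_act, e2_fst, res_e2] at e
      rcases zm_cases c with rfl | rfl
      · simpa [sform, Matrix.mulVec, dotProduct] using e
      · simpa [sform, Matrix.mulVec, dotProduct] using e
    exact ⟨fun u v => by simpa using key 0 u v, fun u v => by simpa using key 1 u v⟩
  · intro h u v
    rw [sform_split, sform_split u v, two_val]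
    simp only [twoM_act, if_true, if_neg (one_ne_zero (α := ZMod 2))]
    rw [h.1, h.2]

theorem X0_mem_spM : X0 F ∈ spM 2 F := by
  rw [X0, el, map_one, mul_one]
  refine up_mem_spM ?_
  rw [pau_eq, mon, Units.val_mul, Matrix.transpose_mul, Matrix.mul_assoc, ← Matrix.mul_assoc ((pm F _).val)ᵀ,
    pm_orth, Matrix.one_mul, sd_orth]

end Cfsg.Agent.C6Sp8
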