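import Cfsg.Agent.Lib.C6Minus10Gen
import Cfsg.Agent.Lib.C6Plus10Fus

/-!
The top of the minus-type model of dimension eight: when every element centralising one involution of each
sort in the extraspecial group modulo signs normalises it, so does every element of the overgroup.
-/

set_option autoImplicit false
set_option linter.unusedSectionVars false

namespace Cfsg.Agent.C6Sp8.Top96

open Matrix Cfsg.Agent.C6Plus10 Cfsg.Agent.C6Minus10
open scoped MatrixGroups

variable {F : Type*} [Field F]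

/-- The extraspecial group modulo its centre. -/
abbrev Vc : Type := Pt 2 × Pt 2 × ZMod 2 × ZMod 2

/-- The commutator form. -/
def bf (v w : Vc) : ZMod 2 := ip v.2.1 w.1 + ip w.2.1 v.1 + v.2.2.2 * w.2.2.1 + w.2.2.2 * v.2.2.1

/-- The square form. -/
def qd (v : Vc) : ZMod 2 := ip v.2.1 v.1 + v.2.2.1 + v.2.2.2 + v.2.2.1 * v.2.2.2

/-- The involution of plus sort. -/
def z0 : Vc := (0, pe 0, 0, 0)

/-- The involution of minus sort. -/
def j0 : Vc := (0, 0, 1, 0)

theorem ip_expand (a x : Pt 2) : ip a x = a 0 * x 0 + a 1 * x 1 := by rw [ip_eq_sum, Fin.sum_univ_two]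

theorem bf_add_left (u v w : Vc) : bf (u + v) w = bf u w + bf v w := by
  simp only [bf, Prod.fst_add, Prod.snd_add, ip_add_left, ip_add_right]; ring

theorem bf_symm (v w : Vc) : bf v w = bf w v := by simp only [bf]; ring

theorem bf_add_right (u v w : Vc) : bf u (v + w) = bf u v + bf u w := by
  rw [bf_symm, bf_add_left, bf_symm v, bf_symm w]

theorem qd_add (v w : Vc) : qd (v + w) = qd v + qd w + bf v w := by
  simp only [qd, bf, Prod.fst_add, Prod.snd_add, ip_add_left, ip_add_right]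
  rcases zm_cases v.2.2.1 with e | e <;> rcases zm_cases v.2.2.2 with e' | e' <;>
    rcases zm_cases w.2.2.1 with f | f <;> rcases zm_cases w.2.2.2 with f' | f' <;> rw [e, e', f, f'] <;> grind

theorem bf_nd (v : Vc) (h : ∀ w, bf v w = 0) : v = 0 := by
  obtain ⟨a, b, d, e⟩ := v
  have ha : a = 0 := funext fun i => by simpa [bf, ip, pe] using h (0, pe i, 0, 0)
  have hb : b = 0 := funext fun i => by simpa [bf, ip, pe] using h (pe i, 0, 0, 0)
  have he : e = 0 := by simpa [bf, ip] using h (0, 0, 1, 0)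
  have hd : d = 0 := by simpa [bf, ip] using h (0, 0, 0, 1)
  rw [ha, hb, he, hd]; rfl

/-- The commutator form as a bilinear form. -/
noncomputable def bfL : LinearMap.BilinForm (ZMod 2) Vc :=
  AddMonoidHom.toZModLinearMap 2
    { toFun := fun v => AddMonoidHom.toZModLinearMap 2
        { toFun := bf v
          map_zero' := by have h := bf_add_right v 0 0; rw [add_zero] at h; exact left_eq_add.1 h
          map_add' := bf_add_right v }
      map_zero' := LinearMap.ext fun w => by
        have h := bf_add_left 0 0 w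
        rw [add_zero] at h
        exact left_eq_add.1 h
      map_add' := fun u v => LinearMap.ext fun w => bf_add_left u v w }

theorem bfL_apply (v w : Vc) : bfL v w = bf v w := rfl

/-! ### Reflections -/

/-- The involution of either sort. -/
def tgt (c : ZMod 2) : Vc := if c = 0 then z0 else j0

/-- The reflection in a vector. -/
def rf (u v : Vc) : Vc := v + if bf u v = 0 then 0 else u

theorem refl_table : ∀ v : Vc, v ≠ 0 → ∃ u : Vc, qd u = 1 ∧
    (rf u v = tgt (qd v) ∨ bf (rf u v) (tgt (qd v)) = 1) := by decide +kernel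

theorem bf_self (v : Vc) : bf v v = 0 := by simp only [bf]; grind

theorem two_rf (v : Vc) (hv : v ≠ 0) :
    ∃ u u', qd u = 1 ∧ qd u' = 1 ∧ rf u (rf u' v) = tgt (qd v) := by
  obtain ⟨u', hu', h⟩ := refl_table v hv
  have hj : qd j0 = 1 ∧ bf j0 z0 = 0 ∧ bf j0 j0 = 0 := by decide +kernel
  have hqt : ∀ c, qd (tgt c) = c := by decide +kernel
  have hqy : qd (rf u' v) = qd v := by
    rw [rf]
    rcases zm_cases (bf u' v) with c | c <;> simp only [c, if_true, one_ne_zero, if_false]
    · rw [add_zero]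
    · rw [qd_add, hu', bf_symm, c, add_assoc, show (1 : ZMod 2) + 1 = 0 from by decide, add_zero]
  rcases h with h | h
  · refine ⟨j0, u', hj.1, hu', ?_⟩
    rw [h, rf, tgt]
    split_ifs with h1 h2 h2 <;> simp_all
  · refine ⟨rf u' v + tgt (qd v), u', ?_, hu', ?_⟩
    · rw [qd_add, hqy, hqt, h, CharTwo.add_self_eq_zero, zero_add]
    · rw [rf, bf_add_left, bf_self, bf_symm, h, zero_add, if_neg one_ne_zero, ← add_assoc, vadd_self, zero_add]

/-! ### The elements -/

variable (p : Par F)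

/-- The element attached to a vector. -/
noncomputable def ev (v : Vc) : GL (Ix 2) F := el v.1 v.2.1 (qel p 0 v.2.2.1 v.2.2.2)

theorem cst_sg (c : ZMod 2) : (cst (sg c : GL (Fin 2) F) : GL (Ix 2) F) = sg c := by
  rcases zm_cases c with rfl | rfl
  · rw [sg_zero, map_one, sg_zero]
  · refine Units.ext (Matrix.ext fun ⟨x, i⟩ ⟨y, l⟩ => ?_)
    rw [cst_val, blkM_apply, sg_one, sg_one]
    by_cases h : x = y <;> by_cases h' : i = l <;> simp [Matrix.one_apply, h, h']

theorem el_qel (a b : Pt 2) (c d e : ZMod 2) : el a b (qel p c d e) = sg c * ev p (a, b, d, e) := by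
  have h : qel p c d e = sg c * qel p 0 d e := by simp [qel, mul_assoc]
  rw [ev, el, el, h, map_mul, cst_sg, ← mul_assoc, ← sg_comm, mul_assoc]

theorem ev_mul (v w : Vc) : ev p v * ev p w =
    sg (ip v.2.1 w.1 + (v.2.2.2 * w.2.2.1 + v.2.2.1 * w.2.2.1 + v.2.2.2 * w.2.2.2)) * ev p (v + w) := by
  have hq : (sg (ip v.2.1 w.1) * qel p 0 v.2.2.1 v.2.2.2 * qel p 0 w.2.2.1 w.2.2.2 : GL (Fin 2) F) =
      qel p (ip v.2.1 w.1 + (v.2.2.2 * w.2.2.1 + v.2.2.1 * w.2.2.1 + v.2.2.2 * w.2.2.2))
        (v.2.2.1 + w.2.2.1) (v.2.2.2 + w.2.2.2) := by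
    rw [mul_assoc, qel_mul, show (sg (ip v.2.1 w.1) : GL (Fin 2) F) = qel p (ip v.2.1 w.1) 0 0 by simp [qel], qel_mul]
    congr 1 <;> grind
  unfold ev at *
  rw [el_mul, hq, el_qel]
  rfl

theorem sg_mul_sg (c d : ZMod 2) : (sg c * sg d : GL (Ix 2) F) = sg (c + d) := (sg_add c d).symm

theorem ev_sq (v : Vc) : ev p v * ev p v = sg (qd v) := by
  rw [ev_mul, vadd_self]
  have h0 : ev p (0 : Vc) = 1 := by
    show el (0 : Pt 2) 0 (qel p 0 0 0) = 1
    rw [qel_zero, el_zero]
  rw [h0, mul_one]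
  congr 1
  simp only [qd]
  rcases zm_cases v.2.2.1 with e | e <;> rcases zm_cases v.2.2.2 with e' | e' <;> rw [e, e'] <;> grind

theorem ev_comm (v w : Vc) : ev p v * ev p w = sg (bf v w) * (ev p w * ev p v) := by
  rw [ev_mul, ev_mul, add_comm w v, ← mul_assoc, sg_mul_sg]
  congr 2
  simp only [bf]
  grind

theorem ev_mem_Rm (v : Vc) : ev p v ∈ Rm (j := 2) p := el_mem p _ _ (qel_mem p _ _ _)

theorem mem_Rm_cases {g : GL (Ix 2) F} (hg : g ∈ Rm p) : ∃ c v, g = sg c * ev p v := by
  obtain ⟨a, b, q, ⟨c, d, e, rfl⟩, rfl⟩ := hg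
  exact ⟨c, (a, b, d, e), el_qel p a b c d e⟩

theorem sg_mem_Rm (c : ZMod 2) : (sg c : GL (Ix 2) F) ∈ Rm p := by
  rw [show (sg c : GL (Ix 2) F) = el (0 : Pt 2) 0 (sg c : GL (Fin 2) F) by rw [el, pau_zero, map_one, one_mul, cst_sg]]
  exact el_mem p _ _ (sg_mem p c)

theorem sg_conj (c : ZMod 2) (g x : GL (Ix 2) F) : g * (sg c * x) * g⁻¹ = sg c * (g * x * g⁻¹) := by
  rw [← mul_assoc, ← sg_comm]; group

theorem conj_sg (c : ZMod 2) (g x : GL (Ix 2) F) : (sg c * g) * x * (sg c * g)⁻¹ = g * x * g⁻¹ := by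
  rw [show (sg c * g) * x * (sg c * g)⁻¹ = sg c * (g * x * g⁻¹) * (sg c)⁻¹ by group, sg_comm, mul_inv_cancel_right]

theorem nr_of_ev {g : GL (Ix 2) F} (h : ∀ v, ∃ c w, g * ev p v * g⁻¹ = sg c * ev p w) : Nr p g := by
  intro r hr
  obtain ⟨c, v, rfl⟩ := mem_Rm_cases p hr
  obtain ⟨c', w, hw⟩ := h v
  rw [sg_conj, hw]
  exact mul_mem (sg_mem_Rm p c) (mul_mem (sg_mem_Rm p c') (ev_mem_Rm p w))

theorem ev_of_nr {g : GL (Ix 2) F} (h : Nr p g) (v : Vc) : ∃ c w, g * ev p v * g⁻¹ = sg c * ev p w :=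
  mem_Rm_cases p (h _ (ev_mem_Rm p v))

theorem nr_rm {r : GL (Ix 2) F} (hr : r ∈ Rm p) : Nr p r := fun _ hs => mul_mem (mul_mem hr hs) (inv_mem hr)

/-- The subgroup of the normalising elements. -/
def nrG [Finite F] : Subgroup (GL (Ix 2) F) :=
  { carrier := {g | Nr p g}
    mul_mem' := fun hg hh => nr_mul p hg hh
    one_mem' := fun r hr => by simpa using hr
    inv_mem' := fun {g} hg r hr => by
      have hpow : ∀ n : ℕ, Nr p (g ^ n) := fun n => by
        induction n with
        | zero => intro r hr; simpa using hr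
        | succ n ih => rw [pow_succ]; exact nr_mul p ih hg
      have hfin : IsOfFinOrder g := isOfFinOrder_of_finite g
      have : g⁻¹ = g ^ (orderOf g - 1) := inv_eq_of_mul_eq_one_right (by
        rw [← pow_succ', Nat.sub_add_cancel hfin.orderOf_pos, pow_orderOf_eq_one])
      rw [this]
      exact hpow _ r hr }

theorem ev_spM (v : Vc) : ev p v ∈ spM 2 F := by
  refine mul_mem (up_mem_spM ?_) ?_
  · rw [pau, Units.val_mul, Matrix.transpose_mul,
      show ∀ A B C D : Matrix (Pt 2) (Pt 2) F, A * B * (C * D) = A * (B * C) * D from fun _ _ _ _ => by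
        simp only [mul_assoc], pm_orth, mul_one, sd_orth]
  · rw [cst_eq]
    refine blk_mem_spM fun _ => ?_
    simp only [qel, Units.val_mul, Matrix.det_mul]
    have h1 : ∀ c : ZMod 2, ((sg c : GL (Fin 2) F) : Matrix (Fin 2) (Fin 2) F).det = 1 := fun c => by
      rcases zm_cases c with rfl | rfl <;> simp [sg_one, Matrix.det_neg]
    rw [h1]
    rcases zm_cases v.2.2.1 with e | e <;> rcases zm_cases v.2.2.2 with e' | e' <;> rw [e, e'] <;>
      simp [jq, aq, Matrix.det_fin_two] <;> linear_combination -p.eq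

/-! ### Roots -/

section Roots

variable {x : GL (Ix 2) F}

/-- One plus an element of square minus one, as a unit. -/
noncomputable def root (h2 : (2 : F) ≠ 0) (hx : x * x = -1) : GL (Ix 2) F where
  val := 1 + x.val
  inv := (2 : F)⁻¹ • (1 - x.val)
  val_inv := by
    have h : x.val * x.val = -1 := by simpa using congrArg Units.val hx
    rw [mul_smul_comm, show (1 + x.val) * (1 - x.val) = 1 - x.val * x.val by noncomm_ring, h,
      sub_neg_eq_add, show (1 + 1 : Matrix (Ix 2) (Ix 2) F) = (2 : F) • 1 by module, smul_smul,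
      inv_mul_cancel₀ h2, one_smul]
  inv_val := by
    have h : x.val * x.val = -1 := by simpa using congrArg Units.val hx
    rw [smul_mul_assoc, show (1 - x.val) * (1 + x.val) = 1 - x.val * x.val by noncomm_ring, h,
      sub_neg_eq_add, show (1 + 1 : Matrix (Ix 2) (Ix 2) F) = (2 : F) • 1 by module, smul_smul,
      inv_mul_cancel₀ h2, one_smul]

theorem root_val (h2 : (2 : F) ≠ 0) (hx : x * x = -1) : (root h2 hx).val = 1 + x.val := rfl

theorem root_comm (h2 : (2 : F) ≠ 0) (hx : x * x = -1) {z : GL (Ix 2) F} (hz : x * z = z * x) :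
    root h2 hx * z * (root h2 hx)⁻¹ = z := by
  have h : x.val * z.val = z.val * x.val := by simpa using congrArg Units.val hz
  refine mul_inv_eq_iff_eq_mul.2 (Units.ext ?_)
  simp only [Units.val_mul, root_val, add_mul, mul_add, one_mul, mul_one, h]

theorem root_anti (h2 : (2 : F) ≠ 0) (hx : x * x = -1) {z : GL (Ix 2) F} (hz : x * z = -(z * x)) :
    root h2 hx * z * (root h2 hx)⁻¹ = x * z := by
  have h : x.val * z.val = -(z.val * x.val) := by simpa using congrArg Units.val hz
  have h' : x.val * x.val = -1 := by simpa using congrArg Units.val hx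
  refine mul_inv_eq_iff_eq_mul.2 (Units.ext ?_)
  simp only [Units.val_mul, root_val, add_mul, mul_add, one_mul, mul_one]
  rw [h, neg_mul, mul_assoc z.val, h', mul_neg, mul_one, neg_neg, add_comm]

theorem sform_root (h2 : (2 : F) ≠ 0) (hx : x * x = -1) (hxs : x ∈ spM 2 F) (u v : Ix 2 → F) :
    sform ((root h2 hx).val *ᵥ u) ((root h2 hx).val *ᵥ v) = 2 * sform u v := by
  have h' : x.val * x.val = -1 := by simpa using congrArg Units.val hx
  have ha : ∀ a b c : Ix 2 → F, sform (a + b) c = sform a c + sform b c := fun a b c => by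
    simp only [sform, ← Finset.sum_add_distrib]
    exact Finset.sum_congr rfl fun z _ => by simp only [Pi.add_apply]; ring
  have hb : ∀ a b c : Ix 2 → F, sform c (a + b) = sform c a + sform c b := fun a b c => by
    simp only [sform, ← Finset.sum_add_distrib]
    exact Finset.sum_congr rfl fun z _ => by simp only [Pi.add_apply]; ring
  have hn : ∀ a c : Ix 2 → F, sform (-a) c = -sform a c := fun a c => by
    simp only [sform, ← Finset.sum_neg_distrib]
    exact Finset.sum_congr rfl fun z _ => by simp only [Pi.neg_apply]; ring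
  have hsw : sform (x.val *ᵥ u) v = -sform u (x.val *ᵥ v) := by
    have h := hxs (x.val *ᵥ u) v
    rw [Matrix.mulVec_mulVec, h', Matrix.neg_mulVec, Matrix.one_mulVec, hn] at h
    exact h.symm
  rw [root_val, Matrix.add_mulVec, Matrix.add_mulVec, Matrix.one_mulVec, Matrix.one_mulVec, ha, hb, hb,
    hxs, hsw]
  ring

end Roots

theorem root_ev (h2 : (2 : F) ≠ 0) {u : Vc} (hx : ev p u * ev p u = -1) (v : Vc) :
    ∃ c, root h2 hx * ev p v * (root h2 hx)⁻¹ = sg c * ev p (rf u v) := by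
  rcases zm_cases (bf u v) with h | h
  · refine ⟨0, ?_⟩
    rw [root_comm h2 hx (by rw [ev_comm p u v, h, sg_zero, one_mul]), rf, h, if_pos rfl, add_zero, sg_zero, one_mul]
  · refine ⟨ip u.2.1 v.1 + (u.2.2.2 * v.2.2.1 + u.2.2.1 * v.2.2.1 + u.2.2.2 * v.2.2.2), ?_⟩
    rw [root_anti h2 hx (by rw [ev_comm p u v, h, sg_one, neg_one_mul]), ev_mul, rf, h, if_neg one_ne_zero,
      add_comm v u]

/-- The product of two roots, halved. -/
noncomputable def rot2 (h2 : (2 : F) ≠ 0) (r s : GL (Ix 2) F) : GL (Ix 2) F where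
  val := (2 : F)⁻¹ • (r * s).val
  inv := (2 : F) • (r * s)⁻¹.val
  val_inv := by rw [smul_mul_smul_comm, inv_mul_cancel₀ h2, one_smul, Units.mul_inv]
  inv_val := by rw [smul_mul_smul_comm, mul_inv_cancel₀ h2, one_smul, Units.inv_mul]

theorem rot2_conj (h2 : (2 : F) ≠ 0) (r s z : GL (Ix 2) F) :
    rot2 h2 r s * z * (rot2 h2 r s)⁻¹ = r * s * z * (r * s)⁻¹ := by
  have h : r * s * z = r * s * z * (r * s)⁻¹ * (r * s) := by group
  refine mul_inv_eq_iff_eq_mul.2 (Units.ext ?_)
  have h' := congrArg Units.val h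
  simp only [Units.val_mul] at h'
  show (2 : F)⁻¹ • (r * s).val * z.val = (r * s * z * (r * s)⁻¹).val * ((2 : F)⁻¹ • (r * s).val)
  simp only [Units.val_mul, smul_mul_assoc, mul_smul_comm]
  rw [← h']

/-- Every non-trivial element goes to one of the two chosen ones inside the normaliser. -/
theorem exists_move (h2 : (2 : F) ≠ 0) (v : Vc) (hv : v ≠ 0) :
    ∃ n, n ∈ spM 2 F ∧ Nr p n ∧ ∃ c, n * ev p v * n⁻¹ = sg c * ev p (tgt (qd v)) := by
  obtain ⟨u, u', hu, hu', ht⟩ := two_rf v hv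
  have hx : ev p u * ev p u = -1 := by rw [ev_sq, hu, sg_one]
  have hx' : ev p u' * ev p u' = -1 := by rw [ev_sq, hu', sg_one]
  have key : ∀ w, ∃ c, rot2 h2 (root h2 hx) (root h2 hx') * ev p w * (rot2 h2 (root h2 hx) (root h2 hx'))⁻¹ =
      sg c * ev p (rf u (rf u' w)) := fun w => by
    obtain ⟨c', e'⟩ := root_ev p h2 hx' w
    obtain ⟨c, e⟩ := root_ev p h2 hx (rf u' w)
    refine ⟨c' + c, ?_⟩
    rw [rot2_conj, show root h2 hx * root h2 hx' * ev p w * (root h2 hx * root h2 hx')⁻¹ =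
      root h2 hx * (root h2 hx' * ev p w * (root h2 hx')⁻¹) * (root h2 hx)⁻¹ by group, e', sg_conj, e,
      ← mul_assoc, sg_mul_sg]
  refine ⟨_, fun a b => ?_, nr_of_ev p fun w => ⟨_, _, (key w).choose_spec⟩, ?_⟩
  · show sform (((2 : F)⁻¹ • (root h2 hx * root h2 hx').val) *ᵥ a)
      (((2 : F)⁻¹ • (root h2 hx * root h2 hx').val) *ᵥ b) = _
    have hs : ∀ (c : F) (a b : Ix 2 → F), sform (c • a) (c • b) = c * c * sform a b := fun c a b => by
      simp only [sform, Finset.mul_sum]
      exact Finset.sum_congr rfl fun z _ => by simp only [Pi.smul_apply, smul_eq_mul]; ring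
    rw [Matrix.smul_mulVec, Matrix.smul_mulVec, hs, Units.val_mul, ← Matrix.mulVec_mulVec,
      ← Matrix.mulVec_mulVec, sform_root h2 hx (ev_spM p u), sform_root h2 hx' (ev_spM p u')]
    field_simp
  · rw [← ht]; exact key v

/-- An element commuting with the whole group is a scalar. -/
theorem scalar_of_comm (h2 : (2 : F) ≠ 0) {y : GL (Ix 2) F} (hy : y ∈ spM 2 F)
    (h : ∀ w, y * ev p w = ev p w * y) : ∃ c : ZMod 2, y = sg c := by
  have hz : ∀ i, y * up (sd F (ip (pe i))) = up (sd F (ip (pe i))) * y := fun i => by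
    have := h (0, pe i, 0, 0)
    simpa [ev, el, qel_zero, pau_sd] using this
  have ht : ∀ a, y * up (pm F (Equiv.addRight a)) = up (pm F (Equiv.addRight a)) * y := fun a => by
    have := h (a, 0, 0, 0)
    have hp : pau F a (0 : Pt 2) = pm F (Equiv.addRight a) := by
      rw [pau, show ip (0 : Pt 2) = (0 : Pt 2 → ZMod 2) from funext fun x => ip_zero_left x, sd_zero, mul_one]
    simpa [ev, el, qel_zero, hp] using this
  have hj : y * cst jq = cst jq * y := by
    have := h (0, 0, 1, 0)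
    simpa [ev, el, qel, pau_zero] using this
  have ha : y * cst (aq p) = cst (aq p) * y := by
    have := h (0, 0, 0, 1)
    simpa [ev, el, qel, pau_zero] using this
  -- diagonal in the points
  have hoff : ∀ x x' i l, x ≠ x' → y.val (x, i) (x', l) = 0 := by
    intro x x' i l hne
    obtain ⟨k, hk⟩ := Function.ne_iff.1 hne
    have h1 := congrArg (fun g : GL (Ix 2) F => g.val (x, i) (x', l)) (hz k)
    simp only [Units.val_mul, up_val, Matrix.mul_apply, upM_apply, Fintype.sum_prod_type] at h1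
    rw [Finset.sum_eq_single x' (fun z _ hz' => by simp [sd, hz']) (by simp),
      Finset.sum_eq_single x (fun z _ hz' => by simp [sd, Ne.symm hz']) (by simp)] at h1
    have hd : ∀ z, (sd F (ip (pe k))).val z z = sgn F (z k) := fun z => by simp [sd, ip_pe]
    simp only [hd] at h1
    have h3 : y.val (x, i) (x', l) * sgn F (x' k) = sgn F (x k) * y.val (x, i) (x', l) := by
      fin_cases i <;> fin_cases l <;> simpa [Fin.sum_univ_two] using h1
    have h4 : x k + x' k = 1 := by
      rcases zm_cases (x k) with e | e <;> rcases zm_cases (x' k) with e' | e' <;> rw [e, e'] at hk ⊢ <;>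
        first | exact absurd rfl hk | decide
    have h5 : sgn F (x' k) = -sgn F (x k) := by
      rcases zm_cases (x k) with e | e <;> rw [e] at h4 ⊢
      · rw [zero_add] at h4; rw [h4, sgn_one, sgn_zero]
      · rw [show x' k = 0 by linear_combination h4, sgn_one, sgn_zero, neg_neg]
    rw [h5] at h3
    have h6 : (2 * sgn F (x k)) * y.val (x, i) (x', l) = 0 := by linear_combination -h3
    exact (mul_eq_zero.1 h6).resolve_left (mul_ne_zero h2 (sgn_ne_zero _))
  -- the same block at every point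
  have hconst : ∀ x i l, y.val (x, i) (x, l) = y.val (0, i) (0, l) := by
    intro x i l
    have h1 := congrArg (fun g : GL (Ix 2) F => g.val (x, i) (0, l)) (ht x)
    simp only [Units.val_mul, up_val, Matrix.mul_apply, upM_apply, Fintype.sum_prod_type, pm_apply] at h1
    rw [Finset.sum_eq_single x (fun z _ hz' => by simp [hz']) (by simp),
      Finset.sum_eq_single (0 : Pt 2) (fun z _ hz' => by
        have : x ≠ z + x := fun e => hz' (right_eq_add.1 e)
        simp [this]) (by simp)] at h1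
    fin_cases i <;> fin_cases l <;> simpa [Fin.sum_univ_two] using h1
  set N : Matrix (Fin 2) (Fin 2) F := Matrix.of fun i l => y.val (0, i) (0, l)
  have hy' : y.val = blkM fun _ => N := by
    ext ⟨x, i⟩ ⟨x', l⟩
    rw [blkM_apply]
    split_ifs with e
    · subst e; exact hconst x i l
    · exact hoff x x' i l e
  have hcom : ∀ q : GL (Fin 2) F, y * cst q = cst q * y → N * q.val = q.val * N := fun q hq => by
    have h1 := congrArg Units.val hq
    rw [Units.val_mul, Units.val_mul, hy', cst_val, ← blkM_mul, ← blkM_mul] at h1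
    ext i l
    simpa [blkM_apply] using congrFun (congrFun h1 (0, i)) (0, l)
  have h1 := hcom jq hj
  have h3 := hcom (aq p) ha
  have e00 := congrFun (congrFun h1 0) 1
  have e01 := congrFun (congrFun h1 0) 0
  have f00 := congrFun (congrFun h3 0) 0
  have f01 := congrFun (congrFun h3 0) 1
  simp [jq, aq, Matrix.mul_apply, Fin.sum_univ_two] at e00 e01 f00 f01
  have hs : N 0 1 = 0 := by
    have hb : 2 * N 0 1 * p.be = 0 := by linear_combination f00 - p.be * e01
    have ha' : 2 * N 0 1 * p.al = 0 := by linear_combination -f01 + p.be * e00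
    have : 2 * N 0 1 = 0 := by linear_combination p.al * ha' * (-1 : F) + p.be * hb * (-1 : F) + (2 * N 0 1) * p.eq
    exact (mul_eq_zero.1 this).resolve_left h2
  have hN : N = N 0 0 • 1 := by
    ext i l; fin_cases i <;> fin_cases l <;> simp <;>
      first | exact hs | linear_combination e00 | linear_combination -e00 | linear_combination e01 + hs |
        linear_combination -e01 - hs
  have hdet := hy (Pi.single (0, 0) 1) (Pi.single (0, 1) 1)
  rw [hy', sform_blk _ (c := N 0 0 * N 0 0) (fun _ => by rw [hN, Matrix.det_smul]; simp [sq])] at hdet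
  have hone : sform (Pi.single ((0 : Pt 2), (0 : Fin 2)) (1 : F)) (Pi.single (0, 1) 1) = 1 := by
    rw [sform, Finset.sum_eq_single 0 (fun z _ hz' => by simp [hz']) (by simp)]
    simp
  rw [hone, mul_one] at hdet
  rcases mul_self_eq_one_iff.1 hdet with e | e
  · refine ⟨0, Units.ext ?_⟩
    rw [hy', hN, e, one_smul, blkM_one, sg_zero, Units.val_one]
  · refine ⟨1, Units.ext ?_⟩
    rw [hy', hN, e, neg_one_smul, sg_one, Units.val_neg, Units.val_one, ← blkM_one]
    ext u v
    simp only [blkM_apply, Matrix.neg_apply]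
    split_ifs <;> simp

theorem sg_inj_gl (h2 : (2 : F) ≠ 0) {c d : ZMod 2} (h : (sg c : GL (Ix 2) F) = sg d) : c = d := by
  have h1 := congrArg (fun g : GL (Ix 2) F => g.val ((0 : Pt 2), (0 : Fin 2)) (0, 0)) h
  have e : ∀ c : ZMod 2, (sg c : GL (Ix 2) F).val ((0 : Pt 2), (0 : Fin 2)) (0, 0) = sgn F c := fun c => by
    rcases zm_cases c with rfl | rfl <;> simp [sg_one, sgn_one]
  simp only [e] at h1
  exact sgn_inj h2 h1

theorem bf_of_ev (h2 : (2 : F) ≠ 0) {g : GL (Ix 2) F} {v v' w w' : Vc} {c c' : ZMod 2}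
    (hv : g * ev p v * g⁻¹ = sg c * ev p v') (hw : g * ev p w * g⁻¹ = sg c' * ev p w') : bf v' w' = bf v w := by
  have h := congrArg (fun r => g * r * g⁻¹) (ev_comm p v w)
  simp only [sg_conj] at h
  rw [← conj_mul, ← conj_mul, hv, hw,
    show sg c' * ev p w' * (sg c * ev p v') = sg (c' + c) * (ev p w' * ev p v') by
      rw [← sg_mul_sg, mul_assoc, ← mul_assoc (ev p w'), ← sg_comm, mul_assoc, ← mul_assoc],
    show sg c * ev p v' * (sg c' * ev p w') = sg (c' + c) * (ev p v' * ev p w') by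
      rw [← sg_mul_sg, sg_comm c' (sg c), mul_assoc, ← mul_assoc (ev p v'), ← sg_comm, mul_assoc, ← mul_assoc],
    ev_comm p v' w', ← mul_assoc, ← mul_assoc, ← mul_assoc (sg (bf v w)), sg_mul_sg, sg_mul_sg] at h
  rw [mul_assoc (sg (c' + c + bf v' w'))] at h
  have h' := sg_inj_gl h2 (mul_right_cancel h)
  linear_combination h'

theorem qd_of_ev (h2 : (2 : F) ≠ 0) {g : GL (Ix 2) F} {v v' : Vc} {c : ZMod 2}
    (hv : g * ev p v * g⁻¹ = sg c * ev p v') : qd v' = qd v := by
  have h := congrArg (fun r => g * r * g⁻¹) (ev_sq p v)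
  rw [← conj_mul, hv, show sg c * ev p v' * (sg c * ev p v') = sg (c + c) * (ev p v' * ev p v') by
      rw [← sg_mul_sg, mul_assoc, ← mul_assoc (ev p v'), ← sg_comm, mul_assoc, ← mul_assoc],
    CharTwo.add_self_eq_zero, sg_zero, one_mul, ev_sq, ← sg_comm, mul_inv_cancel_right] at h
  exact sg_inj_gl h2 h

theorem ev_ne (h2 : (2 : F) ≠ 0) {v : Vc} {c : ZMod 2} (h : ev p v = sg c) : v = 0 :=
  bf_nd v fun w => by
    have h1 := ev_comm p v w
    rw [h, sg_comm c, ← sg_comm c] at h1
    exact (sg_inj_gl h2 (c := 0) (mul_right_cancel (by rw [sg_zero, one_mul]; exact h1))).symm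

theorem tgt_commutes {M : Subgroup (GL (Ix 2) F)}
    (hJ : ∀ g ∈ M, g * cst jq = cst jq * g → Nr p g)
    (hZ : ∀ g ∈ M, g * up (sd F (ip (pe 0))) = up (sd F (ip (pe 0))) * g → Nr p g) (c : ZMod 2)
    {g : GL (Ix 2) F} (hg : g ∈ M) (h : g * ev p (tgt c) = ev p (tgt c) * g) : Nr p g := by
  rcases zm_cases c with rfl | rfl
  · refine hZ g hg ?_
    have e : ev p (tgt 0) = up (sd F (ip (pe 0))) := by simp [tgt, z0, ev, el, qel_zero, pau_sd]
    rwa [e] at h
  · refine hJ g hg ?_
    have e : ev p (tgt 1) = cst jq := by simp [tgt, j0, ev, el, qel, pau_zero]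
    rwa [e] at h

theorem fus_ev [Finite F] (h2 : (2 : F) ≠ 0) {M : Subgroup (GL (Ix 2) F)} (hN : ∀ g ∈ spM 2 F, Nr p g → g ∈ M)
    (hJ : ∀ g ∈ M, g * cst jq = cst jq * g → Nr p g)
    (hZ : ∀ g ∈ M, g * up (sd F (ip (pe 0))) = up (sd F (ip (pe 0))) * g → Nr p g) {v w : Vc} (hv : v ≠ 0)
    {g : GL (Ix 2) F} (hg : g ∈ M) {c : ZMod 2} (h : g * ev p v * g⁻¹ = sg c * ev p w) : Nr p g := by
  have hw : w ≠ 0 := fun e => hv (ev_ne p h2 (c := c) (by
    have h0 : ev p (0 : Vc) = 1 := by
      show el (0 : Pt 2) 0 (qel p 0 0 0) = 1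
      rw [qel_zero, el_zero]
    rw [e, h0, mul_one, mul_inv_eq_iff_eq_mul, sg_comm] at h
    exact mul_left_cancel h))
  obtain ⟨n, hnS, hn, cv, ev'⟩ := exists_move p h2 v hv
  obtain ⟨m, hmS, hm, cw, ew⟩ := exists_move p h2 w hw
  rw [qd_of_ev p h2 h] at ew
  set t := tgt (qd v) with ht
  obtain ⟨k, hk⟩ : ∃ k, k = m * g * n⁻¹ := ⟨_, rfl⟩
  have hkM : k ∈ M := hk ▸ mul_mem (mul_mem (hN m hmS hm) hg) (inv_mem (hN n hnS hn))
  have e1 : k * ev p t * k⁻¹ = sg (cv + c + cw) * ev p t := by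
    have e2 : n * (sg cv * ev p v) * n⁻¹ = ev p t := by
      rw [sg_conj, ev', ← mul_assoc, sg_mul_sg, CharTwo.add_self_eq_zero, sg_zero, one_mul]
    conv_lhs => rw [hk, ← e2]
    rw [show m * g * n⁻¹ * (n * (sg cv * ev p v) * n⁻¹) * (m * g * n⁻¹)⁻¹ = m * (g * (sg cv * ev p v) * g⁻¹) * m⁻¹
      by group, sg_conj, h, sg_conj, sg_conj, ew, ← mul_assoc, ← mul_assoc, sg_mul_sg, sg_mul_sg]
  have hNk : Nr p k := by
    rcases zm_cases (cv + c + cw) with e | e <;> rw [e] at e1
    · exact tgt_commutes p hJ hZ _ hkM (by rwa [sg_zero, one_mul, mul_inv_eq_iff_eq_mul] at e1)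
    · obtain ⟨u, hu⟩ : ∃ u, bf u t = 1 := by
        by_contra hno
        push Not at hno
        have ht0 : t = 0 := bf_nd t fun u => by
          rw [bf_symm]; exact (zm_cases _).resolve_right (hno u)
        revert ht0
        rw [ht]
        rcases zm_cases (qd v) with e' | e' <;> rw [e'] <;> decide +kernel
      have huM : ev p u ∈ M := hN _ (ev_spM p u) (nr_rm p (ev_mem_Rm p u))
      have h3 : Nr p (ev p u * k) := tgt_commutes p hJ hZ _ (mul_mem huM hkM) (by
        rw [← ht, ← mul_inv_eq_iff_eq_mul, show ev p u * k * ev p t * (ev p u * k)⁻¹ =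
          ev p u * (k * ev p t * k⁻¹) * (ev p u)⁻¹ by group, e1, sg_conj, ev_comm p u t, hu,
          show sg (1 : ZMod 2) * (ev p t * ev p u) * (ev p u)⁻¹ = sg 1 * ev p t by group,
          ← mul_assoc, sg_mul_sg, show (1 : ZMod 2) + 1 = 0 by decide, sg_zero, one_mul])
      have := nr_mul p ((nrG p).inv_mem (nr_rm p (ev_mem_Rm p u))) h3
      rwa [inv_mul_cancel_left] at this
  have h4 : g = m⁻¹ * k * n := by rw [hk]; group
  rw [h4]
  exact nr_mul p (nr_mul p ((nrG p).inv_mem hm) hNk) hn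

end Cfsg.Agent.C6Sp8.Top96

namespace Cfsg.Agent.C6Sp8

open Matrix Cfsg.Agent.C6Plus10 Cfsg.Agent.C6Minus10 Top96
open scoped MatrixGroups

variable {F : Type*} [Field F]

/-- The signs. -/
def sgnG (F : Type*) [Field F] : Subgroup (GL (Ix 2) F) where
  carrier := {g | ∃ c, g = sg c}
  mul_mem' := by rintro _ _ ⟨c, rfl⟩ ⟨d, rfl⟩; exact ⟨c + d, (sg_add c d).symm⟩
  one_mem' := ⟨0, sg_zero.symm⟩
  inv_mem' := by
    rintro _ ⟨c, rfl⟩
    exact ⟨c, inv_eq_of_mul_eq_one_right (by rw [← sg_add, CharTwo.add_self_eq_zero, sg_zero])⟩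

instance sgnG_normal : (sgnG F).Normal := ⟨by
  rintro _ ⟨c, rfl⟩ g
  exact ⟨c, by rw [← sg_comm, mul_inv_cancel_right]⟩⟩

/-- The top of the minus-type model of dimension eight. -/
theorem top_nr [Fintype F] (hp : (Fintype.card F).Prime) (hodd : Odd (Fintype.card F)) (P : Par F)
    {M : Subgroup (GL (Ix 2) F)} (hMS : M ≤ spM 2 F) (hN : ∀ g ∈ spM 2 F, Nr P g → g ∈ M)
    (hJ : ∀ g ∈ M, g * cst jq = cst jq * g → Nr P g)
    (hZ : ∀ g ∈ M, g * up (sd F (ip (pe 0))) = up (sd F (ip (pe 0))) * g → Nr P g) : ∀ g ∈ M, Nr P g := by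
  classical
  have h2 : (2 : F) ≠ 0 := Ring.two_ne_zero fun hc => by
    have h := FiniteField.even_card_of_char_two (F := F) hc
    rw [Nat.odd_iff] at hodd
    omega
  have hev : ∀ v, ev P v ∈ M := fun v => hN _ (ev_spM P v) (nr_rm P (ev_mem_Rm P v))
  set π : ↥M →* ↥M ⧸ (sgnG F).subgroupOf M := QuotientGroup.mk' _
  have hπ : ∀ {x y : ↥M}, π x = π y ↔ ∃ c, (x : GL (Ix 2) F) = sg c * y := fun {x y} => by
    rw [QuotientGroup.mk'_apply, QuotientGroup.mk'_apply, eq_comm, QuotientGroup.eq, Subgroup.mem_subgroupOf,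
      Subgroup.coe_mul, Subgroup.coe_inv]
    show (∃ c, _ = _) ↔ _
    refine exists_congr fun c => ?_
    rw [inv_mul_eq_iff_eq_mul, sg_comm]
  have hsurj : Function.Surjective π := QuotientGroup.mk'_surjective _
  set N0 : Subgroup ↥M := (nrG P).subgroupOf M
  have hN0 : ∀ x : ↥M, x ∈ N0 ↔ Nr P (x : GL (Ix 2) F) := fun x => by
    simp only [N0, Subgroup.mem_subgroupOf]; rfl
  have hmemN : ∀ x : ↥M, π x ∈ N0.map π ↔ Nr P (x : GL (Ix 2) F) := fun x => by
    refine ⟨?_, fun h => Subgroup.mem_map_of_mem π ((hN0 x).2 h)⟩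
    rintro ⟨y, hy, e⟩
    obtain ⟨c, e⟩ := hπ.1 e.symm
    rw [e]
    exact nr_mul P (nr_rm P (sg_mem_Rm P c)) ((hN0 y).1 hy)
  have hconj : ∀ {x : ↥M} {v w : Vc}, π x * π ⟨ev P v, hev v⟩ * (π x)⁻¹ = π ⟨ev P w, hev w⟩ →
      ∃ c, (x : GL (Ix 2) F) * ev P v * (x : GL (Ix 2) F)⁻¹ = sg c * ev P w := fun {x v w} h => by
    rw [← map_mul, ← map_inv, ← map_mul] at h
    exact hπ.1 h
  have hzero : ev P (0 : Vc) = 1 := by
    show el (0 : Pt 2) 0 (qel P 0 0 0) = 1
    rw [qel_zero, el_zero]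
  let S : Sys (↥M ⧸ (sgnG F).subgroupOf M) Vc :=
    { N := N0.map π
      E := fun v => π ⟨ev P v, hev v⟩
      E_add := fun v w => by
        rw [← map_mul, hπ]
        refine ⟨ip v.2.1 w.1 + (v.2.2.2 * w.2.2.1 + v.2.2.1 * w.2.2.1 + v.2.2.2 * w.2.2.2), ?_⟩
        show ev P (v + w) = _ * (ev P v * ev P w)
        rw [ev_mul, ← mul_assoc, sg_mul_sg, CharTwo.add_self_eq_zero, sg_zero, one_mul]
      E_inj := fun v w h => by
        obtain ⟨c, h⟩ := hπ.1 h
        refine eq_of_vadd (ev_ne P h2 (c := c + (ip v.2.1 w.1 +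
          (v.2.2.2 * w.2.2.1 + v.2.2.1 * w.2.2.1 + v.2.2.2 * w.2.2.2)) + qd w) ?_)
        have h1 := ev_mul P v w
        simp only at h
        nth_rw 1 [h] at h1
        rw [mul_assoc, ev_sq] at h1
        rw [← sg_mul_sg, ← sg_mul_sg, mul_assoc, sg_comm _ (sg (qd w)), ← mul_assoc (sg c), h1, mul_assoc,
          ← sg_comm, ← mul_assoc, sg_mul_sg, CharTwo.add_self_eq_zero, sg_zero, one_mul]
      E_mem := fun v => (hmemN _).2 (nr_rm P (ev_mem_Rm P v))
      nor := fun n hn v => by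
        obtain ⟨x, rfl⟩ := hsurj n
        obtain ⟨c, w, h⟩ := ev_of_nr P ((hmemN x).1 hn) v
        exact ⟨w, by rw [← map_mul, ← map_inv, ← map_mul, hπ]; exact ⟨c, h⟩⟩
      β := bfL
      β_symm := bf_symm
      β_nd := bf_nd
      iso := fun n hn v v' w w' hv hw => by
        obtain ⟨x, rfl⟩ := hsurj n
        obtain ⟨c, hv⟩ := hconj hv
        obtain ⟨c', hw⟩ := hconj hw
        exact bf_of_ev P h2 hv hw
      good := fun v hv g h => by
        obtain ⟨x, rfl⟩ := hsurj g
        obtain ⟨c, h⟩ := hconj (x := x) (v := v) (w := v) (by rw [h, mul_inv_cancel_right])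
        exact (hmemN x).2 (fus_ev P h2 hN hJ hZ hv x.2 h)
      fus := fun v hv g w h => by
        obtain ⟨x, rfl⟩ := hsurj g
        obtain ⟨c, h⟩ := hconj h
        exact (hmemN x).2 (fus_ev P h2 hN hJ hZ hv x.2 h)
      cent := fun g hg => by
        obtain ⟨x, rfl⟩ := hsurj g
        obtain ⟨y, hy⟩ : ∃ y : GL (Ix 2) F, y = (x : GL (Ix 2) F) * ev P z0 * (x : GL (Ix 2) F)⁻¹ := ⟨_, rfl⟩
        have hyS : y ∈ spM 2 F := hy ▸ mul_mem (mul_mem (hMS x.2) (ev_spM P _)) (inv_mem (hMS x.2))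
        have hs : ∀ w, ∃ c, y * ev P w = sg c * (ev P w * y) := fun w => by
          have h := (hg z0).2 w
          simp only [← map_mul, ← map_inv] at h
          obtain ⟨c, h⟩ := hπ.1 h
          exact ⟨c, by simpa [hy] using h⟩
        choose s hs using hs
        have hadd : ∀ v w, s (v + w) = s v + s w := fun v w => by
          obtain ⟨C, hC⟩ : ∃ C, ev P v * ev P w = sg C * ev P (v + w) := ⟨_, ev_mul P v w⟩
          have a1 : y * (ev P v * ev P w) = sg (s v + s w) * ((ev P v * ev P w) * y) := by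
            rw [← mul_assoc, hs, mul_assoc, mul_assoc (ev P v), hs, ← mul_assoc (ev P v), ← sg_comm,
              ← mul_assoc, ← mul_assoc]
            simp only [← mul_assoc, sg_mul_sg]
          rw [hC, ← mul_assoc, ← sg_comm, mul_assoc, hs, mul_assoc (sg C) (ev P (v + w)) y, ← mul_assoc,
            ← mul_assoc (sg (s v + s w)), sg_mul_sg, sg_mul_sg] at a1
          have := sg_inj_gl h2 (mul_right_cancel a1)
          linear_combination this
        let sL : Vc →ₗ[ZMod 2] ZMod 2 := AddMonoidHom.toZModLinearMap 2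
          { toFun := s
            map_zero' := by have h := hadd 0 0; rw [add_zero] at h; exact left_eq_add.1 h
            map_add' := hadd }
        obtain ⟨u, hu⟩ : ∃ u, ∀ w, bf u w = s w := by
          have hnd : (bfL).Nondegenerate := ⟨fun v h => bf_nd v h, fun v h => bf_nd v fun w => by
            rw [bf_symm]; exact h w⟩
          exact ⟨(bfL.toDual hnd).symm sL, fun w => LinearMap.BilinForm.apply_toDual_symm_apply (hB := hnd) sL w⟩
        have hcomm : ∀ w, ev P u * y * ev P w = ev P w * (ev P u * y) := fun w => by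
          rw [mul_assoc, hs, ← mul_assoc (ev P u), ← sg_comm, mul_assoc, ← mul_assoc (ev P u), ev_comm P u w, hu,
            ← mul_assoc, ← mul_assoc, sg_mul_sg, CharTwo.add_self_eq_zero, sg_zero, one_mul, mul_assoc]
        obtain ⟨c, hc⟩ := scalar_of_comm P h2 (mul_mem (ev_spM P u) hyS) hcomm
        refine ⟨z0, u, by decide +kernel, ?_⟩
        rw [← map_mul, ← map_inv, ← map_mul, hπ]
        refine ⟨qd u + c, ?_⟩
        show (x : GL (Ix 2) F) * ev P z0 * (x : GL (Ix 2) F)⁻¹ = sg (qd u + c) * ev P u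
        rw [← hy, ← sg_mul_sg, mul_assoc, sg_comm c, ← hc, ← mul_assoc, ← mul_assoc, mul_assoc (sg (qd u)),
          ev_sq, sg_mul_sg, CharTwo.add_self_eq_zero, sg_zero, one_mul] }
  intro g hg
  have hfr : Module.finrank (ZMod 2) Vc = 6 := by simp [Module.finrank_prod]
  have hmem := S.real_all (by rw [hfr]; norm_num) qd qd_add (fun n hn v w h => by
      obtain ⟨x, rfl⟩ := hsurj n
      obtain ⟨c, h⟩ := hconj h
      exact qd_of_ev P h2 h) (a := z0) (b := j0) (by decide +kernel) (by decide +kernel) (by decide +kernel)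
    (π ⟨g, hg⟩)
  exact (hmemN ⟨g, hg⟩).1 hmem

end Cfsg.Agent.C6Sp8
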