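import Cfsg.Agent.Lib.C6Minus10Coord

/-!
The reduction of the maximality of the normaliser of a group of minus type in the symplectic group of
dimension eight to the overgroups of the whole normaliser in the model.
-/

set_option autoImplicit false
set_option linter.unusedSectionVars false

namespace Cfsg.Agent.C6Sp8

open Matrix Cfsg.Agent.C6Plus10 Cfsg.Agent.C6Minus10
open scoped MatrixGroups

variable {F : Type*} [Field F]

/-- The clause for the symplectic group, given the statement about overgroups of the normaliser in the model. -/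
theorem of_core_sp8 [Fintype F]
    (hcore : ∀ P : Par F, (Fintype.card F).Prime → Odd (Fintype.card F) →
      ∀ M : Subgroup (GL (Ix 2) F), M ≤ spM 2 F → (∀ g ∈ spM 2 F, Nr P g → g ∈ M) →
        (∀ g ∈ M, Nr P g) ∨ spM 2 F ≤ M) :
    ∀ (p : ℕ) (R : Subgroup (Matrix.GeneralLinearGroup (Fin 4 ⊕ Fin 4) F)), p.Prime → Odd p →
      Fintype.card F = p → Cfsg.Geo.IsSymplecticTypeGroup 2 R →
      Cfsg.Geo.ActsAbsolutelyIrreducibly (Cfsg.Geo.matrixSet R) → R ≤ Cfsg.spGL 4 F →
      Nat.card R = 128 → Nat.card (Subgroup.center R) = 2 → Cfsg.Geo.IsOfMinusType 3 R →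
      Cfsg.Geo.IsMaximalIn (Cfsg.spGL 4 F) (Cfsg.Geo.subgroupNormalizer R ⊓ Cfsg.spGL 4 F) := by
  classical
  intro q R hq hqo hF hR hirr hRD hR128 hZ hminus
  have hcard : Nat.card R = 2 ^ (1 + 2 * 3) := by rw [hR128]; norm_num
  have hodd : Odd (Fintype.card F) := hF ▸ hqo
  have hpr : (Fintype.card F).Prime := hF ▸ hq
  have h2 : (2 : F) ≠ 0 := Ring.two_ne_zero fun hc => by
    have := FiniteField.even_card_of_char_two (F := F) hc
    rw [Nat.odd_iff] at hodd
    omega
  obtain ⟨j, p, Ψ, hj, hΨR, hΨS⟩ := exists_coord 4 3 (by norm_num) hodd R hR hirr hRD hcard hZ hminus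
  obtain rfl : j = 2 := Nat.pow_right_injective le_rfl (show 2 ^ j = 2 ^ 2 by rw [← hj])
  have : Finite (GL (Ix 2) F) := inferInstance
  have hNr : ∀ g, Ψ g ∈ Cfsg.Geo.subgroupNormalizer R ↔ Nr p g := by
    intro g
    constructor
    · intro h r hr
      have h1 : Ψ g * Ψ r * (Ψ g)⁻¹ ∈ R :=
        ((Subgroup.mem_set_normalizer_iff.mp h) (Ψ r)).mp (hΨR ▸ ⟨r, hr, rfl⟩)
      rw [← map_inv, ← map_mul, ← map_mul, ← hΨR] at h1
      obtain ⟨s, hs, e⟩ := h1
      exact Ψ.injective e ▸ hs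
    · intro h
      refine Subgroup.mem_set_normalizer_iff.mpr fun x => ?_
      let φ : Rm (j := 2) p → Rm (j := 2) p := fun r => ⟨g * r.1 * g⁻¹, h r.1 r.2⟩
      have hφ : Function.Injective φ := fun a b e => Subtype.ext (by simpa [φ] using Subtype.ext_iff.mp e)
      constructor
      · intro hx
        rw [SetLike.mem_coe, ← hΨR] at hx ⊢
        obtain ⟨r, hr, rfl⟩ := hx
        exact ⟨_, h r hr, by simp⟩
      · intro hx
        rw [SetLike.mem_coe, ← hΨR] at hx ⊢
        obtain ⟨s, hs, e⟩ := hx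
        obtain ⟨r, hr⟩ := (Finite.injective_iff_surjective.mp hφ) ⟨s, hs⟩
        refine ⟨r.1, r.2, ?_⟩
        have hre : g * r.1 * g⁻¹ = s := congrArg Subtype.val hr
        rw [← hre] at e
        simp only [MulEquiv.coe_toMonoidHom, map_mul, map_inv] at e
        exact mul_left_cancel (mul_right_cancel e)
  have hsp : ∀ g, Ψ g ∈ Cfsg.spGL 4 F ↔ g ∈ spM 2 F := fun g => by
    rw [← hΨS]
    exact ⟨fun ⟨s, hs, e⟩ => Ψ.injective e ▸ hs, fun h => ⟨g, h, rfl⟩⟩
  refine ⟨lt_of_le_of_ne inf_le_right fun he => ?_, fun M hHM hMK => ?_⟩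
  · obtain ⟨g, hg, hgn⟩ := exists_not_nr (j := 2) p h2 (by norm_num)
    exact hgn ((hNr g).mp (Subgroup.mem_inf.mp (he.symm ▸ (hsp g).mpr hg)).1)
  rcases hcore p hpr hodd (M.comap Ψ.toMonoidHom) (fun g hg => (hsp g).mp (hMK hg))
      (fun g hg hgn => hHM ⟨(hNr g).mpr hgn, (hsp g).mpr hg⟩) with h | h
  · refine Or.inl (le_antisymm (fun x hx => ⟨?_, hMK hx⟩) hHM)
    obtain ⟨g, rfl⟩ := Ψ.surjective x
    exact (hNr g).mpr (h g hx)
  · refine Or.inr (le_antisymm hMK ?_)
    rw [← hΨS]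
    exact Subgroup.map_le_iff_le_comap.mpr h

end Cfsg.Agent.C6Sp8
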