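import Mathlib
import Cfsg.Agent.Lib.SignalizerStrongEmb
import Cfsg.Agent.Lib.FrobeniusBasic

/-!
Groups of even order in which commuting is transitive on nonidentity elements: the centraliser of
an involution and its normaliser.
-/

set_option autoImplicit false

namespace Cfsg.Agent.CAGroupStructure22

variable {G : Type*} [Group G]

/-- Commuting is transitive on nonidentity elements. -/
def CA (G : Type*) [Group G] : Prop :=
  ∀ a b c : G, a ≠ 1 → b ≠ 1 → c ≠ 1 → Commute a b → Commute b c → Commute a c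

/-- The centraliser of an element. -/
abbrev cen (x : G) : Subgroup G := Subgroup.centralizer ({x} : Set G)

theorem mem_cen {x y : G} : y ∈ cen x ↔ Commute y x := Subgroup.mem_centralizer_singleton_iff

theorem comm_cen (h : CA G) {x a b : G} (hx : x ≠ 1) (ha : a ∈ cen x) (hb : b ∈ cen x) :
    Commute a b := by
  rw [mem_cen] at ha hb
  by_cases ha1 : a = 1
  · subst ha1; exact Commute.one_left b
  by_cases hb1 : b = 1
  · subst hb1; exact Commute.one_right a
  exact h a x b ha1 hx hb1 ha hb.symm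

theorem cen_eq (h : CA G) {x y : G} (hx : x ≠ 1) (hy : y ∈ cen x) (hy1 : y ≠ 1) :
    cen y = cen x := by
  ext z
  constructor
  · intro hz
    exact mem_cen.2 (comm_cen h hy1 hz (mem_cen.2 (mem_cen.1 hy).symm))
  · intro hz
    exact mem_cen.2 (comm_cen h hx hz hy)

theorem conj_mem_cen_conj {g x y : G} : g * y * g⁻¹ ∈ cen (g * x * g⁻¹) ↔ y ∈ cen x := by
  rw [mem_cen, mem_cen, Commute, SemiconjBy, Commute, SemiconjBy]
  constructor
  · intro e
    calc y * x = g⁻¹ * (g * y * g⁻¹ * (g * x * g⁻¹)) * g := by group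
      _ = g⁻¹ * (g * x * g⁻¹ * (g * y * g⁻¹)) * g := by rw [e]
      _ = x * y := by group
  · intro e
    calc g * y * g⁻¹ * (g * x * g⁻¹) = g * (y * x) * g⁻¹ := by group
      _ = g * (x * y) * g⁻¹ := by rw [e]
      _ = g * x * g⁻¹ * (g * y * g⁻¹) := by group

theorem conj_ne_one {g x : G} (hx : x ≠ 1) : g * x * g⁻¹ ≠ 1 := fun e => hx (conj_eq_one_iff.1 e)

/-- An element moving some nonidentity element of a centraliser into it normalises it. -/
theorem mem_normalizer_cen (h : CA G) {x y g : G} (hx : x ≠ 1) (hy : y ∈ cen x) (hy1 : y ≠ 1)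
    (hg : g * y * g⁻¹ ∈ cen x) : g ∈ Subgroup.normalizer (cen x : Set G) := by
  rw [Subgroup.mem_normalizer_iff]
  intro z
  have e := cen_eq h hx hg (conj_ne_one hy1)
  rw [← cen_eq h hx hy hy1]
  conv_rhs => rw [cen_eq h hx hy hy1, ← e]
  exact conj_mem_cen_conj.symm

/-- The basic configuration: centralisers of involutions are abelian, that of `t` is not normal, is
the centraliser of each of its nonidentity elements and contains a second involution. -/
structure Cfg (t : G) : Prop where
  cm : ∀ u : G, orderOf u = 2 → ∀ a ∈ cen u, ∀ b ∈ cen u, a * b = b * a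
  cenM' : ∀ x ∈ cen t, x ≠ 1 → cen x = cen t
  ot : orderOf t = 2
  notNormal : ¬ (cen t).Normal
  rk : ∃ u : G, orderOf u = 2 ∧ u ≠ t ∧ u ∈ cen t

namespace Cfg

variable {t : G} (H : Cfg t)
include H

theorem t_ne : t ≠ 1 := SignalizerStrongEmb.involution_ne_one H.ot

theorem t_mem : t ∈ cen t := mem_cen.2 (Commute.refl t)

theorem comm {a b : G} (ha : a ∈ cen t) (hb : b ∈ cen t) : a * b = b * a :=
  H.cm t H.ot a ha b hb

theorem cenM {x : G} (hx : x ∈ cen t) (hx1 : x ≠ 1) : cen x = cen t := H.cenM' x hx hx1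

theorem norm_of {x g : G} (hx : x ∈ cen t) (hx1 : x ≠ 1) (hg : g * x * g⁻¹ ∈ cen t) :
    g ∈ Subgroup.normalizer (cen t : Set G) :=
  by
  rw [Subgroup.mem_normalizer_iff]
  intro z
  have e := H.cenM hg (conj_ne_one hx1)
  rw [← H.cenM hx hx1]
  conv_rhs => rw [H.cenM hx hx1, ← e]
  exact conj_mem_cen_conj.symm

omit H in
theorem conj_mem {n x : G} (hn : n ∈ Subgroup.normalizer (cen t : Set G)) (hx : x ∈ cen t) :
    n * x * n⁻¹ ∈ cen t := (Subgroup.mem_normalizer_iff.1 hn x).1 hx

theorem le_normal {g : G} (hg : g ∈ cen t) : g ∈ Subgroup.normalizer (cen t : Set G) :=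
  Subgroup.le_normalizer hg

theorem fix {n x : G} (hx : x ∈ cen t) (hx1 : x ≠ 1) (h : n * x * n⁻¹ = x) : n ∈ cen t := by
  rw [← H.cenM hx hx1, mem_cen]
  exact mul_inv_eq_iff_eq_mul.1 h

theorem not_normal : ¬ (cen t).Normal := H.notNormal

theorem normalizer_ne_top : Subgroup.normalizer (cen t : Set G) ≠ ⊤ := fun e =>
  H.not_normal (Subgroup.normalizer_eq_top_iff.1 e)

variable [Finite G]

/-- Two involutions are conjugate unless they commute. -/
theorem conj_or_comm {u v : G} (hu : orderOf u = 2) (hv : orderOf v = 2) :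
    IsConj u v ∨ Commute u v := by
  rcases Nat.even_or_odd (orderOf (u * v)) with he | ho
  · right
    obtain ⟨z, -, hz, h1, h2⟩ := SignalizerStrongEmb.exists_commuting_of_even hu hv he
    exact H.cm z hz u (mem_cen.2 h1) v (mem_cen.2 h2)
  · left
    obtain ⟨w, -, hw⟩ := SignalizerStrongEmb.exists_conj_of_odd hu hv ho
    exact isConj_iff.2 ⟨w, hw⟩

/-- All involutions are conjugate. -/
theorem conjI {u v : G} (hu : orderOf u = 2) (hv : orderOf v = 2) : IsConj u v := by
  suffices key : ∀ u : G, orderOf u = 2 → IsConj t u from (key u hu).symm.trans (key v hv)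
  clear hu hv
  intro u hu
  rcases H.conj_or_comm H.ot hu with h | h
  · exact h
  obtain ⟨g, hg⟩ : ∃ g : G, g * t * g⁻¹ ∉ cen t := by
    by_contra hall
    push Not at hall
    exact H.normalizer_ne_top ((Subgroup.eq_top_iff' _).2 fun g =>
      H.norm_of H.t_mem H.t_ne (hall g))
  set v := g * t * g⁻¹ with hv
  have hvo : orderOf v = 2 := by rw [hv, SignalizerStrongEmb.orderOf_conj]; exact H.ot
  rcases H.conj_or_comm hvo hu with h' | h'
  · exact IsConj.trans (isConj_iff.2 ⟨g, rfl⟩) h'
  · exact absurd (mem_cen.2 (H.cm u hu v (mem_cen.2 h') t (mem_cen.2 h))) hg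

theorem exists_norm_conj {x : G} (hx : x ∈ cen t) (ho : orderOf x = 2) :
    ∃ n ∈ Subgroup.normalizer (cen t : Set G), n * t * n⁻¹ = x := by
  obtain ⟨n, hn⟩ := isConj_iff.1 (H.conjI H.ot ho)
  exact ⟨n, H.norm_of H.t_mem H.t_ne (hn ▸ hx), hn⟩

/-- A Sylow subgroup meeting the centraliser nontrivially lies in it. -/
theorem sylow_le {p : ℕ} [Fact p.Prime] (P : Sylow p G) {y : G} (hyP : y ∈ (P : Subgroup G))
    (hy : y ∈ cen t) (hy1 : y ≠ 1) : (P : Subgroup G) ≤ cen t := by
  have : Nontrivial (P : Subgroup G) :=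
    ⟨⟨⟨y, hyP⟩, 1, fun e => hy1 (congrArg Subtype.val e)⟩⟩
  have := P.isPGroup'.center_nontrivial
  obtain ⟨⟨z, hzc⟩, hz1⟩ := exists_ne (1 : Subgroup.center (P : Subgroup G))
  have hz1' : (z : G) ≠ 1 := fun e => hz1 (Subtype.ext (Subtype.ext e))
  have hc : ∀ w ∈ (P : Subgroup G), Commute w (z : G) := fun w hw =>
    congrArg Subtype.val (Subgroup.mem_center_iff.1 hzc ⟨w, hw⟩)
  have hzM : (z : G) ∈ cen t := by
    rw [← H.cenM hy hy1]
    exact mem_cen.2 (hc y hyP).symm
  intro w hw
  rw [← H.cenM hzM hz1']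
  exact mem_cen.2 (hc w hw)

theorem exists_sylow_le {p : ℕ} [Fact p.Prime] (hd : p ∣ Nat.card (cen t)) :
    ∃ P : Sylow p G, (P : Subgroup G) ≤ cen t := by
  obtain ⟨⟨y, hy⟩, ho⟩ := exists_prime_orderOf_dvd_card' p hd
  rw [Subgroup.orderOf_mk] at ho
  have hpg : IsPGroup p (Subgroup.zpowers y) := IsPGroup.of_card (n := 1)
    (by rw [Nat.card_zpowers, ho, pow_one])
  obtain ⟨P, hP⟩ := hpg.exists_le_sylow
  refine ⟨P, H.sylow_le P (hP (Subgroup.mem_zpowers y)) hy ?_⟩
  intro e
  rw [e, orderOf_one] at ho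
  exact (Fact.out : p.Prime).ne_one ho.symm

theorem hall : (Nat.card (cen t)).Coprime (cen t).index := by
  refine Nat.coprime_of_dvd fun p hp hd hi => ?_
  have := Fact.mk hp
  obtain ⟨P, hP⟩ := H.exists_sylow_le hd
  exact P.not_dvd_index (hi.trans (Subgroup.index_dvd_of_le hP))

theorem two_dvd : 2 ∣ Nat.card (cen t) := by
  have := Subgroup.orderOf_dvd_natCard (cen t) H.t_mem
  rwa [H.ot] at this

/-- The index of the centraliser in its normaliser. -/
noncomputable def kk (t : G) : ℕ :=
  (cen t).relIndex (Subgroup.normalizer (cen t : Set G))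

omit H in
theorem kk_mul_index :
    kk t * (Subgroup.normalizer (cen t : Set G)).index = (cen t).index :=
  Subgroup.relIndex_mul_index Subgroup.le_normalizer

omit H in
theorem card_normalizer :
    Nat.card (Subgroup.normalizer (cen t : Set G)) = Nat.card (cen t) * kk t := by
  have h := ((cen t).subgroupOf (Subgroup.normalizer (cen t : Set G))).card_mul_index
  rw [Nat.card_congr (Subgroup.subgroupOfEquivOfLe Subgroup.le_normalizer).toEquiv] at h
  exact h.symm

theorem coprime_kk : (Nat.card (cen t)).Coprime (kk t) :=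
  H.hall.coprime_dvd_right (Dvd.intro _ kk_mul_index)

theorem odd_kk : Odd (kk t) := by
  rw [Nat.odd_iff]
  by_contra h
  exact Nat.not_coprime_of_dvd_of_dvd (by norm_num : 1 < 2) H.two_dvd (by omega) H.coprime_kk

/-- Elements of the normaliser of order prime to the index lie in the centraliser. -/
theorem mem_of_coprime {n : G} (hn : n ∈ Subgroup.normalizer (cen t : Set G))
    (hc : (orderOf n).Coprime (kk t)) : n ∈ cen t := by
  set N := Subgroup.normalizer (cen t : Set G)
  have hnorm : ((cen t).subgroupOf N).Normal := Subgroup.normal_in_normalizer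
  have h1 : orderOf (QuotientGroup.mk (s := (cen t).subgroupOf N) (⟨n, hn⟩ : N)) ∣ kk t :=
    orderOf_dvd_natCard _
  have h2 : orderOf (QuotientGroup.mk (s := (cen t).subgroupOf N) (⟨n, hn⟩ : N)) ∣ orderOf n := by
    have := orderOf_map_dvd (QuotientGroup.mk' ((cen t).subgroupOf N)) (⟨n, hn⟩ : N)
    rwa [Subgroup.orderOf_mk] at this
  have h3 := Nat.eq_one_of_dvd_coprimes hc h2 h1
  rw [orderOf_eq_one_iff, QuotientGroup.eq_one_iff] at h3
  exact h3

theorem involution_mem {n : G} (hn : n ∈ Subgroup.normalizer (cen t : Set G))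
    (ho : orderOf n = 2) : n ∈ cen t := by
  refine H.mem_of_coprime hn ?_
  rw [ho]
  exact Nat.coprime_two_left.2 H.odd_kk

/-- The normaliser is the stabiliser of a unique point. -/
theorem eq_base {x : G} (hx : x ∈ cen t) (hx1 : x ≠ 1)
    {p : G ⧸ Subgroup.normalizer (cen t : Set G)} (hp : x • p = p) :
    p = QuotientGroup.mk 1 := by
  induction p using QuotientGroup.induction_on with
  | H g =>
    have hmem : g⁻¹ * x * g ∈ Subgroup.normalizer (cen t : Set G) := by
      have h : g⁻¹ * (x * g) ∈ Subgroup.normalizer (cen t : Set G) := QuotientGroup.eq.1 hp.symm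
      rwa [← mul_assoc] at h
    have hM : g⁻¹ * x * g ∈ cen t := by
      refine H.mem_of_coprime hmem (Nat.Coprime.coprime_dvd_left ?_ H.coprime_kk)
      have e : orderOf (g⁻¹ * x * g) = orderOf x := by
        have := SignalizerStrongEmb.orderOf_conj g⁻¹ x
        rwa [inv_inv] at this
      exact e ▸ Subgroup.orderOf_dvd_natCard _ hx
    have hg : g ∈ Subgroup.normalizer (cen t : Set G) := by
      refine H.norm_of hM (fun e => hx1 ?_) (by simpa [mul_assoc] using hx)
      calc x = g * (g⁻¹ * x * g) * g⁻¹ := by group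
        _ = 1 := by rw [e]; group
    exact QuotientGroup.eq.2 (by simpa using inv_mem hg)

theorem card_dvd_points :
    Nat.card (cen t) ∣ (Subgroup.normalizer (cen t : Set G)).index - 1 := by
  classical
  set N := Subgroup.normalizer (cen t : Set G)
  let o : G ⧸ N := QuotientGroup.mk 1
  have ho : ∀ m : cen t, (m : G) • o = o := fun m =>
    QuotientGroup.eq.2 (by simpa using inv_mem (H.le_normal m.2))
  letI : MulAction (cen t) {p : G ⧸ N // p ≠ o} :=
    { smul := fun m p => ⟨(m : G) • p.1, fun e =>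
        p.2 (MulAction.injective (m : G) (e.trans (ho m).symm))⟩
      one_smul := fun p => Subtype.ext (one_smul G p.1)
      mul_smul := fun a b p => Subtype.ext (mul_smul (a : G) (b : G) p.1) }
  have h := FrobeniusBasic.card_dvd_of_free (M := cen t) (α := {p : G ⧸ N // p ≠ o})
    fun m p hp => by
      by_contra hm
      exact p.2 (H.eq_base m.2 (fun e => hm (Subtype.ext e)) (congrArg Subtype.val hp))
  have e : Nat.card {p : G ⧸ N // p ≠ o} = N.index - 1 := by
    have := Fintype.ofFinite (G ⧸ N)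
    rw [Subgroup.index, Nat.card_eq_fintype_card, Nat.card_eq_fintype_card,
      Fintype.card_subtype_compl, Fintype.card_subtype_eq]
  rwa [e] at h

/-- Involutions of the centraliser correspond to the cosets in the normaliser. -/
theorem card_invol_cen : Nat.card {x : G // x ∈ cen t ∧ orderOf x = 2} = kk t := by
  classical
  set N := Subgroup.normalizer (cen t : Set G)
  set K := (cen t).subgroupOf N
  let f : N ⧸ K → {x : G // x ∈ cen t ∧ orderOf x = 2} := Quotient.lift
    (fun n : N => (⟨(n : G) * t * (n : G)⁻¹, Cfg.conj_mem n.2 H.t_mem,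
      (SignalizerStrongEmb.orderOf_conj _ _).trans H.ot⟩ :
        {x : G // x ∈ cen t ∧ orderOf x = 2}))
    (by
      intro a b hab
      replace hab := QuotientGroup.leftRel_apply.1 hab
      rw [Subgroup.mem_subgroupOf, mem_cen] at hab
      refine Subtype.ext ?_
      push_cast at hab
      calc (a : G) * t * (a : G)⁻¹
          = (a : G) * ((a : G)⁻¹ * b * t * ((a : G)⁻¹ * b)⁻¹) * (a : G)⁻¹ := by
            rw [hab.eq, mul_inv_cancel_right]
        _ = b * t * (b : G)⁻¹ := by group)
  have hf : Function.Bijective f := by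
    constructor
    · intro a b
      induction a using QuotientGroup.induction_on with
      | H a =>
        induction b using QuotientGroup.induction_on with
        | H b =>
          intro e
          have e' : (a : G) * t * (a : G)⁻¹ = b * t * (b : G)⁻¹ := congrArg Subtype.val e
          refine QuotientGroup.eq.2 ?_
          rw [Subgroup.mem_subgroupOf]
          refine H.fix H.t_mem H.t_ne ?_
          push_cast
          calc (a : G)⁻¹ * b * t * ((a : G)⁻¹ * b)⁻¹
              = (a : G)⁻¹ * (b * t * (b : G)⁻¹) * a := by group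
            _ = (a : G)⁻¹ * (a * t * (a : G)⁻¹) * a := by rw [e']
            _ = t := by group
    · rintro ⟨x, hx, ho⟩
      obtain ⟨n, hn, e⟩ := H.exists_norm_conj hx ho
      exact ⟨QuotientGroup.mk ⟨n, hn⟩, Subtype.ext e⟩
  rw [← Nat.card_congr (Equiv.ofBijective f hf)]
  rfl

/-- The elements of square one in the centraliser. -/
def elemTwo : Subgroup G where
  carrier := {x | x ∈ cen t ∧ x * x = 1}
  one_mem' := ⟨one_mem _, one_mul 1⟩
  mul_mem' := by
    rintro a b ⟨ha, ha2⟩ ⟨hb, hb2⟩
    refine ⟨mul_mem ha hb, ?_⟩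
    calc a * b * (a * b) = a * (b * a) * b := by group
      _ = a * (a * b) * b := by rw [← H.comm ha hb]
      _ = a * a * (b * b) := by group
      _ = 1 := by rw [ha2, hb2, one_mul]
  inv_mem' := by
    rintro a ⟨ha, ha2⟩
    refine ⟨inv_mem ha, ?_⟩
    rw [← mul_inv_rev, ha2, inv_one]

theorem mem_elemTwo {x : G} : x ∈ H.elemTwo ↔ x ∈ cen t ∧ x * x = 1 := Iff.rfl

theorem card_elemTwo : Nat.card H.elemTwo = kk t + 1 := by
  classical
  have := Fintype.ofFinite G
  have e : Nat.card {x : G // x ∈ cen t ∧ orderOf x = 2} =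
      Nat.card {x : H.elemTwo // x ≠ 1} := Nat.card_congr
    { toFun := fun x => ⟨⟨x.1, x.2.1, SignalizerStrongEmb.involution_mul_self x.2.2⟩,
        fun e => SignalizerStrongEmb.involution_ne_one x.2.2 (congrArg Subtype.val e)⟩
      invFun := fun x => ⟨x.1.1, x.1.2.1, SignalizerStrongEmb.orderOf_eq_two_of_mul_self x.1.2.2
        fun e => x.2 (Subtype.ext e)⟩
      left_inv := fun _ => rfl
      right_inv := fun _ => rfl }
  rw [← H.card_invol_cen, e, Nat.card_eq_fintype_card, Nat.card_eq_fintype_card,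
    Fintype.card_subtype_compl, Fintype.card_subtype_eq]
  have : 1 ≤ Fintype.card H.elemTwo := Fintype.card_pos
  omega

theorem exists_two_pow : ∃ r : ℕ, kk t + 1 = 2 ^ r := by
  have := Fact.mk Nat.prime_two
  have hp : IsPGroup 2 H.elemTwo := fun x => ⟨1, Subtype.ext (by
    rw [pow_one, pow_two]; exact x.2.2)⟩
  obtain ⟨r, hr⟩ := IsPGroup.iff_card.1 hp
  exact ⟨r, by rw [← H.card_elemTwo, hr]⟩

theorem three_le_kk : 3 ≤ kk t := by
  obtain ⟨u, hu, hut, huM⟩ := H.rk
  have := H.card_invol_cen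
  obtain ⟨i, hi⟩ := H.odd_kk
  by_contra hlt
  have h1 : kk t = 1 := by omega
  rw [h1, Nat.card_eq_one_iff_unique] at this
  exact hut (congrArg Subtype.val (this.1.elim (⟨u, huM, hu⟩ : {x : G // x ∈ cen t ∧ orderOf x = 2})
    ⟨t, H.t_mem, H.ot⟩))

theorem kk_dvd_card_sub_one : kk t ∣ Nat.card (cen t) - 1 := by
  classical
  set N := Subgroup.normalizer (cen t : Set G)
  have hnorm : ((cen t).subgroupOf N).Normal := Subgroup.normal_in_normalizer
  let c : N →* Equiv.Perm {x : G // x ∈ cen t ∧ x ≠ 1} :=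
    { toFun := fun n =>
        { toFun := fun x => ⟨(n : G) * x.1 * (n : G)⁻¹, Cfg.conj_mem n.2 x.2.1, conj_ne_one x.2.2⟩
          invFun := fun x => ⟨(n : G)⁻¹ * x.1 * ((n : G)⁻¹)⁻¹, Cfg.conj_mem (inv_mem n.2) x.2.1,
            conj_ne_one x.2.2⟩
          left_inv := fun x => Subtype.ext (by group)
          right_inv := fun x => Subtype.ext (by group) }
      map_one' := Equiv.ext fun x => Subtype.ext (by simp)
      map_mul' := fun a b => Equiv.ext fun x => Subtype.ext (by simp [mul_assoc]) }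
  have hk : (cen t).subgroupOf N ≤ c.ker := fun n hn => Equiv.ext fun x => Subtype.ext (by
    show (n : G) * x.1 * (n : G)⁻¹ = x.1
    rw [H.comm (a := (n : G)) hn x.2.1, mul_inv_cancel_right])
  letI : MulAction (N ⧸ (cen t).subgroupOf N) {x : G // x ∈ cen t ∧ x ≠ 1} :=
    MulAction.compHom _ (QuotientGroup.lift _ c hk)
  have h := FrobeniusBasic.card_dvd_of_free (M := N ⧸ (cen t).subgroupOf N)
    (α := {x : G // x ∈ cen t ∧ x ≠ 1}) fun m x hx => by
      induction m using QuotientGroup.induction_on with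
      | H n =>
        rw [QuotientGroup.eq_one_iff]
        exact H.fix x.2.1 x.2.2 (congrArg Subtype.val hx)
  have := Fintype.ofFinite G
  have e : Nat.card {x : G // x ∈ cen t ∧ x ≠ 1} = Nat.card (cen t) - 1 := by
    rw [show Nat.card {x : G // x ∈ cen t ∧ x ≠ 1} = Nat.card {x : cen t // x ≠ 1} from
      Nat.card_congr
        { toFun := fun x => ⟨⟨x.1, x.2.1⟩, fun e => x.2.2 (congrArg Subtype.val e)⟩
          invFun := fun x => ⟨x.1.1, x.1.2, fun e => x.2 (Subtype.ext e)⟩
          left_inv := fun _ => rfl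
          right_inv := fun _ => rfl }, Nat.card_eq_fintype_card, Nat.card_eq_fintype_card,
      Fintype.card_subtype_compl, Fintype.card_subtype_eq]
  rwa [e] at h

/-- Commutators with an element outside the centraliser fill an invariant subgroup. -/
theorem exists_comm_eq {E : Subgroup G} (hE : E ≤ cen t) {n : G}
    (hn : n ∈ Subgroup.normalizer (cen t : Set G)) (hnM : n ∉ cen t)
    (hEn : ∀ x ∈ E, n * x * n⁻¹ ∈ E) {y : G} (hy : y ∈ E) :
    ∃ x ∈ E, n * x * n⁻¹ * x⁻¹ = y := by
  let f : E → E := fun x => ⟨n * x.1 * n⁻¹ * (x.1)⁻¹, mul_mem (hEn _ x.2) (inv_mem x.2)⟩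
  have hf : Function.Injective f := by
    intro a b e
    have e' : n * a.1 * n⁻¹ * (a.1)⁻¹ = n * b.1 * n⁻¹ * (b.1)⁻¹ := congrArg Subtype.val e
    refine Subtype.ext ?_
    by_contra hne
    have hd : a.1 * (b.1)⁻¹ ∈ cen t := hE (mul_mem a.2 (inv_mem b.2))
    have hd1 : a.1 * (b.1)⁻¹ ≠ 1 := fun h => hne (mul_inv_eq_one.1 h)
    refine hnM (H.fix hd hd1 ?_)
    calc n * (a.1 * (b.1)⁻¹) * n⁻¹ = n * a.1 * n⁻¹ * (n * b.1 * n⁻¹)⁻¹ := by group
      _ = n * b.1 * n⁻¹ * (b.1)⁻¹ * a.1 * (n * b.1 * n⁻¹)⁻¹ := by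
        rw [← e', inv_mul_cancel_right]
      _ = n * b.1 * n⁻¹ * ((b.1)⁻¹ * a.1) * (n * b.1 * n⁻¹)⁻¹ := by group
      _ = (b.1)⁻¹ * a.1 := by
        rw [H.comm (hE (hEn _ b.2)) (hE (mul_mem (inv_mem b.2) a.2)), mul_inv_cancel_right]
      _ = a.1 * (b.1)⁻¹ := H.comm (hE (inv_mem b.2)) (hE a.2)
  obtain ⟨x, hx⟩ := Finite.injective_iff_surjective.1 hf ⟨y, hy⟩
  exact ⟨x, x.2, congrArg Subtype.val hx⟩

end Cfg

/-- In a simple group the configuration follows from transitivity of commuting. -/
theorem Cfg.of_ca [Finite G] {t : G} (hca : CA G) (ht : orderOf t = 2) (hsimple : IsSimpleGroup G)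
    (hnc : ¬ ∀ a b : G, Commute a b) : Cfg t := by
  have ht1 : t ≠ 1 := SignalizerStrongEmb.involution_ne_one ht
  have hcomm : ∀ a ∈ cen t, ∀ b ∈ cen t, a * b = b * a := fun a ha b hb =>
    comm_cen hca ht1 ha hb
  have hnn : ¬ (cen t).Normal := by
    intro hn
    rcases hsimple.eq_bot_or_eq_top_of_normal (cen t) hn with e | e
    · exact ht1 ((Subgroup.eq_bot_iff_forall _).1 e t (mem_cen.2 (Commute.refl t)))
    · exact hnc fun a b => hcomm a (e ▸ Subgroup.mem_top a) b (e ▸ Subgroup.mem_top b)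
  refine ⟨fun u hu a ha b hb => comm_cen hca (SignalizerStrongEmb.involution_ne_one hu) ha hb,
    fun x hx hx1 => cen_eq hca ht1 hx hx1, ht, hnn, ?_⟩
  by_contra hno
  push Not at hno
  -- a single involution in the centraliser: its normaliser centralises a Sylow subgroup
  have := Fact.mk Nat.prime_two
  obtain ⟨P, hP⟩ := (IsPGroup.of_card (p := 2) (n := 1)
    (show Nat.card (Subgroup.zpowers t) = 2 ^ 1 by rw [Nat.card_zpowers, ht, pow_one])).exists_le_sylow
  have htP : t ∈ (P : Subgroup G) := hP (Subgroup.mem_zpowers t)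
  have : Nontrivial (P : Subgroup G) := ⟨⟨⟨t, htP⟩, 1, fun e => ht1 (congrArg Subtype.val e)⟩⟩
  have := P.isPGroup'.center_nontrivial
  obtain ⟨⟨z, hzc⟩, hz1⟩ := exists_ne (1 : Subgroup.center (P : Subgroup G))
  have hz1' : (z : G) ≠ 1 := fun e => hz1 (Subtype.ext (Subtype.ext e))
  have hc : ∀ w ∈ (P : Subgroup G), Commute w (z : G) := fun w hw =>
    congrArg Subtype.val (Subgroup.mem_center_iff.1 hzc ⟨w, hw⟩)
  have hPM : (P : Subgroup G) ≤ cen t := fun w hw => by
    have hzM : (z : G) ∈ cen t := mem_cen.2 (hc t htP).symm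
    rw [← cen_eq hca ht1 hzM hz1']
    exact mem_cen.2 (hc w hw)
  have hNP : Subgroup.normalizer ((P : Subgroup G) : Set G) ≤
      Subgroup.centralizer ((P : Subgroup G) : Set G) := by
    intro n hn
    have hnt : n * t * n⁻¹ ∈ cen t := hPM ((Subgroup.mem_normalizer_iff.1 hn t).1 htP)
    have e : n * t * n⁻¹ = t := by
      by_contra hne
      exact hno _ ((SignalizerStrongEmb.orderOf_conj n t).trans ht) hne hnt
    have hnM : n ∈ cen t := mem_cen.2 (mul_inv_eq_iff_eq_mul.1 e)
    exact Subgroup.mem_centralizer_iff.2 fun w hw => hcomm w (hPM hw) n hnM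
  have hker := MonoidHom.ker_transferSylow_isComplement' P hNP
  rcases hsimple.eq_bot_or_eq_top_of_normal _
    (inferInstance : ((MonoidHom.transferSylow P hNP).ker).Normal) with e | e
  · rw [e] at hker
    have hPtop := Subgroup.isComplement'_bot_left.1 hker
    exact hnc fun a b => hcomm a (hPM (hPtop ▸ Subgroup.mem_top a)) b
      (hPM (hPtop ▸ Subgroup.mem_top b))
  · rw [e] at hker
    exact ht1 ((Subgroup.eq_bot_iff_forall _).1 (Subgroup.isComplement'_top_left.1 hker) t htP)

end Cfsg.Agent.CAGroupStructure22
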