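import Mathlib
import Cfsg.Agent.Lib.CAGroupStructure22
import Cfsg.Agent.Lib.BSWChars84

/-!
In a simple group in which commuting is transitive, the centraliser of an involution is an
elementary abelian 2-group.
-/

set_option autoImplicit false
set_option linter.unusedSectionVars false

namespace Cfsg.Agent.CAGroupChars22

open Cfsg Cfsg.Agent.CharBasic Cfsg.Agent.CharBasicOrth Cfsg.Agent.CharBasicDecomp
open Cfsg.Agent.CoherenceBasic
open Cfsg.Agent.CAGroupStructure22 Cfsg.Agent.BSW84
open scoped ComplexConjugate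

universe u

variable {G : Type u} [Group G] [Fintype G] {t : G}

open scoped Classical in
/-- The normaliser of the centraliser, as a set of elements. -/
noncomputable def nset (t : G) : Finset G :=
  Finset.univ.filter fun n => n ∈ Subgroup.normalizer (cen t : Set G)

theorem mem_nset {n : G} : n ∈ nset t ↔ n ∈ Subgroup.normalizer (cen t : Set G) := by
  classical
  simp [nset]

/-- Conjugation of the centraliser by an element of its normaliser. -/
def cj (n : G) (hn : n ∈ Subgroup.normalizer (cen t : Set G)) : cen t →* cen t where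
  toFun x := ⟨n⁻¹ * x.1 * n, by simpa using Cfg.conj_mem (inv_mem hn) x.2⟩
  map_one' := Subtype.ext (by simp)
  map_mul' a b := Subtype.ext (by simp [mul_assoc])

/-- A character moved by an element of the normaliser. -/
def act (n : G) (hn : n ∈ Subgroup.normalizer (cen t : Set G)) (a : cen t →* ℂˣ) : cen t →* ℂˣ :=
  a.comp (cj n hn)

theorem ext_act (n : G) (hn : n ∈ Subgroup.normalizer (cen t : Set G)) (a : cen t →* ℂˣ) (z : G) :
    extendByZero (cen t) (lin (act n hn a)) z = extendByZero (cen t) (lin a) (n⁻¹ * z * n) := by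
  by_cases hz : z ∈ cen t
  · rw [CharInduced.ext_zero_of_mem _ hz,
      CharInduced.ext_zero_of_mem _ (by simpa using Cfg.conj_mem (inv_mem hn) hz)]
    rfl
  · rw [CharInduced.ext_zero_of_not_mem _ hz, CharInduced.ext_zero_of_not_mem]
    intro h
    refine hz ?_
    have := Cfg.conj_mem hn h
    simpa [mul_assoc] using this

theorem ind_act (n : G) (hn : n ∈ Subgroup.normalizer (cen t : Set G)) (a : cen t →* ℂˣ) :
    indFun (cen t) (lin (act n hn a)) = indFun (cen t) (lin a) := by
  funext g
  rw [CharInduced.indFun_apply, CharInduced.indFun_apply]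
  congr 1
  refine Fintype.sum_equiv (Equiv.mulRight n) _ _ fun x => ?_
  rw [ext_act, Equiv.coe_mulRight]
  congr 1
  group

/-- The character is trivial on the elements of square one. -/
def TrivE (a : cen t →* ℂˣ) : Prop := ∀ x : cen t, x * x = 1 → a x = 1

theorem trivE_act (n : G) (hn : n ∈ Subgroup.normalizer (cen t : Set G)) {a : cen t →* ℂˣ}
    (h : TrivE a) : TrivE (act n hn a) := fun x hx =>
  h _ (by rw [← map_mul, hx, map_one])

theorem trivE_of_act (n : G) (hn : n ∈ Subgroup.normalizer (cen t : Set G)) {a : cen t →* ℂˣ}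
    (h : TrivE (act n hn a)) : TrivE a := by
  intro x hx
  have := h (cj n⁻¹ (inv_mem hn) x) (by rw [← map_mul, hx, map_one])
  simpa [act, cj, mul_assoc] using this

theorem isClassFunction_pairs' : IsClassFunction G (fun g : G => (pairs g : ℂ)) := fun g h => by
  simp only [pairs_conj]

section

variable (H : Cfg t)
include H

theorem comm_sub (x y : cen t) : x * y = y * x := Subtype.ext (H.comm x.2 y.2)

theorem exists_ne_one {x : cen t} (hx : x ≠ 1) : ∃ a : cen t →* ℂˣ, a x ≠ 1 := by
  let _ : CommGroup (cen t) := { (inferInstance : Group (cen t)) with mul_comm := comm_sub H }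
  exact CommGroup.exists_apply_ne_one_of_hasEnoughRootsOfUnity (cen t) ℂ hx

theorem act_ne {n : G} (hn : n ∈ Subgroup.normalizer (cen t : Set G)) (hnM : n ∉ cen t)
    {a : cen t →* ℂˣ} (E : Subgroup G) (hE : E ≤ cen t) (hEn : ∀ x ∈ E, n⁻¹ * x * n ∈ E)
    (h : ∀ x : cen t, (x : G) ∈ E → act n hn a x = a x) :
    ∀ x : cen t, (x : G) ∈ E → a x = 1 := by
  intro y hy
  obtain ⟨x, hx, e⟩ := H.exists_comm_eq hE (inv_mem hn) (fun hc => hnM (by simpa using inv_mem hc))
    (by simpa using hEn) hy
  have e' : y = cj n hn ⟨x, hE hx⟩ * (⟨x, hE hx⟩ : cen t)⁻¹ := by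
    refine Subtype.ext ?_
    rw [← e]
    simp [cj, mul_assoc]
  have h' : a (cj n hn ⟨x, hE hx⟩) = a ⟨x, hE hx⟩ := h ⟨x, hE hx⟩ hx
  rw [e', map_mul, map_inv, h', mul_inv_cancel]

theorem act_of_mem {n : G} (hn : n ∈ Subgroup.normalizer (cen t : Set G)) (hnM : n ∈ cen t)
    (a : cen t →* ℂˣ) : act n hn a = a := by
  refine MonoidHom.ext fun x => congrArg a (Subtype.ext ?_)
  show n⁻¹ * x.1 * n = x.1
  rw [mul_assoc, H.comm x.2 hnM, inv_mul_cancel_left]

theorem eq_one_of_act {n : G} (hn : n ∈ Subgroup.normalizer (cen t : Set G)) (hnM : n ∉ cen t)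
    {a : cen t →* ℂˣ} (h : act n hn a = a) : a = 1 :=
  MonoidHom.ext fun x => act_ne H hn hnM (cen t) le_rfl
    (fun x hx => by simpa using Cfg.conj_mem (inv_mem hn) hx) (fun x _ => by rw [h]) x x.2

variable [Fintype (cen t)]

omit H in
theorem card_ne_zero : (Nat.card (cen t) : ℂ) ≠ 0 := Nat.cast_ne_zero.2 Nat.card_pos.ne'

theorem ind_value (f : cen t → ℂ) {x : cen t} (hx : x ≠ 1) :
    indFun (cen t) f (x : G) =
      (Nat.card (cen t) : ℂ)⁻¹ * ∑ n ∈ nset t, extendByZero (cen t) f (n⁻¹ * x * n) := by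
  classical
  rw [CharInduced.indFun_apply, nset, Finset.sum_filter_of_ne]
  intro c _ hne
  by_contra hc
  refine hne (CharInduced.ext_zero_of_not_mem f fun hmem => hc ?_)
  have := H.norm_of (g := c⁻¹) x.2 (fun e => hx (Subtype.ext e)) (by simpa using hmem)
  simpa using inv_mem this

theorem inner_ind {f g : cen t → ℂ} (hf : f 1 = 0) :
    classInner (indFun (cen t) f) (indFun (cen t) g) = (Nat.card (cen t) : ℂ)⁻¹ *
      ∑ n ∈ nset t, classInner f (fun x => extendByZero (cen t) g (n⁻¹ * x * n)) := by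
  rw [CharInduced.inner_ind_left _ f (CharInduced.isClassFunction_ind _ _)]
  simp only [classInner, Finset.mul_sum]
  rw [Finset.sum_comm]
  refine Finset.sum_congr rfl fun x _ => ?_
  by_cases hx : x = 1
  · subst hx
    simp [hf]
  · rw [ind_value H g hx, map_mul, map_inv₀, Complex.conj_natCast, map_sum, Finset.mul_sum,
      Finset.mul_sum, Finset.mul_sum]
    refine Finset.sum_congr rfl fun n _ => ?_
    ring

/-- The orbit counting function. -/
noncomputable def kf (b a : cen t →* ℂˣ) : ℂ :=
  (Nat.card (cen t) : ℂ)⁻¹ *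
    ∑ n ∈ nset t, classInner (lin b) (fun x => extendByZero (cen t) (lin a) (n⁻¹ * x * n))

theorem inner_ind_lin (b a d c : cen t →* ℂˣ) :
    classInner (indFun (cen t) (lin b - lin a)) (indFun (cen t) (lin d - lin c)) =
      kf b d - kf b c - kf a d + kf a c := by
  rw [inner_ind H (by simp [lin])]
  have e : ∀ z : G, extendByZero (cen t) (lin d - lin c) z =
      extendByZero (cen t) (lin d) z - extendByZero (cen t) (lin c) z := by
    intro z
    by_cases hz : z ∈ cen t
    · simp [CharInduced.ext_zero_of_mem _ hz]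
    · simp [CharInduced.ext_zero_of_not_mem _ hz]
  simp only [kf, e, ← mul_sub, ← mul_add, ← Finset.sum_sub_distrib, ← Finset.sum_add_distrib]
  congr 1
  refine Finset.sum_congr rfl fun n _ => ?_
  rw [show (fun x : cen t => extendByZero (cen t) (lin d) (n⁻¹ * x * n) -
      extendByZero (cen t) (lin c) (n⁻¹ * x * n)) =
      (fun x : cen t => extendByZero (cen t) (lin d) (n⁻¹ * x * n)) -
      fun x : cen t => extendByZero (cen t) (lin c) (n⁻¹ * x * n) from rfl,
    classInner_sub_left, classInner_sub_right, classInner_sub_right]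
  ring

omit H in
theorem lin_act (n : G) (hn : n ∈ Subgroup.normalizer (cen t : Set G)) (a : cen t →* ℂˣ) :
    (fun x : cen t => extendByZero (cen t) (lin a) (n⁻¹ * x * n)) = lin (act n hn a) := by
  funext x
  rw [← ext_act n hn, CharInduced.ext_zero_coe]

theorem kf_zero {b a : cen t →* ℂˣ}
    (h : ∀ (n : G) (hn : n ∈ Subgroup.normalizer (cen t : Set G)), act n hn a ≠ b) :
    kf b a = 0 := by
  classical
  rw [kf, Finset.sum_eq_zero, mul_zero]
  intro n hn
  rw [lin_act n (mem_nset.1 hn), inner_lin, if_neg (Ne.symm (h n _))]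

theorem kf_self {a : cen t →* ℂˣ} (ha : a ≠ 1) : kf a a = 1 := by
  classical
  rw [kf, ← Finset.sum_subset (s₁ := Finset.univ.filter fun n : G => n ∈ cen t) (fun n hn =>
    mem_nset.2 (H.le_normal (Finset.mem_filter.1 hn).2))]
  · rw [Finset.sum_congr rfl fun n hn => ?_, Finset.sum_const, nsmul_one,
      ← Fintype.card_subtype, ← Nat.card_eq_fintype_card, inv_mul_cancel₀ card_ne_zero]
    have hn' := (Finset.mem_filter.1 hn).2
    rw [lin_act n (H.le_normal hn'), act_of_mem H _ hn', inner_lin, if_pos rfl]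
  · intro n hn hn'
    rw [lin_act n (mem_nset.1 hn), inner_lin, if_neg]
    intro e
    exact ha (eq_one_of_act H _ (fun h => hn' (by simp [h])) e.symm)

/-- Sum over the normaliser of a function evaluated at the conjugates of the involution. -/
theorem sum_nset_conj (f : G → ℂ) [DecidableEq G] [DecidablePred (· ∈ cen t)] :
    ∑ n ∈ nset t, f (n⁻¹ * t * n) = (Nat.card (cen t) : ℂ) *
      ∑ z ∈ Finset.univ.filter (fun z : G => z ∈ cen t ∧ orderOf z = 2), f z := by
  classical
  have hmem : ∀ n ∈ nset t, n⁻¹ * t * n ∈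
      Finset.univ.filter (fun z : G => z ∈ cen t ∧ orderOf z = 2) := by
    intro n hn
    refine Finset.mem_filter.2 ⟨Finset.mem_univ _,
      by simpa using Cfg.conj_mem (inv_mem (mem_nset.1 hn)) H.t_mem, ?_⟩
    have := SignalizerStrongEmb.orderOf_conj n⁻¹ t
    rw [inv_inv] at this
    exact this.trans H.ot
  rw [← Finset.sum_fiberwise_of_maps_to hmem, Finset.mul_sum]
  refine Finset.sum_congr rfl fun z hz => ?_
  obtain ⟨-, hzM, hzo⟩ := Finset.mem_filter.1 hz
  rw [Finset.sum_congr rfl fun n hn => by rw [(Finset.mem_filter.1 hn).2], Finset.sum_const,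
    nsmul_eq_mul]
  congr 2
  obtain ⟨n₀, hn₀, e⟩ := H.exists_norm_conj hzM hzo
  rw [Nat.card_eq_fintype_card, Fintype.card_subtype]
  refine (Finset.card_bij (fun m _ => m * n₀⁻¹) ?_ (fun a _ b _ h => mul_right_cancel h) ?_).symm
  · intro m hm
    have hm' : m ∈ cen t := (Finset.mem_filter.1 hm).2
    refine Finset.mem_filter.2 ⟨mem_nset.2 (mul_mem (H.le_normal hm') (inv_mem hn₀)), ?_⟩
    rw [← e]
    calc (m * n₀⁻¹)⁻¹ * t * (m * n₀⁻¹) = n₀ * (m⁻¹ * (t * m)) * n₀⁻¹ := by group
      _ = n₀ * t * n₀⁻¹ := by rw [← (mem_cen.1 hm').eq, inv_mul_cancel_left]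
  · intro n hn
    refine ⟨n * n₀, Finset.mem_filter.2 ⟨Finset.mem_univ _, ?_⟩, by group⟩
    have hz' := (Finset.mem_filter.1 hn).2
    rw [← e] at hz'
    refine mem_cen.2 ?_
    calc n * n₀ * t = n * (n₀ * t * n₀⁻¹) * n₀ := by group
      _ = n * (n⁻¹ * t * n) * n₀ := by rw [hz']
      _ = t * (n * n₀) := by group

/-- The number of involutions in a character sum. -/
theorem sum_invol [DecidableEq G] [DecidablePred (· ∈ cen t)] (a : cen t →* ℂˣ) :
    (TrivE a → ∑ z ∈ Finset.univ.filter (fun z : G => z ∈ cen t ∧ orderOf z = 2),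
      extendByZero (cen t) (lin a) z = (Cfg.kk t : ℂ)) ∧
    (¬ TrivE a → ∑ z ∈ Finset.univ.filter (fun z : G => z ∈ cen t ∧ orderOf z = 2),
      extendByZero (cen t) (lin a) z = -1) := by
  classical
  constructor
  · intro h
    rw [Finset.sum_congr rfl (g := fun _ => (1 : ℂ)) fun z hz => ?_]
    · rw [Finset.sum_const, nsmul_one, ← H.card_invol_cen, Nat.card_eq_fintype_card,
        Fintype.card_subtype]
    · obtain ⟨-, hzM, hzo⟩ := Finset.mem_filter.1 hz
      rw [CharInduced.ext_zero_of_mem _ hzM, lin,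
        h _ (Subtype.ext (SignalizerStrongEmb.involution_mul_self hzo)), Units.val_one]
  · intro h
    simp only [TrivE, not_forall] at h
    obtain ⟨y, hy2, hy⟩ := h
    set E : Finset (cen t) := Finset.univ.filter fun x => x * x = 1 with hE
    have hsum : ∑ x ∈ E, lin a x = 0 := by
      have e : ∑ x ∈ E, lin a (y * x) = ∑ x ∈ E, lin a x := by
        refine Finset.sum_nbij' (fun x => y * x) (fun x => y * x) ?_ ?_ ?_ ?_ (fun _ _ => rfl)
        · intro x hx
          simp only [hE, Finset.mem_coe, Finset.mem_filter, Finset.mem_univ, true_and] at hx ⊢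
          rw [mul_assoc, ← mul_assoc x y, comm_sub H x y, mul_assoc y x x, hx, mul_one, hy2]
        · intro x hx
          simp only [hE, Finset.mem_coe, Finset.mem_filter, Finset.mem_univ, true_and] at hx ⊢
          rw [mul_assoc, ← mul_assoc x y, comm_sub H x y, mul_assoc y x x, hx, mul_one, hy2]
        · intro x _; simp only [← mul_assoc, hy2, one_mul]
        · intro x _; simp only [← mul_assoc, hy2, one_mul]
      simp only [lin, map_mul, Units.val_mul, ← Finset.mul_sum] at e
      by_contra hne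
      simp only [lin] at hne
      exact hy (Units.ext (by simpa using (mul_eq_right₀ hne).1 e))
    have h1 : (1 : cen t) ∈ E := by simp [hE]
    rw [← Finset.add_sum_erase E _ h1, show lin a (1 : cen t) = 1 by simp [lin],
      add_eq_zero_iff_neg_eq] at hsum
    rw [hsum]
    refine Eq.symm ?_
    refine Finset.sum_bij (fun x _ => (x : G)) ?_ ?_ ?_ ?_
    · intro x hx
      obtain ⟨hx1, hx2⟩ := Finset.mem_erase.1 hx
      exact Finset.mem_filter.2 ⟨Finset.mem_univ _, x.2,
        SignalizerStrongEmb.orderOf_eq_two_of_mul_self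
          (congrArg Subtype.val (Finset.mem_filter.1 hx2).2) (fun e => hx1 (Subtype.ext e))⟩
    · intro x _ x' _ e
      exact Subtype.ext e
    · intro z hz
      obtain ⟨-, hzM, hzo⟩ := Finset.mem_filter.1 hz
      exact ⟨⟨z, hzM⟩, Finset.mem_erase.2 ⟨fun e =>
        SignalizerStrongEmb.involution_ne_one hzo (congrArg Subtype.val e), Finset.mem_filter.2
          ⟨Finset.mem_univ _, Subtype.ext (SignalizerStrongEmb.involution_mul_self hzo)⟩⟩, rfl⟩
    · intro x _
      rw [CharInduced.ext_zero_coe]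

theorem ind_at_t {b a : cen t →* ℂˣ} (hb : TrivE b) (ha : ¬ TrivE a) :
    indFun (cen t) (lin b - lin a) t = (Cfg.kk t : ℂ) + 1 := by
  classical
  have ht : (⟨t, H.t_mem⟩ : cen t) ≠ 1 := fun e => H.t_ne (congrArg Subtype.val e)
  rw [CharInduced.ind_sub]
  simp only [Pi.sub_apply]
  have e1 := ind_value H (lin b) ht
  have e2 := ind_value H (lin a) ht
  simp only at e1 e2
  rw [e1, e2]
  simp only [sum_nset_conj H, (sum_invol H b).1 hb, (sum_invol H a).2 ha]
  field_simp [card_ne_zero (t := t)]
  ring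

/-- Values of the pair function on the centraliser. -/
theorem pairs_cen {x : G} (hx : x ∈ cen t) (hx1 : x ≠ 1) :
    (x * x = 1 → pairs x + 1 = Cfg.kk t) ∧ (x * x ≠ 1 → pairs x = 0) := by
  classical
  have key : ∀ a : G, orderOf a = 2 → orderOf (a * x) = 2 → a ∈ cen t ∧ x * x = 1 := by
    intro a ha hax
    have e : a * x * a⁻¹ = x⁻¹ := by
      have h := SignalizerStrongEmb.involution_inv hax
      rw [mul_inv_rev, SignalizerStrongEmb.involution_inv ha] at h
      rw [SignalizerStrongEmb.involution_inv ha, ← h, mul_assoc,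
        SignalizerStrongEmb.involution_mul_self ha, mul_one]
    have haM : a ∈ cen t := H.involution_mem (H.norm_of hx hx1 (e ▸ inv_mem hx)) ha
    refine ⟨haM, ?_⟩
    rw [H.comm haM hx, mul_inv_cancel_right] at e
    exact mul_eq_one_iff_eq_inv.2 e
  constructor
  · intro h2
    have hxo := SignalizerStrongEmb.orderOf_eq_two_of_mul_self h2 hx1
    let S := {a : G // a ∈ cen t ∧ orderOf a = 2}
    have e : Nat.card {a : G // orderOf a = 2 ∧ orderOf (a * x) = 2} =
        Nat.card {a : S // a ≠ ⟨x, hx, hxo⟩} := Nat.card_congr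
      { toFun := fun a => ⟨⟨a.1, (key a.1 a.2.1 a.2.2).1, a.2.1⟩, fun e => by
          have h := a.2.2
          rw [show a.1 = x from congrArg Subtype.val e, h2, orderOf_one] at h
          norm_num at h⟩
        invFun := fun a => ⟨a.1.1, a.1.2.2, SignalizerStrongEmb.orderOf_eq_two_of_mul_self (by
            calc a.1.1 * x * (a.1.1 * x) = a.1.1 * (x * a.1.1) * x := by group
              _ = a.1.1 * (a.1.1 * x) * x := by rw [H.comm hx a.1.2.1]
              _ = a.1.1 * a.1.1 * (x * x) := by group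
              _ = 1 := by rw [SignalizerStrongEmb.involution_mul_self a.1.2.2, h2, one_mul])
            (fun e => a.2 (Subtype.ext (show a.1.1 = x by
              rw [mul_eq_one_iff_eq_inv.1 e]; exact inv_eq_of_mul_eq_one_left h2)))⟩
        left_inv := fun _ => rfl
        right_inv := fun _ => rfl }
    rw [pairs, e, ← H.card_invol_cen]
    have := Fintype.ofFinite S
    rw [Nat.card_eq_fintype_card, Fintype.card_subtype_compl, Fintype.card_subtype_eq,
      show Nat.card {x : G // x ∈ cen t ∧ orderOf x = 2} = Fintype.card S from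
        Nat.card_eq_fintype_card]
    have : 0 < Fintype.card S := Fintype.card_pos_iff.2 ⟨⟨x, hx, hxo⟩⟩
    omega
  · intro h2
    rw [pairs, Nat.card_eq_zero]
    exact Or.inl ⟨fun a => h2 (key a.1 a.2.1 a.2.2).2⟩

theorem card_two : ((Finset.univ.filter fun u : G => orderOf u = 2).card : ℂ) =
    (Nat.card G : ℂ) / Nat.card (cen t) := by
  classical
  have h1 : (Finset.univ.filter fun u : G => orderOf u = 2).card =
      Nat.card {x : G // IsConj t x} := by
    rw [Nat.card_eq_fintype_card]
    refine (Fintype.card_of_subtype _ fun x => ?_).symm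
    simp only [Finset.mem_filter, Finset.mem_univ, true_and]
    refine ⟨fun h => H.conjI H.ot h, fun h => ?_⟩
    obtain ⟨c, rfl⟩ := isConj_iff.1 h
    rw [SignalizerStrongEmb.orderOf_conj]
    exact H.ot
  have h2 := card_conj_mul_card_centralizer t
  rw [h1, eq_div_iff card_ne_zero, ← h2]
  push_cast
  rfl

theorem inner_irr_pairs (χ : IrrCharacter G) :
    classInner (χ : G → ℂ) (fun g : G => (pairs g : ℂ)) =
      (Nat.card G : ℂ) / (Nat.card (cen t) : ℂ) ^ 2 * ((χ : G → ℂ) t ^ 2 / (χ : G → ℂ) 1) := by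
  classical
  have hG : (Nat.card G : ℂ) ≠ 0 := Nat.cast_ne_zero.2 Nat.card_pos.ne'
  have key : ∑ g : G, (χ : G → ℂ) g * (pairs g : ℂ) =
      ((Finset.univ.filter fun u : G => orderOf u = 2).card * (χ : G → ℂ) t) ^ 2 /
        (χ : G → ℂ) 1 := by
    rw [← FourExceptional.sum_involution_pairs (fun u v hu hv => H.conjI hu hv) H.ot χ]
    have e : ∀ u ∈ Finset.univ.filter (fun u : G => orderOf u = 2),
        ∑ w ∈ Finset.univ.filter (fun u : G => orderOf u = 2), (χ : G → ℂ) (u * w) =
          ∑ g : G, if orderOf (u * g) = 2 then (χ : G → ℂ) g else 0 := by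
      intro u hu
      have huu : u * u = 1 := SignalizerStrongEmb.involution_mul_self (Finset.mem_filter.1 hu).2
      rw [Finset.sum_filter]
      refine Fintype.sum_equiv (Equiv.mulLeft u) _ _ fun w => ?_
      simp only [Equiv.coe_mulLeft, ← mul_assoc, huu, one_mul]
    rw [Finset.sum_congr rfl e, Finset.sum_comm]
    refine Finset.sum_congr rfl fun g _ => ?_
    rw [← Finset.sum_filter, Finset.sum_const, nsmul_eq_mul, mul_comm]
    congr 2
    rw [pairs, Nat.card_eq_fintype_card]
    exact Fintype.card_of_subtype _ fun a => by simp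
  simp only [classInner, Complex.conj_natCast]
  rw [key, card_two H]
  field_simp [card_ne_zero (t := t)]

theorem inner_si_pairs {φ : G → ℂ} (hφ : SignedIrr φ) :
    classInner φ (fun g : G => (pairs g : ℂ)) =
      (Nat.card G : ℂ) / (Nat.card (cen t) : ℂ) ^ 2 * (φ t ^ 2 / φ 1) := by
  rcases hφ with h | h
  · exact inner_irr_pairs H ⟨φ, h⟩
  · have := inner_irr_pairs H ⟨-φ, h⟩
    simp only [classInner_neg_left, Pi.neg_apply, neg_sq, div_neg, mul_neg] at this
    exact neg_injective this

theorem inner_ind_pairs {b a : cen t →* ℂˣ} (hb : TrivE b) (ha : ¬ TrivE a) :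
    classInner (indFun (cen t) (lin b - lin a)) (fun g : G => (pairs g : ℂ)) =
      ((Cfg.kk t : ℂ) - 1) * ((Cfg.kk t : ℂ) + 1) / Nat.card (cen t) := by
  classical
  rw [CharInduced.inner_ind_left _ _ isClassFunction_pairs']
  set F : G → ℂ := fun z => extendByZero (cen t) (lin b) z - extendByZero (cen t) (lin a) z
  have e : ∀ x : cen t, (lin b - lin a) x * conj (pairs (x : G) : ℂ) =
      ((Cfg.kk t : ℂ) - 1) * if orderOf (x : G) = 2 then F x else 0 := by
    intro x
    rw [Complex.conj_natCast]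
    by_cases hx : x = 1
    · simp [hx, lin]
    have hx1 : (x : G) ≠ 1 := fun e => hx (Subtype.ext e)
    obtain ⟨h1, h2⟩ := pairs_cen H x.2 hx1
    by_cases hx2 : (x : G) * x = 1
    · rw [if_pos (SignalizerStrongEmb.orderOf_eq_two_of_mul_self hx2 hx1), ← h1 hx2]
      simp [F, CharInduced.ext_zero_coe, mul_comm]
    · rw [h2 hx2, if_neg fun h => hx2 (SignalizerStrongEmb.involution_mul_self h)]
      simp
  simp only [classInner]
  rw [Finset.sum_congr rfl fun x _ => e x, ← Finset.mul_sum, ← Finset.sum_filter]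
  have e2 : ∑ x ∈ Finset.univ.filter (fun x : cen t => orderOf (x : G) = 2), F x =
      ∑ z ∈ Finset.univ.filter (fun z : G => z ∈ cen t ∧ orderOf z = 2), F z := by
    refine Finset.sum_bij (fun x _ => (x : G)) ?_ (fun x _ x' _ e => Subtype.ext e) ?_
      (fun _ _ => rfl)
    · intro x hx
      exact Finset.mem_filter.2 ⟨Finset.mem_univ _, x.2, (Finset.mem_filter.1 hx).2⟩
    · intro z hz
      obtain ⟨-, hzM, hzo⟩ := Finset.mem_filter.1 hz
      exact ⟨⟨z, hzM⟩, Finset.mem_filter.2 ⟨Finset.mem_univ _, hzo⟩, rfl⟩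
  rw [e2]
  simp only [F, Finset.sum_sub_distrib, (sum_invol H b).1 hb, (sum_invol H a).2 ha]
  field_simp [card_ne_zero (t := t)]
  ring

theorem ind_gen (b a : cen t →* ℂˣ) :
    IsGeneralizedCharacter G (indFun (cen t) (lin b - lin a)) :=
  CharInduced.isGenChar_ind _ (isGeneralizedCharacter_sub
    (isGeneralizedCharacter_of_isCharacter (isCharacter_linear b))
    (isGeneralizedCharacter_of_isCharacter (isCharacter_linear a)))

omit H in
theorem ind_one (b a : cen t →* ℂˣ) : indFun (cen t) (lin b - lin a) (1 : G) = 0 := by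
  rw [CharInduced.ind_one_apply]
  simp [lin]

/-- Characters in different orbits. -/
def Off (b a : cen t →* ℂˣ) : Prop :=
  ∀ (n : G) (hn : n ∈ Subgroup.normalizer (cen t : Set G)), act n hn a ≠ b

theorem off_symm {b a : cen t →* ℂˣ} (h : Off b a) : Off a b := by
  intro n hn e
  refine h n⁻¹ (inv_mem hn) (MonoidHom.ext fun x => ?_)
  rw [← e]
  refine congrArg b (Subtype.ext ?_)
  simp [cj, mul_assoc]

theorem norm_two {b a : cen t →* ℂˣ} (hb : b ≠ 1) (ha : a ≠ 1) (h : Off b a) :
    classInner (indFun (cen t) (lin b - lin a)) (indFun (cen t) (lin b - lin a)) = 2 := by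
  rw [inner_ind_lin H, kf_self H hb, kf_self H ha, kf_zero H h, kf_zero H (off_symm H h)]
  norm_num

theorem inner_common {b d a : cen t →* ℂˣ} (ha : a ≠ 1) (h1 : Off b d) (h2 : Off b a)
    (h3 : Off a d) :
    classInner (indFun (cen t) (lin b - lin a)) (indFun (cen t) (lin d - lin a)) = 1 := by
  rw [inner_ind_lin H, kf_zero H h1, kf_zero H h2, kf_zero H h3, kf_self H ha]
  norm_num

/-- The coefficient of one signed irreducible in the induced differences is constant. -/
theorem coherent {lam a μ : cen t →* ℂˣ} (hlam : lam ≠ 1) (hla : TrivE lam) (haE : ¬ TrivE a)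
    (hμE : ¬ TrivE μ) (hoff : Off μ a) :
    ∃ φ₁ φ₂ : G → ℂ, SignedIrr φ₁ ∧ SignedIrr φ₂ ∧ classInner φ₁ φ₂ = 0 ∧
      indFun (cen t) (lin lam - lin a) = φ₁ + φ₂ ∧
      ∀ ν : cen t →* ℂˣ, ¬ TrivE ν →
        classInner φ₁ (indFun (cen t) (lin ν - lin a)) = 0 := by
  classical
  have ha : a ≠ 1 := fun e => haE (e ▸ fun x _ => rfl)
  have hμ : μ ≠ 1 := fun e => hμE (e ▸ fun x _ => rfl)
  have offl : ∀ ν : cen t →* ℂˣ, ¬ TrivE ν → Off lam ν := fun ν hν n hn e =>
    hν (trivE_of_act n hn (e ▸ hla))
  set f := indFun (cen t) (lin lam - lin a) with hf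
  set g := indFun (cen t) (lin μ - lin a) with hg
  obtain ⟨p, q, hp, hq, hpq, hfe⟩ :=
    si_sum_of_norm_two (ind_gen H lam a) (norm_two H hlam ha (offl a haE))
  have hgf : classInner f g = 1 := inner_common H ha (offl μ hμE) (offl a haE) (off_symm H hoff)
  have hgg : classInner g g = 2 := norm_two H hμ ha hoff
  rw [← hf] at hfe
  obtain ⟨x, hx⟩ := classInner_isGeneralizedCharacter (si_gen hp) (ind_gen H μ a)
  obtain ⟨y, hy⟩ := classInner_isGeneralizedCharacter (si_gen hq) (ind_gen H μ a)
  rw [← hg] at hx hy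
  have hxy : x + y = 1 := by
    rw [hfe, classInner_add_left, hx, hy] at hgf
    exact_mod_cast hgf
  have hqp : classInner q p = 0 := by rw [← conj_classInner, hpq, map_zero]
  have hgx : classInner g p = x := by rw [← conj_classInner, hx, map_intCast]
  have hgy : classInner g q = y := by rw [← conj_classInner, hy, map_intCast]
  have hb : x * x + y * y ≤ 2 := by
    have h0 := classInner_self_nonneg (g - (x : ℂ) • p - (y : ℂ) • q)
    simp only [classInner_sub_left, classInner_sub_right, classInner_smul_left,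
      classInner_smul_right, hx, hy, hgx, hgy, hgg, si_self hp, si_self hq, hpq, hqp,
      map_intCast] at h0
    have e : ((2 : ℂ) - x * x - y * y).re = ((2 - x * x - y * y : ℤ) : ℝ) := by
      rw [← Complex.intCast_re]; push_cast; ring_nf
    have h1 : (0 : ℝ) ≤ ((2 - x * x - y * y : ℤ) : ℝ) := by
      rw [← e]; convert h0 using 2; ring
    have h2 : (0 : ℤ) ≤ 2 - x * x - y * y := by exact_mod_cast h1
    omega
  -- label so that `φ₁` is orthogonal to `g`
  obtain ⟨φ₁, φ₂, h1, h2, h12, hfe', hg1, hg2⟩ : ∃ φ₁ φ₂ : G → ℂ, SignedIrr φ₁ ∧ SignedIrr φ₂ ∧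
      classInner φ₁ φ₂ = 0 ∧ f = φ₁ + φ₂ ∧ classInner φ₁ g = 0 ∧ classInner φ₂ g = 1 := by
    have : x = 0 ∧ y = 1 ∨ x = 1 ∧ y = 0 := by
      have hy' : y = 1 - x := by omega
      subst hy'
      have : x ≤ 1 := by nlinarith
      have : 0 ≤ x := by nlinarith
      omega
    rcases this with ⟨rfl, rfl⟩ | ⟨rfl, rfl⟩
    · exact ⟨p, q, hp, hq, hpq, hfe, by simpa using hx, by simpa using hy⟩
    · exact ⟨q, p, hq, hp, hqp, hfe.trans (add_comm _ _), by simpa using hy, by simpa using hx⟩
  refine ⟨φ₁, φ₂, h1, h2, h12, hfe', fun ν hνE => ?_⟩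
  have hν : ν ≠ 1 := fun e => hνE (e ▸ fun x _ => rfl)
  by_cases hνa : Off ν a
  swap
  · simp only [Off, not_forall, not_not] at hνa
    obtain ⟨n, hn, e⟩ := hνa
    rw [← e, CharInduced.ind_sub, ind_act, sub_self, classInner]
    simp
  by_cases hνμ : Off μ ν
  swap
  · simp only [Off, not_forall, not_not] at hνμ
    obtain ⟨n, hn, e⟩ := hνμ
    rw [hg, ← e, CharInduced.ind_sub, ind_act, ← CharInduced.ind_sub] at hg1
    exact hg1
  set h := indFun (cen t) (lin ν - lin a) with hh
  have hfh : classInner f h = 1 := inner_common H ha (offl ν hνE) (offl a haE) (off_symm H hνa)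
  have hgh : classInner g h = 1 := inner_common H ha hνμ hoff (off_symm H hνa)
  have hhh : classInner h h = 2 := norm_two H hν ha hνa
  obtain ⟨z, hz⟩ := classInner_isGeneralizedCharacter (si_gen h1) (ind_gen H ν a)
  obtain ⟨w, hw⟩ := classInner_isGeneralizedCharacter (si_gen h2) (ind_gen H ν a)
  rw [← hh] at hz hw
  have h21 : classInner φ₂ φ₁ = 0 := by rw [← conj_classInner, h12, map_zero]
  have hzw : z + w = 1 := by
    rw [hfe', classInner_add_left, hz, hw] at hfh
    exact_mod_cast hfh
  set ψ := g - φ₂ with hψ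
  have hg1' : classInner g φ₁ = 0 := by rw [← conj_classInner, hg1, map_zero]
  have hg2' : classInner g φ₂ = 1 := by rw [← conj_classInner, hg2, map_one]
  have hψψ : classInner ψ ψ = 1 := by
    simp only [hψ, classInner_sub_left, classInner_sub_right, hgg, hg2, hg2', si_self h2]
    norm_num
  have hψ1 : classInner ψ φ₁ = 0 := by
    simp only [hψ, classInner_sub_left, hg1', h21, sub_zero]
  have hψ2 : classInner ψ φ₂ = 0 := by
    simp only [hψ, classInner_sub_left, hg2', si_self h2, sub_self]
  have hψh : classInner ψ h = ((1 - w : ℤ) : ℂ) := by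
    simp only [hψ, classInner_sub_left, hgh, hw]
    push_cast; ring
  have h1ψ : classInner φ₁ ψ = 0 := by rw [← conj_classInner, hψ1, map_zero]
  have h2ψ : classInner φ₂ ψ = 0 := by rw [← conj_classInner, hψ2, map_zero]
  have hh1 : classInner h φ₁ = z := by rw [← conj_classInner, hz, map_intCast]
  have hh2 : classInner h φ₂ = w := by rw [← conj_classInner, hw, map_intCast]
  have hhψ : classInner h ψ = ((1 - w : ℤ) : ℂ) := by rw [← conj_classInner, hψh, map_intCast]
  have hnorm : classInner (h - (z : ℂ) • φ₁ - (w : ℂ) • φ₂ - ((1 - w : ℤ) : ℂ) • ψ)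
      (h - (z : ℂ) • φ₁ - (w : ℂ) • φ₂ - ((1 - w : ℤ) : ℂ) • ψ) =
      ((2 - z * z - w * w - (1 - w) * (1 - w) : ℤ) : ℂ) := by
    simp only [classInner_sub_left, classInner_sub_right, classInner_smul_left,
      classInner_smul_right, hhh, hh1, hh2, hhψ, hz, hw, hψh, si_self h1, si_self h2, hψψ, h12,
      h21, h1ψ, h2ψ, hψ1, hψ2, map_intCast]
    push_cast; ring
  have hn0 : (0 : ℤ) ≤ 2 - z * z - w * w - (1 - w) * (1 - w) := by
    have h0 := classInner_self_nonneg (h - (z : ℂ) • φ₁ - (w : ℂ) • φ₂ - ((1 - w : ℤ) : ℂ) • ψ)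
    rw [hnorm, Complex.intCast_re] at h0
    exact_mod_cast h0
  have hz01 : z = 0 ∨ z = 1 ∧ w = 0 := by
    have hw' : w = 1 - z := by omega
    subst hw'
    have : z ≤ 1 := by nlinarith
    have : 0 ≤ z := by nlinarith
    omega
  rcases hz01 with rfl | ⟨rfl, rfl⟩
  · simpa using hz
  · exfalso
    have e0 := eq_zero_of_classInner_self (hnorm.trans (by norm_num))
    have hh' : h = φ₁ + ψ := by
      rw [← sub_eq_zero, ← e0]
      simp [sub_add_eq_sub_sub]
    have c1 := ind_one ν a
    have c2 := ind_one μ a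
    have c3 := ind_one lam a
    rw [← hh, hh', Pi.add_apply, hψ, Pi.sub_apply] at c1
    rw [← hg] at c2
    rw [← hf, hfe', Pi.add_apply] at c3
    rw [c2] at c1
    exact si_apply_one_ne_zero h1 (by linear_combination (c1 + c3) / 2)

/-- Fourier expansion on the centraliser at the identity and at the involution. -/
theorem expansion [Fintype (cen t →* ℂˣ)] (r : cen t → ℂ) (x : cen t) :
    ∑ a : cen t →* ℂˣ, classInner r (lin a) * lin a x = r x := by
  classical
  have hall : ∀ y : cen t, ∑ a : cen t →* ℂˣ, lin a y =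
      if y = 1 then (Nat.card (cen t) : ℂ) else 0 := by
    intro y
    split_ifs with h
    · subst h
      simp only [lin, map_one, Units.val_one, Finset.sum_const, Finset.card_univ, nsmul_one]
      rw [← Nat.card_eq_fintype_card, CharBasicLinear.card_hom_units]
      have : IsMulCommutative (cen t) := ⟨⟨comm_sub H⟩⟩
      rw [(commutator_eq_bot_iff_center_eq_top (cen t)).2 (Subgroup.eq_top_iff' _ |>.2 fun x =>
        Subgroup.mem_center_iff.2 fun y => comm_sub H y x), Subgroup.index_bot]
    · obtain ⟨b, hb⟩ := exists_ne_one H h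
      have e : ∑ a : cen t →* ℂˣ, lin (b * a) y = ∑ a : cen t →* ℂˣ, lin a y :=
        Fintype.sum_equiv (Equiv.mulLeft b) _ _ fun a => rfl
      simp only [lin, MonoidHom.mul_apply, Units.val_mul, ← Finset.mul_sum] at e
      by_contra hne
      simp only [lin] at hne
      exact hb (Units.ext (by simpa using (mul_eq_right₀ hne).1 e))
  simp only [classInner, Finset.sum_mul, Finset.mul_sum]
  rw [Finset.sum_comm]
  have : ∀ y : cen t, ∑ a : cen t →* ℂˣ,
      (Nat.card (cen t) : ℂ)⁻¹ * (r y * conj (lin a y)) * lin a x =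
      (Nat.card (cen t) : ℂ)⁻¹ * r y * if y⁻¹ * x = 1 then (Nat.card (cen t) : ℂ) else 0 := by
    intro y
    rw [← hall, Finset.mul_sum]
    refine Finset.sum_congr rfl fun a _ => ?_
    rw [conj_lin, show lin a (y⁻¹ * x) = lin a y⁻¹ * lin a x by simp [lin, map_mul]]
    ring
  simp only [this, mul_ite, mul_zero, inv_mul_eq_one, Finset.sum_ite_eq', Finset.mem_univ, if_true]
  field_simp [card_ne_zero (t := t)]

end

end Cfsg.Agent.CAGroupChars22
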