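import Mathlib
import Cfsg.Agent.Lib.CAGroupChars22
import Cfsg.Agent.Lib.BSWCount84

/-!
In a simple group in which commuting is transitive, the centraliser of an involution has exponent
two.
-/

set_option autoImplicit false
set_option linter.unusedSectionVars false

namespace Cfsg.Agent.CAGroupElementary22

open Cfsg Cfsg.Agent.CharBasic Cfsg.Agent.CharBasicOrth Cfsg.Agent.CharBasicDecomp
open Cfsg.Agent.CoherenceBasic
open Cfsg.Agent.CAGroupStructure22 Cfsg.Agent.CAGroupChars22 Cfsg.Agent.BSW84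
open scoped ComplexConjugate

/-- The arithmetical part. -/
theorem arith {k P j r : ℕ} {M : ℕ} {d F u c : ℤ} (hk : 3 ≤ k) (hr : k + 1 = 2 ^ r)
    (hM : M = (k + 1) * P) (hkP : k ∣ M - 1) (hj : 1 ≤ j) (hF0 : F ≠ 0)
    (h1 : d * (k * (1 + j * M) : ℤ) = F * ((k : ℤ) - 1)) (h2 : F - u = c * M)
    (h3 : 2 * u = (k : ℤ) + 1 + d) (h4 : 2 * F * F ≤ (M : ℤ) * (k * (1 + j * M))) : P = 1 := by
  by_contra hP1
  have hP : P ≠ 0 := by
    rintro rfl
    rw [mul_zero] at hM; subst hM
    have : 0 < F * F := mul_self_pos.2 hF0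
    push_cast at h4
    linarith
  obtain ⟨i, hi⟩ : k ∣ P - 1 := by
    obtain ⟨e, he⟩ := hkP
    have : M - 1 = k * P + (P - 1) := by rw [hM, Nat.succ_mul]; omega
    exact (Nat.dvd_add_right (dvd_mul_right k P)).1 ⟨e, this ▸ he⟩
  have hi1 : 1 ≤ i := by
    by_contra h
    have : i = 0 := by omega
    subst this; omega
  have hPn : P = 1 + k * i := by omega
  have hPi : (P : ℤ) = 1 + k * i := by exact_mod_cast hPn
  have hMz : (M : ℤ) = ((k : ℤ) + 1) * P := by exact_mod_cast hM
  have hkz : (3 : ℤ) ≤ k := by exact_mod_cast hk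
  have hjz : (1 : ℤ) ≤ j := by exact_mod_cast hj
  have hPk : (k : ℤ) + 1 ≤ P := by
    have : (k : ℤ) * 1 ≤ k * i := mul_le_mul_of_nonneg_left (by exact_mod_cast hi1) (by positivity)
    linarith
  have hMpos : (0 : ℤ) < M := by rw [hMz]; exact mul_pos (by linarith) (by linarith)
  have hmpos : (0 : ℤ) < 1 + j * M := by positivity
  -- divisibility
  have hdvd : (P : ℤ) ∣ d - ((k : ℤ) - 1) := by
    refine ⟨2 * c * ((k : ℤ) - 1) - 2 * d * k * j, ?_⟩
    have key : ((k : ℤ) + 1) * (d - ((k : ℤ) - 1)) =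
        (2 * c * ((k : ℤ) - 1) - 2 * d * k * j) * M := by
      linear_combination 2 * h1 + 2 * ((k : ℤ) - 1) * h2 + ((k : ℤ) - 1) * h3
    refine mul_left_cancel₀ (show ((k : ℤ) + 1) ≠ 0 by linarith) ?_
    rw [key, hMz]; ring
  have hd0 : d ≠ 0 := by
    rintro rfl
    rw [zero_mul, eq_comm, mul_eq_zero] at h1
    rcases h1 with h | h
    · exact hF0 h
    · linarith
  have hdd : 0 < d * d := mul_self_pos.2 hd0
  -- the bound
  have hb : 2 * (d * d) * (k * j) < ((k : ℤ) - 1) * ((k : ℤ) - 1) := by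
    have e : (2 * (d * d) * (k * (1 + j * M))) * (k * (1 + j * M)) ≤
        (((k : ℤ) - 1) * ((k : ℤ) - 1) * M) * (k * (1 + j * M)) := by
      have h5 := mul_le_mul_of_nonneg_right h4 (mul_self_nonneg ((k : ℤ) - 1))
      have e1 : (2 * (d * d) * (k * (1 + j * M))) * (k * (1 + j * M)) =
          2 * F * F * (((k : ℤ) - 1) * ((k : ℤ) - 1)) := by
        linear_combination (2 * (d * (k * (1 + j * M))) + 2 * (F * ((k : ℤ) - 1))) * h1
      linarith
    have hkpos : (0 : ℤ) < k * (1 + j * M) := mul_pos (by linarith) hmpos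
    have e' := le_of_mul_le_mul_right e hkpos
    have hA : (0 : ℤ) < 2 * (d * d) * k := mul_pos (by linarith) (by linarith)
    have hlt : 2 * (d * d) * k * (j * M) < 2 * (d * d) * k * (1 + j * M) :=
      mul_lt_mul_of_pos_left (by linarith) hA
    have : 2 * (d * d) * (k * j) * M < ((k : ℤ) - 1) * ((k : ℤ) - 1) * M := by linarith
    exact lt_of_mul_lt_mul_right this hMpos.le
  have hkk : ((k : ℤ) - 1) * ((k : ℤ) - 1) < k * k := by linarith
  have hd2 : 2 * (d * d) < k := by
    have h6 : 2 * (d * d) * (k * 1) ≤ 2 * (d * d) * (k * j) :=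
      mul_le_mul_of_nonneg_left (mul_le_mul_of_nonneg_left hjz (by positivity)) (by linarith)
    exact lt_of_mul_lt_mul_right (a := (k : ℤ)) (by linarith) (by positivity)
  have hdk1 : d < (k : ℤ) - 1 := by linarith [sq_nonneg (d - 1)]
  have hdk2 : -((k : ℤ) - 1) < d := by linarith [sq_nonneg (d + 1)]
  obtain ⟨e, he⟩ := hdvd
  have he1 : e = -1 := by
    have hneg : e < 0 := by
      by_contra hh
      have : (0 : ℤ) ≤ P * e := mul_nonneg (by positivity) (by omega)
      linarith
    by_contra hne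
    have : (P : ℤ) * e ≤ P * (-2) := mul_le_mul_of_nonneg_left (by omega) (by positivity)
    linarith
  subst he1
  have hi2 : i = 1 := by
    by_contra hne
    have h2i : (2 : ℤ) ≤ i := by exact_mod_cast (show 2 ≤ i by omega)
    have : (k : ℤ) * 2 ≤ k * i := mul_le_mul_of_nonneg_left h2i (by positivity)
    linarith
  subst hi2
  have hd : d = -2 := by push_cast at hPi; linarith
  subst hd
  have hPq : (P : ℤ) = k + 1 := by push_cast at hPi; linarith
  rw [hPq] at hMz
  -- the last congruence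
  have hdv : ((k : ℤ) - 1) ∣ 2 + 8 * j := by
    refine ⟨-2 * j * ((k : ℤ) + 3) - F - 2 * (1 + j * M), ?_⟩
    rw [hMz] at h1 ⊢
    linear_combination -h1
  have h8j : 8 * (j : ℤ) < k := lt_of_mul_lt_mul_right (a := (k : ℤ)) (by linarith) (by positivity)
  obtain ⟨f, hf⟩ := hdv
  have hf1 : 1 ≤ f := by
    by_contra hh
    have : ((k : ℤ) - 1) * f ≤ ((k : ℤ) - 1) * 0 :=
      mul_le_mul_of_nonneg_left (by omega) (by linarith)
    linarith
  have hf2 : f ≤ 1 := by
    by_contra hh
    have : ((k : ℤ) - 1) * 2 ≤ ((k : ℤ) - 1) * f :=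
      mul_le_mul_of_nonneg_left (by omega) (by linarith)
    linarith
  obtain rfl : f = 1 := by omega
  have hk8 : k = 8 * j + 3 := by omega
  have hr3 : 3 ≤ r := by
    by_contra h
    have : 2 ^ r ≤ 2 ^ 2 := Nat.pow_le_pow_right (by norm_num) (by omega)
    omega
  have : 8 ∣ 2 ^ r := (pow_dvd_pow 2 hr3 : 2 ^ 3 ∣ 2 ^ r)
  omega

universe u

variable {G : Type u} [Group G] [Fintype G] {t : G}

theorem index_eq (H : Cfg t) : ∃ j : ℕ, 1 ≤ j ∧
    Nat.card G = Nat.card (cen t) * (Cfg.kk t * (1 + j * Nat.card (cen t))) := by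
  obtain ⟨j, hj⟩ := H.card_dvd_points
  have hN : 2 ≤ (Subgroup.normalizer (cen t : Set G)).index := by
    have h0 : (Subgroup.normalizer (cen t : Set G)).index ≠ 0 := Subgroup.index_ne_zero_of_finite
    have h1 : (Subgroup.normalizer (cen t : Set G)).index ≠ 1 := fun e =>
      H.normalizer_ne_top (Subgroup.index_eq_one.1 e)
    omega
  refine ⟨j, ?_, ?_⟩
  · by_contra h
    have : j = 0 := by omega
    subst this; omega
  · rw [← (cen t).card_mul_index, ← Cfg.kk_mul_index]
    congr 2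
    rw [mul_comm j]; omega

/-- The centraliser of an involution has exponent two. -/
theorem exp_two (H : Cfg t) : ∀ x ∈ cen t, x * x = 1 := by
  classical
  have := Fintype.ofFinite (cen t)
  have hdual : Finite (cen t →* ℂˣ) := by
    refine Nat.finite_of_card_ne_zero ?_
    rw [CharBasicLinear.card_hom_units]
    exact Subgroup.index_ne_zero_of_finite
  have := Fintype.ofFinite (cen t →* ℂˣ)
  by_contra hne
  simp only [not_forall] at hne
  obtain ⟨y, hy, hy2⟩ := hne
  -- the two characters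
  let sq : cen t →* cen t :=
    { toFun := fun x => x * x
      map_one' := one_mul 1
      map_mul' := fun x z => by
        rw [mul_assoc, ← mul_assoc z, comm_sub H z x]; group }
  obtain ⟨b, hb⟩ := exists_ne_one H (x := sq ⟨y, hy⟩) fun e => hy2 (congrArg Subtype.val e)
  set lam := b.comp sq with hlamdef
  have hla : TrivE lam := fun x hx => by
    show b (x * x) = 1
    rw [hx, map_one]
  have hlam : lam ≠ 1 := fun e => hb (DFunLike.congr_fun e ⟨y, hy⟩)
  obtain ⟨a, ha⟩ := exists_ne_one H (x := (⟨t, H.t_mem⟩ : cen t))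
    fun e => H.t_ne (congrArg Subtype.val e)
  have htt : (⟨t, H.t_mem⟩ : cen t) * ⟨t, H.t_mem⟩ = 1 :=
    Subtype.ext (SignalizerStrongEmb.involution_mul_self H.ot)
  have haE : ¬ TrivE a := fun h => ha (h _ htt)
  have hμE : ¬ TrivE (lam * a) := fun h => ha (by
    have := h _ htt
    rwa [MonoidHom.mul_apply, hla _ htt, one_mul] at this)
  have hoff : Off (lam * a) a := by
    intro n hn e
    by_cases hnM : n ∈ cen t
    · rw [act_of_mem H hn hnM] at e
      exact hlam (MonoidHom.ext fun x => mul_eq_right.1 (DFunLike.congr_fun e.symm x))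
    · refine haE fun x hx => act_ne H hn hnM H.elemTwo (fun z hz => hz.1) (fun z hz => ?_)
        (fun z hz => ?_) x ⟨x.2, congrArg Subtype.val hx⟩
      · refine ⟨by simpa using Cfg.conj_mem (inv_mem hn) hz.1, ?_⟩
        calc n⁻¹ * z * n * (n⁻¹ * z * n) = n⁻¹ * (z * z) * n := by group
          _ = 1 := by rw [hz.2]; group
      · rw [e, MonoidHom.mul_apply, hla z (Subtype.ext hz.2), one_mul]
  obtain ⟨φ₁, φ₂, h1, h2, h12, hfe, hcoh⟩ := coherent H hlam hla haE hμE hoff
  set tt : cen t := ⟨t, H.t_mem⟩ with httdef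
  -- the coefficients
  set c : (cen t →* ℂˣ) → ℂ := fun ν => classInner (fun x : cen t => φ₁ x) (lin ν) with hc
  obtain ⟨cz, hcz⟩ := classInner_isGeneralizedCharacter
    (CharInduced.isGenChar_res (cen t) (si_gen h1))
    (isGeneralizedCharacter_of_isCharacter (isCharacter_linear a))
  have hconst : ∀ ν, ¬ TrivE ν → c ν = cz := by
    intro ν hν
    have h := hcoh ν hν
    rw [CharInduced.inner_ind_right _ _ (isClassFunction_of_isGeneralizedCharacter (si_gen h1)),
      classInner_sub_right, sub_eq_zero] at h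
    exact h.trans hcz
  have hFu : φ₁ 1 - φ₁ t = (cz : ℂ) * Nat.card (cen t) := by
    have e1 := expansion H (fun x : cen t => φ₁ x) 1
    have et := expansion H (fun x : cen t => φ₁ x) tt
    simp only [Subgroup.coe_one] at e1
    rw [← e1, ← show φ₁ (tt : G) = φ₁ t from rfl, ← et, ← Finset.sum_sub_distrib]
    have e : ∀ ν : cen t →* ℂˣ, c ν * lin ν 1 - c ν * lin ν tt = (cz : ℂ) * (1 - lin ν tt) := by
      intro ν
      by_cases hν : TrivE ν
      · simp [lin, hν _ htt]
      · rw [hconst ν hν]; simp [lin]; ring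
    rw [Finset.sum_congr rfl fun ν _ => e ν, ← Finset.mul_sum]
    congr 1
    have hsum := expansion H (fun x : cen t => if x = 1 then (Nat.card (cen t) : ℂ) else 0) tt
    have hci : ∀ ν : cen t →* ℂˣ,
        classInner (fun x : cen t => if x = 1 then (Nat.card (cen t) : ℂ) else 0) (lin ν) = 1 := by
      intro ν
      rw [classInner, Finset.sum_eq_single 1]
      · simp [lin, inv_mul_cancel₀ (card_ne_zero (t := t))]
      · intro x _ hx; simp [hx]
      · intro h; exact absurd (Finset.mem_univ _) h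
    simp only [hci, one_mul] at hsum
    rw [if_neg (fun e => H.t_ne (congrArg Subtype.val e))] at hsum
    rw [Finset.sum_sub_distrib, hsum, Finset.sum_const, Finset.card_univ, nsmul_one, sub_zero,
      ← Nat.card_eq_fintype_card, CharBasicLinear.card_hom_units]
    have : IsMulCommutative (cen t) := ⟨⟨comm_sub H⟩⟩
    rw [(commutator_eq_bot_iff_center_eq_top (cen t)).2 (Subgroup.eq_top_iff' _ |>.2 fun x =>
      Subgroup.mem_center_iff.2 fun y => comm_sub H y x), Subgroup.index_bot]
  -- degrees and values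
  obtain ⟨F, hF, hF0⟩ : ∃ F : ℤ, φ₁ 1 = F ∧ F ≠ 0 := by
    rcases h1 with h | h
    · obtain ⟨n, hn, e⟩ := isIrrCharacter_apply_one h
      exact ⟨n, by exact_mod_cast e, by exact_mod_cast hn.ne'⟩
    · obtain ⟨n, hn, e⟩ := isIrrCharacter_apply_one h
      refine ⟨-(n : ℤ), ?_, neg_ne_zero.2 (by exact_mod_cast hn.ne')⟩
      simp only [Pi.neg_apply] at e
      push_cast
      linear_combination -e
  have hF2 : φ₂ 1 = -(F : ℂ) := by
    have h := ind_one lam a
    rw [hfe, Pi.add_apply, hF] at h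
    linear_combination h
  obtain ⟨j, hj, hG⟩ := index_eq H
  set M := Nat.card (cen t) with hMdef
  set k := Cfg.kk t with hkdef
  have hk3 : 3 ≤ k := H.three_le_kk
  have hsum : φ₁ t + φ₂ t = (k : ℂ) + 1 := by
    have h := ind_at_t H hla haE
    rwa [hfe, Pi.add_apply] at h
  have hpairs : (Nat.card G : ℂ) / (M : ℂ) ^ 2 * (φ₁ t ^ 2 / φ₁ 1) +
      (Nat.card G : ℂ) / (M : ℂ) ^ 2 * (φ₂ t ^ 2 / φ₂ 1) =
      ((k : ℂ) - 1) * ((k : ℂ) + 1) / M := by
    rw [← inner_si_pairs H h1, ← inner_si_pairs H h2, ← classInner_add_left, ← hfe,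
      inner_ind_pairs H hla haE]
  have hM0 : (M : ℂ) ≠ 0 := card_ne_zero
  have hFc : (F : ℂ) ≠ 0 := by exact_mod_cast hF0
  have hk1 : (k : ℂ) + 1 ≠ 0 := by exact_mod_cast (show k + 1 ≠ 0 by omega)
  have hd : (φ₁ t - φ₂ t) * ((k : ℂ) * (1 + j * M)) = F * ((k : ℂ) - 1) := by
    rw [hG, hF, hF2] at hpairs
    push_cast at hpairs
    field_simp at hpairs
    refine mul_left_cancel₀ hk1 ?_
    rw [← hsum]
    rw [← hsum] at hpairs
    linear_combination hpairs
  have hkm : (k : ℂ) * (1 + j * M) ≠ 0 := by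
    exact_mod_cast (Nat.mul_ne_zero (show k ≠ 0 by omega) (show 1 + j * M ≠ 0 by omega))
  obtain ⟨uz, hu⟩ : ∃ z : ℤ, φ₁ t = z := by
    refine int_of_integral_rat (si_integral h1 t)
      (r := ((k : ℚ) + 1 + F * ((k : ℚ) - 1) / (k * (1 + j * M))) / 2) ?_
    push_cast
    rw [← hd, mul_div_cancel_right₀ _ hkm]
    linear_combination hsum / 2
  have hbound : 2 * F * F ≤ (M : ℤ) * (k * (1 + j * M)) := by
    have hco := column_le (G := G) Finset.univ (fun i : Fin 2 => if i = 0 then φ₁ else φ₂)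
      (fun i _ => by fin_cases i <;> simp [h1, h2]) (fun i _ i' _ hii => by
        fin_cases i <;> fin_cases i' <;> simp_all
        rw [← conj_classInner, h12, map_zero]) (1 : G)
    have hc1 : Nat.card (Subgroup.centralizer ({(1 : G)} : Set G)) = Nat.card G := by
      rw [show Subgroup.centralizer ({(1 : G)} : Set G) = ⊤ from (Subgroup.eq_top_iff' _).2
        fun g => Subgroup.mem_centralizer_singleton_iff.2 (by simp), Subgroup.card_top]
    rw [hc1, Fin.sum_univ_two] at hco
    simp only [if_true, if_neg (show ¬ (1 : Fin 2) = 0 by decide), hF, hF2, Complex.normSq_neg,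
      show (F : ℂ) = ((F : ℝ) : ℂ) by push_cast; rfl, Complex.normSq_ofReal, hG] at hco
    have hco' : ((2 * F * F : ℤ) : ℝ) ≤ (((M : ℤ) * (k * (1 + j * M)) : ℤ) : ℝ) := by
      push_cast at hco ⊢
      linarith
    exact_mod_cast hco'
  obtain ⟨r, hr⟩ := H.exists_two_pow
  obtain ⟨P, hP⟩ : k + 1 ∣ M := by
    rw [← H.card_elemTwo]
    exact Subgroup.card_dvd_of_le fun z hz => hz.1
  have hP1 : P = 1 := by
    refine arith (d := 2 * uz - (k + 1)) (F := F) (u := uz) (c := cz) hk3 hr hP
      H.kk_dvd_card_sub_one hj hF0 ?_ ?_ (by ring) hbound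
    · have : ((2 * uz - (k + 1) : ℤ) : ℂ) = φ₁ t - φ₂ t := by
        push_cast; linear_combination (-2) * hu + hsum
      rw [← this] at hd
      exact_mod_cast hd
    · rw [hF, hu] at hFu
      exact_mod_cast hFu
  subst hP1
  have : H.elemTwo = cen t := Subgroup.eq_of_le_of_card_ge (fun z hz => hz.1)
    (by rw [H.card_elemTwo, ← hMdef, hP, mul_one])
  exact hy2 (this.symm ▸ hy : y ∈ H.elemTwo).2

end Cfsg.Agent.CAGroupElementary22
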