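import Mathlib
import Cfsg.Agent.Lib.CAGroupElementary22

/-!
The action of a simple group in which commuting is transitive on the conjugates of the centraliser
of an involution: the degree is `q + 1` and two-point stabilisers are abelian of order `q - 1`.
-/

set_option autoImplicit false
set_option linter.unusedSectionVars false

namespace Cfsg.Agent.CAGroupGeometry22

open Cfsg.Agent.CAGroupStructure22

variable {G : Type*} [Group G] {t : G}

/-- The points. -/
abbrev Pts (t : G) : Type _ := G ⧸ Subgroup.normalizer (cen t : Set G)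

/-- The base point. -/
abbrev base (t : G) : Pts t := QuotientGroup.mk 1

theorem smul_base (g : G) : g • base t = QuotientGroup.mk g := by
  show (QuotientGroup.mk (g * 1) : Pts t) = _
  rw [mul_one]

theorem smul_base_eq {g : G} :
    g • base t = base t ↔ g ∈ Subgroup.normalizer (cen t : Set G) := by
  rw [smul_base, QuotientGroup.eq]
  simp

/-- The stabiliser of the base point and a second point. -/
def stab (t : G) (p : Pts t) : Subgroup G :=
  Subgroup.normalizer (cen t : Set G) ⊓ MulAction.stabilizer G p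

theorem mem_stab {p : Pts t} {g : G} :
    g ∈ stab t p ↔ g • base t = base t ∧ g • p = p := by
  rw [smul_base_eq]; rfl

section

variable [Finite G] (H : Cfg t)
include H

theorem sq_one {x : G} (hx : x ∈ cen t) : x * x = 1 := by
  have := Fintype.ofFinite G
  exact CAGroupElementary22.exp_two H x hx

theorem card_cen : Nat.card (cen t) = Cfg.kk t + 1 := by
  rw [← H.card_elemTwo]
  refine Nat.card_congr (Equiv.subtypeEquivRight fun x => ⟨fun h => ⟨h, sq_one H h⟩, fun h => h.1⟩)

theorem card_points : (Subgroup.normalizer (cen t : Set G)).index = Nat.card (Pts t) := rfl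

theorem conj_inv {v : G} (hv : orderOf v = 2) : v⁻¹ = v := SignalizerStrongEmb.involution_inv hv

theorem not_base {v : G} (hv : orderOf v = 2) {p : Pts t} (hp : p ≠ base t) (hvp : v • base t = p) :
    v ∉ Subgroup.normalizer (cen t : Set G) := fun h => hp (hvp.symm.trans (smul_base_eq.2 h))

theorem back {v : G} (hv : orderOf v = 2) {p : Pts t} (hvp : v • base t = p) : v • p = base t := by
  rw [← hvp, ← mul_smul, SignalizerStrongEmb.involution_mul_self hv, one_smul]

theorem prod_mem {v w : G} (hv : orderOf v = 2) (hw : orderOf w = 2) {p : Pts t}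
    (hvp : v • base t = p) (hwp : w • base t = p) : v * w ∈ stab t p := by
  rw [mem_stab, mul_smul, mul_smul, hwp, back H hv hvp, back H hw hwp, hvp]
  exact ⟨rfl, rfl⟩

theorem mem_cen_stab {p : Pts t} (hp : p ≠ base t) {x : G} (hx : x ∈ cen t) (hxs : x ∈ stab t p) :
    x = 1 := by
  by_contra h1
  exact hp (H.eq_base hx h1 (mem_stab.1 hxs).2)

theorem eq_of_prod {v w : G} (hv : orderOf v = 2) (hw : orderOf w = 2) {p : Pts t}
    (hp : p ≠ base t) (hvp : v • base t = p) (hwp : w • base t = p) (h : v * w ∈ cen t) : v = w := by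
  have h1 := mem_cen_stab H hp h (prod_mem H hv hw hvp hwp)
  rw [mul_eq_one_iff_eq_inv, conj_inv H hw] at h1
  exact h1

/-- The map to the quotient of the normaliser. -/
theorem card_fibre_le {p : Pts t} (hp : p ≠ base t) :
    Nat.card {v : G // orderOf v = 2 ∧ v • base t = p} ≤ Cfg.kk t := by
  classical
  rcases isEmpty_or_nonempty {v : G // orderOf v = 2 ∧ v • base t = p} with he | ⟨u, hu, hup⟩
  · rw [Nat.card_of_isEmpty]; exact Nat.zero_le _
  let f : {v : G // orderOf v = 2 ∧ v • base t = p} →
      Subgroup.normalizer (cen t : Set G) ⧸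
        (cen t).subgroupOf (Subgroup.normalizer (cen t : Set G)) := fun v =>
    QuotientGroup.mk ⟨u * v.1, (prod_mem H hu v.2.1 hup v.2.2).1⟩
  have hf : Function.Injective f := by
    intro v w e
    have e' := QuotientGroup.eq.1 e
    rw [Subgroup.mem_subgroupOf] at e'
    push_cast at e'
    rw [_root_.mul_inv_rev, conj_inv H v.2.1, conj_inv H hu, mul_assoc, ← mul_assoc u,
      SignalizerStrongEmb.involution_mul_self hu, one_mul] at e'
    exact Subtype.ext (eq_of_prod H v.2.1 w.2.1 hp v.2.2 w.2.2 e')
  exact Nat.card_le_card_of_injective f hf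

theorem card_involutions :
    Nat.card {v : G // orderOf v = 2} = Cfg.kk t * Nat.card (Pts t) := by
  have h1 : Nat.card {v : G // orderOf v = 2} = Nat.card {x : G // IsConj t x} := by
    refine Nat.card_congr (Equiv.subtypeEquivRight fun x => ⟨fun h => H.conjI H.ot h, fun h => ?_⟩)
    obtain ⟨c, rfl⟩ := isConj_iff.1 h
    rw [SignalizerStrongEmb.orderOf_conj]
    exact H.ot
  have := Fintype.ofFinite G
  have h2 := CharBasicOrth.card_conj_mul_card_centralizer t
  rw [h1]
  have h3 := (cen t).card_mul_index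
  rw [← Cfg.kk_mul_index] at h3
  exact Nat.eq_of_mul_eq_mul_right (Nat.card_pos (α := cen t))
    (h2.trans (h3.symm.trans (mul_comm _ _)))

theorem card_fibre {p : Pts t} (hp : p ≠ base t) :
    Nat.card {v : G // orderOf v = 2 ∧ v • base t = p} = Cfg.kk t := by
  classical
  have := Fintype.ofFinite G
  have := Fintype.ofFinite (Pts t)
  have hle : ∀ p : Pts t, Nat.card {v : G // orderOf v = 2 ∧ v • base t = p} ≤ Cfg.kk t := by
    intro p
    by_cases hp : p = base t
    · subst hp
      refine le_of_eq ?_
      rw [← H.card_invol_cen]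
      exact Nat.card_congr (Equiv.subtypeEquivRight fun v =>
        ⟨fun h => ⟨H.involution_mem (smul_base_eq.1 h.2) h.1, h.1⟩,
          fun h => ⟨h.2, smul_base_eq.2 (H.le_normal h.1)⟩⟩)
    · exact card_fibre_le H hp
  have hsum : ∑ p : Pts t, Nat.card {v : G // orderOf v = 2 ∧ v • base t = p} =
      ∑ _p : Pts t, Cfg.kk t := by
    rw [Finset.sum_const, Finset.card_univ, smul_eq_mul, ← Nat.card_eq_fintype_card, mul_comm,
      ← card_involutions H, ← Nat.card_sigma]
    exact Nat.card_congr
      { toFun := fun x => ⟨x.2.1, x.2.2.1⟩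
        invFun := fun v => ⟨v.1 • base t, v.1, v.2, rfl⟩
        left_inv := fun ⟨p, v, h1, h2⟩ => by subst h2; rfl
        right_inv := fun _ => rfl }
  exact (Finset.sum_eq_sum_iff_of_le fun p _ => hle p).1 hsum p (Finset.mem_univ _)

theorem exists_invol {p : Pts t} (hp : p ≠ base t) : ∃ u : G, orderOf u = 2 ∧ u • base t = p := by
  have h := card_fibre H hp
  have hk := H.three_le_kk
  obtain ⟨⟨u, hu⟩⟩ : Nonempty {v : G // orderOf v = 2 ∧ v • base t = p} := by
    by_contra hne
    rw [not_nonempty_iff] at hne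
    rw [Nat.card_of_isEmpty] at h
    omega
  exact ⟨u, hu⟩

/-- The quotient map from a two-point stabiliser. -/
theorem card_stab_le {p : Pts t} (hp : p ≠ base t) : Nat.card (stab t p) ≤ Cfg.kk t := by
  let f : stab t p → Subgroup.normalizer (cen t : Set G) ⧸
      (cen t).subgroupOf (Subgroup.normalizer (cen t : Set G)) := fun x =>
    QuotientGroup.mk ⟨x.1, x.2.1⟩
  have hf : Function.Injective f := by
    intro x y e
    have e' := QuotientGroup.eq.1 e
    rw [Subgroup.mem_subgroupOf] at e'
    push_cast at e'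
    exact Subtype.ext (inv_mul_eq_one.1
      (mem_cen_stab H hp e' (mul_mem (inv_mem x.2) y.2)))
  exact Nat.card_le_card_of_injective f hf

theorem card_stab {p : Pts t} (hp : p ≠ base t) : Nat.card (stab t p) = Cfg.kk t := by
  obtain ⟨u, hu, hup⟩ := exists_invol H hp
  refine le_antisymm (card_stab_le H hp) ?_
  rw [← card_fibre H hp]
  refine Nat.card_le_card_of_injective
    (fun v => (⟨u * v.1, prod_mem H hu v.2.1 hup v.2.2⟩ : stab t p)) fun v w e =>
      Subtype.ext (mul_left_cancel (congrArg Subtype.val e))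

theorem stab_inverted {p : Pts t} (hp : p ≠ base t) {u : G} (hu : orderOf u = 2)
    (hup : u • base t = p) {d : G} (hd : d ∈ stab t p) : u * d * u = d⁻¹ := by
  have hinj : Function.Injective
      (fun v : {v : G // orderOf v = 2 ∧ v • base t = p} =>
        (⟨u * v.1, prod_mem H hu v.2.1 hup v.2.2⟩ : stab t p)) := fun v w e =>
    Subtype.ext (mul_left_cancel (congrArg Subtype.val e))
  have hb := hinj.bijective_of_nat_card_le (by rw [card_stab H hp, card_fibre H hp])
  obtain ⟨⟨v, hv, hvp⟩, e⟩ := hb.2 ⟨d, hd⟩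
  have e' : u * v = d := congrArg Subtype.val e
  rw [← e', ← mul_assoc, SignalizerStrongEmb.involution_mul_self hu, one_mul, mul_inv_rev,
    conj_inv H hv, conj_inv H hu]

theorem stab_comm {p : Pts t} (hp : p ≠ base t) {a b : G} (ha : a ∈ stab t p)
    (hb : b ∈ stab t p) : a * b = b * a := by
  obtain ⟨u, hu, hup⟩ := exists_invol H hp
  have h := stab_inverted H hp hu hup (mul_mem ha hb)
  have e : u * (a * b) * u = u * a * u * (u * b * u) := by
    simp only [mul_assoc]
    rw [← mul_assoc u u, SignalizerStrongEmb.involution_mul_self hu, one_mul]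
  rw [e, stab_inverted H hp hu hup ha, stab_inverted H hp hu hup hb] at h
  rw [← inv_inj, ← h, mul_inv_rev]

theorem odd_stab {p : Pts t} (hp : p ≠ base t) : Odd (Nat.card (stab t p)) := by
  rw [card_stab H hp]; exact H.odd_kk

theorem sq_ne {p : Pts t} (hp : p ≠ base t) {d : G} (hd : d ∈ stab t p) (hd1 : d ≠ 1) :
    d * d ≠ 1 := by
  intro h
  have ho := SignalizerStrongEmb.orderOf_eq_two_of_mul_self h hd1
  have := Subgroup.orderOf_dvd_natCard _ hd
  rw [ho] at this
  exact Nat.not_even_iff_odd.2 (odd_stab H hp) (even_iff_two_dvd.2 this)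

/-- A nonidentity element of a two-point stabiliser fixes exactly two points. -/
theorem fix_two {p : Pts t} (hp : p ≠ base t) {d : G} (hd : d ∈ stab t p) (hd1 : d ≠ 1)
    {p' : Pts t} (hp' : p' ≠ base t) (hd' : d ∈ stab t p') : p' = p := by
  classical
  obtain ⟨u, hu, hup⟩ := exists_invol H hp
  have hu2 := SignalizerStrongEmb.involution_mul_self hu
  have hd2 := sq_ne H hp hd hd1
  set A := cen d with hA
  have hDA : stab t p ≤ A := fun x hx => mem_cen.2 (stab_comm H hp hx hd)
  have hdA : d ∈ A := mem_cen.2 (Commute.refl d)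
  have hud : u * d * u = d⁻¹ := stab_inverted H hp hu hup hd
  -- the centraliser has no involution
  have hno : ∀ z ∈ A, orderOf z = 2 → False := by
    intro z hz ho
    obtain ⟨g, hg⟩ := isConj_iff.1 (H.conjI ho H.ot)
    have hm : g * d * g⁻¹ ∈ cen t := hg ▸ conj_mem_cen_conj.2
      (mem_cen.2 (mem_cen.1 hz).symm)
    have := sq_one H hm
    have h2 : d * d = g⁻¹ * (g * d * g⁻¹ * (g * d * g⁻¹)) * g := by group
    rw [this] at h2
    exact hd2 (h2.trans (by group))
  -- every element of the centraliser is inverted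
  have hnorm : ∀ a ∈ A, u * a * u ∈ A := by
    intro a ha
    rw [hA, mem_cen] at ha ⊢
    have : u * a * u * (u * d * u) = u * d * u * (u * a * u) := by
      calc u * a * u * (u * d * u) = u * (a * (u * u) * d) * u := by group
        _ = u * (d * (u * u) * a) * u := by rw [hu2, mul_one, mul_one, ha.eq]
        _ = u * d * u * (u * a * u) := by group
    rw [hud] at this
    exact inv_inv d ▸ (show Commute (u * a * u) d⁻¹ from this).inv_right
  have hinv : ∀ a ∈ A, u * a * u = a⁻¹ := by
    let φ : A →* A :=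
      { toFun := fun a => ⟨u * a.1 * u, hnorm _ a.2⟩
        map_one' := Subtype.ext (by simp [hu2])
        map_mul' := fun a b => Subtype.ext (by
          show u * (a.1 * b.1) * u = u * a.1 * u * (u * b.1 * u)
          rw [show u * a.1 * u * (u * b.1 * u) = u * (a.1 * (u * u) * b.1) * u by group, hu2,
            mul_one]) }
    have hff : MonoidHom.FixedPointFree φ := by
      intro a ha
      have e : u * a.1 * u = a.1 := congrArg Subtype.val ha
      by_contra h1
      have h1' : (a : G) ≠ 1 := fun h => h1 (Subtype.ext h)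
      have hau : Commute u (a : G) := by
        show u * a.1 = a.1 * u
        nth_rw 2 [← e]
        rw [mul_assoc _ u u, hu2, mul_one]
      obtain ⟨g, hg⟩ := isConj_iff.1 (H.conjI hu H.ot)
      have ham : g * a.1 * g⁻¹ ∈ cen t := hg ▸ conj_mem_cen_conj.2 (mem_cen.2 hau.symm)
      have hdm : g * d * g⁻¹ ∈ cen t := by
        rw [← H.cenM ham (conj_ne_one h1'), conj_mem_cen_conj, mem_cen]
        exact (mem_cen.1 a.2).symm
      have hud' : Commute d u := by
        rw [← mem_cen, ← conj_mem_cen_conj (g := g), hg]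
        exact hdm
      exact hno u (mem_cen.2 hud'.symm) hu
    have hinv2 : Function.Involutive φ := fun a => Subtype.ext (by
      show u * (u * a.1 * u) * u = a.1
      rw [show u * (u * a.1 * u) * u = u * u * a.1 * (u * u) by group, hu2, one_mul, mul_one])
    intro a ha
    exact congrArg Subtype.val (congrFun (hff.coe_eq_inv_of_involutive hinv2) (⟨a, ha⟩ : A))
  have hAcomm : ∀ a ∈ A, ∀ b ∈ A, a * b = b * a := by
    intro a ha b hb
    have h := hinv _ (mul_mem ha hb)
    rw [show u * (a * b) * u = u * a * (u * u) * b * u by rw [hu2]; group,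
      show u * a * (u * u) * b * u = u * a * u * (u * b * u) by group, hinv a ha, hinv b hb,
      ← mul_inv_rev, inv_inj] at h
    exact h.symm
  -- involutions inverting `d`
  let Inv := {v : G // orderOf v = 2 ∧ v * d * v = d⁻¹}
  have hmoves : ∀ v : Inv, v.1 • base t ≠ base t := by
    intro v h
    have hvM : v.1 ∈ cen t := H.involution_mem (smul_base_eq.1 h) v.2.1
    have hm : v.1 * (d * v.1 * d⁻¹) ∈ cen t :=
      mul_mem hvM (Cfg.conj_mem hd.1 hvM)
    have hdd : v.1 * (d * v.1 * d⁻¹) = (d * d)⁻¹ := by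
      rw [← mul_assoc, ← mul_assoc, v.2.2, mul_inv_rev]
    rw [hdd] at hm
    exact hd2 (mem_cen_stab H hp (by simpa using inv_mem hm) (mul_mem hd hd))
  have hIA : Nat.card Inv = Nat.card A := Nat.card_congr
    { toFun := fun v => ⟨u * v.1, mem_cen.2 (by
        show u * v.1 * d = d * (u * v.1)
        calc u * v.1 * d = u * (v.1 * d * v.1) * v.1 := by
              rw [show u * (v.1 * d * v.1) * v.1 = u * v.1 * d * (v.1 * v.1) by group,
                SignalizerStrongEmb.involution_mul_self v.2.1, mul_one]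
          _ = u * (u * d * u) * v.1 := by rw [v.2.2, hud]
          _ = (u * u) * d * (u * v.1) := by group
          _ = d * (u * v.1) := by rw [hu2, one_mul])⟩
      invFun := fun a => ⟨u * a.1, SignalizerStrongEmb.orderOf_eq_two_of_mul_self
        (by rw [← mul_assoc, hinv _ a.2, inv_mul_cancel])
        (fun e => hno u (by
          rw [mul_eq_one_iff_eq_inv] at e
          rw [e]; exact inv_mem a.2) hu), by
        rw [show u * a.1 * d * (u * a.1) = u * (a.1 * d) * u * a.1 by group,
          hAcomm _ a.2 _ hdA,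
          show u * (d * a.1) * u * a.1 = u * d * (a.1 * (u * a.1)) by group]
        have : a.1 * (u * a.1) = u := by
          calc a.1 * (u * a.1) = a.1 * (u * a.1 * u) * u⁻¹ := by group
            _ = u := by rw [hinv _ a.2, mul_inv_cancel, one_mul, conj_inv H hu]
        rw [this, hud]⟩
      left_inv := fun v => Subtype.ext (by
        show u * (u * v.1) = v.1
        rw [← mul_assoc, hu2, one_mul])
      right_inv := fun a => Subtype.ext (by
        show u * (u * a.1) = a.1
        rw [← mul_assoc, hu2, one_mul]) }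
  -- fixed points
  let Fix := {x : Pts t // x ≠ base t ∧ d • x = x}
  have hto : ∀ v : Inv, d • (v.1 • base t) = v.1 • base t := by
    intro v
    have : d * v.1 = v.1 * d⁻¹ := by
      calc d * v.1 = v.1 * (v.1 * d * v.1) := by
            rw [← mul_assoc, ← mul_assoc, SignalizerStrongEmb.involution_mul_self v.2.1, one_mul]
        _ = v.1 * d⁻¹ := by rw [v.2.2]
    rw [← mul_smul, this, mul_smul]
    congr 1
    rw [inv_smul_eq_iff]
    exact (mem_stab.1 hd).1.symm
  have hIF : Nat.card Inv = Cfg.kk t * Nat.card Fix := by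
    have := Fintype.ofFinite Fix
    have e : Inv ≃ Σ x : Fix, {v : G // orderOf v = 2 ∧ v • base t = x.1} :=
      { toFun := fun v => ⟨⟨v.1 • base t, hmoves v, hto v⟩, v.1, v.2.1, rfl⟩
        invFun := fun x => ⟨x.2.1, x.2.2.1, stab_inverted H x.1.2.1 x.2.2.1 x.2.2.2
          (mem_stab.2 ⟨(mem_stab.1 hd).1, x.1.2.2⟩)⟩
        left_inv := fun _ => rfl
        right_inv := fun x => Sigma.subtype_ext (Subtype.ext x.2.2.2) rfl }
    rw [Nat.card_congr e, Nat.card_sigma, Finset.sum_congr rfl fun x _ => card_fibre H x.2.1,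
      Finset.sum_const, Finset.card_univ, smul_eq_mul, ← Nat.card_eq_fintype_card, mul_comm]
  -- orbits of the centraliser
  have hfixA : ∀ a ∈ A, ∀ x : Pts t, d • x = x → d • (a • x) = a • x := by
    intro a ha x hx
    rw [← mul_smul, ← hAcomm a ha d hdA, mul_smul, hx]
  have hAp : ∀ x : Fix, ∃ a ∈ A, a • p = x.1 := by
    intro x
    obtain ⟨v, hv, hvx⟩ := exists_invol H x.2.1
    have hvd : v * d * v = d⁻¹ := stab_inverted H x.2.1 hv hvx
      (mem_stab.2 ⟨(mem_stab.1 hd).1, x.2.2⟩)
    have ha : v * u ∈ A := mem_cen.2 (by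
      show v * u * d = d * (v * u)
      calc v * u * d = v * (u * d * u) * u⁻¹ := by group
        _ = v * d⁻¹ * u := by rw [hud, conj_inv H hu]
        _ = v * (v * d * v) * u := by rw [hvd]
        _ = (v * v) * d * (v * u) := by group
        _ = d * (v * u) := by rw [SignalizerStrongEmb.involution_mul_self hv, one_mul])
    exact ⟨v * u, ha, by rw [mul_smul, back H hu hup, hvx]⟩
  have hbase : ∀ a ∈ A, a • base t = base t := by
    intro a ha
    by_contra hne
    obtain ⟨b, hb, hbx⟩ := hAp ⟨a • base t, hne, hfixA a ha _ (mem_stab.1 hd).1⟩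
    -- an involution inverting `d` would fix the base point
    have hc : (a⁻¹ * b) ∈ A := mul_mem (inv_mem ha) hb
    have h0 : (a⁻¹ * b) • p = base t := by rw [mul_smul, hbx, inv_smul_smul]
    set c := a⁻¹ * b
    have hv2 : c * u * (c * u) = 1 := by
      rw [show c * u * (c * u) = c * (u * c * u) by group, hinv c hc, mul_inv_cancel]
    have hv1 : c * u ≠ 1 := fun e => hno u (by
      rw [mul_eq_one_iff_inv_eq] at e; rw [← e]; exact inv_mem hc) hu
    refine hmoves ⟨c * u, SignalizerStrongEmb.orderOf_eq_two_of_mul_self hv2 hv1, ?_⟩ ?_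
    · calc c * u * d * (c * u) = c * (u * (d * c) * u) := by group
        _ = c * (u * (c * d) * u) := by rw [hAcomm c hc d hdA]
        _ = c * (u * c * u * (u * d * u)) := by
          rw [show u * c * u * (u * d * u) = u * c * (u * u) * (d * u) by group, hu2]; group
        _ = d⁻¹ := by rw [hinv c hc, hud, mul_inv_cancel_left]
    · show (c * u) • base t = base t
      rw [mul_smul, hup, h0]
  have hAeq : A = stab t p := by
    refine le_antisymm (fun a ha => ?_) hDA
    have hn : a ∈ Subgroup.normalizer (cen t : Set G) := smul_base_eq.1 (hbase a ha)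
    refine mem_stab.2 ⟨hbase a ha, ?_⟩
    have := hbase _ (hnorm a ha)
    rw [mul_smul, mul_smul, hup] at this
    have h2 := congrArg (fun x => u • x) this
    simp only [← mul_smul u u, hu2, one_smul, hup] at h2
    exact h2
  have hfix1 : Nat.card Fix = 1 := by
    rw [hIA, hAeq, card_stab H hp] at hIF
    exact Nat.eq_of_mul_eq_mul_left (by have := H.three_le_kk; omega)
      (hIF.symm.trans (mul_one _).symm)
  have := (Nat.card_eq_one_iff_unique.1 hfix1).1
  exact congrArg Subtype.val (Subsingleton.elim
    (⟨p', hp', (mem_stab.1 hd').2⟩ : Fix) ⟨p, hp, (mem_stab.1 hd).2⟩)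

/-- The degree. -/
theorem degree : Nat.card (Pts t) = Cfg.kk t + 2 := by
  classical
  have hk := H.three_le_kk
  set N := Subgroup.normalizer (cen t : Set G) with hN
  have := Fintype.ofFinite (Pts t)
  have := Fintype.ofFinite G
  obtain ⟨j, hj⟩ := H.card_dvd_points
  rw [card_cen H, show N.index = Nat.card (Pts t) from rfl] at hj
  have h2 : 2 ≤ Nat.card (Pts t) := by
    have h0 : N.index ≠ 0 := Subgroup.index_ne_zero_of_finite
    have h1 : N.index ≠ 1 := fun e => H.normalizer_ne_top (Subgroup.index_eq_one.1 e)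
    show 2 ≤ N.index
    omega
  let S := Σ x : {x : Pts t // x ≠ base t}, {d : stab t x.1 // d ≠ 1}
  have hS : Nat.card S = (Nat.card (Pts t) - 1) * (Cfg.kk t - 1) := by
    rw [Nat.card_sigma, Finset.sum_congr rfl fun x _ => ?_, Finset.sum_const, Finset.card_univ,
      smul_eq_mul, Fintype.card_subtype_compl, Fintype.card_subtype_eq,
      ← Nat.card_eq_fintype_card]
    rw [Nat.card_eq_fintype_card, Fintype.card_subtype_compl, Fintype.card_subtype_eq,
      ← Nat.card_eq_fintype_card, card_stab H x.2]
  let T := {g : G // g ∈ N ∧ g ∉ cen t}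
  have hT : Nat.card T + Nat.card (cen t) = Nat.card N := by
    rw [show Nat.card T = Nat.card {g : N // ¬ ((g : G) ∈ cen t)} from Nat.card_congr
      { toFun := fun g => ⟨⟨g.1, g.2.1⟩, g.2.2⟩
        invFun := fun g => ⟨g.1.1, g.1.2, g.2⟩
        left_inv := fun _ => rfl
        right_inv := fun _ => rfl }, show Nat.card (cen t) = Nat.card {g : N // (g : G) ∈ cen t} from
      Nat.card_congr
      { toFun := fun g => ⟨⟨g.1, H.le_normal g.2⟩, g.2⟩
        invFun := fun g => ⟨g.1.1, g.2⟩
        left_inv := fun _ => rfl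
        right_inv := fun _ => rfl }, Nat.card_eq_fintype_card, Nat.card_eq_fintype_card,
      Fintype.card_subtype_compl, Nat.card_eq_fintype_card]
    have := Fintype.card_subtype_le fun g : N => (g : G) ∈ cen t
    omega
  have hle : Nat.card S ≤ Nat.card T := by
    refine Nat.card_le_card_of_injective (fun s => (⟨s.2.1.1, s.2.1.2.1, fun h => s.2.2
      (Subtype.ext (mem_cen_stab H s.1.2 h s.2.1.2))⟩ : T)) ?_
    rintro ⟨⟨x, hx⟩, ⟨d, hd⟩, hd1⟩ ⟨⟨x', hx'⟩, ⟨d', hd'⟩, hd1'⟩ e
    have e' : d = d' := congrArg Subtype.val e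
    subst e'
    have := fix_two H hx' hd' (fun h => hd1' (Subtype.ext h)) hx hd
    subst this
    rfl
  rw [Cfg.card_normalizer, card_cen H] at hT
  rw [hS] at hle
  obtain ⟨k, hk'⟩ : ∃ k, Cfg.kk t = k + 1 := ⟨Cfg.kk t - 1, by omega⟩
  rw [hk', Nat.add_sub_cancel] at hle
  rw [hk'] at hj hT hk ⊢
  rw [hj] at hle
  have hj2 : j < 2 := by
    by_contra hh
    have h4 : (k + 1 + 1) * 2 * k ≤ (k + 1 + 1) * j * k :=
      Nat.mul_le_mul_right _ (Nat.mul_le_mul_left _ (by omega))
    have h5 : 0 < (k + 1 + 1) * k := Nat.mul_pos (by omega) (by omega)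
    have h6 : (k + 1 + 1) * (k + 1) = (k + 1 + 1) * k + (k + 1 + 1) := Nat.mul_succ _ _
    have h7 : (k + 1 + 1) * 2 * k = 2 * ((k + 1 + 1) * k) := by ring
    omega
  interval_cases j <;> omega

end

end Cfsg.Agent.CAGroupGeometry22
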