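import Mathlib
import Cfsg.Agent.Lib.CAGroupGeometry22
import Cfsg.Agent.Lib.PSLSimple
import Cfsg.Agent.Lib.PSLCard

/-!
A simple group of even order in which commuting is transitive is a two-dimensional linear group in
characteristic two.
-/

set_option autoImplicit false
set_option linter.unusedSectionVars false

namespace Cfsg.Agent.CAGroupProjective22

open Cfsg.Agent.CAGroupStructure22 Cfsg.Agent.CAGroupGeometry22
open scoped OnePoint

/-- The centraliser as a plain type, to carry field operations. -/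
def Coord {G : Type*} [Group G] (t : G) : Type _ := cen t

variable {G : Type*} [Group G] [Finite G] {t : G} (H : Cfg t)
include H

theorem exists_point : ∃ p : Pts t, p ≠ base t := by
  by_contra h
  push Not at h
  have : Subsingleton (Pts t) := ⟨fun a b => (h a).trans (h b).symm⟩
  have hd := degree H
  have : Nat.card (Pts t) ≤ 1 := Finite.card_le_one_iff_subsingleton.2 inferInstance
  omega

/-- The centraliser acts regularly on the other points. -/
theorem regular {p : Pts t} (hp : p ≠ base t) :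
    Function.Bijective (fun m : cen t => (⟨(m : G) • p, fun e => hp
      (MulAction.injective (m : G) (e.trans (smul_base_eq.2 (H.le_normal m.2)).symm))⟩ :
      {x : Pts t // x ≠ base t})) := by
  classical
  have := Fintype.ofFinite (Pts t)
  refine Function.Injective.bijective_of_nat_card_le ?_ ?_
  · intro a b e
    have e' : (a : G) • p = (b : G) • p := congrArg Subtype.val e
    refine Subtype.ext (inv_mul_eq_one.1 ?_)
    refine mem_cen_stab H hp (mul_mem (inv_mem a.2) b.2) (mem_stab.2
      ⟨smul_base_eq.2 (H.le_normal (mul_mem (inv_mem a.2) b.2)), ?_⟩)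
    rw [mul_smul, ← e', inv_smul_smul]
  · rw [card_cen H, Nat.card_eq_fintype_card, Fintype.card_subtype_compl, Fintype.card_subtype_eq,
      ← Nat.card_eq_fintype_card, degree H]
    omega

/-- The two-point stabiliser is regular on the nonidentity elements of the centraliser. -/
theorem exists_unique_move {p : Pts t} (hp : p ≠ base t) {e x : G} (he : e ∈ cen t) (he1 : e ≠ 1)
    (hx : x ∈ cen t) (hx1 : x ≠ 1) : ∃! d : stab t p, (d : G) * e * (d : G)⁻¹ = x := by
  classical
  have := Fintype.ofFinite G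
  let f : stab t p → {y : cen t // y ≠ 1} := fun d =>
    ⟨⟨(d : G) * e * (d : G)⁻¹, Cfg.conj_mem d.2.1 he⟩,
      fun h => conj_ne_one he1 (congrArg Subtype.val h)⟩
  have hinj : Function.Injective f := by
    intro a b h
    have h' : (a : G) * e * (a : G)⁻¹ = b * e * (b : G)⁻¹ :=
      congrArg Subtype.val (congrArg Subtype.val h)
    refine Subtype.ext (inv_mul_eq_one.1 (mem_cen_stab H hp ?_ (mul_mem (inv_mem a.2) b.2)))
    refine H.fix he he1 ?_
    calc (a : G)⁻¹ * b * e * ((a : G)⁻¹ * b)⁻¹
        = (a : G)⁻¹ * (b * e * (b : G)⁻¹) * a := by group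
      _ = (a : G)⁻¹ * (a * e * (a : G)⁻¹) * a := by rw [h']
      _ = e := by group
  have hb := hinj.bijective_of_nat_card_le (by
    rw [card_stab H hp, Nat.card_eq_fintype_card, Fintype.card_subtype_compl,
      Fintype.card_subtype_eq, ← Nat.card_eq_fintype_card, card_cen H]
    omega)
  obtain ⟨d, hd⟩ := hb.2 ⟨⟨x, hx⟩, fun h => hx1 (congrArg Subtype.val h)⟩
  exact ⟨d, congrArg Subtype.val (congrArg Subtype.val hd), fun d' hd' =>
    hinj (Eq.trans (Subtype.ext (Subtype.ext hd')) hd.symm)⟩

/-- Field coordinates on the centraliser. -/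
theorem exists_coord {p : Pts t} (hp : p ≠ base t) {r : ℕ} (hr : Cfg.kk t + 1 = 2 ^ r) :
    ∃ β : GaloisField 2 r ≃ cen t, (∀ a b, (β (a + b) : G) = β a * β b) ∧
      ∀ a, a ≠ 0 → ∃ d ∈ stab t p, ∀ b, d * β b * d⁻¹ = (β (a * b) : G) := by
  classical
  haveI : Fact (Nat.Prime 2) := ⟨Nat.prime_two⟩
  have hr0 : r ≠ 0 := by
    rintro rfl
    have := H.three_le_kk
    omega
  set e : cen t := ⟨t, H.t_mem⟩ with hedef
  have he1 : e ≠ 1 := fun h => H.t_ne (congrArg Subtype.val h)
  choose δ hδ huniq using fun (x : cen t) (hx : x ≠ 1) =>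
    exists_unique_move H hp H.t_mem H.t_ne x.2 (fun h => hx (Subtype.ext h))
  replace hδ : ∀ (x : cen t) (hx : x ≠ 1), (δ x hx : G) * t * (δ x hx : G)⁻¹ = (x : G) := hδ
  let mu : cen t → cen t → cen t := fun x y =>
    if hx : x = 1 then 1 else ⟨(δ x hx : G) * y * (δ x hx : G)⁻¹, Cfg.conj_mem (δ x hx).2.1 y.2⟩
  have hcomm : ∀ x y : cen t, x * y = y * x := fun x y => Subtype.ext (H.comm x.2 y.2)
  have hmu1 : ∀ x : cen t, mu x 1 = 1 := by
    intro x
    simp only [mu]
    split_ifs with hx
    · rfl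
    · exact Subtype.ext (by simp)
  have hmu_ne : ∀ x y : cen t, x ≠ 1 → y ≠ 1 → mu x y ≠ 1 := by
    intro x y hx hy h
    simp only [mu, dif_neg hx] at h
    exact conj_ne_one (fun e => hy (Subtype.ext e)) (congrArg Subtype.val h)
  have hmuval : ∀ (x y : cen t) (hx : x ≠ 1),
      (mu x y : G) = (δ x hx : G) * y * (δ x hx : G)⁻¹ := by
    intro x y hx
    simp only [mu, dif_neg hx]
  have hsym : ∀ x y : cen t, mu x y = mu y x := by
    intro x y
    by_cases hx : x = 1
    · rw [hx, hmu1]; simp [mu]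
    by_cases hy : y = 1
    · rw [hy, hmu1]; simp [mu]
    refine Subtype.ext ?_
    rw [hmuval x y hx, hmuval y x hy]
    rw [← hδ y hy, ← hδ x hx]
    rw [show (δ x hx : G) * ((δ y hy : G) * t * (δ y hy : G)⁻¹) * (δ x hx : G)⁻¹ =
      (δ x hx : G) * δ y hy * t * ((δ x hx : G) * δ y hy)⁻¹ by group,
      stab_comm H hp (δ x hx).2 (δ y hy).2]
    group
  have hδmul : ∀ (x y : cen t) (hx : x ≠ 1) (hy : y ≠ 1),
      δ (mu x y) (hmu_ne x y hx hy) = δ x hx * δ y hy := by
    intro x y hx hy
    refine (huniq _ _ _ ?_).symm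
    show ((δ x hx : G) * δ y hy) * t * ((δ x hx : G) * δ y hy)⁻¹ = _
    rw [hmuval x y hx]
    rw [← hδ y hy]
    group
  have hassoc : ∀ x y z : cen t, mu (mu x y) z = mu x (mu y z) := by
    intro x y z
    by_cases hx : x = 1
    · subst hx
      simp [mu]
    by_cases hy : y = 1
    · subst hy
      rw [hmu1, show mu 1 z = 1 by simp [mu], hmu1]
    refine Subtype.ext ?_
    rw [hmuval _ _ (hmu_ne x y hx hy), hmuval _ _ hx, hmuval _ _ hy, hδmul x y hx hy]
    push_cast
    group
  have hone : ∀ x : cen t, mu e x = x := by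
    intro x
    refine Subtype.ext ?_
    rw [hmuval e x he1, show δ e he1 = 1 from (huniq e he1 1 (by simp [hedef])).symm]
    simp
  let iv : cen t → cen t := fun x =>
    if hx : x = 1 then 1 else ⟨(δ x hx : G)⁻¹ * t * ((δ x hx : G)⁻¹)⁻¹,
      Cfg.conj_mem (inv_mem (δ x hx).2.1) H.t_mem⟩
  let K : Type _ := Coord t
  have hinv : ∀ x : cen t, x ≠ 1 → mu x (iv x) = e := by
    intro x hx
    refine Subtype.ext ?_
    rw [hmuval x _ hx]
    simp only [iv, dif_neg hx, hedef]
    group
  have hdist : ∀ x y z : cen t, mu x (y * z) = mu x y * mu x z := by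
    intro x y z
    by_cases hx : x = 1
    · subst hx
      simp [mu]
    refine Subtype.ext ?_
    show (mu x (y * z) : G) = (mu x y : G) * mu x z
    rw [hmuval _ _ hx, hmuval _ _ hx, hmuval _ _ hx, Subgroup.coe_mul]
    group
  let iF : Field K := @Field.ofMinimalAxioms K ⟨fun a b : cen t => (a * b : cen t)⟩ ⟨mu⟩
    ⟨fun a : cen t => (a⁻¹ : cen t)⟩ ⟨iv⟩ ⟨(1 : cen t)⟩ ⟨e⟩
    (fun a b c : cen t => mul_assoc a b c) (fun a : cen t => one_mul a)
    (fun a : cen t => inv_mul_cancel a) hassoc hsym hone hinv (by exact dif_pos rfl) hdist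
    ⟨e, (1 : cen t), he1⟩
  haveI : Finite K := inferInstanceAs (Finite (cen t))
  haveI := Fintype.ofFinite K
  haveI := Fintype.ofFinite (GaloisField 2 r)
  let φ : GaloisField 2 r ≃+* K := FiniteField.ringEquivOfCardEq (K := GaloisField 2 r) (K' := K) (by
    try simp only [← Nat.card_eq_fintype_card]
    rw [GaloisField.card 2 r hr0, ← hr]
    try exact (card_cen H).symm)
  refine ⟨φ.toEquiv, fun a b => congrArg Subtype.val (φ.map_add a b), fun a ha => ?_⟩
  obtain ⟨x, hx⟩ : ∃ x : cen t, x = φ a := ⟨φ a, rfl⟩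
  have hφ : x ≠ 1 := fun h => ha (φ.injective (Eq.trans (hx.symm.trans h) (map_zero φ).symm))
  refine ⟨δ x hφ, (δ x hφ).2, fun b => ?_⟩
  obtain ⟨y, hy⟩ : ∃ y : cen t, y = φ b := ⟨φ b, rfl⟩
  obtain ⟨z, hz⟩ : ∃ z : cen t, z = φ (a * b) := ⟨φ (a * b), rfl⟩
  have e1 : z = mu x y := by subst hx hy hz; exact map_mul φ a b
  show (δ x hφ : G) * (φ.toEquiv b : cen t).1 * (δ x hφ : G)⁻¹ = _
  have hy' : (φ.toEquiv b : cen t) = y := hy.symm
  have hz' : (φ.toEquiv (a * b) : cen t) = z := hz.symm
  rw [hy']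
  exact (hmuval x y hφ).symm.trans ((congrArg Subtype.val e1).symm.trans (congrArg Subtype.val hz'.symm))

/-- The group is a special linear group of degree two. -/
theorem exists_equiv : ∃ r : ℕ, 2 ≤ r ∧
    Nonempty (G ≃* Matrix.SpecialLinearGroup (Fin 2) (GaloisField 2 r)) := by
  classical
  haveI : Fact (Nat.Prime 2) := ⟨Nat.prime_two⟩
  obtain ⟨r, hr⟩ := H.exists_two_pow
  have hk := H.three_le_kk
  have hr2 : 2 ≤ r := by
    by_contra h
    have : 2 ^ r ≤ 2 ^ 1 := Nat.pow_le_pow_right (by norm_num) (by omega)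
    omega
  refine ⟨r, hr2, ?_⟩
  obtain ⟨p, hp⟩ := exists_point H
  set F := GaloisField 2 r with hFdef
  obtain ⟨β, hadd, hmul⟩ : ∃ β : F ≃ cen t, (∀ a b, (β (a + b) : G) = β a * β b) ∧
      ∀ a, a ≠ 0 → ∃ d ∈ stab t p, ∀ b, d * β b * d⁻¹ = (β (a * b) : G) := exists_coord H hp hr
  obtain ⟨u, hu, hup⟩ := exists_invol H hp
  have hβ0 : (β 0 : G) = 1 := by
    have := hadd 0 0
    rw [add_zero] at this
    exact left_eq_mul.1 this
  have hreg := regular H hp
  let pt0 : OnePoint F → Pts t := fun x => x.elim (base t) fun a => (β a : G) • p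
  have hne : ∀ a : F, (β a : G) • p ≠ base t := fun a e => hp
    (MulAction.injective (β a : G) (e.trans (smul_base_eq.2 (H.le_normal (β a).2)).symm))
  have hpt : Function.Bijective pt0 := by
    constructor
    · intro x y e
      cases x with
      | infty =>
        cases y with
        | infty => rfl
        | coe b => exact absurd e.symm (hne b)
      | coe a =>
        cases y with
        | infty => exact absurd e (hne a)
        | coe b => exact congrArg _ (β.injective (hreg.1 (Subtype.ext e)))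
    · intro x
      by_cases hx : x = base t
      · exact ⟨∞, hx.symm⟩
      · obtain ⟨m, hm⟩ := hreg.2 ⟨x, hx⟩
        refine ⟨(β.symm m : F), ?_⟩
        show (β (β.symm m) : G) • p = x
        rw [β.apply_symm_apply]
        exact congrArg Subtype.val hm
  let pt : OnePoint F ≃ Pts t := Equiv.ofBijective pt0 hpt
  let ρ : G →* Equiv.Perm (OnePoint F) :=
    pt.symm.permCongrHom.toMonoidHom.comp (MulAction.toPermHom G (Pts t))
  have hρ : ∀ g x y, g • pt0 x = pt0 y → ρ g x = y := by
    intro g x y h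
    show pt.symm (g • pt x) = y
    rw [Equiv.symm_apply_eq]
    exact h
  -- generators
  have htr : ∀ b : F, ρ (β b) ∞ = ∞ ∧ ∀ a : F, ρ (β b) a = ((b + a : F) : OnePoint F) := by
    intro b
    refine ⟨hρ _ _ _ (smul_base_eq.2 (H.le_normal (β b).2)), fun a => hρ _ _ _ ?_⟩
    show (β b : G) • ((β a : G) • p) = (β (b + a) : G) • p
    rw [← mul_smul, hadd]
  have hsc : ∀ a : F, a ≠ 0 → ∃ d ∈ stab t p, ρ d ∞ = ∞ ∧
      ∀ b : F, ρ d b = ((a * b : F) : OnePoint F) := by
    intro a ha
    obtain ⟨d, hd, hdb⟩ := hmul a ha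
    refine ⟨d, hd, hρ _ _ _ (mem_stab.1 hd).1, fun b => hρ _ _ _ ?_⟩
    show d • ((β b : G) • p) = (β (a * b) : G) • p
    rw [← hdb b, mul_smul, mul_smul, inv_smul_eq_iff.2 (mem_stab.1 hd).2.symm]
  have hu0 : ρ u (0 : F) = ∞ ∧ ρ u ∞ = ((0 : F) : OnePoint F) := by
    constructor
    · refine hρ _ _ _ ?_
      show u • ((β 0 : G) • p) = base t
      rw [hβ0, one_smul, back H hu hup]
    · refine hρ _ _ _ ?_
      show u • base t = (β 0 : G) • p
      rw [hβ0, one_smul, hup]
  obtain ⟨c, hc0, hc⟩ : ∃ c : F, c ≠ 0 ∧ ρ u ((1 : F) : OnePoint F) = (c : OnePoint F) := by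
    cases h : ρ u ((1 : F) : OnePoint F) with
    | infty =>
      have := (ρ u).injective (h.trans hu0.1.symm)
      exact absurd (OnePoint.coe_injective this) one_ne_zero
    | coe c =>
      refine ⟨c, fun hc0 => ?_, rfl⟩
      rw [hc0, ← hu0.2] at h
      exact absurd ((ρ u).injective h) (OnePoint.coe_ne_infty _)
  have hu1 : ∀ a : F, a ≠ 0 → ρ u a = ((c * a⁻¹ : F) : OnePoint F) := by
    intro a ha
    obtain ⟨d, hd, -, hdb⟩ := hsc a ha
    have e1 : ρ u a = ρ d⁻¹ (c : OnePoint F) := by
      rw [← hc, ← Equiv.Perm.mul_apply, ← map_mul,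
        show ((a : F) : OnePoint F) = ρ d ((1 : F) : OnePoint F) by rw [hdb, mul_one],
        ← Equiv.Perm.mul_apply, ← map_mul]
      congr 2
      have h := stab_inverted H hp hu hup hd
      rw [← h, mul_assoc, SignalizerStrongEmb.involution_mul_self hu, mul_one]
    rw [e1, map_inv, Equiv.Perm.inv_eq_iff_eq, hdb]
    rw [OnePoint.coe_eq_coe, mul_left_comm, mul_inv_cancel₀ ha, mul_one]
  -- inversion
  obtain ⟨d₀, -, hd₀i, hd₀⟩ := hsc c⁻¹ (inv_ne_zero hc0)
  set w := d₀ * u with hw
  have hw0 : ρ w ((0 : F) : OnePoint F) = ∞ := by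
    rw [hw, map_mul, Equiv.Perm.mul_apply, hu0.1, hd₀i]
  have hwi : ρ w ∞ = ((0 : F) : OnePoint F) := by
    rw [hw, map_mul, Equiv.Perm.mul_apply, hu0.2, hd₀, mul_zero]
  have hw1 : ∀ a : F, a ≠ 0 → ρ w a = ((a⁻¹ : F) : OnePoint F) := by
    intro a ha
    rw [hw, map_mul, Equiv.Perm.mul_apply, hu1 a ha, hd₀, inv_mul_cancel_left₀ hc0]
  -- the linear group
  let σ : Matrix.SpecialLinearGroup (Fin 2) F →* Equiv.Perm (OnePoint F) :=
    (MulAction.toPermHom (GL (Fin 2) F) (OnePoint F)).comp Matrix.SpecialLinearGroup.toGL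
  have hσ : ∀ (g : Matrix.SpecialLinearGroup (Fin 2) F) (x : F),
      σ g x = if g.1 1 0 * x + g.1 1 1 = 0 then ∞
        else (((g.1 0 0 * x + g.1 0 1) / (g.1 1 0 * x + g.1 1 1) : F) : OnePoint F) := by
    intro g x
    show (Matrix.SpecialLinearGroup.toGL g) • (x : OnePoint F) = _
    rw [OnePoint.smul_some_eq_ite]
    rfl
  have hσi : ∀ g : Matrix.SpecialLinearGroup (Fin 2) F,
      σ g ∞ = if g.1 1 0 = 0 then ∞ else ((g.1 0 0 / g.1 1 0 : F) : OnePoint F) := by
    intro g
    show (Matrix.SpecialLinearGroup.toGL g) • (∞ : OnePoint F) = _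
    rw [OnePoint.smul_infty_eq_ite]
    rfl
  have hupper : ∀ b : F, σ (Matrix.SpecialLinearGroup.transvection
      (show (0 : Fin 2) ≠ 1 by decide) b) = ρ (β b) := by
    intro b
    refine Equiv.ext fun x => ?_
    cases x with
    | infty => rw [hσi, (htr b).1]; simp [Matrix.SpecialLinearGroup.transvection, Matrix.transvection, Matrix.single]
    | coe a => rw [hσ, (htr b).2]; simp [Matrix.SpecialLinearGroup.transvection, Matrix.transvection, Matrix.single, add_comm]
  have hlower : ∀ b : F, σ (Matrix.SpecialLinearGroup.transvection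
      (show (1 : Fin 2) ≠ 0 by decide) b) = ρ (w * β b * w) := by
    intro b
    refine Equiv.ext fun x => ?_
    rw [map_mul, map_mul, Equiv.Perm.mul_apply, Equiv.Perm.mul_apply]
    cases x with
    | infty =>
      rw [hσi, hwi, (htr b).2, add_zero]
      by_cases hb : b = 0
      · subst hb; rw [hw0]; simp [Matrix.SpecialLinearGroup.transvection, Matrix.transvection, Matrix.single]
      · rw [hw1 b hb]; simp [Matrix.SpecialLinearGroup.transvection, Matrix.transvection, Matrix.single, hb]
    | coe a =>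
      by_cases ha : a = 0
      · subst ha
        rw [hσ, hw0, (htr b).1, hwi]; simp [Matrix.SpecialLinearGroup.transvection, Matrix.transvection, Matrix.single]
      · rw [hσ, hw1 a ha, (htr b).2]
        have hiff : b + a⁻¹ = 0 ↔ b * a + 1 = 0 := by
          constructor
          · intro h; linear_combination a * h - mul_inv_cancel₀ ha
          · intro h
            refine mul_left_cancel₀ ha ?_
            rw [mul_add, mul_inv_cancel₀ ha, mul_zero]
            linear_combination h
        by_cases hba : b * a + 1 = 0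
        · rw [hiff.2 hba, hw0]; simp [Matrix.SpecialLinearGroup.transvection, Matrix.transvection, Matrix.single, hba]
        · rw [hw1 _ (fun h => hba (hiff.1 h))]
          simp [Matrix.SpecialLinearGroup.transvection, Matrix.transvection, Matrix.single, hba]
          rw [show b + a⁻¹ = (b * a + 1) / a by rw [eq_div_iff ha, add_mul, inv_mul_cancel₀ ha], inv_div]
  have hle : σ.range ≤ ρ.range := by
    rintro _ ⟨g, rfl⟩
    have : g ∈ Subgroup.comap σ ρ.range := by
      rw [PSLSimple.eq_top_of_transvection_mem (Subgroup.comap σ ρ.range) fun i j hij b => ?_]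
      · exact Subgroup.mem_top g
      rw [Subgroup.mem_comap]
      fin_cases i <;> fin_cases j
      · exact absurd rfl hij
      · exact ⟨β b, (hupper b).symm⟩
      · exact ⟨w * β b * w, (hlower b).symm⟩
      · exact absurd rfl hij
    exact this
  have h2 : (2 : F) = 0 := CharTwo.two_eq_zero
  have hσinj : Function.Injective σ := by
    rw [injective_iff_map_eq_one]
    intro g hg
    have hi := hσi g
    have h0 := hσ g 0
    have h1 := hσ g 1
    rw [hg, Equiv.Perm.one_apply] at hi h0 h1
    have e10 : g.1 1 0 = 0 := by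
      by_contra h
      rw [if_neg h] at hi
      exact OnePoint.infty_ne_coe _ hi
    simp only [e10, zero_mul, zero_add, mul_zero, mul_one] at h0 h1
    have e11 : g.1 1 1 ≠ 0 := by
      intro h
      rw [if_pos h] at h0
      exact OnePoint.coe_ne_infty _ h0
    rw [if_neg e11, OnePoint.coe_eq_coe, eq_comm, div_eq_zero_iff, or_iff_left e11] at h0
    rw [if_neg e11, OnePoint.coe_eq_coe, eq_comm, div_eq_one_iff_eq e11, h0, add_zero] at h1
    have hdet : g.1.det = 1 := g.2
    rw [Matrix.det_fin_two, e10, h0, h1] at hdet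
    have e00 : g.1 1 1 = 1 := by
      have : (g.1 1 1 - 1) * (g.1 1 1 - 1) = 0 := by
        linear_combination hdet + (1 - g.1 1 1) * h2
      exact sub_eq_zero.1 (mul_self_eq_zero.1 this)
    ext i j
    fin_cases i <;> fin_cases j <;> simp [e10, h0, h1, e00]
  have hρinj : Function.Injective ρ := by
    rw [injective_iff_map_eq_one]
    intro x hx
    have hfix : ∀ q : Pts t, x • q = q := fun q => by
      have := congrArg (fun f : Equiv.Perm (OnePoint F) => pt (f (pt.symm q))) hx
      simpa [ρ] using this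
    obtain ⟨p', hp', hp'p⟩ : ∃ p' : Pts t, p' ≠ base t ∧ p' ≠ p := by
      by_contra hno
      push Not at hno
      have : Nat.card (Pts t) ≤ Nat.card (Fin 2) := Nat.card_le_card_of_surjective
        (fun i : Fin 2 => if i = 0 then base t else p) fun q => by
          by_cases hq : q = base t
          · exact ⟨0, by simp [hq]⟩
          · exact ⟨1, by simp [hno q hq]⟩
      rw [degree H, Nat.card_fin] at this
      omega
    by_contra hx1
    exact hp'p (fix_two H hp (mem_stab.2 ⟨hfix _, hfix _⟩) hx1 hp' (mem_stab.2 ⟨hfix _, hfix _⟩))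
  haveI : Fintype F := Fintype.ofFinite F
  have hF : Nat.card F = Cfg.kk t + 1 := by
    rw [GaloisField.card 2 r (by omega), hr]
  have hcard : Nat.card G = Nat.card (Matrix.SpecialLinearGroup (Fin 2) F) := by
    rw [← (Subgroup.normalizer (cen t : Set G)).card_mul_index, Cfg.card_normalizer,
      show (Subgroup.normalizer (cen t : Set G)).index = Nat.card (Pts t) from rfl, degree H,
      card_cen H, PSLCard.card_SL2, hF]
    have e : (Cfg.kk t + 1) ^ 2 = Cfg.kk t * (Cfg.kk t + 2) + 1 := by ring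
    rw [e, Nat.add_sub_cancel]
    ring
  have hrange : σ.range = ρ.range := Subgroup.eq_of_le_of_card_ge hle (by
    rw [← Nat.card_congr (MonoidHom.ofInjective hσinj).toEquiv,
      ← Nat.card_congr (MonoidHom.ofInjective hρinj).toEquiv, hcard])
  exact ⟨(MonoidHom.ofInjective hρinj).trans
    ((MulEquiv.subgroupCongr hrange.symm).trans (MonoidHom.ofInjective hσinj).symm)⟩

end Cfsg.Agent.CAGroupProjective22
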