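import Cfsg.Agent.Lib.CHZA6Model
import Cfsg.Agent.Lib.SmallGroupBasic
import Cfsg.Agent.Lib.TransferThompson

/-!
A group without subgroup of index 2 with an involution whose centraliser is that of an
involution of `A₆`: simplicity, classes of elements of order 4, a structure constant.
-/

namespace Cfsg.Agent.CHZA6Local

open Equiv CHZA6Model SmallGroupBasic

variable {G : Type*} [Group G]

/-- What is used of the centraliser of `α`. -/
structure Hyp (G : Type*) [Group G] (α x y : G) : Prop where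
  ordα : orderOf α = 2
  xsq : x * x = α
  yinv : y * x * y⁻¹ = x⁻¹
  ycomm : y * α = α * y
  card : Nat.card ↥(Subgroup.centralizer ({α} : Set G)) = 8
  sqC : ∀ z : G, z * α = α * z → z * z = 1 ∨ z * z = α
  root : ∀ z : G, z * z = α → z = x ∨ z = x⁻¹
  sylow : ∃ S : Sylow 2 G, (S : Subgroup G) = Subgroup.centralizer {α}
  noIndexTwo : ∀ H : Subgroup G, H.index ≠ 2

theorem exists_hyp [Finite G] (hG : ∀ H : Subgroup G, H.index ≠ 2)
    (αt : ↥(alternatingGroup (Fin 6))) (hαt : orderOf αt = 2)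
    (hsupp : (αt : Perm (Fin 6)).support.card = 4) (α : G) (hα : orderOf α = 2)
    (S : Sylow 2 G) (hαc : ∀ s ∈ (S : Subgroup G), s * α = α * s)
    (e : ↥(Subgroup.centralizer ({α} : Set G)) ≃*
      ↥(Subgroup.centralizer ({αt} : Set ↥(alternatingGroup (Fin 6))))) :
    ∃ x y : G, Hyp G α x y := by
  classical
  obtain ⟨g, hg⟩ := exists_conj αt hαt hsupp
  set C := Subgroup.centralizer ({α} : Set G) with hC
  have hmemC : ∀ {z : G}, z ∈ C ↔ z * α = α * z := fun {z} => by
    rw [hC, Subgroup.mem_centralizer_singleton_iff]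
  let ψ : ↥C →* Perm (Fin 6) := (MulAut.conj g).toMonoidHom.comp
    ((alternatingGroup (Fin 6)).subtype.comp ((Subgroup.subtype _).comp e.toMonoidHom))
  have hψi : Function.Injective ψ :=
    (MulAut.conj g).injective.comp
      (Subtype.val_injective.comp (Subtype.val_injective.comp e.injective))
  have hψD : ∀ z, ψ z ∈ D := by
    intro z
    rw [mem_D]
    constructor
    · show Perm.sign (g * ((e z).1 : Perm (Fin 6)) * g⁻¹) = 1
      rw [map_mul, map_mul, map_inv, Perm.mem_alternatingGroup.1 (e z).1.2]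
      simp
    · show g * ((e z).1 : Perm (Fin 6)) * g⁻¹ * τ = τ * (g * ((e z).1 : Perm (Fin 6)) * g⁻¹)
      have h1 := congrArg Subtype.val ((Subgroup.mem_centralizer_singleton_iff).1 (e z).2)
      simp only [Subgroup.coe_mul] at h1
      rw [← hg]
      calc _ = g * (((e z).1 : Perm (Fin 6)) * (αt : Perm (Fin 6))) * g⁻¹ := by group
        _ = g * ((αt : Perm (Fin 6)) * ((e z).1 : Perm (Fin 6))) * g⁻¹ := by rw [h1]
        _ = _ := by group
  have hψs : ∀ σ ∈ D, ∃ z, ψ z = σ := by
    intro σ hσ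
    rw [mem_D] at hσ
    have hmem : g⁻¹ * σ * g ∈ alternatingGroup (Fin 6) := by
      rw [Perm.mem_alternatingGroup, map_mul, map_mul, map_inv, hσ.1]
      simp
    have hcen : (⟨_, hmem⟩ : ↥(alternatingGroup (Fin 6))) ∈
        Subgroup.centralizer ({αt} : Set ↥(alternatingGroup (Fin 6))) := by
      rw [Subgroup.mem_centralizer_singleton_iff]
      ext1
      simp only [Subgroup.coe_mul]
      have hg' : (αt : Perm (Fin 6)) = g⁻¹ * τ * g := by rw [← hg]; group
      rw [hg']
      calc _ = g⁻¹ * (σ * τ) * g := by group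
        _ = g⁻¹ * (τ * σ) * g := by rw [hσ.2]
        _ = _ := by group
    refine ⟨e.symm ⟨_, hcen⟩, ?_⟩
    show g * ((e (e.symm ⟨_, hcen⟩)).1 : Perm (Fin 6)) * g⁻¹ = σ
    rw [MulEquiv.apply_symm_apply]
    group
  let eD : ↥C ≃ {σ // σ ∈ D} := Equiv.ofBijective (fun z => ⟨ψ z, hψD z⟩)
    ⟨fun a b h => hψi (congrArg Subtype.val h),
      fun σ => let ⟨z, hz⟩ := hψs σ.1 σ.2; ⟨z, Subtype.ext hz⟩⟩
  have hC8 : Nat.card ↥C = 8 := by
    rw [Nat.card_congr eD, Nat.card_eq_fintype_card]
    rw [Fintype.card_congr (Equiv.subtypeEquivRight (fun σ => List.mem_toFinset.symm) :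
      {σ // σ ∈ D} ≃ {σ // σ ∈ D.toFinset}), Fintype.card_coe, List.toFinset_card_of_nodup nodup_D]
    rfl
  have hαC : α ∈ C := hmemC.2 rfl
  have hαne : α ≠ 1 := fun h => by simp [h] at hα
  have hψα : ψ ⟨α, hαC⟩ = τ := by
    refine (central_D _ (hψD _) fun σ hσ => ?_).resolve_left fun h => hαne ?_
    · obtain ⟨z, rfl⟩ := hψs σ hσ
      rw [← map_mul, ← map_mul]
      exact congrArg ψ (Subtype.ext (hmemC.1 z.2))
    · exact congrArg Subtype.val (hψi (h.trans (map_one ψ).symm))
  obtain ⟨σx, hσx, hσx2⟩ := root_exists_D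
  obtain ⟨x, rfl⟩ := hψs σx hσx
  obtain ⟨σy, hσy, hσy2⟩ := invert_D _ hσx hσx2
  obtain ⟨y, rfl⟩ := hψs σy hσy
  have hxsq : (x : G) * x = α :=
    congrArg Subtype.val (hψi (((map_mul ψ x x).trans hσx2).trans hψα.symm))
  have hroot : ∀ z : G, z * z = α → z = x ∨ z = (x : G)⁻¹ := by
    intro z hz
    have hzC : z ∈ C := hmemC.2 (by rw [← hz, mul_assoc])
    have h1 : ψ ⟨z, hzC⟩ * ψ ⟨z, hzC⟩ = τ := by
      rw [← map_mul, ← hψα]; exact congrArg ψ (Subtype.ext hz)
    rcases root_D _ hσx _ (hψD ⟨z, hzC⟩) hσx2 h1 with h | h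
    · exact Or.inl (congrArg Subtype.val (hψi h))
    · exact Or.inr (congrArg Subtype.val (hψi (h.trans (map_inv ψ x).symm)))
  have hsq : ∀ z : G, z * α = α * z → z * z = 1 ∨ z * z = α := by
    intro z hz
    rcases sq_D _ (hψD ⟨z, hmemC.2 hz⟩) with h | h
    · exact Or.inl (congrArg Subtype.val (hψi (((map_mul ψ _ _).trans h).trans (map_one ψ).symm)))
    · exact Or.inr (congrArg Subtype.val (hψi (((map_mul ψ _ _).trans h).trans hψα.symm)))
  refine ⟨x, y, hα, hxsq, ?_, hmemC.1 y.2, hC8, hsq, hroot, ⟨S, ?_⟩, hG⟩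
  · have := hψi (((map_mul ψ (y * x) y⁻¹).trans (by rw [map_mul, map_inv])).trans
      (hσy2.trans (map_inv ψ x).symm))
    exact congrArg Subtype.val this
  · have hle : (S : Subgroup G) ≤ C := fun s hs => hmemC.2 (hαc s hs)
    obtain ⟨T, hT⟩ := (IsPGroup.of_card (p := 2) (n := 3) (by rw [hC8]; norm_num) :
      IsPGroup 2 ↥C).exists_le_sylow
    refine Subgroup.eq_of_le_of_card_ge hle ?_
    rw [← hC]
    refine (Nat.le_of_dvd Nat.card_pos (Subgroup.card_dvd_of_le hT)).trans (le_of_eq ?_)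
    rw [T.card_eq_multiplicity, S.card_eq_multiplicity]

variable {α x y : G}

namespace Hyp

variable (h : Hyp G α x y)
include h

theorem alpha_sq : α * α = 1 := by rw [← sq, ← h.ordα]; exact pow_orderOf_eq_one α

theorem alpha_ne_one : α ≠ 1 := fun e => by have := h.ordα; simp [e] at this

theorem orderOf_x : orderOf x = 4 := by
  refine orderOf_eq_prime_pow (p := 2) (n := 1) ?_ ?_
  · rw [pow_one, sq, h.xsq]; exact h.alpha_ne_one
  · rw [show 2 ^ (1 + 1) = 2 * 2 from rfl, pow_mul, sq x, h.xsq, sq, h.alpha_sq]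

theorem x_comm : x * α = α * x := by rw [← h.xsq, mul_assoc]

theorem xinv_sq : x⁻¹ * x⁻¹ = α := by
  rw [← mul_inv_rev, h.xsq, inv_eq_of_mul_eq_one_right h.alpha_sq]

theorem x_ne_inv : x ≠ x⁻¹ := fun e => h.alpha_ne_one (by
  rw [← h.xsq]; nth_rewrite 1 [e]; exact inv_mul_cancel x)

theorem y_notMem : y ∉ Subgroup.zpowers x := fun hy => h.x_ne_inv (by
  obtain ⟨k, rfl⟩ := hy
  rw [← h.yinv]; group)

theorem eq_of_mem_zpowers [Finite G] {z : G} (hz : z ∈ Subgroup.zpowers x) :
    z = 1 ∨ z = x ∨ z = α ∨ z = x⁻¹ := by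
  classical
  obtain ⟨k, hk, rfl⟩ :=
    Finset.mem_image.1 ((mem_zpowers_iff_mem_range_orderOf (x := x)).1 hz)
  rw [h.orderOf_x, Finset.mem_range] at hk
  interval_cases k
  · exact Or.inl (pow_zero x)
  · exact Or.inr (Or.inl (pow_one x))
  · exact Or.inr (Or.inr (Or.inl (by rw [sq, h.xsq])))
  · refine Or.inr (Or.inr (Or.inr (eq_inv_of_mul_eq_one_left ?_)))
    rw [← pow_succ, show 3 + 1 = 4 from rfl, ← h.orderOf_x, pow_orderOf_eq_one]

variable [Finite G]

theorem orderOf_y : orderOf y = 2 := by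
  refine orderOf_eq_prime ?_ fun e => h.y_notMem (e ▸ one_mem _)
  rcases h.sqC y h.ycomm with e | e
  · rw [sq]; exact e
  · rcases h.root y e with e' | e'
    · exact absurd (e' ▸ Subgroup.mem_zpowers x) h.y_notMem
    · exact absurd (e' ▸ inv_mem (Subgroup.mem_zpowers x)) h.y_notMem

/-- All involutions are conjugate to `α`. -/
theorem exists_conj_alpha {u : G} (hu : orderOf u = 2) : ∃ g : G, g * α * g⁻¹ = u := by
  obtain ⟨S, hS⟩ := h.sylow
  have hxS : Subgroup.zpowers x ≤ (S : Subgroup G) := by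
    rw [hS, Subgroup.zpowers_le, Subgroup.mem_centralizer_singleton_iff]; exact h.x_comm
  obtain ⟨T, hT⟩ := (IsPGroup.of_card (p := 2) (n := 1) (by rw [Nat.card_zpowers, hu, pow_one]) :
    IsPGroup 2 ↥(Subgroup.zpowers u)).exists_le_sylow
  obtain ⟨g, hg⟩ := MulAction.exists_smul_eq G T S
  have huS : g * u * g⁻¹ ∈ (S : Subgroup G) := by
    rw [← hg, Sylow.coe_subgroup_smul, Subgroup.mem_pointwise_smul_iff_inv_smul_mem, ← map_inv,
      MulAut.smul_def, MulAut.conj_apply]
    rw [show g⁻¹ * (g * u * g⁻¹) * g⁻¹⁻¹ = u by group]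
    exact hT (Subgroup.mem_zpowers u)
  have hrel : (Subgroup.zpowers x).relIndex (S : Subgroup G) = 2 := by
    have hh := ((Subgroup.zpowers x).subgroupOf (S : Subgroup G)).card_mul_index
    rw [Nat.card_congr (Subgroup.subgroupOfEquivOfLe hxS).toEquiv, Nat.card_zpowers, h.orderOf_x,
      hS, h.card] at hh
    rw [Subgroup.relIndex]
    rw [hS]
    omega
  by_contra hno
  obtain ⟨M, -, hM, -⟩ := TransferThompson.thompson_transfer S _ hxS hrel
    (u := g * u * g⁻¹) (by rw [orderOf_conj, hu]) huS fun k hk => by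
      have hord : orderOf (k * (g * u * g⁻¹) * k⁻¹) = 2 := by rw [orderOf_conj, orderOf_conj, hu]
      rcases h.eq_of_mem_zpowers hk with e | e | e | e
      · rw [e, orderOf_one] at hord; omega
      · rw [e, h.orderOf_x] at hord; omega
      · exact hno ⟨(k * g)⁻¹, by rw [← e]; group⟩
      · rw [e, orderOf_inv, h.orderOf_x] at hord; omega
  exact h.noIndexTwo M hM

theorem mem_centralizer {z : G} : z ∈ Subgroup.centralizer ({α} : Set G) ↔ z * α = α * z :=
  Subgroup.mem_centralizer_singleton_iff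

theorem isSimpleGroup : IsSimpleGroup G := by
  classical
  have : Nontrivial G := ⟨α, 1, h.alpha_ne_one⟩
  refine ⟨fun N hN => ?_⟩
  by_cases h2 : 2 ∣ Nat.card ↥N
  · -- `N` contains the Sylow subgroup
    right
    obtain ⟨t, ht⟩ := exists_prime_orderOf_dvd_card' 2 h2
    have hinv : ∀ u : G, orderOf u = 2 → u ∈ N := by
      intro u hu
      obtain ⟨a, ha⟩ := h.exists_conj_alpha (u := (t : G)) (by rw [Subgroup.orderOf_coe, ht])
      obtain ⟨b, rfl⟩ := h.exists_conj_alpha hu
      have hαN : α ∈ N := by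
        rw [show α = a⁻¹ * (t : G) * a⁻¹⁻¹ by rw [← ha]; group]
        exact hN.conj_mem _ t.2 _
      exact hN.conj_mem _ hαN _
    have hxN : x ∈ N := by
      have hyN : y ∈ N := hinv y h.orderOf_y
      have h1 : y * x * (y * x) = 1 := by
        have e1 : y * y = 1 := by rw [← sq, ← h.orderOf_y]; exact pow_orderOf_eq_one y
        calc y * x * (y * x) = y * x * y⁻¹ * (y * y) * x := by group
          _ = 1 := by rw [h.yinv, e1]; group
      have hyx : y * x ≠ 1 := fun e => h.y_notMem (by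
        rw [eq_inv_of_mul_eq_one_left e]; exact inv_mem (Subgroup.mem_zpowers x))
      have := mul_mem (inv_mem hyN) (hinv (y * x) (orderOf_eq_prime (by rw [sq]; exact h1) hyx))
      simpa using this
    obtain ⟨S, hS⟩ := h.sylow
    have hSN : (S : Subgroup G) ≤ N := by
      intro z hz
      rw [hS, h.mem_centralizer] at hz
      rcases h.sqC z hz with e | e
      · rcases eq_or_ne z 1 with rfl | hz1
        · exact one_mem _
        · exact hinv z (orderOf_eq_prime (by rw [sq]; exact e) hz1)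
      · rcases h.root z e with rfl | rfl
        · exact hxN
        · exact inv_mem hxN
    have hNS : Subgroup.normalizer ((S : Subgroup G) : Set G) ≤ N := by
      intro g hg
      refine hSN ?_
      rw [hS, h.mem_centralizer]
      have h1 := (Subgroup.mem_normalizer_iff.1 hg x).1 (by
        rw [hS, h.mem_centralizer]; exact h.x_comm)
      rw [hS, h.mem_centralizer] at h1
      have h2 : g * x * g⁻¹ * (g * x * g⁻¹) = g * α * g⁻¹ := by rw [← h.xsq]; group
      rcases h.sqC _ h1 with e | e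
      · rw [h2] at e
        exact absurd (conj_eq_one_iff.1 e) h.alpha_ne_one
      · rw [h2, mul_inv_eq_iff_eq_mul] at e
        exact e
    have := Sylow.normalizer_sup_eq_top (N := N) (Sylow.subtype S hSN)
    rw [Sylow.coe_subtype, Subgroup.map_subgroupOf_eq_of_le hSN] at this
    rwa [sup_eq_right.2 hNS] at this
  · left
    rw [Subgroup.eq_bot_iff_forall]
    -- involutions invert `N`
    have hinv : ∀ u : G, orderOf u = 2 → ∀ n ∈ N, u * n * u⁻¹ = n⁻¹ := by
      intro u hu
      have hu2 : u * u = 1 := by rw [← sq, ← hu]; exact pow_orderOf_eq_one u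
      have hfix : ∀ n ∈ N, u * n * u⁻¹ = n → n = 1 := by
        intro n hn hnu
        obtain ⟨g, hg⟩ := h.exists_conj_alpha hu
        have hm : g⁻¹ * n * g ∈ Subgroup.centralizer ({α} : Set G) := by
          rw [h.mem_centralizer, show α = g⁻¹ * u * g by rw [← hg]; group]
          calc g⁻¹ * n * g * (g⁻¹ * u * g) = g⁻¹ * (n * u) * g := by group
            _ = g⁻¹ * (u * n) * g := by rw [← mul_inv_eq_iff_eq_mul.1 hnu]
            _ = _ := by group
        have h8 : orderOf n ∣ 8 := by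
          rw [← h.card, ← orderOf_conj g⁻¹ n, inv_inv]
          exact Subgroup.orderOf_dvd_natCard _ hm
        have hN' : orderOf n ∣ Nat.card ↥N := Subgroup.orderOf_dvd_natCard _ hn
        have hodd : Nat.Coprime (Nat.card ↥N) 8 :=
          Nat.Coprime.pow_right 3 (Nat.prime_two.coprime_iff_not_dvd.2 h2).symm
        exact orderOf_eq_one_iff.1 (Nat.eq_one_of_dvd_coprimes hodd hN' h8)
      let F : ↥N → ↥N := fun n => ⟨(n : G) * (u * (n : G)⁻¹ * u⁻¹),
        mul_mem n.2 (hN.conj_mem _ (inv_mem n.2) u)⟩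
      have hF : Function.Injective F := by
        intro a b e
        have e' : (a : G) * (u * (a : G)⁻¹ * u⁻¹) = b * (u * (b : G)⁻¹ * u⁻¹) :=
          congrArg Subtype.val e
        have h1 : u * ((b : G)⁻¹ * a) * u⁻¹ = (b : G)⁻¹ * a := by
          calc u * ((b : G)⁻¹ * a) * u⁻¹
              = (b : G)⁻¹ * ((b : G) * (u * (b : G)⁻¹ * u⁻¹)) * (u * (a : G) * u⁻¹) := by group
            _ = _ := by rw [← e']; group
        have := hfix _ (mul_mem (inv_mem b.2) a.2) h1
        exact Subtype.ext (inv_mul_eq_one.1 this).symm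
      intro n hn
      obtain ⟨m, hm⟩ := (Finite.injective_iff_surjective.1 hF) ⟨n, hn⟩
      have hm' : (m : G) * (u * (m : G)⁻¹ * u⁻¹) = n := congrArg Subtype.val hm
      rw [← hm']
      calc u * ((m : G) * (u * (m : G)⁻¹ * u⁻¹)) * u⁻¹
          = u * (m : G) * u⁻¹ * ((u * u) * (m : G)⁻¹ * (u * u)⁻¹) := by group
        _ = _ := by rw [hu2]; group
    intro n hn
    have hy2 : y * y = 1 := by rw [← sq, ← h.orderOf_y]; exact pow_orderOf_eq_one y
    have hαy : orderOf (α * y) = 2 := by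
      refine orderOf_eq_prime ?_ fun e => h.y_notMem ?_
      · rw [sq]
        calc α * y * (α * y) = α * (y * α) * y := by group
          _ = α * α * (y * y) := by rw [h.ycomm]; group
          _ = 1 := by rw [h.alpha_sq, hy2, one_mul]
      · rw [eq_inv_of_mul_eq_one_right e, ← h.xsq]
        exact inv_mem (mul_mem (Subgroup.mem_zpowers x) (Subgroup.mem_zpowers x))
    have h1 : n⁻¹ = n := by
      rw [← hinv _ hαy n hn]
      calc α * y * n * (α * y)⁻¹ = α * (y * n * y⁻¹) * α⁻¹ := by group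
        _ = n := by rw [hinv y h.orderOf_y n hn, hinv α h.ordα _ (inv_mem hn), inv_inv]
    have h2' : orderOf n ∣ 2 := orderOf_dvd_of_pow_eq_one (by
      rw [sq]; nth_rewrite 1 [← h1]; exact inv_mul_cancel n)
    have hodd : Nat.Coprime (Nat.card ↥N) 2 :=
      (Nat.prime_two.coprime_iff_not_dvd.2 h2).symm
    exact orderOf_eq_one_iff.1
      (Nat.eq_one_of_dvd_coprimes hodd (Subgroup.orderOf_dvd_natCard _ hn) h2')

theorem isConj_x_inv : IsConj x x⁻¹ := isConj_iff.2 ⟨y, h.yinv⟩

theorem centralizer_x : Subgroup.centralizer ({x} : Set G) = Subgroup.zpowers x := by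
  refine le_antisymm ?_ ?_
  · intro z hz
    rw [Subgroup.mem_centralizer_singleton_iff] at hz
    have hzα : z * α = α * z := by
      rw [← h.xsq, ← mul_assoc, hz, mul_assoc, hz, ← mul_assoc]
    rcases h.sqC z hzα with e | e
    · have e2 : z * x * (z * x) = α := by
        calc z * x * (z * x) = z * (x * z) * x := by group
          _ = z * z * (x * x) := by rw [← hz]; group
          _ = α := by rw [e, h.xsq, one_mul]
      rw [show z = z * x * x⁻¹ by group]
      rcases h.root _ e2 with e' | e' <;> rw [e']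
      · exact mul_mem (Subgroup.mem_zpowers x) (inv_mem (Subgroup.mem_zpowers x))
      · exact mul_mem (inv_mem (Subgroup.mem_zpowers x)) (inv_mem (Subgroup.mem_zpowers x))
    · rcases h.root z e with rfl | rfl
      · exact Subgroup.mem_zpowers z
      · exact inv_mem (Subgroup.mem_zpowers x)
  · rw [Subgroup.zpowers_le, Subgroup.mem_centralizer_singleton_iff]

theorem card_centralizer_x : Nat.card ↥(Subgroup.centralizer ({x} : Set G)) = 4 := by
  rw [h.centralizer_x, Nat.card_zpowers, h.orderOf_x]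

omit h [Finite G] in
/-- Fibres of conjugation. -/
theorem card_conj_fiber {a b k₀ : G} (hk : k₀ * a * k₀⁻¹ = b) :
    Nat.card {k : G // k * a * k⁻¹ = b} = Nat.card ↥(Subgroup.centralizer ({a} : Set G)) := by
  refine Nat.card_congr
    { toFun := fun k => ⟨k₀⁻¹ * k, ?_⟩
      invFun := fun c => ⟨k₀ * c, ?_⟩
      left_inv := fun k => by simp
      right_inv := fun c => by simp }
  · rw [Subgroup.mem_centralizer_singleton_iff, ← mul_inv_eq_iff_eq_mul]
    rw [show k₀⁻¹ * (k : G) * a * (k₀⁻¹ * (k : G))⁻¹ = k₀⁻¹ * ((k : G) * a * (k : G)⁻¹) * k₀ by group,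
      k.2, ← hk]
    group
  · have hc := Subgroup.mem_centralizer_singleton_iff.1 c.2
    rw [show k₀ * (c : G) * a * (k₀ * (c : G))⁻¹ = k₀ * ((c : G) * a) * (c : G)⁻¹ * k₀⁻¹ by group,
      hc, ← hk]
    group

omit h in
theorem card_sigma_const {A : Type*} [Finite A] (F : A → Type*) [∀ a, Finite (F a)] (n : ℕ)
    (hn : ∀ a, Nat.card (F a) = n) : Nat.card (Σ a, F a) = Nat.card A * n := by
  have := Fintype.ofFinite A
  rw [Nat.card_sigma, Finset.sum_congr rfl fun a _ => hn a, Finset.sum_const, Finset.card_univ,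
    smul_eq_mul, Nat.card_eq_fintype_card]

/-- The involutions `u` with `u * x` an involution. -/
theorem card_inverting :
    Nat.card {u : G // orderOf u = 2 ∧ orderOf (u * x) = 2} = 4 := by
  classical
  set C := Subgroup.centralizer ({α} : Set G)
  have hxC : Subgroup.zpowers x ≤ C := by
    rw [Subgroup.zpowers_le, h.mem_centralizer]; exact h.x_comm
  have key : ∀ z : G, z ∈ C → z ∉ Subgroup.zpowers x → orderOf z = 2 := by
    intro z hz hzx
    refine orderOf_eq_prime ?_ fun e => hzx (e ▸ one_mem _)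
    rw [sq]
    rcases h.sqC z (h.mem_centralizer.1 hz) with e | e
    · exact e
    · rcases h.root z e with rfl | rfl
      · exact absurd (Subgroup.mem_zpowers z) hzx
      · exact absurd (inv_mem (Subgroup.mem_zpowers x)) hzx
  have hiff : ∀ u : G, (orderOf u = 2 ∧ orderOf (u * x) = 2) ↔ u ∈ C ∧ u ∉ Subgroup.zpowers x := by
    intro u
    constructor
    · rintro ⟨hu, hux⟩
      have hu2 : u * u = 1 := by rw [← sq, ← hu]; exact pow_orderOf_eq_one u
      have hux2 : u * x * (u * x) = 1 := by rw [← sq, ← hux]; exact pow_orderOf_eq_one _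
      have h1 : u * x * u = x⁻¹ := eq_inv_of_mul_eq_one_left (by rw [← hux2]; group)
      have huC : u * α = α * u := by
        have e : u * α * u = α := by
          calc u * α * u = u * x * (u * u) * x * u := by rw [hu2, ← h.xsq]; group
            _ = u * x * u * (u * x * u) := by group
            _ = α := by rw [h1, h.xinv_sq]
        calc u * α = u * α * (u * u) := by rw [hu2, mul_one]
          _ = u * α * u * u := by group
          _ = α * u := by rw [e]
      refine ⟨h.mem_centralizer.2 huC, fun hz => ?_⟩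
      rcases h.eq_of_mem_zpowers hz with rfl | rfl | rfl | rfl
      · rw [orderOf_one] at hu; omega
      · rw [h.orderOf_x] at hu; omega
      · rw [← h.xsq] at h1
        have hc : x * x * x * (x * x) = x := by
          calc x * x * x * (x * x) = x * (x * x * (x * x)) := by group
            _ = x := by rw [h.xsq, h.alpha_sq, mul_one]
        exact h.x_ne_inv (hc.symm.trans h1)
      · rw [orderOf_inv, h.orderOf_x] at hu; omega
    · rintro ⟨hu, hux⟩
      refine ⟨key u hu hux, key _ (mul_mem hu (hxC (Subgroup.mem_zpowers x))) fun hm => hux ?_⟩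
      have := mul_mem hm (inv_mem (Subgroup.mem_zpowers x))
      simpa using this
  rw [Nat.card_congr (Equiv.subtypeEquivRight hiff)]
  have h1 := Nat.card_congr (Equiv.sumCompl fun u : ↥C => (u : G) ∈ Subgroup.zpowers x)
  rw [Nat.card_sum, h.card] at h1
  have h2 : Nat.card {u : ↥C // (u : G) ∈ Subgroup.zpowers x} = 4 := by
    rw [Nat.card_congr (Equiv.subtypeSubtypeEquivSubtype (fun {u} hu => hxC hu))]
    show Nat.card ↥(Subgroup.zpowers x) = 4
    rw [Nat.card_zpowers, h.orderOf_x]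
  have h3 : Nat.card {u : ↥C // (u : G) ∉ Subgroup.zpowers x} =
      Nat.card {u : G // u ∈ C ∧ u ∉ Subgroup.zpowers x} :=
    Nat.card_congr (Equiv.subtypeSubtypeEquivSubtypeInter (fun u => u ∈ C)
      (fun u => u ∉ Subgroup.zpowers x))
  rw [← h3]
  omega

/-- The structure constant. -/
theorem card_triple : Nat.card {w : G // IsConj x (α * (w * α * w⁻¹))} = 64 := by
  classical
  let P : G × G → Prop := fun q => q.2 * x * q.2⁻¹ = α * (q.1 * α * q.1⁻¹)
  have hA : Nat.card {q // P q} = Nat.card {w : G // IsConj x (α * (w * α * w⁻¹))} * 4 := by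
    rw [Nat.card_congr (?_ : {q // P q} ≃ Σ w : {w : G // IsConj x (α * (w * α * w⁻¹))},
      {k : G // k * x * k⁻¹ = α * (w.1 * α * w.1⁻¹)})]
    · refine card_sigma_const _ 4 fun w => ?_
      obtain ⟨k, hk⟩ := isConj_iff.1 w.2
      rw [card_conj_fiber hk, h.card_centralizer_x]
    · exact
        { toFun := fun q => ⟨⟨q.1.1, isConj_iff.2 ⟨_, q.2⟩⟩, ⟨q.1.2, q.2⟩⟩
          invFun := fun s => ⟨(s.1.1, s.2.1), s.2.2⟩
          left_inv := fun q => rfl
          right_inv := fun s => rfl }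
  have hB : Nat.card {q // P q} = 4 * (8 * 8) := by
    let U := {u : G // orderOf u = 2 ∧ orderOf (u * x) = 2}
    let F : U → Type _ := fun u => {j : G // j * α * j⁻¹ = u.1} × {k : G // k * α * k⁻¹ = u.1 * x}
    rw [Nat.card_congr (?_ : {q // P q} ≃ Σ u : U, F u)]
    · rw [card_sigma_const F (8 * 8) fun u => ?_, h.card_inverting]
      obtain ⟨j, hj⟩ := h.exists_conj_alpha u.2.1
      obtain ⟨k, hk⟩ := h.exists_conj_alpha u.2.2
      rw [Nat.card_prod, card_conj_fiber hj, card_conj_fiber hk, h.card]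
    · have key : ∀ q : G × G, P q →
          q.2⁻¹ * q.1 * α * (q.2⁻¹ * q.1)⁻¹ = q.2⁻¹ * α * q.2⁻¹⁻¹ * x := by
        intro q hq
        have hα1 : α⁻¹ = α := inv_eq_of_mul_eq_one_right h.alpha_sq
        calc q.2⁻¹ * q.1 * α * (q.2⁻¹ * q.1)⁻¹
            = q.2⁻¹ * α⁻¹ * (α * (q.1 * α * q.1⁻¹)) * q.2 := by group
          _ = q.2⁻¹ * α⁻¹ * (q.2 * x * q.2⁻¹) * q.2 := by rw [hq]
          _ = q.2⁻¹ * α⁻¹ * q.2⁻¹⁻¹ * x := by group
          _ = _ := by rw [hα1]
      have hinj : Function.Injective (fun s : (Σ u : U, F u) => (s.2.1.1, s.2.2.1)) := by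
        rintro ⟨⟨u, hu⟩, ⟨j, hj⟩, ⟨k, hk⟩⟩ ⟨⟨u', hu'⟩, ⟨j', hj'⟩, ⟨k', hk'⟩⟩ e
        simp only [Prod.mk.injEq] at e
        obtain ⟨rfl, rfl⟩ := e
        simp only at hj hj'
        subst hj
        subst hj'
        rfl
      exact
        { toFun := fun q => ⟨⟨q.1.2⁻¹ * α * q.1.2⁻¹⁻¹,
              by rw [orderOf_conj, h.ordα],
              by rw [← key q.1 q.2, orderOf_conj, h.ordα]⟩,
            ⟨q.1.2⁻¹, rfl⟩, ⟨q.1.2⁻¹ * q.1.1, key q.1 q.2⟩⟩
          invFun := fun s => ⟨(s.2.1.1⁻¹ * s.2.2.1, s.2.1.1⁻¹), by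
            obtain ⟨⟨u, hu, -⟩, ⟨j, hj⟩, ⟨k, hk⟩⟩ := s
            have hu2 : u * u = 1 := by rw [← sq, ← hu]; exact pow_orderOf_eq_one u
            show j⁻¹ * x * j⁻¹⁻¹ = α * (j⁻¹ * k * α * (j⁻¹ * k)⁻¹)
            calc j⁻¹ * x * j⁻¹⁻¹ = j⁻¹ * (u * u) * x * j := by rw [hu2]; group
              _ = j⁻¹ * u * (u * x) * j := by group
              _ = j⁻¹ * (j * α * j⁻¹) * (k * α * k⁻¹) * j := by rw [hj, hk]
              _ = _ := by group⟩
          left_inv := fun q => by
            ext <;> simp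
          right_inv := fun s => hinj (by simp) }
  omega

end Hyp

end Cfsg.Agent.CHZA6Local
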