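import Mathlib

/-! The centraliser of an involution of `A₆`. -/

namespace Cfsg.Agent.CHZA6Model

open Equiv

/-- The standard involution `(0 1)(2 3)`. -/
def τ : Perm (Fin 6) := swap 0 1 * swap 2 3

/-- An element of order four squaring to `τ`. -/
def r : Perm (Fin 6) := swap 0 2 * swap 0 1 * swap 0 3 * swap 4 5

/-- An involution inverting `r`. -/
def s : Perm (Fin 6) := swap 0 1 * swap 4 5

/-- The eight elements commuting with `τ` in `A₆`. -/
def D : List (Perm (Fin 6)) := [1, r, τ, r * τ, s, s * r, s * τ, s * r * τ]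

theorem mem_D : ∀ σ : Perm (Fin 6), σ ∈ D ↔ Perm.sign σ = 1 ∧ σ * τ = τ * σ := by decide +kernel

theorem nodup_D : D.Nodup := by decide +kernel

theorem central_D : ∀ z ∈ D, (∀ y ∈ D, y * z = z * y) → z = 1 ∨ z = τ := by decide +kernel

theorem sq_D : ∀ y ∈ D, y * y = 1 ∨ y * y = τ := by decide +kernel

theorem root_D : ∀ x ∈ D, ∀ y ∈ D, x * x = τ → y * y = τ → y = x ∨ y = x⁻¹ := by decide +kernel

theorem invert_D : ∀ x ∈ D, x * x = τ → ∃ y ∈ D, y * x * y⁻¹ = x⁻¹ := by decide +kernel

theorem root_exists_D : ∃ x ∈ D, x * x = τ := by decide +kernel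

theorem tau_ne_one : τ ≠ 1 := by decide +kernel

/-- The centraliser of a double transposition in `A₆` is conjugate to `D`. -/
theorem exists_conj (t : ↥(alternatingGroup (Fin 6))) (ht : orderOf t = 2)
    (hs : (t : Perm (Fin 6)).support.card = 4) :
    ∃ g : Perm (Fin 6), g * (t : Perm (Fin 6)) * g⁻¹ = τ := by
  have h2 : ∀ σ : Perm (Fin 6), orderOf σ = 2 → σ.support.card = 4 → σ.cycleType = {2, 2} := by
    intro σ hσ hc
    obtain ⟨n, hn⟩ := Perm.cycleType_prime_order (σ := σ) (by rw [hσ]; exact Nat.prime_two)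
    rw [hσ] at hn
    have hsum := σ.sum_cycleType
    rw [hn, hc, Multiset.sum_replicate, smul_eq_mul] at hsum
    have : n + 1 = 2 := by omega
    rw [hn, this]; rfl
  have hτ : orderOf τ = 2 := orderOf_eq_prime (by decide +kernel) tau_ne_one
  refine isConj_iff.1 ((Perm.isConj_iff_cycleType_eq).2 ?_)
  rw [h2 _ (by rw [Subgroup.orderOf_coe]; exact ht) hs, h2 _ hτ (by decide +kernel)]

end Cfsg.Agent.CHZA6Model
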