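import Cfsg.Agent.Lib.CHZA6Local
import Cfsg.Agent.Lib.SimpleOrder
import Cfsg.Agent.Lib.CharBasicInt
import Cfsg.Agent.Lib.CharBasicLinear
import Cfsg.Agent.Lib.ClassAlgebraVal

/-! The character computation: a group as in `CHZA6Local` has order 168 or 360. -/

namespace Cfsg.Agent.CHZA6Order

open CHZA6Local Cfsg.Agent.CharBasic Cfsg.Agent.CharBasicOrth
open scoped ComplexConjugate

/-- The final Diophantine problem. -/
theorem arith_check : ∀ i ∈ List.range 17, ∀ j ∈ List.range 17,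
    let u₁ : ℤ := 4 * ((i : ℤ) - 8) + 1
    let u₂ : ℤ := 4 * ((j : ℤ) - 8) + 3
    let u₃ : ℤ := -1 - u₁ - u₂
    let den : ℤ := u₁ * u₂ * u₃ + u₂ * u₃ + u₁ * u₃ + u₁ * u₂
    let g : ℤ := 256 * (u₁ * u₂ * u₃) / den
    den ≠ 0 → g * den = 256 * (u₁ * u₂ * u₃) → g % 16 = 8 → 1 < u₁.natAbs → 1 < u₂.natAbs →
      1 < u₃.natAbs → u₁ * u₁ < g → u₂ * u₂ < g → u₃ * u₃ < g → g % u₁ = 0 → g % u₂ = 0 →
      g % u₃ = 0 → g = 168 ∨ g = 360 := by
  decide +kernel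

theorem arith {g u₁ u₂ u₃ : ℤ} (hsum : u₁ + u₂ + u₃ = -1)
    (heq : g * (u₁ * u₂ * u₃ + u₂ * u₃ + u₁ * u₃ + u₁ * u₂) = 256 * (u₁ * u₂ * u₃))
    (h1 : u₁ % 4 = 1) (h2 : u₂ % 4 = 3) (h3 : u₃ % 4 = 3) (hg : g % 16 = 8)
    (n1 : 1 < u₁.natAbs) (n2 : 1 < u₂.natAbs) (n3 : 1 < u₃.natAbs)
    (s1 : u₁ * u₁ < g) (s2 : u₂ * u₂ < g) (s3 : u₃ * u₃ < g)
    (d1 : u₁ ∣ g) (d2 : u₂ ∣ g) (d3 : u₃ ∣ g) : g = 168 ∨ g = 360 := by
  set den := u₁ * u₂ * u₃ + u₂ * u₃ + u₁ * u₃ + u₁ * u₂ with hden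
  have a1 : 3 ≤ |u₁| := by rw [Int.abs_eq_natAbs]; omega
  have a2 : 3 ≤ |u₂| := by rw [Int.abs_eq_natAbs]; omega
  have a3 : 3 ≤ |u₃| := by rw [Int.abs_eq_natAbs]; omega
  have hP : u₁ * u₂ * u₃ ≠ 0 := by
    simp only [ne_eq, mul_eq_zero, not_or]
    refine ⟨⟨?_, ?_⟩, ?_⟩ <;> omega
  have hden0 : den ≠ 0 := fun h => hP (by rw [h, mul_zero] at heq; linarith)
  have hgden : g = 256 * (u₁ * u₂ * u₃) / den := by
    rw [← heq, Int.mul_ediv_cancel _ hden0]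
  have hg0 : 0 < g := lt_of_le_of_lt (mul_self_nonneg _) s1
  -- a bound on `g`
  have hbound : g ≤ 960 := by
    have q1 : (-1 : ℚ) / 3 ≤ 1 / (u₁ : ℚ) := by
      rcases lt_or_gt_of_ne (show u₁ ≠ 0 by omega) with h | h
      · have : (u₁ : ℚ) ≤ -3 := by exact_mod_cast (show u₁ ≤ -3 by omega)
        rw [le_div_iff_of_neg (by linarith)]
        linarith
      · have h0 : (0 : ℚ) ≤ 1 / (u₁ : ℚ) := by positivity
        linarith
    have q2 : ∀ u : ℤ, u % 4 = 3 → 1 < u.natAbs → (-1 : ℚ) / 5 ≤ 1 / (u : ℚ) := by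
      intro u hu hn
      rcases lt_or_gt_of_ne (show u ≠ 0 by omega) with h | h
      · have : (u : ℚ) ≤ -5 := by exact_mod_cast (show u ≤ -5 by omega)
        rw [le_div_iff_of_neg (by linarith)]
        linarith
      · have h' : (0 : ℚ) < u := by exact_mod_cast h
        have h0 : (0 : ℚ) ≤ 1 / (u : ℚ) := by positivity
        linarith
    have key : (g : ℚ) * (1 + 1 / (u₁ : ℚ) + 1 / u₂ + 1 / u₃) = 256 := by
      have : (u₁ : ℚ) ≠ 0 := by exact_mod_cast (show u₁ ≠ 0 by omega)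
      have : (u₂ : ℚ) ≠ 0 := by exact_mod_cast (show u₂ ≠ 0 by omega)
      have : (u₃ : ℚ) ≠ 0 := by exact_mod_cast (show u₃ ≠ 0 by omega)
      have hq : (g : ℚ) * ((u₁ : ℚ) * u₂ * u₃ + u₂ * u₃ + u₁ * u₃ + u₁ * u₂) =
          256 * ((u₁ : ℚ) * u₂ * u₃) := by exact_mod_cast heq
      field_simp
      linarith
    have hg' : (0 : ℚ) < g := by exact_mod_cast hg0
    have : (g : ℚ) * (4 / 15) ≤ 256 := by
      rw [← key]
      refine mul_le_mul_of_nonneg_left ?_ hg'.le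
      linarith [q2 u₂ h2 n2, q2 u₃ h3 n3]
    have : (g : ℚ) ≤ 960 := by linarith
    exact_mod_cast this
  have b1 : |u₁| ≤ 30 := abs_le.2 ⟨by nlinarith, by nlinarith⟩
  have b2 : |u₂| ≤ 30 := abs_le.2 ⟨by nlinarith, by nlinarith⟩
  rw [abs_le] at b1 b2
  obtain ⟨i, hi⟩ : ∃ i : ℕ, u₁ = 4 * ((i : ℤ) - 8) + 1 := ⟨((u₁ - 1) / 4 + 8).toNat, by omega⟩
  obtain ⟨j, hj⟩ : ∃ j : ℕ, u₂ = 4 * ((j : ℤ) - 8) + 3 := ⟨((u₂ - 3) / 4 + 8).toNat, by omega⟩
  have hu₃ : u₃ = -1 - u₁ - u₂ := by omega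
  have := arith_check i (List.mem_range.2 (by omega)) j (List.mem_range.2 (by omega))
  simp only [← hi, ← hj, ← hu₃, ← hden, ← hgden] at this
  exact this hden0 heq hg n1 n2 n3 s1 s2 s3 (Int.emod_eq_zero_of_dvd d1)
    (Int.emod_eq_zero_of_dvd d2) (Int.emod_eq_zero_of_dvd d3)

variable {G : Type*} [Group G]

theorem exists_sum_eq_four_mul {ι : Type*} (s : Finset ι) (f : ι → ℂ)
    (hf : ∀ i ∈ s, f i = 0 ∨ f i = 4) : ∃ k : ℤ, ∑ i ∈ s, f i = 4 * k := by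
  classical
  induction s using Finset.induction with
  | empty => exact ⟨0, by simp⟩
  | insert a s ha ih =>
    obtain ⟨k, hk⟩ := ih fun i hi => hf i (Finset.mem_insert_of_mem hi)
    rcases hf a (Finset.mem_insert_self _ _) with h | h
    · exact ⟨k, by rw [Finset.sum_insert ha, hk, h, zero_add]⟩
    · exact ⟨k + 1, by rw [Finset.sum_insert ha, hk, h]; push_cast; ring⟩

variable [Finite G] {α x y : G} (h : Hyp G α x y)
include h

/-- The restriction of a character to `⟨x⟩`. -/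
theorem exists_values {χ : G → ℂ} (hχ : Cfsg.IsCharacter G χ) {d : ℕ} (hd : χ 1 = d) :
    ∃ a δ : ℤ, χ α = a ∧ χ x = δ ∧ (4 : ℤ) ∣ (d : ℤ) - a ∧ (4 : ℤ) ∣ (d : ℤ) + a + 2 * δ := by
  have hx3 : x⁻¹ = x ^ 3 := by
    refine (eq_inv_of_mul_eq_one_left ?_).symm
    rw [← pow_succ, show 3 + 1 = 4 from rfl, ← h.orderOf_x, pow_orderOf_eq_one]
  have hinv : χ x⁻¹ = χ x :=
    (apply_eq_of_isConj (isClassFunction_of_isCharacter hχ) h.isConj_x_inv).symm
  have hα : χ α = χ (x ^ 2) := by rw [sq, h.xsq]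
  obtain ⟨n, ρ, rfl⟩ := hχ
  obtain ⟨b, μ, -, hμ, -, hpow⟩ := exists_rep_eigenbasis ρ x
  rw [h.orderOf_x] at hμ
  have hval : ∀ i, μ i = 1 ∨ μ i = -1 ∨ μ i = Complex.I ∨ μ i = -Complex.I := by
    intro i
    have h4 : (μ i - 1) * (μ i + 1) * ((μ i - Complex.I) * (μ i + Complex.I)) = 0 := by
      linear_combination hμ i - (μ i ^ 2 - 1) * Complex.I_mul_I
    rcases mul_eq_zero.1 h4 with h' | h' <;> rcases mul_eq_zero.1 h' with h'' | h''
    · exact Or.inl (sub_eq_zero.1 h'')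
    · exact Or.inr (Or.inl (eq_neg_of_add_eq_zero_left h''))
    · exact Or.inr (Or.inr (Or.inl (sub_eq_zero.1 h'')))
    · exact Or.inr (Or.inr (Or.inr (eq_neg_of_add_eq_zero_left h'')))
  obtain ⟨k₁, hk₁⟩ := exists_sum_eq_four_mul Finset.univ
    (fun i => μ i ^ 0 + μ i ^ 1 + μ i ^ 2 + μ i ^ 3) fun i _ => by
      rcases hval i with e | e | e | e <;> simp [e, pow_succ] <;> ring_nf <;> norm_num
  obtain ⟨k₂, hk₂⟩ := exists_sum_eq_four_mul Finset.univ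
    (fun i => μ i ^ 0 - μ i ^ 1 + μ i ^ 2 - μ i ^ 3) fun i _ => by
      rcases hval i with e | e | e | e <;> simp [e, pow_succ] <;> ring_nf <;> norm_num
  obtain ⟨k₃, hk₃⟩ := exists_sum_eq_four_mul Finset.univ
    (fun i => μ i ^ 0 - μ i ^ 2 - Complex.I * (μ i ^ 1 - μ i ^ 3)) fun i _ => by
      rcases hval i with e | e | e | e <;>
        simp [e, pow_succ, mul_add, mul_sub, Complex.I_mul_I] <;> norm_num
  simp only [Finset.sum_add_distrib, Finset.sum_sub_distrib, ← Finset.mul_sum, ← hpow, pow_one x,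
    pow_zero x, ← hx3, hinv, ← hα] at hk₁ hk₂ hk₃
  rw [hd] at hk₁ hk₂ hk₃
  refine ⟨k₁ + k₂ - 2 * k₃, k₁ - k₂, ?_, ?_, ⟨k₃, ?_⟩, ⟨k₁, ?_⟩⟩
  · push_cast
    linear_combination (1 / 4 : ℂ) * hk₁ + (1 / 4 : ℂ) * hk₂ - (1 / 2 : ℂ) * hk₃
  · push_cast
    linear_combination (1 / 4 : ℂ) * hk₁ - (1 / 4 : ℂ) * hk₂
  · have e : ((d : ℤ) : ℂ) = ((k₁ + k₂ + 2 * k₃ : ℤ) : ℂ) := by
      push_cast
      linear_combination (1 / 4 : ℂ) * hk₁ + (1 / 4 : ℂ) * hk₂ + (1 / 2 : ℂ) * hk₃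
    rw [Int.cast_injective e]; ring
  · have e : ((d : ℤ) : ℂ) = ((k₁ + k₂ + 2 * k₃ : ℤ) : ℂ) := by
      push_cast
      linear_combination (1 / 4 : ℂ) * hk₁ + (1 / 4 : ℂ) * hk₂ + (1 / 2 : ℂ) * hk₃
    rw [Int.cast_injective e]; ring

theorem not_comm : ¬ IsMulCommutative G := fun hc => h.x_ne_inv (by
  conv_rhs => rw [← h.yinv, hc.is_comm.comm y x]
  group)

theorem card_mod : Nat.card G % 16 = 8 := by
  obtain ⟨S, hS⟩ := h.sylow
  have h1 := (S : Subgroup G).card_mul_index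
  rw [hS, h.card] at h1
  have h2 := S.not_dvd_index
  rw [hS] at h2
  omega

theorem card_eq : Nat.card G = 168 ∨ Nat.card G = 360 := by
  classical
  have hSimple := h.isSimpleGroup
  have := Fintype.ofFinite G
  choose D hD0 hD1 hDdvd using fun χ : Cfsg.IrrCharacter G =>
    CharBasicInt.exists_apply_one_dvd_card χ.2
  choose A Δ hA hΔ hd1 hd2 using fun χ : Cfsg.IrrCharacter G =>
    exists_values h (isCharacter_of_isIrrCharacter χ.2) (hD1 χ)
  have hxa : ¬ IsConj x α := fun hc => by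
    have := SmallGroupBasic.IsConj.orderOf_eq' hc
    rw [h.ordα, h.orderOf_x] at this; omega
  have hx1 : ¬ IsConj x 1 := fun hc => by
    have := SmallGroupBasic.IsConj.orderOf_eq' hc
    rw [orderOf_one, h.orderOf_x] at this; omega
  -- the orthogonality relations over the integers
  have oxx : ∑ χ, Δ χ * Δ χ = 4 := by
    have := (sum_irr_mul_conj x x).trans (if_pos (IsConj.refl x))
    rw [h.card_centralizer_x] at this
    simp only [hΔ, map_intCast] at this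
    exact_mod_cast this
  have oαα : ∑ χ, A χ * A χ = 8 := by
    have := (sum_irr_mul_conj α α).trans (if_pos (IsConj.refl α))
    rw [h.card] at this
    simp only [hA, map_intCast] at this
    exact_mod_cast this
  have oxα : ∑ χ, Δ χ * A χ = 0 := by
    have := (sum_irr_mul_conj x α).trans (if_neg hxa)
    simp only [hA, hΔ, map_intCast] at this
    exact_mod_cast this
  have ox1 : ∑ χ, Δ χ * (D χ : ℤ) = 0 := by
    have := (sum_irr_mul_conj x 1).trans (if_neg hx1)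
    simp only [hΔ, hD1, map_natCast] at this
    exact_mod_cast this
  have o11 : ∑ χ, (D χ : ℤ) * (D χ : ℤ) = (Nat.card G : ℤ) := by
    have := sum_sq_apply_one (G := G)
    simp only [hD1, sq] at this
    exact_mod_cast this
  have htriple : ∑ χ, (A χ : ℂ) * A χ * Δ χ / D χ = 256 / (Nat.card G : ℂ) := by
    have := ClassAlgebraVal.sum_irr_triple α α x
    rw [h.card_centralizer_x, h.card_triple] at this
    simp only [hA, hΔ, hD1, map_intCast] at this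
    rw [this]; norm_num
  -- the trivial character
  set τ := CharBasicDecomp.trivIrr G with hτ
  have hτD : (D τ : ℂ) = 1 := (hD1 τ).symm
  have hτA : (A τ : ℂ) = 1 := (hA τ).symm
  have hτΔ : (Δ τ : ℂ) = 1 := (hΔ τ).symm
  have hτD' : D τ = 1 := by exact_mod_cast hτD
  have hτA' : A τ = 1 := by exact_mod_cast hτA
  have hτΔ' : Δ τ = 1 := by exact_mod_cast hτΔ
  set s := Finset.univ.filter fun χ => χ ≠ τ ∧ Δ χ ≠ 0 with hs
  have hsplit : ∀ {R : Type} [AddCommMonoid R] (f : Cfsg.IrrCharacter G → R),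
      (∀ χ, Δ χ = 0 → f χ = 0) → ∑ χ, f χ = f τ + ∑ χ ∈ s, f χ := by
    intro R _ f hf
    rw [← Finset.sum_insert (by simp [hs] : τ ∉ s)]
    refine (Finset.sum_subset (Finset.subset_univ _) fun χ _ hχ => hf χ ?_).symm
    simp only [hs, Finset.mem_insert, Finset.mem_filter, Finset.mem_univ, true_and, not_or,
      not_and, not_not] at hχ
    exact hχ.2 hχ.1
  rw [hsplit (fun χ => Δ χ * Δ χ) fun χ e => by simp [e]] at oxx
  rw [hsplit (fun χ => Δ χ * A χ) fun χ e => by simp [e]] at oxα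
  rw [hsplit (fun χ => Δ χ * (D χ : ℤ)) fun χ e => by simp [e]] at ox1
  rw [hsplit (fun χ => (A χ : ℂ) * A χ * Δ χ / D χ) fun χ e => by simp [e]] at htriple
  simp only [hτD', hτA', hτΔ', Nat.cast_one, Int.cast_one, mul_one, div_one] at oxx oxα ox1 htriple
  have hsq : ∀ χ ∈ s, 1 ≤ Δ χ * Δ χ := fun χ hχ => by
    have := (Finset.mem_filter.1 hχ).2.2
    exact Int.add_one_le_iff.2 (mul_self_pos.2 this)
  have hΔ1 : ∀ χ ∈ s, Δ χ = 1 ∨ Δ χ = -1 := fun χ hχ => by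
    have h1 : Δ χ * Δ χ ≤ 3 := by
      have := Finset.single_le_sum (f := fun χ => Δ χ * Δ χ) (fun i hi => mul_self_nonneg _) hχ
      linarith
    have h0 := (Finset.mem_filter.1 hχ).2.2
    have : Δ χ < 2 := by nlinarith
    have : -2 < Δ χ := by nlinarith
    omega
  have hcard : s.card = 3 := by
    have : ∑ χ ∈ s, Δ χ * Δ χ = (s.card : ℤ) := by
      rw [Finset.sum_congr rfl fun χ hχ => show Δ χ * Δ χ = 1 by
        rcases hΔ1 χ hχ with e | e <;> simp [e]]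
      simp
    omega
  have hA1 : ∀ χ ∈ s, A χ = 1 ∨ A χ = -1 := by
    intro χ hχ
    have hne : χ ≠ τ := (Finset.mem_filter.1 hχ).2.1
    have hodd : ∀ ψ ∈ s, A ψ % 2 = 1 := fun ψ hψ => by
      obtain ⟨c₁, hc₁⟩ := hd1 ψ; obtain ⟨c₂, hc₂⟩ := hd2 ψ
      rcases hΔ1 ψ hψ with e | e <;> omega
    have hge : ∀ ψ ∈ s, 1 ≤ A ψ * A ψ := fun ψ hψ =>
      Int.add_one_le_iff.2 (mul_self_pos.2 (by have := hodd ψ hψ; omega))
    have h7 : ∑ ψ ∈ s, A ψ * A ψ ≤ 7 := by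
      have hle := Finset.sum_le_sum_of_subset_of_nonneg
        (Finset.subset_univ (insert τ s)) (f := fun χ => A χ * A χ) fun i _ _ => mul_self_nonneg _
      rw [oαα, Finset.sum_insert (by simp [hs] : τ ∉ s), hτA'] at hle
      omega
    rw [← Finset.add_sum_erase _ _ hχ] at h7
    have := Finset.card_nsmul_le_sum (s.erase χ) (fun ψ => A ψ * A ψ) 1
      fun ψ hψ => hge ψ (Finset.mem_of_mem_erase hψ)
    rw [Finset.card_erase_of_mem hχ, hcard, nsmul_eq_mul, mul_one] at this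
    have h5 : A χ * A χ ≤ 5 := by push_cast at this; linarith
    have : A χ < 3 := by nlinarith
    have : -3 < A χ := by nlinarith
    have := hodd χ hχ
    omega
  have hD2 : ∀ χ ∈ s, 1 < D χ := by
    intro χ hχ
    refine lt_of_le_of_ne (hD0 χ) fun e => (Finset.mem_filter.1 hχ).2.1 ?_
    obtain ⟨lam, hlam⟩ := CharBasicLinear.exists_hom_of_apply_one_eq_one
      (isCharacter_of_isIrrCharacter χ.2) (by rw [hD1, ← e, Nat.cast_one])
    rcases SimpleOrder.eq_bot_or_top (MonoidHom.normal_ker lam) with hk | hk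
    · exact absurd ⟨⟨fun a b => (MonoidHom.ker_eq_bot_iff lam).1 hk (by
        rw [map_mul, map_mul, mul_comm])⟩⟩ (not_comm h)
    · refine Subtype.ext (hlam.trans (funext fun g => ?_))
      rw [MonoidHom.mem_ker.1 (hk ▸ Subgroup.mem_top g : g ∈ lam.ker)]
      rfl
  have hDsq : ∀ χ ∈ s, (D χ : ℤ) * D χ < Nat.card G := by
    intro χ hχ
    rw [← o11]
    refine Finset.single_lt_sum (f := fun χ => (D χ : ℤ) * D χ)
      (Ne.symm (Finset.mem_filter.1 hχ).2.1) (Finset.mem_univ χ) (Finset.mem_univ τ)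
      (by simp [hτD']) fun k _ _ => mul_self_nonneg _
  obtain ⟨χ₁, χ₂, χ₃, h12, h13, h23, hs3⟩ := Finset.card_eq_three.1 hcard
  have m1 : χ₁ ∈ s := by simp [hs3]
  have m2 : χ₂ ∈ s := by simp [hs3]
  have m3 : χ₃ ∈ s := by simp [hs3]
  rw [hs3, Finset.sum_insert (by simp [h12, h13]), Finset.sum_pair h23] at oxα ox1 htriple
  set g : ℤ := (Nat.card G : ℤ) with hg
  -- the unknowns `u = δ d`
  have hU : ∀ χ ∈ s, (Δ χ * D χ) % 4 = (if Δ χ * A χ = 1 then 1 else 3) ∧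
      1 < (Δ χ * D χ).natAbs ∧ Δ χ * D χ * (Δ χ * D χ) < g ∧ Δ χ * D χ ∣ g ∧
      ((A χ : ℂ) * A χ * Δ χ / D χ = 1 / ((Δ χ * D χ : ℤ) : ℂ)) := by
    intro χ hχ
    obtain ⟨c₁, hc₁⟩ := hd1 χ
    have hD := hD2 χ hχ
    have hs' := hDsq χ hχ
    have hdvd : (D χ : ℤ) ∣ g := Int.natCast_dvd_natCast.2 (hDdvd χ)
    have hΔ2 : Δ χ * Δ χ = 1 := by rcases hΔ1 χ hχ with e | e <;> rw [e] <;> rfl
    have hA2 : (A χ : ℂ) * A χ = 1 := by
      have : A χ * A χ = 1 := by rcases hA1 χ hχ with e | e <;> rw [e] <;> rfl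
      exact_mod_cast this
    refine ⟨?_, ?_, ?_, ?_, ?_⟩
    · rcases hΔ1 χ hχ with e | e <;> rcases hA1 χ hχ with e' | e' <;>
        rw [e, e'] <;> rw [e'] at hc₁ <;> norm_num <;> omega
    · rcases hΔ1 χ hχ with e | e <;> rw [e] <;> omega
    · rw [show Δ χ * (D χ : ℤ) * (Δ χ * D χ) = (Δ χ * Δ χ) * ((D χ : ℤ) * D χ) by ring, hΔ2, one_mul]
      exact hs'
    · rcases hΔ1 χ hχ with e | e <;> rw [e]
      · simpa using hdvd
      · simpa using hdvd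
    · have hD0' : (D χ : ℂ) ≠ 0 := by exact_mod_cast (hD0 χ).ne'
      have hΔ2' : (Δ χ : ℂ) * Δ χ = 1 := by exact_mod_cast hΔ2
      have hΔ0 : (Δ χ : ℂ) ≠ 0 := left_ne_zero_of_mul_eq_one hΔ2'
      push_cast
      rw [hA2, one_mul, div_eq_div_iff hD0' (mul_ne_zero hΔ0 hD0')]
      linear_combination (D χ : ℂ) * hΔ2'
  obtain ⟨a1, a2, a3, a4, a5⟩ := hU χ₁ m1
  obtain ⟨b1, b2, b3, b4, b5⟩ := hU χ₂ m2
  obtain ⟨c1, c2, c3, c4, c5⟩ := hU χ₃ m3
  rw [a5, b5, c5] at htriple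
  set u₁ := Δ χ₁ * (D χ₁ : ℤ)
  set u₂ := Δ χ₂ * (D χ₂ : ℤ)
  set u₃ := Δ χ₃ * (D χ₃ : ℤ)
  have hsum : u₁ + u₂ + u₃ = -1 := by linarith
  have heq : g * (u₁ * u₂ * u₃ + u₂ * u₃ + u₁ * u₃ + u₁ * u₂) = 256 * (u₁ * u₂ * u₃) := by
    have hg0 : (g : ℂ) ≠ 0 :=
      Int.cast_ne_zero.2 (by have := Nat.card_pos (α := G); omega)
    have : (u₁ : ℂ) ≠ 0 := by exact_mod_cast (show u₁ ≠ 0 by omega)
    have : (u₂ : ℂ) ≠ 0 := by exact_mod_cast (show u₂ ≠ 0 by omega)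
    have : (u₃ : ℂ) ≠ 0 := by exact_mod_cast (show u₃ ≠ 0 by omega)
    rw [show (Nat.card G : ℂ) = (g : ℂ) by rw [hg, Int.cast_natCast]] at htriple
    field_simp at htriple
    have key : ((g * (u₁ * u₂ * u₃ + u₂ * u₃ + u₁ * u₃ + u₁ * u₂) : ℤ) : ℂ) =
        ((256 * (u₁ * u₂ * u₃) : ℤ) : ℂ) := by
      push_cast
      linear_combination htriple
    exact Int.cast_injective key
  have hg16 : g % 16 = 8 := by
    have := card_mod h
    omega
  have heq' : ∀ a b c : ℤ, a * b * c + b * c + a * c + a * b =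
      b * a * c + a * c + b * c + b * a := fun a b c => by ring
  have heq'' : ∀ a b c : ℤ, a * b * c + b * c + a * c + a * b =
      c * b * a + b * a + c * a + c * b := fun a b c => by ring
  rcases hΔ1 χ₁ m1 with e₁ | e₁ <;> rcases hA1 χ₁ m1 with f₁ | f₁ <;>
    rcases hΔ1 χ₂ m2 with e₂ | e₂ <;> rcases hA1 χ₂ m2 with f₂ | f₂ <;>
    rcases hΔ1 χ₃ m3 with e₃ | e₃ <;> rcases hA1 χ₃ m3 with f₃ | f₃ <;>
    (rw [e₁, f₁, e₂, f₂, e₃, f₃] at oxα) <;> norm_num at oxα <;>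
    (simp only [e₁, f₁, e₂, f₂, e₃, f₃] at a1 b1 c1) <;> norm_num at a1 b1 c1 <;>
    first
    | exact (arith hsum heq a1 b1 c1 hg16 a2 b2 c2 a3 b3 c3 a4 b4 c4).imp
        (fun e => by omega) (fun e => by omega)
    | exact (arith (u₁ := u₂) (u₂ := u₁) (u₃ := u₃) (by linarith)
        (by rw [← heq', heq]; ring) b1 a1 c1 hg16 b2 a2 c2 b3 a3 c3 b4 a4 c4).imp
        (fun e => by omega) (fun e => by omega)
    | exact (arith (u₁ := u₃) (u₂ := u₂) (u₃ := u₁) (by linarith)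
        (by rw [← heq'', heq]; ring) c1 b1 a1 hg16 c2 b2 a2 c3 b3 a3 c4 b4 a4).imp
        (fun e => by omega) (fun e => by omega)

end Cfsg.Agent.CHZA6Order
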