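import Cfsg.Agent.Lib.CIT21Defs
import Cfsg.Agent.Lib.BaerSuzuki

/-!
# CIT groups: `2`-local basics (S0348)
-/

set_option autoImplicit false

namespace Cfsg.Agent.CIT21

open Subgroup
open scoped Pointwise

variable {G : Type*} [Group G]

/-- A `2`-element. -/
def TwoElt (g : G) : Prop := ∃ k : ℕ, g ^ (2 ^ k) = 1

theorem twoElt_of_mem {P : Subgroup G} (hP : IsPGroup 2 P) {g : G} (hg : g ∈ P) : TwoElt g := by
  obtain ⟨k, hk⟩ := hP ⟨g, hg⟩
  exact ⟨k, by simpa using congrArg Subtype.val hk⟩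

theorem isPGroup_of_forall {P : Subgroup G} (h : ∀ g ∈ P, TwoElt g) : IsPGroup 2 P :=
  fun g => (h g g.2).imp fun _ hk => Subtype.ext (by simpa using hk)

theorem twoElt_sq {g : G} (hg : g * g = 1) : TwoElt g := ⟨1, by rw [pow_one, pow_two, hg]⟩

theorem twoElt_conj {g : G} (hg : TwoElt g) (x : G) : TwoElt (x * g * x⁻¹) :=
  hg.imp fun k hk => by rw [conj_pow, hk, mul_one, mul_inv_cancel]

theorem mem_centralizer' {S : Set G} {g : G} :
    g ∈ centralizer S ↔ ∀ s ∈ S, s * g = g * s := mem_centralizer_iff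

theorem mem_centralizer_one {t g : G} : g ∈ centralizer ({t} : Set G) ↔ t * g = g * t := by
  rw [mem_centralizer_iff]; simp

theorem orderOf_eq_two {t : G} (h : t * t = 1) (h1 : t ≠ 1) : orderOf t = 2 :=
  orderOf_eq_prime (by rw [pow_two, h]) h1

theorem mul_self_of_orderOf {t : G} (h : orderOf t = 2) : t * t = 1 := by
  have := pow_orderOf_eq_one t
  rwa [h, pow_two] at this

/-- An element of odd order which is a `2`-element is trivial. -/
theorem eq_one_of_odd_twoElt {g : G} (ho : Odd (orderOf g)) (h2 : TwoElt g) : g = 1 := by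
  obtain ⟨k, hk⟩ := h2
  have h := Nat.eq_one_of_dvd_coprimes (ho.coprime_two_right.pow_right k) dvd_rfl
    (orderOf_dvd_of_pow_eq_one hk)
  exact orderOf_eq_one_iff.1 h

section Finite

variable [Finite G] {hG : IsCIT G}

theorem isPGroup_centralizer_elt (hG : IsCIT G) {g : G} (h2 : TwoElt g) (hne : g ≠ 1) :
    IsPGroup 2 (centralizer ({g} : Set G)) := by
  classical
  obtain ⟨k, hk, hmin⟩ : ∃ k, g ^ (2 ^ k) = 1 ∧ ∀ j < k, g ^ (2 ^ j) ≠ 1 :=
    ⟨Nat.find h2, Nat.find_spec h2, fun j hj => Nat.find_min h2 hj⟩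
  obtain ⟨j, rfl⟩ : ∃ j, k = j + 1 := by
    refine ⟨k - 1, ?_⟩
    rcases k with _ | k
    · exact absurd (by simpa using hk) hne
    · simp
  have ht : orderOf (g ^ (2 ^ j)) = 2 :=
    orderOf_eq_two (by rw [← pow_add, ← two_mul, ← pow_succ', hk]) (hmin j (Nat.lt_succ_self j))
  refine (hG _ ht).to_le fun x hx => ?_
  rw [mem_centralizer_one] at hx ⊢
  exact ((show Commute g x from hx).pow_left _).eq

theorem eq_one_of_commute (hG : IsCIT G) {x y : G} (hx : Odd (orderOf x)) (hy : TwoElt y)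
    (hy1 : y ≠ 1) (h : x * y = y * x) : x = 1 :=
  eq_one_of_odd_twoElt hx
    (twoElt_of_mem (isPGroup_centralizer_elt hG hy hy1) (mem_centralizer_one.2 h.symm))

/-- Odd order elements act fixed point freely on `2`-groups. -/
theorem fpf (hG : IsCIT G) {P : Subgroup G} (hP : IsPGroup 2 P) {x y : G} (hx : Odd (orderOf x))
    (hx1 : x ≠ 1) (hy : y ∈ P) (h : x * y = y * x) : y = 1 :=
  by_contra fun hy1 => hx1 (eq_one_of_commute hG hx (twoElt_of_mem hP hy) hy1 h)

theorem isPGroup_centralizer (hG : IsCIT G) {P : Subgroup G} (hP : IsPGroup 2 P) (hne : P ≠ ⊥) :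
    IsPGroup 2 (centralizer (P : Set G)) := by
  obtain ⟨g, hg, hg1⟩ := P.ne_bot_iff_exists_ne_one.1 hne |> fun ⟨g, h⟩ =>
    (⟨(g : G), g.2, fun e => h (Subtype.ext (by simpa using e))⟩ : ∃ g, g ∈ P ∧ g ≠ (1 : G))
  exact (isPGroup_centralizer_elt hG (twoElt_of_mem hP hg) hg1).to_le
    (centralizer_le (Set.singleton_subset_iff.2 hg))

/-! ### `O₂` of a subgroup -/

theorem O2_le (N : Subgroup G) : O2 N ≤ N := map_subtype_le _

theorem isPGroup_pCore_two (N : Subgroup G) : IsPGroup 2 (Cfsg.pCore 2 N) := by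
  haveI : Fact (Nat.Prime 2) := ⟨Nat.prime_two⟩
  refine (default : Sylow 2 N).isPGroup'.to_le (sSup_le fun K ⟨hK, hKp⟩ => ?_)
  obtain ⟨T, hT⟩ := hKp.exists_le_sylow
  obtain ⟨g, hg⟩ := MulAction.exists_smul_eq N T (default : Sylow 2 N)
  intro x hx
  rw [← hg, Sylow.coe_subgroup_smul]
  have h1 := hT (hK.conj_mem x hx g⁻¹)
  have := smul_mem_pointwise_smul _ (MulAut.conj g) _ h1
  simpa [mul_assoc] using this

theorem isPGroup_O2 (N : Subgroup G) : IsPGroup 2 (O2 N) := (isPGroup_pCore_two N).map _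

theorem le_O2 {N P : Subgroup G} (hPN : P ≤ N) (hn : N ≤ normalizer (P : Set G))
    (hP : IsPGroup 2 P) : P ≤ O2 N := by
  have h1 : P.subgroupOf N ≤ Cfsg.pCore 2 N :=
    le_sSup ⟨normal_subgroupOf_of_le_normalizer hn,
      hP.comap_of_injective _ (subtype_injective N)⟩
  intro x hx
  exact ⟨⟨x, hPN hx⟩, h1 hx, rfl⟩

theorem pCore_two_normal (N : Subgroup G) : (Cfsg.pCore 2 N).Normal := by
  have h : ∀ g : N, Cfsg.pCore 2 N ≤ (Cfsg.pCore 2 N).comap (MulAut.conj g).toMonoidHom :=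
    fun g => sSup_le fun K ⟨hK, hKp⟩ x hx =>
      mem_comap.2 ((le_sSup ⟨hK, hKp⟩ : K ≤ Cfsg.pCore 2 N) (hK.conj_mem x hx g))
  exact ⟨fun x hx g => h g hx⟩

theorem O2_conj_mem {N : Subgroup G} {n x : G} (hn : n ∈ N) (hx : x ∈ O2 N) :
    n * x * n⁻¹ ∈ O2 N := by
  obtain ⟨y, hy, rfl⟩ := hx
  exact ⟨⟨n, hn⟩ * y * ⟨n, hn⟩⁻¹, (pCore_two_normal N).conj_mem y hy ⟨n, hn⟩, rfl⟩

theorem le_normalizer_O2 (N : Subgroup G) : N ≤ normalizer (O2 N : Set G) := by
  intro n hn
  rw [mem_normalizer_iff]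
  intro x
  refine ⟨O2_conj_mem hn, fun hx => ?_⟩
  have := O2_conj_mem (N.inv_mem hn) hx
  simpa [mul_assoc] using this

/-- A normal `2`-subgroup is centralised only by `O₂`. -/
theorem centralizer_inf_le_O2 (hG : IsCIT G) {N P : Subgroup G} (hn : N ≤ normalizer (P : Set G))
    (hP : IsPGroup 2 P) (hne : P ≠ ⊥) : N ⊓ centralizer (P : Set G) ≤ O2 N := by
  refine le_O2 inf_le_left ?_ ((isPGroup_centralizer hG hP hne).to_le inf_le_right)
  intro n hnN
  rw [mem_normalizer_iff]
  have key : ∀ m ∈ N, ∀ c ∈ N ⊓ centralizer (P : Set G),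
      m * c * m⁻¹ ∈ N ⊓ centralizer (P : Set G) := by
    rintro m hm c ⟨hcN, hc⟩
    refine ⟨N.mul_mem (N.mul_mem hm hcN) (N.inv_mem hm), fun p hp => ?_⟩
    have hp' : m⁻¹ * p * m ∈ P := by
      simpa using (mem_normalizer_iff.1 (hn (N.inv_mem hm)) p).1 hp
    calc p * (m * c * m⁻¹) = m * ((m⁻¹ * p * m) * c) * m⁻¹ := by group
      _ = m * (c * (m⁻¹ * p * m)) * m⁻¹ := by rw [hc _ hp']
      _ = m * c * m⁻¹ * p := by group
  intro c
  refine ⟨key n hnN c, fun h => ?_⟩
  have := key n⁻¹ (N.inv_mem hnN) _ h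
  simpa [mul_assoc] using this

/-! ### Conjugates generating a non-`2`-group -/

/-- A `2`-element of `N` outside `O₂(N)` generates a non-`2`-group with a conjugate. -/
theorem exists_conj_not_pGroup {N : Subgroup G} {y : G} (hyN : y ∈ N) (hy : TwoElt y)
    (hyO : y ∉ O2 N) :
    ∃ g ∈ N, ¬ IsPGroup 2 (closure ({y, g * y * g⁻¹} : Set G)) := by
  by_contra hcon
  push Not at hcon
  haveI : Fact (Nat.Prime 2) := ⟨Nat.prime_two⟩
  have hX : IsPGroup 2 (zpowers (⟨y, hyN⟩ : N)) := by
    obtain ⟨k, hk⟩ := hy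
    obtain ⟨j, -, hj⟩ := (Nat.dvd_prime_pow Nat.prime_two).1 (orderOf_dvd_of_pow_eq_one hk)
    exact IsPGroup.of_card (n := j) (by rw [Nat.card_zpowers, orderOf_mk, hj])
  obtain ⟨K, hK, hKp, hle⟩ := BaerSuzuki.exists_normal_pGroup_of_pairs (G := N) _ hX fun g => by
    refine (isPGroup_of_forall (G := N) fun z hz => ?_)
    have h2 := twoElt_of_mem (hcon g g.2) (g := (z : G)) ?_
    · exact h2.imp fun k hk => Subtype.ext (by simpa using hk)
    · have hsub : zpowers (⟨y, hyN⟩ : N) ⊔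
          (zpowers (⟨y, hyN⟩ : N)).map (MulAut.conj g).toMonoidHom ≤
            (closure ({y, (g : G) * y * (g : G)⁻¹} : Set G)).comap N.subtype := by
        refine sup_le (zpowers_le.2 (subset_closure (by simp))) ?_
        rw [MonoidHom.map_zpowers]
        exact zpowers_le.2 (subset_closure (by simp))
      exact hsub hz
  exact hyO ⟨⟨y, hyN⟩, (le_sSup ⟨hK, hKp⟩ : K ≤ Cfsg.pCore 2 N) (hle (mem_zpowers _)), rfl⟩

theorem fixed_disjoint (hG : IsCIT G) {P : Subgroup G} (hP : IsPGroup 2 P) {y z : G}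
    (h : ¬ IsPGroup 2 (closure ({y, z} : Set G))) :
    P ⊓ centralizer ({y} : Set G) ⊓ (P ⊓ centralizer ({z} : Set G)) = ⊥ := by
  rw [eq_bot_iff]
  rintro d ⟨⟨hd, hdy⟩, -, hdz⟩
  rw [mem_bot]
  by_contra hd1
  refine h ((isPGroup_centralizer_elt hG (twoElt_of_mem hP hd) hd1).to_le ?_)
  rw [closure_le]
  rintro w (rfl | rfl)
  · exact mem_centralizer_one.2 (mem_centralizer_one.1 hdy).symm
  · exact mem_centralizer_one.2 (mem_centralizer_one.1 hdz).symm

/-- Two disjoint subgroups of `P`. -/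
theorem card_mul_le_of_disjoint {A B P : Subgroup G} (hA : A ≤ P) (hB : B ≤ P) (h : A ⊓ B = ⊥) :
    Nat.card A * Nat.card B ≤ Nat.card P := by
  rw [← Nat.card_prod]
  refine Nat.card_le_card_of_injective
    (fun ab : A × B => (⟨(ab.1 : G) * ab.2, P.mul_mem (hA ab.1.2) (hB ab.2.2)⟩ : P)) ?_
  exact fun ab ab' e => (mul_injective_of_disjoint (disjoint_iff.2 h)) (congrArg Subtype.val e)

theorem card_fixed_conj {P : Subgroup G} {y g : G} (hg : g ∈ normalizer (P : Set G)) :
    Nat.card ↥(P ⊓ centralizer ({g * y * g⁻¹} : Set G)) =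
      Nat.card ↥(P ⊓ centralizer ({y} : Set G)) := by
  have h : P ⊓ centralizer ({g * y * g⁻¹} : Set G) =
      (P ⊓ centralizer ({y} : Set G)).map (MulAut.conj g).toMonoidHom := by
    ext x
    rw [mem_map_equiv, mem_inf, mem_inf, mem_centralizer_one, mem_centralizer_one]
    simp only [MulAut.conj_symm_apply]
    refine and_congr ?_ ⟨fun h => ?_, fun h => ?_⟩
    · rw [mem_normalizer_iff.1 hg (g⁻¹ * x * g)]
      simp [mul_assoc]
    · calc y * (g⁻¹ * x * g) = g⁻¹ * (g * y * g⁻¹ * x) * g := by group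
        _ = g⁻¹ * (x * (g * y * g⁻¹)) * g := by rw [h]
        _ = g⁻¹ * x * g * y := by group
    · calc g * y * g⁻¹ * x = g * (y * (g⁻¹ * x * g)) * g⁻¹ := by group
        _ = g * (g⁻¹ * x * g * y) * g⁻¹ := by rw [h]
        _ = x * (g * y * g⁻¹) := by group
  rw [h, card_map_of_injective (MulEquiv.injective _)]

/-- A `2`-element outside `O₂(N)` fixes at most a square root of every `N`-invariant `2`-group. -/
theorem card_fixed_sq_le (hG : IsCIT G) {N P : Subgroup G} (hn : N ≤ normalizer (P : Set G))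
    (hP : IsPGroup 2 P) {y : G} (hyN : y ∈ N) (hy : TwoElt y) (hyO : y ∉ O2 N) :
    Nat.card ↥(P ⊓ centralizer ({y} : Set G)) ^ 2 ≤ Nat.card P := by
  obtain ⟨g, hg, hnot⟩ := exists_conj_not_pGroup hyN hy hyO
  have h := card_mul_le_of_disjoint (P := P) inf_le_left inf_le_left (fixed_disjoint hG hP hnot)
  rw [card_fixed_conj (hn hg), ← pow_two] at h
  exact h

/-! ### Involutions inverting elements of odd order -/

theorem inverts_pow {t x : G} (ht : t * t = 1) (h : t * x * t = x⁻¹) (k : ℕ) :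
    t * x ^ k * t = (x ^ k)⁻¹ := by
  induction k with
  | zero => simp [ht]
  | succ k ih =>
    calc t * x ^ (k + 1) * t = (t * x ^ k * t) * (t * x * t) := by
          rw [pow_succ]; simp only [mul_assoc]; rw [← mul_assoc t t, ht, one_mul]
      _ = (x ^ k)⁻¹ * x⁻¹ := by rw [ih, h]
      _ = (x ^ (k + 1))⁻¹ := by rw [← mul_inv_rev, ← pow_succ']

theorem exists_conj_mul {t x : G} (ht : t * t = 1) (h : t * x * t = x⁻¹) (hx : Odd (orderOf x)) :
    ∃ j : ℕ, t * x = (x ^ j)⁻¹ * t * x ^ j := by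
  obtain ⟨j, hj⟩ := hx
  have hxj : x ^ (2 * (j + 1)) = x := by
    rw [show 2 * (j + 1) = orderOf x + 1 by omega, pow_succ, pow_orderOf_eq_one, one_mul]
  refine ⟨j + 1, ?_⟩
  calc t * x = t * (x ^ (j + 1) * x ^ (j + 1)) := by rw [← pow_add, ← two_mul, hxj]
    _ = (t * x ^ (j + 1) * t) * t * x ^ (j + 1) := by
        simp only [mul_assoc]; rw [← mul_assoc t t, ht, one_mul]
    _ = (x ^ (j + 1))⁻¹ * t * x ^ (j + 1) := by rw [inverts_pow ht h]

/-- An involution inverting a nontrivial element of odd order fixes exactly a square root of every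
invariant `2`-group. -/
theorem card_fixed_sq (hG : IsCIT G) {P : Subgroup G} (hP : IsPGroup 2 P) {t x : G}
    (ht : orderOf t = 2) (hx : Odd (orderOf x)) (hx1 : x ≠ 1) (hinv : t * x * t = x⁻¹)
    (htP : t ∈ normalizer (P : Set G)) (hxP : x ∈ normalizer (P : Set G)) :
    Nat.card ↥(P ⊓ centralizer ({t} : Set G)) ^ 2 = Nat.card P := by
  classical
  have htt := mul_self_of_orderOf ht
  obtain ⟨j, hj⟩ := exists_conj_mul htt hinv hx
  set C₁ := P ⊓ centralizer ({t} : Set G) with hC₁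
  set C₂ := P ⊓ centralizer ({t * x} : Set G) with hC₂
  have hcard : Nat.card C₂ = Nat.card C₁ := by
    have h := card_fixed_conj (P := P) (y := t)
      (g := (x ^ j)⁻¹) (inv_mem (pow_mem hxP j))
    rw [inv_inv, ← hj] at h
    exact h
  have hdis : C₁ ⊓ C₂ = ⊥ := by
    rw [eq_bot_iff]
    rintro d ⟨⟨hd, hdt⟩, -, hds⟩
    rw [mem_bot]
    have e1 := mem_centralizer_one.1 hdt
    have e2 := mem_centralizer_one.1 hds
    refine fpf hG hP hx hx1 hd (mul_left_cancel (a := t) ?_)
    calc t * (x * d) = d * (t * x) := by rw [← mul_assoc, e2]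
      _ = t * (d * x) := by rw [← mul_assoc, ← e1, mul_assoc]
  have hle := card_mul_le_of_disjoint (P := P) inf_le_left inf_le_left hdis
  rw [hcard] at hle
  -- injectivity of the pairs
  have hs : t * x * (t * x) = 1 := by
    rw [← mul_assoc, mul_assoc t x t, show t * (x * t) = t * x * t by group, hinv, inv_mul_cancel]
  let f : (P ⧸ C₁.subgroupOf P) × (P ⧸ C₂.subgroupOf P) → P := fun ab =>
    ⟨x⁻¹ * ((ab.1.out : G) * t * (ab.1.out : G)⁻¹) * ((ab.2.out : G) * (t * x) * (ab.2.out : G)⁻¹),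
      by
        have ha := ab.1.out.2
        have hb := ab.2.out.2
        have h1 : ∀ {n p : G}, n ∈ normalizer (P : Set G) → p ∈ P → n * p * n⁻¹ ∈ P :=
          fun hn hp => (mem_normalizer_iff.1 hn _).1 hp
        have hxt : x⁻¹ ∈ normalizer (P : Set G) := inv_mem hxP
        have e : x⁻¹ * ((ab.1.out : G) * t * (ab.1.out : G)⁻¹) *
            ((ab.2.out : G) * (t * x) * (ab.2.out : G)⁻¹) =
              (x⁻¹ * (ab.1.out : G) * x⁻¹⁻¹) *
              ((x⁻¹ * t) * ((ab.1.out : G)⁻¹ * (ab.2.out : G)) * (x⁻¹ * t)⁻¹) *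
              (ab.2.out : G)⁻¹ * (x⁻¹ * t * (t * x)) := by
          have e2 : (x⁻¹ * t)⁻¹ = t * x := by
            rw [mul_inv_rev, inv_inv, inv_eq_of_mul_eq_one_right htt]
          have e3 : x⁻¹ * t * (t * x) = 1 := by
            rw [mul_assoc, ← mul_assoc t, htt, one_mul, inv_mul_cancel]
          rw [e2, e3]; group
        rw [e, show x⁻¹ * t * (t * x) = 1 by
          rw [mul_assoc, ← mul_assoc t, htt, one_mul, inv_mul_cancel], mul_one]
        exact P.mul_mem (P.mul_mem (h1 hxt ha)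
          (h1 (mul_mem hxt htP) (P.mul_mem (P.inv_mem ha) hb))) (P.inv_mem hb)⟩
  have hf : Function.Injective f := by
    rintro ⟨a, b⟩ ⟨a', b'⟩ e
    have e1 := congrArg Subtype.val e
    simp only [f] at e1
    have e2 : (a.out : G) * t * (a.out : G)⁻¹ * ((b.out : G) * (t * x) * (b.out : G)⁻¹) =
        (a'.out : G) * t * (a'.out : G)⁻¹ * ((b'.out : G) * (t * x) * (b'.out : G)⁻¹) :=
      mul_left_cancel (a := x⁻¹) (by simpa only [mul_assoc] using e1)
    set u := (a.out : G) * t * (a.out : G)⁻¹ with hu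
    set u' := (a'.out : G) * t * (a'.out : G)⁻¹ with hu'
    set v := (b.out : G) * (t * x) * (b.out : G)⁻¹ with hv
    set v' := (b'.out : G) * (t * x) * (b'.out : G)⁻¹ with hv'
    have huu : u * u = 1 := by
      rw [hu]; calc _ = (a.out : G) * (t * t) * (a.out : G)⁻¹ := by group
        _ = 1 := by rw [htt]; group
    have huu' : u' * u' = 1 := by
      rw [hu']; calc _ = (a'.out : G) * (t * t) * (a'.out : G)⁻¹ := by group
        _ = 1 := by rw [htt]; group
    have hvv : v * v = 1 := by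
      rw [hv]; calc _ = (b.out : G) * (t * x * (t * x)) * (b.out : G)⁻¹ := by group
        _ = 1 := by rw [hs]; group
    have hvv' : v' * v' = 1 := by
      rw [hv']; calc _ = (b'.out : G) * (t * x * (t * x)) * (b'.out : G)⁻¹ := by group
        _ = 1 := by rw [hs]; group
    -- `w = u' * u` lies in `P` and commutes with `u * v`
    have hw : u' * u ∈ P := by
      have : u' * u = (a'.out : G) * (t * ((a'.out : G)⁻¹ * (a.out : G)) * t⁻¹) *
          (a.out : G)⁻¹ * (t * t) := by
        rw [hu, hu', inv_eq_of_mul_eq_one_right htt]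
        calc _ = (a'.out : G) * t * (a'.out : G)⁻¹ * (a.out : G) * t * (a.out : G)⁻¹ := by group
          _ = _ := by rw [htt]; group
      rw [this, htt, mul_one]
      exact P.mul_mem (P.mul_mem a'.out.2 ((mem_normalizer_iff.1 htP _).1
        (P.mul_mem (P.inv_mem a'.out.2) a.out.2))) (P.inv_mem a.out.2)
    have hcom : (u * v) * (u' * u) = (u' * u) * (u * v) := by
      have h1 : u' * u * (u * v) = u' * v := by
        rw [mul_assoc, ← mul_assoc u u, huu, one_mul]
      have hi1 : (u * v)⁻¹ = v * u := inv_eq_of_mul_eq_one_right (by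
        rw [mul_assoc, ← mul_assoc v v, hvv, one_mul, huu])
      have hi2 : (u' * v')⁻¹ = v' * u' := inv_eq_of_mul_eq_one_right (by
        rw [mul_assoc, ← mul_assoc v' v', hvv', one_mul, huu'])
      have h4 : u * (u * v) * u = (u * v)⁻¹ := by
        rw [hi1, ← mul_assoc u u, huu, one_mul]
      have h5 : u' * (u * v) * u' = (u * v)⁻¹ := by
        rw [e2, hi2, ← mul_assoc u' u', huu', one_mul]
      have h6 : u' * (u * (u * v) * u) * u' = u * v := by
        rw [h4]
        have := congrArg (fun z => z⁻¹) h5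
        simp only [mul_inv_rev, inv_inv, inv_eq_of_mul_eq_one_right huu'] at this
        rw [mul_inv_rev]
        simpa only [mul_assoc] using this
      calc u * v * (u' * u) = u' * (u * (u * v) * u) * u' * (u' * u) := by rw [h6]
        _ = u' * u * (u * v) * (u * ((u' * u') * u)) := by group
        _ = u' * u * (u * v) := by rw [huu', one_mul, huu, mul_one]
    have hq : u * v ∈ (fun d : P => x * (d : G)) '' Set.univ := ⟨f (a, b), trivial, by
      simp only [f, hu, hv]; group⟩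
    obtain ⟨d, -, hd⟩ := hq
    -- the elements of `x P` are conjugate to `x`
    have hsurj : ∃ c ∈ P, u * v = c * x * c⁻¹ := by
      let φ : P → P := fun c => ⟨x⁻¹ * (c : G) * x * (c : G)⁻¹,
        P.mul_mem (by simpa using (mem_normalizer_iff.1 (inv_mem hxP) (c : G)).1 c.2)
          (P.inv_mem c.2)⟩
      have hφ : Function.Injective φ := by
        intro c c' e'
        have e'' := congrArg Subtype.val e'
        simp only [φ] at e''
        have hc : x * ((c : G)⁻¹ * (c' : G)) = (c : G)⁻¹ * (c' : G) * x := by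
          have h7 : (c : G) * x * (c : G)⁻¹ = (c' : G) * x * (c' : G)⁻¹ := by
            simpa [mul_assoc] using e''
          calc x * ((c : G)⁻¹ * (c' : G)) = (c : G)⁻¹ * ((c : G) * x * (c : G)⁻¹) * (c' : G) := by
                group
            _ = (c : G)⁻¹ * ((c' : G) * x * (c' : G)⁻¹) * (c' : G) := by rw [h7]
            _ = _ := by group
        exact Subtype.ext (inv_mul_eq_one.1
          (fpf hG hP hx hx1 (P.mul_mem (P.inv_mem c.2) c'.2) hc))
      obtain ⟨c, hc⟩ := (Finite.injective_iff_surjective.1 hφ) d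
      refine ⟨c, c.2, ?_⟩
      rw [← hd, ← hc]
      simp only [φ]; group
    obtain ⟨c, hcP, hcx⟩ := hsurj
    have h8 : u' * u = 1 := by
      rw [hcx] at hcom
      refine fpf hG hP (x := c * x * c⁻¹) ?_ ?_ hw hcom
      · rwa [← MulAut.conj_apply, MulEquiv.orderOf_eq]
      · intro h9
        exact hx1 (by simpa [mul_inv_eq_one] using h9)
    have huEq : u' = u := by
      calc u' = u' * (u * u) := by rw [huu, mul_one]
        _ = u := by rw [← mul_assoc, h8, one_mul]
    have hvEq : v = v' := by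
      have := e2
      rw [huEq] at this
      exact mul_left_cancel this
    have ha : a = a' := by
      rw [← Quotient.out_eq a, ← Quotient.out_eq a']
      refine Quotient.sound' ((QuotientGroup.leftRel_apply).2 (mem_subgroupOf.2 ⟨?_, ?_⟩))
      · exact P.mul_mem (P.inv_mem a.out.2) a'.out.2
      · refine mem_centralizer_one.2 ?_
        show t * ((a.out : G)⁻¹ * (a'.out : G)) = (a.out : G)⁻¹ * (a'.out : G) * t
        calc t * ((a.out : G)⁻¹ * (a'.out : G)) = (a.out : G)⁻¹ * u * (a'.out : G) := by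
              rw [hu]; group
          _ = (a.out : G)⁻¹ * u' * (a'.out : G) := by rw [huEq]
          _ = _ := by rw [hu']; group
    have hb : b = b' := by
      rw [← Quotient.out_eq b, ← Quotient.out_eq b']
      refine Quotient.sound' ((QuotientGroup.leftRel_apply).2 (mem_subgroupOf.2 ⟨?_, ?_⟩))
      · exact P.mul_mem (P.inv_mem b.out.2) b'.out.2
      · refine mem_centralizer_one.2 ?_
        show t * x * ((b.out : G)⁻¹ * (b'.out : G)) = (b.out : G)⁻¹ * (b'.out : G) * (t * x)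
        calc t * x * ((b.out : G)⁻¹ * (b'.out : G)) = (b.out : G)⁻¹ * v * (b'.out : G) := by
              rw [hv]; group
          _ = (b.out : G)⁻¹ * v' * (b'.out : G) := by rw [hvEq]
          _ = _ := by rw [hv']; group
    rw [ha, hb]
  have hcount := Nat.card_le_card_of_injective f hf
  rw [Nat.card_prod] at hcount
  have hi : ∀ C : Subgroup G, C ≤ P → Nat.card (P ⧸ C.subgroupOf P) * Nat.card C = Nat.card P :=
    fun C hC => by
      rw [← Nat.card_congr (subgroupOfEquivOfLe hC).toEquiv]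
      exact (card_eq_card_quotient_mul_card_subgroup _).symm
  have i1 := hi C₁ inf_le_left
  have i2 := hi C₂ inf_le_left
  rw [hcard] at i2
  have hpos : 0 < Nat.card P := Nat.card_pos
  refine le_antisymm (by rw [pow_two]; exact hle) ?_
  refine Nat.le_of_mul_le_mul_left ?_ hpos
  calc Nat.card P * Nat.card P
      = (Nat.card (P ⧸ C₁.subgroupOf P) * Nat.card (P ⧸ C₂.subgroupOf P)) * Nat.card C₁ ^ 2 := by
        nth_rewrite 1 [← i1]; rw [← i2]; ring
    _ ≤ Nat.card P * Nat.card C₁ ^ 2 := Nat.mul_le_mul_right _ hcount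

/-- A coset `y D` squaring into `D = O₂(N)` contains an involution inverting an element of odd
order. -/
theorem exists_involution_coset (hG : IsCIT G) {N : Subgroup G} {y : G} (hyN : y ∈ N)
    (hyO : y ∉ O2 N) (hy : y * y ∈ O2 N) (hne : O2 N ≠ ⊥) :
    ∃ t x : G, t ∈ N ∧ x ∈ N ∧ y⁻¹ * t ∈ O2 N ∧ orderOf t = 2 ∧ Odd (orderOf x) ∧ x ≠ 1 ∧
      t * x * t = x⁻¹ := by
  classical
  haveI : Fact (Nat.Prime 2) := ⟨Nat.prime_two⟩
  have hDp : IsPGroup 2 (O2 N) := isPGroup_O2 N
  have hN : N ≤ normalizer (O2 N : Set G) := le_normalizer_O2 N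
  have hy2 : TwoElt y := by
    obtain ⟨k, hk⟩ := twoElt_of_mem hDp hy
    exact ⟨k + 1, by rw [pow_succ', pow_mul, pow_two, hk]⟩
  obtain ⟨g, hg, hnot⟩ := exists_conj_not_pGroup hyN hy2 hyO
  set y' := g * y * g⁻¹ with hy'
  have hy'N : y' ∈ N := N.mul_mem (N.mul_mem hg hyN) (N.inv_mem hg)
  have hy'D : y' * y' ∈ O2 N := by
    rw [hy', show g * y * g⁻¹ * (g * y * g⁻¹) = g * (y * y) * g⁻¹ by group]
    exact O2_conj_mem hg hy
  set z := y * y' with hz
  have hzN : z ∈ N := N.mul_mem hyN hy'N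
  haveI hDn : ((O2 N).subgroupOf N).Normal := normal_subgroupOf_of_le_normalizer hN
  set q : N →* N ⧸ (O2 N).subgroupOf N := QuotientGroup.mk' _ with hq
  have hq1 : ∀ a : N, q a = 1 ↔ (a : G) ∈ O2 N := fun a => by
    rw [hq, QuotientGroup.mk'_apply, QuotientGroup.eq_one_iff, mem_subgroupOf]
  set Y : N := ⟨y, hyN⟩
  set Y' : N := ⟨y', hy'N⟩
  have hY2 : q Y * q Y = 1 := by rw [← map_mul, hq1]; exact hy
  have hY'2 : q Y' * q Y' = 1 := by rw [← map_mul, hq1]; exact hy'D
  -- `z` is not a `2`-element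
  have hz2 : ¬ TwoElt z := by
    rintro ⟨k, hk⟩
    refine hnot ?_
    set Q := (closure ({q Y, q Y'} : Set (N ⧸ (O2 N).subgroupOf N))).comap q with hQ
    have hQp : IsPGroup 2 Q := by
      refine IsPGroup.comap_of_ker_isPGroup ?_ q ?_
      · have hzq : (q Y * q Y') ^ (2 ^ k) = 1 := by
          rw [← map_mul, ← map_pow, hq1]; simpa [Y, Y', ← hz] using (hk.symm ▸ (O2 N).one_mem)
        set a := q Y
        set b := q Y'
        set r := a * b with hr
        have hrp : IsPGroup 2 (zpowers r) := by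
          obtain ⟨j, -, hj⟩ := (Nat.dvd_prime_pow Nat.prime_two).1 (orderOf_dvd_of_pow_eq_one hzq)
          exact IsPGroup.of_card (n := j) (by rw [Nat.card_zpowers, hj])
        have hap : IsPGroup 2 (zpowers a) := by
          obtain ⟨j, -, hj⟩ := (Nat.dvd_prime_pow Nat.prime_two).1
            (orderOf_dvd_of_pow_eq_one (show a ^ (2 ^ 1) = 1 by rw [pow_one, pow_two, hY2]))
          exact IsPGroup.of_card (n := j) (by rw [Nat.card_zpowers, hj])
        have hnorm : zpowers a ≤ normalizer (zpowers r : Set _) := by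
          rw [zpowers_le]
          have har : a * r * a⁻¹ = r⁻¹ := by
            rw [hr, mul_inv_rev, inv_eq_of_mul_eq_one_right hY2,
              inv_eq_of_mul_eq_one_right hY'2]
            simp only [← mul_assoc, hY2, one_mul]
          have hconj : ∀ w ∈ zpowers r, a * w * a⁻¹ ∈ zpowers r := by
            rintro w ⟨i, rfl⟩
            refine ⟨-i, ?_⟩
            simp only [zpow_neg]
            rw [← conj_zpow, har, inv_zpow]
          rw [mem_normalizer_iff]
          refine fun w => ⟨hconj w, fun hw => ?_⟩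
          have h3 := hconj _ hw
          rw [inv_eq_of_mul_eq_one_right hY2] at h3
          simpa [← mul_assoc, hY2, mul_assoc w a a] using h3
        refine (hap.to_sup_of_normal_right' hrp hnorm).to_le ?_
        rw [closure_le]
        rintro w (rfl | rfl)
        · exact le_sup_left (α := Subgroup _) (mem_zpowers a)
        · have hb : q Y' = a * r := by rw [hr, ← mul_assoc, hY2, one_mul]
          rw [SetLike.mem_coe]
          show q Y' ∈ _
          rw [hb]
          exact mul_mem (le_sup_left (α := Subgroup _) (mem_zpowers a))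
            (le_sup_right (α := Subgroup _) (mem_zpowers r))
      · rw [hq, QuotientGroup.ker_mk']
        exact hDp.comap_of_injective _ (subtype_injective N)
    refine (hQp.map N.subtype).to_le ?_
    rw [closure_le]
    rintro w (rfl | rfl)
    · exact ⟨Y, subset_closure (by simp), rfl⟩
    · exact ⟨Y', subset_closure (by simp), rfl⟩
  -- the odd part
  obtain ⟨k, m, hm, hkm⟩ := Nat.exists_eq_two_pow_mul_odd (orderOf_pos z).ne'
  set x₀ := z ^ (2 ^ k) with hx₀
  have hox : orderOf x₀ = m := by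
    rw [hx₀, orderOf_pow' z (by positivity), hkm, Nat.gcd_mul_right_left,
      Nat.mul_div_cancel_left _ (by positivity)]
  have hx1 : x₀ ≠ 1 := fun h => hz2 ⟨k, h⟩
  have hx0N : x₀ ∈ N := N.pow_mem hzN _
  have hxodd : Odd (orderOf x₀) := hox ▸ hm
  set X : N := ⟨x₀, hx0N⟩
  have hXinv : q Y * q X * q Y = (q X)⁻¹ := by
    have hzz : q (⟨z, hzN⟩ : N) = q Y * q Y' := by rw [← map_mul]; rfl
    have : q X = (q Y * q Y') ^ (2 ^ k) := by rw [← hzz, ← map_pow]; rfl
    rw [this]
    refine inverts_pow hY2 ?_ _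
    rw [mul_inv_rev, inv_eq_of_mul_eq_one_right hY2, inv_eq_of_mul_eq_one_right hY'2]
    simp only [← mul_assoc, hY2, one_mul]
  have hd : x₀⁻¹ * (y * x₀⁻¹ * y⁻¹) ∈ O2 N := by
    have h : q (X⁻¹ * (Y * X⁻¹ * Y⁻¹)) = 1 := by
      rw [map_mul, map_mul, map_mul, map_inv, map_inv, inv_eq_of_mul_eq_one_right hY2,
        ← hXinv, hXinv]
      have := congrArg (fun w => w⁻¹) hXinv
      simp only [mul_inv_rev, inv_inv, inv_eq_of_mul_eq_one_right hY2] at this
      rw [← mul_assoc (q Y)] at this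
      rw [this, inv_mul_cancel]
    simpa [X, Y] using (hq1 _).1 h
  -- the elements of `x₀ D` are conjugate to `x₀`
  let φ : O2 N → O2 N := fun c => ⟨x₀⁻¹ * (c : G) * x₀ * (c : G)⁻¹,
    (O2 N).mul_mem (by simpa using O2_conj_mem (N.inv_mem hx0N) c.2) ((O2 N).inv_mem c.2)⟩
  have hφ : Function.Injective φ := by
    intro c c' e
    have e' := congrArg Subtype.val e
    simp only [φ] at e'
    have h7 : (c : G) * x₀ * (c : G)⁻¹ = (c' : G) * x₀ * (c' : G)⁻¹ := by
      simpa [mul_assoc] using e'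
    refine Subtype.ext (inv_mul_eq_one.1
      (fpf hG hDp hxodd hx1 ((O2 N).mul_mem ((O2 N).inv_mem c.2) c'.2) ?_))
    calc x₀ * ((c : G)⁻¹ * (c' : G)) = (c : G)⁻¹ * ((c : G) * x₀ * (c : G)⁻¹) * (c' : G) := by
          group
      _ = (c : G)⁻¹ * ((c' : G) * x₀ * (c' : G)⁻¹) * (c' : G) := by rw [h7]
      _ = _ := by group
  obtain ⟨d, hd'⟩ := (Finite.injective_iff_surjective.1 hφ) ⟨_, hd⟩
  have hd'' : (d : G) * x₀ * (d : G)⁻¹ = y * x₀⁻¹ * y⁻¹ := by
    have := congrArg Subtype.val hd'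
    simp only [φ] at this
    simpa [mul_assoc] using this
  set t := (d : G)⁻¹ * y with ht
  have htN : t ∈ N := N.mul_mem (N.inv_mem (O2_le N d.2)) hyN
  have hti : t * x₀⁻¹ * t⁻¹ = x₀ := by
    rw [ht]
    calc (d : G)⁻¹ * y * x₀⁻¹ * ((d : G)⁻¹ * y)⁻¹ = (d : G)⁻¹ * (y * x₀⁻¹ * y⁻¹) * d := by group
      _ = x₀ := by rw [← hd'']; group
  have hcoset : y⁻¹ * t ∈ O2 N := by
    have := O2_conj_mem (N.inv_mem hyN) ((O2 N).inv_mem d.2)
    simpa [ht, mul_assoc] using this
  have htD : t * t ∈ O2 N := by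
    have hqt : q (⟨t, htN⟩ : N) = q Y := by
      refine (inv_mul_eq_one.1 ?_).symm
      rw [← map_inv, ← map_mul, hq1]
      exact hcoset
    have := (hq1 (⟨t, htN⟩ * ⟨t, htN⟩)).1 (by rw [map_mul, hqt, hY2])
    simpa using this
  have hti' : t * x₀ * t⁻¹ = x₀⁻¹ := by
    have := congrArg (fun w => w⁻¹) hti
    simpa [mul_inv_rev, mul_assoc] using this
  have htt : t * t = 1 := by
    refine fpf hG hDp hxodd hx1 htD ?_
    calc x₀ * (t * t) = (t * (t * x₀ * t⁻¹) * t⁻¹) * (t * t) := by rw [hti', hti]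
      _ = _ := by group
  have ht1 : t ≠ 1 := by
    intro h
    apply hyO
    have : y⁻¹ ∈ O2 N := by simpa [h] using hcoset
    simpa using inv_mem this
  refine ⟨t, x₀, htN, hx0N, hcoset, orderOf_eq_two htt ht1, hxodd, hx1, ?_⟩
  rwa [inv_eq_of_mul_eq_one_right htt] at hti'

/-- The quotient of a `2`-local subgroup is CIT. -/
theorem eq_one_of_commute_mod (hG : IsCIT G) {D : Subgroup G} (hD : IsPGroup 2 D) {x r : G}
    (hx : Odd (orderOf x)) (hxD : x ∈ normalizer (D : Set G)) (hr : TwoElt r) (hrD : r ∉ D)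
    (hrN : r ∈ normalizer (D : Set G)) (h : x * r * x⁻¹ * r⁻¹ ∈ D) : x = 1 := by
  classical
  by_contra hx1
  haveI : Fact (Nat.Prime 2) := ⟨Nat.prime_two⟩
  obtain ⟨p, hp, hpd⟩ := Nat.exists_prime_and_dvd (mt orderOf_eq_one_iff.1 hx1)
  haveI := Fact.mk hp
  set x' := x ^ (orderOf x / p) with hx'
  have hox' : orderOf x' = p := orderOf_pow_orderOf_div (orderOf_pos x).ne' hpd
  have hp2 : p ≠ 2 := fun h2 => by
    rw [h2] at hpd
    exact (Nat.not_even_iff_odd.2 hx) (even_iff_two_dvd.2 hpd)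
  let S : Set G := {g | r⁻¹ * g ∈ D}
  have hS : ∀ m ∈ zpowers x', ∀ g ∈ S, m * g * m⁻¹ ∈ S := by
    have hr' : ∀ m ∈ zpowers x, r⁻¹ * (m * r * m⁻¹) ∈ D := by
      intro m hm
      let T : Subgroup G :=
        { carrier := {m | m ∈ normalizer (D : Set G) ∧ r⁻¹ * (m * r * m⁻¹) ∈ D}
          one_mem' := ⟨one_mem _, by simp⟩
          mul_mem' := fun {a b} ha hb => ⟨mul_mem ha.1 hb.1, by
            have := (mem_normalizer_iff.1 (mul_mem (inv_mem hrN) (mul_mem ha.1 hrN)) _).1 hb.2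
            have h1 := D.mul_mem ha.2 ((mem_normalizer_iff.1 ha.1 _).1 hb.2)
            convert h1 using 1; group⟩
          inv_mem' := fun {a} ha => ⟨inv_mem ha.1, by
            have h1 := (mem_normalizer_iff.1 (inv_mem ha.1) _).1 (D.inv_mem ha.2)
            convert h1 using 1; group⟩ }
      have hxT : x ∈ T := ⟨hxD, by
        have := (mem_normalizer_iff.1 (inv_mem hrN) _).1 h
        convert this using 1; group⟩
      exact ((zpowers_le.2 hxT) hm).2
    intro m hm g hg
    have hm' : m ∈ zpowers x := zpowers_le.2 (pow_mem (mem_zpowers x) _) hm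
    have hmD : m ∈ normalizer (D : Set G) := zpowers_le.2 hxD hm'
    show r⁻¹ * (m * g * m⁻¹) ∈ D
    have h1 := D.mul_mem (hr' m hm') ((mem_normalizer_iff.1 hmD _).1 hg)
    convert h1 using 1; group
  letI act : MulAction (zpowers x') S :=
    { smul := fun m g => ⟨(m : G) * g * (m : G)⁻¹, hS m m.2 g g.2⟩
      one_smul := fun g => Subtype.ext (by show (1 : G) * g * (1 : G)⁻¹ = g; group)
      mul_smul := fun a b g => Subtype.ext (by
        show ((a : G) * b) * g * ((a : G) * b)⁻¹ = a * (b * g * (b : G)⁻¹) * (a : G)⁻¹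
        group) }
  have hpg : IsPGroup p (zpowers x') :=
    IsPGroup.of_card (n := 1) (by rw [Nat.card_zpowers, hox', pow_one])
  have hcard : Nat.card S = Nat.card D :=
    Nat.card_congr
      { toFun := fun g => ⟨r⁻¹ * g, g.2⟩
        invFun := fun d => ⟨r * d, by show r⁻¹ * (r * (d : G)) ∈ D; simp⟩
        left_inv := fun g => Subtype.ext (by simp)
        right_inv := fun d => Subtype.ext (by simp) }
  obtain ⟨n, hn⟩ := (IsPGroup.iff_card.1 hD)
  obtain ⟨g, hg⟩ := hpg.nonempty_fixed_point_of_prime_not_dvd_card S (by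
    rw [hcard, hn]
    exact fun hdvd => hp2 ((Nat.prime_dvd_prime_iff_eq hp Nat.prime_two).1
      (hp.dvd_of_dvd_pow hdvd)))
  have hgx : x' * (g : G) * x'⁻¹ = g := congrArg Subtype.val (hg ⟨x', mem_zpowers _⟩)
  have hg2 : TwoElt (g : G) := by
    have hsup : IsPGroup 2 ↥(zpowers r ⊔ D) := by
      obtain ⟨k, hk⟩ := hr
      obtain ⟨j, -, hj⟩ := (Nat.dvd_prime_pow Nat.prime_two).1 (orderOf_dvd_of_pow_eq_one hk)
      exact (IsPGroup.of_card (n := j) (by rw [Nat.card_zpowers, hj])).to_sup_of_normal_right'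
        hD (zpowers_le.2 hrN)
    refine twoElt_of_mem hsup ?_
    have hgS : r⁻¹ * (g : G) ∈ D := g.2
    have := mul_mem (le_sup_left (α := Subgroup G) (mem_zpowers r) : r ∈ zpowers r ⊔ D)
      (le_sup_right (α := Subgroup G) hgS)
    simpa using this
  have hg1 : (g : G) ≠ 1 := by
    intro hg1
    apply hrD
    have hgS : r⁻¹ * (g : G) ∈ D := g.2
    rw [hg1, mul_one] at hgS
    simpa using inv_mem hgS
  have h9 := eq_one_of_commute hG (hox' ▸ hp.odd_of_ne_two hp2) hg2 hg1
    (mul_inv_eq_iff_eq_mul.1 hgx)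
  rw [← orderOf_eq_one_iff, hox'] at h9
  exact hp.one_lt.ne' h9

end Finite

end Cfsg.Agent.CIT21
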