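import Mathlib
import Cfsg.Agent.Lib.CoprimeSZ
import Cfsg.Agent.Lib.HallCore

/-! Lifting coprime elements and normalizers of cyclic coprime subgroups from a quotient. -/

set_option autoImplicit false

namespace Cfsg.Agent.CoprimeLift

open scoped Pointwise

variable {G : Type*} [Group G] [Finite G] (N : Subgroup G) [N.Normal]

/-- An element of a quotient of order prime to the kernel has a lift of the same order. -/
theorem exists_lift_coprime (y : G ⧸ N) (hy : (orderOf y).Coprime (Nat.card N)) :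
    ∃ x : G, (x : G ⧸ N) = y ∧ orderOf x = orderOf y := by
  obtain ⟨a, ha⟩ := QuotientGroup.mk_surjective y
  set k := Nat.card N with hk
  set m := orderOf y with hm
  have hk1 : (a ^ m) ^ k = 1 := by
    have h1 : a ^ m ∈ N := by
      rw [← QuotientGroup.eq_one_iff, QuotientGroup.mk_pow, ha, hm, pow_orderOf_eq_one]
    have h2 : (⟨_, h1⟩ : N) ^ k = 1 := pow_card_eq_one'
    exact congrArg Subtype.val h2
  obtain ⟨t, ht⟩ : ∃ t : ℕ, k * t ≡ 1 [MOD m] := by
    have hm0 : 0 < m := orderOf_pos y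
    rcases Nat.eq_or_lt_of_le hm0 with h1 | h1
    · exact ⟨0, by rw [← h1]; exact Nat.modEq_one⟩
    · obtain ⟨t, -, ht⟩ := Nat.exists_mul_mod_eq_one_of_coprime hy.symm h1
      exact ⟨t, by rw [Nat.ModEq, ht, Nat.mod_eq_of_lt h1]⟩
  have himg : ((a ^ (k * t) : G) : G ⧸ N) = y := by
    rw [QuotientGroup.mk_pow, ha]
    conv_rhs => rw [← pow_one y]
    exact pow_eq_pow_iff_modEq.mpr ht
  refine ⟨_, himg, Nat.dvd_antisymm (orderOf_dvd_of_pow_eq_one ?_) ?_⟩
  · rw [← pow_mul, show k * t * m = m * k * t by ring, pow_mul, pow_mul, hk1, one_pow]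
  · rw [hm, ← himg]
    exact orderOf_map_dvd (QuotientGroup.mk' N) _

/-- An element normalizing the image of a cyclic coprime subgroup lifts to the normalizer. -/
theorem exists_lift_normalizer (x : G) (hx : (orderOf x).Coprime (Nat.card N)) (g : G ⧸ N)
    (hg : g ∈ Subgroup.normalizer ((Subgroup.zpowers (x : G ⧸ N) : Subgroup (G ⧸ N)) : Set (G ⧸ N))) :
    ∃ u : G, (u : G ⧸ N) = g ∧ u ∈ Subgroup.normalizer ((Subgroup.zpowers x : Subgroup G) : Set G) := by
  obtain ⟨a, rfl⟩ := QuotientGroup.mk_surjective g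
  have h1 := (Subgroup.mem_normalizer_iff.mp hg _).mp (Subgroup.mem_zpowers _)
  obtain ⟨i, hi⟩ := Subgroup.mem_zpowers_iff.mp h1
  set A := Subgroup.zpowers x with hA
  set B := MulAut.conj a • A with hB
  have hB' : B = Subgroup.zpowers (a * x * a⁻¹) := by
    rw [hB, CoprimeSZ.conj_smul_eq_map, hA, MonoidHom.map_zpowers]
    simp
  have hle : B ≤ N ⊔ A := by
    rw [hB', Subgroup.zpowers_le]
    have h2 : (x ^ i)⁻¹ * (a * x * a⁻¹) ∈ N := by
      refine QuotientGroup.eq.mp ?_
      simpa using hi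
    have h3 : a * x * a⁻¹ = (x ^ i * ((x ^ i)⁻¹ * (a * x * a⁻¹)) * (x ^ i)⁻¹) * x ^ i := by group
    rw [h3]
    exact mul_mem (Subgroup.mem_sup_left (Subgroup.Normal.conj_mem inferInstance _ h2 _))
      (Subgroup.mem_sup_right (Subgroup.zpow_mem _ (Subgroup.mem_zpowers x) i))
  obtain ⟨n, hn, hnA⟩ := CoprimeSZ.exists_conj_of_card_eq (N := N) (A := A) (B := B)
    (by rw [Subgroup.normalizer_eq_top]; exact le_top)
    (by rwa [Nat.card_zpowers]) (Or.inl inferInstance) hle (CoprimeSZ.card_conj_smul a A)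
  refine ⟨n⁻¹ * a, ?_, ?_⟩
  · rw [QuotientGroup.mk_mul, (QuotientGroup.eq_one_iff _).mpr (inv_mem hn), one_mul]
  · have h4 : MulAut.conj (n⁻¹ * a) • A = A := by
      rw [map_mul, mul_smul, ← hB, ← hnA, ← mul_smul, ← map_mul, inv_mul_cancel, map_one, one_smul]
    rw [Subgroup.mem_normalizer_iff]
    intro z
    conv_rhs => rw [← h4]
    rw [Subgroup.mem_pointwise_smul_iff_inv_smul_mem]
    simp [MulAut.smul_def, mul_assoc]

end Cfsg.Agent.CoprimeLift
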