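import Cfsg.Prelude
import Cfsg.Agent.Lib.CoprimeAction
import Cfsg.Agent.Lib.CoprimeLift
import Cfsg.Agent.Lib.HallSolvable
import Cfsg.Agent.Lib.HallNilpotentConj
import Cfsg.Agent.Lib.ThompsonAQ

/-!
CN-groups: commuting facts, inheritance to subgroups and to quotients by solvable normal subgroups.
-/

namespace Cfsg.Agent.CNBasic

universe u

variable {G : Type u} [Group G]

theorem isNilpotent_of_injective {H K : Type*} [Group H] [Group K] [Group.IsNilpotent K]
    (f : H →* K) (hf : Function.Injective f) : Group.IsNilpotent H :=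
  Group.nilpotent_of_mulEquiv (MonoidHom.ofInjective hf).symm

theorem isNilpotent_of_commute [Finite G]
    (h : ∀ r s : ℕ, r.Prime → s.Prime → r ≠ s → ∀ a b : G, ∀ i j : ℕ,
      orderOf a = r ^ i → orderOf b = s ^ j → Commute a b) : Group.IsNilpotent G := by
  refine ((Group.isNilpotent_of_finite_tfae (G := G)).out 0 3 rfl rfl).mpr ?_
  intro r hr P
  refine Subgroup.normalizer_eq_top_iff.mp (Subgroup.index_eq_one.mp ?_)
  by_contra hne
  obtain ⟨s, hs, hsd⟩ := Nat.exists_prime_and_dvd hne
  have := Fact.mk hs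
  by_cases hsr : s = r
  · subst hsr
    exact P.not_dvd_index (hsd.trans (Subgroup.index_dvd_of_le Subgroup.le_normalizer))
  · obtain ⟨Q⟩ := (inferInstance : Nonempty (Sylow s G))
    refine Q.not_dvd_index (hsd.trans (Subgroup.index_dvd_of_le (le_trans ?_
      (Subgroup.centralizer_le_normalizer _))))
    intro y hy
    refine Subgroup.mem_centralizer_iff.mpr fun x hx => ?_
    obtain ⟨i, hi⟩ := (IsPGroup.iff_orderOf.mp P.isPGroup') ⟨x, hx⟩
    obtain ⟨j, hj⟩ := (IsPGroup.iff_orderOf.mp Q.isPGroup') ⟨y, hy⟩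
    exact (h r s hr.out hs (Ne.symm hsr) x y i j (by rw [← hi, Subgroup.orderOf_mk])
      (by rw [← hj, Subgroup.orderOf_mk])).eq

/-- A `q`-element fixes a nontrivial element of every nontrivial normal `q`-subgroup. -/
theorem exists_fixed [Finite G] {V : Subgroup G} [V.Normal] (hV1 : V ≠ ⊥) {q : ℕ} [Fact q.Prime]
    (hVq : IsPGroup q V) {a : G} (ha : ∃ k : ℕ, a ^ q ^ k = 1) :
    ∃ z ∈ V, z ≠ 1 ∧ a * z = z * a := by
  have hA : IsPGroup q (Subgroup.zpowers a) := by
    intro z
    obtain ⟨i, hi⟩ := Subgroup.mem_zpowers_iff.mp z.2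
    obtain ⟨k, hk⟩ := ha
    refine ⟨k, Subtype.ext ?_⟩
    rw [SubmonoidClass.coe_pow, Subgroup.coe_one, ← hi, ← zpow_natCast, ← zpow_mul,
      mul_comm, zpow_mul, zpow_natCast, hk, one_zpow]
  set U := V ⊔ Subgroup.zpowers a with hU
  have hUq : IsPGroup q U := hVq.to_sup_of_normal_left hA
  have : Group.IsNilpotent U := hUq.isNilpotent
  have hne : V.subgroupOf U ≠ ⊥ := by
    intro h
    rw [Subgroup.subgroupOf_eq_bot, disjoint_iff, inf_of_le_left le_sup_left] at h
    exact hV1 h
  obtain ⟨w, hwV, hw1, hwc⟩ := ThompsonAQ.exists_central_mem hne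
  exact ⟨w, hwV, fun e => hw1 (Subtype.ext e), congrArg Subtype.val
    (Subgroup.mem_center_iff.mp hwc ⟨a, Subgroup.mem_sup_right (Subgroup.mem_zpowers a)⟩)⟩

/-- In a CN-group, coprime elements commuting with the same nontrivial element commute. -/
theorem commute [Finite G] (hCN : Cfsg.IsCNGroup G) {g a b : G} (hg : g ≠ 1) (ha : g * a = a * g)
    (hb : g * b = b * g) (hc : (orderOf a).Coprime (orderOf b)) : Commute a b := by
  have hn := hCN g hg
  have ha' : a ∈ Subgroup.centralizer ({g} : Set G) :=
    Subgroup.mem_centralizer_singleton_iff.mpr ha.symm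
  have hb' : b ∈ Subgroup.centralizer ({g} : Set G) :=
    Subgroup.mem_centralizer_singleton_iff.mpr hb.symm
  have := HallNilpotentConj.commute_of_coprime_orderOf (Subgroup.centralizer ({g} : Set G))
    ⟨a, ha'⟩ ⟨b, hb'⟩ (by rwa [Subgroup.orderOf_mk, Subgroup.orderOf_mk])
  exact congrArg Subtype.val this.eq

theorem of_injective {H : Type*} [Group H] [Finite G] (hCN : Cfsg.IsCNGroup G) (f : H →* G)
    (hf : Function.Injective f) : Cfsg.IsCNGroup H := by
  intro h hh
  have hn := hCN (f h) (fun e => hh (hf (by rw [e, map_one])))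
  let g : Subgroup.centralizer ({h} : Set H) →* Subgroup.centralizer ({f h} : Set G) :=
    (f.comp (Subgroup.centralizer ({h} : Set H)).subtype).codRestrict _ fun x => by
      refine Subgroup.mem_centralizer_singleton_iff.mpr ?_
      show f (x : H) * f h = f h * f (x : H)
      rw [← map_mul, ← map_mul, Subgroup.mem_centralizer_singleton_iff.mp x.2]
  refine isNilpotent_of_injective g fun x y hxy => ?_
  exact Subtype.ext (hf (congrArg Subtype.val hxy))

theorem subgroup [Finite G] (hCN : Cfsg.IsCNGroup G) (H : Subgroup G) : Cfsg.IsCNGroup H :=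
  of_injective hCN H.subtype H.subtype_injective

variable [Finite G]

/-- Key step: the quotient by an abelian normal `q`-subgroup. -/
theorem quotient_abelian (hCN : Cfsg.IsCNGroup G) (V : Subgroup G) [V.Normal]
    (hV : IsMulCommutative V) (hV1 : V ≠ ⊥) {q : ℕ} [hq : Fact q.Prime] (hVq : IsPGroup q V) :
    Cfsg.IsCNGroup (G ⧸ V) := by
  intro y hy
  have hne : orderOf y ≠ 1 := fun h => hy (orderOf_eq_one_iff.mp h)
  obtain ⟨r, hr, hrd⟩ := Nat.exists_prime_and_dvd hne
  have := Fact.mk hr
  set y' := y ^ (orderOf y / r) with hy'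
  have hy'r : orderOf y' = r := orderOf_pow_orderOf_div (orderOf_pos y).ne' hrd
  suffices H : Group.IsNilpotent (Subgroup.centralizer ({y'} : Set (G ⧸ V))) by
    have hle : Subgroup.centralizer ({y} : Set (G ⧸ V)) ≤ Subgroup.centralizer {y'} := by
      intro c hc
      rw [Subgroup.mem_centralizer_singleton_iff] at hc ⊢
      exact (Commute.pow_right hc _).eq
    exact isNilpotent_of_injective (Subgroup.inclusion hle)
      (Subgroup.inclusion_injective hle)
  obtain ⟨x, hx⟩ := QuotientGroup.mk_surjective y'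
  obtain ⟨m, hm⟩ := hVq.exists_card_eq (p := q)
  by_cases hrq : r = q
  · subst hrq
    set C := (Subgroup.centralizer ({y'} : Set (G ⧸ V))).comap (QuotientGroup.mk' V) with hC
    have comm : ∀ a ∈ V, ∀ b ∈ V, Commute a b := fun a ha b hb =>
      congrArg Subtype.val (hV.is_comm.comm (⟨a, ha⟩ : V) ⟨b, hb⟩)
    have hxk : x ^ r ^ (m + 1) = 1 := by
      have hxr : x ^ r ∈ V := by
        rw [← QuotientGroup.eq_one_iff, QuotientGroup.mk_pow, hx, ← hy'r, pow_orderOf_eq_one]
      rw [pow_succ', pow_mul, ← hm]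
      have h1 := congrArg Subtype.val (pow_card_eq_one' (G := V) (x := ⟨x ^ r, hxr⟩))
      rwa [SubmonoidClass.coe_pow, Subgroup.coe_one] at h1
    have hx1 : ∀ v ∈ V, x * v ≠ 1 := fun v hv e => by
      apply (show y' ≠ 1 from fun e' => by
        rw [e', orderOf_one] at hy'r; exact hr.one_lt.ne hy'r)
      rw [← hx, QuotientGroup.eq_one_iff, eq_inv_of_mul_eq_one_left e]
      exact inv_mem hv
    obtain ⟨w, hwV, hw1, hxw⟩ := exists_fixed hV1 hVq ⟨m + 1, hxk⟩
    have hcopV : ∀ c : G, (orderOf c).Coprime r → ∀ v ∈ V, (orderOf c).Coprime (orderOf v) :=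
      fun c hc v hv => by
        obtain ⟨i, hi⟩ := (IsPGroup.iff_orderOf.mp hVq) ⟨v, hv⟩
        rw [← Subgroup.orderOf_mk v hv, hi]
        exact hc.pow_right _
    have hcent : ∀ c ∈ C, (orderOf c).Coprime r → ∀ v ∈ V, Commute c v := by
      intro c hc hcr
      have h1 : x⁻¹ * c * x * c⁻¹ ∈ V := by
        have h2 : (c : G ⧸ V) * y' = y' * c :=
          Subgroup.mem_centralizer_singleton_iff.mp hc
        rw [← QuotientGroup.eq_one_iff]
        simp only [QuotientGroup.mk_mul, QuotientGroup.mk_inv, hx]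
        rw [mul_assoc y'⁻¹, h2]
        group
      obtain ⟨x', hx'c, hx'⟩ := CoprimeAction.exists_fixed_mem_coset_zpowers (a := c) (D := V)
        (by rw [Subgroup.normalizer_eq_top]; exact Subgroup.mem_top c)
        (by rw [hm]; exact hcr.pow_right _) x h1
      have hxe : x' = x * (x⁻¹ * x') := by group
      have hx'w : x' * w = w * x' := by
        rw [hxe, mul_assoc, (comm _ hx' _ hwV).eq, ← mul_assoc, hxw, mul_assoc]
      have hcw : Commute c w := commute hCN (fun e => hx1 _ hx' (hxe ▸ e)) hx'c.symm hx'w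
        (hcopV c hcr w hwV)
      exact fun v hv => commute hCN hw1 hcw.eq.symm (comm w hwV v hv).eq (hcopV c hcr v hv)
    have hCnil : Group.IsNilpotent C := by
      refine isNilpotent_of_commute fun r' s hr' hs hne a b i j hai hbj => ?_
      apply Subtype.ext
      show (a : G) * b = b * a
      rw [← Subgroup.orderOf_coe] at hai hbj
      have hcp : ∀ p : ℕ, p.Prime → p ≠ r → ∀ c : G, ∀ e : ℕ, orderOf c = p ^ e →
          (orderOf c).Coprime r := fun p hp hpr c e he => by
        rw [he]; exact Nat.Coprime.pow_left _ ((Nat.coprime_primes hp hr).mpr hpr)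
      have one : ∀ c d : G, c ∈ C → d ∈ C → ∀ k l : ℕ, ∀ p : ℕ, p.Prime → p ≠ r →
          orderOf c = r ^ k → orderOf d = p ^ l → Commute c d := by
        intro c d _ hd k l p hp hpr hck hdl
        obtain ⟨z, hzV, hz1, hcz⟩ := exists_fixed hV1 hVq (a := c)
          ⟨k, by rw [← hck]; exact pow_orderOf_eq_one c⟩
        exact commute hCN hz1 hcz.symm (hcent d hd (hcp p hp hpr d l hdl) z hzV).eq.symm
          (by rw [hck]; exact ((hcp p hp hpr d l hdl).symm.pow_left _))
      by_cases h1 : r' = r
      · subst h1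
        exact one a b a.2 b.2 i j s hs (Ne.symm hne) hai hbj
      · by_cases h2 : s = r
        · subst h2
          exact (one b a b.2 a.2 j i r' hr' h1 hbj hai).symm
        · exact commute hCN hw1 (hcent a a.2 (hcp r' hr' h1 a i hai) w hwV).eq.symm
            (hcent b b.2 (hcp s hs h2 b j hbj) w hwV).eq.symm
            (by rw [hai, hbj]; exact Nat.Coprime.pow _ _ ((Nat.coprime_primes hr' hs).mpr hne))
    exact Group.nilpotent_of_surjective _ (MonoidHom.subgroupComap_surjective_of_surjective
      (QuotientGroup.mk' V) _ (QuotientGroup.mk'_surjective V))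
  · have hcop : r.Coprime (Nat.card V) := by
      rw [hm]; exact Nat.Coprime.pow_right _ ((Nat.coprime_primes hr hq.out).mpr hrq)
    obtain ⟨x, hx, hxr⟩ := CoprimeLift.exists_lift_coprime (N := V) y' (by rw [hy'r]; exact hcop)
    have hx1 : x ≠ 1 := fun e => by
      rw [e, orderOf_one] at hxr; exact hr.one_lt.ne (hxr.trans hy'r)
    let f : Subgroup.centralizer ({x} : Set G) →* Subgroup.centralizer ({y'} : Set (G ⧸ V)) :=
      ((QuotientGroup.mk' V).comp (Subgroup.centralizer ({x} : Set G)).subtype).codRestrict _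
        fun c => by
          refine Subgroup.mem_centralizer_singleton_iff.mpr ?_
          show ((c : G) : G ⧸ V) * y' = y' * ((c : G) : G ⧸ V)
          rw [← hx, ← QuotientGroup.mk_mul, ← QuotientGroup.mk_mul,
            Subgroup.mem_centralizer_singleton_iff.mp c.2]
    have hf : Function.Surjective f := by
      rintro ⟨g, hg⟩
      have hg' := Subgroup.mem_centralizer_singleton_iff.mp hg
      obtain ⟨u, hu, hun⟩ := CoprimeLift.exists_lift_normalizer (N := V) x
        (by rw [hxr, hy'r]; exact hcop) g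
        (Subgroup.centralizer_le_normalizer _ (Subgroup.mem_centralizer_iff.mpr fun z hz => by
          rw [hx] at hz
          obtain ⟨i, rfl⟩ := Subgroup.mem_zpowers_iff.mp hz
          exact ((show Commute g y' from hg').zpow_right i).eq.symm))
      obtain ⟨i, hi⟩ := Subgroup.mem_zpowers_iff.mp
        ((Subgroup.mem_normalizer_iff.mp hun x).mp (Subgroup.mem_zpowers x))
      have himg : y' ^ i = y' := by
        have h3 := congrArg (QuotientGroup.mk' V) hi
        simp only [map_zpow, map_mul, map_inv, QuotientGroup.mk'_apply, hx, hu] at h3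
        rw [h3, hg', mul_inv_cancel_right]
      have hxi : x ^ i = x := by
        rw [← zpow_one x, ← zpow_mul, one_mul, zpow_eq_zpow_iff_modEq, hxr]
        rw [← zpow_eq_zpow_iff_modEq, zpow_one]; exact himg
      refine ⟨⟨u, Subgroup.mem_centralizer_singleton_iff.mpr ?_⟩, Subtype.ext hu⟩
      rw [hxi] at hi
      exact (mul_inv_eq_iff_eq_mul.mp hi.symm)
    have := hCN x hx1
    exact Group.nilpotent_of_surjective f hf

/-- Quotients by solvable normal subgroups. -/
theorem quotient_solvable : ∀ (n : ℕ) {G : Type u} [Group G] [Finite G], Nat.card G = n →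
    Cfsg.IsCNGroup G → ∀ (H : Subgroup G) [H.Normal], Group.IsSolvable H →
    Cfsg.IsCNGroup (G ⧸ H) := by
  intro n
  induction n using Nat.strong_induction_on with
  | _ n ih =>
    intro G _ _ hn hCN H _ hH
    by_cases hH1 : H = ⊥
    · subst hH1
      exact of_injective hCN (QuotientGroup.quotientBot (G := G)).toMonoidHom
        (QuotientGroup.quotientBot (G := G)).injective
    obtain ⟨V, hV, hVH⟩ := HallSolvable.exists_minNormal_le hH1
    have := hV.normal
    have : Group.IsSolvable V :=
      Group.isSolvable_of_isSolvable_injective (f := Subgroup.inclusion hVH)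
        (Subgroup.inclusion_injective hVH)
    obtain ⟨q, hq, _, hVq⟩ := hV.exists_prime
    have := Fact.mk hq
    have hQ := quotient_abelian hCN V hV.commutative_of_solvable hV.ne_bot hVq
    have hlt : Nat.card (G ⧸ V) < n := by
      have h1 := Subgroup.card_eq_card_quotient_mul_card_subgroup V
      have h2 := (Subgroup.one_lt_card_iff_ne_bot V).mpr hV.ne_bot
      have h3 : 0 < Nat.card (G ⧸ V) := Nat.card_pos
      rw [← hn, h1]
      exact lt_mul_of_one_lt_right h3 h2
    have := ih _ hlt rfl hQ (H.map (QuotientGroup.mk' V))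
      (Group.isSolvable_of_surjective ((QuotientGroup.mk' V).subgroupMap_surjective H))
    exact of_injective this (QuotientGroup.quotientQuotientEquivQuotient V H hVH).symm.toMonoidHom
      (QuotientGroup.quotientQuotientEquivQuotient V H hVH).symm.injective

end Cfsg.Agent.CNBasic
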