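import Cfsg.Prelude
import Cfsg.Agent.Lib.CNBasic
import Cfsg.Agent.Lib.ComponentsFitting
import Cfsg.Agent.Lib.HallCore
import Cfsg.Agent.Lib.FrobeniusFPF

/-!
Local structure of solvable CN-groups of odd order: either the Sylow `p`-subgroup is normal,
or the Thompson subgroup lies in `O_p` and the derived group meets a Sylow `p`-subgroup in `O_p`.
-/

namespace Cfsg.Agent.CNLocal

open Cfsg Cfsg.Agent.CNBasic
open scoped commutatorElement

variable {M : Type*} [Group M]

/-- Join of the elementary abelian subgroups of `P` of largest order. -/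
def je (p : ℕ) (P : Subgroup M) : Subgroup M :=
  sSup {A | A ≤ P ∧ IsElementaryAbelian p A ∧
    ∀ B ≤ P, IsElementaryAbelian p B → Nat.card B ≤ Nat.card A}

theorem je_le {p : ℕ} (P : Subgroup M) : je p P ≤ P := sSup_le fun _ h => h.1

theorem elementary_map {N : Type*} [Group N] (f : M →* N) {p : ℕ} {A : Subgroup M}
    (h : IsElementaryAbelian p A) : IsElementaryAbelian p (A.map f) := by
  refine ⟨⟨⟨?_⟩⟩, ?_⟩
  · rintro ⟨_, a, ha, rfl⟩ ⟨_, b, hb, rfl⟩
    refine Subtype.ext ?_
    show f a * f b = f b * f a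
    have := congrArg Subtype.val (h.1.is_comm.comm (⟨a, ha⟩ : A) ⟨b, hb⟩)
    rw [← map_mul, ← map_mul]
    exact congrArg f this
  · rintro _ ⟨a, ha, rfl⟩
    rw [← map_pow, h.2 a ha, map_one]

theorem je_map {N : Type*} [Group N] [Finite M] [Finite N] (f : M →* N) (hf : Function.Injective f)
    {p : ℕ} (P : Subgroup M) : (je p P).map f = je p (P.map f) := by
  have hc : ∀ A : Subgroup M, Nat.card (A.map f) = Nat.card A := fun A =>
    Subgroup.card_map_of_injective hf
  have back : ∀ B ≤ P.map f, IsElementaryAbelian p B →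
      B.comap f ≤ P ∧ IsElementaryAbelian p (B.comap f) ∧ (B.comap f).map f = B := by
    intro B hB hBe
    refine ⟨?_, ⟨⟨⟨?_⟩⟩, ?_⟩, ?_⟩
    · intro x hx
      obtain ⟨y, hy, hyx⟩ := hB hx
      exact hf hyx ▸ hy
    · rintro ⟨a, ha⟩ ⟨b, hb⟩
      refine Subtype.ext (hf ?_)
      show f (a * b) = f (b * a)
      rw [map_mul, map_mul]
      exact congrArg Subtype.val (hBe.1.is_comm.comm (⟨f a, ha⟩ : B) ⟨f b, hb⟩)
    · intro a ha
      apply hf
      rw [map_pow, map_one]
      exact hBe.2 _ ha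
    · refine Subgroup.map_comap_eq_self (hB.trans ?_)
      exact Subgroup.map_le_range f P
  apply le_antisymm
  · rw [Subgroup.map_le_iff_le_comap]
    refine sSup_le fun A hA => ?_
    rw [← Subgroup.map_le_iff_le_comap]
    refine le_sSup ⟨Subgroup.map_mono hA.1, elementary_map f hA.2.1, fun B hB hBe => ?_⟩
    obtain ⟨h1, h2, h3⟩ := back B hB hBe
    rw [← h3, hc, hc]
    exact hA.2.2 _ h1 h2
  · refine sSup_le fun B hB => ?_
    obtain ⟨h1, h2, h3⟩ := back B hB.1 hB.2.1
    rw [← h3]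
    refine Subgroup.map_mono (le_sSup ⟨h1, h2, fun A hA hAe => ?_⟩)
    rw [← hc A, ← hc (B.comap f), h3]
    exact hB.2.2 _ (Subgroup.map_mono hA) (elementary_map f hAe)

theorem exists_max [Finite M] (p : ℕ) (P : Subgroup M) :
    ∃ A ≤ P, IsElementaryAbelian p A ∧
      ∀ B ≤ P, IsElementaryAbelian p B → Nat.card B ≤ Nat.card A := by
  obtain ⟨A, ⟨hA1, hA2⟩, hmax⟩ := Set.exists_max_image
    {A : Subgroup M | A ≤ P ∧ IsElementaryAbelian p A} (fun A => Nat.card A) (Set.toFinite _)
    ⟨⊥, bot_le, inferInstance, fun a ha => by rw [Subgroup.mem_bot.mp ha, one_pow]⟩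
  exact ⟨A, hA1, hA2, fun B h1 h2 => hmax B ⟨h1, h2⟩⟩

theorem je_ne_bot [Finite M] {p : ℕ} [Fact p.Prime] {P : Subgroup M} (hP : IsPGroup p P)
    (hP1 : P ≠ ⊥) : je p P ≠ ⊥ := by
  intro h
  obtain ⟨A, hA1, hA2, hmax⟩ := exists_max p P
  have hA : A = ⊥ := eq_bot_iff.mpr (h ▸ le_sSup ⟨hA1, hA2, hmax⟩)
  have : Nontrivial P := (Subgroup.nontrivial_iff_ne_bot P).mpr hP1
  obtain ⟨k, hk⟩ := hP.exists_card_eq
  have hpd : p ∣ Nat.card P := by
    have := (Subgroup.one_lt_card_iff_ne_bot P).mpr hP1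
    cases k with
    | zero => simp_all
    | succ k => rw [hk]; exact dvd_pow_self p (Nat.succ_ne_zero k)
  obtain ⟨x, hx⟩ := exists_prime_orderOf_dvd_card' p hpd
  have h2 := hmax (Subgroup.zpowers (x : M)) (by rw [Subgroup.zpowers_le]; exact x.2)
    ⟨inferInstance, fun a ha => by
      obtain ⟨i, rfl⟩ := Subgroup.mem_zpowers_iff.mp ha
      rw [← zpow_natCast, ← zpow_mul, mul_comm, zpow_mul, zpow_natCast, ← hx,
        ← Subgroup.orderOf_coe, pow_orderOf_eq_one, one_zpow]⟩
  rw [hA, Subgroup.card_bot, Nat.card_zpowers, Subgroup.orderOf_coe, hx] at h2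
  exact absurd h2 (not_le.mpr (Fact.out : p.Prime).one_lt)

theorem je_conj [Finite M] {p : ℕ} (P : Subgroup M) (g : M) :
    (je p P).map (MulAut.conj g).toMonoidHom = je p (P.map (MulAut.conj g).toMonoidHom) :=
  je_map _ (MulAut.conj g).injective P

theorem normal_le_sylow {p : ℕ} {K : Subgroup M} [K.Normal] (hK : IsPGroup p K) (P : Sylow p M) :
    K ≤ P :=
  le_sup_left.trans_eq (P.3 (hK.to_sup_of_normal_left P.2) le_sup_right)

theorem je_normal_of_normal [Finite M] {p : ℕ} (P : Subgroup M) [hP : P.Normal] :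
    (je p P).Normal :=
  Subgroup.normal_iff_map_conj_eq.mpr fun g => by
    show (je p P).map (MulAut.conj g).toMonoidHom = _
    rw [je_conj]
    exact congrArg (je p) (Subgroup.normal_iff_map_conj_eq.mp hP g)

variable [Finite M]

/-- A `q`-element of the Fitting subgroup lies in `O_q`. -/
theorem mem_pCore_of_mem_fitting {q : ℕ} [Fact q.Prime] {x : M} (hx : x ∈ fittingSubgroup M)
    {i : ℕ} (hi : orderOf x = q ^ i) : x ∈ pCore q M := by
  set F := fittingSubgroup M with hF
  have hz : IsPGroup q (Subgroup.zpowers (⟨x, hx⟩ : F)) :=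
    IsPGroup.of_card (n := i) (by rw [Nat.card_zpowers, Subgroup.orderOf_mk, hi])
  obtain ⟨S, hS⟩ := hz.exists_le_sylow
  have hSn : (S : Subgroup F).Normal :=
    ((Group.isNilpotent_of_finite_tfae (G := F)).out 0 3 rfl rfl).mp inferInstance q ‹_› S
  have := Sylow.characteristic_of_normal S hSn
  have : ((S : Subgroup F).map F.subtype).Normal := inferInstance
  exact HallCore.le_pCore (S.isPGroup'.map F.subtype)
    (show x ∈ (S : Subgroup F).map F.subtype from
      Subgroup.mem_map.mpr ⟨⟨x, hx⟩, hS (Subgroup.mem_zpowers _), rfl⟩)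

variable (hCN : IsCNGroup M)
include hCN

/-- `C(O_q) ≤ F`. -/
theorem centralizer_pCore_le {q : ℕ} (h : pCore q M ≠ ⊥) :
    Subgroup.centralizer (pCore q M : Set M) ≤ fittingSubgroup M := by
  obtain ⟨z, hz, hz1⟩ : ∃ z ∈ pCore q M, z ≠ 1 := by
    rw [Ne, Subgroup.eq_bot_iff_forall] at h; push Not at h; exact h
  have hle : Subgroup.centralizer (pCore q M : Set M) ≤ Subgroup.centralizer {z} :=
    Subgroup.centralizer_le (Set.singleton_subset_iff.mpr hz)
  have := hCN z hz1
  exact ComponentsCores.le_fitting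
    (isNilpotent_of_injective (Subgroup.inclusion hle) (Subgroup.inclusion_injective hle))

/-- A `p'`-element centralising a nontrivial element of `O_p` lies in `F`. -/
theorem mem_fitting_of_commute {p : ℕ} [hp : Fact p.Prime] {a x : M}
    (ha : (orderOf a).Coprime p) (hx : x ∈ pCore p M) (hx1 : x ≠ 1) (hax : Commute a x) :
    a ∈ fittingSubgroup M := by
  set K := pCore p M with hK
  have hKp := HallCore.isPGroup_pCore p M
  have hK1 : K ≠ ⊥ := fun e => hx1 (Subgroup.mem_bot.mp (e ▸ hx))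
  have : Nontrivial K := (Subgroup.nontrivial_iff_ne_bot K).mpr hK1
  have := hKp.center_nontrivial
  obtain ⟨⟨z, hz⟩, hz1⟩ := exists_ne (1 : Subgroup.center K)
  have hcz : ∀ k ∈ K, Commute (z : M) k := fun k hk =>
    congrArg Subtype.val ((Subgroup.mem_center_iff.mp hz ⟨k, hk⟩).symm)
  have hcop : ∀ k ∈ K, (orderOf a).Coprime (orderOf k) := fun k hk => by
    obtain ⟨i, hi⟩ := (IsPGroup.iff_orderOf.mp hKp) ⟨k, hk⟩
    rw [← Subgroup.orderOf_mk k hk, hi]
    exact ha.pow_right _
  have haz : Commute a (z : M) :=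
    commute hCN hx1 hax.eq.symm (hcz x hx).eq.symm (hcop _ z.2)
  refine centralizer_pCore_le hCN hK1 (Subgroup.mem_centralizer_iff.mpr fun k hk => ?_)
  exact (commute hCN (g := (z : M)) (fun e => hz1 (Subtype.ext (Subtype.ext e))) haz.eq.symm
    (hcz k hk).eq (hcop k hk)).eq.symm

/-- If the Sylow `p`-subgroup is not normal and `O_p ≠ 1`, then `F = O_p`. -/
theorem fitting_eq_pCore {p : ℕ} [hp : Fact p.Prime] (hK1 : pCore p M ≠ ⊥) (P : Sylow p M)
    (hP : (P : Subgroup M) ≠ pCore p M) : fittingSubgroup M = pCore p M := by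
  set K := pCore p M with hK
  have hKp := HallCore.isPGroup_pCore p M
  have hKP : K ≤ P := normal_le_sylow hKp P
  obtain ⟨a, haP, haK⟩ := SetLike.exists_of_lt (lt_of_le_of_ne hKP (Ne.symm hP))
  refine le_antisymm ?_ (ComponentsFitting.pCore_le_fitting hp.out)
  rw [ComponentsFitting.fittingSubgroup_eq_iSup]
  refine iSup_le fun ⟨q, hq⟩ => ?_
  by_cases hqp : q = p
  · subst hqp; exact le_rfl
  have hq' := (Nat.mem_primeFactors.mp hq).1
  by_contra hne
  have hQ1 : pCore q M ≠ ⊥ := fun e => hne (e ▸ bot_le)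
  obtain ⟨i, hi⟩ := (IsPGroup.iff_orderOf.mp P.isPGroup') ⟨a, haP⟩
  rw [Subgroup.orderOf_mk] at hi
  obtain ⟨z, hzK, hz1, haz⟩ := exists_fixed hK1 hKp (a := a) ⟨i, hi ▸ pow_orderOf_eq_one a⟩
  have : a ∈ Subgroup.centralizer (pCore q M : Set M) := by
    refine Subgroup.mem_centralizer_iff.mpr fun y hy => ?_
    have := Fact.mk hq'
    obtain ⟨j, hj⟩ := (IsPGroup.iff_orderOf.mp (HallCore.isPGroup_pCore q M)) ⟨y, hy⟩
    rw [Subgroup.orderOf_mk] at hj
    refine (commute hCN hz1 haz.symm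
      (ComponentsFitting.commute_pCore hp.out hq' (Ne.symm hqp) z y hzK hy).eq ?_).eq.symm
    rw [hi, hj]
    exact Nat.Coprime.pow _ _ ((Nat.coprime_primes hp.out hq').mpr (Ne.symm hqp))
  exact haK (mem_pCore_of_mem_fitting (centralizer_pCore_le hCN hQ1 this) hi)

theorem card_sup_ineq {A B T : Subgroup M} (hA : A ≤ T) (hB : B ≤ T) :
    Nat.card A * Nat.card B ≤ Nat.card T * Nat.card (A ⊓ B : Subgroup M) := by
  classical
  let f : A × B → T := fun x => ⟨x.1 * x.2, mul_mem (hA x.1.2) (hB x.2.2)⟩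
  let s : T → A × B := fun t => if h : ∃ x, f x = t then h.choose else (1, 1)
  have hs : ∀ x, f (s (f x)) = f x := fun x => by
    have h : ∃ y, f y = f x := ⟨x, rfl⟩
    simp only [s, dif_pos h]
    exact h.choose_spec
  have key : ∀ x, ((x.1 : M))⁻¹ * ((s (f x)).1 : M) = (x.2 : M) * ((s (f x)).2 : M)⁻¹ := fun x => by
    have h := congrArg Subtype.val (hs x)
    simp only [f] at h
    rw [eq_mul_inv_iff_mul_eq, mul_assoc, h]
    group
  let g : A × B → T × (A ⊓ B : Subgroup M) := fun x => (f x, ⟨(x.1 : M)⁻¹ * ((s (f x)).1 : M),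
    A.mul_mem (A.inv_mem x.1.2) (s (f x)).1.2, key x ▸ B.mul_mem x.2.2 (B.inv_mem (s (f x)).2.2)⟩)
  have hg : Function.Injective g := by
    intro x y h
    have h1 : f x = f y := (Prod.ext_iff.mp h).1
    have h2 : (x.1 : M)⁻¹ * ((s (f x)).1 : M) = (y.1 : M)⁻¹ * ((s (f y)).1 : M) :=
      congrArg Subtype.val (Prod.ext_iff.mp h).2
    rw [h1] at h2
    have h3 : (x.1 : M) = y.1 := inv_injective (mul_right_cancel h2)
    have h4 := congrArg Subtype.val h1
    simp only [f] at h4
    rw [h3] at h4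
    exact Prod.ext (Subtype.ext h3) (Subtype.ext (mul_left_cancel h4))
  simpa [Nat.card_prod] using Nat.card_le_card_of_injective g hg

/-- The non-normal case. -/
theorem sylow_cases [Group.IsSolvable M] (hodd : Odd (Nat.card M)) {p : ℕ} [hp : Fact p.Prime]
    (hK1 : pCore p M ≠ ⊥) (P : Sylow p M) (hP : (P : Subgroup M) ≠ pCore p M) :
    (∀ A ≤ (P : Subgroup M), IsElementaryAbelian p A →
        (∀ B ≤ (P : Subgroup M), IsElementaryAbelian p B → Nat.card B ≤ Nat.card A) →
        A ≤ pCore p M) ∧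
      commutator M ⊓ (P : Subgroup M) ≤ pCore p M := by
  set K := pCore p M with hK
  have hKp := HallCore.isPGroup_pCore p M
  have hKP : K ≤ P := normal_le_sylow hKp P
  have hF := fitting_eq_pCore hCN hK1 P hP
  have hPord : ∀ a ∈ (P : Subgroup M), ∃ i, orderOf a = p ^ i := fun a ha => by
    obtain ⟨i, hi⟩ := (IsPGroup.iff_orderOf.mp P.isPGroup') ⟨a, ha⟩
    exact ⟨i, by rwa [Subgroup.orderOf_mk] at hi⟩
  -- fixed-point-freeness
  have fpf : ∀ a : M, (orderOf a).Coprime p → a ≠ 1 → ∀ x ∈ K, Commute a x → x = 1 := by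
    intro a ha ha1 x hx hc
    by_contra hx1
    have h := mem_fitting_of_commute hCN ha hx hx1 hc
    rw [hF] at h
    obtain ⟨i, hi⟩ := hPord a (hKP h)
    rw [hi] at ha
    cases i with
    | zero => exact ha1 (orderOf_eq_one_iff.mp (by simpa using hi))
    | succ i => exact hp.out.one_lt.ne' (Nat.Coprime.eq_one_of_dvd
        (ha.coprime_dvd_left (dvd_pow_self p (Nat.succ_ne_zero i))) dvd_rfl)
  have star : ∀ a ∈ (P : Subgroup M), a ∉ K → ∀ w : M, (orderOf w).Coprime p → Commute a w →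
      w = 1 := by
    intro a ha haK w hw hc
    by_contra hw1
    obtain ⟨i, hi⟩ := hPord a ha
    obtain ⟨z, hzK, hz1, haz⟩ := exists_fixed hK1 hKp (a := a) ⟨i, hi ▸ pow_orderOf_eq_one a⟩
    obtain ⟨j, hj⟩ := hPord z (hKP hzK)
    have ha1 : a ≠ 1 := fun e => haK (e ▸ one_mem K)
    exact hz1 (fpf w hw hw1 z hzK (commute hCN ha1 hc.eq haz (by rw [hj]; exact hw.pow_right _)))
  -- a minimal normal subgroup of the quotient
  have : Nontrivial (M ⧸ K) := by
    rw [QuotientGroup.nontrivial_iff]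
    intro e
    exact hP (le_antisymm (e ▸ le_top) hKP)
  obtain ⟨N, hN⟩ := HallSolvable.exists_minNormal (G := M ⧸ K)
  have hNn := hN.normal
  obtain ⟨q, hq, hNe, hNq⟩ := hN.exists_prime
  have := Fact.mk hq
  set π := QuotientGroup.mk' K with hπ
  set Nc := N.comap π with hNc
  have hqp : q ≠ p := by
    intro e
    subst e
    have h1 : IsPGroup q Nc := hNq.comap_of_ker_isPGroup π (by rw [QuotientGroup.ker_mk']; exact hKp)
    have h2 : Nc ≤ K := HallCore.le_pCore h1
    refine hN.ne_bot (eq_bot_iff.mpr fun y hy => ?_)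
    obtain ⟨x, rfl⟩ := QuotientGroup.mk_surjective y
    exact Subgroup.mem_bot.mpr ((QuotientGroup.eq_one_iff x).mpr (h2 hy))
  have hqcop : q.Coprime p := (Nat.coprime_primes hq hp.out).mpr hqp
  -- an element of order q outside K
  obtain ⟨wb, hwb, hwb1⟩ : ∃ y ∈ N, y ≠ 1 := by
    have := hN.ne_bot
    rw [Ne, Subgroup.eq_bot_iff_forall] at this; push Not at this; exact this
  have hwbo : orderOf wb = q := orderOf_eq_prime (hNe.2 wb hwb) hwb1
  obtain ⟨k, hk⟩ := hKp.exists_card_eq
  obtain ⟨w, hw, hwo⟩ := CoprimeLift.exists_lift_coprime (N := K) wb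
    (by rw [hwbo, hk]; exact hqcop.pow_right _)
  have hwq : orderOf w = q := hwo.trans hwbo
  -- N is generated by the image of w
  have hQ : ∀ y ∈ N, y ∈ Subgroup.zpowers wb := by
    intro y hy
    obtain ⟨S⟩ := (inferInstance : Nonempty (Sylow q Nc))
    set Q := (S : Subgroup Nc).map Nc.subtype with hQd
    have hQp : IsPGroup q Q := S.isPGroup'.map _
    have hQK : ∀ x ∈ Q, x ∈ K → x = 1 := fun x hxQ hxK => by
      obtain ⟨i, hi⟩ := (IsPGroup.iff_orderOf.mp hQp) ⟨x, hxQ⟩
      obtain ⟨j, hj⟩ := hPord x (hKP hxK)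
      rw [Subgroup.orderOf_mk] at hi
      exact orderOf_eq_one_iff.mp (Nat.Coprime.eq_one_of_dvd
        (by rw [hi]; exact (hqcop.pow _ _) : (orderOf x).Coprime (p ^ j)) (hj ▸ dvd_rfl))
    have hQN : ∀ x ∈ Q, π x ∈ N := by
      rintro _ ⟨x, _, rfl⟩
      exact x.2
    have hQinj : ∀ x ∈ Q, ∀ x' ∈ Q, π x = π x' → x = x' := fun x hx x' hx' e =>
      mul_inv_eq_one.mp (hQK _ (mul_mem hx (inv_mem hx')) (by
        rw [← QuotientGroup.eq_one_iff]
        show π (x * x'⁻¹) = 1
        rw [map_mul, map_inv, e, mul_inv_cancel]))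
    have hQc : IsMulCommutative Q := ⟨⟨fun a b => Subtype.ext (hQinj _ (mul_mem a.2 b.2) _
      (mul_mem b.2 a.2) (by
        show π ((a : M) * b) = π ((b : M) * a)
        rw [map_mul, map_mul]
        exact congrArg Subtype.val (hNe.1.is_comm.comm (⟨π a, hQN a a.2⟩ : N) ⟨π b, hQN b b.2⟩)))⟩⟩
    -- Q acts fixed-point-freely on the centre of K
    let Z := (Subgroup.center K).map K.subtype
    have : Nontrivial K := (Subgroup.nontrivial_iff_ne_bot K).mpr hK1
    have hZ1 : Z ≠ ⊥ := by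
      have := hKp.bot_lt_center
      rw [Ne, Subgroup.map_eq_bot_iff_of_injective _ K.subtype_injective]
      exact this.ne'
    have hZc : IsMulCommutative Z := inferInstance
    have : Z.Normal := inferInstance
    have hcyc : IsCyclic Q := FrobeniusFPF.isCyclic_of_fpf Q Z hZc hZ1
      (by rw [Subgroup.normalizer_eq_top]; exact le_top)
      (fun x hx hx1 => by
        refine eq_bot_iff.mpr fun z hz => Subgroup.mem_bot.mpr ?_
        obtain ⟨i, hi⟩ := (IsPGroup.iff_orderOf.mp hQp) ⟨x, hx⟩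
        rw [Subgroup.orderOf_mk] at hi
        obtain ⟨z', _, hz'⟩ := hz.1
        exact fpf x (by rw [hi]; exact hqcop.pow_left _) hx1 z (hz' ▸ z'.2)
          (Subgroup.mem_centralizer_singleton_iff.mp hz.2).symm)
      (Or.inl hQc)
    -- Q maps onto N
    have honto : ∀ y ∈ N, ∃ x ∈ Q, π x = y := by
      have hsurj : Function.Surjective (π.subgroupComap N) :=
        MonoidHom.subgroupComap_surjective_of_surjective π N (QuotientGroup.mk'_surjective K)
      intro y hy
      have hSt : (S.mapSurjective hsurj : Subgroup N) = ⊤ := by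
        refine ((S.mapSurjective hsurj).3 (Q := ⊤) (fun x => ?_) le_top).symm
        obtain ⟨i, hi⟩ := hNq x.1
        exact ⟨i, Subtype.ext hi⟩
      have : (⟨y, hy⟩ : N) ∈ (S.mapSurjective hsurj : Subgroup N) := hSt ▸ Subgroup.mem_top _
      rw [Sylow.coe_mapSurjective] at this
      obtain ⟨x, hx, hxy⟩ := this
      exact ⟨x, ⟨x, hx, rfl⟩, congrArg Subtype.val hxy⟩
    obtain ⟨g, hg⟩ := hcyc.exists_generator
    obtain ⟨x, hxQ, rfl⟩ := honto y hy
    obtain ⟨x', hxQ', hx'⟩ := honto wb hwb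
    obtain ⟨i, hi⟩ := Subgroup.mem_zpowers_iff.mp (hg ⟨x, hxQ⟩)
    obtain ⟨j, hj⟩ := Subgroup.mem_zpowers_iff.mp (hg ⟨x', hxQ'⟩)
    -- g has order q, so it is a power of any nontrivial element
    have hgq : (g : M) ^ q = 1 := hQinj _ (pow_mem g.2 q) 1 (one_mem Q) (by
      rw [map_pow, map_one]; exact hNe.2 _ (hQN _ g.2))
    have hxo : (⟨x, hxQ⟩ : Q) ∈ Subgroup.zpowers (⟨x', hxQ'⟩ : Q) := by
      refine Subgroup.mem_zpowers_iff.mpr ?_
      have hg1 : orderOf g = q := orderOf_eq_prime (Subtype.ext hgq) (fun e => hwb1 (by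
        rw [← hx']
        have : (⟨x', hxQ'⟩ : Q) = 1 := by rw [← hj, e, one_zpow]
        rw [show x' = 1 from congrArg Subtype.val this, map_one]))
      have hj' : IsCoprime j (q : ℤ) := by
        refine ((Nat.prime_iff_prime_int.mp hq).coprime_iff_not_dvd.mpr fun hd => ?_).symm
        obtain ⟨m, rfl⟩ := hd
        apply hwb1
        rw [← hx', show x' = 1 from congrArg Subtype.val (hj.symm.trans (by
          rw [zpow_mul, zpow_natCast, ← hg1, pow_orderOf_eq_one, one_zpow])), map_one]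
      obtain ⟨u, v, huv⟩ := hj'
      refine ⟨u * i, ?_⟩
      rw [← hj, ← hi, ← zpow_mul]
      have : j * (u * i) = i + (q : ℤ) * (-(v * i)) := by linear_combination i * huv
      rw [this, zpow_add, zpow_mul, zpow_natCast, ← hg1, pow_orderOf_eq_one, one_zpow, mul_one]
    obtain ⟨m, hm⟩ := Subgroup.mem_zpowers_iff.mp hxo
    refine Subgroup.mem_zpowers_iff.mpr ⟨m, ?_⟩
    rw [← hx', ← map_zpow]
    exact congrArg π (congrArg Subtype.val hm)
  have hNz : N = Subgroup.zpowers wb :=
    le_antisymm hQ (Subgroup.zpowers_le.mpr hwb)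
  have hNcyc : IsCyclic N := by rw [hNz]; infer_instance
  have hNcard : Nat.card N = q := by rw [hNz, Nat.card_zpowers, hwbo]
  let φ : M →* MulAut N := (MulAut.conjNormal).comp π
  have hAutComm : ∀ e f : MulAut N, e * f = f * e := fun e f =>
    (IsCyclic.mulAutMulEquiv N).injective (by rw [map_mul, map_mul, mul_comm])
  -- only elements of K act trivially
  have key : ∀ x ∈ (P : Subgroup M), φ x = 1 → x ∈ K := by
    intro x hx hφ
    by_contra hxK
    have h1 : π x * wb * (π x)⁻¹ = wb := by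
      have h := congrArg Subtype.val (DFunLike.congr_fun hφ ⟨wb, hwb⟩)
      simpa [φ, MulAut.conjNormal_apply] using h
    obtain ⟨c, hwc, hc⟩ := CoprimeAction.exists_fixed_mem_coset_zpowers (a := w) (D := K)
      (by rw [Subgroup.normalizer_eq_top]; exact Subgroup.mem_top w)
      (by rw [hwq, hk]; exact hqcop.pow_right _) x (by
        rw [← QuotientGroup.eq_one_iff]
        simp only [QuotientGroup.mk_mul, QuotientGroup.mk_inv, hw]
        have h2 := mul_inv_eq_iff_eq_mul.mp h1
        simp only [hπ, QuotientGroup.mk'_apply] at h2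
        rw [mul_assoc ((x : M ⧸ K)⁻¹), ← h2]
        group)
    have hcx : c = x * (x⁻¹ * c) := by group
    have hcP : c ∈ (P : Subgroup M) := hcx ▸ mul_mem hx (hKP hc)
    have hcK : c ∉ K := fun h => hxK (by
      have : x = c * (x⁻¹ * c)⁻¹ := by group
      rw [this]; exact mul_mem h (inv_mem hc))
    have := star c hcP hcK w (by rw [hwq]; exact hqcop) hwc.symm
    rw [this, orderOf_one] at hwq
    exact hq.one_lt.ne hwq
  refine ⟨?_, fun x hx => ?_⟩
  swap
  · refine key x hx.2 ?_
    have hker : commutator M ≤ φ.ker := by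
      rw [commutator_eq_closure, Subgroup.closure_le]
      rintro _ ⟨a, b, rfl⟩
      show φ (⁅a, b⁆) = 1
      rw [map_commutatorElement, commutatorElement_eq_one_iff_mul_comm]
      exact hAutComm _ _
    exact MonoidHom.mem_ker.mp (hker hx.1)
  intro A hAP hAe hAmax
  by_contra hAK
  obtain ⟨a, haA, haK⟩ := SetLike.not_le_iff_exists.mp hAK
  have haP := hAP haA
  have hap : a ^ p = 1 := hAe.2 a haA
  have hφa : φ a ≠ 1 := fun e => haK (key a haP e)
  have hpq : p ∣ q - 1 := by
    have h1 : orderOf (φ a) = p := orderOf_eq_prime (by rw [← map_pow, hap, map_one]) hφa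
    have h2 := orderOf_dvd_natCard (φ a)
    rwa [h1, IsCyclic.card_mulAut, hNcard, Nat.totient_prime hq] at h2
  -- index of A ⊓ K in A
  have hindex : Nat.card A ≤ p * Nat.card (A ⊓ K : Subgroup M) := by
    let ψ : A →* MulAut N := φ.comp A.subtype
    have hker : ψ.ker = (A ⊓ K).subgroupOf A := by
      ext y
      rw [MonoidHom.mem_ker, Subgroup.mem_subgroupOf]
      refine ⟨fun h => ⟨y.2, key _ (hAP y.2) h⟩, fun h => ?_⟩
      refine MulEquiv.ext fun n => Subtype.ext ?_
      show π (y : M) * n * (π (y : M))⁻¹ = n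
      rw [show π (y : M) = 1 from (QuotientGroup.eq_one_iff _).mpr h.2]
      group
    have hc : IsCyclic (MulAut N) := by
      have : IsCyclic (ZMod (Nat.card N))ˣ := by rw [hNcard]; infer_instance
      exact isCyclic_of_surjective _ (IsCyclic.mulAutMulEquiv N).symm.surjective
    have hcr : IsCyclic ψ.range := inferInstance
    obtain ⟨g, hg⟩ := IsCyclic.exists_generator (α := ψ.range)
    have hr : Nat.card ψ.range ≤ p := by
      rw [← orderOf_eq_card_of_forall_mem_zpowers hg]
      refine orderOf_le_of_pow_eq_one hp.out.pos ?_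
      obtain ⟨y, hy⟩ := g.2
      refine Subtype.ext ?_
      show (g : MulAut N) ^ p = 1
      rw [← hy]
      show φ (y : M) ^ p = 1
      rw [← map_pow, hAe.2 _ y.2, map_one]
    rw [← Subgroup.index_mul_card ψ.ker, hker]
    refine Nat.mul_le_mul ?_ (le_of_eq ?_)
    · rw [← hker, Subgroup.index_ker]; exact hr
    · exact Nat.card_congr (Subgroup.subgroupOfEquivOfLe inf_le_left).toEquiv
  -- Ω₁(Z(K))
  let V : Subgroup M :=
    { carrier := {x | x ∈ K ∧ x ^ p = 1 ∧ ∀ k ∈ K, Commute x k}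
      mul_mem' := fun {x y} hx hy => ⟨mul_mem hx.1 hy.1,
        by rw [(hx.2.2 y hy.1).mul_pow, hx.2.1, hy.2.1, one_mul],
        fun k hk => (hx.2.2 k hk).mul_left (hy.2.2 k hk)⟩
      one_mem' := ⟨one_mem K, one_pow p, fun k _ => Commute.one_left k⟩
      inv_mem' := fun {x} hx => ⟨inv_mem hx.1, by rw [inv_pow, hx.2.1, inv_one],
        fun k hk => (hx.2.2 k hk).inv_left⟩ }
  have hVK : V ≤ K := fun x hx => hx.1
  have hVn : V.Normal := ⟨fun x hx g => by
    have hKn : K.Normal := inferInstance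
    refine ⟨hKn.conj_mem x hx.1 g, by rw [conj_pow, hx.2.1, mul_one, mul_inv_cancel], fun k hk => ?_⟩
    have h := hx.2.2 _ (hKn.conj_mem k hk g⁻¹)
    have := h.map (MulAut.conj g).toMonoidHom
    simpa [MulAut.conj_apply, mul_assoc] using this⟩
  have hVc : IsMulCommutative V := ⟨⟨fun x y => Subtype.ext (x.2.2.2 _ y.2.1).eq⟩⟩
  have hVe : IsElementaryAbelian p V := ⟨hVc, fun x hx => hx.2.1⟩
  have hV1 : V ≠ ⊥ := by
    have : Nontrivial K := (Subgroup.nontrivial_iff_ne_bot K).mpr hK1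
    have := hKp.center_nontrivial
    obtain ⟨n, hn⟩ := (hKp.to_subgroup (Subgroup.center K)).exists_card_eq
    have hd : p ∣ Nat.card (Subgroup.center K) := by
      have := Finite.one_lt_card (α := Subgroup.center K)
      cases n with
      | zero => simp_all
      | succ n => rw [hn]; exact dvd_pow_self p (Nat.succ_ne_zero n)
    obtain ⟨z, hz⟩ := exists_prime_orderOf_dvd_card' p hd
    intro e
    have hmem : ((z : K) : M) ∈ V := ⟨(z : K).2, by
      rw [← hz, ← Subgroup.orderOf_coe z, ← Subgroup.orderOf_coe, pow_orderOf_eq_one],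
      fun k hk => congrArg Subtype.val (Subgroup.mem_center_iff.mp z.2 ⟨k, hk⟩).symm⟩
    rw [e, Subgroup.mem_bot] at hmem
    rw [show z = 1 from Subtype.ext (Subtype.ext hmem), orderOf_one] at hz
    exact hp.out.one_lt.ne hz
  obtain ⟨v, hv⟩ := (hKp.to_le hVK).exists_card_eq
  set D := V ⊓ Subgroup.centralizer ({a} : Set M) with hD
  set a' := w * a * w⁻¹ with ha'
  set D' := V ⊓ Subgroup.centralizer ({a'} : Set M) with hD'
  have hDcard : Nat.card D' = Nat.card D := by
    have : D' = D.map (MulAut.conj w).toMonoidHom := by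
      ext x
      rw [Subgroup.mem_map_equiv, hD, hD', Subgroup.mem_inf, Subgroup.mem_inf,
        Subgroup.mem_centralizer_singleton_iff, Subgroup.mem_centralizer_singleton_iff,
        MulAut.conj_symm_apply]
      refine and_congr ⟨fun h => ?_, fun h => ?_⟩ ?_
      · simpa [mul_assoc] using hVn.conj_mem x h w⁻¹
      · simpa [mul_assoc] using hVn.conj_mem _ h w
      · rw [ha', ← (MulAut.conj w⁻¹).injective.eq_iff]
        simp [mul_assoc]
    rw [this, Subgroup.card_map_of_injective (MulAut.conj w).injective]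
  have hDD : D ⊓ D' = ⊥ := by
    refine eq_bot_iff.mpr fun x hx => Subgroup.mem_bot.mpr ?_
    obtain ⟨⟨hxV, hxa⟩, -, hxa'⟩ := hx
    replace hxa : x * a = a * x := Subgroup.mem_centralizer_singleton_iff.mp hxa
    replace hxa' : x * a' = a' * x := Subgroup.mem_centralizer_singleton_iff.mp hxa'
    set u := a⁻¹ * a' with hu
    have hub : π u ≠ 1 := fun e => by
      apply hφa
      refine MulEquiv.ext fun n => Subtype.ext ?_
      obtain ⟨i, hi⟩ := Subgroup.mem_zpowers_iff.mp (hQ n n.2)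
      show π a * n * (π a)⁻¹ = n
      have h1 : π a * π w = π w * π a := by
        simp only [hu, ha', map_mul, map_inv] at e
        have h2 := inv_mul_eq_one.mp e
        rw [eq_mul_inv_iff_mul_eq] at h2
        exact h2
      have hwπ : π w = wb := hw
      rw [← hi, ← hwπ, ((show Commute (π a) (π w) from h1).zpow_right i).eq, mul_inv_cancel_right]
    have huN : π u ∈ N := by
      have : π u = ((π a)⁻¹ * wb * π a) * wb⁻¹ := by
        simp only [hu, ha', map_mul, map_inv, show π w = wb from hw]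
        group
      rw [this]
      refine mul_mem ?_ (inv_mem hwb)
      have h := hNn.conj_mem wb hwb (π a)⁻¹
      rwa [inv_inv] at h
    have huK : u ^ q ∈ K := by
      rw [← QuotientGroup.eq_one_iff, QuotientGroup.mk_pow]
      exact hNe.2 _ huN
    set e := u ^ Nat.card K with he
    have he1 : e ^ q = 1 := by
      rw [he, ← pow_mul, mul_comm, pow_mul]
      have h1 := congrArg Subtype.val (pow_card_eq_one' (G := K) (x := ⟨u ^ q, huK⟩))
      rwa [SubmonoidClass.coe_pow, Subgroup.coe_one] at h1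
    have he0 : e ≠ 1 := fun h => by
      have h1 : π u ^ Nat.card K = 1 := by rw [← map_pow, ← he, h, map_one]
      have h2 : π u ^ q = 1 := hNe.2 _ huN
      have h3 := pow_gcd_eq_one.mpr ⟨h1, h2⟩
      rw [show Nat.gcd (Nat.card K) q = 1 from by rw [hk]; exact hqcop.symm.pow_left _, pow_one] at h3
      exact hub h3
    have hxu : Commute x u := ((show Commute x a from hxa).inv_right).mul_right hxa'
    exact fpf e ((hqcop).coprime_dvd_left (orderOf_dvd_of_pow_eq_one he1)) he0 x (hVK hxV)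
      (hxu.pow_right _).symm
  obtain ⟨d, hd⟩ := (hKp.to_le (inf_le_left.trans hVK : D ≤ K)).exists_card_eq
  have h2d : d + d ≤ v := by
    have h := card_sup_ineq hCN (A := D) (B := D') (T := V) inf_le_left inf_le_left
    rw [hDD, Subgroup.card_bot, mul_one, hDcard, hd, hv, ← pow_add] at h
    exact (Nat.pow_le_pow_iff_right hp.out.one_lt).mp h
  have hqv : q ∣ p ^ v - 1 := by
    let _ : CommGroup V := { (inferInstance : Group V) with
      mul_comm := fun a b => hVc.is_comm.comm a b }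
    have hn : Subgroup.zpowers w ≤ Subgroup.normalizer (V : Set M) := by
      rw [Subgroup.normalizer_eq_top]; exact le_top
    let _ := FrobeniusFPF.conjAction (Subgroup.zpowers w) V hn
    have h := FrobeniusFPF.card_dvd_sub_one (M := Subgroup.zpowers w) (W := V)
      (FrobeniusFPF.isFPF_conjAction hn fun x hx hx1 => by
        refine eq_bot_iff.mpr fun z hz => Subgroup.mem_bot.mpr ?_
        refine fpf x ?_ hx1 z (hVK hz.1) (Subgroup.mem_centralizer_singleton_iff.mp hz.2).symm
        refine hqcop.coprime_dvd_left (hwq ▸ ?_)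
        rw [← Nat.card_zpowers w]
        exact Subgroup.orderOf_dvd_natCard _ hx)
    rwa [Nat.card_zpowers, hwq, hv] at h
  have hvd : d + 2 ≤ v := by
    by_contra hlt
    have hv2 : v ≤ 2 := by omega
    have hv0 : v ≠ 0 := fun e => by
      rw [e, pow_zero] at hv
      exact hV1 (Subgroup.eq_bot_of_card_eq V hv)
    have hq2 : q ≠ 2 := fun e => by
      have h1 : 2 ∣ Nat.card M := e ▸ hwq ▸ orderOf_dvd_natCard w
      exact Nat.not_even_iff_odd.mpr hodd (even_iff_two_dvd.mpr h1)
    have hp2 := hp.out.two_le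
    have hqp' : p < q := by
      have := Nat.le_of_dvd (by have := hq.two_le; omega) hpq
      omega
    obtain ⟨c, hc⟩ := hpq
    have hdvd : q ∣ (p + 1) * (p - 1) := by
      rcases (show v = 1 ∨ v = 2 by omega) with rfl | rfl
      · rw [pow_one] at hqv; exact dvd_mul_of_dvd_right hqv _
      · rw [← Nat.sq_sub_sq]; simpa using hqv
    rcases hq.dvd_mul.mp hdvd with h | h
    · have := Nat.le_of_dvd (by omega) h
      rcases Nat.eq_or_lt_of_le (show q ≤ p + 1 from this) with e | e
      · have hpo : Odd p := hp.out.odd_of_ne_two fun e2 => by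
          have : q = 3 := by omega
          have h2 : 2 ∣ Nat.card M := e2 ▸ by
            obtain ⟨i, hi⟩ := hPord a haP
            have : p ∣ Nat.card M := by
              rw [← orderOf_eq_prime hap (fun h => haK (h ▸ one_mem K))]
              exact orderOf_dvd_natCard a
            exact this
          exact Nat.not_even_iff_odd.mpr hodd (even_iff_two_dvd.mpr h2)
        exact hq2 (hq.eq_two_or_odd'.resolve_right (e ▸ (Nat.not_odd_iff_even.mpr hpo.add_one)))
      · omega
    · have := Nat.le_of_dvd (by omega) h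
      omega
  -- the larger elementary abelian subgroup
  set B := (A ⊓ K) ⊔ V with hB
  have hBmem : ∀ x ∈ B, ∃ y ∈ A ⊓ K, ∃ z ∈ V, x = y * z := fun x hx => by
    obtain ⟨y, hy, z, hz, rfl⟩ := Subgroup.mem_sup_of_normal_right.mp hx
    exact ⟨y, hy, z, hz, rfl⟩
  have hAc : ∀ x ∈ A, ∀ y ∈ A, Commute x y := fun x hx y hy =>
    congrArg Subtype.val (hAe.1.is_comm.comm (⟨x, hx⟩ : A) ⟨y, hy⟩)
  have hBe : IsElementaryAbelian p B := by
    refine ⟨⟨⟨?_⟩⟩, ?_⟩
    · rintro ⟨x, hx⟩ ⟨x', hx'⟩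
      obtain ⟨y, hy, z, hz, rfl⟩ := hBmem x hx
      obtain ⟨y', hy', z', hz', rfl⟩ := hBmem x' hx'
      refine Subtype.ext (Commute.eq ?_)
      exact (((hAc y hy.1 y' hy'.1).mul_right (hz'.2.2 y hy.2).symm)).mul_left
        ((hz.2.2 y' hy'.2).mul_right (hz.2.2 z' hz'.1))
    · intro x hx
      obtain ⟨y, hy, z, hz, rfl⟩ := hBmem x hx
      rw [(hz.2.2 y hy.2).symm.mul_pow, hAe.2 y hy.1, hz.2.1, one_mul]
  have hBP : B ≤ P := sup_le (inf_le_right.trans hKP) (hVK.trans hKP)
  have h1 := hAmax B hBP hBe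
  have h2 := card_sup_ineq hCN (A := A ⊓ K) (B := V) (T := B) le_sup_left le_sup_right
  have h3 : Nat.card ((A ⊓ K) ⊓ V : Subgroup M) ≤ p ^ d := by
    rw [← hd]
    exact Subgroup.card_le_of_le fun x hx =>
      ⟨hx.2, Subgroup.mem_centralizer_singleton_iff.mpr (hAc x hx.1.1 a haA).eq⟩
  rw [hv] at h2
  have h4 : Nat.card (A ⊓ K : Subgroup M) * p ^ (d + 2) ≤
      p * Nat.card (A ⊓ K : Subgroup M) * p ^ d :=
    calc Nat.card (A ⊓ K : Subgroup M) * p ^ (d + 2)
        ≤ Nat.card (A ⊓ K : Subgroup M) * p ^ v :=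
          Nat.mul_le_mul_left _ (Nat.pow_le_pow_right hp.out.pos hvd)
      _ ≤ Nat.card B * Nat.card ((A ⊓ K) ⊓ V : Subgroup M) := h2
      _ ≤ (p * Nat.card (A ⊓ K : Subgroup M)) * p ^ d := Nat.mul_le_mul (h1.trans hindex) h3
  have h5 : 0 < Nat.card (A ⊓ K : Subgroup M) := Nat.card_pos
  have h6 : p ^ (d + 2) ≤ p ^ (d + 1) := by
    refine Nat.le_of_mul_le_mul_left ?_ h5
    rw [pow_succ p d, ← mul_assoc]
    linarith [h4]
  have := (Nat.pow_le_pow_iff_right hp.out.one_lt).mp h6
  omega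

/-- `J(P)` is normal. -/
theorem je_normal [Group.IsSolvable M] (hodd : Odd (Nat.card M)) {p : ℕ} [hp : Fact p.Prime]
    (hK1 : pCore p M ≠ ⊥) (P : Sylow p M) : (je p (P : Subgroup M)).Normal := by
  by_cases hP : (P : Subgroup M) = pCore p M
  · rw [hP]; exact je_normal_of_normal _
  have hKP : pCore p M ≤ P := normal_le_sylow (HallCore.isPGroup_pCore p M) P
  have h1 := (sylow_cases hCN hodd hK1 P hP).1
  have e : je p (P : Subgroup M) = je p (pCore p M) := by
    obtain ⟨A₀, hA₀, hA₀e, hA₀m⟩ := exists_max p (P : Subgroup M)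
    refine le_antisymm (sSup_le fun A hA => le_sSup
      ⟨h1 A hA.1 hA.2.1 hA.2.2, hA.2.1, fun B hB hBe => hA.2.2 B (hB.trans hKP) hBe⟩)
      (sSup_le fun A hA => le_sSup ⟨hA.1.trans hKP, hA.2.1, fun B hB hBe => ?_⟩)
    exact (hA₀m B hB hBe).trans (hA.2.2 A₀ (h1 A₀ hA₀ hA₀e hA₀m) hA₀e)
  rw [e]
  exact je_normal_of_normal _

end Cfsg.Agent.CNLocal
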