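import Cfsg.Prelude
import Cfsg.Agent.Lib.CNLocal
import Cfsg.Agent.Lib.TransferTate
import Cfsg.Agent.Lib.FittingHallBasic

/-!
Global structure of a minimal simple CN-group of odd order: the maximal subgroups are Frobenius groups
whose kernels are TI-subgroups of pairwise coprime order covering the group.
-/

namespace Cfsg.Agent.CNGlobal

open Cfsg Cfsg.Agent.CNBasic Cfsg.Agent.CNLocal
open scoped commutatorElement

/-- If a subgroup contains all prime-power order powers of `x`, it contains `x`. -/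
theorem mem_of_prime_parts {G : Type*} [Group G] [Finite G] (H : Subgroup G) (x : G)
    (h : ∀ r : ℕ, r.Prime → ∀ y ∈ Subgroup.zpowers x, ∀ i : ℕ, orderOf y = r ^ i → y ∈ H) : x ∈ H := by
  suffices he : H.subgroupOf (Subgroup.zpowers x) = ⊤ from
    Subgroup.subgroupOf_eq_top.mp he (Subgroup.mem_zpowers x)
  refine Subgroup.index_eq_one.mp ?_
  by_contra hne
  obtain ⟨r, hr, hrd⟩ := Nat.exists_prime_and_dvd hne
  have := Fact.mk hr
  obtain ⟨S⟩ := (inferInstance : Nonempty (Sylow r (Subgroup.zpowers x)))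
  refine S.not_dvd_index (hrd.trans (Subgroup.index_dvd_of_le fun z hz => ?_))
  obtain ⟨i, hi⟩ := (IsPGroup.iff_orderOf.mp S.isPGroup') ⟨z, hz⟩
  rw [Subgroup.orderOf_mk] at hi
  exact h r hr z z.2 i (by rw [← hi, Subgroup.orderOf_coe])

section intrinsic

variable {M : Type*} [Group M] [Finite M] [Group.IsSolvable M]

theorem exists_pCore_ne_bot [Nontrivial M] : ∃ q : ℕ, q.Prime ∧ pCore q M ≠ ⊥ := by
  obtain ⟨N, hN⟩ := HallSolvable.exists_minNormal (G := M)
  have := hN.normal
  obtain ⟨q, hq, -, hNq⟩ := hN.exists_prime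
  exact ⟨q, hq, fun e => hN.ne_bot (eq_bot_iff.mpr (e ▸ HallCore.le_pCore hNq))⟩

/-- Elements of prime orders `p`, `r` with trivial cores act fixed-point-freely on a `q`-core. -/
theorem isCyclic_of_cores (hCN : IsCNGroup M) {p r : ℕ} [Fact p.Prime] [Fact r.Prime]
    (hp : pCore p M = ⊥) (hr : pCore r M = ⊥) (A : Subgroup M) [Nontrivial M]
    (hA : ∀ e ∈ A, e ≠ 1 → ∃ k : ℕ, orderOf (e ^ k) = p ∨ orderOf (e ^ k) = r)
    (hAc : IsMulCommutative A ∨ ∃ p' q' : ℕ, p'.Prime ∧ q'.Prime ∧ Nat.card A = p' * q') :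
    IsCyclic A := by
  obtain ⟨q, hq, hQ⟩ := exists_pCore_ne_bot (M := M)
  have := Fact.mk hq
  have hQp := HallCore.isPGroup_pCore q M
  have : Nontrivial (pCore q M) := (Subgroup.nontrivial_iff_ne_bot _).mpr hQ
  let W := (Subgroup.center (pCore q M)).map (pCore q M).subtype
  have hW1 : W ≠ ⊥ := by
    have := hQp.bot_lt_center
    rw [Ne, Subgroup.map_eq_bot_iff_of_injective _ (Subgroup.subtype_injective _)]
    exact this.ne'
  have hWc : IsMulCommutative W := inferInstance
  have : W.Normal := inferInstance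
  refine FrobeniusFPF.isCyclic_of_fpf A W hWc hW1 (by rw [Subgroup.normalizer_eq_top]; exact le_top)
    (fun e he he1 => eq_bot_iff.mpr fun x hx => Subgroup.mem_bot.mpr ?_) hAc
  by_contra hx1
  obtain ⟨k, hk⟩ := hA e he he1
  obtain ⟨⟨x', _, hx'⟩, hxe⟩ := hx
  have hxQ : x ∈ pCore q M := hx' ▸ x'.2
  have hc : Commute (e ^ k) x :=
    (show Commute e x from (Subgroup.mem_centralizer_singleton_iff.mp hxe).symm).pow_left k
  have key : ∀ s : ℕ, s.Prime → pCore s M = ⊥ → orderOf (e ^ k) = s → False := by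
    intro s hs hs0 hks
    have := Fact.mk hs
    have hsq : s ≠ q := fun h => hQ (h ▸ hs0)
    have h1 := mem_fitting_of_commute hCN (p := q)
      (by rw [hks]; exact (Nat.coprime_primes hs hq).mpr hsq) hxQ hx1 hc
    have h2 := mem_pCore_of_mem_fitting h1 (i := 1) (hks.trans (pow_one s).symm)
    rw [hs0, Subgroup.mem_bot] at h2
    rw [h2, orderOf_one] at hks
    exact hs.one_lt.ne hks
  rcases hk with hk | hk
  · exact key p Fact.out hp hk
  · exact key r Fact.out hr hk

end intrinsic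

variable {G : Type*} [Group G] [Finite G]

/-- A finite cyclic group has at most one subgroup of order `p`. -/
theorem mem_zpowers_of_cyclic {A : Type*} [Group A] [Finite A] [IsCyclic A] {p : ℕ} (hp : p.Prime)
    {d e : A} (hd : orderOf d = p) (he : orderOf e = p) : e ∈ Subgroup.zpowers d := by
  classical
  have := Fintype.ofFinite A
  set s := Finset.univ.filter (fun x : A => x ^ p = 1) with hs
  have hsub : (Subgroup.zpowers d : Set A).toFinset ⊆ s := fun x hx => by
    rw [Set.mem_toFinset, SetLike.mem_coe] at hx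
    rw [hs, Finset.mem_filter]
    exact ⟨Finset.mem_univ _, orderOf_dvd_iff_pow_eq_one.mp (hd ▸ orderOf_dvd_of_mem_zpowers hx)⟩
  have heq := Finset.eq_of_subset_of_card_le hsub (by
    rw [Set.toFinset_card, ← Nat.card_eq_fintype_card]
    simp only [SetLike.coe_sort_coe]
    rw [Nat.card_zpowers, hd]
    exact IsCyclic.card_pow_eq_one_le hp.pos)
  have : e ∈ s := by
    rw [hs, Finset.mem_filter]
    exact ⟨Finset.mem_univ _, he ▸ pow_orderOf_eq_one e⟩
  rw [← heq, Set.mem_toFinset] at this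
  exact this

/-- In a finite `p`-group, a proper subgroup is properly contained in its normaliser. -/
theorem exists_normalizing {p : ℕ} [Fact p.Prime] {D Q : Subgroup G} (hQ : IsPGroup p Q) (hlt : D < Q) :
    ∃ g ∈ Q, g ∉ D ∧ g ∈ Subgroup.normalizer (D : Set G) := by
  have : Group.IsNilpotent Q := hQ.isNilpotent
  have h1 : D.subgroupOf Q < ⊤ := lt_top_iff_ne_top.mpr fun e =>
    hlt.not_ge (Subgroup.subgroupOf_eq_top.mp e)
  obtain ⟨g, hg, hgD⟩ := SetLike.exists_of_lt
    (normalizerCondition_of_isNilpotent (D.subgroupOf Q) h1)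
  refine ⟨g, g.2, fun h => hgD (Subgroup.mem_subgroupOf.mpr h), ?_⟩
  refine Subgroup.mem_normalizer_iff.mpr fun x => ⟨fun hx => ?_, fun hx => ?_⟩
  · exact (Subgroup.mem_normalizer_iff.mp hg ⟨x, hlt.le hx⟩).mp hx
  · have hxQ : x ∈ Q := by
      have := Q.mul_mem (Q.mul_mem (Q.inv_mem g.2) (hlt.le hx)) g.2
      simpa [mul_assoc] using this
    exact (Subgroup.mem_normalizer_iff.mp hg ⟨x, hxQ⟩).mpr hx

/-- A normal subgroup of order `p` of a `p`-group is central. -/
theorem centralizes_of_normalizes {p : ℕ} [hp : Fact p.Prime] {d g : G} (hd : orderOf d = p)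
    (hg : ∃ k : ℕ, orderOf g = p ^ k)
    (hn : g ∈ Subgroup.normalizer ((Subgroup.zpowers d : Subgroup G) : Set G)) : Commute g d := by
  set N := Subgroup.normalizer ((Subgroup.zpowers d : Subgroup G) : Set G) with hN
  have hdN : Subgroup.zpowers d ≤ N := Subgroup.le_normalizer
  have : ((Subgroup.zpowers d).subgroupOf N).Normal := Subgroup.normal_in_normalizer
  obtain ⟨k, hk⟩ := hg
  obtain ⟨z, hz, hz1, hgz⟩ := exists_fixed (G := N) (V := (Subgroup.zpowers d).subgroupOf N) (q := p)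
    (by
      rw [Ne, Subgroup.subgroupOf_eq_bot, disjoint_iff, inf_of_le_left hdN, Subgroup.zpowers_eq_bot]
      exact fun e => hp.out.one_lt.ne (by rw [← hd, e, orderOf_one]))
    (IsPGroup.of_card (n := 1) (by
      rw [Nat.card_congr (Subgroup.subgroupOfEquivOfLe hdN).toEquiv, Nat.card_zpowers, hd, pow_one]))
    (a := ⟨g, hn⟩) ⟨k, Subtype.ext (by
      show g ^ p ^ k = 1
      rw [← hk, pow_orderOf_eq_one])⟩
  obtain ⟨i, hi⟩ := Subgroup.mem_zpowers_iff.mp (Subgroup.mem_subgroupOf.mp hz)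
  have hcz : Commute g (z : G) := congrArg Subtype.val hgz
  have hzd : d ∈ Subgroup.zpowers (z : G) := by
    have h1 : Subgroup.zpowers (z : G) = Subgroup.zpowers d := by
      refine Subgroup.eq_of_le_of_card_ge (Subgroup.zpowers_le.mpr ⟨i, hi⟩) ?_
      rw [Nat.card_zpowers, Nat.card_zpowers, hd]
      have h2 : orderOf (z : G) ∣ p := hd ▸ orderOf_dvd_of_mem_zpowers ⟨i, hi⟩
      rcases (Nat.dvd_prime hp.out).mp h2 with h3 | h3
      · exact absurd (Subtype.ext (orderOf_eq_one_iff.mp h3)) hz1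
      · exact h3.ge
    rw [h1]; exact Subgroup.mem_zpowers d
  obtain ⟨j, hj⟩ := Subgroup.mem_zpowers_iff.mp hzd
  exact hj ▸ hcz.zpow_right j

/-- Standing hypothesis. -/
structure Hyp (G : Type*) [Group G] : Prop where
  odd : Odd (Nat.card G)
  cn : IsCNGroup G
  simple : IsSimpleGroup G
  perfect : commutator G = ⊤
  solv : ∀ H : Subgroup G, H ≠ ⊤ → Group.IsSolvable H

/-- The candidate maximal subgroup attached to a Sylow subgroup. -/
def Mof (p : ℕ) (P : Subgroup G) : Subgroup G := Subgroup.normalizer (je p P : Set G)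

theorem Mof_conj (p : ℕ) (P : Subgroup G) (g : G) :
    Mof p (P.map (MulAut.conj g).toMonoidHom) = (Mof p P).map (MulAut.conj g).toMonoidHom := by
  rw [Mof, Mof, ← je_conj]
  exact (Subgroup.map_equiv_normalizer_eq (je p P) (MulAut.conj g)).symm

/-- A prime is good if some maximal subgroup has nontrivial `p`-core. -/
def Good (G : Type*) [Group G] (p : ℕ) : Prop := ∃ M : Subgroup G, IsCoatom M ∧ pCore p M ≠ ⊥

variable (h : Hyp G)
include h

theorem normal_cases {N : Subgroup G} (hN : N.Normal) : N = ⊥ ∨ N = ⊤ :=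
  h.simple.eq_bot_or_eq_top_of_normal N hN

theorem normalizer_ne_top {D : Subgroup G} (h0 : D ≠ ⊥) (h1 : D ≠ ⊤) :
    Subgroup.normalizer (D : Set G) ≠ ⊤ := fun e =>
  (normal_cases h (Subgroup.normalizer_eq_top_iff.mp e)).elim h0 h1

theorem normalizer_coatom {M : Subgroup G} (hM : IsCoatom M) (h0 : M ≠ ⊥) :
    Subgroup.normalizer (M : Set G) = M := by
  rcases hM.le_iff.mp (Subgroup.le_normalizer (H := M)) with e | e
  · exact absurd e (normalizer_ne_top h h0 hM.1)
  · exact e

theorem sub_solvable {M : Subgroup G} (hM : IsCoatom M) : Group.IsSolvable M := h.solv M hM.1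

theorem sub_odd (M : Subgroup G) : Odd (Nat.card M) := h.odd.of_dvd_nat (Subgroup.card_subgroup_dvd_card M)

/-- Every Sylow `p`-subgroup of a maximal subgroup with nontrivial `p`-core is a Sylow subgroup of `G`
and determines it. -/
theorem structure_aux {M : Subgroup G} (hM : IsCoatom M) {p : ℕ} [hp : Fact p.Prime]
    (hK : pCore p M ≠ ⊥) (S : Sylow p M) :
    ∃ P : Sylow p G, (P : Subgroup G) = (S : Subgroup M).map M.subtype ∧ Mof p (P : Subgroup G) = M := by
  have := sub_solvable h hM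
  set S' := (S : Subgroup M).map M.subtype with hS'
  have hSp : IsPGroup p S' := S.isPGroup'.map _
  have hS1 : (S : Subgroup M) ≠ ⊥ := fun e =>
    hK (eq_bot_iff.mpr (e ▸ normal_le_sylow (HallCore.isPGroup_pCore p M) S))
  have hje : je p S' = (je p (S : Subgroup M)).map M.subtype :=
    (je_map _ M.subtype_injective _).symm
  have hjn := je_normal (subgroup h.cn M) (sub_odd h M) hK S
  have hje0 : je p S' ≠ ⊥ := by
    rw [hje, Ne, Subgroup.map_eq_bot_iff_of_injective _ M.subtype_injective]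
    exact je_ne_bot S.isPGroup' hS1
  have hS'M : S' ≤ M := Subgroup.map_subtype_le _
  have hMof : Mof p S' = M := by
    have hle : M ≤ Mof p S' := by
      rw [Mof, hje]
      have h1 := Subgroup.le_normalizer_map (H := je p (S : Subgroup M)) M.subtype
      rwa [Subgroup.normalizer_eq_top, ← MonoidHom.range_eq_map, Subgroup.range_subtype] at h1
    rcases hM.le_iff.mp hle with e | e
    · refine absurd e (normalizer_ne_top h hje0 fun e' => hM.1 ?_)
      exact top_le_iff.mp (e' ▸ (je_le S').trans hS'M)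
    · exact e
  obtain ⟨P, hP⟩ := hSp.exists_le_sylow
  refine ⟨P, ?_, ?_⟩
  · by_contra hne
    obtain ⟨g, hgP, hgS, hgn⟩ := exists_normalizing P.isPGroup' (lt_of_le_of_ne hP (Ne.symm hne))
    have hgM : g ∈ M := by
      rw [← hMof, Mof]
      refine Subgroup.mem_normalizer_iff_map_conj_eq.mpr ?_
      show (je p S').map (MulAut.conj g).toMonoidHom = je p S'
      rw [je_conj]
      exact congrArg (je p) (Subgroup.mem_normalizer_iff_map_conj_eq.mp hgn)
    have h2 : IsPGroup p ((P : Subgroup G).subgroupOf M) :=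
      P.isPGroup'.comap_of_injective M.subtype M.subtype_injective
    have h3 : (S : Subgroup M) ≤ (P : Subgroup G).subgroupOf M := fun x hx =>
      Subgroup.mem_subgroupOf.mpr (hP ⟨x, hx, rfl⟩)
    exact hgS ⟨⟨g, hgM⟩, (S.3 h2 h3) ▸ Subgroup.mem_subgroupOf.mpr hgP, rfl⟩
  · by_cases he : (P : Subgroup G) = S'
    · rw [he]; exact hMof
    · obtain ⟨g, hgP, hgS, hgn⟩ := exists_normalizing P.isPGroup' (lt_of_le_of_ne hP (Ne.symm he))
      exfalso
      have hgM : g ∈ M := by
        rw [← hMof, Mof]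
        refine Subgroup.mem_normalizer_iff_map_conj_eq.mpr ?_
        show (je p S').map (MulAut.conj g).toMonoidHom = je p S'
        rw [je_conj]
        exact congrArg (je p) (Subgroup.mem_normalizer_iff_map_conj_eq.mp hgn)
      have h2 : IsPGroup p ((P : Subgroup G).subgroupOf M) :=
        P.isPGroup'.comap_of_injective M.subtype M.subtype_injective
      have h3 : (S : Subgroup M) ≤ (P : Subgroup G).subgroupOf M := fun x hx =>
        Subgroup.mem_subgroupOf.mpr (hP ⟨x, hx, rfl⟩)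
      exact hgS ⟨⟨g, hgM⟩, (S.3 h2 h3) ▸ Subgroup.mem_subgroupOf.mpr hgP, rfl⟩

/-- A `p`-subgroup of a maximal subgroup with nontrivial `p`-core lies in a Sylow subgroup attached to it. -/
theorem exists_sylow_Mof {M : Subgroup G} (hM : IsCoatom M) {p : ℕ} [hp : Fact p.Prime]
    (hK : pCore p M ≠ ⊥) {R : Subgroup G} (hRM : R ≤ M) (hR : IsPGroup p R) :
    ∃ P : Sylow p G, R ≤ P ∧ (P : Subgroup G) ≤ M ∧ Mof p (P : Subgroup G) = M := by
  obtain ⟨S, hS⟩ := (hR.comap_of_injective M.subtype M.subtype_injective).exists_le_sylow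
  obtain ⟨P, hP, hPM⟩ := structure_aux h hM hK S
  refine ⟨P, ?_, hP ▸ Subgroup.map_subtype_le _, hPM⟩
  rw [hP]
  exact fun x hx => ⟨⟨x, hRM hx⟩, hS (Subgroup.mem_subgroupOf.mpr hx), rfl⟩

theorem good_sylow {p : ℕ} [hp : Fact p.Prime] (hg : Good G p) (P : Sylow p G) :
    IsCoatom (Mof p (P : Subgroup G)) ∧ (P : Subgroup G) ≤ Mof p (P : Subgroup G) ∧
      pCore p (Mof p (P : Subgroup G)) ≠ ⊥ ∧ (P : Subgroup G) ≠ ⊥ := by
  obtain ⟨M, hM, hK⟩ := hg
  obtain ⟨P₀, -, hP₀M, hMof⟩ := exists_sylow_Mof h hM hK (R := ⊥) bot_le IsPGroup.of_bot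
  obtain ⟨g, hg⟩ := MulAction.exists_smul_eq G P₀ P
  have hP : (P : Subgroup G) = (P₀ : Subgroup G).map (MulAut.conj g).toMonoidHom := by
    rw [← hg]; rfl
  have hm : Mof p (P : Subgroup G) = M.map (MulAut.conj g).toMonoidHom := by rw [hP, Mof_conj, hMof]
  have hco : IsCoatom (Mof p (P : Subgroup G)) := by
    rw [hm]
    exact ((MulAut.conj g).mapSubgroup.isCoatom_iff M).mpr hM
  have hPM : (P : Subgroup G) ≤ Mof p (P : Subgroup G) := by
    rw [hm, hP]; exact Subgroup.map_mono hP₀M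
  have hP1 : (P : Subgroup G) ≠ ⊥ := by
    intro e
    have hc := Sylow.card_eq_multiplicity P
    rw [e, Subgroup.card_bot] at hc
    obtain ⟨k, hk⟩ := (HallCore.isPGroup_pCore p M).exists_card_eq
    have h1 := (Subgroup.one_lt_card_iff_ne_bot _).mpr hK
    have h2 : p ∣ Nat.card G := by
      refine dvd_trans ?_ ((Subgroup.card_subgroup_dvd_card (pCore p M)).trans
        (Subgroup.card_subgroup_dvd_card M))
      cases k with
      | zero => simp_all
      | succ k => rw [hk]; exact dvd_pow_self p (Nat.succ_ne_zero k)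
    have h3 := hp.out.factorization_pos_of_dvd Nat.card_pos.ne' h2
    have := Nat.one_lt_pow h3.ne' hp.out.one_lt
    omega
  refine ⟨hco, hPM, ?_, hP1⟩
  intro e
  have hle : je p (P : Subgroup G) ≤ Mof p (P : Subgroup G) := Subgroup.le_normalizer
  have hn : ((je p (P : Subgroup G)).subgroupOf (Mof p (P : Subgroup G))).Normal :=
    Subgroup.normal_in_normalizer
  have h1 := HallCore.le_pCore (N := (je p (P : Subgroup G)).subgroupOf (Mof p (P : Subgroup G)))
    (p := p) ((P.isPGroup'.to_le (je_le _)).comap_of_injective _ (Subgroup.subtype_injective _))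
  rw [e, le_bot_iff, Subgroup.subgroupOf_eq_bot, disjoint_iff, inf_of_le_left hle] at h1
  exact je_ne_bot P.isPGroup' hP1 h1

/-- Strong embedding: Sylow subgroups that meet nontrivially have the same maximal subgroup. -/
theorem Mof_eq_of_inf_ne_bot {p : ℕ} [hp : Fact p.Prime] (hg : Good G p) (P₁ P₂ : Sylow p G)
    (hne : (P₁ : Subgroup G) ⊓ P₂ ≠ ⊥) : Mof p (P₁ : Subgroup G) = Mof p (P₂ : Subgroup G) := by
  induction hn : Nat.card G - Nat.card ((P₁ : Subgroup G) ⊓ P₂ : Subgroup G) using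
    Nat.strong_induction_on generalizing P₁ P₂ with
  | _ n ih =>
    by_contra hM
    set D := (P₁ : Subgroup G) ⊓ P₂ with hD
    have hDp : IsPGroup p D := P₁.isPGroup'.to_le inf_le_left
    have hne12 : (P₁ : Subgroup G) ≠ P₂ := fun e => hM (by rw [e])
    have hlt₁ : D < P₁ := lt_of_le_of_ne inf_le_left fun e =>
      hne12 ((P₁.3 P₂.2 (e ▸ inf_le_right)).symm)
    have hlt₂ : D < P₂ := lt_of_le_of_ne inf_le_right fun e =>
      hne12 (P₂.3 P₁.2 (e ▸ inf_le_left))
    obtain ⟨g₁, hg₁P, hg₁D, hg₁n⟩ := exists_normalizing P₁.isPGroup' hlt₁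
    obtain ⟨g₂, hg₂P, hg₂D, hg₂n⟩ := exists_normalizing P₂.isPGroup' hlt₂
    set N := Subgroup.normalizer (D : Set G) with hN
    have hD1 : D ≠ ⊤ := fun e => (good_sylow h hg P₁).1.1
      (top_le_iff.mp (e ▸ inf_le_left.trans (good_sylow h hg P₁).2.1))
    obtain ⟨M, hMc, hNM⟩ := (eq_top_or_exists_le_coatom N).resolve_left
      (normalizer_ne_top h hne hD1)
    -- the two normalisers in the Sylow subgroups lie in Sylow subgroups with a common maximal subgroup
    suffices key : ∃ Q₁ Q₂ : Sylow p G, (P₁ : Subgroup G) ⊓ N ≤ Q₁ ∧ (P₂ : Subgroup G) ⊓ N ≤ Q₂ ∧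
        Mof p (Q₁ : Subgroup G) = Mof p (Q₂ : Subgroup G) by
      obtain ⟨Q₁, Q₂, hQ₁, hQ₂, hQ⟩ := key
      have step : ∀ (P : Sylow p G) (Q : Sylow p G) (g : G), D ≤ P → g ∈ (P : Subgroup G) → g ∉ D →
          g ∈ N → (P : Subgroup G) ⊓ N ≤ Q → Mof p (P : Subgroup G) = Mof p (Q : Subgroup G) := by
        intro P Q g hDP hgP hgD hgN hPQ
        have hlt : D < (P : Subgroup G) ⊓ Q :=
          lt_of_le_of_ne (le_inf hDP ((le_inf hDP Subgroup.le_normalizer).trans hPQ))
            fun e => hgD (e ▸ ⟨hgP, hPQ ⟨hgP, hgN⟩⟩)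
        refine ih _ ?_ P Q (fun e => hne (le_bot_iff.mp (e ▸ hlt.le))) rfl
        rw [← hn]
        have h1 : Nat.card D < Nat.card ((P : Subgroup G) ⊓ Q : Subgroup G) := by
          by_contra hc
          exact hlt.ne (Subgroup.eq_of_le_of_card_ge hlt.le (not_lt.mp hc))
        have h2 : Nat.card ((P : Subgroup G) ⊓ Q : Subgroup G) ≤ Nat.card G :=
          Subgroup.card_le_card_group _
        omega
      exact hM ((step P₁ Q₁ g₁ inf_le_left hg₁P hg₁D hg₁n hQ₁).trans
        (hQ.trans (step P₂ Q₂ g₂ inf_le_right hg₂P hg₂D hg₂n hQ₂).symm))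
    by_cases hK : pCore p M = ⊥
    · -- all subgroups of order p of D coincide
      have := sub_solvable h hMc
      have : Nontrivial D := (Subgroup.nontrivial_iff_ne_bot D).mpr hne
      have := hDp.center_nontrivial
      obtain ⟨k, hk⟩ := (hDp.to_subgroup (Subgroup.center D)).exists_card_eq
      have hdvd : p ∣ Nat.card (Subgroup.center D) := by
        have := Finite.one_lt_card (α := Subgroup.center D)
        cases k with
        | zero => simp_all
        | succ k => rw [hk]; exact dvd_pow_self p (Nat.succ_ne_zero k)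
      obtain ⟨⟨⟨d, hdD⟩, hdc⟩, hd⟩ := exists_prime_orderOf_dvd_card' p hdvd
      rw [Subgroup.orderOf_mk, Subgroup.orderOf_mk] at hd
      have hDM : D ≤ M := Subgroup.le_normalizer.trans hNM
      have uniq : ∀ e ∈ D, orderOf e = p → e ∈ Subgroup.zpowers d := by
        intro e he heo
        have hc : Commute d e :=
          (congrArg Subtype.val (Subgroup.mem_center_iff.mp hdc ⟨e, he⟩)).symm
        have hne' : Nontrivial M := ⟨⟨⟨d, hDM hdD⟩, 1, fun e' => hp.out.one_lt.ne (by
          rw [← hd, show d = 1 from congrArg Subtype.val e', orderOf_one])⟩⟩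
        have hc' : Commute (⟨d, hDM hdD⟩ : M) ⟨e, hDM he⟩ := Subtype.ext hc.eq
        let A : Subgroup M := Subgroup.zpowers ⟨d, hDM hdD⟩ ⊔ Subgroup.zpowers ⟨e, hDM he⟩
        have hA : A ≤ D.subgroupOf M :=
          sup_le (Subgroup.zpowers_le.mpr (Subgroup.mem_subgroupOf.mpr hdD))
            (Subgroup.zpowers_le.mpr (Subgroup.mem_subgroupOf.mpr he))
        have hAc : IsMulCommutative A := by
          have : A ≤ Subgroup.centralizer (A : Set M) := by
            refine sup_le ?_ ?_ <;>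
              (rw [Subgroup.zpowers_le, Subgroup.mem_centralizer_iff]
               intro z hz
               refine (Subgroup.mem_centralizer_singleton_iff.mp ((sup_le ?_ ?_ :
                 A ≤ Subgroup.centralizer {_}) hz))) <;>
              rw [Subgroup.zpowers_le, Subgroup.mem_centralizer_singleton_iff]
            · exact hc'.symm.eq
            · exact hc'.eq
          exact ⟨⟨fun a b => Subtype.ext ((this b.2) a a.2)⟩⟩
        have hcyc := isCyclic_of_cores (subgroup h.cn M) hK hK A (fun x hx hx1 => by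
          have hxo : ∃ i, orderOf x = p ^ i := by
            obtain ⟨i, hi⟩ := (IsPGroup.iff_orderOf.mp hDp) ⟨(x : G), Subgroup.mem_subgroupOf.mp (hA hx)⟩
            exact ⟨i, by rwa [Subgroup.orderOf_mk, Subgroup.orderOf_coe] at hi⟩
          obtain ⟨i, hi⟩ := hxo
          cases i with
          | zero => exact absurd (orderOf_eq_one_iff.mp (by simpa using hi)) hx1
          | succ i =>
            refine ⟨p ^ i, Or.inl ?_⟩
            rw [orderOf_pow_of_dvd (pow_ne_zero _ hp.out.ne_zero) (hi ▸ pow_dvd_pow p i.le_succ), hi,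
              pow_succ, Nat.mul_div_cancel_left _ (pow_pos hp.out.pos i)]) (Or.inl hAc)
        -- a cyclic group has at most one subgroup of order p
        have hdA : (⟨d, hDM hdD⟩ : M) ∈ A := Subgroup.mem_sup_left (Subgroup.mem_zpowers _)
        have heA : (⟨e, hDM he⟩ : M) ∈ A := Subgroup.mem_sup_right (Subgroup.mem_zpowers _)
        obtain ⟨j, hj⟩ := Subgroup.mem_zpowers_iff.mp (mem_zpowers_of_cyclic (A := A) hp.out
          (d := ⟨⟨d, hDM hdD⟩, hdA⟩) (e := ⟨⟨e, hDM he⟩, heA⟩) (by simpa using hd) (by simpa using heo))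
        exact ⟨j, congrArg (fun z : A => ((z : M) : G)) hj⟩
      -- so both normalisers centralise d
      have hd1 : d ≠ 1 := fun e => hp.out.one_lt.ne (by rw [← hd, e, orderOf_one])
      have hcent : ∀ (P : Sylow p G), (P : Subgroup G) ⊓ N ≤ Subgroup.centralizer {d} := by
        intro P g hg
        refine Subgroup.mem_centralizer_singleton_iff.mpr (centralizes_of_normalizes (p := p) hd ?_ ?_).eq
        · obtain ⟨i, hi⟩ := (IsPGroup.iff_orderOf.mp P.isPGroup') ⟨g, hg.1⟩
          exact ⟨i, by rwa [Subgroup.orderOf_mk] at hi⟩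
        · refine Subgroup.mem_normalizer_iff_map_conj_eq.mpr ?_
          rw [MonoidHom.map_zpowers]
          refine Subgroup.eq_of_le_of_card_ge (Subgroup.zpowers_le.mpr (uniq _ ?_ ?_)) ?_
          · exact (Subgroup.mem_normalizer_iff.mp hg.2 d).mp hdD
          · rw [← hd]; exact MulEquiv.orderOf_eq (MulAut.conj g) d
          · rw [Nat.card_zpowers, Nat.card_zpowers]
            exact (MulEquiv.orderOf_eq (MulAut.conj g) d).ge
      have := h.cn d hd1
      set C := Subgroup.centralizer ({d} : Set G) with hC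
      obtain ⟨S⟩ := (inferInstance : Nonempty (Sylow p C))
      have hSn : (S : Subgroup C).Normal :=
        ((Group.isNilpotent_of_finite_tfae (G := C)).out 0 3 rfl rfl).mp inferInstance p ‹_› S
      obtain ⟨Q, hQ⟩ := (S.isPGroup'.map C.subtype).exists_le_sylow
      have hin : ∀ P : Sylow p G, (P : Subgroup G) ⊓ N ≤ Q := by
        intro P g hg
        obtain ⟨S', hS'⟩ := ((P.isPGroup'.to_le inf_le_left : IsPGroup p ((P : Subgroup G) ⊓ N :
          Subgroup G)).comap_of_injective C.subtype C.subtype_injective).exists_le_sylow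
        have hSS : S' = S := by
          have := Sylow.unique_of_normal S hSn
          exact (this.uniq S').trans (this.uniq S).symm
        exact hQ ⟨⟨g, hcent P hg⟩, hSS ▸ hS' (Subgroup.mem_subgroupOf.mpr hg), rfl⟩
      exact ⟨Q, Q, hin P₁, hin P₂, rfl⟩
    · obtain ⟨Q₁, hQ₁, -, hM₁⟩ := exists_sylow_Mof h hMc hK (R := (P₁ : Subgroup G) ⊓ N)
        (inf_le_right.trans hNM) (P₁.isPGroup'.to_le inf_le_left)
      obtain ⟨Q₂, hQ₂, -, hM₂⟩ := exists_sylow_Mof h hMc hK (R := (P₂ : Subgroup G) ⊓ N)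
        (inf_le_right.trans hNM) (P₂.isPGroup'.to_le inf_le_left)
      exact ⟨Q₁, Q₂, hQ₁, hQ₂, hM₁.trans hM₂.symm⟩

/-- `Mof` controls fusion strongly. -/
theorem mem_Mof_of_conj {p : ℕ} [hp : Fact p.Prime] (hg : Good G p) (P : Sylow p G) {x g : G}
    (hx : x ∈ (P : Subgroup G)) (hx1 : x ≠ 1) (hgx : g * x * g⁻¹ ∈ (P : Subgroup G)) :
    g ∈ Mof p (P : Subgroup G) := by
  obtain ⟨hco, -, -, hP1⟩ := good_sylow h hg P
  have hne : ((P : Subgroup G) ⊓ (g • P : Sylow p G) : Subgroup G) ≠ ⊥ := by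
    intro e
    have : g * x * g⁻¹ ∈ ((P : Subgroup G) ⊓ (g • P : Sylow p G) : Subgroup G) :=
      ⟨hgx, ⟨x, hx, rfl⟩⟩
    rw [e, Subgroup.mem_bot, conj_eq_one_iff] at this
    exact hx1 this
  have h1 := Mof_eq_of_inf_ne_bot h hg P (g • P) hne
  have h2 : ((g • P : Sylow p G) : Subgroup G) = (P : Subgroup G).map (MulAut.conj g).toMonoidHom := rfl
  rw [h2, Mof_conj] at h1
  rw [← normalizer_coatom h hco (fun e => hP1 (le_bot_iff.mp (e ▸ (good_sylow h hg P).2.1)))]
  exact Subgroup.mem_normalizer_iff_map_conj_eq.mpr h1.symm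

/-- In a maximal subgroup every nontrivial `p`-core is the Sylow subgroup. -/
theorem sylow_eq_pCore {M : Subgroup G} (hM : IsCoatom M) {p : ℕ} [hp : Fact p.Prime]
    (hK : pCore p M ≠ ⊥) (S : Sylow p M) : (S : Subgroup M) = pCore p M := by
  have := sub_solvable h hM
  by_contra hne
  obtain ⟨P, hP, hPM⟩ := structure_aux h hM hK S
  have hg : Good G p := ⟨M, hM, hK⟩
  have hc : TransferTate.ControlsFusion M (P : Subgroup G) := fun x hx g hgx => by
    by_cases hx1 : x = 1
    · exact ⟨1, one_mem M, by simp [hx1]⟩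
    · exact ⟨g, hPM ▸ mem_Mof_of_conj h hg P hx hx1 hgx, rfl⟩
  have h1 := TransferTate.commutator_inf_eq_of_control P (hP ▸ Subgroup.map_subtype_le _) hc
  rw [h.perfect, top_inf_eq] at h1
  refine hne (le_antisymm (fun x hx => ?_) (normal_le_sylow (HallCore.isPGroup_pCore p M) S))
  refine (sylow_cases (subgroup h.cn M) (sub_odd h M) hK S hne).2 ⟨?_, hx⟩
  have hxP : (x : G) ∈ (P : Subgroup G) := hP ▸ ⟨x, hx, rfl⟩
  rw [h1, ← Subgroup.map_subtype_commutator] at hxP
  obtain ⟨y, hy, hyx⟩ := hxP.1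
  exact M.subtype_injective hyx ▸ hy

/-- Every prime divisor of the order is good. -/
theorem good {p : ℕ} [hp : Fact p.Prime] (hpd : p ∣ Nat.card G) : Good G p := by
  by_contra hng
  obtain ⟨P⟩ := (inferInstance : Nonempty (Sylow p G))
  have hP1 : (P : Subgroup G) ≠ ⊥ := by
    intro e
    have hc := Sylow.card_eq_multiplicity P
    rw [e, Subgroup.card_bot] at hc
    have h3 := hp.out.factorization_pos_of_dvd Nat.card_pos.ne' hpd
    have := Nat.one_lt_pow h3.ne' hp.out.one_lt
    omega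
  have hPtop : (P : Subgroup G) ≠ ⊤ := by
    intro e
    haveI := P.isPGroup'.isNilpotent
    have : Group.IsNilpotent G :=
      Group.nilpotent_of_mulEquiv ((MulEquiv.subgroupCongr e).trans Subgroup.topEquiv)
    have := h.simple.toNontrivial
    exact (Group.IsSolvable.commutator_lt_top_of_nontrivial (G := G)).ne h.perfect
  have : Nontrivial (P : Subgroup G) := (Subgroup.nontrivial_iff_ne_bot _).mpr hP1
  have := P.isPGroup'.center_nontrivial
  obtain ⟨k, hk⟩ := (P.isPGroup'.to_subgroup (Subgroup.center (P : Subgroup G))).exists_card_eq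
  have hdvd : p ∣ Nat.card (Subgroup.center (P : Subgroup G)) := by
    have := Finite.one_lt_card (α := Subgroup.center (P : Subgroup G))
    cases k with
    | zero => simp_all
    | succ k => rw [hk]; exact dvd_pow_self p (Nat.succ_ne_zero k)
  obtain ⟨⟨⟨d, hdP⟩, hdc⟩, hd⟩ := exists_prime_orderOf_dvd_card' p hdvd
  rw [Subgroup.orderOf_mk, Subgroup.orderOf_mk] at hd
  have hd1 : d ≠ 1 := fun e => hp.out.one_lt.ne (by rw [← hd, e, orderOf_one])
  set C := Subgroup.centralizer ({d} : Set G) with hC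
  have hCn : Group.IsNilpotent C := h.cn d hd1
  have hPC : (P : Subgroup G) ≤ C := fun x hx => Subgroup.mem_centralizer_singleton_iff.mpr
    (congrArg Subtype.val (Subgroup.mem_center_iff.mp hdc ⟨x, hx⟩))
  set N := Subgroup.normalizer ((Subgroup.zpowers d : Subgroup G) : Set G) with hN
  have hCN' : C ≤ N := by
    rw [hC, hN]
    refine le_trans ?_ (Subgroup.centralizer_le_normalizer _)
    intro x hx
    refine Subgroup.mem_centralizer_iff.mpr fun z hz => ?_
    obtain ⟨i, rfl⟩ := Subgroup.mem_zpowers_iff.mp hz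
    exact ((show Commute x d from Subgroup.mem_centralizer_singleton_iff.mp hx).zpow_right i).eq.symm
  have hzne : Subgroup.zpowers d ≠ ⊤ := fun e => hPtop (top_le_iff.mp (e ▸ Subgroup.zpowers_le.mpr hdP))
  obtain ⟨M, hMc, hNM⟩ := (eq_top_or_exists_le_coatom N).resolve_left
    (normalizer_ne_top h (Subgroup.zpowers_ne_bot.mpr hd1) hzne)
  have := sub_solvable h hMc
  have hdM : d ∈ M := hNM (hCN' (hPC hdP))
  have hMn : Nontrivial M := ⟨⟨⟨d, hdM⟩, 1, fun e => hd1 (congrArg Subtype.val e)⟩⟩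
  have hKp : pCore p M = ⊥ := by
    by_contra e; exact hng ⟨M, hMc, e⟩
  -- order p elements of P lie in ⟨d⟩
  have uniq : ∀ e ∈ (P : Subgroup G), orderOf e = p → e ∈ Subgroup.zpowers d := by
    intro e he heo
    have hc : Commute d e := (congrArg Subtype.val (Subgroup.mem_center_iff.mp hdc ⟨e, he⟩)).symm
    have heM : e ∈ M := hNM (hCN' (hPC he))
    let A : Subgroup M := Subgroup.zpowers ⟨d, hdM⟩ ⊔ Subgroup.zpowers ⟨e, heM⟩
    have hA : A ≤ (P : Subgroup G).subgroupOf M :=
      sup_le (Subgroup.zpowers_le.mpr (Subgroup.mem_subgroupOf.mpr hdP))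
        (Subgroup.zpowers_le.mpr (Subgroup.mem_subgroupOf.mpr he))
    have hdA : (⟨d, hdM⟩ : M) ∈ A := Subgroup.mem_sup_left (Subgroup.mem_zpowers _)
    have heA : (⟨e, heM⟩ : M) ∈ A := Subgroup.mem_sup_right (Subgroup.mem_zpowers _)
    have hAc : IsMulCommutative A := by
      have : A ≤ Subgroup.centralizer (A : Set M) := by
        have h1 : ∀ z ∈ A, Commute z (⟨d, hdM⟩ : M) ∧ Commute z (⟨e, heM⟩ : M) := by
          intro z hz
          have hle : A ≤ Subgroup.centralizer {(⟨d, hdM⟩ : M)} ⊓ Subgroup.centralizer {(⟨e, heM⟩ : M)} := by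
            refine sup_le ?_ ?_ <;> rw [Subgroup.zpowers_le, Subgroup.mem_inf,
              Subgroup.mem_centralizer_singleton_iff, Subgroup.mem_centralizer_singleton_iff]
            · exact ⟨rfl, Subtype.ext hc.eq⟩
            · exact ⟨Subtype.ext hc.eq.symm, rfl⟩
          exact ⟨Subgroup.mem_centralizer_singleton_iff.mp (hle hz).1,
            Subgroup.mem_centralizer_singleton_iff.mp (hle hz).2⟩
        refine sup_le ?_ ?_ <;> rw [Subgroup.zpowers_le, Subgroup.mem_centralizer_iff]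
        · exact fun z hz => (h1 z hz).1.eq
        · exact fun z hz => (h1 z hz).2.eq
      exact ⟨⟨fun a b => Subtype.ext ((this b.2) a a.2)⟩⟩
    have hcyc := isCyclic_of_cores (subgroup h.cn M) hKp hKp A (fun x hx hx1 => by
      obtain ⟨i, hi⟩ := (IsPGroup.iff_orderOf.mp P.isPGroup') ⟨(x : G), Subgroup.mem_subgroupOf.mp (hA hx)⟩
      rw [Subgroup.orderOf_mk, Subgroup.orderOf_coe] at hi
      cases i with
      | zero => exact absurd (orderOf_eq_one_iff.mp (by simpa using hi)) hx1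
      | succ i =>
        refine ⟨p ^ i, Or.inl ?_⟩
        rw [orderOf_pow_of_dvd (pow_ne_zero _ hp.out.ne_zero) (hi ▸ pow_dvd_pow p i.le_succ), hi,
          pow_succ, Nat.mul_div_cancel_left _ (pow_pos hp.out.pos i)]) (Or.inl hAc)
    obtain ⟨j, hj⟩ := Subgroup.mem_zpowers_iff.mp (mem_zpowers_of_cyclic (A := A) hp.out
      (d := ⟨⟨d, hdM⟩, hdA⟩) (e := ⟨⟨e, heM⟩, heA⟩) (by simpa using hd) (by simpa using heo))
    exact ⟨j, congrArg (fun z : A => ((z : M) : G)) hj⟩
  -- N = C
  have hNC : N ≤ C := by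
    by_contra hle
    have hex : ∃ n : ℕ, ∃ a ∈ N, a ∉ C ∧ orderOf a = n := by
      obtain ⟨a, ha, ha'⟩ := SetLike.not_le_iff_exists.mp hle
      exact ⟨_, a, ha, ha', rfl⟩
    classical
    obtain ⟨a, haN, haC, han⟩ := Nat.find_spec hex
    have hmin : ∀ b ∈ N, b ∉ C → orderOf a ≤ orderOf b := fun b hb hb' =>
      han ▸ Nat.find_min' hex ⟨b, hb, hb', rfl⟩
    have hpow : ∀ k : ℕ, orderOf (a ^ k) < orderOf a → a ^ k ∈ C := fun k hk => by
      by_contra hk'
      exact (hmin _ (pow_mem haN k) hk').not_gt hk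
    -- a has prime order
    obtain ⟨r, hr, i, hi⟩ : ∃ r, r.Prime ∧ ∃ i, orderOf a = r ^ i := by
      by_contra hcon
      refine haC (mem_of_prime_parts C a fun r hr y hy i hi => ?_)
      obtain ⟨j, rfl⟩ := (mem_powers_iff_mem_zpowers.mpr hy)
      refine hpow j (lt_of_le_of_ne (Nat.le_of_dvd (orderOf_pos a) (orderOf_pow_dvd j)) fun e => ?_)
      exact hcon ⟨r, hr, i, e ▸ hi⟩
    have := Fact.mk hr
    have hrp : r ≠ p := fun e => by
      subst e
      exact haC (Subgroup.mem_centralizer_singleton_iff.mpr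
        (centralizes_of_normalizes (p := r) hd ⟨i, hi⟩ haN).eq)
    have hi1 : i = 1 := by
      by_contra hne
      have hi0 : i ≠ 0 := fun e => haC (by
        rw [orderOf_eq_one_iff.mp (show orderOf a = 1 by rw [hi, e, pow_zero])]; exact one_mem C)
      have har : orderOf (a ^ r) < orderOf a := by
        rw [orderOf_pow_of_dvd hr.ne_zero (hi ▸ dvd_pow_self r hi0)]
        exact Nat.div_lt_self (orderOf_pos a) hr.one_lt
      have har1 : a ^ r ≠ 1 := fun e => hne (by
        have h1 : r ^ i ∣ r ^ 1 := hi ▸ (pow_one r).symm ▸ orderOf_dvd_of_pow_eq_one e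
        have := (Nat.pow_dvd_pow_iff_le_right hr.one_lt).mp h1
        omega)
      refine haC (Subgroup.mem_centralizer_singleton_iff.mpr (commute h.cn har1
        (Commute.pow_self a r).eq (Subgroup.mem_centralizer_singleton_iff.mp (hpow r har)) ?_).eq)
      rw [hd, hi]
      exact ((Nat.coprime_primes hr hp.out).mpr hrp).pow_left _
    rw [hi1, pow_one] at hi
    have haM := hNM haN
    by_cases hKr : pCore r M = ⊥
    · let A : Subgroup M := Subgroup.zpowers ⟨d, hdM⟩ ⊔ Subgroup.zpowers ⟨a, haM⟩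
      have hn : Subgroup.zpowers (⟨a, haM⟩ : M) ≤
          Subgroup.normalizer ((Subgroup.zpowers (⟨d, hdM⟩ : M) : Subgroup M) : Set M) := by
        rw [Subgroup.zpowers_le]
        refine Subgroup.mem_normalizer_iff.mpr fun x => ?_
        have := Subgroup.mem_normalizer_iff.mp haN (x : G)
        have hmem : ∀ y : M, y ∈ Subgroup.zpowers (⟨d, hdM⟩ : M) ↔ (y : G) ∈ Subgroup.zpowers d :=
          fun y => ⟨fun ⟨j, hj⟩ => ⟨j, congrArg Subtype.val hj⟩, fun ⟨j, hj⟩ => ⟨j, Subtype.ext hj⟩⟩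
        rw [hmem, hmem]
        exact this
      have hcd : Nat.card (Subgroup.zpowers (⟨d, hdM⟩ : M)) = p := by
        rw [Nat.card_zpowers, Subgroup.orderOf_mk, hd]
      have hca : Nat.card (Subgroup.zpowers (⟨a, haM⟩ : M)) = r := by
        rw [Nat.card_zpowers, Subgroup.orderOf_mk, hi]
      have hAcard : Nat.card A = p * r := by
        refine Nat.dvd_antisymm ?_ ?_
        · have hs : ∀ x ∈ A, ∃ y : Subgroup.zpowers (⟨d, hdM⟩ : M) × Subgroup.zpowers (⟨a, haM⟩ : M),
              (y.1 : M) * y.2 = x := by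
            intro x hx
            rw [← SetLike.mem_coe, Subgroup.coe_mul_of_right_le_normalizer_left _ _ hn] at hx
            obtain ⟨u, hu, v, hv, rfl⟩ := hx
            exact ⟨(⟨u, hu⟩, ⟨v, hv⟩), rfl⟩
          let f : Subgroup.zpowers (⟨d, hdM⟩ : M) × Subgroup.zpowers (⟨a, haM⟩ : M) → A :=
            fun y => ⟨(y.1 : M) * y.2, mul_mem (Subgroup.mem_sup_left y.1.2) (Subgroup.mem_sup_right y.2.2)⟩
          have hf : Function.Surjective f := fun x => by
            obtain ⟨y, hy⟩ := hs x x.2; exact ⟨y, Subtype.ext hy⟩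
          have hle := Nat.card_le_card_of_surjective f hf
          rw [Nat.card_prod, hcd, hca] at hle
          have h1 : p * r ∣ Nat.card A := Nat.Coprime.mul_dvd_of_dvd_of_dvd
            ((Nat.coprime_primes hp.out hr).mpr (Ne.symm hrp))
            (hcd ▸ Subgroup.card_dvd_of_le le_sup_left) (hca ▸ Subgroup.card_dvd_of_le le_sup_right)
          rw [le_antisymm hle (Nat.le_of_dvd Nat.card_pos h1)]
        · exact Nat.Coprime.mul_dvd_of_dvd_of_dvd
            ((Nat.coprime_primes hp.out hr).mpr (Ne.symm hrp))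
            (hcd ▸ Subgroup.card_dvd_of_le le_sup_left) (hca ▸ Subgroup.card_dvd_of_le le_sup_right)
      have hcyc := isCyclic_of_cores (subgroup h.cn M) hKp hKr A (fun x hx hx1 => by
        have hne : orderOf x ≠ 1 := fun e => hx1 (orderOf_eq_one_iff.mp e)
        obtain ⟨s, hs, hsd⟩ := Nat.exists_prime_and_dvd hne
        refine ⟨orderOf x / s, ?_⟩
        rw [orderOf_pow_orderOf_div (orderOf_pos x).ne' hsd]
        have h1 : s ∣ p * r := hsd.trans (hAcard ▸ Subgroup.orderOf_dvd_natCard _ hx)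
        rcases hs.dvd_mul.mp h1 with h2 | h2
        · exact Or.inl ((Nat.prime_dvd_prime_iff_eq hs hp.out).mp h2)
        · exact Or.inr ((Nat.prime_dvd_prime_iff_eq hs hr).mp h2))
        (Or.inr ⟨p, r, hp.out, hr, hAcard⟩)
      obtain ⟨g, hg⟩ := hcyc.exists_generator
      obtain ⟨u, hu⟩ := Subgroup.mem_zpowers_iff.mp
        (hg ⟨⟨a, haM⟩, Subgroup.mem_sup_right (Subgroup.mem_zpowers _)⟩)
      obtain ⟨v, hv⟩ := Subgroup.mem_zpowers_iff.mp
        (hg ⟨⟨d, hdM⟩, Subgroup.mem_sup_left (Subgroup.mem_zpowers _)⟩)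
      have h2 : (⟨⟨a, haM⟩, Subgroup.mem_sup_right (Subgroup.mem_zpowers _)⟩ : A) *
          ⟨⟨d, hdM⟩, Subgroup.mem_sup_left (Subgroup.mem_zpowers _)⟩ =
          ⟨⟨d, hdM⟩, Subgroup.mem_sup_left (Subgroup.mem_zpowers _)⟩ *
          ⟨⟨a, haM⟩, Subgroup.mem_sup_right (Subgroup.mem_zpowers _)⟩ := by
        rw [← hu, ← hv, ← zpow_add, ← zpow_add, add_comm]
      exact haC (Subgroup.mem_centralizer_singleton_iff.mpr
        (congrArg (fun z : A => ((z : M) : G)) h2))
    · -- then a lies in the normal Sylow r-subgroup of M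
      obtain ⟨S, hS⟩ := (IsPGroup.of_card (n := 1) (by
        rw [Nat.card_zpowers, Subgroup.orderOf_mk, hi, pow_one]) :
          IsPGroup r (Subgroup.zpowers (⟨a, haM⟩ : M))).exists_le_sylow
      have haK : (⟨a, haM⟩ : M) ∈ pCore r M :=
        sylow_eq_pCore h hMc hKr S ▸ hS (Subgroup.mem_zpowers _)
      refine haC (Subgroup.mem_centralizer_singleton_iff.mpr ?_)
      have hmem : (⟨a, haM⟩ : M) * ⟨d, hdM⟩ * (⟨a, haM⟩ : M)⁻¹ * (⟨d, hdM⟩ : M)⁻¹ = 1 := by
        have hn : (pCore r M).Normal := inferInstance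
        have h1 : (⟨a, haM⟩ : M) * ⟨d, hdM⟩ * (⟨a, haM⟩ : M)⁻¹ * (⟨d, hdM⟩ : M)⁻¹ ∈ pCore r M := by
          rw [mul_assoc (⟨a, haM⟩ : M), mul_assoc]
          exact mul_mem haK (hn.conj_mem _ (inv_mem haK) _)
        obtain ⟨j, hj⟩ := (IsPGroup.iff_orderOf.mp (HallCore.isPGroup_pCore r M)) ⟨_, h1⟩
        rw [Subgroup.orderOf_mk] at hj
        have h2 : a * d * a⁻¹ * d⁻¹ ∈ Subgroup.zpowers d := mul_mem
          ((Subgroup.mem_normalizer_iff.mp haN d).mp (Subgroup.mem_zpowers d))
          (inv_mem (Subgroup.mem_zpowers d))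
        have h3 := Subgroup.orderOf_dvd_natCard _ h2
        rw [Nat.card_zpowers, hd] at h3
        refine orderOf_eq_one_iff.mp (Nat.Coprime.eq_one_of_dvd ?_ (dvd_refl _))
        rw [hj]
        refine Nat.Coprime.coprime_dvd_right ?_ (((Nat.coprime_primes hr hp.out).mpr hrp).pow_left j)
        rw [← hj, ← Subgroup.orderOf_coe]
        exact h3
      have := congrArg Subtype.val hmem
      exact mul_inv_eq_iff_eq_mul.mp (mul_inv_eq_one.mp this)
  -- C controls fusion in P
  have hcontrol : TransferTate.ControlsFusion (P : Subgroup G) (P : Subgroup G) := by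
    intro x hx g hgx
    by_cases hx1 : x = 1
    · exact ⟨1, one_mem _, by simp [hx1]⟩
    obtain ⟨i, hi⟩ := (IsPGroup.iff_orderOf.mp P.isPGroup') ⟨x, hx⟩
    rw [Subgroup.orderOf_mk] at hi
    have hi0 : i ≠ 0 := fun e => hx1 (orderOf_eq_one_iff.mp (by rw [hi, e, pow_zero]))
    set e := x ^ (orderOf x / p) with he
    have heo : orderOf e = p :=
      orderOf_pow_orderOf_div (orderOf_pos x).ne' (hi ▸ dvd_pow_self p hi0)
    have hgN : g ∈ N := by
      have h1 := uniq e (pow_mem hx _) heo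
      have h2 := uniq (g * e * g⁻¹) (by rw [he, ← conj_pow]; exact pow_mem hgx _)
        (by rw [← heo]; exact MulEquiv.orderOf_eq (MulAut.conj g) e)
      have h3 : Subgroup.zpowers e = Subgroup.zpowers d :=
        Subgroup.eq_of_le_of_card_ge (Subgroup.zpowers_le.mpr h1) (by
          rw [Nat.card_zpowers, Nat.card_zpowers, heo, hd])
      refine Subgroup.mem_normalizer_iff_map_conj_eq.mpr ?_
      rw [← h3, MonoidHom.map_zpowers, h3]
      refine Subgroup.eq_of_le_of_card_ge (Subgroup.zpowers_le.mpr h2) ?_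
      rw [Nat.card_zpowers, Nat.card_zpowers]
      show orderOf d ≤ orderOf ((MulAut.conj g) e)
      rw [MulEquiv.orderOf_eq, heo, hd]
    have hgC := hNC hgN
    obtain ⟨A, B, hAp, hAB, hBA, hBc, -, hCA⟩ := HallNilpotentConj.exists_split C p
    have hBn : B ≤ Subgroup.normalizer (A : Set G) := le_trans le_sup_right (hAB.le.trans hCA)
    have hPA : (P : Subgroup G) ≤ A := by
      intro y hy
      have hyC : y ∈ A ⊔ B := hAB ▸ hPC hy
      rw [← SetLike.mem_coe, Subgroup.coe_mul_of_right_le_normalizer_left _ _ hBn] at hyC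
      obtain ⟨u, hu, v, hv, rfl⟩ := hyC
      have hv1 : v = 1 := by
        have hc : Commute u v := (Subgroup.mem_centralizer_iff.mp (hBA hv) u hu)
        obtain ⟨j, hj⟩ := hAp ⟨u, hu⟩
        obtain ⟨l, hl⟩ := P.isPGroup' ⟨u * v, hy⟩
        have hj' : u ^ p ^ j = 1 := congrArg Subtype.val hj
        have hl' : (u * v) ^ p ^ l = 1 := congrArg Subtype.val hl
        have hvp : v ^ p ^ (j + l) = 1 := by
          have h1 : (u * v) ^ p ^ (j + l) = 1 := by
            rw [add_comm, pow_add, pow_mul, hl', one_pow]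
          have h2 : u ^ p ^ (j + l) = 1 := by rw [pow_add, pow_mul, hj', one_pow]
          rwa [hc.mul_pow, h2, one_mul] at h1
        refine orderOf_eq_one_iff.mp (Nat.Coprime.eq_one_of_dvd ?_ (dvd_refl _))
        exact Nat.Coprime.coprime_dvd_right (orderOf_dvd_of_pow_eq_one hvp)
          ((hBc.coprime_dvd_left (Subgroup.orderOf_dvd_natCard _ hv)).pow_right _)
      simpa [hv1] using hu
    have hAP : A = P := P.3 hAp hPA
    have hg' : g ∈ A ⊔ B := hAB ▸ hgC
    rw [← SetLike.mem_coe, Subgroup.coe_mul_of_right_le_normalizer_left _ _ hBn] at hg'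
    obtain ⟨u, hu, v, hv, rfl⟩ := hg'
    refine ⟨u, hAP ▸ hu, ?_⟩
    have hvx : v * x = x * v := (Subgroup.mem_centralizer_iff.mp (hBA hv) x (hAP ▸ hx)).symm
    have hvv : v * x * v⁻¹ = x := by rw [hvx, mul_inv_cancel_right]
    calc u * x * u⁻¹ = u * (v * x * v⁻¹) * u⁻¹ := by rw [hvv]
      _ = u * v * x * (u * v)⁻¹ := by group
  have h1 := TransferTate.commutator_inf_eq_of_control P le_rfl hcontrol
  rw [h.perfect, top_inf_eq] at h1
  have hPs : Group.IsSolvable (P : Subgroup G) :=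
    have := P.isPGroup'.isNilpotent; inferInstance
  have h2 : commutator (P : Subgroup G) = ⊤ := by
    refine top_le_iff.mp fun x _ => ?_
    have h3 : (x : G) ∈ ⁅(P : Subgroup G), (P : Subgroup G)⁆ := (h1.le x.2).1
    rw [← Subgroup.map_subtype_commutator] at h3
    obtain ⟨y, hy, hyx⟩ := h3
    exact Subtype.ext hyx ▸ hy
  exact (Group.IsSolvable.commutator_lt_top_of_nontrivial (G := (P : Subgroup G))).ne h2

/-- Centralisers of nontrivial `p`-elements in the Sylow subgroup lie in the Fitting subgroup. -/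
theorem centralizer_le_fitting {p : ℕ} [hp : Fact p.Prime] (hg : Good G p) (P : Sylow p G) {y : G}
    (hy : y ∈ (P : Subgroup G)) (hy1 : y ≠ 1) :
    Subgroup.centralizer ({y} : Set G) ≤ fittingOf (Mof p (P : Subgroup G)) := by
  intro c hc
  have hc' := Subgroup.mem_centralizer_singleton_iff.mp hc
  obtain ⟨hco, hPM, hK, -⟩ := good_sylow h hg P
  set M := Mof p (P : Subgroup G) with hM
  have := sub_solvable h hco
  have hcM : c ∈ M := mem_Mof_of_conj h hg P hy hy1 (by rw [hc', mul_inv_cancel_right]; exact hy)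
  refine ⟨⟨c, hcM⟩, mem_of_prime_parts _ _ fun r hr z hz i hi => ?_, rfl⟩
  have hyM := hPM hy
  have hyK : (⟨y, hyM⟩ : M) ∈ pCore p M := by
    obtain ⟨S, hS⟩ := (P.isPGroup'.comap_of_injective M.subtype M.subtype_injective).exists_le_sylow
    exact sylow_eq_pCore h hco hK S ▸ hS (Subgroup.mem_subgroupOf.mpr hy)
  by_cases hrp : r = p
  · subst hrp
    obtain ⟨S, hS⟩ := (IsPGroup.of_card (n := i) (by rw [Nat.card_zpowers, hi]) :
      IsPGroup r (Subgroup.zpowers z)).exists_le_sylow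
    exact ComponentsFitting.pCore_le_fitting hr
      (sylow_eq_pCore h hco hK S ▸ hS (Subgroup.mem_zpowers z))
  · refine mem_fitting_of_commute (subgroup h.cn M) (p := p) ?_ hyK
      (fun e => hy1 (congrArg Subtype.val e)) ?_
    · rw [hi]; exact ((Nat.coprime_primes hr hp.out).mpr hrp).pow_left _
    · obtain ⟨j, rfl⟩ := Subgroup.mem_zpowers_iff.mp hz
      exact (show Commute (⟨c, hcM⟩ : M) ⟨y, hyM⟩ from Subtype.ext hc').zpow_left j

/-- A nontrivial element of the Fitting subgroup of a maximal subgroup determines it. -/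
theorem exists_power {M : Subgroup G} (hM : IsCoatom M) {x : G} (hx : x ∈ fittingOf M) (hx1 : x ≠ 1)
    {p : ℕ} [hp : Fact p.Prime] (hpd : p ∣ orderOf x) :
    ∃ (P : Sylow p G) (y : G), y ∈ Subgroup.zpowers x ∧ y ∈ (P : Subgroup G) ∧ y ≠ 1 ∧
      Mof p (P : Subgroup G) = M ∧ Good G p ∧ orderOf y = p := by
  obtain ⟨x', hx', rfl⟩ := hx
  change p ∣ orderOf (x' : G) at hpd
  have hpow : orderOf ((x' : G) ^ (orderOf (x' : G) / p)) = p :=
    orderOf_pow_orderOf_div (orderOf_pos _).ne' hpd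
  set y := (x' : G) ^ (orderOf (x' : G) / p) with hy
  have hy1 : y ≠ 1 := fun e => hp.out.one_lt.ne (by rw [← hpow, e, orderOf_one])
  have hyM : y ∈ M := pow_mem x'.2 _
  have hyK : (⟨y, hyM⟩ : M) ∈ pCore p M :=
    mem_pCore_of_mem_fitting (show (⟨y, hyM⟩ : M) ∈ fittingSubgroup M from
      (show x' ^ (orderOf (x' : G) / p) = ⟨y, hyM⟩ from Subtype.ext (SubmonoidClass.coe_pow _ _)) ▸
        pow_mem hx' _) (i := 1)
      (by rw [Subgroup.orderOf_mk, hpow, pow_one])
  have hK : pCore p M ≠ ⊥ := fun e => by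
    rw [e, Subgroup.mem_bot] at hyK
    exact hy1 (congrArg Subtype.val hyK)
  obtain ⟨P, hP, -, hPM⟩ := exists_sylow_Mof h hM hK (R := Subgroup.zpowers y)
    (Subgroup.zpowers_le.mpr hyM) (IsPGroup.of_card (n := 1) (by rw [Nat.card_zpowers, hpow, pow_one]))
  exact ⟨P, y, Subgroup.pow_mem _ (Subgroup.mem_zpowers _) _, hP (Subgroup.mem_zpowers y), hy1, hPM,
    ⟨M, hM, hK⟩, hpow⟩

theorem frobenius {M : Subgroup G} (hM : IsCoatom M) {x : G} (hx : x ∈ fittingOf M) (hx1 : x ≠ 1) :
    Subgroup.centralizer ({x} : Set G) ≤ fittingOf M := by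
  obtain ⟨p, hp, hpd⟩ := Nat.exists_prime_and_dvd (fun e => hx1 (orderOf_eq_one_iff.mp e))
  have := Fact.mk hp
  obtain ⟨P, y, hyx, hyP, hy1, hPM, hg, -⟩ := exists_power h hM hx hx1 hpd
  refine le_trans (fun c hc => ?_) (hPM ▸ centralizer_le_fitting h hg P hyP hy1)
  obtain ⟨i, rfl⟩ := Subgroup.mem_zpowers_iff.mp hyx
  exact Subgroup.mem_centralizer_singleton_iff.mpr
    ((show Commute c x from Subgroup.mem_centralizer_singleton_iff.mp hc).zpow_right i).eq

theorem cover {x : G} (hx1 : x ≠ 1) : ∃ M : Subgroup G, IsCoatom M ∧ x ∈ fittingOf M := by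
  obtain ⟨p, hp, hpd⟩ := Nat.exists_prime_and_dvd (fun e => hx1 (orderOf_eq_one_iff.mp e))
  have := Fact.mk hp
  have hg := good h (hpd.trans (orderOf_dvd_natCard x))
  set y := x ^ (orderOf x / p) with hy
  have hyo : orderOf y = p := orderOf_pow_orderOf_div (orderOf_pos _).ne' hpd
  obtain ⟨P, hP⟩ := (IsPGroup.of_card (n := 1) (by rw [Nat.card_zpowers, hyo, pow_one]) :
    IsPGroup p (Subgroup.zpowers y)).exists_le_sylow
  exact ⟨_, (good_sylow h hg P).1, centralizer_le_fitting h hg P (hP (Subgroup.mem_zpowers y))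
    (fun e => hp.one_lt.ne (by rw [← hyo, e, orderOf_one]))
    (Subgroup.mem_centralizer_singleton_iff.mpr (Commute.self_pow x _).eq)⟩

theorem fitting_ne_bot {M : Subgroup G} (hM : IsCoatom M) : fittingOf M ≠ ⊥ := by
  have := sub_solvable h hM
  have hn : Nontrivial M := by
    rw [Subgroup.nontrivial_iff_ne_bot]
    intro e
    subst e
    obtain ⟨p, hp, hpd⟩ := Nat.exists_prime_and_dvd
      (show Nat.card G ≠ 1 from (Finite.one_lt_card_iff_nontrivial.mpr h.simple.toNontrivial).ne')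
    have := Fact.mk hp
    obtain ⟨Q⟩ := (inferInstance : Nonempty (Sylow p G))
    obtain ⟨h1, h2, -, h4⟩ := good_sylow h (good h hpd) Q
    exact h1.1 (hM.2 _ (bot_lt_iff_ne_bot.mpr fun e => h4 (le_bot_iff.mp (e ▸ h2))))
  obtain ⟨q, hq, hQ⟩ := exists_pCore_ne_bot (M := M)
  rw [fittingOf, Ne, Subgroup.map_eq_bot_iff_of_injective _ M.subtype_injective]
  exact fun e => hQ (le_bot_iff.mp (e ▸ ComponentsFitting.pCore_le_fitting hq))

theorem normalizer_fitting {M : Subgroup G} (hM : IsCoatom M) :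
    Subgroup.normalizer (fittingOf M : Set G) = M := by
  have hle : M ≤ Subgroup.normalizer (fittingOf M : Set G) := by
    have h1 := Subgroup.le_normalizer_map (H := fittingSubgroup M) M.subtype
    rwa [Subgroup.normalizer_eq_top, ← MonoidHom.range_eq_map, Subgroup.range_subtype] at h1
  rcases hM.le_iff.mp hle with e | e
  · exact absurd e (normalizer_ne_top h (fitting_ne_bot h hM)
      fun e' => hM.1 (top_le_iff.mp (e' ▸ Subgroup.map_subtype_le _)))
  · exact e

theorem ti {M : Subgroup G} (hM : IsCoatom M) : IsTISubset (fittingOf M : Set G) := by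
  intro g hg x hx hgx
  by_contra hx1
  obtain ⟨p, hp, hpd⟩ := Nat.exists_prime_and_dvd (fun e => hx1 (orderOf_eq_one_iff.mp e))
  have := Fact.mk hp
  obtain ⟨P, y, hyx, hyP, hy1, hPM, hgd, hyo⟩ := exists_power h hM hx hx1 hpd
  refine hg ((normalizer_fitting h hM).symm ▸ hPM ▸ mem_Mof_of_conj h hgd P hyP hy1 ?_)
  -- the conjugate of y is a p-element of the Fitting subgroup of M
  obtain ⟨i, hi⟩ := Subgroup.mem_zpowers_iff.mp hyx
  have hgy : g * y * g⁻¹ ∈ fittingOf M := by rw [← hi, ← conj_zpow]; exact zpow_mem hgx i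
  have hgyM : g * y * g⁻¹ ∈ M := Subgroup.map_subtype_le _ hgy
  obtain ⟨z, hz, hzy⟩ := hgy
  have hzK : z ∈ pCore p M := mem_pCore_of_mem_fitting hz (i := 1) (by
    rw [← Subgroup.orderOf_coe, show (z : G) = g * y * g⁻¹ from hzy, pow_one, ← hyo]
    exact MulEquiv.orderOf_eq (MulAut.conj g) y)
  have hK : (P : Subgroup G).subgroupOf M = pCore p M := by
    subst hPM
    obtain ⟨-, hPle, hne, -⟩ := good_sylow h hgd P
    obtain ⟨S, hS⟩ := (P.isPGroup'.comap_of_injective _ (Subgroup.subtype_injective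
      (Mof p (P : Subgroup G)))).exists_le_sylow
    rw [← sylow_eq_pCore h hM hne S]
    refine le_antisymm hS fun w hw => Subgroup.mem_subgroupOf.mpr ?_
    have hmap : IsPGroup p ((S : Subgroup _).map (Mof p (P : Subgroup G)).subtype) := S.isPGroup'.map _
    exact (P.3 hmap fun u hu => ⟨⟨u, hPle hu⟩, hS (Subgroup.mem_subgroupOf.mpr hu), rfl⟩).le
      ⟨w, hw, rfl⟩
  rw [← hK, Subgroup.mem_subgroupOf] at hzK
  exact (show (z : G) = g * y * g⁻¹ from hzy) ▸ hzK

theorem fitting_lt {M : Subgroup G} (hM : IsCoatom M) : fittingOf M < M := by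
  refine lt_of_le_of_ne (Subgroup.map_subtype_le _) fun e => ?_
  obtain ⟨x, hx, hx1⟩ : ∃ x ∈ fittingOf M, x ≠ 1 := by
    have := fitting_ne_bot h hM
    rw [Ne, Subgroup.eq_bot_iff_forall] at this; push Not at this; exact this
  obtain ⟨p, hp, hpd⟩ := Nat.exists_prime_and_dvd (fun e => hx1 (orderOf_eq_one_iff.mp e))
  have := Fact.mk hp
  obtain ⟨P, y, -, hyP, hy1, hPM, hg, -⟩ := exists_power h hM hx hx1 hpd
  have hnil : Group.IsNilpotent M := e ▸ FittingHallBasic.fittingOf_isNilpotent M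
  have hPle : (P : Subgroup G) ≤ M := hPM ▸ (good_sylow h hg P).2.1
  have hc : TransferTate.ControlsFusion M (P : Subgroup G) := fun a ha g hga => by
    by_cases ha1 : a = 1
    · exact ⟨1, one_mem M, by simp [ha1]⟩
    · exact ⟨g, hPM ▸ mem_Mof_of_conj h hg P ha ha1 hga, rfl⟩
  have h1 := TransferTate.commutator_inf_eq_of_control P hPle hc
  rw [h.perfect, top_inf_eq] at h1
  obtain ⟨A, B, hAp, hAB, hBA, hBc, hcard, hMA⟩ := HallNilpotentConj.exists_split M p
  have hAM : A ≤ M := hAB ▸ le_sup_left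
  have hBM : B ≤ M := hAB ▸ le_sup_right
  have hBn : B ≤ Subgroup.normalizer (A : Set G) := hBM.trans hMA
  have hAP : A = (P : Subgroup G) := by
    refine P.3 hAp ?_
    have : IsPGroup p ((A ⊔ (P : Subgroup G) : Subgroup G)) :=
      hAp.to_sup_of_normal_left' P.isPGroup' (hPle.trans hMA)
    intro z hz
    have hzM : z ∈ A ⊔ B := hAB ▸ hPle hz
    rw [← SetLike.mem_coe, Subgroup.coe_mul_of_right_le_normalizer_left _ _ hBn] at hzM
    obtain ⟨u, hu, v, hv, rfl⟩ := hzM
    have hv' : v ∈ A ⊔ (P : Subgroup G) := by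
      have := Subgroup.mul_mem _ (Subgroup.inv_mem _ (Subgroup.mem_sup_left hu))
        (Subgroup.mem_sup_right (S := A) hz)
      simpa using this
    obtain ⟨j, hj⟩ := (IsPGroup.iff_orderOf.mp this) ⟨v, hv'⟩
    rw [Subgroup.orderOf_mk] at hj
    have hv1 : v = 1 := orderOf_eq_one_iff.mp (Nat.Coprime.eq_one_of_dvd
      (hj ▸ ((hBc.coprime_dvd_left (Subgroup.orderOf_dvd_natCard _ hv)).pow_right j)) dvd_rfl)
    simpa [hv1] using hu
  have hcomm : ⁅M, M⁆ ≤ ⁅A, A⁆ ⊔ B := by
    rw [Subgroup.commutator_le]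
    intro a ha b hb
    rw [← hAB, ← SetLike.mem_coe, Subgroup.coe_mul_of_right_le_normalizer_left _ _ hBn] at ha hb
    obtain ⟨u, hu, v, hv, rfl⟩ := ha
    obtain ⟨u', hu', v', hv', rfl⟩ := hb
    have c1 : Commute u v' := Subgroup.mem_centralizer_iff.mp (hBA hv') u hu
    have c2 : Commute u' v := Subgroup.mem_centralizer_iff.mp (hBA hv) u' hu'
    have e1 : ⁅u * v, u' * v'⁆ = ⁅u, u'⁆ * ⁅v, v'⁆ := by
      have k1 : ∀ w : G, Commute u w → Commute u' w → Commute ⁅u, u'⁆ w := fun w h1 h2 =>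
        ((h1.mul_left h2).mul_left h1.inv_left).mul_left h2.inv_left
      simp only [commutatorElement_def]
      have e2 : u * v * (u' * v') * (u * v)⁻¹ * (u' * v')⁻¹ =
          u * (v * u') * v' * v⁻¹ * u⁻¹ * v'⁻¹ * u'⁻¹ := by group
      rw [e2, ← c2.eq]
      have e3 : v' * v⁻¹ * u⁻¹ * v'⁻¹ = v' * (v⁻¹ * v'⁻¹) * u⁻¹ := by
        rw [mul_assoc (v' * v⁻¹), c1.inv_left.inv_right.eq]
        group
      calc u * (u' * v) * v' * v⁻¹ * u⁻¹ * v'⁻¹ * u'⁻¹
          = u * (u' * v) * (v' * v⁻¹ * u⁻¹ * v'⁻¹) * u'⁻¹ := by group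
        _ = u * u' * (v * v' * v⁻¹ * v'⁻¹ * (u⁻¹ * u'⁻¹)) := by rw [e3]; group
        _ = u * u' * ((u⁻¹ * u'⁻¹) * (v * v' * v⁻¹ * v'⁻¹)) := by
            have cv : ∀ w ∈ A, Commute w (v * v' * v⁻¹ * v'⁻¹) := fun w hw =>
              Subgroup.mem_centralizer_iff.mp (hBA (mul_mem (mul_mem (mul_mem hv hv') (inv_mem hv))
                (inv_mem hv'))) w hw
            rw [(cv _ (mul_mem (inv_mem hu) (inv_mem hu'))).eq]
        _ = u * u' * u⁻¹ * u'⁻¹ * (v * v' * v⁻¹ * v'⁻¹) := by group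
    rw [e1]
    exact mul_mem (Subgroup.mem_sup_left (Subgroup.commutator_mem_commutator hu hu'))
      (Subgroup.mem_sup_right (by
        rw [commutatorElement_def]
        exact mul_mem (mul_mem (mul_mem hv hv') (inv_mem hv)) (inv_mem hv')))
  have hAA : ⁅A, A⁆ ≤ A := Subgroup.commutator_le_self A
  have hA1 : ⁅A, A⁆ = A := by
    refine le_antisymm hAA fun z hz => ?_
    have hzM : z ∈ ⁅A, A⁆ ⊔ B := hcomm (h1.le (hAP ▸ hz)).1
    have hBn' : B ≤ Subgroup.normalizer ((⁅A, A⁆ : Subgroup G) : Set G) := by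
      refine le_trans ?_ (Subgroup.centralizer_le_normalizer _)
      exact hBA.trans (Subgroup.centralizer_le hAA)
    rw [← SetLike.mem_coe, Subgroup.coe_mul_of_right_le_normalizer_left _ _ hBn'] at hzM
    obtain ⟨u, hu, v, hv, rfl⟩ := hzM
    have hvA : v ∈ A := by
      have := mul_mem (inv_mem (hAA hu)) hz
      simpa using this
    obtain ⟨j, hj⟩ := (IsPGroup.iff_orderOf.mp hAp) ⟨v, hvA⟩
    rw [Subgroup.orderOf_mk] at hj
    have hv1 : v = 1 := orderOf_eq_one_iff.mp (Nat.Coprime.eq_one_of_dvd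
      (hj ▸ ((hBc.coprime_dvd_left (Subgroup.orderOf_dvd_natCard _ hv)).pow_right j)) dvd_rfl)
    simpa [hv1] using hu
  have hA0 : A ≠ ⊥ := fun e' => hy1 (Subgroup.mem_bot.mp (e' ▸ hAP ▸ hyP))
  have : Group.IsNilpotent A := hAp.isNilpotent
  have : Nontrivial A := (Subgroup.nontrivial_iff_ne_bot A).mpr hA0
  refine (Group.IsSolvable.commutator_lt_top_of_nontrivial (G := A)).ne ?_
  refine Subgroup.map_injective A.subtype_injective ?_
  rw [Subgroup.map_subtype_commutator, hA1, ← MonoidHom.range_eq_map, Subgroup.range_subtype]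

/-- Two maximal subgroups whose Fitting subgroups share a prime are conjugate. -/
theorem conj_of_common_prime {M₁ M₂ : Subgroup G} (h₁ : IsCoatom M₁) (h₂ : IsCoatom M₂) {p : ℕ}
    [hp : Fact p.Prime] (d₁ : p ∣ Nat.card (fittingOf M₁)) (d₂ : p ∣ Nat.card (fittingOf M₂)) :
    ∃ g : G, M₂ = M₁.map (MulAut.conj g).toMonoidHom := by
  obtain ⟨x₁, hx₁⟩ := exists_prime_orderOf_dvd_card' p d₁
  obtain ⟨x₂, hx₂⟩ := exists_prime_orderOf_dvd_card' p d₂
  have key : ∀ {M : Subgroup G}, IsCoatom M → ∀ x : fittingOf M, orderOf x = p →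
      ∃ P : Sylow p G, Mof p (P : Subgroup G) = M := by
    intro M hM x hx
    rw [← Subgroup.orderOf_coe] at hx
    obtain ⟨P, _, -, -, -, hPM, -⟩ := exists_power h hM x.2
      (fun e => hp.out.one_lt.ne (by rw [← hx, e, orderOf_one])) (dvd_of_eq hx.symm)
    exact ⟨P, hPM⟩
  obtain ⟨P₁, hP₁⟩ := key h₁ x₁ hx₁
  obtain ⟨P₂, hP₂⟩ := key h₂ x₂ hx₂
  obtain ⟨g, hg⟩ := MulAction.exists_smul_eq G P₁ P₂
  refine ⟨g, ?_⟩
  rw [← hP₁, ← Mof_conj, ← hP₂, ← hg]
  rfl

end Cfsg.Agent.CNGlobal
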