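import Cfsg.Agent.Lib.PSL2Proj52

/-!
Class sizes of `PSL(2, q)`.
-/

set_option autoImplicit false

namespace Cfsg.Agent.PSL2Classes52

open Matrix Cfsg.Agent.PSL2Elements Cfsg.Agent.PSL2Proj52
open scoped MatrixGroups

variable {F : Type*} [Field F]

/-- The class size, as used in the statements. -/
noncomputable def size (g : ProjectiveSpecialLinearGroup (Fin 2) F) : ℕ :=
  (Subgroup.centralizer ({g} : Set (ProjectiveSpecialLinearGroup (Fin 2) F))).index

theorem size_one : size (1 : ProjectiveSpecialLinearGroup (Fin 2) F) = 1 := by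
  rw [size, Subgroup.index_eq_one, eq_top_iff]
  intro x _
  rw [Subgroup.mem_centralizer_singleton_iff]
  simp

theorem size_conj (h g : ProjectiveSpecialLinearGroup (Fin 2) F) : size (h * g * h⁻¹) = size g := by
  rw [size, PSL2Elements.centralizer_conj]
  exact Subgroup.index_map_equiv _ (MulAut.conj h)

theorem size_of_isConj {A B : SL(2, F)} (h : IsConj A B) : size (π A) = size (π B) := by
  obtain ⟨c, rfl⟩ := isConj_iff.1 h
  rw [map_mul, map_mul, map_inv, size_conj]

theorem mem_pre (A B : SL(2, F)) :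
    B ∈ (Subgroup.centralizer ({π A} : Set (ProjectiveSpecialLinearGroup (Fin 2) F))).comap π ↔
      B * A = A * B ∨ B * A = -(A * B) := by
  rw [Subgroup.mem_comap, Subgroup.mem_centralizer_singleton_iff, ← map_mul, ← map_mul, π_eq_iff]

theorem size_eq (A : SL(2, F)) :
    size (π A) =
      ((Subgroup.centralizer ({π A} : Set (ProjectiveSpecialLinearGroup (Fin 2) F))).comap π).index :=
  (Subgroup.index_comap_of_surjective _ π_surjective).symm

theorem size_semisimple [Finite F] {A : SL(2, F)} {k : ℕ}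
    (hk : Nat.card (Subgroup.centralizer ({A} : Set SL(2, F))) = k) (hA : tr A ≠ 0 ∨ (2 : F) = 0) :
    size (π A) * k = Nat.card F * (Nat.card F ^ 2 - 1) := by
  have : (Subgroup.centralizer ({π A} : Set (ProjectiveSpecialLinearGroup (Fin 2) F))).comap π =
      Subgroup.centralizer ({A} : Set SL(2, F)) := by
    ext B
    rw [mem_pre, Subgroup.mem_centralizer_singleton_iff]
    refine ⟨fun h => h.elim id fun h => ?_, Or.inl⟩
    by_cases h2 : (2 : F) = 0
    · rw [h, ← neg_one_mul, neg_one_eq_one h2, one_mul]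
    · exfalso
      have e : B * A * B⁻¹ = -A := by rw [h, neg_mul, mul_inv_cancel_right]
      have h1 := congrArg tr e
      rw [tr_conj, tr_neg] at h1
      have h3 : (2 : F) * tr A = 0 := by linear_combination h1
      exact hA.elim (fun hA => hA ((mul_eq_zero.1 h3).resolve_left h2)) h2
  rw [size_eq, this, ← hk, mul_comm, Subgroup.card_mul_index, PSLCard.card_SL2]

theorem size_tr_zero [Finite F] (h2 : (2 : F) ≠ 0) {A : SL(2, F)} {k : ℕ}
    (hk : Nat.card (Subgroup.centralizer ({A} : Set SL(2, F))) = k) (hA : tr A = 0) :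
    size (π A) * (2 * k) = Nat.card F * (Nat.card F ^ 2 - 1) := by
  classical
  have h4 : tr A ^ 2 ≠ 4 := by
    rw [hA]
    intro h
    exact h2 (pow_eq_zero_iff (two_ne_zero) |>.1 (show (2 : F) ^ 2 = 0 by linear_combination -h))
  obtain ⟨B0, hB0⟩ := isConj_iff.1 (isConj_of_tr_eq (A := A) (B := -A) (by rw [tr_neg, hA, neg_zero]) h4)
  set C := Subgroup.centralizer ({A} : Set SL(2, F)) with hC
  set P := (Subgroup.centralizer ({π A} : Set (ProjectiveSpecialLinearGroup (Fin 2) F))).comap π with hP
  have hAne : -A ≠ A := by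
    intro h
    have h1 := congrArg (· * A⁻¹) h
    simp at h1
    exact neg_one_ne_one h2 h1
  have hB : B0 * A = -(A * B0) := by
    have := congrArg (· * B0) hB0
    simpa using this
  have hCP : ∀ c : C, (c : SL(2, F)) ∈ P := fun c =>
    (mem_pre A c).2 (Or.inl (Subgroup.mem_centralizer_singleton_iff.1 c.2))
  have hBP : B0 ∈ P := (mem_pre A B0).2 (Or.inr hB)
  have hBC : B0 ∉ C := by
    intro h
    rw [hC, Subgroup.mem_centralizer_singleton_iff, hB] at h
    apply hAne
    have := congrArg (· * B0⁻¹) h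
    simpa using this
  have hbij : Function.Bijective (fun x : C ⊕ C =>
      (x.elim (fun c : C => (⟨(c : SL(2, F)), hCP c⟩ : P)) (fun c : C => (⟨B0 * c, P.mul_mem hBP (hCP c)⟩ : P)))) := by
    constructor
    · rintro (a | a) (b | b) h <;> simp at h
      · rw [h]
      · exact absurd ((C.mul_mem_cancel_right b.2).1 (h ▸ a.2)) hBC
      · exact absurd ((C.mul_mem_cancel_right a.2).1 (h ▸ b.2)) hBC
      · rw [h]
    · rintro ⟨B, hBm⟩
      rcases (mem_pre A B).1 hBm with h | h
      · exact ⟨Sum.inl ⟨B, Subgroup.mem_centralizer_singleton_iff.2 h⟩, rfl⟩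
      · refine ⟨Sum.inr ⟨B0⁻¹ * B, Subgroup.mem_centralizer_singleton_iff.2 ?_⟩, Subtype.ext (mul_inv_cancel_left _ _)⟩
        apply mul_left_cancel (a := B0)
        rw [← mul_assoc B0 (B0⁻¹ * B) A, mul_inv_cancel_left, h, ← mul_assoc B0 A, hB, neg_mul,
          mul_assoc A B0, mul_inv_cancel_left]
  have hcard := Nat.card_eq_of_bijective _ hbij
  rw [Nat.card_sum, hk, ← two_mul] at hcard
  rw [size_eq, ← hP, hcard, mul_comm, Subgroup.card_mul_index, PSLCard.card_SL2]

theorem size_unipotent [Finite F] {x : F} (hx : x ≠ 0) :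
    size (π (PSL2Elements.u x)) = (Nat.card F ^ 2 - 1) / Nat.gcd 2 (Nat.card F - 1) := by
  have hC : Subgroup.centralizer ({π (PSL2Elements.u x)} : Set (ProjectiveSpecialLinearGroup (Fin 2) F)) =
      ((π : SL(2, F) →* _).comp uHom).range := by
    ext g
    obtain ⟨B, rfl⟩ := π_surjective g
    rw [← Subgroup.mem_comap, mem_pre, MonoidHom.mem_range]
    constructor
    · intro h
      have hcomm : B * PSL2Elements.u x = PSL2Elements.u x * B := by
        refine h.elim id fun h => ?_
        by_cases h2 : (2 : F) = 0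
        · rw [h, ← neg_one_mul, neg_one_eq_one h2, one_mul]
        · exfalso
          have e : B * PSL2Elements.u x * B⁻¹ = -PSL2Elements.u x := by
            rw [h, neg_mul, mul_inv_cancel_right]
          have h1 := congrArg tr e
          rw [tr_conj, tr_neg, tr_u] at h1
          exact h2 ((mul_eq_zero.1 (show (2 : F) * 2 = 0 by linear_combination h1)).elim id id)
      obtain ⟨y, rfl | rfl⟩ := (mem_centralizer_u hx B).1 (Subgroup.mem_centralizer_singleton_iff.2 hcomm)
      · exact ⟨Multiplicative.ofAdd y, rfl⟩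
      · exact ⟨Multiplicative.ofAdd y, (π_neg _).symm⟩
    · rintro ⟨y, hy⟩
      rcases (π_eq_iff _ _).1 hy with e | e <;> refine Or.inl ?_
      · rw [← e]
        change PSL2Elements.u _ * PSL2Elements.u x = PSL2Elements.u x * PSL2Elements.u _
        rw [u_mul, u_mul, add_comm]
      · rw [show B = -(uHom y) by rw [e, neg_neg], neg_mul, mul_neg]
        change -(PSL2Elements.u _ * PSL2Elements.u x) = -(PSL2Elements.u x * PSL2Elements.u _)
        rw [u_mul, u_mul, add_comm]
  have hinj : Function.Injective ((π : SL(2, F) →* _).comp uHom) := by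
    intro a b h
    rcases (π_eq_iff _ _).1 h with e | e
    · exact uHom_injective e
    · have h2 := congrArg (fun C : SL(2, F) => C.1 0 0) e
      have h3 := congrArg (fun C : SL(2, F) => C.1 0 1) e
      simp [uHom, PSL2Elements.u] at h2 h3
      have : (2 : F) = 0 := by linear_combination h2
      exact uHom_injective (e.trans (by rw [← neg_one_mul, neg_one_eq_one this, one_mul]))
  have hcard : Nat.card (Subgroup.centralizer ({π (PSL2Elements.u x)} : Set (ProjectiveSpecialLinearGroup (Fin 2) F))) =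
      Nat.card F := by
    rw [hC, ← Nat.card_congr (MonoidHom.ofInjective hinj).toEquiv, Nat.card_congr Multiplicative.toAdd]
  have h := Subgroup.card_mul_index
    (Subgroup.centralizer ({π (PSL2Elements.u x)} : Set (ProjectiveSpecialLinearGroup (Fin 2) F)))
  rw [hcard, PSLCard.card_PSL2] at h
  have hq : 0 < Nat.card F := (PSLCard.one_lt_card F).trans' one_pos
  apply Nat.eq_of_mul_eq_mul_left hq
  rw [size, h, Nat.mul_div_assoc]
  have h1 := PSLCard.one_lt_card F
  exact (gcd_dvd (F := F)).1.trans ⟨Nat.card F + 1, by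
    rw [mul_comm, ← Nat.sq_sub_sq, one_pow]⟩

/-- The three kinds of non-identity elements. -/
theorem size_cases [Finite F] {g : ProjectiveSpecialLinearGroup (Fin 2) F} (hg : g ≠ 1) :
    size g = (Nat.card F ^ 2 - 1) / Nat.gcd 2 (Nat.card F - 1) ∨
      ∃ A : SL(2, F), π A = g ∧ tr A ^ 2 ≠ 4 := by
  obtain ⟨A, rfl⟩ := π_surjective g
  by_cases h4 : tr A ^ 2 = 4
  · left
    obtain ⟨x, hx⟩ : ∃ x : F, IsConj A (PSL2Elements.u x) ∨ IsConj (-A) (PSL2Elements.u x) := by
      have : (tr A - 2) * (tr A + 2) = 0 := by linear_combination h4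
      rcases mul_eq_zero.1 this with h | h
      · obtain ⟨x, hx⟩ := isConj_u_of_tr_two (sub_eq_zero.1 h)
        exact ⟨x, Or.inl hx⟩
      · obtain ⟨x, hx⟩ := isConj_u_of_tr_two (A := -A)
          (by rw [tr_neg, eq_neg_of_add_eq_zero_left h, neg_neg])
        exact ⟨x, Or.inr hx⟩
    have hs : size (π A) = size (π (PSL2Elements.u x)) := by
      rcases hx with h | h
      · exact size_of_isConj h
      · rw [← π_neg A]; exact size_of_isConj h
    rw [hs]
    refine size_unipotent ?_
    rintro rfl
    apply hg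
    rw [u_zero] at hx
    rw [π_eq_one]
    rcases hx with h | h <;> obtain ⟨c, hc⟩ := isConj_iff.1 h
    · exact Or.inl (conj_eq_one_iff.1 hc)
    · exact Or.inr (neg_eq_iff_eq_neg.1 (conj_eq_one_iff.1 hc))
  · exact Or.inr ⟨A, rfl, h4⟩

end Cfsg.Agent.PSL2Classes52
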