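import Cfsg.Agent.Lib.CIT21Frob5
import Cfsg.Agent.Lib.CNBasic
import Cfsg.Agent.Lib.CNGlobal
import Cfsg.Agent.Lib.PSL2Classes52

/-!
A simple CN-group in which some involution commutes with a non-trivial element of odd order is
`PSL₂` over a field of characteristic `2` or of Suzuki order.
-/

set_option autoImplicit false
set_option linter.style.haveILetI false

namespace Cfsg.Agent.CIT21CN

open Cfsg.Agent.TICentralizers82 (cn nm kk mem_cn self_mem_cn)
open Matrix Cfsg.Agent.PSL2Elements Cfsg.Agent.PSL2Proj52 Cfsg.Agent.PSL2Classes52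
open scoped MatrixGroups

universe u

/-- In `PSL₂(q)`, `q` odd, an element which is not an involution commutes with at most one
involution. -/
theorem two_invol_false {F : Type*} [Field F] [Finite F] (hq : Odd (Nat.card F))
    {g a b : ProjectiveSpecialLinearGroup (Fin 2) F} (hg : g ^ 2 ≠ 1) (ha : orderOf a = 2)
    (hb : orderOf b = 2) (hne : a ≠ b) (hga : Commute g a) (hgb : Commute g b) : False := by
  have h2 := PSL2Proj52.two_ne_of_odd hq
  have hg1 : g ≠ 1 := fun e => hg (by rw [e, one_pow])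
  rcases size_cases hg1 with hs | ⟨A, rfl, hA⟩
  · have h := Subgroup.card_mul_index
      (Subgroup.centralizer ({g} : Set (ProjectiveSpecialLinearGroup (Fin 2) F)))
    rw [size] at hs
    rw [hs, PSLCard.card_PSL2, Nat.mul_div_assoc _ (show Nat.gcd 2 (Nat.card F - 1) ∣
      Nat.card F ^ 2 - 1 from (Nat.gcd_dvd_right _ _).trans
        ⟨Nat.card F + 1, by rw [mul_comm, ← Nat.sq_sub_sq, one_pow]⟩)] at h
    have hne0 : (Nat.card F ^ 2 - 1) / Nat.gcd 2 (Nat.card F - 1) ≠ 0 := by
      intro e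
      rw [e, mul_zero] at h
      have h1 := Nat.card_pos (α := ProjectiveSpecialLinearGroup (Fin 2) F)
      rw [PSLCard.card_PSL2] at h1
      rw [Nat.mul_div_assoc _ ((Nat.gcd_dvd_right _ _).trans
        ⟨Nat.card F + 1, by rw [mul_comm, ← Nat.sq_sub_sq, one_pow]⟩), e, mul_zero] at h1
      exact lt_irrefl _ h1
    have hc := mul_right_cancel₀ hne0 h
    have hd := Subgroup.orderOf_dvd_natCard
      (Subgroup.centralizer ({g} : Set (ProjectiveSpecialLinearGroup (Fin 2) F)))
      (Subgroup.mem_centralizer_singleton_iff.2 hga.eq.symm)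
    rw [ha, hc] at hd
    obtain ⟨i, hi⟩ := hq
    omega
  · by_cases h0 : tr A = 0
    · apply hg
      rw [← map_pow, (sq_eq_neg_one_iff A h2).2 h0, π_neg, map_one]
    have key : ∀ v : ProjectiveSpecialLinearGroup (Fin 2) F, orderOf v = 2 → Commute (π A) v →
        ∃ B ∈ Subgroup.centralizer ({A} : Set SL(2, F)), π B = v ∧ B ^ 2 = -1 := by
      intro v hv hAv
      obtain ⟨B, rfl⟩ := π_surjective v
      refine ⟨B, Subgroup.mem_centralizer_singleton_iff.2 ?_, rfl, ?_⟩
      · rcases (mem_pre A B).1 (Subgroup.mem_comap.2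
          (Subgroup.mem_centralizer_singleton_iff.2 hAv.eq.symm)) with e | e
        · exact e
        · exfalso
          have e' : B * A * B⁻¹ = -A := by rw [e, neg_mul, mul_inv_cancel_right]
          have h1 := congrArg tr e'
          rw [tr_conj, tr_neg] at h1
          exact h0 ((mul_eq_zero.1 (show (2 : F) * tr A = 0 by linear_combination h1)).resolve_left h2)
      · have hsq : π (B ^ 2) = 1 := by
          have h' := pow_orderOf_eq_one (π B)
          rw [hv] at h'
          rwa [map_pow]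
        rcases (π_eq_one _).1 hsq with e | e
        · exfalso
          have hB := (π_eq_one B).2 (eq_one_or_neg_one_of_sq_eq_one h2 e)
          rw [hB, orderOf_one] at hv
          omega
        · exact e
    obtain ⟨B, hB, rfl, hB2⟩ := key a ha hga
    obtain ⟨B', hB', rfl, hB'2⟩ := key b hb hgb
    haveI := (centralizer_semisimple hA).1
    have hcomm : Commute B B' := congrArg Subtype.val
      (IsCyclic.commGroup.mul_comm
        (⟨B, hB⟩ : Subgroup.centralizer ({A} : Set SL(2, F))) ⟨B', hB'⟩)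
    have hone := (π_eq_one (B * B')).2 (eq_one_or_neg_one_of_sq_eq_one h2
      (by rw [hcomm.mul_pow, hB2, hB'2, neg_one_mul, neg_neg]))
    rw [map_mul] at hone
    refine hne ((eq_inv_of_mul_eq_one_left hone).trans ?_)
    exact SignalizerStrongEmb.involution_inv hb

variable {G : Type u} [Group G] [Finite G]

/-- The centraliser of a suitable involution has the properties of the configuration. -/
theorem exists_data (hCN : Cfsg.IsCNGroup G) {t x : G} (ot : orderOf t = 2) (hxt : Commute x t)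
    (hxo : Odd (orderOf x)) (hx1 : x ≠ 1) :
    ∃ z : G, orderOf z = 2 ∧ Commute x z ∧ (∀ w ∈ cn z, w ≠ 1 → cn w ≤ cn z) ∧
      ∀ (w g : G), w ∈ cn z → w ≠ 1 → g * w * g⁻¹ ∈ cn z → g ∈ nm z := by
  haveI := Fact.mk Nat.prime_two
  obtain ⟨S, hS⟩ := (IsPGroup.of_card (n := 1)
    (by rw [Nat.card_zpowers, ot, pow_one]) : IsPGroup 2 (Subgroup.zpowers t)).exists_le_sylow
  have htS : t ∈ (S : Subgroup G) := hS (Subgroup.mem_zpowers t)
  have ht1 := SignalizerStrongEmb.involution_ne_one ot
  haveI : Nontrivial (S : Subgroup G) :=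
    ⟨⟨⟨t, htS⟩, 1, fun e => ht1 (congrArg Subtype.val e)⟩⟩
  haveI := S.isPGroup'.center_nontrivial
  obtain ⟨w₀, hw₀⟩ := exists_prime_orderOf_dvd_card' (G := Subgroup.center (S : Subgroup G)) 2 (by
    obtain ⟨k, hk⟩ := (S.isPGroup'.to_subgroup (Subgroup.center (S : Subgroup G))).exists_card_eq
    rcases k with _ | k
    · rw [pow_zero] at hk
      exact absurd hk (Finite.one_lt_card (α := Subgroup.center (S : Subgroup G))).ne'
    · rw [hk, pow_succ]; exact dvd_mul_left 2 _)
  set z : G := ((w₀ : (S : Subgroup G)) : G) with hzdef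
  have oz : orderOf z = 2 := by rw [hzdef, Subgroup.orderOf_coe, Subgroup.orderOf_coe, hw₀]
  have hzS : ∀ s ∈ (S : Subgroup G), Commute s z := fun s hs =>
    congrArg Subtype.val (Subgroup.mem_center_iff.1 w₀.2 ⟨s, hs⟩)
  have hz1 := SignalizerStrongEmb.involution_ne_one oz
  have hcop : ∀ (a : G) (i : ℕ), orderOf a = 2 ^ i → ∀ b : G, Odd (orderOf b) →
      (orderOf a).Coprime (orderOf b) := fun a i ha b hb => by
    rw [ha]
    exact (Nat.coprime_two_left.2 hb).pow_left i
  have hS2 : ∀ s ∈ (S : Subgroup G), ∃ i, orderOf s = 2 ^ i := fun s hs => by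
    obtain ⟨i, hi⟩ := IsPGroup.iff_orderOf.1 S.isPGroup' ⟨s, hs⟩
    exact ⟨i, by rwa [Subgroup.orderOf_mk] at hi⟩
  have hzx : Commute x z := (CNBasic.commute hCN ht1 ((hzS t htS).eq) hxt.eq.symm
    (hcop z 1 (by rw [oz, pow_one]) x hxo)).symm
  have hSx : ∀ s ∈ (S : Subgroup G), Commute s x := fun s hs => by
    obtain ⟨i, hi⟩ := hS2 s hs
    exact CNBasic.commute hCN hz1 (hzS s hs).eq.symm hzx.eq.symm (hcop s i hi x hxo)
  -- a 2-element of a nilpotent centraliser containing `S` lies in `S`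
  have memS : ∀ h : G, h ≠ 1 → (∀ s ∈ (S : Subgroup G), Commute s h) →
      ∀ a : G, Commute a h → (∃ i, orderOf a = 2 ^ i) → a ∈ (S : Subgroup G) := by
    intro h hh hle a hah ha
    obtain ⟨i, hi⟩ := ha
    haveI := hCN h hh
    have hle' : (S : Subgroup G) ≤ Subgroup.centralizer ({h} : Set G) := fun s hs =>
      Subgroup.mem_centralizer_singleton_iff.2 (hle s hs).eq
    haveI hPn : (S.subtype hle' : Subgroup (Subgroup.centralizer ({h} : Set G))).Normal :=
      (S.subtype hle').normal_of_normalizerCondition Group.normalizerCondition_of_isNilpotent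
    let a' : Subgroup.centralizer ({h} : Set G) :=
      ⟨a, Subgroup.mem_centralizer_singleton_iff.2 hah.eq⟩
    have hp : IsPGroup 2 (Subgroup.zpowers a') := IsPGroup.of_card (n := i)
      (by rw [Nat.card_zpowers, Subgroup.orderOf_mk, hi])
    obtain ⟨Q, hQ⟩ := hp.exists_le_sylow
    haveI := Sylow.unique_of_normal (S.subtype hle') hPn
    have haQ : a' ∈ (S.subtype hle' : Subgroup (Subgroup.centralizer ({h} : Set G))) :=
      Subsingleton.elim Q (S.subtype hle') ▸ hQ (Subgroup.mem_zpowers a')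
    exact haQ
  have key : ∀ w' : G, w' ≠ 1 → (∃ r i, Nat.Prime r ∧ orderOf w' = r ^ i) → Commute w' z →
      cn w' ≤ cn z := by
    rintro w' hw' ⟨r, i, hr, hi⟩ hwz a ha
    have haw : Commute a w' := mem_cn.1 ha
    refine CNGlobal.mem_of_prime_parts _ a fun s hs b hb j hj => mem_cn.2 ?_
    have hbw : Commute b w' := by
      obtain ⟨k, rfl⟩ := hb
      exact haw.zpow_left k
    by_cases hs2 : s = 2
    · subst hs2
      refine hzS b ?_
      by_cases hr2 : r = 2
      · subst hr2
        have hwS : w' ∈ (S : Subgroup G) := memS z hz1 hzS w' hwz ⟨i, hi⟩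
        exact memS x hx1 hSx b (CNBasic.commute hCN hw' hbw.eq.symm (hSx w' hwS).eq
          (hcop b j hj x hxo)) ⟨j, hj⟩
      · have hwo : Odd (orderOf w') := hi ▸ (hr.odd_of_ne_two hr2).pow
        refine memS w' hw' (fun s hs => ?_) b hbw ⟨j, hj⟩
        obtain ⟨l, hl⟩ := hS2 s hs
        exact CNBasic.commute hCN hz1 (hzS s hs).eq.symm hwz.eq.symm (hcop s l hl w' hwo)
    · exact (CNBasic.commute hCN hw' hwz.eq hbw.eq.symm (hcop z 1 (by rw [oz, pow_one]) b
        (hj ▸ (hs.odd_of_ne_two hs2).pow))).symm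
  have cc : ∀ w ∈ cn z, w ≠ 1 → cn w ≤ cn z := by
    intro w hw hw1
    obtain ⟨r, hr, hrd⟩ := Nat.exists_prime_and_dvd (fun e => hw1 (orderOf_eq_one_iff.1 e))
    have ho : orderOf (w ^ (orderOf w / r)) = r :=
      orderOf_pow_orderOf_div (orderOf_pos w).ne' hrd
    refine le_trans (fun a ha => mem_cn.2 ((mem_cn.1 ha).pow_right _))
      (key (w ^ (orderOf w / r)) (fun e => ?_) ⟨r, 1, hr, by rw [ho, pow_one]⟩
        ((mem_cn.1 hw).pow_left _))
    rw [e, orderOf_one] at ho
    exact hr.ne_one ho.symm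
  refine ⟨z, oz, hzx, cc, fun w g hw hw1 hgw => ?_⟩
  have hmem : g * z * g⁻¹ ∈ cn z := cc _ hgw (fun e => hw1 (conj_eq_one_iff.1 e)) (mem_cn.2
    ((mem_cn.1 hw).symm.map (MulAut.conj g).toMonoidHom))
  have hle : cn (g * z * g⁻¹) ≤ cn z := cc _ hmem (fun e => hz1 (conj_eq_one_iff.1 e))
  have heq : cn (g * z * g⁻¹) = (cn z).map (MulAut.conj g).toMonoidHom :=
    PSL2Elements.centralizer_conj g z
  rw [heq] at hle
  have := Subgroup.eq_of_le_of_card_ge hle
    (by rw [Subgroup.card_map_of_injective (MulAut.conj g).injective])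
  exact Subgroup.mem_normalizer_iff_map_conj_eq.2 this

/-- The case in which some involution commutes with a non-trivial element of odd order. -/
theorem classification [IsSimpleGroup G] (hna : ∃ a b : G, a * b ≠ b * a)
    (hCN : Cfsg.IsCNGroup G) {t x : G} (ot : orderOf t = 2) (hxt : Commute x t)
    (hxo : Odd (orderOf x)) (hx1 : x ≠ 1) :
    (∃ (F : Type) (_ : Field F) (_ : Fintype F), (∃ n : ℕ, Fintype.card F = 2 ^ n) ∧
        Nonempty (G ≃* Matrix.ProjectiveSpecialLinearGroup (Fin 2) F)) ∨ Cfsg.IsSuzuki G := by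
  obtain ⟨z, oz, hxz, hcc, hti⟩ := exists_data hCN ot hxt hxo hx1
  rcases CIT21Frob5.main hna oz hcc hti with ⟨F, hF, hF', ⟨e⟩⟩ | h
  swap
  · exact Or.inr h
  letI := hF
  letI := hF'
  refine Or.inl ⟨F, hF, hF', ?_, ⟨e⟩⟩
  obtain ⟨p, hp⟩ := CharP.exists F
  obtain ⟨n, hpp, hn⟩ := FiniteField.card F p
  by_cases hp2 : p = 2
  · exact ⟨n, by rw [hn, hp2]⟩
  exfalso
  have hq : Odd (Nat.card F) := by
    rw [Nat.card_eq_fintype_card, hn]
    exact (hpp.odd_of_ne_two hp2).pow
  have H := CIT21Frob5.cfg_of_simple hna oz hcc hti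
  have hnt : Nontrivial {v : G // v ∈ cn z ∧ orderOf v = 2} := by
    rw [← Finite.one_lt_card_iff_nontrivial, H.card_invol_cen]
    have := H.three_le_kk
    omega
  obtain ⟨⟨v, hv, ov⟩, hvne⟩ := exists_ne
    (⟨z, self_mem_cn z, oz⟩ : {v : G // v ∈ cn z ∧ orderOf v = 2})
  have hvz : v ≠ z := fun e => hvne (Subtype.ext e)
  have hxv : Commute x v := by
    obtain ⟨g, hg⟩ := isConj_iff.1 (H.conjI z v oz ov)
    have hle : cn v ≤ cn z := hcc v hv (SignalizerStrongEmb.involution_ne_one ov)
    have : cn v = cn z := Subgroup.eq_of_le_of_card_ge hle (by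
      rw [← hg, TICentralizers82.cn, TICentralizers82.cn, PSL2Elements.centralizer_conj g z,
        Subgroup.card_map_of_injective (MulAut.conj g).injective])
    exact mem_cn.1 (this ▸ mem_cn.2 hxz)
  refine two_invol_false hq (g := e x) (a := e z) (b := e v) (fun h => hx1 ?_)
    ((MulEquiv.orderOf_eq e z).trans oz) ((MulEquiv.orderOf_eq e v).trans ov)
    (fun h => hvz (e.injective h).symm) (hxz.map e) (hxv.map e)
  rw [← map_pow, MulEquiv.map_eq_one_iff] at h
  have hd := orderOf_dvd_of_pow_eq_one h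
  obtain ⟨i, hi⟩ := hxo
  have := Nat.le_of_dvd two_pos hd
  exact orderOf_eq_one_iff.1 (by omega)

end Cfsg.Agent.CIT21CN
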