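import Cfsg.Agent.Lib.CIT21Induct
import Cfsg.Agent.Lib.SignalizerStrongEmb

/-!
# CIT groups without `ELocal`s have TI Sylow `2`-subgroups (S0348)
-/

set_option autoImplicit false

namespace Cfsg.Agent.CIT21

open Subgroup

variable {G : Type*} [Group G] [Finite G]

theorem normalizer_ne_top [IsSimpleGroup G] (hna : ∃ a b : G, a * b ≠ b * a) {P : Subgroup G}
    (hP : IsPGroup 2 P) (hne : P ≠ ⊥) : normalizer (P : Set G) ≠ ⊤ := by
  haveI : Fact (Nat.Prime 2) := ⟨Nat.prime_two⟩
  intro h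
  have hn : P.Normal := normalizer_eq_top_iff.1 h
  rcases hn.eq_bot_or_eq_top with h1 | h1
  · exact hne h1
  have hG : IsPGroup 2 G := by
    intro g
    obtain ⟨k, hk⟩ := hP ⟨g, h1 ▸ mem_top g⟩
    exact ⟨k, by simpa using congrArg Subtype.val hk⟩
  haveI := hG.isNilpotent
  obtain ⟨a, b, hab⟩ := hna
  haveI : Nontrivial G := ⟨a * b, b * a, hab⟩
  haveI := hG.center_nontrivial
  rcases (inferInstance : (center G).Normal).eq_bot_or_eq_top with h2 | h2
  · exact absurd h2 ((nontrivial_iff_ne_bot _).1 inferInstance)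
  · exact hab (mem_center_iff.1 (h2 ▸ mem_top b) a)

/-- An element of a `2`-group outside a normal subgroup gives one squaring into it. -/
theorem exists_sq_mem {S D : Subgroup G} (hS : IsPGroup 2 S) (h : ¬ S ≤ D) :
    ∃ y ∈ S, y ∉ D ∧ y * y ∈ D := by
  classical
  obtain ⟨x, hxS, hxD⟩ := SetLike.not_le_iff_exists.1 h
  obtain ⟨k, hk⟩ := hS ⟨x, hxS⟩
  have hk' : x ^ (2 ^ k) ∈ D := by
    have := congrArg Subtype.val hk
    simp only [SubmonoidClass.coe_pow, OneMemClass.coe_one] at this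
    exact this ▸ D.one_mem
  have hex : ∃ k, x ^ (2 ^ k) ∈ D := ⟨k, hk'⟩
  have hpos : Nat.find hex ≠ 0 := fun h0 => hxD (by simpa [h0] using Nat.find_spec hex)
  obtain ⟨j, hj⟩ := Nat.exists_eq_succ_of_ne_zero hpos
  refine ⟨x ^ (2 ^ j), S.pow_mem hxS _, Nat.find_min hex (by omega), ?_⟩
  have := Nat.find_spec hex
  rw [hj, Nat.succ_eq_add_one, pow_succ, pow_mul, pow_two] at this
  exact this

theorem climbSpec (hloc : LocalSpec G) : ClimbSpec G := by
  intro hG hsimple hna hE S T hST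
  haveI := hsimple
  haveI : Fact (Nat.Prime 2) := ⟨Nat.prime_two⟩
  by_contra hne
  let r : Sylow 2 G → Sylow 2 G → Prop := fun S T => J (S : Subgroup G) = J (T : Subgroup G)
  have step : StepOK r := by
    refine fun D R hD hO hR => Or.inl fun A hA => ?_
    by_contra hAD
    obtain ⟨V, c, hV⟩ := hloc hG D R A hD hO hR.1 hR.2.1 hR.2.2 hA hAD
    exact hE _ _ _ _ hV
  have rel := climb hna r (fun _ => rfl) (fun h => h.symm) (fun h h' => h.trans h') step
    (fun _ _ h => h)
  have hS : (S : Subgroup G) ≠ ⊥ := fun h => hne (by rw [h, bot_inf_eq])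
  set M := normalizer (J (S : Subgroup G) : Set G) with hM
  have hSM : (S : Subgroup G) ≤ M := le_normalizer.trans (normalizer_le_normalizer_J _)
  -- Sylow subgroups through an involution of `M`
  have hmem : ∀ t ∈ M, orderOf t = 2 → ∀ U : Sylow 2 G, t ∈ (U : Subgroup G) →
      J (U : Subgroup G) = J (S : Subgroup G) := by
    intro t htM ht U htU
    have hp : IsPGroup 2 (zpowers t) :=
      IsPGroup.of_card (n := 1) (by rw [Nat.card_zpowers, ht, pow_one])
    obtain ⟨R, hR, htR⟩ := exists_max2 (zpowers_le.2 htM) hp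
    obtain ⟨m, hm, hmR⟩ := max2_conj (max2_sylow S hSM) hR
    obtain ⟨U', hU'⟩ := hR.2.1.exists_le_sylow
    have hU'eq : R = (U' : Subgroup G) := eq_of_le_of_card_ge hU' (by
      rw [← hmR, card_conj, U'.card_eq_multiplicity, S.card_eq_multiplicity])
    have hint : (U : Subgroup G) ⊓ (U' : Subgroup G) ≠ ⊥ := by
      intro h
      have : t ∈ (⊥ : Subgroup G) := h ▸ ⟨htU, hU' (htR (mem_zpowers t))⟩
      rw [mem_bot] at this
      simp [this] at ht
    have h3 : J (U : Subgroup G) = J (U' : Subgroup G) := rel U U' hint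
    rw [h3, ← hU'eq, ← hmR, J_map, map_eq_of_mem_normalizer hm]
  have hMtop : M ≠ ⊤ := normalizer_ne_top hna (S.isPGroup'.to_le (J_le _)) (J_ne_bot hS)
  obtain ⟨s₀, hs₀⟩ := (S : Subgroup G).ne_bot_iff_exists_ne_one.1 hS
  obtain ⟨z, hzc, hz⟩ : ∃ z ∈ (center (S : Subgroup G)).map (S : Subgroup G).subtype,
      orderOf z = 2 := by
    haveI : Nontrivial (S : Subgroup G) := nontrivial_iff_exists_ne 1 |>.2 ⟨s₀, hs₀⟩
    haveI := S.isPGroup'.isNilpotent
    haveI := S.isPGroup'.center_nontrivial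
    obtain ⟨k, hk, hk2⟩ := (S.isPGroup'.to_subgroup (center (S : Subgroup G))).exists_card_eq
      |> fun ⟨k, hk⟩ => (⟨k, hk, fun h0 => by
        rw [h0, pow_zero] at hk
        exact (Finite.one_lt_card (α := center (S : Subgroup G))).ne' hk⟩ :
          ∃ k, Nat.card (center (S : Subgroup G)) = 2 ^ k ∧ k ≠ 0)
    obtain ⟨w, hw⟩ := exists_prime_orderOf_dvd_card' (G := center (S : Subgroup G)) 2
      (hk ▸ dvd_pow_self 2 hk2)
    exact ⟨((w : (S : Subgroup G)) : G), ⟨w, w.2, rfl⟩, by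
      rw [orderOf_coe, orderOf_coe]; exact hw⟩
  have hzS : z ∈ (S : Subgroup G) := map_subtype_le _ hzc
  have hSE : Cfsg.IsStronglyEmbedded M := by
    refine SignalizerStrongEmb.isStronglyEmbedded_iff.2 ⟨hMtop,
      SignalizerStrongEmb.even_card_of_involution_mem hz (hSM hzS), fun t htM ht g hg => ?_⟩
    obtain ⟨U, hU⟩ := (IsPGroup.of_card (n := 1) (by rw [Nat.card_zpowers, ht, pow_one]) :
      IsPGroup 2 (zpowers t)).exists_le_sylow
    have htU : t ∈ (U : Subgroup G) := hU (mem_zpowers t)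
    obtain ⟨U', hU'⟩ := (isPGroup_conj (g := g) U.isPGroup').exists_le_sylow
    have hU'eq : (U : Subgroup G).map (MulAut.conj g).toMonoidHom = (U' : Subgroup G) :=
      eq_of_le_of_card_ge hU' (by
        rw [card_conj, U'.card_eq_multiplicity, U.card_eq_multiplicity])
    have h1 := hmem t htM ht U htU
    have h2 := hmem _ hg (by rw [SignalizerStrongEmb.orderOf_conj, ht]) U'
      (hU' (conj_mem_map htU))
    rw [← hU'eq, J_map, h1] at h2
    exact mem_normalizer_of_map_eq h2
  set D := O2 M with hD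
  have hDS : D ≤ (S : Subgroup G) := O2_le_max2 (max2_sylow S hSM)
  have hDne : D ≠ ⊥ := fun h => J_ne_bot hS (le_bot_iff.1
    (h ▸ le_O2 le_normalizer le_rfl (S.isPGroup'.to_le (J_le _))))
  have hcent : ∀ t ∈ M, orderOf t = 2 → t ∈ D := by
    intro t htM ht
    have hzD : z ∈ M ⊓ centralizer (D : Set G) := by
      refine ⟨hSM hzS, fun d hd => ?_⟩
      obtain ⟨w, hw, rfl⟩ := hzc
      have := mem_center_iff.1 hw ⟨d, hDS hd⟩
      exact congrArg Subtype.val this
    have hzD' := centralizer_inf_le_O2 hG (le_normalizer_O2 M) (isPGroup_O2 M) hDne hzD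
    obtain ⟨m, hm, hmt⟩ := SignalizerStrongEmb.IsStronglyEmbedded.conj_in hSE (hSM hzS) htM hz
      (SignalizerStrongEmb.isConj_involutions hSE hz ht)
    exact hmt ▸ O2_conj_mem hm hzD'
  have hSD : (S : Subgroup G) ≤ D := by
    by_contra hSD
    obtain ⟨y, hyS, hyD, hy2⟩ := exists_sq_mem S.isPGroup' hSD
    obtain ⟨t, x, htM, -, hyt, ht, -, -, -⟩ :=
      exists_involution_coset hG (hSM hyS) hyD hy2 hDne
    have := D.mul_mem (hcent t htM ht) (D.inv_mem hyt)
    exact hyD (by simpa using this)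
  have hMS : M ≤ normalizer ((S : Subgroup G) : Set G) := by
    rw [le_antisymm hSD hDS]; exact le_normalizer_O2 M
  have hJT : J (T : Subgroup G) = J (S : Subgroup G) := (rel S T hne).symm
  have hTM : (T : Subgroup G) ≤ normalizer ((S : Subgroup G) : Set G) :=
    le_trans (le_normalizer.trans (normalizer_le_normalizer_J _)) (hJT ▸ hMS)
  have hsup : IsPGroup 2 ↥((T : Subgroup G) ⊔ (S : Subgroup G)) :=
    T.isPGroup'.to_sup_of_normal_right' S.isPGroup' hTM
  exact hST (Sylow.ext ((S.is_maximal' hsup le_sup_right).symm.trans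
    (T.is_maximal' hsup le_sup_left)))

end Cfsg.Agent.CIT21
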