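import Mathlib
import Cfsg.Prelude.Def_PLocal
import Cfsg.Prelude.Def_Solvable
import Cfsg.Prelude.Def_Exceptional
import Cfsg.Prelude.Def_Involutions

/-!
# Finite groups with `2`-group centralisers of involutions (Suzuki's CIT theorem, S0348)

Definitions and the interfaces between the modules `CIT21Offender`, `CIT21Climb`, `CIT21Frobenius`,
`CIT21Reduce`, `CIT21Dihedral`, `CIT21Flats`, `CIT21Plane`.
-/

set_option autoImplicit false

namespace Cfsg.Agent.CIT21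

variable {G : Type*} [Group G]

/-- The centraliser of every involution is a `2`-group. -/
def IsCIT (G : Type*) [Group G] : Prop :=
  ∀ t : G, orderOf t = 2 → IsPGroup 2 (Subgroup.centralizer ({t} : Set G))

/-- `O₂(N)` as a subgroup of the ambient group. -/
def O2 (N : Subgroup G) : Subgroup G := (Cfsg.pCore 2 N).map N.subtype

/-- `A` is an abelian subgroup of `R` of largest order. -/
def MaxAb (R A : Subgroup G) : Prop :=
  A ≤ R ∧ IsMulCommutative A ∧
    ∀ B : Subgroup G, B ≤ R → IsMulCommutative B → Nat.card B ≤ Nat.card A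

/-- The Sylow `2`-subgroups of `N` in the setting `SL2Like N D U c`. -/
def IsSyl (N D : Subgroup G) (c : ℕ) (R : Subgroup G) : Prop :=
  R ≤ N ∧ IsPGroup 2 R ∧ Nat.card R = Nat.card D * c

/-- `N/D` acts on the elementary abelian group `U` of order `c²` as `SL₂(c)` on its natural module:
`c + 1` Sylow `2`-subgroups, their fixed spaces a partition of `U`, sharply `3`-transitive. -/
structure SL2Like (N D U : Subgroup G) (c : ℕ) : Prop where
  two_le : 2 ≤ c
  U_le : U ≤ D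
  D_le : D ≤ N
  normal_U : N ≤ Subgroup.normalizer (U : Set G)
  normal_D : N ≤ Subgroup.normalizer (D : Set G)
  pGroup_D : IsPGroup 2 D
  D_eq : N ⊓ Subgroup.centralizer (U : Set G) = D
  core : O2 N = D
  sq_U : ∀ u ∈ U, u * u = 1
  comm_U : ∀ u ∈ U, ∀ v ∈ U, u * v = v * u
  card_U : Nat.card U = c ^ 2
  card_N : Nat.card N = Nat.card D * ((c + 1) * c * (c - 1))
  exists_syl : ∀ P : Subgroup G, P ≤ N → IsPGroup 2 P → ∃ R, IsSyl N D c R ∧ P ≤ R
  syl_ge : ∀ R, IsSyl N D c R → D ≤ R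
  syl_count : Nat.card {R : Subgroup G // IsSyl N D c R} = c + 1
  syl_conj : ∀ R R', IsSyl N D c R → IsSyl N D c R' →
    ∃ g ∈ N, R.map (MulAut.conj g).toMonoidHom = R'
  syl_inter : ∀ R R', IsSyl N D c R → IsSyl N D c R' → R ≠ R' → R ⊓ R' = D
  syl_sq : ∀ R, IsSyl N D c R → ∀ r ∈ R, r * r ∈ D
  syl_comm : ∀ R, IsSyl N D c R → ∀ r ∈ R, ∀ s ∈ R, r * s * r⁻¹ * s⁻¹ ∈ D
  fixed_card : ∀ R, IsSyl N D c R → Nat.card ↥(U ⊓ Subgroup.centralizer (R : Set G)) = c
  fixed_eq : ∀ R, IsSyl N D c R → ∀ r ∈ R, r ∉ D →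
    U ⊓ Subgroup.centralizer ({r} : Set G) = U ⊓ Subgroup.centralizer (R : Set G)
  comm_fixed : ∀ R, IsSyl N D c R → ∀ u ∈ U, ∀ r ∈ R,
    u * r * u⁻¹ * r⁻¹ ∈ U ⊓ Subgroup.centralizer (R : Set G)
  fixed_inter : ∀ R R', IsSyl N D c R → IsSyl N D c R' → R ≠ R' →
    U ⊓ Subgroup.centralizer (R : Set G) ⊓ (U ⊓ Subgroup.centralizer (R' : Set G)) = ⊥
  fixed_cover : ∀ u ∈ U, ∃ R, IsSyl N D c R ∧ u ∈ U ⊓ Subgroup.centralizer (R : Set G)
  fixed_trans : ∀ R, IsSyl N D c R →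
    ∀ w ∈ U ⊓ Subgroup.centralizer (R : Set G), w ≠ 1 →
      ∀ w' ∈ U ⊓ Subgroup.centralizer (R : Set G), w' ≠ 1 →
        ∃ g ∈ N, R.map (MulAut.conj g).toMonoidHom = R ∧ g * w * g⁻¹ = w'
  card_stab : ∀ R, IsSyl N D c R →
    Nat.card ↥(N ⊓ Subgroup.normalizer (R : Set G)) = Nat.card D * (c * (c - 1))
  card_stab_two : ∀ R R', IsSyl N D c R → IsSyl N D c R' → R ≠ R' →
    Nat.card ↥(N ⊓ Subgroup.normalizer (R : Set G) ⊓ Subgroup.normalizer (R' : Set G))
      = Nat.card D * (c - 1)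
  swap : ∀ R R', IsSyl N D c R → IsSyl N D c R' → R ≠ R' →
    ∃ t ∈ N, orderOf t = 2 ∧ R.map (MulAut.conj t).toMonoidHom = R' ∧
      ∀ h ∈ N ⊓ Subgroup.normalizer (R : Set G) ⊓ Subgroup.normalizer (R' : Set G),
        t * h * t * h ∈ D
  triple : ∀ R R' R'', IsSyl N D c R → IsSyl N D c R' → IsSyl N D c R'' →
    R ≠ R' → R' ≠ R'' → R ≠ R'' →
    ∃ x ∈ N, orderOf x = 3 ∧ R.map (MulAut.conj x).toMonoidHom = R' ∧
      R'.map (MulAut.conj x).toMonoidHom = R'' ∧ R''.map (MulAut.conj x).toMonoidHom = R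

/-- A `2`-local subgroup in which an abelian subgroup of largest order of a Sylow `2`-subgroup
lies outside `O₂`. -/
structure ELocal (N D V : Subgroup G) (c : ℕ) : Prop where
  sl2 : SL2Like N D V c
  N_eq : Subgroup.normalizer (D : Set G) = N
  cent_V : Subgroup.centralizer (V : Set G) = D
  center_D : D ⊓ Subgroup.centralizer (D : Set G) = V
  center_R : ∀ R, IsSyl N D c R →
    R ⊓ Subgroup.centralizer (R : Set G) = V ⊓ Subgroup.centralizer (R : Set G)
  offender : ∃ R A, IsSyl N D c R ∧ MaxAb R A ∧ ¬ A ≤ D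

/-- The configuration of `PSL₃(4)`: a Sylow `2`-subgroup of order `64` with two self-centralising
elementary abelian subgroups of order `16`, both with normaliser `2⁴:SL₂(4)`. -/
structure Flats (V A S : Subgroup G) : Prop where
  sylow : ∃ T : Sylow 2 G, (T : Subgroup G) = S
  card_S : Nat.card S = 64
  V_le : V ≤ S
  A_le : A ≤ S
  card_inter : Nat.card ↥(V ⊓ A) = 4
  center_S : S ⊓ Subgroup.centralizer (S : Set G) = V ⊓ A
  involutions : ∀ x ∈ S, x * x = 1 → x ∈ V ∨ x ∈ A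
  sl2_V : SL2Like (Subgroup.normalizer (V : Set G)) V V 4
  sl2_A : SL2Like (Subgroup.normalizer (A : Set G)) A A 4
  cent_V : Subgroup.centralizer (V : Set G) = V
  cent_A : Subgroup.centralizer (A : Set G) = A
  not_conj : ∀ g : G, V.map (MulAut.conj g).toMonoidHom ≠ A

/-! ### Interfaces -/

/-- Quadratic offenders in a CIT group. -/
def QuadraticSpec (G : Type*) [Group G] : Prop :=
  IsCIT G → ∀ N U B : Subgroup G, U ≤ N → N ≤ Subgroup.normalizer (U : Set G) → U ≠ ⊥ →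
    (∀ u ∈ U, u * u = 1) → B ≤ N → IsPGroup 2 B → ¬ B ≤ Subgroup.centralizer (U : Set G) →
    O2 N ≤ Subgroup.centralizer (U : Set G) →
    (∀ b ∈ B, ∀ b' ∈ B, b * b' * b⁻¹ * b'⁻¹ ∈ Subgroup.centralizer (U : Set G)) →
    (∀ u ∈ U, ∀ b ∈ B, u * b * u⁻¹ * b⁻¹ ∈ Subgroup.centralizer (B : Set G)) →
    Nat.card U * Nat.card ↥(B ⊓ Subgroup.centralizer (U : Set G)) ≤
      Nat.card B * Nat.card ↥(U ⊓ Subgroup.centralizer (B : Set G)) →
    ∃ c, SL2Like N (N ⊓ Subgroup.centralizer (U : Set G)) U c ∧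
      IsSyl N (N ⊓ Subgroup.centralizer (U : Set G)) c
        (N ⊓ Subgroup.centralizer (U : Set G) ⊔ B) ∧
      Nat.card B = c * Nat.card ↥(B ⊓ Subgroup.centralizer (U : Set G))

/-- Abelian subgroups of largest order outside `O₂` give an `ELocal`. -/
def LocalSpec (G : Type*) [Group G] : Prop :=
  IsCIT G → ∀ D R A : Subgroup G, D ≠ ⊥ → O2 (Subgroup.normalizer (D : Set G)) = D →
    R ≤ Subgroup.normalizer (D : Set G) → IsPGroup 2 R →
    (∀ P : Subgroup G, P ≤ Subgroup.normalizer (D : Set G) → IsPGroup 2 P → R ≤ P → P = R) →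
    MaxAb R A → ¬ A ≤ D → ∃ V c, ELocal (Subgroup.normalizer (D : Set G)) D V c

/-- Without `ELocal`s the Sylow `2`-subgroups are TI. -/
def ClimbSpec (G : Type*) [Group G] : Prop :=
  IsCIT G → IsSimpleGroup G → (∃ a b : G, a * b ≠ b * a) →
    (∀ N D V : Subgroup G, ∀ c, ¬ ELocal N D V c) →
    ∀ S T : Sylow 2 G, S ≠ T → (S : Subgroup G) ⊓ (T : Subgroup G) = ⊥

/-- An `ELocal` leads to one with `D = V`. -/
def ReduceSpec (G : Type*) [Group G] : Prop :=
  IsCIT G → IsSimpleGroup G → (∃ a b : G, a * b ≠ b * a) →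
    (∃ N D V : Subgroup G, ∃ c, ELocal N D V c) → ∃ N V : Subgroup G, ∃ c, ELocal N V V c

/-- The TI case. -/
def FrobeniusSpec (G : Type*) [Group G] : Prop :=
  IsCIT G → IsSimpleGroup G → (∃ a b : G, a * b ≠ b * a) →
    (∀ S T : Sylow 2 G, S ≠ T → (S : Subgroup G) ⊓ (T : Subgroup G) = ⊥) →
    (∃ (F : Type) (_ : Field F) (_ : Fintype F),
        Nonempty (G ≃* Matrix.ProjectiveSpecialLinearGroup (Fin 2) F)) ∨ Cfsg.IsSuzuki G

/-- The fields `F` with `PSL₂(F)` a CIT group. -/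
def FieldSpec (G : Type*) [Group G] : Prop :=
  IsCIT G → IsSimpleGroup G → ∀ (F : Type) [Field F] [Fintype F],
    Nonempty (G ≃* Matrix.ProjectiveSpecialLinearGroup (Fin 2) F) →
    (Fintype.card F = 9 ∨ (∃ n : ℕ, Fintype.card F = 2 ^ n) ∨
      ((Fintype.card F).Prime ∧ ∃ k : ℕ, Fintype.card F = 2 ^ k + 1 ∨ Fintype.card F + 1 = 2 ^ k))

/-- The dihedral case. -/
def DihedralSpec (G : Type*) [Group G] : Prop :=
  IsCIT G → IsSimpleGroup G → (∃ N V : Subgroup G, ELocal N V V 2) →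
    ∃ (F : Type) (_ : Field F) (_ : Fintype F),
      Nonempty (G ≃* Matrix.ProjectiveSpecialLinearGroup (Fin 2) F)

/-- From `D = V`, `c ≥ 4` to the configuration of `PSL₃(4)`. -/
def FlatsSpec (G : Type*) [Group G] : Prop :=
  IsCIT G → IsSimpleGroup G → (∃ N V : Subgroup G, ∃ c, 4 ≤ c ∧ ELocal N V V c) →
    ∃ V A S : Subgroup G, Flats V A S

/-- Identification of `PSL₃(4)`. -/
def PlaneSpec (G : Type*) [Group G] : Prop :=
  IsCIT G → IsSimpleGroup G → (∃ V A S : Subgroup G, Flats V A S) →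
    ∃ (F : Type) (_ : Field F) (_ : Fintype F), Fintype.card F = 4 ∧
      Nonempty (G ≃* Matrix.ProjectiveSpecialLinearGroup (Fin 3) F)

end Cfsg.Agent.CIT21
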