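import Mathlib
import Cfsg.Prelude.Def_Balance
import Cfsg.Agent.Lib.HallCore
import Cfsg.Agent.Lib.ComponentsBasic

/-!
Basic properties of the p-layer and of the extended 2-layer: normality, single Sylow description,
decomposition as the 2-layer times an odd order subgroup.
-/

set_option autoImplicit false

namespace Cfsg.Agent.ExtTwoLayer

open Cfsg

variable {X : Type*} [Group X]

theorem isPComponent_map_mulEquiv {p : ℕ} {Y : Type*} [Group Y] (e : X ≃* Y) [Finite X]
    {K : Subgroup X} (hK : IsPComponent p K) : IsPComponent p (K.map e.toMonoidHom) := by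
  haveI : Finite Y := Finite.of_equiv X e.toEquiv
  have hcore : (pPrimeCore p X).map e.toMonoidHom = pPrimeCore p Y := HallCore.map_equiv_pPrimeCore e
  let eb : (X ⧸ pPrimeCore p X) ≃* (Y ⧸ pPrimeCore p Y) := QuotientGroup.congr _ _ e hcore
  have hcomm : (QuotientGroup.mk' (pPrimeCore p Y)).comp e.toMonoidHom =
      eb.toMonoidHom.comp (QuotientGroup.mk' (pPrimeCore p X)) := by
    ext x
    rfl
  have himg : ∀ H : Subgroup X, (H.map e.toMonoidHom).map (QuotientGroup.mk' (pPrimeCore p Y)) =
      (H.map (QuotientGroup.mk' (pPrimeCore p X))).map eb.toMonoidHom := by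
    intro H
    rw [Subgroup.map_map, Subgroup.map_map, hcomm]
  refine ⟨ComponentsBasic.isSubnormal_map_mulEquiv e hK.1, ?_, ?_⟩
  · rw [himg]
    exact ComponentsBasic.isComponent_map_mulEquiv eb hK.2.1
  · intro H hH hHK himgH
    have hback : (H.map e.symm.toMonoidHom).map e.toMonoidHom = H := by
      rw [Subgroup.map_map]
      convert Subgroup.map_id H
      ext y
      simp
    have hle : H.map e.symm.toMonoidHom ≤ K := by
      rintro x ⟨y, hy, rfl⟩
      obtain ⟨k, hk, rfl⟩ := hHK hy
      simpa using hk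
    have := hK.2.2 _ (ComponentsBasic.isSubnormal_map_mulEquiv e.symm hH) hle ?_
    · rw [← hback, this]
    · apply Subgroup.map_injective (f := eb.toMonoidHom) eb.injective
      rw [← himg, ← himg, hback, himgH]

theorem pLayer_map_mulEquiv_le [Finite X] {p : ℕ} (e : X ≃* X) :
    (pLayer p X).map e.toMonoidHom ≤ pLayer p X := by
  rw [pLayer, Subgroup.map_le_iff_le_comap]
  refine sSup_le fun K hK => ?_
  rw [← Subgroup.map_le_iff_le_comap]
  exact le_sSup (isPComponent_map_mulEquiv e hK)

instance pLayer_normal [Finite X] {p : ℕ} : (pLayer p X).Normal :=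
  ⟨fun n hn g => pLayer_map_mulEquiv_le (MulAut.conj g) ⟨n, hn, rfl⟩⟩

theorem isPComponent_le_pLayer {p : ℕ} {K : Subgroup X} (hK : IsPComponent p K) :
    K ≤ pLayer p X := le_sSup hK

variable (X) in
/-- The normal subgroup `L_{2'}(X) O_{2',2}(X)`. -/
abbrev base : Subgroup X := pLayer 2 X ⊔ pPrimePCore 2 X

/-- `O(C_X(T))`, as a subgroup of `X`. -/
abbrev coreC (T : Subgroup X) : Subgroup X :=
  (oddCore ↥(Subgroup.centralizer (T : Set X))).map (Subgroup.centralizer (T : Set X)).subtype

theorem extendedTwoLayer_eq : extendedTwoLayer X = pLayer 2 X ⊔ oddCore X ⊔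
    ⨆ T : Sylow 2 ↥(base X), coreC ((T : Subgroup ↥(base X)).map (base X).subtype) := rfl

theorem coreC_map [Finite X] (e : X ≃* X) (T : Subgroup X) :
    coreC (T.map e.toMonoidHom) = (coreC T).map e.toMonoidHom := by
  have hC : (Subgroup.centralizer (T : Set X)).map e.toMonoidHom =
      Subgroup.centralizer ((T.map e.toMonoidHom : Subgroup X) : Set X) := by
    ext y
    constructor
    · rintro ⟨c, hc, rfl⟩
      rw [Subgroup.mem_centralizer_iff]
      rintro z ⟨t, ht, rfl⟩
      rw [← map_mul, ← map_mul, Subgroup.mem_centralizer_iff.mp hc t ht]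
    · intro hy
      refine ⟨e.symm y, ?_, by simp⟩
      rw [SetLike.mem_coe, Subgroup.mem_centralizer_iff]
      intro t ht
      apply e.injective
      have := Subgroup.mem_centralizer_iff.mp hy (e t) ⟨t, ht, rfl⟩
      simpa using this
  let e' := ((Subgroup.centralizer (T : Set X)).equivMapOfInjective e.toMonoidHom
    e.injective).trans (MulEquiv.subgroupCongr hC)
  have h := HallCore.map_equiv_pPrimeCore (p := 2) e'
  show (oddCore _).map _ = ((oddCore _).map _).map _
  rw [oddCore, ← h, Subgroup.map_map, Subgroup.map_map]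
  congr 1

theorem coreC_le_centralizer (T : Subgroup X) : coreC T ≤ Subgroup.centralizer (T : Set X) :=
  Subgroup.map_subtype_le _

theorem odd_coreC [Finite X] (T : Subgroup X) : Odd (Nat.card ↥(coreC T)) := by
  rw [← Nat.card_congr ((oddCore ↥(Subgroup.centralizer (T : Set X))).equivMapOfInjective
    (Subgroup.centralizer (T : Set X)).subtype (Subgroup.subtype_injective _)).toEquiv]
  exact Nat.coprime_two_right.mp (HallCore.coprime_card_pPrimeCore 2 _)

theorem conj_normal_le (N : Subgroup X) [hN : N.Normal] (g : X) :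
    N.map (MulAut.conj g).toMonoidHom ≤ N := by
  rintro y ⟨n, hn, rfl⟩
  exact hN.conj_mem n hn g

theorem odd_oddCore (X : Type*) [Group X] [Finite X] : Odd (Nat.card ↥(oddCore X)) :=
  Nat.coprime_two_right.mp (HallCore.coprime_card_pPrimeCore 2 X)

theorem pPrimePCore_le_sup [Finite X] {p : ℕ} [Fact p.Prime] {N : Subgroup X}
    (hN : pPrimePCore p X ≤ N) (T : Sylow p ↥N) :
    pPrimePCore p X ≤ (T : Subgroup ↥N).map N.subtype ⊔ pPrimeCore p X := by
  set q := QuotientGroup.mk' (pPrimeCore p X) with hq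
  let f : ↥N →* ↥(N.map q) := q.subgroupMap N
  have hf : Function.Surjective f := q.subgroupMap_surjective N
  haveI := ((pCore_normal p (X ⧸ pPrimeCore p X)).subgroupOf (N.map q))
  have hle : (pCore p (X ⧸ pPrimeCore p X)).subgroupOf (N.map q) ≤
      (T.mapSurjective hf : Subgroup ↥(N.map q)) := by
    apply IsPGroup.le_sylow_of_normal
    exact (HallCore.isPGroup_pCore p (X ⧸ pPrimeCore p X)).comap_of_injective _
      (N.map q).subtype_injective
  intro y hy
  have h1 : (⟨q y, y, hN hy, rfl⟩ : ↥(N.map q)) ∈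
      (pCore p (X ⧸ pPrimeCore p X)).subgroupOf (N.map q) := hy
  have h2 := hle h1
  rw [Sylow.coe_mapSurjective] at h2
  obtain ⟨t, ht, hty⟩ := h2
  have h3 : q (t : X) = q y := congrArg Subtype.val hty
  have h4 : (t : X)⁻¹ * y ∈ pPrimeCore p X := by
    rw [← QuotientGroup.eq]
    exact h3
  have : y = (t : X) * ((t : X)⁻¹ * y) := by group
  rw [this]
  exact Subgroup.mul_mem_sup ⟨t, ht, rfl⟩ h4

theorem extendedTwoLayer_eq_sylow [Finite X] (T : Sylow 2 ↥(base X)) :
    extendedTwoLayer X = pLayer 2 X ⊔ oddCore X ⊔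
      coreC ((T : Subgroup ↥(base X)).map (base X).subtype) := by
  set Tg := (T : Subgroup ↥(base X)).map (base X).subtype with hTg
  set R := pLayer 2 X ⊔ oddCore X ⊔ coreC Tg with hR
  apply le_antisymm
  · have hN : base X ≤ Subgroup.normalizer (R : Set X) := by
      have hL : pLayer 2 X ≤ Subgroup.normalizer (R : Set X) :=
        (le_sup_left.trans le_sup_left).trans Subgroup.le_normalizer
      refine sup_le hL ((pPrimePCore_le_sup le_sup_right T).trans (sup_le ?_ ?_))
      · intro t ht
        have key : ∀ t ∈ Tg, R.map (MulAut.conj t).toMonoidHom ≤ R := by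
          intro t ht
          rw [hR, Subgroup.map_sup, Subgroup.map_sup]
          refine sup_le (sup_le ?_ ?_) ?_
          · exact (conj_normal_le _ t).trans (le_sup_left.trans le_sup_left)
          · exact (conj_normal_le _ t).trans (le_sup_right.trans le_sup_left)
          · rintro y ⟨c, hc, rfl⟩
            have := Subgroup.mem_centralizer_iff.mp (coreC_le_centralizer _ hc) t ht
            have h2 : (MulAut.conj t).toMonoidHom c = c := by
              show t * c * t⁻¹ = c
              rw [this, mul_inv_cancel_right]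
            rw [h2]
            exact Subgroup.mem_sup_right hc
        rw [Subgroup.mem_normalizer_iff]
        intro x
        refine ⟨fun hx => key t ht ⟨x, hx, rfl⟩, fun hx => ?_⟩
        have := key t⁻¹ (Subgroup.inv_mem _ ht) ⟨_, hx, rfl⟩
        simpa [mul_assoc] using this
      · exact (le_sup_right.trans le_sup_left).trans Subgroup.le_normalizer
    rw [extendedTwoLayer_eq]
    refine sup_le le_sup_left (iSup_le fun T' => ?_)
    obtain ⟨n, hn⟩ := MulAction.exists_smul_eq (↥(base X)) T T'
    have hT' : (T' : Subgroup ↥(base X)).map (base X).subtype =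
        Tg.map (MulAut.conj (n : X)).toMonoidHom := by
      rw [← hn, hTg, Sylow.coe_subgroup_smul, Subgroup.pointwise_smul_def]
      ext y
      constructor
      · rintro ⟨_, ⟨t, ht, rfl⟩, rfl⟩
        exact ⟨(t : X), ⟨t, ht, rfl⟩, rfl⟩
      · rintro ⟨_, ⟨t, ht, rfl⟩, rfl⟩
        exact ⟨_, ⟨t, ht, rfl⟩, rfl⟩
    rw [hT', coreC_map]
    rintro y ⟨c, hc, rfl⟩
    exact (Subgroup.mem_normalizer_iff.mp (hN n.2) c).mp (Subgroup.mem_sup_right hc)
  · rw [extendedTwoLayer_eq]
    exact sup_le le_sup_left ((le_iSup (fun T' : Sylow 2 ↥(base X) =>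
      coreC ((T' : Subgroup ↥(base X)).map (base X).subtype)) T).trans le_sup_right)

theorem extendedTwoLayer_normal [Finite X] : (extendedTwoLayer X).Normal := by
  constructor
  intro x hx g
  have key : (extendedTwoLayer X).map (MulAut.conj g).toMonoidHom ≤ extendedTwoLayer X := by
    conv_lhs => rw [extendedTwoLayer_eq, Subgroup.map_sup, Subgroup.map_sup, Subgroup.map_iSup]
    refine sup_le (sup_le ?_ ?_) (iSup_le fun T => ?_)
    · exact (conj_normal_le _ g).trans (le_sup_left.trans le_sup_left)
    · exact (conj_normal_le _ g).trans (le_sup_right.trans le_sup_left)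
    · rw [← coreC_map]
      let a : ↥(base X) ≃* ↥(base X) := MulAut.conjNormal g
      have ha : ((T : Subgroup ↥(base X)).map (base X).subtype).map (MulAut.conj g).toMonoidHom =
          ((T.mapSurjective (f := a.toMonoidHom) a.surjective : Sylow 2 ↥(base X)) :
            Subgroup ↥(base X)).map (base X).subtype := by
        ext y
        constructor
        · rintro ⟨_, ⟨t, ht, rfl⟩, rfl⟩
          exact ⟨a t, ⟨t, ht, rfl⟩, rfl⟩
        · rintro ⟨_, ⟨t, ht, rfl⟩, rfl⟩
          exact ⟨(t : X), ⟨t, ht, rfl⟩, rfl⟩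
      rw [ha]
      exact (le_iSup (fun T' : Sylow 2 ↥(base X) =>
        coreC ((T' : Subgroup ↥(base X)).map (base X).subtype)) _).trans le_sup_right
  exact key ⟨x, hx, rfl⟩

theorem exists_odd_complement [Finite X] : ∃ F : Subgroup X, Odd (Nat.card ↥F) ∧
    (∃ S : Sylow 2 X, (S : Subgroup X) ≤ Subgroup.normalizer (F : Set X)) ∧
    extendedTwoLayer X = pLayer 2 X ⊔ F := by
  obtain ⟨T⟩ : Nonempty (Sylow 2 ↥(base X)) := inferInstance
  set Tg := (T : Subgroup ↥(base X)).map (base X).subtype with hTg
  refine ⟨oddCore X ⊔ coreC Tg, ?_, ?_, ?_⟩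
  · rw [sup_comm]
    exact Odd.of_dvd_nat ((odd_coreC Tg).mul (odd_oddCore X)) (HallCore.card_sup_dvd _ _)
  · obtain ⟨S, hS⟩ := (T.isPGroup'.map (base X).subtype).exists_le_sylow
    refine ⟨S, fun s hs => ?_⟩
    have key : ∀ s ∈ (S : Subgroup X), Tg.map (MulAut.conj s).toMonoidHom ≤ Tg := by
      intro s hs
      rintro y ⟨t, ht, rfl⟩
      have htN : t ∈ base X := Subgroup.map_subtype_le _ ht
      have hyN : (MulAut.conj s).toMonoidHom t ∈ base X :=
        (inferInstance : (base X).Normal).conj_mem t htN s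
      have hyS : (MulAut.conj s).toMonoidHom t ∈ (S : Subgroup X) :=
        Subgroup.mul_mem _ (Subgroup.mul_mem _ hs (hS ht)) (Subgroup.inv_mem _ hs)
      have heq : (S : Subgroup X).subgroupOf (base X) = (T : Subgroup ↥(base X)) := by
        refine T.is_maximal' ?_ fun x hx => hS ⟨x, hx, rfl⟩
        exact S.isPGroup'.comap_of_injective _ (base X).subtype_injective
      refine ⟨⟨_, hyN⟩, ?_, rfl⟩
      rw [SetLike.mem_coe, ← heq]
      exact hyS
    have keyF : ∀ s ∈ (S : Subgroup X),
        (oddCore X ⊔ coreC Tg).map (MulAut.conj s).toMonoidHom ≤ oddCore X ⊔ coreC Tg := by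
      intro s hs
      rw [Subgroup.map_sup, ← coreC_map]
      have hTeq : Tg.map (MulAut.conj s).toMonoidHom = Tg := by
        refine le_antisymm (key s hs) fun t ht => ⟨_, key s⁻¹ (Subgroup.inv_mem _ hs) ⟨t, ht, rfl⟩, ?_⟩
        simp [mul_assoc]
      rw [hTeq]
      exact sup_le_sup_right (conj_normal_le _ s) _
    rw [Subgroup.mem_normalizer_iff]
    intro x
    refine ⟨fun hx => keyF s hs ⟨x, hx, rfl⟩, fun hx => ?_⟩
    have := keyF s⁻¹ (Subgroup.inv_mem _ hs) ⟨_, hx, rfl⟩
    simpa [mul_assoc] using this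
  · rw [extendedTwoLayer_eq_sylow T, sup_assoc]

end Cfsg.Agent.ExtTwoLayer
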