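import Cfsg.Agent.Lib.TransferFixed

/-!
# The extremal form of the Thompson transfer lemma
-/

set_option autoImplicit false
set_option linter.unusedSectionVars false

namespace Cfsg.Agent.JTTransfer62

open Subgroup MulAction

variable {G : Type*} [Group G] [Finite G]

theorem hom_trivial [IsSimpleGroup G] (hG : ¬ IsMulCommutative G) {A : Type*} [CommGroup A]
    (τ : G →* A) (x : G) : τ x = 1 := by
  rcases τ.normal_ker.eq_bot_or_eq_top with h | h
  · exfalso
    apply hG
    refine ⟨⟨fun a b => ?_⟩⟩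
    apply (MonoidHom.ker_eq_bot_iff τ).mp h
    rw [map_mul, map_mul, mul_comm]
  · exact MonoidHom.mem_ker.mp (h ▸ mem_top x)

/-- In a simple group, a maximal subgroup `M` of a Sylow 2-subgroup `S` not containing the
involution `t` contains a conjugate of `t` whose centraliser in `S` is as large as any 2-subgroup
centralising `t`. -/
theorem exists_extremal [IsSimpleGroup G] (hG : ¬ IsMulCommutative G) (S : Sylow 2 G)
    {M : Subgroup G} (hMS : M ≤ (S : Subgroup G))
    (hidx : (M.subgroupOf (S : Subgroup G)).index = 2)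
    {t : G} (ht : orderOf t = 2) (htM : ¬ t ∈ M)
    {T : Subgroup G} (hT : IsPGroup 2 T) (htT : t ∈ T) (hTc : ∀ x ∈ T, x * t = t * x) :
    ∃ g : G, g⁻¹ * t * g ∈ M ∧
      Nat.card T ≤ Nat.card ↥((S : Subgroup G) ⊓ centralizer ({g⁻¹ * t * g} : Set G)) := by
  classical
  haveI : Fact (Nat.Prime 2) := ⟨Nat.prime_two⟩
  by_contra hno
  push Not at hno
  haveI hMn : (M.subgroupOf (S : Subgroup G)).Normal := normal_of_index_eq_two hidx
  haveI : IsCyclic (↥(S : Subgroup G) ⧸ M.subgroupOf (S : Subgroup G)) :=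
    isCyclic_of_prime_card (p := 2) (by rw [← Subgroup.index]; exact hidx)
  letI : CommGroup (↥(S : Subgroup G) ⧸ M.subgroupOf (S : Subgroup G)) := IsCyclic.commGroup
  set ϕ : ↥(S : Subgroup G) →* ↥(S : Subgroup G) ⧸ M.subgroupOf (S : Subgroup G) :=
    QuotientGroup.mk' (M.subgroupOf (S : Subgroup G)) with hϕ
  have hone : ∀ y : ↥(S : Subgroup G), ϕ y = 1 ↔ (y : G) ∈ M := fun y =>
    QuotientGroup.eq_one_iff y
  have hval : ∀ (y z : ↥(S : Subgroup G)), (y : G) ∉ M → (z : G) ∉ M → ϕ y = ϕ z := by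
    intro y z hy hz
    have h2 := Subgroup.mul_mem_iff_of_index_two hidx (a := y⁻¹) (b := z)
    simp only [mem_subgroupOf, inv_mem_iff, coe_inv] at h2
    exact QuotientGroup.eq.mpr (h2.mpr (iff_of_false hy hz))
  haveI : Fintype (G ⧸ (S : Subgroup G)) := Fintype.ofFinite _
  have sq2 : ∀ a : ↥(S : Subgroup G) ⧸ M.subgroupOf (S : Subgroup G), a ^ 2 = 1 := fun a => by
    have hc : Nat.card (↥(S : Subgroup G) ⧸ M.subgroupOf (S : Subgroup G)) = 2 := hidx
    have h := orderOf_dvd_natCard a
    rw [hc] at h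
    exact orderOf_dvd_iff_pow_eq_one.mp h
  have htr : MonoidHom.transfer ϕ t = 1 := hom_trivial hG _ t
  have ht1 : ϕ 1 = 1 := map_one ϕ
  have ht2 : t ^ 2 = 1 := orderOf_dvd_iff_pow_eq_one.mp (dvd_of_eq ht)
  rw [TransferFixed.transfer_eq_prod_fixedValue (p := 2) ϕ (e := 1) (by rw [ht, pow_one]) (by
    intro g k hk h
    obtain ⟨j, rfl⟩ := hk
    have e : (⟨g⁻¹ * t ^ (2 * j) * g, h⟩ : ↥(S : Subgroup G)) = 1 :=
      Subtype.ext (by simp [pow_mul, ht2])
    rw [e, map_one])] at htr
  -- `T` acts on the cosets, preserving the values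
  have hinv : ∀ (x : T) (q : G ⧸ (S : Subgroup G)),
      TransferFixed.fixedValue ϕ t (x • q) = TransferFixed.fixedValue ϕ t q := by
    intro x q
    obtain ⟨g, rfl⟩ := QuotientGroup.mk_surjective q
    change TransferFixed.fixedValue ϕ t (((x : G) * g : G) : G ⧸ (S : Subgroup G)) = _
    have hx : ((x : G) * g)⁻¹ * t * ((x : G) * g) = g⁻¹ * t * g := by
      rw [mul_inv_rev, show g⁻¹ * (x : G)⁻¹ * t * ((x : G) * g) =
        g⁻¹ * ((x : G)⁻¹ * (t * (x : G))) * g by group, ← hTc x x.2, inv_mul_cancel_left]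
    by_cases hg : g⁻¹ * t * g ∈ (S : Subgroup G)
    · rw [TransferFixed.fixedValue_mk ϕ (hx.symm ▸ hg), TransferFixed.fixedValue_mk ϕ hg]
      congr 1
      exact Subtype.ext hx
    · rw [TransferFixed.fixedValue_of_ne, TransferFixed.fixedValue_of_ne]
      · intro h
        have := TransferFixed.mem_of_smul_eq h
        apply hg
        have h1 := QuotientGroup.eq.mp (QuotientGroup.out_eq' (g : G ⧸ (S : Subgroup G)))
        have h2 := mul_mem (mul_mem (inv_mem h1) this) h1
        convert h2 using 1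
        group
      · intro h
        apply hg
        rw [← hx]
        have h1 := QuotientGroup.eq.mp (show ((t * ((x : G) * g) : G) : G ⧸ (S : Subgroup G)) =
          (((x : G) * g : G) : G ⧸ (S : Subgroup G)) from h).symm
        simpa [mul_assoc] using h1
  rw [TransferFixed.prod_eq_prod_fixed (S := T) _ (by
    intro q hq
    rw [Finset.prod_eq_pow_card (b := TransferFixed.fixedValue ϕ t q) (fun b hb => by
      obtain ⟨x, rfl⟩ := (Finset.mem_filter.mp hb).2
      exact hinv x q)]
    have hd : 2 ∣ (Finset.univ.filter (· ∈ orbit T q)).card := by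
      obtain ⟨j, hj⟩ := hT.card_orbit q
      have hc : (Finset.univ.filter (· ∈ orbit T q)).card = Nat.card (orbit T q) := by
        rw [Nat.card_eq_fintype_card, ← Set.toFinset_card]
        congr 1
        ext; simp
      rw [hc, hj]
      rcases j.eq_zero_or_pos with rfl | hj0
      · exfalso
        apply hq
        intro x
        have : Subsingleton (orbit T q) := by
          rw [← Finite.card_le_one_iff_subsingleton, hj, pow_zero]
        exact congrArg Subtype.val
          (Subsingleton.elim (⟨x • q, ⟨x, rfl⟩⟩ : orbit T q) ⟨q, mem_orbit_self q⟩)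
      · exact dvd_pow_self 2 hj0.ne'
    obtain ⟨m, hm⟩ := hd
    rw [hm, pow_mul]
    rw [sq2, one_pow])] at htr
  -- at the fixed cosets the value is nontrivial
  obtain ⟨m₀, hm₀⟩ : ∃ y : ↥(S : Subgroup G), (y : G) ∉ M := by
    by_contra hall
    push Not at hall
    rw [index_eq_one.mpr (eq_top_iff.mpr fun y _ => hall y)] at hidx
    omega
  rw [Finset.prod_eq_pow_card (b := ϕ m₀) (fun q hq => by
    obtain ⟨g, rfl⟩ := QuotientGroup.mk_surjective q
    have hfix := (Finset.mem_filter.mp hq).2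
    have hmem : ∀ x ∈ T, g⁻¹ * x * g ∈ (S : Subgroup G) := fun x hx => by
      have h1 := QuotientGroup.eq.mp (show (((x * g : G)) : G ⧸ (S : Subgroup G)) =
        (g : G ⧸ (S : Subgroup G)) from hfix ⟨x, hx⟩).symm
      simpa [mul_assoc] using h1
    have htS : g⁻¹ * t * g ∈ (S : Subgroup G) := hmem t htT
    rw [TransferFixed.fixedValue_mk ϕ htS]
    refine hval _ _ (fun hM => ?_) hm₀
    refine absurd (hno g hM) (not_lt.mpr ?_)
    rw [← card_map_of_injective (K := T) (f := (MulAut.conj g⁻¹).toMonoidHom)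
      (MulAut.conj g⁻¹).injective]
    refine card_le_of_le ?_
    rintro _ ⟨x, hx, rfl⟩
    refine ⟨(by simpa using hmem x hx : (MulAut.conj g⁻¹).toMonoidHom x ∈ (S : Subgroup G)), mem_centralizer_singleton_iff.mpr ?_⟩
    simp only [MulEquiv.coe_toMonoidHom, MulAut.conj_apply, inv_inv]
    rw [show g⁻¹ * x * g * (g⁻¹ * t * g) = g⁻¹ * (x * t) * g by group, hTc x hx]
    group)] at htr
  have hodd : ¬ 2 ∣ (Finset.univ.filter
      (· ∈ fixedPoints T (G ⧸ (S : Subgroup G)))).card := by
    intro hd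
    refine S.not_dvd_index ((hT.card_modEq_card_fixedPoints (α := G ⧸ (S : Subgroup G))).dvd_iff
      dvd_rfl |>.mpr ?_)
    rwa [Nat.card_eq_fintype_card, ← Set.toFinset_card, show
      (fixedPoints T (G ⧸ (S : Subgroup G))).toFinset = Finset.univ.filter
        (· ∈ fixedPoints T (G ⧸ (S : Subgroup G))) by ext; simp]
  obtain ⟨m, hm⟩ := Nat.odd_iff.mpr (by omega : (Finset.univ.filter
      (· ∈ fixedPoints T (G ⧸ (S : Subgroup G)))).card % 2 = 1)
  rw [hm, pow_succ, pow_mul, show (ϕ m₀) ^ 2 = 1 from sq2 _, one_pow, one_mul] at htr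
  exact hm₀ ((hone m₀).mp htr)

end Cfsg.Agent.JTTransfer62
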