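import Mathlib

/-!
Elementary facts about a dihedral 2-subgroup, and about elements of odd order acting on it.
-/

set_option autoImplicit false

namespace Cfsg.Agent.DihedralSylow77

open DihedralGroup

variable {k : ℕ}

theorem double_eq_zero (hk : 0 < k) (a : ZMod (2 * k)) (h : a + a = 0) :
    a = 0 ∨ a = (k : ZMod (2 * k)) := by
  haveI : NeZero (2 * k) := ⟨by omega⟩
  have hv : ((a.val + a.val : ℕ) : ZMod (2 * k)) = 0 := by
    rw [Nat.cast_add, ZMod.natCast_zmod_val, h]
  rw [ZMod.natCast_eq_zero_iff] at hv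
  obtain ⟨c, hc⟩ := hv
  have hlt := ZMod.val_lt a
  have hc2 : c ≤ 1 := by
    by_contra hc'
    have : 2 * k * 2 ≤ 2 * k * c := Nat.mul_le_mul_left _ (by omega)
    omega
  rcases Nat.le_one_iff_eq_zero_or_eq_one.1 hc2 with rfl | rfl
  · left
    have : a.val = 0 := by omega
    exact (ZMod.val_eq_zero a).1 this
  · right
    have : a.val = k := by omega
    exact (ZMod.natCast_zmod_val a).symm.trans (by rw [this])

theorem k_add_k : (k : ZMod (2 * k)) + k = 0 := by
  rw [← Nat.cast_add, ← two_mul, ZMod.natCast_self]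

theorem k_ne_zero (hk : 0 < k) : (k : ZMod (2 * k)) ≠ 0 := by
  rw [Ne, ZMod.natCast_eq_zero_iff]
  intro h
  have := Nat.le_of_dvd hk h
  omega

theorem neg_k : -(k : ZMod (2 * k)) = k := by
  rw [neg_eq_iff_add_eq_zero, k_add_k]

/-- The square-trivial elements of a dihedral group. -/
theorem sq_one_cases (hk : 0 < k) (d : DihedralGroup (2 * k)) (h : d * d = 1) :
    d = 1 ∨ d = r (k : ZMod (2 * k)) ∨ ∃ i, d = sr i := by
  cases d with
  | r i =>
    rw [r_mul_r, ← r_zero, r.injEq] at h
    rcases double_eq_zero hk i h with rfl | rfl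
    · exact Or.inl r_zero
    · exact Or.inr (Or.inl rfl)
  | sr i => exact Or.inr (Or.inr ⟨i, rfl⟩)

/-- A conjugation of odd order fixing the involutions of an abelian 2-subgroup centralises it. -/
theorem centralizes_of_fix_involutions {G : Type*} [Group G] (P : Subgroup G) (hP : IsPGroup 2 P)
    (hab : ∀ x ∈ P, ∀ y ∈ P, x * y = y * x) (g : G) (hg : ∀ x ∈ P, g * x * g⁻¹ ∈ P)
    (hodd : Odd (orderOf g)) (hfix : ∀ x ∈ P, x ^ 2 = 1 → g * x * g⁻¹ = x) :
    ∀ x ∈ P, g * x * g⁻¹ = x := by
  have main : ∀ k : ℕ, ∀ x ∈ P, x ^ (2 ^ k) = 1 → g * x * g⁻¹ = x := by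
    intro k
    induction k with
    | zero =>
      intro x _ hx
      rw [pow_zero, pow_one] at hx
      simp [hx]
    | succ k ih =>
      intro x hxP hx
      have hx2 : g * x ^ 2 * g⁻¹ = x ^ 2 :=
        ih (x ^ 2) (pow_mem hxP 2) (by rw [← pow_mul, ← pow_succ']; exact hx)
      obtain ⟨y, hy⟩ : ∃ y, y = g * x * g⁻¹ * x⁻¹ := ⟨_, rfl⟩
      have hyP : y ∈ P := hy ▸ P.mul_mem (hg x hxP) (P.inv_mem hxP)
      have hy2 : y ^ 2 = 1 := by
        have hc : Commute (g * x * g⁻¹) x⁻¹ := hab _ (hg x hxP) _ (P.inv_mem hxP)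
        rw [hy, hc.mul_pow, conj_pow, hx2, inv_pow, mul_inv_cancel]
      have hgy : g * y * g⁻¹ = y := hfix y hyP hy2
      have hiter : ∀ n : ℕ, g ^ n * x * (g ^ n)⁻¹ = y ^ n * x := by
        intro n
        induction n with
        | zero => simp
        | succ n ihn =>
          have h1 : g ^ (n + 1) * x * (g ^ (n + 1))⁻¹ = g * (g ^ n * x * (g ^ n)⁻¹) * g⁻¹ := by
            rw [pow_succ']; group
          have h2 : g * (y ^ n * x) * g⁻¹ = (g * y * g⁻¹) ^ n * (g * x * g⁻¹) := by
            rw [conj_pow]; group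
          rw [h1, ihn, h2, hgy, pow_succ, hy]
          group
      have h := hiter (orderOf g)
      rw [pow_orderOf_eq_one, one_mul, inv_one, mul_one] at h
      have hyn : y ^ orderOf g = 1 := mul_eq_right.1 h.symm
      obtain ⟨r, hr⟩ := hodd
      rw [hr, pow_succ, pow_mul, hy2, one_pow, one_mul] at hyn
      rw [hy] at hyn
      exact mul_inv_eq_one.1 hyn
  intro x hx
  obtain ⟨k, hk⟩ := hP ⟨x, hx⟩
  exact main k x hx (congrArg Subtype.val hk)

/-- An element of odd order whose square fixes `x` fixes `x`. -/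
theorem fix_of_sq_fix {G : Type*} [Group G] {g x : G} (hodd : Odd (orderOf g))
    (h : Commute (g ^ 2) x) : Commute g x := by
  obtain ⟨r, hr⟩ := hodd
  have : g = (g ^ 2) ^ (r + 1) := by
    rw [← pow_mul, show 2 * (r + 1) = orderOf g + 1 by omega, pow_succ, pow_orderOf_eq_one, one_mul]
  rw [this]
  exact h.pow_left _

section Dihedral

variable {X : Type*} [Group X] (ψ : DihedralGroup (2 * k) →* X)

/-- The four-group attached to a reflection. -/
def four (_hψ : Function.Injective ψ) (i : ZMod (2 * k)) : Subgroup X :=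
  (Subgroup.closure ({r (k : ZMod (2 * k)), sr i} : Set (DihedralGroup (2 * k)))).map ψ

theorem mem_four {hψ : Function.Injective ψ} {i : ZMod (2 * k)} {x : X} :
    x ∈ four ψ hψ i ↔
      x = 1 ∨ x = ψ (r k) ∨ x = ψ (sr i) ∨ x = ψ (sr (i + (k : ZMod (2 * k)))) := by
  let V : Subgroup (DihedralGroup (2 * k)) :=
    { carrier := {1, r (k : ZMod (2 * k)), sr i, sr (i + (k : ZMod (2 * k)))}
      mul_mem' := by
        have h2 : (i + k - i : ZMod (2 * k)) = k := by ring
        have h3 : (i - (i + k) : ZMod (2 * k)) = k := by rw [sub_add_cancel_left, neg_k]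
        have h4 : (i + k + k : ZMod (2 * k)) = i := by rw [add_assoc, k_add_k, add_zero]
        have h5 : (i - k : ZMod (2 * k)) = i + k := by rw [sub_eq_add_neg, neg_k]
        have h6 : (i + k - k : ZMod (2 * k)) = i := by ring
        intro a b ha hb
        simp only [Set.mem_insert_iff, Set.mem_singleton_iff] at ha hb ⊢
        rcases ha with rfl | rfl | rfl | rfl <;> rcases hb with rfl | rfl | rfl | rfl <;>
          simp [r_mul_r, r_mul_sr, sr_mul_r, sr_mul_sr, k_add_k, h2, h3, h4, h5, h6, -r_zero,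
            one_def]
      one_mem' := by simp
      inv_mem' := by
        intro a ha
        simp only [Set.mem_insert_iff, Set.mem_singleton_iff] at ha ⊢
        rcases ha with rfl | rfl | rfl | rfl <;> simp [neg_k] }
  have hV : Subgroup.closure ({r (k : ZMod (2 * k)), sr i} : Set (DihedralGroup (2 * k))) = V := by
    apply le_antisymm
    · rw [Subgroup.closure_le]
      intro a ha
      simp only [Set.mem_insert_iff, Set.mem_singleton_iff] at ha
      rcases ha with rfl | rfl
      · exact Or.inr (Or.inl rfl)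
      · exact Or.inr (Or.inr (Or.inl rfl))
    · intro a ha
      have h1 : r (k : ZMod (2 * k)) ∈ Subgroup.closure ({r (k : ZMod (2 * k)), sr i} : Set _) :=
        Subgroup.subset_closure (by simp)
      have h2 : sr i ∈ Subgroup.closure ({r (k : ZMod (2 * k)), sr i} : Set _) :=
        Subgroup.subset_closure (by simp)
      rcases ha with rfl | rfl | rfl | rfl
      · exact one_mem _
      · exact h1
      · exact h2
      · rw [← sr_mul_r]; exact mul_mem h2 h1
  rw [four, hV, Subgroup.mem_map]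
  constructor
  · rintro ⟨a, ha, rfl⟩
    rcases ha with rfl | rfl | rfl | rfl
    · exact Or.inl (map_one ψ)
    · exact Or.inr (Or.inl rfl)
    · exact Or.inr (Or.inr (Or.inl rfl))
    · exact Or.inr (Or.inr (Or.inr rfl))
  · rintro (rfl | rfl | rfl | rfl)
    · exact ⟨1, Or.inl rfl, map_one ψ⟩
    · exact ⟨_, Or.inr (Or.inl rfl), rfl⟩
    · exact ⟨_, Or.inr (Or.inr (Or.inl rfl)), rfl⟩
    · exact ⟨_, Or.inr (Or.inr (Or.inr rfl)), rfl⟩

theorem isKleinFour_four (hk : 0 < k) (hψ : Function.Injective ψ) (i : ZMod (2 * k)) :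
    IsKleinFour (four ψ hψ i) := by
  have hne := k_ne_zero hk
  have hd1 : r (k : ZMod (2 * k)) ≠ 1 := by rw [one_def]; simp [hne, -r_zero]
  have hd2 : sr (i + (k : ZMod (2 * k))) ≠ sr i := by simpa using hne
  have hset : (four ψ hψ i : Set X) =
      ψ '' {1, r (k : ZMod (2 * k)), sr i, sr (i + (k : ZMod (2 * k)))} := by
    ext x
    rw [SetLike.mem_coe, mem_four]
    simp [Set.image_insert_eq, map_one]
  have h4 : Nat.card (four ψ hψ i) = 4 := by
    change Nat.card ((four ψ hψ i : Set X) : Type _) = 4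
    rw [hset, Nat.card_image_of_injective hψ, Nat.card_coe_set_eq]
    rw [Set.ncard_insert_of_notMem, Set.ncard_insert_of_notMem, Set.ncard_pair hd2.symm]
    · simp
    · simp [one_def, Ne.symm hne, -r_zero]
  refine ⟨h4, ?_⟩
  haveI : Finite (four ψ hψ i) := Nat.finite_of_card_ne_zero (by rw [h4]; norm_num)
  haveI : Nontrivial (four ψ hψ i) := Finite.one_lt_card_iff_nontrivial.1 (by rw [h4]; norm_num)
  rw [Monoid.exponent_eq_prime_iff Nat.prime_two]
  intro x hx
  apply orderOf_eq_prime
  · apply Subtype.ext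
    have := (mem_four ψ).1 x.2
    rw [Subgroup.coe_pow, Subgroup.coe_one, pow_two]
    rcases this with h | h | h | h <;> rw [h]
    · exact one_mul 1
    · rw [← map_mul, r_mul_r, k_add_k, r_zero, map_one]
    · rw [← map_mul, sr_mul_self, map_one]
    · rw [← map_mul, sr_mul_self, map_one]
  · exact hx

/-- A dihedral Sylow `2`-subgroup as an embedding of `DihedralGroup (2 * k)`. -/
theorem exists_embedding [Finite X] (S : Sylow 2 X) (m : ℕ) (hm : 2 ≤ m)
    (eS : (S : Subgroup X) ≃* DihedralGroup m) :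
    ∃ k : ℕ, 0 < k ∧ ∃ ψ : DihedralGroup (2 * k) →* X,
      Function.Injective ψ ∧ ψ.range = (S : Subgroup X) := by
  obtain ⟨j, hj⟩ := S.isPGroup'.exists_card_eq
  rw [Nat.card_congr eS.toEquiv, DihedralGroup.nat_card] at hj
  obtain ⟨j', rfl⟩ : ∃ j', j = j' + 2 := by
    refine ⟨j - 2, ?_⟩
    by_contra hne
    have : 2 ^ j ≤ 2 ^ 1 := Nat.pow_le_pow_right (by norm_num) (by omega)
    omega
  have hm' : m = 2 * 2 ^ j' := by
    rw [show 2 ^ (j' + 2) = 2 * (2 * 2 ^ j') by ring] at hj
    omega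
  subst hm'
  refine ⟨2 ^ j', by positivity, (S : Subgroup X).subtype.comp eS.symm.toMonoidHom,
    Subtype.val_injective.comp eS.symm.injective, ?_⟩
  rw [MonoidHom.range_comp, MonoidHom.range_eq_top.2 eS.symm.surjective,
    ← MonoidHom.range_eq_map, Subgroup.range_subtype]

/-- The square-trivial elements in the image. -/
theorem map_sq_one_cases (hk : 0 < k) (hψ : Function.Injective ψ) {x : X} (hx : x ∈ ψ.range)
    (h : x * x = 1) : x = 1 ∨ x = ψ (r (k : ZMod (2 * k))) ∨ ∃ i, x = ψ (sr i) := by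
  obtain ⟨d, rfl⟩ := hx
  rw [← map_mul, ← map_one ψ] at h
  rcases sq_one_cases hk d (hψ h) with rfl | rfl | ⟨i, rfl⟩
  · exact Or.inl (map_one ψ)
  · exact Or.inr (Or.inl rfl)
  · exact Or.inr (Or.inr ⟨i, rfl⟩)

theorem orderOf_z (hk : 0 < k) (hψ : Function.Injective ψ) :
    orderOf (ψ (r (k : ZMod (2 * k)))) = 2 := by
  rw [orderOf_injective ψ hψ]
  apply orderOf_eq_prime
  · rw [pow_two, r_mul_r, k_add_k, r_zero]
  · rw [one_def]; simp [k_ne_zero hk, -r_zero]

theorem orderOf_sr' (hψ : Function.Injective ψ) (i : ZMod (2 * k)) :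
    orderOf (ψ (sr i)) = 2 := by
  rw [orderOf_injective ψ hψ, orderOf_sr]

/-- An element of odd order normalising but not centralising a four-group fuses its involutions. -/
theorem isConj_of_not_centralized (hk : 0 < k) (hψ : Function.Injective ψ) (i : ZMod (2 * k)) {g : X}
    (hodd : Odd (orderOf g)) (hg : g ∈ Subgroup.normalizer (four ψ hψ i : Set X))
    (hgc : g ∉ Subgroup.centralizer (four ψ hψ i : Set X)) :
    IsConj (ψ (sr i)) (ψ (r (k : ZMod (2 * k)))) := by
  set a := ψ (r (k : ZMod (2 * k))) with ha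
  set b := ψ (sr i) with hb
  set c := ψ (sr (i + (k : ZMod (2 * k)))) with hc
  have hab : a * b = c := by
    rw [ha, hb, hc, ← map_mul, r_mul_sr, sub_eq_add_neg, neg_k]
  have ha1 : a ≠ 1 := by
    rw [ha, ← map_one ψ]
    intro h
    have h' := hψ h
    rw [one_def] at h'
    simp only [r.injEq] at h'
    exact k_ne_zero hk h'
  have memU : ∀ x, x ∈ four ψ hψ i ↔ x = 1 ∨ x = a ∨ x = b ∨ x = c := fun x => mem_four ψ
  have img : ∀ x ∈ four ψ hψ i, g * x * g⁻¹ ∈ four ψ hψ i :=
    fun x hx => (Subgroup.mem_normalizer_iff.1 hg x).1 hx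
  have back : ∀ x : X, g ^ 2 * x * (g ^ 2)⁻¹ = x → g * x * g⁻¹ = x := by
    intro x hx
    have h2 : Commute (g ^ 2) x := by
      rw [commute_iff_eq]
      calc g ^ 2 * x = g ^ 2 * x * (g ^ 2)⁻¹ * g ^ 2 := by group
        _ = x * g ^ 2 := by rw [hx]
    rw [(fix_of_sq_fix hodd h2).eq]; group
  have hga : g * a * g⁻¹ ≠ a := by
    intro hga
    apply hgc
    have hgb : g * b * g⁻¹ = b := by
      rcases (memU _).1 (img b ((memU b).2 (Or.inr (Or.inr (Or.inl rfl))))) with h | h | h | h
      · rw [conj_eq_one_iff] at h; rw [h]; simp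
      · have : g * b * g⁻¹ = g * a * g⁻¹ := h.trans hga.symm
        rw [mul_left_inj, mul_right_inj] at this
        rw [this]; exact hga
      · exact h
      · apply back
        calc g ^ 2 * b * (g ^ 2)⁻¹ = g * (g * b * g⁻¹) * g⁻¹ := by rw [pow_two]; group
          _ = g * a * g⁻¹ * (g * b * g⁻¹) := by
            conv_lhs => rw [h, ← hab]
            group
          _ = a * (a * b) := by rw [hga, h, hab]
          _ = b := by
            rw [← mul_assoc, ha, ← map_mul, r_mul_r, k_add_k, r_zero, map_one, one_mul]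
    rw [Subgroup.mem_centralizer_iff]
    intro x hx
    have : g * x * g⁻¹ = x := by
      rcases (memU x).1 hx with rfl | rfl | rfl | rfl
      · simp
      · exact hga
      · exact hgb
      · calc g * c * g⁻¹ = (g * a * g⁻¹) * (g * b * g⁻¹) := by rw [← hab]; group
          _ = c := by rw [hga, hgb, hab]
    calc x * g = g * x * g⁻¹ * g := by rw [this]
      _ = g * x := by group
  rcases (memU _).1 (img a ((memU a).2 (Or.inr (Or.inl rfl)))) with h | h | h | h
  · rw [conj_eq_one_iff] at h; exact absurd h ha1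
  · exact absurd h hga
  · exact (isConj_iff.2 ⟨g, h⟩).symm
  · rcases (memU _).1 (img c ((memU c).2 (Or.inr (Or.inr (Or.inr rfl))))) with h' | h' | h' | h'
    · rw [conj_eq_one_iff] at h'
      rw [h', conj_eq_one_iff] at h
      exact absurd h ha1
    · exfalso
      apply hga
      apply back
      calc g ^ 2 * a * (g ^ 2)⁻¹ = g * (g * a * g⁻¹) * g⁻¹ := by rw [pow_two]; group
        _ = a := by rw [h, h']
    · exact ((isConj_iff.2 ⟨g, h⟩).trans (isConj_iff.2 ⟨g, h'⟩)).symm
    · exfalso
      have : g * c * g⁻¹ = g * a * g⁻¹ := h'.trans h.symm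
      rw [mul_left_inj, mul_right_inj] at this
      exact hga (h.trans this)

end Dihedral

end Cfsg.Agent.DihedralSylow77
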