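import Mathlib
import Cfsg.Agent.Lib.CIT21Defs
import Cfsg.Agent.Lib.SmallGroupBasic
import Cfsg.Agent.Lib.TransferThompson
import Cfsg.Agent.Lib.DicksonTorus
import Cfsg.Agent.Lib.JTTransfer62
import Cfsg.Agent.S0112
import Cfsg.Agent.S0113
import Cfsg.Agent.Lib.ExtTwoLayer
import Cfsg.Agent.S0508

/-!
# The dihedral case of Suzuki's CIT theorem, and the fields of the CIT groups `PSL₂(F)`
-/

set_option autoImplicit false
set_option linter.unusedSectionVars false

namespace Cfsg.Agent.CIT21Dihedral

open Cfsg.Agent.CIT21 Subgroup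

section Arith

/-- If `|x ^ m - 1|` is a power of two with `m` odd, then it is `|x - 1|`. -/
theorem natAbs_pow_sub_one {x : ℤ} {m k : ℕ} (hm : Odd m) (hx : Odd x)
    (h : (x ^ m - 1).natAbs = 2 ^ k) : (x ^ m - 1).natAbs = (x - 1).natAbs := by
  set c : ℤ := ∑ i ∈ Finset.range m, x ^ i with hc
  have hmul : c * (x - 1) = x ^ m - 1 := geom_sum_mul x m
  have hcodd : Odd c := by
    have h2 : (c : ZMod 2) = 1 := by
      rw [hc, Int.cast_sum]
      have hx1 : (x : ZMod 2) = 1 := by
        obtain ⟨a, rfl⟩ := hx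
        push_cast
        rw [show (2 : ZMod 2) = 0 from rfl, zero_mul, zero_add]
      simp only [Int.cast_pow, hx1, one_pow, Finset.sum_const, Finset.card_range, nsmul_eq_mul,
        mul_one]
      exact ZMod.natCast_eq_one_iff_odd.2 hm
    rcases Int.even_or_odd c with ⟨a, ha⟩ | ho
    · exfalso
      rw [ha] at h2
      push_cast at h2
      rw [CharTwo.add_self_eq_zero] at h2
      exact zero_ne_one h2
    · exact ho
  have hdvd : c.natAbs ∣ 2 ^ k := h ▸ Int.natAbs_dvd_natAbs.2 ⟨_, hmul.symm⟩
  have hc1 : c.natAbs = 1 := by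
    obtain ⟨j, -, hj⟩ := (Nat.dvd_prime_pow Nat.prime_two).1 hdvd
    rcases j with _ | j
    · simpa using hj
    · exfalso
      have : Odd c.natAbs := Int.natAbs_odd.2 hcodd
      rw [hj] at this
      exact (Nat.not_odd_iff_even.2 ((Nat.even_pow).2 ⟨even_two, j.succ_ne_zero⟩)) this
  rw [← hmul, Int.natAbs_mul, hc1, one_mul]

/-- A prime power next to a power of two is a prime or `9`. -/
theorem prime_or_nine {q p m k : ℕ} (hp : p.Prime) (hp2 : p ≠ 2) (hq : q = p ^ m) (hm : 0 < m)
    (h : q = 2 ^ k + 1 ∨ q + 1 = 2 ^ k) : q.Prime ∨ q = 9 := by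
  have hp3 : 3 ≤ p := by have := hp.two_le; omega
  have hodd : Odd p := hp.odd_of_ne_two hp2
  rcases Nat.even_or_odd m with ⟨r, hr⟩ | hmo
  · right
    have hq2 : q = p ^ r * p ^ r := by rw [hq, hr, pow_add]
    obtain ⟨a, ha⟩ : Odd (p ^ r) := hodd.pow
    have hx3 : 3 ≤ p ^ r := le_trans hp3 (Nat.le_self_pow (by omega) p)
    rcases h with h | h
    · have e : (2 * a) * (2 * a + 2) = 2 ^ k := by
        have := hq2 ▸ h
        rw [ha] at this
        have e2 : (2 * a + 1) * (2 * a + 1) = (2 * a) * (2 * a + 2) + 1 := by ring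
        omega
      obtain ⟨i, -, hi⟩ := (Nat.dvd_prime_pow Nat.prime_two).1 (Dvd.intro _ e)
      obtain ⟨j, -, hj⟩ := (Nat.dvd_prime_pow Nat.prime_two).1 (Dvd.intro_left _ e)
      have hij : i < j := (Nat.pow_lt_pow_iff_right (one_lt_two)).1 (by omega)
      have hd : 2 ^ i ∣ 2 := by
        have h1 : 2 ^ i ∣ 2 ^ j := pow_dvd_pow 2 hij.le
        have h2 : 2 ^ j - 2 ^ i = 2 := by omega
        have h3 := Nat.dvd_sub h1 (dvd_refl (2 ^ i))
        rwa [h2] at h3
      have := Nat.le_of_dvd two_pos hd
      have ha1 : a = 1 := by omega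
      rw [hq2, ha, ha1]
      norm_num
    · exfalso
      have h9 : 9 ≤ q := hq2 ▸ Nat.mul_le_mul hx3 hx3
      rcases k with _ | _ | k
      · omega
      · omega
      · rw [hq2, ha] at h
        have e2 : (2 * a + 1) * (2 * a + 1) + 1 = 4 * (a * a + a) + 2 := by ring
        have e3 : 2 ^ (k + 1 + 1) = 4 * 2 ^ k := by ring
        omega
  · left
    obtain rfl : m = 1 := by
      by_contra hm1
      have hlt : p < p ^ m := by
        calc p = p ^ 1 := (pow_one p).symm
          _ < p ^ m := Nat.pow_lt_pow_right (by omega) (by omega)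
      rcases h with h | h
      · have h1 := natAbs_pow_sub_one (x := (p : ℤ)) (k := k) hmo (by exact_mod_cast hodd)
          (by have : ((p : ℤ) ^ m) = (q : ℤ) := by rw [hq]; push_cast; rfl
              rw [this]; omega)
        have : ((p : ℤ) ^ m) = ((p ^ m : ℕ) : ℤ) := by push_cast; rfl
        omega
      · have h1 := natAbs_pow_sub_one (x := -(p : ℤ)) (k := k) hmo (by
            rw [odd_neg]; exact_mod_cast hodd)
          (by have : (-(p : ℤ)) ^ m = -(q : ℤ) := by rw [hmo.neg_pow, hq]; push_cast; rfl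
              rw [this]; omega)
        have : (-(p : ℤ)) ^ m = -((p ^ m : ℕ) : ℤ) := by rw [hmo.neg_pow]; push_cast; rfl
        omega
    rw [hq, pow_one]
    exact hp

end Arith

variable {G : Type*} [Group G] [Finite G]

/-- In a CIT group an element commuting with an involution is a `2`-element. -/
theorem orderOf_two_pow_of_even (hC : IsCIT G) {g : G} (h : 2 ∣ orderOf g) :
    ∃ k, orderOf g = 2 ^ k := by
  haveI : Fact (Nat.Prime 2) := ⟨Nat.prime_two⟩
  have ht : orderOf (g ^ (orderOf g / 2)) = 2 := orderOf_pow_orderOf_div (orderOf_pos g).ne' h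
  have hmem : g ∈ centralizer ({g ^ (orderOf g / 2)} : Set G) := by
    rw [mem_centralizer_singleton_iff]
    exact ((Commute.refl g).pow_right _).eq
  obtain ⟨k, hk⟩ := hC _ ht ⟨g, hmem⟩
  obtain ⟨j, -, hj⟩ := (Nat.dvd_prime_pow Nat.prime_two).1
    (orderOf_dvd_of_pow_eq_one hk)
  exact ⟨j, by rw [← Subgroup.orderOf_mk g hmem]; exact hj⟩

/-- The fields `F` with `PSL₂(F)` a CIT group. -/
theorem fieldSpec : FieldSpec G := by
  intro hC _ F _ _ ⟨e⟩
  obtain ⟨p, hchar, n, hp, hn⟩ := FiniteField.card' F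
  haveI : Fact p.Prime := ⟨hp⟩
  rcases eq_or_ne p 2 with rfl | hp2
  · exact Or.inr (Or.inl ⟨n, hn⟩)
  obtain ⟨a, ha⟩ : Odd (Fintype.card F) := hn ▸ (hp.odd_of_ne_two hp2).pow
  rcases le_or_gt (Fintype.card F) 3 with h3 | h3
  · have := Fintype.one_lt_card (α := F)
    have hq : Fintype.card F = 3 := by omega
    exact Or.inr (Or.inr ⟨hq ▸ Nat.prime_three, 1, Or.inl hq⟩)
  have key : ∀ N, (N = Nat.card F - 1 ∨ N = Nat.card F + 1) → 4 ∣ N → ∃ k, N = 2 ^ k := by
    intro N hN h4
    rw [Nat.card_eq_fintype_card] at hN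
    obtain ⟨g, _, hg, -⟩ := DicksonTorus.exists_torus (F := F) p (N := N)
      (by rwa [Nat.card_eq_fintype_card]) (by omega)
    have hdd : DicksonPSL.dd F = 2 := by
      rw [DicksonPSL.dd, Nat.card_eq_fintype_card]
      exact Nat.gcd_eq_left (by omega)
    rw [hdd, ← e.symm.orderOf_eq] at hg
    obtain ⟨k, hk⟩ := orderOf_two_pow_of_even hC (g := e.symm g) (by rw [hg]; omega)
    refine ⟨k + 1, ?_⟩
    rw [pow_succ, ← hk, hg]
    omega
  have hpow : ∃ k, Fintype.card F = 2 ^ k + 1 ∨ Fintype.card F + 1 = 2 ^ k := by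
    rcases Nat.even_or_odd a with ⟨b, hb⟩ | ⟨b, hb⟩
    · obtain ⟨k, hk⟩ := key (Fintype.card F - 1) (by rw [Nat.card_eq_fintype_card]; exact Or.inl rfl)
        (by omega)
      exact ⟨k, Or.inl (by omega)⟩
    · obtain ⟨k, hk⟩ := key (Fintype.card F + 1) (by rw [Nat.card_eq_fintype_card]; exact Or.inr rfl)
        (by omega)
      exact ⟨k, Or.inr hk⟩
  obtain ⟨k, hk⟩ := hpow
  rcases prime_or_nine hp hp2 hn n.pos hk with h | h
  · exact Or.inr (Or.inr ⟨h, k, hk⟩)
  · exact Or.inl h

/-- A cyclic normal subgroup of index two and an element outside centralising only its involution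
give a dihedral group or the semidihedral relation. -/
theorem frame {S : Type*} [Group S] [Finite S] {C : Subgroup S} (hC : IsCyclic C)
    (hidx : C.index = 2) {V : Subgroup S} (hV : Nat.card V = 4) (hV2 : ∀ u ∈ V, u * u = 1)
    (hcent : centralizer (V : Set S) = V) (hV' : ∀ u ∈ V, ∀ u' ∈ V, u * u' = u' * u) :
    ∃ a v z : S, zpowers a = C ∧ v ∉ C ∧ v * v = 1 ∧ orderOf z = 2 ∧ z ∈ C ∧ z ∈ V ∧
      (∀ s, s * z = z * s) ∧ (∀ x ∈ C, x * x = 1 → x = 1 ∨ x = z) ∧
      (v * a * v = a⁻¹ ∨ v * a * v = a⁻¹ * z) := by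
  haveI : Fact (Nat.Prime 2) := ⟨Nat.prime_two⟩
  obtain ⟨⟨a, ha⟩, hgen⟩ := IsCyclic.exists_generator (α := C)
  have hza : zpowers a = C := by
    refine le_antisymm (zpowers_le.2 ha) fun x hx => ?_
    obtain ⟨i, hi⟩ := mem_zpowers_iff.1 (hgen ⟨x, hx⟩)
    exact mem_zpowers_iff.2 ⟨i, by simpa using congrArg Subtype.val hi⟩
  haveI hn : C.Normal := Subgroup.normal_of_index_eq_two hidx
  have hcyc : ∀ x ∈ C, ∀ y ∈ C, x * y = y * x := by
    intro x hx y hy
    rw [← hza] at hx hy
    obtain ⟨i, rfl⟩ := mem_zpowers_iff.1 hx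
    obtain ⟨j, rfl⟩ := mem_zpowers_iff.1 hy
    exact ((Commute.refl a).zpow_zpow i j).eq
  -- an element of `V` outside `C`
  obtain ⟨v, hvV, hvC⟩ : ∃ v ∈ V, v ∉ C := by
    by_contra hcon
    push Not at hcon
    haveI : IsCyclic V := Subgroup.isCyclic_of_le hcon
    obtain ⟨g, hg⟩ := IsCyclic.exists_generator (α := V)
    have h1 : orderOf g = 4 := (orderOf_eq_card_of_forall_mem_zpowers hg).trans hV
    have h2 : g * g = 1 := Subtype.ext (hV2 g g.2)
    have := orderOf_dvd_of_pow_eq_one (x := g) (n := 2) (by rw [pow_two]; exact h2)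
    rw [h1] at this
    omega
  -- `V ∩ C` has order two
  obtain ⟨z, hzV, hzC, hz1⟩ : ∃ z ∈ V, z ∈ C ∧ z ≠ 1 := by
    by_contra hcon
    push Not at hcon
    have hsub : ∀ u ∈ V, u = 1 ∨ u = v := by
      intro u hu
      by_cases huC : u ∈ C
      · exact Or.inl (hcon u hu huC)
      · right
        have h := hcon (u * v) (mul_mem hu hvV)
          ((Subgroup.mul_mem_iff_of_index_two hidx).2 ⟨fun h => absurd h huC, fun h => absurd h hvC⟩)
        exact (mul_eq_one_iff_eq_inv.1 h).trans (inv_eq_of_mul_eq_one_right (hV2 v hvV))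
    classical
    have hle : Nat.card V ≤ 2 := by
      refine le_trans (Nat.card_le_card_of_surjective
        (fun i : Fin 2 => if i = 0 then (1 : V) else ⟨v, hvV⟩) fun u => ?_) (by simp)
      rcases hsub u u.2 with h | h
      · exact ⟨0, Subtype.ext h.symm⟩
      · exact ⟨1, Subtype.ext h.symm⟩
    omega
  have hzo : orderOf z = 2 := orderOf_eq_prime (by rw [pow_two]; exact hV2 z hzV) hz1
  -- the involution of `C` is unique
  have huniq : ∀ x ∈ C, x * x = 1 → x = 1 ∨ x = z := by
    intro x hx hxx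
    by_contra hcon
    push Not at hcon
    have hxo : orderOf x = 2 := orderOf_eq_prime (by rw [pow_two]; exact hxx) hcon.1
    haveI := hC
    have h4 : Nat.card {u : C // u ^ 2 = 1} ≤ 2 := by
      classical
      haveI := Fintype.ofFinite C
      rw [Nat.card_eq_fintype_card, Fintype.card_subtype]
      exact IsCyclic.card_pow_eq_one_le two_pos
    have h3 : 3 ≤ Nat.card {u : C // u ^ 2 = 1} := by
      refine le_trans (by simp) (Nat.card_le_card_of_injective
        (![⟨1, one_pow 2⟩, ⟨⟨x, hx⟩, by rw [pow_two]; exact Subtype.ext hxx⟩,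
          ⟨⟨z, hzC⟩, by rw [pow_two]; exact Subtype.ext (hV2 z hzV)⟩] :
            Fin 3 → {u : C // u ^ 2 = 1}) ?_)
      intro i j
      fin_cases i <;> fin_cases j <;>
        simp [Subtype.ext_iff, hcon.1, hcon.2, hz1, Ne.symm hcon.1, Ne.symm hcon.2, Ne.symm hz1]
    omega
  have hzc : ∀ s, s * z = z * s := by
    intro s
    rcases huniq (s * z * s⁻¹) (hn.conj_mem z hzC s) (by
        rw [show s * z * s⁻¹ * (s * z * s⁻¹) = s * (z * z) * s⁻¹ by group, hV2 z hzV]; group) with h | h
    · exact absurd (conj_eq_one_iff.1 h) hz1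
    · exact mul_inv_eq_iff_eq_mul.1 h
  have hvv := hV2 v hvV
  have hvinv : v⁻¹ = v := inv_eq_of_mul_eq_one_right hvv
  -- `a * (v a v)` is fixed by `v`
  have hav : v * a * v ∈ C := by
    have := hn.conj_mem a ha v
    rwa [hvinv] at this
  have hw : ∀ x ∈ C, x * v = v * x → x = 1 ∨ x = z := by
    intro x hx hxv
    have hxc : x ∈ centralizer (V : Set S) := by
      rw [mem_centralizer_iff]
      intro u hu
      by_cases huC : u ∈ C
      · exact hcyc u huC x hx
      · have huv : u * v ∈ C := (Subgroup.mul_mem_iff_of_index_two hidx).2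
          ⟨fun h => absurd h huC, fun h => absurd h hvC⟩
        have e : u = (u * v) * v := by rw [mul_assoc, hvv, mul_one]
        rw [e]
        calc u * v * v * x = u * v * (v * x) := by group
          _ = u * v * (x * v) := by rw [hxv]
          _ = u * v * x * v := by group
          _ = x * (u * v) * v := by rw [hcyc _ huv x hx]
          _ = x * (u * v * v) := by group
    exact huniq x hx (hV2 x (hcent ▸ hxc))
  refine ⟨a, v, z, hza, hvC, hvv, hzo, hzC, hzV, hzc, huniq, ?_⟩
  rcases hw (a * (v * a * v)) (mul_mem ha hav) (by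
      have e1 : v * (a * (v * a * v)) * v = (v * a * v) * a := by
        calc v * (a * (v * a * v)) * v = v * a * v * a * (v * v) := by group
          _ = _ := by rw [hvv]; group
      rw [hcyc _ hav a ha] at e1
      calc a * (v * a * v) * v = v * (v * (a * (v * a * v)) * v) := by
            rw [← mul_assoc v, ← mul_assoc v v, hvv, one_mul]
        _ = _ := by rw [e1]) with h | h
  · exact Or.inl (eq_inv_of_mul_eq_one_right h)
  · exact Or.inr (eq_inv_mul_iff_mul_eq.2 h)

/-- The dihedral case. -/
theorem dihedralSpec : DihedralSpec G := by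
  intro hCIT _ ⟨N, V, hE⟩
  haveI : Fact (Nat.Prime 2) := ⟨Nat.prime_two⟩
  have hN := hE.sl2
  have hV4 : Nat.card V = 4 := hN.card_U
  have hG : ¬ IsMulCommutative G := by
    intro hc
    have h1 : centralizer (V : Set G) = ⊤ := by
      rw [eq_top_iff]
      intro x _
      rw [mem_centralizer_iff]
      intro u _
      exact hc.is_comm.comm u x
    have h2 : N ≤ V := le_of_le_of_eq le_top (h1.symm.trans hE.cent_V)
    have h3 := Nat.card_mono (Set.toFinite _) (SetLike.coe_subset_coe.2 h2)
    simp only [SetLike.coe_sort_coe] at h3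
    rw [hN.card_N, hV4] at h3
    omega
  obtain ⟨R, hR, -⟩ := hN.exists_syl V hN.D_le hN.pGroup_D
  obtain ⟨hRN, hR2, hRc⟩ := hR
  have hVR : V ≤ R := hN.syl_ge R ⟨hRN, hR2, hRc⟩
  obtain ⟨S, hRS⟩ := hR2.exists_le_sylow
  have hVS : V ≤ (S : Subgroup G) := hVR.trans hRS
  obtain ⟨n, hn⟩ := S.isPGroup'.exists_card_eq
  have hn3 : 3 ≤ n := by
    have h := Subgroup.card_dvd_of_le hRS
    rw [hRc, hV4, hn] at h
    exact (Nat.pow_dvd_pow_iff_le_right (x := 2) one_lt_two).1 h
  let V' : Subgroup ↥(S : Subgroup G) := V.subgroupOf (S : Subgroup G)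
  have hV'4 : Nat.card V' = 4 := (Nat.card_congr (subgroupOfEquivOfLe hVS).toEquiv).trans hV4
  have hcent : centralizer (V' : Set ↥(S : Subgroup G)) = V' := by
    ext x
    constructor
    · intro hx
      show (x : G) ∈ V
      rw [← hE.cent_V, mem_centralizer_iff]
      intro u hu
      exact congrArg Subtype.val (mem_centralizer_iff.1 hx ⟨u, hVS hu⟩ hu)
    · intro hx
      rw [mem_centralizer_iff]
      exact fun u hu => Subtype.ext (hN.comm_U _ hu _ hx)
  have hclass := Cfsg.Agent.S0112.result n hn V' (by rw [hV'4]; norm_num) hcent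
  obtain ⟨C, hC, hidx⟩ := Cfsg.Agent.S0113.result n hn3 hn hclass
  obtain ⟨a, v, z, hza, hvC, hvv, hzo, hzC, hzV, hzc, huniq, hrel⟩ := frame hC hidx hV'4
    (fun u hu => Subtype.ext (hN.sq_U _ hu)) hcent
    (fun u hu u' hu' => Subtype.ext (hN.comm_U _ hu _ hu'))
  have hao : Nat.card C = orderOf a := by rw [← hza, Nat.card_zpowers]
  have hcS : Nat.card ↥(S : Subgroup G) = 2 * orderOf a := by
    have := Subgroup.card_mul_index C
    rw [hidx, hao] at this
    omega
  have hao4 : 4 ∣ orderOf a := by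
    obtain ⟨j, rfl⟩ : ∃ j, n = j + 3 := ⟨n - 3, by omega⟩
    rw [hn] at hcS
    exact ⟨2 ^ j, by ring_nf at hcS ⊢; omega⟩
  -- the centre involution and its centraliser
  have hzz : z * z = 1 := by
    have := pow_orderOf_eq_one z
    rwa [hzo, pow_two] at this
  have hzG : orderOf ((z : ↥(S : Subgroup G)) : G) = 2 := by rw [orderOf_coe]; exact hzo
  have hzCent : centralizer ({(z : G)} : Set G) = (S : Subgroup G) := by
    refine S.3 (hCIT _ hzG) fun s hs => ?_
    rw [mem_centralizer_singleton_iff]
    exact congrArg Subtype.val (hzc ⟨s, hs⟩)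
  rcases hrel with hdi | hsd
  · -- dihedral
    have : NeZero (orderOf a) := ⟨(orderOf_pos a).ne'⟩
    obtain ⟨eD⟩ := SmallGroupBasic.nonempty_dihedral_equiv hcS rfl hvv hdi (by rw [hza]; exact hvC)
    obtain ⟨F, iF, iFF, -, hiso⟩ := Cfsg.Agent.S0508.result S (orderOf a)
      (by have := Nat.le_of_dvd (orderOf_pos a) hao4; omega) ⟨eD⟩ (z : G) hzG z.2
      (fun s hs => congrArg Subtype.val (hzc ⟨s, hs⟩)) ⊥ (by
        symm
        rw [map_eq_bot_iff_of_injective _ (centralizer ({(z : G)} : Set G)).subtype_injective,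
          ← Subgroup.card_eq_one]
        obtain ⟨j, hj⟩ := ((hCIT _ hzG).to_subgroup
          (Cfsg.oddCore (centralizer ({(z : G)} : Set G)))).exists_card_eq
        have ho := ExtTwoLayer.odd_oddCore (centralizer ({(z : G)} : Set G))
        rw [hj] at ho ⊢
        rcases j with _ | j
        · rfl
        · exact absurd ho (Nat.not_odd_iff_even.2 ((Nat.even_pow).2 ⟨even_two, j.succ_ne_zero⟩)))
      (fun h => absurd rfl h)
      (fun s _ hs => absurd (by rw [mem_centralizer_iff]; intro y hy; rw [mem_bot.1 hy]; simp) hs)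
      (fun Y hY hY' => absurd (le_bot_iff.1 hY) hY')
    exact ⟨F, iF, iFF, hiso⟩
  · -- semidihedral: transfer at `b = a * v`
    exfalso
    set H : Subgroup ↥(S : Subgroup G) := zpowers (a * a) ⊔ zpowers v with hH
    have hvinv : v⁻¹ = v := inv_eq_of_mul_eq_one_right hvv
    have hzeven : z ∈ zpowers (a * a) := by
      obtain ⟨i, hi⟩ := mem_zpowers_iff.1 (hza.symm ▸ hzC)
      have h2 : a ^ (2 * i) = 1 := by
        rw [mul_comm, _root_.zpow_mul, hi, zpow_two, hzz]
      have hdvd := orderOf_dvd_iff_zpow_eq_one.2 h2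
      have h4 : (4 : ℤ) ∣ orderOf a := by exact_mod_cast hao4
      obtain ⟨j, hj⟩ := h4.trans hdvd
      refine mem_zpowers_iff.2 ⟨j, ?_⟩
      rw [← hi, show a * a = a ^ (2 : ℤ) from (zpow_two a).symm, ← _root_.zpow_mul]
      congr 1
      omega
    have hconj : ∀ x ∈ zpowers (a * a), v * x * v⁻¹ ∈ zpowers (a * a) := by
      intro x hx
      obtain ⟨i, rfl⟩ := mem_zpowers_iff.1 hx
      rw [← conj_zpow]
      refine zpow_mem ?_ i
      have e : v * (a * a) * v⁻¹ = (v * a * v) * (v * a * v) := by
        rw [hvinv]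
        calc v * (a * a) * v = v * a * (v * v) * a * v := by rw [hvv]; group
          _ = _ := by group
      rw [e, hsd, mul_assoc, ← mul_assoc z, ← hzc a⁻¹, mul_assoc, ← mul_assoc, ← mul_inv_rev,
        hzz, mul_one]
      exact inv_mem (mem_zpowers _)
    have hmem : ∀ x ∈ H, ∃ i : ℤ, x = (a * a) ^ i ∨ x = (a * a) ^ i * v := by
      intro x hx
      have hnorm : zpowers v ≤ normalizer (zpowers (a * a) : Set ↥(S : Subgroup G)) := by
        rw [zpowers_le, mem_normalizer_iff]
        intro y
        refine ⟨hconj y, fun hy => ?_⟩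
        have := hconj _ hy
        rwa [hvinv, show v * (v * y * v) * v = (v * v) * y * (v * v) by group, hvv, one_mul,
          mul_one] at this
      rw [← SetLike.mem_coe, hH, Subgroup.coe_mul_of_right_le_normalizer_left _ _ hnorm] at hx
      obtain ⟨y, hy, w, hw, rfl⟩ := Set.mem_mul.1 hx
      obtain ⟨i, rfl⟩ := mem_zpowers_iff.1 hy
      obtain ⟨j, rfl⟩ := mem_zpowers_iff.1 hw
      refine ⟨i, ?_⟩
      rcases Int.even_or_odd' j with ⟨l, rfl | rfl⟩
      · left
        rw [_root_.zpow_mul, zpow_two, hvv, _root_.one_zpow, mul_one]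
      · right
        rw [zpow_add, _root_.zpow_mul, zpow_two, hvv, _root_.one_zpow, one_mul, zpow_one]
    have haH : a ∉ H := by
      intro h
      obtain ⟨i, hi | hi⟩ := hmem a h
      · have h1 : a ^ (2 * i - 1) = 1 := by
          rw [zpow_sub_one, mul_inv_eq_one, _root_.zpow_mul, zpow_two, ← hi]
        have := (Int.natCast_dvd_natCast.2 hao4).trans (orderOf_dvd_iff_zpow_eq_one.2 h1)
        omega
      · refine hvC ?_
        rw [← hza]
        have : v = ((a * a) ^ i)⁻¹ * a := by rw [eq_inv_mul_iff_mul_eq]; exact hi.symm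
        rw [this]
        exact mul_mem (inv_mem (zpow_mem (mul_mem (mem_zpowers a) (mem_zpowers a)) i)) (mem_zpowers a)
    have haa : a * a ∈ H := mem_sup_left (mem_zpowers _)
    have hvH : v ∈ H := mem_sup_right (mem_zpowers _)
    have hsplit : ∀ s, s ∈ H ∨ a * s ∈ H := by
      intro s
      by_cases hs : s ∈ C
      · obtain ⟨i, rfl⟩ := mem_zpowers_iff.1 (hza.symm ▸ hs)
        rcases Int.even_or_odd' i with ⟨l, rfl | rfl⟩
        · left; rw [_root_.zpow_mul, zpow_two]; exact zpow_mem haa l
        · right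
          rw [zpow_add, _root_.zpow_mul, zpow_two, zpow_one, ← mul_assoc,
            ((Commute.refl a).mul_right (Commute.refl a)).zpow_right l |>.eq, mul_assoc]
          exact mul_mem (zpow_mem haa l) haa
      · have hsv : s * v ∈ C := (Subgroup.mul_mem_iff_of_index_two hidx).2
          ⟨fun h => absurd h hs, fun h => absurd h hvC⟩
        obtain ⟨i, hi⟩ := mem_zpowers_iff.1 (hza.symm ▸ hsv)
        have hs' : s = a ^ i * v := by rw [hi, mul_assoc, hvv, mul_one]
        rcases Int.even_or_odd' i with ⟨l, rfl | rfl⟩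
        · left; rw [hs', _root_.zpow_mul, zpow_two]; exact mul_mem (zpow_mem haa l) hvH
        · right
          rw [hs', zpow_add, _root_.zpow_mul, zpow_two, zpow_one, ← mul_assoc, ← mul_assoc,
            ((Commute.refl a).mul_right (Commute.refl a)).zpow_right l |>.eq, mul_assoc ((a*a)^l)]
          exact mul_mem (mul_mem (zpow_mem haa l) haa) hvH
    have hHidx : H.index = 2 := by
      have hle : H.index ≤ 2 := by
        have hsurj : Function.Surjective
            (fun i : Fin 2 => (QuotientGroup.mk (if i = 0 then (1 : ↥(S : Subgroup G)) else a⁻¹) :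
              ↥(S : Subgroup G) ⧸ H)) := by
          intro q
          induction q using QuotientGroup.induction_on with
          | H s =>
            rcases hsplit s with h | h
            · refine ⟨0, QuotientGroup.eq.2 ?_⟩
              simpa using h
            · refine ⟨1, QuotientGroup.eq.2 ?_⟩
              simpa using h
        exact (Nat.card_le_card_of_surjective _ hsurj).trans (by simp)
      have hne : H.index ≠ 1 := fun h => haH (Subgroup.index_eq_one.1 h ▸ mem_top a)
      have h0 : H.index ≠ 0 := Subgroup.index_ne_zero_of_finite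
      omega
    have hsq : ∀ j : ℤ, (a ^ j * v) * (a ^ j * v) = z ^ j := by
      intro j
      have e1 : v * a ^ j * v = (a⁻¹ * z) ^ j := by
        have h := conj_zpow (a := v) (b := a) (i := j)
        rw [hvinv] at h
        rw [← hsd, h]
      rw [Commute.mul_zpow (hzc a⁻¹), inv_zpow] at e1
      calc (a ^ j * v) * (a ^ j * v) = a ^ j * (v * a ^ j * v) := by group
        _ = z ^ j := by rw [e1, mul_inv_cancel_left]
    haveI hHn : H.Normal := Subgroup.normal_of_index_eq_two hHidx
    set b := a * v with hb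
    have hbb : b * b = z := by
      calc b * b = a * (v * a * v) := by rw [hb]; group
        _ = z := by rw [hsd]; group
    have hbH : b ∉ H := fun h => haH (by
      have := mul_mem h hvH
      rwa [hb, mul_assoc, hvv, mul_one] at this)
    have hinv : ∀ s, s * s = 1 → s ∈ H := by
      intro s hs
      by_contra hsH
      have h := (hsplit s).resolve_left hsH
      obtain ⟨i, hi | hi⟩ := hmem _ h
      · have hs' : s = a ^ (2 * i - 1) := by
          have : s = a⁻¹ * (a * a) ^ i := eq_inv_mul_iff_mul_eq.2 hi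
          rw [this, show a * a = a ^ (2 : ℤ) from (zpow_two a).symm, ← _root_.zpow_mul, zpow_sub_one]
          exact ((Commute.refl a).inv_left.zpow_right _).eq
        rw [hs', ← zpow_add] at hs
        have := (Int.natCast_dvd_natCast.2 hao4).trans (orderOf_dvd_iff_zpow_eq_one.2 hs)
        omega
      · have hs' : s = a ^ (2 * i - 1) * v := by
          have : s = a⁻¹ * ((a * a) ^ i * v) := eq_inv_mul_iff_mul_eq.2 hi
          rw [this, show a * a = a ^ (2 : ℤ) from (zpow_two a).symm, ← _root_.zpow_mul,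
            ← mul_assoc, zpow_sub_one, ((Commute.refl a).inv_left.zpow_right _).eq]
        rw [hs', hsq] at hs
        have := orderOf_dvd_iff_zpow_eq_one.2 hs
        rw [hzo] at this
        omega
    -- the transfer
    classical
    let ϕ : ↥(S : Subgroup G) →* Multiplicative (ZMod 2) :=
      { toFun := fun s => if s ∈ H then 1 else Multiplicative.ofAdd 1
        map_one' := if_pos H.one_mem
        map_mul' := fun s t => by
          by_cases hs : s ∈ H <;> by_cases ht : t ∈ H <;>
            simp [hs, ht, Subgroup.mul_mem_iff_of_index_two hHidx]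
          rw [← ofAdd_add, CharTwo.add_self_eq_zero]; rfl }
    have hbG : orderOf (b : G) = 2 ^ 2 := by
      rw [orderOf_coe]
      refine orderOf_eq_prime_pow (n := 1) ?_ ?_
      · intro h
        rw [pow_one, pow_two, hbb] at h
        rw [h, orderOf_one] at hzo
        omega
      · rw [show 2 ^ (1 + 1) = 2 * 2 from rfl, pow_mul, pow_two b, hbb, pow_two, hzz]
    obtain ⟨m, hm, hτ⟩ := TransferThompson.transfer_eq_pow_fixed (p := 2) ϕ (x := (b : G)) (e := 2)
      hbG (Multiplicative.ofAdd 1)
      (by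
        rintro g k ⟨j, rfl⟩ h
        refine if_pos (hinv _ (Subtype.ext ?_))
        show g⁻¹ * (b : G) ^ (2 * j) * g * (g⁻¹ * (b : G) ^ (2 * j) * g) = 1
        calc _ = g⁻¹ * ((b : G) ^ 2 ^ 2) ^ j * g := by group
          _ = 1 := by rw [← hbG, pow_orderOf_eq_one]; simp)
      (by
        intro g h
        refine if_neg fun hH' => hbH ?_
        set c : ↥(S : Subgroup G) := ⟨g⁻¹ * (b : G) * g, h⟩ with hc
        have hcc : ((c * c : ↥(S : Subgroup G)) : G) = g⁻¹ * (z : G) * g := by
          rw [← hbb]; simp only [hc, Subgroup.coe_mul]; group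
        have hz1' : c * c ≠ 1 := by
          intro h1
          have : g⁻¹ * (z : G) * g = 1 := by rw [← hcc, h1]; rfl
          have : (z : G) = 1 := by
            calc (z : G) = g * (g⁻¹ * (z : G) * g) * g⁻¹ := by group
              _ = 1 := by rw [this]; simp
          rw [this, orderOf_one] at hzG
          omega
        -- `c` is a square root of the involution of `C`
        obtain ⟨i, hi⟩ : ∃ i : ℤ, c = (a * a) ^ i := by
          obtain ⟨i, hi | hi⟩ := hmem c hH'
          · exact ⟨i, hi⟩
          · exfalso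
            apply hz1'
            rw [hi, show a * a = a ^ (2 : ℤ) from (zpow_two a).symm, ← _root_.zpow_mul, hsq,
              _root_.zpow_mul, zpow_two, hzz, _root_.one_zpow]
        have hccz : c * c = z := by
          have hcC : c ∈ C := by
            rw [hi, ← hza]
            exact zpow_mem (mul_mem (mem_zpowers a) (mem_zpowers a)) i
          refine (huniq _ (mul_mem hcC hcC) (Subtype.ext ?_)).resolve_left hz1'
          rw [Subgroup.coe_mul (S : Subgroup G) (c * c) (c * c), hcc]
          calc g⁻¹ * (z : G) * g * (g⁻¹ * (z : G) * g) = g⁻¹ * ((z : G) * (z : G)) * g := by group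
            _ = _ := by rw [← Subgroup.coe_mul, hzz]; simp
        have hg : g ∈ (S : Subgroup G) := by
          rw [← hzCent, mem_centralizer_singleton_iff]
          have : g⁻¹ * (z : G) * g = z := by rw [← hcc, hccz]
          calc g * (z : G) = g * (g⁻¹ * (z : G) * g) := by rw [this]
            _ = (z : G) * g := by group
        have := hHn.conj_mem c hH' ⟨g, hg⟩
        convert this using 1
        ext
        show (b : G) = g * (g⁻¹ * (b : G) * g) * g⁻¹
        group)
    rw [JTTransfer62.hom_trivial hG] at hτ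
    have hodd : ¬ 2 ∣ (S : Subgroup G).index := S.not_dvd_index
    have hm1 : m % 2 = 1 := by
      have := hm
      rw [Nat.ModEq] at this
      omega
    rw [← ofAdd_nsmul, eq_comm, ofAdd_eq_one, nsmul_eq_mul, mul_one, ZMod.natCast_eq_zero_iff_even,
      Nat.even_iff] at hτ
    omega

end Cfsg.Agent.CIT21Dihedral
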