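import Cfsg.Agent.Lib.CIT21FlatsPair
import Cfsg.Agent.Lib.TransferThompson

/-!
# The configuration of `PSL₃(4)` (module `CIT21Flats`)

From `ELocal N V V c` with `4 ≤ c` we get `c = 4` and `Flats V A R`: the main point is that `R` is a
Sylow `2`-subgroup of `G`, which uses Thompson's transfer lemma.
-/

set_option autoImplicit false
set_option linter.unusedSectionVars false
set_option linter.style.haveILetI false

namespace Cfsg.Agent.CIT21

variable {G : Type*} [Group G] [Finite G]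

namespace Flats73

variable {V A R : Subgroup G} {c : ℕ}

theorem conj_inj {a b n : G} (h : n * a * n⁻¹ = n * b * n⁻¹) : a = b :=
  mul_left_cancel (mul_right_cancel h)

theorem Pair.A_comm (P : Pair V A R c) {a b : G} (ha : a ∈ A) (hb : b ∈ A) : a * b = b * a :=
  P.sA.comm_U a ha b hb

theorem Pair.der (P : Pair V A R c) {r s : G} (hr : r ∈ R) (hs : s ∈ R) :
    r * s * r⁻¹ * s⁻¹ ∈ Wd V R := by
  obtain ⟨a, ha, v, hv, rfl⟩ := P.prod r hr
  obtain ⟨a', ha', v', hv', rfl⟩ := P.prod s hs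
  set ξ := v * a' * v⁻¹ * a'⁻¹ with hξ
  set η := a * v' * a⁻¹ * v'⁻¹ with hη
  have hξW : ξ ∈ Wd V R := P.sV.comm_fixed R P.hV v hv a' (P.A_le ha')
  have hηW : η ∈ Wd V R := xi_mem P.sV P.hV (P.A_le ha) hv'
  have e1 : a * ξ = ξ * a := (mem_Wd.1 hξW).2 a (P.A_le ha)
  have e2 : a' * η = η * a' := (mem_Wd.1 hηW).2 a' (P.A_le ha')
  have : a * v * (a' * v') * (a * v)⁻¹ * (a' * v')⁻¹ = ξ * η := by
    calc a * v * (a' * v') * (a * v)⁻¹ * (a' * v')⁻¹
        = a * ξ * a' * (v * v' * v⁻¹) * a⁻¹ * v'⁻¹ * a'⁻¹ := by rw [hξ]; group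
      _ = a * ξ * a' * v' * a⁻¹ * v'⁻¹ * a'⁻¹ := by
          rw [P.sV.comm_U v hv v' hv']; group
      _ = ξ * (a * a') * v' * a⁻¹ * v'⁻¹ * a'⁻¹ := by rw [e1]; group
      _ = ξ * (a' * η) * a'⁻¹ := by rw [P.A_comm ha ha', hη]; group
      _ = ξ * η := by rw [e2]; group
  rw [this]
  exact (Wd V R).mul_mem hξW hηW

theorem Pair.ne (P : Pair V A R c) : V ≠ A := by
  obtain ⟨v, hv, hvA⟩ := P.exists_V_not_A
  exact fun e => hvA (e ▸ hv)

/-- An element of a `2`-subgroup above `R` normalising `V` lies in `R`. -/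
theorem Pair.mem_of_fix (P : Pair V A R c) {S : Subgroup G} (hS : IsPGroup 2 ↥S) (hRS : R ≤ S)
    {x : G} (hx : x ∈ S) (hxV : V.map (MulAut.conj x).toMonoidHom = V) : x ∈ R := by
  obtain ⟨R', hR', hle⟩ := P.sV.exists_syl _
    (sup_le (Subgroup.zpowers_le.2 (mem_normalizer_of_conjMap hxV)) P.hV.1)
    (hS.to_le (sup_le (Subgroup.zpowers_le.2 hx) hRS))
  have : R = R' := Subgroup.eq_of_le_of_card_ge (le_sup_right.trans hle) (by
    rw [hR'.2.2, P.hV.2.2])
  exact this ▸ hle (le_sup_left (b := R) (Subgroup.mem_zpowers x))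

theorem Pair.swap_of_not_fix (P : Pair V A R c) {n : G}
    (hn : R.map (MulAut.conj n).toMonoidHom = R) (h : V.map (MulAut.conj n).toMonoidHom ≠ V) :
    V.map (MulAut.conj n).toMonoidHom = A ∧ A.map (MulAut.conj n).toMonoidHom = V :=
  (P.perm hn).resolve_left fun e => h e.1

/-- An element of order `3` of `N(R)` acts fixed point freely: the coset `R k` is one class. -/
theorem exists_conj_coset (hCIT : IsCIT G) (hR : IsPGroup 2 ↥R) {k : G} (hk : orderOf k = 3)
    (hkR : k ∈ Subgroup.normalizer (R : Set G)) {r : G} (hr : r ∈ R) :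
    ∃ e ∈ R, e * k * e⁻¹ = r * k := by
  let f : ↥R → ↥R := fun e => ⟨e * (k * (e : G)⁻¹ * k⁻¹),
    R.mul_mem e.2 ((Subgroup.mem_normalizer_iff.1 hkR _).1 (inv_mem e.2))⟩
  have hf : Function.Injective f := by
    intro a b e
    have e' : (a : G) * (k * (a : G)⁻¹ * k⁻¹) = b * (k * (b : G)⁻¹ * k⁻¹) := congrArg Subtype.val e
    have h1 : k * ((b : G)⁻¹ * a) = ((b : G)⁻¹ * a) * k := by
      calc k * ((b : G)⁻¹ * a) = (b : G)⁻¹ * (b * (k * (b : G)⁻¹ * k⁻¹)) * k * a := by group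
        _ = (b : G)⁻¹ * (a * (k * (a : G)⁻¹ * k⁻¹)) * k * a := by rw [e']
        _ = _ := by group
    have h2 := fpf hCIT hR (x := k) (by rw [hk]; decide)
      (fun e => by rw [e, orderOf_one] at hk; omega) (R.mul_mem (inv_mem b.2) a.2) h1
    exact Subtype.ext (inv_mul_eq_one.1 h2).symm
  obtain ⟨e, he⟩ := (Finite.injective_iff_surjective.1 hf) ⟨r, hr⟩
  refine ⟨e, e.2, ?_⟩
  have e' : (e : G) * (k * (e : G)⁻¹ * k⁻¹) = r := congrArg Subtype.val he
  rw [← e']; group

/-- The stabiliser of `V` and `R`. -/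
theorem Pair.exists_three (P : Pair V A R 4) :
    ∃ h : G, orderOf h = 3 ∧ R.map (MulAut.conj h).toMonoidHom = R ∧
      V.map (MulAut.conj h).toMonoidHom = V ∧
      ∀ x : G, R.map (MulAut.conj x).toMonoidHom = R → V.map (MulAut.conj x).toMonoidHom = V →
        ∃ r ∈ R, x = r ∨ x = r * h ∨ x = r * h⁻¹ := by
  classical
  haveI : Fact (Nat.Prime 3) := ⟨Nat.prime_three⟩
  set B := Subgroup.normalizer (V : Set G) ⊓ Subgroup.normalizer (R : Set G) with hB
  have hBcard : Nat.card ↥B = Nat.card ↥V * 12 := P.sV.card_stab R P.hV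
  obtain ⟨⟨h, hhV, hhR⟩, hho⟩ := exists_prime_orderOf_dvd_card' (G := ↥B) 3
    (by rw [hBcard]; exact Dvd.dvd.mul_left (by norm_num) _)
  rw [← Subgroup.orderOf_coe] at hho
  change orderOf h = 3 at hho
  refine ⟨h, hho, conjMap_of_mem_normalizer hhR, conjMap_of_mem_normalizer hhV, fun x hxR hxV => ?_⟩
  let f : ↥R × ↥(Subgroup.zpowers h) → ↥B := fun p => ⟨(p.1 : G) * p.2,
    B.mul_mem ⟨P.hV.1 p.1.2, Subgroup.le_normalizer p.1.2⟩
      (Subgroup.zpowers_le.2 (show h ∈ B from ⟨hhV, hhR⟩) p.2.2)⟩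
  have hdisj : R ⊓ Subgroup.zpowers h = ⊥ :=
    (Subgroup.disjoint_of_coprime_natCard (by
      rw [P.hV.2.2, P.sV.card_U, Nat.card_zpowers, hho]; norm_num)).eq_bot
  have hf : Function.Injective f := fun a b e =>
    Subgroup.mul_injective_of_disjoint (disjoint_iff.2 hdisj) (congrArg Subtype.val e)
  have hcard : Nat.card (↥R × ↥(Subgroup.zpowers h)) = Nat.card ↥B := by
    rw [Nat.card_prod, P.hV.2.2, Nat.card_zpowers, hho, hBcard]
    ring
  obtain ⟨⟨r, k⟩, hrk⟩ := ((Nat.bijective_iff_injective_and_card f).2 ⟨hf, hcard⟩).2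
    ⟨x, mem_normalizer_of_conjMap hxV, mem_normalizer_of_conjMap hxR⟩
  have hx : x = (r : G) * k := (congrArg Subtype.val hrk).symm
  refine ⟨r, r.2, ?_⟩
  have h3 : h ^ 3 = 1 := hho ▸ pow_orderOf_eq_one h
  obtain ⟨j, hj, hjk⟩ := Finset.mem_image.1
    ((mem_zpowers_iff_mem_range_orderOf).1 k.2)
  rw [Finset.mem_range, hho] at hj
  interval_cases j
  · left; rw [hx, ← hjk, pow_zero, mul_one]
  · right; left; rw [hx, ← hjk, pow_one]
  · right; right
    rw [hx, ← hjk]
    congr 1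
    exact eq_inv_of_mul_eq_one_left (by rw [← pow_succ]; exact h3)

/-- A swapping involution inverting an element of order `3`, unless `R` is a Sylow subgroup. -/
theorem Pair.exists_swapper (hCIT : IsCIT G) (P : Pair V A R 4)
    (hns : ¬ ∃ T : Sylow 2 G, (T : Subgroup G) = R) :
    ∃ g h : G, g * g = 1 ∧ orderOf h = 3 ∧ g * h * g = h⁻¹ ∧
      R.map (MulAut.conj g).toMonoidHom = R ∧
      V.map (MulAut.conj g).toMonoidHom = A ∧ A.map (MulAut.conj g).toMonoidHom = V ∧
      R.map (MulAut.conj h).toMonoidHom = R ∧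
      V.map (MulAut.conj h).toMonoidHom = V ∧ A.map (MulAut.conj h).toMonoidHom = A := by
  obtain ⟨T, hRT⟩ := P.hV.2.1.exists_le_sylow
  obtain ⟨g0, hg0T, hg0R, hg0⟩ := exists_gt_normalizer T.2
    (lt_of_le_of_ne hRT fun e => hns ⟨T, e.symm⟩)
  obtain ⟨hg0V, hg0A⟩ := P.swap_of_not_fix hg0 fun e => hg0R (P.mem_of_fix T.2 hRT hg0T e)
  obtain ⟨h, hho, hhR, hhV, hcases⟩ := P.exists_three
  have hhA : A.map (MulAut.conj h).toMonoidHom = A :=
    conjMap_of_mem_normalizer (P.fix_A hhR (mem_normalizer_of_conjMap hhV))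
  have hh3 : h ^ 3 = 1 := hho ▸ pow_orderOf_eq_one h
  have hhi : orderOf h⁻¹ = 3 := (orderOf_inv h).trans hho
  have hh1 : h ≠ 1 := fun e => by rw [e, orderOf_one] at hho; omega
  set b := g0 * h * g0⁻¹ with hb
  have hbo : orderOf b = 3 := by
    have := orderOf_injective (MulAut.conj g0).toMonoidHom (MulAut.conj g0).injective h
    exact this.trans hho
  have hbR : R.map (MulAut.conj b).toMonoidHom = R := by
    rw [hb, ← conjMap_mul, ← conjMap_mul, conjMap_inv_eq hg0, hhR, hg0]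
  have hbV : V.map (MulAut.conj b).toMonoidHom = V := by
    rw [hb, ← conjMap_mul, ← conjMap_mul, conjMap_inv_eq hg0A, hhA, hg0A]
  obtain ⟨r, hr, hrb⟩ := hcases b hbR hbV
  have hbnot : b ∉ R := fun hbR' => by
    obtain ⟨j, hj⟩ := P.hV.2.1 ⟨b, hbR'⟩
    have h1 : orderOf b ∣ 2 ^ j := orderOf_dvd_of_pow_eq_one (congrArg Subtype.val hj)
    rw [hbo] at h1
    have := Nat.le_of_dvd two_pos (Nat.prime_three.dvd_of_dvd_pow h1)
    omega
  -- move `b` into `⟨h⟩`
  obtain ⟨e, he, hek⟩ : ∃ e ∈ R, e * b * e⁻¹ = h ∨ e * b * e⁻¹ = h⁻¹ := by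
    rcases hrb with e | e | e
    · exact absurd (e ▸ hr) hbnot
    · obtain ⟨e', he', h'⟩ := exists_conj_coset hCIT P.hV.2.1 hho
        (mem_normalizer_of_conjMap hhR) hr
      refine ⟨e'⁻¹, inv_mem he', Or.inl ?_⟩
      rw [e, ← h']; group
    · obtain ⟨e', he', h'⟩ := exists_conj_coset hCIT P.hV.2.1 hhi
        (inv_mem (mem_normalizer_of_conjMap hhR)) hr
      refine ⟨e'⁻¹, inv_mem he', Or.inr ?_⟩
      rw [e, ← h']; group
  set n := e * g0 with hn
  have hnR : R.map (MulAut.conj n).toMonoidHom = R := by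
    rw [hn, ← conjMap_mul, hg0, conjMap_of_mem he]
  have heV : V.map (MulAut.conj e).toMonoidHom = V :=
    conjMap_of_mem_normalizer (P.hV.1 he)
  have heA : A.map (MulAut.conj e).toMonoidHom = A :=
    conjMap_of_mem_normalizer (P.hA.1 he)
  have hnV : V.map (MulAut.conj n).toMonoidHom = A := by rw [hn, ← conjMap_mul, hg0V, heA]
  have hnA : A.map (MulAut.conj n).toMonoidHom = V := by rw [hn, ← conjMap_mul, hg0A, heV]
  have hnh : n * h * n⁻¹ = h ∨ n * h * n⁻¹ = h⁻¹ := by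
    rw [hn, show e * g0 * h * (e * g0)⁻¹ = e * b * e⁻¹ by rw [hb]; group]
    exact hek
  have hnnh : n * n * h = h * (n * n) := by
    have : n * (n * h * n⁻¹) * n⁻¹ = h := by
      rcases hnh with e | e
      · rw [e, e]
      · rw [e]
        calc n * h⁻¹ * n⁻¹ = (n * h * n⁻¹)⁻¹ := by group
          _ = h := by rw [e, inv_inv]
    calc n * n * h = n * (n * h * n⁻¹) * n⁻¹ * (n * n) := by group
      _ = _ := by rw [this]
  have hnnR : R.map (MulAut.conj (n * n)).toMonoidHom = R := by rw [← conjMap_mul, hnR, hnR]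
  have hnnV : V.map (MulAut.conj (n * n)).toMonoidHom = V := by rw [← conjMap_mul, hnV, hnA]
  -- `n²` lies in `⟨h⟩`
  obtain ⟨k, hk3, hkh, hkeq⟩ : ∃ k : G, k ^ 3 = 1 ∧ (k = 1 ∨ k = h ∨ k = h⁻¹) ∧ n * n = k := by
    obtain ⟨r, hr, hrn⟩ := hcases _ hnnR hnnV
    have hfix : ∀ k : G, k * h = h * k → n * n = r * k → r = 1 := by
      intro k hk e
      refine fpf hCIT P.hV.2.1 (x := h) (by rw [hho]; decide) hh1 hr ?_
      calc h * r = h * (n * n * k⁻¹) := by rw [e]; group
        _ = h * (n * n) * k⁻¹ := by group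
        _ = n * n * (h * k⁻¹) := by rw [← hnnh]; group
        _ = n * n * (k⁻¹ * h) := by rw [(Commute.inv_left (show Commute k h from hk)).eq]
        _ = r * h := by rw [e]; group
    rcases hrn with e | e | e
    · exact ⟨1, one_pow 3, Or.inl rfl, by
        rw [hfix 1 (by group) (e.trans (mul_one r).symm)] at e; exact e⟩
    · exact ⟨h, hh3, Or.inr (Or.inl rfl), by rw [hfix h rfl e, one_mul] at e; exact e⟩
    · exact ⟨h⁻¹, by rw [inv_pow, hh3, inv_one], Or.inr (Or.inr rfl), by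
        rw [hfix h⁻¹ (by group) e, one_mul] at e; exact e⟩
  have hn1 : n * n * n * (n * n * n) = 1 := by
    calc n * n * n * (n * n * n) = (n * n) * (n * n) * (n * n) := by group
      _ = 1 := by rw [hkeq, ← pow_three' k, hk3]
  rcases hnh with hnh | hnh
  · -- an involution commuting with `h`
    exfalso
    refine hh1 (eq_one_of_commute hCIT (by rw [hho]; decide) (twoElt_sq hn1) ?_ ?_)
    · intro e1
      refine P.ne.symm (hnV.symm.trans ?_)
      have : n = (n * n)⁻¹ := eq_inv_of_mul_eq_one_right e1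
      rw [this]
      exact conjMap_inv_eq hnnV
    · have hc : Commute n h := mul_inv_eq_iff_eq_mul.1 hnh
      exact (((hc.mul_left hc).mul_left hc).eq).symm
  · have hnk : n * k * n⁻¹ = k⁻¹ := by
      rcases hkh with rfl | rfl | rfl
      · group
      · exact hnh
      · calc n * h⁻¹ * n⁻¹ = (n * h * n⁻¹)⁻¹ := by group
          _ = _ := by rw [hnh]
    have hnk' : n * k * n⁻¹ = k := by rw [← hkeq]; group
    have hk1 : k = 1 := by
      have h1 : k * k = 1 := by
        nth_rewrite 1 [show k = k⁻¹ from hnk'.symm.trans hnk]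
        exact inv_mul_cancel k
      rw [pow_three, h1, mul_one] at hk3
      exact hk3
    have hnn : n * n = 1 := hkeq.trans hk1
    refine ⟨n, h, hnn, hho, ?_, hnR, hnV, hnA, hhR, hhV, hhA⟩
    have hni : n⁻¹ = n := inv_eq_of_mul_eq_one_right hnn
    rwa [hni] at hnh

theorem Pair.W_eq_orbit (hCIT : IsCIT G) (P : Pair V A R 4) {h z : G} (hho : orderOf h = 3)
    (hW : ∀ w ∈ Wd V R, h * w * h⁻¹ ∈ Wd V R) (hW' : ∀ w ∈ Wd V R, h⁻¹ * w * h ∈ Wd V R)
    (hz : z ∈ Wd V R) (hz1 : z ≠ 1) {w : G} (hw : w ∈ Wd V R) (hw1 : w ≠ 1) :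
    w = z ∨ w = h * z * h⁻¹ ∨ w = h⁻¹ * z * h := by
  classical
  have hne : ∀ k : G, orderOf k = 3 → k * z * k⁻¹ ≠ z := fun k hk e => by
    have hc : k * z = z * k := mul_inv_eq_iff_eq_mul.1 e
    exact hz1 (fpf hCIT P.sV.pGroup_D (x := k) (by rw [hk]; decide)
      (fun e => by rw [e, orderOf_one] at hk; omega) hz.1 hc)
  have h1 : h * z * h⁻¹ ≠ z := hne h hho
  have h2 : h⁻¹ * z * h ≠ z := by
    have := hne h⁻¹ ((orderOf_inv h).trans hho)
    rwa [inv_inv] at this
  have h3 : h * z * h⁻¹ ≠ h⁻¹ * z * h := fun e => by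
    refine hne (h * h) ?_ ?_
    · rw [← pow_two, orderOf_pow' h two_ne_zero, hho]; norm_num
    · calc h * h * z * (h * h)⁻¹ = h * (h * z * h⁻¹) * h⁻¹ := by group
        _ = h * (h⁻¹ * z * h) * h⁻¹ := by rw [e]
        _ = z := by group
  have hconj1 : ∀ k : G, k * z * k⁻¹ ≠ 1 := fun k e => hz1 (conj_inj (n := k) (by rw [e]; group))
  let f : Fin 4 → ↥(Wd V R) :=
    ![1, ⟨z, hz⟩, ⟨h * z * h⁻¹, hW z hz⟩, ⟨h⁻¹ * z * h, hW' z hz⟩]
  have hf : Function.Injective f := by
    have hh := hconj1 h⁻¹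
    rw [inv_inv] at hh
    intro a b e
    have e' := congrArg Subtype.val e
    fin_cases a <;> fin_cases b <;>
      simp [f, hz1, hz1.symm, hconj1 h, (hconj1 h).symm, hh, hh.symm, h1, h1.symm, h2, h2.symm, h3,
        h3.symm] at e' ⊢
  obtain ⟨i, hi⟩ := ((Nat.bijective_iff_injective_and_card f).2 ⟨hf, by
    rw [Nat.card_fin, P.card_W]⟩).2 ⟨w, hw⟩
  have hi' := congrArg Subtype.val hi
  fin_cases i <;> simp [f] at hi'
  · exact absurd hi'.symm hw1
  · exact Or.inl hi'.symm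
  · exact Or.inr (Or.inl hi'.symm)
  · exact Or.inr (Or.inr hi'.symm)

/-- Elementary abelian subgroups of order at least `16` of `R ∪ R g` lie in `R`. -/
theorem Pair.le_of_swap (P : Pair V A R 4) {g : G} {E : Subgroup G}
    (hg : R.map (MulAut.conj g).toMonoidHom = R) (hgV : V.map (MulAut.conj g).toMonoidHom = A)
    (hgg : g * g = 1)
    (hsq : ∀ e ∈ E, e * e = 1) (hcard : Nat.card ↥E = 16)
    (hE : ∀ x ∈ E, x ∈ R ∨ x * g ∈ R) : E ≤ R := by
  classical
  intro e he
  by_contra heR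
  have hgi : g⁻¹ = g := inv_eq_of_mul_eq_one_right hgg
  have hs : e * g ∈ R := (hE e he).resolve_left heR
  have hswap : V.map (MulAut.conj e).toMonoidHom = A := by
    rw [show e = e * g * g by rw [mul_assoc, hgg, mul_one], ← conjMap_mul, hgV]
    exact conjMap_of_mem_normalizer (P.hA.1 hs)
  have hcomm : ∀ a ∈ E, ∀ b ∈ E, a * b = b * a := by
    intro a ha b hb
    have h1 : (b * a)⁻¹ = b * a := inv_eq_of_mul_eq_one_right (hsq _ (E.mul_mem hb ha))
    rw [mul_inv_rev, inv_eq_of_mul_eq_one_right (hsq a ha),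
      inv_eq_of_mul_eq_one_right (hsq b hb)] at h1
    exact h1
  have hER : ∀ x ∈ E, x ∈ R → x ∈ Wd V R := by
    intro x hx hxR
    have hfix : e⁻¹ * x * e = x := by rw [mul_assoc, hcomm x hx e he, inv_mul_cancel_left]
    have hiff : x ∈ A ↔ x ∈ V := by
      rw [← hswap, mem_conjMap, hfix]
    have hxV : x ∈ V := (P.invol_mem hxR (hsq x hx)).elim id hiff.1
    rw [← P.inter]
    exact ⟨hiff.2 hxV, hxV⟩
  have hprod : ∀ x ∈ E, x ∉ R → x * e ∈ Wd V R := by
    intro x hx hxR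
    refine hER _ (E.mul_mem hx he) ?_
    have hx' := (hE x hx).resolve_left hxR
    have h1 : g * (e * g) * g⁻¹ ∈ R :=
      (Subgroup.mem_normalizer_iff.1 (mem_normalizer_of_conjMap hg) _).1 hs
    have := R.mul_mem hx' h1
    rwa [show x * g * (g * (e * g) * g⁻¹) = x * e by
      calc x * g * (g * (e * g) * g⁻¹) = x * (g * g) * e * (g * g⁻¹) := by group
        _ = x * e := by rw [hgg]; group] at this
  let f : ↥E → ↥(Wd V R) × Bool := fun x =>
    if h : (x : G) ∈ R then (⟨x, hER x x.2 h⟩, false) else (⟨x * e, hprod x x.2 h⟩, true)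
  have hf : Function.Injective f := by
    intro a b eq
    simp only [f] at eq
    split_ifs at eq with ha hb hb
    · exact Subtype.ext (congrArg Subtype.val (congrArg Prod.fst eq) :)
    · exact absurd (congrArg Prod.snd eq) (by simp)
    · exact absurd (congrArg Prod.snd eq) (by simp)
    · exact Subtype.ext (mul_right_cancel (congrArg Subtype.val (congrArg Prod.fst eq)))
  have h := Nat.card_le_card_of_injective f hf
  rw [Nat.card_prod, P.card_W, hcard, Nat.card_eq_fintype_card, Fintype.card_bool] at h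
  omega

/-- `R` is a Sylow `2`-subgroup of `G`. -/
theorem Pair.sylow (hCIT : IsCIT G) (hsimp : IsSimpleGroup G) (P : Pair V A R 4) :
    ∃ T : Sylow 2 G, (T : Subgroup G) = R := by
  classical
  by_contra hns
  haveI : Fact (Nat.Prime 2) := ⟨Nat.prime_two⟩
  obtain ⟨g, h, hgg, hho, hgh, hgR, hgV, hgA, hhR, hhV, hhA⟩ := P.exists_swapper hCIT hns
  have hgi : g⁻¹ = g := inv_eq_of_mul_eq_one_right hgg
  have hgn := mem_normalizer_of_conjMap hgR
  have hRcard : Nat.card ↥R = 64 := by rw [P.hV.2.2, P.sV.card_U]; norm_num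
  have hgnot : g ∉ R := fun e => P.ne
    ((conjMap_of_mem_normalizer (P.hV.1 e)).symm.trans hgV)
  have hg1 : g ≠ 1 := fun e => hgnot (e ▸ R.one_mem)
  have hgWd : ∀ x ∈ Wd V R, g * x * g ∈ Wd V R := by
    intro x hx
    rw [← P.inter] at hx ⊢
    have hA' : g * x * g⁻¹ ∈ A := hgV ▸ conj_mem_conjMap hx.2
    have hV' : g * x * g⁻¹ ∈ V := hgA ▸ conj_mem_conjMap hx.1
    rw [hgi] at hA' hV'
    exact ⟨hA', hV'⟩
  have hhWd : ∀ k : G, R.map (MulAut.conj k).toMonoidHom = R →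
      V.map (MulAut.conj k).toMonoidHom = V → ∀ x ∈ Wd V R, k * x * k⁻¹ ∈ Wd V R := by
    intro k hkR hkV x hx
    have := conj_mem_Wd P.sV (mem_normalizer_of_conjMap hkV) hx
    rwa [hkR] at this
  have hW1 := hhWd h hhR hhV
  have hW2 : ∀ w ∈ Wd V R, h⁻¹ * w * h ∈ Wd V R := fun w hw => by
    have := hhWd h⁻¹ (conjMap_inv_eq hhR) (conjMap_inv_eq hhV) w hw
    rwa [inv_inv] at this
  have hWsq : ∀ x ∈ Wd V R, x * x = 1 := fun x hx => P.sV.sq_U x hx.1
  have hWc : ∀ x ∈ Wd V R, ∀ y ∈ R, y * x = x * y := fun x hx => (mem_Wd.1 hx).2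
  have hWR : ∀ x ∈ Wd V R, x ∈ R := fun x hx => P.V_le hx.1
  -- the point of `W` fixed by `g`
  obtain ⟨z, hz, hz1, hzg⟩ : ∃ z ∈ Wd V R, z ≠ 1 ∧ g * z * g = z := by
    obtain ⟨w, hw, hw1⟩ := P.nontrivial_W
    by_cases hwg : g * w * g = w
    · exact ⟨w, hw, hw1, hwg⟩
    refine ⟨w * (g * w * g), (Wd V R).mul_mem hw (hgWd w hw), fun e => hwg ?_, ?_⟩
    · rw [← inv_eq_of_mul_eq_one_right e, inv_eq_of_mul_eq_one_right (hWsq w hw)]
    · calc g * (w * (g * w * g)) * g = (g * w * g) * w * (g * g) := by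
            rw [show g * (w * (g * w * g)) * g = g * w * g * w * (g * g) by group]
        _ = (g * w * g) * w := by rw [hgg, mul_one]
        _ = _ := P.sV.comm_U _ (hgWd w hw).1 w hw.1
  have hghi : g * h⁻¹ * g = h := by
    have := congrArg (·⁻¹) hgh
    simp only [mul_inv_rev, hgi, inv_inv] at this
    rw [mul_assoc]; exact this
  have horb := fun {w : G} => P.W_eq_orbit hCIT hho hW1 hW2 hz hz1 (w := w)
  have hfixW : ∀ w ∈ Wd V R, g * w * g = w → w = 1 ∨ w = z := by
    intro w hw hwg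
    by_contra hno
    push Not at hno
    have e1 : g * (h * z * h⁻¹) * g = h⁻¹ * z * h := by
      calc g * (h * z * h⁻¹) * g = (g * h * g⁻¹) * (g * z * g⁻¹) * (g * h⁻¹ * g) := by
            rw [show g * (h * z * h⁻¹) * g = (g * h * g⁻¹) * (g * z * g⁻¹) * (g * h⁻¹ * g) by group]
        _ = _ := by rw [hgi, hgh, hzg, hghi]
    have hne : h * z * h⁻¹ ≠ h⁻¹ * z * h := fun e => by
      have hc : h * h * z = z * (h * h) := by
        calc h * h * z = h * (h * z * h⁻¹) * h := by group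
          _ = h * (h⁻¹ * z * h) * h := by rw [e]
          _ = _ := by group
      refine hz1 (fpf hCIT P.sV.pGroup_D (x := h * h) ?_ ?_ hz.1 hc)
      · rw [← pow_two, orderOf_pow' h two_ne_zero, hho]; decide
      · intro e2
        have := orderOf_dvd_of_pow_eq_one (show h ^ 2 = 1 by rw [pow_two, e2])
        rw [hho] at this
        exact absurd this (by decide)
    rcases horb hw hno.1 with e | e | e
    · exact hno.2 e
    · rw [e, e1] at hwg; exact hne hwg.symm
    · refine hne (?_ : h * z * h⁻¹ = h⁻¹ * z * h)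
      rw [e, ← e1] at hwg
      calc h * z * h⁻¹ = (g * g) * (h * z * h⁻¹) * (g * g) := by rw [hgg, one_mul, mul_one]
        _ = g * (g * (h * z * h⁻¹) * g) * g := by group
        _ = g * (h * z * h⁻¹) * g := hwg
        _ = h⁻¹ * z * h := e1
  -- `T₁ = R ∪ R g`
  let T1 : Subgroup G :=
    { carrier := {x | x ∈ R ∨ x * g ∈ R}
      one_mem' := Or.inl R.one_mem
      mul_mem' := by
        rintro x y (hx | hx) (hy | hy)
        · exact Or.inl (R.mul_mem hx hy)
        · exact Or.inr (by rw [mul_assoc]; exact R.mul_mem hx hy)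
        · refine Or.inr ?_
          rw [show x * y * g = x * g * (g⁻¹ * y * g) by group]
          exact R.mul_mem hx ((Subgroup.mem_normalizer_iff''.1 hgn y).1 hy)
        · refine Or.inl ?_
          have : x * y = x * g * (g⁻¹ * (y * g) * g) := by
            calc x * y = x * y * (g * g) := by rw [hgg, mul_one]
              _ = _ := by group
          rw [this]
          exact R.mul_mem hx ((Subgroup.mem_normalizer_iff''.1 hgn _).1 hy)
      inv_mem' := by
        rintro x (hx | hx)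
        · exact Or.inl (R.inv_mem hx)
        · refine Or.inr ?_
          rw [show x⁻¹ * g = g * (x * g)⁻¹ * g by group]
          have := (Subgroup.mem_normalizer_iff.1 hgn _).1 (R.inv_mem hx)
          rwa [hgi] at this }
  have hT1 : ∀ x, x ∈ T1 ↔ x ∈ R ∨ x * g ∈ R := fun x => Iff.rfl
  have hRT1 : R ≤ T1 := fun x hx => Or.inl hx
  have hgT1 : g ∈ T1 := Or.inr (hgg ▸ R.one_mem)
  have hT1card : Nat.card ↥T1 = 128 := by
    let f : ↥R × Bool → ↥T1 := fun p => if p.2 then ⟨(p.1 : G) * g, T1.mul_mem (hRT1 p.1.2) hgT1⟩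
      else ⟨p.1, hRT1 p.1.2⟩
    have hnot : ∀ r r' : G, r ∈ R → r' ∈ R → r * g ≠ r' := fun r r' hr hr' e => hgnot (by
      rw [show g = r⁻¹ * r' by rw [← e]; group]; exact R.mul_mem (R.inv_mem hr) hr')
    have hf : Function.Bijective f := by
      constructor
      · rintro ⟨a, _ | _⟩ ⟨b, _ | _⟩ e <;> have e' := congrArg Subtype.val e
        · exact Prod.ext (Subtype.ext e') rfl
        · exact absurd (e' : (a : G) = b * g).symm (hnot b a b.2 a.2)
        · exact absurd (e' : (a : G) * g = b) (hnot a b a.2 b.2)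
        · exact Prod.ext (Subtype.ext (mul_right_cancel (e' : (a : G) * g = b * g))) rfl
      · rintro ⟨x, hx | hx⟩
        · exact ⟨(⟨x, hx⟩, false), rfl⟩
        · exact ⟨(⟨x * g, hx⟩, true), Subtype.ext (show x * g * g = x by rw [mul_assoc, hgg, mul_one])⟩
    rw [← Nat.card_congr (Equiv.ofBijective f hf), Nat.card_prod, hRcard, Nat.card_eq_fintype_card,
      Fintype.card_bool]
  have hT1two : IsPGroup 2 ↥T1 := IsPGroup.of_card (n := 7) (by rw [hT1card]; norm_num)
  obtain ⟨T, hT⟩ := hT1two.exists_le_sylow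
  -- `T₁` is a Sylow subgroup
  have hTeq : T1 = T := by
    by_contra hne
    obtain ⟨n, hnT, hnT1, hn⟩ := exists_gt_normalizer T.2 (lt_of_le_of_ne hT hne)
    have hflat : ∀ X : Subgroup G, X ≤ R → (∀ x ∈ X, x * x = 1) → Nat.card ↥X = 4 ^ 2 →
        X.map (MulAut.conj n).toMonoidHom ≤ R := by
      intro X hX hsq hc
      refine P.le_of_swap hgR hgV hgg ?_ ((card_conjMap X n).trans hc) fun x hx => ?_
      · rintro _ ⟨y, hy, rfl⟩; rw [← map_mul, hsq y hy, map_one]
      · exact (hn.le (Subgroup.map_mono (hX.trans hRT1) hx) :)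
    have hnR : R.map (MulAut.conj n).toMonoidHom = R := by
      refine Subgroup.eq_of_le_of_card_ge ?_ (card_conjMap R n).ge
      rintro _ ⟨r, hr, rfl⟩
      obtain ⟨a, ha, v, hv, rfl⟩ := P.prod r hr
      rw [map_mul]
      exact R.mul_mem (hflat A P.A_le P.sA.sq_U P.sA.card_U ⟨a, ha, rfl⟩)
        (hflat V P.V_le P.sV.sq_U P.sV.card_U ⟨v, hv, rfl⟩)
    rcases P.perm hnR with ⟨hV, -⟩ | ⟨hV, -⟩
    · exact hnT1 (hRT1 (P.mem_of_fix T.2 (hRT1.trans hT) hnT hV))
    · have hgn' : V.map (MulAut.conj (g * n)).toMonoidHom = V := by rw [← conjMap_mul, hV, hgA]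
      have h1 := P.mem_of_fix T.2 (hRT1.trans hT) ((T : Subgroup G).mul_mem (hT hgT1) hnT) hgn'
      have h2 := T1.mul_mem hgT1 (hRT1 h1)
      rw [← mul_assoc, hgg, one_mul] at h2
      exact hnT1 h2
  -- transfer: `g` is conjugate into `R`
  obtain ⟨γ, hγ⟩ : ∃ γ : G, γ * g * γ⁻¹ ∈ R := by
    by_contra hno
    push Not at hno
    obtain ⟨M, hM, hMi, -⟩ := TransferThompson.thompson_transfer T R (hRT1.trans hT) (by
      have h1 := (R.subgroupOf (T : Subgroup G)).card_mul_index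
      rw [Nat.card_congr (Subgroup.subgroupOfEquivOfLe (hRT1.trans hT)).toEquiv, ← hTeq, hT1card,
        hRcard] at h1
      rw [← hTeq, Subgroup.relIndex]
      omega) (orderOf_eq_two hgg hg1) (hT hgT1) hno
    rcases hM.eq_bot_or_eq_top with e | e
    · rw [e, Subgroup.index_bot] at hMi
      have h1 := Subgroup.card_le_card_group R
      omega
    · rw [e, Subgroup.index_top] at hMi
      omega
  obtain ⟨δ, hδ⟩ : ∃ δ : G, δ * g * δ⁻¹ = z := by
    set x := γ * g * γ⁻¹ with hx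
    have hxx : x * x = 1 := by
      calc x * x = γ * (g * g) * γ⁻¹ := by rw [hx]; group
        _ = 1 := by rw [hgg]; group
    have hx1 : x ≠ 1 := fun e => hg1 (conj_inj (n := γ) (by rw [← hx, e]; group))
    have key : ∀ y ∈ V, y ≠ 1 → ∃ δ : G, δ * y * δ⁻¹ = z := by
      intro y hy hy1
      obtain ⟨R', hR', hyW⟩ := P.sV.fixed_cover y hy
      obtain ⟨m, hm, hmR⟩ := P.sV.syl_conj R' R hR' P.hV
      have h1 : m * y * m⁻¹ ∈ Wd V R := hmR ▸ conj_mem_Wd P.sV hm hyW
      have h1' : m * y * m⁻¹ ≠ 1 := fun e => hy1 (conj_inj (n := m) (by rw [e]; group))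
      rcases horb h1 h1' with e | e | e
      · exact ⟨m, e⟩
      · refine ⟨h⁻¹ * m, ?_⟩
        calc h⁻¹ * m * y * (h⁻¹ * m)⁻¹ = h⁻¹ * (m * y * m⁻¹) * h := by group
          _ = h⁻¹ * (h * z * h⁻¹) * h := by rw [e]
          _ = z := by group
      · refine ⟨h * m, ?_⟩
        calc h * m * y * (h * m)⁻¹ = h * (m * y * m⁻¹) * h⁻¹ := by group
          _ = h * (h⁻¹ * z * h) * h⁻¹ := by rw [e]
          _ = z := by group
    rcases P.invol_mem hγ hxx with hxV | hxA
    · obtain ⟨δ, hδ⟩ := key x hxV hx1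
      exact ⟨δ * γ, by rw [← hδ, hx]; group⟩
    · obtain ⟨δ, hδ⟩ := key (g * x * g⁻¹) (hgA ▸ conj_mem_conjMap hxA)
        (fun e => hx1 (conj_inj (n := g) (by rw [e]; group)))
      exact ⟨δ * g * γ, by rw [← hδ, hx]; group⟩
  -- centralisers
  have hCcard : ∀ y : G, y * y = 1 → y ≠ 1 → Nat.card ↥(Subgroup.centralizer ({y} : Set G)) ≤ 128 :=
    fun y hy hy1 => by
      obtain ⟨T', hT'⟩ := (hCIT y (orderOf_eq_two hy hy1)).exists_le_sylow
      refine (Subgroup.card_le_of_le hT').trans ?_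
      rw [Sylow.card_eq_multiplicity, ← Sylow.card_eq_multiplicity T, ← hTeq, hT1card]
  have hzc : g * z = z * g := by
    calc g * z = g * z * (g * g) := by rw [hgg, mul_one]
      _ = (g * z * g) * g := by group
      _ = z * g := by rw [hzg]
  have hCz : Subgroup.centralizer ({z} : Set G) = T1 := by
    refine (Subgroup.eq_of_le_of_card_ge ?_ ?_).symm
    · rintro x (hx | hx) <;> rw [Subgroup.mem_centralizer_singleton_iff]
      · exact hWc z hz x hx
      · calc x * z = x * (z * g * g) := by rw [mul_assoc z, hgg, mul_one]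
          _ = x * (g * z) * g := by rw [hzc]; group
          _ = (x * g * z) * g := by group
          _ = z * x * (g * g) := by rw [hWc z hz _ hx]; group
          _ = z * x := by rw [hgg, mul_one]
    · rw [hT1card]; exact hCcard z (hWsq z hz) hz1
  have hCg : Nat.card ↥(Subgroup.centralizer ({g} : Set G)) = 128 := by
    have e : Subgroup.centralizer ({z} : Set G) =
        (Subgroup.centralizer ({g} : Set G)).map (MulAut.conj δ).toMonoidHom := by
      ext x
      rw [mem_conjMap, Subgroup.mem_centralizer_singleton_iff,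
        Subgroup.mem_centralizer_singleton_iff, ← hδ]
      constructor <;> intro hx
      · calc δ⁻¹ * x * δ * g = δ⁻¹ * (x * (δ * g * δ⁻¹)) * δ := by group
          _ = δ⁻¹ * (δ * g * δ⁻¹ * x) * δ := by rw [hx]
          _ = _ := by group
      · calc x * (δ * g * δ⁻¹) = δ * (δ⁻¹ * x * δ * g) * δ⁻¹ := by group
          _ = δ * (g * (δ⁻¹ * x * δ)) * δ⁻¹ := by rw [hx]
          _ = _ := by group
    rw [← card_conjMap _ δ, ← e, hCz, hT1card]
  set Y := T1 ⊓ Subgroup.centralizer ({g} : Set G) with hY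
  have hYlt : Y < Subgroup.centralizer ({g} : Set G) := by
    refine lt_of_le_of_ne inf_le_right fun e => ?_
    have hle : Subgroup.centralizer ({g} : Set G) ≤ T1 := e.ge.trans inf_le_left
    have heq := Subgroup.eq_of_le_of_card_ge hle (by rw [hT1card, hCg])
    obtain ⟨v, hv, hvA⟩ := P.exists_V_not_A
    have h1 : v ∈ Subgroup.centralizer ({g} : Set G) := heq ▸ hRT1 (P.V_le hv)
    rw [Subgroup.mem_centralizer_singleton_iff] at h1
    have h2 : g * v * g⁻¹ ∈ A := hgV ▸ conj_mem_conjMap hv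
    rw [← h1, mul_inv_cancel_right] at h2
    exact hvA h2
  obtain ⟨n, hnC, hnY, hn⟩ := exists_gt_normalizer (hCIT g (orderOf_eq_two hgg hg1)) hYlt
  -- the commutators of `Y`
  have hYder : ∀ a ∈ Y, ∀ b ∈ Y, a * b * a⁻¹ * b⁻¹ = 1 ∨ a * b * a⁻¹ * b⁻¹ = z := by
    have hcore : ∀ a ∈ R, ∀ b ∈ R, a * g = g * a → b * g = g * b →
        a * b * a⁻¹ * b⁻¹ = 1 ∨ a * b * a⁻¹ * b⁻¹ = z := by
      intro a ha b hb hag hbg
      refine hfixW _ (P.der ha hb) ?_
      calc g * (a * b * a⁻¹ * b⁻¹) * g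
          = (g * a * g⁻¹) * (g * b * g⁻¹) * (g * a * g⁻¹)⁻¹ * (g * b * g⁻¹)⁻¹ := by
            nth_rewrite 2 [← hgi]; group
        _ = _ := by rw [← hag, ← hbg, mul_inv_cancel_right, mul_inv_cancel_right]
    have hred : ∀ a ∈ Y, ∃ r ∈ R, r * g = g * r ∧ (a = r ∨ a = r * g) := by
      rintro a ⟨ha | ha, hac⟩ <;>
        have hac' : a * g = g * a := Subgroup.mem_centralizer_singleton_iff.1 hac
      · exact ⟨a, ha, hac', Or.inl rfl⟩
      · refine ⟨a * g, ha, ?_, Or.inr (by rw [mul_assoc, hgg, mul_one])⟩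
        rw [← mul_assoc, ← hac']
    intro a ha b hb
    obtain ⟨r, hr, hrg, hra⟩ := hred a ha
    obtain ⟨s, hs, hsg, hsb⟩ := hred b hb
    have hcr : Commute g r := hrg.symm
    have hcs : Commute g s := hsg.symm
    have key : a * b * a⁻¹ * b⁻¹ = r * s * r⁻¹ * s⁻¹ := by
      rcases hra with ea | ea <;> rcases hsb with eb | eb <;> rw [ea, eb]
      · calc r * (s * g) * r⁻¹ * (s * g)⁻¹ = r * s * (g * r⁻¹) * g⁻¹ * s⁻¹ := by group
          _ = _ := by rw [hcr.inv_right.eq]; group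
      · calc r * g * s * (r * g)⁻¹ * s⁻¹ = r * (g * s) * g⁻¹ * r⁻¹ * s⁻¹ := by group
          _ = _ := by rw [hcs.eq]; group
      · calc r * g * (s * g) * (r * g)⁻¹ * (s * g)⁻¹ = r * (g * s) * r⁻¹ * g⁻¹ * s⁻¹ := by group
          _ = r * (s * g) * r⁻¹ * g⁻¹ * s⁻¹ := by rw [hcs.eq]
          _ = r * s * (g * r⁻¹) * g⁻¹ * s⁻¹ := by group
          _ = _ := by rw [hcr.inv_right.eq]; group
    rw [key]
    exact hcore r hr s hs hrg hsg
  obtain ⟨r1, r2, h1R, h2R, h1g, h2g, h12⟩ : ∃ r1 r2, r1 ∈ R ∧ r2 ∈ R ∧ r1 * g = g * r1 ∧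
      r2 * g = g * r2 ∧ r1 * r2 * r1⁻¹ * r2⁻¹ = z := by
    obtain ⟨u, hu, huA⟩ := P.exists_V_not_A
    set u' := g * u * g⁻¹ with hu'
    have hu'A : u' ∈ A := hgV ▸ conj_mem_conjMap hu
    have hu'V : u' ∉ V := fun e => huA (by
      have h0 : g * u' * g⁻¹ ∈ A := hgV ▸ conj_mem_conjMap e
      rwa [show g * u' * g⁻¹ = u by
        rw [hu', hgi]
        calc g * (g * u * g) * g = (g * g) * u * (g * g) := by group
          _ = u := by rw [hgg]; group] at h0)
    have huR := P.V_le hu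
    have hu'R := P.A_le hu'A
    have hui : u⁻¹ = u := inv_eq_of_mul_eq_one_right (P.sV.sq_U u hu)
    have hu'i : u'⁻¹ = u' := inv_eq_of_mul_eq_one_right (P.sA.sq_U u' hu'A)
    -- `[u, u'] = z`
    set k := u * u' * u⁻¹ * u'⁻¹ with hk
    have hkW : k ∈ Wd V R := P.der huR hu'R
    have hgu : g * u * g = u' := by rw [hu', hgi]
    have hgu' : g * u' * g = u := by
      rw [← hgu]
      calc g * (g * u * g) * g = (g * g) * u * (g * g) := by group
        _ = u := by rw [hgg]; group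
    have hkz : k = z := by
      refine (hfixW k hkW ?_).resolve_left fun e => huA (P.W_le_A (mem_Wd_of_commute P.sV P.hV hu'R
        hu'V hu (by
          calc u * u' = k * (u' * u) := by rw [hk]; group
            _ = _ := by rw [e, one_mul])))
      calc g * k * g = (g * u * g⁻¹) * (g * u' * g⁻¹) * (g * u * g⁻¹)⁻¹ * (g * u' * g⁻¹)⁻¹ := by
            rw [hk]; nth_rewrite 2 [← hgi]; group
        _ = u' * u * u'⁻¹ * u⁻¹ := by rw [hgi, hgu, hgu']
        _ = k⁻¹ := by rw [hk]; group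
        _ = k := inv_eq_of_mul_eq_one_right (hWsq k hkW)
    -- `w` with `w · gwg = z`
    obtain ⟨w, hw, hwz⟩ : ∃ w ∈ Wd V R, g * w * g = z * w := by
      refine ⟨h * z * h⁻¹, hW1 z hz, ?_⟩
      set w := h * z * h⁻¹
      have hw : w ∈ Wd V R := hW1 z hz
      have hww : g * w * g * w ∈ Wd V R := (Wd V R).mul_mem (hgWd w hw) hw
      have hfix : g * (g * w * g * w) * g = g * w * g * w := by
        calc g * (g * w * g * w) * g = (g * g) * w * (g * w * g) := by group
          _ = w * (g * w * g) := by rw [hgg, one_mul]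
          _ = _ := P.sV.comm_U w hw.1 _ (hgWd w hw).1
      rcases hfixW _ hww hfix with e | e
      · exfalso
        have e' : g * w * g = w := by
          rw [eq_inv_of_mul_eq_one_left e, inv_eq_of_mul_eq_one_right (hWsq w hw)]
        rcases hfixW w hw e' with e2 | e2
        · exact hz1 (conj_inj (n := h) (by
            show h * z * h⁻¹ = h * 1 * h⁻¹
            rw [show h * 1 * h⁻¹ = (1 : G) by group]; exact e2))
        · have hc : h * z = z * h := mul_inv_eq_iff_eq_mul.1 e2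
          exact hz1 (fpf hCIT P.sV.pGroup_D (x := h) (by rw [hho]; decide)
            (fun e => by rw [e, orderOf_one] at hho; omega) hz.1 hc)
      · rw [← e, mul_assoc _ w w, hWsq w hw, mul_one]
    -- the second element
    set a := h * u' * h⁻¹ with ha
    have haA : a ∈ A := hhA ▸ conj_mem_conjMap hu'A
    set x := g * a * g⁻¹ with hx
    have hxV : x ∈ V := hgA ▸ conj_mem_conjMap haA
    have hxR := P.V_le hxV
    have haR := P.A_le haA
    set β := u * a * u⁻¹ * a⁻¹ with hβ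
    have hβW : β ∈ Wd V R := P.der huR haR
    have hβe : β = h⁻¹ * z * h := by
      rw [hβ, ha, P.twistA hu'A huR (P.fix_A hhR (mem_normalizer_of_conjMap hhV)) hhR,
        ← hk, hkz]
    have hβnf : g * β * g ≠ β := fun e => by
      rcases hfixW β hβW e with e2 | e2
      · rw [hβe] at e2
        exact hz1 (conj_inj (n := h⁻¹) (by rw [inv_inv, e2]; group))
      · rw [hβe] at e2
        have hc : h * z = z * h := by
          calc h * z = h * (h⁻¹ * z * h) := by rw [e2]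
            _ = z * h := by group
        exact hz1 (fpf hCIT P.sV.pGroup_D (x := h) (by rw [hho]; decide)
          (fun e => by rw [e, orderOf_one] at hho; omega) hz.1 hc)
    have hxa : g * x * g = a := by
      rw [hx, hgi]
      calc g * (g * a * g) * g = (g * g) * a * (g * g) := by group
        _ = a := by rw [hgg]; group
    have hga : g * a * g = x := by rw [hx, hgi]
    -- general fixed element
    have hfixed : ∀ p q : G, p ∈ V → q ∈ A → g * p * g = q → g * q * g = p → p ∉ A →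
        ∃ r ∈ R, r * g = g * r ∧ ∀ s ∈ R, r * s * r⁻¹ * s⁻¹ = p * q * s * (p * q)⁻¹ * s⁻¹ := by
      intro p q hp hq hpq hqp hpA
      set k' := p * q * p⁻¹ * q⁻¹ with hk'
      have hk'W : k' ∈ Wd V R := P.der (P.V_le hp) (P.A_le hq)
      have hk'k : g * k' * g = k' := by
        calc g * k' * g = (g * p * g⁻¹) * (g * q * g⁻¹) * (g * p * g⁻¹)⁻¹ * (g * q * g⁻¹)⁻¹ := by
              rw [hk']; nth_rewrite 2 [← hgi]; group
          _ = q * p * q⁻¹ * p⁻¹ := by rw [hgi, hpq, hqp]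
          _ = k'⁻¹ := by rw [hk']; group
          _ = k' := inv_eq_of_mul_eq_one_right (hWsq k' hk'W)
      have hk'z : k' = z := (hfixW k' hk'W hk'k).resolve_left fun e => hpA (P.W_le_A
        (mem_Wd_of_commute P.sV P.hV (P.A_le hq) (fun hqV => by
          have h0 : g * q * g⁻¹ ∈ A := hgV ▸ conj_mem_conjMap hqV
          rw [hgi, hqp] at h0
          exact hpA h0) hp (by
          calc p * q = k' * (q * p) := by rw [hk']; group
            _ = _ := by rw [e, one_mul])))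
      refine ⟨p * q * w, R.mul_mem (R.mul_mem (P.V_le hp) (P.A_le hq)) (hWR w hw), ?_, ?_⟩
      · have e1 : g * (p * q * w) * g⁻¹ = p * q * w := by
          have hc : (q * p) * z = z * (q * p) :=
            hWc z hz _ (R.mul_mem (P.A_le hq) (P.V_le hp))
          calc g * (p * q * w) * g⁻¹ = (g * p * g⁻¹) * (g * q * g⁻¹) * (g * w * g⁻¹) := by group
            _ = q * p * (z * w) := by rw [hgi, hpq, hqp, hwz]
            _ = k' * (q * p) * w := by rw [← mul_assoc, hc, hk'z]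
            _ = p * q * w := by rw [hk']; group
        exact (mul_inv_eq_iff_eq_mul.1 e1).symm
      · intro s hs
        calc p * q * w * s * (p * q * w)⁻¹ * s⁻¹ = p * q * (w * s) * w⁻¹ * (p * q)⁻¹ * s⁻¹ := by
              group
          _ = _ := by rw [← hWc w hw s hs]; group
    obtain ⟨r1, h1R, h1g, h1⟩ := hfixed u u' hu hu'A hgu hgu' huA
    obtain ⟨r2, h2R, h2g, h2⟩ := hfixed x a hxV haA hxa hga fun hxA => by
      refine hβnf ?_
      have haW : a ∈ Wd V R := by
        rw [← P.inter]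
        refine ⟨haA, ?_⟩
        have h0 : g * x * g⁻¹ ∈ V := hgA ▸ conj_mem_conjMap hxA
        rwa [hgi, hxa] at h0
      have : β = 1 := xi_Wd huR haW
      rw [this, mul_one, hgg]
    refine ⟨r1, r2, h1R, h2R, h1g, h2g, ?_⟩
    have hh2 := h2 (u * u') (R.mul_mem huR hu'R)
    -- reduce to `[u u', x a]`
    have e0 : r1 * r2 * r1⁻¹ * r2⁻¹ = u * u' * (x * a) * (u * u')⁻¹ * (x * a)⁻¹ := by
      calc r1 * r2 * r1⁻¹ * r2⁻¹ = u * u' * r2 * (u * u')⁻¹ * r2⁻¹ := h1 r2 h2R
        _ = (r2 * (u * u') * r2⁻¹ * (u * u')⁻¹)⁻¹ := by group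
        _ = (x * a * (u * u') * (x * a)⁻¹ * (u * u')⁻¹)⁻¹ := by rw [hh2]
        _ = _ := by group
    set γ' := u' * x * u'⁻¹ * x⁻¹ with hγ'
    have hγ'W : γ' ∈ Wd V R := P.der hu'R hxR
    have hγ'e : γ' = g * β * g := by
      calc γ' = (g * u * g⁻¹) * (g * a * g⁻¹) * (g * u * g⁻¹)⁻¹ * (g * a * g⁻¹)⁻¹ := by
            rw [hγ', hu', hx]
        _ = g * β * g⁻¹ := by rw [hβ]; group
        _ = _ := by rw [hgi]
    have e1 : r1 * r2 * r1⁻¹ * r2⁻¹ = γ' * β := by
      calc r1 * r2 * r1⁻¹ * r2⁻¹ = u * γ' * x * (u' * a * u'⁻¹) * u⁻¹ * a⁻¹ * x⁻¹ := by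
            rw [e0, hγ']; group
        _ = u * γ' * x * a * u⁻¹ * a⁻¹ * x⁻¹ := by rw [P.A_comm hu'A haA, mul_inv_cancel_right]
        _ = γ' * (u * x) * a * u⁻¹ * a⁻¹ * x⁻¹ := by rw [hWc γ' hγ'W u huR]; group
        _ = γ' * (x * β) * x⁻¹ := by rw [P.sV.comm_U u hu x hxV, hβ]; group
        _ = γ' * β := by rw [hWc β hβW x hxR]; group
    rw [e1]
    have hmem : γ' * β ∈ Wd V R := (Wd V R).mul_mem hγ'W hβW
    refine (hfixW _ hmem ?_).resolve_left fun e => hβnf ?_
    · rw [hγ'e]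
      calc g * (g * β * g * β) * g = (g * g) * β * (g * β * g) := by group
        _ = β * (g * β * g) := by rw [hgg, one_mul]
        _ = _ := P.sV.comm_U β hβW.1 _ (hgWd β hβW).1
    · rw [hγ'e] at e
      rw [eq_inv_of_mul_eq_one_left e, inv_eq_of_mul_eq_one_right (hWsq β hβW)]
  -- `n` centralises `z`
  have hmemY : ∀ r ∈ R, r * g = g * r → r ∈ Y := fun r hr hc =>
    ⟨hRT1 hr, Subgroup.mem_centralizer_singleton_iff.2 hc⟩
  have hnz : n * z * n⁻¹ = z := by
    have h1 : n * r1 * n⁻¹ ∈ Y := hn ▸ conj_mem_conjMap (hmemY r1 h1R h1g)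
    have h2 : n * r2 * n⁻¹ ∈ Y := hn ▸ conj_mem_conjMap (hmemY r2 h2R h2g)
    have e : n * z * n⁻¹ = (n * r1 * n⁻¹) * (n * r2 * n⁻¹) * (n * r1 * n⁻¹)⁻¹ *
        (n * r2 * n⁻¹)⁻¹ := by rw [← h12]; group
    rw [e]
    refine (hYder _ h1 _ h2).resolve_left fun h0 => hz1 (conj_inj (n := n) ?_)
    rw [e, h0]; group
  have hnCz : n ∈ Subgroup.centralizer ({z} : Set G) :=
    Subgroup.mem_centralizer_singleton_iff.2 (mul_inv_eq_iff_eq_mul.1 hnz)
  rw [hCz] at hnCz
  exact hnY ⟨hnCz, hnC⟩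

/-- The flats are not conjugate. -/
theorem Pair.not_conj (P : Pair V A R c) (T : Sylow 2 G) (hT : (T : Subgroup G) = R)
    (γ : G) : V.map (MulAut.conj γ).toMonoidHom ≠ A := by
  intro hγ
  have hS : IsSyl (Subgroup.normalizer (V : Set G)) V c (R.map (MulAut.conj γ⁻¹).toMonoidHom) := by
    refine ⟨?_, P.hV.2.1.map _, (card_conjMap R γ⁻¹).trans P.hV.2.2⟩
    rintro _ ⟨r, hr, rfl⟩
    refine mem_normalizer_of_conjMap ?_
    show V.map (MulAut.conj (γ⁻¹ * r * γ⁻¹⁻¹)).toMonoidHom = V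
    rw [inv_inv, ← conjMap_mul, ← conjMap_mul, hγ, conjMap_of_mem_normalizer (P.hA.1 hr),
      conjMap_inv_eq hγ]
  obtain ⟨e, he, heR⟩ := P.sV.syl_conj R _ P.hV hS
  set n := γ * e with hn
  have hnR : R.map (MulAut.conj n).toMonoidHom = R := by
    rw [hn, ← conjMap_mul, heR, conjMap_mul, mul_inv_cancel, conjMap_one]
  have hnV : V.map (MulAut.conj n).toMonoidHom = A := by
    rw [hn, ← conjMap_mul, conjMap_of_mem_normalizer he, hγ]
  have hnA := (P.swap_of_not_fix hnR (fun e => P.ne (e.symm.trans hnV))).2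
  have h2 : V.map (MulAut.conj (n * n)).toMonoidHom = V := by rw [← conjMap_mul, hnV, hnA]
  obtain ⟨k, m, hm, hk⟩ := Nat.exists_eq_two_pow_mul_odd (orderOf_pos n).ne'
  set y := n ^ m with hy
  have hy2 : y ^ 2 ^ k = 1 := by rw [hy, ← pow_mul, mul_comm, ← hk, pow_orderOf_eq_one]
  have hyR' : y ∈ Subgroup.normalizer (R : Set G) := pow_mem (mem_normalizer_of_conjMap hnR) m
  have hyp : IsPGroup 2 ↥(Subgroup.zpowers y) := by
    obtain ⟨i, -, hi⟩ := (Nat.dvd_prime_pow Nat.prime_two).1 (orderOf_dvd_of_pow_eq_one hy2)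
    exact IsPGroup.of_card (n := i) (by rw [Nat.card_zpowers, hi])
  have hp : IsPGroup 2 ↥(Subgroup.zpowers y ⊔ R) :=
    hyp.to_sup_of_normal_right' P.hV.2.1 (Subgroup.zpowers_le.2 hyR')
  have heq := T.is_maximal' hp (hT ▸ le_sup_right)
  have hyR : y ∈ R := by
    rw [← hT, ← heq]
    exact (le_sup_left (b := R)) (Subgroup.mem_zpowers y)
  obtain ⟨j, rfl⟩ := hm
  have hyV : V.map (MulAut.conj y).toMonoidHom = V := conjMap_of_mem_normalizer (P.hV.1 hyR)
  have hnn : (n * n) ^ j ∈ Subgroup.normalizer (V : Set G) :=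
    pow_mem (mem_normalizer_of_conjMap h2) j
  have : n ∈ Subgroup.normalizer (V : Set G) := by
    have hy' : y = (n * n) ^ j * n := by rw [hy, pow_succ, pow_mul, pow_two]
    rw [show n = ((n * n) ^ j)⁻¹ * y by rw [hy']; group]
    exact mul_mem (inv_mem hnn) (mem_normalizer_of_conjMap hyV)
  exact P.ne ((conjMap_of_mem_normalizer this).symm.trans hnV)

end Flats73

open Flats73 in
/-- From `ELocal N V V c` with `4 ≤ c` to the configuration of `PSL₃(4)`. -/
theorem flatsSpec (hQ : QuadraticSpec G) : FlatsSpec G := by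
  intro hCIT hsimp ⟨N, V, c, hc, hE⟩
  obtain ⟨R, hR, -⟩ := hE.sl2.exists_syl ⊥ bot_le IsPGroup.of_bot
  obtain ⟨A, P⟩ := exists_pair hCIT hQ hsimp hE hR
  obtain rfl := P.c_eq_four hCIT hc
  obtain ⟨T, hT⟩ := P.sylow hCIT hsimp
  refine ⟨V, A, R, ⟨⟨T, hT⟩, ?_, P.V_le, P.A_le, ?_, ?_, fun x hx h => P.invol_mem hx h, P.sV, P.sA,
    P.cV, P.cA, P.not_conj T hT⟩⟩
  · rw [P.hV.2.2, P.sV.card_U]; norm_num
  · rw [inf_comm, P.inter]; exact P.card_W
  · rw [inf_comm V A, P.inter]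
    refine le_antisymm (fun x hx => ?_) fun x hx => ⟨P.V_le hx.1, hx.2⟩
    refine ⟨?_, hx.2⟩
    rw [← P.cV]
    exact Subgroup.centralizer_le (fun v hv => P.V_le hv) hx.2

end Cfsg.Agent.CIT21
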