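import Cfsg.Agent.Lib.CIT21Defs

/-!
# Consequences of `SL2Like N U U c`

The twist lemma: for a Sylow subgroup `R`, elements `a ∈ R`, `v ∈ U` and `b ∈ N` normalising `R` we have
`[a, b v b⁻¹] = b⁻¹ [a, v] b`.
-/

set_option autoImplicit false
set_option linter.unusedSectionVars false
set_option linter.unusedVariables false

namespace Cfsg.Agent.CIT21

variable {G : Type*} [Group G] [Finite G]

namespace Flats73

/-- The fixed space of `R` in `U`. -/
def Wd (U R : Subgroup G) : Subgroup G := U ⊓ Subgroup.centralizer (R : Set G)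

omit [Finite G] in
theorem mem_Wd {U R : Subgroup G} {x : G} : x ∈ Wd U R ↔ x ∈ U ∧ ∀ r ∈ R, r * x = x * r :=
  ⟨fun h => ⟨h.1, fun r hr => Subgroup.mem_centralizer_iff.1 h.2 r hr⟩,
    fun h => ⟨h.1, Subgroup.mem_centralizer_iff.2 h.2⟩⟩

omit [Finite G] in
theorem mem_conjMap {R : Subgroup G} {g x : G} :
    x ∈ R.map (MulAut.conj g).toMonoidHom ↔ g⁻¹ * x * g ∈ R := by
  constructor
  · rintro ⟨y, hy, rfl⟩
    show g⁻¹ * (g * y * g⁻¹) * g ∈ R
    rwa [show g⁻¹ * (g * y * g⁻¹) * g = y by group]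
  · intro h
    exact ⟨_, h, show g * (g⁻¹ * x * g) * g⁻¹ = x by group⟩

omit [Finite G] in
theorem conj_mem_conjMap {R : Subgroup G} {g x : G} (h : x ∈ R) :
    g * x * g⁻¹ ∈ R.map (MulAut.conj g).toMonoidHom := ⟨x, h, rfl⟩

omit [Finite G] in
theorem conjMap_mul (R : Subgroup G) (g k : G) :
    (R.map (MulAut.conj k).toMonoidHom).map (MulAut.conj g).toMonoidHom =
      R.map (MulAut.conj (g * k)).toMonoidHom := by
  ext x
  simp only [mem_conjMap, mul_inv_rev, mul_assoc]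

omit [Finite G] in
theorem conjMap_one (R : Subgroup G) : R.map (MulAut.conj (1 : G)).toMonoidHom = R := by
  ext x; simp [mem_conjMap]

omit [Finite G] in
theorem conjMap_inv_eq {R R' : Subgroup G} {g : G} (h : R.map (MulAut.conj g).toMonoidHom = R') :
    R'.map (MulAut.conj g⁻¹).toMonoidHom = R := by
  rw [← h, conjMap_mul, inv_mul_cancel, conjMap_one]

omit [Finite G] in
theorem conjMap_of_mem {R : Subgroup G} {r : G} (hr : r ∈ R) :
    R.map (MulAut.conj r).toMonoidHom = R := by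
  ext x
  rw [mem_conjMap]
  exact ⟨fun h => by simpa [mul_assoc] using R.mul_mem (R.mul_mem hr h) (R.inv_mem hr),
    fun h => R.mul_mem (R.mul_mem (R.inv_mem hr) h) hr⟩

omit [Finite G] in
theorem mem_normalizer_of_conjMap {R : Subgroup G} {g : G}
    (h : R.map (MulAut.conj g).toMonoidHom = R) : g ∈ Subgroup.normalizer (R : Set G) := by
  refine Subgroup.mem_normalizer_iff.2 fun y => ?_
  constructor
  · intro hy; rw [← h]; exact conj_mem_conjMap hy
  · intro hy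
    rw [← h, mem_conjMap] at hy
    simpa [mul_assoc] using hy

omit [Finite G] in
theorem conjMap_of_mem_normalizer {R : Subgroup G} {g : G}
    (h : g ∈ Subgroup.normalizer (R : Set G)) : R.map (MulAut.conj g).toMonoidHom = R := by
  ext x
  rw [mem_conjMap, Subgroup.mem_normalizer_iff.1 h]
  group

theorem card_conjMap (R : Subgroup G) (g : G) :
    Nat.card ↥(R.map (MulAut.conj g).toMonoidHom) = Nat.card ↥R :=
  Subgroup.card_map_of_injective (MulAut.conj g).injective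

variable {N U : Subgroup G} {c : ℕ}

theorem conj_syl (h : SL2Like N U U c) {R : Subgroup G} (hR : IsSyl N U c R) {n : G} (hn : n ∈ N) :
    IsSyl N U c (R.map (MulAut.conj n).toMonoidHom) := by
  refine ⟨?_, hR.2.1.map _, (card_conjMap R n).trans hR.2.2⟩
  rintro _ ⟨y, hy, rfl⟩
  exact N.mul_mem (N.mul_mem hn (hR.1 hy)) (N.inv_mem hn)

theorem conj_mem_U (h : SL2Like N U U c) {n u : G} (hn : n ∈ N) (hu : u ∈ U) : n * u * n⁻¹ ∈ U :=
  (Subgroup.mem_normalizer_iff.1 (h.normal_U hn) u).1 hu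

theorem conj_mem_Wd (h : SL2Like N U U c) {R : Subgroup G} {n w : G} (hn : n ∈ N)
    (hw : w ∈ Wd U R) : n * w * n⁻¹ ∈ Wd U (R.map (MulAut.conj n).toMonoidHom) := by
  rw [mem_Wd] at hw ⊢
  refine ⟨conj_mem_U h hn hw.1, ?_⟩
  rintro _ ⟨y, hy, rfl⟩
  show n * y * n⁻¹ * (n * w * n⁻¹) = n * w * n⁻¹ * (n * y * n⁻¹)
  calc n * y * n⁻¹ * (n * w * n⁻¹) = n * (y * w) * n⁻¹ := by group
    _ = n * (w * y) * n⁻¹ := by rw [hw.2 y hy]
    _ = _ := by group

theorem mem_Wd_of_commute (h : SL2Like N U U c) {R : Subgroup G} (hR : IsSyl N U c R) {r u : G}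
    (hr : r ∈ R) (hrU : r ∉ U) (hu : u ∈ U) (hc : u * r = r * u) : u ∈ Wd U R := by
  show u ∈ U ⊓ Subgroup.centralizer (R : Set G)
  rw [← h.fixed_eq R hR r hr hrU]
  exact ⟨hu, Subgroup.mem_centralizer_singleton_iff.2 hc⟩

/-- The commutator of `a ∈ R` and `v ∈ U` lies in the fixed space. -/
theorem xi_mem (h : SL2Like N U U c) {R : Subgroup G} (hR : IsSyl N U c R) {a v : G} (ha : a ∈ R)
    (hv : v ∈ U) : a * v * a⁻¹ * v⁻¹ ∈ Wd U R := by
  have e : a * v * a⁻¹ * v⁻¹ = (v * a * v⁻¹ * a⁻¹)⁻¹ := by group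
  rw [e]
  exact inv_mem (h.comm_fixed R hR v hv a ha)

theorem xi_mul (h : SL2Like N U U c) {R : Subgroup G} (hR : IsSyl N U c R) {a v v' : G} (ha : a ∈ R)
    (hv : v ∈ U) (hv' : v' ∈ U) :
    a * (v * v') * a⁻¹ * (v * v')⁻¹ = (a * v * a⁻¹ * v⁻¹) * (a * v' * a⁻¹ * v'⁻¹) := by
  have h1 : (a * v' * a⁻¹ * v'⁻¹) * v⁻¹ = v⁻¹ * (a * v' * a⁻¹ * v'⁻¹) :=
    h.comm_U _ (xi_mem h hR ha hv').1 _ (inv_mem hv)
  calc a * (v * v') * a⁻¹ * (v * v')⁻¹
      = a * v * a⁻¹ * ((a * v' * a⁻¹ * v'⁻¹) * v⁻¹) := by group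
    _ = a * v * a⁻¹ * (v⁻¹ * (a * v' * a⁻¹ * v'⁻¹)) := by rw [h1]
    _ = _ := by group

theorem xi_Wd {R : Subgroup G} {a w : G} (ha : a ∈ R) (hw : w ∈ Wd U R) :
    a * w * a⁻¹ * w⁻¹ = 1 := by
  rw [(mem_Wd.1 hw).2 a ha]; group

/-- A `2`-element of one Sylow subgroup fixing another lies in `U`. -/
theorem mem_U_of_fix (h : SL2Like N U U c) {R R' : Subgroup G} (hR : IsSyl N U c R)
    (hR' : IsSyl N U c R') (hne : R ≠ R') {r : G} (hr : r ∈ R)
    (hfix : R'.map (MulAut.conj r).toMonoidHom = R') : r ∈ U := by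
  have hz : Subgroup.zpowers r ≤ Subgroup.normalizer (R' : Set G) :=
    Subgroup.zpowers_le.2 (mem_normalizer_of_conjMap hfix)
  have hp : IsPGroup 2 ↥(Subgroup.zpowers r ⊔ R') :=
    (hR.2.1.to_le (Subgroup.zpowers_le.2 hr)).to_sup_of_normal_right' hR'.2.1 hz
  obtain ⟨R'', hR'', hle⟩ := h.exists_syl _ (sup_le (Subgroup.zpowers_le.2 (hR.1 hr)) hR'.1) hp
  have heq : R' = R'' :=
    Subgroup.eq_of_le_of_card_ge (le_sup_right.trans hle) (by rw [hR''.2.2, hR'.2.2])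
  have : r ∈ R' := heq ▸ hle (le_sup_left (b := R') (Subgroup.mem_zpowers r))
  rw [← h.syl_inter R R' hR hR' hne]
  exact ⟨hr, this⟩

/-- A Sylow subgroup is transitive on the others. -/
theorem exists_conj_syl (h : SL2Like N U U c) {R' R₁ R₂ : Subgroup G} (hR' : IsSyl N U c R')
    (h1 : IsSyl N U c R₁) (h2 : IsSyl N U c R₂) (hne1 : R₁ ≠ R') (hne2 : R₂ ≠ R') :
    ∃ r ∈ R', R₁.map (MulAut.conj r).toMonoidHom = R₂ := by
  classical
  let T := {X : {R : Subgroup G // IsSyl N U c R} // X ≠ ⟨R', hR'⟩}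
  have hUR' : U ≤ R' := h.syl_ge R' hR'
  let K : Subgroup ↥R' := U.subgroupOf R'
  let f : ↥R' → T := fun r => ⟨⟨R₁.map (MulAut.conj (r : G)).toMonoidHom, conj_syl h h1 (hR'.1 r.2)⟩,
    fun e => hne1 (by
      have e' : R₁.map (MulAut.conj (r : G)).toMonoidHom = R' := congrArg Subtype.val e
      rw [← conjMap_inv_eq e', conjMap_of_mem (inv_mem r.2)])⟩
  have hf : ∀ a b : ↥R', f a = f b → a⁻¹ * b ∈ K := by
    intro a b e
    have e' : R₁.map (MulAut.conj (a : G)).toMonoidHom = R₁.map (MulAut.conj (b : G)).toMonoidHom :=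
      congrArg (fun X : T => X.1.1) e
    have := conjMap_inv_eq e'.symm.symm
    rw [conjMap_mul] at this
    rw [Subgroup.mem_subgroupOf]
    exact mem_U_of_fix h hR' h1 (fun e => hne1 e.symm) (R'.mul_mem (inv_mem a.2) b.2) this
  let g : ↥R' ⧸ K → T := fun q => f q.out
  have hg : Function.Injective g := by
    intro p q e
    rw [← QuotientGroup.out_eq' p, ← QuotientGroup.out_eq' q]
    exact QuotientGroup.eq.2 (hf _ _ e)
  have hcardq : Nat.card (↥R' ⧸ K) = c := by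
    have hU : Nat.card ↥U ≠ 0 := Nat.card_pos.ne'
    have e := K.card_eq_card_quotient_mul_card_subgroup
    rw [Nat.card_congr (Subgroup.subgroupOfEquivOfLe hUR').toEquiv, hR'.2.2, mul_comm] at e
    exact (Nat.eq_of_mul_eq_mul_right (Nat.pos_of_ne_zero hU) e).symm
  have hcardT : Nat.card T = c := by
    haveI := Fintype.ofFinite {R : Subgroup G // IsSyl N U c R}
    show Nat.card {X : {R : Subgroup G // IsSyl N U c R} // X ≠ ⟨R', hR'⟩} = c
    rw [Nat.card_eq_fintype_card, Fintype.card_subtype_compl, Fintype.card_subtype_eq,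
      ← Nat.card_eq_fintype_card, h.syl_count]
    omega
  obtain ⟨q, hq⟩ := ((Nat.bijective_iff_injective_and_card g).2 ⟨hg, hcardq.trans hcardT.symm⟩).2
    ⟨⟨R₂, h2⟩, fun e => hne2 (congrArg Subtype.val e)⟩
  exact ⟨q.out, (q.out).2, congrArg (fun X : T => X.1.1) hq⟩

theorem exists_other (h : SL2Like N U U c) (R : Subgroup G) :
    ∃ R', IsSyl N U c R' ∧ R' ≠ R := by
  by_contra hno
  push Not at hno
  have : Subsingleton {R : Subgroup G // IsSyl N U c R} :=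
    ⟨fun a b => Subtype.ext ((hno _ a.2).trans (hno _ b.2).symm)⟩
  have h1 := Finite.card_le_one_iff_subsingleton.2 this
  have h2 := h.syl_count
  have h3 := h.two_le
  omega

theorem exists_split (h : SL2Like N U U c) {R R' : Subgroup G} (hR : IsSyl N U c R)
    (hR' : IsSyl N U c R') (hne : R ≠ R') {v : G} (hv : v ∈ U) :
    ∃ w ∈ Wd U R, ∃ x ∈ Wd U R', w * x = v := by
  let f : ↥(Wd U R) × ↥(Wd U R') → ↥U := fun p => ⟨p.1 * p.2, U.mul_mem p.1.2.1 p.2.2.1⟩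
  have hinj : Function.Injective f := by
    rintro ⟨a, b⟩ ⟨a', b'⟩ e
    have e' : (a : G) * b = a' * b' := congrArg Subtype.val e
    have h1 : (a' : G)⁻¹ * a = b' * (b : G)⁻¹ :=
      calc (a' : G)⁻¹ * a = (a' : G)⁻¹ * (a * b) * (b : G)⁻¹ := by group
        _ = _ := by rw [e']; group
    have hmem : (a' : G)⁻¹ * a ∈ Wd U R ⊓ Wd U R' :=
      ⟨(Wd U R).mul_mem (inv_mem a'.2) a.2, h1 ▸ (Wd U R').mul_mem b'.2 (inv_mem b.2)⟩
    have : (a' : G)⁻¹ * a = 1 := by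
      have hbot := h.fixed_inter R R' hR hR' hne
      simp only [Wd] at hmem
      rw [hbot] at hmem
      exact Subgroup.mem_bot.1 hmem
    have ha : a = a' := Subtype.ext (inv_mul_eq_one.1 this).symm
    subst ha
    exact Prod.ext rfl (Subtype.ext (mul_left_cancel e'))
  have hcard : Nat.card (↥(Wd U R) × ↥(Wd U R')) = Nat.card ↥U := by
    rw [Nat.card_prod, h.card_U, sq]
    exact congrArg₂ (· * ·) (h.fixed_card R hR) (h.fixed_card R' hR')
  obtain ⟨⟨a, b⟩, e⟩ := ((Nat.bijective_iff_injective_and_card f).2 ⟨hinj, hcard⟩).2 ⟨v, hv⟩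
  exact ⟨a, a.2, b, b.2, congrArg Subtype.val e⟩

/-- The involution condition passes to all Sylow subgroups. -/
theorem invol_all (h : SL2Like N U U c) {R : Subgroup G} (hR : IsSyl N U c R)
    (hinv : ∀ r ∈ R, ∃ u ∈ U, (r * u) * (r * u) = 1) :
    ∀ R', IsSyl N U c R' → ∀ r ∈ R', ∃ u ∈ U, (r * u) * (r * u) = 1 := by
  intro R' hR' r hr
  obtain ⟨n, hn, e⟩ := h.syl_conj R R' hR hR'
  rw [← e, mem_conjMap] at hr
  obtain ⟨u, hu, hsq⟩ := hinv _ hr
  refine ⟨n * u * n⁻¹, conj_mem_U h hn hu, ?_⟩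
  calc r * (n * u * n⁻¹) * (r * (n * u * n⁻¹))
      = n * ((n⁻¹ * r * n * u) * (n⁻¹ * r * n * u)) * n⁻¹ := by group
    _ = 1 := by rw [hsq]; group

/-- The twist lemma. -/
theorem comm_twist (h : SL2Like N U U c) {R : Subgroup G} (hR : IsSyl N U c R)
    (hinv : ∀ R', IsSyl N U c R' → ∀ r ∈ R', ∃ u ∈ U, (r * u) * (r * u) = 1)
    {a : G} (ha : a ∈ R) {v : G} (hv : v ∈ U) {b : G} (hb : b ∈ N)
    (hbR : R.map (MulAut.conj b).toMonoidHom = R) :
    a * (b * v * b⁻¹) * a⁻¹ * (b * v * b⁻¹)⁻¹ = b⁻¹ * (a * v * a⁻¹ * v⁻¹) * b := by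
  by_cases haU : a ∈ U
  · rw [h.comm_U a haU _ (conj_mem_U h hb hv), h.comm_U a haU v hv]
    group
  obtain ⟨R', hR', hne⟩ := exists_other h R
  have hne' : R'.map (MulAut.conj b).toMonoidHom ≠ R := fun e => hne (by
    rw [← conjMap_inv_eq e, conjMap_inv_eq hbR])
  obtain ⟨r, hr, hrR⟩ := exists_conj_syl h hR hR' (conj_syl h hR' hb) hne hne'
  set k := r⁻¹ * b with hk
  have hkN : k ∈ N := N.mul_mem (inv_mem (hR.1 hr)) hb
  have hkR : R.map (MulAut.conj k).toMonoidHom = R := by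
    rw [hk, ← conjMap_mul, hbR, conjMap_of_mem (inv_mem hr)]
  have hkR' : R'.map (MulAut.conj k).toMonoidHom = R' := by
    rw [hk, ← conjMap_mul, conjMap_inv_eq hrR]
  obtain ⟨w, hw, x, hx, rfl⟩ := exists_split h hR hR' (Ne.symm hne) hv
  have hwU := hw.1
  have hxU := hx.1
  -- reduce to `k` and `x`
  have hkw : k * w * k⁻¹ ∈ Wd U R := by
    have := conj_mem_Wd h hkN hw; rwa [hkR] at this
  have hkx : k * x * k⁻¹ ∈ Wd U R' := by
    have := conj_mem_Wd h hkN hx; rwa [hkR'] at this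
  have hkwx : k * (w * x) * k⁻¹ ∈ U := conj_mem_U h hkN (U.mul_mem hwU hxU)
  have hlhs : a * (b * (w * x) * b⁻¹) * a⁻¹ * (b * (w * x) * b⁻¹)⁻¹
      = a * (k * x * k⁻¹) * a⁻¹ * (k * x * k⁻¹)⁻¹ := by
    have eb : b * (w * x) * b⁻¹ = (r * (k * (w * x) * k⁻¹) * r⁻¹ * (k * (w * x) * k⁻¹)⁻¹) *
        ((k * w * k⁻¹) * (k * x * k⁻¹)) := by
      rw [hk]; group
    have hxi := xi_mem h hR hr hkwx
    rw [eb, xi_mul h hR ha hxi.1 (U.mul_mem hkw.1 hkx.1), xi_Wd ha hxi, one_mul,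
      xi_mul h hR ha hkw.1 hkx.1, xi_Wd ha hkw, one_mul]
  have hrhs : b⁻¹ * (a * (w * x) * a⁻¹ * (w * x)⁻¹) * b = k⁻¹ * (a * x * a⁻¹ * x⁻¹) * k := by
    have hxi := xi_mem h hR ha hxU
    rw [xi_mul h hR ha hwU hxU, xi_Wd ha hw, one_mul]
    calc b⁻¹ * (a * x * a⁻¹ * x⁻¹) * b = k⁻¹ * (r⁻¹ * (a * x * a⁻¹ * x⁻¹) * r) * k := by
          rw [hk]; group
      _ = _ := by
          rw [(mem_Wd.1 hxi).2 r⁻¹ (inv_mem hr)]; group
  rw [hlhs, hrhs]
  -- the swapper through the third point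
  set R'' := R'.map (MulAut.conj a).toMonoidHom with hR''def
  have hR'' : IsSyl N U c R'' := conj_syl h hR' (hR.1 ha)
  have hne2 : R'' ≠ R := fun e => hne (by
    rw [← conjMap_inv_eq e, conjMap_of_mem (inv_mem ha)])
  have hne3 : R'' ≠ R' := fun e => haU (mem_U_of_fix h hR hR' (Ne.symm hne) ha e)
  obtain ⟨r', hr', hr'R⟩ := exists_conj_syl h hR'' hR hR' (Ne.symm hne2) (Ne.symm hne3)
  obtain ⟨u, hu, hσσ⟩ := hinv R'' hR'' r' hr'
  set σ := r' * u with hσ
  have hσR'' : σ ∈ R'' := R''.mul_mem hr' (h.syl_ge R'' hR'' hu)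
  have hσN : σ ∈ N := hR''.1 hσR''
  have hσR : R.map (MulAut.conj σ).toMonoidHom = R' := by
    rw [hσ, ← conjMap_mul, conjMap_of_mem (h.syl_ge R hR hu), hr'R]
  have hσU : σ ∉ U := fun hσ' => hne (by rw [← hσR, conjMap_of_mem (h.syl_ge R hR hσ')])
  have hσi : σ⁻¹ = σ := inv_eq_of_mul_eq_one_right hσσ
  have hσR' : R'.map (MulAut.conj σ).toMonoidHom = R := by
    have := conjMap_inv_eq hσR; rwa [hσi] at this
  have hcore : ∀ y ∈ Wd U R', a * y * a⁻¹ * y⁻¹ = σ * y * σ := by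
    intro y hy
    set e := σ * y * σ with he
    have heW : e ∈ Wd U R := by
      have := conj_mem_Wd h hσN hy; rwa [hσR', hσi] at this
    have hfix : e * y ∈ Wd U R'' := by
      refine mem_Wd_of_commute h hR'' hσR'' hσU (U.mul_mem heW.1 hy.1) ?_
      have hey : e * y = y * e := h.comm_U e heW.1 y hy.1
      calc e * y * σ = σ * y * (σ * y * σ) := by rw [he]; group
        _ = σ * (y * e) := by rw [he]; group
        _ = σ * (e * y) := by rw [hey]
    have hay : a * y * a⁻¹ ∈ Wd U R'' := conj_mem_Wd h (hR.1 ha) hy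
    have hmem : (a * y * a⁻¹) * (e * y)⁻¹ ∈ Wd U R ⊓ Wd U R'' := by
      refine ⟨?_, (Wd U R'').mul_mem hay (inv_mem hfix)⟩
      rw [show (a * y * a⁻¹) * (e * y)⁻¹ = (a * y * a⁻¹ * y⁻¹) * e⁻¹ by group]
      exact (Wd U R).mul_mem (xi_mem h hR ha hy.1) (inv_mem heW)
    have hbot := h.fixed_inter R R'' hR hR'' (Ne.symm hne2)
    simp only [Wd] at hmem
    rw [hbot, Subgroup.mem_bot] at hmem
    calc a * y * a⁻¹ * y⁻¹ = (a * y * a⁻¹) * (e * y)⁻¹ * e := by group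
      _ = e := by rw [hmem, one_mul]
  rw [hcore _ hkx, hcore _ hx]
  -- `σ` inverts `k` modulo `U`
  obtain ⟨t, htN, hto, htR, htinv⟩ := h.swap R R' hR hR' (Ne.symm hne)
  have htt : t * t = 1 := by
    have := pow_orderOf_eq_one t; rwa [hto, sq] at this
  have hti : t⁻¹ = t := inv_eq_of_mul_eq_one_right htt
  have htR' : R'.map (MulAut.conj t).toMonoidHom = R := by
    have := conjMap_inv_eq htR; rwa [hti] at this
  set e := t * σ with he
  have heR : R.map (MulAut.conj e).toMonoidHom = R := by rw [he, ← conjMap_mul, hσR, htR']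
  have heR' : R'.map (MulAut.conj e).toMonoidHom = R' := by rw [he, ← conjMap_mul, hσR', htR]
  have hekR : R.map (MulAut.conj (e * k)).toMonoidHom = R := by rw [← conjMap_mul, hkR, heR]
  have hekR' : R'.map (MulAut.conj (e * k)).toMonoidHom = R' := by rw [← conjMap_mul, hkR', heR']
  have hd : σ * k * σ * k ∈ U := by
    have := htinv (e * k) ⟨⟨N.mul_mem (N.mul_mem htN hσN) hkN, mem_normalizer_of_conjMap hekR⟩,
      mem_normalizer_of_conjMap hekR'⟩
    have e1 : t * (e * k) * t * (e * k) = σ * k * σ * k := by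
      rw [he]
      calc t * (t * σ * k) * t * (t * σ * k) = (t * t) * σ * k * (t * t) * σ * k := by group
        _ = _ := by rw [htt]; group
    rwa [e1] at this
  set d := σ * k * σ * k with hddef
  have hσx : σ * x * σ ∈ U := by
    have := conj_mem_U h hσN hxU; rwa [hσi] at this
  have hk' : k⁻¹ * (σ * x * σ) * k ∈ U := by
    have := conj_mem_U h (inv_mem hkN) hσx; rwa [inv_inv] at this
  have hσkσ : σ * k * σ = d * k⁻¹ := by rw [hddef]; group
  calc σ * (k * x * k⁻¹) * σ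
      = (σ * k * σ⁻¹) * (σ * x * σ⁻¹) * (σ * k * σ⁻¹)⁻¹ := by
        nth_rewrite 2 [← hσi]; group
    _ = (σ * k * σ) * (σ * x * σ) * (σ * k * σ)⁻¹ := by rw [hσi]
    _ = d * (k⁻¹ * (σ * x * σ) * k) * d⁻¹ := by rw [hσkσ]; group
    _ = k⁻¹ * (σ * x * σ) * k := by rw [h.comm_U d hd _ hk', mul_inv_cancel_right]

end Flats73

end Cfsg.Agent.CIT21
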