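import Cfsg.Agent.Lib.CIT21FlatsBase
import Cfsg.Agent.Lib.CIT21Basic

/-!
# The second elementary abelian subgroup

In an `ELocal N V V c` a Sylow subgroup `R` of `N` contains a second elementary abelian subgroup `A` of
order `c²` with a normaliser of the same shape; then `c = 4`.
-/

set_option autoImplicit false
set_option linter.unusedSectionVars false

namespace Cfsg.Agent.CIT21

variable {G : Type*} [Group G] [Finite G]

namespace Flats73

/-- The two flats in `R`. -/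
structure Pair (V A R : Subgroup G) (c : ℕ) : Prop where
  sV : SL2Like (Subgroup.normalizer (V : Set G)) V V c
  sA : SL2Like (Subgroup.normalizer (A : Set G)) A A c
  hV : IsSyl (Subgroup.normalizer (V : Set G)) V c R
  hA : IsSyl (Subgroup.normalizer (A : Set G)) A c R
  cV : Subgroup.centralizer (V : Set G) = V
  cA : Subgroup.centralizer (A : Set G) = A
  inter : A ⊓ V = Wd V R
  prod : ∀ r ∈ R, ∃ a ∈ A, ∃ v ∈ V, r = a * v

theorem two_elt_odd {b : G} {p k : ℕ} (hp : p.Prime) (hb : orderOf b = p) (h : b ^ (3 * 2 ^ k) = 1)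
    (hodd : p ≠ 2) : p = 3 := by
  have h1 : p ∣ 3 * 2 ^ k := hb ▸ orderOf_dvd_of_pow_eq_one h
  rcases hp.dvd_mul.1 h1 with h2 | h2
  · exact (Nat.prime_dvd_prime_iff_eq hp Nat.prime_three).1 h2
  · exact absurd ((Nat.prime_dvd_prime_iff_eq hp Nat.prime_two).1 (hp.dvd_of_dvd_pow h2)) hodd

theorem three_pow_two (i : ℕ) (j : ℕ) (h : 3 ^ j = 3 ^ i + 2) : i = 0 := by
  by_contra hi
  have h1 : 3 ∣ 3 ^ i := dvd_pow_self 3 hi
  rcases Nat.eq_zero_or_pos j with rfl | hj
  · simp at h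
  · have h2 : 3 ∣ 3 ^ j := dvd_pow_self 3 hj.ne'
    omega

theorem four_of_two_pow {n : ℕ} (hn : 2 ≤ n) (h : ∀ p : ℕ, p.Prime → p ∣ 2 ^ n - 1 → p = 3) :
    n = 2 := by
  have h2n : 1 ≤ 2 ^ n := Nat.one_le_two_pow
  have h4 : 4 ≤ 2 ^ n := by
    calc 4 = 2 ^ 2 := by norm_num
      _ ≤ 2 ^ n := Nat.pow_le_pow_right two_pos hn
  have hne : 2 ^ n - 1 ≠ 0 := by omega
  have hpow := Nat.eq_prime_pow_of_unique_prime_dvd hne fun {d} hd hdvd => h d hd hdvd
  set k := (2 ^ n - 1).primeFactorsList.length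
  have h3 : 3 ∣ 2 ^ n - 1 := by
    rw [hpow]
    refine dvd_pow_self 3 fun e => ?_
    rw [e] at hpow; omega
  rcases Nat.even_or_odd n with ⟨m, hm⟩ | ⟨m, hm⟩
  · subst hm
    have e : 2 ^ (m + m) - 1 = (2 ^ m + 1) * (2 ^ m - 1) := by
      rw [pow_add, ← Nat.mul_self_sub_mul_self_eq (2 ^ m) 1, one_mul]
    obtain ⟨j, -, hj⟩ := (Nat.dvd_prime_pow Nat.prime_three).1
      (hpow ▸ e ▸ Dvd.intro (2 ^ m - 1) rfl : 2 ^ m + 1 ∣ 3 ^ k)
    obtain ⟨i, -, hi⟩ := (Nat.dvd_prime_pow Nat.prime_three).1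
      (hpow ▸ e ▸ Dvd.intro_left (2 ^ m + 1) rfl : 2 ^ m - 1 ∣ 3 ^ k)
    have h1 : 1 ≤ 2 ^ m := Nat.one_le_two_pow
    have hi0 := three_pow_two i j (by omega)
    subst hi0
    have : 2 ^ m = 2 ^ 1 := by simp at hi; omega
    have := Nat.pow_right_injective le_rfl this
    omega
  · exfalso
    subst hm
    have : (2 ^ (2 * m + 1)) % 3 = 2 := by
      rw [pow_succ, pow_mul]
      simp [Nat.mul_mod, Nat.pow_mod]
    generalize 2 ^ (2 * m + 1) = Q at *
    omega

variable {V A R : Subgroup G} {c : ℕ}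

theorem Pair.W_le_A (P : Pair V A R c) : Wd V R ≤ A := P.inter ▸ inf_le_left

theorem Pair.Wd_A (P : Pair V A R c) : Wd A R = Wd V R := by
  ext x
  rw [mem_Wd, mem_Wd]
  refine ⟨fun h => ⟨?_, h.2⟩, fun h => ⟨P.W_le_A (mem_Wd.2 h), h.2⟩⟩
  rw [← P.cV]
  exact Subgroup.mem_centralizer_iff.2 fun v hv => h.2 v (P.sV.syl_ge R P.hV hv)

theorem Pair.A_le (P : Pair V A R c) : A ≤ R := P.sA.syl_ge R P.hA

theorem Pair.V_le (P : Pair V A R c) : V ≤ R := P.sV.syl_ge R P.hV

theorem Pair.invV (P : Pair V A R c) : ∀ r ∈ R, ∃ u ∈ V, (r * u) * (r * u) = 1 := by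
  intro r hr
  obtain ⟨a, ha, v, hv, rfl⟩ := P.prod r hr
  exact ⟨v⁻¹, inv_mem hv, by rw [mul_inv_cancel_right]; exact P.sA.sq_U a ha⟩

theorem Pair.invA (P : Pair V A R c) : ∀ r ∈ R, ∃ u ∈ A, (r * u) * (r * u) = 1 := by
  intro r hr
  obtain ⟨a, ha, v, hv, rfl⟩ := P.prod r hr
  have : v⁻¹ * a⁻¹ * v ∈ A := by
    have := conj_mem_U P.sA (P.hA.1 (R.inv_mem (P.V_le hv))) (inv_mem ha)
    rwa [inv_inv] at this
  exact ⟨_, this, by rw [show a * v * (v⁻¹ * a⁻¹ * v) = v by group]; exact P.sV.sq_U v hv⟩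

theorem Pair.twistV (P : Pair V A R c) {a v b : G} (ha : a ∈ R) (hv : v ∈ V)
    (hb : b ∈ Subgroup.normalizer (V : Set G)) (hbR : R.map (MulAut.conj b).toMonoidHom = R) :
    a * (b * v * b⁻¹) * a⁻¹ * (b * v * b⁻¹)⁻¹ = b⁻¹ * (a * v * a⁻¹ * v⁻¹) * b :=
  comm_twist P.sV P.hV (invol_all P.sV P.hV P.invV) ha hv hb hbR

theorem Pair.twistA (P : Pair V A R c) {a v b : G} (ha : a ∈ A) (hv : v ∈ R)
    (hb : b ∈ Subgroup.normalizer (A : Set G)) (hbR : R.map (MulAut.conj b).toMonoidHom = R) :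
    v * (b * a * b⁻¹) * v⁻¹ * (b * a * b⁻¹)⁻¹ = b⁻¹ * (v * a * v⁻¹ * a⁻¹) * b :=
  comm_twist P.sA P.hA (invol_all P.sA P.hA P.invA) hv ha hb hbR

/-- Involutions of `R` lie in one of the flats. -/
theorem Pair.invol_mem (P : Pair V A R c) {x : G} (hx : x ∈ R) (hxx : x * x = 1) : x ∈ V ∨ x ∈ A := by
  obtain ⟨a, ha, v, hv, rfl⟩ := P.prod x hx
  by_cases haV : a ∈ V
  · exact Or.inl (V.mul_mem haV hv)
  refine Or.inr (A.mul_mem ha (P.W_le_A (mem_Wd_of_commute P.sV P.hV (P.A_le ha) haV hv ?_)))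
  have h1 : a * v = (a * v)⁻¹ := eq_inv_of_mul_eq_one_left hxx
  rw [mul_inv_rev, inv_eq_of_mul_eq_one_right (P.sA.sq_U a ha),
    inv_eq_of_mul_eq_one_right (P.sV.sq_U v hv)] at h1
  exact h1.symm

theorem not_le_of_card {X Y Z : Subgroup G} (hZ : Z < Y) (h : X ≤ Z)
    (hcard : Nat.card ↥X = Nat.card ↥Y) : False := by
  have h1 : Nat.card ↥Z < Nat.card ↥Y := by
    rcases lt_or_eq_of_le (Subgroup.card_le_of_le hZ.le) with h1 | h1
    · exact h1
    · exact absurd (Subgroup.eq_of_le_of_card_ge hZ.le h1.ge) hZ.ne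
  have h2 := Subgroup.card_le_of_le h
  omega

theorem Pair.card_W (P : Pair V A R c) : Nat.card ↥(Wd V R) = c := P.sV.fixed_card R P.hV

theorem Pair.exists_V_not_A (P : Pair V A R c) : ∃ v ∈ V, v ∉ A := by
  by_contra hno
  push Not at hno
  have : Wd V R = V := le_antisymm inf_le_left (P.inter ▸ le_inf hno le_rfl)
  have h1 := P.card_W
  rw [this, P.sV.card_U] at h1
  have h2 := P.sV.two_le
  nlinarith

theorem Pair.exists_A_not_V (P : Pair V A R c) : ∃ a ∈ A, a ∉ V := by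
  by_contra hno
  push Not at hno
  have : Wd V R = A := le_antisymm P.W_le_A (P.inter ▸ le_inf le_rfl hno)
  have h1 := P.card_W
  rw [this, P.sA.card_U] at h1
  have h2 := P.sV.two_le
  nlinarith

/-- An elementary abelian subgroup of `R` of order `c²` is one of the flats. -/
theorem Pair.flat_eq (P : Pair V A R c) {E : Subgroup G} (hE : E ≤ R) (hsq : ∀ e ∈ E, e * e = 1)
    (hcard : Nat.card ↥E = c ^ 2) : E = V ∨ E = A := by
  have : E ≤ V ∨ E ≤ A := by
    by_contra hno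
    push Not at hno
    obtain ⟨⟨e, he, heV⟩, ⟨f, hf, hfA⟩⟩ := And.intro (SetLike.not_le_iff_exists.1 hno.1)
      (SetLike.not_le_iff_exists.1 hno.2)
    have heA := (P.invol_mem (hE he) (hsq e he)).resolve_left heV
    have hfV := (P.invol_mem (hE hf) (hsq f hf)).resolve_right hfA
    rcases P.invol_mem (hE (E.mul_mem he hf)) (hsq _ (E.mul_mem he hf)) with h | h
    · exact heV ((Subgroup.mul_mem_cancel_right V hfV).1 h)
    · exact hfA ((Subgroup.mul_mem_cancel_left A heA).1 h)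
  exact this.imp (fun h => Subgroup.eq_of_le_of_card_ge h (by rw [P.sV.card_U, hcard]))
    (fun h => Subgroup.eq_of_le_of_card_ge h (by rw [P.sA.card_U, hcard]))

/-- An element normalising `R` permutes the flats. -/
theorem Pair.perm (P : Pair V A R c) {n : G} (hn : R.map (MulAut.conj n).toMonoidHom = R) :
    (V.map (MulAut.conj n).toMonoidHom = V ∧ A.map (MulAut.conj n).toMonoidHom = A) ∨
    (V.map (MulAut.conj n).toMonoidHom = A ∧ A.map (MulAut.conj n).toMonoidHom = V) := by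
  have key : ∀ X : Subgroup G, X ≤ R → (∀ e ∈ X, e * e = 1) → Nat.card ↥X = c ^ 2 →
      X.map (MulAut.conj n).toMonoidHom = V ∨ X.map (MulAut.conj n).toMonoidHom = A := by
    intro X hX hsq hc
    refine P.flat_eq ((Subgroup.map_mono hX).trans hn.le) ?_ ((card_conjMap X n).trans hc)
    rintro _ ⟨y, hy, rfl⟩
    rw [← map_mul, hsq y hy, map_one]
  have hne : V ≠ A := by
    obtain ⟨v, hv, hvA⟩ := P.exists_V_not_A
    exact fun e => hvA (e ▸ hv)
  have hinj : Function.Injective (Subgroup.map (MulAut.conj n).toMonoidHom) :=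
    Subgroup.map_injective (MulAut.conj n).injective
  rcases key V P.V_le P.sV.sq_U P.sV.card_U with h | h <;>
    rcases key A P.A_le P.sA.sq_U P.sA.card_U with h' | h'
  · exact absurd (hinj (h.trans h'.symm)) hne
  · exact Or.inl ⟨h, h'⟩
  · exact Or.inr ⟨h, h'⟩
  · exact absurd (hinj (h.trans h'.symm)) hne

theorem Pair.fix_A (P : Pair V A R c) {n : G} (hn : R.map (MulAut.conj n).toMonoidHom = R)
    (hnV : n ∈ Subgroup.normalizer (V : Set G)) : n ∈ Subgroup.normalizer (A : Set G) := by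
  rcases P.perm hn with h | h
  · exact mem_normalizer_of_conjMap h.2
  · obtain ⟨v, hv, hvA⟩ := P.exists_V_not_A
    exact absurd (h.1 ▸ (conjMap_of_mem_normalizer hnV).symm ▸ hv) hvA

theorem pow_two_pow_of_commute (hCIT : IsCIT G) {w y : G} (hw : w * w = 1) (hw1 : w ≠ 1)
    (hy : y * w = w * y) : ∃ k : ℕ, y ^ 2 ^ k = 1 := by
  have hp := hCIT w (orderOf_eq_prime (by rw [sq]; exact hw) hw1)
  obtain ⟨k, hk⟩ := hp ⟨y, Subgroup.mem_centralizer_singleton_iff.2 hy⟩
  exact ⟨k, congrArg Subtype.val hk⟩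

theorem exists_two_pow (hV : IsPGroup 2 ↥V) (hcard : Nat.card ↥V = c ^ 2) : ∃ n, c = 2 ^ n := by
  haveI : Fact (Nat.Prime 2) := ⟨Nat.prime_two⟩
  obtain ⟨k, hk⟩ := IsPGroup.iff_card.1 hV
  obtain ⟨n, -, hn⟩ := (Nat.dvd_prime_pow Nat.prime_two).1
    (show c ∣ 2 ^ k by rw [← hk, hcard]; exact dvd_pow_self c two_ne_zero)
  exact ⟨n, hn⟩

/-- The count `c = 4`. -/
theorem Pair.c_eq_four (hCIT : IsCIT G) (hc4 : 4 ≤ c) (P : Pair V A R c) : c = 4 := by
  obtain ⟨n, hn⟩ := exists_two_pow P.sV.pGroup_D P.sV.card_U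
  have hn2 : 2 ≤ n := by
    by_contra hlt
    have : 2 ^ n ≤ 2 ^ 1 := Nat.pow_le_pow_right two_pos (by omega)
    omega
  suffices ∀ p : ℕ, p.Prime → p ∣ c - 1 → p = 3 by
    rw [hn, four_of_two_pow hn2 (hn ▸ this)]; rfl
  intro p hp hdvd
  haveI : Fact p.Prime := ⟨hp⟩
  have hp2 : p ≠ 2 := by
    rintro rfl
    have : 2 ∣ c := hn ▸ dvd_pow_self 2 (by omega)
    omega
  obtain ⟨⟨b, hbV, hbR'⟩, hbo⟩ := exists_prime_orderOf_dvd_card'
    (G := ↥(Subgroup.normalizer (V : Set G) ⊓ Subgroup.normalizer (R : Set G))) p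
    (by rw [P.sV.card_stab R P.hV]; exact Dvd.dvd.mul_left (Dvd.dvd.mul_left hdvd _) _)
  rw [← Subgroup.orderOf_coe] at hbo
  have hbR := conjMap_of_mem_normalizer hbR'
  have hbA := P.fix_A hbR hbV
  obtain ⟨a, ha, haV⟩ := P.exists_A_not_V
  obtain ⟨v, hv, hvA⟩ := P.exists_V_not_A
  set w := a * v * a⁻¹ * v⁻¹ with hw
  have hwW : w ∈ Wd V R := xi_mem P.sV P.hV (P.A_le ha) hv
  have hww : w * w = 1 := P.sV.sq_U w hwW.1
  have hw1 : w ≠ 1 := fun e => hvA (P.W_le_A (mem_Wd_of_commute P.sV P.hV (P.A_le ha) haV hv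
    (by
      calc v * a = 1 * (v * a) := (one_mul _).symm
        _ = w * (v * a) := by rw [e]
        _ = a * v := by rw [hw]; group)))
  have hbv : b * v * b⁻¹ ∈ V := conj_mem_U P.sV hbV hv
  have h1 := P.twistV (P.A_le ha) hv hbV hbR
  rw [← hw] at h1
  have h2 := P.twistA ha (P.V_le hbv) hbA hbR
  have hinv1 : (b * v * b⁻¹) * a * (b * v * b⁻¹)⁻¹ * a⁻¹ = (b⁻¹ * w * b)⁻¹ := by
    rw [← h1]; group
  rw [hinv1] at h2
  have e : b * w * b⁻¹ = b⁻¹ * (b⁻¹ * w * b) * b := by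
    have h3 := congrArg (fun y => y⁻¹) h2
    calc b * w * b⁻¹ = (b * a * b⁻¹) * (b * v * b⁻¹) * (b * a * b⁻¹)⁻¹ * (b * v * b⁻¹)⁻¹ := by
          rw [hw]; group
      _ = ((b * v * b⁻¹) * (b * a * b⁻¹) * (b * v * b⁻¹)⁻¹ * (b * a * b⁻¹)⁻¹)⁻¹ := by group
      _ = _ := by rw [h3]; simp [mul_assoc]
  have hcomm : b ^ 3 * w = w * b ^ 3 := by
    calc b ^ 3 * w = b ^ 2 * (b * w * b⁻¹) * b := by group
      _ = b ^ 2 * (b⁻¹ * (b⁻¹ * w * b) * b) * b := by rw [e]
      _ = w * b ^ 3 := by simp [pow_succ, mul_assoc]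
  obtain ⟨k, hk⟩ := pow_two_pow_of_commute hCIT hww hw1 hcomm
  rw [← pow_mul] at hk
  exact two_elt_odd hp hbo hk hp2

omit [Finite G] in
theorem mem_normalizer_conjMap {g n : G} :
    n ∈ Subgroup.normalizer ((V.map (MulAut.conj g).toMonoidHom : Subgroup G) : Set G) ↔
      g⁻¹ * n * g ∈ Subgroup.normalizer (V : Set G) := by
  constructor
  · intro h
    refine mem_normalizer_of_conjMap ?_
    have := conjMap_of_mem_normalizer h
    rw [conjMap_mul] at this
    rw [← conjMap_mul, ← conjMap_mul, conjMap_mul _ n g, this, conjMap_mul, inv_mul_cancel,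
      conjMap_one]
  · intro h
    refine mem_normalizer_of_conjMap ?_
    have := conjMap_of_mem_normalizer h
    rw [conjMap_mul, show n * g = g * (g⁻¹ * n * g) by group, ← conjMap_mul, this]

/-- `O₂` of the normaliser of a conjugate. -/
theorem O2_conjMap_le {g : G} (h : O2 (Subgroup.normalizer (V : Set G)) = V)
    (hA : V.map (MulAut.conj g).toMonoidHom = A) : O2 (Subgroup.normalizer (A : Set G)) ≤ A := by
  subst hA
  intro x hx
  rw [mem_conjMap, ← h]
  set NA := Subgroup.normalizer ((V.map (MulAut.conj g).toMonoidHom : Subgroup G) : Set G) with hNA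
  have key : (O2 NA).map (MulAut.conj g⁻¹).toMonoidHom ≤ O2 (Subgroup.normalizer (V : Set G)) := by
    refine le_O2 ?_ ?_ ((isPGroup_O2 NA).map _)
    · rintro _ ⟨y, hy, rfl⟩
      show g⁻¹ * y * g⁻¹⁻¹ ∈ _
      rw [inv_inv]
      exact mem_normalizer_conjMap.1 (O2_le NA hy)
    · intro n hn
      refine mem_normalizer_of_conjMap ?_
      have hn' : g * n * g⁻¹ ∈ NA := mem_normalizer_conjMap.2 (by
        rwa [show g⁻¹ * (g * n * g⁻¹) * g = n by group])
      rw [conjMap_mul, show n * g⁻¹ = g⁻¹ * (g * n * g⁻¹) by group, ← conjMap_mul,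
        conjMap_of_mem_normalizer (le_normalizer_O2 NA hn')]
  have := key (conj_mem_conjMap (g := g⁻¹) hx)
  rwa [inv_inv] at this

/-- Construction of a pair from a second subgroup. -/
theorem mk_pair (hCIT : IsCIT G) (hQ : QuadraticSpec G)
    (sV : SL2Like (Subgroup.normalizer (V : Set G)) V V c)
    (hV : IsSyl (Subgroup.normalizer (V : Set G)) V c R) (cV : Subgroup.centralizer (V : Set G) = V)
    (hAR : A ≤ R) (hsq : ∀ a ∈ A, a * a = 1) (hcard : Nat.card ↥A = c ^ 2) (hAV : ¬ A ≤ V)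
    (hcA : Subgroup.centralizer (A : Set G) = A)
    (hO : (∀ r ∈ R, ∃ a ∈ A, ∃ v ∈ V, r = a * v) → R ≤ Subgroup.normalizer (A : Set G) →
      O2 (Subgroup.normalizer (A : Set G)) ≤ A) : Pair V A R c := by
  have hVR : V ≤ R := sV.syl_ge R hV
  have hAN : A ≤ Subgroup.normalizer (V : Set G) := hAR.trans hV.1
  have hle : A ⊓ V ≤ Wd V R := by
    obtain ⟨a, ha, haV⟩ := SetLike.not_le_iff_exists.1 hAV
    intro x hx
    refine mem_Wd_of_commute sV hV (hAR ha) haV hx.2 ?_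
    have h : x ∈ Subgroup.centralizer (A : Set G) := by rw [hcA]; exact hx.1
    exact (Subgroup.mem_centralizer_iff.1 h a ha).symm
  have hn : (V.subgroupOf R).Normal := ⟨fun x hx g => by
    rw [Subgroup.mem_subgroupOf] at hx ⊢
    exact conj_mem_U sV (hV.1 g.2) hx⟩
  let φ : ↥A →* ↥R ⧸ V.subgroupOf R :=
    (QuotientGroup.mk' (V.subgroupOf R)).comp (Subgroup.inclusion hAR)
  have hker : φ.ker = (A ⊓ V).subgroupOf A := by
    ext x
    rw [MonoidHom.mem_ker, Subgroup.mem_subgroupOf]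
    show QuotientGroup.mk' _ (Subgroup.inclusion hAR x) = 1 ↔ _
    rw [QuotientGroup.mk'_apply, QuotientGroup.eq_one_iff, Subgroup.mem_subgroupOf]
    exact ⟨fun h => ⟨x.2, h⟩, fun h => h.2⟩
  have hc := sV.two_le
  have hq : Nat.card (↥R ⧸ V.subgroupOf R) = c := by
    have e := (V.subgroupOf R).card_eq_card_quotient_mul_card_subgroup
    rw [Nat.card_congr (Subgroup.subgroupOfEquivOfLe hVR).toEquiv, hV.2.2, sV.card_U, mul_comm] at e
    exact (Nat.eq_of_mul_eq_mul_right (by positivity) e).symm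
  have hmul : Nat.card ↥φ.range * Nat.card ↥(A ⊓ V : Subgroup G) = c ^ 2 := by
    have e := φ.ker.card_eq_card_quotient_mul_card_subgroup
    rw [Nat.card_congr (QuotientGroup.quotientKerEquivRange φ).toEquiv, hker,
      Nat.card_congr (Subgroup.subgroupOfEquivOfLe (inf_le_left : A ⊓ V ≤ A)).toEquiv, hcard] at e
    exact e.symm
  have hr : Nat.card ↥φ.range ≤ c := hq ▸ Subgroup.card_le_card_group φ.range
  have hk : Nat.card ↥(A ⊓ V : Subgroup G) ≤ c :=
    (Subgroup.card_le_of_le hle).trans (sV.fixed_card R hV).le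
  have heqk : Nat.card ↥(A ⊓ V : Subgroup G) = c := by nlinarith
  have heqr : Nat.card ↥φ.range = c := by nlinarith
  have hinter : A ⊓ V = Wd V R := Subgroup.eq_of_le_of_card_ge hle (by
    rw [heqk]; exact (sV.fixed_card R hV).le)
  have hprod : ∀ r ∈ R, ∃ a ∈ A, ∃ v ∈ V, r = a * v := by
    intro r hr'
    have htop : φ.range = ⊤ := Subgroup.eq_top_of_card_eq _ (heqr.trans hq.symm)
    obtain ⟨a, ha⟩ := MonoidHom.range_eq_top.1 htop (QuotientGroup.mk' _ ⟨r, hr'⟩)
    have h1 := QuotientGroup.eq.1 ha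
    rw [Subgroup.mem_subgroupOf] at h1
    exact ⟨a, a.2, _, h1, (mul_inv_cancel_left _ _).symm⟩
  have hWA : Wd V R ≤ A := hinter ▸ inf_le_left
  have hcomm : ∀ x ∈ A, ∀ y ∈ A, y * x = x * y := by
    intro x hx y hy
    have h : x ∈ Subgroup.centralizer (A : Set G) := by rw [hcA]; exact hx
    exact Subgroup.mem_centralizer_iff.1 h y hy
  have hRA : R ≤ Subgroup.normalizer (A : Set G) := by
    intro r hr'
    obtain ⟨a, ha, v, hv, rfl⟩ := hprod r hr'
    refine mul_mem (Subgroup.le_normalizer ha) ?_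
    have hconj : ∀ v ∈ V, ∀ x ∈ A, v * x * v⁻¹ ∈ A := fun v hv x hx => by
      have h1 : v * x * v⁻¹ * x⁻¹ ∈ Wd V R := sV.comm_fixed R hV v hv x (hAR hx)
      have := A.mul_mem (hWA h1) hx
      rwa [inv_mul_cancel_right] at this
    refine Subgroup.mem_normalizer_iff.2 fun x => ⟨hconj v hv x, fun hx => ?_⟩
    have := hconj v⁻¹ (inv_mem hv) _ hx
    rwa [show v⁻¹ * (v * x * v⁻¹) * v⁻¹⁻¹ = x by group] at this
  set NA := Subgroup.normalizer (A : Set G) with hNA
  have hD : NA ⊓ Subgroup.centralizer (A : Set G) = A := by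
    rw [hcA]; exact inf_eq_right.2 Subgroup.le_normalizer
  have hA1 : A ≠ ⊥ := fun e => hAV (e ▸ bot_le)
  obtain ⟨c', hs, hsy, -⟩ := hQ hCIT NA A V Subgroup.le_normalizer le_rfl hA1 hsq (hVR.trans hRA)
    sV.pGroup_D (by
      intro hle'
      rw [hcA] at hle'
      have := Subgroup.eq_of_le_of_card_ge hle' (by rw [hcard, sV.card_U])
      exact hAV this.ge) (by rw [hcA]; exact hO hprod hRA) (by
      intro b hb b' hb'
      rw [sV.comm_U b hb b' hb']
      simp) (by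
      intro u hu b hb
      refine Subgroup.mem_centralizer_iff.2 fun y hy => ?_
      exact sV.comm_U y hy _ (xi_mem sV hV (hAR hu) hb).1) (by
      rw [hcA, cV, inf_comm V A, hcard, sV.card_U])
  rw [hD] at hs hsy
  have hc' : c' = c := Nat.pow_left_injective two_ne_zero (hs.card_U.symm.trans hcard)
  subst hc'
  have hsup : A ⊔ V = R := le_antisymm (sup_le hAR hVR) fun r hr' => by
    obtain ⟨a, ha, v, hv, rfl⟩ := hprod r hr'
    exact Subgroup.mul_mem_sup ha hv
  rw [hsup] at hsy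
  exact ⟨sV, hs, hV, hsy, cV, hcA, hinter, hprod⟩

theorem exists_gt_normalizer {R T : Subgroup G} (hT : IsPGroup 2 ↥T) (h : R < T) :
    ∃ g ∈ T, g ∉ R ∧ R.map (MulAut.conj g).toMonoidHom = R := by
  haveI : Fact (Nat.Prime 2) := ⟨Nat.prime_two⟩
  haveI : Group.IsNilpotent ↥T := hT.isNilpotent
  have hlt : R.subgroupOf T < ⊤ :=
    lt_top_iff_ne_top.2 fun e => h.ne (le_antisymm h.le (Subgroup.subgroupOf_eq_top.1 e))
  obtain ⟨⟨g, hg⟩, hgN, hgR⟩ :=
    SetLike.exists_of_lt (Group.normalizerCondition_of_isNilpotent (G := ↥T) _ hlt)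
  refine ⟨g, hg, fun e => hgR (Subgroup.mem_subgroupOf.2 e), ?_⟩
  refine le_antisymm ?_ fun x hx => ?_
  · rintro _ ⟨y, hy, rfl⟩
    exact (Subgroup.mem_normalizer_iff.1 hgN ⟨y, h.le hy⟩).1 hy
  · have hxT : g⁻¹ * x * g ∈ T := T.mul_mem (T.mul_mem (inv_mem hg) (h.le hx)) hg
    rw [mem_conjMap]
    refine (Subgroup.mem_normalizer_iff.1 hgN ⟨_, hxT⟩).2 ?_
    show g * (g⁻¹ * x * g) * g⁻¹ ∈ R
    rwa [show g * (g⁻¹ * x * g) * g⁻¹ = x by group]

theorem Pair.nontrivial_W (P : Pair V A R c) : ∃ w ∈ Wd V R, w ≠ 1 := by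
  by_contra hno
  push Not at hno
  have : Wd V R = ⊥ := (Subgroup.eq_bot_iff_forall _).2 hno
  have h1 := P.card_W
  rw [this, Subgroup.card_bot] at h1
  have := P.sV.two_le
  omega

theorem exists_invol_commute {x y : G} (hx : x * x = 1) (hy : y * y = 1)
    (hconj : ¬ ∃ g : G, g * x * g⁻¹ = y) :
    ∃ z : G, z * z = 1 ∧ z ≠ 1 ∧ z * x = x * z ∧ z * y = y * z := by
  have hyi : y⁻¹ = y := inv_eq_of_mul_eq_one_right hy
  have hxi : x⁻¹ = x := inv_eq_of_mul_eq_one_right hx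
  set u := x * y with hu
  have hflip : ∀ j : ℕ, x * u ^ j * x = (u ^ j)⁻¹ := by
    intro j
    have h1 : x * u * x⁻¹ = u⁻¹ := by
      rw [hu, mul_inv_rev, hxi, hyi]
      calc x * (x * y) * x = (x * x) * y * x := by group
        _ = y * x := by rw [hx, one_mul]
    have h2 := conj_pow (i := j) (a := x) (b := u)
    rw [h1, inv_pow, hxi] at h2
    exact h2.symm
  have hne : orderOf u ≠ 0 := (orderOf_pos u).ne'
  rcases Nat.even_or_odd (orderOf u) with ⟨k, hk⟩ | ⟨k, hk⟩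
  · have hzz : u ^ k * u ^ k = 1 := by rw [← pow_add, ← hk, pow_orderOf_eq_one]
    have hz1 : u ^ k ≠ 1 := fun e => by
      have := Nat.le_of_dvd (by omega) (orderOf_dvd_of_pow_eq_one e)
      omega
    have hzx : u ^ k * x = x * u ^ k := by
      have h3 := hflip k
      rw [inv_eq_of_mul_eq_one_right hzz] at h3
      calc u ^ k * x = (x * u ^ k * x) * x := by rw [h3]
        _ = x * u ^ k * (x * x) := by group
        _ = _ := by rw [hx, mul_one]
    refine ⟨u ^ k, hzz, hz1, hzx, ?_⟩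
    have hyu : y = x * u := by rw [hu, ← mul_assoc, hx, one_mul]
    rw [hyu, ← mul_assoc, hzx, mul_assoc, ← pow_succ, mul_assoc, ← pow_succ']
  · refine absurd ⟨u ^ k, ?_⟩ hconj
    have h3 : x * (u ^ k)⁻¹ = u ^ k * x := by
      rw [← hflip k]
      calc x * (x * u ^ k * x) = (x * x) * u ^ k * x := by group
        _ = _ := by rw [hx, one_mul]
    calc u ^ k * x * (u ^ k)⁻¹ = u ^ k * (u ^ k * x) := by rw [mul_assoc, h3]
      _ = u ^ (2 * k) * x := by rw [← mul_assoc, ← pow_add, two_mul]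
      _ = u⁻¹ * x := by
          congr 1
          rw [eq_inv_iff_mul_eq_one, ← pow_succ, ← hk, pow_orderOf_eq_one]
      _ = y * (x * x) := by rw [hu, mul_inv_rev, hxi, hyi, mul_assoc]
      _ = y := by rw [hx, mul_one]

/-- A second subgroup exists. -/
theorem exists_pair (hCIT : IsCIT G) (hQ : QuadraticSpec G) (hsimp : IsSimpleGroup G)
    {N : Subgroup G} (hE : ELocal N V V c) (hR : IsSyl N V c R) : ∃ A, Pair V A R c := by
  have hNe : Subgroup.normalizer (V : Set G) = N := hE.N_eq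
  subst hNe
  have sV := hE.sl2
  have cV := hE.cent_V
  have hVR : V ≤ R := sV.syl_ge R hR
  have hc := sV.two_le
  haveI : Fact (Nat.Prime 2) := ⟨Nat.prime_two⟩
  obtain ⟨T, hRT⟩ := hR.2.1.exists_le_sylow
  by_cases hT : R = T
  swap
  · -- `R` is not a Sylow subgroup of `G`
    obtain ⟨g, hgT, hgR, hg⟩ := exists_gt_normalizer T.2 (lt_of_le_of_ne hRT hT)
    refine ⟨V.map (MulAut.conj g).toMonoidHom, mk_pair hCIT hQ sV hR cV
      ((Subgroup.map_mono hVR).trans hg.le) ?_ ((card_conjMap V g).trans sV.card_U) ?_ ?_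
      fun _ _ => O2_conjMap_le sV.core rfl⟩
    · rintro _ ⟨y, hy, rfl⟩; rw [← map_mul, sV.sq_U y hy, map_one]
    · intro hle
      have heq : V.map (MulAut.conj g).toMonoidHom = V :=
        Subgroup.eq_of_le_of_card_ge hle (card_conjMap V g).ge
      have hp : IsPGroup 2 ↥(Subgroup.zpowers g ⊔ R) :=
        T.2.to_le (sup_le (Subgroup.zpowers_le.2 hgT) hRT)
      obtain ⟨R', hR', hle'⟩ := sV.exists_syl _
        (sup_le (Subgroup.zpowers_le.2 (mem_normalizer_of_conjMap heq)) hR.1) hp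
      have : R = R' := Subgroup.eq_of_le_of_card_ge (le_sup_right.trans hle') (by
        rw [hR'.2.2, hR.2.2])
      exact hgR (this ▸ hle' (le_sup_left (b := R) (Subgroup.mem_zpowers g)))
    · ext x
      rw [mem_conjMap]
      have hx : x ∈ Subgroup.centralizer ((V.map (MulAut.conj g).toMonoidHom : Subgroup G) : Set G) ↔
          g⁻¹ * x * g ∈ Subgroup.centralizer (V : Set G) := by
        simp only [Subgroup.mem_centralizer_iff, SetLike.mem_coe]
        constructor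
        · intro h v hv
          have := congrArg (fun y => g⁻¹ * y * g) (h (g * v * g⁻¹) (conj_mem_conjMap hv))
          calc v * (g⁻¹ * x * g) = g⁻¹ * (g * v * g⁻¹ * x) * g := by group
            _ = g⁻¹ * (x * (g * v * g⁻¹)) * g := this
            _ = _ := by group
        · rintro h _ ⟨v, hv, rfl⟩
          show g * v * g⁻¹ * x = x * (g * v * g⁻¹)
          calc g * v * g⁻¹ * x = g * (v * (g⁻¹ * x * g)) * g⁻¹ := by group
            _ = g * ((g⁻¹ * x * g) * v) * g⁻¹ := by rw [h v hv]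
            _ = _ := by group
      rw [hx, cV]
  -- `R` is a Sylow subgroup of `G`
  have hcentW : ∀ (R' : Subgroup G), IsSyl (Subgroup.normalizer (V : Set G)) V c R' → ∀ w ∈ Wd V R',
      w ≠ 1 → Subgroup.centralizer ({w} : Set G) = R' := by
    intro R' hR' w hw hw1
    have hp := hCIT w (orderOf_eq_prime (by rw [sq]; exact sV.sq_U w hw.1) hw1)
    have hle : R' ≤ Subgroup.centralizer ({w} : Set G) := fun r hr =>
      Subgroup.mem_centralizer_singleton_iff.2 ((mem_Wd.1 hw).2 r hr)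
    obtain ⟨T', hT'⟩ := hp.exists_le_sylow
    have hcard : Nat.card ↥(T' : Subgroup G) = Nat.card ↥R' := by
      rw [Sylow.card_eq_multiplicity, ← Sylow.card_eq_multiplicity T, ← hT, hR'.2.2, hR.2.2]
    exact le_antisymm (hT'.trans (Subgroup.eq_of_le_of_card_ge (hle.trans hT') hcard.le).ge) hle
  obtain ⟨w0, hw0, hw01⟩ : ∃ w ∈ Wd V R, w ≠ 1 := by
    by_contra hno
    push Not at hno
    have h1 : Nat.card ↥(Wd V R) = c := sV.fixed_card R hR
    rw [(Subgroup.eq_bot_iff_forall _).2 hno, Subgroup.card_bot] at h1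
    omega
  have hcentV : ∀ v ∈ V, v ≠ 1 → ∃ R', IsSyl (Subgroup.normalizer (V : Set G)) V c R' ∧
      Subgroup.centralizer ({v} : Set G) = R' := fun v hv hv1 => by
    obtain ⟨R', hR', hvW⟩ := sV.fixed_cover v hv
    exact ⟨R', hR', hcentW R' hR' v hvW hv1⟩
  -- an involution of `R` outside `V` conjugate to `w0`
  obtain ⟨y, hyR, hyV, g, hgy⟩ : ∃ y ∈ R, y ∉ V ∧ ∃ g : G, g * w0 * g⁻¹ = y := by
    by_contra hno
    push Not at hno
    have hK : ∀ R', IsSyl (Subgroup.normalizer (V : Set G)) V c R' → ∀ g : G,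
        g * w0 * g⁻¹ ∈ R' → g * w0 * g⁻¹ ∈ V := by
      intro R' hR' g hg
      by_contra hgV
      obtain ⟨n, hn, e⟩ := sV.syl_conj R' R hR' hR
      refine hno _ (e ▸ conj_mem_conjMap hg) (fun h => hgV ?_) (n * g) (by group)
      have := conj_mem_U sV (inv_mem hn) h
      rwa [show n⁻¹ * (n * (g * w0 * g⁻¹) * n⁻¹) * n⁻¹⁻¹ = g * w0 * g⁻¹ by group] at this
    -- an involution outside `V`
    obtain ⟨R₁, hR₁, hne⟩ := exists_other sV R
    obtain ⟨t, htN, hto, htR, -⟩ := sV.swap R R₁ hR hR₁ (Ne.symm hne)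
    have htt : t * t = 1 := by have := pow_orderOf_eq_one t; rwa [hto, sq] at this
    obtain ⟨R₂, hR₂, htle⟩ := sV.exists_syl (Subgroup.zpowers t) (Subgroup.zpowers_le.2 htN)
      (IsPGroup.of_card (n := 1) (by rw [Nat.card_zpowers, hto, pow_one]))
    obtain ⟨n, hn, hne2⟩ := sV.syl_conj R₂ R hR₂ hR
    set y0 := n * t * n⁻¹ with hy0
    have hy0R : y0 ∈ R := hne2 ▸ conj_mem_conjMap (htle (Subgroup.mem_zpowers t))
    have hy0V : y0 ∉ V := by
      intro h
      have h' := conj_mem_U sV (inv_mem hn) h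
      rw [hy0, show n⁻¹ * (n * t * n⁻¹) * n⁻¹⁻¹ = t by group] at h'
      exact hne (htR.symm.trans (conjMap_of_mem (hVR h')))
    have hy00 : y0 * y0 = 1 := by
      rw [hy0]
      calc n * t * n⁻¹ * (n * t * n⁻¹) = n * (t * t) * n⁻¹ := by group
        _ = 1 := by rw [htt]; group
    have hy01 : y0 ≠ 1 := fun e => hy0V (e ▸ V.one_mem)
    -- its centraliser lies in `R`
    have hCy : ∀ z : G, z * y0 = y0 * z → z ∈ R := by
      obtain ⟨T', hT'⟩ := (hCIT y0 (orderOf_eq_prime (by rw [sq]; exact hy00) hy01)).exists_le_sylow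
      obtain ⟨γ, hγ⟩ : ∃ γ : G, (T' : Subgroup G) = R.map (MulAut.conj γ).toMonoidHom := by
        obtain ⟨γ, hγ⟩ := MulAction.exists_smul_eq G T T'
        refine ⟨γ, ?_⟩
        rw [← hγ, hT]
        rfl
      set s := γ * w0 * γ⁻¹ with hs
      have hy0T : y0 ∈ R.map (MulAut.conj γ).toMonoidHom :=
        hγ ▸ hT' (Subgroup.mem_centralizer_singleton_iff.2 rfl)
      have hsy : s * y0 = y0 * s := by
        have h1 := (mem_Wd.1 hw0).2 _ (mem_conjMap.1 hy0T)
        calc s * y0 = γ * (w0 * (γ⁻¹ * y0 * γ)) * γ⁻¹ := by rw [hs]; group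
          _ = γ * ((γ⁻¹ * y0 * γ) * w0) * γ⁻¹ := by rw [h1]
          _ = _ := by rw [hs]; group
      have hsW : ∀ w ∈ Wd V R, w ∈ R.map (MulAut.conj γ).toMonoidHom := fun w hw =>
        hγ ▸ hT' (Subgroup.mem_centralizer_singleton_iff.2 ((mem_Wd.1 hw).2 y0 hy0R).symm)
      have hsR : s ∈ R := by
        rw [← hcentW R hR w0 hw0 hw01, Subgroup.mem_centralizer_singleton_iff]
        have h1 := (mem_Wd.1 hw0).2 _ (mem_conjMap.1 (hsW w0 hw0))
        calc s * w0 = γ * (w0 * (γ⁻¹ * w0 * γ)) * γ⁻¹ := by rw [hs]; group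
          _ = γ * ((γ⁻¹ * w0 * γ) * w0) * γ⁻¹ := by rw [h1]
          _ = _ := by rw [hs]; group
      have hsV : s ∈ V := hK R hR γ hsR
      have hsWd : s ∈ Wd V R := mem_Wd_of_commute sV hR hy0R hy0V hsV hsy
      have hs1 : s ≠ 1 := by
        intro e
        exact hw01 (by
          calc w0 = γ⁻¹ * s * γ := by rw [hs]; group
            _ = 1 := by rw [e]; group)
      intro z hz
      have hzT : z ∈ R.map (MulAut.conj γ).toMonoidHom :=
        hγ ▸ hT' (Subgroup.mem_centralizer_singleton_iff.2 hz)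
      rw [← hcentW R hR s hsWd hs1, Subgroup.mem_centralizer_singleton_iff]
      have h1 := (mem_Wd.1 hw0).2 _ (mem_conjMap.1 hzT)
      calc z * s = γ * ((γ⁻¹ * z * γ) * w0) * γ⁻¹ := by rw [hs]; group
        _ = γ * (w0 * (γ⁻¹ * z * γ)) * γ⁻¹ := by rw [h1]
        _ = _ := by rw [hs]; group
    -- all conjugates of `w0` lie in `V`
    have hall : ∀ g : G, g * w0 * g⁻¹ ∈ V := by
      intro g
      have hvv : g * w0 * g⁻¹ * (g * w0 * g⁻¹) = 1 := by
        calc g * w0 * g⁻¹ * (g * w0 * g⁻¹) = g * (w0 * w0) * g⁻¹ := by group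
          _ = 1 := by rw [sV.sq_U w0 hw0.1]; group
      obtain ⟨z, hzz, hz1, hzv, hzy⟩ := exists_invol_commute hvv hy00 (by
        rintro ⟨k, hk⟩
        refine hno y0 hy0R hy0V (k * g) ?_
        rw [← hk]; group)
      by_cases hzV : z ∈ V
      · obtain ⟨R', hR', hR'eq⟩ := hcentV z hzV hz1
        exact hK R' hR' g (hR'eq ▸ Subgroup.mem_centralizer_singleton_iff.2 hzv.symm)
      · -- the same argument for `z`
        have hzR := hCy z hzy
        obtain ⟨T', hT'⟩ := (hCIT z (orderOf_eq_prime (by rw [sq]; exact hzz) hz1)).exists_le_sylow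
        obtain ⟨γ, hγ⟩ : ∃ γ : G, (T' : Subgroup G) = R.map (MulAut.conj γ).toMonoidHom := by
          obtain ⟨γ, hγ⟩ := MulAction.exists_smul_eq G T T'
          refine ⟨γ, ?_⟩
          rw [← hγ, hT]
          rfl
        set s := γ * w0 * γ⁻¹ with hs
        have hcs : ∀ y : G, y * z = z * y → y * s = s * y := by
          intro y hy
          have hyT : y ∈ R.map (MulAut.conj γ).toMonoidHom :=
            hγ ▸ hT' (Subgroup.mem_centralizer_singleton_iff.2 hy)
          have h1 := (mem_Wd.1 hw0).2 _ (mem_conjMap.1 hyT)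
          calc y * s = γ * ((γ⁻¹ * y * γ) * w0) * γ⁻¹ := by rw [hs]; group
            _ = γ * (w0 * (γ⁻¹ * y * γ)) * γ⁻¹ := by rw [h1]
            _ = _ := by rw [hs]; group
        have hsR : s ∈ R := by
          rw [← hcentW R hR w0 hw0 hw01, Subgroup.mem_centralizer_singleton_iff]
          exact (hcs w0 ((mem_Wd.1 hw0).2 z hzR).symm).symm
        have hsWd : s ∈ Wd V R :=
          mem_Wd_of_commute sV hR hzR hzV (hK R hR γ hsR) (hcs z rfl).symm
        have hs1 : s ≠ 1 := by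
          intro e
          exact hw01 (by
            calc w0 = γ⁻¹ * s * γ := by rw [hs]; group
              _ = 1 := by rw [e]; group)
        refine hK R hR g ?_
        rw [← hcentW R hR s hsWd hs1, Subgroup.mem_centralizer_singleton_iff]
        exact hcs _ hzv.symm
    -- so `V` contains a nontrivial normal subgroup
    have hncl : Subgroup.normalClosure ({w0} : Set G) ≤ V := by
      rw [Subgroup.normalClosure, Subgroup.closure_le]
      intro x hx
      simp only [Group.mem_conjugatesOfSet_iff, Set.mem_singleton_iff, exists_eq_left,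
        isConj_iff] at hx
      obtain ⟨k, rfl⟩ := hx
      exact hall k
    rcases hsimp.eq_bot_or_eq_top_of_normal (Subgroup.normalClosure ({w0} : Set G))
      Subgroup.normalClosure_normal with h | h
    · exact hw01 (Subgroup.mem_bot.1 (h ▸ Subgroup.subset_normalClosure rfl))
    · have hVtop : V = ⊤ := top_le_iff.1 (h ▸ hncl)
      have hRV : R = V := le_antisymm (hVtop ▸ le_top) hVR
      have := hR.2.2
      rw [hRV, sV.card_U] at this
      nlinarith
  -- the second subgroup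
  set Ry := R.map (MulAut.conj g).toMonoidHom with hRy
  set Wy := (Wd V R).map (MulAut.conj g).toMonoidHom with hWy
  have hyy : y * y = 1 := by
    rw [← hgy]
    calc g * w0 * g⁻¹ * (g * w0 * g⁻¹) = g * (w0 * w0) * g⁻¹ := by group
      _ = 1 := by rw [sV.sq_U w0 hw0.1]; group
  have hcenty : ∀ z : G, z * y = y * z → z ∈ Ry := by
    intro z hz
    rw [hRy, mem_conjMap, ← hcentW R hR w0 hw0 hw01, Subgroup.mem_centralizer_singleton_iff]
    calc g⁻¹ * z * g * w0 = g⁻¹ * (z * (g * w0 * g⁻¹)) * g := by group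
      _ = g⁻¹ * ((g * w0 * g⁻¹) * z) * g := by rw [hgy, hz]
      _ = _ := by group
  have hWyc : ∀ j ∈ Wy, ∀ z ∈ Ry, z * j = j * z := by
    rintro _ ⟨j, hj, rfl⟩ _ ⟨z, hz, rfl⟩
    rw [← map_mul, ← map_mul, (mem_Wd.1 hj).2 z hz]
  have hWRy : ∀ w ∈ Wd V R, w ∈ Ry := fun w hw => hcenty w ((mem_Wd.1 hw).2 y hyR).symm
  have hWyR : Wy ≤ R := fun j hj => by
    rw [← hcentW R hR w0 hw0 hw01, Subgroup.mem_centralizer_singleton_iff]
    exact (hWyc j hj w0 (hWRy w0 hw0)).symm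
  have hyWy : y ∈ Wy := hgy ▸ ⟨w0, hw0, rfl⟩
  by_cases hdisj : Wy ⊓ V = ⊥
  swap
  · -- the conjugate of `V` is the second subgroup
    obtain ⟨j, hj, hj1⟩ : ∃ j ∈ Wy ⊓ V, j ≠ 1 := by
      by_contra hno
      push Not at hno
      exact hdisj ((Subgroup.eq_bot_iff_forall _).2 hno)
    obtain ⟨R', hR', hR'eq⟩ := hcentV j hj.2 hj1
    have hVRy : V ≤ Ry := by
      have h1 : Ry ≤ Subgroup.centralizer ({j} : Set G) := fun z hz =>
        Subgroup.mem_centralizer_singleton_iff.2 (hWyc j hj.1 z hz)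
      rw [hR'eq] at h1
      have h2 : Ry = R' := Subgroup.eq_of_le_of_card_ge h1 (by
        rw [hRy, card_conjMap, hR'.2.2, hR.2.2])
      exact h2 ▸ sV.syl_ge R' hR'
    set A := V.map (MulAut.conj g).toMonoidHom with hA
    have hyA : y ∈ A := hgy ▸ ⟨w0, hw0.1, rfl⟩
    -- `W` is contained in `A`
    let L : ↥V → ↥(Wd V R) := fun v => ⟨y * v * y⁻¹ * (v : G)⁻¹, xi_mem sV hR hyR v.2⟩
    let Lh : ↥V →* ↥(Wd V R) := MonoidHom.mk' L fun u v => Subtype.ext (xi_mul sV hR hyR u.2 v.2)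
    have hker : Lh.ker = (Wd V R).subgroupOf V := by
      ext v
      rw [MonoidHom.mem_ker, Subgroup.mem_subgroupOf]
      constructor
      · intro h
        have h' : y * v * y⁻¹ * (v : G)⁻¹ = 1 := congrArg Subtype.val h
        refine mem_Wd_of_commute sV hR hyR hyV v.2 ?_
        calc (v : G) * y = 1 * (v * y) := (one_mul _).symm
          _ = y * v * y⁻¹ * (v : G)⁻¹ * (v * y) := by rw [h']
          _ = _ := by group
      · exact fun h => Subtype.ext (xi_Wd hyR h)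
    have hsurj : Lh.range = ⊤ := by
      apply Subgroup.eq_top_of_card_eq
      have hWc : Nat.card ↥(Wd V R) = c := sV.fixed_card R hR
      have e := Lh.ker.card_eq_card_quotient_mul_card_subgroup
      rw [Nat.card_congr (QuotientGroup.quotientKerEquivRange Lh).toEquiv, hker,
        Nat.card_congr (Subgroup.subgroupOfEquivOfLe
          (show Wd V R ≤ V from inf_le_left)).toEquiv, hWc,
        sV.card_U, sq] at e
      rw [hWc]
      exact (Nat.eq_of_mul_eq_mul_right (by omega) e).symm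
    have hRyA : ∀ z ∈ Ry, ∀ a ∈ A, z * a * z⁻¹ ∈ A := by
      rintro _ ⟨z, hz, rfl⟩ _ ⟨a, ha, rfl⟩
      exact ⟨z * a * z⁻¹, conj_mem_U sV (hR.1 hz) ha, by simp [mul_assoc]⟩
    have hWA : Wd V R ≤ A := fun w hw => by
      obtain ⟨v, hv⟩ := MonoidHom.range_eq_top.1 hsurj ⟨w, hw⟩
      have hv' : y * v * y⁻¹ * (v : G)⁻¹ = w := congrArg Subtype.val hv
      rw [← hv', show y * (v : G) * y⁻¹ * (v : G)⁻¹ = y * ((v : G) * y⁻¹ * (v : G)⁻¹) by group]
      exact A.mul_mem hyA (hRyA _ (hVRy v.2) _ (inv_mem hyA))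
    have hAsq : ∀ a ∈ A, a * a = 1 := by
      rintro _ ⟨a, ha, rfl⟩; rw [← map_mul, sV.sq_U a ha, map_one]
    refine ⟨A, mk_pair hCIT hQ sV hR cV ?_ hAsq ((card_conjMap V g).trans sV.card_U)
      (fun hle => hyV (hle hyA)) ?_ fun _ _ => O2_conjMap_le sV.core hA.symm⟩
    · intro a ha
      rw [← hcentW R hR w0 hw0 hw01, Subgroup.mem_centralizer_singleton_iff]
      have h1 : a⁻¹ = a := inv_eq_of_mul_eq_one_right (hAsq a ha)
      have h2 : w0⁻¹ = w0 := inv_eq_of_mul_eq_one_right (hAsq w0 (hWA hw0))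
      have h3 : (a * w0)⁻¹ = a * w0 :=
        inv_eq_of_mul_eq_one_right (hAsq _ (A.mul_mem ha (hWA hw0)))
      rw [mul_inv_rev, h1, h2] at h3
      exact h3.symm
    · ext x
      rw [hA, mem_conjMap]
      have hx : x ∈ Subgroup.centralizer ((V.map (MulAut.conj g).toMonoidHom : Subgroup G) : Set G) ↔
          g⁻¹ * x * g ∈ Subgroup.centralizer (V : Set G) := by
        simp only [Subgroup.mem_centralizer_iff, SetLike.mem_coe]
        constructor
        · intro h v hv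
          have := congrArg (fun y => g⁻¹ * y * g) (h (g * v * g⁻¹) (conj_mem_conjMap hv))
          calc v * (g⁻¹ * x * g) = g⁻¹ * (g * v * g⁻¹ * x) * g := by group
            _ = g⁻¹ * (x * (g * v * g⁻¹)) * g := this
            _ = _ := by group
        · rintro h _ ⟨v, hv, rfl⟩
          show g * v * g⁻¹ * x = x * (g * v * g⁻¹)
          calc g * v * g⁻¹ * x = g * (v * (g⁻¹ * x * g)) * g⁻¹ := by group
            _ = g * ((g⁻¹ * x * g) * v) * g⁻¹ := by rw [h v hv]
            _ = _ := by group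
      rw [hx, cV]
  -- the product of the two centres is the second subgroup
  have hcomm : ∀ (a : ↥(Wd V R)) (b : ↥Wy),
      Commute ((Wd V R).subtype a) (Wy.subtype b) := fun a b =>
    ((mem_Wd.1 a.2).2 b (hWyR b.2)).symm
  let m : ↥(Wd V R) × ↥Wy →* G :=
    MonoidHom.noncommCoprod (Wd V R).subtype Wy.subtype hcomm
  have hm : ∀ p : ↥(Wd V R) × ↥Wy, m p = p.1 * p.2 := fun p => rfl
  have hinj : Function.Injective m := by
    rw [injective_iff_map_eq_one]
    rintro ⟨a, b⟩ hab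
    rw [hm] at hab
    have hb : (b : G) ∈ Wy ⊓ V := ⟨b.2, by
      rw [eq_inv_of_mul_eq_one_right hab]; exact V.inv_mem a.2.1⟩
    rw [hdisj, Subgroup.mem_bot] at hb
    rw [hb, mul_one] at hab
    exact Prod.ext (Subtype.ext hab) (Subtype.ext hb)
  set A := m.range with hA
  have hAsq : ∀ a ∈ A, a * a = 1 := by
    rintro _ ⟨⟨a, ⟨_, j, hj, rfl⟩⟩, rfl⟩
    rw [← map_mul]
    refine (congrArg m (Prod.ext ?_ ?_)).trans (map_one m)
    · exact Subtype.ext (sV.sq_U a a.2.1)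
    · refine Subtype.ext ?_
      show MulAut.conj g j * MulAut.conj g j = 1
      rw [← map_mul, sV.sq_U j hj.1, map_one]
  have hWA : Wd V R ≤ A := fun w hw => ⟨(⟨w, hw⟩, 1), by rw [hm]; simp⟩
  have hWyA : Wy ≤ A := fun w hw => ⟨(1, ⟨w, hw⟩), by rw [hm]; simp⟩
  have hAR : A ≤ R := by
    rintro _ ⟨⟨a, b⟩, rfl⟩
    rw [hm]
    exact R.mul_mem (hVR a.2.1) (hWyR b.2)
  have hAcard : Nat.card ↥A = c ^ 2 := by
    rw [hA, ← Nat.card_congr (MonoidHom.ofInjective hinj).toEquiv, Nat.card_prod, hWy, card_conjMap,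
      sq]
    exact congrArg₂ (· * ·) (sV.fixed_card R hR) (sV.fixed_card R hR)
  have hyA : y ∈ A := hWyA hyWy
  have hAV : ¬ A ≤ V := fun h => hyV (h hyA)
  refine ⟨A, mk_pair hCIT hQ sV hR cV hAR hAsq hAcard hAV (le_antisymm ?_ ?_) ?_⟩
  · intro x hx
    rw [Subgroup.mem_centralizer_iff] at hx
    have hxR : x ∈ R := by
      rw [← hcentW R hR w0 hw0 hw01, Subgroup.mem_centralizer_singleton_iff]
      exact (hx w0 (hWA hw0)).symm
    -- the cosets of `V` in `R` meet `A`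
    have hinj' : ∀ a ∈ A, a ∈ V → a ∈ Wd V R := by
      intro a ha haV
      obtain ⟨⟨w, j⟩, rfl⟩ := ha
      rw [hm] at haV ⊢
      have hj : (j : G) ∈ Wy ⊓ V := ⟨j.2, (Subgroup.mul_mem_cancel_left V w.2.1).1 haV⟩
      rw [hdisj, Subgroup.mem_bot] at hj
      rw [hj, mul_one]; exact w.2
    let f : ↥A × ↥V → G := fun p => p.1 * p.2
    let q : ↥Wy × ↥V → ↥R := fun p => ⟨p.1 * p.2, R.mul_mem (hWyR p.1.2) (hVR p.2.2)⟩
    have hq : Function.Injective q := by
      rintro ⟨a, b⟩ ⟨a', b'⟩ e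
      have e' : (a : G) * b = a' * b' := congrArg Subtype.val e
      have h1 : (a' : G)⁻¹ * a ∈ Wy ⊓ V := ⟨Wy.mul_mem (inv_mem a'.2) a.2, by
        rw [show (a' : G)⁻¹ * a = b' * (b : G)⁻¹ by
          calc (a' : G)⁻¹ * a = (a' : G)⁻¹ * (a * b) * (b : G)⁻¹ := by group
            _ = _ := by rw [e']; group]
        exact V.mul_mem b'.2 (inv_mem b.2)⟩
      rw [hdisj, Subgroup.mem_bot] at h1
      have ha : a = a' := Subtype.ext (inv_mul_eq_one.1 h1).symm
      subst ha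
      exact Prod.ext rfl (Subtype.ext (mul_left_cancel e'))
    have hqcard : Nat.card (↥Wy × ↥V) = Nat.card ↥R := by
      rw [Nat.card_prod, hWy, card_conjMap, hR.2.2, sV.card_U]
      exact (congrArg (· * c ^ 2) (sV.fixed_card R hR)).trans (by ring)
    obtain ⟨⟨j, v⟩, hjv⟩ := ((Nat.bijective_iff_injective_and_card q).2 ⟨hq, hqcard⟩).2 ⟨x, hxR⟩
    have hxe : x = (j : G) * v := (congrArg Subtype.val hjv).symm
    rw [hxe]
    refine A.mul_mem (hWyA j.2) (hWA (mem_Wd_of_commute sV hR hyR hyV v.2 ?_))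
    have h1 : y * ((j : G) * v) = ((j : G) * v) * y := by rw [← hxe]; exact hx y hyA
    have hyRy : y ∈ Ry := hcenty y rfl
    have h2 : y * (j : G) = j * y := hWyc j j.2 y hyRy
    rw [← mul_assoc, h2, mul_assoc, mul_assoc] at h1
    exact (mul_left_cancel h1).symm
  · intro a ha
    rw [Subgroup.mem_centralizer_iff]
    intro b hb
    have h := hAsq _ (A.mul_mem hb ha)
    have h1 : (b * a)⁻¹ = b * a := inv_eq_of_mul_eq_one_right h
    rw [mul_inv_rev, inv_eq_of_mul_eq_one_right (hAsq a ha),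
      inv_eq_of_mul_eq_one_right (hAsq b hb)] at h1
    exact h1.symm
  · -- `O₂(N(A))` lies in the two Sylow subgroups `R` and `Ry`
    intro hprod hRA
    have hRyR : ∀ a ∈ A, g⁻¹ * a * g ∈ R := by
      rintro _ ⟨⟨w, j⟩, rfl⟩
      rw [hm]
      have h1 := mem_conjMap.1 (hWRy w w.2)
      have h2 : g⁻¹ * (j : G) * g ∈ R := hVR (mem_conjMap.1 (show (j : G) ∈ Wy from j.2)).1
      rw [show g⁻¹ * ((w : G) * j) * g = g⁻¹ * w * g * (g⁻¹ * j * g) by group]
      exact R.mul_mem h1 h2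
    have hacomm : ∀ a ∈ A, ∀ b ∈ A, a * b = b * a := by
      intro a ha b hb
      have h := hAsq _ (A.mul_mem hb ha)
      have h1 : (b * a)⁻¹ = b * a := inv_eq_of_mul_eq_one_right h
      rw [mul_inv_rev, inv_eq_of_mul_eq_one_right (hAsq a ha),
        inv_eq_of_mul_eq_one_right (hAsq b hb)] at h1
      exact h1
    have hder : ∀ r ∈ R, ∀ s ∈ R, r * s * r⁻¹ * s⁻¹ ∈ Wd V R := by
      intro r hr s hs
      obtain ⟨a, ha, v, hv, rfl⟩ := hprod r hr
      obtain ⟨a', ha', v', hv', rfl⟩ := hprod s hs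
      set ξ := v * a' * v⁻¹ * a'⁻¹ with hξ
      set η := a * v' * a⁻¹ * v'⁻¹ with hη
      have hξW : ξ ∈ Wd V R := sV.comm_fixed R hR v hv a' (hAR ha')
      have hηW : η ∈ Wd V R := xi_mem sV hR (hAR ha) hv'
      have e1 : a * ξ = ξ * a := (mem_Wd.1 hξW).2 a (hAR ha)
      have e2 : a' * η = η * a' := (mem_Wd.1 hηW).2 a' (hAR ha')
      have : a * v * (a' * v') * (a * v)⁻¹ * (a' * v')⁻¹ = ξ * η := by
        calc a * v * (a' * v') * (a * v)⁻¹ * (a' * v')⁻¹
            = a * ξ * a' * (v * v' * v⁻¹) * a⁻¹ * v'⁻¹ * a'⁻¹ := by rw [hξ]; group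
          _ = a * ξ * a' * v' * a⁻¹ * v'⁻¹ * a'⁻¹ := by
              rw [sV.comm_U v hv v' hv']; group
          _ = ξ * (a * a') * v' * a⁻¹ * v'⁻¹ * a'⁻¹ := by rw [e1]; group
          _ = ξ * (a' * η) * a'⁻¹ := by rw [hacomm a ha a' ha', hη]; group
          _ = ξ * η := by rw [e2]; group
      rw [this]
      exact (Wd V R).mul_mem hξW hηW
    -- `Ry` normalises `A`
    have hRyA : Ry ≤ Subgroup.normalizer (A : Set G) := by
      have hconj : ∀ z ∈ Ry, ∀ a ∈ A, z * a * z⁻¹ ∈ A := by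
        rintro _ ⟨r, hr, rfl⟩ a ha
        have h1 := hder r hr _ (hRyR a ha)
        have h2 : g * (r * (g⁻¹ * a * g) * r⁻¹ * (g⁻¹ * a * g)⁻¹) * g⁻¹ ∈ Wy :=
          conj_mem_conjMap h1
        show g * r * g⁻¹ * a * (g * r * g⁻¹)⁻¹ ∈ A
        rw [show g * r * g⁻¹ * a * (g * r * g⁻¹)⁻¹
            = g * (r * (g⁻¹ * a * g) * r⁻¹ * (g⁻¹ * a * g)⁻¹) * g⁻¹ * a by group]
        exact A.mul_mem (hWyA h2) ha
      intro z hz
      refine Subgroup.mem_normalizer_iff.2 fun a => ⟨hconj z hz a, fun h => ?_⟩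
      have := hconj z⁻¹ (inv_mem hz) _ h
      rwa [show z⁻¹ * (z * a * z⁻¹) * z⁻¹⁻¹ = a by group] at this
    set O := O2 (Subgroup.normalizer (A : Set G)) with hOdef
    have hmax : ∀ S : Subgroup G, S ≤ Subgroup.normalizer (A : Set G) → IsPGroup 2 ↥S →
        Nat.card ↥S = Nat.card ↥(T : Subgroup G) → O ≤ S := by
      intro S hS hS2 hScard
      obtain ⟨T', hT'⟩ := (hS2.to_sup_of_normal_right' (isPGroup_O2 _)
        (hS.trans (le_normalizer_O2 _))).exists_le_sylow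
      have : S = T' := Subgroup.eq_of_le_of_card_ge (le_sup_left.trans hT') (by
        rw [hScard, Sylow.card_eq_multiplicity, Sylow.card_eq_multiplicity])
      exact this ▸ le_sup_right.trans hT'
    intro x hx
    have hxR : x ∈ R := hmax R hRA hR.2.1 (by rw [← hT]) hx
    have hxRy : x ∈ Ry := hmax Ry hRyA (hR.2.1.map _) (by rw [hRy, card_conjMap, hT]) hx
    have hxy : x * y = y * x := hWyc y hyWy x hxRy
    obtain ⟨a, ha, v, hv, rfl⟩ := hprod x hxR
    refine A.mul_mem ha (hWA (mem_Wd_of_commute sV hR hyR hyV hv ?_))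
    have h2 : a * (v * y) = a * (y * v) := by
      calc a * (v * y) = a * v * y := (mul_assoc _ _ _).symm
        _ = y * (a * v) := hxy
        _ = y * a * v := (mul_assoc _ _ _).symm
        _ = _ := by rw [hacomm y hyA a ha, mul_assoc]
    exact mul_left_cancel h2

end Flats73

end Cfsg.Agent.CIT21
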