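import Cfsg.Prelude
import Cfsg.Agent.Lib.CNGlobal
import Cfsg.Agent.Lib.FrobeniusPartition

/-!
The Feit-Hall-Thompson theorem: a CN-group of odd order is solvable.
-/

namespace Cfsg.Agent.CNTheorem

open Cfsg
open scoped commutatorElement

universe u

theorem fittingOf_conj {G : Type u} [Group G] [Finite G] (M : Subgroup G) (g : G) :
    fittingOf (M.map (MulAut.conj g).toMonoidHom) = (fittingOf M).map (MulAut.conj g).toMonoidHom := by
  rw [fittingOf, fittingOf]
  refine (congrArg (Subgroup.map _)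
    (ComponentsCores.fitting_map_mulEquiv ((MulAut.conj g).subgroupMap M)).symm).trans ?_
  ext x
  constructor
  · rintro ⟨_, ⟨y, hy, rfl⟩, rfl⟩
    exact ⟨_, ⟨y, hy, rfl⟩, rfl⟩
  · rintro ⟨_, ⟨y, hy, rfl⟩, rfl⟩
    exact ⟨_, ⟨y, hy, rfl⟩, rfl⟩

variable {G : Type u} [Group G] [Finite G]

theorem false_of_hyp (h : CNGlobal.Hyp G) : False := by
  classical
  have := Fintype.ofFinite G
  let S : Setoid {M : Subgroup G // IsCoatom M} :=
    { r := fun M N => ∃ g : G, (N : Subgroup G) = (M : Subgroup G).map (MulAut.conj g).toMonoidHom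
      iseqv :=
        { refl := fun M => ⟨1, by ext x; simp⟩
          symm := fun {M N} ⟨g, hg⟩ => ⟨g⁻¹, by
            rw [hg, Subgroup.map_map]; ext x; simp [mul_assoc]⟩
          trans := fun {A B C} ⟨g, hg⟩ ⟨k, hk⟩ => ⟨k * g, by
            rw [hk, hg, Subgroup.map_map]; ext x; simp [mul_assoc]⟩ } }
  have := Fintype.ofFinite (Quotient S)
  let L : Quotient S → Subgroup G := fun q => (Quotient.out q).1
  let H : Quotient S → Subgroup G := fun q => fittingOf (L q)
  have hL : ∀ q, IsCoatom (L q) := fun q => (Quotient.out q).2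
  have hK : ∀ q, FrobeniusKernelChars.KHyp (L q) (H q) := fun q =>
    { lt := CNGlobal.fitting_lt h (hL q)
      ne_bot := CNGlobal.fitting_ne_bot h (hL q)
      normal := fun x hx y hy => by
        rw [← CNGlobal.normalizer_fitting h (hL q)] at hx
        exact (Subgroup.mem_normalizer_iff.mp hx y).mp hy
      frob := fun y hy hy1 => inf_le_right.trans (CNGlobal.frobenius h (hL q) hy hy1)
      ti := fun g hg t ht hgt => CNGlobal.ti h (hL q) g
        (by rw [CNGlobal.normalizer_fitting h (hL q)]; exact hg) t ht hgt }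
  have hcover : ∀ x : G, x ≠ 1 → ∃ q, ∃ g : G, g * x * g⁻¹ ∈ H q := by
    intro x hx
    obtain ⟨M, hM, hxM⟩ := CNGlobal.cover h hx
    refine ⟨Quotient.mk S ⟨M, hM⟩, ?_⟩
    obtain ⟨g, hg⟩ : (⟨M, hM⟩ : {M : Subgroup G // IsCoatom M}) ≈ Quotient.out (Quotient.mk S ⟨M, hM⟩) :=
      S.symm (Quotient.mk_out _)
    refine ⟨g, ?_⟩
    simp only [H, L]
    rw [hg, fittingOf_conj]
    exact ⟨x, hxM, rfl⟩
  have hcop : ∀ i j, i ≠ j → (Nat.card (H i)).Coprime (Nat.card (H j)) := by
    intro i j hij
    refine Nat.coprime_of_dvd fun p hp hpi hpj => hij ?_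
    have := Fact.mk hp
    have hrel : Quotient.out i ≈ Quotient.out j := CNGlobal.conj_of_common_prime h (hL i) (hL j) hpi hpj
    have := Quotient.sound hrel
    rwa [Quotient.out_eq, Quotient.out_eq] at this
  obtain ⟨x, hx⟩ := @exists_ne G h.simple.toNontrivial (1 : G)
  obtain ⟨q, -⟩ := hcover x hx
  by_cases hι : 2 ≤ Fintype.card (Quotient S)
  · exact FrobeniusPartition.no_partition L H hK h.odd hcop hcover hι
  -- a single class of kernels cannot cover the group
  have hsub : Subsingleton (Quotient S) := Fintype.card_le_one_iff_subsingleton.mp (by omega)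
  have := fun i => Fintype.ofFinite (H i)
  have h1 := FrobeniusPartition.sum_cover L H hK hcop hcover (fun _ => (1 : ℝ)) (fun _ _ => rfl)
  rw [Fintype.sum_subsingleton _ q, Finset.sum_const, Finset.sum_const,
    Finset.card_erase_of_mem (Finset.mem_univ _), Finset.card_univ, Finset.card_univ,
    nsmul_eq_mul, nsmul_eq_mul, mul_one, mul_one, ← Nat.card_eq_fintype_card, ← Nat.card_eq_fintype_card,
    Nat.cast_sub Nat.card_pos, Nat.cast_one] at h1
  have hlt : Nat.card (H q) < Nat.card (L q) := by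
    rcases (Subgroup.card_le_of_le (hK q).lt.le).lt_or_eq with h' | h'
    · exact h'
    · exact absurd (Subgroup.eq_of_le_of_card_ge (hK q).lt.le h'.ge) (hK q).lt.ne
  have hlt' : (Nat.card (H q) : ℝ) + 1 ≤ Nat.card (L q) := by exact_mod_cast hlt
  have hLG : (Nat.card (L q) : ℝ) ≤ Nat.card G := by exact_mod_cast Subgroup.card_le_card_group _
  have hL0 : (0 : ℝ) < Nat.card (L q) := Nat.cast_pos.mpr Nat.card_pos
  rw [div_mul_eq_mul_div, ← sub_eq_iff_eq_add', eq_div_iff hL0.ne'] at h1
  nlinarith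

/-- **Theorem.** Odd order CN-groups are solvable. -/
theorem isSolvable : ∀ (n : ℕ) {G : Type u} [Group G] [Finite G], Nat.card G = n →
    Odd (Nat.card G) → IsCNGroup G → Group.IsSolvable G := by
  intro n
  induction n using Nat.strong_induction_on with
  | _ n ih =>
    intro G _ _ hn hodd hCN
    have hsub : ∀ H : Subgroup G, H ≠ ⊤ → Group.IsSolvable H := fun H hH =>
      ih _ (hn ▸ lt_of_le_of_ne (Subgroup.card_le_card_group H)
        fun e => hH (Subgroup.eq_top_of_card_eq H e)) rfl
        (hodd.of_dvd_nat (Subgroup.card_subgroup_dvd_card H)) (CNBasic.subgroup hCN H)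
    by_cases hN : ∃ N : Subgroup G, N.Normal ∧ N ≠ ⊥ ∧ N ≠ ⊤
    · obtain ⟨N, hNn, hN0, hN1⟩ := hN
      have hNs := hsub N hN1
      have hQ := CNBasic.quotient_solvable _ rfl hCN N hNs
      have hlt : Nat.card (G ⧸ N) < n := by
        rw [← hn, Subgroup.card_eq_card_quotient_mul_card_subgroup N]
        exact lt_mul_of_one_lt_right Nat.card_pos ((Subgroup.one_lt_card_iff_ne_bot N).mpr hN0)
      have hQs := ih _ hlt rfl (hodd.of_dvd_nat (Subgroup.card_quotient_dvd_card N)) hQ
      exact (Group.isSolvable_iff_subgroup_quotient N).mpr ⟨hNs, hQs⟩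
    by_cases hcomm : ∀ a b : G, a * b = b * a
    · exact Group.isSolvable_of_comm hcomm
    push Not at hN hcomm
    obtain ⟨a, b, hab⟩ := hcomm
    have : Nontrivial G := ⟨⟨a, 1, fun e => hab (by simp [e])⟩⟩
    have hs : IsSimpleGroup G :=
      ⟨fun N hNn => (eq_or_ne N ⊥).imp id fun h0 => hN N hNn h0⟩
    have hperf : commutator G = ⊤ := by
      refine (hs.eq_bot_or_eq_top_of_normal (commutator G) inferInstance).resolve_left fun e => hab ?_
      have h1 : ⁅a, b⁆ ∈ commutator G :=
        Subgroup.commutator_mem_commutator (Subgroup.mem_top a) (Subgroup.mem_top b)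
      rw [e, Subgroup.mem_bot] at h1
      exact commutatorElement_eq_one_iff_mul_comm.mp h1
    exact absurd (false_of_hyp ⟨hodd, hCN, hs, hperf, hsub⟩) id

/-- There is no minimal simple CN-group of odd order. -/
theorem false_of_minSimple (hG : IsMinSimpleOddOrder G) (hCN : IsCNGroup G) : False := by
  have hs := isSolvable _ rfl hG.1 hCN
  have hsimple := hG.2.1
  refine hG.2.2.1 ⟨⟨fun a b => ?_⟩⟩
  have := hsimple.toNontrivial
  rcases hsimple.eq_bot_or_eq_top_of_normal (commutator G) inferInstance with e | e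
  · have h1 : ⁅a, b⁆ ∈ commutator G :=
      Subgroup.commutator_mem_commutator (Subgroup.mem_top a) (Subgroup.mem_top b)
    rw [e, Subgroup.mem_bot] at h1
    exact commutatorElement_eq_one_iff_mul_comm.mp h1
  · exact absurd e (Group.IsSolvable.commutator_lt_top_of_nontrivial (G := G)).ne

end Cfsg.Agent.CNTheorem
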