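import Mathlib
import Cfsg.Prelude
import Cfsg.Agent.Lib.CNBasic
import Cfsg.Agent.Lib.FrobeniusBasic
import Cfsg.Agent.Lib.FrobeniusComplement

/-!
Finite groups in which the centraliser of every element is a TI-subset: nilpotency of centralisers,
the case of a nontrivial centre and the case of a nontrivial nilpotent normal subgroup.
-/

set_option autoImplicit false
set_option linter.style.haveILetI false

namespace Cfsg.Agent.TICentralizers82

open Cfsg

universe u

variable {G : Type u} [Group G]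

/-- Every centraliser is a TI-subset. -/
def Hyp (G : Type u) [Group G] : Prop :=
  ∀ x : G, Cfsg.IsTISubset (Subgroup.centralizer ({x} : Set G) : Set G)

/-- The centraliser of an element. -/
abbrev cn (x : G) : Subgroup G := Subgroup.centralizer ({x} : Set G)

theorem mem_cn {x y : G} : y ∈ cn x ↔ Commute y x := Subgroup.mem_centralizer_singleton_iff

theorem self_mem_cn (x : G) : x ∈ cn x := mem_cn.2 (Commute.refl x)

theorem mem_cn_comm {x y : G} (h : y ∈ cn x) : x ∈ cn y := mem_cn.2 (mem_cn.1 h).symm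

/-- An element carrying a nontrivial element of a centraliser into it normalises it. -/
theorem stable (h : Hyp G) {x g v : G} (hv1 : v ≠ 1) (hv : v ∈ cn x) (hgv : g * v * g⁻¹ ∈ cn x) :
    g ∈ Subgroup.normalizer (cn x : Set G) := by
  by_contra hg
  exact hv1 (h x g hg v hv hgv)

theorem conj_self {c x : G} (hc : c ∈ cn x) : c * x * c⁻¹ = x := by
  rw [(mem_cn.1 hc).eq, mul_inv_cancel_right]

/-- Inside a centraliser all centralisers are normal. -/
theorem le_normalizer (h : Hyp G) {x y c : G} (hx : x ≠ 1) (hy : y ∈ cn x) (hc : c ∈ cn x) :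
    c ∈ Subgroup.normalizer (cn y : Set G) :=
  stable h hx (mem_cn_comm hy) (by rw [conj_self hc]; exact mem_cn_comm hy)

theorem conj_commute (h : Hyp G) {x a c : G} (hx : x ≠ 1) (ha : a ∈ cn x) (hc : c ∈ cn x) :
    Commute (c * a * c⁻¹) a :=
  mem_cn.1 ((Subgroup.mem_normalizer_iff.1 (le_normalizer h hx ha hc) a).1 (self_mem_cn a))

/-- The hypothesis passes to subgroups. -/
theorem Hyp.subgroup (h : Hyp G) (H : Subgroup G) : Hyp H := by
  intro x g hg v hv hgv
  have hv' : (v : G) ∈ cn (x : G) := mem_cn.2 (congrArg Subtype.val (mem_cn.1 hv).eq)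
  have hgv' : (g : G) * v * (g : G)⁻¹ ∈ cn (x : G) :=
    mem_cn.2 (congrArg Subtype.val (mem_cn.1 hgv).eq)
  by_contra hv1
  have hn := stable h (fun e => hv1 (Subtype.ext e)) hv' hgv'
  refine hg (Subgroup.mem_normalizer_iff.2 fun z => ?_)
  have key : ∀ w : H, w ∈ cn x ↔ (w : G) ∈ cn (x : G) := fun w => by
    rw [mem_cn, mem_cn]
    exact ⟨fun hw => congrArg Subtype.val hw.eq, fun hw => Subtype.ext hw.eq⟩
  show z ∈ cn x ↔ g * z * g⁻¹ ∈ cn x
  rw [key, key]
  exact (Subgroup.mem_normalizer_iff.1 hn (z : G)).trans Iff.rfl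

section

variable [Finite G]

/-- A group in which every element commutes with its conjugates is nilpotent. -/
theorem isNilpotent_of_conj_commute {K : Type*} [Group K] [Finite K]
    (h : ∀ x c : K, Commute (c * x * c⁻¹) x) : Group.IsNilpotent K := by
  refine CNBasic.isNilpotent_of_commute fun r s hr hs hrs a b i j ha hb => ?_
  have key : ∀ (p : ℕ) (w : K) (i : ℕ), orderOf w = p ^ i →
      ∀ y ∈ Subgroup.normalClosure ({w} : Set K), orderOf y ∣ p ^ i := by
    intro p w i hw
    have hcomm : ∀ u ∈ Group.conjugatesOfSet ({w} : Set K),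
        ∀ v ∈ Group.conjugatesOfSet ({w} : Set K), u * v = v * u := by
      intro u hu v hv
      simp only [Group.mem_conjugatesOfSet_iff, Set.mem_singleton_iff, exists_eq_left] at hu hv
      obtain ⟨c, rfl⟩ := isConj_iff.1 hu
      obtain ⟨d, rfl⟩ := isConj_iff.1 hv
      have := (h w (d⁻¹ * c)).map (MulAut.conj d)
      simpa [MulAut.conj_apply, mul_assoc] using this.eq
    have := Subgroup.isMulCommutative_closure hcomm
    intro y hy
    rw [Subgroup.normalClosure] at hy
    have hpow : y ^ p ^ i = 1 := by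
      induction hy using Subgroup.closure_induction with
      | mem u hu =>
        simp only [Group.mem_conjugatesOfSet_iff, Set.mem_singleton_iff, exists_eq_left] at hu
        obtain ⟨c, rfl⟩ := isConj_iff.1 hu
        rw [conj_pow, ← hw, pow_orderOf_eq_one]; group
      | one => exact one_pow _
      | mul u v hu hv ihu ihv =>
        have hc : Commute u v := congrArg Subtype.val
          (this.is_comm.comm (⟨u, hu⟩ : Subgroup.closure (Group.conjugatesOfSet ({w} : Set K)))
            ⟨v, hv⟩)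
        rw [hc.mul_pow, ihu, ihv, one_mul]
      | inv u hu ih => rw [inv_pow, ih, inv_one]
    exact orderOf_dvd_of_pow_eq_one hpow
  have haA : a ∈ Subgroup.normalClosure ({a} : Set K) :=
    Subgroup.subset_normalClosure (Set.mem_singleton a)
  have hbB : b ∈ Subgroup.normalClosure ({b} : Set K) :=
    Subgroup.subset_normalClosure (Set.mem_singleton b)
  have hmema : a * b * a⁻¹ * b⁻¹ ∈ Subgroup.normalClosure ({a} : Set K) := by
    have h1 : b * a⁻¹ * b⁻¹ ∈ Subgroup.normalClosure ({a} : Set K) :=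
      Subgroup.Normal.conj_mem inferInstance _ (inv_mem haA) b
    have h2 := mul_mem haA h1
    rwa [← mul_assoc, ← mul_assoc] at h2
  have hmemb : a * b * a⁻¹ * b⁻¹ ∈ Subgroup.normalClosure ({b} : Set K) :=
    mul_mem (Subgroup.Normal.conj_mem inferInstance _ hbB a) (inv_mem hbB)
  have h1 : orderOf (a * b * a⁻¹ * b⁻¹) = 1 := Nat.eq_one_of_dvd_coprimes
    (Nat.Coprime.pow i j ((Nat.coprime_primes hr hs).2 hrs))
    (key r a i ha _ hmema) (key s b j hb _ hmemb)
  rw [orderOf_eq_one_iff, mul_inv_eq_one, mul_inv_eq_iff_eq_mul] at h1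
  exact h1

/-- A group of the hypothesis is a CN-group. -/
theorem Hyp.isCN (h : Hyp G) : Cfsg.IsCNGroup G := fun g hg => by
  refine isNilpotent_of_conj_commute fun x c => ?_
  exact Subtype.ext (conj_commute h hg x.2 c.2).eq

/-- A nontrivial centre forces nilpotency. -/
theorem isNilpotent_of_center (h : Hyp G) {z : G} (hz : z ∈ Subgroup.center G) (hz1 : z ≠ 1) :
    Group.IsNilpotent G := by
  refine isNilpotent_of_conj_commute fun x c => ?_
  have hall : ∀ y : G, y ∈ cn z := fun y => mem_cn.2 (Subgroup.mem_center_iff.1 hz y)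
  exact conj_commute h hz1 (hall x) (hall c)

/-- A nilpotent normal subgroup of largest order contains the centralisers of its nontrivial
elements. -/
theorem exists_cc (h : Hyp G) {N : Subgroup G} (hNn : N.Normal) (hNnil : Group.IsNilpotent N)
    (hN : N ≠ ⊥) : ∃ K : Subgroup G, K.Normal ∧ Group.IsNilpotent K ∧ K ≠ ⊥ ∧
      ∀ k ∈ K, k ≠ 1 → cn k ≤ K := by
  classical
  obtain ⟨K, ⟨hKn, hKnil⟩, hmax⟩ := (Set.toFinite
    {K : Subgroup G | K.Normal ∧ Group.IsNilpotent K}).exists_maximalFor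
      (fun K : Subgroup G => Nat.card K) _ ⟨N, hNn, hNnil⟩
  have hKN : Nat.card N ≤ Nat.card K := by
    rcases le_total (Nat.card N) (Nat.card K) with e | e
    · exact e
    · exact hmax ⟨hNn, hNnil⟩ e
  have hK : K ≠ ⊥ := by
    intro e
    rw [e, Subgroup.card_bot] at hKN
    exact hN (Subgroup.card_eq_one.1 (le_antisymm hKN Nat.card_pos))
  haveI := hKn
  haveI := hKnil
  have hnormal : ∀ k : G, k ≠ 1 → ∀ v : G, v ∈ cn k → v ≠ 1 → (∀ g : G, g * v * g⁻¹ ∈ cn k) →
      (cn k).Normal := fun k _ v hv hv1 hall =>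
    Subgroup.normalizer_eq_top_iff.1 ((Subgroup.eq_top_iff' _).2 fun g => stable h hv1 hv (hall g))
  have hmax' : ∀ J : Subgroup G, J.Normal → Group.IsNilpotent J → K ≤ J → J = K := by
    intro J hJ hJnil hle
    refine (Subgroup.eq_of_le_of_card_ge hle ?_).symm
    exact hmax ⟨hJ, hJnil⟩ (Subgroup.card_le_of_le hle)
  have hZ : ∀ v : G, v ∈ K → (∀ y ∈ K, Commute y v) → v ≠ 1 → cn v = K := by
    intro v hv hc hv1
    refine hmax' _ (hnormal v hv1 v (self_mem_cn v) hv1 fun g => ?_) (Hyp.isCN h v hv1)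
      fun y hy => mem_cn.2 (hc y hy)
    exact mem_cn.2 (hc _ (hKn.conj_mem v hv g))
  refine ⟨K, hKn, hKnil, hK, fun k hk hk1 => ?_⟩
  obtain ⟨z, hzK, hz1, hzc⟩ : ∃ z : G, z ∈ K ∧ z ≠ 1 ∧ ∀ y ∈ K, Commute y z := by
    have : Nontrivial K := (Subgroup.nontrivial_iff_ne_bot K).2 hK
    obtain ⟨w, -, hw1, hwc⟩ := ThompsonAQ.exists_central_mem (G := K) (N := ⊤) top_ne_bot
    exact ⟨w, w.2, fun e => hw1 (Subtype.ext e), fun y hy =>
      congrArg Subtype.val (Subgroup.mem_center_iff.1 hwc ⟨y, hy⟩)⟩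
  -- the subgroup of central elements of `K`
  let Z : Subgroup G := K ⊓ Subgroup.centralizer (K : Set G)
  have hZn : Z.Normal := by
    refine ⟨fun v hv g => ⟨hKn.conj_mem v hv.1 g, Subgroup.mem_centralizer_iff.2 fun y hy => ?_⟩⟩
    have h1 : g⁻¹ * y * g ∈ K := by
      have := hKn.conj_mem y hy g⁻¹
      rwa [inv_inv] at this
    have h2 := Subgroup.mem_centralizer_iff.1 hv.2 _ h1
    calc y * (g * v * g⁻¹) = g * (g⁻¹ * y * g * v) * g⁻¹ := by group
      _ = g * (v * (g⁻¹ * y * g)) * g⁻¹ := by rw [h2]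
      _ = g * v * g⁻¹ * y := by group
  haveI := hZn
  have hzZ : z ∈ Z := ⟨hzK, Subgroup.mem_centralizer_iff.2 fun y hy => hzc y hy⟩
  have hZc : ∀ v ∈ Z, ∀ y ∈ K, Commute y v := fun v hv y hy =>
    Subgroup.mem_centralizer_iff.1 hv.2 y hy
  set J := cn k with hJ
  have hJn : J.Normal := hnormal k hk1 z (mem_cn.2 (hzc k hk).symm) hz1 fun g =>
    mem_cn.2 (hZc _ (hZn.conj_mem z hzZ g) k hk).symm
  haveI : Group.IsNilpotent J := Hyp.isCN h k hk1
  have hne : Z.subgroupOf J ≠ ⊥ := fun e => by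
    have : (⟨z, mem_cn.2 (hzc k hk).symm⟩ : J) ∈ Z.subgroupOf J := hzZ
    rw [e, Subgroup.mem_bot] at this
    exact hz1 (congrArg Subtype.val this)
  obtain ⟨v, hvZ, hv1, hvc⟩ := ThompsonAQ.exists_central_mem hne
  rw [← hZ v hvZ.1 (hZc v hvZ) (fun e => hv1 (Subtype.ext e))]
  exact fun y hy => mem_cn.2 (congrArg Subtype.val (Subgroup.mem_center_iff.1 hvc ⟨y, hy⟩))

/-- A nilpotent CC-subgroup is a Hall subgroup. -/
theorem coprime_of_cc {K : Subgroup G} [Group.IsNilpotent K]
    (hcc : ∀ k ∈ K, k ≠ 1 → cn k ≤ K) : (Nat.card K).Coprime K.index := by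
  refine Nat.coprime_of_dvd fun p hp hd hi => ?_
  have := Fact.mk hp
  obtain ⟨⟨y, hy⟩, ho⟩ := exists_prime_orderOf_dvd_card' p hd
  rw [Subgroup.orderOf_mk] at ho
  have hpg : IsPGroup p (Subgroup.zpowers y) := IsPGroup.of_card (n := 1)
    (by rw [Nat.card_zpowers, ho, pow_one])
  obtain ⟨P, hP⟩ := hpg.exists_le_sylow
  have hyP : y ∈ (P : Subgroup G) := hP (Subgroup.mem_zpowers y)
  have hy1 : y ≠ 1 := fun e => hp.ne_one (by rw [← ho, e, orderOf_one])
  have : Nontrivial (P : Subgroup G) :=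
    ⟨⟨⟨y, hyP⟩, 1, fun e => hy1 (congrArg Subtype.val e)⟩⟩
  have := P.isPGroup'.center_nontrivial
  obtain ⟨⟨z, hzc⟩, hz1⟩ := exists_ne (1 : Subgroup.center (P : Subgroup G))
  have hz1' : (z : G) ≠ 1 := fun e => hz1 (Subtype.ext (Subtype.ext e))
  have hc : ∀ w ∈ (P : Subgroup G), Commute w (z : G) := fun w hw =>
    congrArg Subtype.val (Subgroup.mem_center_iff.1 hzc ⟨w, hw⟩)
  have hzK : (z : G) ∈ K := hcc y hy hy1 (mem_cn.2 (hc y hyP).symm)
  exact P.not_dvd_index (hi.trans (Subgroup.index_dvd_of_le fun w hw =>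
    hcc _ hzK hz1' (mem_cn.2 (hc w hw))))

/-- A nontrivial nilpotent normal subgroup gives nilpotency or a Frobenius group. -/
theorem nilpotent_or_frobenius (h : Hyp G) {N : Subgroup G} (hNn : N.Normal)
    (hNnil : Group.IsNilpotent N) (hN : N ≠ ⊥) :
    Group.IsNilpotent G ∨ ∃ K H : Subgroup G, K.Normal ∧ K ≠ ⊥ ∧ H ≠ ⊥ ∧
      Subgroup.IsComplement' K H ∧
      (∀ a ∈ H, a ≠ 1 → K ⊓ Subgroup.centralizer ({a} : Set G) = ⊥) ∧
      Cfsg.IsFrobeniusComplement H := by
  obtain ⟨K, hKn, hKnil, hK, hcc⟩ := exists_cc h hNn hNnil hN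
  haveI := hKn
  haveI := hKnil
  obtain ⟨H, hc⟩ := Subgroup.exists_right_complement'_of_coprime (coprime_of_cc hcc)
  by_cases hH : H = ⊥
  · left
    subst hH
    rw [Subgroup.isComplement'_bot_right] at hc
    subst hc
    exact Group.nilpotent_of_mulEquiv Subgroup.topEquiv
  right
  have hfpf : ∀ a ∈ H, a ≠ 1 → K ⊓ Subgroup.centralizer ({a} : Set G) = ⊥ := by
    intro a ha ha1
    rw [eq_bot_iff]
    rintro k ⟨hk, hka⟩
    by_contra hk1
    have haK : a ∈ K := hcc k hk hk1 (mem_cn_comm hka)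
    exact ha1 ((Subgroup.disjoint_def.1 hc.disjoint) haK ha)
  exact ⟨K, H, hKn, hK, hH, hc, hfpf,
    FrobeniusBasic.isFrobeniusComplement_of_fpf hc hK hH hfpf⟩

end

end Cfsg.Agent.TICentralizers82
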