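import Mathlib
import Cfsg.Agent.Lib.TICentralizers82Basic
import Cfsg.Agent.Lib.CNTheorem
import Cfsg.Agent.Lib.FrobeniusNilpotent
import Cfsg.Agent.Lib.SignalizerStrongEmb

/-!
Finite groups with TI centralisers and without nilpotent normal subgroups: the centraliser of an
involution and its normaliser.
-/

set_option autoImplicit false
set_option linter.style.haveILetI false

namespace Cfsg.Agent.TICentralizers82

open Cfsg

universe u

variable {G : Type u} [Group G]

theorem mem_cn_conj {g x y : G} : g * y * g⁻¹ ∈ cn (g * x * g⁻¹) ↔ y ∈ cn x := by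
  rw [mem_cn, mem_cn]
  constructor
  · intro e
    simpa [MulAut.conj_apply, mul_assoc] using e.map (MulAut.conj g⁻¹)
  · intro e
    exact e.map (MulAut.conj g)

theorem conj_ne_one' {g x : G} (hx : x ≠ 1) : g * x * g⁻¹ ≠ 1 := fun e => hx (conj_eq_one_iff.1 e)

/-- The normaliser of the centraliser. -/
abbrev nm (t : G) : Subgroup G := Subgroup.normalizer (cn t : Set G)

/-- The index of the centraliser in its normaliser. -/
noncomputable def kk (t : G) : ℕ := (cn t).relIndex (nm t)

/-- The centraliser of an involution in a group without nilpotent normal subgroups. -/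
structure Setup (t : G) : Prop where
  hyp : Hyp G
  ot : orderOf t = 2
  noNil : ∀ N : Subgroup G, N.Normal → Group.IsNilpotent N → N = ⊥
  cc : ∀ x ∈ cn t, x ≠ 1 → cn x ≤ cn t
  conjI : ∀ u v : G, orderOf u = 2 → orderOf v = 2 → IsConj u v
  ne : kk t ≠ 1
  odd : Odd (kk t)

theorem kk_mul_index (t : G) : kk t * (nm t).index = (cn t).index :=
  Subgroup.relIndex_mul_index Subgroup.le_normalizer

theorem card_nm (t : G) : Nat.card (nm t) = Nat.card (cn t) * kk t := by
  have h := ((cn t).subgroupOf (nm t)).card_mul_index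
  rw [Nat.card_congr (Subgroup.subgroupOfEquivOfLe Subgroup.le_normalizer).toEquiv] at h
  exact h.symm

theorem conj_mem_nm {t n x : G} (hn : n ∈ nm t) (hx : x ∈ cn t) : n * x * n⁻¹ ∈ cn t :=
  (Subgroup.mem_normalizer_iff.1 hn x).1 hx

theorem cn_le_nm (t : G) : cn t ≤ nm t := Subgroup.le_normalizer

variable [Finite G]

/-- Elements of the normaliser of order prime to the index lie in the centraliser. -/
theorem mem_of_coprime {t n : G} (hn : n ∈ nm t) (hc : (orderOf n).Coprime (kk t)) : n ∈ cn t := by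
  set N := nm t
  have hnorm : ((cn t).subgroupOf N).Normal := Subgroup.normal_in_normalizer
  have h1 : orderOf (QuotientGroup.mk (s := (cn t).subgroupOf N) (⟨n, hn⟩ : N)) ∣ kk t :=
    orderOf_dvd_natCard _
  have h2 : orderOf (QuotientGroup.mk (s := (cn t).subgroupOf N) (⟨n, hn⟩ : N)) ∣ orderOf n := by
    have := orderOf_map_dvd (QuotientGroup.mk' ((cn t).subgroupOf N)) (⟨n, hn⟩ : N)
    rwa [Subgroup.orderOf_mk] at this
  have h3 := Nat.eq_one_of_dvd_coprimes hc h2 h1
  rw [orderOf_eq_one_iff, QuotientGroup.eq_one_iff] at h3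
  exact h3

/-- Construction of the configuration. -/
theorem exists_setup (h : Hyp G) [Nontrivial G]
    (hno : ∀ N : Subgroup G, N.Normal → Group.IsNilpotent N → N = ⊥) : ∃ t : G, Setup t := by
  classical
  haveI := Fact.mk Nat.prime_two
  have heven : 2 ∣ Nat.card G := by
    by_contra hne
    have hodd : Odd (Nat.card G) := Nat.odd_iff.2 (by omega)
    haveI := CNTheorem.isSolvable _ rfl hodd h.isCN
    obtain ⟨N, hN⟩ := HallSolvable.exists_minNormal (G := G)
    haveI : Group.IsSolvable N := inferInstance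
    obtain ⟨p, hp, -, hNp⟩ := hN.exists_prime
    haveI := Fact.mk hp
    exact hN.ne_bot (hno N hN.normal hNp.isNilpotent)
  obtain ⟨P⟩ : Nonempty (Sylow 2 G) := inferInstance
  haveI : Nontrivial (P : Subgroup G) :=
    (Subgroup.nontrivial_iff_ne_bot _).2 (P.ne_bot_of_dvd_card heven)
  haveI := P.isPGroup'.center_nontrivial
  obtain ⟨w, hw⟩ := exists_prime_orderOf_dvd_card' (G := Subgroup.center (P : Subgroup G)) 2 (by
    obtain ⟨k, hk⟩ := (P.isPGroup'.to_subgroup (Subgroup.center (P : Subgroup G))).exists_card_eq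
    rcases k with _ | k
    · rw [pow_zero] at hk
      exact absurd hk (Finite.one_lt_card (α := Subgroup.center (P : Subgroup G))).ne'
    · rw [hk, pow_succ]; exact dvd_mul_left 2 _)
  set t : G := ((w : (P : Subgroup G)) : G) with htdef
  have ot : orderOf t = 2 := by rw [htdef, Subgroup.orderOf_coe, Subgroup.orderOf_coe, hw]
  have ht1 : t ≠ 1 := SignalizerStrongEmb.involution_ne_one ot
  have hPM : (P : Subgroup G) ≤ cn t := fun y hy =>
    mem_cn.2 (congrArg Subtype.val (Subgroup.mem_center_iff.1 w.2 ⟨y, hy⟩))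
  have hkdvd : kk t ∣ (cn t).index := Dvd.intro _ (kk_mul_index t)
  have hoddk : Odd (kk t) := by
    rw [Nat.odd_iff]
    by_contra hne
    exact P.not_dvd_index (((show 2 ∣ kk t by omega).trans hkdvd).trans
      (Subgroup.index_dvd_of_le hPM))
  have hnil : Group.IsNilpotent (cn t) := h.isCN t ht1
  have cc : ∀ x ∈ cn t, x ≠ 1 → cn x ≤ cn t := by
    intro x hx hx1 c hc
    have hcN : c ∈ nm t := stable h hx1 hx (by rw [conj_self hc]; exact hx)
    refine CNGlobal.mem_of_prime_parts (cn t) c fun r hr y hy i ho => ?_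
    obtain ⟨z, rfl⟩ := Subgroup.mem_zpowers_iff.1 hy
    by_cases hr2 : r = 2
    · subst hr2
      exact mem_of_coprime (zpow_mem hcN z) (by rw [ho]; exact (Nat.coprime_two_left.2 hoddk).pow_left i)
    · refine mem_cn.2 ((CNBasic.commute h.isCN hx1 (mem_cn.1 (zpow_mem hc z)).eq.symm
        (mem_cn.1 (mem_cn_comm hx)).eq.symm ?_))
      rw [ho, ot]
      exact ((Nat.coprime_primes hr Nat.prime_two).2 hr2).pow_left i
  have hntop : nm t ≠ ⊤ := by
    intro e
    have hn : (cn t).Normal := Subgroup.normalizer_eq_top_iff.1 e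
    exact ht1 ((Subgroup.eq_bot_iff_forall _).1 (hno _ hn hnil) t (self_mem_cn t))
  have ne : kk t ≠ 1 := by
    intro e
    have hNM : nm t ≤ cn t := by
      rw [kk, Subgroup.relIndex_eq_one] at e
      exact e
    have hMtop : cn t ≠ ⊤ := fun e' => hntop (top_le_iff.1 (e' ▸ cn_le_nm t))
    have hF : Cfsg.IsFrobeniusComplement (cn t) := by
      refine FrobeniusBasic.isFrobeniusComplement_of_ti
        (fun e' => ht1 ((Subgroup.eq_bot_iff_forall _).1 e' t (self_mem_cn t))) hMtop ?_
      intro g x hx hx1 hg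
      refine hNM ?_
      have : g⁻¹ ∈ nm t := stable h hx1 hx (by rwa [inv_inv])
      simpa using inv_mem this
    obtain ⟨K, hK, hKn, -, hKnil⟩ := FrobeniusNilpotent.exists_nilpotent_kernel hF
    exact FrobeniusBasic.kernel_ne_bot hF hK (hno K hKn hKnil)
  refine ⟨t, h, ot, hno, cc, fun u v hu hv => ?_, ne, hoddk⟩
  have hse : Cfsg.IsStronglyEmbedded (nm t) := by
    have hin : ∀ y ∈ nm t, orderOf y = 2 → y ∈ cn t := fun y hy ho =>
      mem_of_coprime hy (by rw [ho]; exact Nat.coprime_two_left.2 hoddk)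
    refine SignalizerStrongEmb.isStronglyEmbedded_iff.2 ⟨hntop, ?_, fun y hy ho g hg => ?_⟩
    · refine even_iff_two_dvd.2 (ot ▸ Subgroup.orderOf_dvd_natCard _ (cn_le_nm t (self_mem_cn t)))
    · exact stable h (SignalizerStrongEmb.involution_ne_one ho) (hin y hy ho)
        (hin _ hg ((SignalizerStrongEmb.orderOf_conj g y).trans ho))
  exact SignalizerStrongEmb.isConj_involutions hse hu hv

end Cfsg.Agent.TICentralizers82
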