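import Cfsg.Agent.Lib.BlockPrimeMain86

/-!
The weight of an irreducible character on a Sylow subgroup of prime order, and its consequence
that the characters outside the principal block have degree divisible by that prime when the
principal block already exhausts the total weight.
-/

set_option autoImplicit false
set_option linter.style.haveILetI false
set_option linter.unusedSectionVars false

open scoped ComplexConjugate IsMulCommutative

namespace Cfsg.Agent.M11Order91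

open Cfsg Cfsg.Agent.BlockTheoryLocalRing Cfsg.Agent.BlockPrincipal81 Cfsg.Agent.CharBasicOrth
  Cfsg.Agent.BlockAbelianSylow86 Cfsg.Agent.BlockPrime86

attribute [local instance] Classical.propDecidable

universe u

variable {G : Type u} [Group G] [Fintype G] {p : ℕ} [Fact p.Prime] {P : Sylow p G}
  (hP : Nat.card (P : Subgroup G) = p)

include hP in
theorem exists_weight {c : ℕ}
    (hc : ∀ y ∈ (P : Subgroup G), y ≠ 1 → Nat.card ↥(Subgroup.centralizer ({y} : Set G)) = c) :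
    ∃ W : IrrCharacter G → ℤ,
      (∀ χ : IrrCharacter G, (((charDegree (χ : G → ℂ) % p) * (p - charDegree (χ : G → ℂ) % p) : ℕ) : ℤ) ≤ W χ) ∧
        ∑ χ, W χ = (((p - 1) * c : ℕ) : ℤ) ∧
          ∀ χ : IrrCharacter G, W χ = 0 → ∀ y ∈ (P : Subgroup G), y ≠ 1 → (χ : G → ℂ) y = 0 := by
  haveI hab := comm_P hP
  haveI : Fintype ↥(P : Subgroup G) := Fintype.ofFinite _
  haveI : Fintype (↥(P : Subgroup G) →* ℂˣ) := Fintype.ofFinite _
  have hp0 : 0 < p := (Fact.out : p.Prime).pos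
  have hcard : Fintype.card ↥(P : Subgroup G) = p := by rw [← Nat.card_eq_fintype_card, hP]
  have hdual : Fintype.card (↥(P : Subgroup G) →* ℂˣ) = p := by
    rw [← Nat.card_eq_fintype_card, CommGroup.card_monoidHom_of_hasEnoughRootsOfUnity, hP]
  set S : IrrCharacter G → ℤ := fun χ => ∑ ψ, mult P χ ψ with hS
  set W : IrrCharacter G → ℤ := fun χ => (p : ℤ) * ∑ ψ, mult P χ ψ ^ 2 - S χ ^ 2 with hW
  have hval : ∀ (χ : IrrCharacter G), ∀ y ∈ Finset.univ.erase (1 : ↥(P : Subgroup G)),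
      (χ : G → ℂ) y = ∑ ψ : ↥(P : Subgroup G) →* ℂˣ, (mult P χ ψ : ℂ) * (ψ y : ℂ) := fun χ y hy =>
    apply_eq_sum_mult hab χ (Finset.mem_erase.1 hy).1
  have hkey : ∀ χ : IrrCharacter G, ∑ y ∈ Finset.univ.erase (1 : ↥(P : Subgroup G)),
      (χ : G → ℂ) y * conj ((χ : G → ℂ) y) = (W χ : ℂ) := by
    intro χ
    have hall : ∑ y : ↥(P : Subgroup G), (∑ ψ : ↥(P : Subgroup G) →* ℂˣ, (mult P χ ψ : ℂ) * (ψ y : ℂ)) *
        conj (∑ ψ : ↥(P : Subgroup G) →* ℂˣ, (mult P χ ψ : ℂ) * (ψ y : ℂ)) =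
        (p : ℂ) * ∑ ψ : ↥(P : Subgroup G) →* ℂˣ, (mult P χ ψ : ℂ) ^ 2 := by
      simp only [map_sum, map_mul, map_intCast]
      rw [Finset.sum_congr rfl fun y _ => Finset.sum_mul_sum _ _ _ _, Finset.mul_sum, Finset.sum_comm]
      refine Finset.sum_congr rfl fun ψ _ => ?_
      rw [Finset.sum_comm, Finset.sum_congr rfl fun φ _ => show
        ∑ y : ↥(P : Subgroup G), (mult P χ ψ : ℂ) * (ψ y : ℂ) * ((mult P χ φ : ℂ) * conj (φ y : ℂ)) =
          if ψ = φ then (p : ℂ) * (mult P χ ψ : ℂ) ^ 2 else 0 from ?_]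
      · rw [Finset.sum_ite_eq, if_pos (Finset.mem_univ ψ)]
      rw [Finset.sum_congr rfl fun y _ => show
        (mult P χ ψ : ℂ) * (ψ y : ℂ) * ((mult P χ φ : ℂ) * conj (φ y : ℂ)) =
          (mult P χ ψ : ℂ) * (mult P χ φ : ℂ) * ((ψ y : ℂ) * conj (φ y : ℂ)) by ring,
        ← Finset.mul_sum, sum_mul_conj, hcard]
      split_ifs with h
      · subst h; ring
      · rw [mul_zero]
    rw [← Finset.add_sum_erase _ _ (Finset.mem_univ (1 : ↥(P : Subgroup G)))] at hall
    rw [Finset.sum_congr rfl fun y hy => by rw [hval χ y hy]]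
    simp only [map_one, Units.val_one, mul_one, map_sum, map_intCast] at hall
    simp only [hW, hS, Int.cast_sub, Int.cast_mul, Int.cast_pow, Int.cast_sum, Int.cast_natCast]
    simp only [map_sum] at hall ⊢
    linear_combination hall
  have hdeg : ∀ χ : IrrCharacter G, (charDegree (χ : G → ℂ) : ℤ) ≡ S χ [ZMOD p] := by
    intro χ
    have h := degree_congr hP χ (w := -S χ) rfl (by
      rw [← map_sum, Finset.sum_congr rfl fun y hy => hval χ y hy, Finset.sum_comm,
        Finset.sum_congr rfl (g := fun ψ : ↥(P : Subgroup G) →* ℂˣ => -(mult P χ ψ : ℂ)) fun ψ _ => by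
          rcases eq_or_ne ψ 1 with rfl | hψ
          · simp [mult_trivial]
          · rw [← Finset.mul_sum, Finset.sum_erase_eq_sub (Finset.mem_univ _),
              BlockAbelianSylow86.sum_apply_eq_zero hψ, map_one,
              Units.val_one, zero_sub, mul_neg_one],
        Finset.sum_neg_distrib, map_neg, map_sum,
        Finset.sum_congr rfl fun ψ _ => map_intCast _ _]
      simp only [hS]
      push_cast
      ring)
    rwa [neg_neg] at h
  refine ⟨W, fun χ => ?_, ?_, fun χ h0 y hy hy1 => ?_⟩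
  · set r : ℕ := charDegree (χ : G → ℂ) % p with hr
    have hmod : S χ % (p : ℤ) = (r : ℤ) := by rw [← hdeg χ, hr, Int.natCast_mod]
    set q : ℤ := S χ / (p : ℤ) with hq
    have hSq : S χ = (p : ℤ) * q + r := by rw [hq, ← hmod, Int.mul_ediv_add_emod]
    have h1 : ∑ ψ, (mult P χ ψ - q) ≤ ∑ ψ, (mult P χ ψ - q) ^ 2 :=
      Finset.sum_le_sum fun ψ _ => Int.le_self_sq _
    have h2 : ∑ ψ : ↥(P : Subgroup G) →* ℂˣ, (mult P χ ψ - q) = r := by
      rw [Finset.sum_sub_distrib, Finset.sum_const, Finset.card_univ, hdual, nsmul_eq_mul]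
      show S χ - _ = _
      rw [hSq]; ring
    have h3 : ∑ ψ : ↥(P : Subgroup G) →* ℂˣ, (mult P χ ψ - q) ^ 2 =
        ∑ ψ, mult P χ ψ ^ 2 - 2 * q * S χ + (p : ℤ) * q ^ 2 := by
      simp only [sub_sq, Finset.sum_add_distrib, Finset.sum_sub_distrib, Finset.sum_const, Finset.card_univ,
        hdual, nsmul_eq_mul, hS, Finset.mul_sum]
      congr 1
      congr 1
      exact Finset.sum_congr rfl fun ψ _ => by ring
    rw [h2, h3] at h1
    have hrp : r ≤ p := (Nat.mod_lt _ hp0).le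
    rw [Nat.cast_mul, Nat.cast_sub hrp]
    show _ ≤ (p : ℤ) * _ - S χ ^ 2
    have := mul_le_mul_of_nonneg_left h1 (Int.natCast_nonneg p)
    rw [hSq] at this ⊢
    nlinarith [this]
  · have hC : ((∑ χ, W χ : ℤ) : ℂ) = ((((p - 1) * c : ℕ) : ℤ) : ℂ) := by
      rw [Int.cast_sum, ← Finset.sum_congr rfl fun χ _ => hkey χ, Finset.sum_comm,
        Finset.sum_congr rfl (g := fun _ => (c : ℂ)) fun y hy => by
          rw [sum_irr_mul_conj, if_pos (IsConj.refl _), hc y y.2 fun h => (Finset.mem_erase.1 hy).1 (Subtype.ext h)],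
        Finset.sum_const, Finset.card_erase_of_mem (Finset.mem_univ _), Finset.card_univ, hcard]
      push_cast
      simp
    exact_mod_cast hC
  · have h := hkey χ
    rw [h0, Int.cast_zero] at h
    simp only [Complex.mul_conj] at h
    rw [← Complex.ofReal_sum, Complex.ofReal_eq_zero,
      Finset.sum_eq_zero_iff_of_nonneg fun _ _ => Complex.normSq_nonneg _] at h
    exact Complex.normSq_eq_zero.1
      (h ⟨y, hy⟩ (Finset.mem_erase.2 ⟨fun e => hy1 (congrArg Subtype.val e), Finset.mem_univ _⟩))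

theorem weight_of_congr {d w : ℕ} {z : ℤ} (hz : z = w ∨ z = -(w : ℤ)) (hw0 : 0 < w) (hw : w < p)
    (h : (d : ℤ) ≡ z [ZMOD p]) : (d % p) * (p - d % p) = w * (p - w) := by
  have h' : ((d % p : ℕ) : ℤ) = z % p := by rw [Int.natCast_mod]; exact h
  rcases hz with rfl | rfl
  · rw [Int.emod_eq_of_lt (by omega) (by omega)] at h'
    rw [show d % p = w by exact_mod_cast h']
  · rw [← Int.add_mul_emod_self_left (-(w : ℤ)) (p : ℤ) 1, mul_one,
      Int.emod_eq_of_lt (by omega) (by omega)] at h'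
    rw [show d % p = p - w by omega, Nat.sub_sub_self hw.le, mul_comm]

include hP in
theorem dvd_outside {M : Ideal AlgInt} {e : ℕ} {X Y : Finset (IrrCharacter G)}
    {a : IrrCharacter G → ℤ} {ε : ℤ} (h : PrimeForm M P e X Y a ε) (he0 : 0 < e) (hep : e < p)
    (hc : ∀ y ∈ (P : Subgroup G), y ≠ 1 → Nat.card ↥(Subgroup.centralizer ({y} : Set G)) = p)
    (htot : e * (p - 1) + (p - 1) / e * (e * (p - e)) = (p - 1) * p)
    {χ : IrrCharacter G} (hX : χ ∉ X) (hY : χ ∉ Y) :
    p ∣ charDegree (χ : G → ℂ) ∧ ∀ y ∈ (P : Subgroup G), y ≠ 1 → (χ : G → ℂ) y = 0 := by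
  obtain ⟨W, hW, hsum, hvan⟩ := exists_weight hP hc
  have hp1 : 1 < p := (Fact.out : p.Prime).one_lt
  have hXw : ∀ η ∈ X, (((p - 1 : ℕ)) : ℤ) ≤ W η := fun η hη => by
    refine le_trans (le_of_eq ?_) (hW η)
    rw [weight_of_congr (w := 1) (by simpa using (h.valX η hη).1) Nat.one_pos hp1 (h.valX η hη).2.1, one_mul]
  have hYw : ∀ η ∈ Y, ((e * (p - e) : ℕ) : ℤ) ≤ W η := fun η hη => by
    refine le_trans (le_of_eq ?_) (hW η)
    rw [weight_of_congr (w := e) (by rcases h.sign with s | s <;> simp [s]) he0 hep (h.degY η hη)]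
  have hXY : χ ∉ X ∪ Y := by simp [hX, hY]
  have hsub : ∑ η ∈ insert χ (X ∪ Y), W η ≤ ∑ η, W η :=
    Finset.sum_le_sum_of_subset_of_nonneg (Finset.subset_univ _) fun η _ _ => le_trans (Int.natCast_nonneg _) (hW η)
  rw [Finset.sum_insert hXY, Finset.sum_union h.disj, hsum] at hsub
  have h1 := Finset.card_nsmul_le_sum X W _ hXw
  have h2 := Finset.card_nsmul_le_sum Y W _ hYw
  rw [h.cardX, nsmul_eq_mul, ← Nat.cast_mul] at h1
  rw [h.cardY, nsmul_eq_mul, ← Nat.cast_mul] at h2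
  have h3 := hW χ
  rw [← htot, Nat.cast_add] at hsub
  have h1' : ((e * (p - 1) : ℕ) : ℤ) ≤ ∑ x ∈ X, W x := h1
  have h2' : (((p - 1) / e * (e * (p - e)) : ℕ) : ℤ) ≤ ∑ x ∈ Y, W x := h2
  have h0' : ((charDegree (χ : G → ℂ) % p * (p - charDegree (χ : G → ℂ) % p) : ℕ) : ℤ) ≤ 0 := by linarith
  have h0 : charDegree (χ : G → ℂ) % p * (p - charDegree (χ : G → ℂ) % p) = 0 :=
    Nat.le_zero.1 (Int.ofNat_le.1 h0')
  have hW0 : W χ = 0 := le_antisymm (by linarith) (le_trans (Int.natCast_nonneg _) h3)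
  refine ⟨?_, hvan χ hW0⟩
  rcases mul_eq_zero.1 h0 with h4 | h4
  · exact Nat.dvd_of_mod_eq_zero h4
  · have := Nat.mod_lt (charDegree (χ : G → ℂ)) (by omega : p > 0); omega

end Cfsg.Agent.M11Order91
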