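import Cfsg.Agent.Lib.M11Order91Five
import Cfsg.Agent.Lib.M11Order91Weight
import Cfsg.Agent.Lib.DihedralStar68
import Cfsg.Agent.Lib.ZStarCount

/-!
The degrees of the irreducible characters of a simple group of order 7920.
-/

set_option autoImplicit false
set_option linter.style.haveILetI false
set_option linter.unusedSectionVars false

namespace Cfsg.Agent.M11Order91

open Cfsg Cfsg.Agent.BlockPrime86 Cfsg.Agent.BlockPrincipal81

attribute [local instance] Classical.propDecidable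

variable {G : Type*} [Group G] [IsSimpleGroup G] (hn : Nat.card G = 7920)

theorem centralizer_mem [Finite G] {p : ℕ} [Fact p.Prime] {P : Sylow p G}
    (hP : Nat.card ↥(P : Subgroup G) = p)
    (hC : Nat.card ↥(Subgroup.centralizer ((P : Subgroup G) : Set G)) = p)
    (y : G) (hy : y ∈ (P : Subgroup G)) (hy1 : y ≠ 1) :
    Nat.card ↥(Subgroup.centralizer ({y} : Set G)) = p := by
  have he : Subgroup.zpowers y = (P : Subgroup G) := by
    refine Subgroup.eq_of_le_of_card_ge (Subgroup.zpowers_le.2 hy) ?_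
    rw [hP, Nat.card_zpowers, orderOf_eq_prime (PGroupsBasic.pow_eq_one_of_card hP hy) hy1]
  rw [← Subgroup.centralizer_closure, ← Subgroup.zpowers_eq_closure, he, hC]

theorem relIndex_centralizer [Finite G] {p : ℕ} {P : Sylow p G} {a b : ℕ}
    (hN : Nat.card ↥(Subgroup.normalizer ((P : Subgroup G) : Set G)) = a * b)
    (hC : Nat.card ↥(Subgroup.centralizer ((P : Subgroup G) : Set G)) = a) (ha : 0 < a) :
    (Subgroup.centralizer ((P : Subgroup G) : Set G)).relIndex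
      (Subgroup.normalizer ((P : Subgroup G) : Set G)) = b := by
  have h := ((Subgroup.centralizer ((P : Subgroup G) : Set G)).subgroupOf
    (Subgroup.normalizer ((P : Subgroup G) : Set G))).card_mul_index
  rw [Nat.card_congr (Subgroup.subgroupOfEquivOfLe (Subgroup.centralizer_le_normalizer _)).toEquiv,
    hC, hN] at h
  exact Nat.eq_of_mul_eq_mul_left ha h

variable [Fintype G]

/-- The degree of an irreducible character. -/
noncomputable def deg (χ : IrrCharacter G) : ℕ := charDegree (χ : G → ℂ)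

theorem deg_one : deg (oneChar G) = 1 := by simp [deg, charDegree, oneChar]

theorem deg_apply (χ : IrrCharacter G) : (χ : G → ℂ) 1 = (deg χ : ℂ) :=
  ClassAlgebraVal.apply_one_eq_charDegree χ

include hn in
theorem sum_deg_sq : ∑ χ : IrrCharacter G, deg χ ^ 2 = 7920 := by
  have h := CharBasicOrth.sum_sq_apply_one (G := G)
  simp only [deg_apply, hn] at h
  exact_mod_cast h

include hn in
theorem deg_dvd (χ : IrrCharacter G) : deg χ ∣ 7920 ∧ deg χ < 89 := by
  refine ⟨hn ▸ CharAverage.charDegree_dvd_card χ, ?_⟩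
  have h : deg χ ^ 2 ≤ ∑ η : IrrCharacter G, deg η ^ 2 :=
    Finset.single_le_sum (f := fun η => deg η ^ 2) (fun _ _ => Nat.zero_le _) (Finset.mem_univ χ)
  rw [sum_deg_sq hn] at h
  by_contra hlt
  have := Nat.pow_le_pow_left (Nat.le_of_not_lt hlt) 2
  omega

include hn in
theorem deg_ne_one {χ : IrrCharacter G} (hχ : χ ≠ oneChar G) : deg χ ≠ 1 := fun h => hχ <|
  Subtype.ext (DihedralStar68.linear_eq_one (not_comm hn) χ (by rw [deg_apply, h, Nat.cast_one]))

include hn in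
theorem five_block : ∃ B : Finset (IrrCharacter G), B.card = 5 ∧
    (∀ χ, χ ∈ B ↔ ¬ 5 ∣ deg χ) ∧ ∀ χ : IrrCharacter G, deg χ % 5 = 0 ∨ deg χ % 5 = 1 ∨ deg χ % 5 = 4 := by
  obtain ⟨P⟩ : Nonempty (Sylow 5 G) := inferInstance
  obtain ⟨hN, hC, -⟩ := normalizer_five hn P
  obtain ⟨M, hM⟩ := ZStarCount.exists_isPModular 5 (Fact.out : Nat.Prime 5)
  haveI : Fintype ↥(P : Subgroup G) := Fintype.ofFinite _
  haveI : Fintype (↥(P : Subgroup G) →* ℂˣ) := Fintype.ofFinite _
  have hP := card_five hn P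
  obtain ⟨X, Y, a, ε, h⟩ := prime_main hP (by norm_num) hM 4
    (relIndex_centralizer (a := 5) (b := 4) hN hC (by norm_num))
  have hmem : ∀ χ ∈ X ∪ Y, deg χ % 5 = 1 ∨ deg χ % 5 = 4 := by
    intro χ hχ
    rcases Finset.mem_union.1 hχ with hx | hy
    · have h2 : (deg χ : ℤ) % 5 = a χ % 5 := (h.valX χ hx).2.1
      rcases (h.valX χ hx).1 with e | e <;> rw [e] at h2 <;> omega
    · have h2 : (deg χ : ℤ) % 5 = (ε * ((4 : ℕ) : ℤ)) % 5 := h.degY χ hy
      rcases h.sign with e | e <;> rw [e] at h2 <;> omega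
  have hout : ∀ χ, χ ∉ X ∪ Y → deg χ % 5 = 0 := fun χ hχ => Nat.mod_eq_zero_of_dvd
    (dvd_outside hP h (by norm_num) (by norm_num) (centralizer_mem hP hC) (by norm_num)
      (fun e => hχ (Finset.mem_union_left _ e)) (fun e => hχ (Finset.mem_union_right _ e))).1
  refine ⟨X ∪ Y, by rw [Finset.card_union_of_disjoint h.disj, h.cardX, h.cardY], fun χ => ?_, fun χ => ?_⟩
  · constructor
    · intro hχ; have := hmem χ hχ; omega
    · intro hχ; by_contra hc; have := hout χ hc; omega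
  · by_cases hχ : χ ∈ X ∪ Y
    · exact Or.inr (hmem χ hχ)
    · exact Or.inl (hout χ hχ)

include hn in
theorem sum_deg_formula (F : ℕ → ℕ) : ∑ χ : IrrCharacter G, F (deg χ) =
    F 1 + 3 * F 10 + F 11 + 2 * F 16 + F 44 + F 45 + F 55 := by
  obtain ⟨B5, hB5, hB5m, hmod5⟩ := five_block hn
  obtain ⟨P⟩ : Nonempty (Sylow 11 G) := inferInstance
  obtain ⟨hN, hC, -⟩ := normalizer_eleven hn P
  obtain ⟨M, hM⟩ := ZStarCount.exists_isPModular 11 (Fact.out : Nat.Prime 11)
  haveI : Fintype ↥(P : Subgroup G) := Fintype.ofFinite _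
  haveI : Fintype (↥(P : Subgroup G) →* ℂˣ) := Fintype.ofFinite _
  have hP := card_eleven hn P
  obtain ⟨X, Y, a, ε, h⟩ := prime_main hP (by norm_num) hM 5
    (relIndex_centralizer (a := 11) (b := 5) hN hC (by norm_num))
  have hout : ∀ χ, χ ∉ X → χ ∉ Y → deg χ % 11 = 0 := fun χ hx hy => Nat.mod_eq_zero_of_dvd
    (dvd_outside hP h (by norm_num) (by norm_num) (centralizer_mem hP hC) (by norm_num) hx hy).1
  have hX11 : ∀ χ ∈ X, (a χ = 1 ∧ deg χ % 11 = 1) ∨ (a χ = -1 ∧ deg χ % 11 = 10) := by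
    intro χ hx
    have h2 : (deg χ : ℤ) % 11 = a χ % 11 := (h.valX χ hx).2.1
    rcases (h.valX χ hx).1 with e | e <;> rw [e] at h2
    · exact Or.inl ⟨e, by omega⟩
    · exact Or.inr ⟨e, by omega⟩
  have h1X : oneChar G ∈ X := by
    rcases (h.block _).1 (oneChar_mem hM) with hx | hy
    · exact hx
    · exfalso
      have h2 : (deg (oneChar G) : ℤ) % 11 = (ε * ((5 : ℕ) : ℤ)) % 11 := h.degY _ hy
      rw [deg_one] at h2
      rcases h.sign with e | e <;> rw [e] at h2 <;> omega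
  set X' := X.erase (oneChar G) with hX'
  have key : ∀ d ∈ List.range 89, 7920 % d = 0 → (d % 5 = 0 ∨ d % 5 = 1 ∨ d % 5 = 4) →
      ((d % 11 = 1 ∨ d % 11 = 10) → d = 1 ∨ d = 10 ∨ d = 45) ∧
      ((d % 11 = 5 ∨ d % 11 = 6) → d = 5 ∨ d = 6 ∨ d = 16 ∨ d = 60) ∧
      (d % 11 = 0 → d = 11 ∨ d = 44 ∨ d = 55 ∨ d = 66) := by decide +kernel
  have hkey : ∀ χ : IrrCharacter G, _ := fun χ => key (deg χ) (List.mem_range.2 (deg_dvd hn χ).2)
    (Nat.mod_eq_zero_of_dvd (deg_dvd hn χ).1) (hmod5 χ)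
  -- the values on `X'`
  have hXv : ∀ χ ∈ X', (deg χ = 10 ∧ a χ = -1) ∨ (deg χ = 45 ∧ a χ = 1) := by
    intro χ hχ
    obtain ⟨hne, hx⟩ := Finset.mem_erase.1 hχ
    have h1 := deg_ne_one hn hne
    rcases hX11 χ hx with ⟨e, h2⟩ | ⟨e, h2⟩ <;> rcases (hkey χ).1 (by omega) with h3 | h3 | h3 <;>
      first | exact Or.inl ⟨h3, e⟩ | exact Or.inr ⟨h3, e⟩ | omega
  set α := (X'.filter fun χ => deg χ = 10).card with hα
  set γ := (X'.filter fun χ => ¬ deg χ = 10).card with hγ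
  have hαγ : α + γ = 4 := by
    rw [hα, hγ, Finset.card_filter_add_card_filter_not, hX', Finset.card_erase_of_mem h1X, h.cardX]
  have hsumX : ∀ H : ℕ → ℕ, ∑ χ ∈ X', H (deg χ) = α * H 10 + γ * H 45 := by
    intro H
    rw [← Finset.sum_filter_add_sum_filter_not X' (fun χ => deg χ = 10),
      Finset.sum_congr rfl (g := fun _ => H 10) fun χ hχ => by rw [(Finset.mem_filter.1 hχ).2],
      Finset.sum_congr rfl (s₁ := X'.filter fun χ => ¬ deg χ = 10) (g := fun _ => H 45) fun χ hχ => by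
        obtain ⟨hx, hne⟩ := Finset.mem_filter.1 hχ
        rw [((hXv χ hx).resolve_left fun e => hne e.1).1],
      Finset.sum_const, Finset.sum_const, smul_eq_mul, smul_eq_mul]
  have hsumA : ∑ χ ∈ X', a χ * (deg χ : ℤ) = (α : ℤ) * (-10) + (γ : ℤ) * 45 := by
    rw [← Finset.sum_filter_add_sum_filter_not X' (fun χ => deg χ = 10),
      Finset.sum_congr rfl (g := fun _ => (-10 : ℤ)) fun χ hχ => by
        obtain ⟨hx, he⟩ := Finset.mem_filter.1 hχ
        rcases hXv χ hx with ⟨e, e'⟩ | ⟨e, e'⟩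
        · rw [e, e']; norm_num
        · omega,
      Finset.sum_congr rfl (s₁ := X'.filter fun χ => ¬ deg χ = 10) (g := fun _ => (45 : ℤ)) fun χ hχ => by
        obtain ⟨hx, hne⟩ := Finset.mem_filter.1 hχ
        obtain ⟨e, e'⟩ := (hXv χ hx).resolve_left fun e => hne e.1
        rw [e, e']; norm_num,
      Finset.sum_const, Finset.sum_const, nsmul_eq_mul, nsmul_eq_mul]
  have ha1 : a (oneChar G) = 1 := by
    rcases hX11 _ h1X with ⟨e, -⟩ | ⟨-, e⟩
    · exact e
    · rw [deg_one] at e; omega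
  -- the common degree on `Y`
  have hY16 : (∀ θ ∈ Y, deg θ = 16) ∧ α = 3 ∧ γ = 1 := by
    obtain ⟨θ₀, hθ₀⟩ : Y.Nonempty := Finset.card_pos.1 (by rw [h.cardY]; norm_num)
    have hreg := h.regular θ₀ hθ₀ 1 (by rw [orderOf_one]; norm_num)
    simp only [deg_apply] at hreg
    have hreg' : ε * (deg θ₀ : ℤ) = ∑ χ ∈ X, a χ * (deg χ : ℤ) := by exact_mod_cast hreg
    rw [← Finset.add_sum_erase _ _ h1X, ← hX', hsumA, ha1, deg_one] at hreg'
    have h2 : (deg θ₀ : ℤ) % 11 = (ε * ((5 : ℕ) : ℤ)) % 11 := h.degY _ hθ₀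
    have h3 : deg θ₀ = 16 ∧ α = 3 ∧ γ = 1 := by
      rcases h.sign with e | e <;> rw [e] at h2 hreg' <;>
        rcases (hkey θ₀).2.1 (by omega) with h4 | h4 | h4 | h4 <;> rw [h4] at hreg' h2 <;> omega
    refine ⟨fun θ hθ => ?_, h3.2⟩
    have := h.agree θ hθ θ₀ hθ₀ 1 (by rw [orderOf_one]; norm_num)
    rw [deg_apply, deg_apply, Nat.cast_inj] at this
    omega
  obtain ⟨hY16, hα3, hγ1⟩ := hY16
  -- the remaining characters
  set R := Finset.univ \ (X ∪ Y) with hR
  have hRv : ∀ χ ∈ R, deg χ ∈ ({11, 44, 55, 66} : Finset ℕ) := by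
    intro χ hχ
    simp only [hR, Finset.mem_sdiff, Finset.mem_univ, true_and, Finset.mem_union, not_or] at hχ
    simpa using (hkey χ).2.2 (hout χ hχ.1 hχ.2)
  set N : ℕ → ℕ := fun v => (R.filter fun χ => deg χ = v).card with hNdef
  have hsplit : ∀ H : ℕ → ℕ, ∑ χ : IrrCharacter G, H (deg χ) = H 1 + (α * H 10 + γ * H 45) + 2 * H 16 +
      (N 11 * H 11 + N 44 * H 44 + N 55 * H 55 + N 66 * H 66) := by
    intro H
    rw [← Finset.sum_sdiff (Finset.subset_univ (X ∪ Y)), ← hR, Finset.sum_union h.disj,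
      ← Finset.add_sum_erase _ _ h1X, ← hX', hsumX, deg_one,
      Finset.sum_congr rfl (s₁ := Y) (g := fun _ => H 16) fun θ hθ => by rw [hY16 θ hθ],
      Finset.sum_const, h.cardY, ← Finset.sum_fiberwise_of_maps_to' hRv]
    simp [hNdef]
    ring
  have e2 := (sum_deg_sq hn).symm.trans (hsplit fun d => d ^ 2)
  have e5 : B5.card = _ := (show B5.card = ∑ χ : IrrCharacter G, if 5 ∣ deg χ then 0 else 1 by
    rw [Finset.sum_ite, Finset.sum_const_zero, zero_add, ← Finset.card_eq_sum_ones]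
    exact congrArg Finset.card (Finset.ext fun χ => by simp [hB5m χ])).trans
      (hsplit fun d => if 5 ∣ d then 0 else 1)
  rw [hB5] at e5
  norm_num at e5 e2
  simp only [hα3, hγ1] at e2 e5
  obtain ⟨h11, h44, h55, h66⟩ : N 11 = 1 ∧ N 44 = 1 ∧ N 55 = 1 ∧ N 66 = 0 := by
    generalize N 11 = A, N 44 = B, N 55 = C, N 66 = D at e2 e5 ⊢
    obtain ⟨hA, hB, hD⟩ : A ≤ 2 ∧ B ≤ 2 ∧ D ≤ 2 := by omega
    interval_cases A <;> interval_cases B <;> interval_cases D <;> omega
  rw [hsplit F, hα3, hγ1, h11, h44, h55, h66]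
  ring

include hn in
theorem degrees : Nat.card (IrrCharacter G) = 10 ∧ ∀ n : ℕ,
    Nat.card {χ : IrrCharacter G // charDegree (χ : G → ℂ) = n} =
      (if n = 1 ∨ n = 11 ∨ n = 44 ∨ n = 45 ∨ n = 55 then 1 else if n = 10 then 3 else if n = 16 then 2 else 0) := by
  refine ⟨?_, fun n => ?_⟩
  · have h := sum_deg_formula hn fun _ => 1
    rw [Nat.card_eq_fintype_card]
    simpa using h
  · rw [Nat.card_eq_fintype_card, Fintype.card_subtype, Finset.card_filter]
    refine (sum_deg_formula hn fun d => if d = n then 1 else 0).trans ?_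
    split_ifs <;> omega

end Cfsg.Agent.M11Order91
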