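import Mathlib
import Cfsg.Agent.Lib.M11Order91Degrees
import Cfsg.Agent.Lib.CharBasicInt
import Cfsg.Agent.Lib.CharBasicPerm

/-!
A simple group of order 7920: the elements of order three, their centralisers and their character
values.
-/

set_option autoImplicit false

open scoped ComplexConjugate

namespace Cfsg.Agent.M11Unique99

open Cfsg Cfsg.Agent.M11Order91

instance fact3 : Fact (Nat.Prime 3) := ⟨by norm_num⟩

section Values

variable {G : Type*} [Group G] [Finite G]

/-- The cube root of unity. -/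
noncomputable def om : ℂ := Complex.exp (2 * Real.pi * Complex.I / (3 : ℕ))

theorem om_prim : IsPrimitiveRoot om 3 := Complex.isPrimitiveRoot_exp 3 (by norm_num)

theorem om_sum : 1 + om + om ^ 2 = 0 := by
  have := om_prim.geom_sum_eq_zero (by norm_num : 1 < 3)
  simpa [Finset.sum_range_succ] using this

theorem om_conj : conj om = om ^ 2 := by
  have h1 : ‖om‖ = 1 := Complex.norm_eq_one_of_pow_eq_one om_prim.pow_eq_one (by norm_num)
  rw [← Complex.inv_eq_conj h1]
  refine inv_eq_of_mul_eq_one_right ?_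
  rw [← pow_succ']
  exact om_prim.pow_eq_one

theorem value_three (χ : IrrCharacter G) {x : G} (hx : x ^ 3 = 1) :
    ∃ a b : ℤ, (χ : G → ℂ) x = a + b * om ∧
      (a + b - charDegree (χ : G → ℂ) : ℤ) % 3 = 0 := by
  obtain ⟨n, ρ, hρ⟩ := ClassAlgebraVal.irr_isCharacter χ
  obtain ⟨bs, μ, -, hord, -, hpow⟩ := CharBasic.exists_rep_eigenbasis ρ x
  have h3 : ∀ i, μ i ^ 3 = 1 := fun i => by
    obtain ⟨k, hk⟩ := orderOf_dvd_of_pow_eq_one hx
    rw [hk, pow_mul, hord, one_pow]
  have hd : ∀ i, ∃ a b : ℤ, μ i = a + b * om ∧ (a + b - 1) % 3 = 0 := by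
    intro i
    obtain ⟨k, hk, hμ⟩ := om_prim.eq_pow_of_pow_eq_one (h3 i)
    interval_cases k
    · exact ⟨1, 0, by rw [← hμ]; simp, by norm_num⟩
    · exact ⟨0, 1, by rw [← hμ]; simp, by norm_num⟩
    · exact ⟨-1, -1, by rw [← hμ]; push_cast; linear_combination om_sum, by norm_num⟩
  choose a b hab hmod using hd
  refine ⟨∑ i, a i, ∑ i, b i, ?_, ?_⟩
  · rw [← hρ]
    have := hpow 1
    simp only [pow_one] at this
    rw [this, Finset.sum_congr rfl fun i _ => hab i]
    push_cast
    rw [Finset.sum_mul, ← Finset.sum_add_distrib]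
  · have hdeg : (charDegree (χ : G → ℂ) : ℤ) = ∑ i : Fin (Module.finrank ℂ (Fin n → ℂ)), (1 : ℤ) := by
      have h1 := ClassAlgebraVal.apply_one_eq_charDegree χ
      rw [← hρ, Representation.char_one] at h1
      simp only [Finset.sum_const, Finset.card_univ, Fintype.card_fin, nsmul_eq_mul, mul_one]
      rw [← hρ]
      exact_mod_cast h1.symm
    rw [hdeg, ← Finset.sum_add_distrib, ← Finset.sum_sub_distrib, Finset.sum_int_mod]
    simp [hmod]

theorem normSq_value {a b : ℤ} :
    ((a : ℂ) + b * om) * conj ((a : ℂ) + b * om) = ((a * a - a * b + b * b : ℤ) : ℂ) := by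
  rw [map_add, map_mul, map_intCast, map_intCast, om_conj]
  push_cast
  linear_combination ((a : ℂ) * b) * om_sum + ((b : ℂ) * b) * om_prim.pow_eq_one

theorem norm_nonneg' (a b : ℤ) : 0 ≤ a * a - a * b + b * b := by
  nlinarith [sq_nonneg (a - b), sq_nonneg a, sq_nonneg b]

/-- The squared absolute value at an element of order three. -/
theorem exists_norm (χ : IrrCharacter G) {x : G} (hx : x ^ 3 = 1) :
    ∃ N : ℕ, (χ : G → ℂ) x * conj ((χ : G → ℂ) x) = (N : ℂ) ∧
      N % 3 = charDegree (χ : G → ℂ) ^ 2 % 3 := by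
  obtain ⟨a, b, h, hm⟩ := value_three χ hx
  obtain ⟨N, hN⟩ := Int.eq_ofNat_of_zero_le (norm_nonneg' a b)
  refine ⟨N, ?_, ?_⟩
  · rw [h, normSq_value, hN]; simp
  · have key : ∀ u v w : ZMod 3, u + v - w = 0 → u * u - u * v + v * v = w ^ 2 := by decide
    have h1 := key a b (charDegree (χ : G → ℂ) : ℕ) (by
      have h0 : ((a + b - charDegree (χ : G → ℂ) : ℤ) : ZMod 3) = 0 :=
        (ZMod.intCast_zmod_eq_zero_iff_dvd _ _).2 (Int.dvd_of_emod_eq_zero hm)
      push_cast at h0
      exact h0)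
    have h2 : ((N : ℕ) : ZMod 3) = ((charDegree (χ : G → ℂ) ^ 2 : ℕ) : ZMod 3) := by
      have : ((a * a - a * b + b * b : ℤ) : ZMod 3) = ((N : ℤ) : ZMod 3) := by rw [hN]
      push_cast at this ⊢
      rw [← this, h1]
    exact (ZMod.natCast_eq_natCast_iff' _ _ 3).1 h2

/-- At a real class of elements of order three the values are rational integers. -/
theorem value_three_real (χ : IrrCharacter G) {x : G} (hx : x ^ 3 = 1) (hc : IsConj x x⁻¹) :
    ∃ a : ℤ, (χ : G → ℂ) x = a ∧ (a - charDegree (χ : G → ℂ) : ℤ) % 3 = 0 := by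
  obtain ⟨a, b, h, hm⟩ := value_three χ hx
  have hr : conj ((χ : G → ℂ) x) = (χ : G → ℂ) x := by
    obtain ⟨n, ρ, hρ⟩ := ClassAlgebraVal.irr_isCharacter χ
    rw [← ClassAlgebraVal.irr_conj χ hc.symm, ← hρ, ← CharBasic.character_inv, inv_inv, hρ]
    exact ClassAlgebraVal.irr_conj χ hc
  rw [h, map_add, map_mul, map_intCast, map_intCast, om_conj] at hr
  have h2 : (b : ℂ) * (om * (om - 1)) = 0 := by linear_combination hr
  have hb : b = 0 := by
    rcases mul_eq_zero.1 h2 with hb | hb
    · exact_mod_cast hb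
    · rcases mul_eq_zero.1 hb with hb | hb
      · exact absurd hb (om_prim.ne_zero (by norm_num))
      · exact absurd (sub_eq_zero.1 hb) (om_prim.ne_one (by norm_num))
  subst hb
  exact ⟨a, by simpa using h, by simpa using hm⟩

end Values

variable {G : Type*} [Group G] [Finite G] [IsSimpleGroup G] (hn : Nat.card G = 7920)

/-- The degrees in a fixed order. -/
def degs : Fin 10 → ℕ := ![1, 10, 10, 10, 11, 16, 16, 44, 45, 55]

include hn in
theorem exists_chars : ∃ u : Fin 10 ≃ IrrCharacter G, ∀ i, charDegree (u i : G → ℂ) = degs i := by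
  have : Fintype G := Fintype.ofFinite G
  obtain ⟨-, hdeg⟩ := M11Order91.degrees hn
  let e : ∀ n : ℕ, {i : Fin 10 // degs i = n} ≃ {χ : IrrCharacter G // charDegree (χ : G → ℂ) = n} :=
    fun n => Classical.choice <| Finite.card_eq.1 (by
      rw [hdeg n]
      split_ifs with h1 h2 h3
      · rcases h1 with rfl | rfl | rfl | rfl | rfl <;> rw [Nat.card_eq_fintype_card] <;> rfl
      · subst h2; rw [Nat.card_eq_fintype_card]; rfl
      · subst h3; rw [Nat.card_eq_fintype_card]; rfl
      · have : IsEmpty {i : Fin 10 // degs i = n} := ⟨fun ⟨i, hi⟩ => by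
          fin_cases i <;> simp [degs] at hi <;> subst hi <;> simp_all⟩
        exact Nat.card_of_isEmpty)
  refine ⟨Equiv.ofFiberEquiv (f := degs) (g := fun χ : IrrCharacter G => charDegree (χ : G → ℂ)) e,
    fun i => ?_⟩
  exact Equiv.ofFiberEquiv_map e i

omit [IsSimpleGroup G] in
theorem sum_chars [Fintype G] (u : Fin 10 ≃ IrrCharacter G) (f : IrrCharacter G → ℂ) :
    ∑ χ, f χ = ∑ i, f (u i) := (Equiv.sum_comp u f).symm

include hn in
theorem sixteen_dvd {x : G} (hx : x ^ 3 = 1) {i : ℕ} (hi : i ≤ 4)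
    (hc : Nat.card ↥(Subgroup.centralizer ({x} : Set G)) = 9 * 2 ^ i) (χ : IrrCharacter G)
    (hd : charDegree (χ : G → ℂ) = 16) (N : ℕ)
    (hN : (χ : G → ℂ) x * conj ((χ : G → ℂ) x) = (N : ℂ)) : 4 ^ i ∣ N := by
  have : Fintype G := Fintype.ofFinite G
  obtain ⟨n, ρ, hρi, hρ⟩ := χ.2
  have hcl := CharBasicInt.isIntegral_classSum ρ x
  have hfr : (Module.finrank ℂ (Fin n → ℂ) : ℂ) = 16 := by
    rw [← Representation.char_one ρ, hρ, ClassAlgebraVal.apply_one_eq_charDegree, hd]
    norm_num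
  have hidx : ((Subgroup.centralizer ({x} : Set G)).index : ℂ) * 2 ^ i = 55 * 16 := by
    have h := Subgroup.index_mul_card (Subgroup.centralizer ({x} : Set G))
    rw [hc, hn] at h
    have h' : (Subgroup.centralizer ({x} : Set G)).index * 2 ^ i = 55 * 16 := by
      rw [← mul_assoc, mul_right_comm] at h
      omega
    exact_mod_cast h'
  rw [hρ, hfr] at hcl
  set z := (χ : G → ℂ) x with hz
  have hint : IsIntegral ℤ (z / 2 ^ i) := by
    obtain ⟨k, hk⟩ : ∃ k : ℕ, (384 : ℂ) = 2 ^ i * k := by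
      interval_cases i
      · exact ⟨384, by norm_num⟩
      · exact ⟨192, by norm_num⟩
      · exact ⟨96, by norm_num⟩
      · exact ⟨48, by norm_num⟩
      · exact ⟨24, by norm_num⟩
    have hzi : IsIntegral ℤ z := by
      rw [hz, ← hρ]; exact CharBasic.isIntegral_character ρ x
    have e : z / 2 ^ i = (7 : ℕ) * (((Subgroup.centralizer ({x} : Set G)).index : ℂ) * z / 16)
        - (k : ℕ) * z := by
      have h2 : (2 : ℂ) ^ i ≠ 0 := pow_ne_zero _ two_ne_zero
      field_simp
      push_cast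
      linear_combination (-7 * z) * hidx + (-16 * z) * hk
    rw [e]
    exact (IsIntegral.mul (isIntegral_natCast _) hcl).sub (IsIntegral.mul (isIntegral_natCast _) hzi)
  have hint2 : IsIntegral ℤ (conj (z / 2 ^ i)) := hint.map (starRingEnd ℂ).toIntAlgHom
  refine CharBasicInt.dvd_of_isIntegral_div (by positivity) ?_
  have e : z / 2 ^ i * conj (z / 2 ^ i) = (N : ℂ) / ((4 ^ i : ℕ) : ℂ) := by
    rw [map_div₀, map_pow, Complex.conj_ofNat, div_mul_div_comm, ← mul_pow, hz, hN]
    norm_num
  rw [← e]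
  exact hint.mul hint2

include hn in
/-- A multiple of four does not divide the order of the centraliser of an element of order three. -/
theorem centralizer_three_le {x : G} (hx : x ^ 3 = 1) {i : ℕ} (hi : i ≤ 4)
    (hc : Nat.card ↥(Subgroup.centralizer ({x} : Set G)) = 9 * 2 ^ i) : i ≤ 1 := by
  classical
  have : Fintype G := Fintype.ofFinite G
  by_contra hi1
  obtain ⟨u, hu⟩ := exists_chars hn
  choose N hN hmod using fun j => exists_norm (u j) hx
  have hsum : (∑ j, (N j : ℂ)) = ((9 * 2 ^ i : ℕ) : ℂ) := by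
    rw [← hc]
    have h := CharBasicOrth.sum_irr_mul_conj x x
    rw [if_pos (IsConj.refl x), sum_chars u] at h
    rw [← h]
    exact Finset.sum_congr rfl fun j _ => (hN j).symm
  have hsum' : ∑ j, N j = 9 * 2 ^ i := by exact_mod_cast hsum
  have h16 : ∀ j, degs j = 16 → 4 ^ i ∣ N j := fun j hj =>
    sixteen_dvd hn hx hi hc (u j) (by rw [hu, hj]) (N j) (hN j)
  have hpos : ∀ j, degs j % 3 ≠ 0 → 1 ≤ N j := by
    intro j hj
    rcases Nat.eq_zero_or_pos (N j) with h0 | h0
    · exfalso
      have h := hmod j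
      rw [h0, hu] at h
      have := Nat.pow_mod (degs j) 2 3
      have h' : degs j % 3 = 1 ∨ degs j % 3 = 2 := by omega
      rcases h' with e | e <;> rw [e] at this <;> omega
    · exact h0
  have hle : ∀ j, (if degs j = 16 then 4 ^ i else if degs j % 3 = 0 then 0 else 1) ≤ N j := by
    intro j
    split_ifs with h1 h2
    · exact Nat.le_of_dvd (hpos j (by rw [h1]; norm_num)) (h16 j h1)
    · exact Nat.zero_le _
    · exact hpos j h2
  have htot := Finset.sum_le_sum (s := Finset.univ) fun j _ => hle j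
  rw [hsum'] at htot
  simp [Fin.sum_univ_succ, degs] at htot
  interval_cases i <;> norm_num at htot

end Cfsg.Agent.M11Unique99
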