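import Mathlib
import Cfsg.Agent.Lib.M11Order91Degrees

/-!
All simple subgroups of order 7920 of the symmetric group on eleven points are conjugate.
-/

set_option autoImplicit false

namespace Cfsg.Agent.M11Unique99

open Fin.NatCast Fin.CommRing

open Cfsg.Agent.M11Order91

abbrev P11 : Type := Equiv.Perm (Fin 11)

instance fact11' : Fact (Nat.Prime 11) := ⟨by norm_num⟩

/-- `i ↦ i + 1`. -/
def cP : P11 := Equiv.addRight 1

/-- `i ↦ 3 i`. -/
def bP : P11 := ⟨fun i => 3 * i, fun i => 4 * i, by decide, by decide⟩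

/-- `i ↦ -i`. -/
def nP : P11 := Equiv.neg _

def tL (a : Fin 11) : List (Fin 11) :=
  if a = 2 then [0, 1, 2, 9, 5, 3, 7, 8, 10, 4, 6]
  else if a = 6 then [0, 1, 6, 9, 5, 3, 10, 2, 8, 4, 7]
  else if a = 7 then [0, 1, 7, 9, 5, 3, 8, 6, 2, 4, 10]
  else if a = 8 then [0, 1, 8, 9, 5, 3, 6, 10, 7, 4, 2]
  else [0, 1, 10, 9, 5, 3, 2, 7, 6, 4, 8]

def tFun (a i : Fin 11) : Fin 11 := (tL a).getD i.val 0

/-- The computable form of a candidate. -/
def tP (a : Fin 11) : P11 :=
  ⟨tFun a, fun j => ((List.finRange 11).find? fun i => tFun a i = j).getD 0,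
    by revert a; decide +kernel, by revert a; decide +kernel⟩

theorem eq_tP {t : P11} (h0 : t 0 = 0) (h1 : t 1 = 1) (hb : t * bP = bP ^ 2 * t)
    (h2 : t 2 = 2 ∨ t 2 = 6 ∨ t 2 = 7 ∨ t 2 = 8 ∨ t 2 = 10) : t = tP (t 2) := by
  have hstep : ∀ i, t (3 * i) = 9 * t i := fun i => by
    have h := congrArg (fun p : P11 => p i) hb
    simp only [pow_two, Equiv.Perm.mul_apply] at h
    change t (3 * i) = 3 * (3 * t i) at h
    rw [h]
    generalize t i = j
    revert j; decide
  have e3 : t 3 = 9 := by have := hstep 1; rw [h1] at this; simpa using this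
  have e9 : t 9 = 9 * 9 := by have := hstep 3; rw [e3] at this; exact this
  have e5 : t 5 = 9 * 9 * 9 := by have := hstep 9; rw [e9] at this; exact this.trans (by decide)
  have e4 : t 4 = 9 * 9 * 9 * 9 := by have := hstep 5; rw [e5] at this; exact this.trans (by decide)
  have e6 : t 6 = 9 * t 2 := hstep 2
  have e7 : t 7 = 9 * (9 * t 2) := by have := hstep 6; rw [e6] at this; exact this
  have e10 : t 10 = 9 * (9 * (9 * t 2)) := by have := hstep 7; rw [e7] at this; exact this
  have e8 : t 8 = 9 * (9 * (9 * (9 * t 2))) := by have := hstep 10; rw [e10] at this; exact this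
  refine Equiv.ext fun i => ?_
  show t i = tFun (t 2) i
  rcases h2 with h | h | h | h | h <;> rw [h] <;> rw [h] at e6 e7 e10 e8 <;> fin_cases i <;>
    simp only [Fin.reduceFinMk, Fin.isValue, Fin.zero_eta, Fin.mk_one, h0, h1, h, e3, e9, e5, e4,
      e6, e7, e10, e8] <;> decide

/-- The normal form. -/
def H0 : Subgroup P11 := Subgroup.closure {cP, bP, tP 6}

theorem not_seven {a : Fin 11} (ha : a = 2 ∨ a = 7 ∨ a = 8) :
    ∃ x ∈ Subgroup.closure ({cP, tP a} : Set P11), x ^ 21 = 1 ∧ x ^ 3 ≠ 1 := by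
  have hc : cP ∈ Subgroup.closure ({cP, tP a} : Set P11) := Subgroup.subset_closure (by simp)
  have ht : tP a ∈ Subgroup.closure ({cP, tP a} : Set P11) := Subgroup.subset_closure (by simp)
  rcases ha with rfl | rfl | rfl
  · exact ⟨cP * cP * cP * cP * tP 2, mul_mem (mul_mem (mul_mem (mul_mem hc hc) hc) hc) ht,
      by decide +kernel, by decide +kernel⟩
  · exact ⟨cP * cP * tP 7, mul_mem (mul_mem hc hc) ht, by decide +kernel, by decide +kernel⟩
  · exact ⟨cP * cP * tP 8, mul_mem (mul_mem hc hc) ht, by decide +kernel, by decide +kernel⟩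

/-- A subgroup isomorphic to a simple group of order 7920 equals a subgroup containing elements of
orders 11, 5, 8 and 3. -/
theorem eq_of_orders {G : Type*} [Group G] [Finite G] [IsSimpleGroup G] (hn : Nat.card G = 7920)
    (H : Subgroup G) (h11 : 11 ∣ Nat.card H) (h5 : 5 ∣ Nat.card H) (h8 : 8 ∣ Nat.card H)
    (h3 : 3 ∣ Nat.card H) : H = ⊤ := by
  by_contra hH
  have hd : 1320 ∣ Nat.card H := by
    have a := Nat.Coprime.mul_dvd_of_dvd_of_dvd (by norm_num) h11 h5
    have b := Nat.Coprime.mul_dvd_of_dvd_of_dvd (by norm_num) h8 h3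
    exact Nat.Coprime.mul_dvd_of_dvd_of_dvd (by norm_num) a b
  have hidx : H.index ≤ 6 := by
    have h := Subgroup.index_mul_card H
    rw [hn] at h
    have := Nat.le_of_dvd (Nat.card_pos) hd
    nlinarith
  have hinj : Function.Injective (MulAction.toPermHom G (G ⧸ H)) := by
    rw [← MonoidHom.ker_eq_bot_iff, ← Subgroup.normalCore_eq_ker]
    exact (IsSimpleGroup.eq_bot_or_eq_top_of_normal _ (inferInstance : H.normalCore.Normal)).resolve_right fun e =>
      hH (top_le_iff.1 (e ▸ Subgroup.normalCore_le H))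
  have h1 := Subgroup.card_dvd_of_injective _ hinj
  rw [Nat.card_perm, hn, ← Subgroup.index] at h1
  interval_cases H.index <;> norm_num [Nat.factorial] at h1

theorem normal_form (G : Subgroup P11) [IsSimpleGroup G] (hn : Nat.card G = 7920) :
    ∃ σ : P11, G.map (MulAut.conj σ).toMonoidHom = H0 := by
  classical
  -- an element of order eleven
  obtain ⟨x, hx⟩ := exists_prime_orderOf_dvd_card' (G := G) 11 (by rw [hn]; norm_num)
  have hx' : orderOf (x : P11) = 11 := by rw [Subgroup.orderOf_coe]; exact hx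
  have hc11 : orderOf cP = 11 := orderOf_eq_prime (by decide +kernel) (by decide +kernel)
  obtain ⟨σ₁, hσ₁⟩ : ∃ σ, σ * (x : P11) * σ⁻¹ = cP := by
    refine isConj_iff.1 ?_
    have h1 := Equiv.Perm.isCycle_of_prime_order'' (σ := (x : P11)) (by norm_num)
      (by rw [hx', Fintype.card_fin])
    have h2 := Equiv.Perm.isCycle_of_prime_order'' (σ := cP) (by norm_num)
      (by rw [hc11, Fintype.card_fin])
    rw [h1.isConj_iff h2, ← h1.orderOf, ← h2.orderOf, hx', hc11]
  let G1 := G.map (MulAut.conj σ₁).toMonoidHom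
  have e1 : G ≃* G1 := Subgroup.equivMapOfInjective _ _ (MulAut.conj σ₁).injective
  haveI : Nontrivial G1 := e1.injective.nontrivial
  haveI : IsSimpleGroup G1 := IsSimpleGroup.isSimpleGroup_of_surjective (H := G1) e1.toMonoidHom e1.surjective
  have hn1 : Nat.card G1 = 7920 := by rw [← Nat.card_congr e1.toEquiv, hn]
  have hc1 : cP ∈ G1 := ⟨x, x.2, by simpa using hσ₁⟩
  -- the multiplier
  let c : G1 := ⟨cP, hc1⟩
  have hoc : orderOf c = 11 := by rw [← Subgroup.orderOf_coe]; exact hc11
  obtain ⟨P, hP⟩ := (IsPGroup.of_card (G := ↥(Subgroup.zpowers c)) (p := 11) (n := 1)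
    (by rw [Nat.card_zpowers, hoc, pow_one])).exists_le_sylow
  have hPe : Subgroup.zpowers c = (P : Subgroup G1) :=
    Subgroup.eq_of_le_of_card_ge hP (by rw [card_eleven hn1 P, Nat.card_zpowers, hoc])
  obtain ⟨hN, hC, -⟩ := normalizer_eleven hn1 P
  obtain ⟨y, hy⟩ := exists_prime_orderOf_dvd_card'
    (G := ↥(Subgroup.normalizer ((P : Subgroup G1) : Set G1))) 5 (by rw [hN]; norm_num)
  have hyc : ∃ k : ℕ, k < 11 ∧ (y : G1) * c * (y : G1)⁻¹ = c ^ k := by
    have hm : (y : G1) * c * (y : G1)⁻¹ ∈ Subgroup.zpowers c := by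
      rw [hPe]
      exact (Subgroup.mem_normalizer_iff.1 y.2 c).1 (hPe ▸ Subgroup.mem_zpowers c)
    obtain ⟨k, hk⟩ := mem_powers_iff_mem_zpowers.2 hm
    simp only at hk
    exact ⟨k % 11, Nat.mod_lt _ (by norm_num), by rw [← hk, ← pow_mod_orderOf c k, hoc]⟩
  obtain ⟨k, hk, hkc⟩ := hyc
  have haff : ∀ i : Fin 11, ((y : G1) : P11) i =
      (k : Fin 11) * i + ((y : G1) : P11) 0 := by
    have h : ((y : G1) : P11) * cP = cP ^ k * ((y : G1) : P11) := by
      have := congrArg Subtype.val hkc
      simp only [Subgroup.coe_mul, InvMemClass.coe_inv, SubmonoidClass.coe_pow] at this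
      rw [← this, inv_mul_cancel_right]
    have hpow : ∀ (m : ℕ) (i : Fin 11), (cP ^ m) i = i + (m : Fin 11) := by
      intro m
      induction m with
      | zero => simp
      | succ m ih =>
        intro i
        rw [pow_succ', Equiv.Perm.mul_apply, ih]
        show i + (m : Fin 11) + 1 = _
        push_cast
        ring
    have hstep : ∀ i, ((y : G1) : P11) (i + 1) = ((y : G1) : P11) i + (k : Fin 11) := fun i => by
      have := congrArg (fun p : P11 => p i) h
      simp only [Equiv.Perm.mul_apply, hpow] at this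
      exact this
    intro i
    induction i using Fin.induction with
    | zero => simp
    | succ i ih =>
      rw [← Fin.coeSucc_eq_succ, hstep, ih]
      ring
  have hy5 : ((y : G1) : P11) ^ 5 = 1 ∧ ((y : G1) : P11) ≠ 1 := by
    have hy' : orderOf ((y : G1) : P11) = 5 := by rw [Subgroup.orderOf_coe, Subgroup.orderOf_coe, hy]
    exact ⟨hy' ▸ pow_orderOf_eq_one _, fun e => by rw [e, orderOf_one] at hy'; norm_num at hy'⟩
  have hb1 : bP ∈ G1 := by
    set q := ((y : G1) : P11) with hq
    have key : ∀ k a : Fin 11, (∀ i : Fin 11, k * (k * (k * (k * (k * i + a) + a) + a) + a) + a = i) →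
        (∃ i : Fin 11, k * i + a ≠ i) →
        ∃ e : Fin 5, ∃ m : Fin 11, ∀ i : Fin 11, (fun j => k * j + a)^[e.val] i + m = 3 * i := by
      decide +kernel
    obtain ⟨e, m, hem⟩ := key (k : Fin 11) (q 0) (fun i => by
        have := congrArg (fun p : P11 => p i) hy5.1
        generalize haq : q 0 = a at haff ⊢
        simp only [pow_succ, pow_zero, one_mul, Equiv.Perm.mul_apply, Equiv.Perm.one_apply, haff] at this
        exact this) (by
        by_contra hne
        push Not at hne
        exact hy5.2 (Equiv.ext fun i => by rw [haff]; simpa using hne i))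
    have hpow : ∀ (n : ℕ) (i : Fin 11), (q ^ n) i = (fun j => (k : Fin 11) * j + q 0)^[n] i := by
      intro n
      induction n with
      | zero => simp
      | succ n ih =>
        intro i
        rw [pow_succ', Equiv.Perm.mul_apply, ih, haff, Function.iterate_succ', Function.comp_apply]
    have hcm : ∀ (n : ℕ) (i : Fin 11), (cP ^ n) i = i + (n : Fin 11) := by
      intro n
      induction n with
      | zero => simp
      | succ n ih =>
        intro i
        rw [pow_succ', Equiv.Perm.mul_apply, ih]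
        show i + (n : Fin 11) + 1 = _
        push_cast
        ring
    have : bP = cP ^ m.val * q ^ e.val := Equiv.ext fun i => by
      rw [Equiv.Perm.mul_apply, hcm, hpow, Fin.cast_val_eq_self]
      exact (hem i).symm
    rw [this]
    exact mul_mem (pow_mem hc1 _) (pow_mem (y : G1).2 _)
  -- the normalizer of the multiplier
  let b : G1 := ⟨bP, hb1⟩
  have hob : orderOf b = 5 := by
    rw [← Subgroup.orderOf_coe]
    show orderOf bP = 5
    exact orderOf_eq_prime (hp := fact5) (by decide +kernel) (by decide +kernel)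
  obtain ⟨Q, hQ⟩ := (IsPGroup.of_card (G := ↥(Subgroup.zpowers b)) (p := 5) (n := 1)
    (by rw [Nat.card_zpowers, hob, pow_one])).exists_le_sylow
  have hQe : Subgroup.zpowers b = (Q : Subgroup G1) :=
    Subgroup.eq_of_le_of_card_ge hQ (by rw [card_five hn1 Q, Nat.card_zpowers, hob])
  obtain ⟨hN5, hC5, -⟩ := normalizer_five hn1 Q
  obtain ⟨t, ht⟩ : ∃ t : G1, t * b * t⁻¹ = b ^ 2 := by
    by_contra hne
    push Not at hne
    let N := Subgroup.normalizer ((Q : Subgroup G1) : Set G1)
    have hbQ : b ∈ (Q : Subgroup G1) := hQe ▸ Subgroup.mem_zpowers b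
    have himg : ∀ g : N, ∃ j : Fin 5, (g : G1) * b * (g : G1)⁻¹ = b ^ j.val ∧ j ≠ 2 ∧ j ≠ 0 := by
      intro g
      have hm : (g : G1) * b * (g : G1)⁻¹ ∈ Subgroup.zpowers b := by
        rw [hQe]; exact (Subgroup.mem_normalizer_iff.1 g.2 b).1 hbQ
      obtain ⟨j, hj⟩ := mem_powers_iff_mem_zpowers.2 hm
      simp only at hj
      refine ⟨⟨j % 5, Nat.mod_lt _ (by norm_num)⟩, ?_, ?_, ?_⟩
      · rw [← hj]
        show b ^ j = b ^ (j % 5)
        rw [← hob, pow_mod_orderOf]
      · intro e
        have e' : j % 5 = 2 := congrArg Fin.val e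
        exact hne g (by rw [← hj, ← pow_mod_orderOf, hob, e'])
      · intro e
        have e' : j % 5 = 0 := congrArg Fin.val e
        have : (g : G1) * b * (g : G1)⁻¹ = 1 := by rw [← hj, ← pow_mod_orderOf, hob, e', pow_zero]
        rw [conj_eq_one_iff] at this
        rw [this, orderOf_one] at hob
        norm_num at hob
    choose j hj hj2 hj0 using himg
    have hcent : ∀ g h : N, j g = j h →
        (g : G1)⁻¹ * h ∈ Subgroup.centralizer ((Q : Subgroup G1) : Set G1) := by
      intro g h e
      rw [← hQe, Subgroup.zpowers_eq_closure, Subgroup.centralizer_closure,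
        Subgroup.mem_centralizer_singleton_iff]
      have e' : (g : G1) * b * (g : G1)⁻¹ = (h : G1) * b * (h : G1)⁻¹ := by rw [hj, hj, e]
      calc (g : G1)⁻¹ * h * b = (g : G1)⁻¹ * ((h : G1) * b * (h : G1)⁻¹) * h := by group
        _ = (g : G1)⁻¹ * ((g : G1) * b * (g : G1)⁻¹) * h := by rw [e']
        _ = b * ((g : G1)⁻¹ * h) := by group
    have hcard : Nat.card N ≤
        3 * Nat.card ↥(Subgroup.centralizer ((Q : Subgroup G1) : Set G1)) := by
      let rep : {j : Fin 5 // j ≠ 2 ∧ j ≠ 0} → N := fun i =>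
        if h : ∃ g, j g = i.val then h.choose else 1
      have h3 : Nat.card {j : Fin 5 // j ≠ 2 ∧ j ≠ 0} = 3 := by
        rw [Nat.card_eq_fintype_card]; decide
      rw [← h3, ← Nat.card_prod]
      refine Nat.card_le_card_of_injective
        (fun g => (⟨j g, hj2 g, hj0 g⟩, ⟨(rep ⟨j g, hj2 g, hj0 g⟩ : G1)⁻¹ * g, hcent _ g ?_⟩)) ?_
      · have hex : ∃ g' : N, j g' = j g := ⟨g, rfl⟩
        simp only [rep, dif_pos hex]
        exact hex.choose_spec
      · intro g h e
        simp only [Prod.mk.injEq] at e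
        have e2 := congrArg Subtype.val e.2
        simp only [e.1] at e2
        exact Subtype.ext (mul_left_cancel e2)
    rw [hN5, hC5] at hcard
    omega
  -- reduction of `t`
  have hsgn : ∀ g : G1, Equiv.Perm.sign (g : P11) = 1 := by
    intro g
    by_contra hg
    have hk : (Equiv.Perm.sign.comp G1.subtype).ker = ⊥ :=
      (IsSimpleGroup.eq_bot_or_eq_top_of_normal _ (inferInstance : (Equiv.Perm.sign.comp G1.subtype).ker.Normal)).resolve_right
        fun e => hg (MonoidHom.mem_ker.1
          (show g ∈ (Equiv.Perm.sign.comp G1.subtype).ker from e ▸ Subgroup.mem_top g))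
    have := Nat.card_le_card_of_injective _ ((MonoidHom.ker_eq_bot_iff _).1 hk)
    rw [hn1, Nat.card_eq_fintype_card, Fintype.card_units_int] at this
    omega
  have htb : (t : P11) * bP = bP ^ 2 * (t : P11) := by
    have := congrArg Subtype.val ht
    simp only [Subgroup.coe_mul, InvMemClass.coe_inv, SubmonoidClass.coe_pow] at this
    rw [← this, inv_mul_cancel_right]
  have htb' : ∀ i, (t : P11) (3 * i) = 9 * (t : P11) i := fun i => by
    have h := congrArg (fun p : P11 => p i) htb
    simp only [pow_two, Equiv.Perm.mul_apply] at h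
    change (t : P11) (3 * i) = 3 * (3 * (t : P11) i) at h
    rw [h]
    generalize (t : P11) i = j
    revert j; decide
  have ht0 : (t : P11) 0 = 0 := by
    have := htb' 0
    rw [mul_zero] at this
    revert this
    generalize (t : P11) 0 = j
    revert j; decide
  obtain ⟨u, hu1, hu, hub⟩ : ∃ u : P11, u ∈ G1 ∧ u 1 = 1 ∧ u * bP = bP ^ 2 * u := by
    have hR : ∀ a : Fin 11, a ≠ 0 → (∃ e : Fin 5, 9 ^ e.val * a = 1) ∨
        (∃ e : Fin 5, 9 ^ e.val * a = 2) := by decide
    have ha : (t : P11) 1 ≠ 0 := fun e =>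
      absurd ((t : P11).injective (e.trans ht0.symm)) (by decide)
    have hpow : ∀ (e : ℕ), (t : P11) ((bP ^ e) 1) = 9 ^ e * (t : P11) 1 := by
      intro e
      induction e with
      | zero => simp
      | succ e ih =>
        rw [pow_succ', Equiv.Perm.mul_apply]
        show (t : P11) (3 * (bP ^ e) 1) = _
        rw [htb', ih, pow_succ', mul_assoc]
    have hu : ∀ e : ℕ, ((t : P11) * bP ^ e) * bP = bP ^ 2 * ((t : P11) * bP ^ e) := fun e => by
      rw [mul_assoc, ← pow_succ, pow_succ', ← mul_assoc, htb, mul_assoc]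
    rcases hR _ ha with ⟨e, he⟩ | ⟨e, he⟩
    · exact ⟨_, mul_mem t.2 (pow_mem hb1 _), by rw [Equiv.Perm.mul_apply, hpow, he], hu e.val⟩
    · exfalso
      set u := (t : P11) * bP ^ e.val with hudef
      have hu1 : u 1 = 2 := by rw [hudef, Equiv.Perm.mul_apply, hpow, he]
      have hs := hsgn ⟨u, mul_mem t.2 (pow_mem hb1 _)⟩
      have hub := hu e.val
      rw [← hudef] at hub
      -- `nP * u` or its twist is one of the even candidates
      have hstep : ∀ i, u (3 * i) = 9 * u i := fun i => by
        have h := congrArg (fun p : P11 => p i) hub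
        simp only [pow_two, Equiv.Perm.mul_apply] at h
        change u (3 * i) = 3 * (3 * u i) at h
        rw [h]
        generalize u i = j
        revert j; decide
      have hu0 : u 0 = 0 := by
        have := hstep 0
        rw [mul_zero] at this
        revert this
        generalize u 0 = j
        revert j; decide
      have hR2 : u 2 = 1 ∨ u 2 = 3 ∨ u 2 = 9 ∨ u 2 = 5 ∨ u 2 = 4 := by
        have h2 : ∀ j : Fin 11, j ≠ 0 → j ≠ 2 → j ≠ 9 * 2 → j ≠ 9 * (9 * 2) → j ≠ 9 * (9 * (9 * 2)) →
            j ≠ 9 * (9 * (9 * (9 * 2))) → (j = 1 ∨ j = 3 ∨ j = 9 ∨ j = 5 ∨ j = 4) := by decide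
        have f1 : u 3 = 9 * 2 := by have := hstep 1; rw [hu1] at this; simpa using this
        have f2 : u 9 = 9 * (9 * 2) := by have := hstep 3; rw [f1] at this; exact this
        have f3 : u 5 = 9 * (9 * (9 * 2)) := by have := hstep 9; rw [f2] at this; exact this
        have f4 : u 4 = 9 * (9 * (9 * (9 * 2))) := by have := hstep 5; rw [f3] at this; exact this
        refine h2 _ ?_ ?_ ?_ ?_ ?_ ?_ <;> intro h'
        exacts [absurd (u.injective (h'.trans hu0.symm)) (by decide),
          absurd (u.injective (h'.trans hu1.symm)) (by decide),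
          absurd (u.injective (h'.trans f1.symm)) (by decide),
          absurd (u.injective (h'.trans f2.symm)) (by decide),
          absurd (u.injective (h'.trans f3.symm)) (by decide),
          absurd (u.injective (h'.trans f4.symm)) (by decide)]
      have hsg : Equiv.Perm.sign u = -1 := by
        have hv1 : (bP ^ 3 * (nP * u)) 1 = 1 := by
          simp only [Equiv.Perm.mul_apply, hu1]; decide
        have hv0 : (bP ^ 3 * (nP * u)) 0 = 0 := by
          simp only [Equiv.Perm.mul_apply, hu0]; decide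
        have hvb : (bP ^ 3 * (nP * u)) * bP = bP ^ 2 * (bP ^ 3 * (nP * u)) := by
          have hn' : nP * bP ^ 2 = bP ^ 2 * nP := by decide +kernel
          rw [mul_assoc, mul_assoc, hub, ← mul_assoc nP, hn']
          group
        have hv2 : (bP ^ 3 * (nP * u)) 2 = 2 ∨ (bP ^ 3 * (nP * u)) 2 = 6 ∨
            (bP ^ 3 * (nP * u)) 2 = 7 ∨ (bP ^ 3 * (nP * u)) 2 = 8 ∨
            (bP ^ 3 * (nP * u)) 2 = 10 := by
          simp only [Equiv.Perm.mul_apply]
          rcases hR2 with h' | h' | h' | h' | h' <;> rw [h'] <;> decide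
        have h := eq_tP hv0 hv1 hvb hv2
        have hev : Equiv.Perm.sign (bP ^ 3 * (nP * u)) = 1 := by
          rw [h]
          rcases hv2 with h' | h' | h' | h' | h' <;> rw [h'] <;> decide +kernel
        rw [map_mul, map_mul, show Equiv.Perm.sign (bP ^ 3) = 1 by decide +kernel,
          show Equiv.Perm.sign nP = -1 by decide +kernel, one_mul, neg_one_mul] at hev
        exact neg_eq_iff_eq_neg.1 hev
      rw [hsg] at hs
      exact absurd hs (by decide)
  have hu0 : u 0 = 0 := by
    have h := congrArg (fun p : P11 => p 0) hub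
    simp only [pow_two, Equiv.Perm.mul_apply] at h
    change u (3 * 0) = 3 * (3 * u 0) at h
    rw [mul_zero] at h
    revert h
    generalize u 0 = j
    revert j; decide
  have hu2 : u 2 = 2 ∨ u 2 = 6 ∨ u 2 = 7 ∨ u 2 = 8 ∨ u 2 = 10 := by
    have hstep : ∀ i, u (3 * i) = 9 * u i := fun i => by
      have h := congrArg (fun p : P11 => p i) hub
      simp only [pow_two, Equiv.Perm.mul_apply] at h
      change u (3 * i) = 3 * (3 * u i) at h
      rw [h]
      generalize u i = j
      revert j; decide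
    have e3 : u 3 = 9 := by have := hstep 1; rw [hu] at this; simpa using this
    have e9 : u 9 = 9 * 9 := by have := hstep 3; rw [e3] at this; exact this
    have e5 : u 5 = 9 * (9 * 9) := by have := hstep 9; rw [e9] at this; exact this
    have e4 : u 4 = 9 * (9 * (9 * 9)) := by have := hstep 5; rw [e5] at this; exact this
    have hj : ∀ j : Fin 11, j ≠ 0 → j ≠ 1 → j ≠ 9 → j ≠ 9 * 9 → j ≠ 9 * (9 * 9) →
        j ≠ 9 * (9 * (9 * 9)) → (j = 2 ∨ j = 6 ∨ j = 7 ∨ j = 8 ∨ j = 10) := by decide
    refine hj _ ?_ ?_ ?_ ?_ ?_ ?_ <;> intro h'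
    exacts [absurd (u.injective (h'.trans hu0.symm)) (by decide),
      absurd (u.injective (h'.trans hu.symm)) (by decide),
      absurd (u.injective (h'.trans e3.symm)) (by decide),
      absurd (u.injective (h'.trans e9.symm)) (by decide),
      absurd (u.injective (h'.trans e5.symm)) (by decide),
      absurd (u.injective (h'.trans e4.symm)) (by decide)]
  have hut := eq_tP hu0 hu hub hu2
  -- a subgroup containing the three generators is everything
  have hgen : ∀ (K : Subgroup P11) [IsSimpleGroup K], Nat.card K = 7920 →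
      cP ∈ K → bP ∈ K → tP 6 ∈ K → K = H0 := by
    intro K _ hK h1 h2 h3
    have hle : H0 ≤ K := (Subgroup.closure_le _).2 (by
      rintro z (rfl | rfl | rfl)
      exacts [h1, h2, h3])
    have hc : cP ∈ H0 := Subgroup.subset_closure (by simp)
    have hb : bP ∈ H0 := Subgroup.subset_closure (by simp)
    have ht : tP 6 ∈ H0 := Subgroup.subset_closure (by simp)
    have hdvd : ∀ (z : P11) (d : ℕ), z ∈ H0 → orderOf z = d → d ∣ Nat.card (H0.subgroupOf K) :=
      fun z d hz hd => by
        rw [Nat.card_congr (Subgroup.subgroupOfEquivOfLe hle).toEquiv, ← hd]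
        exact Subgroup.orderOf_dvd_natCard _ hz
    have htop := eq_of_orders (G := K) hK (H0.subgroupOf K) (hdvd _ _ hc hc11)
      (hdvd _ _ hb (orderOf_eq_prime (hp := fact5) (by decide +kernel) (by decide +kernel)))
      (hdvd (cP * cP * tP 6) 8 (mul_mem (mul_mem hc hc) ht)
        (orderOf_eq_prime_pow (p := 2) (n := 2) (by decide +kernel) (by decide +kernel)))
      (hdvd (cP * tP 6 * tP 6) 3 (mul_mem (mul_mem hc ht) ht)
        (orderOf_eq_prime (hp := ⟨Nat.prime_three⟩) (by decide +kernel) (by decide +kernel)))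
    exact le_antisymm (Subgroup.subgroupOf_eq_top.1 htop) hle
  have hbad : u 2 = 2 ∨ u 2 = 7 ∨ u 2 = 8 → False := by
    intro h
    obtain ⟨z, hz, hz21, hz3⟩ := not_seven h
    have hzG : z ∈ G1 := (Subgroup.closure_le _).2 (by
      rintro w (rfl | rfl)
      exacts [hc1, hut ▸ hu1]) hz
    have h1 : z ^ 7920 = 1 := orderOf_dvd_iff_pow_eq_one.1 (hn1 ▸ Subgroup.orderOf_dvd_natCard G1 hzG)
    refine hz3 ?_
    have := pow_gcd_eq_one.2 ⟨h1, hz21⟩
    simpa using this
  rcases hu2 with h | h | h | h | h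
  · exact (hbad (Or.inl h)).elim
  · refine ⟨σ₁, hgen G1 hn1 hc1 hb1 ?_⟩
    rw [← h, ← hut]; exact hu1
  · exact (hbad (Or.inr (Or.inl h))).elim
  · exact (hbad (Or.inr (Or.inr h))).elim
  · refine ⟨nP * σ₁, ?_⟩
    have e : G.map (MulAut.conj (nP * σ₁)).toMonoidHom = G1.map (MulAut.conj nP).toMonoidHom := by
      rw [Subgroup.map_map]
      refine congrArg (fun f => Subgroup.map f G) (MonoidHom.ext fun z => ?_)
      simp [mul_assoc]
    rw [e]
    let e2 : G1 ≃* G1.map (MulAut.conj nP).toMonoidHom :=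
      Subgroup.equivMapOfInjective _ _ (MulAut.conj nP).injective
    haveI : Nontrivial (G1.map (MulAut.conj nP).toMonoidHom) := e2.injective.nontrivial
    haveI : IsSimpleGroup (G1.map (MulAut.conj nP).toMonoidHom) :=
      IsSimpleGroup.isSimpleGroup_of_surjective e2.toMonoidHom e2.surjective
    refine hgen _ (by rw [← Nat.card_congr e2.toEquiv, hn1]) ?_ ?_ ?_
    · refine ⟨cP⁻¹, inv_mem hc1, ?_⟩
      decide +kernel
    · refine ⟨bP, hb1, ?_⟩
      decide +kernel
    · refine ⟨tP 10 * bP ^ 2, mul_mem (h ▸ hut ▸ hu1) (pow_mem hb1 _), ?_⟩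
      decide +kernel

theorem conjugate_subgroups (G₁ G₂ : Subgroup P11) [IsSimpleGroup G₁] [IsSimpleGroup G₂]
    (h₁ : Nat.card G₁ = 7920) (h₂ : Nat.card G₂ = 7920) : Nonempty (G₁ ≃* G₂) := by
  obtain ⟨a, ha⟩ := normal_form G₁ h₁
  obtain ⟨b, hb⟩ := normal_form G₂ h₂
  exact ⟨((Subgroup.equivMapOfInjective G₁ _ (MulAut.conj a).injective).trans
    (MulEquiv.subgroupCongr (ha.trans hb.symm))).trans
    (Subgroup.equivMapOfInjective G₂ _ (MulAut.conj b).injective).symm⟩

end Cfsg.Agent.M11Unique99
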