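import Mathlib

/-!
The triangular graph on fifty five vertices: parameters of a strongly regular graph of valency 18 and
the two cliques through a vertex with a regular group of order nine on each half of the neighbours.
-/

set_option autoImplicit false

namespace Cfsg.Agent.M11Unique99

open Matrix

/-! ### Parameters -/

theorem exists_trace_idempotent {V : Type*} [Fintype V] [DecidableEq V] (E : Matrix V V ℝ)
    (hE : E * E = E) : ∃ k ≤ Fintype.card V, E.trace = (k : ℝ) := by
  have hi : IsIdempotentElem (Matrix.toLin' E) := by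
    show _ = _
    rw [Module.End.mul_eq_comp, ← Matrix.toLin'_mul, hE]
  refine ⟨Module.finrank ℝ (LinearMap.range (Matrix.toLin' E)), ?_, ?_⟩
  · exact le_trans (Submodule.finrank_le _) (by rw [Module.finrank_fintype_fun_eq_card])
  · rw [← LinearMap.IsProj.trace (LinearMap.IsIdempotentElem.isProj_range _ hi), Matrix.trace_toLin'_eq]

theorem srg_parameters {V : Type*} [Fintype V] [DecidableEq V] (hV : Fintype.card V = 55)
    (R : V → V → Prop) [DecidableRel R] (hsym : ∀ a b, R a b → R b a) (hirr : ∀ a, ¬ R a a)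
    (hdeg : ∀ a, (Finset.univ.filter fun b => R a b).card = 18) (l m : ℕ)
    (hl : ∀ a b, R a b → (Finset.univ.filter fun c => R a c ∧ R c b).card = l)
    (hm : ∀ a b, a ≠ b → ¬ R a b → (Finset.univ.filter fun c => R a c ∧ R c b).card = m) :
    l = 9 ∧ m = 4 := by
  obtain ⟨v⟩ : Nonempty V := Fintype.card_pos_iff.1 (by omega)
  have hcount : 36 * m + 18 * l = 306 := by
    have h1 : ∑ b, (Finset.univ.filter fun c => R v c ∧ R c b).card = 18 * 18 := by
      simp_rw [Finset.card_filter]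
      rw [Finset.sum_comm]
      have : ∀ c, (∑ b, if R v c ∧ R c b then 1 else 0) = if R v c then 18 else 0 := by
        intro c
        by_cases hc : R v c
        · simp only [hc, true_and, if_true]
          rw [← Finset.card_filter]
          exact hdeg c
        · simp [hc]
      rw [Finset.sum_congr rfl fun c _ => this c, ← Finset.sum_filter, Finset.sum_const, hdeg,
        smul_eq_mul]
    have h2 : ∀ b, (Finset.univ.filter fun c => R v c ∧ R c b).card
        = if b = v then 18 else if R v b then l else m := by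
      intro b
      split_ifs with h h'
      · subst h
        rw [← hdeg b]
        congr 1
        ext c
        simp only [Finset.mem_filter, Finset.mem_univ, true_and]
        exact ⟨fun h => h.1, fun h => ⟨h, hsym _ _ h⟩⟩
      · exact hl _ _ h'
      · exact hm _ _ (Ne.symm h) h'
    rw [Finset.sum_congr rfl fun b _ => h2 b, Finset.sum_ite, Finset.sum_const, Finset.filter_eq',
      if_pos (Finset.mem_univ v), Finset.card_singleton, Finset.sum_ite, Finset.sum_const,
      Finset.sum_const] at h1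
    have h3 : (Finset.univ.filter fun b => ¬ b = v).card = 54 := by
      rw [Finset.filter_ne', Finset.card_erase_of_mem (Finset.mem_univ v), Finset.card_univ, hV]
    have h4 : ((Finset.univ.filter fun b => ¬ b = v).filter fun b => R v b).card = 18 := by
      rw [← hdeg v]
      congr 1
      ext b
      simp only [Finset.mem_filter, Finset.mem_univ, true_and]
      exact ⟨fun h => h.2, fun h => ⟨fun e => hirr v (e ▸ h), h⟩⟩
    have h5 := Finset.card_filter_add_card_filter_not (s := Finset.univ.filter fun b => ¬ b = v)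
      (fun b => R v b)
    rw [h3, h4] at h5
    rw [h4, show ((Finset.univ.filter fun b => ¬ b = v).filter fun b => ¬ R v b).card = 36 by omega]
      at h1
    simp only [smul_eq_mul] at h1
    omega
  have hm18 : m ≤ 8 := by omega
  let A : Matrix V V ℝ := Matrix.of fun a b => if R a b then 1 else 0
  let J : Matrix V V ℝ := Matrix.of fun _ _ => 1
  have hAA : A * A = (18 - (m : ℝ)) • (1 : Matrix V V ℝ) + ((l : ℝ) - m) • A + (m : ℝ) • J := by
    ext a b
    rw [Matrix.mul_apply]
    simp only [A, J, Matrix.of_apply, Matrix.add_apply, Matrix.smul_apply, smul_eq_mul, ite_mul,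
      one_mul, zero_mul, ← ite_and, Finset.sum_boole, Matrix.one_apply]
    by_cases h : a = b
    · subst h
      have : (Finset.univ.filter fun c => R a c ∧ R c a) = Finset.univ.filter fun c => R a c :=
        Finset.filter_congr fun c _ => ⟨fun h => h.1, fun h => ⟨h, hsym _ _ h⟩⟩
      rw [this, hdeg, if_pos rfl, if_neg (hirr a)]
      push_cast
      ring
    · rw [if_neg h]
      by_cases h' : R a b
      · rw [hl a b h', if_pos h']; ring
      · rw [hm a b h h', if_neg h']; ring
  have hAJ : A * J = (18 : ℝ) • J := by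
    ext a b
    simp only [A, J, Matrix.mul_apply, Matrix.of_apply, Matrix.smul_apply, smul_eq_mul, mul_one,
      Finset.sum_boole, hdeg]
    norm_num
  have hJA : J * A = (18 : ℝ) • J := by
    ext a b
    simp only [A, J, Matrix.mul_apply, Matrix.of_apply, Matrix.smul_apply, smul_eq_mul, one_mul,
      Finset.sum_boole]
    rw [show (Finset.univ.filter fun c => R c b) = Finset.univ.filter fun c => R b c from
      Finset.filter_congr fun c _ => ⟨hsym c b, hsym b c⟩, hdeg]
    norm_num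
  have hJJ : J * J = (55 : ℝ) • J := by
    ext a b
    simp [J, Matrix.mul_apply, hV]
  set c : ℝ := (l : ℝ) - m with hc
  set e : ℝ := 18 - (m : ℝ) with he
  have hepos : 0 < e := by
    have : (m : ℝ) ≤ 8 := by exact_mod_cast hm18
    rw [he]; linarith
  set d : ℝ := Real.sqrt (c ^ 2 + 4 * e) with hd
  have hd2 : d ^ 2 = c ^ 2 + 4 * e := Real.sq_sqrt (by positivity)
  have hd0 : d ≠ 0 := fun h => by rw [h] at hd2; nlinarith [sq_nonneg c]
  set s : ℝ := (c - d) / 2 with hs
  let E : Matrix V V ℝ := d⁻¹ • (A - ((18 : ℝ) / 55) • J - s • (1 - ((1 : ℝ) / 55) • J))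
  have hnum : (36 * (m : ℝ) + 18 * l = 306) := by exact_mod_cast hcount
  have hE : E * E = E := by
    simp only [E, sub_mul, mul_sub, smul_mul_assoc, mul_smul_comm, mul_one, one_mul, hAA, hAJ, hJA,
      hJJ, smul_smul, smul_sub, smul_add]
    match_scalars <;> field_simp <;> rw [hs, he, hc] at * <;> grind
  obtain ⟨k, hk, hkE⟩ := exists_trace_idempotent E hE
  have htr : E.trace = d⁻¹ * (-18 - s * 54) := by
    have hA0 : A.trace = 0 := by simp [A, Matrix.trace, hirr]
    have hJ0 : J.trace = 55 := by simp [J, Matrix.trace, hV]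
    simp only [E, Matrix.trace_smul, Matrix.trace_sub, Matrix.trace_one, hA0, hJ0, hV, smul_eq_mul]
    norm_num
  rw [htr, hs] at hkE
  have hk' : d * ((27 : ℝ) - k) = 18 + 27 * c := by
    field_simp at hkE
    linear_combination hkE / 2
  have hsq : ((c ^ 2 + 4 * e) * (27 - (k : ℝ)) ^ 2) = (18 + 27 * c) ^ 2 := by
    rw [← hd2, ← hk']; ring
  rw [hc, he] at hsq
  have hsqI : (((l : ℤ) - m) ^ 2 + 4 * (18 - m)) * (27 - k) ^ 2 = (18 + 27 * ((l : ℤ) - m)) ^ 2 := by
    exact_mod_cast hsq
  rw [hV] at hk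
  have key : ∀ m' : Fin 9, ∀ k' : Fin 56,
      ((((17 - 2 * m'.val : ℕ) : ℤ) - m'.val) ^ 2 + 4 * (18 - (m'.val : ℤ))) * (27 - (k'.val : ℤ)) ^ 2
        = (18 + 27 * (((17 - 2 * m'.val : ℕ) : ℤ) - m'.val)) ^ 2 → m'.val = 4 := by
    decide +kernel
  have hlm : l = 17 - 2 * m := by omega
  have := key ⟨m, by omega⟩ ⟨k, by omega⟩ (by rw [← hlm]; exact hsqI)
  simp only at this
  omega

/-! ### The neighbourhood of a vertex -/

/-- A group of order nine. -/
abbrev Z9 : Type := ZMod 3 × ZMod 3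

/-- The points of `Z9` in a list. -/
def z9 (i : Fin 9) : Z9 := ((i.val : ZMod 3), ((i.val / 3 : ℕ) : ZMod 3))

theorem z9_bij : Function.Bijective z9 := by decide +kernel

theorem local_check : ∀ D : Fin 9 → Bool,
    (D 0 = false ∧ ∀ i j : Fin 9, z9 i + z9 j = 0 → D i = D j) →
    (∃ i : Fin 9, i ≠ 0 ∧ D i = false) → ∀ C : Fin 9 → Bool,
      (Finset.univ.filter fun i => D i = true).card + (Finset.univ.filter fun i => C i = true).card = 9 →
      ∃ h : Fin 9, h ≠ 0 ∧ D h = false ∧ 4 ≤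
        (Finset.univ.filter fun i => D i = true ∧ ∀ j, z9 j + z9 h = z9 i → D j = true).card +
        (Finset.univ.filter fun i => C i = true ∧ ∀ j, z9 j + z9 h = z9 i → C j = true).card := by
  decide +kernel

theorem local_full (D C : Z9 → Prop) (h0 : ¬ D 0) (hD : ∀ z, D z → D (-z))
    (hdc : Nat.card {z // D z} + Nat.card {z // C z} = 9)
    (hb : ∀ h, h ≠ 0 → ¬ D h →
      Nat.card {z // D z ∧ D (z - h)} + Nat.card {z // C z ∧ C (z - h)} ≤ 3) :
    ∀ h, h ≠ 0 → D h := by
  classical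
  intro h hh
  by_contra hDh
  let e : Fin 9 ≃ Z9 := Equiv.ofBijective z9 z9_bij
  have hcnt : ∀ Q : Z9 → Prop,
      Nat.card {z // Q z} = (Finset.univ.filter fun i : Fin 9 => Q (z9 i)).card := by
    intro Q
    rw [← Nat.card_congr (e.subtypeEquiv (p := fun i => Q (z9 i)) (q := Q) fun i => Iff.rfl),
      Nat.card_eq_fintype_card, Fintype.card_subtype]
  have hne : ∀ i : Fin 9, i ≠ 0 → z9 i ≠ 0 := fun i hi e' =>
    hi (z9_bij.1 (e'.trans (by decide : (0 : Z9) = z9 0)))
  obtain ⟨i, hi⟩ := z9_bij.2 h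
  obtain ⟨h', hh', hDh', hcount⟩ := local_check (fun i => decide (D (z9 i)))
    ⟨by simpa using (show ¬ D (z9 0) from (show z9 0 = 0 by decide) ▸ h0), fun a b hab => by
      have ha : z9 b = -z9 a := eq_neg_of_add_eq_zero_right hab
      simp only [decide_eq_decide]
      exact ⟨fun h => ha ▸ hD _ h, fun h => by have := hD _ h; rwa [ha, neg_neg] at this⟩⟩
    ⟨i, fun e' => hh (by rw [← hi, e']; decide), by simpa [hi] using hDh⟩
    (fun i => decide (C (z9 i)))
    (by rw [hcnt D, hcnt C] at hdc; simpa using hdc)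
  have hle := hb (z9 h') (hne _ hh') (by simpa using hDh')
  rw [hcnt, hcnt] at hle
  have hsub : ∀ (Q : Z9 → Prop) (i : Fin 9),
      (Q (z9 i) ∧ ∀ j, z9 j + z9 h' = z9 i → Q (z9 j)) ↔ (Q (z9 i) ∧ Q (z9 i - z9 h')) := by
    intro Q i
    refine and_congr_right fun _ => ⟨fun hQ => ?_, fun hQ j hj => ?_⟩
    · obtain ⟨j, hj⟩ := z9_bij.2 (z9 i - z9 h')
      rw [← hj]
      exact hQ j (by rw [hj]; abel)
    · rwa [← hj, add_sub_cancel_right] at hQ
  simp only [decide_eq_true_eq] at hcount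
  rw [Finset.filter_congr fun i _ => hsub D i, Finset.filter_congr fun i _ => hsub C i] at hcount
  have e1 := hle
  rw [← not_lt] at hcount
  apply hcount
  refine lt_of_le_of_lt (le_of_eq ?_) (Nat.lt_succ_of_le hle)
  congr 1 <;> congr 1 <;> (ext j; simp only [Finset.mem_filter])

/-- The two halves of a neighbourhood are cliques and are matched. -/
theorem halves_clique {V : Type*} [Finite V] (R : V → V → Prop) (hsym : ∀ a b, R a b → R b a)
    (hirr : ∀ a, ¬ R a a) (v : V) (A B : Z9 → V) (hA : Function.Injective A)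
    (hB : Function.Injective B) (hAB : ∀ z w, A z ≠ B w)
    (hN : ∀ c, R v c ↔ (∃ z, A z = c) ∨ ∃ z, B z = c)
    (hTA : ∀ t z w, R (A (t + z)) (A (t + w)) ↔ R (A z) (A w))
    (hTB : ∀ t z w, R (A (t + z)) (B (t + w)) ↔ R (A z) (B w))
    (hl : ∀ b, R v b → Nat.card {c // R v c ∧ R c b} = 9)
    (hm : ∀ a b, a ≠ b → ¬ R a b → Nat.card {c // R a c ∧ R c b} = 4) :
    (∀ z w, z ≠ w → R (A z) (A w)) ∧ ∃ c₀, ∀ z w, R (A z) (B w) ↔ w = z + c₀ := by
  classical
  let D : Z9 → Prop := fun z => R (A 0) (A z)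
  let C : Z9 → Prop := fun z => R (A 0) (B z)
  have hDA : ∀ a z, R (A a) (A z) ↔ D (z - a) := fun a z => by
    have := hTA (-a) a z
    rw [neg_add_cancel, neg_add_eq_sub] at this
    exact this.symm
  have hCA : ∀ a z, R (A a) (B z) ↔ C (z - a) := fun a z => by
    have := hTB (-a) a z
    rw [neg_add_cancel, neg_add_eq_sub] at this
    exact this.symm
  have hDsym : ∀ z, D z → D (-z) := fun z hz => by
    have := (hDA z 0).1 (hsym _ _ hz)
    rwa [zero_sub] at this
  have hsum : Nat.card {z // D z} + Nat.card {z // C z} = 9 := by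
    rw [← hl (A 0) ((hN _).2 (Or.inl ⟨0, rfl⟩)), ← Nat.card_sum]
    refine Nat.card_congr (Equiv.ofBijective (Sum.elim
      (fun z => ⟨A z.1, (hN _).2 (Or.inl ⟨_, rfl⟩), hsym _ _ z.2⟩)
      (fun z => ⟨B z.1, (hN _).2 (Or.inr ⟨_, rfl⟩), hsym _ _ z.2⟩)) ⟨?_, ?_⟩)
    · rintro (⟨a, ha⟩ | ⟨a, ha⟩) (⟨b, hb⟩ | ⟨b, hb⟩) hab <;>
        simp only [Sum.elim_inl, Sum.elim_inr, Subtype.mk.injEq] at hab
      · exact congrArg Sum.inl (Subtype.ext (hA hab))
      · exact absurd hab (hAB _ _)
      · exact absurd hab.symm (hAB _ _)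
      · exact congrArg Sum.inr (Subtype.ext (hB hab))
    · rintro ⟨c, hc, hc'⟩
      rcases (hN c).1 hc with ⟨z, rfl⟩ | ⟨z, rfl⟩
      · exact ⟨Sum.inl ⟨z, hsym _ _ hc'⟩, rfl⟩
      · exact ⟨Sum.inr ⟨z, hsym _ _ hc'⟩, rfl⟩
  have hbound : ∀ h, h ≠ 0 → ¬ D h →
      Nat.card {z // D z ∧ D (z - h)} + Nat.card {z // C z ∧ C (z - h)} ≤ 3 := by
    intro h hh hDh
    have h4 := hm (A 0) (A h) (fun e => hh (hA e).symm) hDh
    have hv1 : R (A 0) v := hsym _ _ ((hN _).2 (Or.inl ⟨0, rfl⟩))
    have hv2 : R v (A h) := (hN _).2 (Or.inl ⟨h, rfl⟩)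
    have hinj := Nat.card_le_card_of_injective
      (α := ({z // D z ∧ D (z - h)} ⊕ {z // C z ∧ C (z - h)}) ⊕ Unit)
      (β := {c // R (A 0) c ∧ R c (A h)})
      (Sum.elim (Sum.elim
        (fun z => ⟨A z.1, z.2.1, hsym _ _ ((hDA h z.1).2 z.2.2)⟩)
        (fun z => ⟨B z.1, z.2.1, hsym _ _ ((hCA h z.1).2 z.2.2)⟩))
        (fun _ => ⟨v, hv1, hv2⟩)) (by
        have hvA : ∀ z, A z ≠ v := fun z e => hirr v ((hN v).2 (Or.inl ⟨z, e⟩))
        have hvB : ∀ z, B z ≠ v := fun z e => hirr v ((hN v).2 (Or.inr ⟨z, e⟩))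
        rintro ((⟨a, ha⟩ | ⟨a, ha⟩) | ⟨⟩) ((⟨b, hb⟩ | ⟨b, hb⟩) | ⟨⟩) hab <;>
          simp only [Sum.elim_inl, Sum.elim_inr, Subtype.mk.injEq] at hab
        · exact congrArg (fun x => Sum.inl (Sum.inl x)) (Subtype.ext (hA hab))
        · exact absurd hab (hAB _ _)
        · exact absurd hab (hvA _)
        · exact absurd hab.symm (hAB _ _)
        · exact congrArg (fun x => Sum.inl (Sum.inr x)) (Subtype.ext (hB hab))
        · exact absurd hab (hvB _)
        · exact absurd hab.symm (hvA _)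
        · exact absurd hab.symm (hvB _)
        · rfl)
    rw [Nat.card_sum, Nat.card_sum, h4, Nat.card_eq_fintype_card (α := Unit), Fintype.card_unit] at hinj
    omega
  have hfull := local_full D C (hirr _) hDsym hsum hbound
  refine ⟨fun z w hzw => (hDA z w).2 (hfull _ (sub_ne_zero.2 hzw.symm)), ?_⟩
  have hD8 : Nat.card {z // D z} = 8 := by
    rw [Nat.card_congr (Equiv.subtypeEquivRight (q := fun z : Z9 => z ≠ 0) fun z =>
      ⟨fun hz e => hirr _ (e ▸ hz : D 0), hfull z⟩)]
    rw [Nat.card_eq_fintype_card]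
    decide
  rw [hD8] at hsum
  obtain ⟨huniq, ⟨⟨c₀, hc₀⟩⟩⟩ :=
    Nat.card_eq_one_iff_unique.1 (show Nat.card {z // C z} = 1 by omega)
  refine ⟨c₀, fun z w => ⟨fun h => ?_, ?_⟩⟩
  · have h' : w - z = c₀ :=
      congrArg Subtype.val (@Subsingleton.elim _ huniq ⟨w - z, (hCA z w).1 h⟩ ⟨c₀, hc₀⟩)
    rw [← h']; abel
  · rintro rfl
    exact (hCA z _).2 (by rwa [add_sub_cancel_left])

end Cfsg.Agent.M11Unique99
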