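import Mathlib
import Cfsg.Agent.Lib.M11Unique99Char
import Cfsg.Agent.Lib.M11Unique99Srg
import Cfsg.Agent.Lib.M11Unique99S11

/-!
A simple group of order 7920 has a subgroup of index eleven, and any two such groups are isomorphic.
-/

set_option autoImplicit false
set_option linter.unusedSectionVars false

open scoped Pointwise ComplexConjugate

namespace Cfsg.Agent.M11Unique99

open Cfsg Cfsg.Agent.M11Order91 MulAction

/-! ### General lemmas -/

section General

variable {G : Type*} [Group G] {α : Type*} [MulAction G α]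

/-- The stabiliser of an ordered pair. -/
def pairStab (a b : α) : Subgroup G := stabilizer G a ⊓ stabilizer G b

theorem card_pairStab_smul (g : G) (a b : α) :
    Nat.card ↥(pairStab (G := G) (g • a) (g • b)) = Nat.card ↥(pairStab (G := G) a b) := by
  have e : pairStab (G := G) (g • a) (g • b) = (pairStab a b).map (MulAut.conj g).toMonoidHom := by
    rw [pairStab, pairStab, Subgroup.map_inf _ _ _ (MulAut.conj g).injective,
      stabilizer_smul_eq_stabilizer_map_conj, stabilizer_smul_eq_stabilizer_map_conj]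
  rw [e, ← Nat.card_congr (Subgroup.equivMapOfInjective _ _ (MulAut.conj g).injective).toEquiv]

/-- An orbit of a point stabiliser. -/
theorem card_orbit_mul_pairStab [Finite G] (a b : α) :
    Nat.card ↥(orbit (stabilizer G a) b) * Nat.card ↥(pairStab (G := G) a b) =
      Nat.card ↥(stabilizer G a) := by
  have h : Nat.card ↥(pairStab (G := G) a b) = Nat.card ↥(stabilizer (stabilizer G a) b) :=
    Nat.card_congr
      { toFun := fun g => ⟨⟨g.1, g.2.1⟩, g.2.2⟩
        invFun := fun g => ⟨g.1.1, g.1.2, g.2⟩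
        left_inv := fun _ => rfl
        right_inv := fun _ => rfl }
  rw [h, Nat.card_coe_set_eq, ← index_stabilizer, mul_comm, Subgroup.card_mul_index]

/-- A group acting freely on a stable set divides its order. -/
theorem card_dvd_of_free [Finite G] (s : Set α) [Finite s] (hs : ∀ (g : G), ∀ a ∈ s, g • a ∈ s)
    (hfree : ∀ (g : G), ∀ a ∈ s, g • a = a → g = 1) : Nat.card G ∣ Nat.card s := by
  classical
  let _ : MulAction G s :=
    { smul := fun g a => ⟨g • a.1, hs g a.1 a.2⟩
      one_smul := fun a => Subtype.ext (one_smul G a.1)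
      mul_smul := fun g h a => Subtype.ext (mul_smul g h a.1) }
  have : ∀ a : s, stabilizer G a = ⊥ := fun a => (Subgroup.eq_bot_iff_forall _).2 fun g hg =>
    hfree g a.1 a.2 (congrArg Subtype.val hg)
  rw [Nat.card_congr (selfEquivSigmaOrbitsQuotientStabilizer G s)]
  have hft : Fintype (orbitRel.Quotient G s) := Fintype.ofFinite _
  rw [Nat.card_sigma]
  refine Finset.dvd_sum fun q _ => ?_
  rw [this, Nat.card_congr (QuotientGroup.quotientBot).toEquiv]

end General

variable {G : Type*} [Group G] [Finite G] [IsSimpleGroup G] (hn : Nat.card G = 7920)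

/-! ### Sylow three subgroups -/

include hn in
theorem card_three (P : Sylow 3 G) : Nat.card ↥(P : Subgroup G) = 9 := by
  rw [P.card_eq_multiplicity, hn,
    show (7920 : ℕ) = 3 ^ 2 * 880 by norm_num,
    Nat.factorization_mul (by norm_num) (by norm_num), Finsupp.add_apply,
    Nat.Prime.factorization_pow (by norm_num), Finsupp.single_eq_same,
    Nat.factorization_eq_zero_of_not_dvd (by norm_num : ¬ 3 ∣ 880)]
  norm_num

include hn in
theorem three_comm (P : Sylow 3 G) {a b : G} (ha : a ∈ (P : Subgroup G)) (hb : b ∈ (P : Subgroup G)) :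
    a * b = b * a := by
  have h := IsPGroup.isMulCommutative_of_card_eq_prime_sq (p := 3) (G := ↥(P : Subgroup G))
    (by rw [card_three hn P]; norm_num)
  exact congrArg Subtype.val (h.is_comm.comm ⟨a, ha⟩ ⟨b, hb⟩)

include hn in
theorem sylow_le_centralizer (P : Sylow 3 G) {x : G} (hx : x ∈ (P : Subgroup G)) :
    (P : Subgroup G) ≤ Subgroup.centralizer ({x} : Set G) := fun a ha =>
  Subgroup.mem_centralizer_singleton_iff.2 (three_comm hn P ha hx)

include hn in
theorem card_centralizer_three {x : G} (hx : x ^ 3 = 1) (hx1 : x ≠ 1) :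
    Nat.card ↥(Subgroup.centralizer ({x} : Set G)) ∣ 18 := by
  set C := Subgroup.centralizer ({x} : Set G) with hC
  have hx3 : orderOf x = 3 := orderOf_eq_prime hx hx1
  obtain ⟨P, hP⟩ := (IsPGroup.of_card (G := ↥(Subgroup.zpowers x)) (p := 3) (n := 1)
    (by rw [Nat.card_zpowers, hx3, pow_one])).exists_le_sylow
  have h9 : 9 ∣ Nat.card ↥C :=
    card_three hn P ▸ Subgroup.card_dvd_of_le (sylow_le_centralizer hn P (hP (Subgroup.mem_zpowers x)))
  have h5 : ¬ 5 ∣ Nat.card ↥C := by
    intro h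
    obtain ⟨⟨y, hy⟩, hy5⟩ := exists_prime_orderOf_dvd_card' 5 h
    rw [Subgroup.orderOf_mk] at hy5
    obtain ⟨Q, hQ⟩ := (IsPGroup.of_card (G := ↥(Subgroup.zpowers y)) (p := 5) (n := 1)
      (by rw [Nat.card_zpowers, hy5, pow_one])).exists_le_sylow
    have hQe : Subgroup.zpowers y = (Q : Subgroup G) :=
      Subgroup.eq_of_le_of_card_ge hQ (by rw [card_five hn Q, Nat.card_zpowers, hy5])
    have hmem : x ∈ Subgroup.centralizer ((Q : Subgroup G) : Set G) := by
      rw [← hQe, Subgroup.zpowers_eq_closure, Subgroup.centralizer_closure,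
        Subgroup.mem_centralizer_singleton_iff]
      exact (Subgroup.mem_centralizer_singleton_iff.1 hy).symm
    have := Subgroup.orderOf_dvd_natCard _ hmem
    rw [(normalizer_five hn Q).2.1, hx3] at this
    norm_num at this
  have h11 : ¬ 11 ∣ Nat.card ↥C :=
    eleven_not_dvd_centralizer hn hx1 (by rw [hx3]; norm_num)
  have key : ∀ d ∈ List.range 881, 880 % d = 0 → d % 5 ≠ 0 → d % 11 ≠ 0 →
      d = 1 ∨ d = 2 ∨ d = 4 ∨ d = 8 ∨ d = 16 := by decide +kernel
  obtain ⟨d, hd⟩ := h9
  have hdvd : 9 * d ∣ 9 * 880 := by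
    rw [← hd]; exact (Subgroup.card_subgroup_dvd_card C).trans (by rw [hn])
  have hd880 : d ∣ 880 := Nat.dvd_of_mul_dvd_mul_left (by norm_num) hdvd
  rw [hd] at h5 h11
  rcases key d (List.mem_range.2 (by have := Nat.le_of_dvd (by norm_num) hd880; omega))
    (Nat.mod_eq_zero_of_dvd hd880) (fun h => h5 (Dvd.dvd.mul_left (Nat.dvd_of_mod_eq_zero h) 9))
    (fun h => h11 (Dvd.dvd.mul_left (Nat.dvd_of_mod_eq_zero h) 9)) with rfl | rfl | rfl | rfl | rfl
  · rw [hd]; norm_num
  · rw [hd]
  · exact absurd (centralizer_three_le hn hx (i := 2) (by norm_num) hd) (by norm_num)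
  · exact absurd (centralizer_three_le hn hx (i := 3) (by norm_num) hd) (by norm_num)
  · exact absurd (centralizer_three_le hn hx (i := 4) (by norm_num) hd) (by norm_num)

include hn in
theorem sylow_eq_of_common {P Q : Sylow 3 G} {a : G} (hP : a ∈ (P : Subgroup G))
    (hQ : a ∈ (Q : Subgroup G)) (ha : a ≠ 1) : P = Q := by
  obtain ⟨x, hxP, hxQ, hx3, hx1⟩ : ∃ x, x ∈ (P : Subgroup G) ∧ x ∈ (Q : Subgroup G) ∧ x ^ 3 = 1 ∧ x ≠ 1 := by
    by_cases h : a ^ 3 = 1
    · exact ⟨a, hP, hQ, h, ha⟩
    · refine ⟨a ^ 3, pow_mem hP 3, pow_mem hQ 3, ?_, h⟩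
      rw [← pow_mul]
      have := Subgroup.orderOf_dvd_natCard _ hP
      rw [card_three hn P] at this
      exact orderOf_dvd_iff_pow_eq_one.1 this
  set C := Subgroup.centralizer ({x} : Set G) with hC
  have hle := sylow_le_centralizer hn P hxP
  have hle' := sylow_le_centralizer hn Q hxQ
  have hidx : ((P : Subgroup G).subgroupOf C).index ∣ 2 := by
    have h := Subgroup.card_mul_index ((P : Subgroup G).subgroupOf C)
    rw [Nat.card_congr (Subgroup.subgroupOfEquivOfLe hle).toEquiv, card_three hn P] at h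
    have h18 := card_centralizer_three hn hx3 hx1
    rw [← hC, ← h] at h18
    exact Nat.dvd_of_mul_dvd_mul_left (by norm_num : 0 < 9) (by simpa using h18)
  have hnorm : ((P : Subgroup G).subgroupOf C).Normal := by
    rcases (Nat.dvd_prime Nat.prime_two).1 hidx with h | h
    · rw [Subgroup.index_eq_one.1 h]; infer_instance
    · exact Subgroup.normal_of_index_eq_two h
  let P' : Sylow 3 C := P.subtype hle
  let Q' : Sylow 3 C := Q.subtype hle'
  have hn' : ((P' : Sylow 3 C) : Subgroup C).Normal := hnorm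
  have := Sylow.unique_of_normal P' hn'
  have e : (P' : Sylow 3 C) = Q' := Subsingleton.elim _ _
  exact Sylow.subtype_injective e

include hn in
theorem fixed_eq {P Q : Sylow 3 G} {p : G} (hp : p ∈ (P : Subgroup G)) (hp1 : p ≠ 1)
    (hfix : p • Q = Q) : Q = P := by
  have h : p ∈ (P : Subgroup G) ⊓ Subgroup.normalizer (Q : Set G) :=
    ⟨hp, Sylow.smul_eq_iff_mem_normalizer.1 hfix⟩
  rw [P.isPGroup'.inf_normalizer_sylow] at h
  exact sylow_eq_of_common hn h.2 hp hp1

include hn in
theorem card_sylow_three : Nat.card (Sylow 3 G) = 55 := by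
  classical
  obtain ⟨P⟩ : Nonempty (Sylow 3 G) := inferInstance
  have h9 : 9 ∣ Nat.card ({Q : Sylow 3 G | Q ≠ P} : Set (Sylow 3 G)) := by
    have h := card_dvd_of_free (G := ↥(P : Subgroup G)) ({Q : Sylow 3 G | Q ≠ P})
      (fun g Q hQ e => hQ (by
        have hgP : (g : G) • P = P :=
          Sylow.smul_eq_iff_mem_normalizer.2 (Subgroup.le_normalizer g.2)
        exact smul_left_cancel (g : G) ((show (g : G) • Q = P from e).trans hgP.symm)))
      (fun g Q hQ e => by
        by_contra hg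
        exact hQ (fixed_eq hn g.2 (fun h => hg (Subtype.ext h)) e))
    rwa [card_three hn P] at h
  rw [Nat.card_coe_set_eq] at h9
  have hc : ({Q : Sylow 3 G | Q ≠ P} : Set (Sylow 3 G)).ncard = Nat.card (Sylow 3 G) - 1 := by
    rw [show {Q : Sylow 3 G | Q ≠ P} = ({P} : Set (Sylow 3 G))ᶜ from rfl, Set.ncard_compl,
      Set.ncard_singleton]
  rw [hc] at h9
  have hdvd : Nat.card (Sylow 3 G) ∣ 880 := by
    have h := P.card_dvd_index
    have e := Subgroup.index_mul_card (P : Subgroup G)
    rw [hn, card_three hn P] at e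
    rwa [show (P : Subgroup G).index = 880 by omega] at h
  have hbig : ∀ H : Subgroup G, H ≠ ⊤ → ¬ H.index ≤ 10 := by
    intro H hH hle
    have hinj : Function.Injective (MulAction.toPermHom G (G ⧸ H)) := by
      rw [← MonoidHom.ker_eq_bot_iff, ← Subgroup.normalCore_eq_ker]
      exact (IsSimpleGroup.eq_bot_or_eq_top_of_normal _ inferInstance).resolve_right fun e =>
        hH (top_le_iff.1 (e ▸ Subgroup.normalCore_le H))
    have h1 := Subgroup.card_dvd_of_injective _ hinj
    rw [Nat.card_perm, hn, ← Subgroup.index] at h1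
    interval_cases H.index <;> norm_num [Nat.factorial] at h1
  have hN : Subgroup.normalizer (P : Set G) ≠ ⊤ :=
    SimpleOrder.normalizer_ne_top (M11Order91.not_comm hn) (by rw [hn]; norm_num) P
  have h10 := hbig _ hN
  rw [← P.card_eq_index_normalizer] at h10
  have hpos : 0 < Nat.card (Sylow 3 G) := Nat.card_pos
  have key : ∀ d ∈ List.range 881, 880 % d = 0 → 10 < d → (d - 1) % 9 = 0 → d = 55 := by
    decide +kernel
  exact key _ (List.mem_range.2 (by have := Nat.le_of_dvd (by norm_num) hdvd; omega))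
    (Nat.mod_eq_zero_of_dvd hdvd) (by omega) (Nat.mod_eq_zero_of_dvd h9)

include hn in
theorem card_stab (P : Sylow 3 G) : Nat.card ↥(stabilizer G P) = 144 := by
  have h := Subgroup.index_mul_card (stabilizer G P)
  rw [index_stabilizer_of_transitive, card_sylow_three hn, hn] at h
  omega

theorem mem_stab_of_mem (P : Sylow 3 G) {p : G} (hp : p ∈ (P : Subgroup G)) : p ∈ stabilizer G P :=
  Sylow.smul_eq_iff_mem_normalizer.2 (Subgroup.le_normalizer hp)

include hn in
theorem centralizer_le_stab (P : Sylow 3 G) {x : G} (hx : x ∈ (P : Subgroup G)) (hx1 : x ≠ 1)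
    {c : G} (hc : c ∈ Subgroup.centralizer ({x} : Set G)) : c ∈ stabilizer G P := by
  refine sylow_eq_of_common hn ?_ hx hx1
  show x ∈ MulAut.conj c • (P : Subgroup G)
  refine ⟨x, hx, ?_⟩
  show c * x * c⁻¹ = x
  rw [Subgroup.mem_centralizer_singleton_iff.1 hc, mul_inv_cancel_right]

include hn in
theorem conj_all (P : Sylow 3 G) {x : G} (hx : x ∈ (P : Subgroup G)) (hx3 : x ^ 3 = 1) (hx1 : x ≠ 1) :
    Nat.card ↥(Subgroup.centralizer ({x} : Set G)) = 18 ∧
      ∀ y ∈ (P : Subgroup G), y ≠ 1 → IsConj x y := by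
  classical
  let K := stabilizer G P
  let f : K → {y : ↥(P : Subgroup G) // y ≠ 1} := fun k => ⟨⟨k * x * (k : G)⁻¹, by
    have h : (k : G) • P = P := k.2
    exact (Subgroup.mem_normalizer_iff.1 (Sylow.smul_eq_iff_mem_normalizer.1 h) x).1 hx⟩,
    fun e => hx1 (conj_eq_one_iff.1 (congrArg Subtype.val e))⟩
  have h8 : Nat.card {y : ↥(P : Subgroup G) // y ≠ 1} = 8 := by
    have : Fintype ↥(P : Subgroup G) := Fintype.ofFinite _
    rw [Nat.card_eq_fintype_card, Fintype.card_subtype_compl, Fintype.card_subtype_eq,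
      ← Nat.card_eq_fintype_card, card_three hn P]
  let sel : Set.range f → K := fun y => y.2.choose
  have hsel : ∀ y, f (sel y) = y.1 := fun y => y.2.choose_spec
  let Ψ : K → Set.range f × ↥(Subgroup.centralizer ({x} : Set G)) := fun k =>
    (⟨f k, k, rfl⟩, ⟨(sel ⟨f k, k, rfl⟩ : G)⁻¹ * k, by
      have h := hsel ⟨f k, k, rfl⟩
      generalize sel ⟨f k, k, rfl⟩ = r at h ⊢
      have e : (r : G) * x * (r : G)⁻¹ = (k : G) * x * (k : G)⁻¹ :=
        congrArg (fun z => ((z : {y : ↥(P : Subgroup G) // y ≠ 1}).1 : G)) h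
      rw [Subgroup.mem_centralizer_singleton_iff]
      calc (r : G)⁻¹ * k * x = (r : G)⁻¹ * ((k : G) * x * (k : G)⁻¹) * k := by group
        _ = (r : G)⁻¹ * ((r : G) * x * (r : G)⁻¹) * k := by rw [e]
        _ = x * ((r : G)⁻¹ * k) := by group⟩)
  have hΨ : Function.Injective Ψ := by
    intro a b h
    have e1 : (⟨f a, a, rfl⟩ : Set.range f) = ⟨f b, b, rfl⟩ := congrArg Prod.fst h
    have e2 : (sel ⟨f a, a, rfl⟩ : G)⁻¹ * a = (sel ⟨f b, b, rfl⟩ : G)⁻¹ * b :=
      congrArg (fun w : Set.range f × ↥(Subgroup.centralizer ({x} : Set G)) => (w.2 : G)) h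
    rw [e1] at e2
    exact Subtype.ext (mul_left_cancel e2)
  have h144 := Nat.card_le_card_of_injective Ψ hΨ
  rw [Nat.card_prod, card_stab hn P] at h144
  have hle : Nat.card (Set.range f) ≤ 8 :=
    (Nat.card_le_card_of_injective _ Subtype.val_injective).trans h8.le
  have h18 := Nat.le_of_dvd (by norm_num) (card_centralizer_three hn hx3 hx1)
  have hC : Nat.card ↥(Subgroup.centralizer ({x} : Set G)) = 18 ∧ Nat.card (Set.range f) = 8 := by
    constructor <;> nlinarith
  refine ⟨hC.1, fun y hy hy1 => ?_⟩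
  have hsurj : Set.range f = Set.univ := by
    refine Set.eq_of_subset_of_ncard_le (Set.subset_univ _) ?_
    rw [Set.ncard_univ, h8, ← Nat.card_coe_set_eq, hC.2]
  obtain ⟨k, hk⟩ : (⟨⟨y, hy⟩, fun e => hy1 (congrArg Subtype.val e)⟩ :
      {y : ↥(P : Subgroup G) // y ≠ 1}) ∈ Set.range f := hsurj ▸ Set.mem_univ _
  exact isConj_iff.2 ⟨k, congrArg (fun z => ((z : {y : ↥(P : Subgroup G) // y ≠ 1}).1 : G)) hk⟩

include hn in
theorem exponent_three (P : Sylow 3 G) {y : G} (hy : y ∈ (P : Subgroup G)) : y ^ 3 = 1 := by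
  by_cases hy1 : y = 1
  · rw [hy1, one_pow]
  obtain ⟨⟨x, hx⟩, hx3⟩ := exists_prime_orderOf_dvd_card' 3 (G := ↥(P : Subgroup G))
    (by rw [card_three hn P]; norm_num)
  rw [Subgroup.orderOf_mk] at hx3
  have h1 : x ≠ 1 := fun e => by rw [e, orderOf_one] at hx3; norm_num at hx3
  obtain ⟨c, hc⟩ := isConj_iff.1 ((conj_all hn P hx (hx3 ▸ pow_orderOf_eq_one x) h1).2 y hy hy1)
  rw [← hc, conj_pow, ← hx3, pow_orderOf_eq_one, mul_one, mul_inv_cancel]

/-! ### The values at an element of order three and the rank -/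

theorem val_arith (x1 x2 x3 x4 x5 x6 x7 x8 x9 : ℤ) (m1 : 3 ∣ x1 - 10) (m2 : 3 ∣ x2 - 10) (m3 : 3 ∣ x3 - 10)
    (m4 : 3 ∣ x4 - 11) (m5 : 3 ∣ x5 - 16) (m6 : 3 ∣ x6 - 16) (m7 : 3 ∣ x7 - 44) (m8 : 3 ∣ x8 - 45)
    (m9 : 3 ∣ x9 - 55) (e5 : x5 % 2 = 0) (e6 : x6 % 2 = 0)
    (hsq : 1 + (x1 * x1 + (x2 * x2 + (x3 * x3 + (x4 * x4 + (x5 * x5 + (x6 * x6 + (x7 * x7 +
      (x8 * x8 + x9 * x9)))))))) = 18)
    (horth : 1 + (x1 * 10 + (x2 * 10 + (x3 * 10 + (x4 * 11 + (x5 * 16 + (x6 * 16 + (x7 * 44 +
      (x8 * 45 + x9 * 55)))))))) = 0) :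
    x1 = 1 ∧ x2 = 1 ∧ x3 = 1 ∧ x4 = 2 ∧ x5 = -2 ∧ x6 = -2 ∧ x7 = -1 ∧ x8 = 0 ∧ x9 = 1 := by
  have hb : ∀ a : ℤ, a % 3 ≠ 0 → 1 ≤ a * a := fun a ha => by
    rcases lt_or_ge a 0 with h | h
    · nlinarith
    · nlinarith [show 1 ≤ a by omega]
  have hb2 : ∀ a : ℤ, a % 3 ≠ 0 → a % 2 = 0 → 4 ≤ a * a := fun a ha h2 => by
    rcases lt_or_ge a 0 with h | h
    · nlinarith [show a ≤ -2 by omega]
    · nlinarith [show 2 ≤ a by omega]
  have hbd : ∀ a : ℤ, a * a ≤ 8 → -2 ≤ a ∧ a ≤ 2 := fun a ha => by constructor <;> nlinarith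
  have b1 := hb x1 (by omega); have b2 := hb (x2) (by omega); have b3 := hb (x3) (by omega)
  have b4 := hb (x4) (by omega); have b7 := hb (x7) (by omega); have b9 := hb (x9) (by omega)
  have b5 := hb2 (x5) (by omega) e5; have b6 := hb2 (x6) (by omega) e6
  have b8 := mul_self_nonneg (x8)
  have g1 : x1 = 1 ∨ x1 = -2 := by
    have := hbd x1 (by linarith)
    omega
  have g2 : x2 = 1 ∨ x2 = -2 := by
    have := hbd (x2) (by linarith)
    omega
  have g3 : x3 = 1 ∨ x3 = -2 := by
    have := hbd (x3) (by linarith)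
    omega
  have g4 : x4 = -1 ∨ x4 = 2 := by
    have := hbd (x4) (by linarith)
    omega
  have g7 : x7 = -1 ∨ x7 = 2 := by
    have := hbd (x7) (by linarith)
    omega
  have g9 : x9 = 1 ∨ x9 = -2 := by
    have := hbd (x9) (by linarith)
    omega
  have g5 : x5 = -2 := by
    have := hbd (x5) (by linarith)
    omega
  have g6 : x6 = -2 := by
    have := hbd (x6) (by linarith)
    omega
  have g8 : x8 = 0 := by
    have := hbd (x8) (by linarith)
    omega
  have key : x1 = 1 ∧ x2 = 1 ∧ x3 = 1 ∧ x4 = 2 ∧ x7 = -1 ∧ x9 = 1 := by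
    rw [g5, g6, g8] at hsq horth
    rcases g1 with e1 | e1 <;> rcases g2 with e2 | e2 <;> rcases g3 with e3 | e3 <;>
      rcases g4 with e4 | e4 <;> rcases g7 with e7 | e7 <;> rcases g9 with e9 | e9 <;>
      rw [e1, e2, e3, e4, e7, e9] at hsq horth ⊢ <;> omega
  obtain ⟨k1, k2, k3, k4, k7, k9⟩ := key
  exact ⟨k1, k2, k3, k4, g5, g6, k7, g8, k9⟩

include hn in
theorem values_three {P : Sylow 3 G} {x : G} (hx : x ∈ (P : Subgroup G)) (hx1 : x ≠ 1)
    (u : Fin 10 ≃ IrrCharacter G) (hu : ∀ i, charDegree (u i : G → ℂ) = degs i) :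
    ∀ j, (u j : G → ℂ) x = ((![1, 1, 1, 1, 2, -2, -2, -1, 0, 1] : Fin 10 → ℤ) j : ℂ) := by
  classical
  have : Fintype G := Fintype.ofFinite G
  have hx3 := exponent_three hn P hx
  obtain ⟨hC, hconj⟩ := conj_all hn P hx hx3 hx1
  have hinv : IsConj x x⁻¹ := hconj _ (inv_mem hx) (inv_ne_one.2 hx1)
  choose v hv hmod using fun j => value_three_real (u j) hx3 hinv
  have hsq : ∑ j, v j * v j = 18 := by
    have h := CharBasicOrth.sum_irr_mul_conj x x
    rw [if_pos (IsConj.refl x), sum_chars u, hC] at h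
    simp only [hv, map_intCast] at h
    exact_mod_cast h
  have horth : ∑ j, v j * (degs j : ℤ) = 0 := by
    have h := CharBasicOrth.sum_irr_mul_conj x 1
    rw [if_neg (fun h => hx1 (isConj_one_left.1 h)), sum_chars u] at h
    simp only [hv, ClassAlgebraVal.apply_one_eq_charDegree, map_natCast, hu] at h
    exact_mod_cast h
  have h1 : v 0 = 1 := by
    have h : (v 0 : ℂ) = 1 := by
      rw [← hv]
      exact congrFun (DihedralStar68.linear_eq_one (M11Order91.not_comm hn) (u 0)
        (by rw [ClassAlgebraVal.apply_one_eq_charDegree, hu]; simp [degs])) x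
    exact_mod_cast h
  have heven : ∀ j, degs j = 16 → (v j) % 2 = 0 := by
    intro j hj
    obtain ⟨N, hN⟩ := Int.eq_ofNat_of_zero_le (mul_self_nonneg (v j))
    have h4 : 4 ^ 1 ∣ N := sixteen_dvd hn hx3 (by norm_num) (by rw [hC]; norm_num) (u j)
      (by rw [hu, hj]) N (by rw [hv, map_intCast, ← Int.cast_mul, hN, Int.cast_natCast])
    obtain ⟨k, rfl⟩ := h4
    have he : Even (v j * v j) := ⟨2 * k, by rw [hN]; push_cast; ring⟩
    exact Int.even_iff.1 (by simpa using (Int.even_mul.1 he))
  simp only [hu] at hmod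
  simp [Fin.sum_univ_succ, degs] at hsq horth
  have m1 := hmod 1; have m2 := hmod 2; have m3 := hmod 3; have m4 := hmod 4
  have m5 := hmod 5; have m6 := hmod 6; have m7 := hmod 7; have m8 := hmod 8; have m9 := hmod 9
  have e5 := heven 5 (by simp [degs]); have e6 := heven 6 (by simp [degs])
  simp [degs] at m1 m2 m3 m4 m5 m6 m7 m8 m9
  rw [h1, one_mul] at hsq
  rw [h1] at horth
  obtain ⟨k1, k2, k3, k4, g5, g6, k7, g8, k9⟩ := val_arith _ _ _ _ _ _ _ _ _ m1 m2 m3 m4 m5 m6 m7 m8
    m9 e5 e6 hsq horth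
  intro j
  rw [hv]
  fin_cases j <;> simp [h1, k1, k2, k3, k4, g5, g6, k7, g8, k9]

include hn in
/-- Burnside: at most seven orbits of the stabiliser force three or seven. -/
theorem rank_cases (P : Sylow 3 G)
    (hle : Nat.card (orbitRel.Quotient (stabilizer G P) (Sylow 3 G)) ≤ 7) :
    Nat.card (orbitRel.Quotient (stabilizer G P) (Sylow 3 G)) = 3 ∨
      Nat.card (orbitRel.Quotient (stabilizer G P) (Sylow 3 G)) = 7 := by
  classical
  have : Fintype G := Fintype.ofFinite G
  obtain ⟨⟨x, hx⟩, hx3⟩ := exists_prime_orderOf_dvd_card' 3 (G := ↥(P : Subgroup G))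
    (by rw [card_three hn P]; norm_num)
  rw [Subgroup.orderOf_mk] at hx3
  have hx1 : x ≠ 1 := fun e => by rw [e, orderOf_one] at hx3; norm_num at hx3
  obtain ⟨u, hu⟩ := exists_chars hn
  obtain ⟨m, hm, hπ⟩ := CharBasicDecomp.exists_mult (CharBasicPerm.isCharacter_fixedBy (G := G) (Sylow 3 G))
  have heval : ∀ g : G, (Nat.card (fixedBy (Sylow 3 G) g) : ℂ) = ∑ j, (m (u j) : ℂ) * (u j : G → ℂ) g := by
    intro g
    have := congrFun hπ g
    rw [this, Finset.sum_apply, sum_chars u]
    rfl
  have hdeg : ∑ j, m (u j) * degs j = 55 := by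
    have h := heval 1
    simp only [ClassAlgebraVal.apply_one_eq_charDegree, hu, fixedBy_one_eq_univ, Nat.card_univ,
      card_sylow_three hn, ← Nat.cast_mul, ← Nat.cast_sum] at h
    exact_mod_cast h.symm
  have hval : ∑ j, (m (u j) : ℤ) * (![1, 1, 1, 1, 2, -2, -2, -1, 0, 1] : Fin 10 → ℤ) j = 1 := by
    have h := heval x
    have hfix : fixedBy (Sylow 3 G) x = {P} := by
      ext Q
      simp only [mem_fixedBy, Set.mem_singleton_iff]
      exact ⟨fixed_eq hn hx hx1, fun e => e ▸ mem_stab_of_mem P hx⟩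
    rw [hfix, Nat.card_coe_set_eq, Set.ncard_singleton] at h
    simp only [values_three hn hx hx1 u hu] at h
    exact_mod_cast h.symm
  have h0 : m (u 0) = 1 := by
    have h := hm (u 0)
    rw [show (u 0 : G → ℂ) = fun _ => 1 from by
      funext g
      exact congrFun (DihedralStar68.linear_eq_one (M11Order91.not_comm hn) (u 0)
        (by rw [ClassAlgebraVal.apply_one_eq_charDegree, hu]; simp [degs])) g,
      CharBasicPerm.classInner_fixedBy_one] at h
    have h1 : Nat.card (orbitRel.Quotient G (Sylow 3 G)) = 1 := by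
      rw [Nat.card_eq_one_iff_unique]
      exact ⟨(pretransitive_iff_subsingleton_quotient G (Sylow 3 G)).1 inferInstance,
        ⟨Quotient.mk'' P⟩⟩
    rw [h1] at h
    exact_mod_cast h.symm
  have hsq : ∑ j, m (u j) * m (u j) = Nat.card (orbitRel.Quotient (stabilizer G P) (Sylow 3 G)) := by
    have hq : Nat.card (orbitRel.Quotient (stabilizer G P) (Sylow 3 G)) = Nat.card (orbitRel.Quotient G ((Sylow 3 G) × (Sylow 3 G))) := by
      refine Nat.card_congr (Equiv.ofBijective
        (Quotient.lift (fun w => (Quotient.mk'' (P, w) : orbitRel.Quotient G ((Sylow 3 G) × (Sylow 3 G)))) ?_) ⟨?_, ?_⟩)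
      · rintro a b ⟨k, rfl⟩
        refine Quotient.sound' ⟨(k : G), ?_⟩
        exact Prod.ext k.2 rfl
      · intro a b
        refine Quotient.inductionOn₂ a b fun a b h => ?_
        obtain ⟨g, hg⟩ := Quotient.exact' h
        simp only [Prod.smul_mk, Prod.mk.injEq] at hg
        exact Quotient.sound ⟨⟨g, hg.1⟩, hg.2⟩
      · intro q
        induction q using Quotient.inductionOn' with
        | h p =>
          obtain ⟨g, hg⟩ := exists_smul_eq G p.1 P
          exact ⟨Quotient.mk'' (g • p.2), Quotient.sound' ⟨g, Prod.ext hg rfl⟩⟩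
    rw [hq]
    have h := CharBasicPerm.classInner_fixedBy_self (G := G) (Sylow 3 G)
    nth_rewrite 1 [hπ] at h
    rw [CharBasicOrth.classInner_sum_left, sum_chars u] at h
    simp only [CharBasicOrth.classInner_smul_left] at h
    have hm' : ∀ j, Cfsg.classInner (u j : G → ℂ) (fun g => (Nat.card (fixedBy (Sylow 3 G) g) : ℂ)) = m (u j) := by
      intro j
      rw [← CharBasicOrth.conj_classInner, hm, map_natCast]
    simp only [hm', ← Nat.cast_mul, ← Nat.cast_sum] at h
    exact_mod_cast h
  rw [← hsq] at hle ⊢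
  simp [Fin.sum_univ_succ, degs, h0] at hdeg hval hle ⊢
  have hb : ∀ a : ℕ, a * a ≤ 6 → a ≤ 2 := fun a ha => by
    by_contra hc
    have := Nat.mul_le_mul (Nat.lt_of_not_ge hc) (Nat.lt_of_not_ge hc)
    omega
  have key : ∀ a b c d e f g h i : Fin 3,
      (1 : ℤ) + (a.val + (b.val + (c.val + (2 * d.val + (-2 * e.val + (-2 * f.val + (-g.val + i.val))))))) = 1 →
      1 + (10 * a.val + (10 * b.val + (10 * c.val + (11 * d.val + (16 * e.val + (16 * f.val +
        (44 * g.val + (45 * h.val + 55 * i.val)))))))) = 55 →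
      (a.val * a.val + b.val * b.val + c.val * c.val + d.val * d.val + e.val * e.val + f.val * f.val
        + g.val * g.val + h.val * h.val + i.val * i.val = 2 ∨
      a.val * a.val + b.val * b.val + c.val * c.val + d.val * d.val + e.val * e.val + f.val * f.val
        + g.val * g.val + h.val * h.val + i.val * i.val = 6 ∨
      6 < a.val * a.val + b.val * b.val + c.val * c.val + d.val * d.val + e.val * e.val + f.val * f.val
        + g.val * g.val + h.val * h.val + i.val * i.val) := by
    decide +kernel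
  have b1 := hb (m (u 1)) (by omega); have b2 := hb (m (u 2)) (by omega)
  have b3 := hb (m (u 3)) (by omega); have b4 := hb (m (u 4)) (by omega)
  have b5 := hb (m (u 5)) (by omega); have b6 := hb (m (u 6)) (by omega)
  have b7 := hb (m (u 7)) (by omega); have b8 := hb (m (u 8)) (by omega)
  have b9 := hb (m (u 9)) (by omega)
  have hk := key ⟨m (u 1), by omega⟩ ⟨m (u 2), by omega⟩ ⟨m (u 3), by omega⟩ ⟨m (u 4), by omega⟩
    ⟨m (u 5), by omega⟩ ⟨m (u 6), by omega⟩ ⟨m (u 7), by omega⟩ ⟨m (u 8), by omega⟩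
    ⟨m (u 9), by omega⟩
  simp only [] at hk
  have := hk (by linarith) (by linarith)
  omega

/-! ### The orbits of a stabiliser -/

include hn in
theorem orbit_nine {P Q : Sylow 3 G} (hQ : Q ≠ P) : 9 ∣ Nat.card ↥(orbit (stabilizer G P) Q) := by
  have h := card_dvd_of_free (G := ↥(P : Subgroup G)) (orbit (stabilizer G P) Q)
    (fun g R hR => by
      obtain ⟨k, rfl⟩ := hR
      exact ⟨⟨g, mem_stab_of_mem P g.2⟩ * k, mul_smul _ _ _⟩)
    (fun g R hR e => by
      by_contra hg
      have hRP := fixed_eq hn g.2 (fun h => hg (Subtype.ext h)) e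
      obtain ⟨k, hk⟩ := hR
      apply hQ
      have hk' : (k : G) • Q = P := hk.trans hRP
      exact smul_left_cancel (k : G) (hk'.trans (k.2 : (k : G) • P = P).symm))
  rwa [card_three hn P] at h

theorem orbit_self (P : Sylow 3 G) : orbit (stabilizer G P) P = {P} := by
  ext R
  exact ⟨fun ⟨k, hk⟩ => hk ▸ k.2, fun h => h ▸ mem_orbit_self _⟩

include hn in
theorem no_seven (P : Sylow 3 G) (T : Subgroup G) (hT : Nat.card ↥T = 16)
    (hTK : T ≤ stabilizer G P)
    (h : Nat.card (orbitRel.Quotient (stabilizer G P) (Sylow 3 G)) = 7)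
    (h9 : ∀ Q : Sylow 3 G, Q ≠ P → Nat.card ↥(orbit (stabilizer G P) Q) = 9) : False := by
  classical
  have : Fact (Nat.Prime 2) := ⟨Nat.prime_two⟩
  let K := stabilizer G P
  let X := Sylow 3 G
  let F : Set X := {Q | ∀ t ∈ T, t • Q = Q}
  have hT2 : IsPGroup 2 ↥T := IsPGroup.of_card (n := 4) (by rw [hT]; norm_num)
  have hconjK : ∀ S : Subgroup G, Nat.card ↥S = 16 → S ≤ stabilizer G P →
      ∃ k ∈ stabilizer G P, ∀ a, a ∈ T ↔ k * a * k⁻¹ ∈ S := by
    intro S hS hSK
    have hc : ∀ U : Subgroup G, Nat.card ↥U = 16 → U ≤ stabilizer G P →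
        Nat.card ↥(U.subgroupOf K) = 2 ^ (Nat.card K).factorization 2 := fun U hU hUK => by
      rw [Nat.card_congr (Subgroup.subgroupOfEquivOfLe hUK).toEquiv, hU, card_stab hn P,
        show (144 : ℕ) = 2 ^ 4 * 9 by norm_num, Nat.factorization_mul (by norm_num) (by norm_num),
        Finsupp.add_apply, Nat.Prime.factorization_pow Nat.prime_two, Finsupp.single_eq_same,
        Nat.factorization_eq_zero_of_not_dvd (by norm_num : ¬ 2 ∣ 9)]
      norm_num
    obtain ⟨k, hk⟩ := exists_smul_eq K (Sylow.ofCard _ (hc T hT hTK)) (Sylow.ofCard _ (hc S hS hSK))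
    refine ⟨k, k.2, fun a => ?_⟩
    have hk' : MulAut.conj k • (T.subgroupOf K) = S.subgroupOf K := by
      have := congrArg (fun R : Sylow 2 K => (R : Subgroup K)) hk
      simpa [Sylow.coe_subgroup_smul] using this
    constructor
    · intro ha
      have := Subgroup.smul_mem_pointwise_smul (⟨a, hTK ha⟩ : K) (MulAut.conj k) _
        (show (⟨a, hTK ha⟩ : K) ∈ T.subgroupOf K from ha)
      rw [hk'] at this
      exact this
    · intro ha
      have haK : a ∈ K := by
        have := mul_mem (mul_mem (inv_mem k.2) (hSK ha)) k.2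
        simpa [mul_assoc] using this
      have : MulAut.conj k • (⟨a, haK⟩ : K) ∈ MulAut.conj k • (T.subgroupOf K) := by
        rw [hk']; exact ha
      exact (Subgroup.smul_mem_pointwise_smul_iff.1 this : (⟨a, haK⟩ : K) ∈ T.subgroupOf K)
  have hfix : ∀ Q : X, ∃ R ∈ F, R ∈ orbit K Q := by
    intro Q
    by_cases hQ : Q = P
    · exact ⟨P, fun t ht => hTK ht, hQ ▸ mem_orbit_self _⟩
    · have hc : Nat.card ↥(pairStab (G := G) P Q) = 16 := by
        have := card_orbit_mul_pairStab (G := G) P Q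
        rw [h9 Q hQ, card_stab hn P] at this
        omega
      obtain ⟨k, hk, hiff⟩ := hconjK _ hc inf_le_left
      refine ⟨k⁻¹ • Q, fun t ht => ?_, ⟨⟨k⁻¹, inv_mem hk⟩, rfl⟩⟩
      have h2 : (k * t * k⁻¹) • Q = Q := ((hiff t).1 ht).2
      calc t • k⁻¹ • Q = k⁻¹ • ((k * t * k⁻¹) • Q) := by simp [mul_smul]
        _ = k⁻¹ • Q := by rw [h2]
  have huniq : ∀ Q R : X, Q ∈ F → R ∈ F → R ∈ orbit K Q → R = Q := by
    intro Q R hQF hRF hR
    by_cases hQ : Q = P
    · subst hQ
      rw [orbit_self] at hR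
      exact hR
    · let f : ↥(P : Subgroup G) → orbit K Q := fun p =>
        ⟨(p : G) • Q, ⟨⟨p, mem_stab_of_mem P p.2⟩, rfl⟩⟩
      have hf : Function.Injective f := by
        intro a b e
        have e' : (a : G) • Q = (b : G) • Q := congrArg Subtype.val e
        by_contra hab
        refine hQ (fixed_eq hn (mul_mem (inv_mem b.2) a.2)
          (fun h1 => hab (Subtype.ext (inv_mul_eq_one.1 h1).symm)) ?_)
        rw [mul_smul, e', inv_smul_smul]
      obtain ⟨p, hp⟩ := (Function.Injective.bijective_of_nat_card_le hf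
        (by rw [h9 Q hQ, card_three hn P])).2 ⟨R, hR⟩
      have hpR : (p : G) • Q = R := congrArg Subtype.val hp
      have hcQ : Nat.card ↥(pairStab (G := G) P Q) = 16 := by
        have := card_orbit_mul_pairStab (G := G) P Q
        rw [h9 Q hQ, card_stab hn P] at this
        omega
      have hTe : T = pairStab P Q :=
        Subgroup.eq_of_le_of_card_ge (fun t ht => ⟨hTK ht, hQF t ht⟩) (by rw [hcQ, hT])
      have hnorm : ∀ t ∈ T, (p : G)⁻¹ * t * p ∈ T := by
        intro t ht
        rw [hTe]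
        refine Subgroup.mem_inf.2
          ⟨mul_mem (mul_mem (inv_mem (mem_stab_of_mem P p.2)) (hTK ht)) (mem_stab_of_mem P p.2), ?_⟩
        show ((p : G)⁻¹ * t * p) • Q = Q
        rw [mul_smul, hpR, mul_smul, hRF t ht, ← hpR, inv_smul_smul]
      have hcent : T ≤ Subgroup.centralizer ({(p : G)} : Set G) := by
        intro t ht
        rw [Subgroup.mem_centralizer_singleton_iff]
        have hTP : t⁻¹ * ((p : G)⁻¹ * t * p) = 1 := by
          have h1 : t⁻¹ * ((p : G)⁻¹ * t * p) ∈ T := mul_mem (inv_mem ht) (hnorm t ht)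
          have h2 : t⁻¹ * ((p : G)⁻¹ * t * p) ∈ (P : Subgroup G) := by
            rw [show t⁻¹ * ((p : G)⁻¹ * t * p) = (t⁻¹ * (p : G)⁻¹ * t) * p by group]
            refine mul_mem ?_ p.2
            have := (Subgroup.mem_normalizer_iff''.1
              (Sylow.smul_eq_iff_mem_normalizer.1 (hTK ht)) ((p : G)⁻¹)).1 (inv_mem p.2)
            exact this
          have d1 := Subgroup.orderOf_dvd_natCard _ h1
          have d2 := Subgroup.orderOf_dvd_natCard _ h2
          rw [hT] at d1
          rw [card_three hn P] at d2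
          exact orderOf_eq_one_iff.1 (Nat.eq_one_of_dvd_coprimes (by norm_num : Nat.Coprime 16 9) d1 d2)
        calc t * p = p * t * (t⁻¹ * ((p : G)⁻¹ * t * p)) := by group
          _ = p * t := by rw [hTP, mul_one]
      by_cases hp1 : (p : G) = 1
      · rw [← hpR, hp1, one_smul]
      · exfalso
        have := Subgroup.card_dvd_of_le hcent
        rw [hT] at this
        have h18 := card_centralizer_three hn (exponent_three hn P p.2) hp1
        exact absurd (this.trans h18) (by norm_num)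
  have hF7 : Nat.card F = 7 := by
    rw [← h]
    refine Nat.card_congr (Equiv.ofBijective (fun Q => Quotient.mk'' Q.1) ⟨?_, ?_⟩)
    · intro a b e
      exact Subtype.ext (huniq b.1 a.1 b.2 a.2 (Quotient.exact' e))
    · intro q
      induction q using Quotient.inductionOn' with
      | h Q =>
        obtain ⟨R, hR, hRQ⟩ := hfix Q
        exact ⟨⟨R, hR⟩, Quotient.sound' hRQ⟩
  let N := Subgroup.normalizer (T : Set G)
  have hstable : ∀ (n : N) (Q : X), Q ∈ F → (n : G) • Q ∈ F := by
    intro n Q hQ t ht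
    have h1 : (n : G)⁻¹ * t * n ∈ T := (Subgroup.mem_normalizer_iff''.1 n.2 t).1 ht
    calc t • (n : G) • Q = (n : G) • (((n : G)⁻¹ * t * n) • Q) := by simp [mul_smul]
      _ = (n : G) • Q := by rw [hQ _ h1]
  have horb : orbit N (P : X) = F := by
    ext Q
    constructor
    · rintro ⟨n, rfl⟩
      exact hstable n P fun t ht => hTK ht
    · intro hQ
      obtain ⟨g, rfl⟩ := exists_smul_eq G P Q
      let S : Subgroup G := T.map (MulAut.conj g⁻¹).toMonoidHom
      have hScard : Nat.card ↥S = 16 := by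
        rw [← Nat.card_congr (Subgroup.equivMapOfInjective T _ (MulAut.conj g⁻¹).injective).toEquiv, hT]
      have hSK : S ≤ stabilizer G P := by
        rintro _ ⟨t, ht, rfl⟩
        show (g⁻¹ * t * g⁻¹⁻¹) • P = P
        rw [inv_inv, mul_smul, mul_smul, hQ t ht, inv_smul_smul]
      obtain ⟨k, hk, hiff⟩ := hconjK S hScard hSK
      refine ⟨⟨g * k, ?_⟩, ?_⟩
      · rw [Subgroup.mem_normalizer_iff]
        intro a
        rw [hiff a]
        constructor
        · rintro ⟨t, ht, e⟩
          have e' : g * k * a * (g * k)⁻¹ = t := by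
            simp only [MulEquiv.coe_toMonoidHom, MulAut.conj_apply] at e
            calc g * k * a * (g * k)⁻¹ = g * (k * a * k⁻¹) * g⁻¹ := by group
              _ = g * (g⁻¹ * t * g⁻¹⁻¹) * g⁻¹ := by rw [e]
              _ = t := by group
          rw [e']; exact ht
        · intro ha
          exact ⟨_, ha, by simp only [MulEquiv.coe_toMonoidHom, MulAut.conj_apply]; group⟩
      · show (g * k) • P = g • P
        rw [mul_smul, show k • P = P from hk]
  have h7 : 7 ∣ Nat.card N := by
    have := Subgroup.index_dvd_card (stabilizer N (P : X))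
    rwa [index_stabilizer, horb, ← Nat.card_coe_set_eq, hF7] at this
  have := h7.trans (Subgroup.card_subgroup_dvd_card N)
  rw [hn] at this
  norm_num at this

include hn in
theorem two_orbits (P : Sylow 3 G) : ∃ Q R : Sylow 3 G,
    Nat.card ↥(orbit (stabilizer G P) Q) = 18 ∧ Nat.card ↥(orbit (stabilizer G P) R) = 36 ∧
    ∀ S, S ≠ P → S ∈ orbit (stabilizer G P) Q ∨ S ∈ orbit (stabilizer G P) R := by
  classical
  let K := stabilizer G P
  let X := Sylow 3 G
  have : Fintype (orbitRel.Quotient K X) := Fintype.ofFinite _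
  let q₀ : orbitRel.Quotient K X := Quotient.mk'' P
  have hsum : 55 = ∑ q : orbitRel.Quotient K X, Nat.card ↥(orbit K (Quotient.out q)) := by
    rw [← card_sylow_three hn, Nat.card_congr (selfEquivSigmaOrbits K X), Nat.card_sigma]
  have h1 : ∀ q, q ≠ q₀ → 9 ∣ Nat.card ↥(orbit K (Quotient.out q)) := fun q hq =>
    orbit_nine hn (fun e => hq (by rw [← Quotient.out_eq' q, e]))
  have h0 : Nat.card ↥(orbit K (Quotient.out q₀)) = 1 := by
    have : Quotient.out q₀ ∈ orbit K P := Quotient.exact' (Quotient.out_eq' q₀)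
    rw [orbit_self] at this
    rw [show Quotient.out q₀ = P from this, orbit_self, Nat.card_coe_set_eq, Set.ncard_singleton]
  rw [← Finset.add_sum_erase _ _ (Finset.mem_univ q₀), h0] at hsum
  set s := (Finset.univ : Finset (orbitRel.Quotient K X)).erase q₀ with hs
  have hge : ∀ q ∈ s, 9 ≤ Nat.card ↥(orbit K (Quotient.out q)) := fun q hq =>
    Nat.le_of_dvd (by
      have : Nonempty ↥(orbit K (Quotient.out q)) := ⟨⟨_, mem_orbit_self _⟩⟩
      exact Nat.card_pos) (h1 q (Finset.ne_of_mem_erase hq))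
  have hcs : s.card + 1 = Nat.card (orbitRel.Quotient K X) := by
    rw [hs, Finset.card_erase_of_mem (Finset.mem_univ _), Finset.card_univ, Nat.card_eq_fintype_card,
      Nat.sub_add_cancel Fintype.card_pos]
  have h6 : s.card ≤ 6 := by
    have := Finset.card_nsmul_le_sum s _ 9 hge
    rw [smul_eq_mul] at this
    omega
  rcases rank_cases hn P (by rw [← hcs]; omega) with h | h
  · rw [← hcs] at h
    obtain ⟨a, b, hab, hsab⟩ := Finset.card_eq_two.1 (show s.card = 2 by omega)
    rw [hsab, Finset.sum_pair hab] at hsum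
    have hdiv : ∀ q : orbitRel.Quotient K X, Nat.card ↥(orbit K (Quotient.out q)) ∣ 144 := fun q => by
      have := card_orbit_mul_pairStab (G := G) P (Quotient.out q)
      rw [card_stab hn P] at this
      exact ⟨_, this.symm⟩
    have ha : a ∈ s := by rw [hsab]; simp
    have hb : b ∈ s := by rw [hsab]; simp
    have key : ∀ i ∈ List.range 55, i % 9 = 0 → 144 % i = 0 → 144 % (54 - i) = 0 → i = 18 ∨ i = 36 := by
      decide +kernel
    have hcover : ∀ S, S ≠ P →
        S ∈ orbit K (Quotient.out a) ∨ S ∈ orbit K (Quotient.out b) := by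
      intro S hS
      have hne : (Quotient.mk'' S : orbitRel.Quotient K X) ≠ q₀ := fun e => hS (by
        have : S ∈ orbit K P := Quotient.exact' e
        rwa [orbit_self] at this)
      have hmem : (Quotient.mk'' S : orbitRel.Quotient K X) ∈ s :=
        Finset.mem_erase.2 ⟨hne, Finset.mem_univ _⟩
      rw [hsab, Finset.mem_insert, Finset.mem_singleton] at hmem
      rcases hmem with e | e
      · exact Or.inl (Quotient.exact' (e.trans (Quotient.out_eq' a).symm))
      · exact Or.inr (Quotient.exact' (e.trans (Quotient.out_eq' b).symm))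
    have ga := hge a ha; have gb := hge b hb
    rcases key (Nat.card ↥(orbit K (Quotient.out a))) (List.mem_range.2 (by omega))
      (Nat.mod_eq_zero_of_dvd (h1 a (Finset.ne_of_mem_erase ha))) (Nat.mod_eq_zero_of_dvd (hdiv a))
      (Nat.mod_eq_zero_of_dvd (by
        rw [show 54 - Nat.card ↥(orbit K (Quotient.out a)) = Nat.card ↥(orbit K (Quotient.out b)) by omega]
        exact hdiv b)) with e | e
    · exact ⟨_, _, e, show Nat.card ↥(orbit K (Quotient.out b)) = 36 by omega, hcover⟩
    · exact ⟨_, _, show Nat.card ↥(orbit K (Quotient.out b)) = 18 by omega, e,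
        fun S hS => (hcover S hS).symm⟩
  · exfalso
    rw [← hcs] at h
    have hs6 : s.card = 6 := by omega
    have h9 : ∀ q ∈ s, Nat.card ↥(orbit K (Quotient.out q)) = 9 := by
      intro q hq
      have := Finset.card_nsmul_le_sum (s.erase q) _ 9 fun r hr => hge r (Finset.mem_of_mem_erase hr)
      rw [smul_eq_mul, Finset.card_erase_of_mem hq] at this
      have := Finset.add_sum_erase s (fun r => Nat.card ↥(orbit K (Quotient.out r))) hq
      have := hge q hq
      omega
    have : Fact (Nat.Prime 2) := ⟨Nat.prime_two⟩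
    obtain ⟨T'⟩ : Nonempty (Sylow 2 K) := inferInstance
    have hT' : Nat.card ↥(T' : Subgroup K) = 16 := by
      rw [T'.card_eq_multiplicity, card_stab hn P, show (144 : ℕ) = 2 ^ 4 * 9 by norm_num,
        Nat.factorization_mul (by norm_num) (by norm_num), Finsupp.add_apply,
        Nat.Prime.factorization_pow Nat.prime_two, Finsupp.single_eq_same,
        Nat.factorization_eq_zero_of_not_dvd (by norm_num : ¬ 2 ∣ 9)]
      norm_num
    refine no_seven hn P ((T' : Subgroup K).map K.subtype)
      (by rw [← Nat.card_congr (Subgroup.equivMapOfInjective _ _ K.subtype_injective).toEquiv, hT'])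
      (Subgroup.map_subtype_le _) (by rw [← hcs]; omega) fun Q hQ => ?_
    have hne : (Quotient.mk'' Q : orbitRel.Quotient K X) ≠ q₀ := fun e => hQ (by
      have : Q ∈ orbit K P := Quotient.exact' e
      rwa [orbit_self] at this)
    have := h9 _ (Finset.mem_erase.2 ⟨hne, Finset.mem_univ _⟩)
    rwa [orbit_eq_iff.2 (Quotient.exact' (Quotient.out_eq' (Quotient.mk'' Q : orbitRel.Quotient K X)))]
      at this

/-! ### The subgroup of index eleven -/

include hn in
theorem exists_index_eleven : ∃ H : Subgroup G, H.index = 11 := by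
  classical
  let X := Sylow 3 G
  have : Fintype X := Fintype.ofFinite X
  obtain ⟨v⟩ : Nonempty X := inferInstance
  obtain ⟨wa, wb, h18, h36, hcover⟩ := two_orbits hn v
  let K := stabilizer G v
  let R : X → X → Prop := fun a b => ∃ g : G, g • v = a ∧ g • wa = b
  have hR0 : ∀ c, R v c ↔ c ∈ orbit K wa := fun c =>
    ⟨fun ⟨g, h1, h2⟩ => ⟨⟨g, h1⟩, h2⟩, fun ⟨k, hk⟩ => ⟨k, k.2, hk⟩⟩
  have hRg : ∀ (g : G) a b, R a b → R (g • a) (g • b) := by
    rintro g _ _ ⟨k, rfl, rfl⟩
    exact ⟨g * k, mul_smul _ _ _, mul_smul _ _ _⟩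
  have hRiff : ∀ (g : G) a b, R (g • a) (g • b) ↔ R a b := fun g a b =>
    ⟨fun h => by simpa using hRg g⁻¹ _ _ h, hRg g a b⟩
  have hwav : wa ≠ v := fun e => by
    rw [e, orbit_self, Nat.card_coe_set_eq, Set.ncard_singleton] at h18
    omega
  have hirr : ∀ a, ¬ R a a := by
    rintro a ⟨g, h1, h2⟩
    exact hwav (smul_left_cancel g (h2.trans h1.symm))
  have hsym : ∀ a b, R a b → R b a := by
    suffices h : R wa v by
      rintro _ _ ⟨g, rfl, rfl⟩
      exact hRg g _ _ h
    obtain ⟨g, hg⟩ := exists_smul_eq G wa v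
    have hc : g • v ≠ v := fun e => hwav (smul_left_cancel g (hg.trans e.symm))
    have hs : Nat.card ↥(orbit K (g • v)) = 18 := by
      have h1 := card_orbit_mul_pairStab (G := G) v (g • v)
      have h2 := card_orbit_mul_pairStab (G := G) v wa
      have e : Nat.card ↥(pairStab (G := G) v (g • v)) = Nat.card ↥(pairStab (G := G) v wa) := by
        conv_lhs => rw [← hg]
        rw [card_pairStab_smul, hg, pairStab, pairStab, inf_comm]
      rw [e] at h1
      rw [h18] at h2
      exact Nat.eq_of_mul_eq_mul_right Nat.card_pos (h1.trans h2.symm)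
    rcases hcover _ hc with h | h
    · obtain ⟨k, hk1, hk2⟩ := (hR0 _).2 h
      have hh := hRg g⁻¹ _ _ ⟨k, hk1, hk2⟩
      rwa [inv_smul_smul, inv_smul_eq_iff.2 hg.symm] at hh
    · rw [orbit_eq_iff.2 h, h36] at hs
      omega
  have hcardN : ∀ a, Nat.card {b // R a b} = 18 := by
    intro a
    obtain ⟨g, rfl⟩ := exists_smul_eq G v a
    rw [← h18]
    exact Nat.card_congr (((MulAction.toPerm g).subtypeEquiv fun b => (hR0 b).symm.trans
      (hRiff g v b).symm).symm)
  let com : X → X → ℕ := fun a b => Nat.card {c // R a c ∧ R c b}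
  have hcom : ∀ (g : G) a b, com (g • a) (g • b) = com a b := fun g a b =>
    (Nat.card_congr ((MulAction.toPerm g).subtypeEquiv fun c => by
      simp only [MulAction.toPerm_apply, hRiff])).symm
  have hl : ∀ a b, R a b → com a b = com v wa := by
    rintro _ _ ⟨g, rfl, rfl⟩
    exact hcom g v wa
  have hm : ∀ a b, a ≠ b → ¬ R a b → com a b = com v wb := by
    intro a b hab hR
    obtain ⟨g, rfl⟩ := exists_smul_eq G v a
    have hne : g⁻¹ • b ≠ v := fun e => hab (by rw [← e, smul_inv_smul])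
    rcases hcover _ hne with h | h
    · exact absurd (by simpa using hRg g _ _ ((hR0 _).2 h)) hR
    · obtain ⟨k, hk⟩ := h
      have hk' : ((g * k : G)) • wb = b := by
        rw [mul_smul]
        exact (congrArg (g • ·) hk).trans (smul_inv_smul g b)
      rw [← hk', ← hcom (g * k) v wb, mul_smul g (k : G) v, show (k : G) • v = v from k.2]
  have hcnt : ∀ (p : X → Prop) [DecidablePred p],
      Nat.card {c // p c} = (Finset.univ.filter p).card := fun p _ => by
    rw [Nat.card_eq_fintype_card, Fintype.card_subtype]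
  obtain ⟨h9, h4⟩ := srg_parameters (V := X)
    (by rw [← Nat.card_eq_fintype_card, card_sylow_three hn]) R hsym hirr
    (fun a => by rw [← hcnt, hcardN]) (com v wa) (com v wb)
    (fun a b h => by rw [← hcnt]; exact hl a b h) (fun a b h h' => by rw [← hcnt]; exact hm a b h h')
  -- a coordinate system on the normal Sylow subgroup of `K`
  let P : Subgroup G := (v : Subgroup G)
  obtain ⟨⟨a, ha⟩, ha1⟩ : ∃ a : P, a ≠ 1 := by
    have : Nontrivial P := Finite.one_lt_card_iff_nontrivial.1 (by rw [card_three hn v]; norm_num)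
    exact exists_ne 1
  have ha' : a ≠ 1 := fun e => ha1 (Subtype.ext e)
  obtain ⟨b, hb, hb'⟩ : ∃ b ∈ P, b ∉ Subgroup.zpowers a := by
    by_contra hne
    push Not at hne
    have := Nat.le_of_dvd (by rw [Nat.card_zpowers]; exact orderOf_pos a)
      (Subgroup.card_dvd_of_le (show P ≤ Subgroup.zpowers a from hne))
    rw [card_three hn v, Nat.card_zpowers, orderOf_eq_prime (exponent_three hn v ha) ha'] at this
    omega
  have ha3 := exponent_three hn v ha
  have hb3 := exponent_three hn v hb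
  have hab : Commute a b := three_comm hn v ha hb
  let φ : Z9 → G := fun z => a ^ z.1.val * b ^ z.2.val
  have hφP : ∀ z, φ z ∈ P := fun z => mul_mem (pow_mem ha _) (pow_mem hb _)
  have hφadd : ∀ s t, φ (s + t) = φ s * φ t := by
    intro s t
    show a ^ (s.1 + t.1).val * b ^ (s.2 + t.2).val = _ * _
    rw [ZMod.val_add, ZMod.val_add, ← pow_eq_pow_mod _ ha3, ← pow_eq_pow_mod _ hb3, pow_add, pow_add,
      (hab.symm.pow_pow s.2.val t.1.val).mul_mul_mul_comm]
  have hφ0 : φ 0 = 1 := by simp [φ]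
  have hφker : ∀ z, φ z = 1 → z = 0 := by
    rintro ⟨i, j⟩ h
    have hbi : b ^ j.val ∈ Subgroup.zpowers a := by
      have : b ^ j.val = (a ^ i.val)⁻¹ := eq_inv_of_mul_eq_one_right h
      rw [this]
      exact inv_mem (pow_mem (Subgroup.mem_zpowers a) _)
    have hj : j = 0 := by
      rcases (by decide : ∀ j : ZMod 3, j = 0 ∨ j = 1 ∨ j = 2) j with e | e | e
      · exact e
      · subst e
        exact absurd (by simpa [ZMod.val_one] using hbi) hb'
      · subst e
        refine absurd ?_ hb'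
        have h2 := pow_mem hbi 2
        rw [← pow_mul, show (2 : ZMod 3).val * 2 = 3 + 1 from rfl, pow_succ, hb3, one_mul] at h2
        exact h2
    subst hj
    simp [φ] at h
    have : i = 0 := by
      rcases (by decide : ∀ j : ZMod 3, j = 0 ∨ j = 1 ∨ j = 2) i with e | e | e
      · exact e
      · subst e; exact absurd (by simpa [ZMod.val_one] using h) ha'
      · subst e
        refine absurd ?_ ha'
        have h2 : a ^ 2 = 1 := h
        have h3 := ha3
        rw [pow_succ, h2, one_mul] at h3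
        exact h3
    subst this
    rfl
  have hφv : ∀ z, φ z • v = v := fun z => mem_stab_of_mem v (hφP z)
  have hfree : ∀ w, w ≠ v → Function.Injective fun z => φ z • w := by
    intro w hw s t e
    have : φ (-t + s) • w = w := by
      rw [hφadd, mul_smul, show φ s • w = φ t • w from e, ← mul_smul, ← hφadd, neg_add_cancel, hφ0,
        one_smul]
    by_contra hst
    refine hw (fixed_eq hn (hφP _) (fun h1 => hst ?_) this)
    have := hφker _ h1
    rw [neg_add_eq_zero] at this
    exact this.symm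
  -- the two halves of the neighbourhood
  let A : Z9 → X := fun z => φ z • wa
  have hAmem : ∀ z, R v (A z) := fun z => ⟨φ z, hφv z, rfl⟩
  obtain ⟨wc, hwc, hwcA⟩ : ∃ c, R v c ∧ ∀ z, A z ≠ c := by
    by_contra hne
    push Not at hne
    have := Nat.card_le_card_of_surjective (fun z => (⟨A z, hAmem z⟩ : {c // R v c}))
      fun c => (hne c.1 c.2).imp fun z hz => Subtype.ext hz
    rw [hcardN, Nat.card_eq_fintype_card, Fintype.card_prod, ZMod.card] at this
    omega
  let B : Z9 → X := fun z => φ z • wc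
  have hwcv : wc ≠ v := fun e => hirr v (by rwa [e] at hwc)
  have hBmem : ∀ z, R v (B z) := fun z => by
    have := hRg (φ z) _ _ hwc
    rwa [hφv] at this
  have hAi := hfree wa hwav
  have hBi := hfree wc hwcv
  have hAB : ∀ z w, A z ≠ B w := by
    intro z w e
    refine hwcA (-w + z) ?_
    show φ (-w + z) • wa = wc
    rw [hφadd, mul_smul, show φ z • wa = φ w • wc from e, ← mul_smul, ← hφadd, neg_add_cancel, hφ0,
      one_smul]
  have hN : ∀ c, R v c ↔ (∃ z, A z = c) ∨ ∃ z, B z = c := by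
    intro c
    refine ⟨fun hc => ?_, ?_⟩
    · let e : Z9 ⊕ Z9 → {c // R v c} :=
        Sum.elim (fun z => ⟨A z, hAmem z⟩) (fun z => ⟨B z, hBmem z⟩)
      have he : Function.Injective e := by
        rintro (s | s) (t | t) h <;> simp only [e, Sum.elim_inl, Sum.elim_inr, Subtype.mk.injEq] at h
        · rw [hAi h]
        · exact absurd h (hAB _ _)
        · exact absurd h.symm (hAB _ _)
        · rw [hBi h]
      obtain ⟨z | z, hz⟩ := (Function.Injective.bijective_of_nat_card_le he (by
        rw [hcardN, Nat.card_sum, Nat.card_eq_fintype_card, Fintype.card_prod, ZMod.card])).2 ⟨c, hc⟩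
      · exact Or.inl ⟨z, congrArg Subtype.val hz⟩
      · exact Or.inr ⟨z, congrArg Subtype.val hz⟩
    · rintro (⟨z, rfl⟩ | ⟨z, rfl⟩)
      exacts [hAmem z, hBmem z]
  have hT : ∀ (w u : X) (t z s : Z9), R (φ (t + z) • w) (φ (t + s) • u) ↔ R (φ z • w) (φ s • u) :=
    fun w u t z s => by
      rw [hφadd, hφadd, ← hRiff (φ t) (φ z • w) (φ s • u), smul_smul, smul_smul]
  have hl9 : ∀ a b, R a b → com a b = 9 := fun a b h => (hl a b h).trans h9
  have hm4 : ∀ a b, a ≠ b → ¬ R a b → com a b = 4 := fun a b h h' => (hm a b h h').trans h4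
  obtain ⟨hAc, cA, hcA⟩ := halves_clique R hsym hirr v A B hAi hBi hAB hN
    (fun t z s => hT wa wa t z s) (fun t z s => hT wa wc t z s) (fun b h => hl9 v b h) hm4
  obtain ⟨hBc, cB, hcB⟩ := halves_clique R hsym hirr v B A hBi hAi
    (fun z w e => hAB w z e.symm) (fun c => (hN c).trans Or.comm)
    (fun t z s => hT wc wc t z s) (fun t z s => hT wc wa t z s) (fun b h => hl9 v b h) hm4
  -- the cliques
  let CA : Set X := insert v (Set.range A)
  let CB : Set X := insert v (Set.range B)
  have hvA : ∀ z, A z ≠ v := fun z e => hirr v (e ▸ hAmem z)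
  have hvB : ∀ z, B z ≠ v := fun z e => hirr v (e ▸ hBmem z)
  have hclique : ∀ a ∈ CA, ∀ b ∈ CA, a ≠ b → R a b := by
    rintro a (rfl | ⟨z, rfl⟩) b (rfl | ⟨w, rfl⟩) hne
    · exact absurd rfl hne
    · exact hAmem w
    · exact hsym _ _ (hAmem z)
    · exact hAc z w (fun e => hne (by rw [e]))
  have hcA10 : CA.ncard = 10 := by
    rw [Set.ncard_insert_of_notMem (show v ∉ Set.range A from fun ⟨z, hz⟩ => hvA z hz), Set.ncard_range_of_injective hAi,
      Nat.card_eq_fintype_card, Fintype.card_prod, ZMod.card]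
  let O := orbit G CA
  have hO : ∀ q ∈ O, q.ncard = 10 ∧ ∀ a ∈ q, ∀ b ∈ q, a ≠ b → R a b := by
    rintro _ ⟨g, rfl⟩
    refine ⟨by rw [Set.ncard_smul_set, hcA10], ?_⟩
    rintro _ ⟨a, ha, rfl⟩ _ ⟨b, hb, rfl⟩ hne
    exact hRg g a b (hclique a ha b hb fun e => hne (by rw [e]))
  have hone : ∀ q ∈ O, v ∈ q → q = CA ∨ q = CB := by
    intro q hq hvq
    obtain ⟨hq10, hqc⟩ := hO q hq
    have hsub : q ⊆ CA ∪ CB := by
      intro c hc
      by_cases hcv : c = v
      · exact Or.inl (Or.inl hcv)
      · rcases (hN c).1 (hqc v hvq c hc (Ne.symm hcv)) with ⟨z, hz⟩ | ⟨z, hz⟩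
        · exact Or.inl (Or.inr ⟨z, hz⟩)
        · exact Or.inr (Or.inr ⟨z, hz⟩)
    have hten : CB.ncard = 10 := by
      rw [Set.ncard_insert_of_notMem (show v ∉ Set.range B from fun ⟨z, hz⟩ => hvB z hz), Set.ncard_range_of_injective hBi,
        Nat.card_eq_fintype_card, Fintype.card_prod, ZMod.card]
    by_cases hAq : ∃ z w, z ≠ w ∧ A z ∈ q ∧ A w ∈ q
    · left
      obtain ⟨z, w, hzw, hz, hw⟩ := hAq
      refine Set.eq_of_subset_of_ncard_le (fun c hc => ?_) (by rw [hq10, hcA10])
      rcases hsub hc with h | rfl | ⟨s, rfl⟩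
      · exact h
      · exact Or.inl rfl
      · exfalso
        have h1 := (hcA z s).1 (hqc _ hz _ hc (hAB _ _))
        have h2 := (hcA w s).1 (hqc _ hw _ hc (hAB _ _))
        exact hzw (add_right_cancel (h1.symm.trans h2))
    · right
      refine Set.eq_of_subset_of_ncard_le (fun c hc => ?_) (by rw [hq10, hten])
      rcases hsub hc with (rfl | ⟨z, rfl⟩) | h
      · exact Or.inl rfl
      · exfalso
        push Not at hAq
        have hqB : q ⊆ insert v ({A z} ∪ {c | ∃ s, B s = c ∧ s = z + cA}) := by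
          intro d hd
          rcases hsub hd with (rfl | ⟨w, rfl⟩) | (rfl | ⟨s, rfl⟩)
          · exact Or.inl rfl
          · refine Or.inr (Or.inl ?_)
            by_contra hne
            exact hAq z w (fun e => hne (by rw [e]; rfl)) hc hd
          · exact Or.inl rfl
          · exact Or.inr (Or.inr ⟨s, rfl, (hcA z s).1 (hqc _ hc _ hd (hAB _ _))⟩)
        have h3 : q.ncard ≤ 3 := by
          refine (Set.ncard_le_ncard hqB).trans ((Set.ncard_insert_le _ _).trans ?_)
          have h2 : ({A z} ∪ {c | ∃ s, B s = c ∧ s = z + cA} : Set X).ncard ≤ 2 :=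
            (Set.ncard_union_le _ _).trans (by
              have : ({c | ∃ s, B s = c ∧ s = z + cA} : Set X) ⊆ {B (z + cA)} := by
                rintro _ ⟨s, rfl, rfl⟩; rfl
              have := Set.ncard_le_ncard this
              rw [Set.ncard_singleton] at this ⊢
              omega)
          omega
        omega
      · exact h
  have hCA : CA ∈ O := mem_orbit_self _
  have hCB : CB ∈ O := by
    obtain ⟨k, hk⟩ := (hR0 wc).1 hwc
    have hk' : (k : G) • CA ∈ O := ⟨k, rfl⟩
    rcases hone _ hk' ⟨v, Or.inl rfl, k.2⟩ with e | e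
    · exfalso
      have : wc ∈ (k : G) • CA := ⟨wa, Or.inr ⟨0, by show φ 0 • wa = wa; rw [hφ0, one_smul]⟩, hk⟩
      rw [e] at this
      rcases this with h | ⟨z, hz⟩
      exacts [hwcv h, hwcA z hz]
    · exact e ▸ hk'
  have hCAB : CA ≠ CB := fun e => by
    have : A 0 ∈ CB := e ▸ Or.inr ⟨0, rfl⟩
    rcases this with h | ⟨z, hz⟩
    exacts [hvA 0 h, hAB 0 z hz.symm]
  have htwo : ∀ c : X, Nat.card {q : O // c ∈ q.1} = 2 := by
    intro c
    obtain ⟨g, rfl⟩ := exists_smul_eq G v c
    have hv2 : Nat.card {q : O // v ∈ q.1} = 2 := by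
      rw [Nat.card_eq_two_iff]
      refine ⟨⟨⟨CA, hCA⟩, Or.inl rfl⟩, ⟨⟨CB, hCB⟩, Or.inl rfl⟩,
        fun e => hCAB (congrArg (fun q => q.1.1) e), Set.eq_univ_of_forall fun q => ?_⟩
      rcases hone q.1.1 q.1.2 q.2 with e | e
      · exact Or.inl (Subtype.ext (Subtype.ext e))
      · exact Or.inr (Subtype.ext (Subtype.ext e))
    rw [← hv2]
    exact (Nat.card_congr ((MulAction.toPerm g : Equiv.Perm O).subtypeEquiv fun q => by
      show v ∈ (q.1 : Set X) ↔ g • v ∈ g • (q.1 : Set X)
      exact Set.smul_mem_smul_set_iff.symm)).symm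
  have hcount : Nat.card O * 10 = 55 * 2 := by
    have : Fintype O := Fintype.ofFinite _
    have e : (Σ q : O, {c : X // c ∈ q.1}) ≃ (Σ c : X, {q : O // c ∈ q.1}) :=
      { toFun := fun p => ⟨p.2.1, p.1, p.2.2⟩
        invFun := fun p => ⟨p.2.1, p.1, p.2.2⟩
        left_inv := fun _ => rfl
        right_inv := fun _ => rfl }
    have h := Nat.card_congr e
    rw [Nat.card_sigma, Nat.card_sigma,
      Finset.sum_congr rfl fun q _ => (show Nat.card {c : X // c ∈ (q : O).1} = 10 from
        (Nat.card_coe_set_eq _).trans (hO q.1 q.2).1),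
      Finset.sum_congr rfl fun c _ => htwo c] at h
    simpa [← Nat.card_eq_fintype_card, show Nat.card X = 55 from card_sylow_three hn] using h
  exact ⟨stabilizer G CA, by
    rw [index_stabilizer, ← Nat.card_coe_set_eq]
    show Nat.card O = 11
    omega⟩

include hn in
theorem exists_embedding : ∃ S : Subgroup P11, Nonempty (G ≃* S) := by
  obtain ⟨H, hH⟩ := exists_index_eleven hn
  have hinj : Function.Injective (MulAction.toPermHom G (G ⧸ H)) := by
    rw [← MonoidHom.ker_eq_bot_iff, ← Subgroup.normalCore_eq_ker]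
    exact (IsSimpleGroup.eq_bot_or_eq_top_of_normal _ inferInstance).resolve_right fun e => by
      have : H = ⊤ := top_le_iff.1 (e ▸ Subgroup.normalCore_le H)
      rw [this, Subgroup.index_top] at hH
      omega
  let e : (G ⧸ H) ≃ Fin 11 := Finite.equivFinOfCardEq hH
  let f : G →* P11 := e.permCongrHom.toMonoidHom.comp (MulAction.toPermHom G (G ⧸ H))
  exact ⟨f.range, ⟨MonoidHom.ofInjective (f := f) (e.permCongrHom.injective.comp hinj)⟩⟩

end Cfsg.Agent.M11Unique99

namespace Cfsg.Agent.M11Unique99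

/-- Any two simple groups of order 7920 are isomorphic. -/
theorem iso_of_card {G H : Type*} [Group G] [Finite G] [IsSimpleGroup G] [Group H] [Finite H]
    [IsSimpleGroup H] (hG : Nat.card G = 7920) (hH : Nat.card H = 7920) : Nonempty (G ≃* H) := by
  obtain ⟨S, ⟨eS⟩⟩ := exists_embedding hG
  obtain ⟨T, ⟨eT⟩⟩ := exists_embedding hH
  have : Nontrivial S := eS.injective.nontrivial
  have : Nontrivial T := eT.injective.nontrivial
  have : IsSimpleGroup S := IsSimpleGroup.isSimpleGroup_of_surjective eS.toMonoidHom eS.surjective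
  have : IsSimpleGroup T := IsSimpleGroup.isSimpleGroup_of_surjective eT.toMonoidHom eT.surjective
  obtain ⟨e⟩ := conjugate_subgroups S T (by rw [← Nat.card_congr eS.toEquiv, hG])
    (by rw [← Nat.card_congr eT.toEquiv, hH])
  exact ⟨(eS.trans e).trans eT.symm⟩

end Cfsg.Agent.M11Unique99
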