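import Mathlib
import Cfsg.Agent.Lib.PGroupsCyclic

/-!
Groups in which an element of order divisible by the prime `p` has order exactly `p`: two Sylow
`p`-subgroups meet trivially.
-/

set_option autoImplicit false

namespace Cfsg.Agent.PSLSpectrum99

open Finset

/-! ### Norm arguments -/

section Abstract

variable {K V : Type*} [Group K] [CommGroup V] (φ : K →* MulAut V)

theorem fix_pow {g : K} {v : V} (h : φ g v = v) (m : ℕ) : φ (g ^ m) v = v := by
  induction m with
  | zero => simp
  | succ m ih => rw [pow_succ, map_mul, MulAut.mul_apply, h, ih]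

/-- The norm of a fixed-point-free element vanishes. -/
theorem norm_eq_one {g : K} {r : ℕ} (hg : g ^ r = 1) (hfix : ∀ v, φ g v = v → v = 1) (v : V) :
    ∏ i ∈ range r, φ (g ^ i) v = 1 := by
  apply hfix
  rw [map_prod]
  have h1 : ∀ i, φ g (φ (g ^ i) v) = φ (g ^ (i + 1)) v := fun i => by
    rw [← MulAut.mul_apply, ← map_mul, ← pow_succ']
  simp only [h1]
  cases r with
  | zero => rfl
  | succ r => rw [prod_range_succ, prod_range_succ' (fun i => φ (g ^ i) v), hg, pow_zero]

/-- No group of type `(r, r)` acts fixed-point-freely. -/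
theorem pow_eq_one_of_rank_two {r : ℕ} (hr : r.Prime) {a b : K} (hb : b ^ r = 1)
    (hab : Commute a b) (hfb : ∀ v, φ b v = v → v = 1)
    (hf : ∀ j, (a * b ^ j) ^ r = 1 ∧ ∀ v, φ (a * b ^ j) v = v → v = 1) (v : V) : v ^ r = 1 := by
  have h0 : ∏ j ∈ range r, ∏ i ∈ range r, φ ((a * b ^ j) ^ i) v = 1 :=
    prod_eq_one fun j _ => norm_eq_one φ (hf j).1 (hf j).2 v
  rw [prod_comm, prod_eq_single 0] at h0
  · simpa using h0
  · intro i hi hi0
    rw [mem_range] at hi
    have hcop : Nat.Coprime i r := (Nat.coprime_of_lt_prime (Nat.pos_of_ne_zero hi0).ne' hi hr).symm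
    obtain ⟨m, -, hm⟩ := Nat.exists_mul_mod_eq_one_of_coprime hcop hr.one_lt
    have hbi : (b ^ i) ^ m = b := by
      rw [← pow_mul, ← pow_mod_orderOf]
      have hd : orderOf b ∣ r := orderOf_dvd_of_pow_eq_one hb
      rcases (Nat.dvd_prime hr).1 hd with h | h
      · rw [orderOf_eq_one_iff.1 h, one_pow]
      · rw [h, hm, pow_one]
    have hfi : ∀ w, φ (b ^ i) w = w → w = 1 := fun w hw => hfb w (by
      have := fix_pow φ hw m
      rwa [hbi] at this)
    have he : ∀ j, φ ((a * b ^ j) ^ i) v = φ (a ^ i) (φ ((b ^ i) ^ j) v) := fun j => by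
      rw [(hab.pow_right j).mul_pow, map_mul, MulAut.mul_apply, ← pow_mul, ← pow_mul, mul_comm j i]
    simp only [he]
    rw [← map_prod, norm_eq_one φ (by rw [← pow_mul, mul_comm, pow_mul, hb, one_pow]) hfi, map_one]
  · intro h; exact absurd (mem_range.2 hr.pos) h

/-- An element of order `p` normalising a fixed-point-free subgroup of prime order `r`
non-centrally has non-trivial norm. -/
theorem pow_eq_one_of_frobenius [Finite K] {r p : ℕ} (hp : p.Prime) (hr : r.Prime) {u y : K}
    (hy : orderOf y = r) (hu : u ^ p = 1) (hnorm : u * y * u⁻¹ ∈ Subgroup.zpowers y)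
    (hne : u * y * u⁻¹ ≠ y) (hfix : ∀ v, φ y v = v → v = 1)
    (htr : ∀ c ∈ Subgroup.zpowers y, ∀ v, ∏ i ∈ range p, φ ((c * u * c⁻¹) ^ i) v = 1) (v : V) :
    v ^ r = 1 := by
  classical
  haveI : Fintype (Subgroup.zpowers y) := Fintype.ofFinite _
  set Y := Subgroup.zpowers y with hY
  have hcard : Fintype.card Y = r := by
    rw [← Nat.card_eq_fintype_card, Nat.card_zpowers, hy]
  have hconj : ∀ m : ℕ, ∀ c ∈ Y, u ^ m * c * (u ^ m)⁻¹ ∈ Y := by
    intro m
    induction m with
    | zero => intro c hc; simpa using hc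
    | succ m ih =>
      intro c hc
      have h1 : u * c * u⁻¹ ∈ Y := by
        obtain ⟨k, rfl⟩ := Subgroup.mem_zpowers_iff.1 hc
        rw [← conj_zpow]
        exact Y.zpow_mem hnorm k
      have h2 := ih _ h1
      rw [show u ^ m * (u * c * u⁻¹) * (u ^ m)⁻¹ = u ^ (m + 1) * c * (u ^ (m + 1))⁻¹ by
        rw [pow_succ]; group] at h2
      exact h2
  have h0 : ∏ c : Y, ∏ i ∈ range p, φ (((c : K) * u * (c : K)⁻¹) ^ i) v = 1 :=
    prod_eq_one fun c _ => htr c c.2 v
  rw [prod_comm, prod_eq_single 0] at h0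
  · simpa [hcard] using h0
  · intro i hi hi0
    rw [mem_range] at hi
    let ψ : Y → Y := fun c => ⟨(c : K) * (u ^ i * (c : K)⁻¹ * (u ^ i)⁻¹),
      Y.mul_mem c.2 (hconj i _ (Y.inv_mem c.2))⟩
    have hψ : Function.Bijective ψ := by
      refine Finite.injective_iff_bijective.1 fun c c' e => ?_
      have e' : (c : K) * (u ^ i * (c : K)⁻¹ * (u ^ i)⁻¹) =
          c' * (u ^ i * (c' : K)⁻¹ * (u ^ i)⁻¹) := congrArg Subtype.val e
      have hcm : Commute ((c' : K)⁻¹ * c) (u ^ i) := by
        have e'' : (c : K) * u ^ i * (c : K)⁻¹ = c' * u ^ i * (c' : K)⁻¹ := by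
          have := congrArg (fun g => g * u ^ i) e'
          simpa [mul_assoc] using this
        calc (c' : K)⁻¹ * c * u ^ i
            = (c' : K)⁻¹ * (c * u ^ i * (c : K)⁻¹) * c := by group
          _ = u ^ i * ((c' : K)⁻¹ * c) := by rw [e'']; group
      by_contra hcc
      have hne1 : (c' : K)⁻¹ * c ≠ 1 := fun h => hcc (Subtype.ext (inv_mul_eq_one.1 h).symm)
      have hgen : y ∈ Subgroup.zpowers ((c' : K)⁻¹ * c) := by
        have hz : (c' : K)⁻¹ * c ∈ Y := Y.mul_mem (Y.inv_mem c'.2) c.2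
        haveI := Fact.mk hr
        have : Nat.card Y = r := by rw [Nat.card_zpowers, hy]
        have hm := mem_zpowers_of_prime_card (G := Y) this (g' := ⟨y, Subgroup.mem_zpowers y⟩)
          (g := ⟨_, hz⟩) (fun h => hne1 (congrArg Subtype.val h))
        obtain ⟨k, hk⟩ := Subgroup.mem_zpowers_iff.1 hm
        exact Subgroup.mem_zpowers_iff.2 ⟨k, congrArg Subtype.val hk⟩
      obtain ⟨k, hk⟩ := Subgroup.mem_zpowers_iff.1 hgen
      have hyi : Commute y (u ^ i) := hk ▸ hcm.zpow_left k
      obtain ⟨m, -, hm⟩ := Nat.exists_mul_mod_eq_one_of_coprime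
        ((Nat.coprime_of_lt_prime (Nat.pos_of_ne_zero hi0).ne' hi hp).symm) hp.one_lt
      have hui : (u ^ i) ^ m = u := by
        rw [← pow_mul, ← pow_mod_orderOf]
        rcases (Nat.dvd_prime hp).1 (orderOf_dvd_of_pow_eq_one hu) with h | h
        · rw [orderOf_eq_one_iff.1 h, one_pow]
        · rw [h, hm, pow_one]
      have hyu : Commute y u := hui ▸ hyi.pow_right m
      exact hne (by rw [← hyu.eq, mul_inv_cancel_right])
    have he : ∀ c : Y, φ (((c : K) * u * (c : K)⁻¹) ^ i) v = φ (ψ c : K) (φ (u ^ i) v) := fun c => by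
      rw [← MulAut.mul_apply, ← map_mul, conj_pow]
      congr 2
      show _ = (c : K) * (u ^ i * (c : K)⁻¹ * (u ^ i)⁻¹) * u ^ i
      group
    simp only [he]
    rw [Fintype.prod_bijective ψ hψ (fun c : Y => φ (ψ c : K) (φ (u ^ i) v))
      (fun c : Y => φ (c : K) (φ (u ^ i) v)) (fun _ => rfl)]
    apply hfix
    rw [map_prod]
    refine Fintype.prod_equiv (Equiv.mulLeft (⟨y, Subgroup.mem_zpowers y⟩ : Y)) _ _ fun c => ?_
    rw [← MulAut.mul_apply, ← map_mul]
    rfl
  · intro h; exact absurd (mem_range.2 hp.pos) h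

end Abstract

/-! ### Elements of order `p` -/

variable {G : Type*} [Group G] [Finite G] {p : ℕ} [hp : Fact p.Prime]
  (hexp : ∀ g : G, p ∣ orderOf g → orderOf g = p)
include hexp

theorem pow_eq_one_of_pow {x : G} {k : ℕ} (h : x ^ p ^ k = 1) : x ^ p = 1 := by
  obtain ⟨j, -, hj⟩ := (Nat.dvd_prime_pow hp.1).1 (orderOf_dvd_of_pow_eq_one h)
  cases j with
  | zero =>
    rw [pow_zero, orderOf_eq_one_iff] at hj
    rw [hj, one_pow]
  | succ j =>
    have := hexp x (by rw [hj, pow_succ]; exact dvd_mul_left _ _)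
    rw [← this, pow_orderOf_eq_one]

/-- The centralizer of an element of order `p` has exponent `p`. -/
theorem pow_eq_one_of_commute {x y : G} (hx : x ≠ 1) (hxp : x ^ p = 1) (hc : Commute x y) :
    y ^ p = 1 := by
  by_cases hy : p ∣ orderOf y
  · rw [← hexp y hy, pow_orderOf_eq_one]
  have ho : orderOf x = p := orderOf_eq_prime hxp hx
  have hm := hc.orderOf_mul_eq_mul_orderOf_of_coprime (by rw [ho]; exact hp.1.coprime_iff_not_dvd.2 hy)
  rw [ho] at hm
  have := hexp (x * y) (hm ▸ dvd_mul_right _ _)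
  rw [hm] at this
  have h1 : orderOf y = 1 := by
    simpa [hp.1.ne_zero] using this
  rw [orderOf_eq_one_iff.1 h1, one_pow]

/-- An element of order prime to `p` commutes with no element of order `p`. -/
theorem eq_one_of_commute {x y : G} (hxp : x ^ p = 1) {n : ℕ} (hn : ¬ p ∣ n) (hyn : y ^ n = 1)
    (hy : y ≠ 1) (hc : Commute x y) : x = 1 := by
  by_contra hx
  have h1 : orderOf y = p :=
    orderOf_eq_prime (pow_eq_one_of_commute hexp hx hxp hc) hy
  exact hn (h1 ▸ orderOf_dvd_of_pow_eq_one hyn)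

omit hexp [Finite G] in
/-- The power of a product with an element of an abelian normalised subgroup. -/
theorem mul_pow_eq {V : Subgroup G} [IsMulCommutative V] (v : V)
    (w : Subgroup.normalizer (V : Set G)) (n : ℕ) :
    ((v : G) * w) ^ n =
      ((open scoped IsMulCommutative in
        ∏ i ∈ range n, V.normalizerMonoidHom (w ^ i) v : V) : G) * (w : G) ^ n := by
  open scoped IsMulCommutative in
  induction n with
  | zero => simp
  | succ n ih =>
    rw [prod_range_succ, pow_succ, ih, Subgroup.coe_mul, Subgroup.normalizerMonoidHom_apply_apply_coe,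
      SubmonoidClass.coe_pow, pow_succ]
    group

open scoped IsMulCommutative in
theorem norm_pgroup_eq_one {V : Subgroup G} [IsMulCommutative V] (hVp : ∀ v ∈ V, v ^ p = 1)
    {w : Subgroup.normalizer (V : Set G)} (hw : w ^ p = 1) (v : V) :
    ∏ i ∈ range p, V.normalizerMonoidHom (w ^ i) v = 1 := by
  have hw' : (w : G) ^ p = 1 := by rw [← SubmonoidClass.coe_pow, hw]; rfl
  have h := mul_pow_eq v w p
  rw [hw', mul_one] at h
  have h2 : ((v : G) * w) ^ p ^ 2 = 1 := by
    rw [sq, pow_mul, h, hVp _ (SetLike.coe_mem _)]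
  have h3 := pow_eq_one_of_pow hexp h2
  rw [h] at h3
  exact Subtype.ext h3

theorem closed_of_normalizes {V : Subgroup G} [IsMulCommutative V] (hV : V ≠ ⊥)
    (hVp : ∀ v ∈ V, v ^ p = 1) (hp2 : p ≠ 2) :
    ∀ X : Subgroup G, X ≤ Subgroup.normalizer (V : Set G) →
      ∀ a ∈ X, ∀ b ∈ X, a ^ p = 1 → b ^ p = 1 → (a * b) ^ p = 1 := by
  classical
  open scoped IsMulCommutative in
  intro X
  induction hn : Nat.card X using Nat.strong_induction_on generalizing X with
  | _ n ih =>
    intro hX a ha b hb hap hbp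
    obtain ⟨v₀, hv₀V, hv₀⟩ := (Subgroup.bot_or_exists_ne_one V).resolve_left hV
    have hv₀p : v₀ ^ p = 1 := hVp _ hv₀V
    have hfpf : ∀ (y : G) (m : ℕ), ¬ p ∣ m → y ^ m = 1 → y ≠ 1 → ∀ v ∈ V, Commute v y → v = 1 :=
      fun y m hm hym hy v hv hc => eq_one_of_commute hexp (hVp v hv) hm hym hy hc
    have hconjV : ∀ g ∈ X, ∀ v ∈ V, g * v * g⁻¹ ∈ V := fun g hg v hv =>
      (Subgroup.mem_normalizer_iff.1 (hX hg) v).1 hv
    by_cases h2 : 2 ∣ Nat.card X
    · -- an involution inverts `V`
      obtain ⟨t', ht'⟩ := exists_prime_orderOf_dvd_card' 2 h2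
      set t : G := (t' : G) with htdef
      have htX : t ∈ X := t'.2
      have hto : orderOf t = 2 := by rw [htdef, Subgroup.orderOf_coe]; exact ht'
      have ht2 : t * t = 1 := by rw [← sq, ← hto, pow_orderOf_eq_one]
      have ht1 : t ≠ 1 := fun h => by rw [h, orderOf_one] at hto; omega
      have hp2' : ¬ p ∣ 2 := fun h => hp2 ((Nat.prime_dvd_prime_iff_eq hp.1 Nat.prime_two).1 h)
      have hinv : ∀ s ∈ X, s * s = 1 → s ≠ 1 → ∀ v ∈ V, s * v * s⁻¹ = v⁻¹ := by
        intro s hs hs2 hs1 v hv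
        have hsv := hconjV s hs v hv
        have hcomm : v * (s * v * s⁻¹) = s * v * s⁻¹ * v :=
          congrArg Subtype.val (mul_comm' (⟨v, hv⟩ : V) ⟨_, hsv⟩)
        have hsi : s⁻¹ = s := inv_eq_of_mul_eq_one_right hs2
        have hw : v * (s * v * s⁻¹) = 1 := by
          refine hfpf s 2 hp2' (by rw [sq, hs2]) hs1 _ (V.mul_mem hv hsv) ?_
          show v * (s * v * s⁻¹) * s = s * (v * (s * v * s⁻¹))
          nth_rw 2 [hcomm]
          rw [hsi]
          calc v * (s * v * s) * s = v * s * v * (s * s) := by group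
            _ = s * s * v * s * v := by rw [hs2]; simp
            _ = s * (s * v * s * v) := by group
        exact eq_inv_of_mul_eq_one_right hw
      have hcent : ∀ g ∈ X, g ^ p = 1 → ∀ v ∈ V, Commute g v := by
        intro g hg hgp v hv
        set s := g * t * g⁻¹ with hsdef
        have hsX : s ∈ X := X.mul_mem (X.mul_mem hg htX) (X.inv_mem hg)
        have hs2 : s * s = 1 := by
          rw [hsdef, show g * t * g⁻¹ * (g * t * g⁻¹) = g * (t * t) * g⁻¹ by group, ht2]; group
        have hs1 : s ≠ 1 := fun h => ht1 (by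
          rw [hsdef] at h; exact (mul_inv_eq_one.1 h |> fun h => mul_eq_left.1 h))
        set c := t * s with hcdef
        have hcv : ∀ w ∈ V, Commute c w := fun w hw => by
          have h1 : c * w * c⁻¹ = w := by
            rw [hcdef, show t * s * w * (t * s)⁻¹ = t * (s * w * s⁻¹) * t⁻¹ by group,
              hinv s hsX hs2 hs1 w hw, hinv t htX ht2 ht1 _ (V.inv_mem hw), inv_inv]
          exact mul_inv_eq_iff_eq_mul.1 h1
        have hcp : c ^ p = 1 := pow_eq_one_of_commute hexp hv₀ hv₀p (hcv _ hv₀V).symm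
        have htc : t * c * t⁻¹ = c⁻¹ := by
          rw [hcdef, mul_inv_rev, inv_eq_of_mul_eq_one_right ht2, inv_eq_of_mul_eq_one_right hs2]
          rw [← mul_assoc, ← mul_assoc, ht2, one_mul]
        obtain ⟨j, hj⟩ : ∃ j, p = 2 * j + 1 := hp.1.odd_of_ne_two hp2
        set e := c ^ j with hedef
        have hte : t * e * t⁻¹ = e⁻¹ := by rw [hedef, ← conj_pow, htc, inv_pow]
        have hee : (e⁻¹ * e⁻¹) = c := by
          rw [← mul_inv_rev, inv_eq_iff_mul_eq_one, hedef, ← pow_add, ← pow_succ,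
            show j + j + 1 = p by omega, hcp]
        have het : e * t * e⁻¹ = s := by
          have h' : e * t = t * e⁻¹ := by
            have := congrArg (fun z => t * z) hte
            simp only [← mul_assoc, ht2, one_mul] at this
            rw [← this, inv_eq_of_mul_eq_one_right ht2]
          rw [h', mul_assoc, hee, hcdef, ← mul_assoc, ht2, one_mul]
        have hg' : Commute (e⁻¹ * g) t := by
          have h' : e * t * e⁻¹ = g * t * g⁻¹ := het
          calc e⁻¹ * g * t = e⁻¹ * (g * t * g⁻¹) * g := by group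
            _ = t * (e⁻¹ * g) := by rw [← h']; group
        have hev : ∀ w ∈ V, Commute e w := fun w hw => (hcv w hw).pow_left j
        have hgp' : (e⁻¹ * g) ^ p = 1 := by
          have hact : ∀ (m : ℕ), ∀ w ∈ V,
              (e⁻¹ * g) ^ m * w * ((e⁻¹ * g) ^ m)⁻¹ = g ^ m * w * (g ^ m)⁻¹ := by
            intro m
            induction m with
            | zero => simp
            | succ m ihm =>
              intro w hw
              have h1 : e⁻¹ * g * w * (e⁻¹ * g)⁻¹ = g * w * g⁻¹ := by
                have hgw : g * w * g⁻¹ ∈ V := hconjV g hg w hw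
                calc e⁻¹ * g * w * (e⁻¹ * g)⁻¹ = e⁻¹ * ((g * w * g⁻¹) * e) := by group
                  _ = _ := by rw [← (hev _ hgw).eq, inv_mul_cancel_left]
              rw [pow_succ, pow_succ]
              calc (e⁻¹ * g) ^ m * (e⁻¹ * g) * w * ((e⁻¹ * g) ^ m * (e⁻¹ * g))⁻¹
                  = (e⁻¹ * g) ^ m * (e⁻¹ * g * w * (e⁻¹ * g)⁻¹) * ((e⁻¹ * g) ^ m)⁻¹ := by group
                _ = _ := by rw [h1, ihm _ (hconjV g hg w hw)]; group
          have h1 := hact p v₀ hv₀V
          rw [hgp, one_mul, inv_one, mul_one] at h1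
          refine pow_eq_one_of_pow hexp (k := 2) ?_
          rw [sq, pow_mul]
          exact pow_eq_one_of_commute hexp hv₀ hv₀p (mul_inv_eq_iff_eq_mul.1 h1).symm
        have := eq_one_of_commute hexp hgp' hp2' (by rw [sq, ht2]) ht1 hg'
        rw [← inv_mul_eq_one.1 this]
        exact hev v hv
      exact pow_eq_one_of_commute hexp hv₀ hv₀p
        ((hcent a ha hap _ hv₀V).mul_left (hcent b hb hbp _ hv₀V)).symm
    by_cases hpow : ∀ r, r.Prime → r ∣ Nat.card X → r = p
    · have hX1 : Nat.card X ≠ 0 := Nat.card_pos.ne'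
      have hfac : Nat.card X = p ^ (Nat.card X).primeFactorsList.length :=
        Nat.eq_prime_pow_of_unique_prime_dvd hX1 fun {d} hd hdd => hpow d hd hdd
      refine pow_eq_one_of_pow hexp (k := (Nat.card X).primeFactorsList.length) ?_
      rw [← hfac]
      exact congrArg Subtype.val (pow_card_eq_one' (G := X) (x := ⟨a * b, X.mul_mem ha hb⟩))
    have hexr : ∃ r, r.Prime ∧ r ∣ Nat.card X ∧ r ≠ p := by
      push Not at hpow; exact hpow
    let r := Nat.find hexr
    obtain ⟨hr, hrX, hrp⟩ : r.Prime ∧ r ∣ Nat.card X ∧ r ≠ p := Nat.find_spec hexr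
    haveI := Fact.mk hr
    have hr2 : r ≠ 2 := fun h => h2 (h ▸ hrX)
    have hpr : ¬ p ∣ r := fun h => hrp ((Nat.prime_dvd_prime_iff_eq hp.1 hr).1 h).symm
    let φ : X →* MulAut V := V.normalizerMonoidHom.comp (Subgroup.inclusion hX)
    have hφ : ∀ (g : X) (v : V), (φ g v : G) = (g : G) * v * (g : G)⁻¹ := fun g v => rfl
    have hφfix : ∀ (g : X) (m : ℕ), ¬ p ∣ m → g ^ m = 1 → g ≠ 1 → ∀ v, φ g v = v → v = 1 := by
      intro g m hm hgm hg v hv
      refine Subtype.ext (hfpf g m hm (congrArg Subtype.val hgm) (fun h => hg (Subtype.ext h)) v v.2 ?_)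
      have := congrArg Subtype.val hv
      rw [hφ] at this
      exact (mul_inv_eq_iff_eq_mul.1 this).symm
    have hVr : ∀ v : V, v ^ r = 1 → v = 1 := fun v hv => by
      have hvp : v ^ p = 1 := Subtype.ext (hVp v v.2)
      have := pow_gcd_eq_one.2 ⟨hv, hvp⟩
      rwa [(Nat.coprime_primes hr hp.1).2 hrp, pow_one] at this
    obtain ⟨R⟩ : Nonempty (Sylow r X) := inferInstance
    have hRne : (R : Subgroup X) ≠ ⊥ := R.ne_bot_of_dvd_card hrX
    haveI : Nontrivial R := (Subgroup.nontrivial_iff_ne_bot _).2 hRne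
    have hRp : IsPGroup r R := R.2
    have hcyc : IsCyclic R := by
      obtain ⟨z, hz⟩ := exists_prime_orderOf_dvd_card' r
        ((hRp.to_subgroup (Subgroup.center R)).card_eq_or_dvd.resolve_left (fun h =>
          (ne_of_gt (Finite.one_lt_card_iff_nontrivial.2 hRp.center_nontrivial)) h))
      set z₀ : R := (z : R)
      have hz₀ : orderOf z₀ = r := (Subgroup.orderOf_coe z).trans hz
      have hzr : z₀ ^ r = 1 := orderOf_dvd_iff_pow_eq_one.1 (dvd_of_eq hz₀)
      have hall : ∀ H : Subgroup R, Nat.card H = r → H = Subgroup.zpowers z₀ := by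
        intro H hH
        by_contra hne
        have hle : ¬ Subgroup.zpowers z₀ ≤ H := fun h => hne (Subgroup.eq_of_le_of_card_ge h
          (le_of_eq (hH.trans (by rw [Nat.card_zpowers, hz₀])))).symm
        obtain ⟨h, hh⟩ := exists_prime_orderOf_dvd_card' r (dvd_of_eq hH.symm)
        set h₀ : R := (h : R)
        have hh₀ : orderOf h₀ = r := (Subgroup.orderOf_coe h).trans hh
        have hhr : h₀ ^ r = 1 := orderOf_dvd_iff_pow_eq_one.1 (dvd_of_eq hh₀)
        have hHz : H = Subgroup.zpowers h₀ := (Subgroup.eq_of_le_of_card_ge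
          (Subgroup.zpowers_le.2 h.2) (by rw [hH, Nat.card_zpowers, hh₀])).symm
        have hzh : z₀ ∉ H := fun e => hle (Subgroup.zpowers_le.2 e)
        have hc : Commute z₀ h₀ := (Subgroup.mem_center_iff.1 z.2 h₀).symm
        refine hv₀ (congrArg Subtype.val (hVr ⟨v₀, hv₀V⟩ (pow_eq_one_of_rank_two φ hr
          (a := (z₀ : X)) (b := (h₀ : X)) ?_ ?_ ?_ ?_ _)))
        · exact congrArg Subtype.val hhr
        · exact congrArg Subtype.val hc
        · refine hφfix _ r hpr ?_ ?_
          · exact congrArg Subtype.val hhr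
          · intro e
            have : h₀ = 1 := Subtype.ext e
            rw [this, orderOf_one] at hh₀
            exact hr.ne_one hh₀.symm
        · intro j
          have hpw : (z₀ * h₀ ^ j) ^ r = 1 := by
            rw [(hc.pow_right j).mul_pow, hzr, one_mul, ← pow_mul,
              mul_comm, pow_mul, hhr, one_pow]
          have hX' : ((z₀ : X) * (h₀ : X) ^ j) ^ r = 1 := congrArg Subtype.val hpw
          refine ⟨hX', hφfix _ r hpr hX' fun e => hzh ?_⟩
          have e' : z₀ * h₀ ^ j = 1 := Subtype.ext e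
          rw [eq_inv_of_mul_eq_one_left e', hHz]
          exact inv_mem (Subgroup.npow_mem_zpowers _ _)
      rcases PGroupsCyclic.isCyclic_or_quaternion hRp
        (fun H K hH hK => (hall H hH).trans (hall K hK).symm) with h | ⟨h, -⟩
      · exact h
      · exact absurd h hr2
    obtain ⟨m, hm⟩ := hRp.exists_card_eq
    have hm0 : m ≠ 0 := fun h => by
      rw [h, pow_zero] at hm
      exact hRne (Subgroup.card_eq_one.1 hm)
    obtain ⟨m, rfl⟩ : ∃ m', m = m' + 1 := ⟨m - 1, by omega⟩
    have hN : Subgroup.normalizer ((R : Subgroup X) : Set X) ≤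
        Subgroup.centralizer ((R : Subgroup X) : Set X) := by
      intro g₀ hg₀
      -- reduce to elements of prime power order
      set C : Subgroup (Subgroup.normalizer ((R : Subgroup X) : Set X)) :=
        (Subgroup.centralizer ((R : Subgroup X) : Set X)).subgroupOf _ with hC
      suffices hCtop : C = ⊤ by
        have : (⟨g₀, hg₀⟩ : Subgroup.normalizer ((R : Subgroup X) : Set X)) ∈ C := by
          rw [hCtop]; trivial
        exact this
      suffices hpp : ∀ (s : ℕ), s.Prime → ∀ g : Subgroup.normalizer ((R : Subgroup X) : Set X),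
          (∃ k, orderOf g = s ^ k) → g ∈ C by
        refine Subgroup.eq_top_of_card_eq _ (Nat.dvd_antisymm (Subgroup.card_subgroup_dvd_card _) ?_)
        refine (Nat.dvd_iff_prime_pow_dvd_dvd _ _).2 fun s k hs hsk => ?_
        haveI := Fact.mk hs
        obtain ⟨S⟩ : Nonempty (Sylow s (Subgroup.normalizer ((R : Subgroup X) : Set X))) := inferInstance
        refine (S.pow_dvd_card_of_pow_dvd_card hsk).trans (Subgroup.card_dvd_of_le fun g hg => ?_)
        obtain ⟨k, hk⟩ := (IsPGroup.iff_orderOf.1 S.2) ⟨g, hg⟩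
        exact hpp s hs g ⟨k, (Subgroup.orderOf_coe _).symm.trans ((Subgroup.orderOf_coe _).trans ((Subgroup.orderOf_mk g hg).symm.trans hk))⟩
      rintro s hs g ⟨k, hk⟩
      rw [hC, ← Subgroup.normalizerMonoidHom_ker, MonoidHom.mem_ker]
      by_cases hgk : k = 0
      · rw [hgk, pow_zero, orderOf_eq_one_iff] at hk
        rw [hk, map_one]
      have hgo : orderOf (g : X) = s ^ k := by rw [Subgroup.orderOf_coe]; exact hk
      have hsX : s ∣ Nat.card X := (dvd_pow_self s hgk).trans (hgo ▸ orderOf_dvd_natCard _)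
      rcases eq_or_ne s r with rfl | hsr
      · -- inside `R`
        have hgR : (g : X) ∈ (R : Subgroup X) := by
          have hpg : IsPGroup r (Subgroup.zpowers (g : X)) :=
            IsPGroup.of_card (n := k) (by rw [Nat.card_zpowers, hgo])
          have := hpg.inf_normalizer_sylow R
          exact (this.le ⟨Subgroup.mem_zpowers _, g.2⟩).2
        rw [← MonoidHom.mem_ker, Subgroup.normalizerMonoidHom_ker, Subgroup.mem_subgroupOf,
          Subgroup.mem_centralizer_iff]
        intro x hx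
        exact congrArg Subtype.val (IsCyclic.commGroup.mul_comm (⟨x, hx⟩ : R) ⟨_, hgR⟩)
      rcases eq_or_ne s p with hsp | hsp
      · -- key lemma
        subst s
        have hgp : (g : X) ^ p = 1 := by
          have h1 : ((g : X) : G) ^ p ^ k = 1 := by
            rw [← SubmonoidClass.coe_pow, ← hgo, pow_orderOf_eq_one]; rfl
          exact Subtype.ext (pow_eq_one_of_pow hexp h1)
        suffices hg1 : (g : X) = 1 by
          rw [show g = 1 from Subtype.ext hg1, map_one]
        obtain ⟨w, hw⟩ := hcyc.exists_ofOrder_eq_natCard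
        rw [hm] at hw
        set y : R := w ^ r ^ m with hy
        have hyo : orderOf y = r := by
          rw [hy, orderOf_pow_of_dvd (pow_ne_zero _ hr.ne_zero) (by rw [hw, pow_succ]; exact dvd_mul_right _ _),
            hw, pow_succ, Nat.mul_div_cancel_left _ (pow_pos hr.pos _)]
        have hyX : orderOf (y : X) = r := by rw [Subgroup.orderOf_coe]; exact hyo
        have hyr : (y : X) ^ r = 1 := orderOf_dvd_iff_pow_eq_one.1 (dvd_of_eq hyX)
        have hy1 : (y : X) ≠ 1 := fun h => by rw [h, orderOf_one] at hyX; exact hr.ne_one hyX.symm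
        have hnorm : (g : X) * y * (g : X)⁻¹ ∈ Subgroup.zpowers (y : X) := by
          have hwR : (g : X) * w * (g : X)⁻¹ ∈ (R : Subgroup X) :=
            (Subgroup.mem_normalizer_iff.1 g.2 _).1 w.2
          obtain ⟨i, hi⟩ : (⟨_, hwR⟩ : R) ∈ Subgroup.zpowers w := by
            rw [(Subgroup.eq_top_of_card_eq (Subgroup.zpowers w) (by rw [Nat.card_zpowers, hw, hm]))]
            trivial
          refine ⟨i, ?_⟩
          have hi' : (w : X) ^ i = (g : X) * w * (g : X)⁻¹ := by
            simpa using congrArg Subtype.val hi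
          simp only [hy, SubmonoidClass.coe_pow]
          rw [← conj_pow, ← hi', ← zpow_natCast, ← zpow_natCast, ← zpow_mul, ← zpow_mul, mul_comm]
        have hyG : ((y : X) : G) ^ r = 1 := congrArg Subtype.val hyr
        by_cases hcom : (g : X) * y * (g : X)⁻¹ = y
        · refine Subtype.ext (eq_one_of_commute hexp (congrArg Subtype.val hgp) hpr hyG
            (fun h => hy1 (Subtype.ext h)) ?_)
          exact congrArg Subtype.val (mul_inv_eq_iff_eq_mul.1 hcom)
        · exfalso
          refine hv₀ (congrArg Subtype.val (hVr ⟨v₀, hv₀V⟩ (pow_eq_one_of_frobenius φ hp.1 hr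
            hyX hgp hnorm hcom (hφfix _ r hpr hyr hy1) (fun c _ v => ?_) _)))
          have := norm_pgroup_eq_one hexp hVp (w := Subgroup.inclusion hX (c * g * c⁻¹))
            (by rw [← map_pow, conj_pow, hgp]; simp) v
          simpa [φ] using this
      · -- coprime to the automorphism group
        set σ := (R : Subgroup X).normalizerMonoidHom g
        have h1 : orderOf σ ∣ s ^ k := hk ▸ orderOf_map_dvd _ g
        have h2' : orderOf σ ∣ r ^ m * (r - 1) := by
          have := orderOf_dvd_natCard σ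
          rwa [IsCyclic.card_mulAut, hm, Nat.totient_prime_pow_succ hr] at this
        have hsr' : r < s := lt_of_le_of_ne (Nat.find_min' hexr ⟨hs, hsX, hsp⟩) (Ne.symm hsr)
        have hcop : Nat.Coprime (s ^ k) (r ^ m * (r - 1)) := by
          refine Nat.Coprime.pow_left _ (hs.coprime_iff_not_dvd.2 fun hd => ?_)
          rcases hs.dvd_mul.1 hd with h | h
          · exact hsr ((Nat.prime_dvd_prime_iff_eq hs hr).1 (hs.dvd_of_dvd_pow h))
          · have := Nat.le_of_dvd (by have := hr.two_le; omega) h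
            omega
        exact orderOf_eq_one_iff.1 (Nat.eq_one_of_dvd_coprimes hcop h1 h2')
    haveI : (R : Subgroup X).FiniteIndex := inferInstance
    set f := MonoidHom.transferSylow R hN with hf
    have hcompl : Subgroup.IsComplement' f.ker R := MonoidHom.ker_transferSylow_isComplement' R hN
    have hlt : Nat.card (f.ker.map X.subtype) < n := by
      rw [Subgroup.card_map_of_injective X.subtype_injective, ← hn, ← hcompl.card_mul]
      exact lt_mul_of_one_lt_right Nat.card_pos (Finite.one_lt_card_iff_nontrivial.2 inferInstance)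
    have hmem : ∀ c : G, c ∈ X → c ^ p = 1 → c ∈ f.ker.map X.subtype := by
      intro c hc hcp
      refine ⟨⟨c, hc⟩, ?_, rfl⟩
      show f ⟨c, hc⟩ = 1
      set ρ := f ⟨c, hc⟩
      have h1 : ρ ^ p = 1 := by
        rw [← map_pow, show (⟨c, hc⟩ : X) ^ p = 1 from Subtype.ext hcp, map_one]
      have h2 : ρ ^ Nat.card R = 1 := pow_card_eq_one'
      have := pow_gcd_eq_one.2 ⟨h1, h2⟩
      rwa [hm, Nat.Coprime.pow_right _ ((Nat.coprime_primes hp.1 hr).2 hrp.symm), pow_one] at this
    exact ih _ hlt _ rfl ((Subgroup.map_subtype_le _).trans hX) a (hmem a ha hap) b (hmem b hb hbp)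
      hap hbp

theorem sylow_pow_eq_one (P : Sylow p G) {x : G} (hx : x ∈ (P : Subgroup G)) : x ^ p = 1 := by
  obtain ⟨k, hk⟩ := P.2 ⟨x, hx⟩
  exact pow_eq_one_of_pow hexp (k := k) (congrArg Subtype.val hk)

/-- Sylow `p`-subgroups meet trivially. -/
theorem sylow_ti {P Q : Sylow p G} (hne : P ≠ Q) {x : G} (hxP : x ∈ (P : Subgroup G))
    (hxQ : x ∈ (Q : Subgroup G)) : x = 1 := by
  classical
  by_contra hx
  rcases eq_or_ne p 2 with rfl | hp2
  · -- the centralizer of `x` is an elementary abelian 2-group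
    set C := Subgroup.centralizer ({x} : Set G) with hC
    have hC2 : IsPGroup 2 C := by
      intro g
      refine ⟨1, Subtype.ext ?_⟩
      rw [pow_one]
      exact pow_eq_one_of_commute hexp hx (sylow_pow_eq_one hexp P hxP)
        (Subgroup.mem_centralizer_singleton_iff.1 g.2).symm
    have hab : ∀ S : Sylow 2 G, x ∈ (S : Subgroup G) → (S : Subgroup G) ≤ C := by
      intro S hxS g hg
      rw [hC, Subgroup.mem_centralizer_singleton_iff]
      have h1 : ∀ y ∈ (S : Subgroup G), y⁻¹ = y := fun y hy =>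
        inv_eq_of_mul_eq_one_right (by rw [← sq]; exact sylow_pow_eq_one hexp S hy)
      calc g * x = (g * x)⁻¹ := (h1 _ (mul_mem hg hxS)).symm
        _ = x * g := by rw [mul_inv_rev, h1 g hg, h1 x hxS]
    obtain ⟨S, hS⟩ := hC2.exists_le_sylow
    exact hne ((Sylow.ext (P.3 S.2 ((hab P hxP).trans hS))).symm.trans
      (Sylow.ext (Q.3 S.2 ((hab Q hxQ).trans hS))))
  let pairs := {PQ : Sylow p G × Sylow p G // PQ.1 ≠ PQ.2}
  haveI : Nonempty pairs := ⟨⟨(P, Q), hne⟩⟩
  obtain ⟨⟨⟨A, B⟩, hAB⟩, hmax⟩ := Finite.exists_max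
    (fun PQ : pairs => Nat.card ↥((PQ.1.1 : Subgroup G) ⊓ (PQ.1.2 : Subgroup G)))
  simp only [ne_eq] at hAB hmax
  set D : Subgroup G := (A : Subgroup G) ⊓ (B : Subgroup G) with hD
  have hD1 : 1 < Nat.card D := by
    refine lt_of_lt_of_le ?_ (hmax ⟨(P, Q), hne⟩)
    exact Finite.one_lt_card_iff_nontrivial.2
      ⟨⟨⟨x, hxP, hxQ⟩, 1, fun h => hx (congrArg Subtype.val h)⟩⟩
  have hDp : IsPGroup p D := A.2.to_le inf_le_left
  set V : Subgroup G := D ⊓ Subgroup.centralizer (D : Set G) with hVdef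
  haveI : IsMulCommutative V := ⟨⟨fun a b => Subtype.ext
    ((Subgroup.mem_centralizer_iff.1 b.2.2 a a.2.1))⟩⟩
  have hVne : V ≠ ⊥ := by
    haveI : Nontrivial D := Finite.one_lt_card_iff_nontrivial.1 hD1
    haveI := hDp.center_nontrivial
    obtain ⟨z, hz⟩ := exists_ne (1 : Subgroup.center D)
    intro h
    refine hz (Subtype.ext (Subtype.ext ?_))
    have hzV : ((z : D) : G) ∈ V := ⟨(z : D).2, Subgroup.mem_centralizer_iff.2 fun g hg =>
      congrArg Subtype.val (Subgroup.mem_center_iff.1 z.2 ⟨g, hg⟩)⟩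
    rw [h, Subgroup.mem_bot] at hzV
    exact hzV
  have hVp : ∀ v ∈ V, v ^ p = 1 := fun v hv => sylow_pow_eq_one hexp A hv.1.1
  set T := Subgroup.normalizer (D : Set G) with hT
  have hTV : T ≤ Subgroup.normalizer (V : Set G) := by
    have key : ∀ g ∈ T, ∀ v ∈ V, g * v * g⁻¹ ∈ V := by
      intro g hg v hv
      have hmem := Subgroup.mem_normalizer_iff.1 hg
      refine ⟨(hmem v).1 hv.1, Subgroup.mem_centralizer_iff.2 fun d hd => ?_⟩
      have hd' : g⁻¹ * d * g ∈ D := (hmem _).2 (by simpa [mul_assoc] using hd)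
      have := Subgroup.mem_centralizer_iff.1 hv.2 _ hd'
      calc d * (g * v * g⁻¹) = g * (g⁻¹ * d * g * v) * g⁻¹ := by group
        _ = g * v * g⁻¹ * d := by rw [this]; group
    intro g hg
    rw [Subgroup.mem_normalizer_iff]
    refine fun v => ⟨key g hg v, fun hv => ?_⟩
    have := key g⁻¹ (inv_mem hg) _ hv
    rwa [inv_inv, show g⁻¹ * (g * v * g⁻¹) * g = v by group] at this
  have hcl := closed_of_normalizes hexp hVne hVp hp2 T hTV
  let W : Subgroup G :=
    { carrier := {a | a ∈ T ∧ a ^ p = 1}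
      one_mem' := ⟨one_mem _, one_pow _⟩
      mul_mem' := fun {a b} ha hb => ⟨mul_mem ha.1 hb.1, hcl a ha.1 b hb.1 ha.2 hb.2⟩
      inv_mem' := fun {a} ha => ⟨inv_mem ha.1, by rw [inv_pow, ha.2, inv_one]⟩ }
  have hWp : IsPGroup p W := fun g => ⟨1, Subtype.ext (by rw [pow_one]; exact g.2.2)⟩
  obtain ⟨S, hS⟩ := hWp.exists_le_sylow
  have hgt : ∀ E : Sylow p G, D ≤ (E : Subgroup G) → D ≠ (E : Subgroup G) → E = S := by
    intro E hle hneD
    by_contra hES
    have hlt : D.subgroupOf (E : Subgroup G) < ⊤ := lt_top_iff_ne_top.2 fun h =>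
      hneD (le_antisymm hle (Subgroup.subgroupOf_eq_top.1 h))
    haveI : Group.IsNilpotent (E : Subgroup G) := E.2.isNilpotent
    obtain ⟨-, e, he, heD⟩ := SetLike.lt_iff_le_and_exists.1
      (normalizerCondition_of_isNilpotent _ hlt)
    have heT : (e : G) ∈ T := by
      rw [hT, Subgroup.mem_normalizer_iff]
      intro d
      constructor
      · intro hd
        exact (Subgroup.mem_normalizer_iff.1 he ⟨d, hle hd⟩).1 hd
      · intro hd
        have hdE : d ∈ (E : Subgroup G) := by
          have := mul_mem (mul_mem (inv_mem e.2) (hle hd)) e.2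
          simpa [mul_assoc] using this
        exact (Subgroup.mem_normalizer_iff.1 he ⟨d, hdE⟩).2 hd
    have hsub : D ≤ (E : Subgroup G) ⊓ (S : Subgroup G) := fun d hd =>
      ⟨hle hd, hS ⟨Subgroup.le_normalizer hd, sylow_pow_eq_one hexp E (hle hd)⟩⟩
    have heS : (e : G) ∈ (E : Subgroup G) ⊓ (S : Subgroup G) :=
      ⟨e.2, hS ⟨heT, sylow_pow_eq_one hexp E e.2⟩⟩
    have := hmax ⟨(E, S), hES⟩
    have heq := Subgroup.eq_of_le_of_card_ge hsub this
    exact heD (show (e : G) ∈ D from heq ▸ heS)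
  have hA : D ≠ (A : Subgroup G) := fun h => hAB (Sylow.ext
    (A.3 B.2 (h ▸ inf_le_right : (A : Subgroup G) ≤ B))).symm
  have hB : D ≠ (B : Subgroup G) := fun h => hAB (Sylow.ext
    (B.3 A.2 (h ▸ inf_le_left : (B : Subgroup G) ≤ A)))
  exact hAB ((hgt A inf_le_left hA).trans (hgt B inf_le_right hB).symm)

end Cfsg.Agent.PSLSpectrum99
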