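import Cfsg.Agent.Lib.PermBasic

/-!
Finite sharply 2-transitive groups: the fixed-point-free elements together with the identity
form an elementary abelian regular normal subgroup.
-/

namespace Cfsg.Agent.SharplyTwoTransitive

open MulAction

universe u v

variable {G : Type u} [Group G] [Finite G] {X : Type v} [Finite X] [MulAction G X]

/-- Structure theorem for sharply 2-transitive groups. -/
theorem kernel_exists (h2 : IsMultiplyPretransitive G X 2)
    (hsharp : ∀ (g : G) (a b : X), a ≠ b → g • a = a → g • b = b → g = 1) (hn : 2 ≤ Nat.card X) :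
    ∃ (K : Subgroup G) (p j : ℕ), p.Prime ∧ 1 ≤ j ∧ Nat.card X = p ^ j ∧ Nat.card K = p ^ j ∧
      Nat.card G = p ^ j * (p ^ j - 1) ∧ K.Normal ∧ (∀ x ∈ K, ∀ y ∈ K, x * y = y * x) ∧
      (∀ x ∈ K, x ^ p = 1) ∧ (∀ g : G, g ∈ K ↔ g = 1 ∨ ∀ a : X, g • a ≠ a) ∧
      IsPretransitive K X := by
  classical
  have := Fintype.ofFinite G
  have := Fintype.ofFinite X
  haveI : IsPretransitive G X := isPretransitive_of_is_two_pretransitive (h2 := h2)
  set n := Nat.card X with hndef
  haveI : Nontrivial X := Finite.one_lt_card_iff_nontrivial.mp (by omega)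
  -- the order of a point stabiliser
  have hstab : ∀ a : X, Nat.card (stabilizer G a) = n - 1 := by
    intro a
    obtain ⟨b, hb⟩ := exists_ne a
    have hbij : Function.Bijective
        (fun g : stabilizer G a => (⟨(g : G) • b, fun e => hb (MulAction.injective (g : G)
          (e.trans g.2.symm))⟩ : {x : X // x ≠ a})) := by
      constructor
      · intro g k h
        have h' : (g : G) • b = (k : G) • b := congrArg Subtype.val h
        apply Subtype.ext
        have h1 : (k : G)⁻¹ * g = 1 := hsharp _ a b hb.symm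
          (by rw [mul_smul, g.2, inv_smul_eq_iff]; exact k.2.symm)
          (by rw [mul_smul, h', inv_smul_smul])
        exact (inv_mul_eq_one.mp h1).symm
      · rintro ⟨x, hx⟩
        obtain ⟨g, hga, hgb⟩ := (is_two_pretransitive_iff.mp h2) hb.symm (Ne.symm hx)
        exact ⟨⟨g, hga⟩, Subtype.ext hgb⟩
    rw [Nat.card_eq_of_bijective _ hbij, Nat.card_eq_fintype_card, Fintype.card_subtype_compl,
      Fintype.card_subtype_eq, hndef, Nat.card_eq_fintype_card]
  obtain ⟨a₀⟩ : Nonempty X := inferInstance
  have hG : Nat.card G = n * (n - 1) := by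
    rw [← PermBasic.card_mul_card_stabilizer (G := G) a₀, hstab]
  -- the fixed-point-free elements
  let F : Finset G := Finset.univ.filter fun g => ∀ a : X, g • a ≠ a
  have hFmem : ∀ g, g ∈ F ↔ ∀ a : X, g • a ≠ a := fun g => by simp [F]
  have hF : F.card = n - 1 := by
    have hb := sum_card_fixedBy_eq_card_orbits_mul_card_group G X
    have hone : Fintype.card (Quotient (orbitRel G X)) = 1 := by
      rw [Fintype.card_eq_one_iff]
      refine ⟨Quotient.mk'' a₀, fun q => ?_⟩
      induction q using Quotient.inductionOn' with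
      | h x => exact Quotient.sound' (exists_smul_eq G a₀ x)
    rw [hone, one_mul] at hb
    have hfix : ∀ g : G, g ≠ 1 → Fintype.card (fixedBy X g) = if g ∈ F then 0 else 1 := by
      intro g hg
      split_ifs with h
      · rw [Fintype.card_eq_zero_iff]
        exact ⟨fun x => (hFmem g).mp h x.1 x.2⟩
      · rw [hFmem] at h
        push Not at h
        obtain ⟨a, ha⟩ := h
        rw [Fintype.card_eq_one_iff]
        refine ⟨⟨a, ha⟩, fun x => Subtype.ext ?_⟩
        by_contra hne
        exact hg (hsharp g x.1 a hne x.2 ha)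
    have h1 : Fintype.card (fixedBy X (1 : G)) = n := by
      rw [hndef, Nat.card_eq_fintype_card]
      exact Fintype.card_congr ((Equiv.setCongr (by ext x; simp)).trans (Equiv.Set.univ X))
    rw [← Finset.add_sum_erase _ _ (Finset.mem_univ (1 : G)), h1,
      Finset.sum_congr rfl (fun g hg => hfix g (Finset.mem_erase.mp hg).1)] at hb
    have hsum : ∑ g ∈ (Finset.univ.erase (1 : G)), (if g ∈ F then 0 else 1) + F.card
        = (Finset.univ.erase (1 : G)).card := by
      have hsub : F = (Finset.univ.erase (1 : G)).filter (· ∈ F) := by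
        ext g
        simp only [Finset.mem_filter, Finset.mem_erase, Finset.mem_univ, and_true]
        refine ⟨fun h => ⟨fun e => ?_, h⟩, fun h => h.2⟩
        subst e
        exact (hFmem 1).mp h a₀ (one_smul _ _)
      conv_lhs => rw [hsub]
      rw [Finset.card_filter, ← Finset.sum_add_distrib, Finset.card_eq_sum_ones]
      refine Finset.sum_congr rfl fun g hg => ?_
      have : g ≠ 1 := (Finset.mem_erase.mp hg).1
      by_cases h : g ∈ F <;> simp [h, this]
    rw [Finset.card_erase_of_mem (Finset.mem_univ _), Finset.card_univ,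
      ← Nat.card_eq_fintype_card, hG] at hsum
    rw [← Nat.card_eq_fintype_card (α := G), hG] at hb
    have hmul : 1 ≤ n * (n - 1) := Nat.one_le_iff_ne_zero.mpr (by
      refine Nat.mul_ne_zero ?_ ?_ <;> omega)
    omega
  -- an element of prime order dividing the degree
  set p := n.minFac with hpdef
  have hp : p.Prime := Nat.minFac_prime (by omega)
  haveI : Fact p.Prime := ⟨hp⟩
  have hpn : p ∣ n := Nat.minFac_dvd n
  have hpn1 : ¬ p ∣ n - 1 := fun h => by
    have := Nat.dvd_sub hpn h
    rw [show n - (n - 1) = 1 by omega] at this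
    exact hp.one_lt.ne' (Nat.dvd_one.mp this)
  obtain ⟨x, hx⟩ := exists_prime_orderOf_dvd_card' (G := G) p (hG ▸ dvd_mul_of_dvd_left hpn _)
  have hxF : x ∈ F := by
    rw [hFmem]
    intro a ha
    apply hpn1
    rw [← hstab a, ← hx]
    exact Subgroup.orderOf_dvd_natCard _ ha
  -- centralisers of fixed-point-free elements are semiregular
  have hfree : ∀ y ∈ F, ∀ c : G, c * y = y * c → ∀ a : X, c • a = a → c = 1 := by
    intro y hy c hc a ha
    refine hsharp c a (y • a) (Ne.symm ((hFmem y).mp hy a)) ha ?_
    rw [← mul_smul, hc, mul_smul, ha]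
  have hcent : ∀ y ∈ F, Nat.card (Subgroup.centralizer ({y} : Set G)) ≤ n := fun y hy =>
    Nat.card_le_card_of_injective (fun c => (c : G) • a₀) (fun c d hcd => by
      simp only at hcd
      apply Subtype.ext
      have h1 := hfree y hy ((d⁻¹ * c : Subgroup.centralizer ({y} : Set G)) : G)
        (Subgroup.mem_centralizer_singleton_iff.mp (d⁻¹ * c).2) a₀
        (by rw [Subgroup.coe_mul, Subgroup.coe_inv, mul_smul, hcd, inv_smul_smul])
      rw [Subgroup.coe_mul, Subgroup.coe_inv, inv_mul_eq_one] at h1
      exact h1.symm)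
  have hconjF : ∀ (g : G), ∀ y ∈ F, g * y * g⁻¹ ∈ F := by
    intro g y hy
    rw [hFmem] at hy ⊢
    intro a ha
    rw [mul_smul, mul_smul, smul_eq_iff_eq_inv_smul] at ha
    exact hy _ ha
  have hconj : Set.range (fun g : G => g * x * g⁻¹) = (F : Set G) ∧
      Nat.card (Subgroup.centralizer ({x} : Set G)) = n := by
    have hsub : Set.range (fun g : G => g * x * g⁻¹) ⊆ (F : Set G) := by
      rintro _ ⟨g, rfl⟩; exact hconjF g x hxF
    let φ : G ⧸ Subgroup.centralizer ({x} : Set G) → Set.range (fun g : G => g * x * g⁻¹) :=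
      Quotient.lift (fun g => ⟨g * x * g⁻¹, g, rfl⟩) (fun g h hgh => by
        have h1 : g⁻¹ * h ∈ Subgroup.centralizer ({x} : Set G) := QuotientGroup.leftRel_apply.mp hgh
        rw [Subgroup.mem_centralizer_singleton_iff] at h1
        apply Subtype.ext
        simp only
        calc g * x * g⁻¹ = g * (x * (g⁻¹ * h)) * h⁻¹ := by group
          _ = g * ((g⁻¹ * h) * x) * h⁻¹ := by rw [h1]
          _ = h * x * h⁻¹ := by group)
    have hφ : Function.Bijective φ := by
      constructor
      · rintro ⟨g⟩ ⟨h⟩ e
        apply QuotientGroup.eq.mpr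
        rw [Subgroup.mem_centralizer_singleton_iff]
        have e' : g * x * g⁻¹ = h * x * h⁻¹ := congrArg Subtype.val e
        calc g⁻¹ * h * x = g⁻¹ * (h * x * h⁻¹) * h := by group
          _ = g⁻¹ * (g * x * g⁻¹) * h := by rw [e']
          _ = x * (g⁻¹ * h) := by group
      · rintro ⟨_, g, rfl⟩; exact ⟨QuotientGroup.mk g, rfl⟩
    have h1 := Subgroup.card_eq_card_quotient_mul_card_subgroup (Subgroup.centralizer ({x} : Set G))
    rw [Nat.card_eq_of_bijective φ hφ, Nat.card_coe_set_eq, hG] at h1
    have h2' : (Set.range (fun g : G => g * x * g⁻¹)).ncard ≤ n - 1 := by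
      rw [← hF, ← Set.ncard_coe_finset]
      exact Set.ncard_le_ncard hsub (Finset.finite_toSet F)
    have h3 := hcent x hxF
    set r := (Set.range (fun g : G => g * x * g⁻¹)).ncard with hr
    set c := Nat.card (Subgroup.centralizer ({x} : Set G)) with hc
    have hr' : r = n - 1 := by
      by_contra hne
      have : r * c < n * (n - 1) := calc
        r * c ≤ r * n := Nat.mul_le_mul_left r h3
        _ < (n - 1) * n := Nat.mul_lt_mul_of_pos_right (by omega) (by omega)
        _ = n * (n - 1) := mul_comm _ _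
      omega
    refine ⟨Set.eq_of_subset_of_ncard_le hsub ?_ (Finset.finite_toSet F), ?_⟩
    · rw [Set.ncard_coe_finset, hF, ← hr, hr']
    · rw [hr'] at h1
      rw [mul_comm n] at h1
      exact (Nat.eq_of_mul_eq_mul_left (by omega) h1).symm
  obtain ⟨hrange, hK⟩ := hconj
  set K := Subgroup.centralizer ({x} : Set G) with hKdef
  have hmemK : ∀ g : G, g ∈ K ↔ g = 1 ∨ g ∈ F := by
    have hsub : (K : Set G) ⊆ ↑(insert (1 : G) F) := by
      intro g hg
      rw [Finset.coe_insert, Set.mem_insert_iff]
      by_contra hcon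
      push Not at hcon
      rw [Finset.mem_coe, hFmem] at hcon
      push Not at hcon
      obtain ⟨hne, a, ha⟩ := hcon
      exact hne (hfree x hxF g (Subgroup.mem_centralizer_singleton_iff.mp hg) a ha)
    have heq : (K : Set G) = ↑(insert (1 : G) F) := by
      refine Set.eq_of_subset_of_ncard_le hsub ?_ (Finset.finite_toSet _)
      rw [Set.ncard_coe_finset, ← Nat.card_coe_set_eq]
      calc (insert (1 : G) F).card ≤ F.card + 1 := Finset.card_insert_le _ _
        _ = Nat.card K := by rw [hF, hK]; omega
    intro g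
    rw [← SetLike.mem_coe, heq]
    simp
  have hpow : ∀ g ∈ K, g ^ p = 1 := by
    intro g hg
    rcases (hmemK g).mp hg with rfl | hg
    · exact one_pow p
    · have : g ∈ (F : Set G) := hg
      rw [← hrange] at this
      obtain ⟨k, rfl⟩ := this
      rw [conj_pow, ← hx, pow_orderOf_eq_one, mul_one, mul_inv_cancel]
  have hKn : K.Normal := ⟨fun g hg k => by
    rcases (hmemK g).mp hg with rfl | hg
    · simp [K.one_mem]
    · exact (hmemK _).mpr (Or.inr (hconjF k g hg))⟩
  have hpK : IsPGroup p K := fun g => ⟨1, Subtype.ext (by simp [hpow _ g.2])⟩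
  obtain ⟨j, hj⟩ := IsPGroup.iff_card.mp hpK
  have hnj : n = p ^ j := hK.symm.trans hj
  have hj1 : 1 ≤ j := by
    rcases Nat.eq_zero_or_pos j with rfl | h
    · rw [pow_zero] at hnj; omega
    · exact h
  refine ⟨K, p, j, hp, hj1, hnj, hj, by rw [hG, hnj], hKn, ?_, hpow, fun g => by
    rw [hmemK, hFmem], ⟨fun a b => ?_⟩⟩
  · intro g hg h hh
    rcases (hmemK g).mp hg with rfl | hg
    · simp
    · have hgc : g ∈ (F : Set G) := hg
      rw [← hrange] at hgc
      obtain ⟨k, rfl⟩ := hgc
      -- conjugate into the centraliser of `x`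
      have h1 : k⁻¹ * h * k ∈ K := by simpa using hKn.conj_mem h hh k⁻¹
      rw [Subgroup.mem_centralizer_singleton_iff] at h1
      calc k * x * k⁻¹ * h = k * (x * (k⁻¹ * h * k)) * k⁻¹ := by group
        _ = k * ((k⁻¹ * h * k) * x) * k⁻¹ := by rw [h1]
        _ = h * (k * x * k⁻¹) := by group
  · have hinj : Function.Injective (fun c : K => (c : G) • a) := fun c d e => by
      simp only at e
      apply Subtype.ext
      have h1 := hfree x hxF ((d⁻¹ * c : K) : G) (Subgroup.mem_centralizer_singleton_iff.mp (d⁻¹ * c).2) a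
        (by rw [Subgroup.coe_mul, Subgroup.coe_inv, mul_smul, e, inv_smul_smul])
      rw [Subgroup.coe_mul, Subgroup.coe_inv, inv_mul_eq_one] at h1
      exact h1.symm
    obtain ⟨c, hc⟩ := (hinj.bijective_of_nat_card_le (le_of_eq hK.symm)).2 b
    exact ⟨c, hc⟩

end Cfsg.Agent.SharplyTwoTransitive
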