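import Mathlib
import Cfsg.Agent.Lib.SharplyTwoTransitive
import Cfsg.Agent.Lib.ZassenhausCoord
import Cfsg.Agent.Lib.ZassenhausEven

/-!
Sharply triply transitive permutation groups: triples, affine coordinates, elements of order three.
-/

set_option autoImplicit false

open scoped OnePoint

namespace Cfsg.Agent.SharpThree28

open MulAction Cfsg.Agent.Zassenhaus

universe u

variable {α : Type u} [Fintype α] [DecidableEq α] (G : Subgroup (Equiv.Perm α))

/-- A triple of distinct points. -/
def tri {a b c : α} (hab : a ≠ b) (hbc : b ≠ c) (hac : a ≠ c) : Fin 3 ↪ α :=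
  ⟨![a, b, c], by
    intro i j h
    fin_cases i <;> fin_cases j <;> simp_all [hab.symm, hbc.symm, hac.symm]⟩

theorem three (hsharp : ∀ x : Fin 3 ↪ α, MulAction.stabilizer G x = ⊥) (g : G) (a b c : α)
    (hab : a ≠ b) (hbc : b ≠ c) (hac : a ≠ c) (ha : g • a = a) (hb : g • b = b) (hc : g • c = c) :
    g = 1 := by
  have : g ∈ MulAction.stabilizer G (tri hab hbc hac) := by
    rw [MulAction.mem_stabilizer_iff]
    ext i
    fin_cases i
    · exact ha
    · exact hb
    · exact hc
  rwa [hsharp, Subgroup.mem_bot] at this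

theorem move (h3 : MulAction.IsMultiplyPretransitive G α 3) {a b c a' b' c' : α} (hab : a ≠ b)
    (hac : a ≠ c) (hbc : b ≠ c) (hab' : a' ≠ b') (hac' : a' ≠ c') (hbc' : b' ≠ c') :
    ∃ g : G, g • a = a' ∧ g • b = b' ∧ g • c = c' := by
  obtain ⟨g, hg⟩ := h3.exists_smul_eq (tri hab hbc hac) (tri hab' hbc' hac')
  exact ⟨g, DFunLike.congr_fun hg 0, DFunLike.congr_fun hg 1, DFunLike.congr_fun hg 2⟩

theorem pick (s : Finset α) (h : s.card < Fintype.card α) : ∃ c, c ∉ s := by
  obtain ⟨c, hc⟩ : (sᶜ : Finset α).Nonempty := by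
    rw [← Finset.card_pos, Finset.card_compl]; omega
  exact ⟨c, Finset.mem_compl.1 hc⟩

theorem two_transitive (h3 : MulAction.IsMultiplyPretransitive G α 3) (hn : 3 ≤ Fintype.card α) :
    MulAction.IsMultiplyPretransitive G α 2 := by
  rw [MulAction.is_two_pretransitive_iff]
  intro a b c d hab hcd
  obtain ⟨x, hx⟩ := pick {a, b} (Finset.card_le_two.trans_lt (by omega))
  obtain ⟨y, hy⟩ := pick {c, d} (Finset.card_le_two.trans_lt (by omega))
  simp only [Finset.mem_insert, Finset.mem_singleton, not_or] at hx hy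
  obtain ⟨g, g1, g2, -⟩ := move G h3 hab (Ne.symm hx.1) (Ne.symm hx.2) hcd (Ne.symm hy.1) (Ne.symm hy.2)
  exact ⟨g, g1, g2⟩

/-- Affine coordinates on the points. -/
theorem setup (h3 : MulAction.IsMultiplyPretransitive G α 3)
    (hsharp : ∀ x : Fin 3 ↪ α, MulAction.stabilizer G x = ⊥) (h4 : 4 ≤ Fintype.card α)
    {a b : α} (hab : a ≠ b) :
    ∃ (p f : ℕ) (V : Type u) (_ : AddCommGroup V) (_ : Finite V) (ρ : G →* Equiv.Perm (OnePoint V))
      (act : two G a b →* AddMonoid.End V) (e : OnePoint V ≃ α),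
      p.Prime ∧ 1 ≤ f ∧ Affine ρ (two G a b) act ∧ (∀ g x, e (ρ g x) = g • e x) ∧ e ∞ = a ∧
      e ((0 : V) : OnePoint V) = b ∧ (∀ v : V, p • v = 0) ∧ Nat.card V = p ^ f ∧
      Nat.card V + 1 = Fintype.card α ∧ Nat.card V = Nat.card (two G a b) + 1 ∧
      (∀ x y z : OnePoint V, x ≠ y → x ≠ z → y ≠ z → ∀ x' y' z' : OnePoint V, x' ≠ y' → x' ≠ z' →
        y' ≠ z' → ∃ g, ρ g x = x' ∧ ρ g y = y' ∧ ρ g z = z') := by
  classical
  have hthree := three G hsharp
  have h2 := two_transitive G h3 (by omega)
  have hP : Pre G α := by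
    refine pre_of_hyp h2 hthree ?_
    obtain ⟨c, hc⟩ := pick {a, b} (Finset.card_le_two.trans_lt (by omega))
    simp only [Finset.mem_insert, Finset.mem_singleton, not_or] at hc
    obtain ⟨d, hd⟩ := pick {a, b, c} (Finset.card_le_three.trans_lt (by omega))
    simp only [Finset.mem_insert, Finset.mem_singleton, not_or] at hd
    obtain ⟨g, g1, g2, g3⟩ := move G h3 hab (Ne.symm hc.1) (Ne.symm hc.2) hab (Ne.symm hd.1) (Ne.symm hd.2.1)
    refine ⟨g, fun e => hd.2.2 ?_, a, b, hab, g1, g2⟩
    rw [← g3, e, one_smul]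
  set S := MulAction.stabilizer G a
  have hne : ∀ x : SubMulAction.ofStabilizer G a, (x : α) ≠ a := fun x => x.2
  have hXcard : Nat.card (SubMulAction.ofStabilizer G a) = Fintype.card α - 1 := by
    show Nat.card {x : α // x ≠ a} = _
    rw [Nat.card_eq_fintype_card, Fintype.card_subtype_compl, Fintype.card_subtype_eq]
  haveI : MulAction.IsPretransitive G α := MulAction.isPretransitive_of_is_two_pretransitive (h2 := h2)
  have hS2 : MulAction.IsMultiplyPretransitive S (SubMulAction.ofStabilizer G a) 2 :=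
    SubMulAction.ofStabilizer.isMultiplyPretransitive.1 h3
  obtain ⟨K, q, j, hq, hj, hqj, -, -, hKn, hKc, hKexp, hKfree, hKt⟩ :=
    Cfsg.Agent.SharplyTwoTransitive.kernel_exists hS2 (fun g x y hxy hx hy => Subtype.ext
      (hthree g a x y (Ne.symm (hne x)) (fun e => hxy (Subtype.ext e)) (Ne.symm (hne y)) g.2
        (congrArg Subtype.val hx) (congrArg Subtype.val hy)))
      (by rw [hXcard]; omega)
  rw [hXcard] at hqj
  obtain ⟨V, _, ρ, act, e, hA, he, hea, heb, hexp⟩ :=
    exists_affine hP hab (K := K.map S.subtype)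
      (fun k hk => by obtain ⟨k, -, rfl⟩ := hk; exact k.2)
      (fun g hg k hk => by
        obtain ⟨k, hk, rfl⟩ := hk
        exact ⟨⟨g, hg⟩ * k * ⟨g, hg⟩⁻¹, hKn.conj_mem k hk _, rfl⟩)
      (fun y z hy hz => by
        obtain ⟨k, hk⟩ := hKt.exists_smul_eq (⟨y, hy⟩ : SubMulAction.ofStabilizer G a) ⟨z, hz⟩
        exact ⟨_, ⟨k, k.2, rfl⟩, congrArg Subtype.val hk⟩)
      (fun k hk y hy hky => by
        obtain ⟨k, hk, rfl⟩ := hk
        rcases (hKfree k).1 hk with h | h
        · rw [h]; rfl
        · exact absurd (Subtype.ext hky) (h ⟨y, hy⟩))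
      (fun x hx y hy => by
        obtain ⟨x, hx, rfl⟩ := hx
        obtain ⟨y, hy, rfl⟩ := hy
        rw [← map_mul, ← map_mul, hKc x hx y hy])
  haveI : Finite (OnePoint V) := Finite.of_equiv α e.symm
  haveI : Finite V := Finite.of_injective (fun v : V => (v : OnePoint V)) OnePoint.coe_injective
  have hVcard : Nat.card V + 1 = Fintype.card α := by
    have h1 : Nat.card (OnePoint V) = Nat.card V + 1 := Finite.card_option
    rw [Nat.card_congr e, Nat.card_eq_fintype_card] at h1
    omega
  have hmove : ∀ x y z : OnePoint V, x ≠ y → x ≠ z → y ≠ z → ∀ x' y' z' : OnePoint V, x' ≠ y' →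
      x' ≠ z' → y' ≠ z' → ∃ g, ρ g x = x' ∧ ρ g y = y' ∧ ρ g z = z' := by
    intro x y z hxy hxz hyz x' y' z' hxy' hxz' hyz'
    obtain ⟨g, g1, g2, g3⟩ := move G h3 (e.injective.ne hxy) (e.injective.ne hxz) (e.injective.ne hyz)
      (e.injective.ne hxy') (e.injective.ne hxz') (e.injective.ne hyz')
    exact ⟨g, e.injective (by rw [he, g1]), e.injective (by rw [he, g2]), e.injective (by rw [he, g3])⟩
  refine ⟨q, j, V, inferInstance, inferInstance, ρ, act, e, hq, hj, hA, he, hea, heb,
    hexp q fun k hk => by obtain ⟨k, hk, rfl⟩ := hk; rw [← map_pow, hKexp k hk, map_one],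
    by omega, hVcard, ?_, hmove⟩
  -- the two-point stabiliser is regular on the non-zero vectors
  haveI : Nontrivial V := Finite.one_lt_card_iff_nontrivial.1 (by omega)
  obtain ⟨e₁, he₁⟩ := _root_.exists_ne (0 : V)
  have hne0 : ∀ v : V, v ≠ 0 → ((0 : V) : OnePoint V) ≠ (v : OnePoint V) := fun v hv h =>
    hv (OnePoint.coe_injective h).symm
  have hbij : Function.Bijective fun h : two G a b => (⟨act h e₁, fun h0 => he₁ ((hA.act_eq_zero_iff h).1 h0)⟩ :
      {v : V // v ≠ 0}) := by
    refine ⟨fun h k e' => ?_, fun v => ?_⟩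
    · have e'' : act h e₁ = act k e₁ := congrArg Subtype.val e'
      refine inv_mul_eq_one.1 (hA.free he₁ ?_)
      rw [map_mul]
      show act h⁻¹ (act k e₁) = e₁
      rw [← e'']
      show (act h⁻¹ * act h) e₁ = e₁
      rw [← map_mul, inv_mul_cancel, map_one]
      rfl
    · obtain ⟨g, g1, g0, gv⟩ := hmove ∞ ((0 : V) : OnePoint V) e₁ (OnePoint.infty_ne_coe _)
        (OnePoint.infty_ne_coe _) (hne0 _ he₁) ∞ ((0 : V) : OnePoint V) (v : V) (OnePoint.infty_ne_coe _)
        (OnePoint.infty_ne_coe _) (hne0 _ v.2)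
      refine ⟨⟨g, (hA.mem g).2 ⟨g1, g0⟩⟩, Subtype.ext ?_⟩
      have := hA.lin ⟨g, (hA.mem g).2 ⟨g1, g0⟩⟩ e₁
      rw [gv] at this
      exact (OnePoint.coe_injective this).symm
  haveI := Fintype.ofFinite V
  have := Nat.card_congr (Equiv.ofBijective _ hbij)
  rw [Nat.card_eq_fintype_card (α := {v : V // v ≠ 0}), Fintype.card_subtype_compl,
    Fintype.card_subtype_eq, ← Nat.card_eq_fintype_card] at this
  have : 0 < Nat.card V := Nat.card_pos
  omega

/-- There are exactly two elements of order three fixing two given points, if there is one. -/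
theorem card_order_three (h3 : MulAction.IsMultiplyPretransitive G α 3)
    (hsharp : ∀ x : Fin 3 ↪ α, MulAction.stabilizer G x = ⊥) (h4 : 4 ≤ Fintype.card α)
    {a b : α} (hab : a ≠ b) {x : G} (hx : orderOf x = 3) (hxa : x • a = a) (hxb : x • b = b) :
    Nat.card {g : G // orderOf g = 3 ∧ g • a = a ∧ g • b = b} = 2 := by
  classical
  set E := (Finset.univ : Finset G).filter fun g => orderOf g = 3 with hE
  set n := Fintype.card α with hn
  haveI : Fact (Nat.Prime 3) := ⟨Nat.prime_three⟩
  let F : G → Finset α := fun g => Finset.univ.filter fun y => g • y = y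
  have hne : ∀ g ∈ E, g ≠ 1 := fun g hg h1 => by
    have := (Finset.mem_filter.1 hg).2
    rw [h1, orderOf_one] at this
    omega
  have hle : ∀ g ∈ E, (F g).card ≤ 2 := fun g hg => by
    by_contra hc
    push Not at hc
    obtain ⟨p, hp, q, hq, r, hr, hpq, hpr, hqr⟩ := Finset.two_lt_card.1 hc
    exact hne g hg (three G hsharp g p q r hpq hqr hpr (Finset.mem_filter.1 hp).2
      (Finset.mem_filter.1 hq).2 (Finset.mem_filter.1 hr).2)
  have hmod : ∀ g ∈ E, (F g).card ≡ n [MOD 3] := fun g hg => by
    have hp : IsPGroup 3 (Subgroup.zpowers g) := IsPGroup.of_card (n := 1)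
      (by rw [Nat.card_zpowers, (Finset.mem_filter.1 hg).2, pow_one])
    have := (hp.card_modEq_card_fixedPoints α).symm
    rw [Nat.card_eq_fintype_card (α := α)] at this
    have e : Nat.card (MulAction.fixedPoints (Subgroup.zpowers g) α) = (F g).card := by
      rw [← Nat.card_eq_finsetCard]
      refine Nat.card_congr (Equiv.subtypeEquivRight fun y => ?_)
      rw [MulAction.mem_fixedPoints, Finset.mem_filter]
      constructor
      · exact fun h => ⟨Finset.mem_univ _, h ⟨g, Subgroup.mem_zpowers g⟩⟩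
      · rintro ⟨-, h⟩ ⟨m, hm⟩
        exact MulAction.mem_stabilizer_iff.1 (Subgroup.zpowers_le.2 (MulAction.mem_stabilizer_iff.2 h) hm)
    rwa [e] at this
  have hxE : x ∈ E := Finset.mem_filter.2 ⟨Finset.mem_univ _, hx⟩
  have hxF : 2 ≤ (F x).card := by
    rw [← Finset.card_pair hab]
    refine Finset.card_le_card ?_
    intro y hy
    rcases Finset.mem_insert.1 hy with rfl | hy
    · simpa [F] using hxa
    · rw [Finset.mem_singleton.1 hy]; simpa [F] using hxb
  have hF2 : ∀ g ∈ E, (F g).card = 2 := fun g hg => by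
    have h1 := hmod g hg
    have h2 := hmod x hxE
    have h3' := hle g hg
    have h4' := hle x hxE
    unfold Nat.ModEq at h1 h2
    omega
  -- counting triples
  have htriples : E.card * (n - 2) = n * ((n - 1) * (n - 2)) := by
    have e1 : Nat.card {q : G × α // q.1 ∈ E ∧ q.1 • q.2 ≠ q.2} = E.card * (n - 2) := by
      rw [Nat.card_eq_fintype_card, Fintype.card_subtype,
        Finset.card_eq_sum_card_fiberwise (f := Prod.fst) (t := E)
          (fun q hq => (Finset.mem_filter.1 hq).2.1)]
      rw [Finset.sum_congr rfl fun g hg => ?_, Finset.sum_const, smul_eq_mul]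
      rw [← hF2 g hg, hn, ← Finset.card_compl]
      refine Finset.card_nbij (fun q => q.2) ?_ ?_ ?_
      · intro q hq
        simp only [Finset.mem_filter, Finset.mem_univ, true_and, Finset.coe_filter, Set.mem_ofPred_eq] at hq
        simp only [Finset.coe_compl, Set.mem_compl_iff, SetLike.mem_coe, Finset.mem_filter,
          Finset.mem_univ, true_and, Finset.mem_compl, F]
        rw [← hq.2]
        exact hq.1.2
      · intro q hq q' hq' e
        simp only [Finset.mem_filter, Finset.mem_univ, true_and, Finset.coe_filter, Set.mem_ofPred_eq] at hq hq'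
        exact Prod.ext (hq.2.trans hq'.2.symm) e
      · intro y hy
        simp only [Finset.coe_compl, Set.mem_compl_iff, SetLike.mem_coe, Finset.mem_filter,
          Finset.mem_univ, true_and, Finset.mem_compl, F] at hy
        exact ⟨(g, y), by simp [hg, hy], rfl⟩
    have hspec : ∀ t : Fin 3 ↪ α, ∃ g : G, g • t 0 = t 1 ∧ g • t 1 = t 2 ∧ g • t 2 = t 0 := fun t =>
      move G h3 (t.injective.ne (by decide)) (t.injective.ne (by decide)) (t.injective.ne (by decide))
        (t.injective.ne (by decide)) (t.injective.ne (by decide)) (t.injective.ne (by decide))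
    choose φ hφ using hspec
    have e2 : Nat.card (Fin 3 ↪ α) = Nat.card {q : G × α // q.1 ∈ E ∧ q.1 • q.2 ≠ q.2} := by
      refine Nat.card_eq_of_bijective (fun t => ⟨(φ t, t 0), ?_, ?_⟩) ⟨?_, ?_⟩
      · refine Finset.mem_filter.2 ⟨Finset.mem_univ _, orderOf_eq_prime ?_ ?_⟩
        · refine three G hsharp _ (t 0) (t 1) (t 2) (t.injective.ne (by decide))
            (t.injective.ne (by decide)) (t.injective.ne (by decide)) ?_ ?_ ?_ <;>
          simp only [pow_succ, pow_zero, one_mul, mul_smul, (hφ t).1, (hφ t).2.1, (hφ t).2.2]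
        · intro h1
          replace h1 : φ t = 1 := h1
          have := (hφ t).1
          rw [h1, one_smul] at this
          exact t.injective.ne (by decide : (0 : Fin 3) ≠ 1) this
      · show φ t • t 0 ≠ t 0
        rw [(hφ t).1]
        exact t.injective.ne (by decide)
      · intro t t' e
        simp only [Subtype.mk.injEq, Prod.mk.injEq] at e
        have e1' : t 1 = t' 1 := by rw [← (hφ t).1, e.1, e.2, (hφ t').1]
        ext i
        fin_cases i
        · exact e.2
        · exact e1'
        · show t 2 = t' 2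
          rw [← (hφ t).2.1, e.1, e1', (hφ t').2.1]
      · rintro ⟨⟨g, y⟩, hg, hy⟩
        have hg3 : g ^ 3 = 1 := (Finset.mem_filter.1 hg).2 ▸ pow_orderOf_eq_one g
        have e3 : g • g • g • y = y := by
          rw [← mul_smul, ← mul_smul]
          rw [show g * g * g = g ^ 3 by simp [pow_succ], hg3, one_smul]
        have h01 : y ≠ g • y := Ne.symm hy
        have h12 : g • y ≠ g • g • y := fun e => h01 (MulAction.injective g e)
        have h02 : y ≠ g • g • y := fun e => hy (by
          have := congrArg (g • ·) e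
          simp only [e3] at this
          exact this)
        refine ⟨tri h01 h12 h02, Subtype.ext (Prod.ext ?_ rfl)⟩
        refine inv_mul_eq_one.1 (three G hsharp _ y (g • y) (g • g • y) h01 h12 h02 ?_ ?_ ?_) <;>
          rw [mul_smul, inv_smul_eq_iff]
        · exact (hφ (tri h01 h12 h02)).1.symm
        · exact (hφ (tri h01 h12 h02)).2.1.symm
        · rw [e3]; exact (hφ (tri h01 h12 h02)).2.2.symm
    rw [← e1, ← e2, Nat.card_eq_fintype_card, Fintype.card_embedding_eq, Fintype.card_fin, ← hn]
    simp only [Nat.descFactorial_succ, Nat.descFactorial_zero, Nat.sub_zero, mul_one]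
    ring
  have hEcard : E.card = n * (n - 1) := by
    rw [← mul_assoc] at htriples
    exact Nat.eq_of_mul_eq_mul_right (by omega) htriples
  -- counting fixed pairs
  let P := (Finset.univ : Finset (α × α)).filter fun q => q.1 ≠ q.2
  let fib : α × α → Finset G := fun q => E.filter fun g => g • q.1 = q.1 ∧ g • q.2 = q.2
  have hP : P.card = n * (n - 1) := by
    have h : P = (Finset.univ : Finset α).offDiag := by ext q; simp [P]
    rw [h, Finset.offDiag_card, Finset.card_univ, Nat.mul_sub_one]
  have hconst : ∀ q ∈ P, (fib q).card = (fib (a, b)).card := by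
    intro q hq
    obtain ⟨k, hk1, hk2⟩ := MulAction.is_two_pretransitive_iff.1 (two_transitive G h3 (by omega))
      hab (Finset.mem_filter.1 hq).2
    symm
    refine Finset.card_nbij' (fun g => k * g * k⁻¹) (fun g => k⁻¹ * g * k) ?_ ?_ ?_ ?_
    · intro g hg
      simp only [fib, Finset.coe_filter, Set.mem_ofPred_eq, E, Finset.mem_filter, Finset.mem_univ, true_and] at hg ⊢
      refine ⟨?_, ?_, ?_⟩
      · rw [← hg.1]; exact orderOf_injective (MulAut.conj k).toMonoidHom (MulEquiv.injective _) g
      · rw [mul_smul, mul_smul, inv_smul_eq_iff.2 hk1.symm, hg.2.1, hk1]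
      · rw [mul_smul, mul_smul, inv_smul_eq_iff.2 hk2.symm, hg.2.2, hk2]
    · intro g hg
      simp only [fib, Finset.coe_filter, Set.mem_ofPred_eq, E, Finset.mem_filter, Finset.mem_univ, true_and] at hg ⊢
      refine ⟨?_, ?_, ?_⟩
      · rw [← hg.1]
        simpa using orderOf_injective (MulAut.conj k⁻¹).toMonoidHom (MulEquiv.injective _) g
      · rw [mul_smul, mul_smul, hk1, hg.2.1, ← hk1, inv_smul_smul]
      · rw [mul_smul, mul_smul, hk2, hg.2.2, ← hk2, inv_smul_smul]
    · intro g _; simp [mul_assoc]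
    · intro g _; simp [mul_assoc]
  have hsum : P.card * (fib (a, b)).card = 2 * E.card := by
    rw [← smul_eq_mul, ← Finset.sum_const, ← Finset.sum_congr rfl hconst]
    simp only [fib, Finset.card_filter]
    rw [Finset.sum_comm, mul_comm 2, ← smul_eq_mul, ← Finset.sum_const]
    refine Finset.sum_congr rfl fun g hg => ?_
    rw [← Finset.card_filter]
    have hF := hF2 g hg
    have h : P.filter (fun q => g • q.1 = q.1 ∧ g • q.2 = q.2) = (F g).offDiag := by
      ext q; simp [P, F]; tauto
    rw [h, Finset.offDiag_card, hF]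
  rw [hP, hEcard, mul_comm 2] at hsum
  have h2 : (fib (a, b)).card = 2 := Nat.eq_of_mul_eq_mul_left (Nat.mul_pos (by omega) (by omega)) hsum
  rw [← h2, Nat.card_eq_fintype_card, Fintype.card_subtype]
  simp only [fib, E, Finset.filter_filter]

end Cfsg.Agent.SharpThree28
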