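import Cfsg.Agent.Lib.FrobeniusFPF
import Cfsg.Agent.Lib.PGroupsCyclic
import Cfsg.Agent.Lib.ComponentsFitting
import Cfsg.Agent.Lib.TransferPResidual
import Cfsg.Agent.Lib.HallCore

/-!
# Solvable groups transitive on the nonzero vectors, with all `p'`-elements fixed-point-free

`main` : such a group has a normal `p`-complement and abelian Sylow `p`-subgroups (no classification
of transitive linear groups is needed).
-/

set_option autoImplicit false
set_option linter.style.haveILetI false
open scoped Pointwise commutatorElement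

namespace Cfsg.Agent.GagolaSolvable

open Cfsg

/-- The semilinear obstruction: a vector space over `F₃` transitively acted upon by maps
normalising two anticommuting square roots of `-1` has at most nine elements. -/
theorem card_le_nine {V : Type*} [AddCommGroup V] [Finite V] (h3 : ∀ v : V, v + v + v = 0)
    (I J : V →+ V) (hI : ∀ v, I (I v) = -v) (hJ : ∀ v, J (J v) = -v)
    (hIJ : ∀ v, J (I v) = -(I (J v)))
    (htr : ∀ v w : V, v ≠ 0 → w ≠ 0 → ∃ g : V ≃+ V, g v = w ∧ ∀ U : AddSubgroup V,
      (∀ u ∈ U, I u ∈ U ∧ J u ∈ U) → ∀ u ∈ U, ∃ a ∈ U, ∃ b ∈ U, I (g u) = g a ∧ J (g u) = g b) :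
    Nat.card V ≤ 9 := by
  classical
  by_contra hcard
  push Not at hcard
  haveI : Fintype V := Fintype.ofFinite V
  let span : V → Finset V := fun v =>
    (Finset.univ : Finset (Fin 3 × Fin 3)).image fun c => (c.1 : ℕ) • v + (c.2 : ℕ) • I v
  have hspan : ∀ v, (span v).card ≤ 9 := fun v =>
    (Finset.card_image_le).trans (by simp)
  -- `v` is good if it lies in a small invariant subgroup
  let Good : V → Prop := fun v => ∃ U : AddSubgroup V, v ∈ U ∧ (∀ u ∈ U, I u ∈ U ∧ J u ∈ U) ∧
    Nat.card U ≤ 9
  have hneg2 : ∀ v : V, -v = v + v := fun v => by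
    rw [neg_eq_iff_add_eq_zero, ← add_assoc]; exact h3 v
  obtain ⟨v0, hv0, hJv0⟩ : ∃ v : V, v ≠ 0 ∧ J v = v + I v := by
    haveI : Nontrivial V := Finite.one_lt_card_iff_nontrivial.1 (by omega)
    obtain ⟨v, hv⟩ := exists_ne (0 : V)
    have key : ∀ v : V, I v + J v + I (J v) = 0 → J v = v + I v := by
      intro v h
      have h1 : I (I v + J v + I (J v)) = 0 := by rw [h, map_zero]
      rw [map_add, map_add, hI, hI] at h1
      have h2 : I (J v) = v + J v := eq_add_of_sub_eq (by
        have : I (J v) - J v - v = 0 := by rw [← h1]; abel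
        exact sub_eq_zero.1 this)
      rw [h2] at h
      have h4 : v + I v = -(J v + J v) := eq_neg_of_add_eq_zero_left (by rw [← h]; abel)
      have h5 : J v = -(J v + J v) := eq_neg_of_add_eq_zero_left (by rw [← add_assoc]; exact h3 _)
      exact h5.trans h4.symm
    by_cases hw : I v + J v + I (J v) = 0
    · exact ⟨v, hv, key v hw⟩
    · refine ⟨_, hw, key _ ?_⟩
      simp only [map_add, map_neg, hI, hJ, hIJ, neg_neg]
      have := h3 v
      calc _ = -(v + v + v) := by abel
        _ = 0 := by rw [this, neg_zero]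
  have hgood0 : Good v0 := by
    refine ⟨AddSubgroup.closure {v0, I v0}, AddSubgroup.subset_closure (by simp), ?_, ?_⟩
    · intro u hu
      have hv : v0 ∈ AddSubgroup.closure ({v0, I v0} : Set V) :=
        AddSubgroup.subset_closure (by simp)
      have hIv : I v0 ∈ AddSubgroup.closure ({v0, I v0} : Set V) :=
        AddSubgroup.subset_closure (by simp)
      induction hu using AddSubgroup.closure_induction with
      | mem x hx =>
        rcases hx with rfl | rfl
        · exact ⟨hIv, hJv0 ▸ add_mem hv hIv⟩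
        · refine ⟨by rw [hI]; exact neg_mem hv, ?_⟩
          rw [hIJ, hJv0, map_add, hI]
          exact neg_mem (add_mem hIv (neg_mem hv))
      | zero => simp
      | add x y _ _ hx hy => exact ⟨by rw [map_add]; exact add_mem hx.1 hy.1,
          by rw [map_add]; exact add_mem hx.2 hy.2⟩
      | neg x _ hx => exact ⟨by rw [map_neg]; exact neg_mem hx.1, by rw [map_neg]; exact neg_mem hx.2⟩
    · refine le_trans ?_ (hspan v0)
      have hsub : (AddSubgroup.closure ({v0, I v0} : Set V) : Set V) ⊆ (span v0 : Set V) := by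
        intro u hu
        obtain ⟨m, n, rfl⟩ := AddSubgroup.mem_closure_pair.1 hu
        have hmod : ∀ (x : V) (k : ℤ), k • x = ((k % 3).toNat : ℕ) • x := by
          intro x k
          rw [← natCast_zsmul, Int.toNat_of_nonneg (Int.emod_nonneg _ (by norm_num))]
          conv_lhs => rw [← Int.emod_add_mul_ediv k 3, add_zsmul, mul_comm, mul_zsmul]
          have h30 : (3 : ℤ) • x = 0 := by
            rw [show (3 : ℤ) = 1 + 1 + 1 by norm_num, add_zsmul, add_zsmul, one_zsmul]; exact h3 x
          rw [h30, zsmul_zero, add_zero]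
        simp only [span, Finset.coe_image, Finset.coe_univ, Set.image_univ, Set.mem_range]
        exact ⟨⟨⟨(m % 3).toNat, by omega⟩, ⟨(n % 3).toNat, by omega⟩⟩, by rw [hmod v0 m, hmod _ n]⟩
      rw [← Nat.card_eq_finsetCard]
      exact Nat.card_mono (Finset.finite_toSet _) hsub
  have hgood : ∀ v, v ≠ 0 → Good v := by
    intro v hv
    obtain ⟨U, hU, hinv, hUc⟩ := hgood0
    obtain ⟨g, hg, hgU⟩ := htr v0 v hv0 hv
    refine ⟨U.map g.toAddMonoidHom, ⟨v0, hU, hg⟩, ?_, ?_⟩
    · rintro _ ⟨u, hu, rfl⟩
      obtain ⟨a, ha, b, hb, e1, e2⟩ := hgU U hinv u hu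
      exact ⟨⟨a, ha, e1.symm⟩, ⟨b, hb, e2.symm⟩⟩
    · rwa [Nat.card_congr (AddSubgroup.equivMapOfInjective U g.toAddMonoidHom g.injective).toEquiv.symm]
  have hindep : ∀ v : V, v ≠ 0 → ∀ a b : ZMod 3, a.val • v + b.val • I v = 0 → a = 0 ∧ b = 0 := by
    intro v hv a b h
    have e3 : (3 : ℕ) • v = 0 := by rw [succ_nsmul, succ_nsmul, one_nsmul]; exact h3 v
    have h' := congrArg I h
    rw [map_add, map_nsmul, map_nsmul, hI, map_zero] at h'
    have hk : (a.val * a.val + b.val * b.val) • v = 0 := by
      have h1 : a.val • (a.val • v + b.val • I v) - b.val • (a.val • I v + b.val • -v) = 0 := by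
        rw [h, h', smul_zero, smul_zero, sub_zero]
      rw [← h1, add_nsmul, smul_add, smul_add, ← mul_nsmul', ← mul_nsmul', ← mul_nsmul',
        ← mul_nsmul', smul_neg, mul_comm b.val a.val]
      abel
    have hdvd : 3 ∣ a.val * a.val + b.val * b.val := by
      have ho : addOrderOf v = 3 := addOrderOf_eq_prime e3 hv
      have h4 := addOrderOf_dvd_iff_nsmul_eq_zero.2 hk
      rwa [ho] at h4
    have : ∀ a b : ZMod 3, 3 ∣ a.val * a.val + b.val * b.val → a = 0 ∧ b = 0 := by decide
    exact this a b hdvd
  -- the small subgroup of `v` is exactly the span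
  have hU : ∀ v : V, v ≠ 0 → ∀ U : AddSubgroup V, v ∈ U → (∀ u ∈ U, I u ∈ U ∧ J u ∈ U) →
      Nat.card U ≤ 9 → ∀ u ∈ U, ∃ a b : ZMod 3, u = a.val • v + b.val • I v := by
    intro v hv U hvU hinv hc
    let f : ZMod 3 × ZMod 3 → U := fun c => ⟨c.1.val • v + c.2.val • I v,
      add_mem (nsmul_mem hvU _) (nsmul_mem (hinv v hvU).1 _)⟩
    have hmod3 : ∀ (x : V) (a b : ZMod 3), (a - b).val • x = a.val • x - b.val • x := by
      intro x a b
      have e3 : (3 : ℕ) • x = 0 := by rw [succ_nsmul, succ_nsmul, one_nsmul]; exact h3 x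
      rw [eq_sub_iff_add_eq, ← add_nsmul]
      have : ∀ a b : ZMod 3, ((a - b).val + b.val) % 3 = a.val := by decide
      conv_lhs => rw [← Nat.mod_add_div ((a - b).val + b.val) 3, add_nsmul, mul_comm, mul_nsmul',
        e3, nsmul_zero, add_zero, this]
    have hf : Function.Injective f := by
      intro c d h
      have h1 := congrArg Subtype.val h
      simp only [f] at h1
      obtain ⟨h2, h4⟩ := hindep v hv (c.1 - d.1) (c.2 - d.2) (by
        rw [hmod3, hmod3, sub_add_sub_comm, h1, sub_self])
      exact Prod.ext (sub_eq_zero.1 h2) (sub_eq_zero.1 h4)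
    have hsurj := hf.bijective_of_nat_card_le (by simpa using hc)
    intro u hu
    obtain ⟨c, hc'⟩ := hsurj.2 ⟨u, hu⟩
    exact ⟨c.1, c.2, (congrArg Subtype.val hc').symm⟩
  have hcoef : ∀ v : V, v ≠ 0 → ∃ a b : ZMod 3, J v = a.val • v + b.val • I v := by
    intro v hv
    obtain ⟨U, hvU, hinv, hc⟩ := hgood v hv
    exact hU v hv U hvU hinv hc _ (hinv v hvU).2
  obtain ⟨U0, hv0U, hinv0, hc0⟩ := hgood v0 hv0
  obtain ⟨w, hw⟩ : ∃ w, w ∉ U0 := by
    by_contra hno
    push Not at hno
    have : U0 = ⊤ := eq_top_iff.2 fun x _ => hno x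
    rw [this, AddSubgroup.card_top] at hc0
    omega
  -- coefficients agree off the plane of `v0`
  have hsame : ∀ w, w ∉ U0 → J w = w + I w := by
    intro w hw
    have hw0 : w ≠ 0 := fun e => hw (e ▸ U0.zero_mem)
    have hvw : v0 + w ≠ 0 := fun e => hw (by
      rw [eq_neg_of_add_eq_zero_right e]; exact U0.neg_mem hv0U)
    obtain ⟨a, b, hab⟩ := hcoef w hw0
    obtain ⟨c, d, hcd⟩ := hcoef _ hvw
    obtain ⟨U, hwU, hinv, hc⟩ := hgood w hw0
    rw [map_add, map_add, hJv0, hab] at hcd
    set x : V := c.val • v0 + d.val • I v0 - (v0 + I v0) with hx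
    have hxU0 : x ∈ U0 := sub_mem (add_mem (nsmul_mem hv0U _) (nsmul_mem (hinv0 _ hv0U).1 _))
      (add_mem hv0U (hinv0 _ hv0U).1)
    have hxU : x = a.val • w + b.val • I w - (c.val • w + d.val • I w) := by
      rw [hx, eq_sub_iff_add_eq]
      rw [smul_add, smul_add] at hcd
      rw [sub_add_eq_add_sub, sub_eq_iff_eq_add]
      rw [add_comm (a.val • w + b.val • I w), hcd]
      abel
    have hxU' : x ∈ U := hxU ▸ sub_mem (add_mem (nsmul_mem hwU _) (nsmul_mem (hinv _ hwU).1 _))
      (add_mem (nsmul_mem hwU _) (nsmul_mem (hinv _ hwU).1 _))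
    have hx0 : x = 0 := by
      by_contra hx0
      obtain ⟨W, hxW, hWinv, hWc⟩ := hgood x hx0
      have hxI0 := (hinv0 x hxU0).1
      have hxI := (hinv x hxU').1
      have hsub : ∀ u ∈ U, u ∈ U0 := by
        intro u hu
        let f : ZMod 3 × ZMod 3 → U := fun e => ⟨e.1.val • x + e.2.val • I x,
          add_mem (nsmul_mem hxU' _) (nsmul_mem hxI _)⟩
        obtain ⟨a', b', he⟩ := hU x hx0 U hxU' hinv hc u hu
        rw [he]
        exact add_mem (nsmul_mem hxU0 _) (nsmul_mem hxI0 _)
      exact hw (hsub w hwU)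
    have e1 : c = 1 ∧ d = 1 := by
      obtain ⟨h1, h2⟩ := hindep v0 hv0 (c - 1) (d - 1) (by
        have key : ∀ (y : V) (e : ZMod 3), (e - 1).val • y = e.val • y - y := by
          intro y e
          have e3 : (3 : ℕ) • y = 0 := by rw [succ_nsmul, succ_nsmul, one_nsmul]; exact h3 y
          rw [eq_sub_iff_add_eq, ← succ_nsmul]
          have : ∀ e : ZMod 3, ((e - 1).val + 1) % 3 = e.val := by decide
          conv_lhs => rw [← Nat.mod_add_div ((e - 1).val + 1) 3, add_nsmul, mul_comm, mul_nsmul',
            e3, nsmul_zero, add_zero, this]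
        rw [key, key, ← hx0, hx]; abel)
      exact ⟨sub_eq_zero.1 h1, sub_eq_zero.1 h2⟩
    obtain ⟨rfl, rfl⟩ := e1
    have h1 : a.val • w + b.val • I w = w + I w := by
      have hz := hx0
      rw [hxU, sub_eq_zero] at hz
      rw [hz]
      have : (1 : ZMod 3).val = 1 := rfl
      simp [this]
    rw [hab, h1]
  have hw2 : I w ∉ U0 := fun h => hw (by
    have := U0.neg_mem (hinv0 _ h).1
    rwa [hI, neg_neg] at this)
  have e1 := hsame w hw
  have e2 := hsame _ hw2
  rw [hIJ, e1, map_add, hI] at e2
  have hy : ∀ y : V, -y = y → y = 0 := fun y hy => by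
    have h := h3 y
    nth_rewrite 1 [← hy] at h
    simpa using h
  have hIw : I w = w := eq_of_sub_eq_zero (by rw [sub_eq_add_neg]; exact hy _ e2)
  have := hI w
  rw [hIw, hIw] at this
  exact hw (by rw [hy w this.symm]; exact U0.zero_mem)

section Main

variable {Q V : Type*} [Group Q] [Finite Q] [CommGroup V] [Finite V] [MulDistribMulAction Q V]
  {p : ℕ} [hp : Fact p.Prime]

/-- The hypotheses. -/
structure Setup (Q V : Type*) [Group Q] [CommGroup V] [MulDistribMulAction Q V] (p : ℕ) : Prop where
  nontriv : Nontrivial V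
  expo : ∀ v : V, v ^ p = 1
  trans : ∀ v w : V, v ≠ 1 → w ≠ 1 → ∃ g : Q, g • v = w
  fpf : ∀ g : Q, ¬ p ∣ orderOf g → g ≠ 1 → ∀ v : V, g • v = v → v = 1
  core : Cfsg.pCore p Q = ⊥
  solvable : Group.IsSolvable Q

theorem fitting_prime_order (h : Setup Q V p) {x : Q} (hx : x ∈ Cfsg.fittingSubgroup Q) :
    ¬ p ∣ orderOf x := by
  intro hdiv
  set F := Cfsg.fittingSubgroup Q
  haveI : Group.IsNilpotent F := ComponentsFitting.fittingSubgroup_isNilpotent
  obtain ⟨S⟩ : Nonempty (Sylow p F) := inferInstance
  haveI hSn : (S : Subgroup F).Normal := (inferInstance : (S : Subgroup F).Normal)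
  haveI : (S : Subgroup F).Characteristic := S.characteristic_of_normal hSn
  have hle : (S : Subgroup F).map F.subtype ≤ Cfsg.pCore p Q :=
    HallCore.le_pCore (S.isPGroup'.map F.subtype)
  rw [h.core, le_bot_iff, Subgroup.map_eq_bot_iff_of_injective _ Subtype.val_injective] at hle
  obtain ⟨y, hy⟩ := exists_prime_orderOf_dvd_card' (G := F) p (hdiv.trans (by
    rw [← Subgroup.orderOf_mk x hx]; exact orderOf_dvd_natCard _))
  have hS := S.card_eq_multiplicity
  rw [hle, Subgroup.card_bot] at hS
  have hd : p ∣ Nat.card F := hy ▸ orderOf_dvd_natCard y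
  have := (Fact.out : p.Prime).factorization_pos_of_dvd Nat.card_pos.ne' hd
  have h2 := (Nat.pow_eq_one.1 hS.symm).resolve_left (Fact.out : p.Prime).one_lt.ne'
  omega

theorem fpf_fitting (h : Setup Q V p) :
    FrobeniusFPF.IsFPF (Cfsg.fittingSubgroup Q) V := fun m hm v hv =>
  h.fpf (m : Q) (fitting_prime_order h m.2) (fun e => hm (Subtype.ext e)) v hv

/-- Cyclic normal subgroups have abelian automizers. -/
theorem commutator_le_centralizer (A : Subgroup Q) [A.Normal] (hA : IsCyclic A) :
    commutator Q ≤ Subgroup.centralizer (A : Set Q) := by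
  obtain ⟨w, hw⟩ := hA.exists_generator
  rw [commutator_def, Subgroup.commutator_le]
  intro u _ v _
  rw [Subgroup.mem_centralizer_iff]
  intro a ha
  let f : Q → (A →* A) := fun g => (MulAut.conjNormal g : A ≃* A).toMonoidHom
  have hcomm : ∀ g g' : Q, ∀ a : A, f g (f g' a) = f g' (f g a) := by
    intro g g' a
    obtain ⟨i, hi⟩ := Subgroup.mem_zpowers_iff.1 (hw (f g w))
    obtain ⟨j, hj⟩ := Subgroup.mem_zpowers_iff.1 (hw (f g' w))
    obtain ⟨k, rfl⟩ := Subgroup.mem_zpowers_iff.1 (hw a)
    simp only [map_zpow, ← hi, ← hj]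
    rw [← zpow_mul, ← zpow_mul, ← zpow_mul, ← zpow_mul]
    congr 1
    ring
  have h1 := hcomm u v (f u⁻¹ (f v⁻¹ ⟨a, ha⟩))
  have h2 := congrArg Subtype.val h1
  simp only [f, MulEquiv.coe_toMonoidHom, MulAut.conjNormal_apply] at h2
  symm
  rw [← mul_inv_eq_iff_eq_mul]
  calc ⁅u, v⁆ * a * ⁅u, v⁆⁻¹
      = u * (v * (u⁻¹ * (v⁻¹ * a * v⁻¹⁻¹) * u⁻¹⁻¹) * v⁻¹) * u⁻¹ := by
        rw [commutatorElement_def]; group
    _ = v * (u * (u⁻¹ * (v⁻¹ * a * v⁻¹⁻¹) * u⁻¹⁻¹) * u⁻¹) * v⁻¹ := h2
    _ = a := by group

/-- Reduction to a `p'`-subgroup containing the commutators. -/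
theorem conclude_of_kernel (K : Subgroup Q) (hK : commutator Q ≤ K) (hKp : ¬ p ∣ Nat.card K) :
    Cfsg.HasNormalPComplement p Q ∧ ∀ S : Sylow p Q, IsMulCommutative (S : Subgroup Q) := by
  haveI : K.Normal := Subgroup.Normal.of_commutator_le Q hK
  have hcQ : ∀ a b : Q ⧸ K, a * b = b * a := fun a b => by
    haveI := Subgroup.Normal.quotient_commutative_iff_commutator_le.mpr hK
    exact mul_comm' a b
  constructor
  · rw [TransferPResidual.hasNormalPComplement_iff_not_dvd]
    intro hd
    let M : Subgroup Q :=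
      { carrier := {g | ¬ p ∣ orderOf (g : Q ⧸ K)}
        one_mem' := by simp [(Fact.out : p.Prime).ne_one]
        mul_mem' := fun {a b} ha hb hab => by
          have h1 := (hab.trans (Commute.orderOf_mul_dvd_mul_orderOf
            (show Commute (a : Q ⧸ K) b from hcQ _ _)))
          rcases (Fact.out : p.Prime).dvd_mul.1 h1 with h | h
          exacts [ha h, hb h]
        inv_mem' := fun {a} ha => by simpa using ha }
    have hle : Cfsg.pResidual p Q ≤ M :=
      TransferPResidual.pResidual_le_iff_coprime.2 fun g hg hdv =>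
        (Fact.out : p.Prime).not_dvd_one (hg ▸ Nat.dvd_gcd
          (hdv.trans (orderOf_map_dvd (QuotientGroup.mk' K) g)) dvd_rfl)
    obtain ⟨x, hx⟩ := exists_prime_orderOf_dvd_card' p hd
    have hxM : ¬ p ∣ orderOf ((x : Q) : Q ⧸ K) := hle x.2
    have hdv : orderOf ((x : Q) : Q ⧸ K) ∣ p :=
      (orderOf_map_dvd (QuotientGroup.mk' K) (x : Q)).trans (by rw [Subgroup.orderOf_coe, hx])
    rcases (Nat.dvd_prime Fact.out).1 hdv with h1 | h1
    · rw [orderOf_eq_one_iff, QuotientGroup.eq_one_iff] at h1
      apply hKp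
      rw [← hx, ← Subgroup.orderOf_coe, ← Subgroup.orderOf_mk _ h1]
      exact orderOf_dvd_natCard _
    · exact hxM h1.symm.dvd
  · intro S
    refine ⟨⟨fun a b => Subtype.ext ?_⟩⟩
    have hmem : (⁅(a : Q), (b : Q)⁆ : Q) ∈ K :=
      hK (Subgroup.commutator_mem_commutator (Subgroup.mem_top _) (Subgroup.mem_top _))
    have hS : (⁅(a : Q), (b : Q)⁆ : Q) ∈ (S : Subgroup Q) := by
      rw [commutatorElement_def]
      exact mul_mem (mul_mem (mul_mem a.2 b.2) (inv_mem a.2)) (inv_mem b.2)
    obtain ⟨k, hk⟩ := IsPGroup.iff_orderOf.1 S.isPGroup' ⟨_, hS⟩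
    rw [Subgroup.orderOf_mk] at hk
    rcases k with _ | k
    · rw [pow_zero, orderOf_eq_one_iff, commutatorElement_eq_one_iff_mul_comm] at hk
      exact hk
    · refine absurd ((dvd_pow_self p k.succ_ne_zero).trans ?_) hKp
      rw [← hk, ← Subgroup.orderOf_mk _ hmem]
      exact orderOf_dvd_natCard _

theorem unique_prime_order (h : Setup Q V p) {r : ℕ} [hr : Fact r.Prime]
    (R : Sylow r (Cfsg.fittingSubgroup Q)) :
    ∀ H K : Subgroup (R : Subgroup (Cfsg.fittingSubgroup Q)),
      Nat.card H = r → Nat.card K = r → H = K := by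
  haveI := h.nontriv
  set Rs := (R : Subgroup (Cfsg.fittingSubgroup Q))
  have key : ∀ H : Subgroup Rs, Nat.card H = r → ∀ d : Rs, orderOf d = r →
      d ∈ Subgroup.center Rs → H = Subgroup.zpowers d := by
    intro H hH d hd hdc
    haveI : Nontrivial H := Finite.one_lt_card_iff_nontrivial.1 (hH ▸ hr.out.one_lt)
    obtain ⟨x, hx⟩ := exists_ne (1 : H)
    have hox : orderOf (x : Rs) = r := by
      have := orderOf_dvd_natCard x
      rw [hH] at this
      rw [Subgroup.orderOf_coe]
      exact ((Nat.dvd_prime hr.out).1 this).resolve_left (fun e => hx (orderOf_eq_one_iff.1 e))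
    have hmem := FrobeniusFPF.mem_zpowers_of_commute
      (FrobeniusFPF.isFPF_subgroup (fpf_fitting h) Rs) hr.out hd hox
      (show Commute d (x : Rs) from (Subgroup.mem_center_iff.1 hdc _).symm)
    refine (Subgroup.eq_of_le_of_card_ge (Subgroup.zpowers_le.2 ?_) ?_).symm
    · exact (Subgroup.zpowers_le.2 x.2) hmem
    · rw [hH, Nat.card_zpowers, hd]
  intro H K hH hK
  haveI : Nontrivial Rs := by
    haveI : Nontrivial H := Finite.one_lt_card_iff_nontrivial.1 (hH ▸ hr.out.one_lt)
    exact (Subtype.val_injective (p := fun x => x ∈ H)).nontrivial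
  have hP : IsPGroup r Rs := R.isPGroup'
  haveI := hP.center_nontrivial
  obtain ⟨k, hk0, hk⟩ := (hP.to_subgroup (Subgroup.center Rs)).nontrivial_iff_card.1 inferInstance
  obtain ⟨d, hd⟩ := exists_prime_orderOf_dvd_card' (G := Subgroup.center Rs) r
    (hk ▸ dvd_pow_self r hk0.ne')
  rw [← Subgroup.orderOf_coe] at hd
  rw [key H hH d hd d.2, key K hK d hd d.2]

theorem quaternion_gen (n : ℕ) (hn : 2 ≤ n) :
    Subgroup.closure {x : QuaternionGroup (2 ^ n) | x ^ 4 ≠ 1} =
      Subgroup.zpowers (QuaternionGroup.a 1) := by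
  haveI : NeZero (2 ^ n) := ⟨pow_ne_zero _ two_ne_zero⟩
  apply le_antisymm
  · rw [Subgroup.closure_le]
    intro x hx
    cases x with
    | a i =>
      refine Subgroup.mem_zpowers_iff.2 ⟨(i.val : ℤ), ?_⟩
      rw [zpow_natCast, QuaternionGroup.a_one_pow, ZMod.natCast_zmod_val]
    | xa i => exact absurd ((QuaternionGroup.orderOf_xa i) ▸ pow_orderOf_eq_one _) hx
  · rw [Subgroup.zpowers_le]
    refine Subgroup.subset_closure fun e => ?_
    have h1 := orderOf_dvd_of_pow_eq_one e
    rw [QuaternionGroup.orderOf_a_one] at h1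
    have h2 : 2 * 2 ^ n ≤ 4 := Nat.le_of_dvd (by norm_num) h1
    have h3 : 2 ^ 2 ≤ 2 ^ n := Nat.pow_le_pow_right two_pos hn
    omega

theorem index_zpowers_a (m : ℕ) [NeZero m] :
    (Subgroup.zpowers (QuaternionGroup.a 1 : QuaternionGroup m)).index = 2 := by
  have h := (Subgroup.zpowers (QuaternionGroup.a 1 : QuaternionGroup m)).index_mul_card
  rw [Nat.card_zpowers, QuaternionGroup.orderOf_a_one, Nat.card_eq_fintype_card,
    QuaternionGroup.card] at h
  have hm : 0 < m := Nat.pos_of_ne_zero (NeZero.ne m)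
  exact Nat.eq_of_mul_eq_mul_right (by omega : 0 < 2 * m) (h.trans (by ring))

/-- Kernel argument: a `p`-element centralising the normal cyclic pieces centralises the Fitting
subgroup. -/
theorem eq_one_of_centralizes (h : Setup Q V p) {x : Q} {k : ℕ} (hx : orderOf x = p ^ k)
    (hc : ∀ f ∈ Cfsg.fittingSubgroup Q, x * f = f * x) : x = 1 := by
  haveI := h.solvable
  have hmem : x ∈ Cfsg.fittingSubgroup Q :=
    ComponentsFitting.centralizer_fitting_le_of_solvable
      (Subgroup.mem_centralizer_iff.2 fun f hf => (hc f hf).symm)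
  have := fitting_prime_order h hmem
  rcases k with _ | k
  · rwa [pow_zero, orderOf_eq_one_iff] at hx
  · exact absurd (hx ▸ dvd_pow_self p k.succ_ne_zero) this

/-- A `p`-element fixing a subgroup of index two pointwise, of order prime to `p`, fixes all. -/
theorem centralizes_of_index_two {x : Q} {k : ℕ} (hx : orderOf x = p ^ k) {A R : Subgroup Q}
    (hRn : R.Normal) (hAR : A ≤ R) (hidx : A.relIndex R ≤ 2) (hA : ¬ p ∣ Nat.card A)
    (hxA : ∀ a ∈ A, x * a = a * x) : ∀ f ∈ R, x * f = f * x := by
  intro f hf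
  by_cases hfA : f ∈ A
  · exact hxA f hfA
  have h2 : (A.subgroupOf R).index = 2 := by
    have h0 : (A.subgroupOf R).index ≠ 0 := Subgroup.index_ne_zero_of_finite
    have h1 : (A.subgroupOf R).index ≠ 1 := fun e => hfA (by
      have := Subgroup.index_eq_one.1 e
      exact Subgroup.mem_subgroupOf.1 (this ▸ Subgroup.mem_top (⟨f, hf⟩ : R)))
    have h2 : (A.subgroupOf R).index ≤ 2 := hidx
    omega
  set c : Q := f⁻¹ * (x * f * x⁻¹) with hc
  have hxfA : x * f * x⁻¹ ∉ A := by
    intro hm
    apply hfA
    have := hxA _ hm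
    have e : x * f * x⁻¹ = f := mul_left_cancel (a := x) (by rw [this]; group)
    rwa [e] at hm
  have hcA : c ∈ A := by
    have hm := Subgroup.mul_mem_iff_of_index_two h2 (a := (⟨f, hf⟩ : R)⁻¹)
      (b := ⟨x * f * x⁻¹, hRn.conj_mem f hf x⟩)
    simp only [Subgroup.inv_mem_iff, Subgroup.mem_subgroupOf] at hm
    exact hm.2 (iff_of_false hfA hxfA)
  have hstep : ∀ j : ℕ, x ^ j * f * (x ^ j)⁻¹ = f * c ^ j := by
    intro j
    induction j with
    | zero => simp
    | succ j ih =>
      calc x ^ (j + 1) * f * (x ^ (j + 1))⁻¹ = x * (x ^ j * f * (x ^ j)⁻¹) * x⁻¹ := by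
            rw [pow_succ']; group
        _ = x * f * (c ^ j * x⁻¹) := by rw [ih]; group
        _ = x * f * (x⁻¹ * c ^ j) := by
            rw [((show Commute x c from hxA c hcA).inv_left.pow_right j).eq]
        _ = f * c * c ^ j := by rw [hc]; group
        _ = f * c ^ (j + 1) := by rw [mul_assoc, ← pow_succ']
  have h3 := hstep (p ^ k)
  rw [← hx, pow_orderOf_eq_one, one_mul, inv_one, mul_one, left_eq_mul, hx] at h3
  have hc1 : c = 1 := by
    have h4 : orderOf c ∣ p ^ k := orderOf_dvd_of_pow_eq_one h3
    have h5 : orderOf c ∣ Nat.card A := by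
      rw [← Subgroup.orderOf_mk c hcA]; exact orderOf_dvd_natCard _
    exact orderOf_eq_one_iff.1 (Nat.eq_one_of_dvd_coprimes
      (Nat.Coprime.pow_left k ((Fact.out : p.Prime).coprime_iff_not_dvd.2 hA)) h4 h5)
  rw [hc, inv_mul_eq_one, eq_mul_inv_iff_mul_eq] at hc1
  exact hc1.symm

/-- A permutation of `p`-power period of six points commuting with a free involution. -/
theorem perm_six {T : Type*} [Fintype T] [DecidableEq T] (hT : Fintype.card T = 6) (hp5 : 5 ≤ p)
    (σ : Equiv.Perm T) {k : ℕ} (hσ : σ ^ p ^ k = 1) (ι : T → T) (hι : ∀ t, ι t ≠ t)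
    (hcomm : ∀ t, σ t = t → σ (ι t) = ι t) : σ = 1 := by
  have h := Equiv.Perm.card_compl_support_modEq (σ := σ) (p := p) (n := k) hσ
  rw [hT] at h
  have hle : σ.supportᶜ.card ≤ 6 := hT ▸ Finset.card_le_univ _
  have h1 : σ.supportᶜ.card ≠ 1 := by
    intro e
    obtain ⟨t, ht⟩ := Finset.card_eq_one.1 e
    have ht' : σ t = t := by
      have : t ∈ σ.supportᶜ := ht ▸ Finset.mem_singleton_self t
      simpa using this
    have : ι t ∈ σ.supportᶜ := by simpa using hcomm t ht'
    rw [ht, Finset.mem_singleton] at this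
    exact hι t this
  have h6 : σ.supportᶜ.card = 6 := by
    rw [Nat.ModEq] at h
    rcases Nat.lt_or_ge 6 p with h7 | h7
    · rwa [Nat.mod_eq_of_lt (by omega), Nat.mod_eq_of_lt h7] at h
    · have hp6 : p ≠ 6 := fun e => by
        subst e; exact absurd (Fact.out : (6 : ℕ).Prime) (by decide)
      have : p = 5 := by omega
      subst this
      interval_cases σ.supportᶜ.card <;> simp_all
  rw [← Equiv.Perm.support_eq_empty_iff]
  have h8 := Finset.card_compl σ.support
  rw [h6, hT] at h8
  have := Finset.card_le_univ σ.support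
  rw [hT] at this
  exact Finset.card_eq_zero.1 (by omega)

theorem q8_facts :
    (∀ x : QuaternionGroup 2, ∃ (k : Fin 4) (l : Fin 2), x =
      (QuaternionGroup.a 1) ^ (k : ℕ) * (QuaternionGroup.xa 0) ^ (l : ℕ)) ∧
    (QuaternionGroup.a 1 : QuaternionGroup 2) * QuaternionGroup.a 1 =
      QuaternionGroup.xa 0 * QuaternionGroup.xa 0 ∧
    (QuaternionGroup.a 1 : QuaternionGroup 2) * QuaternionGroup.a 1 ≠ 1 ∧
    (QuaternionGroup.a 1 * QuaternionGroup.a 1 : QuaternionGroup 2) *
      (QuaternionGroup.a 1 * QuaternionGroup.a 1) = 1 ∧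
    (QuaternionGroup.xa 0 : QuaternionGroup 2) * QuaternionGroup.a 1 =
      QuaternionGroup.a 1 * QuaternionGroup.a 1 * (QuaternionGroup.a 1 * QuaternionGroup.xa 0) ∧
    (Finset.univ.filter fun x : QuaternionGroup 2 => x * x ≠ 1).card = 6 := by
  decide

/-- The case of a normal quaternion group of order eight in characteristic three. -/
theorem card_eq_nine (h : Setup Q V 3) (R : Subgroup Q) [R.Normal]
    (hR3 : ¬ 3 ∣ Nat.card R) (e : R ≃* QuaternionGroup 2) : Nat.card V = 9 := by
  obtain ⟨hgen, hii, hz1, hz2, hji, -⟩ := q8_facts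
  set i : R := e.symm (QuaternionGroup.a 1) with hi
  set j : R := e.symm (QuaternionGroup.xa 0) with hj
  set z : R := i * i with hz
  have hfpf : ∀ r : R, r ≠ 1 → ∀ v : V, (r : Q) • v = v → v = 1 := fun r hr v hv =>
    h.fpf r (fun hd => hR3 (hd.trans (Subgroup.orderOf_coe r ▸ orderOf_dvd_natCard r)))
      (fun e => hr (Subtype.ext e)) v hv
  have hzz : z * z = 1 := by
    rw [hz, hi, ← map_mul, ← map_mul, hz2, map_one]
  have hzne : z ≠ 1 := fun e' => hz1 (e.symm.injective (by rw [map_mul, map_one]; exact e'))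
  have hzv : ∀ v : V, (z : Q) • v = v⁻¹ := by
    intro v
    have := hfpf z hzne (v * (z : Q) • v) (by
      rw [smul_mul', ← mul_smul, ← Subgroup.coe_mul, hzz, Subgroup.coe_one, one_smul, mul_comm])
    exact eq_inv_of_mul_eq_one_right this
  have hjz : j * j = z := by rw [hz, hi, hj, ← map_mul, ← map_mul, hii]
  have hjiz : j * i = z * (i * j) := by rw [hz, hi, hj, ← map_mul, ← map_mul, ← map_mul, ← map_mul, hji]
  let act : Q → Additive V →+ Additive V := fun g =>
    MonoidHom.toAdditive (MulDistribMulAction.toMonoidHom V g)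
  have hact : ∀ (g : Q) (v : Additive V), act g v = Additive.ofMul (g • v.toMul) := fun _ _ => rfl
  have hactm : ∀ (g g' : Q) (v : Additive V), act (g * g') v = act g (act g' v) := fun g g' v =>
    congrArg Additive.ofMul (mul_smul g g' v.toMul)
  have hneg : ∀ v : Additive V, act (z : Q) v = -v := fun v => congrArg Additive.ofMul (hzv v.toMul)
  have h9 := card_le_nine (V := Additive V) (fun v => by
      have := h.expo v.toMul
      rw [pow_succ, pow_succ, pow_one] at this
      exact congrArg Additive.ofMul this) (act i) (act j)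
    (fun v => by rw [← hactm, ← Subgroup.coe_mul]; exact hneg v)
    (fun v => by rw [← hactm, ← Subgroup.coe_mul, hjz]; exact hneg v)
    (fun v => by
      rw [← hactm, ← hactm, ← Subgroup.coe_mul, hjiz, Subgroup.coe_mul, hactm, hneg]; rfl)
    (fun v w hv hw => by
      obtain ⟨g, hg⟩ := h.trans v.toMul w.toMul (fun e => hv (congrArg Additive.ofMul e))
        (fun e => hw (congrArg Additive.ofMul e))
      refine ⟨MulEquiv.toAdditive (MulDistribMulAction.toMulEquiv V g),
        congrArg Additive.ofMul hg, fun U hU u hu => ?_⟩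
      have hstab : ∀ r : R, ∀ u ∈ U, act (r : Q) u ∈ U := by
        intro r
        have hpow : ∀ (s : R), (∀ u ∈ U, act (s : Q) u ∈ U) → ∀ n : ℕ, ∀ u ∈ U,
            act ((s ^ n : R) : Q) u ∈ U := by
          intro s hs n
          induction n with
          | zero => intro u hu; simpa [hact] using hu
          | succ n ih =>
            intro u hu
            rw [pow_succ, Subgroup.coe_mul, hactm]
            exact ih _ (hs u hu)
        obtain ⟨k, l, hkl⟩ := hgen (e r)
        have hr : r = i ^ (k : ℕ) * j ^ (l : ℕ) := e.injective (by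
          rw [hkl, map_mul, map_pow, map_pow, hi, hj, e.apply_symm_apply, e.apply_symm_apply])
        intro u hu
        rw [hr, Subgroup.coe_mul, hactm]
        exact hpow i (fun u hu => (hU u hu).1) _ _ (hpow j (fun u hu => (hU u hu).2) _ u hu)
      have key : ∀ r : R, ∃ a ∈ U, act (r : Q) (Additive.ofMul (g • u.toMul)) =
          Additive.ofMul (g • a.toMul) := fun r => by
        refine ⟨act (g⁻¹ * r * g) u, ?_, ?_⟩
        · exact hstab ⟨g⁻¹ * r * g, by simpa using (inferInstance : R.Normal).conj_mem r r.2 g⁻¹⟩ u hu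
        · simp only [hact, toMul_ofMul]
          rw [← mul_smul, ← mul_smul]
          congr 2
          group
      obtain ⟨a, ha, ea⟩ := key i
      obtain ⟨b, hb, eb⟩ := key j
      exact ⟨a, ha, b, hb, ea, eb⟩)
  have h9' : Nat.card V ≤ 9 := h9
  haveI := h.nontriv
  have hV3 : IsPGroup 3 V := fun v => ⟨1, by rw [pow_one]; exact h.expo v⟩
  obtain ⟨n, hn0, hn⟩ := hV3.nontrivial_iff_card.1 inferInstance
  have hn2 : n ≤ 2 := by
    by_contra hlt
    have : 3 ^ 3 ≤ 3 ^ n := Nat.pow_le_pow_right (by norm_num) (by omega)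
    omega
  rw [hn]
  have h4 : Nat.card (Subgroup.zpowers i) ∣ Nat.card V - 1 := by
    refine FrobeniusFPF.card_dvd_sub_one (W := V) (M := Subgroup.zpowers i) ?_
    let _ : MulDistribMulAction (Subgroup.zpowers i) V :=
      MulDistribMulAction.compHom V (R.subtype.comp (Subgroup.zpowers i).subtype)
    exact fun m hm v hv => hfpf m (fun e => hm (Subtype.ext e)) v hv
  have h4c : Nat.card (Subgroup.zpowers i) = 4 := by
    rw [Nat.card_zpowers, hi, MulEquiv.orderOf_eq, QuaternionGroup.orderOf_a_one]
  rw [h4c, hn] at h4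
  interval_cases n
  · norm_num at h4
  · norm_num

theorem main (h : Setup Q V p) :
    Cfsg.HasNormalPComplement p Q ∧ ∀ S : Sylow p Q, IsMulCommutative (S : Subgroup Q) := by
  classical
  haveI := h.nontriv
  haveI := h.solvable
  set F := Cfsg.fittingSubgroup Q with hF
  haveI : Group.IsNilpotent F := ComponentsFitting.fittingSubgroup_isNilpotent
  have hSyl : ∀ (r : ℕ) [Fact r.Prime] (R : Sylow r F),
      IsCyclic (R : Subgroup F) ∨ (r = 2 ∧ ∃ n, Nonempty ((R : Subgroup F) ≃* QuaternionGroup (2 ^ n))) :=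
    fun r _ R => PGroupsCyclic.isCyclic_or_quaternion R.isPGroup' (unique_prime_order h R)
  -- the normal images
  let img : Subgroup F → Subgroup Q := fun A => A.map F.subtype
  have himgn : ∀ A : Subgroup F, A.Characteristic → (img A).Normal := fun A hA => by
    haveI := hA; exact inferInstance
  have hgenF : ∀ x : Q, (∀ (r : ℕ) [Fact r.Prime], ∀ R : Sylow r F, ∀ f ∈ img R, x * f = f * x) →
      ∀ f ∈ F, x * f = f * x := by
    intro x hx f hf
    let C : Subgroup F := (Subgroup.centralizer ({x} : Set Q)).subgroupOf F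
    have hC : C = ⊤ := by
      rw [← Subgroup.card_eq_iff_eq_top]
      refine Nat.dvd_antisymm (Subgroup.card_subgroup_dvd_card C) ?_
      rw [← Nat.factorization_prime_le_iff_dvd Nat.card_pos.ne' Nat.card_pos.ne']
      intro r hr
      haveI := Fact.mk hr
      obtain ⟨R⟩ : Nonempty (Sylow r F) := inferInstance
      have hle : (R : Subgroup F) ≤ C := fun y hy =>
        Subgroup.mem_subgroupOf.2 (Subgroup.mem_centralizer_singleton_iff.2
          (hx r R _ (Subgroup.mem_map_of_mem _ hy)).symm)
      have := Subgroup.card_dvd_of_le hle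
      rw [R.card_eq_multiplicity] at this
      exact (hr.pow_dvd_iff_le_factorization Nat.card_pos.ne').1 this
    have : (⟨f, hf⟩ : F) ∈ C := hC ▸ Subgroup.mem_top _
    exact (Subgroup.mem_centralizer_singleton_iff.1 (Subgroup.mem_subgroupOf.1 this)).symm
  let K : Subgroup Q := commutator Q ⊔ ⊥
  let Kc : Subgroup Q :=
    { carrier := {x | ∀ A : Subgroup Q, A.Normal → IsCyclic A → ∀ a ∈ A, x * a = a * x}
      one_mem' := fun A _ _ a _ => by simp
      mul_mem' := fun {u v} hu hv A hn hc a ha => by
        rw [mul_assoc, hv A hn hc a ha, ← mul_assoc, hu A hn hc a ha, mul_assoc]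
      inv_mem' := fun {u} hu A hn hc a ha =>
        ((show Commute u a from hu A hn hc a ha).inv_left).eq }
  have hKc : commutator Q ≤ Kc := fun x hx A hn hc a ha => by
    haveI := hn
    exact (Subgroup.mem_centralizer_iff.1 (commutator_le_centralizer A hc hx) a ha).symm
  -- the Sylow two-subgroup of `F`
  obtain ⟨R2⟩ : Nonempty (Sylow 2 F) := inferInstance
  haveI : Fact (Nat.Prime 2) := ⟨Nat.prime_two⟩
  haveI hR2c : (R2 : Subgroup F).Characteristic :=
    R2.characteristic_of_normal (inferInstance : (R2 : Subgroup F).Normal)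
  haveI hR2n : (img R2).Normal := himgn _ hR2c
  by_cases hbad : p = 3 ∧ Nonempty ((R2 : Subgroup F) ≃* QuaternionGroup 2)
  · obtain ⟨rfl, ⟨e⟩⟩ := hbad
    have e' : img R2 ≃* QuaternionGroup 2 :=
      ((R2 : Subgroup F).equivMapOfInjective F.subtype Subtype.val_injective).symm.trans e
    have hR8 : Nat.card (img R2) = 8 := by
      rw [Nat.card_congr e'.toEquiv, Nat.card_eq_fintype_card, QuaternionGroup.card]
    have h9 := card_eq_nine h (img R2) (by rw [hR8]; norm_num) e'
    -- orbit and stabiliser
    obtain ⟨v, hv⟩ := exists_ne (1 : V)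
    have horb : MulAction.orbit Q v = ({1}ᶜ : Set V) := by
      ext w
      constructor
      · rintro ⟨g, rfl⟩ (e1 : g • v = 1)
        exact hv (by simpa using congrArg (fun u => g⁻¹ • u) e1)
      · exact fun hw => h.trans v w hv hw
    have hstabp : IsPGroup 3 (MulAction.stabilizer Q v) := by
      intro g
      obtain ⟨a, m, hm, hgm⟩ := Nat.exists_eq_pow_mul_and_not_dvd (orderOf_pos (g : Q)).ne' 3 (by norm_num)
      refine ⟨a, Subtype.ext ?_⟩
      by_contra hne
      refine hv (h.fpf ((g : Q) ^ 3 ^ a) (fun hd => hm (hd.trans (orderOf_dvd_of_pow_eq_one ?_)))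
        (by simpa using hne) v (MulAction.mem_stabilizer_iff.1 (pow_mem g.2 _)))
      rw [← pow_mul, ← hgm, pow_orderOf_eq_one]
    obtain ⟨a, ha⟩ := IsPGroup.iff_card.1 hstabp
    have hQcard : Nat.card Q = 8 * 3 ^ a := by
      rw [← (MulAction.stabilizer Q v).index_mul_card, MulAction.index_stabilizer, horb, ha,
        Set.ncard_compl, Set.ncard_singleton, h9]
    have hidx : (img R2).index = 3 ^ a := by
      have := (img R2).index_mul_card
      rw [hR8, hQcard] at this
      exact Nat.eq_of_mul_eq_mul_right (by norm_num) (this.trans (by ring))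
    refine ⟨TransferPResidual.hasNormalPComplement_of_normal (N := img R2)
      (IsPGroup.of_card (n := a) hidx) (by rw [hR8]; norm_num), fun S => ?_⟩
    have hFeq : ∀ f ∈ F, f ∈ img R2 := by
      intro f hf
      by_contra hne
      have h1 := fitting_prime_order h hf
      have h2 : orderOf ((f : Q) : Q ⧸ img R2) ∣ 3 ^ a := hidx ▸ orderOf_dvd_natCard _
      obtain ⟨b, -, hb⟩ := (Nat.dvd_prime_pow Nat.prime_three).1 h2
      rcases b with _ | b
      · rw [pow_zero, orderOf_eq_one_iff, QuotientGroup.eq_one_iff] at hb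
        exact hne hb
      · exact h1 ((hb ▸ dvd_pow_self 3 b.succ_ne_zero : 3 ∣ orderOf ((f : Q) : Q ⧸ img R2)).trans
          (orderOf_map_dvd (QuotientGroup.mk' (img R2)) f))
    let φ : (S : Subgroup Q) →* Equiv.Perm (img R2) :=
      { toFun := fun s => (MulAut.conjNormal (s : Q) : img R2 ≃* img R2).toEquiv
        map_one' := by ext x; simp
        map_mul' := fun s t => by ext x; simp }
    have hφ : Function.Injective φ := by
      rw [injective_iff_map_eq_one]
      intro s hs
      obtain ⟨k, hk⟩ := IsPGroup.iff_orderOf.1 S.isPGroup' s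
      refine Subtype.ext (eq_one_of_centralizes h (k := k) (by rw [Subgroup.orderOf_coe]; exact hk)
        fun f hf => ?_)
      have := congrArg (fun σ : Equiv.Perm (img R2) => ((σ ⟨f, hFeq f hf⟩ : img R2) : Q)) hs
      simp only [φ, MonoidHom.coe_mk, OneHom.coe_mk, Equiv.Perm.coe_one, id_eq,
        MulEquiv.toEquiv_eq_coe, EquivLike.coe_coe, MulAut.conjNormal_apply] at this
      exact mul_inv_eq_iff_eq_mul.1 this
    have hdvd : Nat.card (S : Subgroup Q) ∣ Nat.card (Equiv.Perm (img R2)) :=
      Subgroup.card_dvd_of_injective φ hφ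
    haveI : Fintype (img R2) := Fintype.ofFinite _
    rw [Nat.card_perm, hR8] at hdvd
    obtain ⟨b, hb⟩ := IsPGroup.iff_card.1 S.isPGroup'
    rw [hb] at hdvd
    have hb2 : b ≤ 2 := by
      by_contra hlt
      exact absurd ((pow_dvd_pow 3 (show 3 ≤ b by omega)).trans hdvd) (by decide)
    interval_cases b
    · haveI : Subsingleton (S : Subgroup Q) := (Nat.card_eq_one_iff_unique.1 (by simpa using hb)).1
      exact ⟨⟨fun a b => Subsingleton.elim _ _⟩⟩
    · haveI := isCyclic_of_prime_card (p := 3) (by simpa using hb : Nat.card (S : Subgroup Q) = 3)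
      exact IsCyclic.isMulCommutative
    · exact IsPGroup.isMulCommutative_of_card_eq_prime_sq hb
  · -- the general case
    refine conclude_of_kernel Kc hKc fun hd => ?_
    obtain ⟨⟨x, hxK⟩, hx⟩ := exists_prime_orderOf_dvd_card' p hd
    rw [Subgroup.orderOf_mk] at hx
    have hx1 : x ≠ 1 := fun e => by
      rw [e, orderOf_one] at hx; exact (Fact.out : p.Prime).one_lt.ne hx
    have hxp : orderOf x = p ^ 1 := by rw [pow_one, hx]
    refine hx1 (eq_one_of_centralizes h hxp (hgenF x ?_))
    intro r hr R
    haveI hRc : (R : Subgroup F).Characteristic :=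
      R.characteristic_of_normal (inferInstance : (R : Subgroup F).Normal)
    rcases hSyl r R with hcyc | ⟨rfl, n, ⟨e⟩⟩
    · refine hxK (img R) (himgn _ hRc) ?_
      exact ((R : Subgroup F).equivMapOfInjective F.subtype Subtype.val_injective).isCyclic.1 hcyc
    · have hRR : R = R2 := by
        haveI := Sylow.unique_of_normal R2 (inferInstance : (R2 : Subgroup F).Normal)
        exact Subsingleton.elim _ _
      subst hRR
      let eI : img R ≃* QuaternionGroup (2 ^ n) :=
        ((R : Subgroup F).equivMapOfInjective F.subtype Subtype.val_injective).symm.trans e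
      have hcardR : Nat.card (img R) = 4 * 2 ^ n := by
        rw [Nat.card_congr eI.toEquiv, Nat.card_eq_fintype_card, QuaternionGroup.card]
      have hpR : ¬ p ∣ Nat.card (img R) := by
        intro hdd
        obtain ⟨y, hy⟩ := exists_prime_orderOf_dvd_card' p hdd
        refine fitting_prime_order h (Subgroup.map_subtype_le _ y.2) ?_
        rw [Subgroup.orderOf_coe, hy]
      haveI : NeZero (2 ^ n) := ⟨pow_ne_zero _ two_ne_zero⟩
      rcases Nat.lt_or_ge n 2 with hn | hn
      swap
      · -- a characteristic cyclic subgroup of index two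
        set A := (Subgroup.zpowers (QuaternionGroup.a 1 : QuaternionGroup (2 ^ n))).map
          ((img R).subtype.comp eI.symm.toMonoidHom) with hA
        have hAn : A.Normal := by
          refine ⟨fun a ha g => ?_⟩
          rw [hA, ← quaternion_gen n hn, MonoidHom.map_closure] at ha ⊢
          induction ha using Subgroup.closure_induction with
          | mem u hu =>
            obtain ⟨q, hq, rfl⟩ := hu
            refine Subgroup.subset_closure ⟨eI (MulAut.conjNormal g (eI.symm q)), ?_, ?_⟩
            · show eI (MulAut.conjNormal g (eI.symm q)) ^ 4 ≠ 1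
              rw [← map_pow, ← map_pow, ← map_pow]
              exact fun e1 => hq ((MulEquiv.map_eq_one_iff _).1 ((MulEquiv.map_eq_one_iff _).1
                ((MulEquiv.map_eq_one_iff _).1 e1)))
            · simp
          | one => simp
          | mul u v _ _ hu hv =>
            rw [show g * (u * v) * g⁻¹ = g * u * g⁻¹ * (g * v * g⁻¹) by group]
            exact mul_mem hu hv
          | inv u _ hu =>
            rw [show g * u⁻¹ * g⁻¹ = (g * u * g⁻¹)⁻¹ by group]
            exact inv_mem hu
        have hAR : A ≤ img R := by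
          rintro _ ⟨q, -, rfl⟩; exact (eI.symm q).2
        have hinj : Function.Injective ((img R).subtype.comp eI.symm.toMonoidHom) :=
          Subtype.val_injective.comp eI.symm.injective
        have hAcyc : IsCyclic A := by
          rw [hA]
          exact (Subgroup.equivMapOfInjective _ _ hinj).isCyclic.1 inferInstance
        refine centralizes_of_index_two hxp (himgn _ hRc) hAR ?_
          (fun hdd => hpR (hdd.trans (Subgroup.card_dvd_of_le hAR))) (hxK A hAn hAcyc)
        have hcA : Nat.card A = 2 * 2 ^ n := by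
          rw [hA, ← Nat.card_congr (Subgroup.equivMapOfInjective _ _ hinj).toEquiv, Nat.card_zpowers,
            QuaternionGroup.orderOf_a_one]
        have h := (A.subgroupOf (img R)).index_mul_card
        rw [Nat.card_congr (Subgroup.subgroupOfEquivOfLe hAR).toEquiv, hcA, hcardR] at h
        have h2 : A.relIndex (img R) = 2 :=
          Nat.eq_of_mul_eq_mul_right (by positivity : 0 < 2 * 2 ^ n) (h.trans (by ring))
        omega
      · interval_cases n
        · -- a cyclic group of order four
          have hc : IsCyclic (img R) := by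
            refine eI.isCyclic.2 ?_
            refine isCyclic_of_orderOf_eq_card (QuaternionGroup.xa 0) ?_
            refine (QuaternionGroup.orderOf_xa 0).trans ?_
            norm_num [Nat.card_eq_fintype_card, QuaternionGroup.card]
          exact hxK (img R) (himgn _ hRc) hc
        · -- the quaternion group of order eight
          have hp5 : 5 ≤ p := by
            have h2 : p ≠ 2 := fun e2 => hpR (by rw [hcardR, e2]; norm_num)
            have h3 : p ≠ 3 := fun e3 => hbad ⟨e3, ⟨e⟩⟩
            have := (Fact.out : p.Prime).two_le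
            have h4 : p ≠ 4 := fun e4 => by
              have := (Fact.out : p.Prime); rw [e4] at this; norm_num at this
            omega
          let T := {f : img R // f * f ≠ 1}
          haveI : Fintype T := Fintype.ofFinite T
          have hT : Fintype.card T = 6 := by
            rw [← q8_facts.2.2.2.2.2, ← Fintype.card_subtype, ← Nat.card_eq_fintype_card,
              ← Nat.card_eq_fintype_card]
            exact Nat.card_congr (Equiv.subtypeEquiv eI.toEquiv fun f => by
              simp [← map_mul])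
          let ψ : Q →* Equiv.Perm T :=
            { toFun := fun g => Equiv.subtypeEquiv (MulAut.conjNormal g : img R ≃* img R).toEquiv
                fun f => by simp [← map_mul]
              map_one' := by ext t; simp
              map_mul' := fun g g' => by ext t; simp [mul_assoc] }
          have hσ : ψ x = 1 := by
            refine perm_six hT hp5 (ψ x) (k := 1) ?_ (fun t => ⟨t.1⁻¹, fun e => t.2 (by
              rw [← inv_inj, mul_inv_rev, e, inv_one])⟩) (fun t e => t.2 ?_) (fun t ht => ?_)
            · rw [pow_one, ← map_pow, ← hx, pow_orderOf_eq_one, map_one]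
            · have : (t.1 : img R)⁻¹ = t.1 := congrArg Subtype.val e
              rw [← inv_eq_iff_mul_eq_one]; exact this
            · apply Subtype.ext
              show (MulAut.conjNormal x : img R ≃* img R) t.1⁻¹ = t.1⁻¹
              rw [map_inv]
              exact congrArg (·⁻¹) (congrArg Subtype.val ht)
          have hbig : ∀ f : img R, f * f ≠ 1 → x * f = (f : Q) * x := fun f hf => by
            have := congrArg (fun σ : Equiv.Perm T => (((σ ⟨f, hf⟩ : T) : img R) : Q)) hσ
            simp only [ψ, MonoidHom.coe_mk, OneHom.coe_mk, Equiv.Perm.coe_one, id_eq,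
              Equiv.subtypeEquiv_apply, MulEquiv.toEquiv_eq_coe, EquivLike.coe_coe,
              MulAut.conjNormal_apply] at this
            exact mul_inv_eq_iff_eq_mul.1 this
          intro f hf
          -- write `f` through `i` and `j`
          obtain ⟨hgen, hii, hz1, -⟩ := q8_facts
          obtain ⟨k, l, hkl⟩ := hgen (eI ⟨f, hf⟩)
          have hfe : (⟨f, hf⟩ : img R) =
              eI.symm (QuaternionGroup.a 1) ^ (k : ℕ) * eI.symm (QuaternionGroup.xa 0) ^ (l : ℕ) :=
            eI.injective (by
              rw [hkl, map_mul, map_pow, map_pow, eI.apply_symm_apply, eI.apply_symm_apply])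
          have hi1 : eI.symm (QuaternionGroup.a 1) * eI.symm (QuaternionGroup.a 1) ≠ 1 := by
            rw [← map_mul]
            exact fun e1 => hz1 (eI.symm.injective (e1.trans (map_one eI.symm).symm))
          have hj1 : eI.symm (QuaternionGroup.xa 0) * eI.symm (QuaternionGroup.xa 0) ≠ 1 := by
            rw [← map_mul]
            exact fun e1 => hz1 (hii.trans (eI.symm.injective (e1.trans (map_one eI.symm).symm)))
          have := congrArg Subtype.val hfe
          simp only [Subgroup.coe_mul, SubgroupClass.coe_pow] at this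
          rw [this]
          exact ((Commute.pow_right (hbig _ hi1) _).mul_right (Commute.pow_right (hbig _ hj1) _)).eq

end Main

end Cfsg.Agent.GagolaSolvable
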