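import Mathlib

/-!
A presentation-style criterion for a homomorphism out of `SL(2,3)`.
-/

set_option autoImplicit false

namespace Cfsg.Agent.SL23Model77

abbrev SL := Matrix.SpecialLinearGroup (Fin 2) (ZMod 3)

def w0 : SL := ⟨!![0, 2; 1, 0], by decide⟩
def u : SL := ⟨!![1, 1; 0, 1], by decide⟩
def w1 : SL := u * w0 * u⁻¹

abbrev Idx := Fin 4 × Fin 2 × Fin 3

def enc (t : Idx) : SL := w0 ^ t.1.val * w1 ^ t.2.1.val * u ^ t.2.2.val

def stepX (t : Idx) : Idx := (t.1 + 1, t.2)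

def stepA : Fin 4 × Fin 2 → Fin 4 × Fin 2 := fun p =>
  if p = (0, 0) then (0, 0) else if p = (0, 1) then (1, 1) else if p = (1, 0) then (0, 1)
  else if p = (1, 1) then (1, 0) else if p = (2, 0) then (2, 0) else if p = (2, 1) then (3, 1)
  else if p = (3, 0) then (2, 1) else (3, 0)

def stepG (t : Idx) : Idx := ((stepA (t.1, t.2.1)).1, (stepA (t.1, t.2.1)).2, t.2.2 + 1)

theorem enc_stepX : ∀ t, enc (stepX t) = w0 * enc t := by decide

theorem enc_stepG : ∀ t, enc (stepG t) = u * enc t := by decide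

theorem enc_injective : ∀ t t', enc t = enc t' → t = t' := by decide

theorem enc_surjective : ∀ s : SL, ∃ t, enc t = s := by decide

theorem enc_zero : enc (0, 0, 0) = 1 := by decide

/-- every nontrivial element has the central involution in its normal closure -/
theorem kernel_fact : ∀ s : SL, s ≠ 1 → s = w0 ^ 2 ∨ s ^ 2 = w0 ^ 2 ∨ s ^ 3 = w0 ^ 2 ∨
    (s * w0 * s⁻¹ * w0⁻¹) ^ 2 = w0 ^ 2 ∨ (s * w1 * s⁻¹ * w1⁻¹) ^ 2 = w0 ^ 2 := by decide

variable {L : Type*} [Group L]

/-- A pair satisfying the relations of `SL(2,3)` gives a homomorphism from it. -/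
theorem exists_hom (x g : L) (hx : x ^ 4 = 1) (hg : g ^ 3 = 1)
    (hsq : g * x * g⁻¹ * (g * x * g⁻¹) = x * x)
    (hinv : g * x * g⁻¹ * x * (g * x * g⁻¹)⁻¹ = x⁻¹)
    (hy : g * (g * x * g⁻¹) * g⁻¹ = x * (g * x * g⁻¹)) :
    ∃ f : SL →* L, f w0 = x ∧ f u = g := by
  set y := g * x * g⁻¹ with hydef
  let NF : Idx → L := fun t => x ^ t.1.val * y ^ t.2.1.val * g ^ t.2.2.val
  choose dec hdec using enc_surjective
  let f : SL → L := fun s => NF (dec s)
  have hfe : ∀ t, f (enc t) = NF t := fun t => congrArg NF (enc_injective _ _ (hdec (enc t)))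
  have pow4 : ∀ i : Fin 4, x ^ (i + 1).val = x * x ^ i.val := by
    intro i
    rw [← pow_succ']
    fin_cases i <;> simp [hx]
  have pow3 : ∀ i : Fin 3, g ^ (i + 1).val = g * g ^ i.val := by
    intro i
    rw [← pow_succ']
    fin_cases i <;> simp [hg]
  have hX : ∀ s, f (w0 * s) = x * f s := by
    intro s
    obtain ⟨t, rfl⟩ := enc_surjective s
    rw [← enc_stepX, hfe, hfe]
    change x ^ (t.1 + 1).val * y ^ t.2.1.val * g ^ t.2.2.val = _
    rw [pow4]
    simp only [NF, mul_assoc]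
  have hA : ∀ p : Fin 4 × Fin 2, g * (x ^ p.1.val * y ^ p.2.val) * g⁻¹ =
      x ^ (stepA p).1.val * y ^ (stepA p).2.val := by
    intro p
    have hc : g * (x ^ p.1.val * y ^ p.2.val) * g⁻¹ = y ^ p.1.val * (x * y) ^ p.2.val := by
      have ei : y ^ p.1.val = g * x ^ p.1.val * g⁻¹ := conj_pow
      rw [ei, ← hy, conj_pow (a := g) (b := y)]
      group
    rw [hc]
    have hxy : y * x = x⁻¹ * y := mul_inv_eq_iff_eq_mul.1 hinv
    have hxi : x⁻¹ = x ^ 3 := inv_eq_of_mul_eq_one_right (by rw [← pow_succ']; exact hx)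
    have hy2 : y ^ 2 = x ^ 2 := by rw [pow_two, pow_two]; exact hsq
    have hy3 : y ^ 3 = x ^ 2 * y := by rw [pow_succ, hy2]
    have e1 : y * (x * y) = x := by
      rw [← mul_assoc, hxy, mul_assoc, hsq, ← mul_assoc, inv_mul_cancel, one_mul]
    have e2 : x ^ 2 * (x * y) = x ^ 3 * y := by rw [← mul_assoc, ← pow_succ]
    have e3 : x ^ 2 * y * (x * y) = x ^ 3 := by rw [mul_assoc, e1, ← pow_succ]
    obtain ⟨i, j⟩ := p
    fin_cases i <;> fin_cases j <;> simp [stepA, hy2, hy3, e1, e2, e3]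
  have hG : ∀ s, f (u * s) = g * f s := by
    intro s
    obtain ⟨t, rfl⟩ := enc_surjective s
    rw [← enc_stepG, hfe, hfe]
    change x ^ (stepA (t.1, t.2.1)).1.val * y ^ (stepA (t.1, t.2.1)).2.val * g ^ (t.2.2 + 1).val = _
    rw [pow3, ← hA (t.1, t.2.1)]
    simp only [NF]
    group
  have h1 : f 1 = 1 := by
    rw [← enc_zero, hfe]; simp [NF]
  let S : Submonoid SL :=
    { carrier := {s | ∀ t, f (s * t) = f s * f t}
      one_mem' := fun t => by rw [one_mul, h1, one_mul]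
      mul_mem' := fun {a b} ha hb t => by rw [mul_assoc, ha, hb, ha b]; exact (mul_assoc _ _ _).symm }
  have hfw : f w0 = x := by
    have := hX 1
    rwa [mul_one, h1, mul_one] at this
  have hfu : f u = g := by
    have := hG 1
    rwa [mul_one, h1, mul_one] at this
  have hw0 : w0 ∈ S := fun t => by rw [hX, hfw]
  have hu : u ∈ S := fun t => by rw [hG, hfu]
  have hw1 : w1 ∈ S := by
    rw [w1, show u⁻¹ = u * u by decide]
    exact S.mul_mem (S.mul_mem hu hw0) (S.mul_mem hu hu)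
  have hall : ∀ s, s ∈ S := by
    intro s
    obtain ⟨t, rfl⟩ := enc_surjective s
    exact S.mul_mem (S.mul_mem (pow_mem hw0 _) (pow_mem hw1 _)) (pow_mem hu _)
  exact ⟨{ toFun := f, map_one' := h1, map_mul' := fun s t => hall s t }, hfw, hfu⟩

end Cfsg.Agent.SL23Model77
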