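import Mathlib
import Cfsg.Agent.Lib.GagolaSolvable
import Cfsg.Agent.Lib.PGroupsCyclic
import Cfsg.Agent.Lib.SL23Model77

/-!
Solvable linear groups acting regularly on the non-zero vectors of a finite vector space.
-/

set_option autoImplicit false
set_option linter.style.haveILetI false

namespace Cfsg.Agent.SolvableRegularLinear75

variable {q : ℕ} [Fact q.Prime] {V : Type*} [AddCommGroup V] [Module (ZMod q) V] [Finite V]
  [Nontrivial V] {G : Type*} [Group G] [Finite G]

/-- `ρ` is a regular action on the non-zero vectors. -/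
structure IsRegularRep (ρ : G →* (V ≃ₗ[ZMod q] V)) : Prop where
  inj : Function.Injective ρ
  trans : ∀ v w : V, v ≠ 0 → w ≠ 0 → ∃ g : G, ρ g v = w
  free : ∀ v : V, v ≠ 0 → ∀ g : G, ρ g v = v → g = 1

variable {ρ : G →* (V ≃ₗ[ZMod q] V)}

theorem map_mul_apply (g h : G) (v : V) : ρ (g * h) v = ρ g (ρ h v) := by
  rw [map_mul]; rfl

theorem card_add_one (h : IsRegularRep ρ) : Nat.card G + 1 = Nat.card V := by
  classical
  obtain ⟨v, hv⟩ := exists_ne (0 : V)
  let f : G → {w : V // w ≠ 0} := fun g => ⟨ρ g v, fun e => hv ((ρ g).map_eq_zero_iff.mp e)⟩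
  have hf : Function.Bijective f := by
    constructor
    · intro a b hab
      have e : ρ a v = ρ b v := congrArg Subtype.val hab
      refine (inv_mul_eq_one.mp (h.free v hv (b⁻¹ * a) ?_)).symm
      rw [map_mul_apply, e, ← map_mul_apply, inv_mul_cancel, map_one]; rfl
    · rintro ⟨w, hw⟩
      obtain ⟨g, hg⟩ := h.trans v w hv hw
      exact ⟨g, Subtype.ext hg⟩
  haveI := Fintype.ofFinite V
  rw [Nat.card_congr (Equiv.ofBijective f hf), Nat.card_eq_fintype_card, Nat.card_eq_fintype_card,
    Fintype.card_subtype_compl, Fintype.card_subtype_eq]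
  have := Fintype.card_pos (α := V)
  omega

theorem exponent (v : V) : q • v = 0 := by
  rw [← Nat.cast_smul_eq_nsmul (ZMod q), ZMod.natCast_self, zero_smul]

theorem card_space : ∃ n, 0 < n ∧ Nat.card V = q ^ n := by
  refine ⟨Module.finrank (ZMod q) V, Module.finrank_pos, ?_⟩
  rw [Module.natCard_eq_pow_finrank (K := ZMod q), Nat.card_zmod]

theorem setup (h : IsRegularRep ρ) (hsol : Group.IsSolvable G) :
    letI : MulDistribMulAction G (Multiplicative V) :=
      { smul := fun g v => Multiplicative.ofAdd (ρ g v.toAdd)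
        one_smul := fun v => by
          show Multiplicative.ofAdd (ρ 1 v.toAdd) = v
          rw [map_one]; rfl
        mul_smul := fun a b v => congrArg Multiplicative.ofAdd (map_mul_apply a b v.toAdd)
        smul_mul := fun g v w => congrArg Multiplicative.ofAdd ((ρ g).map_add v.toAdd w.toAdd)
        smul_one := fun g => congrArg Multiplicative.ofAdd (ρ g).map_zero }
    GagolaSolvable.Setup G (Multiplicative V) q := by
  letI : MulDistribMulAction G (Multiplicative V) :=
    { smul := fun g v => Multiplicative.ofAdd (ρ g v.toAdd)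
      one_smul := fun v => by
        show Multiplicative.ofAdd (ρ 1 v.toAdd) = v
        rw [map_one]; rfl
      mul_smul := fun a b v => congrArg Multiplicative.ofAdd (map_mul_apply a b v.toAdd)
      smul_mul := fun g v w => congrArg Multiplicative.ofAdd ((ρ g).map_add v.toAdd w.toAdd)
      smul_one := fun g => congrArg Multiplicative.ofAdd (ρ g).map_zero }
  have hndvd : ¬ q ∣ Nat.card G := by
    intro hd
    obtain ⟨n, hn, hcard⟩ := card_space (V := V) (q := q)
    have h1 := card_add_one h
    have : q ∣ Nat.card G + 1 := by rw [h1, hcard]; exact dvd_pow_self q hn.ne'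
    exact (Fact.out : q.Prime).not_dvd_one ((Nat.dvd_add_right hd).mp this)
  refine ⟨inferInstanceAs (Nontrivial V), fun v => ?_, fun v w hv hw => ?_, fun g _ hg v hv => ?_, ?_, hsol⟩
  · exact congrArg Multiplicative.ofAdd (exponent (q := q) v.toAdd)
  · obtain ⟨g, hg⟩ := h.trans v.toAdd w.toAdd (fun e => hv (congrArg Multiplicative.ofAdd e))
      (fun e => hw (congrArg Multiplicative.ofAdd e))
    exact ⟨g, congrArg Multiplicative.ofAdd hg⟩
  · by_contra hne
    exact hg (h.free v.toAdd (fun e => hne (congrArg Multiplicative.ofAdd e)) g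
      (congrArg Multiplicative.toAdd hv))
  · obtain ⟨k, hk⟩ := (ComponentsCores.isPGroup_pCore (G := G) q).exists_card_eq
    rcases Nat.eq_zero_or_pos k with rfl | hpos
    · exact Subgroup.eq_bot_of_card_eq _ (by simpa using hk)
    · exact absurd ((hk ▸ dvd_pow_self q hpos.ne').trans (Subgroup.card_subgroup_dvd_card _)) hndvd

/-- Abelian subgroups are cyclic. -/
theorem isCyclic_abelian (h : IsRegularRep ρ) (A : Subgroup G)
    (hA : ∀ a ∈ A, ∀ b ∈ A, a * b = b * a) : IsCyclic A := by
  let _ : MulDistribMulAction A (Multiplicative V) :=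
    { smul := fun g v => Multiplicative.ofAdd (ρ g v.toAdd)
      one_smul := fun v => by
        show Multiplicative.ofAdd (ρ ((1 : A) : G) v.toAdd) = v
        rw [Subgroup.coe_one, map_one]; rfl
      mul_smul := fun a b v => congrArg Multiplicative.ofAdd (map_mul_apply (a : G) b v.toAdd)
      smul_mul := fun g v w => congrArg Multiplicative.ofAdd ((ρ g).map_add v.toAdd w.toAdd)
      smul_one := fun g => congrArg Multiplicative.ofAdd (ρ g).map_zero }
  refine FrobeniusFPF.isCyclic_of_comm (W := Multiplicative V) (fun m hm v hv => ?_)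
    (fun a b => Subtype.ext (hA a a.2 b b.2))
  by_contra hne
  exact hm (Subtype.ext (h.free v.toAdd (fun e => hne (congrArg Multiplicative.ofAdd e)) m
    (congrArg Multiplicative.toAdd hv)))

/-- There is at most one involution. -/
theorem involution_unique (h : IsRegularRep ρ) {a b : G} (ha : a * a = 1) (hb : b * b = 1)
    (ha1 : a ≠ 1) (hb1 : b ≠ 1) : a = b := by
  have hneg : ∀ g : G, g * g = 1 → g ≠ 1 → ∀ v, ρ g v = -v := by
    intro g hg hg1 v
    by_contra hne
    refine hg1 (h.free (v + ρ g v) (fun e => hne (eq_neg_of_add_eq_zero_right e)) g ?_)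
    rw [map_add, ← map_mul_apply, hg, map_one, add_comm]; rfl
  refine h.inj (LinearEquiv.ext fun v => ?_)
  rw [hneg a ha ha1, hneg b hb hb1]

theorem involution_central (h : IsRegularRep ρ) {a : G} (ha : a * a = 1) (ha1 : a ≠ 1) (g : G) :
    g * a = a * g := by
  have := involution_unique h (a := g * a * g⁻¹) (b := a) (by
    rw [show g * a * g⁻¹ * (g * a * g⁻¹) = g * (a * a) * g⁻¹ by group, ha]; group) ha
    (fun e => ha1 (by simpa using e)) ha1
  rwa [mul_inv_eq_iff_eq_mul] at this

theorem no_four_group (h : IsRegularRep ρ) {i j : G} (hc : i * j = j * i) (hi : i * i = j * j)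
    (hi4 : i * i * (i * i) = 1) (hi2 : i * i ≠ 1) : i = j ∨ i = j⁻¹ := by
  by_cases h1 : i * j⁻¹ = 1
  · exact Or.inl (mul_inv_eq_one.mp h1)
  have hc' : Commute i j := hc
  have hsq : i * j⁻¹ * (i * j⁻¹) = 1 := by
    calc i * j⁻¹ * (i * j⁻¹) = (i * i) * (j⁻¹ * j⁻¹) := by
          rw [mul_assoc i j⁻¹, ← mul_assoc j⁻¹ i, ← hc'.inv_right.eq, mul_assoc, mul_assoc]
      _ = 1 := by rw [hi, ← mul_inv_rev, mul_inv_cancel]
  have hz : i * j⁻¹ = i * i := involution_unique h hsq hi4 h1 hi2
  exact Or.inr (mul_left_cancel hz).symm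

/-- The semilinear structure given by a cyclic normal subgroup: a field `F` inside `End V`. -/
theorem semilinear (h : IsRegularRep ρ) (A : Subgroup G) [A.Normal] (hA : IsCyclic A) :
    ∃ d : ℕ, 0 < d ∧ (∃ m, 0 < m ∧ Nat.card V = q ^ (d * m) ∧
      (m = 1 → ∀ x ∈ Subgroup.centralizer (A : Set G), ∀ y ∈ Subgroup.centralizer (A : Set G),
        x * y = y * x) ∧
      (m = 1 → ∃ (F : Type) (_ : Field F) (_ : Fintype F) (e : V ≃+ F),
        ∀ g : G, ∃ (a : F) (σ : F ≃+* F), ∀ v : V, e (ρ g v) = a * σ (e v))) ∧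
      Nat.card A ∣ q ^ d - 1 ∧
      ∃ f : G →* Multiplicative (ZMod d), f.ker = Subgroup.centralizer (A : Set G) := by
  classical
  obtain ⟨a, ha⟩ := hA.exists_generator
  set T : Module.End (ZMod q) V := (ρ (a : G)).toLinearMap with hT
  set F := Algebra.adjoin (ZMod q) ({T} : Set (Module.End (ZMod q) V)) with hF
  haveI : Finite (Module.End (ZMod q) V) :=
    Finite.of_injective (fun f => (f : V → V)) DFunLike.coe_injective
  letI : CommRing F := Algebra.adjoinCommRingOfComm (ZMod q) (by
    intro x hx y hy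
    rw [Set.mem_singleton_iff] at hx hy
    rw [hx, hy])
  have hTmem : T ∈ F := Algebra.self_mem_adjoin_singleton _ _
  -- conjugation by the group preserves `F`
  let c : G → Module.End (ZMod q) V → Module.End (ZMod q) V := fun g x =>
    (ρ g).toLinearMap ∘ₗ x ∘ₗ (ρ g⁻¹).toLinearMap
  have hinv1 : ∀ (g : G) (v : V), ρ g (ρ g⁻¹ v) = v := fun g v => by
    rw [← map_mul_apply, mul_inv_cancel, map_one]; rfl
  have hinv2 : ∀ (g : G) (v : V), ρ g⁻¹ (ρ g v) = v := fun g v => by
    rw [← map_mul_apply, inv_mul_cancel, map_one]; rfl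
  have capply : ∀ g x v, c g x v = ρ g (x (ρ g⁻¹ v)) := fun g x v => rfl
  let cAlg : G → (Module.End (ZMod q) V →ₐ[ZMod q] Module.End (ZMod q) V) := fun g =>
    AlgHom.ofLinearMap
      { toFun := c g
        map_add' := fun x y => LinearMap.ext fun v => by simp [capply]
        map_smul' := fun r x => LinearMap.ext fun v => by simp [capply] }
      (LinearMap.ext fun v => by simp [capply, hinv1])
      (fun x y => LinearMap.ext fun v => by simp [capply, hinv2])
  have hpowmem : ∀ x ∈ A, (ρ x).toLinearMap ∈ F := by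
    intro x hx
    have hx' : (⟨x, hx⟩ : A) ∈ Submonoid.powers a := mem_powers_iff_mem_zpowers.mpr (ha _)
    obtain ⟨i, hi⟩ := hx'
    have e : x = (a : G) ^ i := by
      have := congrArg Subtype.val hi
      simpa using this.symm
    have e2 : (ρ x).toLinearMap = T ^ i := by
      rw [e, hT]
      clear hi hx e
      induction i with
      | zero => rw [pow_zero, pow_zero, map_one]; rfl
      | succ i ih => rw [pow_succ, pow_succ, ← ih]; exact LinearMap.ext fun v => map_mul_apply _ _ v
    rw [e2]; exact pow_mem hTmem i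
  have hcmem : ∀ g, ∀ x ∈ F, c g x ∈ F := by
    intro g x hx
    have : cAlg g x ∈ F.map (cAlg g) := ⟨x, hx, rfl⟩
    refine (?_ : F.map (cAlg g) ≤ F) this
    rw [hF, AlgHom.map_adjoin, Algebra.adjoin_le_iff, Set.image_singleton, Set.singleton_subset_iff]
    have hmem := hpowmem _ ((inferInstance : A.Normal).conj_mem _ a.2 g)
    have e : cAlg g T = (ρ (g * (a : G) * g⁻¹)).toLinearMap := LinearMap.ext fun v => by
      show c g T v = ρ (g * (a : G) * g⁻¹) v
      rw [capply, map_mul_apply, map_mul_apply]; rfl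
    rw [e]; exact hmem
  -- orbit submodules
  let Fv : V → Submodule (ZMod q) V := fun v =>
    Submodule.map ((LinearMap.applyₗ v : Module.End (ZMod q) V →ₗ[ZMod q] V)) (Subalgebra.toSubmodule F)
  have hFv : ∀ v w, w ∈ Fv v ↔ ∃ r ∈ F, r v = w := fun v w => Iff.rfl
  have hirr : ∀ v w : V, w ≠ 0 → w ∈ Fv v → v ∈ Fv w := by
    intro v w hw hwv
    -- choose an orbit submodule of least size
    obtain ⟨v₀, hv₀, hmin⟩ := Set.exists_min_image {x : V | x ≠ 0} (fun x => Nat.card (Fv x))
      (Set.toFinite _) ⟨w, hw⟩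
    have hv : v ≠ 0 := by
      rintro rfl
      obtain ⟨r, -, hr⟩ := (hFv _ _).mp hwv
      exact hw (by rw [← hr, map_zero])
    obtain ⟨g, rfl⟩ := h.trans v₀ v hv₀ hv
    have hsub : ∀ x y, y ∈ Fv x → Fv y ≤ Fv x := by
      intro x y hy z hz
      obtain ⟨r, hr, rfl⟩ := (hFv _ _).mp hz
      obtain ⟨s, hs, rfl⟩ := (hFv _ _).mp hy
      exact (hFv _ _).mpr ⟨r * s, mul_mem hr hs, rfl⟩
    have htrans : ∀ g x y, y ∈ Fv x → ρ g y ∈ Fv (ρ g x) := by
      intro g x y hy
      obtain ⟨r, hr, rfl⟩ := (hFv _ _).mp hy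
      refine (hFv _ _).mpr ⟨c g r, hcmem g r hr, ?_⟩
      rw [capply, hinv2]
    set w₀ := ρ g⁻¹ w
    have hw₀ : w₀ ≠ 0 := fun e => hw ((ρ g⁻¹).map_eq_zero_iff.mp e)
    have hw₀v : w₀ ∈ Fv v₀ := by
      have := htrans g⁻¹ _ _ hwv
      rwa [hinv2] at this
    have heq : Fv w₀ = Fv v₀ := by
      refine SetLike.ext' (Set.eq_of_subset_of_ncard_le (hsub _ _ hw₀v) ?_ (Set.toFinite _))
      rw [← Nat.card_coe_set_eq, ← Nat.card_coe_set_eq]
      exact hmin _ hw₀
    have : v₀ ∈ Fv w₀ := heq ▸ (hFv _ _).mpr ⟨1, one_mem _, rfl⟩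
    have := htrans g _ _ this
    rwa [hinv1] at this
  have hinjr : ∀ r : F, r ≠ 0 → ∀ v, (r : Module.End (ZMod q) V) v = 0 → v = 0 := by
    intro r hr v hv
    by_contra hv0
    apply hr
    apply Subtype.ext
    refine LinearMap.ext fun u => ?_
    show (r : Module.End (ZMod q) V) u = 0
    by_contra hru
    -- `r` kills no vector of an orbit submodule on which it is non-zero
    have hinjon : ∀ x, x ∈ Fv u → (r : Module.End (ZMod q) V) x = 0 → x = 0 := by
      intro x hx hrx
      by_contra hx0
      obtain ⟨s, hs, hsx⟩ := (hFv _ _).mp (hirr u x hx0 hx)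
      apply hru
      rw [← hsx]
      have := congrArg Subtype.val (mul_comm r ⟨s, hs⟩)
      have := LinearMap.congr_fun this x
      exact this.trans (by show s ((r : Module.End (ZMod q) V) x) = 0; rw [hrx, map_zero])
    have h1 : (r : Module.End (ZMod q) V) (v + u) = (r : Module.End (ZMod q) V) u := by
      rw [map_add, hv, zero_add]
    have hru1 : (r : Module.End (ZMod q) V) u ∈ Fv (v + u) := (hFv _ _).mpr ⟨r, r.2, h1⟩
    obtain ⟨s, hs, hsu⟩ := (hFv _ _).mp (hirr _ _ hru hru1)
    have hvu : v + u ∈ Fv u := (hFv _ _).mpr ⟨s * r, mul_mem hs r.2, hsu⟩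
    have hv' : v ∈ Fv u := by
      have := Submodule.sub_mem _ hvu ((hFv u u).mpr ⟨1, one_mem _, rfl⟩)
      simpa using this
    exact hv0 (hinjon v hv' hv)
  haveI : Nontrivial F := ⟨⟨0, 1, fun e => by
    obtain ⟨v, hv⟩ := exists_ne (0 : V)
    exact hv (LinearMap.congr_fun (congrArg Subtype.val e) v).symm⟩⟩
  haveI : NoZeroDivisors F := ⟨fun {r s} hrs => by
    by_contra hcon
    push Not at hcon
    obtain ⟨v, hv⟩ := exists_ne (0 : V)
    exact hv (hinjr s hcon.2 v (hinjr r hcon.1 _
      (LinearMap.congr_fun (congrArg Subtype.val hrs) v)))⟩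
  haveI : IsDomain F := NoZeroDivisors.to_isDomain F
  haveI : Fintype F := Fintype.ofFinite F
  letI : Field F := Fintype.fieldOfDomain F
  letI : Module F V := Module.compHom V F.val.toRingHom
  have hsmul : ∀ (r : F) (v : V), r • v = (r : Module.End (ZMod q) V) v := fun r v => rfl
  set d := Module.finrank (ZMod q) F with hd
  have hcardF : Nat.card F = q ^ d := by
    rw [Module.natCard_eq_pow_finrank (K := ZMod q), Nat.card_zmod]
  have hd0 : 0 < d := Module.finrank_pos
  haveI : Module.Finite F V := Module.Finite.of_finite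
  set m := Module.finrank F V with hm
  have hcardV : Nat.card V = q ^ (d * m) := by
    rw [Module.natCard_eq_pow_finrank (K := F), hcardF, ← pow_mul]
  -- the semilinear maps
  let σ : G → (F →ₐ[ZMod q] F) := fun g =>
    ((cAlg g).comp F.val).codRestrict F (fun r => hcmem g r r.2)
  have hσ : ∀ g (r : F) v, ρ g (r • v) = σ g r • ρ g v := by
    intro g r v
    show _ = c g r (ρ g v)
    rw [capply, hinv2]; rfl
  have hσi : ∀ g, Function.Bijective (σ g) := fun g =>
    Finite.injective_iff_bijective.mp (σ g).toRingHom.injective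
  let S : G →* Gal(F/ZMod q) :=
    { toFun := fun g => AlgEquiv.ofBijective (σ g) (hσi g)
      map_one' := AlgEquiv.ext fun r => Subtype.ext (LinearMap.ext fun v => by
        show c 1 r v = _
        rw [capply]; simp)
      map_mul' := fun g g' => AlgEquiv.ext fun r => Subtype.ext (LinearMap.ext fun v => by
        show c (g * g') r v = c g (c g' r) v
        rw [capply, capply, capply, mul_inv_rev, map_mul_apply, map_mul_apply]) }
  have hcardS : Nat.card Gal(F/ZMod q) = d := IsGalois.card_aut_eq_finrank (ZMod q) F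
  haveI : IsCyclic Gal(F/ZMod q) := inferInstance
  let e : Gal(F/ZMod q) ≃* Multiplicative (ZMod d) :=
    (hcardS ▸ zmodCyclicMulEquiv (G := Gal(F/ZMod q)) inferInstance).symm
  have hker : S.ker = Subgroup.centralizer (A : Set G) := by
    ext g
    rw [MonoidHom.mem_ker, Subgroup.mem_centralizer_iff]
    constructor
    · intro hg x hx
      have h1 := congrArg (fun s : Gal(F/ZMod q) => (s ⟨_, hpowmem x hx⟩ : F)) hg
      refine h.inj (LinearEquiv.ext fun v => ?_)
      have h2 := LinearMap.congr_fun (congrArg Subtype.val h1) (ρ g v)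
      have h3 : ρ g (ρ x v) = ρ x (ρ g v) := by
        have h4 : c g (ρ x).toLinearMap (ρ g v) = ρ x (ρ g v) := h2
        rw [capply, hinv2] at h4
        exact h4
      rw [map_mul_apply, map_mul_apply, h3]
    · intro hg
      refine AlgEquiv.ext fun r => ?_
      show σ g r = r
      have : (σ g) = AlgHom.id (ZMod q) F := by
        refine AlgHom.adjoin_ext fun x hx => ?_
        apply Subtype.ext
        rw [Set.mem_singleton_iff] at hx
        subst hx
        refine LinearMap.ext fun v => ?_
        show c g T v = T v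
        rw [capply]
        show ρ g (ρ (a : G) (ρ g⁻¹ v)) = _
        rw [← map_mul_apply, ← hg a a.2, map_mul_apply, hinv1]; rfl
      rw [this]; rfl
  refine ⟨d, hd0, ⟨m, Module.finrank_pos, hcardV, ?_, ?_⟩, ?_, e.toMonoidHom.comp S, ?_⟩
  · intro hm1 x hx y hy
    obtain ⟨v, hv⟩ := exists_ne (0 : V)
    have hlin : ∀ z ∈ Subgroup.centralizer (A : Set G), ∀ (r : F) (u : V),
        ρ z (r • u) = r • ρ z u := by
      intro z hz r u
      rw [hσ]
      have : S z = 1 := by rw [← MonoidHom.mem_ker, hker]; exact hz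
      exact congrArg (· • ρ z u) (congrArg (fun s : Gal(F/ZMod q) => s r) this)
    have hall : ∀ u : V, ∃ r : F, r • v = u := exists_smul_eq_of_finrank_eq_one hm1 hv
    refine h.inj (LinearEquiv.ext fun u => ?_)
    obtain ⟨r, rfl⟩ := hall u
    obtain ⟨s, hs⟩ := hall (ρ x v)
    obtain ⟨t, ht⟩ := hall (ρ y v)
    rw [map_mul_apply, map_mul_apply, hlin y hy, ← ht, smul_smul, hlin x hx, ← hs, hlin x hx, ← hs,
      smul_smul, smul_smul, hlin y hy, ← ht, smul_smul, mul_right_comm]
  · intro hm1
    obtain ⟨v, hv⟩ := exists_ne (0 : V)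
    have hall : ∀ u : V, ∃ r : F, r • v = u := exists_smul_eq_of_finrank_eq_one hm1 hv
    let f0 : F →+ V :=
      { toFun := fun r => r • v, map_zero' := zero_smul F v, map_add' := fun r s => add_smul r s v }
    let e₀ : F ≃+ V := AddEquiv.ofBijective f0 ⟨smul_left_injective F hv, hall⟩
    -- a copy of the field in the lowest universe
    haveI : Small.{0} F := inferInstance
    let e1 : Shrink.{0} F ≃+* F := Shrink.ringEquiv F
    refine ⟨Shrink.{0} F, inferInstance, Fintype.ofEquiv F (equivShrink F), e₀.symm.trans e1.toAddEquiv.symm,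
      fun g => ?_⟩
    refine ⟨e1.symm (e₀.symm (ρ g v)), (e1.trans (S g).toRingEquiv).trans e1.symm, fun u => ?_⟩
    obtain ⟨r, hr⟩ := e₀.surjective u
    subst hr
    show e1.symm (e₀.symm (ρ g (r • v))) = e1.symm (e₀.symm (ρ g v)) * e1.symm (S g (e1 (e1.symm
      (e₀.symm (e₀ r)))))
    rw [e₀.symm_apply_apply, e1.apply_symm_apply, ← map_mul]
    congr 1
    obtain ⟨s, hs⟩ := e₀.surjective (ρ g v)
    rw [← hs, e₀.symm_apply_apply]
    apply e₀.injective
    rw [e₀.apply_symm_apply, hσ, ← hs]
    show σ g r • (s • v) = (s * S g r) • v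
    rw [smul_smul, mul_comm]; rfl
  · have hu : ∀ x : A, (⟨_, hpowmem x x.2⟩ : F) ≠ 0 := fun x e => by
      obtain ⟨v, hv⟩ := exists_ne (0 : V)
      exact hv ((ρ (x : G)).map_eq_zero_iff.mp (LinearMap.congr_fun (congrArg Subtype.val e) v))
    let fA : A →* F :=
      { toFun := fun x => ⟨_, hpowmem x x.2⟩
        map_one' := Subtype.ext (by show (ρ ((1 : A) : G)).toLinearMap = _; rw [Subgroup.coe_one, map_one]; rfl)
        map_mul' := fun x y => Subtype.ext (LinearMap.ext fun v => map_mul_apply (x : G) y v) }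
    have hfA : Function.Injective fA.toHomUnits := by
      intro x y hxy
      refine Subtype.ext (h.inj (LinearEquiv.ext fun v => ?_))
      exact LinearMap.congr_fun (congrArg Subtype.val (congrArg Units.val hxy)) v
    have := Subgroup.card_dvd_of_injective fA.toHomUnits hfA
    rwa [Nat.card_units, hcardF] at this
  · rw [← MonoidHom.comap_ker, (MonoidHom.ker_eq_bot_iff _).mpr e.injective, MonoidHom.comap_bot, hker]

/-- A group with a normal subgroup whose quotient is abelian of even order. -/
theorem exists_index_two (M : Subgroup G) [M.Normal] (hab : ∀ x y : G, x * y * x⁻¹ * y⁻¹ ∈ M)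
    (heven : 2 ∣ M.index) : ∃ N : Subgroup G, N.Normal ∧ N.index = 2 := by
  let Q := G ⧸ M
  letI : CommGroup Q :=
    { (inferInstance : Group (G ⧸ M)) with
      mul_comm := fun x y => by
        induction x using QuotientGroup.induction_on with
        | _ x => induction y using QuotientGroup.induction_on with
          | _ y =>
            rw [← QuotientGroup.mk_mul, ← QuotientGroup.mk_mul, QuotientGroup.eq]
            have := hab y⁻¹ x⁻¹
            simpa [mul_assoc] using this }
  haveI : Fintype Q := Fintype.ofFinite _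
  let s : Q →* Q := powMonoidHom 2
  have hns : s.range ≠ ⊤ := by
    intro e
    obtain ⟨x, hx⟩ := exists_prime_orderOf_dvd_card' (G := Q) 2 heven
    have hsurj := MonoidHom.range_eq_top.mp e
    have hinj : Function.Injective s := Finite.injective_iff_surjective.mpr hsurj
    have h2 : x ^ 2 = 1 := hx ▸ pow_orderOf_eq_one x
    have : x = 1 := hinj (show x ^ 2 = (1 : Q) ^ 2 by rw [h2, one_pow])
    rw [this, orderOf_one] at hx
    omega
  obtain ⟨K, hK, hle⟩ := (eq_top_or_exists_le_coatom s.range).resolve_left hns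
  refine ⟨K.comap (QuotientGroup.mk' M), inferInstance, ?_⟩
  rw [Subgroup.index_comap_of_surjective _ (QuotientGroup.mk'_surjective M)]
  haveI : K.Normal := inferInstance
  -- the quotient by a maximal subgroup containing all squares has order two
  have hsq : ∀ y : Q ⧸ K, y * y = 1 := by
    intro y
    induction y using QuotientGroup.induction_on with
    | _ y => rw [← QuotientGroup.mk_mul, QuotientGroup.eq_one_iff]; exact hle ⟨y, pow_two y⟩
  haveI : Nontrivial (Q ⧸ K) := by
    rw [← Finite.one_lt_card_iff_nontrivial, ← Subgroup.index_eq_card]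
    exact Subgroup.one_lt_index_of_ne_top hK.1
  obtain ⟨y, hy⟩ := exists_ne (1 : Q ⧸ K)
  have hKy : Subgroup.comap (QuotientGroup.mk' K) (Subgroup.zpowers y) = ⊤ := by
    refine hK.2 _ (lt_of_le_of_ne (fun x hx => ?_) fun e => ?_)
    · show (x : Q ⧸ K) ∈ Subgroup.zpowers y
      rw [(QuotientGroup.eq_one_iff x).mpr hx]; exact one_mem _
    · induction y using QuotientGroup.induction_on with
      | _ y =>
        have : y ∈ K := e ▸ (Subgroup.mem_zpowers _ : (y : Q ⧸ K) ∈ Subgroup.zpowers (y : Q ⧸ K))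
        exact hy ((QuotientGroup.eq_one_iff y).mpr this)
  have htop : Subgroup.zpowers y = ⊤ := by
    rw [← Subgroup.map_comap_eq_self_of_surjective (QuotientGroup.mk'_surjective K) (Subgroup.zpowers y),
      hKy, Subgroup.map_top_of_surjective _ (QuotientGroup.mk'_surjective K)]
  rw [Subgroup.index_eq_card, ← Nat.card_congr (Subgroup.topEquiv (G := Q ⧸ K)).toEquiv, ← htop,
    Nat.card_zpowers]
  exact orderOf_eq_prime (by rw [pow_two]; exact hsq y) hy

end Cfsg.Agent.SolvableRegularLinear75
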