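import Mathlib

/-!
An involutive multiplicative map of a finite field of odd order fixing only `±1` and satisfying the
near-domain identity is inversion.
-/

set_option autoImplicit false

namespace Cfsg.Agent.ZassenhausPGL

variable {R : Type*} [Field R] [Fintype R]

theorem eq_inv (h2 : (2 : R) ≠ 0) (τ : R → R) (hne : ∀ x, x ≠ 0 → τ x ≠ 0)
    (hmul : ∀ x y, x ≠ 0 → y ≠ 0 → τ (x * y) = τ x * τ y)
    (hτ : ∀ x, x ≠ 0 → τ (τ x) = x)
    (hfix : ∀ x, x ≠ 0 → τ x = x → x = 1 ∨ x = -1)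
    (hid : ∀ x, x ≠ 0 → x ≠ 1 → 1 - τ (1 - x) = τ (1 - τ x))
    {x : R} (hx : x ≠ 0) : τ x = x⁻¹ := by
  set ε : R → R := fun y => y * τ y with hε
  have hpm : ∀ y, y ≠ 0 → ε y = 1 ∨ ε y = -1 := fun y hy => by
    refine hfix _ (mul_ne_zero hy (hne y hy)) ?_
    show τ (y * τ y) = y * τ y
    rw [hmul y _ hy (hne y hy), hτ y hy, mul_comm]
  have hεmul : ∀ y z, y ≠ 0 → z ≠ 0 → ε (y * z) = ε y * ε z := fun y z hy hz => by
    show y * z * τ (y * z) = y * τ y * (z * τ z)
    rw [hmul y z hy hz]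
    ring
  have hval : ∀ y, y ≠ 0 → τ y = ε y * y⁻¹ := fun y hy => by
    show τ y = y * τ y * y⁻¹
    field_simp
  have hsq : ∀ y, y ≠ 0 → IsSquare y → ε y = 1 := by
    rintro y hy ⟨r, rfl⟩
    have hr := left_ne_zero_of_mul hy
    rw [hεmul r r hr hr]
    rcases hpm r hr with h | h <;> rw [h] <;> ring
  by_cases hall : ∀ y, y ≠ 0 → ε y = 1
  · rw [hval x hx, hall x hx, one_mul]
  exfalso
  push Not at hall
  obtain ⟨ν, hν0, hν⟩ := hall
  have hνsq : ¬ IsSquare ν := fun h => hν (hsq ν hν0 h)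
  have hν1 : ε ν = -1 := (hpm ν hν0).resolve_left hν
  have hrc : ringChar R ≠ 2 := fun h =>
    h2 (by rw [← Nat.cast_two, ← h, ringChar.Nat.cast_ringChar])
  have hns : ∀ y, ¬ IsSquare y → ε y = -1 := by
    intro y hy
    have hy0 : y ≠ 0 := fun h => hy (h ▸ ⟨0, by simp⟩)
    have hs : IsSquare (y * ν) := by
      classical
      rw [← quadraticChar_one_iff_isSquare (mul_ne_zero hy0 hν0), map_mul,
        quadraticChar_neg_one_iff_not_isSquare.2 hy, quadraticChar_neg_one_iff_not_isSquare.2 hνsq]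
      norm_num
    have := hsq _ (mul_ne_zero hy0 hν0) hs
    rw [hεmul y ν hy0 hν0, hν1] at this
    linear_combination -this
  have hneg : IsSquare (-1 : R) := by
    by_contra h
    have h1 := hns _ h
    have h0 : (-1 : R) ≠ 0 := neg_ne_zero.2 one_ne_zero
    have hsq1 : τ (-1) * τ (-1) = τ 1 := by rw [← hmul _ _ h0 h0, neg_mul_neg, one_mul]
    have hone : τ 1 = 1 := by
      have := hmul 1 1 one_ne_zero one_ne_zero
      rw [mul_one] at this
      exact (mul_eq_left₀ (hne 1 one_ne_zero)).1 this.symm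
    have hm : τ (-1) = 1 := by
      have h' : -1 * τ (-1) = -1 := h1
      linear_combination -h'
    have := hτ (-1) h0
    rw [hm, hone] at this
    exact h2 (by linear_combination this)
  -- a nonsquare `x` with `1 - x` a square
  obtain ⟨a, b, hab⟩ := FiniteField.exists_root_sum_quadratic (R := R)
    (f := Polynomial.X ^ 2) (g := Polynomial.X ^ 2 - Polynomial.C ν)
    (Polynomial.degree_X_pow 2) (Polynomial.degree_X_pow_sub_C (by norm_num) ν)
    (FiniteField.odd_card_of_char_ne_two hrc)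
  simp only [Polynomial.eval_pow, Polynomial.eval_X, Polynomial.eval_sub, Polynomial.eval_C] at hab
  have hb : b ≠ 0 := fun h => hνsq ⟨a, by rw [h] at hab; linear_combination -hab⟩
  have ha : a ≠ 0 := fun h => hνsq ⟨b, by rw [h] at hab; linear_combination -hab⟩
  obtain ⟨i, hi⟩ := hneg
  set y : R := ν / b ^ 2 with hy
  have hy0 : y ≠ 0 := div_ne_zero hν0 (pow_ne_zero 2 hb)
  have hyns : ¬ IsSquare y := by
    rintro ⟨r, hr⟩
    exact hνsq ⟨r * b, by rw [hy, div_eq_iff (pow_ne_zero 2 hb)] at hr; rw [hr]; ring⟩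
  have hy' : 1 - y = (i * (a / b)) * (i * (a / b)) := by
    rw [hy]
    field_simp
    linear_combination hab + a ^ 2 * hi
  have hy1 : (1 : R) - y ≠ 0 := by
    rw [hy']
    have hi0 : i ≠ 0 := by rintro rfl; simp at hi
    exact mul_ne_zero (mul_ne_zero hi0 (div_ne_zero ha hb)) (mul_ne_zero hi0 (div_ne_zero ha hb))
  have hm1 : y + 1 ≠ 0 := fun h => hyns ⟨i, by linear_combination h + hi⟩
  have e := hid y hy0 (fun h => hy1 (by rw [h, sub_self]))
  rw [hval _ hy1, hsq _ hy1 ⟨_, hy'⟩, hval _ hy0, hns _ hyns] at e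
  have hw : (1 : R) - -1 * y⁻¹ ≠ 0 := by
    have : (1 : R) - -1 * y⁻¹ = (y + 1) / y := by field_simp; ring
    rw [this]
    exact div_ne_zero hm1 hy0
  rw [hval _ hw] at e
  have hm2 : y - -1 ≠ 0 := by rwa [sub_neg_eq_add]
  rcases hpm _ hw with h | h <;> rw [h] at e <;> field_simp at e
  · exact h2 ((mul_eq_zero.1 (show (2 : R) * y = 0 by linear_combination -e)).resolve_right hy0)
  · exact hy0 ((mul_eq_zero.1 (show (2 : R) * (y * y) = 0 by linear_combination -e)).resolve_left h2 |>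
      fun h => (mul_self_eq_zero.1 h))

end Cfsg.Agent.ZassenhausPGL
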