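import Mathlib
import Cfsg.Agent.Lib.DicksonLine
import Cfsg.Agent.Lib.ZassenhausCoord
import Cfsg.Agent.Lib.SolvableRegularLinear75
import Cfsg.Agent.Lib.ZassenhausNearfieldGroup
import Cfsg.Agent.Lib.PGroupsCyclic
import Cfsg.Agent.Lib.ZassenhausPGLInversion

/-!
Sharply triply transitive groups of degree `p^f + 1`, `f` odd: the two-point stabiliser is cyclic,
the swapping involution is inversion, and the group is `PGL₂(p^f)`.
-/

set_option autoImplicit false

open scoped OnePoint MatrixGroups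

namespace Cfsg.Agent.ZassenhausPGL

open MulAction Cfsg.Agent.Zassenhaus

/-- A sharply triply transitive group of permutations of the projective line containing the affine
maps and inversion is `PGL₂`. -/
theorem nonempty_pgl {R : Type*} [Field R] {G : Type*} [Group G]
    (ρ : G →* Equiv.Perm (OnePoint R)) (hinj : Function.Injective ρ)
    (hstab : ∀ g, ρ g ∞ = ∞ → ∃ s : R, s ≠ 0 ∧ ∃ c : R, ∀ x : R,
      ρ g x = ((s * x + c : R) : OnePoint R))
    (t : G) (ht1 : ρ t ∞ = ((0 : R) : OnePoint R)) (ht0 : ρ t ((0 : R) : OnePoint R) = ∞)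
    (htv : ∀ x : R, x ≠ 0 → ρ t x = ((x⁻¹ : R) : OnePoint R))
    (hthree : ∀ a b c : OnePoint R, a ≠ b → a ≠ c → b ≠ c →
      ∃ g, ρ g ∞ = a ∧ ρ g ((0 : R) : OnePoint R) = b ∧ ρ g ((1 : R) : OnePoint R) = c)
    (htr : ∀ v : R, ∃ g, ρ g ∞ = ∞ ∧ ∀ x : R, ρ g x = ((x + v : R) : OnePoint R)) :
    Nonempty (G ≃* Matrix.ProjGenLinGroup (Fin 2) R) := by
  classical
  let ψ : Matrix.ProjGenLinGroup (Fin 2) R →* Equiv.Perm (OnePoint R) :=
    MulAction.toPermHom (Matrix.ProjGenLinGroup (Fin 2) R) (OnePoint R)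
  have hψ : ∀ (A : Matrix.ProjGenLinGroup (Fin 2) R) (x : OnePoint R), ψ A x = A • x :=
    fun _ _ => rfl
  have hne : ((0 : R) : OnePoint R) ≠ ((1 : R) : OnePoint R) := fun h =>
    zero_ne_one (OnePoint.coe_injective h)
  have hψinj : Function.Injective ψ := by
    intro A B e
    have hx : ∀ x : OnePoint R, (A⁻¹ * B) • x = x := fun x => by
      rw [mul_smul, ← hψ B, ← e, hψ, inv_smul_smul]
    exact inv_mul_eq_one.1 (DicksonLine.eq_one_of_three (OnePoint.infty_ne_coe (0 : R))
      (OnePoint.infty_ne_coe (1 : R)) hne (hx _) (hx _) (hx _))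
  have hB : ∀ g, ρ g ∞ = ∞ → ρ g ∈ ψ.range := by
    intro g hg
    obtain ⟨s, hs, c, hc⟩ := hstab g hg
    refine ⟨DicksonLine.aff (Units.mk0 s hs) c, ?_⟩
    ext x
    cases x with
    | infty => rw [hψ, DicksonLine.aff_smul_infty, hg]
    | coe x => rw [hψ, DicksonLine.aff_smul_coe, hc, Units.val_mk0]
  have hT : ρ t ∈ ψ.range := by
    refine ⟨Matrix.ProjGenLinGroup.mk
      (Matrix.GeneralLinearGroup.mkOfDetNeZero !![0, 1; 1, 0] (by simp [Matrix.det_fin_two])), ?_⟩
    ext x
    cases x with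
    | infty => rw [hψ, DicksonLine.mk_smul, ht1, OnePoint.smul_infty_eq_ite]; simp
    | coe x =>
      rw [hψ, DicksonLine.mk_smul, OnePoint.smul_some_eq_ite]
      by_cases hx : x = 0
      · subst hx; rw [ht0]; simp
      · rw [htv x hx]; simp [hx]
  have hle : ∀ g, ρ g ∈ ψ.range := by
    intro g
    cases h : ρ g ∞ with
    | infty => exact hB g h
    | coe y =>
      obtain ⟨k, hk1, hk2⟩ := htr (-y)
      have hfix : ρ (t * k * g) ∞ = ∞ := by
        rw [map_mul, map_mul, Equiv.Perm.mul_apply, Equiv.Perm.mul_apply, h, hk2, add_neg_cancel,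
          ht0]
      have h3 := ψ.range.mul_mem (ψ.range.inv_mem (hB k hk1))
        (ψ.range.mul_mem (ψ.range.inv_mem hT) (hB _ hfix))
      rwa [← map_inv, ← map_inv, ← map_mul, ← map_mul,
        show k⁻¹ * (t⁻¹ * (t * k * g)) = g by group] at h3
  let f : G →* Matrix.ProjGenLinGroup (Fin 2) R :=
    (MonoidHom.ofInjective hψinj).symm.toMonoidHom.comp (ρ.codRestrict ψ.range hle)
  have hf : ∀ g, ψ (f g) = ρ g := fun g =>
    congrArg Subtype.val ((MonoidHom.ofInjective hψinj).apply_symm_apply ⟨ρ g, hle g⟩)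
  refine ⟨MulEquiv.ofBijective f ⟨fun g g' e => hinj (by rw [← hf, e, hf]), fun A => ?_⟩⟩
  obtain ⟨g, h1, h2, h3⟩ := hthree (A • ∞) (A • ((0 : R) : OnePoint R)) (A • ((1 : R) : OnePoint R))
    ((MulAction.injective A).ne (OnePoint.infty_ne_coe _))
    ((MulAction.injective A).ne (OnePoint.infty_ne_coe _)) ((MulAction.injective A).ne hne)
  refine ⟨g, ?_⟩
  have hx : ∀ x : OnePoint R, ρ g x = A • x → ((f g)⁻¹ * A) • x = x := fun x e => by
    rw [mul_smul, ← e, ← hf, hψ, inv_smul_smul]
  exact inv_mul_eq_one.1 (DicksonLine.eq_one_of_three (OnePoint.infty_ne_coe (0 : R))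
    (OnePoint.infty_ne_coe (1 : R)) hne (hx _ h1) (hx _ h2) (hx _ h3))

section Affine

universe u

variable {G : Type u} [Group G] [Finite G] {V : Type u} [AddCommGroup V] [Finite V]
variable {ρ : G →* Equiv.Perm (OnePoint V)} {H : Subgroup G} {act : H →* AddMonoid.End V}
variable (hA : Affine ρ H act)
  (htrans : ∀ v w : V, v ≠ 0 → w ≠ 0 → ∃ h : H, act h v = w)
  {t : G} (ht1 : ρ t ∞ = ((0 : V) : OnePoint V)) (ht0 : ρ t ((0 : V) : OnePoint V) = ∞)
  {e₁ : V} (he₁ : e₁ ≠ 0) (hte : ρ t (e₁ : OnePoint V) = e₁)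
include hA ht1 ht0 he₁ hte

omit [Finite G] [Finite V] in
lemma swap_sq : t * t = 1 := by
  refine hA.three _ ∞ ((0 : V) : OnePoint V) (e₁ : OnePoint V) (OnePoint.infty_ne_coe _)
    (fun h => he₁ (OnePoint.coe_injective h).symm) (OnePoint.infty_ne_coe _) ?_ ?_ ?_ <;>
    rw [map_mul, Equiv.Perm.mul_apply]
  · rw [ht1, ht0]
  · rw [ht0, ht1]
  · rw [hte, hte]

omit [Finite G] [Finite V] in
lemma swap_mem (h : H) : t * h * t ∈ H := by
  have h1 := (hA.mem h).1 h.2
  refine (hA.mem _).2 ⟨?_, ?_⟩ <;> rw [map_mul, map_mul, Equiv.Perm.mul_apply, Equiv.Perm.mul_apply]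
  · rw [ht1, h1.2, ht0]
  · rw [ht0, h1.1, ht1]

omit [Finite G] [Finite V] in
/-- At most two elements of `H` commute with the swap. -/
lemma card_commute_le_two : {h : H | t * h = h * t}.ncard ≤ 2 := by
  classical
  have ht : t ≠ 1 := fun h => by
    rw [h, map_one] at ht1
    exact OnePoint.infty_ne_coe _ ht1
  by_contra hc
  push Not at hc
  obtain ⟨a, b, c, ha, hb, hc', hab, hac, hbc⟩ := Set.two_lt_ncard_iff (Set.finite_of_ncard_pos
    (by omega)) |>.1 hc
  have hfixed : ∀ h : H, t * h = h * t → ρ t (ρ h (e₁ : OnePoint V)) = ρ h (e₁ : OnePoint V) :=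
    fun h hh => by rw [← Equiv.Perm.mul_apply, ← map_mul, hh, map_mul, Equiv.Perm.mul_apply, hte]
  have hne : ∀ h k : H, h ≠ k → ρ h (e₁ : OnePoint V) ≠ ρ k (e₁ : OnePoint V) := fun h k hhk e => by
    rw [hA.lin, hA.lin] at e
    refine hhk (inv_mul_eq_one.1 (hA.free he₁ ?_)).symm
    rw [map_mul]
    show act k⁻¹ (act h e₁) = e₁
    rw [OnePoint.coe_injective e]
    show (act k⁻¹ * act k) e₁ = e₁
    rw [← map_mul, inv_mul_cancel, map_one]
    rfl
  exact ht (hA.three t _ _ _ (hne a b hab) (hne b c hbc) (hne a c hac) (hfixed a ha) (hfixed b hb)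
    (hfixed c hc'))

end Affine

/-- A group with a unique involution, no element other than it and `1` conjugate to its inverse,
and an involutory automorphism fixing only it and `1`, is commutative. -/
theorem comm_of_auto {H : Type*} [Group H] [Finite H] {z : H} (hz2 : z * z = 1) (hz1 : z ≠ 1)
    (huniq : ∀ h : H, h * h = 1 → h = 1 ∨ h = z) (τ : H →* H) (hτ : ∀ h, τ (τ h) = h)
    (hfix : ∀ h, τ h = h → h = 1 ∨ h = z) (hreal : ∀ h k : H, k * h * k⁻¹ = h⁻¹ → h * h = 1) :
    ∀ a b : H, a * b = b * a := by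
  classical
  haveI : Fact (Nat.Prime 2) := ⟨Nat.prime_two⟩
  have h2card : 2 ∣ Nat.card H := by
    rw [← orderOf_eq_prime (p := 2) (by rw [pow_two]; exact hz2) hz1]
    exact orderOf_dvd_natCard z
  obtain ⟨P⟩ : Nonempty (Sylow 2 H) := inferInstance
  have hP : IsCyclic P := by
    rcases PGroupsCyclic.isCyclic_or_quaternion (G := P) P.isPGroup' (fun A B hA hB => by
        have key : ∀ C : Subgroup P, Nat.card C = 2 → ∀ x : P, x ∈ C ↔ x = 1 ∨ (x : H) = z := by
          intro C hC
          obtain ⟨a, ha⟩ := exists_prime_orderOf_dvd_card' (G := C) 2 (by rw [hC])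
          have ha1 : a ≠ 1 := fun e => by rw [e, orderOf_one] at ha; norm_num at ha
          have haz : ((a : P) : H) = z := (huniq _ (by
            have := congrArg (fun y : C => ((y : P) : H)) (ha ▸ pow_orderOf_eq_one a)
            simpa [pow_two] using this)).resolve_left fun e => ha1 (Subtype.ext (Subtype.ext e))
          intro x
          constructor
          · intro hx
            rcases huniq (x : H) (by
              have h' : (⟨x, hx⟩ : C) ^ 2 = 1 :=
                (congrArg ((⟨x, hx⟩ : C) ^ ·) hC).symm.trans pow_card_eq_one'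
              simpa [pow_two] using congrArg (fun y : C => ((y : P) : H)) h') with h | h
            · exact Or.inl (Subtype.ext h)
            · exact Or.inr h
          · rintro (rfl | h)
            · exact one_mem _
            · rw [show x = a from Subtype.ext (h.trans haz.symm)]; exact a.2
        ext x
        rw [key A hA, key B hB]) with hc | ⟨-, n, ⟨e⟩⟩
    · exact hc
    · rcases n with _ | n
      · haveI : IsCyclic (QuaternionGroup (2 ^ 0)) :=
          isCyclic_of_orderOf_eq_card (QuaternionGroup.xa 0) (by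
            rw [QuaternionGroup.orderOf_xa, Nat.card_eq_fintype_card, QuaternionGroup.card]
            norm_num)
        exact e.symm.isCyclic.1 inferInstance
      · exfalso
        have hA : (QuaternionGroup.xa 0 : QuaternionGroup (2 ^ (n + 1))) * .a 1 *
            (QuaternionGroup.xa 0)⁻¹ = (QuaternionGroup.a 1)⁻¹ := by
          rw [mul_inv_eq_iff_eq_mul]
          show QuaternionGroup.xa (0 + 1) = QuaternionGroup.xa (0 - -1)
          rw [sub_neg_eq_add]
        have hB := hreal ((e.symm (.a 1) : P) : H) ((e.symm (.xa 0) : P) : H) (by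
          have := congrArg (fun y => ((e.symm y : P) : H)) hA
          simpa only [map_mul, map_inv, Subgroup.coe_mul, Subgroup.coe_inv] using this)
        have hsq : (QuaternionGroup.a 1 : QuaternionGroup (2 ^ (n + 1))) ^ 2 = 1 := by
          have h' : (e.symm (.a 1)) * (e.symm (.a 1)) = (1 : P) := Subtype.ext (by simpa using hB)
          rw [← map_mul, ← map_one e.symm] at h'
          rw [pow_two]
          exact e.symm.injective h'
        have := orderOf_dvd_of_pow_eq_one hsq
        rw [QuaternionGroup.orderOf_a_one] at this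
        have := Nat.le_of_dvd (by norm_num) this
        have : 2 ^ 1 ≤ 2 ^ (n + 1) := Nat.pow_le_pow_right (by norm_num) (by omega)
        omega
  have hmin : (Nat.card H).minFac = 2 := (Nat.minFac_eq_two_iff _).2 h2card
  set f := MonoidHom.transferSylow P (hP.normalizer_le_centralizer hmin) with hf
  have hcomp : f.ker.IsComplement' P := hP.isComplement' hmin
  have hodd : Odd (Nat.card f.ker) :=
    Nat.not_even_iff_odd.1 fun h => MonoidHom.not_dvd_card_ker_transferSylow P
      (hP.normalizer_le_centralizer hmin) h.two_dvd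
  have honly : ∀ o ∈ f.ker, o * o = 1 → o = 1 := fun o ho h => by
    have h1 : orderOf o ∣ 2 := orderOf_dvd_of_pow_eq_one (by rw [pow_two]; exact h)
    have h2 : orderOf o ∣ Nat.card f.ker := Subgroup.orderOf_dvd_natCard _ ho
    exact orderOf_eq_one_iff.1 (Nat.eq_one_of_dvd_coprimes hodd.coprime_two_left h1 h2)
  have hτN : ∀ o ∈ f.ker, τ o ∈ f.ker := fun o ho => by
    rw [MonoidHom.mem_ker]
    have h1 : orderOf (f (τ o)) ∣ Nat.card f.ker :=
      ((orderOf_map_dvd f _).trans (orderOf_map_dvd τ o)).trans (Subgroup.orderOf_dvd_natCard _ ho)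
    obtain ⟨k, hk⟩ := P.isPGroup'.exists_card_eq
    have h2 : orderOf (f (τ o)) ∣ 2 ^ k := hk ▸ orderOf_dvd_natCard _
    exact orderOf_eq_one_iff.1 (Nat.eq_one_of_dvd_coprimes
      (Nat.Coprime.pow_left k hodd.coprime_two_left) h2 h1)
  have hinv : ∀ o ∈ f.ker, τ o = o⁻¹ := fun o ho => inverts_of_fixed τ hτ hτN
    (fun m hm e => (hfix m e).resolve_right fun h => hz1 (h ▸ honly m hm (by rw [h]; exact hz2))) ho
  have hNc : ∀ a ∈ f.ker, ∀ b ∈ f.ker, a * b = b * a := fun a ha b hb => by
    have := hinv _ (f.ker.mul_mem ha hb)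
    rw [map_mul, hinv a ha, hinv b hb, ← mul_inv_rev, inv_inj] at this
    exact this.symm
  set C := Subgroup.centralizer (f.ker : Set H) with hC
  have hrange : ∀ h : H, h⁻¹ * τ h ∈ C := fun h => by
    rw [hC, Subgroup.mem_centralizer_iff]
    intro m hm
    have hm' : h * m * h⁻¹ ∈ f.ker := (MonoidHom.normal_ker f).conj_mem m hm h
    have e := hinv _ hm'
    rw [map_mul, map_mul, map_inv, hinv m hm] at e
    have e' : (h⁻¹ * τ h) * m⁻¹ * (h⁻¹ * τ h)⁻¹ = m⁻¹ := by
      calc (h⁻¹ * τ h) * m⁻¹ * (h⁻¹ * τ h)⁻¹ = h⁻¹ * (τ h * m⁻¹ * (τ h)⁻¹) * h := by group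
        _ = m⁻¹ := by rw [e]; group
    rw [mul_inv_eq_iff_eq_mul] at e'
    exact ((show Commute (h⁻¹ * τ h) m⁻¹ from e').inv_right.eq.symm.trans rfl) |> fun t => by
      simpa using t
  have hC2 : ∀ h : H, h * h ∈ C := by
    have hcardle : Nat.card H ≤ 2 * Nat.card C := by
      haveI := Fintype.ofFinite H
      rw [Nat.card_eq_fintype_card, Nat.card_eq_fintype_card (α := C), ← Finset.card_univ,
        ← Finset.card_univ]
      rw [mul_comm]
      refine (Finset.card_le_mul_card_image (f := fun h : H => (⟨_, hrange h⟩ : C)) Finset.univ 2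
        fun b _ => ?_).trans (by rw [mul_comm]; exact Nat.mul_le_mul_right 2 (Finset.card_le_univ _))
      by_cases hne : (Finset.univ.filter fun h : H => (⟨_, hrange h⟩ : C) = b).Nonempty
      · obtain ⟨a, ha⟩ := hne
        simp only [Finset.mem_filter, Finset.mem_univ, true_and] at ha
        refine (Finset.card_le_card (t := {a, z * a}) fun h hh => ?_).trans Finset.card_le_two
        simp only [Finset.mem_filter, Finset.mem_univ, true_and] at hh
        have e : h⁻¹ * τ h = a⁻¹ * τ a := congrArg Subtype.val (hh.trans ha.symm)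
        have h' : τ (h * a⁻¹) = h * a⁻¹ := by
          rw [map_mul, map_inv]
          calc τ h * (τ a)⁻¹ = h * (h⁻¹ * τ h) * (τ a)⁻¹ := by group
            _ = h * a⁻¹ := by rw [e]; group
        rcases hfix _ h' with r | r
        · simp [mul_inv_eq_one.1 r]
        · simp [← r]
      · rw [Finset.not_nonempty_iff_eq_empty.1 hne]; simp
    have hidx : C.index ≤ 2 := by
      have h1 := C.card_mul_index
      have h0 : 0 < Nat.card C := Nat.card_pos
      by_contra hc
      have : Nat.card C * 3 ≤ Nat.card C * C.index := Nat.mul_le_mul_left _ (by omega)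
      omega
    intro h
    have h0 : C.index ≠ 0 := Subgroup.index_ne_zero_of_finite
    rcases (show C.index = 1 ∨ C.index = 2 by omega) with e | e
    · rw [Subgroup.index_eq_one.1 e]; trivial
    · exact Subgroup.mul_self_mem_of_index_two e h
  have hcen : ∀ h : H, ∀ m ∈ f.ker, h * m = m * h := by
    intro h m hm
    set k := h * m * h⁻¹ * m⁻¹ with hk
    have hkN : k ∈ f.ker :=
      f.ker.mul_mem ((MonoidHom.normal_ker f).conj_mem m hm h) (f.ker.inv_mem hm)
    have e : h * k * h⁻¹ = k⁻¹ := by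
      have h2 : m * (h * h) = h * h * m := Subgroup.mem_centralizer_iff.1 (hC2 h) m hm
      calc h * k * h⁻¹ = h * h * m * h⁻¹ * m⁻¹ * h⁻¹ := by rw [hk]; group
        _ = m * (h * h) * h⁻¹ * m⁻¹ * h⁻¹ := by rw [h2]
        _ = k⁻¹ := by rw [hk]; group
    have := honly k hkN (hreal k h e)
    rw [hk, mul_inv_eq_one, mul_inv_eq_iff_eq_mul] at this
    exact this
  intro a b
  obtain ⟨⟨⟨m, hm⟩, ⟨x, hx⟩⟩, ha : m * x = a⟩ := hcomp.2 a
  obtain ⟨⟨⟨m', hm'⟩, ⟨y, hy⟩⟩, hb : m' * y = b⟩ := hcomp.2 b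
  have hxy : Commute x y := by
    haveI := hP
    letI : CommGroup P := IsCyclic.commGroup
    exact congrArg Subtype.val (mul_comm (⟨x, hx⟩ : P) ⟨y, hy⟩)
  have h1 : Commute m m' := hNc m hm m' hm'
  have h2 : Commute m y := (hcen y m hm).symm
  have h3 : Commute x m' := hcen x m' hm'
  rw [← ha, ← hb]
  exact ((h1.mul_right h2).mul_left (h3.mul_right hxy)).eq

end Cfsg.Agent.ZassenhausPGL
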