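import Mathlib
import Cfsg.Agent.Lib.ZassenhausPGLRecognition
import Cfsg.Agent.Lib.ZassenhausEven
import Cfsg.Agent.Lib.PSLCard

/-!
Sharply triply transitive groups on `OnePoint V`, `V` of odd dimension over a prime field of odd
order, are `PGL₂`.
-/

set_option autoImplicit false

open scoped OnePoint MatrixGroups

namespace Cfsg.Agent.ZassenhausPGL

open MulAction Cfsg.Agent.Zassenhaus

universe u

variable {G : Type u} [Group G] [Finite G] {V : Type u} [AddCommGroup V] [Finite V]
variable {ρ : G →* Equiv.Perm (OnePoint V)} {H : Subgroup G} {act : H →* AddMonoid.End V}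

/-- In odd dimension no element of order greater than two is conjugate to its inverse. -/
theorem sq_eq_one_of_real {p : ℕ} [Fact p.Prime] (hp2 : p ≠ 2) [Module (ZMod p) V]
    (hA : Affine ρ H act) (hodd : Odd (Module.finrank (ZMod p) V)) (h k : H)
    (e : k * h * k⁻¹ = h⁻¹) : h * h = 1 := by
  by_contra hne
  let L : H → (V →ₗ[ZMod p] V) := fun g => AddMonoidHom.toZModLinearMap p (act g : V →+ V)
  have hL : ∀ g v, L g v = act g v := fun _ _ => rfl
  have hmul : ∀ g g' : H, ∀ v : V, act g (act g' v) = act (g * g') v := fun g g' v => by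
    rw [map_mul]; rfl
  have hinjL : ∀ g, Function.Injective (L g) := fun g => by
    rw [injective_iff_map_eq_zero]
    exact fun v hv => (hA.act_eq_zero_iff g).1 hv
  set A : V →ₗ[ZMod p] V := L h - L h⁻¹ with hAdef
  have hAinj : Function.Injective A := by
    rw [injective_iff_map_eq_zero]
    intro v hv
    rw [hAdef, LinearMap.sub_apply, sub_eq_zero, hL, hL] at hv
    by_contra hv0
    refine hne (hA.free hv0 ?_)
    rw [← hmul, hv, hmul, mul_inv_cancel, map_one]
    rfl
  have e' : k * h = h⁻¹ * k := mul_inv_eq_iff_eq_mul.1 e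
  have e'' : k * h⁻¹ = h * k := by
    have h' : k * h⁻¹ * k⁻¹ = h := by
      rw [← inv_inj, mul_inv_rev, mul_inv_rev, inv_inv, inv_inv, ← mul_assoc]
      exact e
    exact mul_inv_eq_iff_eq_mul.1 h'
  have hanti : (L k).comp A = (-1 : ZMod p) • (A.comp (L k)) := by
    refine LinearMap.ext fun v => ?_
    rw [LinearMap.smul_apply, neg_smul, one_smul]
    show act k (act h v - act h⁻¹ v) = -(act h (act k v) - act h⁻¹ (act k v))
    rw [map_sub, hmul, hmul, hmul, hmul, e', e'']
    abel
  have hdet := congrArg LinearMap.det hanti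
  rw [LinearMap.det_smul, LinearMap.det_comp, LinearMap.det_comp, hodd.neg_one_pow] at hdet
  have hd : ∀ f : V →ₗ[ZMod p] V, Function.Injective f → LinearMap.det f ≠ 0 := fun f hf h0 =>
    (LinearEquiv.isUnit_det' (LinearEquiv.ofBijective f ⟨hf, Finite.injective_iff_surjective.1 hf⟩)).ne_zero h0
  have hprod : LinearMap.det (L k) * LinearMap.det A ≠ 0 :=
    mul_ne_zero (hd _ (hinjL k)) (hd _ hAinj)
  have h2 : (2 : ZMod p) * (LinearMap.det (L k) * LinearMap.det A) = 0 := by
    linear_combination hdet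
  have h20 : (2 : ZMod p) ≠ 0 := by
    intro h
    rw [← Nat.cast_two, ZMod.natCast_eq_zero_iff] at h
    exact hp2 ((Nat.prime_dvd_prime_iff_eq Fact.out Nat.prime_two).1 h)
  exact hprod ((mul_eq_zero.1 h2).resolve_left h20)

variable (hA : Affine ρ H act)
  (h3 : ∀ a b c : OnePoint V, a ≠ b → a ≠ c → b ≠ c → ∀ a' b' c' : OnePoint V, a' ≠ b' → a' ≠ c' →
    b' ≠ c' → ∃ g, ρ g a = a' ∧ ρ g b = b' ∧ ρ g c = c')
include hA h3

theorem pgl_of_sharp {p : ℕ} [Fact p.Prime] (hp2 : p ≠ 2) [Module (ZMod p) V] [Nontrivial V]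
    (hodd : Odd (Module.finrank (ZMod p) V)) :
    ∃ (F : Type) (_ : Field F) (_ : Fintype F), Fintype.card F = Nat.card V ∧
      Nonempty (G ≃* Matrix.ProjGenLinGroup (Fin 2) F) := by
  classical
  obtain ⟨e₁, he₁⟩ := _root_.exists_ne (0 : V)
  have hne : ∀ v : V, v ≠ 0 → ((0 : V) : OnePoint V) ≠ (v : OnePoint V) := fun v hv h =>
    hv (OnePoint.coe_injective h).symm
  obtain ⟨t, ht1, ht0, hte⟩ := h3 ∞ ((0 : V) : OnePoint V) e₁ (OnePoint.infty_ne_coe _)
    (OnePoint.infty_ne_coe _) (hne _ he₁) ((0 : V) : OnePoint V) ∞ e₁ (OnePoint.coe_ne_infty _)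
    (hne _ he₁) (OnePoint.infty_ne_coe _)
  have htt := swap_sq hA ht1 ht0 he₁ hte
  have htrans : ∀ v w : V, v ≠ 0 → w ≠ 0 → ∃ h : H, act h v = w := by
    intro v w hv hw
    obtain ⟨g, g1, g0, gv⟩ := h3 ∞ ((0 : V) : OnePoint V) v (OnePoint.infty_ne_coe _)
      (OnePoint.infty_ne_coe _) (hne _ hv) ∞ ((0 : V) : OnePoint V) w (OnePoint.infty_ne_coe _)
      (OnePoint.infty_ne_coe _) (hne _ hw)
    refine ⟨⟨g, (hA.mem g).2 ⟨g1, g0⟩⟩, ?_⟩
    have := hA.lin ⟨g, (hA.mem g).2 ⟨g1, g0⟩⟩ v
    rw [gv] at this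
    exact (OnePoint.coe_injective this).symm
  have h2 : ∀ v : V, v + v = 0 → v = 0 := fun v hv => by
    have h2' : (2 : ZMod p) • v = 0 := by rw [two_smul, hv]
    refine (smul_eq_zero.1 h2').resolve_left fun h => ?_
    rw [← Nat.cast_two, ZMod.natCast_eq_zero_iff] at h
    exact hp2 ((Nat.prime_dvd_prime_iff_eq Fact.out Nat.prime_two).1 h)
  obtain ⟨z, hzv⟩ := htrans e₁ (-e₁) he₁ (neg_ne_zero.2 he₁)
  have hz2 : z * z = 1 := hA.free he₁ (by
    rw [map_mul]
    show act z (act z e₁) = e₁
    rw [hzv, map_neg, hzv, neg_neg])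
  have hz1 : z ≠ 1 := fun e => by
    rw [e, map_one] at hzv
    exact he₁ (h2 e₁ (by nth_rw 2 [show e₁ = -e₁ from hzv]; rw [add_neg_cancel]))
  have huniq : ∀ h : H, h * h = 1 → h = 1 ∨ h = z := by
    intro h hh
    refine or_iff_not_imp_left.2 fun h1 => hA.act_injective (AddMonoidHom.ext fun x => ?_)
    have key : ∀ g : H, g * g = 1 → g ≠ 1 → act g x = -x := fun g hg hg1 => by
      rw [eq_neg_iff_add_eq_zero]
      by_contra hc
      refine hg1 (hA.free hc ?_)
      rw [map_add, show act g (act g x) = act (g * g) x by rw [map_mul]; rfl, hg, map_one]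
      exact add_comm _ _
    exact (key h hh h1).trans (key z hz2 hz1).symm
  let τ : H →* H :=
    { toFun := fun h => ⟨t * h * t, swap_mem hA ht1 ht0 he₁ hte h⟩
      map_one' := Subtype.ext (by simp [htt])
      map_mul' := fun a b => Subtype.ext (by
        show t * ((a : G) * b) * t = t * a * t * (t * b * t)
        calc t * ((a : G) * b) * t = t * a * (t * t) * b * t := by rw [htt]; group
          _ = _ := by group) }
  have hτv : ∀ h : H, (τ h : G) = t * h * t := fun _ => rfl
  have hτ : ∀ h, τ (τ h) = h := fun h => Subtype.ext (by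
    show t * (t * h * t) * t = (h : G)
    calc t * (t * (h : G) * t) * t = (t * t) * h * (t * t) := by group
      _ = h := by rw [htt]; group)
  have hcomm_iff : ∀ h : H, τ h = h ↔ t * (h : G) = h * t := fun h => by
    rw [Subtype.ext_iff, hτv]
    constructor
    · intro e
      calc t * (h : G) = t * h * (t * t) := by rw [htt, mul_one]
        _ = h * t := by rw [← mul_assoc, e]
    · intro e
      rw [e, mul_assoc, htt, mul_one]
  have hfix : ∀ h : H, τ h = h → h = 1 ∨ h = z := by
    intro h e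
    by_contra hc
    push Not at hc
    have hzf : τ z = z := (huniq _ (by rw [← map_mul, hz2, map_one])).resolve_left fun e1 => hz1
      (by rw [← hτ z, e1, map_one])
    have hs : ({1, z, h} : Set H) ⊆ {h : H | t * h = h * t} := by
      rintro x (rfl | rfl | rfl)
      · simp
      · exact (hcomm_iff x).1 hzf
      · exact (hcomm_iff x).1 e
    have := (Set.ncard_le_ncard hs).trans (card_commute_le_two hA ht1 ht0 he₁ hte)
    have h3' : ({1, z, h} : Set H).ncard = 3 :=
      Set.ncard_eq_three.2 ⟨1, z, h, hz1.symm, hc.1.symm, hc.2.symm, rfl⟩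
    omega
  have hreal := sq_eq_one_of_real hp2 hA hodd
  have hcomm := comm_of_auto hz2 hz1 huniq τ hτ hfix hreal
  -- the field
  set S : Set (AddMonoid.End V) := Set.range act
  have hS : ∀ x ∈ S, ∀ y ∈ S, x * y = y * x := by
    rintro _ ⟨h, rfl⟩ _ ⟨k, rfl⟩
    rw [← map_mul, ← map_mul, hcomm]
  have hirr : ∀ W : AddSubgroup V, (∀ h : H, ∀ x ∈ W, act h x ∈ W) → W = ⊥ ∨ W = ⊤ := by
    intro W hW
    by_cases hb : W = ⊥
    · exact Or.inl hb
    obtain ⟨x, hxW, hx⟩ : ∃ x ∈ W, x ≠ 0 := by
      by_contra hc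
      push Not at hc
      exact hb ((AddSubgroup.eq_bot_iff_forall _).2 hc)
    refine Or.inr ((AddSubgroup.eq_top_iff' _).2 fun v => ?_)
    by_cases hv : v = 0
    · rw [hv]; exact W.zero_mem
    obtain ⟨h, rfl⟩ := htrans x v hx hv
    exact hW h x hxW
  letI : CommRing (Subring.closure S) := Subring.closureCommRingOfComm hS
  have hbij : ∀ r ∈ Subring.closure S, r ≠ 0 → Function.Bijective (r : V → V) := fun r hr hr0 =>
    bijective_of_mem_closure S S hS (fun W hW => hirr W fun h x hx => hW _ ⟨h, rfl⟩ x hx) hr hr0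
  let ev : Subring.closure S →+ V :=
    { toFun := fun r => (r : AddMonoid.End V) e₁
      map_zero' := rfl
      map_add' := fun _ _ => rfl }
  have hev : Function.Bijective ev := by
    refine ⟨?_, fun v => ?_⟩
    · rw [injective_iff_map_eq_zero]
      intro r hr
      by_contra hr0
      exact he₁ ((hbij r r.2 (fun h => hr0 (Subtype.ext h))).1
        (hr.trans (map_zero (r : AddMonoid.End V)).symm))
    · by_cases hv : v = 0
      · exact ⟨0, by rw [map_zero, hv]⟩
      · obtain ⟨h, hh⟩ := htrans e₁ v he₁ hv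
        exact ⟨⟨act h, Subring.subset_closure ⟨h, rfl⟩⟩, hh⟩
  haveI : Finite (Subring.closure S) := Finite.of_injective _ hev.1
  haveI : Nontrivial (Subring.closure S) :=
    ⟨⟨0, 1, fun h => he₁ ((congrArg ev h).symm.trans (map_zero ev))⟩⟩
  haveI : NoZeroDivisors (Subring.closure S) := ⟨fun {r s} h => by
    by_contra hc
    push Not at hc
    refine hc.2 (Subtype.ext (AddMonoidHom.ext fun v => ?_))
    exact (hbij r r.2 (fun e => hc.1 (Subtype.ext e))).1
      ((congrArg (fun x : Subring.closure S => (x : AddMonoid.End V) v) h).trans (map_zero _).symm)⟩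
  haveI : IsDomain (Subring.closure S) := NoZeroDivisors.to_isDomain _
  haveI := Fintype.ofFinite (Subring.closure S)
  letI : Field (Subring.closure S) := Fintype.fieldOfDomain _
  let E : Subring.closure S ≃+ V := AddEquiv.ofBijective ev hev
  have hE1 : E 1 = e₁ := rfl
  let χ : H →* Subring.closure S :=
    { toFun := fun h => ⟨act h, Subring.subset_closure ⟨h, rfl⟩⟩
      map_one' := Subtype.ext (map_one act)
      map_mul' := fun h k => Subtype.ext (map_mul act h k) }
  have hχ : ∀ (h : H) (r : Subring.closure S), act h (E r) = E (χ h * r) := fun _ _ => rfl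
  have hχinj : Function.Injective χ := fun h k e => hA.act_injective (congrArg Subtype.val e)
  have hχ0 : ∀ h, χ h ≠ 0 := fun h e => by
    have : χ h * χ h⁻¹ = 1 := by rw [← map_mul, mul_inv_cancel, map_one]
    rw [e, zero_mul] at this
    exact zero_ne_one this
  let Eo : OnePoint (Subring.closure S) ≃ OnePoint V := Equiv.optionCongr E.toEquiv
  have hEi : Eo ∞ = ∞ := rfl
  have hEc : ∀ x : Subring.closure S, Eo x = ((E x : V) : OnePoint V) := fun x => rfl
  let ρ' : G →* Equiv.Perm (OnePoint (Subring.closure S)) :=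
    (Equiv.permCongrHom Eo.symm).toMonoidHom.comp ρ
  have hρ : ∀ g x y, ρ' g x = y ↔ ρ g (Eo x) = Eo y := fun g x y => by
    show Eo.symm (ρ g (Eo x)) = y ↔ _
    exact Eo.symm_apply_eq
  have hiff : ∀ (g : G) (x y : Subring.closure S),
      ρ' g x = y ↔ ρ g ((E x : V) : OnePoint V) = ((E y : V) : OnePoint V) := fun g x y => by
    rw [hρ, hEc, hEc]
  have hh : ∀ (h : H) (x : Subring.closure S), ρ' h x = ((χ h * x : Subring.closure S) : OnePoint _) :=
    fun h x => by rw [hiff, hA.lin, hχ]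
  have hexχ : ∀ x : Subring.closure S, x ≠ 0 → ∃ h, χ h = x := fun x hx => by
    obtain ⟨h, hh⟩ := htrans e₁ (E x) he₁ fun e => hx (E.injective (e.trans (map_zero E).symm))
    rw [← hE1, hχ, mul_one] at hh
    exact ⟨h, E.injective hh⟩
  choose hOf hOfs using hexχ
  let T : Subring.closure S → Subring.closure S := fun x =>
    if hx : x = 0 then 0 else χ (τ (hOf x hx))
  have hT : ∀ h, T (χ h) = χ (τ h) := fun h => by
    show dite _ _ _ = _
    rw [dif_neg (hχ0 h), hχinj (hOfs (χ h) (hχ0 h))]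
  have ht1' : ρ' t ∞ = ((0 : Subring.closure S) : OnePoint _) := by
    rw [hρ, hEi, hEc, map_zero]; exact ht1
  have ht0' : ρ' t ((0 : Subring.closure S) : OnePoint _) = ∞ := by
    rw [hρ, hEi, hEc, map_zero]; exact ht0
  have htT : ∀ x : Subring.closure S, x ≠ 0 → ρ' t x = ((T x : Subring.closure S) : OnePoint _) := by
    intro x hx
    obtain ⟨h, rfl⟩ : ∃ h, χ h = x := ⟨_, hOfs x hx⟩
    rw [hT, hiff, show E (χ h) = act h e₁ by rw [← hE1, hχ, mul_one],
      show E (χ (τ h)) = act (τ h) e₁ by rw [← hE1, hχ, mul_one], ← hA.lin, ← hA.lin, hτv,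
      ← Equiv.Perm.mul_apply, ← map_mul, map_mul ρ (t * h) t, Equiv.Perm.mul_apply (ρ (t * h)), hte]
  have hinvT : ∀ x : Subring.closure S, x ≠ 0 → T x = x⁻¹ := by
    have h2S : (2 : Subring.closure S) ≠ 0 := fun h => he₁ (h2 e₁ (by
      rw [← hE1, ← map_add, one_add_one_eq_two, h, map_zero]))
    have hT0 : ∀ x, x ≠ 0 → T x ≠ 0 := fun x hx => by
      rw [← hOfs x hx, hT]; exact hχ0 _
    obtain ⟨u, hu1, hu2⟩ : ∃ u, ρ' u ∞ = ∞ ∧
        ∀ x : Subring.closure S, ρ' u x = ((1 - x : Subring.closure S) : OnePoint _) := by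
      obtain ⟨g, g1, g2⟩ := hA.tr e₁
      refine ⟨g * z, ?_, fun x => ?_⟩
      · rw [hρ, hEi, map_mul, Equiv.Perm.mul_apply, hA.lin_infty, g1]
      · rw [hiff, map_mul, Equiv.Perm.mul_apply, hA.lin, g2]
        congr 1
        have hz : act z (E x) = -E x := by
          rw [eq_neg_iff_add_eq_zero]
          by_contra hc
          refine hz1 (hA.free hc ?_)
          rw [map_add, show act z (act z (E x)) = act (z * z) (E x) by rw [map_mul]; rfl, hz2,
            map_one]
          exact add_comm _ _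
        rw [hz, map_sub, hE1]
        abel
    intro x hx
    refine eq_inv h2S T hT0 (fun a b ha hb => ?_) (fun a ha => ?_) (fun a ha e => ?_) (fun a ha ha1 => ?_) hx
    · rw [← hOfs a ha, ← hOfs b hb, ← map_mul, hT, hT, hT, map_mul, map_mul]
    · rw [← hOfs a ha, hT, hT, hτ]
    · rw [← hOfs a ha, hT] at e
      rcases hfix _ (hχinj e) with r | r
      · left; rw [← hOfs a ha, r, map_one]
      · right
        have hsq : a * a = 1 := by rw [← hOfs a ha, r, ← map_mul, hz2, map_one]
        rcases mul_self_eq_one_iff.1 hsq with q | q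
        · exact absurd (hχinj (show χ z = χ 1 by rw [← r, hOfs a ha, q, map_one])) hz1
        · exact q
    · -- the identity
      have hm : ∀ g k x, ρ' (g * k) x = ρ' g (ρ' k x) := fun g k x => by
        rw [map_mul, Equiv.Perm.mul_apply]
      have hone : T 1 = 1 := by rw [← map_one χ, hT, map_one, map_one]
      have hu0 : ρ' u ((0 : Subring.closure S) : OnePoint _) = ((1 : Subring.closure S) : OnePoint _) := by
        rw [hu2, sub_zero]
      have hu11 : ρ' u ((1 : Subring.closure S) : OnePoint _) = ((0 : Subring.closure S) : OnePoint _) := by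
        rw [hu2, sub_self]
      have htone : ρ' t ((1 : Subring.closure S) : OnePoint _) = ((1 : Subring.closure S) : OnePoint _) := by
        rw [htT 1 one_ne_zero, hone]
      have hw : u * t * u = t * u * t := by
        refine inv_mul_eq_one.1 (hA.three ((u * t * u)⁻¹ * (t * u * t)) (Eo ∞)
          (Eo ((0 : Subring.closure S) : OnePoint _)) (Eo ((1 : Subring.closure S) : OnePoint _))
          (Eo.injective.ne (OnePoint.infty_ne_coe _))
          (Eo.injective.ne fun e => zero_ne_one (OnePoint.coe_injective e))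
          (Eo.injective.ne (OnePoint.infty_ne_coe _)) ?_ ?_ ?_) <;> rw [← hρ, hm, map_inv,
            Equiv.Perm.inv_eq_iff_eq] <;>
          simp only [hm, hu1, ht1', ht0', hu0, hu11, htone]
      have ha1' : (1 : Subring.closure S) - a ≠ 0 := sub_ne_zero.2 ha1.symm
      have hTa : (1 : Subring.closure S) - T a ≠ 0 := fun e => ha1 (by
        rw [sub_eq_zero] at e
        rw [← hOfs a ha, ← hτ (hOf a ha), ← hT, ← hT, hOfs a ha, ← e, hone])
      have := congrArg (fun g => ρ' g (a : OnePoint (Subring.closure S))) hw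
      simp only [hm] at this
      rw [hu2, htT _ ha1', hu2, htT a ha, hu2, htT _ hTa] at this
      exact OnePoint.coe_injective this
  have hthree : ∀ a b c : OnePoint (Subring.closure S), a ≠ b → a ≠ c → b ≠ c →
      ∃ g, ρ' g ∞ = a ∧ ρ' g ((0 : Subring.closure S) : OnePoint _) = b ∧
        ρ' g ((1 : Subring.closure S) : OnePoint _) = c := by
    intro a b c hab hac hbc
    obtain ⟨g, g1, g2, g3⟩ := h3 (Eo ∞) (Eo ((0 : Subring.closure S) : OnePoint _))
      (Eo ((1 : Subring.closure S) : OnePoint _))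
      (Eo.injective.ne (OnePoint.infty_ne_coe _))
      (Eo.injective.ne (OnePoint.infty_ne_coe _))
      (Eo.injective.ne fun e => zero_ne_one (OnePoint.coe_injective e))
      (Eo a) (Eo b) (Eo c) (Eo.injective.ne hab) (Eo.injective.ne hac) (Eo.injective.ne hbc)
    exact ⟨g, (hρ _ _ _).2 g1, (hρ _ _ _).2 g2, (hρ _ _ _).2 g3⟩
  have hiso := nonempty_pgl (R := Subring.closure S) ρ'
    (fun g g' e => hA.inj ((Equiv.permCongrHom Eo.symm).injective e)) ?_ t ht1' ht0'
    (fun x hx => by rw [htT x hx, hinvT x hx]) hthree ?_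
  · obtain ⟨iso⟩ := hiso
    obtain ⟨q, hq, n, hn, hqn⟩ := FiniteField.card' (Subring.closure S)
    haveI := Fact.mk hn
    haveI : Fintype (GaloisField q n) := Fintype.ofFinite _
    refine ⟨GaloisField q n, inferInstance, inferInstance, ?_, ⟨iso.trans
      (PSLCard.pglEquivOfCard ?_)⟩⟩
    · rw [← Nat.card_eq_fintype_card, GaloisField.card q n n.ne_zero, ← hqn,
        ← Nat.card_eq_fintype_card]
      exact Nat.card_congr E.toEquiv
    · rw [GaloisField.card q n n.ne_zero, ← hqn, Nat.card_eq_fintype_card]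
  · intro g hg
    obtain ⟨h, v, hv⟩ := hA.stab g ((hρ _ _ _).1 hg)
    refine ⟨χ h, hχ0 h, E.symm v, fun x => ?_⟩
    rw [hiff, hv, hχ, map_add, E.apply_symm_apply]
  · intro c
    obtain ⟨g, g1, g2⟩ := hA.tr (E c)
    exact ⟨g, (hρ _ _ _).2 g1, fun x => by rw [hiff, g2, map_add]⟩

end Cfsg.Agent.ZassenhausPGL

namespace Cfsg.Agent.ZassenhausPGL

open Cfsg.Agent.Zassenhaus

/-- Version of `pgl_of_sharp` in terms of the order and exponent of `V`. -/
theorem pgl_of_sharp_card.{u} {G : Type u} [Group G] [Finite G] {V : Type u} [AddCommGroup V]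
    [Finite V] {ρ : G →* Equiv.Perm (OnePoint V)} {H : Subgroup G} {act : H →* AddMonoid.End V}
    (hA : Affine ρ H act)
    (h3 : ∀ a b c : OnePoint V, a ≠ b → a ≠ c → b ≠ c → ∀ a' b' c' : OnePoint V, a' ≠ b' → a' ≠ c' →
      b' ≠ c' → ∃ g, ρ g a = a' ∧ ρ g b = b' ∧ ρ g c = c')
    {p f : ℕ} (hp : p.Prime) (hp2 : p ≠ 2) (hf : Odd f) (hexp : ∀ v : V, p • v = 0)
    (hcard : Nat.card V = p ^ f) :
    ∃ (F : Type) (_ : Field F) (_ : Fintype F), Fintype.card F = Nat.card V ∧
      Nonempty (G ≃* Matrix.ProjGenLinGroup (Fin 2) F) := by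
  haveI := Fact.mk hp
  letI : Module (ZMod p) V := AddCommGroup.zmodModule hexp
  haveI : Nontrivial V := Finite.one_lt_card_iff_nontrivial.1 (by
    rw [hcard]; exact Nat.one_lt_pow (by rcases hf with ⟨i, rfl⟩; omega) hp.one_lt)
  have hfin : Module.finrank (ZMod p) V = f := by
    have := FiniteField.pow_finrank_eq_natCard p V
    rw [hcard] at this
    exact Nat.pow_right_injective hp.two_le this
  exact pgl_of_sharp hA h3 (p := p) hp2 (by rw [hfin]; exact hf)

end Cfsg.Agent.ZassenhausPGL
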