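import Mathlib
import Cfsg.Agent.Lib.PSLSpectrum99TI
import Cfsg.Agent.Lib.PSLCard
import Cfsg.Agent.Lib.PSL2Proj52
import Cfsg.Agent.Lib.M11Unique99Main
import Cfsg.Agent.Lib.Zassenhaus
import Cfsg.Agent.S0727
import Cfsg.Agent.S0731
import Cfsg.Agent.S0738

/-!
`PSL(2,q)`, `q > 3`, is recognised by its order and element orders: the Sylow `p`-subgroups form a
Zassenhaus group of degree `q + 1`.
-/

set_option autoImplicit false

namespace Cfsg.Agent.PSLSpectrum99

open MulAction Matrix

section Counting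

variable {G : Type*} [Group G] [Finite G] {p : ℕ} [hp : Fact p.Prime]
  (hexp : ∀ g : G, p ∣ orderOf g → orderOf g = p)
include hexp

theorem mem_of_fix {Q : Sylow p G} {u : G} (hu : u ^ p = 1) (hfix : u • Q = Q) :
    u ∈ (Q : Subgroup G) := by
  have hun := Sylow.smul_eq_iff_mem_normalizer.1 hfix
  have hpg : IsPGroup p (Subgroup.zpowers u) := by
    intro g
    obtain ⟨_, k, rfl⟩ := g
    refine ⟨1, Subtype.ext ?_⟩
    show (u ^ k) ^ (p ^ 1) = 1
    rw [pow_one, ← zpow_natCast, ← _root_.zpow_mul, mul_comm, _root_.zpow_mul, zpow_natCast, hu, _root_.one_zpow]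
  exact ((hpg.inf_normalizer_sylow Q).le ⟨Subgroup.mem_zpowers u, hun⟩).2

theorem free {P Q : Sylow p G} (hne : Q ≠ P) {u : G} (hu : u ∈ (P : Subgroup G))
    (hfix : u • Q = Q) : u = 1 :=
  sylow_ti hexp hne (mem_of_fix hexp (sylow_pow_eq_one hexp P hu) hfix) hu

omit hexp in
theorem smul_self {P : Sylow p G} {u : G} (hu : u ∈ (P : Subgroup G)) : u • P = P :=
  Sylow.smul_eq_iff_mem_normalizer.2 (Subgroup.le_normalizer hu)

theorem card_dvd_others (P : Sylow p G) :
    Nat.card P ∣ Nat.card ↥({Q : Sylow p G | Q ≠ P}) :=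
  M11Unique99.card_dvd_of_free (G := ↥(P : Subgroup G)) ({Q : Sylow p G | Q ≠ P})
    (fun g Q hQ e => hQ (smul_left_cancel (g : G)
      ((show (g : G) • Q = P from e).trans (smul_self g.2).symm)))
    (fun g Q hQ e => Subtype.ext (free hexp hQ g.2 e))

/-- The `p'`-part of a normaliser of a Sylow `p`-subgroup divides `|P| - 1`. -/
theorem dvd_card_sub_one (P : Sylow p G) {s k : ℕ} (hs : s.Prime) (hsp : s ≠ p)
    (hk : s ^ k ∣ Nat.card (Subgroup.normalizer ((P : Subgroup G) : Set G))) :
    s ^ k ∣ Nat.card P - 1 := by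
  classical
  haveI := Fact.mk hs
  obtain ⟨S⟩ : Nonempty (Sylow s (Subgroup.normalizer ((P : Subgroup G) : Set G))) := inferInstance
  refine (S.pow_dvd_card_of_pow_dvd_card hk).trans ?_
  let _ : MulAction ↥(S : Subgroup (Subgroup.normalizer ((P : Subgroup G) : Set G))) G :=
    MulAction.compHom G ((MulAut.conj : G →* MulAut G).comp
      ((Subgroup.subtype _).comp (Subgroup.subtype _)))
  have hsmul : ∀ (g : ↥(S : Subgroup (Subgroup.normalizer ((P : Subgroup G) : Set G)))) (x : G),
      g • x = ((g : Subgroup.normalizer ((P : Subgroup G) : Set G)) : G) * x *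
        ((g : Subgroup.normalizer ((P : Subgroup G) : Set G)) : G)⁻¹ := fun g x => rfl
  have h := M11Unique99.card_dvd_of_free
    (G := ↥(S : Subgroup (Subgroup.normalizer ((P : Subgroup G) : Set G))))
    {x : G | x ∈ (P : Subgroup G) ∧ x ≠ 1}
    (fun g x hx => by
      refine ⟨?_, fun e => hx.2 ?_⟩
      · rw [hsmul]
        exact (Subgroup.mem_normalizer_iff.1 (g : Subgroup.normalizer _).2 x).1 hx.1
      · rw [hsmul] at e
        exact conj_eq_one_iff.1 e)
    (fun g x hx e => by
      rw [hsmul, mul_inv_eq_iff_eq_mul] at e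
      obtain ⟨j, hj⟩ := S.2 g
      refine Subtype.ext (Subtype.ext ?_)
      by_contra hg
      refine hx.2 (eq_one_of_commute hexp (sylow_pow_eq_one hexp P hx.1) (n := s ^ j)
        (fun hd => hsp ((Nat.prime_dvd_prime_iff_eq hp.1 hs).1 (hp.1.dvd_of_dvd_pow hd)).symm)
        ?_ hg e.symm)
      exact congrArg (fun z : ↥(S : Subgroup (Subgroup.normalizer ((P : Subgroup G) : Set G))) =>
        ((z : Subgroup.normalizer ((P : Subgroup G) : Set G)) : G)) hj)
  have hc : Nat.card ↥{x : G | x ∈ (P : Subgroup G) ∧ x ≠ 1} = Nat.card P - 1 := by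
    rw [Nat.card_coe_set_eq, show {x : G | x ∈ (P : Subgroup G) ∧ x ≠ 1} =
      ((P : Subgroup G) : Set G) \ {1} from rfl,
      Set.ncard_sdiff_singleton_of_mem (one_mem (P : Subgroup G)), ← Nat.card_coe_set_eq]
    rfl
  rwa [hc] at h

end Counting

theorem sharp_range {G Ω : Type*} [Group G] [MulAction G Ω] [FaithfulSMul G Ω]
    (h3 : IsMultiplyPretransitive G Ω 3) (hs : ∀ t : Fin 3 ↪ Ω, stabilizer G t = ⊥) :
    IsMultiplyPretransitive (toPermHom G Ω).range Ω 3 ∧
      (∀ t : Fin 3 ↪ Ω, stabilizer (toPermHom G Ω).range t = ⊥) ∧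
      Nonempty (G ≃* (toPermHom G Ω).range) := by
  refine ⟨⟨fun s t => ?_⟩, fun t => ?_, ⟨MonoidHom.ofInjective toPerm_injective⟩⟩
  · obtain ⟨g, hg⟩ := h3.exists_smul_eq s t
    exact ⟨⟨_, g, rfl⟩, hg⟩
  · rw [Subgroup.eq_bot_iff_forall]
    rintro ⟨_, g, rfl⟩ hg
    have h : g ∈ stabilizer G t := by
      rw [mem_stabilizer_iff] at hg ⊢
      exact hg
    rw [hs, Subgroup.mem_bot] at h
    subst h
    exact Subtype.ext (map_one _)

theorem pgl_equiv_psl {F : Type*} [Field F] [Finite F] (h : Even (Nat.card F)) :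
    Nonempty (ProjGenLinGroup (Fin 2) F ≃* ProjectiveSpecialLinearGroup (Fin 2) F) := by
  let f : SpecialLinearGroup (Fin 2) F →* ProjGenLinGroup (Fin 2) F :=
    ProjGenLinGroup.mk.comp SpecialLinearGroup.toGL
  have h2 : (2 : F) = 0 := PSL2Proj52.two_eq_of_even h
  have hf : Function.Injective f := by
    rw [injective_iff_map_eq_one]
    intro A hA
    have hc : A ∈ Subgroup.center (SpecialLinearGroup (Fin 2) F) := by
      rw [Subgroup.mem_center_iff]
      intro B
      have := Subgroup.mem_center_iff.1 (ProjGenLinGroup.mk_eq_one.1 hA)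
        (SpecialLinearGroup.toGL B)
      rw [← map_mul, ← map_mul] at this
      exact SpecialLinearGroup.toGL_injective this
    rcases (PSL2Elements.mem_center_iff A).1 hc with e | e
    · exact e
    · rw [e, PSL2Proj52.neg_one_eq_one h2]
  have hcard : Nat.card (SpecialLinearGroup (Fin 2) F) = Nat.card (ProjGenLinGroup (Fin 2) F) :=
    (PSLCard.card_PGL).symm
  exact ⟨(MulEquiv.ofBijective f ((Nat.bijective_iff_injective_and_card f).2 ⟨hf, hcard⟩)).symm.trans
    (MulEquiv.ofBijective PSL2Proj52.π ⟨PSL2Proj52.π_injective_of_even h2,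
      PSL2Proj52.π_surjective⟩)⟩

theorem recognition {G : Type*} [Group G] [Finite G] {F : Type*} [Field F] [Finite F]
    {p f : ℕ} [hp : Fact p.Prime] (hqf : Nat.card F = p ^ f) (hq3 : 3 < Nat.card F)
    (hexp : ∀ g : G, p ∣ orderOf g → orderOf g = p)
    (hcard : Nat.gcd 2 (Nat.card F - 1) * Nat.card G = Nat.card F * (Nat.card F ^ 2 - 1))
    (hel : ∃ g : G, orderOf g = (Nat.card F + 1) / Nat.gcd 2 (Nat.card F - 1)) :
    Nonempty (G ≃* ProjectiveSpecialLinearGroup (Fin 2) F) := by
  classical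
  set q := Nat.card F with hq
  set d := Nat.gcd 2 (q - 1) with hd
  have hf : f ≠ 0 := by rintro rfl; rw [pow_zero] at hqf; omega
  have hdval : (p = 2 ∧ Even q ∧ d = 1) ∨ (p ≠ 2 ∧ Odd q ∧ d = 2) := by
    rcases eq_or_ne p 2 with h | h
    · have he : Even q := by rw [hqf, h]; exact (even_two.pow_of_ne_zero hf)
      refine Or.inl ⟨h, he, ?_⟩
      obtain ⟨j, hj⟩ := he
      rcases Nat.prime_two.eq_one_or_self_of_dvd d (Nat.gcd_dvd_left _ _) with h' | h'
      · exact h'
      · exfalso
        have := Nat.gcd_dvd_right 2 (q - 1)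
        rw [← hd, h'] at this
        omega
    · have ho : Odd q := by rw [hqf]; exact (hp.1.odd_of_ne_two h).pow
      refine Or.inr ⟨h, ho, ?_⟩
      obtain ⟨j, hj⟩ := ho
      exact Nat.gcd_eq_left (by omega)
  have hdpos : 0 < d := Nat.gcd_pos_of_pos_left _ two_pos
  have hdq : d ∣ q - 1 := Nat.gcd_dvd_right _ _
  have hpq : p ∣ q := hqf ▸ dvd_pow_self p hf
  have hpd : Nat.Coprime p d := by
    rcases hdval with ⟨-, -, h⟩ | ⟨h, -, h'⟩
    · rw [h]; exact Nat.coprime_one_right p
    · rw [h']; exact (Nat.coprime_primes hp.1 Nat.prime_two).2 h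
  have hsq : q ^ 2 - 1 + 1 = q ^ 2 := by
    have : 1 ≤ q ^ 2 := Nat.one_le_pow _ _ (by omega)
    omega
  have hnp : ¬ p ∣ q ^ 2 - 1 := fun h => hp.1.not_dvd_one
    ((Nat.dvd_add_iff_right h).2 (by rw [hsq]; exact hpq.trans (dvd_pow_self q two_ne_zero)))
  -- the Sylow subgroups have order `q`
  obtain ⟨P⟩ : Nonempty (Sylow p G) := inferInstance
  have hPq : ∀ P : Sylow p G, Nat.card P = q := by
    intro P
    have h1 : p ^ f ∣ Nat.card G := by
      refine (Nat.Coprime.pow_left f hpd).dvd_of_dvd_mul_left ?_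
      rw [hcard, ← hqf]
      exact dvd_mul_right _ _
    obtain ⟨k, hk⟩ := P.2.exists_card_eq
    have h2 := P.pow_dvd_card_of_pow_dvd_card h1
    rw [hk] at h2
    have hfk : f ≤ k := (Nat.pow_dvd_pow_iff_le_right hp.1.one_lt).1 h2
    rw [hk, hqf]
    congr 1
    by_contra hne
    have h3 : p ^ (f + 1) ∣ q * (q ^ 2 - 1) := by
      rw [← hcard]
      exact ((pow_dvd_pow p (by omega : f + 1 ≤ k)).trans
        (hk ▸ Subgroup.card_subgroup_dvd_card _)).mul_left _
    rw [hqf, pow_succ] at h3
    exact hnp (hqf ▸ Nat.dvd_of_mul_dvd_mul_left (pow_pos hp.1.pos f) h3)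
  -- counting
  set N := Subgroup.normalizer ((P : Subgroup G) : Set G) with hN
  obtain ⟨h, hh⟩ : q ∣ Nat.card N := hPq P ▸ Subgroup.card_dvd_of_le Subgroup.le_normalizer
  have hNG : Nat.card (Sylow p G) * Nat.card N = Nat.card G := by
    rw [Sylow.card_eq_index_normalizer P, mul_comm]
    exact Subgroup.card_mul_index N
  have hnhd : Nat.card (Sylow p G) * h * d = q ^ 2 - 1 := by
    refine Nat.eq_of_mul_eq_mul_left (show 0 < q by omega) ?_
    rw [← hcard, ← hNG, hh]; ring
  have hhq : h ∣ q - 1 := by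
    refine (Nat.dvd_iff_prime_pow_dvd_dvd _ _).2 fun s k hs hsk => ?_
    rcases eq_or_ne s p with hsp | hsp
    · rcases Nat.eq_zero_or_pos k with rfl | hk
      · simp
      · subst s
        exact absurd ((dvd_pow_self p hk.ne').trans (hsk.trans
          (hnhd ▸ dvd_mul_of_dvd_left (dvd_mul_left h _) d))) hnp
    · rw [← hPq P]
      exact dvd_card_sub_one hexp P hs hsp (hh ▸ hsk.mul_left q)
  obtain ⟨m, hm⟩ := hPq P ▸ card_dvd_others hexp P
  have hn : Nat.card (Sylow p G) = 1 + q * m := by
    rw [← hm, Nat.card_coe_set_eq, show {Q : Sylow p G | Q ≠ P} = {P}ᶜ from rfl, Set.ncard_compl,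
      Set.ncard_singleton]
    have : 0 < Nat.card (Sylow p G) := Nat.card_pos
    omega
  have hhd : h * d = q - 1 := by
    have hhpos : 0 < h * d := by
      rcases Nat.eq_zero_or_pos (h * d) with e | e
      · rw [mul_assoc, e, mul_zero] at hnhd
        have : 4 ≤ q ^ 2 := by nlinarith
        omega
      · exact e
    have h1 : q ∣ h * d + 1 := by
      refine (Nat.dvd_add_left (dvd_mul_right q (m * h * d))).1 ⟨q, ?_⟩
      rw [← sq, ← hsq, ← hnhd, hn]; ring
    have h2 : h * d ≤ 2 * (q - 1) := by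
      have := Nat.le_of_dvd (by omega) hhq
      have : d ≤ 2 := Nat.le_of_dvd two_pos (Nat.gcd_dvd_left _ _)
      nlinarith
    obtain ⟨j, hj⟩ := h1
    have hj1 : j = 1 := by
      rcases j with _ | _ | j
      · omega
      · rfl
      · have := Nat.mul_le_mul_left q (show 2 ≤ j + 1 + 1 by omega)
        omega
    rw [hj1, mul_one] at hj
    omega
  have hnq : Nat.card (Sylow p G) = q + 1 := by
    refine Nat.eq_of_mul_eq_mul_right (show 0 < q - 1 by omega) ?_
    rw [← Nat.sq_sub_sq, one_pow, ← hhd, ← mul_assoc]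
    exact hnhd
  have hh2 : 2 ≤ h := by
    rcases hdval with ⟨-, -, hd'⟩ | ⟨-, hodd, hd'⟩ <;> rw [hd'] at hhd
    · omega
    · obtain ⟨j, hj⟩ := hodd; omega
  -- regularity of `P` on the other Sylow subgroups
  have hothers : ∀ P : Sylow p G, Nat.card ↥({Q : Sylow p G | Q ≠ P}) = q := by
    intro P
    rw [Nat.card_coe_set_eq, show {Q : Sylow p G | Q ≠ P} = {P}ᶜ from rfl, Set.ncard_compl,
      Set.ncard_singleton, hnq]
    omega
  have hreg : ∀ P : Sylow p G, ∀ y z : Sylow p G, y ≠ P → z ≠ P →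
      ∃! u : (P : Subgroup G), (u : G) • y = z := by
    intro P y z hy hz
    let φ : ↥(P : Subgroup G) → ({Q : Sylow p G | Q ≠ P}) := fun u =>
      ⟨(u : G) • y, fun e => hy (smul_left_cancel (u : G)
        ((show (u : G) • y = P from e).trans (smul_self u.2).symm))⟩
    have hinj : Function.Injective φ := by
      intro u v e
      have e' : (u : G) • y = (v : G) • y := congrArg Subtype.val e
      have hfix : ((v : G)⁻¹ * u) • y = y := by rw [mul_smul, e', inv_smul_smul]
      exact Subtype.ext (inv_mul_eq_one.1 (free hexp hy (mul_mem (inv_mem v.2) u.2) hfix)).symm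
    have hbij : Function.Bijective φ :=
      (Nat.bijective_iff_injective_and_card φ).2 ⟨hinj, by rw [hPq, hothers]⟩
    obtain ⟨u, hu⟩ := hbij.2 ⟨z, hz⟩
    exact ⟨u, congrArg Subtype.val hu, fun v hv => hinj
      (Subtype.ext (hv.trans (congrArg Subtype.val hu).symm))⟩
  have h2t : IsMultiplyPretransitive G (Sylow p G) 2 := by
    rw [is_two_pretransitive_iff]
    intro a b c e hab hce
    obtain ⟨g, hg⟩ := exists_smul_eq G a c
    have hgb : g • b ≠ c := fun h => hab (smul_left_cancel g (hg.trans h.symm))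
    obtain ⟨u, hu, -⟩ := hreg c (g • b) e hgb hce.symm
    exact ⟨(u : G) * g, by rw [mul_smul, hg, smul_self u.2], by rw [mul_smul]; exact hu⟩
  have hthree : ∀ g : G, ∀ a b c : Sylow p G, a ≠ b → b ≠ c → a ≠ c →
      g • a = a → g • b = b → g • c = c → g = 1 := by
    intro g a b c hab hbc hac ha hb hc
    obtain ⟨u, hu, huniq⟩ := hreg a b c hab.symm hac.symm
    have hmem : g * u * g⁻¹ ∈ (a : Subgroup G) :=
      (Subgroup.mem_normalizer_iff.1 (Sylow.smul_eq_iff_mem_normalizer.1 ha) _).1 u.2
    have heq := huniq ⟨_, hmem⟩ (by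
      show (g * u * g⁻¹) • b = c
      rw [mul_smul, mul_smul, inv_smul_eq_iff.2 hb.symm, hu, hc])
    have hcom : Commute (u : G) g :=
      (mul_inv_eq_iff_eq_mul.1 (congrArg Subtype.val heq)).symm
    have hu1 : (u : G) ≠ 1 := fun e => hbc (by rw [← hu, e, one_smul])
    have hgp := pow_eq_one_of_commute hexp hu1 (sylow_pow_eq_one hexp a u.2) hcom
    exact free hexp hab.symm (mem_of_fix hexp hgp ha) hb
  have hstabN : stabilizer G P = N := Sylow.stabilizer_eq_normalizer P
  obtain ⟨Q, hQP⟩ : ∃ Q : Sylow p G, Q ≠ P := by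
    haveI : Nontrivial (Sylow p G) := Finite.one_lt_card_iff_nontrivial.1 (by omega)
    exact exists_ne P
  have hpair : ∀ a b : Sylow p G, a ≠ b → Nat.card ↥(stabilizer G a ⊓ stabilizer G b) = h := by
    intro a b hab
    have hNa : Nat.card ↥(stabilizer G a) = q * h := by
      rw [← hh, ← hstabN]
      obtain ⟨g, rfl⟩ := exists_smul_eq G P a
      rw [stabilizer_smul_eq_stabilizer_map_conj, Subgroup.card_map_of_injective (MulEquiv.injective _)]
    let φ : ↥(a : Subgroup G) × ↥(stabilizer G a ⊓ stabilizer G b) → ↥(stabilizer G a) :=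
      fun x => ⟨(x.1 : G) * x.2, mul_mem (show (x.1 : G) ∈ stabilizer G a from smul_self x.1.2) x.2.2.1⟩
    have hbij : Function.Bijective φ := by
      constructor
      · rintro ⟨u, k⟩ ⟨v, l⟩ e
        have e' : (u : G) * k = v * l := congrArg Subtype.val e
        have hb : ((v : G)⁻¹ * u) • b = b := by
          have : (v : G)⁻¹ * u = l * (k : G)⁻¹ := by
            rw [inv_mul_eq_iff_eq_mul, ← mul_assoc, ← e', mul_inv_cancel_right]
          rw [this]
          exact (stabilizer G b).mul_mem l.2.2 ((stabilizer G b).inv_mem k.2.2)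
        have huv : u = v := Subtype.ext (inv_mul_eq_one.1
          (free hexp hab.symm (mul_mem (inv_mem v.2) u.2) hb)).symm
        subst huv
        exact Prod.ext rfl (Subtype.ext (mul_left_cancel e'))
      · rintro ⟨g, hg⟩
        obtain ⟨u, hu, -⟩ := hreg a b (g • b) hab.symm
          (fun e => hab (smul_left_cancel g (hg.trans e.symm)))
        refine ⟨(u, ⟨(u : G)⁻¹ * g, ?_, ?_⟩), Subtype.ext (mul_inv_cancel_left _ _)⟩
        · exact (stabilizer G a).mul_mem ((stabilizer G a).inv_mem (smul_self u.2)) hg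
        · show ((u : G)⁻¹ * g) • b = b
          rw [mul_smul, inv_smul_eq_iff, hu]
    have := Nat.card_eq_of_bijective φ hbij
    rw [Nat.card_prod, hPq, hNa] at this
    exact Nat.eq_of_mul_eq_mul_left (show 0 < q by omega) this
  have hfaith : FaithfulSMul G (Sylow p G) := by
    refine ⟨fun {g g'} hgg => ?_⟩
    obtain ⟨R, hR⟩ : ∃ R : Sylow p G, R ∉ ({P, Q} : Finset (Sylow p G)) := by
      haveI := Fintype.ofFinite (Sylow p G)
      obtain ⟨R, hR⟩ : ({P, Q}ᶜ : Finset (Sylow p G)).Nonempty := by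
        rw [← Finset.card_pos, Finset.card_compl, ← Nat.card_eq_fintype_card, hnq]
        have := Finset.card_le_two (a := P) (b := Q)
        omega
      exact ⟨R, Finset.mem_compl.1 hR⟩
    simp only [Finset.mem_insert, Finset.mem_singleton, not_or] at hR
    have hx : ∀ X : Sylow p G, (g'⁻¹ * g) • X = X := fun X => by
      rw [mul_smul, hgg, inv_smul_smul]
    exact (inv_mul_eq_one.1 (hthree _ P Q R hQP.symm (Ne.symm hR.2) (Ne.symm hR.1)
      (hx P) (hx Q) (hx R))).symm
  obtain ⟨x, hx⟩ := hel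
  have hnoregular : ∀ M : Subgroup G, M.Normal → IsPretransitive M (Sylow p G) →
      ∃ a : Sylow p G, stabilizer M a ≠ ⊥ := by
    intro M hMn hMt
    by_contra hcon
    push Not at hcon
    have hM : Nat.card M = q + 1 := by
      rw [← hnq, ← Subgroup.index_bot (G := M), ← hcon P, index_stabilizer_of_transitive]
    have hpM : ¬ p ∣ q + 1 := fun hd => hp.1.not_dvd_one ((Nat.dvd_add_iff_right hpq).2 hd)
    let _ : MulAction ↥(P : Subgroup G) M :=
      MulAction.compHom M (MulAut.conjNormal.comp (P : Subgroup G).subtype : ↥(P : Subgroup G) →* MulAut M)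
    have hconj : ∀ (u : (P : Subgroup G)) (n : M), ((u • n : M) : G) = (u : G) * n * (u : G)⁻¹ :=
      fun u n => rfl
    have hfree : ∀ (u : (P : Subgroup G)) (n : M), n ≠ 1 → u • n = n → u = 1 := by
      intro u n hn e
      have e' := congrArg Subtype.val e
      rw [hconj, mul_inv_eq_iff_eq_mul] at e'
      refine Subtype.ext (eq_one_of_commute hexp (sylow_pow_eq_one hexp P u.2) hpM ?_
        (fun h => hn (Subtype.ext h)) e')
      rw [← hM]
      exact congrArg Subtype.val (pow_card_eq_one' (x := n))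
    have htrans : ∀ n n' : M, n ≠ 1 → n' ≠ 1 → ∃ u : (P : Subgroup G), u • n = n' := by
      intro n n' hn hn'
      let φ : ↥(P : Subgroup G) → ({m : M | m ≠ 1}) := fun u => ⟨u • n, fun e => hn (by
        have e' := congrArg Subtype.val (show u • n = 1 from e)
        rw [hconj] at e'
        exact Subtype.ext (conj_eq_one_iff.1 e'))⟩
      have hφ : Function.Bijective φ := by
        refine (Nat.bijective_iff_injective_and_card φ).2 ⟨fun u v e => ?_, ?_⟩
        · refine (inv_mul_eq_one.1 (hfree (v⁻¹ * u) n hn ?_)).symm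
          rw [mul_smul, show u • n = v • n from congrArg Subtype.val e, inv_smul_smul]
        · rw [hPq, Nat.card_coe_set_eq, show {m : M | m ≠ 1} = {1}ᶜ from rfl, Set.ncard_compl,
            Set.ncard_singleton, hM]
          omega
      obtain ⟨u, hu⟩ := hφ.2 ⟨n', hn'⟩
      exact ⟨u, congrArg Subtype.val hu⟩
    -- an element of order `(q+1)/d` lies in `M`
    set e := (q + 1) / d with he
    have hd1 : d ∣ q + 1 := by
      rcases hdval with ⟨-, -, h⟩ | ⟨-, ⟨j, hj⟩, h⟩ <;> rw [h]
      · exact one_dvd _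
      · omega
    have hed : d * e = q + 1 := Nat.mul_div_cancel' hd1
    have hxM : x ∈ M := by
      rw [← QuotientGroup.eq_one_iff (N := M)]
      refine orderOf_eq_one_iff.1 (Nat.eq_one_of_dvd_coprimes ?_
        ((orderOf_map_dvd (QuotientGroup.mk' M) x).trans (dvd_of_eq hx)) (orderOf_dvd_natCard _))
      have hQc : Nat.card (G ⧸ M) = q * h := by
        refine Nat.eq_of_mul_eq_mul_right (show 0 < q + 1 by omega) ?_
        conv_lhs => rw [← hM]
        rw [← Subgroup.card_eq_card_quotient_mul_card_subgroup, ← hNG, hnq, hh]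
        ring
      rw [hQc]
      refine Nat.Coprime.mul_right (Nat.Coprime.coprime_dvd_left (show e ∣ q + 1 from ⟨d, by rw [mul_comm, hed]⟩) ?_) ?_
      · exact Nat.coprime_self_add_right.2 (Nat.coprime_one_right q) |>.symm
      · refine Nat.coprime_of_dvd fun k hk hke hkh => ?_
        rcases hdval with ⟨-, ⟨j, hj⟩, h1⟩ | ⟨-, ⟨j, hj⟩, h1⟩ <;> rw [h1] at hhd hed
        · have h3 : k ∣ 2 := by
            have := Nat.dvd_sub hke hkh
            rwa [show e - h = 2 by omega] at this
          obtain rfl := (Nat.prime_dvd_prime_iff_eq hk Nat.prime_two).1 h3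
          omega
        · have h3 : k ∣ 1 := by
            have := Nat.dvd_sub hke hkh
            rwa [show e - h = 1 by omega] at this
          exact hk.not_dvd_one h3
    have he2 : 2 ≤ e := by
      rcases hdval with ⟨-, -, h1⟩ | ⟨-, -, h1⟩ <;> rw [h1] at hed <;> omega
    set n₀ : M := ⟨x, hxM⟩
    have hn0 : n₀ ≠ 1 := fun h => by
      have h' : x = 1 := congrArg Subtype.val h
      rw [h', orderOf_one] at hx
      omega
    have hsame : ∀ n : M, n ≠ 1 → orderOf n = e := by
      intro n hn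
      obtain ⟨u, rfl⟩ := htrans n₀ n hn0 hn
      rw [← hx, ← Subgroup.orderOf_coe, hconj]
      exact ((MulAut.conj (u : G)).orderOf_eq x)
    have hprimes : ∀ r, r.Prime → r ∣ q + 1 → e = r := by
      intro r hr hrd
      haveI := Fact.mk hr
      obtain ⟨n, hn⟩ := exists_prime_orderOf_dvd_card' r (hM.symm ▸ hrd : r ∣ Nat.card M)
      rw [← hsame n (fun h => by rw [h, orderOf_one] at hn; exact hr.ne_one hn.symm), hn]
    rcases hdval with ⟨hp2, heven, h1⟩ | ⟨-, hodd, h1⟩ <;> rw [h1] at hed
    · rw [one_mul] at hed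
      obtain ⟨r, hr, hrd⟩ := Nat.exists_prime_and_dvd (show q + 1 ≠ 1 by omega)
      have her := hprimes r hr hrd
      have hgen : ∀ n : M, n ∈ Subgroup.zpowers n₀ := by
        intro n
        rw [Subgroup.eq_top_of_card_eq (Subgroup.zpowers n₀)
          (by rw [Nat.card_zpowers, hsame n₀ hn0, hed, hM])]
        trivial
      have hon : orderOf n₀ = r := (hsame n₀ hn0).trans her
      have h0 : ∀ y : G, y ^ p = 1 → y * y = 1 := fun y hy => by rwa [hp2, sq] at hy
      have hsub : ∀ u : (P : Subgroup G), u • n₀ = n₀ ∨ u • n₀ = n₀⁻¹ := by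
        intro u
        obtain ⟨k, hk⟩ := Subgroup.mem_zpowers_iff.1 (hgen (u • n₀))
        have hu2 : u * u = 1 := Subtype.ext (h0 _ (sylow_pow_eq_one hexp P u.2))
        have hkk : n₀ ^ (k * k) = n₀ ^ (1 : ℤ) := by
          have h2 : u • (u • n₀) = n₀ := by rw [← mul_smul, hu2, one_smul]
          have h3 : u • (n₀ ^ k) = (u • n₀) ^ k :=
            map_zpow (MulAut.conjNormal (u : G) : M ≃* M) n₀ k
          rw [← hk, h3, ← hk, ← _root_.zpow_mul] at h2
          rw [h2, zpow_one]
        rw [zpow_eq_zpow_iff_modEq, hon, Int.modEq_iff_dvd] at hkk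
        have hfac : (r : ℤ) ∣ (1 - k) * (1 + k) := by
          rw [show (1 - k) * (1 + k) = 1 - k * k by ring]; exact hkk
        rcases (Nat.prime_iff_prime_int.1 hr).dvd_mul.1 hfac with h | h
        · left
          rw [← hk]
          conv_rhs => rw [← zpow_one n₀]
          rw [zpow_eq_zpow_iff_modEq, hon, Int.modEq_iff_dvd]
          exact h
        · right
          rw [← hk, ← _root_.zpow_neg_one, zpow_eq_zpow_iff_modEq, hon, Int.modEq_iff_dvd]
          rw [show -1 - k = -(1 + k) by ring]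
          exact dvd_neg.2 h
      have hle : Nat.card P ≤ 2 := by
        have hinj : Function.Injective (fun u : (P : Subgroup G) => u • n₀) := fun u v e =>
          (inv_mul_eq_one.1 (hfree (v⁻¹ * u) n₀ hn0 (by
            rw [mul_smul, show u • n₀ = v • n₀ from e, inv_smul_smul]))).symm
        refine le_trans (Nat.card_le_card_of_injective
          (fun u : (P : Subgroup G) => (⟨u • n₀, hsub u⟩ : ({n₀, n₀⁻¹} : Set M)))
          (fun u v e => hinj (congrArg Subtype.val e))) ?_
        rw [Nat.card_coe_set_eq]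
        exact (Set.ncard_insert_le _ _).trans (by rw [Set.ncard_singleton])
      rw [hPq] at hle
      omega
    · obtain ⟨j, hj⟩ := hodd
      have := hprimes 2 Nat.prime_two ⟨j + 1, by omega⟩
      omega
  have hZ : Cfsg.IsZassenhausGroup G (Sylow p G) := by
    refine ⟨hfaith, h2t, hthree, ?_, hnoregular⟩
    have hc := hpair P Q hQP.symm
    haveI : Nontrivial ↥(stabilizer G P ⊓ stabilizer G Q) :=
      Finite.one_lt_card_iff_nontrivial.1 (by omega)
    obtain ⟨g, hg⟩ := exists_ne (1 : ↥(stabilizer G P ⊓ stabilizer G Q))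
    exact ⟨g, fun e => hg (Subtype.ext e), P, Q, hQP.symm, g.2.1, g.2.2⟩
  letI := Fintype.ofFinite (Sylow p G)
  rcases hdval with ⟨hp2, heven, hd'⟩ | ⟨hp2, hodd, hd'⟩
  · -- characteristic two: sharply triply transitive
    rw [hd', mul_one] at hhd
    obtain ⟨h3, hs⟩ := S0731.sharp_of_card hZ hQP.symm (by
      rw [show Nat.card (Zassenhaus.two G P Q) = h from hpair P Q hQP.symm, hnq]; omega)
    obtain ⟨h3', hs', ⟨e⟩⟩ := sharp_range h3 hs
    obtain ⟨K, iK, iKf, hK, ⟨e'⟩⟩ := S0727.result (f := f) (Nat.one_le_iff_ne_zero.2 hf)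
      (by rw [← Nat.card_eq_fintype_card, hnq, hqf, hp2]) (toPermHom G (Sylow p G)).range h3' hs'
    obtain ⟨e''⟩ := pgl_equiv_psl (F := F) heven
    exact ⟨(e.trans e').trans ((PSLCard.pglEquivOfCard (by
      rw [Nat.card_eq_fintype_card, hK, ← hq, hqf, hp2])).trans e'')⟩
  · -- odd characteristic
    rw [hd'] at hhd
    have hle : (P : Subgroup G) ≤ stabilizer G P := fun u hu => smul_self hu
    have hnorm : ((P : Subgroup G).subgroupOf (stabilizer G P)).Normal := by
      refine ⟨fun u hu g => ?_⟩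
      have hg : (g : G) ∈ N := hstabN.le g.2
      exact (Subgroup.mem_normalizer_iff.1 hg _).1 hu
    obtain ⟨hab, -⟩ := S0738.result hZ hQP.symm (by
      rw [hpair P Q hQP.symm, ← Nat.card_eq_fintype_card, hnq]
      omega) (P : Subgroup G) hle hnorm (hreg P)
    rcases S0731.result hZ P (P : Subgroup G) hle hnorm hab (hreg P) with
      ⟨h3, -⟩ | ⟨K, iK, iKf, hK2, ⟨e⟩⟩
    · exfalso
      -- the two-point stabiliser would move a third point everywhere
      obtain ⟨R, hR⟩ : ∃ R : Sylow p G, R ∉ ({P, Q} : Finset (Sylow p G)) := by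
        obtain ⟨R, hR⟩ : ({P, Q}ᶜ : Finset (Sylow p G)).Nonempty := by
          rw [← Finset.card_pos, Finset.card_compl, ← Nat.card_eq_fintype_card, hnq]
          have := Finset.card_le_two (a := P) (b := Q)
          omega
        exact ⟨R, Finset.mem_compl.1 hR⟩
      simp only [Finset.mem_insert, Finset.mem_singleton, not_or] at hR
      have hsub : ({P, Q}ᶜ : Set (Sylow p G)) ⊆
          Set.range (fun g : ↥(stabilizer G P ⊓ stabilizer G Q) => (g : G) • R) := by
        intro S hS
        simp only [Set.mem_compl_iff, Set.mem_insert_iff, Set.mem_singleton_iff, not_or] at hS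
        let tri : ∀ X : Sylow p G, X ≠ P → X ≠ Q → (Fin 3 ↪ Sylow p G) := fun X h1 h2 =>
          ⟨![P, Q, X], by
            intro i j hij
            fin_cases i <;> fin_cases j <;> first
              | rfl
              | exact absurd hij hQP
              | exact absurd hij hQP.symm
              | exact absurd hij h1
              | exact absurd hij h1.symm
              | exact absurd hij h2
              | exact absurd hij h2.symm⟩
        obtain ⟨g, hg⟩ := h3.exists_smul_eq (tri R hR.1 hR.2) (tri S hS.1 hS.2)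
        exact ⟨⟨g, DFunLike.congr_fun hg 0, DFunLike.congr_fun hg 1⟩, DFunLike.congr_fun hg 2⟩
      have h4 := (Set.ncard_le_ncard hsub).trans
        ((Nat.card_coe_set_eq _).symm.trans_le (Finite.card_range_le _))
      rw [Set.ncard_compl, Set.ncard_pair hQP.symm, hnq, hpair P Q hQP.symm] at h4
      omega
    · set k := Nat.card K with hk
      have hkodd : Nat.gcd 2 (k - 1) = 2 := by
        have ho : Odd k := by
          rw [hk, Nat.card_eq_fintype_card, Nat.odd_iff]
          exact FiniteField.odd_card_of_char_ne_two hK2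
        obtain ⟨j, hj⟩ := ho
        exact Nat.gcd_eq_left (by omega)
      have hcK := PSLCard.card_PSL2_mul (F := K)
      rw [← hk, hkodd, ← Nat.card_congr e.toEquiv] at hcK
      rw [hd', hcK] at hcard
      have hkq : k = q := by
        have hk1 : 1 < k := PSLCard.one_lt_card K
        have key : ∀ a b : ℕ, 1 ≤ a → a < b → a * (a ^ 2 - 1) < b * (b ^ 2 - 1) := by
          intro a b ha hab
          have h1 : a ^ 2 < b ^ 2 := Nat.pow_lt_pow_left hab two_ne_zero
          have : 1 ≤ a ^ 2 := Nat.one_le_pow _ _ (by omega)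
          exact Nat.mul_lt_mul_of_lt_of_le hab (by omega) (by omega)
        rcases lt_trichotomy k q with h | h | h
        · exact absurd hcard (key k q hk1.le h).ne
        · exact h
        · exact absurd hcard (key q k (by omega) h).ne'
      haveI := Fintype.ofFinite F
      exact ⟨e.trans (PSLCard.pslEquiv (FiniteField.ringEquivOfCardEq (by
        rw [← Nat.card_eq_fintype_card, ← Nat.card_eq_fintype_card, ← hk, hkq])))⟩

end Cfsg.Agent.PSLSpectrum99
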