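import Mathlib
import Cfsg.Prelude.Def_LieRecognition

/-!
Auxiliary results for recognising Suzuki 2-groups of type A.
-/

set_option autoImplicit false

namespace Cfsg.Agent.SuzukiTypeA

/-- A module for an abelian group acting transitively on its nonzero elements is a field. -/
theorem field_model {V : Type*} [AddCommGroup V] [Finite V] {K : Type*} [Group K]
    (hK : ∀ k l : K, k * l = l * k) (act : K →* AddMonoid.End V)
    (hreg : ∀ v w : V, v ≠ 0 → w ≠ 0 → ∃ k, act k v = w)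
    {n : ℕ} (hn : n ≠ 0) (hcard : Nat.card V = 2 ^ n) {v₀ : V} (hv₀ : v₀ ≠ 0) :
    ∃ e : GaloisField 2 n ≃+ V, e 1 = v₀ ∧
      (∀ c : GaloisField 2 n, c ≠ 0 → ∃ k, ∀ x, e (c * x) = act k (e x)) ∧
      ∀ k, ∃ c : GaloisField 2 n, c ≠ 0 ∧ ∀ x, e (c * x) = act k (e x) := by
  classical
  have := Fact.mk Nat.prime_two
  let S : Subring (AddMonoid.End V) := Subring.centralizer (Set.range act)
  have hmem : ∀ k, act k ∈ S := by
    intro k
    rintro _ ⟨l, rfl⟩
    rw [← map_mul, ← map_mul, hK]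
  let ev : S →+ V :=
    { toFun := fun f => (f : AddMonoid.End V) v₀
      map_zero' := rfl
      map_add' := fun _ _ => rfl }
  have hinj : Function.Injective ev := by
    refine (injective_iff_map_eq_zero ev).2 fun f hf => Subtype.ext ?_
    apply AddMonoidHom.ext
    intro w
    rcases eq_or_ne w 0 with rfl | hw
    · exact map_zero _
    · obtain ⟨k, rfl⟩ := hreg v₀ w hv₀ hw
      have hc := DFunLike.congr_fun (f.2 (act k) ⟨k, rfl⟩) v₀
      change (act k) ((f : AddMonoid.End V) v₀) = (f : AddMonoid.End V) ((act k) v₀) at hc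
      change (f : AddMonoid.End V) v₀ = 0 at hf
      refine hc.symm.trans ?_
      rw [hf]
      exact map_zero _
  have hunit : ∀ f : S, f ≠ 0 → ∃ k, f = ⟨act k, hmem k⟩ := fun f hf => by
    have h1 : ev f ≠ 0 := fun h => hf (hinj (h.trans (map_zero ev).symm))
    obtain ⟨k, hk⟩ := hreg v₀ _ hv₀ h1
    exact ⟨k, hinj hk.symm⟩
  have hsurj : Function.Surjective ev := fun w => by
    rcases eq_or_ne w 0 with rfl | hw
    · exact ⟨0, map_zero _⟩
    · obtain ⟨k, rfl⟩ := hreg v₀ w hv₀ hw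
      exact ⟨⟨act k, hmem k⟩, rfl⟩
  have hcomm : ∀ f g : S, f * g = g * f := fun f g => by
    rcases eq_or_ne g 0 with rfl | hg
    · simp
    · obtain ⟨k, rfl⟩ := hunit g hg
      exact Subtype.ext (f.2 (act k) ⟨k, rfl⟩).symm
  let _ : CommRing S := { (inferInstance : Ring S) with mul_comm := hcomm }
  have : Nontrivial S := ⟨⟨0, 1, fun h => hv₀ (congrArg ev h).symm⟩⟩
  have hne : ∀ k, (⟨act k, hmem k⟩ : S) ≠ 0 := fun k h => by
    have e : ((⟨act k⁻¹, hmem k⁻¹⟩ : S) * ⟨act k, hmem k⟩) = 1 := by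
      apply Subtype.ext
      show act k⁻¹ * act k = 1
      rw [← map_mul, inv_mul_cancel, map_one]
    rw [h, mul_zero] at e
    exact zero_ne_one e
  have : NoZeroDivisors S := ⟨fun {f g} h => by
    by_contra hc
    push Not at hc
    obtain ⟨k, rfl⟩ := hunit f hc.1
    obtain ⟨l, rfl⟩ := hunit g hc.2
    refine hne (k * l) ?_
    rw [← h]
    exact Subtype.ext (map_mul act k l)⟩
  have : IsDomain S := NoZeroDivisors.to_isDomain S
  have : Finite S := Finite.of_injective ev hinj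
  let _ := Fintype.ofFinite S
  let _ := Fintype.ofFinite (GaloisField 2 n)
  let _ : Field S := Fintype.fieldOfDomain S
  have hc : Fintype.card (GaloisField 2 n) = Fintype.card S := by
    rw [← Nat.card_eq_fintype_card, ← Nat.card_eq_fintype_card, GaloisField.card 2 n hn,
      Nat.card_eq_of_bijective ev ⟨hinj, hsurj⟩, hcard]
  let ψ : GaloisField 2 n ≃+* S := FiniteField.ringEquivOfCardEq hc
  let e : GaloisField 2 n ≃+ V :=
    AddEquiv.ofBijective (ev.comp ψ.toAddEquiv.toAddMonoidHom)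
      ((show Function.Bijective ev from ⟨hinj, hsurj⟩).comp ψ.bijective)
  have he : ∀ x, e x = (ψ x : AddMonoid.End V) v₀ := fun _ => rfl
  have key : ∀ c x k, ψ c = ⟨act k, hmem k⟩ → e (c * x) = act k (e x) := fun c x k h => by
    rw [he, he, map_mul, h]; rfl
  refine ⟨e, by rw [he, map_one]; rfl, fun c hc => ?_, fun k => ?_⟩
  · obtain ⟨k, hk⟩ := hunit (ψ c) ((map_ne_zero_iff _ ψ.injective).2 hc)
    exact ⟨k, fun x => key c x k hk⟩
  · exact ⟨ψ.symm ⟨act k, hmem k⟩, (map_ne_zero_iff _ ψ.symm.injective).2 (hne k),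
      fun x => key _ x k (ψ.apply_symm_apply _)⟩

/-- A central extension of elementary abelian 2-groups is determined by its squaring map. -/
theorem extension_iso {P R : Type*} [Group P] [Group R] [Finite P] [Finite R]
    {Z W : Type*} [AddCommGroup Z] [AddCommGroup W]
    (i : Z → P) (π : P → W) (j : Z → R) (ρ : R → W)
    (hi : ∀ x y, i (x + y) = i x * i y) (hi' : Function.Injective i)
    (hic : ∀ x p, i x * p = p * i x) (hπ : ∀ p q, π (p * q) = π p + π q)
    (hπs : Function.Surjective π) (hker : ∀ p, π p = 0 ↔ ∃ x, i x = p)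
    (hj : ∀ x y, j (x + y) = j x * j y) (hj' : Function.Injective j)
    (hjc : ∀ x r, j x * r = r * j x) (hρ : ∀ p q, ρ (p * q) = ρ p + ρ q)
    (hρs : Function.Surjective ρ) (hker' : ∀ r, ρ r = 0 ↔ ∃ x, j x = r)
    (hsq : ∀ p r, π p = ρ r → ∃ x, p * p = i x ∧ r * r = j x) : Nonempty (P ≃* R) := by
  have hi0 : i 0 = 1 := by have := hi 0 0; rw [add_zero] at this; exact mul_eq_left.1 this.symm
  have hj0 : j 0 = 1 := by have := hj 0 0; rw [add_zero] at this; exact mul_eq_left.1 this.symm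
  have hin : ∀ x, (i x)⁻¹ = i (-x) := fun x =>
    inv_eq_of_mul_eq_one_right (by rw [← hi, add_neg_cancel, hi0])
  have hjn : ∀ x, (j x)⁻¹ = j (-x) := fun x =>
    inv_eq_of_mul_eq_one_right (by rw [← hj, add_neg_cancel, hj0])
  have hπ1 : π 1 = 0 := by have := hπ 1 1; rw [one_mul] at this; exact left_eq_add.1 this
  have hρ1 : ρ 1 = 0 := by have := hρ 1 1; rw [one_mul] at this; exact left_eq_add.1 this
  have hπi : ∀ p, π p⁻¹ = -π p := fun p =>
    eq_neg_of_add_eq_zero_left (by rw [← hπ, inv_mul_cancel, hπ1])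
  have hρi : ∀ p, ρ p⁻¹ = -ρ p := fun p =>
    eq_neg_of_add_eq_zero_left (by rw [← hρ, inv_mul_cancel, hρ1])
  let M : Subgroup (P × R) :=
    { carrier := {m | π m.1 = ρ m.2}
      mul_mem' := fun {m m'} h h' => by
        show π (m.1 * m'.1) = ρ (m.2 * m'.2)
        rw [hπ, hρ, show π m.1 = ρ m.2 from h, show π m'.1 = ρ m'.2 from h']
      one_mem' := hπ1.trans hρ1.symm
      inv_mem' := fun {m} h => by
        show π m.1⁻¹ = ρ m.2⁻¹
        rw [hπi, hρi, show π m.1 = ρ m.2 from h] }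
  let D : Subgroup (P × R) :=
    { carrier := Set.range fun x => (i x, j x)
      mul_mem' := by
        rintro _ _ ⟨x, rfl⟩ ⟨y, rfl⟩
        exact ⟨x + y, by simp [hi, hj]⟩
      one_mem' := ⟨0, by simp [hi0, hj0]⟩
      inv_mem' := by
        rintro _ ⟨x, rfl⟩
        exact ⟨-x, by simp [hin, hjn]⟩ }
  have hDc : ∀ d ∈ D, ∀ m : P × R, d * m = m * d := by
    rintro _ ⟨x, rfl⟩ m
    exact Prod.ext (hic x m.1) (hjc x m.2)
  have hsqM : ∀ m ∈ M, m * m ∈ D := fun m hm => by
    obtain ⟨x, h1, h2⟩ := hsq m.1 m.2 hm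
    exact ⟨x, Prod.ext h1.symm h2.symm⟩
  have hcommM : ∀ m ∈ M, ∀ m' ∈ M, m * m' * m⁻¹ * m'⁻¹ ∈ D := fun m hm m' hm' => by
    have e : m * m' * m⁻¹ * m'⁻¹ = (m * m' * (m * m')) * (m' * m')⁻¹ * (m * m)⁻¹ := by
      calc m * m' * m⁻¹ * m'⁻¹ = m * m' * (m * ((m * m)⁻¹ * m'⁻¹)) := by group
        _ = m * m' * (m * (m'⁻¹ * (m * m)⁻¹)) := by rw [hDc _ (D.inv_mem (hsqM m hm)) m'⁻¹]
        _ = _ := by group
    rw [e]
    exact D.mul_mem (D.mul_mem (hsqM _ (M.mul_mem hm hm')) (D.inv_mem (hsqM _ hm')))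
      (D.inv_mem (hsqM _ hm))
  let S : Set (Subgroup (P × R)) := {C | D ≤ C ∧ C ≤ M ∧ ∀ m ∈ C, m.2 = 1 → m.1 = 1}
  have hDM : D ≤ M := by
    rintro _ ⟨x, rfl⟩
    show π (i x) = ρ (j x)
    rw [(hker _).2 ⟨x, rfl⟩, (hker' _).2 ⟨x, rfl⟩]
  have hD : D ∈ S := ⟨le_rfl, hDM, by
    rintro _ ⟨x, rfl⟩ hx
    have : x = 0 := hj' (hx.trans hj0.symm)
    simp [this, hi0]⟩
  obtain ⟨C, ⟨hDC, hCM, hC⟩, hmax⟩ := (Set.toFinite S).exists_maximal ⟨D, hD⟩
  have hsur : ∀ w, ∃ m ∈ C, π m.1 = w := by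
    intro w
    by_contra hw
    push Not at hw
    obtain ⟨p, rfl⟩ := hπs w
    obtain ⟨r, hr⟩ := hρs (π p)
    let m : P × R := (p, r)
    have hm : m ∈ M := hr.symm
    have hnorm : ∀ c ∈ C, m * c * m⁻¹ ∈ C := fun c hc => by
      simpa [mul_assoc] using C.mul_mem (hDC (hcommM m hm c (hCM hc))) hc
    have hnorm' : ∀ c ∈ C, m⁻¹ * c * m ∈ C := fun c hc => by
      simpa [mul_assoc] using C.mul_mem (hDC (hcommM m⁻¹ (M.inv_mem hm) c (hCM hc))) hc
    let C' : Subgroup (P × R) :=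
      { carrier := {z | z ∈ C ∨ m⁻¹ * z ∈ C}
        mul_mem' := by
          rintro a b (ha | ha) (hb | hb)
          · exact Or.inl (C.mul_mem ha hb)
          · exact Or.inr (by simpa [mul_assoc] using C.mul_mem (hnorm' a ha) hb)
          · exact Or.inr (by simpa [mul_assoc] using C.mul_mem ha hb)
          · exact Or.inl (by
              simpa [mul_assoc] using
                C.mul_mem (C.mul_mem (hnorm _ ha) (hDC (hsqM m hm))) hb)
        one_mem' := Or.inl C.one_mem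
        inv_mem' := by
          rintro a (ha | ha)
          · exact Or.inl (C.inv_mem ha)
          · refine Or.inr ?_
            simpa [mul_assoc] using
              C.mul_mem (C.inv_mem (hDC (hsqM m hm))) (hnorm _ (C.inv_mem ha)) }
    have hC' : C' ∈ S := by
      refine ⟨hDC.trans fun z hz => Or.inl hz, ?_, ?_⟩
      · rintro z (hz | hz)
        · exact hCM hz
        · simpa [mul_assoc] using M.mul_mem hm (hCM hz)
      · rintro z (hz | hz) h2
        · exact hC z hz h2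
        · exfalso
          have hzM : z ∈ M := by simpa [mul_assoc] using M.mul_mem hm (hCM hz)
          have h1 : π z.1 = 0 := by rw [show π z.1 = ρ z.2 from hzM, h2, hρ1]
          refine hw _ (C.inv_mem hz) ?_
          show π (m⁻¹ * z).1⁻¹ = π p
          rw [hπi, Prod.fst_mul, hπ, h1, add_zero, Prod.fst_inv, hπi, neg_neg]
    have := hmax hC' (fun z hz => Or.inl hz) (show m ∈ C' from Or.inr (by simp))
    exact hw m this rfl
  have bij₁ : Function.Bijective (fun c : C => (c.1.1 : P)) := by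
    refine ⟨fun c c' h => ?_, fun p => ?_⟩
    · have h2 : c.1.1⁻¹ * c'.1.1 = 1 := inv_mul_eq_one.2 h
      have hm : c.1⁻¹ * c'.1 ∈ M := hCM (C.mul_mem (C.inv_mem c.2) c'.2)
      have h3 : ρ (c.1.2⁻¹ * c'.1.2) = 0 := by
        rw [← show π (c.1⁻¹ * c'.1).1 = ρ (c.1.2⁻¹ * c'.1.2) from hm]
        show π (c.1.1⁻¹ * c'.1.1) = 0
        rw [h2, hπ1]
      obtain ⟨x, hx⟩ := (hker' _).1 h3
      have hd : (i x, j x) ∈ C := hDC ⟨x, rfl⟩
      have h4 := hC _ (C.mul_mem (C.mul_mem (C.inv_mem c.2) c'.2) (C.inv_mem hd))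
        (by show c.1.2⁻¹ * c'.1.2 * (j x)⁻¹ = 1; rw [hx, mul_inv_cancel])
      change c.1.1⁻¹ * c'.1.1 * (i x)⁻¹ = 1 at h4
      rw [h2, one_mul, inv_eq_one] at h4
      have hx0 : x = 0 := hi' (h4.trans hi0.symm)
      subst hx0
      rw [hj0] at hx
      exact Subtype.ext (Prod.ext h (inv_mul_eq_one.1 hx.symm))
    · obtain ⟨m, hm, hme⟩ := hsur (π p)
      obtain ⟨x, hx⟩ := (hker (m.1⁻¹ * p)).1 (by rw [hπ, hπi, hme, neg_add_cancel])
      exact ⟨⟨m * (i x, j x), C.mul_mem hm (hDC ⟨x, rfl⟩)⟩, by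
        show m.1 * i x = p
        rw [hx, mul_inv_cancel_left]⟩
  have bij₂ : Function.Bijective (fun c : C => (c.1.2 : R)) := by
    refine ⟨fun c c' h => ?_, fun r => ?_⟩
    · have h2 := hC _ (C.mul_mem (C.inv_mem c.2) c'.2)
        (show c.1.2⁻¹ * c'.1.2 = 1 from inv_mul_eq_one.2 h)
      exact Subtype.ext (Prod.ext (inv_mul_eq_one.1 h2) h)
    · obtain ⟨m, hm, hme⟩ := hsur (ρ r)
      obtain ⟨x, hx⟩ := (hker' (m.2⁻¹ * r)).1 (by
        rw [hρ, hρi, ← show π m.1 = ρ m.2 from hCM hm, hme, neg_add_cancel])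
      exact ⟨⟨m * (i x, j x), C.mul_mem hm (hDC ⟨x, rfl⟩)⟩, by
        show m.2 * j x = r
        rw [hx, mul_inv_cancel_left]⟩
  let e₁ : C ≃* P := MulEquiv.ofBijective ((MonoidHom.fst P R).comp C.subtype) bij₁
  let e₂ : C ≃* R := MulEquiv.ofBijective ((MonoidHom.snd P R).comp C.subtype) bij₂
  exact ⟨e₁.symm.trans e₂⟩

/-- If `x ↦ x · φ x` fixes only `1`, then `φ` has odd order. -/
theorem odd_orderOf_aut {F : Type*} [Field F] [Finite F] (φ : F ≃+* F)
    (h : ∀ x : F, x * φ x = 1 → x = 1) : Odd (orderOf φ) := by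
  classical
  have : Finite (F ≃+* F) := Finite.of_injective _ DFunLike.coe_injective
  by_contra hodd
  rw [Nat.not_odd_iff_even] at hodd
  obtain ⟨y, hy2, hy⟩ : ∃ y, φ (φ y) = y ∧ φ y ≠ y := by
    by_contra hcon
    push Not at hcon
    let G₁ := Subgroup.zpowers φ
    let G₂ := Subgroup.zpowers (φ ^ 2)
    let _ := Fintype.ofFinite G₁
    let _ := Fintype.ofFinite G₂
    have hset : FixedPoints.subfield G₁ F = FixedPoints.subfield G₂ F := by
      ext x
      constructor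
      · intro hx g
        exact hx ⟨g.1, (Subgroup.zpowers_le.2
          (Subgroup.pow_mem _ (Subgroup.mem_zpowers φ) 2) : G₂ ≤ G₁) g.2⟩
      · intro hx g
        have hfix : φ x = x := hcon x (by
          have := hx ⟨φ ^ 2, Subgroup.mem_zpowers _⟩
          change (φ ^ 2) x = x at this
          rw [pow_two] at this
          exact this)
        have : φ ∈ MulAction.stabilizer (F ≃+* F) x := hfix
        exact (Subgroup.zpowers_le.2 this g.2 :)
    have h1 := FixedPoints.finrank_eq_card G₁ F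
    rw [hset, FixedPoints.finrank_eq_card G₂ F, ← Nat.card_eq_fintype_card,
      ← Nat.card_eq_fintype_card, Nat.card_zpowers, Nat.card_zpowers,
      orderOf_pow] at h1
    obtain ⟨m, hm⟩ := hodd
    have := orderOf_pos φ
    rw [Nat.gcd_eq_right (show 2 ∣ orderOf φ from ⟨m, by omega⟩)] at h1
    omega
  have hy0 : y ≠ 0 := fun h0 => hy (by rw [h0, map_zero])
  have hφy : φ y ≠ 0 := (map_ne_zero_iff _ φ.injective).2 hy0
  have h1 := h (φ y / y) (by rw [map_div₀, hy2]; field_simp)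
  rw [div_eq_one_iff_eq hy0] at h1
  exact hy h1

/-- The element `(x, y)` of the group of type A. -/
def elem {F : Type*} [Field F] (φ : F →+* F) (x y : F) : GL (Fin 3) F where
  val := !![1, 0, 0; x, 1, 0; y, φ x, 1]
  inv := !![1, 0, 0; -x, 1, 0; φ x * x - y, -φ x, 1]
  val_inv := by
    ext i k; fin_cases i <;> fin_cases k <;> simp [Matrix.mul_apply, Fin.sum_univ_three] <;> ring
  inv_val := by
    ext i k; fin_cases i <;> fin_cases k <;> simp [Matrix.mul_apply, Fin.sum_univ_three] <;> ring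

theorem elem_mul {F : Type*} [Field F] (φ : F →+* F) (x y x' y' : F) :
    elem φ x y * elem φ x' y' = elem φ (x + x') (y + y' + φ x * x') := by
  apply Units.ext
  ext i k
  fin_cases i <;> fin_cases k <;> simp [elem, Matrix.mul_apply, Fin.sum_univ_three] <;> ring

theorem elem_zero {F : Type*} [Field F] (φ : F →+* F) : elem φ 0 0 = 1 := by
  apply Units.ext
  ext i k
  fin_cases i <;> fin_cases k <;> simp [elem]

theorem mem_typeA {F : Type*} [Field F] (φ : F →+* F) {g : GL (Fin 3) F} :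
    g ∈ Cfsg.suzukiTypeA F φ ↔ ∃ x y, g = elem φ x y := by
  constructor
  · intro hg
    induction hg using Subgroup.closure_induction with
    | mem g hg =>
      obtain ⟨x, y, h⟩ := hg
      exact ⟨x, y, Units.ext h⟩
    | one => exact ⟨0, 0, (elem_zero φ).symm⟩
    | mul g g' _ _ hg hg' =>
      obtain ⟨x, y, rfl⟩ := hg
      obtain ⟨x', y', rfl⟩ := hg'
      exact ⟨_, _, elem_mul φ x y x' y'⟩
    | inv g _ hg =>
      obtain ⟨x, y, rfl⟩ := hg
      refine ⟨-x, φ x * x - y, inv_eq_of_mul_eq_one_right ?_⟩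
      rw [elem_mul, ← elem_zero φ]
      congr 1 <;> ring
  · rintro ⟨x, y, rfl⟩
    exact Subgroup.subset_closure ⟨x, y, rfl⟩

end Cfsg.Agent.SuzukiTypeA
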