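import Cfsg.Agent.Lib.FeitMain
import Cfsg.Agent.Lib.FeitSimple
import Cfsg.Agent.Lib.ZassenhausPSL2Odd
import Cfsg.Agent.Lib.ZassenhausPGLRecognition
import Cfsg.Agent.Lib.SuzukiTypeA
import Cfsg.Agent.Lib.PSLSpectrum99Main
import Cfsg.Agent.S0738

/-!
Simple Zassenhaus groups with two-point stabilisers of odd order at least half the degree are
two-dimensional projective special linear groups.
-/

set_option autoImplicit false

open scoped OnePoint

namespace Cfsg.Agent.ZassenhausClassify27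

open MulAction Cfsg.Agent.Zassenhaus

universe u v

section

variable {G : Type u} [Group G] [Finite G] {Ω : Type v} [MulAction G Ω] [Finite Ω]

/-- An involution has as many fixed points as the degree, modulo two. -/
theorem fixed_parity {s : G} (hs : s * s = 1) (hs1 : s ≠ 1) :
    Nat.card Ω ≡ Nat.card {x : Ω // s • x = x} [MOD 2] := by
  haveI : Fact (Nat.Prime 2) := ⟨Nat.prime_two⟩
  have hp : IsPGroup 2 (Subgroup.zpowers s) := IsPGroup.of_card (n := 1) (by
    rw [Nat.card_zpowers, pow_one]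
    exact orderOf_eq_prime (by rw [pow_two]; exact hs) hs1)
  have h := hp.card_modEq_card_fixedPoints Ω
  refine h.trans ?_
  rw [show Nat.card (fixedPoints (Subgroup.zpowers s) Ω) = Nat.card {x : Ω // s • x = x} from
    Nat.card_congr (Equiv.subtypeEquivRight fun x => ?_)]
  refine ⟨fun hx => hx ⟨s, Subgroup.mem_zpowers s⟩, fun hx g => ?_⟩
  have hm : (g : G) ∈ stabilizer G x := (Subgroup.zpowers_le.2 (show s ∈ stabilizer G x from hx)) g.2
  exact hm

theorem exists_fixed {s : G} (hs : s * s = 1) (hs1 : s ≠ 1) (hΩ : Odd (Nat.card Ω)) :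
    ∃ x : Ω, s • x = x := by
  by_contra h
  push Not at h
  have h0 : Nat.card {x : Ω // s • x = x} = 0 :=
    Nat.card_eq_zero.2 (Or.inl ⟨fun x => h x.1 x.2⟩)
  have := fixed_parity (Ω := Ω) hs hs1
  rw [h0, Nat.ModEq] at this
  rw [Nat.odd_iff] at hΩ
  omega

theorem exists_fixed_ne {s : G} (hs : s * s = 1) (hs1 : s ≠ 1) (hΩ : Even (Nat.card Ω)) {x : Ω}
    (hx : s • x = x) : ∃ y : Ω, y ≠ x ∧ s • y = y := by
  by_contra h
  push Not at h
  have hu : Nat.card {x : Ω // s • x = x} = 1 := Nat.card_eq_one_iff_unique.2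
    ⟨⟨fun y z => Subtype.ext (by
      have e1 : y.1 = x := by_contra fun hne => h y.1 hne y.2
      have e2 : z.1 = x := by_contra fun hne => h z.1 hne z.2
      rw [e1, e2])⟩, ⟨⟨x, hx⟩⟩⟩
  have := fixed_parity (Ω := Ω) hs hs1
  rw [hu, Nat.ModEq] at this
  rw [Nat.even_iff] at hΩ
  omega

end

section

variable {G : Type u} [Group G] [Finite G] {V : Type u} [AddCommGroup V] [Finite V]
  {ρ : G →* Equiv.Perm (OnePoint V)} {H : Subgroup G} {act : H →* AddMonoid.End V}

/-- The sharply triply transitive case in characteristic two. -/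
theorem two_power_psl2 (hA : Affine ρ H act) {n : ℕ} (hn : n ≠ 0) (hV : Nat.card V = 2 ^ n)
    (hcard : Nat.card H + 1 = Nat.card V) (hcomm : ∀ h k : H, h * k = k * h) {s : G}
    (hs1 : ρ s ∞ = ((0 : V) : OnePoint V)) (hs0 : ρ s ((0 : V) : OnePoint V) = ∞)
    (hinv : ∀ h : H, s * (h : G) * s⁻¹ = (h : G)⁻¹) {v₀ : V} (hv₀ : v₀ ≠ 0)
    (hfix : ρ s v₀ = v₀) :
    ∃ (F : Type) (_ : Field F) (_ : Fintype F),
      Nonempty (G ≃* Matrix.ProjectiveSpecialLinearGroup (Fin 2) F) := by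
  classical
  haveI := Fact.mk Nat.prime_two
  have hreg : ∀ v w : V, v ≠ 0 → w ≠ 0 → ∃ h, act h v = w := by
    intro v w hv hw
    let f : H → {x : V // x ≠ 0} := fun h => ⟨act h v, fun e => hv ((hA.act_eq_zero_iff h).1 e)⟩
    have hinj : Function.Injective f := by
      intro h k e
      refine (inv_mul_eq_one.1 (hA.free hv (h := h⁻¹ * k) ?_))
      rw [map_mul]
      show act h⁻¹ (act k v) = v
      rw [← show act h v = act k v from congrArg Subtype.val e]
      show (act h⁻¹ * act h) v = v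
      rw [← map_mul, inv_mul_cancel, map_one]
      rfl
    have hc : Nat.card {x : V // x ≠ 0} = Nat.card H := by
      haveI := Fintype.ofFinite V
      rw [Nat.card_eq_fintype_card, Fintype.card_subtype_compl, Fintype.card_subtype_eq,
        ← Nat.card_eq_fintype_card]
      omega
    obtain ⟨h, hh⟩ := ((Nat.bijective_iff_injective_and_card f).2 ⟨hinj, hc.symm⟩).2 ⟨w, hw⟩
    exact ⟨h, congrArg Subtype.val hh⟩
  obtain ⟨E, hE1, hEmul, hEact⟩ := SuzukiTypeA.field_model hcomm act hreg hn hV hv₀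
  let R := GaloisField 2 n
  let Eo : OnePoint R ≃ OnePoint V := Equiv.optionCongr E.toEquiv
  have hEi : Eo ∞ = ∞ := rfl
  have hEc : ∀ x : R, Eo x = ((E x : V) : OnePoint V) := fun x => rfl
  let ρ' : G →* Equiv.Perm (OnePoint R) := (Equiv.permCongrHom Eo.symm).toMonoidHom.comp ρ
  have hρ' : ∀ g x, ρ' g x = Eo.symm (ρ g (Eo x)) := fun g x => rfl
  have hto : ∀ g (x y : OnePoint R), ρ g (Eo x) = Eo y → ρ' g x = y := fun g x y e => by
    rw [hρ', e, Equiv.symm_apply_apply]
  have hs1' : ρ' s ∞ = ((0 : R) : OnePoint R) := hto _ _ _ (by rw [hEi, hEc, map_zero]; exact hs1)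
  have hs0' : ρ' s ((0 : R) : OnePoint R) = ∞ := hto _ _ _ (by rw [hEi, hEc, map_zero]; exact hs0)
  have hsv : ∀ x : R, x ≠ 0 → ρ' s x = ((x⁻¹ : R) : OnePoint R) := by
    intro x hx
    obtain ⟨h, hh⟩ := hEmul x hx
    have e1 : E x = act h v₀ := by rw [← hE1, ← hh, mul_one]
    have e2 : act h⁻¹ v₀ = E x⁻¹ := by
      have h3 := hh x⁻¹
      rw [mul_inv_cancel₀ hx, hE1] at h3
      conv_lhs => rw [h3]
      show (act h⁻¹ * act h) (E x⁻¹) = _
      rw [← map_mul, inv_mul_cancel, map_one]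
      rfl
    refine hto _ _ _ ?_
    rw [hEc, hEc, e1, ← e2, ← hA.lin h v₀, ← hA.lin h⁻¹ v₀, ← Equiv.Perm.mul_apply, ← map_mul,
      show s * (h : G) = ((h⁻¹ : H) : G) * s by rw [Subgroup.coe_inv, ← hinv h]; group,
      map_mul, Equiv.Perm.mul_apply, hfix]
  have hiso := ZassenhausPGL.nonempty_pgl (R := R) ρ'
    (fun g g' e => hA.inj ((Equiv.permCongrHom Eo.symm).injective e)) ?_ s hs1' hs0' hsv ?_ ?_
  · obtain ⟨iso⟩ := hiso
    haveI : Fintype R := Fintype.ofFinite _
    have heven : Even (Nat.card R) := by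
      rw [GaloisField.card 2 n hn]
      exact Nat.even_pow.2 ⟨even_two, hn⟩
    obtain ⟨iso'⟩ := PSLSpectrum99.pgl_equiv_psl (F := R) heven
    exact ⟨R, inferInstance, inferInstance, ⟨iso.trans iso'⟩⟩
  · intro g hg
    have hg' : ρ g ∞ = ∞ := by
      have := congrArg Eo hg
      rwa [hρ', Equiv.apply_symm_apply, hEi] at this
    obtain ⟨h, v, hv⟩ := hA.stab g hg'
    obtain ⟨c, hc, hc'⟩ := hEact h
    obtain ⟨r, rfl⟩ := E.surjective v
    refine ⟨c, hc, r, fun x => hto _ _ _ ?_⟩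
    rw [hEc, hEc, hv, map_add, hc']
  · intro a b c hab hac hbc
    obtain ⟨g, h1, h2⟩ := hA.two ∞ ((0 : V) : OnePoint V) (Eo a) (Eo b) (OnePoint.infty_ne_coe _)
      (Eo.injective.ne hab)
    obtain ⟨y, hy⟩ := (ρ g).surjective (Eo c)
    cases y with
    | infty => exact absurd (Eo.injective (h1.symm.trans hy)) hac
    | coe w =>
      have hw : w ≠ 0 := fun e => hbc (Eo.injective (h2.symm.trans (e ▸ hy)))
      obtain ⟨r, rfl⟩ := E.surjective w
      have hr : r ≠ 0 := fun e => hw (by rw [e, map_zero])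
      obtain ⟨h, hh⟩ := hEmul r hr
      refine ⟨g * h, hto _ _ _ ?_, hto _ _ _ ?_, hto _ _ _ ?_⟩
      · rw [hEi, map_mul, Equiv.Perm.mul_apply, hA.lin_infty, h1]
      · rw [hEc, map_zero, map_mul, Equiv.Perm.mul_apply, hA.lin, map_zero, h2]
      · rw [hEc, map_mul, Equiv.Perm.mul_apply, hA.lin, ← hh, mul_one, hy]
  · intro v
    obtain ⟨g, h1, h2⟩ := hA.tr (E v)
    exact ⟨g, hto _ _ _ (by rw [hEi]; exact h1), fun x => hto _ _ _ (by rw [hEc, hEc, h2, map_add])⟩

end

/-- The case of a small two-point index. -/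
theorem psl2_of_large {G : Type u} [Group G] [Finite G] {Ω : Type v} [MulAction G Ω] [Finite Ω]
    (hZ : Cfsg.IsZassenhausGroup G Ω) [IsSimpleGroup G] {a b : Ω} (hab : a ≠ b)
    (hodd : Odd (Nat.card (two G a b))) {K : Subgroup G} (hKa : K ≤ stabilizer G a)
    (hKcard : Nat.card K + 1 = Nat.card Ω)
    (hKfix : ∀ u ∈ K, u ≠ 1 → ∀ c : Ω, u • c = c → c = a)
    (hlarge : Nat.card K - 1 ≤ 2 * Nat.card (two G a b)) :
    ∃ (F : Type) (_ : Field F) (_ : Fintype F),
      Nonempty (G ≃* Matrix.ProjectiveSpecialLinearGroup (Fin 2) F) := by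
  classical
  haveI := Fintype.ofFinite Ω
  have hconj : ∀ g ∈ stabilizer G a, ∀ k ∈ K, g * k * g⁻¹ ∈ K := fun g hg k hk =>
    Feit.kernel_conj_mem hZ hKa hKcard hKfix hg hk
  have hKn : (K.subgroupOf (stabilizer G a)).Normal := ⟨fun k hk g => hconj _ g.2 _ hk⟩
  have htr : ∀ y z : Ω, y ≠ a → z ≠ a → ∃ k ∈ K, k • y = z := fun y z hy hz =>
    Feit.kernel_transitive hZ hKa hKcard hKfix hy hz
  have hfree : ∀ k ∈ K, ∀ y, y ≠ a → k • y = y → k = 1 := fun k hk y hy h =>
    Feit.kernel_free hKa hKfix hk hy h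
  have hreg : ∀ y z : Ω, y ≠ a → z ≠ a → ∃! u : K, (u : G) • y = z := by
    intro y z hy hz
    obtain ⟨k, hk, e⟩ := htr y z hy hz
    refine ⟨⟨k, hk⟩, e, fun u hu => Subtype.ext (inv_mul_eq_one.1 (hfree _
      (K.mul_mem (K.inv_mem hk) u.2) y hy ?_)).symm⟩
    rw [mul_smul, show (u : G) • y = z from hu, ← e, inv_smul_smul]
  have hΩ : Fintype.card Ω = Nat.card Ω := Nat.card_eq_fintype_card.symm
  have hd : Fintype.card Ω - 2 ≤ 2 * Nat.card (two G a b) := by omega
  obtain ⟨hcomm, p, f, hp, -, hpf⟩ := Cfsg.Agent.S0738.result hZ hab hd K hKa hKn hreg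
  obtain ⟨V, hVg, ρ, act, e, hA, he, hea, heb, -⟩ := exists_affine (pre_of_isZassenhaus hZ) hab hKa
    hconj htr hfree fun x hx y hy => congrArg Subtype.val (hcomm.is_comm.comm (⟨x, hx⟩ : K) ⟨y, hy⟩)
  haveI : Finite (OnePoint V) := Finite.of_equiv Ω e.symm
  haveI : Finite V := Finite.of_injective (fun v : V => (v : OnePoint V)) OnePoint.coe_injective
  have hΩV : Nat.card Ω = Nat.card V + 1 := by
    rw [← Nat.card_congr e]
    exact Finite.card_option
  have h3 := Feit.three_le_card hZ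
  haveI : Nontrivial V := Finite.one_lt_card_iff_nontrivial.1 (by omega)
  obtain ⟨hcyc, -, hinv⟩ := Feit.simple_cyclic_inverted hZ hab hodd
  have hHcomm : ∀ h k : two G a b, h * k = k * h := fun h k => by
    obtain ⟨g, hg⟩ := hcyc.exists_generator
    obtain ⟨i, rfl⟩ := Subgroup.mem_zpowers_iff.1 (hg h)
    obtain ⟨j, rfl⟩ := Subgroup.mem_zpowers_iff.1 (hg k)
    rw [← zpow_add, ← zpow_add, add_comm]
  obtain ⟨s, hs, hs1, hsa, hsb⟩ := exists_involution_swap hZ hab
  have hρinf : ∀ g, g • a = b → ρ g ∞ = ((0 : V) : OnePoint V) := fun g hg => e.injective (by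
    rw [he, hea, heb, hg])
  have hρzero : ∀ g, g • b = a → ρ g ((0 : V) : OnePoint V) = ∞ := fun g hg => e.injective (by
    rw [he, hea, heb, hg])
  have hsmul_a : ∀ g, ρ g ∞ = ((0 : V) : OnePoint V) → g • a = b := fun g hg => by
    rw [← hea, ← he, hg, heb]
  have hsmul_b : ∀ g, ρ g ((0 : V) : OnePoint V) = ∞ → g • b = a := fun g hg => by
    rw [← heb, ← he, hg, hea]
  obtain ⟨c, hc⟩ := hA.card_dvd
  have hH : 0 < Nat.card (two G a b) := Nat.card_pos
  rcases c with _ | _ | _ | c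
  · omega
  · -- sharply triply transitive
    have hVp : Nat.card V = p ^ f := by omega
    have hVeven : Even (Nat.card V) := by
      obtain ⟨i, hi⟩ := hodd
      exact ⟨i + 1, by omega⟩
    have hf : f ≠ 0 := by
      rintro rfl
      rw [pow_zero] at hVp
      omega
    obtain rfl : p = 2 := ((Nat.prime_dvd_prime_iff_eq Nat.prime_two hp).1
      (Nat.prime_two.dvd_of_dvd_pow (hVp ▸ even_iff_two_dvd.1 hVeven))).symm
    obtain ⟨x, hx⟩ := exists_fixed (Ω := Ω) hs hs1 (hΩV ▸ hVeven.add_one)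
    obtain ⟨y, rfl⟩ := e.surjective x
    cases y with
    | infty => rw [hea, hsa] at hx; exact absurd hx.symm hab
    | coe v =>
      have hv : v ≠ 0 := fun h => by
        rw [h, heb, hsb] at hx
        exact hab hx
      exact two_power_psl2 hA hf hVp (by omega) hHcomm (hρinf s hsa) (hρzero s hsb)
        (fun h => hinv s hsa hsb h h.2) hv (e.injective (by rw [he, hx]))
  · -- half of it
    have hcardG : Nat.card G = Nat.card (two G a b) * ((Nat.card V + 1) * Nat.card V) := by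
      rw [Feit.card_group hZ hab, hΩV, Nat.add_sub_cancel]
      ring
    obtain ⟨F, hF, hFf, -, hiso⟩ := hA.odd_half_psl2 hodd (by omega) hcardG hHcomm
      ⟨s, hρinf s hsa, hρzero s hsb⟩ fun t ht1 ht0 => by
        have hta := hsmul_a t ht1
        have htb := hsmul_b t ht0
        have htt := Feit.simple_swap_sq hZ hab hodd a b hab t hta htb
        have ht : t ≠ 1 := fun h => hab (by rwa [h, one_smul] at hta)
        refine ⟨htt, fun v hv => ?_⟩
        have hv' : t • e v = e v := by rw [← he, hv]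
        obtain ⟨y, hy, hty⟩ := exists_fixed_ne (Ω := Ω) htt ht ⟨Nat.card (two G a b) + 1, by omega⟩ hv'
        have hmem : t ∈ two G (e v) y := ⟨hv', hty⟩
        have ho := Feit.odd_all hZ hab hodd _ _ (Ne.symm hy)
        exact ht (congrArg Subtype.val (orderOf_eq_one_iff.1 (Nat.eq_one_of_dvd_coprimes
          (Nat.coprime_two_left.2 ho)
          (orderOf_dvd_of_pow_eq_one (x := (⟨t, hmem⟩ : two G (e v) y))
            (Subtype.ext (by rw [SubmonoidClass.coe_pow, pow_two]; exact htt)))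
          (orderOf_dvd_natCard _))))
    exact ⟨F, hF, hFf, hiso⟩
  · exfalso
    have hV1 : 1 < Nat.card V := Finite.one_lt_card
    rw [show c + 1 + 1 + 1 = c + 3 from rfl, Nat.mul_add] at hc
    omega

end Cfsg.Agent.ZassenhausClassify27
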