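import Mathlib

/-!
Elementary arithmetic and set combinatorics for Zassenhaus groups with a non-abelian kernel.
-/

set_option autoImplicit false

namespace Cfsg.Agent.ZassenhausSuzuki62

open Finset

/-- An odd divisor `q + 1 + g` of `q² + 1` for an even power `q` of two forces `g² ≥ 4q`. -/
theorem four_mul_le_sq {s g : ℤ} (hs : 1 ≤ s) (hg : Even g) (hpos : 0 < s * s + 1 + g)
    (hodd : Odd (s * s + 1 + g)) (hd : s * s + 1 + g ∣ (s * s) ^ 2 + 1) :
    4 * (s * s) ≤ g * g := by
  set d := s * s + 1 + g with hdef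
  obtain ⟨k, hk⟩ : d ∣ (g + 1) ^ 2 + 1 := by
    have : (g + 1) ^ 2 + 1 = ((s * s) ^ 2 + 1) + d * (g + 1 - s * s) := by rw [hdef]; ring
    rw [this]
    exact dvd_add hd (dvd_mul_right _ _)
  have hk0 : 0 < k := by
    by_contra hc
    have := mul_nonpos_of_nonneg_of_nonpos hpos.le (not_lt.1 hc)
    nlinarith
  obtain ⟨i, hi⟩ := hg
  have hkev : Even k := by
    have h1 : Even ((g + 1) ^ 2 + 1) := ⟨2 * i ^ 2 + 2 * i + 1, by rw [hi]; ring⟩
    rw [hk, Int.even_mul] at h1
    exact h1.resolve_left (Int.not_even_iff_odd.2 hodd)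
  obtain ⟨l, hl⟩ := hkev
  by_contra hlt
  push Not at hlt
  have hi2 : i * i < s * s := by
    have : g * g = 4 * (i * i) := by rw [hi]; ring
    linarith
  have habs : |i| ≤ s - 1 := by
    by_contra hc
    have h3 : s * s ≤ |i| * |i| := mul_le_mul (by omega) (by omega) (by omega) (abs_nonneg _)
    rw [abs_mul_abs_self] at h3
    omega
  obtain ⟨hi1, hi1'⟩ := abs_le.1 habs
  rcases eq_or_lt_of_le (show 1 ≤ l by omega) with rfl | hl2
  · have e : i * i * 2 = s * s := by
      have : (g + 1) ^ 2 + 1 = (s * s + 1 + g) * 2 := by rw [hk, hl]; ring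
      rw [hi] at this
      linarith
    -- `2 i² = s²` has no positive solution
    have hsn : Irrational (Real.sqrt 2) := irrational_sqrt_two
    have hi0 : i ≠ 0 := by
      intro h
      rw [h] at e
      nlinarith
    refine hsn ⟨(|(s : ℚ)| / |(i : ℚ)|), ?_⟩
    symm
    rw [Real.sqrt_eq_iff_eq_sq (by norm_num) (by positivity)]
    have hi0' : (i : ℝ) ≠ 0 := Int.cast_ne_zero.2 hi0
    push_cast
    rw [div_pow, sq_abs, sq_abs, eq_div_iff (pow_ne_zero 2 hi0')]
    have e' : ((i : ℝ) * i * 2) = (s : ℝ) * s := by exact_mod_cast e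
    linarith [e', sq (i : ℝ), sq (s : ℝ)]
  · have h4 : (s * s + 1 + g) * 4 ≤ (g + 1) ^ 2 + 1 := by
      rw [hk, hl]
      exact mul_le_mul_of_nonneg_left (by omega) hpos.le
    rw [hi] at h4
    nlinarith

/-- Sets of size `k + 1` meeting pairwise in `k` points, more than `k + 2` of them, have a common core. -/
theorem exists_core {C : Type*} [DecidableEq C] {F : Finset (Finset C)} {k : ℕ}
    (hsize : ∀ s ∈ F, s.card = k + 1)
    (hinter : ∀ s ∈ F, ∀ t ∈ F, s ≠ t → (s ∩ t).card = k) (hF : k + 2 < F.card) :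
    ∃ K : Finset C, K.card = k ∧ ∀ s ∈ F, K ⊆ s := by
  obtain ⟨s₀, hs₀, s₁, hs₁, hne⟩ := one_lt_card.1 (show 1 < F.card by omega)
  refine ⟨s₀ ∩ s₁, hinter _ hs₀ _ hs₁ hne, ?_⟩
  by_contra hcon
  push Not at hcon
  obtain ⟨l, hl, hKl⟩ := hcon
  set U := s₀ ∪ s₁
  have hU : U.card = k + 2 := by
    have := card_union_add_card_inter s₀ s₁
    rw [hinter _ hs₀ _ hs₁ hne, hsize _ hs₀, hsize _ hs₁] at this
    show (s₀ ∪ s₁).card = _
    omega
  obtain ⟨y, hy, hyl⟩ := not_subset.1 hKl
  have hl0 : l ≠ s₀ := fun h => hKl (h ▸ inter_subset_left)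
  have hl1 : l ≠ s₁ := fun h => hKl (h ▸ inter_subset_right)
  have herase : ∀ s ∈ F, y ∈ s → l ≠ s → s.erase y ⊆ l := by
    intro s hs hys hls
    have e : l ∩ s = s.erase y := eq_of_subset_of_card_le
      (fun z hz => mem_erase.2 ⟨fun h => hyl (h ▸ (mem_inter.1 hz).1), (mem_inter.1 hz).2⟩)
      (by rw [hinter _ hl _ hs hls, card_erase_of_mem hys, hsize _ hs]; omega)
    exact fun z hz => (mem_inter.1 (e ▸ hz)).1
  have hlU : l = U.erase y := by
    refine (eq_of_subset_of_card_le ?_ ?_).symm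
    · intro z hz
      obtain ⟨hzy, hz⟩ := mem_erase.1 hz
      rcases mem_union.1 hz with h | h
      · exact herase _ hs₀ (mem_inter.1 hy).1 hl0 (mem_erase.2 ⟨hzy, h⟩)
      · exact herase _ hs₁ (mem_inter.1 hy).2 hl1 (mem_erase.2 ⟨hzy, h⟩)
    · rw [hsize _ hl, card_erase_of_mem (mem_union_left _ (mem_inter.1 hy).1), hU]
      omega
  have hall : ∀ s ∈ F, s ⊆ U := by
    intro s hs
    by_contra hsU
    obtain ⟨x, hx, hxU⟩ := not_subset.1 hsU
    have hls : l ≠ s := fun h => hxU (mem_of_mem_erase (hlU ▸ h ▸ hx))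
    by_cases hys : y ∈ s
    · -- `s` then meets `U` outside too often or too rarely
      have h1 : s.erase y ⊆ l := herase s hs hys hls
      exact hxU (mem_of_mem_erase (hlU ▸ h1 (mem_erase.2
        ⟨fun (h : x = y) => hxU (h ▸ mem_union_left _ (mem_inter.1 hy).1), hx⟩)))
    · have key : ∀ t ∈ F, y ∈ t → (t ⊆ U) → s ≠ t → s.erase x = t.erase y := by
        intro t ht hyt htU hst
        have e1 : s ∩ t = s.erase x := eq_of_subset_of_card_le
          (fun z hz => mem_erase.2 ⟨fun h => hxU (h ▸ htU (mem_inter.1 hz).2), (mem_inter.1 hz).1⟩)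
          (by rw [hinter _ hs _ ht hst, card_erase_of_mem hx, hsize _ hs]; omega)
        have e2 : s ∩ t = t.erase y := eq_of_subset_of_card_le
          (fun z hz => mem_erase.2 ⟨fun h => hys (h ▸ (mem_inter.1 hz).1), (mem_inter.1 hz).2⟩)
          (by rw [hinter _ hs _ ht hst, card_erase_of_mem hyt, hsize _ ht]; omega)
        rw [← e1, e2]
      have h0 := key s₀ hs₀ (mem_inter.1 hy).1 subset_union_left
        (fun h => hxU (mem_union_left _ (h ▸ hx)))
      have h1 := key s₁ hs₁ (mem_inter.1 hy).2 subset_union_right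
        (fun h => hxU (mem_union_right _ (h ▸ hx)))
      refine hne ?_
      rw [← insert_erase (mem_inter.1 hy).1, ← insert_erase (mem_inter.1 hy).2, ← h0, ← h1]
  have hsub : F ⊆ U.powersetCard (k + 1) :=
    fun s hs => mem_powersetCard.2 ⟨hall s hs, hsize s hs⟩
  have := card_le_card hsub
  rw [card_powersetCard, hU, show (k + 2).choose (k + 1) = k + 2 from Nat.choose_succ_self_right _]
    at this
  omega

/-- The arithmetic excluding kernels of order `q³`. -/
theorem false_of_cube {ι : Type*} (K : Finset ι) (c : ι → ℤ) {q : ℤ} (hq : 4 ≤ q)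
    (hsum : ∑ i ∈ K, c i = -1) (hsq : ∑ i ∈ K, c i * c i ≤ q)
    (hdvd : ∀ i ∈ K, q * q + q + 1 + q * c i ∣ q ^ 3 + 1) : False := by
  have hc2 : ∀ i ∈ K, c i * c i ≤ q := fun i hi =>
    (single_le_sum (fun x _ => mul_self_nonneg (c x)) hi).trans hsq
  have hbound : ∀ i ∈ K, -q ≤ c i ∧ c i ≤ q := by
    intro i hi
    have := hc2 i hi
    constructor <;> nlinarith
  have hkey : ∀ i ∈ K, c i = -2 ∨
      0 < c i ∧ q * q + q + 1 + q * c i ≤ (c i + 2) * (q * c i + 1) := by
    intro i hi
    obtain ⟨hlo, hhi⟩ := hbound i hi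
    have hsq' := hc2 i hi
    set x := c i
    set d := q * q + q + 1 + q * x with hd
    have hdpos : 0 < d := by
      have : -(q * q) ≤ q * x := by nlinarith
      rw [hd]; linarith
    have hdiv : d ∣ (x + 2) * (q * x + 1) := by
      have h1 : d ∣ q * x * (q - 1) - 2 := by
        have e : q * x * (q - 1) - 2 = d * (q - 1) - (q ^ 3 + 1) := by rw [hd]; ring
        rw [e]
        exact dvd_sub (dvd_mul_right _ _) (hdvd i hi)
      have e : (x + 2) * (q * x + 1) = d * x - (q * x * (q - 1) - 2) := by rw [hd]; ring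
      rw [e]
      exact dvd_sub (dvd_mul_right _ _) h1
    rcases lt_trichotomy x 0 with hneg | hzero | hxpos
    · left
      rcases eq_or_ne x (-2) with h | h
      · exact h
      exfalso
      rcases eq_or_ne x (-1) with h1 | h1
      · rw [h1] at hd hdiv
        have h2 : d ∣ q - 1 := by
          rw [show ((-1 : ℤ) + 2) * (q * (-1) + 1) = -(q - 1) by ring] at hdiv
          exact dvd_neg.1 hdiv
        have := Int.le_of_dvd (by linarith) h2
        rw [hd] at this
        nlinarith
      · have hx3 : x ≤ -3 := by omega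
        have := Int.le_of_dvd (mul_pos_of_neg_of_neg (by linarith) (by nlinarith)) hdiv
        rw [hd] at this
        nlinarith
    · exfalso
      rw [hzero] at hd hdiv
      have := Int.le_of_dvd (by norm_num) hdiv
      rw [hd] at this
      nlinarith
    · exact Or.inr ⟨hxpos, Int.le_of_dvd (by positivity) hdiv⟩
  have hterm : ∀ i ∈ K, 0 ≤ c i * c i + 2 * c i := by
    intro i hi
    rcases hkey i hi with h | ⟨h, -⟩
    · rw [h]; norm_num
    · positivity
  have hall : ∀ i ∈ K, c i = -2 := by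
    intro i hi
    refine (hkey i hi).resolve_right fun ⟨hpos, hle⟩ => ?_
    have h1 : c i * c i + 2 * c i ≤ q - 2 := by
      refine (single_le_sum hterm hi).trans ?_
      rw [sum_add_distrib, ← mul_sum, hsum]
      linarith
    have h2 := (hbound i hi).2
    nlinarith
  rw [sum_congr rfl hall, sum_const, nsmul_eq_mul] at hsum
  omega

end Cfsg.Agent.ZassenhausSuzuki62
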