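import Mathlib
import Cfsg.Agent.Lib.FeitOdd
import Cfsg.Agent.Lib.FeitKernel

/-!
Zassenhaus groups with a kernel of 2-power order: multiplicities of linear characters of the
kernel and of the part of a restriction of higher degree.
-/

set_option autoImplicit false

namespace Cfsg.Agent.ZassenhausSuzuki62

open MulAction Zassenhaus Feit Finset Cfsg
open scoped ComplexConjugate
open CharBasic CharBasicOrth CharBasicDecomp

universe u v

variable {G : Type u} {Ω : Type v} [Group G] [MulAction G Ω]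
variable [Fintype G] [Fintype Ω] {a b : Ω} {H : Subgroup G} [Fintype H] {h e j : ℕ}

/-- The non-linear part of the degree of a character. -/
noncomputable def big [Fintype (PP H)] (χ : CC (G := G) H) : ℕ :=
  ∑ φ ∈ Finset.univ.filter (fun φ : PP H => dg φ.1 ≠ 1), mult H χ.1 φ.1 * dg φ.1

variable (S : Sim a b H h e j)
include S

theorem sum_sqrt (heven : Even h) :
    ∑ u : H, Nat.card {x : G // x * x = (u : G)} = h + e * h := by
  classical
  set I := Finset.univ.filter fun g : G => g * g = 1 ∧ g ≠ 1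
  set Hf := Finset.univ.filter fun g : G => g ∈ H
  set A := Finset.univ.filter fun g : G => g * g ∈ H
  have hn : Odd (Fintype.card Ω) := by
    rw [← Nat.card_eq_fintype_card, S.hΩ]; exact heven.add_one
  have hI : I.card = e * (h + 1) := by
    have := card_invol S.hZ S.hodd_all S.swap_sq S.hab
      (by rw [← Nat.card_eq_fintype_card, S.hΩ]) S.he
    rwa [if_pos heven] at this
  have hHI : (Hf ∩ I).card = e := by
    rw [← S.he, ← card_invol_fix S.hZ S.hodd_all S.swap_sq S.hab hn a]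
    congr 1
    ext g
    simp only [Hf, I, mem_inter, mem_filter, mem_univ, true_and]
    refine ⟨fun hg => ⟨hg.2, S.hHa hg.1⟩, fun hg => ⟨?_, hg.1⟩⟩
    exact (invol_central S.hZ S.hHa S.hHcard S.hfix S.hab S.hodd_all S.swap_sq
      (by rwa [Nat.card_eq_fintype_card]) hg.1.1 hg.2).1
  have hA : A = Hf ∪ I := by
    ext x
    simp only [A, Hf, I, mem_union, mem_filter, mem_univ, true_and]
    refine ⟨fun hx => ?_, ?_⟩
    · by_cases hxH : x ∈ H
      · exact Or.inl hxH
      · refine Or.inr ⟨?_, fun e' => hxH (e' ▸ H.one_mem)⟩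
        by_contra h1
        exact hxH (S.mem_of_comm hx h1 (mul_assoc x x x).symm)
    · rintro (hx | ⟨hx, -⟩)
      · exact H.mul_mem hx hx
      · rw [hx]; exact H.one_mem
  have hHf : Hf.card = h := by
    rw [← S.hH]
    exact (Nat.subtype_card _ fun y => by simp [Hf]).symm
  have hAc : A.card = h + e * h := by
    have := card_union_add_card_inter Hf I
    rw [hHI, hHf, hI, ← hA, Nat.mul_succ] at this
    omega
  rw [← hAc]
  have hfib : ∀ u : H, Nat.card {x : G // x * x = (u : G)} =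
      (A.filter fun x => x * x = (u : G)).card := by
    intro u
    rw [Nat.card_eq_fintype_card, Fintype.card_subtype]
    congr 1
    ext x
    simp only [A, mem_filter, mem_univ, true_and]
    exact ⟨fun hx => ⟨hx ▸ u.2, hx⟩, fun hx => hx.2⟩
  rw [Finset.sum_congr rfl fun u _ => hfib u,
    card_eq_sum_card_fiberwise (t := (Finset.univ : Finset H))
      (f := fun x : G => if hx : x * x ∈ H then (⟨x * x, hx⟩ : H) else 1)
      (fun x _ => mem_coe.2 (mem_univ _))]
  refine Finset.sum_congr rfl fun u _ => congrArg Finset.card (filter_congr fun x hx => ?_)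
  rw [dif_pos (mem_filter.1 hx).2, Subtype.ext_iff]

/-- Weighted indicator sums of a linear column. -/
theorem nu_col_two (heven : Even h) (hsq : ∀ u : H, u * u ∈ _root_.commutator H)
    (φ : Cfsg.IrrCharacter H) (hφ : dg φ = 1) :
    ∑ χ, (mult H χ φ : ℂ) * RealChars.nu (χ : G → ℂ) = (e : ℂ) + 1 := by
  classical
  rw [col_eq]
  have h1 : ∀ u : H, ∑ χ : Cfsg.IrrCharacter G, RealChars.nu (χ : G → ℂ) * conj ((χ : G → ℂ) u) =
      (Nat.card {x : G // x * x = (u : G)} : ℂ) := by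
    intro u
    have h2 := congrArg conj (RealChars.sqrtCount_eq (u : G))
    simp only [map_natCast, map_sum, map_mul, RealChars.conj_nu] at h2
    exact h2.symm
  obtain ⟨lam, hlam⟩ := CharBasicLinear.exists_hom_of_apply_one_eq_one (RealChars.isChar φ)
    ((dg_eq_one_iff φ).1 hφ)
  have h2 : ∀ u : H, (φ : H → ℂ) u * (Nat.card {x : G // x * x = (u : G)} : ℂ) =
      (Nat.card {x : G // x * x = (u : G)} : ℂ) := by
    intro u
    by_cases h0 : Nat.card {x : G // x * x = (u : G)} = 0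
    · rw [h0, Nat.cast_zero, mul_zero]
    obtain ⟨⟨x, hx⟩⟩ := (Nat.card_ne_zero.1 h0).1
    suffices hu : u ∈ lam.ker by
      rw [hlam]
      show (lam u : ℂ) * _ = _
      rw [MonoidHom.mem_ker.1 hu, Units.val_one, one_mul]
    by_cases hxH : x ∈ H
    · rw [show u = (⟨x, hxH⟩ : H) * ⟨x, hxH⟩ from Subtype.ext hx.symm]
      exact Abelianization.commutator_subset_ker lam (hsq _)
    · have hu1 : u = 1 := by
        by_contra hne
        exact hxH (S.mem_of_comm u.2 (fun e' => hne (Subtype.ext e')) (by rw [← hx, mul_assoc]))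
      rw [hu1]; exact one_mem _
  rw [Finset.sum_congr rfl fun u _ => by rw [h1 u, h2 u], ← Nat.cast_sum, sum_sqrt S heven, S.hH]
  have h0 : (h : ℂ) ≠ 0 := Nat.cast_ne_zero.2 (by have := S.two_le_h; omega)
  field_simp
  push_cast
  ring

/-- The columns of linear characters have entries `0` and `1`. -/
theorem col_binary [Fintype (CC (G := G) H)] (heven : Even h)
    (hsq : ∀ u : H, u * u ∈ _root_.commutator H) (φ : PP H) (hφ : dg φ.1 = 1) :
    (∀ χ : CC (G := G) H, mult H χ.1 φ.1 = 0 ∨ mult H χ.1 φ.1 = 1) ∧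
      ∑ χ : CC (G := G) H, mult H χ.1 φ.1 = j + 1 := by
  classical
  haveI := Fintype.ofFinite (PP H)
  obtain ⟨ε, T, hεne, htT, heT, hcard, -, -, hset, hvals, -⟩ := S.exists_sj
  have hf : Cfsg.charDegree (φ.1 : H → ℂ) = 1 := hφ
  have h1 := nu_col_two S heven hsq φ.1 hφ
  rw [S.sum_cc _ _ ε T ⟨hεne, htT, heT⟩ hset, (hvals φ.1 φ.2).1, (hvals φ.1 φ.2).2.1,
    Finset.sum_congr rfl (g := fun χ : Cfsg.IrrCharacter G => RealChars.nu (χ : G → ℂ))
      (fun χ hχ => by rw [(hvals φ.1 φ.2).2.2 χ hχ, hf, Nat.cast_one, one_mul]),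
    hf, Nat.cast_zero, zero_mul, zero_add, Nat.cast_one, one_mul] at h1
  have h2 := congrArg Complex.re h1
  simp only [Complex.add_re, Complex.re_sum, Complex.natCast_re, Complex.one_re] at h2
  have h3 : ∑ χ ∈ T, (RealChars.nu (χ : G → ℂ)).re ≤ j := by
    refine (Finset.sum_le_sum fun χ _ => nu_re_le χ).trans ?_
    simp [hcard]
  have h4 : ∑ χ : CC (G := G) H, ((mult H χ.1 φ.1 : ℂ) * RealChars.nu (χ.1 : G → ℂ)).re ≤
      ∑ χ : CC (G := G) H, ((mult H χ.1 φ.1 : ℕ) : ℝ) := by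
    refine Finset.sum_le_sum fun χ _ => ?_
    rw [Complex.mul_re, Complex.natCast_re, Complex.natCast_im, zero_mul, sub_zero]
    exact mul_le_of_le_one_right (Nat.cast_nonneg _) (nu_re_le χ.1)
  have hlow : j + 1 ≤ ∑ χ : CC (G := G) H, mult H χ.1 φ.1 := by
    have := nu_re_le ε
    have he : (e : ℝ) = 2 * j + 1 := by exact_mod_cast S.hj
    have h5 : ((j + 1 : ℕ) : ℝ) ≤ ((∑ χ : CC (G := G) H, mult H χ.1 φ.1 : ℕ) : ℝ) := by
      push_cast
      linarith
    exact_mod_cast h5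
  have hsq2 : ∑ χ : CC (G := G) H, mult H χ.1 φ.1 * mult H χ.1 φ.1 = j + 1 := by
    rw [S.gramData.gram φ φ, if_pos (S.rel_refl φ.1), hf]
    ring
  have hle : ∀ χ ∈ (Finset.univ : Finset (CC (G := G) H)),
      mult H χ.1 φ.1 ≤ mult H χ.1 φ.1 * mult H χ.1 φ.1 := fun χ _ => Nat.le_mul_self _
  have hs : ∑ χ : CC (G := G) H, mult H χ.1 φ.1 = j + 1 :=
    le_antisymm ((Finset.sum_le_sum hle).trans hsq2.le) hlow
  refine ⟨fun χ => ?_, hs⟩
  have := (Finset.sum_eq_sum_iff_of_le hle).1 (hs.trans hsq2.symm) χ (mem_univ χ)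
  rcases Nat.eq_zero_or_pos (mult H χ.1 φ.1) with h0 | h0
  · exact Or.inl h0
  · exact Or.inr (Nat.eq_of_mul_eq_mul_right h0 (by rw [one_mul]; exact this.symm))

theorem card_orbit_pp [Fintype (PP H)] (φ : PP H)
    [DecidablePred fun ψ : PP H => Rel a H φ.1 ψ.1] :
    (Finset.univ.filter fun ψ : PP H => Rel a H φ.1 ψ.1).card = e := by
  classical
  rw [← S.card_orbit φ.2, ← Finset.card_map (Function.Embedding.subtype _)]
  congr 1
  ext ψ
  simp only [mem_map, mem_filter, mem_univ, true_and, Function.Embedding.coe_subtype]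
  constructor
  · rintro ⟨p, hp, rfl⟩
    exact S.rel_symm hp
  · intro hr
    have hne : ψ ≠ trivIrr H := fun e' => φ.2 (by subst e'; exact S.rel_triv (S.rel_symm hr))
    exact ⟨⟨ψ, hne⟩, S.rel_symm hr, rfl⟩

theorem dvd_sum_stable (s : Finset (PP H))
    (hs : ∀ φ ∈ s, ∀ ψ : PP H, Rel a H ψ.1 φ.1 → ψ ∈ s) (F : PP H → ℕ)
    (hF : ∀ φ ψ : PP H, Rel a H φ.1 ψ.1 → F φ = F ψ) : e ∣ ∑ φ ∈ s, F φ := by
  classical
  rw [← Finset.sum_fiberwise_of_maps_to (g := F) (t := s.image F)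
    fun φ hφ => mem_image_of_mem _ hφ]
  refine Finset.dvd_sum fun v _ => ?_
  rw [Finset.sum_congr rfl fun φ hφ => (mem_filter.1 hφ).2, Finset.sum_const, smul_eq_mul]
  refine dvd_mul_of_dvd_left ?_ _
  rw [← Finset.card_map (Function.Embedding.subtype _)]
  refine S.dvd_card_stable _ (fun hm => ?_) fun φ hφ ψ hr => ?_
  · obtain ⟨p, -, hp⟩ := Finset.mem_map.1 hm
    exact p.2 hp
  · obtain ⟨p, hp, rfl⟩ := Finset.mem_map.1 hφ
    have hne : ψ ≠ trivIrr H := fun e' => p.2 (by subst e'; exact S.rel_triv (S.rel_symm hr))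
    have hr' : Rel a H (⟨ψ, hne⟩ : PP H).1 p.1 := hr
    exact Finset.mem_map.2 ⟨⟨ψ, hne⟩, mem_filter.2
      ⟨hs p (mem_filter.1 hp).1 _ hr', (hF _ p hr').trans (mem_filter.1 hp).2⟩, rfl⟩

theorem card_linear_pp [Fintype (PP H)] :
    (Finset.univ.filter fun φ : PP H => dg φ.1 = 1).card + 1 = (_root_.commutator H).index := by
  classical
  have h1 := Sim.sum_pp (fun φ => dg φ = 1) fun _ : Cfsg.IrrCharacter H => 1
  simp only [← Finset.card_eq_sum_ones] at h1
  rw [h1, show Finset.univ.filter (fun φ : Cfsg.IrrCharacter H => φ ≠ trivIrr H ∧ dg φ = 1) =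
    (Finset.univ.filter fun φ : Cfsg.IrrCharacter H => dg φ = 1).erase (trivIrr H) by
      ext φ; simp, Finset.card_erase_of_mem (by simp [dg_triv]), card_dg_one]
  have := S.index_commutator.2
  omega

theorem sum_big_sq [Fintype (PP H)] :
    ∑ φ ∈ Finset.univ.filter (fun φ : PP H => dg φ.1 ≠ 1), dg φ.1 * dg φ.1 +
      (_root_.commutator H).index = h := by
  classical
  have h1 := Finset.sum_filter_add_sum_filter_not (Finset.univ : Finset (PP H))
    (fun φ => dg φ.1 = 1) (fun φ => dg φ.1 * dg φ.1)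
  rw [Finset.sum_congr rfl (g := fun _ => 1) fun φ hφ => by rw [(mem_filter.1 hφ).2],
    ← Finset.card_eq_sum_ones] at h1
  have h2 := card_linear_pp S
  have h3 := S.sum_pp_sq
  simp only [ne_eq]
  omega

omit S in
theorem degree_split [Fintype (PP H)] (χ : CC (G := G) H) :
    Cfsg.charDegree (χ.1 : G → ℂ) =
      ∑ φ ∈ Finset.univ.filter (fun φ : PP H => dg φ.1 = 1), mult H χ.1 φ.1 + big χ := by
  classical
  rw [Sim.degree_cc χ, ← Finset.sum_filter_add_sum_filter_not (Finset.univ : Finset (PP H))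
    (fun φ => dg φ.1 = 1) (fun φ => mult H χ.1 φ.1 * dg φ.1)]
  exact congrArg₂ (· + ·)
    (Finset.sum_congr rfl fun φ hφ => by rw [(mem_filter.1 hφ).2, mul_one]) rfl

theorem mult_rel [Fintype (CC (G := G) H)] (χ : CC (G := G) H) {φ ψ : PP H}
    (hr : Rel a H φ.1 ψ.1) : mult H χ.1 φ.1 = mult H χ.1 ψ.1 := by
  classical
  haveI := Fintype.ofFinite (PP H)
  exact S.gramData.eq_of_rel hr χ

theorem dvd_big [Fintype (CC (G := G) H)] [Fintype (PP H)] (χ : CC (G := G) H) : e ∣ big χ := by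
  classical
  refine dvd_sum_stable S _ (fun φ hφ ψ hr => mem_filter.2 ⟨mem_univ _, ?_⟩)
    (fun φ => mult H χ.1 φ.1 * dg φ.1) fun φ ψ hr => congrArg₂ (· * ·) (mult_rel S χ hr) (S.rel_deg hr)
  show Cfsg.charDegree (ψ.1 : H → ℂ) ≠ 1
  rw [S.rel_deg hr]
  exact (mem_filter.1 hφ).2

theorem even_dg (hP : IsPGroup 2 H) {φ : Cfsg.IrrCharacter H} (hφ : dg φ ≠ 1) :
    Even (dg φ) := by
  haveI : Fact (Nat.Prime 2) := ⟨Nat.prime_two⟩
  obtain ⟨k, hk⟩ := hP.exists_card_eq
  obtain ⟨i, -, hi⟩ := (Nat.dvd_prime_pow Nat.prime_two).1 (hk ▸ CharAverage.charDegree_dvd_card φ)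
  have hi0 : i ≠ 0 := by
    rintro rfl
    exact hφ (by simpa using hi)
  show Even (Cfsg.charDegree (φ : H → ℂ))
  rw [hi, Nat.even_pow]
  exact ⟨even_two, hi0⟩

theorem even_big (hP : IsPGroup 2 H) [Fintype (PP H)] (χ : CC (G := G) H) : Even (big χ) := by
  refine Finset.even_sum _ fun φ hφ => Even.mul_left (even_dg S hP (mem_filter.1 hφ).2) _

/-- Pairing of a linear column with the non-linear part. -/
theorem sum_linear_big [Fintype (CC (G := G) H)] [Fintype (PP H)] (φ : PP H) (hφ : dg φ.1 = 1) :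
    ∑ χ : CC (G := G) H, mult H χ.1 φ.1 * big χ =
      j * ∑ ψ ∈ Finset.univ.filter (fun ψ : PP H => dg ψ.1 ≠ 1), dg ψ.1 * dg ψ.1 := by
  classical
  simp only [big, Finset.mul_sum]
  rw [Finset.sum_comm]
  refine Finset.sum_congr rfl fun ψ hψ => ?_
  simp only [← mul_assoc]
  rw [← Finset.sum_mul, S.gramData.gram φ ψ, if_neg fun hr => (mem_filter.1 hψ).2
    ((S.rel_deg hr).symm.trans hφ)]
  rw [show Cfsg.charDegree (φ.1 : H → ℂ) = 1 from hφ, zero_add, one_mul, mul_assoc]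

/-- The norm of the non-linear part. -/
theorem sum_big_mul_big [Fintype (CC (G := G) H)] [Fintype (PP H)] :
    ∑ χ : CC (G := G) H, big χ * big χ =
      e * (∑ ψ ∈ Finset.univ.filter (fun ψ : PP H => dg ψ.1 ≠ 1), dg ψ.1 * dg ψ.1) +
        j * (∑ ψ ∈ Finset.univ.filter (fun ψ : PP H => dg ψ.1 ≠ 1), dg ψ.1 * dg ψ.1) *
          (∑ ψ ∈ Finset.univ.filter (fun ψ : PP H => dg ψ.1 ≠ 1), dg ψ.1 * dg ψ.1) := by
  classical
  set N := Finset.univ.filter fun ψ : PP H => dg ψ.1 ≠ 1 with hN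
  set T := ∑ ψ ∈ N, dg ψ.1 * dg ψ.1 with hT
  have key : ∑ χ : CC (G := G) H, big χ * big χ = ∑ φ ∈ N, ∑ ψ ∈ N, ∑ χ : CC (G := G) H,
      mult H χ.1 φ.1 * dg φ.1 * (mult H χ.1 ψ.1 * dg ψ.1) := by
    rw [Finset.sum_congr rfl (g := fun χ : CC (G := G) H => ∑ φ ∈ N, ∑ ψ ∈ N,
      mult H χ.1 φ.1 * dg φ.1 * (mult H χ.1 ψ.1 * dg ψ.1))
      (fun χ _ => by simp only [big, Finset.sum_mul_sum, hN]), Finset.sum_comm]
    exact Finset.sum_congr rfl fun φ _ => Finset.sum_comm
  rw [key, show e * T + j * T * T = ∑ φ ∈ N, (e * (dg φ.1 * dg φ.1) + j * (dg φ.1 * dg φ.1) * T) by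
    rw [Finset.sum_add_distrib, ← Finset.mul_sum, ← Finset.sum_mul, ← Finset.mul_sum]]
  refine Finset.sum_congr rfl fun φ hφ => ?_
  have hin : ∀ ψ : PP H, ∑ χ : CC (G := G) H,
      mult H χ.1 φ.1 * dg φ.1 * (mult H χ.1 ψ.1 * dg ψ.1) =
      (if Rel a H φ.1 ψ.1 then dg φ.1 * dg φ.1 else 0) +
        j * (dg φ.1 * dg φ.1) * (dg ψ.1 * dg ψ.1) := by
    intro ψ
    rw [Finset.sum_congr rfl fun χ _ => mul_mul_mul_comm _ _ _ _, ← Finset.sum_mul,
      S.gramData.gram φ ψ]
    split_ifs with hr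
    · have hd : dg ψ.1 = dg φ.1 := (S.rel_deg hr).symm
      show (1 + j * (dg φ.1 * dg ψ.1)) * (dg φ.1 * dg ψ.1) = _
      rw [hd]; ring
    · show (0 + j * (dg φ.1 * dg ψ.1)) * (dg φ.1 * dg ψ.1) = _
      ring
  rw [Finset.sum_congr rfl fun ψ _ => hin ψ, Finset.sum_add_distrib]
  have horb : (Finset.univ.filter fun ψ : PP H => dg ψ.1 ≠ 1).filter
      (fun ψ => Rel a H φ.1 ψ.1) = Finset.univ.filter fun ψ : PP H => Rel a H φ.1 ψ.1 := by
    ext ψ
    simp only [mem_filter, mem_univ, true_and, and_iff_right_iff_imp]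
    intro hr
    show Cfsg.charDegree (ψ.1 : H → ℂ) ≠ 1
    rw [← S.rel_deg hr]
    exact (mem_filter.1 hφ).2
  rw [← Finset.sum_filter, horb, Finset.sum_const, card_orbit_pp S, smul_eq_mul, ← Finset.mul_sum]

/-- Faithfulness: no constituent of the restriction kills the derived subgroup. -/
theorem big_ne_zero [IsSimpleGroup G] [Fintype (PP H)] (hne : _root_.commutator H ≠ ⊥)
    (χ : CC (G := G) H) : big χ ≠ 0 := by
  classical
  intro hb
  obtain ⟨⟨z, hz⟩, hz1⟩ := (Subgroup.ne_bot_iff_exists_ne_one).1 hne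
  have hz1' : z ≠ 1 := fun e' => hz1 (Subtype.ext e')
  have hdec := eq_sum_classInner (ψ := fun u : H => (χ.1 : G → ℂ) u)
    (isClassFunction_of_isCharacter (isCharacter_comap H.subtype (RealChars.isChar χ.1)))
  have hval : (χ.1 : G → ℂ) z = (χ.1 : G → ℂ) 1 := by
    have h1 := congrFun hdec z
    have h2 := congrFun hdec 1
    simp only [Finset.sum_apply, Pi.smul_apply, smul_eq_mul, mult_spec,
      OneMemClass.coe_one] at h1 h2
    rw [h1, h2]
    refine Finset.sum_congr rfl fun φ _ => ?_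
    rcases eq_or_ne φ (trivIrr H) with rfl | hφ
    · rw [χ.2]; simp
    by_cases hd : dg φ = 1
    · obtain ⟨lam, hlam⟩ := CharBasicLinear.exists_hom_of_apply_one_eq_one (RealChars.isChar φ)
        ((dg_eq_one_iff φ).1 hd)
      rw [hlam]
      simp only [map_one]
      rw [MonoidHom.mem_ker.1 (Abelianization.commutator_subset_ker lam hz)]
    · have h3 := (Finset.sum_eq_zero_iff.1 hb) ⟨φ, hφ⟩ (mem_filter.2 ⟨mem_univ _, hd⟩)
      rw [mul_eq_zero] at h3
      rw [h3.resolve_right (CharAverage.irr_degree_pos φ).ne']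
      simp
  set K := CharBasicLinear.charKer (χ.1 : G → ℂ) (CharAverage.irr_isCharacter χ.1)
  have hzK : (z : G) ∈ K := hval
  rcases (CharBasicLinear.charKer_normal (χ.1 : G → ℂ)
      (CharAverage.irr_isCharacter χ.1)).eq_bot_or_eq_top with hK | hK
  · exact hz1' (Subtype.ext (Subgroup.mem_bot.1 (hK ▸ hzK : (z : G) ∈ (⊥ : Subgroup G))))
  have hall : ∀ u : H, (χ.1 : G → ℂ) u = (χ.1 : G → ℂ) 1 := fun u =>
    (show (u : G) ∈ K by change K = ⊤ at hK; rw [hK]; exact Subgroup.mem_top _)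
  have h4 := mult_spec H χ.1 (trivIrr H)
  rw [χ.2, Nat.cast_zero, Cfsg.classInner, S.hH,
    Finset.sum_congr rfl (g := fun _ => (χ.1 : G → ℂ) 1) fun u _ => by
      rw [hall u]
      show _ * conj (1 : ℂ) = _
      rw [map_one, mul_one],
    Finset.sum_const, Finset.card_univ, ← Nat.card_eq_fintype_card, S.hH, nsmul_eq_mul,
    ← mul_assoc, inv_mul_cancel₀ (Nat.cast_ne_zero.2 (by have := S.two_le_h; omega)),
    one_mul] at h4
  exact CharAverage.irr_one_ne_zero χ.1 h4

/-- The odd part `d` of a degree `e * d`. -/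
theorem dvd_succ_h {k d : ℕ} (hk : h = 2 ^ k) (χ : Cfsg.IrrCharacter G)
    (hd : Cfsg.charDegree (χ : G → ℂ) = e * d) (hodd : Odd d) : d ∣ h + 1 := by
  have h1 := CharAverage.charDegree_dvd_card χ
  rw [hd, S.card_G, ← mul_assoc, mul_comm e d] at h1
  have h2 := Nat.dvd_of_mul_dvd_mul_right (by rw [S.hj]; omega) h1
  exact (Nat.Coprime.dvd_of_dvd_mul_right
    (by rw [hk]; exact (Nat.coprime_two_right.2 hodd).pow_right k) h2)

end Cfsg.Agent.ZassenhausSuzuki62
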