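import Mathlib
import Cfsg.Agent.Lib.ZassenhausSuzukiChars62
import Cfsg.Agent.Lib.ZassenhausSuzukiArith62

/-!
Zassenhaus groups with a non-abelian kernel of order `q²` or `q³`: the exponent is odd and the
order `q³` does not occur.
-/

set_option autoImplicit false

namespace Cfsg.Agent.ZassenhausSuzuki62

open MulAction Zassenhaus Feit Finset Cfsg
open CharBasic CharBasicOrth CharBasicDecomp

universe u v

variable {G : Type u} {Ω : Type v} [Group G] [MulAction G Ω] [IsSimpleGroup G]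
variable [Fintype G] [Fintype Ω] {a b : Ω} {H : Subgroup G} [Fintype H] {h e j : ℕ}
variable (S : Sim a b H h e j)
include S

omit [IsSimpleGroup G] in
/-- Kernels of order `q²` force an odd exponent. -/
theorem odd_of_square {n : ℕ} (hn : 2 ≤ n) (he : e + 1 = 2 ^ n) (hh : h = (2 ^ n) ^ 2)
    (hP : IsPGroup 2 H) (hsq : ∀ u : H, u * u ∈ _root_.commutator H)
    (hidx : (_root_.commutator H).index = 2 ^ n) : Odd n := by
  classical
  haveI := Fintype.ofFinite (PP H)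
  haveI := Fintype.ofFinite (CC (G := G) H)
  by_contra hodd
  obtain ⟨r, hr⟩ := Nat.not_odd_iff_even.1 hodd
  have hj := S.hj
  obtain ⟨q, hqdef⟩ : ∃ q, q = 2 ^ n := ⟨_, rfl⟩
  rw [← hqdef] at he hh hidx
  have hq4 : 4 ≤ q := by
    rw [hqdef, show (4 : ℕ) = 2 ^ 2 by norm_num]
    exact Nat.pow_le_pow_right (by norm_num) hn
  have heven : Even h := by
    rw [hh, hqdef, ← pow_mul, Nat.even_pow]
    exact ⟨even_two, by omega⟩
  set L := Finset.univ.filter (fun φ : PP H => dg φ.1 = 1) with hLdef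
  set N := Finset.univ.filter (fun φ : PP H => dg φ.1 ≠ 1) with hNdef
  have hL : L.card = e := by have := card_linear_pp S; rw [← hLdef] at this; omega
  obtain ⟨φ₀, hφ₀⟩ := Finset.card_pos.1 (show 0 < L.card by omega)
  have hd₀ : dg φ₀.1 = 1 := (mem_filter.1 hφ₀).2
  obtain ⟨hbin, hsum⟩ := col_binary S heven hsq φ₀ hd₀
  have horb : Finset.univ.filter (fun ψ : PP H => Rel a H φ₀.1 ψ.1) = L := by
    refine eq_of_subset_of_card_le (fun ψ hψ => ?_) (by rw [hL, card_orbit_pp S])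
    exact mem_filter.2 ⟨mem_univ _, (S.rel_deg (mem_filter.1 hψ).2).symm.trans hd₀⟩
  set T := ∑ ψ ∈ N, dg ψ.1 * dg ψ.1 with hTdef
  have hT : T = q * e := by
    have h1 := sum_big_sq S
    rw [← hNdef, ← hTdef, hidx, hh] at h1
    have h2 : q * e + q = q ^ 2 := by rw [← Nat.mul_succ, Nat.succ_eq_add_one, he, pow_two]
    omega
  choose β hβ using fun χ : CC (G := G) H => dvd_big S χ
  have he0 : 0 < e := by omega
  have hSq : ∑ χ : CC (G := G) H, β χ * β χ = q + j * (q * q) := by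
    have h1 := sum_big_mul_big S
    rw [← hNdef, ← hTdef, hT] at h1
    simp only [hβ] at h1
    refine Nat.eq_of_mul_eq_mul_left (Nat.mul_pos he0 he0) ?_
    rw [Finset.mul_sum]
    rw [Finset.sum_congr rfl fun χ _ => mul_mul_mul_comm e e (β χ) (β χ), h1]
    ring
  set K := Finset.univ.filter fun χ : CC (G := G) H => mult H χ.1 φ₀.1 = 1 with hKdef
  have hmK : ∀ F : CC (G := G) H → ℕ, ∑ χ, mult H χ.1 φ₀.1 * F χ = ∑ χ ∈ K, F χ := by
    intro F
    rw [hKdef, Finset.sum_filter]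
    refine Finset.sum_congr rfl fun χ _ => ?_
    rcases hbin χ with h0 | h0 <;> simp [h0]
  have hKcard : K.card = j + 1 := by
    rw [← hsum, Finset.card_eq_sum_ones, ← hmK (fun _ => 1)]
    exact Finset.sum_congr rfl fun χ _ => mul_one _
  have hKb : ∑ χ ∈ K, β χ = j * q := by
    have h1 := sum_linear_big S φ₀ hd₀
    rw [← hNdef, ← hTdef, hT, hmK] at h1
    simp only [hβ, ← Finset.mul_sum] at h1
    refine Nat.eq_of_mul_eq_mul_left he0 (h1.trans ?_)
    ring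
  have hterm : ∀ χ ∈ K, 4 * (q : ℤ) ≤ ((β χ : ℤ) - q) * ((β χ : ℤ) - q) := by
    intro χ hχ
    have hlin : ∑ φ ∈ L, mult H χ.1 φ.1 = e := by
      rw [Finset.sum_congr rfl (g := fun _ => 1) fun φ hφ => by
        rw [← mult_rel S χ (mem_filter.1 (horb ▸ hφ : φ ∈ Finset.univ.filter
          fun ψ : PP H => Rel a H φ₀.1 ψ.1)).2]
        exact (mem_filter.1 hχ).2, ← Finset.card_eq_sum_ones, hL]
    have hdeg : Cfsg.charDegree (χ.1 : G → ℂ) = e * (1 + β χ) := by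
      rw [degree_split χ, ← hLdef, hlin, hβ]; ring
    have hbeven : Even (β χ) := by
      have h1 := even_big S hP χ
      rw [hβ, Nat.even_mul] at h1
      exact h1.resolve_left (Nat.not_even_iff_odd.2 ⟨j, hj⟩)
    have hdvd : 1 + β χ ∣ h + 1 :=
      dvd_succ_h S (k := n * 2) (by rw [hh, hqdef, ← pow_mul]) χ.1 hdeg
        (by rw [add_comm]; exact hbeven.add_one)
    have hqs : (q : ℤ) = (2 : ℤ) ^ r * 2 ^ r := by
      rw [← pow_add, ← hr, hqdef]
      push_cast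
      rfl
    have hd : (2 : ℤ) ^ r * 2 ^ r + 1 + ((β χ : ℤ) - q) = ((1 + β χ : ℕ) : ℤ) := by
      rw [← hqs]; push_cast; ring
    rw [hqs] at hd ⊢
    refine four_mul_le_sq (one_le_pow₀ (by norm_num)) ?_ ?_ ?_ ?_
    · rw [← hqs, Int.even_sub]
      refine iff_of_true (by exact_mod_cast hbeven) ?_
      rw [hqs]
      exact Int.even_mul.2 (Or.inl (Int.even_pow.2 ⟨even_two, by omega⟩))
    · rw [hd]; positivity
    · rw [hd]
      exact_mod_cast (show Odd (1 + β χ) by rw [add_comm]; exact hbeven.add_one)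
    · rw [hd, ← hqs]
      have : ((1 + β χ : ℕ) : ℤ) ∣ ((h + 1 : ℕ) : ℤ) := Int.natCast_dvd_natCast.2 hdvd
      rw [hh] at this
      exact_mod_cast this
  have hlow := Finset.sum_le_sum hterm
  rw [Finset.sum_const, hKcard, nsmul_eq_mul] at hlow
  have hsub : ∑ χ ∈ K, β χ * β χ ≤ ∑ χ : CC (G := G) H, β χ * β χ :=
    Finset.sum_le_sum_of_subset (Finset.subset_univ _)
  rw [hSq] at hsub
  have hexp : ∑ χ ∈ K, ((β χ : ℤ) - q) * ((β χ : ℤ) - q) =
      ((∑ χ ∈ K, β χ * β χ : ℕ) : ℤ) - 2 * q * ((∑ χ ∈ K, β χ : ℕ) : ℤ) + (j + 1) * (q * q) := by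
    have hc : ∀ χ ∈ K, ((β χ : ℤ) - q) * ((β χ : ℤ) - q) =
        ((β χ * β χ : ℕ) : ℤ) - 2 * q * (β χ : ℤ) + q * q := fun χ _ => by push_cast; ring
    rw [Finset.sum_congr rfl hc, Finset.sum_add_distrib, Finset.sum_sub_distrib, ← Finset.mul_sum,
      Finset.sum_const, hKcard, nsmul_eq_mul, ← Nat.cast_sum, ← Nat.cast_sum]
    push_cast
    ring
  rw [hexp, hKb] at hlow
  zify at hsub
  have hq' : (q : ℤ) = 2 * j + 2 := by exact_mod_cast (show q = 2 * j + 2 by omega)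
  have hq4' : (4 : ℤ) ≤ q := by exact_mod_cast hq4
  push_cast at hlow hsub
  nlinarith

/-- Kernels of order `q³` do not occur. -/
theorem false_of_cube_kernel {n : ℕ} (hn : 2 ≤ n) (he : e + 1 = 2 ^ n) (hh : h = (2 ^ n) ^ 3)
    (hP : IsPGroup 2 H) (hsq : ∀ u : H, u * u ∈ _root_.commutator H)
    (hne : _root_.commutator H ≠ ⊥)
    (hidx : (_root_.commutator H).index = (2 ^ n) ^ 2) : False := by
  classical
  haveI := Fintype.ofFinite (PP H)
  haveI := Fintype.ofFinite (CC (G := G) H)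
  have hj := S.hj
  obtain ⟨q, hqdef⟩ : ∃ q, q = 2 ^ n := ⟨_, rfl⟩
  rw [← hqdef] at he hh hidx
  have hq4 : 4 ≤ q := by
    rw [hqdef, show (4 : ℕ) = 2 ^ 2 by norm_num]
    exact Nat.pow_le_pow_right (by norm_num) hn
  have he0 : 0 < e := by omega
  have hq2 : q = 2 * j + 2 := by omega
  have heven : Even h := by
    rw [hh, hqdef, ← pow_mul, Nat.even_pow]
    exact ⟨even_two, by omega⟩
  set L := Finset.univ.filter (fun φ : PP H => dg φ.1 = 1) with hLdef
  set N := Finset.univ.filter (fun φ : PP H => dg φ.1 ≠ 1) with hNdef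
  have hL : L.card = e * (q + 1) := by
    have := card_linear_pp S
    rw [← hLdef, hidx] at this
    have h2 : e * (q + 1) + 1 = q ^ 2 := by rw [← he]; ring
    omega
  set T := ∑ ψ ∈ N, dg ψ.1 * dg ψ.1 with hTdef
  have hT : T = q * q * e := by
    have h1 := sum_big_sq S
    rw [← hNdef, ← hTdef, hidx, hh] at h1
    have h2 : q * q * e + q ^ 2 = q ^ 3 := by rw [← he]; ring
    omega
  have hLd : ∀ φ ∈ L, dg φ.1 = 1 := fun φ hφ => (mem_filter.1 hφ).2
  -- supports of the linear columns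
  let supp : PP H → Finset (CC (G := G) H) := fun φ =>
    Finset.univ.filter fun χ => mult H χ.1 φ.1 = 1
  have hm : ∀ φ ∈ L, ∀ χ, mult H χ.1 φ.1 = if χ ∈ supp φ then 1 else 0 := by
    intro φ hφ χ
    rcases (col_binary S heven hsq φ (hLd φ hφ)).1 χ with h0 | h0 <;> simp [supp, h0]
  have hsupp : ∀ φ ∈ L, ∀ F : CC (G := G) H → ℕ,
      ∑ χ, mult H χ.1 φ.1 * F χ = ∑ χ ∈ supp φ, F χ := by
    intro φ hφ F
    rw [← Finset.sum_filter_add_sum_filter_not Finset.univ (fun χ => χ ∈ supp φ),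
      Finset.sum_eq_zero (s := Finset.univ.filter fun χ => ¬ χ ∈ supp φ)
        (fun χ hχ => by rw [hm φ hφ χ, if_neg (mem_filter.1 hχ).2, zero_mul]), add_zero,
      Finset.filter_univ_mem]
    exact Finset.sum_congr rfl fun χ hχ => by rw [hm φ hφ χ, if_pos hχ, one_mul]
  set F := L.image supp with hFdef
  have hsize : ∀ s ∈ F, s.card = j + 1 := by
    intro s hs
    obtain ⟨φ, hφ, rfl⟩ := mem_image.1 hs
    rw [← (col_binary S heven hsq φ (hLd φ hφ)).2, Finset.card_eq_sum_ones, ← hsupp φ hφ]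
    exact Finset.sum_congr rfl fun χ _ => mul_one _
  have hinter : ∀ s ∈ F, ∀ t ∈ F, s ≠ t → (s ∩ t).card = j := by
    intro s hs t ht hst
    obtain ⟨φ, hφ, rfl⟩ := mem_image.1 hs
    obtain ⟨ψ, hψ, rfl⟩ := mem_image.1 ht
    have hnr : ¬ Rel a H φ.1 ψ.1 := fun hr => hst (Finset.ext fun χ => by
      simp only [supp, mem_filter, mem_univ, true_and, mult_rel S χ hr])
    have h1 := S.gramData.gram φ ψ
    rw [if_neg hnr, show Cfsg.charDegree (φ.1 : H → ℂ) = 1 from hLd φ hφ,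
      show Cfsg.charDegree (ψ.1 : H → ℂ) = 1 from hLd ψ hψ, zero_add, mul_one, mul_one,
      hsupp φ hφ, Finset.sum_congr rfl fun χ _ => hm ψ hψ χ, Finset.sum_boole,
      Finset.filter_mem_eq_inter] at h1
    exact_mod_cast h1
  have hF : q + 1 ≤ F.card := by
    refine Nat.le_of_mul_le_mul_left ?_ he0
    rw [← hL]
    refine Finset.card_le_mul_card_image L e fun s hs => ?_
    obtain ⟨φ, hφ, rfl⟩ := mem_image.1 hs
    rw [← card_orbit_pp S φ]
    refine Finset.card_le_card fun ψ hψ => ?_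
    obtain ⟨hψ, he'⟩ := mem_filter.1 hψ
    exact mem_filter.2 ⟨mem_univ _, S.gramData.rel_of_eq fun χ => by rw [hm φ hφ, hm ψ hψ, he']⟩
  obtain ⟨K, hKcard, hK⟩ := exists_core hsize hinter (by omega)
  have hx : ∀ s ∈ F, ∃ x, x ∉ K ∧ s = insert x K := by
    intro s hs
    obtain ⟨x, hx⟩ := Finset.card_eq_one.1 (show (s \ K).card = 1 by
      rw [Finset.card_sdiff_of_subset (hK s hs), hsize s hs, hKcard]; omega)
    refine ⟨x, (Finset.mem_sdiff.1 (hx ▸ Finset.mem_singleton_self x : x ∈ s \ K)).2, ?_⟩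
    rw [Finset.insert_eq, ← hx, Finset.sdiff_union_of_subset (hK s hs)]
  choose x hxK hxs using hx
  set X := F.attach.image fun s => x s.1 s.2 with hXdef
  have hXcard : X.card = F.card := by
    rw [hXdef, Finset.card_image_of_injective _ fun s t hst => ?_, Finset.card_attach]
    have hst' : x s.1 s.2 = x t.1 t.2 := hst
    exact Subtype.ext (by rw [hxs s.1 s.2, hxs t.1 t.2, hst'])
  have hdisj : Disjoint K X := by
    rw [Finset.disjoint_right]
    intro χ hχ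
    obtain ⟨s, -, rfl⟩ := mem_image.1 hχ
    exact hxK s.1 s.2
  have hsX : ∀ χ ∈ X, ∃ φ ∈ L, supp φ = insert χ K := by
    intro χ hχ
    obtain ⟨s, -, rfl⟩ := mem_image.1 hχ
    obtain ⟨φ, hφ, he'⟩ := mem_image.1 s.2
    exact ⟨φ, hφ, he'.trans (hxs s.1 s.2)⟩
  have hXne : X.Nonempty := Finset.card_pos.1 (by omega)
  obtain ⟨χ₀, hχ₀⟩ := hXne
  -- the non-linear columns
  have hcol : ∀ ψ ∈ N, ∀ χ ∈ X, (mult H χ.1 ψ.1 : ℕ) + ∑ y ∈ K, mult H y.1 ψ.1 = j * dg ψ.1 := by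
    intro ψ hψ χ hχ
    obtain ⟨φ, hφ, he'⟩ := hsX χ hχ
    have h1 := S.gramData.gram φ ψ
    rw [if_neg (fun hr => (mem_filter.1 hψ).2 ((S.rel_deg hr).symm.trans (hLd φ hφ))),
      show Cfsg.charDegree (φ.1 : H → ℂ) = 1 from hLd φ hφ, zero_add, one_mul,
      hsupp φ hφ, he', Finset.sum_insert (Finset.disjoint_right.1 hdisj hχ)] at h1
    exact h1
  have hbound : ∀ ψ ∈ N, ∀ B : ℕ, B = mult H χ₀.1 ψ.1 →
      ((q : ℤ) + 1) * (B * B) + ∑ y ∈ K, ((mult H y.1 ψ.1 : ℤ) - dg ψ.1) * ((mult H y.1 ψ.1 : ℤ) - dg ψ.1)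
        ≤ 1 + 2 * dg ψ.1 * B ∧ ∑ y ∈ K, ((mult H y.1 ψ.1 : ℤ) - dg ψ.1) = -B := by
    intro ψ hψ B hB
    have hX : ∀ χ ∈ X, mult H χ.1 ψ.1 = B := fun χ hχ => by
      have h1 := hcol ψ hψ χ hχ
      have h2 := hcol ψ hψ χ₀ hχ₀
      omega
    have h1 := S.gramData.gram ψ ψ
    rw [if_pos (S.rel_refl ψ.1)] at h1
    have h2 : ∑ y ∈ K, mult H y.1 ψ.1 * mult H y.1 ψ.1 + X.card * (B * B) ≤
        1 + j * (dg ψ.1 * dg ψ.1) := by
      rw [← smul_eq_mul X.card, ← Finset.sum_const,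
        ← Finset.sum_congr (s₁ := X) rfl (f := fun χ : CC (G := G) H => mult H χ.1 ψ.1 * mult H χ.1 ψ.1)
          (fun χ hχ => by rw [hX χ hχ]), ← Finset.sum_union hdisj]
      exact (Finset.sum_le_sum_of_subset (Finset.subset_univ _)).trans h1.le
    have h3 : B + ∑ y ∈ K, mult H y.1 ψ.1 = j * dg ψ.1 := hB ▸ hcol ψ hψ χ₀ hχ₀
    have h4 : ((q : ℤ) + 1) * (B * B) ≤ (X.card : ℤ) * (B * B) :=
      mul_le_mul_of_nonneg_right (by rw [hXcard]; exact_mod_cast hF) (by positivity)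
    zify at h2 h3
    constructor
    · have hc : ∀ y ∈ K, ((mult H y.1 ψ.1 : ℤ) - dg ψ.1) * ((mult H y.1 ψ.1 : ℤ) - dg ψ.1) =
          (mult H y.1 ψ.1 : ℤ) * mult H y.1 ψ.1 - 2 * dg ψ.1 * (mult H y.1 ψ.1 : ℤ) +
            (dg ψ.1 : ℤ) * dg ψ.1 := fun y _ => by ring
      rw [Finset.sum_congr rfl hc, Finset.sum_add_distrib, Finset.sum_sub_distrib, ← Finset.mul_sum,
        Finset.sum_const, hKcard, nsmul_eq_mul]
      have h5 : ∑ y ∈ K, (mult H y.1 ψ.1 : ℤ) = (j : ℤ) * dg ψ.1 - B := by linarith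
      rw [h5]
      nlinarith
    · rw [Finset.sum_sub_distrib, Finset.sum_const, hKcard, nsmul_eq_mul]
      linarith
  obtain ⟨ψ, hψ, hψ0⟩ : ∃ ψ ∈ N, mult H χ₀.1 ψ.1 ≠ 0 := by
    by_contra hc
    push Not at hc
    exact big_ne_zero S hne χ₀ (Finset.sum_eq_zero fun ψ hψ => by rw [hc ψ hψ, zero_mul])
  set f := dg ψ.1 with hfdef
  have horbN : Finset.univ.filter (fun φ : PP H => Rel a H ψ.1 φ.1) ⊆ N := fun φ hφ =>
    mem_filter.2 ⟨mem_univ _, fun h1 => (mem_filter.1 hψ).2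
      ((S.rel_deg (mem_filter.1 hφ).2).trans h1)⟩
  have hO : ∑ φ ∈ Finset.univ.filter (fun φ : PP H => Rel a H ψ.1 φ.1), dg φ.1 * dg φ.1 = e * (f * f) := by
    rw [Finset.sum_congr rfl (g := fun _ => f * f) fun φ hφ => by
      rw [show dg φ.1 = f from (S.rel_deg (mem_filter.1 hφ).2).symm], Finset.sum_const,
      card_orbit_pp S, smul_eq_mul]
  have hfq : f ≤ q := by
    have h1 := Finset.sum_le_sum_of_subset horbN (f := fun φ => dg φ.1 * dg φ.1)
    rw [hO, ← hTdef, hT, mul_comm (q * q)] at h1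
    exact Nat.mul_self_le_mul_self_iff.1 (Nat.le_of_mul_le_mul_left h1 he0)
  obtain ⟨hb1, hb2⟩ := hbound ψ hψ _ rfl
  rw [← hfdef] at hb1 hb2
  have hB1 : mult H χ₀.1 ψ.1 = 1 := by
    by_contra hne1
    have hB : (2 : ℤ) ≤ mult H χ₀.1 ψ.1 := by exact_mod_cast (show 2 ≤ mult H χ₀.1 ψ.1 by omega)
    have h0 : 0 ≤ ∑ y ∈ K, ((mult H y.1 ψ.1 : ℤ) - f) * ((mult H y.1 ψ.1 : ℤ) - f) :=
      Finset.sum_nonneg fun y _ => mul_self_nonneg _
    have hfq' : (f : ℤ) ≤ q := by exact_mod_cast hfq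
    have hq0 : (0 : ℤ) ≤ (q : ℤ) + 1 := by positivity
    nlinarith [mul_nonneg (mul_nonneg hq0 (sub_nonneg.2 hB)) (by linarith : (0 : ℤ) ≤ (mult H χ₀.1 ψ.1 : ℤ)),
      mul_nonneg (sub_nonneg.2 hfq') (by linarith : (0 : ℤ) ≤ (mult H χ₀.1 ψ.1 : ℤ))]
  rw [hB1, Nat.cast_one] at hb1 hb2
  have hf : f = q := by
    haveI : Fact (Nat.Prime 2) := ⟨Nat.prime_two⟩
    obtain ⟨k, hk⟩ := hP.exists_card_eq
    obtain ⟨i, -, hi⟩ := (Nat.dvd_prime_pow Nat.prime_two).1
      (hk ▸ CharAverage.charDegree_dvd_card ψ.1)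
    change f = 2 ^ i at hi
    by_contra hne'
    have hin : i < n := by
      rw [← Nat.pow_lt_pow_iff_right (show 1 < 2 by norm_num), ← hi, ← hqdef]
      omega
    have h2f : 2 * f ≤ q := by
      rw [hi, hqdef, mul_comm, ← pow_succ]
      exact Nat.pow_le_pow_right (by norm_num) hin
    have h2f' : 2 * (f : ℤ) ≤ q := by exact_mod_cast h2f
    have h0 : ∑ y ∈ K, ((mult H y.1 ψ.1 : ℤ) - f) * ((mult H y.1 ψ.1 : ℤ) - f) = 0 :=
      le_antisymm (by linarith) (Finset.sum_nonneg fun y _ => mul_self_nonneg _)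
    rw [Finset.sum_eq_zero fun y hy =>
      mul_self_eq_zero.1 ((Finset.sum_eq_zero_iff_of_nonneg fun y _ => mul_self_nonneg _).1 h0 y hy)]
      at hb2
    omega
  rw [hf] at hb1 hb2
  have hNorb : Finset.univ.filter (fun φ : PP H => Rel a H ψ.1 φ.1) = N := by
    refine Finset.Subset.antisymm horbN fun φ hφ => ?_
    by_contra hno
    have h1 := Finset.sum_le_sum_of_subset (Finset.insert_subset hφ horbN)
      (f := fun φ => dg φ.1 * dg φ.1)
    rw [Finset.sum_insert hno, hO, ← hTdef, hT, hf, mul_comm e] at h1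
    have hpos : 0 < dg φ.1 * dg φ.1 := Nat.mul_pos (CharAverage.irr_degree_pos φ.1) (CharAverage.irr_degree_pos φ.1)
    omega
  have hbig : ∀ χ : CC (G := G) H, big χ = e * (q * mult H χ.1 ψ.1) := by
    intro χ
    show ∑ φ ∈ N, mult H χ.1 φ.1 * dg φ.1 = _
    rw [← hNorb, Finset.sum_congr rfl (g := fun _ => q * mult H χ.1 ψ.1) fun φ hφ => by
      rw [← mult_rel S χ (mem_filter.1 hφ).2, show dg φ.1 = q from
        ((S.rel_deg (mem_filter.1 hφ).2).symm.trans hf), mul_comm], Finset.sum_const,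
      card_orbit_pp S, smul_eq_mul]
  refine false_of_cube K (fun y => (mult H y.1 ψ.1 : ℤ) - q) (q := (q : ℤ))
    (by exact_mod_cast hq4) hb2 (by linarith) fun χ hχ => ?_
  have hlin : ∑ φ ∈ L, mult H χ.1 φ.1 = L.card := by
    rw [Finset.card_eq_sum_ones]
    refine Finset.sum_congr rfl fun φ hφ => ?_
    rw [hm φ hφ, if_pos (hK _ (mem_image_of_mem supp hφ) hχ)]
  have hdeg : Cfsg.charDegree (χ.1 : G → ℂ) = e * (q + 1 + q * mult H χ.1 ψ.1) := by
    rw [degree_split χ, ← hLdef, hlin, hL, hbig]; ring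
  have hoddd : Odd (q + 1 + q * mult H χ.1 ψ.1) := by
    have hqe : Even q := by rw [hq2]; exact ⟨j + 1, by ring⟩
    rw [add_right_comm]
    exact (hqe.add (hqe.mul_right _)).add_one
  have hdvd := dvd_succ_h S (k := n * 3) (by rw [hh, hqdef, ← pow_mul]) χ.1 hdeg hoddd
  rw [hh] at hdvd
  have := Int.natCast_dvd_natCast.2 hdvd
  push_cast at this
  rwa [show (q : ℤ) * q + q + 1 + q * ((mult H χ.1 ψ.1 : ℤ) - q) =
    (q : ℤ) + 1 + q * (mult H χ.1 ψ.1 : ℤ) by ring]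

end Cfsg.Agent.ZassenhausSuzuki62
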