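import Cfsg.Agent.Lib.SuzukiHigmanClass
import Mathlib.FieldTheory.ChevalleyWarning
import Mathlib.LinearAlgebra.QuadraticForm.Basic

/-!
Higman's theorem on Suzuki 2-groups, order part: `|P|` is `|Z(P)|²` or `|Z(P)|³`.
-/

set_option autoImplicit false

namespace Cfsg.Agent.SuzukiHigmanOrder

open Cfsg.Agent.SuzukiTwo Cfsg.Agent.SuzukiHigmanClass

variable {P : Type*} [Group P] [Finite P] {K : Subgroup (MulAut P)} (hS : Setup P K)

/-- An anisotropic quadratic map over the field with two elements has at most twice as many variables as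
equations. -/
theorem dim_le_of_anisotropic {M N : Type*} [AddCommGroup M] [AddCommGroup N] [Module (ZMod 2) M]
    [Module (ZMod 2) N] [Finite M] [Finite N] (Q : QuadraticMap (ZMod 2) M N)
    (h : ∀ x, Q x = 0 → x = 0) :
    Module.finrank (ZMod 2) M ≤ 2 * Module.finrank (ZMod 2) N := by
  classical
  have := Fact.mk Nat.prime_two
  by_contra hlt
  push Not at hlt
  let b := Module.finBasis (ZMod 2) M
  let c := Module.finBasis (ZMod 2) N
  let B := Q.toBilin b
  let f : Fin (Module.finrank (ZMod 2) N) → MvPolynomial (Fin (Module.finrank (ZMod 2) M)) (ZMod 2) :=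
    fun k => ∑ i, ∑ j, MvPolynomial.C (c.repr (B (b i) (b j)) k) * (MvPolynomial.X i * MvPolynomial.X j)
  have hdeg : ∀ k, (f k).totalDegree ≤ 2 := fun k => by
    refine MvPolynomial.totalDegree_finsetSum_le fun i _ => ?_
    refine MvPolynomial.totalDegree_finsetSum_le fun j _ => ?_
    refine (MvPolynomial.totalDegree_mul _ _).trans ?_
    rw [MvPolynomial.totalDegree_C, zero_add]
    refine (MvPolynomial.totalDegree_mul _ _).trans ?_
    simp [MvPolynomial.totalDegree_X]
  have hsum : ∑ k, (f k).totalDegree < Fintype.card (Fin (Module.finrank (ZMod 2) M)) := by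
    rw [Fintype.card_fin]
    refine lt_of_le_of_lt ((Finset.sum_le_card_nsmul _ _ 2 fun k _ => hdeg k)) ?_
    simpa [mul_comm] using hlt
  have hzero : ∀ x, (∀ k, MvPolynomial.eval x (f k) = 0) ↔ x = 0 := by
    intro x
    have hx : ∀ k, MvPolynomial.eval x (f k) = c.repr (Q (∑ i, x i • b i)) k := by
      intro k
      have hQ : Q (∑ i, x i • b i) = B (∑ i, x i • b i) (∑ i, x i • b i) :=
        (DFunLike.congr_fun (QuadraticMap.toQuadraticMap_toBilin Q b) _).symm
      rw [hQ]
      simp only [f, map_sum, LinearMap.sum_apply, map_smul, LinearMap.smul_apply, map_mul,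
        MvPolynomial.eval_C, MvPolynomial.eval_X, Finsupp.coe_finsetSum, Finset.sum_apply,
        Finsupp.smul_apply, smul_eq_mul]
      rw [Finset.sum_comm]
      exact Finset.sum_congr rfl fun i _ => by
        simp only [Finset.mul_sum]
        exact Finset.sum_congr rfl fun j _ => by ring
    refine ⟨fun h0 => ?_, fun h0 k => ?_⟩
    · have h1 : Q (∑ i, x i • b i) = 0 := c.ext_elem fun k => by rw [← hx, h0, map_zero]; rfl
      have h2 := congrArg b.equivFun (h _ h1)
      rwa [map_zero, ← b.equivFun_symm_apply, LinearEquiv.apply_symm_apply] at h2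
    · rw [hx, h0]
      simp
  have h2 := char_dvd_card_solutions_of_fintype_sum_lt 2 hsum
  have hsub : Subsingleton {x : Fin (Module.finrank (ZMod 2) M) → ZMod 2 //
      ∀ k, MvPolynomial.eval x (f k) = 0} :=
    ⟨fun y z => Subtype.ext (((hzero y.1).1 y.2).trans ((hzero z.1).1 z.2).symm)⟩
  have hne : Nonempty {x : Fin (Module.finrank (ZMod 2) M) → ZMod 2 //
      ∀ k, MvPolynomial.eval x (f k) = 0} := ⟨⟨0, (hzero 0).2 rfl⟩⟩
  simp only [← Nat.card_eq_fintype_card, Nat.card_eq_one_iff_unique.2 ⟨hsub, hne⟩] at h2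
  omega

include hS

theorem natCard_K : Nat.card K + 1 = Nat.card (Subgroup.center P) := by
  classical
  obtain ⟨c, -, -, hc1, hc2, -, -⟩ := hS.two
  let f : K → {e : Subgroup.center P // e ≠ 1} := fun k =>
    ⟨⟨(k : MulAut P) c, center_inv hS k (mem_center_of_invol hS hc2)⟩, fun h =>
      hc1 ((map_eq_one_iff (k : MulAut P) (k : MulAut P).injective).1 (congrArg Subtype.val h))⟩
  have hf : Function.Bijective f := by
    refine ⟨fun k l h => ?_, fun e => ?_⟩
    · have h' : (k : MulAut P) c = (l : MulAut P) c :=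
        congrArg (fun z : {e : Subgroup.center P // e ≠ 1} => (z.1 : P)) h
      exact (hS.reg c ((k : MulAut P) c) hc1 hc2
        (fun h1 => hc1 ((map_eq_one_iff _ (k : MulAut P).injective).1 h1))
        (invol_map _ hc2)).unique rfl h'.symm
    · obtain ⟨k, hk, -⟩ := hS.reg c (e.1 : P) hc1 hc2 (fun h => e.2 (Subtype.ext h))
        (center_sq hS _ e.1.2)
      exact ⟨k, Subtype.ext (Subtype.ext hk)⟩
  rw [Nat.card_eq_of_bijective f hf, ← Finite.card_option,
    Nat.card_congr (Equiv.optionSubtypeNe (1 : Subgroup.center P))]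

/-- `|Z| - 1` divides `|P/Z| - 1`. -/
theorem card_sub_one_dvd :
    Nat.card (Subgroup.center P) - 1 ∣ Nat.card (P ⧸ Subgroup.center P) - 1 := by
  classical
  set Z := Subgroup.center P
  have hZk : ∀ k : K, Z ≤ Z.comap ((k : MulAut P).toMonoidHom) := fun k z hz => center_inv hS k hz
  let act : K → P ⧸ Z → P ⧸ Z := fun k =>
    QuotientGroup.map Z Z ((k : MulAut P).toMonoidHom) (hZk k)
  have hact : ∀ (k : K) (p : P), act k (p : P ⧸ Z) = (((k : MulAut P) p : P) : P ⧸ Z) := fun k p => rfl
  have hne : ∀ k q, q ≠ 1 → act k q ≠ 1 := by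
    intro k q
    induction q using QuotientGroup.induction_on with
    | _ p =>
      intro h h'
      rw [hact, QuotientGroup.eq_one_iff] at h'
      refine h ((QuotientGroup.eq_one_iff p).2 ?_)
      have := center_inv hS k⁻¹ h'
      rwa [← MulAut.mul_apply, ← Subgroup.coe_mul, inv_mul_cancel, Subgroup.coe_one,
        MulAut.one_apply] at this
  let _ : MulAction K {q : P ⧸ Z // q ≠ 1} :=
    { smul := fun k q => ⟨act k q.1, hne k q.1 q.2⟩
      one_smul := fun ⟨q, hq⟩ => Subtype.ext (show act 1 q = q by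
        induction q using QuotientGroup.induction_on with
        | _ p => rw [hact, Subgroup.coe_one, MulAut.one_apply])
      mul_smul := fun k l ⟨q, hq⟩ => Subtype.ext (show act (k * l) q = act k (act l q) by
        induction q using QuotientGroup.induction_on with
        | _ p => rw [hact, hact, hact, Subgroup.coe_mul, MulAut.mul_apply]) }
  have hstab : ∀ q : {q : P ⧸ Z // q ≠ 1}, MulAction.stabilizer K q = ⊥ := by
    rintro ⟨q, hq⟩
    refine (Subgroup.eq_bot_iff_forall _).2 fun k hk => ?_
    by_contra hk1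
    have h1 : act k q = q := congrArg Subtype.val (MulAction.mem_stabilizer_iff.1 hk)
    induction q using QuotientGroup.induction_on with
    | _ p =>
      rw [hact, QuotientGroup.eq] at h1
      have h2 : (k : MulAut P) (p * p) = p * p := by
        obtain ⟨z, hz, hpz⟩ : ∃ z ∈ Z, p = (k : MulAut P) p * z :=
          ⟨_, h1, (mul_inv_cancel_left _ p).symm⟩
        conv_rhs => rw [hpz]
        calc (k : MulAut P) (p * p) = (k : MulAut P) p * (k : MulAut P) p * (z * z) := by
              rw [map_mul, center_sq hS z hz, mul_one]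
          _ = (k : MulAut P) p * ((k : MulAut P) p * z) * z := by group
          _ = (k : MulAut P) p * (z * (k : MulAut P) p) * z := by
              rw [Subgroup.mem_center_iff.1 hz ((k : MulAut P) p)]
          _ = _ := by group
      exact hq ((QuotientGroup.eq_one_iff p).2 (mem_center_of_invol hS (eq_one_of_fixed hS hk1 h2)))
  have hcard : Nat.card {q : P ⧸ Z // q ≠ 1} + 1 = Nat.card (P ⧸ Z) := by
    rw [← Finite.card_option, Nat.card_congr (Equiv.optionSubtypeNe (1 : P ⧸ Z))]
  have hK : Nat.card K + 1 = Nat.card Z := natCard_K hS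
  rw [show Nat.card Z - 1 = Nat.card K by omega,
    show Nat.card (P ⧸ Z) - 1 = Nat.card {q : P ⧸ Z // q ≠ 1} by omega]
  let Ω := MulAction.orbitRel.Quotient K {q : P ⧸ Z // q ≠ 1}
  have e := MulAction.selfEquivSigmaOrbits K {q : P ⧸ Z // q ≠ 1}
  rw [Nat.card_congr e]
  let _ : Fintype Ω := Fintype.ofFinite Ω
  rw [Nat.card_sigma]
  refine Finset.dvd_sum fun ω _ => ?_
  rw [Nat.card_congr (MulAction.orbitEquivQuotientStabilizer K _), hstab,
    Nat.card_congr QuotientGroup.quotientBot.toEquiv]

/-- The order of a Suzuki 2-group. -/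
theorem natCard_eq : Nat.card P = Nat.card (Subgroup.center P) ^ 2 ∨
    Nat.card P = Nat.card (Subgroup.center P) ^ 3 := by
  classical
  set Z := Subgroup.center P
  have hcomm : ∀ a b : P ⧸ Z, a * b = b * a := by
    intro a b
    induction a using QuotientGroup.induction_on with
    | _ x =>
      induction b using QuotientGroup.induction_on with
      | _ y =>
        rw [← QuotientGroup.mk_mul, ← QuotientGroup.mk_mul, QuotientGroup.eq]
        have := commutator_mem_center hS y x
        rwa [show (x * y)⁻¹ * (y * x) = y⁻¹ * x⁻¹ * y * x by group]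
  let _ : CommGroup (P ⧸ Z) := { (inferInstance : Group (P ⧸ Z)) with mul_comm := hcomm }
  let _ : CommGroup Z :=
    { (inferInstance : Group Z) with
      mul_comm := fun u v => Subtype.ext (Subgroup.mem_center_iff.1 v.2 u) }
  let _ : Module (ZMod 2) (Additive (P ⧸ Z)) := AddCommGroup.zmodModule fun v => by
    show 2 • v = 0
    obtain ⟨p, hp⟩ := QuotientGroup.mk_surjective v.toMul
    refine Additive.toMul.injective ?_
    show v.toMul ^ 2 = 1
    rw [← hp, pow_two, ← QuotientGroup.mk_mul, QuotientGroup.eq_one_iff]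
    exact sq_mem_center hS p
  let _ : Module (ZMod 2) (Additive Z) := AddCommGroup.zmodModule fun v => by
    show 2 • v = 0
    refine Additive.toMul.injective (Subtype.ext ?_)
    show ((v.toMul ^ 2 : Z) : P) = 1
    rw [Subgroup.coe_pow, pow_two]
    exact center_sq hS _ v.toMul.2
  let sq : P ⧸ Z → Z := Quotient.lift (fun p => (⟨p * p, sq_mem_center hS p⟩ : Z)) fun p p' h => by
    have hz : p⁻¹ * p' ∈ Z := QuotientGroup.leftRel_apply.1 h
    refine Subtype.ext ?_
    show p * p = p' * p'
    calc p * p = p * p * ((p⁻¹ * p') * (p⁻¹ * p')) := by rw [center_sq hS _ hz, mul_one]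
      _ = p * (p * (p⁻¹ * p')) * (p⁻¹ * p') := by group
      _ = p * ((p⁻¹ * p') * p) * (p⁻¹ * p') := by rw [Subgroup.mem_center_iff.1 hz p]
      _ = p' * p' := by group
  have hsq : ∀ p : P, (sq (p : P ⧸ Z) : P) = p * p := fun p => rfl
  let q : Additive (P ⧸ Z) → Additive Z := fun v => Additive.ofMul (sq v.toMul)
  have hpolar : ∀ x y : P,
      ((QuadraticMap.polar q (Additive.ofMul (x : P ⧸ Z)) (Additive.ofMul (y : P ⧸ Z))).toMul : P) =
        x⁻¹ * y⁻¹ * x * y := by
    intro x y
    simp only [QuadraticMap.polar, q, ← ofMul_mul, ← ofMul_div, toMul_ofMul, ← QuotientGroup.mk_mul]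
    rw [Subgroup.coe_div, Subgroup.coe_div, hsq, hsq, hsq, div_eq_mul_inv, div_eq_mul_inv]
    have hz := commutator_mem_center hS x y
    have hy := sq_mem_center hS y
    have hx := sq_mem_center hS x
    have h2 : (x⁻¹ * y⁻¹ * x * y)⁻¹ = x⁻¹ * y⁻¹ * x * y :=
      inv_eq_of_mul_eq_one_right (center_sq hS _ hz)
    calc x * y * (x * y) * (x * x)⁻¹ * (y * y)⁻¹
        = (x * x)⁻¹ * (x * y * (x * y)) * (y * y)⁻¹ := by
          rw [Subgroup.mem_center_iff.1 (inv_mem hx) (x * y * (x * y))]
      _ = y * (x⁻¹ * y⁻¹ * x * y)⁻¹ * y⁻¹ := by group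
      _ = _ := by rw [h2, Subgroup.mem_center_iff.1 hz y, mul_inv_cancel_right]
  have hadd : ∀ u u' v : Additive (P ⧸ Z),
      QuadraticMap.polar q (u + u') v = QuadraticMap.polar q u v + QuadraticMap.polar q u' v := by
    intro u u' v
    obtain ⟨x, hx⟩ := QuotientGroup.mk_surjective u.toMul
    obtain ⟨x', hx'⟩ := QuotientGroup.mk_surjective u'.toMul
    obtain ⟨y, hy⟩ := QuotientGroup.mk_surjective v.toMul
    rw [show u = Additive.ofMul (x : P ⧸ Z) from hx.symm,
      show u' = Additive.ofMul (x' : P ⧸ Z) from hx'.symm,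
      show v = Additive.ofMul (y : P ⧸ Z) from hy.symm, ← ofMul_mul, ← QuotientGroup.mk_mul]
    refine Additive.toMul.injective (Subtype.ext ?_)
    rw [toMul_add, Subgroup.coe_mul, hpolar, hpolar, hpolar]
    have hc := commutator_mem_center hS x y
    calc (x * x')⁻¹ * y⁻¹ * (x * x') * y
        = x'⁻¹ * (x⁻¹ * y⁻¹ * x * y) * (y⁻¹ * x' * y) := by group
      _ = (x⁻¹ * y⁻¹ * x * y) * x'⁻¹ * (y⁻¹ * x' * y) := by
          rw [Subgroup.mem_center_iff.1 hc x'⁻¹]
      _ = _ := by group
  have hzm : ∀ r : ZMod 2, r = 0 ∨ r = 1 := by decide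
  have hq0 : q 0 = 0 := Additive.toMul.injective (Subtype.ext (by
    show (sq ((1 : P) : P ⧸ Z) : P) = 1
    rw [hsq, one_mul]))
  let Q : QuadraticMap (ZMod 2) (Additive (P ⧸ Z)) (Additive Z) := QuadraticMap.ofPolar q
    (fun r x => by rcases hzm r with rfl | rfl <;> simp [hq0]) hadd
    (fun r x y => by
      rcases hzm r with rfl | rfl
      · have := hadd 0 0 y
        rw [add_zero] at this
        simp only [zero_smul]
        exact left_eq_add.1 this
      · simp)
  have hani : ∀ v, Q v = 0 → v = 0 := by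
    intro v hv
    obtain ⟨p, hp⟩ := QuotientGroup.mk_surjective v.toMul
    refine Additive.toMul.injective ?_
    show v.toMul = 1
    rw [← hp, QuotientGroup.eq_one_iff]
    refine mem_center_of_invol hS ?_
    rw [← hsq, hp]
    exact congrArg (fun w : Additive Z => (w.toMul : P)) hv
  have := Fact.mk Nat.prime_two
  have hdim := dim_le_of_anisotropic Q hani
  set d := Module.finrank (ZMod 2) (Additive (P ⧸ Z))
  set n := Module.finrank (ZMod 2) (Additive Z)
  have hcQ : Nat.card (P ⧸ Z) = 2 ^ d := by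
    show Nat.card (Additive (P ⧸ Z)) = _
    rw [Module.natCard_eq_pow_finrank (K := ZMod 2) (V := Additive (P ⧸ Z)), Nat.card_zmod]
  have hcZ : Nat.card Z = 2 ^ n := by
    show Nat.card (Additive Z) = _
    rw [Module.natCard_eq_pow_finrank (K := ZMod 2) (V := Additive Z), Nat.card_zmod]
  have hdvd := card_sub_one_dvd hS
  rw [hcQ, hcZ] at hdvd
  have hnd : n ∣ d := by
    have h := Nat.gcd_eq_left hdvd
    rw [Nat.pow_sub_one_gcd_pow_sub_one] at h
    have : 2 ^ Nat.gcd n d = 2 ^ n := by
      have := Nat.one_le_two_pow (n := Nat.gcd n d)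
      have := Nat.one_le_two_pow (n := n)
      omega
    rw [← Nat.pow_right_injective le_rfl this]
    exact Nat.gcd_dvd_right n d
  obtain ⟨j, hj⟩ := hnd
  have hP : Nat.card P = 2 ^ d * 2 ^ n := by
    rw [← hcQ, ← hcZ]; exact Subgroup.card_eq_card_quotient_mul_card_subgroup Z
  have hd0 : d ≠ 0 := fun h0 => by
    obtain ⟨x, y, hxy⟩ := hS.noncomm
    rw [h0, pow_zero] at hcQ
    have := (Nat.card_eq_one_iff_unique.1 hcQ).1
    exact hxy (Subgroup.mem_center_iff.1
      ((QuotientGroup.eq_one_iff x).1 (Subsingleton.elim _ _)) y).symm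
  have hn0 : n ≠ 0 := fun h0 => hd0 (by rw [hj, h0, zero_mul])
  have hj2 : j ≤ 2 := Nat.le_of_mul_le_mul_left (by rw [← hj]; omega) (Nat.pos_of_ne_zero hn0)
  rw [hP, hcZ, ← pow_add, ← pow_mul, ← pow_mul]
  interval_cases j
  · simp at hj; exact absurd hj hd0
  · left; congr 1; omega
  · right; congr 1; omega

end Cfsg.Agent.SuzukiHigmanOrder
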