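import Mathlib
import Cfsg.Agent.Lib.ZassenhausRecognition

/-!
In the half-size case the two-point stabiliser is cyclic and inverted by a swapping involution.
-/

set_option autoImplicit false

open scoped OnePoint

namespace Cfsg.Agent.Zassenhaus.Affine

open MulAction

universe u

variable {G : Type u} [Group G] [Finite G] {V : Type*} [AddCommGroup V] [Finite V]
variable {ρ : G →* Equiv.Perm (OnePoint V)} {H : Subgroup G} {act : H →* AddMonoid.End V}
variable (hA : Affine ρ H act) (heven : Even (Nat.card H))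
  (hnf : ∀ g : G, g * g = 1 → g ≠ 1 → ∃ x, ρ g x = x)
include hA heven hnf

theorem half_cyclic [Nontrivial V] (hcard : Nat.card V = 2 * Nat.card H + 1) :
    IsCyclic H ∧ ∃ t : G, t * t = 1 ∧ t ≠ 1 ∧ ρ t ∞ = ((0 : V) : OnePoint V) ∧
      ∀ h ∈ H, t * h * t⁻¹ = h⁻¹ := by
  obtain ⟨t, ht, ht1, htinf⟩ := hA.exists_swap heven hnf
  have hinv : ∀ h ∈ H, t * h * t = h⁻¹ := by
    have h1 := hA.card_inverted heven hnf ht htinf
    have e : {h : G | h ∈ H ∧ t * h * t = h⁻¹} = (H : Set G) := by
      refine Set.eq_of_subset_of_ncard_le (fun h hh => hh.1) ?_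
      rw [show (H : Set G).ncard = Nat.card H from (Nat.card_coe_set_eq _).symm]
      omega
    intro h hh
    have : h ∈ {h : G | h ∈ H ∧ t * h * t = h⁻¹} := e.symm ▸ hh
    exact this.2
  have hti : t⁻¹ = t := inv_eq_of_mul_eq_one_left ht
  have hcomm : ∀ h k : H, h * k = k * h := by
    intro h k
    refine Subtype.ext (show (h : G) * k = k * h from ?_)
    have e := hinv _ (H.mul_mem h.2 k.2)
    rw [show t * ((h : G) * k) * t = (t * h * t) * (t * k * t) by
      rw [show t * (h : G) * t * (t * k * t) = t * h * (t * t) * k * t by group, ht]; group,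
      hinv _ h.2, hinv _ k.2, ← mul_inv_rev, inv_inj] at e
    exact e.symm
  refine ⟨?_, t, ht, ht1, htinf, fun h hh => by rw [hti]; exact hinv h hh⟩
  set S : Set (AddMonoid.End V) := Set.range act
  have hS : ∀ x ∈ S, ∀ y ∈ S, x * y = y * x := by
    rintro _ ⟨h, rfl⟩ _ ⟨k, rfl⟩
    rw [← map_mul, ← map_mul, hcomm]
  letI : CommRing (Subring.closure S) := Subring.closureCommRingOfComm hS
  have hbij : ∀ r ∈ Subring.closure S, r ≠ 0 → Function.Bijective (r : V → V) := fun r hr hr0 =>
    bijective_of_mem_closure S S hS (fun W hW => hA.irreducible (by omega) W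
      fun h x hx => hW _ ⟨h, rfl⟩ x hx) hr hr0
  obtain ⟨e₁, he₁⟩ := _root_.exists_ne (0 : V)
  haveI : Nontrivial (Subring.closure S) := ⟨⟨0, 1, fun h => he₁
    ((congrArg (fun r : Subring.closure S => (r : AddMonoid.End V) e₁) h).symm.trans rfl)⟩⟩
  haveI : NoZeroDivisors (Subring.closure S) := ⟨fun {r s} h => by
    by_contra hc
    push Not at hc
    refine hc.2 (Subtype.ext (AddMonoidHom.ext fun v => ?_))
    exact (hbij r r.2 (fun e => hc.1 (Subtype.ext e))).1
      ((congrArg (fun x : Subring.closure S => (x : AddMonoid.End V) v) h).trans (map_zero _).symm)⟩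
  haveI : IsDomain (Subring.closure S) := NoZeroDivisors.to_isDomain _
  exact isCyclic_of_subgroup_isDomain
    ({ toFun := fun h => ⟨act h, Subring.subset_closure ⟨h, rfl⟩⟩
       map_one' := Subtype.ext (map_one act)
       map_mul' := fun h k => Subtype.ext (map_mul act h k) } : H →* Subring.closure S)
    fun h k e => hA.act_injective (congrArg Subtype.val e)

end Cfsg.Agent.Zassenhaus.Affine
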