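import Mathlib
import Cfsg.Agent.Lib.FeitKernel
import Cfsg.Agent.Lib.SuzukiHigmanOrder
import Cfsg.Agent.S0345
import Cfsg.Agent.S0738
import Cfsg.Agent.S0741

/-!
Zassenhaus groups with a non-abelian kernel of 2-power order: the kernel is a Suzuki 2-group.
-/

set_option autoImplicit false

universe u v

namespace Cfsg.Agent.ZassenhausSuzuki62

open MulAction Cfsg.Agent.Zassenhaus Cfsg.Agent.Feit
open scoped commutatorElement

variable {G : Type u} {Ω : Type v} [Group G] [Finite G] [MulAction G Ω] [Finite Ω]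

/-- The structure of the kernel. -/
structure Kernel (a b : Ω) (U : Subgroup G) (n : ℕ) : Prop where
  card_succ : Nat.card U + 1 = Nat.card Ω
  hfix : ∀ u ∈ U, u ≠ 1 → ∀ c : Ω, u • c = c → c = a
  two_le : 2 ≤ n
  card_two : Nat.card (two G a b) + 1 = 2 ^ n
  cyc : IsCyclic (two G a b)
  suzuki : Cfsg.IsSuzukiTwoGroup ↥U
  card_center : Nat.card (Subgroup.center U) = 2 ^ n
  comm_eq : commutator U = Subgroup.center U
  sq_mem : ∀ u : U, u * u ∈ commutator U
  card_or : Nat.card U = (2 ^ n) ^ 2 ∨ Nat.card U = (2 ^ n) ^ 3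

variable (hZ : Cfsg.IsZassenhausGroup G Ω) {a b : Ω} (hab : a ≠ b) {U : Subgroup G}
  (hUle : U ≤ stabilizer G a)
  (hreg : ∀ c d : Ω, c ≠ a → d ≠ a → ∃! u : U, (u : G) • c = d)

include hUle hreg in
omit [Finite G] [Finite Ω] in
theorem fix_of_regular {u : G} (hu : u ∈ U) (hu1 : u ≠ 1) {c : Ω} (hc : u • c = c) : c = a := by
  by_contra hca
  obtain ⟨w, -, hw⟩ := hreg c c hca hca
  exact hu1 (congrArg Subtype.val ((hw ⟨u, hu⟩ hc).trans (hw 1 (one_smul G c)).symm))

include hab hUle hreg in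
omit [Finite G] in
theorem card_of_regular : Nat.card U + 1 = Nat.card Ω := by
  classical
  let f : U → {c : Ω // c ≠ a} := fun u => ⟨(u : G) • b, fun h => hab.symm
    (smul_left_cancel (u : G) (h.trans (hUle u.2).symm))⟩
  have hf : Function.Bijective f := by
    refine ⟨fun u w h => ?_, fun c => ?_⟩
    · obtain ⟨x, -, hx⟩ := hreg b ((u : G) • b) hab.symm (f u).2
      exact (hx u rfl).trans (hx w (congrArg Subtype.val h).symm).symm
    · obtain ⟨x, hx, -⟩ := hreg b c hab.symm c.2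
      exact ⟨x, Subtype.ext hx⟩
  rw [Nat.card_eq_of_bijective f hf, ← Finite.card_option, Nat.card_congr (Equiv.optionSubtypeNe a)]

include hZ hab hUle hreg in
/-- The structure theorem. -/
theorem exists_kernel [IsSimpleGroup G]
    (hUn : ∀ h ∈ stabilizer G a, ∀ u ∈ U, h * u * h⁻¹ ∈ U)
    (hU2 : IsPGroup 2 U) (hUna : ∃ u ∈ U, ∃ v ∈ U, u * v ≠ v * u) :
    ∃ n, Kernel a b U n := by
  classical
  haveI := Fintype.ofFinite Ω
  haveI := Fintype.ofFinite G
  have hcard := card_of_regular hab hUle hreg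
  have hfix : ∀ u ∈ U, u ≠ 1 → ∀ c : Ω, u • c = c → c = a :=
    fun u hu h1 c hc => fix_of_regular hUle hreg hu h1 hc
  obtain ⟨x₀, hx₀, y₀, hy₀, hxy⟩ := hUna
  have hodd : Odd (Nat.card (two G a b)) := by
    by_contra hne
    rw [Nat.not_odd_iff_even] at hne
    obtain ⟨hcomm, -⟩ := Cfsg.Agent.S0738.result hZ hab (Cfsg.Agent.S0741.result hZ hab hne) U hUle
      ⟨fun k hk g => hUn g g.2 k hk⟩ hreg
    exact hxy (congrArg Subtype.val (hcomm.is_comm.comm (⟨x₀, hx₀⟩ : U) ⟨y₀, hy₀⟩))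
  have hall := odd_all hZ hab hodd
  have hswap := simple_swap_sq hZ hab hodd
  have hUnt : Nontrivial U := kernel_nontrivial hZ hUle hcard hfix
  haveI : Fact (Nat.Prime 2) := ⟨Nat.prime_two⟩
  obtain ⟨k, hk⟩ := hU2.exists_card_eq
  have hn : Odd (Nat.card Ω) := by
    rw [← hcard]
    refine Even.add_one ?_
    rw [hk, Nat.even_pow]
    refine ⟨even_two, ?_⟩
    rintro rfl
    have := Finite.one_lt_card (α := U)
    rw [hk, pow_zero] at this
    omega
  have hinv : ∀ x : G, x * x = 1 → x • a = a → x ∈ U ∧ ∀ u ∈ U, x * u = u * x :=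
    fun x hx hxa => invol_central hZ hUle hcard hfix hab hall hswap hn hx hxa
  have hI : (Finset.univ.filter fun g : G => (g * g = 1 ∧ g ≠ 1) ∧ g • a = a).card =
      Nat.card (two G a b) :=
    card_invol_fix hZ hall hswap hab (by rwa [← Nat.card_eq_fintype_card]) a
  set T := two G a b with hTdef
  have hTa : ∀ t : T, ((t : G)) ∈ stabilizer G a := fun t => t.2.1
  let conjU : T → MulAut U := fun t =>
    { toFun := fun u => ⟨(t : G) * u * (t : G)⁻¹, hUn t (hTa t) u u.2⟩
      invFun := fun u => ⟨(t : G)⁻¹ * u * ((t : G)⁻¹)⁻¹,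
        hUn _ (Subgroup.inv_mem _ (hTa t)) u u.2⟩
      left_inv := fun u => Subtype.ext (by simp only; group)
      right_inv := fun u => Subtype.ext (by simp only; group)
      map_mul' := fun u w => Subtype.ext (by simp only [Subgroup.coe_mul]; group) }
  let κ : T →* MulAut U :=
    { toFun := conjU
      map_one' := by
        ext u
        show ((1 : T) : G) * u * ((1 : T) : G)⁻¹ = u
        simp
      map_mul' := fun s t => by
        ext u
        show ((s * t : T) : G) * u * ((s * t : T) : G)⁻¹ =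
          (s : G) * ((t : G) * u * (t : G)⁻¹) * (s : G)⁻¹
        rw [Subgroup.coe_mul]; group }
  have hκ : ∀ (t : T) (u : U), ((κ t u : U) : G) = (t : G) * u * (t : G)⁻¹ := fun _ _ => rfl
  have hfree : ∀ (t : T) (u : U), u ≠ 1 → κ t u = u → t = 1 := by
    intro t u hu h
    by_contra ht
    refine hu (Subtype.ext (kernel_fpf hZ hUle hcard hfix hab u.2 t.2
      (fun e => ht (Subtype.ext e)) ?_))
    have h' := congrArg (Subtype.val (p := fun g => g ∈ U)) h
    rw [hκ] at h'
    exact mul_inv_eq_iff_eq_mul.1 h'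
  -- the two-point stabiliser moves any involution to any other
  have htrans : ∀ x y : U, x ≠ 1 → x * x = 1 → y ≠ 1 → y * y = 1 → ∃ t : T, κ t x = y := by
    intro x y hx hx2 hy hy2
    set I := Finset.univ.filter fun g : G => (g * g = 1 ∧ g ≠ 1) ∧ g • a = a with hIdef
    have hmem : ∀ z : U, z ≠ 1 → z * z = 1 → (z : G) ∈ I := fun z hz hz2 => by
      simp only [I, Finset.mem_filter, Finset.mem_univ, true_and]
      exact ⟨⟨congrArg Subtype.val hz2, fun e => hz (Subtype.ext e)⟩, hUle z.2⟩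
    let f : T → I := fun t => ⟨(κ t x : U), hmem _
      (fun e => hx ((map_eq_one_iff (κ t) (κ t).injective).1 e))
      (by rw [← map_mul, hx2, map_one])⟩
    have hinj : Function.Injective f := by
      intro s t h
      have h' : κ s x = κ t x := Subtype.ext (congrArg (fun z : I => (z : G)) h)
      have h2 : κ (t⁻¹ * s) x = x := by
        rw [map_mul, MulAut.mul_apply, h', ← MulAut.mul_apply, ← map_mul, inv_mul_cancel, map_one,
          MulAut.one_apply]
      exact (inv_mul_eq_one.1 (hfree _ x hx h2)).symm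
    obtain ⟨t, ht⟩ := ((Nat.bijective_iff_injective_and_card f).2 ⟨hinj, by simp [hI]⟩).2
      ⟨(y : G), hmem y hy hy2⟩
    exact ⟨t, Subtype.ext (congrArg (fun z : I => (z : G)) ht)⟩
  obtain ⟨hcyc, -⟩ := Cfsg.Agent.S0345.result hZ hab
  obtain ⟨z₀, hz₀⟩ := exists_prime_orderOf_dvd_card' (G := U) 2 (by
    rcases k with _ | k
    · have := Finite.one_lt_card (α := U)
      rw [hk, pow_zero] at this
      omega
    · rw [hk, pow_succ]; exact dvd_mul_left _ _)
  have hz₀1 : z₀ ≠ 1 := fun e => by rw [e, orderOf_one] at hz₀; omega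
  have hz₀2 : z₀ * z₀ = 1 := by rw [← pow_two, ← hz₀, pow_orderOf_eq_one]
  have hκinj : Function.Injective κ := by
    intro s t h
    have h2 : κ (t⁻¹ * s) z₀ = z₀ := by
      rw [map_mul, MulAut.mul_apply, h, ← MulAut.mul_apply, ← map_mul, inv_mul_cancel, map_one,
        MulAut.one_apply]
    exact (inv_mul_eq_one.1 (hfree _ _ hz₀1 h2)).symm
  have htwo : 2 ≤ Nat.card T := two_le_card_two hZ hab
  haveI : Nontrivial T := Finite.one_lt_card_iff_nontrivial.1 htwo
  obtain ⟨t₁, ht₁⟩ := _root_.exists_ne (1 : T)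
  have hK : IsCyclic κ.range := by
    haveI : IsCyclic T := hcyc
    exact isCyclic_of_surjective κ.rangeRestrict κ.rangeRestrict_surjective
  have hnc : ∃ x y : U, x * y ≠ y * x :=
    ⟨⟨x₀, hx₀⟩, ⟨y₀, hy₀⟩, fun e => hxy (congrArg Subtype.val e)⟩
  have htwoinv : ∃ x y : U, x ≠ y ∧ x ≠ 1 ∧ x * x = 1 ∧ y ≠ 1 ∧ y * y = 1 :=
    ⟨z₀, κ t₁ z₀, fun e => ht₁ (hfree t₁ z₀ hz₀1 e.symm), hz₀1, hz₀2,
      fun e => hz₀1 ((map_eq_one_iff (κ t₁) (κ t₁).injective).1 e),
      by rw [← map_mul, hz₀2, map_one]⟩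
  have hregK : ∀ x y : U, x ≠ 1 → x * x = 1 → y ≠ 1 → y * y = 1 →
      ∃! m : κ.range, (m : MulAut U) x = y := by
    intro x y hx hx2 hy hy2
    obtain ⟨t, ht⟩ := htrans x y hx hx2 hy hy2
    refine ⟨⟨κ t, t, rfl⟩, ht, ?_⟩
    rintro ⟨m, s, rfl⟩ hm
    change κ s x = y at hm
    refine Subtype.ext ?_
    show κ s = κ t
    have h2 : κ (t⁻¹ * s) x = x := by
      rw [map_mul, MulAut.mul_apply, hm, ← ht, ← MulAut.mul_apply, ← map_mul, inv_mul_cancel,
        map_one, MulAut.one_apply]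
    rw [inv_mul_eq_one.1 (hfree _ x hx h2)]
  have hsuz : Cfsg.IsSuzukiTwoGroup ↥U :=
    ⟨inferInstance, hU2, hnc, htwoinv, κ.range, hK, hregK⟩
  have hS : SuzukiTwo.Setup U κ.range := ⟨hU2, hnc, htwoinv, hK, hregK⟩
  have hZK := SuzukiHigmanOrder.natCard_K hS
  rw [← Nat.card_congr (MonoidHom.ofInjective hκinj).toEquiv] at hZK
  obtain ⟨n, hn2⟩ := (hU2.to_subgroup (Subgroup.center U)).exists_card_eq
  have hsq := SuzukiTwo.center_sq hS
  have hcomm : commutator U = Subgroup.center U := by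
    refine le_antisymm ?_ ?_
    · rw [commutator_def, Subgroup.commutator_le]
      intro x _ y _
      have := SuzukiHigmanClass.commutator_mem_center hS x⁻¹ y⁻¹
      rwa [inv_inv, inv_inv] at this
    · obtain ⟨x, y, hxy'⟩ := hnc
      have hc0 : ⁅x, y⁆ ∈ commutator U :=
        Subgroup.commutator_mem_commutator (Subgroup.mem_top x) (Subgroup.mem_top y)
      have hc1 : ⁅x, y⁆ ≠ 1 := fun e => hxy' (commutatorElement_eq_one_iff_mul_comm.1 e)
      have hcz : ⁅x, y⁆ ∈ Subgroup.center U := by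
        have := SuzukiHigmanClass.commutator_mem_center hS x⁻¹ y⁻¹
        rwa [inv_inv, inv_inv] at this
      intro z hz
      rcases eq_or_ne z 1 with rfl | hz1
      · exact one_mem _
      obtain ⟨t, ht⟩ := htrans _ z hc1 (hsq _ hcz) hz1 (hsq z hz)
      rw [← ht]
      have hmap : (commutator U).map (κ t).toMonoidHom = commutator U := by
        rw [commutator_def, Subgroup.map_commutator,
          Subgroup.map_top_of_surjective _ (κ t).surjective]
      rw [← hmap]
      exact Subgroup.mem_map_of_mem _ hc0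
  refine ⟨n, hcard, hfix, ?_, hZK.trans hn2, hcyc, hsuz, hn2, hcomm,
    fun u => hcomm ▸ SuzukiHigmanClass.sq_mem_center hS u,
    hn2 ▸ SuzukiHigmanOrder.natCard_eq hS⟩
  by_contra hlt
  have : 2 ^ n ≤ 2 ^ 1 := Nat.pow_le_pow_right (by norm_num) (by omega)
  rw [hn2] at hZK
  omega

end Cfsg.Agent.ZassenhausSuzuki62
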