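import Mathlib
import Cfsg.Agent.Lib.ZassenhausSuzukiSetup62
import Cfsg.Agent.Lib.ZassenhausSuzukiCount62

/-!
Zassenhaus groups with a non-abelian kernel of 2-power order: the exponent is odd and the kernel
has order `q²`.
-/

set_option autoImplicit false

universe u v

namespace Cfsg.Agent.ZassenhausSuzuki62

open MulAction Cfsg.Agent.Zassenhaus Cfsg.Agent.Feit

/-- The main numerical result. -/
theorem main {G : Type u} {Ω : Type v} [Group G] [Finite G] [MulAction G Ω] [Finite Ω]
    (hZ : Cfsg.IsZassenhausGroup G Ω) [IsSimpleGroup G] {a b : Ω} (hab : a ≠ b) (U : Subgroup G)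
    (hUle : U ≤ stabilizer G a)
    (hUn : ∀ h ∈ stabilizer G a, ∀ u ∈ U, h * u * h⁻¹ ∈ U)
    (hreg : ∀ c d : Ω, c ≠ a → d ≠ a → ∃! u : U, (u : G) • c = d)
    (hU2 : IsPGroup 2 U) (hUna : ∃ u ∈ U, ∃ v ∈ U, u * v ≠ v * u) :
    ∃ n, Kernel a b U n ∧ Odd n ∧ 1 < n ∧ Nat.card U = (2 ^ n) ^ 2 := by
  classical
  obtain ⟨n, hK⟩ := exists_kernel hZ hab hUle hreg hUn hU2 hUna
  haveI := Fintype.ofFinite G
  haveI := Fintype.ofFinite Ω
  haveI := Fintype.ofFinite U
  have hq : Even (2 ^ n) := Nat.even_pow.2 ⟨even_two, by have := hK.two_le; omega⟩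
  obtain ⟨j, hj⟩ : Odd (Nat.card (two G a b)) := by
    have := hK.card_two
    rw [← this, Nat.even_add_one, Nat.not_even_iff_odd] at hq
    exact hq
  have hS : Sim a b U (Nat.card U) (Nat.card (two G a b)) j :=
    Sim.of_simple hZ hab hUle rfl hK.card_succ.symm rfl hj hK.hfix
  have hci : Nat.card (_root_.commutator U) * (_root_.commutator U).index = Nat.card U :=
    Subgroup.card_mul_index _
  have hcc : Nat.card (_root_.commutator U) = 2 ^ n := by rw [hK.comm_eq, hK.card_center]
  rw [hcc] at hci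
  rcases hK.card_or with h2 | h3
  · have hidx : (_root_.commutator U).index = 2 ^ n :=
      Nat.eq_of_mul_eq_mul_left (pow_pos (by norm_num) n) (hci.trans (h2.trans (pow_two _)))
    exact ⟨n, hK, odd_of_square hS hK.two_le hK.card_two h2 hU2 hK.sq_mem hidx,
      by have := hK.two_le; omega, h2⟩
  · exfalso
    have hidx : (_root_.commutator U).index = (2 ^ n) ^ 2 :=
      Nat.eq_of_mul_eq_mul_left (pow_pos (by norm_num) n) (hci.trans (h3.trans (pow_succ' _ 2)))
    refine false_of_cube_kernel hS hK.two_le hK.card_two h3 hU2 hK.sq_mem ?_ hidx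
    intro hbot
    rw [hbot, Subgroup.card_bot] at hcc
    rw [← hcc] at hq
    exact Nat.not_even_one hq

end Cfsg.Agent.ZassenhausSuzuki62
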