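import Mathlib
import Cfsg.Agent.Lib.CIT21Frob5Geometry
import Cfsg.Agent.Lib.CNGlobal
import Cfsg.Agent.S0340

/-!
A simple group with an involution `t` whose centraliser is a TI subgroup containing the centralisers
of its non-identity elements is a Zassenhaus group, hence `PSL₂(F)` or of Suzuki order.
-/

set_option autoImplicit false
set_option linter.style.haveILetI false

namespace Cfsg.Agent.CIT21Frob5

open MulAction
open scoped commutatorElement
open Cfsg.Agent.TICentralizers82 hiding Setup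

universe u

variable {G : Type u} [Group G] [Finite G] {t : G}

/-- A subgroup containing the centralisers of its non-identity elements is a Hall subgroup. -/
theorem coprime_of_cc {K : Subgroup G} (hcc : ∀ k ∈ K, k ≠ 1 → cn k ≤ K) :
    (Nat.card K).Coprime K.index := by
  refine Nat.coprime_of_dvd fun p hp hd hi => ?_
  have := Fact.mk hp
  obtain ⟨⟨y, hy⟩, ho⟩ := exists_prime_orderOf_dvd_card' p hd
  rw [Subgroup.orderOf_mk] at ho
  have hpg : IsPGroup p (Subgroup.zpowers y) := IsPGroup.of_card (n := 1)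
    (by rw [Nat.card_zpowers, ho, pow_one])
  obtain ⟨P, hP⟩ := hpg.exists_le_sylow
  have hyP : y ∈ (P : Subgroup G) := hP (Subgroup.mem_zpowers y)
  have hy1 : y ≠ 1 := fun e => hp.ne_one (by rw [← ho, e, orderOf_one])
  have : Nontrivial (P : Subgroup G) :=
    ⟨⟨⟨y, hyP⟩, 1, fun e => hy1 (congrArg Subtype.val e)⟩⟩
  have := P.isPGroup'.center_nontrivial
  obtain ⟨⟨z, hzc⟩, hz1⟩ := exists_ne (1 : Subgroup.center (P : Subgroup G))
  have hz1' : (z : G) ≠ 1 := fun e => hz1 (Subtype.ext (Subtype.ext e))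
  have hc : ∀ w ∈ (P : Subgroup G), Commute w (z : G) := fun w hw =>
    congrArg Subtype.val (Subgroup.mem_center_iff.1 hzc ⟨w, hw⟩)
  have hzK : (z : G) ∈ K := hcc y hy hy1 (mem_cn.2 (hc y hyP).symm)
  exact P.not_dvd_index (hi.trans (Subgroup.index_dvd_of_le fun w hw =>
    hcc _ hzK hz1' (mem_cn.2 (hc w hw))))

/-- A non-trivial normal subgroup of a nilpotent group meets the centre. -/
theorem inf_center_ne_bot {N : Type u} [Group N] [Group.IsNilpotent N] (A : Subgroup N) [A.Normal]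
    (hA : A ≠ ⊥) : A ⊓ Subgroup.center N ≠ ⊥ := by
  classical
  have hex : ∃ n, A ⊓ Subgroup.upperCentralSeries N n ≠ ⊥ := by
    obtain ⟨n, hn⟩ := Group.IsNilpotent.nilpotent' (G := N)
    exact ⟨n, by rw [hn, inf_top_eq]; exact hA⟩
  have h1 := Nat.find_spec hex
  obtain ⟨k, hk⟩ : ∃ k, Nat.find hex = k + 1 := Nat.exists_eq_succ_of_ne_zero fun h => by
    rw [h, Subgroup.upperCentralSeries_zero, inf_bot_eq] at h1
    exact h1 rfl
  have h2 : A ⊓ Subgroup.upperCentralSeries N k = ⊥ := not_not.1 (Nat.find_min hex (by omega))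
  obtain ⟨x, hx, hx1⟩ := (A ⊓ Subgroup.upperCentralSeries N (Nat.find hex)).bot_or_exists_ne_one.resolve_left h1
  rw [hk] at hx
  intro h
  refine hx1 (Subgroup.mem_bot.1 (h ▸ ⟨hx.1, Subgroup.mem_center_iff.2 fun y => ?_⟩))
  have hy : ⁅x, y⁆ ∈ A ⊓ Subgroup.upperCentralSeries N k := by
    refine ⟨?_, Subgroup.mem_upperCentralSeries_succ_iff.1 hx.2 y⟩
    rw [commutatorElement_def, show x * y * x⁻¹ * y⁻¹ = x * (y * x⁻¹ * y⁻¹) by group]
    exact A.mul_mem hx.1 ((inferInstance : A.Normal).conj_mem _ (A.inv_mem hx.1) y)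
  rw [h2, Subgroup.mem_bot, commutatorElement_eq_one_iff_mul_comm] at hy
  exact hy.symm

/-- The configuration exists. -/
theorem cfg_of_simple [IsSimpleGroup G] (hna : ∃ a b : G, a * b ≠ b * a) (ht : orderOf t = 2)
    (hcc : ∀ x ∈ cn t, x ≠ 1 → cn x ≤ cn t)
    (hti : ∀ (x g : G), x ∈ cn t → x ≠ 1 → g * x * g⁻¹ ∈ cn t → g ∈ nm t) : Cfg t := by
  classical
  have ht1 : t ≠ 1 := SignalizerStrongEmb.involution_ne_one ht
  have hhall := coprime_of_cc hcc
  have h2 : 2 ∣ Nat.card (cn t) := ht ▸ Subgroup.orderOf_dvd_natCard _ (self_mem_cn t)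
  have hodd : Odd (kk t) := by
    rw [Nat.odd_iff]
    by_contra hne
    exact Nat.prime_two.not_dvd_one
      (hhall ▸ Nat.dvd_gcd h2 ((show 2 ∣ kk t by omega).trans (Dvd.intro _ (kk_mul_index t))))
  have hntop : nm t ≠ ⊤ := by
    intro e
    obtain ⟨a, b, hab⟩ := hna
    have hn : (cn t).Normal := Subgroup.normalizer_eq_top_iff.1 e
    rcases hn.eq_bot_or_eq_top with h | h
    · exact ht1 ((Subgroup.eq_bot_iff_forall _).1 h t (self_mem_cn t))
    · have htc : t ∈ Subgroup.center G := Subgroup.mem_center_iff.2 fun g =>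
        (mem_cn.1 (h ▸ Subgroup.mem_top g)).eq
      rcases (inferInstance : (Subgroup.center G).Normal).eq_bot_or_eq_top with h' | h'
      · exact ht1 ((Subgroup.eq_bot_iff_forall _).1 h' t htc)
      · exact hab ((Subgroup.mem_center_iff.1 (h' ▸ Subgroup.mem_top b)) a)
  have hse : Cfsg.IsStronglyEmbedded (nm t) := by
    have hin : ∀ y ∈ nm t, orderOf y = 2 → y ∈ cn t := fun y hy ho =>
      mem_of_coprime hy (by rw [ho]; exact Nat.coprime_two_left.2 hodd)
    refine SignalizerStrongEmb.isStronglyEmbedded_iff.2 ⟨hntop, ?_, fun y hy ho g hg => ?_⟩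
    · exact even_iff_two_dvd.2 (ht ▸ Subgroup.orderOf_dvd_natCard _ (cn_le_nm t (self_mem_cn t)))
    · exact hti y g (hin y hy ho) (SignalizerStrongEmb.involution_ne_one ho)
        (hin _ hg ((SignalizerStrongEmb.orderOf_conj g y).trans ho))
  refine ⟨ht, hcc, hti, hhall, fun u v hu hv => SignalizerStrongEmb.isConj_involutions hse hu hv,
    fun e => ?_, hodd, hntop⟩
  have hNM : nm t ≤ cn t := by rwa [kk, Subgroup.relIndex_eq_one] at e
  have hMtop : cn t ≠ ⊤ := fun e' => hntop (top_le_iff.1 (e' ▸ cn_le_nm t))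
  have hF : Cfsg.IsFrobeniusComplement (cn t) := by
    refine FrobeniusBasic.isFrobeniusComplement_of_ti
      (fun e' => ht1 ((Subgroup.eq_bot_iff_forall _).1 e' t (self_mem_cn t))) hMtop ?_
    intro g x hx hx1 hg
    have := hNM (hti x g⁻¹ hx hx1 (by rwa [inv_inv]))
    simpa using inv_mem this
  obtain ⟨K, hK, hKn, hcompl, -⟩ := FrobeniusNilpotent.exists_nilpotent_kernel hF
  rcases hKn.eq_bot_or_eq_top with h | h
  · exact FrobeniusBasic.kernel_ne_bot hF hK h
  · refine ht1 ((Subgroup.eq_bot_iff_forall _).1 ?_ t (self_mem_cn t))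
    have := hcompl.disjoint
    rwa [h, top_disjoint] at this

namespace Cfg

variable (H : Cfg t)
include H

theorem exists_point : ∃ p : Pts t, p ≠ base t := by
  classical
  have := Fintype.ofFinite (Pts t)
  have h := H.degree
  have := Nat.card_pos (α := cn t)
  obtain ⟨p, hp⟩ := Fintype.exists_ne_of_one_lt_card
    (by rw [← Nat.card_eq_fintype_card]; omega) (base t)
  exact ⟨p, hp⟩

theorem regular {p q : Pts t} (hp : p ≠ base t) (hq : q ≠ base t) :
    ∃ x ∈ cn t, x • p = q := by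
  classical
  have := Fintype.ofFinite (Pts t)
  let f : cn t → {z : Pts t // z ≠ base t} := fun x => ⟨(x : G) • p, fun e => hp (by
    have := (smul_base_eq (t := t)).2 (cn_le_nm t x.2)
    exact MulAction.injective (x : G) (e.trans this.symm))⟩
  have hf : Function.Injective f := by
    intro x y e
    have e' : (x : G) • p = (y : G) • p := congrArg Subtype.val e
    have hm : ((x : G)⁻¹ * y) • p = p := by rw [mul_smul, ← e', inv_smul_smul]
    by_contra hne
    exact hp (H.eq_base (mul_mem (inv_mem x.2) y.2)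
      (fun h1 => hne (Subtype.ext (inv_mul_eq_one.1 h1))) hm)
  have hcard : Nat.card (cn t) = Nat.card {z : Pts t // z ≠ base t} := by
    have h := H.degree
    rw [Nat.card_eq_fintype_card (α := Pts t)] at h
    rw [Nat.card_eq_fintype_card (α := {z : Pts t // z ≠ base t}), Fintype.card_subtype_compl,
      Fintype.card_subtype_eq]
    omega
  obtain ⟨x, hx⟩ := (hf.bijective_of_nat_card_le hcard.symm.le).2 ⟨q, hq⟩
  exact ⟨x, x.2, congrArg Subtype.val hx⟩

theorem two_trans (a b c d : Pts t) (hab : a ≠ b) (hcd : c ≠ d) :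
    ∃ g : G, g • a = c ∧ g • b = d := by
  obtain ⟨g, hg⟩ := exists_smul_eq G a (base t)
  obtain ⟨k, hk⟩ := exists_smul_eq G c (base t)
  have hgb : g • b ≠ base t := fun e => hab (MulAction.injective g (hg.trans e.symm))
  have hkd : k • d ≠ base t := fun e => hcd (MulAction.injective k (hk.trans e.symm))
  obtain ⟨x, hx, e⟩ := H.regular hgb hkd
  have hxb : x • base t = base t := smul_base_eq.2 (cn_le_nm t hx)
  exact ⟨k⁻¹ * x * g, by rw [mul_smul, mul_smul, hg, hxb, inv_smul_eq_iff, hk],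
    by rw [mul_smul, mul_smul, e, inv_smul_smul]⟩

theorem three (g : G) (a b c : Pts t) (hab : a ≠ b) (hbc : b ≠ c) (hac : a ≠ c)
    (ha : g • a = a) (hb : g • b = b) (hc : g • c = c) : g = 1 := by
  obtain ⟨k, hk⟩ := exists_smul_eq G a (base t)
  have hmem : ∀ z : Pts t, g • z = z → (k * g * k⁻¹) • (k • z) = k • z := fun z hz => by
    rw [mul_smul, mul_smul, inv_smul_smul, hz]
  have h0 : (k * g * k⁻¹) • base t = base t := hk ▸ hmem a ha
  by_contra h1
  exact hbc (MulAction.injective k (H.fix_two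
    (fun e => hac (MulAction.injective k (hk.trans e.symm))) (mem_stab.2 ⟨h0, hmem c hc⟩)
    (conj_ne_one' h1)
    (fun e => hab (MulAction.injective k (hk.trans e.symm))) (mem_stab.2 ⟨h0, hmem b hb⟩)))

/-- The action is that of a Zassenhaus group. -/
theorem isZassenhaus [IsSimpleGroup G] : Cfsg.IsZassenhausGroup G (Pts t) := by
  classical
  obtain ⟨p, hp⟩ := H.exists_point
  refine ⟨⟨fun {g g'} h => ?_⟩, ?_, H.three, ?_, ?_⟩
  · by_contra hne
    have h1 : ∀ z : Pts t, (g⁻¹ * g') • z = z := fun z => by rw [mul_smul, ← h z, inv_smul_smul]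
    have hd : g⁻¹ * g' ≠ 1 := fun e => hne (inv_mul_eq_one.1 e)
    obtain ⟨x, hx, hx1⟩ : ∃ x ∈ cn t, x ≠ 1 := ⟨t, H.t_mem, H.t_ne⟩
    have hxp : x • p ≠ base t := fun e => hp (by
      have := (smul_base_eq (t := t)).2 (cn_le_nm t hx)
      exact MulAction.injective x (e.trans this.symm))
    exact hd (H.three _ (base t) p (x • p) hp.symm
      (fun e => hp (H.eq_base hx hx1 e.symm)) hxp.symm (h1 _) (h1 _) (h1 _))
  · exact MulAction.is_two_pretransitive_iff.2 fun {a b c d} hab hcd => H.two_trans a b c d hab hcd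
  · have h3 := H.three_le_kk
    have : Nontrivial (stab t p) := by
      rw [← Finite.one_lt_card_iff_nontrivial, H.card_stab hp]; omega
    obtain ⟨⟨d, hd⟩, hd1⟩ := exists_ne (1 : stab t p)
    exact ⟨d, fun e => hd1 (Subtype.ext e), base t, p, hp.symm, (mem_stab.1 hd).1, (mem_stab.1 hd).2⟩
  · intro N hN hNt
    refine ⟨base t, fun hbot => ?_⟩
    rcases hN.eq_bot_or_eq_top with h | h
    · obtain ⟨n, hn⟩ := hNt.exists_smul_eq (base t) p
      have h1 : (n : G) = 1 := (Subgroup.eq_bot_iff_forall _).1 h _ n.2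
      exact hp (hn.symm.trans (show (n : G) • base t = base t by rw [h1, one_smul]))
    · have ht : (⟨t, h ▸ Subgroup.mem_top t⟩ : N) ∈ MulAction.stabilizer N (base t) :=
        (smul_base_eq.2 (cn_le_nm t H.t_mem) : t • base t = base t)
      erw [hbot, Subgroup.mem_bot] at ht
      exact H.t_ne (congrArg Subtype.val ht)

end Cfg

/-- The generic theorem. -/
theorem main [IsSimpleGroup G] (hna : ∃ a b : G, a * b ≠ b * a) (ht : orderOf t = 2)
    (hcc : ∀ x ∈ cn t, x ≠ 1 → cn x ≤ cn t)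
    (hti : ∀ (x g : G), x ∈ cn t → x ≠ 1 → g * x * g⁻¹ ∈ cn t → g ∈ nm t) :
    (∃ (F : Type) (_ : Field F) (_ : Fintype F),
        Nonempty (G ≃* Matrix.ProjectiveSpecialLinearGroup (Fin 2) F)) ∨ Cfsg.IsSuzuki G :=
  Cfsg.Agent.S0340.result (cfg_of_simple hna ht hcc hti).isZassenhaus

/-- The generic theorem, exporting the action on the cosets of the normaliser. -/
theorem zassenhaus [IsSimpleGroup G] (hna : ∃ a b : G, a * b ≠ b * a) (ht : orderOf t = 2)
    (hcc : ∀ x ∈ cn t, x ≠ 1 → cn x ≤ cn t)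
    (hti : ∀ (x g : G), x ∈ cn t → x ≠ 1 → g * x * g⁻¹ ∈ cn t → g ∈ nm t) :
    ∃ (Ω : Type u) (_ : MulAction G Ω) (_ : Finite Ω), Cfsg.IsZassenhausGroup G Ω :=
  ⟨Pts t, inferInstance, inferInstance, (cfg_of_simple hna ht hcc hti).isZassenhaus⟩

/-- A subgroup with a central involution, TI and containing the centralisers of its non-identity
elements, is the centraliser of that involution. -/
theorem cn_eq {C : Subgroup G} (htC : t ∈ C) (ht1 : t ≠ 1) (hZ : ∀ c ∈ C, c * t = t * c)
    (hcc : ∀ x ∈ C, x ≠ 1 → Subgroup.centralizer ({x} : Set G) ≤ C) : cn t = C :=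
  le_antisymm (hcc t htC ht1) fun c hc => mem_cn.2 (hZ c hc)

/-- The generic theorem for a subgroup with a central involution. -/
theorem main_of_subgroup [IsSimpleGroup G] (hna : ∃ a b : G, a * b ≠ b * a) (C : Subgroup G)
    (ht : orderOf t = 2) (htC : t ∈ C) (hZ : ∀ c ∈ C, c * t = t * c)
    (hcc : ∀ x ∈ C, x ≠ 1 → Subgroup.centralizer ({x} : Set G) ≤ C)
    (hti : ∀ (x g : G), x ∈ C → x ≠ 1 → g * x * g⁻¹ ∈ C → g ∈ Subgroup.normalizer (C : Set G)) :
    ((∃ (F : Type) (_ : Field F) (_ : Fintype F),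
        Nonempty (G ≃* Matrix.ProjectiveSpecialLinearGroup (Fin 2) F)) ∨ Cfsg.IsSuzuki G) ∧
      ∃ (Ω : Type u) (_ : MulAction G Ω) (_ : Finite Ω), Cfsg.IsZassenhausGroup G Ω := by
  have e := cn_eq htC (SignalizerStrongEmb.involution_ne_one ht) hZ hcc
  subst e
  exact ⟨main hna ht hcc hti, zassenhaus hna ht hcc hti⟩

/-- The generic theorem for a nilpotent subgroup of even order. -/
theorem main_of_nilpotent [IsSimpleGroup G] (hna : ∃ a b : G, a * b ≠ b * a) (C : Subgroup G)
    [Group.IsNilpotent C] (he : Even (Nat.card C))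
    (hcc : ∀ x ∈ C, x ≠ 1 → Subgroup.centralizer ({x} : Set G) ≤ C)
    (hti : ∀ (x g : G), x ∈ C → x ≠ 1 → g * x * g⁻¹ ∈ C → g ∈ Subgroup.normalizer (C : Set G)) :
    ((∃ (F : Type) (_ : Field F) (_ : Fintype F),
        Nonempty (G ≃* Matrix.ProjectiveSpecialLinearGroup (Fin 2) F)) ∨ Cfsg.IsSuzuki G) ∧
      ∃ (Ω : Type u) (_ : MulAction G Ω) (_ : Finite Ω), Cfsg.IsZassenhausGroup G Ω := by
  haveI := Fact.mk Nat.prime_two
  obtain ⟨P⟩ := (inferInstance : Nonempty (Sylow 2 C))
  haveI hPn : (P : Subgroup C).Normal := P.normal_of_normalizerCondition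
    Group.normalizerCondition_of_isNilpotent
  have hPne : (P : Subgroup C) ≠ ⊥ := P.ne_bot_of_dvd_card (even_iff_two_dvd.1 he)
  haveI : Nontrivial (P : Subgroup C) := (Subgroup.nontrivial_iff_ne_bot _).2 hPne
  have hne : (P : Subgroup C) ⊓ Subgroup.center C ≠ ⊥ :=
    inf_center_ne_bot (P : Subgroup C) hPne
  obtain ⟨w, ⟨hwP, hwZ⟩, hw1⟩ :=
    ((P : Subgroup C) ⊓ Subgroup.center C).bot_or_exists_ne_one.resolve_left hne
  obtain ⟨k, hk⟩ := IsPGroup.iff_orderOf.1 P.2 ⟨w, hwP⟩
  rw [Subgroup.orderOf_mk] at hk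
  have h2 : 2 ∣ orderOf w := by
    rcases k with _ | k
    · exact absurd (orderOf_eq_one_iff.1 (by simpa using hk)) hw1
    · rw [hk, pow_succ]; exact dvd_mul_left 2 _
  set z := w ^ (orderOf w / 2) with hz
  have hzo : orderOf (z : G) = 2 := by
    rw [Subgroup.orderOf_coe]; exact orderOf_pow_orderOf_div (orderOf_pos w).ne' h2
  have hzc : z ∈ Subgroup.center C := Subgroup.pow_mem _ hwZ _
  exact main_of_subgroup hna C hzo z.2
    (fun c hc => congrArg Subtype.val (Subgroup.mem_center_iff.1 hzc ⟨c, hc⟩)) hcc hti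

end Cfsg.Agent.CIT21Frob5
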