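import Mathlib
import Cfsg.Agent.Lib.CIT21Defs
import Cfsg.Agent.Lib.CIT21Frob5
import Cfsg.Agent.S0205

/-!
The TI case of the CIT theorem.
-/

set_option autoImplicit false
set_option linter.style.haveILetI false

namespace Cfsg.Agent.CIT21

open Cfsg.Agent.TICentralizers82 (cn nm mem_cn)

universe u

variable {G : Type u} [Group G] [Finite G]

/-- With TI Sylow 2-subgroups, the centraliser of a 2-central involution has the Frobenius
properties. -/
theorem frobenius_data (hc : IsCIT G) (hs : IsSimpleGroup G) (hna : ∃ a b : G, a * b ≠ b * a)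
    (hTI : ∀ S T : Sylow 2 G, S ≠ T → (S : Subgroup G) ⊓ (T : Subgroup G) = ⊥) :
    ∃ t : G, orderOf t = 2 ∧ (∀ x ∈ cn t, x ≠ 1 → cn x ≤ cn t) ∧
      ∀ (x g : G), x ∈ cn t → x ≠ 1 → g * x * g⁻¹ ∈ cn t → g ∈ nm t := by
  haveI := hs
  haveI := Fact.mk Nat.prime_two
  have h2 : 2 ∣ Nat.card G := by
    by_contra hne
    have hodd : Odd (Nat.card G) := Nat.odd_iff.2 (by omega)
    have := Cfsg.Agent.S0205.result hodd
    obtain ⟨a, b, hab⟩ := hna
    exact hab (IsSimpleGroup.comm_iff_isSolvable.2 this a b)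
  obtain ⟨S⟩ := (inferInstance : Nonempty (Sylow 2 G))
  haveI : Nontrivial (S : Subgroup G) :=
    (Subgroup.nontrivial_iff_ne_bot _).2 (S.ne_bot_of_dvd_card h2)
  haveI := S.isPGroup'.center_nontrivial
  obtain ⟨w, hw⟩ := exists_prime_orderOf_dvd_card' (G := Subgroup.center (S : Subgroup G)) 2 (by
    obtain ⟨k, hk⟩ := (S.isPGroup'.to_subgroup (Subgroup.center (S : Subgroup G))).exists_card_eq
    rcases k with _ | k
    · rw [pow_zero] at hk
      exact absurd hk (Finite.one_lt_card (α := Subgroup.center (S : Subgroup G))).ne'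
    · rw [hk, pow_succ]; exact dvd_mul_left 2 _)
  set t : G := ((w : (S : Subgroup G)) : G) with htdef
  have ot : orderOf t = 2 := by rw [htdef, Subgroup.orderOf_coe, Subgroup.orderOf_coe, hw]
  have hSt : cn t = S := (S.3 (hc t ot) fun y hy => mem_cn.2
    (congrArg Subtype.val (Subgroup.mem_center_iff.1 w.2 ⟨y, hy⟩)))
  have heq : ∀ (T : Sylow 2 G) (x : G), x ∈ (S : Subgroup G) → x ∈ (T : Subgroup G) → x ≠ 1 →
      T = S := by
    intro T x hxS hxT hx1
    by_contra hne
    exact hx1 ((Subgroup.eq_bot_iff_forall _).1 (hTI S T (Ne.symm hne)) x ⟨hxS, hxT⟩)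
  refine ⟨t, ot, fun x hx hx1 => ?_, fun x g hx hx1 hgx => ?_⟩
  · rw [hSt] at hx ⊢
    obtain ⟨k, hk⟩ := IsPGroup.iff_orderOf.1 S.2 ⟨x, hx⟩
    rw [Subgroup.orderOf_mk] at hk
    have hd : 2 ∣ orderOf x := by
      rcases k with _ | k
      · exact absurd (orderOf_eq_one_iff.1 (by simpa using hk)) hx1
      · rw [hk, pow_succ]; exact dvd_mul_left 2 _
    have hinv : orderOf (x ^ (orderOf x / 2)) = 2 := orderOf_pow_orderOf_div (orderOf_pos x).ne' hd
    have hp : IsPGroup 2 (cn x) := (hc _ hinv).to_le fun y hy =>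
      mem_cn.2 ((mem_cn.1 hy).pow_right _)
    obtain ⟨T, hT⟩ := hp.exists_le_sylow
    rwa [heq T x hx (hT (TICentralizers82.self_mem_cn x)) hx1] at hT
  · rw [hSt] at hx hgx
    rw [TICentralizers82.nm, hSt]
    have hgS : g • S = S := heq (g • S) (g * x * g⁻¹) hgx (by
      rw [Sylow.coe_subgroup_smul]
      exact Subgroup.smul_mem_pointwise_smul x (MulAut.conj g) _ hx) (by simpa using hx1)
    exact Sylow.smul_eq_iff_mem_normalizer.1 hgS

/-- The TI case: `PSL₂(F)` or Suzuki order. -/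
theorem frobenius {G : Type*} [Group G] [Finite G] : FrobeniusSpec G := fun hc hs hna hTI => by
  haveI := hs
  obtain ⟨t, ot, hcc, hti⟩ := frobenius_data hc hs hna hTI
  exact CIT21Frob5.main hna ot hcc hti

/-- The TI case: the Zassenhaus action. -/
theorem frobenius_zassenhaus (hc : IsCIT G) (hs : IsSimpleGroup G)
    (hna : ∃ a b : G, a * b ≠ b * a)
    (hTI : ∀ S T : Sylow 2 G, S ≠ T → (S : Subgroup G) ⊓ (T : Subgroup G) = ⊥) :
    ∃ (Ω : Type u) (_ : MulAction G Ω) (_ : Finite Ω), Cfsg.IsZassenhausGroup G Ω := by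
  haveI := hs
  obtain ⟨t, ot, hcc, hti⟩ := frobenius_data hc hs hna hTI
  exact CIT21Frob5.zassenhaus hna ot hcc hti

end Cfsg.Agent.CIT21
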