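import Cfsg.Agent.Lib.CIT21Basic
import Cfsg.Prelude.Def_Transfer

/-!
# CIT groups: climbing from intersections of Sylow subgroups to `2`-locals (S0348)
-/

set_option autoImplicit false

namespace Cfsg.Agent.CIT21

open Subgroup

variable {G : Type*} [Group G]

/-- The subgroup generated by the abelian subgroups of `R` of largest order. -/
def J (R : Subgroup G) : Subgroup G := sSup {A | MaxAb R A}

theorem le_conj_map_iff {g : G} {H : Subgroup G} {x : G} :
    x ∈ H.map (MulAut.conj g).toMonoidHom ↔ g⁻¹ * x * g ∈ H := by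
  rw [mem_map_equiv]; simp [mul_assoc]

theorem conj_mem_map {g : G} {H : Subgroup G} {x : G} (hx : x ∈ H) :
    g * x * g⁻¹ ∈ H.map (MulAut.conj g).toMonoidHom := by
  rw [le_conj_map_iff]; simpa [mul_assoc] using hx

theorem map_eq_of_mem_normalizer {g : G} {H : Subgroup G} (hg : g ∈ normalizer (H : Set G)) :
    H.map (MulAut.conj g).toMonoidHom = H := by
  ext x
  rw [le_conj_map_iff, mem_normalizer_iff.1 hg (g⁻¹ * x * g)]
  simp [mul_assoc]

theorem mem_normalizer_of_map_eq {g : G} {H : Subgroup G}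
    (h : H.map (MulAut.conj g).toMonoidHom = H) : g ∈ normalizer (H : Set G) := by
  rw [mem_normalizer_iff]
  intro x
  refine ⟨fun hx => h ▸ conj_mem_map hx, fun hx => ?_⟩
  rw [← h, le_conj_map_iff] at hx
  simpa [mul_assoc] using hx

theorem isPGroup_conj {g : G} {H : Subgroup G} (hH : IsPGroup 2 H) :
    IsPGroup 2 (H.map (MulAut.conj g).toMonoidHom) := hH.map _

theorem card_conj (g : G) (H : Subgroup G) :
    Nat.card ↥(H.map (MulAut.conj g).toMonoidHom) = Nat.card H :=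
  card_map_of_injective (MulEquiv.injective _)

theorem map_conj_map (g h : G) (H : Subgroup G) :
    (H.map (MulAut.conj h).toMonoidHom).map (MulAut.conj g).toMonoidHom =
      H.map (MulAut.conj (g * h)).toMonoidHom := by
  ext x
  simp only [le_conj_map_iff, mul_inv_rev, mul_assoc]

theorem map_conj_one (H : Subgroup G) : H.map (MulAut.conj (1 : G)).toMonoidHom = H := by
  ext x; simp [le_conj_map_iff]

theorem isMulCommutative_map {A : Subgroup G} (h : IsMulCommutative A) (f : G →* G) :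
    IsMulCommutative (A.map f) :=
  ⟨⟨fun a b => by
    obtain ⟨x, hx, hx'⟩ := a.2
    obtain ⟨y, hy, hy'⟩ := b.2
    apply Subtype.ext
    show (a : G) * b = b * a
    rw [← hx', ← hy', ← map_mul, ← map_mul]
    exact congrArg f (congrArg Subtype.val (h.is_comm.comm ⟨x, hx⟩ ⟨y, hy⟩))⟩⟩

theorem maxAb_map {R A : Subgroup G} (g : G) (h : MaxAb R A) :
    MaxAb (R.map (MulAut.conj g).toMonoidHom) (A.map (MulAut.conj g).toMonoidHom) := by
  refine ⟨map_mono h.1, isMulCommutative_map h.2.1 _, fun B hB hBc => ?_⟩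
  have hB' : B.map (MulAut.conj g⁻¹).toMonoidHom ≤ R := by
    refine (map_mono hB).trans ?_
    rw [map_conj_map, inv_mul_cancel, map_conj_one]
  have := h.2.2 _ hB' (isMulCommutative_map hBc _)
  rw [card_conj] at this ⊢
  exact this

theorem J_map_le (g : G) (R : Subgroup G) :
    (J R).map (MulAut.conj g).toMonoidHom ≤ J (R.map (MulAut.conj g).toMonoidHom) :=
  map_le_iff_le_comap.2 (sSup_le fun _ hA => map_le_iff_le_comap.1 (le_sSup (maxAb_map g hA)))

theorem J_map (g : G) (R : Subgroup G) :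
    J (R.map (MulAut.conj g).toMonoidHom) = (J R).map (MulAut.conj g).toMonoidHom := by
  refine le_antisymm ?_ (J_map_le g R)
  have h := map_mono (f := (MulAut.conj g).toMonoidHom)
    (J_map_le g⁻¹ (R.map (MulAut.conj g).toMonoidHom))
  rw [map_conj_map g g⁻¹, map_conj_map g⁻¹ g, inv_mul_cancel, mul_inv_cancel, map_conj_one,
    map_conj_one] at h
  exact h

theorem normalizer_le_normalizer_J (R : Subgroup G) :
    normalizer (R : Set G) ≤ normalizer (J R : Set G) := fun g hg =>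
  mem_normalizer_of_map_eq (by rw [← J_map, map_eq_of_mem_normalizer hg])

theorem J_le (R : Subgroup G) : J R ≤ R := sSup_le fun _ h => h.1

theorem le_J {R A : Subgroup G} (h : MaxAb R A) : A ≤ J R := le_sSup h

variable [Finite G]

theorem exists_maxAb (R : Subgroup G) : ∃ A, MaxAb R A := by
  obtain ⟨A, ⟨hA, hAc⟩, hmax⟩ := Set.exists_max_image
    {A : Subgroup G | A ≤ R ∧ IsMulCommutative A} (fun A : Subgroup G => Nat.card A)
    (Set.toFinite _) ⟨⊥, bot_le, inferInstance⟩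
  exact ⟨A, hA, hAc, fun B hB hBc => hmax B ⟨hB, hBc⟩⟩

theorem J_ne_bot {R : Subgroup G} (hR : R ≠ ⊥) : J R ≠ ⊥ := by
  obtain ⟨A, hA⟩ := exists_maxAb R
  intro h
  obtain ⟨r, hr⟩ := R.ne_bot_iff_exists_ne_one.1 hR
  have h1 := hA.2.2 (zpowers (r : G)) (zpowers_le.2 r.2) inferInstance
  have h2 : A = ⊥ := le_bot_iff.1 (h ▸ le_J hA)
  rw [h2, Subgroup.card_bot] at h1
  have h3 : zpowers (r : G) = ⊥ := eq_bot_of_card_le _ h1
  exact hr (Subtype.ext (zpowers_eq_bot.1 h3))

/-- If all abelian subgroups of largest order lie in `D`, the Thompson subgroups agree. -/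
theorem J_eq_of_le {R D : Subgroup G} (hDR : D ≤ R) (h : ∀ A, MaxAb R A → A ≤ D) :
    J R = J D := by
  obtain ⟨A₀, hA₀⟩ := exists_maxAb R
  refine le_antisymm (sSup_le fun A hA => le_J ⟨h A hA, hA.2.1, fun B hB hBc =>
    hA.2.2 B (hB.trans hDR) hBc⟩) (sSup_le fun A hA => le_J ⟨hA.1.trans hDR, hA.2.1, ?_⟩)
  exact fun B hB hBc => (hA₀.2.2 B hB hBc).trans (hA.2.2 A₀ (h A₀ hA₀) hA₀.2.1)

/-! ### Maximal `2`-subgroups -/

/-- `R` is a maximal `2`-subgroup of `N`. -/
def IsMax2 (N R : Subgroup G) : Prop :=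
  R ≤ N ∧ IsPGroup 2 R ∧ ∀ P : Subgroup G, P ≤ N → IsPGroup 2 P → R ≤ P → P = R

theorem exists_max2 {N P : Subgroup G} (hP : P ≤ N) (hp : IsPGroup 2 P) :
    ∃ R, IsMax2 N R ∧ P ≤ R := by
  obtain ⟨R, ⟨hR, hRp, hPR⟩, hmax⟩ := Set.exists_max_image
    {R : Subgroup G | R ≤ N ∧ IsPGroup 2 R ∧ P ≤ R} (fun R : Subgroup G => Nat.card R)
    (Set.toFinite _) ⟨P, hP, hp, le_rfl⟩
  refine ⟨R, ⟨hR, hRp, fun Q hQ hQp hRQ => ?_⟩, hPR⟩
  exact (eq_of_le_of_card_ge hRQ (hmax Q ⟨hQ, hQp, hPR.trans hRQ⟩)).symm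

/-- A maximal `2`-subgroup of `N` contains `O₂(N)`. -/
theorem O2_le_max2 {N R : Subgroup G} (hR : IsMax2 N R) : O2 N ≤ R := by
  haveI : Fact (Nat.Prime 2) := ⟨Nat.prime_two⟩
  have h := hR.2.2 (R ⊔ O2 N) (sup_le hR.1 (O2_le N))
    (hR.2.1.to_sup_of_normal_right' (isPGroup_O2 N) (hR.1.trans (le_normalizer_O2 N))) le_sup_left
  exact h ▸ le_sup_right

/-- Maximal `2`-subgroups of `N` have the same order and are conjugate in `N`. -/
theorem max2_conj {N R R' : Subgroup G} (hR : IsMax2 N R) (hR' : IsMax2 N R') :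
    ∃ n ∈ N, R.map (MulAut.conj n).toMonoidHom = R' := by
  haveI : Fact (Nat.Prime 2) := ⟨Nat.prime_two⟩
  have key : ∀ {Q : Subgroup G}, IsMax2 N Q → ∃ T : Sylow 2 N, (T : Subgroup N).map N.subtype = Q := by
    intro Q hQ
    obtain ⟨T, hT⟩ := (hQ.2.1.comap_of_injective _ (subtype_injective N)).exists_le_sylow
    refine ⟨T, hQ.2.2 _ (map_subtype_le _) (T.isPGroup'.map _) ?_⟩
    intro x hx
    exact ⟨⟨x, hQ.1 hx⟩, hT hx, rfl⟩
  obtain ⟨T, hT⟩ := key hR
  obtain ⟨T', hT'⟩ := key hR'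
  obtain ⟨n, hn⟩ := MulAction.exists_smul_eq N T T'
  refine ⟨n, n.2, ?_⟩
  have e : (T' : Subgroup N) = (T : Subgroup N).map (MulAut.conj n).toMonoidHom := by
    rw [← hn, Sylow.coe_subgroup_smul]; rfl
  rw [← hT', ← hT, e, map_map, map_map]
  congr 1

theorem max2_card {N R R' : Subgroup G} (hR : IsMax2 N R) (hR' : IsMax2 N R') :
    Nat.card R = Nat.card R' := by
  obtain ⟨n, -, hn⟩ := max2_conj hR hR'
  rw [← hn, card_conj]

theorem max2_sylow (S : Sylow 2 G) {N : Subgroup G} (h : (S : Subgroup G) ≤ N) :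
    IsMax2 N (S : Subgroup G) :=
  ⟨h, S.isPGroup', fun _ _ hP hle => S.is_maximal' hP hle⟩

/-- Normaliser growth. -/
theorem exists_normalizing {H P : Subgroup G} (hP : IsPGroup 2 P) (hlt : H < P) :
    ∃ g ∈ P, g ∉ H ∧ g ∈ normalizer (H : Set G) := by
  haveI : Fact (Nat.Prime 2) := ⟨Nat.prime_two⟩
  haveI : Group.IsNilpotent P := hP.isNilpotent
  have hlt' : H.subgroupOf P < ⊤ := by
    refine lt_top_iff_ne_top.2 fun h => hlt.ne (le_antisymm hlt.le fun x hx => ?_)
    have := (h ▸ mem_top (⟨x, hx⟩ : P) : (⟨x, hx⟩ : P) ∈ H.subgroupOf P)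
    exact this
  obtain ⟨g, hg, hgH⟩ := SetLike.exists_of_lt (normalizerCondition_of_isNilpotent _ hlt')
  refine ⟨g, g.2, fun h => hgH h, mem_normalizer_iff.2 fun x => ⟨fun hx => ?_, fun hx => ?_⟩⟩
  · exact (mem_normalizer_iff.1 hg ⟨x, hlt.le hx⟩).1 hx
  · have hxP : x ∈ P := by
      have := P.mul_mem (P.mul_mem (P.inv_mem g.2) (hlt.le hx)) g.2
      simpa [mul_assoc] using this
    exact (mem_normalizer_iff.1 hg ⟨x, hxP⟩).2 hx

/-- A step of the climb: in a `2`-local `N = N(D)`, `D = O₂(N)`, with maximal `2`-subgroup `R`,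
either all abelian subgroups of largest order of `R` lie in `D`, or all maximal `2`-subgroups of `N`
are Sylow subgroups of `G`, any two related. -/
def StepOK (r : Sylow 2 G → Sylow 2 G → Prop) : Prop :=
  ∀ D R : Subgroup G, D ≠ ⊥ → O2 (normalizer (D : Set G)) = D →
    IsMax2 (normalizer (D : Set G)) R →
      (∀ A, MaxAb R A → A ≤ D) ∨
      ∀ S S' : Sylow 2 G, ∀ R' : Subgroup G, IsMax2 (normalizer (D : Set G)) R' →
        R ≤ (S : Subgroup G) → R' ≤ (S' : Subgroup G) → r S S'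

/-- Sylow subgroups with nontrivial intersection are related. -/
theorem climb [IsSimpleGroup G] (hna : ∃ a b : G, a * b ≠ b * a) (r : Sylow 2 G → Sylow 2 G → Prop)
    (refl : ∀ S, r S S) (symm : ∀ {S T}, r S T → r T S)
    (trans : ∀ {S T U}, r S T → r T U → r S U) (step : StepOK r)
    (hJ : ∀ S T : Sylow 2 G, J (S : Subgroup G) = J (T : Subgroup G) → r S T) :
    ∀ S T : Sylow 2 G, (S : Subgroup G) ⊓ (T : Subgroup G) ≠ ⊥ → r S T := by
  classical
  haveI : Fact (Nat.Prime 2) := ⟨Nat.prime_two⟩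
  suffices ∀ k, ∀ S T : Sylow 2 G, (S : Subgroup G) ⊓ (T : Subgroup G) ≠ ⊥ →
      Nat.card G - Nat.card ↥((S : Subgroup G) ⊓ (T : Subgroup G)) = k → r S T from
    fun S T h => this _ S T h rfl
  intro k
  induction k using Nat.strong_induction_on with
  | _ k ih => ?_
  intro S T hD₀ hk
  by_cases hST : S = T
  · subst hST; exact refl _
  set D₀ := (S : Subgroup G) ⊓ (T : Subgroup G) with hD₀def
  -- larger intersections
  have outer : ∀ S' T' : Sylow 2 G, ∀ P : Subgroup G, Nat.card D₀ < Nat.card P →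
      P ≤ (S' : Subgroup G) → P ≤ (T' : Subgroup G) → r S' T' := by
    intro S' T' P hP hPS hPT
    have hle : Nat.card P ≤ Nat.card ↥((S' : Subgroup G) ⊓ (T' : Subgroup G)) :=
      card_le_of_le (le_inf hPS hPT)
    refine ih _ ?_ S' T' ?_ rfl
    · have h1 : Nat.card ↥((S' : Subgroup G) ⊓ (T' : Subgroup G)) ≤ Nat.card G :=
        card_le_card_group _
      omega
    · intro hb
      rw [hb, Subgroup.card_bot] at hle
      have : 0 < Nat.card D₀ := Nat.card_pos
      omega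
  -- the inner climb
  have inner : ∀ n, ∀ N : Subgroup G, Nat.card G - Nat.card N = n → O2 N ≠ ⊥ →
      ∀ R R' : Subgroup G, IsMax2 N R → IsMax2 N R' → Nat.card D₀ < Nat.card R →
        ∀ SR SR' : Sylow 2 G, R ≤ (SR : Subgroup G) → R' ≤ (SR' : Subgroup G) → r SR SR' := by
    intro n
    induction n using Nat.strong_induction_on with
    | _ n ihn => ?_
    intro N hn hO R R' hR hR' hcard SR SR' hRS hRS'
    have hcard' : Nat.card D₀ < Nat.card R' := by rwa [← max2_card hR hR']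
    -- climbing into a larger subgroup
    have up : ∀ M : Subgroup G, N < M → O2 M ≠ ⊥ → r SR SR' := by
      intro M hNM hOM
      obtain ⟨R₁, hR₁, hRR₁⟩ := exists_max2 (hR.1.trans hNM.le) hR.2.1
      obtain ⟨R₁', hR₁', hRR₁'⟩ := exists_max2 (hR'.1.trans hNM.le) hR'.2.1
      obtain ⟨S₁, hS₁⟩ := hR₁.2.1.exists_le_sylow
      obtain ⟨S₁', hS₁'⟩ := hR₁'.2.1.exists_le_sylow
      have h1 : Nat.card N < Nat.card M := by
        refine lt_of_le_of_ne (card_le_of_le hNM.le) fun e => hNM.ne ?_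
        exact eq_of_le_of_card_ge hNM.le e.ge
      have h2 : Nat.card M ≤ Nat.card G := card_le_card_group _
      refine trans (outer SR S₁ R hcard hRS (hRR₁.trans hS₁))
        (trans (ihn _ (by omega) M rfl hOM R₁ R₁' hR₁ hR₁'
          (hcard.trans_le (card_le_of_le hRR₁)) S₁ S₁' hS₁ hS₁') ?_)
      exact outer S₁' SR' R' hcard' (hRR₁'.trans hS₁') hRS'
    set D := O2 N with hDdef
    have hNle : N ≤ normalizer (D : Set G) := le_normalizer_O2 N
    by_cases hNeq : N = normalizer (D : Set G)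
    swap
    · refine up _ (lt_of_le_of_ne hNle hNeq) fun h => hO (le_bot_iff.1 (h ▸ ?_))
      exact le_O2 ((O2_le N).trans hNle) le_rfl (isPGroup_O2 N)
    rw [hNeq] at hR hR'
    have hO2 : O2 (normalizer (D : Set G)) = D := by rw [← hNeq]
    rcases step D R hO hO2 hR with hA | hrel
    swap
    · exact hrel SR SR' R' hR' hRS hRS'
    have hJR : J R = J D := J_eq_of_le (hO2 ▸ O2_le_max2 hR) hA
    have hJD : J D ≠ ⊥ := J_ne_bot hO
    set M := normalizer (J D : Set G) with hM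
    have hNM : N ≤ M := hNeq.trans_le (normalizer_le_normalizer_J D)
    by_cases hMeq : N = M
    swap
    · refine up M (lt_of_le_of_ne hNM hMeq) fun h => hJD (le_bot_iff.1 (h ▸ ?_))
      exact le_O2 le_normalizer le_rfl ((isPGroup_O2 N).to_le (J_le D))
    -- `R` is a Sylow subgroup of `G`
    have hfull : ∀ (Q : Subgroup G) (SQ : Sylow 2 G), IsMax2 (normalizer (D : Set G)) Q →
        J Q = J D → Q ≤ (SQ : Subgroup G) → Q = (SQ : Subgroup G) := by
      intro Q SQ hQ hJQ hQS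
      by_contra hne
      obtain ⟨g, hgS, hgQ, hgn⟩ := exists_normalizing SQ.isPGroup' (lt_of_le_of_ne hQS hne)
      have hgN : g ∈ N := by
        rw [hMeq, hM, ← hJQ]
        exact normalizer_le_normalizer_J Q hgn
      have h := hQ.2.2 (Q ⊔ zpowers g) (sup_le hQ.1 (zpowers_le.2 (hNeq ▸ hgN)))
        (SQ.isPGroup'.to_le (sup_le hQS (zpowers_le.2 hgS))) le_sup_left
      exact hgQ (h ▸ le_sup_right (α := Subgroup G) (mem_zpowers g))
    have hJR' : J R' = J D := by
      obtain ⟨m, hm, hmR⟩ := max2_conj hR hR'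
      rw [← hmR, J_map, hJR]
      exact map_eq_of_mem_normalizer (normalizer_le_normalizer_J D hm)
    exact hJ SR SR' (by rw [← hfull R SR hR hJR hRS, ← hfull R' SR' hR' hJR' hRS', hJR, hJR'])
  -- normalisers of `D₀` in `S` and `T`
  set N₀ := normalizer (D₀ : Set G) with hN₀
  have hO : O2 N₀ ≠ ⊥ := fun h => hD₀ (le_bot_iff.1
    (h ▸ le_O2 le_normalizer le_rfl (S.isPGroup'.to_le inf_le_left)))
  have grow : ∀ U : Sylow 2 G, D₀ < (U : Subgroup G) →
      ∃ R, IsMax2 N₀ R ∧ Nat.card D₀ < Nat.card R ∧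
        Nat.card D₀ < Nat.card ↥((U : Subgroup G) ⊓ N₀) ∧ (U : Subgroup G) ⊓ N₀ ≤ R := by
    intro U hU
    obtain ⟨g, hgU, hgD, hgN⟩ := exists_normalizing U.isPGroup' hU
    obtain ⟨R, hR, hle⟩ := exists_max2 (N := N₀) inf_le_right
      (U.isPGroup'.to_le (inf_le_left (b := N₀)))
    have hlt : D₀ < (U : Subgroup G) ⊓ N₀ :=
      lt_of_le_of_ne (le_inf hU.le le_normalizer) fun e => hgD (e ▸ ⟨hgU, hgN⟩)
    have h2 : Nat.card D₀ < Nat.card ↥((U : Subgroup G) ⊓ N₀) := by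
      refine lt_of_le_of_ne (card_le_of_le hlt.le) fun e => hlt.ne ?_
      exact eq_of_le_of_card_ge hlt.le e.ge
    exact ⟨R, hR, h2.trans_le (card_le_of_le hle), h2, hle⟩
  have hSlt : D₀ < (S : Subgroup G) := lt_of_le_of_ne inf_le_left fun e =>
    hST (Sylow.ext (S.is_maximal' T.isPGroup' (inf_eq_left.1 (hD₀def ▸ e)))).symm
  have hTlt : D₀ < (T : Subgroup G) := lt_of_le_of_ne inf_le_right fun e =>
    hST (Sylow.ext (T.is_maximal' S.isPGroup' (inf_eq_right.1 (hD₀def ▸ e))))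
  obtain ⟨R, hR, hRc, hSc, hSR⟩ := grow S hSlt
  obtain ⟨R', hR', -, hTc, hTR⟩ := grow T hTlt
  obtain ⟨S₁, hS₁⟩ := hR.2.1.exists_le_sylow
  obtain ⟨T₁, hT₁⟩ := hR'.2.1.exists_le_sylow
  refine trans (outer S S₁ _ hSc inf_le_left (hSR.trans hS₁)) (trans
    (inner _ N₀ rfl hO R R' hR hR' hRc S₁ T₁ hS₁ hT₁) ?_)
  exact outer T₁ T _ hTc (hTR.trans hT₁) inf_le_left

end Cfsg.Agent.CIT21
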