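import Mathlib

/-!
# Recognition of `SL₂(2^n)` on its natural module from a quadratic offender

`Q` acts faithfully on the elementary abelian `2`-group `U`; elements of odd order act without
fixed points, every involution inverts a nontrivial element of odd order, centralisers of
involutions are `2`-groups, and `B` is a quadratic offender. We show that `U` is partitioned by
`c + 1` subgroups of order `c`, permuted by `Q` like the projective line.
-/

set_option autoImplicit false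

open Pointwise

namespace Cfsg.Agent.CIT21.Offender

theorem exists_two_pow_odd {M : Type*} [Group M] [Finite M] (x : M) :
    ∃ k : ℕ, Odd (orderOf (x ^ 2 ^ k)) := by
  obtain ⟨k, m, hm, he⟩ :=
    Nat.exists_eq_pow_mul_and_not_dvd (orderOf_pos x).ne' 2 (by norm_num)
  refine ⟨k, ?_⟩
  rw [orderOf_pow_of_dvd (by positivity) ⟨m, he⟩, he, Nat.mul_div_cancel_left _ (by positivity),
    Nat.odd_iff]
  omega

/-- If `a` inverts `x` of odd order, then `a * x` is conjugate to `a`. -/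
theorem conj_of_inverts {M : Type*} [Group M] {a x : M} (hx : Odd (orderOf x))
    (h : a * x * a⁻¹ = x⁻¹) : ∃ y : M, y * a * y⁻¹ = a * x := by
  obtain ⟨m, hm⟩ := hx
  refine ⟨(x ^ (m + 1))⁻¹, ?_⟩
  have h1 : a * x ^ (m + 1) * a⁻¹ = (x ^ (m + 1))⁻¹ := by rw [← conj_pow, h, inv_pow]
  have h2 : (x ^ (m + 1)) * x ^ (m + 1) = x := by
    rw [← pow_add, show m + 1 + (m + 1) = orderOf x + 1 by omega, pow_succ, pow_orderOf_eq_one,
      one_mul]
  rw [inv_inv, ← h1]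
  calc a * x ^ (m + 1) * a⁻¹ * a * x ^ (m + 1)
      = a * (x ^ (m + 1) * x ^ (m + 1)) := by group
    _ = a * x := by rw [h2]

variable {Q U : Type*} [Group Q] [Group U] [MulDistribMulAction Q U]

/-- Fixed subgroup of a set of elements. -/
def Fix (s : Set Q) : Subgroup U where
  carrier := {u | ∀ g ∈ s, g • u = u}
  one_mem' g _ := smul_one g
  mul_mem' hu hv g hg := by rw [smul_mul', hu g hg, hv g hg]
  inv_mem' hu g hg := by rw [smul_inv', hu g hg]

theorem mem_Fix {s : Set Q} {u : U} : u ∈ Fix (U := U) s ↔ ∀ g ∈ s, g • u = u := Iff.rfl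

theorem mem_fixE {a : Q} {u : U} : u ∈ Fix (U := U) ({a} : Set Q) ↔ a • u = u := by
  simp [mem_Fix]

theorem card_smul (g : Q) (X : Subgroup U) : Nat.card ↥(g • X) = Nat.card X :=
  Nat.card_congr (Subgroup.equivSMul g X).symm.toEquiv

theorem fixE_conj (g a : Q) :
    Fix (U := U) ({g * a * g⁻¹} : Set Q) = g • Fix (U := U) ({a} : Set Q) := by
  ext u
  rw [mem_fixE, Subgroup.mem_pointwise_smul_iff_inv_smul_mem, mem_fixE, mul_smul, mul_smul]
  constructor
  · intro h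
    conv_rhs => rw [← h, inv_smul_smul]
  · intro h
    rw [h, smul_inv_smul]

/-- The hypotheses. -/
structure Hyp (U : Type*) [Group U] [MulDistribMulAction Q U] (B : Subgroup Q) : Prop where
  sq : ∀ u : U, u * u = 1
  nt : ∃ u : U, u ≠ 1
  faith : ∀ g : Q, (∀ u : U, g • u = u) → g = 1
  fpf : ∀ x : Q, Odd (orderOf x) → x ≠ 1 → ∀ u : U, x • u = u → u = 1
  inv : ∀ a : Q, orderOf a = 2 → ∃ x, x ≠ 1 ∧ Odd (orderOf x) ∧ a * x * a⁻¹ = x⁻¹
  cit : ∀ r x : Q, orderOf r = 2 → x * r = r * x → ∃ k : ℕ, x ^ 2 ^ k = 1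
  B_ne : B ≠ ⊥
  quad : ∀ u : U, ∀ b ∈ B, ∀ b' ∈ B, b' • (u * b • u) = u * b • u
  ineq : Nat.card U ≤ Nat.card B * Nat.card ↥(Fix (U := U) (B : Set Q))

namespace Hyp

variable {B : Subgroup Q}

section
variable (h : Hyp U B)
include h

theorem inv_eq (u : U) : u⁻¹ = u := inv_eq_of_mul_eq_one_right (h.sq u)

theorem comm (u v : U) : u * v = v * u := by
  rw [← h.inv_eq (u * v), mul_inv_rev, h.inv_eq, h.inv_eq]

theorem mul_self_mul (u v : U) : u * (u * v) = v := by rw [← mul_assoc, h.sq, one_mul]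

theorem isPGroup_U : IsPGroup 2 U := fun u => ⟨1, by rw [pow_one, pow_two]; exact h.sq u⟩

theorem two_element_of_fixed [Finite Q] {x : Q} {v : U} (hv : v ≠ 1) (hx : x • v = v) :
    ∃ k : ℕ, x ^ 2 ^ k = 1 := by
  obtain ⟨k, hk⟩ := exists_two_pow_odd x
  refine ⟨k, ?_⟩
  by_contra hne
  refine hv (h.fpf _ hk hne v ?_)
  have hmem : x ∈ MulAction.stabilizer Q v := hx
  exact MulAction.mem_stabilizer_iff.1 (pow_mem hmem _)

/-- The element `u ↦ u * a • u` as a homomorphism. -/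
def disp (a : Q) : U →* U where
  toFun u := u * a • u
  map_one' := by simp
  map_mul' u v := by
    rw [smul_mul']
    calc u * v * (a • u * a • v) = u * (v * a • u) * a • v := by simp [mul_assoc]
      _ = u * (a • u * v) * a • v := by rw [h.comm v]
      _ = u * a • u * (v * a • v) := by simp [mul_assoc]

theorem disp_apply (a : Q) (u : U) : h.disp a u = u * a • u := rfl

theorem ker_disp (a : Q) : (h.disp a).ker = Fix ({a} : Set Q) := by
  ext u
  rw [MonoidHom.mem_ker, mem_fixE, disp_apply, mul_eq_one_iff_eq_inv, h.inv_eq, eq_comm]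

theorem fix_disjoint_conj [Finite U] [Finite Q] {a : Q} (ha : orderOf a = 2) :
    (∃ g : Q, Fix (U := U) ({a} : Set Q) ⊓ g • Fix ({a} : Set Q) = ⊥) ∧
      Nat.card ↥(Fix (U := U) ({a} : Set Q)) ^ 2 = Nat.card U := by
  obtain ⟨x, hx1, hxo, hx⟩ := h.inv a ha
  obtain ⟨y, hy⟩ := conj_of_inverts hxo hx
  have hd : Fix (U := U) ({a} : Set Q) ⊓ y • Fix ({a} : Set Q) = ⊥ := by
    rw [eq_bot_iff]
    rintro u ⟨hu0, hu0'⟩
    have hu : a • u = u := mem_fixE.1 hu0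
    have hu1 : u ∈ y • Fix (U := U) ({a} : Set Q) := hu0'
    rw [← fixE_conj, hy] at hu1
    have hu' : a • x • u = u := by rw [← mul_smul]; exact mem_fixE.1 hu1
    refine Subgroup.mem_bot.2 (h.fpf x hxo hx1 u ?_)
    exact MulAction.injective a (hu'.trans hu.symm)
  refine ⟨⟨y, hd⟩, le_antisymm ?_ ?_⟩
  · rw [pow_two]
    nth_rw 2 [← card_smul (U := U) y]
    rw [← Nat.card_prod]
    exact Nat.card_le_card_of_injective _ (Subgroup.mul_injective_of_disjoint (disjoint_iff.2 hd))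
  · have h1 : (h.disp a).range ≤ Fix ({a} : Set Q) := by
      rintro _ ⟨u, rfl⟩
      have ha2 : a * a = 1 := by rw [← pow_two, ← ha]; exact pow_orderOf_eq_one a
      rw [mem_fixE, disp_apply, smul_mul', ← mul_smul, ha2, one_smul, h.comm]
    have h2 : Nat.card U = Nat.card ↥(h.disp a).ker * Nat.card ↥(h.disp a).range := by
      rw [← Subgroup.card_mul_index (h.disp a).ker, Subgroup.index_ker]
    rw [h2, h.ker_disp, pow_two]
    exact Nat.mul_le_mul_left _ (Subgroup.card_le_of_le h1)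

/-- The transvection group of the subgroup `X`. -/
def Pt (X : Subgroup U) : Subgroup Q where
  carrier := {g | (∀ x ∈ X, g • x = x) ∧ ∀ u : U, u * g • u ∈ X}
  one_mem' := ⟨fun x _ => one_smul Q x, fun u => by rw [one_smul, h.sq]; exact X.one_mem⟩
  mul_mem' := by
    rintro g k ⟨hg, hg'⟩ ⟨hk, hk'⟩
    refine ⟨fun x hx => by rw [mul_smul, hk x hx, hg x hx], fun u => ?_⟩
    have e : (g * k) • u = g • u * (u * k • u) := by
      rw [mul_smul]
      conv_lhs => rw [← h.mul_self_mul u (k • u), smul_mul', hg _ (hk' u)]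
    rw [e, ← mul_assoc]
    exact X.mul_mem (hg' u) (hk' u)
  inv_mem' := by
    rintro g ⟨hg, hg'⟩
    refine ⟨fun x hx => ?_, fun u => ?_⟩
    · conv_lhs => rw [← hg x hx, inv_smul_smul]
    · have := hg' (g⁻¹ • u)
      rwa [smul_inv_smul, h.comm] at this

theorem mem_Pt {X : Subgroup U} {g : Q} :
    g ∈ h.Pt X ↔ (∀ x ∈ X, g • x = x) ∧ ∀ u : U, u * g • u ∈ X := Iff.rfl

theorem mem_Pt_smul {X : Subgroup U} {g k : Q} : g ∈ h.Pt (k • X) ↔ k⁻¹ * g * k ∈ h.Pt X := by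
  simp only [mem_Pt]
  refine and_congr ⟨fun H x hx => ?_, fun H x hx => ?_⟩ ⟨fun H u => ?_, fun H u => ?_⟩
  · rw [mul_smul, mul_smul, H _ (Subgroup.smul_mem_pointwise_smul x k X hx), inv_smul_smul]
  · rw [Subgroup.mem_pointwise_smul_iff_inv_smul_mem] at hx
    have := H _ hx
    rwa [mul_smul, mul_smul, smul_inv_smul, inv_smul_eq_iff, smul_inv_smul] at this
  · have := Subgroup.mem_pointwise_smul_iff_inv_smul_mem.1 (H (k • u))
    rwa [smul_mul', inv_smul_smul, ← mul_smul, ← mul_smul] at this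
  · rw [Subgroup.mem_pointwise_smul_iff_inv_smul_mem, smul_mul']
    have := H (k⁻¹ • u)
    rwa [mul_smul, mul_smul, smul_inv_smul] at this

theorem conj_mem_Pt {X : Subgroup U} {g k : Q} (hg : g ∈ h.Pt X) :
    k * g * k⁻¹ ∈ h.Pt (k • X) := by
  rw [mem_Pt_smul]
  simpa [mul_assoc] using hg

theorem Pt_sq {X : Subgroup U} {g : Q} (hg : g ∈ h.Pt X) : g * g = 1 := by
  refine h.faith _ fun u => ?_
  rw [mul_smul]
  conv_lhs => rw [← h.mul_self_mul u (g • u), smul_mul', hg.1 _ (hg.2 u), h.comm u (g • u),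
    h.mul_self_mul]

theorem Pt_comm {X : Subgroup U} {g k : Q} (hg : g ∈ h.Pt X) (hk : k ∈ h.Pt X) :
    g * k = k * g := by
  have e := h.Pt_sq (mul_mem hg hk)
  rw [← inv_eq_of_mul_eq_one_right e, mul_inv_rev, inv_eq_of_mul_eq_one_right (h.Pt_sq hg),
    inv_eq_of_mul_eq_one_right (h.Pt_sq hk)]

theorem Pt_orderOf {X : Subgroup U} {g : Q} (hg : g ∈ h.Pt X) (hg1 : g ≠ 1) : orderOf g = 2 :=
  orderOf_eq_prime (by rw [pow_two]; exact h.Pt_sq hg) hg1

theorem B_sq {b : Q} (hb : b ∈ B) : b * b = 1 := by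
  refine h.faith _ fun u => ?_
  rw [mul_smul]
  have := h.quad u b hb b hb
  rw [smul_mul', h.comm u] at this
  exact mul_left_cancel this

/-- The fixed space of the offender. -/
def W (_h : Hyp U B) : Subgroup U := Fix (B : Set Q)

/-- Its order. -/
noncomputable def c (h : Hyp U B) : ℕ := Nat.card h.W

theorem disp_mem_W {b : Q} (hb : b ∈ B) (u : U) : u * b • u ∈ h.W :=
  fun b' hb' => h.quad u b hb b' hb'


theorem B_le_Pt : B ≤ h.Pt h.W :=
  fun b hb => ⟨fun _ hx => hx b hb, fun u => h.disp_mem_W hb u⟩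

theorem card_U [Finite U] [Finite Q] : Nat.card U = h.c ^ 2 := by
  obtain ⟨b, hb, hb1⟩ := (Subgroup.bot_or_exists_ne_one B).resolve_left h.B_ne
  have h2 := (h.fix_disjoint_conj (h.Pt_orderOf (h.B_le_Pt hb) hb1)).2
  have hle : h.W ≤ Fix ({b} : Set Q) := fun u hu => mem_fixE.2 (hu b hb)
  have h1 : (h.disp b).range ≤ h.W := by
    rintro _ ⟨u, rfl⟩
    exact h.disp_mem_W hb u
  have h3 : Nat.card U = Nat.card ↥(h.disp b).ker * Nat.card ↥(h.disp b).range := by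
    rw [← Subgroup.card_mul_index (h.disp b).ker, Subgroup.index_ker]
  rw [h.ker_disp] at h3
  have h4 : Nat.card ↥(Fix (U := U) ({b} : Set Q)) ≤ h.c := by
    refine Nat.le_of_mul_le_mul_left (a := Nat.card ↥(Fix (U := U) ({b} : Set Q))) ?_
      (Nat.card_pos (α := ↥(Fix (U := U) ({b} : Set Q))))
    have h6 : Nat.card ↥(h.disp b).range ≤ h.c := Subgroup.card_le_of_le h1
    have h5 := Nat.mul_le_mul_left (Nat.card ↥(Fix (U := U) ({b} : Set Q))) h6
    rw [← h3, ← h2, pow_two] at h5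
    exact h5
  rw [← h2, show h.c = Nat.card ↥(Fix (U := U) ({b} : Set Q)) from
    le_antisymm (Subgroup.card_le_of_le hle) h4]

theorem two_le [Finite U] [Finite Q] : 2 ≤ h.c := by
  haveI : Nontrivial U := let ⟨u, hu⟩ := h.nt; ⟨⟨u, 1, hu⟩⟩
  have h1 : 1 < Nat.card U := Finite.one_lt_card
  rw [h.card_U] at h1
  by_contra hc
  interval_cases h.c <;> simp at h1

theorem c_pos [Finite U] [Finite Q] : 0 < h.c := lt_of_lt_of_le (by norm_num) h.two_le

theorem exists_ne_one [Finite U] [Finite Q] {X : Subgroup U} (hX : Nat.card X = h.c) :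
    ∃ v ∈ X, v ≠ 1 := by
  refine (Subgroup.bot_or_exists_ne_one X).resolve_left fun e => ?_
  have := h.two_le
  rw [← hX, e, Subgroup.card_bot] at this
  omega

theorem fix_eq [Finite U] [Finite Q] {X : Subgroup U} (hX : Nat.card X = h.c) {g : Q}
    (hg : g ∈ h.Pt X) (hg1 : g ≠ 1) : Fix (U := U) ({g} : Set Q) = X := by
  refine (Subgroup.eq_of_le_of_card_ge (fun x hx => mem_fixE.2 (hg.1 x hx)) ?_).symm
  have := (h.fix_disjoint_conj (h.Pt_orderOf hg hg1)).2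
  rw [h.card_U] at this
  rw [hX, Nat.pow_left_injective (by norm_num) this]

theorem ev_injective [Finite U] [Finite Q] {X : Subgroup U} (hX : Nat.card X = h.c) {v : U}
    (hv : v ∉ X) :
    Function.Injective (fun g : h.Pt X => (⟨v * (g : Q) • v, g.2.2 v⟩ : X)) := by
  intro g k e
  have e' : (g : Q) • v = (k : Q) • v := mul_left_cancel (congrArg Subtype.val e)
  by_contra hne
  apply hv
  have h1 : (k : Q)⁻¹ * g ≠ 1 := fun e1 => hne (Subtype.ext (inv_mul_eq_one.1 e1).symm)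
  rw [← h.fix_eq hX (mul_mem (inv_mem k.2) g.2) h1, mem_fixE, mul_smul, e', inv_smul_smul]

theorem card_Pt_le [Finite U] [Finite Q] {X : Subgroup U} (hX : Nat.card X = h.c) :
    Nat.card (h.Pt X) ≤ h.c := by
  obtain ⟨v, hv⟩ : ∃ v : U, v ∉ X := by
    by_contra! hall
    have e : X = ⊤ := eq_top_iff.2 fun x _ => hall x
    rw [e, Subgroup.card_top, h.card_U] at hX
    have := h.two_le
    nlinarith
  exact (Nat.card_le_card_of_injective _ (h.ev_injective hX hv)).trans hX.le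

theorem B_eq [Finite U] [Finite Q] : B = h.Pt h.W ∧ Nat.card B = h.c := by
  have h1 : h.c ≤ Nat.card B := by
    have := h.ineq
    rw [h.card_U, pow_two] at this
    exact Nat.le_of_mul_le_mul_right this h.c_pos
  have h2 := Subgroup.card_le_of_le h.B_le_Pt
  have h3 := h.card_Pt_le (X := h.W) rfl
  exact ⟨Subgroup.eq_of_le_of_card_ge h.B_le_Pt (h3.trans h1), le_antisymm (h2.trans h3) h1⟩

/-- The points of the projective line. -/
def Pts (h : Hyp U B) : Set (Subgroup U) := MulAction.orbit Q h.W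

theorem W_mem : h.W ∈ h.Pts := MulAction.mem_orbit_self _

theorem smul_mem {X : Subgroup U} (hX : X ∈ h.Pts) (g : Q) : g • X ∈ h.Pts := by
  obtain ⟨k, rfl⟩ := hX
  exact ⟨g * k, mul_smul g k h.W⟩

theorem Pt_map (g : Q) (X : Subgroup U) :
    (h.Pt X).map (MulAut.conj g).toMonoidHom = h.Pt (g • X) := by
  ext k
  rw [h.mem_Pt_smul, Subgroup.mem_map]
  refine ⟨?_, fun hk => ⟨g⁻¹ * k * g, hk, ?_⟩⟩
  · rintro ⟨l, hl, rfl⟩
    simpa [MulAut.conj_apply, mul_assoc] using hl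
  · simp [MulAut.conj_apply, mul_assoc]

theorem card_Pt_smul (g : Q) (X : Subgroup U) : Nat.card (h.Pt (g • X)) = Nat.card (h.Pt X) := by
  rw [← h.Pt_map]
  exact Subgroup.card_map_of_injective (MulAut.conj g).injective

theorem card_pt {X : Subgroup U} (hX : X ∈ h.Pts) : Nat.card X = h.c := by
  obtain ⟨k, rfl⟩ := hX
  exact card_smul k h.W

theorem card_Pt [Finite U] [Finite Q] {X : Subgroup U} (hX : X ∈ h.Pts) :
    Nat.card (h.Pt X) = h.c := by
  obtain ⟨k, rfl⟩ := hX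
  simp only [h.card_Pt_smul, ← h.B_eq.1, h.B_eq.2]

theorem exists_Pt_ne_one [Finite U] [Finite Q] {X : Subgroup U} (hX : X ∈ h.Pts) :
    ∃ a ∈ h.Pt X, a ≠ 1 := by
  refine (Subgroup.bot_or_exists_ne_one (h.Pt X)).resolve_left fun e => ?_
  have := h.two_le
  rw [← h.card_Pt hX, e, Subgroup.card_bot] at this
  omega

theorem ev_surj [Finite U] [Finite Q] {X : Subgroup U} (hX : X ∈ h.Pts) {v : U} (hv : v ∉ X)
    {x : U} (hx : x ∈ X) : ∃ g ∈ h.Pt X, g • v = v * x := by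
  have hb := (h.ev_injective (h.card_pt hX) hv).bijective_of_nat_card_le
    (by rw [h.card_pt hX, h.card_Pt hX])
  obtain ⟨g, hg⟩ := hb.2 ⟨x, hx⟩
  refine ⟨g, g.2, ?_⟩
  rw [show x = v * (g : Q) • v from (congrArg Subtype.val hg).symm, h.mul_self_mul]

theorem key [Finite U] [Finite Q] {X : Subgroup U} (hX : X ∈ h.Pts) {u : Q} (hu : orderOf u = 2)
    (hc : ∀ g ∈ h.Pt X, g * u = u * g) : u ∈ h.Pt X := by
  have hF : Nat.card ↥(Fix (U := U) ({u} : Set Q)) = h.c := by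
    have := (h.fix_disjoint_conj hu).2
    rw [h.card_U] at this
    exact Nat.pow_left_injective (by norm_num) this
  by_cases hle : Fix (U := U) ({u} : Set Q) ≤ X
  · have e : Fix (U := U) ({u} : Set Q) = X :=
      Subgroup.eq_of_le_of_card_ge hle (by rw [hF, h.card_pt hX])
    have hu2 : u * u = 1 := by rw [← pow_two, ← hu]; exact pow_orderOf_eq_one u
    refine ⟨fun x hx => mem_fixE.1 (e.ge hx), fun v => e.le (mem_fixE.2 ?_)⟩
    rw [smul_mul', ← mul_smul, hu2, one_smul, h.comm]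
  · exfalso
    obtain ⟨v, hvF, hv⟩ := SetLike.not_le_iff_exists.1 hle
    apply hle
    refine (Subgroup.eq_of_le_of_card_ge (fun x hx => ?_) (by rw [hF, h.card_pt hX])).ge
    obtain ⟨g, hg, e⟩ := h.ev_surj hX hv hx
    rw [← h.mul_self_mul v x, ← e]
    refine mul_mem hvF (mem_fixE.2 ?_)
    rw [← mul_smul, ← hc g hg, mul_smul, mem_fixE.1 hvF]

theorem pts_inter [Finite U] [Finite Q] {X Y : Subgroup U} (hX : X ∈ h.Pts) (hY : Y ∈ h.Pts)
    {v : U} (hv : v ≠ 1) (hvX : v ∈ X) (hvY : v ∈ Y) : X = Y := by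
  have hP : IsPGroup 2 (MulAction.stabilizer Q v) := fun x => by
    obtain ⟨k, hk⟩ := h.two_element_of_fixed hv x.2
    exact ⟨k, Subtype.ext (by simpa using hk)⟩
  have leX : h.Pt X ≤ MulAction.stabilizer Q v := fun g hg => hg.1 v hvX
  have leY : h.Pt Y ≤ MulAction.stabilizer Q v := fun g hg => hg.1 v hvY
  obtain ⟨a, ha, ha1⟩ := h.exists_Pt_ne_one hX
  haveI : Nontrivial (MulAction.stabilizer Q v) :=
    ⟨⟨⟨a, leX ha⟩, 1, fun e => ha1 (congrArg Subtype.val e)⟩⟩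
  haveI := hP.center_nontrivial
  obtain ⟨u, hu⟩ : ∃ u : Subgroup.center (MulAction.stabilizer Q v), orderOf u = 2 :=
    exists_prime_orderOf_dvd_card' 2 ((hP.to_subgroup _).nontrivial_iff_card.1 inferInstance |>.elim
      fun n hn => hn.2 ▸ dvd_pow_self 2 (by omega))
  have hu2 : orderOf ((u : MulAction.stabilizer Q v) : Q) = 2 := by
    rw [Subgroup.orderOf_coe, Subgroup.orderOf_coe, hu]
  have hcen : ∀ g ∈ MulAction.stabilizer Q v,
      g * ((u : MulAction.stabilizer Q v) : Q) = ((u : MulAction.stabilizer Q v) : Q) * g :=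
    fun g hg => congrArg Subtype.val (Subgroup.mem_center_iff.1 u.2 ⟨g, hg⟩)
  have hne : ((u : MulAction.stabilizer Q v) : Q) ≠ 1 := fun e => by
    rw [e, orderOf_one] at hu2; omega
  rw [← h.fix_eq (h.card_pt hX) (h.key hX hu2 fun g hg => hcen g (leX hg)) hne,
    h.fix_eq (h.card_pt hY) (h.key hY hu2 fun g hg => hcen g (leY hg)) hne]

theorem disjoint_pts [Finite U] [Finite Q] {X Y : Subgroup U} (hX : X ∈ h.Pts) (hY : Y ∈ h.Pts)
    (hne : X ≠ Y) : X ⊓ Y = ⊥ := by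
  by_contra hb
  obtain ⟨v, hv, hv1⟩ := (Subgroup.bot_or_exists_ne_one _).resolve_left hb
  exact hne (h.pts_inter hX hY hv1 hv.1 hv.2)

theorem decomp [Finite U] [Finite Q] {X Y : Subgroup U} (hX : X ∈ h.Pts) (hY : Y ∈ h.Pts)
    (hne : X ≠ Y) (v : U) : ∃ x ∈ X, ∃ y ∈ Y, v = y * x := by
  have hb := (Subgroup.mul_injective_of_disjoint
    (disjoint_iff.2 (h.disjoint_pts hY hX hne.symm))).bijective_of_nat_card_le
    (by rw [Nat.card_prod, h.card_pt hX, h.card_pt hY, h.card_U, pow_two])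
  obtain ⟨⟨y, x⟩, e⟩ := hb.2 v
  exact ⟨x, x.2, y, y.2, e.symm⟩

theorem exists_moving [Finite U] [Finite Q] : ∃ Y ∈ h.Pts, Y ≠ h.W := by
  obtain ⟨a, ha, ha1⟩ := h.exists_Pt_ne_one h.W_mem
  obtain ⟨g, hg⟩ := (h.fix_disjoint_conj (h.Pt_orderOf ha ha1)).1
  rw [h.fix_eq rfl ha ha1] at hg
  refine ⟨g • h.W, h.smul_mem h.W_mem g, fun e => ?_⟩
  rw [e, inf_idem] at hg
  obtain ⟨v, hv, hv1⟩ := h.exists_ne_one (X := h.W) rfl
  rw [hg] at hv
  exact hv1 hv

theorem exists_trans [Finite U] [Finite Q] {X Y Z : Subgroup U} (hX : X ∈ h.Pts) (hY : Y ∈ h.Pts)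
    (hZ : Z ∈ h.Pts) (hYX : Y ≠ X) (hZX : Z ≠ X) : ∃ b ∈ h.Pt X, b • Y = Z := by
  obtain ⟨v, hv, hv1⟩ := h.exists_ne_one (h.card_pt hZ)
  obtain ⟨x, hx, y, hy, rfl⟩ := h.decomp hX hY hYX.symm v
  have hyX : y ∉ X := fun hyX => hZX (h.pts_inter hZ hX hv1 hv (mul_mem hyX hx))
  obtain ⟨b, hb, e⟩ := h.ev_surj hX hyX hx
  exact ⟨b, hb, h.pts_inter (h.smul_mem hY b) hZ hv1
    (e ▸ Subgroup.smul_mem_pointwise_smul y b Y hy) hv⟩

theorem free [Finite U] [Finite Q] {X Y : Subgroup U} (hX : X ∈ h.Pts) (hY : Y ∈ h.Pts)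
    (hYX : Y ≠ X) {b : Q} (hb : b ∈ h.Pt X) (e : b • Y = Y) : b = 1 := by
  by_contra hb1
  obtain ⟨y, hy, hy1⟩ := h.exists_ne_one (h.card_pt hY)
  refine hYX (h.pts_inter hY hX hy1 hy ?_)
  rw [← h.fix_eq (h.card_pt hX) hb hb1, mem_fixE]
  have h1 : y * b • y ∈ Y ⊓ X :=
    ⟨mul_mem hy (e ▸ Subgroup.smul_mem_pointwise_smul y b Y hy), hb.2 y⟩
  rw [h.disjoint_pts hY hX hYX, Subgroup.mem_bot, mul_eq_one_iff_eq_inv, h.inv_eq] at h1
  exact h1.symm

theorem fixes_self {X : Subgroup U} {b : Q} (hb : b ∈ h.Pt X) : b • X = X := by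
  ext x
  rw [Subgroup.mem_pointwise_smul_iff_inv_smul_mem]
  have hi := inv_mem hb
  constructor
  · intro hx
    have := hb.1 _ hx
    rw [smul_inv_smul] at this
    rwa [this]
  · intro hx
    rwa [hi.1 x hx]

theorem inj [Finite U] [Finite Q] {X Y : Subgroup U} (hX : X ∈ h.Pts) (hY : Y ∈ h.Pts)
    (hYX : Y ≠ X) {b b' : Q} (hb : b ∈ h.Pt X) (hb' : b' ∈ h.Pt X) (e : b • Y = b' • Y) :
    b = b' := by
  have := h.free hX hY hYX (mul_mem (inv_mem hb') hb) (by rw [mul_smul, e, inv_smul_smul])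
  exact (inv_mul_eq_one.1 this).symm

theorem card_Pts [Finite U] [Finite Q] : h.Pts.ncard = h.c + 1 := by
  obtain ⟨Y, hY, hne⟩ := h.exists_moving
  have e : h.Pts = insert h.W ((fun b => b • Y) '' (h.Pt h.W : Set Q)) := by
    ext Z
    refine ⟨fun hZ => ?_, ?_⟩
    · by_cases hZW : Z = h.W
      · exact Or.inl hZW
      · exact Or.inr (h.exists_trans h.W_mem hY hZ hne hZW)
    · rintro (rfl | ⟨b, _, rfl⟩)
      · exact h.W_mem
      · exact h.smul_mem hY b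
  rw [e, Set.ncard_insert_of_notMem, Set.ncard_image_of_injOn]
  · rw [← Nat.card_coe_set_eq, SetLike.coe_sort_coe, h.card_Pt h.W_mem]
  · exact fun b hb b' hb' => h.inj h.W_mem hY hne hb hb'
  · rintro ⟨b, hb, e'⟩
    have e2 : b • Y = b • h.W := e'.trans (h.fixes_self hb).symm
    exact hne (MulAction.injective b e2)

theorem cover [Finite U] [Finite Q] (v : U) : ∃ X ∈ h.Pts, v ∈ X := by
  by_cases hv : v ∈ h.W
  · exact ⟨h.W, h.W_mem, hv⟩
  obtain ⟨Y, hY, hne⟩ := h.exists_moving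
  obtain ⟨x, hx, y, hy, rfl⟩ := h.decomp h.W_mem hY hne.symm v
  obtain ⟨b, _, e⟩ := h.ev_surj h.W_mem (fun hyW => hv (mul_mem hyW hx)) hx
  exact ⟨b • Y, h.smul_mem hY b, e ▸ Subgroup.smul_mem_pointwise_smul y b Y hy⟩

theorem mem_of_fixed [Finite U] [Finite Q] {X : Subgroup U} (hX : X ∈ h.Pts) {g : Q} {v : U}
    (hv1 : v ≠ 1) (hv : v ∈ X) (hg : g • v = v) : g • X = X :=
  h.pts_inter (h.smul_mem hX g) hX hv1 (hg ▸ Subgroup.smul_mem_pointwise_smul v g X hv) hv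

/-- A `2`-subgroup fixes some nontrivial vector. -/
theorem exists_fixed [Finite U] [Finite Q] {P : Subgroup Q} (hP : IsPGroup 2 P) :
    ∃ v : U, v ≠ 1 ∧ ∀ g ∈ P, g • v = v := by
  have h2 : 2 ∣ Nat.card U := by
    haveI : Nontrivial U := let ⟨u, hu⟩ := h.nt; ⟨⟨u, 1, hu⟩⟩
    obtain ⟨n, hn, e⟩ := h.isPGroup_U.nontrivial_iff_card.1 inferInstance
    exact e ▸ dvd_pow_self 2 (by omega)
  obtain ⟨v, hv, hv1⟩ := hP.exists_fixed_point_of_prime_dvd_card_of_fixed_point U h2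
    (a := 1) (fun g => smul_one _)
  exact ⟨v, fun e => hv1 e.symm, fun g hg => hv ⟨g, hg⟩⟩

/-- An element commuting with an involution fixing two points. -/
theorem exists_commuting [Finite U] [Finite Q] {X : Subgroup U} (hX : X ∈ h.Pts) {r : Q}
    (hr : orderOf r = 2) (hrX : r • X = X) : ∃ a ∈ h.Pt X, a ≠ 1 ∧ a * r = r * a := by
  have hr2 : r * r = 1 := by rw [← pow_two, ← hr]; exact pow_orderOf_eq_one r
  have hri : r⁻¹ = r := inv_eq_of_mul_eq_one_right hr2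
  obtain ⟨a, ha, ha1⟩ := h.exists_Pt_ne_one hX
  by_cases hc : a * r = r * a
  · exact ⟨a, ha, ha1, hc⟩
  have ha' : r * a * r ∈ h.Pt X := by
    have := h.conj_mem_Pt (k := r) ha
    rwa [hrX, hri] at this
  refine ⟨a * (r * a * r), mul_mem ha ha', fun e => hc ?_, ?_⟩
  · have e1 : r * a * r = a := by
      rw [← inv_eq_of_mul_eq_one_right e, inv_eq_of_mul_eq_one_right (h.Pt_sq ha)]
    calc a * r = r * a * r * r := by rw [e1]
      _ = r * a := by rw [mul_assoc _ r r, hr2, mul_one]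
  · calc a * (r * a * r) * r = a * r * a := by simp [mul_assoc, hr2]
      _ = r * ((r * a * r) * a) := by simp [← mul_assoc, hr2]
      _ = r * (a * (r * a * r)) := by rw [h.Pt_comm ha' ha]

/-- The two-point stabiliser has odd order. -/
theorem no_involution [Finite U] [Finite Q] {X Y : Subgroup U} (hX : X ∈ h.Pts) (hY : Y ∈ h.Pts)
    (hne : X ≠ Y) {r : Q} (hrX : r • X = X) (hrY : r • Y = Y) : orderOf r ≠ 2 := by
  intro hr
  obtain ⟨a, ha, ha1, hca⟩ := h.exists_commuting hX hr hrX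
  obtain ⟨a', ha', ha1', hca'⟩ := h.exists_commuting hY hr hrY
  have hP : IsPGroup 2 (Subgroup.centralizer ({r} : Set Q)) := fun x => by
    obtain ⟨k, hk⟩ := h.cit r x hr (Subgroup.mem_centralizer_singleton_iff.1 x.2)
    exact ⟨k, Subtype.ext (by simpa using hk)⟩
  obtain ⟨v, hv1, hv⟩ := h.exists_fixed hP
  have h1 : v ∈ X := h.fix_eq (h.card_pt hX) ha ha1 ▸
    mem_fixE.2 (hv a (Subgroup.mem_centralizer_singleton_iff.2 hca))
  have h2 : v ∈ Y := h.fix_eq (h.card_pt hY) ha' ha1' ▸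
    mem_fixE.2 (hv a' (Subgroup.mem_centralizer_singleton_iff.2 hca'))
  exact hne (h.pts_inter hX hY hv1 h1 h2)

theorem two_element_trivial [Finite U] [Finite Q] {X Y : Subgroup U} (hX : X ∈ h.Pts)
    (hY : Y ∈ h.Pts) (hne : X ≠ Y) {r : Q} (hrX : r • X = X) (hrY : r • Y = Y)
    (hr : ∃ k : ℕ, r ^ 2 ^ k = 1) : r = 1 := by
  obtain ⟨k, hk⟩ := hr
  induction k generalizing r with
  | zero => simpa using hk
  | succ k ih =>
    have h1 : (r * r) • X = X := by rw [mul_smul, hrX, hrX]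
    have h2 : (r * r) • Y = Y := by rw [mul_smul, hrY, hrY]
    have h3 : (r * r) ^ 2 ^ k = 1 := by rw [← pow_two, ← pow_mul, ← pow_succ', hk]
    have h4 := ih h1 h2 h3
    by_contra hr1
    exact h.no_involution hX hY hne hrX hrY (orderOf_eq_prime (by rw [pow_two, h4]) hr1)

/-- The stabiliser of a point is the semidirect product of `Pt X` and a two-point stabiliser. -/
theorem exists_factor [Finite U] [Finite Q] {X Y : Subgroup U} (hX : X ∈ h.Pts) (hY : Y ∈ h.Pts)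
    (hne : X ≠ Y) {g : Q} (hg : g • X = X) :
    ∃ b ∈ h.Pt X, ∃ k : Q, k • X = X ∧ k • Y = Y ∧ g = b * k := by
  have hgY : g • Y ≠ X := fun e => hne (MulAction.injective g (hg.trans e.symm))
  obtain ⟨b, hb, e⟩ := h.exists_trans hX hY (h.smul_mem hY g) hne.symm hgY
  refine ⟨b, hb, b⁻¹ * g, ?_, ?_, by group⟩
  · rw [mul_smul, hg]; exact h.fixes_self (inv_mem hb)
  · rw [mul_smul, ← e, inv_smul_smul]

/-- `2`-elements fixing a point lie in its transvection group. -/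
theorem two_element_mem [Finite U] [Finite Q] {X : Subgroup U} (hX : X ∈ h.Pts) {g : Q}
    (hg : g • X = X) (h2 : ∃ k : ℕ, g ^ 2 ^ k = 1) : g ∈ h.Pt X := by
  obtain ⟨Y, hY, hne⟩ : ∃ Y ∈ h.Pts, Y ≠ X := by
    obtain ⟨Y, hY, hne⟩ := h.exists_moving
    by_cases e : h.W = X
    · exact ⟨Y, hY, e ▸ hne⟩
    · exact ⟨h.W, h.W_mem, e⟩
  obtain ⟨b, hb, k, hkX, hkY, rfl⟩ := h.exists_factor hX hY hne.symm hg
  have hpow : ∀ n : ℕ, ∃ b' ∈ h.Pt X, (b * k) ^ n = b' * k ^ n := by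
    intro n
    induction n with
    | zero => exact ⟨1, one_mem _, by simp⟩
    | succ n ih =>
      obtain ⟨b', hb', e⟩ := ih
      have hkn : k ^ n • X = X := by
        have hmem : k ∈ MulAction.stabilizer Q X := hkX
        exact MulAction.mem_stabilizer_iff.1 (pow_mem hmem n)
      refine ⟨b' * (k ^ n * b * (k ^ n)⁻¹), mul_mem hb' ?_, ?_⟩
      · have := h.conj_mem_Pt (k := k ^ n) hb
        rwa [hkn] at this
      · rw [pow_succ, e, pow_succ]
        group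
  obtain ⟨m, hm⟩ := h2
  obtain ⟨b', hb', e⟩ := hpow (2 ^ m)
  rw [hm] at e
  have hk2 : ∃ j : ℕ, k ^ 2 ^ j = 1 := by
    refine ⟨m + 1, ?_⟩
    have hkb : k ^ 2 ^ m = b'⁻¹ := eq_inv_of_mul_eq_one_right e.symm
    rw [pow_succ, pow_mul, hkb, inv_pow, pow_two b', h.Pt_sq hb', inv_one]
  rw [h.two_element_trivial hX hY hne.symm hkX hkY hk2, mul_one]
  exact hb

theorem two_group_le [Finite U] [Finite Q] {P : Subgroup Q} (hP : IsPGroup 2 P) :
    ∃ X ∈ h.Pts, P ≤ h.Pt X := by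
  obtain ⟨v, hv1, hv⟩ := h.exists_fixed hP
  obtain ⟨X, hX, hvX⟩ := h.cover v
  refine ⟨X, hX, fun g hg => h.two_element_mem hX (h.mem_of_fixed hX hv1 hvX (hv g hg)) ?_⟩
  obtain ⟨k, hk⟩ := hP ⟨g, hg⟩
  exact ⟨k, by simpa using congrArg Subtype.val hk⟩

theorem involution_mem [Finite U] [Finite Q] {r : Q} (hr : orderOf r = 2) :
    ∃ X ∈ h.Pts, r ∈ h.Pt X := by
  have hP : IsPGroup 2 (Subgroup.zpowers r) :=
    IsPGroup.of_card (n := 1) (by rw [Nat.card_zpowers, hr, pow_one])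
  obtain ⟨X, hX, hle⟩ := h.two_group_le hP
  exact ⟨X, hX, hle (Subgroup.mem_zpowers r)⟩

theorem Pt_inf [Finite U] [Finite Q] {X Y : Subgroup U} (hX : X ∈ h.Pts) (hY : Y ∈ h.Pts)
    (hne : X ≠ Y) : h.Pt X ⊓ h.Pt Y = ⊥ := by
  by_contra hb
  obtain ⟨a, ha, ha1⟩ := (Subgroup.bot_or_exists_ne_one _).resolve_left hb
  exact hne ((h.fix_eq (h.card_pt hX) ha.1 ha1).symm.trans (h.fix_eq (h.card_pt hY) ha.2 ha1))

/-- Involutions of different transvection groups are conjugate. -/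
theorem conj_of_ne [Finite U] [Finite Q] {X Y : Subgroup U} (hX : X ∈ h.Pts) (hY : Y ∈ h.Pts)
    (hne : X ≠ Y) {a b : Q} (ha : a ∈ h.Pt X) (ha1 : a ≠ 1) (hb : b ∈ h.Pt Y) (hb1 : b ≠ 1) :
    ∃ y : Q, y * a * y⁻¹ = b := by
  have ha2 := h.Pt_sq ha
  have hb2 := h.Pt_sq hb
  have hai : a⁻¹ = a := inv_eq_of_mul_eq_one_right ha2
  have hbi : b⁻¹ = b := inv_eq_of_mul_eq_one_right hb2
  have hinv : a * (a * b) * a⁻¹ = (a * b)⁻¹ := by
    rw [← mul_assoc, ha2, one_mul, hai, mul_inv_rev, hai, hbi]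
  have hax : a * (a * b) = b := by rw [← mul_assoc, ha2, one_mul]
  by_cases ho : Odd (orderOf (a * b))
  · obtain ⟨y, hy⟩ := conj_of_inverts ho hinv
    exact ⟨y, hy.trans hax⟩
  exfalso
  obtain ⟨n, hn⟩ := Nat.not_odd_iff_even.1 ho
  set x := a * b with hx
  have hz : orderOf (x ^ n) = 2 := by
    refine orderOf_eq_prime ?_ fun e => ?_
    · rw [← pow_mul, show n * 2 = orderOf x by omega]; exact pow_orderOf_eq_one x
    · have := orderOf_pos x
      have h1 := Nat.le_of_dvd (by omega) (orderOf_dvd_of_pow_eq_one e)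
      omega
  have hz2 : (x ^ n)⁻¹ = x ^ n := inv_eq_of_mul_eq_one_right (by
    rw [← pow_two, ← hz]; exact pow_orderOf_eq_one _)
  have hza : a * x ^ n = x ^ n * a := by
    have hc : a * x ^ n * a⁻¹ = x ^ n := by rw [← conj_pow, hinv, inv_pow, hz2]
    exact mul_inv_eq_iff_eq_mul.1 hc
  have hzb : b * x ^ n = x ^ n * b := by
    rw [← hax, mul_assoc, ← pow_succ', pow_succ, ← mul_assoc, hza, mul_assoc]
  obtain ⟨Z, hZ, hzZ⟩ := h.involution_mem hz
  have hne1 : x ^ n ≠ 1 := fun e => by rw [e, orderOf_one] at hz; omega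
  have fixZ : ∀ g : Q, g * x ^ n = x ^ n * g → g • Z = Z := fun g hg => by
    rw [← h.fix_eq (h.card_pt hZ) hzZ hne1, ← fixE_conj, hg, mul_inv_cancel_right]
  refine hne ?_
  by_cases hZX : Z = X
  · by_contra hXY
    exact hb1 (h.free hY hZ (hZX ▸ hXY) hb (fixZ b hzb))
  · exact absurd (h.free hX hZ hZX ha (fixZ a hza)) ha1

end

/-- The stabiliser of two points. -/
def H2 (X Y : Subgroup U) : Subgroup Q := MulAction.stabilizer Q X ⊓ MulAction.stabilizer Q Y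

theorem mem_H2 {X Y : Subgroup U} {k : Q} : k ∈ H2 (Q := Q) X Y ↔ k • X = X ∧ k • Y = Y := Iff.rfl

section
variable (h : Hyp U B)
include h

theorem H2_commute [Finite U] [Finite Q] {X Y : Subgroup U} (hX : X ∈ h.Pts) (hY : Y ∈ h.Pts)
    (hne : X ≠ Y) {k a : Q} (hk : k ∈ H2 X Y) (ha : a ∈ h.Pt X) (ha1 : a ≠ 1)
    (hc : k * a = a * k) : k = 1 :=
  h.two_element_trivial hX hY hne hk.1 hk.2 (h.cit a k (h.Pt_orderOf ha ha1) hc)

theorem card_H2 [Finite U] [Finite Q] {X Y : Subgroup U} (hX : X ∈ h.Pts) (hY : Y ∈ h.Pts)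
    (hne : X ≠ Y) : Nat.card (H2 (Q := Q) X Y) = h.c - 1 := by
  obtain ⟨a, ha, ha1⟩ := h.exists_Pt_ne_one hX
  have e : (fun k => k * a * k⁻¹) '' (H2 (Q := Q) X Y : Set Q) = (h.Pt X : Set Q) \ {1} := by
    ext b
    refine ⟨?_, ?_⟩
    · rintro ⟨k, hk, rfl⟩
      refine ⟨?_, fun e => ha1 ?_⟩
      · have := h.conj_mem_Pt (k := k) ha
        rwa [hk.1] at this
      · simpa using e
    · rintro ⟨hb, hb1 : b ≠ 1⟩
      obtain ⟨a', ha', ha1'⟩ := h.exists_Pt_ne_one hY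
      obtain ⟨y, hy⟩ := h.conj_of_ne hX hY hne ha ha1 ha' ha1'
      obtain ⟨z, hz⟩ := h.conj_of_ne hY hX hne.symm ha' ha1' hb hb1
      have hk : (z * y) * a * (z * y)⁻¹ = b := by rw [← hz, ← hy]; group
      have hfix : (z * y) • X = X := by
        conv_lhs => rw [← h.fix_eq (h.card_pt hX) ha ha1, ← fixE_conj, hk,
          h.fix_eq (h.card_pt hX) hb hb1]
      obtain ⟨b', hb', k, hkX, hkY, e⟩ := h.exists_factor hX hY hne hfix
      refine ⟨k, ⟨hkX, hkY⟩, ?_⟩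
      have e' : k * a * k⁻¹ = b'⁻¹ * b * b' := by rw [← hk, e]; group
      simp only [e']
      rw [mul_assoc, h.Pt_comm hb hb', ← mul_assoc, inv_mul_cancel, one_mul]
  have hinj : Set.InjOn (fun k => k * a * k⁻¹) (H2 (Q := Q) X Y : Set Q) := by
    intro k hk k' hk' e'
    have := h.H2_commute hX hY hne (mul_mem (inv_mem hk') hk) ha ha1 (by
      have := congrArg (fun t => k'⁻¹ * t * k) e'
      simpa [mul_assoc] using this)
    exact (inv_mul_eq_one.1 this).symm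
  rw [← SetLike.coe_sort_coe, Nat.card_coe_set_eq, ← Set.ncard_image_of_injOn hinj, e,
    Set.ncard_diff_singleton_of_mem (one_mem (h.Pt X)), ← Nat.card_coe_set_eq,
    SetLike.coe_sort_coe, h.card_Pt hX]

theorem card_stab [Finite U] [Finite Q] {X : Subgroup U} (hX : X ∈ h.Pts) :
    Nat.card (MulAction.stabilizer Q X) = h.c * (h.c - 1) := by
  obtain ⟨Y, hY, hne⟩ : ∃ Y ∈ h.Pts, Y ≠ X := by
    obtain ⟨Y, hY, hne⟩ := h.exists_moving
    by_cases e : h.W = X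
    · exact ⟨Y, hY, e ▸ hne⟩
    · exact ⟨h.W, h.W_mem, e⟩
  rw [← h.card_H2 hX hY hne.symm, ← h.card_Pt hX, ← Nat.card_prod]
  refine (Nat.card_eq_of_bijective (fun p : h.Pt X × H2 (Q := Q) X Y =>
    (⟨p.1 * p.2, mul_mem (h.fixes_self p.1.2) p.2.2.1⟩ : MulAction.stabilizer Q X)) ⟨?_, ?_⟩).symm
  · rintro ⟨b, k⟩ ⟨b', k'⟩ e
    have e' : (b : Q) * k = b' * k' := congrArg Subtype.val e
    have hb : (b : Q) = b' := by
      refine h.inj hX hY hne b.2 b'.2 ?_
      calc (b : Q) • Y = ((b : Q) * k) • Y := by rw [mul_smul, (mem_H2.1 k.2).2]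
        _ = _ := by rw [e', mul_smul, (mem_H2.1 k'.2).2]
    exact Prod.ext (Subtype.ext hb) (Subtype.ext (mul_left_cancel (hb ▸ e')))
  · rintro ⟨g, hg⟩
    obtain ⟨b, hb, k, hkX, hkY, rfl⟩ := h.exists_factor hX hY hne.symm hg
    exact ⟨(⟨b, hb⟩, ⟨k, hkX, hkY⟩), rfl⟩

theorem card_Q [Finite U] [Finite Q] : Nat.card Q = (h.c + 1) * (h.c * (h.c - 1)) := by
  rw [← h.card_stab h.W_mem, ← h.card_Pts,
    show h.Pts = MulAction.orbit Q h.W from rfl, ← MulAction.index_stabilizer,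
    Subgroup.index_mul_card]

theorem trans_on_point [Finite U] [Finite Q] {X : Subgroup U} (hX : X ∈ h.Pts) {v w : U}
    (hv : v ∈ X) (hv1 : v ≠ 1) (hw : w ∈ X) (hw1 : w ≠ 1) : ∃ g : Q, g • X = X ∧ g • v = w := by
  obtain ⟨Y, hY, hne⟩ : ∃ Y ∈ h.Pts, Y ≠ X := by
    obtain ⟨Y, hY, hne⟩ := h.exists_moving
    by_cases e : h.W = X
    · exact ⟨Y, hY, e ▸ hne⟩
    · exact ⟨h.W, h.W_mem, e⟩
  have hinj : Set.InjOn (fun k : Q => k • v) (H2 (Q := Q) X Y : Set Q) := by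
    intro k hk k' hk' e
    have hm : k'⁻¹ * k ∈ H2 (Q := Q) X Y := mul_mem (inv_mem hk') hk
    have := h.two_element_trivial hX hY hne.symm hm.1 hm.2
      (h.two_element_of_fixed hv1 (by simp only at e; rw [mul_smul, e, inv_smul_smul]))
    exact (inv_mul_eq_one.1 this).symm
  have hsub : (fun k : Q => k • v) '' (H2 (Q := Q) X Y : Set Q) ⊆ (X : Set U) \ {1} := by
    rintro _ ⟨k, hk, rfl⟩
    refine ⟨?_, fun e => hv1 ?_⟩
    · have := Subgroup.smul_mem_pointwise_smul v k X hv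
      rwa [hk.1] at this
    · have e' : k • v = k • (1 : U) := by rw [smul_one]; exact e
      exact MulAction.injective k e'
  have heq := Set.eq_of_subset_of_ncard_le hsub (le_of_eq (by
    rw [Set.ncard_diff_singleton_of_mem (one_mem X), Set.ncard_image_of_injOn hinj,
      ← Nat.card_coe_set_eq, ← Nat.card_coe_set_eq, SetLike.coe_sort_coe, SetLike.coe_sort_coe,
      h.card_pt hX, h.card_H2 hX hY hne.symm])) (Set.toFinite _)
  obtain ⟨k, hk, e⟩ := heq.ge ⟨hw, hw1⟩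
  exact ⟨k, hk.1, e⟩

theorem exists_swap [Finite U] [Finite Q] {X Y : Subgroup U} (hX : X ∈ h.Pts) (hY : Y ∈ h.Pts)
    (hne : X ≠ Y) : ∃ t : Q, orderOf t = 2 ∧ t • X = Y ∧ t • Y = X ∧
      ∀ k : Q, k • X = X → k • Y = Y → t * k * t * k = 1 := by
  set T : Set (Subgroup U) := (h.Pts \ {X}) \ {Y} with hT
  have hch : ∀ Z ∈ T, ∃ b, b ∈ h.Pt Z ∧ b • X = Y := fun Z hZ =>
    h.exists_trans hZ.1.1 hX hY (Ne.symm hZ.1.2) (Ne.symm hZ.2)
  choose! f hf hf' using hch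
  set S : Set Q := {x | x • X = Y ∧ x • Y = X} with hS
  have hmap : f '' T ⊆ S := by
    rintro _ ⟨Z, hZ, rfl⟩
    refine ⟨hf' Z hZ, ?_⟩
    conv_lhs => rw [← hf' Z hZ, ← mul_smul, h.Pt_sq (hf Z hZ), one_smul]
  have hne1 : ∀ Z ∈ T, f Z ≠ 1 := fun Z hZ e => hne (by have := hf' Z hZ; rwa [e, one_smul] at this)
  have hinj : Set.InjOn f T := fun Z hZ Z' hZ' e => by
    have h1 := h.fix_eq (h.card_pt hZ.1.1) (hf Z hZ) (hne1 Z hZ)
    have h2 := h.fix_eq (h.card_pt hZ'.1.1) (hf Z' hZ') (hne1 Z' hZ')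
    rw [e] at h1
    exact h1.symm.trans h2
  have hTc : T.ncard = h.c - 1 := by
    rw [hT, Set.ncard_diff_singleton_of_mem (show Y ∈ h.Pts \ {X} from ⟨hY, Ne.symm hne⟩),
      Set.ncard_diff_singleton_of_mem hX, h.card_Pts]
    omega
  obtain ⟨Z, hZ⟩ : T.Nonempty := by
    rw [← Set.ncard_pos (Set.toFinite _), hTc]
    have := h.two_le
    omega
  have hs : f Z ∈ S := hmap ⟨Z, hZ, rfl⟩
  have hSc : S.ncard ≤ h.c - 1 := by
    rw [← h.card_H2 hX hY hne, ← Nat.card_coe_set_eq]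
    refine Nat.card_le_card_of_injective
      (fun x : S => (⟨f Z * (x : Q), mem_H2.2 ⟨?_, ?_⟩⟩ : H2 (Q := Q) X Y))
      fun x y e => Subtype.ext (mul_left_cancel (congrArg Subtype.val e))
    · show (f Z * (x : Q)) • X = X
      rw [mul_smul, x.2.1, hs.2]
    · show (f Z * (x : Q)) • Y = Y
      rw [mul_smul, x.2.2, hs.1]
  have heq := Set.eq_of_subset_of_ncard_le hmap
    (by rw [Set.ncard_image_of_injOn hinj, hTc]; exact hSc) (Set.toFinite _)
  refine ⟨f Z, h.Pt_orderOf (hf Z hZ) (hne1 Z hZ), hs.1, hs.2, fun k hkX hkY => ?_⟩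
  obtain ⟨Z', hZ', e⟩ := heq.ge (show f Z * k ∈ S from
    ⟨by rw [mul_smul, hkX, hs.1], by rw [mul_smul, hkY, hs.2]⟩)
  have := h.Pt_sq (hf Z' hZ')
  rw [e] at this
  simpa [mul_assoc] using this

theorem three_fixed [Finite U] [Finite Q] {X Y Z : Subgroup U} (hX : X ∈ h.Pts) (hY : Y ∈ h.Pts)
    (hZ : Z ∈ h.Pts) (hXY : X ≠ Y) (hXZ : X ≠ Z) (hYZ : Y ≠ Z) {k : Q} (hkX : k • X = X)
    (hkY : k • Y = Y) (hkZ : k • Z = Z) : k = 1 := by
  obtain ⟨b, hb, e⟩ := h.exists_trans hX hY hZ hXY.symm hXZ.symm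
  have hb1 : b ≠ 1 := fun e1 => hYZ (by rwa [e1, one_smul] at e)
  have hb' : k * b * k⁻¹ ∈ h.Pt X := by
    have := h.conj_mem_Pt (k := k) hb
    rwa [hkX] at this
  have hkY' : k⁻¹ • Y = Y := by rw [inv_smul_eq_iff, hkY]
  have e' : (k * b * k⁻¹) • Y = b • Y := by rw [mul_smul, mul_smul, hkY', e, hkZ]
  have := h.inj hX hY hXY.symm hb' hb e'
  exact h.H2_commute hX hY hXY ⟨hkX, hkY⟩ hb hb1 (mul_inv_eq_iff_eq_mul.1 this)

theorem exists_triple [Finite U] [Finite Q] {X Y Z : Subgroup U} (hX : X ∈ h.Pts)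
    (hY : Y ∈ h.Pts) (hZ : Z ∈ h.Pts) (hXY : X ≠ Y) (hXZ : X ≠ Z) (hYZ : Y ≠ Z) :
    ∃ x : Q, x ^ 3 = 1 ∧ x ≠ 1 ∧ x • X = Y ∧ x • Y = Z ∧ x • Z = X := by
  obtain ⟨s, hs, es⟩ := h.exists_trans hX hY hZ hXY.symm hXZ.symm
  obtain ⟨t, ht, et⟩ := h.exists_trans hY hX hZ hXY hYZ.symm
  have es' : s • Z = Y := by rw [← es, ← mul_smul, h.Pt_sq hs, one_smul]
  have et' : t • Z = X := by rw [← et, ← mul_smul, h.Pt_sq ht, one_smul]
  have e1 : (s * t) • X = Y := by rw [mul_smul, et, es']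
  have e2 : (s * t) • Y = Z := by rw [mul_smul, h.fixes_self ht, es]
  have e3 : (s * t) • Z = X := by rw [mul_smul, et', h.fixes_self hs]
  refine ⟨s * t, ?_, fun e => hXY ?_, e1, e2, e3⟩
  · refine h.three_fixed hX hY hZ hXY hXZ hYZ ?_ ?_ ?_ <;>
      simp only [pow_succ, pow_zero, one_mul, mul_smul] at * <;> simp only [e1, e2, e3]
  · rwa [e, one_smul] at e1

theorem smul_eq_iff [Finite U] [Finite Q] {X Y : Subgroup U} (hX : X ∈ h.Pts) (hY : Y ∈ h.Pts)
    {g : Q} : (h.Pt X).map (MulAut.conj g).toMonoidHom = h.Pt Y ↔ g • X = Y := by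
  refine ⟨fun e => ?_, fun e => by rw [h.Pt_map, e]⟩
  rw [h.Pt_map] at e
  obtain ⟨a, ha, ha1⟩ := h.exists_Pt_ne_one (h.smul_mem hX g)
  rw [← h.fix_eq (h.card_pt (h.smul_mem hX g)) ha ha1, h.fix_eq (h.card_pt hY) (e ▸ ha) ha1]

end

end Hyp

end Cfsg.Agent.CIT21.Offender
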