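import Cfsg.Agent.Lib.CIT21Basic
import Cfsg.Agent.Lib.CIT21OffenderAbs

/-!
# Quadratic offenders in CIT groups (S0348)

Proof of `QuadraticSpec`: the faithful image of `N` on `U` satisfies `Offender.Hyp`.
-/

set_option autoImplicit false

open Pointwise

namespace Cfsg.Agent.CIT21

namespace Offender

variable {G : Type*} [Group G] {N U : Subgroup G}

theorem eq_one_of_map_odd {M : Type*} [Group M] {x : M} (ho : Odd (orderOf x))
    (h2 : ∃ k : ℕ, x ^ 2 ^ k = 1) : x = 1 :=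
  eq_one_of_odd_twoElt ho h2

theorem card_comap_of_surjective {A Q : Type*} [Group A] [Group Q] [Finite A] [Finite Q]
    {f : A →* Q} (hf : Function.Surjective f) (K : Subgroup Q) :
    Nat.card (K.comap f) = Nat.card f.ker * Nat.card K := by
  have h1 := Subgroup.card_mul_index (K.comap f)
  rw [Subgroup.index_comap_of_surjective _ hf] at h1
  have h2 := Subgroup.card_mul_index f.ker
  rw [Subgroup.index_ker, MonoidHom.range_eq_top.2 hf, Subgroup.card_top,
    ← Subgroup.card_mul_index K] at h2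
  rw [← h2, ← mul_assoc] at h1
  exact Nat.eq_of_mul_eq_mul_right (Nat.pos_of_ne_zero Subgroup.index_ne_zero_of_finite) h1

/-- The action of `N` on `U`. -/
def psi (hn : N ≤ Subgroup.normalizer (U : Set G)) : N →* MulAut U :=
  (Subgroup.normalizerMonoidHom U).comp (Subgroup.inclusion hn)

theorem psi_apply (hn : N ≤ Subgroup.normalizer (U : Set G)) (n : N) (u : U) :
    ((psi hn n u : U) : G) = n * u * (n : G)⁻¹ := rfl

variable (hn : N ≤ Subgroup.normalizer (U : Set G))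

/-- The pointwise action through the action on `U` (not through that of `MulAut U`). -/
local instance (priority := 10000) pwAction : MulAction ↥(psi hn).range (Subgroup U) :=
  @Subgroup.pointwiseMulAction _ _ _ _ _

/-- The projection to the faithful image. -/
def proj : N →* (psi hn).range := (psi hn).rangeRestrict

theorem proj_surjective : Function.Surjective (proj hn) := (psi hn).rangeRestrict_surjective

theorem proj_smul (n : N) (u : U) : ((proj hn n • u : U) : G) = n * u * (n : G)⁻¹ := rfl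

theorem proj_smul_eq (n : N) (u : U) : proj hn n • u = u ↔ (u : G) * n = n * u := by
  rw [Subtype.ext_iff, proj_smul, mul_inv_eq_iff_eq_mul, eq_comm]

theorem proj_eq_one (n : N) : proj hn n = 1 ↔ (n : G) ∈ N ⊓ Subgroup.centralizer (U : Set G) := by
  constructor
  · intro h
    refine ⟨n.2, fun u hu => ?_⟩
    refine (proj_smul_eq hn n ⟨u, hu⟩).1 ?_
    rw [h, one_smul]
  · intro h
    refine Subtype.ext (MulEquiv.ext fun u => ?_)
    exact (proj_smul_eq hn n u).2 (h.2 u u.2)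

theorem card_ker : Nat.card (proj hn).ker =
    Nat.card ↥(N ⊓ Subgroup.centralizer (U : Set G)) := by
  rw [show (proj hn).ker = (N ⊓ Subgroup.centralizer (U : Set G)).subgroupOf N by
    ext n; rw [MonoidHom.mem_ker, proj_eq_one, Subgroup.mem_subgroupOf]]
  exact Nat.card_congr (Subgroup.subgroupOfEquivOfLe inf_le_left).toEquiv

/-- The preimage in `G` of a subgroup of the image. -/
def lift (K : Subgroup (psi hn).range) : Subgroup G := (K.comap (proj hn)).map N.subtype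

theorem lift_le (K : Subgroup (psi hn).range) : lift hn K ≤ N := Subgroup.map_subtype_le _

theorem mem_lift {K : Subgroup (psi hn).range} {g : G} :
    g ∈ lift hn K ↔ ∃ hg : g ∈ N, proj hn ⟨g, hg⟩ ∈ K := by
  constructor
  · rintro ⟨n, hk, rfl⟩
    exact ⟨n.2, hk⟩
  · rintro ⟨hg, hk⟩
    exact ⟨⟨g, hg⟩, hk, rfl⟩

theorem card_lift [Finite G] (K : Subgroup (psi hn).range) :
    Nat.card (lift hn K) = Nat.card ↥(N ⊓ Subgroup.centralizer (U : Set G)) * Nat.card K := by
  rw [lift, Subgroup.card_map_of_injective N.subtype_injective,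
    card_comap_of_surjective (proj_surjective hn), card_ker]

variable {hn}
variable {B : Subgroup G} {B' : Subgroup (psi hn).range} (h : Hyp U B')
include h

theorem lift_Pt_inj [Finite G] {X Y : Subgroup U} (hX : X ∈ h.Pts) (hY : Y ∈ h.Pts)
    (e : lift hn (h.Pt X) = lift hn (h.Pt Y)) : X = Y := by
  obtain ⟨a, ha, ha1⟩ := h.exists_Pt_ne_one hX
  obtain ⟨n, rfl⟩ := proj_surjective hn a
  have hm : (n : G) ∈ lift hn (h.Pt Y) := e.le ((mem_lift hn).2 ⟨n.2, ha⟩)
  obtain ⟨_, hY'⟩ := (mem_lift hn).1 hm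
  exact (h.fix_eq (h.card_pt hX) ha ha1).symm.trans (h.fix_eq (h.card_pt hY) hY' ha1)

theorem lift_Pt_conj {g : G} (hg : g ∈ N) (X : Subgroup U) :
    (lift hn (h.Pt X)).map (MulAut.conj g).toMonoidHom =
      lift hn (h.Pt (proj hn ⟨g, hg⟩ • X)) := by
  ext z
  rw [Subgroup.mem_map, mem_lift]
  constructor
  · rintro ⟨w, hw, rfl⟩
    obtain ⟨hwN, hwP⟩ := (mem_lift hn).1 hw
    refine ⟨N.mul_mem (N.mul_mem hg hwN) (N.inv_mem hg), ?_⟩
    have := h.conj_mem_Pt (k := proj hn ⟨g, hg⟩) hwP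
    rw [← map_inv, ← map_mul, ← map_mul] at this
    exact this
  · rintro ⟨hz, hP⟩
    rw [h.mem_Pt_smul, ← map_inv, ← map_mul, ← map_mul] at hP
    exact ⟨g⁻¹ * z * g, (mem_lift hn).2 ⟨N.mul_mem (N.mul_mem (N.inv_mem hg) hz) hg, hP⟩,
      by simp [MulAut.conj_apply, mul_assoc]⟩

theorem fixed_lift [Finite G] {X : Subgroup U} (hX : X ∈ h.Pts) :
    U ⊓ Subgroup.centralizer (lift hn (h.Pt X) : Set G) = X.map U.subtype := by
  ext u
  constructor
  · rintro ⟨hu, hc⟩
    refine ⟨⟨u, hu⟩, ?_, rfl⟩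
    obtain ⟨a, ha, ha1⟩ := h.exists_Pt_ne_one hX
    obtain ⟨n, rfl⟩ := proj_surjective hn a
    rw [SetLike.mem_coe, ← h.fix_eq (h.card_pt hX) ha ha1, mem_fixE, proj_smul_eq]
    exact (hc n ((mem_lift hn).2 ⟨n.2, ha⟩)).symm
  · rintro ⟨v, hv, rfl⟩
    refine ⟨v.2, fun r hr => ?_⟩
    obtain ⟨hrN, hrP⟩ := (mem_lift hn).1 hr
    exact ((proj_smul_eq hn ⟨r, hrN⟩ v).1 (hrP.1 v hv)).symm

theorem isSyl_lift [Finite G] (hD : IsPGroup 2 ↥(N ⊓ Subgroup.centralizer (U : Set G)))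
    {X : Subgroup U} (hX : X ∈ h.Pts) :
    IsSyl N (N ⊓ Subgroup.centralizer (U : Set G)) h.c (lift hn (h.Pt X)) := by
  refine ⟨lift_le hn _, ?_, by rw [card_lift, h.card_Pt hX]⟩
  refine ((IsPGroup.comap_of_ker_isPGroup (fun x => ⟨1, Subtype.ext ?_⟩) (proj hn) ?_).map _)
  · rw [pow_one, pow_two]; exact h.Pt_sq x.2
  · intro x
    obtain ⟨k, hk⟩ := hD ⟨_, (proj_eq_one hn x.1).1 (MonoidHom.mem_ker.1 x.2)⟩
    exact ⟨k, Subtype.ext (Subtype.ext (by simpa using congrArg Subtype.val hk))⟩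

theorem two_group_le_lift [Finite G] {P : Subgroup G} (hPN : P ≤ N) (hP : IsPGroup 2 P) :
    ∃ X ∈ h.Pts, P ≤ lift hn (h.Pt X) := by
  have hP' : IsPGroup 2 ((P.subgroupOf N).map (proj hn)) :=
    (hP.comap_of_injective _ N.subtype_injective).map _
  obtain ⟨X, hX, hle⟩ := h.two_group_le hP'
  exact ⟨X, hX, fun g hg => (mem_lift hn).2 ⟨hPN hg, hle ⟨⟨g, hPN hg⟩, hg, rfl⟩⟩⟩

theorem isSyl_exists [Finite G] {R : Subgroup G}
    (hR : IsSyl N (N ⊓ Subgroup.centralizer (U : Set G)) h.c R) :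
    ∃ X ∈ h.Pts, R = lift hn (h.Pt X) := by
  obtain ⟨X, hX, hle⟩ := two_group_le_lift h hR.1 hR.2.1
  exact ⟨X, hX, Subgroup.eq_of_le_of_card_ge hle (by rw [card_lift, h.card_Pt hX, hR.2.2])⟩

theorem mem_normalizer_lift [Finite G] {g : G} (hg : g ∈ N) {X : Subgroup U} (hX : X ∈ h.Pts) :
    g ∈ Subgroup.normalizer (lift hn (h.Pt X) : Set G) ↔ proj hn ⟨g, hg⟩ • X = X := by
  have e : g ∈ Subgroup.normalizer (lift hn (h.Pt X) : Set G) ↔
      (lift hn (h.Pt X)).map (MulAut.conj g).toMonoidHom = lift hn (h.Pt X) := by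
    constructor
    · intro hm
      ext z
      rw [Subgroup.mem_map_equiv, MulAut.conj_symm_apply, Subgroup.mem_normalizer_iff.1 hm,
        show g * (g⁻¹ * z * g) * g⁻¹ = z by group]
    · intro he
      rw [Subgroup.mem_normalizer_iff]
      intro z
      conv_rhs => rw [← he, Subgroup.mem_map_equiv, MulAut.conj_symm_apply,
        show g⁻¹ * (g * z * g⁻¹) * g = z by group]
  rw [e, lift_Pt_conj h hg]
  exact ⟨fun he => lift_Pt_inj h (h.smul_mem hX _) hX he, fun he => by rw [he]⟩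

theorem sl2Like [Finite G] (hG : IsCIT G) (hUN : U ≤ N) (hU : U ≠ ⊥)
    (hsq : ∀ u ∈ U, u * u = 1) (hD : IsPGroup 2 ↥(N ⊓ Subgroup.centralizer (U : Set G)))
    (hO : O2 N = N ⊓ Subgroup.centralizer (U : Set G)) :
    SL2Like N (N ⊓ Subgroup.centralizer (U : Set G)) U h.c := by
  have hcomm : ∀ u ∈ U, ∀ v ∈ U, u * v = v * u := fun u hu v hv => by
    have := h.comm ⟨u, hu⟩ ⟨v, hv⟩
    exact congrArg Subtype.val this
  have hUD : U ≤ N ⊓ Subgroup.centralizer (U : Set G) :=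
    fun u hu => ⟨hUN hu, fun v hv => hcomm v hv u hu⟩
  have hND : N ≤ Subgroup.normalizer ((N ⊓ Subgroup.centralizer (U : Set G) : Subgroup G) : Set G) :=
    hO ▸ le_normalizer_O2 N
  have hnorm : ∀ X ∈ h.Pts, N ⊓ Subgroup.normalizer (lift hn (h.Pt X) : Set G) =
      lift hn (MulAction.stabilizer (psi hn).range X) := by
    intro X hX
    ext g
    rw [mem_lift, Subgroup.mem_inf]
    exact ⟨fun ⟨hg, hm⟩ => ⟨hg, (mem_normalizer_lift h hg hX).1 hm⟩,
      fun ⟨hg, hm⟩ => ⟨hg, (mem_normalizer_lift h hg hX).2 hm⟩⟩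
  refine
    { two_le := h.two_le
      U_le := hUD
      D_le := inf_le_left
      normal_U := hn
      normal_D := hND
      pGroup_D := hD
      D_eq := rfl
      core := hO
      sq_U := hsq
      comm_U := hcomm
      card_U := h.card_U
      card_N := ?_
      exists_syl := ?_
      syl_ge := ?_
      syl_count := ?_
      syl_conj := ?_
      syl_inter := ?_
      syl_sq := ?_
      syl_comm := ?_
      fixed_card := ?_
      fixed_eq := ?_
      comm_fixed := ?_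
      fixed_inter := ?_
      fixed_cover := ?_
      fixed_trans := ?_
      card_stab := ?_
      card_stab_two := ?_
      swap := ?_
      triple := ?_ }
  · have h1 := card_comap_of_surjective (proj_surjective hn) (⊤ : Subgroup (psi hn).range)
    rw [Subgroup.comap_top, Subgroup.card_top, Subgroup.card_top, card_ker, h.card_Q] at h1
    rw [h1]; ring
  · intro P hP hP2
    obtain ⟨X, hX, hle⟩ := two_group_le_lift h hP hP2
    exact ⟨_, isSyl_lift h hD hX, hle⟩
  · intro R hR g hg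
    obtain ⟨X, hX, rfl⟩ := isSyl_exists h hR
    exact (mem_lift hn).2 ⟨hg.1, by rw [(proj_eq_one hn ⟨g, hg.1⟩).2 hg]; exact one_mem _⟩
  · have e : {R | IsSyl N (N ⊓ Subgroup.centralizer (U : Set G)) h.c R} =
        (fun X => lift hn (h.Pt X)) '' h.Pts := by
      ext R
      refine ⟨fun hR => ?_, ?_⟩
      · obtain ⟨X, hX, e⟩ := isSyl_exists h hR
        exact ⟨X, hX, e.symm⟩
      · rintro ⟨X, hX, rfl⟩
        exact isSyl_lift h hD hX
    calc Nat.card {R : Subgroup G // IsSyl N (N ⊓ Subgroup.centralizer (U : Set G)) h.c R}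
        = {R | IsSyl N (N ⊓ Subgroup.centralizer (U : Set G)) h.c R}.ncard :=
          Nat.card_coe_set_eq _
      _ = h.c + 1 := by
          rw [e, Set.ncard_image_of_injOn, h.card_Pts]
          exact fun X hX Y hY => lift_Pt_inj h hX hY
  · intro R R' hR hR'
    obtain ⟨X, hX, rfl⟩ := isSyl_exists h hR
    obtain ⟨Y, hY, rfl⟩ := isSyl_exists h hR'
    obtain ⟨k, rfl⟩ := hX
    obtain ⟨l, rfl⟩ := hY
    obtain ⟨n, hnq⟩ := proj_surjective hn (l * k⁻¹)
    refine ⟨n, n.2, ?_⟩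
    rw [lift_Pt_conj h n.2, show (⟨(n : G), n.2⟩ : N) = n from rfl, hnq]
    simp only [mul_smul, inv_smul_smul]
  · intro R R' hR hR' hne
    obtain ⟨X, hX, rfl⟩ := isSyl_exists h hR
    obtain ⟨Y, hY, rfl⟩ := isSyl_exists h hR'
    have hXY : X ≠ Y := fun e => hne (by rw [e])
    ext g
    refine ⟨fun ⟨h1, h2⟩ => ?_, fun hg => ?_⟩
    · obtain ⟨hg, hgX⟩ := (mem_lift hn).1 h1
      obtain ⟨_, hgY⟩ := (mem_lift hn).1 h2
      have : proj hn ⟨g, hg⟩ ∈ h.Pt X ⊓ h.Pt Y := ⟨hgX, hgY⟩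
      rw [h.Pt_inf hX hY hXY, Subgroup.mem_bot] at this
      exact (proj_eq_one hn _).1 this
    · have h1 : proj hn ⟨g, hg.1⟩ = 1 := (proj_eq_one hn ⟨g, hg.1⟩).2 hg
      exact ⟨(mem_lift hn).2 ⟨hg.1, by rw [h1]; exact one_mem _⟩,
        (mem_lift hn).2 ⟨hg.1, by rw [h1]; exact one_mem _⟩⟩
  · intro R hR r hr
    obtain ⟨X, hX, rfl⟩ := isSyl_exists h hR
    obtain ⟨hrN, hrP⟩ := (mem_lift hn).1 hr
    refine (proj_eq_one hn (⟨r, hrN⟩ * ⟨r, hrN⟩)).1 ?_
    rw [map_mul, h.Pt_sq hrP]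
  · intro R hR r hr s hs
    obtain ⟨X, hX, rfl⟩ := isSyl_exists h hR
    obtain ⟨hrN, hrP⟩ := (mem_lift hn).1 hr
    obtain ⟨hsN, hsP⟩ := (mem_lift hn).1 hs
    refine (proj_eq_one hn (⟨r, hrN⟩ * ⟨s, hsN⟩ * ⟨r, hrN⟩⁻¹ * ⟨s, hsN⟩⁻¹)).1 ?_
    simp only [map_mul, map_inv, h.Pt_comm hrP hsP, mul_inv_cancel_right, mul_inv_cancel]
  · intro R hR
    obtain ⟨X, hX, rfl⟩ := isSyl_exists h hR
    rw [fixed_lift h hX, Subgroup.card_map_of_injective U.subtype_injective, h.card_pt hX]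
  · intro R hR r hr hrD
    obtain ⟨X, hX, rfl⟩ := isSyl_exists h hR
    rw [fixed_lift h hX]
    obtain ⟨hrN, hrP⟩ := (mem_lift hn).1 hr
    have hne : proj hn ⟨r, hrN⟩ ≠ 1 := fun e => hrD ((proj_eq_one hn _).1 e)
    ext u
    constructor
    · rintro ⟨hu, hc⟩
      refine ⟨⟨u, hu⟩, ?_, rfl⟩
      rw [SetLike.mem_coe, ← h.fix_eq (h.card_pt hX) hrP hne, mem_fixE, proj_smul_eq]
      exact (mem_centralizer_one.1 hc).symm
    · rintro ⟨v, hv, rfl⟩
      exact ⟨v.2, mem_centralizer_one.2 ((proj_smul_eq hn ⟨r, hrN⟩ v).1 (hrP.1 v hv)).symm⟩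
  · intro R hR u hu r hr
    obtain ⟨X, hX, rfl⟩ := isSyl_exists h hR
    rw [fixed_lift h hX]
    obtain ⟨hrN, hrP⟩ := (mem_lift hn).1 hr
    refine ⟨(⟨u, hu⟩ : U) * proj hn ⟨r, hrN⟩ • (⟨u, hu⟩ : U), hrP.2 _, ?_⟩
    rw [Subgroup.coe_subtype, Subgroup.coe_mul, proj_smul,
      inv_eq_of_mul_eq_one_right (hsq u hu)]
    simp only [mul_assoc]
  · intro R R' hR hR' hne
    obtain ⟨X, hX, rfl⟩ := isSyl_exists h hR
    obtain ⟨Y, hY, rfl⟩ := isSyl_exists h hR'
    rw [fixed_lift h hX, fixed_lift h hY, ← Subgroup.map_inf _ _ _ U.subtype_injective,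
      h.disjoint_pts hX hY (fun e => hne (by rw [e])), Subgroup.map_bot]
  · intro u hu
    obtain ⟨X, hX, hmem⟩ := h.cover (⟨u, hu⟩ : U)
    refine ⟨_, isSyl_lift h hD hX, ?_⟩
    rw [fixed_lift h hX]
    exact ⟨_, hmem, rfl⟩
  · intro R hR w hw hw1 w' hw' hw1'
    obtain ⟨X, hX, rfl⟩ := isSyl_exists h hR
    rw [fixed_lift h hX] at hw hw'
    obtain ⟨v, hv, rfl⟩ := hw
    obtain ⟨v', hv', rfl⟩ := hw'
    obtain ⟨g, hgX, hgv⟩ := h.trans_on_point hX hv (fun e => hw1 (by rw [e]; rfl)) hv'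
      (fun e => hw1' (by rw [e]; rfl))
    obtain ⟨n, rfl⟩ := proj_surjective hn g
    refine ⟨n, n.2, by rw [lift_Pt_conj h n.2, show (⟨(n : G), n.2⟩ : N) = n from rfl, hgX], ?_⟩
    exact congrArg Subtype.val hgv
  · intro R hR
    obtain ⟨X, hX, rfl⟩ := isSyl_exists h hR
    rw [hnorm X hX, card_lift, h.card_stab hX]
  · intro R R' hR hR' hne
    obtain ⟨X, hX, rfl⟩ := isSyl_exists h hR
    obtain ⟨Y, hY, rfl⟩ := isSyl_exists h hR'
    have hXY : X ≠ Y := fun e => hne (by rw [e])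
    rw [show N ⊓ Subgroup.normalizer (lift hn (h.Pt X) : Set G) ⊓
        Subgroup.normalizer (lift hn (h.Pt Y) : Set G) =
        lift hn (Hyp.H2 (Q := (psi hn).range) X Y) by
      ext g
      rw [mem_lift]
      exact ⟨fun ⟨⟨hg, h1⟩, h2⟩ =>
          ⟨hg, (mem_normalizer_lift h hg hX).1 h1, (mem_normalizer_lift h hg hY).1 h2⟩,
        fun ⟨hg, h1, h2⟩ =>
          ⟨⟨hg, (mem_normalizer_lift h hg hX).2 h1⟩, (mem_normalizer_lift h hg hY).2 h2⟩⟩,
      card_lift, h.card_H2 hX hY hXY]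
  · intro R R' hR hR' hne
    obtain ⟨X, hX, rfl⟩ := isSyl_exists h hR
    obtain ⟨Y, hY, rfl⟩ := isSyl_exists h hR'
    obtain ⟨t, ht, htX, -, htinv⟩ := h.exists_swap hX hY (fun e => hne (by rw [e]))
    obtain ⟨n, rfl⟩ := proj_surjective hn t
    have hnD : (n : G) ∉ O2 N := by
      intro hm
      rw [hO, ← proj_eq_one hn] at hm
      rw [hm, orderOf_one] at ht
      omega
    have hn2 : (n : G) * n ∈ O2 N := by
      rw [hO]
      exact (proj_eq_one hn (n * n)).1 (by rw [map_mul]; exact mul_self_of_orderOf ht)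
    obtain ⟨s, -, hsN, -, hns, hs, -⟩ := exists_involution_coset hG n.2 hnD hn2 (by
      rw [hO]
      intro e
      exact hU (le_bot_iff.1 (e ▸ hUD)))
    rw [hO] at hns
    have es : proj hn ⟨s, hsN⟩ = proj hn n := by
      have h1 := (proj_eq_one hn (n⁻¹ * ⟨s, hsN⟩)).2 hns
      rw [map_mul, map_inv, inv_mul_eq_one] at h1
      exact h1.symm
    refine ⟨s, hsN, hs, by rw [lift_Pt_conj h hsN, es, htX], fun k hk => ?_⟩
    refine (proj_eq_one hn (⟨s, hsN⟩ * ⟨k, hk.1.1⟩ * ⟨s, hsN⟩ * ⟨k, hk.1.1⟩)).1 ?_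
    rw [map_mul, map_mul, map_mul, es]
    exact htinv _ ((mem_normalizer_lift h hk.1.1 hX).1 hk.1.2)
      ((mem_normalizer_lift h hk.1.1 hY).1 hk.2)
  · intro R R' R'' hR hR' hR'' h1 h2 h3
    obtain ⟨X, hX, rfl⟩ := isSyl_exists h hR
    obtain ⟨Y, hY, rfl⟩ := isSyl_exists h hR'
    obtain ⟨Z, hZ, rfl⟩ := isSyl_exists h hR''
    obtain ⟨x, hx3, hx1, e1, e2, e3⟩ := h.exists_triple hX hY hZ (fun e => h1 (by rw [e]))
      (fun e => h3 (by rw [e])) (fun e => h2 (by rw [e]))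
    obtain ⟨n, rfl⟩ := proj_surjective hn x
    obtain ⟨k, hk⟩ := hD ⟨_, (proj_eq_one hn (n ^ 3)).1 (by rw [map_pow, hx3])⟩
    have hk' : ((n : G) ^ 3) ^ 2 ^ k = 1 := by simpa using congrArg Subtype.val hk
    have hp : ∀ j : ℕ, proj hn n ^ 4 ^ j = proj hn n := by
      intro j
      induction j with
      | zero => rw [pow_zero, pow_one]
      | succ j ih => rw [pow_succ, pow_mul, ih, show (4 : ℕ) = 3 + 1 from rfl, pow_succ, hx3,
          one_mul]
    have ey : proj hn ⟨(n : G) ^ 4 ^ k, N.pow_mem n.2 _⟩ = proj hn n := by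
      rw [show (⟨(n : G) ^ 4 ^ k, N.pow_mem n.2 _⟩ : N) = n ^ 4 ^ k from rfl, map_pow, hp]
    refine ⟨(n : G) ^ 4 ^ k, N.pow_mem n.2 _, ?_, ?_, ?_, ?_⟩
    · haveI : Fact (Nat.Prime 3) := ⟨Nat.prime_three⟩
      refine orderOf_eq_prime ?_ fun e => hx1 ?_
      · rw [← pow_mul, mul_comm, pow_mul, show (4 : ℕ) ^ k = 2 ^ k * 2 ^ k by
          rw [← mul_pow]; norm_num, pow_mul, hk', one_pow]
      · rw [← ey, ← map_one (proj hn)]
        exact congrArg _ (Subtype.ext e)
    · rw [lift_Pt_conj h (N.pow_mem n.2 _), ey, e1]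
    · rw [lift_Pt_conj h (N.pow_mem n.2 _), ey, e2]
    · rw [lift_Pt_conj h (N.pow_mem n.2 _), ey, e3]

end Offender

open Offender in
/-- Quadratic offenders in CIT groups. -/
theorem quadraticSpec {G : Type*} [Group G] [Finite G] : QuadraticSpec G := by
  intro hG N U B hUN hn hU hsq hBN hB hBU hO2 _ hquad hineq
  set D := N ⊓ Subgroup.centralizer (U : Set G) with hDdef
  have hU2 : IsPGroup 2 U := isPGroup_of_forall fun u hu => twoElt_sq (hsq u hu)
  have hD : IsPGroup 2 D := (isPGroup_centralizer hG hU2 hU).to_le inf_le_right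
  have hO : O2 N = D :=
    le_antisymm (le_inf (O2_le N) hO2) (centralizer_inf_le_O2 hG hn hU2 hU)
  let φ : B →* (psi hn).range := (proj hn).comp (Subgroup.inclusion hBN)
  have hφ : ∀ b : B, φ b = proj hn ⟨b, hBN b.2⟩ := fun _ => rfl
  have hker : Nat.card φ.ker = Nat.card ↥(B ⊓ Subgroup.centralizer (U : Set G)) := by
    rw [show φ.ker = (B ⊓ Subgroup.centralizer (U : Set G)).subgroupOf B by
      ext b
      rw [MonoidHom.mem_ker, hφ, proj_eq_one, Subgroup.mem_subgroupOf]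
      exact ⟨fun hb => ⟨b.2, hb.2⟩, fun hb => ⟨hBN b.2, hb.2⟩⟩]
    exact Nat.card_congr (Subgroup.subgroupOfEquivOfLe inf_le_left).toEquiv
  have hcardB : Nat.card B =
      Nat.card φ.range * Nat.card ↥(B ⊓ Subgroup.centralizer (U : Set G)) := by
    rw [← hker, ← Subgroup.index_ker, mul_comm, Subgroup.card_mul_index]
  have hUD : U ≤ D := fun u hu => ⟨hUN hu, fun v hv => by
    have h1 : (u * v)⁻¹ = u * v := inv_eq_of_mul_eq_one_right (hsq _ (U.mul_mem hu hv))
    rw [mul_inv_rev, inv_eq_of_mul_eq_one_right (hsq u hu),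
      inv_eq_of_mul_eq_one_right (hsq v hv)] at h1
    exact h1⟩
  have hfix : Nat.card ↥(Fix (U := U) (φ.range : Set (psi hn).range)) =
      Nat.card ↥(U ⊓ Subgroup.centralizer (B : Set G)) := by
    rw [← Subgroup.card_map_of_injective (K := Fix (U := U) (φ.range : Set (psi hn).range))
      U.subtype_injective]
    congr 1
    refine congrArg (fun K : Subgroup G => ↥K) ?_
    ext u
    constructor
    · rintro ⟨v, hv, rfl⟩
      refine ⟨v.2, fun b hb => ?_⟩
      exact ((proj_smul_eq hn ⟨b, hBN hb⟩ v).1 (hv _ ⟨⟨b, hb⟩, rfl⟩)).symm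
    · rintro ⟨hu, hc⟩
      refine ⟨⟨u, hu⟩, ?_, rfl⟩
      rintro _ ⟨b, rfl⟩
      exact (proj_smul_eq hn ⟨b, hBN b.2⟩ ⟨u, hu⟩).2 (hc b b.2).symm
  have h : Hyp U φ.range :=
    { sq := fun u => Subtype.ext (hsq u u.2)
      nt := by
        obtain ⟨u, hu, hu1⟩ := (Subgroup.bot_or_exists_ne_one U).resolve_left hU
        exact ⟨⟨u, hu⟩, fun e => hu1 (congrArg Subtype.val e)⟩
      faith := fun g hg => Subtype.ext (MulEquiv.ext hg)
      fpf := by
        intro x hxo hx1 u hu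
        by_contra hu1
        refine hx1 (eq_one_of_map_odd hxo ?_)
        obtain ⟨n, rfl⟩ := proj_surjective hn x
        have hc : (n : G) ∈ Subgroup.centralizer ({(u : G)} : Set G) :=
          mem_centralizer_one.2 ((proj_smul_eq hn n u).1 hu)
        obtain ⟨k, hk⟩ := twoElt_of_mem (isPGroup_centralizer_elt hG (twoElt_sq (hsq u u.2))
          fun e => hu1 (Subtype.ext e)) hc
        exact ⟨k, by rw [← map_pow, show n ^ 2 ^ k = 1 from Subtype.ext hk, map_one]⟩
      inv := by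
        intro a ha
        obtain ⟨n, rfl⟩ := proj_surjective hn a
        have hnD : (n : G) ∉ O2 N := by
          intro hm
          rw [hO, hDdef, ← proj_eq_one hn] at hm
          rw [hm, orderOf_one] at ha
          omega
        have hn2 : (n : G) * n ∈ O2 N := by
          rw [hO]
          exact (proj_eq_one hn (n * n)).1 (by rw [map_mul]; exact mul_self_of_orderOf ha)
        obtain ⟨s, x, hsN, hxN, hns, hs, hxo, hx1, hinv⟩ :=
          exists_involution_coset hG n.2 hnD hn2 (by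
            rw [hO]; exact fun e => hU (le_bot_iff.1 (e ▸ hUD)))
        rw [hO] at hns
        have es : proj hn ⟨s, hsN⟩ = proj hn n := by
          have h1 := (proj_eq_one hn (n⁻¹ * ⟨s, hsN⟩)).2 hns
          rw [map_mul, map_inv, inv_mul_eq_one] at h1
          exact h1.symm
        refine ⟨proj hn ⟨x, hxN⟩, fun e => hx1 (eq_one_of_odd_twoElt hxo
          (twoElt_of_mem hD ((proj_eq_one hn _).1 e))), ?_, ?_⟩
        · exact Odd.of_dvd_nat hxo (Subgroup.orderOf_coe (⟨x, hxN⟩ : N) ▸ orderOf_map_dvd _ _)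
        · rw [← es, ← map_inv, ← map_inv, ← map_mul, ← map_mul]
          refine congrArg _ (Subtype.ext ?_)
          show s * x * s⁻¹ = x⁻¹
          rw [inv_eq_of_mul_eq_one_right (mul_self_of_orderOf hs), hinv]
      cit := by
        intro r x hr hc
        obtain ⟨n, rfl⟩ := proj_surjective hn r
        obtain ⟨m, rfl⟩ := proj_surjective hn x
        obtain ⟨k, hk⟩ := exists_two_pow_odd m
        refine ⟨k, ?_⟩
        have hn2 : (n : G) * n ∈ D :=
          (proj_eq_one hn (n * n)).1 (by rw [map_mul]; exact mul_self_of_orderOf hr)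
        have hnD : (n : G) ∉ D := by
          intro hm
          rw [hDdef, ← proj_eq_one hn] at hm
          rw [hm, orderOf_one] at hr
          omega
        have hnTwo : TwoElt (n : G) := by
          obtain ⟨j, hj⟩ := twoElt_of_mem hD hn2
          exact ⟨j + 1, by rw [pow_succ', pow_mul, pow_two, hj]⟩
        have hND : N ≤ Subgroup.normalizer (D : Set G) := hO ▸ le_normalizer_O2 N
        have h1 := eq_one_of_commute_mod hG hD (x := ((m ^ 2 ^ k : N) : G)) (r := (n : G))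
          (by rwa [Subgroup.orderOf_coe]) (hND (m ^ 2 ^ k : N).2) hnTwo hnD (hND n.2)
          ((proj_eq_one hn (m ^ 2 ^ k * n * (m ^ 2 ^ k)⁻¹ * n⁻¹)).1 (by
            have hc' : proj hn (m ^ 2 ^ k) * proj hn n = proj hn n * proj hn (m ^ 2 ^ k) := by
              rw [map_pow]; exact ((show Commute (proj hn m) (proj hn n) from hc).pow_left _).eq
            simp only [map_mul, map_inv, hc', mul_inv_cancel_right, mul_inv_cancel]))
        rw [← map_pow, show m ^ 2 ^ k = 1 from Subtype.ext h1, map_one]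
      B_ne := by
        intro e
        refine hBU fun b hb => ?_
        have h1 : φ ⟨b, hb⟩ ∈ φ.range := ⟨_, rfl⟩
        rw [e, Subgroup.mem_bot, hφ, proj_eq_one] at h1
        exact h1.2
      quad := by
        intro u _ hb _ hb'
        obtain ⟨b, rfl⟩ := hb
        obtain ⟨b', rfl⟩ := hb'
        refine (proj_smul_eq hn ⟨b', hBN b'.2⟩ _).2 ?_
        have h1 := hquad u u.2 b b.2 b' b'.2
        rw [inv_eq_of_mul_eq_one_right (hsq u u.2)] at h1
        rw [Subgroup.coe_mul, hφ, proj_smul]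
        simpa only [mul_assoc] using h1.symm
      ineq := by
        rw [hfix]
        refine Nat.le_of_mul_le_mul_right
          (c := Nat.card ↥(B ⊓ Subgroup.centralizer (U : Set G))) ?_ Nat.card_pos
        rw [mul_right_comm, ← hcardB]
        exact hineq }
  refine ⟨h.c, sl2Like h hG hUN hU hsq hD hO, ?_, by rw [hcardB, h.B_eq.2]⟩
  have e : D ⊔ B = lift hn (h.Pt h.W) := by
    refine le_antisymm (sup_le (fun g hg => ?_) fun b hb => ?_) fun g hg => ?_
    · exact (mem_lift hn).2 ⟨hg.1, by rw [(proj_eq_one hn ⟨g, hg.1⟩).2 hg]; exact one_mem _⟩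
    · exact (mem_lift hn).2 ⟨hBN hb, by rw [← h.B_eq.1]; exact ⟨⟨b, hb⟩, rfl⟩⟩
    · obtain ⟨hgN, hgP⟩ := (mem_lift hn).1 hg
      rw [← h.B_eq.1] at hgP
      obtain ⟨b, hb⟩ := hgP
      have h1 := (proj_eq_one hn (⟨g, hgN⟩ * ⟨b, hBN b.2⟩⁻¹)).1 (by
        rw [map_mul, map_inv, ← hb, hφ, mul_inv_cancel])
      have h2 := mul_mem (le_sup_left (α := Subgroup G) h1 : _ ∈ D ⊔ B)
        (le_sup_right (α := Subgroup G) b.2)
      simpa using h2
  rw [e]
  exact isSyl_lift h hD h.W_mem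

end Cfsg.Agent.CIT21
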