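import Cfsg.Agent.Lib.CIT21Offender
import Cfsg.Agent.Lib.OffendersReplace

/-!
# Abelian subgroups of largest order outside `O₂` (S0348)

Proof of `LocalSpec`: Timmesfeld replacement gives a quadratic offender on `V = Ω₁(Z(D))`.
-/

set_option autoImplicit false

namespace Cfsg.Agent.CIT21

namespace Offender

open scoped commutatorElement

variable {G : Type*} [Group G]

theorem comm_sup {B C : Subgroup G} (hB : IsMulCommutative B) (hC : IsMulCommutative C)
    (h : ∀ b ∈ B, ∀ c ∈ C, b * c = c * b) : IsMulCommutative ↥(B ⊔ C) := by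
  have hle : B ⊔ C ≤ Subgroup.centralizer ((B ⊔ C : Subgroup G) : Set G) := by
    rw [OffendersReplace.centralizer_sup]
    refine sup_le (le_inf ?_ ?_) (le_inf ?_ ?_)
    · exact fun x hx y hy => congrArg Subtype.val (hB.is_comm.comm (⟨y, hy⟩ : B) ⟨x, hx⟩)
    · exact fun x hx y hy => (h x hx y hy).symm
    · exact fun x hx y hy => h y hy x hx
    · exact fun x hx y hy => congrArg Subtype.val (hC.is_comm.comm (⟨y, hy⟩ : C) ⟨x, hx⟩)
  exact ⟨⟨fun x y => Subtype.ext (hle y.2 x x.2)⟩⟩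

theorem comm_of_le {B C : Subgroup G} (hle : B ≤ C) (hC : IsMulCommutative C) :
    IsMulCommutative B :=
  ⟨⟨fun x y => Subtype.ext ((congrArg Subtype.val (hC.is_comm.comm (⟨x, hle x.2⟩ : C) ⟨y, hle y.2⟩) :))⟩⟩

theorem exists_order_two {x : G} (hx : TwoElt x) (hx1 : x ≠ 1) :
    ∃ j : ℕ, x ^ 2 ^ j ≠ 1 ∧ x ^ 2 ^ j * x ^ 2 ^ j = 1 := by
  obtain ⟨k, hk⟩ := hx
  induction k generalizing x with
  | zero => exact absurd (by simpa using hk) hx1
  | succ k ih =>
    by_cases h2 : x * x = 1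
    · exact ⟨0, by simpa using hx1, by simpa using h2⟩
    · obtain ⟨j, h1, h3⟩ := ih (x := x * x) h2 (by rw [← pow_two, ← pow_mul, ← pow_succ', hk])
      refine ⟨j + 1, ?_, ?_⟩ <;> rw [pow_succ', pow_mul, pow_two] <;> assumption

/-- A subgroup of `A` maximising `|B| |C_V(B)|`, outside `C(V)`. -/
theorem exists_maximizer [Finite G] {V A : Subgroup G}
    (hA : ¬ A ≤ Subgroup.centralizer (V : Set G))
    (hineq : Nat.card ↥(A ⊓ Subgroup.centralizer (V : Set G)) * Nat.card V ≤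
      Nat.card A * Nat.card ↥(OffendersReplace.fixedIn V A)) :
    ∃ A₁ ≤ A, OffendersReplace.Maximizes V A₁ ∧ ¬ A₁ ≤ Subgroup.centralizer (V : Set G) := by
  haveI : Nonempty {B : Subgroup G // B ≤ A} := ⟨⟨A, le_rfl⟩⟩
  obtain ⟨⟨A₁, hA₁⟩, hmax⟩ := Finite.exists_max fun B : {B : Subgroup G // B ≤ A} =>
    Nat.card B.1 * Nat.card ↥(OffendersReplace.fixedIn V B.1)
  by_cases hv : Nat.card A₁ * Nat.card ↥(OffendersReplace.fixedIn V A₁) ≤
      Nat.card A * Nat.card ↥(OffendersReplace.fixedIn V A)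
  · exact ⟨A, le_rfl, fun B hB => (hmax ⟨B, hB⟩).trans hv, hA⟩
  refine ⟨A₁, hA₁, fun B hB => hmax ⟨B, hB.trans hA₁⟩, fun hle => hv ?_⟩
  refine le_trans (Nat.mul_le_mul (Subgroup.card_le_of_le (le_inf hA₁ hle))
    (Subgroup.card_le_of_le inf_le_left)) hineq

/-- Timmesfeld replacement: a quadratic offender. -/
theorem exists_quadratic [Finite G] {V A : Subgroup G} (hVsq : ∀ v ∈ V, v * v = 1)
    (hV : ∀ x ∈ V, ∀ y ∈ V, x * y = y * x) (hAV : A ≤ Subgroup.normalizer (V : Set G))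
    (hAp : IsPGroup 2 A) (hAc : IsMulCommutative A)
    (hA : OffendersReplace.Maximizes V A) (hAn : ¬ A ≤ Subgroup.centralizer (V : Set G)) :
    ∃ B ≤ A, ¬ B ≤ Subgroup.centralizer (V : Set G) ∧
      (∀ u ∈ V, ∀ b ∈ B, u * b * u⁻¹ * b⁻¹ ∈ Subgroup.centralizer (B : Set G)) ∧
      Nat.card V * Nat.card ↥(B ⊓ Subgroup.centralizer (V : Set G)) ≤
        Nat.card B * Nat.card ↥(V ⊓ Subgroup.centralizer (B : Set G)) := by
  have hab : ⁅A, A⁆ ≤ Subgroup.centralizer (V : Set G) := by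
    rw [Subgroup.commutator_le]
    intro a ha b hb
    rw [commutatorElement_eq_one_iff_mul_comm.2
      (congrArg Subtype.val (hAc.is_comm.comm (⟨a, ha⟩ : A) ⟨b, hb⟩))]
    exact one_mem _
  obtain ⟨hatt, hfix⟩ := OffendersReplace.attains_commutator hV hAV hab hA le_rfl
  set B := A ⊓ Subgroup.centralizer ((⁅V, A⁆ : Subgroup G) : Set G) with hB
  have hXV : ⁅V, A⁆ ≤ V := Subgroup.le_normalizer_iff_commutator_le_left.1 hAV
  refine ⟨B, inf_le_left, fun hle => ?_, fun u hu b hb => ?_, ?_⟩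
  · apply hAn
    have hV' : V ≤ ⁅V, A⁆ ⊔ OffendersReplace.fixedIn V A :=
      hfix ▸ le_inf le_rfl (Subgroup.le_centralizer_iff.1 hle)
    have hVp : IsPGroup 2 V := isPGroup_of_forall fun v hv => twoElt_sq (hVsq v hv)
    haveI : Fact (Nat.Prime 2) := ⟨Nat.prime_two⟩
    have h0 : ⁅V, A⁆ = ⊥ := by
      refine OffendersReplace.eq_bot_of_le_commutator hVp hAV (fun a ha => ?_) hXV ?_
      · exact (twoElt_of_mem hAp ha).imp fun k hk => by rw [hk]; exact one_mem _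
      rw [Subgroup.commutator_le]
      intro v hv a ha
      have hn : ⁅V, A⁆ ≤ Subgroup.normalizer (OffendersReplace.fixedIn V A : Set G) :=
        OffendersReplace.le_normalizer_of_commute fun x hx y hy => hV x (hXV hx) y hy.1
      have hv' := hV' hv
      rw [← SetLike.mem_coe, Subgroup.coe_mul_of_left_le_normalizer_right _ _ hn] at hv'
      obtain ⟨x, hx, c, hc, rfl⟩ := hv'
      have e : ⁅x * c, a⁆ = x * ⁅c, a⁆ * x⁻¹ * ⁅x, a⁆ := by
        simp only [commutatorElement_def]; group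
      rw [e, commutatorElement_eq_one_iff_mul_comm.2 (hc.2 a ha).symm, mul_one, mul_inv_cancel,
        one_mul]
      exact Subgroup.commutator_mem_commutator hx ha
    exact Subgroup.le_centralizer_iff.1 (Subgroup.commutator_eq_bot_iff_le_centralizer.1 h0)
  · intro c hc
    have hx : ⁅u, b⁆ ∈ ⁅V, A⁆ := Subgroup.commutator_mem_commutator hu hb.1
    rw [commutatorElement_def] at hx
    exact (hc.2 _ hx).symm
  · refine le_trans ?_ hatt.2.ge
    refine le_trans ?_ (hA _ (inf_le_left.trans inf_le_left : B ⊓ Subgroup.centralizer (V : Set G) ≤ A))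
    rw [mul_comm]
    refine Nat.mul_le_mul_left _ (Subgroup.card_le_of_le (le_inf le_rfl ?_))
    exact Subgroup.le_centralizer_iff.1 inf_le_right

theorem dvd_arith {a d z x c : ℕ} (hd : 0 < d) (h1 : d * z ≤ a * x) (h2 : a ≤ c * d) :
    z ≤ c * x :=
  Nat.le_of_mul_le_mul_left (h1.trans ((Nat.mul_le_mul_right x h2).trans (by rw [mul_comm c d,
    mul_assoc]))) hd

end Offender

open Offender in
/-- Abelian subgroups of largest order outside `O₂` give an `ELocal`. -/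
theorem localSpec {G : Type*} [Group G] [Finite G] : LocalSpec G := by
  intro hG D R A hD hO hRN hR hRmax hA hAD
  obtain ⟨hAR, hAc, hAmax⟩ := hA
  set N := Subgroup.normalizer (D : Set G) with hNdef
  haveI : Fact (Nat.Prime 2) := ⟨Nat.prime_two⟩
  have hDp : IsPGroup 2 D := hO ▸ isPGroup_O2 N
  have hDN : D ≤ N := Subgroup.le_normalizer
  set Z := D ⊓ Subgroup.centralizer (D : Set G) with hZdef
  have hZc : ∀ x ∈ Z, ∀ y ∈ Z, x * y = y * x := fun x hx y hy => hy.2 x hx.1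
  let V : Subgroup G :=
    { carrier := {x | x ∈ Z ∧ x * x = 1}
      one_mem' := ⟨one_mem _, one_mul 1⟩
      mul_mem' := fun {a b} ha hb => ⟨mul_mem ha.1 hb.1, by
        rw [mul_assoc, ← mul_assoc b a, hZc b hb.1 a ha.1, mul_assoc a b b, hb.2, mul_one, ha.2]⟩
      inv_mem' := fun {a} ha => ⟨inv_mem ha.1, by rw [← mul_inv_rev, ha.2, inv_one]⟩ }
  have hVsq : ∀ v ∈ V, v * v = 1 := fun v hv => hv.2
  have hVD : V ≤ D := fun v hv => hv.1.1
  have hVN : V ≤ N := hVD.trans hDN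
  have hVc : ∀ x ∈ V, ∀ y ∈ V, x * y = y * x := fun x hx y hy => hZc x hx.1 y hy.1
  have hNZ : ∀ n ∈ N, ∀ z ∈ Z, n * z * n⁻¹ ∈ Z := by
    intro n hn z hz
    refine ⟨(Subgroup.mem_normalizer_iff.1 hn z).1 hz.1, fun d hd => ?_⟩
    have hd' : n⁻¹ * d * n ∈ D := by
      simpa using (Subgroup.mem_normalizer_iff.1 (N.inv_mem hn) d).1 hd
    calc d * (n * z * n⁻¹) = n * ((n⁻¹ * d * n) * z) * n⁻¹ := by group
      _ = n * (z * (n⁻¹ * d * n)) * n⁻¹ := by rw [hz.2 _ hd']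
      _ = n * z * n⁻¹ * d := by group
  have hNV : N ≤ Subgroup.normalizer (V : Set G) := by
    refine Subgroup.le_normalizer_iff.2 fun n hn v hv => ⟨hNZ n hn v hv.1, ?_⟩
    rw [show n * v * n⁻¹ * (n * v * n⁻¹) = n * (v * v) * n⁻¹ by group, hv.2, mul_one,
      mul_inv_cancel]
  have hVne : V ≠ ⊥ := by
    haveI : Nontrivial D := (Subgroup.nontrivial_iff_ne_bot D).2 hD
    haveI := hDp.center_nontrivial
    obtain ⟨z, hz⟩ := exists_ne (1 : Subgroup.center D)
    have hzZ : ((z : D) : G) ∈ Z :=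
      ⟨(z : D).2, fun d hd => congrArg Subtype.val (Subgroup.mem_center_iff.1 z.2 ⟨d, hd⟩)⟩
    obtain ⟨j, hj1, hj2⟩ := exists_order_two (twoElt_of_mem hDp hzZ.1)
      (fun e => hz (Subtype.ext (Subtype.ext e)))
    intro e
    exact hj1 ((Subgroup.eq_bot_iff_forall _).1 e _ ⟨pow_mem hzZ _, hj2⟩)
  have hVp : IsPGroup 2 V := hDp.to_le hVD
  have hDV : D ≤ Subgroup.centralizer (V : Set G) := fun d hd v hv => (hv.1.2 d hd).symm
  have hNCV : N ⊓ Subgroup.centralizer (V : Set G) = D :=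
    le_antisymm ((centralizer_inf_le_O2 hG hNV hVp hVne).trans_eq hO) (le_inf hDN hDV)
  have hCV : Subgroup.centralizer (V : Set G) = D := by
    by_contra hne
    have hC := isPGroup_centralizer hG hVp hVne
    haveI := hC.isNilpotent
    have hlt : D.subgroupOf (Subgroup.centralizer (V : Set G)) < ⊤ := by
      rw [lt_top_iff_ne_top, Ne, Subgroup.subgroupOf_eq_top]
      exact fun hle => hne (le_antisymm hle hDV)
    have hlt' := Group.normalizerCondition_of_isNilpotent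
      (G := Subgroup.centralizer (V : Set G)) _ hlt
    obtain ⟨x, hx, hxD⟩ := SetLike.exists_of_lt hlt'
    refine hxD (hNCV.le ⟨?_, x.2⟩)
    show (x : G) ∈ Subgroup.normalizer (D : Set G)
    rw [Subgroup.mem_normalizer_iff]
    intro d
    have h1 := Subgroup.mem_normalizer_iff.1 hx
    constructor
    · intro hd
      exact (h1 ⟨d, hDV hd⟩).1 hd
    · intro hd
      have hd' : d ∈ Subgroup.centralizer (V : Set G) := by
        have h2 : (x : G)⁻¹ * ((x : G) * d * (x : G)⁻¹) * x ∈ Subgroup.centralizer (V : Set G) :=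
          mul_mem (mul_mem (inv_mem x.2) (hDV hd)) x.2
        simpa [mul_assoc] using h2
      exact (h1 ⟨d, hd'⟩).2 hd
  have hDR : D ≤ R := by
    have hsup : IsPGroup 2 ↥(R ⊔ D) := hR.to_sup_of_normal_right' hDp hRN
    exact le_sup_right.trans (hRmax _ (sup_le hRN hDN) hsup le_sup_left).le
  have hAN : A ≤ N := hAR.trans hRN
  have hVab : IsMulCommutative V := ⟨⟨fun x y => Subtype.ext (hVc x x.2 y y.2)⟩⟩
  have hfixA : OffendersReplace.fixedIn V A = A ⊓ V := by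
    refine le_antisymm (le_inf ?_ inf_le_left) (le_inf inf_le_right ?_)
    · have hB : IsMulCommutative ↥(A ⊔ OffendersReplace.fixedIn V A) :=
        comm_sup hAc (comm_of_le inf_le_left hVab) fun a ha v hv => hv.2 a ha
      exact le_sup_right.trans (Subgroup.eq_of_le_of_card_ge le_sup_left
        (hAmax _ (sup_le hAR (inf_le_left.trans (hVD.trans hDR))) hB)).ge
    · intro x hx a ha
      exact congrArg Subtype.val (hAc.is_comm.comm (⟨a, ha⟩ : A) ⟨x, hx.1⟩)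
  have hAnV : ¬ A ≤ Subgroup.centralizer (V : Set G) := by rw [hCV]; exact hAD
  have hcard : ∀ K : Subgroup G, K ≤ D → IsMulCommutative K →
      (∀ d ∈ D, ∀ k ∈ K, d * k = k * d) →
      Nat.card ↥(A ⊓ D) * Nat.card K ≤ Nat.card A * Nat.card ↥(A ⊓ K) := by
    intro K hK hKc hcomm
    have h := OffendersReplace.card_sup_mul_card_inf (A ⊓ D) K
      (OffendersReplace.le_normalizer_of_commute fun a ha k hk => hcomm a ha.2 k hk)
    rw [inf_assoc, inf_eq_right.2 hK] at h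
    rw [← h]
    exact Nat.mul_le_mul_right _ (hAmax _ (sup_le (inf_le_left.trans hAR) (hK.trans hDR))
      (comm_sup (comm_of_le inf_le_left hAc) hKc fun a ha k hk => hcomm a ha.2 k hk))
  have hineq : Nat.card ↥(A ⊓ Subgroup.centralizer (V : Set G)) * Nat.card V ≤
      Nat.card A * Nat.card ↥(OffendersReplace.fixedIn V A) := by
    rw [hCV, hfixA]
    exact hcard V hVD hVab fun d hd v hv => hv.1.2 d hd
  obtain ⟨A₁, hA₁, hmax₁, hA₁n⟩ := exists_maximizer hAnV hineq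
  obtain ⟨B, hB, hBn, hquad, hBineq⟩ := exists_quadratic hVsq hVc
    ((hA₁.trans hAN).trans hNV) (hR.to_le (hA₁.trans hAR)) (comm_of_le hA₁ hAc) hmax₁ hA₁n
  obtain ⟨c, hSL, -, -⟩ := quadraticSpec hG N V B hVN hNV hVne hVsq
    (hB.trans (hA₁.trans hAN)) (hR.to_le (hB.trans (hA₁.trans hAR))) hBn (hO ▸ hDV)
    (fun b hb b' hb' => by
      have e : b * b' = b' * b :=
        congrArg Subtype.val (hAc.is_comm.comm (⟨b, hA₁ (hB hb)⟩ : A) ⟨b', hA₁ (hB hb')⟩)
      rw [e, mul_inv_cancel_right, mul_inv_cancel]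
      exact one_mem _)
    hquad hBineq
  rw [hNCV] at hSL
  have hRsyl : IsSyl N D c R := by
    obtain ⟨R₀, hR₀, hle⟩ := hSL.exists_syl R hRN hR
    rwa [hRmax R₀ hR₀.1 hR₀.2.1 hle] at hR₀
  obtain ⟨a, haA, haD⟩ := SetLike.not_le_iff_exists.1 hAD
  have hAc' : Nat.card A ≤ c * Nat.card ↥(A ⊓ D) := by
    have h := OffendersReplace.card_sup_mul_card_inf A D hAN
    have h1 : Nat.card ↥(A ⊔ D) ≤ Nat.card D * c :=
      hRsyl.2.2 ▸ Subgroup.card_le_of_le (sup_le hAR hDR)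
    refine Nat.le_of_mul_le_mul_left ?_ (Nat.card_pos (α := D))
    calc Nat.card D * Nat.card A = Nat.card ↥(A ⊔ D) * Nat.card ↥(A ⊓ D) := by rw [h, mul_comm]
      _ ≤ Nat.card D * c * Nat.card ↥(A ⊓ D) := Nat.mul_le_mul_right _ h1
      _ = Nat.card D * (c * Nat.card ↥(A ⊓ D)) := mul_assoc _ _ _
  -- `Z(D) = V`
  have hZ1 : Nat.card Z ≤ c * Nat.card ↥(A ⊓ Z) :=
    dvd_arith Nat.card_pos
      (hcard Z inf_le_left ⟨⟨fun x y => Subtype.ext (hZc x x.2 y y.2)⟩⟩
        fun d hd k hk => hk.2 d hd) hAc'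
  obtain ⟨R', hR', hne⟩ : ∃ R', IsSyl N D c R' ∧ R' ≠ R := by
    by_contra! hall
    haveI : Subsingleton {R : Subgroup G // IsSyl N D c R} :=
      ⟨fun x y => Subtype.ext ((hall x.1 x.2).trans (hall y.1 y.2).symm)⟩
    have h1 := hSL.syl_count
    have h2 := hSL.two_le
    haveI : Nonempty {R : Subgroup G // IsSyl N D c R} := ⟨⟨R, hRsyl⟩⟩
    rw [Nat.card_eq_one_iff_unique.2 ⟨inferInstance, inferInstance⟩] at h1
    omega
  obtain ⟨g, hgN, hgR⟩ := hSL.syl_conj R R' hRsyl hR'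
  set a' := g * a * g⁻¹ with ha'
  have ha'R : a' ∈ R' := hgR ▸ ⟨a, hAR haA, rfl⟩
  have ha'D : a' ∉ D := fun h => haD ((Subgroup.mem_normalizer_iff.1 hgN a).2 h)
  have hdis : Z ⊓ Subgroup.centralizer ({a} : Set G) ⊓ (Z ⊓ Subgroup.centralizer ({a'} : Set G)) = ⊥ := by
    rw [eq_bot_iff]
    intro z hz
    rw [Subgroup.mem_bot]
    by_contra hz1
    obtain ⟨j, hj1, hj2⟩ := exists_order_two (twoElt_of_mem hDp hz.1.1.1) hz1
    set w := z ^ 2 ^ j with hw
    have hwV : w ∈ V := ⟨pow_mem hz.1.1 _, hj2⟩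
    have h1 : w ∈ V ⊓ Subgroup.centralizer ({a} : Set G) := ⟨hwV, pow_mem hz.1.2 _⟩
    have h2 : w ∈ V ⊓ Subgroup.centralizer ({a'} : Set G) := ⟨hwV, pow_mem hz.2.2 _⟩
    rw [hSL.fixed_eq R hRsyl a (hAR haA) haD] at h1
    rw [hSL.fixed_eq R' hR' a' ha'R ha'D] at h2
    exact hj1 (Subgroup.mem_bot.1 ((hSL.fixed_inter R' R hR' hRsyl hne).le ⟨h2, h1⟩))
  have hgZ : g ∈ Subgroup.normalizer (Z : Set G) := by
    rw [Subgroup.mem_normalizer_iff]
    refine fun z => ⟨hNZ g hgN z, fun h => ?_⟩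
    have := hNZ g⁻¹ (N.inv_mem hgN) _ h
    simpa [mul_assoc] using this
  have hZ2 := card_mul_le_of_disjoint (P := Z) inf_le_left inf_le_left hdis
  rw [ha', card_fixed_conj hgZ] at hZ2
  have hAZ : Nat.card ↥(A ⊓ Z) ≤ Nat.card ↥(Z ⊓ Subgroup.centralizer ({a} : Set G)) :=
    Subgroup.card_le_of_le (le_inf inf_le_right fun x hx => mem_centralizer_one.2
      (congrArg Subtype.val (hAc.is_comm.comm (⟨a, haA⟩ : A) ⟨x, hx.1⟩)))
  have hcenD : D ⊓ Subgroup.centralizer (D : Set G) = V := by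
    refine (Subgroup.eq_of_le_of_card_ge (H := V) (fun v (hv : v ∈ V) => hv.1) ?_).symm
    show Nat.card Z ≤ Nat.card V
    rw [hSL.card_U]
    set x := Nat.card ↥(Z ⊓ Subgroup.centralizer ({a} : Set G))
    have hx0 : 0 < x := Nat.card_pos
    have h3 : Nat.card Z ≤ c * x := hZ1.trans (Nat.mul_le_mul_left _ hAZ)
    have hxc : x ≤ c := Nat.le_of_mul_le_mul_right (hZ2.trans h3) hx0
    calc Nat.card Z ≤ c * x := h3
      _ ≤ c * c := Nat.mul_le_mul_left _ hxc
      _ = c ^ 2 := (pow_two c).symm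
  refine ⟨V, c, ⟨hSL, rfl, hCV, hcenD, fun R₁ hR₁ => le_antisymm ?_ ?_,
    R, A, hRsyl, ⟨hAR, hAc, hAmax⟩, hAD⟩⟩
  · intro z hz
    have hzD : z ∈ D :=
      hNCV.le ⟨hR₁.1 hz.1, fun v hv => hz.2 v (hSL.syl_ge R₁ hR₁ (hVD hv))⟩
    exact ⟨hcenD.le ⟨hzD, fun d hd => hz.2 d (hSL.syl_ge R₁ hR₁ hd)⟩, hz.2⟩
  · exact le_inf (inf_le_left.trans (hVD.trans (hSL.syl_ge R₁ hR₁))) inf_le_right

end Cfsg.Agent.CIT21
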