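import Cfsg.Agent.Lib.CIT21PlaneGlobal
import Cfsg.Agent.Lib.CIT21PlaneElation
import Cfsg.Agent.Lib.PSLCard
import Cfsg.Agent.S3732

/-!
# Identification of `PSL₃(4)` from the configuration `Flats`
-/

set_option autoImplicit false
set_option linter.unusedSectionVars false

namespace Cfsg.Agent.CIT21Plane

open Subgroup Cfsg.Agent.CIT21
open scoped LinearAlgebra.Projectivization

variable {G : Type*} [Group G]

/-- The points (for `(V, A)`) or the lines (for `(A, V)`). -/
structure Member (A : Subgroup G) where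
  sub : Subgroup G
  mem : IsPt A sub

theorem Member.ext' {A : Subgroup G} {x y : Member A} (h : x.sub = y.sub) : x = y := by
  cases x; cases y; subst h; rfl

instance (A : Subgroup G) : MulAction G (Member A) where
  smul g x := ⟨cj g x.sub, x.mem.cj g⟩
  one_smul x := Member.ext' (cj_one x.sub)
  mul_smul g h x := Member.ext' (cj_cj g h x.sub).symm

theorem smul_sub {A : Subgroup G} (g : G) (x : Member A) : (g • x).sub = cj g x.sub := rfl

instance [Finite G] (A : Subgroup G) : Finite (Member A) :=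
  Finite.of_injective Member.sub fun _ _ h => Member.ext' h

variable {F : Type*} [Field F]

theorem finrank_sup_two {x y : ℙ F (Fin 3 → F)} (h : x ≠ y) :
    Module.finrank F ↥(x.submodule ⊔ y.submodule) = 2 := by
  have h1 := Submodule.finrank_sup_add_finrank_inf_eq x.submodule y.submodule
  rw [Projectivization.finrank_submodule, Projectivization.finrank_submodule] at h1
  suffices Module.finrank F ↥(x.submodule ⊓ y.submodule) = 0 by omega
  by_contra h0
  apply h
  apply Projectivization.submodule_injective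
  have hx : x.submodule ⊓ y.submodule = x.submodule :=
    Submodule.eq_of_le_of_finrank_le inf_le_left (by rw [Projectivization.finrank_submodule]; omega)
  exact Submodule.eq_of_le_of_finrank_le (inf_eq_left.1 hx)
    (by rw [Projectivization.finrank_submodule, Projectivization.finrank_submodule])

/-- The group order of `PSL₃(4)`. -/
theorem card_psl34 (F : Type) [Field F] [Fintype F] (h4 : Fintype.card F = 4) :
    Nat.card (Matrix.ProjectiveSpecialLinearGroup (Fin 3) F) = 20160 := by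
  have h4' : Nat.card F = 4 := by rw [Nat.card_eq_fintype_card, h4]
  have h1 := PSLCard.card_SL (F := F) 3
  have h2 := PSLCard.card_PSL_mul (F := F) 3
  rw [h4', Fin.prod_univ_three] at h1
  rw [h4'] at h2
  norm_num at h1 h2
  omega

section

variable [Finite G] {V A S : Subgroup G}

theorem smul_inc (g : G) {p : Member A} {l : Member V} :
    Inc V A (g • p).sub (g • l).sub ↔ Inc V A p.sub l.sub := by
  constructor
  · intro h
    have := h.cj g⁻¹
    rwa [smul_sub, smul_sub, cj_inv, cj_inv] at this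
  · intro h
    exact h.cj g

theorem card_member [IsSimpleGroup G] (hc : IsCIT G) (hf : Flats V A S) :
    Nat.card (Member A) = 21 := by
  rw [← ncard_allPts hc hf, ← Nat.card_coe_set_eq]
  exact Nat.card_congr ⟨fun x => ⟨x.sub, x.mem⟩, fun x => ⟨x.1, x.2⟩, fun x => rfl, fun x => rfl⟩

theorem card_G [IsSimpleGroup G] (hc : IsCIT G) (hf : Flats V A S) : Nat.card G = 20160 := by
  let a : Member A := ⟨A, 1, (cj_one A).symm⟩
  have : MulAction.IsPretransitive G (Member A) := ⟨fun x y => by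
    obtain ⟨g, hg⟩ := x.mem
    obtain ⟨h, hh⟩ := y.mem
    exact ⟨h * g⁻¹, Member.ext' (by rw [smul_sub, hg, hh, cj_cj, inv_mul_cancel_right])⟩⟩
  have h1 : MulAction.stabilizer G a = normalizer (A : Set G) := by
    ext g
    rw [MulAction.mem_stabilizer_iff, mem_norm_iff]
    exact ⟨fun h => congrArg Member.sub h, fun h => Member.ext' h⟩
  rw [← (MulAction.stabilizer G a).card_mul_index,
    MulAction.index_stabilizer_of_transitive G a, card_member hc hf, h1, hf.sl2_A.card_N, card_A hf]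

theorem two_trans [IsSimpleGroup G] (hc : IsCIT G) (hf : Flats V A S) {p₁ p₂ q₁ q₂ : Member A}
    (hp : p₁ ≠ p₂) (hq : q₁ ≠ q₂) : ∃ g : G, g • p₁ = q₁ ∧ g • p₂ = q₂ := by
  obtain ⟨a, ha⟩ := p₁.mem
  obtain ⟨b, hb⟩ := q₁.mem
  have h1 : cj a⁻¹ p₂.sub ≠ A := fun e =>
    hp (Member.ext' (by rw [ha, ← cj_inv' a p₂.sub, e]))
  have h2 : cj b⁻¹ q₂.sub ≠ A := fun e =>
    hq (Member.ext' (by rw [hb, ← cj_inv' b q₂.sub, e]))
  obtain ⟨n, n1, n2⟩ := trans_others hc hf (p₂.mem.cj a⁻¹) h1 (q₂.mem.cj b⁻¹) h2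
  refine ⟨b * n * a⁻¹, Member.ext' ?_, Member.ext' ?_⟩
  · rw [smul_sub, ha, hb, cj_cj, inv_mul_cancel_right, ← cj_cj, n1]
  · rw [smul_sub, ← cj_cj, ← cj_cj, n2, cj_inv']

end

end Cfsg.Agent.CIT21Plane

namespace Cfsg.Agent.CIT21

open Subgroup CIT21Plane Configuration
open scoped LinearAlgebra.Projectivization

/-- A CIT group with the configuration `Flats` is `PSL₃(4)`. -/
theorem plane {G : Type*} [Group G] [Finite G] : PlaneSpec G := by
  classical
  intro hc hs ⟨V, A, S, hf⟩
  letI : Membership (Member A) (Member V) := ⟨fun l p => Inc V A p.sub l.sub⟩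
  have hmem : ∀ (p : Member A) (l : Member V), p ∈ l ↔ Inc V A p.sub l.sub := fun p l => Iff.rfl
  have hneq : ∀ {B : Subgroup G} {x y : Member B}, x ≠ y → x.sub ≠ y.sub :=
    fun h e => h (Member.ext' e)
  have hline : ∀ p₁ p₂ : Member A, ∃ l : Member V, p₁ ∈ l ∧ p₂ ∈ l := fun p₁ p₂ => by
    obtain ⟨l, h1, h2⟩ := col_all hc hf p₁.mem p₂.mem
    exact ⟨⟨l, h1.isLn⟩, h1, h2⟩
  have hpoint : ∀ l₁ l₂ : Member V, ∃ p : Member A, p ∈ l₁ ∧ p ∈ l₂ := fun l₁ l₂ => by
    obtain ⟨p, h1, h2⟩ := lines_meet hc hf l₁.mem l₂.mem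
    exact ⟨⟨p, h1.isPt⟩, h1, h2⟩
  choose mL hmL1 hmL2 using hline
  choose mP hmP1 hmP2 using hpoint
  letI : ProjectivePlane (Member A) (Member V) :=
    { exists_point := fun l => by
        obtain ⟨q, hq, -⟩ := exists_ne_line hf.swap l.mem ⊥
        obtain ⟨m, hm, hml⟩ := exists_ne_line hf hq.symm.isPt l.sub
        obtain ⟨x, hx, hxl, -⟩ := exists_other_pt hc hf (r := ⊥) hm.isLn l.mem hml
        exact ⟨⟨x, hx.isPt⟩, hxl⟩
      exists_line := fun p => by
        obtain ⟨m, hm, -⟩ := exists_ne_line hf p.mem ⊥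
        obtain ⟨q, hq, hqp⟩ := exists_ne_pt hf hm
        obtain ⟨l, hl, hlm⟩ := exists_ne_line hf hq.isPt m
        exact ⟨⟨l, hl.isLn⟩, fun h => hlm
          ((two_lines hc hf hl h hq hm).resolve_left hqp)⟩
      eq_or_eq := fun h1 h2 h3 h4 => (two_lines hc hf h1 h2 h3 h4).imp Member.ext' Member.ext'
      mkPoint := fun {l₁ l₂} _ => mP l₁ l₂
      mkPoint_ax := fun {l₁ l₂} _ => ⟨hmP1 l₁ l₂, hmP2 l₁ l₂⟩
      mkLine := fun {p₁ p₂} _ => mL p₁ p₂
      mkLine_ax := fun {p₁ p₂} _ => ⟨hmL1 p₁ p₂, hmL2 p₁ p₂⟩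
      exists_config := by
        have hA : IsPt A A := ⟨1, (cj_one A).symm⟩
        obtain ⟨m, hm, hne⟩ := exists_ne_line hf hA V
        obtain ⟨p3, hp3, hp3m, hp3A⟩ := exists_other_pt hc hf (r := A)
          (inc_self hf).isLn hm.isLn hne.symm
        obtain ⟨q, hq, hqA, hq3⟩ : ∃ q, Inc V A q V ∧ q ≠ A ∧ q ≠ p3 := by
          by_contra hno
          push Not at hno
          have hsub : {q | Inc V A q V ∧ q ≠ A} ⊆ {p3} := fun q hq => hno q hq.1 hq.2
          have := Set.ncard_le_ncard hsub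
          rw [ncard_pts_ne hf (inc_self hf), Set.ncard_singleton] at this
          omega
        obtain ⟨l1, hl1, hl1V⟩ := exists_ne_line hf hq.isPt V
        have hqm : ¬ Inc V A q m := fun h =>
          hne ((two_lines hc hf hm h (inc_self hf) hq).resolve_left hqA.symm)
        have hl1m : l1 ≠ m := fun e => hqm (e ▸ hl1)
        obtain ⟨p1, hp1, hp1m, hp1q⟩ := exists_other_pt hc hf (r := q) hl1.isLn hm.isLn hl1m
        refine ⟨⟨p1, hp1.isPt⟩, ⟨A, hA⟩, ⟨p3, hp3.isPt⟩, ⟨l1, hl1.isLn⟩,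
          ⟨V, (inc_self hf).isLn⟩, ⟨m, hm.isLn⟩, ?_, hp1m, ?_, inc_self hf, hm, ?_, hp3, hp3m⟩
        · exact fun h => hl1V ((two_lines hc hf hp1 hl1 h hq).resolve_left hp1q)
        · exact fun h => hl1V ((two_lines hc hf h hl1 (inc_self hf) hq).resolve_left hqA.symm)
        · exact fun h => hl1V ((two_lines hc hf h hl1 hp3 hq).resolve_left hq3.symm) }
  letI := Fintype.ofFinite (Member A)
  letI := Fintype.ofFinite (Member V)
  obtain ⟨F, iF, iFt, φ, hW, -⟩ := Cfsg.Agent.S3732.result (P := Member A) (L := Member V)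
    (fun p₁ p₂ q₁ q₂ hp hq => by
      obtain ⟨g, h1, h2⟩ := two_trans hc hf hp hq
      exact ⟨MulAction.toPerm g, MulAction.toPerm g, fun p l => smul_inc g, h1, h2⟩)
  have h21 : Nat.card (ℙ F (Fin 3 → F)) = 21 := by
    rw [← Nat.card_congr φ, card_member hc hf]
  have h4 : Fintype.card F = 4 := by
    have h := Projectivization.card' (k := F) (V := Fin 3 → F)
    rw [h21, Nat.card_fun, Nat.card_fin, Nat.card_eq_fintype_card] at h
    have hq : 1 < Fintype.card F := Fintype.one_lt_card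
    obtain ⟨r, hr⟩ : ∃ r, Fintype.card F = r + 2 := ⟨Fintype.card F - 2, by omega⟩
    rw [hr, show r + 2 - 1 = r + 1 from rfl] at h
    have : r ≤ 4 := by
      by_contra hr5
      have h49 : 7 * 7 ≤ (r + 2) * (r + 2) := Nat.mul_le_mul (by omega) (by omega)
      nlinarith [Nat.mul_le_mul_right (r + 2) h49]
    interval_cases r <;> first | omega | (rw [hr])
  refine ⟨F, iF, iFt, h4, ?_⟩
  let ψ : G →* Equiv.Perm (ℙ F (Fin 3 → F)) :=
    (Equiv.permCongrHom φ).toMonoidHom.comp (MulAction.toPermHom G (Member A))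
  have hψ : ∀ g x, ψ g x = φ (g • φ.symm x) := fun g x => rfl
  set R := (Projectivization.PSLAction.toPermHom (ι := Fin 3) (K := F)).range with hR
  have hinv : ∀ u : G, orderOf u = 2 → ψ u ∈ R := by
    intro u hu
    obtain ⟨c, l, hcl, huc, hul⟩ := exists_flag_invol hf hu
    obtain ⟨W, hW2, hWm⟩ := hW ⟨l, hcl.isLn⟩
    refine elation_mem_range (ψ u) W hW2 (φ ⟨c, hcl.isPt⟩) ((hWm ⟨c, hcl.isPt⟩).1 hcl) ?_ ?_ ?_
    · intro x hx
      obtain ⟨p, rfl⟩ := φ.surjective x
      rw [hψ, Equiv.symm_apply_apply]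
      exact congrArg φ (Member.ext' (fix_pts hf ((hWm p).2 hx) hul))
    · intro x
      obtain ⟨p, rfl⟩ := φ.surjective x
      rw [hψ, Equiv.symm_apply_apply]
      rcases eq_or_ne p ⟨c, hcl.isPt⟩ with e | e
      · subst e
        have : u • (⟨c, hcl.isPt⟩ : Member A) = ⟨c, hcl.isPt⟩ := Member.ext' (cj_self huc)
        rw [this]
        exact le_sup_left
      · obtain ⟨W', hW2', hW'⟩ := hW (mL p ⟨c, hcl.isPt⟩)
        have eW : (φ p).submodule ⊔ (φ ⟨c, hcl.isPt⟩).submodule = W' :=
          Submodule.eq_of_le_of_finrank_le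
            (sup_le ((hW' p).1 (hmL1 _ _)) ((hW' _).1 (hmL2 _ _)))
            (by rw [hW2', finrank_sup_two (φ.injective.ne e)])
        rw [eW]
        refine (hW' _).1 ((hmem _ _).2 ?_)
        have h := Inc.cj ((hmem _ _).1 (hmL1 p ⟨c, hcl.isPt⟩)) u
        rwa [fix_lns hf ((hmem _ _).1 (hmL2 p ⟨c, hcl.isPt⟩)) huc] at h
    · intro x y z hz
      obtain ⟨a, rfl⟩ := φ.surjective x
      obtain ⟨b, rfl⟩ := φ.surjective y
      obtain ⟨d, rfl⟩ := φ.surjective z
      simp only [hψ, Equiv.symm_apply_apply]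
      rcases eq_or_ne a b with rfl | e
      · rw [sup_idem] at hz ⊢
        have : φ d = φ a := Projectivization.submodule_injective
          (Submodule.eq_of_le_of_finrank_le hz (by
            rw [Projectivization.finrank_submodule, Projectivization.finrank_submodule]))
        rw [φ.injective this]
      · obtain ⟨W', hW2', hW'⟩ := hW (mL a b)
        have eW : (φ a).submodule ⊔ (φ b).submodule = W' :=
          Submodule.eq_of_le_of_finrank_le
            (sup_le ((hW' a).1 (hmL1 _ _)) ((hW' b).1 (hmL2 _ _)))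
            (by rw [hW2', finrank_sup_two (φ.injective.ne e)])
        rw [eW] at hz
        have hd : d ∈ mL a b := (hW' d).2 hz
        obtain ⟨W'', hW2'', hW''⟩ := hW (u • mL a b)
        have m : ∀ {t : Member A}, t ∈ mL a b → (φ (u • t)).submodule ≤ W'' := fun ht =>
          (hW'' _).1 ((smul_inc u).2 ht)
        have eW' : (φ (u • a)).submodule ⊔ (φ (u • b)).submodule = W'' :=
          Submodule.eq_of_le_of_finrank_le (sup_le (m (hmL1 _ _)) (m (hmL2 _ _)))
            (by rw [hW2'', finrank_sup_two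
              (φ.injective.ne ((MulAction.injective u).ne e))])
        rw [eW']
        exact m hd
  obtain ⟨a, haA, ha1⟩ : ∃ a ∈ A, a ≠ 1 := by
    refine A.bot_or_exists_ne_one.resolve_left fun e => ?_
    have := card_A hf
    rw [e, Subgroup.card_bot] at this
    omega
  have hle : ∀ g : G, ψ g ∈ R := by
    have h1 : normalClosure ({a} : Set G) ≤ R.comap ψ := by
      rw [normalClosure, closure_le]
      intro x hx
      obtain ⟨b, hb, hbx⟩ := Group.mem_conjugatesOfSet_iff.1 hx
      rw [Set.mem_singleton_iff] at hb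
      subst hb
      obtain ⟨c, hc'⟩ := isConj_iff.1 hbx
      refine hinv x ?_
      rw [← hc', ← MulAut.conj_apply, MulEquiv.orderOf_eq]
      exact orderOf_two hf.swap haA ha1
    have h2 : normalClosure ({a} : Set G) = ⊤ :=
      (normalClosure_normal (s := ({a} : Set G))).eq_bot_or_eq_top.resolve_left fun h =>
        ha1 (Subgroup.mem_bot.1 (h ▸ subset_normalClosure rfl))
    intro g
    exact h1 (h2 ▸ Subgroup.mem_top g)
  have hinj : Function.Injective ψ := by
    rw [← MonoidHom.ker_eq_bot_iff]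
    refine ((inferInstance : ψ.ker.Normal).eq_bot_or_eq_top).resolve_right fun h => ?_
    obtain ⟨m, hm, -⟩ := exists_ne_line hf ⟨1, (cj_one A).symm⟩ V
    obtain ⟨q, hq, hqA⟩ := exists_ne_pt hf hm
    obtain ⟨g, hg⟩ := hq.isPt
    have h1 : ψ g = 1 := MonoidHom.mem_ker.1 (h ▸ Subgroup.mem_top g)
    have := congrArg (fun σ : Equiv.Perm (ℙ F (Fin 3 → F)) =>
      σ (φ ⟨A, 1, (cj_one A).symm⟩)) h1
    simp only [hψ, Equiv.symm_apply_apply, Equiv.Perm.one_apply] at this
    exact hqA (hg.trans (congrArg Member.sub (φ.injective this)))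
  have hrange : ψ.range = R := by
    refine Subgroup.eq_of_le_of_card_ge (fun x ⟨g, e⟩ => e ▸ hle g) ?_
    rw [hR, ← Nat.card_congr (MonoidHom.ofInjective
      (Matrix.ProjectiveSpecialLinearGroup.toPermHom_injective (K := F) (ι := Fin 3))).toEquiv,
      ← Nat.card_congr (MonoidHom.ofInjective hinj).toEquiv, card_psl34 F h4, card_G hc hf]
  exact ⟨(MonoidHom.ofInjective hinj).trans ((MulEquiv.subgroupCongr hrange).trans
    (MonoidHom.ofInjective
      (Matrix.ProjectiveSpecialLinearGroup.toPermHom_injective (K := F) (ι := Fin 3))).symm)⟩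

end Cfsg.Agent.CIT21
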