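import Cfsg.Agent.Lib.CIT21Climb

/-!
# CIT groups: an `ELocal` leads to one with `D = V` (S0348)
-/

set_option autoImplicit false

namespace Cfsg.Agent.CIT21

open Subgroup

variable {G : Type*} [Group G] [Finite G]

/-- An element of order `3` acts fixed point freely, so `d · d^x · d^{x²} = 1`. -/
theorem triple_prod (hG : IsCIT G) {D : Subgroup G} (hD : IsPGroup 2 D) {x : G}
    (hx : orderOf x = 3) (hxD : x ∈ normalizer (D : Set G)) {d : G} (hd : d ∈ D) :
    d * (x * d * x⁻¹) * (x * x * d * (x * x)⁻¹) = 1 := by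
  let φ : D → D := fun c => ⟨(c : G) * (x * (c : G)⁻¹ * x⁻¹),
    D.mul_mem c.2 ((mem_normalizer_iff.1 hxD _).1 (D.inv_mem c.2))⟩
  have hφ : Function.Injective φ := by
    intro c c' e
    have e' := congrArg Subtype.val e
    simp only [φ] at e'
    refine Subtype.ext (inv_mul_eq_one.1 (fpf hG hD (x := x) (by rw [hx]; decide)
      (fun h => by rw [h, orderOf_one] at hx; omega) (D.mul_mem (D.inv_mem c.2) c'.2) ?_))
    calc x * ((c : G)⁻¹ * (c' : G))
        = (c : G)⁻¹ * ((c : G) * (x * (c : G)⁻¹ * x⁻¹)) * x * (c' : G) := by group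
      _ = (c : G)⁻¹ * ((c' : G) * (x * (c' : G)⁻¹ * x⁻¹)) * x * (c' : G) := by rw [e']
      _ = _ := by group
  obtain ⟨c, hc⟩ := (Finite.injective_iff_surjective.1 hφ) ⟨d, hd⟩
  have hdx : d * x = (c : G) * x * (c : G)⁻¹ := by
    have := congrArg Subtype.val hc
    simp only [φ] at this
    rw [← this]; group
  have hx3 : x * x * x = 1 := by
    have := pow_orderOf_eq_one x
    rwa [hx, pow_succ, pow_two] at this
  have h3 : d * x * (d * x) * (d * x) = 1 := by
    rw [hdx]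
    calc _ = (c : G) * (x * x * x) * (c : G)⁻¹ := by group
      _ = 1 := by rw [hx3]; group
  calc d * (x * d * x⁻¹) * (x * x * d * (x * x)⁻¹)
      = d * x * (d * x) * (d * x) * (x * x * x)⁻¹ := by group
    _ = 1 := by rw [h3, hx3]; group

namespace ELocal

variable {N D V : Subgroup G} {c : ℕ}

theorem exists_two_others (hE : ELocal N D V c) {R : Subgroup G} (hR : IsSyl N D c R) :
    ∃ R' R'', IsSyl N D c R' ∧ IsSyl N D c R'' ∧ R ≠ R' ∧ R' ≠ R'' ∧ R ≠ R'' := by
  classical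
  haveI : Fintype {R : Subgroup G // IsSyl N D c R} := Fintype.ofFinite _
  have hc : 1 < (Finset.univ.erase (⟨R, hR⟩ : {R : Subgroup G // IsSyl N D c R})).card := by
    rw [Finset.card_erase_of_mem (Finset.mem_univ _), Finset.card_univ, ← Nat.card_eq_fintype_card,
      hE.sl2.syl_count]
    have := hE.sl2.two_le
    omega
  obtain ⟨a, ha, b, hb, hab⟩ := Finset.one_lt_card.1 hc
  exact ⟨a.1, b.1, a.2, b.2, fun h => Finset.ne_of_mem_erase ha (Subtype.ext h.symm),
    fun h => hab (Subtype.ext h), fun h => Finset.ne_of_mem_erase hb (Subtype.ext h.symm)⟩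

/-- The key lemma: only `V` has commutators with `D` inside one fixed space. -/
theorem delta (hG : IsCIT G) (hE : ELocal N D V c) {R : Subgroup G} (hR : IsSyl N D c R) {l : G}
    (hl : l ∈ D) (h : ∀ e ∈ D, l * e * l⁻¹ * e⁻¹ ∈ V ⊓ centralizer (R : Set G)) : l ∈ V := by
  obtain ⟨R', R'', hR', hR'', hne, hne', hne''⟩ := hE.exists_two_others hR
  obtain ⟨x, hxN, hx3, hx1, hx2, -⟩ := hE.sl2.triple R R' R'' hR hR' hR'' hne hne' hne''
  have hxD := hE.sl2.normal_D hxN
  have hxV := hE.sl2.normal_U hxN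
  have move : ∀ {P Q : Subgroup G}, P.map (MulAut.conj x).toMonoidHom = Q →
      ∀ w ∈ V ⊓ centralizer (P : Set G), x * w * x⁻¹ ∈ V ⊓ centralizer (Q : Set G) := by
    intro P Q hPQ w hw
    refine ⟨(mem_normalizer_iff.1 hxV w).1 hw.1, ?_⟩
    intro q hq
    rw [← hPQ] at hq
    have hq' : x⁻¹ * q * x ∈ P := le_conj_map_iff.1 hq
    calc q * (x * w * x⁻¹) = x * ((x⁻¹ * q * x) * w) * x⁻¹ := by group
      _ = x * (w * (x⁻¹ * q * x)) * x⁻¹ := by rw [hw.2 _ hq']
      _ = x * w * x⁻¹ * q := by group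
  have hVD : V ≤ D := hE.sl2.U_le
  have hVc : ∀ v ∈ V, ∀ d ∈ D, v * d = d * v := fun v hv d hd =>
    (((hE.center_D.symm ▸ hv : v ∈ D ⊓ centralizer (D : Set G))).2 d hd).symm
  set l' := x * l * x⁻¹ with hl'
  set l'' := x * x * l * (x * x)⁻¹ with hl''
  have key : ∀ e ∈ D, x * (l * e * l⁻¹ * e⁻¹) * x⁻¹ = l' * e * l'⁻¹ * e⁻¹ := by
    intro e he
    set w := l * e * l⁻¹ * e⁻¹ with hw
    have hwW := h e he
    rw [← hw] at hwW
    set e' := x⁻¹ * e * x with he'
    have he'D : e' ∈ D := by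
      simpa [he'] using (mem_normalizer_iff.1 (inv_mem hxD) e).1 he
    set e'' := (x * x)⁻¹ * e * (x * x) with he''
    have he''D : e'' ∈ D := by
      simpa [he''] using (mem_normalizer_iff.1 (inv_mem (mul_mem hxD hxD)) e).1 he
    set w' := l' * e * l'⁻¹ * e⁻¹ with hw'
    set w'' := l'' * e * l''⁻¹ * e⁻¹ with hw''
    have hw'W : w' ∈ V ⊓ centralizer (R' : Set G) := by
      have := move hx1 _ (h e' he'D)
      convert this using 1
      rw [hw', hl', he']; group
    have hw''W : w'' ∈ V ⊓ centralizer (R'' : Set G) := by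
      have := move hx2 _ (move hx1 _ (h e'' he''D))
      convert this using 1
      simp [hw'', hl'', he'', mul_assoc, mul_inv_rev]
    have hxw : x * w * x⁻¹ ∈ V ⊓ centralizer (R' : Set G) := move hx1 _ hwW
    have hxxw : x * x * w * (x * x)⁻¹ ∈ V ⊓ centralizer (R'' : Set G) := by
      have := move hx2 _ hxw
      convert this using 1
      group
    have h1 : w * (x * w * x⁻¹) * (x * x * w * (x * x)⁻¹) = 1 :=
      triple_prod hG hE.sl2.pGroup_D hx3 hxD (hVD hwW.1)
    have h2 : w * w' * w'' = 1 := by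
      have hprod : l * l' * l'' = 1 := triple_prod hG hE.sl2.pGroup_D hx3 hxD hl
      have a1 : l'' * e * l''⁻¹ = w'' * e := by rw [hw'']; group
      have a2 : l' * e * l'⁻¹ = w' * e := by rw [hw']; group
      have a3 : l * e * l⁻¹ = w * e := by rw [hw]; group
      have hl'D : l' ∈ D := (mem_normalizer_iff.1 hxD l).1 hl
      have b1 : l' * w'' * l'⁻¹ = w'' := by
        rw [← hVc w'' hw''W.1 l' hl'D]; group
      have b2 : l * (w'' * w') * l⁻¹ = w'' * w' := by
        rw [← hVc _ (V.mul_mem hw''W.1 hw'W.1) l hl]; group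
      have : (l * l' * l'') * e * (l * l' * l'')⁻¹ = w'' * w' * w * e := by
        calc (l * l' * l'') * e * (l * l' * l'')⁻¹
            = l * (l' * (l'' * e * l''⁻¹) * l'⁻¹) * l⁻¹ := by group
          _ = l * ((l' * w'' * l'⁻¹) * (l' * e * l'⁻¹)) * l⁻¹ := by rw [a1]; group
          _ = l * (w'' * w' * e) * l⁻¹ := by rw [b1, a2]; group
          _ = (l * (w'' * w') * l⁻¹) * (l * e * l⁻¹) := by group
          _ = w'' * w' * w * e := by rw [b2, a3]; group
      rw [hprod, one_mul, inv_one, mul_one] at this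
      have h4 : w'' * w' * w = 1 := mul_eq_right.1 this.symm
      have hcm := hE.sl2.comm_U
      rw [hcm w'' hw''W.1 w' hw'W.1, hcm (w' * w'') (V.mul_mem hw'W.1 hw''W.1) w hwW.1,
        ← mul_assoc] at h4
      exact h4
    have h5 : w' * w'' = (x * w * x⁻¹) * (x * x * w * (x * x)⁻¹) := by
      rw [mul_assoc] at h1 h2
      exact mul_left_cancel (h2.trans h1.symm)
    have h6 : (x * w * x⁻¹)⁻¹ * w' ∈ (V ⊓ centralizer (R' : Set G)) ⊓
        (V ⊓ centralizer (R'' : Set G)) := by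
      refine ⟨(V ⊓ centralizer (R' : Set G)).mul_mem
        ((V ⊓ centralizer (R' : Set G)).inv_mem hxw) hw'W, ?_⟩
      have h7 : (x * w * x⁻¹)⁻¹ * w' = x * x * w * (x * x)⁻¹ * w''⁻¹ := by
        calc (x * w * x⁻¹)⁻¹ * w' = (x * w * x⁻¹)⁻¹ * (w' * w'') * w''⁻¹ := by group
          _ = _ := by rw [h5]; group
      rw [h7]
      exact (V ⊓ centralizer (R'' : Set G)).mul_mem hxxw
        ((V ⊓ centralizer (R'' : Set G)).inv_mem hw''W)
    rw [hE.sl2.fixed_inter R' R'' hR' hR'' hne', mem_bot, inv_mul_eq_one] at h6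
    exact h6
  -- `l'` centralises `D`
  have hl'D : l' ∈ D := (mem_normalizer_iff.1 hxD l).1 hl
  let ψ : D → D := fun e => ⟨(e : G)⁻¹ * (x * e * x⁻¹),
    D.mul_mem (D.inv_mem e.2) ((mem_normalizer_iff.1 hxD _).1 e.2)⟩
  have hψ : Function.Injective ψ := by
    intro e f hef
    have e' := congrArg Subtype.val hef
    simp only [ψ] at e'
    refine Subtype.ext (mul_inv_eq_one.1 (fpf hG hE.sl2.pGroup_D (x := x) (by rw [hx3]; decide)
      (fun h => by rw [h, orderOf_one] at hx3; omega) (D.mul_mem e.2 (D.inv_mem f.2)) ?_))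
    calc x * ((e : G) * (f : G)⁻¹) = (e : G) * ((e : G)⁻¹ * (x * e * x⁻¹)) * x * (f : G)⁻¹ := by
          group
      _ = (e : G) * ((f : G)⁻¹ * (x * f * x⁻¹)) * x * (f : G)⁻¹ := by rw [e']
      _ = _ := by group
  have hl'C : l' ∈ centralizer (D : Set G) := by
    intro d hd
    obtain ⟨e, he⟩ := (Finite.injective_iff_surjective.1 hψ) ⟨d, hd⟩
    have hd' : (e : G)⁻¹ * (x * e * x⁻¹) = d := congrArg Subtype.val he
    set f := x * (e : G) * x⁻¹ with hf
    have hfD : f ∈ D := (mem_normalizer_iff.1 hxD _).1 e.2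
    have h1 : l' * (e : G) * l'⁻¹ * (e : G)⁻¹ = l' * f * l'⁻¹ * f⁻¹ := by
      rw [← key e e.2, hf, hl']; group
    set z := l' * (e : G) * l'⁻¹ * (e : G)⁻¹ with hz
    calc d * l' = (e : G)⁻¹ * f * l' := by rw [hd']
      _ = (e : G)⁻¹ * z⁻¹ * (l' * f) := by rw [h1]; group
      _ = l' * ((e : G)⁻¹ * f) := by rw [hz]; group
      _ = l' * d := by rw [hd']
  have hV : l' ∈ V := hE.center_D ▸ (⟨hl'D, hl'C⟩ : l' ∈ D ⊓ centralizer (D : Set G))
  exact (mem_normalizer_iff.1 hxV l).2 hV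

theorem card_centralizer_sq_le (hG : IsCIT G) (hE : ELocal N D V c) {R : Subgroup G}
    (hR : IsSyl N D c R) {y : G} (hy : y ∈ R) (hyD : y ∉ D) :
    Nat.card ↥(R ⊓ centralizer ({y} : Set G)) ^ 2 ≤ c ^ 2 * Nat.card D := by
  set H := R ⊓ centralizer ({y} : Set G) with hH
  have hDR := hE.sl2.syl_ge R hR
  have h0 : D.relIndex R * Nat.card D = Nat.card R := by
    rw [← relIndex_bot_left, ← relIndex_bot_left, mul_comm, relIndex_mul_relIndex _ _ _ bot_le hDR]
  have h1 : D.relIndex R = c := by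
    rw [hR.2.2, mul_comm (Nat.card D) c] at h0
    exact Nat.eq_of_mul_eq_mul_right Nat.card_pos h0
  have h2 : D.relIndex H ≤ c :=
    h1 ▸ relIndex_le_of_le_right inf_le_left (by rw [h1]; have := hE.sl2.two_le; omega)
  have h3 : (D ⊓ H).relIndex H * Nat.card ↥(D ⊓ H) = Nat.card H := by
    rw [← relIndex_bot_left, ← relIndex_bot_left, mul_comm,
      relIndex_mul_relIndex _ _ _ bot_le inf_le_right]
  rw [inf_relIndex_right] at h3
  have h4 : Nat.card ↥(D ⊓ H) ^ 2 ≤ Nat.card D := by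
    refine le_trans (Nat.pow_le_pow_left (card_le_of_le ?_) 2)
      (card_fixed_sq_le hG hE.sl2.normal_D hE.sl2.pGroup_D (hR.1 hy) (twoElt_of_mem hR.2.1 hy)
        (hE.sl2.core.symm ▸ hyD))
    exact le_inf inf_le_left (inf_le_right.trans inf_le_right)
  rw [← h3, mul_pow]
  exact Nat.mul_le_mul (Nat.pow_le_pow_left h2 2) h4

theorem card_le_of_centralizer (hG : IsCIT G) (hE : ELocal N D V c) {R : Subgroup G}
    (hR : IsSyl N D c R) {y : G} (hy : y ∈ R) (hyD : y ∉ D) {D' : Subgroup G}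
    (hD' : D' ≤ R) (hD'y : D' ≤ centralizer ({y} : Set G)) (hcard : Nat.card D ≤ Nat.card D') :
    D = V := by
  have h := (Nat.pow_le_pow_left (hcard.trans (card_le_of_le (le_inf hD' hD'y))) 2).trans
    (hE.card_centralizer_sq_le hG hR hy hyD)
  rw [pow_two, ← hE.sl2.card_U] at h
  exact (eq_of_le_of_card_ge hE.sl2.U_le (Nat.le_of_mul_le_mul_right h Nat.card_pos)).symm

/-- `V` is determined by a Sylow subgroup of `N`. -/
theorem same_V (hG : IsCIT G) (hE : ELocal N D V c) (hDV : D ≠ V) {R : Subgroup G}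
    (hR : IsSyl N D c R) {V' D' : Subgroup G} (hV' : V' ≤ R) (hcard : Nat.card V' = c ^ 2)
    (hcomm : ∀ v ∈ V', ∀ r ∈ R, v * r * v⁻¹ * r⁻¹ ∈ V ⊓ centralizer (R : Set G))
    (hD' : D' ≤ R) (hD'c : Nat.card D ≤ Nat.card D')
    (hD'V : D' ≤ centralizer (V' : Set G)) : V' = V := by
  by_cases hle : V' ≤ D
  · refine eq_of_le_of_card_ge (fun v hv => hE.delta hG hR (hle hv) fun e he =>
      hcomm v hv e (hE.sl2.syl_ge R hR he)) ?_
    rw [hcard, hE.sl2.card_U]
  · obtain ⟨y, hy, hyD⟩ := SetLike.not_le_iff_exists.1 hle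
    exact absurd (hE.card_le_of_centralizer hG hR (hV' hy) hyD hD'
      (hD'V.trans (centralizer_le (Set.singleton_subset_iff.2 hy))) hD'c) hDV

theorem center_conj (hE : ELocal N D V c) {R : Subgroup G} (hR : IsSyl N D c R) {g : G}
    (hg : g ∈ normalizer (R : Set G)) {w : G} (hw : w ∈ V ⊓ centralizer (R : Set G)) :
    g * w * g⁻¹ ∈ V ⊓ centralizer (R : Set G) := by
  rw [← hE.center_R R hR] at hw ⊢
  refine ⟨(mem_normalizer_iff.1 hg w).1 hw.1, fun q hq => ?_⟩
  have hq' : g⁻¹ * q * g ∈ R := by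
    simpa using (mem_normalizer_iff.1 (inv_mem hg) q).1 hq
  calc q * (g * w * g⁻¹) = g * ((g⁻¹ * q * g) * w) * g⁻¹ := by group
    _ = g * (w * (g⁻¹ * q * g)) * g⁻¹ := by rw [hw.2 _ hq']
    _ = g * w * g⁻¹ * q := by group

/-- The normaliser of a Sylow subgroup of `N` lies in `N`. -/
theorem normalizer_syl_le (hG : IsCIT G) (hE : ELocal N D V c) (hDV : D ≠ V) {R : Subgroup G}
    (hR : IsSyl N D c R) : normalizer (R : Set G) ≤ N := by
  intro g hg
  have hDR := hE.sl2.syl_ge R hR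
  have hmap : ∀ {H : Subgroup G}, H ≤ R → H.map (MulAut.conj g).toMonoidHom ≤ R := fun hH =>
    (map_mono hH).trans (map_eq_of_mem_normalizer hg).le
  have h := hE.same_V hG hDV hR (V' := V.map (MulAut.conj g).toMonoidHom)
    (D' := D.map (MulAut.conj g).toMonoidHom) (hmap (hE.sl2.U_le.trans hDR))
    (by rw [card_conj, hE.sl2.card_U]) ?_ (hmap hDR) (card_conj g D).ge ?_
  · have hgV := mem_normalizer_of_map_eq h
    rw [← hE.N_eq]
    refine mem_normalizer_of_map_eq ?_
    ext x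
    rw [le_conj_map_iff, ← hE.cent_V]
    constructor
    · intro hx v hv
      have hv' : g⁻¹ * v * g ∈ V := by simpa using (mem_normalizer_iff.1 (inv_mem hgV) v).1 hv
      calc v * x = g * ((g⁻¹ * v * g) * (g⁻¹ * x * g)) * g⁻¹ := by group
        _ = g * ((g⁻¹ * x * g) * (g⁻¹ * v * g)) * g⁻¹ := by rw [hx _ hv']
        _ = x * v := by group
    · intro hx v hv
      have hv' : g * v * g⁻¹ ∈ V := (mem_normalizer_iff.1 hgV v).1 hv
      calc v * (g⁻¹ * x * g) = g⁻¹ * ((g * v * g⁻¹) * x) * g := by group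
        _ = g⁻¹ * (x * (g * v * g⁻¹)) * g := by rw [hx _ hv']
        _ = g⁻¹ * x * g * v := by group
  · intro v hv r hr
    have hv' := le_conj_map_iff.1 hv
    have hr' : g⁻¹ * r * g ∈ R := by simpa using (mem_normalizer_iff.1 (inv_mem hg) r).1 hr
    have := hE.center_conj hR hg (hE.sl2.comm_fixed R hR _ hv' _ hr')
    convert this using 1; group
  · intro d hd v hv
    have hd' := le_conj_map_iff.1 hd
    have hv' := le_conj_map_iff.1 hv
    have hc : g⁻¹ * d * g ∈ centralizer (V : Set G) := hE.cent_V.symm ▸ hd'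
    calc v * d = g * ((g⁻¹ * v * g) * (g⁻¹ * d * g)) * g⁻¹ := by group
      _ = g * ((g⁻¹ * d * g) * (g⁻¹ * v * g)) * g⁻¹ := by rw [hc _ hv']
      _ = d * v := by group

theorem isSyl_of_max2 (hE : ELocal N D V c) {R : Subgroup G} (hR : IsMax2 N R) :
    IsSyl N D c R := by
  obtain ⟨R₀, hR₀, hle⟩ := hE.sl2.exists_syl R hR.1 hR.2.1
  exact hR.2.2 R₀ hR₀.1 hR₀.2.1 hle ▸ hR₀

theorem syl_max2 (hE : ELocal N D V c) {R : Subgroup G} (hR : IsSyl N D c R) : IsMax2 N R := by
  refine ⟨hR.1, hR.2.1, fun P hP hPp hle => ?_⟩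
  obtain ⟨R₀, hR₀, hPR⟩ := hE.sl2.exists_syl P hP hPp
  exact le_antisymm (hPR.trans (eq_of_le_of_card_ge (hle.trans hPR)
    (hR₀.2.2.trans hR.2.2.symm).le).ge) hle

theorem syl_eq_sylow (hG : IsCIT G) (hE : ELocal N D V c) (hDV : D ≠ V) {R : Subgroup G}
    (hR : IsSyl N D c R) {S : Sylow 2 G} (hRS : R ≤ (S : Subgroup G)) :
    R = (S : Subgroup G) := by
  by_contra hne
  obtain ⟨g, hgS, hgR, hgn⟩ := exists_normalizing S.isPGroup' (lt_of_le_of_ne hRS hne)
  have h := (hE.syl_max2 hR).2.2 (R ⊔ zpowers g)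
    (sup_le hR.1 (zpowers_le.2 (hE.normalizer_syl_le hG hDV hR hgn)))
    (S.isPGroup'.to_le (sup_le hRS (zpowers_le.2 hgS))) le_sup_left
  exact hgR (h ▸ le_sup_right (α := Subgroup G) (mem_zpowers g))

theorem unique_V (hG : IsCIT G) (hE : ELocal N D V c) (hDV : D ≠ V) {N' D' V' : Subgroup G}
    {c' : ℕ} (hE' : ELocal N' D' V' c') (hDV' : D' ≠ V') {R : Subgroup G}
    (hR : IsSyl N D c R) (hR' : IsSyl N' D' c' R) : V = V' := by
  have hW : V ⊓ centralizer (R : Set G) = V' ⊓ centralizer (R : Set G) := by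
    rw [← hE.center_R R hR, hE'.center_R R hR']
  have hc : c = c' := by rw [← hE.sl2.fixed_card R hR, hW, hE'.sl2.fixed_card R hR']
  rcases le_total (Nat.card D) (Nat.card D') with h | h
  · exact (hE.same_V hG hDV hR (hE'.sl2.U_le.trans (hE'.sl2.syl_ge R hR'))
      (hc ▸ hE'.sl2.card_U) (fun v hv r hr => hW ▸ hE'.sl2.comm_fixed R hR' v hv r hr)
      (hE'.sl2.syl_ge R hR') h (fun d hd v hv => (hE'.cent_V.symm ▸ hd : d ∈ centralizer _) v hv)).symm
  · exact hE'.same_V hG hDV' hR' (hE.sl2.U_le.trans (hE.sl2.syl_ge R hR))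
      (hc.symm ▸ hE.sl2.card_U) (fun v hv r hr => hW.symm ▸ hE.sl2.comm_fixed R hR v hv r hr)
      (hE.sl2.syl_ge R hR) h (fun d hd v hv => (hE.cent_V.symm ▸ hd : d ∈ centralizer _) v hv)

end ELocal

/-- A nontrivial normal subgroup of a `2`-group modulo a central series term. -/
theorem exists_central_mod {D V U : Subgroup G} (hD : IsPGroup 2 D)
    (hV : D ≤ normalizer (V : Set G)) (hU : U ≤ D) (hn : D ≤ normalizer (U : Set G))
    (hne : ¬ U ≤ V) : ∃ l ∈ U, l ∉ V ∧ ∀ e ∈ D, l * e * l⁻¹ * e⁻¹ ∈ V := by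
  classical
  haveI : Fact (Nat.Prime 2) := ⟨Nat.prime_two⟩
  haveI : (V.subgroupOf D).Normal := normal_subgroupOf_of_le_normalizer hV
  haveI : (U.subgroupOf D).Normal := normal_subgroupOf_of_le_normalizer hn
  set q : D →* D ⧸ V.subgroupOf D := QuotientGroup.mk' _ with hq
  set B := (U.subgroupOf D).map q with hB
  haveI : B.Normal := Normal.map (inferInstance : (U.subgroupOf D).Normal) q (QuotientGroup.mk'_surjective (V.subgroupOf D))
  have hQ : IsPGroup 2 (D ⧸ V.subgroupOf D) := hD.to_quotient _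
  obtain ⟨u, huU, huV⟩ := SetLike.not_le_iff_exists.1 hne
  have hu' : q ⟨u, hU huU⟩ ∈ B := ⟨_, huU, rfl⟩
  have hu1 : q ⟨u, hU huU⟩ ≠ 1 := by
    rw [hq, QuotientGroup.mk'_apply, Ne, QuotientGroup.eq_one_iff]
    exact huV
  letI : MulAction (D ⧸ V.subgroupOf D) B := MulAction.compHom B (MulAut.conjNormal (H := B))
  haveI : Nontrivial B := ⟨⟨⟨_, hu'⟩, 1, fun h => hu1 (congrArg Subtype.val h)⟩⟩
  obtain ⟨n, hn0, hcard⟩ : ∃ n, n ≠ 0 ∧ Nat.card B = 2 ^ n := by
    obtain ⟨n, hn'⟩ := (hQ.to_subgroup B).exists_card_eq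
    refine ⟨n, fun h0 => ?_, hn'⟩
    rw [h0, pow_zero] at hn'
    exact (Finite.one_lt_card (α := B)).ne' hn'
  have h1 : (1 : B) ∈ MulAction.fixedPoints (D ⧸ V.subgroupOf D) B := fun a => by
    show MulAut.conjNormal a (1 : B) = 1
    exact map_one _
  obtain ⟨b, hb, hb1⟩ := hQ.exists_fixed_point_of_prime_dvd_card_of_fixed_point B
    (hcard ▸ dvd_pow_self 2 hn0) h1
  obtain ⟨l, hlU, hl⟩ := b.2
  refine ⟨l, hlU, fun hlV => hb1 (Subtype.ext ?_), fun e he => ?_⟩
  · rw [← hl, OneMemClass.coe_one]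
    exact ((QuotientGroup.eq_one_iff l).2 hlV).symm
  · have h2 : q ⟨e, he⟩ * (b : D ⧸ V.subgroupOf D) * (q ⟨e, he⟩)⁻¹ = b := by
      have := congrArg Subtype.val (hb (q ⟨e, he⟩))
      rwa [show ((q ⟨e, he⟩) • b : B) = MulAut.conjNormal (q ⟨e, he⟩) b from rfl,
        MulAut.conjNormal_apply] at this
    have h3 : q (⟨e, he⟩ * l * ⟨e, he⟩⁻¹ * l⁻¹) = 1 := by
      rw [map_mul, map_mul, map_mul, map_inv, map_inv, hl, h2, mul_inv_cancel]
    rw [hq, QuotientGroup.mk'_apply, QuotientGroup.eq_one_iff, mem_subgroupOf] at h3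
    have := V.inv_mem h3
    simpa [mul_assoc] using this

/-- Some `ELocal` with `D ≠ V` and offending Sylow subgroup `S`: `N(J(S)) ≤ N(S)`. -/
theorem normalizer_J_le (hG : IsCIT G) (hquad : QuadraticSpec G) {N D V : Subgroup G} {c : ℕ}
    (hE : ELocal N D V c) (hDV : D ≠ V) (S : Sylow 2 G) (hS : IsSyl N D c (S : Subgroup G))
    {A : Subgroup G} (hA : MaxAb (S : Subgroup G) A) (hAD : ¬ A ≤ D) :
    normalizer (J (S : Subgroup G) : Set G) ≤ normalizer ((S : Subgroup G) : Set G) := by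
  classical
  haveI : Fact (Nat.Prime 2) := ⟨Nat.prime_two⟩
  set M := normalizer (J (S : Subgroup G) : Set G) with hM
  have hSM : (S : Subgroup G) ≤ M := le_normalizer.trans (normalizer_le_normalizer_J _)
  set Q := O2 M with hQ
  have hQS : Q ≤ (S : Subgroup G) := O2_le_max2 (max2_sylow S hSM)
  obtain ⟨q, hqA, hqD⟩ := SetLike.not_le_iff_exists.1 hAD
  have hJQ : J (S : Subgroup G) ≤ Q :=
    le_O2 le_normalizer le_rfl (S.isPGroup'.to_le (J_le _))
  have hqQ : q ∈ Q := hJQ (le_J hA hqA)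
  have hQne : Q ≠ ⊥ := fun h => by
    rw [h, mem_bot] at hqQ
    exact hqD (hqQ ▸ D.one_mem)
  set W := V ⊓ centralizer ((S : Subgroup G) : Set G) with hW
  have hDS := hE.sl2.syl_ge _ hS
  have hWS : W ≤ (S : Subgroup G) := inf_le_left.trans (hE.sl2.U_le.trans hDS)
  have hWQ : W ≤ Q ⊓ centralizer (Q : Set G) := by
    refine le_inf ?_ (inf_le_right.trans (centralizer_le hQS))
    exact (le_inf (hWS.trans hSM) (inf_le_right.trans (centralizer_le hQS))).trans
      (centralizer_inf_le_O2 hG (le_normalizer_O2 M) (isPGroup_O2 M) hQne)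
  set gens : Set G := {x | ∃ m ∈ M, ∃ w ∈ W, x = m * w * m⁻¹} with hgens
  set U := closure gens with hU
  have hgQ : ∀ x ∈ gens, x ∈ Q ∧ x ∈ centralizer (Q : Set G) ∧ x * x = 1 := by
    rintro x ⟨m, hm, w, hw, rfl⟩
    refine ⟨O2_conj_mem hm (hWQ hw).1, fun p hp => ?_, ?_⟩
    · have hp' : m⁻¹ * p * m ∈ Q := by simpa using O2_conj_mem (M.inv_mem hm) hp
      calc p * (m * w * m⁻¹) = m * ((m⁻¹ * p * m) * w) * m⁻¹ := by group
        _ = m * (w * (m⁻¹ * p * m)) * m⁻¹ := by rw [(hWQ hw).2 _ hp']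
        _ = m * w * m⁻¹ * p := by group
    · rw [show m * w * m⁻¹ * (m * w * m⁻¹) = m * (w * w) * m⁻¹ by group,
        hE.sl2.sq_U w hw.1, mul_one, mul_inv_cancel]
  have hUQ : ∀ x ∈ U, x ∈ Q ∧ x ∈ centralizer (Q : Set G) ∧ x * x = 1 := by
    intro x hx
    induction hx using closure_induction with
    | mem x hx => exact hgQ x hx
    | one => exact ⟨Q.one_mem, one_mem _, one_mul 1⟩
    | mul x y _ _ hx hy =>
      refine ⟨Q.mul_mem hx.1 hy.1, mul_mem hx.2.1 hy.2.1, ?_⟩
      calc x * y * (x * y) = x * (y * x) * y := by group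
        _ = x * (x * y) * y := by rw [hx.2.1 y hy.1]
        _ = 1 := by rw [← mul_assoc, hx.2.2, one_mul, hy.2.2]
    | inv x _ hx =>
      exact ⟨Q.inv_mem hx.1, inv_mem hx.2.1, by rw [← mul_inv_rev, hx.2.2, inv_one]⟩
  have hUS : U ≤ (S : Subgroup G) := fun x hx => hQS (hUQ x hx).1
  have hMU : M ≤ normalizer (U : Set G) := by
    intro m hm
    have hconj : ∀ n ∈ M, ∀ x ∈ U, n * x * n⁻¹ ∈ U := by
      intro n hn x hx
      have h1 : U ≤ U.comap (MulAut.conj n).toMonoidHom := by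
        rw [hU, closure_le]
        rintro y ⟨k, hk, w, hw, rfl⟩
        refine subset_closure ⟨n * k, M.mul_mem hn hk, w, hw, ?_⟩
        simp [mul_assoc]
      exact h1 hx
    rw [mem_normalizer_iff]
    refine fun x => ⟨hconj m hm x, fun hx => ?_⟩
    have := hconj m⁻¹ (M.inv_mem hm) _ hx
    simpa [mul_assoc] using this
  have hWU : W ≤ U := fun w hw => subset_closure ⟨1, M.one_mem, w, hw, by group⟩
  have hUV : U ⊓ V ≤ W := by
    rintro v ⟨hvU, hvV⟩
    rw [hW, ← hE.sl2.fixed_eq _ hS q (hA.1 hqA) hqD]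
    exact ⟨hvV, mem_centralizer_one.2 ((hUQ v hvU).2.1 q hqQ)⟩
  -- `U ≤ D`
  have hUD : U ≤ D := by
    by_contra hUD
    obtain ⟨u, huU, huD⟩ := SetLike.not_le_iff_exists.1 hUD
    have hVS : V ≤ (S : Subgroup G) := hE.sl2.U_le.trans hDS
    have hVU : V ⊓ centralizer (U : Set G) = W := by
      refine le_antisymm (fun v hv => ?_) (le_inf inf_le_left
        (inf_le_right.trans (centralizer_le hUS)))
      rw [hW, ← hE.sl2.fixed_eq _ hS u (hUS huU) huD]
      exact ⟨hv.1, mem_centralizer_one.2 (hv.2 u huU)⟩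
    have hUQC : O2 M ≤ centralizer (U : Set G) := fun p hp x hx => ((hUQ x hx).2.1 p hp).symm
    obtain ⟨c₁, hsl, hsyl, hcardV⟩ := hquad hG M U V
      (hUS.trans hSM) hMU
      (fun h => huD (by rw [h, mem_bot] at huU; exact huU ▸ D.one_mem))
      (fun x hx => (hUQ x hx).2.2) (hVS.trans hSM) (S.isPGroup'.to_le hVS)
      (fun h => by
        have h1 : V ≤ W := hVU ▸ le_inf le_rfl h
        have h2 := card_le_of_le h1
        rw [hW, hE.sl2.fixed_card _ hS, hE.sl2.card_U] at h2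
        have := hE.sl2.two_le
        nlinarith)
      hUQC
      (fun b hb b' hb' => by
        rw [hE.sl2.comm_U b hb b' hb']
        simp [mul_assoc])
      (fun x hx b hb => by
        intro v hv
        have h1 : x * b * x⁻¹ * b⁻¹ ∈ V := by
          have := (hE.sl2.comm_fixed _ hS b hb x (hUS hx)).1
          have h2 := V.inv_mem this
          convert h2 using 1
          group
        exact hE.sl2.comm_U v hv _ h1)
      (by
        rw [hVU, hW, hE.sl2.fixed_card _ hS, hE.sl2.card_U, pow_two, mul_assoc, mul_comm (Nat.card U)]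
        refine Nat.mul_le_mul_left _ ?_
        have h1 : D.relIndex (S : Subgroup G) * Nat.card D = Nat.card (S : Subgroup G) := by
          rw [← relIndex_bot_left, ← relIndex_bot_left, mul_comm,
            relIndex_mul_relIndex _ _ _ bot_le hDS]
        have h2 : D.relIndex (S : Subgroup G) = c := by
          rw [hS.2.2, mul_comm (Nat.card D) c] at h1
          exact Nat.eq_of_mul_eq_mul_right Nat.card_pos h1
        have h3 : D.relIndex U ≤ c :=
          h2 ▸ relIndex_le_of_le_right hUS (by rw [h2]; have := hE.sl2.two_le; omega)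
        have h4 : (D ⊓ U).relIndex U * Nat.card ↥(D ⊓ U) = Nat.card U := by
          rw [← relIndex_bot_left, ← relIndex_bot_left, mul_comm,
            relIndex_mul_relIndex _ _ _ bot_le inf_le_right]
        rw [inf_relIndex_right] at h4
        rw [← h4, inf_comm U, hE.cent_V]
        exact Nat.mul_le_mul_right _ h3)
    rw [hVU, hW, hE.sl2.fixed_card _ hS, hE.sl2.card_U, pow_two] at hcardV
    have hc1 : c₁ = c := (Nat.eq_of_mul_eq_mul_right (by have := hE.sl2.two_le; omega) hcardV).symm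
    set D₁ := M ⊓ centralizer (U : Set G) with hD₁
    have hfull : (D₁ ⊔ V) = (S : Subgroup G) := by
      refine eq_of_le_of_card_ge (sup_le ?_ hVS) ?_
      · rw [← hsl.core]; exact hQS
      · obtain ⟨R₀, hR₀, hle⟩ := hsl.exists_syl _ hSM S.isPGroup'
        rw [hsyl.2.2, ← hR₀.2.2]
        exact card_le_of_le hle
    have hcardQ : Nat.card D = Nat.card Q := by
      have h := hsyl.2.2
      rw [hfull, hS.2.2, hc1, ← hsl.core] at h
      exact Nat.eq_of_mul_eq_mul_right (by have := hE.sl2.two_le; omega) h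
    exact hDV (hE.card_le_of_centralizer hG hS (hUS huU) huD hQS
      (fun p hp => mem_centralizer_one.2 ((hUQ u huU).2.1 p hp).symm) hcardQ.le)
  -- `U = W`
  have hUW : U = W := by
    refine le_antisymm ?_ hWU
    by_contra hne
    have hnV : ¬ U ≤ V := fun h => hne ((le_inf le_rfl h).trans hUV)
    obtain ⟨l, hlU, hlV, hl⟩ := exists_central_mod hE.sl2.pGroup_D
      (hE.sl2.D_le.trans hE.sl2.normal_U) hUD ((hDS.trans hSM).trans hMU) hnV
    refine hlV (hE.delta hG hS (hUD hlU) fun e he => hUV ⟨?_, hl e he⟩)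
    have := (mem_normalizer_iff.1 (((hDS.trans hSM).trans hMU) he) l⁻¹).1 (U.inv_mem hlU)
    have h2 := U.mul_mem hlU this
    show l * e * l⁻¹ * e⁻¹ ∈ U
    convert h2 using 1
    group
  have hSW : (S : Subgroup G) = centralizer (W : Set G) := by
    have hWne : W ≠ ⊥ := fun h => by
      have := hE.sl2.fixed_card _ hS
      rw [← hW, h, Subgroup.card_bot] at this
      have := hE.sl2.two_le
      omega
    exact (S.is_maximal' (isPGroup_centralizer hG (S.isPGroup'.to_le hWS) hWne)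
      fun s hs w hw => ((hw : w ∈ W).2 s hs).symm).symm
  intro m hm
  rw [hSW]
  have hmW : m ∈ normalizer (W : Set G) := hUW ▸ hMU hm
  rw [mem_normalizer_iff]
  intro x
  constructor
  · intro hx w hw
    have hw' : m⁻¹ * w * m ∈ W := by simpa using (mem_normalizer_iff.1 (inv_mem hmW) w).1 hw
    calc w * (m * x * m⁻¹) = m * ((m⁻¹ * w * m) * x) * m⁻¹ := by group
      _ = m * (x * (m⁻¹ * w * m)) * m⁻¹ := by rw [hx _ hw']
      _ = m * x * m⁻¹ * w := by group
  · intro hx w hw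
    have hw' : m * w * m⁻¹ ∈ W := (mem_normalizer_iff.1 hmW w).1 hw
    calc w * x = m⁻¹ * ((m * w * m⁻¹) * (m * x * m⁻¹)) * m := by group
      _ = m⁻¹ * ((m * x * m⁻¹) * (m * w * m⁻¹)) * m := by rw [hx _ hw']
      _ = x * w := by group

theorem reduceSpec (hloc : LocalSpec G) (hquad : QuadraticSpec G) : ReduceSpec G := by
  intro hG hsimple hna hex
  haveI := hsimple
  haveI : Fact (Nat.Prime 2) := ⟨Nat.prime_two⟩
  by_contra hno
  have hDV : ∀ {N D V : Subgroup G} {c : ℕ}, ELocal N D V c → D ≠ V := fun {N D V c} hE h =>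
    hno ⟨N, V, c, h ▸ hE⟩
  obtain ⟨N, D, V, c, hE⟩ := hex
  obtain ⟨R, A, hR, hA, hAD⟩ := hE.offender
  obtain ⟨S, hRS⟩ := hR.2.1.exists_le_sylow
  have hReq := hE.syl_eq_sylow hG (hDV hE) hR hRS
  subst hReq
  have hJS := normalizer_J_le hG hquad hE (hDV hE) S hR hA hAD
  have hJT : ∀ T : Sylow 2 G,
      normalizer (J (T : Subgroup G) : Set G) ≤ normalizer ((T : Subgroup G) : Set G) := by
    intro T g hg
    obtain ⟨k, hk⟩ := MulAction.exists_smul_eq G S T
    have hT : (T : Subgroup G) = (S : Subgroup G).map (MulAut.conj k).toMonoidHom := by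
      rw [← hk, Sylow.coe_subgroup_smul]; rfl
    have h1 : k⁻¹ * g * k ∈ normalizer (J (S : Subgroup G) : Set G) := by
      refine mem_normalizer_of_map_eq ?_
      have h := map_eq_of_mem_normalizer hg
      rw [hT, J_map, map_conj_map] at h
      have h' := congrArg (fun H : Subgroup G => H.map (MulAut.conj k⁻¹).toMonoidHom) h
      rw [map_conj_map, map_conj_map, inv_mul_cancel, map_conj_one, ← mul_assoc] at h'
      exact h'
    have h2 := map_eq_of_mem_normalizer (hJS h1)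
    refine mem_normalizer_of_map_eq ?_
    rw [hT, map_conj_map]
    have h3 := congrArg (fun H : Subgroup G => H.map (MulAut.conj k).toMonoidHom) h2
    rw [map_conj_map] at h3
    rw [← h3]
    congr 2
    group
  let P : Sylow 2 G → Subgroup G → Prop := fun T V => ∃ N D c, ELocal N D V c ∧
    IsSyl N D c (T : Subgroup G)
  let r : Sylow 2 G → Sylow 2 G → Prop := fun T U => T = U ∨ ∃ V, P T V ∧ P U V
  have huniq : ∀ {T V V'}, P T V → P T V' → V = V' := by
    rintro T V V' ⟨N, D, c, h, hs⟩ ⟨N', D', c', h', hs'⟩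
    exact h.unique_V hG (hDV h) h' (hDV h') hs hs'
  have step : StepOK r := by
    intro D₁ R₁ hD hO hR₁
    by_cases hall : ∀ A, MaxAb R₁ A → A ≤ D₁
    · exact Or.inl hall
    push Not at hall
    obtain ⟨A₁, hA₁, hA₁D⟩ := hall
    obtain ⟨V₁, c₁, hE₁⟩ := hloc hG D₁ R₁ A₁ hD hO hR₁.1 hR₁.2.1 hR₁.2.2 hA₁ hA₁D
    refine Or.inr fun S₁ S₁' R₁' hR₁' h1 h2 => Or.inr ⟨V₁, ?_, ?_⟩
    · exact ⟨_, _, c₁, hE₁, hE₁.syl_eq_sylow hG (hDV hE₁) (hE₁.isSyl_of_max2 hR₁) h1 ▸
        hE₁.isSyl_of_max2 hR₁⟩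
    · exact ⟨_, _, c₁, hE₁, hE₁.syl_eq_sylow hG (hDV hE₁) (hE₁.isSyl_of_max2 hR₁') h2 ▸
        hE₁.isSyl_of_max2 hR₁'⟩
  have rel := climb hna r (fun _ => Or.inl rfl)
    (fun h => h.imp (fun e => e.symm) fun ⟨V, a, b⟩ => ⟨V, b, a⟩)
    (by
      rintro T U X (rfl | ⟨V, a, b⟩) h'
      · exact h'
      · rcases h' with rfl | ⟨V', a', b'⟩
        · exact Or.inr ⟨V, a, b⟩
        · exact Or.inr ⟨V, a, huniq b a' ▸ b'⟩)
    step
    (fun T U h => by
      refine Or.inl (Sylow.ext ?_)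
      have hTU : (T : Subgroup G) ≤ normalizer ((U : Subgroup G) : Set G) :=
        le_trans (le_normalizer.trans (normalizer_le_normalizer_J _)) (h ▸ hJT U)
      have hsup : IsPGroup 2 ↥((T : Subgroup G) ⊔ (U : Subgroup G)) :=
        T.isPGroup'.to_sup_of_normal_right' U.isPGroup' hTU
      exact (T.is_maximal' hsup le_sup_left).symm.trans (U.is_maximal' hsup le_sup_right))
  -- Sylow subgroups through an involution of `N`
  have hinN : ∀ t ∈ N, orderOf t = 2 → ∀ T : Sylow 2 G, t ∈ (T : Subgroup G) →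
      IsSyl N D c (T : Subgroup G) := by
    intro t htN ht T htT
    have hp : IsPGroup 2 (zpowers t) :=
      IsPGroup.of_card (n := 1) (by rw [Nat.card_zpowers, ht, pow_one])
    obtain ⟨R₁, hR₁, htR⟩ := hE.sl2.exists_syl _ (zpowers_le.2 htN) hp
    obtain ⟨S₁, hS₁⟩ := hR₁.2.1.exists_le_sylow
    have heq := hE.syl_eq_sylow hG (hDV hE) hR₁ hS₁
    have hint : (T : Subgroup G) ⊓ (S₁ : Subgroup G) ≠ ⊥ := fun h => by
      have : t ∈ (⊥ : Subgroup G) := h ▸ ⟨htT, hS₁ (htR (mem_zpowers t))⟩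
      rw [mem_bot] at this
      simp [this] at ht
    rcases rel T S₁ hint with rfl | ⟨V', hT', hS'⟩
    · exact heq ▸ hR₁
    · have hVV : V' = V := huniq hS' ⟨N, D, c, hE, heq ▸ hR₁⟩
      subst hVV
      obtain ⟨N', D', c', hE', hs'⟩ := hT'
      have hD : D' = D := hE'.cent_V.symm.trans hE.cent_V
      subst hD
      have hN : N' = N := hE'.N_eq.symm.trans hE.N_eq
      subst hN
      have hc : c' = c := by
        have h1 := hE'.sl2.card_U
        rw [hE.sl2.card_U] at h1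
        exact (Nat.pow_left_injective (by norm_num) h1).symm
      subst hc
      exact hs'
  have hDne : D ≠ ⊥ := fun h => by
    have h1 : Nat.card V ≤ 1 :=
      (card_le_of_le hE.sl2.U_le).trans_eq (by rw [h, Subgroup.card_bot])
    rw [hE.sl2.card_U] at h1
    have := hE.sl2.two_le
    nlinarith
  obtain ⟨w, hw⟩ := (V ⊓ centralizer ((S : Subgroup G) : Set G)).ne_bot_iff_exists_ne_one.1
    fun h => by
      have := hE.sl2.fixed_card _ hR
      rw [h, Subgroup.card_bot] at this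
      have := hE.sl2.two_le
      omega
  have hw2 : orderOf (w : G) = 2 :=
    orderOf_eq_two (hE.sl2.sq_U w w.2.1) fun h => hw (Subtype.ext h)
  have hwN : (w : G) ∈ N := hE.sl2.D_le (hE.sl2.U_le w.2.1)
  have hSE : Cfsg.IsStronglyEmbedded N := by
    refine SignalizerStrongEmb.isStronglyEmbedded_iff.2
      ⟨hE.N_eq ▸ normalizer_ne_top hna hE.sl2.pGroup_D hDne,
      SignalizerStrongEmb.even_card_of_involution_mem hw2 hwN, fun t htN ht g hg => ?_⟩
    obtain ⟨T, hT⟩ := (IsPGroup.of_card (n := 1) (by rw [Nat.card_zpowers, ht, pow_one]) :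
      IsPGroup 2 (zpowers t)).exists_le_sylow
    have htT : t ∈ (T : Subgroup G) := hT (mem_zpowers t)
    obtain ⟨T', hT'⟩ := (isPGroup_conj (g := g) T.isPGroup').exists_le_sylow
    have hT'eq : (T : Subgroup G).map (MulAut.conj g).toMonoidHom = (T' : Subgroup G) :=
      eq_of_le_of_card_ge hT' (by
        rw [card_conj, T'.card_eq_multiplicity, T.card_eq_multiplicity])
    have h1 := hinN t htN ht T htT
    have h2 := hinN _ hg (by rw [SignalizerStrongEmb.orderOf_conj, ht]) T'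
      (hT' (conj_mem_map htT))
    obtain ⟨n, hn, hnT⟩ := hE.sl2.syl_conj _ _ h1 h2
    have h3 : n⁻¹ * g ∈ N := by
      refine hE.normalizer_syl_le hG (hDV hE) h1 (mem_normalizer_of_map_eq ?_)
      rw [← map_conj_map, hT'eq, ← hnT, map_conj_map, inv_mul_cancel, map_conj_one]
    simpa using N.mul_mem hn h3
  obtain ⟨y, hyS, hyD⟩ := SetLike.not_le_iff_exists.1 fun h : (S : Subgroup G) ≤ D => by
    have h1 := card_le_of_le h
    rw [hR.2.2] at h1
    have h2 := hE.sl2.two_le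
    have h3 : 0 < Nat.card D := Nat.card_pos
    nlinarith
  obtain ⟨t, x, htN, -, hyt, ht, -, -, -⟩ := exists_involution_coset hG (hR.1 hyS)
    (hE.sl2.core.symm ▸ hyD) (hE.sl2.core.symm ▸ hE.sl2.syl_sq _ hR y hyS)
    (hE.sl2.core.symm ▸ hDne)
  obtain ⟨m, hm, hmt⟩ := SignalizerStrongEmb.IsStronglyEmbedded.conj_in hSE hwN htN hw2
    (SignalizerStrongEmb.isConj_involutions hSE hw2 ht)
  have htV : t ∈ D := hmt ▸ hE.sl2.U_le ((mem_normalizer_iff.1 (hE.sl2.normal_U hm) _).1 w.2.1)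
  rw [hE.sl2.core] at hyt
  have := D.mul_mem htV (D.inv_mem hyt)
  exact hyD (by simpa using this)

end Cfsg.Agent.CIT21
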