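import Cfsg.Agent.Lib.CIT21Climb
import Cfsg.Agent.Lib.CIT21Reduce
import Cfsg.Agent.Lib.CIT21Offender
import Cfsg.Agent.Lib.CIT21OffenderLocal
import Cfsg.Agent.Lib.CIT21Flats
import Cfsg.Agent.Lib.CIT21Dihedral
import Cfsg.Agent.Lib.CIT21Plane

/-!
# Assembly of Suzuki's CIT classification (S0348)
-/

set_option autoImplicit false

namespace Cfsg.Agent.CIT21

open Subgroup

/-- The classification, given the remaining interfaces. -/
theorem classification {G : Type*} [Group G] [Finite G]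
    (hfrob : FrobeniusSpec G) (hs : IsSimpleGroup G)
    (hna : ∃ a b : G, a * b ≠ b * a) (hG : IsCIT G) :
    (∃ (F : Type) (_ : Field F) (_ : Fintype F),
        (Fintype.card F = 9 ∨ (∃ n : ℕ, Fintype.card F = 2 ^ n) ∨
          ((Fintype.card F).Prime ∧ ∃ k : ℕ, Fintype.card F = 2 ^ k + 1 ∨ Fintype.card F + 1 = 2 ^ k)) ∧
        Nonempty (G ≃* Matrix.ProjectiveSpecialLinearGroup (Fin 2) F)) ∨
    (∃ (F : Type) (_ : Field F) (_ : Fintype F), Fintype.card F = 4 ∧
        Nonempty (G ≃* Matrix.ProjectiveSpecialLinearGroup (Fin 3) F)) ∨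
    Cfsg.IsSuzuki G := by
  haveI := hs
  have hloc : LocalSpec G := localSpec
  have field : (∃ (F : Type) (_ : Field F) (_ : Fintype F),
      Nonempty (G ≃* Matrix.ProjectiveSpecialLinearGroup (Fin 2) F)) →
      ∃ (F : Type) (_ : Field F) (_ : Fintype F),
        (Fintype.card F = 9 ∨ (∃ n : ℕ, Fintype.card F = 2 ^ n) ∨
          ((Fintype.card F).Prime ∧ ∃ k : ℕ, Fintype.card F = 2 ^ k + 1 ∨ Fintype.card F + 1 = 2 ^ k)) ∧
        Nonempty (G ≃* Matrix.ProjectiveSpecialLinearGroup (Fin 2) F) := by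
    rintro ⟨F, hF, hFf, he⟩
    exact ⟨F, hF, hFf, CIT21Dihedral.fieldSpec hG hs F he, he⟩
  by_cases hE : ∃ N D V : Subgroup G, ∃ c, ELocal N D V c
  · obtain ⟨N, V, c, hV⟩ := reduceSpec hloc quadraticSpec hG hs hna hE
    have h2 := hV.sl2.two_le
    obtain ⟨n, hn⟩ := IsPGroup.iff_card (p := 2) (G := V) |>.1 hV.sl2.pGroup_D
    have hc : c = 2 ∨ 4 ≤ c := by
      rcases Nat.lt_or_ge c 4 with h | h
      · left
        rcases (show c = 2 ∨ c = 3 by omega) with rfl | rfl
        · rfl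
        · exfalso
          have h3 := hV.sl2.card_U
          rw [hn] at h3
          have : (3 : ℕ) ∣ 2 ^ n := ⟨3, by rw [h3]; norm_num⟩
          have := Nat.Prime.dvd_of_dvd_pow Nat.prime_three this
          norm_num at this
      · exact Or.inr h
    rcases hc with rfl | hc
    · exact Or.inl (field (CIT21Dihedral.dihedralSpec hG hs ⟨N, V, hV⟩))
    · exact Or.inr (Or.inl (plane hG hs (flatsSpec quadraticSpec hG hs ⟨N, V, c, hc, hV⟩)))
  · have hTI := climbSpec hloc hG hs hna fun N D V c h => hE ⟨N, D, V, c, h⟩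
    rcases hfrob hG hs hna hTI with h | h
    · exact Or.inl (field h)
    · exact Or.inr (Or.inr h)

end Cfsg.Agent.CIT21
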