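import Mathlib
import Cfsg.Agent.Lib.CIT21Defs

/-!
# The incidence geometry of the configuration `Flats`

Points are the conjugates of `A`, lines those of `V`; a point and a line are incident when they lie
in a common Sylow `2`-subgroup.
-/

set_option autoImplicit false
set_option linter.unusedSectionVars false

namespace Cfsg.Agent.CIT21Plane

open Subgroup Cfsg.Agent.CIT21

variable {G : Type*} [Group G]

/-- `g H g⁻¹`. -/
def cj (g : G) (H : Subgroup G) : Subgroup G := H.map (MulAut.conj g).toMonoidHom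

theorem mem_cj {g x : G} {H : Subgroup G} : x ∈ cj g H ↔ g⁻¹ * x * g ∈ H := by
  constructor
  · rintro ⟨y, hy, rfl⟩
    simpa [MulAut.conj_apply, mul_assoc] using hy
  · intro h
    exact ⟨g⁻¹ * x * g, h, by simp [MulAut.conj_apply, mul_assoc]⟩

theorem conj_mem_cj {g x : G} {H : Subgroup G} (h : x ∈ H) : g * x * g⁻¹ ∈ cj g H := by
  rw [mem_cj]; simpa [mul_assoc] using h

theorem cj_one (H : Subgroup G) : cj 1 H = H := by
  ext x; simp [mem_cj]

theorem cj_cj (g h : G) (H : Subgroup G) : cj g (cj h H) = cj (g * h) H := by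
  ext x; simp [mem_cj, mul_assoc]

theorem cj_inv (g : G) (H : Subgroup G) : cj g⁻¹ (cj g H) = H := by
  rw [cj_cj, inv_mul_cancel, cj_one]

theorem cj_inv' (g : G) (H : Subgroup G) : cj g (cj g⁻¹ H) = H := by
  rw [cj_cj, mul_inv_cancel, cj_one]

theorem cj_inj (g : G) {H K : Subgroup G} (h : cj g H = cj g K) : H = K := by
  rw [← cj_inv g H, h, cj_inv]

theorem cj_mono (g : G) {H K : Subgroup G} (h : H ≤ K) : cj g H ≤ cj g K := Subgroup.map_mono h

theorem cj_inf (g : G) (H K : Subgroup G) : cj g (H ⊓ K) = cj g H ⊓ cj g K := by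
  ext x; simp [mem_cj]

theorem card_cj (g : G) (H : Subgroup G) : Nat.card (cj g H) = Nat.card H :=
  (Nat.card_congr (H.equivMapOfInjective _ (MulAut.conj g).injective).toEquiv).symm

theorem mem_norm_iff {g : G} {H : Subgroup G} :
    g ∈ normalizer (H : Set G) ↔ cj g H = H := by
  rw [mem_normalizer_iff'']
  constructor
  · intro h
    ext x
    rw [mem_cj, ← h x]
  · intro h x
    rw [← mem_cj, h]

theorem norm_cj {g n : G} {H : Subgroup G} :
    n ∈ normalizer ((cj g H : Subgroup G) : Set G) ↔ g⁻¹ * n * g ∈ normalizer (H : Set G) := by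
  rw [mem_norm_iff, mem_norm_iff, cj_cj]
  constructor
  · intro h
    apply cj_inj g
    rw [cj_cj, ← h]
    congr 1
    group
  · intro h
    conv_rhs => rw [← h]
    rw [cj_cj]
    congr 1
    group

theorem cj_self {g : G} {H : Subgroup G} (h : g ∈ H) : cj g H = H := by
  ext x
  rw [mem_cj, mul_mem_cancel_right h, mul_mem_cancel_left (inv_mem h)]

theorem isPGroup_cj {g : G} {H : Subgroup G} (h : IsPGroup 2 H) : IsPGroup 2 (cj g H) :=
  h.map _

/-- `p` is a point. -/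
def IsPt (A p : Subgroup G) : Prop := ∃ g : G, p = cj g A

/-- The point `p` lies on the line `l`. -/
def Inc (V A p l : Subgroup G) : Prop := ∃ h : G, p = cj h A ∧ l = cj h V

/-- The points `p` and `q` lie on a common line. -/
def Col (V A p q : Subgroup G) : Prop := ∃ l, Inc V A p l ∧ Inc V A q l

theorem _root_.Cfsg.Agent.CIT21.Flats.swap {V A S : Subgroup G} (hf : Flats V A S) :
    Flats A V S where
  sylow := hf.sylow
  card_S := hf.card_S
  V_le := hf.A_le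
  A_le := hf.V_le
  card_inter := by rw [inf_comm]; exact hf.card_inter
  center_S := by rw [hf.center_S, inf_comm]
  involutions x hx h := (hf.involutions x hx h).symm
  sl2_V := hf.sl2_A
  sl2_A := hf.sl2_V
  cent_V := hf.cent_A
  cent_A := hf.cent_V
  not_conj g h := hf.not_conj g⁻¹ (by rw [← h]; exact cj_inv g A)

variable {V A S p q l m : Subgroup G}

theorem Inc.symm (h : Inc V A p l) : Inc A V l p := by
  obtain ⟨g, h1, h2⟩ := h
  exact ⟨g, h2, h1⟩

theorem Inc.cj (h : Inc V A p l) (g : G) : Inc V A (cj g p) (cj g l) := by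
  obtain ⟨k, rfl, rfl⟩ := h
  exact ⟨g * k, cj_cj _ _ _, cj_cj _ _ _⟩

theorem Inc.isPt (h : Inc V A p l) : IsPt A p := by
  obtain ⟨k, hk, -⟩ := h
  exact ⟨k, hk⟩

theorem Inc.isLn (h : Inc V A p l) : IsPt V l := h.symm.isPt

theorem IsPt.cj (h : IsPt A p) (g : G) : IsPt A (cj g p) := by
  obtain ⟨k, rfl⟩ := h
  exact ⟨g * k, cj_cj _ _ _⟩

theorem Col.symm (h : Col V A p q) : Col V A q p := by
  obtain ⟨l, h1, h2⟩ := h
  exact ⟨l, h2, h1⟩

theorem Col.cj (h : Col V A p q) (g : G) : Col V A (cj g p) (cj g q) := by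
  obtain ⟨l, h1, h2⟩ := h
  exact ⟨_, h1.cj g, h2.cj g⟩

variable [Finite G]

section Sylow

theorem card_V (hf : Flats V A S) : Nat.card V = 16 := hf.sl2_V.card_U

theorem card_A (hf : Flats V A S) : Nat.card A = 16 := hf.sl2_A.card_U

theorem pGroup_S (hf : Flats V A S) : IsPGroup 2 S := by
  obtain ⟨T, hT⟩ := hf.sylow
  exact hT ▸ T.isPGroup'

theorem orderOf_two (hf : Flats V A S) {x : G} (hx : x ∈ V) (h1 : x ≠ 1) : orderOf x = 2 :=
  orderOf_eq_prime (by rw [pow_two]; exact hf.sl2_V.sq_U x hx) h1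

theorem orderOf_two_cj (hf : Flats V A S) {g x : G} (hx : x ∈ cj g V) (h1 : x ≠ 1) :
    orderOf x = 2 := by
  rw [mem_cj] at hx
  refine orderOf_eq_prime ?_ h1
  rw [pow_two]
  have h := hf.sl2_V.sq_U _ hx
  rw [show g⁻¹ * x * g * (g⁻¹ * x * g) = g⁻¹ * (x * x) * g by group] at h
  calc x * x = g * (g⁻¹ * (x * x) * g) * g⁻¹ := by group
    _ = 1 := by rw [h]; group

theorem sq_cj (hf : Flats V A S) {g x : G} (hx : x ∈ cj g V) : x * x = 1 := by
  rcases eq_or_ne x 1 with rfl | h1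
  · simp
  · have := pow_orderOf_eq_one x
    rwa [orderOf_two_cj hf hx h1, pow_two] at this

/-- The elementary abelian subgroups of order `16` of `S`. -/
theorem elem16 (hf : Flats V A S) {E : Subgroup G} (hE : E ≤ S) (hsq : ∀ x ∈ E, x * x = 1)
    (hc : Nat.card E = 16) : E = V ∨ E = A := by
  by_cases hV : E ≤ V
  · exact Or.inl (eq_of_le_of_card_ge hV (by rw [card_V hf, hc]))
  by_cases hA : E ≤ A
  · exact Or.inr (eq_of_le_of_card_ge hA (by rw [card_A hf, hc]))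
  exfalso
  obtain ⟨x, hxE, hxV⟩ := SetLike.not_le_iff_exists.1 hV
  obtain ⟨y, hyE, hyA⟩ := SetLike.not_le_iff_exists.1 hA
  have hx : x ∈ A := (hf.involutions x (hE hxE) (hsq x hxE)).resolve_left hxV
  have hy : y ∈ V := (hf.involutions y (hE hyE) (hsq y hyE)).resolve_right hyA
  rcases hf.involutions (x * y) (hE (mul_mem hxE hyE)) (hsq _ (mul_mem hxE hyE)) with h | h
  · exact hxV ((mul_mem_cancel_right hy).1 h)
  · exact hyA ((mul_mem_cancel_left hx).1 h)

theorem normV (hf : Flats V A S) : S ≤ normalizer (V : Set G) := by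
  intro s hs
  rw [mem_norm_iff]
  have hle : cj s V ≤ S := (cj_mono s hf.V_le).trans (cj_self hs).le
  rcases elem16 hf hle (fun x hx => sq_cj hf hx) (by rw [card_cj, card_V hf]) with h | h
  · exact h
  · exact absurd h (hf.not_conj s)

theorem normA (hf : Flats V A S) : S ≤ normalizer (A : Set G) := normV hf.swap

theorem sylS (hf : Flats V A S) : IsSyl (normalizer (A : Set G)) A 4 S :=
  ⟨normA hf, pGroup_S hf, by rw [hf.card_S, card_A hf]⟩

theorem exists_cj_ge (hf : Flats V A S) {P : Subgroup G} (hP : IsPGroup 2 P) :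
    ∃ h : G, P ≤ cj h S := by
  have : Fact (Nat.Prime 2) := ⟨Nat.prime_two⟩
  obtain ⟨T, hT⟩ := hf.sylow
  obtain ⟨Q, hQ⟩ := hP.exists_le_sylow
  obtain ⟨g, hg⟩ := MulAction.exists_smul_eq G T Q
  refine ⟨g, hQ.trans ?_⟩
  rw [← hg, Sylow.coe_subgroup_smul, ← hT]
  intro x hx
  rw [Subgroup.mem_pointwise_smul_iff_inv_smul_mem, MulAut.smul_def, MulAut.conj_inv_apply] at hx
  exact mem_cj.2 hx

theorem eq_cjS (hf : Flats V A S) {R : Subgroup G} (hR : IsPGroup 2 R) (hc : 64 ≤ Nat.card R) :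
    ∃ h : G, R = cj h S := by
  obtain ⟨h, hh⟩ := exists_cj_ge hf hR
  exact ⟨h, eq_of_le_of_card_ge hh (by rw [card_cj, hf.card_S]; exact hc)⟩

theorem syl_eq (hf : Flats V A S) {R : Subgroup G}
    (hR : IsSyl (normalizer (A : Set G)) A 4 R) : ∃ h : G, R = cj h S :=
  eq_cjS hf hR.2.1 (by rw [hR.2.2, card_A hf])

/-- A Sylow `2`-subgroup contains a single point. -/
theorem pt_unique (hf : Flats V A S) {g h : G} (hle : cj g A ≤ cj h S) : cj g A = cj h A := by
  have hle' : cj (h⁻¹ * g) A ≤ S := by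
    rw [← cj_cj, ← cj_inv h S]; exact cj_mono _ hle
  rcases elem16 hf hle' (fun x hx => sq_cj hf.swap hx) (by rw [card_cj, card_A hf]) with e | e
  · exact absurd e (hf.swap.not_conj _)
  · rw [← cj_inv' h (cj g A), cj_cj h⁻¹ g, e]

/-- A flag determines its Sylow subgroup. -/
theorem flag_syl (hf : Flats V A S) {g h : G} (hA : cj g A = cj h A) (hV : cj g V = cj h V) :
    cj g S = cj h S := by
  have hA' : cj (h⁻¹ * g) A = A := by rw [← cj_cj, hA, cj_inv]
  have hV' : cj (h⁻¹ * g) V = V := by rw [← cj_cj, hV, cj_inv]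
  have key : cj (h⁻¹ * g) S = S := by
    by_contra hne
    have hR : IsSyl (normalizer (A : Set G)) A 4 (cj (h⁻¹ * g) S) := by
      refine ⟨fun x hx => ?_, isPGroup_cj (pGroup_S hf), by rw [card_cj, hf.card_S, card_A hf]⟩
      rw [← hA', norm_cj]
      exact normA hf (mem_cj.1 hx)
    have hle : V ≤ A := by
      rw [← hf.sl2_A.syl_inter S _ (sylS hf) hR (Ne.symm hne)]
      exact le_inf hf.V_le (hV' ▸ cj_mono _ hf.V_le)
    exact hf.not_conj 1 ((cj_one V).trans (eq_of_le_of_card_ge hle (by rw [card_A hf, card_V hf])))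
  rw [← cj_inv' h (cj g S), cj_cj h⁻¹ g, key]

theorem Inc.norm (hf : Flats V A S) (h : Inc V A p l) : p ≤ normalizer (l : Set G) := by
  obtain ⟨k, rfl, rfl⟩ := h
  intro x hx
  rw [norm_cj]
  exact normV hf (hf.A_le (mem_cj.1 hx))

theorem inc_of_norm (hf : Flats V A S) (hp : IsPt A p) (hl : IsPt V l)
    (h : p ≤ normalizer (l : Set G)) : Inc V A p l := by
  obtain ⟨a, rfl⟩ := hp
  obtain ⟨b, rfl⟩ := hl
  have hle : cj (b⁻¹ * a) A ≤ normalizer (V : Set G) := by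
    intro x hx
    rw [← cj_cj, mem_cj, inv_inv] at hx
    have := norm_cj.1 (h hx)
    rwa [show b⁻¹ * (b * x * b⁻¹) * b = x by group] at this
  have hP : IsPGroup 2 A := (pGroup_S hf).to_le hf.A_le
  obtain ⟨R, hR, hR'⟩ := hf.sl2_V.exists_syl _ hle (isPGroup_cj hP)
  obtain ⟨k, rfl⟩ := syl_eq hf.swap hR
  have e1 := pt_unique hf hR'
  have e2 : cj 1 V = cj k V := pt_unique hf.swap (by rw [cj_one]; exact hf.sl2_V.syl_ge _ hR)
  refine ⟨b * k, ?_, ?_⟩
  · rw [← cj_cj, ← e1, cj_cj]; congr 1; group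
  · rw [← cj_cj, ← e2, cj_one]

/-- The lines through `A`. -/
theorem inc_base_iff (hf : Flats V A S) :
    Inc V A A l ↔ ∃ n ∈ normalizer (A : Set G), l = cj n V := by
  constructor
  · rintro ⟨h, hA, rfl⟩
    exact ⟨h, mem_norm_iff.2 hA.symm, rfl⟩
  · rintro ⟨n, hn, rfl⟩
    exact ⟨n, (mem_norm_iff.1 hn).symm, rfl⟩

theorem inc_self (hf : Flats V A S) : Inc V A A V := ⟨1, (cj_one A).symm, (cj_one V).symm⟩

end Sylow

section Centres

variable (hc : IsCIT G)
include hc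

theorem cent_eq (hf : Flats V A S) {x : G} (hx : x ∈ V) (hx' : x ∈ A) (h1 : x ≠ 1) :
    centralizer ({x} : Set G) = S := by
  have hle : S ≤ centralizer ({x} : Set G) := by
    intro s hs
    have h : x ∈ S ⊓ centralizer (S : Set G) := by rw [hf.center_S]; exact ⟨hx, hx'⟩
    rw [mem_centralizer_singleton_iff]
    exact mem_centralizer_iff.1 h.2 s hs
  obtain ⟨T, hT⟩ := hf.sylow
  refine (T.is_maximal' (hc x (orderOf_two hf hx h1)) (hT ▸ hle)).trans hT

theorem cent_cj (hf : Flats V A S) {h x : G} (hx : x ∈ cj h V) (hx' : x ∈ cj h A) (h1 : x ≠ 1) :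
    centralizer ({x} : Set G) = cj h S := by
  rw [mem_cj] at hx hx'
  have e := cent_eq hc hf hx hx' (fun e => h1 (by
    calc x = h * (h⁻¹ * x * h) * h⁻¹ := by group
      _ = 1 := by rw [e]; group))
  ext y
  rw [mem_cj, ← e, mem_centralizer_singleton_iff, mem_centralizer_singleton_iff,
    show h⁻¹ * y * h * (h⁻¹ * x * h) = h⁻¹ * (y * x) * h by group,
    show h⁻¹ * x * h * (h⁻¹ * y * h) = h⁻¹ * (x * y) * h by group]
  simp

/-- An element is centre of at most one flag. -/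
theorem flag_unique (hf : Flats V A S) {g h x : G} (h1 : x ≠ 1) (hgV : x ∈ cj g V)
    (hgA : x ∈ cj g A) (hhV : x ∈ cj h V) (hhA : x ∈ cj h A) :
    cj g A = cj h A ∧ cj g V = cj h V := by
  have e : cj g S = cj h S := (cent_cj hc hf hgV hgA h1).symm.trans (cent_cj hc hf hhV hhA h1)
  exact ⟨pt_unique hf (e ▸ cj_mono _ hf.A_le), pt_unique hf.swap (e ▸ cj_mono _ hf.V_le)⟩

omit hc in
theorem exists_flag_V (hf : Flats V A S) {g x : G} (hx : x ∈ cj g V) :
    ∃ h : G, cj h V = cj g V ∧ x ∈ cj h A := by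
  rw [mem_cj] at hx
  obtain ⟨R, hR, -, hxR⟩ := hf.sl2_V.fixed_cover _ hx
  obtain ⟨k, rfl⟩ := syl_eq hf.swap hR
  have e : cj 1 V = cj k V := pt_unique hf.swap (by rw [cj_one]; exact hf.sl2_V.syl_ge _ hR)
  refine ⟨g * k, by rw [← cj_cj, ← e, cj_one], ?_⟩
  rw [← cj_cj, mem_cj]
  have hxS : g⁻¹ * x * g ∈ cj k S := hf.sl2_V.syl_ge _ hR hx
  have hz : k⁻¹ * (g⁻¹ * x * g) * k ∈ S ⊓ centralizer (S : Set G) := by
    refine ⟨mem_cj.1 hxS, mem_centralizer_iff.2 fun s hs => ?_⟩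
    have := mem_centralizer_iff.1 hxR _ (conj_mem_cj (g := k) hs)
    calc s * (k⁻¹ * (g⁻¹ * x * g) * k) = k⁻¹ * (k * s * k⁻¹ * (g⁻¹ * x * g)) * k := by group
      _ = k⁻¹ * (g⁻¹ * x * g * (k * s * k⁻¹)) * k := by rw [this]
      _ = k⁻¹ * (g⁻¹ * x * g) * k * s := by group
  rw [hf.center_S] at hz
  exact mem_cj.2 hz.2

/-- A nontrivial element lies in at most one point. -/
theorem pt_unique_mem (hf : Flats V A S) (hp : IsPt A p) (hq : IsPt A q) {x : G} (h1 : x ≠ 1)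
    (hxp : x ∈ p) (hxq : x ∈ q) : p = q := by
  obtain ⟨a, rfl⟩ := hp
  obtain ⟨b, rfl⟩ := hq
  obtain ⟨h, eh, hh⟩ := exists_flag_V hf.swap hxp
  obtain ⟨k, ek, hk⟩ := exists_flag_V hf.swap hxq
  rw [← eh, ← ek]
  exact (flag_unique hc hf h1 hh (eh ▸ hxp) hk (ek ▸ hxq)).1

theorem meet_inc (hf : Flats V A S) (hp : IsPt A p) (hl : IsPt V l) {x : G} (h1 : x ≠ 1)
    (hxp : x ∈ p) (hxl : x ∈ l) : Inc V A p l := by
  obtain ⟨a, rfl⟩ := hp
  obtain ⟨h, eh, hh⟩ := exists_flag_V hf.swap hxp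
  exact ⟨h, eh.symm, pt_unique_mem hc hf.swap hl ⟨h, rfl⟩ h1 hxl hh⟩

omit hc in
theorem exists_flag_invol (hf : Flats V A S) {x : G} (hx : orderOf x = 2) :
    ∃ p l, Inc V A p l ∧ x ∈ p ∧ x ∈ l := by
  have hx2 : x * x = 1 := by
    have := pow_orderOf_eq_one x
    rwa [hx, pow_two] at this
  have hP : IsPGroup 2 (zpowers x) := IsPGroup.of_card (n := 1) (by rw [Nat.card_zpowers, hx, pow_one])
  obtain ⟨g, hg⟩ := exists_cj_ge hf hP
  have hxS := mem_cj.1 (hg (mem_zpowers x))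
  have h2 : g⁻¹ * x * g * (g⁻¹ * x * g) = 1 := by
    rw [show g⁻¹ * x * g * (g⁻¹ * x * g) = g⁻¹ * (x * x) * g by group, hx2]; group
  rcases hf.involutions _ hxS h2 with h | h
  · obtain ⟨k, ek, hk⟩ := exists_flag_V hf (g := g) (mem_cj.2 h)
    exact ⟨cj k A, cj g V, ⟨k, rfl, ek.symm⟩, hk, mem_cj.2 h⟩
  · obtain ⟨k, ek, hk⟩ := exists_flag_V hf.swap (g := g) (mem_cj.2 h)
    exact ⟨cj g A, cj k V, ⟨k, ek.symm, rfl⟩, mem_cj.2 h, hk⟩

end Centres

section Flag

omit [Finite G] in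
theorem fix_of_mem {x : G} (h : x ∈ p) : cj x p = p := cj_self h

theorem fix_pts (hf : Flats V A S) (h : Inc V A p l) {x : G} (hx : x ∈ l) : cj x p = p :=
  mem_norm_iff.1 (Inc.norm hf.swap h.symm hx)

theorem fix_lns (hf : Flats V A S) (h : Inc V A p l) {x : G} (hx : x ∈ p) : cj x l = l :=
  mem_norm_iff.1 (Inc.norm hf h hx)

/-- An involution fixing a flag lies in its point or in its line. -/
theorem mem_of_fix (hf : Flats V A S) (h : Inc V A p l) {x : G} (hx : x * x = 1)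
    (hp : cj x p = p) (hl : cj x l = l) : x ∈ p ∨ x ∈ l := by
  obtain ⟨k, rfl, rfl⟩ := h
  rw [cj_cj] at hp hl
  have e := flag_syl hf hp hl
  set y := k⁻¹ * x * k with hy
  have hyS : cj y S = S := by
    rw [hy, mul_assoc, ← cj_cj, e, cj_inv]
  have hy2 : y * y = 1 := by
    rw [hy, show k⁻¹ * x * k * (k⁻¹ * x * k) = k⁻¹ * (x * x) * k by group, hx]; group
  obtain ⟨T, hT⟩ := hf.sylow
  have hP : IsPGroup 2 (zpowers y) := fun z => ⟨1, by
    obtain ⟨z, hz⟩ := z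
    obtain ⟨i, rfl⟩ := mem_zpowers_iff.1 hz
    refine Subtype.ext ?_
    show (y ^ i) ^ (2 ^ 1) = 1
    rw [pow_one, ← zpow_natCast, ← zpow_mul, mul_comm, zpow_mul, zpow_natCast, pow_two, hy2,
      one_zpow]⟩
  have hmem : y ∈ zpowers y ⊓ normalizer ((T : Subgroup G) : Set G) :=
    ⟨mem_zpowers y, by rw [hT]; exact mem_norm_iff.2 hyS⟩
  have : y ∈ zpowers y ⊓ (T : Subgroup G) := (hP.inf_normalizer_sylow T) ▸ hmem
  have hyS' : y ∈ S := hT ▸ this.2
  rcases hf.involutions y hyS' hy2 with h | h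
  · exact Or.inr (mem_cj.2 h)
  · exact Or.inl (mem_cj.2 h)

theorem card_meet (hf : Flats V A S) (h : Inc V A p l) : Nat.card ↥(p ⊓ l) = 4 := by
  obtain ⟨k, rfl, rfl⟩ := h
  rw [← cj_inf, card_cj, inf_comm, hf.card_inter]

theorem ncard_lines_base (hf : Flats V A S) : {l | Inc V A A l}.ncard = 5 := by
  classical
  have key : ∀ l : {l | Inc V A A l},
      ∃ n, n ∈ normalizer (A : Set G) ∧ (l : Subgroup G) = cj n V := fun l =>
    (inc_base_iff hf).1 l.2
  choose n hn hnl using key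
  have hR : ∀ l, IsSyl (normalizer (A : Set G)) A 4 (cj (n l) S) := fun l =>
    ⟨fun x hx => by
      rw [← mem_norm_iff.1 (hn l), norm_cj]; exact normA hf (mem_cj.1 hx),
      isPGroup_cj (pGroup_S hf), by rw [card_cj, hf.card_S, card_A hf]⟩
  rw [← Nat.card_coe_set_eq]
  refine (Nat.card_eq_of_bijective
    (fun l => (⟨cj (n l) S, hR l⟩ : {R // IsSyl (normalizer (A : Set G)) A 4 R})) ⟨?_, ?_⟩).trans
    hf.sl2_A.syl_count
  · intro l m e
    have e' : cj (n l) S = cj (n m) S := congrArg Subtype.val e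
    refine Subtype.ext ?_
    rw [hnl l, hnl m]
    exact pt_unique hf.swap (e' ▸ cj_mono _ hf.V_le)
  · rintro ⟨R, hR'⟩
    obtain ⟨g, hg, hgR⟩ := hf.sl2_A.syl_conj S R (sylS hf) hR'
    let l : {l | Inc V A A l} := ⟨cj g V, (inc_base_iff hf).2 ⟨g, hg, rfl⟩⟩
    refine ⟨l, Subtype.ext ?_⟩
    show cj (n l) S = R
    rw [← hgR]
    exact flag_syl hf (by rw [mem_norm_iff.1 (hn l), mem_norm_iff.1 hg]) (hnl l).symm

theorem ncard_lines (hf : Flats V A S) (hp : IsPt A p) : {l | Inc V A p l}.ncard = 5 := by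
  obtain ⟨g, rfl⟩ := hp
  rw [← ncard_lines_base hf]
  have : {l | Inc V A (cj g A) l} = (cj g) '' {l | Inc V A A l} := by
    ext l
    constructor
    · intro h
      refine ⟨cj g⁻¹ l, ?_, cj_inv' g l⟩
      have := h.cj g⁻¹
      rwa [cj_inv] at this
    · rintro ⟨m, hm, rfl⟩
      exact hm.cj g
  rw [this]
  exact Set.ncard_image_of_injective _ fun _ _ e => cj_inj g e

theorem ncard_pts (hf : Flats V A S) (hl : IsPt V l) : {p | Inc V A p l}.ncard = 5 := by
  rw [← ncard_lines hf.swap hl]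
  congr 1
  ext p
  exact ⟨Inc.symm, Inc.symm⟩

theorem ncard_pts_ne (hf : Flats V A S) (h : Inc V A p l) :
    {q | Inc V A q l ∧ q ≠ p}.ncard = 4 := by
  have : {q | Inc V A q l ∧ q ≠ p} = {q | Inc V A q l} \ {p} := by ext q; simp
  rw [this, Set.ncard_diff_singleton_of_mem (show p ∈ {q | Inc V A q l} from h),
    ncard_pts hf h.isLn]

theorem exists_ne_pt (hf : Flats V A S) (h : Inc V A p l) : ∃ q, Inc V A q l ∧ q ≠ p :=
  Set.nonempty_of_ncard_ne_zero (s := {q | Inc V A q l ∧ q ≠ p}) (by rw [ncard_pts_ne hf h]; omega)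

end Flag

section Linear

variable (hc : IsCIT G)
include hc

/-- Two points lie on at most one line. -/
theorem two_lines (hf : Flats V A S) (h1 : Inc V A p l) (h2 : Inc V A q l) (h3 : Inc V A p m)
    (h4 : Inc V A q m) : p = q ∨ l = m := by
  by_contra hne
  push Not at hne
  have hle : q ⊓ l ≤ normalizer (p : Set G) := inf_le_right.trans (Inc.norm hf.swap h1.symm)
  have hle' : q ⊓ m ≤ normalizer (p : Set G) := inf_le_right.trans (Inc.norm hf.swap h3.symm)
  have hinj : Function.Injective (fun ab : ↥(q ⊓ l) × ↥(q ⊓ m) =>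
      (⟨(ab.1 : G) * (ab.2 : G), mul_mem ab.1.2.1 ab.2.2.1, mul_mem (hle ab.1.2) (hle' ab.2.2)⟩ :
        ↥(q ⊓ normalizer (p : Set G)))) := by
    rintro ⟨a, b⟩ ⟨a', b'⟩ e
    have e' : (a : G) * b = a' * b' := congrArg Subtype.val e
    have hx : (a' : G)⁻¹ * a = b' * (b : G)⁻¹ := by
      calc (a' : G)⁻¹ * a = (a' : G)⁻¹ * (a * b) * (b : G)⁻¹ := by group
        _ = b' * (b : G)⁻¹ := by rw [e']; group
    have hl : (a' : G)⁻¹ * a ∈ l := mul_mem (inv_mem a'.2.2) a.2.2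
    have hm : (a' : G)⁻¹ * a ∈ m := hx ▸ mul_mem b'.2.2 (inv_mem b.2.2)
    have h11 : (a' : G)⁻¹ * a = 1 := by
      by_contra h
      exact hne.2 (pt_unique_mem hc hf.swap h1.isLn h3.isLn h hl hm)
    have ea : a = a' := Subtype.ext (inv_mul_eq_one.1 h11).symm
    subst ea
    exact Prod.ext rfl (Subtype.ext (mul_left_cancel e'))
  have hcard := Nat.card_le_card_of_injective _ hinj
  rw [Nat.card_prod, card_meet hf h2, card_meet hf h4] at hcard
  obtain ⟨b, hb⟩ := h2.isPt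
  have hq : q ⊓ normalizer (p : Set G) = q := eq_of_le_of_card_ge inf_le_left (by
    rw [hb] at hcard ⊢
    rw [card_cj, card_A hf]; exact hcard)
  obtain ⟨a, ha⟩ := h1.isPt
  have hle2 : cj (a⁻¹ * b) A ≤ normalizer (A : Set G) := by
    intro x hx
    rw [← cj_cj, mem_cj, inv_inv] at hx
    have hxq : a * x * a⁻¹ ∈ normalizer (p : Set G) := (inf_eq_left.1 hq) (hb ▸ hx)
    rw [ha] at hxq
    have := norm_cj.1 hxq
    rwa [show a⁻¹ * (a * x * a⁻¹) * a = x by group] at this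
  obtain ⟨R, hR, hR'⟩ := hf.sl2_A.exists_syl _ hle2
    (isPGroup_cj ((pGroup_S hf).to_le hf.A_le))
  obtain ⟨k, rfl⟩ := syl_eq hf hR
  have e1 := pt_unique hf hR'
  have e2 : cj 1 A = cj k A := pt_unique hf (by rw [cj_one]; exact hf.sl2_A.syl_ge _ hR)
  apply hne.1
  rw [ha, hb, ← cj_inv' a (cj b A), cj_cj a⁻¹, e1, ← e2, cj_one]

/-- For two lines `l`, `l0` at `p`, `p ∩ l0` is transitive on the other points of `l` and fixes
the points of `l0`. -/
theorem reg (hf : Flats V A S) {l0 q' : Subgroup G} (hl : Inc V A p l) (h0 : Inc V A p l0)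
    (hne : l ≠ l0) (hq : Inc V A q l) (hqp : q ≠ p) (hq' : Inc V A q' l) (hq'p : q' ≠ p) :
    ∃ w ∈ p ⊓ l0, cj w q = q' := by
  have hmap : ∀ w ∈ ((p ⊓ l0 : Subgroup G) : Set G), cj w q ∈ {x | Inc V A x l ∧ x ≠ p} := by
    intro w hw
    have e1 : cj w l = l := fix_lns hf hl hw.1
    have e2 : cj w p = p := cj_self hw.1
    exact ⟨e1 ▸ hq.cj w, fun e => hqp (cj_inj w (e.trans e2.symm))⟩
  have hinj : ∀ a b, a ∈ ((p ⊓ l0 : Subgroup G) : Set G) → b ∈ ((p ⊓ l0 : Subgroup G) : Set G) →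
      cj a q = cj b q → a = b := by
    intro a b ha hb e
    set w := b⁻¹ * a
    have hw : w ∈ p ⊓ l0 := mul_mem (inv_mem hb) ha
    have e1 : cj w q = q := by rw [← cj_cj, e, cj_inv]
    have e2 : cj w l = l := fix_lns hf hl hw.1
    obtain ⟨k, hk, -⟩ := hl
    have hw2 : w * w = 1 := sq_cj hf.swap (g := k) (hk ▸ hw.1)
    have h11 : w = 1 := by
      by_contra h
      rcases mem_of_fix hf hq hw2 e1 e2 with h' | h'
      · exact hqp (pt_unique_mem hc hf hq.isPt h0.isPt h h' hw.1)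
      · exact hne (pt_unique_mem hc hf.swap hq.isLn h0.isLn h h' hw.2)
    exact (inv_mul_eq_one.1 h11).symm
  obtain ⟨w, hw, e⟩ := Set.surj_on_of_inj_on_of_ncard_le (fun w _ => cj w q) hmap
    hinj (by
      rw [ncard_pts_ne hf hl, ← Nat.card_coe_set_eq]
      exact (card_meet hf h0).ge) (Set.toFinite _) q' ⟨hq', hq'p⟩
  exact ⟨w, hw, e.symm⟩

/-- The stabiliser of a flag is transitive on the other lines at its point. -/
theorem lines_trans (hf : Flats V A S) {l1 l2 : Subgroup G} (hl : Inc V A p l)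
    (h1 : Inc V A p l1) (h2 : Inc V A p l2) (hn1 : l1 ≠ l) (hn2 : l2 ≠ l) :
    ∃ w : G, cj w p = p ∧ cj w l = l ∧ cj w l1 = l2 := by
  obtain ⟨p0, hp0, hne⟩ := exists_ne_pt hf hl
  obtain ⟨w, hw, e⟩ := reg hc hf.swap hl.symm hp0.symm (Ne.symm hne) h1.symm hn1 h2.symm hn2
  exact ⟨w, fix_pts hf hl hw.1, cj_self hw.1, e⟩

theorem tri_move (hf : Flats V A S) {l0 q0 q' : Subgroup G} (hl : Inc V A p l)
    (h0 : Inc V A p l0) (hne : l ≠ l0) (hq : Inc V A q l) (hqp : q ≠ p) (hq' : Inc V A q' l)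
    (hq'p : q' ≠ p) (hq0 : Inc V A q0 l0) (h : Col V A q q0) : Col V A q' q0 := by
  obtain ⟨w, hw, e⟩ := reg hc hf hl h0 hne hq hqp hq' hq'p
  have := h.cj w
  rwa [e, fix_pts hf hq0 hw.2] at this

/-- A single triangle makes collinearity transitive. -/
theorem col_trans (hf : Flats V A S) {p₁ l₁ m₁ q₁ r₁ : Subgroup G} (a1 : Inc V A p₁ l₁)
    (a2 : Inc V A p₁ m₁) (a3 : l₁ ≠ m₁) (a4 : Inc V A q₁ l₁) (a5 : q₁ ≠ p₁)
    (a6 : Inc V A r₁ m₁) (a7 : r₁ ≠ p₁) (a8 : Col V A q₁ r₁)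
    {a b c : Subgroup G} (hab : Col V A a b) (hbc : Col V A b c) : Col V A a c := by
  obtain ⟨l, ha, hb⟩ := hab
  obtain ⟨m, hb', hcm⟩ := hbc
  rcases eq_or_ne a b with rfl | hab
  · exact ⟨m, hb', hcm⟩
  rcases eq_or_ne c b with rfl | hcb
  · exact ⟨l, ha, hb⟩
  rcases eq_or_ne l m with rfl | hlm
  · exact ⟨l, ha, hcm⟩
  obtain ⟨x, x1, x2⟩ := a1
  obtain ⟨y, y1, y2⟩ := hb
  set g := y * x⁻¹ with hg
  have ep : cj g p₁ = b := by rw [x1, y1, hg, cj_cj, inv_mul_cancel_right]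
  have el : cj g l₁ = l := by rw [x2, y2, hg, cj_cj, inv_mul_cancel_right]
  have hb2 : Inc V A b l := ⟨y, y1, y2⟩
  have hm1 : Inc V A b (cj g m₁) := ep ▸ a2.cj g
  have hn1 : cj g m₁ ≠ l := fun e => a3 (cj_inj g (el.trans e.symm))
  obtain ⟨w, w1, w2, w3⟩ := lines_trans hc hf hb2 hm1 hb' hn1 hlm.symm
  have q1 : Inc V A (cj w (cj g q₁)) l := by
    have := (a4.cj g).cj w
    rwa [el, w2] at this
  have q2 : cj w (cj g q₁) ≠ b := fun e => a5 (cj_inj g (cj_inj w (by rw [ep, w1, e])))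
  have r1 : Inc V A (cj w (cj g r₁)) m := by
    have := (a6.cj g).cj w
    rwa [w3] at this
  have r2 : cj w (cj g r₁) ≠ b := fun e => a7 (cj_inj g (cj_inj w (by rw [ep, w1, e])))
  have h3 := (a8.cj g).cj w
  have h4 := tri_move hc hf hb2 hb' hlm q1 q2 ha hab r1 h3
  exact (tri_move hc hf hb' hb2 hlm.symm r1 r2 hcm hcb ha h4.symm).symm

end Linear

end Cfsg.Agent.CIT21Plane
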