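import Cfsg.Agent.Lib.CIT21PlaneTriangle
import Cfsg.Agent.S1225

/-!
# All points are collinear: the global structure of the geometry of `Flats`
-/

set_option autoImplicit false
set_option linter.unusedSectionVars false

namespace Cfsg.Agent.CIT21Plane

open Subgroup Cfsg.Agent.CIT21

variable {G : Type*} [Group G] [Finite G] {V A S p q l : Subgroup G}

theorem col_refl (hf : Flats V A S) (hp : IsPt A p) : Col V A p p := by
  obtain ⟨m, hm, -⟩ := exists_ne_line hf hp ⊥
  exact ⟨m, hm, hm⟩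

section

variable (hc : IsCIT G)
include hc

/-- The class of `A` under collinearity has `21` points. -/
theorem ncard_class (hf : Flats V A S) : {q | Col V A A q}.ncard = 21 := by
  classical
  have hA : IsPt A A := ⟨1, (cj_one A).symm⟩
  have e : {q | Col V A A q} = insert A {q | Col V A A q ∧ q ≠ A} := by
    ext q
    constructor
    · intro h
      by_cases e : q = A
      · exact Or.inl e
      · exact Or.inr ⟨h, e⟩
    · rintro (rfl | h)
      · exact col_refl hf hA
      · exact h.1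
  rw [e, Set.ncard_insert_of_notMem (by simp)]
  have : Fintype {l // Inc V A A l} := Fintype.ofFinite _
  let f : (Σ l : {l // Inc V A A l}, {q | Inc V A q l.1 ∧ q ≠ A}) →
      {q | Col V A A q ∧ q ≠ A} := fun x => ⟨x.2.1, ⟨x.1.1, x.1.2, x.2.2.1⟩, x.2.2.2⟩
  have hf' : Function.Bijective f := by
    constructor
    · rintro ⟨⟨l, hl⟩, ⟨x, hx, hxA⟩⟩ ⟨⟨m, hm⟩, ⟨y, hy, hyA⟩⟩ e
      obtain rfl : x = y := congrArg Subtype.val e
      obtain rfl : l = m := (two_lines hc hf hl hx hm hy).resolve_left (Ne.symm hxA)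
      rfl
    · rintro ⟨x, ⟨l, hl, hx⟩, hxA⟩
      exact ⟨⟨⟨l, hl⟩, ⟨x, hx, hxA⟩⟩, rfl⟩
  have h20 : {q | Col V A A q ∧ q ≠ A}.ncard = 20 := by
    rw [← Nat.card_coe_set_eq, ← Nat.card_eq_of_bijective f hf', Nat.card_sigma,
      Finset.sum_congr rfl (fun l _ => by rw [Nat.card_coe_set_eq, ncard_pts_ne hf l.2]),
      Finset.sum_const, Finset.card_univ, smul_eq_mul, ← Nat.card_eq_fintype_card]
    have := ncard_lines_base hf
    rw [← Nat.card_coe_set_eq] at this
    exact congrArg (· * 4) this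
  rw [h20]

/-- The stabiliser of the class of `A`. -/
def classStab (hf : Flats V A S) : Subgroup G where
  carrier := {g | Col V A A (cj g A)}
  one_mem' := by
    show Col V A A (cj 1 A)
    rw [cj_one]; exact col_refl hf ⟨1, (cj_one A).symm⟩
  mul_mem' {a b} ha hb := by
    show Col V A A (cj (a * b) A)
    have := Col.cj hb a
    rw [cj_cj] at this
    exact collinear_trans hc hf ha this
  inv_mem' {a} ha := by
    show Col V A A (cj a⁻¹ A)
    have := Col.cj (Col.symm ha) a⁻¹
    rwa [cj_inv] at this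

theorem mem_classStab (hf : Flats V A S) {g : G} :
    g ∈ classStab hc hf ↔ Col V A A (cj g A) := Iff.rfl

theorem normalizer_le_classStab (hf : Flats V A S) :
    normalizer (A : Set G) ≤ classStab hc hf := by
  intro g hg
  rw [mem_classStab, mem_norm_iff.1 hg]
  exact col_refl hf ⟨1, (cj_one A).symm⟩

/-- An involution lies in the class stabiliser iff its centre lies in the class. -/
theorem invol_mem_iff (hf : Flats V A S) {u : G} (hu : orderOf u = 2) (hq : IsPt A q)
    (huq : u ∈ q) : u ∈ classStab hc hf ↔ Col V A A q := by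
  have : Fact (Nat.Prime 2) := ⟨Nat.prime_two⟩
  constructor
  · intro hu'
    have hinv : ∀ x ∈ {q | Col V A A q}, cj u x ∈ {q | Col V A A q} := fun x hx =>
      collinear_trans hc hf hu' (Col.cj hx u)
    obtain ⟨p, hp, ep⟩ := perm_fixed (r := 2) (g := u) (by rw [← hu]; exact pow_orderOf_eq_one u)
      hinv (by rw [ncard_class hc hf]; decide)
    have hu1 : u ≠ 1 := fun e => by rw [e, orderOf_one] at hu; omega
    have huu : u * u = 1 := by
      have := pow_orderOf_eq_one u
      rwa [hu, pow_two] at this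
    obtain ⟨l0, -, hpl0⟩ := id hp
    rcases mem_of_fix_pt hf hpl0.isPt huu ep with h | ⟨m, hm, hum⟩
    · rwa [← pt_unique_mem hc hf hpl0.isPt hq hu1 h huq]
    · exact collinear_trans hc hf hp ⟨m, hm, meet_inc hc hf hq hm.isLn hu1 huq hum⟩
  · intro h
    have := Col.cj h u
    rw [cj_self huq] at this
    exact collinear_trans hc hf h (Col.symm this)

set_option maxHeartbeats 400000 in
/-- Any two points are collinear. -/
theorem classStab_eq_top [IsSimpleGroup G] (hf : Flats V A S) : classStab hc hf = ⊤ := by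
  classical
  have : Fact (Nat.Prime 2) := ⟨Nat.prime_two⟩
  have : Fact (Nat.Prime 3) := ⟨Nat.prime_three⟩
  by_contra htop
  set H := classStab hc hf with hH
  have hA : IsPt A A := ⟨1, (cj_one A).symm⟩
  obtain ⟨a, haA, ha1⟩ : ∃ a ∈ A, a ≠ 1 := by
    refine A.bot_or_exists_ne_one.resolve_left fun e => ?_
    have := card_A hf
    rw [e, Subgroup.card_bot] at this
    omega
  have ha2 : orderOf a = 2 := orderOf_two hf.swap haA ha1
  have haH : a ∈ H := (invol_mem_iff hc hf ha2 hA haA).2 (col_refl hf hA)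
  obtain ⟨u, hu, huH⟩ : ∃ u : G, orderOf u = 2 ∧ u ∉ H := by
    by_contra hno
    push Not at hno
    have hle : normalClosure ({a} : Set G) ≤ H := by
      rw [normalClosure, closure_le]
      intro x hx
      obtain ⟨b, hb, hbx⟩ := Group.mem_conjugatesOfSet_iff.1 hx
      rw [Set.mem_singleton_iff] at hb
      subst hb
      obtain ⟨c, hc'⟩ := isConj_iff.1 hbx
      refine hno x ?_
      rw [← hc', ← MulAut.conj_apply, MulEquiv.orderOf_eq]
      exact ha2
    rcases (normalClosure_normal (s := ({a} : Set G))).eq_bot_or_eq_top with h | h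
    · exact ha1 (Subgroup.mem_bot.1 (h ▸ subset_normalClosure rfl))
    · exact htop (top_le_iff.1 (h ▸ hle))
  have hse : Cfsg.IsStronglyEmbedded H := by
    refine ⟨htop, ?_, fun g hg => ?_⟩
    · rw [even_iff_two_dvd]
      have := orderOf_dvd_natCard (⟨a, haH⟩ : H)
      rwa [Subgroup.orderOf_mk, ha2] at this
    · rw [← Nat.not_even_iff_odd, even_iff_two_dvd]
      intro h2
      obtain ⟨⟨x, hmem⟩, hx⟩ := exists_prime_orderOf_dvd_card' 2 h2
      rw [Subgroup.orderOf_mk] at hx
      obtain ⟨hxH, hxg⟩ := hmem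
      apply hg
      obtain ⟨q, l, hql, hxq, -⟩ := exists_flag_invol hf hx
      have h1 : Col V A A q := (invol_mem_iff hc hf hx hql.isPt hxq).1 hxH
      have hxg' : g⁻¹ * x * g ∈ H := mem_cj.1 (show x ∈ cj g H from hxg)
      have hxq' : g⁻¹ * x * g ∈ cj g⁻¹ q := by
        have := conj_mem_cj (g := g⁻¹) hxq
        rwa [inv_inv] at this
      have hx' : orderOf (g⁻¹ * x * g) = 2 := by
        have e := MulEquiv.orderOf_eq (MulAut.conj g⁻¹) x
        rw [MulAut.conj_apply, inv_inv] at e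
        rw [e, hx]
      have h2 := Col.cj ((invol_mem_iff hc hf hx' (hql.isPt.cj g⁻¹) hxq').1 hxg') g
      rw [cj_inv'] at h2
      exact collinear_trans hc hf h1 h2.symm
  have hDodd := hse.2.2 u huH
  have htrans : ∀ x ∈ A, x ≠ 1 → ∀ y ∈ A, y ≠ 1 →
      ∃ d ∈ (H ⊓ H.map (MulAut.conj u).toMonoidHom) ⊓ normalizer (A : Set G),
        d * x * d⁻¹ = y := by
    intro x hx hx1 y hy hy1
    obtain ⟨⟨d, hd, e⟩, -⟩ := Cfsg.Agent.S1225.result H hse u hu huH x y
      (orderOf_two hf.swap hx hx1)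
      ((invol_mem_iff hc hf (orderOf_two hf.swap hx hx1) hA hx).2 (col_refl hf hA))
      (orderOf_two hf.swap hy hy1)
      ((invol_mem_iff hc hf (orderOf_two hf.swap hy hy1) hA hy).2 (col_refl hf hA))
    refine ⟨d, ⟨hd, mem_norm_iff.2 ?_⟩, e⟩
    exact pt_unique_mem hc hf (hA.cj d) hA hy1 (e ▸ conj_mem_cj hx) hy
  set D := (H ⊓ H.map (MulAut.conj u).toMonoidHom) ⊓ normalizer (A : Set G) with hD
  have hDodd' : Odd (Nat.card D) := hDodd.of_dvd_nat (Subgroup.card_dvd_of_le inf_le_left)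
  have h15 : Nat.card D ∣ 15 := by
    have h : Nat.card D ∣ 64 * 15 := by
      have := Subgroup.card_dvd_of_le (show D ≤ normalizer (A : Set G) from inf_le_right)
      rwa [hf.sl2_A.card_N, card_A hf] at this
    refine Nat.Coprime.dvd_of_dvd_mul_left ?_ h
    rw [show (64 : ℕ) = 2 ^ 6 by norm_num]
    exact (Nat.Coprime.pow_left _ (Nat.coprime_two_left.2 hDodd')).symm
  have hge : 15 ≤ Nat.card D := by
    have hsub : (A : Set G) \ {1} ⊆ (fun d : G => d * a * d⁻¹) '' (D : Set G) := by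
      rintro y ⟨hy, hy1⟩
      obtain ⟨d, hd, e⟩ := htrans a haA ha1 y hy hy1
      exact ⟨d, hd, e⟩
    have h := (Set.ncard_le_ncard hsub).trans (Set.ncard_image_le)
    rw [Set.ncard_sdiff_singleton_of_mem (one_mem A), ← Nat.card_coe_set_eq, ← Nat.card_coe_set_eq,
      SetLike.coe_sort_coe, SetLike.coe_sort_coe, card_A hf] at h
    omega
  have hD15 : Nat.card D = 15 := le_antisymm (Nat.le_of_dvd (by norm_num) h15) hge
  obtain ⟨y, hy⟩ := exists_prime_orderOf_dvd_card' (G := D) 3 (by rw [hD15]; norm_num)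
  obtain ⟨P, hP⟩ := (IsPGroup.of_card (p := 3) (n := 1)
    (show Nat.card (zpowers y) = 3 ^ 1 by rw [Nat.card_zpowers, hy, pow_one])).exists_le_sylow
  have hsub : Subsingleton (Sylow 3 D) := by
    have h1 := card_sylow_modEq_one 3 D
    have h2 : Nat.card (Sylow 3 D) ∣ 15 := hD15 ▸ (P.card_dvd_index.trans P.index_dvd_card)
    have h3 : Nat.card (Sylow 3 D) ≤ 15 := Nat.le_of_dvd (by norm_num) h2
    have h4 : Nat.card (Sylow 3 D) = 1 := by
      generalize Nat.card (Sylow 3 D) = n at h1 h2 h3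
      interval_cases n <;> revert h1 h2 <;> unfold Nat.ModEq <;> decide
    exact (Nat.card_eq_one_iff_unique.1 h4).1
  have hPy : (P : Subgroup D) = zpowers y := by
    refine (eq_of_le_of_card_ge hP ?_).symm
    obtain ⟨n, hn⟩ := (IsPGroup.iff_card).1 P.isPGroup'
    have hd : Nat.card (P : Subgroup D) ∣ 15 := hD15 ▸ Subgroup.card_subgroup_dvd_card _
    rw [Nat.card_zpowers, hy, hn]
    rcases Nat.lt_or_ge n 2 with h | h
    · interval_cases n <;> norm_num
    · have : 3 ^ 2 ∣ 15 := (pow_dvd_pow 3 h).trans (hn ▸ hd)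
      omega
  have hnorm : ∀ d : D, d⁻¹ * y * d ∈ zpowers y := fun d => by
    have := (Sylow.normal_of_subsingleton P).conj_mem y (hP (mem_zpowers y)) d⁻¹
    rwa [inv_inv, hPy] at this
  have hyA : cj (y : G) A = A := mem_norm_iff.1 y.2.2
  obtain ⟨l0, hl0, el0⟩ := perm_fixed (r := 3) (g := (y : G))
    (X := {l | Inc V A A l}) (by
      have := congrArg (Subtype.val : D → G) (pow_orderOf_eq_one y)
      rwa [hy, SubgroupClass.coe_pow, OneMemClass.coe_one] at this)
    (fun l hl => by have := Inc.cj hl (y : G); rwa [hyA] at this)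
    (by rw [ncard_lines_base hf]; decide)
  refine no_fix_all hc hf (h := (y : G)) (by rw [Subgroup.orderOf_coe]; exact hy) hyA ?_
  intro l hl
  -- a nontrivial element of `A ⊓ l` for each line
  have hne : ∀ m, Inc V A A m → ∃ x ∈ A ⊓ m, x ≠ 1 := fun m hm => by
    refine (A ⊓ m).bot_or_exists_ne_one.resolve_left fun e => ?_
    have := card_meet hf hm
    rw [e, Subgroup.card_bot] at this
    omega
  obtain ⟨x, hx, hx1⟩ := hne l0 hl0
  obtain ⟨z, hz, hz1⟩ := hne l hl
  obtain ⟨d, hd, e⟩ := htrans x hx.1 hx1 z hz.1 hz1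
  have el : cj d l0 = l := pt_unique_mem hc hf.swap ((Inc.isLn hl0).cj d) hl.isLn hz1
    (e ▸ conj_mem_cj hx.2) hz.2
  obtain ⟨i, hi⟩ := mem_zpowers_iff.1 (hnorm ⟨d, hd⟩)
  have hi' : d⁻¹ * (y : G) * d = (y : G) ^ i := by
    have := congrArg (Subtype.val : D → G) hi.symm
    simpa using this
  have hfix : cj ((y : G) ^ i) l0 = l0 :=
    mem_norm_iff.1 (zpow_mem (mem_norm_iff.2 el0) i)
  calc cj (y : G) l = cj (d * (d⁻¹ * (y : G) * d)) l0 := by rw [← el, cj_cj]; congr 1; group
    _ = l := by rw [hi', ← cj_cj, hfix, el]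

theorem col_all [IsSimpleGroup G] (hf : Flats V A S) (hp : IsPt A p) (hq : IsPt A q) :
    Col V A p q := by
  obtain ⟨a, rfl⟩ := hp
  obtain ⟨b, rfl⟩ := hq
  have h : ∀ g, Col V A A (cj g A) := fun g => by
    rw [← mem_classStab hc hf, classStab_eq_top hc hf]; trivial
  exact collinear_trans hc hf (h a).symm (h b)

theorem ncard_allPts [IsSimpleGroup G] (hf : Flats V A S) : {q | IsPt A q}.ncard = 21 := by
  rw [← ncard_class hc hf]
  congr 1
  ext q
  exact ⟨fun h => col_all hc hf ⟨1, (cj_one A).symm⟩ h, fun ⟨l, _, h⟩ => h.isPt⟩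

theorem exists_other_pt (hf : Flats V A S) {m r : Subgroup G} (hl : IsPt V l) (hm : IsPt V m)
    (hne : l ≠ m) : ∃ x, Inc V A x l ∧ ¬ Inc V A x m ∧ x ≠ r := by
  by_contra hno
  push Not at hno
  have h1 : 1 < ({x | Inc V A x l} \ {r}).ncard := by
    have := Set.le_ncard_sdiff {r} {x | Inc V A x l}
    rw [ncard_pts hf hl, Set.ncard_singleton] at this
    omega
  obtain ⟨x, ⟨hx, hxr⟩, y, ⟨hy, hyr⟩, hxy⟩ := (Set.one_lt_ncard (Set.toFinite _)).1 h1
  have hx' : Inc V A x m := by
    by_contra h; exact hxr (hno x hx h)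
  have hy' : Inc V A y m := by
    by_contra h; exact hyr (hno y hy h)
  exact hne ((two_lines hc hf hx hy hx' hy').resolve_left hxy)

/-- Any two lines meet. -/
theorem lines_meet [IsSimpleGroup G] (hf : Flats V A S) {m : Subgroup G} (hl : IsPt V l)
    (hm : IsPt V m) : ∃ x, Inc V A x l ∧ Inc V A x m := by
  rcases eq_or_ne l m with rfl | hne
  · obtain ⟨x, hx⟩ := Set.nonempty_of_ncard_ne_zero (s := {x | Inc V A x l})
      (by rw [ncard_pts hf hl]; omega)
    exact ⟨x, hx, hx⟩
  obtain ⟨p, hpl, hpm, -⟩ := exists_other_pt hc hf (r := ⊥) hl hm hne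
  have key : ∀ x ∈ {x | Inc V A x m}, ∃ j, Inc V A p j ∧ Inc V A x j :=
    fun x hx => col_all hc hf hpl.isPt (Inc.isPt hx)
  choose j hj hj' using key
  obtain ⟨x, hx, e⟩ := Set.surj_on_of_inj_on_of_ncard_le (t := {j | Inc V A p j}) j hj
    (fun x y hx hy e => (two_lines hc hf hx hy (hj' x hx) (e ▸ hj' y hy)).resolve_right
      fun e' => hpm (e' ▸ hj x hx))
    (by rw [ncard_lines hf hpl.isPt, ncard_pts hf hm]) (Set.toFinite _) l hpl
  exact ⟨x, e ▸ hj' x hx, hx⟩

/-- The normaliser of `A` is transitive on the other points. -/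
theorem trans_others [IsSimpleGroup G] (hf : Flats V A S) {r : Subgroup G} (hq : IsPt A q)
    (hqA : q ≠ A) (hr : IsPt A r) (hrA : r ≠ A) : ∃ n : G, cj n A = A ∧ cj n q = r := by
  have hA : IsPt A A := ⟨1, (cj_one A).symm⟩
  obtain ⟨l, hl, hql⟩ := col_all hc hf hA hq
  obtain ⟨m, hm, hrm⟩ := col_all hc hf hA hr
  obtain ⟨a, ha, rfl⟩ := (inc_base_iff hf).1 hl
  obtain ⟨b, hb, rfl⟩ := (inc_base_iff hf).1 hm
  set g := b * a⁻¹ with hg
  have e1 : cj g (cj a V) = cj b V := by rw [hg, cj_cj, inv_mul_cancel_right]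
  have e2 : cj g A = A := mem_norm_iff.1 (mul_mem hb (inv_mem ha))
  have hq' : Inc V A (cj g q) (cj b V) := e1 ▸ hql.cj g
  obtain ⟨l0, hl0, hne⟩ := exists_ne_line hf hA (cj b V)
  obtain ⟨w, hw, e⟩ := reg hc hf hm hl0 hne.symm hq'
    (fun e => hqA (cj_inj g (e.trans e2.symm))) hrm hrA
  exact ⟨w * g, by rw [← cj_cj, e2, cj_self hw.1], by rw [← cj_cj, e]⟩

end

end Cfsg.Agent.CIT21Plane
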