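import Cfsg.Agent.Lib.SuzukiUniq67Inst

/-!
# Uniqueness of the Suzuki groups: the normal form

Every coordinatised group has coordinates with `β = 1` and `θ x = x ^ (2^(m+1))`; any two such are
isomorphic.
-/

set_option autoImplicit false

namespace Cfsg.Agent.SuzukiUniq67

variable {F : Type} [Field F]

universe u u'

theorem exists_frobenius_exponent [Fintype F] [CharP F 2] {n : ℕ} (hn : n ≠ 0)
    (hcard : Fintype.card F = 2 ^ n) (θ : F ≃+* F) : ∃ h < n, ∀ x, θ x = x ^ 2 ^ h := by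
  have hz : ∀ r : ZMod 2, r = 0 ∨ r = 1 := by decide
  haveI : Fact (Nat.Prime 2) := ⟨Nat.prime_two⟩
  letI : Algebra (ZMod 2) F := ZMod.algebra F 2
  let a : F ≃ₐ[ZMod 2] F := AlgEquiv.ofRingEquiv (f := θ) (fun r => by
    rcases hz r with rfl | rfl <;> simp)
  obtain ⟨i, hi⟩ := (FiniteField.bijective_frobeniusAlgEquivOfAlgebraic_pow (ZMod 2) F).2 a
  refine ⟨(i : ℕ) % n, Nat.mod_lt _ (Nat.pos_of_ne_zero hn), fun x => ?_⟩
  have h1 : θ x = x ^ 2 ^ (i : ℕ) := by
    have := congrArg (fun g : F ≃ₐ[ZMod 2] F => g x) hi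
    simp only [AlgEquiv.coe_pow, FiniteField.coe_frobeniusAlgEquivOfAlgebraic_iterate,
      ZMod.card] at this
    exact this.symm
  have h2 : ∀ k : ℕ, x ^ 2 ^ (n * k) = x := fun k => by
    rw [pow_mul, ← hcard, FiniteField.pow_card_pow]
  conv_lhs => rw [h1, ← Nat.div_add_mod (i : ℕ) n, pow_add, pow_mul, h2]

theorem nocube_of_card [Fintype F] {m : ℕ} (hcard : Fintype.card F = 2 ^ (2 * m + 1)) (x : F) :
    x * x + x + 1 ≠ 0 := by
  intro h
  haveI : Fact (Nat.Prime 2) := ⟨Nat.prime_two⟩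
  haveI : CharP F 2 := charP_of_card_eq_prime_pow hcard
  have hx0 : x ≠ 0 := fun e => by simp [e] at h
  have h3 : x ^ 3 = 1 := by linear_combination (x - 1) * h
  have hq : x ^ (2 ^ (2 * m + 1) - 1) = 1 := hcard ▸ FiniteField.pow_card_sub_one_eq_one x hx0
  have hmod : ∀ k : ℕ, 2 ^ (2 * k + 1) % 3 = 2 := by
    intro k
    induction k with
    | zero => rfl
    | succ k ih =>
      rw [show 2 * (k + 1) + 1 = (2 * k + 1) + 2 by ring, pow_add, Nat.mul_mod, ih]; norm_num
  have hr : (2 ^ (2 * m + 1) - 1) % 3 = 1 := by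
    have := hmod m
    omega
  rw [← Nat.div_add_mod (2 ^ (2 * m + 1) - 1) 3, pow_add, pow_mul, h3, one_pow, one_mul, hr,
    pow_one] at hq
  subst hq
  have : (3 : F) = 0 := by linear_combination h
  exact one_ne_zero (α := F) (by linear_combination this - two_eq_zero' (F := F))

theorem Good.symm {θ : F ≃+* F} (hg : Good θ) : Good θ.symm where
  inj x hx := hg.inj x (by
    have h := congrArg θ hx
    simp only [ss, map_mul, map_one, RingEquiv.apply_symm_apply] at h
    rwa [ss, mul_comm])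
  nocube := hg.nocube

variable [CharP F 2]

theorem Inst.swap_param {θ : F ≃+* F} {β : F} {G : Type u} [Group G] (I : Inst θ β G) {w : G}
    (hw : I.IsGauge w 1) :
    ∃ (J : Inst θ.symm (θ.symm (1 + β)) G), J.IsGauge w 1 := by
  let e : F × F ≃ F × F := Equiv.prodCongr (Equiv.refl F) θ.toEquiv
  have he : ∀ p, e p = (p.1, θ p.2) := fun _ => rfl
  have hmul : ∀ u v, e (mul θ.symm (θ.symm (1 + β)) u v) = mul θ β (e u) (e v) := by
    intro u v
    simp only [he, mul, cb, map_add, map_mul, map_one, RingEquiv.apply_symm_apply]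
    refine Prod.ext rfl ?_
    grind
  have hkk : ∀ l u, e (kk θ.symm l u) = kk θ l (e u) := by
    intro l u
    simp only [he, kk, ss, map_mul, RingEquiv.apply_symm_apply]
    exact Prod.ext rfl (by ring)
  refine ⟨I.comap e hmul hkk, hw.1, ?_, hw.2.2.1, ?_⟩
  · have he0 : e 0 = 0 := by simp [he]
    simp [Inst.comap, hw.2.1, Equiv.symm_apply_eq, he0]
  · show w * I.T (e (0, 1)) * w = I.T (e (1, 0)) * w * (I.T (e (1, 0)))⁻¹
    simp only [he, map_one, map_zero]
    exact hw.2.2.2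

/-- Coordinates with `β = 1`; then `θ` squares to the Frobenius. -/
theorem exists_normal [Fintype F] {m : ℕ} (hm : 1 ≤ m)
    (hcard : Fintype.card F = 2 ^ (2 * m + 1)) {θ : F ≃+* F} {β : F} {G : Type u} [Group G]
    (I : Inst θ β G) (hg : Good θ) (hne : ∃ r, θ r ≠ r) :
    ∃ (σ : F ≃+* F) (J : Inst σ 1 G) (w : G), (∀ x, σ x = x ^ 2 ^ (m + 1)) ∧ J.IsGauge w 1 ∧
      Sys σ 1 (J.fperm w) := by
  obtain ⟨β₁, c, I₁, w, hc, hw⟩ := I.exists_gauge
  obtain ⟨rfl, hs⟩ := I₁.gauge_sys hw hc hg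
  have small : ∀ {θ : F ≃+* F} {β : F} {f : F × F → F × F}, Sys θ β f → Good θ →
      ∀ {h : ℕ}, 1 ≤ h → h ≤ m → (∀ x, θ x = x ^ 2 ^ h) → β = 0 ∨ β = 1 := by
    intro θ β f hs hg h h1 hhm hh
    refine hs.beta_mem hg hh ?_
    rcases Nat.lt_or_ge m 2 with hm2 | hm2
    · obtain rfl : h = 1 := by omega
      obtain rfl : m = 1 := by omega
      exact Or.inr ⟨rfl, hcard⟩
    · refine Or.inl ⟨?_, ?_⟩
      · calc 2 = 2 ^ 1 := rfl
          _ ≤ 2 ^ h := Nat.pow_le_pow_right (by norm_num) h1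
      · rw [hcard]
        have h3 : 2 ^ h ≤ 2 ^ m := Nat.pow_le_pow_right (by norm_num) hhm
        have h4 : 4 ≤ 2 ^ m := le_trans (show 4 ≤ 2 ^ 2 by norm_num) (Nat.pow_le_pow_right (show 2 > 0 by norm_num) hm2)
        rw [pow_succ, pow_mul', pow_two]
        nlinarith
  -- `β` lies in the prime field
  obtain ⟨h, hhn, hh⟩ := exists_frobenius_exponent (n := 2 * m + 1) (by omega) hcard θ
  have hh1 : 1 ≤ h := by
    rcases Nat.eq_zero_or_pos h with rfl | hpos
    · obtain ⟨r, hr⟩ := hne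
      exact absurd (by rw [hh, pow_zero, pow_one]) hr
    · exact hpos
  obtain ⟨J, hJ⟩ := I₁.swap_param hw
  have hJs := (J.gauge_sys hJ one_ne_zero hg.symm).2
  have hβ : β₁ = 0 ∨ β₁ = 1 := by
    rcases Nat.lt_or_ge m h with hlt | hle
    · have hsy : ∀ x, θ.symm x = x ^ 2 ^ (2 * m + 1 - h) := by
        intro x
        apply θ.injective
        rw [RingEquiv.apply_symm_apply, hh, ← pow_mul, ← pow_add,
          Nat.sub_add_cancel (le_of_lt hhn), ← hcard, FiniteField.pow_card]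
      rcases small hJs hg.symm (h := 2 * m + 1 - h) (by omega) (by omega) hsy with e | e
      · rw [map_eq_zero_iff _ θ.symm.injective, CharTwo.add_eq_zero] at e
        exact Or.inr e.symm
      · rw [map_eq_one_iff _ θ.symm.injective, add_eq_left] at e
        exact Or.inl e
    · exact small hs hg hh1 hle hh
  -- the case `β = 1`
  have fin : ∀ (θ : F ≃+* F) (J : Inst θ 1 G), Good θ → (∃ r, θ r ≠ r) → J.IsGauge w 1 →
      ∃ (σ : F ≃+* F) (J : Inst σ 1 G) (w : G), (∀ x, σ x = x ^ 2 ^ (m + 1)) ∧ J.IsGauge w 1 ∧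
        Sys σ 1 (J.fperm w) := by
    intro θ J hg hne hJ
    have hs := (J.gauge_sys hJ one_ne_zero hg).2
    have hsq := hs.theta_sq hg hne
    obtain ⟨k, -, hk⟩ := exists_frobenius_exponent (n := 2 * m + 1) (by omega) hcard θ
    refine ⟨θ, J, w, fun x => ?_, hJ, hs⟩
    have hit : ∀ (j : ℕ) (x : F), θ^[j] x = x ^ 2 ^ (k * j) := by
      intro j
      induction j with
      | zero => intro x; simp
      | succ j ih =>
        intro x
        rw [Function.iterate_succ_apply', ih, hk, ← pow_mul, ← pow_add]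
        congr 2
    have hit2 : ∀ (j : ℕ) (x : F), θ^[2 * j] x = x ^ 2 ^ j := by
      intro j
      induction j with
      | zero => intro x; simp
      | succ j ih =>
        intro x
        rw [show 2 * (j + 1) = 2 * j + 1 + 1 from rfl, Function.iterate_succ_apply',
          Function.iterate_succ_apply', ih, hsq, ← pow_mul, ← pow_succ]
    have hn : θ^[2 * m + 1] x = x := by
      rw [hit, mul_comm k, pow_mul, ← hcard, FiniteField.pow_card_pow]
    rw [← hit2, show 2 * (m + 1) = 1 + (2 * m + 1) by ring, Function.iterate_add_apply, hn]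
    rfl
  rcases hβ with rfl | rfl
  · have e : θ.symm (1 + 0) = 1 := by rw [add_zero, map_one]
    obtain ⟨J', hJ'⟩ : ∃ J' : Inst θ.symm 1 G, J'.IsGauge w 1 := by
      have h' : ∃ J' : Inst θ.symm (θ.symm (1 + 0)) G, J'.IsGauge w 1 := ⟨J, hJ⟩
      rwa [e] at h'
    refine fin θ.symm J' hg.symm ?_ hJ'
    obtain ⟨r, hr⟩ := hne
    exact ⟨θ r, fun e => hr (by rw [RingEquiv.symm_apply_apply] at e; exact e.symm)⟩
  · exact fin θ I₁ hg hne hw

/-- Two coordinatised groups over fields of order `2 ^ (2 * m + 1)` are isomorphic. -/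
theorem equiv_of_inst [Fintype F] {m : ℕ} (hm : 1 ≤ m)
    (hcard : Fintype.card F = 2 ^ (2 * m + 1)) {θ θ' : F ≃+* F} {β β' : F}
    {G : Type u} [Group G] {G' : Type u'} [Group G'] (I : Inst θ β G) (I' : Inst θ' β' G')
    (hg : Good θ) (hne : ∃ r, θ r ≠ r) (hg' : Good θ') (hne' : ∃ r, θ' r ≠ r) :
    Nonempty (G ≃* G') := by
  obtain ⟨σ, J, w, hσ, hw, hs⟩ := exists_normal hm hcard I hg hne
  obtain ⟨σ', J', w', hσ', hw', hs'⟩ := exists_normal hm hcard I' hg' hne'
  obtain rfl : σ = σ' := RingEquiv.ext fun x => (hσ x).trans (hσ' x).symm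
  have hgs : Good σ := by
    refine ⟨fun x hx => ?_, hg.nocube⟩
    by_contra hx1
    have hx0 : x ≠ 0 := fun e => by rw [e, ss_zero] at hx; exact zero_ne_one hx
    have h1 : σ x = x⁻¹ := eq_inv_of_mul_eq_one_right hx
    have h2 : σ (σ x) = x := by rw [h1, map_inv₀, h1, inv_inv]
    rw [hσ, hσ, ← pow_mul, show 2 ^ (m + 1) * 2 ^ (m + 1) = 2 ^ (2 * m + 1) * 2 by ring, pow_mul,
      ← hcard, FiniteField.pow_card, pow_two] at h2
    exact hx1 (mul_eq_left₀ hx0 |>.1 h2)
  have hf : J.fperm w = J'.fperm w' := Sys.unique hs hs' hgs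
  have he : J.φ.range = J'.φ.range :=
    le_antisymm (J.range_le J' hw hw' hf) (J'.range_le J hw' hw hf.symm)
  exact ⟨((MonoidHom.ofInjective J.inj).trans (MulEquiv.subgroupCongr he)).trans
    (MonoidHom.ofInjective J'.inj).symm⟩

end Cfsg.Agent.SuzukiUniq67
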