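import Cfsg.Agent.Lib.SuzukiUniq67Coord
import Cfsg.Agent.Lib.SuzukiUniq67Norm
import Cfsg.Agent.Lib.SuzukiGroupLie
import Cfsg.Agent.Lib.ZassenhausSuzukiMain62
import Cfsg.Agent.Lib.ZassenhausClassify27
import Cfsg.Agent.S0344
import Cfsg.Agent.S0347
import Cfsg.Agent.S0345
import Cfsg.Prelude.Def_Sz

/-!
# Uniqueness of the Suzuki groups among the simple Zassenhaus groups

A simple Zassenhaus group with a non-abelian regular normal `2`-subgroup of a point stabiliser is
isomorphic to `Cfsg.Lie.Sz F (2 ^ (m + 1))`.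
-/

set_option autoImplicit false

namespace Cfsg.Agent.SuzukiUniq67

open MulAction

universe u v

/-- An `Inst` from a faithful action and coordinates. -/
theorem nonempty_inst {F : Type} [Field F] {θ : F ≃+* F} {β : F} {G : Type u} [Group G]
    {Ω : Type v} [MulAction G Ω] [FaithfulSMul G Ω] (e : Option (F × F) ≃ Ω)
    (T : F × F → G) (hT : ∀ v, T v • e none = e none ∧ ∀ x, T v • e (some x) = e (some (mul θ β v x)))
    (K : F → G) (hK : ∀ l, l ≠ 0 → K l • e none = e none ∧ ∀ x, K l • e (some x) = e (some (kk θ l x)))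
    (hB : ∀ g : G, g • e none = e none → g • e (some 0) = e (some 0) → ∃ l, l ≠ 0 ∧ g = K l)
    (swap : ∃ w : G, w * w = 1 ∧ w • e none = e (some 0) ∧ ∀ l, l ≠ 0 → w * K l * w = (K l)⁻¹)
    (three : ∀ g : G, g ^ 3 = 1 → g = 1) : Nonempty (Inst θ β G) := by
  let φ : G →* Equiv.Perm (Option (F × F)) :=
    (e.symm.permCongrHom).toMonoidHom.comp (MulAction.toPermHom G Ω)
  have hφ : ∀ g o, φ g o = e.symm (g • e o) := fun _ _ => rfl
  have hinj : Function.Injective φ := e.symm.permCongrHom.injective.comp MulAction.toPerm_injective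
  have hKinv : ∀ l, l ≠ 0 → (K l)⁻¹ = K l⁻¹ := by
    intro l hl
    refine inv_eq_of_mul_eq_one_right (hinj (Equiv.ext fun o => ?_))
    rw [map_one, Equiv.Perm.one_apply, hφ, mul_smul, Equiv.symm_apply_eq]
    cases o with
    | none => rw [(hK _ (inv_ne_zero hl)).1, (hK l hl).1]
    | some x => rw [(hK _ (inv_ne_zero hl)).2, (hK l hl).2, kk_kk, mul_inv_cancel₀ hl, kk_one]
  exact ⟨{
    φ := φ
    inj := hinj
    T := T
    hT := fun v => ⟨by rw [hφ, (hT v).1, e.symm_apply_apply],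
      fun x => by rw [hφ, (hT v).2, e.symm_apply_apply]⟩
    K := K
    hK := fun l hl => ⟨by rw [hφ, (hK l hl).1, e.symm_apply_apply],
      fun x => by rw [hφ, (hK l hl).2, e.symm_apply_apply]⟩
    hB := fun g h1 h2 => hB g (e.symm_apply_eq.1 ((hφ g none).symm.trans h1))
      (e.symm_apply_eq.1 ((hφ g _).symm.trans h2))
    swap := by
      obtain ⟨w, h1, h2, h3⟩ := swap
      exact ⟨w, h1, by rw [hφ, h2, e.symm_apply_apply],
        fun l hl => by rw [h3 l hl, hKinv l hl]⟩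
    three := three }⟩

theorem not_three_dvd (m : ℕ) :
    ¬ 3 ∣ (2 ^ (2 * m + 1)) ^ 2 * ((2 ^ (2 * m + 1)) ^ 2 + 1) * (2 ^ (2 * m + 1) - 1) := by
  have hmod : ∀ k : ℕ, 2 ^ (2 * k + 1) % 3 = 2 := by
    intro k
    induction k with
    | zero => rfl
    | succ k ih =>
      rw [show 2 * (k + 1) + 1 = (2 * k + 1) + 2 by ring, pow_add, Nat.mul_mod, ih]; norm_num
  have h := hmod m
  generalize 2 ^ (2 * m + 1) = q at h
  have hsq : q ^ 2 % 3 = 1 := by rw [Nat.pow_mod, h]
  intro hd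
  rcases (Nat.Prime.dvd_mul Nat.prime_three).1 hd with h1 | h1
  · rcases (Nat.Prime.dvd_mul Nat.prime_three).1 h1 with h2 | h2 <;> omega
  · omega

theorem three_of_card {G : Type u} [Group G] [Finite G] (h : ¬ 3 ∣ Nat.card G) (g : G)
    (hg : g ^ 3 = 1) : g = 1 := by
  by_contra hne
  haveI : Fact (Nat.Prime 3) := ⟨Nat.prime_three⟩
  exact h (orderOf_eq_prime hg hne ▸ orderOf_dvd_natCard g)

/-- Coordinates for a simple Zassenhaus group of Suzuki type. -/
theorem exists_inst {G : Type u} {Ω : Type v} [Group G] [Finite G] [MulAction G Ω] [Finite Ω]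
    (hZ : Cfsg.IsZassenhausGroup G Ω) [IsSimpleGroup G] {a b : Ω} (hab : a ≠ b) (U : Subgroup G)
    (hUle : U ≤ stabilizer G a)
    (hUn : ∀ h ∈ stabilizer G a, ∀ u ∈ U, h * u * h⁻¹ ∈ U)
    (hreg : ∀ c d : Ω, c ≠ a → d ≠ a → ∃! u : U, (u : G) • c = d)
    (hU2 : IsPGroup 2 U) (hUna : ∃ u ∈ U, ∃ v ∈ U, u * v ≠ v * u) :
    ∃ (F : Type) (_ : Field F) (_ : Fintype F) (_ : CharP F 2) (m : ℕ) (θ : F ≃+* F) (β : F),
      1 ≤ m ∧ Fintype.card F = 2 ^ (2 * m + 1) ∧ Good θ ∧ (∃ r, θ r ≠ r) ∧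
      Nonempty (Inst θ β G) := by
  classical
  obtain ⟨n, hk, hodd, hn1, hUcard⟩ := ZassenhausSuzuki62.main hZ hab U hUle hUn hreg hU2 hUna
  obtain ⟨m, rfl⟩ := hodd
  obtain ⟨hfinU, hP, hnc, htwo, K', hK'c, hK'⟩ := id hk.suzuki
  have hS' : SuzukiTwo.Setup U K' := ⟨hP, hnc, htwo, hK'c, hK'⟩
  have hcsq := SuzukiTwo.center_sq hS'
  haveI : FaithfulSMul G Ω := hZ.1
  let T0 := Zassenhaus.two G a b
  let κ : T0 →* MulAut U :=
    { toFun := fun t =>
        { toFun := fun u => ⟨(t : G) * u * (t : G)⁻¹, hUn t t.2.1 u u.2⟩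
          invFun := fun u => ⟨(t : G)⁻¹ * u * ((t : G)⁻¹)⁻¹,
            hUn _ (Subgroup.inv_mem _ t.2.1) u u.2⟩
          left_inv := fun u => Subtype.ext (by simp only; group)
          right_inv := fun u => Subtype.ext (by simp only; group)
          map_mul' := fun u w => Subtype.ext (by simp only [Subgroup.coe_mul]; group) }
      map_one' := by
        ext u
        show ((1 : T0) : G) * u * ((1 : T0) : G)⁻¹ = u
        simp
      map_mul' := fun s t => by
        ext u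
        show ((s * t : T0) : G) * u * ((s * t : T0) : G)⁻¹ =
          (s : G) * ((t : G) * u * (t : G)⁻¹) * (s : G)⁻¹
        rw [Subgroup.coe_mul]; group }
  have hκ : ∀ (t : T0) (u : U), ((κ t u : U) : G) = (t : G) * u * (t : G)⁻¹ := fun _ _ => rfl
  have hfree : ∀ (t : T0) (u : U), u ≠ 1 → κ t u = u → t = 1 := by
    intro t u hu h
    by_contra ht
    refine hu (Subtype.ext (Feit.kernel_fpf hZ hUle hk.card_succ hk.hfix hab u.2 t.2
      (fun e => ht (Subtype.ext e)) ?_))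
    have h' := congrArg (Subtype.val (p := fun g => g ∈ U)) h
    rw [hκ] at h'
    exact mul_inv_eq_iff_eq_mul.1 h'
  have hκinj : ∀ (x : U), x ≠ 1 → Function.Injective fun t => κ t x := by
    intro x hx s t h
    have h2 : κ (t⁻¹ * s) x = x := by
      rw [map_mul, MulAut.mul_apply, show κ s x = κ t x from h, ← MulAut.mul_apply, ← map_mul,
        inv_mul_cancel, map_one, MulAut.one_apply]
    exact (inv_mul_eq_one.1 (hfree _ x hx h2)).symm
  have hT0 : Nat.card T0 + 1 = 2 ^ (2 * m + 1) := hk.card_two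
  have hreg0 : ∀ x y : U, x ≠ 1 → x * x = 1 → y ≠ 1 → y * y = 1 →
      ∃! k : κ.range, (k : MulAut U) x = y := by
    intro x y hx hx2 hy hy2
    let I := ((Subgroup.center U : Set U) \ {1})
    have hI : Nat.card I = Nat.card T0 := by
      have h1 : Nat.card I = 2 ^ (2 * m + 1) - 1 := by
        rw [Nat.card_coe_set_eq, Set.ncard_diff_singleton_of_mem (one_mem (Subgroup.center U)),
          ← Nat.card_coe_set_eq, SetLike.coe_sort_coe, hk.card_center]
      rw [h1, ← hT0, Nat.add_sub_cancel]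
    let f : T0 → I := fun t => ⟨κ t x,
      SuzukiTwo.mem_center_of_invol hS' (by rw [← map_mul, hx2, map_one]),
      fun e => hx ((map_eq_one_iff (κ t) (κ t).injective).1 e)⟩
    have hf : Function.Bijective f := (Nat.bijective_iff_injective_and_card f).2
      ⟨fun s t h => hκinj x hx (congrArg Subtype.val h), hI.symm⟩
    obtain ⟨t, ht⟩ := hf.2 ⟨y, SuzukiTwo.mem_center_of_invol hS' hy2, hy⟩
    refine ⟨⟨κ t, t, rfl⟩, congrArg Subtype.val ht, ?_⟩
    rintro ⟨k, s, rfl⟩ hs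
    exact Subtype.ext (congrArg κ (hκinj x hx (hs.trans (congrArg Subtype.val ht).symm)))
  have hcyc : IsCyclic κ.range := by
    haveI : IsCyclic T0 := hk.cyc
    exact isCyclic_of_surjective κ.rangeRestrict κ.rangeRestrict_surjective
  have hS : SuzukiTwo.Setup U κ.range := ⟨hP, hnc, htwo, hcyc, hreg0⟩
  obtain ⟨F, hF, hFf, hchar, θ, β, e, hFc, hinj, hne, hmul, hkk⟩ :=
    exists_coord hS (by rw [hk.card_center, hUcard])
  have hcard : Fintype.card F = 2 ^ (2 * m + 1) := by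
    rw [← Nat.card_eq_fintype_card, hFc, hk.card_center]
  refine ⟨F, hF, hFf, hchar, m, θ, β, by omega, hcard, ⟨hinj, nocube_of_card hcard⟩, hne, ?_⟩
  have he1 : e 0 = 1 := by
    have h := hmul 0 0
    rw [mul_zero'] at h
    exact left_eq_mul.1 h
  -- the torus
  choose! kl hkl hkl' using hkk
  choose! Kt hKt using fun (l : F) (hl : l ≠ 0) => hkl l hl
  let eΩf : Option (F × F) → Ω := fun o => o.elim a fun v => ((e v : U) : G) • b
  have hne_a : ∀ u : U, (u : G) • b ≠ a := fun u h =>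
    hab.symm (smul_left_cancel (u : G) (h.trans (hUle u.2).symm))
  have hbij : Function.Bijective eΩf := by
    constructor
    · rintro (_ | v) (_ | w) h
      · rfl
      · exact absurd h.symm (hne_a _)
      · exact absurd h (hne_a _)
      · obtain ⟨x, -, hx⟩ := hreg b ((e v : U) • b) hab.symm (hne_a _)
        exact congrArg some (e.injective ((hx (e v) rfl).trans (hx (e w) h.symm).symm))
    · intro c
      by_cases hc : c = a
      · exact ⟨none, hc.symm⟩
      · obtain ⟨x, hx, -⟩ := hreg b c hab.symm hc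
        exact ⟨some (e.symm x), by
          show ((e (e.symm x) : U) : G) • b = c
          rw [e.apply_symm_apply]; exact hx⟩
  let eΩ : Option (F × F) ≃ Ω := Equiv.ofBijective eΩf hbij
  have hnone : eΩ none = a := rfl
  have hsome : ∀ v, eΩ (some v) = ((e v : U) : G) • b := fun _ => rfl
  have hb0 : eΩ (some 0) = b := by rw [hsome, he1, OneMemClass.coe_one, one_smul]
  have hKsome : ∀ l, l ≠ 0 → ∀ x, (Kt l : G) • eΩ (some x) = eΩ (some (kk θ l x)) := by
    intro l hl x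
    rw [hsome, hsome]
    have h1 : ((e (kk θ l x) : U) : G) = (Kt l : G) * ((e x : U) : G) * (Kt l : G)⁻¹ := by
      rw [← hkl' l hl, ← hKt l hl, hκ]
    rw [h1, mul_smul, mul_smul, inv_smul_eq_iff.2 (Kt l).2.2.symm]
  have hKinj : Function.Injective fun l : {l : F // l ≠ 0} => Kt l.1 := by
    intro l l' h
    have h1 := hKsome l l.2 (1, 0)
    have h2 := hKsome l' l'.2 (1, 0)
    simp only at h
    rw [h, h2] at h1
    have h3 := congrArg Prod.fst (Option.some.inj (eΩ.injective h1))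
    simpa [kk, Subtype.ext_iff] using h3.symm
  have hKsurj : ∀ g ∈ T0, ∃ l, l ≠ 0 ∧ g = (Kt l : G) := by
    intro g hg
    have hc : Nat.card {l : F // l ≠ 0} = Nat.card T0 := by
      rw [Nat.card_eq_fintype_card, Fintype.card_subtype_compl, Fintype.card_subtype_eq, hcard]
      omega
    obtain ⟨l, hl⟩ := ((Nat.bijective_iff_injective_and_card _).2 ⟨hKinj, hc⟩).2 ⟨g, hg⟩
    exact ⟨l.1, l.2, (congrArg Subtype.val hl).symm⟩
  have hsuz : Cfsg.IsSuzuki G := Cfsg.Agent.S0347.result hZ a U hUle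
    ⟨fun u hu g => hUn g g.2 u hu⟩ hU2
    (by obtain ⟨x, hx, y, hy, hxy⟩ := hUna
        exact ⟨⟨x, hx⟩, ⟨y, hy⟩, fun h => hxy (congrArg Subtype.val h)⟩) hreg
  obtain ⟨-, m', -, hGc⟩ := hsuz
  obtain ⟨-, w, hw2, hwa, hwb, hwh⟩ := Cfsg.Agent.S0345.result hZ hab
  refine nonempty_inst eΩ (fun v => ((e v : U) : G)) (fun v => ⟨hUle (e v).2, fun x => ?_⟩)
    (fun l => (Kt l : G)) (fun l hl => ⟨(Kt l).2.1, hKsome l hl⟩)
    (fun g h1 h2 => hKsurj g ⟨h1, hb0 ▸ h2⟩)
    ⟨w, ?_, by rw [hnone, hwa, hb0], fun l hl => ?_⟩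
    (three_of_card (by rw [hGc]; exact not_three_dvd m'))
  · rw [hsome, hsome, hmul, Subgroup.coe_mul, mul_smul]
  · rw [← pow_two, ← hw2, pow_orderOf_eq_one]
  · have hwi : w⁻¹ = w := inv_eq_of_mul_eq_one_right (by rw [← pow_two, ← hw2, pow_orderOf_eq_one])
    have h := hwh _ (Kt l).2
    rwa [hwi] at h

/-- The Suzuki group as a coordinatised group. -/
theorem exists_model (F : Type) [Field F] [Fintype F] {m : ℕ} (hm : 1 ≤ m)
    (hcard : Fintype.card F = 2 ^ (2 * m + 1)) :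
    ∃ σ : F ≃+* F, Good σ ∧ (∃ r, σ r ≠ r) ∧ Nonempty (Inst σ 1 ↥(Cfsg.Sz F m)) := by
  classical
  open SuzukiGroupBasic SuzukiGroupStructure in
  haveI hP : Param F m := Param.mk' hm hcard
  haveI := charTwo (F := F) (m := m)
  open SuzukiGroupBasic SuzukiGroupStructure in
  let σh : F →+* F :=
    { toFun := sg m, map_one' := sg_one, map_mul' := sg_mul, map_zero' := sg_zero, map_add' := sg_add }
  have hσb : Function.Bijective σh := Finite.injective_iff_bijective.1 σh.injective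
  let σ : F ≃+* F := RingEquiv.ofBijective σh hσb
  have hσ : ∀ x, σ x = SuzukiGroupBasic.sg m x := fun _ => rfl
  refine ⟨σ, ⟨fun x hx => ?_, nocube_of_card hcard⟩, ?_, ?_⟩
  · by_contra hx1
    have hx0 : x ≠ 0 := fun e => by rw [e, ss_zero] at hx; exact zero_ne_one hx
    have h1 : σ x = x⁻¹ := eq_inv_of_mul_eq_one_right hx
    have h2 : σ (σ x) = x := by rw [h1, map_inv₀, h1, inv_inv]
    rw [hσ, hσ, SuzukiGroupBasic.sg_sg, pow_two] at h2
    exact hx1 (mul_eq_left₀ hx0 |>.1 h2)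
  · obtain ⟨x, hx0, hx1⟩ := SuzukiGroupBasic.exists_ne_zero_one (F := F) (m := m)
    exact ⟨x, fun e => (SuzukiGroupBasic.eq_zero_or_one_of_sg_self e).elim hx0 hx1⟩
  open SuzukiGroupBasic SuzukiGroupStructure in
  let S : SubMulAction ↥(Cfsg.Sz F m) (Projectivization F (Fin 4 → F)) :=
    ⟨Cfsg.suzukiOvoid F m, fun g _ hp => smul_mem_ovoid g hp⟩
  open SuzukiGroupBasic SuzukiGroupStructure in
  let ef : Option (F × F) → S := fun o => o.elim ⟨Cfsg.suzukiPointInfinity F, inf_mem⟩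
    fun v => ⟨pt m v.1 v.2, mem_ovoid.mpr (Or.inr ⟨v.1, v.2, rfl⟩)⟩
  open SuzukiGroupBasic SuzukiGroupStructure in
  have hbij : Function.Bijective ef := by
    constructor
    · rintro (_ | v) (_ | w) h
      · rfl
      · exact absurd (congrArg Subtype.val h).symm (pt_ne_inf _ _)
      · exact absurd (congrArg Subtype.val h) (pt_ne_inf _ _)
      · obtain ⟨h1, h2⟩ := pt_injective (congrArg Subtype.val h)
        exact congrArg some (Prod.ext h1 h2)
    · rintro ⟨p, hp⟩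
      by_cases h : p = Cfsg.suzukiPointInfinity F
      · exact ⟨none, Subtype.ext h.symm⟩
      · obtain ⟨x, y, rfl⟩ := eq_pt_of_ne hp h
        exact ⟨some (x, y), rfl⟩
  haveI : FaithfulSMul ↥(Cfsg.Sz F m) S := by
    refine ⟨fun {g g'} h => ?_⟩
    have h1 : g'⁻¹ * g = 1 := SuzukiGroupStructure.eq_one_of_fix_all fun p hp => by
      have := congrArg Subtype.val (h ⟨p, hp⟩)
      rw [mul_smul, inv_smul_eq_iff]
      exact this
    exact (inv_mul_eq_one.1 h1).symm
  open SuzukiGroupBasic SuzukiGroupStructure in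
  refine nonempty_inst (Equiv.ofBijective ef hbij) (fun v => Ts v.1 v.2)
    (fun v => ⟨Subtype.ext (Ts_smul_inf v.1 v.2), fun x => Subtype.ext ?_⟩)
    (fun l => if h : l = 0 then 1 else Hs (Units.mk0 l h))
    (fun l hl => ?_) (fun g h1 h2 => ?_)
    ⟨Ws, Ws_mul_Ws, Subtype.ext ?_, fun l hl => ?_⟩
    (three_of_card (by rw [natCard_Sz]; exact not_three_dvd m))
  · show Ts v.1 v.2 • pt m x.1 x.2 = pt m (v.1 + x.1) _
    rw [Ts_smul_pt]
    congr 1
    · exact add_comm _ _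
    · show _ = v.2 + x.2 + cb σ 1 v.1 x.1
      simp only [cb, hσ, CharTwo.add_self_eq_zero]
      ring
  · rw [dif_neg hl]
    refine ⟨Subtype.ext (Hs_smul_inf _), fun x => Subtype.ext ?_⟩
    exact Hs_smul_pt (Units.mk0 l hl) x.1 x.2
  · obtain ⟨k, hk⟩ := fix_inf_zero (congrArg Subtype.val h1)
      (by rw [zero_eq_pt (m := m)]; exact congrArg Subtype.val h2)
    refine ⟨k, k.ne_zero, ?_⟩
    rw [dif_neg k.ne_zero, hk]
    congr 1
    exact Units.ext rfl
  · exact Ws_smul_inf.trans (zero_eq_pt (m := m))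
  · rw [dif_neg hl]
    have h := Ws_Hs (m := m) (Units.mk0 l hl)
    rw [Ws_inv] at h
    rw [h]
    exact (inv_eq_of_mul_eq_one_right (by rw [Hs_mul, mul_inv_cancel, Hs_one])).symm

/-- A simple Zassenhaus group with a non-abelian kernel of `2`-power order is a Suzuki group. -/
theorem isoSuzuki_of_kernel {G : Type u} {Ω : Type v} [Group G] [Finite G] [MulAction G Ω]
    [Finite Ω] (hZ : Cfsg.IsZassenhausGroup G Ω) [IsSimpleGroup G] {a b : Ω} (hab : a ≠ b)
    (U : Subgroup G) (hUle : U ≤ stabilizer G a)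
    (hUn : ∀ h ∈ stabilizer G a, ∀ u ∈ U, h * u * h⁻¹ ∈ U)
    (hreg : ∀ c d : Ω, c ≠ a → d ≠ a → ∃! u : U, (u : G) • c = d)
    (hU2 : IsPGroup 2 U) (hUna : ∃ u ∈ U, ∃ v ∈ U, u * v ≠ v * u) :
    Cfsg.Lie.IsoSuzuki G := by
  obtain ⟨F, hF, hFf, hchar, m, θ, β, hm, hcard, hg, hne, ⟨I⟩⟩ :=
    exists_inst hZ hab U hUle hUn hreg hU2 hUna
  haveI : SuzukiGroupBasic.Param F m := SuzukiGroupBasic.Param.mk' hm hcard
  obtain ⟨σ, hgσ, hneσ, ⟨J⟩⟩ := exists_model F hm hcard
  obtain ⟨eq⟩ := equiv_of_inst hm hcard I J hg hne hgσ hneσ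
  exact ⟨F, hF, hFf, m, hm, hcard, ⟨eq.trans SuzukiGroupLie.lieEquiv.symm⟩⟩

/-- The simple Zassenhaus groups are `PSL₂` and the Suzuki groups. -/
theorem psl2_or_isoSuzuki {G : Type u} {Ω : Type v} [Group G] [Finite G] [MulAction G Ω]
    [Finite Ω] (hZ : Cfsg.IsZassenhausGroup G Ω) [IsSimpleGroup G] :
    (∃ (F : Type) (_ : Field F) (_ : Fintype F),
      Nonempty (G ≃* Matrix.ProjectiveSpecialLinearGroup (Fin 2) F)) ∨ Cfsg.Lie.IsoSuzuki G := by
  classical
  haveI := Fintype.ofFinite Ω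
  obtain ⟨a, b, -, hab, -, -⟩ := Zassenhaus.exists_triple hZ
  rcases Nat.even_or_odd (Nat.card (Zassenhaus.two G a b)) with he | ho
  · obtain ⟨F, hF, hFf, -, hiso⟩ := Cfsg.Agent.S0344.result hZ hab he
    exact Or.inl ⟨F, hF, hFf, hiso⟩
  obtain ⟨K, hKa, hKcard, hKfix⟩ := Feit.exists_kernel_subgroup hZ hab
  rcases Feit.feit_inequality (Nat.card G) rfl hZ hab (Nat.card K) _ hKcard.symm rfl ho K hKa rfl
      hKfix with h | ⟨hP, hna, -⟩
  · exact Or.inl (ZassenhausClassify27.psl2_of_large hZ hab ho hKa hKcard hKfix h)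
  · refine Or.inr (isoSuzuki_of_kernel hZ hab K hKa
      (fun h hh u hu => Feit.kernel_conj_mem hZ hKa hKcard hKfix hh hu) ?_ hP
      (by obtain ⟨x, y, hxy⟩ := hna
          exact ⟨x, x.2, y, y.2, fun e => hxy (Subtype.ext e)⟩))
    intro y z hy hz
    obtain ⟨k, hk, e⟩ := Feit.kernel_transitive hZ hKa hKcard hKfix hy hz
    refine ⟨⟨k, hk⟩, e, fun u hu => Subtype.ext (inv_mul_eq_one.1 (Feit.kernel_free hKa hKfix
      (K.mul_mem (K.inv_mem hk) u.2) hy ?_)).symm⟩
    rw [mul_smul, show (u : G) • y = z from hu, ← e, inv_smul_smul]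

end Cfsg.Agent.SuzukiUniq67
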