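import Cfsg.Prelude.Def_Sz
import Cfsg.Agent.Lib.CIT21Main
import Cfsg.Agent.Lib.CIT21Frobenius
import Cfsg.Agent.Lib.SuzukiUniq67Main

/-!
Simple groups with `2`-group centralisers of involutions, up to isomorphism.
-/

set_option autoImplicit false
set_option linter.style.haveILetI false

namespace Cfsg.Agent.CITClassifyIso46

universe u

/-- Simple non-abelian groups with `2`-group centralisers of involutions: `PSL₂(F)`, `PSL₃(4)` or
`Sz(q)`. -/
theorem classify {G : Type u} [Group G] [Finite G] [IsSimpleGroup G]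
    (hna : ∃ a b : G, a * b ≠ b * a) (hG : CIT21.IsCIT G) :
    (∃ (F : Type) (_ : Field F) (_ : Fintype F),
        Nonempty (G ≃* Matrix.ProjectiveSpecialLinearGroup (Fin 2) F)) ∨
    (∃ (F : Type) (_ : Field F) (_ : Fintype F), Fintype.card F = 4 ∧
        Nonempty (G ≃* Matrix.ProjectiveSpecialLinearGroup (Fin 3) F)) ∨
    Cfsg.Lie.IsoSuzuki G := by
  have hs : IsSimpleGroup G := inferInstance
  have hloc : CIT21.LocalSpec G := CIT21.localSpec
  by_cases hE : ∃ N D V : Subgroup G, ∃ c, CIT21.ELocal N D V c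
  · obtain ⟨N, V, c, hV⟩ := CIT21.reduceSpec hloc CIT21.quadraticSpec hG hs hna hE
    have h2 := hV.sl2.two_le
    obtain ⟨n, hn⟩ := IsPGroup.iff_card (p := 2) (G := V) |>.1 hV.sl2.pGroup_D
    have hc : c = 2 ∨ 4 ≤ c := by
      rcases Nat.lt_or_ge c 4 with h | h
      · left
        rcases (show c = 2 ∨ c = 3 by omega) with rfl | rfl
        · rfl
        · exfalso
          have h3 := hV.sl2.card_U
          rw [hn] at h3
          have : (3 : ℕ) ∣ 2 ^ n := ⟨3, by rw [h3]; norm_num⟩
          have := Nat.Prime.dvd_of_dvd_pow Nat.prime_three this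
          norm_num at this
      · exact Or.inr h
    rcases hc with rfl | hc
    · exact Or.inl (CIT21Dihedral.dihedralSpec hG hs ⟨N, V, hV⟩)
    · exact Or.inr (Or.inl (CIT21.plane hG hs
        (CIT21.flatsSpec CIT21.quadraticSpec hG hs ⟨N, V, c, hc, hV⟩)))
  · have hTI := CIT21.climbSpec hloc hG hs hna fun N D V c h => hE ⟨N, D, V, c, h⟩
    obtain ⟨Ω, _, _, hZ⟩ := CIT21.frobenius_zassenhaus hG hs hna hTI
    rcases SuzukiUniq67.psl2_or_isoSuzuki hZ with h | h
    · exact Or.inl h
    · exact Or.inr (Or.inr h)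

end Cfsg.Agent.CITClassifyIso46
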