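import Mathlib

/-!
Small counting facts: fixed points of a permutation of order dividing `p`, the elements inverted by
an involution acting on a group of odd order, and `2 ^ n = p ^ a + 1`.
-/

set_option autoImplicit false

namespace Cfsg.Agent.PTransp70

open scoped Pointwise

theorem card_modEq_fix {α : Type*} [Finite α] {p : ℕ} [hp : Fact p.Prime] (σ : Equiv.Perm α)
    (h : σ ^ p = 1) : Nat.card α ≡ Nat.card {x // σ x = x} [MOD p] := by
  have hP : IsPGroup p (Subgroup.zpowers σ) := by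
    intro g
    refine ⟨1, ?_⟩
    obtain ⟨k, hk⟩ := Subgroup.mem_zpowers_iff.1 g.2
    refine Subtype.ext ?_
    rw [pow_one, SubmonoidClass.coe_pow, ← hk, ← zpow_natCast, ← zpow_mul, mul_comm, zpow_mul,
      zpow_natCast, h, one_zpow, OneMemClass.coe_one]
  have h1 := hP.card_modEq_card_fixedPoints α
  have h2 : MulAction.fixedPoints (Subgroup.zpowers σ) α = {x | σ x = x} := by
    ext x
    refine ⟨fun hx => hx ⟨σ, Subgroup.mem_zpowers σ⟩, fun (hx : σ x = x) g => ?_⟩
    obtain ⟨k, hk⟩ := Subgroup.mem_zpowers_iff.1 g.2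
    change (g : Equiv.Perm α) x = x
    rw [← hk]
    exact Function.IsFixedPt.perm_zpow hx k
  rwa [h2] at h1

/-- A permutation of order dividing `p` of a set with `p` elements which fixes one fixes all. -/
theorem fix_all_of_fix_one {α : Type*} [Finite α] {p : ℕ} [hp : Fact p.Prime] (σ : Equiv.Perm α)
    (h : σ ^ p = 1) (hc : Nat.card α = p) {x : α} (hx : σ x = x) (y : α) : σ y = y := by
  have hm := card_modEq_fix σ h
  rw [hc] at hm
  have hdvd : p ∣ Nat.card {x // σ x = x} := (Nat.modEq_zero_iff_dvd).1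
    (hm.symm.trans ((Nat.modEq_zero_iff_dvd).2 dvd_rfl))
  have hpos : 0 < Nat.card {x // σ x = x} := Nat.card_pos_iff.2 ⟨⟨⟨x, hx⟩⟩, inferInstance⟩
  have hle : Nat.card α ≤ Nat.card {x // σ x = x} := hc ▸ Nat.le_of_dvd hpos hdvd
  have hb := (Function.Injective.bijective_of_nat_card_le
    (f := (Subtype.val : {x // σ x = x} → α)) Subtype.val_injective hle)
  obtain ⟨⟨z, hz⟩, rfl⟩ := hb.2 y
  exact hz

theorem pow_eq_self_of_two_pow {p a n : ℕ} (hp : p.Prime) (hodd : p % 2 = 1) (ha : a ≠ 0)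
    (hn : p ^ a + 1 = 2 ^ n) : p ^ a = p := by
  have hp3 : 3 ≤ p := by
    have := hp.two_le
    omega
  rcases Nat.even_or_odd a with ⟨b, rfl⟩ | hao
  · exfalso
    have h4 : p ^ (b + b) % 4 = 1 := by
      rw [← two_mul, pow_mul, Nat.pow_mod]
      have : p ^ 2 % 4 = 1 := by
        rw [Nat.pow_mod]
        rcases (show p % 4 = 1 ∨ p % 4 = 3 by omega) with h | h <;> rw [h] <;> norm_num
      rw [this, one_pow]
      norm_num
    rcases n with _ | _ | n
    · have := Nat.one_le_pow (b + b) p (by omega)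
      omega
    · have : 3 ≤ p ^ (b + b) := le_trans hp3 (Nat.le_self_pow (by omega) p)
      norm_num at hn
      omega
    · rw [pow_succ, pow_succ] at hn
      omega
  · obtain ⟨b, rfl⟩ := hao
    have hsq : p ^ 2 ≡ 1 [MOD 2 * (p + 1)] := by
      refine ((Nat.modEq_iff_dvd' (Nat.one_le_pow 2 p (by omega))).2 ?_).symm
      obtain ⟨k, hk⟩ : 2 ∣ p - 1 := ⟨(p - 1) / 2, by omega⟩
      refine ⟨k, ?_⟩
      have h2 : p = 2 * k + 1 := by omega
      subst h2
      rw [show (2 * k + 1) ^ 2 = 2 * (2 * k + 1 + 1) * k + 1 by ring]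
      omega
    have hmod : p ^ (2 * b + 1) + 1 ≡ p + 1 [MOD 2 * (p + 1)] := by
      refine Nat.ModEq.add_right 1 ?_
      rw [pow_succ, pow_mul]
      simpa using (hsq.pow b).mul_right p
    have hdvd : p + 1 ∣ 2 ^ n := by
      rw [← hn, Nat.dvd_iff_mod_eq_zero]
      have := Nat.ModEq.of_dvd (dvd_mul_left (p + 1) 2) hmod
      rw [this, Nat.mod_self]
    obtain ⟨k, hk, hk'⟩ := (Nat.dvd_prime_pow Nat.prime_two).1 hdvd
    rcases eq_or_lt_of_le hk with rfl | hlt
    · omega
    · exfalso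
      have h2 : 2 * (p + 1) ∣ p + 1 := by
        rw [Nat.dvd_iff_mod_eq_zero]
        have : (2 * (p + 1)) ∣ 2 ^ n := by
          rw [hk', ← pow_succ']; exact pow_dvd_pow 2 hlt
        rw [← hn] at this
        exact hmod.symm.trans ((Nat.modEq_zero_iff_dvd).2 this)
      have := Nat.le_of_dvd (by omega) h2
      omega

theorem isPow_of_forall_prime {n p : ℕ} (hn : n ≠ 0) (h : ∀ q, q.Prime → q ∣ n → q = p) :
    ∃ a, n = p ^ a :=
  ⟨n.primeFactorsList.length, Nat.eq_prime_pow_of_unique_prime_dvd hn fun {q} hq hqn => h q hq hqn⟩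

/-- In a group of odd order normalised by an involution `r`, with every element inverted by `r` of
order dividing `p`, the number of inverted elements is a power of `p`. -/
theorem inverted_card {G : Type*} [Group G] [Finite G] {p : ℕ} (hp : p.Prime) (L : Subgroup G)
    (hodd : Odd (Nat.card L)) {r : G} (hr : r * r = 1) (hnorm : ∀ g ∈ L, r * g * r ∈ L)
    (hinv : ∀ g ∈ L, r * g * r = g⁻¹ → g ^ p = 1) :
    ∃ a, Nat.card {g : G // g ∈ L ∧ r * g * r = g⁻¹} = p ^ a := by
  set C : Subgroup G :=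
    { carrier := {g | g ∈ L ∧ r * g = g * r}
      one_mem' := ⟨L.one_mem, by simp⟩
      mul_mem' := fun {g h} hg hh => ⟨L.mul_mem hg.1 hh.1,
        (Commute.mul_right (show Commute r g from hg.2) (show Commute r h from hh.2)).eq⟩
      inv_mem' := fun {g} hg => ⟨L.inv_mem hg.1,
        (Commute.inv_right (show Commute r g from hg.2)).eq⟩ } with hC
  have hfix : ∀ g ∈ L, r * g * r = g → g ∈ C := fun g hg h => ⟨hg, by
    calc r * g = r * g * (r * r) := by rw [hr, mul_one]
      _ = g * r := by rw [← mul_assoc, h]⟩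
  have hconj : ∀ c ∈ C, r * c * r = c := fun c hc => by rw [hc.2, mul_assoc, hr, mul_one]
  let S := {g : G // g ∈ L ∧ r * g * r = g⁻¹}
  let f : L → S := fun g => ⟨(g : G)⁻¹ * (r * g * r), L.mul_mem (L.inv_mem g.2) (hnorm _ g.2), by
    have e : ∀ x : G, r * (x⁻¹ * (r * x * r)) * r = (r * x * r)⁻¹ * x := fun x => by
      rw [mul_inv_rev, mul_inv_rev, inv_eq_of_mul_eq_one_right hr]
      simp only [mul_assoc, hr, mul_one]
    rw [e]
    conv_rhs => rw [mul_inv_rev, inv_inv]⟩
  have hsurj : Function.Surjective f := by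
    rintro ⟨g, hgL, hg⟩
    have hog : Odd (orderOf g) := by
      rw [← Subgroup.orderOf_mk g hgL]
      exact hodd.of_dvd_nat (orderOf_dvd_natCard _)
    obtain ⟨t, ht⟩ := hog
    have hgt : g ^ (t + 1) * g ^ (t + 1) = g := by
      rw [← pow_add, show t + 1 + (t + 1) = orderOf g + 1 by omega, pow_succ, pow_orderOf_eq_one,
        one_mul]
    have hpow : r * g ^ (t + 1) * r = (g ^ (t + 1))⁻¹ := by
      rw [← inv_pow, ← hg]
      have := (conj_pow (i := t + 1) (a := r) (b := g)).symm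
      rwa [inv_eq_of_mul_eq_one_right hr] at this
    refine ⟨⟨(g ^ (t + 1))⁻¹, L.inv_mem (L.pow_mem hgL _)⟩, Subtype.ext ?_⟩
    change ((g ^ (t + 1))⁻¹)⁻¹ * (r * (g ^ (t + 1))⁻¹ * r) = g
    have e : r * (g ^ (t + 1))⁻¹ * r = g ^ (t + 1) := by
      have := congrArg (·⁻¹) hpow
      simpa [inv_eq_of_mul_eq_one_right hr, mul_assoc] using this
    rw [inv_inv, e, hgt]
  choose σ hσ using hsurj
  have hcoset : ∀ g h : L, f g = f h → (g : G) * (h : G)⁻¹ ∈ C := by
    intro g h he
    have he' : (g : G)⁻¹ * (r * g * r) = (h : G)⁻¹ * (r * h * r) := congrArg Subtype.val he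
    refine hfix _ (L.mul_mem g.2 (L.inv_mem h.2)) ?_
    have e : r * ((g : G) * (h : G)⁻¹) * r = (r * g * r) * (r * h * r)⁻¹ := by
      rw [mul_inv_rev, mul_inv_rev, inv_eq_of_mul_eq_one_right hr]
      simp only [mul_assoc]
      rw [← mul_assoc r r, hr, one_mul]
    rw [e]
    generalize r * (g : G) * r = x at he'
    generalize r * (h : G) * r = y at he'
    rw [inv_mul_eq_iff_eq_mul] at he'
    rw [he']
    group
  have hcard : Nat.card L = Nat.card S * Nat.card C := by
    rw [← Nat.card_prod]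
    refine Nat.card_congr
      { toFun := fun g => (f g, ⟨_, hcoset g (σ (f g)) (hσ _).symm⟩)
        invFun := fun sc => ⟨sc.2.1 * (σ sc.1 : G), L.mul_mem sc.2.2.1 (σ sc.1).2⟩
        left_inv := fun g => Subtype.ext (inv_mul_cancel_right _ _)
        right_inv := fun sc => ?_ }
    have h1 : f ⟨sc.2.1 * (σ sc.1 : G), L.mul_mem sc.2.2.1 (σ sc.1).2⟩ = sc.1 := by
      refine Eq.trans (Subtype.ext ?_) (hσ sc.1)
      change (sc.2.1 * (σ sc.1 : G))⁻¹ * (r * (sc.2.1 * (σ sc.1 : G)) * r) =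
        (σ sc.1 : G)⁻¹ * (r * (σ sc.1 : G) * r)
      have h2 := hconj _ sc.2.2
      rw [show r * (sc.2.1 * (σ sc.1 : G)) * r = (r * sc.2.1 * r) * (r * (σ sc.1 : G) * r) by
        simp only [mul_assoc]; rw [← mul_assoc r r, hr, one_mul], h2]
      group
    refine Prod.ext h1 (Subtype.ext ?_)
    change sc.2.1 * (σ sc.1 : G) *
      ((σ (f ⟨sc.2.1 * (σ sc.1 : G), L.mul_mem sc.2.2.1 (σ sc.1).2⟩) : L) : G)⁻¹ = sc.2.1
    rw [h1, mul_inv_cancel_right]
  have hSne : Nat.card S ≠ 0 := fun h => by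
    rw [h, zero_mul] at hcard
    exact Nat.card_pos.ne' hcard
  refine isPow_of_forall_prime hSne fun q hq hqS => ?_
  by_contra hqp
  have := Fact.mk hq
  let φ : MulAut L :=
    { toFun := fun g => ⟨r * g * r, hnorm _ g.2⟩
      invFun := fun g => ⟨r * g * r, hnorm _ g.2⟩
      left_inv := fun g => Subtype.ext (by
        change r * (r * g * r) * r = g
        simp only [mul_assoc, hr, mul_one]; rw [← mul_assoc r r, hr, one_mul])
      right_inv := fun g => Subtype.ext (by
        change r * (r * g * r) * r = g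
        simp only [mul_assoc, hr, mul_one]; rw [← mul_assoc r r, hr, one_mul])
      map_mul' := fun g h => Subtype.ext (by
        change r * (g * h) * r = (r * g * r) * (r * h * r)
        simp only [mul_assoc]; rw [← mul_assoc r r, hr, one_mul]) }
  obtain ⟨Q, hQ⟩ : ∃ Q : Sylow q L, φ • Q = Q := by
    have hσ2 : MulAction.toPerm (α := MulAut L) (β := Sylow q L) φ ^ 2 = 1 := by
      refine Equiv.ext fun Q => ?_
      rw [pow_two]
      change φ • φ • Q = Q
      rw [← mul_smul]
      have : φ * φ = 1 := MulEquiv.ext fun g => φ.left_inv g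
      rw [this, one_smul]
    have := Fact.mk Nat.prime_two
    have hm := card_modEq_fix _ hσ2
    have hoddS : Odd (Nat.card (Sylow q L)) :=
      hodd.of_dvd_nat ((Sylow.card_dvd_index (default : Sylow q L)).trans
        (Subgroup.index_dvd_card _))
    by_contra hno
    push Not at hno
    have : Nat.card {Q : Sylow q L //
        MulAction.toPerm (α := MulAut L) (β := Sylow q L) φ Q = Q} = 0 :=
      Nat.card_eq_zero.2 (Or.inl ⟨fun Q => hno Q.1 Q.2⟩)
    rw [this] at hm
    exact (Nat.not_even_iff_odd.2 hoddS) (even_iff_two_dvd.2 ((Nat.modEq_zero_iff_dvd).1 hm))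
  have hQC : (Q : Subgroup L).map L.subtype ≤ C := by
    rintro _ ⟨g, hg, rfl⟩
    have hg' : φ g ∈ (Q : Subgroup L) := by
      have : φ • g ∈ φ • (Q : Subgroup L) := Subgroup.smul_mem_pointwise_smul g φ _ hg
      rwa [← Sylow.pointwise_smul_def, hQ] at this
    have hfg : g⁻¹ * φ g ∈ (Q : Subgroup L) := mul_mem (inv_mem hg) hg'
    have h1 : ((g⁻¹ * φ g : L) : G) ^ p = 1 := hinv _ (f g).2.1 (f g).2.2
    obtain ⟨k, hk⟩ := Q.isPGroup' ⟨_, hfg⟩
    have h2 : ((g⁻¹ * φ g : L) : G) ^ (q ^ k) = 1 := by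
      simpa using congrArg (fun x : (Q : Subgroup L) => ((x : L) : G)) hk
    have h3 := Nat.dvd_gcd (orderOf_dvd_of_pow_eq_one h1) (orderOf_dvd_of_pow_eq_one h2)
    rw [(Nat.Coprime.pow_right k ((Nat.coprime_primes hp hq).2 (Ne.symm hqp))), Nat.dvd_one,
      orderOf_eq_one_iff] at h3
    refine hfix _ g.2 ?_
    exact (inv_mul_eq_one.1 h3).symm
  have hd : Nat.card (Q : Subgroup L) ∣ Nat.card C := by
    rw [← Subgroup.card_map_of_injective L.subtype_injective]
    exact Subgroup.card_dvd_of_le hQC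
  have hidx : ¬ q ∣ (Q : Subgroup L).index := Q.not_dvd_index
  have : Nat.card S ∣ (Q : Subgroup L).index := by
    obtain ⟨c, hc⟩ := hd
    have h1 := Subgroup.card_mul_index (Q : Subgroup L)
    rw [hcard, hc] at h1
    refine ⟨c, Nat.eq_of_mul_eq_mul_left (Nat.card_pos (α := (Q : Subgroup L))) ?_⟩
    rw [h1]; ring
  exact hidx (hqS.trans this)

end Cfsg.Agent.PTransp70
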