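import Mathlib
import Cfsg.Agent.Lib.HallTheorem
import Cfsg.Agent.Lib.FrobeniusFPF

set_option autoImplicit false

/-!
A finite solvable group has no three pairwise non-adjacent primes in its prime graph.
-/

namespace Cfsg.Agent.PrimeGraphSolvable

open Cfsg.Agent.HallSolvable
open scoped Pointwise

variable {G : Type*} [Group G]

/-- `s` and `t` are not joined. -/
def NoEdge (G : Type*) [Group G] (s t : ℕ) : Prop := ∀ x : G, orderOf x ≠ s * t

lemma NoEdge.symm {s t : ℕ} (h : NoEdge G s t) : NoEdge G t s := fun x hx => h x (by rw [hx, mul_comm])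

lemma NoEdge.subgroup {s t : ℕ} (h : NoEdge G s t) (H : Subgroup G) : NoEdge H s t :=
  fun x hx => h (x : G) (by rwa [Subgroup.orderOf_coe])

/-- Commuting element of prime order with a nontrivial `m` of order prime to it gives an edge. -/
lemma false_of_commute [Finite G] {a : ℕ} (ha : a.Prime) {b c : ℕ} (hb : b.Prime) (hc : c.Prime)
    (hab : a ≠ b) (hac : a ≠ c) (eab : NoEdge G a b) (eac : NoEdge G a c)
    {v m : G} (hv : orderOf v = a) (hm : m ≠ 1)
    (hmd : ∀ s : ℕ, s.Prime → s ∣ orderOf m → s = b ∨ s = c) (hcomm : Commute v m) : False := by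
  obtain ⟨s, hs, hsd⟩ := Nat.exists_prime_and_dvd (fun h => hm (orderOf_eq_one_iff.mp h))
  have hy : orderOf (m ^ (orderOf m / s)) = s := orderOf_pow_orderOf_div (orderOf_pos m).ne' hsd
  have hsa : a ≠ s := by rcases hmd s hs hsd with rfl | rfl <;> assumption
  have h2 : orderOf (v * m ^ (orderOf m / s)) = a * s := by
    rw [(hcomm.pow_right _).orderOf_mul_eq_mul_orderOf_of_coprime, hv, hy]
    rw [hv, hy]
    exact (Nat.coprime_primes ha hs).mpr hsa
  rcases hmd s hs hsd with rfl | rfl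
  exacts [eab _ h2, eac _ h2]

lemma isFPF_elementary [Finite G] {a : ℕ} (ha : a.Prime) {b c : ℕ} (hb : b.Prime) (hc : c.Prime)
    (hab : a ≠ b) (hac : a ≠ c) (eab : NoEdge G a b) (eac : NoEdge G a c)
    {A M : Subgroup G} (hA : Cfsg.IsElementaryAbelian a A)
    (hM : ∀ s : ℕ, s.Prime → s ∣ Nat.card M → s = b ∨ s = c) :
    ∀ m ∈ M, m ≠ 1 → A ⊓ Subgroup.centralizer ({m} : Set G) = ⊥ := by
  intro m hm hm1
  rw [Subgroup.eq_bot_iff_forall]
  rintro v ⟨hvA, hvC⟩
  by_contra hv1
  have : Fact a.Prime := ⟨ha⟩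
  refine false_of_commute ha hb hc hab hac eab eac (orderOf_eq_prime (hA.2 v hvA) hv1) hm1
    (fun s hs hsd => hM s hs (hsd.trans ?_)) ?_
  · rw [← Subgroup.orderOf_mk m hm]; exact orderOf_dvd_natCard _
  · exact (Subgroup.mem_centralizer_iff.mp hvC m rfl).symm

/-- The main case: the elementary abelian normal subgroup belongs to the prime `a`. -/
lemma false_of_minNormal [Finite G] [Group.IsSolvable G] {a b c : ℕ} (ha : a.Prime) (hb : b.Prime)
    (hc : c.Prime) (hab : a ≠ b) (hac : a ≠ c) (hbc : b ≠ c)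
    (eab : NoEdge G a b) (eac : NoEdge G a c) (ebc : NoEdge G b c)
    (hdb : b ∣ Nat.card G) (hdc : c ∣ Nat.card G)
    {A : Subgroup G} [A.Normal] (hA : Cfsg.IsElementaryAbelian a A) (hA1 : A ≠ ⊥) : False := by
  classical
  obtain ⟨M, hM⟩ := Cfsg.Agent.HallTheorem.exists_isPiHall_of_solvable (G := G) {b, c}
  have hMp : ∀ s : ℕ, s.Prime → s ∣ Nat.card M → s = b ∨ s = c := fun s hs hd => hM.1 s hs hd
  have hdM : ∀ s : ℕ, s.Prime → s ∈ ({b, c} : Set ℕ) → s ∣ Nat.card G → s ∣ Nat.card M := by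
    intro s hs hmem hd
    rw [← Subgroup.card_mul_index M] at hd
    exact (hs.dvd_mul.mp hd).resolve_right (hM.2 s hs hmem)
  have hbM := hdM b hb (Or.inl rfl) hdb
  have hcM := hdM c hc (Or.inr rfl) hdc
  have hfpf := isFPF_elementary ha hb hc hab hac eab eac hA hMp
  have hAn : ∀ L : Subgroup G, L ≤ Subgroup.normalizer (A : Set G) := fun L => by
    rw [Subgroup.normalizer_eq_top_iff.mpr inferInstance]; exact le_top
  have : Nontrivial M := Finite.one_lt_card_iff_nontrivial.mp
    (lt_of_lt_of_le hb.one_lt (Nat.le_of_dvd Nat.card_pos hbM))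
  obtain ⟨B, hB⟩ := exists_minNormal (G := M)
  have := hB.normal
  have : Group.IsSolvable B := inferInstance
  obtain ⟨e, he, hBel, hBp⟩ := hB.exists_prime
  have : Fact e.Prime := ⟨he⟩
  set B' : Subgroup G := B.map M.subtype with hB'
  have hB'M : B' ≤ M := Subgroup.map_subtype_le B
  have hBeq : Nat.card B' = Nat.card B :=
    (Nat.card_congr (B.equivMapOfInjective _ M.subtype_injective).toEquiv).symm
  have hBc : IsMulCommutative B' := by
    refine ⟨⟨?_⟩⟩
    rintro ⟨x, u, hu, rfl⟩ ⟨y, w, hw, rfl⟩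
    apply Subtype.ext
    have h := congrArg (fun z : B => ((z : M) : G)) (hBel.1.is_comm.comm ⟨u, hu⟩ ⟨w, hw⟩)
    simpa using h
  have hcyc : IsCyclic B' := FrobeniusFPF.isCyclic_of_fpf B' A hA.1 hA1 (hAn _)
    (fun m hm => hfpf m (hB'M hm)) (Or.inl hBc)
  have hBcard : Nat.card B = e := by
    obtain ⟨g, hg⟩ := hcyc.exists_generator
    have hge : (g : G) ^ e = 1 := by
      obtain ⟨u, hu, hug⟩ := g.2
      rw [← hug, ← map_pow, hBel.2 u hu, map_one]
    have h1 : Nat.card B' ∣ e := by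
      rw [← orderOf_eq_card_of_forall_mem_zpowers hg]
      exact orderOf_dvd_of_pow_eq_one (Subtype.ext (by simpa using hge))
    rw [hBeq] at h1
    rcases (Nat.dvd_prime he).mp h1 with h | h
    · exact absurd (B.card_eq_one.mp h) hB.ne_bot
    · exact h
  have he' : e = b ∨ e = c := hMp e he (hBcard ▸ Subgroup.card_subgroup_dvd_card B)
  obtain ⟨f, hf, hef, hfM, eef, hfcase⟩ : ∃ f : ℕ, f.Prime ∧ e ≠ f ∧ f ∣ Nat.card M ∧
      NoEdge G e f ∧ (f = b ∨ f = c) := by
    rcases he' with rfl | rfl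
    · exact ⟨c, hc, hbc, hcM, ebc, Or.inr rfl⟩
    · exact ⟨b, hb, hbc.symm, hbM, ebc.symm, Or.inl rfl⟩
  have : Fact f.Prime := ⟨hf⟩
  obtain ⟨y, hy⟩ := exists_prime_orderOf_dvd_card' f hfM
  set L : Subgroup M := Subgroup.zpowers y ⊔ B with hL
  have hLcard : Nat.card L = f * e := by
    rw [hL, HallTheorem.card_sup_of_coprime (by
      rw [hBcard, Nat.card_zpowers, hy]; exact (Nat.coprime_primes he hf).mpr hef),
      Nat.card_zpowers, hy, hBcard]
  set L' : Subgroup G := L.map M.subtype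
  have hLcyc : IsCyclic L' := FrobeniusFPF.isCyclic_of_fpf L' A hA.1 hA1 (hAn _)
    (fun m hm => hfpf m (Subgroup.map_subtype_le L hm)) (Or.inr ⟨f, e, hf, he, by
      rw [← hLcard]; exact (Nat.card_congr (L.equivMapOfInjective _ M.subtype_injective).toEquiv).symm⟩)
  obtain ⟨g, hg⟩ := hLcyc.exists_generator
  refine eef (g : G) ?_
  rw [Subgroup.orderOf_coe, orderOf_eq_card_of_forall_mem_zpowers hg,
    ← Nat.card_congr (L.equivMapOfInjective _ M.subtype_injective).toEquiv, hLcard, mul_comm]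

/-- A finite solvable group has no three pairwise non-adjacent primes. -/
theorem no_three_coclique [Finite G] [Group.IsSolvable G] {p q r : ℕ} (hp : p.Prime)
    (hq : q.Prime) (hr : r.Prime) (hpq : p ≠ q) (hpr : p ≠ r) (hqr : q ≠ r)
    (dp : p ∣ Nat.card G) (dq : q ∣ Nat.card G) (dr : r ∣ Nat.card G)
    (epq : NoEdge G p q) (epr : NoEdge G p r) (eqr : NoEdge G q r) : False := by
  classical
  obtain ⟨H, hH⟩ := Cfsg.Agent.HallTheorem.exists_isPiHall_of_solvable (G := G) {p, q, r}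
  have hd : ∀ s : ℕ, s.Prime → s ∈ ({p, q, r} : Set ℕ) → s ∣ Nat.card G → s ∣ Nat.card H := by
    intro s hs hmem hd
    rw [← Subgroup.card_mul_index H] at hd
    exact (hs.dvd_mul.mp hd).resolve_right (hH.2 s hs hmem)
  have dp' := hd p hp (Or.inl rfl) dp
  have dq' := hd q hq (Or.inr (Or.inl rfl)) dq
  have dr' := hd r hr (Or.inr (Or.inr rfl)) dr
  have : Nontrivial H := Finite.one_lt_card_iff_nontrivial.mp
    (lt_of_lt_of_le hp.one_lt (Nat.le_of_dvd Nat.card_pos dp'))
  obtain ⟨A, hA⟩ := exists_minNormal (G := H)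
  have := hA.normal
  obtain ⟨a, ha, hAel, hAp⟩ := hA.exists_prime
  have haH : a ∣ Nat.card H := by
    obtain ⟨x, hxA, hx1⟩ := A.bot_or_exists_ne_one.resolve_left hA.ne_bot
    have : Fact a.Prime := ⟨ha⟩
    rw [← orderOf_eq_prime (hAel.2 x hxA) hx1]
    exact orderOf_dvd_natCard x
  rcases hH.1 a ha haH with rfl | rfl | rfl
  · exact false_of_minNormal ha hq hr hpq hpr hqr (epq.subgroup H) (epr.subgroup H) (eqr.subgroup H) dq' dr' hAel hA.ne_bot
  · exact false_of_minNormal ha hp hr hpq.symm hqr hpr (epq.subgroup H).symm (eqr.subgroup H) (epr.subgroup H) dp' dr' hAel hA.ne_bot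
  · exact false_of_minNormal ha hp hq hpr.symm hqr.symm hpq (epr.subgroup H).symm (eqr.subgroup H).symm (epq.subgroup H) dp' dq' hAel hA.ne_bot

/-- Version inside a solvable subgroup. -/
theorem no_three_coclique_subgroup [Finite G] {L : Subgroup G} (hL : Group.IsSolvable L)
    {p q r : ℕ} (hp : p.Prime) (hq : q.Prime) (hr : r.Prime) (hpq : p ≠ q) (hpr : p ≠ r)
    (hqr : q ≠ r) (dp : p ∣ Nat.card L) (dq : q ∣ Nat.card L) (dr : r ∣ Nat.card L)
    (epq : NoEdge G p q) (epr : NoEdge G p r) (eqr : NoEdge G q r) : False :=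
  no_three_coclique hp hq hr hpq hpr hqr dp dq dr (epq.subgroup L) (epr.subgroup L) (eqr.subgroup L)

/-- Extension of a solvable subgroup by a normalising element. -/
theorem isSolvable_sup_zpowers [Finite G] {K : Subgroup G} (hK : Group.IsSolvable K) {y : G}
    (hy : y ∈ Subgroup.normalizer (K : Set G)) :
    Group.IsSolvable ↥(K ⊔ Subgroup.zpowers y) := by
  set L := K ⊔ Subgroup.zpowers y
  have hKL : K ≤ L := le_sup_left
  have hn : L ≤ Subgroup.normalizer (K : Set G) :=
    sup_le Subgroup.le_normalizer (Subgroup.zpowers_le.mpr hy)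
  have : (K.subgroupOf L).Normal := Subgroup.normal_subgroupOf_iff_le_normalizer hKL |>.mpr hn
  have hs : Group.IsSolvable (K.subgroupOf L) :=
    Group.isSolvable_of_isSolvable_injective (Subgroup.subgroupOfEquivOfLe hKL).injective
      (f := (Subgroup.subgroupOfEquivOfLe hKL).toMonoidHom)
  let π := QuotientGroup.mk' (K.subgroupOf L)
  let y' : L := ⟨y, (le_sup_right : Subgroup.zpowers y ≤ L) (Subgroup.mem_zpowers y)⟩
  have hgen : ∀ z : ↥L ⧸ K.subgroupOf L, z ∈ Subgroup.zpowers (π y') := by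
    intro z
    induction z using QuotientGroup.induction_on with
    | H w =>
      obtain ⟨w, hw⟩ := w
      have hw' : w ∈ ((K : Set G) * (Subgroup.zpowers y : Set G)) := by
        rw [← Subgroup.coe_mul_of_right_le_normalizer_left K _ (Subgroup.zpowers_le.mpr hy)]
        exact hw
      obtain ⟨k, hk, z, hz, rfl⟩ := hw'
      obtain ⟨i, rfl⟩ := Subgroup.mem_zpowers_iff.mp hz
      refine Subgroup.mem_zpowers_iff.mpr ⟨i, ?_⟩
      rw [← map_zpow]
      apply (QuotientGroup.eq).mpr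
      rw [Subgroup.mem_subgroupOf]
      have hnorm : y ^ i ∈ Subgroup.normalizer (K : Set G) := zpow_mem hy i
      have := (Subgroup.mem_normalizer_iff''.mp hnorm k).mp hk
      simpa [y', mul_assoc] using this
  have : IsCyclic (↥L ⧸ K.subgroupOf L) := ⟨⟨π y', hgen⟩⟩
  have hq : Group.IsSolvable (↥L ⧸ K.subgroupOf L) :=
    Group.isSolvable_of_comm fun a b => IsCyclic.commGroup.mul_comm a b
  exact Group.isSolvable_of_ker_le_range (K.subgroupOf L).subtype π (by simp [π])

end Cfsg.Agent.PrimeGraphSolvable
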