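import Mathlib
import Cfsg.Agent.Lib.CIT21Defs
import Cfsg.Agent.Lib.PrimeGraphSolvable
import Cfsg.Agent.Lib.PTranspAux70
import Cfsg.Agent.Lib.OddCoreOrth52
import Cfsg.Agent.Lib.HallCore

/-!
# Groups with `2`-group centralizers of involutions and a disconnected odd prime graph
-/

set_option autoImplicit false
set_option linter.unusedSectionVars false

namespace Cfsg.Agent.CITGraph39

open Subgroup Cfsg.Agent.PrimeGraphSolvable

variable {G : Type*} [Group G] [Finite G]

omit [Finite G] in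
/-- Some power of a nontrivial `2`-element is an involution. -/
theorem exists_involution_pow {s : G} (h : ∃ k : ℕ, s ^ 2 ^ k = 1) (hs : s ≠ 1) :
    ∃ i : ℕ, orderOf (s ^ i) = 2 := by
  obtain ⟨k, hk⟩ := h
  obtain ⟨j, hj, ej⟩ := (Nat.dvd_prime_pow Nat.prime_two).mp (orderOf_dvd_of_pow_eq_one hk)
  rcases Nat.eq_zero_or_pos j with rfl | hj0
  · exact absurd (orderOf_eq_one_iff.mp (by simpa using ej)) hs
  · refine ⟨2 ^ (j - 1), ?_⟩
    rw [orderOf_pow_of_dvd (pow_ne_zero _ two_ne_zero) (ej ▸ pow_dvd_pow 2 (Nat.sub_le j 1)), ej,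
      Nat.pow_div (Nat.sub_le j 1) two_pos, show j - (j - 1) = 1 by omega, pow_one]

/-- No element of odd prime order centralizes a nontrivial `2`-element. -/
theorem false_of_commute_two (H : CIT21.IsCIT G) {x s : G} {p : ℕ} (hp : p.Prime) (hp2 : p ≠ 2)
    (hx : orderOf x = p) (hs : ∃ k : ℕ, s ^ 2 ^ k = 1) (hs1 : s ≠ 1) (hc : Commute x s) : False := by
  obtain ⟨i, hi⟩ := exists_involution_pow hs hs1
  obtain ⟨k, hk⟩ := (IsPGroup.iff_orderOf.mp (H _ hi))
    ⟨x, mem_centralizer_singleton_iff.mpr (hc.pow_right i).eq⟩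
  rw [Subgroup.orderOf_mk, hx] at hk
  exact hp2 ((Nat.prime_dvd_prime_iff_eq hp Nat.prime_two).mp (hp.dvd_of_dvd_pow hk.dvd))

/-- An involution centralizes no nontrivial element of odd order. -/
theorem eq_one_of_odd (H : CIT21.IsCIT G) {t c : G} (ht : orderOf t = 2) (hodd : Odd (orderOf c))
    (hc : Commute c t) : c = 1 := by
  obtain ⟨k, hk⟩ := (IsPGroup.iff_orderOf.mp (H _ ht)) ⟨c, mem_centralizer_singleton_iff.mpr hc.eq⟩
  rw [Subgroup.orderOf_mk] at hk
  rcases Nat.eq_zero_or_pos k with rfl | hk0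
  · exact orderOf_eq_one_iff.mp (by simpa using hk)
  · rw [hk, Nat.odd_pow_iff hk0.ne'] at hodd
    exact absurd hodd (by decide)

/-- An element of odd prime order normalizing a `2`-subgroup `T` moves every further `2`-element of the
normalizer modulo `T`. -/
theorem false_of_coset (H : CIT21.IsCIT G) {T : Subgroup G} (hT : IsPGroup 2 T) {x y : G} {p : ℕ}
    (hp : p.Prime) (hp2 : p ≠ 2) (hx : orderOf x = p) (hxT : x ∈ normalizer (T : Set G))
    (hyT : y ∈ normalizer (T : Set G)) (hy2 : ∃ k : ℕ, y ^ 2 ^ k = 1) (hy : y ∉ T)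
    (hc : x * y * x⁻¹ * y⁻¹ ∈ T) : False := by
  haveI := Fact.mk hp
  haveI : Fact (Nat.Prime 2) := ⟨Nat.prime_two⟩
  let X := {s : G // s * y⁻¹ ∈ T}
  have hmem : ∀ s : X, x * (s : G) * x⁻¹ * y⁻¹ ∈ T := fun s => by
    rw [show x * (s : G) * x⁻¹ * y⁻¹ = (x * ((s : G) * y⁻¹) * x⁻¹) * (x * y * x⁻¹ * y⁻¹) by group]
    exact mul_mem ((mem_normalizer_iff.mp hxT _).mp s.2) hc
  let f : X → X := fun s => ⟨x * (s : G) * x⁻¹, hmem s⟩
  have hinj : Function.Injective f := fun a b e =>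
    Subtype.ext (mul_left_cancel (mul_right_cancel (congrArg Subtype.val e)))
  let σ : Equiv.Perm X := Equiv.ofBijective f (Finite.injective_iff_bijective.mp hinj)
  have hpow : ∀ (n : ℕ) (s : X), ((σ ^ n) s : G) = x ^ n * (s : G) * (x ^ n)⁻¹ := by
    intro n
    induction n with
    | zero => simp
    | succ n ih =>
      intro s
      rw [pow_succ', Equiv.Perm.mul_apply]
      show x * ((σ ^ n) s : G) * x⁻¹ = _
      rw [ih, pow_succ']
      group
  have hσ : σ ^ p = 1 := Equiv.ext fun s => Subtype.ext (by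
    rw [hpow, ← hx, pow_orderOf_eq_one]; simp)
  have hcard : Nat.card X = Nat.card ↥T := Nat.card_congr
    { toFun := fun s => ⟨(s : G) * y⁻¹, s.2⟩
      invFun := fun t => ⟨(t : G) * y, by simp [t.2]⟩
      left_inv := fun s => by simp
      right_inv := fun t => by simp }
  obtain ⟨a, ha⟩ := IsPGroup.iff_card.mp hT
  have hmod := PTransp70.card_modEq_fix σ hσ
  obtain ⟨⟨s, hs⟩⟩ : Nonempty {s : X // σ s = s} := by
    by_contra h
    haveI := not_nonempty_iff.mp h
    rw [Nat.card_of_isEmpty (α := {s : X // σ s = s}), hcard, ha] at hmod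
    exact hp2 ((Nat.prime_dvd_prime_iff_eq hp Nat.prime_two).mp
      (hp.dvd_of_dvd_pow (Nat.modEq_zero_iff_dvd.mp hmod)))
  have hcomm : Commute x (s : G) := mul_inv_eq_iff_eq_mul.mp (congrArg Subtype.val hs)
  have hs1 : (s : G) ≠ 1 := fun e => hy (by
    have := s.2; rw [e, one_mul] at this; exact inv_mem_iff.mp this)
  have hP : IsPGroup 2 ↥(zpowers y) := by
    obtain ⟨k, hk⟩ := hy2
    obtain ⟨j, -, ej⟩ := (Nat.dvd_prime_pow Nat.prime_two).mp (orderOf_dvd_of_pow_eq_one hk)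
    exact IsPGroup.of_card (n := j) (by rw [Nat.card_zpowers, ej])
  have hsP : (s : G) ∈ T ⊔ zpowers y := by
    rw [show (s : G) = (s : G) * y⁻¹ * y by group]
    exact mul_mem (mem_sup_left s.2) (mem_sup_right (mem_zpowers y))
  obtain ⟨k, hk⟩ := hT.to_sup_of_normal_left' hP (zpowers_le.mpr hyT) ⟨(s : G), hsP⟩
  exact false_of_commute_two H hp hp2 hx ⟨k, congrArg Subtype.val hk⟩ hs1 hcomm

/-- The quotient by a normal `2`-subgroup keeps the centralizer condition. -/
theorem quot_cit (H : CIT21.IsCIT G) {O : Subgroup G} [hn : O.Normal] (hO : IsPGroup 2 O) :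
    CIT21.IsCIT (G ⧸ O) := by
  haveI : Fact (Nat.Prime 2) := ⟨Nat.prime_two⟩
  intro t ht
  rw [IsPGroup.iff_orderOf]
  intro c
  by_contra hk
  push Not at hk
  obtain ⟨p, hp, hpd, hp2⟩ : ∃ p, p.Prime ∧ p ∣ orderOf c ∧ p ≠ 2 := by
    by_contra h
    push Not at h
    exact hk _ (Nat.eq_prime_pow_of_unique_prime_dvd (orderOf_pos c).ne' fun {d} hd hdd => h d hd hdd)
  set w := (c : G ⧸ O) ^ (orderOf (c : G ⧸ O) / p) with hw
  rw [← Subgroup.orderOf_coe] at hpd
  have hwp : orderOf w = p := orderOf_pow_orderOf_div (orderOf_pos _).ne' hpd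
  have hwt : Commute w t := (show Commute (c : G ⧸ O) t from mem_centralizer_singleton_iff.mp c.2).pow_left _
  obtain ⟨x0, hx0⟩ := QuotientGroup.mk'_surjective O w
  have hpx : p ∣ orderOf x0 := hwp ▸ hx0 ▸ orderOf_map_dvd (QuotientGroup.mk' O) x0
  set x := x0 ^ (orderOf x0 / p) with hx
  have hxp : orderOf x = p := orderOf_pow_orderOf_div (orderOf_pos _).ne' hpx
  obtain ⟨t0, ht0⟩ := QuotientGroup.mk'_surjective O t
  obtain ⟨a, b, hb, hab⟩ := Nat.exists_eq_two_pow_mul_odd (orderOf_pos t0).ne'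
  obtain ⟨b', rfl⟩ := hb
  set y := t0 ^ (2 * b' + 1) with hy
  have hyt : QuotientGroup.mk' O y = t := by
    rw [hy, map_pow, ht0, pow_succ, pow_mul, ← ht, pow_orderOf_eq_one, one_pow, one_mul]
  have hy2 : ∃ k : ℕ, y ^ 2 ^ k = 1 := ⟨a, by rw [hy, ← pow_mul, mul_comm, ← hab, pow_orderOf_eq_one]⟩
  refine false_of_coset H hO hp hp2 hxp (by simp [normalizer_eq_top]) (by simp [normalizer_eq_top])
    hy2 (fun h => ?_) ?_
  · have : t = 1 := by rw [← hyt]; exact (QuotientGroup.eq_one_iff y).mpr h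
    rw [this, orderOf_one] at ht
    omega
  · refine (QuotientGroup.eq_one_iff _).mp ?_
    show QuotientGroup.mk' O (x * y * x⁻¹ * y⁻¹) = 1
    rw [map_mul, map_mul, map_mul, map_inv, map_inv, hyt, hx, map_pow, hx0]
    rw [(hwt.pow_left _).eq]
    group

/-- An abelian normal subgroup of odd order is trivial when the odd primes are separated. -/
theorem no_odd_abelian (H : CIT21.IsCIT G) (h2 : 2 ∣ Nat.card G)
    (hsep : ∀ p : ℕ, p.Prime → p ≠ 2 → p ∣ Nat.card G →
      ∃ s : ℕ, s.Prime ∧ s ≠ 2 ∧ s ≠ p ∧ s ∣ Nat.card G ∧ NoEdge G p s)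
    {V : Subgroup G} [hV : V.Normal] (hodd : Odd (Nat.card ↥V))
    (hab : ∀ a ∈ V, ∀ b ∈ V, a * b = b * a) : V = ⊥ := by
  haveI : Fact (Nat.Prime 2) := ⟨Nat.prime_two⟩
  by_contra hne
  obtain ⟨p, hp, hpV⟩ := Nat.exists_prime_and_dvd
    (show Nat.card ↥V ≠ 1 from fun h => hne (Subgroup.eq_bot_of_card_eq V h))
  haveI := Fact.mk hp
  have hp2 : p ≠ 2 := by
    rintro rfl; exact (Nat.not_even_iff_odd.mpr hodd) (even_iff_two_dvd.mpr hpV)
  obtain ⟨v, hv⟩ := exists_prime_orderOf_dvd_card' p hpV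
  have hvp : orderOf (v : G) = p := by rw [Subgroup.orderOf_coe, hv]
  obtain ⟨t, ht⟩ := exists_prime_orderOf_dvd_card' 2 h2
  have oddOrd : ∀ (W : Subgroup G), Odd (Nat.card ↥W) → ∀ c ∈ W, Odd (orderOf c) := fun W hW c hc =>
    hW.of_dvd_nat (Subgroup.orderOf_dvd_natCard W hc)
  have hinv : ∀ (W : Subgroup G), Odd (Nat.card ↥W) → ∀ u : G, orderOf u = 2 →
      (∀ c ∈ W, u * c * u ∈ W) → ∀ c ∈ W, u * c * u = c⁻¹ := fun W hW u hu hWu c hc =>
    OddCoreOrth52.inverts_of_fpf u W (by rw [← pow_two, ← hu, pow_orderOf_eq_one]) hWu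
      (fun z hz e => eq_one_of_odd H hu (oddOrd W hW z hz) e.symm) hc
  have huu : ∀ u : G, orderOf u = 2 → u⁻¹ = u := fun u hu =>
    inv_eq_of_mul_eq_one_right (by rw [← pow_two, ← hu, pow_orderOf_eq_one])
  have hVinv : ∀ u : G, orderOf u = 2 → ∀ c ∈ V, u * c * u = c⁻¹ := fun u hu =>
    hinv V hodd u hu fun c hc => by
      have := hV.conj_mem c hc u
      rwa [huu u hu] at this
  set C := centralizer (V : Set G) with hC
  haveI : C.Normal := by rw [hC]; infer_instance
  have hmemC : ∀ g : G, (∀ c ∈ V, g * c * g⁻¹ = c) → g ∈ C := fun g hg =>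
    mem_centralizer_iff.mpr fun c hc => (mul_inv_eq_iff_eq_mul.mp (hg c hc)).symm
  have hCodd : Odd (Nat.card ↥C) := by
    rw [← Nat.not_even_iff_odd, even_iff_two_dvd]
    intro h
    obtain ⟨c, hc⟩ := exists_prime_orderOf_dvd_card' 2 h
    have h1 := eq_one_of_odd H (t := (c : G)) (by rw [Subgroup.orderOf_coe, hc]) (c := (v : G))
      (oddOrd V hodd _ v.2) (mem_centralizer_iff.mp c.2 _ v.2)
    rw [h1, orderOf_one] at hvp
    exact hp.ne_one hvp.symm
  obtain ⟨s, hs, hs2, hsp, hsG, hedge⟩ := hsep p hp hp2 (hpV.trans (Subgroup.card_subgroup_dvd_card V))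
  haveI := Fact.mk hs
  obtain ⟨x, hx⟩ := exists_prime_orderOf_dvd_card' s hsG
  have hxC : x ∈ C := by
    have htx : orderOf (x * t * x⁻¹) = 2 := by
      rw [← ht]; exact (MulAut.conj x).orderOf_eq t
    -- `t` and its conjugate act alike
    have hcomm : x * t * x⁻¹ * t ∈ C := hmemC _ fun c hc => by
      have e1 := hVinv t ht c hc
      have e2 := hVinv _ htx c⁻¹ (inv_mem hc)
      calc x * t * x⁻¹ * t * c * (x * t * x⁻¹ * t)⁻¹
          = (x * t * x⁻¹) * (t * c * t⁻¹) * (x * t * x⁻¹)⁻¹ := by group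
        _ = (x * t * x⁻¹) * c⁻¹ * (x * t * x⁻¹) := by rw [huu t ht, e1, huu _ htx]
        _ = c := by rw [e2, inv_inv]
    set M := C ⊔ zpowers x with hM
    have hcard : Odd (Nat.card ↥M) := by
      rw [hM, sup_comm]
      refine Odd.of_dvd_nat ?_ (HallCore.card_sup_dvd (zpowers x) C)
      rw [Nat.card_zpowers, hx]
      exact (hs.odd_of_ne_two hs2).mul hCodd
    have hMt : ∀ z ∈ M, t * z * t ∈ M := by
      have hle : M ≤ M.comap (MulAut.conj t).toMonoidHom := by
        refine sup_le (fun z hz => ?_) (zpowers_le.mpr ?_)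
        · exact mem_sup_left ((inferInstance : C.Normal).conj_mem z hz t)
        · show t * x * t⁻¹ ∈ M
          have e : t * x * t⁻¹ = (x * t * x⁻¹ * t)⁻¹ * x := by
            rw [huu t ht]
            calc t * x * t = t⁻¹ * x * t⁻¹ := by rw [huu t ht]
              _ = _ := by group
          rw [e]
          exact mul_mem (mem_sup_left (inv_mem hcomm)) (mem_sup_right (mem_zpowers x))
      intro z hz
      have := hle hz
      rw [mem_comap] at this
      simpa [MulAut.conj_apply, huu t ht] using this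
    have hi := hinv M hcard t ht hMt x (mem_sup_right (mem_zpowers x))
    have hx2 : x ^ 2 ∈ C := by
      have h := inv_mem hcomm
      rw [show (x * t * x⁻¹ * t)⁻¹ = t⁻¹ * x * t⁻¹ * x⁻¹ by group, huu t ht, hi, ← mul_inv_rev] at h
      rw [pow_two]
      exact inv_mem_iff.mp h
    obtain ⟨k, hk⟩ := hs.odd_of_ne_two hs2
    have : x = ((x ^ 2) ^ (k + 1)) := by
      rw [← pow_mul, show 2 * (k + 1) = s + 1 by omega, pow_succ, ← hx, pow_orderOf_eq_one, one_mul]
    rw [this]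
    exact pow_mem hx2 _
  have hcvx : Commute (v : G) x := mem_centralizer_iff.mp hxC _ v.2
  refine hedge ((v : G) * x) ?_
  rw [hcvx.orderOf_mul_eq_mul_orderOf_of_coprime, hvp, hx]
  rw [hvp, hx]
  exact (Nat.coprime_primes hp hs).mpr (Ne.symm hsp)

/-- There is a simple non-abelian normal subgroup. -/
theorem exists_simple_normal (H : CIT21.IsCIT G) (h2 : 2 ∣ Nat.card G)
    (hcore : Cfsg.pCore 2 G = ⊥)
    (hsep : ∀ p : ℕ, p.Prime → p ≠ 2 → p ∣ Nat.card G →
      ∃ s : ℕ, s.Prime ∧ s ≠ 2 ∧ s ≠ p ∧ s ∣ Nat.card G ∧ NoEdge G p s) :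
    ∃ N : Subgroup G, N.Normal ∧ IsSimpleGroup ↥N ∧ 2 ∣ Nat.card ↥N ∧ ∃ a b : ↥N, a * b ≠ b * a := by
  haveI : Fact (Nat.Prime 2) := ⟨Nat.prime_two⟩
  haveI : Nontrivial G := Finite.one_lt_card_iff_nontrivial.mp
    (lt_of_lt_of_le one_lt_two (Nat.le_of_dvd Nat.card_pos h2))
  obtain ⟨t, ht⟩ := exists_prime_orderOf_dvd_card' 2 h2
  have hti : t⁻¹ = t := inv_eq_of_mul_eq_one_right (by rw [← pow_two, ← ht, pow_orderOf_eq_one])
  obtain ⟨V, hVn, hVne, hVmin⟩ := HallSolvable.exists_minNormal (G := G)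
  haveI := hVn
  have hOdd : ∀ W : Subgroup G, W.Normal → Odd (Nat.card ↥W) → W = ⊥ := by
    intro W hW hodd
    haveI := hW
    refine no_odd_abelian H h2 hsep hodd fun a ha b hb => ?_
    have hi : ∀ c ∈ W, t * c * t = c⁻¹ := fun c hc =>
      OddCoreOrth52.inverts_of_fpf t W (by rw [← pow_two, ← ht, pow_orderOf_eq_one])
        (fun z hz => by have := hW.conj_mem z hz t; rwa [hti] at this)
        (fun z hz e => eq_one_of_odd H ht (hodd.of_dvd_nat (Subgroup.orderOf_dvd_natCard W hz)) e.symm)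
        hc
    have hab := hi _ (mul_mem ha hb)
    rw [show t * (a * b) * t = (t * a * t⁻¹) * (t * b * t) by group, hti, hi a ha, hi b hb,
      ← mul_inv_rev, inv_inj] at hab
    exact hab.symm
  have hV2 : ∀ K : Subgroup ↥V, K.Normal → IsPGroup 2 K → K = ⊥ := by
    intro K hK hKp
    haveI := HallCore.pCore_characteristic 2 ↥V
    have hle : (Cfsg.pCore 2 ↥V).map V.subtype ≤ Cfsg.pCore 2 G :=
      HallCore.le_pCore ((HallCore.isPGroup_pCore 2 _).map _)
    rw [hcore, le_bot_iff, Subgroup.map_eq_bot_iff_of_injective _ V.subtype_injective] at hle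
    exact le_bot_iff.mp (hle ▸ HallCore.le_pCore hKp)
  have hVeven : 2 ∣ Nat.card ↥V := by
    by_contra h
    exact hVne (hOdd V hVn (Nat.not_even_iff_odd.mp fun e => h (even_iff_two_dvd.mp e)))
  haveI : Nontrivial ↥V := (Subgroup.nontrivial_iff_ne_bot V).mpr hVne
  refine ⟨V, hVn, ?_, hVeven, ?_⟩
  · obtain ⟨W, hWn, hWne, hWmin⟩ := HallSolvable.exists_minNormal (G := ↥V)
    haveI := hWn
    by_cases hWtop : W = ⊤
    · exact ⟨fun K hK => (hWmin K hK (hWtop ▸ le_top)).imp id (·.trans hWtop)⟩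
    exfalso
    have hWeven : 2 ∣ Nat.card ↥W := by
      by_contra h
      have hle : W ≤ Cfsg.pPrimeCore 2 ↥V :=
        HallCore.le_pPrimeCore (Nat.Coprime.symm (Nat.prime_two.coprime_iff_not_dvd.mpr h))
      haveI := HallCore.pPrimeCore_characteristic 2 ↥V
      have hM := hOdd ((Cfsg.pPrimeCore 2 ↥V).map V.subtype) inferInstance (by
        rw [Subgroup.card_map_of_injective V.subtype_injective, ← Nat.not_even_iff_odd,
          even_iff_two_dvd]
        exact Nat.prime_two.coprime_iff_not_dvd.mp (HallCore.coprime_card_pPrimeCore 2 ↥V).symm)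
      rw [Subgroup.map_eq_bot_iff_of_injective _ V.subtype_injective] at hM
      exact hWne (le_bot_iff.mp (hM ▸ hle))
    obtain ⟨g, hg⟩ : ∃ g : G, W.map (MulAut.conjNormal g).toMonoidHom ≠ W := by
      by_contra h
      push Not at h
      haveI : (W.map V.subtype).Normal := ⟨fun c hc g => by
        obtain ⟨w, hw, rfl⟩ := hc
        exact ⟨MulAut.conjNormal g w, (h g).le (mem_map_of_mem _ hw), MulAut.conjNormal_apply g w⟩⟩
      rcases hVmin _ inferInstance (map_subtype_le W) with e | e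
      · exact hWne ((Subgroup.map_eq_bot_iff_of_injective _ V.subtype_injective).mp e)
      · exact hWtop (Subgroup.map_injective V.subtype_injective
          (e.trans (V.range_subtype.symm.trans (MonoidHom.range_eq_map _))))
    set W' := W.map (MulAut.conjNormal g).toMonoidHom with hW'
    haveI hW'n : W'.Normal := hWn.map _ (MulAut.conjNormal g).surjective
    obtain ⟨w, hw⟩ := exists_prime_orderOf_dvd_card' 2 hWeven
    have hinf : W ⊓ W' = ⊥ := by
      refine (hWmin _ inferInstance inf_le_left).resolve_right fun e => hg ?_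
      refine (Subgroup.eq_of_le_of_card_ge (e.ge.trans inf_le_right) ?_).symm
      rw [hW', Subgroup.card_map_of_injective (f := (MulAut.conjNormal (H := V) g).toMonoidHom) (MulAut.conjNormal (H := V) g).injective]
    have hp : IsPGroup 2 ↥W' := by
      rw [IsPGroup.iff_orderOf]
      intro c
      have hcomm : Commute (c : ↥V) (w : ↥V) := Subgroup.commute_of_normal_of_disjoint W' W hW'n hWn
        (disjoint_iff.mpr (by rw [inf_comm, hinf])) _ _ c.2 w.2
      obtain ⟨k, hk⟩ := IsPGroup.iff_orderOf.mp (H ((w : ↥V) : G) (by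
          rw [Subgroup.orderOf_coe, Subgroup.orderOf_coe, hw]))
        ⟨((c : ↥V) : G), mem_centralizer_singleton_iff.mpr (congrArg Subtype.val hcomm.eq)⟩
      rw [Subgroup.orderOf_mk, Subgroup.orderOf_coe, Subgroup.orderOf_coe] at hk
      exact ⟨k, hk⟩
    have hb := hV2 W' hW'n hp
    rw [hW', Subgroup.map_eq_bot_iff_of_injective W (f := (MulAut.conjNormal (H := V) g).toMonoidHom) (MulAut.conjNormal (H := V) g).injective] at hb
    exact hWne hb
  · by_contra hcomm
    push Not at hcomm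
    letI : CommGroup ↥V := { (inferInstance : Group ↥V) with mul_comm := hcomm }
    obtain ⟨w, hw⟩ := exists_prime_orderOf_dvd_card' 2 hVeven
    have h := hV2 (zpowers w) inferInstance (IsPGroup.of_card (n := 1) (by rw [Nat.card_zpowers, hw, pow_one]))
    rw [zpowers_eq_bot] at h
    rw [h, orderOf_one] at hw
    omega

section Normal

variable (H : CIT21.IsCIT G) {N : Subgroup G} [hN : N.Normal] (hNs : IsSimpleGroup ↥N)
  (hna : ∃ a b : ↥N, a * b ≠ b * a) (h2N : 2 ∣ Nat.card ↥N) (P : Sylow 2 ↥N)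
include H hNs hna h2N

/-- The normalizer of a Sylow `2`-subgroup of `N` covers the quotient. -/
theorem dvd_normalizer {r : ℕ} (hr : r.Prime) (hrG : r ∣ Nat.card G) (hrN : ¬ r ∣ Nat.card ↥N) :
    ∃ x ∈ normalizer (((P : Subgroup ↥N).map N.subtype : Subgroup G) : Set G), orderOf x = r := by
  haveI := Fact.mk hr
  haveI : Fact (Nat.Prime 2) := ⟨Nat.prime_two⟩
  have htop := Sylow.normalizer_sup_eq_top P
  have hdvd := HallCore.card_sup_dvd (normalizer (((P : Subgroup ↥N).map N.subtype : Subgroup G) : Set G)) N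
  rw [htop, Subgroup.card_top] at hdvd
  obtain ⟨x, hx⟩ := exists_prime_orderOf_dvd_card' r
    ((hr.dvd_mul.mp (hrG.trans hdvd)).resolve_right hrN)
  exact ⟨x, x.2, by rw [Subgroup.orderOf_coe, hx]⟩

/-- An odd prime outside `N` divides `2 ^ j - 1` for the rank `j` of the centre of a Sylow `2`-subgroup. -/
theorem outer_prime {r : ℕ} (hr : r.Prime) (hr2 : r ≠ 2) (hrG : r ∣ Nat.card G)
    (hrN : ¬ r ∣ Nat.card ↥N) :
    ∃ j : ℕ, 0 < j ∧ 2 ^ j ∣ Nat.card ↥(P : Subgroup ↥N) ∧ r ∣ 2 ^ j - 1 ∧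
      (2 ^ j = Nat.card ↥(P : Subgroup ↥N) →
        ∀ z ∈ (P : Subgroup ↥N), z * z = 1) := by
  haveI := Fact.mk hr
  haveI : Fact (Nat.Prime 2) := ⟨Nat.prime_two⟩
  obtain ⟨x, hxT, hx⟩ := dvd_normalizer H hNs hna h2N P hr hrG hrN
  set T := (P : Subgroup ↥N).map N.subtype with hT
  have hTc : Nat.card ↥T = Nat.card ↥(P : Subgroup ↥N) :=
    Subgroup.card_map_of_injective N.subtype_injective
  have hTp : IsPGroup 2 ↥T := P.isPGroup'.map _
  let Z : Subgroup G :=
    { carrier := {z | z ∈ T ∧ z * z = 1 ∧ ∀ u ∈ T, u * z = z * u}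
      one_mem' := ⟨one_mem _, one_mul 1, fun u _ => by simp⟩
      mul_mem' := fun {a b} ⟨ha, ha2, hac⟩ ⟨hb, hb2, hbc⟩ => ⟨mul_mem ha hb, by
          rw [show a * b * (a * b) = a * (b * a) * b by group, hac b hb,
            show a * (a * b) * b = (a * a) * (b * b) by group, ha2, hb2, one_mul],
        fun u hu => by rw [← mul_assoc, hac u hu, mul_assoc, hbc u hu, mul_assoc]⟩
      inv_mem' := fun {a} ⟨ha, ha2, hac⟩ => by
        rw [inv_eq_of_mul_eq_one_right ha2]; exact ⟨ha, ha2, hac⟩ }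
  have hZT : Z ≤ T := fun z hz => hz.1
  obtain ⟨j, hj⟩ := IsPGroup.iff_card.mp (hTp.to_le hZT)
  have hj0 : 0 < j := by
    rcases Nat.eq_zero_or_pos j with rfl | h
    swap
    · exact h
    exfalso
    haveI : Nontrivial ↥T := by
      rw [← Finite.one_lt_card_iff_nontrivial, hTc]
      refine lt_of_lt_of_le one_lt_two (Nat.le_of_dvd Nat.card_pos ?_)
      exact P.dvd_card_of_dvd_card h2N
    haveI := hTp.center_nontrivial
    obtain ⟨z, hz⟩ := exists_prime_orderOf_dvd_card' 2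
      (show 2 ∣ Nat.card ↥(Subgroup.center ↥T) by
        obtain ⟨i, hi⟩ := IsPGroup.iff_card.mp (hTp.to_subgroup (Subgroup.center ↥T))
        rw [hi]
        refine dvd_pow_self 2 ?_
        rintro rfl
        exact absurd hi (Finite.one_lt_card (α := ↥(Subgroup.center ↥T))).ne')
    have hmem : ((z : ↥T) : G) ∈ Z := ⟨(z : ↥T).2, by
        have h := pow_orderOf_eq_one z
        rw [hz, pow_two] at h
        exact congrArg (fun u : ↥(Subgroup.center ↥T) => ((u : ↥T) : G)) h,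
      fun u hu => congrArg Subtype.val (mem_center_iff.mp z.2 ⟨u, hu⟩)⟩
    rw [pow_zero] at hj
    rw [Subgroup.eq_bot_of_card_eq Z hj, mem_bot] at hmem
    have : z = 1 := Subtype.ext (Subtype.ext hmem)
    rw [this, orderOf_one] at hz
    omega
  have hdvd : 2 ^ j ∣ Nat.card ↥(P : Subgroup ↥N) := hTc ▸ hj ▸ Subgroup.card_dvd_of_le hZT
  refine ⟨j, hj0, hdvd, ?_, fun he z hz => ?_⟩
  · have hmem : ∀ z ∈ Z, x * z * x⁻¹ ∈ Z := by
      rintro z ⟨hz, hz2, hzc⟩
      refine ⟨(mem_normalizer_iff.mp hxT z).mp hz, ?_, fun u hu => ?_⟩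
      · rw [show x * z * x⁻¹ * (x * z * x⁻¹) = x * (z * z) * x⁻¹ by group, hz2, mul_one, mul_inv_cancel]
      · have hu' : x⁻¹ * u * x ∈ T := by
          rw [mem_normalizer_iff.mp hxT]; simpa [mul_assoc] using hu
        calc u * (x * z * x⁻¹) = x * (x⁻¹ * u * x * z) * x⁻¹ := by group
          _ = x * (z * (x⁻¹ * u * x)) * x⁻¹ := by rw [hzc _ hu']
          _ = x * z * x⁻¹ * u := by group
    let X := {z : ↥Z // z ≠ 1}
    let f : X → X := fun z => ⟨⟨x * ((z : ↥Z) : G) * x⁻¹, hmem _ (z : ↥Z).2⟩, fun e => z.2 (Subtype.ext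
      (mul_left_cancel (a := x) (mul_right_cancel (b := x⁻¹) (by
        have e' : x * ((z : ↥Z) : G) * x⁻¹ = 1 := congrArg Subtype.val e
        rw [e']; simp))))⟩
    have hinj : Function.Injective f := fun a b e => Subtype.ext (Subtype.ext
      (mul_left_cancel (mul_right_cancel (congrArg (fun u : X => ((u : ↥Z) : G)) e))))
    let σ : Equiv.Perm X := Equiv.ofBijective f (Finite.injective_iff_bijective.mp hinj)
    have hpow : ∀ (n : ℕ) (s : X), (((σ ^ n) s : ↥Z) : G) = x ^ n * ((s : ↥Z) : G) * (x ^ n)⁻¹ := by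
      intro n
      induction n with
      | zero => simp
      | succ n ih =>
        intro s
        rw [pow_succ', Equiv.Perm.mul_apply]
        show x * (((σ ^ n) s : ↥Z) : G) * x⁻¹ = _
        rw [ih, pow_succ']
        group
    have hσ : σ ^ r = 1 := Equiv.ext fun s => Subtype.ext (Subtype.ext (by
      rw [hpow, ← hx, pow_orderOf_eq_one]; simp))
    have hfix : IsEmpty {s : X // σ s = s} := ⟨fun ⟨s, hs⟩ => by
      have hc : Commute x ((s : ↥Z) : G) :=
        mul_inv_eq_iff_eq_mul.mp (congrArg (fun u : X => ((u : ↥Z) : G)) hs)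
      refine false_of_commute_two H hr hr2 hx ⟨1, ?_⟩ (fun e => s.2 (Subtype.ext e)) hc
      rw [pow_one, pow_two]; exact (s : ↥Z).2.2.1⟩
    have hmod := PTransp70.card_modEq_fix σ hσ
    rw [Nat.card_of_isEmpty (α := {s : X // σ s = s})] at hmod
    have hX : Nat.card X = 2 ^ j - 1 := by
      rw [← hj, show Nat.card X = ({1}ᶜ : Set ↥Z).ncard from Nat.card_coe_set_eq ({1}ᶜ : Set ↥Z),
        Set.ncard_compl, Set.ncard_singleton]
    rw [hX] at hmod
    exact Nat.modEq_zero_iff_dvd.mp hmod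
  · have e : Z = T := Subgroup.eq_of_le_of_card_ge hZT (by rw [hTc, hj, he])
    have hz' : (z : G) ∈ Z := e ▸ mem_map_of_mem _ hz
    exact Subtype.ext hz'.2.1

/-- With an elementary Sylow `2`-subgroup the involutions are fused in its normalizer. -/
theorem elem_trans (hel : ∀ z ∈ (P : Subgroup ↥N), z * z = 1) {t u : ↥N} (ht : t ∈ (P : Subgroup ↥N))
    (hu : u ∈ (P : Subgroup ↥N)) (ht1 : t ≠ 1) (hu1 : u ≠ 1) :
    ∃ n ∈ normalizer ((P : Subgroup ↥N) : Set ↥N), n * t * n⁻¹ = u := by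
  haveI : Fact (Nat.Prime 2) := ⟨Nat.prime_two⟩
  have hcent : ∀ z ∈ (P : Subgroup ↥N), z ≠ 1 → centralizer ({z} : Set ↥N) = (P : Subgroup ↥N) := by
    intro z hz hz1
    refine P.is_maximal' ?_ fun w hw => mem_centralizer_singleton_iff.mpr ?_
    · refine IsPGroup.iff_orderOf.mpr fun c => ?_
      obtain ⟨k, hk⟩ := IsPGroup.iff_orderOf.mp
        (H (z : G) (by rw [Subgroup.orderOf_coe]; exact orderOf_eq_prime (by rw [pow_two, hel z hz]) hz1))
        ⟨((c : ↥N) : G), mem_centralizer_singleton_iff.mpr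
          (congrArg Subtype.val (mem_centralizer_singleton_iff.mp c.2))⟩
      rw [Subgroup.orderOf_mk, Subgroup.orderOf_coe, Subgroup.orderOf_coe] at hk
      exact ⟨k, hk⟩
    · have h := hel _ (mul_mem hw hz)
      calc w * z = w * z * 1 := (mul_one _).symm
        _ = w * z * ((z * w) * (w * z))⁻¹ := by
            rw [show z * w * (w * z) = z * (w * w) * z by group]; simp only [hel w hw, mul_one, hel z hz, inv_one]
        _ = (z * w)⁻¹ := by group
        _ = z * w := inv_eq_of_mul_eq_one_right (hel _ (mul_mem hz hw))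
  have hconj : ∃ n : ↥N, n * t * n⁻¹ = u := by
    by_contra hno
    push Not at hno
    have hinT : ∀ g : ↥N, g * t * g⁻¹ ∈ (P : Subgroup ↥N) := by
      intro g
      obtain ⟨t', ht'⟩ : ∃ t', t' = g * t * g⁻¹ := ⟨_, rfl⟩
      rw [← ht']
      have ht2 : t' * t' = 1 := by
        rw [ht', show g * t * g⁻¹ * (g * t * g⁻¹) = g * (t * t) * g⁻¹ by group, hel t ht, mul_one,
          mul_inv_cancel]
      have hu2 := hel u hu
      have hti : t'⁻¹ = t' := inv_eq_of_mul_eq_one_right ht2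
      have hui : u⁻¹ = u := inv_eq_of_mul_eq_one_right hu2
      obtain ⟨a, ha⟩ : ∃ a, a = t' * u := ⟨_, rfl⟩
      have hta : t' * a * t' = a⁻¹ := by
        rw [ha, mul_inv_rev, hti, hui, ← mul_assoc, ht2, one_mul]
      have htak : ∀ k : ℕ, t' * a ^ k * t' = (a ^ k)⁻¹ := fun k => by
        have := conj_pow (a := t') (b := a) (i := k)
        rw [hti, hta, inv_pow] at this
        exact this.symm
      rcases Nat.even_or_odd (orderOf a) with ⟨k, hk⟩ | ⟨k, hk⟩
      · obtain ⟨w, hw⟩ : ∃ w, w = a ^ k := ⟨_, rfl⟩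
        have hk0 : 0 < k := by have := orderOf_pos a; omega
        have hw1 : w ≠ 1 := hw ▸ pow_ne_one_of_lt_orderOf hk0.ne' (by omega)
        have hw2 : w⁻¹ = w := inv_eq_of_mul_eq_one_right (by
          rw [hw, ← pow_add, ← hk, pow_orderOf_eq_one])
        have hwt : Commute w t' := by
          have h := htak k
          rw [← hw, hw2] at h
          show w * t' = t' * w
          conv_lhs => rw [← h]
          rw [mul_assoc, ht2, mul_one]
        have hwu : Commute w u := by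
          have e : u = t' * a := by rw [ha, ← mul_assoc, ht2, one_mul]
          rw [e]
          exact hwt.mul_right (hw ▸ (Commute.refl a).pow_left k)
        have hwT : w ∈ (P : Subgroup ↥N) := hcent u hu hu1 ▸ mem_centralizer_singleton_iff.mpr hwu.eq
        exact hcent w hwT hw1 ▸ mem_centralizer_singleton_iff.mpr hwt.eq.symm
      · refine absurd ?_ (hno (a ^ k * g))
        have h := htak k
        have h' : a ^ k * t' = t' * (a ^ k)⁻¹ := by
          rw [← h, ← mul_assoc, ← mul_assoc, ht2, one_mul]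
        calc a ^ k * g * t * (a ^ k * g)⁻¹ = a ^ k * t' * (a ^ k)⁻¹ := by rw [ht']; group
          _ = t' * ((a ^ k)⁻¹ * (a ^ k)⁻¹) := by rw [h', mul_assoc]
          _ = t' * (a ^ (2 * k))⁻¹ := by rw [← mul_inv_rev, ← pow_add, two_mul]
          _ = t' * a := by
              congr 1
              refine inv_eq_of_mul_eq_one_right ?_
              rw [← pow_succ, ← hk, pow_orderOf_eq_one]
          _ = u := by rw [ha, ← mul_assoc, ht2, one_mul]
    have hle : Subgroup.normalClosure ({t} : Set ↥N) ≤ (P : Subgroup ↥N) := by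
      refine (closure_le _).mpr fun w hw => ?_
      obtain ⟨_, rfl, hc⟩ := Group.mem_conjugatesOfSet_iff.mp hw
      obtain ⟨g, rfl⟩ := isConj_iff.mp hc
      exact hinT g
    haveI := hNs
    rcases Subgroup.Normal.eq_bot_or_eq_top (H := Subgroup.normalClosure ({t} : Set ↥N)) inferInstance
      with h | h
    · exact ht1 ((Subgroup.eq_bot_iff_forall _).mp h t (subset_normalClosure rfl))
    · obtain ⟨a, b, hab⟩ := hna
      have hm : ∀ z : ↥N, z * z = 1 := fun z => hel z (hle (h ▸ mem_top z))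
      refine hab ?_
      rw [← mul_one (a * b), ← hm (b * a), show a * b * (b * a * (b * a)) = a * (b * b) * a * (b * a) by group,
        hm, mul_one, hm, one_mul]
  obtain ⟨n, hn⟩ := hconj
  refine ⟨n, mem_normalizer_iff.mpr fun z => ?_, hn⟩
  have e1 : z ∈ (P : Subgroup ↥N) ↔ Commute z t := by
    rw [← hcent t ht ht1, mem_centralizer_singleton_iff]; rfl
  have e2 : n * z * n⁻¹ ∈ (P : Subgroup ↥N) ↔ Commute (n * z * n⁻¹) u := by
    rw [← hcent u hu hu1, mem_centralizer_singleton_iff]; rfl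
  show z ∈ (P : Subgroup ↥N) ↔ n * z * n⁻¹ ∈ (P : Subgroup ↥N)
  rw [e1, e2, ← hn, Commute.conj_iff]

/-- The count of involutions of an elementary Sylow `2`-subgroup divides the order. -/
theorem elem_count (hel : ∀ z ∈ (P : Subgroup ↥N), z * z = 1) :
    Nat.card ↥(P : Subgroup ↥N) - 1 ∣ Nat.card ↥N := by
  set M := normalizer ((P : Subgroup ↥N) : Set ↥N) with hM
  have hne : (P : Subgroup ↥N) ≠ ⊥ := fun h => by
    haveI : Fact (Nat.Prime 2) := ⟨Nat.prime_two⟩
    have h' := P.dvd_card_of_dvd_card h2N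
    simp [h] at h'
  obtain ⟨⟨t, ht⟩, ht0⟩ := Subgroup.ne_bot_iff_exists_ne_one.mp hne
  have ht1 : t ≠ 1 := fun e => ht0 (Subtype.ext e)
  let X := {z : ↥(P : Subgroup ↥N) // z ≠ 1}
  have hX : Nat.card X = Nat.card ↥(P : Subgroup ↥N) - 1 := by
    rw [show Nat.card X = ({1}ᶜ : Set ↥(P : Subgroup ↥N)).ncard from Nat.card_coe_set_eq _,
      Set.ncard_compl, Set.ncard_singleton]
  let φ : ↥M → ↥N := fun n => (n : ↥N) * t * (n : ↥N)⁻¹
  let S := M ⊓ centralizer ({t} : Set ↥N)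
  have hidx : Nat.card ↥M = Nat.card X * Nat.card ↥(S.subgroupOf M) := by
    let f : ↥M ⧸ S.subgroupOf M → X := fun q => Quotient.liftOn' q
      (fun n => ⟨⟨φ n, (mem_normalizer_iff.mp n.2 t).mp ht⟩, fun e => ht1 (by
        have e' : φ n = 1 := congrArg Subtype.val e
        exact conj_eq_one_iff.mp e')⟩)
      (fun a b hab => by
        rw [QuotientGroup.leftRel_apply, mem_subgroupOf, mem_inf, mem_centralizer_singleton_iff] at hab
        refine Subtype.ext (Subtype.ext ?_)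
        show (a : ↥N) * t * (a : ↥N)⁻¹ = (b : ↥N) * t * (b : ↥N)⁻¹
        have h := hab.2
        simp only [Subgroup.coe_mul, Subgroup.coe_inv] at h
        calc (a : ↥N) * t * (a : ↥N)⁻¹
            = a * (t * ((a : ↥N)⁻¹ * b)) * (b : ↥N)⁻¹ := by group
          _ = a * ((a : ↥N)⁻¹ * b * t) * (b : ↥N)⁻¹ := by rw [h]
          _ = b * t * (b : ↥N)⁻¹ := by group)
    have hf : Function.Bijective f := by
      refine ⟨fun q q' => ?_, fun z => ?_⟩
      · induction q using QuotientGroup.induction_on with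
        | _ a =>
          induction q' using QuotientGroup.induction_on with
          | _ b =>
            intro e
            have e' : (a : ↥N) * t * (a : ↥N)⁻¹ = (b : ↥N) * t * (b : ↥N)⁻¹ :=
              congrArg (fun z : X => ((z : ↥(P : Subgroup ↥N)) : ↥N)) e
            refine QuotientGroup.eq.mpr ?_
            rw [mem_subgroupOf, mem_inf, mem_centralizer_singleton_iff]
            refine ⟨(a⁻¹ * b).2, ?_⟩
            simp only [Subgroup.coe_mul, Subgroup.coe_inv]
            calc (a : ↥N)⁻¹ * b * t = (a : ↥N)⁻¹ * (b * t * (b : ↥N)⁻¹) * b := by group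
              _ = t * ((a : ↥N)⁻¹ * b) := by rw [← e']; group
      · obtain ⟨n, hn, e⟩ := elem_trans H hNs hna h2N P hel ht (z : ↥(P : Subgroup ↥N)).2 ht1
          (fun e => z.2 (Subtype.ext e))
        exact ⟨QuotientGroup.mk ⟨n, hn⟩, Subtype.ext (Subtype.ext e)⟩
    rw [Subgroup.card_eq_card_quotient_mul_card_subgroup (S.subgroupOf M),
      Nat.card_congr (Equiv.ofBijective f hf)]
  rw [← hX]
  exact (hidx ▸ dvd_mul_right _ _).trans (Subgroup.card_subgroup_dvd_card M)

/-- Nothing lies outside when the Sylow `2`-subgroup is elementary of order at least eight. -/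
theorem no_outer (hel : ∀ z ∈ (P : Subgroup ↥N), z * z = 1)
    (h8 : 8 ≤ Nat.card ↥(P : Subgroup ↥N)) : N = ⊤ := by
  haveI : Fact (Nat.Prime 2) := ⟨Nat.prime_two⟩
  set T := (P : Subgroup ↥N).map N.subtype with hT
  have hTc : Nat.card ↥T = Nat.card ↥(P : Subgroup ↥N) :=
    Subgroup.card_map_of_injective N.subtype_injective
  have hTp : IsPGroup 2 ↥T := P.isPGroup'.map _
  have hTN : T ≤ N := map_subtype_le _
  have hT2 : ∀ z ∈ T, z * z = 1 := by
    rintro _ ⟨z, hz, rfl⟩; exact congrArg Subtype.val (hel z hz)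
  have htrans : ∀ {a b : G}, a ∈ T → b ∈ T → a ≠ 1 → b ≠ 1 →
      ∃ n ∈ normalizer (T : Set G), n ∈ N ∧ n * a * n⁻¹ = b := by
    rintro _ _ ⟨a, ha, rfl⟩ ⟨b, hb, rfl⟩ ha1 hb1
    obtain ⟨n, hn, e⟩ := elem_trans H hNs hna h2N P hel ha hb (fun e => ha1 (by rw [e]; rfl))
      (fun e => hb1 (by rw [e]; rfl))
    refine ⟨(n : G), Subgroup.le_normalizer_map N.subtype (mem_map_of_mem _ hn), n.2,
      congrArg Subtype.val e⟩
  rw [eq_top_iff, ← Sylow.normalizer_sup_eq_top P]
  refine sup_le (fun h hh => ?_) le_rfl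
  have hTne : T ≠ ⊥ := by
    intro e; rw [e, Subgroup.card_bot] at hTc; omega
  obtain ⟨⟨t, ht⟩, ht1⟩ := Subgroup.ne_bot_iff_exists_ne_one.mp hTne
  have ht1' : t ≠ 1 := fun e => ht1 (Subtype.ext e)
  have hto : orderOf t = 2 := orderOf_eq_prime (by rw [pow_two, hT2 t ht]) ht1'
  have hcom : ∀ a ∈ T, ∀ b ∈ T, Commute a b := fun a ha b hb => by
    show a * b = b * a
    have e1 := hT2 _ (mul_mem ha hb)
    rw [← mul_one (b * a), ← e1, show b * a * (a * b * (a * b)) = b * (a * a) * b * (a * b) by group,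
      hT2 a ha, mul_one, hT2 b hb, one_mul]
  obtain ⟨n, hnT, hnN, hn⟩ := htrans ht ((mem_normalizer_iff.mp hh t).mp ht) ht1'
    (fun e => ht1' (conj_eq_one_iff.mp e))
  suffices key : ∀ y ∈ normalizer (T : Set G), Commute y t → y ∈ N by
    have hy : n⁻¹ * h ∈ N := key _ (mul_mem (inv_mem hnT) hh) (by
      show n⁻¹ * h * t = t * (n⁻¹ * h)
      calc n⁻¹ * h * t = n⁻¹ * (h * t * h⁻¹) * h := by group
        _ = t * (n⁻¹ * h) := by rw [← hn]; group)
    simpa using mul_mem hnN hy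
  set Q := normalizer (T : Set G) ⊓ centralizer ({t} : Set G) with hQ
  have hQp : IsPGroup 2 ↥Q := (H t hto).to_le inf_le_right
  have hQN : ∀ q ∈ Q, q ∈ N → q ∈ T := by
    intro q hq hqN
    have hle : (P : Subgroup ↥N) ≤ Q.subgroupOf N := fun z hz => by
      have hzT : (z : G) ∈ T := mem_map_of_mem _ hz
      exact mem_subgroupOf.mpr ⟨le_normalizer hzT, mem_centralizer_singleton_iff.mpr (hcom _ hzT t ht).eq⟩
    have hp : IsPGroup 2 ↥(Q.subgroupOf N) :=
      hQp.of_injective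
        ((N.subtype.comp (Q.subgroupOf N).subtype).codRestrict Q fun z => mem_subgroupOf.mp z.2)
        (fun a b e => Subtype.ext (Subtype.ext (congrArg (fun z : ↥Q => (z : G)) e)))
    exact ⟨⟨q, hqN⟩, (P.is_maximal' hp hle).le (mem_subgroupOf.mpr hq), rfl⟩
  intro y hyT hyt
  by_contra hyN
  have hyQ : y ∈ Q := ⟨hyT, mem_centralizer_singleton_iff.mpr hyt.eq⟩
  -- a power outside `T` with square in `T`
  obtain ⟨k, hk⟩ := hQp ⟨y, hyQ⟩
  have hk' : y ^ 2 ^ k = 1 := congrArg Subtype.val hk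
  classical
  have hex : ∃ i : ℕ, y ^ 2 ^ i ∈ T := ⟨k, hk' ▸ one_mem _⟩
  obtain ⟨i, hi⟩ : ∃ i, Nat.find hex = i + 1 :=
    Nat.exists_eq_succ_of_ne_zero fun e => hyN (hTN (by simpa [e] using Nat.find_spec hex))
  set z := y ^ 2 ^ i with hz
  have hzT : z ∉ T := Nat.find_min hex (by omega)
  have hz2 : z * z ∈ T := by
    have := Nat.find_spec hex
    rw [hi, pow_succ, pow_mul, ← hz, pow_two] at this
    exact this
  have hzQ : z ∈ Q := pow_mem hyQ _
  have hz2' : ∃ k : ℕ, z ^ 2 ^ k = 1 := ⟨k, by rw [hz, ← pow_mul, mul_comm, pow_mul, hk', one_pow]⟩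
  have hzN : z ∈ normalizer (T : Set G) := (mem_inf.mp hzQ).1
  have hfix : ∀ u ∈ T, Commute z u → u ≠ 1 → u = t := by
    intro u hu hzu hu1
    obtain ⟨n, hnT, hnN, hn⟩ := htrans ht hu ht1' hu1
    have hnzn : n⁻¹ * z * n ∈ Q := by
      refine mem_inf.mpr ⟨mul_mem (mul_mem (inv_mem hnT) hzN) hnT, mem_centralizer_singleton_iff.mpr ?_⟩
      calc n⁻¹ * z * n * t = n⁻¹ * (z * (n * t * n⁻¹)) * n := by group
        _ = n⁻¹ * ((n * t * n⁻¹) * z) * n := by rw [hn, hzu.eq]
        _ = t * (n⁻¹ * z * n) := by group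
    have hc : z⁻¹ * (n⁻¹ * z * n) ∈ T := hQN _ (mul_mem (inv_mem hzQ) hnzn) (by
      rw [show z⁻¹ * (n⁻¹ * z * n) = (z⁻¹ * n⁻¹ * z⁻¹⁻¹) * n by group]
      exact mul_mem (hN.conj_mem _ (inv_mem hnN) _) hnN)
    have hcT : n * z * n⁻¹ * z⁻¹ ∈ T := by
      have h := inv_mem ((mem_normalizer_iff.mp (mul_mem hnT hzN) _).mp hc)
      rwa [show (n * z * (z⁻¹ * (n⁻¹ * z * n)) * (n * z)⁻¹)⁻¹ = n * z * n⁻¹ * z⁻¹ by group] at h
    have hpows : ∀ m : ℕ, n ^ m * z * (n ^ m)⁻¹ * z⁻¹ ∈ T := by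
      intro m
      induction m with
      | zero => simp
      | succ m ih =>
        rw [show n ^ (m + 1) * z * (n ^ (m + 1))⁻¹ * z⁻¹ =
          n * (n ^ m * z * (n ^ m)⁻¹ * z⁻¹) * n⁻¹ * (n * z * n⁻¹ * z⁻¹) by rw [pow_succ']; group]
        exact mul_mem ((mem_normalizer_iff.mp hnT _).mp ih) hcT
    by_cases h2 : ∃ a : ℕ, n ^ 2 ^ a = 1
    · obtain ⟨a, ha⟩ := h2
      obtain ⟨b, -, hb⟩ := (Nat.dvd_prime_pow Nat.prime_two).mp (orderOf_dvd_of_pow_eq_one ha)
      have hzp : IsPGroup 2 ↥(zpowers n) := IsPGroup.of_card (n := b) (by rw [Nat.card_zpowers, hb])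
      have hX : IsPGroup 2 ↥(T ⊔ zpowers n) := hTp.to_sup_of_normal_left' hzp (zpowers_le.mpr hnT)
      have hXN : T ⊔ zpowers n ≤ N := sup_le hTN (zpowers_le.mpr hnN)
      have hle : (P : Subgroup ↥N) ≤ (T ⊔ zpowers n).subgroupOf N := fun w hw =>
        mem_subgroupOf.mpr (mem_sup_left (mem_map_of_mem _ hw))
      have hn' : (⟨n, hnN⟩ : ↥N) ∈ (P : Subgroup ↥N) :=
        (P.is_maximal' (hX.of_equiv (subgroupOfEquivOfLe hXN).symm) hle).le
          (mem_subgroupOf.mpr (mem_sup_right (mem_zpowers n)))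
      have hnT' : n ∈ T := ⟨⟨n, hnN⟩, hn', rfl⟩
      rw [← hn, (hcom n hnT' t ht).eq, mul_inv_cancel_right]
    · push Not at h2
      obtain ⟨p, hp, hpd, hp2⟩ : ∃ p, p.Prime ∧ p ∣ orderOf n ∧ p ≠ 2 := by
        by_contra hc'
        push Not at hc'
        exact h2 (orderOf n).primeFactorsList.length (orderOf_dvd_iff_pow_eq_one.mp (dvd_of_eq
          (Nat.eq_prime_pow_of_unique_prime_dvd (orderOf_pos n).ne' fun {d} hd hdd => hc' d hd hdd)))
      exact (false_of_coset H hTp hp hp2 (orderOf_pow_orderOf_div (orderOf_pos n).ne' hpd)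
        (pow_mem hnT _) hzN hz2' hzT (hpows _)).elim
  -- counting fixed points
  let f : ↥T →* ↥T := MonoidHom.mk'
    (fun u => ⟨(u : G) * (z * u * z⁻¹), mul_mem u.2 ((mem_normalizer_iff.mp hzN _).mp u.2)⟩)
    (fun u v => Subtype.ext (by
      show (u : G) * v * (z * ((u : G) * v) * z⁻¹) = (u : G) * (z * u * z⁻¹) * ((v : G) * (z * v * z⁻¹))
      rw [show (u : G) * v * (z * ((u : G) * v) * z⁻¹) =
        (u : G) * ((v : G) * (z * u * z⁻¹)) * (z * v * z⁻¹) by group,
        (hcom _ v.2 _ ((mem_normalizer_iff.mp hzN _).mp u.2)).eq]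
      group))
  have hker : ∀ u : ↥T, u ∈ f.ker → (u : G) = 1 ∨ (u : G) = t := by
    intro u hu
    by_cases h : (u : G) = 1
    · exact Or.inl h
    refine Or.inr (hfix u u.2 ?_ h)
    have e : (u : G) * (z * u * z⁻¹) = 1 := congrArg Subtype.val (MonoidHom.mem_ker.mp hu)
    have e' := inv_eq_of_mul_eq_one_right e
    rw [inv_eq_of_mul_eq_one_right (hT2 _ u.2)] at e'
    exact mul_inv_eq_iff_eq_mul.mp e'.symm
  have hran : ∀ v : ↥T, v ∈ f.range → (v : G) = 1 ∨ (v : G) = t := by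
    rintro v ⟨u, rfl⟩
    by_cases h : ((f u : ↥T) : G) = 1
    · exact Or.inl h
    refine Or.inr (hfix _ (f u).2 ?_ h)
    refine mul_inv_eq_iff_eq_mul.mp ?_
    show z * ((u : G) * (z * u * z⁻¹)) * z⁻¹ = (u : G) * (z * u * z⁻¹)
    rw [show z * ((u : G) * (z * u * z⁻¹)) * z⁻¹ = (z * u * z⁻¹) * ((z * z) * u * (z * z)⁻¹) by group,
      (hcom _ hz2 _ u.2).eq, mul_inv_cancel_right,
      (hcom _ ((mem_normalizer_iff.mp hzN _).mp u.2) _ u.2).eq]
  have hle2 : ∀ K : Subgroup ↥T, (∀ u ∈ K, (u : G) = 1 ∨ (u : G) = t) → Nat.card ↥K ≤ 2 := by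
    intro K hK
    refine (Nat.card_le_card_of_injective (fun u : ↥K => decide (((u : ↥T) : G) = t)) ?_).trans_eq (by simp)
    intro a b e
    simp only [decide_eq_decide] at e
    refine Subtype.ext (Subtype.ext ?_)
    rcases hK a a.2 with ha | ha <;> rcases hK b b.2 with hb | hb
    · rw [ha, hb]
    · exact absurd ((e.mpr hb).symm.trans ha) ht1'
    · exact absurd ((e.mp ha).symm.trans hb) ht1'
    · rw [ha, hb]
  have hmul := Subgroup.card_eq_card_quotient_mul_card_subgroup f.ker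
  rw [Nat.card_congr (QuotientGroup.quotientKerEquivRange f).toEquiv] at hmul
  have := Nat.mul_le_mul (hle2 _ hran) (hle2 _ hker)
  omega

end Normal

/-- A prime outside a normal subgroup with a Sylow subgroup of prime order `s` gives an edge. -/
theorem edge_of_outer {N : Subgroup G} [hN : N.Normal] {w s : ℕ} (hw : w.Prime) (hs : s.Prime)
    (hsN : s ∣ Nat.card ↥N) (hs2 : ¬ s ^ 2 ∣ Nat.card ↥N) (hwN : ¬ w ∣ Nat.card ↥N)
    (hws : ¬ w ∣ s - 1) (hwG : w ∣ Nat.card G) : ∃ x : G, orderOf x = w * s := by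
  haveI := Fact.mk hw
  haveI := Fact.mk hs
  obtain ⟨P⟩ : Nonempty (Sylow s ↥N) := inferInstance
  set T := (P : Subgroup ↥N).map N.subtype with hT
  have htop : normalizer (T : Set G) ⊔ N = ⊤ := Sylow.normalizer_sup_eq_top P
  have hdvd := HallCore.card_sup_dvd (normalizer (T : Set G)) N
  rw [htop, Subgroup.card_top] at hdvd
  obtain ⟨x, hx⟩ := exists_prime_orderOf_dvd_card' w
    ((hw.dvd_mul.mp (hwG.trans hdvd)).resolve_right hwN)
  have hxP := x.2
  have hxo : orderOf (x : G) = w := by rw [Subgroup.orderOf_coe, hx]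
  have hTc : Nat.card ↥T = s := by
    rw [hT, Subgroup.card_map_of_injective N.subtype_injective]
    obtain ⟨i, hi⟩ := IsPGroup.iff_card.mp P.isPGroup'
    rcases i with - | - | i
    · exact absurd (P.dvd_card_of_dvd_card hsN) (by rw [hi, pow_zero]; exact hs.not_dvd_one)
    · rw [hi, pow_one]
    · exact absurd ((pow_dvd_pow s (by omega)).trans (hi ▸ Subgroup.card_subgroup_dvd_card _)) hs2
  obtain ⟨g, hg⟩ := exists_prime_orderOf_dvd_card' (G := ↥T) s (by rw [hTc])
  have hgo : orderOf (g : G) = s := by rw [Subgroup.orderOf_coe, hg]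
  have hgen : ∀ z ∈ T, ∃ i : ℕ, z = (g : G) ^ i := by
    intro z hz
    obtain ⟨i, hi⟩ := (Subgroup.mem_zpowers_iff (g := g)).mp
      ((Subgroup.eq_top_of_card_eq (zpowers g) (by rw [Nat.card_zpowers, hg, hTc])).ge (mem_top ⟨z, hz⟩))
    refine ⟨(i % (s : ℤ)).toNat, ?_⟩
    have e : (g : G) ^ i = z := congrArg Subtype.val hi
    rw [← e, ← zpow_natCast, Int.toNat_of_nonneg (Int.emod_nonneg _ (by exact_mod_cast hs.ne_zero)),
      ← hgo, zpow_mod_orderOf]
  obtain ⟨i, hi⟩ := hgen _ ((mem_normalizer_iff.mp hxP (g : G)).mp g.2)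
  have hit : ∀ m : ℕ, (x : G) ^ m * g * ((x : G) ^ m)⁻¹ = (g : G) ^ i ^ m := by
    intro m
    induction m with
    | zero => simp
    | succ m ih =>
      rw [show (x : G) ^ (m + 1) * g * ((x : G) ^ (m + 1))⁻¹ =
        (x : G) * ((x : G) ^ m * g * ((x : G) ^ m)⁻¹) * (x : G)⁻¹ by rw [pow_succ']; group, ih,
        ← conj_pow, hi, ← pow_mul, pow_succ']
  have hw' := hit w
  rw [← hxo, pow_orderOf_eq_one, one_mul, inv_one, mul_one, hxo] at hw'
  have h1 : (i : ZMod s) ^ w = 1 := by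
    conv_lhs at hw' => rw [← pow_one (g : G)]
    rw [pow_eq_pow_iff_modEq, hgo, ← ZMod.natCast_eq_natCast_iff] at hw'
    simpa using hw'.symm
  have hi0 : (i : ZMod s) ≠ 0 := fun e => by
    rw [e, zero_pow hw.ne_zero] at h1; exact zero_ne_one h1
  have h2 : (i : ZMod s) = 1 := by
    rcases (Nat.dvd_prime hw).mp (orderOf_dvd_of_pow_eq_one h1) with h | h
    · exact orderOf_eq_one_iff.mp h
    · exact absurd (h ▸ ZMod.orderOf_dvd_card_sub_one hi0) hws
  have hcomm : Commute (x : G) g := by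
    refine mul_inv_eq_iff_eq_mul.mp ?_
    rw [hi]
    conv_rhs => rw [← pow_one (g : G)]
    rw [pow_eq_pow_iff_modEq, hgo, ← ZMod.natCast_eq_natCast_iff]
    simpa using h2
  refine ⟨(x : G) * g, ?_⟩
  rw [hcomm.orderOf_mul_eq_mul_orderOf_of_coprime, hxo, hgo]
  rw [hxo, hgo]
  refine (Nat.coprime_primes hw hs).mpr ?_
  rintro rfl
  exact hwN hsN

end Cfsg.Agent.CITGraph39
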