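import Mathlib

/-!
# Primes with a given order of two
-/

set_option autoImplicit false

namespace Cfsg.Agent.CyclotomicPrime39

open Polynomial

theorem three_mul_lt {a : ℕ} (ha : 4 ≤ a) : 3 * a + 1 < 2 ^ a := by
  induction a, ha using Nat.le_induction with
  | base => norm_num
  | succ a ha ih => have := pow_succ (2 : ℕ) a; omega

/-- For `N ≥ 7` some prime has two of multiplicative order `N`. -/
theorem exists_primitive {N : ℕ} (hN : 7 ≤ N) :
    ∃ r : ℕ, r.Prime ∧ r ∣ 2 ^ N - 1 ∧ orderOf (2 : ZMod r) = N := by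
  by_contra hno
  push Not at hno
  set Φ : ℕ := ((cyclotomic N ℤ).eval (2 : ℤ)).natAbs with hΦ
  have hΦ1 : 1 < Φ := by
    have h := sub_one_pow_totient_lt_natAbs_cyclotomic_eval (n := N) (q := 2) (by omega) (by norm_num)
    rwa [show (2 - 1 : ℕ) = 1 from rfl, one_pow, Nat.cast_ofNat] at h
  have hdvd : Φ ∣ 2 ^ N - 1 := by
    have h : (cyclotomic N ℤ).eval (2 : ℤ) ∣ (2 : ℤ) ^ N - 1 := by
      have h0 := eval_dvd (x := (2 : ℤ)) (cyclotomic.dvd_X_pow_sub_one N ℤ)
      simpa using h0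
    have := Int.natAbs_dvd_natAbs.mpr h
    rwa [show (2 : ℤ) ^ N - 1 = ((2 ^ N - 1 : ℕ) : ℤ) by
      rw [Nat.cast_sub Nat.one_le_two_pow]; norm_num, Int.natAbs_natCast] at this
  -- every prime divisor of `Φ` is the largest prime of `N`
  have hp : ∀ r : ℕ, r.Prime → r ∣ Φ → r ≠ 2 ∧ r ∣ N ∧
      ∀ j k : ℕ, N = r ^ k * j → ¬ r ∣ j → j ∣ r - 1 ∧ (2 : ZMod r) ^ j = 1 := by
    intro r hr hrΦ
    haveI := Fact.mk hr
    have hr2 : r ≠ 2 := by
      rintro rfl
      have h := hrΦ.trans hdvd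
      have : 2 ∣ 2 ^ N := dvd_pow_self 2 (by omega)
      have := Nat.dvd_sub this h
      rw [Nat.sub_sub_self Nat.one_le_two_pow] at this
      omega
    have h2 : (2 : ZMod r) ≠ 0 := by
      intro h
      have h' : ((2 : ℕ) : ZMod r) = 0 := by exact_mod_cast h
      rw [ZMod.natCast_eq_zero_iff] at h'
      exact hr2 ((Nat.prime_dvd_prime_iff_eq hr Nat.prime_two).mp h')
    have hroot : (cyclotomic N (ZMod r)).IsRoot (2 : ZMod r) := by
      have h0 : (((cyclotomic N ℤ).eval (2 : ℤ) : ℤ) : ZMod r) = 0 := by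
        rw [ZMod.intCast_zmod_eq_zero_iff_dvd]
        exact Int.natCast_dvd.mpr hrΦ
      have h1 := eval_intCast_map (Int.castRingHom (ZMod r)) (cyclotomic N ℤ) (2 : ℤ)
      rw [map_cyclotomic] at h1
      simp only [eq_intCast, Int.cast_ofNat] at h1
      rw [h0] at h1
      exact h1
    have hrN : r ∣ N := by
      by_contra hrN
      haveI : NeZero ((N : ℕ) : ZMod r) := ⟨fun h => hrN ((ZMod.natCast_eq_zero_iff N r).mp h)⟩
      exact hno r hr (hrΦ.trans hdvd) (isRoot_cyclotomic_iff.mp hroot).eq_orderOf.symm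
    refine ⟨hr2, hrN, fun j k hjk hrj => ?_⟩
    haveI : NeZero ((j : ℕ) : ZMod r) := ⟨fun h => hrj ((ZMod.natCast_eq_zero_iff j r).mp h)⟩
    rw [hjk, isRoot_cyclotomic_prime_pow_mul_iff_of_charP] at hroot
    refine ⟨?_, hroot.pow_eq_one⟩
    rw [hroot.eq_orderOf]
    exact ZMod.orderOf_dvd_card_sub_one h2
  obtain ⟨p, hpp, hpΦ⟩ := Nat.exists_prime_and_dvd hΦ1.ne'
  haveI := Fact.mk hpp
  obtain ⟨hp2, hpN, hpj⟩ := hp p hpp hpΦ
  obtain ⟨k, j, hpj', hN'⟩ := Nat.exists_eq_pow_mul_and_not_dvd (show N ≠ 0 by omega) p hpp.ne_one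
  obtain ⟨hjp, hj1⟩ := hpj j k hN' hpj'
  have hk : k ≠ 0 := by
    rintro rfl
    rw [pow_zero, one_mul] at hN'
    exact hpj' (hN' ▸ hpN)
  have hle : ∀ r : ℕ, r.Prime → r ∣ N → r ≤ p := by
    intro r hr hrN
    rw [hN'] at hrN
    rcases hr.dvd_mul.mp hrN with h | h
    · exact ((Nat.prime_dvd_prime_iff_eq hr hpp).mp (hr.dvd_of_dvd_pow h)).le
    · exact (Nat.le_of_dvd (by have := hpp.two_le; omega) (h.trans hjp)).trans (Nat.sub_le p 1)
  have huniq : ∀ r : ℕ, r.Prime → r ∣ Φ → r = p := by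
    intro r hr hrΦ
    obtain ⟨-, hrN, hrj⟩ := hp r hr hrΦ
    obtain ⟨k', j', hpj'', hN''⟩ :=
      Nat.exists_eq_pow_mul_and_not_dvd (show N ≠ 0 by omega) r hr.ne_one
    refine le_antisymm (hle r hr hrN) ?_
    rcases hpp.dvd_mul.mp (hN'' ▸ hpN) with h | h
    · exact ((Nat.prime_dvd_prime_iff_eq hpp hr).mp (hpp.dvd_of_dvd_pow h)).le
    · exact (Nat.le_of_dvd (by have := hr.two_le; omega) (h.trans (hrj j' k' hN'' hpj'').1)).trans
        (Nat.sub_le r 1)
  -- `p ^ 2` does not divide `Φ`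
  obtain ⟨n, hn⟩ : p ∣ N := hpN
  have hnlt : n ∈ N.properDivisors := by
    rw [Nat.mem_properDivisors]
    refine ⟨⟨p, by rw [hn, mul_comm]⟩, ?_⟩
    have := hpp.two_le
    nlinarith
  have hsq : ¬ p ^ 2 ∣ Φ := by
    intro h
    have h0 := eval_dvd (x := (2 : ℤ))
      (X_pow_sub_one_mul_cyclotomic_dvd_X_pow_sub_one_of_dvd ℤ hnlt)
    simp only [eval_mul, eval_sub, eval_pow, eval_X, eval_one] at h0
    rw [hn, mul_comm p n, pow_mul] at h0
    rw [show ((2 : ℤ) ^ n) ^ p - 1 = (∑ i ∈ Finset.range p, ((2 : ℤ) ^ n) ^ i) * ((2 : ℤ) ^ n - 1)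
      from (geom_sum_mul _ p).symm, mul_comm ((2 : ℤ) ^ n - 1)] at h0
    have hx : ((2 : ℤ) ^ n - 1) ≠ 0 := by
      have : (1 : ℤ) < (2 : ℤ) ^ n := one_lt_pow₀ (by norm_num) (by rintro rfl; simp at hn; omega)
      omega
    have h1 := (mul_dvd_mul_iff_right hx).mp h0
    rw [show n * p = N by rw [hn, mul_comm]] at h1
    have hb : (p : ℤ) ∣ (2 : ℤ) ^ n - 1 := by
      rw [← ZMod.intCast_zmod_eq_zero_iff_dvd]
      push_cast
      have hjn : j ∣ n := by
        refine (Nat.Coprime.dvd_mul_left (hpp.coprime_iff_not_dvd.mpr hpj').symm).mp ?_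
        rw [← hn, hN']; exact dvd_mul_left j _
      obtain ⟨c, rfl⟩ := hjn
      rw [pow_mul, hj1, one_pow, sub_self]
    obtain ⟨b, hb⟩ := hb
    have hpodd : Odd p := hpp.odd_of_ne_two hp2
    have h2 := odd_sq_dvd_geom_sum₂_sub (a := (1 : ℤ)) (b := b) hpodd
    rw [← hb, add_sub_cancel] at h2
    simp only [one_pow, mul_one] at h2
    have h3 : ((p ^ 2 : ℕ) : ℤ) ∣ (cyclotomic N ℤ).eval (2 : ℤ) := Int.natCast_dvd.mpr h
    push_cast at h3
    have h4 := Int.dvd_sub (h3.trans h1) h2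
    rw [sub_sub_cancel] at h4
    have h5 : (p ^ 2 : ℕ) ∣ p := Int.natCast_dvd_natCast.mp (by push_cast; exact h4)
    have := Nat.le_of_dvd hpp.pos h5
    nlinarith [hpp.two_le]
  have hΦp : Φ = p := by
    have h := Nat.eq_prime_pow_of_unique_prime_dvd (p := p) (show Φ ≠ 0 by omega)
      (fun {r} hr hd => huniq r hr hd)
    rcases e : Φ.primeFactorsList.length with - | - | e'
    · rw [e] at h; simp at h; omega
    · rw [e] at h; simpa using h
    · exact absurd (h ▸ pow_dvd_pow p (show 2 ≤ Φ.primeFactorsList.length by omega)) hsq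
  -- but `Φ` is larger
  have hreal : (Φ : ℝ) = (cyclotomic N ℝ).eval 2 := by
    have h1 := eval_intCast_map (Int.castRingHom ℝ) (cyclotomic N ℤ) (2 : ℤ)
    rw [map_cyclotomic] at h1
    simp only [eq_intCast, Int.cast_ofNat] at h1
    have hpos : 0 < (cyclotomic N ℝ).eval 2 := cyclotomic_pos' N (by norm_num)
    rw [h1] at hpos ⊢
    have hpos' : 0 ≤ (cyclotomic N ℤ).eval (2 : ℤ) := by exact_mod_cast hpos.le
    rw [hΦ]
    conv_rhs => rw [← Int.natAbs_of_nonneg hpos']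
    simp
  have hp3 : 3 ≤ p := by have := hpp.two_le; omega
  have hn0 : 0 < n := by
    rcases Nat.eq_zero_or_pos n with rfl | h
    · simp at hn; omega
    · exact h
  have hlow : (((2 : ℕ) ^ p - 1 : ℕ) : ℝ) ^ n.totient ≤ (cyclotomic n ℝ).eval ((2 : ℝ) ^ p) := by
    rw [Nat.cast_sub Nat.one_le_two_pow]
    push_cast
    exact sub_one_pow_totient_le_cyclotomic_eval (one_lt_pow₀ (by norm_num) (by omega)) n
  have hexp : ∀ Q : ℝ[X], (expand ℝ p Q).eval 2 = Q.eval ((2 : ℝ) ^ p) := fun Q => expand_eval p Q 2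
  have hbig : p * 3 < 2 ^ p - 1 ∨ p = 3 := by
    rcases eq_or_ne p 3 with h | h
    · exact Or.inr h
    refine Or.inl ?_
    have h4 : 4 ≤ p := by omega
    have := three_mul_lt h4
    omega
  have htot : 1 ≤ n.totient := Nat.totient_pos.mpr hn0
  have hbase : (1 : ℝ) ≤ (((2 : ℕ) ^ p - 1 : ℕ) : ℝ) := by
    have : 1 ≤ 2 ^ p - 1 := by
      have : 2 ^ 1 ≤ 2 ^ p := Nat.pow_le_pow_right (by norm_num) (by omega)
      omega
    exact_mod_cast this
  by_cases hdn : p ∣ n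
  · have h := cyclotomic_expand_eq_cyclotomic hpp hdn ℝ
    rw [show n * p = N by rw [hn, mul_comm]] at h
    rw [← h, hexp] at hreal
    have h2 : ((2 ^ p - 1 : ℕ) : ℝ) ≤ (Φ : ℝ) := by
      rw [hreal]; exact (le_self_pow₀ hbase (by omega)).trans hlow
    rw [hΦp] at h2
    have h3 : 2 ^ p - 1 ≤ p := by exact_mod_cast h2
    have : p + 1 < 2 ^ p := by
      rcases eq_or_ne p 3 with rfl | hp4
      · norm_num
      · have := three_mul_lt (show 4 ≤ p by omega); omega
    omega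
  · rcases hbig with hbig | rfl
    · have h := cyclotomic_expand_eq_cyclotomic_mul hpp hdn ℝ
      rw [show n * p = N by rw [hn, mul_comm]] at h
      have h' := hexp (cyclotomic n ℝ)
      rw [h, eval_mul, ← hreal, hΦp] at h'
      have hup : (cyclotomic n ℝ).eval 2 ≤ 3 ^ n.totient :=
        (cyclotomic_eval_le_add_one_pow_totient (by norm_num) n).trans (by norm_num)
      have h3 : (((2 : ℕ) ^ p - 1 : ℕ) : ℝ) ^ n.totient ≤ (p : ℝ) * 3 ^ n.totient := by
        refine hlow.trans ?_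
        rw [← h']
        exact mul_le_mul_of_nonneg_left hup (by positivity)
      have h4 : (2 ^ p - 1) ^ n.totient ≤ p * 3 ^ n.totient := by exact_mod_cast h3
      have h5 : (p * 3) ^ n.totient < (2 ^ p - 1) ^ n.totient := Nat.pow_lt_pow_left hbig (by omega)
      have h6 : p * 3 ^ n.totient ≤ (p * 3) ^ n.totient := by
        rw [mul_pow]; exact Nat.mul_le_mul_right _ (Nat.le_self_pow (by omega) p)
      omega
    · obtain ⟨h, -⟩ := hpj n 1 (by rw [hn, pow_one]) hdn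
      have := Nat.le_of_dvd (by norm_num) h
      omega

end Cfsg.Agent.CyclotomicPrime39
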