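import Mathlib
import Cfsg.Agent.Lib.PSL2Proj52

set_option autoImplicit false

/-! A solvable group with the element orders of `PSL(2,q) × PSL(2,q)`. -/

namespace Cfsg.Agent.DirectSquarePSL2

open Matrix

lemma range_orderOf_of {G : Type*} [Group G] (l : List ℕ) (h1 : ∀ g : G, ∃ m ∈ l, g ^ m = 1)
    (h2 : ∀ m ∈ l, ∃ g : G, orderOf g = m) (h0 : ∀ m ∈ l, m ≠ 0) :
    Set.range (orderOf : G → ℕ) = {n | ∃ m ∈ l, n ∣ m} := by
  ext n
  constructor
  · rintro ⟨g, rfl⟩
    obtain ⟨m, hm, hg⟩ := h1 g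
    exact ⟨m, hm, orderOf_dvd_of_pow_eq_one hg⟩
  · rintro ⟨m, hm, hn⟩
    obtain ⟨g, hg⟩ := h2 m hm
    refine ⟨g ^ (orderOf g / n), orderOf_pow_orderOf_div ?_ (hg ▸ hn)⟩
    rw [hg]; exact h0 m hm

lemma lcm_exists {n a b : ℕ} (hab : Nat.Coprime a b) (h : n ∣ a * b) :
    ∃ x y, x ∣ a ∧ y ∣ b ∧ Nat.lcm x y = n := by
  obtain ⟨x, y, hx, hy, hxy⟩ := Nat.dvd_mul.mp h
  exact ⟨x, y, hx, hy, by rw [((hab.coprime_dvd_left hx).coprime_dvd_right hy).lcm_eq_mul, hxy]⟩

lemma range_prod {G G' : Type*} [Monoid G] [Monoid G'] {S T : Set ℕ}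
    (hS : Set.range (orderOf : G → ℕ) = S) (hT : Set.range (orderOf : G' → ℕ) = T) :
    Set.range (orderOf : G × G' → ℕ) = {n | ∃ x ∈ S, ∃ y ∈ T, Nat.lcm x y = n} := by
  ext n
  constructor
  · rintro ⟨g, rfl⟩
    exact ⟨_, hS ▸ ⟨g.1, rfl⟩, _, hT ▸ ⟨g.2, rfl⟩, (Prod.orderOf g).symm⟩
  · rintro ⟨x, hx, y, hy, rfl⟩
    rw [← hS] at hx; rw [← hT] at hy
    obtain ⟨g, rfl⟩ := hx
    obtain ⟨g', rfl⟩ := hy
    exact ⟨(g, g'), Prod.orderOf (g, g')⟩

theorem sets_eq {p a b : ℕ} (hpa : Nat.Coprime p a) (hpb : Nat.Coprime p b) (hab : Nat.Coprime a b) :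
    {n | ∃ x ∈ {n | ∃ m ∈ [p, a], n ∣ m}, ∃ y ∈ {n | ∃ m ∈ [p, b], n ∣ m}, Nat.lcm x y = n} =
    {n | ∃ x ∈ {n | ∃ m ∈ [p, a, b], n ∣ m}, ∃ y ∈ {n | ∃ m ∈ [p, a, b], n ∣ m}, Nat.lcm x y = n} := by
  ext n
  simp only [Set.mem_setOf_eq, List.mem_cons, List.not_mem_nil, or_false]
  constructor
  · rintro ⟨x, ⟨m, hm, hx⟩, y, ⟨m', hm', hy⟩, h⟩
    exact ⟨x, ⟨m, hm.imp_right Or.inl, hx⟩, y, ⟨m', hm'.imp_right Or.inr, hy⟩, h⟩
  · rintro ⟨x, ⟨m, hm, hx⟩, y, ⟨m', hm', hy⟩, rfl⟩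
    have key : Nat.lcm x y ∣ p * a ∨ Nat.lcm x y ∣ p * b ∨ Nat.lcm x y ∣ a * b := by
      rcases hm with rfl | rfl | rfl <;> rcases hm' with rfl | rfl | rfl <;>
        first
        | exact Or.inl (Nat.lcm_dvd (hx.trans (dvd_mul_right _ _)) (hy.trans (dvd_mul_right _ _)))
        | exact Or.inl (Nat.lcm_dvd (hx.trans (dvd_mul_right _ _)) (hy.trans (dvd_mul_left _ _)))
        | exact Or.inl (Nat.lcm_dvd (hx.trans (dvd_mul_left _ _)) (hy.trans (dvd_mul_right _ _)))
        | exact Or.inl (Nat.lcm_dvd (hx.trans (dvd_mul_left _ _)) (hy.trans (dvd_mul_left _ _)))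
        | exact Or.inr (Or.inl (Nat.lcm_dvd (hx.trans (dvd_mul_right _ _)) (hy.trans (dvd_mul_left _ _))))
        | exact Or.inr (Or.inl (Nat.lcm_dvd (hx.trans (dvd_mul_left _ _)) (hy.trans (dvd_mul_right _ _))))
        | exact Or.inr (Or.inl (Nat.lcm_dvd (hx.trans (dvd_mul_left _ _)) (hy.trans (dvd_mul_left _ _))))
        | exact Or.inr (Or.inr (Nat.lcm_dvd (hx.trans (dvd_mul_right _ _)) (hy.trans (dvd_mul_left _ _))))
        | exact Or.inr (Or.inr (Nat.lcm_dvd (hx.trans (dvd_mul_left _ _)) (hy.trans (dvd_mul_right _ _))))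
    rcases key with h | h | h
    · obtain ⟨u, v, hu, hv, he⟩ := lcm_exists hpa h
      exact ⟨v, ⟨a, Or.inr rfl, hv⟩, u, ⟨p, Or.inl rfl, hu⟩, by rw [Nat.lcm_comm, he]⟩
    · obtain ⟨u, v, hu, hv, he⟩ := lcm_exists hpb h
      exact ⟨u, ⟨p, Or.inl rfl, hu⟩, v, ⟨b, Or.inr rfl, hv⟩, he⟩
    · obtain ⟨u, v, hu, hv, he⟩ := lcm_exists hab h
      exact ⟨u, ⟨a, Or.inr rfl, hu⟩, v, ⟨b, Or.inr rfl, hv⟩, he⟩

/-- A Frobenius group `K ⋊ C_a` inside the affine group of a field. -/
theorem exists_frobenius (K : Type) [Field K] [Fintype K] (p : ℕ) [Fact p.Prime] [CharP K p] (a : ℕ)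
    (ha : a ∣ Nat.card K - 1) :
    ∃ (H : Type) (_ : Group H) (_ : Finite H), Group.IsSolvable H ∧
      Set.range (orderOf : H → ℕ) = {n | ∃ m ∈ [p, a], n ∣ m} := by
  obtain ⟨d, hd⟩ := ha
  have hK : 0 < Nat.card K - 1 := by
    have : 1 < Nat.card K := Finite.one_lt_card
    omega
  have ha0 : a ≠ 0 := by rintro rfl; omega
  obtain ⟨z, hz⟩ := IsCyclic.exists_ofOrder_eq_natCard (α := Kˣ)
  rw [Nat.card_units, hd] at hz
  have hd0 : d ≠ 0 := by rintro rfl; omega
  have hc : orderOf (z ^ d) = a := by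
    rw [orderOf_pow_of_dvd hd0 (hz ▸ dvd_mul_left d a), hz, Nat.mul_div_cancel _ (Nat.pos_of_ne_zero hd0)]
  let C : Subgroup Kˣ := Subgroup.zpowers (z ^ d)
  let φ : C →* MulAut (Multiplicative K) :=
    { toFun := fun c => AddEquiv.toMultiplicative (AddAut.mulLeft (c : Kˣ))
      map_one' := MulEquiv.ext fun x => congrArg Multiplicative.ofAdd (one_mul x.toAdd)
      map_mul' := fun c c' => MulEquiv.ext fun x => congrArg Multiplicative.ofAdd (mul_assoc ((c : Kˣ) : K) _ x.toAdd) }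
  have hφ : ∀ (c : C) (v : Multiplicative K), (φ c v).toAdd = ((c : Kˣ) : K) * v.toAdd := fun c v => rfl
  refine ⟨Multiplicative K ⋊[φ] C, inferInstance, Finite.of_equiv _ SemidirectProduct.equivProd.symm, ?_, ?_⟩
  · exact solvable_of_ker_le_range SemidirectProduct.inl SemidirectProduct.rightHom
      (by rw [SemidirectProduct.range_inl_eq_ker_rightHom])
  · refine range_orderOf_of _ (fun g => ?_) ?_ ?_
    · have hpow : ∀ n : ℕ, (g ^ n).left.toAdd = (∑ i ∈ Finset.range n, ((g.right : Kˣ) : K) ^ i) * g.left.toAdd ∧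
          (g ^ n).right = g.right ^ n := by
        intro n
        induction n with
        | zero => simp
        | succ n ih =>
          rw [pow_succ', SemidirectProduct.mul_left, SemidirectProduct.mul_right, ih.2, toAdd_mul, hφ, ih.1,
            geom_sum_succ, ← pow_succ']
          exact ⟨by ring, rfl⟩
      by_cases hg : g.right = 1
      · refine ⟨p, by simp, SemidirectProduct.ext ?_ ?_⟩
        · apply Multiplicative.toAdd.injective
          rw [(hpow p).1, hg]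
          simp
        · rw [(hpow p).2, hg]; simp
      · have hga : g.right ^ a = 1 := Subtype.ext (by
          obtain ⟨i, hi⟩ := Subgroup.mem_zpowers_iff.mp g.right.2
          rw [SubgroupClass.coe_pow, ← hi, ← zpow_natCast, ← _root_.zpow_mul, mul_comm, _root_.zpow_mul, zpow_natCast, ← hc,
            pow_orderOf_eq_one, _root_.one_zpow]
          rfl)
        refine ⟨a, by simp, SemidirectProduct.ext ?_ ?_⟩
        · apply Multiplicative.toAdd.injective
          have h1 : ((g.right : Kˣ) : K) ≠ 1 := fun h => hg (Subtype.ext (Units.ext h))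
          have h2 : ((g.right : Kˣ) : K) ^ a = 1 := by
            rw [← Units.val_pow_eq_pow_val, ← SubgroupClass.coe_pow, hga]; rfl
          rw [(hpow a).1, geom_sum_eq h1, h2]
          simp
        · rw [(hpow a).2, hga]; rfl
    · simp only [List.mem_cons, List.not_mem_nil, or_false]
      rintro m (rfl | rfl)
      · refine ⟨SemidirectProduct.inl (Multiplicative.ofAdd 1), ?_⟩
        rw [orderOf_injective _ SemidirectProduct.inl_injective, orderOf_ofAdd_eq_addOrderOf]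
        exact addOrderOf_eq_prime (by simp) one_ne_zero
      · refine ⟨SemidirectProduct.inr ⟨z ^ d, Subgroup.mem_zpowers _⟩, ?_⟩
        rw [orderOf_injective _ SemidirectProduct.inr_injective, ← Subgroup.orderOf_coe, hc]
    · simp only [List.mem_cons, List.not_mem_nil, or_false]
      rintro m (rfl | rfl)
      exacts [(Fact.out : m.Prime).ne_zero, ha0]

theorem range_psl2 {F : Type*} [Field F] [Finite F] (p : ℕ) [Fact p.Prime] [CharP F p] :
    Set.range (orderOf : Matrix.ProjectiveSpecialLinearGroup (Fin 2) F → ℕ) =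
      {n | ∃ m ∈ [p, (Nat.card F - 1) / Nat.gcd 2 (Nat.card F - 1), (Nat.card F + 1) / Nat.gcd 2 (Nat.card F - 1)],
        n ∣ m} := by
  have h1 : 1 < Nat.card F := Finite.one_lt_card
  have hdpos : 0 < Nat.gcd 2 (Nat.card F - 1) := Nat.gcd_pos_of_pos_left _ two_pos
  refine range_orderOf_of _ (fun g => ?_) ?_ ?_
  · rcases PSL2Proj52.pow_cases p g with h | h | h
    exacts [⟨p, by simp, h⟩, ⟨_, by simp, h⟩, ⟨_, List.mem_cons_of_mem _ (List.mem_cons_of_mem _ List.mem_cons_self), h⟩]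
  · simp only [List.mem_cons, List.not_mem_nil, or_false]
    rintro m (rfl | rfl | rfl)
    · refine ⟨PSL2Proj52.π (PSL2Elements.uHom (Multiplicative.ofAdd 1)), orderOf_eq_prime ?_ fun h => ?_⟩
      · rw [← map_pow, ← map_pow, ← ofAdd_nsmul]
        simp
      · rcases (PSL2Proj52.π_eq_one _).mp h with e | e <;>
          · have := congrArg (fun A : SpecialLinearGroup (Fin 2) F => A.1 0 1) e
            change (1 : F) = _ at this
            simp at this
    · obtain ⟨a, ha⟩ := PSL2Proj52.exists_orderOf_card_sub_one (F := F)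
      exact ⟨_, PSL2Proj52.orderOf_π PSL2Proj52.gcd_dvd.1 ha⟩
    · obtain ⟨A, hA⟩ := PSL2Proj52.exists_orderOf_card_add_one (F := F)
      exact ⟨_, PSL2Proj52.orderOf_π PSL2Proj52.gcd_dvd.2 hA⟩
  · simp only [List.mem_cons, List.not_mem_nil, or_false]
    rintro m (rfl | rfl | rfl)
    · exact (Fact.out : m.Prime).ne_zero
    · exact (Nat.div_pos (Nat.le_of_dvd (by omega) PSL2Proj52.gcd_dvd.1) hdpos).ne'
    · exact (Nat.div_pos (Nat.le_of_dvd (by omega) PSL2Proj52.gcd_dvd.2) hdpos).ne'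

theorem exists_solvable {F : Type*} [Field F] [Finite F] :
    ∃ (H : Type) (_ : Group H) (_ : Finite H), Group.IsSolvable H ∧
      Set.range (orderOf : H → ℕ) = Set.range (orderOf :
        Matrix.ProjectiveSpecialLinearGroup (Fin 2) F × Matrix.ProjectiveSpecialLinearGroup (Fin 2) F → ℕ) := by
  haveI : Fintype F := Fintype.ofFinite F
  obtain ⟨p, hchar⟩ := CharP.exists F
  obtain ⟨n, hp, hn⟩ := FiniteField.card F p
  haveI := Fact.mk hp
  rw [← Nat.card_eq_fintype_card] at hn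
  set q := Nat.card F with hq
  set d := Nat.gcd 2 (q - 1) with hd
  have h1 : 1 < q := Finite.one_lt_card
  have hda : d ∣ q - 1 := PSL2Proj52.gcd_dvd.1
  have hdb : d ∣ q + 1 := PSL2Proj52.gcd_dvd.2
  obtain ⟨a, ha⟩ := hda
  obtain ⟨b, hb⟩ := hdb
  have hdpos : 0 < d := Nat.gcd_pos_of_pos_left _ two_pos
  have hpq : p ∣ q := hn ▸ dvd_pow_self p n.ne_zero
  have hpa : Nat.Coprime p a := hp.coprime_iff_not_dvd.mpr fun h => by
    have := Nat.dvd_sub hpq (ha ▸ h.mul_left d)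
    rw [Nat.sub_sub_self h1.le] at this
    exact hp.not_dvd_one this
  have hpb : Nat.Coprime p b := hp.coprime_iff_not_dvd.mpr fun h => by
    have := Nat.dvd_sub (hb ▸ h.mul_left d) hpq
    rw [Nat.add_sub_cancel_left] at this
    exact hp.not_dvd_one this
  have hab : Nat.Coprime a b := by
    rcases PSL2Proj52.gcd_eq (F := F) with ⟨-, hg⟩ | ⟨⟨k, hk⟩, hg⟩ <;> rw [← hq, ← hd] at hg <;>
      rw [hg] at ha hb
    · have e : b = a + 1 := by omega
      rw [e]; exact Nat.coprime_self_add_right.mpr (Nat.coprime_one_right a)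
    · rw [← hq] at hk
      have e : b = a + 2 := by omega
      rw [e]
      exact Nat.coprime_self_add_right.mpr ((Nat.prime_two.coprime_iff_not_dvd.mpr (by omega)).symm)
  haveI : Fintype (GaloisField p n) := Fintype.ofFinite _
  haveI : Fintype (GaloisField p (2 * n)) := Fintype.ofFinite _
  obtain ⟨H₁, _, _, hs₁, hr₁⟩ := exists_frobenius (GaloisField p n) p a
    (by rw [GaloisField.card p n n.ne_zero, ← hn, ha]; exact dvd_mul_left a d)
  obtain ⟨H₂, _, _, hs₂, hr₂⟩ := exists_frobenius (GaloisField p (2 * n)) p b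
    (by
      rw [GaloisField.card p (2 * n) (by simp), mul_comm, pow_mul, ← hn]
      refine (Dvd.intro_left d hb.symm).trans ⟨q - 1, ?_⟩
      have := Nat.sq_sub_sq q 1
      rwa [one_pow] at this)
  refine ⟨H₁ × H₂, inferInstance, inferInstance, ?_, ?_⟩
  · haveI := hs₁; haveI := hs₂
    exact inferInstance
  · rw [range_prod hr₁ hr₂, range_prod (range_psl2 p) (range_psl2 p), ← hq, ← hd]
    have ea : (q - 1) / d = a := by rw [ha, Nat.mul_div_cancel_left _ hdpos]
    have eb : (q + 1) / d = b := by rw [hb, Nat.mul_div_cancel_left _ hdpos]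
    rw [ea, eb]
    exact sets_eq hpa hpb hab

end Cfsg.Agent.DirectSquarePSL2
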