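import Cfsg.Agent.Lib.PSLSimple
import Mathlib

/-!
Matrix helpers for the multiplier of `SL_n(q)`: the stabiliser of the first basis vector and
general transvections `1 + d φ`.
-/

set_option autoImplicit false
set_option backward.isDefEq.respectTransparency false

namespace Cfsg.Agent.StemSLnMat

open Matrix
open scoped MatrixGroups

variable {F : Type*} [Field F]

/-- The matrix with first column `e₀`, first row `(1, r)` and lower block `A`. -/
def blockMat {n : ℕ} (r : Fin n → F) (A : Matrix (Fin n) (Fin n) F) :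
    Matrix (Fin (n + 1)) (Fin (n + 1)) F :=
  Matrix.of (Fin.cons (Fin.cons 1 r) (fun i => Fin.cons 0 (A i)))

theorem blockMat_mul {n : ℕ} (r r' : Fin n → F) (A A' : Matrix (Fin n) (Fin n) F) :
    blockMat r A * blockMat r' A' = blockMat (r' + r ᵥ* A') (A * A') := by
  ext i j
  refine Fin.cases ?_ (fun i => ?_) i <;> refine Fin.cases ?_ (fun j => ?_) j <;>
    simp [blockMat, Matrix.mul_apply, Fin.sum_univ_succ, Matrix.vecMul, dotProduct]

theorem det_blockMat {n : ℕ} (r : Fin n → F) (A : Matrix (Fin n) (Fin n) F) :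
    (blockMat r A).det = A.det := by
  rw [Matrix.det_succ_column_zero, Fin.sum_univ_succ]
  have h : (blockMat r A).submatrix (Fin.succAbove 0) Fin.succ = A := by
    ext i j; simp [blockMat]
  rw [h]
  simp [blockMat]

theorem blockMat_zero_one {n : ℕ} : blockMat (0 : Fin n → F) 1 = 1 := by
  ext i j
  refine Fin.cases ?_ (fun i => ?_) i <;> refine Fin.cases ?_ (fun j => ?_) j <;>
    simp [blockMat, Matrix.one_apply, Fin.succ_ne_zero, (Fin.succ_ne_zero _).symm]

theorem val_mul {ι : Type*} [Fintype ι] [DecidableEq ι] (A B : SpecialLinearGroup ι F) :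
    (A * B).1 = A.1 * B.1 := rfl

theorem val_one {ι : Type*} [Fintype ι] [DecidableEq ι] :
    (1 : SpecialLinearGroup ι F).1 = 1 := rfl

/-- An element of the stabiliser of `e₀`. -/
def emb {n : ℕ} (r : Fin n → F) (A : SL(n, F)) : SL(n + 1, F) :=
  ⟨blockMat r A.1, by rw [det_blockMat]; exact A.2⟩

theorem emb_mul {n : ℕ} (r r' : Fin n → F) (A A' : SL(n, F)) :
    emb r A * emb r' A' = emb (r' + r ᵥ* A'.1) (A * A') :=
  Subtype.ext (blockMat_mul r r' A.1 A'.1)

theorem emb_zero_one {n : ℕ} : emb (0 : Fin n → F) (1 : SL(n, F)) = 1 :=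
  Subtype.ext blockMat_zero_one

theorem emb_injective {n : ℕ} {r r' : Fin n → F} {A A' : SL(n, F)} (h : emb r A = emb r' A') :
    r = r' ∧ A = A' := by
  have h' : blockMat r A.1 = blockMat r' A'.1 := congrArg Subtype.val h
  constructor
  · funext j
    simpa [blockMat] using congrFun (congrFun h' 0) j.succ
  · refine Subtype.ext (Matrix.ext fun i j => ?_)
    simpa [blockMat] using congrFun (congrFun h' i.succ) j.succ

/-- The Levi embedding. -/
def leviHom (n : ℕ) : SL(n, F) →* SL(n + 1, F) where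
  toFun A := emb 0 A
  map_one' := emb_zero_one
  map_mul' A B := by rw [emb_mul, Matrix.zero_vecMul, add_zero]

theorem leviHom_injective (n : ℕ) : Function.Injective (leviHom n : SL(n, F) →* SL(n + 1, F)) :=
  fun _ _ h => (emb_injective h).2

/-- The radical. -/
def radHom (n : ℕ) : Multiplicative (Fin n → F) →* SL(n + 1, F) where
  toFun r := emb r.toAdd 1
  map_one' := emb_zero_one
  map_mul' r r' := by
    show emb (r.toAdd + r'.toAdd) 1 = emb r.toAdd 1 * emb r'.toAdd 1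
    rw [emb_mul, mul_one, val_one, Matrix.vecMul_one, add_comm r.toAdd]

theorem emb_eq_mul {n : ℕ} (r : Fin n → F) (A : SL(n, F)) :
    emb r A = emb (r ᵥ* (A⁻¹ : SL(n, F)).1) 1 * emb 0 A := by
  rw [emb_mul, one_mul, Matrix.vecMul_vecMul, ← val_mul, inv_mul_cancel,
    val_one, Matrix.vecMul_one, zero_add]

theorem levi_conj_rad {n : ℕ} (r : Fin n → F) (A : SL(n, F)) :
    emb 0 A * emb r 1 * (emb 0 A)⁻¹ = emb (r ᵥ* (A⁻¹ : SL(n, F)).1) 1 := by
  have h : (emb 0 A)⁻¹ = emb 0 A⁻¹ := by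
    have := map_inv (leviHom (F := F) n) A
    exact this.symm
  rw [h, emb_mul, emb_mul, mul_one, Matrix.zero_vecMul, add_zero, zero_add, mul_inv_cancel]

theorem exists_emb {n : ℕ} (g : SL(n + 1, F)) (h : g.1 *ᵥ Pi.single 0 1 = Pi.single 0 1) :
    ∃ (r : Fin n → F) (A : SL(n, F)), g = emb r A := by
  have hcol : ∀ i, g.1 i 0 = (Pi.single 0 1 : Fin (n + 1) → F) i := fun i => by
    have := congrFun h i
    rwa [Matrix.mulVec_single_one] at this
  have heq : g.1 = blockMat (fun j => g.1 0 j.succ) (g.1.submatrix Fin.succ Fin.succ) := by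
    ext i j
    refine Fin.cases ?_ (fun i => ?_) i <;> refine Fin.cases ?_ (fun j => ?_) j <;>
      simp [blockMat, hcol, Fin.succ_ne_zero]
  have hdet : (g.1.submatrix Fin.succ Fin.succ).det = 1 := by
    rw [← det_blockMat (fun j => g.1 0 j.succ), ← heq, g.2]
  exact ⟨_, ⟨_, hdet⟩, Subtype.ext heq⟩

theorem emb_mulVec {n : ℕ} (r : Fin n → F) (A : SL(n, F)) :
    (emb r A).1 *ᵥ Pi.single 0 1 = Pi.single 0 1 := by
  rw [Matrix.mulVec_single_one]
  ext i
  refine Fin.cases ?_ (fun i => ?_) i <;> simp [emb, blockMat, Matrix.col]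

section Transvection

variable {ι : Type*} [Fintype ι] [DecidableEq ι]

open scoped Classical in
/-- The transvection `x ↦ x + (φ x) d` (junk value `1` unless `φ d = 0`). -/
noncomputable def T (φ d : ι → F) : SpecialLinearGroup ι F :=
  if h : φ ⬝ᵥ d = 0 then
    ⟨1 + vecMulVec d φ, by
      rw [Matrix.vecMulVec_eq Unit, Matrix.det_one_add_replicateCol_mul_replicateRow, h, add_zero]⟩
  else 1

theorem T_coe {φ d : ι → F} (h : φ ⬝ᵥ d = 0) : (T φ d).1 = 1 + vecMulVec d φ := by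
  rw [T, dif_pos h]

theorem T_mulVec {φ d : ι → F} (h : φ ⬝ᵥ d = 0) (x : ι → F) :
    (T φ d).1 *ᵥ x = x + (φ ⬝ᵥ x) • d := by
  rw [T_coe h, Matrix.add_mulVec, Matrix.one_mulVec, Matrix.vecMulVec_mulVec]
  congr 1
  ext i
  simp [mul_comm]

theorem T_zero (φ : ι → F) : T φ (0 : ι → F) = 1 := by
  refine Subtype.ext ?_
  rw [T_coe (dotProduct_zero φ)]
  simp [Matrix.vecMulVec]
  rfl

theorem T_mul_T {φ φ' d d' : ι → F} (h : φ ⬝ᵥ d = 0) (h' : φ' ⬝ᵥ d' = 0) (h2 : φ ⬝ᵥ d' = 0) :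
    (T φ d * T φ' d').1 = 1 + vecMulVec d φ + vecMulVec d' φ' := by
  rw [val_mul, T_coe h, T_coe h', add_mul, one_mul, mul_add, mul_one,
    Matrix.vecMulVec_mul_vecMulVec, h2]
  simp only [zero_smul, Matrix.vecMulVec_zero, add_zero]
  abel

theorem T_mul_same_phi {φ d d' : ι → F} (h : φ ⬝ᵥ d = 0) (h' : φ ⬝ᵥ d' = 0) :
    T φ d * T φ d' = T φ (d + d') := by
  refine Subtype.ext ?_
  rw [T_mul_T h h' h', T_coe (by rw [dotProduct_add, h, h', add_zero]), Matrix.add_vecMulVec, add_assoc]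

theorem T_mul_same_d {φ φ' d : ι → F} (h : φ ⬝ᵥ d = 0) (h' : φ' ⬝ᵥ d = 0) :
    T φ d * T φ' d = T (φ + φ') d := by
  refine Subtype.ext ?_
  rw [T_mul_T h h' h, T_coe (by rw [add_dotProduct, h, h', add_zero]), Matrix.vecMulVec_add, add_assoc]

theorem T_commute_same_phi {φ d d' : ι → F} (h : φ ⬝ᵥ d = 0) (h' : φ ⬝ᵥ d' = 0) :
    Commute (T φ d) (T φ d') := by
  show _ = _
  rw [T_mul_same_phi h h', T_mul_same_phi h' h, add_comm]

theorem T_commute_same_d {φ φ' d : ι → F} (h : φ ⬝ᵥ d = 0) (h' : φ' ⬝ᵥ d = 0) :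
    Commute (T φ d) (T φ' d) := by
  show _ = _
  rw [T_mul_same_d h h', T_mul_same_d h' h, add_comm]

theorem T_pow (p : ℕ) [CharP F p] {φ d : ι → F} (h : φ ⬝ᵥ d = 0) : T φ d ^ p = 1 := by
  have key : ∀ k : ℕ, T φ d ^ k = T φ ((k : F) • d) := by
    intro k
    induction k with
    | zero => rw [pow_zero, Nat.cast_zero, zero_smul, T_zero]
    | succ k ih =>
      rw [pow_succ, ih, T_mul_same_phi (by rw [dotProduct_smul, h, smul_zero]) h, Nat.cast_succ,
        add_smul, one_smul]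
  rw [key, CharP.cast_eq_zero, zero_smul, T_zero]

theorem T_conj (g : SpecialLinearGroup ι F) {φ d : ι → F} (h : φ ⬝ᵥ d = 0) :
    g * T φ d * g⁻¹ = T (φ ᵥ* (g⁻¹ : SpecialLinearGroup ι F).1) (g.1 *ᵥ d) := by
  have hinv : (g⁻¹ : SpecialLinearGroup ι F).1 * g.1 = 1 := by
    rw [← val_mul, inv_mul_cancel, val_one]
  have h' : (φ ᵥ* (g⁻¹ : SpecialLinearGroup ι F).1) ⬝ᵥ (g.1 *ᵥ d) = 0 := by
    rw [← Matrix.dotProduct_mulVec, Matrix.mulVec_mulVec, hinv, Matrix.one_mulVec, h]
  refine Subtype.ext ?_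
  rw [val_mul, val_mul, T_coe h, T_coe h', mul_add, add_mul,
    mul_one, ← val_mul, mul_inv_cancel, val_one,
    Matrix.mul_vecMulVec, Matrix.vecMulVec_mul]

end Transvection

theorem transvection_pow {ι : Type*} [Fintype ι] [DecidableEq ι] (p : ℕ) [CharP F p] {i j : ι}
    (hij : i ≠ j) (c : F) : SpecialLinearGroup.transvection hij c ^ p = 1 := by
  have h : Pi.single j c ⬝ᵥ (Pi.single i (1 : F)) = 0 := by simp [hij]
  have : SpecialLinearGroup.transvection hij c = T (Pi.single j c) (Pi.single i 1) := by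
    refine Subtype.ext ?_
    rw [T_coe h, SpecialLinearGroup.transvection_coe]
    congr 1
    ext a b
    simp [Matrix.vecMulVec, Matrix.single, Pi.single_apply]
    grind
  rw [this, T_pow p h]

end Cfsg.Agent.StemSLnMat
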