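import Cfsg.Agent.Lib.PSLSimple
import Cfsg.Agent.Lib.StemSLnMat
import Mathlib

/-!
Root elements, torus elements and a permutation element of `SL_n(F)`, acting on each other.
-/

set_option autoImplicit false
set_option backward.isDefEq.respectTransparency false

namespace Cfsg.Agent.StemSLnTv

open Matrix
open scoped MatrixGroups commutatorElement

variable {F : Type*} [Field F] {n : ℕ}

/-- Root element `1 + c E_ij` (junk `1` if `i = j`). -/
def tv (i j : Fin n) (c : F) : SL(n, F) :=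
  if h : i ≠ j then SpecialLinearGroup.transvection h c else 1

theorem tv_mulVec {i j : Fin n} (hij : i ≠ j) (c : F) (w : Fin n → F) :
    (tv i j c).1 *ᵥ w = w + Pi.single i (c * w j) := by
  rw [tv, dif_pos hij, PSLSimple.transvection_mulVec]

theorem tv_mulVec_single {i j b : Fin n} (hij : i ≠ j) (hb : b ≠ j) (c : F) :
    (tv i j c).1 *ᵥ Pi.single b 1 = Pi.single b 1 := by
  rw [tv_mulVec hij]; simp [Ne.symm hb]

theorem ext_mulVec {A B : SL(n, F)} (h : ∀ w, A.1 *ᵥ w = B.1 *ᵥ w) : A = B :=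
  Subtype.ext (Matrix.ext_iff_mulVec.2 h)

theorem tv_add {i j : Fin n} (hij : i ≠ j) (a b : F) : tv i j (a + b) = tv i j a * tv i j b := by
  refine ext_mulVec fun w => ?_
  rw [PSLSimple.mulVec_mul, tv_mulVec hij, tv_mulVec hij, tv_mulVec hij]
  ext l
  by_cases hl : l = i
  · subst hl; simp [Ne.symm hij, add_mul]; ring
  · simp [hl]

theorem tv_zero {i j : Fin n} : tv i j (0 : F) = 1 := by
  by_cases hij : i = j
  · rw [tv, dif_neg (by simp [hij])]
  · refine ext_mulVec fun w => ?_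
    rw [tv_mulVec hij, StemSLnMat.val_one, Matrix.one_mulVec, zero_mul, Pi.single_zero, add_zero]

theorem tv_commute {i j k l : Fin n} (hij : i ≠ j) (hkl : k ≠ l) (hjk : j ≠ k) (hil : i ≠ l)
    (a b : F) : Commute (tv i j a) (tv k l b) := by
  refine ext_mulVec fun w => ?_
  rw [PSLSimple.mulVec_mul, PSLSimple.mulVec_mul, tv_mulVec hij, tv_mulVec hkl, tv_mulVec hij,
    tv_mulVec hkl]
  simp [Pi.single_apply, hjk, Ne.symm hil, hij, hkl, Ne.symm hij, Ne.symm hkl, add_assoc, add_comm,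
    add_left_comm]

theorem tv_bracket {i j k : Fin n} (hik : i ≠ k) (hkj : k ≠ j) (hij : i ≠ j) (a b : F) :
    ⁅tv i k a, tv k j b⁆ = tv i j (a * b) := by
  rw [tv, dif_pos hik, tv, dif_pos hkj, tv, dif_pos hij]
  exact PSLSimple.commutator_transvection hik hkj hij a b

/-- The diagonal element with entries `t`. -/
def diagEl (t : Fin n → F) (h : ∏ i, t i = 1) : SL(n, F) :=
  ⟨Matrix.diagonal t, by rw [Matrix.det_diagonal, h]⟩

theorem diagEl_mulVec (t : Fin n → F) (h : ∏ i, t i = 1) (w : Fin n → F) (l : Fin n) :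
    ((diagEl t h).1 *ᵥ w) l = t l * w l := by
  simp [diagEl, Matrix.mulVec_diagonal]

theorem t_ne_zero {t : Fin n → F} (h : ∏ i, t i = 1) (i : Fin n) : t i ≠ 0 := fun h0 =>
  one_ne_zero (h.symm.trans (Finset.prod_eq_zero (Finset.mem_univ i) h0))

theorem diagEl_conj {i j : Fin n} (hij : i ≠ j) (t : Fin n → F) (h : ∏ i, t i = 1) (c : F) :
    diagEl t h * tv i j c * (diagEl t h)⁻¹ = tv i j (t i / t j * c) := by
  rw [mul_inv_eq_iff_eq_mul]
  refine ext_mulVec fun w => ?_
  ext l
  rw [PSLSimple.mulVec_mul, PSLSimple.mulVec_mul, tv_mulVec hij, diagEl_mulVec, tv_mulVec hij]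
  simp only [Pi.add_apply, diagEl_mulVec]
  have := t_ne_zero h j
  by_cases hl : l = i
  · subst hl; simp; field_simp
  · simp [hl, diagEl_mulVec]

theorem diagEl_commute (t t' : Fin n → F) (h : ∏ i, t i = 1) (h' : ∏ i, t' i = 1) :
    Commute (diagEl t h) (diagEl t' h') := by
  refine ext_mulVec fun w => ?_
  ext l
  rw [PSLSimple.mulVec_mul, PSLSimple.mulVec_mul, diagEl_mulVec, diagEl_mulVec, diagEl_mulVec,
    diagEl_mulVec, mul_left_comm]

/-- The permutation element of an even permutation. -/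
def permEl (π : Equiv.Perm (Fin n)) (hπ : Equiv.Perm.sign π = 1) : SL(n, F) :=
  ⟨Equiv.Perm.permMatrix F π.symm, by rw [Matrix.det_permutation, Equiv.Perm.sign_symm, hπ]; simp⟩

theorem permEl_mulVec (π : Equiv.Perm (Fin n)) (hπ : Equiv.Perm.sign π = 1) (w : Fin n → F)
    (l : Fin n) : ((permEl (F := F) π hπ).1 *ᵥ w) l = w (π.symm l) := by
  simp [permEl, Matrix.permMatrix_mulVec]

theorem permEl_conj {i j : Fin n} (hij : i ≠ j) (π : Equiv.Perm (Fin n))
    (hπ : Equiv.Perm.sign π = 1) (c : F) :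
    permEl π hπ * tv i j c * (permEl π hπ)⁻¹ = tv (π i) (π j) c := by
  rw [mul_inv_eq_iff_eq_mul]
  refine ext_mulVec fun w => ?_
  ext l
  rw [PSLSimple.mulVec_mul, PSLSimple.mulVec_mul, tv_mulVec hij, permEl_mulVec,
    tv_mulVec (π.injective.ne hij)]
  simp only [Pi.add_apply, permEl_mulVec, Equiv.symm_apply_apply]
  by_cases hl : l = π i
  · subst hl; simp
  · have : π.symm l ≠ i := fun he => hl (by rw [← he, Equiv.apply_symm_apply])
    simp [hl, this]

end Cfsg.Agent.StemSLnTv
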