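import Cfsg.Agent.Lib.PSLCard
import Cfsg.Agent.Lib.StemBasic
import Cfsg.Agent.Lib.StemPairing
import Cfsg.Agent.Lib.StemSLnTv
import Mathlib

/-!
A perfect central extension of `PSL_3(4)` with kernel of exponent two has kernel of order at most
four.

The lifts of each root subgroup commute, commutators of lifts of `X_12` and `X_23` are involutions
centralising the preimage of the Sylow subgroup, so they depend biadditively on the two parameters:
the derived group of the preimage is a quotient of `F ⊗ F`, of order 16, mapping onto `X_13`.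
Transfer puts the kernel inside that derived group.
-/

set_option autoImplicit false
set_option backward.isDefEq.respectTransparency false

namespace Cfsg.Agent.L34MultiplierBound

open scoped Matrix MatrixGroups commutatorElement
open Cfsg.Agent.StemSLnTv (tv tv_add tv_zero tv_commute tv_bracket tv_mulVec diagEl diagEl_conj)

variable {F : Type*} [Field F]

/-- The projection to the projective group. -/
noncomputable def proj : SL(3, F) →* Matrix.ProjectiveSpecialLinearGroup (Fin 3) F :=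
  QuotientGroup.mk' (Subgroup.center SL(3, F))

/-- The general element of the unitriangular group. -/
noncomputable def uni (a b c : F) : SL(3, F) := tv 0 1 a * tv 1 2 b * tv 0 2 c

theorem uni_mulVec_one (a b c : F) :
    (uni a b c).1 *ᵥ Pi.single (1 : Fin 3) 1 = ![a, 1, 0] := by
  rw [uni, PSLSimple.mulVec_mul, PSLSimple.mulVec_mul, tv_mulVec (by decide), tv_mulVec (by decide),
    tv_mulVec (by decide)]
  ext i; fin_cases i <;> simp

theorem uni_mulVec_two (a b c : F) :
    (uni a b c).1 *ᵥ Pi.single (2 : Fin 3) 1 = ![a * b + c, b, 1] := by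
  rw [uni, PSLSimple.mulVec_mul, PSLSimple.mulVec_mul, tv_mulVec (by decide), tv_mulVec (by decide),
    tv_mulVec (by decide)]
  ext i; fin_cases i <;> simp
  ring

theorem uni_center {a b c : F} (h : uni a b c ∈ Subgroup.center SL(3, F)) :
    a = 0 ∧ b = 0 ∧ c = 0 := by
  obtain ⟨r, -, hr⟩ := Matrix.SpecialLinearGroup.mem_center_iff.1 h
  have h1 := uni_mulVec_one a b c
  have h2 := uni_mulVec_two a b c
  rw [← hr] at h1 h2
  have e10 := congrFun h1 0
  have e20 := congrFun h2 0
  have e21 := congrFun h2 1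
  simp [Matrix.scalar_apply, Matrix.mulVec_diagonal] at e10 e20 e21
  refine ⟨e10.symm, e21.symm, ?_⟩
  rw [← e10, zero_mul, zero_add] at e20
  exact e20.symm

theorem add_self (h2 : (2 : F) = 0) (x : F) : x + x = 0 := by
  rw [← two_mul, h2, zero_mul]

theorem tv_inv (h2 : (2 : F) = 0) {i j : Fin 3} (hij : i ≠ j) (a : F) :
    (tv i j a)⁻¹ = tv i j a :=
  inv_eq_of_mul_eq_one_right (by rw [← tv_add hij, add_self h2, tv_zero])

theorem tv_swap (h2 : (2 : F) = 0) (a b : F) :
    tv 1 2 b * tv 0 1 a = tv 0 1 a * tv 1 2 b * (tv 0 2 (a * b) : SL(3, F)) := by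
  have hb : ⁅tv 0 1 a, tv 1 2 b⁆ = (tv 0 2 (a * b) : SL(3, F)) :=
    tv_bracket (by decide) (by decide) (by decide) a b
  have i1 := tv_inv (F := F) h2 (show (0 : Fin 3) ≠ 1 by decide) a
  have i2 := tv_inv (F := F) h2 (show (1 : Fin 3) ≠ 2 by decide) b
  have i3 := tv_inv (F := F) h2 (show (0 : Fin 3) ≠ 2 by decide) (a * b)
  rw [← i3, ← hb, commutatorElement_def]
  simp only [mul_inv_rev, i1, i2]
  have s1 : tv 0 1 a * tv 0 1 a = (1 : SL(3, F)) := by
    rw [← tv_add (by decide), add_self h2, tv_zero]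
  have s2 : tv 1 2 b * tv 1 2 b = (1 : SL(3, F)) := by
    rw [← tv_add (by decide), add_self h2, tv_zero]
  calc tv 1 2 b * tv 0 1 a = tv 0 1 a * (tv 1 2 b * tv 1 2 b) * tv 0 1 a * tv 1 2 b * tv 0 1 a := by
        rw [s2, mul_one, s1, one_mul]
    _ = _ := by simp only [mul_assoc]

theorem uni_mul (h2 : (2 : F) = 0) (a b c a' b' c' : F) :
    uni a b c * uni a' b' c' = uni (a + a') (b + b') (a' * b + c + c') := by
  have c1 : Commute (tv 0 2 c : SL(3, F)) (tv 0 1 a') :=
    tv_commute (by decide) (by decide) (by decide) (by decide) c a'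
  have c2 : Commute (tv 0 2 c : SL(3, F)) (tv 1 2 b') :=
    tv_commute (by decide) (by decide) (by decide) (by decide) c b'
  have c3 : Commute (tv 0 2 (a' * b) : SL(3, F)) (tv 1 2 b') :=
    tv_commute (by decide) (by decide) (by decide) (by decide) _ b'
  unfold uni
  calc tv 0 1 a * tv 1 2 b * tv 0 2 c * (tv 0 1 a' * tv 1 2 b' * tv 0 2 c')
      = tv 0 1 a * tv 1 2 b * (tv 0 2 c * tv 0 1 a') * tv 1 2 b' * tv 0 2 c' := by
        simp only [mul_assoc]
    _ = tv 0 1 a * tv 1 2 b * (tv 0 1 a' * tv 0 2 c) * tv 1 2 b' * tv 0 2 c' := by rw [c1.eq]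
    _ = tv 0 1 a * (tv 1 2 b * tv 0 1 a') * (tv 0 2 c * tv 1 2 b') * tv 0 2 c' := by
        simp only [mul_assoc]
    _ = tv 0 1 a * (tv 0 1 a' * tv 1 2 b * tv 0 2 (a' * b)) * (tv 1 2 b' * tv 0 2 c) * tv 0 2 c' := by
        rw [tv_swap h2 a' b, c2.eq]
    _ = tv 0 1 a * tv 0 1 a' * tv 1 2 b * (tv 0 2 (a' * b) * tv 1 2 b') * tv 0 2 c * tv 0 2 c' := by
        simp only [mul_assoc]
    _ = tv 0 1 a * tv 0 1 a' * tv 1 2 b * (tv 1 2 b' * tv 0 2 (a' * b)) * tv 0 2 c * tv 0 2 c' := by
        rw [c3.eq]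
    _ = (tv 0 1 a * tv 0 1 a') * (tv 1 2 b * tv 1 2 b') *
          ((tv 0 2 (a' * b) * tv 0 2 c) * tv 0 2 c') := by simp only [mul_assoc]
    _ = _ := by rw [← tv_add (by decide), ← tv_add (by decide), ← tv_add (by decide),
        ← tv_add (by decide)]

theorem uni_zero : uni (0 : F) 0 0 = 1 := by simp [uni, tv_zero]

theorem uni_inv (h2 : (2 : F) = 0) (a b c : F) : (uni a b c)⁻¹ = uni a b (a * b + c) := by
  refine inv_eq_of_mul_eq_one_right ?_
  rw [uni_mul h2, add_self h2, add_self h2,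
    show a * b + c + (a * b + c) = 0 from add_self h2 _, uni_zero]

/-- The image of the unitriangular group. -/
noncomputable def sylow (h2 : (2 : F) = 0) :
    Subgroup (Matrix.ProjectiveSpecialLinearGroup (Fin 3) F) where
  carrier := Set.range fun x : F × F × F => proj (uni x.1 x.2.1 x.2.2)
  one_mem' := ⟨(0, 0, 0), by simp [uni_zero]⟩
  mul_mem' := by
    rintro _ _ ⟨x, rfl⟩ ⟨y, rfl⟩
    exact ⟨(x.1 + y.1, x.2.1 + y.2.1, y.1 * x.2.1 + x.2.2 + y.2.2),
      by simp only [← map_mul, uni_mul h2]⟩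
  inv_mem' := by
    rintro _ ⟨x, rfl⟩
    exact ⟨(x.1, x.2.1, x.1 * x.2.1 + x.2.2), by simp only [← map_inv, uni_inv h2]⟩

theorem proj_uni_injective (h2 : (2 : F) = 0) :
    Function.Injective (fun x : F × F × F => proj (uni x.1 x.2.1 x.2.2)) := by
  intro x y h
  have h' : (uni x.1 x.2.1 x.2.2)⁻¹ * uni y.1 y.2.1 y.2.2 ∈ Subgroup.center SL(3, F) :=
    QuotientGroup.eq.1 h
  rw [uni_inv h2, uni_mul h2] at h'
  obtain ⟨e1, e2, e3⟩ := uni_center h'
  have n : ∀ u v : F, u + v = 0 → u = v := fun u v e => by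
    have hs := add_self h2 v
    linear_combination e - hs
  have a1 := n _ _ e1
  have a2 := n _ _ e2
  refine Prod.ext a1 (Prod.ext a2 (n _ _ ?_))
  rw [← a1] at e3
  linear_combination e3 - add_self h2 (x.1 * x.2.1)

theorem card_psl [Fintype F] (hF : Fintype.card F = 4) :
    Nat.card (Matrix.ProjectiveSpecialLinearGroup (Fin 3) F) = 20160 := by
  have h1 := PSLCard.card_PSL_mul (F := F) 3
  have h3 := PSLCard.card_SL (F := F) 3
  rw [Nat.card_eq_fintype_card (α := F), hF] at h1 h3
  simp [Fin.prod_univ_three] at h1 h3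
  omega

theorem index_sylow [Fintype F] (h2 : (2 : F) = 0) (hF : Fintype.card F = 4) :
    (sylow (F := F) h2).index = 315 := by
  have h := (sylow (F := F) h2).card_mul_index
  have hc : Nat.card (sylow (F := F) h2) = 64 := by
    refine (Nat.card_range_of_injective (proj_uni_injective (F := F) h2)).trans ?_
    simp [Nat.card_eq_fintype_card, hF]
  rw [hc, card_psl hF] at h
  omega

/-- The facts about a field of order four that are used. -/
theorem field_four [Fintype F] (hF : Fintype.card F = 4) :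
    (2 : F) = 0 ∧ ∃ w : F, w ≠ 0 ∧ w ≠ 1 ∧ ∀ x : F, x = 0 ∨ x = 1 ∨ x = w ∨ x = 1 + w := by
  classical
  have h2 : (2 : F) = 0 := by
    have h4 : ((4 : ℕ) : F) = 0 := by rw [← hF]; exact Nat.cast_card_eq_zero F
    have : (2 : F) * 2 = 0 := by rw [← h4]; norm_num
    exact mul_self_eq_zero.1 this
  refine ⟨h2, ?_⟩
  obtain ⟨w, -, hw⟩ := Finset.exists_mem_notMem_of_card_lt_card
    (s := ({0, 1} : Finset F)) (t := Finset.univ)
    (by rw [Finset.card_univ, hF]; exact lt_of_le_of_lt (Finset.card_le_two) (by norm_num))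
  simp at hw
  refine ⟨w, hw.1, hw.2, fun x => ?_⟩
  have hcard : ({0, 1, w, 1 + w} : Finset F).card = 4 := by
    have a1 : (1 : F) + w ≠ 0 := fun e => hw.2 (by linear_combination e - h2)
    have a2 : (1 : F) + w ≠ 1 := fun e => hw.1 (by linear_combination e)
    have a3 : (1 : F) + w ≠ w := fun e => one_ne_zero (by linear_combination e : (1 : F) = 0)
    rw [Finset.card_insert_of_notMem, Finset.card_insert_of_notMem, Finset.card_insert_of_notMem,
      Finset.card_singleton] <;> simp [Ne.symm hw.1, Ne.symm hw.2, Ne.symm a1,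
        Ne.symm a2, Ne.symm a3]
  have := Finset.eq_univ_of_card ({0, 1, w, 1 + w} : Finset F) (by rw [hcard, hF])
  have hx : x ∈ ({0, 1, w, 1 + w} : Finset F) := by rw [this]; exact Finset.mem_univ x
  simpa using hx

theorem three_prod {t : F} (ht : t ≠ 0) : ∏ i : Fin 3, (![t, 1, t⁻¹] : Fin 3 → F) i = 1 := by
  simp [Fin.prod_univ_three, ht]

section Extension

variable {L : Type*} [Group L]
variable (σ : L →* Matrix.ProjectiveSpecialLinearGroup (Fin 3) F)

/-- Commutation of all lifts of commuting root elements of one root subgroup. -/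
theorem lifts_commute (hs : Function.Surjective σ) (hc : σ.ker ≤ Subgroup.center L) {i k j : Fin 3}
    (hik : i ≠ k) (hkj : k ≠ j) (hij : i ≠ j) {g g' : L} {a a' : F}
    (hg : σ g = proj (tv i j a)) (hg' : σ g' = proj (tv i j a')) : Commute g g' := by
  obtain ⟨x, hx⟩ := hs (proj (tv i k a))
  obtain ⟨y, hy⟩ := hs (proj (tv k j (1 : F)))
  have hcomm : σ ⁅x, y⁆ = σ g := by
    rw [map_commutatorElement, hx, hy, ← map_commutatorElement, tv_bracket hik hkj hij, mul_one, hg]
  have hcx : Commute (σ g') (σ x) := by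
    rw [hg', hx]
    exact (tv_commute hij hik (Ne.symm hij) hik a' a).map proj
  have hcy : Commute (σ g') (σ y) := by
    rw [hg', hy]
    exact (tv_commute hij hkj (Ne.symm hkj) hij a' 1).map proj
  have e1 : σ (g' * x * g'⁻¹) = σ x := by
    rw [map_mul, map_mul, map_inv, hcx.eq, mul_inv_cancel_right]
  have e2 : σ (g' * y * g'⁻¹) = σ y := by
    rw [map_mul, map_mul, map_inv, hcy.eq, mul_inv_cancel_right]
  have key : g' * ⁅x, y⁆ * g'⁻¹ = ⁅x, y⁆ := by
    refine Eq.trans ?_ (StemPairing.bracket_congr hc e1 e2)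
    simp only [commutatorElement_def]; group
  have hcb : Commute g' ⁅x, y⁆ := mul_inv_eq_iff_eq_mul.1 key
  obtain ⟨z, hz, rfl⟩ := StemBasic.exists_ker_mul hcomm.symm
  exact (hcb.mul_right (StemBasic.ker_comm hc hz g')).symm

/-- Lifts of elements of the highest root subgroup are involutions. -/
theorem sq_eq_one (hs : Function.Surjective σ) (hc : σ.ker ≤ Subgroup.center L)
    (he : ∀ z : L, σ z = 1 → z * z = 1) (h2 : (2 : F) = 0) {w : F} (hw0 : w ≠ 0) (hw1 : w ≠ 1)
    {g : L} {v : F} (hg : σ g = proj (tv 0 2 v)) : g * g = 1 := by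
  obtain ⟨D, hD⟩ := hs (proj (diagEl (![w, 1, w⁻¹] : Fin 3 → F) (three_prod hw0)))
  have hk : w * w + 1 ≠ 0 := fun e => by
    have : (w + 1) * (w + 1) = 0 := by linear_combination e + w * h2
    exact hw1 (by linear_combination mul_self_eq_zero.1 this - h2)
  obtain ⟨l, hl⟩ := hs (proj (tv 0 2 (v / (w * w + 1))))
  have hll : σ (l * l) = 1 := by
    rw [map_mul, hl, ← map_mul, ← tv_add (by decide), add_self h2, tv_zero, map_one]
  have hDl : σ ⁅D, l⁆ = proj (tv 0 2 v) := by
    rw [map_commutatorElement, hD, hl, ← map_commutatorElement, commutatorElement_def,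
      diagEl_conj (by decide), tv_inv h2 (by decide), ← tv_add (by decide)]
    have hk' : w ^ 2 + 1 ≠ 0 := by rw [pow_two]; exact hk
    congr 2
    simp
    field_simp
  have hcl : l * ⁅D, l⁆ * l⁻¹ = ⁅D, l⁆ := by
    rw [(lifts_commute σ hs hc (k := 1) (by decide) (by decide) (by decide) hl hDl).eq,
      mul_inv_cancel_right]
  have hsq : ⁅D, l⁆ * ⁅D, l⁆ = 1 := by
    have e : ⁅D, l * l⁆ = ⁅D, l⁆ * (l * ⁅D, l⁆ * l⁻¹) := by
      simp only [commutatorElement_def]; group
    rw [hcl] at e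
    rw [← e, commutatorElement_eq_one_iff_mul_comm]
    exact StemBasic.ker_comm hc hll D
  obtain ⟨z, hz, rfl⟩ := StemBasic.exists_ker_mul (hg.trans hDl.symm)
  have hzc : Commute ⁅D, l⁆ z := StemBasic.ker_comm hc hz _
  rw [mul_assoc, ← mul_assoc z, ← hzc.eq, mul_assoc, he z hz, mul_one, hsq]

/-- A chosen lift of a root element. -/
noncomputable def lift (hs : Function.Surjective σ) (i j : Fin 3) (a : F) : L :=
  Function.surjInv hs (proj (tv i j a))

theorem lift_spec (hs : Function.Surjective σ) (i j : Fin 3) (a : F) :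
    σ (lift σ hs i j a) = proj (tv i j a) := Function.surjInv_eq hs _

/-- The commutator of lifts of the two simple roots. -/
noncomputable def cc (hs : Function.Surjective σ) (a b : F) : L :=
  ⁅lift σ hs 0 1 a, lift σ hs 1 2 b⁆

theorem cc_spec (hs : Function.Surjective σ) (a b : F) :
    σ (cc σ hs a b) = proj (tv 0 2 (a * b)) := by
  rw [cc, map_commutatorElement, lift_spec, lift_spec, ← map_commutatorElement,
    tv_bracket (by decide) (by decide) (by decide)]

theorem highest_commute (hs : Function.Surjective σ) (hc : σ.ker ≤ Subgroup.center L)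
    (he : ∀ z : L, σ z = 1 → z * z = 1) (h2 : (2 : F) = 0) {w : F} (hw0 : w ≠ 0) (hw1 : w ≠ 1)
    (a b v : F) {g h x y : L} (hg : σ g = proj (tv 0 1 a)) (hh : σ h = proj (tv 1 2 b))
    (hx : σ x = proj (tv 0 2 v)) (hy : σ y = proj (tv 0 2 v)) :
    Commute x g ∧ Commute y h := by
  have central : ∀ g : L, σ g = 1 → ∀ x, Commute x g := fun g hg x => StemBasic.ker_comm hc hg x
  have sqc : ∀ (i j : Fin 3), i ≠ j → ∀ c : F, σ (lift σ hs i j c * lift σ hs i j c) = 1 := by
    intro i j hij c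
    rw [map_mul, lift_spec, ← map_mul, ← tv_add hij, add_self h2, tv_zero, map_one]
  constructor
  · rcases eq_or_ne a 0 with rfl | ha
    · exact central g (by rw [hg, tv_zero, map_one]) x
    · have hC : σ (cc σ hs a (v / a)) = proj (tv 0 2 v) := by
        rw [cc_spec, mul_div_cancel₀ _ ha]
      have hc2 := sq_eq_one σ hs hc he h2 hw0 hw1 hC
      set A := lift σ hs 0 1 a
      set B := lift σ hs 1 2 (v / a)
      have hq : ⁅A * A, B⁆ = 1 := commutatorElement_eq_one_iff_mul_comm.2
        (StemBasic.ker_comm hc (sqc 0 1 (by decide) a) B).symm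
      have e : ⁅A * A, B⁆ = A * ⁅A, B⁆ * A⁻¹ * ⁅A, B⁆ := by
        simp only [commutatorElement_def]; group
      have h3 : A * cc σ hs a (v / a) * A⁻¹ = cc σ hs a (v / a) := by
        have h4 : A * cc σ hs a (v / a) * A⁻¹ * cc σ hs a (v / a) = 1 := e.symm.trans hq
        rw [eq_inv_of_mul_eq_one_left h4, inv_eq_of_mul_eq_one_right hc2]
      have hcomm : Commute A (cc σ hs a (v / a)) := mul_inv_eq_iff_eq_mul.1 h3
      obtain ⟨z, hz, rfl⟩ := StemBasic.exists_ker_mul (hx.trans hC.symm)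
      obtain ⟨z', hz', rfl⟩ := StemBasic.exists_ker_mul (hg.trans (lift_spec σ hs 0 1 a).symm)
      exact ((hcomm.symm.mul_right (central z' hz' _)).mul_left (central z hz _).symm)
  · rcases eq_or_ne b 0 with rfl | hb
    · exact central h (by rw [hh, tv_zero, map_one]) y
    · have hC : σ (cc σ hs (v / b) b) = proj (tv 0 2 v) := by
        rw [cc_spec, div_mul_cancel₀ _ hb]
      have hc2 := sq_eq_one σ hs hc he h2 hw0 hw1 hC
      set A := lift σ hs 0 1 (v / b)
      set B := lift σ hs 1 2 b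
      have hq : ⁅A, B * B⁆ = 1 := commutatorElement_eq_one_iff_mul_comm.2
        (StemBasic.ker_comm hc (sqc 1 2 (by decide) b) A)
      have e : ⁅A, B * B⁆ = ⁅A, B⁆ * (B * ⁅A, B⁆ * B⁻¹) := by
        simp only [commutatorElement_def]; group
      have h3 : B * cc σ hs (v / b) b * B⁻¹ = cc σ hs (v / b) b := by
        have h4 : cc σ hs (v / b) b * (B * cc σ hs (v / b) b * B⁻¹) = 1 := e.symm.trans hq
        rw [← inv_eq_of_mul_eq_one_right h4, inv_eq_of_mul_eq_one_right hc2]
      have hcomm : Commute B (cc σ hs (v / b) b) := mul_inv_eq_iff_eq_mul.1 h3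
      obtain ⟨z, hz, rfl⟩ := StemBasic.exists_ker_mul (hy.trans hC.symm)
      obtain ⟨z', hz', rfl⟩ := StemBasic.exists_ker_mul (hh.trans (lift_spec σ hs 1 2 b).symm)
      exact ((hcomm.symm.mul_right (central z' hz' _)).mul_left (central z hz _).symm)

/-- The kernel of a perfect central extension of `PSL_3(4)` of exponent two has order at most four. -/
theorem card_ker_le [Fintype F] (hF : Fintype.card F = 4) [Finite L] (hs : Function.Surjective σ)
    (hc : σ.ker ≤ Subgroup.center L) (he : ∀ z : L, σ z = 1 → z * z = 1)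
    (hperf : commutator L = ⊤) : Nat.card σ.ker ≤ 4 := by
  obtain ⟨h2, w, hw0, hw1, hall⟩ := field_four hF
  have hcom := fun (a b v : F) {g h x y : L} (hg : σ g = proj (tv 0 1 a)) (hh : σ h = proj (tv 1 2 b))
      (hx : σ x = proj (tv 0 2 v)) (hy : σ y = proj (tv 0 2 v)) =>
    highest_commute σ hs hc he h2 hw0 hw1 a b v hg hh hx hy
  have top : ∀ (a a' : F) {x y : L}, σ x = proj (tv 0 2 a) → σ y = proj (tv 0 2 a') → Commute x y :=
    fun a a' x y hx hy => lifts_commute σ hs hc (k := 1) (by decide) (by decide) (by decide) hx hy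
  -- biadditivity
  have addl : ∀ a a' b : F, cc σ hs (a + a') b = cc σ hs a b * cc σ hs a' b := by
    intro a a' b
    have e : σ (lift σ hs 0 1 (a + a')) = σ (lift σ hs 0 1 a * lift σ hs 0 1 a') := by
      rw [lift_spec, tv_add (by decide), map_mul, map_mul, lift_spec, lift_spec]
    have e' : ∀ X Y B : L, ⁅X * Y, B⁆ = X * ⁅Y, B⁆ * X⁻¹ * ⁅X, B⁆ := fun X Y B => by
      simp only [commutatorElement_def]; group
    rw [cc, StemPairing.bracket_congr hc e (rfl : σ (lift σ hs 1 2 b) = _), e']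
    change _ * cc σ hs a' b * _ * cc σ hs a b = _
    rw [← (hcom a b (a' * b) (lift_spec σ hs 0 1 a) (lift_spec σ hs 1 2 b) (cc_spec σ hs a' b)
      (cc_spec σ hs a' b)).1.eq, mul_inv_cancel_right]
    exact (top _ _ (cc_spec σ hs a' b) (cc_spec σ hs a b)).eq
  have addr : ∀ a b b' : F, cc σ hs a (b + b') = cc σ hs a b * cc σ hs a b' := by
    intro a b b'
    have e : σ (lift σ hs 1 2 (b + b')) = σ (lift σ hs 1 2 b * lift σ hs 1 2 b') := by
      rw [lift_spec, tv_add (by decide), map_mul, map_mul, lift_spec, lift_spec]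
    have e' : ∀ A X Y : L, ⁅A, X * Y⁆ = ⁅A, X⁆ * (X * ⁅A, Y⁆ * X⁻¹) := fun A X Y => by
      simp only [commutatorElement_def]; group
    rw [cc, StemPairing.bracket_congr hc (rfl : σ (lift σ hs 0 1 a) = _) e, e']
    change cc σ hs a b * (_ * cc σ hs a b' * _) = _
    rw [← (hcom a b (a * b') (lift_spec σ hs 0 1 a) (lift_spec σ hs 1 2 b) (cc_spec σ hs a b')
      (cc_spec σ hs a b')).2.eq, mul_inv_cancel_right]
  have ccr0 : ∀ a : F, cc σ hs a 0 = 1 := fun a => by
    have := addr a 0 0
    rw [add_zero] at this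
    exact left_eq_mul.1 this
  have ccl0 : ∀ b : F, cc σ hs 0 b = 1 := fun b => by
    have := addl 0 0 b
    rw [add_zero] at this
    exact left_eq_mul.1 this
  -- the group generated by all the commutators
  let Ψ : Multiplicative (F × F) →* L :=
    { toFun := fun x => cc σ hs 1 x.toAdd.1 * cc σ hs w x.toAdd.2
      map_one' := by simp [ccr0]
      map_mul' := fun x y => by
        simp only [toAdd_mul, Prod.fst_add, Prod.snd_add, addr]
        have hcm := top _ _ (cc_spec σ hs 1 y.toAdd.1) (cc_spec σ hs w x.toAdd.2)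
        simp only [mul_assoc]
        rw [← mul_assoc (cc σ hs 1 y.toAdd.1), hcm.eq, mul_assoc] }
  have hcΨ : ∀ a b : F, cc σ hs a b ∈ Ψ.range := by
    intro a b
    rcases hall a with rfl | rfl | rfl | rfl
    · rw [ccl0]; exact one_mem _
    · exact ⟨Multiplicative.ofAdd (b, 0), by simp [Ψ, ccr0]⟩
    · exact ⟨Multiplicative.ofAdd (0, b), by simp [Ψ, ccr0]⟩
    · exact ⟨Multiplicative.ofAdd (b, b), by simp [Ψ, addl]⟩
  set K := (sylow (F := F) h2).comap σ with hK
  -- decomposition and commutators in the preimage of the Sylow subgroup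
  have hdec : ∀ g ∈ K, ∃ (a b : F) (h : L), g = lift σ hs 0 1 a * lift σ hs 1 2 b * h ∧
      ∃ v, σ h = proj (tv 0 2 v) := by
    intro g hg
    obtain ⟨⟨a, b, c⟩, habc⟩ := hg
    change proj (uni a b c) = σ g at habc
    refine ⟨a, b, (lift σ hs 0 1 a * lift σ hs 1 2 b)⁻¹ * g, (mul_inv_cancel_left _ _).symm, c, ?_⟩
    rw [map_mul, map_inv, map_mul, lift_spec, lift_spec, ← habc, uni, map_mul, map_mul,
      inv_mul_cancel_left]
  have hbr : ∀ g ∈ K, ∀ g' ∈ K, ⁅g, g'⁆ ∈ Ψ.range := by
    intro g hg g' hg'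
    obtain ⟨a, b, h, rfl, v, hv⟩ := hdec g hg
    obtain ⟨a', b', h', rfl, v', hv'⟩ := hdec g' hg'
    set x := lift σ hs 0 1 a
    set y := lift σ hs 1 2 b
    set x' := lift σ hs 0 1 a'
    set y' := lift σ hs 1 2 b'
    have hx := lift_spec σ hs 0 1 a
    have hy := lift_spec σ hs 1 2 b
    have hx' := lift_spec σ hs 0 1 a'
    have hy' := lift_spec σ hs 1 2 b'
    have c1 : Commute h (x' * y' * h') :=
      ((hcom a' b' v hx' hy' hv hv).1.mul_right (hcom a' b' v hx' hy' hv hv).2).mul_right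
        (top _ _ hv hv')
    have c2 : Commute h' (x * y) :=
      (hcom a b v' hx hy hv' hv').1.mul_right (hcom a b v' hx hy hv' hv').2
    have r1 : ∀ P H Q : L, Commute H Q → ⁅P * H, Q⁆ = ⁅P, Q⁆ := fun P H Q hq => by
      rw [commutatorElement_def, commutatorElement_def, mul_assoc P H Q, hq.eq]
      group
    have r2 : ∀ P H Q : L, Commute H P → ⁅P, Q * H⁆ = ⁅P, Q⁆ := fun P H Q hq => by
      rw [commutatorElement_def, commutatorElement_def, mul_inv_rev, mul_assoc (P * (Q * H)) P⁻¹,
        ← mul_assoc P⁻¹ H⁻¹, (hq.inv_inv).symm.eq]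
      group
    rw [r1 _ _ _ c1, r2 _ _ _ c2]
    have e : ⁅x * y, x' * y'⁆ =
        x * (⁅y, x'⁆ * (x' * ⁅y, y'⁆ * x'⁻¹)) * x⁻¹ * (⁅x, x'⁆ * (x' * ⁅x, y'⁆ * x'⁻¹)) := by
      simp only [commutatorElement_def]; group
    have exx : ⁅x, x'⁆ = 1 := commutatorElement_eq_one_iff_mul_comm.2
      (lifts_commute σ hs hc (k := 2) (by decide) (by decide) (by decide) hx hx')
    have eyy : ⁅y, y'⁆ = 1 := commutatorElement_eq_one_iff_mul_comm.2
      (lifts_commute σ hs hc (k := 0) (by decide) (by decide) (by decide) hy hy')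
    have eyx : ⁅y, x'⁆ = (cc σ hs a' b)⁻¹ := (commutatorElement_inv _ _).symm
    rw [e, exx, eyy, eyx, show ⁅x, y'⁆ = cc σ hs a b' from rfl]
    simp only [mul_one, mul_inv_cancel, one_mul]
    have f1 := (hcom a b (a' * b) hx hy (cc_spec σ hs a' b) (cc_spec σ hs a' b)).1.inv_left
    have f2 := (hcom a' b' (a * b') hx' hy' (cc_spec σ hs a b') (cc_spec σ hs a b')).1
    rw [← f1.eq, mul_inv_cancel_right, ← f2.eq, mul_inv_cancel_right]
    exact mul_mem (inv_mem (hcΨ _ _)) (hcΨ _ _)
  have hKΨ : (commutator K).map K.subtype ≤ Ψ.range := by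
    rw [_root_.commutator_def, Subgroup.map_commutator, Subgroup.commutator_le]
    rintro _ ⟨p, -, rfl⟩ _ ⟨q, -, rfl⟩
    exact hbr _ p.2 _ q.2
  -- the kernel
  have hker : ∀ z : L, σ z = 1 → ∃ t : F, Ψ (Multiplicative.ofAdd (w * t, t)) = z := by
    intro z hz
    have hzK : z ∈ K := by
      show σ z ∈ sylow h2
      rw [hz]; exact one_mem _
    have hcop : Nat.Coprime (orderOf z) K.index := by
      rw [hK, StemBasic.index_comap hs, index_sylow h2 hF]
      refine Nat.Coprime.coprime_dvd_left (orderOf_dvd_of_pow_eq_one (n := 2) ?_) (by norm_num)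
      rw [pow_two, he z hz]
    obtain ⟨u, hu⟩ := hKΨ (StemBasic.mem_commutator_of_index hzK (hc hz)
      (by rw [hperf]; exact Subgroup.mem_top z) hcop)
    have hσ : σ z = proj (tv 0 2 (u.toAdd.1 + w * u.toAdd.2)) := by
      rw [← hu]
      simp [Ψ, cc_spec, tv_add (show (0 : Fin 3) ≠ 2 by decide)]
    rw [hz] at hσ
    have hmem : uni 0 0 (u.toAdd.1 + w * u.toAdd.2) ∈ Subgroup.center SL(3, F) := by
      rw [uni, tv_zero, tv_zero, one_mul, one_mul]
      exact (QuotientGroup.eq_one_iff _).1 hσ.symm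
    have h0 := (uni_center hmem).2.2
    refine ⟨u.toAdd.2, ?_⟩
    rw [← hu]
    congr 1
    refine congrArg Multiplicative.ofAdd (Prod.ext ?_ rfl : (w * u.toAdd.2, u.toAdd.2) = u.toAdd)
    show w * u.toAdd.2 = u.toAdd.1
    linear_combination h0 - add_self h2 (u.toAdd.1)
  have hsub : (σ.ker : Set L) ⊆ Set.range fun t : F => Ψ (Multiplicative.ofAdd (w * t, t)) :=
    fun z hz => hker z hz
  calc Nat.card σ.ker ≤ Nat.card (Set.range fun t : F => Ψ (Multiplicative.ofAdd (w * t, t))) :=
        Nat.card_mono (Set.toFinite _) hsub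
    _ ≤ Nat.card F := Finite.card_range_le _
    _ = 4 := by rw [Nat.card_eq_fintype_card, hF]

end Extension

end Cfsg.Agent.L34MultiplierBound
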