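import Mathlib
import Cfsg.Agent.Lib.CITGraph39
import Cfsg.Agent.Lib.CyclotomicPrime39
import Cfsg.Agent.Lib.PSLCard
import Cfsg.Agent.Lib.PSL2Sylow
import Cfsg.Agent.Lib.DirectSquarePSL2
import Cfsg.Agent.Lib.L34MultiplierBound

/-!
# The prime graph of `PSL₂(2^m)`: recognition from the classification of CIT groups
-/

set_option autoImplicit false
set_option linter.unusedSectionVars false

namespace Cfsg.Agent.CITGraphEven39

open Cfsg.Agent.CITGraph39 Cfsg.Agent.PrimeGraphSolvable

universe u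

/-- The conclusion of the classification of simple CIT groups, in one universe. -/
def Classify : Prop :=
  ∀ (H : Type u) [Group H] [Finite H] [IsSimpleGroup H], (∃ a b : H, a * b ≠ b * a) → CIT21.IsCIT H →
    (∃ (F : Type) (_ : Field F) (_ : Fintype F),
        (Fintype.card F = 9 ∨ (∃ n : ℕ, Fintype.card F = 2 ^ n) ∨
          ((Fintype.card F).Prime ∧ ∃ k : ℕ, Fintype.card F = 2 ^ k + 1 ∨ Fintype.card F + 1 = 2 ^ k)) ∧
        Nonempty (H ≃* Matrix.ProjectiveSpecialLinearGroup (Fin 2) F)) ∨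
    (∃ (F : Type) (_ : Field F) (_ : Fintype F), Fintype.card F = 4 ∧
        Nonempty (H ≃* Matrix.ProjectiveSpecialLinearGroup (Fin 3) F)) ∨
    Cfsg.IsSuzuki H

theorem ne_two {r a : ℕ} (ha : a ≠ 0) (h : r ∣ 2 ^ a - 1) : r ≠ 2 := by
  rintro rfl
  have h2 : 2 ∣ 2 ^ a := dvd_pow_self 2 ha
  have := Nat.dvd_sub h2 h
  rw [Nat.sub_sub_self Nat.one_le_two_pow] at this
  omega

/-- Divisibility of `2 ^ a - 1` by a prime through the order of two. -/
theorem dvd_iff_ord {r a : ℕ} : r ∣ 2 ^ a - 1 ↔ orderOf (2 : ZMod r) ∣ a := by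
  rw [orderOf_dvd_iff_pow_eq_one, ← ZMod.natCast_eq_zero_iff, Nat.cast_sub Nat.one_le_two_pow,
    sub_eq_zero]
  norm_num

theorem dvd_of_dvd_succ {r a : ℕ} (h : r ∣ 2 ^ a + 1) : r ∣ 2 ^ (2 * a) - 1 := by
  refine h.trans ⟨2 ^ a - 1, ?_⟩
  rw [← Nat.sq_sub_sq, one_pow, ← pow_mul, mul_comm]

theorem two_dvd_card {p : ℕ} [hp : Fact p.Prime] {H : Type*} [Group H] [Finite H] (P : Sylow p H)
    {k b : ℕ} (hc : Nat.card H = p ^ k * b) (hb : ¬ p ∣ b) : Nat.card ↥(P : Subgroup H) = p ^ k :=
  PSL2Sylow.sylow_card_eq hc hb P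

/-- A `2`-element of `PSL₂` in characteristic two is an involution. -/
theorem sq_of_two {F : Type*} [Field F] [Finite F] [CharP F 2] {n : ℕ} (hn : n ≠ 0)
    (hq : Nat.card F = 2 ^ n) {g : Matrix.ProjectiveSpecialLinearGroup (Fin 2) F}
    (hg : ∃ k : ℕ, orderOf g = 2 ^ k) : g * g = 1 := by
  haveI : Fact (Nat.Prime 2) := ⟨Nat.prime_two⟩
  have hmem : orderOf g ∈ Set.range (orderOf : Matrix.ProjectiveSpecialLinearGroup (Fin 2) F → ℕ) :=
    ⟨g, rfl⟩
  rw [DirectSquarePSL2.range_psl2 2] at hmem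
  obtain ⟨l, hl, hd⟩ := hmem
  obtain ⟨k, hk⟩ := hg
  have heven : 2 ∣ 2 ^ n := dvd_pow_self 2 hn
  have h1 := Nat.one_le_two_pow (n := n)
  rcases Nat.eq_zero_or_pos k with rfl | hk0
  · rw [pow_zero, orderOf_eq_one_iff] at hk
    rw [hk, one_mul]
  have h2g : 2 ∣ orderOf g := hk ▸ dvd_pow_self 2 hk0.ne'
  have hgcd : Nat.gcd 2 (2 ^ n - 1) = 1 := by
    rcases Nat.prime_two.eq_one_or_self_of_dvd _ (Nat.gcd_dvd_left 2 (2 ^ n - 1)) with h | h
    · exact h
    · have := h ▸ Nat.gcd_dvd_right 2 (2 ^ n - 1)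
      omega
  simp only [List.mem_cons, List.not_mem_nil, or_false, hq, hgcd, Nat.div_one] at hl
  rcases hl with h | h | h
  · rw [← pow_two]; exact orderOf_dvd_iff_pow_eq_one.mp (h ▸ hd)
  · rw [h] at hd; have := h2g.trans hd; omega
  · rw [h] at hd; have := h2g.trans hd; omega

set_option maxHeartbeats 1000000 in
/-- A CIT group without normal `2`-subgroup whose prime graph is that of `PSL₂(2^m)`. -/
theorem main (hC : Classify.{u}) {F : Type*} [Field F] [Fintype F] {m : ℕ} (hm : 4 ≤ m)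
    (hF : Fintype.card F = 2 ^ m) {G : Type u} [Group G] [Finite G] (H : CIT21.IsCIT G)
    (hcore : Cfsg.pCore 2 G = ⊥)
    (hπ : ∀ r : ℕ, r.Prime → (r ∣ Nat.card G ↔ r = 2 ∨ r ∣ 2 ^ (2 * m) - 1))
    (hsep : ∀ p : ℕ, p.Prime → p ≠ 2 → p ∣ Nat.card G →
      ∃ s : ℕ, s.Prime ∧ s ≠ 2 ∧ s ≠ p ∧ s ∣ Nat.card G ∧ NoEdge G p s)
    (h35 : m = 6 → NoEdge G 3 5) :
    Nonempty (G ≃* Matrix.ProjectiveSpecialLinearGroup (Fin 2) F) := by
  haveI : Fact (Nat.Prime 2) := ⟨Nat.prime_two⟩
  obtain ⟨N, hN, hNs, h2N, hna⟩ :=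
    exists_simple_normal H ((hπ 2 Nat.prime_two).mpr (Or.inl rfl)) hcore hsep
  haveI := hN
  haveI := hNs
  have HN : CIT21.IsCIT ↥N := by
    intro t ht c
    obtain ⟨k, hk⟩ := H (t : G) (by rw [Subgroup.orderOf_coe, ht])
      ⟨((c : ↥N) : G), Subgroup.mem_centralizer_singleton_iff.mpr
        (congrArg Subtype.val (Subgroup.mem_centralizer_singleton_iff.mp c.2))⟩
    exact ⟨k, Subtype.ext (Subtype.ext (by simpa using congrArg Subtype.val hk))⟩
  obtain ⟨P⟩ : Nonempty (Sylow 2 ↥N) := inferInstance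
  have hsub : ∀ {r : ℕ}, r ∣ Nat.card ↥N → r ∣ Nat.card G :=
    fun h => h.trans (Subgroup.card_subgroup_dvd_card N)
  have hordN : ∀ {r : ℕ}, r.Prime → r ≠ 2 → r ∣ Nat.card ↥N → orderOf (2 : ZMod r) ∣ 2 * m :=
    fun hr h2 h => dvd_iff_ord.mp (((hπ _ hr).mp (hsub h)).resolve_left h2)
  obtain ⟨r, hr, hrd, hro⟩ := CyclotomicPrime39.exists_primitive (N := 2 * m) (by omega)
  have hr2 : r ≠ 2 := ne_two (by omega) hrd
  have hrG : r ∣ Nat.card G := (hπ r hr).mpr (Or.inr hrd)
  haveI := Fact.mk hr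
  have hr_big : 2 * m + 1 ≤ r := by
    have h2 : (2 : ZMod r) ≠ 0 := by
      intro h
      have h' : ((2 : ℕ) : ZMod r) = 0 := by exact_mod_cast h
      rw [ZMod.natCast_eq_zero_iff] at h'
      exact hr2 ((Nat.prime_dvd_prime_iff_eq hr Nat.prime_two).mp h')
    have := Nat.le_of_dvd (by have := hr.two_le; omega) (hro ▸ ZMod.orderOf_dvd_card_sub_one h2)
    omega
  -- a small Sylow `2`-subgroup confines `r` to `N`
  have hin : ∀ {k : ℕ}, Nat.card ↥(P : Subgroup ↥N) = 2 ^ k → k < 2 * m → r ∣ Nat.card ↥N := by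
    intro k hk hkm
    by_contra hrN
    obtain ⟨j, hj0, hjd, hjr, -⟩ := outer_prime H hNs hna h2N P hr hr2 hrG hrN
    rw [hk, Nat.pow_dvd_pow_iff_le_right one_lt_two] at hjd
    have := Nat.le_of_dvd hj0 (hro ▸ dvd_iff_ord.mp hjr)
    omega
  rcases hC ↥N hna HN with ⟨K, _, _, hK, ⟨e⟩⟩ | ⟨K, _, _, hK, ⟨e⟩⟩ | ⟨-, l, hl, hcard⟩
  · have hKc : Nat.card K = Fintype.card K := Nat.card_eq_fintype_card
    have hNc : Nat.card ↥N = Nat.card (Matrix.ProjectiveSpecialLinearGroup (Fin 2) K) :=
      Nat.card_congr e.toEquiv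
    rcases hK with h9 | ⟨n, hn⟩ | ⟨hp, k, hk⟩
    · exfalso
      rw [PSLCard.card_PSL2_odd (by rw [hKc, h9]; decide), hKc, h9] at hNc
      norm_num at hNc
      have hP := two_dvd_card P (k := 3) (b := 45) (by rw [hNc]; norm_num) (by norm_num)
      have h := hin hP (by omega)
      rw [hNc, show 360 = 2 ^ 3 * (3 ^ 2 * 5) by norm_num] at h
      rcases hr.dvd_mul.mp h with h | h
      · exact hr2 ((Nat.prime_dvd_prime_iff_eq hr Nat.prime_two).mp (hr.dvd_of_dvd_pow h))
      rcases hr.dvd_mul.mp h with h | h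
      · have := Nat.le_of_dvd (by norm_num) (hr.dvd_of_dvd_pow h); omega
      · have := Nat.le_of_dvd (by norm_num) h; omega
    · -- characteristic two
      have hn0 : n ≠ 0 := by
        rintro rfl; have := Fintype.one_lt_card (α := K); omega
      have hKn : Nat.card K = 2 ^ n := hKc.trans hn
      haveI : CharP K 2 := charP_of_card_eq_prime_pow hn
      rw [PSLCard.card_PSL2_even (by rw [hKn]; exact Nat.even_pow.mpr ⟨by norm_num, hn0⟩), hKn,
        ← pow_mul, mul_comm n 2] at hNc
      have hb : ¬ 2 ∣ 2 ^ (2 * n) - 1 := fun h => ne_two (by omega) h rfl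
      have hP := two_dvd_card P hNc hb
      have hel : ∀ z ∈ (P : Subgroup ↥N), z * z = 1 := by
        intro z hz
        obtain ⟨k, hk⟩ := (IsPGroup.iff_orderOf.mp P.isPGroup') ⟨z, hz⟩
        rw [Subgroup.orderOf_mk] at hk
        exact e.injective (by
          rw [map_mul, map_one]
          exact sq_of_two hn0 hKn ⟨k, by rw [MulEquiv.orderOf_eq, hk]⟩)
      have hnm : 2 * m ∣ 2 * n := by
        have hrN : r ∣ Nat.card ↥N := by
          by_cases h : n < 2 * m
          · exact hin hP h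
          · have h8 : 8 ≤ Nat.card ↥(P : Subgroup ↥N) := by
              rw [hP]
              exact (show 8 = 2 ^ 3 by norm_num) ▸ Nat.pow_le_pow_right (by norm_num) (by omega)
            rw [no_outer H hNs hna h2N P hel h8, Subgroup.card_top]
            exact hrG
        rw [hNc] at hrN
        rcases hr.dvd_mul.mp hrN with h | h
        · exact absurd ((Nat.prime_dvd_prime_iff_eq hr Nat.prime_two).mp (hr.dvd_of_dvd_pow h)) hr2
        · exact hro ▸ dvd_iff_ord.mp h
      have hn4 : m ≤ n := by have := Nat.le_of_dvd (by omega) hnm; omega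
      obtain ⟨s, hs, hsd, hso⟩ := CyclotomicPrime39.exists_primitive (N := 2 * n) (by omega)
      have hsm := hordN hs (ne_two (by omega) hsd) (hNc ▸ hsd.mul_left _)
      rw [hso] at hsm
      obtain rfl : n = m := by have := Nat.le_of_dvd (by omega) hsm; omega
      have htop := no_outer H hNs hna h2N P hel (by
        rw [hP]; exact (show 8 = 2 ^ 3 by norm_num) ▸ Nat.pow_le_pow_right (by norm_num) (by omega))
      let eF : K ≃+* F := FiniteField.ringEquivOfCardEq (hn.trans hF.symm)
      exact ⟨((Subgroup.topEquiv.symm.trans (MulEquiv.subgroupCongr htop.symm)).trans e).trans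
        (PSLCard.pslEquiv eF)⟩
    · exfalso
      haveI := Fact.mk hp
      set p := Fintype.card K with hpdef
      have hp2 : p ≠ 2 := by
        intro h
        have hKn : Nat.card K = 2 := hKc.trans h
        rw [PSLCard.card_PSL2_even (by rw [hKn]; decide), hKn] at hNc
        norm_num at hNc
        have hP := two_dvd_card P (k := 1) (b := 3) (by rw [hNc]; norm_num) (by norm_num)
        have h6 := hin hP (by omega)
        rw [hNc] at h6
        have := Nat.le_of_dvd (by norm_num) h6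
        omega
      have hpodd : Odd p := hp.odd_of_ne_two hp2
      rw [PSLCard.card_PSL2_odd (by rw [hKc]; exact hpodd), hKc] at hNc
      by_cases hp3 : p = 3
      · rw [hp3] at hNc
        norm_num at hNc
        have hP := two_dvd_card P (k := 2) (b := 3) (by rw [hNc]; norm_num) (by norm_num)
        have h := hin hP (by omega)
        rw [hNc] at h
        have := Nat.le_of_dvd (by norm_num) h
        have : r ∣ 12 := h
        interval_cases r <;> first | omega | norm_num at hr
      have hp5 : 5 ≤ p := by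
        have := hp.two_le; obtain ⟨i, hi⟩ := hpodd; omega
      have hk2 : 2 ≤ k := by
        by_contra h
        interval_cases k <;> omega
      obtain ⟨i, rfl⟩ : ∃ i, k = i + 1 := ⟨k - 1, by omega⟩
      have hpow : 2 ^ (i + 1) = 2 * 2 ^ i := pow_succ' 2 i
      obtain ⟨c, hc, hNc'⟩ : ∃ c : ℕ, (c = 2 ^ i + 1 ∧ p = 2 ^ (i + 1) + 1 ∨
          c + 1 = 2 ^ i ∧ p + 1 = 2 ^ (i + 1)) ∧ Nat.card ↥N = 2 ^ (i + 1) * (p * c) := by
        have e2 : p ^ 2 - 1 = (p + 1) * (p - 1) := by rw [← Nat.sq_sub_sq, one_pow]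
        rcases hk with hk | hk
        · refine ⟨2 ^ i + 1, Or.inl ⟨rfl, hk⟩, ?_⟩
          rw [hNc, e2, show p + 1 = 2 * (2 ^ i + 1) by omega, show p - 1 = 2 ^ (i + 1) by omega,
            show p * (2 * (2 ^ i + 1) * 2 ^ (i + 1)) = 2 * (2 ^ (i + 1) * (p * (2 ^ i + 1))) by ring,
            Nat.mul_div_cancel_left _ two_pos]
        · refine ⟨2 ^ i - 1, Or.inr ⟨Nat.sub_add_cancel Nat.one_le_two_pow, hk⟩, ?_⟩
          have := Nat.one_le_two_pow (n := i)
          rw [hNc, e2, show p + 1 = 2 ^ (i + 1) by omega, show p - 1 = 2 * (2 ^ i - 1) by omega,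
            show p * (2 ^ (i + 1) * (2 * (2 ^ i - 1))) = 2 * (2 ^ (i + 1) * (p * (2 ^ i - 1))) by ring,
            Nat.mul_div_cancel_left _ two_pos]
      have heven : 2 ∣ 2 ^ i := dvd_pow_self 2 (by omega)
      have hcodd : ¬ 2 ∣ c := by
        rcases hc with ⟨h, -⟩ | ⟨h, -⟩ <;> omega
      have hP := two_dvd_card P hNc' (fun h => (Nat.prime_two.dvd_mul.mp h).elim
        (fun h => hp2 ((Nat.prime_dvd_prime_iff_eq Nat.prime_two hp).mp h).symm) hcodd)
      have hpN : p ∣ Nat.card ↥N := hNc' ▸ (dvd_mul_right p c).mul_left _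
      have hop : orderOf (2 : ZMod p) ∣ 2 * m := hordN hp hp2 hpN
      have hopk : i + 1 ∣ orderOf (2 : ZMod p) := by
        have h1 : orderOf (2 : ZMod p) ∣ 2 * (i + 1) := by
          refine dvd_iff_ord.mp ?_
          rcases hc with ⟨-, h⟩ | ⟨-, h⟩
          · exact dvd_of_dvd_succ (by rw [← h])
          · refine dvd_iff_ord.mpr ((dvd_iff_ord.mp ?_).mul_left 2)
            rw [show 2 ^ (i + 1) - 1 = p by omega]
        set o := orderOf (2 : ZMod p) with ho
        have hopos : 0 < o := Nat.pos_of_dvd_of_pos h1 (by omega)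
        have hle : i + 1 ≤ o := by
          have h2 : p ∣ 2 ^ o - 1 := dvd_iff_ord.mpr dvd_rfl
          have h3 : 2 ^ 1 ≤ 2 ^ o := Nat.pow_le_pow_right (by norm_num) hopos
          have h4 := Nat.le_of_dvd (by omega) h2
          have h5 : 2 ^ (i + 1) ≤ 2 ^ o := by
            rcases hc with ⟨-, h⟩ | ⟨-, h⟩ <;> omega
          exact (Nat.pow_le_pow_iff_right one_lt_two).mp h5
        obtain ⟨d, hd⟩ := h1
        rcases d with - | - | - | d
        · omega
        · exact ⟨2, by omega⟩
        · exact ⟨1, by omega⟩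
        · nlinarith
      have hk2m : i + 1 ∣ 2 * m := hopk.trans hop
      -- the Mersenne exponent is odd
      have hmers : p + 1 = 2 ^ (i + 1) → ¬ 2 ∣ i + 1 := by
        rintro h ⟨a, ha⟩
        have h3 : 3 ∣ p := by
          have : 3 ∣ 2 ^ (i + 1) - 1 := by
            rw [ha, pow_mul]
            exact Nat.sub_one_dvd_pow_sub_one (2 ^ 2) a
          rwa [show 2 ^ (i + 1) - 1 = p by omega] at this
        exact hp3 ((Nat.prime_dvd_prime_iff_eq Nat.prime_three hp).mp h3).symm
      by_cases hrN : r ∣ Nat.card ↥N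
      · rw [hNc'] at hrN
        rcases hr.dvd_mul.mp hrN with h | h
        · exact hr2 ((Nat.prime_dvd_prime_iff_eq hr Nat.prime_two).mp (hr.dvd_of_dvd_pow h))
        rcases hr.dvd_mul.mp h with h | h
        · obtain rfl := (Nat.prime_dvd_prime_iff_eq hr hp).mp h
          rcases hc with ⟨hc, hpe⟩ | ⟨-, hpe⟩
          · -- a Fermat prime
            have hd : 2 * m ∣ 2 * (i + 1) := hro ▸ dvd_iff_ord.mp (dvd_of_dvd_succ (by rw [← hpe]))
            have hm' : m = i + 1 ∨ 2 * m = i + 1 := by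
              have := Nat.le_of_dvd (by omega) hd
              have h2 := Nat.le_of_dvd (by omega) hk2m
              obtain ⟨a, ha⟩ := hk2m
              rcases a with - | - | - | a
              · omega
              · omega
              · omega
              · nlinarith
            rcases hm' with rfl | h2m
            · by_cases hi4 : 4 ≤ i
              · obtain ⟨s, hs, hsd, hso⟩ := CyclotomicPrime39.exists_primitive (N := 2 * i) (by omega)
                have hs2 : s ≠ 2 := ne_two (by omega) hsd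
                have hsc : s ∣ c := by
                  rw [hc]
                  have e2 : 2 ^ (2 * i) - 1 = (2 ^ i + 1) * (2 ^ i - 1) := by
                    rw [← Nat.sq_sub_sq, one_pow, ← pow_mul, mul_comm i 2]
                  refine (hs.dvd_mul.mp (e2 ▸ hsd)).resolve_right fun h => ?_
                  have := Nat.le_of_dvd (by omega) (hso ▸ dvd_iff_ord.mp h)
                  omega
                have h := hordN hs hs2 (hNc' ▸ (hsc.mul_left _).mul_left _)
                rw [hso] at h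
                have := (Nat.dvd_sub h (dvd_refl (2 * i)))
                rw [show 2 * (i + 1) - 2 * i = 2 by omega] at this
                have := Nat.le_of_dvd two_pos this
                omega
              · obtain rfl : i = 3 := by omega
                norm_num at hpe hc
                subst hc
                have h5G : 5 ∣ Nat.card G := (hπ 5 (by norm_num)).mpr (Or.inr (by norm_num))
                have h5N : ¬ 5 ∣ Nat.card ↥N := by rw [hNc', hpe]; norm_num
                obtain ⟨j, hj0, hjd, hjr, hel⟩ :=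
                  outer_prime H hNs hna h2N P (show Nat.Prime 5 by norm_num) (by norm_num) h5G h5N
                rw [hP, Nat.pow_dvd_pow_iff_le_right one_lt_two] at hjd
                norm_num at hjd
                have hj4 : j = 4 := by interval_cases j <;> first | rfl | norm_num at hjr
                subst hj4
                have h := elem_count H hNs hna h2N P (hel (by rw [hP]))
                rw [hP, hNc', hpe] at h
                norm_num at h
            · -- `p - 1` is a square less one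
              have : p ∣ 2 ^ (i + 1) - 1 := h2m ▸ hrd
              have h2 : p ∣ 2 ^ (i + 1) + 1 := by rw [← hpe]
              have h3 := Nat.dvd_sub h2 this
              rw [show 2 ^ (i + 1) + 1 - (2 ^ (i + 1) - 1) = 2 by
                have := Nat.one_le_two_pow (n := i + 1); omega] at h3
              exact hp2 ((Nat.prime_dvd_prime_iff_eq hp Nat.prime_two).mp h3)
          · have hd : 2 * m ∣ i + 1 := hro ▸ dvd_iff_ord.mp (by rw [show 2 ^ (i + 1) - 1 = p by omega])
            exact hmers hpe ((dvd_mul_right 2 m).trans hd)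
        · have hd : 2 * m ∣ 2 * i := hro ▸ dvd_iff_ord.mp (by
            rcases hc with ⟨hc, -⟩ | ⟨hc, -⟩
            · exact dvd_of_dvd_succ (hc ▸ h)
            · refine dvd_iff_ord.mpr ((dvd_iff_ord.mp ?_).mul_left 2)
              rw [show 2 ^ i - 1 = c by omega]; exact h)
          have h2 : i + 1 ∣ 2 * i := hk2m.trans hd
          have h3 := Nat.dvd_sub (dvd_mul_left (i + 1) 2) h2
          rw [show 2 * (i + 1) - 2 * i = 2 by omega] at h3
          have := Nat.le_of_dvd two_pos h3
          have := Nat.le_of_dvd (by omega) hd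
          omega
      · obtain ⟨j, hj0, hjd, hjr, -⟩ := outer_prime H hNs hna h2N P hr hr2 hrG hrN
        rw [hP, Nat.pow_dvd_pow_iff_le_right one_lt_two] at hjd
        have h1 := Nat.le_of_dvd hj0 (hro ▸ dvd_iff_ord.mp hjr)
        have h2 := Nat.le_of_dvd (by omega) hk2m
        have h2m : 2 * m = i + 1 := by omega
        rcases hc with ⟨-, hpe⟩ | ⟨-, hpe⟩
        · have : p ∣ 2 ^ (i + 1) - 1 := h2m ▸ dvd_iff_ord.mpr hop
          have h2 : p ∣ 2 ^ (i + 1) + 1 := by rw [← hpe]
          have h3 := Nat.dvd_sub h2 this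
          rw [show 2 ^ (i + 1) + 1 - (2 ^ (i + 1) - 1) = 2 by
            have := Nat.one_le_two_pow (n := i + 1); omega] at h3
          exact hp2 ((Nat.prime_dvd_prime_iff_eq hp Nat.prime_two).mp h3)
        · exact hmers hpe ⟨m, h2m.symm⟩
  · exfalso
    have hNc : Nat.card ↥N = 20160 := (Nat.card_congr e.toEquiv).trans (L34MultiplierBound.card_psl hK)
    have hP := two_dvd_card P (k := 6) (b := 315) (by rw [hNc]; norm_num) (by norm_num)
    have h := hin hP (by omega)
    rw [hNc, show 20160 = 2 ^ 6 * (3 ^ 2 * (5 * 7)) by norm_num] at h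
    rcases hr.dvd_mul.mp h with h | h
    · exact hr2 ((Nat.prime_dvd_prime_iff_eq hr Nat.prime_two).mp (hr.dvd_of_dvd_pow h))
    rcases hr.dvd_mul.mp h with h | h
    · have := Nat.le_of_dvd (by norm_num) (hr.dvd_of_dvd_pow h); omega
    rcases hr.dvd_mul.mp h with h | h <;> (have := Nat.le_of_dvd (by norm_num) h; omega)
  · exfalso
    obtain ⟨n, hn⟩ : ∃ n, n = 2 * l + 1 := ⟨_, rfl⟩
    rw [← hn, ← pow_mul, mul_comm n 2, mul_assoc] at hcard
    set b := (2 ^ (2 * n) + 1) * (2 ^ n - 1) with hbdef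
    have h2n : 2 ∣ 2 ^ n := dvd_pow_self 2 (by omega)
    have h22n : 2 ∣ 2 ^ (2 * n) := dvd_pow_self 2 (by omega)
    have hb : ¬ 2 ∣ b := by
      intro h
      rcases Nat.prime_two.dvd_mul.mp h with h | h
      · omega
      · exact ne_two (show n ≠ 0 by omega) h rfl
    have hP := two_dvd_card P hcard hb
    obtain ⟨w0, hw0, hw0d, hw0o⟩ := CyclotomicPrime39.exists_primitive (N := 4 * n) (by omega)
    have hw0b : w0 ∣ 2 ^ (2 * n) + 1 := by
      have e2 : 2 ^ (4 * n) - 1 = (2 ^ (2 * n) + 1) * (2 ^ (2 * n) - 1) := by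
        rw [← Nat.sq_sub_sq, one_pow, ← pow_mul, show 2 * n * 2 = 4 * n by ring]
      refine (hw0.dvd_mul.mp (e2 ▸ hw0d)).resolve_right fun h => ?_
      have := Nat.le_of_dvd (by omega) (hw0o ▸ dvd_iff_ord.mp h)
      omega
    have h4n : 4 * n ∣ 2 * m :=
      hw0o ▸ hordN hw0 (ne_two (by omega) hw0d) (hcard ▸ (hw0b.mul_right _).mul_left _)
    have h4n' := Nat.le_of_dvd (by omega) h4n
    have hrN := hin hP (by omega)
    rw [hcard] at hrN
    have hmn : 2 * m ∣ 4 * n := by
      rcases hr.dvd_mul.mp hrN with h | h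
      · exact absurd ((Nat.prime_dvd_prime_iff_eq hr Nat.prime_two).mp (hr.dvd_of_dvd_pow h)) hr2
      rcases hr.dvd_mul.mp h with h | h
      · have h' := dvd_iff_ord.mp (dvd_of_dvd_succ h)
        rw [hro, show 2 * (2 * n) = 4 * n by ring] at h'
        exact h'
      · exact (hro ▸ dvd_iff_ord.mp h).mul_left 4
    obtain rfl : m = 2 * n := by have := Nat.le_of_dvd (by omega) hmn; omega
    obtain ⟨w, hw, hw2, hwd, hwn, hwo⟩ : ∃ w, w.Prime ∧ w ≠ 2 ∧ w ∣ 2 ^ n + 1 ∧
        ¬ w ∣ 2 ^ n - 1 ∧ (orderOf (2 : ZMod w) = 2 * n ∨ n = 3 ∧ w = 3) := by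
      rcases Nat.lt_or_ge n 4 with h | h
      · obtain rfl : n = 3 := by omega
        exact ⟨3, Nat.prime_three, by norm_num, by norm_num, by norm_num, Or.inr ⟨rfl, rfl⟩⟩
      · obtain ⟨w, hw, hwd, hwo⟩ := CyclotomicPrime39.exists_primitive (N := 2 * n) (by omega)
        have hwn : ¬ w ∣ 2 ^ n - 1 := fun h' => by
          have := Nat.le_of_dvd (by omega) (hwo ▸ dvd_iff_ord.mp h')
          omega
        have e2 : 2 ^ (2 * n) - 1 = (2 ^ n + 1) * (2 ^ n - 1) := by
          rw [← Nat.sq_sub_sq, one_pow, ← pow_mul, mul_comm n 2]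
        exact ⟨w, hw, ne_two (by omega) hwd, (hw.dvd_mul.mp (e2 ▸ hwd)).resolve_right hwn, hwn,
          Or.inl hwo⟩
    have hwG : w ∣ Nat.card G := (hπ w hw).mpr (Or.inr (by
      refine dvd_iff_ord.mpr ((dvd_iff_ord.mp (dvd_of_dvd_succ hwd)).trans ⟨2, by ring⟩)))
    have hwN : ¬ w ∣ Nat.card ↥N := by
      rw [hcard]
      intro h
      rcases hw.dvd_mul.mp h with h | h
      · exact hw2 ((Nat.prime_dvd_prime_iff_eq hw Nat.prime_two).mp (hw.dvd_of_dvd_pow h))
      rcases hw.dvd_mul.mp h with h | h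
      · have h1 := dvd_of_dvd_succ hwd
        have := Nat.one_le_two_pow (n := 2 * n)
        have h3 := Nat.dvd_sub h h1
        rw [show 2 ^ (2 * n) + 1 - (2 ^ (2 * n) - 1) = 2 by omega] at h3
        exact hw2 ((Nat.prime_dvd_prime_iff_eq hw Nat.prime_two).mp h3)
      · exact hwn h
    rcases hwo with hwo | ⟨rfl, rfl⟩
    · obtain ⟨j, hj0, hjd, hjr, hel⟩ := outer_prime H hNs hna h2N P hw hw2 hwG hwN
      rw [hP, Nat.pow_dvd_pow_iff_le_right one_lt_two] at hjd
      have hj : j = 2 * n := le_antisymm hjd (Nat.le_of_dvd hj0 (hwo ▸ dvd_iff_ord.mp hjr))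
      subst hj
      have h := elem_count H hNs hna h2N P (hel hP.symm)
      rw [hP] at h
      exact hwN ((dvd_iff_ord.mpr (dvd_of_eq hwo)).trans h)
    · have hN' : Nat.card ↥N = 29120 := by rw [hcard, hbdef]; norm_num
      obtain ⟨x, hx⟩ := edge_of_outer (N := N) Nat.prime_three (show Nat.Prime 5 by norm_num)
        (by rw [hN']; norm_num) (by rw [hN']; norm_num) hwN (by norm_num) hwG
      exact h35 (by norm_num) x (by rw [hx])

end Cfsg.Agent.CITGraphEven39
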