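import Mathlib
import Cfsg.Agent.Lib.CITGraphEven39
import Cfsg.Agent.Lib.FrobeniusComplement

/-!
# Groups with the prime graph of `PSL₂(2^m)`, given the classification of CIT groups
-/

set_option autoImplicit false
set_option linter.unusedSectionVars false

namespace Cfsg.Agent.CITRecog39

open Cfsg.Agent.CITGraph39 Cfsg.Agent.CITGraphEven39 Cfsg.Agent.PrimeGraphSolvable

universe u

/-- Edges of a quotient lift. -/
theorem noEdge_quot {G : Type*} [Group G] [Finite G] {O : Subgroup G} [O.Normal] {a b : ℕ}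
    (h : NoEdge G a b) : NoEdge (G ⧸ O) a b := by
  intro x hx
  obtain ⟨y, rfl⟩ := QuotientGroup.mk'_surjective O x
  exact h _ (orderOf_pow_orderOf_div (orderOf_pos y).ne' (hx ▸ orderOf_map_dvd (QuotientGroup.mk' O) y))

/-- No element of order `2p`, `p` odd, makes the centralizers of involutions `2`-groups. -/
theorem cit_of_noEdge {G : Type*} [Group G] [Finite G]
    (h : ∀ p : ℕ, p.Prime → p ≠ 2 → NoEdge G 2 p) : CIT21.IsCIT G := by
  intro t ht
  rw [IsPGroup.iff_orderOf]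
  intro c
  by_contra hk
  push Not at hk
  obtain ⟨p, hp, hpd, hp2⟩ : ∃ p, p.Prime ∧ p ∣ orderOf c ∧ p ≠ 2 := by
    by_contra h'
    push Not at h'
    exact hk _ (Nat.eq_prime_pow_of_unique_prime_dvd (orderOf_pos c).ne' fun {d} hd hdd => h' d hd hdd)
  rw [← Subgroup.orderOf_coe] at hpd
  have hw : orderOf ((c : G) ^ (orderOf (c : G) / p)) = p :=
    orderOf_pow_orderOf_div (orderOf_pos _).ne' hpd
  have hc : Commute t ((c : G) ^ (orderOf (c : G) / p)) :=
    (show Commute t (c : G) from (Subgroup.mem_centralizer_singleton_iff.mp c.2).symm).pow_right _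
  refine h p hp hp2 (t * (c : G) ^ (orderOf (c : G) / p)) ?_
  rw [hc.orderOf_mul_eq_mul_orderOf_of_coprime, ht, hw]
  rw [ht, hw]
  exact (Nat.coprime_primes Nat.prime_two hp).mpr hp2.symm

/-- A normal `2`-subgroup of odd index rules out two non-adjacent odd primes. -/
theorem two_dvd_quot {G : Type*} [Group G] [Finite G] (H : CIT21.IsCIT G) {O : Subgroup G} [O.Normal]
    (hO : IsPGroup 2 O) (h2 : 2 ∣ Nat.card G) {p s : ℕ} (hp : p.Prime) (hs : s.Prime) (hp2 : p ≠ 2)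
    (hs2 : s ≠ 2) (hps : p ≠ s) (hpG : p ∣ Nat.card G) (hsG : s ∣ Nat.card G)
    (e2p : NoEdge G 2 p) (e2s : NoEdge G 2 s) (eps : NoEdge G p s) : 2 ∣ Nat.card (G ⧸ O) := by
  haveI : Fact (Nat.Prime 2) := ⟨Nat.prime_two⟩
  by_contra hodd
  have hOne : O ≠ ⊥ := by
    rintro rfl
    rw [Nat.card_congr (QuotientGroup.quotientBot (G := G)).toEquiv] at hodd
    exact hodd h2
  obtain ⟨n, hn⟩ := IsPGroup.iff_card.mp hO
  have hcop : (Nat.card O).Coprime O.index := by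
    rw [hn, Subgroup.index_eq_card]
    exact Nat.Coprime.pow_left n ((Nat.prime_two.coprime_iff_not_dvd).mpr hodd)
  obtain ⟨E, hE⟩ := Subgroup.exists_right_complement'_of_coprime (N := O) hcop
  have hEodd : ¬ 2 ∣ Nat.card E := by
    rw [← hE.symm.index_eq_card, Subgroup.index_eq_card]
    exact hodd
  have hfpf : ∀ e ∈ E, e ≠ 1 → O ⊓ Subgroup.centralizer ({e} : Set G) = ⊥ := by
    intro e he he1
    rw [Subgroup.eq_bot_iff_forall]
    intro k hk
    by_contra hk1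
    obtain ⟨a, ha, had⟩ := Nat.exists_prime_and_dvd (n := orderOf e) (by
      intro h; exact he1 (orderOf_eq_one_iff.mp h))
    have ha2 : a ≠ 2 := by
      rintro rfl
      exact hEodd (had.trans (Subgroup.orderOf_dvd_natCard E he))
    obtain ⟨j, hj⟩ := hO ⟨k, hk.1⟩
    exact false_of_commute_two H ha ha2 (orderOf_pow_orderOf_div (orderOf_pos e).ne' had)
      ⟨j, congrArg Subtype.val hj⟩ hk1
      ((show Commute e k from (Subgroup.mem_centralizer_singleton_iff.mp hk.2).symm).pow_left _)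
  haveI : IsZGroup E := by
    refine (isZGroup_iff E).2 fun r hr R => ?_
    have := Fact.mk hr
    rcases FrobeniusComplement.sylow_cyclic_or_quaternion hE hOne hfpf (R : Subgroup E)
      R.isPGroup' with h | ⟨rfl, m, ⟨g⟩⟩
    · exact h
    · exfalso
      refine hEodd (Dvd.dvd.trans ?_ (Subgroup.card_subgroup_dvd_card (R : Subgroup E)))
      rw [Nat.card_congr g.toEquiv, Nat.card_eq_fintype_card, QuaternionGroup.card]
      exact Dvd.intro (2 * 2 ^ m) (by ring)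
  haveI : Group.IsSolvable (G ⧸ O) :=
    solvable_of_surjective (f := (QuotientGroup.mk' O).comp E.subtype) (fun x => by
      obtain ⟨y, rfl⟩ := QuotientGroup.mk'_surjective O x
      obtain ⟨⟨⟨a, ha⟩, ⟨b, hb⟩⟩, hab⟩ := hE.2 y
      refine ⟨⟨b, hb⟩, ?_⟩
      rw [← hab]
      simp [(QuotientGroup.eq_one_iff a).mpr ha])
  haveI := hO.isNilpotent
  haveI : Group.IsSolvable G :=
    solvable_of_ker_le_range O.subtype (QuotientGroup.mk' O) (by simp)
  exact no_three_coclique Nat.prime_two hp hs hp2.symm hs2.symm hps h2 hpG hsG e2p e2s eps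

/-- The recognition, given the classification of simple groups with `2`-group centralizers. -/
theorem recog (hC : Classify.{u}) {F : Type*} [Field F] [Fintype F] (m : ℕ) (hm : 4 ≤ m)
    (hF : Fintype.card F = 2 ^ m) {G : Type u} [Group G] [Finite G]
    (h1 : ∀ r : ℕ, r.Prime →
      (r ∣ Nat.card (Matrix.ProjectiveSpecialLinearGroup (Fin 2) F) ↔ r ∣ Nat.card G))
    (h2 : ∀ r s : ℕ, r.Prime → s.Prime → r ≠ s →
      ((∃ x : (Matrix.ProjectiveSpecialLinearGroup (Fin 2) F), orderOf x = r * s) ↔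
        (∃ y : G, orderOf y = r * s))) :
    Nonempty (G ⧸ Cfsg.pCore 2 G ≃* Matrix.ProjectiveSpecialLinearGroup (Fin 2) F) := by
  haveI : Fact (Nat.Prime 2) := ⟨Nat.prime_two⟩
  haveI : CharP F 2 := charP_of_card_eq_prime_pow hF
  have hq : Nat.card F = 2 ^ m := Nat.card_eq_fintype_card.trans hF
  have hone := Nat.one_le_two_pow (n := m)
  have heven : 2 ∣ 2 ^ m := dvd_pow_self 2 (by omega)
  have hcard : Nat.card (Matrix.ProjectiveSpecialLinearGroup (Fin 2) F) =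
      2 ^ m * (2 ^ (2 * m) - 1) := by
    rw [PSLCard.card_PSL2_even (by rw [hq]; exact even_iff_two_dvd.mpr heven), hq, ← pow_mul,
      mul_comm m 2]
  have hπ : ∀ r : ℕ, r.Prime → (r ∣ Nat.card G ↔ r = 2 ∨ r ∣ 2 ^ (2 * m) - 1) := by
    intro r hr
    rw [← h1 r hr, hcard, hr.dvd_mul]
    refine or_congr_left ⟨fun h => (Nat.prime_dvd_prime_iff_eq hr Nat.prime_two).mp
      (hr.dvd_of_dvd_pow h), fun h => h ▸ heven⟩
  have e2 : 2 ^ (2 * m) - 1 = (2 ^ m + 1) * (2 ^ m - 1) := by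
    rw [← Nat.sq_sub_sq, one_pow, ← pow_mul, mul_comm m 2]
  have hgcd : Nat.gcd 2 (2 ^ m - 1) = 1 := by
    rcases Nat.prime_two.eq_one_or_self_of_dvd _ (Nat.gcd_dvd_left 2 (2 ^ m - 1)) with h | h
    · exact h
    · have := h ▸ Nat.gcd_dvd_right 2 (2 ^ m - 1)
      omega
  -- joined primes divide one member of the spectrum
  have hedge : ∀ r s : ℕ, r.Prime → s.Prime → r ≠ s →
      ¬ (r * s ∣ 2) → ¬ (r * s ∣ 2 ^ m - 1) → ¬ (r * s ∣ 2 ^ m + 1) → NoEdge G r s := by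
    intro r s hr hs hrs a b c y hy
    obtain ⟨x, hx⟩ := (h2 r s hr hs hrs).mpr ⟨y, hy⟩
    have hmem : r * s ∈ Set.range
        (orderOf : Matrix.ProjectiveSpecialLinearGroup (Fin 2) F → ℕ) := ⟨x, hx⟩
    rw [DirectSquarePSL2.range_psl2 2] at hmem
    obtain ⟨l, hl, hd⟩ := hmem
    simp only [List.mem_cons, List.not_mem_nil, or_false, hq, hgcd, Nat.div_one] at hl
    rcases hl with h | h | h <;> rw [h] at hd <;> contradiction
  have hnot2 : ∀ {r s : ℕ}, 2 ≤ r → 2 ≤ s → ¬ r * s ∣ 2 := fun {r s} hr hs h => by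
    have := Nat.le_of_dvd two_pos h
    nlinarith
  have e2p : ∀ p : ℕ, p.Prime → p ≠ 2 → NoEdge G 2 p := fun p hp hp2 =>
    hedge 2 p Nat.prime_two hp hp2.symm (hnot2 le_rfl hp.two_le)
      (fun h => by have := (dvd_mul_right 2 p).trans h; omega)
      (fun h => by have := (dvd_mul_right 2 p).trans h; omega)
  have H : CIT21.IsCIT G := cit_of_noEdge e2p
  have sep : ∀ {p s : ℕ}, p.Prime → s.Prime → p ≠ 2 → p ∣ 2 ^ m - 1 → s ∣ 2 ^ m + 1 →
      p ≠ s ∧ NoEdge G p s := by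
    intro p s hp hs hp2 hp1 hs1
    have key : ∀ {r : ℕ}, r.Prime → r ≠ 2 → r ∣ 2 ^ m - 1 → r ∣ 2 ^ m + 1 → False :=
      fun {r} hr hr2 ha hb => by
      have h := Nat.dvd_sub hb ha
      rw [show 2 ^ m + 1 - (2 ^ m - 1) = 2 by omega] at h
      exact hr2 ((Nat.prime_dvd_prime_iff_eq hr Nat.prime_two).mp h)
    have hs2 : s ≠ 2 := by rintro rfl; omega
    have hne : p ≠ s := fun e => key hp hp2 hp1 (e ▸ hs1)
    exact ⟨hne, hedge p s hp hs hne (hnot2 hp.two_le hs.two_le)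
      (fun h => key hs hs2 ((dvd_mul_left s p).trans h) hs1)
      (fun h => key hp hp2 hp1 ((dvd_mul_right p s).trans h))⟩
  have hfour : 2 ^ 4 ≤ 2 ^ m := Nat.pow_le_pow_right two_pos hm
  obtain ⟨p0, hp0, hp0d⟩ := Nat.exists_prime_and_dvd (n := 2 ^ m - 1) (by omega)
  obtain ⟨s0, hs0, hs0d⟩ := Nat.exists_prime_and_dvd (n := 2 ^ m + 1) (by omega)
  have hp02 : p0 ≠ 2 := by rintro rfl; omega
  have hs02 : s0 ≠ 2 := by rintro rfl; omega
  have hdvd1 : ∀ {r : ℕ}, r.Prime → r ∣ 2 ^ m - 1 → r ∣ Nat.card G := fun hr h =>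
    (hπ _ hr).mpr (Or.inr (e2 ▸ h.mul_left _))
  have hdvd2 : ∀ {r : ℕ}, r.Prime → r ∣ 2 ^ m + 1 → r ∣ Nat.card G := fun hr h =>
    (hπ _ hr).mpr (Or.inr (e2 ▸ h.mul_right _))
  obtain ⟨hps0, heps0⟩ := sep hp0 hs0 hp02 hp0d hs0d
  set O := Cfsg.pCore 2 G with hOdef
  have hO : IsPGroup 2 O := HallCore.isPGroup_pCore 2 G
  have hquot : ∀ {r : ℕ}, r.Prime → r ≠ 2 → (r ∣ Nat.card (G ⧸ O) ↔ r ∣ Nat.card G) := by
    intro r hr hr2
    refine ⟨fun h => h.trans (Subgroup.card_quotient_dvd_card O), fun h => ?_⟩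
    rw [← Subgroup.card_mul_index O, Subgroup.index_eq_card] at h
    refine (hr.dvd_mul.mp h).resolve_left fun h' => ?_
    obtain ⟨n, hn⟩ := IsPGroup.iff_card.mp hO
    exact hr2 ((Nat.prime_dvd_prime_iff_eq hr Nat.prime_two).mp (hr.dvd_of_dvd_pow (hn ▸ h')))
  have h2q : 2 ∣ Nat.card (G ⧸ O) := two_dvd_quot H hO ((hπ 2 Nat.prime_two).mpr (Or.inl rfl)) hp0 hs0
    hp02 hs02 hps0 (hdvd1 hp0 hp0d) (hdvd2 hs0 hs0d) (e2p p0 hp0 hp02) (e2p s0 hs0 hs02) heps0
  refine CITGraphEven39.main hC hm hF (quot_cit H hO) (HallCore.pCore_quotient_self 2 G) ?_ ?_ ?_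
  · intro r hr
    by_cases hr2 : r = 2
    · subst hr2
      exact ⟨fun _ => Or.inl rfl, fun _ => h2q⟩
    · rw [hquot hr hr2, hπ r hr]
  · intro p hp hp2 hpG
    rw [hquot hp hp2, hπ p hp, or_iff_right hp2, e2] at hpG
    rcases hp.dvd_mul.mp hpG with hd | hd
    · obtain ⟨hne, hno⟩ := sep hp0 hp hp02 hp0d hd
      exact ⟨p0, hp0, hp02, hne, (hquot hp0 hp02).mpr (hdvd1 hp0 hp0d), (noEdge_quot hno).symm⟩
    · obtain ⟨hne, hno⟩ := sep hp hs0 hp2 hd hs0d
      exact ⟨s0, hs0, hs02, hne.symm, (hquot hs0 hs02).mpr (hdvd2 hs0 hs0d), noEdge_quot hno⟩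
  · rintro rfl
    exact noEdge_quot (hedge 3 5 Nat.prime_three (by norm_num) (by norm_num) (by norm_num)
      (by norm_num) (by norm_num))

end Cfsg.Agent.CITRecog39
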