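import Mathlib
import Cfsg.Prelude
import Cfsg.Agent.S0205
import Cfsg.Agent.Lib.CNBasic
import Cfsg.Agent.Lib.HallSolvable
import Cfsg.Agent.Lib.HallCore
import Cfsg.Agent.Lib.PGroupsBasic

/-!
Non-solvable CN-groups: the solvable radical is a `2`-group, the quotient has a simple socle with
trivial centraliser, and odd-order elements act without fixed points on the radical.
-/

set_option autoImplicit false
set_option linter.unusedSectionVars false

namespace Cfsg.Agent.CNStructure57

open Subgroup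

variable {G : Type*} [Group G] [Finite G]

/-- An element of even order has a power of order `2`. -/
theorem orderOf_two_of_even {t : G} (ht : Even (orderOf t)) :
    ∃ n : ℕ, orderOf (t ^ n) = 2 :=
  ⟨orderOf t / 2, orderOf_pow_orderOf_div (orderOf_pos t).ne' ht.two_dvd⟩

/-- A subgroup without involutions has odd order. -/
theorem odd_card_of_no_involution {H : Subgroup G} (h : ∀ x ∈ H, orderOf x ≠ 2) :
    Odd (Nat.card H) := by
  haveI : Fact (Nat.Prime 2) := ⟨Nat.prime_two⟩
  by_contra hodd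
  obtain ⟨x, hx⟩ := exists_prime_orderOf_dvd_card' (G := H) 2
    (even_iff_two_dvd.mp (Nat.not_odd_iff_even.mp hodd))
  exact h x x.2 (by rw [Subgroup.orderOf_coe, hx])

/-- A group is solvable when it is covered by an abelian-free normal solvable kernel and a solvable
subgroup. -/
theorem solvable_of_cover {C H : Subgroup G} [C.Normal] (hC : Group.IsSolvable C)
    (hH : Group.IsSolvable H) (h : ∀ g : G, ∃ c ∈ C, ∃ k ∈ H, g = c * k) :
    Group.IsSolvable G := by
  haveI := hH
  have hq : Group.IsSolvable (G ⧸ C) := by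
    refine Group.isSolvable_of_surjective
      (f := (QuotientGroup.mk' C).comp H.subtype) fun q => ?_
    obtain ⟨g, rfl⟩ := QuotientGroup.mk'_surjective C q
    obtain ⟨c, hc, k, hk, rfl⟩ := h g
    exact ⟨⟨k, hk⟩, by simp [(QuotientGroup.eq_one_iff c).mpr hc]⟩
  haveI := hC
  haveI := hq
  exact Group.isSolvable_of_ker_le_range C.subtype (QuotientGroup.mk' C)
    (by rw [QuotientGroup.ker_mk', C.range_subtype])

theorem solvable_centralizer (hCN : Cfsg.IsCNGroup G) {S : Set G} {v : G} (hv : v ∈ S) (hv1 : v ≠ 1) :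
    Group.IsSolvable (centralizer S) := by
  haveI := hCN v hv1
  exact Group.isSolvable_of_isSolvable_injective
    (Subgroup.inclusion_injective
      (show centralizer S ≤ centralizer ({v} : Set G) from centralizer_le (by simpa using hv)))

/-- A non-solvable CN-group has no abelian normal `p`-subgroup for odd `p`. -/
theorem no_abelian_odd (hCN : Cfsg.IsCNGroup G) (hns : ¬ Group.IsSolvable G) (V : Subgroup G)
    [V.Normal] (hab : ∀ a ∈ V, ∀ b ∈ V, a * b = b * a) (hodd : Odd (Nat.card V)) : V = ⊥ := by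
  by_contra hV
  obtain ⟨⟨v₀, hv₀⟩, hv₀'⟩ := Subgroup.ne_bot_iff_exists_ne_one.mp hV
  have hv₀1 : v₀ ≠ 1 := fun h => hv₀' (Subtype.ext h)
  haveI : Fact (Nat.Prime 2) := ⟨Nat.prime_two⟩
  set C := centralizer (V : Set G) with hC
  haveI : C.Normal := inferInstance
  have hCs : Group.IsSolvable C := solvable_centralizer hCN (S := (V : Set G)) hv₀ hv₀1
  have hVodd : ∀ v ∈ V, Odd (orderOf v) := fun v hv =>
    hodd.of_dvd_nat (Subgroup.orderOf_dvd_natCard V hv)
  -- a `2`-element centralising a nontrivial element of `V` centralises `V`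
  have key : ∀ t : G, (∃ k, orderOf t = 2 ^ k) → ∀ w ∈ V, w ≠ 1 → t * w = w * t → t ∈ C := by
    intro t ⟨k, hk⟩ w hw hw1 htw
    refine mem_centralizer_iff.mpr fun v hv => ?_
    refine (CNBasic.commute hCN hw1 htw.symm (hab w hw v hv) ?_).eq.symm
    rw [hk]
    exact ((hVodd v hv).coprime_two_left).pow_left k
  obtain ⟨P⟩ : Nonempty (Sylow 2 G) := inferInstance
  have hPC : ¬ (P : Subgroup G) ≤ C := by
    intro hle
    refine hns ?_
    haveI := hCs
    haveI : Group.IsSolvable (G ⧸ C) := S0205.result (by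
      rw [← Subgroup.index_eq_card]
      refine Nat.not_even_iff_odd.mp fun he => P.not_dvd_index ?_
      exact (even_iff_two_dvd.mp he).trans (Subgroup.index_dvd_of_le hle))
    exact Group.isSolvable_of_ker_le_range C.subtype (QuotientGroup.mk' C)
      (by rw [QuotientGroup.ker_mk', C.range_subtype])
  have h2el : ∀ t ∈ (P : Subgroup G), ∃ k, orderOf t = 2 ^ k := fun t ht => by
    obtain ⟨k, hk⟩ := IsPGroup.iff_orderOf.mp P.isPGroup' ⟨t, ht⟩
    exact ⟨k, by rwa [Subgroup.orderOf_mk] at hk⟩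
  -- `P` meets `C` trivially
  have hPCbot : (P : Subgroup G) ⊓ C = ⊥ := by
    by_contra hne
    haveI : (((P : Subgroup G) ⊓ C).subgroupOf (P : Subgroup G)).Normal := by
      refine ⟨fun a ha g => ?_⟩
      rw [mem_subgroupOf] at ha ⊢
      exact ⟨(g * a * g⁻¹).2, Subgroup.Normal.conj_mem inferInstance _ ha.2 _⟩
    have hne' : ((P : Subgroup G) ⊓ C).subgroupOf (P : Subgroup G) ≠ ⊥ := by
      intro h
      rw [Subgroup.subgroupOf_eq_bot, disjoint_iff] at h
      exact hne (by rw [← h]; exact (inf_of_le_left inf_le_left).symm)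
    obtain ⟨⟨u, hu⟩, hu1'⟩ := Subgroup.ne_bot_iff_exists_ne_one.mp
      (PGroupsBasic.inf_center_ne_bot P.isPGroup' hne')
    obtain ⟨huC, hucen⟩ := hu
    have hu1 : u ≠ 1 := fun e => hu1' (Subtype.ext e)
    refine hPC fun t ht => mem_centralizer_iff.mpr fun v hv => ?_
    have huC' : (u : G) ∈ C := (mem_subgroupOf.mp huC).2
    obtain ⟨k, hk⟩ := h2el t ht
    refine (CNBasic.commute hCN (g := (u : G)) (fun e => hu1 (Subtype.ext e))
      (congrArg Subtype.val (Subgroup.mem_center_iff.mp hucen ⟨t, ht⟩)).symm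
      (mem_centralizer_iff.mp huC' v hv).symm ?_).eq.symm
    rw [hk]
    exact ((hVodd v hv).coprime_two_left).pow_left k
  have hCodd : Odd (Nat.card C) := by
    refine odd_card_of_no_involution fun x hx hx2 => ?_
    obtain ⟨Q, hQ⟩ := IsPGroup.exists_le_sylow (G := G)
      (IsPGroup.of_card (n := 1) (by rw [Nat.card_zpowers, hx2, pow_one]) :
        IsPGroup 2 (zpowers x))
    obtain ⟨g, hgQ⟩ := MulAction.exists_smul_eq G Q P
    have hmem : g * x * g⁻¹ ∈ (P : Subgroup G) ⊓ C := by
      refine ⟨?_, Subgroup.Normal.conj_mem inferInstance _ hx _⟩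
      rw [← hgQ, Sylow.coe_subgroup_smul]
      exact Subgroup.smul_mem_pointwise_smul _ (MulAut.conj g) _ (hQ (mem_zpowers x))
    rw [hPCbot, mem_bot, conj_eq_one_iff] at hmem
    rw [hmem, orderOf_one] at hx2
    omega
  obtain ⟨i, hiP, hi⟩ : ∃ i ∈ (P : Subgroup G), orderOf i = 2 := by
    have hne : (P : Subgroup G) ≠ ⊥ := fun h => hPC (h ▸ bot_le)
    obtain ⟨t, ht⟩ := Subgroup.ne_bot_iff_exists_ne_one.mp hne
    obtain ⟨k, hk⟩ := h2el t t.2
    rcases k with _ | k
    · exact absurd (Subtype.ext (orderOf_eq_one_iff.mp (by simpa using hk))) ht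
    · obtain ⟨n, hn⟩ := orderOf_two_of_even (t := (t : G))
        (by rw [hk]; exact ⟨2 ^ k, by ring⟩)
      exact ⟨_, pow_mem t.2 n, hn⟩
  have hii : i * i = 1 := by rw [← pow_two, ← hi, pow_orderOf_eq_one]
  have hiinv : i⁻¹ = i := inv_eq_of_mul_eq_one_right hii
  have hiC : i ∉ C := fun h => by
    have : i ∈ (P : Subgroup G) ⊓ C := ⟨hiP, h⟩
    rw [hPCbot, mem_bot] at this
    rw [this, orderOf_one] at hi
    omega
  -- every conjugate of `i` inverts `V`
  have hinv : ∀ v ∈ V, i * v * i = v⁻¹ := by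
    intro v hv
    have hv' : i * v * i ∈ V := by
      have := Subgroup.Normal.conj_mem (inferInstance : V.Normal) v hv i
      rwa [hiinv] at this
    by_contra hne
    refine hiC (key i ⟨1, by rw [hi, pow_one]⟩ (v * (i * v * i)) (mul_mem hv hv') (fun h => ?_) ?_)
    · exact hne (eq_inv_of_mul_eq_one_right h)
    · calc i * (v * (i * v * i)) = (i * v * i) * v * i := by group
        _ = v * (i * v * i) * i := by rw [hab _ hv' _ hv]
  refine hns (solvable_of_cover hCs ?_ (H := centralizer ({i} : Set G)) fun g => ?_)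
  · haveI := hCN i (fun e => by rw [e, orderOf_one] at hi; omega)
    infer_instance
  set j := g * i * g⁻¹ with hj
  have hjj : j * j = 1 := by
    rw [hj, show g * i * g⁻¹ * (g * i * g⁻¹) = g * (i * i) * g⁻¹ by group, hii, mul_one, mul_inv_cancel]
  have hc : j * i ∈ C := by
    refine mem_centralizer_iff.mpr fun v hv => ?_
    have hv' : i * v * i ∈ V := by
      have := Subgroup.Normal.conj_mem (inferInstance : V.Normal) v hv i
      rwa [hiinv] at this
    have h1 : g⁻¹ * (i * v * i) * g ∈ V := by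
      simpa using Subgroup.Normal.conj_mem (inferInstance : V.Normal) _ hv' g⁻¹
    have h2 := hinv _ h1
    have h3 : j * (i * v * i) * j⁻¹ = v := by
      have h4 : j * (i * v * i) * j⁻¹ = g * (i * (g⁻¹ * (i * v * i) * g) * i) * g⁻¹ := by
        rw [hj]
        simp only [mul_inv_rev, inv_inv, hiinv]
        group
      rw [h4, h2, show g * (g⁻¹ * (i * v * i) * g)⁻¹ * g⁻¹ = (i * v * i)⁻¹ by group, hinv v hv,
        inv_inv]
    have h5 : j * i * v * (j * i)⁻¹ = v := by
      rw [mul_inv_rev, hiinv]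
      calc j * i * v * (i * j⁻¹) = j * (i * v * i) * j⁻¹ := by group
        _ = v := h3
    exact (mul_inv_eq_iff_eq_mul.mp h5).symm
  -- the two involutions are conjugate under `C`
  obtain ⟨c, hcdef⟩ : ∃ c, c = j * i := ⟨_, rfl⟩
  rw [← hcdef] at hc
  have hic : i * c * i = c⁻¹ := by
    rw [hcdef, mul_inv_rev, hiinv, inv_eq_of_mul_eq_one_right hjj]
    calc i * (j * i) * i = i * j * (i * i) := by group
      _ = i * j := by rw [hii, mul_one]
  obtain ⟨m, hm⟩ : Odd (orderOf c) := hCodd.of_dvd_nat (Subgroup.orderOf_dvd_natCard C hc)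
  set e := c ^ (m + 1) with he
  have hee : e * e = c := by
    rw [he, ← pow_add, show m + 1 + (m + 1) = orderOf c + 1 by omega, pow_succ, pow_orderOf_eq_one,
      one_mul]
  have hie : i * e * i = e⁻¹ := by
    have hconj : ∀ n : ℕ, i * c ^ n * i = (c ^ n)⁻¹ := by
      intro n
      induction n with
      | zero => simpa using hii
      | succ n ih =>
        calc i * c ^ (n + 1) * i = i * c ^ n * (1 * c) * i := by rw [one_mul, pow_succ]; group
          _ = (i * c ^ n * i) * (i * c * i) := by rw [← hii]; group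
          _ = (c ^ n)⁻¹ * c⁻¹ := by rw [ih, hic]
          _ = (c * c ^ n)⁻¹ := by rw [mul_inv_rev]
          _ = (c ^ (n + 1))⁻¹ := by rw [pow_succ']
    exact hconj _
  have hjconj : e * i * e⁻¹ = j := by
    calc e * i * e⁻¹ = e * (i * e⁻¹) := by group
      _ = e * (i * (i * e * i)) := by rw [hie]
      _ = e * ((i * i) * e) * i := by group
      _ = c * i := by rw [hii, one_mul, hee]
      _ = j := by rw [hcdef, mul_assoc, hii, mul_one]
  refine ⟨e, pow_mem hc _, e⁻¹ * g, mem_centralizer_singleton_iff.mpr ?_, by group⟩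
  calc e⁻¹ * g * i = e⁻¹ * (g * i * g⁻¹) * g := by group
    _ = e⁻¹ * (e * i * e⁻¹) * g := by rw [hjconj, hj]
    _ = i * (e⁻¹ * g) := by group

/-- A non-solvable CN-group without normal `2`-subgroups has no solvable normal subgroup. -/
theorem no_solvable_normal (hCN : Cfsg.IsCNGroup G) (hns : ¬ Group.IsSolvable G)
    (h2 : Cfsg.pCore 2 G = ⊥) (N : Subgroup G) [N.Normal] (hN : Group.IsSolvable N) : N = ⊥ := by
  by_contra hne
  obtain ⟨M, hM, hMN⟩ := HallSolvable.exists_minNormal_le hne
  haveI := hM.1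
  haveI := hN
  haveI : Group.IsSolvable M :=
    Group.isSolvable_of_isSolvable_injective (Subgroup.inclusion_injective hMN)
  obtain ⟨p, hp, -, hMp⟩ := hM.exists_prime
  haveI := Fact.mk hp
  by_cases h : p = 2
  · subst h
    exact hM.ne_bot (le_bot_iff.mp (h2 ▸ HallCore.le_pCore hMp))
  · have hc := hM.commutative_of_solvable
    refine hM.ne_bot (no_abelian_odd hCN hns M
      (fun a ha b hb => congrArg Subtype.val (hc.is_comm.comm ⟨a, ha⟩ ⟨b, hb⟩)) ?_)
    obtain ⟨n, hn⟩ := IsPGroup.iff_card.mp hMp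
    rw [hn]
    exact (hp.odd_of_ne_two h).pow

theorem isSolvable_pCore_two : Group.IsSolvable (Cfsg.pCore 2 G) := by
  haveI : Fact (Nat.Prime 2) := ⟨Nat.prime_two⟩
  haveI := (HallCore.isPGroup_pCore 2 G).isNilpotent
  infer_instance

theorem quotient_not_solvable (hns : ¬ Group.IsSolvable G) (U : Subgroup G) [U.Normal]
    (hU : Group.IsSolvable U) : ¬ Group.IsSolvable (G ⧸ U) := by
  intro h
  haveI := hU
  haveI := h
  exact hns (Group.isSolvable_of_ker_le_range U.subtype (QuotientGroup.mk' U)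
    (by rw [QuotientGroup.ker_mk', U.range_subtype]))

/-- The quotient by the largest normal `2`-subgroup has no solvable normal subgroups. -/
theorem quotient_no_solvable_normal (hCN : Cfsg.IsCNGroup G) (hns : ¬ Group.IsSolvable G)
    [(Cfsg.pCore 2 G).Normal] :
    Cfsg.IsCNGroup (G ⧸ Cfsg.pCore 2 G) ∧ ¬ Group.IsSolvable (G ⧸ Cfsg.pCore 2 G) ∧
      ∀ N : Subgroup (G ⧸ Cfsg.pCore 2 G), N.Normal → Group.IsSolvable N → N = ⊥ := by
  haveI : Fact (Nat.Prime 2) := ⟨Nat.prime_two⟩
  have hs : Group.IsSolvable (Cfsg.pCore 2 G) := isSolvable_pCore_two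
  have hq := CNBasic.quotient_solvable _ rfl hCN _ hs
  have hqns := quotient_not_solvable hns _ hs
  refine ⟨hq, hqns, fun N hN hNs => ?_⟩
  exact no_solvable_normal hq hqns (HallCore.pCore_quotient_self 2 G) N hNs

/-- A CN-group without solvable normal subgroups has a simple normal subgroup with trivial
centraliser. -/
theorem exists_socle (hCN : Cfsg.IsCNGroup G) [Nontrivial G]
    (hsol : ∀ N : Subgroup G, N.Normal → Group.IsSolvable N → N = ⊥) :
    ∃ L : Subgroup G, L.Normal ∧ IsSimpleGroup L ∧ (∃ a b : L, a * b ≠ b * a) ∧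
      Subgroup.centralizer (L : Set G) = ⊥ := by
  obtain ⟨L, hL⟩ := HallSolvable.exists_minNormal (G := G)
  haveI := hL.1
  have hnab : ∃ a b : L, a * b ≠ b * a := by
    by_contra h
    push Not at h
    exact hL.ne_bot (hsol L hL.1 (Group.isSolvable_of_comm h))
  haveI : Nontrivial L := (Subgroup.nontrivial_iff_ne_bot L).mpr hL.ne_bot
  have hCL : Subgroup.centralizer (L : Set G) = ⊥ := by
    obtain ⟨a, -, -⟩ := hnab
    obtain ⟨b, hb⟩ := exists_ne (1 : L)
    exact hsol _ inferInstance
      (solvable_centralizer hCN (S := (L : Set G)) b.2 fun e => hb (Subtype.ext e))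
  refine ⟨L, hL.1, ?_, hnab, hCL⟩
  -- simplicity
  refine ⟨fun N hN => ?_⟩
  by_contra hcon
  push Not at hcon
  haveI := hN
  obtain ⟨K, hK, hKN⟩ := HallSolvable.exists_minNormal_le (G := L) hcon.1
  have hKtop : K ≠ ⊤ := fun h => hcon.2 (top_le_iff.mp (h ▸ hKN))
  -- a conjugate of `K` inside `L`
  obtain ⟨g, hg⟩ : ∃ g : G, K.map (MulAut.conjNormal g : MulAut L).toMonoidHom ≠ K := by
    by_contra h
    push Not at h
    haveI : (K.map L.subtype).Normal := by
      refine ⟨fun x hx g => ?_⟩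
      obtain ⟨k, hk, rfl⟩ := hx
      exact ⟨MulAut.conjNormal g k, (h g) ▸ Subgroup.mem_map_of_mem _ hk, by simp⟩
    rcases hL.2.2 _ inferInstance (Subgroup.map_subtype_le K) with h0 | h1
    · exact hK.ne_bot ((Subgroup.map_eq_bot_iff_of_injective K L.subtype_injective).mp h0)
    · refine hKtop (Subgroup.map_injective L.subtype_injective ?_)
      rw [h1, ← MonoidHom.range_eq_map, L.range_subtype]
  set φ : MulAut L := MulAut.conjNormal g
  set K' := K.map φ.toMonoidHom with hK'
  haveI := hK.1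
  haveI hK'n : K'.Normal := hK.1.map _ φ.surjective
  have hdis : Disjoint K K' := by
    rw [disjoint_iff]
    rcases hK.2.2 (K ⊓ K') inferInstance inf_le_left with h | h
    · exact h
    · exfalso
      have hle : K ≤ K' := h ▸ inf_le_right
      refine hg (Subgroup.eq_of_le_of_card_ge hle ?_).symm
      exact le_of_eq (Subgroup.card_map_of_injective φ.injective)
  obtain ⟨k', hk', hk'1⟩ : ∃ k ∈ K', k ≠ 1 := by
    obtain ⟨k, hk⟩ := Subgroup.ne_bot_iff_exists_ne_one.mp hK.ne_bot
    exact ⟨φ k, Subgroup.mem_map_of_mem _ k.2, fun e => hk (Subtype.ext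
      (φ.injective (by simpa using e)))⟩
  have hKs : Group.IsSolvable K := by
    haveI := hCN (k' : G) (fun e => hk'1 (Subtype.ext e))
    let f : K →* centralizer ({(k' : G)} : Set G) :=
      (L.subtype.comp K.subtype).codRestrict _ fun k => mem_centralizer_singleton_iff.mpr
        (congrArg Subtype.val
          (Subgroup.commute_of_normal_of_disjoint K K' hK.1 hK'n hdis k k' k.2 hk').eq)
    refine Group.isSolvable_of_isSolvable_injective (f := f) fun a b hab => ?_
    exact Subtype.ext (Subtype.ext (congrArg (fun z : centralizer ({(k' : G)} : Set G) => (z : G)) hab))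
  haveI := hKs
  have hKc := hK.commutative_of_solvable
  set S : Set G := {x | ∃ h : G, ∃ k ∈ K, x = h * (k : G) * h⁻¹} with hS
  have hbase : ∀ (h : G), ∀ a ∈ K, ∀ b ∈ K,
      (a : G) * (h * (b : G) * h⁻¹) = h * (b : G) * h⁻¹ * (a : G) := by
    intro h a ha b hb
    set ψ : MulAut L := MulAut.conjNormal h
    have hb' : ψ b ∈ K.map ψ.toMonoidHom := Subgroup.mem_map_of_mem _ hb
    have hψb : (ψ b : G) = h * (b : G) * h⁻¹ := MulAut.conjNormal_apply h b
    rw [← hψb]
    haveI hn : (K.map ψ.toMonoidHom).Normal := hK.1.map _ ψ.surjective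
    rcases hK.2.2 (K ⊓ K.map ψ.toMonoidHom) inferInstance inf_le_left with h0 | h1
    · exact congrArg Subtype.val (Subgroup.commute_of_normal_of_disjoint K _ hK.1 hn
        (disjoint_iff.mpr h0) a (ψ b) ha hb').eq
    · have hle : K ≤ K.map ψ.toMonoidHom := le_of_eq_of_le h1.symm inf_le_right
      have he : K = K.map ψ.toMonoidHom := Subgroup.eq_of_le_of_card_ge hle
        (le_of_eq (Subgroup.card_map_of_injective ψ.injective))
      rw [← he] at hb'
      exact congrArg (fun z : K => ((z : L) : G)) (hKc.is_comm.comm ⟨a, ha⟩ ⟨ψ b, hb'⟩)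
  have hpair : ∀ x ∈ S, ∀ y ∈ S, x * y = y * x := by
    rintro _ ⟨a, k, hk, rfl⟩ _ ⟨b, l, hl, rfl⟩
    have e := hbase (a⁻¹ * b) k hk l hl
    calc a * k * a⁻¹ * (b * l * b⁻¹)
        = a * ((k : G) * (a⁻¹ * b * l * (a⁻¹ * b)⁻¹)) * a⁻¹ := by group
      _ = a * (a⁻¹ * b * l * (a⁻¹ * b)⁻¹ * k) * a⁻¹ := by rw [e]
      _ = b * l * b⁻¹ * (a * k * a⁻¹) := by group
  haveI : (closure S).Normal := by
    refine ⟨fun x hx c => ?_⟩
    have : closure S ≤ (closure S).comap (MulAut.conj c).toMonoidHom := by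
      rw [closure_le]
      rintro _ ⟨h, k, hk, rfl⟩
      show c * (h * k * h⁻¹) * c⁻¹ ∈ closure S
      exact subset_closure ⟨c * h, k, hk, by group⟩
    exact this hx
  have hle : closure S ≤ L := by
    rw [closure_le]
    rintro _ ⟨h, k, -, rfl⟩
    exact Subgroup.Normal.conj_mem inferInstance _ k.2 _
  rcases hL.2.2 _ inferInstance hle with h0 | h1
  · obtain ⟨k, hk⟩ := Subgroup.ne_bot_iff_exists_ne_one.mp hK.ne_bot
    have : ((k : L) : G) ∈ closure S := subset_closure ⟨1, k, k.2, by simp⟩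
    rw [h0, mem_bot] at this
    exact hk (Subtype.ext (Subtype.ext this))
  · obtain ⟨a, b, hab⟩ := hnab
    haveI := Subgroup.isMulCommutative_closure (k := S) hpair
    have ha : (a : G) ∈ closure S := by rw [h1]; exact a.2
    have hb : (b : G) ∈ closure S := by rw [h1]; exact b.2
    exact hab (Subtype.ext
      (congrArg Subtype.val (IsMulCommutative.is_comm.comm (⟨a, ha⟩ : closure S) ⟨b, hb⟩) : (a : G) * b = b * a))

/-- Odd-order elements act without fixed points on the largest normal `2`-subgroup. -/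
theorem fpf (hCN : Cfsg.IsCNGroup G) (hns : ¬ Group.IsSolvable G) {x u : G}
    (hx : Odd (orderOf x)) (hu : u ∈ Cfsg.pCore 2 G) (hu1 : u ≠ 1) (hc : x * u = u * x) : x = 1 := by
  haveI : Fact (Nat.Prime 2) := ⟨Nat.prime_two⟩
  haveI : (Cfsg.pCore 2 G).Normal := HallCore.pCore_normal 2 G
  set U := Cfsg.pCore 2 G with hU
  have hUp : IsPGroup 2 U := HallCore.isPGroup_pCore 2 G
  have hUne : U ≠ ⊥ := fun h => hu1 (by rw [h, mem_bot] at hu; exact hu)
  haveI : Nontrivial U := (Subgroup.nontrivial_iff_ne_bot U).mpr hUne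
  set Z := (Subgroup.center U).map U.subtype with hZ
  have hZne : Z ≠ ⊥ := by
    rw [hZ, Ne, Subgroup.map_eq_bot_iff_of_injective _ U.subtype_injective,
      ← Ne, ← Subgroup.nontrivial_iff_ne_bot]
    exact hUp.center_nontrivial
  haveI : Z.Normal := inferInstance
  obtain ⟨z, hz, hz1⟩ : ∃ z ∈ Z, z ≠ 1 := by
    obtain ⟨z, hz⟩ := Subgroup.ne_bot_iff_exists_ne_one.mp hZne
    exact ⟨z, z.2, fun e => hz (Subtype.ext e)⟩
  have hxZ : x ∈ centralizer (Z : Set G) := by
    refine mem_centralizer_iff.mpr fun w hw => ?_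
    obtain ⟨w', hw', rfl⟩ := hw
    refine (CNBasic.commute hCN hu1 hc.symm
      (congrArg Subtype.val (Subgroup.mem_center_iff.mp hw' ⟨u, hu⟩)) ?_).eq.symm
    obtain ⟨k, hk⟩ := IsPGroup.iff_orderOf.mp hUp w'
    rw [Subgroup.orderOf_coe, hk]
    exact (hx.coprime_two_left.symm).pow_right k
  by_contra hx1
  have hCs : Group.IsSolvable (centralizer (Z : Set G)) :=
    solvable_centralizer hCN (S := (Z : Set G)) hz hz1
  obtain ⟨-, -, hsol⟩ := quotient_no_solvable_normal hCN hns
  have hbot := hsol ((centralizer (Z : Set G)).map (QuotientGroup.mk' U))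
    (Subgroup.Normal.map inferInstance _ (QuotientGroup.mk'_surjective U))
    (by
      haveI := hCs
      exact Group.isSolvable_of_surjective
        ((QuotientGroup.mk' U).subgroupMap_surjective (centralizer (Z : Set G))))
  have hxU : x ∈ U := (QuotientGroup.eq_one_iff x).mp (by
    have : QuotientGroup.mk' U x ∈ (centralizer (Z : Set G)).map (QuotientGroup.mk' U) :=
      Subgroup.mem_map_of_mem _ hxZ
    rwa [hbot, mem_bot] at this)
  obtain ⟨k, hk⟩ := IsPGroup.iff_orderOf.mp hUp ⟨x, hxU⟩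
  rw [Subgroup.orderOf_mk] at hk
  rcases Nat.eq_zero_or_pos k with rfl | hk0
  · exact hx1 (orderOf_eq_one_iff.mp (by simpa using hk))
  · rw [hk, Nat.odd_pow_iff hk0.ne'] at hx
    exact absurd hx (by decide)

end Cfsg.Agent.CNStructure57
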