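import Mathlib
import Cfsg.Prelude
import Cfsg.Agent.S0205
import Cfsg.Agent.S0071
import Cfsg.Agent.Lib.CNBasic
import Cfsg.Agent.Lib.CNStructure57
import Cfsg.Agent.Lib.PGroupsBasic

/-!
CN-groups with a simple normal subgroup `L` with one class of involutions: the index of `L` is a
power of `2`, bounded through the fixed-point-free action of a `2`-group on a subgroup of odd order.
-/

set_option autoImplicit false
set_option linter.unusedSectionVars false

namespace Cfsg.Agent.CNAlmostSimple57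

open Subgroup CNStructure57

variable {G : Type*} [Group G] [Finite G]

/-- Two elements of odd order of a nilpotent group have a product of odd order. -/
theorem odd_mul {H : Type*} [Group H] [Finite H] [Group.IsNilpotent H] {a b : H}
    (ha : Odd (orderOf a)) (hb : Odd (orderOf b)) : Odd (orderOf (a * b)) := by
  haveI : Fact (Nat.Prime 2) := ⟨Nat.prime_two⟩
  set K := closure {x : H | Odd (orderOf x)} with hK
  suffices h : ∀ y ∈ K, Odd (orderOf y) from
    h _ (mul_mem (subset_closure ha) (subset_closure hb))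
  intro y hy
  by_contra hodd
  obtain ⟨n, hn⟩ := orderOf_two_of_even (Nat.not_odd_iff_even.mp hodd)
  set i := y ^ n
  obtain ⟨P, hP⟩ := IsPGroup.exists_le_sylow (G := H)
    (IsPGroup.of_card (n := 1) (by rw [Nat.card_zpowers, hn, pow_one]) : IsPGroup 2 (zpowers i))
  haveI : (P : Subgroup H).Normal := inferInstance
  -- `K` centralises `P`, so `K` meets `P` in its centre, and transfer splits it off
  obtain ⟨C, hC⟩ := exists_left_complement'_of_coprime (P.card_coprime_index)
  have hCle : K ≤ C := by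
    rw [hK, closure_le]
    intro x hx
    obtain ⟨c, hc, p, hp, rfl⟩ : ∃ c ∈ C, ∃ p ∈ (P : Subgroup H), x = c * p := by
      obtain ⟨⟨c, p⟩, hcp⟩ := hC.2 x
      exact ⟨c, c.2, p, p.2, hcp.symm⟩
    have hpo : ∃ k, orderOf p = 2 ^ k := by
      obtain ⟨k, hk⟩ := IsPGroup.iff_orderOf.mp P.isPGroup' ⟨p, hp⟩
      exact ⟨k, by rwa [Subgroup.orderOf_mk] at hk⟩
    obtain ⟨k, hk⟩ := hpo
    have hcodd : Odd (orderOf c) := by
      refine Odd.of_dvd_nat ?_ (Subgroup.orderOf_dvd_natCard C hc)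
      rw [← hC.index_eq_card]
      exact Nat.not_even_iff_odd.mp fun he => P.not_dvd_index (even_iff_two_dvd.mp he)
    have hcp : Commute c p := HallNilpotentConj.commute_of_coprime_orderOf H c p
      (by rw [hk]; exact (hcodd.coprime_two_left.symm).pow_right k)
    have hmul := hcp.orderOf_mul_eq_mul_orderOf_of_coprime
      (by rw [hk]; exact (hcodd.coprime_two_left.symm).pow_right k)
    have hx' : Odd (orderOf (c * p)) := hx
    rw [hmul, Nat.odd_mul, hk] at hx'
    rcases Nat.eq_zero_or_pos k with rfl | hk0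
    · rw [pow_zero, orderOf_eq_one_iff] at hk
      simpa [hk] using hc
    · exact absurd ((Nat.odd_pow_iff hk0.ne').mp hx'.2) (by decide)
  have hiC : i ∈ C := hCle (pow_mem hy n)
  have hi1 : i ∈ (P : Subgroup H) ⊓ C := ⟨hP (mem_zpowers i), hiC⟩
  rw [disjoint_iff.mp hC.symm.disjoint, mem_bot] at hi1
  rw [hi1, orderOf_one] at hn
  omega

/-- An involution outside a normal subgroup of even order centralises an involution in it. -/
theorem exists_involution_commute (L : Subgroup G) [L.Normal] (hL : Even (Nat.card L)) {i : G}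
    (hi : orderOf i = 2) : ∃ j ∈ L, orderOf j = 2 ∧ i * j = j * i := by
  haveI : Fact (Nat.Prime 2) := ⟨Nat.prime_two⟩
  obtain ⟨S, hS⟩ := IsPGroup.exists_le_sylow (G := G)
    (IsPGroup.of_card (n := 1) (by rw [Nat.card_zpowers, hi, pow_one]) : IsPGroup 2 (zpowers i))
  have hiS : i ∈ (S : Subgroup G) := hS (mem_zpowers i)
  have hne : L.subgroupOf (S : Subgroup G) ≠ ⊥ := by
    intro h
    rw [Subgroup.subgroupOf_eq_bot] at h
    have hodd : Odd (Nat.card L) := odd_card_of_no_involution fun x hx hx2 => by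
      obtain ⟨Q, hQ⟩ := IsPGroup.exists_le_sylow (G := G)
        (IsPGroup.of_card (n := 1) (by rw [Nat.card_zpowers, hx2, pow_one]) :
          IsPGroup 2 (zpowers x))
      obtain ⟨g, hg⟩ := MulAction.exists_smul_eq G Q S
      have hgx : g * x * g⁻¹ ∈ (S : Subgroup G) := by
        rw [← hg, Sylow.coe_subgroup_smul]
        exact Subgroup.smul_mem_pointwise_smul _ (MulAut.conj g) _ (hQ (mem_zpowers x))
      have := Subgroup.disjoint_def.mp h (Subgroup.Normal.conj_mem inferInstance _ hx g) hgx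
      rw [conj_eq_one_iff] at this
      rw [this, orderOf_one] at hx2
      omega
    exact (Nat.not_even_iff_odd.mpr hodd) hL
  haveI : (L.subgroupOf (S : Subgroup G)).Normal := inferInstance
  obtain ⟨⟨u, hu⟩, hu1⟩ := Subgroup.ne_bot_iff_exists_ne_one.mp
    (PGroupsBasic.inf_center_ne_bot S.isPGroup' hne)
  obtain ⟨huL, hucen⟩ := hu
  obtain ⟨k, hk⟩ := IsPGroup.iff_orderOf.mp S.isPGroup' u
  rcases k with _ | k
  · exact absurd (Subtype.ext (orderOf_eq_one_iff.mp (by simpa using hk))) hu1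
  · obtain ⟨n, hn⟩ := orderOf_two_of_even (t := u) (by rw [hk]; exact ⟨2 ^ k, by ring⟩)
    refine ⟨((u ^ n : (S : Subgroup G)) : G), ?_, by rw [Subgroup.orderOf_coe, hn], ?_⟩
    · exact mem_subgroupOf.mp (pow_mem huL n)
    · exact congrArg Subtype.val (Subgroup.mem_center_iff.mp (pow_mem hucen n) ⟨i, hiS⟩)

/-- A simple non-abelian group has an odd-order element normalising, but not centralising, a
`2`-subgroup. -/
theorem exists_pair (L : Type*) [Group L] [Finite L] [IsSimpleGroup L]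
    (hL : ∃ a b : L, a * b ≠ b * a) :
    ∃ (P : Sylow 2 L) (Q : Subgroup L), Q ≤ (P : Subgroup L) ∧
      ∃ d ∈ normalizer (Q : Set L), Odd (orderOf d) ∧ d ∉ centralizer (Q : Set L) := by
  haveI : Fact (Nat.Prime 2) := ⟨Nat.prime_two⟩
  obtain ⟨P⟩ : Nonempty (Sylow 2 L) := inferInstance
  refine ⟨P, ?_⟩
  by_contra h
  push Not at h
  obtain ⟨N, hN, hc⟩ := (S0071.result P).mpr fun Q hQ g hg hcop =>
    h Q hQ g hg (Nat.Coprime.odd_of_right hcop)
  obtain ⟨a, b, hab⟩ := hL
  rcases hN.eq_bot_or_eq_top with rfl | rfl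
  · have htop : (P : Subgroup L) = ⊤ := by
      have := hc.sup_eq_top
      rwa [bot_sup_eq] at this
    haveI : Group.IsNilpotent L := by
      have := P.isPGroup'
      rw [htop] at this
      exact (this.of_equiv Subgroup.topEquiv).isNilpotent
    exact hab ((IsSimpleGroup.comm_iff_isSolvable (G := L)).mpr inferInstance a b)
  · have hbot : (P : Subgroup L) = ⊥ := disjoint_top.mp hc.disjoint.symm
    have : Odd (Nat.card L) := by
      refine Nat.not_even_iff_odd.mp fun he => ?_
      have hd := P.dvd_card_of_dvd_card (even_iff_two_dvd.mp he)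
      rw [hbot, Subgroup.card_bot] at hd
      exact absurd hd (by decide)
    exact hab ((IsSimpleGroup.comm_iff_isSolvable (G := L)).mpr (S0205.result this) a b)

variable (hCN : Cfsg.IsCNGroup G) (L : Subgroup G) [L.Normal] (hLs : IsSimpleGroup L)
  (hLna : ∃ a b : L, a * b ≠ b * a)
  (hone : ∀ a ∈ L, ∀ b ∈ L, orderOf a = 2 → orderOf b = 2 → ∃ l ∈ L, l * a * l⁻¹ = b)

include hCN hLs hLna in
theorem even_card : Even (Nat.card L) := by
  by_contra h
  haveI := hLs
  obtain ⟨a, b, hab⟩ := hLna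
  exact hab ((IsSimpleGroup.comm_iff_isSolvable (G := L)).mpr
    (S0205.result (Nat.not_even_iff_odd.mp h)) a b)

include hCN hLs hLna hone in
/-- The index of `L` is a power of `2`. -/
theorem index_two_pow : ∀ r : ℕ, r.Prime → r ∣ L.index → r = 2 := by
  haveI : Fact (Nat.Prime 2) := ⟨Nat.prime_two⟩
  obtain ⟨P, Q, hQP, d, hdN, hdodd, hdC⟩ := exists_pair L hLna
  obtain ⟨S, hS⟩ := IsPGroup.exists_le_sylow (G := G) (P.isPGroup'.map L.subtype)
  have heven := even_card hCN L hLs hLna
  -- a central involution of `S` inside `L`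
  obtain ⟨z, hzL, hz, hzS⟩ : ∃ z ∈ L, orderOf z = 2 ∧ ∀ s ∈ (S : Subgroup G), s * z = z * s := by
    have hne : L.subgroupOf (S : Subgroup G) ≠ ⊥ := by
      intro h
      rw [Subgroup.subgroupOf_eq_bot] at h
      have hle : (P : Subgroup L).map L.subtype ≤ ⊥ := fun x hx => by
        have hxL : x ∈ L := Subgroup.map_subtype_le _ hx
        exact mem_bot.mpr (Subgroup.disjoint_def.mp h hxL (hS hx))
      rw [le_bot_iff, Subgroup.map_eq_bot_iff_of_injective _ L.subtype_injective] at hle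
      have hd := P.dvd_card_of_dvd_card (even_iff_two_dvd.mp heven)
      rw [hle, Subgroup.card_bot] at hd
      exact absurd hd (by decide)
    obtain ⟨⟨u, hu⟩, hu1⟩ := Subgroup.ne_bot_iff_exists_ne_one.mp
      (PGroupsBasic.inf_center_ne_bot S.isPGroup' hne)
    obtain ⟨huL, hucen⟩ := hu
    obtain ⟨k, hk⟩ := IsPGroup.iff_orderOf.mp S.isPGroup' u
    rcases k with _ | k
    · exact absurd (Subtype.ext (orderOf_eq_one_iff.mp (by simpa using hk))) hu1
    · obtain ⟨n, hn⟩ := orderOf_two_of_even (t := u) (by rw [hk]; exact ⟨2 ^ k, by ring⟩)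
      refine ⟨((u ^ n : (S : Subgroup G)) : G), mem_subgroupOf.mp (pow_mem huL n),
        by rw [Subgroup.orderOf_coe, hn], fun s hs => ?_⟩
      exact congrArg Subtype.val (Subgroup.mem_center_iff.mp (pow_mem hucen n) ⟨s, hs⟩)
  have hz1 : z ≠ 1 := fun e => by rw [e, orderOf_one] at hz; omega
  -- an element of `Q`
  obtain ⟨q, hq, hdq⟩ : ∃ q ∈ Q, (d : G) * (q : G) ≠ (q : G) * d := by
    by_contra h
    push Not at h
    exact hdC (mem_centralizer_iff.mpr fun q hq => Subtype.ext (h q hq).symm)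
  have hqS : ∀ x ∈ Q, (x : G) ∈ (S : Subgroup G) := fun x hx =>
    hS (Subgroup.mem_map_of_mem _ (hQP hx))
  have hq2 : ∀ x ∈ Q, ∃ k, orderOf (x : G) = 2 ^ k := fun x hx => by
    obtain ⟨k, hk⟩ := IsPGroup.iff_orderOf.mp S.isPGroup' ⟨x, hqS x hx⟩
    exact ⟨k, by rwa [Subgroup.orderOf_mk] at hk⟩
  have hq1 : (q : G) ≠ 1 := fun e => hdq (by rw [e, mul_one, one_mul])
  -- odd-order elements centralising `Q`
  let W : Set G := {w | Odd (orderOf w) ∧ ∀ x ∈ Q, w * (x : G) = (x : G) * w}
  have hdodd' : Odd (orderOf (d : G)) := by rwa [Subgroup.orderOf_coe]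
  have hWfix : ∀ w ∈ W, (d : G) * w = w * d → w = 1 := by
    intro w hw hcomm
    by_contra hw1
    obtain ⟨k, hk⟩ := hq2 q hq
    refine hdq (CNBasic.commute hCN hw1 hcomm.symm (hw.2 q hq) ?_).eq
    rw [hk]
    exact (hdodd'.coprime_two_left.symm).pow_right k
  haveI := hCN (q : G) hq1
  have hWmul : ∀ a ∈ W, ∀ b ∈ W, a * b ∈ W := by
    intro a ha b hb
    refine ⟨?_, fun x hx => ?_⟩
    · have h := odd_mul (H := centralizer ({(q : G)} : Set G))
        (a := ⟨a, mem_centralizer_singleton_iff.mpr (ha.2 q hq)⟩)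
        (b := ⟨b, mem_centralizer_singleton_iff.mpr (hb.2 q hq)⟩)
        (by rw [Subgroup.orderOf_mk]; exact ha.1) (by rw [Subgroup.orderOf_mk]; exact hb.1)
      rwa [← Subgroup.orderOf_coe] at h
    · rw [mul_assoc, hb.2 x hx, ← mul_assoc, ha.2 x hx, mul_assoc]
  have hWinv : ∀ a ∈ W, a⁻¹ ∈ W := fun a ha =>
    ⟨by rw [orderOf_inv]; exact ha.1, fun x hx => (Commute.inv_left (ha.2 x hx)).eq⟩
  have hWconj : ∀ a ∈ W, (d : G) * a * (d : G)⁻¹ ∈ W := by
    intro a ha
    refine ⟨?_, fun x hx => ?_⟩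
    · rw [← MulAut.conj_apply, MulEquiv.orderOf_eq]; exact ha.1
    · have hx' : d⁻¹ * x * d ∈ Q := by
        have := (mem_normalizer_iff.mp (inv_mem hdN) x).mp hx
        rwa [inv_inv] at this
      have e := ha.2 _ hx'
      push_cast at e
      calc (d : G) * a * (d : G)⁻¹ * x = d * (a * ((d : G)⁻¹ * x * d)) * (d : G)⁻¹ := by group
        _ = d * ((d : G)⁻¹ * x * d * a) * (d : G)⁻¹ := by rw [e]
        _ = x * (d * a * (d : G)⁻¹) := by group
  have hWL : ∀ y ∈ W, y ∈ L := by
    intro y hy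
    let f : W → W := fun w => ⟨(w : G) * ((d : G) * (w : G)⁻¹ * (d : G)⁻¹),
      hWmul _ w.2 _ (hWconj _ (hWinv _ w.2))⟩
    have hinj : Function.Injective f := by
      intro v w hvw
      have e : (v : G) * ((d : G) * (v : G)⁻¹ * (d : G)⁻¹) =
          (w : G) * ((d : G) * (w : G)⁻¹ * (d : G)⁻¹) := congrArg Subtype.val hvw
      have h1 := hWfix ((w : G)⁻¹ * v) (hWmul _ (hWinv _ w.2) _ v.2) ?_
      · exact Subtype.ext (inv_mul_eq_one.mp h1).symm
      · calc (d : G) * ((w : G)⁻¹ * v)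
            = (w : G)⁻¹ * ((w : G) * ((d : G) * (w : G)⁻¹ * (d : G)⁻¹)) * d * v := by group
          _ = (w : G)⁻¹ * ((v : G) * ((d : G) * (v : G)⁻¹ * (d : G)⁻¹)) * d * v := by rw [e]
          _ = (w : G)⁻¹ * v * d := by group
    obtain ⟨⟨w, hw⟩, hwy⟩ := (Finite.injective_iff_surjective.mp hinj) ⟨y, hy⟩
    have : w * ((d : G) * w⁻¹ * (d : G)⁻¹) = y := congrArg Subtype.val hwy
    rw [← this, show w * ((d : G) * w⁻¹ * (d : G)⁻¹) = w * (d : G) * w⁻¹ * (d : G)⁻¹ by group]
    exact mul_mem (Subgroup.Normal.conj_mem inferInstance _ d.2 w) (inv_mem d.2)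
  -- every odd-order element of `C(z)` lies in `L`
  have hzodd : ∀ y : G, y * z = z * y → Odd (orderOf y) → y ∈ L := by
    intro y hy hyodd
    refine hWL y ⟨hyodd, fun x hx => ?_⟩
    obtain ⟨k, hk⟩ := hq2 x hx
    refine (CNBasic.commute hCN hz1 hy.symm (hzS _ (hqS x hx)).symm ?_).eq
    rw [hk]
    exact (hyodd.coprime_two_left.symm).pow_right k
  intro r hr hrL
  by_contra hr2
  haveI := Fact.mk hr
  rw [Subgroup.index_eq_card] at hrL
  obtain ⟨y, hy⟩ := exists_prime_orderOf_dvd_card' (G := G ⧸ L) r hrL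
  obtain ⟨g, rfl⟩ := QuotientGroup.mk'_surjective L y
  obtain ⟨l, hl, hlg⟩ := hone z hzL (g * z * g⁻¹) (Subgroup.Normal.conj_mem inferInstance _ hzL g) hz
    (by rw [← MulAut.conj_apply, MulEquiv.orderOf_eq]; exact hz)
  set c := l⁻¹ * g with hc
  have hcz : c * z = z * c := by
    calc c * z = l⁻¹ * (g * z * g⁻¹) * g := by rw [hc]; group
      _ = l⁻¹ * (l * z * l⁻¹) * g := by rw [hlg]
      _ = z * c := by rw [hc]; group
  have hcimg : QuotientGroup.mk' L c = QuotientGroup.mk' L g := by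
    rw [hc, map_mul, map_inv, (QuotientGroup.eq_one_iff l).mpr hl |> fun h =>
      show QuotientGroup.mk' L l = 1 from h]
    rw [inv_one, one_mul]
  obtain ⟨a, b, hbodd, hab⟩ := Nat.exists_eq_two_pow_mul_odd (orderOf_pos c).ne'
  have hodd : Odd (orderOf (c ^ (2 ^ a))) := by
    rw [orderOf_pow' c (by positivity), hab, Nat.gcd_mul_right_left,
      Nat.mul_div_cancel_left _ (by positivity)]
    exact hbodd
  have hmem := hzodd (c ^ (2 ^ a)) ((show Commute c z from hcz).pow_left _).eq hodd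
  have h1 : QuotientGroup.mk' L g ^ (2 ^ a) = 1 := by
    rw [← hcimg, ← map_pow]
    exact (QuotientGroup.eq_one_iff _).mpr hmem
  have := orderOf_dvd_of_pow_eq_one h1
  rw [hy] at this
  exact hr2 ((Nat.prime_dvd_prime_iff_eq hr Nat.prime_two).mp (hr.dvd_of_dvd_pow this))

/-- A group acting with trivial stabilisers on a finite set has order dividing the size of the set. -/
theorem card_dvd_of_free {T X : Type*} [Group T] [Finite T] [Finite X] [MulAction T X]
    (hfree : ∀ (t : T) (x : X), t • x = x → t = 1) : Nat.card T ∣ Nat.card X := by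
  classical
  rw [Nat.card_congr (MulAction.selfEquivSigmaOrbitsQuotientStabilizer T X)]
  haveI : Fintype (Quotient (MulAction.orbitRel T X)) := Fintype.ofFinite _
  rw [Nat.card_sigma]
  refine Finset.dvd_sum fun ω _ => ?_
  have hb : MulAction.stabilizer T ω.out = ⊥ := by
    rw [eq_bot_iff]
    intro t ht
    exact mem_bot.mpr (hfree t _ ht)
  rw [← Subgroup.index_eq_card, hb, Subgroup.index_bot]

include hCN hLs hLna hone in
/-- The index of `L` is bounded by the action on a subgroup `D` of odd order covering the outer part. -/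
theorem index_bound (D : Subgroup G) (hD : Odd (Nat.card D))
    (hcover : L ⊔ normalizer (D : Set G) = ⊤)
    (hcent : ∀ d ∈ D, d ≠ 1 → ∀ j ∈ L, orderOf j = 2 → d * j ≠ j * d)
    (hDL : D ≤ L) {k : ℕ} (hk : 2 ^ k ∣ Nat.card ↥(L ⊓ normalizer (D : Set G))) :
    2 ^ k * L.index ∣ Nat.card D - 1 := by
  haveI : Fact (Nat.Prime 2) := ⟨Nat.prime_two⟩
  set N := normalizer (D : Set G)
  have hidx : L.index = (L.subgroupOf N).index := by
    have h := Subgroup.relIndex_sup_left (H := N) (K := L)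
    rw [hcover, Subgroup.relIndex_top_right] at h
    exact h
  have hcardN : Nat.card N = Nat.card ↥(L ⊓ N) * L.index := by
    rw [hidx, ← Subgroup.card_mul_index (L.subgroupOf N)]
    congr 1
    exact Nat.card_congr ((Subgroup.subgroupOf_map_subtype L N) ▸
      (Subgroup.equivMapOfInjective (L.subgroupOf N) N.subtype N.subtype_injective).toEquiv)
  obtain ⟨a, ha⟩ : ∃ a, L.index = 2 ^ a := by
    refine ⟨L.index.primeFactorsList.length,
      Nat.eq_prime_pow_of_unique_prime_dvd Subgroup.index_ne_zero_of_finite fun {r} hr hrL => ?_⟩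
    exact index_two_pow hCN L hLs hLna hone r hr hrL
  obtain ⟨T, -⟩ := IsPGroup.exists_le_sylow (G := N) (IsPGroup.of_bot (p := 2) (G := N))
  have hT : 2 ^ k * L.index ∣ Nat.card T := by
    rw [ha, ← pow_add, T.card_eq_multiplicity]
    refine Nat.pow_dvd_pow 2 ?_
    refine (Nat.Prime.pow_dvd_iff_le_factorization Nat.prime_two Nat.card_pos.ne').mp ?_
    rw [pow_add, hcardN, ha]
    exact Nat.mul_dvd_mul hk dvd_rfl
  refine hT.trans ?_
  -- `T` acts freely on `D \ {1}`
  have hfree : ∀ t : (T : Subgroup N), t ≠ 1 → ∀ d ∈ D, d ≠ 1 →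
      ((t : N) : G) * d ≠ d * ((t : N) : G) := by
    intro t ht d hd hd1 hcomm
    obtain ⟨m, hm⟩ := IsPGroup.iff_orderOf.mp T.isPGroup' t
    rcases m with _ | m
    · exact ht (orderOf_eq_one_iff.mp (by simpa using hm))
    obtain ⟨n, hn⟩ := orderOf_two_of_even (t := t) (by rw [hm]; exact ⟨2 ^ m, by ring⟩)
    set i : G := ((t : N) : G) ^ n with hi
    have hi2 : orderOf i = 2 := by
      have : i = (((t ^ n : (T : Subgroup N)) : N) : G) := by rw [hi]; simp
      rw [this, Subgroup.orderOf_coe, Subgroup.orderOf_coe, hn]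
    have hid : i * d = d * i := ((show Commute ((t : N) : G) d from hcomm).pow_left n).eq
    by_cases hiL : i ∈ L
    · exact hcent d hd hd1 i hiL hi2 hid.symm
    · obtain ⟨j, hjL, hj2, hij⟩ :=
        exists_involution_commute L (even_card hCN L hLs hLna) hi2
      refine hcent d hd hd1 j hjL hj2 (CNBasic.commute hCN (g := i) ?_ hid hij ?_).eq
      · intro e
        rw [e, orderOf_one] at hi2
        omega
      · rw [hj2]
        exact (hD.of_dvd_nat (Subgroup.orderOf_dvd_natCard D hd)).coprime_two_left.symm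
  let X := {d : G // d ∈ D ∧ d ≠ 1}
  have hX : Nat.card X = Nat.card D - 1 := by
    classical
    haveI : Fintype X := Fintype.ofFinite X
    haveI : Fintype D := Fintype.ofFinite D
    have e : X ≃ {d : D // d ≠ 1} :=
      ⟨fun x => ⟨⟨x.1, x.2.1⟩, fun h => x.2.2 (congrArg Subtype.val h)⟩,
        fun d => ⟨d.1.1, d.1.2, fun h => d.2 (Subtype.ext h)⟩, fun x => rfl, fun d => rfl⟩
    rw [Nat.card_congr e, Nat.card_eq_fintype_card, Nat.card_eq_fintype_card]
    simp [Fintype.card_subtype_compl]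
  have hmemN : ∀ (t : N) (x : X), (t : G) * x.1 * (t : G)⁻¹ ∈ D ∧ (t : G) * x.1 * (t : G)⁻¹ ≠ 1 :=
    fun t x => ⟨(mem_normalizer_iff.mp t.2 _).mp x.2.1, fun h => x.2.2 (conj_eq_one_iff.mp h)⟩
  letI : MulAction (T : Subgroup N) X :=
    { smul := fun t x => ⟨((t : N) : G) * x.1 * ((t : N) : G)⁻¹, hmemN t x⟩
      one_smul := fun x => Subtype.ext (by
        show (((1 : (T : Subgroup N)) : N) : G) * x.1 * _⁻¹ = x.1
        simp)
      mul_smul := fun a b x => Subtype.ext (by
        show (((a * b : (T : Subgroup N)) : N) : G) * x.1 * (((a * b : (T : Subgroup N)) : N) : G)⁻¹ =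
          ((a : N) : G) * (((b : N) : G) * x.1 * ((b : N) : G)⁻¹) * ((a : N) : G)⁻¹
        simp [mul_assoc]) }
  rw [← hX]
  refine card_dvd_of_free fun t x htx => ?_
  by_contra ht
  have e : ((t : N) : G) * x.1 * ((t : N) : G)⁻¹ = x.1 := congrArg Subtype.val htx
  exact hfree t ht x.1 x.2.1 x.2.2 (mul_inv_eq_iff_eq_mul.mp e)

end Cfsg.Agent.CNAlmostSimple57
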