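import Mathlib
import Cfsg.Prelude
import Cfsg.Agent.Lib.CNAlmostSimple57

/-!
The data about a simple group needed to bound the index in an almost simple CN-group.
-/

set_option autoImplicit false
set_option linter.style.haveILetI false

namespace Cfsg.Agent.CNFacts57

open Subgroup

/-- One class of involutions and an invariant class of odd subgroups without commuting
involutions, whose normaliser has order divisible by `2 ^ k`. -/
structure Facts (X : Type*) [Group X] (D : Subgroup X) (k : ℕ) : Prop where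
  one : ∀ a b : X, orderOf a = 2 → orderOf b = 2 → IsConj a b
  odd : Odd (Nat.card D)
  conj : ∀ φ : MulAut X, ∃ l : X, D.map (MulAut.conj l).toMonoidHom = D.map φ.toMonoidHom
  cent : ∀ d ∈ D, d ≠ 1 → ∀ j : X, orderOf j = 2 → d * j ≠ j * d
  two : 2 ^ k ∣ Nat.card (normalizer (D : Set X))

/-- If the centralisers of involutions are `2`-groups, odd subgroups meet none of them. -/
theorem cent_of_cit {X : Type*} [Group X] [Finite X]
    (hcit : ∀ j : X, orderOf j = 2 → IsPGroup 2 (centralizer ({j} : Set X)))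
    (D : Subgroup X) (hD : Odd (Nat.card D)) :
    ∀ d ∈ D, d ≠ 1 → ∀ j : X, orderOf j = 2 → d * j ≠ j * d := by
  intro d hd hd1 j hj hc
  haveI : Fact (Nat.Prime 2) := ⟨Nat.prime_two⟩
  obtain ⟨n, hn⟩ := IsPGroup.iff_orderOf.mp (hcit j hj) ⟨d, mem_centralizer_singleton_iff.mpr hc⟩
  rw [Subgroup.orderOf_mk] at hn
  have hodd : Odd (orderOf d) := hD.of_dvd_nat (Subgroup.orderOf_dvd_natCard D hd)
  rcases n with _ | n
  · exact hd1 (orderOf_eq_one_iff.mp (by simpa using hn))
  · rw [hn, Nat.odd_pow_iff (by omega)] at hodd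
    exact absurd hodd (by decide)

/-- Full Sylow subgroups form an invariant class. -/
theorem conj_of_sylow {X : Type*} [Group X] [Finite X] {p n b : ℕ} [Fact p.Prime]
    (D : Subgroup X) (hD : Nat.card D = p ^ n) (hX : Nat.card X = p ^ n * b) (hb : ¬ p ∣ b)
    (φ : MulAut X) : ∃ l : X, D.map (MulAut.conj l).toMonoidHom = D.map φ.toMonoidHom := by
  have hf : (Nat.card X).factorization p = n := by
    have hp : p.Prime := Fact.out
    have hb0 : b ≠ 0 := fun h => hb (h ▸ dvd_zero p)
    rw [hX, Nat.factorization_mul (pow_ne_zero _ hp.ne_zero) hb0, Finsupp.add_apply,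
      hp.factorization_pow, Finsupp.single_eq_same, Nat.factorization_eq_zero_of_not_dvd hb,
      add_zero]
  let P : Sylow p X := Sylow.ofCard D (by rw [hD, hf])
  let Q : Sylow p X := Sylow.ofCard (D.map φ.toMonoidHom) (by
    rw [Subgroup.card_map_of_injective φ.injective, hD, hf])
  obtain ⟨l, hl⟩ := MulAction.exists_smul_eq X P Q
  refine ⟨l, ?_⟩
  have := congrArg (fun S : Sylow p X => (S : Subgroup X)) hl
  simp only [P, Q, Sylow.coe_subgroup_smul, Subgroup.pointwise_smul_def, Sylow.coe_ofCard] at this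
  exact this

variable {G : Type*} [Group G] [Finite G]

/-- The bound on the index of a simple normal subgroup of a CN-group. -/
theorem bound (hCN : Cfsg.IsCNGroup G) (L : Subgroup G) [L.Normal] (hLs : IsSimpleGroup L)
    (hLna : ∃ a b : L, a * b ≠ b * a) {X : Type*} [Group X] (e : L ≃* X) {D : Subgroup X}
    {k : ℕ} (f : Facts X D k) : 2 ^ k * L.index ∣ Nat.card D - 1 := by
  let ι : X →* G := L.subtype.comp e.symm.toMonoidHom
  have hι : Function.Injective ι := L.subtype_injective.comp e.symm.injective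
  have hιe : ∀ a : L, ι (e a) = a := fun a => by simp [ι]
  have hιL : ∀ x, ι x ∈ L := fun x => (e.symm x).2
  have hord : ∀ x, orderOf (ι x) = orderOf x := fun x => orderOf_injective ι hι x
  have hcard : Nat.card (D.map ι) = Nat.card D := Subgroup.card_map_of_injective hι
  rw [← hcard]
  refine CNAlmostSimple57.index_bound hCN L hLs hLna (fun a ha b hb ha2 hb2 => ?_) (D.map ι)
    (hcard ▸ f.odd) ?_ ?_ (by rintro _ ⟨x, -, rfl⟩; exact hιL x) ?_
  · obtain ⟨c, hc⟩ := isConj_iff.mp (f.one (e ⟨a, ha⟩) (e ⟨b, hb⟩)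
      (by rw [MulEquiv.orderOf_eq, Subgroup.orderOf_mk, ha2])
      (by rw [MulEquiv.orderOf_eq, Subgroup.orderOf_mk, hb2]))
    refine ⟨ι c, hιL c, ?_⟩
    have h := congrArg ι hc
    rwa [map_mul, map_mul, map_inv, hιe, hιe] at h
  · rw [eq_top_iff]
    intro g _
    let φ : MulAut X := (e.symm.trans (MulAut.conjNormal g : MulAut L)).trans e
    have hφ : ∀ x, ι (φ x) = g * ι x * g⁻¹ := fun x => by
      simp [ι, φ, MulAut.conjNormal_apply]
    obtain ⟨l, hl⟩ := f.conj φ
    have hmem : (ι l)⁻¹ * g ∈ normalizer (((D.map ι : Subgroup G)) : Set G) := by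
      refine mem_normalizer_iff_map_conj_eq.2 (Subgroup.eq_of_le_of_card_ge ?_ ?_)
      swap
      · exact (Subgroup.card_map_of_injective (MulAut.conj _).injective).ge
      rintro _ ⟨_, ⟨d, hd, rfl⟩, rfl⟩
      obtain ⟨d', hd', he⟩ := (hl.ge ⟨d, hd, rfl⟩ : φ d ∈ D.map (MulAut.conj l).toMonoidHom)
      refine ⟨d', hd', ?_⟩
      have h := congrArg ι he
      simp only [MulEquiv.coe_toMonoidHom, MulAut.conj_apply, map_mul, map_inv, hφ] at h
      show ι d' = (ι l)⁻¹ * g * ι d * ((ι l)⁻¹ * g)⁻¹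
      calc ι d' = (ι l)⁻¹ * (ι l * ι d' * (ι l)⁻¹) * ι l := by group
        _ = _ := by rw [h]; group
    have := mul_mem_sup (hιL l : ι l ∈ L) hmem
    rwa [mul_inv_cancel_left] at this
  · rintro _ ⟨d, hd, rfl⟩ hd1 j hj hj2 hc
    refine f.cent d hd (fun h => hd1 (by rw [h, map_one])) (e ⟨j, hj⟩)
      (by rw [MulEquiv.orderOf_eq, Subgroup.orderOf_mk, hj2]) (hι ?_)
    rw [map_mul, map_mul, hιe]
    exact hc
  · have h1 : (normalizer (D : Set X)).map ι ≤ L ⊓ normalizer ((D.map ι : Subgroup G) : Set G) := by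
      rintro _ ⟨x, hx, rfl⟩
      exact ⟨hιL x, Subgroup.le_normalizer_map ι ⟨x, hx, rfl⟩⟩
    have h2 := Subgroup.card_dvd_of_le h1
    rw [Subgroup.card_map_of_injective hι] at h2
    exact f.two.trans h2

end Cfsg.Agent.CNFacts57
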