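import Mathlib
import Cfsg.Prelude.Def_ClassicalGeometry

/-!
Conjugacy of transvection matrices in `SL`.
-/

set_option autoImplicit false

open Matrix

namespace Cfsg.Agent.TransvectionConj

variable {F : Type*} [Field F]

theorem exists_vecMulVec {n : ℕ} {t : Matrix (Fin n) (Fin n) F} (ht : Cfsg.IsTransvection t) :
    ∃ u w : Fin n → F, u ≠ 0 ∧ w ≠ 0 ∧ w ⬝ᵥ u = 0 ∧ t = 1 + Matrix.vecMulVec u w := by
  obtain ⟨hr, hsq⟩ := ht
  rw [Matrix.rank] at hr
  obtain ⟨⟨u, hu⟩, hu0, hspan⟩ := finrank_eq_one_iff'.1 hr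
  have hcol : ∀ j, ∃ c : F, c • u = (t - 1) *ᵥ Pi.single j 1 := fun j => by
    obtain ⟨c, hc⟩ := hspan ⟨(t - 1) *ᵥ Pi.single j 1, ⟨Pi.single j 1, rfl⟩⟩
    exact ⟨c, congrArg Subtype.val hc⟩
  choose w hw using hcol
  have hN : t - 1 = Matrix.vecMulVec u w := by
    ext i j
    have h := congrFun (hw j) i
    simp at h
    rw [Matrix.vecMulVec_apply, mul_comm, h]
    simp
  have hu0' : u ≠ 0 := fun h => hu0 (Subtype.ext h)
  have hw0 : w ≠ 0 := by
    intro h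
    obtain ⟨z, hz⟩ := hu
    apply hu0'
    rw [← hz, hN, h]
    simp
  refine ⟨u, w, hu0', hw0, ?_, by rw [← hN]; abel⟩
  rw [hN, Matrix.vecMulVec_mul_vecMulVec] at hsq
  obtain ⟨i, hi⟩ := Function.ne_iff.1 hu0'
  obtain ⟨j, hj⟩ := Function.ne_iff.1 hw0
  have h := congrFun (congrFun hsq i) j
  simp only [Matrix.vecMulVec_apply, Pi.smul_apply, smul_eq_mul, Matrix.zero_apply] at h
  simp only [Pi.zero_apply] at hi hj
  simpa [hi, hj] using h

theorem conj_vecMulVec {n : ℕ} (g : Matrix.SpecialLinearGroup (Fin n) F) (u w : Fin n → F) :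
    ((g⁻¹ : Matrix.SpecialLinearGroup (Fin n) F) : Matrix (Fin n) (Fin n) F) *
        (1 + Matrix.vecMulVec u w) * (g : Matrix (Fin n) (Fin n) F) =
      1 + Matrix.vecMulVec (((g⁻¹ : Matrix.SpecialLinearGroup (Fin n) F) : Matrix (Fin n) (Fin n) F) *ᵥ u)
        (w ᵥ* (g : Matrix (Fin n) (Fin n) F)) := by
  rw [mul_add, add_mul, mul_one, Matrix.mul_vecMulVec, Matrix.vecMulVec_mul,
    ← Matrix.SpecialLinearGroup.coe_mul, inv_mul_cancel, Matrix.SpecialLinearGroup.coe_one]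

/-- Every transvection is conjugate in `SL` to `1 + v e₀ᵀ` with `v 0 = 0`. -/
theorem exists_conj_first {n : ℕ} {t : Matrix (Fin (n + 2)) (Fin (n + 2)) F}
    (ht : Cfsg.IsTransvection t) :
    ∃ (g : Matrix.SpecialLinearGroup (Fin (n + 2)) F) (v : Fin (n + 2) → F), v 0 = 0 ∧ v ≠ 0 ∧
      ((g⁻¹ : Matrix.SpecialLinearGroup (Fin (n + 2)) F) : Matrix (Fin (n + 2)) (Fin (n + 2)) F) * t *
          (g : Matrix (Fin (n + 2)) (Fin (n + 2)) F)
        = 1 + Matrix.vecMulVec v (Pi.single 0 1) := by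
  obtain ⟨u, w, hu, hw, hwu, rfl⟩ := exists_vecMulVec ht
  have he : (Pi.single 0 1 : Fin (n + 2) → F) ≠ 0 := by simp
  have : MulAction.IsPretransitive (Matrix.SpecialLinearGroup (Fin (n + 2)) F)
      (Projectivization F (Fin (n + 2) → F)) := inferInstance
  obtain ⟨M, hM⟩ := MulAction.exists_smul_eq (Matrix.SpecialLinearGroup (Fin (n + 2)) F)
    (Projectivization.mk F w hw) (Projectivization.mk F _ he)
  rw [Projectivization.smul_mk, Projectivization.mk_eq_mk_iff'] at hM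
  obtain ⟨c, hc⟩ := hM
  rw [Matrix.SpecialLinearGroup.smul_def] at hc
  let g := M.transpose
  have hg : w ᵥ* (g : Matrix (Fin (n + 2)) (Fin (n + 2)) F) = c • Pi.single 0 1 := by
    rw [hc]
    exact Matrix.vecMul_transpose M.1 w
  set a := ((g⁻¹ : Matrix.SpecialLinearGroup (Fin (n + 2)) F) :
    Matrix (Fin (n + 2)) (Fin (n + 2)) F) *ᵥ u with ha
  have hdot : (w ᵥ* (g : Matrix (Fin (n + 2)) (Fin (n + 2)) F)) ⬝ᵥ a = 0 := by
    rw [← Matrix.dotProduct_mulVec, ha, Matrix.mulVec_mulVec, ← Matrix.SpecialLinearGroup.coe_mul,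
      mul_inv_cancel, Matrix.SpecialLinearGroup.coe_one, Matrix.one_mulVec, hwu]
  refine ⟨g, c • a, ?_, ?_, ?_⟩
  · rw [hg] at hdot
    simpa [smul_dotProduct, single_dotProduct] using hdot
  · intro h0
    have hau : (g : Matrix (Fin (n + 2)) (Fin (n + 2)) F) *ᵥ a = u := by
      rw [ha, Matrix.mulVec_mulVec, ← Matrix.SpecialLinearGroup.coe_mul, mul_inv_cancel,
        Matrix.SpecialLinearGroup.coe_one, Matrix.one_mulVec]
    rcases smul_eq_zero.1 h0 with h | h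
    · apply hw
      have hz : w ᵥ* (g : Matrix (Fin (n + 2)) (Fin (n + 2)) F) = 0 := by rw [hg, h, zero_smul]
      have := congrArg (fun z => z ᵥ* ((g⁻¹ : Matrix.SpecialLinearGroup (Fin (n + 2)) F) :
        Matrix (Fin (n + 2)) (Fin (n + 2)) F)) hz
      rwa [Matrix.vecMul_vecMul, ← Matrix.SpecialLinearGroup.coe_mul, mul_inv_cancel,
        Matrix.SpecialLinearGroup.coe_one, Matrix.vecMul_one, Matrix.zero_vecMul] at this
    · rw [h, Matrix.mulVec_zero] at hau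
      exact hu hau.symm
  · rw [conj_vecMulVec, hg, Matrix.vecMulVec_smul, Matrix.smul_vecMulVec]

/-- All transvections of `SL₃` are conjugate. -/
theorem isConj_three (s t : Matrix.SpecialLinearGroup (Fin 3) F)
    (hs : Cfsg.IsTransvection (s : Matrix (Fin 3) (Fin 3) F))
    (ht : Cfsg.IsTransvection (t : Matrix (Fin 3) (Fin 3) F)) : IsConj s t := by
  suffices h : ∀ t : Matrix.SpecialLinearGroup (Fin 3) F,
      Cfsg.IsTransvection (t : Matrix (Fin 3) (Fin 3) F) →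
      ∃ g : Matrix.SpecialLinearGroup (Fin 3) F, ((g⁻¹ * t * g : Matrix.SpecialLinearGroup (Fin 3) F) :
        Matrix (Fin 3) (Fin 3) F) = 1 + Matrix.vecMulVec (Pi.single 1 1) (Pi.single 0 1) by
    obtain ⟨g, hg⟩ := h s hs
    obtain ⟨k, hk⟩ := h t ht
    have he : g⁻¹ * s * g = k⁻¹ * t * k := Subtype.ext (hg.trans hk.symm)
    refine isConj_iff.2 ⟨k * g⁻¹, ?_⟩
    calc k * g⁻¹ * s * (k * g⁻¹)⁻¹ = k * (g⁻¹ * s * g) * k⁻¹ := by simp [mul_assoc]
      _ = t := by rw [he]; simp [mul_assoc]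
  intro t ht
  obtain ⟨g, v, hv0, hv, hgt⟩ := exists_conj_first (n := 1) ht
  obtain ⟨a, b, hab⟩ : ∃ a b : F, v 1 * b - v 2 * a = 1 := by
    by_cases h1 : v 1 = 0
    · have h2 : v 2 ≠ 0 := fun h2 => hv (funext fun i => by fin_cases i <;> simpa)
      exact ⟨-(v 2)⁻¹, 0, by simp [h2]⟩
    · exact ⟨0, (v 1)⁻¹, by simp [h1]⟩
  let h : Matrix.SpecialLinearGroup (Fin 3) F :=
    ⟨!![1, 0, 0; 0, v 1, a; 0, v 2, b], by simp [Matrix.det_fin_three]; linear_combination hab⟩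
  refine ⟨g * h, ?_⟩
  have e1 : (h : Matrix (Fin 3) (Fin 3) F) *ᵥ Pi.single 1 1 = v := by
    funext i
    fin_cases i <;> simp [h, hv0]
  have e2 : (Pi.single 0 1 : Fin 3 → F) ᵥ* (h : Matrix (Fin 3) (Fin 3) F) = Pi.single 0 1 := by
    funext i
    fin_cases i <;> simp [h]
  rw [show (g * h)⁻¹ * t * (g * h) = h⁻¹ * (g⁻¹ * t * g) * h by simp [mul_assoc]]
  simp only [Matrix.SpecialLinearGroup.coe_mul] at hgt ⊢
  rw [hgt, conj_vecMulVec, e2]
  congr 2
  rw [← e1, Matrix.mulVec_mulVec, ← Matrix.SpecialLinearGroup.coe_mul, inv_mul_cancel,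
    Matrix.SpecialLinearGroup.coe_one, Matrix.one_mulVec]

end Cfsg.Agent.TransvectionConj
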