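import Mathlib
import Cfsg.Prelude
import Cfsg.Agent.Lib.CNFacts57
import Cfsg.Agent.Lib.TransvectionConj
import Cfsg.Agent.Lib.CIT21Plane

/-!
The data for `PSL₃(4)`.
-/

set_option autoImplicit false
set_option linter.style.haveILetI false
set_option linter.unusedSectionVars false

namespace Cfsg.Agent.CNFactsPSL34_57

open Matrix
open scoped MatrixGroups

variable {F : Type} [Field F] [Fintype F]

local notation "proj" => QuotientGroup.mk' (Subgroup.center SL(3, F))
local notation "PSL₃" => Matrix.ProjectiveSpecialLinearGroup (Fin 3) F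

theorem cm (A B : SL(3, F)) : (A * B).1 = A.1 * B.1 := rfl

theorem c1 : (1 : SL(3, F)).1 = 1 := rfl

theorem cp (A : SL(3, F)) (n : ℕ) : (A ^ n).1 = A.1 ^ n := by
  induction n with
  | zero => rfl
  | succ n ih => rw [pow_succ, pow_succ, cm, ih]

theorem rank_zero {M : Matrix (Fin 3) (Fin 3) F} (h : M.rank = 0) : M = 0 := by
  have h' : M.mulVecLin.range = ⊥ := Submodule.finrank_eq_zero.mp h
  exact Matrix.toLin'.injective (by
    rw [map_zero, Matrix.toLin'_apply']
    exact LinearMap.range_eq_bot.mp h')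

theorem char_two (hF : Fintype.card F = 4) : (2 : F) = 0 := by
  have h : ((4 : ℕ) : F) = 0 := by rw [← hF]; exact FiniteField.cast_card_eq_zero F
  exact mul_self_eq_zero.mp (by push_cast at h; linear_combination h)

theorem proj_eq {X Y : SL(3, F)} {r : F} (h : (X).1 = r • (Y).1) :
    proj X = proj Y := by
  have hz : Y⁻¹ * X ∈ Subgroup.center SL(3, F) := by
    have he : ((Y⁻¹ * X : SL(3, F))).1 = r • 1 := by
      rw [cm, h, Matrix.mul_smul, ← cm,
        inv_mul_cancel, c1]
    rw [Subgroup.mem_center_iff]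
    intro g
    apply Subtype.ext
    rw [cm g, cm _ g, he, Matrix.mul_smul,
      Matrix.smul_mul, mul_one, one_mul]
  exact (QuotientGroup.eq.mpr hz).symm

/-- The standard transvection. -/
def T0 : SL(3, F) := ⟨!![1, 0, 0; 1, 1, 0; 0, 0, 1], by simp [Matrix.det_fin_three]⟩

theorem T0_transvection (h2 : (2 : F) = 0) :
    Cfsg.IsTransvection ((T0 : SL(3, F))).1 := by
  have hN : ((T0 : SL(3, F))).1 - 1 = vecMulVec ![0, 1, 0] ![1, 0, 0] := by
    ext i j
    fin_cases i <;> fin_cases j <;> simp [T0, vecMulVec]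
  refine ⟨?_, ?_⟩
  · refine le_antisymm ?_ (Nat.one_le_iff_ne_zero.mpr fun h => ?_)
    · rw [hN]; exact Matrix.rank_vecMulVec_le _ _
    · replace h := rank_zero h
      rw [hN] at h
      have := congrArg (fun M : Matrix (Fin 3) (Fin 3) F => M 1 0) h
      simp [vecMulVec] at this
  · rw [hN]
    ext i j
    fin_cases i <;> fin_cases j <;> simp [Matrix.mul_apply, Fin.sum_univ_three, vecMulVec]

theorem conj_T0 (hF : Fintype.card F = 4) {j : PSL₃} (hj : orderOf j = 2) :
    IsConj j (proj T0) := by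
  have h2 := char_two hF
  obtain ⟨s, rfl⟩ := QuotientGroup.mk'_surjective _ j
  have hs2 : s * s ∈ Subgroup.center SL(3, F) := by
    have := pow_orderOf_eq_one (proj s)
    rw [hj, pow_two, ← map_mul] at this
    exact (QuotientGroup.eq_one_iff _).mp this
  set z := s * s with hz
  have hz3 : z ^ 3 = 1 := by
    obtain ⟨r, hr, he⟩ := Matrix.SpecialLinearGroup.mem_center_iff.mp hs2
    rw [Fintype.card_fin] at hr
    apply Subtype.ext
    rw [cp, ← he, ← map_pow, hr, map_one, c1]
  set s₀ := s * z with hs0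
  have hs0z : proj s₀ = proj s := by
    rw [hs0, map_mul, show proj z = 1 from (QuotientGroup.eq_one_iff _).mpr hs2, mul_one]
  have hsq : s₀ * s₀ = 1 := by
    rw [hs0]
    calc s * z * (s * z) = s * s * (z * z) := by
          rw [hz]; group
      _ = z ^ 3 := by rw [← hz, pow_three]
      _ = 1 := hz3
  have hne : s₀ ≠ 1 := fun e => by
    rw [← hs0z, e, map_one, orderOf_one] at hj
    omega
  set N := (s₀).1 - 1 with hN
  have hNN : N * N = 0 := by
    have hM : (s₀).1 * s₀ = 1 := by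
      rw [← cm, hsq, c1]
    have h : N * N = (s₀).1 * s₀ + 1 -
        (2 : F) • (s₀).1 := by
      rw [hN, two_smul]; noncomm_ring
    rw [h, hM, h2, zero_smul, sub_zero]
    ext i j
    fin_cases i <;> fin_cases j <;> simp [← two_mul, h2] <;> linear_combination h2
  have hN0 : N ≠ 0 := fun h => hne (Subtype.ext (by
    rw [hN, sub_eq_zero] at h; rw [h, c1]))
  have hrank : N.rank = 1 := by
    have h1 := Matrix.rank_add_rank_le_card_of_mul_eq_zero hNN
    rw [Fintype.card_fin] at h1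
    have : N.rank ≠ 0 := fun h => hN0 (rank_zero h)
    omega
  rw [← hs0z]
  exact MonoidHom.map_isConj proj
    (TransvectionConj.isConj_three s₀ T0 ⟨hrank, hNN⟩ (T0_transvection h2))

theorem one_class (hF : Fintype.card F = 4) (a b : PSL₃) (ha : orderOf a = 2)
    (hb : orderOf b = 2) : IsConj a b := (conj_T0 hF ha).trans (conj_T0 hF hb).symm

theorem cit (hF : Fintype.card F = 4) :
    ∀ j : PSL₃, orderOf j = 2 → IsPGroup 2 (Subgroup.centralizer ({j} : Set PSL₃)) := by
  intro j hj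
  haveI : Fact (Nat.Prime 2) := ⟨Nat.prime_two⟩
  have h2 := char_two hF
  obtain ⟨c, hc⟩ := isConj_iff.mp (conj_T0 hF hj)
  refine fun h => ⟨2, ?_⟩
  obtain ⟨g, hg⟩ := QuotientGroup.mk'_surjective (Subgroup.center SL(3, F)) (c * (h : PSL₃) * c⁻¹)
  have hcomm : proj (g * T0) = proj (T0 * g) := by
    rw [map_mul, map_mul, hg, ← hc]
    have := Subgroup.mem_centralizer_singleton_iff.mp h.2
    calc c * (h : PSL₃) * c⁻¹ * (c * j * c⁻¹) = c * ((h : PSL₃) * j) * c⁻¹ := by group
      _ = c * (j * (h : PSL₃)) * c⁻¹ := by rw [this]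
      _ = _ := by group
  obtain ⟨r, -, hr⟩ := Matrix.SpecialLinearGroup.mem_center_iff.mp (QuotientGroup.eq.mp hcomm.symm)
  have heq : (g).1 * (T0 : SL(3, F)) =
      r • (((T0 : SL(3, F))).1 * g) := by
    rw [← cm, ← cm,
      show g * T0 = T0 * g * ((T0 * g)⁻¹ * (g * T0)) by rw [mul_inv_cancel_left],
      cm _ ((T0 * g)⁻¹ * (g * T0)), ← hr]
    ext i k
    simp [Matrix.scalar_apply, Matrix.mul_diagonal, mul_comm]
  set M := (g).1 with hM
  have ent : ∀ i k, (M * ((T0 : SL(3, F))).1) i k =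
      r * (((T0 : SL(3, F))).1 * M) i k := fun i k => by rw [heq]; rfl
  simp only [T0, Matrix.mul_apply, Fin.sum_univ_three] at ent
  have e00 := ent 0 0
  have e01 := ent 0 1
  have e02 := ent 0 2
  have e10 := ent 1 0
  have e11 := ent 1 1
  have e21 := ent 2 1
  have e22 := ent 2 2
  have e20 := ent 2 0
  have e12 := ent 1 2
  simp at e00 e01 e02 e10 e11 e21 e22 e20 e12
  have hdet : M.det = 1 := g.2
  rw [Matrix.det_fin_three] at hdet
  have hr1 : r = 1 := by
    by_contra hr1
    have z : ∀ x : F, x = r * x → x = 0 := fun x hx =>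
      (mul_eq_zero.mp (show (r - 1) * x = 0 by linear_combination -hx)).resolve_left
        (sub_ne_zero.mpr hr1)
    have a01 := z _ e01
    have a02 := z _ e02
    rw [a01, add_zero] at e00
    have a00 := z _ e00
    rw [a00, a01, a02] at hdet
    simp at hdet
  rw [hr1, one_mul] at e00 e10 e11 e20 e12
  have a01 : M 0 1 = 0 := by linear_combination e00
  have a21 : M 2 1 = 0 := by linear_combination e20
  have a02 : M 0 2 = 0 := by linear_combination -e12
  have a11 : M 1 1 = M 0 0 := by linear_combination e10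
  rw [a01, a02, a21, a11] at hdet
  ring_nf at hdet
  have a0 : M 0 0 ≠ 0 := fun h0 => by rw [h0] at hdet; simp at hdet
  have hp := FiniteField.pow_card_sub_one_eq_one (M 0 0) a0
  rw [hF] at hp
  have a22 : M 2 2 = M 0 0 := by linear_combination (M 0 0) * hdet - (M 2 2) * hp
  have hg4 : (M * M) * (M * M) = (M 0 0) ^ 4 • (1 : Matrix (Fin 3) (Fin 3) F) := by
    haveI : CharP F 2 := CharTwo.of_one_ne_zero_of_two_eq_zero one_ne_zero h2
    ext i k
    fin_cases i <;> fin_cases k <;>
      simp [Matrix.mul_apply, Fin.sum_univ_three, a01, a02, a21, a11, a22] <;> ring_nf <;>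
      simp [h2, show (4 : F) = 2 * 2 by norm_num, show (6 : F) = 2 * 3 by norm_num]
  have h4 : proj (g ^ 4) = proj 1 := proj_eq (r := (M 0 0) ^ 4) (by
    rw [cp, c1, ← hM, ← hg4]
    noncomm_ring)
  rw [map_pow, hg, map_one, conj_pow, conj_eq_one_iff] at h4
  exact Subtype.ext h4

variable (w : F) (hw : w ^ 2 + w + 1 = 0)
include hw

theorem w_cube : w ^ 3 = 1 := by linear_combination (w - 1) * hw

/-- `diag(1, ω, ω²)`. -/
def mA : SL(3, F) := ⟨!![1, 0, 0; 0, w, 0; 0, 0, w ^ 2], by
  simp [Matrix.det_fin_three]; linear_combination (w - 1) * hw⟩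

/-- A cyclic permutation matrix. -/
def mB : SL(3, F) := ⟨!![0, 0, 1; 1, 0, 0; 0, 1, 0], by simp [Matrix.det_fin_three]⟩

/-- The Fourier matrix. -/
def mF (h2 : (2 : F) = 0) : SL(3, F) := ⟨!![1, 1, 1; 1, w, w ^ 2; 1, w ^ 2, w], by
  simp [Matrix.det_fin_three]
  grind⟩

/-- A conjugate of the Fourier matrix. -/
def mM (h2 : (2 : F) = 0) : SL(3, F) := ⟨!![1, 1, w ^ 2; 1, w, w; w, 1, w], by
  simp [Matrix.det_fin_three]
  grind⟩

set_option maxHeartbeats 800000 in
theorem facts (hF : Fintype.card F = 4) :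
    ∃ D : Subgroup PSL₃, Nat.card D = 9 ∧ (∀ x ∈ D, x ^ 3 = 1) ∧ CNFacts57.Facts PSL₃ D 3 := by
  classical
  have h2 := char_two hF
  have hw1 : w ≠ 1 := fun e => by rw [e] at hw; exact one_ne_zero (show (1 : F) = 0 by linear_combination hw - h2)
  have hw0 : w ≠ 0 := fun e => by rw [e] at hw; norm_num at hw
  set a := proj (mA w hw) with ha
  set b := proj (mB (F := F)) with hb
  set f := proj (mF w hw h2) with hf
  set m := proj (mM w hw h2) with hm
  have ha3 : a ^ 3 = 1 := by
    rw [ha, ← map_pow, ← map_one proj]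
    refine proj_eq (r := 1) ?_
    rw [cp, pow_three', c1, one_smul]
    ext i k
    fin_cases i <;> fin_cases k <;> simp [cm, cp, mA, Matrix.mul_apply, Fin.sum_univ_three] <;> grind
  have hb3 : b ^ 3 = 1 := by
    rw [hb, ← map_pow, ← map_one proj]
    refine proj_eq (r := 1) ?_
    rw [cp, pow_three', c1, one_smul]
    ext i k
    fin_cases i <;> fin_cases k <;> simp [cm, cp, mB, Matrix.mul_apply, Fin.sum_univ_three]
  have hab : a * b = b * a := by
    rw [ha, hb, ← map_mul, ← map_mul]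
    refine proj_eq (r := w) ?_
    simp only [cm, cp]
    ext i k
    fin_cases i <;> fin_cases k <;> simp [cm, cp, mA, mB, Matrix.mul_apply, Fin.sum_univ_three] <;> grind
  have hfb : f * b = a * f := by
    rw [ha, hb, hf, ← map_mul, ← map_mul]
    refine proj_eq (r := 1) ?_
    simp only [cm, cp]
    ext i k
    fin_cases i <;> fin_cases k <;> simp [cm, cp, mA, mB, mF, Matrix.mul_apply, Fin.sum_univ_three] <;> grind
  have hfa : f * a = b * b * f := by
    rw [ha, hb, hf, ← map_mul, ← map_mul, ← map_mul]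
    refine proj_eq (r := 1) ?_
    simp only [cm, cp]
    ext i k
    fin_cases i <;> fin_cases k <;> simp [cm, cp, mA, mB, mF, Matrix.mul_apply, Fin.sum_univ_three] <;> grind
  have hmc : m * (a * b) = a * m := by
    rw [ha, hb, hm, ← map_mul, ← map_mul, ← map_mul]
    refine proj_eq (r := w) ?_
    simp only [cm, cp]
    ext i k
    fin_cases i <;> fin_cases k <;> simp [cm, cp, mA, mB, mM, Matrix.mul_apply, Fin.sum_univ_three] <;> grind
  have hma : m * a = a * b * (a * b) * m := by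
    rw [ha, hb, hm, ← map_mul, ← map_mul, ← map_mul, ← map_mul]
    refine proj_eq (r := w) ?_
    simp only [cm, cp]
    ext i k
    fin_cases i <;> fin_cases k <;> simp [cm, cp, mA, mB, mM, Matrix.mul_apply, Fin.sum_univ_three] <;> grind
  have hnot : ∀ i j : Fin 3, a ^ (i : ℕ) * b ^ (j : ℕ) = 1 → i = 0 ∧ j = 0 := by
    intro i j h
    rw [ha, hb, ← map_pow, ← map_pow, ← map_mul] at h
    obtain ⟨r, -, hr⟩ := Matrix.SpecialLinearGroup.mem_center_iff.mp ((QuotientGroup.eq_one_iff _).mp h)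
    have e0 := congrArg (fun M : Matrix (Fin 3) (Fin 3) F => M 0 0) hr
    have e1 := congrArg (fun M : Matrix (Fin 3) (Fin 3) F => M 1 1) hr
    rw [cm, cp, cp] at e0 e1
    have hw2 : w ^ 2 ≠ 1 := fun e => hw0 (by linear_combination hw - e - h2)
    have hr0 : r ≠ 0 := fun e => by
      have hd := congrArg Matrix.det hr
      rw [e, map_zero] at hd
      simp at hd
    fin_cases i <;> fin_cases j <;>
      simp [cm, cp, mA, mB, pow_two, Matrix.mul_apply, Fin.sum_univ_three] at e0 e1 ⊢ <;> grind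
  let D : Subgroup PSL₃ :=
    { carrier := Set.range fun p : Fin 3 × Fin 3 => a ^ (p.1 : ℕ) * b ^ (p.2 : ℕ)
      one_mem' := ⟨(0, 0), by simp⟩
      mul_mem' := by
        rintro _ _ ⟨p, rfl⟩ ⟨q, rfl⟩
        refine ⟨(p.1 + q.1, p.2 + q.2), ?_⟩
        show a ^ ((p.1 + q.1 : Fin 3) : ℕ) * b ^ ((p.2 + q.2 : Fin 3) : ℕ) = _
        rw [Fin.val_add, Fin.val_add, ← pow_eq_pow_mod _ ha3, ← pow_eq_pow_mod _ hb3, pow_add,
          pow_add]
        exact ((show Commute a b from hab).pow_pow _ _).mul_mul_mul_comm _ _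
      inv_mem' := by
        rintro _ ⟨p, rfl⟩
        refine ⟨(-p.1, -p.2), (inv_eq_of_mul_eq_one_right ?_).symm⟩
        rw [((show Commute b a from hab.symm).pow_pow _ _).mul_mul_mul_comm, ← pow_add, ← pow_add,
          pow_eq_pow_mod _ ha3, pow_eq_pow_mod _ hb3, ← Fin.val_add, ← Fin.val_add]
        simp }
  have hmem : ∀ p : Fin 3 × Fin 3, a ^ (p.1 : ℕ) * b ^ (p.2 : ℕ) ∈ D := fun p => ⟨p, rfl⟩
  have haD : a ∈ D := by simpa using hmem (1, 0)
  have hbD : b ∈ D := by simpa using hmem (0, 1)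
  have hinj : Function.Injective fun p : Fin 3 × Fin 3 => a ^ (p.1 : ℕ) * b ^ (p.2 : ℕ) := by
    intro p q h
    have hz := hnot (p.1 - q.1) (p.2 - q.2) ?_
    · exact Prod.ext (sub_eq_zero.mp hz.1) (sub_eq_zero.mp hz.2)
    · have e1 : a ^ ((p.1 - q.1 : Fin 3) : ℕ) * a ^ (q.1 : ℕ) = a ^ (p.1 : ℕ) := by
        rw [← pow_add, pow_eq_pow_mod _ ha3, ← Fin.val_add, sub_add_cancel]
      have e2 : b ^ ((p.2 - q.2 : Fin 3) : ℕ) * b ^ (q.2 : ℕ) = b ^ (p.2 : ℕ) := by
        rw [← pow_add, pow_eq_pow_mod _ hb3, ← Fin.val_add, sub_add_cancel]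
      simp only at h
      rw [← e1, ← e2, ((show Commute a b from hab).pow_pow _ _).mul_mul_mul_comm] at h
      exact mul_eq_right.mp h
  have hD : Nat.card D = 9 := by
    show Nat.card (Set.range fun p : Fin 3 × Fin 3 => a ^ (p.1 : ℕ) * b ^ (p.2 : ℕ)) = 9
    rw [Nat.card_range_of_injective hinj, Nat.card_prod, Nat.card_fin]
  have hX : Nat.card PSL₃ = 3 ^ 2 * 2240 := by rw [CIT21Plane.card_psl34 F hF]; rfl
  have hodd : Odd (Nat.card D) := by rw [hD]; decide
  haveI : Fact (Nat.Prime 3) := ⟨Nat.prime_three⟩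
  refine ⟨D, hD, ?_, one_class hF, hodd,
    fun φ => CNFacts57.conj_of_sylow (p := 3) (n := 2) (b := 2240) D hD hX (by norm_num) φ,
    CNFacts57.cent_of_cit (cit hF) D hodd, ?_⟩
  · rintro _ ⟨p, rfl⟩
    rw [((show Commute a b from hab).pow_pow _ _).mul_pow, ← pow_mul, ← pow_mul, mul_comm, pow_mul,
      ha3, one_pow, mul_comm _ 3, pow_mul, hb3, one_pow, one_mul]
  set N := Subgroup.normalizer (D : Set PSL₃)
  have hN : ∀ n : PSL₃, n * a * n⁻¹ ∈ D → n * b * n⁻¹ ∈ D → n ∈ N := by
    intro n h1 h3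
    refine Subgroup.mem_normalizer_iff_map_conj_eq.2 (Subgroup.eq_of_le_of_card_ge ?_
      (Subgroup.card_map_of_injective (MulAut.conj _).injective).ge)
    rintro _ ⟨_, ⟨p, rfl⟩, rfl⟩
    simp only [MulEquiv.coe_toMonoidHom, map_mul, map_pow, MulAut.conj_apply]
    exact mul_mem (pow_mem h1 _) (pow_mem h3 _)
  have cfb : f * b * f⁻¹ = a := mul_inv_eq_iff_eq_mul.mpr hfb
  have cfa : f * a * f⁻¹ = b * b := mul_inv_eq_iff_eq_mul.mpr hfa
  have cma : m * a * m⁻¹ = a * b * (a * b) := mul_inv_eq_iff_eq_mul.mpr hma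
  have cmc : m * (a * b) * m⁻¹ = a := mul_inv_eq_iff_eq_mul.mpr hmc
  have hfN : f ∈ N := hN f (cfa ▸ mul_mem hbD hbD) (cfb ▸ haD)
  have hmN : m ∈ N := by
    refine hN m (cma ▸ mul_mem (mul_mem haD hbD) (mul_mem haD hbD)) ?_
    rw [show m * b * m⁻¹ = (m * a * m⁻¹)⁻¹ * (m * (a * b) * m⁻¹) by group, cma, cmc]
    exact mul_mem (inv_mem (mul_mem (mul_mem haD hbD) (mul_mem haD hbD))) haD
  letI : MulAction N PSL₃ := MulAction.compHom PSL₃ (MulAut.conj.comp N.subtype)
  have hact : ∀ (n : N) (x : PSL₃), n • x = (n : PSL₃) * x * (n : PSL₃)⁻¹ := fun n x => rfl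
  have horb : MulAction.orbit N a = {x | x ∈ D ∧ x ≠ 1} := by
    have step : ∀ {x y : PSL₃} {n : PSL₃}, n ∈ N → n * x * n⁻¹ = y → x ∈ MulAction.orbit N a →
        y ∈ MulAction.orbit N a := fun {x y n} hn he hx => by
      rw [← he, ← hact ⟨n, hn⟩, MulAction.mem_orbit_iff] at *
      obtain ⟨k, rfl⟩ := hx
      exact ⟨⟨n, hn⟩ * k, mul_smul _ _ _⟩
    ext x
    constructor
    · rintro ⟨n, rfl⟩
      refine ⟨(Subgroup.mem_normalizer_iff.mp n.2 a).mp haD, fun e => ?_⟩
      have h10 := hnot 1 0 (by simpa using conj_eq_one_iff.mp e)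
      exact absurd h10.1 (by decide)
    · rintro ⟨⟨p, rfl⟩, hx1⟩
      have o1 := MulAction.mem_orbit_self (M := N) a
      have o2 := step hfN cfa o1
      have o3 : a * a ∈ MulAction.orbit N a := step hfN
        (by rw [show f * (b * b) * f⁻¹ = (f * b * f⁻¹) * (f * b * f⁻¹) by group, cfb]) o2
      have o4 : b ∈ MulAction.orbit N a := step hfN
        (by rw [show f * (a * a) * f⁻¹ = (f * a * f⁻¹) * (f * a * f⁻¹) by group, cfa,
              show b * b * (b * b) = b ^ 3 * b by rw [pow_three']; simp only [mul_assoc], hb3, one_mul]) o3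
      have o5 := step hmN cma o1
      have o6 : a * b ∈ MulAction.orbit N a := step hmN (by
        rw [show m * (a * a) * m⁻¹ = (m * a * m⁻¹) * (m * a * m⁻¹) by group, cma,
          show a * b * (a * b) * (a * b * (a * b)) = (a * b) ^ 3 * (a * b) by
            rw [pow_three']; simp only [mul_assoc],
          (show Commute a b from hab).mul_pow, ha3, hb3, one_mul, one_mul]) o3
      have o7 : a * (b * b) ∈ MulAction.orbit N a := step hfN (by
        rw [show f * (a * b) * f⁻¹ = (f * a * f⁻¹) * (f * b * f⁻¹) by group, cfa, cfb,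
          mul_assoc, ← hab, ← mul_assoc, ← hab, mul_assoc]) o6
      have o8 : a * a * b ∈ MulAction.orbit N a := step hfN (by
        rw [show f * (a * b * (a * b)) * f⁻¹ =
          (f * a * f⁻¹) * (f * b * f⁻¹) * ((f * a * f⁻¹) * (f * b * f⁻¹)) by group, cfa, cfb]
        have hc : Commute a b := hab
        calc b * b * a * (b * b * a) = a * a * (b * b * (b * b)) := by
              rw [((hc.symm.mul_left hc.symm).eq : b * b * a = a * (b * b))]
              exact (hc.mul_right hc).symm.mul_mul_mul_comm _ _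
          _ = a * a * (b ^ 3 * b) := by rw [pow_three']; simp only [mul_assoc]
          _ = a * a * b := by rw [hb3, one_mul]) o5
      have o5' : a * a * (b * b) ∈ MulAction.orbit N a := by
        rwa [(show Commute a b from hab).mul_mul_mul_comm] 
      obtain ⟨i, j⟩ := p
      fin_cases i <;> fin_cases j <;> simp [pow_two] at hx1 ⊢ <;> assumption
  have h8 : Nat.card (MulAction.orbit N a) = 8 := by
    rw [horb, show {x | x ∈ D ∧ x ≠ 1} = (D : Set PSL₃) \ {1} from rfl, Nat.card_coe_set_eq,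
      Set.ncard_diff (by simp [D.one_mem]), Set.ncard_singleton, ← Nat.card_coe_set_eq]
    show Nat.card D - 1 = 8
    rw [hD]
  rw [show 2 ^ 3 = Nat.card (MulAction.orbit N a) from h8.symm]
  rw [Nat.card_congr (MulAction.orbitEquivQuotientStabilizer N a)]
  exact Subgroup.index_dvd_card _

end Cfsg.Agent.CNFactsPSL34_57
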