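import Cfsg.Prelude.Def_LieExceptional
import Mathlib

/-!
The Suzuki group as the stabiliser of the Suzuki–Tits ovoid in `SL₄`: explicit elements, point
stabilisers, order.
-/

set_option autoImplicit false

namespace Cfsg.Agent.SuzukiGroupBasic

open scoped Matrix Pointwise LinearAlgebra.Projectivization
open MulAction

variable {F : Type*} [Field F] {m : ℕ}

/-- The endomorphism `x ↦ x^(2^(m+1))`. -/
def sg (m : ℕ) (x : F) : F := x ^ (2 ^ (m + 1))

/-- The endomorphism `x ↦ x^(2^m)`, the inverse of `sg`. -/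
def tg (m : ℕ) (x : F) : F := x ^ (2 ^ m)

@[simp] theorem sg_zero : sg m (0 : F) = 0 := zero_pow (Nat.two_pow_pos _).ne'
@[simp] theorem sg_one : sg m (1 : F) = 1 := one_pow _
theorem sg_mul (x y : F) : sg m (x * y) = sg m x * sg m y := mul_pow ..
theorem sg_inv (x : F) : sg m x⁻¹ = (sg m x)⁻¹ := inv_pow ..
theorem sg_div (x y : F) : sg m (x / y) = sg m x / sg m y := div_pow ..
theorem sg_pow (x : F) (n : ℕ) : sg m (x ^ n) = sg m x ^ n := by rw [sg, sg, pow_right_comm]
theorem sg_eq_zero {x : F} : sg m x = 0 ↔ x = 0 := pow_eq_zero_iff (Nat.two_pow_pos _).ne'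
@[simp] theorem tg_one : tg m (1 : F) = 1 := one_pow _
theorem tg_mul (x y : F) : tg m (x * y) = tg m x * tg m y := mul_pow ..
theorem tg_inv (x : F) : tg m x⁻¹ = (tg m x)⁻¹ := inv_pow ..
theorem tg_ne_zero {x : F} (h : x ≠ 0) : tg m x ≠ 0 := pow_ne_zero _ h
theorem sg_ne_zero {x : F} (h : x ≠ 0) : sg m x ≠ 0 := pow_ne_zero _ h
theorem tg_mul_tg (x : F) : tg m x * tg m x = sg m x := by
  rw [tg, sg, ← pow_add, pow_succ, mul_two]

/-- Hypothesis bundle: `F` is the field with `2^(2m+1)` elements, `m ≥ 1`. -/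
class Param (F : Type*) [Field F] (m : ℕ) : Prop where
  out : ∃ _ : Fintype F, 1 ≤ m ∧ Fintype.card F = 2 ^ (2 * m + 1)

theorem Param.mk' [Fintype F] (hm : 1 ≤ m) (hF : Fintype.card F = 2 ^ (2 * m + 1)) :
    Param F m := ⟨⟨inferInstance, hm, hF⟩⟩

variable [hP : Param F m]

include hP in
theorem finiteF : Finite F := by
  obtain ⟨_, -, -⟩ := hP.out
  infer_instance

include hP in
theorem one_le : 1 ≤ m := by obtain ⟨_, h, -⟩ := hP.out; exact h

include hP in
theorem natCard : Nat.card F = 2 ^ (2 * m + 1) := by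
  obtain ⟨_, -, h⟩ := hP.out
  rwa [Nat.card_eq_fintype_card]

include hP in
theorem charTwo : CharP F 2 := by
  obtain ⟨_, -, h⟩ := hP.out
  exact charP_of_card_eq_prime_pow h

include hP in
theorem sg_add (x y : F) : sg m (x + y) = sg m x + sg m y := by
  have := charTwo (F := F) (m := m)
  exact add_pow_char_pow x y 2 (m + 1)

include hP in
theorem tg_add (x y : F) : tg m (x + y) = tg m x + tg m y := by
  have := charTwo (F := F) (m := m)
  exact add_pow_char_pow x y 2 m

include hP in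
theorem pow_q (x : F) : x ^ (2 ^ (2 * m + 1)) = x := by
  obtain ⟨_, -, h⟩ := hP.out
  rw [← h, FiniteField.pow_card]

include hP in
theorem sg_sg (x : F) : sg m (sg m x) = x ^ 2 := by
  rw [sg, sg, ← pow_mul, show 2 ^ (m + 1) * 2 ^ (m + 1) = 2 ^ (2 * m + 1) * 2 by ring, pow_mul,
    pow_q]

include hP in
theorem sg_tg (x : F) : sg m (tg m x) = x := by
  rw [tg, sg, ← pow_mul, show 2 ^ m * 2 ^ (m + 1) = 2 ^ (2 * m + 1) by ring, pow_q]

include hP in
theorem tg_sg (x : F) : tg m (sg m x) = x := by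
  rw [tg, sg, ← pow_mul, show 2 ^ (m + 1) * 2 ^ m = 2 ^ (2 * m + 1) by ring, pow_q]

include hP in
theorem eq_zero_or_one_of_sg_self {x : F} (h : sg m x = x) : x = 0 ∨ x = 1 := by
  have h2 : x ^ 2 = x := by rw [← sg_sg (m := m) x, h, h]
  exact IsIdempotentElem.iff_eq_zero_or_one.mp (show x * x = x by rwa [← pow_two])

include hP in
theorem sg_ne_self_add_one (x : F) : sg m x ≠ x + 1 := by
  intro h
  have := charTwo (F := F) (m := m)
  have h2 : x ^ 2 = x := by
    rw [← sg_sg (m := m) x, h, sg_add, h, sg_one, add_assoc, CharTwo.add_self_eq_zero, add_zero]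
  rcases IsIdempotentElem.iff_eq_zero_or_one.mp (show x * x = x by rwa [← pow_two]) with rfl | rfl
  · simp at h
  · simp [CharTwo.add_self_eq_zero] at h

include hP in
theorem exists_ne_zero_one : ∃ x : F, x ≠ 0 ∧ x ≠ 1 := by
  obtain ⟨_, hm, h⟩ := hP.out
  classical
  have h8 : 8 ≤ Fintype.card F := by
    rw [h]; exact Nat.le_trans (by norm_num) (Nat.pow_le_pow_right two_pos (show 3 ≤ 2 * m + 1 by omega))
  obtain ⟨x, -, hx⟩ := Finset.exists_mem_notMem_of_card_lt_card
    (s := ({0, 1} : Finset F)) (t := Finset.univ)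
    (lt_of_le_of_lt Finset.card_le_two (by rw [Finset.card_univ]; omega))
  exact ⟨x, by simpa using hx⟩

/-! ### The function defining the ovoid -/

/-- The first coordinate of the affine point with parameters `x`, `y`. -/
def ff (m : ℕ) (x y : F) : F := x * y + x ^ 2 * sg m x + sg m y

omit hP in
theorem ff_eq (x y : F) :
    ff m x y = x * y + x ^ (2 ^ (m + 1) + 2) + y ^ (2 ^ (m + 1)) := by
  rw [ff, sg, sg]; ring

include hP in
theorem sg_ff (x y : F) : sg m (ff m x y) = sg m x * sg m y + sg m x ^ 2 * x ^ 2 + y ^ 2 := by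
  rw [ff, sg_add, sg_add, sg_mul, sg_mul, sg_sg, sg_sg, sg_pow]

include hP in
theorem ff_add (a b x y : F) :
    ff m (x + a) (y + sg m a * x + b) = ff m x y + a * y + (b + a * sg m a) * x + ff m a b := by
  have := charTwo (F := F) (m := m)
  simp only [ff, sg_add, sg_mul, sg_sg]
  grind

include hP in
theorem ff_eq_zero {x y : F} (h : ff m x y = 0) : x = 0 ∧ y = 0 := by
  have := charTwo (F := F) (m := m)
  rcases eq_or_ne x 0 with rfl | hx
  · simp only [ff, zero_mul, sg_zero, mul_zero, zero_add, ne_eq, zero_pow, not_false_eq_true,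
      OfNat.ofNat_ne_zero] at h
    exact ⟨rfl, sg_eq_zero.mp h⟩
  · exfalso
    set z := y / (x * sg m x) with hz
    have hy : y = z * (x * sg m x) := by rw [hz, div_mul_cancel₀]; exact mul_ne_zero hx (sg_ne_zero hx)
    have h0 : x ^ 2 * sg m x * (z + 1 + sg m z) = 0 := by
      rw [← h, ff, hy, sg_mul, sg_mul, sg_sg]; ring
    have hx' : x ^ 2 * sg m x ≠ 0 := mul_ne_zero (pow_ne_zero _ hx) (sg_ne_zero hx)
    have h1 := (mul_eq_zero.mp h0).resolve_left hx'
    apply sg_ne_self_add_one (m := m) z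
    grind

include hP in
theorem ff_swap {x y : F} (h : ff m x y ≠ 0) :
    ff m (y / ff m x y) (x / ff m x y) = (ff m x y)⁻¹ := by
  have := charTwo (F := F) (m := m)
  have hs := sg_ff (m := m) x y
  have hs0 := sg_ne_zero (m := m) h
  have e := ff (F := F) m x y
  have hf : x * y + x ^ 2 * sg m x + sg m y = ff m x y := rfl
  generalize hf' : ff m x y = f at *
  simp only [ff, sg_div]
  field_simp
  grind

/-! ### Points -/

/-- The vector of the affine point with parameters `x`, `y`. -/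
def pv (m : ℕ) (x y : F) : Fin 4 → F := ![ff m x y, y, x, 1]

omit hP in
theorem pv_ne_zero (m : ℕ) (x y : F) : pv m x y ≠ 0 := fun h => by
  simpa [pv] using congrFun h 3

/-- The affine point with parameters `x`, `y`. -/
def pt (m : ℕ) (x y : F) : ℙ F (Fin 4 → F) := Projectivization.mk F (pv m x y) (pv_ne_zero m x y)

omit hP in
theorem pt_injective {x y x' y' : F} (h : pt m x y = pt m x' y') : x = x' ∧ y = y' := by
  obtain ⟨a, ha⟩ := (Projectivization.mk_eq_mk_iff' F _ _ _ _).mp h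
  have h3 : a = 1 := by simpa [pv] using congrFun ha 3
  subst h3
  rw [one_smul] at ha
  exact ⟨by simpa [pv] using (congrFun ha 2).symm, by simpa [pv] using (congrFun ha 1).symm⟩

omit hP in
theorem pt_ne_inf (x y : F) : pt m x y ≠ suzukiPointInfinity F := by
  intro h
  obtain ⟨a, ha⟩ := (Projectivization.mk_eq_mk_iff' F _ _ _ _).mp h
  simpa [pv] using congrFun ha 3

omit hP in
theorem zero_eq_pt : suzukiPointZero F = pt m (0 : F) 0 := by
  simp [pt, pv, ff, suzukiPointZero]

omit hP in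
theorem mem_ovoid {p : ℙ F (Fin 4 → F)} :
    p ∈ suzukiOvoid F m ↔ p = suzukiPointInfinity F ∨ ∃ x y, p = pt m x y := by
  constructor
  · rintro ⟨v, hv, rfl, rfl | ⟨x, y, rfl⟩⟩
    · exact Or.inl rfl
    · refine Or.inr ⟨x, y, ?_⟩
      simp only [pt, pv, ff_eq]
  · rintro (rfl | ⟨x, y, rfl⟩)
    · exact ⟨_, _, rfl, Or.inl rfl⟩
    · exact ⟨_, pv_ne_zero m x y, rfl, Or.inr ⟨x, y, by rw [pv, ff_eq]⟩⟩

omit hP in
theorem inf_mem : suzukiPointInfinity F ∈ suzukiOvoid F m := mem_ovoid.mpr (Or.inl rfl)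

omit hP in
theorem zero_mem : suzukiPointZero F ∈ suzukiOvoid F m :=
  mem_ovoid.mpr (Or.inr ⟨0, 0, zero_eq_pt⟩)

omit hP in
theorem ncard_ovoid [Finite F] : (suzukiOvoid F m).ncard = Nat.card F ^ 2 + 1 := by
  have he : suzukiOvoid F m =
      insert (suzukiPointInfinity F) (Set.range fun p : F × F => pt m p.1 p.2) := by
    ext p; rw [mem_ovoid]; simp [eq_comm]
  rw [he, Set.ncard_insert_of_notMem (by rintro ⟨⟨x, y⟩, h⟩; exact pt_ne_inf x y h) (Set.toFinite _)]
  rw [Set.ncard_range_of_injective, Nat.card_prod, pow_two]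
  rintro ⟨x, y⟩ ⟨x', y'⟩ h
  exact Prod.ext (pt_injective h).1 (pt_injective h).2

/-! ### Elements -/

omit hP in
theorem sl_ext {g h : Matrix.SpecialLinearGroup (Fin 4) F}
    (e : (g : Matrix (Fin 4) (Fin 4) F) = (h : Matrix (Fin 4) (Fin 4) F)) : g = h := Subtype.ext e


/-- The translation with parameters `a`, `b`. -/
def Tm (m : ℕ) (a b : F) : Matrix (Fin 4) (Fin 4) F :=
  !![1, a, b + a * sg m a, ff m a b; 0, 1, sg m a, b; 0, 0, 1, a; 0, 0, 0, 1]

omit hP in
theorem det_Tm (a b : F) : (Tm m a b).det = 1 := by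
  simp [Tm, Matrix.det_succ_row_zero, Fin.sum_univ_succ]

/-- The translation as an element of `SL₄`. -/
def T (m : ℕ) (a b : F) : Matrix.SpecialLinearGroup (Fin 4) F := ⟨Tm m a b, det_Tm a b⟩

/-- The diagonal matrix with parameter `k`. -/
def Hm (m : ℕ) (k : F) : Matrix (Fin 4) (Fin 4) F :=
  Matrix.diagonal ![k * tg m k, tg m k, (tg m k)⁻¹, (k * tg m k)⁻¹]

omit hP in
theorem det_Hm (k : Fˣ) : (Hm m (k : F)).det = 1 := by
  have h1 := tg_ne_zero (m := m) k.ne_zero
  have h2 := k.ne_zero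
  rw [Hm, Matrix.det_diagonal]
  simp [Fin.prod_univ_four]
  field_simp

/-- The torus element as an element of `SL₄`. -/
def H (m : ℕ) (k : Fˣ) : Matrix.SpecialLinearGroup (Fin 4) F := ⟨Hm m (k : F), det_Hm k⟩

omit hP in
theorem det_form : (suzukiForm F).det = 1 := by
  simp [suzukiForm, Matrix.det_succ_row_zero, Fin.sum_univ_succ, Fin.succAbove]
  norm_num

variable (F) in
/-- The involution exchanging the two base points. -/
def W : Matrix.SpecialLinearGroup (Fin 4) F := ⟨suzukiForm F, det_form⟩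

omit hP in
theorem smul_eq (g : Matrix.SpecialLinearGroup (Fin 4) F) (v : Fin 4 → F) :
    g • v = (g : Matrix (Fin 4) (Fin 4) F) *ᵥ v := rfl

omit hP in
theorem smul_mk_eq (g : Matrix.SpecialLinearGroup (Fin 4) F) {v w : Fin 4 → F} (hv : v ≠ 0)
    (hw : w ≠ 0) (c : F) (h : (g : Matrix (Fin 4) (Fin 4) F) *ᵥ v = c • w) :
    g • Projectivization.mk F v hv = Projectivization.mk F w hw := by
  rw [Projectivization.smul_mk, Projectivization.mk_eq_mk_iff']
  exact ⟨c, by rw [smul_eq, h]⟩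

omit hP in
theorem T_smul_inf (a b : F) : T m a b • suzukiPointInfinity F = suzukiPointInfinity F := by
  refine smul_mk_eq _ _ _ 1 ?_
  ext i; fin_cases i <;> simp [T, Tm, Matrix.mulVec, dotProduct, Fin.sum_univ_four]

include hP in
theorem T_smul_pt (a b x y : F) : T m a b • pt m x y = pt m (x + a) (y + sg m a * x + b) := by
  refine smul_mk_eq _ _ _ 1 ?_
  ext i; fin_cases i <;>
    simp [T, Tm, pv, Matrix.mulVec, dotProduct, Fin.sum_univ_four, ff_add (m := m)]

omit hP in
theorem H_smul_inf (k : Fˣ) : H m k • suzukiPointInfinity F = suzukiPointInfinity F := by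
  refine smul_mk_eq _ _ _ ((k : F) * tg m (k : F)) ?_
  ext i; fin_cases i <;> simp [H, Hm, Matrix.mulVec_diagonal]

include hP in
theorem H_smul_pt (k : Fˣ) (x y : F) :
    H m k • pt m x y = pt m (k * x) ((k : F) * sg m (k : F) * y) := by
  refine smul_mk_eq _ _ _ ((k : F) * tg m (k : F))⁻¹ ?_
  have ht := tg_ne_zero (m := m) k.ne_zero
  have hk := k.ne_zero
  have hs := tg_mul_tg (m := m) (k : F)
  ext i; fin_cases i
  · simp [H, Hm, pv, Matrix.mulVec_diagonal, ff, sg_mul, sg_sg]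
    field_simp
    rw [← hs]; ring
  all_goals
    simp [H, Hm, pv, Matrix.mulVec_diagonal]
    try field_simp
    try (rw [← hs]; ring)

omit hP in
theorem W_smul_inf : W F • suzukiPointInfinity F = suzukiPointZero F := by
  refine smul_mk_eq _ _ _ 1 ?_
  ext i; fin_cases i <;> simp [W, suzukiForm, Matrix.mulVec, dotProduct, Fin.sum_univ_four]

omit hP in
theorem W_smul_zero : W F • suzukiPointZero F = suzukiPointInfinity F := by
  refine smul_mk_eq _ _ _ 1 ?_
  ext i; fin_cases i <;> simp [W, suzukiForm, Matrix.mulVec, dotProduct, Fin.sum_univ_four]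

include hP in
theorem W_smul_pt {x y : F} (h : ff m x y ≠ 0) :
    W F • pt m x y = pt m (y / ff m x y) (x / ff m x y) := by
  refine smul_mk_eq _ _ _ (ff m x y) ?_
  have h' := ff_swap h
  ext i; fin_cases i <;>
    simp [W, pv, suzukiForm, Matrix.mulVec, dotProduct, Fin.sum_univ_four, h', h,
      mul_div_cancel₀]

include hP in
theorem mem_Sz_of_mapsTo {g : Matrix.SpecialLinearGroup (Fin 4) F}
    (h : ∀ p ∈ suzukiOvoid F m, g • p ∈ suzukiOvoid F m) : g ∈ Cfsg.Sz F m := by
  have := finiteF (F := F) (m := m)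
  rw [mem_stabilizer_iff]
  refine Set.eq_of_subset_of_ncard_le ?_ ?_ (Set.toFinite _)
  · rintro _ ⟨p, hp, rfl⟩; exact h p hp
  · rw [show g • suzukiOvoid F m = (fun p => g • p) '' suzukiOvoid F m from rfl,
      Set.ncard_image_of_injective _ (MulAction.injective g)]

include hP in
theorem T_mem (a b : F) : T m a b ∈ Cfsg.Sz F m := by
  refine mem_Sz_of_mapsTo fun p hp => ?_
  rcases mem_ovoid.mp hp with rfl | ⟨x, y, rfl⟩
  · rw [T_smul_inf]; exact inf_mem
  · rw [T_smul_pt]; exact mem_ovoid.mpr (Or.inr ⟨_, _, rfl⟩)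

include hP in
theorem H_mem (k : Fˣ) : H m k ∈ Cfsg.Sz F m := by
  refine mem_Sz_of_mapsTo fun p hp => ?_
  rcases mem_ovoid.mp hp with rfl | ⟨x, y, rfl⟩
  · rw [H_smul_inf]; exact inf_mem
  · rw [H_smul_pt]; exact mem_ovoid.mpr (Or.inr ⟨_, _, rfl⟩)

include hP in
theorem W_mem : W F ∈ Cfsg.Sz F m := by
  refine mem_Sz_of_mapsTo fun p hp => ?_
  rcases mem_ovoid.mp hp with rfl | ⟨x, y, rfl⟩
  · rw [W_smul_inf]; exact zero_mem
  · by_cases h : ff m x y = 0
    · obtain ⟨rfl, rfl⟩ := ff_eq_zero h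
      rw [← zero_eq_pt, W_smul_zero]; exact inf_mem
    · rw [W_smul_pt h]; exact mem_ovoid.mpr (Or.inr ⟨_, _, rfl⟩)

include hP in
theorem T_mul (a b c d : F) : T m a b * T m c d = T m (a + c) (b + d + sg m a * c) := by
  have := charTwo (F := F) (m := m)
  apply sl_ext
  rw [Matrix.SpecialLinearGroup.coe_mul]
  ext i j
  fin_cases i <;> fin_cases j <;>
    simp [T, Tm, Matrix.mul_apply, Fin.sum_univ_four, ff, sg_add, sg_mul, sg_sg] <;> grind

include hP in
theorem H_mul (k l : Fˣ) : H m k * H m l = H m (k * l) := by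
  apply sl_ext
  rw [Matrix.SpecialLinearGroup.coe_mul]
  simp only [H, Hm, Matrix.diagonal_mul_diagonal, Units.val_mul, tg_mul]
  congr 1
  ext i; fin_cases i <;> simp <;> ring

include hP in
theorem H_T (k : Fˣ) (a b : F) :
    H m k * T m a b = T m (k * a) ((k : F) * sg m (k : F) * b) * H m k := by
  have ht := tg_ne_zero (m := m) k.ne_zero
  have hk := k.ne_zero
  have hs := tg_mul_tg (m := m) (k : F)
  apply sl_ext
  rw [Matrix.SpecialLinearGroup.coe_mul, Matrix.SpecialLinearGroup.coe_mul]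
  ext i j
  simp only [H, Hm, T]
  rw [Matrix.diagonal_mul, Matrix.mul_diagonal]
  fin_cases i <;> fin_cases j <;> simp [Tm, ff, sg_mul, sg_sg] <;> field_simp <;> rw [← hs] <;> ring

omit hP in
theorem T_zero : T m (0 : F) 0 = 1 := by
  apply sl_ext
  rw [Matrix.SpecialLinearGroup.coe_one]
  ext i j
  fin_cases i <;> fin_cases j <;> simp [T, Tm, ff]

omit hP in
theorem H_one : H m (1 : Fˣ) = 1 := by
  apply sl_ext
  rw [Matrix.SpecialLinearGroup.coe_one, ← Matrix.diagonal_one]
  simp only [H, Hm]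
  congr 1
  ext i; fin_cases i <;> simp

omit hP in
theorem W_mul_W : W F * W F = 1 := by
  apply sl_ext
  rw [Matrix.SpecialLinearGroup.coe_mul]
  ext i j
  fin_cases i <;> fin_cases j <;> simp [W, suzukiForm, Matrix.mul_apply, Fin.sum_univ_four]

include hP in
theorem W_H (k : Fˣ) : W F * H m k = H m k⁻¹ * W F := by
  apply sl_ext
  rw [Matrix.SpecialLinearGroup.coe_mul, Matrix.SpecialLinearGroup.coe_mul]
  ext i j
  simp only [H, Hm, W]
  rw [Matrix.diagonal_mul, Matrix.mul_diagonal]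
  fin_cases i <;> fin_cases j <;> simp [suzukiForm, tg_inv, mul_comm]

omit hP in
theorem T_injective {a b c d : F} (h : T m a b = T m c d) : a = c ∧ b = d :=
  ⟨by simpa [T, Tm] using congrFun (congrFun (congrArg Subtype.val h) 2) 3,
    by simpa [T, Tm] using congrFun (congrFun (congrArg Subtype.val h) 1) 3⟩

include hP in
theorem H_injective {k l : Fˣ} (h : H m k = H m l) : k = l := by
  have h1 : tg m (k : F) = tg m (l : F) := by
    simpa [H, Hm] using congrFun (congrFun (congrArg Subtype.val h) 1) 1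
  apply Units.ext
  rw [← sg_tg (m := m) (k : F), h1, sg_tg]

include hP in
theorem coeff_four {c1 c2 c3 c4 : F}
    (h : ∀ y : F, c1 * y + c2 * y ^ 2 + c3 * sg m y + c4 * (y ^ 2 * sg m y) = 0) :
    c1 = 0 ∧ c2 = 0 ∧ c3 = 0 ∧ c4 = 0 := by
  obtain ⟨_, hm, hF⟩ := hP.out
  set s := 2 ^ (m + 1) with hs
  have h4 : 4 ≤ s := by
    rw [hs]; exact Nat.le_trans (by norm_num) (Nat.pow_le_pow_right two_pos (show 2 ≤ m + 1 by omega))
  have hlt : s + 2 < Fintype.card F := by
    rw [hF]
    have h1 : 2 ^ (2 * m + 1) = 2 ^ m * s := by rw [hs, ← pow_add]; congr 1; omega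
    have h2 : 2 ≤ 2 ^ m :=
      Nat.le_trans (by norm_num) (Nat.pow_le_pow_right two_pos hm)
    rw [h1]
    nlinarith
  open Polynomial in
  set p : Polynomial F :=
    C c1 * X ^ 1 + C c2 * X ^ 2 + C c3 * X ^ s + C c4 * X ^ (s + 2) with hp
  have hp0 : p = 0 := by
    refine Polynomial.eq_zero_of_natDegree_lt_card_of_eval_eq_zero' p Finset.univ (fun y _ => ?_) ?_
    · rw [hp]; simp only [Polynomial.eval_add, Polynomial.eval_mul, Polynomial.eval_C,
        Polynomial.eval_pow, Polynomial.eval_X, pow_one]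
      have := h y
      rw [sg, ← hs] at this
      rw [pow_add]; linear_combination this
    · rw [Finset.card_univ]
      refine lt_of_le_of_lt ?_ hlt
      rw [hp]
      compute_degree
      all_goals omega
  have hc : ∀ n, p.coeff n = 0 := by simp [hp0]
  have e1 := hc 1; have e2 := hc 2; have e3 := hc s; have e4 := hc (s + 2)
  simp only [hp, Polynomial.coeff_add, Polynomial.coeff_C_mul, Polynomial.coeff_X_pow] at e1 e2 e3 e4
  simp [show (1:ℕ) ≠ s by omega, show (2:ℕ) ≠ s by omega, show s ≠ 1 by omega, show s ≠ 2 by omega,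
    show (1:ℕ) ≠ s + 2 by omega, show (2:ℕ) ≠ s + 2 by omega, show s + 2 ≠ 1 by omega,
    show s + 2 ≠ 2 by omega, show s + 2 ≠ s by omega, show s ≠ 0 by omega] at e1 e2 e3 e4
  exact ⟨e1, e2, e3, e4⟩

include hP in
/-- An element of the Suzuki group fixing both base points is a torus element. -/
theorem eq_H_of_fix {g : Matrix.SpecialLinearGroup (Fin 4) F} (hg : g ∈ Cfsg.Sz F m)
    (h1 : g • suzukiPointInfinity F = suzukiPointInfinity F)
    (h2 : g • suzukiPointZero F = suzukiPointZero F) : ∃ k : Fˣ, g = H m k := by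
  have := charTwo (F := F) (m := m)
  obtain ⟨α, hα⟩ := (Projectivization.mk_eq_mk_iff' F _ _ _ _).mp
    (h1 : g • Projectivization.mk F _ _ = Projectivization.mk F _ _)
  obtain ⟨δ, hδ⟩ := (Projectivization.mk_eq_mk_iff' F _ _ _ _).mp
    (h2 : g • Projectivization.mk F _ _ = Projectivization.mk F _ _)
  set M := (g : Matrix (Fin 4) (Fin 4) F) with hM
  replace hα : α • ![1, 0, 0, 0] = M *ᵥ ![1, 0, 0, 0] := hα
  replace hδ : δ • ![0, 0, 0, 1] = M *ᵥ ![0, 0, 0, 1] := hδ
  have c0 : ∀ i : Fin 4, α * ![1, 0, 0, 0] i = M i 0 := fun i => by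
    simpa [Matrix.mulVec, dotProduct, Fin.sum_univ_four] using congrFun hα i
  have c3 : ∀ i : Fin 4, δ * ![0, 0, 0, 1] i = M i 3 := fun i => by
    simpa [Matrix.mulVec, dotProduct, Fin.sum_univ_four] using congrFun hδ i
  have a00 : M 0 0 = α := by simpa using (c0 0).symm
  have a10 : M 1 0 = 0 := by simpa using (c0 1).symm
  have a20 : M 2 0 = 0 := by simpa using (c0 2).symm
  have a30 : M 3 0 = 0 := by simpa using (c0 3).symm
  have a03 : M 0 3 = 0 := by simpa using (c3 0).symm
  have a13 : M 1 3 = 0 := by simpa using (c3 1).symm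
  have a23 : M 2 3 = 0 := by simpa using (c3 2).symm
  have a33 : M 3 3 = δ := by simpa using (c3 3).symm
  have hδ0 : δ ≠ 0 := by
    rintro rfl
    rw [zero_smul] at hδ
    exact (smul_ne_zero_iff_ne g).mpr (by simp : (![0, 0, 0, 1] : Fin 4 → F) ≠ 0) hδ.symm
  have himg : ∀ x y : F, ∃ c x' y' : F, c ≠ 0 ∧
      M 0 0 * ff m x y + M 0 1 * y + M 0 2 * x = c * ff m x' y' ∧
      M 1 1 * y + M 1 2 * x = c * y' ∧ M 2 1 * y + M 2 2 * x = c * x' ∧
      M 3 1 * y + M 3 2 * x + δ = c := by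
    intro x y
    have hmem : g • pt m x y ∈ suzukiOvoid F m := by
      have hg' := mem_stabilizer_iff.mp hg
      rw [← hg']; exact Set.smul_mem_smul_set (mem_ovoid.mpr (Or.inr ⟨x, y, rfl⟩))
    rcases mem_ovoid.mp hmem with h | ⟨x', y', h⟩
    · exact absurd (MulAction.injective g (h.trans h1.symm)) (pt_ne_inf x y)
    · obtain ⟨c, hc⟩ := (Projectivization.mk_eq_mk_iff' F _ _ _ _).mp
        (h : g • Projectivization.mk F _ _ = Projectivization.mk F _ _)
      have hc0 : c ≠ 0 := by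
        rintro rfl
        rw [zero_smul] at hc
        exact (smul_ne_zero_iff_ne g).mpr (pv_ne_zero m x y) hc.symm
      replace hc : c • pv m x' y' = M *ᵥ pv m x y := hc
      have e := fun i => (congrFun hc i).symm
      refine ⟨c, x', y', hc0, ?_, ?_, ?_, ?_⟩
      · simpa [pv, Matrix.mulVec, dotProduct, Fin.sum_univ_four, a03] using e 0
      · simpa [pv, Matrix.mulVec, dotProduct, Fin.sum_univ_four, a13, a10] using e 1
      · simpa [pv, Matrix.mulVec, dotProduct, Fin.sum_univ_four, a23, a20] using e 2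
      · simpa [pv, Matrix.mulVec, dotProduct, Fin.sum_univ_four, a33, a30] using e 3
  have a31 : M 3 1 = 0 := by
    by_contra h
    obtain ⟨c, _, _, hc, -, -, -, e⟩ := himg 0 (δ / M 3 1)
    apply hc
    rw [← e, mul_div_cancel₀ _ h, mul_zero, add_zero, CharTwo.add_self_eq_zero]
  have a32 : M 3 2 = 0 := by
    by_contra h
    obtain ⟨c, _, _, hc, -, -, -, e⟩ := himg (δ / M 3 2) 0
    apply hc
    rw [← e, mul_div_cancel₀ _ h, mul_zero, zero_add, CharTwo.add_self_eq_zero]
  set u := δ⁻¹ with hu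
  have hu0 : u ≠ 0 := inv_ne_zero hδ0
  have key : ∀ x y : F, u * (M 0 0 * ff m x y + M 0 1 * y + M 0 2 * x) =
      ff m (u * (M 2 1 * y + M 2 2 * x)) (u * (M 1 1 * y + M 1 2 * x)) := by
    intro x y
    obtain ⟨c, x', y', -, e0, e1, e2, e3⟩ := himg x y
    rw [a31, a32, zero_mul, zero_mul, zero_add, zero_add] at e3
    subst e3
    rw [e0, e1, e2, hu, inv_mul_cancel_left₀ hδ0, inv_mul_cancel_left₀ hδ0,
      inv_mul_cancel_left₀ hδ0]
  set A := u * M 0 0
  set p := u * M 2 2 with hp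
  set r := u * M 2 1 with hr
  set l := u * M 1 1 with hl
  set n := u * M 1 2 with hn
  obtain ⟨b1, b2, b3, b4⟩ := coeff_four (m := m) (c1 := u * M 0 1) (c2 := r * l)
      (c3 := A + sg m l) (c4 := r ^ 2 * sg m r) (fun y => by
    have := key 0 y
    simp only [ff, mul_zero, add_zero, zero_mul, sg_zero, zero_add, ne_eq, OfNat.ofNat_ne_zero,
      not_false_eq_true, zero_pow, sg_mul, mul_add, ← mul_assoc, ← hr, ← hl] at this
    simp only [A] at this ⊢
    grind)
  obtain ⟨d1, d2, d3, d4⟩ := coeff_four (m := m) (c1 := u * M 0 2) (c2 := p * n)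
      (c3 := sg m n) (c4 := A + p ^ 2 * sg m p) (fun x => by
    have := key x 0
    simp only [ff, mul_zero, add_zero, zero_mul, sg_zero, zero_add, ne_eq, OfNat.ofNat_ne_zero,
      not_false_eq_true, zero_pow, sg_mul, mul_add, ← mul_assoc, ← hp, ← hn] at this
    simp only [sg_mul, A] at this ⊢
    grind)
  have hr0 : r = 0 := by
    rcases mul_eq_zero.mp b4 with h | h
    · exact pow_eq_zero_iff (two_ne_zero) |>.mp h
    · exact sg_eq_zero.mp h
  have hn0 : n = 0 := sg_eq_zero.mp d3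
  have hA : A = sg m l := CharTwo.add_eq_zero.mp b3
  have hA' : A = p ^ 2 * sg m p := CharTwo.add_eq_zero.mp d4
  have hpl : A = p * l := by
    have := key 1 1
    simp only [mul_add, mul_one, ← hr, ← hp, ← hl, ← hn, hr0, hn0, b1, d1, add_zero, zero_add, ff,
      sg_one, one_pow, ← mul_assoc, CharTwo.add_self_eq_zero] at this
    simp only [A] at *
    grind
  have a01 : M 0 1 = 0 := (mul_eq_zero.mp b1).resolve_left hu0
  have a02 : M 0 2 = 0 := (mul_eq_zero.mp d1).resolve_left hu0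
  have a21 : M 2 1 = 0 := (mul_eq_zero.mp hr0).resolve_left hu0
  have a12 : M 1 2 = 0 := (mul_eq_zero.mp hn0).resolve_left hu0
  have hMd : M = Matrix.diagonal ![M 0 0, M 1 1, M 2 2, δ] := by
    ext i j
    fin_cases i <;> fin_cases j <;>
      simp [a10, a20, a30, a03, a13, a23, a33, a31, a32, a01, a02, a21, a12]
  have hdet : M 0 0 * M 1 1 * M 2 2 * δ = 1 := by
    have hd : M.det = 1 := g.2
    rw [hMd, Matrix.det_diagonal] at hd
    simpa [Fin.prod_univ_four] using hd
  have hp0 : p ≠ 0 := by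
    refine mul_ne_zero hu0 ?_
    rintro h
    rw [h] at hdet
    simp at hdet
  have hl' : l = p * sg m p := by
    apply mul_left_cancel₀ hp0
    rw [← hpl, hA']; ring
  have e00 : M 0 0 = δ * (p ^ 2 * sg m p) := by
    rw [← hA']; simp only [A, hu]; rw [mul_inv_cancel_left₀ hδ0]
  have e11 : M 1 1 = δ * (p * sg m p) := by
    rw [← hl']; simp only [hl, hu]; rw [mul_inv_cancel_left₀ hδ0]
  have e22 : M 2 2 = δ * p := by simp only [hp, hu]; rw [mul_inv_cancel_left₀ hδ0]
  have hs : sg m p = tg m p * tg m p := (tg_mul_tg p).symm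
  have hδp : δ * (p * tg m p) = 1 := by
    have h4 : (δ * (p * tg m p)) ^ 4 = 1 := by
      rw [← hdet, e00, e11, e22, hs]; ring
    have h5 : ((δ * (p * tg m p)) ^ 2) ^ 2 = 1 := by rw [← pow_mul]; exact h4
    exact sq_eq_one_iff.mp (sq_eq_one_iff.mp h5 |>.elim id (fun h => by rwa [CharTwo.neg_eq] at h))
      |>.elim id (fun h => by rwa [CharTwo.neg_eq] at h)
  refine ⟨Units.mk0 p hp0, Subtype.ext ?_⟩
  change M = Hm m p
  have ht := tg_ne_zero (m := m) hp0
  have hδ' : δ = (p * tg m p)⁻¹ := eq_inv_of_mul_eq_one_left hδp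
  rw [hMd, Hm, e00, e11, e22, hδ', hs]
  congr 1
  ext i; fin_cases i <;> simp <;> field_simp

end Cfsg.Agent.SuzukiGroupBasic
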