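import Mathlib
import Cfsg.Prelude
import Cfsg.Agent.Lib.CITClassifyIso46
import Cfsg.Agent.Lib.CIT21CN
import Cfsg.Agent.Lib.SuzukiUniq67Main
import Cfsg.Agent.Lib.SuzukiGroupLie
import Cfsg.Agent.Lib.SuzukiGroupBasic
import Cfsg.Agent.Lib.PSLCard

/-!
A simple CN-group of Suzuki order is a Suzuki group.
-/

set_option autoImplicit false
set_option linter.style.haveILetI false

namespace Cfsg.Agent.CNSuzukiIso57

universe u

theorem not_three_dvd {G : Type u} [Group G] (h : Cfsg.IsSuzuki G) : ¬ 3 ∣ Nat.card G := by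
  obtain ⟨-, m, -, hc⟩ := h
  rw [hc, ← ZMod.natCast_eq_zero_iff]
  have h2 : ((2 : ℕ) : ZMod 3) ^ (2 * m + 1) = 2 := by
    rw [pow_succ, pow_mul]
    norm_num
    rw [show (4 : ZMod 3) = 1 from by decide, one_pow, one_mul]
  push_cast [Nat.cast_sub Nat.one_le_two_pow] at h2 ⊢
  rw [h2]
  decide

theorem three_dvd_psl2 (F : Type*) [Field F] [Finite F] :
    3 ∣ Nat.card (Matrix.ProjectiveSpecialLinearGroup (Fin 2) F) := by
  have h := PSLCard.card_PSL2_mul (F := F)
  have h3 : 3 ∣ Nat.card F * (Nat.card F ^ 2 - 1) := by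
    rw [← ZMod.natCast_eq_zero_iff, Nat.cast_mul, Nat.cast_sub (Nat.one_le_pow _ _ Nat.card_pos),
      Nat.cast_pow, Nat.cast_one]
    generalize (Nat.card F : ZMod 3) = x
    revert x
    decide
  rw [← h] at h3
  refine (Nat.Prime.dvd_mul Nat.prime_three).mp h3 |>.resolve_left fun hg => ?_
  have := Nat.le_of_dvd (Nat.gcd_pos_of_pos_left _ two_pos) hg
  have := Nat.gcd_le_left (Nat.card F - 1) two_pos
  omega

theorem iso_of_zassenhaus {G : Type u} [Group G] [Finite G] {Ω : Type u} [MulAction G Ω]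
    [Finite Ω] (hZ : Cfsg.IsZassenhausGroup G Ω) (hS : Cfsg.IsSuzuki G) : Cfsg.Lie.IsoSuzuki G := by
  haveI := hS.1
  rcases SuzukiUniq67.psl2_or_isoSuzuki hZ with ⟨F, hF, hFf, ⟨e⟩⟩ | h
  · exact absurd ((Nat.card_congr e.toEquiv) ▸ three_dvd_psl2 F) (not_three_dvd hS)
  · exact h

/-- A simple CN-group of Suzuki order is isomorphic to a Suzuki group. -/
theorem iso_sz {G : Type u} [Group G] [Finite G] (hS : Cfsg.IsSuzuki G) (hCN : Cfsg.IsCNGroup G)
    (hna : ∃ a b : G, a * b ≠ b * a) :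
    ∃ (F : Type) (_ : Field F) (m : ℕ) (_ : SuzukiGroupBasic.Param F m), Nonempty (G ≃* Cfsg.Sz F m) := by
  haveI := hS.1
  have hiso : Cfsg.Lie.IsoSuzuki G := by
    by_cases hCIT : CIT21.IsCIT G
    · rcases CITClassifyIso46.classify hna hCIT with ⟨F, hF, hFf, ⟨e⟩⟩ |
        ⟨F, hF, hFf, hc, ⟨e⟩⟩ | h
      · exact absurd ((Nat.card_congr e.toEquiv) ▸ three_dvd_psl2 F) (not_three_dvd hS)
      · refine absurd ?_ (not_three_dvd hS)
        rw [Nat.card_congr e.toEquiv]
        rw [CIT21Plane.card_psl34 F hc]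
        decide
      · exact h
    · simp only [CIT21.IsCIT, not_forall] at hCIT
      obtain ⟨t, ot, hnp⟩ := hCIT
      haveI := Fact.mk Nat.prime_two
      obtain ⟨c, hcodd, hc1⟩ : ∃ c : Subgroup.centralizer ({t} : Set G),
          Odd (orderOf c) ∧ c ≠ 1 := by
        by_contra hne
        refine hnp (IsPGroup.iff_orderOf.2 fun c => ?_)
        obtain ⟨a, b, hb, hab⟩ := Nat.exists_eq_two_pow_mul_odd (orderOf_pos c).ne'
        refine ⟨a, ?_⟩
        by_contra h
        refine hne ⟨c ^ (2 ^ a), ?_, ?_⟩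
        · rw [orderOf_pow' c (by positivity), hab, Nat.gcd_mul_right_left,
            Nat.mul_div_cancel_left _ (by positivity)]
          exact hb
        · intro e
          have := Nat.le_of_dvd (by positivity) (orderOf_dvd_of_pow_eq_one e)
          have hb1 : b = 1 := by
            have := hab
            have : 1 ≤ b := hb.pos
            nlinarith [Nat.two_pow_pos a]
          exact h (by rw [hab, hb1, mul_one])
      obtain ⟨z, oz, -, hcc, hti⟩ := CIT21CN.exists_data hCN ot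
        (x := (c : G)) (Subgroup.mem_centralizer_singleton_iff.1 c.2)
        (by rw [Subgroup.orderOf_coe]; exact hcodd) (fun e => hc1 (Subtype.ext e))
      obtain ⟨Ω, iA, iF, hZ⟩ := CIT21Frob5.zassenhaus hna oz hcc hti
      exact iso_of_zassenhaus hZ hS
  obtain ⟨F, hF, hFf, m, hm, hcard, ⟨e⟩⟩ := hiso
  haveI := SuzukiGroupBasic.Param.mk' hm hcard
  exact ⟨F, hF, m, inferInstance, ⟨e.trans SuzukiGroupLie.lieEquiv⟩⟩

end Cfsg.Agent.CNSuzukiIso57
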