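import Mathlib
import Cfsg.Agent.Lib.PSL2Proj52

/-!
`A4`, `S4` and `A5` inside `PSL(2,F)` in odd characteristic, by quaternion tables over `ℤ[θ]`,
`θ^2 = A θ + B`.
-/

set_option autoImplicit false
set_option linter.unusedSectionVars false

open scoped MatrixGroups
open Matrix hiding inv_zero mul_inv_rev

namespace Cfsg.Agent.DicksonExceptional

/-- Pairs `(u, v)` standing for `u + v θ`. -/
abbrev Zt := ℤ × ℤ

/-- Quaternions over `ℤ[θ]`. -/
abbrev Quat := Zt × Zt × Zt × Zt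

/-- Multiplication in `ℤ[θ]`. -/
def zmul (A B : ℤ) (x y : Zt) : Zt :=
  (x.1 * y.1 + B * (x.2 * y.2), x.1 * y.2 + x.2 * y.1 + A * (x.2 * y.2))

/-- Hamilton's multiplication. -/
def qmul (A B : ℤ) : Quat → Quat → Quat
  | (a, b, c, d), (e, f, g, h) =>
    (zmul A B a e - zmul A B b f - zmul A B c g - zmul A B d h,
      zmul A B a f + zmul A B b e + zmul A B c h - zmul A B d g,
      zmul A B a g - zmul A B b h + zmul A B c e + zmul A B d f,
      zmul A B a h + zmul A B b g - zmul A B c f + zmul A B d e)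

/-- The reduced norm. -/
def qnorm (A B : ℤ) : Quat → Zt
  | (a, b, c, d) => zmul A B a a + zmul A B b b + zmul A B c c + zmul A B d d

/-- The norm of `u + v θ`. -/
def znorm (A B : ℤ) (x : Zt) : ℤ := x.1 * x.1 + A * (x.1 * x.2) - B * (x.2 * x.2)

/-- A coordinate that cannot vanish in odd characteristic. -/
def isUnit2 (A B : ℤ) (x : Zt) : Bool := decide ((znorm A B x).natAbs ∈ [1, 2, 4, 8, 16])

/-- Some imaginary coordinate cannot vanish. -/
def imagUnit (A B : ℤ) : Quat → Bool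
  | (_, b, c, d) => isUnit2 A B b || isUnit2 A B c || isUnit2 A B d

/-- Table lookup. -/
def look (l : List (ℕ × Quat)) (n : ℕ) : Quat :=
  match l.find? (fun e => e.1 == n) with
  | some e => e.2
  | none => ((2, 0), 0, 0, 0)

variable {F : Type*} [Field F]

/-- Evaluation at `θ`. -/
def ev (θ : F) (x : Zt) : F := (x.1 : F) + (x.2 : F) * θ

theorem ev_add (θ : F) (x y : Zt) : ev θ (x + y) = ev θ x + ev θ y := by
  simp only [ev, Prod.fst_add, Prod.snd_add, Int.cast_add]; ring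

theorem ev_sub (θ : F) (x y : Zt) : ev θ (x - y) = ev θ x - ev θ y := by
  simp only [ev, Prod.fst_sub, Prod.snd_sub, Int.cast_sub]; ring

theorem ev_zmul {θ : F} {A B : ℤ} (hθ : θ ^ 2 = A * θ + B) (x y : Zt) :
    ev θ (zmul A B x y) = ev θ x * ev θ y := by
  simp only [ev, zmul]
  push_cast
  linear_combination (-(x.2 : F) * y.2) * hθ

/-- The matrix of a doubled quaternion. -/
def qmat (θ a b : F) : Quat → Matrix (Fin 2) (Fin 2) F
  | (w, x, y, z) => (2 : F)⁻¹ •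
    !![ev θ w + ev θ y * a + ev θ z * b, ev θ x + ev θ y * b - ev θ z * a;
      -ev θ x + ev θ y * b - ev θ z * a, ev θ w - ev θ y * a - ev θ z * b]

theorem det_qmat {θ a b : F} {A B : ℤ} (hθ : θ ^ 2 = A * θ + B) (hab : a ^ 2 + b ^ 2 = -1)
    (h2 : (2 : F) ≠ 0) {q : Quat} (hq : qnorm A B q = (4, 0)) : (qmat θ a b q).det = 1 := by
  obtain ⟨w, x, y, z⟩ := q
  have h := congrArg (ev θ) hq
  simp only [qnorm, ev_add, ev_zmul hθ] at h
  have h4 : ev θ ((4, 0) : Zt) = (4 : F) := by simp [ev]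
  rw [h4] at h
  simp only [qmat, Matrix.det_smul, Matrix.det_fin_two_of, Fintype.card_fin]
  field_simp
  linear_combination h - (ev θ y ^ 2 + ev θ z ^ 2) * hab

theorem qmat_mul {θ a b : F} {A B : ℤ} (hθ : θ ^ 2 = A * θ + B) (hab : a ^ 2 + b ^ 2 = -1)
    (h2 : (2 : F) ≠ 0) (p q : Quat) :
    qmat θ a b p * qmat θ a b q = (2 : F)⁻¹ • qmat θ a b (qmul A B p q) := by
  obtain ⟨w, x, y, z⟩ := p
  obtain ⟨w', x', y', z'⟩ := q
  simp only [qmat, qmul, ev_add, ev_sub, ev_zmul hθ]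
  ext i j
  fin_cases i <;> fin_cases j <;> simp [Matrix.mul_apply, Fin.sum_univ_two] <;> field_simp
  · linear_combination (ev θ y * ev θ y' + ev θ z * ev θ z') * hab
  · linear_combination (ev θ z * ev θ y' - ev θ y * ev θ z') * hab
  · linear_combination (ev θ y * ev θ z' - ev θ z * ev θ y') * hab
  · linear_combination (ev θ y * ev θ y' + ev θ z * ev θ z') * hab

theorem qmat_neg (θ a b : F) (q : Quat) : qmat θ a b (-q) = -qmat θ a b q := by
  obtain ⟨w, x, y, z⟩ := q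
  have e : ∀ t : Zt, ev θ (-t) = -ev θ t := fun t => by
    simp only [ev, Prod.fst_neg, Prod.snd_neg, Int.cast_neg]; ring
  simp only [qmat, Prod.neg_mk, e]
  ext i j
  fin_cases i <;> fin_cases j <;> simp <;> ring

theorem qmat_two (θ a b : F) (q : Quat) : qmat θ a b (q + q) = (2 : F) • qmat θ a b q := by
  obtain ⟨w, x, y, z⟩ := q
  simp only [qmat, Prod.mk_add_mk, ev_add]
  ext i j
  fin_cases i <;> fin_cases j <;> simp <;> ring

theorem ev_ne_zero {θ : F} {A B : ℤ} (hθ : θ ^ 2 = A * θ + B) (h2 : (2 : F) ≠ 0) {x : Zt}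
    (hx : isUnit2 A B x = true) : ev θ x ≠ 0 := by
  intro h
  have e : (znorm A B x : F) = 0 := by
    have : (znorm A B x : F) = ev θ x * ((x.1 : F) + A * x.2 - x.2 * θ) := by
      simp only [znorm, ev]; push_cast; linear_combination (x.2 : F) * x.2 * hθ
    rw [this, h, zero_mul]
  simp only [isUnit2, List.mem_cons, List.not_mem_nil, or_false, decide_eq_true_eq] at hx
  have e' : ((znorm A B x).natAbs : F) = 0 := by
    rcases Int.natAbs_eq (znorm A B x) with h' | h' <;> rw [h'] at e <;> simpa using e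
  rcases hx with h' | h' | h' | h' | h' <;> rw [h'] at e'
  · exact one_ne_zero (by exact_mod_cast e' : (1 : F) = 0)
  all_goals
    push_cast at e'
  · exact h2 e'
  · exact mul_ne_zero h2 h2 (by linear_combination e')
  · exact mul_ne_zero h2 (mul_ne_zero h2 h2) (by linear_combination e')
  · exact mul_ne_zero h2 (mul_ne_zero h2 (mul_ne_zero h2 h2)) (by linear_combination e')

/-- A quaternion table gives an embedding in `PSL(2,F)`. -/
theorem exists_embedding {G : Type*} [Group G] (f : G → Quat) {A B : ℤ}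
    (hnorm : ∀ g, qnorm A B (f g) = (4, 0))
    (hmul : ∀ g h, qmul A B (f g) (f h) = f (g * h) + f (g * h) ∨
      qmul A B (f g) (f h) = -(f (g * h) + f (g * h)))
    (hker : ∀ g, g ≠ 1 → imagUnit A B (f g) = true)
    {θ a b : F} (hθ : θ ^ 2 = A * θ + B) (hab : a ^ 2 + b ^ 2 = -1) (h2 : (2 : F) ≠ 0) :
    ∃ ψ : G →* ProjectiveSpecialLinearGroup (Fin 2) F, Function.Injective ψ := by
  let S : G → SL(2, F) := fun g => ⟨qmat θ a b (f g), det_qmat hθ hab h2 (hnorm g)⟩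
  have hS : ∀ g h, S g * S h = S (g * h) ∨ S g * S h = -S (g * h) := by
    intro g h
    rcases hmul g h with e | e
    · left; apply Subtype.ext
      show qmat θ a b (f g) * qmat θ a b (f h) = qmat θ a b (f (g * h))
      rw [qmat_mul hθ hab h2, e, qmat_two, smul_smul, inv_mul_cancel₀ h2, one_smul]
    · right; apply Subtype.ext
      show qmat θ a b (f g) * qmat θ a b (f h) = -qmat θ a b (f (g * h))
      rw [qmat_mul hθ hab h2, e, qmat_neg, qmat_two, smul_neg, smul_smul, inv_mul_cancel₀ h2,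
        one_smul]
  refine ⟨MonoidHom.mk' (fun g => PSL2Proj52.π (S g)) fun g h => ?_, ?_⟩
  · rw [← map_mul]
    rcases hS g h with e | e <;> rw [e]
    exact (PSL2Proj52.π_neg _).symm
  rw [injective_iff_map_eq_one]
  intro g hg
  by_contra hne
  have hg' : PSL2Proj52.π (S g) = 1 := hg
  rw [PSL2Proj52.π_eq_one] at hg'
  have hk := hker g hne
  rcases hfg : f g with ⟨w, x, y, z⟩
  rw [hfg] at hk
  have hmat : qmat θ a b (w, x, y, z) = 1 ∨ qmat θ a b (w, x, y, z) = -1 := by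
    rw [← hfg]
    rcases hg' with e | e
    · exact Or.inl (congrArg Subtype.val e)
    · exact Or.inr (congrArg Subtype.val e)
  have key : ev θ x = 0 ∧ ev θ y = 0 ∧ ev θ z = 0 := by
    have h01 : qmat θ a b (w, x, y, z) 0 1 = 0 ∧ qmat θ a b (w, x, y, z) 1 0 = 0 ∧
        qmat θ a b (w, x, y, z) 0 0 = qmat θ a b (w, x, y, z) 1 1 := by
      rcases hmat with e | e <;> rw [e] <;> simp
    simp [qmat, h2] at h01
    obtain ⟨u1, u2, u3⟩ := h01
    have hx0 : ev θ x = 0 := by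
      have : (2 : F) * ev θ x = 0 := by linear_combination u1 - u2
      exact (mul_eq_zero.mp this).resolve_left h2
    have v1 : ev θ y * a + ev θ z * b = 0 := by
      have : (2 : F) * (ev θ y * a + ev θ z * b) = 0 := by linear_combination u3
      exact (mul_eq_zero.mp this).resolve_left h2
    refine ⟨hx0, ?_, ?_⟩
    · linear_combination (-a) * v1 - b * u1 + b * hx0 + ev θ y * hab
    · linear_combination (-b) * v1 + a * u1 - a * hx0 + ev θ z * hab
  simp only [imagUnit, Bool.or_eq_true] at hk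
  rcases hk with (h | h) | h
  · exact ev_ne_zero hθ h2 h key.1
  · exact ev_ne_zero hθ h2 h key.2.1
  · exact ev_ne_zero hθ h2 h key.2.2

/-- Doubled quaternion coordinates of the elements of `A4`. -/
def tableA4 : List (ℕ × Quat) :=
  [(1, ((2, 0), (0, 0), (0, 0), (0, 0))),
   (2, ((1, 0), (-1, 0), (-1, 0), (-1, 0))),
   (3, ((1, 0), (1, 0), (1, 0), (1, 0))),
   (4, ((0, 0), (2, 0), (0, 0), (0, 0))),
   (6, ((1, 0), (-1, 0), (1, 0), (-1, 0))),
   (7, ((1, 0), (1, 0), (1, 0), (-1, 0))),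
   (8, ((1, 0), (1, 0), (-1, 0), (1, 0))),
   (9, ((1, 0), (1, 0), (-1, 0), (-1, 0))),
   (11, ((0, 0), (0, 0), (0, 0), (2, 0))),
   (12, ((1, 0), (-1, 0), (-1, 0), (1, 0))),
   (13, ((1, 0), (-1, 0), (1, 0), (1, 0))),
   (14, ((0, 0), (0, 0), (2, 0), (0, 0)))]

/-- Doubled quaternion coordinates of the elements of `S4`. -/
def tableS4 : List (ℕ × Quat) :=
  [(6, ((2, 0), (0, 0), (0, 0), (0, 0))),
   (7, ((0, 0), (0, 1), (0, 0), (0, -1))),
   (9, ((0, 0), (0, 1), (0, -1), (0, 0))),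
   (11, ((1, 0), (-1, 0), (-1, 0), (-1, 0))),
   (13, ((1, 0), (1, 0), (1, 0), (1, 0))),
   (14, ((0, 0), (0, 0), (0, 1), (0, -1))),
   (18, ((0, 0), (0, 1), (0, 0), (0, 1))),
   (19, ((0, 0), (0, 0), (2, 0), (0, 0))),
   (24, ((1, 0), (-1, 0), (-1, 0), (1, 0))),
   (27, ((0, 1), (0, 1), (0, 0), (0, 0))),
   (28, ((0, 1), (0, 0), (0, 0), (0, -1))),
   (30, ((1, 0), (-1, 0), (1, 0), (1, 0))),
   (33, ((1, 0), (1, 0), (1, 0), (-1, 0))),
   (35, ((0, 1), (0, 0), (0, 0), (0, 1))),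
   (36, ((0, 0), (0, 0), (0, 1), (0, 1))),
   (39, ((1, 0), (-1, 0), (1, 0), (-1, 0))),
   (44, ((0, 0), (2, 0), (0, 0), (0, 0))),
   (45, ((0, 1), (0, 0), (0, -1), (0, 0))),
   (49, ((0, 1), (0, -1), (0, 0), (0, 0))),
   (50, ((1, 0), (1, 0), (-1, 0), (-1, 0))),
   (52, ((1, 0), (1, 0), (-1, 0), (1, 0))),
   (54, ((0, 0), (0, 1), (0, 1), (0, 0))),
   (56, ((0, 1), (0, 0), (0, 1), (0, 0))),
   (57, ((0, 0), (0, 0), (0, 0), (2, 0)))]

/-- Doubled quaternion coordinates of the elements of `A5`. -/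
def tableA5 : List (ℕ × Quat) :=
  [(7, ((2, 0), (0, 0), (0, 0), (0, 0))),
   (8, ((1, 0), (1, 0), (-1, 0), (1, 0))),
   (9, ((1, 0), (-1, 0), (1, 0), (-1, 0))),
   (11, ((0, 0), (2, 0), (0, 0), (0, 0))),
   (13, ((1, 0), (1, 0), (1, 0), (1, 0))),
   (14, ((1, 0), (-1, 0), (1, 0), (1, 0))),
   (16, ((1, 0), (-1, 0), (-1, 0), (-1, 0))),
   (17, ((1, 0), (-1, 0), (-1, 0), (1, 0))),
   (19, ((0, 0), (0, 0), (0, 0), (2, 0))),
   (21, ((1, 0), (1, 0), (-1, 0), (-1, 0))),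
   (22, ((1, 0), (1, 0), (1, 0), (-1, 0))),
   (23, ((0, 0), (0, 0), (2, 0), (0, 0))),
   (27, ((0, 0), (1, 0), (1, -1), (0, -1))),
   (28, ((0, 0), (0, 1), (1, 0), (1, -1))),
   (29, ((0, 0), (1, -1), (0, -1), (-1, 0))),
   (35, ((1, 0), (0, 0), (0, 1), (1, -1))),
   (38, ((0, 1), (1, 0), (0, 0), (1, -1))),
   (39, ((1, -1), (-1, 0), (0, 1), (0, 0))),
   (40, ((0, 1), (0, 0), (-1, 1), (1, 0))),
   (42, ((1, 0), (0, -1), (-1, 1), (0, 0))),
   (44, ((1, -1), (0, -1), (0, 0), (-1, 0))),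
   (45, ((1, -1), (0, 0), (1, 0), (0, -1))),
   (47, ((1, 0), (1, -1), (0, 0), (0, -1))),
   (48, ((0, 1), (1, -1), (-1, 0), (0, 0))),
   (51, ((1, 0), (0, 0), (0, -1), (-1, 1))),
   (53, ((1, -1), (0, 0), (-1, 0), (0, 1))),
   (54, ((0, 1), (0, 0), (1, -1), (-1, 0))),
   (55, ((0, 0), (1, 0), (-1, 1), (0, 1))),
   (58, ((1, 0), (1, -1), (0, 0), (0, 1))),
   (59, ((1, 0), (0, -1), (1, -1), (0, 0))),
   (65, ((0, 0), (1, -1), (0, 1), (1, 0))),
   (66, ((1, -1), (-1, 0), (0, -1), (0, 0))),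
   (69, ((1, -1), (0, -1), (0, 0), (1, 0))),
   (70, ((0, 0), (0, 1), (-1, 0), (-1, 1))),
   (71, ((0, 1), (1, 0), (0, 0), (-1, 1))),
   (73, ((0, 1), (1, -1), (1, 0), (0, 0))),
   (76, ((1, -1), (1, 0), (0, -1), (0, 0))),
   (77, ((1, 0), (0, 1), (1, -1), (0, 0))),
   (79, ((0, 1), (-1, 1), (1, 0), (0, 0))),
   (80, ((1, 0), (-1, 1), (0, 0), (0, -1))),
   (82, ((1, 0), (0, 0), (0, -1), (1, -1))),
   (84, ((0, 0), (1, -1), (0, -1), (1, 0))),
   (85, ((0, 1), (-1, 0), (0, 0), (1, -1))),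
   (86, ((0, 0), (1, 0), (1, -1), (0, 1))),
   (89, ((0, 1), (0, 0), (1, -1), (1, 0))),
   (95, ((1, -1), (0, 1), (0, 0), (-1, 0))),
   (96, ((1, -1), (0, 0), (-1, 0), (0, -1))),
   (97, ((0, 0), (0, 1), (1, 0), (-1, 1))),
   (101, ((0, 1), (-1, 0), (0, 0), (-1, 1))),
   (102, ((1, 0), (-1, 1), (0, 0), (0, 1))),
   (103, ((1, -1), (0, 1), (0, 0), (1, 0))),
   (105, ((1, 0), (0, 1), (-1, 1), (0, 0))),
   (107, ((1, 0), (0, 0), (0, 1), (-1, 1))),
   (108, ((0, 0), (0, 1), (-1, 0), (1, -1))),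
   (110, ((1, -1), (1, 0), (0, 1), (0, 0))),
   (111, ((0, 0), (1, 0), (-1, 1), (0, -1))),
   (113, ((1, -1), (0, 0), (1, 0), (0, 1))),
   (115, ((0, 1), (-1, 1), (-1, 0), (0, 0))),
   (116, ((0, 1), (0, 0), (-1, 1), (-1, 0))),
   (117, ((0, 0), (1, -1), (0, 1), (-1, 0)))]

/-- The table map on `A4`. -/
def fA4 (g : alternatingGroup (Fin 4)) : Quat :=
  look tableA4 (((g : Equiv.Perm (Fin 4)) 0).val * 4 + ((g : Equiv.Perm (Fin 4)) 1).val)

/-- The table map on `S4`. -/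
def fS4 (g : Equiv.Perm (Fin 4)) : Quat :=
  look tableS4 (((g 0).val * 4 + (g 1).val) * 4 + (g 2).val)

/-- The table map on `A5`. -/
def fA5 (g : alternatingGroup (Fin 5)) : Quat :=
  look tableA5 ((((g : Equiv.Perm (Fin 5)) 0).val * 5 + ((g : Equiv.Perm (Fin 5)) 1).val) * 5 +
    ((g : Equiv.Perm (Fin 5)) 2).val)

variable [Finite F]

theorem exists_neg_one_sum (F : Type*) [Field F] [Finite F] : ∃ a b : F, a ^ 2 + b ^ 2 = -1 := by
  obtain ⟨p, hp⟩ := CharP.exists F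
  have : NeZero p := ⟨(CharP.char_is_prime F p).ne_zero⟩
  obtain ⟨a, b, h⟩ := CharP.sq_add_sq F p (-1)
  exact ⟨a, b, by simpa using h⟩

theorem exists_A4 (h2 : (2 : F) ≠ 0) :
    ∃ ψ : alternatingGroup (Fin 4) →* ProjectiveSpecialLinearGroup (Fin 2) F,
      Function.Injective ψ := by
  obtain ⟨a, b, h⟩ := exists_neg_one_sum F
  exact exists_embedding fA4 (A := 0) (B := 0) (by decide +kernel) (by decide +kernel)
    (by decide +kernel) (θ := 0) (by simp) h h2

theorem exists_S4 (h2 : (2 : F) ≠ 0) {s : F} (hs : s ^ 2 = 2) :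
    ∃ ψ : Equiv.Perm (Fin 4) →* ProjectiveSpecialLinearGroup (Fin 2) F,
      Function.Injective ψ := by
  obtain ⟨a, b, h⟩ := exists_neg_one_sum F
  exact exists_embedding fS4 (A := 0) (B := 2) (by decide +kernel) (by decide +kernel)
    (by decide +kernel) (θ := s) (by simp [hs]) h h2

theorem exists_A5 (h2 : (2 : F) ≠ 0) {φ : F} (hφ : φ ^ 2 = φ + 1) :
    ∃ ψ : alternatingGroup (Fin 5) →* ProjectiveSpecialLinearGroup (Fin 2) F,
      Function.Injective ψ := by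
  obtain ⟨a, b, h⟩ := exists_neg_one_sum F
  exact exists_embedding fA5 (A := 1) (B := 1) (by decide +kernel) (by decide +kernel)
    (by decide +kernel) (θ := φ) (by simp [hφ]) h h2

end Cfsg.Agent.DicksonExceptional
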