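import Mathlib
import Cfsg.Agent.Lib.DicksonDihedralMax

/-!
Subfield subgroups `PSL(2,K)`, `PGL(2,K)` of `PSL(2,F)`.
-/

set_option autoImplicit false
set_option linter.unusedSectionVars false

open scoped MatrixGroups Classical
open Matrix hiding inv_zero mul_inv_rev

namespace Cfsg.Agent.DicksonSubfieldEmbed

open Matrix.ProjGenLinGroup (mk mk_eq_mk_iff)

variable {F K : Type*} [Field F] [Field K] [Finite F] [Finite K]

/-- Embedding of finite fields. -/
theorem exists_ringHom {m : ℕ} (hm : Nat.card K ^ m = Nat.card F) : Nonempty (K →+* F) := by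
  obtain ⟨p, hK⟩ := CharP.exists K
  obtain ⟨p', hF⟩ := CharP.exists F
  have : Fact p.Prime := ⟨CharP.char_is_prime K p⟩
  have : Fact p'.Prime := ⟨CharP.char_is_prime F p'⟩
  obtain ⟨a, ha0, ha⟩ := PSL2Sylow.card_field_eq (F := K) p
  obtain ⟨b, hb0, hb⟩ := PSL2Sylow.card_field_eq (F := F) p'
  have hpp : p' = p := by
    have h : p' ∣ p ^ (a * m) := by
      rw [pow_mul, ← ha, hm, hb]; exact dvd_pow_self p' (by omega)
    exact (Nat.prime_dvd_prime_iff_eq Fact.out Fact.out).mp ((Fact.out : p'.Prime).dvd_of_dvd_pow h)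
  subst hpp
  letI := ZMod.algebra K p'
  letI := ZMod.algebra F p'
  have h1 : Module.finrank (ZMod p') K = a := Nat.pow_right_injective (Fact.out : p'.Prime).two_le
    (show p' ^ _ = p' ^ a by rw [← ha, Module.natCard_eq_pow_finrank (K := ZMod p'), Nat.card_zmod])
  have h2 : Module.finrank (ZMod p') F = b := Nat.pow_right_injective (Fact.out : p'.Prime).two_le
    (show p' ^ _ = p' ^ b by rw [← hb, Module.natCard_eq_pow_finrank (K := ZMod p'), Nat.card_zmod])
  have h3 : a * m = b := Nat.pow_right_injective (Fact.out : p'.Prime).two_le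
    (show p' ^ _ = p' ^ b by rw [pow_mul, ← ha, hm, hb])
  obtain ⟨f⟩ := FiniteField.nonempty_algHom_of_finrank_dvd (F := ZMod p') (K := K) (L := F)
    (by rw [h1, h2, ← h3]; exact dvd_mul_right a m)
  exact ⟨f.toRingHom⟩

/-- `PGL(2,K)` lies in `PSL(2,F)` when every element of `K` is a square in `F`. -/
theorem pglMap_mem_range (f : K →+* F) (hsq : ∀ d : K, IsSquare (f d))
    (g : Matrix.ProjGenLinGroup (Fin 2) K) :
    Matrix.ProjGenLinGroup.map f g ∈
      (ProjectiveSpecialLinearGroup.toPGL (n := Fin 2) (R := F)).range := by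
  induction g using Matrix.ProjGenLinGroup.induction_on with | mk A =>
  obtain ⟨c, hc⟩ := hsq A.val.det
  have hd : f A.val.det ≠ 0 := (map_ne_zero f).mpr A.det_ne_zero
  have hc0 : c ≠ 0 := fun e => hd (by rw [hc, e, mul_zero])
  let B : SL(2, F) := ⟨c⁻¹ • A.val.map f, by
    rw [Matrix.det_smul, Fintype.card_fin, ← RingHom.mapMatrix_apply, ← RingHom.map_det, hc]
    field_simp⟩
  refine ⟨QuotientGroup.mk B, ?_⟩
  rw [ProjectiveSpecialLinearGroup.toPGL_mk, Matrix.ProjGenLinGroup.map_mk, mk_eq_mk_iff]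
  refine ⟨Units.mk0 c hc0, Units.ext ?_⟩
  ext i j
  simp [B, Matrix.mul_diagonal]
  show (c⁻¹ • A.val.map f) i j * c = _
  simp [mul_comm, hc0]

theorem toPGL_map_mem_range (f : K →+* F) (g : ProjectiveSpecialLinearGroup (Fin 2) K) :
    Matrix.ProjGenLinGroup.map f (ProjectiveSpecialLinearGroup.toPGL g) ∈
      (ProjectiveSpecialLinearGroup.toPGL (n := Fin 2) (R := F)).range := by
  obtain ⟨A, rfl⟩ := QuotientGroup.mk'_surjective _ g
  refine ⟨QuotientGroup.mk (Matrix.SpecialLinearGroup.map f A), ?_⟩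
  rw [ProjectiveSpecialLinearGroup.toPGL_mk]
  show _ = Matrix.ProjGenLinGroup.map f (mk (SpecialLinearGroup.toGL A))
  rw [Matrix.ProjGenLinGroup.map_mk]
  congr 1
  exact Units.ext rfl

/-- A subgroup of `PGL(2,F)` inside the image of `PSL(2,F)`. -/
theorem exists_pull {G : Type*} [Group G] (φ : G →* Matrix.ProjGenLinGroup (Fin 2) F)
    (hφ : Function.Injective φ)
    (hle : ∀ g, φ g ∈ (ProjectiveSpecialLinearGroup.toPGL (n := Fin 2) (R := F)).range) :
    ∃ ψ : G →* ProjectiveSpecialLinearGroup (Fin 2) F, Function.Injective ψ := by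
  have hinj := ProjectiveSpecialLinearGroup.toPGL_injective (n := Fin 2) (R := F)
  refine ⟨(MonoidHom.ofInjective hinj).symm.toMonoidHom.comp (φ.codRestrict _ hle), ?_⟩
  exact (MonoidHom.ofInjective hinj).symm.injective.comp fun a b h => hφ (congrArg Subtype.val h)

theorem exists_psl_embedding (f : K →+* F) :
    ∃ ψ : ProjectiveSpecialLinearGroup (Fin 2) K →* ProjectiveSpecialLinearGroup (Fin 2) F,
      Function.Injective ψ :=
  exists_pull ((Matrix.ProjGenLinGroup.map f).comp ProjectiveSpecialLinearGroup.toPGL)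
    ((DicksonSubfield.pglMap_injective f).comp ProjectiveSpecialLinearGroup.toPGL_injective)
    (toPGL_map_mem_range f)

theorem exists_pgl_embedding (f : K →+* F) {m : ℕ} (hm : Nat.card K ^ m = Nat.card F)
    (hev : Even m ∨ Even (Nat.card K)) :
    ∃ ψ : Matrix.ProjGenLinGroup (Fin 2) K →* ProjectiveSpecialLinearGroup (Fin 2) F,
      Function.Injective ψ := by
  refine exists_pull (Matrix.ProjGenLinGroup.map f) (DicksonSubfield.pglMap_injective f)
    (pglMap_mem_range f fun d => ?_)
  cases nonempty_fintype K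
  cases nonempty_fintype F
  rcases eq_or_ne d 0 with rfl | hd
  · exact ⟨0, by simp⟩
  rcases hev with ⟨s, hs⟩ | hK
  · by_cases h2 : ringChar F = 2
    · exact FiniteField.isSquare_of_char_two h2 _
    rw [FiniteField.isSquare_iff h2 ((map_ne_zero f).mpr hd)]
    have hodd := FiniteField.odd_card_of_char_ne_two h2
    rw [Nat.card_eq_fintype_card, Nat.card_eq_fintype_card, hs] at hm
    obtain ⟨w, hw⟩ : Fintype.card K - 1 ∣ Fintype.card F / 2 := by
      have hKodd : Odd (Fintype.card K) := by
        rw [← hm] at hodd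
        have : Odd (Fintype.card K ^ (s + s)) := Nat.odd_iff.mpr (by
          rcases Nat.even_or_odd (Fintype.card K ^ (s + s)) with he | ho
          · exact absurd (Nat.even_iff.mp he) (by
              rw [Nat.odd_iff.mp (Nat.odd_iff.mpr hodd)]; norm_num)
          · exact Nat.odd_iff.mp ho)
        exact (Nat.odd_pow_iff (by
          rintro h0; rw [h0, pow_zero] at hm; exact absurd hm.symm Fintype.one_lt_card.ne')).mp this
      obtain ⟨z, hz⟩ : Odd (Fintype.card K ^ s) := hKodd.pow
      obtain ⟨y, hy⟩ : Fintype.card K - 1 ∣ Fintype.card K ^ s - 1 := Nat.sub_one_dvd_pow_sub_one _ _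
      refine ⟨y * (z + 1), ?_⟩
      rw [← hm, pow_add, hz, ← mul_assoc, ← hy, hz]
      have e : (2 * z + 1) * (2 * z + 1) = 2 * ((2 * z + 1 - 1) * (z + 1)) + 1 := by
        simp; ring
      omega
    rw [hw, pow_mul, ← map_pow, FiniteField.pow_card_sub_one_eq_one d hd, map_one, one_pow]
  · have h2 : ringChar K = 2 := by
      by_contra h
      have := FiniteField.odd_card_of_char_ne_two h
      rw [Nat.card_eq_fintype_card] at hK
      exact absurd hK (Nat.not_even_iff.mpr this)
    have hK2 : (2 : K) = 0 := by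
      have := ringChar.Nat.cast_ringChar (R := K)
      rw [h2] at this
      exact_mod_cast this
    refine FiniteField.isSquare_of_char_two ?_ _
    have : CharP F 2 := (CharTwo.of_one_ne_zero_of_two_eq_zero one_ne_zero (by
      rw [← map_ofNat f, hK2, map_zero]))
    exact ringChar.eq F 2

end Cfsg.Agent.DicksonSubfieldEmbed
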