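import Mathlib
import Cfsg.Agent.Lib.DicksonSubfieldEmbed

/-!
Subgroups of `PSL(2,F)` whose traces lie in a subfield are conjugate in `PGL(2,F)` into the
subfield group; the subfields of a finite field.
-/

set_option autoImplicit false
set_option linter.unusedSectionVars false

open scoped MatrixGroups Classical
open Matrix hiding inv_zero mul_inv_rev

namespace Cfsg.Agent.DicksonRational

open Matrix.ProjGenLinGroup (mk mk_eq_mk_iff)
open PSL2Proj52 (π)

variable {F : Type*} [Field F]

/-! ### The pullback of a subfield group -/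

/-- The elements of `PSL(2,F)` that `c` conjugates into `PGL(2,R)`. -/
noncomputable def pull (R : Subfield F) (c : Matrix.ProjGenLinGroup (Fin 2) F) :
    Subgroup (ProjectiveSpecialLinearGroup (Fin 2) F) :=
  (Matrix.ProjGenLinGroup.map (n := Fin 2) R.subtype).range.comap
    ((MulAut.conj c).toMonoidHom.comp ProjectiveSpecialLinearGroup.toPGL)

theorem mem_pull {R : Subfield F} {c : Matrix.ProjGenLinGroup (Fin 2) F}
    {g : ProjectiveSpecialLinearGroup (Fin 2) F} :
    g ∈ pull R c ↔ c * ProjectiveSpecialLinearGroup.toPGL g * c⁻¹ ∈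
      (Matrix.ProjGenLinGroup.map (n := Fin 2) R.subtype).range := Iff.rfl

/-- The image of `PSL(2,F)` is stable under conjugation. -/
theorem conj_mem_range (c : Matrix.ProjGenLinGroup (Fin 2) F)
    {x : Matrix.ProjGenLinGroup (Fin 2) F}
    (hx : x ∈ (ProjectiveSpecialLinearGroup.toPGL (n := Fin 2) (R := F)).range) :
    c * x * c⁻¹ ∈ (ProjectiveSpecialLinearGroup.toPGL (n := Fin 2) (R := F)).range := by
  obtain ⟨g, rfl⟩ := hx
  induction c using Matrix.ProjGenLinGroup.induction_on with | mk C =>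
  obtain ⟨A, rfl⟩ := QuotientGroup.mk'_surjective _ g
  let B : SL(2, F) := ⟨(C * SpecialLinearGroup.toGL A * C⁻¹ : GL (Fin 2) F), by
    rw [← Matrix.GeneralLinearGroup.val_det_apply, map_mul, map_mul, mul_comm (Matrix.GeneralLinearGroup.det C),
      mul_assoc, ← map_mul, mul_inv_cancel, map_one, mul_one, Matrix.GeneralLinearGroup.val_det_apply]
    exact A.2⟩
  refine ⟨QuotientGroup.mk B, ?_⟩
  rw [ProjectiveSpecialLinearGroup.toPGL_mk]
  show _ = mk C * mk (SpecialLinearGroup.toGL A) * (mk C)⁻¹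
  rw [← map_inv, ← map_mul, ← map_mul]
  exact congrArg mk (Units.ext rfl)

variable [Finite F]

theorem card_pull_le (R : Subfield F) (c : Matrix.ProjGenLinGroup (Fin 2) F) :
    Nat.card (pull R c) ≤ Nat.card R * (Nat.card R ^ 2 - 1) := by
  rw [← PSLCard.card_PGL2 (F := R), Nat.card_congr
    (MonoidHom.ofInjective (DicksonSubfield.pglMap_injective R.subtype)).toEquiv]
  refine Nat.card_le_card_of_injective (fun g => ⟨_, mem_pull.mp g.2⟩) fun a b h => ?_
  have h' := congrArg Subtype.val h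
  simp only [mul_left_inj, mul_right_inj] at h'
  exact Subtype.ext (ProjectiveSpecialLinearGroup.toPGL_injective h')

/-- Enough elements of `PGL(2,R)` give a lower bound. -/
theorem le_card_pull (R : Subfield F) (c : Matrix.ProjGenLinGroup (Fin 2) F) {G : Type*} [Group G]
    (φ : G →* Matrix.ProjGenLinGroup (Fin 2) R) (hφ : Function.Injective φ)
    (hmem : ∀ g, Matrix.ProjGenLinGroup.map R.subtype (φ g) ∈
      (ProjectiveSpecialLinearGroup.toPGL (n := Fin 2) (R := F)).range) :
    Nat.card G ≤ Nat.card (pull R c) := by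
  have hmem' := fun g => conj_mem_range c⁻¹ (hmem g)
  choose f hf using hmem'
  have hfp : ∀ g, f g ∈ pull R c := fun g => by
    rw [mem_pull, hf g]
    exact ⟨φ g, by simp [mul_assoc]⟩
  refine Nat.card_le_card_of_injective (fun g => (⟨f g, hfp g⟩ : pull R c)) fun a b h => hφ ?_
  have h' : f a = f b := congrArg Subtype.val h
  have h'' := congrArg ProjectiveSpecialLinearGroup.toPGL h'
  rw [hf, hf, mul_left_inj, mul_right_inj] at h''
  exact DicksonSubfield.pglMap_injective _ h''

theorem card_psl_le_pull (R : Subfield F) (c : Matrix.ProjGenLinGroup (Fin 2) F) :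
    Nat.card R * (Nat.card R ^ 2 - 1) ≤ 2 * Nat.card (pull R c) := by
  rw [← PSLCard.card_PSL2_mul (F := R)]
  exact Nat.mul_le_mul (Nat.le_of_dvd two_pos (Nat.gcd_dvd_left _ _))
    (le_card_pull R c ProjectiveSpecialLinearGroup.toPGL
      ProjectiveSpecialLinearGroup.toPGL_injective
      (DicksonSubfieldEmbed.toPGL_map_mem_range R.subtype))

theorem card_pgl_le_pull (R : Subfield F) (c : Matrix.ProjGenLinGroup (Fin 2) F)
    (hsq : ∀ d : R, IsSquare (R.subtype d)) :
    Nat.card R * (Nat.card R ^ 2 - 1) ≤ Nat.card (pull R c) := by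
  rw [← PSLCard.card_PGL2 (F := R)]
  exact le_card_pull R c (MonoidHom.id _) Function.injective_id
    (DicksonSubfieldEmbed.pglMap_mem_range R.subtype hsq)

theorem pull_ne_top {R : Subfield F} (c : Matrix.ProjGenLinGroup (Fin 2) F)
    (h : Nat.card R ^ 2 ≤ Nat.card F) : pull R c ≠ ⊤ := by
  intro e
  have hle := card_pull_le R c
  rw [e, Subgroup.card_top] at hle
  have hG := PSLCard.card_PSL2_mul (F := F)
  have hd : Nat.gcd 2 (Nat.card F - 1) ≤ 2 := Nat.le_of_dvd two_pos (Nat.gcd_dvd_left _ _)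
  have hr := PSLCard.one_lt_card R
  have hr2 : Nat.card R * 2 ≤ Nat.card R * Nat.card R := Nat.mul_le_mul le_rfl hr
  have h4 : Nat.card R * (Nat.card R ^ 2 - 1) * 3 ≤ Nat.card F * (Nat.card F ^ 2 - 1) := by
    rw [mul_assoc]
    refine Nat.mul_le_mul (by rw [sq] at h; omega) ?_
    have h5 := Nat.pow_le_pow_left h 2
    have h6 : 4 ≤ Nat.card R ^ 2 := by rw [sq]; omega
    have h7 : 4 * Nat.card R ^ 2 ≤ (Nat.card R ^ 2) ^ 2 := by
      rw [sq (Nat.card R ^ 2)]; exact Nat.mul_le_mul_right _ h6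
    omega
  have h8 := Nat.mul_le_mul_right (Nat.card (ProjectiveSpecialLinearGroup (Fin 2) F)) hd
  have hpos : 0 < Nat.card R * (Nat.card R ^ 2 - 1) :=
    Nat.mul_pos (by omega) (by rw [sq]; omega)
  omega

/-! ### Subfields -/

variable (p : ℕ) [hp : Fact p.Prime] [CharP F p]

variable (F) in
/-- The elements fixed by the `j`-th power of Frobenius. -/
noncomputable def fixSub (j : ℕ) : Subfield F :=
  RingHom.eqLocusField (iterateFrobenius F p j) (RingHom.id F)

theorem mem_fixSub {j : ℕ} {x : F} : x ∈ fixSub F p j ↔ x ^ p ^ j = x := by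
  show iterateFrobenius F p j x = RingHom.id F x ↔ _
  rw [iterateFrobenius_def, RingHom.id_apply]

theorem card_fixSub_le {j : ℕ} (hj : 0 < j) : Nat.card (fixSub F p j) ≤ p ^ j := by
  cases nonempty_fintype F
  open Polynomial in
  have h1 : 1 < p ^ j := Nat.one_lt_pow (by omega) hp.out.one_lt
  have hdeg : (Polynomial.X ^ p ^ j - Polynomial.X : Polynomial F).natDegree = p ^ j :=
    FiniteField.X_pow_card_sub_X_natDegree_eq F h1
  have hne : (Polynomial.X ^ p ^ j - Polynomial.X : Polynomial F) ≠ 0 :=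
    FiniteField.X_pow_card_sub_X_ne_zero F h1
  have hsub : (fixSub F p j : Set F).toFinset ⊆
      (Polynomial.X ^ p ^ j - Polynomial.X : Polynomial F).roots.toFinset := by
    intro x hx
    rw [Set.mem_toFinset] at hx
    rw [Multiset.mem_toFinset, Polynomial.mem_roots hne]
    simp [sub_eq_zero, (mem_fixSub p).mp hx]
  have := (Finset.card_le_card hsub).trans ((Multiset.toFinset_card_le _).trans
    (Polynomial.card_roots' _))
  rw [hdeg, Set.toFinset_card, ← Nat.card_eq_fintype_card] at this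
  exact this

/-- Prime field elements lie in every subfield. -/
theorem natCast_mem_fixSub (j k : ℕ) : (k : F) ∈ fixSub F p j := natCast_mem _ k

theorem prime_dvd_card_subfield (R : Subfield F) : ∃ a, 0 < a ∧ Nat.card R = p ^ a := by
  have : CharP R p := (RingHom.charP_iff R.subtype R.subtype.injective p).mpr inferInstance
  exact PSL2Sylow.card_field_eq (F := R) p

/-- A subfield of order `p ^ a` lies in the fixed field of every multiple of `a`. -/
theorem le_fixSub {R : Subfield F} {a j : ℕ} (hR : Nat.card R = p ^ a) (haj : a ∣ j) :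
    R ≤ fixSub F p j := by
  intro x hx
  cases nonempty_fintype R
  obtain ⟨u, rfl⟩ := haj
  rw [mem_fixSub, pow_mul]
  have h := FiniteField.pow_card (⟨x, hx⟩ : R)
  rw [← Nat.card_eq_fintype_card, hR] at h
  have h' : x ^ p ^ a = x := congrArg Subtype.val h
  induction u with
  | zero => simp
  | succ u ih => rw [pow_succ, pow_mul, ih, h']

theorem card_fixSub {n j : ℕ} (hn : Nat.card F = p ^ n) (hj : 0 < j) (hjn : j ∣ n) :
    Nat.card (fixSub F p j) = p ^ j := by
  refine le_antisymm (card_fixSub_le p hj) ?_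
  obtain ⟨u, rfl⟩ := hjn
  have hK : Nat.card (GaloisField p j) = p ^ j := GaloisField.card p j (by omega)
  obtain ⟨f⟩ := DicksonSubfieldEmbed.exists_ringHom (F := F) (K := GaloisField p j) (m := u)
    (by rw [hK, ← pow_mul, hn])
  rw [← hK]
  have hmem : ∀ x, f x ∈ fixSub F p j := fun x => by
    cases nonempty_fintype (GaloisField p j)
    rw [mem_fixSub, ← map_pow, ← hK, Nat.card_eq_fintype_card, FiniteField.pow_card]
  exact Nat.card_le_card_of_injective (fun x => (⟨f x, hmem x⟩ : fixSub F p j))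
    fun a b h => f.injective (congrArg Subtype.val h)

/-! ### Traces -/

theorem sq_eq_neg_one_of_order_two (h2 : (2 : F) ≠ 0) {A : SL(2, F)} (h : orderOf (π A) = 2) :
    PSL2Elements.tr A = 0 ∧ A.1 * A.1 = -1 := by
  have hA : π (A * A) = 1 := by
    rw [map_mul, ← sq]
    exact (congrArg (π A ^ ·) h).symm.trans (pow_orderOf_eq_one _)
  rw [PSL2Proj52.π_eq_one] at hA
  have hne : π A ≠ 1 := fun e => by rw [e, orderOf_one] at h; omega
  have key : PSL2Elements.tr A = 0 := by
    by_contra ht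
    refine hne ((PSL2Proj52.π_eq_one A).mpr ((PSL2Elements.mem_center_iff A).mp ?_))
    have hM : ∃ e : F, A.1 = e • (1 : Matrix (Fin 2) (Fin 2) F) := by
      rcases hA with e | e <;> have e' := congrArg Subtype.val e <;>
        simp only [Matrix.SpecialLinearGroup.coe_mul, PSL2Elements.sq_eq,
          Matrix.SpecialLinearGroup.coe_neg, Matrix.SpecialLinearGroup.coe_one,
          sub_eq_iff_eq_add] at e'
      · exact ⟨(PSL2Elements.tr A)⁻¹ * 2, by
          rw [← smul_smul, two_smul, ← e', smul_smul, inv_mul_cancel₀ ht, one_smul]⟩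
      · exact ⟨0, by
          rw [neg_add_cancel] at e'
          rw [zero_smul]; exact (smul_eq_zero.mp e').resolve_left ht⟩
    obtain ⟨e, he⟩ := hM
    rw [Subgroup.mem_center_iff]
    intro g
    apply Subtype.ext
    show g.1 * A.1 = A.1 * g.1
    rw [he, mul_smul_comm, smul_mul_assoc, mul_one, one_mul]
  exact ⟨key, by rw [PSL2Elements.sq_eq, key, zero_smul, zero_sub]⟩

/-- `tr` of a lift of an element of order `n`, for `n ≤ 5`. -/
theorem trace_cases (h2 : (2 : F) ≠ 0) {A : SL(2, F)} :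
    (orderOf (π A) = 1 → PSL2Elements.tr A ^ 2 = 4) ∧
    (orderOf (π A) = 2 → PSL2Elements.tr A = 0) ∧
    (orderOf (π A) = 3 → PSL2Elements.tr A ^ 2 = 1) ∧
    (orderOf (π A) = 4 → PSL2Elements.tr A ^ 2 = 2) ∧
    (orderOf (π A) = 5 →
      (PSL2Elements.tr A ^ 2 + PSL2Elements.tr A - 1) * (PSL2Elements.tr A ^ 2 - PSL2Elements.tr A - 1) = 0) := by
  have hsc : ∀ a b : F, a ≠ 0 → a • A.1 = b • (1 : Matrix (Fin 2) (Fin 2) F) → π A = 1 := by
    intro a b ha h
    refine (PSL2Proj52.π_eq_one A).mpr ((PSL2Elements.mem_center_iff A).mp ?_)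
    have he : A.1 = (a⁻¹ * b) • (1 : Matrix (Fin 2) (Fin 2) F) := by
      rw [← smul_smul, ← h, smul_smul, inv_mul_cancel₀ ha, one_smul]
    rw [Subgroup.mem_center_iff]
    intro g
    apply Subtype.ext
    show g.1 * A.1 = A.1 * g.1
    rw [he, mul_smul_comm, smul_mul_assoc, mul_one, one_mul]
  have hpow : ∀ n, π A ^ n = 1 → ∃ e : F, (A ^ n).1 = e • (1 : Matrix (Fin 2) (Fin 2) F) := by
    intro n hn
    rw [← map_pow, PSL2Proj52.π_eq_one] at hn
    rcases hn with e | e <;> rw [e]
    · exact ⟨1, (one_smul F _).symm⟩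
    · exact ⟨-1, by simp⟩
  have hsq : A.1 * A.1 = PSL2Elements.tr A • A.1 - 1 := PSL2Elements.sq_eq A
  refine ⟨fun h => ?_, fun h => (sq_eq_neg_one_of_order_two h2 h).1, fun h => ?_, fun h => ?_,
    fun h => ?_⟩
  · rcases (PSL2Proj52.π_eq_one A).mp (orderOf_eq_one_iff.mp h) with e | e <;> rw [e]
    · rw [PSL2Elements.tr_one]; norm_num
    · rw [PSL2Elements.tr_neg, PSL2Elements.tr_one]; norm_num
  · by_contra hne
    obtain ⟨e, he⟩ := hpow 3 (h ▸ pow_orderOf_eq_one _)
    have h3 : (A ^ 3).1 = (PSL2Elements.tr A ^ 2 - 1) • A.1 - PSL2Elements.tr A • 1 := by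
      rw [pow_succ, sq, Matrix.SpecialLinearGroup.coe_mul, Matrix.SpecialLinearGroup.coe_mul, hsq,
        sub_mul, smul_mul_assoc, hsq, one_mul]
      module
    rw [h3, sub_eq_iff_eq_add, ← add_smul] at he
    have := hsc _ _ (sub_ne_zero.mpr hne) he
    rw [this, orderOf_one] at h; omega
  · have h22 : orderOf (π (A * A)) = 2 := by
      rw [map_mul, ← sq, orderOf_pow' _ two_ne_zero, h]; rfl
    have := (sq_eq_neg_one_of_order_two h2 h22).1
    simp only [PSL2Elements.tr, Matrix.SpecialLinearGroup.coe_mul, hsq, Matrix.sub_apply,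
      Matrix.smul_apply, Matrix.one_apply, smul_eq_mul] at this
    simp at this
    simp only [PSL2Elements.tr]
    linear_combination this
  · by_contra hne
    obtain ⟨e, he⟩ := hpow 5 (h ▸ pow_orderOf_eq_one _)
    set t := PSL2Elements.tr A
    have h5 : (A ^ 5).1 = (t ^ 4 - 3 * t ^ 2 + 1) • A.1 - (t ^ 3 - 2 * t) • 1 := by
      have h3 : A.1 * A.1 * A.1 = (t ^ 2 - 1) • A.1 - t • 1 := by
        rw [hsq, sub_mul, smul_mul_assoc, hsq, one_mul]
        module
      rw [show A ^ 5 = A * A * (A * A * A) by simp [pow_succ, mul_assoc]]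
      simp only [Matrix.SpecialLinearGroup.coe_mul]
      rw [h3, hsq]
      simp only [mul_sub, sub_mul, smul_mul_assoc, mul_smul_comm, one_mul, mul_one, hsq]
      module
    rw [h5, sub_eq_iff_eq_add, ← add_smul] at he
    have := hsc _ _ (fun h0 => hne (by linear_combination h0)) he
    rw [this, orderOf_one] at h; omega

/-! ### Rationality -/

/-- `[[0,1],[-1,0]]`. -/
def Imat (F : Type*) [Field F] : Matrix (Fin 2) (Fin 2) F := !![0, 1; -1, 0]

theorem exists_conj_standard (h2 : (2 : F) ≠ 0) {U V : SL(2, F)}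
    (hU : U.1 * U.1 = -1) (hV : V.1 * V.1 = -1) (hUV : U.1 * V.1 = -(V.1 * U.1)) {α β : F}
    (hab : α ^ 2 + β ^ 2 = -1) :
    ∃ P : GL (Fin 2) F, P.1 * U.1 = Imat F * P.1 ∧ P.1 * V.1 = !![α, β; β, -α] * P.1 := by
  have htrU : PSL2Elements.tr U = 0 := by
    have h := PSL2Elements.sq_eq U
    rw [hU] at h
    by_contra ht
    have h0 : PSL2Elements.tr U • U.1 = 0 := by simpa using h.symm
    rcases smul_eq_zero.mp h0 with h1 | h1
    · exact ht h1
    · rw [h1, zero_mul] at hU
      have := congrFun (congrFun hU 0) 0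
      simp at this
  let I0 : SL(2, F) := ⟨Imat F, by simp [Imat]⟩
  have htrI : PSL2Elements.tr I0 = 0 := by simp [I0, Imat, PSL2Elements.tr]
  obtain ⟨w, hw⟩ := isConj_iff.mp (PSL2Elements.isConj_of_tr_eq (A := U) (B := I0)
    (by rw [htrU, htrI]) (by
      rw [htrU]
      intro h
      exact mul_ne_zero h2 h2 (by linear_combination -h)))
  set V' : SL(2, F) := w * V * w⁻¹ with hV'
  have hwU' : w * U = I0 * w := mul_inv_eq_iff_eq_mul.mp hw
  have hwU : w.1 * U.1 = Imat F * w.1 := congrArg Subtype.val hwU'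
  have hwV' : w * V = V' * w := by rw [hV', inv_mul_cancel_right]
  have hwV : w.1 * V.1 = V'.1 * w.1 := congrArg Subtype.val hwV'
  have hinv : (w⁻¹).1 * w.1 = 1 := congrArg Subtype.val (inv_mul_cancel w)
  have hanti : Imat F * V'.1 = -(V'.1 * Imat F) := by
    have hww : w.1 * (w⁻¹).1 = 1 := congrArg Subtype.val (mul_inv_cancel w)
    have h'' : Imat F * V'.1 * w.1 = -(V'.1 * Imat F) * w.1 := by
      rw [mul_assoc, ← hwV, ← mul_assoc, ← hwU, mul_assoc, hUV, mul_neg, ← mul_assoc, hwV,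
        mul_assoc, hwU, neg_mul, mul_assoc]
    have := congrArg (· * (w⁻¹).1) h''
    simpa only [mul_assoc, hww, mul_one] using this
  obtain ⟨r, s, hV0, hrs⟩ : ∃ r s : F, V'.1 = !![r, s; s, -r] ∧ r ^ 2 + s ^ 2 = -1 := by
    have hd := PSL2Elements.det_eq V'
    rw [Matrix.eta_fin_two V'.1] at hanti ⊢
    simp [Imat, ← Matrix.ext_iff, Fin.forall_fin_two] at hanti
    obtain ⟨⟨e1, e2⟩, e3, e4⟩ := hanti
    refine ⟨V'.1 0 0, V'.1 0 1, ?_, ?_⟩
    · rw [show V'.1 1 0 = V'.1 0 1 by linear_combination e1,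
        show V'.1 1 1 = -V'.1 0 0 by linear_combination e2]
    · linear_combination (-1 : F) * hd + V'.1 0 0 * e2 - V'.1 0 1 * e1
  obtain ⟨Q, hQ, hQI, hQV⟩ : ∃ Q : Matrix (Fin 2) (Fin 2) F, Q.det ≠ 0 ∧
      Q * Imat F = Imat F * Q ∧ Q * V'.1 = !![α, β; β, -α] * Q := by
    by_cases hu : (1 - (α * r + β * s)) ^ 2 + (α * s - β * r) ^ 2 = 0
    · refine ⟨Imat F, by simp [Imat], rfl, ?_⟩
      have hu1 : α * r + β * s = 1 := by
        have : (2 : F) * (1 - (α * r + β * s)) = 0 := by
          linear_combination hu - (r ^ 2 + s ^ 2) * hab + hrs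
        exact (sub_eq_zero.mp ((mul_eq_zero.mp this).resolve_left h2)).symm
      rw [hu1] at hu
      have hv : α * s - β * r = 0 := by simpa using hu
      have er : r = -α := by linear_combination -α * hu1 + β * hv + r * hab
      have es : s = -β := by linear_combination -β * hu1 - α * hv + s * hab
      rw [hV0, er, es]
      ext i j
      fin_cases i <;> fin_cases j <;> simp [Imat]
    · refine ⟨!![1 - (α * r + β * s), -(α * s - β * r);
        α * s - β * r, 1 - (α * r + β * s)], ?_, ?_, ?_⟩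
      · rw [Matrix.det_fin_two_of]; intro h; exact hu (by linear_combination h)
      · ext i j
        fin_cases i <;> fin_cases j <;> simp [Imat]
      · rw [hV0]
        ext i j
        fin_cases i <;> fin_cases j <;> simp [Matrix.mul_apply, Fin.sum_univ_two]
        · linear_combination r * hab - α * hrs
        · linear_combination s * hab - β * hrs
        · linear_combination s * hab - β * hrs
        · linear_combination (-r) * hab + α * hrs
  refine ⟨GeneralLinearGroup.mkOfDetNeZero Q hQ * SpecialLinearGroup.toGL w, ?_, ?_⟩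
  · show Q * w.1 * U.1 = Imat F * (Q * w.1)
    rw [mul_assoc, hwU, ← mul_assoc, hQI, mul_assoc]
  · show Q * w.1 * V.1 = _ * (Q * w.1)
    rw [mul_assoc, hwV, ← mul_assoc, hQV, mul_assoc]

/-- All traces of lifts of `h` lie in `lam • R`. -/
def TrIn (R : Subfield F) (lam : F) (h : ProjectiveSpecialLinearGroup (Fin 2) F) : Prop :=
  ∀ C : SL(2, F), π C = h → lam⁻¹ * PSL2Elements.tr C ∈ R

/-- **Rationality.** -/
theorem exists_le_pull (h2 : (2 : F) ≠ 0) (R : Subfield F)
    {M : Subgroup (ProjectiveSpecialLinearGroup (Fin 2) F)}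
    {u v : ProjectiveSpecialLinearGroup (Fin 2) F} (hu : orderOf u = 2) (hv : orderOf v = 2)
    (hcomm : u * v = v * u) (hne : u ≠ v)
    (htr : ∀ g ∈ M, ∃ lam : F, lam ≠ 0 ∧ TrIn R lam g ∧ TrIn R lam (g * u) ∧
      TrIn R lam (g * v) ∧ TrIn R lam (g * u * v)) :
    ∃ c, M ≤ pull R c := by
  obtain ⟨U, rfl⟩ := PSL2Proj52.π_surjective u
  obtain ⟨V, rfl⟩ := PSL2Proj52.π_surjective v
  obtain ⟨htU, hU⟩ := sq_eq_neg_one_of_order_two h2 hu
  obtain ⟨htV, hV⟩ := sq_eq_neg_one_of_order_two h2 hv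
  have hUi : U⁻¹ = -U := inv_eq_of_mul_eq_one_right (Subtype.ext (by
    show U.1 * -U.1 = 1
    rw [mul_neg, hU, neg_neg]))
  have hVi : V⁻¹ = -V := inv_eq_of_mul_eq_one_right (Subtype.ext (by
    show V.1 * -V.1 = 1
    rw [mul_neg, hV, neg_neg]))
  have hUV : U.1 * V.1 = -(V.1 * U.1) := by
    rw [← map_mul, ← map_mul, PSL2Proj52.π_eq_iff] at hcomm
    rcases hcomm with e | e
    · exfalso
      have hsq : (U * V) * (U * V) = 1 := by
        apply Subtype.ext
        show U.1 * V.1 * (U.1 * V.1) = 1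
        have e' : U.1 * V.1 = V.1 * U.1 := congrArg Subtype.val e
        nth_rw 2 [e']
        rw [mul_assoc, ← mul_assoc V.1, hV, neg_one_mul, mul_neg, hU, neg_neg]
      rcases PSL2Elements.eq_one_or_neg_one_of_sq_eq_one h2 (by rw [sq]; exact hsq) with h | h <;>
        refine hne ?_
      · rw [eq_inv_of_mul_eq_one_left h, hVi, PSL2Proj52.π_neg]
      · rw [show U = -V⁻¹ from by rw [eq_mul_inv_of_mul_eq h, neg_one_mul], hVi, neg_neg]
    · exact congrArg Subtype.val e
  obtain ⟨p', hp'⟩ := CharP.exists F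
  have : NeZero p' := ⟨(CharP.char_is_prime F p').ne_zero⟩
  obtain ⟨α, β, hab, hα, hβ⟩ : ∃ α β : F, α ^ 2 + β ^ 2 = -1 ∧ α ∈ R ∧ β ∈ R := by
    have : CharP R p' := (RingHom.charP_iff R.subtype R.subtype.injective p').mpr hp'
    obtain ⟨a, b, h⟩ := CharP.sq_add_sq R p' (-1)
    refine ⟨(a : R), (b : R), ?_, Subtype.mem _, Subtype.mem _⟩
    have := congrArg R.subtype h
    simpa using this
  obtain ⟨P, hPU, hPV⟩ := exists_conj_standard h2 hU hV hUV hab
  refine ⟨mk P, fun g hg => ?_⟩
  obtain ⟨A, rfl⟩ := PSL2Proj52.π_surjective g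
  obtain ⟨lam, hlam, h0, h1, h2', h3⟩ := htr _ hg
  set X := P.1 * A.1 * (P⁻¹).1 with hX
  have hPP : (P⁻¹).1 * P.1 = 1 := by rw [← Units.val_mul, inv_mul_cancel, Units.val_one]
  have htrX : ∀ B C : Matrix (Fin 2) (Fin 2) F, P.1 * B = C * P.1 →
      Matrix.trace (X * C) = Matrix.trace (A.1 * B) := by
    intro B C h
    rw [hX, mul_assoc, mul_assoc, Matrix.trace_mul_comm, mul_assoc, mul_assoc, ← h,
      ← mul_assoc (P⁻¹).1, hPP, one_mul]
  have t0 := h0 A rfl
  have t1 := h1 (A * U) (map_mul _ _ _)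
  have t2 := h2' (A * V) (map_mul _ _ _)
  have t3 := h3 (A * U * V) (by rw [map_mul, map_mul])
  have e1 := htrX U.1 (Imat F) hPU
  have e2 := htrX V.1 _ hPV
  have e3 := htrX (U.1 * V.1) (Imat F * !![α, β; β, -α])
    (by rw [← mul_assoc, hPU, mul_assoc, hPV, mul_assoc])
  have e0 := htrX 1 1 (by rw [mul_one, one_mul])
  rw [mul_one, mul_one] at e0
  simp only [PSL2Elements.tr_eq, Matrix.SpecialLinearGroup.coe_mul, mul_assoc] at t0 t1 t2 t3
  rw [← e0] at t0
  rw [← e1] at t1
  rw [← e2] at t2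
  rw [← e3] at t3
  have hi : (2 : F)⁻¹ ∈ R := R.inv_mem (by exact_mod_cast natCast_mem R 2)
  have hentry : ∀ i j, lam⁻¹ * X i j ∈ R := by
    simp [Imat, Matrix.trace_fin_two, Matrix.mul_apply, Fin.sum_univ_two] at t0 t1 t2 t3
    have hd : lam⁻¹ * (X 0 0 - X 1 1) ∈ R := by
      have := R.neg_mem (R.add_mem (R.mul_mem hα t2) (R.mul_mem hβ t3))
      convert this using 1
      linear_combination lam⁻¹ * (X 0 0 - X 1 1) * hab
    have hs : lam⁻¹ * (X 0 1 + X 1 0) ∈ R := by
      have := R.neg_mem (R.sub_mem (R.mul_mem hβ t2) (R.mul_mem hα t3))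
      convert this using 1
      linear_combination lam⁻¹ * (X 0 1 + X 1 0) * hab
    intro i j
    fin_cases i <;> fin_cases j
    · convert R.mul_mem hi (R.add_mem t0 hd) using 1
      simp; field_simp; ring
    · convert R.mul_mem hi (R.sub_mem hs t1) using 1
      simp; field_simp; ring
    · convert R.mul_mem hi (R.add_mem hs t1) using 1
      simp; field_simp; ring
    · convert R.mul_mem hi (R.sub_mem t0 hd) using 1
      simp; field_simp; ring
  rw [mem_pull]
  let Y : Matrix (Fin 2) (Fin 2) R := fun i j => ⟨lam⁻¹ * X i j, hentry i j⟩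
  have hY : Y.map R.subtype = lam⁻¹ • X := by ext i j; rfl
  have hYd : Y.det ≠ 0 := by
    intro h
    have := congrArg R.subtype h
    rw [RingHom.map_det, RingHom.mapMatrix_apply, hY, map_zero, Matrix.det_smul] at this
    rcases mul_eq_zero.mp this with h' | h'
    · exact inv_ne_zero hlam (pow_eq_zero_iff (by simp) |>.mp h')
    · rw [hX, Matrix.det_mul, Matrix.det_mul, A.2, mul_one, ← Matrix.det_mul, ← Units.val_mul,
        mul_inv_cancel, Units.val_one, Matrix.det_one] at h'
      exact one_ne_zero h'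
  refine ⟨mk (GeneralLinearGroup.mkOfDetNeZero Y hYd), ?_⟩
  rw [Matrix.ProjGenLinGroup.map_mk]
  show _ = mk P * mk (SpecialLinearGroup.toGL A) * (mk P)⁻¹
  rw [← map_inv, ← map_mul, ← map_mul, mk_eq_mk_iff]
  refine ⟨Units.mk0 lam hlam, Units.ext ?_⟩
  show Y.map R.subtype * Matrix.diagonal (fun _ => lam) = X
  rw [hY, ← smul_one_eq_diagonal, mul_smul_comm, mul_one, smul_smul, mul_inv_cancel₀ hlam,
    one_smul]

end Cfsg.Agent.DicksonRational
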