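import Mathlib

/-!
Elements of `p`-power order in linear groups over fields of characteristic `p` are the unipotent ones.
-/

set_option autoImplicit false

namespace Cfsg.Agent.UnipotentGL

open Polynomial

variable {ι : Type*} [Fintype ι] [DecidableEq ι] {F : Type*} [Field F]

/-- A nilpotent matrix vanishes at the power of its size. -/
theorem pow_card_eq_zero {N : Matrix ι ι F} (h : IsNilpotent N) :
    N ^ Fintype.card ι = 0 := by
  have h1 := Matrix.isNilpotent_charpoly_sub_pow_of_isNilpotent h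
  have h2 : N.charpoly = X ^ Fintype.card ι := sub_eq_zero.1 h1.eq_zero
  simpa [h2] using Matrix.aeval_self_charpoly N

variable [Nonempty ι] (p : ℕ) [hp : Fact p.Prime] [CharP F p]

theorem pow_eq_one_iff (g : GL ι F) (k : ℕ) :
    g ^ p ^ k = 1 ↔ ((g : Matrix ι ι F) - 1) ^ p ^ k = 0 := by
  rw [sub_pow_char_pow_of_commute p k (Commute.one_right _), one_pow, sub_eq_zero,
    ← Units.val_pow_eq_pow_val, Units.val_eq_one]

/-- `p`-power order means unipotent. -/
theorem pPow_order_iff (g : GL ι F) :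
    (∃ k, orderOf g = p ^ k) ↔ IsNilpotent ((g : Matrix ι ι F) - 1) := by
  constructor
  · rintro ⟨k, hk⟩
    exact ⟨p ^ k, (pow_eq_one_iff p g k).1 (by rw [← hk, pow_orderOf_eq_one])⟩
  · intro h
    have hle : Fintype.card ι ≤ p ^ Fintype.card ι := (Nat.lt_pow_self hp.out.one_lt).le
    have h2 : g ^ p ^ Fintype.card ι = 1 :=
      (pow_eq_one_iff p g _).2 (pow_eq_zero_of_le hle (pow_card_eq_zero h))
    obtain ⟨j, -, hj⟩ := (Nat.dvd_prime_pow hp.out).1 (orderOf_dvd_of_pow_eq_one h2)
    exact ⟨j, hj⟩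

/-- An element of order `p` is a nontrivial unipotent element with `(g-1)^p = 0`. -/
theorem of_orderOf_eq_prime (g : GL ι F) (h : orderOf g = p) :
    IsNilpotent ((g : Matrix ι ι F) - 1) ∧ (g : Matrix ι ι F) - 1 ≠ 0 := by
  refine ⟨(pPow_order_iff p g).1 ⟨1, by rw [h, pow_one]⟩, fun h0 => ?_⟩
  have hg : g = 1 := Units.val_eq_one.1 (sub_eq_zero.1 h0)
  rw [hg, orderOf_one] at h
  exact hp.out.one_lt.ne h

end Cfsg.Agent.UnipotentGL
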