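import Cfsg.Agent.Lib.PSL2Elements
import Cfsg.Agent.Lib.UnipotentGL

/-!
Conjugacy classes of `SL(2, F)`.
-/

set_option autoImplicit false

namespace Cfsg.Agent.SL2Classes

open Matrix Cfsg.Agent.PSL2Elements
open scoped MatrixGroups

variable {F : Type*} [Field F]

theorem isConj_neg_iff {A B : SL(2, F)} : IsConj (-A) (-B) ↔ IsConj A B := by
  simp only [isConj_iff, mul_neg, neg_mul, neg_inj]

theorem isConj_u_iff {x y : F} (hx : x ≠ 0) :
    IsConj (u x) (u y) ↔ ∃ a : Fˣ, y = (a : F) ^ 2 * x := by
  constructor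
  · intro h
    obtain ⟨g, hg⟩ := isConj_iff.1 h
    rw [mul_inv_eq_iff_eq_mul] at hg
    have h10 := congrArg (fun C : SL(2, F) => C.1 1 1) hg
    have h01 := congrArg (fun C : SL(2, F) => C.1 0 1) hg
    simp [u, mul_apply2] at h10 h01
    have hc : g.1 1 0 = 0 := by tauto
    have hd := det_eq g
    rw [hc, mul_zero, sub_zero] at hd
    refine ⟨Units.mk0 (g.1 0 0) (left_ne_zero_of_mul_eq_one hd), ?_⟩
    rw [Units.val_mk0]
    linear_combination (-g.1 0 0) * h01 + (-y) * hd
  · rintro ⟨a, rfl⟩
    exact u_conj_square a x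

theorem isConj_u_iff_isSquare {x y : F} (hx : x ≠ 0) (hy : y ≠ 0) :
    IsConj (u x) (u y) ↔ IsSquare (x * y) := by
  rw [isConj_u_iff hx]
  constructor
  · rintro ⟨a, rfl⟩; exact ⟨a * x, by ring⟩
  · rintro ⟨s, hs⟩
    have hs0 : s ≠ 0 := by rintro rfl; exact mul_ne_zero hx hy (by simpa using hs)
    refine ⟨Units.mk0 (s / x) (div_ne_zero hs0 hx), ?_⟩
    rw [Units.val_mk0]
    field_simp
    linear_combination hs

theorem u_ne_one {x : F} (hx : x ≠ 0) : u x ≠ 1 := fun h => hx (u_injective (h.trans u_zero.symm))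

theorem neg_one_ne_one (h2 : (2 : F) ≠ 0) : (-1 : SL(2, F)) ≠ 1 := fun h => by
  have := congrArg (fun C : SL(2, F) => C.1 0 0) h
  simp at this
  exact h2 (by linear_combination -this)

theorem isConj_one_iff {A : SL(2, F)} : IsConj 1 A ↔ A = 1 :=
  ⟨fun h => (isConj_one_right.1 h), fun h => h ▸ IsConj.refl _⟩

theorem eq_one_of_isConj {A : SL(2, F)} (h : IsConj A 1) : A = 1 := isConj_one_iff.1 h.symm

/-- An element of trace two other than the identity is conjugate to some `u x`, `x ≠ 0`. -/
theorem exists_u_of_tr_two {A : SL(2, F)} (h : tr A = 2) (h1 : A ≠ 1) :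
    ∃ x : F, x ≠ 0 ∧ IsConj A (u x) := by
  obtain ⟨x, hx⟩ := isConj_u_of_tr_two h
  refine ⟨x, ?_, hx⟩
  rintro rfl
  rw [u_zero] at hx
  exact h1 (eq_one_of_isConj hx)

/-- Elements of order `p` are the nontrivial elements of trace two. -/
theorem orderOf_eq_char_iff (p : ℕ) [Fact p.Prime] [CharP F p] (A : SL(2, F)) :
    orderOf A = p ↔ tr A = 2 ∧ A ≠ 1 := by
  constructor
  · intro h
    refine ⟨?_, fun h1 => ?_⟩
    · have h' : orderOf (Matrix.SpecialLinearGroup.toGL A) = p := by
        rw [orderOf_injective _ Matrix.SpecialLinearGroup.toGL_injective, h]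
      have := (Matrix.isNilpotent_trace_of_isNilpotent
        (UnipotentGL.of_orderOf_eq_prime p _ h').1).eq_zero
      rw [Matrix.trace_sub, Matrix.trace_one, Fintype.card_fin] at this
      rw [tr_eq]
      exact sub_eq_zero.1 (by simpa using this)
    · rw [h1, orderOf_one] at h
      exact (Fact.out : p.Prime).one_lt.ne h
  · rintro ⟨h, h1⟩
    exact orderOf_eq_prime (pow_char p h) h1

section Finite

variable [Finite F]

theorem card_centralizer_u_two {x : F} (hx : x ≠ 0) (h2 : (2 : F) = 0) :
    Nat.card (Subgroup.centralizer ({u x} : Set SL(2, F))) = Nat.card F := by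
  have : CharP F 2 := CharTwo.of_one_ne_zero_of_two_eq_zero one_ne_zero h2
  refine (Nat.card_congr (Equiv.ofBijective
    (fun y : F => (⟨u y, (mem_centralizer_u hx _).2 ⟨y, Or.inl rfl⟩⟩ :
      Subgroup.centralizer ({u x} : Set SL(2, F)))) ⟨fun a b h => ?_, fun B => ?_⟩)).symm
  · exact u_injective (congrArg Subtype.val h)
  · obtain ⟨y, hy | hy⟩ := (mem_centralizer_u hx _).1 B.2
    · exact ⟨y, Subtype.ext hy.symm⟩
    · refine ⟨y, Subtype.ext ?_⟩
      rw [hy]
      apply ext2 <;> simp [coe_neg', CharTwo.neg_eq]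
theorem card_centralizer_u_odd {x : F} (hx : x ≠ 0) (h2 : (2 : F) ≠ 0) :
    Nat.card (Subgroup.centralizer ({u x} : Set SL(2, F))) = 2 * Nat.card F := by
  suffices h' : Nat.card (Subgroup.centralizer ({u x} : Set SL(2, F))) = Nat.card (Fin 2 × F) by
    rw [h', Nat.card_prod, Nat.card_fin]
  refine (Nat.card_congr (Equiv.ofBijective
    (fun z : Fin 2 × F => (⟨if z.1 = 0 then u z.2 else -u z.2,
      (mem_centralizer_u hx _).2 ⟨z.2, by
        by_cases h : z.1 = 0
        · exact Or.inl (if_pos h)
        · exact Or.inr (if_neg h)⟩⟩ :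
      Subgroup.centralizer ({u x} : Set SL(2, F)))) ⟨fun a b h => ?_, fun B => ?_⟩)).symm
  · obtain ⟨i, a⟩ := a
    obtain ⟨j, b⟩ := b
    have h' := congrArg Subtype.val h
    dsimp only at h'
    have hne : ∀ a b : F, u a ≠ -u b := fun a b e => by
      have := congrArg (fun C : SL(2, F) => C.1 0 0) e
      simp [u, coe_neg'] at this
      exact h2 (by linear_combination this)
    fin_cases i <;> fin_cases j <;> simp at h' ⊢
    · exact u_injective h'
    · exact (hne a b h').elim
    · exact (hne b a h'.symm).elim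
    · exact u_injective h'
  · obtain ⟨y, hy | hy⟩ := (mem_centralizer_u hx _).1 B.2
    · exact ⟨(0, y), Subtype.ext (by simp [hy])⟩
    · exact ⟨(1, y), Subtype.ext (by simp [hy])⟩

/-- Class length times centraliser order. -/
theorem card_carrier_mul {G : Type*} [Group G] [Finite G] (g : G) :
    Nat.card (ConjClasses.mk g).carrier * Nat.card (Subgroup.centralizer ({g} : Set G)) =
      Nat.card G := by
  rw [← ConjAct.orbit_eq_carrier_conjClasses, Nat.card_coe_set_eq, ← MulAction.index_stabilizer,
    ConjAct.stabilizer_eq_centralizer]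
  exact Subgroup.index_mul_card (G := G) (Subgroup.centralizer ({g} : Set G))

theorem card_class_u_odd {x : F} (hx : x ≠ 0) (h2 : (2 : F) ≠ 0) :
    2 * Nat.card (ConjClasses.mk (u x)).carrier = Nat.card F ^ 2 - 1 := by
  have h := card_carrier_mul (u x)
  rw [card_centralizer_u_odd hx h2, PSLCard.card_SL2] at h
  refine Nat.eq_of_mul_eq_mul_left (Nat.card_pos : 0 < Nat.card F) ?_
  rw [← h]; ring

theorem card_class_u_two {x : F} (hx : x ≠ 0) (h2 : (2 : F) = 0) :
    Nat.card (ConjClasses.mk (u x)).carrier = Nat.card F ^ 2 - 1 := by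
  have h := card_carrier_mul (u x)
  rw [card_centralizer_u_two hx h2, PSLCard.card_SL2] at h
  refine Nat.eq_of_mul_eq_mul_left (Nat.card_pos : 0 < Nat.card F) ?_
  rw [← h]; ring

/-- Odd characteristic: every nonzero element is a square or a fixed non-square times a square. -/
theorem isConj_u_one_or {ν : F} (hν : ¬ IsSquare ν) {x : F} (hx : x ≠ 0) :
    IsConj (u x) (u 1) ∨ IsConj (u x) (u ν) := by
  have := Fintype.ofFinite F
  have hν0 : ν ≠ 0 := fun h => hν (h ▸ IsSquare.zero)
  rw [isConj_u_iff_isSquare hx one_ne_zero, isConj_u_iff_isSquare hx hν0, mul_one]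
  by_cases h : IsSquare x
  · exact Or.inl h
  · right
    have h2 : ringChar F ≠ 2 := fun hc => hν (FiniteField.isSquare_of_char_two hc ν)
    have e1 := FiniteField.pow_dichotomy h2 (mul_ne_zero hx hν0)
    rw [FiniteField.isSquare_iff h2 hν0] at hν
    rw [FiniteField.isSquare_iff h2 hx] at h
    rw [FiniteField.isSquare_iff h2 (mul_ne_zero hx hν0), mul_pow,
      (FiniteField.pow_dichotomy h2 hx).resolve_left h,
      (FiniteField.pow_dichotomy h2 hν0).resolve_left hν]
    simp

theorem two_ne_zero_of_odd [Fintype F] (h : Odd (Fintype.card F)) :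
    (2 : F) ≠ 0 ∧ ∃ ν : F, ¬ IsSquare ν := by
  have h2 : (2 : F) ≠ 0 := fun e => by
    have : CharP F 2 := CharTwo.of_one_ne_zero_of_two_eq_zero one_ne_zero e
    have := FiniteField.even_card_of_char_two (ringChar.eq F 2)
    rw [Nat.odd_iff] at h
    omega
  refine ⟨h2, FiniteField.exists_nonsquare fun hc => h2 ?_⟩
  have : CharP F 2 := ringChar.of_eq hc
  exact CharTwo.two_eq_zero

/-- Representatives in odd characteristic. -/
def repOdd (ν : F) : {t : F // t ^ 2 ≠ 4} ⊕ (Fin 2 × Fin 3) → SL(2, F)
  | Sum.inl t => comp t.1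
  | Sum.inr (s, k) =>
    (if s = 0 then (fun A => A) else (fun A => -A)) (![1, u 1, u ν] k)

theorem repOdd_bijective (h2 : (2 : F) ≠ 0) {ν : F} (hν : ¬ IsSquare ν) :
    Function.Bijective (fun z => ConjClasses.mk (repOdd ν z)) := by
  have hν0 : ν ≠ 0 := fun h => hν (h ▸ IsSquare.zero)
  have htr : ∀ k : Fin 3, tr (![1, u 1, u ν] k : SL(2, F)) = 2 := fun k => by
    fin_cases k <;> simp [tr_one]
  constructor
  · intro a b h
    have hc := ConjClasses.mk_eq_mk_iff_isConj.1 h
    have ht := tr_eq_of_isConj hc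
    have h4 : ∀ s k, tr (repOdd ν (Sum.inr (s, k))) ^ 2 = 4 := fun s k => by
      simp only [repOdd]
      split_ifs
      · rw [htr]; norm_num
      · rw [tr_neg, htr]; norm_num
    rcases a with t | ⟨s, k⟩ <;> rcases b with t' | ⟨s', k'⟩
    · simp only [repOdd, tr_comp] at ht
      exact congrArg Sum.inl (Subtype.ext ht)
    · refine absurd ?_ t.2
      have := h4 s' k'; rw [← ht] at this; simpa [repOdd] using this
    · refine absurd ?_ t'.2
      have := h4 s k; rw [ht] at this; simpa [repOdd] using this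
    · have hs : s = s' := by
        by_contra hne
        have key : ∀ k k' : Fin 3, tr (![1, u 1, u ν] k : SL(2, F)) ≠
            tr (-(![1, u 1, u ν] k') : SL(2, F)) := fun k k' e => by
          rw [tr_neg, htr, htr] at e
          exact mul_ne_zero h2 h2 (by linear_combination e)
        fin_cases s <;> fin_cases s' <;> first | exact hne rfl | skip
        · exact key k k' (by simpa [repOdd] using ht)
        · exact key k' k (by have := ht.symm; simpa [repOdd] using this)
      subst hs
      have hc' : IsConj (![1, u 1, u ν] k : SL(2, F)) (![1, u 1, u ν] k') := by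
        fin_cases s
        · simpa [repOdd] using hc
        · exact isConj_neg_iff.1 (by simpa [repOdd] using hc)
      have n1 : ¬ IsConj (1 : SL(2, F)) (u 1) := fun e => u_ne_one one_ne_zero (isConj_one_iff.1 e)
      have n2 : ¬ IsConj (1 : SL(2, F)) (u ν) := fun e => u_ne_one hν0 (isConj_one_iff.1 e)
      have n3 : ¬ IsConj (u (1 : F)) (u ν) := fun e =>
        hν (by simpa using (isConj_u_iff_isSquare one_ne_zero hν0).1 e)
      fin_cases k <;> fin_cases k' <;> first | rfl | skip
      all_goals exfalso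
      all_goals simp [-isConj_iff] at hc'
      all_goals first
        | exact n1 hc' | exact n2 hc' | exact n3 hc'
        | exact n1 hc'.symm | exact n2 hc'.symm | exact n3 hc'.symm
        | exact n1 (hc' ▸ IsConj.refl _) | exact n2 (hc' ▸ IsConj.refl _)
        | exact u_ne_one one_ne_zero hc' | exact u_ne_one hν0 hc'
        | exact u_ne_one one_ne_zero hc'.symm | exact u_ne_one hν0 hc'.symm
  · intro C
    obtain ⟨A, rfl⟩ := ConjClasses.mk_surjective C
    have key : ∀ B : SL(2, F), tr B = 2 → ∃ k : Fin 3, IsConj (![1, u 1, u ν] k) B := fun B hB => by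
      by_cases h1 : B = 1
      · exact ⟨0, by rw [h1]; exact IsConj.refl _⟩
      obtain ⟨x, hx, hc⟩ := exists_u_of_tr_two hB h1
      rcases isConj_u_one_or hν hx with e | e
      · exact ⟨1, (hc.trans e).symm⟩
      · exact ⟨2, (hc.trans e).symm⟩
    by_cases h4 : tr A ^ 2 = 4
    · have : (tr A - 2) * (tr A + 2) = 0 := by linear_combination h4
      rcases mul_eq_zero.1 this with e | e
      · obtain ⟨k, hk⟩ := key A (sub_eq_zero.1 e)
        exact ⟨Sum.inr (0, k), ConjClasses.mk_eq_mk_iff_isConj.2 (by simpa [repOdd] using hk)⟩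
      · obtain ⟨k, hk⟩ := key (-A) (by rw [tr_neg]; linear_combination -e)
        refine ⟨Sum.inr (1, k), ConjClasses.mk_eq_mk_iff_isConj.2 ?_⟩
        have := isConj_neg_iff.2 hk
        rw [neg_neg] at this
        simpa [repOdd] using this
    · exact ⟨Sum.inl ⟨tr A, h4⟩, ConjClasses.mk_eq_mk_iff_isConj.2 (isConj_comp h4).symm⟩

/-- Representatives in characteristic two. -/
def repEven : {t : F // t ≠ 0} ⊕ Fin 2 → SL(2, F)
  | Sum.inl t => comp t.1
  | Sum.inr k => ![1, u 1] k

theorem repEven_bijective [CharP F 2] :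
    Function.Bijective (fun z => ConjClasses.mk (repEven (F := F) z)) := by
  have h20 : (2 : F) = 0 := CharTwo.two_eq_zero
  have h4 : ∀ t : F, t ≠ 0 → t ^ 2 ≠ 4 := fun t ht e => ht (pow_eq_zero_iff two_ne_zero |>.1
    (by rw [e, show (4 : F) = 2 * 2 by norm_num, h20, zero_mul]))
  have htr : ∀ k : Fin 2, tr (repEven (F := F) (Sum.inr k)) = 0 := fun k => by
    fin_cases k <;> simp [repEven, tr_one, h20]
  constructor
  · intro a b h
    have hc := ConjClasses.mk_eq_mk_iff_isConj.1 h
    have ht := tr_eq_of_isConj hc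
    rcases a with t | k <;> rcases b with t' | k'
    · simp only [repEven, tr_comp] at ht
      exact congrArg Sum.inl (Subtype.ext ht)
    · rw [htr] at ht; simp only [repEven, tr_comp] at ht; exact absurd ht t.2
    · rw [htr] at ht; simp only [repEven, tr_comp] at ht; exact absurd ht.symm t'.2
    · fin_cases k <;> fin_cases k' <;> first | rfl | skip
      all_goals exfalso
      all_goals simp [repEven] at hc
      all_goals first
        | exact u_ne_one one_ne_zero hc | exact u_ne_one one_ne_zero hc.symm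
        | exact u_ne_one one_ne_zero (isConj_one_iff.1 hc)
        | exact u_ne_one one_ne_zero (eq_one_of_isConj hc)
  · intro C
    obtain ⟨A, rfl⟩ := ConjClasses.mk_surjective C
    by_cases ht : tr A = 0
    · by_cases h1 : A = 1
      · exact ⟨Sum.inr 0, by rw [h1]; simp [repEven]⟩
      obtain ⟨x, hx, hc⟩ := exists_u_of_tr_two (ht.trans h20.symm) h1
      refine ⟨Sum.inr 1, ConjClasses.mk_eq_mk_iff_isConj.2 (hc.trans ?_).symm⟩
      show IsConj (u x) (u 1)
      rw [isConj_u_iff_isSquare hx one_ne_zero, mul_one]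
      exact FiniteField.isSquare_of_char_two (ringChar.eq F 2) x
    · exact ⟨Sum.inl ⟨tr A, ht⟩,
        ConjClasses.mk_eq_mk_iff_isConj.2 (isConj_comp (h4 _ ht)).symm⟩

end Finite

end Cfsg.Agent.SL2Classes
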