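import Cfsg.Agent.Lib.PSL2Sylow

/-!
Tori of `SL(2, F)`, `F` finite of odd order, and their normalisers.
-/

set_option autoImplicit false

namespace Cfsg.Agent.SL2Torus

open Matrix Cfsg.Agent.PSL2Elements
open scoped MatrixGroups

variable {F : Type*} [Field F] [Finite F]

/-- The centraliser of an element, a torus when its trace is not `±2`. -/
abbrev tor (A : SL(2, F)) : Subgroup SL(2, F) := Subgroup.centralizer ({A} : Set SL(2, F))

omit [Finite F] in
theorem self_mem (A : SL(2, F)) : A ∈ tor A := Subgroup.mem_centralizer_singleton_iff.2 rfl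

omit [Finite F] in
theorem not_center {A : SL(2, F)} (h : tr A ^ 2 ≠ 4) : A ∉ Subgroup.center SL(2, F) := fun hc =>
  h (tr_sq_eq_four_of_mem_center hc)

theorem tor_comm {A : SL(2, F)} (h : tr A ^ 2 ≠ 4) {a b : SL(2, F)} (ha : a ∈ tor A)
    (hb : b ∈ tor A) : a * b = b * a := by
  have := (centralizer_semisimple h).1.isMulCommutative
  exact congrArg Subtype.val (mul_comm' (⟨a, ha⟩ : tor A) ⟨b, hb⟩)

omit [Finite F] in
/-- Coordinates of an element of a torus. -/
theorem coords {A : SL(2, F)} (h : tr A ^ 2 ≠ 4) {a : SL(2, F)} (ha : a ∈ tor A) :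
    ∃ x y : F, a.1 = x • (1 : Matrix (Fin 2) (Fin 2) F) + y • A.1 ∧
      x ^ 2 + tr A * x * y + y ^ 2 = 1 ∧ tr a = 2 * x + tr A * y := by
  have hc : a * A = A * a := Subgroup.mem_centralizer_singleton_iff.1 ha
  obtain ⟨x, y, hxy⟩ := exists_eq_of_commute (not_center h) (congrArg Subtype.val hc)
  refine ⟨x, y, hxy, ?_, ?_⟩
  · have hd := det_eq a
    rw [hxy] at hd
    simp at hd
    rw [tr]
    linear_combination hd - y ^ 2 * det_eq A
  · rw [tr, hxy]
    simp [tr]
    ring

omit [Finite F] in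
/-- A noncentral element of a torus has trace different from `±2`. -/
theorem tr_sq_ne_of_mem {A : SL(2, F)} (h : tr A ^ 2 ≠ 4) {a : SL(2, F)} (ha : a ∈ tor A)
    (hn : a ∉ Subgroup.center SL(2, F)) : tr a ^ 2 ≠ 4 := by
  obtain ⟨x, y, hxy, hd, ht⟩ := coords h ha
  intro h4
  have hy : y ^ 2 * (tr A ^ 2 - 4) = 0 := by
    rw [ht] at h4
    linear_combination h4 - 4 * hd
  have hy0 : y = 0 := by
    rcases mul_eq_zero.1 hy with e | e
    · exact (pow_eq_zero_iff two_ne_zero).1 e
    · exact absurd (sub_eq_zero.1 e) h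
  refine hn ((mem_center_iff_entries a).2 ?_)
  simp [hxy, hy0]

/-- The centraliser of a noncentral element of a torus is the torus. -/
theorem tor_eq_of_mem {A : SL(2, F)} (h : tr A ^ 2 ≠ 4) {a : SL(2, F)} (ha : a ∈ tor A)
    (hn : a ∉ Subgroup.center SL(2, F)) : tor a = tor A := by
  have h' := tr_sq_ne_of_mem h ha hn
  refine le_antisymm (fun g hg => ?_) (fun g hg => ?_)
  · have hA : A ∈ tor a := Subgroup.mem_centralizer_singleton_iff.2
      (Subgroup.mem_centralizer_singleton_iff.1 ha).symm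
    exact Subgroup.mem_centralizer_singleton_iff.2 (tor_comm h' hg hA)
  · exact Subgroup.mem_centralizer_singleton_iff.2 (tor_comm h hg ha)

theorem centralizer_tor {A : SL(2, F)} (h : tr A ^ 2 ≠ 4) :
    Subgroup.centralizer ((tor A : Subgroup SL(2, F)) : Set SL(2, F)) = tor A :=
  le_antisymm (fun g hg => Subgroup.mem_centralizer_singleton_iff.2
      ((Subgroup.mem_centralizer_iff.1 hg A (self_mem A)).symm))
    fun g hg => Subgroup.mem_centralizer_iff.2 fun b hb => tor_comm h hb hg

/-- An element inverting a torus. -/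
theorem exists_inverter {A : SL(2, F)} (h : tr A ^ 2 ≠ 4) :
    ∃ n : SL(2, F), ∀ a ∈ tor A, n * a * n⁻¹ = a⁻¹ := by
  obtain ⟨n, hn⟩ := isConj_iff.1 (isConj_inv h)
  refine ⟨n, fun a ha => ?_⟩
  obtain ⟨x, y, hxy, -, -⟩ := coords h ha
  have hnA' : n * A = A⁻¹ * n := mul_inv_eq_iff_eq_mul.1 hn
  have hnA : n.1 * A.1 = (A⁻¹).1 * n.1 := congrArg Subtype.val hnA'
  have hinv : (a⁻¹).1 = x • (1 : Matrix (Fin 2) (Fin 2) F) + y • (A⁻¹).1 := by
    ext i j
    fin_cases i <;> fin_cases j <;>
      simp [hxy, SpecialLinearGroup.coe_inv, Matrix.adjugate_fin_two]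
  rw [mul_inv_eq_iff_eq_mul]
  refine Subtype.ext ?_
  rw [coe_mul', coe_mul', hxy, hinv, mul_add, add_mul, mul_smul_comm, mul_smul_comm, hnA,
    smul_mul_assoc, smul_mul_assoc, one_mul, mul_one]

omit [Finite F] in
theorem inverter_notMem (h2 : (2 : F) ≠ 0) {A n : SL(2, F)} (h : tr A ^ 2 ≠ 4)
    (hn : ∀ a ∈ tor A, n * a * n⁻¹ = a⁻¹) : n ∉ tor A := fun hmem => by
  have h1 := hn A (self_mem A)
  rw [Subgroup.mem_centralizer_singleton_iff.1 hmem, mul_inv_cancel_right] at h1
  refine not_center h ((mem_center_iff A).2 (eq_one_or_neg_one_of_sq_eq_one h2 ?_))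
  rw [sq]
  nth_rw 2 [h1]
  exact mul_inv_cancel A

/-- An element conjugating `A` into its torus fixes or inverts it. -/
theorem mem_or_mem (h2 : (2 : F) ≠ 0) {A n g : SL(2, F)} (h : tr A ^ 2 ≠ 4)
    (hn : ∀ a ∈ tor A, n * a * n⁻¹ = a⁻¹) (hg : g * A * g⁻¹ ∈ tor A) :
    g ∈ tor A ∨ g * n⁻¹ ∈ tor A := by
  obtain ⟨x, y, hxy, hd, ht⟩ := coords h hg
  rw [tr_conj] at ht
  have hy : (y - 1) * (y + 1) * (tr A ^ 2 - 4) = 0 := by
    linear_combination (-4 : F) * hd - (2 * x + tr A * y + tr A) * ht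
  rcases mul_eq_zero.1 ((mul_eq_zero.1 hy).resolve_right (sub_ne_zero.2 h)) with e | e
  · have hy1 := sub_eq_zero.1 e
    subst hy1
    have hx : x = 0 := (mul_eq_zero.1 (show 2 * x = 0 by linear_combination -ht)).resolve_left h2
    refine Or.inl (Subgroup.mem_centralizer_singleton_iff.2 ?_)
    rw [← mul_inv_eq_iff_eq_mul]
    refine Subtype.ext ?_
    rw [hxy, hx]; simp
  · have hy1 := eq_neg_of_add_eq_zero_left e
    subst hy1
    have hx : x = tr A := sub_eq_zero.1
      ((mul_eq_zero.1 (show 2 * (x - tr A) = 0 by linear_combination -ht)).resolve_left h2)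
    exact Or.inr (final hn hxy hx)
where
  final {A n g : SL(2, F)} {x : F} (hn : ∀ a ∈ tor A, n * a * n⁻¹ = a⁻¹)
      (hxy : (g * A * g⁻¹).1 = x • (1 : Matrix (Fin 2) (Fin 2) F) + (-1 : F) • A.1)
      (hx : x = tr A) : g * n⁻¹ ∈ tor A := by
    have hgA : g * A * g⁻¹ = A⁻¹ := by
      refine Subtype.ext ?_
      rw [hxy, hx]
      ext i j
      fin_cases i <;> fin_cases j <;>
        simp [SpecialLinearGroup.coe_inv, Matrix.adjugate_fin_two, tr]
    have hnA := hn A (self_mem A)
    have h1 : n⁻¹ * A * n = A⁻¹ := by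
      have := congrArg Inv.inv hnA
      rw [inv_inv] at this
      conv_lhs => rw [← this]
      group
    rw [Subgroup.mem_centralizer_singleton_iff, ← mul_inv_eq_iff_eq_mul]
    calc g * n⁻¹ * A * (g * n⁻¹)⁻¹ = g * (n⁻¹ * A * n) * g⁻¹ := by group
      _ = (g * A * g⁻¹)⁻¹ := by rw [h1]; group
      _ = A := by rw [hgA, inv_inv]

theorem mem_normalizer_iff_or (h2 : (2 : F) ≠ 0) {A n g : SL(2, F)} (h : tr A ^ 2 ≠ 4)
    (hn : ∀ a ∈ tor A, n * a * n⁻¹ = a⁻¹) :
    g ∈ Subgroup.normalizer (tor A : Set SL(2, F)) ↔ g ∈ tor A ∨ g * n⁻¹ ∈ tor A := by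
  refine ⟨fun hg => mem_or_mem h2 h hn ((Subgroup.mem_normalizer_iff.1 hg A).1 (self_mem A)), ?_⟩
  have hT : ∀ t ∈ tor A, ∀ a ∈ tor A, t * a * t⁻¹ = a := fun t ht a ha => by
    rw [tor_comm h ht ha, mul_inv_cancel_right]
  rintro (hg | hg) <;> rw [Subgroup.mem_normalizer_iff] <;> intro a
  · refine ⟨fun ha => by rw [hT g hg a ha]; exact ha, fun ha => ?_⟩
    have := hT g⁻¹ (inv_mem hg) _ ha
    rw [show g⁻¹ * (g * a * g⁻¹) * g⁻¹⁻¹ = a by group] at this
    rw [this]; exact ha
  · obtain ⟨t, ht, rfl⟩ : ∃ t ∈ tor A, g = t * n := ⟨g * n⁻¹, hg, by group⟩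
    constructor
    · intro ha
      rw [show t * n * a * (t * n)⁻¹ = t * (n * a * n⁻¹) * t⁻¹ by group, hn a ha]
      exact mul_mem (mul_mem ht (inv_mem ha)) (inv_mem ht)
    · intro ha
      have h1 : n * a * n⁻¹ ∈ tor A := by
        have := mul_mem (mul_mem (inv_mem ht) ha) ht
        rwa [show t⁻¹ * (t * n * a * (t * n)⁻¹) * t = n * a * n⁻¹ by group] at this
      have h3 : n * (n * a * n⁻¹)⁻¹ * n⁻¹ = n * a * n⁻¹ := by
        rw [hn _ (inv_mem h1), inv_inv]
      have h4 : (n * a * n⁻¹)⁻¹ = a := mul_left_cancel (mul_right_cancel h3)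
      rw [← h4]; exact inv_mem h1

theorem tor_le_normalizer (h2 : (2 : F) ≠ 0) {A : SL(2, F)} (h : tr A ^ 2 ≠ 4) :
    tor A ≤ Subgroup.normalizer (tor A : Set SL(2, F)) := fun g hg => by
  obtain ⟨n, hn⟩ := exists_inverter h
  exact (mem_normalizer_iff_or h2 h hn).2 (Or.inl hg)

theorem card_normalizer (h2 : (2 : F) ≠ 0) {A : SL(2, F)} (h : tr A ^ 2 ≠ 4) :
    Nat.card (Subgroup.normalizer (tor A : Set SL(2, F))) = 2 * Nat.card (tor A) := by
  obtain ⟨n, hn⟩ := exists_inverter h
  have hnm := inverter_notMem h2 h hn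
  let f : tor A ⊕ tor A → Subgroup.normalizer (tor A : Set SL(2, F)) := fun z =>
    z.elim (fun a => ⟨a.1, (mem_normalizer_iff_or h2 h hn).2 (Or.inl a.2)⟩)
      (fun a => ⟨a.1 * n, (mem_normalizer_iff_or h2 h hn).2 (Or.inr (by simp))⟩)
  have hf : Function.Bijective f := by
    refine ⟨?_, ?_⟩
    · rintro (a | a) (b | b) e <;> have e' := congrArg Subtype.val e <;> simp [f] at e'
      · exact congrArg Sum.inl e'
      · exact absurd (by rw [show n = (b : SL(2, F))⁻¹ * a by rw [e']; group];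
                         exact mul_mem (inv_mem b.2) a.2) hnm
      · exact absurd (by rw [show n = (a : SL(2, F))⁻¹ * b by rw [← e']; group];
                         exact mul_mem (inv_mem a.2) b.2) hnm
      · exact congrArg Sum.inr e'
    · rintro ⟨g, hg⟩
      rcases (mem_normalizer_iff_or h2 h hn).1 hg with e | e
      · exact ⟨Sum.inl ⟨g, e⟩, rfl⟩
      · exact ⟨Sum.inr ⟨_, e⟩, Subtype.ext (by simp [f])⟩
  rw [← Nat.card_congr (Equiv.ofBijective f hf), Nat.card_sum, two_mul]

/-- Elements of the normaliser outside the torus invert the torus and square to `-1`. -/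
theorem inverts (h2 : (2 : F) ≠ 0) {A g : SL(2, F)} (h : tr A ^ 2 ≠ 4)
    (hg : g ∈ Subgroup.normalizer (tor A : Set SL(2, F))) (hg' : g ∉ tor A) :
    ∀ a ∈ tor A, g * a * g⁻¹ = a⁻¹ := by
  obtain ⟨n, hn⟩ := exists_inverter h
  intro a ha
  have ht := ((mem_normalizer_iff_or h2 h hn).1 hg).resolve_left hg'
  calc g * a * g⁻¹ = (g * n⁻¹) * (n * a * n⁻¹) * (g * n⁻¹)⁻¹ := by group
    _ = a⁻¹ := by rw [hn a ha, tor_comm h ht (inv_mem ha), mul_inv_cancel_right]

theorem sq_eq_neg_one (h2 : (2 : F) ≠ 0) {A g : SL(2, F)} (h : tr A ^ 2 ≠ 4)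
    (hg : g ∈ Subgroup.normalizer (tor A : Set SL(2, F))) (hg' : g ∉ tor A) : g * g = -1 := by
  have hinv := inverts h2 h hg hg'
  have hgg : g * g ∈ tor A := by
    rw [Subgroup.mem_centralizer_singleton_iff, ← mul_inv_eq_iff_eq_mul]
    calc g * g * A * (g * g)⁻¹ = g * (g * A * g⁻¹) * g⁻¹ := by group
      _ = A := by rw [hinv A (self_mem A), hinv _ (inv_mem (self_mem A)), inv_inv]
  have h1 := hinv _ hgg
  rw [show g * (g * g) * g⁻¹ = g * g by group] at h1
  have hsq : (g * g) ^ 2 = 1 := by rw [sq]; nth_rw 2 [h1]; exact mul_inv_cancel _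
  refine (eq_one_or_neg_one_of_sq_eq_one h2 hsq).resolve_left fun h1 => hg' ?_
  rcases eq_one_or_neg_one_of_sq_eq_one h2 (A := g) (by rw [sq, h1]) with rfl | rfl <;>
    simp [Subgroup.mem_centralizer_singleton_iff]

omit [Finite F] in
theorem neg_one_ne (h2 : (2 : F) ≠ 0) : (-1 : SL(2, F)) ≠ 1 := fun h => h2 <| by
  have := congrArg (fun B : SL(2, F) => B.1 0 0) h
  simp at this
  linear_combination -this

omit [Finite F] in
theorem card_center (h2 : (2 : F) ≠ 0) : Nat.card (Subgroup.center SL(2, F)) = 2 := by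
  rw [Nat.card_eq_two_iff]
  refine ⟨⟨1, one_mem _⟩, ⟨-1, (mem_center_iff _).2 (Or.inr rfl)⟩, fun h => ?_, ?_⟩
  · exact neg_one_ne h2 (congrArg Subtype.val h).symm
  · refine Set.eq_univ_of_forall fun z => ?_
    rcases (mem_center_iff z.1).1 z.2 with h | h
    · exact Or.inl (Subtype.ext h)
    · exact Or.inr (Subtype.ext h)

theorem card_conjClasses_normalizer (h2 : (2 : F) ≠ 0) {A : SL(2, F)} (h : tr A ^ 2 ≠ 4) :
    Nat.card (ConjClasses (Subgroup.normalizer (tor A : Set SL(2, F)))) =
      Nat.card (tor A) / 2 + 3 := by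
  classical
  obtain ⟨n, hn⟩ := exists_inverter h
  set N := Subgroup.normalizer (tor A : Set SL(2, F)) with hN
  set m := Nat.card (tor A) with hm
  have hTN := tor_le_normalizer h2 h
  have hZT : Subgroup.center SL(2, F) ≤ tor A := fun z hz =>
    Subgroup.mem_centralizer_singleton_iff.2 (Subgroup.mem_center_iff.1 hz A).symm
  -- number of elements of `N` commuting with a given one
  have hc : ∀ g : N, Nat.card {x : N // Commute g x} =
      if (g : SL(2, F)) ∈ Subgroup.center SL(2, F) then 2 * m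
      else if (g : SL(2, F)) ∈ tor A then m else 4 := by
    intro g
    split_ifs with hz hT
    · rw [← card_normalizer h2 h]
      exact Nat.card_congr (Equiv.subtypeUnivEquiv fun x =>
        Subtype.ext (Subgroup.mem_center_iff.1 hz x.1).symm)
    · rw [hm]
      refine Nat.card_congr
        { toFun := fun x => ⟨x.1.1, ?_⟩
          invFun := fun a => ⟨⟨a.1, hTN a.2⟩, Subtype.ext (tor_comm h hT a.2)⟩
          left_inv := fun x => rfl
          right_inv := fun a => rfl }
      rw [← tor_eq_of_mem h hT hz]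
      exact Subgroup.mem_centralizer_singleton_iff.2 (congrArg Subtype.val x.2).symm
    · have hinv := inverts h2 h g.2 hT
      have key : ∀ x : N, Commute g x ↔ x.1 ∈ Subgroup.center SL(2, F) ∨
          x.1 * (g : SL(2, F))⁻¹ ∈ Subgroup.center SL(2, F) := by
        intro x
        constructor
        · intro hx
          have hx' : g.1 * x.1 = x.1 * g.1 := congrArg Subtype.val hx
          have hmem : ∀ a ∈ tor A, g.1 * a = a * g.1 → a ∈ Subgroup.center SL(2, F) := by
            intro a ha e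
            have h1 := hinv a ha
            rw [e, mul_inv_cancel_right] at h1
            refine (mem_center_iff a).2 (eq_one_or_neg_one_of_sq_eq_one h2 ?_)
            rw [sq]; nth_rw 2 [h1]; exact mul_inv_cancel a
          by_cases hxT : x.1 ∈ tor A
          · exact Or.inl (hmem _ hxT hx')
          · refine Or.inr (hmem _ ?_ ?_)
            · have e1 := ((mem_normalizer_iff_or h2 h hn).1 x.2).resolve_left hxT
              have e2 := ((mem_normalizer_iff_or h2 h hn).1 g.2).resolve_left hT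
              have := mul_mem e1 (inv_mem e2)
              rwa [show x.1 * n⁻¹ * (g.1 * n⁻¹)⁻¹ = x.1 * g.1⁻¹ by group] at this
            · rw [← mul_assoc, hx', mul_inv_cancel_right, inv_mul_cancel_right]
        · rintro (hx | hx)
          · exact Subtype.ext (Subgroup.mem_center_iff.1 hx g.1)
          · refine Subtype.ext (show g.1 * x.1 = x.1 * g.1 from ?_)
            have := Subgroup.mem_center_iff.1 hx g.1
            rw [inv_mul_cancel_right] at this
            calc g.1 * x.1 = g.1 * (x.1 * g.1⁻¹) * g.1 := by group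
              _ = x.1 * g.1 := by rw [this]
      let f : Subgroup.center SL(2, F) ⊕ Subgroup.center SL(2, F) → {x : N // Commute g x} :=
        fun z => z.elim (fun a => ⟨⟨a.1, hTN (hZT a.2)⟩, (key _).2 (Or.inl a.2)⟩)
          (fun a => ⟨⟨a.1 * g.1, mul_mem (hTN (hZT a.2)) g.2⟩, (key _).2 (Or.inr (by simp))⟩)
      have hf : Function.Bijective f := by
        refine ⟨?_, ?_⟩
        · rintro (a | a) (b | b) e <;>
            have e' := congrArg (fun x : {x : N // Commute g x} => x.1.1) e <;> simp [f] at e'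
          · exact congrArg Sum.inl e'
          · exact absurd (by rw [show g.1 = (b : SL(2, F))⁻¹ * a by rw [e']; group];
                             exact mul_mem (inv_mem b.2) a.2) hz
          · exact absurd (by rw [show g.1 = (a : SL(2, F))⁻¹ * b by rw [← e']; group];
                             exact mul_mem (inv_mem a.2) b.2) hz
          · exact congrArg Sum.inr e'
        · rintro ⟨x, hx⟩
          rcases (key x).1 hx with e | e
          · exact ⟨Sum.inl ⟨_, e⟩, rfl⟩
          · exact ⟨Sum.inr ⟨_, e⟩, Subtype.ext (Subtype.ext (by simp [f]))⟩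
      rw [← Nat.card_congr (Equiv.ofBijective f hf), Nat.card_sum, card_center h2]
  have hsum := card_comm_eq_card_conjClasses_mul_card N
  have := Fintype.ofFinite N
  rw [Nat.card_congr (Equiv.subtypeProdEquivSigmaSubtype fun a b : N => Commute a b),
    Nat.card_sigma, Finset.sum_congr rfl fun g _ => hc g, card_normalizer h2 h, ← hm,
    Finset.sum_ite, Finset.sum_ite] at hsum
  simp only [Finset.sum_const, smul_eq_mul] at hsum
  have c1 : (Finset.univ.filter fun g : N => (g : SL(2, F)) ∈ Subgroup.center SL(2, F)).card = 2 := by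
    refine Eq.trans ?_ (card_center (F := F) h2)
    rw [← Fintype.card_subtype, ← Nat.card_eq_fintype_card]
    exact Nat.card_congr
      { toFun := fun g => ⟨g.1.1, g.2⟩
        invFun := fun z => ⟨⟨z.1, hTN (hZT z.2)⟩, z.2⟩
        left_inv := fun g => rfl
        right_inv := fun z => rfl }
  have cT : (Finset.univ.filter fun g : N => (g : SL(2, F)) ∈ tor A).card = m := by
    rw [hm, ← Fintype.card_subtype, ← Nat.card_eq_fintype_card]
    exact Nat.card_congr
      { toFun := fun g => ⟨g.1.1, g.2⟩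
        invFun := fun z => ⟨⟨z.1, hTN z.2⟩, z.2⟩
        left_inv := fun g => rfl
        right_inv := fun z => rfl }
  have hcN : (Finset.univ : Finset N).card = 2 * m := by
    rw [Finset.card_univ, ← Nat.card_eq_fintype_card, card_normalizer h2 h]
  set u := (Finset.univ.filter fun g : N => ¬ (g : SL(2, F)) ∈ Subgroup.center SL(2, F)) with hu
  have c2 : (u.filter fun g : N => (g : SL(2, F)) ∈ tor A).card + 2 = m := by
    refine Eq.trans (congrArg _ c1.symm) (Eq.trans ?_ cT)
    rw [← Finset.card_union_of_disjoint]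
    · congr 1
      ext g
      simp [hu]
      exact ⟨fun e => e.elim (fun e => e.2) (fun e => hZT e), fun e => by tauto⟩
    · rw [Finset.disjoint_left]
      intro g hg hg'
      simp [hu] at hg hg'
      exact hg.1 hg'
  have c3 : (u.filter fun g : N => ¬ (g : SL(2, F)) ∈ tor A).card = m := by
    have e1 := Finset.card_filter_add_card_filter_not (s := u)
      (p := fun g : N => (g : SL(2, F)) ∈ tor A)
    have e2 := Finset.card_filter_add_card_filter_not (s := (Finset.univ : Finset N))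
      (p := fun g : N => (g : SL(2, F)) ∈ Subgroup.center SL(2, F))
    rw [← hu, c1, hcN] at e2
    omega
  rw [c1, c3] at hsum
  have hmeven : 2 ∣ m := by
    have := Subgroup.card_dvd_of_le hZT
    rwa [card_center h2, ← hm] at this
  obtain ⟨k, hk⟩ := hmeven
  have hm0 : 0 < m := Nat.card_pos
  rw [show (u.filter fun g : N => (g : SL(2, F)) ∈ tor A).card = m - 2 by omega, hk] at hsum
  rw [hk, Nat.mul_div_cancel_left _ two_pos]
  obtain ⟨j, rfl⟩ : ∃ j, k = j + 1 := ⟨k - 1, by omega⟩
  rw [show 2 * (j + 1) - 2 = 2 * j by omega] at hsum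
  refine Nat.eq_of_mul_eq_mul_right (show 0 < 4 * (j + 1) by omega) ?_
  linear_combination -hsum

omit [Finite F] in
/-- An element of order prime to the characteristic and different from `±1` has trace `≠ ±2`. -/
theorem tr_sq_ne_of_coprime (h2 : (2 : F) ≠ 0) (p : ℕ) [Fact p.Prime] [CharP F p] {g : SL(2, F)}
    (hg : (orderOf g).Coprime p) (h1 : g ≠ 1) (h1' : g ≠ -1) : tr g ^ 2 ≠ 4 := by
  intro h
  rcases mul_eq_zero.1 (show (tr g - 2) * (tr g + 2) = 0 by linear_combination h) with e | e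
  · exact h1 (orderOf_eq_one_iff.1 (Nat.eq_one_of_dvd_coprimes hg dvd_rfl
      (orderOf_dvd_of_pow_eq_one (pow_char p (sub_eq_zero.1 e)))))
  · have e1 := pow_char (A := -g) p (by rw [tr_neg, eq_neg_of_add_eq_zero_left e, neg_neg])
    have e2 : g ^ (p * 2) = 1 := by
      rw [← Even.neg_pow (even_two.mul_left p), pow_mul, e1, one_pow]
    have e3 : orderOf g ∣ 2 := hg.dvd_of_dvd_mul_left (orderOf_dvd_of_pow_eq_one e2)
    rcases eq_one_or_neg_one_of_sq_eq_one h2 (orderOf_dvd_iff_pow_eq_one.1 e3) with e4 | e4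
    · exact h1 e4
    · exact h1' e4

end Cfsg.Agent.SL2Torus
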