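import Mathlib
import Cfsg.Agent.Lib.DicksonRational
import Cfsg.Agent.Lib.DicksonExceptional
import Cfsg.Agent.Lib.DicksonSubfieldEmbed
import Cfsg.Agent.Lib.DicksonMaximal
import Cfsg.Agent.Lib.SL2Torus
import Cfsg.Agent.Lib.SL2Classes
import Cfsg.Agent.Lib.PSL2SylowTwo

/-!
Klein four-subgroups of `PSL(2,q)`, `q` odd: count and conjugacy classes.
-/

set_option autoImplicit false
set_option linter.unusedSectionVars false

open scoped MatrixGroups
open Matrix Cfsg.Agent.PSL2Elements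

namespace Cfsg.Agent.DicksonFourGroups

section Group

variable {G : Type*} [Group G]

/-- `{1, a, b, ab}`. -/
def four (a b : G) (ha : a * a = 1) (hb : b * b = 1) (hc : a * b = b * a) : Subgroup G where
  carrier := {x | x = 1 ∨ x = a ∨ x = b ∨ x = a * b}
  one_mem' := Or.inl rfl
  inv_mem' := by
    rintro x (rfl | rfl | rfl | rfl)
    · exact Or.inl inv_one
    · exact Or.inr (Or.inl (inv_eq_of_mul_eq_one_right ha))
    · exact Or.inr (Or.inr (Or.inl (inv_eq_of_mul_eq_one_right hb)))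
    · exact Or.inr (Or.inr (Or.inr (by
        rw [_root_.mul_inv_rev, inv_eq_of_mul_eq_one_right ha, inv_eq_of_mul_eq_one_right hb, hc])))
  mul_mem' := by
    have h1 : ∀ y, a * (a * y) = y := fun y => by rw [← mul_assoc, ha, one_mul]
    have h2 : ∀ y, b * (b * y) = y := fun y => by rw [← mul_assoc, hb, one_mul]
    have h3 : ∀ y, b * (a * y) = a * (b * y) := fun y => by rw [← mul_assoc, ← hc, mul_assoc]
    rintro x y (rfl | rfl | rfl | rfl) (rfl | rfl | rfl | rfl) <;>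
      simp [mul_assoc, ha, hb, h1, h2, h3, ← hc]

variable {a b : G} {ha : a * a = 1} {hb : b * b = 1} {hc : a * b = b * a}

theorem mem_four {x : G} : x ∈ four a b ha hb hc ↔ x = 1 ∨ x = a ∨ x = b ∨ x = a * b := Iff.rfl

theorem left_mem_four : a ∈ four a b ha hb hc := Or.inr (Or.inl rfl)

theorem right_mem_four : b ∈ four a b ha hb hc := Or.inr (Or.inr (Or.inl rfl))

theorem four_le {W : Subgroup G} (h1 : a ∈ W) (h2 : b ∈ W) : four a b ha hb hc ≤ W := by
  rintro x (rfl | rfl | rfl | rfl)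
  exacts [one_mem W, h1, h2, mul_mem h1 h2]

theorem card_four (a1 : a ≠ 1) (b1 : b ≠ 1) (hab : a ≠ b) : Nat.card (four a b ha hb hc) = 4 := by
  have hab1 : a * b ≠ 1 := fun e => hab (mul_right_cancel (e.trans hb.symm))
  let f : Fin 4 → four a b ha hb hc := ![⟨1, Or.inl rfl⟩, ⟨a, Or.inr (Or.inl rfl)⟩,
    ⟨b, Or.inr (Or.inr (Or.inl rfl))⟩, ⟨a * b, Or.inr (Or.inr (Or.inr rfl))⟩]
  have hf : Function.Bijective f := by
    constructor
    · intro i j h
      fin_cases i <;> fin_cases j <;>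
        simp [f, Subtype.ext_iff, a1, b1, hab, hab1, a1.symm, b1.symm, hab.symm, hab1.symm, mul_eq_left,
          mul_eq_right, left_eq_mul, right_eq_mul] at h ⊢
    · rintro ⟨x, rfl | rfl | rfl | rfl⟩
      exacts [⟨0, rfl⟩, ⟨1, rfl⟩, ⟨2, rfl⟩, ⟨3, rfl⟩]
  rw [← Nat.card_eq_of_bijective f hf, Nat.card_fin]

theorem isKleinFour_four (a1 : a ≠ 1) (b1 : b ≠ 1) (hab : a ≠ b) :
    IsKleinFour (four a b ha hb hc) := by
  have h4 := card_four (ha := ha) (hb := hb) (hc := hc) a1 b1 hab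
  haveI : Finite (four a b ha hb hc) := Nat.finite_of_card_ne_zero (by omega)
  haveI : Nontrivial (four a b ha hb hc) := Finite.one_lt_card_iff_nontrivial.mp (by omega)
  refine ⟨h4, (Monoid.exponent_eq_prime_iff Nat.prime_two).mpr fun g hg => ?_⟩
  have hsq : (g : G) * g = 1 := by
    obtain ⟨x, rfl | rfl | rfl | rfl⟩ := g
    · exact one_mul 1
    · exact ha
    · exact hb
    · show a * b * (a * b) = 1
      nth_rw 2 [hc]
      rw [mul_assoc, ← mul_assoc b, hb, one_mul, ha]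
  exact orderOf_eq_prime (by rw [sq]; exact Subtype.ext hsq) hg

theorem mul_self {W : Subgroup G} (hW : IsKleinFour W) {x : G} (hx : x ∈ W) : x * x = 1 := by
  have := Monoid.pow_exponent_eq_one (⟨x, hx⟩ : W)
  rw [hW.exponent_two, sq] at this
  exact congrArg Subtype.val this

theorem comm_mem {W : Subgroup G} (hW : IsKleinFour W) {x y : G} (hx : x ∈ W) (hy : y ∈ W) :
    x * y = y * x :=
  congrArg Subtype.val (mul_comm_of_exponent_two hW.exponent_two (⟨x, hx⟩ : W) ⟨y, hy⟩)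

theorem eq_four {W : Subgroup G} (hW : IsKleinFour W) (h1 : a ∈ W) (h2 : b ∈ W) (a1 : a ≠ 1)
    (b1 : b ≠ 1) (hab : a ≠ b) : four a b ha hb hc = W := by
  haveI : Finite W := Nat.finite_of_card_ne_zero (by rw [hW.card_four]; omega)
  exact Subgroup.eq_of_le_of_card_ge (four_le h1 h2) (by rw [card_four a1 b1 hab, hW.card_four])

theorem map_klein {H : Type*} [Group H] {W : Subgroup G} (hW : IsKleinFour W) (e : G →* H)
    (he : Function.Injective e) : IsKleinFour (W.map e) := by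
  let i := W.equivMapOfInjective e he
  exact ⟨(Nat.card_congr i.toEquiv).symm.trans hW.card_four,
    (Monoid.exponent_eq_of_mulEquiv i).symm.trans hW.exponent_two⟩

theorem four_of_map {H : Type*} [Group H] {W : Subgroup G} (hW : IsKleinFour W) (e : G →* H)
    (he : Function.Injective e) {a b : G} (h1 : a ∈ W) (h2 : b ∈ W) (a1 : a ≠ 1) (b1 : b ≠ 1)
    (hab : a ≠ b) {a' b' : H} {ha' : a' * a' = 1} {hb' : b' * b' = 1} {hc' : a' * b' = b' * a'}
    (ea : e a = a') (eb : e b = b') : W.map e = four a' b' ha' hb' hc' :=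
  (eq_four (map_klein hW e he) ⟨a, h1, ea⟩ ⟨b, h2, eb⟩
    (ea ▸ (map_ne_one_iff e he).mpr a1) (eb ▸ (map_ne_one_iff e he).mpr b1)
    (ea ▸ eb ▸ he.ne hab)).symm

/-- The ordered pairs of distinct non-identity elements of a group of order 4. -/
theorem card_pairs {W : Type*} [Group W] (h4 : Nat.card W = 4) :
    Nat.card {p : W × W // p.1 ≠ 1 ∧ p.2 ≠ 1 ∧ p.1 ≠ p.2} = 6 := by
  haveI : Finite W := Nat.finite_of_card_ne_zero (by omega)
  let e : W ≃ Fin 4 := (Finite.equivFin W).trans (finCongr h4)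
  rw [Nat.card_congr (Equiv.subtypeEquiv (e.prodCongr e)
    (q := fun p => p.1 ≠ e 1 ∧ p.2 ≠ e 1 ∧ p.1 ≠ p.2) (fun p => by simp)),
    Nat.card_eq_fintype_card]
  generalize e 1 = i
  revert i
  decide

end Group

variable {F : Type*} [Field F] [Finite F]

local notation "π" => QuotientGroup.mk' (Subgroup.center SL(2, F))

local notation "PSL₂" => Matrix.ProjectiveSpecialLinearGroup (Fin 2) F

theorem neg_ne (h2 : (2 : F) ≠ 0) (A : SL(2, F)) : -A ≠ A := fun h => by
  rw [← neg_one_mul, mul_eq_right] at h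
  exact SL2Classes.neg_one_ne_one h2 h

theorem ne_one_of_tr_zero (h2 : (2 : F) ≠ 0) {U : SL(2, F)} (hU : tr U = 0) : π U ≠ 1 := by
  intro e
  rcases (PSL2Proj52.π_eq_one U).mp e with rfl | rfl
  · rw [tr_one] at hU; exact h2 hU
  · rw [tr_neg, tr_one, neg_eq_zero] at hU; exact h2 hU

theorem sq_of_tr_zero (h2 : (2 : F) ≠ 0) {U : SL(2, F)} (hU : tr U = 0) : π U * π U = 1 := by
  rw [← map_mul, PSL2Proj52.π_eq_one, ← sq]
  exact Or.inr ((sq_eq_neg_one_iff U h2).mpr hU)

theorem tr_zero_of_sq (h2 : (2 : F) ≠ 0) {U : SL(2, F)} (hs : π U * π U = 1) (h1 : π U ≠ 1) :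
    tr U = 0 :=
  (DicksonRational.sq_eq_neg_one_of_order_two h2
    (orderOf_eq_prime (hp := ⟨Nat.prime_two⟩) (by rw [sq]; exact hs) h1)).1

/-- `U` has trace zero and `V` anticommutes with it. -/
def Anti (U V : SL(2, F)) : Prop := tr U = 0 ∧ V * U = -(U * V)

theorem Anti.tr_right {U V : SL(2, F)} (h2 : (2 : F) ≠ 0) (h : Anti U V) : tr V = 0 := by
  have e : V * U * V⁻¹ = -U := by rw [h.2, neg_mul, mul_inv_cancel_right]
  have e' : U * V * U⁻¹ = -V := by
    rw [show U * V = -(V * U) by rw [h.2, neg_neg], neg_mul, mul_inv_cancel_right]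
  have := congrArg tr e'
  rw [tr_conj, tr_neg] at this
  have h' : (2 : F) * tr V = 0 := by linear_combination this
  exact (mul_eq_zero.mp h').resolve_left h2

theorem Anti.comm {U V : SL(2, F)} (h : Anti U V) : π U * π V = π V * π U := by
  rw [← map_mul, ← map_mul, h.2, PSL2Proj52.π_neg]

theorem Anti.ne {U V : SL(2, F)} (h2 : (2 : F) ≠ 0) (h : Anti U V) : π U ≠ π V := by
  intro e
  rcases (PSL2Proj52.π_eq_iff U V).mp e with rfl | rfl
  · exact neg_ne h2 _ h.2.symm
  · have := h.2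
    rw [mul_neg, neg_mul, neg_neg] at this
    exact neg_ne h2 _ this

theorem anti_of_comm (h2 : (2 : F) ≠ 0) {U V : SL(2, F)} (hu : π U * π U = 1) (u1 : π U ≠ 1)
    (hv : π V * π V = 1) (v1 : π V ≠ 1) (hc : π U * π V = π V * π U) (hne : π U ≠ π V) :
    Anti U V := by
  have tU := tr_zero_of_sq h2 hu u1
  have tV := tr_zero_of_sq h2 hv v1
  have sU := (sq_eq_neg_one_iff U h2).mpr tU
  have sV := (sq_eq_neg_one_iff V h2).mpr tV
  rw [sq] at sU sV
  refine ⟨tU, ?_⟩
  rw [← map_mul, ← map_mul, eq_comm, PSL2Proj52.π_eq_iff] at hc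
  rcases hc with e | e
  · exfalso
    apply hne
    have h1 : (U * V) ^ 2 = 1 := by
      rw [sq, mul_assoc, ← mul_assoc V, e, mul_assoc U V V, sV, mul_neg, mul_one, mul_neg, sU,
        neg_neg]
    have hVi : V⁻¹ = -V := inv_eq_of_mul_eq_one_right (by rw [mul_neg, sV, neg_neg])
    rcases eq_one_or_neg_one_of_sq_eq_one h2 h1 with h | h
    · rw [eq_inv_of_mul_eq_one_left h, hVi, PSL2Proj52.π_neg]
    · rw [eq_mul_inv_of_mul_eq h, hVi, neg_one_mul, neg_neg]
  · exact e

/-! ### The count -/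

theorem card_anti_pairs (h2 : (2 : F) ≠ 0) :
    Nat.card {p : SL(2, F) × SL(2, F) // Anti p.1 p.2} = Nat.card SL(2, F) := by
  classical
  have hw4 : tr (w : SL(2, F)) ^ 2 ≠ 4 := tr_w_ne h2
  obtain ⟨x, hx⟩ := SL2Torus.exists_inverter hw4
  have hwi : (w : SL(2, F))⁻¹ = -w := inv_eq_of_mul_eq_one_right (by rw [mul_neg, w_sq, neg_neg])
  have hxw : x * w = -(w * x) := by
    have := mul_inv_eq_iff_eq_mul.mp (hx w (SL2Torus.self_mem w))
    rw [hwi, neg_mul] at this
    exact this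
  have fibre : ∀ U : {U : SL(2, F) // tr U = 0},
      Nat.card {V : SL(2, F) // V * U.1 = -(U.1 * V)} = Nat.card (SL2Torus.tor (w : SL(2, F))) := by
    rintro ⟨U, hU⟩
    obtain ⟨c, hc⟩ := isConj_iff.mp (isConj_w_of_tr_zero h2 hU)
    refine Nat.card_congr (Equiv.subtypeEquiv ((MulAut.conj c).toEquiv.trans (Equiv.mulLeft x⁻¹))
      fun V => ?_)
    simp only [Equiv.trans_apply, Equiv.coe_mulLeft, MulEquiv.toEquiv_eq_coe, MulEquiv.coe_toEquiv]
    show _ ↔ x⁻¹ * MulAut.conj c V ∈ SL2Torus.tor w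
    have hcU : MulAut.conj c U = w := hc
    rw [Subgroup.mem_centralizer_singleton_iff, ← (MulAut.conj c).injective.eq_iff, map_mul,
      show MulAut.conj c (-(U * V)) = -(MulAut.conj c U * MulAut.conj c V) by simp [mul_assoc],
      hcU]
    set V' := MulAut.conj c V
    constructor
    · intro h
      apply mul_left_cancel (a := x)
      rw [← mul_assoc, mul_inv_cancel_left, h, ← mul_assoc x w, hxw, neg_mul, mul_assoc w x,
        mul_inv_cancel_left]
    · intro h
      have := congrArg (x * ·) h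
      rw [← mul_assoc x w, hxw, neg_mul, mul_assoc w x, mul_inv_cancel_left, ← mul_assoc,
        mul_inv_cancel_left] at this
      exact this
  let e : {p : SL(2, F) × SL(2, F) // Anti p.1 p.2} ≃
      Σ U : {U : SL(2, F) // tr U = 0}, {V : SL(2, F) // V * U.1 = -(U.1 * V)} :=
    { toFun := fun p => ⟨⟨p.1.1, p.2.1⟩, p.1.2, p.2.2⟩
      invFun := fun s => ⟨(s.1.1, s.2.1), s.1.2, s.2.2⟩
      left_inv := fun _ => rfl
      right_inv := fun _ => rfl }
  haveI := Fintype.ofFinite {U : SL(2, F) // tr U = 0}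
  rw [Nat.card_congr e, Nat.card_sigma, Finset.sum_congr rfl fun U _ => fibre U, Finset.sum_const,
    Finset.card_univ, ← Nat.card_eq_fintype_card, smul_eq_mul,
    ← SL2Classes.card_carrier_mul (w : SL(2, F))]
  refine congrArg (· * _) (Nat.card_congr (Equiv.subtypeEquivRight fun U => ?_))
  rw [ConjClasses.mem_carrier_iff_mk_eq, ConjClasses.mk_eq_mk_iff_isConj]
  exact ⟨fun h => isConj_w_of_tr_zero h2 h, fun h => (tr_eq_of_isConj h).trans tr_w⟩

/-- Pairs of distinct commuting involutions. -/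
def IPair (p : PSL₂ × PSL₂) : Prop :=
  p.1 * p.1 = 1 ∧ p.1 ≠ 1 ∧ p.2 * p.2 = 1 ∧ p.2 ≠ 1 ∧ p.1 * p.2 = p.2 * p.1 ∧ p.1 ≠ p.2

theorem card_anti_eq (h2 : (2 : F) ≠ 0) :
    Nat.card {p : SL(2, F) × SL(2, F) // Anti p.1 p.2} =
      4 * Nat.card {p : PSL₂ × PSL₂ // IPair p} := by
  classical
  let s : PSL₂ → SL(2, F) := Function.surjInv PSL2Proj52.π_surjective
  have hs : ∀ g, π (s g) = g := Function.surjInv_eq PSL2Proj52.π_surjective
  let sgn : Bool → SL(2, F) → SL(2, F) := fun b A => if b then A else -A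
  have hsgn : ∀ b A, π (sgn b A) = π A := by
    intro b A; cases b
    exacts [PSL2Proj52.π_neg A, rfl]
  have sgn_inj : ∀ b b' A, sgn b A = sgn b' A → b = b' := by
    intro b b' A
    cases b <;> cases b' <;> simp [sgn, neg_ne h2 A, (neg_ne h2 A).symm]
  let f : {p : PSL₂ × PSL₂ // IPair p} × (Bool × Bool) →
      {p : SL(2, F) × SL(2, F) // Anti p.1 p.2} := fun q =>
    ⟨(sgn q.2.1 (s q.1.1.1), sgn q.2.2 (s q.1.1.2)), by
      obtain ⟨h1, h1', h3, h3', h5, h6⟩ := q.1.2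
      refine anti_of_comm h2 ?_ ?_ ?_ ?_ ?_ ?_ <;> simp only [hsgn, hs] <;> assumption⟩
  have hf : Function.Bijective f := by
    constructor
    · rintro ⟨⟨⟨a, b⟩, hp⟩, i, j⟩ ⟨⟨⟨a', b'⟩, hp'⟩, i', j'⟩ h
      have h1 : sgn i (s a) = sgn i' (s a') := congrArg (fun z => z.1.1) h
      have h3 : sgn j (s b) = sgn j' (s b') := congrArg (fun z => z.1.2) h
      have ea : a = a' := by simpa [hsgn, hs] using congrArg π h1
      have eb : b = b' := by simpa [hsgn, hs] using congrArg π h3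
      subst ea eb
      rw [sgn_inj _ _ _ h1, sgn_inj _ _ _ h3]
    · rintro ⟨⟨U, V⟩, h⟩
      have pick : ∀ A : SL(2, F), ∃ b, sgn b (s (π A)) = A := by
        intro A
        rcases (PSL2Proj52.π_eq_iff _ _).mp (hs (π A)) with e | e
        · exact ⟨true, e⟩
        · exact ⟨false, (congrArg (fun B => -B) e).trans (neg_neg A)⟩
      obtain ⟨i, hi⟩ := pick U
      obtain ⟨j, hj⟩ := pick V
      refine ⟨(⟨(π U, π V), sq_of_tr_zero h2 h.1, ne_one_of_tr_zero h2 h.1,
        sq_of_tr_zero h2 (h.tr_right h2), ne_one_of_tr_zero h2 (h.tr_right h2), h.comm, h.ne h2⟩,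
        i, j), Subtype.ext (Prod.ext hi hj)⟩
  rw [← Nat.card_eq_of_bijective f hf, Nat.card_prod, Nat.card_prod, Nat.card_eq_fintype_card (α := Bool),
    Fintype.card_bool, mul_comm]

theorem card_ipair :
    Nat.card {p : PSL₂ × PSL₂ // IPair p} = 6 * Nat.card {W : Subgroup PSL₂ // IsKleinFour W} := by
  classical
  let f : (Σ W : {W : Subgroup PSL₂ // IsKleinFour W},
      {p : W.1 × W.1 // p.1 ≠ 1 ∧ p.2 ≠ 1 ∧ p.1 ≠ p.2}) → {p : PSL₂ × PSL₂ // IPair p} := fun s =>
    ⟨(s.2.1.1.1, s.2.1.2.1), mul_self s.1.2 s.2.1.1.2, fun e => s.2.2.1 (Subtype.ext e),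
      mul_self s.1.2 s.2.1.2.2, fun e => s.2.2.2.1 (Subtype.ext e),
      comm_mem s.1.2 s.2.1.1.2 s.2.1.2.2, fun e => s.2.2.2.2 (Subtype.ext e)⟩
  have hf : Function.Bijective f := by
    constructor
    · rintro ⟨⟨W, hW⟩, ⟨⟨a, ha⟩, ⟨b, hb⟩⟩, a1, b1, hab⟩ ⟨⟨W', hW'⟩, ⟨⟨a', ha'⟩, ⟨b', hb'⟩⟩, a1', b1', hab'⟩ h
      have e1 : a = a' := congrArg (fun z => z.1.1) h
      have e2 : b = b' := congrArg (fun z => z.1.2) h
      subst e1 e2
      have x1 : a ≠ 1 := fun e => a1 (Subtype.ext e)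
      have x2 : b ≠ 1 := fun e => b1 (Subtype.ext e)
      have x3 : a ≠ b := fun e => hab (Subtype.ext e)
      have eW : W = W' := (eq_four (ha := mul_self hW ha) (hb := mul_self hW hb)
        (hc := comm_mem hW ha hb) hW ha hb x1 x2 x3).symm.trans (eq_four hW' ha' hb' x1 x2 x3)
      subst eW
      rfl
    · rintro ⟨⟨a, b⟩, ha, a1, hb, b1, hc, hab⟩
      let W : {W : Subgroup PSL₂ // IsKleinFour W} :=
        ⟨four a b ha hb hc, isKleinFour_four a1 b1 hab⟩
      let a' : W.1 := ⟨a, Or.inr (Or.inl rfl)⟩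
      let b' : W.1 := ⟨b, Or.inr (Or.inr (Or.inl rfl))⟩
      exact ⟨⟨W, (a', b'), fun e => a1 (congrArg Subtype.val e),
        fun e => b1 (congrArg Subtype.val e), fun e => hab (congrArg Subtype.val e)⟩, rfl⟩
  haveI := Fintype.ofFinite {W : Subgroup PSL₂ // IsKleinFour W}
  rw [← Nat.card_eq_of_bijective f hf, Nat.card_sigma,
    Finset.sum_congr rfl fun W _ => card_pairs W.2.card_four, Finset.sum_const, Finset.card_univ,
    ← Nat.card_eq_fintype_card, smul_eq_mul, mul_comm]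

theorem card_kleinFour (h2 : (2 : F) ≠ 0) :
    12 * Nat.card {W : Subgroup PSL₂ // IsKleinFour W} = Nat.card PSL₂ := by
  have h : Nat.card SL(2, F) = 2 * Nat.card PSL₂ := by
    rw [Subgroup.card_eq_card_quotient_mul_card_subgroup (Subgroup.center SL(2, F)),
      SL2Torus.card_center h2, mul_comm]
  have := card_anti_pairs h2
  rw [card_anti_eq h2, card_ipair, h] at this
  omega

/-! ### Conjugation by `PGL(2,q)` -/

theorem exists_pgl_aut (c : Matrix.ProjGenLinGroup (Fin 2) F) :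
    ∃ φ : PSL₂ ≃* PSL₂, ∀ g, ProjectiveSpecialLinearGroup.toPGL (φ g) =
      c * ProjectiveSpecialLinearGroup.toPGL g * c⁻¹ := by
  have hinj := ProjectiveSpecialLinearGroup.toPGL_injective (n := Fin 2) (R := F)
  let h := ((MulAut.conj c).toMonoidHom.comp
    (ProjectiveSpecialLinearGroup.toPGL (n := Fin 2) (R := F))).codRestrict
      (ProjectiveSpecialLinearGroup.toPGL (n := Fin 2) (R := F)).range
      (fun g => DicksonRational.conj_mem_range c ⟨g, rfl⟩)
  let ψ : PSL₂ →* PSL₂ := (MonoidHom.ofInjective hinj).symm.toMonoidHom.comp h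
  have hψ : ∀ g, ProjectiveSpecialLinearGroup.toPGL (ψ g) =
      c * ProjectiveSpecialLinearGroup.toPGL g * c⁻¹ := fun g =>
    MonoidHom.apply_ofInjective_symm hinj (h g)
  have hi : Function.Injective ψ := fun a b e => by
    have := congrArg (ProjectiveSpecialLinearGroup.toPGL (n := Fin 2) (R := F)) e
    rw [hψ, hψ] at this
    exact hinj (mul_left_cancel (mul_right_cancel this))
  exact ⟨MulEquiv.ofBijective ψ (Finite.injective_iff_bijective.mp hi), hψ⟩

theorem exists_aut_between (h2 : (2 : F) ≠ 0) {W W' : Subgroup PSL₂} (hW : IsKleinFour W)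
    (hW' : IsKleinFour W') : ∃ φ : PSL₂ ≃* PSL₂, W.map φ.toMonoidHom = W' := by
  obtain ⟨α, β, hab⟩ := DicksonExceptional.exists_neg_one_sum F
  have std : ∀ W : Subgroup PSL₂, IsKleinFour W → ∃ φ : PSL₂ ≃* PSL₂,
      π (⟨DicksonRational.Imat F, by simp [DicksonRational.Imat]⟩ : SL(2, F)) ∈ W.map φ.toMonoidHom ∧
      π (⟨!![α, β; β, -α], by simp [Matrix.det_fin_two_of]; linear_combination -hab⟩ : SL(2, F)) ∈
        W.map φ.toMonoidHom := by
    intro W hW
    haveI : Finite W := Nat.finite_of_card_ne_zero (by rw [hW.card_four]; omega)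
    obtain ⟨⟨⟨a, b⟩, a1, b1, hne⟩⟩ : Nonempty {p : W × W // p.1 ≠ 1 ∧ p.2 ≠ 1 ∧ p.1 ≠ p.2} :=
      (Nat.card_pos_iff.mp (by rw [card_pairs hW.card_four]; omega)).1
    obtain ⟨U, hU⟩ := PSL2Proj52.π_surjective (a : PSL₂)
    obtain ⟨V, hV⟩ := PSL2Proj52.π_surjective (b : PSL₂)
    have h : Anti U V := by
      refine anti_of_comm h2 ?_ ?_ ?_ ?_ ?_ ?_ <;> simp only [hU, hV]
      · exact mul_self hW a.2
      · exact fun e => a1 (Subtype.ext e)
      · exact mul_self hW b.2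
      · exact fun e => b1 (Subtype.ext e)
      · exact comm_mem hW a.2 b.2
      · exact fun e => hne (Subtype.ext e)
    have sU := congrArg Subtype.val ((sq_eq_neg_one_iff U h2).mpr h.1)
    have sV := congrArg Subtype.val ((sq_eq_neg_one_iff V h2).mpr (h.tr_right h2))
    rw [coe_pow', sq] at sU sV
    have hUV : U.1 * V.1 = -(V.1 * U.1) := by
      have := congrArg Subtype.val h.2
      rw [coe_mul', coe_neg', coe_mul'] at this
      rw [this, neg_neg]
    obtain ⟨P, hPU, hPV⟩ := DicksonRational.exists_conj_standard h2 sU sV hUV hab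
    obtain ⟨φ, hφ⟩ := exists_pgl_aut (Matrix.ProjGenLinGroup.mk P)
    refine ⟨φ, ⟨a, a.2, ?_⟩, ⟨b, b.2, ?_⟩⟩ <;>
      apply ProjectiveSpecialLinearGroup.toPGL_injective <;> refine (hφ _).trans ?_
    · rw [← hU]
      show Matrix.ProjGenLinGroup.mk P * Matrix.ProjGenLinGroup.mk (SpecialLinearGroup.toGL U) *
        (Matrix.ProjGenLinGroup.mk P)⁻¹ = Matrix.ProjGenLinGroup.mk (SpecialLinearGroup.toGL _)
      rw [← map_mul, ← map_inv, ← map_mul]
      refine congrArg _ (mul_inv_eq_iff_eq_mul.mpr (Units.ext ?_))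
      exact hPU
    · rw [← hV]
      show Matrix.ProjGenLinGroup.mk P * Matrix.ProjGenLinGroup.mk (SpecialLinearGroup.toGL V) *
        (Matrix.ProjGenLinGroup.mk P)⁻¹ = Matrix.ProjGenLinGroup.mk (SpecialLinearGroup.toGL _)
      rw [← map_mul, ← map_inv, ← map_mul]
      refine congrArg _ (mul_inv_eq_iff_eq_mul.mpr (Units.ext ?_))
      exact hPV
  obtain ⟨φ, h1, h3⟩ := std W hW
  obtain ⟨φ', h1', h3'⟩ := std W' hW'
  refine ⟨φ.trans φ'.symm, ?_⟩
  have key : W.map φ.toMonoidHom = W'.map φ'.toMonoidHom := by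
    have hK := map_klein hW φ.toMonoidHom φ.injective
    have hK' := map_klein hW' φ'.toMonoidHom φ'.injective
    set I0 : SL(2, F) := ⟨DicksonRational.Imat F, by simp [DicksonRational.Imat]⟩
    set V0 : SL(2, F) := ⟨!![α, β; β, -α], by
      simp [Matrix.det_fin_two_of]; linear_combination -hab⟩
    have tI : tr I0 = 0 := by simp [I0, DicksonRational.Imat, tr]
    have tV : tr V0 = 0 := by simp [V0, tr]
    have hne : π I0 ≠ π V0 := by
      refine Anti.ne h2 ⟨tI, Subtype.ext ?_⟩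
      show !![α, β; β, -α] * DicksonRational.Imat F = -(DicksonRational.Imat F * !![α, β; β, -α])
      ext i j
      fin_cases i <;> fin_cases j <;> simp [DicksonRational.Imat]
    exact (eq_four (ha := mul_self hK h1) (hb := mul_self hK h3) (hc := comm_mem hK h1 h3) hK h1 h3
      (ne_one_of_tr_zero h2 tI) (ne_one_of_tr_zero h2 tV) hne).symm.trans
      (eq_four hK' h1' h3' (ne_one_of_tr_zero h2 tI) (ne_one_of_tr_zero h2 tV) hne)
  ext z
  constructor
  · rintro ⟨a, ha, rfl⟩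
    obtain ⟨b, hb, e⟩ := key.le ⟨a, ha, rfl⟩
    show φ'.symm (φ a) ∈ W'
    rw [show φ a = φ' b from e.symm, MulEquiv.symm_apply_apply]
    exact hb
  · intro hz
    obtain ⟨a, ha, e⟩ := key.ge ⟨z, hz, rfl⟩
    exact ⟨a, ha, (congrArg φ'.symm e).trans (MulEquiv.symm_apply_apply _ _)⟩

theorem s4_normal : ∀ g : Equiv.Perm (Fin 4),
    (∀ s ∈ [Equiv.swap (0 : Fin 4) 1 * Equiv.swap 2 3, Equiv.swap (0 : Fin 4) 2 * Equiv.swap 1 3],
      g * s * g⁻¹ ∈ [Equiv.swap (0 : Fin 4) 1 * Equiv.swap 2 3,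
        Equiv.swap (0 : Fin 4) 2 * Equiv.swap 1 3,
        Equiv.swap (0 : Fin 4) 1 * Equiv.swap 2 3 * (Equiv.swap (0 : Fin 4) 2 * Equiv.swap 1 3)]) := by
  decide +kernel

/-- When `2` is a square every four-group has normaliser of order at least 24. -/
theorem card_normalizer_ge (h2 : (2 : F) ≠ 0) {s : F} (hs : s ^ 2 = 2) {W : Subgroup PSL₂}
    (hW : IsKleinFour W) : 24 ≤ Nat.card (Subgroup.normalizer (W : Set PSL₂)) := by
  obtain ⟨ψ, hψ⟩ := DicksonExceptional.exists_S4 (F := F) h2 hs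
  set s1 : Equiv.Perm (Fin 4) := Equiv.swap 0 1 * Equiv.swap 2 3
  set s2 : Equiv.Perm (Fin 4) := Equiv.swap 0 2 * Equiv.swap 1 3
  have e1 : s1 * s1 = 1 := by decide
  have e2 : s2 * s2 = 1 := by decide
  have e3 : s1 * s2 = s2 * s1 := by decide
  have k1 : ψ s1 * ψ s1 = 1 := by rw [← map_mul, e1, map_one]
  have k2 : ψ s2 * ψ s2 = 1 := by rw [← map_mul, e2, map_one]
  have k3 : ψ s1 * ψ s2 = ψ s2 * ψ s1 := by rw [← map_mul, ← map_mul, e3]
  set W0 := four (ψ s1) (ψ s2) k1 k2 k3 with hW0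
  have hK0 : IsKleinFour W0 := isKleinFour_four ((map_ne_one_iff ψ hψ).mpr (by decide))
    ((map_ne_one_iff ψ hψ).mpr (by decide)) (hψ.ne (by decide))
  obtain ⟨φ, hφ⟩ := exists_aut_between h2 hK0 hW
  have hle : ψ.range ≤ Subgroup.normalizer (W0 : Set PSL₂) := by
    rintro _ ⟨g, rfl⟩
    refine DicksonMaximal.mem_normalizer_of fun y hy => ?_
    have hg : ∀ s, g * s * g⁻¹ ∈ [s1, s2, s1 * s2] → ψ g * ψ s * (ψ g)⁻¹ ∈ W0 := by
      intro s h
      rw [← map_inv, ← map_mul, ← map_mul]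
      simp only [List.mem_cons, List.not_mem_nil, or_false] at h
      rcases h with e | e | e <;> rw [e]
      · exact left_mem_four
      · exact right_mem_four
      · rw [map_mul]; exact mul_mem left_mem_four right_mem_four
    rcases mem_four.mp hy with rfl | rfl | rfl | rfl
    · rw [mul_one, mul_inv_cancel]; exact one_mem _
    · exact hg _ (s4_normal g _ (by simp [s1]))
    · exact hg _ (s4_normal g _ (by simp [s2]))
    · rw [show ψ g * (ψ s1 * ψ s2) * (ψ g)⁻¹ = (ψ g * ψ s1 * (ψ g)⁻¹) * (ψ g * ψ s2 * (ψ g)⁻¹) by group]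
      exact mul_mem (hg _ (s4_normal g _ (by simp [s1]))) (hg _ (s4_normal g _ (by simp [s2])))
  have h24 : Nat.card ψ.range = 24 := by
    rw [← Nat.card_congr (MonoidHom.ofInjective hψ).toEquiv, Nat.card_perm, Nat.card_fin]
    rfl
  have hle' := Nat.card_le_card_of_injective _ (Subgroup.inclusion_injective hle)
  rw [h24] at hle'
  refine le_trans hle' ?_
  refine le_trans ?_ (Nat.card_le_card_of_injective _ (Subgroup.inclusion_injective
    (show (Subgroup.normalizer (W0 : Set PSL₂)).map φ.toMonoidHom ≤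
      Subgroup.normalizer (W : Set PSL₂) by
      rw [← hφ]; exact Subgroup.le_normalizer_map _)))
  exact (Nat.card_congr ((Subgroup.normalizer (W0 : Set PSL₂)).equivMapOfInjective _
    φ.injective).toEquiv).le

/-- When `2` is a square the four-groups are not all conjugate. -/
theorem not_all_conj (h2 : (2 : F) ≠ 0) {s : F} (hs : s ^ 2 = 2) {V : Subgroup PSL₂}
    (hV : IsKleinFour V) :
    ¬ ∀ W : Subgroup PSL₂, IsKleinFour W → ∃ g, W = V.map (MulAut.conj g).toMonoidHom := by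
  intro h
  choose g hg using h
  set N := Subgroup.normalizer (V : Set PSL₂)
  have hn : ∀ n : N, V.map (MulAut.conj (n : PSL₂)).toMonoidHom = V := fun n => by
    ext z
    constructor
    · rintro ⟨v, hv, rfl⟩
      exact (Subgroup.mem_normalizer_iff.mp n.2 v).mp hv
    · intro hz
      refine ⟨(n : PSL₂)⁻¹ * z * n, (Subgroup.mem_normalizer_iff.mp n.2 _).mpr ?_, ?_⟩
      · rw [show (n : PSL₂) * ((n : PSL₂)⁻¹ * z * n) * (n : PSL₂)⁻¹ = z by group]; exact hz
      · show (n : PSL₂) * ((n : PSL₂)⁻¹ * z * n) * (n : PSL₂)⁻¹ = z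
        group
  let f : {W : Subgroup PSL₂ // IsKleinFour W} × N → PSL₂ := fun q => g q.1.1 q.1.2 * q.2
  have hf : Function.Injective f := by
    rintro ⟨⟨W, hW⟩, n⟩ ⟨⟨W', hW'⟩, n'⟩ e
    have hWW : W = W' := by
      rw [hg W hW, hg W' hW']
      conv_lhs => rw [← hn n]
      conv_rhs => rw [← hn n']
      rw [Subgroup.map_map, Subgroup.map_map]
      refine congrArg (fun k => V.map k) (MonoidHom.ext fun z => ?_)
      show g W hW * (n * z * (n : PSL₂)⁻¹) * (g W hW)⁻¹ = g W' hW' * (n' * z * (n' : PSL₂)⁻¹) * (g W' hW')⁻¹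
      have e' : g W hW * n = g W' hW' * n' := e
      calc g W hW * (n * z * (n : PSL₂)⁻¹) * (g W hW)⁻¹ = (g W hW * n) * z * (g W hW * n)⁻¹ := by group
        _ = (g W' hW' * n') * z * (g W' hW' * n')⁻¹ := by rw [e']
        _ = _ := by group
    subst hWW
    exact Prod.ext rfl (Subtype.ext (mul_left_cancel e))
  have hle := Nat.card_le_card_of_injective f hf
  rw [Nat.card_prod] at hle
  have := card_kleinFour (F := F) h2
  have h24 := card_normalizer_ge h2 hs hV
  have hpos : 0 < Nat.card {W : Subgroup PSL₂ // IsKleinFour W} := by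
    haveI : Nonempty {W : Subgroup PSL₂ // IsKleinFour W} := ⟨⟨V, hV⟩⟩
    exact Nat.card_pos
  have : Nat.card {W : Subgroup PSL₂ // IsKleinFour W} * 24 ≤
      Nat.card {W : Subgroup PSL₂ // IsKleinFour W} * Nat.card N := Nat.mul_le_mul_left _ h24
  omega

/-- Every four-group is conjugate to one of two standard ones; to the first if `q ≡ 3, 5 (mod 8)`. -/
theorem classes (hq : Odd (Nat.card F)) :
    ∃ V₁ V₂ : Subgroup PSL₂, IsKleinFour V₁ ∧ IsKleinFour V₂ ∧
      ∀ W : Subgroup PSL₂, IsKleinFour W →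
        (∃ g, W = V₁.map (MulAut.conj g).toMonoidHom) ∨
        (¬ (Nat.card F % 8 = 3 ∨ Nat.card F % 8 = 5) ∧
          ∃ g, W = V₂.map (MulAut.conj g).toMonoidHom) := by
  classical
  have h2 : (2 : F) ≠ 0 := PSL2SylowTwo.two_ne_zero_of_odd hq
  have hw4 : tr (w : SL(2, F)) ^ 2 ≠ 4 := tr_w_ne h2
  obtain ⟨hcyc, h4, hk⟩ := PSL2SylowTwo.centralizer_w (F := F) hq
  obtain ⟨x, hx⟩ := SL2Torus.exists_inverter hw4
  obtain ⟨⟨t, ht⟩, hgen⟩ := hcyc.exists_generator
  have hwi : (w : SL(2, F))⁻¹ = -w := inv_eq_of_mul_eq_one_right (by rw [mul_neg, w_sq, neg_neg])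
  have htz : ∀ (i : ℤ), t ^ i ∈ SL2Torus.tor (w : SL(2, F)) := fun i => zpow_mem ht i
  have anti : ∀ i : ℤ, Anti w (x * t ^ i) := by
    intro i
    refine ⟨tr_w, ?_⟩
    rw [mul_assoc, Subgroup.mem_centralizer_singleton_iff.mp (htz i), ← mul_assoc,
      mul_inv_eq_iff_eq_mul.mp (hx w (SL2Torus.self_mem w)), hwi, neg_mul, neg_mul, mul_assoc]
  let K : ℤ → Subgroup PSL₂ := fun i => four (π (w : SL(2, F))) (π (x * t ^ i))
    (sq_of_tr_zero h2 tr_w) (sq_of_tr_zero h2 ((anti i).tr_right h2)) (anti i).comm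
  have hK : ∀ i, IsKleinFour (K i) := fun i => isKleinFour_four (ne_one_of_tr_zero h2 tr_w)
    (ne_one_of_tr_zero h2 ((anti i).tr_right h2)) ((anti i).ne h2)
  have conjK : ∀ i j : ℤ, (K i).map (MulAut.conj (π (t ^ j))).toMonoidHom = K (i - 2 * j) := by
    intro i j
    refine four_of_map (hK i) _ (MulAut.conj _).injective left_mem_four right_mem_four
      (ne_one_of_tr_zero h2 tr_w) (ne_one_of_tr_zero h2 ((anti i).tr_right h2)) ((anti i).ne h2) ?_ ?_
    · show π (t ^ j) * π w * (π (t ^ j))⁻¹ = π w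
      rw [← map_inv, ← map_mul, ← map_mul, Subgroup.mem_centralizer_singleton_iff.mp (htz j),
        mul_inv_cancel_right]
    · show π (t ^ j) * π (x * t ^ i) * (π (t ^ j))⁻¹ = π (x * t ^ (i - 2 * j))
      rw [← map_inv, ← map_mul, ← map_mul]
      congr 1
      have : t ^ j * x = x * t ^ (-j) := by
        have := hx _ (htz (-j))
        rw [mul_inv_eq_iff_eq_mul, ← _root_.zpow_neg, neg_neg] at this
        exact this.symm
      rw [← mul_assoc, this, mul_assoc x, mul_assoc x, ← _root_.zpow_neg, ← _root_.zpow_add, ← _root_.zpow_add]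
      congr 2
      ring
  obtain ⟨m, hm⟩ := Subgroup.mem_zpowers_iff.mp
    (hgen ⟨w, SL2Torus.self_mem w⟩)
  have hm' : t ^ m = (w : SL(2, F)) := congrArg Subtype.val hm
  have reduce : ∀ W : Subgroup PSL₂, IsKleinFour W → ∃ i g, W = (K i).map (MulAut.conj g).toMonoidHom := by
    intro W hW
    haveI : Finite W := Nat.finite_of_card_ne_zero (by rw [hW.card_four]; omega)
    obtain ⟨⟨⟨a, b⟩, a1, b1, hne⟩⟩ : Nonempty {p : W × W // p.1 ≠ 1 ∧ p.2 ≠ 1 ∧ p.1 ≠ p.2} :=
      (Nat.card_pos_iff.mp (by rw [card_pairs hW.card_four]; omega)).1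
    have ha1 : (a : PSL₂) ≠ 1 := fun e => a1 (Subtype.ext e)
    have hb1 : (b : PSL₂) ≠ 1 := fun e => b1 (Subtype.ext e)
    have hab : (a : PSL₂) ≠ b := fun e => hne (Subtype.ext e)
    obtain ⟨U, hU⟩ := PSL2Proj52.π_surjective (a : PSL₂)
    obtain ⟨c, hc⟩ := isConj_iff.mp (isConj_w_of_tr_zero h2
      (tr_zero_of_sq h2 (hU ▸ mul_self hW a.2) (hU ▸ ha1)))
    set W' := W.map (MulAut.conj (π c)).toMonoidHom with hW'
    have hK' : IsKleinFour W' := map_klein hW _ (MulAut.conj _).injective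
    have hwW : π (w : SL(2, F)) ∈ W' := ⟨a, a.2, by
      show π c * a * (π c)⁻¹ = π w
      rw [← hU, ← hc, map_mul, map_mul, map_inv]⟩
    obtain ⟨V, hV⟩ := PSL2Proj52.π_surjective (π c * (b : PSL₂) * (π c)⁻¹)
    have hVW : π V ∈ W' := ⟨b, b.2, hV.symm⟩
    have hV1 : π V ≠ 1 := by rw [hV]; simpa using hb1
    have hwV : π w ≠ π V := by
      rw [hV, ← hc, map_mul, map_mul, map_inv, hU]
      intro e
      exact hab (mul_left_cancel (mul_right_cancel e))
    have hA : Anti w V := anti_of_comm h2 (sq_of_tr_zero h2 tr_w) (ne_one_of_tr_zero h2 tr_w)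
      (mul_self hK' hVW) hV1 (comm_mem hK' hwW hVW) hwV
    have hmem : x⁻¹ * V ∈ SL2Torus.tor (w : SL(2, F)) := by
      have h3 : V * w * V⁻¹ = x * w * x⁻¹ := by
        rw [hA.2, neg_mul, mul_inv_cancel_right, hx w (SL2Torus.self_mem w), hwi]
      rw [Subgroup.mem_centralizer_singleton_iff]
      calc x⁻¹ * V * w = x⁻¹ * (V * w * V⁻¹) * V := by group
        _ = x⁻¹ * (x * w * x⁻¹) * V := by rw [h3]
        _ = w * (x⁻¹ * V) := by group
    obtain ⟨i, hi⟩ := Subgroup.mem_zpowers_iff.mp (hgen ⟨_, hmem⟩)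
    have hi' : t ^ i = x⁻¹ * V := congrArg Subtype.val hi
    have hKi : K i = W' := eq_four hK' hwW
      (show π (x * t ^ i) ∈ W' by rw [hi', mul_inv_cancel_left]; exact hVW)
      (ne_one_of_tr_zero h2 tr_w) (ne_one_of_tr_zero h2 ((anti i).tr_right h2)) ((anti i).ne h2)
    refine ⟨i, (π c)⁻¹, ?_⟩
    rw [hKi, hW', Subgroup.map_map]
    conv_lhs => rw [← Subgroup.map_id W]
    refine congrArg (fun k => W.map k) (MonoidHom.ext fun z => ?_)
    show z = (π c)⁻¹ * (π c * z * (π c)⁻¹) * ((π c)⁻¹)⁻¹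
    group
  have move : ∀ W : Subgroup PSL₂, ∀ i j : ℤ, (∃ g, W = (K i).map (MulAut.conj g).toMonoidHom) →
      ∃ g, W = (K (i - 2 * j)).map (MulAut.conj g).toMonoidHom := by
    rintro W i j ⟨g, rfl⟩
    refine ⟨g * (π (t ^ j))⁻¹, ?_⟩
    rw [← conjK i j, Subgroup.map_map]
    refine congrArg (fun k => (K i).map k) (MonoidHom.ext fun z => ?_)
    show g * z * g⁻¹ = g * (π (t ^ j))⁻¹ * (π (t ^ j) * z * (π (t ^ j))⁻¹) * (g * (π (t ^ j))⁻¹)⁻¹
    group
  refine ⟨K 0, K 1, hK 0, hK 1, fun W hW => ?_⟩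
  obtain ⟨i, hg⟩ := reduce W hW
  rcases Int.even_or_odd i with ⟨j, rfl⟩ | ⟨j, rfl⟩
  · have := move W _ j hg
    rw [show j + j - 2 * j = (0 : ℤ) by ring] at this
    exact Or.inl this
  have h1' := move W _ j hg
  rw [show 2 * j + 1 - 2 * j = (1 : ℤ) by ring] at h1'
  by_cases h8 : Nat.card F % 8 = 3 ∨ Nat.card F % 8 = 5
  swap
  · exact Or.inr ⟨h8, h1'⟩
  left
  -- `m` is odd
  have hodd : Odd m := by
    by_contra he
    rw [Int.not_odd_iff_even] at he
    obtain ⟨l, rfl⟩ := he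
    set k := Nat.card (Subgroup.centralizer ({w} : Set SL(2, F)))
    obtain ⟨c, hc⟩ := h4
    have hcodd : Odd c := by
      rw [Nat.odd_iff]
      have := PSLCard.one_lt_card F
      rcases hk with e | e <;> rw [e] at hc <;> omega
    have htk : t ^ (k : ℤ) = 1 := by
      rw [_root_.zpow_natCast]
      exact congrArg Subtype.val (pow_card_eq_one' (x := (⟨t, ht⟩ :
        Subgroup.centralizer ({w} : Set SL(2, F)))))
    have : (w : SL(2, F)) ^ (2 * c : ℤ) = 1 := by
      rw [← hm', ← _root_.zpow_mul, show (l + l) * (2 * c : ℤ) = (k : ℤ) * l by rw [hc]; push_cast; ring,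
        _root_.zpow_mul, htk, _root_.one_zpow]
    rw [_root_.zpow_mul, zpow_two, w_sq] at this
    rw [_root_.zpow_natCast, hcodd.neg_one_pow] at this
    exact SL2Classes.neg_one_ne_one h2 this
  have hKK : K (1 - m) = K 1 := by
    refine eq_four (hK 1) left_mem_four ?_ (ne_one_of_tr_zero h2 tr_w)
      (ne_one_of_tr_zero h2 ((anti _).tr_right h2)) ((anti _).ne h2)
    have : π (x * t ^ (1 - m)) = π w * π (x * t ^ (1 : ℤ)) := by
      have hc' := (anti (1 - m)).comm
      have h1 : x * t ^ (1 : ℤ) = x * t ^ (1 - m) * w := by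
        rw [← hm', mul_assoc, ← _root_.zpow_add, sub_add_cancel]
      rw [h1, map_mul π (x * t ^ (1 - m)) w, ← mul_assoc, hc', mul_assoc, sq_of_tr_zero h2 tr_w, mul_one]
    rw [this]
    exact mul_mem left_mem_four right_mem_four
  rw [← hKK] at h1'
  obtain ⟨l, hl⟩ := hodd
  have := move W _ (-l) h1'
  rw [show (1 - m) - 2 * -l = (0 : ℤ) by omega] at this
  exact this

end Cfsg.Agent.DicksonFourGroups
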