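import Cfsg.Agent.Lib.DicksonFourGroups
import Cfsg.Agent.Lib.PSL2Proj52
import Cfsg.Agent.Lib.PSLSimple

/-!
# Two-local facts about `PSL(2,q)`, `q > 3`

Involutions form one class; the elements of a commuting pair of involutions are permuted
cyclically by some element; the shape of the Sylow 2-subgroups.
-/

set_option autoImplicit false
set_option linter.unusedSectionVars false

open scoped MatrixGroups
open Matrix Cfsg.Agent.PSL2Elements

namespace Cfsg.Agent.JTPsl62

variable {L : Type*} [Group L]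

/-- `c` and `b` generate `P` as a dihedral group of order `2 * orderOf c`. -/
structure DihGen (P : Subgroup L) (c b : L) : Prop where
  c_mem : c ∈ P
  b_mem : b ∈ P
  b_notMem : b ∉ Subgroup.zpowers c
  b_sq : b * b = 1
  conj : b * c * b⁻¹ = c⁻¹
  cover : ∀ x ∈ P, x ∈ Subgroup.zpowers c ∨ b * x ∈ Subgroup.zpowers c

/-- `c` permutes `P \ {1}` transitively and every element normalising `P` acts on `P` as a
power of `c`. -/
structure TorusAct (P : Subgroup L) (c : L) : Prop where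
  normal : ∀ x ∈ P, c * x * c⁻¹ ∈ P
  trans : ∀ a ∈ P, ∀ b ∈ P, a ≠ 1 → b ≠ 1 → ∃ i : ℕ, c ^ i * a * (c ^ i)⁻¹ = b
  control : ∀ g : L, (∀ x ∈ P, g * x * g⁻¹ ∈ P) →
    ∃ i : ℕ, ∀ x ∈ P, g * x * g⁻¹ = c ^ i * x * (c ^ i)⁻¹

theorem TorusAct.map {P : Subgroup L} {c : L} (h : TorusAct P c) (φ : L ≃* L) :
    TorusAct (P.map φ.toMonoidHom) (φ c) := by
  have hcj : ∀ g x : L, φ g * φ x * (φ g)⁻¹ = φ (g * x * g⁻¹) := fun g x => by
    rw [map_mul, map_mul, map_inv]
  refine ⟨?_, ?_, ?_⟩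
  · rintro _ ⟨x, hx, rfl⟩
    exact ⟨c * x * c⁻¹, h.normal x hx, by simp⟩
  · rintro _ ⟨a, ha, rfl⟩ _ ⟨b, hb, rfl⟩ ha1 hb1
    obtain ⟨i, hi⟩ := h.trans a ha b hb (fun e => ha1 (by simp [e])) (fun e => hb1 (by simp [e]))
    refine ⟨i, ?_⟩
    change φ c ^ i * φ a * (φ c ^ i)⁻¹ = φ b
    rw [← map_pow, hcj, hi]
  · intro g hg
    obtain ⟨i, hi⟩ := h.control (φ.symm g) (fun x hx => by
      obtain ⟨y, hy, e⟩ := hg (φ x) ⟨x, hx, rfl⟩
      have : φ.symm g * x * (φ.symm g)⁻¹ = y := by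
        apply φ.injective
        rw [map_mul, map_mul, map_inv, φ.apply_symm_apply]
        exact e.symm
      rw [this]; exact hy)
    refine ⟨i, ?_⟩
    rintro _ ⟨x, hx, rfl⟩
    change g * φ x * g⁻¹ = φ c ^ i * φ x * (φ c ^ i)⁻¹
    rw [← map_pow, hcj, ← hi x hx, map_mul, map_mul, map_inv, φ.apply_symm_apply]

theorem mem_normalizer_of_conj [Finite L] {H : Subgroup L} {g : L}
    (h : ∀ x ∈ H, g * x * g⁻¹ ∈ H) : g ∈ Subgroup.normalizer (H : Set L) := by
  have heq : H.map (MulAut.conj g).toMonoidHom = H := by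
    refine Subgroup.eq_of_le_of_card_ge ?_
      (Subgroup.card_map_of_injective (MulAut.conj g).injective).ge
    rintro _ ⟨x, hx, rfl⟩
    exact h x hx
  rw [Subgroup.mem_normalizer_iff]
  refine fun x => ⟨h x, fun hx => ?_⟩
  have hx' : g * x * g⁻¹ ∈ H.map (MulAut.conj g).toMonoidHom := by rw [heq]; exact hx
  obtain ⟨y, hy, e⟩ := hx'
  have e' : y = x := mul_left_cancel (mul_right_cancel (show g * y * g⁻¹ = g * x * g⁻¹ from e))
  exact e' ▸ hy

variable {F : Type*} [Field F] [Finite F]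

local notation "π" => QuotientGroup.mk' (Subgroup.center SL(2, F))

local notation "PSL₂" => Matrix.ProjectiveSpecialLinearGroup (Fin 2) F

theorem inv_conj_odd (h2 : (2 : F) ≠ 0) {a b : PSL₂} (ha : orderOf a = 2) (hb : orderOf b = 2) :
    IsConj a b := by
  obtain ⟨A, rfl⟩ := PSL2Proj52.π_surjective a
  obtain ⟨B, rfl⟩ := PSL2Proj52.π_surjective b
  have tA := (DicksonRational.sq_eq_neg_one_of_order_two h2 ha).1
  have tB := (DicksonRational.sq_eq_neg_one_of_order_two h2 hb).1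
  have h4 : tr A ^ 2 ≠ 4 := by
    rw [tA]
    intro h
    have : (2 : F) * 2 = 0 := by linear_combination -h
    exact h2 ((mul_eq_zero.mp this).elim id id)
  exact MonoidHom.map_isConj π (isConj_of_tr_eq (tA.trans tB.symm) h4)

theorem four_odd (h2 : (2 : F) ≠ 0) {a b : PSL₂} (ha : orderOf a = 2) (hb : orderOf b = 2)
    (hab : a * b = b * a) (hne : a ≠ b) :
    ∃ h : PSL₂, h * a * h⁻¹ = b ∧ h * b * h⁻¹ = a * b := by
  obtain ⟨U, rfl⟩ := PSL2Proj52.π_surjective a
  obtain ⟨V, rfl⟩ := PSL2Proj52.π_surjective b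
  have sa : π U * π U = 1 := by
    have := pow_orderOf_eq_one (π U); rw [ha, sq] at this; exact this
  have sb : π V * π V = 1 := by
    have := pow_orderOf_eq_one (π V); rw [hb, sq] at this; exact this
  have a1 : π U ≠ 1 := by rintro e; rw [e, orderOf_one] at ha; omega
  have b1 : π V ≠ 1 := by rintro e; rw [e, orderOf_one] at hb; omega
  have hA : DicksonFourGroups.Anti U V :=
    DicksonFourGroups.anti_of_comm h2 sa a1 sb b1 hab hne
  have tU := hA.1
  have tV := hA.tr_right h2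
  have hMM : U.1 * U.1 = -1 := by
    have := congrArg Subtype.val ((sq_eq_neg_one_iff U h2).mpr tU)
    simpa [coe_pow', coe_neg', coe_one', sq] using this
  have hNN : V.1 * V.1 = -1 := by
    have := congrArg Subtype.val ((sq_eq_neg_one_iff V h2).mpr tV)
    simpa [coe_pow', coe_neg', coe_one', sq] using this
  have hNM : V.1 * U.1 = -(U.1 * V.1) := by
    have := congrArg Subtype.val hA.2
    simpa [coe_mul', coe_neg'] using this
  have hk' := congrFun (congrFun hNM 0) 0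
  simp only [Matrix.mul_apply, Fin.sum_univ_two, Matrix.neg_apply] at hk'
  have dU := det_eq U
  have dV := det_eq V
  have u11 : U.1 1 1 = -U.1 0 0 := by simp only [tr] at tU; linear_combination tU
  have v11 : V.1 1 1 = -V.1 0 0 := by simp only [tr] at tV; linear_combination tV
  rw [u11] at dU
  rw [v11] at dV
  obtain ⟨i2, hi⟩ : ∃ i2 : F, 2 * i2 = 1 := ⟨2⁻¹, mul_inv_cancel₀ h2⟩
  set G : Matrix (Fin 2) (Fin 2) F := i2 • (1 + U.1 + V.1 + U.1 * V.1) with hG
  have hdet : G 0 0 * G 1 1 - G 0 1 * G 1 0 = 1 := by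
    simp only [hG, Matrix.smul_apply, Matrix.add_apply, Matrix.mul_apply, Fin.sum_univ_two,
      Matrix.one_apply_eq, Matrix.one_apply_ne (show (0 : Fin 2) ≠ 1 by decide),
      Matrix.one_apply_ne (show (1 : Fin 2) ≠ 0 by decide), smul_eq_mul, u11, v11]
    linear_combination (i2 * i2 * (1 + (V.1 0 0 * -V.1 0 0 - V.1 0 1 * V.1 1 0))) * dU +
      (i2 * i2 * 2) * dV + (2 * i2 + 1) * hi
  have m1 : ∀ X : Matrix (Fin 2) (Fin 2) F, U.1 * (U.1 * X) = -X := fun X => by
    rw [← Matrix.mul_assoc, hMM, neg_mul, one_mul]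
  have n1 : ∀ X : Matrix (Fin 2) (Fin 2) F, V.1 * (V.1 * X) = -X := fun X => by
    rw [← Matrix.mul_assoc, hNN, neg_mul, one_mul]
  have nm : ∀ X : Matrix (Fin 2) (Fin 2) F, V.1 * (U.1 * X) = -(U.1 * (V.1 * X)) := fun X => by
    rw [← Matrix.mul_assoc, hNM, neg_mul, Matrix.mul_assoc]
  let g : SL(2, F) := mk2 (G 0 0) (G 0 1) (G 1 0) (G 1 1) hdet
  have hgv : g.1 = G := (Matrix.eta_fin_two G).symm
  have hg1 : g * U = V * g := by
    apply Subtype.ext
    rw [coe_mul', coe_mul', hgv, hG]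
    simp only [Matrix.smul_mul, Matrix.mul_smul, add_mul, mul_add, one_mul, mul_one,
      Matrix.mul_assoc, hMM, hNN, hNM, m1, n1, nm, mul_neg, neg_mul, neg_neg]
    congr 1
    abel
  have hg2 : g * V = (U * V) * g := by
    apply Subtype.ext
    rw [coe_mul', coe_mul', coe_mul', hgv, hG]
    simp only [Matrix.smul_mul, Matrix.mul_smul, add_mul, mul_add, one_mul, mul_one,
      Matrix.mul_assoc, hMM, hNN, hNM, m1, n1, nm, mul_neg, neg_mul, neg_neg]
    congr 1
    abel
  refine ⟨π g, ?_, ?_⟩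
  · rw [← map_mul, hg1, map_mul, mul_inv_cancel_right]
  · rw [← map_mul, hg2, map_mul, map_mul, mul_inv_cancel_right]

theorem sylow_odd (hq : Odd (Nat.card F)) (P : Sylow 2 PSL₂) :
    ∃ (k : ℕ) (c b : PSL₂), 1 ≤ k ∧ orderOf c = 2 ^ k ∧ DihGen (P : Subgroup PSL₂) c b := by
  haveI : Fact (Nat.Prime 2) := ⟨Nat.prime_two⟩
  have h2 := PSL2SylowTwo.two_ne_zero_of_odd hq
  obtain ⟨Q, hQ⟩ : ∃ Q : Sylow 2 SL(2, F),
      (Q : Subgroup SL(2, F)).map π = (P : Subgroup PSL₂) := by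
    obtain ⟨Q, hQ⟩ := Sylow.mapSurjective_surjective (PSL2Proj52.π_surjective (F := F)) 2 P
    exact ⟨Q, by rw [← hQ]; rfl⟩
  obtain ⟨k, hk, ⟨e⟩⟩ := PSL2SylowTwo.sylow_two_quaternion hq Q
  haveI : NeZero (2 ^ k) := ⟨by positivity⟩
  let ψ : QuaternionGroup (2 ^ k) →* SL(2, F) :=
    (Q : Subgroup SL(2, F)).subtype.comp e.symm.toMonoidHom
  have hinj : Function.Injective ψ := Subtype.val_injective.comp e.symm.injective
  set A₀ : SL(2, F) := ψ (QuaternionGroup.a 1) with hA₀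
  set B₀ : SL(2, F) := ψ (QuaternionGroup.xa 0) with hB₀
  have hoA : orderOf A₀ = 2 * 2 ^ k := by
    rw [hA₀, orderOf_injective ψ hinj, QuaternionGroup.orderOf_a_one]
  have hpow : ∀ n : ℕ, A₀ ^ n = ψ (QuaternionGroup.a (n : ZMod (2 * 2 ^ k))) := fun n => by
    rw [hA₀, ← map_pow, QuaternionGroup.a_one_pow]
  have hneg : A₀ ^ (2 ^ k) = -1 := by
    have hsq : (A₀ ^ (2 ^ k)) ^ 2 = 1 := by
      rw [← pow_mul, Nat.mul_comm]
      exact orderOf_dvd_iff_pow_eq_one.mp (dvd_of_eq hoA)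
    refine (eq_one_or_neg_one_of_sq_eq_one h2 hsq).resolve_left fun h => ?_
    have h' := orderOf_dvd_of_pow_eq_one h
    rw [hoA] at h'
    have := Nat.le_of_dvd (by positivity) h'
    have : 0 < 2 ^ k := by positivity
    omega
  have hmem : ∀ x, π (ψ x) ∈ (P : Subgroup PSL₂) := fun x => by
    rw [← hQ]; exact ⟨ψ x, (e.symm x).2, rfl⟩
  have key : ∀ i : ZMod (2 * 2 ^ k), π (ψ (QuaternionGroup.a i)) ∈ Subgroup.zpowers (π A₀) := by
    intro i
    have := Subgroup.npow_mem_zpowers (π A₀) i.val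
    rwa [← map_pow, hpow, ZMod.natCast_zmod_val] at this
  refine ⟨k, π A₀, π B₀, hk, ?_, hmem _, hmem _, ?_, ?_, ?_, ?_⟩
  · obtain ⟨k', rfl⟩ := Nat.exists_eq_add_of_le' hk
    refine orderOf_eq_prime_pow (p := 2) ?_ ?_
    · rw [← map_pow]
      intro h
      rcases (PSL2Proj52.π_eq_one _).mp h with h' | h'
      · have := Nat.le_of_dvd (by positivity) (orderOf_dvd_of_pow_eq_one h')
        rw [hoA, pow_succ] at this
        have : 0 < 2 ^ k' := by positivity
        omega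
      · rw [← hneg, pow_inj_mod, hoA] at h'
        have : 0 < 2 ^ k' := by positivity
        rw [pow_succ, Nat.mod_eq_of_lt (by omega), Nat.mod_eq_of_lt (by omega)] at h'
        omega
    · rw [← map_pow, hneg, PSL2Proj52.π_neg, map_one]
  · intro hn
    obtain ⟨j, hj⟩ := mem_powers_iff_mem_zpowers.mpr hn
    change π A₀ ^ j = π B₀ at hj
    rw [← map_pow, hpow] at hj
    rcases (PSL2Proj52.π_eq_iff _ _).mp hj with h' | h'
    · simpa using hinj h'
    · rw [← neg_one_mul, ← hneg, hpow, hB₀, ← map_mul] at h'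
      simpa using hinj h'
  · rw [← map_mul, PSL2Proj52.π_eq_one]
    right
    rw [← hneg, hpow, hB₀, ← map_mul, QuaternionGroup.xa_mul_xa]
    simp
  · rw [← map_inv π, ← map_inv π, ← map_mul π, ← map_mul π, hA₀, hB₀, ← map_inv ψ, ← map_inv ψ,
      ← map_mul ψ, ← map_mul ψ]
    congr 2
    rw [mul_inv_eq_iff_eq_mul, eq_inv_mul_iff_mul_eq, QuaternionGroup.xa_mul_a,
      QuaternionGroup.a_mul_xa]
    simp
  · intro x hx
    rw [← hQ] at hx
    obtain ⟨A, hA, rfl⟩ := hx
    have hA' : ψ (e ⟨A, hA⟩) = A := by simp [ψ]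
    rw [← hA']
    rcases e ⟨A, hA⟩ with i | i
    · exact Or.inl (key i)
    · right
      rw [hB₀, ← map_mul, ← map_mul, QuaternionGroup.xa_mul_xa]
      exact key _

theorem two_zero (hev : Even (Nat.card F)) : (2 : F) = 0 := PSL2Proj52.two_eq_of_even hev

theorem inv_conj_even (hev : Even (Nat.card F)) {a b : PSL₂} (ha : orderOf a = 2)
    (hb : orderOf b = 2) : IsConj a b := by
  have h2 := two_zero hev
  haveI : CharP F 2 := CharTwo.of_one_ne_zero_of_two_eq_zero one_ne_zero h2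
  have key : ∀ A : SL(2, F), orderOf (π A) = 2 → ∃ x : F, x ≠ 0 ∧ IsConj A (u x) := by
    intro A hA
    have hinj := PSL2Proj52.π_injective_of_even h2
    rw [orderOf_injective π hinj] at hA
    have hsq : A ^ 2 = 1 := orderOf_dvd_iff_pow_eq_one.mp (dvd_of_eq hA)
    have ht : tr A = 0 := by
      have := congrArg Subtype.val hsq
      rw [coe_pow', sq, sq_eq, coe_one'] at this
      have e : tr A • A.1 = 0 := by
        have h : tr A • A.1 = 1 + 1 := sub_eq_iff_eq_add.mp this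
        rw [h]
        ext i j
        simp [CharTwo.add_self_eq_zero]
      rcases smul_eq_zero.mp e with h | h
      · exact h
      · have := A.2
        rw [h, Matrix.det_zero] at this
        exact absurd this zero_ne_one
    obtain ⟨x, hx⟩ := isConj_u_of_tr_two (A := A) (by rw [ht, h2])
    refine ⟨x, fun h => ?_, hx⟩
    rw [h, u_zero, isConj_one_left] at hx
    rw [hx, orderOf_one] at hA
    omega
  obtain ⟨A, rfl⟩ := PSL2Proj52.π_surjective a
  obtain ⟨B, rfl⟩ := PSL2Proj52.π_surjective b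
  obtain ⟨x, hx, hA⟩ := key A ha
  obtain ⟨y, hy, hB⟩ := key B hb
  obtain ⟨r, hr⟩ := FiniteField.isSquare_of_char_two (F := F) (ringChar.eq F 2) (y / x)
  have hr0 : r ≠ 0 := fun h => by
    rw [h, mul_zero, div_eq_zero_iff] at hr
    rcases hr with h' | h'
    · exact hy h'
    · exact hx h'
  have := u_conj_square (Units.mk0 r hr0) x
  rw [Units.val_mk0, sq, ← hr, div_mul_cancel₀ y hx] at this
  exact MonoidHom.map_isConj π ((hA.trans this).trans hB.symm)

theorem sylow_even (hev : Even (Nat.card F)) (hF : 3 < Nat.card F) (P : Sylow 2 PSL₂) :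
    ∃ (n : ℕ) (c : PSL₂), 2 ≤ n ∧ Nat.card (P : Subgroup PSL₂) = 2 ^ n ∧
      (∀ x ∈ (P : Subgroup PSL₂), x * x = 1) ∧ TorusAct (P : Subgroup PSL₂) c := by
  haveI : Fact (Nat.Prime 2) := ⟨Nat.prime_two⟩
  have h2 := two_zero hev
  haveI : CharP F 2 := CharTwo.of_one_ne_zero_of_two_eq_zero one_ne_zero h2
  have hinj := PSL2Proj52.π_injective_of_even h2
  obtain ⟨n, -, hn⟩ := PSL2Sylow.card_field_eq (F := F) 2
  have hn2 : 2 ≤ n := by
    by_contra h
    have : 2 ^ n ≤ 2 ^ 1 := Nat.pow_le_pow_right (by norm_num) (by omega)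
    omega
  let e : SL(2, F) ≃* PSL₂ := MulEquiv.ofBijective π ⟨hinj, PSL2Proj52.π_surjective⟩
  obtain ⟨Q₀, hQ₀⟩ := PSL2Sylow.exists_sylow_eq_uSub (F := F) 2
  let P₀ : Sylow 2 PSL₂ := Q₀.mapSurjective (f := e.toMonoidHom) e.surjective
  have hP₀ : (P₀ : Subgroup PSL₂) = (PSL2Sylow.uSub F).map e.toMonoidHom := by
    rw [← hQ₀]; rfl
  obtain ⟨g₀, hg₀⟩ := MulAction.exists_smul_eq PSL₂ P₀ P
  have hP : (P : Subgroup PSL₂) = (P₀ : Subgroup PSL₂).map (MulAut.conj g₀).toMonoidHom := by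
    rw [← hg₀, Sylow.coe_subgroup_smul]; rfl
  obtain ⟨z, hz⟩ := IsCyclic.exists_generator (α := Fˣ)
  have act : ∀ (a : Fˣ) (x : F), e (d a) * e (u x) * (e (d a))⁻¹ = e (u ((a : F) ^ 2 * x)) :=
    fun a x => by rw [← map_mul, ← map_inv, ← map_mul, d_conj_u]
  have hpow : ∀ i : ℕ, e (d z) ^ i = e (d (z ^ i)) := fun i => by
    rw [← map_pow]; exact congrArg e (map_pow dHom z i).symm
  have hmem : ∀ x, x ∈ (P₀ : Subgroup PSL₂) ↔ ∃ y : F, e (u y) = x := by
    intro x
    rw [hP₀]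
    constructor
    · rintro ⟨g, hg, rfl⟩
      obtain ⟨y, rfl⟩ := PSL2Sylow.mem_uSub.mp hg
      exact ⟨y, rfl⟩
    · rintro ⟨y, rfl⟩
      exact ⟨u y, PSL2Sylow.mem_uSub.mpr ⟨y, rfl⟩, rfl⟩
  have hT : TorusAct (P₀ : Subgroup PSL₂) (e (d z)) := by
    refine ⟨?_, ?_, ?_⟩
    · intro x hx
      obtain ⟨y, rfl⟩ := (hmem x).mp hx
      rw [act]; exact (hmem _).mpr ⟨_, rfl⟩
    · intro a ha b hb a1 b1
      obtain ⟨x, rfl⟩ := (hmem a).mp ha
      obtain ⟨y, rfl⟩ := (hmem b).mp hb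
      have hx : x ≠ 0 := fun h => a1 (by rw [h, u_zero, map_one])
      have hy : y ≠ 0 := fun h => b1 (by rw [h, u_zero, map_one])
      obtain ⟨r, hr⟩ := FiniteField.isSquare_of_char_two (F := F) (ringChar.eq F 2) (y / x)
      have hr0 : r ≠ 0 := fun h => by
        rw [h, mul_zero, div_eq_zero_iff] at hr
        exact hr.elim hy hx
      obtain ⟨i, hi⟩ := mem_powers_iff_mem_zpowers.mpr (hz (Units.mk0 r hr0))
      refine ⟨i, ?_⟩
      change z ^ i = Units.mk0 r hr0 at hi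
      rw [hpow, act, hi, Units.val_mk0, sq, ← hr, div_mul_cancel₀ y hx]
    · intro g hg
      obtain ⟨A, rfl⟩ := e.surjective g
      have hA : A ∈ Subgroup.normalizer (PSL2Sylow.uSub F : Set SL(2, F)) := by
        apply mem_normalizer_of_conj
        intro C hC
        obtain ⟨y, rfl⟩ := PSL2Sylow.mem_uSub.mp hC
        obtain ⟨w', hw⟩ := (hmem _).mp (hg _ ((hmem _).mpr ⟨y, rfl⟩))
        refine PSL2Sylow.mem_uSub.mpr ⟨w', e.injective ?_⟩
        change e (A * u y * A⁻¹) = e (u w')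
        rw [hw, map_mul, map_mul, map_inv]
      rw [PSL2Sylow.normalizer_uSub, PSL2Sylow.mem_borel] at hA
      have hd := det_eq A
      rw [hA, mul_zero, sub_zero] at hd
      have ha : A.1 0 0 ≠ 0 := left_ne_zero_of_mul_eq_one hd
      obtain ⟨i, hi⟩ := mem_powers_iff_mem_zpowers.mpr (hz (Units.mk0 _ ha))
      change z ^ i = Units.mk0 _ ha at hi
      refine ⟨i, fun x hx => ?_⟩
      obtain ⟨y, rfl⟩ := (hmem x).mp hx
      rw [hpow, act, hi, Units.val_mk0, ← map_mul, ← map_inv, ← map_mul]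
      congr 1
      rw [mul_inv_eq_iff_eq_mul]
      apply ext2 <;> rw [mul_apply2, mul_apply2] <;> simp [u, mk2, hA] <;>
        linear_combination (-(A.1 0 0 * y)) * hd
  refine ⟨n, MulAut.conj g₀ (e (d z)), hn2, ?_, ?_, ?_⟩
  · rw [hP, Subgroup.card_map_of_injective (MulAut.conj g₀).injective, hP₀,
      Subgroup.card_map_of_injective (f := e.toMonoidHom) e.injective, PSL2Sylow.card_uSub, hn]
  · intro x hx
    rw [hP] at hx
    obtain ⟨y, hy, rfl⟩ := hx
    obtain ⟨w', rfl⟩ := (hmem y).mp hy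
    rw [← map_mul, ← map_mul e, u_mul, CharTwo.add_self_eq_zero, u_zero, map_one, map_one]
  · rw [hP]; exact hT.map (MulAut.conj g₀)

theorem sylow_klein (hq : Odd (Nat.card F)) (P : Sylow 2 PSL₂) {c b : PSL₂}
    (h : DihGen (P : Subgroup PSL₂) c b) (hc : orderOf c = 2) :
    Nat.card (P : Subgroup PSL₂) = 2 ^ 2 ∧ (∀ x ∈ (P : Subgroup PSL₂), x * x = 1) ∧
      ∃ g : PSL₂, TorusAct (P : Subgroup PSL₂) g := by
  classical
  haveI : Fact (Nat.Prime 2) := ⟨Nat.prime_two⟩
  have h2 := PSL2SylowTwo.two_ne_zero_of_odd hq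
  have hcc : c * c = 1 := by rw [← sq]; exact orderOf_dvd_iff_pow_eq_one.mp (dvd_of_eq hc)
  have hzc : ∀ x ∈ Subgroup.zpowers c, x = 1 ∨ x = c := by
    intro x hx
    obtain ⟨j, rfl⟩ := mem_powers_iff_mem_zpowers.mpr hx
    change c ^ j = 1 ∨ c ^ j = c
    rw [← pow_mod_orderOf, hc]
    rcases Nat.mod_two_eq_zero_or_one j with e | e <;> simp [e]
  have hb1 : b ≠ 1 := fun e => h.b_notMem (e ▸ one_mem _)
  have hbc : b ≠ c := fun e => h.b_notMem (e ▸ Subgroup.mem_zpowers c)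
  have hci : c⁻¹ = c := inv_eq_of_mul_eq_one_right hcc
  have hcomm : c * b = b * c := by
    have := h.conj
    rw [hci, mul_inv_eq_iff_eq_mul] at this
    exact this.symm
  have hbo : orderOf b = 2 := orderOf_eq_prime (by rw [sq]; exact h.b_sq) hb1
  have hbbi : b⁻¹ = b := inv_eq_of_mul_eq_one_right h.b_sq
  have hel : ∀ x ∈ (P : Subgroup PSL₂), x = 1 ∨ x = c ∨ x = b ∨ x = c * b := by
    intro x hx
    rcases h.cover x hx with e | e
    · rcases hzc x e with e | e
      · exact Or.inl e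
      · exact Or.inr (Or.inl e)
    · rcases hzc _ e with e | e
      · exact Or.inr (Or.inr (Or.inl (by rw [eq_inv_of_mul_eq_one_right e, hbbi])))
      · refine Or.inr (Or.inr (Or.inr ?_))
        rw [hcomm, ← e, ← mul_assoc, h.b_sq, one_mul]
  have c1 : c ≠ 1 := fun e => by rw [e, orderOf_one] at hc; omega
  have hcb1 : c * b ≠ 1 := fun e => hbc (by rw [← hci]; exact eq_inv_of_mul_eq_one_right e)
  have hset : ((P : Subgroup PSL₂) : Set PSL₂) = ({1, c, b, c * b} : Set PSL₂) := by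
    ext x
    refine ⟨fun hx => by simpa using hel x hx, fun hx => ?_⟩
    rcases hx with rfl | rfl | rfl | rfl
    exacts [one_mem _, h.c_mem, h.b_mem, mul_mem h.c_mem h.b_mem]
  have hcbb : c * b ≠ b := fun e => c1 (mul_eq_right.mp e)
  have hcbc : c * b ≠ c := fun e => hb1 (mul_eq_left.mp e)
  have hsq : ∀ x ∈ (P : Subgroup PSL₂), x * x = 1 := by
    intro x hx
    rcases hel x hx with rfl | rfl | rfl | rfl
    exacts [one_mul 1, hcc, h.b_sq,
      by rw [mul_assoc, ← mul_assoc b, ← hcomm, mul_assoc c b b, h.b_sq, mul_one, hcc]]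
  refine ⟨?_, hsq, ?_⟩
  · have : Nat.card ((P : Subgroup PSL₂) : Set PSL₂) = 4 := by
      rw [hset, Nat.card_eq_card_toFinset]
      simp [Set.toFinset_insert, c1.symm, hb1.symm, hcb1.symm, hbc.symm, hcbb.symm, hcbc.symm]
    exact this
  obtain ⟨g, g1, g2⟩ := four_odd h2 hc hbo hcomm hbc.symm
  have g3 : g * (c * b) * g⁻¹ = c := by
    rw [show g * (c * b) * g⁻¹ = (g * c * g⁻¹) * (g * b * g⁻¹) by group, g1, g2, hcomm,
      ← mul_assoc, h.b_sq, one_mul]
  have cc : ∀ a b x : PSL₂, (a * b) * x * (a * b)⁻¹ = a * (b * x * b⁻¹) * a⁻¹ := fun a b x => by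
    group
  refine ⟨g, ?_, ?_, ?_⟩
  · intro x hx
    rcases hel x hx with rfl | rfl | rfl | rfl
    · simp
    · rw [g1]; exact h.b_mem
    · rw [g2]; exact mul_mem h.c_mem h.b_mem
    · rw [g3]; exact h.c_mem
  · intro x hx y hy x1 y1
    rcases hel x hx with rfl | rfl | rfl | rfl <;> rcases hel y hy with rfl | rfl | rfl | rfl <;>
      first
      | exact absurd rfl x1
      | exact absurd rfl y1
      | (refine ⟨0, ?_⟩; rw [pow_zero, one_mul, inv_one, mul_one]; done)
      | (refine ⟨1, ?_⟩; rw [pow_one]; assumption)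
      | (refine ⟨2, ?_⟩; rw [pow_two, cc]; simp only [g1, g2, g3])
  · intro k hk
    have fixc : ∀ k : PSL₂, (∀ x ∈ (P : Subgroup PSL₂), k * x * k⁻¹ ∈ (P : Subgroup PSL₂)) →
        k * c * k⁻¹ = c → k * b * k⁻¹ = b := by
      intro k hk hkc
      by_contra hne
      have hkb : k * b * k⁻¹ = c * b := by
        rcases hel _ (hk b h.b_mem) with e | e | e | e
        · exact absurd (conj_eq_one_iff.mp e) hb1
        · exact absurd (mul_left_cancel (mul_right_cancel (e.trans hkc.symm))) hbc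
        · exact absurd e hne
        · exact e
      obtain ⟨a, m, hm, hkm⟩ := Nat.exists_eq_pow_mul_and_not_dvd (orderOf_pos k).ne' 2 (by norm_num)
      set k' := k ^ m with hk'
      have hkcb : k * (c * b) * k⁻¹ = b := by
        rw [show k * (c * b) * k⁻¹ = (k * c * k⁻¹) * (k * b * k⁻¹) by group, hkc, hkb,
          ← mul_assoc, hcc, one_mul]
      have hpows : ∀ j : ℕ, (k ^ j * c * (k ^ j)⁻¹ = c) ∧
          (k ^ (2 * j) * b * (k ^ (2 * j))⁻¹ = b) := by
        intro j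
        induction j with
        | zero => simp
        | succ j ih =>
          refine ⟨by rw [pow_succ', cc, ih.1, hkc], ?_⟩
          rw [show 2 * (j + 1) = 2 * j + 1 + 1 by ring, pow_succ', cc, pow_succ', cc, ih.2, hkb,
            hkcb]
      obtain ⟨r, hr⟩ : ∃ r, m = 2 * r + 1 := ⟨m / 2, by omega⟩
      have hk'c : k' * c * k'⁻¹ = c := (hpows m).1
      have hk'b : k' * b * k'⁻¹ = c * b := by
        rw [hk', hr, pow_succ', cc, (hpows r).2, hkb]
      have hnorm : k' ∈ Subgroup.normalizer ((P : Subgroup PSL₂) : Set PSL₂) := by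
        apply mem_normalizer_of_conj
        intro x hx
        rcases hel x hx with rfl | rfl | rfl | rfl
        · simp
        · rw [hk'c]; exact h.c_mem
        · rw [hk'b]; exact mul_mem h.c_mem h.b_mem
        · rw [show k' * (c * b) * k'⁻¹ = (k' * c * k'⁻¹) * (k' * b * k'⁻¹) by group, hk'c, hk'b]
          exact mul_mem h.c_mem (mul_mem h.c_mem h.b_mem)
      have hpg : IsPGroup 2 (Subgroup.zpowers k') := by
        apply IsPGroup.of_card_dvd_pow (n := a)
        rw [Nat.card_zpowers, orderOf_dvd_iff_pow_eq_one, hk', ← pow_mul, Nat.mul_comm, ← hkm]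
        exact pow_orderOf_eq_one k
      have hle : k' ∈ (P : Subgroup PSL₂) := by
        have := IsPGroup.to_sup_of_normal_left' P.isPGroup' hpg
          ((Subgroup.zpowers_le).mpr hnorm)
        rw [← P.is_maximal' this le_sup_left]
        exact Subgroup.mem_sup_right (Subgroup.mem_zpowers k')
      have hcommP : k' * b * k'⁻¹ = b := by
        rcases hel k' hle with e | e | e | e <;> rw [e]
        · simp
        · rw [hcomm, mul_inv_cancel_right]
        · simp
        · rw [show c * b * b * (c * b)⁻¹ = c * (b * b * b⁻¹) * c⁻¹ by group,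
            mul_inv_cancel_right, hcomm, mul_inv_cancel_right]
      exact hcbb (hk'b.symm.trans hcommP)
    have fin : ∀ i : ℕ, (∀ x ∈ (P : Subgroup PSL₂), g ^ i * x * (g ^ i)⁻¹ ∈ (P : Subgroup PSL₂)) ∧
        (∀ x ∈ (P : Subgroup PSL₂), (g ^ i)⁻¹ * x * g ^ i ∈ (P : Subgroup PSL₂)) := by
      intro i
      have hn : g ^ i ∈ Subgroup.normalizer ((P : Subgroup PSL₂) : Set PSL₂) := by
        apply pow_mem
        apply mem_normalizer_of_conj
        intro x hx
        rcases hel x hx with rfl | rfl | rfl | rfl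
        · simp
        · rw [g1]; exact h.b_mem
        · rw [g2]; exact mul_mem h.c_mem h.b_mem
        · rw [g3]; exact h.c_mem
      exact ⟨fun x hx => (Subgroup.mem_normalizer_iff.mp hn x).mp hx,
        fun x hx => (Subgroup.mem_normalizer_iff''.mp hn x).mp hx⟩
    obtain ⟨i, hi⟩ : ∃ i : ℕ, k * c * k⁻¹ = g ^ i * c * (g ^ i)⁻¹ := by
      rcases hel _ (hk c h.c_mem) with e | e | e | e
      · exact absurd (conj_eq_one_iff.mp e) c1
      · exact ⟨0, by simp [e]⟩
      · exact ⟨1, by rw [e, pow_one, g1]⟩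
      · exact ⟨2, by rw [e, pow_two, cc, g1, g2]⟩
    refine ⟨i, ?_⟩
    have hkc : ((g ^ i)⁻¹ * k) * c * ((g ^ i)⁻¹ * k)⁻¹ = c := by
      rw [cc, hi, inv_inv]; group
    have hk'' : ∀ x ∈ (P : Subgroup PSL₂),
        ((g ^ i)⁻¹ * k) * x * ((g ^ i)⁻¹ * k)⁻¹ ∈ (P : Subgroup PSL₂) := fun x hx => by
      rw [cc, inv_inv]; exact (fin i).2 _ (hk x hx)
    have hkb := fixc _ hk'' hkc
    have back : ∀ x : PSL₂, ((g ^ i)⁻¹ * k) * x * ((g ^ i)⁻¹ * k)⁻¹ = x →
        k * x * k⁻¹ = g ^ i * x * (g ^ i)⁻¹ := fun x hx => by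
      conv_rhs => rw [← hx]
      group
    intro x hx
    apply back
    rcases hel x hx with rfl | rfl | rfl | rfl
    · simp
    · exact hkc
    · exact hkb
    · rw [← conj_mul, hkc, hkb]

end Cfsg.Agent.JTPsl62
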