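import Mathlib
import Cfsg.Agent.Lib.PSL2Classes52

/-!
Centralisers in `PSL(2, q)` for the small values of `q`: non-cyclic subgroups are self-centralising.
-/

set_option autoImplicit false
set_option linter.style.haveILetI false

namespace Cfsg.Agent.SelfCent54

open Cfsg.Agent.PSL2Elements Cfsg.Agent.PSL2Proj52 Cfsg.Agent.PSL2Classes52
open Matrix
open scoped MatrixGroups

/-- Non-cyclic subgroups contain their centralisers. -/
def SelfCent (G : Type*) [Group G] : Prop :=
  ∀ H : Subgroup G, ¬ IsCyclic ↥H → Subgroup.centralizer (H : Set G) ≤ H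

theorem selfCent_of_equiv {G G' : Type*} [Group G] [Group G'] (e : G ≃* G') (h : SelfCent G') :
    SelfCent G := by
  intro H hH x hx
  have hH' : ¬ IsCyclic ↥(H.map e.toMonoidHom) := fun hc =>
    hH ((H.equivMapOfInjective e.toMonoidHom e.injective).isCyclic.2 hc)
  have hx' : e x ∈ Subgroup.centralizer ((H.map e.toMonoidHom : Subgroup G') : Set G') := by
    rw [Subgroup.mem_centralizer_iff]
    rintro _ ⟨y, hy, rfl⟩
    have := Subgroup.mem_centralizer_iff.1 hx y hy
    simpa using congrArg e this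
  obtain ⟨y, hy, hxy⟩ := h _ hH' hx'
  rwa [← e.injective hxy]

/-- A non-cyclic subgroup of a group of order a prime or the square of a prime is everything. -/
theorem eq_of_noncyclic_le {G : Type*} [Group G] [Finite G] {H C : Subgroup G} (hle : H ≤ C)
    (hH : ¬ IsCyclic ↥H) {r : ℕ} (hr : r.Prime) (hC : Nat.card C = r ∨ Nat.card C = r ^ 2) :
    H = C := by
  haveI : Fact r.Prime := ⟨hr⟩
  refine Subgroup.eq_of_le_of_card_ge hle ?_
  have hd : Nat.card H ∣ r ^ 2 := by
    refine (Subgroup.card_dvd_of_le hle).trans ?_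
    rcases hC with h | h <;> rw [h]
    exact dvd_pow_self r two_ne_zero
  obtain ⟨i, hi, he⟩ := (Nat.dvd_prime_pow hr).1 hd
  interval_cases i
  · exfalso
    rw [pow_zero] at he
    haveI := (Nat.card_eq_one_iff_unique.1 he).1
    exact hH isCyclic_of_subsingleton
  · exfalso
    rw [pow_one] at he
    exact hH (isCyclic_of_prime_card he)
  · rw [he]
    rcases hC with h | h <;> rw [h]
    exact Nat.le_self_pow two_ne_zero r

/-- In a `2`-group with a cyclic subgroup `K` absorbing products of outside elements, the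
involution of `K` lies in every non-cyclic subgroup. -/
theorem mem_of_noncyclic {G : Type*} [Group G] [Finite G] {K H : Subgroup G} [IsCyclic K] {c : G}
    (hc : orderOf c = 2) (hcK : c ∈ K) (hprod : ∀ g ∈ H, ∀ h ∈ H, g ∉ K → h ∉ K → g * h ∈ K)
    (h2 : ∀ g ∈ H, ∃ j : ℕ, orderOf g = 2 ^ j) (hH : ¬ IsCyclic ↥H) : c ∈ H := by
  classical
  by_cases hex : ∃ h ∈ H, h ∈ K ∧ h ≠ 1
  · obtain ⟨h, hhH, hhK, hh1⟩ := hex
    obtain ⟨j, hj⟩ := h2 h hhH
    rcases j with _ | j
    · exact absurd (orderOf_eq_one_iff.1 (by rw [hj, pow_zero])) hh1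
    have h3 : orderOf (h ^ 2 ^ j) = 2 := by
      rw [orderOf_pow' h (pow_ne_zero _ two_ne_zero), hj,
        Nat.gcd_eq_right (pow_dvd_pow 2 (Nat.le_succ j)), pow_succ, Nat.mul_div_cancel_left _ (by positivity)]
    have h4 : (h ^ 2 ^ j) = c := by
      haveI := Fintype.ofFinite K
      have ha : orderOf (⟨h ^ 2 ^ j, K.pow_mem hhK _⟩ : K) = 2 := by rw [Subgroup.orderOf_mk, h3]
      have hb : orderOf (⟨c, hcK⟩ : K) = 2 := by rw [Subgroup.orderOf_mk, hc]
      have hcard := IsCyclic.card_orderOf_eq_totient (α := K)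
        (d := 2) (by rw [← Nat.card_eq_fintype_card]; exact ha ▸ orderOf_dvd_natCard _)
      rw [Nat.totient_two, Finset.card_eq_one] at hcard
      obtain ⟨w, hw⟩ := hcard
      have e1 : (⟨h ^ 2 ^ j, K.pow_mem hhK _⟩ : K) ∈ ({w} : Finset K) := by rw [← hw]; simp [ha]
      have e2 : (⟨c, hcK⟩ : K) ∈ ({w} : Finset K) := by rw [← hw]; simp [hb]
      rw [Finset.mem_singleton] at e1 e2
      exact congrArg Subtype.val (e1.trans e2.symm)
    exact h4 ▸ H.pow_mem hhH _
  · exfalso
    push Not at hex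
    rcases H.bot_or_exists_ne_one with rfl | ⟨h, hhH, hh1⟩
    · exact hH isCyclic_of_subsingleton
    · have hhK : h ∉ K := fun h' => hh1 (hex h hhH h')
      have hle : H = Subgroup.zpowers h := by
        refine le_antisymm (fun g hg => ?_) (Subgroup.zpowers_le.2 hhH)
        by_cases hgK : g ∈ K
        · rw [hex g hg hgK]; exact Subgroup.one_mem _
        · have := hex _ (H.mul_mem hg hhH) (hprod g hg h hhH hgK hhK)
          rw [eq_inv_of_mul_eq_one_left this]
          exact Subgroup.inv_mem _ (Subgroup.mem_zpowers h)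
      exact hH (hle ▸ inferInstance)

variable {F : Type*} [Field F]

theorem card_centralizer [Finite F] (g : ProjectiveSpecialLinearGroup (Fin 2) F) :
    Nat.card (Subgroup.centralizer ({g} : Set (ProjectiveSpecialLinearGroup (Fin 2) F))) * size g *
      Nat.gcd 2 (Nat.card F - 1) = Nat.card F * (Nat.card F ^ 2 - 1) := by
  rw [size, Subgroup.card_mul_index, ← PSLCard.card_PSL2_mul, mul_comm]

theorem card_centralizer_unipotent [Finite F] {g : ProjectiveSpecialLinearGroup (Fin 2) F}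
    (h : size g = (Nat.card F ^ 2 - 1) / Nat.gcd 2 (Nat.card F - 1)) :
    Nat.card (Subgroup.centralizer ({g} : Set (ProjectiveSpecialLinearGroup (Fin 2) F))) = Nat.card F := by
  have hc := card_centralizer g
  have hd : Nat.gcd 2 (Nat.card F - 1) ∣ Nat.card F ^ 2 - 1 :=
    (Nat.gcd_dvd_right _ _).trans ⟨Nat.card F + 1, by rw [mul_comm, ← Nat.sq_sub_sq, one_pow]⟩
  rw [h, mul_assoc, Nat.div_mul_cancel hd] at hc
  refine Nat.eq_of_mul_eq_mul_right ?_ hc
  have h1 := PSLCard.one_lt_card F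
  have : 1 < Nat.card F ^ 2 := Nat.one_lt_pow two_ne_zero h1
  omega

theorem card_centralizer_tr_zero [Finite F] (h2 : (2 : F) ≠ 0) {A : SL(2, F)} (hA : tr A = 0) :
    Nat.card (Subgroup.centralizer ({π A} : Set (ProjectiveSpecialLinearGroup (Fin 2) F))) =
      Nat.card (Subgroup.centralizer ({A} : Set SL(2, F))) := by
  have hs := size_tr_zero h2 (k := Nat.card (Subgroup.centralizer ({A} : Set SL(2, F)))) rfl hA
  have hc := card_centralizer (π A)
  have hg : Nat.gcd 2 (Nat.card F - 1) = 2 := by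
    refine Nat.gcd_eq_left ?_
    have hodd : ¬ Even (Nat.card F) := fun he => h2 (two_eq_of_even he)
    obtain ⟨m, hm⟩ := Nat.not_even_iff_odd.1 hodd
    omega
  rw [← hs, hg] at hc
  have hpos : 0 < size (π A) := Nat.pos_of_ne_zero Subgroup.index_ne_zero_of_finite
  refine Nat.eq_of_mul_eq_mul_right (Nat.mul_pos hpos two_pos) ?_
  rw [← mul_assoc, hc]
  ring

/-- The order of the centraliser of an involution is a power of `2` for these values of `q`. -/
theorem two_pow_of_shape {q : ℕ} (hodd : Odd q)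
    (hq : q = 4 ∨ q = 9 ∨ (q.Prime ∧ ∃ k : ℕ, q = 2 ^ k + 1 ∨ q = 2 ^ k - 1)) :
    (q % 4 ≠ 3 → ∃ m : ℕ, q - 1 = 2 ^ m) ∧ (q % 4 = 3 → ∃ m : ℕ, q + 1 = 2 ^ m) := by
  obtain ⟨j, hj⟩ := hodd
  rcases hq with h | h | ⟨hp, k, hk⟩
  · omega
  · exact ⟨fun _ => ⟨3, by omega⟩, fun h' => by omega⟩
  have h2 := hp.two_le
  rcases k with _ | _ | k
  · simp at hk; omega
  · simp at hk
    have : q = 3 := by omega
    exact ⟨fun h' => by omega, fun _ => ⟨2, by omega⟩⟩
  · have h4 : 2 ^ (k + 2) = 4 * 2 ^ k := by rw [pow_add]; ring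
    have := Nat.one_le_two_pow (n := k)
    rcases hk with hk | hk <;> rw [h4] at hk
    · exact ⟨fun _ => ⟨k + 2, by omega⟩, fun h' => by omega⟩
    · exact ⟨fun h' => by omega, fun _ => ⟨k + 2, by omega⟩⟩

/-- The converse: these groups have self-centralising non-cyclic subgroups. -/
theorem psl2_selfCent [Finite F]
    (hq : Nat.card F = 4 ∨ Nat.card F = 9 ∨
      ((Nat.card F).Prime ∧ ∃ k : ℕ, Nat.card F = 2 ^ k + 1 ∨ Nat.card F = 2 ^ k - 1)) :
    SelfCent (ProjectiveSpecialLinearGroup (Fin 2) F) := by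
  classical
  intro H hH c hc
  by_contra hcH
  have hc1 : c ≠ 1 := fun e => hcH (e ▸ H.one_mem)
  have hHC : H ≤ Subgroup.centralizer ({c} : Set (ProjectiveSpecialLinearGroup (Fin 2) F)) := fun x hx =>
    Subgroup.mem_centralizer_singleton_iff.2 (Subgroup.mem_centralizer_iff.1 hc x hx)
  have hcC : c ∈ Subgroup.centralizer ({c} : Set (ProjectiveSpecialLinearGroup (Fin 2) F)) :=
    Subgroup.mem_centralizer_singleton_iff.2 rfl
  rcases size_cases hc1 with hs | ⟨A, rfl, hA4⟩
  · -- unipotent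
    obtain ⟨r, hr, hcard⟩ : ∃ r : ℕ, r.Prime ∧ (Nat.card F = r ∨ Nat.card F = r ^ 2) := by
      rcases hq with h | h | ⟨h, -⟩
      · exact ⟨2, Nat.prime_two, Or.inr h⟩
      · exact ⟨3, Nat.prime_three, Or.inr h⟩
      · exact ⟨_, h, Or.inl rfl⟩
    have hC := card_centralizer_unipotent hs
    rw [← hC] at hcard
    exact hcH (eq_of_noncyclic_le hHC hH hr hcard ▸ hcC)
  obtain ⟨hcyc, hk⟩ := centralizer_semisimple hA4
  have hKcyc : IsCyclic ↥((Subgroup.centralizer ({A} : Set SL(2, F))).map π) :=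
    isCyclic_of_surjective (π.subgroupMap (Subgroup.centralizer ({A} : Set SL(2, F))))
      (π.subgroupMap_surjective _)
  have hmem : ∀ B : SL(2, F), π B ∈ Subgroup.centralizer ({π A} : Set (ProjectiveSpecialLinearGroup (Fin 2) F)) →
      B * A = A * B ∨ B * A = -(A * B) := fun B hB => (mem_pre A B).1 hB
  by_cases hcase : tr A ≠ 0 ∨ (2 : F) = 0
  · apply hH
    refine Subgroup.isCyclic_of_le (H' := (Subgroup.centralizer ({A} : Set SL(2, F))).map π) ?_
    intro x hx
    obtain ⟨B, rfl⟩ := π_surjective x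
    refine ⟨B, Subgroup.mem_centralizer_singleton_iff.2 ((hmem B (hHC hx)).elim id fun h => ?_), rfl⟩
    by_cases h2 : (2 : F) = 0
    · rw [h, ← neg_one_mul, neg_one_eq_one h2, one_mul]
    · exfalso
      have e : B * A * B⁻¹ = -A := by rw [h, neg_mul, mul_inv_cancel_right]
      have h1 := congrArg tr e
      rw [tr_conj, tr_neg] at h1
      have h3 : (2 : F) * tr A = 0 := by linear_combination h1
      exact hcase.elim (fun hA => hA ((mul_eq_zero.1 h3).resolve_left h2)) h2
  rw [not_or, not_not] at hcase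
  obtain ⟨htr, h2⟩ := hcase
  haveI := Fintype.ofFinite F
  have hodd : Odd (Nat.card F) := Nat.not_even_iff_odd.1 fun he => h2 (two_eq_of_even he)
  have hshape := two_pow_of_shape hodd hq
  obtain ⟨m, hm⟩ : ∃ m, Nat.card (Subgroup.centralizer
      ({π A} : Set (ProjectiveSpecialLinearGroup (Fin 2) F))) = 2 ^ m := by
    rw [card_centralizer_tr_zero h2 htr]
    rcases hk with ⟨⟨r, hr⟩, hcard⟩ | ⟨hns, hcard⟩ <;> rw [hcard]
    · refine hshape.1 fun h3 => ?_
      rw [Nat.card_eq_fintype_card] at h3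
      exact (FiniteField.isSquare_neg_one_iff (F := F)).1 ⟨r, by rw [htr] at hr; linear_combination -hr⟩ h3
    · refine hshape.2 (by_contra fun h3 => ?_)
      rw [Nat.card_eq_fintype_card] at h3
      obtain ⟨r, hr⟩ := (FiniteField.isSquare_neg_one_iff (F := F)).2 h3
      exact hns r (by rw [htr]; linear_combination -hr)
  refine hcH (mem_of_noncyclic (K := (Subgroup.centralizer ({A} : Set SL(2, F))).map π) ?_
    ⟨A, Subgroup.mem_centralizer_singleton_iff.2 rfl, rfl⟩ ?_ ?_ hH)
  · refine orderOf_eq_prime ?_ hc1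
    rw [← map_pow, (sq_eq_neg_one_iff A h2).2 htr, π_neg, map_one]
  · intro g hg h hh hgK hhK
    obtain ⟨B, rfl⟩ := π_surjective g
    obtain ⟨B', rfl⟩ := π_surjective h
    refine ⟨B * B', Subgroup.mem_centralizer_singleton_iff.2 ?_, map_mul _ _ _⟩
    have e1 := (hmem B (hHC hg)).resolve_left fun e =>
      hgK ⟨B, Subgroup.mem_centralizer_singleton_iff.2 e, rfl⟩
    have e2 := (hmem B' (hHC hh)).resolve_left fun e =>
      hhK ⟨B', Subgroup.mem_centralizer_singleton_iff.2 e, rfl⟩
    rw [mul_assoc, e2, mul_neg, ← mul_assoc, e1, neg_mul, neg_neg, mul_assoc]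
  · intro g hg
    have hd : orderOf g ∣ 2 ^ m := by
      rw [← hm]
      have := orderOf_dvd_natCard (⟨g, hHC hg⟩ :
        Subgroup.centralizer ({π A} : Set (ProjectiveSpecialLinearGroup (Fin 2) F)))
      rwa [Subgroup.orderOf_mk] at this
    obtain ⟨j, -, hj⟩ := (Nat.dvd_prime_pow Nat.prime_two).1 hd
    exact ⟨j, hj⟩

end Cfsg.Agent.SelfCent54
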