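import Mathlib
import Cfsg.Prelude
import Cfsg.Agent.Lib.CNFacts57
import Cfsg.Agent.Lib.JTPsl62
import Cfsg.Agent.Lib.SelfCentPSL54
import Cfsg.Agent.Lib.DicksonFourGroups
import Cfsg.Agent.Lib.PSL2Sylow
import Cfsg.Agent.Lib.CNSuzukiIso57

/-!
The data for `PSL₂(q)`.
-/

set_option autoImplicit false
set_option linter.style.haveILetI false
set_option linter.unusedSectionVars false

namespace Cfsg.Agent.CNFactsPSL57

open Cfsg.Agent.PSL2Elements Cfsg.Agent.PSL2Classes52
open scoped MatrixGroups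

variable {F : Type*} [Field F] [Finite F]

local notation "π" => QuotientGroup.mk' (Subgroup.center SL(2, F))
local notation "PSL₂" => Matrix.ProjectiveSpecialLinearGroup (Fin 2) F

theorem sq_of_order_two {j : PSL₂} (hj : orderOf j = 2) : j * j = 1 := by
  have := pow_orderOf_eq_one j
  rwa [hj, pow_two] at this

theorem one_class (a b : PSL₂) (ha : orderOf a = 2) (hb : orderOf b = 2) : IsConj a b := by
  by_cases h2 : (2 : F) = 0
  · exact JTPsl62.inv_conj_even (Nat.not_odd_iff_even.mp fun ho => by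
      haveI : CharP F 2 := CharTwo.of_one_ne_zero_of_two_eq_zero one_ne_zero h2
      obtain ⟨n, hn0, hn⟩ := PSL2Sylow.card_field_eq (F := F) 2
      rw [hn] at ho
      exact Nat.not_even_iff_odd.mpr ho ((Nat.even_pow).mpr ⟨even_two, by omega⟩)) ha hb
  obtain ⟨A, rfl⟩ := PSL2Proj52.π_surjective a
  obtain ⟨B, rfl⟩ := PSL2Proj52.π_surjective b
  have key : ∀ C : SL(2, F), orderOf (π C) = 2 → tr C = 0 := fun C hC =>
    DicksonFourGroups.tr_zero_of_sq h2 (sq_of_order_two hC)
      (fun e => by rw [e, orderOf_one] at hC; omega)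
  exact MonoidHom.map_isConj π
    ((isConj_w_of_tr_zero h2 (key A ha)).trans (isConj_w_of_tr_zero h2 (key B hb)).symm)

/-- Lifts of elements of order three have trace `-1`. -/
theorem exists_lift_three {x : PSL₂} (hx : orderOf x = 3) :
    ∃ B : SL(2, F), π B = x ∧ tr B = -1 := by
  obtain ⟨A, rfl⟩ := PSL2Proj52.π_surjective x
  have h3 : π (A ^ 3) = 1 := by rw [map_pow, ← hx, pow_orderOf_eq_one]
  have hx1 : π A ≠ 1 := fun e => by rw [e, orderOf_one] at hx; omega
  obtain ⟨B, hB, hB3⟩ : ∃ B : SL(2, F), π B = π A ∧ B ^ 3 = 1 := by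
    rcases (PSL2Proj52.π_eq_one _).mp h3 with h | h
    · exact ⟨A, rfl, h⟩
    · exact ⟨-A, (PSL2Proj52.π_eq_iff _ _).mpr (Or.inr rfl), by rw [Odd.neg_pow (by decide), h, neg_neg]⟩
  refine ⟨B, hB, ?_⟩
  have hB1 : B ≠ 1 := fun e => hx1 (by rw [← hB, e, map_one])
  set M : Matrix (Fin 2) (Fin 2) F := B.1 with hM
  have hM3 : M * M * M = 1 := by
    have := congrArg Subtype.val hB3
    rwa [coe_pow', coe_one', pow_three', ← hM] at this
  have hsq : M * M = tr B • M - 1 := sq_eq B
  rw [hsq, sub_mul, smul_mul_assoc, hsq, one_mul, smul_sub, smul_smul] at hM3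
  have hcub : (tr B * tr B - 1) • M = (tr B + 1) • (1 : Matrix (Fin 2) (Fin 2) F) := by
    calc (tr B * tr B - 1) • M
        = ((tr B * tr B) • M - tr B • (1 : Matrix (Fin 2) (Fin 2) F) - M) +
          tr B • (1 : Matrix (Fin 2) (Fin 2) F) := by rw [sub_smul, one_smul]; abel
      _ = 1 + tr B • (1 : Matrix (Fin 2) (Fin 2) F) := by rw [hM3]
      _ = (tr B + 1) • (1 : Matrix (Fin 2) (Fin 2) F) := by rw [add_smul, one_smul]; abel
  by_contra htr
  have h1 : tr B + 1 ≠ 0 := fun h => htr (eq_neg_of_add_eq_zero_left h)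
  have h2 : tr B * tr B - 1 = (tr B + 1) * (tr B - 1) := by ring
  rw [h2, mul_smul] at hcub
  have hcu : (tr B - 1) • M = 1 := by
    have := congrArg ((tr B + 1)⁻¹ • ·) hcub
    simpa [inv_smul_smul₀ h1] using this
  have hd : tr B - 1 ≠ 0 := fun h => by rw [h, zero_smul] at hcu; exact one_ne_zero hcu.symm
  have hMs : M = (tr B - 1)⁻¹ • (1 : Matrix (Fin 2) (Fin 2) F) := by
    rw [← hcu, inv_smul_smul₀ hd]
  have hcen : B ∈ Subgroup.center SL(2, F) := by
    rw [Subgroup.mem_center_iff]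
    intro g
    apply Subtype.ext
    simp only [Matrix.SpecialLinearGroup.coe_mul, ← hM, hMs, Matrix.smul_mul, Matrix.mul_smul,
      one_mul, mul_one]
  exact hx1 (by rw [← hB]; exact (QuotientGroup.eq_one_iff B).mpr hcen)

theorem conj_three (h3 : (3 : F) ≠ 0) {x y : PSL₂} (hx : orderOf x = 3) (hy : orderOf y = 3) :
    IsConj x y := by
  obtain ⟨A, rfl, hA⟩ := exists_lift_three hx
  obtain ⟨B, rfl, hB⟩ := exists_lift_three hy
  refine MonoidHom.map_isConj π (isConj_of_tr_eq (hA.trans hB.symm) ?_)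
  rw [hA]
  intro h
  exact h3 (by linear_combination -h)

/-- The data for `PSL₂(q)`, `3 ∤ q`. -/
theorem facts_three (h3 : (3 : F) ≠ 0)
    (hcit : ∀ j : PSL₂, orderOf j = 2 → IsPGroup 2 (Subgroup.centralizer ({j} : Set PSL₂))) :
    ∃ D : Subgroup PSL₂, Nat.card D = 3 ∧ CNFacts57.Facts PSL₂ D 1 := by
  haveI : Fact (Nat.Prime 3) := ⟨Nat.prime_three⟩
  haveI : Finite PSL₂ := inferInstance
  obtain ⟨x, hx⟩ := exists_prime_orderOf_dvd_card' (G := PSL₂) 3
    (CNSuzukiIso57.three_dvd_psl2 F)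
  have hcard : Nat.card (Subgroup.zpowers x) = 3 := by rw [Nat.card_zpowers, hx]
  have hodd : Odd (Nat.card (Subgroup.zpowers x)) := by rw [hcard]; decide
  refine ⟨Subgroup.zpowers x, hcard, one_class, hodd, fun φ => ?_,
    CNFacts57.cent_of_cit hcit _ hodd, ?_⟩
  · obtain ⟨l, hl⟩ := isConj_iff.mp (conj_three h3 hx (by rw [MulEquiv.orderOf_eq, hx] :
      orderOf (φ x) = 3))
    refine ⟨l, ?_⟩
    rw [MonoidHom.map_zpowers, MonoidHom.map_zpowers]
    simp [MulAut.conj_apply, hl]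
  · obtain ⟨c, hc⟩ := isConj_iff.mp (conj_three h3 hx (by rw [orderOf_inv, hx] : orderOf x⁻¹ = 3))
    have hcN : c ∈ Subgroup.normalizer (Subgroup.zpowers x : Set PSL₂) := by
      refine Subgroup.mem_normalizer_iff_map_conj_eq.2 ?_
      rw [MonoidHom.map_zpowers]
      simp [MulAut.conj_apply, hc]
    rw [pow_one]
    by_contra hne
    have hco : Odd (orderOf c) := (Nat.odd_iff.mpr (by omega)).of_dvd_nat
      (Subgroup.orderOf_dvd_natCard _ hcN)
    have hc2 : Commute (c ^ 2) x := by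
      show c ^ 2 * x = x * c ^ 2
      rw [← mul_inv_eq_iff_eq_mul]
      calc c ^ 2 * x * (c ^ 2)⁻¹ = c * (c * x * c⁻¹) * c⁻¹ := by rw [pow_two]; group
        _ = c * x⁻¹ * c⁻¹ := by rw [hc]
        _ = (c * x * c⁻¹)⁻¹ := by group
        _ = x := by rw [hc, inv_inv]
    obtain ⟨a, ha⟩ := hco
    have hpow : (c ^ 2) ^ (a + 1) = c := by
      rw [← pow_mul, show 2 * (a + 1) = orderOf c + 1 by omega, pow_succ, pow_orderOf_eq_one,
        one_mul]
    have hcx : Commute c x := hpow ▸ hc2.pow_left (a + 1)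
    rw [hcx.eq, mul_inv_cancel_right] at hc
    have : x ^ 2 = 1 := by rw [pow_two]; nth_rewrite 2 [hc]; exact mul_inv_cancel x
    have := Nat.le_of_dvd two_pos (orderOf_dvd_of_pow_eq_one this)
    omega

theorem cit_even (h2 : (2 : F) = 0) :
    ∀ j : PSL₂, orderOf j = 2 → IsPGroup 2 (Subgroup.centralizer ({j} : Set PSL₂)) := by
  intro j hj
  haveI : CharP F 2 := CharTwo.of_one_ne_zero_of_two_eq_zero one_ne_zero h2
  obtain ⟨n, -, hn⟩ := PSL2Sylow.card_field_eq (F := F) 2
  have hj1 : j ≠ 1 := fun e => by rw [e, orderOf_one] at hj; omega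
  rcases size_cases hj1 with hs | ⟨A, rfl, hA4⟩
  · exact IsPGroup.of_card (n := n) ((SelfCent54.card_centralizer_unipotent hs).trans hn)
  · exfalso
    have hh : π (A * A) = 1 := by
      rw [map_mul]; exact sq_of_order_two hj
    have hAA : A * A = 1 := by
      rcases (PSL2Proj52.π_eq_one _).mp hh with h | h
      · exact h
      · rw [h, PSL2Proj52.neg_one_eq_one h2]
    have h := congrArg Subtype.val hAA
    rw [coe_mul', coe_one', sq_eq] at h
    have e : tr A • A.1 = 0 := by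
      have h' : tr A • A.1 = 1 + 1 := sub_eq_iff_eq_add.mp h
      rw [h']
      ext i j
      simp [CharTwo.add_self_eq_zero]
    rcases smul_eq_zero.mp e with ht | ht
    · exact hA4 (by rw [ht, show (4 : F) = 2 * 2 by norm_num, h2]; ring)
    · have := A.2
      rw [ht, Matrix.det_zero] at this
      exact zero_ne_one this

theorem cit_odd (h2 : (2 : F) ≠ 0)
    (hq : Nat.card F = 9 ∨ ((Nat.card F).Prime ∧ ∃ k : ℕ, Nat.card F = 2 ^ k + 1 ∨ Nat.card F = 2 ^ k - 1)) :
    ∀ j : PSL₂, orderOf j = 2 → IsPGroup 2 (Subgroup.centralizer ({j} : Set PSL₂)) := by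
  intro j hj
  obtain ⟨A, rfl⟩ := PSL2Proj52.π_surjective j
  have hj1 : π A ≠ 1 := fun e => by rw [e, orderOf_one] at hj; omega
  have htr : tr A = 0 := DicksonFourGroups.tr_zero_of_sq h2
    (sq_of_order_two hj) hj1
  have hA4 : tr A ^ 2 ≠ 4 := by
    rw [htr]
    intro h
    exact h2 (mul_self_eq_zero.mp (show (2 : F) * 2 = 0 by linear_combination -h))
  obtain ⟨-, hk⟩ := centralizer_semisimple hA4
  haveI := Fintype.ofFinite F
  have hodd : Odd (Nat.card F) := Nat.not_even_iff_odd.1 fun he => h2 (PSL2Proj52.two_eq_of_even he)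
  have hshape := SelfCent54.two_pow_of_shape hodd (Or.inr hq)
  obtain ⟨m, hm⟩ : ∃ m, Nat.card (Subgroup.centralizer ({π A} : Set PSL₂)) = 2 ^ m := by
    rw [SelfCent54.card_centralizer_tr_zero h2 htr]
    rcases hk with ⟨⟨r, hr⟩, hcard⟩ | ⟨hns, hcard⟩ <;> rw [hcard]
    · refine hshape.1 fun h3 => ?_
      rw [Nat.card_eq_fintype_card] at h3
      exact (FiniteField.isSquare_neg_one_iff (F := F)).1
        ⟨r, by rw [htr] at hr; linear_combination -hr⟩ h3
    · refine hshape.2 (by_contra fun h3 => ?_)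
      rw [Nat.card_eq_fintype_card] at h3
      obtain ⟨r, hr⟩ := (FiniteField.isSquare_neg_one_iff (F := F)).2 h3
      exact hns r (by rw [htr]; linear_combination -hr)
  exact IsPGroup.of_card hm

/-- The data for `PSL₂(9)`. -/
theorem facts_nine (h9 : Nat.card F = 9) :
    ∃ D : Subgroup PSL₂, Nat.card D = 9 ∧ (∀ x ∈ D, x ^ 3 = 1) ∧ CNFacts57.Facts PSL₂ D 2 := by
  classical
  haveI : Fact (Nat.Prime 3) := ⟨Nat.prime_three⟩
  haveI := Fintype.ofFinite F
  have h9' : Fintype.card F = 9 := by rwa [← Nat.card_eq_fintype_card]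
  haveI hch : CharP F 3 := by
    obtain ⟨p, hp⟩ := CharP.exists F
    obtain ⟨n, hpp, hn⟩ := FiniteField.card F p
    have h3 : p ∣ 3 ^ 2 := by
      rw [show 3 ^ 2 = Fintype.card F by rw [h9']; rfl, hn]
      exact dvd_pow_self p n.ne_zero
    rwa [(Nat.prime_dvd_prime_iff_eq hpp Nat.prime_three).mp (hpp.dvd_of_dvd_pow h3)] at hp
  have h2 : (2 : F) ≠ 0 := fun h => by
    have := (CharP.cast_eq_zero_iff F 3 2).mp (by exact_mod_cast h)
    omega
  have hinj : Function.Injective ((π).comp (PSL2Sylow.uSub F).subtype) := by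
    rw [injective_iff_map_eq_one]
    rintro ⟨g, hg⟩ h
    obtain ⟨x, rfl⟩ := PSL2Sylow.mem_uSub.mp hg
    rcases (PSL2Proj52.π_eq_one _).mp h with e | e
    · exact Subtype.ext e
    · exfalso
      have := congrArg tr e
      rw [tr_neg, tr_one, Subgroup.coe_subtype] at this
      simp only at this
      have hu : tr (u x) = 2 := by simp [tr, u, Matrix.trace_fin_two]; norm_num
      rw [hu] at this
      exact h2 (by
        have : (2 : F) * 2 = 0 := by linear_combination this
        exact mul_self_eq_zero.mp this)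
  let D : Subgroup PSL₂ := (PSL2Sylow.uSub F).map π
  have hD : Nat.card D = 9 := by
    rw [← h9, ← PSL2Sylow.card_uSub (F := F)]
    have : D = ((π).comp (PSL2Sylow.uSub F).subtype).range := by rw [MonoidHom.range_comp, Subgroup.range_subtype]
    rw [this]
    exact (Nat.card_congr (MonoidHom.ofInjective hinj).toEquiv).symm
  have hcit := cit_odd h2 (Or.inl h9)
  have hodd : Odd (Nat.card D) := by rw [hD]; decide
  refine ⟨D, hD, ?_, one_class, hodd,
    fun φ => CNFacts57.conj_of_sylow (p := 3) (n := 2) (b := 40) D hD ?_ (by norm_num) φ,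
    CNFacts57.cent_of_cit hcit D hodd, ?_⟩
  · rintro _ ⟨g, hg, rfl⟩
    obtain ⟨x, rfl⟩ := PSL2Sylow.mem_uSub.mp hg
    rw [← map_pow, pow_three, u_mul, u_mul, ← map_one π]
    congr 1
    rw [← u_zero (F := F)]
    congr 1
    have h3 : ((3 : ℕ) : F) = 0 := CharP.cast_eq_zero F 3
    push_cast at h3
    linear_combination x * h3
  · rw [PSLCard.card_PSL2, h9]; rfl
  · obtain ⟨a, ha⟩ := IsCyclic.exists_ofOrder_eq_natCard (α := Fˣ)
    rw [Nat.card_units, h9] at ha
    have hdo : orderOf (π (d a)) = 4 := by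
      have h4 : ((π) (d a)) ^ 2 ^ 2 = 1 := by
        rw [← map_pow, PSL2Proj52.π_eq_one]
        right
        have ha4 : a ^ 4 = -1 := by
          have h8 : (a ^ 4) ^ 2 = 1 := by rw [← pow_mul]; exact orderOf_dvd_iff_pow_eq_one.mp (by rw [ha])
          rcases sq_eq_one_iff.mp (congrArg Units.val h8 : ((a ^ 4 : Fˣ) : F) ^ 2 = 1) with e | e
          · have := orderOf_dvd_of_pow_eq_one (Units.ext e : a ^ 4 = 1)
            rw [ha] at this
            omega
          · exact Units.ext (by simpa using e)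
        show dHom a ^ (2 ^ 2) = -1
        rw [← map_pow, show (2 : ℕ) ^ 2 = 4 from rfl, ha4]
        apply ext2 <;> simp [dHom, d]
      have h1 : ¬ ((π) (d a)) ^ 2 ^ 1 = 1 := by
        rw [← map_pow, PSL2Proj52.π_eq_one]
        intro h
        have h' : dHom (a ^ (2 ^ 1)) = 1 ∨ dHom (a ^ (2 ^ 1)) = -1 := by
          rw [map_pow]; exact h
        have key : ∀ b : Fˣ, dHom b = 1 ∨ dHom b = -1 → b ^ 2 = 1 := by
          intro b hb
          apply dHom_injective (F := F)
          rw [map_pow, map_one]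
          rcases hb with e | e <;> rw [e] <;> simp
        have h4 := key _ h'
        rw [← pow_mul] at h4
        have := orderOf_dvd_of_pow_eq_one h4
        rw [ha] at this
        omega
      haveI : Fact (Nat.Prime 2) := ⟨Nat.prime_two⟩
      exact orderOf_eq_prime_pow h1 h4
    rw [show 2 ^ 2 = orderOf (π (d a)) by rw [hdo]; rfl]
    refine Subgroup.orderOf_dvd_natCard _ (Subgroup.mem_normalizer_iff_map_conj_eq.2
      (Subgroup.eq_of_le_of_card_ge ?_ (Subgroup.card_map_of_injective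
        (MulAut.conj _).injective).ge))
    rintro _ ⟨_, ⟨g, hg, rfl⟩, rfl⟩
    obtain ⟨x, rfl⟩ := PSL2Sylow.mem_uSub.mp hg
    refine ⟨u ((a : F) ^ 2 * x), PSL2Sylow.mem_uSub.mpr ⟨_, rfl⟩, ?_⟩
    rw [← d_conj_u, map_mul, map_mul, map_inv]
    rfl

end Cfsg.Agent.CNFactsPSL57
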