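import Cfsg.Agent.Lib.FpfModules86SL2
import Cfsg.Agent.Lib.SuzukiGroupStructure

/-!
A normal 2-subgroup with quotient a Suzuki group on which every element of odd order acts without
fixed points is elementary abelian.
-/

set_option autoImplicit false

namespace Cfsg.Agent.FpfModules86

open Finset Matrix
open Cfsg.Agent.SuzukiGroupBasic Cfsg.Agent.SuzukiGroupStructure

namespace Suz

variable {F : Type*} [Field F] {m : ℕ}

set_option quotPrecheck false in
local notation "G'" => ↥(Cfsg.Sz F m)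

/-- The matrix of an element. -/
def toMat : G' →* Matrix (Fin 4) (Fin 4) F where
  toFun g := ((g : Matrix.SpecialLinearGroup (Fin 4) F) : Matrix (Fin 4) (Fin 4) F)
  map_one' := Matrix.SpecialLinearGroup.coe_one
  map_mul' g g' := Matrix.SpecialLinearGroup.coe_mul _ _

variable [hP : Param F m]

@[simp] theorem toMat_Ts (a b : F) : toMat (Ts a b : G') = Tm m a b := rfl
@[simp] theorem toMat_Hs (k : Fˣ) : toMat (Hs k : G') = Hm m (k : F) := rfl
@[simp] theorem toMat_Ws : toMat (Ws : G') = suzukiForm F := rfl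

/-- The translations. -/
def U : Subgroup G' where
  carrier := {g | ∃ a b, g = Ts a b}
  one_mem' := ⟨0, 0, Ts_zero.symm⟩
  mul_mem' := by
    rintro _ _ ⟨a, b, rfl⟩ ⟨c, d, rfl⟩
    exact ⟨_, _, Ts_mul a b c d⟩
  inv_mem' := by
    rintro _ ⟨a, b, rfl⟩
    exact ⟨_, _, Ts_inv a b⟩

theorem mem_U (a b : F) : (Ts a b : G') ∈ U := ⟨a, b, rfl⟩

theorem U_pow_four : ∀ t ∈ (U : Subgroup G'), t ^ 4 = 1 := by
  have := charTwo (F := F) (m := m)
  rintro _ ⟨a, b, rfl⟩
  rw [show (Ts a b : G') ^ 4 = Ts a b * Ts a b * (Ts a b * Ts a b) by simp only [pow_succ, pow_zero, one_mul, mul_assoc], Ts_mul, Ts_mul]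
  simp only [CharTwo.add_self_eq_zero, sg_zero, zero_mul, add_zero, zero_add, Ts_zero]

theorem U_norm : ∀ k : Fˣ, ∀ t ∈ (U : Subgroup G'), torusHom k * t * (torusHom k)⁻¹ ∈ (U : Subgroup G') := by
  rintro k _ ⟨a, b, rfl⟩
  exact ⟨_, _, Hs_Ts k a b⟩

theorem decomp (g : G') : (∃ t ∈ (U : Subgroup G'), ∃ k, g = t * Hs k) ∨
    (∃ t ∈ (U : Subgroup G'), ∃ t' ∈ (U : Subgroup G'), ∃ k, g = t * Ws * Hs k * t') := by
  rcases bruhat g with h | ⟨a, b, h, hh, rfl⟩
  · obtain ⟨a, b, k, rfl⟩ := fix_inf_iff.mp h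
    exact Or.inl ⟨_, mem_U a b, k, rfl⟩
  · obtain ⟨c, d, k, rfl⟩ := fix_inf_iff.mp hh
    refine Or.inr ⟨_, mem_U a b, _, U_norm k⁻¹ _ (mem_U c d), k, ?_⟩
    rw [map_inv, show torusHom k = (Hs k : G') from rfl]
    group

/-- The central translations as an additive group. -/
def eHom : Multiplicative F →* G' where
  toFun x := Ts 0 (tg m (Multiplicative.toAdd x))
  map_one' := by
    rw [toAdd_one, tg, zero_pow (Nat.two_pow_pos _).ne']
    exact Ts_zero
  map_mul' x y := by simp only [Ts_mul, toAdd_mul, tg_add, sg_zero, zero_mul, add_zero]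

variable (m) in
omit hP in
/-- The character of the torus on the first basis vector. -/
def ωHom : Fˣ →* Fˣ := MonoidHom.id _ * Units.map (powMonoidHom (2 ^ m))

omit hP in
theorem ωHom_val (k : Fˣ) : ((ωHom m k : Fˣ) : F) = (k : F) * tg m (k : F) := rfl

theorem eHom_conj (k : Fˣ) (x : F) :
    torusHom k * eHom (Multiplicative.ofAdd x) * (torusHom k)⁻¹ =
      (eHom (Multiplicative.ofAdd (((ωHom m k : Fˣ) : F) ^ 2 * x)) : G') := by
  rw [ωHom_val]
  have e : tg m (((k : F) * tg m (k : F)) ^ 2 * x) = (k : F) * sg m (k : F) * tg m x := by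
    rw [pow_two, tg_mul, tg_mul, tg_mul, mul_mul_mul_comm (tg m (k : F)) _ (tg m (k : F)),
      tg_mul_tg, tg_mul_tg, sg_tg]
    ring
  show (Hs k : G') * Ts 0 (tg m x) * (Hs k)⁻¹ = Ts 0 (tg m _)
  rw [Hs_Ts, mul_zero, toAdd_ofAdd, e]

theorem ω_injective {k : Fˣ} (h : (k : F) * tg m (k : F) = 1) : k = 1 := by
  set x : F := (k : F) with hx
  have hx0 : x ≠ 0 := k.ne_zero
  have h1 : x ^ 2 * sg m x = 1 := by rw [← tg_mul_tg, ← one_pow 2, ← h]; ring
  have h2 : sg m x ^ 2 * x ^ 2 = 1 := by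
    rw [← sg_pow]
    have := congrArg (sg m) h1
    rwa [sg_mul, sg_sg, sg_one] at this
  have h3 : sg m x = 1 := by
    have h4 : sg m x * (x ^ 2 * sg m x) = 1 := by rw [← h2]; ring
    rwa [h1, mul_one] at h4
  rw [h3, mul_one] at h1
  have := charTwo (F := F) (m := m)
  exact Units.ext (CharTwo.sq_injective (show x ^ 2 = 1 ^ 2 by rw [h1, one_pow]))

theorem ω_bij : Function.Bijective (ωHom (F := F) m) := by
  have := finiteF (F := F) (m := m)
  refine Finite.injective_iff_bijective.mp fun a b hab => ?_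
  have h : ((a * b⁻¹ : Fˣ) : F) * tg m ((a * b⁻¹ : Fˣ) : F) = 1 := by
    have hab' : (a : F) * tg m (a : F) = (b : F) * tg m (b : F) := congrArg Units.val hab
    have := b.ne_zero
    have := tg_ne_zero (m := m) b.ne_zero
    rw [Units.val_mul, Units.val_inv_eq_inv_val, tg_mul, tg_inv]
    field_simp
    linear_combination hab'
  exact mul_inv_eq_one.mp (ω_injective h)

theorem y_pow_five : ((Ts 0 1 : G') * Ws) ^ 5 = 1 := by
  have := charTwo (F := F) (m := m)
  apply Subtype.ext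
  apply sl_ext
  show toMat (((Ts 0 1 : G') * Ws) ^ 5) = 1
  rw [map_pow, map_mul, toMat_Ts, toMat_Ws]
  ext i j
  fin_cases i <;> fin_cases j <;>
    simp [Tm, ff, suzukiForm, pow_succ, Matrix.mul_apply, Fin.sum_univ_four, CharTwo.add_self_eq_zero]

theorem y_ne : (Ts 0 1 : G') * Ws ≠ 1 := fun h => by
  have h' := congrArg (fun g : G' => toMat g 2 2) h
  rw [map_mul, map_one, toMat_Ts, toMat_Ws] at h'
  simp [Tm, suzukiForm, Matrix.mul_apply, Fin.sum_univ_four] at h'

theorem order_y : orderOf ((Ts 0 1 : G') * Ws) = 5 := by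
  haveI : Fact (Nat.Prime 5) := ⟨by norm_num⟩
  exact orderOf_eq_prime y_pow_five y_ne

theorem exists_unit (i : Fin 4) : ∃ k : Fˣ,
    ![(k : F) * tg m (k : F), tg m (k : F), (tg m (k : F))⁻¹, ((k : F) * tg m (k : F))⁻¹] i ≠ 1 := by
  obtain ⟨x, hx0, hx1⟩ := exists_ne_zero_one (F := F) (m := m)
  refine ⟨Units.mk0 x hx0, ?_⟩
  have hk : x * tg m x ≠ 1 := fun h =>
    hx1 (congrArg Units.val (ω_injective (k := Units.mk0 x hx0) h))
  have ht : tg m x ≠ 1 := fun h => hx1 (by rw [← sg_tg (m := m) x, h, sg_one])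
  fin_cases i
  · exact hk
  · exact ht
  · exact fun h => ht (inv_eq_one.mp h)
  · exact fun h => hk (inv_eq_one.mp h)

/-- The Suzuki group as a rank one group. -/
noncomputable def data : Data G' F 4 where
  ρ := toMat
  T := U
  pT := fun t => ⟨2, Subtype.ext (by simpa using U_pow_four _ t.2)⟩
  h := torusHom
  h_norm := U_norm
  ω := ωHom m
  ω_bij := ω_bij
  s := Ws
  z := 0
  l := 3
  z_ne_l := by decide
  d k := ![(k : F) * tg m (k : F), tg m (k : F), (tg m (k : F))⁻¹, ((k : F) * tg m (k : F))⁻¹]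
  h_diag k := rfl
  d_z k := (ωHom_val k).symm
  d_l k := (congrArg Inv.inv (ωHom_val k)).symm
  T_col := by
    rintro _ ⟨a, b, rfl⟩ i
    fin_cases i <;> simp [Tm]
  T_row := by
    rintro _ ⟨a, b, rfl⟩ j
    fin_cases j <;> simp [Tm]
  s_col i := by fin_cases i <;> simp [suzukiForm]
  dec := decomp
  e := eHom
  e_mem x := mem_U _ _
  e_zl x := by simp [eHom, Tm, ff, sg_tg]
  e_conj := eHom_conj
  y := Ts 0 1 * Ws
  y_odd := by rw [order_y]; decide
  y_ne := y_ne
  y_col i h0 h5 := by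
    have := charTwo (F := F) (m := m)
    rw [order_y] at h5
    rw [map_pow, map_mul, toMat_Ts, toMat_Ws]
    interval_cases i <;>
      simp [Tm, ff, suzukiForm, pow_succ, Matrix.mul_apply, Fin.sum_univ_four, CharTwo.add_self_eq_zero]
  y_sum x := ⟨Ws * Ts 0 (tg m x), {1 + tg m x + x}, by
    have := charTwo (F := F) (m := m)
    rw [order_y]
    simp [Multiset.range_succ, Tm, ff, suzukiForm, sg_tg, pow_succ, Matrix.mul_apply, Fin.sum_univ_four,
      ← add_assoc, CharTwo.add_self_eq_zero]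
    simp only [← Multiset.singleton_add]
    abel⟩
  rows := ⟨![Ts 0 0, Ws, Ws * Ts 1 0, Ws * Ts 0 1], by
    have := charTwo (F := F) (m := m)
    simp [Matrix.det_succ_row_zero, Fin.sum_univ_succ, Fin.succAbove, Tm, ff, suzukiForm, Matrix.mul_apply,
      CharTwo.add_self_eq_zero]⟩
  colsT := ⟨![Ts 0 0, Ts 0 1, Ts 1 0, Ts 1 1], fun i => by fin_cases i <;> exact mem_U _ _,
    by
      have := charTwo (F := F) (m := m)
      simp [Matrix.det_succ_row_zero, Fin.sum_univ_succ, Fin.succAbove, Tm, ff, CharTwo.add_self_eq_zero]⟩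
  d_ne := exists_unit

theorem data_extreme {k : Type*} [Field k] [CharP k 2] : (data (F := F) (m := m)).Extreme k := by
  have := charTwo (F := F) (m := m)
  intro Ψ₁ Ψ₂ h12 B hB
  have col : ∀ (Ψ : F →+* k) (a b : F),
      (toMat (Ts a b : G')).map Ψ *ᵥ Pi.single 0 1 = Pi.single 0 1 ∧
      (toMat (Ts a b : G')).map Ψ *ᵥ Pi.single 1 1 = Pi.single 1 1 + Ψ a • Pi.single 0 1 ∧
      (toMat (Ts a b : G')).map Ψ *ᵥ Pi.single 2 1 =
        Pi.single 2 1 + Ψ (sg m a) • Pi.single 1 1 + Ψ (b + a * sg m a) • Pi.single 0 1 ∧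
      (toMat (Ts a b : G')).map Ψ *ᵥ Pi.single 3 1 =
        Pi.single 3 1 + Ψ a • Pi.single 2 1 + Ψ b • Pi.single 1 1 + Ψ (ff m a b) • Pi.single 0 1 := by
    intro Ψ a b
    refine ⟨?_, ?_, ?_, ?_⟩ <;> funext i <;> fin_cases i <;> simp [Tm]
  have h : ∀ a b i j, B ((toMat (Ts a b : G')).map Ψ₁ *ᵥ Pi.single i 1)
      ((toMat (Ts a b : G')).map Ψ₂ *ᵥ Pi.single j 1) = B (Pi.single i 1) (Pi.single j 1) :=
    fun a b i j => hB _ (mem_U a b) _ _
  set E : Fin 4 → Fin 4 → k := fun i j => B (Pi.single i 1) (Pi.single j 1) with hE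
  have e0 := fun (Ψ : F →+* k) b => (col Ψ 0 b).1
  have e1 : ∀ (Ψ : F →+* k) b, (toMat (Ts 0 b : G')).map Ψ *ᵥ Pi.single 1 1 = Pi.single 1 1 :=
    fun Ψ b => by rw [(col Ψ 0 b).2.1]; simp
  have e2 : ∀ (Ψ : F →+* k) b, (toMat (Ts 0 b : G')).map Ψ *ᵥ Pi.single 2 1 =
      Pi.single 2 1 + Ψ b • Pi.single 0 1 := fun Ψ b => by rw [(col Ψ 0 b).2.2.1]; simp
  have e3 : ∀ (Ψ : F →+* k) b, (toMat (Ts 0 b : G')).map Ψ *ᵥ Pi.single 3 1 =
      Pi.single 3 1 + Ψ b • Pi.single 1 1 + Ψ (sg m b) • Pi.single 0 1 := fun Ψ b => by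
    rw [(col Ψ 0 b).2.2.2]; simp [ff]
  have g00 : E 0 0 = 0 := by
    have h' := h 0 1 0 2; rw [e0, e2] at h'; simpa [hE] using h'
  have g10 : E 1 0 = 0 := by
    have h' := h 0 1 1 2; rw [e1, e2] at h'; simpa [hE] using h'
  have g01 : E 0 1 = 0 := by
    have h' := h 0 1 2 1; rw [e1, e2] at h'; simpa [hE] using h'
  simp only [hE] at g00 g10 g01
  have g11 : E 1 1 = 0 := by
    have h' := h 0 1 1 3; rw [e1, e3] at h'; simpa [hE, g10] using h'
  simp only [hE] at g11
  have p1 := twist_indep h12 (c₁ := E 0 2) (c₂ := E 2 0) fun b => by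
    have h' := h 0 b 2 2; rw [e2, e2] at h'
    simp [g00] at h'
    simp only [hE]; linear_combination h'
  simp only [hE] at p1
  have p2 := twist_indep h12 (c₁ := E 0 3) (c₂ := E 2 1) fun b => by
    have h' := h 0 b 2 3; rw [e2, e3] at h'
    simp [g00, g01, p1.1, p1.2] at h'
    simp only [hE]; linear_combination h'
  have p3 := twist_indep h12 (c₁ := E 1 2) (c₂ := E 3 0) fun b => by
    have h' := h 0 b 3 2; rw [e3, e2] at h'
    simp [g00, g10, p1.1, p1.2] at h'
    simp only [hE]; linear_combination h'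
  simp only [hE] at p2 p3
  have p4 := twist_indep h12 (c₁ := E 1 3) (c₂ := E 3 1) fun b => by
    have h' := h 0 b 3 3; rw [e3, e3] at h'
    simp [g00, g01, g10, g11, p2.1, p3.2] at h'
    simp only [hE]; linear_combination h'
  simp only [hE] at p4
  have g22 : E 2 2 = 0 := by
    have h' := h 1 0 2 3; rw [(col Ψ₁ 1 0).2.2.1, (col Ψ₂ 1 0).2.2.2] at h'
    simpa [hE, g00, g01, g10, g11, p1.1, p1.2, p2.1, p2.2, p3.1, p3.2, p4.1, p4.2] using h'
  simp only [hE] at g22
  have p5 := twist_indep h12 (c₁ := E 2 3) (c₂ := E 3 2) fun a => by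
    have h' := h a 0 3 3; rw [(col Ψ₁ a 0).2.2.2, (col Ψ₂ a 0).2.2.2] at h'
    simp [g00, g01, g10, g11, g22, p1.1, p1.2, p2.1, p2.2, p3.1, p3.2, p4.1, p4.2] at h'
    simp only [hE]; linear_combination h'
  simp only [hE] at p5
  intro i j hij
  fin_cases i <;> fin_cases j <;>
    first
      | exact g00 | exact g01 | exact g10 | exact g11 | exact g22
      | exact p1.1 | exact p1.2 | exact p2.1 | exact p2.2 | exact p3.1 | exact p3.2
      | exact p4.1 | exact p4.2 | exact p5.1 | exact p5.2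
      | simp [data] at hij

end Suz

universe u

theorem elementary_suzuki {F : Type*} [Field F] {m : ℕ} [Param F m] {G : Type u} [Group G] [Finite G]
    (D : Subgroup G) [D.Normal] (hD : IsPGroup 2 D) (f : G →* Cfsg.Sz F m)
    (hf : Function.Surjective f) (hker : f.ker = D)
    (hfpf : ∀ x : G, Odd (orderOf x) → x ≠ 1 → ∀ d ∈ D, x * d = d * x → d = 1) :
    IsMulCommutative D ∧ ∀ d ∈ D, d * d = 1 := by
  have := charTwo (F := F) (m := m)
  have := finiteF (F := F) (m := m)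
  have h4 : 4 ≤ Nat.card F := by
    rw [natCard (F := F) (m := m)]
    exact Nat.le_trans (by norm_num) (Nat.pow_le_pow_right two_pos
      (show 2 ≤ 2 * m + 1 by have := one_le (F := F) (m := m); omega))
  exact elementary Suz.data Suz.data_extreme h4 D hD f hf hker hfpf

end Cfsg.Agent.FpfModules86
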