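import Cfsg.Agent.Lib.SuzukiGroupStructure

/-!
Elements of the Suzuki group by fixed points, and their centralisers.
-/

set_option autoImplicit false

namespace Cfsg.Agent.SuzukiGroupCentralizer

open scoped Matrix Pointwise LinearAlgebra.Projectivization
open MulAction Cfsg.Agent.SuzukiGroupBasic Cfsg.Agent.SuzukiGroupStructure

variable {F : Type*} [Field F] {m : ℕ} [hP : Param F m]

set_option quotPrecheck false
local notation "G" => ↥(Cfsg.Sz F m)
local notation "∞" => Cfsg.suzukiPointInfinity F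
local notation "o" => Cfsg.suzukiPointZero F

/-- The element moves every point of the ovoid. -/
def FixFree (g : G) : Prop := ∀ p ∈ suzukiOvoid F m, g • p ≠ p

theorem Ts_fix {a b : F} (h : (Ts a b : G) ≠ 1) {p : ℙ F (Fin 4 → F)}
    (hp : p ∈ suzukiOvoid F m) (hfix : (Ts a b : G) • p = p) : p = ∞ := by
  by_contra hne
  obtain ⟨x, y, rfl⟩ := eq_pt_of_ne hp hne
  rw [Ts_smul_pt] at hfix
  obtain ⟨h1, h2⟩ := pt_injective hfix
  have ha : a = 0 := by simpa using h1
  subst ha
  have hb : b = 0 := by simpa using h2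
  subst hb
  exact h Ts_zero

theorem Hs_fix {k : Fˣ} (hk : k ≠ 1) {p : ℙ F (Fin 4 → F)}
    (hp : p ∈ suzukiOvoid F m) (hfix : (Hs k : G) • p = p) : p = ∞ ∨ p = o := by
  by_contra hne
  push Not at hne
  exact hk (Hs_injective ((eq_one_of_fix_three inf_mem zero_mem hp inf_ne_zero (Ne.symm hne.2)
    (Ne.symm hne.1) (Hs_smul_inf k) (Hs_smul_zero k) hfix).trans Hs_one.symm))

theorem conj_smul_eq (c g : G) (p : ℙ F (Fin 4 → F)) :
    (c * g * c⁻¹) • (c • p) = c • (g • p) := by
  rw [mul_smul, mul_smul, inv_smul_smul]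

theorem exists_conj_Ts_or_Hs {g : G} (hg : g ≠ 1) :
    FixFree g ∨ (∃ c : G, ∃ a b : F, c * g * c⁻¹ = Ts a b) ∨
      (∃ c : G, ∃ k : Fˣ, k ≠ 1 ∧ c * g * c⁻¹ = Hs k) := by
  by_cases hf : FixFree g
  · exact Or.inl hf
  simp only [FixFree, not_forall, ne_eq, not_not] at hf
  obtain ⟨p, hp, hpg⟩ := hf
  obtain ⟨d, hd⟩ := exists_to_inf (m := m) hp
  have h1 : (d⁻¹ * g * d) • ∞ = ∞ := by rw [mul_smul, mul_smul, hd, hpg, ← hd, inv_smul_smul]
  obtain ⟨a, b, k, hk⟩ := fix_inf_iff.mp h1
  by_cases hk1 : k = 1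
  · subst hk1
    exact Or.inr (Or.inl ⟨d⁻¹, a, b, by rw [inv_inv, hk, Hs_one, mul_one]⟩)
  · refine Or.inr (Or.inr ?_)
    have := charTwo (F := F) (m := m)
    have hk1' : (k : F) + 1 ≠ 0 := fun h => hk1 (Units.ext (CharTwo.add_eq_zero.mp h))
    have hks : (k : F) * sg m (k : F) + 1 ≠ 0 := by
      intro h
      have h2 : sg m (k : F) = (k : F)⁻¹ :=
        eq_inv_of_mul_eq_one_right (CharTwo.add_eq_zero.mp h)
      have h3 := sg_sg (m := m) (k : F)
      rw [h2, sg_inv, h2, inv_inv] at h3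
      exact hk1 (Units.ext ((mul_left_eq_self₀.mp
        ((pow_two (k : F)).symm.trans h3.symm)).resolve_right k.ne_zero))
    set x := a / ((k : F) + 1) with hx
    set y := (sg m a * ((k : F) * x) + b) / ((k : F) * sg m (k : F) + 1) with hy
    have hfix : ((Ts a b : G) * Hs k) • pt m x y = pt m x y := by
      rw [mul_smul, Hs_smul_pt, Ts_smul_pt]
      have ex : (k : F) * x + a = x := by
        rw [hx]; field_simp; grind
      have ey : (k : F) * sg m (k : F) * y + sg m a * ((k : F) * x) + b = y := by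
        rw [hy]; field_simp; grind
      rw [ex, ey]
    obtain ⟨e1, e2⟩ : ((Ts x y : G)⁻¹ * (Ts a b * Hs k) * Ts x y) • ∞ = ∞ ∧
        ((Ts x y : G)⁻¹ * (Ts a b * Hs k) * Ts x y) • o = o := by
      constructor
      · rw [mul_smul, Ts_smul_inf, mul_smul, mul_smul, Hs_smul_inf, Ts_smul_inf, inv_smul_eq_iff,
          Ts_smul_inf]
      · rw [mul_smul, Ts_smul_zero, mul_smul, hfix, inv_smul_eq_iff, Ts_smul_zero]
    obtain ⟨l, hl⟩ := fix_inf_zero e1 e2
    refine ⟨(Ts x y)⁻¹ * d⁻¹, l, fun h => hg ?_, ?_⟩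
    · rw [h, Hs_one] at hl
      rw [← hk] at hl
      calc g = d * Ts x y * ((Ts x y : G)⁻¹ * (d⁻¹ * g * d) * Ts x y) * (Ts x y)⁻¹ * d⁻¹ := by
            group
        _ = 1 := by rw [hl]; group
    · rw [← hl, ← hk]; group

theorem exists_conj_unipotent_of_isPGroup (K : Subgroup G) (hK : IsPGroup 2 K) :
    ∃ c : G, ∀ g ∈ K, c * g * c⁻¹ ∈ (unipotent : Subgroup G) := by
  have : Fact (Nat.Prime 2) := ⟨Nat.prime_two⟩
  obtain ⟨P, hP'⟩ := hK.exists_le_sylow
  obtain ⟨c, hc⟩ := exists_conj_sylow P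
  refine ⟨c⁻¹, fun g hg => ?_⟩
  have := hP' hg
  rw [hc, Subgroup.mem_map] at this
  obtain ⟨u, hu, rfl⟩ := this
  simpa [mul_assoc] using hu

theorem involution_fix {g : G} (hg1 : g ≠ 1) (hg2 : g * g = 1) :
    ∃ p ∈ suzukiOvoid F m, g • p = p := by
  have hp : IsPGroup 2 (Subgroup.zpowers g) := by
    refine IsPGroup.of_card (n := 1) ?_
    rw [Nat.card_zpowers, pow_one]
    exact orderOf_eq_prime (by rw [pow_two, hg2]) hg1
  obtain ⟨c, hc⟩ := exists_conj_unipotent_of_isPGroup _ hp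
  have h := unipotent_le_borel (hc g (Subgroup.mem_zpowers g))
  rw [mem_stabilizer_iff, mul_smul, mul_smul, ← eq_inv_smul_iff] at h
  exact ⟨c⁻¹ • ∞, smul_mem_ovoid _ inf_mem, h⟩

theorem commute_Ts_mem {a b : F} (h : (Ts a b : G) ≠ 1) {g : G} (hc : Commute g (Ts a b)) :
    g ∈ (unipotent : Subgroup G) := by
  have hfix : g • ∞ = ∞ := Ts_fix h (smul_mem_ovoid g inf_mem)
    (by rw [← mul_smul, ← hc.eq, mul_smul, Ts_smul_inf])
  obtain ⟨c, d, k, rfl⟩ := fix_inf_iff.mp hfix
  suffices hk : k = 1 by rw [hk, Hs_one, mul_one]; exact Ts_mem c d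
  have e : (Ts c d : G) * Hs k * Ts a b = Ts a b * (Ts c d * Hs k) := hc
  have e2 : (Ts c d : G) * (Hs k * Ts a b * (Hs k)⁻¹) = Ts a b * Ts c d := by
    calc (Ts c d : G) * (Hs k * Ts a b * (Hs k)⁻¹) = Ts c d * Hs k * Ts a b * (Hs k)⁻¹ := by group
      _ = Ts a b * Ts c d := by rw [e]; group
  rw [Hs_Ts, Ts_mul, Ts_mul] at e2
  obtain ⟨e3, e4⟩ := Ts_injective e2
  have e5 : (k : F) * a = a := add_left_cancel (e3.trans (add_comm a c))
  by_cases ha : a = 0
  · subst ha
    simp only [mul_zero, sg_zero, zero_mul, add_zero] at e4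
    have hb : b ≠ 0 := by rintro rfl; exact h Ts_zero
    have e6 : (k : F) * sg m (k : F) = 1 :=
      (mul_left_eq_self₀.mp (add_left_cancel (e4.trans (add_comm b d)))).resolve_right hb
    have h2 : sg m (k : F) = (k : F)⁻¹ := eq_inv_of_mul_eq_one_right e6
    have h3 := sg_sg (m := m) (k : F)
    rw [h2, sg_inv, h2, inv_inv] at h3
    exact Units.ext ((mul_left_eq_self₀.mp
      ((pow_two (k : F)).symm.trans h3.symm)).resolve_right k.ne_zero)
  · exact Units.ext ((mul_left_eq_self₀.mp e5).resolve_right ha)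

theorem swap_of_commute_Hs {k : Fˣ} (hk : k ≠ 1) {g : G} (hc : Commute g (Hs k)) :
    (g • ∞ = ∞ ∧ g • o = o) ∨ (g • ∞ = o ∧ g • o = ∞) := by
  have hne : g • (∞ : ℙ F (Fin 4 → F)) ≠ g • o := fun h => inf_ne_zero (MulAction.injective g h)
  have h1 := Hs_fix hk (smul_mem_ovoid g inf_mem)
    (by rw [← mul_smul, ← hc.eq, mul_smul, Hs_smul_inf])
  have h2 := Hs_fix hk (smul_mem_ovoid g zero_mem)
    (by rw [← mul_smul, ← hc.eq, mul_smul, Hs_smul_zero])
  rcases h1 with h1 | h1 <;> rcases h2 with h2 | h2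
  · exact absurd (h1.trans h2.symm) hne
  · exact Or.inl ⟨h1, h2⟩
  · exact Or.inr ⟨h1, h2⟩
  · exact absurd (h1.trans h2.symm) hne

theorem commute_Hs_eq {k : Fˣ} (hk : k ≠ 1) {g : G} (hc : Commute g (Hs k)) :
    ∃ l, g = Hs l := by
  rcases swap_of_commute_Hs hk hc with ⟨h1, h2⟩ | ⟨h1, h2⟩
  · exact fix_inf_zero h1 h2
  · exfalso
    obtain ⟨l, hl⟩ := fix_inf_zero (g := (Ws : G)⁻¹ * g)
      (by rw [mul_smul, h1, inv_smul_eq_iff, Ws_smul_inf])
      (by rw [mul_smul, h2, inv_smul_eq_iff, Ws_smul_zero])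
    have hg : g = Ws * Hs l := by rw [← hl, mul_inv_cancel_left]
    subst hg
    have e : (Hs k : G) = Hs k⁻¹ := by
      calc (Hs k : G) = Ws * Hs l * Hs k * (Ws * Hs l)⁻¹ := by
            rw [hc.eq, mul_inv_cancel_right]
        _ = Ws * (Hs l * Hs k * (Hs l)⁻¹) * Ws⁻¹ := by group
        _ = Hs k⁻¹ := by rw [Hs_mul, mul_comm, ← Hs_mul, mul_inv_cancel_right, Ws_Hs]
    have e' := congrArg Units.val (Hs_injective e)
    have := charTwo (F := F) (m := m)
    have h3 : (k : F) * k = 1 := by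
      nth_rewrite 2 [e']
      rw [← Units.val_mul, mul_inv_cancel, Units.val_one]
    rcases mul_self_eq_one_iff.mp h3 with h4 | h4
    · exact hk (Units.ext h4)
    · rw [CharTwo.neg_eq] at h4; exact hk (Units.ext h4)

theorem centralizer_Hs {k : Fˣ} (hk : k ≠ 1) :
    Subgroup.centralizer {(Hs k : G)} = (torusHom : Fˣ →* G).range := by
  ext g
  rw [Subgroup.mem_centralizer_singleton_iff]
  constructor
  · intro h
    obtain ⟨l, rfl⟩ := commute_Hs_eq hk h
    exact ⟨l, rfl⟩
  · rintro ⟨l, rfl⟩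
    change (Hs l : G) * Hs k = Hs k * Hs l
    rw [Hs_mul, Hs_mul, mul_comm]

theorem isCyclic_torus : IsCyclic ↥((torusHom : Fˣ →* G).range) := by
  have := finiteF (F := F) (m := m)
  exact isCyclic_of_surjective (torusHom : Fˣ →* G).rangeRestrict
    (MonoidHom.rangeRestrict_surjective _)

theorem natCard_torus : Nat.card ↥((torusHom : Fˣ →* G).range) = 2 ^ (2 * m + 1) - 1 := by
  have := finiteF (F := F) (m := m)
  rw [← Nat.card_congr (MonoidHom.ofInjective (f := (torusHom : Fˣ →* G)) Hs_injective).toEquiv,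
    Nat.card_units, natCard (F := F) (m := m)]

theorem orderOf_Hs_dvd (k : Fˣ) : orderOf (Hs k : G) ∣ 2 ^ (2 * m + 1) - 1 := by
  rw [← natCard_torus (F := F)]
  exact (torusHom : Fˣ →* G).range.orderOf_dvd_natCard ⟨k, rfl⟩

theorem orderOf_Ts_dvd (a b : F) : orderOf (Ts a b : G) ∣ 4 :=
  orderOf_dvd_of_pow_eq_one (Ts_pow_four a b)

theorem FixFree.ne_one {g : G} (hg : FixFree g) : g ≠ 1 := by
  rintro rfl
  exact hg ∞ inf_mem (one_smul _ _)

theorem FixFree.conj {g : G} (hg : FixFree g) (c : G) : FixFree (c * g * c⁻¹) := by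
  intro p hp h
  rw [mul_smul, mul_smul, ← eq_inv_smul_iff] at h
  exact hg _ (smul_mem_ovoid c⁻¹ hp) h

/-- An element commuting with a fixed-point-free element is trivial or fixed-point-free. -/
theorem FixFree.of_commute {g h : G} (hg : FixFree g) (hc : Commute h g) (h1 : h ≠ 1) :
    FixFree h := by
  rcases exists_conj_Ts_or_Hs h1 with hf | ⟨c, a, b, hab⟩ | ⟨c, k, hk, hck⟩
  · exact hf
  · exfalso
    have hne : (Ts a b : G) ≠ 1 := by
      rw [← hab]; intro e; exact h1 (conj_eq_one_iff.mp e)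
    have hg' := hg.conj c
    have := commute_Ts_mem hne (hab ▸ (hc.symm.conj c))
    exact hg' ∞ inf_mem (mem_stabilizer_iff.mp (unipotent_le_borel this))
  · exfalso
    have hg' := hg.conj c
    obtain ⟨l, hl⟩ := commute_Hs_eq hk (hck ▸ (hc.symm.conj c))
    exact hg' ∞ inf_mem (by rw [hl, Hs_smul_inf])

theorem card_dvd_of_semiregular (K : Subgroup G)
    (hK : ∀ g ∈ K, g ≠ 1 → FixFree g) :
    Nat.card K ∣ (2 ^ (2 * m + 1)) ^ 2 + 1 := by
  have := finiteF (F := F) (m := m)
  let act : MulAction K ↥(suzukiOvoid F m) :=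
    { smul := fun g p => ⟨(g : G) • (p : ℙ F (Fin 4 → F)), smul_mem_ovoid _ p.2⟩
      one_smul := fun p => Subtype.ext (one_smul _ _)
      mul_smul := fun g h p => Subtype.ext (mul_smul (g : G) (h : G) (p : ℙ F (Fin 4 → F))) }
  have hstab : ∀ p : ↥(suzukiOvoid F m), stabilizer K p = ⊥ := by
    intro p
    rw [Subgroup.eq_bot_iff_forall]
    intro g hg
    by_contra hne
    exact hK g g.2 (fun h => hne (Subtype.ext h)) _ p.2 (congrArg Subtype.val hg)
  have h := Nat.card_congr (MulAction.selfEquivOrbitsQuotientProd hstab)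
  rw [Nat.card_prod, Nat.card_coe_set_eq, ncard_ovoid, natCard (F := F) (m := m)] at h
  exact ⟨_, h.trans (mul_comm _ _)⟩

theorem FixFree.centralizer_dvd {g : G} (hg : FixFree g) :
    Nat.card (Subgroup.centralizer {g}) ∣ (2 ^ (2 * m + 1)) ^ 2 + 1 :=
  card_dvd_of_semiregular _ fun h hh h1 =>
    hg.of_commute (Subgroup.mem_centralizer_singleton_iff.mp hh) h1

theorem FixFree.orderOf_dvd {g : G} (hg : FixFree g) :
    orderOf g ∣ (2 ^ (2 * m + 1)) ^ 2 + 1 := by
  rw [← Nat.card_zpowers]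
  refine (Subgroup.card_dvd_of_le (Subgroup.zpowers_le.mpr ?_)).trans hg.centralizer_dvd
  exact Subgroup.mem_centralizer_singleton_iff.mpr rfl

omit hP in
theorem natCard_M4 [Finite F] {K : Type*} [Field K] [Algebra F K] [FiniteDimensional F K] {p : ℕ}
    (hp : p.Prime) (hp2 : p ∣ (Nat.card F) ^ 2 + 1) (hodd : p ≠ 2) {x : K} (hx1 : x ≠ 1)
    (hxp : x ^ p = 1) : 4 ≤ Module.finrank F K := by
  have : Finite K := Module.finite_of_finite F
  have : Fact p.Prime := ⟨hp⟩
  set d := Module.finrank F K with hd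
  have hd0 : 0 < d := Module.finrank_pos
  have hxo : orderOf x = p := orderOf_eq_prime hxp hx1
  have hdvd : p ∣ Nat.card F ^ d - 1 := by
    let : Fintype K := Fintype.ofFinite K
    rw [← Module.natCard_eq_pow_finrank (K := F) (V := K), ← hxo]
    refine orderOf_dvd_of_pow_eq_one ?_
    rw [Nat.card_eq_fintype_card]
    exact FiniteField.pow_card_sub_one_eq_one x (by rintro rfl; simp [zero_pow hp.ne_zero] at hxp)
  have hq : ((Nat.card F : ℕ) : ZMod p) ^ 2 = -1 := by
    have := (ZMod.natCast_eq_zero_iff _ _).mpr hp2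
    push_cast at this
    exact eq_neg_of_add_eq_zero_left this
  have hqd : ((Nat.card F : ℕ) : ZMod p) ^ d = 1 := by
    have h1 : 1 ≤ Nat.card F ^ d := Nat.one_le_pow _ _ Nat.card_pos
    have := (ZMod.natCast_eq_zero_iff _ _).mpr hdvd
    rw [Nat.cast_sub h1, sub_eq_zero] at this
    simpa using this
  have hneg : (-1 : ZMod p) ≠ 1 := by
    intro h
    have h2 : ((2 : ℕ) : ZMod p) = 0 := by push_cast; linear_combination -h
    exact hodd ((Nat.prime_dvd_prime_iff_eq hp Nat.prime_two).mp ((ZMod.natCast_eq_zero_iff _ _).mp h2))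
  by_contra hlt
  interval_cases d
  · rw [pow_one] at hqd; rw [hqd, one_pow] at hq; exact hneg hq.symm
  · rw [hq] at hqd; exact hneg hqd
  · rw [pow_succ, hq] at hqd
    have h5 : ((Nat.card F : ℕ) : ZMod p) = -1 := by linear_combination -hqd
    rw [h5, neg_one_sq] at hq; exact hneg hq.symm

theorem isCyclic_centralizer_of_prime {g : G} {p : ℕ} (hp : p.Prime) (hg : orderOf g = p)
    (hpd : p ∣ (2 ^ (2 * m + 1)) ^ 2 + 1) :
    IsCyclic (Subgroup.centralizer {g}) ∧
      ∃ S : Set G, S.ncard ≤ 4 ∧ g ∈ S ∧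
        ∀ c h : G, h = c * g * c⁻¹ → Commute h g → h ∈ S := by
  have := finiteF (F := F) (m := m)
  have := charTwo (F := F) (m := m)
  set M : Matrix (Fin 4) (Fin 4) F := ((g : Matrix.SpecialLinearGroup (Fin 4) F) : Matrix (Fin 4) (Fin 4) F)
  let toM : G →* Matrix (Fin 4) (Fin 4) F :=
    { toFun := fun x => ((x : Matrix.SpecialLinearGroup (Fin 4) F) : Matrix (Fin 4) (Fin 4) F)
      map_one' := rfl
      map_mul' := fun _ _ => rfl }
  have toM_inj : Function.Injective toM := fun x y h => Subtype.ext (Subtype.ext h)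
  have hodd : p ≠ 2 := by
    rintro rfl
    have h2 : 2 ∣ (2 ^ (2 * m + 1)) ^ 2 := dvd_pow (dvd_pow_self 2 (by omega)) two_ne_zero
    omega
  have hMp : M ^ p = 1 := by
    change toM g ^ p = 1
    rw [← map_pow, ← hg, pow_orderOf_eq_one, map_one]
  have hM1 : M ≠ 1 := fun h => by
    have : g = 1 := toM_inj (h.trans toM.map_one.symm)
    rw [this, orderOf_one] at hg
    exact hp.one_lt.ne hg
  set μ := minpoly F M with hμ
  have hint : IsIntegral F M := Algebra.IsIntegral.isIntegral M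
  have hμdeg : μ.natDegree ≤ 4 := by
    refine (Polynomial.natDegree_le_of_dvd (Matrix.minpoly_dvd_charpoly M)
      (Matrix.charpoly_monic M).ne_zero).trans ?_
    rw [Matrix.charpoly_natDegree_eq_dim, Fintype.card_fin]
  have hμp : μ ∣ Polynomial.X ^ p - 1 := minpoly.dvd F M (by simp [hMp])
  have hsep : (Polynomial.X ^ p - 1 : Polynomial F).Separable := by
    refine Polynomial.X_pow_sub_one_separable_iff.mpr ?_
    rw [Ne, CharP.cast_eq_zero_iff F 2]
    exact fun h => hodd ((Nat.prime_dvd_prime_iff_eq Nat.prime_two hp).mp h).symm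
  -- an irreducible factor different from `X - 1`
  obtain ⟨r, hr, hrm, hrμ, hr1⟩ : ∃ r : Polynomial F, Irreducible r ∧ r.Monic ∧ r ∣ μ ∧
      r.eval 1 ≠ 0 := by
    obtain ⟨t, ht⟩ : ∃ t, μ = (Polynomial.X - Polynomial.C 1) ^ μ.rootMultiplicity 1 * t ∧
        ¬ (Polynomial.X - Polynomial.C 1) ∣ t :=
      Polynomial.exists_eq_pow_rootMultiplicity_mul_and_not_dvd μ (minpoly.ne_zero hint) 1
    have htne : ¬ IsUnit t := by
      intro hu
      have hk : μ.rootMultiplicity 1 ≤ 1 :=
        (Polynomial.rootMultiplicity_le_one_of_separable (hsep.of_dvd hμp) _)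
      obtain ⟨u, hu'⟩ := Polynomial.isUnit_iff.mp hu
      rw [← hu'.2] at ht
      have h0 : Polynomial.aeval M μ = 0 := minpoly.aeval F M
      rcases Nat.le_one_iff_eq_zero_or_eq_one.mp hk with h | h <;> rw [h] at ht <;> rw [ht.1] at h0
      · simp at h0; exact hu'.1.ne_zero h0
      · simp [hu'.1.ne_zero, sub_eq_zero] at h0
        exact hM1 (sub_eq_zero.mp ((hu'.1.map (algebraMap F _)).mul_left_eq_zero.mp h0))
    obtain ⟨r, hrm, hr, hrt⟩ := Polynomial.exists_monic_irreducible_factor t htne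
    refine ⟨r, hr, hrm, hrt.trans ⟨_, ht.1.trans (mul_comm _ _)⟩, fun h => ht.2 ?_⟩
    exact (Polynomial.dvd_iff_isRoot.mpr h).trans hrt
  have : Fact (Irreducible r) := ⟨hr⟩
  have hfin : FiniteDimensional F (AdjoinRoot r) := (AdjoinRoot.powerBasis hr.ne_zero).finite
  have hdim : Module.finrank F (AdjoinRoot r) = r.natDegree :=
    (AdjoinRoot.powerBasis hr.ne_zero).finrank.trans (AdjoinRoot.powerBasis_dim hr.ne_zero)
  have h4 : 4 ≤ r.natDegree := by
    rw [← hdim]
    refine natCard_M4 (x := AdjoinRoot.root r) hp ?_ hodd ?_ ?_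
    · rw [natCard (F := F) (m := m)]; exact hpd
    · intro h
      have h2 := AdjoinRoot.eval₂_root r
      rw [h, Polynomial.eval₂_at_one, map_eq_zero] at h2
      exact hr1 h2
    · have h2 : AdjoinRoot.mk r (Polynomial.X ^ p - 1) = 0 :=
        AdjoinRoot.mk_eq_zero.mpr (hrμ.trans hμp)
      rwa [map_sub, map_pow, map_one, AdjoinRoot.mk_X, sub_eq_zero] at h2
  have hrdeg : r.natDegree = 4 :=
    le_antisymm ((Polynomial.natDegree_le_of_dvd hrμ (minpoly.ne_zero hint)).trans hμdeg) h4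
  have hμr : μ = r := by
    refine (Polynomial.eq_of_monic_of_dvd_of_natDegree_le hrm (minpoly.monic hint) hrμ ?_)
    rw [hrdeg]; exact hμdeg
  have hrM : Polynomial.aeval M r = 0 := hμr ▸ minpoly.aeval F M
  let φ₀ : AdjoinRoot r →+* Matrix (Fin 4) (Fin 4) F :=
    Ideal.Quotient.lift (Ideal.span ({r} : Set (Polynomial F))) (Polynomial.aeval M).toRingHom (fun a ha => by
      obtain ⟨t, rfl⟩ := Ideal.mem_span_singleton.mp ha
      simp [hrM])
  have hφ₀ : ∀ f : Polynomial F, φ₀ (AdjoinRoot.mk r f) = Polynomial.aeval M f := fun f => rfl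
  let φ : AdjoinRoot r →ₐ[F] Matrix (Fin 4) (Fin 4) F :=
    { φ₀ with
      commutes' := fun c => by
        rw [AdjoinRoot.algebraMap_eq, ← AdjoinRoot.mk_C]
        exact (hφ₀ _).trans (Polynomial.aeval_C _ _) }
  have hφ : Function.Injective φ := φ.toRingHom.injective
  have hφroot : φ (AdjoinRoot.root r) = M := by
    rw [← AdjoinRoot.mk_X]; exact (hφ₀ _).trans (Polynomial.aeval_X _)
  let ev : AdjoinRoot r →ₗ[F] (Fin 4 → F) :=
    (Matrix.mulVecBilin F F).flip ![1, 0, 0, 0] ∘ₗ φ.toLinearMap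
  have hev : Function.Injective ev := by
    rw [injective_iff_map_eq_zero]
    intro a ha
    by_contra hne
    have h1 : φ a⁻¹ *ᵥ (φ a *ᵥ ![1, 0, 0, 0]) = ![1, 0, 0, 0] := by
      rw [Matrix.mulVec_mulVec, ← map_mul, inv_mul_cancel₀ hne, map_one, Matrix.one_mulVec]
    rw [show φ a *ᵥ ![1, 0, 0, 0] = 0 from ha, Matrix.mulVec_zero] at h1
    simpa using congrFun h1 0
  have hevs : Function.Surjective ev := by
    refine (LinearMap.injective_iff_surjective_of_finrank_eq_finrank ?_).mp hev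
    rw [hdim, hrdeg, Module.finrank_fin_fun]
  have hcomm : ∀ N : Matrix (Fin 4) (Fin 4) F, Commute N M → ∃ a, φ a = N := by
    intro N hN
    obtain ⟨a, ha⟩ := hevs (N *ᵥ ![1, 0, 0, 0])
    refine ⟨a, ?_⟩
    have hNφ : ∀ b, Commute N (φ b) := by
      intro b
      induction b using AdjoinRoot.induction_on with
      | _ f =>
        rw [show φ (AdjoinRoot.mk r f) = Polynomial.aeval M f by
          rw [← AdjoinRoot.aeval_eq, ← Polynomial.aeval_algHom_apply, hφroot]]
        induction f using Polynomial.induction_on with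
        | C c => rw [Polynomial.aeval_C]; exact (Algebra.commutes c N).symm
        | add f g hf hg => rw [map_add]; exact hf.add_right hg
        | monomial n c _ =>
          rw [map_mul, Polynomial.aeval_C, map_pow, Polynomial.aeval_X]
          exact Commute.mul_right (Algebra.commutes c N).symm (hN.pow_right _)
    refine Matrix.ext_iff_mulVec.mpr fun v => ?_
    obtain ⟨b, rfl⟩ := hevs v
    change φ a *ᵥ (φ b *ᵥ ![1, 0, 0, 0]) = N *ᵥ (φ b *ᵥ ![1, 0, 0, 0])
    rw [Matrix.mulVec_mulVec, Matrix.mulVec_mulVec, ← map_mul, mul_comm, map_mul, (hNφ b).eq,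
      ← Matrix.mulVec_mulVec, ← Matrix.mulVec_mulVec]
    exact congrArg (φ b *ᵥ ·) ha
  have hψ : ∀ x : Subgroup.centralizer {g}, ∃ a, φ a = toM x := fun x =>
    hcomm _ (by
      have := Subgroup.mem_centralizer_singleton_iff.mp x.2
      exact (congrArg toM this : _))
  choose ψ hψ using hψ
  constructor
  · let ψh : Subgroup.centralizer {g} →* AdjoinRoot r :=
      { toFun := ψ
        map_one' := hφ (by rw [hψ, map_one]; exact toM.map_one)
        map_mul' := fun x y => hφ (by rw [map_mul, hψ, hψ, hψ]; exact toM.map_mul _ _) }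
    exact isCyclic_of_subgroup_isDomain ψh fun x y h =>
      Subtype.ext (toM_inj (by rw [← hψ x, ← hψ y]; exact congrArg φ h))
  · classical
    refine ⟨{x : G | ∃ a ∈ (r.aroots (AdjoinRoot r)).toFinset, φ a = toM x}, ?_, ?_, ?_⟩
    · have hle : ({x : G | ∃ a ∈ (r.aroots (AdjoinRoot r)).toFinset, φ a = toM x}).ncard ≤
          ((r.aroots (AdjoinRoot r)).toFinset.image φ : Set (Matrix (Fin 4) (Fin 4) F)).ncard := by
        refine Set.ncard_le_ncard_of_injOn toM ?_ toM_inj.injOn (Finset.finite_toSet _)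
        rintro x ⟨a, ha, hax⟩
        simp only [Finset.mem_coe, Finset.mem_image]
        exact ⟨a, ha, hax⟩
      refine hle.trans ?_
      rw [Set.ncard_coe_finset]
      refine Finset.card_image_le.trans ((Multiset.toFinset_card_le _).trans ?_)
      exact (Polynomial.card_roots' _).trans (by rw [Polynomial.natDegree_map, hrdeg])
    · refine ⟨AdjoinRoot.root r, ?_, hφroot⟩
      rw [Multiset.mem_toFinset, Polynomial.mem_aroots]
      exact ⟨hr.ne_zero, by rw [AdjoinRoot.aeval_eq, AdjoinRoot.mk_self]⟩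
    · intro c h hh hcm
      obtain ⟨a, ha⟩ := hcomm (toM h) (congrArg toM hcm.eq)
      refine ⟨a, ?_, ha⟩
      rw [Multiset.mem_toFinset, Polynomial.mem_aroots]
      refine ⟨hr.ne_zero, hφ ?_⟩
      have key : ∀ f : Polynomial F,
          Polynomial.aeval (toM h) f = toM c * Polynomial.aeval M f * toM c⁻¹ := by
        intro f
        induction f using Polynomial.induction_on with
        | C c' =>
          rw [Polynomial.aeval_C, Polynomial.aeval_C, ← Algebra.commutes, mul_assoc, ← map_mul toM,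
            mul_inv_cancel, map_one, mul_one]
        | add f f' hf hf' => rw [map_add, map_add, hf, hf', mul_add, add_mul]
        | monomial n c' _ =>
          rw [map_mul, map_mul, Polynomial.aeval_C, Polynomial.aeval_C, map_pow, map_pow,
            Polynomial.aeval_X, Polynomial.aeval_X, ← mul_assoc (toM c), ← Algebra.commutes,
            mul_assoc, mul_assoc]
          congr 1
          rw [← map_pow toM, hh, conj_pow, map_mul, map_mul, map_pow, mul_assoc]
          rfl
      rw [← Polynomial.aeval_algHom_apply, ha, key, hrM, mul_zero, zero_mul, map_zero]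

theorem FixFree.exists_prime_pow {g : G} (hg : FixFree g) :
    ∃ p : ℕ, p.Prime ∧ p ∣ (2 ^ (2 * m + 1)) ^ 2 + 1 ∧ ∃ h ∈ Subgroup.zpowers g, orderOf h = p := by
  have h1 : orderOf g ≠ 1 := fun h => hg.ne_one (orderOf_eq_one_iff.mp h)
  obtain ⟨p, hp, hpd⟩ := Nat.exists_prime_and_dvd h1
  refine ⟨p, hp, hpd.trans hg.orderOf_dvd, g ^ (orderOf g / p), Subgroup.npow_mem_zpowers _ _, ?_⟩
  exact orderOf_pow_orderOf_div (orderOf_pos g).ne' hpd

theorem FixFree.isCyclic_centralizer {g : G} (hg : FixFree g) :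
    IsCyclic (Subgroup.centralizer {g}) := by
  obtain ⟨p, hp, hpd, h, hh, ho⟩ := hg.exists_prime_pow
  have := (isCyclic_centralizer_of_prime hp ho hpd).1
  have hle : Subgroup.centralizer {g} ≤ Subgroup.centralizer {h} := fun x hx => by
    obtain ⟨n, rfl⟩ := Subgroup.mem_zpowers_iff.mp hh
    exact Subgroup.mem_centralizer_singleton_iff.mpr
      (Commute.zpow_right (Subgroup.mem_centralizer_singleton_iff.mp hx) n)
  exact isCyclic_of_injective (Subgroup.inclusion hle) (Subgroup.inclusion_injective hle)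

theorem FixFree.centralizer_eq {g u : G} (hg : FixFree g) (hu : u ∈ Subgroup.centralizer {g})
    (hu1 : u ≠ 1) : Subgroup.centralizer {u} = Subgroup.centralizer {g} := by
  have hc : Commute u g := Subgroup.mem_centralizer_singleton_iff.mp hu
  have hug := (hg.of_commute hc hu1)
  have key : ∀ {a b : G}, FixFree a → Commute b a →
      Subgroup.centralizer {a} ≤ Subgroup.centralizer {b} := by
    intro a b ha hba x hx
    have := ha.isCyclic_centralizer
    let : CommGroup (Subgroup.centralizer {a}) := IsCyclic.commGroup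
    exact Subgroup.mem_centralizer_singleton_iff.mpr (congrArg Subtype.val
      (mul_comm (⟨x, hx⟩ : Subgroup.centralizer {a}) ⟨b, Subgroup.mem_centralizer_singleton_iff.mpr hba⟩))
  exact le_antisymm (key hug hc.symm) (key hg hc)

/-- Centralisers of non-identity elements are nilpotent. -/
theorem isNilpotent_centralizer {g : G} (hg : g ≠ 1) :
    Group.IsNilpotent (Subgroup.centralizer {g}) := by
  rcases exists_conj_Ts_or_Hs hg with hf | ⟨c, a, b, hab⟩ | ⟨c, k, hk, hck⟩
  · have := hf.isCyclic_centralizer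
    let : CommGroup (Subgroup.centralizer {g}) := IsCyclic.commGroup
    exact CommGroup.isNilpotent
  · have : Fact (Nat.Prime 2) := ⟨Nat.prime_two⟩
    have hne : (Ts a b : G) ≠ 1 := by
      rw [← hab]; intro e; exact hg (conj_eq_one_iff.mp e)
    have hle : ∀ x ∈ Subgroup.centralizer {g}, c * x * c⁻¹ ∈ (unipotent : Subgroup G) := fun x hx =>
      commute_Ts_mem hne (hab ▸ (Commute.conj (Subgroup.mem_centralizer_singleton_iff.mp hx) c))
    refine IsPGroup.isNilpotent (p := 2) fun x => ?_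
    obtain ⟨n, hn⟩ := isPGroup_unipotent (F := F) (m := m) ⟨_, hle x x.2⟩
    refine ⟨n, Subtype.ext ?_⟩
    have h1 : (c * (x : G) * c⁻¹) ^ 2 ^ n = 1 := congrArg Subtype.val hn
    rw [conj_pow, conj_eq_one_iff] at h1
    exact h1
  · have hle : ∀ x : Subgroup.centralizer {g}, ∃ l, c * (x : G) * c⁻¹ = Hs l := fun x =>
      commute_Hs_eq hk (hck ▸ (Commute.conj (Subgroup.mem_centralizer_singleton_iff.mp x.2) c))
    have hcom : ∀ x y : Subgroup.centralizer {g}, x * y = y * x := fun x y => by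
      obtain ⟨l, hl⟩ := hle x
      obtain ⟨n, hn⟩ := hle y
      refine Subtype.ext ((MulAut.conj c).injective ?_)
      simp only [Subgroup.coe_mul, map_mul, MulAut.conj_apply, hl, hn, Hs_mul, mul_comm]
    let : CommGroup (Subgroup.centralizer {g}) := { mul_comm := hcom }
    exact CommGroup.isNilpotent

theorem isCyclic_sylow_odd {p : ℕ} [hp : Fact p.Prime] (hp2 : p ≠ 2) (P : Sylow p G) :
    IsCyclic P := by
  by_cases htriv : (P : Subgroup G) = ⊥
  · have : Subsingleton (P : Subgroup G) := ⟨fun x y => Subtype.ext (by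
      have hbot : ∀ z ∈ (P : Subgroup G), z = 1 := (Subgroup.eq_bot_iff_forall _).mp htriv
      rw [hbot _ x.2, hbot _ y.2])⟩
    exact isCyclic_of_subsingleton
  have : Nontrivial (P : Subgroup G) := (Subgroup.nontrivial_iff_ne_bot _).mpr htriv
  have := P.isPGroup'.center_nontrivial
  obtain ⟨z, hz1⟩ := exists_ne (1 : Subgroup.center (P : Subgroup G))
  have hzne : ((z : (P : Subgroup G)) : G) ≠ 1 := fun h => hz1 (Subtype.ext (Subtype.ext h))
  have hle : (P : Subgroup G) ≤ Subgroup.centralizer {((z : (P : Subgroup G)) : G)} := fun x hx =>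
    Subgroup.mem_centralizer_singleton_iff.mpr
      (congrArg Subtype.val (Subgroup.mem_center_iff.mp z.2 ⟨x, hx⟩))
  rcases exists_conj_Ts_or_Hs hzne with hf | ⟨c, a, b, hab⟩ | ⟨c, k, hk, hck⟩
  · have := hf.isCyclic_centralizer
    exact isCyclic_of_injective (Subgroup.inclusion hle) (Subgroup.inclusion_injective hle)
  · exfalso
    obtain ⟨n, hn⟩ := (P.isPGroup').exists_card_eq
    have h1 : orderOf ((z : (P : Subgroup G)) : G) ∣ p ^ n := hn ▸
      (P : Subgroup G).orderOf_dvd_natCard (z : (P : Subgroup G)).2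
    have h2 : orderOf ((z : (P : Subgroup G)) : G) ∣ 4 := by
      rw [← MulEquiv.orderOf_eq (MulAut.conj c), MulAut.conj_apply, hab]; exact orderOf_Ts_dvd a b
    have hco : Nat.Coprime (p ^ n) 4 :=
      Nat.Coprime.pow n 2 ((Nat.coprime_primes hp.out Nat.prime_two).mpr hp2)
    exact hzne (orderOf_eq_one_iff.mp (Nat.eq_one_of_dvd_coprimes hco h1 h2))
  · have hle' : (P : Subgroup G).map (MulAut.conj c).toMonoidHom ≤
        (torusHom : Fˣ →* G).range := by
      rw [← centralizer_Hs hk]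
      rintro _ ⟨x, hx, rfl⟩
      exact Subgroup.mem_centralizer_singleton_iff.mpr
        (hck ▸ (Commute.conj (Subgroup.mem_centralizer_singleton_iff.mp (hle hx)) c)).eq
    have := isCyclic_torus (F := F) (m := m)
    have h2 : IsCyclic ↥((P : Subgroup G).map (MulAut.conj c).toMonoidHom) :=
      isCyclic_of_injective (Subgroup.inclusion hle') (Subgroup.inclusion_injective hle')
    exact ((Subgroup.equivMapOfInjective (P : Subgroup G) _ (MulAut.conj c).injective).isCyclic).mpr h2

end Cfsg.Agent.SuzukiGroupCentralizer
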