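import Mathlib
import Cfsg.Prelude
import Cfsg.Agent.Lib.CNFacts57
import Cfsg.Agent.Lib.SuzukiGroupCentralizer
import Cfsg.Agent.Lib.FpfModules86Sz

/-!
The data for the Suzuki groups.
-/

set_option autoImplicit false
set_option linter.style.haveILetI false

namespace Cfsg.Agent.CNFactsSz57

open Cfsg.Agent.SuzukiGroupBasic Cfsg.Agent.SuzukiGroupStructure Cfsg.Agent.SuzukiGroupCentralizer

variable {F : Type*} [Field F] {m : ℕ} [hP : Param F m]

set_option quotPrecheck false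
local notation "G" => ↥(Cfsg.Sz F m)

theorem odd_pred : Odd (2 ^ (2 * m + 1) - 1) :=
  Nat.Even.sub_odd Nat.one_le_two_pow ((Nat.even_pow).mpr ⟨even_two, by omega⟩) odd_one

theorem invol_Ts {g : G} (hg : orderOf g = 2) :
    ∃ c : G, ∃ b : F, b ≠ 0 ∧ c * g * c⁻¹ = Ts 0 b := by
  have hg1 : g ≠ 1 := fun e => by rw [e, orderOf_one] at hg; omega
  have hg2 : g * g = 1 := by
    have := pow_orderOf_eq_one g
    rwa [hg, pow_two] at this
  rcases exists_conj_Ts_or_Hs hg1 with hf | ⟨c, a, b, hab⟩ | ⟨c, k, hk, hck⟩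
  · obtain ⟨p, hp, hfix⟩ := involution_fix hg1 hg2
    exact absurd hfix (hf p hp)
  · have h2 : (Ts a b : G) ^ 2 = 1 := by
      rw [← hab, conj_pow, pow_two, hg2, mul_one, mul_inv_cancel]
    have ha := Ts_sq_eq_one.mp h2
    subst ha
    refine ⟨c, b, fun hb => hg1 (conj_eq_one_iff.mp (hab.trans ?_)), hab⟩
    rw [hb, Ts_zero]
  · exfalso
    have h1 : orderOf (Hs k : G) = 2 := by rw [← hck, ← MulAut.conj_apply, MulEquiv.orderOf_eq, hg]
    have := orderOf_Hs_dvd (F := F) (m := m) k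
    rw [h1] at this
    exact Nat.not_even_iff_odd.mpr (odd_pred (m := m)) (even_iff_two_dvd.mpr this)

theorem one_class (a b : G) (ha : orderOf a = 2) (hb : orderOf b = 2) : IsConj a b := by
  obtain ⟨c, x, hx, hcx⟩ := invol_Ts ha
  obtain ⟨c', y, hy, hcy⟩ := invol_Ts hb
  obtain ⟨k, hk⟩ := exists_mul_sg (F := F) (m := m) (y / x)
  have hk0 : k ≠ 0 := fun h => by
    rw [h, zero_mul] at hk
    exact div_ne_zero hy hx hk.symm
  have h1 : IsConj a (Ts 0 x : G) := isConj_iff.mpr ⟨c, hcx⟩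
  have h2 : IsConj b (Ts 0 y : G) := isConj_iff.mpr ⟨c', hcy⟩
  refine (h1.trans (isConj_iff.mpr ⟨Hs (Units.mk0 k hk0), ?_⟩)).trans h2.symm
  rw [Hs_Ts, Units.val_mk0, mul_zero, hk, div_mul_cancel₀ y hx]

theorem conj_torus (φ : MulAut G) : ∃ l : G,
    ((torusHom : Fˣ →* G).range).map (MulAut.conj l).toMonoidHom =
      ((torusHom : Fˣ →* G).range).map φ.toMonoidHom := by
  have := finiteF (F := F) (m := m)
  set T := (torusHom : Fˣ →* G).range with hT
  obtain ⟨⟨x, hx⟩, hgen⟩ := (isCyclic_torus (F := F) (m := m)).exists_generator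
  have hxT : T = Subgroup.zpowers x := by
    refine le_antisymm (fun y hy => ?_) (Subgroup.zpowers_le.mpr hx)
    obtain ⟨i, hi⟩ := hgen ⟨y, hy⟩
    exact ⟨i, congrArg Subtype.val hi⟩
  have hcard : orderOf x = 2 ^ (2 * m + 1) - 1 := by
    rw [← Nat.card_zpowers, ← hxT, hT, natCard_torus]
  have hq : 7 ≤ 2 ^ (2 * m + 1) - 1 := by
    have : 2 ^ 3 ≤ 2 ^ (2 * m + 1) :=
      Nat.pow_le_pow_right two_pos (by have := one_le (F := F) (m := m); omega)
    omega
  have ho : orderOf (φ x) = 2 ^ (2 * m + 1) - 1 := by rw [MulEquiv.orderOf_eq, hcard]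
  have h1 : φ x ≠ 1 := fun e => by rw [e, orderOf_one] at ho; omega
  rcases exists_conj_Ts_or_Hs h1 with hf | ⟨c, a, b, hab⟩ | ⟨c, k, hk, hck⟩
  · exfalso
    have h2 := hf.orderOf_dvd
    rw [ho] at h2
    have h3 : (2 ^ (2 * m + 1)) ^ 2 + 1 = (2 ^ (2 * m + 1) - 1) * (2 ^ (2 * m + 1) + 1) + 2 := by
      have := Nat.one_le_two_pow (n := 2 * m + 1)
      generalize 2 ^ (2 * m + 1) = q at this
      obtain ⟨r, rfl⟩ := Nat.exists_eq_add_of_le this
      simp; ring
    rw [h3] at h2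
    have := Nat.le_of_dvd two_pos ((Nat.dvd_add_right (Dvd.intro _ rfl)).mp h2)
    omega
  · exfalso
    have h2 : orderOf (Ts a b : G) ∣ 4 := orderOf_Ts_dvd a b
    rw [← hab, ← MulAut.conj_apply, MulEquiv.orderOf_eq, ho] at h2
    have := Nat.le_of_dvd (by norm_num) h2
    omega
  · refine ⟨c⁻¹, ?_⟩
    have hle : (Subgroup.zpowers (Hs k : G)) ≤ T := Subgroup.zpowers_le.mpr ⟨k, rfl⟩
    have heq : Subgroup.zpowers (Hs k : G) = T := Subgroup.eq_of_le_of_card_ge hle (by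
      rw [Nat.card_zpowers, ← hck, ← MulAut.conj_apply, MulEquiv.orderOf_eq, ho, hT,
        natCard_torus])
    conv_rhs => rw [hxT]
    rw [← heq, MonoidHom.map_zpowers, MonoidHom.map_zpowers]
    congr 1
    show MulAut.conj c⁻¹ (Hs k) = φ x
    rw [MulAut.conj_apply, ← hck]
    group

/-- The data for `Sz(q)`. -/
theorem facts_sz :
    ∃ D : Subgroup G, Nat.card D = 2 ^ (2 * m + 1) - 1 ∧ CNFacts57.Facts G D 1 := by
  have := finiteF (F := F) (m := m)
  refine ⟨(torusHom : Fˣ →* G).range, natCard_torus, one_class,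
    by rw [natCard_torus]; exact odd_pred, conj_torus, ?_, ?_⟩
  · rintro d ⟨k, rfl⟩ hd j hj hc
    have hk : k ≠ 1 := fun e => hd (by rw [e, map_one])
    obtain ⟨l, rfl⟩ := commute_Hs_eq hk (g := j) (show Commute j (Hs k) from hc.symm)
    have h := orderOf_Hs_dvd (F := F) (m := m) l
    rw [hj] at h
    exact Nat.not_even_iff_odd.mpr (odd_pred (m := m)) (even_iff_two_dvd.mpr h)
  · have hW : orderOf (Ws : G) = 2 := by
      refine orderOf_eq_prime (by rw [pow_two, Ws_mul_Ws]) fun e => ?_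
      have h := Ws_smul_inf (F := F) (m := m)
      rw [e, one_smul] at h
      exact inf_ne_zero h
    rw [pow_one, ← hW]
    refine Subgroup.orderOf_dvd_natCard _ (Subgroup.mem_normalizer_iff_map_conj_eq.2
      (Subgroup.eq_of_le_of_card_ge ?_ (Subgroup.card_map_of_injective
        (MulAut.conj _).injective).ge))
    rintro _ ⟨_, ⟨k, rfl⟩, rfl⟩
    exact ⟨k⁻¹, (Ws_Hs k).symm⟩

end Cfsg.Agent.CNFactsSz57
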