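import Mathlib
import Cfsg.Prelude
import Cfsg.Agent.Lib.CNStructure57
import Cfsg.Agent.Lib.PSL2Elements
import Cfsg.Agent.Lib.PSL2Proj52

/-!
Groups acting on a nontrivial abelian `2`-group of exponent `2` so that odd-order elements have no
fixed points: no non-cyclic subgroup of order `9`, and no `PSL₂(p)` with `p ≥ 7`.
-/

set_option autoImplicit false
set_option linter.unusedSectionVars false

namespace Cfsg.Agent.CNQuadratic57

section Ring

variable {R : Type*} [Ring R] [Nontrivial R] {L : Type*} [Group L] (ρ : L →* R)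

/-- The hypothesis on `ρ`. -/
def Fpf : Prop := (2 : R) = 0 ∧
  ∀ y : L, Odd (orderOf y) → y ≠ 1 → ∀ a : R, (ρ y - 1) * a = 0 → a = 0

variable {ρ} (h : Fpf ρ)

include h in
theorem add_self (a : R) : a + a = 0 := by rw [← two_mul, h.1, zero_mul]

include h in
theorem neg_eq (a : R) : -a = a := neg_eq_of_add_eq_zero_left (add_self h a)

include h in
theorem two_nsmul_eq (a : R) : 2 • a = 0 := by rw [two_nsmul, add_self h]

include h in
theorem two_zsmul_eq (a : R) : (2 : ℤ) • a = 0 := by rw [two_zsmul, add_self h]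

include h in
theorem sub_eq (a b : R) : a - b = a + b := by rw [sub_eq_add_neg, neg_eq h]

omit [Nontrivial R] in
theorem cube {x : L} (hx : orderOf x = 3) : x * (x * x) = 1 := by
  have := pow_orderOf_eq_one x
  rwa [hx, pow_three] at this

include h in
theorem quad {x : L} (hx : orderOf x = 3) : ρ x * ρ x = ρ x + 1 := by
  have hx1 : x ≠ 1 := fun e => by rw [e, orderOf_one] at hx; omega
  have h3 : ρ x * (ρ x * ρ x) = 1 := by rw [← map_mul, ← map_mul, cube hx, map_one]
  have := h.2 x (by rw [hx]; exact ⟨1, rfl⟩) hx1 (ρ x * ρ x + ρ x + 1) (by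
    rw [sub_mul, one_mul, mul_add, mul_add, h3, mul_one]; abel)
  rw [← sub_eq_zero, sub_eq h, ← this]
  abel

include h in
theorem no_commuting_pair {x y : L} (hx : orderOf x = 3) (hy : orderOf y = 3)
    (hc : Commute x y) (h1 : x⁻¹ * y ≠ 1) (h2 : x⁻¹ * (y * y) ≠ 1) : False := by
  have hodd : ∀ z : L, z ^ 3 = 1 → Odd (orderOf z) := fun z hz => by
    rcases (Nat.dvd_prime Nat.prime_three).mp (orderOf_dvd_of_pow_eq_one hz) with e | e
    · rw [e]; exact odd_one
    · rw [e]; exact ⟨1, rfl⟩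
  have hx3 : x ^ 3 = 1 := hx ▸ pow_orderOf_eq_one x
  have hy3 : y ^ 3 = 1 := hy ▸ pow_orderOf_eq_one y
  have hz : (x⁻¹ * y) ^ 3 = 1 := by rw [hc.inv_left.mul_pow, inv_pow, hx3, inv_one, hy3, one_mul]
  have hw : (x⁻¹ * (y * y)) ^ 3 = 1 := by
    rw [(hc.mul_right hc).inv_left.mul_pow, inv_pow, hx3, inv_one, (Commute.refl y).mul_pow, hy3,
      one_mul, one_mul]
  have hprod : (ρ (x⁻¹ * y) - 1) * (ρ (x⁻¹ * (y * y)) - 1) = 0 := by
    have e : ρ (x * x) * ((ρ (x⁻¹ * y) - 1) * (ρ (x⁻¹ * (y * y)) - 1)) = 0 := by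
      have e1 : x * x * (x⁻¹ * y * (x⁻¹ * (y * y))) = 1 := by
        calc x * x * (x⁻¹ * y * (x⁻¹ * (y * y))) = x * (y * x⁻¹) * (y * y) := by group
          _ = x * (x⁻¹ * y) * (y * y) := by rw [hc.inv_left.eq]
          _ = y * y * y := by group
          _ = y ^ 3 := by rw [pow_succ, pow_two]
          _ = 1 := hy3
      have e2 : x * x * (x⁻¹ * y) = x * y := by group
      have e3 : x * x * (x⁻¹ * (y * y)) = x * (y * y) := by group
      calc ρ (x * x) * ((ρ (x⁻¹ * y) - 1) * (ρ (x⁻¹ * (y * y)) - 1))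
          = ρ (x * x * (x⁻¹ * y * (x⁻¹ * (y * y)))) - ρ (x * x * (x⁻¹ * y))
              - ρ (x * x * (x⁻¹ * (y * y))) + ρ (x * x) := by
            simp only [map_mul]; noncomm_ring
        _ = 1 - ρ x * ρ y - ρ x * (ρ y * ρ y) + ρ x * ρ x := by
            rw [e1, e2, e3]; simp only [map_mul, map_one]
        _ = (1 + 1) - (ρ x * ρ y + ρ x * ρ y) := by
            rw [quad h hx, quad h hy, mul_add, mul_one]; abel
        _ = 0 := by rw [add_self h, add_self h, sub_zero]
    have := congrArg (fun a => ρ (x * x)⁻¹ * a) e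
    simpa [← mul_assoc, ← map_mul] using this
  have hzero := h.2 _ (hodd _ hz) h1 _ hprod
  exact one_ne_zero (h.2 _ (hodd _ hw) h2 1 (by rw [mul_one, hzero]))

include h in
/-- The trace element commutes with both generators. -/
theorem trace_commute {x y : L} (hx : orderOf x = 3) (hy : orderOf y = 3) :
    Commute (ρ x) (ρ (x * y) + ρ (x * y)⁻¹) ∧ Commute (ρ y) (ρ (x * y) + ρ (x * y)⁻¹) := by
  have hxi : ρ x⁻¹ = ρ x + 1 := by
    rw [← quad h hx, ← map_mul]
    congr 1
    exact inv_eq_of_mul_eq_one_right (cube hx)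
  have hyi : ρ y⁻¹ = ρ y + 1 := by
    rw [← quad h hy, ← map_mul]
    congr 1
    exact inv_eq_of_mul_eq_one_right (cube hy)
  constructor
  · show ρ x * _ = _ * ρ x
    calc ρ x * (ρ (x * y) + ρ (x * y)⁻¹)
        = ρ x * ρ x * ρ y + ρ x * ρ y * ρ x + ρ x * ρ y + (ρ x * ρ x + ρ x) := by
          rw [mul_inv_rev, map_mul, map_mul, hxi, hyi]; noncomm_ring
      _ = (ρ x * ρ y + ρ x * ρ y) + (ρ x * ρ y * ρ x + ρ y + 1) + (ρ x + ρ x) := by
          rw [quad h hx, add_mul, one_mul]; abel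
      _ = ρ x * ρ y * ρ x + ρ y + 1 := by rw [add_self h, add_self h, zero_add, add_zero]
      _ = ρ (x * y * x) + ρ y⁻¹ := by rw [hyi, map_mul, map_mul]; abel
      _ = (ρ (x * y) + ρ (x * y)⁻¹) * ρ x := by
          rw [add_mul, ← map_mul, ← map_mul, mul_inv_rev, mul_assoc y⁻¹, inv_mul_cancel, mul_one]
  · show ρ y * _ = _ * ρ y
    calc ρ y * (ρ (x * y) + ρ (x * y)⁻¹)
        = ρ (y * x * y) + ρ x⁻¹ := by
          rw [mul_add, ← map_mul, ← map_mul, mul_inv_rev, ← mul_assoc y y⁻¹, mul_inv_cancel, one_mul,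
            mul_assoc]
      _ = ρ y * ρ x * ρ y + ρ x + 1 := by rw [hxi, map_mul, map_mul]; abel
      _ = (ρ x * ρ y + ρ x * ρ y) + (ρ y * ρ x * ρ y + ρ x + 1) + (ρ y + ρ y) := by
          rw [add_self h, add_self h, zero_add, add_zero]
      _ = ρ x * (ρ y * ρ y) + ρ y * ρ x * ρ y + ρ y * ρ y + ρ x * ρ y + ρ y := by
          rw [quad h hy, mul_add, mul_one]; abel
      _ = (ρ (x * y) + ρ (x * y)⁻¹) * ρ y := by
          rw [mul_inv_rev, map_mul, map_mul, hxi, hyi]; noncomm_ring

include h in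
theorem no_triangle {x y n : L} (hx : orderOf x = 3) (hy : orderOf y = 3)
    (hn : n ∈ Subgroup.closure ({x, y} : Set L)) {a : ℕ} (ha : 1 ≤ a)
    (hna : n * (x * y) * n⁻¹ = (x * y) ^ a) (hodd : Odd (orderOf (x * y)))
    (h1 : (x * y) ^ (a - 1) ≠ 1) (h2 : (x * y) ^ (a + 1) ≠ 1) : False := by
  set w := x * y with hw
  set e := ρ w + ρ w⁻¹ with he
  have hne : Commute (ρ n) e := by
    obtain ⟨hxe, hye⟩ := trace_commute h hx hy
    clear hna
    induction hn using Subgroup.closure_induction with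
    | mem z hz =>
      rcases hz with rfl | rfl
      · exact hxe
      · exact hye
    | one => rw [map_one]; exact Commute.one_left e
    | mul u v _ _ hu hv => rw [map_mul]; exact hu.mul_left hv
    | inv u _ hu =>
      show ρ u⁻¹ * e = e * ρ u⁻¹
      calc ρ u⁻¹ * e = ρ u⁻¹ * (e * ρ u) * ρ u⁻¹ := by
            rw [mul_assoc, mul_assoc, ← map_mul, mul_inv_cancel, map_one, mul_one]
        _ = ρ u⁻¹ * (ρ u * e) * ρ u⁻¹ := by rw [hu.eq]
        _ = e * ρ u⁻¹ := by rw [← mul_assoc, ← map_mul, inv_mul_cancel, map_one, one_mul]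
  have hconj : ρ (w ^ a) + ρ (w ^ a)⁻¹ = e := by
    calc ρ (w ^ a) + ρ (w ^ a)⁻¹ = ρ n * e * ρ n⁻¹ := by
          rw [he, mul_add, add_mul, ← hna]
          simp only [← map_mul]
          congr 2
          group
      _ = e * (ρ n * ρ n⁻¹) := by rw [hne.eq, mul_assoc]
      _ = e := by rw [← map_mul, mul_inv_cancel, map_one, mul_one]
  have hprod : (ρ (w ^ (a - 1)) - 1) * (ρ (w ^ (a + 1)) - 1) = 0 := by
    have e1 : w ^ (a - 1) * w ^ (a + 1) = w ^ a * w ^ a := by
      rw [← pow_add, ← pow_add]; congr 1; omega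
    have e2 : w ^ (a - 1) = w ^ a * w⁻¹ := pow_sub w ha |>.trans (by rw [pow_one])
    calc (ρ (w ^ (a - 1)) - 1) * (ρ (w ^ (a + 1)) - 1)
        = ρ (w ^ (a - 1) * w ^ (a + 1)) - ρ (w ^ (a - 1)) - ρ (w ^ (a + 1)) + 1 := by
          rw [map_mul]; noncomm_ring
      _ = ρ (w ^ a * w ^ a) + ρ (w ^ a * (w ^ a)⁻¹) - (ρ (w ^ a * w⁻¹) + ρ (w ^ a * w)) := by
          rw [e1, e2, mul_inv_cancel, map_one, ← pow_succ]; abel
      _ = ρ (w ^ a) * (ρ (w ^ a) + ρ (w ^ a)⁻¹) - ρ (w ^ a) * (ρ w + ρ w⁻¹) := by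
          rw [map_mul, map_mul, map_mul (f := ρ) (w ^ a) w⁻¹, map_mul (f := ρ) (w ^ a) w]
          noncomm_ring
      _ = 0 := by rw [hconj, ← he, sub_self]
  have hoddp : ∀ k : ℕ, Odd (orderOf (w ^ k)) := fun k => hodd.of_dvd_nat (orderOf_pow_dvd k)
  have hz := h.2 _ (hoddp _) h1 _ hprod
  exact one_ne_zero (h.2 _ (hoddp _) h2 1 (by rw [mul_one, hz]))

end Ring

section Psl

open PSL2Elements PSL2Proj52 Matrix

open scoped MatrixGroups

variable {R : Type*} [Ring R] [Nontrivial R] {F : Type*} [Field F] [Finite F]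
  {ρ : Matrix.ProjectiveSpecialLinearGroup (Fin 2) F →* R}

theorem no_psl2 (h : Fpf ρ) (hp : (Nat.card F).Prime) (h7 : 7 ≤ Nat.card F) : False := by
  classical
  haveI : Fintype F := Fintype.ofFinite F
  haveI hchar : CharP F (Nat.card F) := by
    haveI := Fact.mk hp
    rw [Nat.card_eq_fintype_card]
    haveI : Fact (Fintype.card F).Prime := ⟨by rwa [← Nat.card_eq_fintype_card]⟩
    exact charP_of_card_eq_prime_pow (f := 1) (by rw [pow_one])
  have hcast : ∀ n : ℕ, n < Nat.card F → n ≠ 0 → (n : F) ≠ 0 := fun n hn hn0 he =>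
    absurd (Nat.le_of_dvd (Nat.pos_of_ne_zero hn0) ((CharP.cast_eq_zero_iff F (Nat.card F) n).mp he))
      (by omega)
  have h2 : (2 : F) ≠ 0 := by exact_mod_cast hcast 2 (by omega) (by omega)
  have h3 : (3 : F) ≠ 0 := by exact_mod_cast hcast 3 (by omega) (by omega)
  have h5 : (5 : F) ≠ 0 := by exact_mod_cast hcast 5 (by omega) (by omega)
  let X : SL(2, F) := mk2 0 2⁻¹ (-2) (-1) (by field_simp; ring)
  let Y : SL(2, F) := mk2 (-1) (-3 / 2) 2 2 (by field_simp; ring)
  have hsq : ∀ (A : SL(2, F)) (t : F), tr A = t → A.1 * A.1 = t • A.1 - 1 := fun A t ht => by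
    rw [sq_eq, ht]
  have htX : tr X = -1 := by simp [X, tr, mk2]
  have htY : tr Y = 1 := by
    simp only [Y, tr, mk2, Matrix.of_apply, Matrix.cons_val', Matrix.cons_val_zero,
      Matrix.cons_val_one, Matrix.cons_val_fin_one, Matrix.empty_val']
    ring
  have hX3 : X * X * X = 1 := Subtype.ext (by
    rw [coe_mul', coe_mul', hsq X _ htX, coe_one']
    simp only [sub_mul, one_mul, neg_smul, neg_mul, smul_mul_assoc, hsq X _ htX, one_smul]
    abel)
  have hY3 : Y * Y * Y = -1 := Subtype.ext (by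
    rw [coe_mul', coe_mul', hsq Y _ htY, coe_neg', coe_one']
    simp only [sub_mul, one_mul, one_smul, hsq Y _ htY]
    abel)
  have hX1 : π X ≠ 1 := fun e => by
    rcases (π_eq_one X).mp e with e | e
    · have := congrFun (congrFun (congrArg Subtype.val e) 1) 0
      simp [X, mk2, h2] at this
    · have := congrFun (congrFun (congrArg Subtype.val e) 1) 0
      simp [X, mk2, h2] at this
  have hY1 : π Y ≠ 1 := fun e => by
    rcases (π_eq_one Y).mp e with e | e
    · have := congrFun (congrFun (congrArg Subtype.val e) 1) 0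
      simp [Y, mk2, h2] at this
    · have := congrFun (congrFun (congrArg Subtype.val e) 1) 0
      simp [Y, mk2, h2] at this
  haveI : Fact (Nat.Prime 3) := ⟨Nat.prime_three⟩
  have hox : orderOf (π X) = 3 := orderOf_eq_prime
    (by rw [pow_succ, pow_two, ← map_mul, ← map_mul, hX3, map_one]) hX1
  have hoy : orderOf (π Y) = 3 := orderOf_eq_prime
    (by rw [pow_succ, pow_two, ← map_mul, ← map_mul, hY3, π_neg, map_one]) hY1
  have hXY : X * Y = u 1 := by
    apply ext2 <;> simp only [mul_apply2] <;> simp [X, Y, mk2, u] <;> field_simp <;> ring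
  set H := Subgroup.closure ({π X, π Y} : Set (Matrix.ProjectiveSpecialLinearGroup (Fin 2) F))
    with hH
  have hXH : π X ∈ H := Subgroup.subset_closure (by simp)
  have hu1 : π (u (1 : F)) ∈ H := by
    rw [← hXY, map_mul]
    exact mul_mem hXH (Subgroup.subset_closure (by simp))
  have hupow : ∀ k : ℕ, (u (1 : F)) ^ k = u (k : F) := by
    intro k
    induction k with
    | zero => simp [u_zero]
    | succ k ih => rw [pow_succ, ih, u_mul, Nat.cast_succ]
  have huH : ∀ t : F, π (u t) ∈ H := by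
    intro t
    haveI := Fact.mk hp
    obtain ⟨k, rfl⟩ : ∃ k : ℕ, (k : F) = t := by
      have hsurj : Function.Surjective (ZMod.castHom dvd_rfl F : ZMod (Nat.card F) →+* F) := by
        refine ((Fintype.bijective_iff_injective_and_card _).mpr ⟨RingHom.injective _, ?_⟩).2
        rw [ZMod.card, Nat.card_eq_fintype_card]
      obtain ⟨z, rfl⟩ := hsurj t
      exact ⟨z.val, by rw [← map_natCast (ZMod.castHom dvd_rfl F), ZMod.natCast_zmod_val]⟩
    rw [← hupow, map_pow]
    exact pow_mem hu1 k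
  have hl : ∀ s : F, π (mk2 1 0 s 1 (by ring)) ∈ H := by
    intro s
    have e : (mk2 1 0 s 1 (by ring) : SL(2, F)) = X * u (-s / 4) * X⁻¹ := by
      rw [eq_mul_inv_iff_mul_eq]
      have h4 : (4 : F) ≠ 0 := by
        rw [show (4 : F) = 2 * 2 by norm_num]; exact mul_ne_zero h2 h2
      apply ext2 <;> simp only [mul_apply2] <;> simp [X, mk2, u] <;> field_simp <;> ring
    rw [e, map_mul, map_mul, map_inv]
    exact mul_mem (mul_mem hXH (huH _)) (inv_mem hXH)
  let a : Fˣ := Units.mk0 2 h2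
  have hd : π (d a) ∈ H := by
    have e : d a = u (2 : F) * mk2 1 0 (-2⁻¹) 1 (by ring) * u 2 *
        (u (-1) * mk2 1 0 1 1 (by ring) * u (-1)) := by
      apply ext2 <;> simp only [mul_apply2] <;> simp [a, d, mk2, u] <;> field_simp <;>
        simp_all [sub_eq_zero]
    rw [e]
    simp only [map_mul]
    exact mul_mem (mul_mem (mul_mem (huH _) (hl _)) (huH _))
      (mul_mem (mul_mem (huH _) (hl _)) (huH _))
  have hpow : ∀ k : ℕ, (π X * π Y) ^ k = π (u (k : F)) := fun k => by
    rw [← map_mul, hXY, ← map_pow, hupow]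
  have hne : ∀ k : ℕ, (k : F) ≠ 0 → (π X * π Y) ^ k ≠ 1 := by
    intro k hk e
    rw [hpow] at e
    rcases (π_eq_one _).mp e with e | e <;>
    · have := congrFun (congrFun (congrArg Subtype.val e) 0) 1
      simp [u, mk2, hk] at this
  refine no_triangle (ρ := ρ) h hox hoy hd (a := 4) (by omega) ?_ ?_ ?_ ?_
  · rw [hpow, ← map_mul, hXY, ← map_inv, ← map_mul, ← map_mul, d_conj_u]
    norm_num [a]
  · have : (π X * π Y) ^ Nat.card F = 1 := by
      rw [hpow, CharP.cast_eq_zero, u_zero, map_one]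
    exact (hp.odd_of_ne_two (by omega)).of_dvd_nat (orderOf_dvd_of_pow_eq_one this)
  · exact hne 3 (by exact_mod_cast h3)
  · exact hne 5 (by exact_mod_cast h5)

end Psl

section Action

open Subgroup CNStructure57

universe w

variable {G : Type w} [Group G] [Finite G]

/-- A non-solvable CN-group with a nontrivial normal `2`-subgroup gives a fixed-point-free
representation of the quotient. -/
theorem exists_fpf (hCN : Cfsg.IsCNGroup G) (hns : ¬ Group.IsSolvable G)
    [(Cfsg.pCore 2 G).Normal] (hU : Cfsg.pCore 2 G ≠ ⊥) :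
    ∃ (R : Type w) (_ : Ring R) (_ : Nontrivial R) (ρ : G ⧸ Cfsg.pCore 2 G →* R), Fpf ρ := by
  classical
  haveI : Fact (Nat.Prime 2) := ⟨Nat.prime_two⟩
  set U := Cfsg.pCore 2 G with hUdef
  let V : Subgroup G :=
    { carrier := {v | v ∈ U ∧ v * v = 1 ∧ ∀ u ∈ U, u * v = v * u}
      one_mem' := ⟨one_mem U, one_mul 1, fun u _ => by rw [one_mul, mul_one]⟩
      mul_mem' := fun {v w} hv hw => ⟨mul_mem hv.1 hw.1, by
          rw [mul_assoc, ← mul_assoc w, hv.2.2 w hw.1, mul_assoc, hw.2.1, mul_one, hv.2.1],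
        fun u hu => by rw [← mul_assoc, hv.2.2 u hu, mul_assoc, hw.2.2 u hu, ← mul_assoc]⟩
      inv_mem' := fun {v} hv => by
        rw [Set.mem_ofPred_eq] at hv ⊢
        rw [inv_eq_of_mul_eq_one_right hv.2.1]
        exact hv }
  have hVU : V ≤ U := fun v hv => hv.1
  haveI : V.Normal := by
    refine ⟨fun v hv g => ⟨Subgroup.Normal.conj_mem inferInstance v hv.1 g, ?_, fun u hu => ?_⟩⟩
    · rw [show g * v * g⁻¹ * (g * v * g⁻¹) = g * (v * v) * g⁻¹ by group, hv.2.1, mul_one,
        mul_inv_cancel]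
    · have h' : g⁻¹ * u * g ∈ U := by
        have := Subgroup.Normal.conj_mem (inferInstance : U.Normal) u hu g⁻¹
        rwa [inv_inv] at this
      have e := hv.2.2 _ h'
      calc u * (g * v * g⁻¹) = g * (g⁻¹ * u * g * v) * g⁻¹ := by group
        _ = g * (v * (g⁻¹ * u * g)) * g⁻¹ := by rw [e]
        _ = g * v * g⁻¹ * u := by group
  obtain ⟨v₀, hv₀V, hv₀⟩ : ∃ v ∈ V, v ≠ 1 := by
    haveI : Nontrivial U := (Subgroup.nontrivial_iff_ne_bot U).mpr hU
    haveI : Nontrivial (center U) := (HallCore.isPGroup_pCore 2 G).center_nontrivial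
    obtain ⟨⟨z, hz⟩, hz1⟩ := exists_ne (1 : center U)
    obtain ⟨k, hk⟩ := IsPGroup.iff_orderOf.mp (HallCore.isPGroup_pCore 2 G) z
    rcases k with _ | k
    · exact absurd (Subtype.ext (orderOf_eq_one_iff.mp (by simpa using hk))) hz1
    obtain ⟨n, hn⟩ := orderOf_two_of_even (t := z) (by rw [hk]; exact ⟨2 ^ k, by ring⟩)
    refine ⟨((z ^ n : U) : G), ⟨(z ^ n).2, ?_, fun u hu => ?_⟩, fun e => ?_⟩
    · rw [← Subgroup.coe_mul, ← pow_two, ← hn, pow_orderOf_eq_one, Subgroup.coe_one]
    · exact congrArg Subtype.val (Subgroup.mem_center_iff.mp (pow_mem hz n) ⟨u, hu⟩)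
    · rw [Subtype.ext (a2 := (1 : U)) e, orderOf_one] at hn
      omega
  haveI hVc : IsMulCommutative V :=
    ⟨⟨fun a b => Subtype.ext ((b.2.2.2 (a : G) (hVU a.2)))⟩⟩
  letI : CommGroup V := { (inferInstance : Group V) with mul_comm := hVc.is_comm.comm }
  let act : G →* AddMonoid.End (Additive V) :=
    { toFun := fun g => MonoidHom.toAdditive (MulAut.conjNormal g : MulAut V).toMonoidHom
      map_one' := by
        refine AddMonoidHom.ext fun v => Additive.toMul.injective ?_
        show (MulAut.conjNormal 1 : MulAut V) (Additive.toMul v) = Additive.toMul v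
        rw [map_one]; rfl
      map_mul' := fun g h => by
        refine AddMonoidHom.ext fun v => Additive.toMul.injective ?_
        show (MulAut.conjNormal (g * h) : MulAut V) (Additive.toMul v) =
          (MulAut.conjNormal g : MulAut V) ((MulAut.conjNormal h : MulAut V) (Additive.toMul v))
        rw [map_mul]; rfl }
  have hker : U ≤ act.ker := by
    intro u hu
    rw [MonoidHom.mem_ker]
    refine AddMonoidHom.ext fun v => ?_
    have hv := (Additive.toMul v).2.2.2 u hu
    show Additive.ofMul (MulAut.conjNormal u (Additive.toMul v)) = v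
    rw [show MulAut.conjNormal u (Additive.toMul v) = Additive.toMul v from Subtype.ext (by
      rw [MulAut.conjNormal_apply, hv, mul_inv_cancel_right])]
    rfl
  haveI : Nontrivial (AddMonoid.End (Additive V)) := by
    refine ⟨⟨0, 1, fun e => ?_⟩⟩
    have := congrArg (fun f : AddMonoid.End (Additive V) => f (Additive.ofMul ⟨v₀, hv₀V⟩)) e
    exact hv₀ (congrArg (fun w : Additive V => ((Additive.toMul w : V) : G)) this).symm
  refine ⟨AddMonoid.End (Additive V), inferInstance, inferInstance,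
    QuotientGroup.lift U act hker, ?_, fun y hy hy1 a ha => ?_⟩
  · refine AddMonoidHom.ext fun v => ?_
    show ((2 : ℕ) : AddMonoid.End (Additive V)) v = (0 : AddMonoid.End (Additive V)) v
    rw [AddMonoid.End.natCast_apply, two_nsmul]
    exact congrArg Additive.ofMul (Subtype.ext (Additive.toMul v).2.2.1)
  · obtain ⟨g, rfl⟩ := QuotientGroup.mk'_surjective U y
    obtain ⟨k, m, hm, hkm⟩ := Nat.exists_eq_two_pow_mul_odd (orderOf_pos g).ne'
    have hodd : Odd (orderOf (g ^ (2 ^ k))) := by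
      rw [orderOf_pow' g (by positivity), hkm, Nat.gcd_mul_right_left,
        Nat.mul_div_cancel_left _ (by positivity)]
      exact hm
    refine AddMonoidHom.ext fun v => ?_
    by_contra hne
    set w := Additive.toMul (a v) with hw
    have hfix : g * (w : G) * g⁻¹ = (w : G) := by
      have e := congrArg (fun f : AddMonoid.End (Additive V) => f v) ha
      rw [sub_mul, one_mul] at e
      have e' : act g (a v) = a v := sub_eq_zero.mp e
      exact congrArg (fun z : Additive V => ((Additive.toMul z : V) : G)) e'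
    have hcomm : g ^ (2 ^ k) * (w : G) = (w : G) * g ^ (2 ^ k) :=
      ((show Commute g (w : G) from mul_inv_eq_iff_eq_mul.mp hfix).pow_left _).eq
    have hg1 := fpf hCN hns hodd (hVU w.2) (fun e => hne (congrArg Additive.ofMul (Subtype.ext e :
      w = 1))) hcomm
    have h1 : QuotientGroup.mk' U g ^ (2 ^ k) = 1 := by rw [← map_pow, hg1, map_one]
    have hd := orderOf_dvd_of_pow_eq_one h1
    obtain ⟨j, -, hj⟩ := (Nat.dvd_prime_pow Nat.prime_two).mp hd
    rcases Nat.eq_zero_or_pos j with rfl | hj0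
    · exact hy1 (orderOf_eq_one_iff.mp (by simpa using hj))
    · rw [hj, Nat.odd_pow_iff hj0.ne'] at hy
      exact absurd hy (by decide)

end Action

end Cfsg.Agent.CNQuadratic57
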