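import Cfsg.Prelude
import Cfsg.Agent.Lib.CNLocal
import Cfsg.Agent.Lib.FrobeniusBasic
import Cfsg.Agent.Lib.FrobeniusComplement
import Cfsg.Agent.Lib.FittingHallBasic

/-!
CN-groups with a normal Sylow subgroup, and the trichotomy for solvable CN-groups.
-/

namespace Cfsg.Agent.CNSolvable

open Cfsg Cfsg.Agent.CNBasic

variable {G : Type*} [Group G] [Finite G]

theorem pow_div_prime {e : G} (he : e ≠ 1) :
    ∃ r : ℕ, r.Prime ∧ r ∣ orderOf e ∧ orderOf (e ^ (orderOf e / r)) = r := by
  obtain ⟨r, hr, hrd⟩ := Nat.exists_prime_and_dvd (fun h => he (orderOf_eq_one_iff.mp h))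
  exact ⟨r, hr, hrd, orderOf_pow_orderOf_div (orderOf_pos e).ne' hrd⟩

theorem mem_pCore_of_dvd_fitting {q : ℕ} [hq : Fact q.Prime]
    (h : q ∣ Nat.card (fittingSubgroup G)) : pCore q G ≠ ⊥ := by
  obtain ⟨⟨x, hxF⟩, hx⟩ := exists_prime_orderOf_dvd_card' (G := fittingSubgroup G) q h
  rw [Subgroup.orderOf_mk] at hx
  intro e
  have := CNLocal.mem_pCore_of_mem_fitting hxF (q := q) (i := 1) (by rw [hx, pow_one])
  rw [e, Subgroup.mem_bot] at this
  rw [this, orderOf_one] at hx
  exact hq.out.one_lt.ne hx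

theorem fitting_coprime_index (h : ∀ q : ℕ, ∀ _ : Fact q.Prime, q ∣ Nat.card (fittingSubgroup G) →
    ∀ Q : Sylow q G, (Q : Subgroup G) ≤ fittingSubgroup G) :
    (Nat.card (fittingSubgroup G)).Coprime (fittingSubgroup G).index :=
  Nat.coprime_of_dvd fun q hq h1 h2 => by
    have := Fact.mk hq
    obtain ⟨Q⟩ := (inferInstance : Nonempty (Sylow q G))
    exact Q.not_dvd_index (h2.trans (Subgroup.index_dvd_of_le (h q this h1 Q)))

variable (hCN : IsCNGroup G)
include hCN

theorem sylow_le_fitting {p : ℕ} [hp : Fact p.Prime] (P : Sylow p G)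
    (hP1 : (P : Subgroup G) ≠ ⊥) (hPn : (P : Subgroup G).Normal) (q : ℕ) (hq : Fact q.Prime)
    (hqd : q ∣ Nat.card (fittingSubgroup G)) (Q : Sylow q G) :
    (Q : Subgroup G) ≤ fittingSubgroup G := by
  have hPK : (P : Subgroup G) ≤ pCore p G := HallCore.le_pCore P.isPGroup'
  by_cases hQ : (Q : Subgroup G) = pCore q G
  · exact hQ ▸ ComponentsFitting.pCore_le_fitting hq.out
  · exfalso
    have hqp : q ≠ p := by
      rintro rfl
      have e : (P : Subgroup G) = pCore q G :=
        le_antisymm hPK (CNLocal.normal_le_sylow (HallCore.isPGroup_pCore q G) P)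
      let _ := Sylow.unique_of_normal P hPn
      exact hQ (Subsingleton.elim P Q ▸ e)
    have hF := CNLocal.fitting_eq_pCore hCN (mem_pCore_of_dvd_fitting hqd) Q hQ
    have hle : (P : Subgroup G) ≤ pCore q G :=
      hF ▸ hPK.trans (ComponentsFitting.pCore_le_fitting hp.out)
    have hd := IsPGroup.disjoint_of_ne p q hqp.symm _ _ P.isPGroup' (HallCore.isPGroup_pCore q G)
    exact hP1 (hd.eq_bot_of_le hle)

/-- No element outside a Hall Fitting subgroup centralises a nontrivial element of it. -/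
theorem fitting_fpf (hF : (Nat.card (fittingSubgroup G)).Coprime (fittingSubgroup G).index)
    {E : Subgroup G} (hc : Subgroup.IsComplement' (fittingSubgroup G) E) :
    ∀ e ∈ E, e ≠ 1 → fittingSubgroup G ⊓ Subgroup.centralizer ({e} : Set G) = ⊥ := by
  intro e heE he1
  refine eq_bot_iff.mpr fun x hx => Subgroup.mem_bot.mpr ?_
  obtain ⟨hxF, hxe⟩ := hx
  replace hxe : Commute x e := Subgroup.mem_centralizer_singleton_iff.mp hxe
  by_contra hx1
  obtain ⟨q, hq, hqd, hq'⟩ := pow_div_prime hx1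
  obtain ⟨r, hr, hrd, hr'⟩ := pow_div_prime he1
  have := Fact.mk hq
  set x' := x ^ (orderOf x / q) with hx'
  set e' := e ^ (orderOf e / r) with he'
  have hx'F : x' ∈ fittingSubgroup G := pow_mem hxF _
  have hx'K : x' ∈ pCore q G :=
    CNLocal.mem_pCore_of_mem_fitting hx'F (i := 1) (by rw [hq', pow_one])
  have hx'1 : x' ≠ 1 := fun h => by rw [h, orderOf_one] at hq'; exact hq.one_lt.ne hq'
  have hqF : q ∣ Nat.card (fittingSubgroup G) := hqd.trans (Subgroup.orderOf_dvd_natCard _ hxF)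
  have hrF : r ∣ (fittingSubgroup G).index := by
    rw [hc.symm.index_eq_card]
    exact hrd.trans (Subgroup.orderOf_dvd_natCard _ heE)
  have hrq : r ≠ q := fun h => hq.not_dvd_one (hF ▸ Nat.dvd_gcd hqF (h ▸ hrF))
  have hmem : e' ∈ fittingSubgroup G := CNLocal.mem_fitting_of_commute hCN
    (by rw [hr']; exact (Nat.coprime_primes hr hq).mpr hrq) hx'K hx'1
    ((hxe.pow_left _).pow_right _).symm
  have := Subgroup.disjoint_def.mp hc.disjoint hmem (pow_mem heE _)
  rw [this, orderOf_one] at hr'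
  exact hr.one_lt.ne hr'

/-- A complement with fixed-point-free action is nilpotent. -/
theorem complement_nilpotent {K E : Subgroup G} [K.Normal] (hc : Subgroup.IsComplement' K E)
    (hK : K ≠ ⊥) (hfpf : ∀ e ∈ E, e ≠ 1 → K ⊓ Subgroup.centralizer ({e} : Set G) = ⊥) :
    Group.IsNilpotent E := by
  by_cases hE : E = ⊥
  · subst hE
    infer_instance
  obtain ⟨⟨z, hz⟩, hz1⟩ : ∃ z : Subgroup.center E, z ≠ 1 := by
    have := (Subgroup.nontrivial_iff_ne_bot _).mpr
      (FrobeniusComplement.center_ne_bot hc hK hE hfpf)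
    exact exists_ne 1
  have hn := hCN (z : G) fun e => hz1 (Subtype.ext (Subtype.ext e))
  have hle : E ≤ Subgroup.centralizer ({(z : G)} : Set G) := fun x hx =>
    Subgroup.mem_centralizer_singleton_iff.mpr
      (congrArg Subtype.val (Subgroup.mem_center_iff.mp hz ⟨x, hx⟩))
  exact isNilpotent_of_injective (Subgroup.inclusion hle) (Subgroup.inclusion_injective hle)

/-- CN-groups with a nontrivial normal Sylow subgroup. -/
theorem normal_sylow (hnn : ¬ Group.IsNilpotent G) {p : ℕ} [Fact p.Prime] (P : Sylow p G)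
    (hP1 : (P : Subgroup G) ≠ ⊥) (hPn : (P : Subgroup G).Normal) :
    fittingHall G = fittingSubgroup G ∧ fittingSubgroup G ≠ ⊥ ∧ fittingSubgroup G ≠ ⊤ ∧
    ∃ E : Subgroup G, Subgroup.IsComplement' (fittingSubgroup G) E ∧ IsFrobeniusComplement E ∧
      (∀ e ∈ E, e ≠ 1 → fittingSubgroup G ⊓ Subgroup.centralizer ({e} : Set G) = ⊥) ∧
      Group.IsNilpotent E := by
  have hcop := fitting_coprime_index (sylow_le_fitting hCN P hP1 hPn)
  have hne : fittingSubgroup G ≠ ⊥ := fun h => hP1 (le_bot_iff.mp (h ▸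
    (HallCore.le_pCore P.isPGroup').trans (ComponentsFitting.pCore_le_fitting Fact.out)))
  have htop : fittingSubgroup G ≠ ⊤ := fun h =>
    hnn (ComponentsFitting.fittingSubgroup_eq_top_iff.mp h)
  refine ⟨le_antisymm FittingHallBasic.fittingHall_le_fitting
    (FittingHallBasic.le_fittingHall inferInstance inferInstance hcop), hne, htop, ?_⟩
  obtain ⟨E, hE⟩ := Subgroup.exists_right_complement'_of_coprime hcop
  have hfpf := fitting_fpf hCN hcop hE
  have hE1 : E ≠ ⊥ := fun e => htop (Subgroup.index_eq_one.mp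
    (by rw [hE.symm.index_eq_card, e, Subgroup.card_bot]))
  exact ⟨E, hE, FrobeniusBasic.isFrobeniusComplement_of_fpf hE hne hE1 hfpf, hfpf,
    complement_nilpotent hCN hE hne hfpf⟩

omit hCN in
/-- A nilpotent group acting fixed-point-freely: cyclic or cyclic × quaternion. -/
theorem complement_shape {K E : Subgroup G} [K.Normal] (hc : Subgroup.IsComplement' K E)
    (hK : K ≠ ⊥) (hfpf : ∀ e ∈ E, e ≠ 1 → K ⊓ Subgroup.centralizer ({e} : Set G) = ⊥)
    [hn : Group.IsNilpotent E] :
    IsCyclic E ∨ ∃ C Q : Subgroup G, C ⊔ Q = E ∧ (∀ a ∈ C, ∀ b ∈ Q, a * b = b * a) ∧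
      IsCyclic C ∧ Odd (Nat.card C) ∧ ∃ n : ℕ, Nonempty (↥Q ≃* QuaternionGroup (2 ^ n)) := by
  have := Fact.mk Nat.prime_two
  obtain ⟨Q⟩ := (inferInstance : Nonempty (Sylow 2 E))
  rcases FrobeniusComplement.sylow_cyclic_or_quaternion hc hK hfpf (Q : Subgroup E) Q.isPGroup'
    with hQ | ⟨-, n, ⟨f⟩⟩
  · refine Or.inl ?_
    have : IsZGroup E := by
      refine (isZGroup_iff E).2 fun r hr R => ?_
      have := Fact.mk hr
      rcases FrobeniusComplement.sylow_cyclic_or_quaternion hc hK hfpf (R : Subgroup E)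
        R.isPGroup' with h | ⟨rfl, -⟩
      · exact h
      · exact isCyclic_of_surjective (R.equiv Q).symm.toMonoidHom (R.equiv Q).symm.surjective
    infer_instance
  · refine Or.inr ?_
    have hQn : (Q : Subgroup E).Normal :=
      ((Group.isNilpotent_of_finite_tfae (G := E)).out 0 3 rfl rfl).mp hn 2 ‹_› Q
    obtain ⟨C, hC⟩ := Subgroup.exists_right_complement'_of_coprime
      (N := (Q : Subgroup E)) Q.card_coprime_index
    have hCodd : Odd (Nat.card C) := by
      rw [← hC.symm.index_eq_card]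
      exact Nat.not_even_iff_odd.mp fun h => Q.not_dvd_index (even_iff_two_dvd.mp h)
    have hCz : IsZGroup C := by
      refine (isZGroup_iff C).2 fun r hr R => ?_
      have := Fact.mk hr
      rcases FrobeniusComplement.sylow_cyclic_or_quaternion hc hK hfpf
        ((R : Subgroup C).map C.subtype) (R.isPGroup'.map _) with h | ⟨rfl, m, ⟨g⟩⟩
      · exact isCyclic_of_surjective
          ((R : Subgroup C).equivMapOfInjective _ C.subtype_injective).symm.toMonoidHom
          ((R : Subgroup C).equivMapOfInjective _ C.subtype_injective).symm.surjective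
      · exfalso
        refine Nat.not_even_iff_odd.mpr hCodd (even_iff_two_dvd.mpr ?_)
        refine Dvd.dvd.trans ?_ (Subgroup.card_subgroup_dvd_card (R : Subgroup C))
        rw [← Subgroup.card_map_of_injective (f := C.subtype) C.subtype_injective,
          Nat.card_congr g.toEquiv, Nat.card_eq_fintype_card, QuaternionGroup.card]
        exact Dvd.intro (2 * 2 ^ m) (by ring)
    refine ⟨C.map E.subtype, (Q : Subgroup E).map E.subtype, ?_, ?_, ?_, ?_, n,
      ⟨((Q : Subgroup E).equivMapOfInjective _ E.subtype_injective).symm.trans f⟩⟩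
    · rw [← Subgroup.map_sup, hC.symm.sup_eq_top, ← MonoidHom.range_eq_map, Subgroup.range_subtype]
    · rintro _ ⟨a, ha, rfl⟩ _ ⟨b, hb, rfl⟩
      obtain ⟨k, hk⟩ := (IsPGroup.iff_orderOf.mp Q.isPGroup') ⟨b, hb⟩
      rw [Subgroup.orderOf_mk] at hk
      have : Commute a b := FittingHallBasic.commute_of_coprime_orderOf (by
        rw [hk]
        exact ((hCodd.coprime_two_right).coprime_dvd_left
          (Subgroup.orderOf_dvd_natCard C ha)).pow_right k)
      exact congrArg Subtype.val this.eq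
    · have : IsCyclic C := inferInstance
      exact isCyclic_of_surjective (C.equivMapOfInjective _ E.subtype_injective).toMonoidHom
        (C.equivMapOfInjective _ E.subtype_injective).surjective
    · rwa [Subgroup.card_map_of_injective E.subtype_injective]

omit hCN in
/-- Lift of a `p'`-subgroup of `G / K`, `K` a `p`-group on which `p'`-elements act freely. -/
theorem lift {p : ℕ} [hp : Fact p.Prime] {K : Subgroup G} [K.Normal] (hKp : IsPGroup p K)
    (hK : K ≠ ⊥) (hfpf : ∀ a : G, (orderOf a).Coprime p → a ≠ 1 →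
      K ⊓ Subgroup.centralizer ({a} : Set G) = ⊥)
    (N : Subgroup (G ⧸ K)) (hN : (Nat.card N).Coprime p) :
    ∃ (L : Subgroup G) (E : Subgroup L), L = N.comap (QuotientGroup.mk' K) ∧
      Subgroup.IsComplement' (K.subgroupOf L) E ∧
      (K.subgroupOf L) ≠ ⊥ ∧
      (∀ e ∈ E, e ≠ 1 → K.subgroupOf L ⊓ Subgroup.centralizer ({e} : Set L) = ⊥) ∧
      ∃ f : E ≃* N, ∀ x : E, ((f x : N) : G ⧸ K) = QuotientGroup.mk' K ((x : L) : G) := by
  set π := QuotientGroup.mk' K with hπ
  set L := N.comap π with hL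
  have hKL : K ≤ L := fun k hk => by
    show π k ∈ N
    rw [hπ, QuotientGroup.mk'_apply, (QuotientGroup.eq_one_iff k).mpr hk]
    exact one_mem N
  let φ : L →* N := π.subgroupComap N
  have hφ : Function.Surjective φ :=
    MonoidHom.subgroupComap_surjective_of_surjective π N (QuotientGroup.mk'_surjective K)
  have hker : φ.ker = K.subgroupOf L := by
    ext x
    rw [MonoidHom.mem_ker, Subgroup.mem_subgroupOf, ← QuotientGroup.eq_one_iff, Subtype.ext_iff]
    exact Iff.rfl
  have hidx : (K.subgroupOf L).index = Nat.card N := by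
    rw [← hker, Subgroup.index_ker, MonoidHom.range_eq_top.mpr hφ, Subgroup.card_top]
  have hcK : Nat.card (K.subgroupOf L) = Nat.card K :=
    Nat.card_congr (Subgroup.subgroupOfEquivOfLe hKL).toEquiv
  obtain ⟨k, hk⟩ := hKp.exists_card_eq
  obtain ⟨E, hE⟩ := Subgroup.exists_right_complement'_of_coprime (N := K.subgroupOf L)
    (by rw [hcK, hidx, hk]; exact hN.symm.pow_left k)
  have hcE : Nat.card E = Nat.card N := by rw [← hE.symm.index_eq_card, hidx]
  refine ⟨L, E, rfl, hE, ?_, ?_, ?_⟩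
  · rw [Ne, Subgroup.subgroupOf_eq_bot, disjoint_iff, inf_eq_left.mpr hKL]
    exact hK
  · intro e he he1
    refine eq_bot_iff.mpr fun x hx => Subgroup.mem_bot.mpr (Subtype.ext ?_)
    have h := hfpf (e : G) (by
      rw [Subgroup.orderOf_coe]
      exact (hcE ▸ hN).coprime_dvd_left (Subgroup.orderOf_dvd_natCard E he))
      (fun h => he1 (Subtype.ext h))
    refine Subgroup.mem_bot.mp (h ▸ ⟨hx.1, ?_⟩)
    exact Subgroup.mem_centralizer_singleton_iff.mpr
      (congrArg Subtype.val (Subgroup.mem_centralizer_singleton_iff.mp hx.2))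
  · have hinj : Function.Injective (φ.comp E.subtype) := by
      rw [injective_iff_map_eq_one]
      intro x hx
      have hm : (x : L) ∈ K.subgroupOf L := by rw [← hker]; exact hx
      exact Subtype.ext (Subgroup.disjoint_def.mp hE.disjoint hm x.2)
    exact ⟨MulEquiv.ofBijective (φ.comp E.subtype)
      ((Nat.bijective_iff_injective_and_card _).mpr ⟨hinj, hcE⟩), fun x => rfl⟩

/-- The three-step case. -/
theorem three_step [Group.IsSolvable G] {p : ℕ} [hp : Fact p.Prime] (hK1 : pCore p G ≠ ⊥)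
    (P : Sylow p G) (hP : (P : Subgroup G) ≠ pCore p G) : IsThreeStepGroup p G := by
  set K := pCore p G with hKdef
  have : K.Normal := HallCore.pCore_normal p G
  have hKp : IsPGroup p K := HallCore.isPGroup_pCore p G
  have hFK := CNLocal.fitting_eq_pCore hCN hK1 P hP
  have hfpf : ∀ a : G, (orderOf a).Coprime p → a ≠ 1 →
      K ⊓ Subgroup.centralizer ({a} : Set G) = ⊥ := by
    intro a ha ha1
    refine eq_bot_iff.mpr fun x hx => Subgroup.mem_bot.mpr ?_
    by_contra hx1
    have hm := CNLocal.mem_fitting_of_commute hCN ha hx.1 hx1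
      (Subgroup.mem_centralizer_singleton_iff.mp hx.2).symm
    rw [hFK] at hm
    obtain ⟨i, hi⟩ := (IsPGroup.iff_orderOf.mp hKp) ⟨a, hm⟩
    rw [Subgroup.orderOf_mk] at hi
    refine ha1 (orderOf_eq_one_iff.mp ?_)
    exact Nat.eq_one_of_dvd_coprimes (ha.pow_right i) dvd_rfl (hi ▸ dvd_rfl)
  have : Group.IsNilpotent K := hKp.isNilpotent
  have hQ : IsCNGroup (G ⧸ K) := CNBasic.quotient_solvable _ rfl hCN K inferInstance
  have hOp : pCore p (G ⧸ K) = ⊥ := HallCore.pCore_quotient_self p G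
  set π := QuotientGroup.mk' K with hπ
  have hpG : p ∣ Nat.card (G ⧸ K) := by
    have hlt : K < P := lt_of_le_of_ne (CNLocal.normal_le_sylow hKp P) (Ne.symm hP)
    obtain ⟨a, haP, haK⟩ := SetLike.exists_of_lt hlt
    obtain ⟨i, hi⟩ := (IsPGroup.iff_orderOf.mp P.isPGroup') ⟨a, haP⟩
    rw [Subgroup.orderOf_mk] at hi
    obtain ⟨j, -, hj⟩ := (Nat.dvd_prime_pow hp.out).mp (hi ▸ orderOf_map_dvd π a)
    cases j with
    | zero => exact absurd (orderOf_eq_one_iff.mp hj) (fun h => haK ((QuotientGroup.eq_one_iff a).mp h))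
    | succ j => exact (dvd_pow_self p j.succ_ne_zero).trans (hj ▸ orderOf_dvd_natCard _)
  have hnn : ¬ Group.IsNilpotent (G ⧸ K) := by
    intro hn
    obtain ⟨S⟩ := (inferInstance : Nonempty (Sylow p (G ⧸ K)))
    have hSn : (S : Subgroup (G ⧸ K)).Normal :=
      ((Group.isNilpotent_of_finite_tfae (G := G ⧸ K)).out 0 3 rfl rfl).mp hn p ‹_› S
    have := HallCore.le_pCore (p := p) S.isPGroup'
    rw [hOp, le_bot_iff] at this
    obtain ⟨x, hx⟩ := exists_prime_orderOf_dvd_card' (G := G ⧸ K) p hpG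
    obtain ⟨T, hT⟩ := (IsPGroup.of_card (G := Subgroup.zpowers x) (n := 1)
      (by rw [Nat.card_zpowers, hx, pow_one])).exists_le_sylow
    let _ := Sylow.unique_of_normal S hSn
    rw [Subsingleton.elim T S, this] at hT
    rw [Subgroup.mem_bot.mp (hT (Subgroup.mem_zpowers x)), orderOf_one] at hx
    exact hp.out.one_lt.ne hx
  set N := fittingSubgroup (G ⧸ K) with hNdef
  have hNp : (Nat.card N).Coprime p := Nat.Coprime.symm <| (hp.out.coprime_iff_not_dvd).mpr fun h =>
    mem_pCore_of_dvd_fitting h hOp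
  obtain ⟨L, E, hL, hcE, hKL1, hEfpf, f, hf⟩ := lift hKp hK1 hfpf N hNp
  have hN1 : N ≠ ⊥ := by
    intro h
    have : Nontrivial (G ⧸ K) := Finite.one_lt_card_iff_nontrivial.mp
      (lt_of_lt_of_le hp.out.one_lt (Nat.le_of_dvd Nat.card_pos hpG))
    have h1 := ComponentsFitting.gen_ne_bot (G := G ⧸ K)
    rw [ComponentsFitting.gen_eq_fitting_iff.mpr ComponentsFitting.layer_eq_bot_of_isSolvable] at h1
    exact h1 h
  have hCN' := CNBasic.subgroup hCN L
  -- `N` has odd order
  have hNodd : ¬ 2 ∣ Nat.card N := by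
    intro h2
    obtain ⟨z, hz⟩ := exists_prime_orderOf_dvd_card' (G := N) 2 h2
    have huniq : ∀ w : N, orderOf w = 2 → w = z := fun w hw => by
      have ho : ∀ u : N, orderOf u = 2 → orderOf ((f.symm u : E) : L) = 2 := fun u hu => by
        rw [Subgroup.orderOf_coe, MulEquiv.orderOf_eq, hu]
      have := FrobeniusFPF.involution_unique hKL1 hEfpf (f.symm z).2 (ho z hz)
        (f.symm w).2 (ho w hw)
      exact f.symm.injective (Subtype.ext this)
    have hzc : (z : G ⧸ K) ∈ Subgroup.center (G ⧸ K) := by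
      refine Subgroup.mem_center_iff.mpr fun g => ?_
      have hNn : N.Normal := inferInstance
      have hm : g * (z : G ⧸ K) * g⁻¹ ∈ N := hNn.conj_mem z z.2 g
      have h := huniq ⟨_, hm⟩ (by
        rw [Subgroup.orderOf_mk, show g * (z : G ⧸ K) * g⁻¹ = MulAut.conj g (z : G ⧸ K) from rfl,
          MulEquiv.orderOf_eq, Subgroup.orderOf_coe, hz])
      exact mul_inv_eq_iff_eq_mul.mp (congrArg Subtype.val h)
    apply hnn
    have hn := hQ (z : G ⧸ K) fun e => by
      rw [← Subgroup.orderOf_coe, e, orderOf_one] at hz; norm_num at hz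
    rw [show Subgroup.centralizer ({(z : G ⧸ K)} : Set (G ⧸ K)) = ⊤ from
      Subgroup.centralizer_eq_top_iff_subset.mpr (Set.singleton_subset_iff.mpr hzc)] at hn
    exact Group.nilpotent_of_mulEquiv Subgroup.topEquiv
  -- `N` is cyclic
  have hEn : Group.IsNilpotent E := complement_nilpotent hCN' hcE hKL1 hEfpf
  have hNcyc : IsCyclic N := by
    have : IsZGroup E := by
      refine (isZGroup_iff E).2 fun r hr R => ?_
      have := Fact.mk hr
      rcases FrobeniusComplement.sylow_cyclic_or_quaternion hcE hKL1 hEfpf (R : Subgroup E)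
        R.isPGroup' with h | ⟨rfl, m, ⟨g⟩⟩
      · exact h
      · exfalso
        refine hNodd ((Nat.card_congr f.toEquiv) ▸ ?_)
        refine Dvd.dvd.trans ?_ (Subgroup.card_subgroup_dvd_card (R : Subgroup E))
        rw [Nat.card_congr g.toEquiv, Nat.card_eq_fintype_card, QuaternionGroup.card]
        exact Dvd.intro (2 * 2 ^ m) (by ring)
    exact isCyclic_of_surjective f.toMonoidHom f.surjective
  have hCle : Subgroup.centralizer (N : Set (G ⧸ K)) ≤ N :=
    ComponentsFitting.centralizer_fitting_le_of_solvable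
  have hab : ∀ x y : G ⧸ K, (y * x)⁻¹ * (x * y) ∈ N := by
    intro x y
    obtain ⟨⟨g, hg⟩, hgen⟩ := hNcyc.exists_generator
    have hN' : N.Normal := inferInstance
    have hpow : ∀ b ∈ N, ∃ i : ℤ, g ^ i = b := fun b hb => by
      obtain ⟨i, hi⟩ := Subgroup.mem_zpowers_iff.mp (hgen ⟨b, hb⟩)
      exact ⟨i, congrArg Subtype.val hi⟩
    obtain ⟨i, hi⟩ := hpow _ (hN'.conj_mem g hg x)
    obtain ⟨j, hj⟩ := hpow _ (hN'.conj_mem g hg y)
    have conj : ∀ (u v : G ⧸ K) (a b : ℤ), u * g * u⁻¹ = g ^ a → v * g * v⁻¹ = g ^ b →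
        (u * v) * g * (u * v)⁻¹ = g ^ (a * b) := fun u v a b hu hv => by
      rw [show (u * v) * g * (u * v)⁻¹ = MulAut.conj u (v * g * v⁻¹) by
        simp [MulAut.conj_apply, mul_assoc], hv, map_zpow, MulAut.conj_apply, hu, ← zpow_mul]
    have h1 := conj x y i j hi.symm hj.symm
    have h2 := conj y x j i hj.symm hi.symm
    rw [mul_comm j i, ← h1] at h2
    set w := (y * x)⁻¹ * (x * y) with hw
    have hwg : Commute w g := by
      show w * g = g * w
      calc w * g = (y * x)⁻¹ * (((x * y) * g * (x * y)⁻¹) * (x * y)) := by rw [hw]; group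
        _ = (y * x)⁻¹ * (((y * x) * g * (y * x)⁻¹) * (x * y)) := by rw [h2]
        _ = g * w := by rw [hw]; group
    refine hCle (Subgroup.mem_centralizer_iff.mpr fun b hb => ?_)
    obtain ⟨k, rfl⟩ := hpow b hb
    exact (hwg.zpow_right k).eq.symm
  -- Sylow subgroups for primes dividing `N` lie in `N`
  have hsyl : ∀ q : ℕ, ∀ _ : Fact q.Prime, q ∣ Nat.card N → ∀ S : Sylow q (G ⧸ K),
      (S : Subgroup (G ⧸ K)) ≤ N := by
    intro q hq hqd S
    by_cases hS : (S : Subgroup (G ⧸ K)) = pCore q (G ⧸ K)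
    · exact hS ▸ ComponentsFitting.pCore_le_fitting hq.out
    exfalso
    have hF := CNLocal.fitting_eq_pCore hQ (mem_pCore_of_dvd_fitting hqd) S hS
    have hNS : N ≤ S := hF.le.trans (CNLocal.normal_le_sylow (HallCore.isPGroup_pCore q _) S)
    have : (S : Subgroup (G ⧸ K)).Normal := ⟨fun u hu x => by
      rw [show x * u * x⁻¹ = u * ((x⁻¹ * u)⁻¹ * (u * x⁻¹)) by group]
      exact mul_mem hu (hNS (hab u x⁻¹))⟩
    exact hS (le_antisymm (HallCore.le_pCore S.isPGroup')
      (CNLocal.normal_le_sylow (HallCore.isPGroup_pCore q _) S))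
  have hcop := fitting_coprime_index (G := G ⧸ K) hsyl
  obtain ⟨D, hD⟩ := Subgroup.exists_right_complement'_of_coprime hcop
  have hDfpf := fitting_fpf hQ hcop hD
  -- centralisers of nontrivial elements of `N` lie in `N`
  have hcent : ∀ a ∈ N, a ≠ 1 → ∀ y : G ⧸ K, Commute y a → y ∈ N := by
    intro a ha ha1 y hya
    obtain ⟨⟨⟨n, hn⟩, ⟨d, hd⟩⟩, hnd⟩ := hD.2 y
    have hn' : Commute n a := by
      obtain ⟨⟨g, hg⟩, hgen⟩ := hNcyc.exists_generator
      obtain ⟨i, hi⟩ := Subgroup.mem_zpowers_iff.mp (hgen ⟨n, hn⟩)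
      obtain ⟨j, hj⟩ := Subgroup.mem_zpowers_iff.mp (hgen ⟨a, ha⟩)
      rw [show n = g ^ i from (congrArg Subtype.val hi).symm,
        show a = g ^ j from (congrArg Subtype.val hj).symm]
      exact Commute.zpow_zpow_self g i j
    have hda : Commute d a := by
      rw [show d = n⁻¹ * y by rw [← hnd]; group]
      exact hn'.inv_left.mul_left hya
    have hd1 : d = 1 := by
      by_contra h
      have hm : a ∈ fittingSubgroup (G ⧸ K) ⊓ Subgroup.centralizer ({d} : Set (G ⧸ K)) :=
        ⟨ha, Subgroup.mem_centralizer_singleton_iff.mpr hda.symm.eq⟩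
      rw [hDfpf d hd h] at hm
      exact ha1 hm
    rw [← hnd]
    simpa [hd1] using hn
  -- the index of `N` is a power of `p`
  have hind : ∀ r : ℕ, r.Prime → r ∣ N.index → r = p := by
    intro r hr hrd
    have := Fact.mk hr
    by_contra hrp
    obtain ⟨u, hu⟩ := exists_prime_orderOf_dvd_card' (G := G ⧸ K) r
      (hrd.trans (Dvd.intro_left _ (Subgroup.card_mul_index N)))
    have hrN : ¬ r ∣ Nat.card N := fun h => hr.not_dvd_one (hcop ▸ Nat.dvd_gcd h hrd)
    have hM : (Nat.card (N ⊔ Subgroup.zpowers u : Subgroup (G ⧸ K))).Coprime p := by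
      refine Nat.Coprime.coprime_dvd_left ?_ (Nat.Coprime.mul_left
        ((Nat.coprime_primes hr hp.out).mpr hrp) hNp)
      rw [sup_comm, ← hu, ← Nat.card_zpowers u]
      exact HallCore.card_sup_dvd (Subgroup.zpowers u) N
    obtain ⟨L', E', -, hcE', hKL', hEfpf', f', -⟩ := lift hKp hK1 hfpf _ hM
    have hnil : Group.IsNilpotent E' :=
      complement_nilpotent (CNBasic.subgroup hCN L') hcE' hKL' hEfpf'
    have hnM : Group.IsNilpotent (N ⊔ Subgroup.zpowers u : Subgroup (G ⧸ K)) :=
      Group.nilpotent_of_mulEquiv f'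
    have huC : u ∈ Subgroup.centralizer (N : Set (G ⧸ K)) := by
      refine Subgroup.mem_centralizer_iff.mpr fun b hb => ?_
      have hc := FittingHallBasic.commute_of_coprime_orderOf (h := hnM)
        (a := (⟨b, Subgroup.mem_sup_left hb⟩ : (N ⊔ Subgroup.zpowers u : Subgroup (G ⧸ K))))
        (b := ⟨u, Subgroup.mem_sup_right (Subgroup.mem_zpowers u)⟩) (by
          rw [Subgroup.orderOf_mk, Subgroup.orderOf_mk, hu]
          exact ((Nat.Coprime.symm ((hr.coprime_iff_not_dvd).mpr hrN))).coprime_dvd_left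
            (Subgroup.orderOf_dvd_natCard N hb))
      exact congrArg Subtype.val hc.eq
    exact hrN (hu ▸ Subgroup.orderOf_dvd_natCard N (hCle huC))
  -- assemble
  set A := E.map L.subtype with hA
  have hKleL : K ≤ L := fun k hk => by
    rw [hL, Subgroup.mem_comap, QuotientGroup.mk'_apply, (QuotientGroup.eq_one_iff k).mpr hk]
    exact one_mem N
  have hKA : K ⊔ A = L := by
    rw [← Subgroup.map_subgroupOf_eq_of_le hKleL, hA, ← Subgroup.map_sup, hcE.sup_eq_top,
      ← MonoidHom.range_eq_map, Subgroup.range_subtype]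
  have hcA : Nat.card A = Nat.card N := by
    rw [hA, Subgroup.card_map_of_injective L.subtype_injective, Nat.card_congr f.toEquiv]
  have hAN : ∀ a ∈ A, a ≠ 1 → π a ∈ N ∧ π a ≠ 1 := by
    rintro _ ⟨e, he, rfl⟩ h1
    have h := hf ⟨e, he⟩
    refine ⟨h ▸ (f ⟨e, he⟩).2, fun h' => h1 ?_⟩
    have : f ⟨e, he⟩ = 1 := Subtype.ext (h.trans h')
    rw [MulEquiv.map_eq_one_iff] at this
    exact congrArg (fun x : E => ((x : L) : G)) this
  refine ⟨hK1, A, ?_, ?_, ?_, ?_, ?_, ?_, ?_, ?_, ?_⟩
  · intro h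
    rw [h, Subgroup.card_bot] at hcA
    exact hN1 (Subgroup.eq_bot_of_card_eq N hcA.symm)
  · exact isCyclic_of_surjective
      (f.symm.trans (E.equivMapOfInjective _ L.subtype_injective)).toMonoidHom
      (f.symm.trans (E.equivMapOfInjective _ L.subtype_injective)).surjective
  · rw [hcA]
    exact Nat.not_even_iff_odd.mp fun h => hNodd (even_iff_two_dvd.mp h)
  · rwa [hcA]
  · rw [hKA, hL]; exact Subgroup.Normal.comap inferInstance _
  · rw [hKA, hL]
    intro h
    have : N = ⊤ := by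
      rw [← Subgroup.map_comap_eq_self_of_surjective (QuotientGroup.mk'_surjective K) N, h,
        Subgroup.map_top_of_surjective _ (QuotientGroup.mk'_surjective K)]
    rw [this, Subgroup.card_top] at hNp
    exact hp.out.not_dvd_one (hNp ▸ Nat.dvd_gcd hpG dvd_rfl)
  · rw [hKA, hL, Subgroup.index_comap_of_surjective _ (QuotientGroup.mk'_surjective K)]
    exact ⟨_, Nat.eq_prime_pow_of_unique_prime_dvd Subgroup.index_ne_zero_of_finite
      fun {r} hr hrd => hind r hr hrd⟩
  · intro a ha ha1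
    refine hfpf a ?_ ha1
    exact (hcA ▸ hNp).coprime_dvd_left (Subgroup.orderOf_dvd_natCard A ha)
  · intro x hx a ha ha1 hxa
    rw [hKA, hL, Subgroup.mem_comap] at hx
    refine hx (hcent (π a) (hAN a ha ha1).1 (hAN a ha ha1).2 (π x) ?_)
    have h : π (x * a * x⁻¹ * a⁻¹) = 1 := (QuotientGroup.eq_one_iff _).mpr hxa
    simp only [map_mul, map_inv, mul_inv_eq_one] at h
    exact mul_inv_eq_iff_eq_mul.mp h

end Cfsg.Agent.CNSolvable
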