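import Mathlib
import Cfsg.Agent.Lib.CIT21Frob5
import Cfsg.Agent.Lib.DicksonTorus
import Cfsg.Agent.Lib.PSL2Small
import Cfsg.Agent.S4700

/-!
# `PSL₂(F)` with a nilpotent TI subgroup of even order containing centralizers

Only even characteristic and `|F| = 5` are possible, so the group is `SL₂` in characteristic two.
-/

set_option autoImplicit false
set_option linter.all false

open Subgroup
open scoped Pointwise

namespace Cfsg.Agent.CNTypePSL7

open Cfsg.Agent.TICentralizers82 hiding Setup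

universe u

variable {G : Type u} [Group G] [Finite G]

/-- A nilpotent group of even order has a central involution. -/
theorem exists_central_involution (C : Subgroup G) [Group.IsNilpotent C]
    (he : Even (Nat.card C)) : ∃ t ∈ C, orderOf t = 2 ∧ ∀ c ∈ C, c * t = t * c := by
  haveI := Fact.mk Nat.prime_two
  obtain ⟨P⟩ := (inferInstance : Nonempty (Sylow 2 C))
  haveI hPn : (P : Subgroup C).Normal := P.normal_of_normalizerCondition
    Group.normalizerCondition_of_isNilpotent
  have hPne : (P : Subgroup C) ≠ ⊥ := P.ne_bot_of_dvd_card (even_iff_two_dvd.1 he)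
  obtain ⟨w, ⟨hwP, hwZ⟩, hw1⟩ := ((P : Subgroup C) ⊓ center C).bot_or_exists_ne_one.resolve_left
    (CIT21Frob5.inf_center_ne_bot (P : Subgroup C) hPne)
  obtain ⟨k, hk⟩ := IsPGroup.iff_orderOf.1 P.2 ⟨w, hwP⟩
  rw [orderOf_mk] at hk
  have h2 : 2 ∣ orderOf w := by
    rcases k with _ | k
    · exact absurd (orderOf_eq_one_iff.1 (by simpa using hk)) hw1
    · rw [hk, pow_succ]; exact dvd_mul_left 2 _
  refine ⟨(w ^ (orderOf w / 2) : C), SetLike.coe_mem _, ?_, fun c hc => ?_⟩
  · rw [orderOf_coe]; exact orderOf_pow_orderOf_div (orderOf_pos w).ne' h2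
  · exact congrArg Subtype.val
      (mem_center_iff.1 (Subgroup.pow_mem _ hwZ (orderOf w / 2)) ⟨c, hc⟩)

/-- No group of order `6` or `12` is simple. -/
theorem not_simple_small {X : Type*} [Group X] [Finite X] [IsSimpleGroup X]
    (h : Nat.card X = 6 ∨ Nat.card X = 12) : False := by
  haveI : Fact (Nat.Prime 3) := ⟨Nat.prime_three⟩
  have hnp : ¬ (Nat.card X).Prime := by rcases h with h | h <;> rw [h] <;> norm_num
  have hX := SimpleOrder.not_comm_of_not_prime hnp
  obtain ⟨P⟩ : Nonempty (Sylow 3 X) := inferInstance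
  have hP : Nat.card (P : Subgroup X) = 3 := by
    rcases h with h | h
    · exact SimpleOrder.sylow_card_of_eq (m := 2) (k := 1) (by rw [h]; rfl) (by norm_num) P
    · exact SimpleOrder.sylow_card_of_eq (m := 4) (k := 1) (by rw [h]; rfl) (by norm_num) P
  have hne : (P : Subgroup X) ≠ ⊤ := fun e => by
    rw [e, card_top] at hP
    omega
  have h5 := SimpleOrder.five_le_index hX _ hne
  have hm := (P : Subgroup X).card_mul_index
  rw [hP] at hm
  omega

/-- The odd fields: only `5` occurs. -/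
theorem card_eq_five [IsSimpleGroup G] (hna : ∃ a b : G, a * b ≠ b * a) (C : Subgroup G)
    [Group.IsNilpotent C] (he : Even (Nat.card C))
    (hcc : ∀ x ∈ C, x ≠ 1 → centralizer ({x} : Set G) ≤ C)
    (hti : ∀ (x g : G), x ∈ C → x ≠ 1 → g * x * g⁻¹ ∈ C → g ∈ normalizer (C : Set G))
    {F : Type} [Field F] [Fintype F] (e : G ≃* Matrix.ProjectiveSpecialLinearGroup (Fin 2) F)
    (hodd : Odd (Fintype.card F)) : Fintype.card F = 5 := by
  classical
  obtain ⟨t, htC, ht, hZ⟩ := exists_central_involution C he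
  obtain rfl := CIT21Frob5.cn_eq htC (SignalizerStrongEmb.involution_ne_one ht) hZ hcc
  have H := CIT21Frob5.cfg_of_simple hna ht hcc hti
  -- the involutions of `C(t)` are central in it
  have hcen : ∀ u ∈ cn t, orderOf u = 2 → ∀ c ∈ cn t, c * u = u * c := by
    intro u hu huo c hc
    obtain ⟨n, hn, rfl⟩ := H.exists_norm_conj hu huo
    have h1 : n⁻¹ * c * n ∈ cn t := by
      simpa using conj_mem_nm (inv_mem hn) hc
    have h2 := hZ _ h1
    calc c * (n * t * n⁻¹) = n * ((n⁻¹ * c * n) * t) * n⁻¹ := by group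
      _ = n * (t * (n⁻¹ * c * n)) * n⁻¹ := by rw [h2]
      _ = n * t * n⁻¹ * c := by group
  obtain ⟨a, ha⟩ := hodd
  haveI : Fact (Nat.Prime 2) := ⟨Nat.prime_two⟩
  obtain ⟨p, hchar, nn, hp, hn⟩ := FiniteField.card' F
  haveI : Fact p.Prime := ⟨hp⟩
  have h1F := Fintype.one_lt_card (α := F)
  have hq3 : Fintype.card F ≠ 3 := by
    intro h3
    obtain ⟨e3⟩ := PSL2Small.psl2_three F (by rw [Nat.card_eq_fintype_card, h3])
    haveI : IsSimpleGroup (alternatingGroup (Fin 4)) := (e.trans e3).symm.isSimpleGroup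
    have h12 : Nat.card (alternatingGroup (Fin 4)) = 12 := by
      rw [nat_card_alternatingGroup, Nat.card_fin]; rfl
    exact not_simple_small (Or.inr h12)
  -- `N` is the one of `q ± 1` divisible by four
  obtain ⟨N, hN, h4⟩ : ∃ N, (N = Nat.card F - 1 ∨ N = Nat.card F + 1) ∧ 4 ∣ N := by
    rw [Nat.card_eq_fintype_card]
    rcases Nat.even_or_odd a with ⟨b, hb⟩ | ⟨b, hb⟩
    · exact ⟨_, Or.inl rfl, by omega⟩
    · exact ⟨_, Or.inr rfl, by omega⟩
  have hN4 : 4 ≤ N := by
    rw [Nat.card_eq_fintype_card] at hN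
    exact Nat.le_of_dvd (by omega) h4
  obtain ⟨g₀, h₀, hg, hinv, hh, hnm⟩ := DicksonTorus.exists_torus (F := F) p hN (by omega)
  have hdd : DicksonPSL.dd F = 2 := by
    rw [DicksonPSL.dd, Nat.card_eq_fintype_card]
    exact Nat.gcd_eq_left (by omega)
  rw [hdd] at hg
  set g : G := e.symm g₀ with hgdef
  set h : G := e.symm h₀ with hhdef
  have hgo : orderOf g = N / 2 := by rw [hgdef, e.symm.orderOf_eq, hg]
  have hinv' : h * g * h⁻¹ = g⁻¹ := by
    rw [hgdef, hhdef, ← map_inv, ← map_mul, ← map_mul, hinv, map_inv]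
  have hh' : h * h = 1 := by rw [hhdef, ← map_mul, hh, map_one]
  have hh1 : h ≠ 1 := fun e1 => hnm (by
    have : h₀ = 1 := e.symm.injective (by rw [← hhdef, e1, map_one])
    rw [this]; exact one_mem _)
  have hho : orderOf h = 2 := orderOf_eq_prime (by rw [pow_two, hh']) hh1
  have hgh : g * h ≠ 1 := fun e1 => hnm (by
    have e2 : h₀ = g₀⁻¹ := by
      refine eq_inv_of_mul_eq_one_right (e.symm.injective ?_)
      rw [map_mul, map_one]; exact e1
    rw [e2]; exact inv_mem (mem_zpowers g₀))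
  -- the involution `g ^ (N / 4)` is conjugate to `t`
  have hto : orderOf (g ^ (orderOf g / 2)) = 2 :=
    orderOf_pow_orderOf_div (orderOf_pos g).ne' (by rw [hgo]; omega)
  obtain ⟨c, hc⟩ := isConj_iff.1 (H.conjI _ t hto ht)
  set k := orderOf g / 2
  have hmem : ∀ y : G, y * g ^ k = g ^ k * y → c * y * c⁻¹ ∈ cn t := by
    intro y hy
    refine mem_cn.2 ?_
    show (c * y * c⁻¹) * t = t * (c * y * c⁻¹)
    rw [← hc]
    calc c * y * c⁻¹ * (c * g ^ k * c⁻¹) = c * (y * g ^ k) * c⁻¹ := by group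
      _ = c * (g ^ k * y) * c⁻¹ := by rw [hy]
      _ = c * g ^ k * c⁻¹ * (c * y * c⁻¹) := by group
  have hgmem := hmem g ((Commute.refl g).pow_right k).eq
  have hhmem : c * h * c⁻¹ ∈ cn t := hmem h (by
    have h1 : h * g ^ k * h⁻¹ = (g ^ k)⁻¹ := by rw [← conj_pow, hinv', inv_pow]
    have h2 : (g ^ k)⁻¹ = g ^ k := by
      refine inv_eq_of_mul_eq_one_right ?_
      rw [← pow_two, ← hto, pow_orderOf_eq_one]
    rw [h2] at h1
    exact mul_inv_eq_iff_eq_mul.1 h1)
  have hghmem : c * (g * h) * c⁻¹ ∈ cn t := by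
    rw [show c * (g * h) * c⁻¹ = (c * g * c⁻¹) * (c * h * c⁻¹) by group]
    exact mul_mem hgmem hhmem
  have hgho : orderOf (c * (g * h) * c⁻¹) = 2 := by
    rw [SignalizerStrongEmb.orderOf_conj]
    refine orderOf_eq_prime ?_ hgh
    rw [pow_two, show g * h * (g * h) = g * (h * g * h⁻¹) * (h * h) by group, hinv', hh',
      mul_one, mul_inv_cancel]
  have hcomm := hcen _ hghmem hgho _ hhmem
  have h2 : g * g = 1 := by
    have h3 : h * (g * h) = g * h * h := by
      have h4 : c * (h * (g * h)) * c⁻¹ = c * (g * h * h) * c⁻¹ := by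
        calc c * (h * (g * h)) * c⁻¹ = c * h * c⁻¹ * (c * (g * h) * c⁻¹) := by group
          _ = c * (g * h) * c⁻¹ * (c * h * c⁻¹) := hcomm
          _ = c * (g * h * h) * c⁻¹ := by group
      exact mul_left_cancel (mul_right_cancel h4)
    rw [mul_assoc g h h, hh', mul_one] at h3
    have h5 : g⁻¹ = g := by
      rw [← hinv']
      calc h * g * h⁻¹ = h * (g * h) * (h * h)⁻¹ := by group
        _ = g := by rw [h3, hh', inv_one, mul_one]
    calc g * g = g * g⁻¹ := by rw [h5]
      _ = 1 := mul_inv_cancel g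
  have hd : orderOf g ∣ 2 := orderOf_dvd_of_pow_eq_one (by rw [pow_two, h2])
  have := Nat.le_of_dvd two_pos hd
  rw [Nat.card_eq_fintype_card] at hN
  omega

/-- The characteristic two conclusion. -/
theorem sl_two [IsSimpleGroup G] (hna : ∃ a b : G, a * b ≠ b * a) (C : Subgroup G)
    [Group.IsNilpotent C] (he : Even (Nat.card C))
    (hcc : ∀ x ∈ C, x ≠ 1 → centralizer ({x} : Set G) ≤ C)
    (hti : ∀ (x g : G), x ∈ C → x ≠ 1 → g * x * g⁻¹ ∈ C → g ∈ normalizer (C : Set G))
    {F : Type} [Field F] [Fintype F] (e : G ≃* Matrix.ProjectiveSpecialLinearGroup (Fin 2) F) :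
    ∃ (K : Type) (_ : Field K) (_ : Fintype K), (∃ n : ℕ, 2 ≤ n ∧ Fintype.card K = 2 ^ n) ∧
      Nonempty (G ≃* Matrix.SpecialLinearGroup (Fin 2) K) := by
  obtain ⟨p, hchar, n, hp, hn⟩ := FiniteField.card' F
  by_cases hp2 : p = 2
  · subst hp2
    have hn2 : 2 ≤ (n : ℕ) := by
      by_contra hc
      have h1 : (n : ℕ) = 1 := by have := n.pos; omega
      obtain ⟨e2⟩ := PSL2Small.psl2_two F (by rw [Nat.card_eq_fintype_card, hn, h1, pow_one])
      haveI : IsSimpleGroup (Equiv.Perm (Fin 3)) := (e.trans e2).symm.isSimpleGroup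
      have h6 : Nat.card (Equiv.Perm (Fin 3)) = 6 := by rw [Nat.card_perm, Nat.card_fin]; rfl
      exact not_simple_small (Or.inl h6)
    obtain ⟨e'⟩ := S4700.psl_equiv_sl (F := F) n.ne_zero hn
    exact ⟨F, inferInstance, inferInstance, ⟨n, hn2, hn⟩, ⟨e.trans e'⟩⟩
  · have h5 := card_eq_five hna C he hcc hti e (hn ▸ (hp.odd_of_ne_two hp2).pow)
    let K := GaloisField 2 2
    letI : Fintype K := Fintype.ofFinite K
    have hK : Nat.card K = 4 := GaloisField.card 2 2 two_ne_zero
    have hK' : Fintype.card K = 2 ^ 2 := by rw [← Nat.card_eq_fintype_card, hK]; rfl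
    obtain ⟨a⟩ := PSL2Small.psl2_five F (by rw [Nat.card_eq_fintype_card, h5])
    obtain ⟨b⟩ := PSL2Small.psl2_four K hK
    obtain ⟨c⟩ := S4700.psl_equiv_sl (F := K) two_ne_zero hK'
    exact ⟨K, inferInstance, inferInstance, ⟨2, le_rfl, hK'⟩,
      ⟨(e.trans a).trans (b.symm.trans c)⟩⟩

end Cfsg.Agent.CNTypePSL7
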