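import Mathlib
import Cfsg.Prelude.Def_Involutions
import Cfsg.Prelude.Def_Solvable
import Cfsg.Agent.S0205
import Cfsg.Agent.S0215
import Cfsg.Agent.S1225
import Cfsg.Agent.Lib.CharInducedTI
import Cfsg.Agent.Lib.FrobeniusNilpotent
import Cfsg.Agent.Lib.PGroupsBasic

/-!
# Groups whose maximal solvable subgroups have Frobenius-type TI kernels

If `G` is not solvable and every maximal solvable subgroup `M` has a normal subgroup `F M`, trivial
only for abelian `M`, on which `M` outside `F M` acts fixed-point-freely and which is a TI subgroup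
relative to `M`, then `G` is simple and `F M`, for a suitable `M`, is a nilpotent TI subgroup of
even order containing the centralizers of its non-identity elements.
-/

set_option autoImplicit false
set_option linter.all false

open Subgroup
open scoped Pointwise commutatorElement

namespace Cfsg.Agent.CNTypeSetup7

variable {G : Type*} [Group G] [Finite G]

/-- `M` is a maximal solvable subgroup. -/
def MaxSolv (M : Subgroup G) : Prop :=
  Group.IsSolvable M ∧ ∀ M' : Subgroup G, M < M' → ¬ Group.IsSolvable M'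

/-- The hypothesis on the assignment `F`. -/
def Hyp (F : Subgroup G → Subgroup G) : Prop :=
  ∀ M : Subgroup G, MaxSolv M →
    F M ≤ M ∧ M ≤ normalizer (F M : Set G) ∧
    (∀ a ∈ M, a ∉ F M → ∀ x ∈ F M, x * a = a * x → x = 1) ∧
    (∀ g : G, g ∉ M → F M ⊓ (MulAut.conj g • F M) = ⊥) ∧
    (F M ≠ ⊥ ∨ IsMulCommutative M)

theorem mem_conj {H : Subgroup G} {g y : G} : y ∈ MulAut.conj g • H ↔ g⁻¹ * y * g ∈ H := by
  rw [mem_pointwise_smul_iff_inv_smul_mem]
  simp [MulAut.smul_def]

theorem conj_mem_conj {H : Subgroup G} {g y : G} (hy : y ∈ H) :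
    g * y * g⁻¹ ∈ MulAut.conj g • H := by
  rw [mem_conj]
  simpa [mul_assoc] using hy

theorem orderOf_conj' (g x : G) : orderOf (g * x * g⁻¹) = orderOf x := by
  simpa using orderOf_injective (MulAut.conj g).toMonoidHom (MulAut.conj g).injective x

theorem exists_maxSolv (H : Subgroup G) (hH : Group.IsSolvable H) :
    ∃ M, MaxSolv M ∧ H ≤ M := by
  classical
  obtain ⟨M, hHM, hM⟩ := Finite.exists_le_maximal (α := Subgroup G)
    (p := fun K => Group.IsSolvable K) hH
  exact ⟨M, ⟨hM.1, fun M' hlt hs => hlt.not_ge (hM.2 hs hlt.le)⟩, hHM⟩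

/-- `[H ⊔ N : H] = [N : H ⊓ N]` for normal `N`. -/
theorem relIndex_sup (H N : Subgroup G) [N.Normal] :
    H.relIndex (H ⊔ N) = H.relIndex N := by
  refine Nat.eq_of_mul_eq_mul_left (Nat.pos_of_ne_zero (show N.relIndex H ≠ 0 from index_ne_zero_of_finite)) ?_
  have hr : (H ⊓ N).relIndex H = N.relIndex H := inf_relIndex_left _ _
  have hs : (H ⊓ N).relIndex N = H.relIndex N := inf_relIndex_right _ _
  have h1 := relIndex_mul_relIndex (H ⊓ N) H (H ⊔ N) inf_le_left le_sup_left
  have h2 := relIndex_mul_relIndex (H ⊓ N) N (H ⊔ N) inf_le_right le_sup_right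
  rw [hr] at h1
  rw [hs, sup_comm, relIndex_sup_left] at h2
  rw [h1, sup_comm, ← h2, mul_comm]

theorem solvable_sup {M A : Subgroup G} (hM : Group.IsSolvable M) (hA : Group.IsSolvable A)
    [A.Normal] : Group.IsSolvable (M ⊔ A : Subgroup G) := by
  haveI := hM
  haveI := hA
  let e₀ : A.subgroupOf (M ⊔ A) ≃* A := subgroupOfEquivOfLe le_sup_right
  haveI : Group.IsSolvable (A.subgroupOf (M ⊔ A)) :=
    Group.isSolvable_of_isSolvable_injective (f := e₀.toMonoidHom) e₀.injective
  let e := QuotientGroup.quotientInfEquivProdNormalQuotient M A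
  haveI : Group.IsSolvable (↥(M ⊔ A) ⧸ A.subgroupOf (M ⊔ A)) :=
    Group.isSolvable_of_surjective (f := e.toMonoidHom.comp (QuotientGroup.mk' _))
      (e.surjective.comp (QuotientGroup.mk'_surjective _))
  exact Group.isSolvable_of_ker_le_range (G' := ↥(A.subgroupOf (M ⊔ A)))
    (Subgroup.subtype _) (QuotientGroup.mk' (A.subgroupOf (M ⊔ A))) (by simp)

theorem solvable_of_odd (H : Subgroup G) (h : Odd (Nat.card H)) : Group.IsSolvable H :=
  S0205.result h

theorem normalizer_maxSolv {M : Subgroup G} (hM : MaxSolv M) {g : G}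
    (hg : g ∈ normalizer (M : Set G)) : g ∈ M := by
  by_contra hgM
  let N := normalizer (M : Set G)
  let K : Subgroup G := (zpowers g ⊔ M)
  have hKN : K ≤ N := sup_le (zpowers_le.2 hg) le_normalizer
  have hlt : M < K :=
    lt_of_le_of_ne le_sup_right fun e => hgM (e ▸ (le_sup_left : zpowers g ≤ K) (mem_zpowers g))
  refine hM.2 K hlt ?_
  haveI : (M.subgroupOf K).Normal :=
    (normal_subgroupOf_iff_le_normalizer le_sup_right).2 hKN
  haveI := hM.1
  haveI : Group.IsSolvable (M.subgroupOf K) :=
    Group.isSolvable_of_isSolvable_injective (f := (subgroupOfEquivOfLe (le_sup_right : M ≤ K)).toMonoidHom)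
      (subgroupOfEquivOfLe (le_sup_right : M ≤ K)).injective
  let π := QuotientGroup.mk' (M.subgroupOf K)
  let gK : K := ⟨g, (le_sup_left : zpowers g ≤ K) (mem_zpowers g)⟩
  have hgen : ∀ q : K ⧸ M.subgroupOf K, q ∈ zpowers (π gK) := by
    intro q
    obtain ⟨⟨y, hy⟩, rfl⟩ := QuotientGroup.mk'_surjective _ q
    have hy' : y ∈ ((zpowers (π gK)).comap π).map K.subtype := by
      refine (sup_le ?_ ?_ : zpowers g ⊔ M ≤ _) hy
      · exact zpowers_le.2 ⟨gK, mem_comap.2 (mem_zpowers _), rfl⟩
      · intro m hm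
        refine ⟨⟨m, (le_sup_right : M ≤ K) hm⟩, mem_comap.2 ?_, rfl⟩
        have : π ⟨m, (le_sup_right : M ≤ K) hm⟩ = 1 := (QuotientGroup.eq_one_iff _).2 hm
        rw [this]
        exact one_mem _
    obtain ⟨z, hz, hzy⟩ := hy'
    have : z = ⟨y, hy⟩ := Subtype.ext hzy
    exact this ▸ hz
  haveI : IsCyclic (K ⧸ M.subgroupOf K) := ⟨π gK, hgen⟩
  haveI : Group.IsSolvable (K ⧸ M.subgroupOf K) := by
    letI := IsCyclic.commGroup (α := K ⧸ M.subgroupOf K)
    exact Group.isSolvable_of_comm (fun a b => mul_comm a b)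
  exact Group.isSolvable_of_ker_le_range (G' := ↥(M.subgroupOf K))
    (Subgroup.subtype _) π (by simp [π])

variable {F : Subgroup G → Subgroup G}

theorem cent_le (h : Hyp F) {M : Subgroup G} (hM : MaxSolv M) {x : G} (hx : x ∈ F M)
    (hx1 : x ≠ 1) : centralizer ({x} : Set G) ≤ F M := by
  obtain ⟨-, -, hfpf, hTI, -⟩ := h M hM
  intro g hg
  have hc : g * x = x * g := mem_centralizer_singleton_iff.1 hg
  have hgM : g ∈ M := by
    by_contra hgM
    have hmem : x ∈ F M ⊓ (MulAut.conj g • F M) := by
      refine mem_inf.2 ⟨hx, ?_⟩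
      have := conj_mem_conj (g := g) hx
      rwa [hc, mul_inv_cancel_right] at this
    rw [hTI g hgM, mem_bot] at hmem
    exact hx1 hmem
  by_contra hgF
  exact hx1 (hfpf g hgM hgF x hx hc.symm)

theorem normalizer_eq (h : Hyp F) {M : Subgroup G} (hM : MaxSolv M) (hF : F M ≠ ⊥) :
    normalizer (F M : Set G) = M := by
  obtain ⟨-, hn, -, hTI, -⟩ := h M hM
  refine le_antisymm (fun g hg => ?_) hn
  by_contra hgM
  apply hF
  rw [← hTI g hgM, left_eq_inf]
  intro y hy
  rw [mem_conj]
  exact (mem_normalizer_iff''.1 hg y).1 hy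

/-- A group all whose solvable subgroups are abelian is solvable. -/
theorem solvable_of_abelian_maxSolv (hab : ∀ M : Subgroup G, MaxSolv M → IsMulCommutative M) :
    Group.IsSolvable G := by
  haveI : Fact (Nat.Prime 2) := ⟨Nat.prime_two⟩
  obtain ⟨S⟩ : Nonempty (Sylow 2 G) := inferInstance
  set N := normalizer ((S : Subgroup G) : Set G)
  haveI : ((S : Subgroup G).subgroupOf N).Normal := normal_in_normalizer
  haveI : Group.IsSolvable ((S : Subgroup G).subgroupOf N) := by
    haveI : Group.IsNilpotent (S : Subgroup G) := S.2.isNilpotent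
    exact Group.isSolvable_of_isSolvable_injective
      (f := (subgroupOfEquivOfLe (le_normalizer (H := (S : Subgroup G)))).toMonoidHom)
      (subgroupOfEquivOfLe (le_normalizer (H := (S : Subgroup G)))).injective
  have hodd : Odd (Nat.card (N ⧸ (S : Subgroup G).subgroupOf N)) := by
    rw [Nat.odd_iff, ← Nat.two_dvd_ne_zero]
    exact fun hd => S.not_dvd_index (hd.trans (relIndex_dvd_index_of_le le_normalizer))
  haveI : Group.IsSolvable (N ⧸ (S : Subgroup G).subgroupOf N) := S0205.result hodd
  have hN : Group.IsSolvable N :=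
    Group.isSolvable_of_ker_le_range (G' := ↥((S : Subgroup G).subgroupOf N))
      (Subgroup.subtype _) (QuotientGroup.mk' ((S : Subgroup G).subgroupOf N)) (by simp)
  obtain ⟨M, hM, hNM⟩ := exists_maxSolv N hN
  haveI := hab M hM
  have hc : N ≤ centralizer ((S : Subgroup G) : Set G) := by
    intro g hg
    refine mem_centralizer_iff.2 fun s hs => ?_
    have := mul_comm' (⟨s, hNM (le_normalizer hs)⟩ : M) ⟨g, hNM hg⟩
    exact congrArg Subtype.val this
  have hcompl := MonoidHom.ker_transferSylow_isComplement' S hc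
  set K := (MonoidHom.transferSylow S hc).ker
  haveI : Group.IsSolvable K := by
    refine solvable_of_odd K ?_
    rw [← hcompl.index_eq_card, Nat.odd_iff, ← Nat.two_dvd_ne_zero]
    exact S.not_dvd_index
  haveI : Group.IsSolvable (G ⧸ K) := by
    haveI : Group.IsNilpotent (S : Subgroup G) := S.2.isNilpotent
    exact Group.isSolvable_of_surjective (f := (QuotientGroup.mk' K).comp (S : Subgroup G).subtype)
      (by
        intro q
        obtain ⟨y, rfl⟩ := QuotientGroup.mk'_surjective K q
        obtain ⟨⟨s, k⟩, hsk⟩ := hcompl.symm.surjective y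
        refine ⟨s, ?_⟩
        rw [← hsk]
        simp [(QuotientGroup.eq_one_iff _).2 k.2])
  exact Group.isSolvable_of_ker_le_range (G' := ↥K) K.subtype (QuotientGroup.mk' K) (by simp)

/-- A nonsolvable group of this type has no nontrivial abelian normal subgroup. -/
theorem no_abelian_normal (h : Hyp F) (hns : ¬ Group.IsSolvable G) (A : Subgroup G) [A.Normal]
    [IsMulCommutative A] : A = ⊥ := by
  by_contra hA
  apply hns
  haveI : Group.IsSolvable A := Group.isSolvable_of_comm (fun a b => mul_comm' a b)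
  have key : ∀ M : Subgroup G, MaxSolv M → F M = ⊥ ∨ M = ⊤ := by
    intro M hM
    obtain ⟨hle, hn, hfpf, hTI, -⟩ := h M hM
    by_cases hF : F M = ⊥
    · exact Or.inl hF
    right
    have hAM : A ≤ M := by
      by_contra hc
      exact hM.2 (M ⊔ A) (left_lt_sup.2 hc) (solvable_sup hM.1 inferInstance)
    have hz : A ⊓ F M ≠ ⊥ := by
      intro hbot
      obtain ⟨a, ha, ha1⟩ := (bot_or_exists_ne_one A).resolve_left hA
      obtain ⟨f, hf, hf1⟩ := (bot_or_exists_ne_one (F M)).resolve_left hF
      have haF : a ∉ F M := fun hc => ha1 (mem_bot.1 (hbot ▸ mem_inf.2 ⟨ha, hc⟩))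
      refine hf1 (hfpf a (hAM ha) haF f hf ?_)
      have h1 : f * a * f⁻¹ * a⁻¹ ∈ A :=
        mul_mem ((inferInstance : A.Normal).conj_mem a ha f) (inv_mem ha)
      have h2 : f * a * f⁻¹ * a⁻¹ ∈ F M := by
        rw [show f * a * f⁻¹ * a⁻¹ = f * (a * f⁻¹ * a⁻¹) by group]
        exact mul_mem hf ((mem_normalizer_iff.1 (hn (hAM ha)) _).1 (inv_mem hf))
      have h3 : f * a * f⁻¹ * a⁻¹ = 1 := mem_bot.1 (hbot ▸ mem_inf.2 ⟨h1, h2⟩)
      rwa [mul_inv_eq_one, mul_inv_eq_iff_eq_mul] at h3
    obtain ⟨z, hz', hz1⟩ := (bot_or_exists_ne_one _).resolve_left hz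
    have hAF : A ≤ F M := by
      intro a ha
      refine cent_le h hM (mem_inf.1 hz').2 hz1 (mem_centralizer_singleton_iff.2 ?_)
      exact congrArg Subtype.val (mul_comm' (⟨a, ha⟩ : A) ⟨z, (mem_inf.1 hz').1⟩)
    refine eq_top_iff.2 fun g _ => ?_
    by_contra hgM
    apply hA
    rw [eq_bot_iff, ← hTI g hgM]
    refine le_inf hAF fun a ha => ?_
    rw [mem_conj]
    refine hAF ?_
    simpa using (inferInstance : A.Normal).conj_mem a ha g⁻¹
  by_cases htop : ∃ M : Subgroup G, MaxSolv M ∧ M = ⊤
  · obtain ⟨M, hM, rfl⟩ := htop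
    haveI := hM.1
    exact Group.isSolvable_of_surjective (f := (topEquiv : (⊤ : Subgroup G) ≃* G).toMonoidHom)
      (topEquiv : (⊤ : Subgroup G) ≃* G).surjective
  push Not at htop
  refine solvable_of_abelian_maxSolv fun M hM => ?_
  rcases (h M hM).2.2.2.2 with hF | hF
  · exact absurd ((key M hM).resolve_left hF) (htop M hM)
  · exact hF

/-- A nonsolvable group of this type has no nontrivial solvable normal subgroup. -/
theorem no_solvable_normal (h : Hyp F) (hns : ¬ Group.IsSolvable G) (R : Subgroup G) [R.Normal]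
    (hR : Group.IsSolvable R) : R = ⊥ := by
  classical
  haveI := hR
  by_contra hRne
  haveI : Nontrivial R := (nontrivial_iff_ne_bot R).2 hRne
  obtain ⟨n, hn⟩ := (Group.isSolvable_def R).1 hR
  have hex : ∃ n, derivedSeries R n = ⊥ := ⟨n, hn⟩
  set m := Nat.find hex with hm
  have hm0 : m ≠ 0 := by
    intro e
    have := Nat.find_spec hex
    rw [← hm, e, derivedSeries_zero] at this
    exact top_ne_bot this
  obtain ⟨k, hk⟩ := Nat.exists_eq_succ_of_ne_zero hm0
  have hne : derivedSeries R k ≠ ⊥ := Nat.find_min hex (by omega)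
  have hcomm : ⁅derivedSeries R k, derivedSeries R k⁆ = ⊥ := by
    rw [← derivedSeries_succ]
    have := Nat.find_spec hex
    rwa [← hm, hk] at this
  let A : Subgroup G := (derivedSeries R k).map R.subtype
  haveI : A.Normal := by
    haveI := (inferInstance : R.Normal)
    exact ConjAct.normal_of_characteristic_of_normal
  haveI : IsMulCommutative A := by
    refine ⟨⟨?_⟩⟩
    rintro ⟨_, a, ha, rfl⟩ ⟨_, b, hb, rfl⟩
    refine Subtype.ext ?_
    have h1 : a * b = b * a := by
      have : ⁅a, b⁆ = 1 := mem_bot.1 (hcomm ▸ commutator_mem_commutator ha hb)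
      exact commutatorElement_eq_one_iff_mul_comm.1 this
    exact congrArg (fun z : R => (z : G)) h1
  exact hne ((map_eq_bot_iff_of_injective _ R.subtype_injective).1 (no_abelian_normal h hns A))

/-- A normal complement of a TI subgroup: used twice. -/
theorem odd_kernel {H : Subgroup G} (hH : Cfsg.IsFrobeniusComplement H) (hidx : Odd H.index) :
    ∃ N : Subgroup G, (N : Set G) = Cfsg.frobeniusKernel H ∧ N.Normal ∧ Odd (Nat.card N) ∧ N ≠ ⊥ := by
  haveI := Fintype.ofFinite G
  obtain ⟨N, hN, hn, hc⟩ := CharInduced.frobenius_kernel_subgroup hH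
  refine ⟨N, hN, hn, by rw [← hc.index_eq_card]; exact hidx, fun e => hH.2.1 ?_⟩
  rw [e] at hc
  exact isComplement'_bot_left.1 hc

theorem core (h : Hyp F) (hns : ¬ Group.IsSolvable G) :
    IsSimpleGroup G ∧ ∃ M : Subgroup G, MaxSolv M ∧ normalizer (F M : Set G) = M ∧ M ≠ ⊤ ∧
      F M < M ∧ Group.IsNilpotent (F M) ∧ ∃ S : Sylow 2 G, (S : Subgroup G) ≤ F M ∧
        (S : Subgroup G) ≠ ⊥ := by
  classical
  haveI : Fact (Nat.Prime 2) := ⟨Nat.prime_two⟩
  -- normal subgroups of odd order are trivial
  have hoddN : ∀ K : Subgroup G, K.Normal → Odd (Nat.card K) → K = ⊥ := fun K hK ho => by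
    haveI := hK
    exact no_solvable_normal h hns K (solvable_of_odd K ho)
  obtain ⟨M, hM, hF⟩ : ∃ M : Subgroup G, MaxSolv M ∧ F M ≠ ⊥ ∧
      ∃ S : Sylow 2 G, (S : Subgroup G) ≤ M := by
    by_contra hcon
    push Not at hcon
    apply hns
    obtain ⟨S⟩ : Nonempty (Sylow 2 G) := inferInstance
    -- the normalizer of `S` is abelian
    set N := normalizer ((S : Subgroup G) : Set G)
    haveI : ((S : Subgroup G).subgroupOf N).Normal := normal_in_normalizer
    haveI : Group.IsSolvable ((S : Subgroup G).subgroupOf N) := by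
      haveI : Group.IsNilpotent (S : Subgroup G) := S.2.isNilpotent
      exact Group.isSolvable_of_isSolvable_injective
        (f := (subgroupOfEquivOfLe (le_normalizer (H := (S : Subgroup G)))).toMonoidHom)
        (subgroupOfEquivOfLe (le_normalizer (H := (S : Subgroup G)))).injective
    have hodd : Odd (Nat.card (N ⧸ (S : Subgroup G).subgroupOf N)) := by
      rw [Nat.odd_iff, ← Nat.two_dvd_ne_zero]
      exact fun hd => S.not_dvd_index (hd.trans (relIndex_dvd_index_of_le le_normalizer))
    haveI : Group.IsSolvable (N ⧸ (S : Subgroup G).subgroupOf N) := S0205.result hodd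
    have hN : Group.IsSolvable N :=
      Group.isSolvable_of_ker_le_range (G' := ↥((S : Subgroup G).subgroupOf N))
        (Subgroup.subtype _) (QuotientGroup.mk' ((S : Subgroup G).subgroupOf N)) (by simp)
    obtain ⟨M, hM, hNM⟩ := exists_maxSolv N hN
    have hF0 : F M = ⊥ := by
      by_contra hne
      exact hcon M hM hne S (le_trans le_normalizer hNM)
    haveI : IsMulCommutative M := ((h M hM).2.2.2.2).resolve_left fun hne => hne hF0
    have hc : N ≤ centralizer ((S : Subgroup G) : Set G) := by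
      intro g hg
      refine mem_centralizer_iff.2 fun s hs => ?_
      exact congrArg Subtype.val (mul_comm' (⟨s, hNM (le_normalizer hs)⟩ : M) ⟨g, hNM hg⟩)
    have hcompl := MonoidHom.ker_transferSylow_isComplement' S hc
    have hK : (MonoidHom.transferSylow S hc).ker = ⊥ := hoddN _ inferInstance (by
      rw [← hcompl.index_eq_card, Nat.odd_iff, ← Nat.two_dvd_ne_zero]
      exact S.not_dvd_index)
    rw [hK] at hcompl
    have htop : (S : Subgroup G) = ⊤ := isComplement'_bot_left.1 hcompl
    haveI : Group.IsNilpotent (S : Subgroup G) := S.2.isNilpotent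
    exact Group.isSolvable_of_surjective (f := (S : Subgroup G).subtype)
      (fun g => ⟨⟨g, htop ▸ mem_top g⟩, rfl⟩)
  obtain ⟨hFne, S, hSM⟩ := hF
  obtain ⟨hle, hn, hfpf, hTI, -⟩ := h M hM
  have hNorm := normalizer_eq h hM hFne
  have hMtop : M ≠ ⊤ := by
    rintro rfl
    haveI := hM.1
    exact hns (Group.isSolvable_of_surjective (f := (topEquiv : (⊤ : Subgroup G) ≃* G).toMonoidHom)
      (topEquiv : (⊤ : Subgroup G) ≃* G).surjective)
  have hS1 : (S : Subgroup G) ≠ ⊥ := by
    intro e
    have hodd : Odd (Nat.card G) := by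
      have := S.not_dvd_index
      rw [e, index_bot] at this
      exact Nat.odd_iff.2 (Nat.two_dvd_ne_zero.1 this)
    exact hns (S0205.result hodd)
  -- `F M` meets `S` non-trivially
  have hmeet : (S : Subgroup G) ⊓ F M ≠ ⊥ := by
    intro hbot
    have hout : ∀ s ∈ (S : Subgroup G), s ≠ 1 → s ∉ F M := fun s hs hs1 hc =>
      hs1 (mem_bot.1 (hbot ▸ mem_inf.2 ⟨hs, hc⟩))
    -- an involution of `S` inverts `F M`
    have hinv : ∀ a ∈ (S : Subgroup G), orderOf a = 2 → ∀ f ∈ F M, a * f * a⁻¹ = f⁻¹ := by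
      intro a ha ha2
      have ha1 : a ≠ 1 := fun e => by rw [e, orderOf_one] at ha2; omega
      have haF := hout a ha ha1
      have haa : a * a = 1 := by
        have := pow_orderOf_eq_one a
        rwa [ha2, pow_two] at this
      have hai : a⁻¹ = a := inv_eq_of_mul_eq_one_right haa
      let φ : F M → F M := fun f => ⟨(f : G)⁻¹ * (a * f * a⁻¹),
        mul_mem (inv_mem f.2) ((mem_normalizer_iff.1 (hn (hSM ha)) _).1 f.2)⟩
      have hφ : Function.Injective φ := by
        rintro ⟨x, hx⟩ ⟨y, hy⟩ hxy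
        have hxy' : x⁻¹ * (a * x * a⁻¹) = y⁻¹ * (a * y * a⁻¹) := congrArg Subtype.val hxy
        have : (y * x⁻¹) * a = a * (y * x⁻¹) := by
          have h2 : y * x⁻¹ = a * y * a⁻¹ * (a * x * a⁻¹)⁻¹ := by
            rw [eq_mul_inv_iff_mul_eq, mul_assoc, hxy', mul_inv_cancel_left]
          conv_lhs => rw [h2]
          group
        exact Subtype.ext
          (mul_inv_eq_one.1 (hfpf a (hSM ha) haF _ (mul_mem hy (inv_mem hx)) this)).symm
      intro f hf
      obtain ⟨⟨x, hx⟩, hxf⟩ := (Finite.injective_iff_surjective.1 hφ) ⟨f, hf⟩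
      have hxf' : x⁻¹ * (a * x * a⁻¹) = f := congrArg Subtype.val hxf
      rw [← hxf', hai]
      calc a * (x⁻¹ * (a * x * a)) * a = a * x⁻¹ * a * x * (a * a) := by group
        _ = (x⁻¹ * (a * x * a))⁻¹ := by
          rw [haa, mul_one, mul_inv_rev, mul_inv_rev, mul_inv_rev, inv_inv, hai]
          group
    haveI : Nontrivial (S : Subgroup G) := (nontrivial_iff_ne_bot _).2 hS1
    obtain ⟨⟨u, huS⟩, hu⟩ := exists_prime_orderOf_dvd_card' (G := (S : Subgroup G)) 2
      (by
        obtain ⟨k, hk⟩ := IsPGroup.iff_card.1 S.2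
        rcases k with _ | k
        · exact absurd (card_eq_one.1 (by simpa using hk)) hS1
        · rw [hk]; exact dvd_pow_self 2 (by omega))
    rw [orderOf_mk] at hu
    have huniq : ∀ v ∈ (S : Subgroup G), orderOf v = 2 → v = u := by
      intro v hv hv2
      by_contra hne
      obtain ⟨f, hf, hf1⟩ := (bot_or_exists_ne_one (F M)).resolve_left hFne
      have hvi : v⁻¹ = v := by
        apply inv_eq_of_mul_eq_one_right
        have := pow_orderOf_eq_one v
        rwa [hv2, pow_two] at this
      have huv1 : v * u ≠ 1 := fun e => hne (by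
        rw [mul_eq_one_iff_inv_eq, hvi] at e
        exact e)
      refine hf1 (hfpf (v * u) (mul_mem (hSM hv) (hSM huS)) (hout _ (mul_mem hv huS) huv1) f hf ?_)
      have h1 := hinv u huS hu f hf
      have h2 := hinv v hv hv2 f⁻¹ (inv_mem hf)
      rw [inv_inv] at h2
      have h3 : v * u * f * (v * u)⁻¹ = f := by
        calc v * u * f * (v * u)⁻¹ = v * (u * f * u⁻¹) * v⁻¹ := by group
          _ = f := by rw [h1, h2]
      exact (mul_inv_eq_iff_eq_mul.1 h3).symm
    obtain ⟨N, hNn, hNodd, hNc⟩ := S0215.result S u hu huS fun g hg =>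
      huniq _ hg ((orderOf_conj' g u).trans hu)
    have hN := hoddN N hNn hNodd
    subst hN
    have hcen : u ∈ center G := mem_center_iff.2 fun g => by
      have := mem_bot.1 (hNc g)
      rw [mul_inv_eq_one, mul_inv_eq_iff_eq_mul] at this
      exact this.symm
    have hbot' := no_abelian_normal h hns (center G)
    rw [hbot', mem_bot] at hcen
    rw [hcen, orderOf_one] at hu
    omega
  -- hence `S ≤ F M`
  have hSF : (S : Subgroup G) ≤ F M := by
    haveI : ((F M).subgroupOf (S : Subgroup G)).Normal :=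
      normal_subgroupOf_of_le_normalizer (hSM.trans hn)
    have hne : (F M).subgroupOf (S : Subgroup G) ≠ ⊥ := fun e => hmeet (by
      rw [subgroupOf_eq_bot, disjoint_iff] at e
      rwa [inf_comm])
    have h2 := PGroupsBasic.inf_center_ne_bot S.2 hne
    obtain ⟨z, hz, hz1⟩ := (bot_or_exists_ne_one _).resolve_left h2
    intro s hs
    refine cent_le h hM (mem_subgroupOf.1 (mem_inf.1 hz).1) (fun e => hz1 (Subtype.ext e)) ?_
    exact mem_centralizer_singleton_iff.2
      (congrArg Subtype.val (mem_center_iff.1 (mem_inf.1 hz).2 ⟨s, hs⟩))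
  -- minimal normal subgroups
  have hT : ∀ T : Subgroup G, T.Normal → T ≠ ⊥ → T = ⊤ ∧ F M < M := by
    intro T hTn hTne
    haveI := hTn
    have hTns : ¬ Group.IsSolvable T := fun hs => hTne (no_solvable_normal h hns T hs)
    obtain ⟨P, hP⟩ : ∃ P : Sylow 2 T, (P : Subgroup T) = (S : Subgroup G).subgroupOf T := by
      refine ⟨(S.2.of_equiv (MulEquiv.refl _)).comap_subtype.toSylow ?_, rfl⟩
      intro hd
      refine S.not_dvd_index (hd.trans ?_)
      change (S : Subgroup G).relIndex T ∣ _
      rw [← relIndex_sup]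
      exact relIndex_dvd_index_of_le le_sup_left
    have hPne : (P : Subgroup T) ≠ ⊥ := by
      intro e
      apply hTns
      refine S0205.result ?_
      have := P.not_dvd_index
      rw [e, index_bot] at this
      exact Nat.odd_iff.2 (Nat.two_dvd_ne_zero.1 this)
    have hSTne : (S : Subgroup G) ⊓ T ≠ ⊥ := fun e => hPne (by
      rw [hP, subgroupOf_eq_bot, disjoint_iff]; exact e)
    -- `G = T M`
    have hsup : T ⊔ M = ⊤ := by
      rw [eq_top_iff]
      intro g _
      obtain ⟨t, ht⟩ : ∃ t : T, (t : G) * g ∈ normalizer (((S : Subgroup G) ⊓ T : Subgroup G) : Set G) := by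
        have := Sylow.normalizer_sup_eq_top P
        have hg : g ∈ normalizer ((((P : Subgroup T).map T.subtype : Subgroup G)) : Set G) ⊔ T := by
          rw [this]; trivial
        rw [sup_comm] at hg
        obtain ⟨t, ht, n, hn', rfl⟩ := (mem_sup_of_normal_left).1 hg
        refine ⟨⟨t⁻¹, inv_mem ht⟩, ?_⟩
        rw [hP, subgroupOf_map_subtype] at hn'
        simpa using hn'
      have hmem : (t : G) * g ∈ M := by
        by_contra hc
        apply hSTne
        rw [eq_bot_iff, ← hTI _ hc]
        refine le_inf (inf_le_left.trans hSF) fun y hy => ?_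
        rw [mem_conj]
        exact hSF ((mem_normalizer_iff''.1 ht y).1 hy).1
      have : g = (t : G)⁻¹ * ((t : G) * g) := by group
      rw [this]
      exact mul_mem (mem_sup_left (inv_mem t.2)) (mem_sup_right hmem)
    -- an element of `T ∩ M` outside `F M`
    obtain ⟨k, hk, hkF⟩ : ∃ k ∈ T ⊓ M, k ∉ F M := by
      by_contra hcon
      push Not at hcon
      let H : Subgroup T := M.subgroupOf T
      have hH : Cfsg.IsFrobeniusComplement H := by
        refine ⟨?_, ?_, ?_⟩
        · intro e
          apply hSTne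
          rw [eq_bot_iff]
          rintro x ⟨hx, hxT⟩
          have : (⟨x, hxT⟩ : T) ∈ H := mem_subgroupOf.2 (hSM hx)
          rw [e, mem_bot] at this
          exact mem_bot.2 (congrArg Subtype.val this)
        · intro e
          apply hTns
          haveI := hM.1
          have hle' : T ≤ M := subgroupOf_eq_top.1 e
          exact Group.isSolvable_of_isSolvable_injective (f := inclusion hle')
            (inclusion_injective hle')
        · intro g hg
          rw [eq_bot_iff]
          rintro ⟨x, hxT⟩ ⟨hx1, hx2⟩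
          have hx2' := (mem_pointwise_smul_iff_inv_smul_mem).1 hx2
          simp only [MulAut.smul_def, MulAut.inv_def, MulAut.conj_symm_apply] at hx2'
          have hgM : (g : G) ∉ M := fun hc => hg (mem_subgroupOf.2 hc)
          have : x ∈ F M ⊓ (MulAut.conj (g : G) • F M) :=
            mem_inf.2 ⟨hcon x (mem_inf.2 ⟨hxT, hx1⟩), mem_conj.2 (hcon _ (mem_inf.2 ⟨mul_mem (mul_mem (inv_mem g.2) hxT) g.2, hx2'⟩))⟩
          rw [hTI _ hgM, mem_bot] at this
          exact mem_bot.2 (Subtype.ext this)
      have hodd : Odd H.index := by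
        rw [Nat.odd_iff, ← Nat.two_dvd_ne_zero]
        intro hd
        refine P.not_dvd_index (hd.trans (index_dvd_of_le ?_))
        rw [hP]
        exact fun x hx => hSM hx
      obtain ⟨K, hK, hKn, hKodd, hKne⟩ := odd_kernel hH hodd
      apply hKne
      have hKG : (K.map T.subtype).Normal := by
        constructor
        rintro _ ⟨x, hx, rfl⟩ g
        have hxK : x ∈ Cfsg.frobeniusKernel H := hK ▸ hx
        refine ⟨⟨g * x * g⁻¹, hTn.conj_mem _ x.2 g⟩, ?_, rfl⟩
        change _ ∈ (K : Set T)
        rw [hK]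
        rcases hxK with rfl | hxK
        · exact Or.inl (Subtype.ext (by simp))
        refine Or.inr fun w hw => ?_
        have hw' := (mem_pointwise_smul_iff_inv_smul_mem).1 hw
        simp only [MulAut.smul_def, MulAut.inv_def, MulAut.conj_symm_apply] at hw'
        obtain ⟨t, ht, m, hm, htm⟩ := (mem_sup_of_normal_left).1 (hsup.ge (mem_top ((w : G)⁻¹ * g)))
        have hw'' : (w : G)⁻¹ * (g * x * g⁻¹) * w ∈ M := hw'
        have ht' : m⁻¹ * t * m ∈ T := by simpa using hTn.conj_mem t ht m⁻¹
        refine hxK ⟨(m⁻¹ * t * m)⁻¹, inv_mem ht'⟩ ?_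
        refine (mem_pointwise_smul_iff_inv_smul_mem).2 ?_
        simp only [MulAut.smul_def, MulAut.inv_def, MulAut.conj_symm_apply]
        change ((m⁻¹ * t * m)⁻¹)⁻¹ * (x : G) * (m⁻¹ * t * m)⁻¹ ∈ M
        rw [show g = (w : G) * (t * m) by rw [htm]; group] at hw''
        have := mul_mem (mul_mem (inv_mem hm) hw'') hm
        convert this using 1
        group
      have := hoddN _ hKG (by rwa [card_map_of_injective T.subtype_injective])
      rwa [map_eq_bot_iff_of_injective _ T.subtype_injective] at this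
    have hk' := mem_inf.1 hk
    have hlt : F M < M := lt_of_le_of_ne hle fun e => hkF (e.symm.le hk'.2)
    -- `F M ≤ T`
    have hFT : F M ≤ T := by
      let φ : F M → F M := fun f => ⟨k * f * k⁻¹ * (f : G)⁻¹,
        mul_mem ((mem_normalizer_iff.1 (hn hk'.2) _).1 f.2) (inv_mem f.2)⟩
      have hφ : Function.Injective φ := by
        rintro ⟨x, hx⟩ ⟨y, hy⟩ hxy
        have hxy' : k * x * k⁻¹ * x⁻¹ = k * y * k⁻¹ * y⁻¹ := congrArg Subtype.val hxy
        refine Subtype.ext (inv_mul_eq_one.1 (hfpf k hk'.2 hkF (x⁻¹ * y) (mul_mem (inv_mem hx) hy) ?_))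
        have e1 : k⁻¹ * (k * x * k⁻¹ * x⁻¹) * y = k⁻¹ * (k * y * k⁻¹ * y⁻¹) * y := by rw [hxy']
        have e2 : x * k⁻¹ * (x⁻¹ * y) = y * k⁻¹ := by
          calc x * k⁻¹ * (x⁻¹ * y) = k⁻¹ * (k * x * k⁻¹ * x⁻¹) * y := by group
            _ = _ := by rw [e1]; group
        have e3 : x * k⁻¹ * (x⁻¹ * y) = x * (x⁻¹ * y) * k⁻¹ := by rw [e2]; group
        have e4 : k⁻¹ * (x⁻¹ * y) = x⁻¹ * y * k⁻¹ := by
          rw [mul_assoc, mul_assoc x] at e3
          exact mul_left_cancel e3
        calc x⁻¹ * y * k = k * (k⁻¹ * (x⁻¹ * y)) * k := by group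
          _ = k * (x⁻¹ * y * k⁻¹) * k := by rw [e4]
          _ = k * (x⁻¹ * y) := by group
      intro f hf
      obtain ⟨⟨x, hx⟩, hxf⟩ := (Finite.injective_iff_surjective.1 hφ) ⟨f, hf⟩
      have hxf' : k * x * k⁻¹ * x⁻¹ = f := congrArg Subtype.val hxf
      rw [← hxf']
      rw [show k * x * k⁻¹ * x⁻¹ = k * (x * k⁻¹ * x⁻¹) by group]
      exact mul_mem hk'.1 (hTn.conj_mem _ (inv_mem hk'.1) x)
    refine ⟨?_, hlt⟩
    -- `T ∩ M` is strongly embedded in `T`, so `M ≤ T`
    have hinvF : ∀ u ∈ M, orderOf u = 2 → u ∈ F M := by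
      intro u hu hu2
      haveI : ((F M).subgroupOf M).Normal := normal_subgroupOf_of_le_normalizer hn
      have hdvd : ¬ 2 ∣ ((F M).subgroupOf M).index := fun hd =>
        S.not_dvd_index (hd.trans ((relIndex_dvd_of_le_left _ hSF).trans
          (relIndex_dvd_index_of_le hSM)))
      by_contra huF
      apply hdvd
      have h1 : orderOf (QuotientGroup.mk' ((F M).subgroupOf M) ⟨u, hu⟩) ∣ 2 := by
        refine (orderOf_map_dvd _ _).trans ?_
        rw [orderOf_mk, hu2]
      have h2 : orderOf (QuotientGroup.mk' ((F M).subgroupOf M) ⟨u, hu⟩) ≠ 1 := fun e => huF (by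
        rw [orderOf_eq_one_iff, QuotientGroup.mk'_apply, QuotientGroup.eq_one_iff] at e
        exact mem_subgroupOf.1 e)
      rw [index]
      exact ((Nat.dvd_prime Nat.prime_two).1 h1 |>.resolve_left h2) ▸ orderOf_dvd_natCard _
    have hse : Cfsg.IsStronglyEmbedded (M.subgroupOf T) := by
      refine ⟨fun e => hTns ?_, ?_, fun g hg => ?_⟩
      · haveI := hM.1
        exact Group.isSolvable_of_isSolvable_injective (f := inclusion (subgroupOf_eq_top.1 e))
          (inclusion_injective _)
      · have h2 : 2 ∣ Nat.card (P : Subgroup T) := by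
          obtain ⟨j, hj⟩ := IsPGroup.iff_card.1 P.2
          rcases j with _ | j
          · exact absurd (card_eq_one.1 (by simpa using hj)) hPne
          · rw [hj]; exact dvd_pow_self 2 (by omega)
        exact even_iff_two_dvd.2 (h2.trans (card_dvd_of_le (by rw [hP]; exact fun x hx => hSM hx)))
      · rw [← Nat.not_even_iff_odd, even_iff_two_dvd]
        intro hd
        obtain ⟨⟨u, hu1, hu2⟩, hu⟩ := exists_prime_orderOf_dvd_card' 2 hd
        replace hu : orderOf u = 2 := by rw [← hu]; exact (orderOf_mk _ _).symm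
        obtain ⟨v, hv, hvu⟩ := hu2
        have huo : orderOf (u : G) = 2 := by rw [← hu, orderOf_coe]
        have hvo : orderOf (v : G) = 2 := by
          rw [orderOf_coe, ← orderOf_injective (MulAut.conj g).toMonoidHom (MulAut.conj g).injective v]
          exact (congrArg orderOf hvu).trans hu
        have hgM : (g : G) ∉ M := fun hc => hg (mem_subgroupOf.2 hc)
        have hvu' : (g : G) * v * (g : G)⁻¹ = u := congrArg Subtype.val hvu
        have hb : (u : G) ∈ F M ⊓ (MulAut.conj (g : G) • F M) :=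
          mem_inf.2 ⟨hinvF _ hu1 huo, hvu' ▸ conj_mem_conj (hinvF _ hv hvo)⟩
        rw [hTI _ hgM, mem_bot] at hb
        rw [hb, orderOf_one] at huo
        omega
    have hMT : M ≤ T := by
      intro m hm
      obtain ⟨z, hz, hz1⟩ := (bot_or_exists_ne_one _).resolve_left hSTne
      haveI : Nontrivial ((S : Subgroup G) ⊓ T : Subgroup G) := (nontrivial_iff_ne_bot _).2 hSTne
      obtain ⟨⟨u, huS, huT⟩, hu⟩ := exists_prime_orderOf_dvd_card' (G := ((S : Subgroup G) ⊓ T : Subgroup G)) 2 (by
        obtain ⟨j, hj⟩ := IsPGroup.iff_card.1 (S.2.to_le (inf_le_left (b := T)))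
        rcases j with _ | j
        · exact absurd (card_eq_one.1 (by simpa using hj)) hSTne
        · rw [hj]; exact dvd_pow_self 2 (by omega))
      replace hu : orderOf u = 2 := by rw [← hu]; exact (orderOf_mk _ _).symm
      let s : T := ⟨u, huT⟩
      let t : T := ⟨m * u * m⁻¹, hTn.conj_mem u huT m⟩
      have hs2 : orderOf s = 2 := by rw [← orderOf_coe]; exact hu
      have ht2 : orderOf t = 2 := by
        rw [← orderOf_coe, ← hu]; exact orderOf_conj' m u
      obtain ⟨d, hd⟩ := isConj_iff.1 (SignalizerStrongEmb.isConj_involutions hse hs2 ht2)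
      have hd' : (d : G) * u * (d : G)⁻¹ = m * u * m⁻¹ := congrArg Subtype.val hd
      have hu1 : u ≠ 1 := fun e => by rw [e, orderOf_one] at hu; omega
      have hc : (d : G)⁻¹ * m ∈ centralizer ({u} : Set G) := by
        rw [mem_centralizer_singleton_iff]
        calc (d : G)⁻¹ * m * u = (d : G)⁻¹ * (m * u * m⁻¹) * m := by group
          _ = u * ((d : G)⁻¹ * m) := by rw [← hd']; group
      have := hFT (cent_le h hM (hSF huS) hu1 hc)
      simpa using mul_mem d.2 this
    exact eq_top_iff.2 (hsup.ge.trans (sup_le le_rfl hMT))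
  haveI : Nontrivial G := not_subsingleton_iff_nontrivial.1 fun hs =>
    hns (Group.isSolvable_of_comm fun a b => Subsingleton.elim _ _)
  have hlt : F M < M := (hT ⊤ inferInstance top_ne_bot).2
  haveI hsimple : IsSimpleGroup G :=
    { eq_bot_or_eq_top_of_normal := fun T hTn => (em (T = ⊥)).imp id fun hne => (hT T hTn hne).1 }
  refine ⟨hsimple, M, hM, hNorm, hMtop, hlt, ?_, S, hSF, hS1⟩
  -- nilpotency: an element of prime order outside `F M` acts fixed-point-freely
  obtain ⟨m, hm, hmF⟩ := SetLike.exists_of_lt hlt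
  have hex : ∃ o, ∃ a ∈ M, a ∉ F M ∧ orderOf a = o := ⟨_, m, hm, hmF, rfl⟩
  obtain ⟨a, ha, haF, hao⟩ := Nat.find_spec hex
  obtain ⟨r, hr, hrd⟩ := Nat.exists_prime_and_dvd (n := orderOf a)
    (fun e => haF (by rw [orderOf_eq_one_iff] at e; rw [e]; exact one_mem _))
  have har : a ^ r ∈ F M := by
    by_contra hc
    refine Nat.find_min hex ?_ ⟨a ^ r, pow_mem ha r, hc, rfl⟩
    rw [← hao, orderOf_pow_of_dvd hr.ne_zero hrd]
    exact Nat.div_lt_self (orderOf_pos a) hr.one_lt
  have har1 : a ^ r = 1 := hfpf a ha haF _ har ((Commute.refl a).pow_left r).eq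
  haveI := Fact.mk hr
  haveI : ((F M).subgroupOf M).Normal := normal_subgroupOf_of_le_normalizer hn
  have hnil : Group.IsNilpotent ((F M).subgroupOf M) := by
    refine FrobeniusNilpotent.isNilpotent_of_complement (H := zpowers (⟨a, ha⟩ : M))
      (fun e => haF ?_) fun b hb hb1 => ?_
    · rw [zpowers_eq_bot] at e
      have : a = 1 := congrArg Subtype.val e
      rw [this]
      exact one_mem _
    · rw [eq_bot_iff]
      rintro x ⟨hx, hxc⟩
      have hao' : orderOf (⟨a, ha⟩ : M) = r := by
        rw [orderOf_mk]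
        exact orderOf_eq_prime har1 fun e => haF (by rw [e]; exact one_mem _)
      have hgen : (⟨a, ha⟩ : M) ∈ zpowers b := by
        rw [mem_zpowers_iff_mem_range_orderOf] at hb
        obtain ⟨i, hi, rfl⟩ := Finset.mem_image.1 hb
        rw [Finset.mem_range, hao'] at hi
        have hi0 : i ≠ 0 := fun e => hb1 (by simp [e])
        have hco : Nat.Coprime (orderOf (⟨a, ha⟩ : M)) i := by
          rw [hao']
          exact (Nat.Prime.coprime_iff_not_dvd hr).2 fun hd =>
            absurd (Nat.le_of_dvd (Nat.pos_of_ne_zero hi0) hd) (by omega)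
        obtain ⟨j, hj⟩ := exists_pow_eq_self_of_coprime hco.symm
        exact ⟨(j : ℤ), by simpa using hj⟩
      obtain ⟨j, hj⟩ := hgen
      have hcomm : Commute (x : G) (b : G) := by
        have := congrArg Subtype.val (mem_centralizer_singleton_iff.1 hxc)
        exact this
      have hj' : (b : G) ^ j = a := congrArg Subtype.val hj
      refine mem_bot.2 (Subtype.ext (hfpf a ha haF x hx ?_))
      rw [← hj']
      exact (hcomm.zpow_right j).eq
  haveI := hnil
  let eF : (F M).subgroupOf M ≃* F M := subgroupOfEquivOfLe hle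
  exact Group.nilpotent_of_surjective eF.toMonoidHom eF.surjective

end Cfsg.Agent.CNTypeSetup7
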