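import Cfsg.Agent.Lib.CaminaSizes63Base
import Cfsg.Agent.S4034

/-!
# Class sizes `1, p^a, q^b, p^a * q^b`: no `p`-element of class size `p^a` and no `q`-element of
class size `q^b` is impossible
-/

set_option autoImplicit false

namespace Cfsg.Agent.CaminaSizes63

open Cfsg.Agent.ClassSizeGraph76 (cs cls)
open Cfsg.Agent.TwoRegSizes38 (Cn IsPE mem_cn self_mem_cn)

universe u

variable {G : Type u} [Group G] {p q n m : ℕ}

/-- The bad case. -/
structure NG (G : Type u) [Group G] (p q n m : ℕ) : Prop where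
  P : PP G p q n m
  noP : ∀ x : G, IsPE p x → cs x ≠ n
  noQ : ∀ y : G, IsPE q y → cs y ≠ m

namespace NG

theorem symm (N : NG G p q n m) : NG G q p m n := ⟨N.P.symm, N.noQ, N.noP⟩

variable [Finite G]

theorem cases_q (N : NG G p q n m) {w : G} (hw : IsPE q w) (hwc : w ∉ Subgroup.center G) :
    cs w = n ∨ cs w = n * m := by
  rcases N.P.D.cases_of_not_center hwc with e | e | e
  · exact Or.inl e
  · exact absurd e (N.noQ w hw)
  · exact Or.inr e

theorem cases_p (N : NG G p q n m) {w : G} (hw : IsPE p w) (hwc : w ∉ Subgroup.center G) :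
    cs w = m ∨ cs w = n * m := by
  rcases N.P.D.cases_of_not_center hwc with e | e | e
  · exact absurd e (N.noP w hw)
  · exact Or.inl e
  · exact Or.inr e

theorem exists_x (N : NG G p q n m) : ∃ x : G, IsPE q x ∧ cs x = n := by
  obtain ⟨r, x, hr, hx, hxn⟩ := N.P.D.exists_part
  by_cases hrq : r = q
  · subst hrq; exact ⟨x, hx, hxn⟩
  by_cases hrp : r = p
  · subst hrp; exact absurd hxn (N.noP x hx)
  exact absurd (N.P.others hr hrp hrq hx) (N.P.D.not_center_of_n hxn)

/-- The centralizer of a `q`-element of class size `n` has noncentral `p`-elements. -/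
theorem not_full (N : NG G p q n m) {x : G} (hxn : cs x = n) : ¬ Full p x := by
  intro hf
  obtain ⟨y, hy, hym⟩ := N.symm.exists_x
  have hfn : ¬ Full q y := by
    intro hfy
    obtain ⟨g, hg⟩ := N.P.D.exnm
    refine N.P.D.not_center_of_nm hg (mem_of_parts fun r k hr hpe => ?_)
    have hgk : g ^ k ∈ Cn g := mem_cn.2 (Commute.self_pow g k).symm
    by_cases hrp : r = p
    · subst hrp
      exact mem_center_of_full hr (full_of_dvd (by rw [hxn, hg]; exact dvd_mul_right n m) hf) hgk hpe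
    by_cases hrq : r = q
    · subst hrq
      exact mem_center_of_full hr (full_of_dvd (by rw [hym, hg]; exact dvd_mul_left m n) hfy) hgk hpe
    exact N.P.others hr hrp hrq hpe
  obtain ⟨v, hv, hvc, hve⟩ := exists_of_not_full N.P.hq hfn
  have hC : Cn (y * v) = Cn y ⊓ Cn v := cn_mul_isPE N.P.hp N.P.hq N.P.hne hy hve hv
  have hd : n ∣ cs (y * v) := by
    refine dvd_trans ?_ (cs_dvd_of_le (hC ▸ inf_le_right))
    rcases N.cases_q hve hvc with e | e <;> rw [e]
    exact dvd_mul_right n m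
  have hyy : y ∈ Cn (y * v) := by
    rw [hC]; exact ⟨self_mem_cn y, mem_cn_symm hv⟩
  exact N.P.D.symm.not_center_of_n hym
    (mem_center_of_full N.P.hp (full_of_dvd (hxn ▸ hd) hf) hyy hy)

/-- Two `p`-elements generating a `p`-group inside `C(x)` commute. -/
theorem comm_in_cn (N : NG G p q n m) {x : G} (hx : IsPE q x) (hxn : cs x = n) {U : Subgroup G}
    (hU : IsPGroup p U) (hUx : U ≤ Cn x) {a b : G} (ha : a ∈ U) (hb : b ∈ U) :
    a * b = b * a := by
  haveI : Fact p.Prime := ⟨N.P.hp⟩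
  have hreg : ∀ v : Cn x, (orderOf v).Coprime q →
      ∃ k : ℕ, (ConjClasses.mk v).carrier.ncard = q ^ k := by
    intro v hv
    rw [S4034.ncard_class, index_cn_subgroup]
    obtain ⟨j, hj⟩ := hx
    rcases N.P.D.rel_cases hxn (cn_mul (mem_cn.1 v.2).symm
        (by rw [hj, Subgroup.orderOf_coe]; exact (hv.pow_right j).symm)) with e | e <;> rw [e]
    · exact ⟨0, (pow_zero q).symm⟩
    · exact N.P.hm
  obtain ⟨K, hKc, -, k, hk⟩ := (S4034.result N.P.hq).1 hreg
  obtain ⟨S, hS⟩ := ClassSizeGraph76.exists_sylow_le (p := p) (H := K) (by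
    rw [hk]; exact fun h => N.P.hne ((Nat.prime_dvd_prime_iff_eq N.P.hp N.P.hq).1
      (N.P.hp.dvd_of_dvd_pow h)))
  have hU' : IsPGroup p (U.subgroupOf (Cn x)) :=
    hU.of_equiv (Subgroup.subgroupOfEquivOfLe hUx).symm
  obtain ⟨S', hS'⟩ := hU'.exists_le_sylow
  obtain ⟨g, hg⟩ := MulAction.exists_smul_eq (Cn x) S' S
  have hmem : ∀ c : Cn x, (c : G) ∈ U → g * c * g⁻¹ ∈ K := by
    intro c hc
    refine hS ?_
    rw [← hg, Sylow.coe_subgroup_smul]
    exact ⟨c, hS' (Subgroup.mem_subgroupOf.2 hc), rfl⟩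
  have h1 := congrArg Subtype.val (hKc.is_comm.comm ⟨_, hmem ⟨a, hUx ha⟩ ha⟩ ⟨_, hmem ⟨b, hUx hb⟩ hb⟩)
  have h2 : (⟨a, hUx ha⟩ : Cn x) * ⟨b, hUx hb⟩ = ⟨b, hUx hb⟩ * ⟨a, hUx ha⟩ := by
    simpa [mul_assoc] using congrArg (fun z => g⁻¹ * z * g) h1
  exact congrArg Subtype.val h2

/-- An element of other prime power order in `C(u)`, `u` of class size `n * m`, is central there. -/
theorem cn_le_of_mem (N : NG G p q n m) {u : G} (hu : IsPE p u) (hun : cs u = n * m) {w : G}
    (hw : IsPE q w) (hwu : w ∈ Cn u) : Cn u ≤ Cn w := by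
  have hC : Cn (u * w) = Cn u ⊓ Cn w := cn_mul_isPE N.P.hp N.P.hq N.P.hne hu hw hwu
  rw [← N.P.D.cn_eq_of_nm (hC ▸ inf_le_left) hun, hC]
  exact inf_le_right

/-- The centralizer of a `p`-element of class size `n * m` lies in that of a `q`-element of class
size `n`. -/
theorem exists_x_of_nm (N : NG G p q n m) {u : G} (hu : IsPE p u) (hun : cs u = n * m) :
    ∃ x : G, IsPE q x ∧ cs x = n ∧ Cn u ≤ Cn x := by
  obtain ⟨y, -, hym⟩ := N.symm.exists_x
  have hnf : ¬ Full q u := fun hf => N.symm.not_full hym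
    (full_of_mul N.P.hq (c := n) (by rw [hun, hym, mul_comm]) N.P.not_q_dvd_n hf)
  obtain ⟨w, hwu, hwc, hw⟩ := exists_of_not_full N.P.hq hnf
  have hle := N.cn_le_of_mem hu hun hw hwu
  rcases N.cases_q hw hwc with e | e
  · exact ⟨w, hw, e, hle⟩
  · obtain ⟨x0, hx0, hx0n⟩ := N.exists_x
    obtain ⟨x, hx, hwx⟩ := exists_conj_comm N.P.hq hw (a := x0) (hx0n ▸ N.P.not_q_dvd_n)
    have hxe : IsPE q x := isPE_of_mem_cls hx0 hx
    have hxu : x ∈ Cn u := cn_eq_of_le hle (hun.trans e.symm) ▸ mem_cn_symm hwx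
    exact ⟨x, hxe, (cs_of_mem_cls hx).trans hx0n, N.cn_le_of_mem hu hun hxe hxu⟩

/-- The centralizer of a `p`-element of class size `n * m` is abelian. -/
theorem abelian_cn (N : NG G p q n m) {u : G} (hu : IsPE p u) (hun : cs u = n * m) {a b : G}
    (ha : a ∈ Cn u) (hb : b ∈ Cn u) : a * b = b * a := by
  haveI : Fact p.Prime := ⟨N.P.hp⟩
  obtain ⟨x, hx, hxn, hle⟩ := N.exists_x_of_nm hu hun
  let S : Sylow p (Cn u) := default
  have hother : ∀ (r : ℕ), r.Prime → r ≠ p → ∀ z : Cn u, IsPE r z → z ∈ Subgroup.center (Cn u) := by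
    intro r hr hrp z hz
    have hzG : IsPE r (z : G) := by
      obtain ⟨j, hj⟩ := hz
      exact ⟨j, by rw [Subgroup.orderOf_coe, hj]⟩
    rw [Subgroup.mem_center_iff]
    intro g
    apply Subtype.ext
    by_cases hrq : r = q
    · subst hrq
      exact mem_cn.1 (N.cn_le_of_mem hu hun hzG z.2 g.2)
    · exact Subgroup.mem_center_iff.1 (N.P.others hr hrp hrq hzG) g
  have hSc : (S : Subgroup (Cn u)) ≤ Subgroup.center (Cn u) := by
    have htop : Subgroup.centralizer ((S : Subgroup (Cn u)) : Set (Cn u)) = ⊤ := by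
      refine ClassSizeGraph76.eq_top_of_sylow_le _ fun r hr _ => ?_
      by_cases hrp : r = p
      · subst hrp
        refine ⟨S, fun z hz => Subgroup.mem_centralizer_iff.2 fun w hw => ?_⟩
        apply Subtype.ext
        exact N.comm_in_cn hx hxn (S.2.map (Cn u).subtype)
          ((Subgroup.map_subtype_le _).trans hle) ⟨w, hw, rfl⟩ ⟨z, hz, rfl⟩
      · let R : Sylow r (Cn u) := default
        refine ⟨R, fun z hz => Subgroup.mem_centralizer_iff.2 fun w _ => ?_⟩
        exact Subgroup.mem_center_iff.1 (hother r hr hrp z (IsPE.of_mem_pgroup R.2 hz)) w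
    intro z hz
    rw [Subgroup.mem_center_iff]
    intro g
    exact ((Subgroup.mem_centralizer_iff.1 (htop ▸ Subgroup.mem_top g)) z hz).symm
  have hall : ∀ g : Cn u, g ∈ Subgroup.center (Cn u) := by
    intro g
    refine mem_of_parts fun r k hr hz => ?_
    by_cases hrp : r = p
    · subst hrp
      obtain ⟨c, hc⟩ := exists_conj_mem hr hz S.not_dvd_index
      have := (inferInstance : (Subgroup.center (Cn u)).Normal).conj_mem _ (hSc hc) c⁻¹
      simpa [mul_assoc] using this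
    · exact hother r hr hrp _ hz
  exact congrArg Subtype.val (Subgroup.mem_center_iff.1 (hall ⟨b, hb⟩) ⟨a, ha⟩)

theorem cn_le_of_mem_nm (N : NG G p q n m) {u : G} (hu : IsPE p u) (hun : cs u = n * m) {c : G}
    (hc : c ∈ Cn u) : Cn u ≤ Cn c :=
  cn_le_iff.2 fun _ hg => N.abelian_cn hu hun hg hc

/-- A `p`-element of class size `m` commuting with all `q`-elements of class size `n` is in `O_p`. -/
theorem mem_core_of_universal (N : NG G p q n m) {y : G} (hy : IsPE p y) (hym : cs y = m)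
    (huniv : ∀ x : G, IsPE q x → cs x = n → x ∈ Cn y) : y ∈ Cfsg.pCore p G := by
  haveI : Fact q.Prime := ⟨N.P.hq⟩
  haveI : Fact p.Prime := ⟨N.P.hp⟩
  refine N.P.mem_core hy (N.P.core_le_cn hym) ?_
  set R := Cfsg.pCore q G with hR
  have hRq : IsPGroup q R := HallCore.isPGroup_pCore q G
  have hnm' : ∀ r : G, cs r = n * m → cs r = m * n := fun r h => h.trans (mul_comm n m)
  by_cases hex : ∃ r ∈ R, cs r = n * m
  · obtain ⟨r, hrR, hrn⟩ := hex
    have hre : IsPE q r := IsPE.of_mem_pgroup hRq hrR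
    obtain ⟨x0, hx0, hx0n⟩ := N.exists_x
    obtain ⟨x, hx, hrx⟩ := exists_conj_comm N.P.hq hre (a := x0) (hx0n ▸ N.P.not_q_dvd_n)
    have hxe : IsPE q x := isPE_of_mem_cls hx0 hx
    have hxn : cs x = n := (cs_of_mem_cls hx).trans hx0n
    have hle : Cn r ≤ Cn x :=
      N.symm.cn_le_of_mem_nm hre (hnm' r hrn) (mem_cn_symm hrx)
    have hyx : y ∈ Cn x := mem_cn_symm (huniv x hxe hxn)
    have hidx : ((Cn r).subgroupOf (Cn x)).index = m := by
      have h := Subgroup.relIndex_mul_index hle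
      rw [show (Cn r).index = cs r from rfl, show (Cn x).index = cs x from rfl, hrn, hxn,
        mul_comm n m] at h
      exact Nat.eq_of_mul_eq_mul_right (zero_lt_one.trans N.P.D.one_lt_n) h
    obtain ⟨j, hj⟩ := hy
    obtain ⟨k, hk⟩ := exists_conj_mem N.P.hp (z := (⟨y, hyx⟩ : Cn x))
      ⟨j, by rw [Subgroup.orderOf_mk, hj]⟩ (H := (Cn r).subgroupOf (Cn x))
      (hidx ▸ N.P.symm.not_q_dvd_n)
    have hk' : (k : G) * y * (k : G)⁻¹ ∈ Cn r := by simpa [Subgroup.mem_subgroupOf] using hk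
    set r0 := (k : G)⁻¹ * r * ((k : G)⁻¹)⁻¹ with hr0
    have hyr0 : y ∈ Cn r0 := by
      have := (TwoRegSizes38.conj_mem_cn (x := r) (k : G)⁻¹).2 hk'
      simpa [hr0, mul_assoc] using this
    have hr0R : r0 ∈ R := Subgroup.Normal.conj_mem inferInstance r hrR _
    have hr0n : cs r0 = n * m := (ClassSizeGraph76.cs_conj r _).trans hrn
    refine le_cn_of_self_centralizing N.P.hp N.P.hq N.P.hne hRq ⟨j, hj⟩ fun z hz h => ?_
    have hzr : z ∈ Cn r0 := mem_cn.2 (h r0 hr0R (mem_cn_symm hyr0))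
    exact mem_cn.2 (N.symm.abelian_cn (IsPE.of_mem_pgroup hRq hr0R) (hnm' r0 hr0n) hzr hyr0)
  · intro r hr
    by_cases hrc : r ∈ Subgroup.center G
    · exact mem_cn.2 (Subgroup.mem_center_iff.1 hrc y).symm
    · rcases N.cases_q (IsPE.of_mem_pgroup hRq hr) hrc with e | e
      · exact huniv r (IsPE.of_mem_pgroup hRq hr) e
      · exact absurd ⟨r, hr, e⟩ hex

/-- If `m < n`, every `p`-element of class size `m` is in `O_p`. -/
theorem mem_core_of_cs (N : NG G p q n m) (hlt : m < n) {y : G} (hy : IsPE p y) (hym : cs y = m) :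
    y ∈ Cfsg.pCore p G := by
  by_cases huniv : ∀ x : G, IsPE q x → cs x = n → x ∈ Cn y
  · exact N.mem_core_of_universal hy hym huniv
  push Not at huniv
  obtain ⟨x, -, hxn, hxy⟩ := huniv
  haveI : Fact p.Prime := ⟨N.P.hp⟩
  have hco : (cs x).Coprime (cs y) := N.P.D.coprime_cs hxn hym
  have hge := ClassSizeGraph76.left_le_cs_mul hco
  rw [hxn] at hge
  have heq : cs (x * y) = n := by
    rcases N.P.D.vals (x * y) with e | e | e | e
    · have := N.P.D.one_lt_n; omega
    · exact e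
    · omega
    · exfalso
      have hle : Cn x ⊓ Cn y ≤ Cn (x * y) := fun g hg =>
        mem_cn.2 (Commute.mul_right (mem_cn.1 hg.1) (mem_cn.1 hg.2))
      have h1 := Subgroup.relIndex_mul_index hle
      rw [ClassSizeGraph76.index_inf_eq hco, show (Cn (x * y)).index = cs (x * y) from rfl, e, hxn,
        hym] at h1
      have hpos : 0 < n * m :=
        Nat.mul_pos (zero_lt_one.trans N.P.D.one_lt_n) (zero_lt_one.trans N.P.D.one_lt_m)
      have h2 : Cn (x * y) ≤ Cn x ⊓ Cn y :=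
        Subgroup.relIndex_eq_one.1 (Nat.eq_of_mul_eq_mul_right hpos (h1.trans (one_mul _).symm))
      have h3 := mem_cn.1 (h2 (self_mem_cn (x * y))).1
      apply hxy
      rw [mem_cn]
      rw [mul_assoc] at h3
      exact (mul_left_cancel h3).symm
  set Y := cls y with hY
  have hconj : ∀ z ∈ Y, ∀ g : G, g * z * g⁻¹ ∈ Y := fun z hz g => ClassSizeGraph76.conj_mem_cls g hz
  have hhyp : ∀ b ∈ Y, (cs x).Coprime (cs b) ∧ cs (x * b) ≤ cs x := by
    intro b hb
    refine ⟨cs_of_mem_cls hb ▸ hco, le_of_eq ?_⟩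
    rw [cs_of_mem_cls (ClassSizeGraph76.image_mul_subset hco hb
      ⟨x, ClassSizeGraph76.self_mem_cls x, rfl⟩), heq, hxn]
  have hcomm := ClassSizeGraph76.closure_comm hconj hhyp
  have hpe : ∀ z ∈ Subgroup.closure Y, ∃ k : ℕ, z ^ p ^ k = 1 := by
    intro z hz
    induction hz using Subgroup.closure_induction with
    | mem z hz =>
      obtain ⟨j, hj⟩ := isPE_of_mem_cls hy hz
      exact ⟨j, hj ▸ pow_orderOf_eq_one z⟩
    | one => exact ⟨0, by simp⟩
    | mul a b ha hb iha ihb =>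
      obtain ⟨i, hi⟩ := iha
      obtain ⟨j, hj⟩ := ihb
      refine ⟨i + j, ?_⟩
      have hab : Commute a b := Subgroup.mem_centralizer_iff.1 (hcomm hb) a ha
      rw [hab.mul_pow, pow_add, pow_mul a, hi, one_pow, mul_comm (p ^ i), pow_mul b, hj, one_pow,
        one_mul]
    | inv a _ iha =>
      obtain ⟨i, hi⟩ := iha
      exact ⟨i, by rw [inv_pow, hi, inv_one]⟩
  haveI := ClassSizeGraph76.closure_normal hconj
  have hpg : IsPGroup p (Subgroup.closure Y) := by
    rintro ⟨z, hz⟩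
    obtain ⟨k, hk⟩ := hpe z hz
    exact ⟨k, Subtype.ext (by simpa using hk)⟩
  exact HallCore.le_pCore hpg (Subgroup.subset_closure (ClassSizeGraph76.self_mem_cls y))

/-- The bad case is impossible. -/
theorem false_of_lt (N : NG G p q n m) (hlt : m < n) : False := by
  haveI : Fact p.Prime := ⟨N.P.hp⟩
  haveI : Fact q.Prime := ⟨N.P.hq⟩
  set T := Cfsg.pCore p G with hT
  set R := Cfsg.pCore q G with hR
  have hTp : IsPGroup p T := HallCore.isPGroup_pCore p G
  have hRq : IsPGroup q R := HallCore.isPGroup_pCore q G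
  -- `p`-elements centralize `R`
  have hdisj : Disjoint T R := by
    rw [disjoint_iff_inf_le]
    intro z hz
    exact Subgroup.mem_bot.2 (isPE_eq_one_or N.P.hp N.P.hq (IsPE.of_mem_pgroup hTp hz.1)
      (IsPE.of_mem_pgroup hRq hz.2) N.P.hne)
  have hRbad : ∀ y : G, IsPE p y → cs y = m → R ≤ Cn y := fun y hy hym z hz =>
    mem_cn.2 (Subgroup.commute_of_normal_of_disjoint T R inferInstance inferInstance hdisj y z
      (N.mem_core_of_cs hlt hy hym) hz).eq.symm
  have hRp : ∀ u : G, IsPE p u → R ≤ Cn u := by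
    intro u hu
    by_cases huc : u ∈ Subgroup.center G
    · exact cn_le_iff.2 fun g _ => Subgroup.mem_center_iff.1 huc g
    rcases N.cases_p hu huc with e | e
    · exact hRbad u hu e
    obtain ⟨y0, hy0, hy0m⟩ := N.symm.exists_x
    obtain ⟨y, hy, huy⟩ := exists_conj_comm N.P.hp hu (a := y0) (hy0m ▸ N.P.symm.not_q_dvd_n)
    have hym : cs y = m := (cs_of_mem_cls hy).trans hy0m
    have hle : Cn u ≤ Cn y := N.cn_le_of_mem_nm hu e (mem_cn_symm huy)
    have hRy := hRbad y (isPE_of_mem_cls hy0 hy) hym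
    have hidx : ((Cn u).subgroupOf (Cn y)).index = n := by
      have h := Subgroup.relIndex_mul_index hle
      rw [show (Cn u).index = cs u from rfl, show (Cn y).index = cs y from rfl, e, hym] at h
      exact Nat.eq_of_mul_eq_mul_right (zero_lt_one.trans N.P.D.one_lt_m) h
    have h := ClassSizeGraph76.le_of_coprime ((Cn u).subgroupOf (Cn y)) (R.subgroupOf (Cn y)) (by
      rw [hidx, Nat.card_congr (Subgroup.subgroupOfEquivOfLe hRy).toEquiv]
      obtain ⟨i, hi⟩ := IsPGroup.iff_card.1 hRq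
      rw [hi]
      exact Nat.Coprime.pow_left i ((Nat.Prime.coprime_iff_not_dvd N.P.hq).2 N.P.not_q_dvd_n))
    intro z hz
    exact Subgroup.mem_subgroupOf.1 (h ((Subgroup.mem_subgroupOf (h := ⟨z, hRy hz⟩)).2 hz))
  have hRc : R ≤ Subgroup.center G := by
    intro r hr
    by_contra hrc
    have hpr : p ∣ cs r := by
      rcases N.cases_q (IsPE.of_mem_pgroup hRq hr) hrc with e | e <;> rw [e]
      · exact N.P.p_dvd_n
      · exact N.P.p_dvd_n.mul_right m
    obtain ⟨S, -⟩ := ClassSizeGraph76.exists_sylow_le (p := p) (H := (⊤ : Subgroup G))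
      (by simp [N.P.hp.ne_one])
    refine ClassSizeGraph76.not_dvd_index_of_sylow_le S (H := Cn r) (fun z hz => ?_) hpr
    exact mem_cn_symm (hRp z (IsPE.of_mem_pgroup S.2 hz) hr)
  have hfaith : ∀ w : G, IsPE q w → T ≤ Cn w → w ∈ Subgroup.center G := fun w hw hTw =>
    hRc (N.P.symm.mem_core hw (fun z hz => mem_cn.2 (Subgroup.mem_center_iff.1 (hRc hz) w).symm) hTw)
  -- no element of `T` has class size `n * m`
  have hTnm : ∀ v ∈ T, cs v ≠ n * m := by
    intro v hv e
    obtain ⟨x, hx, hxn, hle⟩ := N.exists_x_of_nm (IsPE.of_mem_pgroup hTp hv) e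
    refine N.P.D.not_center_of_n hxn (hfaith x hx ?_)
    refine le_cn_of_self_centralizing N.P.hq N.P.hp N.P.hne.symm hTp hx fun t _ h => ?_
    exact hle (mem_cn.2 (h v hv (hle (self_mem_cn v))))
  have hTab : ∀ s ∈ T, ∀ t ∈ T, s * t = t * s := by
    intro s hs t ht
    by_cases htc : t ∈ Subgroup.center G
    · exact Subgroup.mem_center_iff.1 htc s
    rcases N.cases_p (IsPE.of_mem_pgroup hTp ht) htc with e | e
    · exact mem_cn.1 (N.P.core_le_cn e hs)
    · exact absurd e (hTnm t ht)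
  -- the commutator map of a `q`-element on `T`
  have key : ∀ x : G, IsPE q x → cs x = n → ∃ E : Subgroup G, E ≤ T ∧ E ≠ ⊥ ∧
      (∀ e ∈ E, e ∈ Cn x → e = 1) ∧
      (∀ g : G, g ∈ Cn x → ∀ e ∈ E, g * e * g⁻¹ ∈ E) := by
    intro x hx hxn
    have hval : ∀ t : T, x * (t : G) * x⁻¹ * (t : G)⁻¹ ∈ T := fun t =>
      T.mul_mem (Subgroup.Normal.conj_mem inferInstance _ t.2 x) (T.inv_mem t.2)
    let φ : T →* G := MonoidHom.mk' (fun t => x * (t : G) * x⁻¹ * (t : G)⁻¹) (by
      intro s t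
      simp only [Subgroup.coe_mul]
      have h1 := hTab (s : G)⁻¹ (T.inv_mem s.2) (x * (t : G) * x⁻¹ * (t : G)⁻¹) (hval t)
      calc x * ((s : G) * t) * x⁻¹ * ((s : G) * t)⁻¹
          = x * (s : G) * x⁻¹ * ((x * (t : G) * x⁻¹ * (t : G)⁻¹) * (s : G)⁻¹) := by group
        _ = x * (s : G) * x⁻¹ * ((s : G)⁻¹ * (x * (t : G) * x⁻¹ * (t : G)⁻¹)) := by rw [h1]
        _ = x * (s : G) * x⁻¹ * (s : G)⁻¹ * (x * (t : G) * x⁻¹ * (t : G)⁻¹) := by group)
    refine ⟨φ.range, ?_, ?_, ?_, ?_⟩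
    · rintro _ ⟨t, rfl⟩; exact hval t
    · intro hb
      refine N.P.D.not_center_of_n hxn (hfaith x hx fun t ht => mem_cn.2 ?_)
      have : φ ⟨t, ht⟩ = 1 := Subgroup.mem_bot.1 (hb ▸ ⟨_, rfl⟩)
      have h1 : x * t * x⁻¹ * t⁻¹ = 1 := this
      rw [mul_inv_eq_one, mul_inv_eq_iff_eq_mul] at h1
      exact h1.symm
    · rintro _ ⟨⟨t, ht⟩, rfl⟩ he
      set e := x * t * x⁻¹ * t⁻¹ with hedef
      show e = 1
      have hex : x * e * x⁻¹ = e := by
        rw [← mem_cn.1 (show e ∈ Cn x from he), mul_inv_cancel_right]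
      have hiter : ∀ i : ℕ, x ^ i * t * (x ^ i)⁻¹ = e ^ i * t := by
        intro i
        induction i with
        | zero => simp
        | succ i ih =>
          have hei : x * e ^ i * x⁻¹ = e ^ i := by rw [← conj_pow, hex]
          calc x ^ (i + 1) * t * (x ^ (i + 1))⁻¹ = x * (x ^ i * t * (x ^ i)⁻¹) * x⁻¹ := by
                rw [pow_succ']; group
            _ = x * e ^ i * x⁻¹ * (x * t * x⁻¹) := by rw [ih]; group
            _ = e ^ (i + 1) * t := by rw [hei, pow_succ, hedef]; group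
      have h1 : e ^ orderOf x = 1 := by
        have := hiter (orderOf x)
        simpa [pow_orderOf_eq_one] using this.symm
      obtain ⟨j, hj⟩ := hx
      obtain ⟨i, -, hi⟩ := (Nat.dvd_prime_pow N.P.hq).1 (hj ▸ orderOf_dvd_of_pow_eq_one h1)
      exact isPE_eq_one_or N.P.hq N.P.hp ⟨i, hi⟩ (IsPE.of_mem_pgroup hTp (hval ⟨t, ht⟩))
        N.P.hne.symm
    · rintro g hg _ ⟨⟨t, ht⟩, rfl⟩
      refine ⟨⟨g * t * g⁻¹, Subgroup.Normal.conj_mem inferInstance t ht g⟩, ?_⟩
      show x * (g * t * g⁻¹) * x⁻¹ * (g * t * g⁻¹)⁻¹ = g * (x * t * x⁻¹ * t⁻¹) * g⁻¹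
      have h := mem_cn.1 hg
      have h' : g⁻¹ * x⁻¹ = x⁻¹ * g⁻¹ := by rw [← mul_inv_rev, ← mul_inv_rev, h]
      calc x * (g * t * g⁻¹) * x⁻¹ * (g * t * g⁻¹)⁻¹
          = (x * g) * t * (g⁻¹ * x⁻¹) * (g * t⁻¹ * g⁻¹) := by group
        _ = g * (x * t * x⁻¹ * t⁻¹) * g⁻¹ := by rw [← h, h']; group
  -- every `p`-element is in `T`
  have hPT : ∀ u : G, IsPE p u → u ∈ T := by
    intro u hu
    by_cases huc : u ∈ Subgroup.center G
    · exact N.P.mem_core hu (cn_le_iff.2 fun g _ => Subgroup.mem_center_iff.1 huc g)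
        (cn_le_iff.2 fun g _ => Subgroup.mem_center_iff.1 huc g)
    rcases N.cases_p hu huc with e | e
    · exact N.mem_core_of_cs hlt hu e
    exfalso
    obtain ⟨x, hx, hxn, hle⟩ := N.exists_x_of_nm hu e
    obtain ⟨E, hET, hEne, hEfix, hEconj⟩ := key x hx hxn
    have hux : Subgroup.zpowers u ≤ Cn x := Subgroup.zpowers_le.2 (hle (self_mem_cn u))
    letI : MulAction (Subgroup.zpowers u) E :=
      { smul := fun g e => ⟨g * e * (g : G)⁻¹, hEconj g (hux g.2) e e.2⟩
        one_smul := fun e => Subtype.ext (show (1 : G) * e * (1 : G)⁻¹ = e by group)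
        mul_smul := fun g h e => Subtype.ext
          (show (g * h : G) * e * (g * h : G)⁻¹ = g * (h * e * (h : G)⁻¹) * (g : G)⁻¹ by group) }
    obtain ⟨j, hj⟩ := id hu
    have hzg : IsPGroup p (Subgroup.zpowers u) :=
      IsPGroup.of_card (n := j) (by rw [Nat.card_zpowers, hj])
    have hEp : IsPGroup p E := hTp.to_le hET
    have hdvd : p ∣ Nat.card E := by
      obtain ⟨i, hi⟩ := IsPGroup.iff_card.1 hEp
      rw [hi]
      refine dvd_pow_self p ?_
      rintro rfl
      exact hEne (Subgroup.card_eq_one.1 (by simpa using hi))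
    obtain ⟨b, hb, hb1⟩ := hzg.exists_fixed_point_of_prime_dvd_card_of_fixed_point E hdvd
      (a := (1 : E)) (fun g => Subtype.ext (show (g : G) * (1 : G) * (g : G)⁻¹ = 1 by group))
    apply hb1
    apply Subtype.ext
    show (1 : G) = b
    refine (hEfix b b.2 (hle (mem_cn.2 ?_))).symm
    have h1 : u * (b : G) * u⁻¹ = b :=
      congrArg Subtype.val (hb ⟨u, Subgroup.mem_zpowers u⟩)
    exact (mul_inv_eq_iff_eq_mul.1 h1).symm
  -- final contradiction
  obtain ⟨x, hx, hxn⟩ := N.exists_x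
  obtain ⟨v1, hv1x, hv1c, hv1e⟩ := exists_of_not_full N.P.hp (N.not_full hxn)
  have hv1T := hPT v1 hv1e
  obtain ⟨E, hET, hEne, hEfix, hEconj⟩ := key x hx hxn
  obtain ⟨e, he1'⟩ := Subgroup.ne_bot_iff_exists_ne_one.1 hEne
  have he1 : (e : G) ≠ 1 := fun h => he1' (Subtype.ext h)
  set v := v1 * e with hvdef
  have hvT : v ∈ T := T.mul_mem hv1T (hET e.2)
  have hex : (e : G) ∉ Cn x := fun h => he1 (hEfix _ e.2 h)
  have hv1eq : v1⁻¹ * v = e := by rw [hvdef]; group
  have hvc : v ∉ Subgroup.center G := fun h => hex <|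
    hv1eq ▸ (Cn x).mul_mem ((Cn x).inv_mem hv1x) (mem_cn.2 (Subgroup.mem_center_iff.1 h x).symm)
  have hec : (e : G) ∉ Subgroup.center G := fun h =>
    hex (mem_cn.2 (Subgroup.mem_center_iff.1 h x).symm)
  have hcsT : ∀ z ∈ T, z ∉ Subgroup.center G → cs z = m := fun z hz hzc =>
    (N.cases_p (IsPE.of_mem_pgroup hTp hz) hzc).resolve_right (hTnm z hz)
  have htop : Cn x ⊔ T = ⊤ := by
    refine Subgroup.index_eq_one.1 ?_
    by_contra hne1
    obtain ⟨s, hs, hsd⟩ := Nat.exists_prime_and_dvd hne1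
    have h1 : s ∣ cs x := hsd.trans (Subgroup.index_dvd_of_le le_sup_left)
    have h2 : s ∣ T.index := hsd.trans (Subgroup.index_dvd_of_le le_sup_right)
    obtain ⟨a, rfl⟩ := N.P.hn
    rw [hxn] at h1
    have hsp : s = p := (Nat.prime_dvd_prime_iff_eq hs N.P.hp).1 (hs.dvd_of_dvd_pow h1)
    subst hsp
    let S : Sylow s G := default
    exact ClassSizeGraph76.not_dvd_index_of_sylow_le S
      (fun z hz => hPT z (IsPE.of_mem_pgroup S.2 hz)) h2
  have hle : Cn v ≤ Cn v1 := by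
    intro g hg
    refine mem_of_parts fun r k hr hw => ?_
    set w := g ^ k with hwdef
    have hwv : w ∈ Cn v := pow_mem hg k
    by_cases hrp : r = p
    · subst hrp
      exact mem_cn.2 (hTab w (hPT w hw) v1 hv1T)
    by_cases hrq : r = q
    swap
    · exact mem_cn.2 (Subgroup.mem_center_iff.1 (N.P.others hr hrp hrq hw) v1).symm
    subst hrq
    obtain ⟨c0, hc0⟩ := exists_conj_mem hr hw (H := Cn x)
      (show ¬ r ∣ (Cn x).index from (hxn ▸ N.P.not_q_dvd_n : ¬ r ∣ cs x))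
    have hc0mem : c0 ∈ ((Cn x ⊔ T : Subgroup G) : Set G) := by rw [htop]; trivial
    rw [Subgroup.mul_normal] at hc0mem
    obtain ⟨c, hc, t, ht, rfl⟩ := hc0mem
    set w' := t * w * t⁻¹ with hw'
    have hw'x : w' ∈ Cn x := by
      have : w' = c⁻¹ * (c * t * w * (c * t)⁻¹) * c := by rw [hw']; group
      rw [this]
      exact (Cn x).mul_mem ((Cn x).mul_mem ((Cn x).inv_mem hc) hc0) hc
    have htfix : ∀ z ∈ T, t⁻¹ * z * t = z ∧ t * z * t⁻¹ = z := fun z hz => by
      constructor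
      · rw [mul_assoc, hTab z hz t ht, inv_mul_cancel_left]
      · rw [hTab t ht z hz, mul_inv_cancel_right]
    have hw'v : w' * v * w'⁻¹ = v := by
      calc w' * v * w'⁻¹ = t * (w * (t⁻¹ * v * t) * w⁻¹) * t⁻¹ := by rw [hw']; group
        _ = v := by rw [(htfix v hvT).1, mem_cn.1 hwv, mul_inv_cancel_right, (htfix v hvT).2]
    set a := w' * v1 * w'⁻¹ with hadef
    set e' := w' * (e : G) * w'⁻¹ with he'def
    have hae : a * e' = v1 * e := by rw [← hvdef, ← hw'v, hvdef, hadef, he'def]; group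
    have haT : a ∈ T := Subgroup.Normal.conj_mem inferInstance v1 hv1T w'
    have hax : a ∈ Cn x := (Cn x).mul_mem ((Cn x).mul_mem hw'x hv1x) ((Cn x).inv_mem hw'x)
    have he'E : e' ∈ E := hEconj w' hw'x e e.2
    have hdiff : e' * (e : G)⁻¹ = a⁻¹ * v1 := by
      have : e' = a⁻¹ * (v1 * e) := by rw [← hae]; group
      rw [this]; group
    have h1 : a⁻¹ * v1 = 1 :=
      hdiff ▸ hEfix _ (E.mul_mem he'E (E.inv_mem e.2))
        (hdiff ▸ (Cn x).mul_mem ((Cn x).inv_mem hax) hv1x)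
    have hav : a = v1 := inv_mul_eq_one.1 h1
    rw [mem_cn]
    have h2 : w' * v1 = v1 * w' := mul_inv_eq_iff_eq_mul.1 hav
    calc w * v1 = t⁻¹ * w' * (t * v1 * t⁻¹) * t := by rw [hw']; group
      _ = t⁻¹ * (w' * v1) * t := by rw [(htfix v1 hv1T).2]; group
      _ = t⁻¹ * (v1 * w') * t := by rw [h2]
      _ = (t⁻¹ * v1 * t) * w := by rw [hw']; group
      _ = v1 * w := by rw [(htfix v1 hv1T).1]
  have heq : Cn v = Cn v1 := cn_eq_of_le hle (by rw [hcsT v hvT hvc, hcsT v1 hv1T hv1c])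
  have hle2 : Cn v ≤ Cn (e : G) := by
    intro g hg
    rw [← hv1eq, mem_cn]
    exact Commute.mul_right (Commute.inv_right (mem_cn.1 (hle hg))) (mem_cn.1 hg)
  have heq2 : Cn v = Cn (e : G) := cn_eq_of_le hle2 (by rw [hcsT v hvT hvc, hcsT _ (hET e.2) hec])
  exact hex (mem_cn_symm (heq2 ▸ heq.symm ▸ mem_cn_symm hv1x))

theorem not_exists (N : NG G p q n m) : False := by
  rcases lt_trichotomy m n with h | h | h
  · exact N.false_of_lt h
  · have := N.P.D.cop
    subst h
    exact N.P.D.one_lt_n.ne' ((Nat.coprime_self m).1 this)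
  · exact N.symm.false_of_lt h

end NG

end Cfsg.Agent.CaminaSizes63
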