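import Cfsg.Agent.Lib.CaminaSizes63Prime
import Cfsg.Agent.Lib.HallCore
import Cfsg.Agent.Lib.BGRankTwo
import Cfsg.Agent.S0009
import Cfsg.Agent.S0144

/-!
# Class sizes `1, p^a, q^b, p^a * q^b`: setup
-/

set_option autoImplicit false

namespace Cfsg.Agent.CaminaSizes63

open Cfsg.Agent.ClassSizeGraph76 (cs cls)
open Cfsg.Agent.TwoRegSizes38 (Cn IsPE mem_cn self_mem_cn)

universe u

variable {G : Type u} [Group G] {p q n m : ℕ}

/-- The hypothesis with prime power class sizes. -/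
structure PP (G : Type u) [Group G] (p q n m : ℕ) : Prop where
  hp : p.Prime
  hq : q.Prime
  hne : p ≠ q
  hn : ∃ a, n = p ^ a
  hm : ∃ b, m = q ^ b
  D : Vals G n m

/-- `p × q` lemma: a `p`-element centralizing a subgroup of a `q`-group containing its centralizer
centralizes the `q`-group. -/
theorem le_cn_of_self_centralizing [Finite G] (hp : p.Prime) (hq : q.Prime) (hne : p ≠ q)
    {R : Subgroup G} [R.Normal] (hR : IsPGroup q R) {u : G} (hu : IsPE p u)
    (h : ∀ r ∈ R, (∀ k ∈ R, k ∈ Cn u → r * k = k * r) → r ∈ Cn u) : R ≤ Cn u := by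
  by_contra hle
  haveI : Fact q.Prime := ⟨hq⟩
  haveI : Group.IsNilpotent R := hR.isNilpotent
  set K : Subgroup R := (Cn u).subgroupOf R with hK
  have hlt : K < ⊤ := lt_top_iff_ne_top.2 fun e => hle (Subgroup.subgroupOf_eq_top.1 e)
  obtain ⟨⟨r, hrR⟩, hrN, hrK⟩ := SetLike.exists_of_lt (Group.normalizerCondition_of_isNilpotent _ hlt)
  set c := r⁻¹ * (u * r * u⁻¹) with hc
  have hcR : c ∈ R := R.mul_mem (R.inv_mem hrR) (Subgroup.Normal.conj_mem ‹_› r hrR u)
  have hcu : c ∈ Cn u := by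
    refine h c hcR fun k hkR hku => ?_
    have hk' : r * k * r⁻¹ ∈ Cn u := by
      have := (Subgroup.mem_normalizer_iff.1 hrN ⟨k, hkR⟩).1
        (Subgroup.mem_subgroupOf.2 hku)
      simpa [hK, Subgroup.mem_subgroupOf] using this
    have h1 : u⁻¹ * k * u = k := by
      rw [mul_assoc, mem_cn.1 hku, inv_mul_cancel_left]
    have h2 : u * (r * k * r⁻¹) * u⁻¹ = r * k * r⁻¹ := by
      rw [← mem_cn.1 hk', mul_inv_cancel_right]
    have h3 : c * k * c⁻¹ = k := by
      calc c * k * c⁻¹ = r⁻¹ * (u * (r * (u⁻¹ * k * u) * r⁻¹) * u⁻¹) * r := by rw [hc]; group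
        _ = k := by rw [h1, h2]; group
    exact mul_inv_eq_iff_eq_mul.1 h3
  have hiter : ∀ i : ℕ, u ^ i * r * (u ^ i)⁻¹ = r * c ^ i := by
    intro i
    induction i with
    | zero => simp
    | succ i ih =>
      have hci : u * c ^ i * u⁻¹ = c ^ i := by
        rw [← mem_cn.1 (pow_mem hcu i), mul_inv_cancel_right]
      calc u ^ (i + 1) * r * (u ^ (i + 1))⁻¹ = u * (u ^ i * r * (u ^ i)⁻¹) * u⁻¹ := by
            rw [pow_succ']; group
        _ = u * r * u⁻¹ * (u * c ^ i * u⁻¹) := by rw [ih]; group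
        _ = r * c ^ (i + 1) := by rw [hci, pow_succ', ← mul_assoc r c, hc, mul_inv_cancel_left]
  have hco : c ^ orderOf u = 1 := by
    have := hiter (orderOf u)
    simpa [pow_orderOf_eq_one] using this.symm
  obtain ⟨j, hj⟩ := hu
  obtain ⟨i, -, hi⟩ := (Nat.dvd_prime_pow hp).1 (hj ▸ orderOf_dvd_of_pow_eq_one hco)
  have hc1 : c = 1 := isPE_eq_one_or hp hq ⟨i, hi⟩ (IsPE.of_mem_pgroup hR hcR) hne
  apply hrK
  rw [hK, Subgroup.mem_subgroupOf]
  show r ∈ Cn u
  rw [hc, inv_mul_eq_one] at hc1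
  rw [mem_cn]
  conv_lhs => rw [hc1]
  group

namespace PP

theorem symm (P : PP G p q n m) : PP G q p m n :=
  ⟨P.hq, P.hp, P.hne.symm, P.hm, P.hn, P.D.symm⟩

theorem not_q_dvd_n (P : PP G p q n m) : ¬ q ∣ n := fun h => by
  obtain ⟨a, rfl⟩ := P.hn
  exact P.hne.symm ((Nat.prime_dvd_prime_iff_eq P.hq P.hp).1 (P.hq.dvd_of_dvd_pow h))

theorem p_dvd_n (P : PP G p q n m) : p ∣ n := by
  obtain ⟨a, rfl⟩ := P.hn
  refine dvd_pow_self p fun h => ?_
  subst h
  exact (lt_irrefl 1) P.D.one_lt_n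

variable [Finite G]

/-- Elements of other primes are central. -/
theorem others (P : PP G p q n m) {s : ℕ} (hs : s.Prime) (hsp : s ≠ p) (hsq : s ≠ q) {v : G}
    (hv : IsPE s v) : v ∈ Subgroup.center G := by
  refine mem_center_of_not_dvd hs (fun g hg => ?_) hv
  have hn : ¬ s ∣ n := fun h => by
    obtain ⟨a, rfl⟩ := P.hn
    exact hsp ((Nat.prime_dvd_prime_iff_eq hs P.hp).1 (hs.dvd_of_dvd_pow h))
  have hm : ¬ s ∣ m := fun h => by
    obtain ⟨b, rfl⟩ := P.hm
    exact hsq ((Nat.prime_dvd_prime_iff_eq hs P.hq).1 (hs.dvd_of_dvd_pow h))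
  rcases P.D.vals g with e | e | e | e <;> rw [e] at hg
  · exact hs.ne_one (Nat.dvd_one.1 hg)
  · exact hn hg
  · exact hm hg
  · exact (hs.dvd_mul.1 hg).elim hn hm

theorem isSolvable (P : PP G p q n m) : Group.IsSolvable G := by
  haveI : Fact p.Prime := ⟨P.hp⟩
  set c := Nat.card (G ⧸ Subgroup.center G) with hc
  have hc0 : c ≠ 0 := Nat.card_pos.ne'
  have hprimes : ∀ {s : ℕ}, s.Prime → s ∣ c → s = p ∨ s = q := by
    intro s hs hsc
    by_contra h
    push Not at h
    have : s ∣ (Subgroup.center G).relIndex ⊤ := by rwa [Subgroup.relIndex_top_right]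
    obtain ⟨v, -, hvc, hv⟩ := TwoRegSizes38.exists_primePow_of_dvd_relIndex hs this
    exact hvc (P.others hs h.1 h.2 hv)
  have hcard : c = p ^ c.factorization p * (q ^ (c / p ^ c.factorization p).primeFactorsList.length) := by
    have h2 : c / p ^ c.factorization p = q ^ (c / p ^ c.factorization p).primeFactorsList.length := by
      refine Nat.eq_prime_pow_of_unique_prime_dvd (Nat.ordCompl_pos p hc0).ne' fun {d} hd hdd => ?_
      rcases hprimes hd (hdd.trans (Nat.ordCompl_dvd c p)) with e | e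
      · exact absurd (e ▸ hdd) (Nat.not_dvd_ordCompl P.hp hc0)
      · exact e
    conv_lhs => rw [← Nat.ordProj_mul_ordCompl_eq_self c p, h2]
  haveI : Group.IsSolvable (Subgroup.center G) :=
    Group.isSolvable_of_comm fun a b => Subtype.ext (Subgroup.mem_center_iff.1 b.2 a)
  haveI : Group.IsSolvable (G ⧸ Subgroup.center G) := S0144.result p q _ _ P.hp P.hq (hc ▸ hcard)
  exact Group.isSolvable_of_ker_le_range (Subgroup.center G).subtype
    (QuotientGroup.mk' (Subgroup.center G))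
    (by rw [QuotientGroup.ker_mk', Subgroup.range_subtype])

/-- A `p`-element centralizing both cores lies in the `p`-core. -/
theorem mem_core (P : PP G p q n m) {u : G} (hu : IsPE p u)
    (hT : Cfsg.pCore p G ≤ Cn u) (hR : Cfsg.pCore q G ≤ Cn u) : u ∈ Cfsg.pCore p G := by
  haveI : Fact p.Prime := ⟨P.hp⟩
  haveI := P.isSolvable
  obtain ⟨j, hj⟩ := hu
  refine BGRankTwo.mem_pCore_of_mem_fitting ?_ hj
  refine ComponentsFitting.centralizer_fitting_le_of_solvable ?_
  have hle : Cfsg.fittingSubgroup G ≤ Cn u := by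
    rw [S0009.result, iSup_le_iff]
    intro s
    by_cases h1 : (s : ℕ) = p
    · rw [h1]; exact hT
    by_cases h2 : (s : ℕ) = q
    · rw [h2]; exact hR
    intro z hz
    haveI : Fact (s : ℕ).Prime := ⟨s.2⟩
    exact mem_cn.2 (Subgroup.mem_center_iff.1
      (P.others s.2 h1 h2 (IsPE.of_mem_pgroup (HallCore.isPGroup_pCore _ G) hz)) u).symm
  rw [Subgroup.mem_centralizer_iff]
  intro z hz
  exact mem_cn.1 (hle hz)

/-- A `p`-element with a centralizer of `q`-power index centralizes `O_p`. -/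
theorem core_le_cn (P : PP G p q n m) {y : G} (hym : cs y = m) : Cfsg.pCore p G ≤ Cn y := by
  haveI : Fact p.Prime := ⟨P.hp⟩
  refine ClassSizeGraph76.le_of_coprime _ _ ?_
  obtain ⟨i, hi⟩ := IsPGroup.iff_card.1 (HallCore.isPGroup_pCore p G)
  rw [hi, show (Cn y).index = cs y from rfl, hym]
  exact Nat.Coprime.pow_left i ((Nat.Prime.coprime_iff_not_dvd P.hp).2 (P.symm.not_q_dvd_n))

end PP

end Cfsg.Agent.CaminaSizes63
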