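import Mathlib

/-! The subgroup generated by the fixed-point-free elements of a transitive group. -/

set_option autoImplicit false

namespace Cfsg.Agent.DerangementSubgroup

open MulAction

variable (G Ω : Type*) [Group G] [MulAction G Ω]

/-- The subgroup generated by the derangements. -/
abbrev derSub : Subgroup G := Subgroup.closure {g : G | ∀ ω : Ω, g • ω ≠ ω}

variable {G Ω}

theorem derSub_normal : (derSub G Ω).Normal := by
  constructor
  intro x hx g
  have : (derSub G Ω).map (MulAut.conj g).toMonoidHom ≤ derSub G Ω := by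
    rw [derSub, MonoidHom.map_closure, Subgroup.closure_le]
    rintro _ ⟨y, hy, rfl⟩
    refine Subgroup.subset_closure fun ω h => hy (g⁻¹ • ω) ?_
    simp only [MulEquiv.coe_toMonoidHom, MulAut.conj_apply, mul_smul] at h
    exact eq_inv_smul_iff.mpr h
  exact this ⟨x, hx, rfl⟩

/-- every element outside `derSub` fixes a point -/
theorem exists_fixed_of_notMem {g : G} (hg : g ∉ derSub G Ω) : ∃ ω : Ω, g • ω = ω := by
  by_contra h
  exact hg (Subgroup.subset_closure fun ω hω => h ⟨ω, hω⟩)

variable [Finite G] [Finite Ω]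

theorem sum_fixed (K : Subgroup G) (X : Type*) [MulAction G X] [Finite X] [Fintype K] :
    ∑ g : K, Nat.card (fixedBy X (g : G)) = Nat.card (orbitRel.Quotient K X) * Nat.card K := by
  classical
  haveI : Fintype X := Fintype.ofFinite X
  haveI : Fintype (Quotient (orbitRel K X)) := Fintype.ofFinite _
  have h := sum_card_fixedBy_eq_card_orbits_mul_card_group K X
  rw [orbitRel.Quotient, Nat.card_eq_fintype_card, Nat.card_eq_fintype_card, ← h]
  refine Finset.sum_congr rfl fun g _ => ?_
  rw [Nat.card_eq_fintype_card]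
  exact Fintype.card_congr (Equiv.refl _)

open scoped Classical in
theorem sum_split (K : Subgroup G) [Fintype G] [Fintype K] (f : G → ℕ) :
    ∑ g : G, f g = ∑ g : K, f g + ∑ g ∈ Finset.univ.filter (fun g => g ∉ K), f g := by
  rw [← Finset.sum_filter_add_sum_filter_not Finset.univ (fun g => g ∈ K) f]
  congr 1
  exact (Finset.sum_subtype (Finset.univ.filter (fun g => g ∈ K)) (by simp) f)

theorem card_notMem (K : Subgroup G) [Fintype G] [DecidablePred (fun g => g ∉ K)] :
    (Finset.univ.filter (fun g => g ∉ K)).card + Nat.card K = Nat.card G := by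
  classical
  rw [add_comm, Nat.card_eq_fintype_card, Nat.card_eq_fintype_card,
    Fintype.card_subtype, Finset.filter_congr_decidable]
  convert Finset.card_filter_add_card_filter_not (s := (Finset.univ : Finset G)) (fun g => g ∈ K) using 1
  simp

theorem card_orbits_one [Nonempty Ω] [IsPretransitive G Ω] :
    Nat.card (orbitRel.Quotient (⊤ : Subgroup G) Ω) = 1 := by
  rw [Nat.card_eq_one_iff_unique]
  refine ⟨⟨fun a b => ?_⟩, ⟨Quotient.mk'' (Classical.arbitrary Ω)⟩⟩
  induction a using Quotient.inductionOn with | _ a =>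
  induction b using Quotient.inductionOn with | _ b =>
  obtain ⟨g, hg⟩ := exists_smul_eq G b a
  exact Quotient.sound ⟨⟨g, Subgroup.mem_top g⟩, hg⟩

variable [IsPretransitive G Ω]

/-- The counting at the heart of everything. -/
theorem main [Nonempty Ω] : IsPretransitive (derSub G Ω) Ω ∧
    ∀ g : G, g ∉ derSub G Ω → Nat.card (fixedBy Ω g) = 1 := by
  classical
  haveI := Fintype.ofFinite G
  set D := derSub G Ω
  have htot : ∑ g : G, Nat.card (fixedBy Ω g) = Nat.card G := by
    have h1 := sum_fixed (⊤ : Subgroup G) Ω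
    rw [card_orbits_one, one_mul, Subgroup.card_top] at h1
    rw [← h1]
    exact (Equiv.sum_comp (Subgroup.topEquiv.toEquiv) (fun g : G => Nat.card (fixedBy Ω g))).symm
  have hge : ∀ g ∈ Finset.univ.filter (fun g : G => g ∉ D), 1 ≤ Nat.card (fixedBy Ω g) := by
    intro g hg
    obtain ⟨ω, hω⟩ := exists_fixed_of_notMem (by simpa using hg)
    haveI : Nonempty (fixedBy Ω g) := ⟨⟨ω, hω⟩⟩
    exact Nat.card_pos
  have hs := sum_split D (fun g => Nat.card (fixedBy Ω g))
  rw [htot, sum_fixed D Ω] at hs
  have hc := card_notMem D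
  have hsum1 : (Finset.univ.filter (fun g : G => g ∉ D)).card ≤
      ∑ g ∈ Finset.univ.filter (fun g : G => g ∉ D), Nat.card (fixedBy Ω g) := by
    simpa using Finset.sum_le_sum hge
  haveI : Nonempty (orbitRel.Quotient D Ω) := ⟨Quotient.mk'' (Classical.arbitrary Ω)⟩
  have hm : 1 ≤ Nat.card (orbitRel.Quotient D Ω) := Nat.card_pos
  have hpos : 0 < Nat.card D := Nat.card_pos
  have hm1 : Nat.card (orbitRel.Quotient D Ω) = 1 := by
    have : Nat.card (orbitRel.Quotient D Ω) * Nat.card D ≤ 1 * Nat.card D := by omega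
    exact le_antisymm (Nat.le_of_mul_le_mul_right this hpos) hm
  refine ⟨⟨fun a b => ?_⟩, fun g hg => ?_⟩
  · have h := (Nat.card_eq_one_iff_unique.mp hm1).1
    have hab : (Quotient.mk'' b : orbitRel.Quotient D Ω) = Quotient.mk'' a := Subsingleton.elim _ _
    exact Quotient.eq''.mp hab
  · rw [hm1, one_mul] at hs
    have heq : ∑ g ∈ Finset.univ.filter (fun g : G => g ∉ D), 1 =
        ∑ g ∈ Finset.univ.filter (fun g : G => g ∉ D), Nat.card (fixedBy Ω g) := by
      simp only [Finset.sum_const, smul_eq_mul, mul_one]; omega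
    exact ((Finset.sum_eq_sum_iff_of_le hge).mp heq g (by simpa using hg)).symm

theorem pretransitive : IsPretransitive (derSub G Ω) Ω := by
  rcases isEmpty_or_nonempty Ω with h | h
  · exact ⟨fun a => isEmptyElim a⟩
  · exact main.1

theorem card_fixedBy_eq_one {g : G} (hg : g ∉ derSub G Ω) : Nat.card (fixedBy Ω g) = 1 := by
  obtain ⟨ω, hω⟩ := exists_fixed_of_notMem hg
  haveI : Nonempty Ω := ⟨ω⟩
  exact main.2 g hg

/-- an element fixing two distinct points lies in `derSub` -/
theorem mem_of_fixes_two {g : G} {a b : Ω} (hab : a ≠ b) (ha : g • a = a) (hb : g • b = b) :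
    g ∈ derSub G Ω := by
  by_contra hg
  have h1 := card_fixedBy_eq_one hg
  obtain ⟨hsub, -⟩ := Nat.card_eq_one_iff_unique.mp h1
  exact hab (congrArg Subtype.val (Subsingleton.elim (⟨a, ha⟩ : fixedBy Ω g) ⟨b, hb⟩))

/-- The rank formula. -/
theorem rank_formula [Nonempty Ω] :
    Nat.card (orbitRel.Quotient (derSub G Ω) (Ω × Ω)) + (derSub G Ω).index =
      Nat.card (orbitRel.Quotient G (Ω × Ω)) * (derSub G Ω).index + 1 := by
  classical
  haveI := Fintype.ofFinite G
  set D := derSub G Ω
  have hp : ∀ g : G, Nat.card (fixedBy (Ω × Ω) g) = Nat.card (fixedBy Ω g) * Nat.card (fixedBy Ω g) := by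
    intro g
    rw [← Nat.card_prod]
    exact Nat.card_congr
      { toFun := fun x => (⟨x.1.1, congrArg Prod.fst x.2⟩, ⟨x.1.2, congrArg Prod.snd x.2⟩)
        invFun := fun y => ⟨(y.1.1, y.2.1), Prod.ext y.1.2 y.2.2⟩
        left_inv := fun x => rfl
        right_inv := fun y => rfl }
  haveI : Fintype (⊤ : Subgroup G) := Fintype.ofFinite _
  have h1 := sum_fixed (⊤ : Subgroup G) (Ω × Ω)
  rw [Subgroup.card_top] at h1
  have hq : Nat.card (orbitRel.Quotient (⊤ : Subgroup G) (Ω × Ω)) = Nat.card (orbitRel.Quotient G (Ω × Ω)) := by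
    refine Nat.card_congr (Quotient.congr (Equiv.refl _) fun a b => ?_)
    constructor
    · rintro ⟨g, hg⟩; exact ⟨(g : G), hg⟩
    · rintro ⟨g, hg⟩; exact ⟨⟨g, Subgroup.mem_top g⟩, hg⟩
  have htot : ∑ g : G, Nat.card (fixedBy (Ω × Ω) g) =
      Nat.card (orbitRel.Quotient G (Ω × Ω)) * Nat.card G := by
    rw [← hq, ← h1]
    exact (Equiv.sum_comp (Subgroup.topEquiv.toEquiv) (fun g : G => Nat.card (fixedBy (Ω × Ω) g))).symm
  have hs := sum_split D (fun g => Nat.card (fixedBy (Ω × Ω) g))
  rw [htot, sum_fixed D (Ω × Ω)] at hs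
  have hone : ∀ g ∈ Finset.univ.filter (fun g : G => g ∉ D), Nat.card (fixedBy (Ω × Ω) g) = 1 := by
    intro g hg
    rw [hp, card_fixedBy_eq_one (by simpa using hg)]
  rw [Finset.sum_congr rfl hone, Finset.sum_const, smul_eq_mul, mul_one] at hs
  have hc := card_notMem D
  have hi : Nat.card D * D.index = Nat.card G := D.card_mul_index
  have hpos : 0 < Nat.card D := Nat.card_pos
  apply Nat.eq_of_mul_eq_mul_right hpos
  rw [add_mul, add_mul, mul_assoc, mul_comm D.index, hi]
  omega

theorem relIndex_stabilizer (α : Ω) :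
    (derSub G Ω).relIndex (stabilizer G α) = (derSub G Ω).index := by
  haveI := derSub_normal (G := G) (Ω := Ω)
  haveI := pretransitive (G := G) (Ω := Ω)
  have htop : stabilizer G α ⊔ derSub G Ω = ⊤ := by
    rw [eq_top_iff]
    intro g _
    obtain ⟨d, hd⟩ := exists_smul_eq (derSub G Ω) (g • α) α
    have h : ((d : G) * g) ∈ stabilizer G α := by
      rw [mem_stabilizer_iff, mul_smul]; exact hd
    have : g = (d : G)⁻¹ * ((d : G) * g) := by group
    rw [this]
    exact Subgroup.mul_mem _ (Subgroup.mem_sup_right (Subgroup.inv_mem _ d.2)) (Subgroup.mem_sup_left h)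
  rw [← Subgroup.relIndex_sup_right, htop, Subgroup.relIndex_top_right]

/-- the index of `derSub` divides every suborbit length -/
theorem index_dvd_orbit {α β : Ω} (hβ : β ≠ α) :
    (derSub G Ω).index ∣ Nat.card (orbit (stabilizer G α) β) := by
  rw [← relIndex_stabilizer α, Nat.card_coe_set_eq, ← index_stabilizer]
  refine Subgroup.index_dvd_of_le fun h hh => ?_
  exact mem_of_fixes_two hβ.symm h.2 hh

/-- the index of `derSub` divides the size of a set avoiding `α` invariant under its stabilizer -/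
theorem index_dvd_invariant (α : Ω) (S : Set Ω) (hα : α ∉ S)
    (hS : ∀ g ∈ stabilizer G α, ∀ x ∈ S, g • x ∈ S) : (derSub G Ω).index ∣ S.ncard := by
  classical
  let T : SubMulAction (stabilizer G α) Ω := ⟨S, fun g x hx => hS g g.2 x hx⟩
  rw [show S.ncard = Nat.card T from (Nat.card_coe_set_eq S).symm]
  haveI : Finite T := inferInstanceAs (Finite S)
  haveI : Fintype T := Fintype.ofFinite _
  haveI : Fintype (Quotient (orbitRel (stabilizer G α) T)) := Fintype.ofFinite _
  rw [Nat.card_congr (selfEquivSigmaOrbits (stabilizer G α) T), Nat.card_sigma]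
  refine Finset.dvd_sum fun ω _ => ?_
  have h := index_dvd_orbit (G := G) (fun h : ((ω.out : T) : Ω) = α => hα (h ▸ (ω.out).2))
  rwa [← SubMulAction.val_image_orbit, Nat.card_image_of_injective Subtype.val_injective] at h

end Cfsg.Agent.DerangementSubgroup
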