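import Mathlib
import Cfsg.Agent.Lib.DerangementSubgroup

/-!
Elementary lemmas on conjugacy class sizes: coprime class sizes, absorption, and the
structure forced by a disconnected prime graph on class sizes.
-/

namespace Cfsg.Agent.ClassSizeGraph76

variable {G : Type*} [Group G]

/-- The size of the conjugacy class of `x`. -/
noncomputable abbrev cs (x : G) : ℕ := (Subgroup.centralizer ({x} : Set G)).index

/-- The conjugacy class of `x`. -/
def cls (x : G) : Set G := Set.range fun g => g * x * g⁻¹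

theorem mem_cent {x g : G} : g ∈ Subgroup.centralizer ({x} : Set G) ↔ g * x = x * g := by
  simp [Subgroup.mem_centralizer_iff, eq_comm]

theorem ncard_range_eq_index {β : Type*} (K : Subgroup G) (f : G → β)
    (hf : ∀ g h, f g = f h ↔ g⁻¹ * h ∈ K) : (Set.range f).ncard = K.index := by
  let f' : G ⧸ K → β := fun q => Quotient.liftOn' q f
    (fun g h hgh => (hf g h).mpr (QuotientGroup.leftRel_apply.mp hgh))
  have hr : Set.range f = Set.range f' := by
    ext y
    constructor
    · rintro ⟨g, rfl⟩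
      exact ⟨(g : G ⧸ K), rfl⟩
    · rintro ⟨q, rfl⟩
      induction q using QuotientGroup.induction_on with
      | H g => exact ⟨g, rfl⟩
  have hinj : Function.Injective f' := by
    intro a b hab
    induction a using QuotientGroup.induction_on with
    | H a =>
      induction b using QuotientGroup.induction_on with
      | H b => exact QuotientGroup.eq.mpr ((hf a b).mp hab)
  rw [hr, Set.ncard_range_of_injective hinj]
  rfl

theorem conj_eq_iff {x g h : G} :
    g * x * g⁻¹ = h * x * h⁻¹ ↔ g⁻¹ * h ∈ Subgroup.centralizer ({x} : Set G) := by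
  rw [mem_cent]
  constructor
  · intro e
    have : g⁻¹ * (h * x * h⁻¹) * h = g⁻¹ * h * x := by group
    rw [← this, ← e]
    group
  · intro e
    have : g * (g⁻¹ * h * x) * h⁻¹ = h * x * h⁻¹ := by group
    rw [← this, e]
    group

theorem ncard_cls (x : G) : (cls x).ncard = cs x :=
  ncard_range_eq_index _ _ fun _ _ => conj_eq_iff

theorem conj_mem_cls {a x : G} (g : G) (hx : x ∈ cls a) : g * x * g⁻¹ ∈ cls a := by
  obtain ⟨k, rfl⟩ := hx
  exact ⟨g * k, by group⟩

theorem self_mem_cls (a : G) : a ∈ cls a := ⟨1, by simp⟩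

theorem cs_conj (a g : G) : cs (g * a * g⁻¹) = cs a := by
  rw [← ncard_cls, ← ncard_cls]
  congr 1
  ext x
  constructor
  · rintro ⟨k, rfl⟩
    exact ⟨k * g, by group⟩
  · rintro ⟨k, rfl⟩
    exact ⟨k * g⁻¹, by group⟩

variable [Finite G]

theorem cs_pos (a : G) : 0 < cs a := Nat.pos_of_ne_zero Subgroup.index_ne_zero_of_finite

theorem index_inf_eq {a b : G} (h : (cs a).Coprime (cs b)) :
    (Subgroup.centralizer ({a} : Set G) ⊓ Subgroup.centralizer ({b} : Set G)).index = cs a * cs b :=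
  le_antisymm Subgroup.index_inf_le
    (Nat.le_of_dvd (Nat.pos_of_ne_zero Subgroup.index_ne_zero_of_finite)
      (h.mul_dvd_of_dvd_of_dvd (Subgroup.index_dvd_of_le inf_le_left)
        (Subgroup.index_dvd_of_le inf_le_right)))

/-- Classes of coprime size: all pairs of conjugates are conjugate. -/
theorem exists_conj_pair {a b : G} (h : (cs a).Coprime (cs b)) {x y : G} (hx : x ∈ cls a)
    (hy : y ∈ cls b) : ∃ d : G, d * a * d⁻¹ = x ∧ d * b * d⁻¹ = y := by
  have hsub : Set.range (fun d : G => (d * a * d⁻¹, d * b * d⁻¹)) ⊆ cls a ×ˢ cls b := by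
    rintro _ ⟨d, rfl⟩
    exact ⟨⟨d, rfl⟩, ⟨d, rfl⟩⟩
  have hcard : (cls a ×ˢ cls b).ncard ≤
      (Set.range (fun d : G => (d * a * d⁻¹, d * b * d⁻¹))).ncard := by
    rw [Set.ncard_prod, ncard_cls, ncard_cls, ← index_inf_eq h,
      ncard_range_eq_index (Subgroup.centralizer ({a} : Set G) ⊓ Subgroup.centralizer ({b} : Set G))]
    intro g k
    rw [Prod.mk.injEq, conj_eq_iff, conj_eq_iff, Subgroup.mem_inf]
  have hmem : (x, y) ∈ cls a ×ˢ cls b := ⟨hx, hy⟩
  rw [← Set.eq_of_subset_of_ncard_le hsub hcard] at hmem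
  obtain ⟨d, hd⟩ := hmem
  exact ⟨d, congrArg Prod.fst hd, congrArg Prod.snd hd⟩

theorem cs_mul_dvd {a b : G} (h : (cs a).Coprime (cs b)) : cs (a * b) ∣ cs a * cs b := by
  rw [← index_inf_eq h]
  refine Subgroup.index_dvd_of_le fun g hg => ?_
  have h1 := mem_cent.mp hg.1
  have h2 := mem_cent.mp hg.2
  rw [mem_cent, ← mul_assoc, h1, mul_assoc, h2, mul_assoc]

theorem image_mul_subset {a b y : G} (h : (cs a).Coprime (cs b)) (hy : y ∈ cls b) :
    (fun x => x * y) '' cls a ⊆ cls (a * b) := by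
  rintro _ ⟨x, hx, rfl⟩
  obtain ⟨d, rfl, rfl⟩ := exists_conj_pair h hx hy
  exact ⟨d, by group⟩

theorem left_le_cs_mul {a b : G} (h : (cs a).Coprime (cs b)) : cs a ≤ cs (a * b) := by
  rw [← ncard_cls, ← ncard_cls]
  refine le_trans (le_of_eq ?_) (Set.ncard_le_ncard (image_mul_subset h (self_mem_cls b)))
  rw [Set.ncard_image_of_injective _ (mul_left_injective b)]

/-- The right stabiliser of a conjugacy class. -/
def clsStab (a : G) : Subgroup G where
  carrier := {l | (fun x => x * l) '' cls a = cls a}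
  one_mem' := by simp
  mul_mem' := fun {l m} hl hm => by
    show (fun x => x * (l * m)) '' cls a = cls a
    have : (fun x => x * (l * m)) '' cls a = (fun x => x * m) '' ((fun x => x * l) '' cls a) := by
      rw [Set.image_image]
      simp [mul_assoc]
    rw [this, hl, hm]
  inv_mem' := fun {l} hl => by
    show (fun x => x * l⁻¹) '' cls a = cls a
    conv_lhs => rw [← (hl : (fun x => x * l) '' cls a = cls a)]
    rw [Set.image_image]
    simp [mul_assoc]

theorem mem_clsStab {a l : G} : l ∈ clsStab a ↔ ∀ x ∈ cls a, x * l ∈ cls a := by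
  constructor
  · intro hl x hx
    exact (hl : (fun x => x * l) '' cls a = cls a).le ⟨x, hx, rfl⟩
  · intro h
    refine Set.eq_of_subset_of_ncard_le ?_ (le_of_eq ?_)
    · rintro _ ⟨x, hx, rfl⟩
      exact h x hx
    · rw [Set.ncard_image_of_injective _ (mul_left_injective l)]

instance clsStab_normal (a : G) : (clsStab a).Normal :=
  ⟨fun l hl g => mem_clsStab.mpr fun x hx => by
    have h1 := mem_clsStab.mp hl _ (conj_mem_cls g⁻¹ hx)
    have h2 := conj_mem_cls g h1
    simpa [mul_assoc] using h2⟩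

theorem card_clsStab_dvd (a : G) : Nat.card (clsStab a) ∣ cs a := by
  have hpre : QuotientGroup.mk ⁻¹' ((QuotientGroup.mk : G → G ⧸ clsStab a) '' cls a) = cls a := by
    refine Set.Subset.antisymm ?_ (Set.subset_preimage_image _ _)
    rintro z ⟨x, hx, hxz⟩
    have h1 := mem_clsStab.mp (QuotientGroup.eq.mp hxz) x hx
    simpa using h1
  rw [← ncard_cls, ← Nat.card_coe_set_eq]
  conv_rhs => rw [← hpre]
  rw [Nat.card_congr (QuotientGroup.preimageMkEquivSubgroupProdSet _ _), Nat.card_prod]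
  exact Dvd.intro _ rfl

/-- Absorption: if `a` and `b` have coprime class sizes and the class of `a * b` is not bigger
than that of `a`, then all `g b g⁻¹ b⁻¹` stabilise the class of `a`. -/
theorem absorb {a b : G} (h : (cs a).Coprime (cs b)) (hle : cs (a * b) ≤ cs a) (g : G) :
    g * b * g⁻¹ * b⁻¹ ∈ clsStab a := by
  have heq : ∀ y ∈ cls b, (fun x => x * y) '' cls a = cls (a * b) := by
    intro y hy
    refine Set.eq_of_subset_of_ncard_le (image_mul_subset h hy) ?_
    rw [ncard_cls, Set.ncard_image_of_injective _ (mul_left_injective y), ncard_cls]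
    exact hle
  refine mem_clsStab.mpr fun x hx => ?_
  have h1 : x * (g * b * g⁻¹) ∈ (fun x => x * b) '' cls a := by
    rw [heq b (self_mem_cls b), ← heq (g * b * g⁻¹) ⟨g, rfl⟩]
    exact ⟨x, hx, rfl⟩
  obtain ⟨z, hz, hzb⟩ := h1
  have : z = x * (g * b * g⁻¹ * b⁻¹) := by
    rw [eq_comm, ← mul_assoc, mul_inv_eq_iff_eq_mul]
    exact hzb.symm
  rwa [← this]

/-- For a normal `N`, `[N : N ∩ H]` divides `[G : H]`. -/
theorem relIndex_dvd_index (H N : Subgroup G) [N.Normal] : H.relIndex N ∣ H.index := by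
  have e1 := Subgroup.relIndex_mul_index (inf_le_right : H ⊓ N ≤ N)
  have e2 := Subgroup.relIndex_mul_index (inf_le_left : H ⊓ N ≤ H)
  have e3 := Subgroup.relIndex_mul_index (le_sup_right : N ≤ H ⊔ N)
  rw [Subgroup.inf_relIndex_right] at e1
  rw [Subgroup.inf_relIndex_left] at e2
  rw [Subgroup.relIndex_sup_right] at e3
  refine ⟨(H ⊔ N).index, ?_⟩
  have hne : N.relIndex H ≠ 0 := by
    rw [← Subgroup.relIndex_sup_right]
    intro h0
    rw [Subgroup.relIndex_sup_right] at h0
    rw [h0, zero_mul] at e3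
    exact Subgroup.index_ne_zero_of_finite e3.symm
  apply mul_left_cancel₀ hne
  rw [e2, ← e1, ← e3]
  ring

theorem le_of_coprime (H N : Subgroup G) [N.Normal] (h : (Nat.card N).Coprime H.index) : N ≤ H := by
  rw [← Subgroup.relIndex_eq_one]
  exact Nat.eq_one_of_dvd_coprimes h (Subgroup.index_dvd_card _) (relIndex_dvd_index H N)

/-- If `[b, G] ⊆ L` with `|L|` prime to the class size of `b`, then `C(L) ≤ C(b)`. -/
theorem centralizer_le {L : Subgroup G} [L.Normal] {b : G} (hb : ∀ g : G, g * b * g⁻¹ * b⁻¹ ∈ L)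
    (hco : (Nat.card L).Coprime (cs b)) :
    Subgroup.centralizer (L : Set G) ≤ Subgroup.centralizer ({b} : Set G) := by
  have hval : ∀ g : G, g⁻¹ * b * g * b⁻¹ ∈ L := fun g => by simpa using hb g⁻¹
  let φ : Subgroup.centralizer (L : Set G) →* L :=
    MonoidHom.mk' (fun g => ⟨(g : G)⁻¹ * b * g * b⁻¹, hval g⟩) fun g k => by
      apply Subtype.ext
      have hk : ((g : G)⁻¹ * b * g * b⁻¹) * (k : G) = (k : G) * ((g : G)⁻¹ * b * g * b⁻¹) :=
        Subgroup.mem_centralizer_iff.mp k.2 _ (hval g)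
      simp only [Subgroup.coe_mul]
      calc ((g : G) * k)⁻¹ * b * ((g : G) * k) * b⁻¹
          = (k : G)⁻¹ * ((g : G)⁻¹ * b * g * b⁻¹) * b * k * b⁻¹ := by group
        _ = (k : G)⁻¹ * (((g : G)⁻¹ * b * g * b⁻¹) * k) * ((k : G)⁻¹ * b * k * b⁻¹) := by group
        _ = ((g : G)⁻¹ * b * g * b⁻¹) * ((k : G)⁻¹ * b * k * b⁻¹) := by rw [hk]; group
  have hker : φ.ker = (Subgroup.centralizer ({b} : Set G)).subgroupOf
      (Subgroup.centralizer (L : Set G)) := by
    ext g
    rw [MonoidHom.mem_ker, Subgroup.mem_subgroupOf, mem_cent]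
    constructor
    · intro e
      have e' : (g : G)⁻¹ * b * g * b⁻¹ = 1 := congrArg Subtype.val e
      rw [mul_inv_eq_one, mul_assoc, inv_mul_eq_iff_eq_mul] at e'
      exact e'.symm
    · intro e
      refine Subtype.ext ?_
      show (g : G)⁻¹ * b * g * b⁻¹ = 1
      rw [mul_assoc _ b, ← e]
      group
  rw [← Subgroup.relIndex_eq_one, Subgroup.relIndex, ← hker]
  refine Nat.eq_one_of_dvd_coprimes hco ?_ ?_
  · rw [Subgroup.index_ker]
    exact Subgroup.card_subgroup_dvd_card _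
  · rw [hker]
    exact relIndex_dvd_index _ _

section Setup

variable {a : G} {Y : Set G} (hYconj : ∀ y ∈ Y, ∀ g : G, g * y * g⁻¹ ∈ Y)
  (hY : ∀ b ∈ Y, (cs a).Coprime (cs b) ∧ cs (a * b) ≤ cs a)

omit [Finite G] in
include hYconj in
theorem closure_normal : (Subgroup.closure Y).Normal := by
  refine ⟨fun y hy g => ?_⟩
  induction hy using Subgroup.closure_induction with
  | mem y hy => exact Subgroup.subset_closure (hYconj y hy g)
  | one => simp
  | mul y z _ _ hy hz => rw [← conj_mul]; exact Subgroup.mul_mem _ hy hz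
  | inv y _ hy => rw [← conj_inv]; exact Subgroup.inv_mem _ hy

omit [Finite G] in
theorem comm_mem (M : Subgroup G) {y : G} (hy : y ∈ M) (g : G) :
    g * y * g⁻¹ * y⁻¹ ∈ ⁅M, (⊤ : Subgroup G)⁆ := by
  rw [Subgroup.commutator_comm]
  exact Subgroup.commutator_mem_commutator (Subgroup.mem_top g) hy

omit [Finite G] in
theorem commutator_le_of_closure {N : Subgroup G} [N.Normal]
    (h : ∀ y ∈ Y, ∀ g : G, g * y * g⁻¹ * y⁻¹ ∈ N) :
    ⁅Subgroup.closure Y, (⊤ : Subgroup G)⁆ ≤ N := by
  have hle : Subgroup.closure Y ≤ (Subgroup.center (G ⧸ N)).comap (QuotientGroup.mk' N) := by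
    rw [Subgroup.closure_le]
    intro y hy
    rw [SetLike.mem_coe, Subgroup.mem_comap, Subgroup.mem_center_iff]
    intro q
    induction q using QuotientGroup.induction_on with
    | H g =>
      have := (QuotientGroup.eq_one_iff _).mpr (h y hy g)
      rw [QuotientGroup.mk_mul, QuotientGroup.mk_mul, QuotientGroup.mk_mul, QuotientGroup.mk_inv,
        QuotientGroup.mk_inv, mul_inv_eq_one, mul_inv_eq_iff_eq_mul] at this
      exact this
  rw [Subgroup.commutator_le]
  intro y hy g _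
  have h1 := Subgroup.mem_center_iff.mp (hle hy) (QuotientGroup.mk' N g)
  rw [← QuotientGroup.eq_one_iff, commutatorElement_def, QuotientGroup.mk_mul, QuotientGroup.mk_mul,
    QuotientGroup.mk_mul, QuotientGroup.mk_inv, QuotientGroup.mk_inv]
  simp only [QuotientGroup.mk'_apply] at h1
  rw [← h1]
  group

include hY in
theorem commutator_le_clsStab : ⁅Subgroup.closure Y, (⊤ : Subgroup G)⁆ ≤ clsStab a :=
  commutator_le_of_closure fun y hy g => absorb (hY y hy).1 (hY y hy).2 g

include hY in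
theorem card_commutator_dvd : Nat.card ↥(⁅Subgroup.closure Y, (⊤ : Subgroup G)⁆) ∣ cs a :=
  (Subgroup.card_dvd_of_le (commutator_le_clsStab hY)).trans (card_clsStab_dvd a)

include hYconj hY in
theorem centralizer_commutator_le :
    Subgroup.centralizer ((⁅Subgroup.closure Y, (⊤ : Subgroup G)⁆ : Subgroup G) : Set G) ≤
      Subgroup.centralizer (Subgroup.closure Y : Set G) := by
  have := closure_normal hYconj
  rw [Subgroup.centralizer_closure]
  intro g hg
  rw [Subgroup.mem_centralizer_iff]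
  intro b hb
  exact (mem_cent.mp (centralizer_le (fun k => comm_mem _ (Subgroup.subset_closure hb) k)
    ((hY b hb).1.coprime_dvd_left (card_commutator_dvd hY)) hg)).symm

include hYconj hY in
theorem closure_comm :
    Subgroup.closure Y ≤ Subgroup.centralizer (Subgroup.closure Y : Set G) := by
  have := closure_normal hYconj
  refine le_trans ?_ (centralizer_commutator_le hYconj hY)
  rw [Subgroup.closure_le]
  intro b hb
  rw [SetLike.mem_coe, Subgroup.mem_centralizer_iff]
  intro l hl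
  exact mem_cent.mp (le_of_coprime (Subgroup.centralizer ({b} : Set G))
    (⁅Subgroup.closure Y, (⊤ : Subgroup G)⁆) ((hY b hb).1.coprime_dvd_left (card_commutator_dvd hY)) hl)

include hYconj hY in
theorem mem_center_of_pow {y : G} (hy : y ∈ Subgroup.closure Y) {n : ℕ} (hn : y ^ n = 1)
    (hco : n.Coprime (cs a)) : y ∈ Subgroup.center G := by
  have := closure_normal hYconj
  rw [Subgroup.mem_center_iff]
  intro g
  set z := g * y * g⁻¹ * y⁻¹ with hz
  have hcomm : Commute (g * y * g⁻¹) y⁻¹ := by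
    refine Commute.inv_right ?_
    exact Subgroup.mem_centralizer_iff.mp (closure_comm hYconj hY hy) _
      (Subgroup.Normal.conj_mem ‹_› y hy g)
  have hzn : z ^ n = 1 := by
    rw [hz, hcomm.mul_pow, inv_pow, hn, conj_pow, hn]
    simp
  have hzc : z ^ cs a = 1 := by
    refine orderOf_dvd_iff_pow_eq_one.mp (dvd_trans ?_ (card_commutator_dvd hY))
    exact Subgroup.orderOf_dvd_natCard _ (comm_mem _ hy g)
  have hz1 := pow_gcd_eq_one.mpr ⟨hzn, hzc⟩
  rw [hco, pow_one, hz, mul_inv_eq_one, mul_inv_eq_iff_eq_mul] at hz1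
  exact hz1

end Setup

/-- A subgroup meeting every conjugacy class is everything. -/
theorem eq_top_of_conj_cover (H : Subgroup G) (h : ∀ g : G, ∃ k : G, k * g * k⁻¹ ∈ H) : H = ⊤ := by
  have hfix : ∀ g : G, ∃ ω : G ⧸ H, g • ω = ω := by
    intro g
    obtain ⟨k, hk⟩ := h g
    refine ⟨((k⁻¹ : G) : G ⧸ H), ?_⟩
    rw [MulAction.Quotient.smul_coe, QuotientGroup.eq, smul_eq_mul]
    have := H.inv_mem hk
    simpa [mul_assoc] using this
  have hbot : Cfsg.Agent.DerangementSubgroup.derSub G (G ⧸ H) = ⊥ := by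
    rw [Cfsg.Agent.DerangementSubgroup.derSub, Subgroup.closure_eq_bot_iff]
    intro g hg
    obtain ⟨ω, hω⟩ := hfix g
    exact absurd hω (hg ω)
  have htr := Cfsg.Agent.DerangementSubgroup.pretransitive (G := G) (Ω := G ⧸ H)
  rw [eq_top_iff]
  intro g _
  obtain ⟨d, hd⟩ := htr.exists_smul_eq ((1 : G) : G ⧸ H) (g : G ⧸ H)
  have hd1 : (d : G) = 1 := Subgroup.mem_bot.mp (hbot ▸ d.2)
  rw [Subgroup.smul_def, hd1, one_smul, QuotientGroup.eq] at hd
  simpa using hd

theorem exists_sylow_le {p : ℕ} [Fact p.Prime] {H : Subgroup G} (h : ¬ p ∣ H.index) :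
    ∃ P : Sylow p G, (P : Subgroup G) ≤ H := by
  obtain ⟨Q⟩ : Nonempty (Sylow p H) := inferInstance
  have hQ : IsPGroup p ((Q : Subgroup H).map H.subtype) := Q.2.map _
  obtain ⟨P, hP⟩ := hQ.exists_le_sylow
  have hidx : ¬ p ∣ ((Q : Subgroup H).map H.subtype).index := by
    rw [Subgroup.index_map_subtype]
    intro hd
    rcases (Fact.out : p.Prime).dvd_mul.mp hd with hd | hd
    · exact Q.not_dvd_index hd
    · exact h hd
  refine ⟨hQ.toSylow hidx, ?_⟩
  exact Subgroup.map_subtype_le _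

theorem not_dvd_index_of_sylow_le {p : ℕ} [Fact p.Prime] {H : Subgroup G} (P : Sylow p G)
    (h : (P : Subgroup G) ≤ H) : ¬ p ∣ H.index :=
  fun hd => P.not_dvd_index (hd.trans (Subgroup.index_dvd_of_le h))

/-- A subgroup containing a Sylow subgroup for every prime is everything. -/
theorem eq_top_of_sylow_le (H : Subgroup G)
    (h : ∀ p : ℕ, p.Prime → ∀ [Fact p.Prime], ∃ P : Sylow p G, (P : Subgroup G) ≤ H) : H = ⊤ := by
  rw [← Subgroup.index_eq_one]
  by_contra hne
  obtain ⟨p, hp, hd⟩ := Nat.exists_prime_and_dvd hne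
  have : Fact p.Prime := ⟨hp⟩
  obtain ⟨P, hP⟩ := h p hp
  exact not_dvd_index_of_sylow_le P hP hd

section Cover

variable {M : Subgroup G} [M.Normal] {q : ℕ} [Fact q.Prime] (hout : ∀ g ∉ M, ¬ q ∣ cs g)
  (Q : Sylow q G)

include hout in
theorem sup_centralizer_eq_top : M ⊔ Subgroup.centralizer ((Q : Subgroup G) : Set G) = ⊤ := by
  refine eq_top_of_conj_cover _ fun g => ?_
  by_cases hg : g ∈ M
  · exact ⟨1, Subgroup.mem_sup_left (by simpa using hg)⟩
  obtain ⟨P, hP⟩ := exists_sylow_le (hout g hg)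
  obtain ⟨k, hk⟩ := MulAction.exists_smul_eq G P Q
  refine ⟨k, Subgroup.mem_sup_right ?_⟩
  rw [Subgroup.mem_centralizer_iff]
  intro x hx
  rw [SetLike.mem_coe, ← hk, Sylow.coe_subgroup_smul] at hx
  obtain ⟨y, hy, rfl⟩ := hx
  have hc := mem_cent.mp (hP hy)
  show k * y * k⁻¹ * (k * g * k⁻¹) = k * g * k⁻¹ * (k * y * k⁻¹)
  calc k * y * k⁻¹ * (k * g * k⁻¹) = k * (y * g) * k⁻¹ := by group
    _ = k * (g * y) * k⁻¹ := by rw [hc]
    _ = k * g * k⁻¹ * (k * y * k⁻¹) := by group

include hout in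
theorem exists_decomp (g : G) : ∃ m ∈ M, ∃ c : G,
    c ∈ Subgroup.centralizer ((Q : Subgroup G) : Set G) ∧ g = m * c := by
  have h : g ∈ ((M ⊔ Subgroup.centralizer ((Q : Subgroup G) : Set G) : Subgroup G) : Set G) := by
    rw [sup_centralizer_eq_top hout Q]; trivial
  rw [Subgroup.normal_mul] at h
  obtain ⟨m, hm, c, hc, rfl⟩ := h
  exact ⟨m, hm, c, hc, rfl⟩

include hout in
theorem comm_mem_of_mem_sylow {x : G} (hx : x ∈ (Q : Subgroup G)) (g : G) :
    g * x * g⁻¹ * x⁻¹ ∈ M := by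
  obtain ⟨m, hm, c, hc, rfl⟩ := exists_decomp hout Q g
  have hcx : c * x * c⁻¹ = x := by
    rw [mul_inv_eq_iff_eq_mul]
    exact (Subgroup.mem_centralizer_iff.mp hc x hx).symm
  have : m * c * x * (m * c)⁻¹ * x⁻¹ = m * ((c * x * c⁻¹) * m⁻¹ * x⁻¹) := by group
  rw [this, hcx]
  exact M.mul_mem hm (Subgroup.Normal.conj_mem ‹_› _ (M.inv_mem hm) x)

include hout in
theorem exists_conj_mem {g : G} (hg : g ∉ M) : ∃ m ∈ M,
    m⁻¹ * g * m ∈ Subgroup.centralizer ((Q : Subgroup G) : Set G) := by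
  obtain ⟨P, hP⟩ := exists_sylow_le (hout g hg)
  obtain ⟨k, hk⟩ := MulAction.exists_smul_eq G Q P
  obtain ⟨m, hm, c, hc, rfl⟩ := exists_decomp hout Q k
  refine ⟨m, hm, ?_⟩
  rw [Subgroup.mem_centralizer_iff]
  intro x hx
  have hcx : c * x * c⁻¹ = x := by
    rw [mul_inv_eq_iff_eq_mul]
    exact (Subgroup.mem_centralizer_iff.mp hc x hx).symm
  have hmem : m * x * m⁻¹ ∈ (P : Subgroup G) := by
    rw [← hk, Sylow.coe_subgroup_smul]
    refine ⟨x, hx, ?_⟩
    show m * c * x * (m * c)⁻¹ = m * x * m⁻¹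
    have : m * c * x * (m * c)⁻¹ = m * (c * x * c⁻¹) * m⁻¹ := by group
    rw [this, hcx]
  have hc' := mem_cent.mp (hP hmem)
  calc x * (m⁻¹ * g * m) = m⁻¹ * (m * x * m⁻¹ * g) * m := by group
    _ = m⁻¹ * (g * (m * x * m⁻¹)) * m := by rw [hc']
    _ = m⁻¹ * g * m * x := by group

include hout in
theorem centralizer_le_self {b : G} (hb : b ∈ M) (hq : q ∣ cs b) :
    Subgroup.centralizer (M : Set G) ≤ M := by
  intro u hu
  by_contra hum
  obtain ⟨Q⟩ : Nonempty (Sylow q G) := inferInstance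
  obtain ⟨m, hm, hmu⟩ := exists_conj_mem hout Q hum
  have hum' : m⁻¹ * u * m = u := by
    rw [mul_assoc, ← Subgroup.mem_centralizer_iff.mp hu m hm, inv_mul_cancel_left]
  rw [hum'] at hmu
  have hub : u * b ∉ M := fun h => hum ((Subgroup.mul_mem_cancel_right M hb).mp h)
  obtain ⟨m', hm', hmub⟩ := exists_conj_mem hout Q hub
  have hum'' : m'⁻¹ * u * m' = u := by
    rw [mul_assoc, ← Subgroup.mem_centralizer_iff.mp hu m' hm', inv_mul_cancel_left]
  have hb' : m'⁻¹ * b * m' ∈ Subgroup.centralizer ((Q : Subgroup G) : Set G) := by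
    have : m'⁻¹ * b * m' = u⁻¹ * (m'⁻¹ * (u * b) * m') := by
      calc m'⁻¹ * b * m' = (m'⁻¹ * u * m')⁻¹ * (m'⁻¹ * (u * b) * m') := by group
        _ = _ := by rw [hum'']
    rw [this]
    exact Subgroup.mul_mem _ (Subgroup.inv_mem _ hmu) hmub
  refine not_dvd_index_of_sylow_le Q (H := Subgroup.centralizer ({m'⁻¹ * b * m'} : Set G)) ?_ ?_
  · intro x hx
    exact mem_cent.mpr (Subgroup.mem_centralizer_iff.mp hb' x hx)
  · have e := cs_conj b m'⁻¹
    rw [inv_inv] at e
    show q ∣ cs (m'⁻¹ * b * m')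
    rw [e]
    exact hq

end Cover

end Cfsg.Agent.ClassSizeGraph76
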