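import Mathlib

/-!
# Two class sizes of `p`-regular elements

Elementary structure results for finite groups in which all noncentral `p`-regular
elements have centralizers of the same order.
-/

namespace Cfsg.Agent.TwoRegSizes38

variable {G : Type*} [Group G]

/-- Centralizer of one element. -/
abbrev Cn (x : G) : Subgroup G := Subgroup.centralizer ({x} : Set G)

theorem mem_cn {x g : G} : g ∈ Cn x ↔ g * x = x * g :=
  ⟨fun h => (Subgroup.mem_centralizer_iff.1 h x rfl).symm,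
   fun h => Subgroup.mem_centralizer_iff.2 fun y hy => by rw [Set.mem_singleton_iff.1 hy, h]⟩

theorem self_mem_cn (x : G) : x ∈ Cn x := mem_cn.2 rfl

/-- `x` has order a power of `q`. -/
def IsPE (q : ℕ) (x : G) : Prop := ∃ j : ℕ, orderOf x = q ^ j

theorem IsPE.pow {q : ℕ} (hq : q.Prime) {x : G} (h : IsPE q x) (n : ℕ) : IsPE q (x ^ n) := by
  obtain ⟨j, hj⟩ := h
  obtain ⟨i, -, hi⟩ := (Nat.dvd_prime_pow hq).1 (hj ▸ orderOf_pow_dvd n : orderOf (x ^ n) ∣ q ^ j)
  exact ⟨i, hi⟩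

theorem IsPE.of_mem_pgroup {q : ℕ} [Fact q.Prime] {H : Subgroup G} (hH : IsPGroup q H) {x : G}
    (hx : x ∈ H) : IsPE q x := by
  obtain ⟨k, hk⟩ := (IsPGroup.iff_orderOf.1 hH) ⟨x, hx⟩
  exact ⟨k, by simpa using hk⟩

theorem IsPE.coprime {q n : ℕ} {x : G} (h : IsPE q x) (hq : q.Coprime n) :
    (orderOf x).Coprime n := by
  obtain ⟨j, hj⟩ := h
  rw [hj]; exact hq.pow_left j

theorem IsPE.coprime_coprime {q r : ℕ} {x y : G} (hx : IsPE q x) (hy : IsPE r y)
    (h : q.Coprime r) : (orderOf x).Coprime (orderOf y) :=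
  hx.coprime (hy.coprime h.symm).symm

theorem exists_primePow_not_mem [Finite G] {K : Subgroup G} {x : G} (hx : x ∉ K) :
    ∃ q k : ℕ, q.Prime ∧ q ∣ orderOf x ∧ x ^ k ∉ K ∧ IsPE q (x ^ k) := by
  classical
  have hex : ∃ n, 0 < n ∧ x ^ n ∈ K :=
    ⟨orderOf x, orderOf_pos x, by rw [pow_orderOf_eq_one]; exact K.one_mem⟩
  set e := Nat.find hex
  have he : 0 < e ∧ x ^ e ∈ K := Nat.find_spec hex
  have hdiv : ∀ n, x ^ n ∈ K → e ∣ n := by
    intro n hn
    by_contra hc
    have hpos : 0 < n % e := Nat.pos_of_ne_zero fun h => hc (Nat.dvd_of_mod_eq_zero h)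
    have hmem : x ^ (n % e) ∈ K := by
      have h1 : x ^ n = (x ^ e) ^ (n / e) * x ^ (n % e) := by
        rw [← pow_mul, ← pow_add, Nat.div_add_mod]
      rw [h1] at hn
      exact (K.mul_mem_cancel_left (K.pow_mem he.2 _)).1 hn
    exact absurd (Nat.find_min' hex ⟨hpos, hmem⟩) (not_le.2 (Nat.mod_lt _ he.1))
  have he1 : e ≠ 1 := fun h => hx (by simpa [h] using he.2)
  obtain ⟨q, hq, hqe⟩ := Nat.exists_prime_and_dvd he1
  have hd : e ∣ orderOf x := hdiv _ (by rw [pow_orderOf_eq_one]; exact K.one_mem)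
  have hd0 : orderOf x ≠ 0 := (orderOf_pos x).ne'
  refine ⟨q, orderOf x / q ^ (orderOf x).factorization q, hq, hqe.trans hd, ?_,
    (orderOf x).factorization q, ?_⟩
  · intro hmem
    exact Nat.not_dvd_ordCompl hq hd0 (hqe.trans (hdiv _ hmem))
  · have h1 : q ^ (orderOf x).factorization q * (orderOf x / q ^ (orderOf x).factorization q)
        = orderOf x := Nat.ordProj_mul_ordCompl_eq_self _ _
    rw [orderOf_pow, Nat.gcd_eq_right (Dvd.intro_left _ h1)]
    exact Nat.div_eq_of_eq_mul_left (Nat.ordCompl_pos q hd0) h1.symm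

/-- A prime divisor of the order of a quotient gives an element of prime power order outside. -/
theorem exists_primePow_of_dvd_relIndex [Finite G] {N C : Subgroup G}
    [(N.subgroupOf C).Normal] {q : ℕ} (hq : q.Prime) (h : q ∣ N.relIndex C) :
    ∃ v ∈ C, v ∉ N ∧ IsPE q v := by
  haveI : Fact q.Prime := ⟨hq⟩
  have h' : q ∣ Nat.card (C ⧸ N.subgroupOf C) := h
  obtain ⟨vbar, hv⟩ := exists_prime_orderOf_dvd_card' q h'
  obtain ⟨v, rfl⟩ := QuotientGroup.mk'_surjective (N.subgroupOf C) vbar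
  have hvN : (v : G) ∉ N := fun hm => by
    have : (QuotientGroup.mk' (N.subgroupOf C)) v = 1 := by
      simpa using (QuotientGroup.eq_one_iff v).2 (Subgroup.mem_subgroupOf.2 hm)
    rw [this, orderOf_one] at hv
    exact hq.ne_one hv.symm
  obtain ⟨q', k, hq', -, hk, j, hj⟩ := exists_primePow_not_mem hvN
  refine ⟨(v : G) ^ k, C.pow_mem v.2 k, hk, ?_⟩
  have hne : (QuotientGroup.mk' (N.subgroupOf C)) (v ^ k) ≠ 1 := fun h1 => hk (by
    simpa [Subgroup.mem_subgroupOf] using (QuotientGroup.eq_one_iff (v ^ k)).1 h1)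
  rw [map_pow] at hne
  have h2 : q ∣ q' ^ j := by
    have h3 : orderOf (((QuotientGroup.mk' (N.subgroupOf C)) v) ^ k) ∣ q' ^ j := by
      rw [← map_pow, ← hj, ← SubmonoidClass.coe_pow, Subgroup.orderOf_coe]
      exact orderOf_map_dvd _ _
    have h4 : orderOf (((QuotientGroup.mk' (N.subgroupOf C)) v) ^ k) = q := by
      have h5 := orderOf_pow_dvd (x := (QuotientGroup.mk' (N.subgroupOf C)) v) k
      rw [hv] at h5
      rcases hq.eq_one_or_self_of_dvd _ h5 with h6 | h6
      · exact absurd (orderOf_eq_one_iff.1 h6) hne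
      · exact h6
    exact h4 ▸ h3
  have := (Nat.prime_dvd_prime_iff_eq hq hq').1 (hq.dvd_of_dvd_pow h2)
  subst this
  exact ⟨j, hj⟩

/-- Conjugation into a central translate, coprime orders: the elements commute. -/
theorem comm_of_coprime {g w z : G} (hz : z ∈ Subgroup.center G) (h : g * w * g⁻¹ = z * w)
    (hco : (orderOf g).Coprime (orderOf w)) : g * w = w * g := by
  have hc : Commute z w := (Subgroup.mem_center_iff.1 hz w).symm
  have h1 : z ^ orderOf w = 1 := by
    have : (z * w) ^ orderOf w = 1 := by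
      rw [← h, conj_pow, pow_orderOf_eq_one]; group
    rwa [hc.mul_pow, pow_orderOf_eq_one, mul_one] at this
  have h2 : ∀ n : ℕ, g ^ n * w * (g ^ n)⁻¹ = z ^ n * w := by
    intro n
    induction n with
    | zero => simp
    | succ n ih =>
      have hzg : g * z ^ n = z ^ n * g := Subgroup.mem_center_iff.1 (pow_mem hz n) g
      calc g ^ (n + 1) * w * (g ^ (n + 1))⁻¹ = g * (g ^ n * w * (g ^ n)⁻¹) * g⁻¹ := by
            rw [pow_succ']; group
        _ = z ^ n * (g * w * g⁻¹) := by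
            rw [ih, ← mul_assoc g (z ^ n) w, hzg]; group
        _ = z ^ (n + 1) * w := by rw [h, pow_succ, mul_assoc]
  have h3 : z ^ orderOf g = 1 := by
    have := h2 (orderOf g)
    simpa [pow_orderOf_eq_one] using this.symm
  have h4 : orderOf z = 1 := Nat.eq_one_of_dvd_coprimes hco (orderOf_dvd_of_pow_eq_one h3)
    (orderOf_dvd_of_pow_eq_one h1)
  rw [orderOf_eq_one_iff.1 h4, one_mul, mul_inv_eq_iff_eq_mul] at h
  exact h

/-- The central quotient map. -/
abbrev bar : G →* G ⧸ Subgroup.center G := QuotientGroup.mk' (Subgroup.center G)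

theorem bar_eq_one {x : G} : bar x = 1 ↔ x ∈ Subgroup.center G := QuotientGroup.eq_one_iff x

theorem bar_eq_bar {x y : G} : bar x = bar y ↔ ∃ z ∈ Subgroup.center G, x = z * y := by
  constructor
  · intro h
    refine ⟨x * y⁻¹, bar_eq_one.1 ?_, by group⟩
    rw [map_mul, map_inv, h, mul_inv_cancel]
  · rintro ⟨z, hz, rfl⟩
    rw [map_mul, bar_eq_one.2 hz, one_mul]

theorem comm_of_bar_comm {g w : G} (h : bar g * bar w = bar w * bar g)
    (hco : (orderOf g).Coprime (orderOf w)) : g * w = w * g := by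
  have : bar (g * w * g⁻¹) = bar w := by
    rw [map_mul, map_mul, map_inv, h]; group
  obtain ⟨z, hz, hzw⟩ := bar_eq_bar.1 this
  exact comm_of_coprime hz hzw hco

theorem cn_center_mul {z w : G} (hz : z ∈ Subgroup.center G) : Cn (z * w) = Cn w := by
  have hzg : ∀ g : G, g * z = z * g := fun g => Subgroup.mem_center_iff.1 hz g
  ext g
  rw [mem_cn, mem_cn]
  have : g * (z * w) = z * (g * w) := by rw [← mul_assoc, hzg g, mul_assoc]
  rw [this, mul_assoc z w g]
  exact mul_left_cancel_iff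

theorem cn_eq_of_bar_eq {v w : G} (h : bar v = bar w) : Cn v = Cn w := by
  obtain ⟨z, hz, rfl⟩ := bar_eq_bar.1 h
  exact cn_center_mul hz

theorem conj_mem_cn {x w : G} (g : G) : g * w * g⁻¹ ∈ Cn (g * x * g⁻¹) ↔ w ∈ Cn x := by
  rw [mem_cn, mem_cn]
  constructor <;> intro h
  · have := congrArg (fun t => g⁻¹ * t * g) h
    simpa [mul_assoc] using this
  · calc g * w * g⁻¹ * (g * x * g⁻¹) = g * (w * x) * g⁻¹ := by group
      _ = g * (x * w) * g⁻¹ := by rw [h]
      _ = g * x * g⁻¹ * (g * w * g⁻¹) := by group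

theorem mem_normalizer_cn {x g : G} (h : Cn (g * x * g⁻¹) = Cn x) :
    g ∈ Subgroup.normalizer (Cn x : Set G) := by
  rw [Subgroup.mem_normalizer_iff]
  intro w
  have := conj_mem_cn (x := x) (w := w) g
  rw [h] at this
  exact this.symm

theorem normalizer_of_bar_comm {x g : G} (h : bar g * bar x = bar x * bar g) :
    g ∈ Subgroup.normalizer (Cn x : Set G) :=
  mem_normalizer_cn (cn_eq_of_bar_eq (by rw [map_mul, map_mul, map_inv, h]; group))

/-- All noncentral `p`-regular elements have centralizers of the same order. -/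
structure Hyp (G : Type*) [Group G] (p : ℕ) : Prop where
  prime : p.Prime
  card_eq : ∀ x y : G, (orderOf x).Coprime p → (orderOf y).Coprime p →
    x ∉ Subgroup.center G → y ∉ Subgroup.center G → Nat.card (Cn x) = Nat.card (Cn y)

/-- Noncentral `p`-regular elements. -/
def Reg (p : ℕ) (x : G) : Prop := (orderOf x).Coprime p ∧ x ∉ Subgroup.center G

/-- Primes occurring in noncentral `p`-regular elements of prime power order. -/
def InPi (G : Type*) [Group G] (p q : ℕ) : Prop := q.Prime ∧ ∃ x : G, Reg p x ∧ IsPE q x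

theorem InPi.ne {p q : ℕ} (h : InPi G p q) : q ≠ p := by
  obtain ⟨hq, x, ⟨hx, hxc⟩, j, hj⟩ := h
  rintro rfl
  rw [hj] at hx
  rcases Nat.eq_zero_or_pos j with rfl | hjp
  · rw [pow_zero, orderOf_eq_one_iff] at hj
    exact hxc (hj ▸ Subgroup.one_mem _)
  · exact hq.ne_one ((Nat.coprime_self q).1 ((Nat.coprime_pow_left_iff hjp q q).1 hx))

variable [Finite G] {p : ℕ}

theorem reg_pow {x : G} (hx : Reg p x) {k : ℕ} (hk : x ^ k ∉ Subgroup.center G) : Reg p (x ^ k) :=
  ⟨hx.1.coprime_dvd_left (orderOf_pow_dvd k), hk⟩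

theorem reg_conj {x : G} (hx : Reg p x) (g : G) : Reg p (g * x * g⁻¹) := by
  constructor
  · have : orderOf (g * x * g⁻¹) = orderOf x := by
      simpa using MulEquiv.orderOf_eq (MulAut.conj g) x
    rw [this]; exact hx.1
  · intro h
    apply hx.2
    have h2 : g * x * g⁻¹ = x := by
      have h3 := congrArg (fun t => g⁻¹ * t) (Subgroup.mem_center_iff.1 h g)
      simpa [mul_assoc] using h3
    rwa [h2] at h

theorem Hyp.eq_of_le (H : Hyp G p) {x y : G} (hx : Reg p x) (hy : Reg p y) (h : Cn x ≤ Cn y) :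
    Cn x = Cn y :=
  Subgroup.eq_of_le_of_card_ge h (H.card_eq x y hx.1 hy.1 hx.2 hy.2).ge

theorem cn_le_cn_pow (x : G) (k : ℕ) : Cn x ≤ Cn (x ^ k) := fun g hg => by
  rw [mem_cn] at hg ⊢
  exact Commute.pow_right hg k

theorem Hyp.cn_pow (H : Hyp G p) {x : G} (hx : Reg p x) {k : ℕ}
    (hk : x ^ k ∉ Subgroup.center G) : Cn (x ^ k) = Cn x :=
  (H.eq_of_le hx (reg_pow hx hk) (cn_le_cn_pow x k)).symm

theorem Hyp.exists_primary (H : Hyp G p) {x : G} (hx : Reg p x) :
    ∃ q k, InPi G p q ∧ Reg p (x ^ k) ∧ IsPE q (x ^ k) ∧ Cn (x ^ k) = Cn x := by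
  obtain ⟨q, k, hq, -, hk, hpe⟩ := exists_primePow_not_mem hx.2
  exact ⟨q, k, ⟨hq, _, reg_pow hx hk, hpe⟩, reg_pow hx hk, hpe, H.cn_pow hx hk⟩

theorem center_le_cn (x : G) : Subgroup.center G ≤ Cn x := Subgroup.center_le_centralizer _

theorem Hyp.exists_mem_cn (H : Hyp G p) {x : G} (hx : Reg p x) {q : ℕ} (hq : InPi G p q) :
    ∃ y ∈ Cn x, Reg p y ∧ IsPE q y := by
  obtain ⟨hqp, y₀, hy₀, j, hj⟩ := id hq
  have h0 : q ∣ (Subgroup.center G).relIndex (Cn y₀) := by
    have h1 : orderOf (QuotientGroup.mk' ((Subgroup.center G).subgroupOf (Cn y₀))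
        ⟨y₀, self_mem_cn y₀⟩) ∣ q ^ j := by
      rw [← hj, ← Subgroup.orderOf_mk y₀ (self_mem_cn y₀)]; exact orderOf_map_dvd _ _
    obtain ⟨i, -, hi⟩ := (Nat.dvd_prime_pow hqp).1 h1
    have hne : i ≠ 0 := by
      rintro rfl
      rw [pow_zero, orderOf_eq_one_iff] at hi
      exact hy₀.2 (by simpa [Subgroup.mem_subgroupOf] using (QuotientGroup.eq_one_iff _).1 hi)
    exact (dvd_pow_self q hne).trans (hi ▸ orderOf_dvd_natCard _)
  have h2 : (Subgroup.center G).relIndex (Cn x) = (Subgroup.center G).relIndex (Cn y₀) := by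
    have e1 := Subgroup.card_mul_index ((Subgroup.center G).subgroupOf (Cn x))
    have e2 := Subgroup.card_mul_index ((Subgroup.center G).subgroupOf (Cn y₀))
    rw [Nat.card_congr (Subgroup.subgroupOfEquivOfLe (center_le_cn x)).toEquiv] at e1
    rw [Nat.card_congr (Subgroup.subgroupOfEquivOfLe (center_le_cn y₀)).toEquiv] at e2
    rw [H.card_eq x y₀ hx.1 hy₀.1 hx.2 hy₀.2, ← e2] at e1
    exact Nat.eq_of_mul_eq_mul_left Nat.card_pos e1
  rw [← h2] at h0
  haveI : ((Subgroup.center G).subgroupOf (Cn x)).Normal := by infer_instance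
  obtain ⟨v, hv, hvc, hpe⟩ := exists_primePow_of_dvd_relIndex hqp h0
  exact ⟨v, hv, ⟨hpe.coprime ((Nat.coprime_primes hqp H.prime).2 hq.ne), hvc⟩, hpe⟩

/-- With two relevant primes, `p`-regular elements of a centralizer are central in it. -/
theorem Hyp.le_cn (H : Hyp G p) {q₁ q₂ : ℕ} (h1 : InPi G p q₁) (h2 : InPi G p q₂) (h12 : q₁ ≠ q₂)
    {x w : G} (hx : Reg p x) (hw : w ∈ Cn x) (hwp : (orderOf w).Coprime p) : Cn x ≤ Cn w := by
  obtain ⟨q, k, hq, hxk, hqk, hck⟩ := H.exists_primary hx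
  have step : ∀ (s s' : ℕ), s.Prime → s'.Prime → s ≠ s' → ∀ a b : G, Reg p a → IsPE s a →
      IsPE s' b → b ∈ Cn a → (orderOf b).Coprime p → Cn a ≤ Cn b := by
    intro s s' hs hs' hne a b ha has hbs hb hbp
    by_cases hbc : b ∈ Subgroup.center G
    · intro g _
      exact mem_cn.2 (Subgroup.mem_center_iff.1 hbc g)
    have hcomm : Commute a b := (mem_cn.1 hb).symm
    have hco : (orderOf a).Coprime (orderOf b) :=
      has.coprime_coprime hbs ((Nat.coprime_primes hs hs').2 hne)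
    have hab : Reg p (a * b) := by
      refine ⟨?_, fun hc => ha.2 ?_⟩
      · rw [hcomm.orderOf_mul_eq_mul_orderOf_of_coprime hco]
        exact Nat.Coprime.mul_left ha.1 hbp
      · obtain ⟨u, hu⟩ := exists_pow_eq_self_of_coprime (n := orderOf b) (x := a) hco.symm
        rw [← hu]
        have : (a * b) ^ orderOf b = a ^ orderOf b := by
          rw [hcomm.mul_pow, pow_orderOf_eq_one, mul_one]
        exact pow_mem (this ▸ pow_mem hc _) u
    have e1 : Cn (a * b) = Cn a := by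
      obtain ⟨u, hu⟩ := exists_pow_eq_self_of_coprime (n := orderOf b) (x := a) hco.symm
      have : (a * b) ^ (orderOf b * u) = a := by
        rw [pow_mul, hcomm.mul_pow, pow_orderOf_eq_one, mul_one, hu]
      conv_rhs => rw [← this]
      exact (H.cn_pow hab (by rw [this]; exact ha.2)).symm
    intro g hg
    rw [← e1] at hg
    obtain ⟨u, hu⟩ := exists_pow_eq_self_of_coprime (n := orderOf a) (x := b) hco
    have : (a * b) ^ (orderOf a * u) = b := by
      rw [pow_mul, hcomm.mul_pow, pow_orderOf_eq_one, one_mul, hu]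
    rw [← this]
    exact cn_le_cn_pow _ _ hg
  intro g hg
  rw [mem_cn]
  by_contra hne
  have hgw : w ∉ Cn g := fun h => hne (mem_cn.1 h).symm
  obtain ⟨s, i, hs, -, hi, hpi⟩ := exists_primePow_not_mem hgw
  apply hi
  have hwi : w ^ i ∈ Cn (x ^ k) := by rw [hck]; exact pow_mem hw i
  have hip : (orderOf (w ^ i)).Coprime p := hwp.coprime_dvd_left (orderOf_pow_dvd i)
  rw [mem_cn]
  apply Eq.symm
  rw [← mem_cn]
  by_cases hsq : s = q
  · subst hsq
    obtain ⟨r, hr, hrs⟩ : ∃ r, InPi G p r ∧ r ≠ s := by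
      by_cases hh : q₁ = s
      · exact ⟨q₂, h2, fun h => h12 (hh.trans h.symm)⟩
      · exact ⟨q₁, h1, hh⟩
    obtain ⟨y, hy, hyR, hyr⟩ := H.exists_mem_cn hxk hr
    have hCy : Cn (x ^ k) = Cn y :=
      H.eq_of_le hxk hyR (step s r hs hr.1 hrs.symm _ _ hxk hqk hyr hy hyR.1)
    have := step r s hr.1 hs hrs y (w ^ i) hyR hyr hpi (hCy ▸ hwi) hip
    exact this (hCy ▸ hck ▸ hg)
  · exact step q s hq.1 hs (Ne.symm hsq) _ _ hxk hqk hpi hwi hip (hck ▸ hg)

end Cfsg.Agent.TwoRegSizes38
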