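import Mathlib
import Cfsg.Agent.Lib.ClassSizeGraph76
import Cfsg.Agent.Lib.TwoRegSizes38

/-!
# Four class sizes `1, n, m, n * m` with `n`, `m` coprime: basic lemmas
-/

set_option autoImplicit false

namespace Cfsg.Agent.CaminaSizes63

open Cfsg.Agent.ClassSizeGraph76 (cs cls)
open Cfsg.Agent.TwoRegSizes38 (Cn IsPE mem_cn self_mem_cn)

variable {G : Type*} [Group G]

theorem cn_le_iff {a : G} {H : Subgroup G} : H ≤ Cn a ↔ ∀ g ∈ H, g * a = a * g :=
  ⟨fun h g hg => mem_cn.1 (h hg), fun h g hg => mem_cn.2 (h g hg)⟩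

theorem mem_cn_symm {a b : G} (h : a ∈ Cn b) : b ∈ Cn a := mem_cn.2 (mem_cn.1 h).symm

theorem mem_center_iff_cn {a : G} : a ∈ Subgroup.center G ↔ Cn a = ⊤ := by
  rw [Subgroup.mem_center_iff, eq_top_iff, cn_le_iff]
  exact ⟨fun h g _ => h g, fun h g => h g (Subgroup.mem_top g)⟩

theorem cs_eq_one_iff {a : G} : cs a = 1 ↔ a ∈ Subgroup.center G := by
  rw [mem_center_iff_cn]; exact Subgroup.index_eq_one

theorem cs_dvd_of_le {a b : G} (h : Cn a ≤ Cn b) : cs b ∣ cs a := Subgroup.index_dvd_of_le h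

theorem cn_eq_of_le [Finite G] {a b : G} (h : Cn a ≤ Cn b) (he : cs a = cs b) : Cn a = Cn b := by
  refine Subgroup.eq_of_le_of_card_ge h ?_
  have h1 := (Cn a).card_mul_index.trans (Cn b).card_mul_index.symm
  have h2 : 0 < cs b := ClassSizeGraph76.cs_pos b
  rw [show (Cn a).index = cs a from rfl, show (Cn b).index = cs b from rfl, he] at h1
  exact (Nat.eq_of_mul_eq_mul_right h2 h1).ge

theorem isPE_conj {p : ℕ} {a : G} (h : IsPE p a) (k : G) : IsPE p (k * a * k⁻¹) := by
  obtain ⟨j, hj⟩ := h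
  exact ⟨j, (MulEquiv.orderOf_eq (MulAut.conj k) a).trans hj⟩

theorem cls_symm {a b : G} (h : b ∈ cls a) : a ∈ cls b := by
  obtain ⟨k, rfl⟩ := h
  exact ⟨k⁻¹, by group⟩

theorem cs_of_mem_cls {a b : G} (h : b ∈ cls a) : cs b = cs a := by
  obtain ⟨k, rfl⟩ := h
  exact ClassSizeGraph76.cs_conj a k

theorem isPE_of_mem_cls {p : ℕ} {a b : G} (ha : IsPE p a) (h : b ∈ cls a) : IsPE p b := by
  obtain ⟨k, rfl⟩ := h
  exact isPE_conj ha k

theorem conj_not_center {a : G} (ha : a ∉ Subgroup.center G) (k : G) :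
    k * a * k⁻¹ ∉ Subgroup.center G := by
  rw [← cs_eq_one_iff] at ha ⊢
  rwa [ClassSizeGraph76.cs_conj]

variable [Finite G]

/-- For elements with coprime class sizes, one commuting pair of conjugates forces commuting. -/
theorem comm_of_conj {x y x' y' : G} (h : (cs x).Coprime (cs y)) (hx : x' ∈ cls x) (hy : y' ∈ cls y)
    (hc : x' ∈ Cn y') : x ∈ Cn y := by
  obtain ⟨d, rfl, rfl⟩ := ClassSizeGraph76.exists_conj_pair h hx hy
  exact (TwoRegSizes38.conj_mem_cn d).1 hc

/-- An element of `p`-power order has a conjugate in every subgroup of index prime to `p`. -/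
theorem exists_conj_mem {p : ℕ} (hp : p.Prime) {z : G} (hz : IsPE p z) {H : Subgroup G}
    (hH : ¬ p ∣ H.index) : ∃ k : G, k * z * k⁻¹ ∈ H := by
  haveI : Fact p.Prime := ⟨hp⟩
  obtain ⟨j, hj⟩ := hz
  have hzg : IsPGroup p (Subgroup.zpowers z) :=
    IsPGroup.of_card (n := j) (by rw [Nat.card_zpowers, hj])
  obtain ⟨P, hP⟩ := hzg.exists_le_sylow
  obtain ⟨S, hS⟩ := ClassSizeGraph76.exists_sylow_le hH
  obtain ⟨k, hk⟩ := MulAction.exists_smul_eq G P S
  refine ⟨k, hS ?_⟩
  rw [← hk, Sylow.coe_subgroup_smul]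
  exact ⟨z, hP (Subgroup.mem_zpowers z), rfl⟩

/-- An element of `p`-power order commutes with a conjugate of any element whose class size is
prime to `p`. -/
theorem exists_conj_comm {p : ℕ} (hp : p.Prime) {z : G} (hz : IsPE p z) {a : G}
    (ha : ¬ p ∣ cs a) : ∃ a' ∈ cls a, z ∈ Cn a' := by
  obtain ⟨k, hk⟩ := exists_conj_mem hp hz (H := Cn a) ha
  refine ⟨k⁻¹ * a * k, ⟨k⁻¹, by simp⟩, ?_⟩
  have := (TwoRegSizes38.conj_mem_cn (x := a) k⁻¹).2 hk
  simpa [mul_assoc] using this

theorem isPE_eq_one_or {p r : ℕ} (hp : p.Prime) (hr : r.Prime) {a : G} (h1 : IsPE p a)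
    (h2 : IsPE r a) (hne : p ≠ r) : a = 1 := by
  have hco : (orderOf a).Coprime (orderOf a) :=
    h1.coprime_coprime h2 ((Nat.coprime_primes hp hr).2 hne)
  exact orderOf_eq_one_iff.1 ((Nat.coprime_self _).1 hco)

/-- The centralizer of a product of two commuting elements of coprime order. -/
theorem cn_mul {a b : G} (hc : Commute a b) (hco : (orderOf a).Coprime (orderOf b)) :
    Cn (a * b) = Cn a ⊓ Cn b := by
  refine le_antisymm (le_inf ?_ ?_) ?_
  · obtain ⟨u, hu⟩ := exists_pow_eq_self_of_coprime (n := orderOf b) (x := a) hco.symm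
    have : (a * b) ^ (orderOf b * u) = a := by
      rw [pow_mul, hc.mul_pow, pow_orderOf_eq_one, mul_one, hu]
    conv_rhs => rw [← this]
    exact TwoRegSizes38.cn_le_cn_pow _ _
  · obtain ⟨u, hu⟩ := exists_pow_eq_self_of_coprime (n := orderOf a) (x := b) hco
    have : (a * b) ^ (orderOf a * u) = b := by
      rw [pow_mul, hc.mul_pow, pow_orderOf_eq_one, one_mul, hu]
    conv_rhs => rw [← this]
    exact TwoRegSizes38.cn_le_cn_pow _ _
  · intro g hg
    exact mem_cn.2 (Commute.mul_right (mem_cn.1 hg.1) (mem_cn.1 hg.2))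

theorem cn_mul_isPE {p r : ℕ} (hp : p.Prime) (hr : r.Prime) (hne : p ≠ r) {a b : G}
    (ha : IsPE p a) (hb : IsPE r b) (h : b ∈ Cn a) : Cn (a * b) = Cn a ⊓ Cn b :=
  cn_mul (mem_cn.1 h).symm (ha.coprime_coprime hb ((Nat.coprime_primes hp hr).2 hne))

omit [Finite G] in
theorem index_inf (H K : Subgroup G) : (H ⊓ K).index = K.relIndex H * H.index := by
  rw [← Subgroup.relIndex_mul_index (inf_le_left : H ⊓ K ≤ H), Subgroup.inf_relIndex_left]

omit [Finite G] in
/-- The class size of an element inside a subgroup. -/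
theorem index_cn_subgroup (H : Subgroup G) (v : H) :
    (Subgroup.centralizer ({v} : Set H)).index = (Cn (v : G)).relIndex H := by
  rw [Subgroup.relIndex]
  congr 1
  ext g
  rw [Subgroup.mem_subgroupOf, mem_cn, Subgroup.mem_centralizer_singleton_iff, Subtype.ext_iff]
  simp [eq_comm]

/-- An element of `r`-power order in a subgroup lies in a normal subgroup of index prime to `r`. -/
theorem mem_of_isPE_of_not_dvd {r : ℕ} (hr : r.Prime) {N C : Subgroup G}
    [(N.subgroupOf C).Normal] (h : ¬ r ∣ N.relIndex C) {v : G} (hv : v ∈ C) (hpe : IsPE r v) :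
    v ∈ N := by
  have h1 : (⟨v, hv⟩ : C) ^ N.relIndex C ∈ N.subgroupOf C :=
    Subgroup.pow_index_mem (N.subgroupOf C) _
  have h2 : v ^ N.relIndex C ∈ N := by simpa [Subgroup.mem_subgroupOf] using h1
  obtain ⟨u, hu⟩ := exists_pow_eq_self_of_coprime (n := N.relIndex C) (x := v)
    ((hpe.coprime ((Nat.Prime.coprime_iff_not_dvd hr).2 h)).symm)
  rw [← hu]
  exact pow_mem h2 u

/-- `r`-elements of the centralizer of `x` are central. -/
def Full (r : ℕ) (x : G) : Prop := ¬ r ∣ (Subgroup.center G).relIndex (Cn x)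

theorem mem_center_of_full {r : ℕ} (hr : r.Prime) {x : G} (hf : Full r x) {v : G} (hv : v ∈ Cn x)
    (hpe : IsPE r v) : v ∈ Subgroup.center G :=
  mem_of_isPE_of_not_dvd hr hf hv hpe

theorem full_of_forall {r : ℕ} (hr : r.Prime) {x : G}
    (h : ∀ v ∈ Cn x, IsPE r v → v ∈ Subgroup.center G) : Full r x := fun hd => by
  obtain ⟨v, hv, hvc, hpe⟩ := TwoRegSizes38.exists_primePow_of_dvd_relIndex hr hd
  exact hvc (h v hv hpe)

theorem exists_of_not_full {r : ℕ} (hr : r.Prime) {x : G} (h : ¬ Full r x) :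
    ∃ v ∈ Cn x, v ∉ Subgroup.center G ∧ IsPE r v :=
  TwoRegSizes38.exists_primePow_of_dvd_relIndex hr (not_not.1 h)

theorem relIndex_mul_cs (a b : G) :
    (Subgroup.center G).relIndex (Cn a) * cs a = (Subgroup.center G).relIndex (Cn b) * cs b := by
  show _ * (Cn a).index = _ * (Cn b).index
  rw [Subgroup.relIndex_mul_index (TwoRegSizes38.center_le_cn a),
    Subgroup.relIndex_mul_index (TwoRegSizes38.center_le_cn b)]

/-- Fullness passes to elements with bigger class size. -/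
theorem full_of_dvd {r : ℕ} {a b : G} (hd : cs a ∣ cs b) (hf : Full r a) : Full r b := by
  obtain ⟨c, hc⟩ := hd
  have h := relIndex_mul_cs a b
  rw [hc, mul_comm (cs a) c, ← mul_assoc] at h
  exact fun hr => hf ((Nat.eq_of_mul_eq_mul_right (ClassSizeGraph76.cs_pos a) h) ▸
    hr.mul_right c)

/-- Fullness only depends on the `r`-part of the class size. -/
theorem full_of_mul {r : ℕ} (hr : r.Prime) {a b : G} {c : ℕ} (hc : cs b = cs a * c) (hrc : ¬ r ∣ c)
    (hf : Full r b) : Full r a := by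
  have h := relIndex_mul_cs a b
  rw [hc, mul_comm (cs a) c, ← mul_assoc] at h
  intro hd
  rw [Nat.eq_of_mul_eq_mul_right (ClassSizeGraph76.cs_pos a) h] at hd
  rcases hr.dvd_mul.1 hd with h1 | h1
  · exact hf h1
  · exact hrc h1

/-- An element whose prime power parts all lie in `H` lies in `H`. -/
theorem mem_of_parts {H : Subgroup G} {g : G}
    (h : ∀ (r k : ℕ), r.Prime → IsPE r (g ^ k) → g ^ k ∈ H) : g ∈ H := by
  by_contra hg
  obtain ⟨r, k, hr, -, hk, hpe⟩ := TwoRegSizes38.exists_primePow_not_mem hg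
  exact hk (h r k hr hpe)

/-- A prime dividing no class size has all its elements central. -/
theorem mem_center_of_not_dvd {s : ℕ} (hs : s.Prime) (h : ∀ g : G, ¬ s ∣ cs g) {v : G}
    (hv : IsPE s v) : v ∈ Subgroup.center G := by
  haveI : Fact s.Prime := ⟨hs⟩
  obtain ⟨j, hj⟩ := hv
  have hzg : IsPGroup s (Subgroup.zpowers v) :=
    IsPGroup.of_card (n := j) (by rw [Nat.card_zpowers, hj])
  obtain ⟨S, hS⟩ := hzg.exists_le_sylow
  have htop : Subgroup.centralizer ((S : Subgroup G) : Set G) = ⊤ := by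
    refine ClassSizeGraph76.eq_top_of_conj_cover _ fun g => ?_
    obtain ⟨S', hS'⟩ := ClassSizeGraph76.exists_sylow_le (h g)
    obtain ⟨k, hk⟩ := MulAction.exists_smul_eq G S' S
    refine ⟨k, Subgroup.mem_centralizer_iff.2 ?_⟩
    intro z hz
    rw [SetLike.mem_coe, ← hk, Sylow.coe_subgroup_smul] at hz
    obtain ⟨y, hy, rfl⟩ := hz
    have hc := mem_cn.1 (show y ∈ Cn g from hS' hy)
    show k * y * k⁻¹ * (k * g * k⁻¹) = k * g * k⁻¹ * (k * y * k⁻¹)
    calc k * y * k⁻¹ * (k * g * k⁻¹) = k * (y * g) * k⁻¹ := by group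
      _ = k * (g * y) * k⁻¹ := by rw [hc]
      _ = _ := by group
  rw [Subgroup.mem_center_iff]
  intro g
  have : g ∈ Subgroup.centralizer ((S : Subgroup G) : Set G) := htop ▸ Subgroup.mem_top g
  exact ((Subgroup.mem_centralizer_iff.1 this) v (hS (Subgroup.mem_zpowers v))).symm

/-- If a prime divides some class size, it has a noncentral element. -/
theorem exists_not_center {r : ℕ} (hr : r.Prime) {g : G} (hg : r ∣ cs g) :
    ∃ w : G, IsPE r w ∧ w ∉ Subgroup.center G := by
  haveI : Fact r.Prime := ⟨hr⟩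
  by_contra h
  push Not at h
  let S : Sylow r G := default
  refine ClassSizeGraph76.not_dvd_index_of_sylow_le S (H := Cn g) (fun z hz => ?_) hg
  exact mem_cn.2 (Subgroup.mem_center_iff.1 (h z (IsPE.of_mem_pgroup S.2 hz)) g).symm

end Cfsg.Agent.CaminaSizes63
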