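import Cfsg.Agent.Lib.CaminaSizes63Base
import Cfsg.Agent.Lib.AbelCent88Height
import Cfsg.Agent.S4035

/-!
# Class sizes `1, p^a, q^b, p^a * q^b`: the case of a `p`-element with class size `p^a`
-/

set_option autoImplicit false

namespace Cfsg.Agent.CaminaSizes63

open Cfsg.Agent.ClassSizeGraph76 (cs cls)
open Cfsg.Agent.TwoRegSizes38 (Cn IsPE mem_cn self_mem_cn)

universe u

variable {G : Type u} [Group G] [Finite G] {p q n m : ℕ}

namespace PP

/-- In the centralizer of a `p`-element with class size `p^a`, `p`-elements and `q`-elements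
commute. -/
theorem comm_in_cn (P : PP G p q n m) {x : G} (hx : IsPE p x) (hxn : cs x = n) {a b : G}
    (ha : a ∈ Cn x) (hap : IsPE p a) (hb : b ∈ Cn x) (hbq : IsPE q b) : a * b = b * a := by
  haveI : Fact p.Prime := ⟨P.hp⟩
  let S : Sylow p (Cn x) := default
  have hreg : ∀ v : Cn x, (orderOf v).Coprime p → ¬ p ∣ (ConjClasses.mk v).carrier.ncard := by
    intro v hv
    rw [S4034.ncard_class, index_cn_subgroup]
    obtain ⟨j, hj⟩ := hx
    rcases P.D.rel_cases hxn (cn_mul (mem_cn.1 v.2).symm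
        (by rw [hj, Subgroup.orderOf_coe]; exact (hv.pow_right j).symm)) with e | e <;> rw [e]
    · exact fun h => P.hp.ne_one (Nat.dvd_one.1 h)
    · exact P.symm.not_q_dvd_n
  obtain ⟨hSn, H, hHn, -, hinf, hsup⟩ := S4035.result hreg S
  haveI := hSn
  haveI := hHn
  have haS : (⟨a, ha⟩ : Cn x) ∈ (S : Subgroup (Cn x)) := by
    obtain ⟨j, hj⟩ := hap
    obtain ⟨k, hk⟩ := exists_conj_mem P.hp (z := (⟨a, ha⟩ : Cn x))
      ⟨j, by rw [Subgroup.orderOf_mk, hj]⟩ S.not_dvd_index
    have := hSn.conj_mem _ hk k⁻¹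
    simpa [mul_assoc] using this
  have hidx : H.index = Nat.card S := by
    rw [← Subgroup.relIndex_top_right, ← hsup, Subgroup.relIndex_sup_right,
      ← Subgroup.inf_relIndex_right, inf_comm, hinf, Subgroup.relIndex_bot_left]
  have hbH : (⟨b, hb⟩ : Cn x) ∈ H := by
    obtain ⟨j, hj⟩ := hbq
    obtain ⟨i, hi⟩ := IsPGroup.iff_card.1 S.2
    obtain ⟨e, he⟩ := exists_pow_eq_self_of_coprime (n := H.index) (x := (⟨b, hb⟩ : Cn x)) (by
      rw [hidx, hi, Subgroup.orderOf_mk, hj]
      exact Nat.Coprime.pow _ _ ((Nat.coprime_primes P.hp P.hq).2 P.hne))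
    rw [← he]
    exact pow_mem (Subgroup.pow_index_mem H _) e
  have := Subgroup.commute_of_normal_of_disjoint _ _ hSn hHn (disjoint_iff.2 hinf) _ _ haS hbH
  exact congrArg Subtype.val this.eq

theorem no_m_p (P : PP G p q n m) {x : G} (hx : IsPE p x) (hxn : cs x = n) {y : G} (hy : IsPE p y)
    (hym : cs y = m) : False := by
  haveI : Fact q.Prime := ⟨P.hq⟩
  obtain ⟨y', hy', hxy⟩ := exists_conj_comm P.hp hx (a := y) (hym ▸ P.symm.not_q_dvd_n)
  have hxy0 : x ∈ Cn y := comm_of_conj (P.D.coprime_cs hxn hym) ⟨1, by simp⟩ hy' hxy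
  obtain ⟨Q, hQ⟩ := ClassSizeGraph76.exists_sylow_le (p := q) (H := Cn x)
    (show ¬ q ∣ (Cn x).index from (hxn ▸ P.not_q_dvd_n : ¬ q ∣ cs x))
  refine ClassSizeGraph76.not_dvd_index_of_sylow_le Q (H := Cn y) (fun z hz => ?_)
    (show q ∣ cs y from hym ▸ P.symm.p_dvd_n)
  exact mem_cn.2 (P.comm_in_cn hx hxn (mem_cn_symm hxy0) hy (hQ hz)
    (IsPE.of_mem_pgroup Q.2 hz)).symm

/-- A `q`-element of class size `q^b` lies in `O_q`. -/
theorem mem_qcore (P : PP G p q n m) {y : G} (hy : IsPE q y) (hym : cs y = m) :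
    y ∈ Cfsg.pCore q G := by
  haveI : Fact q.Prime := ⟨P.hq⟩
  obtain ⟨j, hj⟩ := id hy
  have hzg : IsPGroup q (Subgroup.zpowers y) :=
    IsPGroup.of_card (n := j) (by rw [Nat.card_zpowers, hj])
  obtain ⟨Q, hQ⟩ := hzg.exists_le_sylow
  have hyQ : y ∈ (Q : Subgroup G) := hQ (Subgroup.mem_zpowers y)
  have hr : (Set.range fun s : (Q : Subgroup G) => (s : G) * y * (s : G)⁻¹).ncard =
      (Cn y).relIndex (Q : Subgroup G) := by
    refine ClassSizeGraph76.ncard_range_eq_index _ _ fun g h => ?_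
    rw [ClassSizeGraph76.conj_eq_iff, Subgroup.mem_subgroupOf]
    rfl
  have hsub : cls y ⊆ (Q : Set G) := by
    have hss : (Set.range fun s : (Q : Subgroup G) => (s : G) * y * (s : G)⁻¹) ⊆ cls y := by
      rintro _ ⟨s, rfl⟩
      exact ⟨s, rfl⟩
    have heq : (Set.range fun s : (Q : Subgroup G) => (s : G) * y * (s : G)⁻¹) = cls y := by
      refine Set.eq_of_subset_of_ncard_le hss ?_
      rw [hr, ClassSizeGraph76.ncard_cls, hym]
      have h1 : m ∣ ((Q : Subgroup G) ⊓ Cn y).index :=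
        (show (Cn y).index = m from hym) ▸ Subgroup.index_dvd_of_le inf_le_right
      rw [index_inf] at h1
      obtain ⟨b, hb⟩ := P.hm
      have hco : m.Coprime (Q : Subgroup G).index :=
        hb ▸ Nat.Coprime.pow_left b ((Nat.Prime.coprime_iff_not_dvd P.hq).2 Q.not_dvd_index)
      exact Nat.le_of_dvd (Nat.pos_of_ne_zero Subgroup.index_ne_zero_of_finite)
        (hco.dvd_of_dvd_mul_right h1)
    rw [← heq]
    rintro _ ⟨s, rfl⟩
    exact (Q : Subgroup G).mul_mem ((Q : Subgroup G).mul_mem s.2 hyQ) ((Q : Subgroup G).inv_mem s.2)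
  haveI : (Subgroup.closure (cls y)).Normal :=
    ClassSizeGraph76.closure_normal fun z hz g => ClassSizeGraph76.conj_mem_cls g hz
  exact HallCore.le_pCore (Q.2.to_le ((Subgroup.closure_le _).2 hsub))
    (Subgroup.subset_closure (ClassSizeGraph76.self_mem_cls y))

/-- With a good `q`-element, every `p`-element centralizes `O_q`. -/
theorem qcore_le_cn (P : PP G p q n m) {y : G} (hy : IsPE q y) (hym : cs y = m) {u : G}
    (hu : IsPE p u) : Cfsg.pCore q G ≤ Cn u := by
  haveI : Fact q.Prime := ⟨P.hq⟩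
  obtain ⟨y', hy', huy⟩ := exists_conj_comm P.hp hu (a := y) (hym ▸ P.symm.not_q_dvd_n)
  have hye : IsPE q y' := isPE_of_mem_cls hy hy'
  have hym' : cs y' = m := (cs_of_mem_cls hy').trans hym
  refine le_cn_of_self_centralizing P.hp P.hq P.hne (HallCore.isPGroup_pCore q G) hu
    fun r hr h => ?_
  have hry : r * y' = y' * r := h y' (P.mem_qcore hye hym') (mem_cn_symm huy)
  refine mem_cn.2 ?_
  exact P.symm.comm_in_cn hye hym' (mem_cn.2 hry)
    (IsPE.of_mem_pgroup (HallCore.isPGroup_pCore q G) hr) huy hu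

theorem isNilpotent_of_good (P : PP G p q n m) {x : G} (hx : IsPE p x) (hxn : cs x = n) :
    Group.IsNilpotent G := by
  haveI := P.isSolvable
  obtain ⟨r, y, hr, hy, hym⟩ := P.D.symm.exists_part
  have hrq : r = q := by
    by_contra h
    by_cases h2 : r = p
    · subst h2; exact P.no_m_p hx hxn hy hym
    · exact P.D.symm.not_center_of_n hym (P.others hr h2 h hy)
  subst hrq
  refine AbelCent88Height.isNilpotent_of_centralizes_pCore fun s t hs ht hst => ?_
  haveI := hs
  haveI := ht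
  let S : Sylow t G := default
  refine ⟨S, fun u hu => ?_⟩
  rw [Subgroup.mem_centralizer_iff]
  intro z hz
  have hue : IsPE t u := IsPE.of_mem_pgroup S.2 hu
  have hze : IsPE s z := IsPE.of_mem_pgroup (HallCore.isPGroup_pCore s G) hz
  by_cases htp : t = p
  · subst htp
    by_cases hsq : s = r
    · subst hsq; exact mem_cn.1 (P.qcore_le_cn hy hym hue hz)
    · exact (Subgroup.mem_center_iff.1 (P.others hs.out hst hsq hze) u).symm
  by_cases htq : t = r
  · subst htq
    by_cases hsp : s = p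
    · subst hsp; exact mem_cn.1 (P.symm.qcore_le_cn hx hxn hue hz)
    · exact (Subgroup.mem_center_iff.1 (P.others hs.out hsp hst hze) u).symm
  exact Subgroup.mem_center_iff.1 (P.others ht.out htp htq hue) z

end PP

end Cfsg.Agent.CaminaSizes63
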