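import Cfsg.Agent.Lib.TwoRegSizesSylow38
import Cfsg.Agent.Lib.ClassSizeGraph76

/-!
# Two class sizes of `p`-regular elements: the primes two and three cannot both divide the size
-/

namespace Cfsg.Agent.TwoRegSizes38

open scoped Pointwise

variable {G : Type*} [Group G] [Finite G] {p : ℕ}

theorem TwoCase.card_three_le (H : TwoCase G p 3) {A : Subgroup (G ⧸ Subgroup.center G)}
    (hA : IsPGroup 3 A) : Nat.card A ≤ 9 := by
  haveI := Fact.mk Nat.prime_three
  obtain ⟨S₁, hS₁⟩ := hA.exists_le_sylow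
  obtain ⟨S₀⟩ : Nonempty (Sylow 3 G) := inferInstance
  set S₂ := S₀.mapSurjective (QuotientGroup.mk'_surjective (Subgroup.center G)) with hS₂
  have h2 : Nat.card S₂ ≤ 9 := by
    have := H.sylow_three_le S₀
    simpa [hS₂] using this
  have he : Nat.card S₁ = Nat.card S₂ := by
    rw [S₁.card_eq_multiplicity, S₂.card_eq_multiplicity]
  exact (Subgroup.card_le_of_le hS₁).trans (he ▸ h2)

theorem TwoCase.conj_in (H : TwoCase G p 3) {N A B : Subgroup (G ⧸ Subgroup.center G)}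
    (hA : IsPGroup 3 A) (hB : IsPGroup 3 B) (hAc : 9 ≤ Nat.card A) (hBc : 9 ≤ Nat.card B)
    (hAN : A ≤ N) (hBN : B ≤ N) : ∃ n ∈ N, ∀ Y ∈ A, n * Y * n⁻¹ ∈ B := by
  haveI := Fact.mk Nat.prime_three
  have key : ∀ C : Subgroup (G ⧸ Subgroup.center G), IsPGroup 3 C → 9 ≤ Nat.card C → C ≤ N →
      ∃ P : Sylow 3 N, (P : Subgroup N) = C.subgroupOf N := by
    intro C hC hCc hCN
    obtain ⟨P, hP⟩ := (hC.of_equiv (Subgroup.subgroupOfEquivOfLe hCN).symm).exists_le_sylow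
    refine ⟨P, (Subgroup.eq_of_le_of_card_ge hP ?_).symm⟩
    rw [Nat.card_congr (Subgroup.subgroupOfEquivOfLe hCN).toEquiv]
    have := H.card_three_le (P.isPGroup'.map N.subtype)
    rw [Subgroup.card_map_of_injective N.subtype_injective] at this
    omega
  obtain ⟨PA, hPA⟩ := key A hA hAc hAN
  obtain ⟨PB, hPB⟩ := key B hB hBc hBN
  obtain ⟨n, hn⟩ := MulAction.exists_smul_eq N PA PB
  refine ⟨n, n.2, fun Y hY => ?_⟩
  have h1 : (⟨Y, hAN hY⟩ : N) ∈ (PA : Subgroup N) := by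
    rw [hPA]; exact Subgroup.mem_subgroupOf.2 hY
  have h2 : n * ⟨Y, hAN hY⟩ * n⁻¹ ∈ (PB : Subgroup N) := by
    rw [← hn, Sylow.coe_subgroup_smul]
    exact Subgroup.smul_mem_pointwise_smul _ (MulAut.conj n) _ h1
  rw [hPB, Subgroup.mem_subgroupOf] at h2
  exact h2

theorem TwoCase.false (H : TwoCase G p 3) : False := by
  classical
  haveI := Fact.mk Nat.prime_two
  haveI := Fact.mk Nat.prime_three
  obtain ⟨x, hx, -⟩ := H.hq.2
  obtain ⟨g, t, X, u, hgp, hgN, hgC, hgq, F, hgt, hgX, hup, huN, huC, huq, hut, huX⟩ := H.setup hx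
  obtain ⟨hM, hrank⟩ := H.three_part hx hgp hgN hgC hgq hup huN huC F hgt hgX hut huX
  obtain ⟨b, hb, hbZ, hB3⟩ := H.exists_order H.hr hx
  have hbR : Reg p b := ⟨hb.1.2, hbZ⟩
  have hbx : Cn b = Cn x := H.cn_eq hx hb.1.1 hbR
  set B := bar b with hBdef
  set U := bar u with hUdef
  have hUB : B * U = U * B := (cj_eq_self_iff.1 (hM B (Subgroup.mem_map_of_mem _ hb)).1).symm
  have hBU : Commute B U := hUB
  have hUnB : ∀ i : ℕ, U ≠ B ^ i := fun i h => huC (by
    rw [hUdef, hBdef, ← map_pow] at h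
    obtain ⟨z, hz, hzu⟩ := bar_eq_bar.1 h
    rw [hzu]
    exact mul_mem (center_le_cn x hz) (pow_mem hb.1.1 i))
  set R := plane hUB hB3 huq with hRdef
  have hRm : ∀ i j : ℕ, B ^ i * U ^ j ∈ R := fun i j => ⟨i, j, rfl⟩
  have hR3 : ∀ Y ∈ R, Y ^ 3 = 1 := by
    rintro _ ⟨i, j, rfl⟩
    rw [(hBU.pow_pow i j).mul_pow, ← pow_mul, ← pow_mul, mul_comm i, mul_comm j, pow_mul, pow_mul,
      hB3, huq, one_pow, one_pow, one_mul]
  have hRc : ∀ Y ∈ R, ∀ Z ∈ R, Y * Z = Z * Y := by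
    rintro _ ⟨i, j, rfl⟩ _ ⟨k, l, rfl⟩
    exact (Commute.mul_left ((Commute.pow_pow (Commute.refl B) i k).mul_right (hBU.pow_pow i l))
      ((hBU.symm.pow_pow j k).mul_right (Commute.pow_pow (Commute.refl U) j l))).eq
  have hU2 : ∀ i : ℕ, U ^ 2 ≠ B ^ i := fun i h => hUnB (2 * i) (by
    rw [mul_comm, pow_mul, ← h, ← pow_mul, pow_succ, huq, one_mul])
  have hinj : ∀ i j k l : ℕ, B ^ i * U ^ j = B ^ k * U ^ l → i % 3 = k % 3 ∧ j % 3 = l % 3 := by
    intro i j k l h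
    have hUl : U ^ (j + 2 * l) = B ^ (k + 2 * i) := by
      have h1 : B ^ (2 * i) * (B ^ i * U ^ j) * U ^ (2 * l) =
          B ^ (2 * i) * (B ^ k * U ^ l) * U ^ (2 * l) := by rw [h]
      rw [← mul_assoc, ← pow_add, ← mul_assoc, ← pow_add, mul_assoc, ← pow_add, mul_assoc,
        ← pow_add, show 2 * i + i = 3 * i by ring, show l + 2 * l = 3 * l by ring, pow_mul, pow_mul,
        hB3, huq, one_pow, one_pow, one_mul, mul_one, add_comm (2 * i)] at h1
      exact h1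
    have hord := orderOf_bar Nat.prime_three hbZ hB3
    have h0 : (j + 2 * l) % 3 = 0 := by
      by_contra hne
      rw [pow_eq_pow_mod _ huq] at hUl
      rcases (show (j + 2 * l) % 3 = 1 ∨ (j + 2 * l) % 3 = 2 by omega) with hm | hm
      · rw [hm, pow_one] at hUl; exact hUnB _ hUl
      · rw [hm] at hUl; exact hU2 _ hUl
    rw [pow_eq_pow_mod _ huq, h0, pow_zero] at hUl
    have hd : 3 ∣ k + 2 * i := hord ▸ orderOf_dvd_of_pow_eq_one hUl.symm
    omega
  have hR9 : Nat.card R = 9 := by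
    refine le_antisymm (card_plane_le _ _ _) ?_
    have hi : Function.Injective (fun q : Fin 3 × Fin 3 =>
        (⟨B ^ (q.1 : ℕ) * U ^ (q.2 : ℕ), hRm _ _⟩ : R)) := by
      rintro ⟨a, c⟩ ⟨a', c'⟩ h
      obtain ⟨h1, h2⟩ := hinj _ _ _ _ (congrArg Subtype.val h)
      change (a : ℕ) % 3 = (a' : ℕ) % 3 at h1
      change (c : ℕ) % 3 = (c' : ℕ) % 3 at h2
      have := a.2; have := a'.2; have := c.2; have := c'.2
      ext <;> simp only <;> omega
    have := Nat.card_le_card_of_injective _ hi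
    simpa [Nat.card_eq_fintype_card] using this
  have hRp : IsPGroup 3 R := IsPGroup.of_card (n := 2) (by rw [hR9]; norm_num)
  -- elements with image in `R` normalize all the centralizers
  have hRN : ∀ a w : G, bar a ∈ R → bar w ∈ R → a ∈ Subgroup.normalizer (Cn w : Set G) :=
    fun a w ha hw => normalizer_of_bar_comm (hRc _ ha _ hw)
  have hBR : B ∈ R := by simpa using hRm 1 0
  have hUR : U ∈ R := by simpa using hRm 0 1
  have hlift : ∀ Y ∈ R, Y ≠ 1 → ∃ w, Reg p w ∧ IsPE 3 w ∧ bar w = Y := by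
    intro Y hY hY1
    obtain ⟨w, hw, rfl⟩ := exists_pe_lift Nat.prime_three (hR3 _ hY)
    exact ⟨w, reg_of_pe H.toHyp Nat.prime_three H.hr.ne hw fun h => hY1 (bar_eq_one.2 h), hw, rfl⟩
  have hne : ∀ i j : ℕ, ¬ (i % 3 = 0 ∧ j % 3 = 0) → B ^ i * U ^ j ≠ 1 := fun i j hij h =>
    hij (by simpa using hinj i j 0 0 (by simpa using h))
  -- four representatives
  have hwb : ∀ k : Fin 4, ∃ w, Reg p w ∧ IsPE 3 w ∧
      bar w = B ^ ((![1, 0, 1, 1] : Fin 4 → ℕ) k) * U ^ ((![0, 1, 1, 2] : Fin 4 → ℕ) k) := fun k =>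
    hlift _ (hRm _ _) (hne _ _ (by fin_cases k <;> simp))
  choose w hwR hwp hwb using hwb
  have hwmem : ∀ k, bar (w k) ∈ R := fun k => by rw [hwb]; exact hRm _ _
  have hw0 : Cn (w 0) = Cn b := cn_eq_of_bar_eq (by rw [hwb]; simp [hBdef])
  have hdist : Function.Injective fun k => Cn (w k) := by
    intro k l hkl
    by_contra hne'
    obtain ⟨g', t', X', u', a1, a2, a3, a4, F', a5, a6, a7, a8, a9, -, a11, a12⟩ :=
      H.setup (hwR k)
    obtain ⟨-, hrk⟩ := H.three_part (hwR k) a1 a2 a3 a4 a7 a8 a9 F' a5 a6 a11 a12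
    have hmem : ∀ m, Cn (w m) = Cn (w k) → bar (w m) ∈ (H.part (hwR k) 3).map bar := fun m hm =>
      Subgroup.mem_map_of_mem _ ((H.mem_part (hwR k) H.hr.ne).2 ⟨hm ▸ self_mem_cn _, hwp m⟩)
    obtain ⟨i, hi⟩ := hrk _ (hmem k rfl) _ (hmem l hkl.symm) fun h => (hwR k).2 (bar_eq_one.1 h)
    rw [hwb, hwb, (hBU.pow_pow _ _).mul_pow, ← pow_mul, ← pow_mul] at hi
    obtain ⟨h1, h2⟩ := hinj _ _ _ _ hi
    fin_cases k <;> fin_cases l <;> first | exact hne' rfl | (simp at h1 h2 <;> omega)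
  have hcover : ∀ v : G, Reg p v → bar v ∈ R → ∃ k, Cn v = Cn (w k) := by
    intro v hv hvR
    obtain ⟨i, j, hij⟩ := id hvR
    rw [pow_eq_pow_mod i hB3, pow_eq_pow_mod j huq] at hij
    have hv1 : ¬ (i % 3 = 0 ∧ j % 3 = 0) := fun h => hv.2 (bar_eq_one.1 (by rw [hij, h.1, h.2]; simp))
    have step : ∀ k m, bar v = bar (w k) ^ m → Cn v = Cn (w k) := by
      intro k m hm
      rw [← map_pow] at hm
      rw [cn_eq_of_bar_eq hm, H.cn_pow (hwR k)]
      intro hc
      exact hv.2 (bar_eq_one.1 (hm.trans (bar_eq_one.2 hc)))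
    have hBU2 : B ^ 2 * U ^ 2 = (B * U) ^ 2 := (hBU.mul_pow 2).symm
    rcases (show i % 3 = 0 ∨ i % 3 = 1 ∨ i % 3 = 2 by omega) with hi | hi | hi <;>
      rcases (show j % 3 = 0 ∨ j % 3 = 1 ∨ j % 3 = 2 by omega) with hj | hj | hj <;>
      rw [hi, hj] at hij
    · exact absurd ⟨hi, hj⟩ hv1
    · exact ⟨1, step 1 1 (by rw [hij, hwb]; simp)⟩
    · exact ⟨1, step 1 2 (by rw [hij, hwb]; simp)⟩
    · exact ⟨0, step 0 1 (by rw [hij, hwb]; simp)⟩
    · exact ⟨2, step 2 1 (by rw [hij, hwb]; simp)⟩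
    · exact ⟨3, step 3 1 (by rw [hij, hwb]; simp)⟩
    · exact ⟨0, step 0 2 (by rw [hij, hwb]; simp)⟩
    · refine ⟨3, step 3 2 ?_⟩
      rw [hij, hwb, (hBU.pow_pow _ _).mul_pow, ← pow_mul, ← pow_mul]
      show B ^ 2 * U ^ 1 = B ^ (1 * 2) * U ^ (2 * 2)
      rw [pow_eq_pow_mod (2 * 2) huq]
    · exact ⟨2, step 2 2 (by rw [hij, hwb, hBU2]; simp)⟩
  -- the stabilizer of the component of `b` in the normalizer of `R`
  set NR := (Subgroup.normalizer (R : Set (G ⧸ Subgroup.center G))).comap bar with hNR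
  have hconjR : ∀ k ∈ NR, ∀ v, bar v ∈ R → bar (k * v * k⁻¹) ∈ R := by
    intro k hk v hv
    rw [map_mul, map_mul, map_inv]
    exact (Subgroup.mem_normalizer_iff.1 hk _).1 hv
  have hcnc : ∀ (n v v' : G), Reg p v → Cn v = Cn v' → n ∈ Subgroup.normalizer (Cn v' : Set G) →
      Cn (n * v * n⁻¹) = Cn v' := by
    intro n v v' hv hvv hn
    rw [← hvv] at hn ⊢
    exact H.cn_eq hv (conj_mem_of_normalizer hn (self_mem_cn v)) (reg_conj hv n)
  set f : NR → Subgroup G := fun k => Cn ((k : G) * b * (k : G)⁻¹) with hf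
  have hrange : Set.range f = Set.range fun k => Cn (w k) := by
    apply le_antisymm
    · rintro _ ⟨k, rfl⟩
      obtain ⟨m, hm⟩ := hcover _ (reg_conj hbR (k : G)) (hconjR k k.2 b hBR)
      exact ⟨m, hm.symm⟩
    · rintro _ ⟨m, rfl⟩
      obtain ⟨k₀, hk₀⟩ := H.exists_conj hbR (hwR m)
      set A := R.map (MulAut.conj (bar k₀)).toMonoidHom with hA
      set Nw := (Subgroup.normalizer (Cn (w m) : Set G)).map bar with hNw
      have hRNw : R ≤ Nw := fun Y hY => by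
        obtain ⟨a, rfl⟩ := QuotientGroup.mk'_surjective (Subgroup.center G) Y
        exact Subgroup.mem_map_of_mem _ (hRN a (w m) hY (hwmem m))
      have hANw : A ≤ Nw := by
        rintro _ ⟨Y, hY, rfl⟩
        obtain ⟨a, rfl⟩ := QuotientGroup.mk'_surjective (Subgroup.center G) Y
        refine ⟨k₀ * a * k₀⁻¹, ?_, by simp⟩
        have h1 : Cn (a * b * a⁻¹) = Cn b := hcnc a b b hbR rfl (hRN a b hY hBR)
        show k₀ * a * k₀⁻¹ ∈ Subgroup.normalizer (Cn (w m) : Set G)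
        rw [← hk₀]
        apply mem_normalizer_cn
        ext v
        rw [← conj_mem_cn k₀⁻¹, ← conj_mem_cn k₀⁻¹ (x := k₀ * b * k₀⁻¹)]
        rw [show k₀⁻¹ * (k₀ * a * k₀⁻¹ * (k₀ * b * k₀⁻¹) * (k₀ * a * k₀⁻¹)⁻¹) * k₀⁻¹⁻¹ = a * b * a⁻¹
          by group, h1, show k₀⁻¹ * (k₀ * b * k₀⁻¹) * k₀⁻¹⁻¹ = b by group]
      have hAc : Nat.card A = 9 := by
        rw [hA, Subgroup.card_map_of_injective (MulEquiv.injective _), hR9]
      obtain ⟨_, ⟨n, hn, rfl⟩, hconj⟩ :=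
        H.conj_in (hRp.map _) hRp hAc.ge hR9.ge hANw hRNw
      have hk : n * k₀ ∈ NR := by
        rw [hNR, Subgroup.mem_comap]
        apply Subgroup.mem_normalizer_fintype
        intro Y hY
        have := hconj _ (Subgroup.mem_map_of_mem _ hY)
        simpa [map_mul, mul_assoc] using this
      refine ⟨⟨n * k₀, hk⟩, ?_⟩
      show Cn (n * k₀ * b * (n * k₀)⁻¹) = Cn (w m)
      rw [show n * k₀ * b * (n * k₀)⁻¹ = n * (k₀ * b * k₀⁻¹) * n⁻¹ by group]
      exact hcnc n _ _ (reg_conj hbR k₀) hk₀ hn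
  set K := (Subgroup.normalizer (Cn b : Set G)).subgroupOf NR with hKdef
  have hidx : K.index = 4 := by
    rw [← ClassSizeGraph76.ncard_range_eq_index K f, hrange,
      Set.ncard_range_of_injective hdist]
    · simp
    intro k l
    simp only [hf, hKdef, Subgroup.mem_subgroupOf, Subgroup.coe_mul, Subgroup.coe_inv]
    constructor
    · intro h
      apply mem_normalizer_cn
      ext v
      rw [← conj_mem_cn (k : G), ← conj_mem_cn (k : G) (x := b), h]
      rw [show (k : G) * ((k : G)⁻¹ * l * b * ((k : G)⁻¹ * l)⁻¹) * (k : G)⁻¹ = (l : G) * b * (l : G)⁻¹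
        by group]
    · intro h
      have h1 := hcnc _ b b hbR rfl h
      ext v
      rw [← conj_mem_cn (k : G)⁻¹, ← conj_mem_cn (k : G)⁻¹ (x := (l : G) * b * (l : G)⁻¹)]
      rw [show (k : G)⁻¹ * ((k : G) * b * (k : G)⁻¹) * (k : G)⁻¹⁻¹ = b by group,
        show (k : G)⁻¹ * ((l : G) * b * (l : G)⁻¹) * (k : G)⁻¹⁻¹ =
          (k : G)⁻¹ * l * b * ((k : G)⁻¹ * l)⁻¹ by group, h1]
  -- the stabilizer has an element of even order
  let Hs : Subgroup G :=
    { carrier := {n | n ∈ Subgroup.normalizer (Cn x : Set G) ∧ ∃ i : ℤ, n * u ^ i ∈ Cn x}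
      mul_mem' := by
        rintro n m ⟨hn, i, hi⟩ ⟨hm, j, hj⟩
        refine ⟨mul_mem hn hm, j + i, ?_⟩
        have h1 : (u ^ i)⁻¹ * (m * u ^ j) * u ^ i ∈ Cn x := by
          have := conj_mem_of_normalizer (g := (u ^ i)⁻¹) (inv_mem (zpow_mem huN i)) hj
          simpa using this
        have : n * m * u ^ (j + i) = (n * u ^ i) * ((u ^ i)⁻¹ * (m * u ^ j) * u ^ i) := by
          rw [zpow_add]; group
        rw [this]; exact mul_mem hi h1
      one_mem' := ⟨one_mem _, 0, by simp⟩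
      inv_mem' := by
        rintro n ⟨hn, i, hi⟩
        refine ⟨inv_mem hn, -i, ?_⟩
        have h1 : u ^ i * (n * u ^ i)⁻¹ * (u ^ i)⁻¹ ∈ Cn x :=
          conj_mem_of_normalizer (zpow_mem huN i) (inv_mem hi)
        have : n⁻¹ * u ^ (-i) = u ^ i * (n * u ^ i)⁻¹ * (u ^ i)⁻¹ := by group
        rw [this]; exact h1 }
  have hCHs : Cn x ≤ Hs := fun a ha => ⟨Subgroup.le_normalizer ha, 0, by simpa using ha⟩
  have huHs : u ∈ Hs := ⟨huN, -1, by simp⟩
  have hgu : g * u * g⁻¹ ∈ Hs := by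
    refine ⟨mul_mem (mul_mem hgN huN) (inv_mem hgN), 1, ?_⟩
    rw [zpow_one]
    have hcjg : ∀ Y, cj g⁻¹ Y = cj g Y := fun Y => by rw [cj, cj, bar_inv_of_sq hgq]
    have hnY : ∀ Y, cj (g * u * g⁻¹) Y = cj g (cj u (cj g Y)) := fun Y => by
      rw [cj_mul_left, cj_mul_left, hcjg]
    refine H.mul_mem_three hx (mul_mem (mul_mem hgN huN) (inv_mem hgN)) huN F hut huX ?_ ?_
    · rw [hnY, hgt, hut, hgX]
    · rw [hnY, hgX, cj_mul, hut, huX, F.comm, ← mul_assoc, F.X2, one_mul, hgt]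
  have hgHs : g ∉ Hs := by
    rintro ⟨-, i, hi⟩
    have hu3 : u ^ (3 : ℤ) ∈ Cn x := by
      rw [show (3 : ℤ) = ((3 : ℕ) : ℤ) from rfl, zpow_natCast]
      refine center_le_cn x (bar_eq_one.1 ?_)
      rw [map_pow]; exact huq
    have hfixu : cj (u ^ i) t = t := by
      have h1 := H.cj_eq_of_mem hx hi F.ht
      rw [cj_mul_left] at h1
      exact cj_inj (h1.trans hgt.symm)
    rcases (show i % 3 = 0 ∨ i % 3 = 1 ∨ i % 3 = 2 by omega) with h | h | h
    · have : u ^ i ∈ Cn x := by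
        rw [show i = 3 * (i / 3) by omega, zpow_mul]; exact zpow_mem hu3 _
      exact hgC (by simpa using mul_mem hi (inv_mem this))
    · have e : u ^ i = (u ^ (3 : ℤ)) ^ (i / 3) * u := by
        rw [← zpow_mul, ← zpow_add_one]; congr 1; omega
      rw [e, cj_mul_left, hut, H.cj_eq_of_mem hx (zpow_mem hu3 _) F.hX] at hfixu
      exact F.ne hfixu.symm
    · have e : u ^ i = (u ^ (3 : ℤ)) ^ (i / 3) * (u * u) := by
        rw [← zpow_mul, ← mul_assoc, ← zpow_add_one, ← zpow_add_one]; congr 1; omega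
      rw [e, cj_mul_left, cj_mul_left, hut, huX,
        H.cj_eq_of_mem hx (zpow_mem hu3 _) (mul_mem F.ht F.hX)] at hfixu
      exact F.X1 (mul_eq_left.1 hfixu)
  have hgnorm : ∀ h ∈ Hs, g * h * g⁻¹ ∈ Hs := by
    rintro h ⟨-, i, hi⟩
    have : g * h * g⁻¹ = g * (h * u ^ i) * g⁻¹ * ((g * u * g⁻¹) ^ i)⁻¹ := by rw [conj_zpow]; group
    rw [this]
    exact mul_mem (hCHs (conj_mem_of_normalizer hgN hi)) (inv_mem (zpow_mem hgu i))
  have hRHs : R ≤ Hs.map bar := by
    rintro _ ⟨i, j, rfl⟩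
    exact ⟨b ^ i * u ^ j, mul_mem (hCHs (pow_mem hb.1.1 i)) (pow_mem huHs j), by
      rw [map_mul, map_pow, map_pow]⟩
  obtain ⟨_, ⟨h, hh, rfl⟩, hconj⟩ := H.conj_in (A := R.map (MulAut.conj (bar g)).toMonoidHom)
    (B := R) (N := Hs.map bar) (hRp.map _) hRp
    (by rw [Subgroup.card_map_of_injective (MulEquiv.injective _), hR9]) hR9.ge
    (by
      rintro _ ⟨Y, hY, rfl⟩
      obtain ⟨a, ha, rfl⟩ := hRHs hY
      exact ⟨g * a * g⁻¹, hgnorm a ha, by simp⟩) hRHs
  set g' := h * g with hg'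
  have hg'NR : g' ∈ NR := by
    rw [hNR, Subgroup.mem_comap]
    apply Subgroup.mem_normalizer_fintype
    intro Y hY
    have := hconj _ (Subgroup.mem_map_of_mem _ hY)
    simpa [hg', map_mul, mul_assoc] using this
  have hg'H : g' ∉ Hs := fun hc => hgHs (by
    have := mul_mem (inv_mem hh) hc
    simpa [hg'] using this)
  have hg'2 : g' ^ 2 ∈ Hs := by
    have e : g' ^ 2 = h * (g * h * g⁻¹) * g ^ 2 := by rw [hg', sq, sq]; group
    rw [e]
    refine mul_mem (mul_mem hh (hgnorm h hh)) (hCHs (center_le_cn x (bar_eq_one.1 ?_)))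
    rw [map_pow]; exact hgq
  have heven : 2 ∣ orderOf (bar g') := by
    by_contra hodd
    obtain ⟨m, hm⟩ := exists_pow_eq_self_of_coprime (n := 2) (x := bar g')
      ((Nat.prime_two.coprime_iff_not_dvd).2 hodd)
    have : bar g' ∈ Hs.map bar := by
      rw [← hm, ← map_pow, ← map_pow]; exact Subgroup.mem_map_of_mem _ (pow_mem hg'2 m)
    obtain ⟨a, ha, hag⟩ := this
    obtain ⟨z, hz, hza⟩ := bar_eq_bar.1 hag.symm
    exact hg'H (hza ▸ mul_mem (hCHs (center_le_cn x hz)) ha)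
  have hg'N : g' ∈ Subgroup.normalizer (Cn b : Set G) := by
    rw [hbx]; exact mul_mem hh.1 hgN
  set K' := NR ⊓ Subgroup.normalizer (Cn b : Set G) with hK'
  have hcK : Nat.card K = Nat.card K' := by
    rw [hKdef, ← Subgroup.inf_subgroupOf_left,
      Nat.card_congr (Subgroup.subgroupOfEquivOfLe inf_le_left).toEquiv]
  have hZK : Subgroup.center G ≤ K' := fun z hz => ⟨by
      show z ∈ NR
      rw [hNR, Subgroup.mem_comap, bar_eq_one.2 hz]; exact one_mem _,
    Subgroup.le_normalizer (center_le_cn b hz)⟩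
  have h8 : 8 * Nat.card (Subgroup.center G) ∣ Nat.card NR := by
    have e1 : Nat.card K' = Nat.card (Subgroup.center G) * (Subgroup.center G).relIndex K' := by
      rw [← Nat.card_congr (Subgroup.subgroupOfEquivOfLe hZK).toEquiv, Subgroup.relIndex,
        Subgroup.card_mul_index]
    have e2 : 2 ∣ (Subgroup.center G).relIndex K' := by
      have : (Subgroup.center G).relIndex K' = Nat.card (K'.map bar) := by
        rw [← Subgroup.relIndex_ker, QuotientGroup.ker_mk']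
      rw [this]
      refine heven.trans ?_
      have hmem : bar g' ∈ K'.map bar := Subgroup.mem_map_of_mem _ ⟨hg'NR, hg'N⟩
      rw [← Subgroup.orderOf_mk _ hmem]
      exact orderOf_dvd_natCard _
    obtain ⟨k, hk⟩ := e2
    refine ⟨k, ?_⟩
    rw [← Subgroup.card_mul_index K, hidx, hcK, e1, hk]; ring
  -- a Sylow subgroup lies in the normalizer of `R`
  obtain ⟨T₀⟩ : Nonempty (Sylow 2 NR) := inferInstance
  obtain ⟨Q, hQ⟩ := (T₀.isPGroup'.map NR.subtype).exists_le_sylow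
  have hQNR : (Q : Subgroup G) ≤ NR := by
    have hT : Nat.card Q ≤ Nat.card T₀ := by
      have e1 : Nat.card Q = Nat.card (Subgroup.center G ⊓ (Q : Subgroup G) : Subgroup G) *
          Nat.card ((Q : Subgroup G).map bar) := by
        rw [← Subgroup.card_mul_index ((Subgroup.center G).subgroupOf Q),
          show ((Subgroup.center G).subgroupOf Q).index = Nat.card ((Q : Subgroup G).map bar) by
            rw [← Subgroup.relIndex_ker, QuotientGroup.ker_mk', Subgroup.relIndex],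
          ← Subgroup.inf_subgroupOf_right,
          Nat.card_congr (Subgroup.subgroupOfEquivOfLe inf_le_right).toEquiv]
      have hp2 : IsPGroup 2 (Subgroup.center G ⊓ (Q : Subgroup G) : Subgroup G) :=
        Q.isPGroup'.to_le inf_le_right
      obtain ⟨k, hk⟩ := hp2.exists_card_eq
      have hkd : 2 ^ k ∣ Nat.card (Subgroup.center G) := hk ▸ Subgroup.card_dvd_of_le inf_le_left
      have h2 : 2 ^ (k + 3) ∣ Nat.card NR := by
        refine dvd_trans ?_ h8
        rw [pow_add, mul_comm]; exact mul_dvd_mul_left _ hkd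
      have h3 : 2 ^ (k + 3) ≤ Nat.card T₀ := by
        rw [T₀.card_eq_multiplicity]
        exact Nat.pow_le_pow_right (by norm_num)
          ((Nat.prime_two.pow_dvd_iff_le_factorization Nat.card_pos.ne').1 h2)
      have h4 := H.sylow_two_le Q
      rw [e1, hk]
      rw [pow_add] at h3
      exact (Nat.mul_le_mul_left _ h4).trans h3
    rw [← Subgroup.eq_of_le_of_card_ge hQ (by
      rw [Subgroup.card_map_of_injective NR.subtype_injective]; exact hT)]
    exact Subgroup.map_subtype_le _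
  -- two distinct commuting involutions inverting `R`
  obtain ⟨c, -, hcR, -, hcc⟩ := H.exists_central H.hq Q
  have hQN : (Q : Subgroup G) ≤ Subgroup.normalizer (Cn c : Set G) :=
    fun a ha => normalizer_of_bar_comm (hcc a ha)
  obtain ⟨g₂, t₂, X₂, u₂, -, -, -, -, F₂, -⟩ := H.setup hcR
  have hinvert : ∀ a : G, IsPE 2 a → a ∈ NR → bar a ≠ 1 → bar a * bar a = 1 → ∀ Y ∈ R, cj a Y = Y⁻¹ := by
    intro a hap haN hap0 ha2 Y hY
    have hYi : cj a Y ∈ R := (Subgroup.mem_normalizer_iff.1 haN _).1 hY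
    set V := cj a Y * Y with hV
    have hVR : V ∈ R := mul_mem hYi hY
    have hfix : cj a V = V := by
      rw [hV, cj_mul, hRc _ hYi _ hY, ← cj_mul_left, cj, map_mul, ha2]; group
    by_contra hne'
    have hV1 : V ≠ 1 := fun h => hne' (eq_inv_of_mul_eq_one_left h)
    obtain ⟨v, hvR, hvp, hvb⟩ := hlift V hVR hV1
    have hco : (orderOf a).Coprime (orderOf v) := hap.coprime_coprime hvp H.r_ne
    rw [← hvb] at hfix
    by_cases haC : a ∈ Cn v
    · obtain ⟨z, hzR, hzp, hzC⟩ : ∃ z, bar z ∈ R ∧ IsPE 3 z ∧ z ∉ Cn v := by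
        by_cases hb' : b ∈ Cn v
        · refine ⟨u, hUR, hup, fun hu' => huC ?_⟩
          rw [← hbx, H.cn_eq hvR hb' hbR]; exact hu'
        · exact ⟨b, hBR, ((H.mem_part hx H.hr.ne).1 hb).2, hb'⟩
      have hzN := hRN z v hzR (hvb ▸ hVR)
      have haZ : a ∉ Subgroup.center G := fun hc => hap0 (bar_eq_one.2 hc)
      refine H.not_bar_comm hvR hzC haC ⟨coprime_of_pe H.toHyp Nat.prime_two H.hq.ne hap, haZ⟩
        (hzp.coprime_coprime hap H.r_ne.symm) ?_
      have haP : a ∈ H.part hvR 2 := (H.mem_part hvR H.hq.ne).2 ⟨haC, hap⟩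
      have hd2 : cj z (bar a) * bar a⁻¹ ∈ (H.part hvR 2).map bar :=
        mul_mem (H.cj_mem hvR H.hq.ne hzN (Subgroup.mem_map_of_mem _ haP))
          (Subgroup.mem_map_of_mem _ (inv_mem haP))
      have hd3 : cj z (bar a) * bar a⁻¹ ∈ R := by
        have e : cj z (bar a) * bar a⁻¹ = bar z * (bar a * (bar z)⁻¹ * (bar a)⁻¹) := by
          rw [cj, map_inv]; group
        rw [e]
        exact mul_mem hzR ((Subgroup.mem_normalizer_iff.1 haN _).1 (inv_mem hzR))
      obtain ⟨d, hd, hde⟩ := hd2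
      have h1 : cj z (bar a) * bar a⁻¹ = 1 := by
        rw [← orderOf_eq_one_iff]
        obtain ⟨j, hj⟩ := ((H.mem_part hvR H.hq.ne).1 hd).2
        exact Nat.eq_one_of_dvd_coprimes (H.r_ne.pow_left j)
          (hj ▸ hde ▸ orderOf_map_dvd bar d) (orderOf_dvd_of_pow_eq_one (hR3 _ hd3))
      rw [map_inv, mul_inv_eq_one] at h1
      exact cj_eq_self_iff.1 h1
    · exact H.not_bar_comm hvR haC (self_mem_cn v) hvR hco (cj_eq_self_iff.1 hfix)
  obtain ⟨a, ha, haT⟩ := F₂.ht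
  obtain ⟨a', ha', haX⟩ := F₂.hX
  have haQ := H.part_le_sylow hcR H.hq.ne Q hQN ha
  have haQ' := H.part_le_sylow hcR H.hq.ne Q hQN ha'
  have i1 := hinvert a ((H.mem_part hcR H.hq.ne).1 ha).2 (hQNR haQ) (haT ▸ F₂.t1) (by rw [haT]; exact F₂.t2)
  have i2 := hinvert a' ((H.mem_part hcR H.hq.ne).1 ha').2 (hQNR haQ') (haX ▸ F₂.X1) (by rw [haX]; exact F₂.X2)
  set d := a * a' with hd
  have hdP : d ∈ H.part hcR 2 := mul_mem ha ha'
  have hd1 : bar d ≠ 1 := by rw [hd, map_mul, haT, haX]; exact F₂.shift.t1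
  have hdR : Reg p d := ⟨hdP.1.2, fun h => hd1 (bar_eq_one.2 h)⟩
  have hcomm : ∀ v : G, bar v ∈ R → IsPE 3 v → v ∈ Cn d := by
    intro v hv hvp
    refine mem_cn.2 (comm_of_bar_comm ?_
      (hvp.coprime_coprime ((H.mem_part hcR H.hq.ne).1 hdP).2 H.r_ne.symm))
    have : cj d (bar v) = bar v := by rw [hd, cj_mul_left, i2 _ hv, i1 _ (inv_mem hv), inv_inv]
    exact (cj_eq_self_iff.1 this).symm
  have huR : Reg p u := reg_of_pe H.toHyp Nat.prime_three H.hr.ne hup fun h => huC (center_le_cn x h)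
  have hbd := H.cn_eq hdR (hcomm b hBR ((H.mem_part hx H.hr.ne).1 hb).2) hbR
  have hud := H.cn_eq hdR (hcomm u hUR hup) huR
  exact huC (by rw [← hbx, hbd, ← hud]; exact self_mem_cn u)

end Cfsg.Agent.TwoRegSizes38
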