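import Cfsg.Agent.Lib.TwoRegSizesSingle38
import Cfsg.Agent.Lib.TwoRegSizesFinal38

/-!
# Two class sizes of `p`-regular elements: the structure theorem
-/

namespace Cfsg.Agent.TwoRegSizes38

variable {G : Type*} [Group G] [Finite G] {p : ℕ}

theorem Hyp.index_eq (H : Hyp G p) {x y : G} (hx : Reg p x) (hy : Reg p y) :
    (Cn x).index = (Cn y).index := by
  have h := (Cn x).card_mul_index.trans (Cn y).card_mul_index.symm
  rw [H.card_eq x y hx.1 hy.1 hx.2 hy.2] at h
  exact Nat.eq_of_mul_eq_mul_left Nat.card_pos h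

/-- With two relevant primes the class size is a power of `p`. -/
theorem Two.not_dvd (H : Two G p) {q : ℕ} (hq : InPi G p q) {x : G} (hx : Reg p x) :
    ¬ q ∣ (Cn x).index := by
  classical
  intro hd
  have hex : ∃ s, InPi G p s ∧ s ∣ (Cn x).index := ⟨q, hq, hd⟩
  obtain ⟨hs, hsd⟩ := Nat.find_spec hex
  have hmin : ∀ s, InPi G p s → s ∣ (Cn x).index → Nat.find hex ≤ s := fun s h1 h2 =>
    Nat.find_min' hex ⟨h1, h2⟩
  have hall : ∀ s, s ∣ (Cn x).index → ∀ y : G, Reg p y → s ∣ (Cn y).index := fun s h y hy =>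
    H.toHyp.index_eq hx hy ▸ h
  by_cases hone : ∀ r, InPi G p r → r ≠ Nat.find hex → ¬ r ∣ (Cn x).index
  · exact H.single_contra hs (hall _ hsd) fun s h1 h2 y hy h3 =>
      hone s h1 h2 (H.toHyp.index_eq hy hx ▸ h3)
  push Not at hone
  obtain ⟨r, hr, hrne, hrd⟩ := hone
  have hlt := lt_of_le_of_ne (hmin r hr hrd) hrne.symm
  by_cases h2 : Nat.find hex = 2
  · rw [h2] at hs hsd hlt
    have HC : TwoCase G p r := ⟨H, hs, hr, hlt, hall _ hsd, hall _ hrd⟩
    have := HC.r_eq_three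
    subst this
    exact HC.false
  · exact H.odd_contra hs hr hlt h2 (hall _ hsd) (hall _ hrd)

/-- Two relevant primes give an abelian `p`-complement. -/
theorem Two.complement (H : Two G p) :
    ∃ A : Subgroup G, IsMulCommutative A ∧ ¬ p ∣ Nat.card A ∧ ∃ k : ℕ, A.index = p ^ k := by
  obtain ⟨q₁, -, hq₁, -⟩ := H.two
  obtain ⟨x, hx, -⟩ := hq₁.2
  refine ⟨H.bsub hx, ⟨⟨fun a b => Subtype.ext (H.comm hx a.2.1 b.2.1 b.2.2)⟩⟩, fun hd => ?_, ?_⟩
  · have : Fact p.Prime := ⟨H.prime⟩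
    obtain ⟨⟨w, hw⟩, hwo⟩ := exists_prime_orderOf_dvd_card' p hd
    rw [Subgroup.orderOf_mk] at hwo
    have := hw.2
    rw [hwo, Nat.coprime_self] at this
    exact H.prime.ne_one this
  · have hle : H.bsub hx ≤ Cn x := fun a ha => ha.1
    have key : ∀ {s : ℕ}, s.Prime → s ∣ (H.bsub hx).index → s = p := by
      intro s hs hd
      by_contra hsp
      rw [← Subgroup.relIndex_mul_index hle] at hd
      rcases hs.dvd_mul.1 hd with h | h
      · have : ((H.bsub hx).subgroupOf (Cn x)).Normal := by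
          constructor
          rintro ⟨a, haC⟩ ha ⟨g, hg⟩
          rw [Subgroup.mem_subgroupOf] at ha ⊢
          have e : g * a * g⁻¹ = a := by
            rw [H.comm hx hg ha.1 ha.2]; group
          simpa [e] using ha
        obtain ⟨v, hv, hvB, hpe⟩ := exists_primePow_of_dvd_relIndex hs h
        exact hvB ⟨hv, coprime_of_pe H.toHyp hs hsp hpe⟩
      · by_cases hpi : InPi G p s
        · exact H.not_dvd hpi hx h
        · exact H.toHyp.not_dvd_of_not_pi hs hsp hpi x h
    exact ⟨_, Nat.eq_prime_pow_of_unique_prime_dvd Subgroup.index_ne_zero_of_finite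
      fun {d} => key (s := d)⟩

/-- One relevant prime: a `{p,q}`-group times a central subgroup. -/
theorem Hyp.split (H : Hyp G p) {q : ℕ} (hq : InPi G p q) (hone : ∀ r, InPi G p r → r = q) :
    ∃ (_ : Fact q.Prime) (P : Sylow p G) (Q : Sylow q G) (A : Subgroup G),
      A ≤ Subgroup.center G ∧
      Nat.card ↥((P : Subgroup G) ⊔ (Q : Subgroup G)) = Nat.card P * Nat.card Q ∧
      ((P : Subgroup G) ⊔ (Q : Subgroup G)).Normal ∧
      ((P : Subgroup G) ⊔ (Q : Subgroup G)) ⊓ A = ⊥ ∧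
      ((P : Subgroup G) ⊔ (Q : Subgroup G)) ⊔ A = ⊤ := by
  have hpf : Fact p.Prime := ⟨H.prime⟩
  have hqf : Fact q.Prime := ⟨hq.1⟩
  refine ⟨hqf, ?_⟩
  obtain ⟨P⟩ : Nonempty (Sylow p G) := inferInstance
  obtain ⟨Q⟩ : Nonempty (Sylow q G) := inferInstance
  let A : Subgroup G :=
    { carrier := {z | z ∈ Subgroup.center G ∧ (orderOf z).Coprime (p * q)}
      mul_mem' := fun {a b} ha hb => ⟨mul_mem ha.1 hb.1, Nat.Coprime.coprime_dvd_left
        (Commute.orderOf_mul_dvd_mul_orderOf (Subgroup.mem_center_iff.1 hb.1 a))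
        (ha.2.mul_left hb.2)⟩
      one_mem' := ⟨one_mem _, by simp⟩
      inv_mem' := fun {a} ha => ⟨inv_mem ha.1, by rw [orderOf_inv]; exact ha.2⟩ }
  have hAn : A.Normal := ⟨fun a ha g => by
    have e : g * a * g⁻¹ = a := by rw [Subgroup.mem_center_iff.1 ha.1 g]; group
    rw [e]; exact ha⟩
  have hAc : ∀ s : ℕ, s.Prime → s ∣ Nat.card A → s ≠ p ∧ s ≠ q := by
    intro s hs hd
    have : Fact s.Prime := ⟨hs⟩
    obtain ⟨⟨a, ha⟩, hao⟩ := exists_prime_orderOf_dvd_card' s hd
    rw [Subgroup.orderOf_mk] at hao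
    have h2 := ha.2
    rw [hao] at h2
    constructor <;> rintro rfl
    · exact hs.ne_one (Nat.eq_one_of_dvd_coprimes h2 dvd_rfl (dvd_mul_right _ _))
    · exact hs.ne_one (Nat.eq_one_of_dvd_coprimes h2 dvd_rfl (dvd_mul_left _ _))
  have hAi : ∀ s : ℕ, s.Prime → s ∣ A.index → s = p ∨ s = q := by
    intro s hs hd
    by_contra hne
    push Not at hne
    have : Fact s.Prime := ⟨hs⟩
    obtain ⟨S⟩ : Nonempty (Sylow s G) := inferInstance
    refine S.not_dvd_index (hd.trans (Subgroup.index_dvd_of_le ?_))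
    intro a ha
    have hpe := IsPE.of_mem_pgroup S.isPGroup' ha
    refine ⟨?_, Nat.Coprime.mul_right (coprime_of_pe H hs hne.1 hpe)
      (hpe.coprime ((Nat.coprime_primes hs hq.1).2 hne.2))⟩
    by_contra hc
    exact hne.2 (hone s (inPi_of_pe H hs hne.1 hpe hc))
  have hco : (Nat.card A).Coprime A.index := by
    refine Nat.coprime_of_dvd fun s hs h1 h2 => ?_
    rcases hAi s hs h2 with rfl | rfl
    · exact (hAc _ hs h1).1 rfl
    · exact (hAc _ hs h1).2 rfl
  obtain ⟨K, hK⟩ := Subgroup.exists_right_complement'_of_coprime (N := A) hco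
  have hKn : K.Normal := by
    constructor
    intro k hk g
    obtain ⟨⟨⟨a, ha⟩, ⟨l, hl⟩⟩, hal⟩ := hK.2 g
    simp only at hal
    have e : g * k * g⁻¹ = l * k * l⁻¹ := by
      have h1 := Subgroup.mem_center_iff.1 ha.1 (l * k * l⁻¹)
      calc g * k * g⁻¹ = a * (l * k * l⁻¹) * a⁻¹ := by rw [← hal]; group
        _ = l * k * l⁻¹ := by rw [← h1, mul_inv_cancel_right]
    rw [e]
    exact mul_mem (mul_mem hl hk) (inv_mem hl)
  have hKi : K.index = Nat.card A := hK.index_eq_card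
  have hmem : ∀ (s : ℕ), s.Prime → (s = p ∨ s = q) → ∀ a : G, IsPE s a → a ∈ K := by
    intro s hs hsp a ha
    rw [← QuotientGroup.eq_one_iff, ← orderOf_eq_one_iff]
    refine Nat.eq_one_of_dvd_coprimes (ha.coprime ?_) (orderOf_map_dvd (QuotientGroup.mk' K) a)
      (orderOf_dvd_natCard _)
    rw [← Subgroup.index_eq_card, hKi]
    refine hs.coprime_iff_not_dvd.2 fun hd => ?_
    rcases hsp with rfl | rfl
    · exact (hAc _ hs hd).1 rfl
    · exact (hAc _ hs hd).2 rfl
  have hle : (P : Subgroup G) ⊔ Q ≤ K :=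
    sup_le (fun a ha => hmem p H.prime (Or.inl rfl) a (IsPE.of_mem_pgroup P.isPGroup' ha))
      (fun a ha => hmem q hq.1 (Or.inr rfl) a (IsPE.of_mem_pgroup Q.isPGroup' ha))
  have hcop : (Nat.card P).Coprime (Nat.card Q) := by
    rw [P.card_eq_multiplicity, Q.card_eq_multiplicity]
    exact Nat.Coprime.pow _ _ ((Nat.coprime_primes H.prime hq.1).2 hq.ne.symm)
  have hKd : Nat.card K ∣ Nat.card P * Nat.card Q := by
    rw [P.card_eq_multiplicity, Q.card_eq_multiplicity]
    have hKA : Nat.card K = A.index := (hK.symm.index_eq_card).symm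
    rw [← Nat.factorization_le_iff_dvd Nat.card_pos.ne'
      (mul_ne_zero (pow_ne_zero _ H.prime.ne_zero) (pow_ne_zero _ hq.1.ne_zero)),
      Nat.factorization_mul (pow_ne_zero _ H.prime.ne_zero) (pow_ne_zero _ hq.1.ne_zero)]
    intro s
    by_cases hs : s.Prime
    swap
    · simp [Nat.factorization_eq_zero_of_not_prime _ hs]
    have hle' : (Nat.card K).factorization s ≤ (Nat.card G).factorization s :=
      (Nat.factorization_le_iff_dvd Nat.card_pos.ne' Nat.card_pos.ne').2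
        (Subgroup.card_subgroup_dvd_card K) s
    rw [Finsupp.add_apply, Nat.Prime.factorization_pow H.prime, Nat.Prime.factorization_pow hq.1]
    by_cases hd : s ∣ Nat.card K
    · rcases hAi s hs (hKA ▸ hd) with rfl | rfl
      · rw [Finsupp.single_eq_same]; omega
      · simp only [Finsupp.single_eq_same]; omega
    · rw [Nat.factorization_eq_zero_of_not_dvd hd]; exact Nat.zero_le _
  have hdK : Nat.card P * Nat.card Q ∣ Nat.card ((P : Subgroup G) ⊔ Q : Subgroup G) :=
    hcop.mul_dvd_of_dvd_of_dvd (Subgroup.card_dvd_of_le le_sup_left)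
      (Subgroup.card_dvd_of_le le_sup_right)
  have heq : (P : Subgroup G) ⊔ Q = K := Subgroup.eq_of_le_of_card_ge hle
    (Nat.le_of_dvd Nat.card_pos (hKd.trans hdK))
  refine ⟨P, Q, A, fun a ha => ha.1, ?_, heq ▸ hKn, ?_, ?_⟩
  · exact Nat.dvd_antisymm (heq ▸ hKd) hdK
  · rw [heq]; exact hK.symm.isCompl.inf_eq_bot
  · rw [heq]; exact hK.symm.isCompl.sup_eq_top

end Cfsg.Agent.TwoRegSizes38
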