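import Cfsg.Agent.Lib.CaminaSizes63Core
import Cfsg.Agent.S4033
import Cfsg.Agent.S4034

/-!
# Class sizes `1, n, m, n * m` with coprime `n, m`: both are prime powers

The input is the structure theorem for two `p`-regular class sizes, applied to the centralizer
of an element of prime power order.
-/

set_option autoImplicit false

namespace Cfsg.Agent.CaminaSizes63

open Cfsg.Agent.ClassSizeGraph76 (cs cls)
open Cfsg.Agent.TwoRegSizes38 (Cn IsPE mem_cn self_mem_cn)

universe u

variable {G : Type u} [Group G] {n m : ℕ}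

/-- The hypothesis on class sizes. -/
structure Vals (G : Type u) [Group G] (n m : ℕ) : Prop where
  one_lt_n : 1 < n
  one_lt_m : 1 < m
  cop : n.Coprime m
  vals : ∀ g : G, cs g = 1 ∨ cs g = n ∨ cs g = m ∨ cs g = n * m
  exn : ∃ g : G, cs g = n
  exm : ∃ g : G, cs g = m
  exnm : ∃ g : G, cs g = n * m

namespace Vals

theorem symm (D : Vals G n m) : Vals G m n where
  one_lt_n := D.one_lt_m
  one_lt_m := D.one_lt_n
  cop := D.cop.symm
  vals g := by have := D.vals g; rw [mul_comm m n]; tauto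
  exn := D.exm
  exm := D.exn
  exnm := by rw [mul_comm m n]; exact D.exnm

theorem not_n_dvd_m (D : Vals G n m) : ¬ n ∣ m := fun h =>
  D.one_lt_n.ne' (D.cop.eq_one_of_dvd h)

theorem not_nm_dvd_n (D : Vals G n m) : ¬ n * m ∣ n := fun h =>
  D.symm.not_n_dvd_m ((dvd_mul_left m n).trans h)

theorem not_nm_dvd_m (D : Vals G n m) : ¬ n * m ∣ m := fun h =>
  D.not_n_dvd_m ((dvd_mul_right n m).trans h)

theorem cases_of_n_dvd (D : Vals G n m) {g : G} (h : n ∣ cs g) : cs g = n ∨ cs g = n * m := by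
  rcases D.vals g with e | e | e | e
  · rw [e] at h; exact absurd (Nat.dvd_one.1 h) D.one_lt_n.ne'
  · exact Or.inl e
  · rw [e] at h; exact absurd h D.not_n_dvd_m
  · exact Or.inr e

theorem cases_of_dvd_n (D : Vals G n m) {g : G} (h : cs g ∣ n) : cs g = 1 ∨ cs g = n := by
  rcases D.vals g with e | e | e | e
  · exact Or.inl e
  · exact Or.inr e
  · rw [e] at h; exact absurd h D.symm.not_n_dvd_m
  · rw [e] at h; exact absurd h D.not_nm_dvd_n

theorem eq_n_of_dvd (D : Vals G n m) {g : G} (h : cs g ∣ n) (hg : g ∉ Subgroup.center G) :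
    cs g = n :=
  (D.cases_of_dvd_n h).resolve_left fun e => hg (cs_eq_one_iff.1 e)

theorem cases_of_not_center (D : Vals G n m) {g : G} (hg : g ∉ Subgroup.center G) :
    cs g = n ∨ cs g = m ∨ cs g = n * m :=
  (D.vals g).resolve_left fun e => hg (cs_eq_one_iff.1 e)

theorem not_center_of_n (D : Vals G n m) {g : G} (h : cs g = n) : g ∉ Subgroup.center G := fun hg =>
  D.one_lt_n.ne' (h.symm.trans (cs_eq_one_iff.2 hg))

theorem not_center_of_nm (D : Vals G n m) {g : G} (h : cs g = n * m) : g ∉ Subgroup.center G := by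
  intro hg
  have h1 : n * m = 1 := h.symm.trans (cs_eq_one_iff.2 hg)
  exact D.one_lt_n.ne' (Nat.eq_one_of_mul_eq_one_right h1)

theorem prime_not_dvd_m (D : Vals G n m) {r : ℕ} (hr : r.Prime) (h : r ∣ n) : ¬ r ∣ m := fun h2 =>
  hr.ne_one (Nat.eq_one_of_dvd_coprimes D.cop h h2)

variable [Finite G]

/-- A prime power element of class size `n`. -/
theorem exists_part (D : Vals G n m) :
    ∃ (p : ℕ) (x : G), p.Prime ∧ IsPE p x ∧ cs x = n := by
  obtain ⟨g, hg⟩ := D.exn
  obtain ⟨p, k, hp, -, hk, hpe⟩ :=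
    TwoRegSizes38.exists_primePow_not_mem (D.not_center_of_n hg)
  exact ⟨p, g ^ k, hp, hpe, D.eq_n_of_dvd
    ((cs_dvd_of_le (TwoRegSizes38.cn_le_cn_pow g k)).trans hg.dvd) hk⟩

/-- An element of class size `n * m` whose centralizer is above that of `a`. -/
theorem cn_eq_of_nm (D : Vals G n m) {a b : G} (hle : Cn a ≤ Cn b) (hb : cs b = n * m) :
    Cn a = Cn b := by
  refine cn_eq_of_le hle ?_
  have hd := cs_dvd_of_le hle
  rw [hb] at hd
  rcases D.cases_of_n_dvd ((dvd_mul_right n m).trans hd) with e | e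
  · rw [e] at hd; exact absurd hd D.not_nm_dvd_n
  · exact e.trans hb.symm

/-- Class sizes inside the centralizer of an element of class size `n`. -/
theorem rel_cases (D : Vals G n m) {x v : G} (hx : cs x = n) (h : Cn (x * v) = Cn x ⊓ Cn v) :
    (Cn v).relIndex (Cn x) = 1 ∨ (Cn v).relIndex (Cn x) = m := by
  have h1 : cs (x * v) = (Cn v).relIndex (Cn x) * n := by
    show (Cn (x * v)).index = _
    rw [h, index_inf, show (Cn x).index = cs x from rfl, hx]
  have h0 : 0 < n := (zero_lt_one.trans D.one_lt_n)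
  rcases D.cases_of_n_dvd (g := x * v) (h1 ▸ dvd_mul_left _ _) with e | e
  · left
    rw [h1] at e
    exact Nat.eq_of_mul_eq_mul_right h0 (e.trans (one_mul n).symm)
  · right
    rw [h1, mul_comm n m] at e
    exact Nat.eq_of_mul_eq_mul_right h0 e

/-- Two `p`-regular class sizes in `C(x)` bound the primes of `m`. -/
theorem primes_m (D : Vals G n m) {p r : ℕ} (hp : p.Prime) (hr : r.Prime) (hne : r ≠ p) {x w : G}
    (hx : IsPE p x) (hxn : cs x = n) (hw : IsPE r w) (hwx : w ∈ Cn x) (hnle : ¬ Cn x ≤ Cn w) :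
    ∀ s : ℕ, s.Prime → s ∣ m → s = p ∨ s = r := by
  classical
  haveI : Fact p.Prime := ⟨hp⟩
  have hsize : ∀ v : Cn x, (ConjClasses.mk v).carrier.ncard = (Cn (v : G)).relIndex (Cn x) :=
    fun v => (S4034.ncard_class v).trans (index_cn_subgroup _ v)
  have hreg : ∀ v : Cn x, (orderOf v).Coprime p → (ConjClasses.mk v).carrier.ncard = 1 ∨
      (ConjClasses.mk v).carrier.ncard = m := by
    intro v hv
    rw [hsize v]
    refine D.rel_cases hxn (cn_mul (mem_cn.1 v.2).symm ?_)
    obtain ⟨j, hj⟩ := hx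
    rw [hj, Subgroup.orderOf_coe]
    exact (hv.pow_right j).symm
  have hwo : (orderOf (⟨w, hwx⟩ : Cn x)).Coprime p := by
    rw [Subgroup.orderOf_mk]
    exact hw.coprime ((Nat.coprime_primes hr hp).2 hne)
  have hwm : (ConjClasses.mk (⟨w, hwx⟩ : Cn x)).carrier.ncard = m := by
    refine (hreg _ hwo).resolve_left ?_
    rw [hsize, Subgroup.relIndex_eq_one]
    exact hnle
  have h2 : Set.ncard (Set.range fun v : {v : Cn x // (orderOf v).Coprime p} =>
      (ConjClasses.mk (v : Cn x)).carrier.ncard) = 2 := by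
    have hrange : (Set.range fun v : {v : Cn x // (orderOf v).Coprime p} =>
        (ConjClasses.mk (v : Cn x)).carrier.ncard) = {1, m} := by
      ext k
      constructor
      · rintro ⟨⟨v, hv⟩, rfl⟩
        exact hreg v hv
      · rintro (rfl | rfl)
        · refine ⟨⟨1, by simp⟩, ?_⟩
          show (ConjClasses.mk (1 : Cn x)).carrier.ncard = 1
          rw [hsize, Subgroup.relIndex_eq_one, cn_le_iff]
          intro g _
          simp
        · exact ⟨⟨_, hwo⟩, hwm⟩
    rw [hrange, Set.ncard_pair D.one_lt_m.ne]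
  intro s hs hsm
  rcases S4033.result hp h2 with hab | ⟨q, hqf, P, Q, A, hqp, hAc, hcard, hPQn, hinf, hsup⟩
  · obtain ⟨k, hk⟩ := (S4034.result hp).2 hab ⟨w, hwx⟩ hwo
    rw [hwm] at hk
    rw [hk] at hsm
    exact Or.inl ((Nat.prime_dvd_prime_iff_eq hs hp).1 (hs.dvd_of_dvd_pow hsm))
  · haveI : A.Normal := ⟨fun a ha g => by
      rw [Subgroup.mem_center_iff.1 (hAc ha) g, mul_inv_cancel_right]; exact ha⟩
    have hidx : A.index = Nat.card P * Nat.card Q := by
      rw [← hcard, ← Subgroup.relIndex_top_right, ← hsup, Subgroup.relIndex_sup_right,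
        ← Subgroup.inf_relIndex_right, inf_comm, hinf, Subgroup.relIndex_bot_left]
    obtain ⟨i, hi⟩ := IsPGroup.iff_card.1 P.2
    obtain ⟨j, hj⟩ := IsPGroup.iff_card.1 Q.2
    have hsplit : ∀ t : ℕ, t.Prime → t ∣ A.index → t = p ∨ t = q := by
      intro t ht htd
      rw [hidx, hi, hj] at htd
      rcases ht.dvd_mul.1 htd with h | h
      · exact Or.inl ((Nat.prime_dvd_prime_iff_eq ht hp).1 (ht.dvd_of_dvd_pow h))
      · exact Or.inr ((Nat.prime_dvd_prime_iff_eq ht hqf.out).1 (ht.dvd_of_dvd_pow h))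
    have hwA : A.index.Coprime r → False := by
      intro hco
      have h1 : (⟨w, hwx⟩ : Cn x) ^ A.index ∈ Subgroup.center (Cn x) :=
        hAc (Subgroup.pow_index_mem A _)
      obtain ⟨j', hj'⟩ := hw
      obtain ⟨e, he⟩ := exists_pow_eq_self_of_coprime (n := A.index) (x := (⟨w, hwx⟩ : Cn x))
        (by rw [Subgroup.orderOf_mk, hj']; exact hco.pow_right j')
      have hwc : (⟨w, hwx⟩ : Cn x) ∈ Subgroup.center (Cn x) := he ▸ pow_mem h1 e
      apply hnle
      rw [cn_le_iff]
      intro g hg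
      have := Subgroup.mem_center_iff.1 hwc ⟨g, hg⟩
      simpa [Subtype.ext_iff] using this
    have hrq : r = q := by
      have hrd : r ∣ A.index := by
        by_contra h
        exact hwA ((Nat.Prime.coprime_iff_not_dvd hr).2 h).symm
      exact (hsplit r hr hrd).resolve_left hne
    have hmd : m ∣ A.index := by
      rw [← hwm, S4034.ncard_class]
      exact Subgroup.index_dvd_of_le (hAc.trans (Subgroup.center_le_centralizer _))
    rw [hrq]
    exact hsplit s hs (hsm.trans hmd)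

/-- Two primes suffice for `n` and `m`. -/
theorem prime_pow_of_primes (D : Vals G n m) {p r : ℕ}
    (h1 : ∀ s : ℕ, s.Prime → s ∣ n → s = p ∨ s = r)
    (h2 : ∀ s : ℕ, s.Prime → s ∣ m → s = p ∨ s = r) : IsPrimePow n ∧ IsPrimePow m := by
  obtain ⟨a, ha, han⟩ := Nat.exists_prime_and_dvd D.one_lt_n.ne'
  obtain ⟨b, hb, hbm⟩ := Nat.exists_prime_and_dvd D.one_lt_m.ne'
  have hab : a ≠ b := fun h => D.prime_not_dvd_m ha han (h ▸ hbm)
  have key : ∀ s : ℕ, s.Prime → s = p ∨ s = r → s = a ∨ s = b := by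
    intro s _ hs
    have h3 := h1 a ha han
    have h4 := h2 b hb hbm
    omega
  have hn0 : ∀ s, Nat.Prime s ∧ s ∣ n → s = a := fun s ⟨hs, hsn⟩ =>
    (key s hs (h1 s hs hsn)).resolve_right fun e => D.prime_not_dvd_m hs hsn (e ▸ hbm)
  have hm0 : ∀ s, Nat.Prime s ∧ s ∣ m → s = b := fun s ⟨hs, hsm⟩ =>
    (key s hs (h2 s hs hsm)).resolve_left fun e => D.prime_not_dvd_m hs (e ▸ han) hsm
  constructor
  · exact isPrimePow_iff_unique_prime_dvd.2 ⟨a, ⟨ha, han⟩, hn0⟩
  · exact isPrimePow_iff_unique_prime_dvd.2 ⟨b, ⟨hb, hbm⟩, hm0⟩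

/-- A commuting pair of prime power elements of types `n` and `m` for different primes. -/
theorem pair_done (D : Vals G n m) {p q : ℕ} (hp : p.Prime) (hq : q.Prime) (hne : p ≠ q) {x y : G}
    (hx : IsPE p x) (hxn : cs x = n) (hy : IsPE q y) (hym : cs y = m) (h : y ∈ Cn x) :
    IsPrimePow n ∧ IsPrimePow m := by
  refine D.prime_pow_of_primes (p := q) (r := p) ?_ fun s hs hsm =>
    (D.primes_m hp hq hne.symm hx hxn hy h ?_ s hs hsm).symm
  · exact D.symm.primes_m hq hp hne hy hym hx (mem_cn_symm h) fun hle => by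
      have := cs_dvd_of_le hle
      rw [hxn, hym] at this
      exact D.not_n_dvd_m this
  · intro hle
    have := cs_dvd_of_le hle
    rw [hxn, hym] at this
    exact D.symm.not_n_dvd_m this

theorem coprime_cs (D : Vals G n m) {x y : G} (hxn : cs x = n) (hym : cs y = m) :
    (cs x).Coprime (cs y) := by rw [hxn, hym]; exact D.cop

theorem pair_done_of_not_dvd (D : Vals G n m) {p q : ℕ} (hp : p.Prime) (hq : q.Prime)
    (hne : p ≠ q) {x y : G} (hx : IsPE p x) (hxn : cs x = n) (hy : IsPE q y) (hym : cs y = m)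
    (h : ¬ p ∣ m) : IsPrimePow n ∧ IsPrimePow m := by
  obtain ⟨y', hy', hxy⟩ := exists_conj_comm hp hx (a := y) (hym ▸ h)
  exact D.pair_done hp hq hne hx hxn hy hym
    (mem_cn_symm (comm_of_conj (D.coprime_cs hxn hym) ⟨1, by simp⟩ hy' hxy))

theorem same_prime (D : Vals G n m) {p : ℕ} (hp : p.Prime) {x y : G} (hx : IsPE p x)
    (hxn : cs x = n) (hy : IsPE p y) (hym : cs y = m) (hpn : ¬ p ∣ n) :
    IsPrimePow n ∧ IsPrimePow m := by
  obtain ⟨r, hr, hrn⟩ := Nat.exists_prime_and_dvd D.one_lt_n.ne'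
  have hrp : r ≠ p := fun h => hpn (h ▸ hrn)
  have hrm : ¬ r ∣ m := D.prime_not_dvd_m hr hrn
  by_cases hcent : ∃ w ∈ Cn x, w ∉ Subgroup.center G ∧ IsPE r w
  · obtain ⟨w, hwx, hwc, hw⟩ := hcent
    rcases D.cases_of_not_center hwc with e | e | e
    · exact D.pair_done_of_not_dvd hr hp hrp hw e hy hym hrm
    · exact D.pair_done hp hr hrp.symm hx hxn hw e hwx
    · have hxw : ¬ Cn x ≤ Cn w := fun hle => by
        have := cs_dvd_of_le hle
        rw [e, hxn] at this
        exact D.not_nm_dvd_n this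
      obtain ⟨y', hy', hwy⟩ := exists_conj_comm hr hw (a := y) (hym ▸ hrm)
      have hym' : cs y' = m := (cs_of_mem_cls hy').trans hym
      have hyw : ¬ Cn y' ≤ Cn w := fun hle => by
        have := cs_dvd_of_le hle
        rw [e, hym'] at this
        exact D.not_nm_dvd_m this
      exact D.prime_pow_of_primes
        (D.symm.primes_m hp hr hrp (isPE_of_mem_cls hy hy') hym' hw hwy hyw)
        (D.primes_m hp hr hrp hx hxn hw hwx hxw)
  · have hfull : Full r x := full_of_forall hr fun v hv hpe => by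
      by_contra hc
      exact hcent ⟨v, hv, hc, hpe⟩
    obtain ⟨g, hg⟩ := D.exnm
    obtain ⟨w, hw, hwc⟩ := exists_not_center (g := g) hr (hg ▸ hrn.mul_right m)
    obtain ⟨y', hy', hwy⟩ := exists_conj_comm hr hw (a := y) (hym ▸ hrm)
    have hym' : cs y' = m := (cs_of_mem_cls hy').trans hym
    have hype : IsPE p y' := isPE_of_mem_cls hy hy'
    have hC : Cn (y' * w) = Cn y' ⊓ Cn w := cn_mul_isPE hp hr hrp.symm hype hw hwy
    have hmd : m ∣ cs (y' * w) := hym' ▸ cs_dvd_of_le (hC ▸ inf_le_left)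
    rcases D.symm.cases_of_n_dvd hmd with e | e
    · have hle : Cn y' ≤ Cn w := by
        have h1 : Cn (y' * w) = Cn y' := cn_eq_of_le (hC ▸ inf_le_left) (e.trans hym'.symm)
        rw [← h1, hC]
        exact inf_le_right
      have hwm : cs w = m := D.symm.eq_n_of_dvd (hym' ▸ cs_dvd_of_le hle) hwc
      obtain ⟨x', hx', hyx⟩ := exists_conj_comm hp hype (a := x) (hxn ▸ hpn)
      exact D.pair_done hp hr hrp.symm (isPE_of_mem_cls hx hx') ((cs_of_mem_cls hx').trans hxn) hw
        hwm (mem_cn_symm (hle (mem_cn_symm hyx)))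
    · exfalso
      have hf' : Full r (y' * w) := full_of_dvd (a := x)
        (by rw [hxn, e]; exact dvd_mul_left n m) hfull
      refine hwc (mem_center_of_full hr hf' ?_ hw)
      rw [hC]
      exact ⟨hwy, self_mem_cn w⟩

theorem full_of_distinct (D : Vals G n m) (hno : ¬ (IsPrimePow n ∧ IsPrimePow m))
    (hdist : ∀ (p q : ℕ) (x y : G), p.Prime → q.Prime → IsPE p x → cs x = n → IsPE q y →
      cs y = m → p ≠ q)
    {q : ℕ} (hq : q.Prime) {y : G} (hy : IsPE q y) (hym : cs y = m) {r : ℕ} (hr : r.Prime)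
    (hrn : ¬ r ∣ n) : Full r y := by
  refine full_of_forall hr fun w hw hwpe => ?_
  by_contra hwc
  obtain ⟨p, x, hp, hx, hxn⟩ := D.exists_part
  rcases D.cases_of_not_center hwc with e | e | e
  · exact hno (D.pair_done hr hq (hdist r q w y hr hq hwpe e hy hym) hwpe e hy hym (mem_cn_symm hw))
  · exact hno (D.symm.pair_done_of_not_dvd hr hp (hdist p r x w hp hr hx hxn hwpe e).symm hwpe e hx
      hxn hrn).symm
  · have hqn : q ∣ n := by
      by_contra h
      exact hno (D.symm.pair_done_of_not_dvd hq hp (hdist p q x y hp hq hx hxn hy hym).symm hy hym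
        hx hxn h).symm
    have hrq : q ≠ r := fun h => hrn (h ▸ hqn)
    have hC : Cn (y * w) = Cn y ⊓ Cn w := cn_mul_isPE hq hr hrq hy hwpe hw
    have hle : Cn w ≤ Cn y := by
      rw [← D.cn_eq_of_nm (hC ▸ inf_le_right) e, hC]
      exact inf_le_left
    obtain ⟨x', hx', hwx⟩ := exists_conj_comm hr hwpe (a := x) (hxn ▸ hrn)
    exact hno (D.pair_done hp hq (hdist p q x y hp hq hx hxn hy hym) (isPE_of_mem_cls hx hx')
      ((cs_of_mem_cls hx').trans hxn) hy hym (mem_cn_symm (hle (mem_cn_symm hwx))))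

/-- Both `n` and `m` are prime powers. -/
theorem isPrimePow (D : Vals G n m) : IsPrimePow n ∧ IsPrimePow m := by
  by_contra hno
  have hdist : ∀ (p q : ℕ) (x y : G), p.Prime → q.Prime → IsPE p x → cs x = n → IsPE q y →
      cs y = m → p ≠ q := by
    rintro p _ x y hp - hx hxn hy hym rfl
    by_cases hpn : p ∣ n
    · exact hno (D.symm.same_prime hp hy hym hx hxn (D.prime_not_dvd_m hp hpn)).symm
    · exact hno (D.same_prime hp hx hxn hy hym hpn)
  obtain ⟨p, x, hp, hx, hxn⟩ := D.exists_part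
  obtain ⟨q, y, hq, hy, hym⟩ := D.symm.exists_part
  obtain ⟨g, hg⟩ := D.exnm
  refine D.not_center_of_nm hg (mem_of_parts fun r k hr hpe => ?_)
  have hgk : g ^ k ∈ Cn g := mem_cn.2 (Commute.self_pow g k).symm
  by_cases hrn : r ∣ n
  · have hf := D.symm.full_of_distinct (fun h => hno h.symm)
      (fun a b u v ha hb hu hun hv hvm => (hdist b a v u hb ha hv hvm hu hun).symm)
      hp hx hxn hr (D.prime_not_dvd_m hr hrn)
    exact mem_center_of_full hr (full_of_dvd (by rw [hxn, hg]; exact dvd_mul_right n m) hf) hgk hpe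
  · have hf := D.full_of_distinct hno hdist hq hy hym hr hrn
    exact mem_center_of_full hr (full_of_dvd (by rw [hym, hg]; exact dvd_mul_left m n) hf) hgk hpe

end Vals

end Cfsg.Agent.CaminaSizes63
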