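import Cfsg.Agent.Lib.SplitVoltage

/-!
A certificate for the splitting of central extensions with coefficients of order two: a polycyclic
chain of a subgroup of odd index and the invariance of its classes under conjugations.
-/

set_option autoImplicit false

namespace Cfsg.Agent.CenSplitStable50

open Subgroup Cfsg.Agent.SplitVoltage

universe u

/-- Central extensions split over `ZMod m` if they split over a subgroup of index prime to `m`. -/
theorem censplit_of_sub {m : ℕ} [NeZero m] {G : Type u} [Group G] [Finite G] (S : Subgroup G)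
    (hcop : Nat.Coprime S.index m)
    (h : ∀ (Γ : Type u) [Group Γ] [Finite Γ] (σ : Γ →* G), Function.Surjective σ →
      σ.ker ≤ center Γ → ∀ χ : σ.ker →* Multiplicative (ZMod m),
      ∃ φ : S.comap σ →* Multiplicative (ZMod m), ∀ z : σ.ker, ∀ hz : (z : Γ) ∈ S.comap σ,
        φ ⟨z, hz⟩ = χ z) :
    CenSplit m G := by
  intro Γ _ _ σ hs hc χ
  obtain ⟨φ, hφ⟩ := h Γ σ hs hc χ
  have key : ∀ z : σ.ker, ∀ (k : ℕ) (g : Γ), g⁻¹ * (z : Γ) ^ k * g = (z : Γ) ^ k := fun z k g => by
    rw [mul_assoc, ← Subgroup.mem_center_iff.1 (pow_mem (hc z.2) k) g, inv_mul_cancel_left]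
  have hmem : ∀ z : σ.ker, (z : Γ) ∈ S.comap σ := fun z => by
    show σ (z : Γ) ∈ S
    rw [MonoidHom.mem_ker.1 z.2]; exact S.one_mem
  have hV : ∀ z : σ.ker, MonoidHom.transfer φ (z : Γ) = χ z ^ (S.comap σ).index := by
    intro z
    rw [MonoidHom.transfer_eq_pow φ (z : Γ) (fun k g hk => by rw [key] at hk; exact key z k g),
      ← hφ z (hmem z), ← map_pow]
    exact congrArg φ (Subtype.ext rfl)
  obtain ⟨k, hk⟩ := exists_mul_mod_one hcop
  refine ⟨((MonoidHom.transfer φ) ^ k)⁻¹, fun z => ?_⟩
  rw [MonoidHom.inv_apply, MonoidHom.pow_apply, hV, Subgroup.index_comap_of_surjective S hs,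
    ← pow_mul]
  apply Multiplicative.toAdd.injective
  rw [toAdd_inv, toAdd_pow, nsmul_eq_mul, hk, neg_one_mul, neg_neg]

/-! ### forms -/

/-- a bit as an element of the field with two elements -/
def bz (b : Bool) : ZMod 2 := bif b then 1 else 0

theorem bz_xor : ∀ a b : Bool, bz (a != b) = bz a + bz b := by decide

/-- the value of a packed form -/
def evalB (V : ℕ) (v : ℕ → ZMod 2) (f : ℕ) : ZMod 2 :=
  ∑ j ∈ Finset.range V, bz (f.testBit j) * v j

theorem evalB_zero (V : ℕ) (v : ℕ → ZMod 2) : evalB V v 0 = 0 := by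
  simp [evalB, bz]

theorem evalB_xor (V : ℕ) (v : ℕ → ZMod 2) (a b : ℕ) :
    evalB V v (a ^^^ b) = evalB V v a + evalB V v b := by
  rw [evalB, evalB, evalB, ← Finset.sum_add_distrib]
  refine Finset.sum_congr rfl fun j _ => ?_
  rw [Nat.testBit_xor, bz_xor, add_mul]

theorem evalB_two_pow {V : ℕ} (v : ℕ → ZMod 2) {j : ℕ} (hj : j < V) :
    evalB V v (2 ^ j) = v j := by
  rw [evalB, Finset.sum_eq_single j]
  · simp [bz]
  · intro i _ hi
    simp [bz, hi.symm]
  · intro h; exact absurd (Finset.mem_range.2 hj) h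

/-- the sum of a list of forms -/
def xall : List ℕ → ℕ
  | [] => 0
  | a :: l => a ^^^ xall l

theorem evalB_xall (V : ℕ) (v : ℕ → ZMod 2) : ∀ l : List ℕ,
    evalB V v (xall l) = (l.map (evalB V v)).sum
  | [] => evalB_zero V v
  | a :: l => by rw [xall, evalB_xor, evalB_xall V v l, List.map_cons, List.sum_cons]

theorem two_zero (a : ZMod 2) : a + a = 0 := by revert a; decide

/-! ### collection -/

/-- appending a letter to a normal form, written top first -/
def ins (rels : List (List ℕ × List ℕ)) : ℕ → List ℕ → ℕ → Option (List ℕ × ℕ)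
  | 0, _, _ => none
  | _ + 1, [], i => some ([i], 0)
  | k + 1, t :: s, i =>
    if t < i then some (i :: t :: s, 0)
    else
      let r := t * (t + 1) / 2 + i
      if decide (r < rels.length) && ((rels.getD r ([], [])).1 == [t, i]) then
        (rels.getD r ([], [])).2.foldl
          (fun acc a => acc.bind fun p => (ins rels k p.1 a).map fun q => (q.1, p.2 ^^^ q.2))
          (some (s, 2 ^ r))
      else none

/-- the normal form of a word -/
def coll (rels : List (List ℕ × List ℕ)) (k : ℕ) (w : List ℕ) : Option (List ℕ × ℕ) :=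
  w.foldl (fun acc a => acc.bind fun p => (ins rels k p.1 a).map fun q => (q.1, p.2 ^^^ q.2))
    (some ([], 0))

/-- an equation -/
inductive Eqn where
  | A (p : List ℕ) (r : ℕ) : Eqn
  | B (W₁ W₂ : List ℕ) : Eqn

/-- the data of a certificate -/
structure Cert where
  n : ℕ
  fuel : ℕ
  rels : List (List ℕ × List ℕ)
  pairs : List (ℕ × List ℕ × List ℕ)
  eqs : List Eqn
  forms : List ℕ
  lam : List ℕ
  combos : List (List ℕ)

namespace Cert

variable (C : Cert)

/-- number of unknowns -/
def V : ℕ := C.rels.length + C.pairs.length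

/-- the source of a word in pairs -/
def src (W : List ℕ) : List ℕ := W.flatMap fun k => (C.pairs.getD k (0, [], [])).2.1

/-- the image of a word in pairs -/
def img (W : List ℕ) : List ℕ := W.flatMap fun k => (C.pairs.getD k (0, [], [])).2.2

/-- the form of an equation -/
def formOf : Eqn → Option ℕ
  | .A p r =>
    if decide (r < C.rels.length) then
      match coll C.rels C.fuel (p ++ (C.rels.getD r ([], [])).1),
        coll C.rels C.fuel (p ++ (C.rels.getD r ([], [])).2) with
      | some a, some b => if a.1 == b.1 then some (a.2 ^^^ b.2 ^^^ 2 ^ r) else none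
      | _, _ => none
    else none
  | .B W₁ W₂ =>
    let x := (C.pairs.getD (W₁.headD 0) (0, [], [])).1
    if (W₁ ++ W₂).all (fun k => decide (k < C.pairs.length) &&
        ((C.pairs.getD k (0, [], [])).1 == x)) then
      match coll C.rels C.fuel (C.src W₁), coll C.rels C.fuel (C.src W₂),
        coll C.rels C.fuel (C.img W₁), coll C.rels C.fuel (C.img W₂) with
      | some a, some b, some c, some d =>
        if (a.1 == b.1) && (c.1 == d.1) then
          some (a.2 ^^^ b.2 ^^^ (c.2 ^^^ d.2) ^^^
            xall ((W₁ ++ W₂).map fun k => 2 ^ (C.rels.length + k)))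
        else none
      | _, _, _, _ => none
    else none

/-- the shape of the relations of the chain -/
def shapeOK : Bool :=
  (List.range C.n).all fun t => (List.range (t + 1)).all fun i =>
    let r := t * (t + 1) / 2 + i
    let l := C.rels.getD r ([], [])
    decide (r < C.rels.length) && (l.1 == [t, i]) &&
      (if i == t then l.2.all (fun a => decide (i < a ∧ a < C.n))
       else match l.2 with
        | [] => false
        | a :: w => (a == i) && w.all (fun b => decide (i < b ∧ b < C.n)))

/-- the elimination -/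
def combOK : Bool :=
  ((List.range C.forms.length).all fun j =>
    decide (j < C.eqs.length) && (C.formOf (C.eqs.getD j (.A [] 0)) == some (C.forms.getD j 0))) &&
  (List.range C.rels.length).all fun r =>
      let l := C.rels.getD r ([], [])
      ((C.combos.getD r []).all fun j => decide (j < C.forms.length)) &&
      (xall ((C.combos.getD r []).map fun j => C.forms.getD j 0) ==
        2 ^ r ^^^ xall ((l.1 ++ l.2).map fun a => C.lam.getD a 0))

end Cert

/-! ### extensions -/

section Ext

variable {G : Type u} [Group G] {Γ : Type u} [Group Γ] {σ : Γ →* G}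
  {χ : σ.ker →* Multiplicative (ZMod 2)}

/-- equality up to a kernel element of given value -/
def E (χ : σ.ker →* Multiplicative (ZMod 2)) (a b : Γ) (m : ZMod 2) : Prop :=
  ∃ z : σ.ker, a = b * (z : Γ) ∧ Multiplicative.toAdd (χ z) = m

theorem E_refl (a : Γ) : E χ a a 0 := ⟨1, by simp, by simp⟩

theorem E_trans {a b c : Γ} {m n : ZMod 2} (h₁ : E χ a b m) (h₂ : E χ b c n) :
    E χ a c (m + n) := by
  obtain ⟨z, rfl, hz⟩ := h₁
  obtain ⟨w, rfl, hw⟩ := h₂
  exact ⟨w * z, by rw [Subgroup.coe_mul, mul_assoc], by rw [map_mul, toAdd_mul, hz, hw, add_comm]⟩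

theorem E_symm {a b : Γ} {m : ZMod 2} (h : E χ a b m) : E χ b a m := by
  obtain ⟨z, rfl, hz⟩ := h
  refine ⟨z⁻¹, by simp, ?_⟩
  rw [map_inv, toAdd_inv, hz, ZMod.neg_eq_self_mod_two]

theorem E_mul (hc : σ.ker ≤ center Γ) {a b c d : Γ} {m n : ZMod 2} (h₁ : E χ a b m)
    (h₂ : E χ c d n) : E χ (a * c) (b * d) (m + n) := by
  obtain ⟨z, rfl, hz⟩ := h₁
  obtain ⟨w, rfl, hw⟩ := h₂
  refine ⟨z * w, ?_, by rw [map_mul, toAdd_mul, hz, hw]⟩
  rw [Subgroup.coe_mul, mul_assoc b (z : Γ), ← mul_assoc (z : Γ) d,
    ← mem_center_iff.1 (hc z.2) d]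
  simp [mul_assoc]

theorem E_conj (hc : σ.ker ≤ center Γ) (x : Γ) {a b : Γ} {m : ZMod 2} (h : E χ a b m) :
    E χ (x * a * x⁻¹) (x * b * x⁻¹) m := by
  simpa using E_mul hc (E_mul hc (E_refl (χ := χ) x) h) (E_refl x⁻¹)

theorem E_unique {a b : Γ} {m n : ZMod 2} (h₁ : E χ a b m) (h₂ : E χ a b n) : m = n := by
  obtain ⟨z, rfl, hz⟩ := h₁
  obtain ⟨w, hw, hw'⟩ := h₂
  rw [← hz, ← hw', Subtype.ext (mul_left_cancel hw)]

theorem E_exists {a b : Γ} (h : σ a = σ b) : ∃ m, E χ a b m :=
  ⟨_, ⟨b⁻¹ * a, by rw [MonoidHom.mem_ker, map_mul, map_inv, h, inv_mul_cancel]⟩,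
    (mul_inv_cancel_left b a).symm, rfl⟩

/-- the value of a word -/
def P (L : ℕ → Γ) (w : List ℕ) : Γ := (w.map L).prod

theorem P_nil (L : ℕ → Γ) : P L [] = 1 := rfl

theorem P_cons (L : ℕ → Γ) (a : ℕ) (w : List ℕ) : P L (a :: w) = L a * P L w := List.prod_cons

theorem P_append (L : ℕ → Γ) (v w : List ℕ) : P L (v ++ w) = P L v * P L w := by
  simp [P]

theorem P_map {H : Type*} [Group H] (f : Γ →* H) (L : ℕ → Γ) (w : List ℕ) :
    f (P L w) = P (fun i => f (L i)) w := by
  rw [P, P, map_list_prod, List.map_map]; rfl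

theorem fold_none {α : Type*} (f : α → ℕ → Option α) : ∀ w : List ℕ,
    w.foldl (fun acc a => acc.bind fun p => f p a) none = none
  | [] => rfl
  | _ :: w => fold_none f w

theorem fold_sound (hc : σ.ker ≤ center Γ) (L : ℕ → Γ) (V : ℕ) (v : ℕ → ZMod 2)
    (f : List ℕ → ℕ → Option (List ℕ × ℕ))
    (hf : ∀ s a s' g, f s a = some (s', g) →
      E χ (P L s.reverse * L a) (P L s'.reverse) (evalB V v g)) :
    ∀ (w s : List ℕ) (g : ℕ) (out : List ℕ × ℕ),
      w.foldl (fun acc a => acc.bind fun p => (f p.1 a).map fun q => (q.1, p.2 ^^^ q.2))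
        (some (s, g)) = some out →
      E χ (P L s.reverse * P L w) (P L out.1.reverse) (evalB V v g + evalB V v out.2) := by
  intro w
  induction w with
  | nil =>
    intro s g out h
    simp only [List.foldl_nil, Option.some.injEq] at h
    subst h
    rw [P_nil, mul_one, two_zero]
    exact E_refl _
  | cons a w ih =>
    intro s g out h
    rw [List.foldl_cons, Option.bind_some] at h
    cases hq : f s a with
    | none =>
      rw [hq, Option.map_none] at h
      rw [fold_none (fun p a => (f p.1 a).map fun q => (q.1, p.2 ^^^ q.2))] at h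
      exact absurd h (by simp)
    | some q =>
      rw [hq, Option.map_some] at h
      have h1 := hf s a q.1 q.2 hq
      have h2 := ih q.1 (g ^^^ q.2) out h
      rw [P_cons, ← mul_assoc]
      have h3 := E_trans (E_mul hc h1 (E_refl (P L w))) h2
      rw [evalB_xor] at h3
      convert h3 using 1
      rw [add_zero, ← add_assoc (evalB V v q.2), ← add_assoc (evalB V v q.2),
        add_comm (evalB V v q.2) (evalB V v g), add_assoc (evalB V v g) _ (evalB V v q.2),
        two_zero, add_zero]

variable (L : ℕ → Γ) (rels : List (List ℕ × List ℕ)) (V : ℕ) (v : ℕ → ZMod 2)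

theorem ins_sound (hc : σ.ker ≤ center Γ) (hV : rels.length ≤ V)
    (hrel : ∀ r < rels.length,
      E χ (P L (rels.getD r ([], [])).1) (P L (rels.getD r ([], [])).2) (v r)) :
    ∀ (k : ℕ) (s : List ℕ) (a : ℕ) (s' : List ℕ) (g : ℕ), ins rels k s a = some (s', g) →
      E χ (P L s.reverse * L a) (P L s'.reverse) (evalB V v g) := by
  intro k
  induction k with
  | zero => intro s a s' g h; simp [ins] at h
  | succ k ih =>
    intro s a s' g h
    cases s with
    | nil =>
      simp only [ins, Option.some.injEq, Prod.mk.injEq] at h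
      obtain ⟨rfl, rfl⟩ := h
      rw [evalB_zero]
      simpa [P] using E_refl (χ := χ) (L a)
    | cons t s =>
      simp only [ins] at h
      split_ifs at h with h1 h2
      · simp only [Option.some.injEq, Prod.mk.injEq] at h
        obtain ⟨rfl, rfl⟩ := h
        rw [evalB_zero]
        simpa [P, mul_assoc] using E_refl (χ := χ) (P L (t :: s).reverse * L a)
      · simp only [Bool.and_eq_true, decide_eq_true_eq, beq_iff_eq] at h2
        have h3 := fold_sound hc L V v _ (ih) _ _ _ _ h
        rw [evalB_two_pow v (lt_of_lt_of_le h2.1 hV)] at h3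
        have h4 := hrel _ h2.1
        rw [h2.2] at h4
        have h5 := E_trans (E_mul hc (E_refl (χ := χ) (P L s.reverse)) h4) h3
        rw [zero_add, ← add_assoc, two_zero, zero_add] at h5
        simpa [P, mul_assoc] using h5

theorem coll_sound (hc : σ.ker ≤ center Γ) (hV : rels.length ≤ V)
    (hrel : ∀ r < rels.length,
      E χ (P L (rels.getD r ([], [])).1) (P L (rels.getD r ([], [])).2) (v r))
    (k : ℕ) {w : List ℕ} {out : List ℕ × ℕ} (h : coll rels k w = some out) :
    E χ (P L w) (P L out.1.reverse) (evalB V v out.2) := by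
  have := fold_sound hc L V v _ (ins_sound L rels V v hc hV hrel k) w [] 0 out h
  simpa [P, evalB_zero] using this

end Ext

/-- closure of a subgroup with one normalising element squaring into it -/
theorem card_step {H : Type*} [Group H] [Finite H] (K : Subgroup H) (A : Set H) (u : H)
    (hA : closure A = K) (hsq : u * u ∈ K) (hconj : ∀ a ∈ A, ∃ w ∈ K, a * u = u * w) :
    Nat.card (closure (insert u A)) ≤ 2 * Nat.card K := by
  have hsub : (closure (insert u A) : Set H) ⊆ (K : Set H) ∪ (fun h => u * h) '' (K : Set H) := by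
    intro g hg
    rw [SetLike.mem_coe, ← Subgroup.mem_toSubmonoid, closure_toSubmonoid_of_finite] at hg
    induction hg using Submonoid.closure_induction_left with
    | one => exact Or.inl K.one_mem
    | mul_left a ha y _ ih =>
      rcases ha with rfl | ha
      · rcases ih with ih | ⟨h, hh, rfl⟩
        · exact Or.inr ⟨y, ih, rfl⟩
        · exact Or.inl (by rw [← mul_assoc]; exact K.mul_mem hsq hh)
      · have haK : a ∈ K := hA ▸ subset_closure ha
        rcases ih with ih | ⟨h, hh, rfl⟩
        · exact Or.inl (K.mul_mem haK ih)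
        · obtain ⟨w, hw, e⟩ := hconj a ha
          exact Or.inr ⟨w * h, K.mul_mem hw hh, by rw [← mul_assoc a, e, mul_assoc]⟩
  rw [← SetLike.coe_sort_coe, Nat.card_coe_set_eq]
  refine (Set.ncard_le_ncard hsub (Set.toFinite _)).trans ?_
  refine (Set.ncard_union_le _ _).trans ?_
  rw [two_mul, Set.ncard_image_of_injective _ (mul_right_injective u), ← Nat.card_coe_set_eq,
    SetLike.coe_sort_coe]

theorem card_chain {H : Type*} [Group H] [Finite H] (C : Cert) (hS : C.shapeOK = true) (L : ℕ → H)
    (hrel : ∀ r < C.rels.length,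
      P L (C.rels.getD r ([], [])).1 = P L (C.rels.getD r ([], [])).2) :
    Nat.card (closure (L '' Set.Iio C.n)) ≤ 2 ^ C.n := by
  have main : ∀ d ≤ C.n, Nat.card (closure (L '' Set.Ico (C.n - d) C.n)) ≤ 2 ^ d := by
    intro d
    induction d with
    | zero =>
      intro _
      rw [Nat.sub_zero, Set.Ico_self, Set.image_empty, Subgroup.closure_empty]
      simp
    | succ d ih =>
      intro hd
      have hi : C.n - d = C.n - (d + 1) + 1 := by omega
      generalize hI : C.n - (d + 1) = i at hi ⊢
      have hset : Set.Ico i C.n = insert i (Set.Ico (C.n - d) C.n) := by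
        ext x; simp only [Set.mem_Ico, Set.mem_insert_iff]; omega
      rw [hset, Set.image_insert_eq, pow_succ']
      refine (card_step _ (L '' Set.Ico (C.n - d) C.n) (L i) rfl ?_ ?_).trans
        (Nat.mul_le_mul_left 2 (ih (by omega)))
      all_goals
        simp only [Cert.shapeOK, List.all_eq_true, List.mem_range, Bool.and_eq_true,
          decide_eq_true_eq, beq_iff_eq] at hS
      · have h := hS i (by omega) i (Nat.lt_succ_self i)
        obtain ⟨⟨hr, hl⟩, hw⟩ := h
        have e := hrel _ hr
        rw [hl] at e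
        simp only [if_true] at hw
        have : P L [i, i] = L i * L i := by simp [P]
        rw [← this, e]
        refine Subgroup.list_prod_mem _ fun y hy => ?_
        obtain ⟨a, ha, rfl⟩ := List.mem_map.1 hy
        have := List.all_eq_true.1 hw a ha
        simp only [decide_eq_true_eq] at this
        exact subset_closure ⟨a, ⟨by omega, this.2⟩, rfl⟩
      · rintro _ ⟨t, ht, rfl⟩
        obtain ⟨ht1, ht2⟩ := ht
        obtain ⟨⟨hr, hl⟩, hw⟩ := hS t ht2 i (by omega)
        have e := hrel _ hr
        rw [hl] at e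
        rw [if_neg (by omega : ¬ i = t)] at hw
        split at hw
        · exact absurd hw (by simp)
        · rename_i a w hw'
          rw [hw'] at e
          simp only [Bool.and_eq_true, beq_iff_eq, List.all_eq_true, decide_eq_true_eq] at hw
          refine ⟨P L w, Subgroup.list_prod_mem _ fun y hy => ?_, ?_⟩
          · obtain ⟨b, hb, rfl⟩ := List.mem_map.1 hy
            have := hw.2 b hb
            exact subset_closure ⟨b, ⟨by omega, this.2⟩, rfl⟩
          · rw [← hw.1, ← P_cons, ← e, hw.1]
            simp [P]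
  have := main C.n le_rfl
  rwa [Nat.sub_self, show Set.Ico 0 C.n = Set.Iio C.n by ext; simp] at this

/-- The stable class criterion. -/
theorem censplit_of_cert {G : Type u} [Group G] [Finite G] (C : Cert) (hS : C.shapeOK = true)
    (hC : C.combOK = true) (y : ℕ → G) (x : ℕ → G)
    (hrel : ∀ r < C.rels.length,
      P y (C.rels.getD r ([], [])).1 = P y (C.rels.getD r ([], [])).2)
    (hpair : ∀ k < C.pairs.length,
      x (C.pairs.getD k (0, [], [])).1 * P y (C.pairs.getD k (0, [], [])).2.1 =
        P y (C.pairs.getD k (0, [], [])).2.2 * x (C.pairs.getD k (0, [], [])).1)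
    (hcard : 2 ^ C.n ≤ Nat.card (closure (y '' Set.Iio C.n)))
    (hodd : Odd (closure (y '' Set.Iio C.n)).index) : CenSplit 2 G := by
  classical
  set S := closure (y '' Set.Iio C.n) with hSdef
  refine censplit_of_sub S ((Nat.coprime_two_right).2 hodd) ?_
  intro Γ _ _ σ hs hc χ
  by_cases hχ : ∀ z : σ.ker, χ z = 1
  · exact ⟨1, fun z hz => (hχ z).symm⟩
  push Not at hχ
  obtain ⟨z₁, hz₁⟩ := hχ
  have hval : ∀ m : ZMod 2, ∃ z : σ.ker, Multiplicative.toAdd (χ z) = m := by
    intro m
    have h1 : Multiplicative.toAdd (χ z₁) = 1 := by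
      have h2 : ∀ a : ZMod 2, a ≠ 0 → a = 1 := by decide
      exact h2 _ fun h => hz₁ (Multiplicative.toAdd.injective (h.trans toAdd_one.symm))
    have h3 : ∀ a : ZMod 2, a = 0 ∨ a = 1 := by decide
    rcases h3 m with rfl | rfl
    · exact ⟨1, by simp⟩
    · exact ⟨z₁, h1⟩
  choose L hL using fun i => hs (y i)
  choose X hX using fun i => hs (x i)
  have hσP : ∀ w, σ (P L w) = P y w := fun w => by
    rw [P_map]; exact congrArg (fun f => P f w) (funext hL)
  have he : ∀ r, ∃ m, r < C.rels.length →
      E χ (P L (C.rels.getD r ([], [])).1) (P L (C.rels.getD r ([], [])).2) m := by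
    intro r
    by_cases hr : r < C.rels.length
    · obtain ⟨m, hm⟩ := E_exists (χ := χ)
        (show σ (P L (C.rels.getD r ([], [])).1) = σ (P L (C.rels.getD r ([], [])).2) by
          rw [hσP, hσP, hrel r hr])
      exact ⟨m, fun _ => hm⟩
    · exact ⟨0, fun h => absurd h hr⟩
  choose e he using he
  have hw : ∀ k, ∃ m, k < C.pairs.length →
      E χ (X (C.pairs.getD k (0, [], [])).1 * P L (C.pairs.getD k (0, [], [])).2.1 *
        (X (C.pairs.getD k (0, [], [])).1)⁻¹) (P L (C.pairs.getD k (0, [], [])).2.2) m := by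
    intro k
    by_cases hk : k < C.pairs.length
    · obtain ⟨m, hm⟩ := E_exists (χ := χ) (show σ (X (C.pairs.getD k (0, [], [])).1 *
        P L (C.pairs.getD k (0, [], [])).2.1 * (X (C.pairs.getD k (0, [], [])).1)⁻¹) =
          σ (P L (C.pairs.getD k (0, [], [])).2.2) by
        rw [map_mul, map_mul, map_inv, hσP, hσP, hX, hpair k hk, mul_inv_cancel_right])
      exact ⟨m, fun _ => hm⟩
    · exact ⟨0, fun h => absurd h hk⟩
  choose w hw using hw
  obtain ⟨v, hv⟩ : ∃ v : ℕ → ZMod 2, v = fun j =>
      if j < C.rels.length then e j else w (j - C.rels.length) := ⟨_, rfl⟩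
  have hV : C.rels.length ≤ C.V := Nat.le_add_right _ _
  have hrelE : ∀ r < C.rels.length,
      E χ (P L (C.rels.getD r ([], [])).1) (P L (C.rels.getD r ([], [])).2) (v r) := by
    intro r hr; rw [hv]; simp only [if_pos hr]; exact he r hr
  have hcoll : ∀ {W : List ℕ} {out : List ℕ × ℕ}, coll C.rels C.fuel W = some out →
      E χ (P L W) (P L out.1.reverse) (evalB C.V v out.2) :=
    fun h => coll_sound L C.rels C.V v hc hV hrelE C.fuel h
  have hconj : ∀ (x₀ : ℕ) (W : List ℕ), (∀ k ∈ W, k < C.pairs.length ∧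
      (C.pairs.getD k (0, [], [])).1 = x₀) →
      E χ (X x₀ * P L (C.src W) * (X x₀)⁻¹) (P L (C.img W))
        (evalB C.V v (xall (W.map fun k => 2 ^ (C.rels.length + k)))) := by
    intro x₀ W
    induction W with
    | nil =>
      intro _
      simp only [Cert.src, Cert.img, List.flatMap_nil, P_nil, mul_one, mul_inv_cancel,
        List.map_nil, xall, evalB_zero]
      exact E_refl _
    | cons k W ih =>
      intro h
      obtain ⟨hk, hk'⟩ := h k List.mem_cons_self
      have h1 := hw k hk
      rw [hk'] at h1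
      have h2 := E_mul hc h1 (ih fun j hj => h j (List.mem_cons_of_mem _ hj))
      simp only [Cert.src, Cert.img, List.flatMap_cons, P_append, List.map_cons, xall, evalB_xor]
      rw [evalB_two_pow v (show C.rels.length + k < C.V from Nat.add_lt_add_left hk _)]
      have hvk : v (C.rels.length + k) = w k := by
        rw [hv]; simp only [if_neg (show ¬ C.rels.length + k < C.rels.length by omega)]
        rw [Nat.add_sub_cancel_left]
      rw [hvk]
      simp only [Cert.src, Cert.img] at h2
      convert h2 using 1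
      group
  have hform : ∀ (q : Eqn) (f : ℕ), C.formOf q = some f → evalB C.V v f = 0 := by
    intro q f hf
    cases q with
    | A p r =>
      simp only [Cert.formOf] at hf
      split_ifs at hf with hr
      simp only [decide_eq_true_eq] at hr
      split at hf
      · rename_i a b ha hb
        split_ifs at hf with hab
        simp only [Option.some.injEq] at hf
        subst hf
        simp only [beq_iff_eq] at hab
        have h1 := hcoll ha
        have h2 := hcoll hb
        rw [hab] at h1
        rw [P_append] at h1 h2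
        have h3 := E_trans (E_symm h1)
          (E_trans (E_mul hc (E_refl (χ := χ) (P L p)) (hrelE r hr)) h2)
        have h4 := E_unique h3 (E_refl _)
        rw [zero_add] at h4
        rw [evalB_xor, evalB_xor, evalB_two_pow v (lt_of_lt_of_le hr hV), ← h4]
        ring
      · exact absurd hf (by simp)
    | B W₁ W₂ =>
      simp only [Cert.formOf] at hf
      generalize (C.pairs.getD (W₁.headD 0) (0, [], [])).1 = x₀ at hf
      split_ifs at hf with hx
      simp only [List.all_eq_true, Bool.and_eq_true, decide_eq_true_eq, beq_iff_eq] at hx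
      split at hf
      · rename_i a b c d ha hb hc' hd
        split_ifs at hf with hab
        simp only [Option.some.injEq] at hf
        subst hf
        simp only [Bool.and_eq_true, beq_iff_eq] at hab
        have h1 := hcoll ha
        have h2 := hcoll hb
        have h3 := hcoll hc'
        have h4 := hcoll hd
        rw [hab.1] at h1
        rw [hab.2] at h3
        have h12 := E_conj hc (X x₀) (E_trans h1 (E_symm h2))
        have h34 := E_trans h3 (E_symm h4)
        have k1 := hconj x₀ W₁ fun k hk => hx k (List.mem_append_left _ hk)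
        have k2 := hconj x₀ W₂ fun k hk => hx k (List.mem_append_right _ hk)
        have h5 := E_unique (E_trans (E_trans (E_symm h12) k1) h34) k2
        rw [List.map_append, evalB_xor, evalB_xor, evalB_xor, evalB_xor, evalB_xall,
          List.map_append, List.sum_append, ← evalB_xall, ← evalB_xall, ← h5]
        generalize evalB C.V v a.2 = t1, evalB C.V v b.2 = t2, evalB C.V v c.2 = t3,
          evalB C.V v d.2 = t4, evalB C.V v (xall _) = t5
        clear * - t1
        revert t1 t2 t3 t4 t5
        decide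
      · exact absurd hf (by simp)
  -- new lifts
  choose Z hZ using fun a => hval (evalB C.V v (C.lam.getD a 0))
  obtain ⟨L', hL'⟩ : ∃ L' : ℕ → Γ, L' = fun a => L a * (Z a : Γ) := ⟨_, rfl⟩
  have hPL : ∀ W : List ℕ, E χ (P L' W) (P L W)
      (evalB C.V v (xall (W.map fun a => C.lam.getD a 0))) := by
    intro W
    induction W with
    | nil => simp only [P_nil, List.map_nil, xall, evalB_zero]; exact E_refl _
    | cons a W ih =>
      simp only [P_cons, List.map_cons, xall, evalB_xor]
      have h1 : E χ (L' a) (L a) (evalB C.V v (C.lam.getD a 0)) := ⟨Z a, by rw [hL'], hZ a⟩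
      exact E_mul hc h1 ih
  have hrel' : ∀ r < C.rels.length,
      E χ (P L' (C.rels.getD r ([], [])).1) (P L' (C.rels.getD r ([], [])).2) 0 := by
    intro r hr
    simp only [Cert.combOK, List.all_eq_true, List.mem_range, Bool.and_eq_true,
      decide_eq_true_eq, beq_iff_eq] at hC
    obtain ⟨hj, hx⟩ := hC.2 r hr
    have hmem : ∀ j < C.forms.length, evalB C.V v (C.forms.getD j 0) = 0 := fun j hj' =>
      hform _ _ (hC.1 j hj').2
    have h0 : evalB C.V v (xall ((C.combos.getD r []).map fun j => C.forms.getD j 0)) = 0 := by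
      rw [evalB_xall]
      refine List.sum_eq_zero fun t ht => ?_
      simp only [List.map_map, List.mem_map, Function.comp] at ht
      obtain ⟨j, hj', rfl⟩ := ht
      exact hmem j (hj j hj')
    rw [hx, evalB_xor, evalB_two_pow v (lt_of_lt_of_le hr hV), evalB_xall, List.map_append,
      List.map_append, List.sum_append, ← evalB_xall, ← evalB_xall] at h0
    have h1 := E_trans (E_trans (hPL _) (hrelE r hr)) (E_symm (hPL _))
    convert h1 using 1
    rw [← h0]
    ring
  -- the quotient by the kernel of the character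
  obtain ⟨N, hN⟩ : ∃ N : Subgroup Γ, N = χ.ker.map σ.ker.subtype := ⟨_, rfl⟩
  have hNc : N ≤ center Γ := by
    rw [hN]; rintro _ ⟨z, -, rfl⟩; exact hc z.2
  have : N.Normal := ⟨fun z hz g => by
    rw [mem_center_iff.1 (hNc hz) g, mul_inv_cancel_right]; exact hz⟩
  have hE0 : ∀ {a b : Γ}, E χ a b 0 → (QuotientGroup.mk a : Γ ⧸ N) = QuotientGroup.mk b := by
    rintro a b ⟨z, rfl, hz⟩
    rw [QuotientGroup.eq, mul_inv_rev, inv_mul_cancel_right, inv_mem_iff, hN]
    exact ⟨z, Multiplicative.toAdd.injective (hz.trans toAdd_one.symm), rfl⟩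
  let π := QuotientGroup.mk' N
  have hNk : N ≤ σ.ker := by rw [hN]; rintro _ ⟨z, -, rfl⟩; exact z.2
  let σb := QuotientGroup.lift N σ hNk
  let U := closure ((fun a => π (L' a)) '' Set.Iio C.n)
  have hUcard : Nat.card U ≤ 2 ^ C.n := card_chain C hS _ fun r hr => by
    rw [← P_map, ← P_map]; exact hE0 (hrel' r hr)
  have hUmap : U.map σb = S := by
    rw [MonoidHom.map_closure, Set.image_image, hSdef]
    congr 1
    refine Set.image_congr fun a _ => ?_
    show σ (L' a) = y a
    rw [hL', map_mul, MonoidHom.mem_ker.1 (Z a).2, mul_one, hL]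
  have hinj : Function.Injective (σb.subgroupMap U) := by
    have hsur := σb.subgroupMap_surjective U
    exact ((Nat.bijective_iff_surjective_and_card _).2 ⟨hsur, le_antisymm (by
      rw [hUmap]; exact hUcard.trans hcard) (Nat.card_le_card_of_surjective _ hsur)⟩).1
  have hker : ∀ u ∈ U, σb u = 1 → u = 1 := by
    intro u hu h1
    have := @hinj ⟨u, hu⟩ 1 (Subtype.ext (h1.trans (map_one σb).symm))
    exact congrArg Subtype.val this
  have hex : ∀ g : S.comap σ, ∃ m : ZMod 2, ∃ a, π a ∈ U ∧ E χ (g : Γ) a m := by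
    rintro ⟨g, hg⟩
    obtain ⟨u, hu, hug⟩ : σ g ∈ U.map σb := by rw [hUmap]; exact hg
    obtain ⟨a, rfl⟩ := QuotientGroup.mk'_surjective N u
    obtain ⟨m, hm⟩ := E_exists (χ := χ) (show σ g = σ a from hug.symm)
    exact ⟨m, a, hu, hm⟩
  have huni : ∀ (g a b : Γ) (m n : ZMod 2), π a ∈ U → π b ∈ U → E χ g a m → E χ g b n → m = n := by
    intro g a b m n ha hb h1 h2
    obtain ⟨z, hz, hzm⟩ := E_trans (E_symm h1) h2
    have hab : π (b⁻¹ * a) ∈ U := by
      rw [map_mul, map_inv]; exact U.mul_mem (U.inv_mem hb) ha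
    rw [hz, inv_mul_cancel_left] at hab
    have h1' := hker _ hab (MonoidHom.mem_ker.1 z.2)
    rw [QuotientGroup.mk'_apply, QuotientGroup.eq_one_iff, hN] at h1'
    obtain ⟨z', hz', he'⟩ := h1'
    rw [← Subtype.ext (he' : (z' : Γ) = z)] at hzm
    rw [MonoidHom.mem_ker.1 hz', toAdd_one] at hzm
    clear * - hzm
    revert m n hzm
    decide
  choose φ hφ using hex
  refine ⟨MonoidHom.mk' (fun g => Multiplicative.ofAdd (φ g)) fun g h => ?_, fun z hz => ?_⟩
  · obtain ⟨a, ha, h1⟩ := hφ g
    obtain ⟨b, hb, h2⟩ := hφ h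
    obtain ⟨c, hc', h3⟩ := hφ (g * h)
    rw [← ofAdd_add]
    congr 1
    refine huni _ c (a * b) _ _ hc' ?_ h3 (E_mul hc h1 h2)
    rw [map_mul]; exact U.mul_mem ha hb
  · obtain ⟨a, ha, h1⟩ := hφ ⟨z, hz⟩
    apply Multiplicative.toAdd.injective
    show φ ⟨z, hz⟩ = _
    exact huni _ a 1 _ _ ha (by rw [map_one]; exact U.one_mem) h1
      ⟨z, by rw [one_mul], rfl⟩

end Cfsg.Agent.CenSplitStable50
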