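import Cfsg.Agent.Lib.SplitVoltage
import Cfsg.Agent.Lib.CenSplitStable50

/-!
A certificate for the splitting of central extensions with coefficients of prime order: a polycyclic
chain of a subgroup of index prime to it and the invariance of its classes under conjugations.
-/

set_option autoImplicit false

namespace Cfsg.Agent.CenSplitStableP50

open Subgroup Cfsg.Agent.SplitVoltage
open Cfsg.Agent.CenSplitStable50 (censplit_of_sub)

universe u

/-! ### forms -/

/-- the value of a form given by indices with repetition -/
def evalS {p : ℕ} (v : ℕ → ZMod p) (l : List ℕ) : ZMod p := (l.map v).sum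

theorem evalS_nil {p : ℕ} (v : ℕ → ZMod p) : evalS v [] = 0 := rfl

theorem evalS_cons {p : ℕ} (v : ℕ → ZMod p) (a : ℕ) (l : List ℕ) :
    evalS v (a :: l) = v a + evalS v l := by simp [evalS]

theorem evalS_append {p : ℕ} (v : ℕ → ZMod p) (a b : List ℕ) :
    evalS v (a ++ b) = evalS v a + evalS v b := by simp [evalS]

/-- the repetition of a form representing its negative -/
def negS (p : ℕ) (l : List ℕ) : List ℕ := (List.replicate (p - 1) l).flatten

theorem evalS_negS {p : ℕ} [NeZero p] (v : ℕ → ZMod p) (l : List ℕ) :
    evalS v (negS p l) = - evalS v l := by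
  have h : ∀ n, evalS v (List.replicate n l).flatten = (n : ZMod p) * evalS v l := by
    intro n
    induction n with
    | zero => simp [evalS]
    | succ n ih => rw [List.replicate_succ, List.flatten_cons, evalS_append, ih]; push_cast; ring
  rw [negS, h, Nat.cast_sub (NeZero.one_le), ZMod.natCast_self, Nat.cast_one]
  ring

/-- the value of a dense form -/
def evalD {p : ℕ} (V : ℕ) (v : ℕ → ZMod p) (f : List ℕ) : ZMod p :=
  ∑ j ∈ Finset.range V, (f.getD j 0 : ZMod p) * v j

/-- a repeated form agrees with a dense form -/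
def sameForm (p V : ℕ) (l f : List ℕ) : Bool :=
  l.all (fun a => decide (a < V)) &&
    (List.range V).all fun j => l.count j % p == f.getD j 0 % p

theorem evalS_count {p : ℕ} (V : ℕ) (v : ℕ → ZMod p) : ∀ l : List ℕ, (∀ a ∈ l, a < V) →
    evalS v l = ∑ j ∈ Finset.range V, (l.count j : ZMod p) * v j
  | [], _ => by simp [evalS]
  | a :: l, h => by
    rw [evalS_cons, evalS_count V v l fun b hb => h b (List.mem_cons_of_mem _ hb)]
    have : v a = ∑ j ∈ Finset.range V, (if a = j then (1 : ZMod p) else 0) * v j := by
      rw [Finset.sum_eq_single a]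
      · simp
      · intro b _ hb; simp [hb.symm]
      · intro hn; exact absurd (Finset.mem_range.2 (h a List.mem_cons_self)) hn
    rw [this, ← Finset.sum_add_distrib]
    refine Finset.sum_congr rfl fun j _ => ?_
    rw [List.count_cons]
    by_cases hj : a = j <;> simp [hj]; ring

theorem evalD_of_same {p V : ℕ} (v : ℕ → ZMod p) {l f : List ℕ} (h : sameForm p V l f = true) :
    evalD V v f = evalS v l := by
  simp only [sameForm, Bool.and_eq_true, List.all_eq_true, decide_eq_true_eq, List.mem_range,
    beq_iff_eq] at h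
  rw [evalS_count V v l h.1]
  refine Finset.sum_congr rfl fun j hj => ?_
  rw [show (f.getD j 0 : ZMod p) = (l.count j : ZMod p) from
    ((ZMod.natCast_eq_natCast_iff' _ _ p).2 (h.2 j (Finset.mem_range.1 hj))).symm]

/-! ### collection -/

/-- removing `k` copies of a letter from the top -/
def dropRun (t : ℕ) : ℕ → List ℕ → Option (List ℕ)
  | 0, s => some s
  | _ + 1, [] => none
  | k + 1, a :: s => if a == t then dropRun t k s else none

theorem dropRun_spec (t : ℕ) : ∀ (k : ℕ) (s s' : List ℕ), dropRun t k s = some s' →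
    s = List.replicate k t ++ s'
  | 0, s, s', h => by simp only [dropRun, Option.some.injEq] at h; simp [h]
  | k + 1, [], s', h => by simp [dropRun] at h
  | k + 1, a :: s, s', h => by
    simp only [dropRun] at h
    split_ifs at h with ha
    rw [beq_iff_eq] at ha
    rw [dropRun_spec t k s s' h, List.replicate_succ, List.cons_append, ha]

/-- one step of a fold -/
def stepC (f : List ℕ → ℕ → Option (List ℕ × List ℕ)) (acc : Option (List ℕ × List ℕ)) (a : ℕ) :
    Option (List ℕ × List ℕ) :=
  acc.bind fun x => (f x.1 a).map fun y => (y.1, y.2 ++ x.2)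

/-- appending a letter to a normal form, written top first -/
def ins (p : ℕ) (rels : List (List ℕ × List ℕ)) : ℕ → List ℕ → ℕ → Option (List ℕ × List ℕ)
  | 0, _, _ => none
  | _ + 1, [], i => some ([i], [])
  | k + 1, t :: s, i =>
    if t < i then some (i :: t :: s, [])
    else
      let r := t * (t + 1) / 2 + i
      if t == i then
        match dropRun i (p - 1) (t :: s) with
        | none => some (i :: t :: s, [])
        | some s' =>
          if decide (r < rels.length) && ((rels.getD r ([], [])).1 == List.replicate p i) then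
            (rels.getD r ([], [])).2.foldl (stepC (ins p rels k)) (some (s', [r]))
          else none
      else if decide (r < rels.length) && ((rels.getD r ([], [])).1 == [t, i]) then
        (rels.getD r ([], [])).2.foldl (stepC (ins p rels k)) (some (s, [r]))
      else none

/-- the normal form of a word -/
def coll (p : ℕ) (rels : List (List ℕ × List ℕ)) (k : ℕ) (w : List ℕ) :
    Option (List ℕ × List ℕ) :=
  w.foldl (stepC (ins p rels k)) (some ([], []))

/-- an equation -/
inductive Eqn where
  | A (p : List ℕ) (r : ℕ) : Eqn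
  | B (W₁ W₂ : List ℕ) : Eqn

/-- the data of a certificate -/
structure Cert where
  p : ℕ
  n : ℕ
  fuel : ℕ
  rels : List (List ℕ × List ℕ)
  pairs : List (ℕ × List ℕ × List ℕ)
  eqs : List Eqn
  forms : List (List ℕ)
  lam : List (List ℕ)
  combos : List (List (ℕ × ℕ))

namespace Cert

variable (C : Cert)

/-- number of unknowns -/
def V : ℕ := C.rels.length + C.pairs.length

/-- the source of a word in pairs -/
def src (W : List ℕ) : List ℕ := W.flatMap fun k => (C.pairs.getD k (0, [], [])).2.1

/-- the image of a word in pairs -/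
def img (W : List ℕ) : List ℕ := W.flatMap fun k => (C.pairs.getD k (0, [], [])).2.2

/-- the form of an equation -/
def formOf : Eqn → Option (List ℕ)
  | .A p r =>
    if decide (r < C.rels.length) then
      match coll C.p C.rels C.fuel (p ++ (C.rels.getD r ([], [])).1),
        coll C.p C.rels C.fuel (p ++ (C.rels.getD r ([], [])).2) with
      | some a, some b => if a.1 == b.1 then some (negS C.p a.2 ++ (r :: b.2)) else none
      | _, _ => none
    else none
  | .B W₁ W₂ =>
    let x := (C.pairs.getD (W₁.headD 0) (0, [], [])).1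
    if (W₁ ++ W₂).all (fun k => decide (k < C.pairs.length) &&
        ((C.pairs.getD k (0, [], [])).1 == x)) then
      match coll C.p C.rels C.fuel (C.src W₁), coll C.p C.rels C.fuel (C.src W₂),
        coll C.p C.rels C.fuel (C.img W₁), coll C.p C.rels C.fuel (C.img W₂) with
      | some a, some b, some c, some d =>
        if (a.1 == b.1) && (c.1 == d.1) then
          some (negS C.p (a.2 ++ d.2 ++ W₂.map (C.rels.length + ·)) ++
            (b.2 ++ c.2 ++ W₁.map (C.rels.length + ·)))
        else none
      | _, _, _, _ => none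
    else none

/-- the shape of the relations of the chain -/
def shapeOK : Bool :=
  (List.range C.n).all fun t => (List.range (t + 1)).all fun i =>
    let r := t * (t + 1) / 2 + i
    let l := C.rels.getD r ([], [])
    decide (r < C.rels.length) &&
      (if i == t then (l.1 == List.replicate C.p i) && l.2.all (fun a => decide (i < a ∧ a < C.n))
       else (l.1 == [t, i]) && match l.2 with
        | [] => false
        | a :: w => (a == i) && w.all (fun b => decide (i < b ∧ b < C.n)))

/-- coordinate of a combination -/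
def comboAt (r j : ℕ) : ℕ :=
  ((C.combos.getD r []).map fun x => x.2 * (C.forms.getD x.1 []).getD j 0).sum

/-- coordinate of the shifted tail -/
def targetAt (r j : ℕ) : ℕ :=
  (if r == j then 1 else 0) +
    (((C.rels.getD r ([], [])).1.map fun a => (C.lam.getD a []).getD j 0).sum +
      (C.p - 1) * ((C.rels.getD r ([], [])).2.map fun a => (C.lam.getD a []).getD j 0).sum)

/-- the equations -/
def eqsOK : Bool :=
  (List.range C.forms.length).all fun j =>
    match C.formOf (C.eqs.getD j (.A [] 0)) with
    | some l => decide (j < C.eqs.length) && sameForm C.p C.V l (C.forms.getD j [])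
    | none => false

/-- the elimination -/
def combOK : Bool :=
  C.eqsOK && (List.range C.rels.length).all fun r =>
    ((C.combos.getD r []).all fun x => decide (x.1 < C.forms.length)) &&
      (List.range C.V).all fun j => C.comboAt r j % C.p == C.targetAt r j % C.p

end Cert

/-! ### extensions -/

section Ext

variable {p : ℕ} {G : Type u} [Group G] {Γ : Type u} [Group Γ] {σ : Γ →* G}
  {χ : σ.ker →* Multiplicative (ZMod p)}

/-- equality up to a kernel element of given value -/
def E (χ : σ.ker →* Multiplicative (ZMod p)) (a b : Γ) (m : ZMod p) : Prop :=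
  ∃ z : σ.ker, a = b * (z : Γ) ∧ Multiplicative.toAdd (χ z) = m

theorem E_refl (a : Γ) : E χ a a 0 := ⟨1, by simp, by simp⟩

theorem E_trans {a b c : Γ} {m n : ZMod p} (h₁ : E χ a b m) (h₂ : E χ b c n) :
    E χ a c (m + n) := by
  obtain ⟨z, rfl, hz⟩ := h₁
  obtain ⟨w, rfl, hw⟩ := h₂
  exact ⟨w * z, by rw [Subgroup.coe_mul, mul_assoc], by rw [map_mul, toAdd_mul, hz, hw, add_comm]⟩

theorem E_symm {a b : Γ} {m : ZMod p} (h : E χ a b m) : E χ b a (-m) := by
  obtain ⟨z, rfl, hz⟩ := h
  refine ⟨z⁻¹, by simp, ?_⟩
  rw [map_inv, toAdd_inv, hz]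

theorem E_mul (hc : σ.ker ≤ center Γ) {a b c d : Γ} {m n : ZMod p} (h₁ : E χ a b m)
    (h₂ : E χ c d n) : E χ (a * c) (b * d) (m + n) := by
  obtain ⟨z, rfl, hz⟩ := h₁
  obtain ⟨w, rfl, hw⟩ := h₂
  refine ⟨z * w, ?_, by rw [map_mul, toAdd_mul, hz, hw]⟩
  rw [Subgroup.coe_mul, mul_assoc b (z : Γ), ← mul_assoc (z : Γ) d,
    ← mem_center_iff.1 (hc z.2) d]
  simp [mul_assoc]

theorem E_conj (hc : σ.ker ≤ center Γ) (x : Γ) {a b : Γ} {m : ZMod p} (h : E χ a b m) :
    E χ (x * a * x⁻¹) (x * b * x⁻¹) m := by
  simpa using E_mul hc (E_mul hc (E_refl (χ := χ) x) h) (E_refl x⁻¹)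

theorem E_unique {a b : Γ} {m n : ZMod p} (h₁ : E χ a b m) (h₂ : E χ a b n) : m = n := by
  obtain ⟨z, rfl, hz⟩ := h₁
  obtain ⟨w, hw, hw'⟩ := h₂
  rw [← hz, ← hw', Subtype.ext (mul_left_cancel hw)]

theorem E_exists {a b : Γ} (h : σ a = σ b) : ∃ m, E χ a b m :=
  ⟨_, ⟨b⁻¹ * a, by rw [MonoidHom.mem_ker, map_mul, map_inv, h, inv_mul_cancel]⟩,
    (mul_inv_cancel_left b a).symm, rfl⟩

/-- the value of a word -/
def P (L : ℕ → Γ) (w : List ℕ) : Γ := (w.map L).prod

theorem P_nil (L : ℕ → Γ) : P L [] = 1 := rfl

theorem P_cons (L : ℕ → Γ) (a : ℕ) (w : List ℕ) : P L (a :: w) = L a * P L w := List.prod_cons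

theorem P_append (L : ℕ → Γ) (v w : List ℕ) : P L (v ++ w) = P L v * P L w := by
  simp [P]

theorem P_map {H : Type*} [Group H] (f : Γ →* H) (L : ℕ → Γ) (w : List ℕ) :
    f (P L w) = P (fun i => f (L i)) w := by
  rw [P, P, map_list_prod, List.map_map]; rfl

theorem fold_none (f : List ℕ → ℕ → Option (List ℕ × List ℕ)) : ∀ w : List ℕ,
    w.foldl (stepC f) none = none
  | [] => rfl
  | _ :: w => fold_none f w

theorem fold_sound (hc : σ.ker ≤ center Γ) (L : ℕ → Γ) (v : ℕ → ZMod p)
    (f : List ℕ → ℕ → Option (List ℕ × List ℕ))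
    (hf : ∀ s a s' g, f s a = some (s', g) →
      E χ (P L s.reverse * L a) (P L s'.reverse) (evalS v g)) :
    ∀ (w s g : List ℕ) (out : List ℕ × List ℕ),
      w.foldl (stepC f) (some (s, g)) = some out →
      E χ (P L s.reverse * P L w) (P L out.1.reverse) (evalS v out.2 - evalS v g) := by
  intro w
  induction w with
  | nil =>
    intro s g out h
    simp only [List.foldl_nil, Option.some.injEq] at h
    subst h
    rw [P_nil, mul_one, sub_self]
    exact E_refl _
  | cons a w ih =>
    intro s g out h
    rw [List.foldl_cons] at h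
    cases hq : f s a with
    | none =>
      rw [stepC, Option.bind_some, hq, Option.map_none, fold_none] at h
      exact absurd h (by simp)
    | some q =>
      rw [stepC, Option.bind_some, hq, Option.map_some] at h
      have h1 := hf s a q.1 q.2 hq
      have h2 := ih q.1 (q.2 ++ g) out h
      rw [P_cons, ← mul_assoc]
      have h3 := E_trans (E_mul hc h1 (E_refl (P L w))) h2
      rw [evalS_append] at h3
      convert h3 using 1
      ring

variable (L : ℕ → Γ) (rels : List (List ℕ × List ℕ)) (v : ℕ → ZMod p)

theorem ins_sound (hc : σ.ker ≤ center Γ) (hp : 0 < p)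
    (hrel : ∀ r < rels.length,
      E χ (P L (rels.getD r ([], [])).1) (P L (rels.getD r ([], [])).2) (v r)) :
    ∀ (k : ℕ) (s : List ℕ) (a : ℕ) (s' g : List ℕ), ins p rels k s a = some (s', g) →
      E χ (P L s.reverse * L a) (P L s'.reverse) (evalS v g) := by
  intro k
  induction k with
  | zero => intro s a s' g h; simp [ins] at h
  | succ k ih =>
    intro s a s' g h
    have hpush : ∀ t : List ℕ, E χ (P L t.reverse * L a) (P L (a :: t).reverse) (evalS v []) := by
      intro t
      rw [evalS_nil]
      simpa [P] using E_refl (χ := χ) (P L t.reverse * L a)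
    have hfold : ∀ (r : ℕ) (u : List ℕ), r < rels.length →
        (rels.getD r ([], [])).2.foldl (stepC (ins p rels k)) (some (u, [r])) = some (s', g) →
        E χ (P L u.reverse * P L (rels.getD r ([], [])).1) (P L s'.reverse) (evalS v g) := by
      intro r u hr h
      have h3 := fold_sound hc L v _ ih _ _ _ _ h
      have h4 := E_trans (E_mul hc (E_refl (χ := χ) (P L u.reverse)) (hrel r hr)) h3
      convert h4 using 1
      simp only [evalS_cons, evalS_nil, add_zero, zero_add]
      ring
    cases s with
    | nil =>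
      simp only [ins, Option.some.injEq, Prod.mk.injEq] at h
      obtain ⟨rfl, rfl⟩ := h
      exact hpush []
    | cons t s =>
      simp only [ins] at h
      by_cases h1 : t < a
      · rw [if_pos h1] at h
        simp only [Option.some.injEq, Prod.mk.injEq] at h
        obtain ⟨rfl, rfl⟩ := h
        exact hpush _
      rw [if_neg h1] at h
      by_cases h2 : t = a
      · rw [if_pos (by simp [h2])] at h
        split at h
        · simp only [Option.some.injEq, Prod.mk.injEq] at h
          obtain ⟨rfl, rfl⟩ := h
          exact hpush _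
        · rename_i u hu
          split_ifs at h with h6
          simp only [Bool.and_eq_true, decide_eq_true_eq, beq_iff_eq] at h6
          have h4 := hfold _ u h6.1 h
          rw [h6.2] at h4
          rw [dropRun_spec _ _ _ _ hu, List.reverse_append, List.reverse_replicate, P_append,
            mul_assoc]
          convert h4 using 2
          rw [P, P, List.map_replicate, List.map_replicate, List.prod_replicate,
            List.prod_replicate, ← pow_succ]
          congr 1; omega
      · rw [if_neg (by simp [h2])] at h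
        split_ifs at h with h5
        simp only [Bool.and_eq_true, decide_eq_true_eq, beq_iff_eq] at h5
        have h4 := hfold _ s h5.1 h
        rw [h5.2] at h4
        simpa [P, mul_assoc] using h4

theorem coll_sound (hc : σ.ker ≤ center Γ) (hp : 0 < p)
    (hrel : ∀ r < rels.length,
      E χ (P L (rels.getD r ([], [])).1) (P L (rels.getD r ([], [])).2) (v r))
    (k : ℕ) {w : List ℕ} {out : List ℕ × List ℕ} (h : coll p rels k w = some out) :
    E χ (P L w) (P L out.1.reverse) (evalS v out.2) := by
  have := fold_sound hc L v _ (ins_sound L rels v hc hp hrel k) w [] [] out h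
  simpa [P, evalS_nil] using this

end Ext

/-- closure of a subgroup with one normalising element having its `p`th power in it -/
theorem card_step {H : Type*} [Group H] [Finite H] (K : Subgroup H) (A : Set H) (u : H) {p : ℕ}
    (hp : 0 < p) (hA : closure A = K) (hpow : u ^ p ∈ K)
    (hconj : ∀ a ∈ A, ∃ w ∈ K, a * u = u * w) :
    Nat.card (closure (insert u A)) ≤ p * Nat.card K := by
  have hc1 : ∀ a ∈ K, u⁻¹ * a * u ∈ K := by
    intro a ha
    rw [← hA] at ha
    induction ha using closure_induction with
    | mem a ha =>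
      obtain ⟨w, hw, e⟩ := hconj a ha
      rwa [mul_assoc, e, inv_mul_cancel_left]
    | one => simp [K.one_mem]
    | mul a b _ _ x y => simpa [mul_assoc] using K.mul_mem x y
    | inv a _ x => simpa [mul_assoc] using K.inv_mem x
  have hck : ∀ (k : ℕ), ∀ a ∈ K, (u ^ k)⁻¹ * a * u ^ k ∈ K := by
    intro k
    induction k with
    | zero => intro a ha; simpa using ha
    | succ k ih => intro a ha; simpa [pow_succ, mul_assoc] using hc1 _ (ih a ha)
  let T : Fin p × K → H := fun x => u ^ (x.1 : ℕ) * (x.2 : H)
  have hsub : (closure (insert u A) : Set H) ⊆ Set.range T := by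
    intro g hg
    rw [SetLike.mem_coe, ← Subgroup.mem_toSubmonoid, closure_toSubmonoid_of_finite] at hg
    induction hg using Submonoid.closure_induction_left with
    | one => exact ⟨(⟨0, hp⟩, 1), by simp [T]⟩
    | mul_left a ha y _ ih =>
      obtain ⟨⟨k, h⟩, rfl⟩ := ih
      rcases ha with rfl | ha
      · by_cases hk : (k : ℕ) + 1 < p
        · exact ⟨(⟨k + 1, hk⟩, h), by simp [T, pow_succ', mul_assoc]⟩
        · refine ⟨(⟨0, hp⟩, ⟨a ^ p * h, K.mul_mem hpow h.2⟩), ?_⟩
          have : (k : ℕ) + 1 = p := by omega
          simp only [T, pow_zero, one_mul]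
          rw [← mul_assoc, ← pow_succ', this]
      · have haK : a ∈ K := hA ▸ subset_closure ha
        exact ⟨(k, ⟨(u ^ (k : ℕ))⁻¹ * a * u ^ (k : ℕ) * h, K.mul_mem (hck k a haK) h.2⟩),
          by simp [T, mul_assoc]⟩
  rw [← SetLike.coe_sort_coe, Nat.card_coe_set_eq]
  refine (Set.ncard_le_ncard hsub (Set.toFinite _)).trans ?_
  rw [← Nat.card_coe_set_eq]
  refine (Finite.card_range_le T).trans (le_of_eq ?_)
  rw [Nat.card_prod, Nat.card_fin]

theorem card_chain {H : Type*} [Group H] [Finite H] (C : Cert) (hp : 0 < C.p)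
    (hS : C.shapeOK = true) (L : ℕ → H)
    (hrel : ∀ r < C.rels.length,
      P L (C.rels.getD r ([], [])).1 = P L (C.rels.getD r ([], [])).2) :
    Nat.card (closure (L '' Set.Iio C.n)) ≤ C.p ^ C.n := by
  have main : ∀ d ≤ C.n, Nat.card (closure (L '' Set.Ico (C.n - d) C.n)) ≤ C.p ^ d := by
    intro d
    induction d with
    | zero =>
      intro _
      rw [Nat.sub_zero, Set.Ico_self, Set.image_empty, Subgroup.closure_empty]
      simp
    | succ d ih =>
      intro hd
      have hi : C.n - d = C.n - (d + 1) + 1 := by omega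
      generalize hI : C.n - (d + 1) = i at hi ⊢
      have hset : Set.Ico i C.n = insert i (Set.Ico (C.n - d) C.n) := by
        ext x; simp only [Set.mem_Ico, Set.mem_insert_iff]; omega
      rw [hset, Set.image_insert_eq, pow_succ']
      refine (card_step _ (L '' Set.Ico (C.n - d) C.n) (L i) hp rfl ?_ ?_).trans
        (Nat.mul_le_mul_left C.p (ih (by omega)))
      all_goals
        simp only [Cert.shapeOK, List.all_eq_true, List.mem_range, Bool.and_eq_true,
          decide_eq_true_eq, beq_iff_eq] at hS
      · have h := hS i (by omega) i (Nat.lt_succ_self i)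
        obtain ⟨hr, hw⟩ := h
        have e := hrel _ hr
        simp only [if_true, Bool.and_eq_true, beq_iff_eq] at hw
        rw [hw.1] at e
        have : P L (List.replicate C.p i) = L i ^ C.p := by
          simp [P, List.map_replicate, List.prod_replicate]
        rw [← this, e]
        refine Subgroup.list_prod_mem _ fun y hy => ?_
        obtain ⟨a, ha, rfl⟩ := List.mem_map.1 hy
        have := List.all_eq_true.1 hw.2 a ha
        simp only [decide_eq_true_eq] at this
        exact subset_closure ⟨a, ⟨by omega, this.2⟩, rfl⟩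
      · rintro _ ⟨t, ht, rfl⟩
        obtain ⟨ht1, ht2⟩ := ht
        obtain ⟨hr, hw⟩ := hS t ht2 i (by omega)
        have e := hrel _ hr
        rw [if_neg (by omega : ¬ i = t)] at hw
        simp only [Bool.and_eq_true, beq_iff_eq] at hw
        obtain ⟨hl, hw⟩ := hw
        rw [hl] at e
        split at hw
        · exact absurd hw (by simp)
        · rename_i a w hw'
          rw [hw'] at e
          simp only [Bool.and_eq_true, beq_iff_eq, List.all_eq_true, decide_eq_true_eq] at hw
          refine ⟨P L w, Subgroup.list_prod_mem _ fun y hy => ?_, ?_⟩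
          · obtain ⟨b, hb, rfl⟩ := List.mem_map.1 hy
            have := hw.2 b hb
            exact subset_closure ⟨b, ⟨by omega, this.2⟩, rfl⟩
          · rw [← hw.1, ← P_cons, ← e, hw.1]
            simp [P]
  have := main C.n le_rfl
  rwa [Nat.sub_self, show Set.Ico 0 C.n = Set.Iio C.n by ext; simp] at this

/-- The stable class criterion. -/
theorem censplit_of_cert {G : Type u} [Group G] [Finite G] (C : Cert) (hp : C.p.Prime)
    (hS : C.shapeOK = true) (hC : C.combOK = true) (y : ℕ → G) (x : ℕ → G)
    (hrel : ∀ r < C.rels.length,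
      P y (C.rels.getD r ([], [])).1 = P y (C.rels.getD r ([], [])).2)
    (hpair : ∀ k < C.pairs.length,
      x (C.pairs.getD k (0, [], [])).1 * P y (C.pairs.getD k (0, [], [])).2.1 =
        P y (C.pairs.getD k (0, [], [])).2.2 * x (C.pairs.getD k (0, [], [])).1)
    (hcard : C.p ^ C.n ≤ Nat.card (closure (y '' Set.Iio C.n)))
    (hndvd : ¬ C.p ∣ (closure (y '' Set.Iio C.n)).index) : CenSplit C.p G := by
  classical
  have : Fact C.p.Prime := ⟨hp⟩
  set S := closure (y '' Set.Iio C.n) with hSdef
  refine censplit_of_sub S (Nat.Coprime.symm ((hp.coprime_iff_not_dvd).2 hndvd)) ?_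
  intro Γ _ _ σ hs hc χ
  by_cases hχ : ∀ z : σ.ker, χ z = 1
  · exact ⟨1, fun z hz => (hχ z).symm⟩
  push Not at hχ
  obtain ⟨z₁, hz₁⟩ := hχ
  have hval : ∀ m : ZMod C.p, ∃ z : σ.ker, Multiplicative.toAdd (χ z) = m := by
    intro m
    have h0 : Multiplicative.toAdd (χ z₁) ≠ 0 := fun h =>
      hz₁ (Multiplicative.toAdd.injective (h.trans toAdd_one.symm))
    refine ⟨z₁ ^ (m / Multiplicative.toAdd (χ z₁)).val, ?_⟩
    rw [map_pow, toAdd_pow, nsmul_eq_mul, ZMod.natCast_zmod_val, div_mul_cancel₀ _ h0]
  choose L hL using fun i => hs (y i)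
  choose X hX using fun i => hs (x i)
  have hσP : ∀ w, σ (P L w) = P y w := fun w => by
    rw [P_map]; exact congrArg (fun f => P f w) (funext hL)
  have he : ∀ r, ∃ m, r < C.rels.length →
      E χ (P L (C.rels.getD r ([], [])).1) (P L (C.rels.getD r ([], [])).2) m := by
    intro r
    by_cases hr : r < C.rels.length
    · obtain ⟨m, hm⟩ := E_exists (χ := χ)
        (show σ (P L (C.rels.getD r ([], [])).1) = σ (P L (C.rels.getD r ([], [])).2) by
          rw [hσP, hσP, hrel r hr])
      exact ⟨m, fun _ => hm⟩
    · exact ⟨0, fun h => absurd h hr⟩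
  choose e he using he
  have hw : ∀ k, ∃ m, k < C.pairs.length →
      E χ (X (C.pairs.getD k (0, [], [])).1 * P L (C.pairs.getD k (0, [], [])).2.1 *
        (X (C.pairs.getD k (0, [], [])).1)⁻¹) (P L (C.pairs.getD k (0, [], [])).2.2) m := by
    intro k
    by_cases hk : k < C.pairs.length
    · obtain ⟨m, hm⟩ := E_exists (χ := χ) (show σ (X (C.pairs.getD k (0, [], [])).1 *
        P L (C.pairs.getD k (0, [], [])).2.1 * (X (C.pairs.getD k (0, [], [])).1)⁻¹) =
          σ (P L (C.pairs.getD k (0, [], [])).2.2) by
        rw [map_mul, map_mul, map_inv, hσP, hσP, hX, hpair k hk, mul_inv_cancel_right])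
      exact ⟨m, fun _ => hm⟩
    · exact ⟨0, fun h => absurd h hk⟩
  choose w hw using hw
  obtain ⟨v, hv⟩ : ∃ v : ℕ → ZMod C.p, v = fun j =>
      if j < C.rels.length then e j else w (j - C.rels.length) := ⟨_, rfl⟩
  have hrelE : ∀ r < C.rels.length,
      E χ (P L (C.rels.getD r ([], [])).1) (P L (C.rels.getD r ([], [])).2) (v r) := by
    intro r hr; rw [hv]; simp only [if_pos hr]; exact he r hr
  have hcoll : ∀ {W : List ℕ} {out : List ℕ × List ℕ}, coll C.p C.rels C.fuel W = some out →
      E χ (P L W) (P L out.1.reverse) (evalS v out.2) :=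
    fun h => coll_sound L C.rels v hc hp.pos hrelE C.fuel h
  have hconj : ∀ (x₀ : ℕ) (W : List ℕ), (∀ k ∈ W, k < C.pairs.length ∧
      (C.pairs.getD k (0, [], [])).1 = x₀) →
      E χ (X x₀ * P L (C.src W) * (X x₀)⁻¹) (P L (C.img W))
        (evalS v (W.map (C.rels.length + ·))) := by
    intro x₀ W
    induction W with
    | nil =>
      intro _
      simp only [Cert.src, Cert.img, List.flatMap_nil, P_nil, mul_one, mul_inv_cancel,
        List.map_nil, evalS_nil]
      exact E_refl _
    | cons k W ih =>
      intro h
      obtain ⟨hk, hk'⟩ := h k List.mem_cons_self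
      have h1 := hw k hk
      rw [hk'] at h1
      have h2 := E_mul hc h1 (ih fun j hj => h j (List.mem_cons_of_mem _ hj))
      simp only [Cert.src, Cert.img, List.flatMap_cons, P_append, List.map_cons, evalS_cons]
      have hvk : v (C.rels.length + k) = w k := by
        rw [hv]; simp only [if_neg (show ¬ C.rels.length + k < C.rels.length by omega)]
        rw [Nat.add_sub_cancel_left]
      rw [hvk]
      simp only [Cert.src, Cert.img] at h2
      convert h2 using 1
      group
  have hform : ∀ (q : Eqn) (f : List ℕ), C.formOf q = some f → evalS v f = 0 := by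
    intro q f hf
    cases q with
    | A p r =>
      simp only [Cert.formOf] at hf
      split_ifs at hf with hr
      simp only [decide_eq_true_eq] at hr
      split at hf
      · rename_i a b ha hb
        split_ifs at hf with hab
        simp only [Option.some.injEq] at hf
        subst hf
        simp only [beq_iff_eq] at hab
        have h1 := hcoll ha
        have h2 := hcoll hb
        rw [hab] at h1
        rw [P_append] at h1 h2
        have h3 := E_trans (E_symm h1)
          (E_trans (E_mul hc (E_refl (χ := χ) (P L p)) (hrelE r hr)) h2)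
        have h4 := E_unique h3 (E_refl _)
        rw [zero_add] at h4
        rw [evalS_append, evalS_negS, evalS_cons, ← h4]
      · exact absurd hf (by simp)
    | B W₁ W₂ =>
      simp only [Cert.formOf] at hf
      generalize (C.pairs.getD (W₁.headD 0) (0, [], [])).1 = x₀ at hf
      split_ifs at hf with hx
      simp only [List.all_eq_true, Bool.and_eq_true, decide_eq_true_eq, beq_iff_eq] at hx
      split at hf
      · rename_i a b c d ha hb hc' hd
        split_ifs at hf with hab
        simp only [Option.some.injEq] at hf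
        subst hf
        simp only [Bool.and_eq_true, beq_iff_eq] at hab
        have h1 := hcoll ha
        have h2 := hcoll hb
        have h3 := hcoll hc'
        have h4 := hcoll hd
        rw [hab.1] at h1
        rw [hab.2] at h3
        have h12 := E_conj hc (X x₀) (E_trans h1 (E_symm h2))
        have h34 := E_trans h3 (E_symm h4)
        have k1 := hconj x₀ W₁ fun k hk => hx k (List.mem_append_left _ hk)
        have k2 := hconj x₀ W₂ fun k hk => hx k (List.mem_append_right _ hk)
        have h5 := E_unique (E_trans (E_trans (E_symm h12) k1) h34) k2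
        simp only [evalS_append, evalS_negS]
        rw [← h5]
        ring
      · exact absurd hf (by simp)
  -- new lifts
  choose Z hZ using fun a => hval (evalD C.V v (C.lam.getD a []))
  obtain ⟨L', hL'⟩ : ∃ L' : ℕ → Γ, L' = fun a => L a * (Z a : Γ) := ⟨_, rfl⟩
  have hPL : ∀ W : List ℕ, E χ (P L' W) (P L W)
      (W.map fun a => evalD C.V v (C.lam.getD a [])).sum := by
    intro W
    induction W with
    | nil => simp only [P_nil, List.map_nil, List.sum_nil]; exact E_refl _
    | cons a W ih =>
      simp only [P_cons, List.map_cons, List.sum_cons]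
      have h1 : E χ (L' a) (L a) (evalD C.V v (C.lam.getD a [])) := ⟨Z a, by rw [hL'], hZ a⟩
      exact E_mul hc h1 ih
  have hsum : ∀ (l : List ℕ) (g : ℕ → ℕ → ℕ),
      (l.map fun a => ∑ j ∈ Finset.range C.V, (g a j : ZMod C.p) * v j).sum =
        ∑ j ∈ Finset.range C.V, ((l.map fun a => g a j).sum : ZMod C.p) * v j := by
    intro l g
    induction l with
    | nil => simp
    | cons a l ih =>
      simp only [List.map_cons, List.sum_cons, ih, ← Finset.sum_add_distrib]
      refine Finset.sum_congr rfl fun j _ => ?_
      push_cast; ring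
  have hrel' : ∀ r < C.rels.length,
      E χ (P L' (C.rels.getD r ([], [])).1) (P L' (C.rels.getD r ([], [])).2) 0 := by
    intro r hr
    simp only [Cert.combOK, Cert.eqsOK, List.all_eq_true, List.mem_range, Bool.and_eq_true,
      decide_eq_true_eq, beq_iff_eq] at hC
    obtain ⟨hj, hx⟩ := hC.2 r hr
    have hmem : ∀ j < C.forms.length, evalD C.V v (C.forms.getD j []) = 0 := by
      intro j hj'
      have := hC.1 j hj'
      split at this
      · rename_i l hl
        simp only [Bool.and_eq_true] at this
        rw [evalD_of_same v this.2]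
        exact hform _ _ hl
      · exact absurd this (by simp)
    have h0 : ∑ j ∈ Finset.range C.V, (C.comboAt r j : ZMod C.p) * v j = 0 := by
      have : ∀ l : List (ℕ × ℕ), (∀ x ∈ l, x.1 < C.forms.length) →
          ∑ j ∈ Finset.range C.V,
            ((l.map fun x => x.2 * (C.forms.getD x.1 []).getD j 0).sum : ZMod C.p) * v j = 0 := by
        intro l
        induction l with
        | nil => simp
        | cons x l ih =>
          intro h
          simp only [List.map_cons, List.sum_cons, Nat.cast_add, Nat.cast_mul, add_mul,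
            Finset.sum_add_distrib]
          rw [ih fun y hy => h y (List.mem_cons_of_mem _ hy), add_zero]
          simp only [mul_assoc, ← Finset.mul_sum]
          have h2 := hmem x.1 (h x List.mem_cons_self)
          rw [evalD] at h2
          rw [h2, mul_zero]
      exact this _ hj
    have h1 : ∑ j ∈ Finset.range C.V, (C.targetAt r j : ZMod C.p) * v j = 0 := by
      rw [← h0]
      refine Finset.sum_congr rfl fun j hj' => ?_
      rw [(ZMod.natCast_eq_natCast_iff' _ _ _).2 (hx j (Finset.mem_range.1 hj')).symm]
    have hneg : ((C.p - 1 : ℕ) : ZMod C.p) = -1 := by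
      rw [Nat.cast_sub hp.one_le, ZMod.natCast_self, Nat.cast_one, zero_sub]
    simp only [Cert.targetAt, Nat.cast_add, Nat.cast_mul, hneg, add_mul, Finset.sum_add_distrib,
      neg_mul, Finset.sum_neg_distrib] at h1
    rw [Finset.sum_eq_single r] at h1
    · have h2 := E_trans (E_trans (hPL _) (hrelE r hr)) (E_symm (hPL _))
      convert h2 using 1
      rw [← h1]
      simp only [beq_self_eq_true, if_true, Nat.cast_one, one_mul, evalD,
        hsum _ (fun a j => (C.lam.getD a []).getD j 0)]
      ring
    · intro b _ hb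
      simp [hb.symm]
    · intro h
      exact absurd (Finset.mem_range.2 (Nat.lt_add_right _ hr)) h
  -- the quotient by the kernel of the character
  obtain ⟨N, hN⟩ : ∃ N : Subgroup Γ, N = χ.ker.map σ.ker.subtype := ⟨_, rfl⟩
  have hNc : N ≤ center Γ := by
    rw [hN]; rintro _ ⟨z, -, rfl⟩; exact hc z.2
  have : N.Normal := ⟨fun z hz g => by
    rw [mem_center_iff.1 (hNc hz) g, mul_inv_cancel_right]; exact hz⟩
  have hE0 : ∀ {a b : Γ}, E χ a b 0 → (QuotientGroup.mk a : Γ ⧸ N) = QuotientGroup.mk b := by
    rintro a b ⟨z, rfl, hz⟩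
    rw [QuotientGroup.eq, mul_inv_rev, inv_mul_cancel_right, inv_mem_iff, hN]
    exact ⟨z, Multiplicative.toAdd.injective (hz.trans toAdd_one.symm), rfl⟩
  let π := QuotientGroup.mk' N
  have hNk : N ≤ σ.ker := by rw [hN]; rintro _ ⟨z, -, rfl⟩; exact z.2
  let σb := QuotientGroup.lift N σ hNk
  let U := closure ((fun a => π (L' a)) '' Set.Iio C.n)
  have hUcard : Nat.card U ≤ C.p ^ C.n := card_chain C hp.pos hS _ fun r hr => by
    rw [← P_map, ← P_map]; exact hE0 (hrel' r hr)
  have hUmap : U.map σb = S := by
    rw [MonoidHom.map_closure, Set.image_image, hSdef]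
    congr 1
    refine Set.image_congr fun a _ => ?_
    show σ (L' a) = y a
    rw [hL', map_mul, MonoidHom.mem_ker.1 (Z a).2, mul_one, hL]
  have hinj : Function.Injective (σb.subgroupMap U) := by
    have hsur := σb.subgroupMap_surjective U
    exact ((Nat.bijective_iff_surjective_and_card _).2 ⟨hsur, le_antisymm (by
      rw [hUmap]; exact hUcard.trans hcard) (Nat.card_le_card_of_surjective _ hsur)⟩).1
  have hker : ∀ u ∈ U, σb u = 1 → u = 1 := by
    intro u hu h1
    have := @hinj ⟨u, hu⟩ 1 (Subtype.ext (h1.trans (map_one σb).symm))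
    exact congrArg Subtype.val this
  have hex : ∀ g : S.comap σ, ∃ m : ZMod C.p, ∃ a, π a ∈ U ∧ E χ (g : Γ) a m := by
    rintro ⟨g, hg⟩
    obtain ⟨u, hu, hug⟩ : σ g ∈ U.map σb := by rw [hUmap]; exact hg
    obtain ⟨a, rfl⟩ := QuotientGroup.mk'_surjective N u
    obtain ⟨m, hm⟩ := E_exists (χ := χ) (show σ g = σ a from hug.symm)
    exact ⟨m, a, hu, hm⟩
  have huni : ∀ (g a b : Γ) (m n : ZMod C.p), π a ∈ U → π b ∈ U → E χ g a m → E χ g b n → m = n := by
    intro g a b m n ha hb h1 h2
    obtain ⟨z, hz, hzm⟩ := E_trans (E_symm h1) h2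
    have hab : π (b⁻¹ * a) ∈ U := by
      rw [map_mul, map_inv]; exact U.mul_mem (U.inv_mem hb) ha
    rw [hz, inv_mul_cancel_left] at hab
    have h1' := hker _ hab (MonoidHom.mem_ker.1 z.2)
    rw [QuotientGroup.mk'_apply, QuotientGroup.eq_one_iff, hN] at h1'
    obtain ⟨z', hz', he'⟩ := h1'
    rw [← Subtype.ext (he' : (z' : Γ) = z)] at hzm
    rw [MonoidHom.mem_ker.1 hz', toAdd_one] at hzm
    linear_combination hzm
  choose φ hφ using hex
  refine ⟨MonoidHom.mk' (fun g => Multiplicative.ofAdd (φ g)) fun g h => ?_, fun z hz => ?_⟩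
  · obtain ⟨a, ha, h1⟩ := hφ g
    obtain ⟨b, hb, h2⟩ := hφ h
    obtain ⟨c, hc', h3⟩ := hφ (g * h)
    rw [← ofAdd_add]
    congr 1
    refine huni _ c (a * b) _ _ hc' ?_ h3 (E_mul hc h1 h2)
    rw [map_mul]; exact U.mul_mem ha hb
  · obtain ⟨a, ha, h1⟩ := hφ ⟨z, hz⟩
    apply Multiplicative.toAdd.injective
    show φ ⟨z, hz⟩ = _
    exact huni _ a 1 _ _ ha (by rw [map_one]; exact U.one_mem) h1
      ⟨z, by rw [one_mul], rfl⟩

end Cfsg.Agent.CenSplitStableP50
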