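import Cfsg.Agent.Lib.CenSplitStableX40

/-!
Stable class certificates with coefficients of order two relative to commutators of commuting pairs.
-/

set_option autoImplicit false

namespace Cfsg.Agent.CenSplitTwoX40

open Subgroup Cfsg.Agent.SplitVoltage
open Cfsg.Agent.CenSplitStable50

universe u

/-- the form of a commuting pair -/
def xform (C : Cert) (q : List ℕ × List ℕ) : Option ℕ :=
  match coll C.rels C.fuel (q.1 ++ q.2), coll C.rels C.fuel (q.2 ++ q.1) with
  | some a, some b => if a.1 == b.1 then some (a.2 ^^^ b.2) else none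
  | _, _ => none

/-- the elimination -/
def combX (C : Cert) (ex : List (List ℕ × List ℕ)) : Bool :=
  ((List.range C.forms.length).all fun j =>
    if j < C.eqs.length then C.formOf (C.eqs.getD j (.A [] 0)) == some (C.forms.getD j 0)
    else if j - C.eqs.length < ex.length then
      xform C (ex.getD (j - C.eqs.length) ([], [])) == some (C.forms.getD j 0)
    else false) &&
  (List.range C.rels.length).all fun r =>
      let l := C.rels.getD r ([], [])
      ((C.combos.getD r []).all fun j => decide (j < C.forms.length)) &&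
      (xall ((C.combos.getD r []).map fun j => C.forms.getD j 0) ==
        2 ^ r ^^^ xall ((l.1 ++ l.2).map fun a => C.lam.getD a 0))

/-- The stable class criterion relative to the commutators of some commuting pairs. -/
theorem extend_of_cert {G : Type u} [Group G] [Finite G] (C : Cert) (hS : C.shapeOK = true)
    (ex : List (List ℕ × List ℕ)) (hC : combX C ex = true) (y : ℕ → G) (x : ℕ → G)
    (hrel : ∀ r < C.rels.length,
      P y (C.rels.getD r ([], [])).1 = P y (C.rels.getD r ([], [])).2)
    (hpair : ∀ k < C.pairs.length,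
      x (C.pairs.getD k (0, [], [])).1 * P y (C.pairs.getD k (0, [], [])).2.1 =
        P y (C.pairs.getD k (0, [], [])).2.2 * x (C.pairs.getD k (0, [], [])).1)
    (hcard : 2 ^ C.n ≤ Nat.card (closure (y '' Set.Iio C.n)))
    (hodd : Odd (closure (y '' Set.Iio C.n)).index)
    {Γ : Type u} [Group Γ] [Finite Γ] (σ : Γ →* G) (hs : Function.Surjective σ)
    (hc : σ.ker ≤ center Γ) (χ : σ.ker →* Multiplicative (ZMod 2))
    (hex : ∀ q ∈ ex, ∀ A B : Γ, σ A = P y q.1 → σ B = P y q.2 →
      ∀ z : σ.ker, A * B = B * A * (z : Γ) → χ z = 1) :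
    ∃ ψ : Γ →* Multiplicative (ZMod 2), ∀ z : σ.ker, ψ z = χ z := by
  classical
  set S := closure (y '' Set.Iio C.n) with hSdef
  refine CenSplitStableX40.extend_of_sub S ((Nat.coprime_two_right).2 hodd) σ hs hc χ ?_
  by_cases hχ : ∀ z : σ.ker, χ z = 1
  · exact ⟨1, fun z hz => (hχ z).symm⟩
  push Not at hχ
  obtain ⟨z₁, hz₁⟩ := hχ
  have hval : ∀ m : ZMod 2, ∃ z : σ.ker, Multiplicative.toAdd (χ z) = m := by
    intro m
    have h1 : Multiplicative.toAdd (χ z₁) = 1 := by
      have h2 : ∀ a : ZMod 2, a ≠ 0 → a = 1 := by decide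
      exact h2 _ fun h => hz₁ (Multiplicative.toAdd.injective (h.trans toAdd_one.symm))
    have h3 : ∀ a : ZMod 2, a = 0 ∨ a = 1 := by decide
    rcases h3 m with rfl | rfl
    · exact ⟨1, by simp⟩
    · exact ⟨z₁, h1⟩
  choose L hL using fun i => hs (y i)
  choose X hX using fun i => hs (x i)
  have hσP : ∀ w, σ (P L w) = P y w := fun w => by
    rw [P_map]; exact congrArg (fun f => P f w) (funext hL)
  have he : ∀ r, ∃ m, r < C.rels.length →
      E χ (P L (C.rels.getD r ([], [])).1) (P L (C.rels.getD r ([], [])).2) m := by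
    intro r
    by_cases hr : r < C.rels.length
    · obtain ⟨m, hm⟩ := E_exists (χ := χ)
        (show σ (P L (C.rels.getD r ([], [])).1) = σ (P L (C.rels.getD r ([], [])).2) by
          rw [hσP, hσP, hrel r hr])
      exact ⟨m, fun _ => hm⟩
    · exact ⟨0, fun h => absurd h hr⟩
  choose e he using he
  have hw : ∀ k, ∃ m, k < C.pairs.length →
      E χ (X (C.pairs.getD k (0, [], [])).1 * P L (C.pairs.getD k (0, [], [])).2.1 *
        (X (C.pairs.getD k (0, [], [])).1)⁻¹) (P L (C.pairs.getD k (0, [], [])).2.2) m := by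
    intro k
    by_cases hk : k < C.pairs.length
    · obtain ⟨m, hm⟩ := E_exists (χ := χ) (show σ (X (C.pairs.getD k (0, [], [])).1 *
        P L (C.pairs.getD k (0, [], [])).2.1 * (X (C.pairs.getD k (0, [], [])).1)⁻¹) =
          σ (P L (C.pairs.getD k (0, [], [])).2.2) by
        rw [map_mul, map_mul, map_inv, hσP, hσP, hX, hpair k hk, mul_inv_cancel_right])
      exact ⟨m, fun _ => hm⟩
    · exact ⟨0, fun h => absurd h hk⟩
  choose w hw using hw
  obtain ⟨v, hv⟩ : ∃ v : ℕ → ZMod 2, v = fun j =>
      if j < C.rels.length then e j else w (j - C.rels.length) := ⟨_, rfl⟩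
  have hV : C.rels.length ≤ C.V := Nat.le_add_right _ _
  have hrelE : ∀ r < C.rels.length,
      E χ (P L (C.rels.getD r ([], [])).1) (P L (C.rels.getD r ([], [])).2) (v r) := by
    intro r hr; rw [hv]; simp only [if_pos hr]; exact he r hr
  have hcoll : ∀ {W : List ℕ} {out : List ℕ × ℕ}, coll C.rels C.fuel W = some out →
      E χ (P L W) (P L out.1.reverse) (evalB C.V v out.2) :=
    fun h => coll_sound L C.rels C.V v hc hV hrelE C.fuel h
  have hconj : ∀ (x₀ : ℕ) (W : List ℕ), (∀ k ∈ W, k < C.pairs.length ∧
      (C.pairs.getD k (0, [], [])).1 = x₀) →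
      E χ (X x₀ * P L (C.src W) * (X x₀)⁻¹) (P L (C.img W))
        (evalB C.V v (xall (W.map fun k => 2 ^ (C.rels.length + k)))) := by
    intro x₀ W
    induction W with
    | nil =>
      intro _
      simp only [Cert.src, Cert.img, List.flatMap_nil, P_nil, mul_one, mul_inv_cancel,
        List.map_nil, xall, evalB_zero]
      exact E_refl _
    | cons k W ih =>
      intro h
      obtain ⟨hk, hk'⟩ := h k List.mem_cons_self
      have h1 := hw k hk
      rw [hk'] at h1
      have h2 := E_mul hc h1 (ih fun j hj => h j (List.mem_cons_of_mem _ hj))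
      simp only [Cert.src, Cert.img, List.flatMap_cons, P_append, List.map_cons, xall, evalB_xor]
      rw [evalB_two_pow v (show C.rels.length + k < C.V from Nat.add_lt_add_left hk _)]
      have hvk : v (C.rels.length + k) = w k := by
        rw [hv]; simp only [if_neg (show ¬ C.rels.length + k < C.rels.length by omega)]
        rw [Nat.add_sub_cancel_left]
      rw [hvk]
      simp only [Cert.src, Cert.img] at h2
      convert h2 using 1
      group
  have hxform : ∀ (q : List ℕ × List ℕ) (f : ℕ), q ∈ ex → xform C q = some f →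
      evalB C.V v f = 0 := by
    intro q f hq hf
    simp only [xform] at hf
    split at hf
    · rename_i a b ha hb
      split_ifs at hf with hab
      simp only [Option.some.injEq] at hf
      subst hf
      simp only [beq_iff_eq] at hab
      have h1 := hcoll ha
      have h2 := hcoll hb
      rw [hab] at h1
      obtain ⟨z, hz, hzm⟩ := E_trans h1 (E_symm h2)
      rw [P_append, P_append] at hz
      have h3 := hex q hq _ _ (hσP _) (hσP _) z hz
      rw [h3, toAdd_one] at hzm
      rw [evalB_xor, ← hzm]
    · exact absurd hf (by simp)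
  have hform : ∀ (q : Eqn) (f : ℕ), C.formOf q = some f → evalB C.V v f = 0 := by
    intro q f hf
    cases q with
    | A p r =>
      simp only [Cert.formOf] at hf
      split_ifs at hf with hr
      simp only [decide_eq_true_eq] at hr
      split at hf
      · rename_i a b ha hb
        split_ifs at hf with hab
        simp only [Option.some.injEq] at hf
        subst hf
        simp only [beq_iff_eq] at hab
        have h1 := hcoll ha
        have h2 := hcoll hb
        rw [hab] at h1
        rw [P_append] at h1 h2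
        have h3 := E_trans (E_symm h1)
          (E_trans (E_mul hc (E_refl (χ := χ) (P L p)) (hrelE r hr)) h2)
        have h4 := E_unique h3 (E_refl _)
        rw [zero_add] at h4
        rw [evalB_xor, evalB_xor, evalB_two_pow v (lt_of_lt_of_le hr hV), ← h4]
        ring
      · exact absurd hf (by simp)
    | B W₁ W₂ =>
      simp only [Cert.formOf] at hf
      generalize (C.pairs.getD (W₁.headD 0) (0, [], [])).1 = x₀ at hf
      split_ifs at hf with hx
      simp only [List.all_eq_true, Bool.and_eq_true, decide_eq_true_eq, beq_iff_eq] at hx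
      split at hf
      · rename_i a b c d ha hb hc' hd
        split_ifs at hf with hab
        simp only [Option.some.injEq] at hf
        subst hf
        simp only [Bool.and_eq_true, beq_iff_eq] at hab
        have h1 := hcoll ha
        have h2 := hcoll hb
        have h3 := hcoll hc'
        have h4 := hcoll hd
        rw [hab.1] at h1
        rw [hab.2] at h3
        have h12 := E_conj hc (X x₀) (E_trans h1 (E_symm h2))
        have h34 := E_trans h3 (E_symm h4)
        have k1 := hconj x₀ W₁ fun k hk => hx k (List.mem_append_left _ hk)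
        have k2 := hconj x₀ W₂ fun k hk => hx k (List.mem_append_right _ hk)
        have h5 := E_unique (E_trans (E_trans (E_symm h12) k1) h34) k2
        rw [List.map_append, evalB_xor, evalB_xor, evalB_xor, evalB_xor, evalB_xall,
          List.map_append, List.sum_append, ← evalB_xall, ← evalB_xall, ← h5]
        generalize evalB C.V v a.2 = t1, evalB C.V v b.2 = t2, evalB C.V v c.2 = t3,
          evalB C.V v d.2 = t4, evalB C.V v (xall _) = t5
        clear * - t1
        revert t1 t2 t3 t4 t5
        decide
      · exact absurd hf (by simp)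
  -- new lifts
  choose Z hZ using fun a => hval (evalB C.V v (C.lam.getD a 0))
  obtain ⟨L', hL'⟩ : ∃ L' : ℕ → Γ, L' = fun a => L a * (Z a : Γ) := ⟨_, rfl⟩
  have hPL : ∀ W : List ℕ, E χ (P L' W) (P L W)
      (evalB C.V v (xall (W.map fun a => C.lam.getD a 0))) := by
    intro W
    induction W with
    | nil => simp only [P_nil, List.map_nil, xall, evalB_zero]; exact E_refl _
    | cons a W ih =>
      simp only [P_cons, List.map_cons, xall, evalB_xor]
      have h1 : E χ (L' a) (L a) (evalB C.V v (C.lam.getD a 0)) := ⟨Z a, by rw [hL'], hZ a⟩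
      exact E_mul hc h1 ih
  have hrel' : ∀ r < C.rels.length,
      E χ (P L' (C.rels.getD r ([], [])).1) (P L' (C.rels.getD r ([], [])).2) 0 := by
    intro r hr
    simp only [combX, List.all_eq_true, List.mem_range, Bool.and_eq_true,
      decide_eq_true_eq, beq_iff_eq] at hC
    obtain ⟨hj, hx⟩ := hC.2 r hr
    have hmem : ∀ j < C.forms.length, evalB C.V v (C.forms.getD j 0) = 0 := by
      intro j hj'
      have := hC.1 j hj'
      by_cases hjl : j < C.eqs.length
      · rw [if_pos hjl, beq_iff_eq] at this
        exact hform _ _ this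
      · rw [if_neg hjl] at this
        split_ifs at this with hjx
        rw [beq_iff_eq] at this
        exact hxform _ _ (by rw [List.getD_eq_getElem _ _ hjx]; exact List.getElem_mem _) this
    have h0 : evalB C.V v (xall ((C.combos.getD r []).map fun j => C.forms.getD j 0)) = 0 := by
      rw [evalB_xall]
      refine List.sum_eq_zero fun t ht => ?_
      simp only [List.map_map, List.mem_map, Function.comp] at ht
      obtain ⟨j, hj', rfl⟩ := ht
      exact hmem j (hj j hj')
    rw [hx, evalB_xor, evalB_two_pow v (lt_of_lt_of_le hr hV), evalB_xall, List.map_append,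
      List.map_append, List.sum_append, ← evalB_xall, ← evalB_xall] at h0
    have h1 := E_trans (E_trans (hPL _) (hrelE r hr)) (E_symm (hPL _))
    convert h1 using 1
    rw [← h0]
    ring
  -- the quotient by the kernel of the character
  obtain ⟨N, hN⟩ : ∃ N : Subgroup Γ, N = χ.ker.map σ.ker.subtype := ⟨_, rfl⟩
  have hNc : N ≤ center Γ := by
    rw [hN]; rintro _ ⟨z, -, rfl⟩; exact hc z.2
  have : N.Normal := ⟨fun z hz g => by
    rw [mem_center_iff.1 (hNc hz) g, mul_inv_cancel_right]; exact hz⟩
  have hE0 : ∀ {a b : Γ}, E χ a b 0 → (QuotientGroup.mk a : Γ ⧸ N) = QuotientGroup.mk b := by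
    rintro a b ⟨z, rfl, hz⟩
    rw [QuotientGroup.eq, mul_inv_rev, inv_mul_cancel_right, inv_mem_iff, hN]
    exact ⟨z, Multiplicative.toAdd.injective (hz.trans toAdd_one.symm), rfl⟩
  let π := QuotientGroup.mk' N
  have hNk : N ≤ σ.ker := by rw [hN]; rintro _ ⟨z, -, rfl⟩; exact z.2
  let σb := QuotientGroup.lift N σ hNk
  let U := closure ((fun a => π (L' a)) '' Set.Iio C.n)
  have hUcard : Nat.card U ≤ 2 ^ C.n := card_chain C hS _ fun r hr => by
    rw [← P_map, ← P_map]; exact hE0 (hrel' r hr)
  have hUmap : U.map σb = S := by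
    rw [MonoidHom.map_closure, Set.image_image, hSdef]
    congr 1
    refine Set.image_congr fun a _ => ?_
    show σ (L' a) = y a
    rw [hL', map_mul, MonoidHom.mem_ker.1 (Z a).2, mul_one, hL]
  have hinj : Function.Injective (σb.subgroupMap U) := by
    have hsur := σb.subgroupMap_surjective U
    exact ((Nat.bijective_iff_surjective_and_card _).2 ⟨hsur, le_antisymm (by
      rw [hUmap]; exact hUcard.trans hcard) (Nat.card_le_card_of_surjective _ hsur)⟩).1
  have hker : ∀ u ∈ U, σb u = 1 → u = 1 := by
    intro u hu h1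
    have := @hinj ⟨u, hu⟩ 1 (Subtype.ext (h1.trans (map_one σb).symm))
    exact congrArg Subtype.val this
  have hex : ∀ g : S.comap σ, ∃ m : ZMod 2, ∃ a, π a ∈ U ∧ E χ (g : Γ) a m := by
    rintro ⟨g, hg⟩
    obtain ⟨u, hu, hug⟩ : σ g ∈ U.map σb := by rw [hUmap]; exact hg
    obtain ⟨a, rfl⟩ := QuotientGroup.mk'_surjective N u
    obtain ⟨m, hm⟩ := E_exists (χ := χ) (show σ g = σ a from hug.symm)
    exact ⟨m, a, hu, hm⟩
  have huni : ∀ (g a b : Γ) (m n : ZMod 2), π a ∈ U → π b ∈ U → E χ g a m → E χ g b n → m = n := by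
    intro g a b m n ha hb h1 h2
    obtain ⟨z, hz, hzm⟩ := E_trans (E_symm h1) h2
    have hab : π (b⁻¹ * a) ∈ U := by
      rw [map_mul, map_inv]; exact U.mul_mem (U.inv_mem hb) ha
    rw [hz, inv_mul_cancel_left] at hab
    have h1' := hker _ hab (MonoidHom.mem_ker.1 z.2)
    rw [QuotientGroup.mk'_apply, QuotientGroup.eq_one_iff, hN] at h1'
    obtain ⟨z', hz', he'⟩ := h1'
    rw [← Subtype.ext (he' : (z' : Γ) = z)] at hzm
    rw [MonoidHom.mem_ker.1 hz', toAdd_one] at hzm
    clear * - hzm
    revert m n hzm
    decide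
  choose φ hφ using hex
  refine ⟨MonoidHom.mk' (fun g => Multiplicative.ofAdd (φ g)) fun g h => ?_, fun z hz => ?_⟩
  · obtain ⟨a, ha, h1⟩ := hφ g
    obtain ⟨b, hb, h2⟩ := hφ h
    obtain ⟨c, hc', h3⟩ := hφ (g * h)
    rw [← ofAdd_add]
    congr 1
    refine huni _ c (a * b) _ _ hc' ?_ h3 (E_mul hc h1 h2)
    rw [map_mul]; exact U.mul_mem ha hb
  · obtain ⟨a, ha, h1⟩ := hφ ⟨z, hz⟩
    apply Multiplicative.toAdd.injective
    show φ ⟨z, hz⟩ = _
    exact huni _ a 1 _ _ ha (by rw [map_one]; exact U.one_mem) h1
      ⟨z, by rw [one_mul], rfl⟩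

end Cfsg.Agent.CenSplitTwoX40
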