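import Mathlib

/-!
Arithmetic for simple groups with a self-centralising cyclic subgroup of order four.
-/

set_option autoImplicit false

namespace Cfsg.Agent.CentFour75

/-- The degree relation and the order formula give the local parameters. -/
theorem core_params {u v x δ m : ℤ} (hu : 0 < u) (hv : 0 < v) (hx : 0 < x) (hm : 0 < m)
    (hδ : δ = 1 ∨ δ = -1) (hne : x ≠ δ) (hmo : Odd m) (huo : Odd u) (hvo : Odd v)
    (h : (x - δ) ^ 2 * m = 8 * (u + v) ^ 2 * (x * (x + δ))) :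
    ∃ s r : ℤ, 0 < s ∧ 0 < r ∧ x = 8 * s + δ ∧ u + v = 2 * (s * r) ∧
      m = r ^ 2 * ((8 * s + δ) * (4 * s + δ)) := by
  obtain ⟨p, hp⟩ : (2 : ℤ) ∣ x * (x + δ) := by
    refine even_iff_two_dvd.1 ((Int.even_or_odd x).elim (·.mul_right _) fun e => ?_)
    refine (e.add_odd ?_).mul_left _
    rcases hδ with rfl | rfl <;> decide
  obtain ⟨h₂, hh⟩ : (2 : ℤ) ∣ u + v := even_iff_two_dvd.1 (huo.add_odd hvo)
  have h64 : (8 : ℤ) ^ 2 ∣ (x - δ) ^ 2 * m := ⟨h₂ ^ 2 * p, by rw [h, hh, hp]; ring⟩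
  have hcop : IsCoprime ((8 : ℤ) ^ 2) m := by
    have h2 : IsCoprime (2 : ℤ) m := by
      obtain ⟨k, rfl⟩ := hmo
      exact ⟨-k, 1, by ring⟩
    rw [show (8 : ℤ) ^ 2 = 2 ^ 6 by norm_num]
    exact h2.pow_left
  have h8 : (8 : ℤ) ∣ x - δ := (Int.pow_dvd_pow_iff two_ne_zero).1 (hcop.dvd_of_dvd_mul_right h64)
  obtain ⟨s, hs⟩ := h8
  have hxs : x = 8 * s + δ := by linarith
  have hs0 : 0 < s := by
    rcases lt_trichotomy s 0 with hneg | h0 | hpos
    · rcases hδ with rfl | rfl <;> omega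
    · exact absurd (by rw [hxs, h0]; ring) hne
    · exact hpos
  have hkey : s ^ 2 * m = h₂ ^ 2 * ((8 * s + δ) * (4 * s + δ)) := by
    have := h
    rw [hxs, hh] at this
    refine mul_left_cancel₀ (show (64 : ℤ) ≠ 0 by norm_num) ?_
    linear_combination this
  have hcop2 : IsCoprime (s ^ 2) ((8 * s + δ) * (4 * s + δ)) := by
    refine IsCoprime.pow_left ?_
    rcases hδ with rfl | rfl
    · exact ⟨-(32 * s + 12), 1, by ring⟩
    · exact ⟨-(32 * s - 12), 1, by ring⟩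
  obtain ⟨r, hr⟩ : s ∣ h₂ :=
    (Int.pow_dvd_pow_iff two_ne_zero).1 (hcop2.dvd_of_dvd_mul_right ⟨m, hkey.symm⟩)
  have hh0 : 0 < h₂ := by linarith
  refine ⟨s, r, hs0, ?_, hxs, by rw [hh, hr], ?_⟩
  · exact pos_of_mul_pos_right (hr ▸ hh0) hs0.le
  · refine mul_left_cancel₀ (pow_ne_zero 2 hs0.ne') (a := s ^ 2) ?_
    rw [hkey, hr]; ring

/-- The large case: the index is at most fifteen, with equality only for equal parameters. -/
theorem index_bound {u v s r δ k N m : ℤ} (hu : 0 < u) (hv : 0 < v) (huv : u ≤ v) (hs : 0 < s)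
    (hr : 0 < r) (hδ : δ = 1 ∨ δ = -1) (hk : 0 < k) (hsr : u + v = 2 * (s * r))
    (hm : m = r ^ 2 * ((8 * s + δ) * (4 * s + δ))) (hN : 24 * (u * v ^ 3) ≤ N)
    (hcard : k * N = 8 * (u * v) * m) :
    k ≤ 15 ∧ (k = 15 → u = v ∧ k * N = 360 * v ^ 4) := by
  have hP : (8 * s + δ) * (4 * s + δ) ≤ 45 * s ^ 2 := by rcases hδ with rfl | rfl <;> nlinarith
  have hb : m ≤ 45 * (s * r) ^ 2 := by
    rw [hm, show 45 * (s * r) ^ 2 = r ^ 2 * (45 * s ^ 2) by ring]
    exact mul_le_mul_of_nonneg_left hP (sq_nonneg r)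
  have hsrv : (s * r) ^ 2 ≤ v ^ 2 := pow_le_pow_left₀ (mul_pos hs hr).le (by linarith) 2
  have huv0 : 0 < u * v := mul_pos hu hv
  have e1 : k * (24 * (u * v ^ 3)) ≤ k * N := mul_le_mul_of_nonneg_left hN hk.le
  have e2 : 8 * (u * v) * m ≤ 8 * (u * v) * (45 * v ^ 2) :=
    mul_le_mul_of_nonneg_left (by linarith) (by linarith)
  have hpos : 0 < 24 * (u * v ^ 3) := by positivity
  refine ⟨le_of_mul_le_mul_right (a := 24 * (u * v ^ 3)) ?_ hpos, ?_⟩
  · linarith [show 8 * (u * v) * (45 * v ^ 2) = 15 * (24 * (u * v ^ 3)) by ring]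
  rintro rfl
  have e3 : 8 * (u * v) * m = 8 * (u * v) * (45 * v ^ 2) := by
    linarith [show 8 * (u * v) * (45 * v ^ 2) = 15 * (24 * (u * v ^ 3)) by ring]
  have e4 : m = 45 * v ^ 2 := mul_left_cancel₀ (by positivity) e3
  have e5 : (s * r) ^ 2 = v ^ 2 := by linarith
  have e6 : s * r = v := (pow_left_inj₀ (mul_pos hs hr).le hv.le two_ne_zero).1 e5
  obtain rfl : u = v := by linarith
  exact ⟨rfl, by rw [hcard, e4]; ring⟩

/-- The principal block of a group with Klein four Sylow subgroup gives a lower bound for the order. -/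
theorem four_bound {a b c ε : ℤ} (ha : 0 < a) (hb : 0 < b) (hc : 0 < c) (hε : ε = 1 ∨ ε = -1)
    (h : 1 + a + ε * b - c = 0) : 3 * ((a + 1) * (b + ε) * (c - 1)) ≤ 8 * (a * b * c) := by
  obtain rfl : c = 1 + a + ε * b := by linarith
  rcases hε with rfl | rfl
  · nlinarith [mul_pos ha hb, mul_nonneg (mul_pos ha hb).le (show (0 : ℤ) ≤ a + b - 2 by omega),
      mul_nonneg (show (0 : ℤ) ≤ a - 1 by omega) (show (0 : ℤ) ≤ b - 1 by omega)]
  · have h1 : (a + 1) * (b + -1) ≤ 2 * (a * b) := by nlinarith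
    have h2 : 0 ≤ (a + 1) * (b + -1) := mul_nonneg (by omega) (by omega)
    nlinarith [mul_nonneg h2 (show (0 : ℤ) ≤ 1 + a + -1 * b by omega), mul_pos ha hb,
      mul_le_mul_of_nonneg_right h1 (show (0 : ℤ) ≤ 1 + a + -1 * b by omega)]

/-- The square equation of the small case. -/
theorem small_square {r s δ u Y Z : ℤ} (hs : 0 < s) (hr : 0 < r) (hu3 : 3 ≤ u)
    (hδ : δ = 1 ∨ δ = -1) (hu : u + 1 = 2 * (s * r)) (hsum : Y + Z = -1 - δ * (8 * s + δ))
    (heq : (r * (4 * s + δ)) ^ 2 * (Y * Z - δ * (8 * s + δ)) = 16 * u * (Y * Z))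
    (hY : Y ≠ 0) (hZ : Z ≠ 0) :
    ∃ q : ℤ, 0 < q ∧ (r * (4 * s + δ)) ^ 2 - q ^ 2 = 16 * u ∧
      Y * Z * q ^ 2 = δ * (8 * s + δ) * (r * (4 * s + δ)) ^ 2 := by
  set D := (r * (4 * s + δ)) ^ 2 - 16 * u with hD
  have hδ2 : δ * δ = 1 := by rcases hδ with rfl | rfl <;> rfl
  have hYZ : Y * Z * D = δ * (8 * s + δ) * (r * (4 * s + δ)) ^ 2 := by
    rw [hD]; linear_combination heq
  have h4 : 0 < 4 * s + δ := by rcases hδ with rfl | rfl <;> omega
  have hsr : 1 < s * r := by nlinarith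
  have hb : 8 * (4 * s + δ) * (s * r - 1) ≠ 0 :=
    mul_ne_zero (by omega) (by omega)
  have hsq : D * (Y - Z) ^ 2 = (8 * (4 * s + δ) * (s * r - 1)) ^ 2 := by
    have hu' : u = 2 * (s * r) - 1 := by linarith
    have e : (Y - Z) ^ 2 = (Y + Z) ^ 2 - 4 * (Y * Z) := by ring
    have e2 : D * (Y - Z) ^ 2 = D * (Y + Z) ^ 2 - 4 * (δ * (8 * s + δ) * (r * (4 * s + δ)) ^ 2) := by
      rw [e, ← hYZ]; ring
    rw [e2, hsum, hD, hu']
    rcases hδ with rfl | rfl <;> ring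
  have hYZ0 : Y - Z ≠ 0 := fun e => hb (by
    have := hsq
    rw [e] at this
    simpa using this.symm)
  obtain ⟨q, hq⟩ : Y - Z ∣ 8 * (4 * s + δ) * (s * r - 1) :=
    (Int.pow_dvd_pow_iff two_ne_zero).1 ⟨D, by rw [← hsq]; ring⟩
  have hDq : D = q ^ 2 := by
    refine mul_right_cancel₀ (pow_ne_zero 2 hYZ0) ?_
    rw [hsq, hq]; ring
  refine ⟨|q|, abs_pos.2 fun e => hb (by rw [hq, e, mul_zero]), ?_, ?_⟩
  · rw [sq_abs]; linarith
  · rw [sq_abs, ← hDq]; exact hYZ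

theorem pairs_pos : ∀ g ∈ List.range 11, ∀ s ∈ List.range 9, 0 < g → 0 < s →
    (g : ℤ) * (4 * (s : ℤ) + 1) + 2 * 1 ∣ 2 * ((g : ℤ) + 4) → g = 2 ∧ s = 1 := by
  decide +kernel

theorem pairs_neg : ∀ g ∈ List.range 11, ∀ s ∈ List.range 9, 0 < g → 0 < s →
    (g : ℤ) * (4 * (s : ℤ) + -1) + 2 * -1 ∣ 2 * ((g : ℤ) + 4) →
    (g = 1 ∧ s = 1) ∨ (g = 1 ∧ s = 2) ∨ (g = 2 ∧ s = 1) ∨ (g = 2 ∧ s = 2) ∨ (g = 3 ∧ s = 1) ∨
      (g = 10 ∧ s = 1) := by
  decide +kernel

/-- The finitely many solutions of the square equation. -/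
theorem small_cases {r s δ u q : ℤ} (hs : 0 < s) (hr : 0 < r) (hu3 : 3 ≤ u)
    (hδ : δ = 1 ∨ δ = -1) (hu : u + 1 = 2 * (s * r)) (hq : 0 < q)
    (h : (r * (4 * s + δ)) ^ 2 - q ^ 2 = 16 * u) :
    δ = -1 ∧ ((r = 1 ∧ s = 2) ∨ (r = 3 ∧ s = 1) ∨ (r = 5 ∧ s = 1)) := by
  set A := r * (4 * s + δ) with hA
  have hA0 : 0 < A := mul_pos hr (by rcases hδ with rfl | rfl <;> omega)
  have hprod : (A - q) * (A + q) = 16 * u := by linear_combination h
  obtain ⟨e, he⟩ : (2 : ℤ) ∣ A - q := by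
    refine (Int.prime_two.dvd_mul.1 (show (2 : ℤ) ∣ (A - q) * (A + q) from
      ⟨8 * u, by rw [hprod]; ring⟩)).elim id fun h2 => ?_
    have := dvd_sub h2 (⟨q, rfl⟩ : (2 : ℤ) ∣ 2 * q)
    rwa [show A + q - 2 * q = A - q by ring] at this
  have hlt : q < A := by nlinarith
  have he0 : 0 < e := by omega
  -- the factorisation
  have hfac : e * (A - e) = 4 * u := by
    have : A + q = 2 * (A - e) := by omega
    rw [he, this] at hprod; linarith
  have hu' : u = 2 * (s * r) - 1 := by linarith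
  have hkey : r * (4 * e * s + δ * e - 8 * s) = e ^ 2 - 4 := by
    rw [hA, hu'] at hfac; linear_combination hfac
  rcases lt_trichotomy e 2 with hlt2 | rfl | hgt
  · obtain rfl : e = 1 := by omega
    have h3 : r * (4 * s - δ) = 3 := by linarith [show r * (4 * s - δ) = -(r * (4 * 1 * s + δ * 1 - 8 * s)) by ring]
    have h4 : 4 * s - δ ≤ 3 := Int.le_of_dvd (by norm_num) ⟨r, by linarith⟩
    have hs1 : s = 1 := by rcases hδ with rfl | rfl <;> omega
    subst hs1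
    rcases hδ with rfl | rfl
    · obtain rfl : r = 1 := by omega
      omega
    · omega
  · exfalso
    have : r * (2 * δ) = 0 := by linarith [show r * (4 * 2 * s + δ * 2 - 8 * s) = r * (2 * δ) by ring]
    rcases hδ with rfl | rfl <;> omega
  obtain ⟨g, rfl⟩ : ∃ g, e = g + 2 := ⟨e - 2, by ring⟩
  have hg0 : 0 < g := by omega
  have hk2 : r * (4 * g * s + δ * (g + 2)) = g * (g + 4) := by linear_combination hkey
  obtain ⟨h', hh'⟩ : g ∣ 2 * r := by
    have : g * (δ * (g + 4 - 4 * (r * s) - δ * r)) = 2 * r := by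
      rcases hδ with rfl | rfl
      · linear_combination -hk2
      · linear_combination hk2
    exact ⟨_, this.symm⟩
  have hh0 : 0 < h' := pos_of_mul_pos_right (hh' ▸ (by omega : 0 < 2 * r)) hg0.le
  have hk3 : h' * (g * (4 * s + δ) + 2 * δ) = 2 * (g + 4) := by
    refine mul_left_cancel₀ hg0.ne' ?_
    rw [← mul_assoc, ← hh']
    linear_combination 2 * hk2
  have hF0 : 0 < g * (4 * s + δ) + 2 * δ := pos_of_mul_pos_right (hk3 ▸ (by omega)) hh0.le
  have hFle : g * (4 * s + δ) + 2 * δ ≤ 2 * (g + 4) :=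
    hk3 ▸ le_mul_of_one_le_left hF0.le hh0
  have hsle : 4 * s + δ ≤ g * (4 * s + δ) :=
    le_mul_of_one_le_left (by rcases hδ with rfl | rfl <;> omega) hg0
  have hg10 : g ≤ 10 := by
    rcases hδ with rfl | rfl <;> nlinarith
  have hs8 : s ≤ 8 := by rcases hδ with rfl | rfl <;> omega
  have hdvd : g * (4 * s + δ) + 2 * δ ∣ 2 * (g + 4) := ⟨h', by rw [← hk3]; ring⟩
  obtain ⟨g', rfl⟩ := Int.eq_ofNat_of_zero_le hg0.le
  obtain ⟨s', rfl⟩ := Int.eq_ofNat_of_zero_le hs.le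
  have hg' : g' ∈ List.range 11 := List.mem_range.2 (by omega)
  have hs' : s' ∈ List.range 9 := List.mem_range.2 (by omega)
  rcases hδ with rfl | rfl
  · obtain ⟨rfl, rfl⟩ := pairs_pos g' hg' s' hs' (by omega) (by omega) hdvd
    exfalso
    norm_num at hk3 hh' hu'
    omega
  · refine ⟨rfl, ?_⟩
    rcases pairs_neg g' hg' s' hs' (by omega) (by omega) hdvd with h | h | h | h | h | h <;>
      obtain ⟨rfl, rfl⟩ := h <;> norm_num at hk3 hh' hu' ⊢ <;> omega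

theorem pairs_nine : ∀ b ∈ List.range 14, ∀ c ∈ List.range 41, 9 < b → b ≤ c →
    ((b : ℤ) - 9) * (c : ℤ) * ((c : ℤ) + (b : ℤ) - 1) ≠ 9 * (b : ℤ) * ((b : ℤ) - 1) := by
  decide +kernel

theorem not_nine {b c : ℤ} (hb : 9 < b) (hbc : b ≤ c) :
    (b - 9) * c * (c + b - 1) ≠ 9 * b * (b - 1) := by
  intro h
  have hb13 : b ≤ 13 := by
    by_contra hc
    nlinarith [mul_le_mul (show (5 : ℤ) ≤ b - 9 by omega) hbc (by omega) (by omega),
      mul_le_mul_of_nonneg_left (show 2 * b - 1 ≤ c + b - 1 by omega)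
        (mul_nonneg (show (0 : ℤ) ≤ b - 9 by omega) (show (0 : ℤ) ≤ c by omega))]
  have hc40 : c ≤ 40 := by
    by_contra hc
    nlinarith [mul_le_mul (show (1 : ℤ) ≤ b - 9 by omega) le_rfl (show (0 : ℤ) ≤ c by omega) (by omega)]
  obtain ⟨b', rfl⟩ := Int.eq_ofNat_of_zero_le (show 0 ≤ b by omega)
  obtain ⟨c', rfl⟩ := Int.eq_ofNat_of_zero_le (show 0 ≤ c by omega)
  exact pairs_nine b' (List.mem_range.2 (by omega)) c' (List.mem_range.2 (by omega)) (by omega) (by omega) h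

/-- No degrees give a centraliser of order 180. -/
theorem no_degrees {a b c ε : ℤ} (ha : 0 < a) (hb : 0 < b) (hc : 0 < c) (hε : ε = 1 ∨ ε = -1)
    (hrel : 1 + a + ε * b - c = 0)
    (h : 9 * ((a + 1) * (b + ε) * (c - 1)) = 8 * (a * b * c)) : False := by
  rcases hε with rfl | rfl
  · obtain rfl : c = 1 + a + b := by linarith
    nlinarith [mul_pos ha hb, mul_pos (mul_pos ha hb) (add_pos ha hb),
      mul_nonneg (mul_pos ha hb).le (show (0 : ℤ) ≤ a + b - 2 by omega)]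
  obtain rfl : a = b + c - 1 := by linarith
  have hk : (b - 9) * c * (c + b - 1) = 9 * b * (b - 1) := by linear_combination h
  have hk' : (c - 9) * b * (b + c - 1) = 9 * c * (c - 1) := by linear_combination h
  have hbc : 9 < b ∧ 9 < c ∨ b = 1 ∨ c = 1 := by
    by_contra hn
    push Not at hn
    rcases le_or_gt b 9 with hb9 | hb9
    · nlinarith [mul_nonpos_iff.2 (Or.inr ⟨(show b - 9 ≤ 0 by omega),
        (mul_pos hc (show (0 : ℤ) < c + b - 1 by omega)).le⟩), mul_pos hb (show (0 : ℤ) < b - 1 by omega)]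
    · have hc9 := hn.1 hb9
      nlinarith [mul_nonpos_iff.2 (Or.inr ⟨(show c - 9 ≤ 0 by omega),
        (mul_pos hb (show (0 : ℤ) < b + c - 1 by omega)).le⟩), mul_pos hc (show (0 : ℤ) < c - 1 by omega)]
  rcases hbc with ⟨h1, h2⟩ | rfl | rfl
  · rcases le_total b c with hle | hle
    · exact not_nine h1 hle hk
    · exact not_nine h2 hle hk'
  · have : c * c = 0 := by linarith [show (1 - 9) * c * (c + 1 - 1) = -8 * (c * c) by ring]
    exact absurd this (mul_pos hc hc).ne'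
  · have : b * b = 0 := by linarith [show (1 - 9) * b * (b + 1 - 1) = -8 * (b * b) by ring]
    exact absurd this (mul_pos hb hb).ne'

end Cfsg.Agent.CentFour75
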