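import Mathlib
import Cfsg.Agent.Lib.SectionOrth79
import Cfsg.Agent.Lib.BlockTheoryNormal
import Cfsg.Agent.Lib.BlockPrincipal81
import Cfsg.Agent.Lib.ZStarSection
import Cfsg.Agent.Lib.BrauerPairs81Max
import Cfsg.Agent.Lib.BlockContribBounds

/-!
# Sections of `p`-elements whose centraliser has a normal `p`-complement

Members of the principal block are constant on such a section, and their values there satisfy the
column relations with the index of the complement.
-/

set_option autoImplicit false

open scoped ComplexConjugate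

namespace Cfsg.Agent.SectionComplement79

open Cfsg BlockTheoryLocalRing BlockTheoryCentre BlockTheoryIdem BlockContribPrime BlockContrib
  BlockSubsections79 SectionOrth79

attribute [local instance] Classical.propDecidable

universe u

variable {G : Type u} [Group G] [Fintype G] {p : ℕ} [Fact p.Prime] {M : Ideal AlgInt} {x : G}
  (N : Subgroup (Subgroup.centralizer ({x} : Set G)))

/-- The indicator of the regular elements of the centraliser. -/
noncomputable def regOne (p : ℕ) (x : G) : Subgroup.centralizer ({x} : Set G) → ℂ :=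
  pRegularPart p (fun _ => 1)

omit [Fact p.Prime] in
theorem regOne_apply {y : Subgroup.centralizer ({x} : Set G)} (hy : ¬ p ∣ orderOf y) :
    regOne p x y = 1 := by
  simp [regOne, pRegularPart, IsPRegular, hy]

theorem induced_principal (hM : IsPModular p M) (hx : ∃ k : ℕ, orderOf x = p ^ k) :
    IsInducedBlock M (Subgroup.centralizer ({x} : Set G))
      (principalBlock M (Subgroup.centralizer ({x} : Set G))) (principalBlock M G) := by
  obtain ⟨B', hB'⟩ := inducedBlockDefined_centralizer hM (x := x) hx
    (b := principalBlock M _) BlockPrincipal81.isPBlock_principal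
  exact (ZStarSection.principal_iff_of_induced hM hB').1 rfl ▸ hB'

/-- Members of the principal block are constant on the section of `x`. -/
theorem sec_const [hNn : N.Normal] (hM : IsPModular p M) (hx : ∃ k : ℕ, orderOf x = p ^ k)
    (hcard : ¬ p ∣ Nat.card N) (hmem : ∀ y, y ∈ N ↔ ¬ p ∣ orderOf y) {χ : IrrCharacter G}
    (hχ : χ ∈ principalBlock M G) {y : Subgroup.centralizer ({x} : Set G)} (hy : ¬ p ∣ orderOf y) :
    (χ : G → ℂ) (x * y) = (χ : G → ℂ) x := by
  have hconst : ∀ {ψ : IrrCharacter (Subgroup.centralizer ({x} : Set G))},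
      ψ ∈ principalBlock M (Subgroup.centralizer ({x} : Set G)) → ∀ z, ¬ p ∣ orderOf z →
      (ψ : Subgroup.centralizer ({x} : Set G) → ℂ) z =
        (ψ : Subgroup.centralizer ({x} : Set G) → ℂ) 1 := fun {ψ} hψ z hz =>
    BlockTheoryNormal.blockOf_subset_trivialOn N hM hcard
      (χ := BlockPrincipal81.oneChar _) (fun n _ => rfl) hψ z ((hmem z).2 hz)
  set b₀ := principalBlock M (Subgroup.centralizer ({x} : Set G)) with hb₀
  set F := sec x (χ : G → ℂ) with hF
  have hFc : IsClassFunction _ F := by rw [hF]; exact isClassFunction_sec (irr_classFun χ) x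
  have hline : ∀ v ∈ regSpan p b₀, ∃ c : ℂ, v = c • regOne p x := by
    intro v hv
    induction hv using Submodule.span_induction with
    | mem v hv =>
      obtain ⟨φ, hφ, rfl⟩ := hv
      refine ⟨(φ : Subgroup.centralizer ({x} : Set G) → ℂ) 1, funext fun z => ?_⟩
      by_cases hz : p ∣ orderOf z
      · simp [regOne, pRegularPart, IsPRegular, hz]
      · simp [regOne, pRegularPart, IsPRegular, hz, hconst hφ z hz]
    | zero => exact ⟨0, by simp⟩
    | add v v' _ _ h h' => obtain ⟨s, rfl⟩ := h; obtain ⟨t, rfl⟩ := h'; exact ⟨s + t, by rw [add_smul]⟩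
    | smul c v _ h => obtain ⟨t, rfl⟩ := h; exact ⟨c * t, by rw [smul_smul]⟩
  obtain ⟨c, hc⟩ := hline _ (proj_mem b₀ F)
  have hlin : ∀ z : Subgroup.centralizer ({x} : Set G), ¬ p ∣ orderOf z → F z = c := by
    intro z hz
    let one : IrrCharacter (Subgroup.centralizer ({x} : Set G)) := BlockPrincipal81.oneChar _
    refine sub_eq_zero.1 ?_
    have h0 := eq_zero_of_proj hM (F := F - c • (one : Subgroup.centralizer ({x} : Set G) → ℂ))
      (fun g h => by
        simp only [Pi.sub_apply, Pi.smul_apply, hFc g h, irr_classFun one g h]) (fun b hb => ?_) hz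
    · simpa [one, BlockPrincipal81.oneChar] using h0
    rw [map_sub, map_smul, proj_irr]
    by_cases hbb : b = b₀
    · rw [hbb, if_pos (BlockPrincipal81.oneChar_mem hM), hc]
      exact sub_self _
    · rw [if_neg (fun hm => hbb (block_eq_of_mem hM hb BlockPrincipal81.isPBlock_principal hm
        (BlockPrincipal81.oneChar_mem hM))), smul_zero, sub_zero]
      obtain ⟨B', hB'⟩ := inducedBlockDefined_centralizer hM hx hb
      refine proj_sec_eq_zero hM hx hB' fun hm => hbb ((ZStarSection.principal_iff_of_induced hM hB').2 ?_)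
      exact block_eq_of_mem hM hB'.2.1 BlockPrincipal81.isPBlock_principal hm hχ
  have h1 := hlin 1 (by rw [orderOf_one]; exact (Fact.out : p.Prime).not_dvd_one)
  have h2 := hlin y hy
  simp only [hF, sec, LinearMap.coe_mk, AddHom.coe_mk, OneMemClass.coe_one, mul_one] at h1 h2
  rw [h2, h1]

/-- Column relations of the principal block against a section with a normal complement. -/
theorem column [hNn : N.Normal] (hM : IsPModular p M) (hx : ∃ k : ℕ, orderOf x = p ^ k)
    (hcard : ¬ p ∣ Nat.card N) (hmem : ∀ y, y ∈ N ↔ ¬ p ∣ orderOf y) {y : G}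
    (hy : ∃ k : ℕ, orderOf y = p ^ k) :
    ∑ χ ∈ BlockContribBounds.members (principalBlock M G), (χ : G → ℂ) y * conj ((χ : G → ℂ) x) =
      if IsConj y x then (N.index : ℂ) else 0 := by
  have hp : p.Prime := Fact.out
  have hsec : ∀ χ : IrrCharacter G, secPair p x (regOne p x) (χ : G → ℂ) =
      if χ ∈ principalBlock M G then (Nat.card N : ℂ) * conj ((χ : G → ℂ) x) else 0 := by
    intro χ
    split_ifs with hχ
    · rw [secPair, Nat.card_eq_fintype_card, Fintype.card_of_subtype
        (Finset.univ.filter fun z => ¬ p ∣ orderOf z) (fun z => by simp [hmem z]),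
        ← nsmul_eq_mul, ← Finset.sum_const, Finset.sum_filter]
      refine Finset.sum_congr rfl fun z _ => ?_
      split_ifs with hz
      · rfl
      · rw [regOne_apply hz, one_mul, sec_const N hM hx hcard hmem hχ hz]
    · exact secPair_eq_zero hM hx (induced_principal hM hx)
        (Submodule.subset_span ⟨BlockPrincipal81.oneChar _, BlockPrincipal81.oneChar_mem hM, rfl⟩) hχ
  have hnot : ∀ z : Subgroup.centralizer ({x} : Set G), ¬ p ∣ orderOf z → z ≠ 1 →
      ¬ IsConj y (x * z) := by
    intro z hz hz1 hc
    obtain ⟨d, hd⟩ := isConj_iff.1 hc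
    have hcom : Commute x (z : G) := (Subgroup.mem_centralizer_singleton_iff.1 z.2).symm
    have h1 : IsPPart p (x * (z : G)) x :=
      ⟨z, rfl, hcom, hx, by rwa [Subgroup.orderOf_coe]⟩
    have h2 : IsPPart p (x * (z : G)) (x * (z : G)) := by
      obtain ⟨k, hk⟩ := hy
      refine ⟨1, mul_one _, Commute.one_right _, ⟨k, ?_⟩, by rw [orderOf_one]; exact hp.not_dvd_one⟩
      rw [← hd, show d * y * d⁻¹ = MulAut.conj d y from rfl, MulEquiv.orderOf_eq, hk]
    have := pPart_unique hp h1 h2
    rw [left_eq_mul] at this
    exact hz1 (Subtype.ext this)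
  have hall : ∑ χ : IrrCharacter G, (χ : G → ℂ) y * secPair p x (regOne p x) (χ : G → ℂ) =
      if IsConj y x then (Nat.card (Subgroup.centralizer ({x} : Set G)) : ℂ) else 0 := by
    simp only [secPair, Finset.mul_sum]
    rw [Finset.sum_comm, Finset.sum_eq_single (1 : Subgroup.centralizer ({x} : Set G))]
    · have h1 : ¬ p ∣ orderOf (1 : Subgroup.centralizer ({x} : Set G)) := by
        rw [orderOf_one]; exact hp.not_dvd_one
      simp only [if_pos h1, regOne_apply h1, one_mul, OneMemClass.coe_one, mul_one]
      rw [CharBasicOrth.sum_irr_mul_conj]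
      split_ifs with hc
      · obtain ⟨d, hd⟩ := isConj_iff.1 hc
        rw [← hd, BrauerPairs81Max.card_centralizer_conj]
      · rfl
    · intro z _ hz1
      by_cases hz : p ∣ orderOf z
      · simp [hz]
      · simp only [if_pos hz, regOne_apply hz, one_mul]
        rw [CharBasicOrth.sum_irr_mul_conj, if_neg (hnot z hz hz1)]
    · simp
  simp only [hsec, mul_ite, mul_zero] at hall
  rw [← Finset.sum_filter, BlockContribBounds.filter_eq_members] at hall
  have hN0 : (Nat.card N : ℂ) ≠ 0 := Nat.cast_ne_zero.2 Nat.card_pos.ne'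
  refine mul_left_cancel₀ hN0 ?_
  rw [Finset.mul_sum]
  refine (Finset.sum_congr rfl fun χ _ => ?_).trans (hall.trans ?_)
  · ring
  · split_ifs
    · rw [← N.card_mul_index, Nat.cast_mul]
    · rw [mul_zero]

end Cfsg.Agent.SectionComplement79
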