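import Mathlib
import Cfsg.Agent.Lib.SectionComplement79
import Cfsg.Agent.Lib.PGroupsCyclic
import Cfsg.Agent.S0514

/-!
# Dihedral Sylow 2-subgroups: fusion and centralisers of rotations

`P` is a dihedral Sylow 2-subgroup of order `2 ^ n` and `σ` an element of order `2 ^ (n - 1)`.
-/

set_option autoImplicit false

namespace Cfsg.Agent.DihedralRotations79

open Cfsg

attribute [local instance] Classical.propDecidable

universe u

variable {G : Type u} [Group G] [Fintype G]

/-- A dihedral Sylow 2-subgroup with a chosen rotation. -/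
structure Setting (n : ℕ) (P : Sylow 2 G) (σ : G) : Prop where
  hn : 3 ≤ n
  iso : Nonempty ((P : Subgroup G) ≃* DihedralGroup (2 ^ (n - 1)))
  mem : σ ∈ (P : Subgroup G)
  order : orderOf σ = 2 ^ (n - 1)

variable {n : ℕ} {P : Sylow 2 G} {σ : G}

theorem four_le (h : Setting n P σ) : 4 ≤ 2 ^ (n - 1) :=
  le_trans (by norm_num) (Nat.pow_le_pow_right (show 0 < 2 by norm_num)
    (show 2 ≤ n - 1 by have := h.hn; omega))

theorem two_pow_eq (h : Setting n P σ) : 2 ^ (n - 1) = 2 * 2 ^ (n - 2) := by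
  rw [← pow_succ']; congr 1; have := h.hn; omega

theorem card_sylow (h : Setting n P σ) : Nat.card P = 2 ^ n := by
  obtain ⟨e⟩ := h.iso
  rw [show Nat.card P = Nat.card (P : Subgroup G) from rfl, Nat.card_congr e.toEquiv,
    DihedralGroup.nat_card, ← pow_succ']
  congr 1; have := h.hn; omega

theorem factorization_card (h : Setting n P σ) : (Nat.card G).factorization 2 = n := by
  haveI : Fact (Nat.Prime 2) := ⟨Nat.prime_two⟩
  have h1 := P.card_eq_multiplicity
  rw [card_sylow h] at h1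
  exact (Nat.pow_right_injective le_rfl h1).symm

/-- Elements of `P` are rotations or invert them, and the centre has exponent two. -/
theorem structure_facts (h : Setting n P σ) :
    (∀ u ∈ (P : Subgroup G), u ∈ Subgroup.zpowers σ ∨ u * σ * u⁻¹ = σ⁻¹) ∧
      (∃ u ∈ (P : Subgroup G), u * σ * u⁻¹ = σ⁻¹) ∧
      (∀ u ∈ (P : Subgroup G), (∀ v ∈ (P : Subgroup G), u * v = v * u) → u * u = 1) := by
  have h4 := four_le h
  obtain ⟨e⟩ := h.iso
  haveI : NeZero (2 ^ (n - 1)) := ⟨by omega⟩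
  have hord : orderOf (e ⟨σ, h.mem⟩) = 2 ^ (n - 1) := by
    rw [MulEquiv.orderOf_eq, Subgroup.orderOf_mk, h.order]
  obtain ⟨i, hi⟩ : ∃ i, e ⟨σ, h.mem⟩ = DihedralGroup.r i := by
    rcases hs : e ⟨σ, h.mem⟩ with i | i
    · exact ⟨i, rfl⟩
    · rw [hs, DihedralGroup.orderOf_sr] at hord; omega
  have hr : ∀ j : ZMod (2 ^ (n - 1)), DihedralGroup.r j ∈ Subgroup.zpowers (e ⟨σ, h.mem⟩) := by
    intro j
    have hle : Subgroup.zpowers (e ⟨σ, h.mem⟩) ≤
        Subgroup.zpowers (DihedralGroup.r 1 : DihedralGroup (2 ^ (n - 1))) := by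
      rw [Subgroup.zpowers_le, hi]
      exact ⟨(i.val : ℤ), by simp⟩
    rw [Subgroup.eq_of_le_of_card_ge hle
      (by rw [Nat.card_zpowers, Nat.card_zpowers, hord, DihedralGroup.orderOf_r_one])]
    exact ⟨(j.val : ℤ), by simp⟩
  refine ⟨fun u hu => ?_, ?_, fun u hu hc => ?_⟩
  · rcases hs : e ⟨u, hu⟩ with j | j
    · left
      obtain ⟨z, hz⟩ := Subgroup.mem_zpowers_iff.1 (hr j)
      rw [← hs, ← map_zpow] at hz
      exact ⟨z, congrArg Subtype.val (e.injective hz)⟩
    · right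
      have : e (⟨u, hu⟩ * ⟨σ, h.mem⟩ * (⟨u, hu⟩ : (P : Subgroup G))⁻¹) = e (⟨σ, h.mem⟩ : (P : Subgroup G))⁻¹ := by
        rw [map_mul, map_mul, map_inv, map_inv, hs, hi]
        simp
      exact congrArg Subtype.val (e.injective this)
  · refine ⟨e.symm (DihedralGroup.sr 0), (e.symm (DihedralGroup.sr 0)).2, ?_⟩
    have : e (e.symm (DihedralGroup.sr 0) * ⟨σ, h.mem⟩ * (e.symm (DihedralGroup.sr 0))⁻¹) =
        e (⟨σ, h.mem⟩ : (P : Subgroup G))⁻¹ := by
      rw [map_mul, map_mul, map_inv, map_inv, e.apply_symm_apply, hi]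
      simp
    exact congrArg Subtype.val (e.injective this)
  · rcases hs : e ⟨u, hu⟩ with j | j
    · have h1 : e ⟨u, hu⟩ * DihedralGroup.sr 0 = DihedralGroup.sr 0 * e ⟨u, hu⟩ := by
        rw [← e.apply_symm_apply (DihedralGroup.sr 0), ← map_mul, ← map_mul]
        exact congrArg e (Subtype.ext (hc _ (e.symm (DihedralGroup.sr 0)).2))
      rw [hs] at h1
      simp only [DihedralGroup.r_mul_sr, DihedralGroup.sr_mul_r, DihedralGroup.sr.injEq] at h1
      have : e (⟨u, hu⟩ * ⟨u, hu⟩) = e 1 := by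
        rw [map_mul, map_one, hs, DihedralGroup.r_mul_r, ← DihedralGroup.r_zero]
        congr 1
        linear_combination -h1
      exact congrArg Subtype.val (e.injective this)
    · have : e (⟨u, hu⟩ * ⟨u, hu⟩) = e 1 := by rw [map_mul, map_one, hs]; simp
      exact congrArg Subtype.val (e.injective this)

theorem pow_mem_sylow (h : Setting n P σ) (a : ℕ) : σ ^ a ∈ (P : Subgroup G) :=
  Subgroup.pow_mem _ h.mem a

theorem pow_inj (h : Setting n P σ) {a b : ℕ} (ha : a < 2 ^ (n - 1)) (hb : b < 2 ^ (n - 1))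
    (e : σ ^ a = σ ^ b) : a = b :=
  pow_injOn_Iio_orderOf (by rwa [Set.mem_Iio, h.order]) (by rwa [Set.mem_Iio, h.order]) e

theorem pow_ne_one (h : Setting n P σ) {a : ℕ} (h0 : 0 < a) (ha : a < 2 ^ (n - 1)) : σ ^ a ≠ 1 :=
  fun e => by have := pow_inj h ha (Nat.two_pow_pos _) (by rw [e, pow_zero]); omega

theorem pow_sub (h : Setting n P σ) {a : ℕ} (ha : a ≤ 2 ^ (n - 1)) :
    σ ^ (2 ^ (n - 1) - a) = (σ ^ a)⁻¹ :=
  eq_inv_of_mul_eq_one_left (by rw [← pow_add, Nat.sub_add_cancel ha, ← h.order, pow_orderOf_eq_one])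

theorem order_pow (h : Setting n P σ) {a : ℕ} (h0 : 0 < a) (ha : a < 2 ^ (n - 1)) :
    ∃ k : ℕ, 1 ≤ k ∧ orderOf (σ ^ a) = 2 ^ k := by
  obtain ⟨k, -, hk⟩ := (Nat.dvd_prime_pow Nat.prime_two).1 (h.order ▸ orderOf_pow_dvd a)
  refine ⟨k, Nat.one_le_iff_ne_zero.2 fun e => pow_ne_one h h0 ha (orderOf_eq_one_iff.1 ?_), hk⟩
  rw [hk, e, pow_zero]

theorem pElem (h : Setting n P σ) (a : ℕ) : ∃ k : ℕ, orderOf (σ ^ a) = 2 ^ k := by
  obtain ⟨k, -, hk⟩ := (Nat.dvd_prime_pow Nat.prime_two).1 (h.order ▸ orderOf_pow_dvd a)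
  exact ⟨k, hk⟩

theorem orderOf_J (h : Setting n P σ) : orderOf (σ ^ 2 ^ (n - 2)) = 2 := by
  rw [orderOf_pow' σ (by positivity), h.order, two_pow_eq h, Nat.gcd_mul_left_left,
    Nat.mul_div_cancel _ (Nat.two_pow_pos _)]

theorem eq_J_of_order_two (h : Setting n P σ) {a : ℕ} (ha : a < 2 ^ (n - 1))
    (h2 : orderOf (σ ^ a) = 2) : a = 2 ^ (n - 2) := by
  have h1 : σ ^ a * σ ^ a = 1 := by rw [← pow_two, ← h2, pow_orderOf_eq_one]
  rw [← pow_add] at h1
  obtain ⟨q, hq⟩ := orderOf_dvd_of_pow_eq_one h1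
  rw [h.order, two_pow_eq h] at hq
  have ha0 : a ≠ 0 := by rintro rfl; simp at h2
  rw [two_pow_eq h] at ha
  rcases q with _ | _ | q
  · omega
  · omega
  · nlinarith

/-- Conjugate rotations are equal or inverse. -/
theorem eq_or_inv_of_conj (h : Setting n P σ) {a b : ℕ} (hc : IsConj (σ ^ a) (σ ^ b)) :
    σ ^ b = σ ^ a ∨ σ ^ b = (σ ^ a)⁻¹ := by
  haveI : Fact (Nat.Prime 2) := ⟨Nat.prime_two⟩
  obtain ⟨g, hg⟩ := isConj_iff.1 hc
  obtain ⟨hrot, -, -⟩ := structure_facts h
  set X := Subgroup.zpowers (σ ^ a) with hX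
  have hord : orderOf (σ ^ b) = orderOf (σ ^ a) := by
    rw [← hg, show g * σ ^ a * g⁻¹ = MulAut.conj g (σ ^ a) from rfl, MulEquiv.orderOf_eq]
  have hXb : Subgroup.zpowers (σ ^ b) = X :=
    PGroupsCyclic.eq_of_card_eq_of_isCyclic (A := Subgroup.zpowers σ) (Subgroup.isCyclic_zpowers σ)
      (Subgroup.zpowers_le.2 (Subgroup.npow_mem_zpowers σ b))
      (Subgroup.zpowers_le.2 (Subgroup.npow_mem_zpowers σ a))
      (by rw [Nat.card_zpowers, Nat.card_zpowers, hord])
  have hgN : g ∈ Subgroup.normalizer (X : Set G) := by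
    rw [Subgroup.mem_normalizer_iff]
    intro y
    have hmap : X.map (MulAut.conj g).toMonoidHom = X := by
      rw [hX, MonoidHom.map_zpowers]
      simp only [MulEquiv.coe_toMonoidHom, MulAut.conj_apply, hg]
      exact hXb
    conv_rhs => rw [← hmap]
    exact (Subgroup.mem_map_iff_mem (MulAut.conj g).injective).symm
  have hact : ∀ u ∈ (P : Subgroup G), u * σ ^ a * u⁻¹ = σ ^ a ∨ u * σ ^ a * u⁻¹ = (σ ^ a)⁻¹ := by
    intro u hu
    rcases hrot u hu with h1 | h1
    · left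
      obtain ⟨z, rfl⟩ := Subgroup.mem_zpowers_iff.1 h1
      rw [((Commute.refl σ).zpow_left z).pow_right a, mul_inv_cancel_right]
    · right
      rw [← conj_pow, h1, inv_pow]
  have hPN : (P : Subgroup G) ≤ Subgroup.normalizer (X : Set G) := by
    have hmove : ∀ u ∈ (P : Subgroup G), ∀ y ∈ X, u * y * u⁻¹ ∈ X := by
      intro u hu y hy
      obtain ⟨z, rfl⟩ := Subgroup.mem_zpowers_iff.1 hy
      rw [← conj_zpow]
      rcases hact u hu with e | e <;> rw [e]
      · exact Subgroup.zpow_mem _ (Subgroup.mem_zpowers _) z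
      · exact Subgroup.zpow_mem _ (Subgroup.inv_mem _ (Subgroup.mem_zpowers _)) z
    intro u hu
    refine Subgroup.mem_normalizer_iff.2 fun y => ⟨hmove u hu y, fun hy => ?_⟩
    have := hmove u⁻¹ (inv_mem hu) _ hy
    simpa [mul_assoc] using this
  let ψ := X.normalizerMonoidHom
  let Q : Subgroup (Subgroup.normalizer (X : Set G)) := (P : Subgroup G).subgroupOf _
  have hodd : ¬ 2 ∣ (Q.map ψ.rangeRestrict).index := fun hd => by
    have h1 := hd.trans ((Q.index_map_dvd ψ.rangeRestrict_surjective))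
    exact P.not_dvd_index (h1.trans (Subgroup.relIndex_dvd_index_of_le hPN))
  have htwo : (Q.map ψ.rangeRestrict).index = 1 := by
    have h1 : (Q.map ψ.rangeRestrict).index ∣ Nat.card (MulAut X) :=
      (Subgroup.index_dvd_card _).trans (Subgroup.card_subgroup_dvd_card _)
    haveI : IsCyclic X := Subgroup.isCyclic_zpowers _
    rw [IsCyclic.card_mulAut X, show Nat.card X = orderOf (σ ^ a) from Nat.card_zpowers _] at h1
    obtain ⟨k, hk⟩ := pElem h a
    rw [hk] at h1
    rcases Nat.eq_zero_or_pos k with hk0 | hk0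
    · rw [hk0, pow_zero, Nat.totient_one] at h1; exact Nat.dvd_one.1 h1
    · rw [Nat.totient_prime_pow Nat.prime_two hk0, show 2 - 1 = 1 from rfl, mul_one] at h1
      obtain ⟨j, -, hj⟩ := (Nat.dvd_prime_pow Nat.prime_two).1 h1
      rcases Nat.eq_zero_or_pos j with hj0 | hj0
      · rw [hj, hj0, pow_zero]
      · exact absurd (hj ▸ dvd_pow_self 2 (by omega)) hodd
  have hmem : ψ.rangeRestrict ⟨g, hgN⟩ ∈ Q.map ψ.rangeRestrict := by
    rw [Subgroup.index_eq_one.1 htwo]; trivial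
  obtain ⟨⟨u, huN⟩, hu, he⟩ := hmem
  have heq : u * σ ^ a * u⁻¹ = g * σ ^ a * g⁻¹ := by
    have := congrArg (fun f : ψ.range => ((f : MulAut X) ⟨σ ^ a, Subgroup.mem_zpowers _⟩ : G)) he
    simpa [ψ] using this
  rw [← hg, ← heq]
  exact hact u hu

theorem conj_inv (h : Setting n P σ) (a : ℕ) : IsConj (σ ^ a) (σ ^ a)⁻¹ := by
  obtain ⟨-, ⟨u, -, hu⟩, -⟩ := structure_facts h
  exact isConj_iff.2 ⟨u, by rw [← conj_pow, hu, inv_pow]⟩

/-- Centralisers of nontrivial rotations have normal 2-complements, of known index. -/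
theorem complement (h : Setting n P σ) {a : ℕ} (h0 : 0 < a) (ha : a < 2 ^ (n - 1)) :
    ∃ N : Subgroup (Subgroup.centralizer ({σ ^ a} : Set G)), N.Normal ∧ ¬ 2 ∣ Nat.card N ∧
      (∀ y, y ∈ N ↔ ¬ 2 ∣ orderOf y) ∧
      N.index = if a = 2 ^ (n - 2) then 2 * 2 ^ (n - 1) else 2 ^ (n - 1) := by
  haveI : Fact (Nat.Prime 2) := ⟨Nat.prime_two⟩
  obtain ⟨hrot, -, hcen⟩ := structure_facts h
  set J := σ ^ 2 ^ (n - 2) with hJ
  obtain ⟨N₀, hN₀, hodd₀, k₀, hk₀⟩ := Cfsg.Agent.S0514.result P (2 ^ (n - 1))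
    (by have := four_le h; omega) h.iso J (orderOf_J h)
  have hmem₀ : ∀ y, y ∈ N₀ ↔ ¬ 2 ∣ orderOf y := by
    intro y
    constructor
    · intro hy hd
      refine (Nat.not_even_iff_odd.2 hodd₀) (even_iff_two_dvd.2 (hd.trans ?_))
      have := orderOf_dvd_natCard (⟨y, hy⟩ : N₀)
      rwa [Subgroup.orderOf_mk] at this
    · intro hy
      rw [← QuotientGroup.eq_one_iff y]
      have h1 : orderOf (y : Subgroup.centralizer ({J} : Set G) ⧸ N₀) ∣ orderOf y :=
        orderOf_map_dvd (QuotientGroup.mk' N₀) y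
      have h2 : orderOf (y : Subgroup.centralizer ({J} : Set G) ⧸ N₀) ∣ 2 ^ k₀ := by
        rw [← hk₀]; exact orderOf_dvd_natCard _
      have hc : (2 ^ k₀).Coprime (orderOf y) :=
        (Nat.prime_two.coprime_iff_not_dvd.2 hy).pow_left k₀
      exact orderOf_eq_one_iff.1 (Nat.eq_one_of_dvd_coprimes hc h2 h1)
  have hle : Subgroup.centralizer ({σ ^ a} : Set G) ≤ Subgroup.centralizer ({J} : Set G) := by
    intro c hc
    have hJa : J ∈ Subgroup.zpowers (σ ^ a) := by
      obtain ⟨k, hk, hk'⟩ := order_pow h h0 ha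
      have h1 : orderOf ((σ ^ a) ^ 2 ^ (k - 1)) = 2 := by
        rw [orderOf_pow' _ (by positivity), hk',
          show (2 : ℕ) ^ k = 2 * 2 ^ (k - 1) by rw [← pow_succ']; congr 1; omega,
          Nat.gcd_mul_left_left, Nat.mul_div_cancel _ (Nat.two_pow_pos _)]
      refine ⟨(2 ^ (k - 1) : ℕ), ?_⟩
      show (σ ^ a) ^ ((2 ^ (k - 1) : ℕ) : ℤ) = J
      rw [zpow_natCast, ← pow_mul, ← pow_mod_orderOf, h.order]
      rw [← pow_mul, ← pow_mod_orderOf, h.order] at h1
      rw [eq_J_of_order_two h (Nat.mod_lt _ (Nat.two_pow_pos _)) h1]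
    obtain ⟨z, hz⟩ := Subgroup.mem_zpowers_iff.1 hJa
    rw [Subgroup.mem_centralizer_singleton_iff, ← hz]
    exact (Commute.zpow_right (show Commute c (σ ^ a) from Subgroup.mem_centralizer_singleton_iff.1 hc) z).eq
  set ι := Subgroup.inclusion hle
  have hι : Function.Injective ι := Subgroup.inclusion_injective hle
  set N := N₀.comap ι with hN
  have hord : ∀ y, orderOf (ι y) = orderOf y := fun y => orderOf_injective ι hι y
  have hmem : ∀ y, y ∈ N ↔ ¬ 2 ∣ orderOf y := fun y => by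
    rw [hN, Subgroup.mem_comap, hmem₀, hord]
  have hcard : ¬ 2 ∣ Nat.card N := fun hd => by
    refine (Nat.not_even_iff_odd.2 hodd₀) (even_iff_two_dvd.2 (hd.trans ?_))
    exact Subgroup.card_dvd_of_injective ((ι.comp N.subtype).codRestrict N₀ fun y => y.2)
      (fun y y' e => Subtype.ext (hι (congrArg Subtype.val e)))
  refine ⟨N, hN₀.comap ι, hcard, hmem, ?_⟩
  obtain ⟨j, -, hj⟩ : ∃ j ≤ k₀, N.index = 2 ^ j := by
    refine (Nat.dvd_prime_pow Nat.prime_two).1 ?_
    rw [← hk₀, hN, Subgroup.index_comap]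
    exact Subgroup.relIndex_dvd_index_of_normal N₀ _
  have hv : (Nat.card (Subgroup.centralizer ({σ ^ a} : Set G))).factorization 2 = j := by
    rw [← N.card_mul_index, hj, Nat.factorization_mul Nat.card_pos.ne' (by positivity),
      Finsupp.add_apply, Nat.factorization_eq_zero_of_not_dvd hcard, zero_add,
      Nat.Prime.factorization_pow Nat.prime_two, Finsupp.single_eq_same]
  have hjn : j ≤ n := by
    rw [← hv, ← factorization_card h]
    exact (Nat.factorization_le_iff_dvd Nat.card_pos.ne' Nat.card_pos.ne').2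
      (Subgroup.card_subgroup_dvd_card _) 2
  have hjm : n - 1 ≤ j := by
    rw [← hv, ← Nat.Prime.pow_dvd_iff_le_factorization Nat.prime_two Nat.card_pos.ne', ← h.order,
      ← Nat.card_zpowers]
    exact Subgroup.card_dvd_of_le (Subgroup.zpowers_le.2
      (Subgroup.mem_centralizer_singleton_iff.2 (Commute.self_pow σ a).eq))
  split_ifs with hah
  · have hnj : n ≤ j := by
      rw [← hv, ← Nat.Prime.pow_dvd_iff_le_factorization Nat.prime_two Nat.card_pos.ne', ← card_sylow h]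
      refine Subgroup.card_dvd_of_le (fun u hu => Subgroup.mem_centralizer_singleton_iff.2 ?_)
      rcases hrot u hu with h1 | h1
      · obtain ⟨z, rfl⟩ := Subgroup.mem_zpowers_iff.1 h1
        exact (((Commute.refl σ).zpow_left z).pow_right a).eq
      · have h2 : (σ ^ a)⁻¹ = σ ^ a := by
          rw [hah]
          refine inv_eq_of_mul_eq_one_right ?_
          have := pow_orderOf_eq_one (σ ^ 2 ^ (n - 2))
          rwa [orderOf_J h, pow_two] at this
        have h3 : u * σ ^ a * u⁻¹ = σ ^ a := by rw [← conj_pow, h1, inv_pow, h2]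
        exact mul_inv_eq_iff_eq_mul.1 h3
    rw [hj, ← pow_succ']
    congr 1
    have := h.hn
    omega
  · rw [hj]
    congr 1
    by_contra hne
    have hjn' : j = n := by omega
    obtain ⟨Q, hQ⟩ := Sylow.exists_subgroup_card_pow_prime 2
      (n := n) (G := Subgroup.centralizer ({σ ^ a} : Set G))
      ((Nat.Prime.pow_dvd_iff_le_factorization Nat.prime_two Nat.card_pos.ne').2 (by omega))
    let S := Sylow.ofCard (p := 2) (Q.map (Subgroup.centralizer ({σ ^ a} : Set G)).subtype) (by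
      rw [Subgroup.card_map_of_injective Subtype.val_injective, hQ, factorization_card h])
    have hxc : ∀ y ∈ (S : Subgroup G), y * σ ^ a = σ ^ a * y := by
      intro y hy
      rw [Sylow.coe_ofCard] at hy
      obtain ⟨⟨y, hyC⟩, -, rfl⟩ := hy
      exact Subgroup.mem_centralizer_singleton_iff.1 hyC
    have hxS : σ ^ a ∈ (S : Subgroup G) := by
      obtain ⟨k, hk⟩ := pElem h a
      have hp : IsPGroup 2 (Subgroup.zpowers (σ ^ a)) :=
        IsPGroup.of_card (n := k) (by rw [Nat.card_zpowers, hk])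
      have hsup := S.isPGroup'.to_sup_of_normal_left' hp (Subgroup.zpowers_le.2 (by
        refine Subgroup.mem_normalizer_iff.2 fun y => ⟨fun hy => ?_, fun hy => ?_⟩
        · rw [← hxc y hy, mul_inv_cancel_right]; exact hy
        · have := hxc _ hy
          rw [inv_mul_cancel_right] at this
          rw [mul_left_cancel this]
          exact hy))
      rw [← S.is_maximal' hsup le_sup_left]
      exact Subgroup.mem_sup_right (Subgroup.mem_zpowers _)
    obtain ⟨g, hg⟩ := MulAction.exists_smul_eq G S P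
    have hgS : ∀ y, y ∈ (S : Subgroup G) ↔ g * y * g⁻¹ ∈ (P : Subgroup G) := by
      intro y
      rw [← hg, Sylow.coe_subgroup_smul]
      exact (Subgroup.mem_map_iff_mem (MulAut.conj g).injective).symm
    have hsq := hcen _ ((hgS _).1 hxS) (by
      intro v hv
      have hv' : g⁻¹ * v * g ∈ (S : Subgroup G) := (hgS _).2 (by
        rwa [show g * (g⁻¹ * v * g) * g⁻¹ = v by group])
      calc g * σ ^ a * g⁻¹ * v = g * (σ ^ a * (g⁻¹ * v * g)) * g⁻¹ := by group
        _ = g * ((g⁻¹ * v * g) * σ ^ a) * g⁻¹ := by rw [hxc _ hv']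
        _ = _ := by group)
    refine hah (eq_J_of_order_two h ha (orderOf_eq_prime ?_ (pow_ne_one h h0 ha)))
    rw [pow_two]
    refine (MulAut.conj g).injective ?_
    rw [map_mul, map_one]
    exact hsq

end Cfsg.Agent.DihedralRotations79
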