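import Mathlib
import Cfsg.Agent.Lib.DihedralRotations79
import Cfsg.Agent.Lib.BlockContribBounds

/-!
# The principal 2-block of a group with dihedral Sylow 2-subgroups

For a member `χ` of the block let `mult j χ` be the multiplicity of `ζ ^ j` among the eigenvalues of
the rotation `σ` and `coef j χ = mult j χ - mult 0 χ`.  The column relations on the rotations give
the Gram matrix of these integer vectors, which determines the block.
-/

set_option autoImplicit false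

open scoped ComplexConjugate

namespace Cfsg.Agent.DihedralBlock79

open Cfsg BlockTheoryLocalRing BlockTheoryCentre BlockTheoryIdem BlockContribPrime BlockContrib
  DihedralRotations79

attribute [local instance] Classical.propDecidable

universe u

variable {G : Type u} [Group G] [Fintype G] {n : ℕ} {P : Sylow 2 G} {σ : G} {M : Ideal AlgInt}
  {ζ : ℂ}

/-- Geometric sums of roots of unity. -/
theorem geom {m : ℕ} {w : ℂ} (hw : w ^ m = 1) :
    ∑ a ∈ Finset.range m, w ^ a = if w = 1 then (m : ℂ) else 0 := by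
  split_ifs with h
  · simp [h]
  · rw [geom_sum_eq h, hw, sub_self, zero_div]

theorem geom_pow {m : ℕ} (hζ : IsPrimitiveRoot ζ m) (k : ℕ) :
    ∑ a ∈ Finset.range m, (ζ ^ k) ^ a = if m ∣ k then (m : ℂ) else 0 := by
  rw [geom (by rw [← pow_mul, mul_comm, pow_mul, hζ.pow_eq_one, one_pow])]
  by_cases hk : m ∣ k
  · rw [if_pos hk, if_pos ((hζ.pow_eq_one_iff_dvd k).2 hk)]
  · rw [if_neg hk, if_neg fun e => hk ((hζ.pow_eq_one_iff_dvd k).1 e)]

/-- `ζ ^ (-(j * a))`, with natural exponents. -/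
noncomputable def rot (ζ : ℂ) (m j a : ℕ) : ℂ := (ζ ^ (m - j)) ^ a

theorem rot_mul {m : ℕ} (hζ : IsPrimitiveRoot ζ m) {j : ℕ} (hj : j ≤ m) (a : ℕ) :
    rot ζ m j a * (ζ ^ j) ^ a = 1 := by
  rw [rot, ← mul_pow, ← pow_add, Nat.sub_add_cancel hj, hζ.pow_eq_one, one_pow]

/-- The multiplicity of `ζ ^ j` as an eigenvalue of `σ`. -/
noncomputable def mult (σ : G) (ζ : ℂ) (m j : ℕ) (χ : IrrCharacter G) : ℤ :=
  Classical.epsilon fun z : ℤ =>
    ∑ a ∈ Finset.range m, (χ : G → ℂ) (σ ^ a) * rot ζ m j a = (m : ℂ) * (z : ℂ)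

theorem mult_spec (h : Setting n P σ) (hζ : IsPrimitiveRoot ζ (2 ^ (n - 1))) (j : ℕ)
    (χ : IrrCharacter G) :
    ∑ a ∈ Finset.range (2 ^ (n - 1)), (χ : G → ℂ) (σ ^ a) * rot ζ (2 ^ (n - 1)) j a =
      ((2 ^ (n - 1) : ℕ) : ℂ) * (mult σ ζ (2 ^ (n - 1)) j χ : ℂ) := by
  refine Classical.epsilon_spec (p := fun z : ℤ =>
    ∑ a ∈ Finset.range (2 ^ (n - 1)), (χ : G → ℂ) (σ ^ a) * rot ζ (2 ^ (n - 1)) j a =
      ((2 ^ (n - 1) : ℕ) : ℂ) * (z : ℂ)) ?_
  obtain ⟨d, ρ, -, hρ⟩ := χ.2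
  obtain ⟨b, μ, -, hord, -, hpow⟩ := CharBasic.exists_rep_eigenbasis ρ σ
  rw [← hρ]
  simp only [hpow, Finset.sum_mul]
  refine ⟨((Finset.univ.filter fun i => μ i * ζ ^ (2 ^ (n - 1) - j) = 1).card : ℤ), ?_⟩
  rw [Finset.sum_comm, Int.cast_natCast, mul_comm, ← nsmul_eq_mul, ← Finset.sum_const,
    Finset.sum_filter]
  refine Finset.sum_congr rfl fun i _ => ?_
  simp only [rot, ← mul_pow]
  have h1 : μ i ^ 2 ^ (n - 1) = 1 := by have := hord i; rwa [h.order] at this
  exact geom (by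
    rw [mul_pow, h1, one_mul, ← pow_mul, mul_comm, pow_mul, hζ.pow_eq_one, one_pow])

/-- The coefficient of `χ` in the `j`-th basic vector. -/
noncomputable def coef (σ : G) (ζ : ℂ) (m j : ℕ) (χ : IrrCharacter G) : ℤ :=
  mult σ ζ m j χ - mult σ ζ m 0 χ

/-- The function pairing with `coef`. -/
noncomputable def tf (ζ : ℂ) (m j a : ℕ) : ℂ := rot ζ m j a - 1

theorem rot_zero {m : ℕ} (hζ : IsPrimitiveRoot ζ m) (a : ℕ) : rot ζ m 0 a = 1 := by
  simp [rot, hζ.pow_eq_one]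

theorem coef_spec (h : Setting n P σ) (hζ : IsPrimitiveRoot ζ (2 ^ (n - 1))) (j : ℕ)
    (χ : IrrCharacter G) :
    ∑ a ∈ Finset.range (2 ^ (n - 1)), (χ : G → ℂ) (σ ^ a) * tf ζ (2 ^ (n - 1)) j a =
      ((2 ^ (n - 1) : ℕ) : ℂ) * (coef σ ζ (2 ^ (n - 1)) j χ : ℂ) := by
  simp only [tf, mul_sub, mul_one, Finset.sum_sub_distrib]
  rw [mult_spec h hζ j χ, coef, Int.cast_sub, mul_sub]
  congr 1
  rw [← mult_spec h hζ 0 χ]
  exact Finset.sum_congr rfl fun a _ => by rw [rot_zero hζ, mul_one]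

theorem apply_sub (h : Setting n P σ) (χ : IrrCharacter G) {a : ℕ} (ha : a ≤ 2 ^ (n - 1)) :
    (χ : G → ℂ) (σ ^ (2 ^ (n - 1) - a)) = (χ : G → ℂ) (σ ^ a) := by
  rw [pow_sub h ha]
  obtain ⟨d, hd⟩ := isConj_iff.1 (conj_inv h a)
  rw [← hd, irr_classFun χ _ d]

theorem apply_real (h : Setting n P σ) (χ : IrrCharacter G) (a : ℕ) :
    conj ((χ : G → ℂ) (σ ^ a)) = (χ : G → ℂ) (σ ^ a) := by
  obtain ⟨d, hd⟩ := isConj_iff.1 (conj_inv h a)
  rw [← irr_inv, ← hd, irr_classFun χ _ d]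

theorem coef_symm (h : Setting n P σ) (hζ : IsPrimitiveRoot ζ (2 ^ (n - 1))) {j : ℕ}
    (hj : j ≤ 2 ^ (n - 1)) (χ : IrrCharacter G) :
    coef σ ζ (2 ^ (n - 1)) (2 ^ (n - 1) - j) χ = coef σ ζ (2 ^ (n - 1)) j χ := by
  have key : ((2 ^ (n - 1) : ℕ) : ℂ) * (mult σ ζ (2 ^ (n - 1)) (2 ^ (n - 1) - j) χ : ℂ) =
      ((2 ^ (n - 1) : ℕ) : ℂ) * (mult σ ζ (2 ^ (n - 1)) j χ : ℂ) := by
    rw [← mult_spec h hζ, ← mult_spec h hζ]
    set m := 2 ^ (n - 1) with hm
    have hm0 : 0 < m := Nat.two_pow_pos _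
    refine Finset.sum_bij' (fun a _ => (m - a) % m) (fun a _ => (m - a) % m)
      (fun a _ => Finset.mem_range.2 (Nat.mod_lt _ hm0)) (fun a _ => Finset.mem_range.2 (Nat.mod_lt _ hm0))
      ?_ ?_ fun a ha => ?_
    all_goals try (intro a ha)
    all_goals have ha' := Finset.mem_range.1 ha
    all_goals rcases Nat.eq_zero_or_pos a with rfl | hpos
    all_goals try (simp [rot, Nat.sub_self]; done)
    all_goals try (simp only [Nat.mod_eq_of_lt (show m - a < m by omega)]; rw [Nat.mod_eq_of_lt (by omega)]; omega)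
    rw [Nat.mod_eq_of_lt (show m - a < m by omega), apply_sub h χ ha'.le]
    congr 1
    have h1 := rot_mul hζ (show m - j ≤ m by omega) a
    have h2 : (ζ ^ (m - j)) ^ (m - a) * (ζ ^ (m - j)) ^ a = 1 := by
      rw [← pow_add, Nat.sub_add_cancel ha'.le, ← pow_mul, mul_comm, pow_mul, hζ.pow_eq_one, one_pow]
    exact mul_right_cancel₀ (b := (ζ ^ (m - j)) ^ a)
      (pow_ne_zero _ (pow_ne_zero _ (hζ.ne_zero hm0.ne'))) (h1.trans h2.symm)
  simp only [coef]
  have := mul_left_cancel₀ (Nat.cast_ne_zero.2 (Nat.two_pow_pos _).ne') key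
  rw [show mult σ ζ (2 ^ (n - 1)) (2 ^ (n - 1) - j) χ = mult σ ζ (2 ^ (n - 1)) j χ by exact_mod_cast this]

/-- The value on a rotation from the coefficients. -/
theorem value_eq (h : Setting n P σ) (hζ : IsPrimitiveRoot ζ (2 ^ (n - 1))) (χ : IrrCharacter G)
    {a : ℕ} (h0 : 0 < a) (ha : a < 2 ^ (n - 1)) :
    (χ : G → ℂ) (σ ^ a) =
      ∑ j ∈ Finset.range (2 ^ (n - 1)), (coef σ ζ (2 ^ (n - 1)) j χ : ℂ) * (ζ ^ a) ^ j := by
  have hspec := coef_spec h hζ (χ := χ)
  set m := 2 ^ (n - 1) with hm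
  have hm0 : (m : ℂ) ≠ 0 := Nat.cast_ne_zero.2 (Nat.two_pow_pos _).ne'
  refine mul_left_cancel₀ hm0 ?_
  rw [Finset.mul_sum]
  simp only [← mul_assoc, ← hspec, Finset.sum_mul]
  rw [Finset.sum_comm]
  have key : ∀ b ∈ Finset.range m, ∑ j ∈ Finset.range m,
      (χ : G → ℂ) (σ ^ b) * tf ζ m j b * (ζ ^ a) ^ j = if a = b then (m : ℂ) * (χ : G → ℂ) (σ ^ a) else 0 := by
    intro b hb
    have hb' := Finset.mem_range.1 hb
    simp only [tf, mul_sub, sub_mul, mul_one, Finset.sum_sub_distrib, mul_assoc, ← Finset.mul_sum]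
    rw [geom_pow hζ, if_neg (Nat.not_dvd_of_pos_of_lt h0 ha), mul_zero, sub_zero]
    have hrot : ∀ j ∈ Finset.range m, rot ζ m j b * (ζ ^ a) ^ j = (ζ ^ (m - b + a)) ^ j := by
      intro j hj
      have hj' := Finset.mem_range.1 hj
      refine mul_right_cancel₀ (b := (ζ ^ b) ^ j)
        (pow_ne_zero _ (pow_ne_zero _ (hζ.ne_zero (by omega)))) ?_
      rw [← mul_pow, ← pow_add, show m - b + a + b = m + a by omega, pow_add, hζ.pow_eq_one, one_mul,
        mul_right_comm, ← pow_mul ζ b j, mul_comm b j, pow_mul ζ j b, rot_mul hζ hj'.le, one_mul]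
    rw [Finset.sum_congr rfl hrot, geom_pow hζ]
    by_cases hab : a = b
    · subst hab
      rw [if_pos rfl, if_pos (by rw [Nat.sub_add_cancel ha.le]), mul_comm]
    · rw [if_neg hab, if_neg ?_, mul_zero]
      rintro ⟨q, hq⟩
      rcases q with _ | _ | q
      · omega
      · omega
      · nlinarith [show m - b + a < 2 * m by omega]
  rw [Finset.sum_congr rfl key, Finset.sum_ite_eq, if_pos (Finset.mem_range.2 ha)]

theorem coef_one (h : Setting n P σ) (hζ : IsPrimitiveRoot ζ (2 ^ (n - 1))) {j : ℕ} (h0 : 0 < j)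
    (hj : j < 2 ^ (n - 1)) : coef σ ζ (2 ^ (n - 1)) j (BlockPrincipal81.oneChar G) = -1 := by
  have := coef_spec h hζ j (BlockPrincipal81.oneChar G)
  simp only [show ∀ g, (BlockPrincipal81.oneChar G : G → ℂ) g = 1 from fun _ => rfl, one_mul, tf,
    Finset.sum_sub_distrib, Finset.sum_const, Finset.card_range, nsmul_eq_mul, mul_one, rot] at this
  rw [geom_pow hζ, if_neg (Nat.not_dvd_of_pos_of_lt (by omega) (by omega))] at this
  have h2 := mul_left_cancel₀ (Nat.cast_ne_zero.2 (Nat.two_pow_pos _).ne')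
    (show ((2 ^ (n - 1) : ℕ) : ℂ) * (coef σ ζ (2 ^ (n - 1)) j (BlockPrincipal81.oneChar G) : ℂ) =
      ((2 ^ (n - 1) : ℕ) : ℂ) * ((-1 : ℤ) : ℂ) by rw [← this]; push_cast; ring)
  exact_mod_cast h2

/-- Column relation on rotations. -/
theorem column (hM : IsPModular 2 M) (h : Setting n P σ) {a b : ℕ} (hb0 : 0 < b)
    (hb : b < 2 ^ (n - 1)) (ha : a < 2 ^ (n - 1)) :
    ∑ χ ∈ BlockContribBounds.members (principalBlock M G),
        (χ : G → ℂ) (σ ^ a) * (χ : G → ℂ) (σ ^ b) =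
      (if b = a then ((2 ^ (n - 1) : ℕ) : ℂ) else 0) +
        (if b = 2 ^ (n - 1) - a then ((2 ^ (n - 1) : ℕ) : ℂ) else 0) := by
  haveI : Fact (Nat.Prime 2) := ⟨Nat.prime_two⟩
  obtain ⟨N, hN, hcard, hmem, hidx⟩ := complement h hb0 hb
  haveI := hN
  have hc := SectionComplement79.column N hM (pElem h b) hcard hmem (pElem h a)
  simp only [apply_real h] at hc
  rw [hc, hidx]
  have h2 := two_pow_eq h
  by_cases hab : b = a
  · subst hab
    rw [if_pos (IsConj.refl _)]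
    by_cases hh : b = 2 ^ (n - 2)
    · rw [if_pos hh, if_pos rfl, if_pos (by omega)]; push_cast; ring
    · rw [if_neg hh, if_pos rfl, if_neg (by omega), add_zero]
  · rw [if_neg hab, zero_add]
    by_cases hab' : b = 2 ^ (n - 1) - a
    · have hc' : IsConj (σ ^ a) (σ ^ b) := by
        rw [hab', pow_sub h ha.le]; exact conj_inv h a
      rw [if_pos hc', if_neg (by omega), if_pos hab']
    · rw [if_neg hab', if_neg fun hc' => ?_]
      rcases eq_or_inv_of_conj h hc' with e | e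
      · exact hab (pow_inj h hb ha e)
      · rw [← pow_sub h ha.le] at e
        rcases Nat.eq_zero_or_pos a with rfl | ha0
        · rw [Nat.sub_zero, ← h.order, pow_orderOf_eq_one] at e
          exact pow_ne_one h hb0 hb e
        · exact hab' (pow_inj h hb (by omega) e)

theorem gram (hM : IsPModular 2 M) (h : Setting n P σ) (hζ : IsPrimitiveRoot ζ (2 ^ (n - 1)))
    {i j : ℕ} (hi0 : 0 < i) (hi : i ≤ 2 ^ (n - 2)) (hj0 : 0 < j) (hj : j ≤ 2 ^ (n - 2)) :
    ∑ χ ∈ BlockContribBounds.members (principalBlock M G),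
        coef σ ζ (2 ^ (n - 1)) i χ * coef σ ζ (2 ^ (n - 1)) j χ =
      if i = j then (if i = 2 ^ (n - 2) then 4 else 3) else 2 := by
  have h2 := two_pow_eq h
  have hspec := coef_spec h hζ
  have hcol := @column G _ _ n P σ M hM h
  set m := 2 ^ (n - 1) with hm
  have hm0 : 0 < m := Nat.two_pow_pos _
  have hmC : (m : ℂ) ≠ 0 := Nat.cast_ne_zero.2 hm0.ne'
  have hzero : ∀ k, tf ζ m k 0 = 0 := fun k => by simp [tf, rot]
  have hneg : ∀ a, a < m → tf ζ m j (m - a) = (ζ ^ j) ^ a - 1 := by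
    intro a ha
    rw [tf]
    congr 1
    refine mul_right_cancel₀ (b := rot ζ m j a)
      (pow_ne_zero _ (pow_ne_zero _ (hζ.ne_zero hm0.ne'))) ?_
    rw [mul_comm ((ζ ^ j) ^ a), rot_mul hζ (by omega), rot, rot, ← pow_add, Nat.sub_add_cancel ha.le,
      ← pow_mul, mul_comm, pow_mul, hζ.pow_eq_one, one_pow]
  have key : (m : ℂ) * m * ((∑ χ ∈ BlockContribBounds.members (principalBlock M G),
      coef σ ζ m i χ * coef σ ζ m j χ : ℤ) : ℂ) =
      ∑ a ∈ Finset.range m, (m : ℂ) * (tf ζ m i a * (tf ζ m j a + ((ζ ^ j) ^ a - 1))) := by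
    push_cast
    rw [Finset.mul_sum]
    have e : ∀ χ : IrrCharacter G, (m : ℂ) * m * ((coef σ ζ m i χ : ℂ) * (coef σ ζ m j χ : ℂ)) =
        ∑ a ∈ Finset.range m, ∑ b ∈ Finset.range m,
          tf ζ m i a * tf ζ m j b * ((χ : G → ℂ) (σ ^ a) * (χ : G → ℂ) (σ ^ b)) := by
      intro χ
      rw [show (m : ℂ) * m * ((coef σ ζ m i χ : ℂ) * (coef σ ζ m j χ : ℂ)) =
        ((m : ℂ) * (coef σ ζ m i χ : ℂ)) * ((m : ℂ) * (coef σ ζ m j χ : ℂ)) by ring, ← hspec,
        ← hspec, Finset.sum_mul_sum]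
      exact Finset.sum_congr rfl fun a _ => Finset.sum_congr rfl fun b _ => by ring
    rw [Finset.sum_congr rfl fun χ _ => e χ, Finset.sum_comm]
    refine Finset.sum_congr rfl fun a ha => ?_
    have ha' := Finset.mem_range.1 ha
    rw [Finset.sum_comm]
    have e2 : ∀ b ∈ Finset.range m, ∑ χ ∈ BlockContribBounds.members (principalBlock M G),
        tf ζ m i a * tf ζ m j b * ((χ : G → ℂ) (σ ^ a) * (χ : G → ℂ) (σ ^ b)) =
        (if b = a then (m : ℂ) * (tf ζ m i a * tf ζ m j b) else 0) +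
          (if b = m - a then (m : ℂ) * (tf ζ m i a * tf ζ m j b) else 0) := by
      intro b hb
      rw [← Finset.mul_sum]
      rcases Nat.eq_zero_or_pos b with rfl | hb0
      · simp [hzero]
      · rw [hcol hb0 (Finset.mem_range.1 hb) ha']
        split_ifs <;> ring
    rw [Finset.sum_congr rfl e2, Finset.sum_add_distrib, Finset.sum_ite_eq', Finset.sum_ite_eq',
      if_pos ha]
    rcases Nat.eq_zero_or_pos a with rfl | ha0
    · simp [hzero]
    · rw [if_pos (Finset.mem_range.2 (by omega)), hneg a ha']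
      ring
  have hval : ∀ a, tf ζ m i a * (tf ζ m j a + ((ζ ^ j) ^ a - 1)) =
      (ζ ^ (m - i + (m - j))) ^ a + (ζ ^ (m - i + j)) ^ a - 2 * (ζ ^ (m - i)) ^ a
        - (ζ ^ (m - j)) ^ a - (ζ ^ j) ^ a + 2 := fun a => by
    simp only [tf, rot, pow_add, mul_pow]; ring
  rw [← Finset.mul_sum, mul_assoc] at key
  have key' := mul_left_cancel₀ hmC key
  simp only [hval, Finset.sum_add_distrib, Finset.sum_sub_distrib, ← Finset.mul_sum, geom_pow hζ,
    Finset.sum_const, Finset.card_range, nsmul_eq_mul] at key'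
  have d1 : (m ∣ m - i + (m - j)) ↔ (i = 2 ^ (n - 2) ∧ j = 2 ^ (n - 2)) := by
    refine ⟨fun ⟨q, hq⟩ => ?_, fun ⟨a, b⟩ => ⟨1, by omega⟩⟩
    rcases q with _ | _ | q
    · omega
    · omega
    · nlinarith [show m - i + (m - j) < 2 * m by omega]
  have d2 : (m ∣ m - i + j) ↔ i = j := by
    refine ⟨fun ⟨q, hq⟩ => ?_, fun a => ⟨1, by omega⟩⟩
    rcases q with _ | _ | q
    · omega
    · omega
    · nlinarith [show m - i + j < 2 * m by omega]
  have d3 : ∀ k, 0 < k → k < m → ¬ m ∣ k := fun k a b => Nat.not_dvd_of_pos_of_lt a b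
  rw [if_neg (d3 (m - i) (by omega) (by omega)), if_neg (d3 (m - j) (by omega) (by omega)),
    if_neg (d3 j hj0 (by omega))] at key'
  have goal' : ((∑ χ ∈ BlockContribBounds.members (principalBlock M G),
      coef σ ζ m i χ * coef σ ζ m j χ : ℤ) : ℂ) =
      (((if i = j then (if i = 2 ^ (n - 2) then 4 else 3) else 2) : ℤ) : ℂ) := by
    refine mul_left_cancel₀ hmC (key'.trans ?_)
    by_cases hij : i = j
    · subst hij
      rw [if_pos (d2.2 rfl)]
      by_cases hh : i = 2 ^ (n - 2)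
      · rw [if_pos (d1.2 ⟨hh, hh⟩), if_pos rfl, if_pos hh]; push_cast; ring
      · rw [if_neg fun e => hh (d1.1 e).1, if_pos rfl, if_neg hh]; push_cast; ring
    · rw [if_neg fun e => hij (d2.1 e), if_neg fun e => hij ((d1.1 e).1.trans (d1.1 e).2.symm),
        if_neg hij]
      push_cast; ring
  exact_mod_cast goal'

/-- Weak orthogonality against the coefficient vectors. -/
theorem regular_relation (hM : IsPModular 2 M) (h : Setting n P σ)
    (hζ : IsPrimitiveRoot ζ (2 ^ (n - 1))) {y : G} (hy : ¬ 2 ∣ orderOf y) (j : ℕ) :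
    ∑ χ ∈ BlockContribBounds.members (principalBlock M G),
      (coef σ ζ (2 ^ (n - 1)) j χ : ℂ) * (χ : G → ℂ) y = 0 := by
  refine mul_left_cancel₀ (Nat.cast_ne_zero.2 (Nat.two_pow_pos (n - 1)).ne' :
    ((2 ^ (n - 1) : ℕ) : ℂ) ≠ 0) ?_
  rw [mul_zero, Finset.mul_sum]
  simp only [← mul_assoc, ← coef_spec h hζ, Finset.sum_mul]
  rw [Finset.sum_comm]
  refine Finset.sum_eq_zero fun a ha => ?_
  have ha' := Finset.mem_range.1 ha
  rcases Nat.eq_zero_or_pos a with rfl | ha0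
  · simp [tf, rot]
  have hd : 2 ∣ orderOf (σ ^ a) := by
    obtain ⟨k, hk, e⟩ := order_pow h ha0 ha'
    rw [e]; exact dvd_pow_self 2 (by omega)
  have hw := weak_orthogonality hM BlockPrincipal81.isPBlock_principal
    (B := principalBlock M G) (x := y) (y := σ ^ a) hy hd
  rw [← Finset.sum_filter, BlockContribBounds.filter_eq_members] at hw
  simp only [apply_real h] at hw
  calc ∑ χ ∈ BlockContribBounds.members (principalBlock M G),
        (χ : G → ℂ) (σ ^ a) * tf ζ (2 ^ (n - 1)) j a * (χ : G → ℂ) y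
      = tf ζ (2 ^ (n - 1)) j a * ∑ χ ∈ BlockContribBounds.members (principalBlock M G),
          (χ : G → ℂ) y * (χ : G → ℂ) (σ ^ a) := by
        rw [Finset.mul_sum]; exact Finset.sum_congr rfl fun χ _ => by ring
    _ = 0 := by rw [hw, mul_zero]

/-- No member of the principal block vanishes on all nontrivial rotations. -/
theorem exists_ne_zero (hM : IsPModular 2 M) (h : Setting n P σ)
    (hζ : IsPrimitiveRoot ζ (2 ^ (n - 1))) {χ : IrrCharacter G} (hχ : χ ∈ principalBlock M G) :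
    ∃ j, 0 < j ∧ j ≤ 2 ^ (n - 2) ∧ coef σ ζ (2 ^ (n - 1)) j χ ≠ 0 := by
  by_contra hc
  push Not at hc
  have h2 := two_pow_eq h
  have hsymm := @coef_symm G _ _ n P σ ζ h hζ
  have hmult := mult_spec h hζ 0 χ
  have hval := @value_eq G _ _ n P σ ζ h hζ χ
  have hn := h.hn
  set m := 2 ^ (n - 1) with hm
  have hall : ∀ j, j < m → coef σ ζ m j χ = 0 := by
    intro j hj
    rcases Nat.eq_zero_or_pos j with rfl | hj0
    · simp [coef]
    by_cases hjh : j ≤ 2 ^ (n - 2)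
    · exact hc j hj0 hjh
    · rw [← hsymm hj.le χ]
      exact hc (m - j) (by omega) (by omega)
  rw [Finset.sum_eq_single 0 ?_ (fun h0 => absurd (Finset.mem_range.2 (Nat.two_pow_pos _)) h0)] at hmult
  swap
  · intro a ha ha0
    rw [hval (Nat.pos_of_ne_zero ha0) (Finset.mem_range.1 ha),
      Finset.sum_eq_zero fun j hj => by rw [hall j (Finset.mem_range.1 hj), Int.cast_zero, zero_mul],
      zero_mul]
  rw [pow_zero, rot, pow_zero, mul_one, CharAverage.irr_apply_one χ] at hmult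
  have hdvd : (m : ℤ) ∣ (charDegree (χ : G → ℂ) : ℤ) :=
    ⟨mult σ ζ m 0 χ, by exact_mod_cast hmult⟩
  have hv : n - 1 ≤ (charDegree (χ : G → ℂ)).factorization 2 :=
    (Nat.Prime.pow_dvd_iff_le_factorization Nat.prime_two (CharAverage.irr_degree_pos χ).ne').1
      (by exact_mod_cast hdvd)
  have h1 : minExp 2 (principalBlock M G) = 0 := by
    have := minExp_le (p := 2) (BlockPrincipal81.oneChar_mem (G := G) hM)
    simpa [BlockPrincipal81.oneChar, charDegree] using this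
  have hh : blockHeight 2 (principalBlock M G) (χ : G → ℂ) =
      (charDegree (χ : G → ℂ)).factorization 2 := by rw [blockHeight_eq, h1, Nat.sub_zero]
  have := BlockContribBounds.height_add_two_le hM BlockPrincipal81.isPBlock_principal hχ (by omega)
  have h3 : blockDefect 2 (principalBlock M G) ≤ n := by
    rw [← factorization_card h]; exact Nat.sub_le _ _
  omega

end Cfsg.Agent.DihedralBlock79
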