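import Mathlib
import Cfsg.Agent.Lib.DihedralBlock79

/-!
# The members of the principal 2-block for a dihedral Sylow 2-subgroup
-/

set_option autoImplicit false

open scoped ComplexConjugate

namespace Cfsg.Agent.DihedralBlockMain79

open Cfsg BlockTheoryLocalRing BlockTheoryCentre BlockTheoryIdem BlockContribPrime BlockContrib
  DihedralRotations79 DihedralBlock79

attribute [local instance] Classical.propDecidable

universe u

/-- Integer vectors of norms two and three (the last), meeting with product one, form a star. -/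
theorem exists_star {ι : Type*} [DecidableEq ι] (S : Finset ι) (c : ℕ → ι → ℤ) {h : ℕ} (hh : 2 ≤ h)
    (hh4 : h = 2 ∨ 4 ≤ h) (hnorm : ∀ j, 0 < j → j ≤ h →
      ∑ x ∈ S, c j x * c j x = if j = h then 3 else 2)
    (hinner : ∀ i j, 0 < i → i ≤ h → 0 < j → j ≤ h → i ≠ j → ∑ x ∈ S, c i x * c j x = 1)
    (hrel : ∀ w : ι → ℤ, (∀ j, 0 < j → j ≤ h → ∑ x ∈ S, c j x * w x = 1) → (∀ x ∈ S, 0 < w x) →
      ¬ (h = 4 ∧ ∃ A L₁ L₂ L₃ : ι, ∃ s t₁ t₂ t₃ : ℤ,
        (∑ x ∈ S, c 1 x * w x = s * w A + t₁ * w L₁) ∧ (∑ x ∈ S, c 2 x * w x = s * w A + t₂ * w L₂) ∧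
        (∑ x ∈ S, c 3 x * w x = s * w A + t₃ * w L₃) ∧
        (∑ x ∈ S, c 4 x * w x = t₁ * w L₁ + t₂ * w L₂ + t₃ * w L₃)))
    (w : ι → ℤ) (hw : ∀ j, 0 < j → j ≤ h → ∑ x ∈ S, c j x * w x = 1) (hwpos : ∀ x ∈ S, 0 < w x) :
    ∃ (A B C : ι) (L : ℕ → ι) (s : ℤ), (s = 1 ∨ s = -1) ∧ A ∈ S ∧ B ∈ S ∧ C ∈ S ∧ A ≠ B ∧ A ≠ C ∧
      B ≠ C ∧ c h A = s ∧ (c h B = 1 ∨ c h B = -1) ∧ (c h C = 1 ∨ c h C = -1) ∧
      (∀ x ∈ S, c h x ≠ 0 → x = A ∨ x = B ∨ x = C) ∧
      (∀ j, 0 < j → j < h → L j ∈ S ∧ L j ≠ A ∧ L j ≠ B ∧ L j ≠ C ∧ c j A = s ∧ c j (L j) = -s ∧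
        ∀ x ∈ S, c j x ≠ 0 → x = A ∨ x = L j) ∧
      (∀ i j, 0 < i → i < h → 0 < j → j < h → L i = L j → i = j) := by
  have hentry : ∀ j, 0 < j → j ≤ h → ∀ x ∈ S, c j x = 0 ∨ c j x = 1 ∨ c j x = -1 := by
    intro j h0 h1 x hx
    have h2 : c j x * c j x ≤ 3 := le_trans
      (Finset.single_le_sum (f := fun x => c j x * c j x) (fun y _ => mul_self_nonneg _) hx)
      (by rw [hnorm j h0 h1]; split_ifs <;> norm_num)
    have : -1 ≤ c j x ∧ c j x ≤ 1 := ⟨by nlinarith, by nlinarith⟩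
    omega
  let T : ℕ → Finset ι := fun j => S.filter fun x => c j x ≠ 0
  have hTmem : ∀ j x, x ∈ T j ↔ x ∈ S ∧ c j x ≠ 0 := fun j x => Finset.mem_filter
  have hsum : ∀ j (f : ι → ℤ), ∑ x ∈ S, c j x * f x = ∑ x ∈ T j, c j x * f x := fun j f =>
    (Finset.sum_subset (Finset.filter_subset _ _) fun x hx hn => by
      rw [not_not.1 fun h' => hn ((hTmem j x).2 ⟨hx, h'⟩), zero_mul]).symm
  have hpm : ∀ j, 0 < j → j ≤ h → ∀ x ∈ T j, c j x = 1 ∨ c j x = -1 := fun j h0 h1 x hx =>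
    (hentry j h0 h1 x ((hTmem j x).1 hx).1).resolve_left ((hTmem j x).1 hx).2
  have hTcard : ∀ j, 0 < j → j ≤ h → (T j).card = if j = h then 3 else 2 := by
    intro j h0 h1
    have h3 := hnorm j h0 h1
    rw [hsum, Finset.sum_congr rfl (g := fun _ => (1 : ℤ)) fun x hx => by
      rcases hpm j h0 h1 x hx with e | e <;> rw [e] <;> norm_num, Finset.sum_const, nsmul_one] at h3
    split_ifs at h3 ⊢ <;> exact_mod_cast h3
  have hcap : ∀ i j, 0 < i → i < h → 0 < j → j ≤ h → i ≠ j →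
      ∃ x, T i ∩ T j = {x} ∧ c i x = c j x := by
    intro i j i0 i1 j0 j1 hne
    have h3 := hinner i j i0 i1.le j0 j1 hne
    rw [hsum] at h3
    rw [← Finset.sum_subset (Finset.inter_subset_left (s₂ := T j)) fun x hx hn => ?_] at h3
    swap
    · have h4 : c j x = 0 := not_not.1 fun h4 => hn (Finset.mem_inter.2
        ⟨hx, (hTmem j x).2 ⟨((hTmem i x).1 hx).1, h4⟩⟩)
      rw [h4, mul_zero]
    have hle : (T i ∩ T j).card ≤ 2 := le_trans (Finset.card_le_card Finset.inter_subset_left)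
      (by rw [hTcard i i0 i1.le, if_neg i1.ne])
    have hprod : ∀ x ∈ T i ∩ T j, c i x * c j x = 1 ∨ c i x * c j x = -1 := by
      intro x hx
      rw [Finset.mem_inter] at hx
      rcases hpm i i0 i1.le x hx.1 with e | e <;> rcases hpm j j0 j1 x hx.2 with e' | e' <;>
        simp [e, e']
    obtain h0 | h1 | h2 : (T i ∩ T j).card = 0 ∨ (T i ∩ T j).card = 1 ∨ (T i ∩ T j).card = 2 := by omega
    · rw [Finset.card_eq_zero.1 h0] at h3; simp at h3
    · obtain ⟨x, hx⟩ := Finset.card_eq_one.1 h1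
      refine ⟨x, hx, ?_⟩
      rw [hx, Finset.sum_singleton] at h3
      have hxT : x ∈ T i ∩ T j := by rw [hx]; exact Finset.mem_singleton_self x
      rw [Finset.mem_inter] at hxT
      rcases hpm i i0 i1.le x hxT.1 with e | e <;> rcases hpm j j0 j1 x hxT.2 with e' | e' <;>
        simp [e, e'] at h3 ⊢
    · obtain ⟨x, y, hxy, hT⟩ := Finset.card_eq_two.1 h2
      rw [hT, Finset.sum_pair hxy] at h3
      have p1 := hprod x (by rw [hT]; simp)
      have p2 := hprod y (by rw [hT]; simp)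
      omega
  -- the centre of the star
  obtain ⟨A, hA, hAT⟩ : ∃ A, (∀ j, 0 < j → j < h → A ∈ T j) ∧ (h = 2 → A ∈ T h) := by
    rcases hh4 with e | e
    · obtain ⟨x, hx, -⟩ := hcap 1 h one_pos (by omega) (by omega) le_rfl (by omega)
      have hx' := Finset.mem_inter.1 (show x ∈ T 1 ∩ T h by rw [hx]; exact Finset.mem_singleton_self x)
      refine ⟨x, fun j j0 j1 => ?_, fun _ => hx'.2⟩
      rw [show j = 1 by omega]; exact hx'.1
    · obtain ⟨A, hA12, -⟩ := hcap 1 2 one_pos (by omega) two_pos (by omega) (by norm_num)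
      refine ⟨A, fun k k0 k1 => ?_, fun e' => by omega⟩
      have hA' := Finset.mem_inter.1 (show A ∈ T 1 ∩ T 2 by rw [hA12]; exact Finset.mem_singleton_self A)
      by_cases k1' : k = 1
      · rw [k1']; exact hA'.1
      by_cases k2' : k = 2
      · rw [k2']; exact hA'.2
      by_contra hAk
      -- a triangle
      obtain ⟨B, hB, -⟩ := hcap 1 k one_pos (by omega) k0 k1.le (Ne.symm k1')
      obtain ⟨C, hC, -⟩ := hcap 2 k two_pos (by omega) k0 k1.le (Ne.symm k2')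
      obtain ⟨U, hU, -⟩ := hcap 1 h one_pos (by omega) (by omega) le_rfl (by omega)
      obtain ⟨V, hV, -⟩ := hcap 2 h two_pos (by omega) (by omega) le_rfl (by omega)
      obtain ⟨W, hW, -⟩ := hcap k h k0 k1 (by omega) le_rfl (by omega)
      have hB' := Finset.mem_inter.1 (show B ∈ T 1 ∩ T k by rw [hB]; exact Finset.mem_singleton_self B)
      have hC' := Finset.mem_inter.1 (show C ∈ T 2 ∩ T k by rw [hC]; exact Finset.mem_singleton_self C)
      have hAB : A ≠ B := fun e => hAk (e ▸ hB'.2)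
      have hAC : A ≠ C := fun e => hAk (e ▸ hC'.2)
      have hBC : B ≠ C := fun e => by
        have : B ∈ T 1 ∩ T 2 := Finset.mem_inter.2 ⟨hB'.1, e ▸ hC'.1⟩
        rw [hA12, Finset.mem_singleton] at this
        exact hAB this.symm
      have two : ∀ j, 0 < j → j < h → ∀ x y, x ∈ T j → y ∈ T j → x ≠ y → T j = {x, y} := by
        intro j j0 j1 x y hx hy hxy
        refine (Finset.eq_of_subset_of_card_le (fun z hz => ?_) ?_).symm
        · rcases Finset.mem_insert.1 hz with rfl | hz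
          · exact hx
          · rw [Finset.mem_singleton.1 hz]; exact hy
        · rw [hTcard j j0 j1.le, if_neg j1.ne, Finset.card_pair hxy]
      have T1 := two 1 one_pos (by omega) A B hA'.1 hB'.1 hAB
      have T2 := two 2 two_pos (by omega) A C hA'.2 hC'.1 hAC
      have Tk := two k k0 k1 B C hB'.2 hC'.2 hBC
      have one : ∀ (x y z : ι), x ≠ y → ({x, y} : Finset ι) ∩ T h = {z} → (x ∈ T h ↔ y ∉ T h) := by
        intro x y z hxy he
        constructor
        · intro hx hy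
          have h1 : x ∈ ({x, y} : Finset ι) ∩ T h := Finset.mem_inter.2 ⟨by simp, hx⟩
          have h2 : y ∈ ({x, y} : Finset ι) ∩ T h := Finset.mem_inter.2 ⟨by simp, hy⟩
          rw [he, Finset.mem_singleton] at h1 h2
          exact hxy (h1.trans h2.symm)
        · intro hy
          have hz := Finset.mem_inter.1 (show z ∈ ({x, y} : Finset ι) ∩ T h by
            rw [he]; exact Finset.mem_singleton_self z)
          rcases Finset.mem_insert.1 hz.1 with e | e
          · exact e ▸ hz.2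
          · exact absurd ((Finset.mem_singleton.1 e) ▸ hz.2) hy
      rw [T1] at hU
      rw [T2] at hV
      rw [Tk] at hW
      have q1 := one A B U hAB hU
      have q2 := one A C V hAC hV
      have q3 := one B C W hBC hW
      tauto
  -- leaves
  have hleaf : ∀ j, 0 < j → j < h → ∃ L, L ≠ A ∧ T j = {A, L} := by
    intro j j0 j1
    have h2 := hTcard j j0 j1.le
    rw [if_neg j1.ne] at h2
    obtain ⟨x, y, hxy, hT⟩ := Finset.card_eq_two.1 h2
    have := hA j j0 j1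
    rw [hT, Finset.mem_insert, Finset.mem_singleton] at this
    rcases this with rfl | rfl
    · exact ⟨y, hxy.symm, hT⟩
    · exact ⟨x, hxy, hT.trans (Finset.pair_comm _ _)⟩
  have hchoice : ∀ j, ∃ L, 0 < j → j < h → L ≠ A ∧ T j = {A, L} := fun j => by
    by_cases hj : 0 < j ∧ j < h
    · obtain ⟨L, hL⟩ := hleaf j hj.1 hj.2
      exact ⟨L, fun _ _ => hL⟩
    · exact ⟨A, fun a b => absurd ⟨a, b⟩ hj⟩
  choose L hL using hchoice
  have hinj : ∀ i j, 0 < i → i < h → 0 < j → j < h → L i = L j → i = j := by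
    intro i j i0 i1 j0 j1 e
    by_contra hne
    obtain ⟨x, hx, -⟩ := hcap i j i0 i1 j0 j1.le hne
    rw [(hL i i0 i1).2, (hL j j0 j1).2, e, Finset.inter_self] at hx
    have : ({A, L j} : Finset ι).card = 1 := by rw [hx, Finset.card_singleton]
    rw [Finset.card_pair (hL j j0 j1).1.symm] at this
    omega
  have hsA : ∀ j, 0 < j → j < h → c j A = c 1 A := by
    intro j j0 j1
    by_cases e : j = 1
    · rw [e]
    obtain ⟨x, hx, hxe⟩ := hcap 1 j one_pos (by omega) j0 j1.le (Ne.symm e)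
    have : A ∈ T 1 ∩ T j := Finset.mem_inter.2 ⟨hA 1 one_pos (by omega), hA j j0 j1⟩
    rw [hx, Finset.mem_singleton] at this
    rw [this, hxe]
  have hval : ∀ j, 0 < j → j < h → c j A * w A + c j (L j) * w (L j) = 1 ∧ L j ∈ S := by
    intro j j0 j1
    obtain ⟨hne, hT⟩ := hL j j0 j1
    have h3 := hw j j0 j1.le
    rw [hsum, hT, Finset.sum_pair hne.symm] at h3
    exact ⟨h3, ((hTmem j _).1 (show L j ∈ T j by rw [hT]; simp)).1⟩
  have hs : c 1 A = 1 ∨ c 1 A = -1 := hpm 1 one_pos (by omega) A (hA 1 one_pos (by omega))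
  have hAS : A ∈ S := ((hTmem 1 A).1 (hA 1 one_pos (by omega))).1
  have hneg : ∀ j, 0 < j → j < h → c j (L j) = - c 1 A := by
    intro j j0 j1
    obtain ⟨h3, hLS⟩ := hval j j0 j1
    rw [hsA j j0 j1] at h3
    have hLT : L j ∈ T j := by rw [(hL j j0 j1).2]; simp
    have w1 := hwpos A hAS
    have w2 := hwpos _ hLS
    rcases hs with e | e <;> rcases hpm j j0 j1.le _ hLT with e' | e' <;>
      rw [e, e'] at h3 ⊢ <;> omega
  have hAh : A ∈ T h := by
    rcases hh4 with e | e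
    · exact hAT e
    by_contra hAh
    have hLh : ∀ j, 0 < j → j < h → L j ∈ T h ∧ c h (L j) = c j (L j) := by
      intro j j0 j1
      obtain ⟨x, hx, hxe⟩ := hcap j h j0 j1 (by omega) le_rfl (by omega)
      have hx' := Finset.mem_inter.1 (show x ∈ T j ∩ T h by rw [hx]; exact Finset.mem_singleton_self x)
      have hxL : x = L j := by
        have := hx'.1
        rw [(hL j j0 j1).2, Finset.mem_insert, Finset.mem_singleton] at this
        rcases this with rfl | h'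
        · exact absurd hx'.2 hAh
        · exact h'
      subst hxL
      exact ⟨hx'.2, hxe.symm⟩
    have hsub : (Finset.Icc 1 (h - 1)).image L ⊆ T h := by
      intro x hx
      obtain ⟨j, hj, rfl⟩ := Finset.mem_image.1 hx
      rw [Finset.mem_Icc] at hj
      exact (hLh j (by omega) (by omega)).1
    have himg : ((Finset.Icc 1 (h - 1)).image L).card = h - 1 := by
      rw [Finset.card_image_of_injOn]
      · rw [Nat.card_Icc]; omega
      · intro i hi j hj hij
        rw [Finset.coe_Icc, Set.mem_Icc] at hi hj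
        exact hinj i j (by omega) (by omega) (by omega) (by omega) hij
    have hle := Finset.card_le_card hsub
    rw [himg, hTcard h (by omega) le_rfl, if_pos rfl] at hle
    have hh4' : h = 4 := by omega
    subst hh4'
    refine hrel w hw hwpos ⟨rfl, A, L 1, L 2, L 3, c 1 A, c 1 (L 1), c 2 (L 2), c 3 (L 3), ?_, ?_, ?_, ?_⟩
    · rw [hsum, (hL 1 (by norm_num) (by norm_num)).2, Finset.sum_pair (hL 1 (by norm_num) (by norm_num)).1.symm]
    · rw [hsum, (hL 2 (by norm_num) (by norm_num)).2, Finset.sum_pair (hL 2 (by norm_num) (by norm_num)).1.symm,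
        hsA 2 (by norm_num) (by norm_num)]
    · rw [hsum, (hL 3 (by norm_num) (by norm_num)).2, Finset.sum_pair (hL 3 (by norm_num) (by norm_num)).1.symm,
        hsA 3 (by norm_num) (by norm_num)]
    · have h12 : L 1 ≠ L 2 := fun e => by
        have := hinj 1 2 (by norm_num) (by norm_num) (by norm_num) (by norm_num) e; omega
      have h13 : L 1 ≠ L 3 := fun e => by
        have := hinj 1 3 (by norm_num) (by norm_num) (by norm_num) (by norm_num) e; omega
      have h23 : L 2 ≠ L 3 := fun e => by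
        have := hinj 2 3 (by norm_num) (by norm_num) (by norm_num) (by norm_num) e; omega
      have hT4 : ({L 1, L 2, L 3} : Finset ι) = T 4 := by
        refine Finset.eq_of_subset_of_card_le (fun x hx => ?_) ?_
        · simp only [Finset.mem_insert, Finset.mem_singleton] at hx
          rcases hx with rfl | rfl | rfl
          · exact (hLh 1 (by norm_num) (by norm_num)).1
          · exact (hLh 2 (by norm_num) (by norm_num)).1
          · exact (hLh 3 (by norm_num) (by norm_num)).1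
        · rw [hTcard 4 (by norm_num) le_rfl, if_pos rfl, Finset.card_eq_three.2 ⟨_, _, _, h12, h13, h23, rfl⟩]
      rw [hsum, ← hT4, Finset.sum_insert (by simp [h12, h13]), Finset.sum_pair h23,
        (hLh 1 (by norm_num) (by norm_num)).2, (hLh 2 (by norm_num) (by norm_num)).2,
        (hLh 3 (by norm_num) (by norm_num)).2]
      ring
  have hch : c h A = c 1 A := by
    obtain ⟨x, hx, hxe⟩ := hcap 1 h one_pos (by omega) (by omega) le_rfl (by omega)
    have : A ∈ T 1 ∩ T h := Finset.mem_inter.2 ⟨hA 1 one_pos (by omega), hAh⟩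
    rw [hx, Finset.mem_singleton] at this
    rw [this, hxe]
  have hTh := hTcard h (by omega) le_rfl
  rw [if_pos rfl] at hTh
  obtain ⟨B, C, hBC, hBCT⟩ := Finset.card_eq_two.1
    (show ((T h).erase A).card = 2 by rw [Finset.card_erase_of_mem hAh, hTh])
  have hB : B ≠ A ∧ B ∈ T h := Finset.mem_erase.1 (by rw [hBCT]; simp)
  have hC : C ≠ A ∧ C ∈ T h := Finset.mem_erase.1 (by rw [hBCT]; simp)
  have hLne : ∀ j, 0 < j → j < h → L j ∉ T h := by
    intro j j0 j1 hm
    obtain ⟨x, hx, -⟩ := hcap j h j0 j1 (by omega) le_rfl (by omega)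
    have a1 : A ∈ T j ∩ T h := Finset.mem_inter.2 ⟨hA j j0 j1, hAh⟩
    have a2 : L j ∈ T j ∩ T h := Finset.mem_inter.2 ⟨by rw [(hL j j0 j1).2]; simp, hm⟩
    rw [hx, Finset.mem_singleton] at a1 a2
    exact (hL j j0 j1).1 (a2.trans a1.symm)
  refine ⟨A, B, C, L, c 1 A, hs, hAS, ((hTmem h B).1 hB.2).1, ((hTmem h C).1 hC.2).1, hB.1.symm,
    hC.1.symm, hBC, hch, hpm h (by omega) le_rfl B hB.2, hpm h (by omega) le_rfl C hC.2, ?_, ?_, hinj⟩
  · intro x hx hne
    by_cases hxA : x = A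
    · exact Or.inl hxA
    have : x ∈ (T h).erase A := Finset.mem_erase.2 ⟨hxA, (hTmem h x).2 ⟨hx, hne⟩⟩
    rw [hBCT, Finset.mem_insert, Finset.mem_singleton] at this
    exact Or.inr this
  · intro j j0 j1
    refine ⟨(hval j j0 j1).2, (hL j j0 j1).1, fun e => hLne j j0 j1 (e ▸ hB.2),
      fun e => hLne j j0 j1 (e ▸ hC.2), hsA j j0 j1, hneg j j0 j1, fun x hx hne => ?_⟩
    have : x ∈ T j := (hTmem j x).2 ⟨hx, hne⟩
    rwa [(hL j j0 j1).2, Finset.mem_insert, Finset.mem_singleton] at this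

variable {G : Type u} [Group G] [Fintype G] {n : ℕ} {P : Sylow 2 G} {σ : G} {M : Ideal AlgInt}
  {ζ : ℂ}

theorem value_const (h : Setting n P σ) (hζ : IsPrimitiveRoot ζ (2 ^ (n - 1))) (χ : IrrCharacter G)
    (e : ℤ) (hc : ∀ j, 0 < j → j ≤ 2 ^ (n - 2) → coef σ ζ (2 ^ (n - 1)) j χ = e) {a : ℕ} (h0 : 0 < a)
    (ha : a < 2 ^ (n - 1)) : (χ : G → ℂ) (σ ^ a) = ((-e : ℤ) : ℂ) := by
  have h2 := two_pow_eq h
  rw [value_eq h hζ χ h0 ha]
  have hall : ∀ j ∈ Finset.range (2 ^ (n - 1)),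
      (coef σ ζ (2 ^ (n - 1)) j χ : ℂ) * (ζ ^ a) ^ j =
        (e : ℂ) * (ζ ^ a) ^ j - if j = 0 then (e : ℂ) else 0 := by
    intro j hj
    have hj' := Finset.mem_range.1 hj
    rcases Nat.eq_zero_or_pos j with rfl | hj0
    · simp [coef]
    rw [if_neg hj0.ne', sub_zero]
    by_cases hjh : j ≤ 2 ^ (n - 2)
    · rw [hc j hj0 hjh]
    · rw [← coef_symm h hζ hj'.le χ, hc _ (by omega) (by omega)]
  rw [Finset.sum_congr rfl hall, Finset.sum_sub_distrib, ← Finset.mul_sum, geom_pow hζ,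
    if_neg (Nat.not_dvd_of_pos_of_lt h0 ha), Finset.sum_ite_eq', if_pos (Finset.mem_range.2 (by omega))]
  push_cast; ring

theorem value_half (h : Setting n P σ) (hζ : IsPrimitiveRoot ζ (2 ^ (n - 1))) (χ : IrrCharacter G)
    (e : ℤ) (hc : ∀ j, 0 < j → j ≤ 2 ^ (n - 2) →
      coef σ ζ (2 ^ (n - 1)) j χ = if j = 2 ^ (n - 2) then e else 0) {a : ℕ} (h0 : 0 < a)
    (ha : a < 2 ^ (n - 1)) : (χ : G → ℂ) (σ ^ a) = (e : ℂ) * (-1) ^ a := by
  have h2 := two_pow_eq h
  have hneg : ζ ^ 2 ^ (n - 2) = -1 := by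
    have hp := hζ.pow (Nat.two_pow_pos _) (show 2 ^ (n - 1) = 2 ^ (n - 2) * 2 by omega)
    exact hp.eq_neg_one_of_two_right
  rw [value_eq h hζ χ h0 ha]
  rw [Finset.sum_eq_single (2 ^ (n - 2))]
  · rw [hc _ (Nat.two_pow_pos _) le_rfl, if_pos rfl, ← pow_mul, mul_comm a, pow_mul, hneg]
  · intro j hj hne
    have hj' := Finset.mem_range.1 hj
    rcases Nat.eq_zero_or_pos j with rfl | hj0
    · simp [coef]
    by_cases hjh : j ≤ 2 ^ (n - 2)
    · rw [hc j hj0 hjh, if_neg hne, Int.cast_zero, zero_mul]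
    · rw [← coef_symm h hζ hj'.le χ, hc _ (by omega) (by omega), if_neg (by omega), Int.cast_zero,
        zero_mul]
  · intro hn'; exact absurd (Finset.mem_range.2 (by have := Nat.two_pow_pos (n - 2); omega)) hn'

theorem value_pair (h : Setting n P σ) (hζ : IsPrimitiveRoot ζ (2 ^ (n - 1))) (χ : IrrCharacter G)
    (e : ℤ) {k : ℕ} (hk0 : 0 < k) (hk : k < 2 ^ (n - 2)) (hc : ∀ j, 0 < j → j ≤ 2 ^ (n - 2) →
      coef σ ζ (2 ^ (n - 1)) j χ = if j = k then e else 0) {a : ℕ} (h0 : 0 < a)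
    (ha : a < 2 ^ (n - 1)) :
    (χ : G → ℂ) (σ ^ a) = (e : ℂ) * (ζ ^ (k * a) + (ζ ^ (k * a))⁻¹) := by
  have h2 := two_pow_eq h
  rw [value_eq h hζ χ h0 ha]
  have hne : k ≠ 2 ^ (n - 1) - k := by omega
  rw [← Finset.sum_subset (s₁ := ({k, 2 ^ (n - 1) - k} : Finset ℕ))]
  · rw [Finset.sum_pair hne, coef_symm h hζ (by omega) χ, hc k hk0 hk.le, if_pos rfl, mul_add]
    congr 1
    · rw [← pow_mul, mul_comm a]
    · congr 1
      refine eq_inv_of_mul_eq_one_left ?_
      rw [← pow_mul, ← pow_add, show a * (2 ^ (n - 1) - k) + k * a = 2 ^ (n - 1) * a by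
        rw [Nat.mul_comm k a, ← Nat.mul_add, Nat.sub_add_cancel (by omega), Nat.mul_comm],
        pow_mul, hζ.pow_eq_one, one_pow]
  · intro j hj
    simp only [Finset.mem_insert, Finset.mem_singleton] at hj
    exact Finset.mem_range.2 (by omega)
  · intro j hj hne'
    simp only [Finset.mem_insert, Finset.mem_singleton] at hne'
    have hj' := Finset.mem_range.1 hj
    rcases Nat.eq_zero_or_pos j with rfl | hj0
    · simp [coef]
    by_cases hjh : j ≤ 2 ^ (n - 2)
    · rw [hc j hj0 hjh, if_neg (by omega), Int.cast_zero, zero_mul]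
    · rw [← coef_symm h hζ hj'.le χ, hc _ (by omega) (by omega), if_neg (by omega), Int.cast_zero,
        zero_mul]

/-- Counting the members of the block. -/
theorem card_members_star {ι : Type*} (T : Set ι) (o A B C : ι) {k : ℕ} (f : Fin k → ι)
    (hf : Function.Injective f) (hoA : o ≠ A) (hoB : o ≠ B) (hoC : o ≠ C) (hAB : A ≠ B) (hAC : A ≠ C)
    (hBC : B ≠ C) (hd : ∀ j, f j ≠ o ∧ f j ≠ A ∧ f j ≠ B ∧ f j ≠ C)
    (hT : T = insert o (insert A (insert B (insert C (Set.range f))))) :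
    Nat.card T = 4 + k := by
  have hr : (Set.range f).ncard = k := by
    rw [Set.ncard_range_of_injective hf, Nat.card_fin]
  have fin := Set.finite_range f
  have nC : C ∉ Set.range f := fun ⟨j, e⟩ => (hd j).2.2.2 e
  have nB : B ∉ insert C (Set.range f) := by
    rintro (e | ⟨j, e⟩)
    · exact hBC e
    · exact (hd j).2.2.1 e
  have nA : A ∉ insert B (insert C (Set.range f)) := by
    rintro (e | e | ⟨j, e⟩)
    · exact hAB e
    · exact hAC e
    · exact (hd j).2.1 e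
  have no : o ∉ insert A (insert B (insert C (Set.range f))) := by
    rintro (e | e | e | ⟨j, e⟩)
    · exact hoA e
    · exact hoB e
    · exact hoC e
    · exact (hd j).1 e
  rw [Nat.card_coe_set_eq, hT, Set.ncard_insert_of_notMem no (((fin.insert C).insert B).insert A),
    Set.ncard_insert_of_notMem nA ((fin.insert C).insert B), Set.ncard_insert_of_notMem nB (fin.insert C),
    Set.ncard_insert_of_notMem nC fin, hr]
  omega

set_option maxHeartbeats 1600000 in
theorem main (hM : IsPModular 2 M) (h : Setting n P σ) (hζ : IsPrimitiveRoot ζ (2 ^ (n - 1))) :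
    Nat.card (Cfsg.principalBlock M G) = 3 + 2 ^ (n - 2) ∧ ∃ (χ₁ χ₂ χ₃ : Cfsg.IrrCharacter G)
      (χ' : Fin (2 ^ (n - 2) - 1) → Cfsg.IrrCharacter G) (δ₁ δ₂ δ₃ : ℤ), (δ₁ = 1 ∨ δ₁ = -1) ∧
      (δ₂ = 1 ∨ δ₂ = -1) ∧ (δ₃ = 1 ∨ δ₃ = -1) ∧ Function.Injective χ' ∧
      (χ₁ : G → ℂ) ≠ (fun _ => 1) ∧ (χ₂ : G → ℂ) ≠ (fun _ => 1) ∧ (χ₃ : G → ℂ) ≠ (fun _ => 1) ∧
      χ₁ ≠ χ₂ ∧ χ₁ ≠ χ₃ ∧ χ₂ ≠ χ₃ ∧
      (∀ j, χ' j ≠ χ₁ ∧ χ' j ≠ χ₂ ∧ χ' j ≠ χ₃ ∧ (χ' j : G → ℂ) ≠ (fun _ => 1)) ∧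
      Cfsg.principalBlock M G = {χ : Cfsg.IrrCharacter G |
        (χ : G → ℂ) = (fun _ => 1) ∨ χ = χ₁ ∨ χ = χ₂ ∨ χ = χ₃ ∨ ∃ j, χ = χ' j} ∧
      (∀ l : ℕ, 0 < l → l < 2 ^ (n - 1) → (χ₁ : G → ℂ) (σ ^ l) = δ₁ ∧
        (χ₂ : G → ℂ) (σ ^ l) = δ₂ * (-1) ^ (l + 1) ∧ (χ₃ : G → ℂ) (σ ^ l) = δ₃ * (-1) ^ (l + 1) ∧
        ∀ j : Fin (2 ^ (n - 2) - 1), (χ' j : G → ℂ) (σ ^ l) =
          δ₁ * (ζ ^ (((j : ℕ) + 1) * l) + (ζ ^ (((j : ℕ) + 1) * l))⁻¹)) ∧
      ∀ ρ : G, Odd (orderOf ρ) → ∀ j : Fin (2 ^ (n - 2) - 1),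
        1 + δ₁ * (χ₁ : G → ℂ) ρ = -δ₂ * (χ₂ : G → ℂ) ρ - δ₃ * (χ₃ : G → ℂ) ρ ∧
        1 + δ₁ * (χ₁ : G → ℂ) ρ = δ₁ * (χ' j : G → ℂ) ρ := by
  have hm2 := two_pow_eq h
  have hh2 : 2 ≤ 2 ^ (n - 2) := by
    calc (2 : ℕ) = 2 ^ 1 := rfl
      _ ≤ _ := Nat.pow_le_pow_right (by norm_num) (by have := h.hn; omega)
  have hh4 : 2 ^ (n - 2) = 2 ∨ 4 ≤ 2 ^ (n - 2) := by
    by_cases hn3 : n = 3
    · left; rw [hn3]; rfl
    · right
      calc (4 : ℕ) = 2 ^ 2 := rfl
        _ ≤ _ := Nat.pow_le_pow_right (by norm_num) (by have := h.hn; omega)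
  set one := BlockPrincipal81.oneChar G with hone
  set Mem := BlockContribBounds.members (principalBlock M G) with hMem
  set S := Mem.erase one with hS
  set c : ℕ → IrrCharacter G → ℤ := fun j χ => coef σ ζ (2 ^ (n - 1)) j χ with hcdef
  have h1M : one ∈ Mem := BlockContribBounds.mem_members.2 (BlockPrincipal81.oneChar_mem hM)
  have hc1 : ∀ j, 0 < j → j ≤ 2 ^ (n - 2) → c j one = -1 := fun j j0 j1 => coef_one h hζ j0 (by omega)
  have hprod : ∀ i j, 0 < i → i ≤ 2 ^ (n - 2) → 0 < j → j ≤ 2 ^ (n - 2) → ∑ x ∈ S, c i x * c j x =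
      (if i = j then (if i = 2 ^ (n - 2) then 4 else 3) else 2) - 1 := by
    intro i j i0 i1 j0 j1
    have := gram hM h hζ i0 i1 j0 j1
    rw [← hMem, ← Finset.add_sum_erase _ _ h1M, ← hS] at this
    have e := hc1 i i0 i1
    have e' := hc1 j j0 j1
    simp only [hcdef] at e e' ⊢
    rw [e, e'] at this
    linarith
  have hreg : ∀ (y : G), ¬ 2 ∣ orderOf y → ∀ j, 0 < j → j ≤ 2 ^ (n - 2) →
      ∑ x ∈ S, (c j x : ℂ) * (x : G → ℂ) y = 1 := by
    intro y hy j j0 j1
    have := regular_relation hM h hζ hy j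
    rw [← hMem, ← Finset.add_sum_erase _ _ h1M, ← hS] at this
    have e := hc1 j j0 j1
    simp only [hcdef] at e ⊢
    rw [e, show (one : G → ℂ) y = 1 from rfl] at this
    push_cast at this
    linear_combination this
  have hdeg : ∀ j, 0 < j → j ≤ 2 ^ (n - 2) →
      ∑ x ∈ S, c j x * ((charDegree (x : G → ℂ) : ℕ) : ℤ) = 1 := by
    intro j j0 j1
    have := hreg 1 (by simp) j j0 j1
    simp only [CharAverage.irr_apply_one] at this
    exact_mod_cast this
  obtain ⟨A, B, C, L, s, hs, hAS, hBS, hCS, hAB, hAC, hBC, hhA, hhB, hhC, hsupp, hL, hinj⟩ :=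
    exists_star S c hh2 hh4
      (fun j j0 j1 => by rw [hprod j j j0 j1 j0 j1, if_pos rfl]; split_ifs <;> norm_num)
      (fun i j i0 i1 j0 j1 hne => by rw [hprod i j i0 i1 j0 j1, if_neg hne]; norm_num)
      (fun w hw _ ⟨h4, A, L₁, L₂, L₃, s, t₁, t₂, t₃, e1, e2, e3, e4⟩ => by
        rw [hw 1 (by norm_num) (by omega)] at e1
        rw [hw 2 (by norm_num) (by omega)] at e2
        rw [hw 3 (by norm_num) (by omega)] at e3
        rw [hw 4 (by norm_num) (by omega)] at e4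
        omega)
      (fun x => ((charDegree (x : G → ℂ) : ℕ) : ℤ)) hdeg
      (fun x _ => by exact_mod_cast CharAverage.irr_degree_pos x)
  have hne1 : ∀ x ∈ S, (x : G → ℂ) ≠ (fun _ => 1) := fun x hx e =>
    Finset.ne_of_mem_erase hx (Subtype.ext e)
  have hSB : ∀ x ∈ S, x ∈ principalBlock M G := fun x hx =>
    BlockContribBounds.mem_members.1 (Finset.mem_of_mem_erase hx)
  have hcases : ∀ x, x ∈ principalBlock M G →
      x = one ∨ x = A ∨ x = B ∨ x = C ∨ ∃ j, 0 < j ∧ j < 2 ^ (n - 2) ∧ x = L j := by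
    intro x hx
    by_cases hx1 : x = one
    · exact Or.inl hx1
    have hxS : x ∈ S := Finset.mem_erase.2 ⟨hx1, BlockContribBounds.mem_members.2 hx⟩
    obtain ⟨j, j0, j1, hne⟩ := exists_ne_zero hM h hζ hx
    rcases eq_or_lt_of_le j1 with e | hlt
    · subst e
      rcases hsupp x hxS hne with e | e | e
      · exact Or.inr (Or.inl e)
      · exact Or.inr (Or.inr (Or.inl e))
      · exact Or.inr (Or.inr (Or.inr (Or.inl e)))
    · rcases (hL j j0 hlt).2.2.2.2.2.2 x hxS hne with e | e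
      · exact Or.inr (Or.inl e)
      · exact Or.inr (Or.inr (Or.inr (Or.inr ⟨j, j0, hlt, e⟩)))
  let χ' : Fin (2 ^ (n - 2) - 1) → IrrCharacter G := fun j => L ((j : ℕ) + 1)
  have hL' : ∀ j : Fin (2 ^ (n - 2) - 1), 0 < (j : ℕ) + 1 ∧ (j : ℕ) + 1 < 2 ^ (n - 2) := fun j =>
    ⟨by omega, by omega⟩
  have hχ'inj : Function.Injective χ' := fun i j e => Fin.ext (by
    have := hinj _ _ (hL' i).1 (hL' i).2 (hL' j).1 (hL' j).2 e; omega)
  have hBh : ∀ x ∈ ({B, C} : Finset (IrrCharacter G)), ∀ j, 0 < j → j ≤ 2 ^ (n - 2) →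
      c j x = if j = 2 ^ (n - 2) then c (2 ^ (n - 2)) x else 0 := by
    intro x hx j j0 j1
    split_ifs with e
    · rw [e]
    by_contra hne
    rw [Finset.mem_insert, Finset.mem_singleton] at hx
    obtain ⟨-, -, hLB, hLC, -, -, hsp⟩ := hL j j0 (by omega)
    rcases hx with rfl | rfl
    · rcases hsp x hBS hne with e' | e'
      · exact hAB e'.symm
      · exact hLB e'.symm
    · rcases hsp x hCS hne with e' | e'
      · exact hAC e'.symm
      · exact hLC e'.symm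
  have hA : ∀ j, 0 < j → j ≤ 2 ^ (n - 2) → c j A = s := by
    intro j j0 j1
    rcases eq_or_lt_of_le j1 with e | hlt
    · rw [e]; exact hhA
    · exact (hL j j0 hlt).2.2.2.2.1
  have hLc : ∀ k, 0 < k → k < 2 ^ (n - 2) → ∀ j, 0 < j → j ≤ 2 ^ (n - 2) →
      c j (L k) = if j = k then -s else 0 := by
    intro k k0 k1 j j0 j1
    obtain ⟨hkS, hkA, hkB, hkC, -, hkv, -⟩ := hL k k0 k1
    split_ifs with e
    · rw [e]; exact hkv
    by_contra hne
    rcases eq_or_lt_of_le j1 with e' | hlt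
    · subst e'
      rcases hsupp (L k) hkS hne with e' | e' | e' <;> contradiction
    · rcases (hL j j0 hlt).2.2.2.2.2.2 _ hkS hne with e' | e'
      · exact hkA e'
      · exact e (hinj j k j0 hlt k0 k1 e'.symm)
  have hset : Cfsg.principalBlock M G = {χ : Cfsg.IrrCharacter G |
      (χ : G → ℂ) = (fun _ => 1) ∨ χ = A ∨ χ = B ∨ χ = C ∨ ∃ j, χ = χ' j} := by
    ext x
    simp only [Set.mem_setOf_eq]
    constructor
    · intro hx
      rcases hcases x hx with e | e | e | e | ⟨j, j0, j1, e⟩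
      · exact Or.inl (by rw [e]; rfl)
      · exact Or.inr (Or.inl e)
      · exact Or.inr (Or.inr (Or.inl e))
      · exact Or.inr (Or.inr (Or.inr (Or.inl e)))
      · exact Or.inr (Or.inr (Or.inr (Or.inr ⟨⟨j - 1, by omega⟩, by
          show x = L (j - 1 + 1); rw [Nat.sub_add_cancel j0]; exact e⟩)))
    · rintro (e | rfl | rfl | rfl | ⟨j, rfl⟩)
      · rw [show x = one from Subtype.ext e]; exact BlockPrincipal81.oneChar_mem hM
      · exact hSB _ hAS
      · exact hSB _ hBS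
      · exact hSB _ hCS
      · exact hSB _ (hL _ (hL' j).1 (hL' j).2).1
  refine ⟨?_, A, B, C, χ', -s, -c (2 ^ (n - 2)) B, -c (2 ^ (n - 2)) C, by omega, by omega, by omega,
    hχ'inj, hne1 A hAS, hne1 B hBS, hne1 C hCS, hAB, hAC, hBC,
    fun j => ?_, hset, fun l l0 l1 => ⟨?_, ?_, ?_, fun j => ?_⟩, fun ρ hρ j => ?_⟩
  · have hno : ∀ x ∈ S, one ≠ x := fun x hx => (Finset.ne_of_mem_erase hx).symm
    have hd : ∀ j, χ' j ≠ one ∧ χ' j ≠ A ∧ χ' j ≠ B ∧ χ' j ≠ C := by
      intro j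
      obtain ⟨hjS, hjA, hjB, hjC, -⟩ := hL _ (hL' j).1 (hL' j).2
      exact ⟨(hno _ hjS).symm, hjA, hjB, hjC⟩
    rw [card_members_star _ one A B C χ' hχ'inj (hno A hAS) (hno B hBS) (hno C hCS) hAB hAC hBC hd
      (hset.trans (Set.ext fun x => ?_))]
    · omega
    refine ⟨?_, ?_⟩
    · rintro (e | e | e | e | ⟨j, e⟩)
      · exact Or.inl (Subtype.ext e)
      · exact Or.inr (Or.inl e)
      · exact Or.inr (Or.inr (Or.inl e))
      · exact Or.inr (Or.inr (Or.inr (Or.inl e)))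
      · exact Or.inr (Or.inr (Or.inr (Or.inr ⟨j, e.symm⟩)))
    · rintro (e | e | e | e | ⟨j, e⟩)
      · exact Or.inl (by rw [e]; rfl)
      · exact Or.inr (Or.inl e)
      · exact Or.inr (Or.inr (Or.inl e))
      · exact Or.inr (Or.inr (Or.inr (Or.inl e)))
      · exact Or.inr (Or.inr (Or.inr (Or.inr ⟨j, e.symm⟩)))
  · obtain ⟨hjS, hjA, hjB, hjC, -⟩ := hL _ (hL' j).1 (hL' j).2
    exact ⟨hjA, hjB, hjC, hne1 _ hjS⟩
  · rw [value_const h hζ A s hA l0 l1]
  · rw [value_half h hζ B _ (hBh B (by simp)) l0 l1, pow_succ]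
    push_cast; ring
  · rw [value_half h hζ C _ (hBh C (by simp)) l0 l1, pow_succ]
    push_cast; ring
  · exact value_pair h hζ _ (-s) (hL' j).1 (hL' j).2 (hLc _ (hL' j).1 (hL' j).2) l0 l1
  · have hy : ¬ 2 ∣ orderOf ρ := fun hd => (Nat.not_even_iff_odd.2 hρ) (even_iff_two_dvd.2 hd)
    have e1 := hreg ρ hy (2 ^ (n - 2)) (by omega) le_rfl
    rw [← Finset.sum_subset (s₁ := ({A, B, C} : Finset (IrrCharacter G))) (fun x hx => by
        simp only [Finset.mem_insert, Finset.mem_singleton] at hx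
        rcases hx with rfl | rfl | rfl <;> assumption) (fun x hx hne => by
        have : c (2 ^ (n - 2)) x = 0 := by
          by_contra hc'
          exact hne (by simpa using hsupp x hx hc')
        rw [this, Int.cast_zero, zero_mul]),
      Finset.sum_insert (by simp [hAB, hAC]), Finset.sum_pair hBC, hhA] at e1
    obtain ⟨hjS, hjA, hjB, hjC, hjs, hjv, hjsp⟩ := hL _ (hL' j).1 (hL' j).2
    have e2 := hreg ρ hy _ (hL' j).1 (hL' j).2.le
    rw [← Finset.sum_subset (s₁ := ({A, L ((j : ℕ) + 1)} : Finset (IrrCharacter G))) (fun x hx => by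
        simp only [Finset.mem_insert, Finset.mem_singleton] at hx
        rcases hx with rfl | rfl <;> assumption) (fun x hx hne => by
        have : c ((j : ℕ) + 1) x = 0 := by
          by_contra hc'
          exact hne (by simpa using hjsp x hx hc')
        rw [this, Int.cast_zero, zero_mul]),
      Finset.sum_pair hjA.symm, hjs, hjv] at e2
    refine ⟨?_, ?_⟩
    · push_cast; linear_combination -e1
    · push_cast at e2 ⊢; linear_combination -e2

end Cfsg.Agent.DihedralBlockMain79
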