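import Mathlib

/-!
# Pairs of involutions over a quotient by an odd normal subgroup that is dihedral

`C` has a normal subgroup `N` of odd order, consisting of all the elements of odd order, with
`C ⧸ N` dihedral of order `4 h`, generated by the images of `s` and `t`; `J = s ^ h` is central.
-/

set_option autoImplicit false

namespace Cfsg.Agent.DihedralPairs79

attribute [local instance] Classical.propDecidable

universe u

variable {C : Type u} [Group C] [Fintype C] {N : Subgroup C} [N.Normal]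

/-- A dihedral quotient with a lifted pair of generators. -/
structure Quot (N : Subgroup C) (h : ℕ) (s t : C) : Prop where
  two_le : 2 ≤ h
  order : orderOf s = 2 * h
  tt : t * t = 1
  rel : t * s * t⁻¹ = s⁻¹
  central : ∀ c : C, c * s ^ h = s ^ h * c
  odd : ¬ 2 ∣ Nat.card N
  mem : ∀ y, y ∈ N ↔ ¬ 2 ∣ orderOf y
  index : N.index = 4 * h
  pow : ∃ k, 2 * h = 2 ^ k

/-- The number of involutions of a coset. -/
noncomputable def invCount (k : C ⧸ N) : ℕ :=
  (Finset.univ.filter fun u : C => orderOf u = 2 ∧ (u : C ⧸ N) = k).card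

/-- Ordered pairs of involutions of `C` with product in a given coset. -/
noncomputable def pairCount (N : Subgroup C) (x : C) : ℕ :=
  ∑ z ∈ Finset.univ.filter (fun z : C => (z : C ⧸ N) = (x : C ⧸ N)),
    (Finset.univ.filter fun u : C => orderOf u = 2 ∧ orderOf (u * z) = 2).card

variable {h : ℕ} {s t : C}

theorem mul_self_of_two {u : C} (hu : orderOf u = 2) : u * u = 1 := by
  rw [← pow_two, ← hu, pow_orderOf_eq_one]

theorem pairCount_eq (x : C) :
    pairCount N x = ∑ k : C ⧸ N, invCount k * invCount (k⁻¹ * (x : C ⧸ N)) := by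
  have h1 : ∀ k : C ⧸ N, invCount k * invCount (k⁻¹ * (x : C ⧸ N)) =
      ∑ u ∈ Finset.univ.filter (fun u : C => orderOf u = 2 ∧ (u : C ⧸ N) = k),
        invCount ((u : C ⧸ N)⁻¹ * (x : C ⧸ N)) := by
    intro k
    rw [Finset.sum_congr rfl (g := fun _ => invCount (k⁻¹ * (x : C ⧸ N))) fun u hu => by
      rw [(Finset.mem_filter.1 hu).2.2], Finset.sum_const, smul_eq_mul]
    rfl
  have h2 : ∑ k : C ⧸ N, invCount k * invCount (k⁻¹ * (x : C ⧸ N)) =
      ∑ u ∈ Finset.univ.filter (fun u : C => orderOf u = 2),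
        invCount ((u : C ⧸ N)⁻¹ * (x : C ⧸ N)) := by
    rw [Finset.sum_congr rfl fun k _ => h1 k,
      ← Finset.sum_fiberwise (Finset.univ.filter fun u : C => orderOf u = 2) (fun u : C => (u : C ⧸ N))
        (fun u => invCount ((u : C ⧸ N)⁻¹ * (x : C ⧸ N)))]
    exact Finset.sum_congr rfl fun k _ => Finset.sum_congr (by rw [Finset.filter_filter]) fun u _ => rfl
  rw [h2, pairCount]
  simp only [Finset.card_filter]
  rw [Finset.sum_comm, Finset.sum_filter]
  refine Finset.sum_congr rfl fun u _ => ?_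
  split_ifs with hu
  · rw [invCount, Finset.card_filter, Finset.sum_filter]
    refine Fintype.sum_equiv (Equiv.mulLeft u) _ _ fun z => ?_
    have key : (u : C ⧸ N) * (z : C ⧸ N) = (u : C ⧸ N)⁻¹ * (x : C ⧸ N) ↔
        (z : C ⧸ N) = (x : C ⧸ N) := by
      rw [← QuotientGroup.mk_inv, inv_eq_of_mul_eq_one_right (mul_self_of_two hu), mul_right_inj]
    simp only [Equiv.coe_mulLeft, QuotientGroup.mk_mul, key]
    by_cases hz : (z : C ⧸ N) = (x : C ⧸ N) <;> by_cases hu2 : orderOf (u * z) = 2 <;>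
      simp [hu, hz, hu2]
  · exact Finset.sum_eq_zero fun z _ => by rw [if_neg fun e => hu e.1]

theorem invCount_conj (c : C) (k : C ⧸ N) :
    invCount ((c : C ⧸ N) * k * (c : C ⧸ N)⁻¹) = invCount k := by
  refine Finset.card_nbij' (fun u => c⁻¹ * u * c) (fun u => c * u * c⁻¹) ?_ ?_ ?_ ?_
  · intro u hu
    simp only [Finset.coe_filter, Finset.mem_univ, true_and, Set.mem_setOf_eq] at hu ⊢
    refine ⟨?_, ?_⟩
    · rw [show c⁻¹ * u * c = MulAut.conj c⁻¹ u by simp, MulEquiv.orderOf_eq, hu.1]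
    · rw [QuotientGroup.mk_mul, QuotientGroup.mk_mul, hu.2, QuotientGroup.mk_inv]; group
  · intro u hu
    simp only [Finset.coe_filter, Finset.mem_univ, true_and, Set.mem_setOf_eq] at hu ⊢
    refine ⟨?_, ?_⟩
    · rw [show c * u * c⁻¹ = MulAut.conj c u by simp, MulEquiv.orderOf_eq, hu.1]
    · rw [QuotientGroup.mk_mul, QuotientGroup.mk_mul, hu.2, QuotientGroup.mk_inv]
  · intro u _; group
  · intro u _; group

theorem pow_two_h (H : Quot N h s t) : s ^ (2 * h) = 1 := by rw [← H.order, pow_orderOf_eq_one]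

theorem inv_J (H : Quot N h s t) : (s ^ h)⁻¹ = s ^ h :=
  inv_eq_of_mul_eq_one_right (by rw [← pow_add, ← two_mul, pow_two_h H])

theorem J_ne_one (H : Quot N h s t) : s ^ h ≠ 1 := fun e => by
  have := Nat.le_of_dvd (by have := H.two_le; omega) (orderOf_dvd_of_pow_eq_one e)
  rw [H.order] at this
  have := H.two_le
  omega

theorem orderOf_J (H : Quot N h s t) : orderOf (s ^ h) = 2 :=
  orderOf_eq_prime (by rw [← pow_mul, mul_comm, pow_two_h H]) (J_ne_one H)

theorem pow_mul_t (H : Quot N h s t) (a : ℕ) : s ^ a * t = t * (s ^ a)⁻¹ := by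
  have h1 : t * s ^ a * t⁻¹ = (s ^ a)⁻¹ := by rw [← conj_pow, H.rel, inv_pow]
  have h2 : t⁻¹ = t := inv_eq_of_mul_eq_one_right H.tt
  rw [← h1]
  calc s ^ a * t = t * t * s ^ a * t := by rw [H.tt, one_mul]
    _ = t * (t * s ^ a * t⁻¹) := by rw [h2]; group

theorem refl_sq (H : Quot N h s t) (i : ℕ) : t * s ^ i * (t * s ^ i) = 1 := by
  calc t * s ^ i * (t * s ^ i) = t * (s ^ i * t) * s ^ i := by group
    _ = 1 := by rw [pow_mul_t H, ← mul_assoc t t, H.tt, one_mul, inv_mul_cancel]

theorem refl_mul (H : Quot N h s t) (i a : ℕ) : (t * s ^ i)⁻¹ * s ^ a = t * s ^ (i + a) := by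
  rw [inv_eq_of_mul_eq_one_right (refl_sq H i), pow_add, mul_assoc]

theorem not_mem_pow (H : Quot N h s t) {a : ℕ} (h0 : 0 < a) (ha : a < 2 * h) : s ^ a ∉ N := by
  intro hm
  obtain ⟨k, hk⟩ := H.pow
  obtain ⟨j, -, hj⟩ := (Nat.dvd_prime_pow Nat.prime_two).1
    (show orderOf (s ^ a) ∣ 2 ^ k by rw [← hk, ← H.order]; exact orderOf_pow_dvd a)
  refine (H.mem _).1 hm ?_
  rw [hj]
  refine dvd_pow_self 2 fun e => ?_
  have h1 := orderOf_eq_one_iff.1 (show orderOf (s ^ a) = 1 by rw [hj, e, pow_zero])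
  have h2 := Nat.le_of_dvd h0 (H.order ▸ orderOf_dvd_of_pow_eq_one h1)
  omega

theorem rot_inj (H : Quot N h s t) {a b : ℕ} (ha : a < 2 * h) (hb : b < 2 * h)
    (e : ((s ^ a : C) : C ⧸ N) = ((s ^ b : C) : C ⧸ N)) : a = b := by
  wlog hab : a ≤ b generalizing a b
  · exact (this hb ha e.symm (le_of_not_ge hab)).symm
  by_contra hne
  refine not_mem_pow H (show 0 < b - a by omega) (by omega) ?_
  rw [QuotientGroup.eq] at e
  rwa [show s ^ (b - a) = (s ^ a)⁻¹ * s ^ b by
    rw [eq_inv_mul_iff_mul_eq, ← pow_add, Nat.add_sub_cancel' hab]]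

theorem refl_ne_rot (H : Quot N h s t) (i j : ℕ) :
    ((t * s ^ i : C) : C ⧸ N) ≠ ((s ^ j : C) : C ⧸ N) := by
  intro e
  have h1 : (t : C ⧸ N) = ((s ^ j * (s ^ i)⁻¹ : C) : C ⧸ N) := by
    rw [QuotientGroup.mk_mul, ← e, QuotientGroup.mk_mul, QuotientGroup.mk_inv, mul_inv_cancel_right]
  have h2 : ((t * s * t⁻¹ : C) : C ⧸ N) = (s : C ⧸ N) := by
    have hcm : Commute (s ^ j * (s ^ i)⁻¹) s :=
      (Commute.pow_self s j).mul_left (Commute.pow_self s i).inv_left
    rw [QuotientGroup.mk_mul, QuotientGroup.mk_mul, QuotientGroup.mk_inv, h1, ← QuotientGroup.mk_inv,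
      ← QuotientGroup.mk_mul, ← QuotientGroup.mk_mul, hcm.eq, mul_inv_cancel_right]
  rw [H.rel, QuotientGroup.eq, inv_inv, ← pow_two] at h2
  exact not_mem_pow H two_pos (by have := H.two_le; omega) h2

/-- The parametrisation of the quotient. -/
def cosetOf (N : Subgroup C) (h : ℕ) (s t : C) : Fin (2 * h) ⊕ Fin (2 * h) → C ⧸ N :=
  Sum.elim (fun i => ((s ^ (i : ℕ) : C) : C ⧸ N)) (fun i => ((t * s ^ (i : ℕ) : C) : C ⧸ N))

theorem cosetOf_bij (H : Quot N h s t) : Function.Bijective (cosetOf N h s t) := by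
  have hinj : Function.Injective (cosetOf N h s t) := by
    rintro (i | i) (j | j) e
    · exact congrArg Sum.inl (Fin.ext (rot_inj H i.2 j.2 e))
    · exact absurd e.symm (refl_ne_rot H j i)
    · exact absurd e (refl_ne_rot H i j)
    · refine congrArg Sum.inr (Fin.ext (rot_inj H i.2 j.2 (mul_left_cancel (a := (t : C ⧸ N)) ?_)))
      simpa [cosetOf, QuotientGroup.mk_mul] using e
  refine (Fintype.bijective_iff_injective_and_card _).2 ⟨hinj, ?_⟩
  rw [Fintype.card_sum, Fintype.card_fin, ← Nat.card_eq_fintype_card,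
    show Nat.card (C ⧸ N) = N.index from rfl, H.index]
  omega

theorem invCount_one (H : Quot N h s t) : invCount ((1 : C) : C ⧸ N) = 0 := by
  rw [invCount, Finset.card_eq_zero, Finset.filter_eq_empty_iff]
  rintro u - ⟨hu, hu'⟩
  rw [QuotientGroup.mk_one, QuotientGroup.eq_one_iff, H.mem, hu] at hu'
  exact hu' dvd_rfl

theorem eq_J_of_coset (H : Quot N h s t) {u : C} (hu : u * u = 1)
    (e : (u : C ⧸ N) = ((s ^ h : C) : C ⧸ N)) : u = s ^ h := by
  rw [QuotientGroup.eq] at e
  set n := u⁻¹ * s ^ h with hn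
  have h1 : n * n = 1 := by
    have hu' : u⁻¹ = u := inv_eq_of_mul_eq_one_right hu
    rw [hn, hu']
    calc u * s ^ h * (u * s ^ h) = u * (s ^ h * u) * s ^ h := by group
      _ = u * (u * s ^ h) * s ^ h := by rw [H.central u]
      _ = (u * u) * (s ^ h * s ^ h) := by group
      _ = 1 := by rw [hu, ← pow_add, ← two_mul, pow_two_h H, one_mul]
  have h2 : n = 1 := by
    by_contra hne
    have : orderOf n = 2 := orderOf_eq_prime (by rw [pow_two, h1]) hne
    exact (H.mem n).1 e (by rw [this])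
  exact inv_mul_eq_one.1 (hn ▸ h2)

theorem invCount_rot (H : Quot N h s t) {i : ℕ} (hi : i < 2 * h) :
    invCount ((s ^ i : C) : C ⧸ N) = if i = h then 1 else 0 := by
  split_ifs with hih
  · subst hih
    rw [invCount, Finset.card_eq_one]
    refine ⟨s ^ i, Finset.ext fun u => ?_⟩
    simp only [Finset.mem_filter, Finset.mem_univ, true_and, Finset.mem_singleton]
    refine ⟨fun e => eq_J_of_coset H (mul_self_of_two e.1) e.2, fun e => ?_⟩
    subst e
    exact ⟨orderOf_J H, rfl⟩
  · rcases Nat.eq_zero_or_pos i with rfl | hi0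
    · rw [pow_zero]; exact invCount_one H
    rw [invCount, Finset.card_eq_zero, Finset.filter_eq_empty_iff]
    rintro u - ⟨hu, hu'⟩
    have h1 : ((s ^ (2 * i % (2 * h)) : C) : C ⧸ N) = ((s ^ 0 : C) : C ⧸ N) := by
      rw [← H.order, pow_mod_orderOf, two_mul, pow_add, QuotientGroup.mk_mul, ← hu', ← QuotientGroup.mk_mul,
        mul_self_of_two hu, pow_zero]
    have h2 := rot_inj H (Nat.mod_lt _ (by omega)) (by omega) h1
    by_cases hlt : i < h
    · rw [Nat.mod_eq_of_lt (by omega)] at h2; omega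
    · rw [Nat.mod_eq_sub_mod (by omega), Nat.mod_eq_of_lt (by omega)] at h2; omega

theorem invCount_refl_step (H : Quot N h s t) (i : ℕ) :
    invCount ((t * s ^ (i + 2) : C) : C ⧸ N) = invCount ((t * s ^ i : C) : C ⧸ N) := by
  rw [← invCount_conj s⁻¹ ((t * s ^ i : C) : C ⧸ N)]
  congr 1
  rw [← QuotientGroup.mk_inv, ← QuotientGroup.mk_mul, ← QuotientGroup.mk_mul, inv_inv]
  congr 1
  have h1 := pow_mul_t H 1
  rw [pow_one] at h1
  have h2 : s⁻¹ * t = t * s := by
    rw [inv_mul_eq_iff_eq_mul, ← mul_assoc, h1, inv_mul_cancel_right]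
  rw [← mul_assoc, h2, pow_add, pow_two]
  simp only [mul_assoc]
  rw [← mul_assoc s (s ^ i), ← pow_succ', ← mul_assoc (s ^ i) s, ← pow_succ]

theorem invCount_refl (H : Quot N h s t) (i : ℕ) :
    invCount ((t * s ^ i : C) : C ⧸ N) =
      if Even i then invCount (t : C ⧸ N) else invCount ((t * s : C) : C ⧸ N) := by
  induction i using Nat.twoStepInduction with
  | zero => simp
  | one => simp
  | more i ih _ => rw [invCount_refl_step H, ih]; simp [Nat.even_add]

theorem sum_alternate (f : ℕ → ℕ) (x y : ℕ) (hf : ∀ i, f i = if Even i then x else y) (k : ℕ) :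
    ∑ i ∈ Finset.range (2 * k), f i = k * (x + y) := by
  induction k with
  | zero => simp
  | succ k ih =>
    rw [show 2 * (k + 1) = 2 * k + 1 + 1 by ring, Finset.sum_range_succ, Finset.sum_range_succ, ih,
      hf, hf, if_pos (even_two_mul k), if_neg (Nat.not_even_iff_odd.2 (odd_two_mul_add_one k))]
    ring

theorem pairCount_rot (H : Quot N h s t) (a : ℕ) (ha : a = 1 ∨ a = h) :
    pairCount N (s ^ a) = ∑ i ∈ Finset.range (2 * h),
      invCount ((t * s ^ i : C) : C ⧸ N) * invCount ((t * s ^ (i + a) : C) : C ⧸ N) := by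
  rw [pairCount_eq, ← Fintype.sum_equiv (Equiv.ofBijective _ (cosetOf_bij H))
    (fun k => invCount (cosetOf N h s t k) *
      invCount ((cosetOf N h s t k)⁻¹ * ((s ^ a : C) : C ⧸ N))) _ (fun k => rfl),
    Fintype.sum_sum_type]
  simp only [cosetOf, Sum.elim_inl, Sum.elim_inr, ← QuotientGroup.mk_inv, ← QuotientGroup.mk_mul]
  rw [Finset.sum_eq_zero, zero_add, Finset.sum_range]
  · simp only [refl_mul H]
  intro i _
  rw [invCount_rot H i.2]
  split_ifs with hih
  · rw [hih, inv_J H, ← pow_add, one_mul]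
    rcases ha with rfl | rfl
    · rw [invCount_rot H (by have := H.two_le; omega), if_neg (by omega)]
    · rw [← two_mul, pow_two_h H]; exact invCount_one H
  · rw [zero_mul]

/-- Ordered pairs of involutions with product in the cosets of `s` or of `J`. -/
theorem pairCount_add (H : Quot N h s t) (hev : Even h) :
    pairCount N s + pairCount N (s ^ h) =
      h * (invCount (t : C ⧸ N) + invCount ((t * s : C) : C ⧸ N)) ^ 2 := by
  conv_lhs => rw [← pow_one s]
  rw [pairCount_rot H 1 (Or.inl rfl), pow_one, pairCount_rot H h (Or.inr rfl)]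
  set A := invCount (t : C ⧸ N)
  set B := invCount ((t * s : C) : C ⧸ N)
  rw [sum_alternate _ (A * B) (A * B) (fun i => ?_), sum_alternate _ (A * A) (B * B) (fun i => ?_)]
  · ring
  · rw [invCount_refl H i, invCount_refl H (i + h)]
    by_cases he : Even i <;> simp [he, hev, Nat.even_add, A, B]
  · rw [invCount_refl H i, invCount_refl H (i + 1)]
    by_cases he : Even i <;> simp [he, Nat.even_add_one, A, B, mul_comm]

/-- The involutions of the coset of an involution. -/
theorem invCount_mul_card (H : Quot N h s t) {r : C} (hr : r * r = 1) (hrN : r ∉ N) :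
    invCount (r : C ⧸ N) * Nat.card (N ⊓ Subgroup.centralizer ({r} : Set C) : Subgroup C) =
      Nat.card N := by
  have hr' : r⁻¹ = r := inv_eq_of_mul_eq_one_right hr
  set T := Finset.univ.filter fun u : C => orderOf u = 2 ∧ (u : C ⧸ N) = (r : C ⧸ N) with hT
  have hmap : ∀ d : N, ((d : C) * r * (d : C)⁻¹) ∈ T := by
    intro d
    rw [hT, Finset.mem_filter]
    refine ⟨Finset.mem_univ _, ?_, ?_⟩
    · rw [show (d : C) * r * (d : C)⁻¹ = MulAut.conj (d : C) r by simp, MulEquiv.orderOf_eq]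
      exact orderOf_eq_prime (by rw [pow_two, hr]) fun e => hrN (e ▸ one_mem N)
    · rw [QuotientGroup.mk_mul, QuotientGroup.mk_mul, QuotientGroup.mk_inv,
        (QuotientGroup.eq_one_iff (d : C)).2 d.2]
      simp
  obtain ⟨l, hl⟩ : ∃ l, Nat.card N = 2 * l + 1 :=
    Nat.not_even_iff_odd.1 fun e => H.odd (even_iff_two_dvd.1 e)
  have hfib : ∀ u ∈ T, (Finset.univ.filter fun d : N => (d : C) * r * (d : C)⁻¹ = u).card =
      Nat.card (N ⊓ Subgroup.centralizer ({r} : Set C) : Subgroup C) := by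
    intro u hu
    rw [hT, Finset.mem_filter] at hu
    obtain ⟨-, hu2, hue⟩ := hu
    have hn : r * u ∈ N := by
      have := QuotientGroup.eq.1 hue.symm
      rwa [hr'] at this
    -- a square root in `⟨r u⟩` conjugates `r` to `u`
    set n := r * u with hndef
    have hpow : n ^ (2 * l + 1) = 1 := by
      have := congrArg (Subgroup.subtype N) (pow_card_eq_one' (x := (⟨n, hn⟩ : N)))
      rw [map_pow, map_one, hl] at this
      exact this
    have hrn : r * n * r⁻¹ = n⁻¹ := by
      rw [hndef, mul_inv_rev, inv_eq_of_mul_eq_one_right (mul_self_of_two hu2), ← mul_assoc, hr,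
        one_mul]
    set k := n ^ (l + 1) with hk
    have hkk : k * k = n := by
      rw [hk, ← pow_add, show l + 1 + (l + 1) = 2 * l + 1 + 1 by ring, pow_succ, hpow, one_mul]
    have hrk : r * k * r⁻¹ = k⁻¹ := by rw [hk, ← conj_pow, hrn, inv_pow]
    have hu' : k⁻¹ * r * k = u := by
      rw [show u = r * n by rw [hndef, ← mul_assoc, hr, one_mul], ← hkk, ← mul_assoc r, ← hrk]
      group
    have hkN : k ∈ N := hk ▸ pow_mem hn _
    rw [Nat.card_eq_fintype_card, ← Finset.card_univ]
    refine Finset.card_bij (fun d hd => ⟨k * (d : C), Subgroup.mem_inf.2 ⟨mul_mem hkN d.2, ?_⟩⟩)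
      (fun d hd => Finset.mem_univ _) ?_ ?_
    · rw [Finset.mem_filter] at hd
      rw [Subgroup.mem_centralizer_singleton_iff]
      calc k * (d : C) * r = k * ((d : C) * r * (d : C)⁻¹) * (d : C) := by group
        _ = k * (k⁻¹ * r * k) * (d : C) := by rw [hd.2, hu']
        _ = r * (k * (d : C)) := by group
    · intro d _ d' _ e
      exact Subtype.ext (mul_left_cancel (congrArg Subtype.val e))
    · intro c _
      refine ⟨⟨k⁻¹ * (c : C), mul_mem (inv_mem hkN) (Subgroup.mem_inf.1 c.2).1⟩, ?_, Subtype.ext ?_⟩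
      · rw [Finset.mem_filter]
        refine ⟨Finset.mem_univ _, ?_⟩
        have hc := Subgroup.mem_centralizer_singleton_iff.1 (Subgroup.mem_inf.1 c.2).2
        show k⁻¹ * (c : C) * r * (k⁻¹ * (c : C))⁻¹ = u
        rw [← hu', mul_inv_rev, inv_inv]
        calc k⁻¹ * (c : C) * r * ((c : C)⁻¹ * k) = k⁻¹ * ((c : C) * r) * (c : C)⁻¹ * k := by group
          _ = _ := by rw [hc]; group
      · show k * (k⁻¹ * (c : C)) = c
        exact mul_inv_cancel_left _ _
  have hsum := Finset.card_eq_sum_card_fiberwise (s := (Finset.univ : Finset N)) (t := T)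
    (f := fun d : N => (d : C) * r * (d : C)⁻¹) (fun d _ => hmap d)
  rw [Finset.sum_congr rfl hfib, Finset.sum_const, smul_eq_mul, Finset.card_univ,
    ← Nat.card_eq_fintype_card] at hsum
  exact hsum.symm

/-- The centraliser of a reflection has index structure `4` over its odd part. -/
theorem card_centralizer_refl (H : Quot N h s t) (i : ℕ) :
    Nat.card (Subgroup.centralizer ({t * s ^ i} : Set C)) =
      4 * Nat.card (N ⊓ Subgroup.centralizer ({t * s ^ i} : Set C) : Subgroup C) := by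
  set r := t * s ^ i with hrdef
  set Cr := Subgroup.centralizer ({r} : Set C) with hCr
  let f : Cr →* C ⧸ N := (QuotientGroup.mk' N).comp Cr.subtype
  have hJmem : s ^ h ∈ Cr := Subgroup.mem_centralizer_singleton_iff.2 (H.central r).symm
  have hrmem : r ∈ Cr := Subgroup.mem_centralizer_singleton_iff.2 rfl
  have hker : Nat.card f.ker = Nat.card (N ⊓ Cr : Subgroup C) := by
    refine Nat.card_congr ⟨fun y => ⟨(y : Cr), Subgroup.mem_inf.2 ⟨?_, (y : Cr).2⟩⟩,
      fun y => ⟨⟨y, (Subgroup.mem_inf.1 y.2).2⟩, ?_⟩, fun y => rfl, fun y => rfl⟩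
    · exact (QuotientGroup.eq_one_iff _).1 (MonoidHom.mem_ker.1 y.2)
    · exact MonoidHom.mem_ker.2 ((QuotientGroup.eq_one_iff _).2 (Subgroup.mem_inf.1 y.2).1)
  have hrange : Nat.card f.range = 4 := by
    have hset : (f.range : Set (C ⧸ N)) = ({((s ^ 0 : C) : C ⧸ N), ((s ^ h : C) : C ⧸ N),
        ((t * s ^ i : C) : C ⧸ N), ((t * s ^ (i + h) : C) : C ⧸ N)} : Finset (C ⧸ N)) := by
      ext k
      rw [Finset.coe_insert, Finset.coe_insert, Finset.coe_insert, Finset.coe_singleton, SetLike.mem_coe]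
      simp only [Set.mem_insert_iff, Set.mem_singleton_iff]
      constructor
      · rintro ⟨⟨y, hy⟩, rfl⟩
        obtain ⟨z, hz⟩ := (cosetOf_bij H).2 (y : C ⧸ N)
        show (y : C ⧸ N) = _ ∨ (y : C ⧸ N) = _ ∨ (y : C ⧸ N) = _ ∨ (y : C ⧸ N) = _
        have hcom : (y : C ⧸ N) * (r : C ⧸ N) = (r : C ⧸ N) * (y : C ⧸ N) := by
          rw [← QuotientGroup.mk_mul, ← QuotientGroup.mk_mul,
            Subgroup.mem_centralizer_singleton_iff.1 hy]
        have hdbl : ∀ l : ℕ, l < 2 * h → ((s ^ l * r : C) : C ⧸ N) = ((r * s ^ l : C) : C ⧸ N) →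
            l = 0 ∨ l = h := by
          intro l hl e
          have e2 : ((s ^ (2 * l % (2 * h)) : C) : C ⧸ N) = ((s ^ 0 : C) : C ⧸ N) := by
            have e3 : s ^ l * r = r * (s ^ l)⁻¹ := by
              rw [hrdef, ← mul_assoc, pow_mul_t H, mul_assoc, mul_assoc,
                ((Commute.pow_pow_self s l i).inv_left).eq]
            rw [e3, QuotientGroup.mk_mul N r ((s ^ l)⁻¹), QuotientGroup.mk_mul N r (s ^ l)] at e
            have e4 := mul_left_cancel e
            rw [← H.order, pow_mod_orderOf, two_mul, pow_add, pow_zero, QuotientGroup.mk_mul]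
            nth_rewrite 1 [← e4]
            rw [← QuotientGroup.mk_mul, inv_mul_cancel]
          have e5 := rot_inj H (Nat.mod_lt _ (by omega)) (by omega) e2
          by_cases hlt : l < h
          · rw [Nat.mod_eq_of_lt (by omega)] at e5; omega
          · rw [Nat.mod_eq_sub_mod (by omega), Nat.mod_eq_of_lt (by omega)] at e5; omega
        rw [← hz] at hcom ⊢
        rcases z with l | l
        · simp only [cosetOf, Sum.elim_inl] at hcom ⊢
          rw [← QuotientGroup.mk_mul, ← QuotientGroup.mk_mul] at hcom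
          rcases hdbl l l.2 hcom with e | e <;> rw [e]
          · exact Or.inl rfl
          · exact Or.inr (Or.inl rfl)
        · simp only [cosetOf, Sum.elim_inr] at hcom ⊢
          -- `t s^l = r s^d` with `d = l - i`
          have hd : ∃ d < 2 * h, t * s ^ (l : ℕ) = r * s ^ d := by
            refine ⟨((l : ℕ) + (2 * h - i % (2 * h))) % (2 * h), Nat.mod_lt _ (by have := H.two_le; omega), ?_⟩
            rw [hrdef, mul_assoc, ← pow_add]
            congr 1
            rw [pow_eq_pow_iff_modEq, H.order]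
            have h9 := Nat.mod_lt i (show 2 * h > 0 by have := H.two_le; omega)
            unfold Nat.ModEq
            rw [Nat.add_mod_mod, ← Nat.mod_add_mod,
              show i % (2 * h) + ((l : ℕ) + (2 * h - i % (2 * h))) = (l : ℕ) + 2 * h by omega,
              Nat.add_mod_right]
          obtain ⟨d, hd2, hd⟩ := hd
          rw [hd, ← QuotientGroup.mk_mul, ← QuotientGroup.mk_mul, mul_assoc r (s ^ d),
            QuotientGroup.mk_mul N r (s ^ d * r), QuotientGroup.mk_mul N r (r * s ^ d)] at hcom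
          rw [hd]
          rcases hdbl d hd2 (mul_left_cancel hcom) with e | e <;> rw [e]
          · exact Or.inr (Or.inr (Or.inl (by rw [pow_zero, mul_one])))
          · exact Or.inr (Or.inr (Or.inr (by rw [hrdef, mul_assoc, ← pow_add])))
      · rintro (rfl | rfl | rfl | rfl)
        · exact ⟨1, by simp⟩
        · exact ⟨⟨_, hJmem⟩, rfl⟩
        · exact ⟨⟨_, hrmem⟩, rfl⟩
        · exact ⟨⟨r * s ^ h, mul_mem hrmem hJmem⟩, by
            show ((r * s ^ h : C) : C ⧸ N) = _
            rw [hrdef, mul_assoc, ← pow_add]⟩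
    have hh := H.two_le
    have n01 : ((s ^ 0 : C) : C ⧸ N) ≠ ((s ^ h : C) : C ⧸ N) := fun e => by
      have := rot_inj H (show 0 < 2 * h by omega) (show h < 2 * h by omega) e; omega
    have n23 : ((t * s ^ i : C) : C ⧸ N) ≠ ((t * s ^ (i + h) : C) : C ⧸ N) := fun e => by
      rw [QuotientGroup.mk_mul, QuotientGroup.mk_mul] at e
      refine n01 ?_
      have := mul_left_cancel e
      rw [pow_add, QuotientGroup.mk_mul] at this
      rw [pow_zero, QuotientGroup.mk_one]
      exact (mul_eq_left.1 this.symm).symm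
    rw [← SetLike.coe_sort_coe, hset, Nat.card_coe_set_eq, Set.ncard_coe_finset,
      Finset.card_insert_of_notMem, Finset.card_insert_of_notMem, Finset.card_pair n23]
    · simp only [Finset.mem_insert, Finset.mem_singleton, not_or]
      exact ⟨(refl_ne_rot H _ _).symm, (refl_ne_rot H _ _).symm⟩
    · simp only [Finset.mem_insert, Finset.mem_singleton, not_or]
      exact ⟨n01, (refl_ne_rot H _ _).symm, (refl_ne_rot H _ _).symm⟩
  rw [← f.ker.index_mul_card, Subgroup.index_ker, hrange, hker]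

/-- Summing a class function over a coset through the sections inside it. -/
theorem sum_coset (hodd : ∀ y, y ∈ N ↔ ¬ 2 ∣ orderOf y) {x : C} (hx : ∃ k : ℕ, orderOf x = 2 ^ k)
    (f : C → ℕ) (hf : ∀ g d, f (d * g * d⁻¹) = f g) :
    Nat.card (N ⊓ Subgroup.centralizer ({x} : Set C) : Subgroup C) *
      ∑ z ∈ Finset.univ.filter (fun z : C => (z : C ⧸ N) = (x : C ⧸ N)), f z =
    Nat.card N * ∑ y : (N ⊓ Subgroup.centralizer ({x} : Set C) : Subgroup C), f (x * y) := by
  set Nx := N ⊓ Subgroup.centralizer ({x} : Set C) with hNx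
  set T := Finset.univ.filter (fun z : C => (z : C ⧸ N) = (x : C ⧸ N)) with hT
  let φ : N × Nx → C := fun p => (p.1 : C) * (x * (p.2 : C)) * (p.1 : C)⁻¹
  have hφ : ∀ p, φ p ∈ T := by
    intro p
    rw [hT, Finset.mem_filter]
    refine ⟨Finset.mem_univ _, ?_⟩
    simp only [φ, QuotientGroup.mk_mul, QuotientGroup.mk_inv,
      (QuotientGroup.eq_one_iff _).2 p.1.2,
      (QuotientGroup.eq_one_iff _).2 (Subgroup.mem_inf.1 p.2.2).1]
    simp
  have hcom : ∀ y : Nx, Commute x (y : C) := fun y =>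
    (Subgroup.mem_centralizer_singleton_iff.1 (Subgroup.mem_inf.1 y.2).2).symm
  -- the `2`-part of `x * y` is `x`
  have hpart : ∀ (y y' : Nx) (d : C), d * (x * (y : C)) * d⁻¹ = x * (y' : C) →
      d * x = x * d ∧ d * (y : C) * d⁻¹ = (y' : C) := by
    intro y y' d e
    have ho : ∀ w : Nx, ¬ 2 ∣ orderOf (w : C) := fun w => (hodd _).1 (Subgroup.mem_inf.1 w.2).1
    set a := orderOf (y : C) * orderOf (y' : C) with ha
    obtain ⟨k, hk⟩ := hx
    have hco : (orderOf x).Coprime a := by
      rw [hk, ha]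
      exact ((Nat.prime_two.coprime_iff_not_dvd.2 (ho y)).mul_right
        (Nat.prime_two.coprime_iff_not_dvd.2 (ho y'))).pow_left k
    obtain ⟨b, hb⟩ := exists_pow_eq_self_of_coprime hco.symm
    have hy : ∀ w : Nx, orderOf (w : C) ∣ a → (x * (w : C)) ^ (a * b) = x := by
      intro w hw
      rw [(hcom w).mul_pow, orderOf_dvd_iff_pow_eq_one.1 (hw.mul_right b), mul_one, pow_mul, hb]
    have h1 := congrArg (fun g => g ^ (a * b)) e
    simp only [conj_pow, hy y (dvd_mul_right _ _), hy y' (dvd_mul_left _ _)] at h1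
    refine ⟨mul_inv_eq_iff_eq_mul.1 h1, ?_⟩
    refine mul_left_cancel (a := x) ?_
    rw [← e]
    nth_rewrite 1 [← h1]
    group
  have hfib : ∀ p₀ : N × Nx, (Finset.univ.filter fun p : N × Nx => φ p = φ p₀).card = Nat.card Nx := by
    rintro ⟨d₀, y₀⟩
    rw [Nat.card_eq_fintype_card, ← Finset.card_univ]
    have hd : ∀ p : N × Nx, φ p = φ (d₀, y₀) →
        ((d₀ : C)⁻¹ * (p.1 : C)) * (x * (p.2 : C)) * ((d₀ : C)⁻¹ * (p.1 : C))⁻¹ = x * (y₀ : C) := by
      intro p hp
      simp only [φ] at hp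
      calc _ = (d₀ : C)⁻¹ * ((p.1 : C) * (x * (p.2 : C)) * (p.1 : C)⁻¹) * (d₀ : C) := by group
        _ = _ := by rw [hp]; group
    refine Finset.card_bij (fun p hp => ⟨(d₀ : C)⁻¹ * (p.1 : C), Subgroup.mem_inf.2
      ⟨mul_mem (inv_mem d₀.2) p.1.2, Subgroup.mem_centralizer_singleton_iff.2
        (hpart p.2 y₀ _ (hd p (Finset.mem_filter.1 hp).2)).1⟩⟩) (fun p hp => Finset.mem_univ _) ?_ ?_
    · intro p hp p' hp' e
      have e1 : p.1 = p'.1 := Subtype.ext (mul_left_cancel (congrArg Subtype.val e))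
      have q1 := (hpart p.2 y₀ _ (hd p (Finset.mem_filter.1 hp).2)).2
      have q2 := (hpart p'.2 y₀ _ (hd p' (Finset.mem_filter.1 hp').2)).2
      rw [e1] at q1
      exact Prod.ext e1 (Subtype.ext (mul_left_cancel (mul_right_cancel (q1.trans q2.symm))))
    · intro c _
      have hc := Subgroup.mem_centralizer_singleton_iff.1 (Subgroup.mem_inf.1 c.2).2
      refine ⟨(⟨(d₀ : C) * (c : C), mul_mem d₀.2 (Subgroup.mem_inf.1 c.2).1⟩,
        ⟨(c : C)⁻¹ * (y₀ : C) * (c : C), mul_mem (mul_mem (inv_mem c.2) y₀.2) c.2⟩), ?_, Subtype.ext ?_⟩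
      · rw [Finset.mem_filter]
        refine ⟨Finset.mem_univ _, ?_⟩
        show (d₀ : C) * (c : C) * (x * ((c : C)⁻¹ * (y₀ : C) * (c : C))) * ((d₀ : C) * (c : C))⁻¹ = _
        calc _ = (d₀ : C) * (((c : C) * x) * ((c : C)⁻¹ * (y₀ : C))) * (d₀ : C)⁻¹ := by group
          _ = _ := by rw [hc]; simp only [φ]; group
      · exact inv_mul_cancel_left _ _
  have hTc : T.card = Nat.card N := by
    rw [Nat.card_eq_fintype_card, ← Finset.card_univ]
    refine Finset.card_bij (fun z hz => ⟨x⁻¹ * z, ?_⟩) (fun z hz => Finset.mem_univ _) ?_ ?_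
    · rw [hT, Finset.mem_filter] at hz
      exact QuotientGroup.eq.1 hz.2.symm
    · intro z _ z' _ e
      exact mul_left_cancel (congrArg Subtype.val e)
    · intro n _
      refine ⟨x * (n : C), ?_, Subtype.ext (inv_mul_cancel_left _ _)⟩
      rw [hT, Finset.mem_filter]
      exact ⟨Finset.mem_univ _, by rw [QuotientGroup.mk_mul, (QuotientGroup.eq_one_iff _).2 n.2, mul_one]⟩
  have himg : Finset.univ.image φ = T := by
    refine Finset.eq_of_subset_of_card_le (Finset.image_subset_iff.2 fun p _ => hφ p) ?_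
    rw [hTc]
    have hs := Finset.card_eq_sum_card_image φ (Finset.univ : Finset (N × Nx))
    rw [Finset.sum_congr rfl (g := fun _ => Nat.card Nx) fun z hz => by
      obtain ⟨p₀, -, rfl⟩ := Finset.mem_image.1 hz; exact hfib p₀, Finset.sum_const, smul_eq_mul,
      Finset.card_univ, Fintype.card_prod, ← Nat.card_eq_fintype_card, ← Nat.card_eq_fintype_card] at hs
    exact le_of_eq (Nat.eq_of_mul_eq_mul_right Nat.card_pos hs)
  have hswap : ∑ p : N × Nx, f (φ p) = Nat.card N * ∑ y : Nx, f (x * y) := by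
    simp only [φ, hf]
    rw [Fintype.sum_prod_type]
    simp [Finset.sum_const, Finset.card_univ, Nat.card_eq_fintype_card]
  rw [← hswap, ← himg, Finset.mul_sum, Finset.sum_image' (fun p => f (φ p))]
  intro p₀ _
  rw [Finset.sum_congr rfl (g := fun _ => f (φ p₀)) fun p hp => by rw [(Finset.mem_filter.1 hp).2],
    Finset.sum_const, smul_eq_mul, hfib]

end Cfsg.Agent.DihedralPairs79
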