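import Mathlib
import Cfsg.Agent.Lib.DihedralPairs79
import Cfsg.Agent.Lib.DihedralBlockMain79
import Cfsg.Agent.Lib.KleinFourChars79
import Cfsg.Agent.S0206

/-!
# Sums over sections of rotations of the triple class product
-/

set_option autoImplicit false
set_option linter.style.haveILetI false

open scoped ComplexConjugate

namespace Cfsg.Agent.DihedralClassSums79

open Cfsg BlockTheoryLocalRing BlockTheoryCentre BlockTheoryIdem BlockContribPrime BlockContrib
  BlockSubsections79 SectionOrth79 DihedralRotations79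

attribute [local instance] Classical.propDecidable

universe u

variable {G : Type u} [Group G] [Fintype G] {n : ℕ} {P : Sylow 2 G} {σ : G} {M : Ideal AlgInt}

/-- The number of pairs of conjugators of `J` with a given product. -/
noncomputable def prodCount (J z : G) : ℕ :=
  (Finset.univ.filter fun ab : G × G => ab.1 * J * ab.1⁻¹ * (ab.2 * J * ab.2⁻¹) = z).card

theorem prodCount_conj (J g d : G) : prodCount J (d * g * d⁻¹) = prodCount J g := by
  refine Finset.card_equiv (Equiv.prodCongr (Equiv.mulLeft d⁻¹) (Equiv.mulLeft d⁻¹)) fun ab => ?_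
  simp only [Finset.mem_filter, Finset.mem_univ, true_and, Equiv.prodCongr_apply, Prod.map_fst,
    Prod.map_snd, Equiv.coe_mulLeft]
  constructor
  · intro e
    calc _ = d⁻¹ * (ab.1 * J * ab.1⁻¹ * (ab.2 * J * ab.2⁻¹)) * d := by group
      _ = g := by rw [e]; group
  · intro e
    rw [← e]; group

theorem classInner_prodCount {J : G} (hJ : J * J = 1) (χ : IrrCharacter G) :
    classInner (fun z => (prodCount J z : ℂ)) (χ : G → ℂ) =
      (Nat.card G : ℂ) * (χ : G → ℂ) J * (χ : G → ℂ) J / (χ : G → ℂ) 1 := by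
  have h := congrArg conj (CharAverage.sum_conj_mul_conj χ J J)
  simp only [map_sum, map_div₀, map_mul, map_pow, map_natCast, KleinFourChars79.apply_real hJ,
    show conj ((χ : G → ℂ) 1) = (χ : G → ℂ) 1 by rw [← irr_inv, inv_one]] at h
  rw [classInner]
  simp only [prodCount, Finset.card_filter, Nat.cast_sum, Nat.cast_ite, Nat.cast_one, Nat.cast_zero,
    Finset.sum_mul, ite_mul, one_mul, zero_mul]
  rw [Finset.sum_comm]
  simp only [Finset.sum_ite_eq, Finset.mem_univ, if_true]
  rw [Fintype.sum_prod_type, h]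
  have hG : (Nat.card G : ℂ) ≠ 0 := Nat.cast_ne_zero.2 Nat.card_pos.ne'
  field_simp

/-- The sum of a character over the section of a rotation. -/
theorem sum_section (hM : IsPModular 2 M) (h : Setting n P σ) {a : ℕ} (h0 : 0 < a)
    (ha : a < 2 ^ (n - 1)) {N : Subgroup (Subgroup.centralizer ({σ ^ a} : Set G))} [N.Normal]
    (hcard : ¬ 2 ∣ Nat.card N) (hmem : ∀ y, y ∈ N ↔ ¬ 2 ∣ orderOf y) (χ : IrrCharacter G) :
    ∑ y : Subgroup.centralizer ({σ ^ a} : Set G),
        (if ¬ 2 ∣ orderOf y then (χ : G → ℂ) (σ ^ a * y) else 0) =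
      if χ ∈ principalBlock M G then (Nat.card N : ℂ) * (χ : G → ℂ) (σ ^ a) else 0 := by
  haveI : Fact (Nat.Prime 2) := ⟨Nat.prime_two⟩
  split_ifs with hχ
  · rw [← Finset.sum_filter, Finset.sum_congr rfl (g := fun _ => (χ : G → ℂ) (σ ^ a)) fun y hy =>
      SectionComplement79.sec_const N hM (pElem h a) hcard hmem hχ (Finset.mem_filter.1 hy).2,
      Finset.sum_const, nsmul_eq_mul, Nat.card_eq_fintype_card,
      Fintype.card_of_subtype (Finset.univ.filter fun z => ¬ 2 ∣ orderOf z) fun z => by simp [hmem z]]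
  · have h1 := secPair_eq_zero hM (pElem h a) (SectionComplement79.induced_principal hM (pElem h a))
      (w := SectionComplement79.regOne 2 (σ ^ a))
      (Submodule.subset_span ⟨BlockPrincipal81.oneChar _, BlockPrincipal81.oneChar_mem hM, rfl⟩) hχ
    have h2 := congrArg conj h1
    rw [secPair, map_sum, map_zero] at h2
    refine (Finset.sum_congr rfl fun y _ => ?_).trans h2
    split_ifs with hy
    · simp
    · simp [SectionComplement79.regOne_apply hy]

/-- The triple product summed over the section of a rotation. -/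
theorem sum_prodCount (hM : IsPModular 2 M) (h : Setting n P σ) {J : G} (hJ : J * J = 1) {a : ℕ}
    (h0 : 0 < a) (ha : a < 2 ^ (n - 1))
    {N : Subgroup (Subgroup.centralizer ({σ ^ a} : Set G))} [N.Normal]
    (hcard : ¬ 2 ∣ Nat.card N) (hmem : ∀ y, y ∈ N ↔ ¬ 2 ∣ orderOf y) :
    ∑ y : Subgroup.centralizer ({σ ^ a} : Set G),
        (if ¬ 2 ∣ orderOf y then (prodCount J (σ ^ a * y) : ℂ) else 0) =
      (Nat.card N : ℂ) * ((Nat.card G : ℂ) * ∑ χ ∈ BlockContribBounds.members (principalBlock M G),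
        (χ : G → ℂ) (σ ^ a) * (χ : G → ℂ) J * (χ : G → ℂ) J / (χ : G → ℂ) 1) := by
  set T : G → ℂ := fun z => (prodCount J z : ℂ) with hT
  have hTc : IsClassFunction G T := fun g d => by simp only [hT, prodCount_conj]
  have e : ∀ y : Subgroup.centralizer ({σ ^ a} : Set G),
      (if ¬ 2 ∣ orderOf y then T (σ ^ a * y) else 0) =
        ∑ χ : IrrCharacter G, classInner T (χ : G → ℂ) *
          (if ¬ 2 ∣ orderOf y then (χ : G → ℂ) (σ ^ a * y) else 0) := fun y => by
    split_ifs
    · simp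
    · conv_lhs => rw [CharBasicOrth.eq_sum_classInner hTc]
      simp
  rw [Finset.sum_congr rfl fun y _ => e y, Finset.sum_comm, Finset.mul_sum, Finset.mul_sum]
  symm
  refine Eq.trans ?_ (Finset.sum_subset
    (Finset.subset_univ (BlockContribBounds.members (principalBlock M G))) fun χ _ hχ => ?_)
  · refine Finset.sum_congr rfl fun χ hχ => ?_
    rw [← Finset.mul_sum, sum_section hM h h0 ha hcard hmem χ,
      if_pos (BlockContribBounds.mem_members.1 hχ), hT, classInner_prodCount hJ]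
    ring
  · rw [← Finset.mul_sum, sum_section hM h h0 ha hcard hmem χ,
      if_neg (fun hb => hχ (BlockContribBounds.mem_members.2 hb)), mul_zero]

/-- `P` is dihedral when generated by `σ` and an involution inverting it. -/
theorem setting_of_gen (hn : 3 ≤ n) (hσ : σ ∈ (P : Subgroup G)) {τ : G}
    (hσo : orderOf σ = 2 ^ (n - 1)) (hτo : orderOf τ = 2) (hrel : τ * σ * τ⁻¹ = σ⁻¹)
    (hgen : Subgroup.closure ({σ, τ} : Set G) = (P : Subgroup G)) : Setting n P σ := by
  refine ⟨hn, ?_, hσ, hσo⟩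
  have ht2 : τ * τ = 1 := by rw [← pow_two, ← hτo, pow_orderOf_eq_one]
  have hti : τ⁻¹ = τ := inv_eq_of_mul_eq_one_right ht2
  have hσ1 : σ ≠ 1 := fun e => by
    rw [e, orderOf_one] at hσo
    exact absurd hσo.symm (Nat.one_lt_two_pow (by omega)).ne'
  have h2 : (σ * τ) * (σ * τ) = 1 := by
    calc (σ * τ) * (σ * τ) = σ * (τ * σ * τ⁻¹) := by rw [hti]; group
      _ = 1 := by rw [hrel, mul_inv_cancel]
  have hne : σ * τ ≠ τ := fun e => hσ1 (mul_eq_right.1 e)
  have h1 : σ * τ ≠ 1 := fun e => by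
    rw [mul_eq_one_iff_eq_inv.1 e, hti, hτo] at hσo
    have : 2 ^ 2 ≤ 2 ^ (n - 1) := Nat.pow_le_pow_right (by norm_num) (by omega)
    omega
  obtain ⟨e⟩ := Cfsg.Agent.S0206.result (σ * τ) τ (orderOf_eq_prime (by rw [pow_two, h2]) h1) hτo hne
  rw [mul_assoc, ht2, mul_one, hσo] at e
  refine ⟨(MulEquiv.subgroupCongr ?_).trans e⟩
  rw [← hgen]
  refine le_antisymm (Subgroup.closure_le _ |>.2 ?_) (Subgroup.closure_le _ |>.2 ?_)
  · intro x hx
    rw [Set.mem_insert_iff, Set.mem_singleton_iff] at hx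
    have a1 : σ * τ ∈ Subgroup.closure ({σ * τ, τ} : Set G) := Subgroup.subset_closure (by simp)
    have a2 : τ ∈ Subgroup.closure ({σ * τ, τ} : Set G) := Subgroup.subset_closure (by simp)
    rcases hx with rfl | rfl
    · have := mul_mem a1 a2
      rwa [mul_assoc, ht2, mul_one] at this
    · exact a2
  · intro x hx
    rw [Set.mem_insert_iff, Set.mem_singleton_iff] at hx
    have a1 : σ ∈ Subgroup.closure ({σ, τ} : Set G) := Subgroup.subset_closure (by simp)
    have a2 : τ ∈ Subgroup.closure ({σ, τ} : Set G) := Subgroup.subset_closure (by simp)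
    rcases hx with rfl | rfl
    · exact mul_mem a1 a2
    · exact a2

/-- With the three kinds conjugate, all involutions are conjugate. -/
theorem isConj_of_order_two (h : Setting n P σ) {τ : G} (hτ : τ ∈ (P : Subgroup G)) (hτo : orderOf τ = 2)
    (hrel : τ * σ * τ⁻¹ = σ⁻¹)
    (hconj : IsConj (σ ^ (2 ^ (n - 2))) τ ∧ IsConj (σ ^ (2 ^ (n - 2))) (σ * τ)) {w : G} :
    IsConj (σ ^ (2 ^ (n - 2))) w ↔ orderOf w = 2 := by
  haveI : Fact (Nat.Prime 2) := ⟨Nat.prime_two⟩
  constructor
  · intro hc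
    obtain ⟨d, hd⟩ := isConj_iff.1 hc
    rw [← hd, show d * σ ^ 2 ^ (n - 2) * d⁻¹ = MulAut.conj d (σ ^ 2 ^ (n - 2)) by simp,
      MulEquiv.orderOf_eq, orderOf_J h]
  intro hw
  obtain ⟨Q, hQ⟩ := (IsPGroup.of_card (p := 2) (n := 1)
    (by rw [Nat.card_zpowers, hw, pow_one] : Nat.card (Subgroup.zpowers w) = 2 ^ 1)).exists_le_sylow
  obtain ⟨g, hg⟩ := MulAction.exists_smul_eq G Q P
  have hmem : g * w * g⁻¹ ∈ (P : Subgroup G) := by
    rw [← hg, Sylow.coe_subgroup_smul]
    exact (Subgroup.mem_map_iff_mem (MulAut.conj g).injective).2 (hQ (Subgroup.mem_zpowers w))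
  refine IsConj.trans ?_ (isConj_iff.2 ⟨g⁻¹, by group⟩ : IsConj (g * w * g⁻¹) w)
  set v := g * w * g⁻¹ with hv
  have hv2 : orderOf v = 2 := by rw [hv, show g * w * g⁻¹ = MulAut.conj g w by simp, MulEquiv.orderOf_eq, hw]
  obtain ⟨hrot, -, -⟩ := structure_facts h
  have hnat : ∀ x ∈ Subgroup.zpowers σ, ∃ l, l < 2 ^ (n - 1) ∧ σ ^ l = x := by
    intro x hx
    obtain ⟨l, hl⟩ := (Submonoid.mem_powers_iff _ _).1 ((mem_powers_iff_mem_zpowers).2 hx)
    exact ⟨l % 2 ^ (n - 1), Nat.mod_lt _ (Nat.two_pow_pos _), by rw [← h.order, pow_mod_orderOf, hl]⟩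
  rcases hrot v hmem with hr | hr
  · obtain ⟨l, hl, hle⟩ := hnat v hr
    rw [← hle, eq_J_of_order_two h hl (hle ▸ hv2)]
  · have hu : τ * v ∈ Subgroup.zpowers σ := by
      refine (hrot _ (mul_mem hτ hmem)).resolve_right fun e => ?_
      have h1 : τ * v * σ * (τ * v)⁻¹ = σ := by
        calc _ = τ * (v * σ * v⁻¹) * τ⁻¹ := by group
          _ = σ := by rw [hr, ← _root_.conj_inv, hrel, inv_inv]
      rw [h1] at e
      have h2 : σ ^ 2 = 1 := by rw [pow_two]; nth_rewrite 1 [e]; exact inv_mul_cancel σ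
      have h4 := four_le h
      exact pow_ne_one h two_pos (by omega) h2
    obtain ⟨l, -, hle⟩ := hnat _ hu
    have ht2 : τ * τ = 1 := by rw [← pow_two, ← hτo, pow_orderOf_eq_one]
    have hveq : v = τ * σ ^ l := by rw [hle, ← mul_assoc, ht2, one_mul]
    rw [hveq]
    clear hle hveq hu
    induction l using Nat.twoStepInduction with
    | zero => simpa using hconj.1
    | one =>
      rw [pow_one]
      exact hconj.2.trans (isConj_iff.2 ⟨σ⁻¹, by group⟩)
    | more l ih _ =>
      refine ih.trans (isConj_iff.2 ⟨σ⁻¹, ?_⟩)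
      have h5 : σ⁻¹ * τ = τ * σ := by
        rw [← hrel]; group
      calc σ⁻¹ * (τ * σ ^ l) * σ⁻¹⁻¹ = (σ⁻¹ * τ) * (σ ^ l * σ) := by group
        _ = τ * (σ * (σ ^ l * σ)) := by rw [h5]; group
        _ = τ * σ ^ (l + 2) := by rw [← pow_succ, ← pow_succ']

/-- Products with a fixed value, when `J` is conjugate to every involution. -/
theorem prodCount_eq {J : G} (hJ : ∀ w : G, IsConj J w ↔ orderOf w = 2) (z : G) :
    prodCount J z = Nat.card (Subgroup.centralizer ({J} : Set G)) ^ 2 *
      (Finset.univ.filter fun w : G => orderOf w = 2 ∧ orderOf (w * z) = 2).card := by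
  set c := Nat.card (Subgroup.centralizer ({J} : Set G)) with hc
  have hφ : ∀ w : G, (Finset.univ.filter fun b : G => b * J * b⁻¹ = w).card =
      if orderOf w = 2 then c else 0 := by
    intro w
    split_ifs with hw
    · obtain ⟨b₀, hb₀⟩ := isConj_iff.1 ((hJ w).2 hw)
      rw [hc, Nat.card_eq_fintype_card, ← Finset.card_univ]
      refine Finset.card_bij (fun b hb => ⟨b₀⁻¹ * b, ?_⟩) (fun b hb => Finset.mem_univ _) ?_ ?_
      · rw [Finset.mem_filter] at hb
        rw [Subgroup.mem_centralizer_singleton_iff]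
        calc b₀⁻¹ * b * J = b₀⁻¹ * (b * J * b⁻¹) * b := by group
          _ = J * (b₀⁻¹ * b) := by rw [hb.2, ← hb₀]; group
      · intro b _ b' _ e
        exact mul_left_cancel (congrArg Subtype.val e)
      · intro x _
        refine ⟨b₀ * (x : G), ?_, Subtype.ext (inv_mul_cancel_left _ _)⟩
        rw [Finset.mem_filter]
        refine ⟨Finset.mem_univ _, ?_⟩
        calc b₀ * (x : G) * J * (b₀ * (x : G))⁻¹ = b₀ * ((x : G) * J) * (x : G)⁻¹ * b₀⁻¹ := by group
          _ = w := by rw [Subgroup.mem_centralizer_singleton_iff.1 x.2, ← hb₀]; group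
    · rw [Finset.card_eq_zero, Finset.filter_eq_empty_iff]
      exact fun b _ e => hw ((hJ w).1 (isConj_iff.2 ⟨b, e⟩))
  have h1 : prodCount J z = ∑ a : G, (Finset.univ.filter fun b : G =>
      b * J * b⁻¹ = (a * J * a⁻¹)⁻¹ * z).card := by
    rw [prodCount, Finset.card_filter, Fintype.sum_prod_type]
    refine Finset.sum_congr rfl fun a _ => ?_
    rw [Finset.card_filter]
    exact Finset.sum_congr rfl fun b _ => by simp only [eq_inv_mul_iff_mul_eq]
  rw [h1, ← Finset.sum_fiberwise (Finset.univ : Finset G) (fun a : G => a * J * a⁻¹),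
    Finset.card_filter, Finset.mul_sum]
  refine Finset.sum_congr rfl fun w _ => ?_
  rw [Finset.sum_congr rfl (g := fun _ => if orderOf (w⁻¹ * z) = 2 then c else 0) fun a ha => by
    rw [hφ, (Finset.mem_filter.1 ha).2], Finset.sum_const, smul_eq_mul, hφ]
  by_cases hw : orderOf w = 2
  · rw [inv_eq_of_mul_eq_one_right (DihedralPairs79.mul_self_of_two hw)]
    by_cases hwz : orderOf (w * z) = 2
    · simp [hw, hwz, pow_two]
    · simp [hw, hwz]
  · simp [hw]

end Cfsg.Agent.DihedralClassSums79
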