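import Mathlib
import Cfsg.Agent.Lib.DihedralClassSums79

/-!
Local structure of a group with dihedral Sylow 2-subgroup of order eight, one class of involutions and
a self-centralising element of order four.
-/

set_option autoImplicit false
set_option linter.style.haveILetI false
set_option linter.unusedSectionVars false

namespace Cfsg.Agent.CentFour75

open Subgroup Cfsg.Agent.DihedralRotations79

universe u

variable {G : Type u} [Group G]

/-- A dihedral Sylow subgroup of order eight generated by a self-centralising element and an involution. -/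
structure Hyp (w τ : G) : Prop where
  ord : orderOf w = 4
  cent : Nat.card (centralizer ({w} : Set G)) = 4
  tau : orderOf τ = 2
  rel : τ * w * τ⁻¹ = w⁻¹
  syl : ∃ P : Sylow 2 G, Nat.card P = 8 ∧ w ∈ (P : Subgroup G) ∧ τ ∈ (P : Subgroup G) ∧
    closure ({w, τ} : Set G) = (P : Subgroup G)
  all : ∀ x : G, orderOf x = 2 → IsConj (w ^ 2) x

/-- The odd part of the centraliser of `w ^ 2`. -/
def core (w : G) : Subgroup G :=
  closure {x : G | Commute x (w ^ 2) ∧ Odd (orderOf x)}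

/-- The part centralised by `τ`. -/
def uPart (w τ : G) : Subgroup G := core w ⊓ centralizer ({τ} : Set G)

variable {w τ : G}

theorem mem_uPart {x : G} : x ∈ uPart w τ ↔ x ∈ core w ∧ Commute x τ := by
  rw [uPart, Subgroup.mem_inf, mem_centralizer_singleton_iff]
  exact Iff.rfl

theorem Hyp.w_pow_four (h : Hyp w τ) : w ^ 4 = 1 := h.ord ▸ pow_orderOf_eq_one w

theorem Hyp.w_sq_ne (h : Hyp w τ) : w ^ 2 ≠ 1 := fun e => by
  have := orderOf_le_of_pow_eq_one two_pos e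
  rw [h.ord] at this
  omega

theorem Hyp.t_order (h : Hyp w τ) : orderOf (w ^ 2) = 2 := by
  refine orderOf_eq_prime ?_ h.w_sq_ne
  rw [← pow_mul]; exact h.w_pow_four

theorem Hyp.t_mul_self (h : Hyp w τ) : w ^ 2 * w ^ 2 = 1 := by
  rw [← pow_add]; exact h.w_pow_four

theorem Hyp.tau_mul_self (h : Hyp w τ) : τ * τ = 1 := by
  rw [← pow_two, ← h.tau, pow_orderOf_eq_one]

theorem Hyp.tau_inv (h : Hyp w τ) : τ⁻¹ = τ := inv_eq_of_mul_eq_one_right h.tau_mul_self

theorem Hyp.tau_ne (h : Hyp w τ) : τ ≠ 1 := fun e => by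
  have := h.tau
  rw [e, orderOf_one] at this
  omega

theorem Hyp.tau_w (h : Hyp w τ) : τ * w = w⁻¹ * τ := by
  rw [← h.rel, inv_mul_cancel_right]

theorem Hyp.tau_comm (h : Hyp w τ) : Commute τ (w ^ 2) := by
  have h1 : τ * w ^ 2 * τ⁻¹ = w ^ 2 := by
    rw [← conj_pow, h.rel, inv_pow]
    exact inv_eq_of_mul_eq_one_right h.t_mul_self
  exact mul_inv_eq_iff_eq_mul.1 h1

theorem Hyp.cent_w (h : Hyp w τ) [Finite G] {x : G} (hx : Commute x w) : x ∈ zpowers w := by
  have e : zpowers w = centralizer ({w} : Set G) := by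
    refine Subgroup.eq_of_le_of_card_ge ?_ (by rw [h.cent, Nat.card_zpowers, h.ord])
    rw [zpowers_le, mem_centralizer_singleton_iff]
  rw [e, mem_centralizer_singleton_iff]
  exact hx

theorem Hyp.pow_cases (h : Hyp w τ) [Finite G] {x : G} (hx : x ∈ zpowers w) :
    x = 1 ∨ x = w ∨ x = w ^ 2 ∨ x = w⁻¹ := by
  obtain ⟨l, rfl⟩ := (Submonoid.mem_powers_iff _ _).1 ((mem_powers_iff_mem_zpowers).2 hx)
  have e : w ^ l = w ^ (l % 4) := by rw [← h.ord, pow_mod_orderOf]
  have h3 : w ^ 3 = w⁻¹ := eq_inv_of_mul_eq_one_left (by rw [← pow_succ]; exact h.w_pow_four)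
  have : l % 4 = 0 ∨ l % 4 = 1 ∨ l % 4 = 2 ∨ l % 4 = 3 := by omega
  rcases this with r | r | r | r <;> rw [r] at e <;> simp [e, h3]

theorem Hyp.tau_notMem (h : Hyp w τ) : τ ∉ zpowers w := fun hm => by
  obtain ⟨l, hl⟩ := mem_zpowers_iff.1 hm
  have hc : Commute τ w := hl ▸ (Commute.refl w).zpow_left l
  have := h.rel
  rw [hc.eq, mul_inv_cancel_right] at this
  exact h.w_sq_ne (by rw [pow_two]; nth_rewrite 1 [this]; exact inv_mul_cancel w)

theorem Hyp.swap (h : Hyp w τ) : Hyp w (w * τ) := by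
  have h2 : w * τ * (w * τ) = 1 := by
    calc w * τ * (w * τ) = w * (τ * w) * τ := by group
      _ = τ * τ := by rw [h.tau_w]; group
      _ = 1 := h.tau_mul_self
  refine ⟨h.ord, h.cent, orderOf_eq_prime (by rw [pow_two]; exact h2) ?_, ?_, ?_, h.all⟩
  · intro e
    exact h.tau_notMem (by
      rw [eq_inv_of_mul_eq_one_right e]; exact inv_mem (mem_zpowers w))
  · rw [mul_inv_rev, show w * τ * w * (τ⁻¹ * w⁻¹) = w * (τ * w * τ⁻¹) * w⁻¹ by group, h.rel]
    group
  · obtain ⟨P, h8, hw, hτ, hc⟩ := h.syl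
    refine ⟨P, h8, hw, mul_mem hw hτ, ?_⟩
    rw [← hc]
    refine le_antisymm ((closure_le _).2 ?_) ((closure_le _).2 ?_)
    · rintro x (rfl | rfl)
      exacts [subset_closure (by simp), mul_mem (subset_closure (by simp)) (subset_closure (by simp))]
    · rintro x (rfl | rfl)
      · exact subset_closure (by simp)
      · have := mul_mem (inv_mem (subset_closure (by simp) : w ∈ closure ({w, w * x} : Set G)))
          (subset_closure (by simp) : w * x ∈ closure ({w, w * x} : Set G))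
        rwa [inv_mul_cancel_left] at this

variable [Finite G]

theorem Hyp.setting (h : Hyp w τ) : ∃ P : Sylow 2 G, Nat.card P = 8 ∧ w ∈ (P : Subgroup G) ∧
    τ ∈ (P : Subgroup G) ∧ closure ({w, τ} : Set G) = (P : Subgroup G) ∧ Setting 3 P w := by
  obtain ⟨P, h8, hw, hτ, hc⟩ := h.syl
  refine ⟨P, h8, hw, hτ, hc, ?_⟩
  haveI := Fintype.ofFinite G
  exact DihedralClassSums79.setting_of_gen le_rfl hw (by rw [h.ord]; rfl) h.tau h.rel hc

/-- The elements of the Sylow subgroup. -/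
theorem Hyp.mem_syl (h : Hyp w τ) {P : Sylow 2 G} (hc : closure ({w, τ} : Set G) = (P : Subgroup G))
    (h8 : Nat.card P = 8) {x : G} (hx : x ∈ (P : Subgroup G)) :
    x ∈ zpowers w ∨ x * τ ∈ zpowers w := by
  have hw : w ∈ (P : Subgroup G) := hc ▸ subset_closure (by simp)
  have hτ : τ ∈ (P : Subgroup G) := hc ▸ subset_closure (by simp)
  have hle : zpowers w ≤ (P : Subgroup G) := zpowers_le.2 hw
  have hi : ((zpowers w).subgroupOf (P : Subgroup G)).index = 2 := by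
    have := relIndex_mul_relIndex ⊥ (zpowers w) (P : Subgroup G) bot_le hle
    rw [relIndex_bot_left, relIndex_bot_left, Nat.card_zpowers, h.ord, h8] at this
    show (zpowers w).relIndex (P : Subgroup G) = 2
    omega
  by_cases hxw : x ∈ zpowers w
  · exact Or.inl hxw
  refine Or.inr ?_
  have := (Subgroup.mul_mem_iff_of_index_two hi (a := ⟨x, hx⟩) (b := ⟨τ, hτ⟩)).2
    (iff_of_false hxw h.tau_notMem)
  exact this

theorem Hyp.four_conj (h : Hyp w τ) {y : G} (hy : orderOf y = 4) : IsConj w y := by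
  haveI : Fact (Nat.Prime 2) := ⟨Nat.prime_two⟩
  obtain ⟨P, h8, hw, hτ, hc, -⟩ := h.setting
  obtain ⟨Q, hQ⟩ := (IsPGroup.of_card (p := 2) (n := 2)
    (by rw [Nat.card_zpowers, hy]; rfl : Nat.card (zpowers y) = 2 ^ 2)).exists_le_sylow
  obtain ⟨g, hg⟩ := MulAction.exists_smul_eq G Q P
  have hmem : g * y * g⁻¹ ∈ (P : Subgroup G) := by
    rw [← hg, Sylow.coe_subgroup_smul]
    exact (Subgroup.mem_map_iff_mem (MulAut.conj g).injective).2 (hQ (mem_zpowers y))
  refine IsConj.trans ?_ (isConj_iff.2 ⟨g⁻¹, by group⟩ : IsConj (g * y * g⁻¹) y)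
  have hz4 : orderOf (g * y * g⁻¹) = 4 := by
    rw [show g * y * g⁻¹ = MulAut.conj g y by simp, MulEquiv.orderOf_eq, hy]
  generalize g * y * g⁻¹ = z at hmem hz4 ⊢
  rcases h.mem_syl hc h8 hmem with hm | hm
  · rcases h.pow_cases hm with rfl | rfl | rfl | rfl
    · rw [orderOf_one] at hz4; omega
    · exact IsConj.refl _
    · rw [h.t_order] at hz4; omega
    · exact isConj_iff.2 ⟨τ, h.rel⟩
  · exfalso
    have hz2 : z * z = 1 := by
      obtain ⟨l, hl⟩ := mem_zpowers_iff.1 hm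
      have hz : z = w ^ l * τ := by rw [hl, mul_assoc, h.tau_mul_self, mul_one]
      have h1 : τ * w ^ l * τ⁻¹ = (w ^ l)⁻¹ := by rw [← conj_zpow, h.rel, inv_zpow]
      rw [hz]
      calc w ^ l * τ * (w ^ l * τ) = w ^ l * (τ * w ^ l * τ⁻¹) * (τ * τ) := by group
        _ = 1 := by rw [h1, h.tau_mul_self, mul_one, mul_inv_cancel]
    have := orderOf_le_of_pow_eq_one two_pos (by rw [pow_two]; exact hz2 : z ^ 2 = 1)
    omega

theorem Hyp.cent_four (h : Hyp w τ) {y : G} (hy : orderOf y = 4) :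
    Nat.card (centralizer ({y} : Set G)) = 4 := by
  obtain ⟨c, hc⟩ := isConj_iff.1 (h.four_conj hy)
  subst hc
  rw [show centralizer ({c * w * c⁻¹} : Set G) =
      (centralizer ({w} : Set G)).map (MulAut.conj c).toMonoidHom from ?_,
    Nat.card_congr (equivMapOfInjective _ _ (MulAut.conj c).injective).toEquiv.symm, h.cent]
  ext x
  rw [mem_centralizer_singleton_iff, Subgroup.mem_map_equiv, mem_centralizer_singleton_iff,
    MulAut.conj_symm_apply]
  constructor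
  · intro e
    calc c⁻¹ * x * c * w = c⁻¹ * (x * (c * w * c⁻¹)) * c := by group
      _ = w * (c⁻¹ * x * c) := by rw [e]; group
  · intro e
    calc x * (c * w * c⁻¹) = c * (c⁻¹ * x * c * w) * c⁻¹ := by group
      _ = c * w * c⁻¹ * x := by rw [e]; group

/-- An element of order four inverts every odd group which it normalises and whose square centralises. -/
theorem Hyp.inverts (h : Hyp w τ) {K : Subgroup G} (hK : ∀ k ∈ K, Odd (orderOf k)) {y : G}
    (hy : orderOf y = 4) (hn : ∀ k ∈ K, y * k * y⁻¹ ∈ K) (hc : ∀ k ∈ K, Commute (y ^ 2) k) :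
    ∀ k ∈ K, y * k * y⁻¹ = k⁻¹ := by
  have hfix : ∀ k ∈ K, Commute y k → k = 1 := by
    intro k hk hyk
    have hd : orderOf k ∣ 4 := by
      rw [← h.cent_four hy]
      exact Subgroup.orderOf_dvd_natCard _ (mem_centralizer_singleton_iff.2 hyk.symm.eq)
    have hodd := hK k hk
    have : orderOf k = 1 := by
      obtain ⟨j, hj, e⟩ := (Nat.dvd_prime_pow Nat.prime_two).1 (show orderOf k ∣ 2 ^ 2 from hd)
      rcases j.eq_zero_or_pos with rfl | hj0
      · simpa using e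
      · rw [e, Nat.odd_pow_iff hj0.ne'] at hodd
        exact absurd hodd (by decide)
    exact orderOf_eq_one_iff.1 this
  let f : K → K := fun k => ⟨(k : G)⁻¹ * (y * k * y⁻¹), K.mul_mem (K.inv_mem k.2) (hn k k.2)⟩
  have hf : Function.Injective f := by
    intro a b e
    have e' : (a : G)⁻¹ * (y * a * y⁻¹) = (b : G)⁻¹ * (y * b * y⁻¹) := congrArg Subtype.val e
    have hcomm : Commute y ((b : G) * (a : G)⁻¹) := by
      show y * _ = _ * y
      have h2 := congrArg (fun z => (b : G) * z * (y * (a : G)⁻¹)) e'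
      simp [mul_assoc] at h2
      simp [mul_assoc, h2]
    exact Subtype.ext (mul_inv_eq_one.1 (hfix _ (K.mul_mem b.2 (K.inv_mem a.2)) hcomm)).symm
  intro k hk
  obtain ⟨x, hx⟩ := Finite.injective_iff_surjective.1 hf ⟨k, hk⟩
  have hx' : (x : G)⁻¹ * (y * x * y⁻¹) = k := congrArg Subtype.val hx
  have hy2 : y * (y * x * y⁻¹) * y⁻¹ = (x : G) := by
    calc y * (y * x * y⁻¹) * y⁻¹ = y ^ 2 * (x : G) * (y ^ 2)⁻¹ := by rw [pow_two]; group
      _ = x := by rw [(hc x x.2).eq, mul_inv_cancel_right]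
  rw [← hx', mul_inv_rev, inv_inv,
    show y * ((x : G)⁻¹ * (y * x * y⁻¹)) * y⁻¹ =
      (y * x * y⁻¹)⁻¹ * (y * (y * x * y⁻¹) * y⁻¹) by group, hy2]

theorem Hyp.exists_complement (h : Hyp w τ) :
    ∃ N : Subgroup (centralizer ({w ^ 2} : Set G)), N.Normal ∧ ¬ 2 ∣ Nat.card N ∧
      (∀ y, y ∈ N ↔ ¬ 2 ∣ orderOf y) ∧ N.index = 8 ∧
      N.map (centralizer ({w ^ 2} : Set G)).subtype = core w := by
  obtain ⟨P, -, -, -, -, hs⟩ := h.setting
  haveI := Fintype.ofFinite G
  obtain ⟨N, hN, hodd, hmem, hi⟩ := complement hs (a := 2) two_pos (by norm_num)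
  refine ⟨N, hN, hodd, hmem, by rw [hi]; norm_num, ?_⟩
  apply le_antisymm
  · rintro _ ⟨y, hy, rfl⟩
    refine subset_closure ⟨mem_centralizer_singleton_iff.1 y.2, ?_⟩
    rw [Subgroup.coe_subtype, Subgroup.orderOf_coe, Nat.odd_iff]
    have := (hmem y).1 hy
    omega
  · rw [core, closure_le]
    rintro x ⟨hc, ho⟩
    refine ⟨⟨x, mem_centralizer_singleton_iff.2 hc.eq⟩, (hmem _).2 ?_, rfl⟩
    rw [Subgroup.orderOf_mk]
    exact fun hd => absurd ho (Nat.not_odd_iff_even.2 (even_iff_two_dvd.2 hd))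

theorem Hyp.mem_core (h : Hyp w τ) {x : G} :
    x ∈ core w ↔ Commute x (w ^ 2) ∧ Odd (orderOf x) := by
  refine ⟨fun hx => ?_, fun hx => subset_closure hx⟩
  obtain ⟨N, -, -, hmem, -, hm⟩ := h.exists_complement
  rw [← hm] at hx
  obtain ⟨y, hy, rfl⟩ := hx
  refine ⟨mem_centralizer_singleton_iff.1 y.2, ?_⟩
  rw [Subgroup.coe_subtype, Subgroup.orderOf_coe, Nat.odd_iff]
  have := (hmem y).1 hy
  omega

theorem Hyp.card_cent (h : Hyp w τ) :
    Nat.card (centralizer ({w ^ 2} : Set G)) = 8 * Nat.card (core w) := by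
  obtain ⟨N, -, -, -, hi, hm⟩ := h.exists_complement
  rw [← hm, Nat.card_congr (equivMapOfInjective _ _ (subtype_injective _)).toEquiv.symm,
    ← N.index_mul_card, hi]

theorem Hyp.odd_core (h : Hyp w τ) : Odd (Nat.card (core w)) := by
  obtain ⟨N, -, hodd, -, -, hm⟩ := h.exists_complement
  rw [← hm, Nat.card_congr (equivMapOfInjective _ _ (subtype_injective _)).toEquiv.symm, Nat.odd_iff]
  omega

theorem Hyp.conj_core (h : Hyp w τ) {c x : G} (hc : Commute c (w ^ 2)) (hx : x ∈ core w) :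
    c * x * c⁻¹ ∈ core w := by
  rw [h.mem_core] at hx ⊢
  refine ⟨?_, ?_⟩
  · show c * x * c⁻¹ * w ^ 2 = w ^ 2 * (c * x * c⁻¹)
    calc c * x * c⁻¹ * w ^ 2 = c * x * (c⁻¹ * w ^ 2) := by group
      _ = c * (x * w ^ 2) * c⁻¹ := by rw [hc.inv_left.eq]; group
      _ = c * w ^ 2 * (x * c⁻¹) := by rw [hx.1.eq]; group
      _ = w ^ 2 * (c * x * c⁻¹) := by rw [hc.eq]; group
  · rw [show c * x * c⁻¹ = MulAut.conj c x by simp, MulEquiv.orderOf_eq]
    exact hx.2

theorem Hyp.w_core (h : Hyp w τ) : ∀ k ∈ core w, w * k * w⁻¹ = k⁻¹ :=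
  h.inverts (fun _ hk => (h.mem_core.1 hk).2) h.ord (fun _ hk => h.conj_core (Commute.self_pow w 2) hk)
    fun _ hk => (h.mem_core.1 hk).1.symm

theorem Hyp.core_comm (h : Hyp w τ) {a b : G} (ha : a ∈ core w) (hb : b ∈ core w) : Commute a b := by
  have e : a⁻¹ * b⁻¹ = (a * b)⁻¹ := by
    rw [← h.w_core _ (mul_mem ha hb), ← h.w_core a ha, ← h.w_core b hb]; group
  rw [mul_inv_rev] at e
  exact Commute.inv_inv_iff.1 e

theorem Hyp.w_inv_iff (h : Hyp w τ) {k : G} (hk : k ∈ core w) :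
    Commute k (w * τ) ↔ τ * k * τ⁻¹ = k⁻¹ := by
  have h1 : w * τ * k * (w * τ)⁻¹ = (τ * k * τ⁻¹)⁻¹ := by
    rw [← h.w_core _ (h.conj_core h.tau_comm hk)]; group
  constructor
  · intro hc
    rw [← hc.eq, mul_inv_cancel_right] at h1
    exact inv_eq_iff_eq_inv.1 h1.symm
  · intro e
    rw [e, inv_inv] at h1
    exact (mul_inv_eq_iff_eq_mul.1 h1).symm

theorem Hyp.card_core (h : Hyp w τ) :
    Nat.card (core w) = Nat.card (uPart w τ) * Nat.card (uPart w (w * τ)) := by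
  let f : uPart w τ × uPart w (w * τ) → core w :=
    fun p => ⟨(p.1 : G) * p.2, mul_mem (mem_uPart.1 p.1.2).1 (mem_uPart.1 p.2.2).1⟩
  rw [← Nat.card_prod]
  refine (Nat.card_congr (Equiv.ofBijective f ⟨?_, ?_⟩)).symm
  · rintro ⟨a, b⟩ ⟨c, d⟩ e
    have e' : (a : G) * b = c * d := congrArg Subtype.val e
    set z := (c : G)⁻¹ * a with hz
    have hz1 : z ∈ uPart w τ := mul_mem (inv_mem c.2) a.2
    have hz2 : z ∈ uPart w (w * τ) := by
      have e3 : z = (d : G) * (b : G)⁻¹ := by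
        rw [hz, eq_mul_inv_iff_mul_eq, mul_assoc, e', inv_mul_cancel_left]
      rw [e3]; exact mul_mem d.2 (inv_mem b.2)
    have hzo := (mem_uPart.1 hz1).1
    have hzw : Commute z w := by
      have := (mem_uPart.1 hz2).2.mul_right (mem_uPart.1 hz1).2
      rwa [mul_assoc, h.tau_mul_self, mul_one] at this
    have h2 := h.w_core z hzo
    rw [← hzw.eq, mul_inv_cancel_right] at h2
    have hz0 : z = 1 := by
      refine orderOf_eq_one_iff.1 ?_
      have hd : orderOf z ∣ 2 := orderOf_dvd_of_pow_eq_one (by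
        rw [pow_two]; nth_rewrite 1 [h2]; exact inv_mul_cancel z)
      exact ((Nat.dvd_prime Nat.prime_two).1 hd).resolve_right fun e2 => by
        have := (h.mem_core.1 hzo).2
        rw [e2] at this
        exact absurd this (by decide)
    have hac : (a : G) = c := (inv_mul_eq_one.1 hz0).symm
    rw [hac] at e'
    exact Prod.ext (Subtype.ext hac) (Subtype.ext (mul_left_cancel e'))
  · rintro ⟨k, hk⟩
    obtain ⟨j, hj⟩ := h.odd_core
    set y := k ^ (j + 1) with hy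
    have hyo : y ∈ core w := pow_mem hk _
    have hk1 : k ^ Nat.card (core w) = 1 := congrArg Subtype.val (pow_card_eq_one' (x := (⟨k, hk⟩ : core w)))
    have hyy : y * y = k := by
      rw [hy, ← pow_add, show j + 1 + (j + 1) = Nat.card (core w) + 1 by omega, pow_succ, hk1, one_mul]
    set y' := τ * y * τ⁻¹ with hy'
    have hy'o : y' ∈ core w := h.conj_core h.tau_comm hyo
    have hcy := h.core_comm hyo hy'o
    have hττ : τ * y' * τ⁻¹ = y := by
      rw [hy', h.tau_inv]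
      calc τ * (τ * y * τ) * τ = (τ * τ) * y * (τ * τ) := by group
        _ = y := by rw [h.tau_mul_self, one_mul, mul_one]
    refine ⟨(⟨y * y', mem_uPart.2 ⟨mul_mem hyo hy'o, ?_⟩⟩,
      ⟨y * y'⁻¹, mem_uPart.2 ⟨mul_mem hyo (inv_mem hy'o), ?_⟩⟩), Subtype.ext ?_⟩
    · have : τ * (y * y') * τ⁻¹ = y * y' := by
        rw [show τ * (y * y') * τ⁻¹ = τ * y * τ⁻¹ * (τ * y' * τ⁻¹) by group, ← hy', hττ]
        exact hcy.eq.symm
      exact (mul_inv_eq_iff_eq_mul.1 this).symm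
    · refine (h.w_inv_iff (mul_mem hyo (inv_mem hy'o))).2 ?_
      rw [show τ * (y * y'⁻¹) * τ⁻¹ = τ * y * τ⁻¹ * (τ * y' * τ⁻¹)⁻¹ by group, ← hy', hττ,
        mul_inv_rev, inv_inv]
    · show y * y' * (y * y'⁻¹) = k
      rw [mul_assoc, ← mul_assoc y' y, ← hcy.eq, mul_assoc y y', mul_inv_cancel, mul_one, hyy]

/-- The decomposition of the centraliser of `w ^ 2`. -/
theorem Hyp.decomp (h : Hyp w τ) {x : G} (hx : Commute x (w ^ 2)) :
    ∃ a ∈ core w, ∃ l : ℤ, x = a * w ^ l ∨ x = a * (w ^ l * τ) := by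
  obtain ⟨P, h8, hw, hτ, hc, -⟩ := h.setting
  set C := centralizer ({w ^ 2} : Set G) with hC
  have hPC : (P : Subgroup G) ≤ C := by
    rw [← hc, closure_le]
    rintro y (rfl | rfl)
    · exact mem_centralizer_singleton_iff.2 (Commute.self_pow y 2).eq
    · exact mem_centralizer_singleton_iff.2 h.tau_comm.eq
  have hOC : core w ≤ C := fun y hy => mem_centralizer_singleton_iff.2 (h.mem_core.1 hy).1.eq
  let f : core w × (P : Subgroup G) → C :=
    fun p => ⟨(p.1 : G) * p.2, mul_mem (hOC p.1.2) (hPC p.2.2)⟩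
  have hinj : Function.Injective f := by
    rintro ⟨a, b⟩ ⟨c, d⟩ e
    have e' : (a : G) * b = c * d := congrArg Subtype.val e
    have hz : (c : G)⁻¹ * a = (d : G) * (b : G)⁻¹ := by
      rw [eq_mul_inv_iff_mul_eq, mul_assoc, e', inv_mul_cancel_left]
    have hz0 : (c : G)⁻¹ * a = 1 := by
      refine orderOf_eq_one_iff.1 (Nat.eq_one_of_dvd_coprimes ?_
        (Subgroup.orderOf_dvd_natCard _ (mul_mem (inv_mem c.2) a.2))
        (hz ▸ Subgroup.orderOf_dvd_natCard _ (mul_mem d.2 (inv_mem b.2))))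
      rw [show Nat.card (P : Subgroup G) = 2 ^ 3 from h8]
      exact (Nat.coprime_two_right.2 h.odd_core).pow_right 3
    have hac : (a : G) = c := (inv_mul_eq_one.1 hz0).symm
    rw [hac] at e'
    exact Prod.ext (Subtype.ext hac) (Subtype.ext (mul_left_cancel e'))
  have hbij := (Nat.bijective_iff_injective_and_card f).2 ⟨hinj, by
    rw [Nat.card_prod, h.card_cent, show Nat.card (P : Subgroup G) = 8 from h8, mul_comm]⟩
  obtain ⟨⟨a, b⟩, e⟩ := hbij.2 ⟨x, mem_centralizer_singleton_iff.2 hx.eq⟩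
  have e' : (a : G) * b = x := congrArg Subtype.val e
  refine ⟨a, a.2, ?_⟩
  rcases h.mem_syl hc h8 b.2 with hm | hm <;> obtain ⟨l, hl⟩ := mem_zpowers_iff.1 hm
  · exact ⟨l, Or.inl (by rw [hl, e'])⟩
  · exact ⟨l, Or.inr (by rw [hl, mul_assoc (b : G), h.tau_mul_self, mul_one, e'])⟩

theorem Hyp.w_zpow_core (h : Hyp w τ) (l : ℤ) {k : G} (hk : k ∈ core w) :
    (Even l → Commute (w ^ l) k) ∧ (¬ Even l → w ^ l * k * (w ^ l)⁻¹ = k⁻¹) := by
  have heven : ∀ j : ℤ, Even j → Commute (w ^ j) k := by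
    rintro j ⟨i, rfl⟩
    have hc : Commute (w ^ 2) k := (h.mem_core.1 hk).1.symm
    rw [show i + i = (2 : ℕ) * i by push_cast; ring, zpow_mul, zpow_natCast]
    exact hc.zpow_left i
  refine ⟨heven l, fun ho => ?_⟩
  obtain ⟨i, rfl⟩ := Int.not_even_iff_odd.1 ho
  calc w ^ (2 * i + 1) * k * (w ^ (2 * i + 1))⁻¹
      = w ^ (2 * i) * (w * k * w⁻¹) * (w ^ (2 * i))⁻¹ := by group
    _ = k⁻¹ := by
      rw [h.w_core k hk, ((heven _ (even_two_mul i)).inv_right).eq, mul_inv_cancel_right]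

theorem Hyp.zpow_even (h : Hyp w τ) {l : ℤ} (hl : Even l) : w ^ l = 1 ∨ w ^ l = w ^ 2 := by
  obtain ⟨i, rfl⟩ := hl
  have e : w ^ (i + i) = (w ^ 2) ^ i := by
    rw [show i + i = (2 : ℕ) * i by push_cast; ring, zpow_mul, zpow_natCast]
  rcases Int.even_or_odd i with ⟨j, rfl⟩ | ⟨j, rfl⟩
  · left
    rw [e, ← two_mul, zpow_mul, zpow_two, h.t_mul_self, one_zpow]
  · right
    rw [e, zpow_add, zpow_one, zpow_mul, zpow_two, h.t_mul_self, one_zpow, one_mul]

theorem Hyp.tau_zpow (h : Hyp w τ) {l : ℤ} (hl : ¬ Even l) : ¬ Commute (w ^ l) τ := by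
  intro hc
  have h1 : τ * w ^ l * τ⁻¹ = (w ^ l)⁻¹ := by rw [← conj_zpow, h.rel, inv_zpow]
  rw [← hc.eq, mul_inv_cancel_right] at h1
  obtain ⟨i, rfl⟩ := Int.not_even_iff_odd.1 hl
  have h3 : w ^ (2 * i + 1) * w ^ (2 * i + 1) = 1 := by nth_rewrite 1 [h1]; exact inv_mul_cancel _
  rw [← zpow_add] at h3
  have h4 : (4 : ℤ) ∣ 2 * i + 1 + (2 * i + 1) := by
    have := orderOf_dvd_iff_zpow_eq_one.2 h3
    rwa [h.ord] at this
  omega

/-- The centraliser of the four-group. -/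
theorem Hyp.cent_pair (h : Hyp w τ) {x : G} (hx : Commute x (w ^ 2)) (hxτ : Commute x τ) :
    ∃ a ∈ uPart w τ, x = a ∨ x = a * w ^ 2 ∨ x = a * τ ∨ x = a * (w ^ 2 * τ) := by
  obtain ⟨a, ha, l, hl⟩ := h.decomp hx
  have hττ : Commute (τ * τ) x := by rw [h.tau_mul_self]; exact Commute.one_left x
  obtain ⟨b, hb, hxb⟩ : ∃ b, (b = w ^ l ∨ b = w ^ l * τ) ∧ x = a * b := by
    rcases hl with e | e
    exacts [⟨_, Or.inl rfl, e⟩, ⟨_, Or.inr rfl, e⟩]
  have hbt : Commute b (w ^ 2) := by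
    have hw : Commute (w ^ l) (w ^ 2) := ((Commute.refl w).pow_right 2).zpow_left l
    rcases hb with rfl | rfl
    exacts [hw, hw.mul_left h.tau_comm]
  -- both factors commute with `τ`
  have ha' : τ * a * τ⁻¹ ∈ core w := h.conj_core h.tau_comm ha
  have hz : a⁻¹ * (τ * a * τ⁻¹) = b * (τ * b * τ⁻¹)⁻¹ := by
    have e : τ * a * τ⁻¹ * (τ * b * τ⁻¹) = a * b := by
      rw [show τ * a * τ⁻¹ * (τ * b * τ⁻¹) = τ * (a * b) * τ⁻¹ by group, ← hxb, hxτ.symm.eq,
        mul_inv_cancel_right]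
    rw [eq_mul_inv_iff_mul_eq, mul_assoc, e, inv_mul_cancel_left]
  obtain ⟨P, h8, hw, hτ, hc, -⟩ := h.setting
  have hbP : b ∈ (P : Subgroup G) := by
    rcases hb with rfl | rfl
    exacts [zpow_mem hw l, mul_mem (zpow_mem hw l) hτ]
  have hz0 : a⁻¹ * (τ * a * τ⁻¹) = 1 := by
    refine orderOf_eq_one_iff.1 (Nat.eq_one_of_dvd_coprimes ?_
      (Subgroup.orderOf_dvd_natCard _ (mul_mem (inv_mem ha) ha'))
      (hz ▸ Subgroup.orderOf_dvd_natCard _
        (mul_mem hbP (inv_mem (mul_mem (mul_mem hτ hbP) (inv_mem hτ))))))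
    rw [show Nat.card (P : Subgroup G) = 2 ^ 3 from h8]
    exact (Nat.coprime_two_right.2 h.odd_core).pow_right 3
  have haτ : Commute a τ := by
    have := inv_mul_eq_one.1 hz0
    exact (mul_inv_eq_iff_eq_mul.1 this.symm).symm
  have hbτ : Commute b τ := by
    rw [hz0] at hz
    exact (mul_inv_eq_iff_eq_mul.1 (mul_inv_eq_one.1 hz.symm).symm).symm
  have hev : Even l := by
    by_contra ho
    refine h.tau_zpow ho ?_
    rcases hb with rfl | rfl
    · exact hbτ
    · have := hbτ.mul_left (Commute.refl τ)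
      rwa [mul_assoc, h.tau_mul_self, mul_one] at this
  refine ⟨a, mem_uPart.2 ⟨ha, haτ⟩, ?_⟩
  rcases hb with rfl | rfl <;> rcases h.zpow_even hev with e | e <;> rw [e] at hxb <;>
    simp [hxb]

theorem Hyp.card_pair (h : Hyp w τ) :
    Nat.card (centralizer ({w ^ 2, τ} : Set G)) = 4 * Nat.card (uPart w τ) := by
  let b : Fin 4 → G := ![1, w ^ 2, τ, w ^ 2 * τ]
  have hb : ∀ i, Commute (b i) (w ^ 2) ∧ Commute (b i) τ := by
    intro i
    fin_cases i
    exacts [⟨Commute.one_left _, Commute.one_left _⟩, ⟨Commute.refl _, h.tau_comm.symm⟩,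
      ⟨h.tau_comm, Commute.refl _⟩,
      ⟨(Commute.refl _).mul_left h.tau_comm, h.tau_comm.symm.mul_left (Commute.refl _)⟩]
  have hmem : ∀ x : G, x ∈ centralizer ({w ^ 2, τ} : Set G) ↔ Commute x (w ^ 2) ∧ Commute x τ := by
    intro x
    simp [mem_centralizer_iff, Commute, SemiconjBy, eq_comm]
  let f : Fin 4 × uPart w τ → centralizer ({w ^ 2, τ} : Set G) := fun p =>
    ⟨(p.2 : G) * b p.1, (hmem _).2
      ⟨(h.mem_core.1 (mem_uPart.1 p.2.2).1).1.mul_left (hb p.1).1,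
        (mem_uPart.1 p.2.2).2.mul_left (hb p.1).2⟩⟩
  rw [← Nat.card_fin 4, ← Nat.card_prod]
  refine (Nat.card_congr (Equiv.ofBijective f ⟨?_, ?_⟩)).symm
  · rintro ⟨i, a⟩ ⟨j, c⟩ e
    have e' : (a : G) * b i = c * b j := congrArg Subtype.val e
    obtain ⟨P, h8, hw, hτ, -, -⟩ := h.setting
    have hbP : ∀ i, b i ∈ (P : Subgroup G) := by
      intro i
      fin_cases i
      exacts [one_mem _, pow_mem hw 2, hτ, mul_mem (pow_mem hw 2) hτ]
    have hz : (c : G)⁻¹ * a = b j * (b i)⁻¹ := by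
      rw [eq_mul_inv_iff_mul_eq, mul_assoc, e', inv_mul_cancel_left]
    have hz0 : (c : G)⁻¹ * a = 1 := by
      refine orderOf_eq_one_iff.1 (Nat.eq_one_of_dvd_coprimes ?_
        (Subgroup.orderOf_dvd_natCard _
          (mul_mem (inv_mem (mem_uPart.1 c.2).1) (mem_uPart.1 a.2).1))
        (hz ▸ Subgroup.orderOf_dvd_natCard _ (mul_mem (hbP j) (inv_mem (hbP i)))))
      rw [show Nat.card (P : Subgroup G) = 2 ^ 3 from h8]
      exact (Nat.coprime_two_right.2 h.odd_core).pow_right 3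
    have hac : (a : G) = c := (inv_mul_eq_one.1 hz0).symm
    rw [hac] at e'
    refine Prod.ext ?_ (Subtype.ext hac)
    have hbb : b i = b j := mul_left_cancel e'
    have hne : τ ≠ w ^ 2 := fun e2 => h.tau_notMem (e2 ▸ pow_mem (mem_zpowers w) 2)
    have hne2 : w ^ 2 * τ ≠ 1 := fun e2 => hne (by
      rw [eq_inv_of_mul_eq_one_right e2]; exact inv_eq_of_mul_eq_one_right h.t_mul_self)
    fin_cases i <;> fin_cases j <;>
      simp [b, h.w_sq_ne, h.tau_ne, hne, Ne.symm hne, hne2, Ne.symm hne2, Ne.symm h.w_sq_ne,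
        Ne.symm h.tau_ne] at hbb ⊢
  · rintro ⟨x, hx⟩
    obtain ⟨a, ha, e⟩ := h.cent_pair ((hmem x).1 hx).1 ((hmem x).1 hx).2
    rcases e with e | e | e | e
    exacts [⟨(0, ⟨a, ha⟩), Subtype.ext (by simp [f, b, e])⟩, ⟨(1, ⟨a, ha⟩), Subtype.ext (by simp [f, b, e])⟩,
      ⟨(2, ⟨a, ha⟩), Subtype.ext (by simp [f, b, e])⟩, ⟨(3, ⟨a, ha⟩), Subtype.ext (by simp [f, b, e])⟩]

end Cfsg.Agent.CentFour75
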