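import Mathlib
import Cfsg.Agent.Lib.CentFour75Local

/-!
The centraliser of the odd part of the centraliser of a four-group.
-/

set_option autoImplicit false
set_option linter.style.haveILetI false
set_option linter.unusedSectionVars false

namespace Cfsg.Agent.CentFour75

open Subgroup

universe u

variable {G : Type u} [Group G] [Finite G] {w τ : G}

/-- The centraliser of `uPart`. -/
def hSub (w τ : G) : Subgroup G := centralizer ((uPart w τ : Subgroup G) : Set G)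

theorem mem_hSub {x : G} : x ∈ hSub w τ ↔ ∀ k ∈ uPart w τ, Commute x k := by
  rw [hSub, mem_centralizer_iff]
  exact ⟨fun h k hk => (h k hk).symm, fun h k hk => (h k hk).symm.eq⟩

/-- The four elements of the four-group. -/
def fourFun (w τ : G) : Fin 4 → G := ![1, w ^ 2, τ, w ^ 2 * τ]

theorem Hyp.fourFun_comm (h : Hyp w τ) (i : Fin 4) :
    Commute (fourFun w τ i) (w ^ 2) ∧ Commute (fourFun w τ i) τ := by
  fin_cases i
  exacts [⟨Commute.one_left _, Commute.one_left _⟩, ⟨Commute.refl _, h.tau_comm.symm⟩,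
    ⟨h.tau_comm, Commute.refl _⟩,
    ⟨(Commute.refl _).mul_left h.tau_comm, h.tau_comm.symm.mul_left (Commute.refl _)⟩]

theorem Hyp.tau_w_inv (h : Hyp w τ) : τ * w⁻¹ = w * τ := by
  calc τ * w⁻¹ = w * (w⁻¹ * τ) * w⁻¹ := by group
    _ = w * (τ * w) * w⁻¹ := by rw [h.tau_w]
    _ = w * τ := by group

theorem Hyp.tau_ne_t (h : Hyp w τ) : τ ≠ w ^ 2 :=
  fun e => h.tau_notMem (e ▸ pow_mem (mem_zpowers w) 2)

theorem Hyp.t_tau_ne_one (h : Hyp w τ) : w ^ 2 * τ ≠ 1 := fun e2 => h.tau_ne_t (by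
  rw [eq_inv_of_mul_eq_one_right e2]; exact inv_eq_of_mul_eq_one_right h.t_mul_self)

theorem Hyp.fourFun_injective (h : Hyp w τ) : Function.Injective (fourFun w τ) := by
  intro i j hij
  have hne := h.tau_ne_t
  have hne2 := h.t_tau_ne_one
  fin_cases i <;> fin_cases j <;>
    simp [fourFun, h.w_sq_ne, h.tau_ne, hne, Ne.symm hne, hne2, Ne.symm hne2, Ne.symm h.w_sq_ne,
      Ne.symm h.tau_ne] at hij ⊢

theorem Hyp.fourFun_sq (h : Hyp w τ) (i : Fin 4) : fourFun w τ i * fourFun w τ i = 1 := by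
  fin_cases i
  exacts [one_mul 1, h.t_mul_self, h.tau_mul_self,
    (h.tau_comm.mul_mul_mul_comm (w ^ 2) τ).trans (by rw [h.t_mul_self, h.tau_mul_self, one_mul])]

theorem Hyp.mul_inj (h : Hyp w τ) {a c : G} (ha : a ∈ core w) (hc : c ∈ core w) {i j : Fin 4}
    (e : a * fourFun w τ i = c * fourFun w τ j) : a = c ∧ i = j := by
  obtain ⟨P, h8, hw, hτ, -, -⟩ := h.setting
  have hbP : ∀ i, fourFun w τ i ∈ (P : Subgroup G) := by
    intro i
    fin_cases i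
    exacts [one_mem _, pow_mem hw 2, hτ, mul_mem (pow_mem hw 2) hτ]
  have hz : c⁻¹ * a = fourFun w τ j * (fourFun w τ i)⁻¹ := by
    rw [eq_mul_inv_iff_mul_eq, mul_assoc, e, inv_mul_cancel_left]
  have hz0 : c⁻¹ * a = 1 := by
    refine orderOf_eq_one_iff.1 (Nat.eq_one_of_dvd_coprimes ?_
      (Subgroup.orderOf_dvd_natCard _ (mul_mem (inv_mem hc) ha))
      (hz ▸ Subgroup.orderOf_dvd_natCard _ (mul_mem (hbP j) (inv_mem (hbP i)))))
    rw [show Nat.card (P : Subgroup G) = 2 ^ 3 from h8]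
    exact (Nat.coprime_two_right.2 h.odd_core).pow_right 3
  obtain rfl := (inv_mul_eq_one.1 hz0).symm
  exact ⟨rfl, h.fourFun_injective (mul_left_cancel e)⟩

theorem Hyp.uPart_sq (h : Hyp w τ) {k : G} (hk : k ∈ core w) (h2 : k * k = 1) : k = 1 := by
  refine orderOf_eq_one_iff.1 (((Nat.dvd_prime Nat.prime_two).1
    (orderOf_dvd_of_pow_eq_one (by rw [pow_two]; exact h2))).resolve_right fun e => ?_)
  have := (h.mem_core.1 hk).2
  rw [e] at this
  exact absurd this (by decide)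

/-- No element inverting `uPart` lies in `hSub`. -/
theorem Hyp.not_mem_of_inverts (h : Hyp w τ) (hU : uPart w τ ≠ ⊥) {y : G}
    (hy : ∀ k ∈ uPart w τ, y * k * y⁻¹ = k⁻¹) : y ∉ hSub w τ := fun hm => by
  obtain ⟨k, hk, hk1⟩ := (Subgroup.bot_or_exists_ne_one _).resolve_left hU
  refine hk1 (h.uPart_sq (mem_uPart.1 hk).1 ?_)
  have e := hy k hk
  rw [(mem_hSub.1 hm k hk).eq, mul_inv_cancel_right] at e
  nth_rewrite 1 [e]
  exact inv_mul_cancel k

theorem Hyp.core_le_hSub (h : Hyp w τ) : core w ≤ hSub w τ := fun _ ha =>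
  mem_hSub.2 fun _ hk => h.core_comm ha (mem_uPart.1 hk).1

theorem Hyp.fourFun_mem_hSub (h : Hyp w τ) (i : Fin 4) : fourFun w τ i ∈ hSub w τ := by
  refine mem_hSub.2 fun k hk => ?_
  have h1 : Commute (w ^ 2) k := (h.mem_core.1 (mem_uPart.1 hk).1).1.symm
  have h2 : Commute τ k := (mem_uPart.1 hk).2.symm
  fin_cases i
  exacts [Commute.one_left k, h1, h2, h1.mul_left h2]

theorem Hyp.cent_hSub (h : Hyp w τ) (hU : uPart w τ ≠ ⊥) {x : G} (hx : Commute x (w ^ 2))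
    (hxH : x ∈ hSub w τ) : ∃ a ∈ core w, ∃ i, x = a * fourFun w τ i := by
  obtain ⟨a, ha, l, hl⟩ := h.decomp hx
  have hev : Even l := by
    by_contra ho
    rcases hl with e | e <;> refine h.not_mem_of_inverts hU ?_ hxH <;> intro k hk
    · rw [e, show a * w ^ l * k * (a * w ^ l)⁻¹ = a * (w ^ l * k * (w ^ l)⁻¹) * a⁻¹ by group,
        (h.w_zpow_core l (mem_uPart.1 hk).1).2 ho,
        (h.core_comm ha (inv_mem (mem_uPart.1 hk).1)).eq, mul_inv_cancel_right]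
    · rw [e, show a * (w ^ l * τ) * k * (a * (w ^ l * τ))⁻¹ =
          a * (w ^ l * (τ * k * τ⁻¹) * (w ^ l)⁻¹) * a⁻¹ by group,
        (mem_uPart.1 hk).2.symm.eq, mul_inv_cancel_right,
        (h.w_zpow_core l (mem_uPart.1 hk).1).2 ho,
        (h.core_comm ha (inv_mem (mem_uPart.1 hk).1)).eq, mul_inv_cancel_right]
  refine ⟨a, ha, ?_⟩
  rcases h.zpow_even hev with e | e <;> rcases hl with e' | e' <;> rw [e] at e'
  exacts [⟨0, e'⟩, ⟨2, by simpa [fourFun] using e'⟩, ⟨1, e'⟩, ⟨3, e'⟩]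

theorem Hyp.card_cent_hSub (h : Hyp w τ) (hU : uPart w τ ≠ ⊥) :
    Nat.card (centralizer ({w ^ 2} : Set G) ⊓ hSub w τ : Subgroup G) = 4 * Nat.card (core w) := by
  let f : Fin 4 × core w → (centralizer ({w ^ 2} : Set G) ⊓ hSub w τ : Subgroup G) := fun p =>
    ⟨(p.2 : G) * fourFun w τ p.1,
      mem_centralizer_singleton_iff.2 ((h.mem_core.1 p.2.2).1.mul_left (h.fourFun_comm p.1).1).eq,
      mul_mem (h.core_le_hSub p.2.2) (h.fourFun_mem_hSub p.1)⟩
  rw [← Nat.card_fin 4, ← Nat.card_prod]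
  refine (Nat.card_congr (Equiv.ofBijective f ⟨?_, ?_⟩)).symm
  · rintro ⟨i, a⟩ ⟨j, c⟩ e
    obtain ⟨h1, h2⟩ := h.mul_inj a.2 c.2 (congrArg Subtype.val e)
    exact Prod.ext h2 (Subtype.ext h1)
  · rintro ⟨x, hx1, hx2⟩
    obtain ⟨a, ha, i, e⟩ := h.cent_hSub hU (mem_centralizer_singleton_iff.1 hx1) hx2
    exact ⟨(i, ⟨a, ha⟩), Subtype.ext e.symm⟩

/-- The four-group. -/
def fourSub (h : Hyp w τ) : Subgroup G where
  carrier := {x | Commute x (w ^ 2) ∧ Commute x τ ∧ x * x = 1}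
  one_mem' := ⟨Commute.one_left _, Commute.one_left _, one_mul 1⟩
  inv_mem' := fun {x} hx => ⟨hx.1.inv_left, hx.2.1.inv_left, by
    rw [← mul_inv_rev, hx.2.2, inv_one]⟩
  mul_mem' := fun {x y} hx hy => by
    refine ⟨hx.1.mul_left hy.1, hx.2.1.mul_left hy.2.1, ?_⟩
    have hcomm : Commute x y := by
      obtain ⟨a, ha, ea⟩ := h.cent_pair hx.1 hx.2.1
      obtain ⟨b, hb, eb⟩ := h.cent_pair hy.1 hy.2.1
      have key : ∀ {z c : G}, c ∈ uPart w τ → z * z = 1 →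
          (z = c ∨ z = c * w ^ 2 ∨ z = c * τ ∨ z = c * (w ^ 2 * τ)) → ∃ i, z = fourFun w τ i := by
        intro z c hc hz e
        obtain ⟨i, rfl⟩ : ∃ i, z = c * fourFun w τ i := by
          rcases e with e | e | e | e
          exacts [⟨0, by simpa [fourFun] using e⟩, ⟨1, e⟩, ⟨2, e⟩, ⟨3, e⟩]
        have hci : Commute (fourFun w τ i) c := mem_hSub.1 (h.fourFun_mem_hSub i) c hc
        rw [hci.mul_mul_mul_comm, h.fourFun_sq, mul_one] at hz
        exact ⟨i, by rw [h.uPart_sq (mem_uPart.1 hc).1 hz, one_mul]⟩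
      obtain ⟨i, rfl⟩ := key ha hx.2.2 ea
      obtain ⟨j, rfl⟩ := key hb hy.2.2 eb
      have h1 := h.fourFun_comm i
      fin_cases j
      exacts [Commute.one_right _, h1.1, h1.2, h1.1.mul_right h1.2]
    rw [hcomm.symm.mul_mul_mul_comm, hx.2.2, hy.2.2, one_mul]

theorem Hyp.mem_fourSub (h : Hyp w τ) {x : G} : x ∈ fourSub h ↔ ∃ i, x = fourFun w τ i := by
  constructor
  · rintro ⟨h1, h2, h3⟩
    obtain ⟨a, ha, e⟩ := h.cent_pair h1 h2
    obtain ⟨i, rfl⟩ : ∃ i, x = a * fourFun w τ i := by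
      rcases e with e | e | e | e
      exacts [⟨0, by simpa [fourFun] using e⟩, ⟨1, e⟩, ⟨2, e⟩, ⟨3, e⟩]
    have hci : Commute (fourFun w τ i) a := mem_hSub.1 (h.fourFun_mem_hSub i) a ha
    rw [hci.mul_mul_mul_comm, h.fourFun_sq, mul_one] at h3
    exact ⟨i, by rw [h.uPart_sq (mem_uPart.1 ha).1 h3, one_mul]⟩
  · rintro ⟨i, rfl⟩
    exact ⟨(h.fourFun_comm i).1, (h.fourFun_comm i).2, h.fourFun_sq i⟩

theorem Hyp.card_fourSub (h : Hyp w τ) : Nat.card (fourSub h) = 4 := by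
  rw [← Nat.card_fin 4]
  exact (Nat.card_congr (Equiv.ofBijective
    (fun i => (⟨fourFun w τ i, h.mem_fourSub.2 ⟨i, rfl⟩⟩ : fourSub h))
    ⟨fun i j e => h.fourFun_injective (congrArg Subtype.val e), fun x =>
      (h.mem_fourSub.1 x.2).imp fun i e => Subtype.ext e.symm⟩)).symm

theorem Hyp.fourSub_le (h : Hyp w τ) : fourSub h ≤ hSub w τ := fun x hx => by
  obtain ⟨i, rfl⟩ := h.mem_fourSub.1 hx
  exact h.fourFun_mem_hSub i

theorem Hyp.four_notMem_hSub (h : Hyp w τ) (hU : uPart w τ ≠ ⊥) {y : G} (hy : orderOf y = 4) :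
    y ∉ hSub w τ := fun hm => by
  obtain ⟨k, hk, hk1⟩ := (Subgroup.bot_or_exists_ne_one _).resolve_left hU
  refine hk1 (orderOf_eq_one_iff.1 (Nat.eq_one_of_dvd_coprimes (k := orderOf k) ?_ dvd_rfl
    (show orderOf k ∣ 4 from h.cent_four hy ▸ Subgroup.orderOf_dvd_natCard _
      (mem_centralizer_singleton_iff.2 (mem_hSub.1 hm k hk).symm.eq))))
  rw [show (4 : ℕ) = 2 ^ 2 by norm_num]
  exact (Nat.coprime_two_right.2 (h.mem_core.1 (mem_uPart.1 hk).1).2).pow_right 2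

theorem Hyp.eight_not_dvd (h : Hyp w τ) (hU : uPart w τ ≠ ⊥) : ¬ 8 ∣ Nat.card (hSub w τ) := by
  intro hd
  haveI : Fact (Nat.Prime 2) := ⟨Nat.prime_two⟩
  obtain ⟨R, hR⟩ := Sylow.exists_subgroup_card_pow_prime 2 (n := 3) (show 2 ^ 3 ∣ _ from hd)
  set R' := R.map (hSub w τ).subtype
  have hR' : Nat.card R' = 2 ^ 3 := by
    rw [Nat.card_congr (equivMapOfInjective _ _ (subtype_injective _)).toEquiv.symm, hR]
  obtain ⟨Q, hQ⟩ := (IsPGroup.of_card hR').exists_le_sylow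
  obtain ⟨P, h8, hw, -, -, -⟩ := h.setting
  obtain ⟨g, hg⟩ := MulAction.exists_smul_eq G P Q
  have hQR : R' = (Q : Subgroup G) := Subgroup.eq_of_le_of_card_ge hQ (by
    rw [hR', ← hg, Sylow.card_eq_multiplicity, ← Sylow.card_eq_multiplicity P]
    exact le_of_eq h8)
  have hgw : g * w * g⁻¹ ∈ R' := by
    rw [hQR, ← hg, Sylow.coe_subgroup_smul]
    exact (Subgroup.mem_map_iff_mem (MulAut.conj g).injective).2 hw
  refine h.four_notMem_hSub hU ?_ (Subgroup.map_subtype_le R hgw)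
  rw [show g * w * g⁻¹ = MulAut.conj g w by simp, MulEquiv.orderOf_eq, h.ord]

theorem Hyp.exists_sylow_hSub (h : Hyp w τ) (hU : uPart w τ ≠ ⊥) :
    ∃ V : Sylow 2 (hSub w τ), (V : Subgroup (hSub w τ)) = (fourSub h).subgroupOf (hSub w τ) ∧
      Nat.card V = 4 ∧ ∀ x : V, x * x = 1 := by
  haveI : Fact (Nat.Prime 2) := ⟨Nat.prime_two⟩
  set V₀ := (fourSub h).subgroupOf (hSub w τ) with hV
  have h4 : Nat.card V₀ = 2 ^ 2 := by
    rw [hV, Nat.card_congr (subgroupOfEquivOfLe h.fourSub_le).toEquiv, h.card_fourSub]; rfl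
  have hnd : ¬ 2 ∣ V₀.index := fun hd => h.eight_not_dvd hU (by
    rw [← V₀.index_mul_card, h4]
    obtain ⟨k, hk⟩ := hd
    exact ⟨k, by rw [hk]; ring⟩)
  have hco := IsPGroup.toSylow_coe (IsPGroup.of_card h4) hnd
  refine ⟨(IsPGroup.of_card h4).toSylow hnd, hco, ?_, ?_⟩
  · exact (congrArg (fun K : Subgroup (hSub w τ) => Nat.card K) hco).trans h4
  · rintro ⟨x, hx⟩
    rw [← SetLike.mem_coe] at hx
    have hx' : (x : G) ∈ fourSub h := hco.le hx
    exact Subtype.ext (Subtype.ext hx'.2.2)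

/-- An element of `hSub` permuting the three involutions of the four-group cyclically. -/
theorem Hyp.exists_cycle (h : Hyp w τ) (hU : uPart w τ ≠ ⊥) :
    ∃ g ∈ hSub w τ, g * w ^ 2 * g⁻¹ = τ ∧ g * τ * g⁻¹ = w ^ 2 * τ := by
  obtain ⟨c₀, hc₀⟩ := isConj_iff.1 (h.all τ h.tau)
  set i₀ := c₀⁻¹ * w ^ 2 * c₀ with hi₀
  have hi₀2 : i₀ * i₀ = 1 := by
    rw [hi₀, show c₀⁻¹ * w ^ 2 * c₀ * (c₀⁻¹ * w ^ 2 * c₀) = c₀⁻¹ * (w ^ 2 * w ^ 2) * c₀ by group,
      h.t_mul_self, mul_one, inv_mul_cancel]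
  have hi₀c : Commute i₀ (w ^ 2) := by
    have : Commute (w ^ 2) (c₀ * w ^ 2 * c₀⁻¹) := hc₀.symm ▸ h.tau_comm.symm
    show i₀ * w ^ 2 = w ^ 2 * i₀
    calc i₀ * w ^ 2 = c₀⁻¹ * (w ^ 2 * (c₀ * w ^ 2 * c₀⁻¹)) * c₀ := by rw [hi₀]; group
      _ = c₀⁻¹ * (c₀ * w ^ 2 * c₀⁻¹ * w ^ 2) * c₀ := by rw [this.eq]
      _ = w ^ 2 * i₀ := by rw [hi₀]; group
  have hi₀t : i₀ ≠ w ^ 2 := fun e => by
    refine h.tau_ne_t ?_
    rw [← hc₀]
    have : w ^ 2 * c₀ = c₀ * w ^ 2 := by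
      conv_rhs => rw [← e, hi₀]
      group
    rw [← this, mul_inv_cancel_right]
  have hi₀1 : i₀ ≠ 1 := fun e => h.w_sq_ne (by
    have := congrArg (fun z => c₀ * z * c₀⁻¹) e
    simpa [hi₀, mul_assoc] using this)
  obtain ⟨a, ha, l, hl⟩ := h.decomp hi₀c
  have hev : ∀ k ∈ core w, Even l → Commute (w ^ l) k := fun k hk => (h.w_zpow_core l hk).1
  rcases hl with e | e
  · -- impossible shape
    exfalso
    by_cases hl2 : Even l
    · rw [e, (hev a ha hl2).mul_mul_mul_comm] at hi₀2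
      rcases h.zpow_even hl2 with e2 | e2 <;> rw [e2] at hi₀2 e
      · rw [one_mul, mul_one] at hi₀2
        exact hi₀1 (by rw [e, mul_one, h.uPart_sq ha hi₀2])
      · rw [h.t_mul_self, mul_one] at hi₀2
        exact hi₀t (by rw [e, h.uPart_sq ha hi₀2, one_mul])
    · have h1 := (h.w_zpow_core l ha).2 hl2
      have h2 : w ^ l * a = a⁻¹ * w ^ l := by rw [← h1, inv_mul_cancel_right]
      rw [e, show a * w ^ l * (a * w ^ l) = a * (w ^ l * a) * w ^ l by group, h2,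
        show a * (a⁻¹ * w ^ l) * w ^ l = w ^ l * w ^ l by group, ← zpow_add] at hi₀2
      have h4 : (4 : ℤ) ∣ l + l := by
        have := orderOf_dvd_iff_zpow_eq_one.2 hi₀2
        rwa [h.ord] at this
      rw [Int.not_even_iff] at hl2
      omega
  set s := w ^ l * τ with hs
  have hwt : Commute (w ^ l) (w ^ 2) := ((Commute.refl w).pow_right 2).zpow_left l
  have hst : Commute s (w ^ 2) := hwt.mul_left h.tau_comm
  have hs2 : s * s = 1 := by
    have h1 : τ * w ^ l * τ⁻¹ = (w ^ l)⁻¹ := by rw [← conj_zpow, h.rel, inv_zpow]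
    rw [hs]
    calc w ^ l * τ * (w ^ l * τ) = w ^ l * (τ * w ^ l * τ⁻¹) * (τ * τ) := by group
      _ = 1 := by rw [h1, h.tau_mul_self, mul_one, mul_inv_cancel]
  have hsinv : s⁻¹ = s := inv_eq_of_mul_eq_one_right hs2
  have has : s * a * s⁻¹ = a⁻¹ := by
    rw [e] at hi₀2
    rw [hsinv]
    refine eq_inv_of_mul_eq_one_left ?_
    calc s * a * s * a = a⁻¹ * (a * s * (a * s)) * a := by group
      _ = 1 := by rw [hi₀2]; group
  -- a square root of `a` moves `i₀` to `s`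
  obtain ⟨j, hj⟩ := h.odd_core
  set d := a ^ (j + 1) with hd
  have hdo : d ∈ core w := pow_mem ha _
  have hdd : d * d = a := by
    have h1 : a ^ Nat.card (core w) = 1 :=
      congrArg Subtype.val (pow_card_eq_one' (x := (⟨a, ha⟩ : core w)))
    rw [hd, ← pow_add, show j + 1 + (j + 1) = Nat.card (core w) + 1 by omega, pow_succ, h1, one_mul]
  have hds : s * d * s⁻¹ = d⁻¹ := by rw [hd, ← conj_pow, has, inv_pow]
  set c := c₀ * d with hc
  have hct : c * w ^ 2 * c⁻¹ = τ := by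
    rw [← hc₀, hc, show c₀ * d * w ^ 2 * (c₀ * d)⁻¹ = c₀ * (d * w ^ 2) * d⁻¹ * c₀⁻¹ by group,
      (h.mem_core.1 hdo).1.eq]
    group
  have hci : c⁻¹ * w ^ 2 * c = s := by
    rw [hc, show (c₀ * d)⁻¹ * w ^ 2 * (c₀ * d) = d⁻¹ * i₀ * d by rw [hi₀]; group, e, ← hdd,
      show d⁻¹ * (d * d * s) * d = d * (s * d * s⁻¹) * s by group, hds, mul_inv_cancel, one_mul]
  have hws : w * s * w⁻¹ = w ^ 2 * s := by
    rw [hs, show w * (w ^ l * τ) * w⁻¹ = w ^ l * (w * (τ * w⁻¹)) by group,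
      show w * (τ * w⁻¹) = w ^ 2 * τ from by
        rw [h.tau_w_inv, pow_two, mul_assoc]]
    rw [← mul_assoc, hwt.eq, mul_assoc]
  set y := c * w * c⁻¹ with hy
  have hy2 : y ^ 2 = τ := by rw [hy, conj_pow, hct]
  have hy4 : orderOf y = 4 := by
    rw [hy, show c * w * c⁻¹ = MulAut.conj c w by simp, MulEquiv.orderOf_eq, h.ord]
  have hyt : y * w ^ 2 * y⁻¹ = w ^ 2 * τ := by
    calc y * w ^ 2 * y⁻¹ = c * (w * (c⁻¹ * w ^ 2 * c) * w⁻¹) * c⁻¹ := by rw [hy]; group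
      _ = c * w ^ 2 * c⁻¹ * (c * s * c⁻¹) := by rw [hci, hws]; group
      _ = τ * w ^ 2 := by rw [hct, ← hci]; group
      _ = w ^ 2 * τ := h.tau_comm.eq
  have hyτ : Commute y τ := hy2 ▸ Commute.self_pow y 2
  have hnorm : ∀ k ∈ uPart w τ, y * k * y⁻¹ ∈ uPart w τ := by
    intro k hk
    obtain ⟨hk1, hk2⟩ := mem_uPart.1 hk
    have hkt := (h.mem_core.1 hk1).1
    have a1 : Commute (y * k * y⁻¹) τ := by
      show _ = _
      calc y * k * y⁻¹ * τ = y * k * (y⁻¹ * τ) := by group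
        _ = y * (k * τ) * y⁻¹ := by rw [hyτ.inv_left.eq]; group
        _ = y * τ * (k * y⁻¹) := by rw [hk2.eq]; group
        _ = τ * (y * k * y⁻¹) := by rw [hyτ.eq]; group
    have a2 : Commute (y * k * y⁻¹) (w ^ 2 * τ) := by
      rw [← hyt]
      show _ = _
      calc y * k * y⁻¹ * (y * w ^ 2 * y⁻¹) = y * (k * w ^ 2) * y⁻¹ := by group
        _ = _ := by rw [hkt.eq]; group
    refine mem_uPart.2 ⟨h.mem_core.2 ⟨?_, ?_⟩, a1⟩
    · have := a2.mul_right a1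
      rwa [mul_assoc (w ^ 2), h.tau_mul_self, mul_one] at this
    · rw [show y * k * y⁻¹ = MulAut.conj y k by simp, MulEquiv.orderOf_eq]
      exact (h.mem_core.1 hk1).2
  have hyinv := h.inverts (K := uPart w τ) (fun k hk => (h.mem_core.1 (mem_uPart.1 hk).1).2) hy4 hnorm
    (fun k hk => hy2.symm ▸ (mem_uPart.1 hk).2.symm)
  have hwτ : w * τ * w⁻¹ = w ^ 2 * τ := by
    rw [mul_assoc, h.tau_w_inv, pow_two, mul_assoc]
  refine ⟨w * y, mem_hSub.2 fun k hk => ?_, ?_, ?_⟩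
  · show _ = _
    have h1 := h.w_core _ (inv_mem (mem_uPart.1 hk).1)
    rw [inv_inv] at h1
    calc w * y * k = w * (y * k * y⁻¹) * w⁻¹ * (w * y) := by group
      _ = k * (w * y) := by rw [hyinv k hk, h1]
  · rw [show w * y * w ^ 2 * (w * y)⁻¹ = w * (y * w ^ 2 * y⁻¹) * w⁻¹ by group, hyt,
      show w * (w ^ 2 * τ) * w⁻¹ = w ^ 2 * (w * τ * w⁻¹) by group, hwτ, ← mul_assoc, h.t_mul_self,
      one_mul]
  · rw [show w * y * τ * (w * y)⁻¹ = w * (y * τ * y⁻¹) * w⁻¹ by group, hyτ.eq,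
      mul_inv_cancel_right, hwτ]

theorem Hyp.one_class (h : Hyp w τ) (hU : uPart w τ ≠ ⊥) :
    ∀ s t : hSub w τ, orderOf s = 2 → orderOf t = 2 → IsConj s t := by
  haveI : Fact (Nat.Prime 2) := ⟨Nat.prime_two⟩
  obtain ⟨V, hV, -, -⟩ := h.exists_sylow_hSub hU
  obtain ⟨g, hg, hg1, hg2⟩ := h.exists_cycle hU
  let t₀ : hSub w τ := ⟨w ^ 2, h.fourFun_mem_hSub 1⟩
  have key : ∀ s : hSub w τ, orderOf s = 2 → IsConj t₀ s := by
    intro s hs
    obtain ⟨Q, hQ⟩ := (IsPGroup.of_card (p := 2) (n := 1)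
      (by rw [Nat.card_zpowers, hs, pow_one] : Nat.card (zpowers s) = 2 ^ 1)).exists_le_sylow
    obtain ⟨d, hd⟩ := MulAction.exists_smul_eq (hSub w τ) Q V
    have hmem : d * s * d⁻¹ ∈ (V : Subgroup (hSub w τ)) := by
      rw [← hd, Sylow.coe_subgroup_smul]
      exact (Subgroup.mem_map_iff_mem (MulAut.conj d).injective).2 (hQ (mem_zpowers s))
    refine IsConj.trans ?_ (isConj_iff.2 ⟨d⁻¹, by group⟩ : IsConj (d * s * d⁻¹) s)
    have hso : orderOf ((d * s * d⁻¹ : hSub w τ) : G) = 2 := by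
      rw [Subgroup.orderOf_coe, show d * s * d⁻¹ = MulAut.conj d s by simp, MulEquiv.orderOf_eq, hs]
    rw [hV, mem_subgroupOf, h.mem_fourSub] at hmem
    obtain ⟨i, hi⟩ := hmem
    generalize d * s * d⁻¹ = z at hi hso ⊢
    fin_cases i
    · rw [hi] at hso; simp [fourFun] at hso
    · rw [show z = t₀ from Subtype.ext hi]
    · exact isConj_iff.2 ⟨⟨g, hg⟩, Subtype.ext (hg1.trans hi.symm)⟩
    · exact isConj_iff.2 ⟨⟨g, hg⟩ * ⟨g, hg⟩, Subtype.ext (by
        show g * g * w ^ 2 * (g * g)⁻¹ = (z : G)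
        rw [show g * g * w ^ 2 * (g * g)⁻¹ = g * (g * w ^ 2 * g⁻¹) * g⁻¹ by group, hg1, hg2, hi]
        rfl)⟩
  exact fun s t hs ht => (key s hs).symm.trans (key t ht)

end Cfsg.Agent.CentFour75
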