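import Mathlib
import Cfsg.Agent.Lib.DihedralClassSums79

/-!
# The order formula for a dihedral Sylow 2-subgroup and one class of involutions
-/

set_option autoImplicit false
set_option linter.style.haveILetI false

open scoped ComplexConjugate

namespace Cfsg.Agent.DihedralOrder79

open Cfsg BlockTheoryLocalRing BlockTheoryCentre BlockTheoryIdem BlockContribPrime BlockContrib
  BlockSubsections79 SectionOrth79 DihedralRotations79 DihedralClassSums79
open DihedralPairs79 (Quot invCount pairCount)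

attribute [local instance] Classical.propDecidable

universe u

variable {G : Type u} [Group G] [Fintype G] {n : ℕ} {P : Sylow 2 G} {σ τ : G} {M : Ideal AlgInt}

/-- The pair count over a coset, in terms of the block. -/
theorem coset_value (hM : IsPModular 2 M) (h : Setting n P σ)
    (hall : ∀ w : G, IsConj (σ ^ 2 ^ (n - 2)) w ↔ orderOf w = 2)
    (N : Subgroup (Subgroup.centralizer ({σ ^ 2 ^ (n - 2)} : Set G))) [N.Normal]
    {s t : Subgroup.centralizer ({σ ^ 2 ^ (n - 2)} : Set G)} (hs : (s : G) = σ)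
    (H : Quot N (2 ^ (n - 2)) s t) {a e : ℕ} (h0 : 0 < a) (ha : a < 2 ^ (n - 1))
    (hae : a * e = 2 ^ (n - 2)) :
    (Nat.card (Subgroup.centralizer ({σ ^ 2 ^ (n - 2)} : Set G)) : ℂ) ^ 2 * (pairCount N (s ^ a) : ℂ) =
      (Nat.card N : ℂ) * ((Nat.card G : ℂ) * ∑ χ ∈ BlockContribBounds.members (principalBlock M G),
        (χ : G → ℂ) (σ ^ a) * (χ : G → ℂ) (σ ^ 2 ^ (n - 2)) * (χ : G → ℂ) (σ ^ 2 ^ (n - 2)) /
          (χ : G → ℂ) 1) := by
  have hsJ : ((s ^ 2 ^ (n - 2) : Subgroup.centralizer ({σ ^ 2 ^ (n - 2)} : Set G)) : G) = σ ^ 2 ^ (n - 2) := by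
    rw [SubmonoidClass.coe_pow, hs]
  have hsa : ((s ^ a : Subgroup.centralizer ({σ ^ 2 ^ (n - 2)} : Set G)) : G) = σ ^ a := by
    rw [SubmonoidClass.coe_pow, hs]
  have hJJ : σ ^ 2 ^ (n - 2) * σ ^ 2 ^ (n - 2) = 1 := DihedralPairs79.mul_self_of_two (orderOf_J h)
  obtain ⟨N', hN'n, hN'c, hN'm, -⟩ := complement h h0 ha
  haveI := hN'n
  set Nx := N ⊓ Subgroup.centralizer ({s ^ a} : Set (Subgroup.centralizer ({σ ^ 2 ^ (n - 2)} : Set G))) with hNx
  have hle : Subgroup.centralizer ({σ ^ a} : Set G) ≤ Subgroup.centralizer ({σ ^ 2 ^ (n - 2)} : Set G) := by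
    intro c hc
    rw [Subgroup.mem_centralizer_singleton_iff, ← hae, pow_mul]
    exact (Commute.pow_right (show Commute c (σ ^ a) from
      Subgroup.mem_centralizer_singleton_iff.1 hc) e).eq
  have hNxmem : ∀ y, y ∈ Nx ↔ ¬ 2 ∣ orderOf y ∧ (y : G) * σ ^ a = σ ^ a * (y : G) := by
    intro y
    rw [hNx, Subgroup.mem_inf, H.mem, Subgroup.mem_centralizer_singleton_iff, ← hsa]
    exact and_congr_right fun _ => ⟨fun e => by
      rw [← Subgroup.coe_mul, e, Subgroup.coe_mul], fun e => Subtype.ext (by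
      rw [Subgroup.coe_mul, Subgroup.coe_mul, e])⟩
  let φ : Nx ≃ N' :=
    { toFun := fun y => ⟨⟨((y : Subgroup.centralizer ({σ ^ 2 ^ (n - 2)} : Set G)) : G),
        Subgroup.mem_centralizer_singleton_iff.2 ((hNxmem _).1 y.2).2⟩, (hN'm _).2 (by
          rw [Subgroup.orderOf_mk]
          have := ((hNxmem _).1 y.2).1
          rwa [← Subgroup.orderOf_coe] at this)⟩
      invFun := fun y => ⟨⟨((y : Subgroup.centralizer ({σ ^ a} : Set G)) : G),
          hle (y : Subgroup.centralizer ({σ ^ a} : Set G)).2⟩,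
        (hNxmem _).2 ⟨by
          rw [Subgroup.orderOf_mk, Subgroup.orderOf_coe]
          exact (hN'm _).1 y.2, Subgroup.mem_centralizer_singleton_iff.1 (y : Subgroup.centralizer ({σ ^ a} : Set G)).2⟩⟩
      left_inv := fun y => rfl
      right_inv := fun y => rfl }
  have hcard : Nat.card Nx = Nat.card N' := Nat.card_congr φ
  have hcoset := DihedralPairs79.sum_coset (N := N) H.mem (x := s ^ a) (by
    obtain ⟨k, hk⟩ := pElem h a
    exact ⟨k, by rw [← Subgroup.orderOf_coe, hsa, hk]⟩)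
    (fun z => prodCount (σ ^ 2 ^ (n - 2)) (z : G)) (fun g d => by
      show prodCount (σ ^ 2 ^ (n - 2)) ((d * g * d⁻¹ : Subgroup.centralizer ({σ ^ 2 ^ (n - 2)} : Set G)) : G) = _
      rw [Subgroup.coe_mul, Subgroup.coe_mul, Subgroup.coe_inv, prodCount_conj])
  rw [← hNx, hcard] at hcoset
  have hrhs : (((∑ y : Nx, prodCount (σ ^ 2 ^ (n - 2))
      ((s ^ a * (y : Subgroup.centralizer ({σ ^ 2 ^ (n - 2)} : Set G)) :
        Subgroup.centralizer ({σ ^ 2 ^ (n - 2)} : Set G)) : G) : ℕ)) : ℂ) =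
      (Nat.card N' : ℂ) * ((Nat.card G : ℂ) * ∑ χ ∈ BlockContribBounds.members (principalBlock M G),
        (χ : G → ℂ) (σ ^ a) * (χ : G → ℂ) (σ ^ 2 ^ (n - 2)) * (χ : G → ℂ) (σ ^ 2 ^ (n - 2)) / (χ : G → ℂ) 1) := by
    rw [← sum_prodCount hM h hJJ h0 ha hN'c hN'm, ← Finset.sum_filter, Nat.cast_sum,
      ← Fintype.sum_equiv φ.symm (fun y => (prodCount (σ ^ 2 ^ (n - 2))
        (σ ^ a * ((y : Subgroup.centralizer ({σ ^ a} : Set G)) : G)) : ℂ)) _ (fun y => by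
          rw [Subgroup.coe_mul, hsa]; rfl)]
    exact (Finset.sum_subtype _ (fun y => by simp [hN'm y]) fun y : Subgroup.centralizer ({σ ^ a} : Set G) =>
      (prodCount (σ ^ 2 ^ (n - 2)) (σ ^ a * (y : G)) : ℂ)).symm
  have hlhs : ∑ z ∈ Finset.univ.filter (fun z : Subgroup.centralizer ({σ ^ 2 ^ (n - 2)} : Set G) =>
        (z : _ ⧸ N) = ((s ^ a : Subgroup.centralizer ({σ ^ 2 ^ (n - 2)} : Set G)) : _ ⧸ N)),
      prodCount (σ ^ 2 ^ (n - 2)) (z : G) =
      Nat.card (Subgroup.centralizer ({σ ^ 2 ^ (n - 2)} : Set G)) ^ 2 * pairCount N (s ^ a) := by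
    rw [pairCount, Finset.mul_sum]
    refine Finset.sum_congr rfl fun z hz => ?_
    rw [prodCount_eq hall]
    congr 1
    rw [Finset.mem_filter] at hz
    -- a power of `z` is `J`
    have hzJ : (z ^ e) ^ Nat.card N = s ^ 2 ^ (n - 2) := by
      have hze : ((z ^ e : Subgroup.centralizer ({σ ^ 2 ^ (n - 2)} : Set G)) : _ ⧸ N) =
          ((s ^ 2 ^ (n - 2) : Subgroup.centralizer ({σ ^ 2 ^ (n - 2)} : Set G)) : _ ⧸ N) := by
        rw [QuotientGroup.mk_pow, hz.2, ← QuotientGroup.mk_pow, ← pow_mul, hae]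
      obtain ⟨l, hl⟩ : ∃ l, Nat.card N = 2 * l + 1 :=
        Nat.not_even_iff_odd.1 fun ev => H.odd (even_iff_two_dvd.1 ev)
      have hJ2 : s ^ 2 ^ (n - 2) * s ^ 2 ^ (n - 2) = 1 := DihedralPairs79.mul_self_of_two (DihedralPairs79.orderOf_J H)
      refine DihedralPairs79.eq_J_of_coset H ?_ ?_
      · have hm : (z ^ e) ^ 2 ∈ N := by
          rw [← QuotientGroup.eq_one_iff, QuotientGroup.mk_pow, hze, ← QuotientGroup.mk_pow,
            pow_two, hJ2, QuotientGroup.mk_one]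
        rw [← pow_two, pow_right_comm]
        have := congrArg Subtype.val (pow_card_eq_one' (x := (⟨_, hm⟩ : N)))
        rwa [SubmonoidClass.coe_pow, OneMemClass.coe_one] at this
      · rw [QuotientGroup.mk_pow, hze, ← QuotientGroup.mk_pow, hl, pow_succ, pow_mul, pow_two, hJ2,
          one_pow, one_mul]
    symm
    refine Finset.card_bij (fun u _ => (u : G)) ?_ (fun u _ u' _ e => Subtype.ext e) ?_
    · intro u hu
      rw [Finset.mem_filter] at hu ⊢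
      exact ⟨Finset.mem_univ _, by rw [Subgroup.orderOf_coe]; exact hu.2.1, by
        rw [← Subgroup.coe_mul, Subgroup.orderOf_coe]; exact hu.2.2⟩
    · intro w hw
      rw [Finset.mem_filter] at hw
      obtain ⟨-, hw2, hwz⟩ := hw
      have hwi : w⁻¹ = w := inv_eq_of_mul_eq_one_right (DihedralPairs79.mul_self_of_two hw2)
      have h1 : w * (z : G) * w⁻¹ = (z : G)⁻¹ := by
        rw [hwi]
        refine eq_inv_of_mul_eq_one_left ?_
        rw [mul_assoc]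
        exact DihedralPairs79.mul_self_of_two hwz
      have h2 : ((z : G) ^ e) ^ Nat.card N = σ ^ 2 ^ (n - 2) := by
        have := congrArg Subtype.val hzJ
        rw [hsJ, SubmonoidClass.coe_pow, SubmonoidClass.coe_pow] at this
        exact this
      have hwC : w ∈ Subgroup.centralizer ({σ ^ 2 ^ (n - 2)} : Set G) := by
        rw [Subgroup.mem_centralizer_singleton_iff]
        refine mul_inv_eq_iff_eq_mul.1 ?_
        rw [← h2, ← conj_pow, ← conj_pow, h1, inv_pow, inv_pow, h2]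
        exact inv_eq_of_mul_eq_one_right hJJ
      refine ⟨⟨w, hwC⟩, ?_, rfl⟩
      rw [Finset.mem_filter]
      exact ⟨Finset.mem_univ _, by rw [Subgroup.orderOf_mk]; exact hw2, by
        rw [← Subgroup.orderOf_coe, Subgroup.coe_mul]; exact hwz⟩
  rw [hlhs] at hcoset
  have hC := congrArg (fun k : ℕ => (k : ℂ)) hcoset
  push_cast at hC
  rw [Nat.cast_sum] at hrhs
  simp only [Subgroup.coe_mul, SubmonoidClass.coe_pow] at hrhs hC
  rw [hrhs] at hC
  refine mul_left_cancel₀ (Nat.cast_ne_zero.2 (Nat.card_pos (α := N')).ne' : (Nat.card N' : ℂ) ≠ 0) ?_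
  linear_combination hC

/-- The sums over the block at `σ` and `J`. -/
theorem block_sum (hM : IsPModular 2 M) (h : Setting n P σ) {χ₁ : IrrCharacter G}
    (hχ₁ : χ₁ ∈ principalBlock M G) (h1 : (χ₁ : G → ℂ) ≠ (fun _ => 1)) {δ : ℤ} (hδ : δ = 1 ∨ δ = -1)
    (hval : ∀ l : ℕ, 0 < l → l < 2 ^ (n - 1) → (χ₁ : G → ℂ) (σ ^ l) = δ) :
    0 < (charDegree (χ₁ : G → ℂ) : ℤ) + δ ∧
    ((∑ χ ∈ BlockContribBounds.members (principalBlock M G),
        (χ : G → ℂ) (σ ^ 1) * (χ : G → ℂ) (σ ^ 2 ^ (n - 2)) * (χ : G → ℂ) (σ ^ 2 ^ (n - 2)) /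
          (χ : G → ℂ) 1) +
      ∑ χ ∈ BlockContribBounds.members (principalBlock M G),
        (χ : G → ℂ) (σ ^ 2 ^ (n - 2)) * (χ : G → ℂ) (σ ^ 2 ^ (n - 2)) * (χ : G → ℂ) (σ ^ 2 ^ (n - 2)) /
          (χ : G → ℂ) 1) *
      ((charDegree (χ₁ : G → ℂ) : ℂ) * ((charDegree (χ₁ : G → ℂ) : ℂ) + δ)) =
      2 * ((charDegree (χ₁ : G → ℂ) : ℂ) - δ) ^ 2 := by
  haveI : Fact (Nat.Prime 2) := ⟨Nat.prime_two⟩
  haveI : NeZero (2 ^ (n - 1)) := ⟨(Nat.two_pow_pos _).ne'⟩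
  set ζ := Complex.exp (2 * Real.pi * Complex.I / (2 ^ (n - 1) : ℕ)) with hζdef
  have hζ : IsPrimitiveRoot ζ (2 ^ (n - 1)) := Complex.isPrimitiveRoot_exp _ (Nat.two_pow_pos _).ne'
  obtain ⟨-, A, B, C, χ', d₁, d₂, d₃, hd₁, hd₂, hd₃, hinj, hA1, hB1, hC1, hAB, hAC, hBC, hd, hset,
    hvals, hreg⟩ := DihedralBlockMain79.main hM h hζ
  have hm2 := two_pow_eq h
  have hn := h.hn
  have h4 := four_le h
  have hev : Even (2 ^ (n - 2)) := Nat.even_pow.2 ⟨even_two, by omega⟩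
  have hJlt : 2 ^ (n - 2) < 2 ^ (n - 1) := by omega
  have hneg : ζ ^ 2 ^ (n - 2) = -1 :=
    (hζ.pow (Nat.two_pow_pos _) (show 2 ^ (n - 1) = 2 ^ (n - 2) * 2 by omega)).eq_neg_one_of_two_right
  have hsq : ∀ j, (χ' j : G → ℂ) (σ ^ 2 ^ (n - 2)) * (χ' j : G → ℂ) (σ ^ 2 ^ (n - 2)) = 4 := by
    intro j
    rw [(hvals _ (Nat.two_pow_pos _) hJlt).2.2.2 j, mul_comm ((j : ℕ) + 1), pow_mul, hneg]
    rcases neg_one_pow_eq_or ℂ ((j : ℕ) + 1) with e | e <;> rcases hd₁ with e' | e' <;> rw [e, e'] <;>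
      norm_num
  have heq : χ₁ = A ∧ δ = d₁ := by
    have hmem := hset ▸ hχ₁
    rw [Set.mem_setOf_eq] at hmem
    rcases hmem with e | rfl | rfl | rfl | ⟨j, rfl⟩
    · exact absurd e h1
    · refine ⟨rfl, ?_⟩
      have := (hval 1 one_pos (by omega)).symm.trans (hvals 1 one_pos (by omega)).1
      exact_mod_cast this
    · exfalso
      have e1 := (hval 1 one_pos (by omega)).symm.trans (hvals 1 one_pos (by omega)).2.1
      have e2 := (hval 2 two_pos (by omega)).symm.trans (hvals 2 two_pos (by omega)).2.1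
      rcases hd₂ with e | e <;> rcases hδ with e' | e' <;> rw [e, e'] at e1 e2 <;>
        revert e1 e2 <;> norm_num
    · exfalso
      have e1 := (hval 1 one_pos (by omega)).symm.trans (hvals 1 one_pos (by omega)).2.2.1
      have e2 := (hval 2 two_pos (by omega)).symm.trans (hvals 2 two_pos (by omega)).2.2.1
      rcases hd₃ with e | e <;> rcases hδ with e' | e' <;> rw [e, e'] at e1 e2 <;>
        revert e1 e2 <;> norm_num
    · exfalso
      have := hsq j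
      rw [hval _ (Nat.two_pow_pos _) hJlt] at this
      rcases hδ with e | e <;> rw [e] at this <;> norm_num at this
  obtain ⟨rfl, rfl⟩ := heq
  set x : ℂ := (charDegree (χ₁ : G → ℂ) : ℂ) with hx
  have hxA : (χ₁ : G → ℂ) 1 = x := CharAverage.irr_apply_one χ₁
  have hd2 : (δ : ℂ) * δ = 1 := by rcases hδ with e | e <;> rw [e] <;> norm_num
  have hdeg : ∀ j, (χ' j : G → ℂ) 1 = x + δ := by
    intro j
    have := (hreg 1 (by simp) j).2
    rw [hxA] at this
    linear_combination (-(δ : ℂ)) * this + (x - (χ' j : G → ℂ) 1) * hd2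
  have hk : 0 < 2 ^ (n - 2) - 1 := by
    have : 2 ^ 1 ≤ 2 ^ (n - 2) := Nat.pow_le_pow_right (by norm_num) (by omega)
    omega
  have hpos : 0 < (charDegree (χ₁ : G → ℂ) : ℤ) + δ := by
    have h1 := hdeg ⟨0, hk⟩
    rw [CharAverage.irr_apply_one, hx] at h1
    have h2 : ((charDegree (χ' ⟨0, hk⟩ : G → ℂ) : ℤ)) = (charDegree (χ₁ : G → ℂ) : ℤ) + δ := by
      exact_mod_cast h1
    rw [← h2]
    exact_mod_cast CharAverage.irr_degree_pos _
  refine ⟨hpos, ?_⟩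
  have hsum : ∀ F : IrrCharacter G → ℂ, ∑ χ ∈ BlockContribBounds.members (principalBlock M G), F χ =
      F (BlockPrincipal81.oneChar G) + F χ₁ + F B + F C + ∑ j, F (χ' j) := by
    intro F
    set one := BlockPrincipal81.oneChar G with hone
    have hmem : BlockContribBounds.members (principalBlock M G) =
        insert one (insert χ₁ (insert B (insert C (Finset.univ.image χ')))) := by
      ext y
      rw [BlockContribBounds.mem_members, hset]
      simp only [Set.mem_setOf_eq, Finset.mem_insert, Finset.mem_image, Finset.mem_univ, true_and]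
      constructor
      · rintro (e | e | e | e | ⟨j, e⟩)
        · exact Or.inl (Subtype.ext e)
        · exact Or.inr (Or.inl e)
        · exact Or.inr (Or.inr (Or.inl e))
        · exact Or.inr (Or.inr (Or.inr (Or.inl e)))
        · exact Or.inr (Or.inr (Or.inr (Or.inr ⟨j, e.symm⟩)))
      · rintro (e | e | e | e | ⟨j, e⟩)
        · exact Or.inl (by rw [e]; rfl)
        · exact Or.inr (Or.inl e)
        · exact Or.inr (Or.inr (Or.inl e))
        · exact Or.inr (Or.inr (Or.inr (Or.inl e)))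
        · exact Or.inr (Or.inr (Or.inr (Or.inr ⟨j, e.symm⟩)))
    have hne : ∀ y : IrrCharacter G, (y : G → ℂ) ≠ (fun _ => 1) → one ≠ y :=
      fun y hy e => hy (by rw [← e]; rfl)
    rw [hmem, Finset.sum_insert, Finset.sum_insert, Finset.sum_insert, Finset.sum_insert,
      Finset.sum_image fun i _ j _ e => hinj e]
    · ring
    all_goals simp only [Finset.mem_insert, Finset.mem_image, Finset.mem_univ, true_and, not_or, not_exists]
    · exact fun j => (hd j).2.2.1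
    · exact ⟨hBC, fun j => (hd j).2.1⟩
    · exact ⟨hAB, hAC, fun j => (hd j).1⟩
    · exact ⟨hne _ hA1, hne _ hB1, hne _ hC1, fun j => (hne _ (hd j).2.2.2).symm⟩
  have v1 := hvals 1 one_pos (by omega)
  have vJ := hvals _ (Nat.two_pow_pos _) hJlt
  have hB0 : (B : G → ℂ) (σ ^ 1) + (B : G → ℂ) (σ ^ 2 ^ (n - 2)) = 0 := by
    rw [v1.2.1, vJ.2.1, pow_succ _ (2 ^ (n - 2)), hev.neg_one_pow]; ring
  have hC0 : (C : G → ℂ) (σ ^ 1) + (C : G → ℂ) (σ ^ 2 ^ (n - 2)) = 0 := by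
    rw [v1.2.2.1, vJ.2.2.1, pow_succ _ (2 ^ (n - 2)), hev.neg_one_pow]; ring
  have hone : ∀ g, (BlockPrincipal81.oneChar G : G → ℂ) g = 1 := fun g => rfl
  have hcol : ∀ a, 0 < a → a < 2 ^ (n - 1) →
      ∑ χ ∈ BlockContribBounds.members (principalBlock M G), (χ : G → ℂ) 1 * (χ : G → ℂ) (σ ^ a) = 0 := by
    intro a a0 a1
    obtain ⟨N', hN'n, hN'c, hN'm, -⟩ := complement h a0 a1
    haveI := hN'n
    have := SectionComplement79.column N' hM (pElem h a) hN'c hN'm (y := 1) ⟨0, by simp⟩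
    rw [if_neg (fun hc => pow_ne_one h a0 a1 (isConj_one_right.1 hc))] at this
    rw [← this]
    exact Finset.sum_congr rfl fun χ _ => by rw [DihedralBlock79.apply_real h χ a]
  have hV : (x + δ) * ∑ j, ((χ' j : G → ℂ) (σ ^ 1) + (χ' j : G → ℂ) (σ ^ 2 ^ (n - 2))) =
      -(2 + 2 * δ * x) := by
    have e1 := hcol 1 one_pos (by omega)
    have e2 := hcol _ (Nat.two_pow_pos _) hJlt
    rw [hsum] at e1 e2
    simp only [hdeg, hxA, hone, v1.1, vJ.1, ← Finset.mul_sum] at e1 e2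
    rw [Finset.sum_add_distrib, mul_add]
    linear_combination e1 + e2 - (B : G → ℂ) 1 * hB0 - (C : G → ℂ) 1 * hC0
  have hx0 : x ≠ 0 := by
    rw [hx]; exact Nat.cast_ne_zero.2 (CharAverage.irr_degree_pos χ₁).ne'
  have hx1 : x + δ ≠ 0 := by
    rw [hx]; exact_mod_cast hpos.ne'
  have hterm : ∀ j, (χ' j : G → ℂ) (σ ^ 1) * (χ' j : G → ℂ) (σ ^ 2 ^ (n - 2)) *
        (χ' j : G → ℂ) (σ ^ 2 ^ (n - 2)) / (χ' j : G → ℂ) 1 +
      (χ' j : G → ℂ) (σ ^ 2 ^ (n - 2)) * (χ' j : G → ℂ) (σ ^ 2 ^ (n - 2)) *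
        (χ' j : G → ℂ) (σ ^ 2 ^ (n - 2)) / (χ' j : G → ℂ) 1 =
      4 / (x + δ) * ((χ' j : G → ℂ) (σ ^ 1) + (χ' j : G → ℂ) (σ ^ 2 ^ (n - 2))) := by
    intro j
    rw [hdeg, mul_assoc, hsq]
    ring
  have hzero : ∀ D : IrrCharacter G, (D : G → ℂ) (σ ^ 1) + (D : G → ℂ) (σ ^ 2 ^ (n - 2)) = 0 →
      (D : G → ℂ) (σ ^ 1) * (D : G → ℂ) (σ ^ 2 ^ (n - 2)) * (D : G → ℂ) (σ ^ 2 ^ (n - 2)) /
          (D : G → ℂ) 1 +
        (D : G → ℂ) (σ ^ 2 ^ (n - 2)) * (D : G → ℂ) (σ ^ 2 ^ (n - 2)) * (D : G → ℂ) (σ ^ 2 ^ (n - 2)) /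
          (D : G → ℂ) 1 = 0 := fun D e => by
    rw [← add_div, ← add_mul, ← add_mul, e, zero_mul, zero_mul, zero_div]
  have hV' : ∑ j, ((χ' j : G → ℂ) (σ ^ 1) + (χ' j : G → ℂ) (σ ^ 2 ^ (n - 2))) = -2 * (δ : ℂ) :=
    mul_left_cancel₀ hx1 (by linear_combination hV + 2 * hd2)
  rw [← Finset.sum_add_distrib, hsum, hzero B hB0, hzero C hC0, Finset.sum_congr rfl fun j _ => hterm j,
    ← Finset.mul_sum, hone, hone, hone, v1.1, vJ.1, hxA]
  field_simp
  simp only [pow_one] at hV' ⊢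
  linear_combination (4 * x) * hV' + (2 * (δ : ℂ) * (x + δ)) * hd2

theorem main (hM : IsPModular 2 M) (hn : 3 ≤ n) (hσ : σ ∈ (P : Subgroup G)) (hτ : τ ∈ (P : Subgroup G))
    (hσo : orderOf σ = 2 ^ (n - 1)) (hτo : orderOf τ = 2) (hrel : τ * σ * τ⁻¹ = σ⁻¹)
    (hgen : Subgroup.closure ({σ, τ} : Set G) = (P : Subgroup G))
    (hconj : IsConj (σ ^ (2 ^ (n - 2))) τ ∧ IsConj (σ ^ (2 ^ (n - 2))) (σ * τ)) {χ₁ : IrrCharacter G}
    (hχ₁ : χ₁ ∈ principalBlock M G) (h1 : (χ₁ : G → ℂ) ≠ (fun _ => 1)) {δ : ℤ} (hδ : δ = 1 ∨ δ = -1)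
    (hval : ∀ l : ℕ, 0 < l → l < 2 ^ (n - 1) → (χ₁ : G → ℂ) (σ ^ l) = δ) :
    (charDegree (χ₁ : G → ℂ) : ℤ) ≠ δ ∧
      (Nat.card G : ℚ) * ((charDegree (χ₁ : G → ℂ) : ℚ) - δ) ^ 2 =
      2 * (charDegree (χ₁ : G → ℂ) : ℚ) * ((charDegree (χ₁ : G → ℂ) : ℚ) + δ) *
        (Nat.card (Subgroup.centralizer ({σ ^ (2 ^ (n - 2))} : Set G)) : ℚ) ^ 3 *
        (1 / (Nat.card (Subgroup.centralizer ({σ ^ (2 ^ (n - 2)), τ} : Set G)) : ℚ) +
          1 / (Nat.card (Subgroup.centralizer ({σ ^ (2 ^ (n - 2)), σ * τ} : Set G)) : ℚ)) ^ 2 := by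
  haveI : Fact (Nat.Prime 2) := ⟨Nat.prime_two⟩
  have h : Setting n P σ := setting_of_gen hn hσ hσo hτo hrel hgen
  have hm2 := two_pow_eq h
  have h4 := four_le h
  have hev : Even (2 ^ (n - 2)) := Nat.even_pow.2 ⟨even_two, by omega⟩
  have hall : ∀ w : G, IsConj (σ ^ 2 ^ (n - 2)) w ↔ orderOf w = 2 := fun w =>
    isConj_of_order_two h hτ hτo hrel hconj
  obtain ⟨N, hNn, hNc, hNm, hNi⟩ := complement h (Nat.two_pow_pos (n - 2)) (by omega)
  rw [if_pos rfl] at hNi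
  haveI := hNn
  have hsC : σ ∈ Subgroup.centralizer ({(σ ^ 2 ^ (n - 2))} : Set G) :=
    Subgroup.mem_centralizer_singleton_iff.2 (Commute.self_pow σ _).eq
  have hJi : (σ ^ 2 ^ (n - 2))⁻¹ = (σ ^ 2 ^ (n - 2)) := inv_eq_of_mul_eq_one_right (DihedralPairs79.mul_self_of_two (orderOf_J h))
  have htC : τ ∈ Subgroup.centralizer ({(σ ^ 2 ^ (n - 2))} : Set G) := by
    refine Subgroup.mem_centralizer_singleton_iff.2 (mul_inv_eq_iff_eq_mul.1 ?_)
    rw [← conj_pow, hrel, inv_pow, hJi]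
  set s : Subgroup.centralizer ({(σ ^ 2 ^ (n - 2))} : Set G) := ⟨σ, hsC⟩ with hs
  set t : Subgroup.centralizer ({(σ ^ 2 ^ (n - 2))} : Set G) := ⟨τ, htC⟩ with ht
  have H : Quot N (2 ^ (n - 2)) s t := by
    refine ⟨by omega, by rw [hs, Subgroup.orderOf_mk, hσo, hm2],
      Subtype.ext (DihedralPairs79.mul_self_of_two hτo), Subtype.ext hrel, fun c => Subtype.ext ?_,
      hNc, hNm, by rw [hNi, hm2]; ring, ⟨n - 1, hm2.symm⟩⟩
    rw [Subgroup.coe_mul, Subgroup.coe_mul, SubmonoidClass.coe_pow, hs]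
    exact Subgroup.mem_centralizer_singleton_iff.1 c.2
  have e1 := coset_value hM h hall N (s := s) rfl H one_pos (by omega : 1 < 2 ^ (n - 1)) (one_mul _)
  have eh := coset_value hM h hall N (s := s) rfl H (Nat.two_pow_pos (n - 2))
    (by omega : 2 ^ (n - 2) < 2 ^ (n - 1)) (mul_one _)
  rw [pow_one s] at e1
  obtain ⟨hpos, hS⟩ := block_sum hM h hχ₁ h1 hδ hval
  have hpairs := DihedralPairs79.pairCount_add H hev
  have hcent : ∀ (r : G) (hr : r ∈ Subgroup.centralizer ({(σ ^ 2 ^ (n - 2))} : Set G)),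
      Nat.card (Subgroup.centralizer ({(⟨r, hr⟩ : Subgroup.centralizer ({(σ ^ 2 ^ (n - 2))} : Set G))} :
        Set (Subgroup.centralizer ({(σ ^ 2 ^ (n - 2))} : Set G)))) =
      Nat.card (Subgroup.centralizer ({(σ ^ 2 ^ (n - 2)), r} : Set G)) := by
    intro r hr
    refine Nat.card_congr ⟨fun y => ⟨((y : Subgroup.centralizer ({(σ ^ 2 ^ (n - 2))} : Set G)) : G), ?_⟩,
      fun y => ⟨⟨y, ?_⟩, ?_⟩, fun y => rfl, fun y => rfl⟩
    · rw [Subgroup.mem_centralizer_iff]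
      rintro g (rfl | rfl)
      · exact (Subgroup.mem_centralizer_singleton_iff.1 (y : Subgroup.centralizer ({(σ ^ 2 ^ (n - 2))} : Set G)).2).symm
      · exact (congrArg Subtype.val (Subgroup.mem_centralizer_singleton_iff.1 y.2)).symm
    · exact Subgroup.mem_centralizer_singleton_iff.2
        (Subgroup.mem_centralizer_iff.1 y.2 (σ ^ 2 ^ (n - 2)) (Set.mem_insert _ _)).symm
    · exact Subgroup.mem_centralizer_singleton_iff.2 (Subtype.ext
        (Subgroup.mem_centralizer_iff.1 y.2 r (Set.mem_insert_of_mem _ rfl)).symm)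
  have hcount : ∀ i, invCount ((t * s ^ i : Subgroup.centralizer ({(σ ^ 2 ^ (n - 2))} : Set G)) : _ ⧸ N) *
      Nat.card (Subgroup.centralizer ({(σ ^ 2 ^ (n - 2)), τ * σ ^ i} : Set G)) = 4 * Nat.card N := by
    intro i
    have hnot : t * s ^ i ∉ N := fun hm => DihedralPairs79.refl_ne_rot H i 0 (by
      rw [pow_zero, (QuotientGroup.eq_one_iff _).2 hm, QuotientGroup.mk_one])
    rw [← DihedralPairs79.invCount_mul_card H (DihedralPairs79.refl_sq H i) hnot, ← mul_assoc,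
      mul_comm 4, mul_assoc, ← DihedralPairs79.card_centralizer_refl H i]
    congr 1
    rw [← hcent _ (mul_mem htC (pow_mem hsC i))]
    rfl
  have hA := hcount 0
  rw [pow_zero, pow_zero, mul_one, mul_one] at hA
  have hB := hcount (2 ^ (n - 1) - 1)
  have hodd : ¬ Even (2 ^ (n - 1) - 1) := by
    rw [Nat.even_sub (by omega)]
    simp [hm2]
  rw [DihedralPairs79.invCount_refl H, if_neg hodd] at hB
  have hts : τ * σ ^ (2 ^ (n - 1) - 1) = σ * τ := by
    have h5 : τ * σ⁻¹ = σ * τ := by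
      have : τ⁻¹ = τ := inv_eq_of_mul_eq_one_right (DihedralPairs79.mul_self_of_two hτo)
      rw [← hrel]
      calc τ * (τ * σ * τ⁻¹) = τ * τ * σ * τ⁻¹ := by group
        _ = σ * τ := by rw [DihedralPairs79.mul_self_of_two hτo, one_mul, this]
    rw [DihedralRotations79.pow_sub h (by omega), pow_one, h5]
  rw [hts] at hB
  have hc : Nat.card (Subgroup.centralizer ({(σ ^ 2 ^ (n - 2))} : Set G)) = 4 * 2 ^ (n - 2) * Nat.card N := by
    rw [← H.index, mul_comm, Subgroup.card_mul_index]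
  set x := charDegree (χ₁ : G → ℂ) with hx
  set c := Nat.card (Subgroup.centralizer ({(σ ^ 2 ^ (n - 2))} : Set G)) with hcdef
  set cA := Nat.card (Subgroup.centralizer ({(σ ^ 2 ^ (n - 2)), τ} : Set G)) with hcA
  set cB := Nat.card (Subgroup.centralizer ({(σ ^ 2 ^ (n - 2)), σ * τ} : Set G)) with hcB
  set IA := invCount (t : _ ⧸ N) with hIA
  set IB := invCount ((t * s : Subgroup.centralizer ({(σ ^ 2 ^ (n - 2))} : Set G)) : _ ⧸ N) with hIB
  have hP := congrArg (fun k : ℕ => (k : ℂ)) hpairs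
  push_cast at hP
  have key : ((((c ^ 2 * 2 ^ (n - 2) * (IA + IB) ^ 2 * x : ℕ) : ℚ) * ((x : ℚ) + δ) : ℚ) : ℂ) =
      ((2 * (Nat.card N : ℚ) * (Nat.card G : ℚ) * ((x : ℚ) - δ) ^ 2 : ℚ) : ℂ) := by
    push_cast
    linear_combination ((x : ℂ) * ((x : ℂ) + δ)) * (e1 + eh) + (Nat.card N : ℂ) * (Nat.card G : ℂ) * hS -
      (c : ℂ) ^ 2 * (x : ℂ) * ((x : ℂ) + δ) * hP
  have key' := Rat.cast_injective key
  push_cast at key'
  have qN : (0 : ℚ) < Nat.card N := Nat.cast_pos.2 Nat.card_pos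
  have qA : (0 : ℚ) < cA := Nat.cast_pos.2 Nat.card_pos
  have qB : (0 : ℚ) < cB := Nat.cast_pos.2 Nat.card_pos
  have qG : (0 : ℚ) < (Nat.card G : ℚ) := Nat.cast_pos.2 Nat.card_pos
  have qx : (0 : ℚ) < x := Nat.cast_pos.2 (CharAverage.irr_degree_pos χ₁)
  have qd : (0 : ℚ) < (x : ℚ) + δ := by exact_mod_cast hpos
  have qc : (0 : ℚ) < c := Nat.cast_pos.2 Nat.card_pos
  have eA : (IA : ℚ) = 4 * Nat.card N / cA := by
    rw [eq_div_iff qA.ne']; exact_mod_cast hA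
  have eB : (IB : ℚ) = 4 * Nat.card N / cB := by
    rw [eq_div_iff qB.ne']; exact_mod_cast hB
  have ec : (c : ℚ) = 4 * 2 ^ (n - 2) * Nat.card N := by exact_mod_cast hc
  have final : (Nat.card G : ℚ) * ((x : ℚ) - δ) ^ 2 = 2 * (x : ℚ) * ((x : ℚ) + δ) * (c : ℚ) ^ 3 *
      (1 / (cA : ℚ) + 1 / (cB : ℚ)) ^ 2 := by
    rw [eA, eB] at key'
    refine mul_left_cancel₀ (mul_ne_zero two_ne_zero qN.ne') ?_
    rw [pow_succ (c : ℚ) 2]
    nth_rewrite 2 [ec]
    linear_combination -key'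
  refine ⟨fun e => ?_, final⟩
  rw [show (x : ℚ) = δ by exact_mod_cast e, sub_self] at final
  have h2 : (0 : ℚ) < 2 * (x : ℚ) * ((x : ℚ) + δ) * (c : ℚ) ^ 3 * (1 / (cA : ℚ) + 1 / (cB : ℚ)) ^ 2 :=
    mul_pos (mul_pos (mul_pos (mul_pos two_pos qx) qd) (pow_pos qc 3))
      (pow_pos (add_pos (one_div_pos.2 qA) (one_div_pos.2 qB)) 2)
  rw [show (x : ℚ) = δ by exact_mod_cast e, ← final] at h2
  simp at h2

end Cfsg.Agent.DihedralOrder79
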