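import Mathlib
import Cfsg.Agent.Lib.CentFour75Fusion
import Cfsg.Agent.Lib.DihedralOrder79
import Cfsg.Agent.Lib.DihedralBlockMain79
import Cfsg.Agent.Lib.KleinFourBlock79
import Cfsg.Agent.Lib.KleinFourOrder79
import Cfsg.Agent.Lib.ZStarCount

/-!
The principal 2-block equations of a group with a self-centralising element of order four.
-/

set_option autoImplicit false
set_option linter.style.haveILetI false
set_option linter.unusedSectionVars false

open scoped ComplexConjugate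

namespace Cfsg.Agent.CentFour75

open Subgroup Cfsg Cfsg.Agent.DihedralClassSums79 Cfsg.Agent.CharBasic Cfsg.Agent.CharBasicOrth

universe u

variable {G : Type u} [Group G] {w τ : G}

theorem Hyp.order_four_mul (h : Hyp w τ) [Finite G] {a : G} (ha : orderOf a = 2)
    (haw : orderOf (a * w) = 2) : a * τ ∈ zpowers w := by
  have h1 : a * a = 1 := by rw [← pow_two, ← ha, pow_orderOf_eq_one]
  have h2 : a * w * (a * w) = 1 := by rw [← pow_two, ← haw, pow_orderOf_eq_one]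
  have h3 : a * w * a = w⁻¹ := eq_inv_of_mul_eq_one_left (by rw [mul_assoc]; exact h2)
  refine h.cent_w ?_
  show _ = _
  calc a * τ * w = a * (τ * w) := mul_assoc _ _ _
    _ = a * (w⁻¹ * τ) := by rw [h.tau_w]
    _ = a * (a * w * a) * τ := by rw [h3, mul_assoc]
    _ = a * a * w * (a * τ) := by group
    _ = w * (a * τ) := by rw [h1, one_mul]

theorem Hyp.zpow_tau_order (h : Hyp w τ) [Finite G] {x : G} (hx : x ∈ zpowers w) :
    orderOf (x * τ) = 2 := by
  obtain ⟨l, rfl⟩ := mem_zpowers_iff.1 hx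
  refine orderOf_eq_prime ?_ ?_
  · have h1 : τ * w ^ l * τ⁻¹ = (w ^ l)⁻¹ := by rw [← conj_zpow, h.rel, inv_zpow]
    rw [pow_two]
    calc w ^ l * τ * (w ^ l * τ) = w ^ l * (τ * w ^ l * τ⁻¹) * (τ * τ) := by group
      _ = 1 := by rw [h1, h.tau_mul_self, mul_one, mul_inv_cancel]
  · intro e
    exact h.tau_notMem (by rw [eq_inv_of_mul_eq_one_right e]; exact inv_mem (zpow_mem (mem_zpowers w) l))

theorem Hyp.is_conj_iff (h : Hyp w τ) (x : G) : IsConj (w ^ 2) x ↔ orderOf x = 2 := by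
  refine ⟨fun hc => ?_, h.all x⟩
  obtain ⟨d, rfl⟩ := isConj_iff.1 hc
  rw [show d * w ^ 2 * d⁻¹ = MulAut.conj d (w ^ 2) by simp, MulEquiv.orderOf_eq, h.t_order]

/-- The degree equations of the principal block. -/
theorem Hyp.block_equations (h : Hyp w τ) [Finite G] :
    ∃ (x : ℕ) (δ Y Z : ℤ), 0 < x ∧ (δ = 1 ∨ δ = -1) ∧ (x : ℤ) ≠ δ ∧ Y ≠ 0 ∧ Z ≠ 0 ∧
      1 + δ * x + Y + Z = 0 ∧
      (Nat.card G : ℤ) * ((x : ℤ) - δ) ^ 2 = 64 * (Nat.card (uPart w τ) : ℤ) *
        (Nat.card (uPart w (w * τ)) : ℤ) *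
        ((Nat.card (uPart w τ) : ℤ) + (Nat.card (uPart w (w * τ)) : ℤ)) ^ 2 *
        ((x : ℤ) * ((x : ℤ) + δ)) ∧
      (Nat.card G : ℤ) * ((δ * x + 1) * (Y + 1) * (Z + 1)) =
        256 * (Nat.card (uPart w τ) : ℤ) ^ 2 * (Nat.card (uPart w (w * τ)) : ℤ) ^ 2 *
          (δ * x * Y * Z) := by
  classical
  haveI := Fintype.ofFinite G
  obtain ⟨P, h8, hw, hτ, hgen, hs⟩ := h.setting
  obtain ⟨M, hM⟩ := ZStarCount.exists_isPModular 2 Nat.prime_two
  have hζ : IsPrimitiveRoot (Complex.exp (2 * Real.pi * Complex.I / 4)) (2 ^ (3 - 1)) := by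
    simpa using Complex.isPrimitiveRoot_exp 4 (by norm_num)
  obtain ⟨-, χ₁, χ₂, χ₃, χ', δ₁, δ₂, δ₃, e1, e2, e3, -, n1, n2, n3, n12, n13, n23, -, hB, hval, hodd⟩ :=
    DihedralBlockMain79.main hM hs hζ
  obtain ⟨v1, v2, v3, -⟩ := hval 1 one_pos (by norm_num)
  obtain ⟨t1, t2, t3, -⟩ := hval 2 two_pos (by norm_num)
  simp only [pow_one, show (-1 : ℂ) ^ (1 + 1) = 1 by norm_num, mul_one] at v1 v2 v3
  simp only [show (-1 : ℂ) ^ (2 + 1) = -1 by norm_num, mul_neg, mul_one] at t1 t2 t3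
  have hrel : 1 + δ₁ * (charDegree (χ₁ : G → ℂ) : ℤ) =
      -δ₂ * (charDegree (χ₂ : G → ℂ) : ℤ) - δ₃ * (charDegree (χ₃ : G → ℂ) : ℤ) := by
    have := (hodd 1 (by simp) ⟨0, by norm_num⟩).1
    rw [CharAverage.irr_apply_one χ₁, CharAverage.irr_apply_one χ₂, CharAverage.irr_apply_one χ₃] at this
    exact_mod_cast this
  have hχ₁ : χ₁ ∈ principalBlock M G := by rw [hB]; exact Or.inr (Or.inl rfl)
  obtain ⟨hne, hord⟩ := DihedralOrder79.main hM le_rfl hw hτ (by rw [h.ord]; rfl) h.tau h.rel hgen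
    (show IsConj (w ^ (2 ^ (3 - 2))) τ ∧ IsConj (w ^ (2 ^ (3 - 2))) (w * τ) by
      rw [show (2 : ℕ) ^ (3 - 2) = 2 by norm_num]
      exact ⟨h.all _ h.tau, h.all _ h.swap.tau⟩) hχ₁ n1 e1
    (fun l hl hl' => (hval l hl hl').1)
  simp only [show (2 : ℕ) ^ (3 - 2) = 2 by norm_num] at hord
  rw [h.card_cent, h.card_core, h.card_pair, h.swap.card_pair] at hord
  set u := Nat.card (uPart w τ) with hu
  set v := Nat.card (uPart w (w * τ)) with hv
  have hu0 : 0 < u := Nat.card_pos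
  have hv0 : 0 < v := Nat.card_pos
  set o := BlockPrincipal81.oneChar G with ho
  have hone : ∀ g : G, (o : G → ℂ) g = 1 := fun _ => rfl
  have d1 : χ₁ ≠ o := fun e => n1 (by rw [e]; rfl)
  have d2 : χ₂ ≠ o := fun e => n2 (by rw [e]; rfl)
  have d3 : χ₃ ≠ o := fun e => n3 (by rw [e]; rfl)
  set S : Finset (IrrCharacter G) := {o, χ₁, χ₂, χ₃} with hS
  have hsum : ∀ f : IrrCharacter G → ℂ, ∑ χ ∈ S, f χ = f o + (f χ₁ + (f χ₂ + f χ₃)) := by
    intro f
    rw [hS, Finset.sum_insert (by simp [Ne.symm d1, Ne.symm d2, Ne.symm d3]),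
      Finset.sum_insert (by simp [n12, n13]), Finset.sum_pair n23]
  -- the other characters vanish on `w`
  have hvan : ∀ χ, χ ∉ S → (χ : G → ℂ) w = 0 := by
    intro χ hχ
    have hcol := sum_irr_mul_conj w w
    rw [if_pos (IsConj.refl w), h.cent, ← Finset.sum_add_sum_compl S, hsum] at hcol
    have hnorm : ∀ {d : ℤ}, (d = 1 ∨ d = -1) → (d : ℂ) * conj (d : ℂ) = 1 := by
      rintro d (rfl | rfl) <;> simp
    rw [hone, v1, v2, v3, hnorm e1, hnorm e2, hnorm e3, map_one, mul_one,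
      show (1 : ℂ) + (1 + (1 + 1)) = ((4 : ℕ) : ℂ) by norm_num, add_eq_left] at hcol
    simp only [Complex.mul_conj] at hcol
    have h0 : ∑ χ ∈ Sᶜ, Complex.normSq ((χ : G → ℂ) w) = 0 := by exact_mod_cast hcol
    exact Complex.normSq_eq_zero.1 ((Finset.sum_eq_zero_iff_of_nonneg
      (fun i _ => Complex.normSq_nonneg _)).1 h0 χ (Finset.mem_compl.2 hχ))
  -- pairs of involutions with product `w`
  have hcount : prodCount (w ^ 2) w = (8 * (u * v)) ^ 2 * 4 := by
    rw [prodCount_eq h.is_conj_iff, h.card_cent, h.card_core, ← hu, ← hv]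
    congr 1
    rw [← h.ord, ← Nat.card_zpowers, Nat.card_eq_fintype_card, ← Finset.card_univ]
    refine Finset.card_bij (fun a ha => ⟨a * τ, h.order_four_mul (Finset.mem_filter.1 ha).2.1
      (Finset.mem_filter.1 ha).2.2⟩) (fun _ _ => Finset.mem_univ _)
      (fun a _ b _ e => mul_right_cancel (congrArg Subtype.val e)) ?_
    rintro ⟨x, hx⟩ -
    refine ⟨x * τ, Finset.mem_filter.2 ⟨Finset.mem_univ _, h.zpow_tau_order hx, ?_⟩,
      Subtype.ext (by simp [mul_assoc, h.tau_mul_self])⟩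
    rw [show x * τ * w = x * w⁻¹ * τ by rw [mul_assoc, h.tau_w, mul_assoc]]
    exact h.zpow_tau_order (mul_mem hx (inv_mem (mem_zpowers w)))
  have hT : IsClassFunction G (fun z => (prodCount (w ^ 2) z : ℂ)) := fun g d => by
    simp only [prodCount_conj]
  have hexp := congrFun (eq_sum_classInner hT) w
  simp only [Finset.sum_apply, Pi.smul_apply, smul_eq_mul, classInner_prodCount h.t_mul_self] at hexp
  rw [← Finset.sum_subset (Finset.subset_univ S) (fun χ _ hχ => by rw [hvan χ hχ, mul_zero]),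
    hsum, hone, hone, hone, v1, v2, v3, t1, t2, t3, hcount, CharAverage.irr_apply_one χ₁,
    CharAverage.irr_apply_one χ₂, CharAverage.irr_apply_one χ₃] at hexp
  have p1 := CharAverage.irr_degree_pos χ₁
  have p2 := CharAverage.irr_degree_pos χ₂
  have p3 := CharAverage.irr_degree_pos χ₃
  refine ⟨charDegree (χ₁ : G → ℂ), δ₁, δ₂ * (charDegree (χ₂ : G → ℂ) : ℤ),
    δ₃ * (charDegree (χ₃ : G → ℂ) : ℤ), p1, e1, hne, ?_, ?_, by linarith, ?_, ?_⟩
  · exact mul_ne_zero (by rcases e2 with rfl | rfl <;> decide) (by omega)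
  · exact mul_ne_zero (by rcases e3 with rfl | rfl <;> decide) (by omega)
  · have hq : (Nat.card G : ℚ) * ((charDegree (χ₁ : G → ℂ) : ℚ) - δ₁) ^ 2 = 64 * (u : ℚ) * (v : ℚ) *
        ((u : ℚ) + v) ^ 2 * ((charDegree (χ₁ : G → ℂ) : ℚ) * ((charDegree (χ₁ : G → ℂ) : ℚ) + δ₁)) := by
      have hu1 : (u : ℚ) ≠ 0 := by exact_mod_cast hu0.ne'
      have hv1 : (v : ℚ) ≠ 0 := by exact_mod_cast hv0.ne'
      rw [hord]
      push_cast
      field_simp
      ring
    exact_mod_cast hq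
  · have hc : (Nat.card G : ℂ) * ((δ₁ * (charDegree (χ₁ : G → ℂ)) + 1) *
        (δ₂ * (charDegree (χ₂ : G → ℂ)) + 1) * (δ₃ * (charDegree (χ₃ : G → ℂ)) + 1)) =
        256 * (u : ℂ) ^ 2 * (v : ℂ) ^ 2 * (δ₁ * (charDegree (χ₁ : G → ℂ)) *
          (δ₂ * (charDegree (χ₂ : G → ℂ))) * (δ₃ * (charDegree (χ₃ : G → ℂ)))) := by
      have hr : (1 : ℂ) + δ₁ * (charDegree (χ₁ : G → ℂ)) + δ₂ * (charDegree (χ₂ : G → ℂ)) +
          δ₃ * (charDegree (χ₃ : G → ℂ)) = 0 := by
        have := congrArg (fun z : ℤ => (z : ℂ)) hrel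
        push_cast at this
        linear_combination this
      have q1 : (charDegree (χ₁ : G → ℂ) : ℂ) ≠ 0 := Nat.cast_ne_zero.2 p1.ne'
      have q2 : (charDegree (χ₂ : G → ℂ) : ℂ) ≠ 0 := Nat.cast_ne_zero.2 p2.ne'
      have q3 : (charDegree (χ₃ : G → ℂ) : ℂ) ≠ 0 := Nat.cast_ne_zero.2 p3.ne'
      generalize (charDegree (χ₁ : G → ℂ) : ℂ) = a at *
      generalize (charDegree (χ₂ : G → ℂ) : ℂ) = b at *
      generalize (charDegree (χ₃ : G → ℂ) : ℂ) = c at *
      push_cast at hexp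
      field_simp at hexp
      rcases e1 with rfl | rfl <;> rcases e2 with rfl | rfl <;> rcases e3 with rfl | rfl <;>
        push_cast at hexp hr ⊢ <;>
        first
        | linear_combination (Nat.card G : ℂ) * hr + hexp
        | linear_combination (Nat.card G : ℂ) * hr - hexp
        | linear_combination -(Nat.card G : ℂ) * hr + hexp
        | linear_combination -(Nat.card G : ℂ) * hr - hexp
    exact_mod_cast hc

/-- The order formula for the centraliser of `uPart`. -/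
theorem Hyp.hSub_equation (h : Hyp w τ) [Finite G] (hU : uPart w τ ≠ ⊥) :
    ∃ a b c ε : ℤ, 0 < a ∧ 0 < b ∧ 0 < c ∧ (ε = 1 ∨ ε = -1) ∧ 1 + a + ε * b - c = 0 ∧
      (Nat.card (hSub w τ) : ℤ) * ((a + 1) * (b + ε) * (c - 1)) =
        32 * ((Nat.card (uPart w τ) : ℤ) * (Nat.card (uPart w (w * τ)) : ℤ) ^ 3) * (a * b * c) := by
  classical
  haveI := Fintype.ofFinite G
  haveI := Fintype.ofFinite (hSub w τ)
  obtain ⟨M, hM⟩ := ZStarCount.exists_isPModular 2 Nat.prime_two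
  obtain ⟨V, hV, hV4, hexp⟩ := h.exists_sylow_hSub hU
  set J : hSub w τ := ⟨w ^ 2, h.fourFun_mem_hSub 1⟩ with hJd
  have hJ : J ∈ (V : Subgroup (hSub w τ)) := by
    rw [hV, mem_subgroupOf, h.mem_fourSub]; exact ⟨1, rfl⟩
  have hJ2 : orderOf J = 2 := by rw [← Subgroup.orderOf_coe]; exact h.t_order
  have hone := h.one_class hU
  obtain ⟨ζ₂, ζ₃, ζ₄, ε, hε, n2, n3, n23, n24, n34, hB, hv, -, -, -, hcol⟩ :=
    KleinFourBlock79.main hM hV4 hexp hJ hJ2 hone
  obtain ⟨v2, v3, v4⟩ := hv J hJ2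
  have n4 : (ζ₄ : hSub w τ → ℂ) ≠ (fun _ => 1) := fun e => by
    rw [e] at v4; norm_num at v4
  obtain ⟨hrel, hord⟩ := KleinFourOrder79.relations (ε₁ := 1) (ε₂ := ε) (ε₃ := -1) hM hV4 hexp hJ hJ2
    hone hB ⟨n2, n3, n4, n23, n24, n34⟩ ⟨Or.inl rfl, hε, Or.inr rfl⟩
    ⟨by exact_mod_cast v2, v3, by exact_mod_cast v4⟩
  have hcJ : Nat.card (centralizer ({J} : Set (hSub w τ))) =
      4 * (Nat.card (uPart w τ) * Nat.card (uPart w (w * τ))) := by
    rw [← h.card_core, ← h.card_cent_hSub hU,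
      Nat.card_congr (equivMapOfInjective _ _ (subtype_injective (hSub w τ))).toEquiv]
    congr 2
    ext x
    constructor
    · rintro ⟨y, hy, rfl⟩
      exact ⟨mem_centralizer_singleton_iff.2
        (congrArg Subtype.val (mem_centralizer_singleton_iff.1 hy)), y.2⟩
    · rintro ⟨hx1, hx2⟩
      exact ⟨⟨x, hx2⟩, mem_centralizer_singleton_iff.2
        (Subtype.ext (mem_centralizer_singleton_iff.1 hx1)), rfl⟩
  have hcP : Nat.card (centralizer ((V : Subgroup (hSub w τ)) : Set (hSub w τ))) =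
      4 * Nat.card (uPart w τ) := by
    rw [← h.card_pair, Nat.card_congr (equivMapOfInjective _ _ (subtype_injective (hSub w τ))).toEquiv]
    congr 2
    ext x
    simp only [mem_centralizer_iff, Set.mem_insert_iff, Set.mem_singleton_iff, forall_eq_or_imp,
      forall_eq, Subgroup.mem_map]
    constructor
    · rintro ⟨y, hy, rfl⟩
      constructor
      · exact congrArg Subtype.val (hy J hJ)
      · exact congrArg Subtype.val (hy ⟨τ, h.fourFun_mem_hSub 2⟩ (by
          rw [SetLike.mem_coe, hV, mem_subgroupOf, h.mem_fourSub]; exact ⟨2, rfl⟩))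
    · rintro ⟨hx1, hx2⟩
      have hxH : x ∈ hSub w τ := by
        obtain ⟨a, ha, e⟩ := h.cent_pair (x := x) hx1.symm hx2.symm
        have hah := h.core_le_hSub (mem_uPart.1 ha).1
        rcases e with rfl | rfl | rfl | rfl
        exacts [hah, mul_mem hah (h.fourFun_mem_hSub 1), mul_mem hah (h.fourFun_mem_hSub 2),
          mul_mem hah (h.fourFun_mem_hSub 3)]
      refine ⟨⟨x, hxH⟩, ?_, rfl⟩
      intro z hz
      rw [SetLike.mem_coe, hV, mem_subgroupOf, h.mem_fourSub] at hz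
      obtain ⟨i, hi⟩ := hz
      refine Subtype.ext ?_
      show (z : G) * x = x * z
      rw [hi]
      have c1 : Commute x (w ^ 2) := hx1.symm
      have c2 : Commute x τ := hx2.symm
      fin_cases i
      exacts [(Commute.one_left x).eq, c1.symm.eq, c2.symm.eq, (c1.mul_right c2).symm.eq]
  rw [hcJ, hcP] at hord
  have p1 := CharAverage.irr_degree_pos ζ₂
  have p2 := CharAverage.irr_degree_pos ζ₃
  have p3 := CharAverage.irr_degree_pos ζ₄
  refine ⟨charDegree (ζ₂ : hSub w τ → ℂ), charDegree (ζ₃ : hSub w τ → ℂ),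
    charDegree (ζ₄ : hSub w τ → ℂ), ε, by exact_mod_cast p1, by exact_mod_cast p2,
    by exact_mod_cast p3, hε, by linarith, ?_⟩
  push_cast at hord
  have hu0 : (Nat.card (uPart w τ) : ℤ) ≠ 0 := by exact_mod_cast Nat.card_pos.ne'
  refine mul_right_cancel₀ (pow_ne_zero 2 hu0) ?_
  refine mul_left_cancel₀ (show (16 : ℤ) ≠ 0 by norm_num) ?_
  linear_combination hord

end Cfsg.Agent.CentFour75
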