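import Mathlib

/-!
An even permutation of order four with one fixed point.
-/

set_option autoImplicit false

namespace Cfsg.Agent.CentFour75

open Equiv

variable {Ω : Type*} [Fintype Ω] [DecidableEq Ω]

/-- An even permutation of order four with one fixed point, twice an odd number of points in
transpositions and a centralising element of odd order moving points has degree at least fifteen. -/
theorem fifteen_le (e r : Perm Ω) (b : Ω) (hb : ∀ q, e q = q ↔ q = b) (he4 : e ^ 4 = 1)
    (hsign : Perm.sign e = 1) (hF : Nat.card {q : Ω // e (e q) = q ∧ q ≠ b} % 4 = 2)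
    (hrc : ∀ q, r (e (e q)) = e (e (r q))) (hodd : Odd (orderOf r))
    (hr : ∀ q, e (e q) = q → r q = q) (hr1 : r ≠ 1) : 15 ≤ Fintype.card Ω := by
  classical
  let P : Ω → Prop := fun q => e (e q) ≠ q
  have hP : ∀ q, P (e q) ↔ P q := fun q =>
    ⟨fun h h' => h (by rw [h']), fun h h' => h (e.injective h')⟩
  have hP' : ∀ q, ¬ P (e q) ↔ ¬ P q := fun q => not_congr (hP q)
  set p := e.subtypePerm hP with hp
  set q₂ : Perm {q // ¬ P q} := Perm.subtypePerm (p := fun q => ¬ P q) e hP' with hq
  have he : p.subtypeCongr q₂ = e := by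
    ext x
    by_cases h : P x <;> simp [h, hp, hq, Perm.subtypePerm_apply]
  have h4 : ∀ x, e (e (e (e x))) = x := fun x => by
    have := Equiv.Perm.ext_iff.1 he4 x
    simpa [pow_succ, Perm.mul_apply] using this
  -- the part moved by the square
  have hp4 : p.cycleType = Multiset.replicate (Multiset.card p.cycleType) 4 := by
    rw [Multiset.eq_replicate]
    refine ⟨rfl, fun n hn => ?_⟩
    have h2 := Perm.two_le_of_mem_cycleType hn
    have hd : n ∣ 4 := by
      refine (Perm.dvd_of_mem_cycleType hn).trans (orderOf_dvd_of_pow_eq_one ?_)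
      rw [hp, Perm.subtypePerm_pow]
      ext x
      simp [Perm.subtypePerm_apply, he4]
    have hn2 : n ≠ 2 := by
      rintro rfl
      obtain ⟨c, τ, hcτ, hdis, hcyc, hc2⟩ := Perm.mem_cycleType_iff.1 hn
      obtain ⟨x, y, hxy, rfl⟩ := Perm.card_support_eq_two.1 hc2
      have h1 : Equiv.swap x y x ≠ x := by simpa using hxy.symm
      have h2' : Equiv.swap x y y ≠ y := by simpa using hxy
      have hτx : τ x = x := (hdis x).resolve_left h1
      have hτy : τ y = y := (hdis y).resolve_left h2'
      have hpx : p x = y := by rw [hcτ, Perm.mul_apply, hτx, Equiv.swap_apply_left]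
      have hpy : p y = x := by rw [hcτ, Perm.mul_apply, hτy, Equiv.swap_apply_right]
      refine x.2 ?_
      have := congrArg Subtype.val hpy
      rw [← hpx] at this
      simpa [hp, Perm.subtypePerm_apply] using this
    obtain ⟨k, hk, rfl⟩ := (Nat.dvd_prime_pow Nat.prime_two).1 (show n ∣ 2 ^ 2 from hd)
    interval_cases k
    · simp at h2
    · simp at hn2
    · rfl
  have hpfix : Fintype.card (Function.fixedPoints p) = 0 := by
    rw [Fintype.card_eq_zero_iff, isEmpty_subtype]
    intro x hx
    refine x.2 ?_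
    have : e x = x := congrArg Subtype.val hx
    rw [this, this]
  have hsp := Perm.sign_of_cycleType_eq_replicate (by norm_num : (0 : ℕ) < 4) hp4
  rw [if_neg (by decide), hpfix, Nat.sub_zero] at hsp
  -- the part fixed by the square
  have hq2 : q₂ ^ 2 = 1 := by
    rw [hq, Perm.subtypePerm_pow]
    ext x
    have := x.2
    simp only [P, not_not] at this
    simp [Perm.subtypePerm_apply, pow_two, Perm.mul_apply, this]
  have hsq := Perm.sign_of_pow_two_eq_one hq2
  have hbP : ¬ P b := fun h => h (by rw [(hb b).2 rfl, (hb b).2 rfl])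
  have hqfix : Fintype.card (Function.fixedPoints q₂) = 1 := by
    rw [Fintype.card_eq_one_iff]
    refine ⟨⟨⟨b, hbP⟩, Subtype.ext ((hb b).2 rfl)⟩, fun y => ?_⟩
    exact Subtype.ext (Subtype.ext ((hb _).1 (congrArg Subtype.val y.2)))
  have hF' : Fintype.card {x // ¬ P x} - 1 = Nat.card {q : Ω // e (e q) = q ∧ q ≠ b} := by
    rw [Nat.card_eq_fintype_card, Fintype.card_subtype, Fintype.card_subtype,
      ← Finset.card_erase_of_mem (show b ∈ Finset.univ.filter (fun x => ¬ P x) by simpa using hbP)]
    congr 1
    ext x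
    simp [P, and_comm]
  rw [hqfix, hF'] at hsq
  have hm : (Nat.card {q : Ω // e (e q) = q ∧ q ≠ b} / 2) % 2 = 1 := by omega
  rw [← he, Perm.sign_subtypeCongr, hsp, hsq, (Nat.odd_iff.2 hm).neg_one_pow] at hsign
  have hcard : Fintype.card {x // P x} = 4 * Multiset.card p.cycleType := by
    have h := p.card_fixedPoints
    rw [hpfix] at h
    have hs : p.cycleType.sum = 4 * Multiset.card p.cycleType := by
      conv_lhs => rw [hp4]
      rw [Multiset.sum_replicate, smul_eq_mul, mul_comm]
    have := p.sum_cycleType_le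
    omega
  set c := Multiset.card p.cycleType with hc
  rw [hcard, Nat.mul_div_cancel_left _ (by norm_num : 0 < 4)] at hsign
  have hco : Odd c := by
    rcases Nat.even_or_odd c with h | h
    · rw [h.neg_one_pow] at hsign
      exact absurd hsign (by decide)
    · exact h
  -- six points moved by the square
  obtain ⟨x, hx⟩ : ∃ x, r x ≠ x := by
    by_contra h
    push Not at h
    exact hr1 (Perm.ext h)
  have hxP : P x := fun h => hx (hr x h)
  have hrP : ∀ i : ℕ, P ((r ^ i) x) := by
    intro i
    induction i with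
    | zero => simpa using hxP
    | succ i ih =>
      rw [pow_succ', Perm.mul_apply]
      intro h
      rw [← hrc] at h
      exact ih (r.injective h)
  have hrc' : ∀ i : ℕ, ∀ q, (r ^ i) (e (e q)) = e (e ((r ^ i) q)) := by
    intro i
    induction i with
    | zero => simp
    | succ i ih => intro q; rw [pow_succ', Perm.mul_apply, ih, hrc, Perm.mul_apply]
  obtain ⟨j, hj⟩ := hodd
  have hroot : ∀ i : ℕ, (r ^ (2 * i)) x = x → (r ^ i) x = x := by
    intro i hi
    have e1 : r ^ i = (r ^ (2 * i)) ^ (j + 1) := by
      rw [← pow_mul, show 2 * i * (j + 1) = i + orderOf r * i by rw [hj]; ring, pow_add, pow_mul r,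
        pow_orderOf_eq_one, one_pow, mul_one]
    rw [e1]
    exact Perm.pow_apply_eq_self_of_apply_eq_self hi (j + 1)
  have hcross : ∀ i k : ℕ, i ≤ k → e (e ((r ^ i) x)) ≠ (r ^ k) x := by
    intro i k hik h
    obtain ⟨d, rfl⟩ := Nat.exists_eq_add_of_le hik
    rw [pow_add, Perm.mul_apply, ← hrc'] at h
    have h' := (r ^ i).injective h
    have h2 : (r ^ (2 * d)) x = x := by
      rw [two_mul, pow_add, Perm.mul_apply, ← h', hrc', ← h']
      exact h4 x
    exact hxP (h'.trans (hroot d h2))
  have hcross' : ∀ i k : ℕ, e (e ((r ^ i) x)) ≠ (r ^ k) x := by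
    intro i k h
    rcases le_total i k with hik | hik
    · exact hcross i k hik h
    · exact hcross k i hik (by rw [← h, h4])
  have h3 : (r ^ 0) x ≠ (r ^ 1) x ∧ (r ^ 0) x ≠ (r ^ 2) x ∧ (r ^ 1) x ≠ (r ^ 2) x := by
    refine ⟨fun h => hx (by simpa using h.symm), fun h => hx ?_, fun h => hx ?_⟩
    · simpa using hroot 1 (by simpa using h.symm)
    · have h' : r ((r ^ 0) x) = r (r x) := by simpa [pow_two, Perm.mul_apply] using h
      simpa using (r.injective h').symm
  let S : Finset Ω := {(r ^ 0) x, (r ^ 1) x, (r ^ 2) x}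
  have hS : S.card = 3 := by
    simp only [S]
    rw [Finset.card_insert_of_notMem (fun h => ?_), Finset.card_pair h3.2.2]
    rw [Finset.mem_insert, Finset.mem_singleton] at h
    exact h.elim h3.1 h3.2.1
  have hS2 : Disjoint S (S.image fun q => e (e q)) := by
    rw [Finset.disjoint_left]
    intro a ha hb'
    obtain ⟨a', ha', rfl⟩ := Finset.mem_image.1 hb'
    obtain ⟨i, rfl⟩ : ∃ i, a' = (r ^ i) x := by
      simp only [S, Finset.mem_insert, Finset.mem_singleton] at ha'
      rcases ha' with h | h | h <;> exact ⟨_, h⟩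
    simp only [S, Finset.mem_insert, Finset.mem_singleton] at ha
    rcases ha with h | h | h <;> exact hcross' _ _ h
  have hsub : S ∪ S.image (fun q => e (e q)) ⊆ Finset.univ.filter P := by
    intro a ha
    refine Finset.mem_filter.2 ⟨Finset.mem_univ _, ?_⟩
    have hSP : ∀ a ∈ S, P a := by
      intro a ha
      simp only [S, Finset.mem_insert, Finset.mem_singleton] at ha
      rcases ha with h | h | h <;> rw [h] <;> exact hrP _
    rcases Finset.mem_union.1 ha with h | h
    · exact hSP a h
    · obtain ⟨a', ha', rfl⟩ := Finset.mem_image.1 h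
      exact (hP _).2 ((hP a').2 (hSP a' ha'))
  have h6 := Finset.card_le_card hsub
  rw [Finset.card_union_of_disjoint hS2, Finset.card_image_of_injective _
    (fun a b h => e.injective (e.injective h)), hS, ← Fintype.card_subtype, hcard] at h6
  have hbpos : 0 < Fintype.card {x // ¬ P x} := Fintype.card_pos_iff.2 ⟨⟨b, hbP⟩⟩
  have hsplit := Fintype.card_congr (Equiv.sumCompl P)
  rw [Fintype.card_sum, hcard] at hsplit
  obtain ⟨c', hc'⟩ := hco
  omega

end Cfsg.Agent.CentFour75
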